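import Cfsg.Statements.S3037


set_option autoImplicit false
open Cfsg

namespace Cfsg.Agent.S3037
open Subgroup

/-- Let V and G be subgroups of a finite group with V an elementary abelian p-group (p prime) on which G acts faithfully and irreducibly by conjugation: G normalizes V, G ∩ C(V) = 1, and the only subgroups of V normalized by G are 1 and V. If for some nontrivial subgroup A of G and some real α > 0 one has |V| ≤ |A|^α · |C_V(A)|, then |V| ≤ |G|^α. -/
theorem result {X : Type*} [Group X] [Finite X] {p : ℕ} [Fact p.Prime] (V G : Subgroup X) (hV : Cfsg.IsElementaryAbelian p V)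
    (hGV : G ≤ Subgroup.normalizer (V : Set X)) (hfaith : G ⊓ Subgroup.centralizer (V : Set X) = ⊥)
    (hirr : ∀ W : Subgroup X, W ≤ V → G ≤ Subgroup.normalizer (W : Set X) → W = ⊥ ∨ W = V)
    (A : Subgroup X) (hA : A ≤ G) (hA1 : A ≠ ⊥) (α : ℝ) (hα : 0 < α)
    (hbig : (Nat.card V : ℝ) ≤ (Nat.card A : ℝ) ^ α * (Nat.card ↥(V ⊓ Subgroup.centralizer (A : Set X)) : ℝ)) :
    (Nat.card V : ℝ) ≤ (Nat.card G : ℝ) ^ α := by
  classical
  let CV : Subgroup X → Subgroup X := fun Y => V ⊓ Subgroup.centralizer (Y : Set X)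
  let f : Subgroup X → ℝ := fun Y => (Nat.card Y : ℝ) ^ α * (Nat.card (CV Y) : ℝ)
  have hcomm : ∀ a ∈ V, ∀ b ∈ V, a * b = b * a := fun a ha b hb =>
    congrArg Subtype.val (hV.1.is_comm.comm ⟨a, ha⟩ ⟨b, hb⟩)
  have hpos : ∀ Y : Subgroup X, 0 < f Y := fun Y =>
    mul_pos (Real.rpow_pos_of_pos (by exact_mod_cast Nat.card_pos) _) (by exact_mod_cast Nat.card_pos)
  have prod : ∀ H K L : Subgroup X, H ≤ L → K ≤ L →
      Nat.card H * Nat.card K ≤ Nat.card L * Nat.card ↥(H ⊓ K) := by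
    intro H K L hH hK
    have e1 : Nat.card ↥(H ⊓ K) * H.relIndex K = Nat.card K := by
      rw [← inf_relIndex_right H K, ← relIndex_bot_left, ← relIndex_bot_left,
        relIndex_mul_relIndex _ _ _ bot_le inf_le_right]
    have e2 : Nat.card H * H.relIndex L = Nat.card L := by
      rw [← relIndex_bot_left, ← relIndex_bot_left, relIndex_mul_relIndex _ _ _ bot_le hH]
    have e3 : H.relIndex K ≤ H.relIndex L :=
      relIndex_le_of_le_right hK index_ne_zero_of_finite
    rw [← e1, ← e2]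
    calc Nat.card H * (Nat.card ↥(H ⊓ K) * H.relIndex K)
        ≤ Nat.card H * (Nat.card ↥(H ⊓ K) * H.relIndex L) := by gcongr
      _ = _ := by ring
  have hsm : ∀ Y Z : Subgroup X, f Y * f Z ≤ f (Y ⊔ Z) * f (Y ⊓ Z) := by
    intro Y Z
    have h1 := prod Y Z (Y ⊔ Z) le_sup_left le_sup_right
    have h2 := prod (CV Y) (CV Z) (CV (Y ⊓ Z))
      (inf_le_inf le_rfl (centralizer_le (inf_le_left (a := Y) (b := Z))))
      (inf_le_inf le_rfl (centralizer_le (inf_le_right (a := Y) (b := Z))))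
    have h3 : CV Y ⊓ CV Z ≤ CV (Y ⊔ Z) := by
      refine le_inf (inf_le_left.trans inf_le_left) ?_
      rw [le_centralizer_iff]
      exact sup_le (le_centralizer_iff.mp (inf_le_left.trans inf_le_right))
        (le_centralizer_iff.mp (inf_le_right.trans inf_le_right))
    have h4 : Nat.card (CV Y) * Nat.card (CV Z) ≤ Nat.card (CV (Y ⊓ Z)) * Nat.card (CV (Y ⊔ Z)) :=
      h2.trans (Nat.mul_le_mul_left _ (card_le_of_le h3))
    simp only [f]
    calc (Nat.card Y : ℝ) ^ α * (Nat.card (CV Y) : ℝ) * ((Nat.card Z : ℝ) ^ α * (Nat.card (CV Z) : ℝ))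
        = ((Nat.card Y * Nat.card Z : ℕ) : ℝ) ^ α * ((Nat.card (CV Y) * Nat.card (CV Z) : ℕ) : ℝ) := by
          rw [Nat.cast_mul, Nat.cast_mul, Real.mul_rpow (Nat.cast_nonneg _) (Nat.cast_nonneg _)]; ring
      _ ≤ ((Nat.card ↥(Y ⊔ Z) * Nat.card ↥(Y ⊓ Z) : ℕ) : ℝ) ^ α *
            ((Nat.card (CV (Y ⊓ Z)) * Nat.card (CV (Y ⊔ Z)) : ℕ) : ℝ) := by
          refine mul_le_mul ?_ (by exact_mod_cast h4) (Nat.cast_nonneg _)
            (Real.rpow_nonneg (Nat.cast_nonneg _) _)
          exact Real.rpow_le_rpow (Nat.cast_nonneg _) (by exact_mod_cast h1) hα.le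
      _ = _ := by
          rw [Nat.cast_mul, Nat.cast_mul, Real.mul_rpow (Nat.cast_nonneg _) (Nat.cast_nonneg _)]; ring
  -- a largest maximiser
  obtain ⟨M, hMG, hM⟩ := Set.exists_max_image {Y : Subgroup X | Y ≤ G} f (Set.toFinite _) ⟨A, hA⟩
  let best : Set (Subgroup X) := {Y | Y ≤ G ∧ f Y = f M}
  obtain ⟨T, ⟨hTG, hTf⟩, hT⟩ := Set.exists_max_image best (fun Y => Nat.card Y) (Set.toFinite _)
    ⟨M, hMG, rfl⟩
  have habs : ∀ Y : Subgroup X, Y ≤ G → f Y = f M → Y ≤ T := by
    intro Y hY hYf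
    have hle : f (Y ⊔ T) ≤ f M := hM _ (sup_le hY hTG : Y ⊔ T ≤ G)
    have hle' : f (Y ⊓ T) ≤ f M := hM _ (inf_le_right.trans hTG : Y ⊓ T ≤ G)
    have hprod := hsm Y T
    rw [hYf, hTf] at hprod
    have heq : f (Y ⊔ T) = f M := by
      refine le_antisymm hle (le_of_mul_le_mul_right ?_ (hpos M))
      exact le_trans hprod (mul_le_mul_of_nonneg_left hle' (hpos _).le)
    have := Subgroup.eq_of_le_of_card_ge (le_sup_right (a := Y) (b := T))
      (hT _ ⟨sup_le hY hTG, heq⟩)
    exact le_sup_left.trans this.ge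
  have hAf : (Nat.card V : ℝ) ≤ f A := hbig
  have hTf' : (Nat.card V : ℝ) ≤ f T := by rw [hTf]; exact hAf.trans (hM A hA)
  have hbotf : f ⊥ = Nat.card V := by
    have : CV ⊥ = V := inf_eq_left.mpr fun v _ => mem_centralizer_iff.mpr fun b hb => by
      simp [mem_bot.mp hb]
    simp [f, this]
  have hTne : T ≠ ⊥ := by
    intro hbot
    have hMV : f M = Nat.card V := by rw [← hTf, hbot, hbotf]
    refine hA1 (le_bot_iff.mp (hbot ▸ habs A hA (le_antisymm (hM A hA) ?_)))
    rw [hMV]; exact hAf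
  have hconj : ∀ g ∈ G, T.map (MulAut.conj g).toMonoidHom ≤ T := by
    intro g hg
    have hTg : T.map (MulAut.conj g).toMonoidHom ≤ G := by
      rintro _ ⟨t, ht, rfl⟩
      exact mul_mem (mul_mem hg (hTG ht)) (inv_mem hg)
    refine habs _ hTg ?_
    have hc : CV (T.map (MulAut.conj g).toMonoidHom) = (CV T).map (MulAut.conj g).toMonoidHom := by
      ext v
      constructor
      · rintro ⟨hv, hvc⟩
        refine ⟨g⁻¹ * v * g, ⟨(mem_normalizer_iff.mp (hGV hg) _).mpr (by simpa [mul_assoc] using hv),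
          mem_centralizer_iff.mpr fun t ht => ?_⟩, by simp [mul_assoc]⟩
        have := mem_centralizer_iff.mp hvc (g * t * g⁻¹) ⟨t, ht, rfl⟩
        apply_fun (fun z => g⁻¹ * z * g) at this
        simpa [mul_assoc] using this
      · rintro ⟨w, ⟨hw, hwc⟩, rfl⟩
        refine ⟨(mem_normalizer_iff.mp (hGV hg) w).mp hw, mem_centralizer_iff.mpr ?_⟩
        rintro _ ⟨t, ht, rfl⟩
        show g * t * g⁻¹ * (g * w * g⁻¹) = g * w * g⁻¹ * (g * t * g⁻¹)
        have := mem_centralizer_iff.mp hwc t ht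
        calc g * t * g⁻¹ * (g * w * g⁻¹) = g * (t * w) * g⁻¹ := by group
          _ = g * (w * t) * g⁻¹ := by rw [this]
          _ = _ := by group
    rw [← hTf]
    simp only [f, hc, card_map_of_injective (f := (MulAut.conj g).toMonoidHom) (MulAut.conj g).injective]
  have hW := hirr (CV T) inf_le_left (fun g hg => by
    refine mem_normalizer_fintype ?_
    intro v hv
    refine ⟨(mem_normalizer_iff.mp (hGV hg) v).mp hv.1, mem_centralizer_iff.mpr fun t ht => ?_⟩
    have ht' : g⁻¹ * t * g ∈ T := by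
      have := hconj g⁻¹ (inv_mem hg) ⟨t, ht, rfl⟩
      simpa [mul_assoc] using this
    have := congrArg (fun z => g * z * g⁻¹) (mem_centralizer_iff.mp hv.2 _ ht')
    simpa [mul_assoc] using this)
  have hbot : CV T = ⊥ := by
    refine hW.resolve_right fun h => hTne (le_bot_iff.mp ?_)
    rw [← hfaith]
    exact le_inf hTG (le_centralizer_iff.mp (inf_eq_left.mp h))
  calc (Nat.card V : ℝ) ≤ f T := hTf'
    _ = (Nat.card T : ℝ) ^ α := by simp [f, hbot]
    _ ≤ (Nat.card G : ℝ) ^ α := Real.rpow_le_rpow (Nat.cast_nonneg _)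
        (by exact_mod_cast card_le_of_le hTG) hα.le

end Cfsg.Agent.S3037
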