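import Cfsg.Statements.S3049
import Cfsg.Agent.Lib.Components.Inf
import Cfsg.Agent.Lib.IsolatedP.Basic
import Cfsg.Agent.Lib.PCore.Basic
import Cfsg.Agent.Lib.Transfer.SmallFusion
-- import your own Cfsg.Agent.* helpers here

set_option autoImplicit false
open Cfsg

namespace Cfsg.Agent.S3049

open Cfsg.Agent.Components Cfsg.Agent Subgroup
open scoped commutatorElement

open Cfsg.Agent.IsolatedP in
/-- If `y` of order `p` centralises `K` and lies in no conjugate of `⟨x⟩`, then `K` is `p`-nilpotent. -/
theorem hasNormalPComplement_of_centralized {G : Type*} [Group G] [Finite G] {p : ℕ} [Fact p.Prime]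
    (hp : p ≠ 2) (hrank : Cfsg.PRankLE p 2 G) (x : G) (hx : orderOf x = p) (hiso : Cfsg.IsIsolated x)
    (K : Subgroup G) {y : G} (hy : orderOf y = p) (hyK : y ∈ centralizer (K : Set G))
    (hyx : ∀ g : G, y ∉ zpowers (g * x * g⁻¹)) : Cfsg.HasNormalPComplement p ↥K := by
  have hpp : p.Prime := Fact.out
  obtain ⟨S⟩ := (inferInstance : Nonempty (Sylow p ↥K))
  have hyp : IsPGroup p ↥(zpowers y) := IsolatedP.isPGroup_zpowers ⟨1, by rw [hy, pow_one]⟩
  have hnorm : (S : Subgroup ↥K).map K.subtype ≤ normalizer (zpowers y : Set G) := by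
    refine le_trans ?_ (centralizer_le_normalizer _)
    rintro _ ⟨k, -, rfl⟩
    refine mem_centralizer_iff.mpr fun z hz => ?_
    obtain ⟨i, rfl⟩ := mem_zpowers_iff.mp hz
    have h1 : Commute (k : G) y := mem_centralizer_iff.mp hyK k k.2
    exact (h1.zpow_right i).symm
  obtain ⟨P, hP⟩ := (IsPGroup.to_sup_of_normal_right' (S.2.map K.subtype) hyp hnorm).exists_le_sylow
  have hSP : ∀ a : ↥K, a ∈ (S : Subgroup ↥K) → (a : G) ∈ (P : Subgroup G) := fun a ha =>
    hP (mem_sup_left ⟨a, ha, rfl⟩)
  have hyP : y ∈ (P : Subgroup G) := hP (mem_sup_right (mem_zpowers y))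
  obtain ⟨P0, hxP0⟩ := IsolatedP.exists_sylow_ge (p := p) (x := x) ⟨1, by rw [hx, pow_one]⟩
  obtain ⟨g, rfl⟩ := MulAction.exists_smul_eq G P0 P
  set x' := g * x * g⁻¹ with hx'def
  have hx' : orderOf x' = p := by rw [hx'def, IsolatedP.orderOf_conj_eq, hx]
  have hx'p : ∃ k : ℕ, orderOf x' = p ^ k := ⟨1, by rw [hx', pow_one]⟩
  have hiso' : Cfsg.IsIsolated x' := by
    intro h hc
    have h2 := hiso (g⁻¹ * h * g) (by
      have := hc.map (MulAut.conj g⁻¹).toMonoidHom
      simpa [hx'def, mul_assoc] using this)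
    calc h * x' * h⁻¹ = g * (g⁻¹ * h * g * x * (g⁻¹ * h * g)⁻¹) * g⁻¹ := by rw [hx'def]; group
      _ = x' := by rw [h2]
  have hxP : x' ∈ ((g • P0 : Sylow p G) : Subgroup G) := by
    rw [Sylow.coe_subgroup_smul]
    exact ⟨x, hxP0, rfl⟩
  have hcent := IsolatedP.le_centralizer hiso' (g • P0).2 hxP
  refine Transfer.hasNormalPComplement_of_small_fusion S fun a ha hsm k hk => ⟨1, one_mem _, ?_⟩
  rw [one_mul, inv_one, mul_one]
  have hap : a ^ p = 1 := hsm.resolve_right fun h => hp h.1
  have hxy : Commute x' y := (mem_centralizer_singleton_iff.mp (hcent hyP)).symm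
  have hxa : Commute x' (a : G) := (mem_centralizer_singleton_iff.mp (hcent (hSP a ha))).symm
  have hya : Commute y (a : G) := (mem_centralizer_iff.mp hyK a a.2).symm
  set A := closure ({x', y} : Set G) with hA
  set B := closure ({x', y, (a : G)} : Set G) with hB
  have hAB : A ≤ B := closure_mono (by simp [Set.insert_subset_iff])
  have hBc : IsMulCommutative ↥B := isMulCommutative_closure (by
    rintro u (rfl | rfl | rfl) v (rfl | rfl | rfl) <;>
      first | rfl | exact hxy | exact hxy.symm | exact hxa | exact hxa.symm | exact hya | exact hya.symm)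
  have hBp : ∀ u ∈ B, u ^ p = 1 := by
    intro u hu
    induction hu using closure_induction with
    | mem u hu =>
      rcases hu with rfl | rfl | rfl
      · rw [← hx']; exact pow_orderOf_eq_one x'
      · rw [← hy]; exact pow_orderOf_eq_one _
      · exact congrArg Subtype.val hap
    | one => exact one_pow p
    | mul u v hu hv hup hvp =>
      have : Commute u v := congrArg Subtype.val (hBc.is_comm.comm (⟨u, hu⟩ : B) ⟨v, hv⟩)
      rw [this.mul_pow, hup, hvp, one_mul]
    | inv u _ hup => rw [inv_pow, hup, inv_one]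
  have hBcard := hrank B hBc hBp
  have hlt : zpowers x' < A := lt_of_le_of_ne (zpowers_le.mpr (subset_closure (Or.inl rfl)))
    fun e => hyx g (e ▸ subset_closure (Or.inr rfl) : y ∈ zpowers x')
  have hAp : IsPGroup p ↥A := fun u => ⟨1, Subtype.ext (by
    simpa using hBp u (hAB u.2))⟩
  obtain ⟨m, hm⟩ := hAp.exists_card_eq
  have hpA : p < Nat.card A := by
    have h1 : Nat.card (zpowers x') = p := by rw [Nat.card_zpowers, hx']
    calc p = Nat.card (zpowers x') := h1.symm
      _ < Nat.card A := lt_of_le_of_ne (card_le_of_le hlt.le) fun e => hlt.ne (eq_of_le_of_card_ge hlt.le e.ge)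
  have hm2 : 2 ≤ m := by
    by_contra hm'
    have : p ^ m ≤ p ^ 1 := Nat.pow_le_pow_right hpp.pos (by omega)
    rw [pow_one, ← hm] at this
    omega
  have hABeq : A = B := eq_of_le_of_card_ge hAB
    (hBcard.trans (hm ▸ Nat.pow_le_pow_right hpp.pos hm2))
  have haA : (a : G) ∈ A := hABeq ▸ subset_closure (Or.inr (Or.inr rfl))
  have hform : ∀ u ∈ A, ∃ i j : ℤ, u = x' ^ i * y ^ j := by
    intro u hu
    induction hu using closure_induction with
    | mem u hu =>
      rcases hu with rfl | rfl
      · exact ⟨1, 0, by simp⟩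
      · exact ⟨0, 1, by simp⟩
    | one => exact ⟨0, 0, by simp⟩
    | mul u v _ _ hu hv =>
      obtain ⟨i, j, rfl⟩ := hu
      obtain ⟨i', j', rfl⟩ := hv
      refine ⟨i + i', j + j', ?_⟩
      have hc : Commute (y ^ j) (x' ^ i') := ((hxy.zpow_left i').zpow_right j).symm
      rw [zpow_add, zpow_add, mul_assoc (x' ^ i), ← mul_assoc (y ^ j), hc.eq]
      simp only [mul_assoc]
    | inv u _ hu =>
      obtain ⟨i, j, rfl⟩ := hu
      refine ⟨-i, -j, ?_⟩
      rw [mul_inv_rev, zpow_neg, zpow_neg]
      exact ((hxy.zpow_left i).zpow_right j).symm.inv_inv.eq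
  obtain ⟨i, j, hij⟩ := hform _ haA
  have hky : Commute (k : G) (y ^ j) :=
    (show Commute (k : G) y from mem_centralizer_iff.mp hyK k k.2).zpow_right j
  have e : (k : G) * (a : G) * (k : G)⁻¹ = ((k : G) * x' ^ i * (k : G)⁻¹) * y ^ j := by
    rw [hij, mul_assoc ((k : G) * x' ^ i), ← hky.symm.inv_right.eq]
    simp only [mul_assoc]
  have hmem : (k : G) * x' ^ i * (k : G)⁻¹ ∈ ((g • P0 : Sylow p G) : Subgroup G) := by
    have h1 := mul_mem (hSP _ hk) (inv_mem (zpow_mem hyP j))
    simp only [Subgroup.coe_mul, InvMemClass.coe_inv] at h1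
    rwa [e, mul_inv_cancel_right] at h1
  have h2 := IsolatedP.conj_zpow_eq hiso' hx'p (g • P0) hxP (zpow_mem (mem_zpowers x') i) hmem
  refine Subtype.ext ?_
  show (k : G) * (a : G) * (k : G)⁻¹ = a
  rw [e, h2, ← hij]

/-- A perfect group with a normal `p`-complement has order prime to `p`. -/
theorem not_dvd_card_of_isPerfect {K : Type*} [Group K] [Finite K] {p : ℕ} [Fact p.Prime]
    [hK : Group.IsPerfect K] (h : Cfsg.HasNormalPComplement p K) : ¬ p ∣ Nat.card K := by
  obtain ⟨P, N, hN, hc⟩ := h
  have hPq : IsPGroup p (K ⧸ N) := by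
    obtain ⟨n, hn⟩ := P.2.exists_card_eq
    refine IsPGroup.of_card (n := n) ?_
    rw [← index_eq_card, hc.symm.index_eq_card, hn]
  have : Group.IsNilpotent (K ⧸ N) := hPq.isNilpotent
  have htop : N = ⊤ := by
    by_contra hne
    have : Nontrivial (K ⧸ N) := QuotientGroup.nontrivial_iff.mpr hne
    have hperf : Group.IsPerfect (K ⧸ N) :=
      Group.IsPerfect.ofSurjective (QuotientGroup.mk'_surjective N)
    exact (Group.IsPerfect.not_isNilpotent (G := K ⧸ N)) inferInstance
  have h1 : Nat.card P = 1 := by rw [← hc.symm.index_eq_card, htop, index_top]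
  have h2 := P.not_dvd_index
  rwa [(card_eq_one (H := (P : Subgroup K))).mp h1, index_bot] at h2

/-- Let G be a finite group and p an odd prime with O_{p'}(G) = 1. Suppose that G has p-rank at most 2 (no elementary abelian subgroup of order p³) and that some element x of order p is isolated in G (no G-conjugate of x other than x commutes with x) and not central. Then the generalized Fitting subgroup F*(G) is a non-abelian simple group. Since O_{p'}(G) = 1, such an x is not central modulo O_{p'}(G): the hypotheses describe a counterexample to the Z*_p statement in p-rank at most 2. -/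
theorem result {G : Type*} [Group G] [Finite G] {p : ℕ} [Fact p.Prime] (hp : p ≠ 2) (hcore : Cfsg.pPrimeCore p G = ⊥)
    (hrank : Cfsg.PRankLE p 2 G) (x : G) (hx : orderOf x = p) (hiso : Cfsg.IsIsolated x) (hnc : x ∉ Subgroup.center G) :
    IsSimpleGroup ↥(Cfsg.generalizedFittingSubgroup G) ∧ ¬ IsMulCommutative ↥(Cfsg.generalizedFittingSubgroup G) := by
  have hpp : p.Prime := Fact.out
  have hxpow : ∃ k : ℕ, orderOf x = p ^ k := ⟨1, by rw [hx, pow_one]⟩
  have hFle : fittingSubgroup G ≤ Cfsg.pCore p G := by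
    rw [fittingSubgroup_eq_iSup_pCore]
    refine iSup_le fun q => ?_
    by_cases hq : (q : ℕ) = p
    · rw [hq]
    · have : Fact (q : ℕ).Prime := ⟨Nat.prime_of_mem_primeFactors q.2⟩
      exact ((PCore.pCore_le_pPrimeCore (p := (q : ℕ)) (q := p) hq).trans hcore.le).trans bot_le
  have hxO : x ∉ Cfsg.pCore p G := fun h => hnc (mem_center_iff.mpr fun g =>
    mul_inv_eq_iff_eq_mul.mp (IsolatedP.conj_eq_of_mem_pgroup hiso PCore.isPGroup_pCore h
      ((inferInstance : (Cfsg.pCore p G).Normal).conj_mem x h g)))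
  have hEne : layer G ≠ ⊥ := by
    intro h
    refine hxO (hFle ?_)
    have hF : generalizedFittingSubgroup G = fittingSubgroup G := by
      rw [generalizedFittingSubgroup, h, bot_sup_eq]
    rw [← hF]
    refine centralizer_generalizedFittingSubgroup_le ?_
    rw [hF]
    refine centralizer_le hFle ?_
    refine mem_centralizer_iff.mpr fun c hc => ?_
    have hR : IsPGroup p ↥(Cfsg.pCore p G ⊔ zpowers x) :=
      IsPGroup.to_sup_of_normal_left (PCore.isPGroup_pCore) (IsolatedP.isPGroup_zpowers hxpow)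
    exact mem_centralizer_singleton_iff.mp
      (IsolatedP.le_centralizer hiso hR (mem_sup_right (mem_zpowers x)) (mem_sup_left hc))
  have hEcore : Cfsg.pPrimeCore p ↥(layer G) = ⊥ := PCore.pPrimeCore_eq_bot_of_normal _ hcore
  have hO : Cfsg.pCore p G = ⊥ := by
    by_contra hne
    have hdvd : p ∣ Nat.card ↥(Cfsg.pCore p G) := by
      have : Nontrivial ↥(Cfsg.pCore p G) := (nontrivial_iff_ne_bot _).mpr hne
      obtain ⟨n, hn⟩ := (PCore.isPGroup_pCore (p := p) (G := G)).exists_card_eq
      have hlt := Finite.one_lt_card (α := ↥(Cfsg.pCore p G))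
      rw [hn] at hlt ⊢
      exact dvd_pow_self p (fun h => by simp [h] at hlt)
    obtain ⟨⟨y, hyO⟩, hy⟩ := exists_prime_orderOf_dvd_card' p hdvd
    rw [orderOf_mk] at hy
    have hyE : y ∈ centralizer (layer G : Set G) :=
      le_centralizer_of_commutator_eq_bot (commutator_eq_bot_symm (commutator_layer_fittingSubgroup (G := G)))
        (pCore_le_fittingSubgroup hpp hyO)
    have hyx : ∀ g : G, y ∉ zpowers (g * x * g⁻¹) := by
      intro g hg
      have he : zpowers y = zpowers (g * x * g⁻¹) := eq_of_le_of_card_ge (zpowers_le.mpr hg)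
        (by rw [Nat.card_zpowers, Nat.card_zpowers, IsolatedP.orderOf_conj_eq, hx, hy])
      have h1 : g * x * g⁻¹ ∈ Cfsg.pCore p G :=
        zpowers_le.mpr hyO (he ▸ mem_zpowers _)
      have h2 := (inferInstance : (Cfsg.pCore p G).Normal).conj_mem _ h1 g⁻¹
      exact hxO (by simpa [mul_assoc] using h2)
    have := not_dvd_card_of_isPerfect
      (hasNormalPComplement_of_centralized hp hrank x hx hiso (layer G) hy hyE hyx)
    refine hEne (le_bot_iff.mp (hcore ▸ PCore.le_pPrimeCore ?_))
    exact ((hpp.coprime_iff_not_dvd).mpr this).symm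
  have hF : fittingSubgroup G = ⊥ := le_bot_iff.mp (hFle.trans hO.le)
  have hF2 : generalizedFittingSubgroup G = layer G := by
    rw [generalizedFittingSubgroup, hF, sup_bot_eq]
  have hdvd : ∀ K : Subgroup G, IsComponent K → p ∣ Nat.card K := by
    intro K hK
    by_contra h
    refine IsComponent.ne_bot hK ?_
    have hn := IsComponent.normal_subgroupOf_layer hK
    have hle := IsComponent.le_layer hK
    have h1 := PCore.le_pPrimeCore (p := p) (hN := hn)
      (by rw [Nat.card_congr (subgroupOfEquivOfLe hle).toEquiv]; exact ((hpp.coprime_iff_not_dvd).mpr h).symm)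
    rw [hEcore, le_bot_iff, subgroupOf_eq_bot, disjoint_iff, inf_eq_left.mpr hle] at h1
    exact h1
  have huniq : ∀ K L : Subgroup G, IsComponent K → IsComponent L → K = L := by
    have key : ∀ K L : Subgroup G, IsComponent K → IsComponent L → K ≠ L →
        (∀ g : G, g * x * g⁻¹ ∉ K) → False := by
      intro K L hK hL hne hKx
      obtain ⟨⟨y, hyK⟩, hy⟩ := exists_prime_orderOf_dvd_card' p (hdvd K hK)
      rw [orderOf_mk] at hy
      have hyL : y ∈ centralizer (L : Set G) :=
        le_centralizer_of_commutator_eq_bot (IsComponent.commutator_eq_bot hK hL hne) hyK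
      have hyx : ∀ g : G, y ∉ zpowers (g * x * g⁻¹) := by
        intro g hg
        have he : zpowers y = zpowers (g * x * g⁻¹) := eq_of_le_of_card_ge (zpowers_le.mpr hg)
          (by rw [Nat.card_zpowers, Nat.card_zpowers, IsolatedP.orderOf_conj_eq, hx, hy])
        exact hKx g (zpowers_le.mpr hyK (he ▸ mem_zpowers _))
      have : Group.IsPerfect ↥L := IsQuasisimple.isPerfect (IsComponent.isQuasisimple hL)
      exact not_dvd_card_of_isPerfect
        (hasNormalPComplement_of_centralized hp hrank x hx hiso L hy hyL hyx) (hdvd L hL)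
    intro K L hK hL
    by_contra hne
    by_cases hKx : ∀ g : G, g * x * g⁻¹ ∉ K
    · exact key K L hK hL hne hKx
    refine key L K hL hK (Ne.symm hne) fun h hh => ?_
    push Not at hKx
    obtain ⟨g, hg⟩ := hKx
    have hc : Commute (g * x * g⁻¹) (h * x * h⁻¹) :=
      (mem_centralizer_iff.mp (le_centralizer_of_commutator_eq_bot
        (IsComponent.commutator_eq_bot hK hL hne) hg) _ hh).symm
    have heq : g * x * g⁻¹ = h * x * h⁻¹ := by
      have h2 := hiso (g⁻¹ * h) (by
        have := hc.map (MulAut.conj g⁻¹).toMonoidHom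
        simpa [mul_assoc] using this)
      calc g * x * g⁻¹ = g * (g⁻¹ * h * x * (g⁻¹ * h)⁻¹) * g⁻¹ := by rw [h2]
        _ = h * x * h⁻¹ := by group
    have hmem : g * x * g⁻¹ ∈ K ⊓ centralizer (K : Set G) :=
      ⟨hg, le_centralizer_of_commutator_eq_bot (IsComponent.commutator_eq_bot hL hK (Ne.symm hne))
        (heq ▸ hh)⟩
    have := inf_centralizer_le_fittingSubgroup (IsComponent.isSubnormal hK) hmem
    rw [hF, mem_bot, conj_eq_one_iff] at this
    exact hnc (this ▸ one_mem _)
  have hcomp : HasComponent G := by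
    by_contra h
    exact hEne (layer_eq_bot_iff.mpr h)
  obtain ⟨K, hK⟩ := hcomp
  have hK : IsComponent K := hK
  have hEK : generalizedFittingSubgroup G = K := by
    rw [hF2]
    exact le_antisymm (sSup_le fun L hL => (huniq L K hL hK).le) (IsComponent.le_layer hK)
  rw [hEK]
  have hZ : center ↥K = ⊥ := by
    rw [eq_bot_iff]
    intro z hz
    have hmem : (z : G) ∈ K ⊓ centralizer (K : Set G) :=
      ⟨z.2, mem_centralizer_iff.mpr fun k hk => congrArg Subtype.val (mem_center_iff.mp hz ⟨k, hk⟩)⟩
    have := inf_centralizer_le_fittingSubgroup (IsComponent.isSubnormal hK) hmem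
    rw [hF, mem_bot] at this
    exact mem_bot.mpr (Subtype.ext this)
  have hq := IsQuasisimple.simpleQuotient (IsComponent.isQuasisimple hK)
  have : Nontrivial ↥K := IsQuasisimple.nontrivial (IsComponent.isQuasisimple hK)
  refine ⟨?_, IsQuasisimple.not_isMulCommutative (IsComponent.isQuasisimple hK)⟩
  exact IsSimpleGroup.isSimpleGroup_of_surjective
    (((QuotientGroup.quotientMulEquivOfEq hZ).trans QuotientGroup.quotientBot).toMonoidHom)
    (MulEquiv.surjective _)

end Cfsg.Agent.S3049
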