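import Cfsg.Statements.S3038
import Cfsg.Agent.Lib.IsolatedRankTwo.SylowShape
import Cfsg.Agent.Lib.IsolatedP.Cyclic
import Cfsg.Agent.S3049

set_option autoImplicit false
open Cfsg

namespace Cfsg.Agent.S3038

open Subgroup Cfsg.Agent Cfsg.Agent.IsolatedRankTwo
open scoped commutatorElement

/-- Let G be a finite group and p an odd prime with O_{p'}(G) = 1. Suppose that G has p-rank at most 2 and that some element x of order p is isolated in G and not central. Then F*(G) is a non-abelian simple group, and for every Sylow p-subgroup P of F*(G), either no conjugate of x lies in P and P is cyclic, or some conjugate of x lies in P and either P is extraspecial of order p³ and exponent p, or p = 3 and P has order 3^{2k+1} for some k ≥ 2 and is of maximal class (nilpotency class 2k). Since O_{p'}(G) = 1, such an x is not central modulo O_{p'}(G): the hypotheses describe a counterexample to the Z*_p statement in p-rank at most 2, and the conclusion records the structure it would have. -/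
theorem result {G : Type*} [Group G] [Finite G] {p : ℕ} [Fact p.Prime] (hp : p ≠ 2) (hcore : Cfsg.pPrimeCore p G = ⊥)
    (hrank : Cfsg.PRankLE p 2 G) (x : G) (hx : orderOf x = p) (hiso : Cfsg.IsIsolated x) (hnc : x ∉ Subgroup.center G) :
    IsSimpleGroup ↥(Cfsg.generalizedFittingSubgroup G) ∧ ¬ IsMulCommutative ↥(Cfsg.generalizedFittingSubgroup G) ∧
    ∀ P : Sylow p ↥(Cfsg.generalizedFittingSubgroup G),
      ((∀ g : G, g * x * g⁻¹ ∉ ((P : Subgroup ↥(Cfsg.generalizedFittingSubgroup G)).map (Cfsg.generalizedFittingSubgroup G).subtype)) ∧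
          IsCyclic ↥(P : Subgroup ↥(Cfsg.generalizedFittingSubgroup G))) ∨
      ((∃ g : G, g * x * g⁻¹ ∈ ((P : Subgroup ↥(Cfsg.generalizedFittingSubgroup G)).map (Cfsg.generalizedFittingSubgroup G).subtype)) ∧
        ((Cfsg.IsExtraspecial p ↥(P : Subgroup ↥(Cfsg.generalizedFittingSubgroup G)) ∧
            Nat.card (P : Subgroup ↥(Cfsg.generalizedFittingSubgroup G)) = p ^ 3 ∧
            ∀ y ∈ (P : Subgroup ↥(Cfsg.generalizedFittingSubgroup G)), y ^ p = 1) ∨
         (p = 3 ∧ ∃ k : ℕ, 2 ≤ k ∧ Nat.card (P : Subgroup ↥(Cfsg.generalizedFittingSubgroup G)) = 3 ^ (2 * k + 1) ∧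
            ∃ _ : Group.IsNilpotent ↥(P : Subgroup ↥(Cfsg.generalizedFittingSubgroup G)),
              Group.nilpotencyClass ↥(P : Subgroup ↥(Cfsg.generalizedFittingSubgroup G)) = 2 * k))) := by
  obtain ⟨hsimp, hnab⟩ := Cfsg.Agent.S3049.result hp hcore hrank x hx hiso hnc
  refine ⟨hsimp, hnab, ?_⟩
  generalize hFd : Cfsg.generalizedFittingSubgroup G = F at hsimp hnab ⊢
  intro P
  have hperf : commutator ↥F = ⊤ :=
    ((inferInstance : (commutator ↥F).Normal).eq_bot_or_eq_top).resolve_left fun he =>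
      hnab ⟨⟨fun a b => commutatorElement_eq_one_iff_mul_comm.mp
        (mem_bot.mp (he ▸ commutator_mem_commutator (mem_top a) (mem_top b)))⟩⟩
  set PG := (P : Subgroup ↥F).map F.subtype with hPG
  have hPp : IsPGroup p ↥PG := P.2.map F.subtype
  have hxpow : ∃ k : ℕ, orderOf x = p ^ k := ⟨1, by rw [hx, pow_one]⟩
  have hisoc : ∀ g : G, Cfsg.IsIsolated (g * x * g⁻¹) := by
    intro g h hc
    have h2 := hiso (g⁻¹ * h * g) (by
      have := hc.map (MulAut.conj g⁻¹).toMonoidHom
      simpa [mul_assoc] using this)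
    calc h * (g * x * g⁻¹) * h⁻¹ = g * (g⁻¹ * h * g * x * (g⁻¹ * h * g)⁻¹) * g⁻¹ := by group
      _ = g * x * g⁻¹ := by rw [h2]
  by_cases hex : ∃ g : G, g * x * g⁻¹ ∈ PG
  · refine Or.inr ⟨hex, ?_⟩
    obtain ⟨g, hg⟩ := hex
    obtain ⟨y, hy, hyx⟩ := hg
    have hyx' : (y : G) = g * x * g⁻¹ := hyx
    refine (show Fixed P y from ?_).sylow_shape
    refine ⟨hp, hy, ?_, fun l hl => Subtype.ext ?_, hperf,
      IsolatedP.pRankLE_subgroup (IsolatedP.pRankLE_subgroup hrank F) _⟩
    · rw [← orderOf_coe, hyx', IsolatedP.orderOf_conj_eq, hx]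
    · show (l : G) * (y : G) * (l : G)⁻¹ = (y : G)
      rw [hyx']
      refine IsolatedP.conj_eq_of_mem_pgroup (hisoc g) hPp (hyx' ▸ mem_map_of_mem _ hy) ?_
      have := mem_map_of_mem F.subtype hl
      simp only [map_mul, map_inv] at this
      exact hyx' ▸ this
  · push Not at hex
    refine Or.inl ⟨hex, IsolatedP.isCyclic_of_pRankLE_one hp P.2 fun A hA hA1 => ?_⟩
    obtain ⟨S0, hS0⟩ := hPp.exists_le_sylow
    obtain ⟨S1, hxS1⟩ := IsolatedP.exists_sylow_ge (p := p) hxpow
    obtain ⟨g, rfl⟩ := MulAction.exists_smul_eq G S1 S0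
    set x' := g * x * g⁻¹ with hx'
    have hxS : x' ∈ ((g • S1 : Sylow p G) : Subgroup G) := by
      rw [Sylow.coe_subgroup_smul]
      exact ⟨x, hxS1, rfl⟩
    have hcent := IsolatedP.le_centralizer (hisoc g) (g • S1).2 hxS
    let j : ↥(P : Subgroup ↥F) →* G := F.subtype.comp (P : Subgroup ↥F).subtype
    have hj : Function.Injective j := F.subtype_injective.comp (Subgroup.subtype_injective _)
    set A' := A.map j with hA'
    have hA'PG : A' ≤ PG := by
      rintro _ ⟨a, -, rfl⟩
      exact ⟨a, a.2, rfl⟩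
    have hA'e : ∀ u ∈ A', u ^ p = 1 := by
      rintro _ ⟨a, ha, rfl⟩
      rw [← map_pow, hA1 a ha, map_one]
    have hxp : x' ^ p = 1 := by
      rw [← hx, ← IsolatedP.orderOf_conj_eq g x]; exact pow_orderOf_eq_one _
    have hc : ∀ u ∈ A', Commute u x' := fun u hu =>
      mem_centralizer_singleton_iff.mp (hcent (hS0 (hA'PG hu)))
    set B := closure ((A' : Set G) ∪ {x'}) with hB
    have hBc : IsMulCommutative ↥B := isMulCommutative_closure (by
      rintro u (hu | rfl) v (hv | rfl)
      · obtain ⟨a, ha, rfl⟩ := hu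
        obtain ⟨b, hb, rfl⟩ := hv
        have hab : a * b = b * a := congrArg Subtype.val (hA.is_comm.comm (⟨a, ha⟩ : A) ⟨b, hb⟩)
        rw [← map_mul, hab, map_mul]
      · exact hc u hu
      · exact (hc v hv).symm
      · rfl)
    have hBe : ∀ u ∈ B, u ^ p = 1 := by
      intro u hu
      induction hu using closure_induction with
      | mem u hu =>
        rcases hu with hu | rfl
        · exact hA'e u hu
        · exact hxp
      | one => exact one_pow p
      | mul u v hu hv hup hvp =>
        have : Commute u v := congrArg Subtype.val (hBc.is_comm.comm (⟨u, hu⟩ : B) ⟨v, hv⟩)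
        rw [this.mul_pow, hup, hvp, one_mul]
      | inv u _ hup => rw [inv_pow, hup, inv_one]
    have hlt : A' < B := lt_of_le_of_ne (fun u hu => subset_closure (Or.inl hu)) fun e =>
      hex g (hA'PG (e ▸ subset_closure (Or.inr rfl)))
    have h2 : Nat.card A' < p ^ 2 :=
      lt_of_lt_of_le (lt_of_le_of_ne (card_le_of_le hlt.le) fun e => hlt.ne (eq_of_le_of_card_ge hlt.le e.ge))
        (hrank B hBc hBe)
    obtain ⟨i, hi⟩ := IsPGroup.iff_card.mp (hPp.to_le hA'PG)
    rw [hi, Nat.pow_lt_pow_iff_right (Fact.out : p.Prime).one_lt] at h2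
    rw [← card_map_of_injective hj, ← hA', hi]
    exact Nat.pow_le_pow_right (Fact.out : p.Prime).pos (by omega)

end Cfsg.Agent.S3038
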