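import Cfsg.Statements.S3040
import Cfsg.Agent.Lib.ThreeFpf.Main
import Mathlib.GroupTheory.FixedPointFree
import Mathlib.Data.Fintype.Perm

set_option autoImplicit false
set_option linter.style.haveILetI false
open Cfsg

namespace Cfsg.Agent.S3040

set_option synthInstance.maxSize 1000 in
theorem exists_inverting : ∀ s : Equiv.Perm (Fin 3), s * s * s = 1 → s ≠ 1 →
    ∃ t : Equiv.Perm (Fin 3), t * t = 1 ∧ t * s * t = s * s ∧
      ∀ p, p = 1 ∨ p = s ∨ p = s * s ∨ p = t ∨ p = s * t ∨ p = s * s * t := by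
  decide

/-- Let G be a finite group of even order coprime to 3, and let Σ be a group of automorphisms of G isomorphic to the symmetric group of degree 3 that is fixed-point-free (only the identity of G is fixed by every element of Σ). Then G is solvable, O_{2′,2}(G) (the preimage in G of O₂(G/O(G))) has odd index in G, and G = O_{2′,2}(G) C_G(σ) for every element σ of Σ of order 3; that is, O₂(G/O(G)) is a Sylow 2-subgroup of G/O(G) and G/O(G) = O₂(G/O(G)) C_{G/O(G)}(σ). -/
theorem result {G : Type*} [Group G] [Finite G] (heven : 2 ∣ Nat.card G) (h3 : ¬ 3 ∣ Nat.card G)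
    (Sig : Subgroup (MulAut G)) (hS3 : Nonempty (↥Sig ≃* Equiv.Perm (Fin 3))) (hfpf : ∀ g : G, (∀ σ ∈ Sig, σ g = g) → g = 1) :
    Group.IsSolvable G ∧ ¬ 2 ∣ (Cfsg.pPrimePCore 2 G).index ∧ ∀ σ ∈ Sig, orderOf σ = 3 →
      Cfsg.pPrimePCore 2 G ⊔ Subgroup.closure {g : G | σ g = g} = ⊤ := by
  obtain ⟨e⟩ := hS3
  have main : ∀ σ ∈ Sig, orderOf σ = 3 → ThreeFpf.Act σ := by
    intro σ hσ h3o
    have hσ3 : σ * σ * σ = 1 := by
      have := pow_orderOf_eq_one σ
      rwa [h3o, pow_succ, pow_two] at this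
    set s := e ⟨σ, hσ⟩ with hs
    have hs3 : s * s * s = 1 := by
      rw [hs, ← map_mul, ← map_mul, ← map_one e]
      exact congrArg e (Subtype.ext hσ3)
    have hs1 : s ≠ 1 := fun h => by
      rw [hs, map_eq_one_iff e e.injective] at h
      have h' : σ = 1 := congrArg Subtype.val h
      rw [h', orderOf_one] at h3o
      omega
    obtain ⟨t, ht2, hts, hall⟩ := exists_inverting s hs3 hs1
    set τ := e.symm t with hτ
    have htt : ∀ x : G, (τ : MulAut G) ((τ : MulAut G) x) = x := fun x => by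
      have h1 : τ * τ = 1 := by rw [hτ, ← map_mul, ht2, map_one]
      exact DFunLike.congr_fun (congrArg Subtype.val h1) x
    have hconj : ∀ x : G, (τ : MulAut G) (σ ((τ : MulAut G) x)) = σ (σ x) := fun x => by
      have h1 : τ * ⟨σ, hσ⟩ * τ = (⟨σ, hσ⟩ * ⟨σ, hσ⟩ : Sig) := by
        apply e.injective
        rw [map_mul, map_mul, map_mul, hτ, e.apply_symm_apply, ← hs, hts]
      exact DFunLike.congr_fun (congrArg Subtype.val h1) x
    refine ⟨fun x => DFunLike.congr_fun hσ3 x, h3, fun x hx => ?_⟩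
    -- `τ` inverts the fixed points, without fixed points
    have hC : ∀ y : G, σ y = y → σ ((τ : MulAut G) y) = (τ : MulAut G) y := fun y hy => by
      have h1 := hconj y
      rw [hy, hy] at h1
      have h2 := congrArg (τ : MulAut G) h1
      rwa [htt] at h2
    let φ : Cfsg.fixedSubgroup σ →* Cfsg.fixedSubgroup σ :=
      ((τ : MulAut G).toMonoidHom.comp (Cfsg.fixedSubgroup σ).subtype).codRestrict _
        fun y => hC y y.2
    have hfree : MonoidHom.FixedPointFree φ := fun y hy => by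
      have hy' : (τ : MulAut G) (y : G) = y := congrArg Subtype.val hy
      have hyσ : σ (y : G) = y := y.2
      refine Subtype.ext (hfpf _ fun ρ hρ => ?_)
      have hρ' : ρ = ((e.symm (e ⟨ρ, hρ⟩) : Sig) : MulAut G) := by rw [e.symm_apply_apply]
      have hse : e.symm s = ⟨σ, hσ⟩ := e.symm_apply_apply _
      rcases hall (e ⟨ρ, hρ⟩) with h | h | h | h | h | h <;>
        simp only [h, map_mul, map_one, hse, ← hτ] at hρ' <;> rw [hρ'] <;>
        simp [MulAut.mul_apply, hy', hyσ]
    have hodd := MonoidHom.FixedPointFree.odd_card_of_involutive hfree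
      (fun y => Subtype.ext (htt y))
    have hx' : x ∈ Cfsg.fixedSubgroup σ := hx
    exact hodd.of_dvd_nat (Subgroup.orderOf_mk x hx' ▸ orderOf_dvd_natCard (⟨x, hx'⟩ : Cfsg.fixedSubgroup σ))
  obtain ⟨σ₀, hσ₀, h₀⟩ : ∃ σ ∈ Sig, orderOf σ = 3 := by
    haveI : Fact (Nat.Prime 3) := ⟨Nat.prime_three⟩
    obtain ⟨x, hx⟩ := exists_prime_orderOf_dvd_card' (G := Sig) 3 (by
      rw [Nat.card_congr e.toEquiv, Nat.card_perm, Nat.card_fin]; decide)
    exact ⟨x, x.2, by rw [Subgroup.orderOf_coe, hx]⟩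
  haveI := (main σ₀ hσ₀ h₀).isSolvable
  refine ⟨inferInstance, (main σ₀ hσ₀ h₀).struct.2, fun σ hσ hσo => ?_⟩
  refine (Subgroup.eq_top_iff' _).2 fun g => ?_
  obtain ⟨a, ha, c, hc, rfl⟩ := (main σ hσ hσo).struct.1 g
  exact Subgroup.mul_mem_sup ha (Subgroup.subset_closure hc)

end Cfsg.Agent.S3040
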