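import Cfsg.Statements.S3045
import Cfsg.Agent.Lib.IsolatedPMinimal.Main

set_option autoImplicit false
open Cfsg
open scoped commutatorElement

namespace Cfsg.Agent.S3045

/-- Let G be a finite group, p a prime, S a Sylow p-subgroup of G and P a p-minimal subgroup of G containing S. Let L be the subgroup generated by N_G(S) and all p-minimal subgroups of G containing S other than P, and suppose O_p(L) is not contained in O_p(P). Put Y for the normal closure of O^p(P) in G. Then O^p(P) is contained in the preimage in G of F*(G/O_p(G)); and if Y is solvable, then Y = O^p(P) and Y/O_p(Y) is a t-group of nilpotency class at most 2 for some prime t ≠ p. -/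
theorem result {G : Type*} [Group G] [Finite G] {p : ℕ} [Fact p.Prime] (S : Sylow p G) (P : Subgroup G) (hSP : (S : Subgroup G) ≤ P) (hPmin : Cfsg.IsPMinimal p ↥P)
    (L Y : Subgroup G)
    (hL : L = Subgroup.normalizer ((S : Subgroup G) : Set G) ⊔ ⨆ P' : {P' : Subgroup G // (S : Subgroup G) ≤ P' ∧ Cfsg.IsPMinimal p ↥P' ∧ P' ≠ P}, (P' : Subgroup G))
    (hiso : ¬ (Cfsg.pCore p ↥L).map L.subtype ≤ (Cfsg.pCore p ↥P).map P.subtype)
    (hY : Y = Subgroup.normalClosure (((Cfsg.pResidual p ↥P).map P.subtype : Subgroup G) : Set G)) [hn : (Cfsg.pCore p G).Normal] :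
    (Cfsg.pResidual p ↥P).map P.subtype ≤ (Cfsg.generalizedFittingSubgroup (G ⧸ Cfsg.pCore p G)).comap (QuotientGroup.mk' (Cfsg.pCore p G)) ∧
    (Group.IsSolvable ↥Y → (Cfsg.pResidual p ↥P).map P.subtype = Y ∧
       ∃ _ : (Cfsg.pCore p ↥Y).Normal, ∃ t : ℕ, t.Prime ∧ t ≠ p ∧ IsPGroup t (↥Y ⧸ Cfsg.pCore p ↥Y) ∧
         ∃ _ : Group.IsNilpotent (↥Y ⧸ Cfsg.pCore p ↥Y), Group.nilpotencyClass (↥Y ⧸ Cfsg.pCore p ↥Y) ≤ 2) := by
  have h : IsoPMin.Setup S P L := ⟨hSP, hPmin, hL, hiso⟩
  change Y = Subgroup.normalClosure (LocalStructure.resOf p P : Set G) at hY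
  have hYn : Y.Normal := hY ▸ Subgroup.normalClosure_normal
  set q := QuotientGroup.mk' (Cfsg.pCore p G)
  refine ⟨?_, fun hsol => ?_⟩
  · refine le_trans (hY ▸ Subgroup.le_normalClosure : LocalStructure.resOf p P ≤ Y) ?_
    rw [← Subgroup.map_le_iff_le_comap]
    rcases h.cases_closure with ⟨-, t, ht, -, htg, -⟩ | hperf
    · rw [← hY] at htg
      have := Fact.mk ht
      have hnil : Group.IsNilpotent ↥(Y.map q) := htg.isNilpotent
      exact (Components.le_fittingSubgroup (hYn.map q (QuotientGroup.mk'_surjective _))).trans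
        Components.fittingSubgroup_le_generalizedFittingSubgroup
    · have hQ := h.quot hperf
      rw [← hY] at hQ
      rw [← hQ.sSup_components]
      exact sSup_le fun K hK => (Components.IsComponent.le_layer hK.1).trans
        Components.layer_le_generalizedFittingSubgroup
  rcases h.cases_closure with ⟨he, t, ht, htp, htg, hcls⟩ | hperf
  swap
  · exfalso
    rw [← hY] at hperf
    have : Group.IsPerfect ↥Y := Subgroup.isPerfect_iff.2 hperf
    rcases subsingleton_or_nontrivial ↥Y with hsub | hnt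
    · have hbot : Y = ⊥ := (Subgroup.eq_bot_iff_forall Y).2 fun y hy =>
        congrArg Subtype.val (Subsingleton.elim (⟨y, hy⟩ : ↥Y) 1)
      exact h.res_not_le (((Subgroup.le_normalClosure.trans hY.ge).trans hbot.le).trans bot_le)
    · exact Group.IsPerfect.not_isSolvable ↥Y hsol
  rw [← hY] at htg hcls
  refine ⟨show LocalStructure.resOf p P = Y from (hY.trans he).symm, ?_⟩
  have hn' : (Cfsg.pCore p ↥Y).Normal := LocalStructure.pCore_normal p ↥Y
  obtain ⟨ψ, hinj, hrange, -⟩ := IsoPMin.exists_embedding (p := p) hYn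
  refine ⟨hn', t, ht, htp, ?_, ?_⟩
  · refine IsPGroup.of_injective ?_ ψ.rangeRestrict ((MonoidHom.rangeRestrict_injective_iff).2 hinj)
    rw [hrange]
    exact htg
  have := Fact.mk ht
  have htq : IsPGroup t (↥Y ⧸ Cfsg.pCore p ↥Y) := by
    refine IsPGroup.of_injective ?_ ψ.rangeRestrict ((MonoidHom.rangeRestrict_injective_iff).2 hinj)
    rw [hrange]
    exact htg
  have hnilq : Group.IsNilpotent (↥Y ⧸ Cfsg.pCore p ↥Y) := htq.isNilpotent
  refine ⟨hnilq, Subgroup.lowerCentralSeries_eq_bot_iff_nilpotencyClass_le.1 ?_⟩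
  have htop : (⊤ : Subgroup (↥Y ⧸ Cfsg.pCore p ↥Y)).map ψ = Y.map q := by
    rw [← MonoidHom.range_eq_map, hrange]
  apply Subgroup.map_injective hinj
  rw [Subgroup.map_bot, Subgroup.lowerCentralSeries_succ, Subgroup.lowerCentralSeries_succ, Subgroup.lowerCentralSeries_zero,
    Subgroup.map_commutator, Subgroup.map_commutator, htop, ← Subgroup.map_commutator, ← Subgroup.map_commutator,
    Subgroup.map_eq_bot_iff, QuotientGroup.ker_mk']
  exact hcls

end Cfsg.Agent.S3045
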