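import Cfsg.Statements.S3048
import Cfsg.Agent.S3012
import Cfsg.Agent.S3013
import Cfsg.Agent.Lib.PCore.Basic
import Cfsg.Agent.Lib.Socle.Primitive
import Cfsg.Agent.Lib.Socle.DerangementClasses
import Cfsg.Agent.Lib.Components.GenFitting

set_option autoImplicit false
set_option linter.style.haveILetI false
universe u
open Cfsg

namespace Cfsg.Agent.S3048

open Subgroup

variable {G : Type u} [Group G]

theorem eq_one_of_odd_of_inv {x : G} (hx : Odd (orderOf x)) (h : x⁻¹ = x) : x = 1 := by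
  have h2 : orderOf x ∣ 2 := orderOf_dvd_of_pow_eq_one (by
    rw [pow_two]; nth_rewrite 1 [← h]; exact inv_mul_cancel x)
  rcases (Nat.dvd_prime Nat.prime_two).mp h2 with h1 | h1
  · exact orderOf_eq_one_iff.mp h1
  · rw [h1] at hx; exact absurd hx (by decide)

/-- An element of `O₂(H)` centralises every normal subgroup `B ≤ H` of `G` without normal 2-subgroup. -/
theorem mem_centralizer_of_mem_pCore [Finite G] (hO : pCore 2 G = ⊥) (B : Subgroup G) [hB : B.Normal]
    {H : Subgroup G} (hBH : B ≤ H) {w : G} (hw : w ∈ (pCore 2 H).map H.subtype) :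
    w ∈ centralizer (B : Set G) := by
  set R := (pCore 2 H).map H.subtype with hR
  have hRH : ∀ a ∈ H, ∀ r ∈ R, a * r * a⁻¹ ∈ R := by
    rintro a ha _ ⟨r, hr, rfl⟩
    exact ⟨⟨a, ha⟩ * r * ⟨a, ha⟩⁻¹, (PCore.pCore_normal (p := 2) (G := H)).conj_mem r hr _, rfl⟩
  haveI : ((R ⊓ B).subgroupOf B).Normal := normal_subgroupOf_of_le_normalizer <| by
    intro b hb
    rw [mem_normalizer_iff]
    intro x
    refine ⟨fun hx => ⟨hRH b (hBH hb) x hx.1, hB.conj_mem x hx.2 b⟩, fun hx => ⟨?_, ?_⟩⟩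
    · have := hRH b⁻¹ (inv_mem (hBH hb)) _ hx.1
      simpa [mul_assoc] using this
    · have := hB.conj_mem _ hx.2 b⁻¹
      simpa [mul_assoc] using this
  have hp : IsPGroup 2 ↥((R ⊓ B).subgroupOf B) :=
    ((PCore.isPGroup_pCore (p := 2) (G := H)).map H.subtype).to_le inf_le_left |>.comap_subtype
  have hbot := PCore.le_pCore hp
  rw [PCore.pCore_eq_bot_of_normal B hO, le_bot_iff, subgroupOf_eq_bot] at hbot
  rw [mem_centralizer_iff]
  intro b hb
  have hc : b * w * b⁻¹ * w⁻¹ = 1 := by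
    have h1 : b * w * b⁻¹ * w⁻¹ ∈ R := R.mul_mem (hRH b (hBH hb) w hw) (R.inv_mem hw)
    have h2 : b * w * b⁻¹ * w⁻¹ ∈ B := by
      have := B.mul_mem hb (hB.conj_mem b⁻¹ (B.inv_mem hb) w)
      simpa [mul_assoc] using this
    have h3 : b * w * b⁻¹ * w⁻¹ ∈ (R ⊓ B) ⊓ B := ⟨⟨h1, h2⟩, h2⟩
    exact hbot.le_bot h3
  calc b * w = (b * w * b⁻¹ * w⁻¹) * (w * b) := by group
    _ = w * b := by rw [hc, one_mul]


/-- Minimal counterexample reduction for the Sidki pair problem. Let G be a finite group and V a nontrivial elementary abelian 2-subgroup satisfying the Sidki pair condition with V ∩ O₂(G) = 1. Suppose that for every finite group H of smaller order, every nontrivial elementary abelian 2-subgroup W of H satisfying the Sidki pair condition meets O₂(H) nontrivially, and that the same holds in G for every such subgroup W of order smaller than that of V. Then the generalized Fitting subgroup F*(G) is a non-abelian simple group and G = V F*(G). -/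
theorem result {G : Type u} [Group G] [Finite G] (V : Subgroup G) (hV : Cfsg.IsElementaryAbelian 2 V) (hV1 : V ≠ ⊥) (hS : Cfsg.IsSidkiPair V) (hVO : V ⊓ Cfsg.pCore 2 G = ⊥) (hminG : ∀ (H : Type u) [Group H] [Finite H] (W : Subgroup H), Nat.card H < Nat.card G → Cfsg.IsElementaryAbelian 2 W → W ≠ ⊥ → Cfsg.IsSidkiPair W → W ⊓ Cfsg.pCore 2 H ≠ ⊥) (hminV : ∀ W : Subgroup G, Nat.card W < Nat.card V → Cfsg.IsElementaryAbelian 2 W → W ≠ ⊥ → Cfsg.IsSidkiPair W → W ⊓ Cfsg.pCore 2 G ≠ ⊥) : IsSimpleGroup ↥(Cfsg.generalizedFittingSubgroup G) ∧ ¬ IsMulCommutative ↥(Cfsg.generalizedFittingSubgroup G) ∧ V ⊔ Cfsg.generalizedFittingSubgroup G = ⊤ := by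
  have hcomm : ∀ a ∈ V, ∀ b ∈ V, Commute a b := fun a ha b hb =>
    congrArg Subtype.val (hV.1.is_comm.comm (⟨a, ha⟩ : V) ⟨b, hb⟩)
  have hinvV : ∀ a ∈ V, a⁻¹ = a := fun a ha =>
    inv_eq_of_mul_eq_one_right (by rw [← pow_two]; exact hV.2 a ha)
  have hV2 : IsPGroup 2 V := fun g => ⟨1, Subtype.ext (by simpa using hV.2 g g.2)⟩
  obtain ⟨v0, hv0, hv01⟩ := (Subgroup.ne_bot_iff_exists_ne_one.mp hV1 |> fun ⟨x, hx⟩ =>
    (⟨x.1, x.2, fun h => hx (Subtype.ext h)⟩ : ∃ v ∈ V, v ≠ 1))
  have : Nontrivial G := ⟨⟨v0, 1, hv01⟩⟩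
  -- quotient by a nontrivial normal subgroup meeting `V` trivially
  have quot : ∀ (K : Subgroup G) [K.Normal], K ≠ ⊥ → V ⊓ K = ⊥ →
      ∃ w ∈ V, w ≠ 1 ∧ (QuotientGroup.mk' K w) ∈ pCore 2 (G ⧸ K) := by
    intro K _ hK hVK
    have hlt : Nat.card (G ⧸ K) < Nat.card G := by
      rw [card_eq_card_quotient_mul_card_subgroup K]
      exact lt_mul_of_one_lt_right Nat.card_pos ((one_lt_card_iff_ne_bot K).mpr hK)
    have hW : Cfsg.IsElementaryAbelian 2 (V.map (QuotientGroup.mk' K)) := by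
      refine ⟨⟨⟨?_⟩⟩, ?_⟩
      · rintro ⟨_, a, ha, rfl⟩ ⟨_, b, hb, rfl⟩
        exact Subtype.ext ((hcomm a ha b hb).map (QuotientGroup.mk' K))
      · rintro _ ⟨a, ha, rfl⟩
        rw [← map_pow, hV.2 a ha, map_one]
    have hW1 : V.map (QuotientGroup.mk' K) ≠ ⊥ := by
      intro h
      rw [Subgroup.map_eq_bot_iff, QuotientGroup.ker_mk'] at h
      exact hV1 (by rw [← hVK, inf_eq_left.mpr h])
    have := hminG (G ⧸ K) _ hlt hW hW1 (S3012.result V K hV hV1 hS hVK)
    obtain ⟨⟨x, ⟨w, hw, hwx⟩, hx⟩, hx1⟩ := Subgroup.ne_bot_iff_exists_ne_one.mp this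
    refine ⟨w, hw, fun h => hx1 (Subtype.ext ?_), hwx ▸ hx⟩
    simp [← hwx, h]
  -- `O₂(G) = 1`
  have hO : pCore 2 G = ⊥ := by
    by_contra hne
    obtain ⟨w, hwV, hw1, hw⟩ := quot _ hne hVO
    rw [PCore.pCore_quotient_self_eq_bot, mem_bot] at hw
    have : w ∈ V ⊓ pCore 2 G := ⟨hwV, (QuotientGroup.eq_one_iff w).mp hw⟩
    rw [hVO, mem_bot] at this
    exact hw1 this
  have sub : ∀ H : Subgroup G, V ≤ H → H ≠ ⊤ → ∃ w ∈ V, w ≠ 1 ∧ w ∈ (pCore 2 H).map H.subtype := by
    intro H hVH hH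
    have hlt : Nat.card H < Nat.card G :=
      lt_of_le_of_ne (card_le_card_group H) (fun e => hH (eq_top_of_card_eq H e))
    have hW : Cfsg.IsElementaryAbelian 2 (V.subgroupOf H) :=
      ⟨⟨⟨fun a b => Subtype.ext (Subtype.ext (hcomm _ a.2 _ b.2))⟩⟩, fun a ha => Subtype.ext (hV.2 _ ha)⟩
    have hW1 : V.subgroupOf H ≠ ⊥ := fun h =>
      hv01 (congrArg Subtype.val ((Subgroup.eq_bot_iff_forall _).mp h ⟨v0, hVH hv0⟩ hv0))
    have hWS : Cfsg.IsSidkiPair (V.subgroupOf H) := by
      intro h v hv hodd hinv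
      obtain ⟨w, hw, hw1, hwh⟩ := hS h v hv (Subgroup.orderOf_coe h ▸ hodd)
        (congrArg Subtype.val hinv)
      exact ⟨⟨w, hVH hw⟩, hw, fun e => hw1 (congrArg Subtype.val e), Subtype.ext hwh⟩
    obtain ⟨⟨x, hxV, hx⟩, hx1⟩ :=
      Subgroup.ne_bot_iff_exists_ne_one.mp (hminG H _ hlt hW hW1 hWS)
    exact ⟨x, hxV, fun e => hx1 (Subtype.ext (Subtype.ext e)), x, hx, rfl⟩
  have notSidki : ∀ P : Subgroup G, P ≤ V → P ≠ ⊥ → P ≠ V → ∃ h v : G, v ∈ P ∧ Odd (orderOf h) ∧
      v * h * v⁻¹ = h⁻¹ ∧ ∀ w ∈ P, w * h = h * w → w = 1 := by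
    intro P hPV hP1 hPne
    have hlt : Nat.card P < Nat.card V :=
      lt_of_le_of_ne (card_le_of_le hPV) fun e => hPne (eq_of_le_of_card_ge hPV e.ge)
    have hPea : Cfsg.IsElementaryAbelian 2 P :=
      ⟨⟨⟨fun a b => Subtype.ext (hcomm _ (hPV a.2) _ (hPV b.2))⟩⟩, fun a ha => hV.2 a (hPV ha)⟩
    have h := hminV P hlt hPea hP1
    rw [hO, inf_bot_eq] at h
    have h' : ¬ Cfsg.IsSidkiPair P := fun hh => h hh rfl
    simp only [Cfsg.IsSidkiPair, not_forall, not_exists, not_and] at h'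
    obtain ⟨h, v, hv, hodd, hinv, hno⟩ := h'
    exact ⟨h, v, hv, hodd, hinv, fun w hw hwh => by_contra fun hw1 => hno w hw hw1 hwh⟩
  -- dichotomy for normal subgroups
  have dich : ∀ B : Subgroup G, B.Normal → V ≤ centralizer (B : Set G) ∨
      V ⊓ centralizer (B : Set G) = ⊥ := by
    intro B hB
    by_contra hcon
    rw [not_or] at hcon
    obtain ⟨h, v, hv, hodd, hinv, hno⟩ :=
      notSidki _ inf_le_left hcon.2 fun e => hcon.1 (e.ge.trans inf_le_right)
    obtain ⟨⟨z, hz⟩, hz1⟩ := Subgroup.ne_bot_iff_exists_ne_one.mp hcon.2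
    have hh1 : h ≠ 1 := fun e => hz1 (Subtype.ext (hno z hz (by rw [e, mul_one, one_mul])))
    have hhC : h ∈ centralizer (B : Set G) := by
      haveI : (centralizer (B : Set G)).Normal := inferInstance
      have h1 : v * (h * v⁻¹ * h⁻¹) ∈ centralizer (B : Set G) :=
        mul_mem hv.2 ((inferInstance : (centralizer (B : Set G)).Normal).conj_mem _ (inv_mem hv.2) h)
      rw [← mul_assoc, ← mul_assoc, hinv, ← mul_inv_rev] at h1
      obtain ⟨f, hf⟩ := exists_pow_eq_self_of_coprime (x := h) (n := 2)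
        (Nat.coprime_two_left.mpr hodd)
      rw [← hf]
      exact pow_mem (pow_two h ▸ inv_mem_iff.mp h1) f
    set Y := centralizer ({v} : Set G) ⊓ centralizer ({h} : Set G) with hY
    have hBY : B ≤ Y := fun b hb => ⟨mem_centralizer_singleton_iff.mpr (mem_centralizer_iff.mp hv.2 b hb),
      mem_centralizer_singleton_iff.mpr (mem_centralizer_iff.mp hhC b hb)⟩
    have hYtop : Y ≠ ⊤ := fun e => by
      have hh : h ∈ Y := e ▸ mem_top h
      have hc : h * v = v * h := mem_centralizer_singleton_iff.mp hh.1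
      rw [← hc, mul_inv_cancel_right] at hinv
      exact hh1 (eq_one_of_odd_of_inv hodd hinv.symm)
    obtain ⟨hYne, hYS⟩ := S3013.result V hV hV1 hS v h hv.1 hodd hinv Y rfl
    have hlt : Nat.card Y < Nat.card G :=
      lt_of_le_of_ne (card_le_card_group Y) (fun e => hYtop (eq_top_of_card_eq Y e))
    have hW : Cfsg.IsElementaryAbelian 2 ((Y ⊓ V).subgroupOf Y) :=
      ⟨⟨⟨fun a b => Subtype.ext (Subtype.ext (hcomm _ a.2.2 _ b.2.2))⟩⟩,
        fun a ha => Subtype.ext (hV.2 _ ha.2)⟩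
    have hW1 : (Y ⊓ V).subgroupOf Y ≠ ⊥ := by
      rw [Ne, subgroupOf_eq_bot]
      exact fun e => hYne (disjoint_self.mp (e.mono_right inf_le_left))
    obtain ⟨⟨x, hxV, hx⟩, hx1⟩ :=
      Subgroup.ne_bot_iff_exists_ne_one.mp (hminG Y _ hlt hW hW1 hYS)
    have hxC := mem_centralizer_of_mem_pCore hO B hBY ⟨x, hx, rfl⟩
    exact hx1 (Subtype.ext (Subtype.ext (hno x ⟨hxV.2, hxC⟩
      (mem_centralizer_singleton_iff.mp x.2.2))))
  have central : ∀ B : Subgroup G, B.Normal → V ≤ centralizer (B : Set G) → B ≤ center G := by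
    intro B hB hVC
    by_contra hcen
    have hne : centralizer (B : Set G) ≠ ⊤ := fun e =>
      hcen fun b hb => mem_center_iff.mpr fun g =>
        (mem_centralizer_iff.mp (e ▸ mem_top g : g ∈ centralizer (B : Set G)) b hb).symm
    obtain ⟨w, -, hw1, hw⟩ := sub _ hVC hne
    rw [PCore.map_pCore_subtype_of_normal, hO, bot_inf_eq, mem_bot] at hw
    exact hw1 hw
  have hZ : center G = ⊥ := by
    by_contra hne
    have hVZ : V ⊓ center G = ⊥ := by
      haveI : (V ⊓ center G).Normal := ⟨fun x hx g => by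
        rwa [mem_center_iff.mp hx.2 g, mul_inv_cancel_right]⟩
      have := PCore.le_pCore (hV2.to_le (inf_le_left : V ⊓ center G ≤ V))
      rwa [hO, le_bot_iff] at this
    obtain ⟨w, hwV, hw1, hw⟩ := quot _ hne hVZ
    set f := QuotientGroup.mk' (center G)
    set R := (pCore 2 (G ⧸ center G)).comap f with hR
    haveI := PCore.pCore_normal (p := 2) (G := G ⧸ center G)
    haveI : R.Normal := Subgroup.Normal.comap inferInstance f
    haveI : Group.IsNilpotent (pCore 2 (G ⧸ center G)) :=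
      (PCore.isPGroup_pCore (p := 2) (G := G ⧸ center G)).isNilpotent
    haveI : Group.IsNilpotent R := by
      refine Subgroup.isNilpotent_of_ker_le_center (f.subgroupComap (pCore 2 (G ⧸ center G))) ?_
      intro x hx
      have : (x : G) ∈ center G := (QuotientGroup.eq_one_iff _).mp (congrArg Subtype.val hx)
      exact mem_center_iff.mpr fun y => Subtype.ext (mem_center_iff.mp this y)
    have hRp : R ≤ fittingSubgroup G := Components.le_fittingSubgroup inferInstance
    obtain ⟨P, hP⟩ := ((hV2.to_le (zpowers_le.mpr hwV)).comap_subtype (K := fittingSubgroup G)).exists_le_sylow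
    haveI : Fact (Nat.Prime 2) := ⟨Nat.prime_two⟩
    haveI : (P : Subgroup (fittingSubgroup G)).Normal :=
      (((Group.isNilpotent_of_finite_tfae (G := fittingSubgroup G)).out 0 3 :
        Group.IsNilpotent (fittingSubgroup G) ↔
          ∀ (p : ℕ) (_ : Fact p.Prime) (P : Sylow p (fittingSubgroup G)),
            (P : Subgroup (fittingSubgroup G)).Normal)).mp
        inferInstance 2 inferInstance P
    haveI := P.characteristic_of_normal inferInstance
    have hn : ((P : Subgroup (fittingSubgroup G)).map (fittingSubgroup G).subtype).Normal :=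
      inferInstance
    have hb := PCore.le_pCore (P.2.map (fittingSubgroup G).subtype)
    rw [hO] at hb
    exact hw1 (hb ⟨⟨w, hRp hw⟩, hP (mem_zpowers w), rfl⟩)
  have faith : ∀ B : Subgroup G, B.Normal → B ≠ ⊥ →
      V ⊓ centralizer (B : Set G) = ⊥ ∧ B ⊔ V = ⊤ := by
    intro B hB hB1
    have h1 : V ⊓ centralizer (B : Set G) = ⊥ :=
      (dich B hB).resolve_left fun h => hB1 (le_bot_iff.mp (hZ ▸ central B hB h))
    refine ⟨h1, by_contra fun hne => ?_⟩
    obtain ⟨w, hwV, hw1, hw⟩ := sub _ le_sup_right hne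
    have : w ∈ V ⊓ centralizer (B : Set G) := ⟨hwV, mem_centralizer_of_mem_pCore hO B le_sup_left hw⟩
    rw [h1, mem_bot] at this
    exact hw1 this
  obtain ⟨N, hN, hN1, hmin⟩ := Socle.exists_minimal_normal (G := G)
  obtain ⟨hNV, hNtop⟩ := faith N hN hN1
  have hdec : ∀ g : G, ∃ n ∈ N, ∃ v ∈ V, g = n * v := fun g => by
    obtain ⟨n, hn, v, hv, h⟩ := Subgroup.mem_sup_of_normal_left.mp (hNtop ▸ mem_top g : g ∈ N ⊔ V)
    exact ⟨n, hn, v, hv, h.symm⟩
  -- `N` is not abelian
  have hnc : ¬ IsMulCommutative N := by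
    intro hc
    have hnn : ∀ a ∈ N, ∀ b ∈ N, Commute a b := fun a ha b hb =>
      congrArg Subtype.val (hc.is_comm.comm (⟨a, ha⟩ : N) ⟨b, hb⟩)
    have hodd : Odd (Nat.card N) := by
      rw [← Nat.not_even_iff_odd, even_iff_two_dvd]
      intro h2
      haveI : Fact (Nat.Prime 2) := ⟨Nat.prime_two⟩
      let P : Sylow 2 N := default
      haveI : (P : Subgroup N).Normal := ⟨fun x hx g => by
        rwa [hc.is_comm.comm g x, mul_inv_cancel_right]⟩
      haveI := P.characteristic_of_normal inferInstance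
      have hn : ((P : Subgroup N).map N.subtype).Normal := inferInstance
      have hb := PCore.le_pCore (P.2.map N.subtype)
      rw [hO, le_bot_iff, map_eq_bot_iff_of_injective _ N.subtype_injective] at hb
      exact Sylow.ne_bot_of_dvd_card P h2 hb
    obtain ⟨n, hn, hne⟩ : ∃ n ∈ N, v0 * n ≠ n * v0 := by
      by_contra! hh
      have : v0 ∈ V ⊓ centralizer (N : Set G) :=
        ⟨hv0, mem_centralizer_iff.mpr fun n hn => (hh n hn).symm⟩
      rw [hNV, mem_bot] at this
      exact hv01 this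
    set x := v0 * n * v0⁻¹ * n⁻¹ with hx
    have hxN : x ∈ N := mul_mem (hN.conj_mem n hn v0) (inv_mem hn)
    have hinv : v0 * x * v0⁻¹ = x⁻¹ := by
      have h2 : v0 * v0 = 1 := by rw [← pow_two]; exact hV.2 v0 hv0
      have hi := hinvV v0 hv0
      rw [hx, hi]
      simp only [mul_inv_rev, inv_inv, hi]
      calc v0 * (v0 * n * v0 * n⁻¹) * v0 = (v0 * v0) * n * v0 * n⁻¹ * v0 := by group
        _ = n * (v0 * (n⁻¹ * v0)) := by rw [h2]; group
    have hxo : Odd (orderOf x) :=
      hodd.of_dvd_nat (Subgroup.orderOf_mk x hxN ▸ orderOf_dvd_natCard _)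
    have hx1 : x ≠ 1 := fun e => hne (mul_inv_eq_iff_eq_mul.mp (mul_inv_eq_one.mp e))
    obtain ⟨w, hwV, hw1, hwx⟩ := hS x v0 hv0 hxo hinv
    have hCn : (N ⊓ centralizer ({w} : Set G)).Normal := by
      refine ⟨fun m hm g => ⟨hN.conj_mem m hm.1 g, ?_⟩⟩
      obtain ⟨a, ha, v, hv, rfl⟩ := hdec g
      have hb : v * m * v⁻¹ ∈ N := hN.conj_mem m hm.1 v
      have e : a * v * m * (a * v)⁻¹ = v * m * v⁻¹ := by
        calc a * v * m * (a * v)⁻¹ = (a * (v * m * v⁻¹)) * a⁻¹ := by group
          _ = v * m * v⁻¹ := by rw [(hnn a ha _ hb).eq, mul_inv_cancel_right]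
      rw [e]
      refine mem_centralizer_singleton_iff.mpr ?_
      have h1 : Commute m w := mem_centralizer_singleton_iff.mp hm.2
      have hvw := hcomm v hv w hwV
      exact ((hvw.mul_left h1).mul_left hvw.inv_left).eq
    rcases hmin _ hCn inf_le_left with h | h
    · have : x ∈ N ⊓ centralizer ({w} : Set G) :=
        ⟨hxN, mem_centralizer_singleton_iff.mpr hwx.symm⟩
      rw [h, mem_bot] at this
      exact hx1 this
    · have : w ∈ V ⊓ centralizer (N : Set G) := ⟨hwV, mem_centralizer_iff.mpr fun m hm =>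
        mem_centralizer_singleton_iff.mp (h.ge hm).2⟩
      rw [hNV, mem_bot] at this
      exact hw1 this
  obtain ⟨𝒯, hF⟩ := Socle.exists_factors N hN1 hmin hnc
  obtain ⟨T, hT⟩ := hF.nonempty
  haveI := hF.simple T hT
  have hns : ¬ Group.IsSolvable T := fun h =>
    hF.nonabelian T hT ⟨⟨IsSimpleGroup.comm_iff_isSolvable.mpr h⟩⟩
  have hstab : ∀ g : G, Socle.conjSub g T = T → g ∈ normalizer (T : Set G) := by
    intro g hg
    rw [mem_normalizer_iff]
    intro x
    conv_rhs => rw [← hg, Socle.mem_conjSub]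
    simp [mul_assoc]
  have htrans : ∀ S ∈ 𝒯, ∃ v ∈ V, Socle.conjSub v T = S := by
    intro S hS'
    obtain ⟨g, rfl⟩ := hF.exists_conj T hT S hS'
    obtain ⟨n, hn, v, hv, rfl⟩ := hdec g
    exact ⟨v, hv, by rw [← Socle.conjSub_mul, hF.conjSub_eq_of_mem (hF.conj_mem T hT v) hn]⟩
  have hTN : T = N := by
    by_contra hne
    set H := V ⊓ normalizer (T : Set G) with hH
    have hHne : H ≠ V := by
      intro e
      refine hne ((hmin T ?_ (hF.le T hT)).resolve_left (hF.ne_bot hT))
      refine ⟨fun x hx g => ?_⟩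
      have hg : g ∈ normalizer (T : Set G) := by
        obtain ⟨n, hn, v, hv, rfl⟩ := hdec g
        exact mul_mem (hstab n (hF.conjSub_eq_of_mem hT hn)) ((e.ge hv).2)
      exact (mem_normalizer_iff.mp hg x).mp hx
    have hHfix : ∀ r ∈ H, ∀ S ∈ 𝒯, Socle.conjSub r S = S := by
      intro r hr S hS'
      obtain ⟨v, hv, rfl⟩ := htrans S hS'
      rw [Socle.conjSub_mul, (hcomm r hr.1 v hv).eq, ← Socle.conjSub_mul,
        Socle.conjSub_eq_self hr.2]
    -- coordinates of conjugates
    have hcc : ∀ (g : G) (n : N) (S : Subgroup G) (hS' : S ∈ 𝒯) (hg : Socle.conjSub g S = S),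
        hF.coord hS' ⟨g * n * g⁻¹, hN.conj_mem n n.2 g⟩ = g * hF.coord hS' n * g⁻¹ :=
      fun g n S hS' hg => (hF.coord_congr (hF.conj_mem S hS' g) hS' hg _).symm.trans
        (hF.coord_conj hS' g n)
    have hfixn : ∀ (g : G) (n : N), g * n = n * g → ∀ S (hS' : S ∈ 𝒯),
        hF.coord (hF.conj_mem S hS' g) n = g * hF.coord hS' n * g⁻¹ := fun g n hgn S hS' => by
      rw [← hF.coord_conj hS' g n]
      congr 1
      exact Subtype.ext (by simp [hgn])
    by_cases hH1 : H = ⊥
    · -- no factor is fixed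
      obtain ⟨t, htT, ht1, hto⟩ : ∃ t ∈ T, t ≠ 1 ∧ Odd (orderOf t) := by
        obtain ⟨q, hq, hq2, hqd⟩ : ∃ q : ℕ, q.Prime ∧ q ≠ 2 ∧ q ∣ Nat.card T := by
          by_contra! hall
          have hk : Nat.card T = 2 ^ (Nat.card T).primeFactorsList.length :=
            Nat.eq_prime_pow_of_unique_prime_dvd Nat.card_pos.ne' fun {d} hd hdd =>
              by_contra fun h => hall d hd h hdd
          have : Fact (Nat.Prime 2) := ⟨Nat.prime_two⟩
          haveI := (IsPGroup.of_card hk).isNilpotent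
          exact hns inferInstance
        haveI : Fact q.Prime := ⟨hq⟩
        obtain ⟨t, ht⟩ := exists_prime_orderOf_dvd_card' q hqd
        refine ⟨t, t.2, ?_, ?_⟩
        · intro e
          rw [show t = 1 from Subtype.ext e, orderOf_one] at ht
          exact hq.one_lt.ne ht
        · rw [Subgroup.orderOf_coe t]
          exact ht ▸ hq.odd_of_ne_two hq2
      have hv0T : Socle.conjSub v0 T ≠ T := fun e => hv01 (by
        have : v0 ∈ H := ⟨hv0, hstab v0 e⟩
        rwa [hH1, mem_bot] at this)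
      set t' := v0 * t * v0⁻¹ with ht'
      have ht'T : t' ∈ Socle.conjSub v0 T := Socle.conj_mem_conjSub htT
      have htt : Commute t t' :=
        hF.comm T hT _ (hF.conj_mem T hT v0) (fun e => hv0T e.symm) t htT t' ht'T
      have hh : t * t'⁻¹ ∈ N :=
        mul_mem (hF.le T hT htT) (inv_mem (hF.le _ (hF.conj_mem T hT v0) ht'T))
      have h2 : v0 * v0 = 1 := by rw [← pow_two]; exact hV.2 v0 hv0
      have hinv : v0 * (t * t'⁻¹) * v0⁻¹ = (t * t'⁻¹)⁻¹ := by
        have e : v0 * t' * v0⁻¹ = t := by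
          rw [ht']; calc v0 * (v0 * t * v0⁻¹) * v0⁻¹ = (v0 * v0) * t * (v0 * v0)⁻¹ := by group
            _ = t := by rw [h2]; group
        calc v0 * (t * t'⁻¹) * v0⁻¹ = (v0 * t * v0⁻¹) * (v0 * t' * v0⁻¹)⁻¹ := by group
          _ = t' * t⁻¹ := by rw [e]
          _ = _ := by group
      have hho : Odd (orderOf (t * t'⁻¹)) := by
        refine Odd.of_dvd_nat (hto.mul ?_) htt.inv_right.orderOf_mul_dvd_mul_orderOf
        rw [orderOf_inv, show t' = MulAut.conj v0 t from rfl, MulEquiv.orderOf_eq]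
        exact hto
      obtain ⟨w, hwV, hw1, hwh⟩ := hS _ v0 hv0 hho hinv
      have hcT : ∀ S (hS' : S ∈ 𝒯), S ≠ Socle.conjSub v0 T →
          hF.coord hS' ⟨t * t'⁻¹, hh⟩ = hF.coord hS' ⟨t, hF.le T hT htT⟩ := fun S hS' hne' => by
        rw [show (⟨t * t'⁻¹, hh⟩ : N) = ⟨t, hF.le T hT htT⟩ *
          ⟨t'⁻¹, inv_mem (hF.le _ (hF.conj_mem T hT v0) ht'T)⟩ from rfl, map_mul,
          hF.coord_of_ne hS' (hF.conj_mem T hT v0) hne'
            (n := ⟨t'⁻¹, inv_mem (hF.le _ (hF.conj_mem T hT v0) ht'T)⟩) (inv_mem ht'T), mul_one]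
      have hTc : hF.coord hT ⟨t * t'⁻¹, hh⟩ = t :=
        (hcT T hT fun e => hv0T e.symm).trans (hF.coord_self hT htT)
      have hwT := hfixn w ⟨t * t'⁻¹, hh⟩ hwh T hT
      rw [hTc] at hwT
      by_cases hwv : Socle.conjSub w T = Socle.conjSub v0 T
      · have : v0 * w ∈ H := by
          refine ⟨mul_mem hv0 hwV, hstab _ ?_⟩
          rw [← Socle.conjSub_mul, hwv, Socle.conjSub_mul, h2, Socle.conjSub_one]
        rw [hH1, mem_bot] at this
        have hwv0 : w = v0 := by
          rw [← hinvV v0 hv0]; exact (eq_inv_of_mul_eq_one_right this)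
        rw [hwv0] at hwh
        have hfix : v0 * (t * t'⁻¹) * v0⁻¹ = t * t'⁻¹ := by rw [hwh, mul_inv_cancel_right]
        rw [hinv] at hfix
        have h1 := eq_one_of_odd_of_inv hho hfix
        apply ht1
        rw [← hTc, show (⟨t * t'⁻¹, hh⟩ : N) = 1 from Subtype.ext h1, map_one]
      · rw [hcT _ _ hwv] at hwT
        by_cases hwT' : Socle.conjSub w T = T
        · have : w ∈ H := ⟨hwV, hstab w hwT'⟩
          rw [hH1, mem_bot] at this
          exact hw1 this
        · rw [hF.coord_of_ne (hF.conj_mem T hT w) hT hwT' htT] at hwT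
          exact ht1 (conj_eq_one_iff.mp hwT.symm)
    · obtain ⟨h0, u, hu, hodd, hinv, hno⟩ := notSidki H inf_le_left hH1 hHne
      have hN2 : IsPGroup 2 (G ⧸ N) := fun x => by
        obtain ⟨g, rfl⟩ := QuotientGroup.mk_surjective x
        obtain ⟨n, hn, v, hv, rfl⟩ := hdec g
        refine ⟨1, ?_⟩
        have e : (QuotientGroup.mk (n * v) : G ⧸ N) = QuotientGroup.mk v := by
          rw [QuotientGroup.mk_mul, (QuotientGroup.eq_one_iff n).mpr hn, one_mul]
        rw [e, pow_one, ← QuotientGroup.mk_pow, hV.2 v hv, QuotientGroup.mk_one]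
      have hh0 : h0 ∈ N := by
        rw [← QuotientGroup.eq_one_iff, ← orderOf_eq_one_iff]
        obtain ⟨k, hk⟩ := hN2 (h0 : G ⧸ N)
        obtain ⟨j, -, hj⟩ := (Nat.dvd_prime_pow Nat.prime_two).mp (orderOf_dvd_of_pow_eq_one hk)
        have hd : orderOf (h0 : G ⧸ N) ∣ orderOf h0 := orderOf_map_dvd (QuotientGroup.mk' N) h0
        rcases j with _ | j
        · simpa using hj
        · exact absurd (hodd.of_dvd_nat (hj ▸ hd)) (by simp [Nat.not_odd_iff_even, Nat.even_pow])
      set n0 : N := ⟨h0, hh0⟩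
      have huc : ∀ S (hS' : S ∈ 𝒯), u * hF.coord hS' n0 * u⁻¹ = (hF.coord hS' n0)⁻¹ := by
        intro S hS'
        rw [← hcc u n0 S hS' (hHfix u hu S hS'), ← map_inv]
        congr 1
        exact Subtype.ext hinv
      classical
      haveI : Fintype (Subgroup G) := Fintype.ofFinite _
      let good : Finset (Subgroup G) → Prop := fun s => ∀ r ∈ H,
        (∀ S (hS' : S ∈ 𝒯), S ∈ s → r * hF.coord hS' n0 = hF.coord hS' n0 * r) → r = 1
      have huniv : good Finset.univ := fun r hr hall => hno r hr <| by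
        have : (⟨r * n0 * r⁻¹, hN.conj_mem n0 n0.2 r⟩ : N) = n0 := hF.coord_ext fun S hS' => by
          rw [hcc r n0 S hS' (hHfix r hr S hS'), hall S hS' (Finset.mem_univ S), mul_inv_cancel_right]
        exact mul_inv_eq_iff_eq_mul.mp (congrArg Subtype.val this)
      obtain ⟨s, hs, hsmin⟩ := wellFounded_lt.has_min {s | good s} ⟨_, huniv⟩
      obtain ⟨n, hn⟩ := Socle.exists_coord_eq hF
        (fun S hS' => if S ∈ s then hF.coord hS' n0 else 1)
        (fun S hS' => by split_ifs; exacts [hF.coord_mem hS' n0, S.one_mem])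
      have hno' : Odd (orderOf (n : G)) := by
        refine hodd.of_dvd_nat (orderOf_dvd_of_pow_eq_one ?_)
        have : n ^ orderOf h0 = 1 := hF.coord_ext fun S hS' => by
          rw [map_pow, hn S hS', map_one]
          split_ifs
          · rw [← map_pow, show n0 ^ orderOf h0 = 1 from Subtype.ext (pow_orderOf_eq_one h0), map_one]
          · exact one_pow _
        exact congrArg Subtype.val this
      have hninv : u * n * u⁻¹ = (n : G)⁻¹ := by
        have : (⟨u * n * u⁻¹, hN.conj_mem n n.2 u⟩ : N) = n⁻¹ := hF.coord_ext fun S hS' => by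
          rw [hcc u n S hS' (hHfix u hu S hS'), map_inv, hn S hS']
          split_ifs
          · exact huc S hS'
          · simp
        exact congrArg Subtype.val this
      obtain ⟨w, hwV, hw1, hwn⟩ := hS n u hu.1 hno' hninv
      have hne1 : ∀ S (hS' : S ∈ 𝒯), S ∈ s → hF.coord hS' n0 ≠ 1 := by
        intro S hS' hSs e
        refine hsmin (s.erase S) (fun r hr hall => hs r hr fun S' hS'' hs' => ?_) (Finset.erase_ssubset hSs)
        by_cases hSS : S' = S
        · subst hSS; rw [e, mul_one, one_mul]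
        · exact hall S' hS'' (Finset.mem_erase.mpr ⟨hSS, hs'⟩)
      obtain ⟨S, hS', hSs⟩ : ∃ S, ∃ _ : S ∈ 𝒯, S ∈ s := by
        by_contra hcon
        obtain ⟨⟨r, hr⟩, hr1⟩ := Subgroup.ne_bot_iff_exists_ne_one.mp hH1
        exact hr1 (Subtype.ext (hs r hr fun S hS' hSs => absurd ⟨S, hS', hSs⟩ hcon))
      have key : ∀ S (hS' : S ∈ 𝒯), S ∈ s → Socle.conjSub w S ∈ s ∧
          hF.coord (hF.conj_mem S hS' w) n0 = w * hF.coord hS' n0 * w⁻¹ := by
        intro S hS' hSs
        have h := hfixn w n hwn S hS'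
        rw [hn, hn S hS', if_pos hSs] at h
        split_ifs at h with hwS
        · exact ⟨hwS, h⟩
        · exact absurd (conj_eq_one_iff.mp h.symm) (hne1 S hS' hSs)
      by_cases hwH : w ∈ H
      · refine hw1 (hs w hwH fun S hS' hSs => ?_)
        have h := (key S hS' hSs).2
        rw [hF.coord_congr (hF.conj_mem S hS' w) hS' (hHfix w hwH S hS')] at h
        exact (mul_inv_eq_iff_eq_mul.mp h.symm)
      · have hwS : Socle.conjSub w S ≠ S := by
          intro e
          obtain ⟨v, hv, rfl⟩ := htrans S hS'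
          apply hwH
          refine ⟨hwV, hstab w ?_⟩
          have e' := congrArg (Socle.conjSub v⁻¹) e
          rw [Socle.conjSub_mul, Socle.conjSub_mul, Socle.conjSub_mul, inv_mul_cancel,
            Socle.conjSub_one, mul_assoc, (hcomm w hwV v hv).eq, inv_mul_cancel_left] at e'
          exact e'
        obtain ⟨hwSs, hwc⟩ := key S hS' hSs
        refine hsmin (s.erase (Socle.conjSub w S)) (fun r hr hall => hs r hr fun S' hS'' hs' => ?_)
          (Finset.erase_ssubset hwSs)
        by_cases hSS : S' = Socle.conjSub w S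
        · subst hSS
          rw [hwc]
          have h1 : Commute r (hF.coord hS' n0) :=
            hall S hS' (Finset.mem_erase.mpr ⟨fun e => hwS e.symm, hSs⟩)
          have h2 := hcomm r hr.1 w hwV
          exact ((h2.mul_right h1).mul_right h2.inv_right).eq
        · exact hall S' hS'' (Finset.mem_erase.mpr ⟨hSS, hs'⟩)
  have hCN : centralizer (N : Set G) = ⊥ := by
    by_contra hne
    obtain ⟨-, htop⟩ := faith (centralizer (N : Set G)) inferInstance hne
    have hdis : ∀ x ∈ N, x ∈ centralizer (N : Set G) → x = 1 := fun x hx hxc =>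
      hF.eq_one x hx fun S hS' => centralizer_le (hF.le S hS') hxc
    refine hnc ⟨⟨fun a b => Subtype.ext ?_⟩⟩
    have hab : ∀ g k : G, g * k * g⁻¹ * k⁻¹ ∈ centralizer (N : Set G) := by
      intro g k
      obtain ⟨c, hc, v, hv, rfl⟩ := Subgroup.mem_sup_of_normal_left.mp
        (htop ▸ mem_top g : g ∈ centralizer (N : Set G) ⊔ V)
      obtain ⟨d, hd, z, hz, rfl⟩ := Subgroup.mem_sup_of_normal_left.mp
        (htop ▸ mem_top k : k ∈ centralizer (N : Set G) ⊔ V)
      rw [← QuotientGroup.eq_one_iff]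
      simp only [QuotientGroup.mk_mul, QuotientGroup.mk_inv, (QuotientGroup.eq_one_iff c).mpr hc,
        (QuotientGroup.eq_one_iff d).mpr hd, one_mul]
      rw [← QuotientGroup.mk_mul, ← QuotientGroup.mk_inv, ← QuotientGroup.mk_inv,
        ← QuotientGroup.mk_mul, ← QuotientGroup.mk_mul, (hcomm v hv z hz).eq, mul_inv_cancel_right,
        mul_inv_cancel, QuotientGroup.mk_one]
    have h1 := hdis _ (mul_mem (hN.conj_mem b b.2 (a : G)) (inv_mem b.2)) (hab a b)
    exact mul_inv_eq_iff_eq_mul.mp (mul_inv_eq_one.mp h1)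
  have hle : generalizedFittingSubgroup G ≤ N := by
    refine sup_le (sSup_le fun K hK => ?_) ?_
    · rcases Components.IsComponent.le_or_commutator_eq_bot_of_normal hK N with h | h
      · exact h
      · rw [commutator_eq_bot_iff_le_centralizer, hCN, le_bot_iff] at h
        exact absurd h (Components.IsComponent.ne_bot hK)
    · rcases hmin _ (inferInstance : (fittingSubgroup G ⊓ N).Normal) inf_le_right with h | h
      · have : fittingSubgroup G ≤ centralizer (N : Set G) := fun x hx =>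
          mem_centralizer_iff.mpr fun m hm => by
            have h1 : m * x * m⁻¹ * x⁻¹ ∈ fittingSubgroup G ⊓ N :=
              ⟨(fittingSubgroup G).mul_mem ((Components.fittingSubgroup_normal G).conj_mem x hx m) ((fittingSubgroup G).inv_mem hx), by
                have := N.mul_mem hm (hN.conj_mem m⁻¹ (inv_mem hm) x)
                simpa [mul_assoc] using this⟩
            rw [h, mem_bot] at h1
            exact mul_inv_eq_iff_eq_mul.mp (mul_inv_eq_one.mp h1)
        rw [hCN] at this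
        exact this.trans bot_le
      · exfalso
        apply hns
        have hTF : T ≤ fittingSubgroup G := (hF.le T hT).trans (h.ge.trans inf_le_left)
        haveI : Group.IsSolvable (fittingSubgroup G) := inferInstance
        exact Group.isSolvable_of_isSolvable_injective (inclusion_injective hTF)
  have hFN : generalizedFittingSubgroup G = N :=
    (hmin _ inferInstance hle).resolve_left Components.generalizedFittingSubgroup_ne_bot
  rw [hFN, ← hTN]
  refine ⟨inferInstance, hF.nonabelian T hT, ?_⟩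
  rw [hTN, sup_comm]; exact hNtop

end Cfsg.Agent.S3048
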