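import Cfsg.Statements.S3050
import Cfsg.Agent.Lib.HigmanSL2.Main
-- import your own Cfsg.Agent.* helpers here

set_option autoImplicit false
open Cfsg

namespace Cfsg.Agent.S3050

/-- Let G be a finite group with a normal 2-subgroup Q such that G/Q is isomorphic to SL(2, 2ⁿ) with n ≥ 2, and suppose some element of G of order 3 fixes no nonidentity element of Q under conjugation. Then Q is elementary abelian and is the direct product of normal subgroups of G on each of which G acts as SL(2, 2ⁿ) acts on its natural two-dimensional module (a Galois twist of the natural action allowed). -/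
theorem result {G : Type*} [Group G] [Finite G]
    (Q : Subgroup G) [Q.Normal] (hQ : IsPGroup 2 ↥Q) (n : ℕ) (hn : 2 ≤ n)
    (K : Type*) [Field K] [Fintype K] (hK : Fintype.card K = 2 ^ n)
    (e : G ⧸ Q ≃* Matrix.SpecialLinearGroup (Fin 2) K)
    (x : G) (hx : orderOf x = 3) (hfpf : ∀ q ∈ Q, x * q * x⁻¹ = q → q = 1) :
    Cfsg.IsElementaryAbelian 2 Q ∧
      ∃ (k : ℕ) (V : Fin k → Subgroup G), (∀ i, V i ≤ Q ∧ (V i).Normal ∧
        Cfsg.ActsAsSL2OnSection K ⊤ ⊤ (V i) ⊥) ∧ iSupIndep V ∧ ⨆ i, V i = Q := by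
  classical
  have hF : (2 : K) = 0 := by
    have h0 : ((Fintype.card K : ℕ) : K) = 0 := FiniteField.cast_card_eq_zero K
    rw [hK, Nat.cast_pow] at h0
    exact_mod_cast eq_zero_of_pow_eq_zero h0
  have hcard : 4 ≤ Nat.card K := by
    rw [Nat.card_eq_fintype_card, hK, show (4 : ℕ) = 2 ^ 2 by norm_num]
    exact Nat.pow_le_pow_right (by norm_num) hn
  obtain ⟨h2, k, φ, hadd, hact⟩ := Cfsg.Agent.HigmanSL2.higman Q hQ hF hcard e x hx hfpf
  have hinv : ∀ a : ↥Q, a⁻¹ = a := fun a => inv_eq_of_mul_eq_one_left (Subtype.ext (h2 _ a.2))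
  refine ⟨⟨⟨⟨fun a b => ?_⟩⟩, fun a ha => by rw [pow_two]; exact h2 a ha⟩, k, ?_⟩
  · calc a * b = (a * b)⁻¹ := (hinv _).symm
      _ = b * a := by rw [_root_.mul_inv_rev, hinv, hinv]
  have hφ0 : φ 0 = 1 := by
    have h := hadd 0 0
    rw [add_zero] at h
    exact (mul_eq_left.1 h.symm)
  let φm : Multiplicative (Fin k → Fin 2 → K) →* G :=
    { toFun := fun v => (φ (Multiplicative.toAdd v) : G)
      map_one' := by rw [toAdd_one, hφ0]; rfl
      map_mul' := fun v w => by rw [toAdd_mul, hadd]; rfl }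
  let P : Fin k → Subgroup (Multiplicative (Fin k → Fin 2 → K)) := fun i =>
    (AddMonoidHom.single (fun _ : Fin k => Fin 2 → K) i).toMultiplicative.range
  have hP : ∀ i v, v ∈ P i ↔ ∀ j, j ≠ i → Multiplicative.toAdd v j = 0 := fun i v => by
    constructor
    · rintro ⟨w, rfl⟩ j hj
      exact Pi.single_eq_of_ne hj _
    · intro h
      refine ⟨Multiplicative.ofAdd (Multiplicative.toAdd v i), Multiplicative.toAdd.injective ?_⟩
      funext j
      show Pi.single (M := fun _ : Fin k => Fin 2 → K) i (Multiplicative.toAdd v i) j = Multiplicative.toAdd v j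
      by_cases hj : j = i
      · subst hj; simp
      · rw [Pi.single_eq_of_ne hj, h j hj]
  have hinj : Function.Injective φm := fun v w h =>
    Multiplicative.toAdd.injective (φ.injective (Subtype.ext h))
  refine ⟨fun i => (P i).map φm, fun i => ⟨?_, ?_, ?_⟩, ?_, ?_⟩
  · rintro _ ⟨v, -, rfl⟩; exact (φ _).2
  · refine ⟨fun y hy g => ?_⟩
    obtain ⟨v, hv, rfl⟩ := hy
    refine ⟨Multiplicative.ofAdd fun j =>
      ((e (g : G ⧸ Q) : Matrix.SpecialLinearGroup (Fin 2) K) : Matrix (Fin 2) (Fin 2) K).mulVec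
        (Multiplicative.toAdd v j), (hP _ _).2 fun j hj => ?_, hact g _⟩
    show Matrix.mulVec _ (Multiplicative.toAdd v j) = 0
    rw [(hP _ _).1 hv j hj, Matrix.mulVec_zero]
  · refine ⟨fun g _ => Subgroup.mem_normalizer_iff.2 fun y => ?_, bot_le,
      (e.toMonoidHom.comp (QuotientGroup.mk' Q)).comp (⊤ : Subgroup G).subtype, ?_, ?_, ?_, ?_, ?_⟩
    · have hN : ∀ g y, y ∈ (P i).map φm → g * y * g⁻¹ ∈ (P i).map φm := by
        rintro g _ ⟨v, hv, rfl⟩
        refine ⟨Multiplicative.ofAdd fun j =>
          ((e (g : G ⧸ Q) : Matrix.SpecialLinearGroup (Fin 2) K) : Matrix (Fin 2) (Fin 2) K).mulVec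
            (Multiplicative.toAdd v j), (hP _ _).2 fun j hj => ?_, hact g _⟩
        show Matrix.mulVec _ (Multiplicative.toAdd v j) = 0
        rw [(hP _ _).1 hv j hj, Matrix.mulVec_zero]
      refine ⟨hN g y, fun h => ?_⟩
      have := hN g⁻¹ _ h
      convert this using 1
      group
    · exact
        { toFun := fun u => Multiplicative.ofAdd
            (φ.symm ⟨(u : G), (by obtain ⟨v, -, hv⟩ := u.2; rw [← hv]; exact (φ _).2)⟩ i)
          map_one' := by
            apply Multiplicative.toAdd.injective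
            show φ.symm _ i = 0
            rw [show (⟨((1 : ↥((P i).map φm)) : G), _⟩ : ↥Q) = φ 0 from Subtype.ext (by rw [hφ0]; rfl),
              Equiv.symm_apply_apply]
            rfl
          map_mul' := fun u w => by
            apply Multiplicative.toAdd.injective
            show φ.symm _ i = φ.symm _ i + φ.symm _ i
            rw [← Pi.add_apply]
            refine congrFun (φ.injective ?_) i
            rw [hadd, Equiv.apply_symm_apply, Equiv.apply_symm_apply, Equiv.apply_symm_apply]
            rfl }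
    · rw [MonoidHom.range_eq_top]
      intro s
      obtain ⟨g, hg⟩ := QuotientGroup.mk_surjective (e.symm s)
      exact ⟨⟨g, Subgroup.mem_top g⟩, by simp [hg]⟩
    · intro z
      refine ⟨⟨φm (Multiplicative.ofAdd (Pi.single i (Multiplicative.toAdd z))),
        Subgroup.mem_map_of_mem φm ⟨z, rfl⟩⟩, ?_⟩
      apply Multiplicative.toAdd.injective
      show φ.symm (φ (Pi.single i (Multiplicative.toAdd z))) i = _
      rw [Equiv.symm_apply_apply, Pi.single_eq_same]
    · rintro ⟨_, v, hv, rfl⟩
      rw [Subgroup.mem_bot]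
      constructor
      · intro h
        have h' : φ.symm (φ (Multiplicative.toAdd v)) i = 0 := congrArg Multiplicative.toAdd h
        rw [Equiv.symm_apply_apply] at h'
        have hv0 : v = 1 := Multiplicative.toAdd.injective (funext fun j => by
          by_cases hj : j = i
          · subst hj; exact h'
          · exact (hP _ _).1 hv j hj)
        show φm v = 1
        rw [hv0, map_one]
      · intro h
        have hv0 : v = 1 := hinj (h.trans (map_one φm).symm)
        apply Multiplicative.toAdd.injective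
        show φ.symm (φ (Multiplicative.toAdd v)) i = 0
        rw [Equiv.symm_apply_apply, hv0]
        rfl
    · rintro ⟨g, -⟩ ⟨_, v, hv, rfl⟩
      refine ⟨⟨g * φm v * g⁻¹, Multiplicative.ofAdd fun j =>
        ((e (g : G ⧸ Q) : Matrix.SpecialLinearGroup (Fin 2) K) : Matrix (Fin 2) (Fin 2) K).mulVec
          (Multiplicative.toAdd v j), (hP _ _).2 fun j hj => ?_, hact g _⟩, rfl, ?_⟩
      · show Matrix.mulVec _ (Multiplicative.toAdd v j) = 0
        rw [(hP _ _).1 hv j hj, Matrix.mulVec_zero]
      · show φ.symm ⟨g * φm v * g⁻¹, _⟩ i = Matrix.mulVec _ (φ.symm (φ (Multiplicative.toAdd v)) i)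
        rw [Equiv.symm_apply_apply]
        have h : (⟨g * φm v * g⁻¹, Subgroup.Normal.conj_mem inferInstance _ (φ _).2 g⟩ : ↥Q) =
            φ (fun j => ((e (g : G ⧸ Q) : Matrix.SpecialLinearGroup (Fin 2) K) :
              Matrix (Fin 2) (Fin 2) K).mulVec (Multiplicative.toAdd v j)) :=
          Subtype.ext (hact g _).symm
        rw [show φ.symm ⟨g * φm v * g⁻¹, _⟩ = _ from (congrArg φ.symm h).trans (φ.symm_apply_apply _)]
        rfl
  · intro i
    simp only [← Subgroup.map_iSup]
    rw [disjoint_iff, ← Subgroup.map_inf _ _ _ hinj, Subgroup.map_eq_bot_iff_of_injective _ hinj]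
    rw [eq_bot_iff]
    rintro v ⟨h1, h2⟩
    have h3 : Multiplicative.toAdd v i = 0 := by
      let Z : Subgroup (Multiplicative (Fin k → Fin 2 → K)) :=
        (AddMonoidHom.toMultiplicative (Pi.evalAddMonoidHom (fun _ : Fin k => Fin 2 → K) i)).ker
      have hle : (⨆ j, ⨆ _ : j ≠ i, P j) ≤ Z := iSup₂_le fun j hj w hw => (hP j w).1 hw i hj.symm
      exact hle h2
    rw [Subgroup.mem_bot]
    apply Multiplicative.toAdd.injective
    funext j
    by_cases hj : j = i
    · subst hj; exact h3
    · exact (hP _ _).1 h1 j hj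
  · rw [← Subgroup.map_iSup]
    have htop : ⨆ i, P i = ⊤ := by
      rw [eq_top_iff]
      intro v _
      rw [show v = ∏ i, Multiplicative.ofAdd (Pi.single i (Multiplicative.toAdd v i)) by
        apply Multiplicative.toAdd.injective
        rw [toAdd_prod]
        exact (Finset.univ_sum_single _).symm]
      exact Subgroup.prod_mem _ fun i _ => Subgroup.mem_iSup_of_mem i ⟨Multiplicative.ofAdd _, rfl⟩
    rw [htop, ← MonoidHom.range_eq_map]
    refine le_antisymm (fun _ ⟨v, hv⟩ => hv ▸ (φ _).2) fun q hq => ?_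
    exact ⟨Multiplicative.ofAdd (φ.symm ⟨q, hq⟩), by
      show ((φ (φ.symm ⟨q, hq⟩) : ↥Q) : G) = q
      rw [Equiv.apply_symm_apply]⟩

end Cfsg.Agent.S3050
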