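import Cfsg.Statements.S3053
import Cfsg.Agent.Lib.PGroup.Extraspecial
import Cfsg.Agent.Lib.Transfer.Burnside
import Cfsg.Agent.Lib.StrongEmb.Basic
import Mathlib.Tactic.Group

set_option autoImplicit false
open Cfsg

namespace Cfsg.Agent.S3053
open Subgroup
open scoped Pointwise commutatorElement

/-- Let p be an odd prime and G a finite group with a Sylow p-subgroup P that is extraspecial of order p³ and exponent p². Then the centre of P is strongly closed in P with respect to G: a G-conjugate of an element of Z(P) that lies in P already lies in Z(P). In particular a nontrivial central element of P is conjugate in G to no noncentral element of P. -/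
theorem result {G : Type*} [Group G] [Finite G]
    {p : ℕ} [Fact p.Prime] (hp : p ≠ 2) (P : Sylow p G) (hE : Cfsg.IsExtraspecial p ↥P)
    (hcard : Nat.card P = p ^ 3) (hexp : Monoid.exponent ↥P = p ^ 2) :
    Cfsg.IsStronglyClosed ((Subgroup.center ↥P).map (P : Subgroup G).subtype) (P : Subgroup G) := by
  classical
  have hpp : p.Prime := Fact.out
  set Z : Subgroup G := (Subgroup.center ↥P).map (P : Subgroup G).subtype with hZ
  refine ⟨map_subtype_le _, ?_⟩
  rintro x hxZ g hgx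
  by_contra hyZ
  set y := g * x * g⁻¹ with hy
  -- facts inside `P`
  have hcl : commutator ↥(P : Subgroup G) ≤ Subgroup.center ↥(P : Subgroup G) := PGroup.special_class_two hE.1
  have hmul : ∀ a b : ↥(P : Subgroup G), (a * b) ^ p = a ^ p * b ^ p := fun a b =>
    PGroup.mul_pow_prime hpp hp (PGroup.special_commutator_mem_center hE.1 b a)
      (PGroup.special_commutator_pow hE.1 b a)
  let pw : ↥(P : Subgroup G) →* ↥(P : Subgroup G) :=
    { toFun := fun a => a ^ p, map_one' := one_pow _, map_mul' := hmul }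
  obtain ⟨u0, hu0⟩ : ∃ u : ↥(P : Subgroup G), u ^ p ≠ 1 := by
    by_contra h
    push Not at h
    have h' := hexp ▸ Monoid.exponent_dvd_of_forall_pow_eq_one h
    exact absurd (Nat.le_of_dvd hpp.pos h') (by nlinarith [hpp.two_le])
  have hker : Nat.card pw.ker = p ^ 2 := by
    have hr : Nat.card pw.range = p := by
      have h1 : pw.range ≤ Subgroup.center ↥(P : Subgroup G) := by
        rintro _ ⟨a, rfl⟩
        exact PGroup.special_pow_mem_center hE.1 a
      have h2 : Nat.card pw.range ∣ p := (card_dvd_of_le h1).trans hE.2.dvd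
      refine ((Nat.dvd_prime hpp).mp h2).resolve_left fun h => hu0 ?_
      have hb := Subgroup.card_eq_one.mp h
      have hm : pw u0 ∈ pw.range := ⟨u0, rfl⟩
      rw [hb, mem_bot] at hm
      exact hm
    have h := card_mul_index pw.ker
    rw [index_ker, hr] at h
    have h' : Nat.card pw.ker * p = p ^ 2 * p := by
      rw [h]; exact hcard.trans (by ring)
    exact Nat.eq_of_mul_eq_mul_right hpp.pos h'
  set E : Subgroup G := pw.ker.map (P : Subgroup G).subtype with hEdef
  have hEP : E ≤ (P : Subgroup G) := map_subtype_le _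
  have hEcard : Nat.card E = p ^ 2 := by
    rw [hEdef, card_map_of_injective (P : Subgroup G).subtype_injective, hker]
  have hEmem : ∀ a ∈ (P : Subgroup G), a ^ p = 1 → a ∈ E := fun a ha h =>
    ⟨⟨a, ha⟩, Subtype.ext h, rfl⟩
  have hEpow : ∀ a ∈ E, a ^ p = 1 := by
    rintro _ ⟨a, ha, rfl⟩
    exact congrArg Subtype.val ha
  haveI : IsMulCommutative E := IsPGroup.isMulCommutative_of_card_eq_prime_sq hEcard
  have hEc : ∀ a ∈ E, ∀ b ∈ E, a * b = b * a := fun a ha b hb =>
    congrArg Subtype.val (mul_comm' (⟨a, ha⟩ : E) ⟨b, hb⟩)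
  have hnorm : ∀ h : G, (∀ e ∈ E, h⁻¹ * e * h ∈ (P : Subgroup G)) →
      ∀ e ∈ E, h * e * h⁻¹ ∈ E ∧ h⁻¹ * e * h ∈ E := by
    intro h hh
    have hin : ∀ e ∈ E, h⁻¹ * e * h ∈ E := fun e he => hEmem _ (hh e he) (by
      have h1 := map_pow (MulAut.conj h⁻¹) e p
      simp [MulAut.conj_apply, hEpow e he] at h1
      exact h1.symm)
    have heq : E.map (MulAut.conj h⁻¹).toMonoidHom = E := by
      refine eq_of_le_of_card_ge ?_ (le_of_eq ?_)
      · rintro _ ⟨e, he, rfl⟩
        simpa using hin e he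
      · rw [card_map_of_injective (f := (MulAut.conj h⁻¹).toMonoidHom) (MulAut.conj h⁻¹).injective]
    intro e he
    refine ⟨?_, hin e he⟩
    obtain ⟨e', he', he''⟩ : e ∈ E.map (MulAut.conj h⁻¹).toMonoidHom := by rw [heq]; exact he
    rw [← he'']
    simpa [mul_assoc] using he'
  have hPn : ∀ a ∈ (P : Subgroup G), ∀ e ∈ E, a * e * a⁻¹ ∈ E := fun a ha e he =>
    (hnorm a (fun e he => mul_mem (mul_mem (inv_mem ha) (hEP he)) ha) e he).1
  -- the elements `x`, `y`
  obtain ⟨x0, hx0, hx0x⟩ := hxZ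
  have hxP : x ∈ (P : Subgroup G) := hx0x ▸ x0.2
  have hxcen : ∀ a ∈ (P : Subgroup G), a * x = x * a := fun a ha => by
    rw [← hx0x]
    exact congrArg Subtype.val (Subgroup.mem_center_iff.mp hx0 ⟨a, ha⟩)
  have hxp : x ^ p = 1 := by
    rw [← hx0x]
    exact congrArg Subtype.val (PGroup.special_center_pow hE.1 hx0)
  have hxE : x ∈ E := hEmem x hxP hxp
  have hyE : y ∈ E := hEmem y hgx (by rw [hy, conj_pow, hxp]; group)
  have hy0 : (⟨y, hgx⟩ : ↥(P : Subgroup G)) ∉ Subgroup.center ↥(P : Subgroup G) :=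
    fun h => hyZ ⟨_, h, rfl⟩
  have hx1 : x ≠ 1 := by
    intro h
    apply hyZ
    rw [hy, h]
    simp [one_mem]
  have hcx : ∀ h : G, ∀ a ∈ (P : Subgroup G), h * x * h⁻¹ * (h * a * h⁻¹) = h * a * h⁻¹ * (h * x * h⁻¹) := by
    intro h a ha
    calc _ = h * (x * a) * h⁻¹ := by group
      _ = h * (a * x) * h⁻¹ := by rw [hxcen a ha]
      _ = _ := by group
  -- move `g • P` onto a Sylow subgroup over `E` inside `C(y)`
  set Cy := Subgroup.centralizer ({y} : Set G)
  have hgC : ((g • P : Sylow p G) : Subgroup G) ≤ Cy := by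
    intro a ha
    rw [StrongEmb.mem_smul_sylow_iff] at ha
    rw [Subgroup.mem_centralizer_singleton_iff]
    have := hcx g _ ha
    simpa [hy, mul_assoc] using this.symm
  have hECy : E ≤ Cy := fun e he => Subgroup.mem_centralizer_singleton_iff.mpr (hEc e he y hyE)
  obtain ⟨Q, hQ⟩ := ((P.2.to_le hEP).comap_of_injective Cy.subtype Cy.subtype_injective).exists_le_sylow
  obtain ⟨c, hc⟩ := MulAction.exists_smul_eq Cy ((g • P).subtype hgC) Q
  set h := (c : G) * g with hh
  have hhy : h * x * h⁻¹ = y := by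
    have hcy := Subgroup.mem_centralizer_singleton_iff.mp c.2
    calc h * x * h⁻¹ = (c : G) * y * (c : G)⁻¹ := by rw [hh, hy]; group
      _ = y := by rw [hcy]; group
  have hhP : ∀ e ∈ E, h⁻¹ * e * h ∈ (P : Subgroup G) := by
    intro e he
    have h1 : (⟨e, hECy he⟩ : Cy) ∈ (Q : Subgroup Cy) := hQ (show e ∈ E from he)
    rw [← hc, StrongEmb.mem_smul_sylow_iff, Sylow.coe_subtype, mem_subgroupOf] at h1
    simp only [Subgroup.coe_mul, Subgroup.coe_inv] at h1
    rw [StrongEmb.mem_smul_sylow_iff] at h1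
    simpa [hh, mul_assoc] using h1
  have hhE := hnorm h hhP
  -- the two transvections
  obtain ⟨u, hu⟩ := PGroup.exists_commutator_eq hE hy0 hx0
  have huy : (u : G) * y * (u : G)⁻¹ = x * y := by
    have h1 : (u : G) * y * (u : G)⁻¹ * y⁻¹ = (x0 : G) := congrArg Subtype.val hu
    rw [← hx0x]
    show _ = (x0 : G) * y
    rw [← h1]
    group
  set a := h⁻¹ * x * h with ha
  have haE : a ∈ E := (hhE x hxE).2
  have ha0 : (⟨a, hEP haE⟩ : ↥(P : Subgroup G)) ∉ Subgroup.center ↥(P : Subgroup G) := by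
    intro hac
    -- then `a` is a power of `x`, so `x` is a power of `y`, so `y` is central
    haveI : Fact (Nat.card (Subgroup.center ↥(P : Subgroup G))).Prime := ⟨hE.2.symm ▸ hpp⟩
    have hx0' : (⟨x0, hx0⟩ : Subgroup.center ↥(P : Subgroup G)) ≠ 1 := by
      intro h1
      apply hx1
      rw [← hx0x]
      exact congrArg (fun z : Subgroup.center ↥(P : Subgroup G) => ((z : ↥(P : Subgroup G)) : G)) h1
    have hmem := mem_zpowers_of_prime_card hE.2 (g := ⟨x0, hx0⟩) hx0' (g' := ⟨_, hac⟩)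
    obtain ⟨k, hk⟩ := mem_zpowers_iff.mp hmem
    have hk' : x ^ k = a := by
      rw [← hx0x]
      simpa using congrArg (fun z : Subgroup.center ↥(P : Subgroup G) => ((z : ↥(P : Subgroup G)) : G)) hk
    have hxy : x = y ^ k := by
      rw [← hhy, conj_zpow, hk', ha]; group
    have hyk : orderOf y = p := by
      apply orderOf_eq_prime (hEpow y hyE)
      intro h1
      exact hy0 (by
        have : (⟨y, hgx⟩ : ↥(P : Subgroup G)) = 1 := Subtype.ext h1
        rw [this]; exact one_mem _)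
    have hyx : y ∈ zpowers x := by
      haveI : Fact p.Prime := ⟨hpp⟩
      have hcard' : Nat.card (zpowers y) = p := by rw [Nat.card_zpowers, hyk]
      have hxm : x ∈ zpowers y := hxy ▸ zpow_mem (mem_zpowers y) k
      have := mem_zpowers_of_prime_card hcard' (g := ⟨x, hxm⟩) (fun h1 => hx1 (congrArg Subtype.val h1))
        (g' := ⟨y, mem_zpowers y⟩)
      obtain ⟨j, hj⟩ := mem_zpowers_iff.mp this
      exact ⟨j, by simpa using congrArg Subtype.val hj⟩
    obtain ⟨j, hj⟩ := hyx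
    refine hy0 ?_
    have : (⟨y, hgx⟩ : ↥(P : Subgroup G)) = x0 ^ j := by
      apply Subtype.ext
      simp only [← hj, SubgroupClass.coe_zpow]
      rw [← hx0x]; rfl
    rw [this]
    exact zpow_mem hx0 j
  obtain ⟨u', hu'⟩ := PGroup.exists_commutator_eq hE ha0 (inv_mem hx0)
  set v := h * (u' : G) * h⁻¹ with hv
  have hvx : v * x * v⁻¹ = y⁻¹ * x := by
    have h1 : (u' : G) * a * (u' : G)⁻¹ * a⁻¹ = (x0 : G)⁻¹ := congrArg Subtype.val hu'
    have h2 : (u' : G) * a * (u' : G)⁻¹ = x⁻¹ * a := by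
      rw [← hx0x]
      show _ = (x0 : G)⁻¹ * a
      rw [← h1]; group
    calc v * x * v⁻¹ = h * ((u' : G) * a * (u' : G)⁻¹) * h⁻¹ := by rw [hv, ha]; group
      _ = h * (x⁻¹ * a) * h⁻¹ := by rw [h2]
      _ = (h * x * h⁻¹)⁻¹ * x := by rw [ha]; group
      _ = _ := by rw [hhy]
  have hvy : v * y * v⁻¹ = y := by
    rw [hv, ← hhy, ← hcx h u' u'.2]; group
  have hux : (u : G) * x * (u : G)⁻¹ = x := by rw [hxcen _ u.2]; group
  set w := (u : G) * v * (u : G) with hw
  have hyx : y * x = x * y := hEc y hyE x hxE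
  have hwy : w * y * w⁻¹ = x := by
    calc w * y * w⁻¹ = (u : G) * (v * ((u : G) * y * (u : G)⁻¹) * v⁻¹) * (u : G)⁻¹ := by rw [hw]; group
      _ = (u : G) * ((v * x * v⁻¹) * (v * y * v⁻¹)) * (u : G)⁻¹ := by rw [huy]; group
      _ = (u : G) * (y⁻¹ * (x * y)) * (u : G)⁻¹ := by rw [hvx, hvy]; group
      _ = (u : G) * x * (u : G)⁻¹ := by rw [← hyx, inv_mul_cancel_left]
      _ = x := hux
  have hwx : w * x * w⁻¹ = y⁻¹ := by
    calc w * x * w⁻¹ = (u : G) * (v * ((u : G) * x * (u : G)⁻¹) * v⁻¹) * (u : G)⁻¹ := by rw [hw]; group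
      _ = ((u : G) * y * (u : G)⁻¹)⁻¹ * ((u : G) * x * (u : G)⁻¹) := by
          conv_lhs => rw [hux, hvx]
          group
      _ = y⁻¹ := by rw [huy, hux]; group
  set t := w * w with ht
  -- `t` inverts `E`
  have hinv : ∀ e ∈ E, t * e * t⁻¹ = e⁻¹ := by
    let I : Subgroup G :=
      { carrier := {e | e ∈ E ∧ t * e * t⁻¹ = e⁻¹}
        one_mem' := ⟨one_mem _, by group⟩
        mul_mem' := fun {a b} ha hb => ⟨mul_mem ha.1 hb.1, by
          calc t * (a * b) * t⁻¹ = (t * a * t⁻¹) * (t * b * t⁻¹) := by group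
            _ = a⁻¹ * b⁻¹ := by rw [ha.2, hb.2]
            _ = (a * b)⁻¹ := by rw [mul_inv_rev, hEc _ (inv_mem hb.1) _ (inv_mem ha.1)]⟩
        inv_mem' := fun {a} ha => ⟨inv_mem ha.1, by
          calc t * a⁻¹ * t⁻¹ = (t * a * t⁻¹)⁻¹ := by group
            _ = _ := by rw [ha.2]⟩ }
    have hyI : y ∈ I := ⟨hyE, by
      calc t * y * t⁻¹ = w * (w * y * w⁻¹) * w⁻¹ := by rw [ht]; group
        _ = y⁻¹ := by rw [hwy, hwx]⟩
    have hxI : x ∈ I := ⟨hxE, by
      calc t * x * t⁻¹ = w * (w * x * w⁻¹) * w⁻¹ := by rw [ht]; group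
        _ = (w * y * w⁻¹)⁻¹ := by rw [hwx]; group
        _ = x⁻¹ := by rw [hwy]⟩
    have hIE : I ≤ E := fun e he => he.1
    intro e he
    suffices E ≤ I from (this he).2
    by_contra hle
    obtain ⟨i, hi, hci⟩ := (Nat.dvd_prime_pow hpp).mp (hEcard ▸ card_dvd_of_le hIE)
    have hlt : i < 2 := by
      by_contra h2
      have h2' : i = 2 := by omega
      exact hle (eq_of_le_of_card_ge hIE (by rw [hci, hEcard, h2'])).ge
    interval_cases i
    · have := Subgroup.eq_bot_of_card_eq I (by simpa using hci)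
      exact hx1 (by simpa [this, mem_bot] using hxI)
    · rw [pow_one] at hci
      haveI : Fact p.Prime := ⟨hpp⟩
      have hmem := mem_zpowers_of_prime_card hci (g := ⟨x, hxI⟩) (fun h1 => hx1 (congrArg Subtype.val h1))
        (g' := ⟨y, hyI⟩)
      obtain ⟨j, hj⟩ := mem_zpowers_iff.mp hmem
      refine hy0 ?_
      have : (⟨y, hgx⟩ : ↥(P : Subgroup G)) = x0 ^ j := by
        apply Subtype.ext
        have hj' : x ^ j = y := by simpa using congrArg Subtype.val hj
        simp only [← hj', SubgroupClass.coe_zpow]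
        rw [← hx0x]; rfl
      rw [this]
      exact zpow_mem hx0 j
  -- the centralizer of `E`
  set C := Subgroup.centralizer (E : Set G) with hC
  have hEC : E ≤ C := fun e he => Subgroup.mem_centralizer_iff.mpr fun b hb => hEc b hb e he
  have hPC : (P : Subgroup G) ⊓ C ≤ E := by
    intro q ⟨hqP, hqC⟩
    by_contra hq
    have hle : E ≤ (P : Subgroup G) ⊓ C := le_inf hEP hEC
    have hd := hcard ▸ card_dvd_of_le (inf_le_left : (P : Subgroup G) ⊓ C ≤ P)
    obtain ⟨i, hi, hci⟩ := (Nat.dvd_prime_pow hpp).mp hd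
    have hi3 : i = 3 := by
      by_contra h3
      have h2 : p ^ i ≤ p ^ 2 := Nat.pow_le_pow_right hpp.pos (by omega)
      exact hq ((eq_of_le_of_card_ge hle (by rw [hci, hEcard]; exact h2)).ge ⟨hqP, hqC⟩)
    have heq := eq_of_le_of_card_ge (inf_le_left : (P : Subgroup G) ⊓ C ≤ P) (by rw [hci, hi3]; exact hcard.le)
    have huC := (heq.ge u.2).2
    have huy' := Subgroup.mem_centralizer_iff.mp huC y hyE
    apply hx1
    calc x = (u : G) * y * (u : G)⁻¹ * y⁻¹ := by rw [huy]; group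
      _ = 1 := by rw [← huy']; group
  obtain ⟨S, hS⟩ := ((P.2.to_le hEP).comap_of_injective C.subtype C.subtype_injective).exists_le_sylow
  have hSE : (S : Subgroup C).map C.subtype = E := by
    obtain ⟨T, hT⟩ := (S.2.map C.subtype).exists_le_sylow
    obtain ⟨k, rfl⟩ := MulAction.exists_smul_eq G P T
    have hk : ∀ e ∈ E, k⁻¹ * e * k ∈ (P : Subgroup G) := fun e he => by
      have := hT ⟨⟨e, hEC he⟩, hS (show e ∈ E from he), rfl⟩
      rwa [StrongEmb.mem_smul_sylow_iff] at this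
    refine le_antisymm ?_ (fun e he => ⟨⟨e, hEC he⟩, hS (show e ∈ E from he), rfl⟩)
    intro s hs
    have h1 := StrongEmb.mem_smul_sylow_iff.mp (hT hs)
    have h2 : k⁻¹ * s * k ∈ C := by
      rw [Subgroup.mem_centralizer_iff]
      intro e he
      have h3 := Subgroup.mem_centralizer_iff.mp (map_subtype_le _ hs) _ (hnorm k hk e he).1
      have h4 := congrArg (fun z => k⁻¹ * z * k) h3
      simpa [mul_assoc] using h4
    simpa [mul_assoc] using (hnorm k hk _ (hPC ⟨h1, h2⟩)).1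
  have hScen : (S : Subgroup C) ≤ Subgroup.center C := by
    intro s hs
    rw [Subgroup.mem_center_iff]
    intro c
    have : (s : G) ∈ E := hSE ▸ ⟨s, hs, rfl⟩
    exact Subtype.ext (Subgroup.mem_centralizer_iff.mp c.2 _ this).symm
  have hdisj := Transfer.pResidual_le_centralizer_of_central_sylow S hScen
  have hCn : ∀ k : G, (∀ e ∈ E, k⁻¹ * e * k ∈ (P : Subgroup G)) → ∀ c ∈ C, k * c * k⁻¹ ∈ C := by
    intro k hk c hc
    rw [Subgroup.mem_centralizer_iff]
    intro e he
    have h3 := Subgroup.mem_centralizer_iff.mp hc _ (hnorm k hk e he).2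
    have h4 := congrArg (fun z => k * z * k⁻¹) h3
    simpa [mul_assoc] using h4
  set D : Subgroup G := (Cfsg.pResidual p C).map C.subtype with hD
  have hDn : ∀ k : G, (∀ e ∈ E, k⁻¹ * e * k ∈ (P : Subgroup G)) → ∀ d ∈ D, k * d * k⁻¹ ∈ D := by
    intro k hk
    suffices D ≤ D.comap (MulAut.conj k).toMonoidHom from fun d hd => this hd
    rw [hD, Cfsg.pResidual, MonoidHom.map_closure, closure_le]
    rintro _ ⟨c, hc, rfl⟩
    refine subset_closure ⟨⟨k * c * k⁻¹, hCn k hk c c.2⟩, ?_, rfl⟩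
    show Nat.Coprime (orderOf _) p
    rw [← Subgroup.orderOf_coe]
    have h1 := orderOf_injective (MulAut.conj k).toMonoidHom (MulAut.conj k).injective (c : G)
    simp only [MulEquiv.coe_toMonoidHom, MulAut.conj_apply] at h1
    show Nat.Coprime (orderOf (k * (c : G) * k⁻¹)) p
    rw [h1, Subgroup.orderOf_coe]
    exact hc
  -- the lift of an element of order `p²`
  have hC1 : (u0 : G)⁻¹ * t * (u0 : G) * t⁻¹ ∈ C := by
    rw [Subgroup.mem_centralizer_iff]
    intro e he
    have he1 : (u0 : G) * e * (u0 : G)⁻¹ ∈ E := hPn _ u0.2 e he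
    set q := (u0 : G)⁻¹ * t * (u0 : G) * t⁻¹
    have key : q * e * q⁻¹ = e := by
      have h1 : t⁻¹ * e * t = e⁻¹ := by
        have h2 := hinv (e⁻¹) (inv_mem he)
        rw [inv_inv] at h2
        conv_lhs => rw [← h2]
        group
      calc q * e * q⁻¹ = (u0 : G)⁻¹ * (t * ((u0 : G) * (t⁻¹ * e * t) * (u0 : G)⁻¹) * t⁻¹) * (u0 : G) := by
            simp only [q]; group
        _ = (u0 : G)⁻¹ * (t * ((u0 : G) * e * (u0 : G)⁻¹)⁻¹ * t⁻¹) * (u0 : G) := by rw [h1]; group
        _ = (u0 : G)⁻¹ * ((u0 : G) * e * (u0 : G)⁻¹) * (u0 : G) := by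
            rw [hinv _ (inv_mem he1), inv_inv]
        _ = e := by group
    conv_lhs => rw [← key]
    group
  haveI := Transfer.pResidual_normal (G := C) p
  obtain ⟨e0, he0, d0, hd0, hed⟩ := Subgroup.mem_sup_of_normal_right.mp
    (show (⟨_, hC1⟩ : C) ∈ (S : Subgroup C) ⊔ Cfsg.pResidual p C by
      rw [Transfer.sylow_sup_pResidual_eq_top]; trivial)
  set e := (e0 : G)
  set d := (d0 : G)
  have heE : e ∈ E := hSE ▸ ⟨e0, he0, rfl⟩
  have hdD : d ∈ D := ⟨d0, hd0, rfl⟩
  have hdC : d ∈ C := d0.2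
  have hed' : e * d = (u0 : G)⁻¹ * t * (u0 : G) * t⁻¹ := congrArg Subtype.val hed
  obtain ⟨k, hk⟩ := hpp.odd_of_ne_two hp
  set f := e ^ (k + 1) with hf
  have hfE : f ∈ E := pow_mem heE _
  have hff : f * f = e := by
    rw [hf, ← pow_add, show k + 1 + (k + 1) = p + 1 by omega, pow_succ, hEpow e heE, one_mul]
  set u1 := (u0 : G) * f with hu1
  have hu1P : u1 ∈ (P : Subgroup G) := mul_mem u0.2 (hEP hfE)
  have hu1p : u1 ^ p = (u0 : G) ^ p := by
    have := congrArg Subtype.val (hmul u0 ⟨f, hEP hfE⟩)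
    simpa [hEpow f hfE] using this
  have hdf : d * f⁻¹ = f⁻¹ * d := (Subgroup.mem_centralizer_iff.mp hdC _ (inv_mem hfE)).symm
  have htu : t * u1 * t⁻¹ = u1 * d := by
    calc t * u1 * t⁻¹ = (u0 : G) * ((u0 : G)⁻¹ * t * (u0 : G) * t⁻¹) * (t * f * t⁻¹) := by rw [hu1]; group
      _ = (u0 : G) * (e * d) * f⁻¹ := by rw [← hed', hinv f hfE]
      _ = (u0 : G) * (e * (d * f⁻¹)) := by group
      _ = (u0 : G) * ((f * f) * (f⁻¹ * d)) := by rw [hdf, hff]
      _ = u1 * d := by rw [hu1]; group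
  have hpowD : ∀ n : ℕ, (u1 ^ n)⁻¹ * (u1 * d) ^ n ∈ D := by
    intro n
    induction n with
    | zero => simp [one_mem]
    | succ n ih =>
      have hc' := hDn u1⁻¹ (fun e he => by
        rw [inv_inv]; exact mul_mem (mul_mem hu1P (hEP he)) (inv_mem hu1P)) _ ih
      have := mul_mem hc' hdD
      rw [pow_succ, pow_succ]
      convert this using 1
      group
  have hz := hpowD p
  rw [← htu, conj_pow, hu1p] at hz
  set z := (u0 : G) ^ p with hzdef
  have hzE : z ∈ E := by
    refine hEmem z (pow_mem u0.2 _) ?_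
    exact congrArg Subtype.val (PGroup.special_center_pow hE.1 (PGroup.special_pow_mem_center hE.1 u0))
  rw [hinv z hzE] at hz
  have hzb : z⁻¹ * z⁻¹ = 1 := by
    obtain ⟨c, hc, hcz⟩ := hz
    have hcS : c ∈ (S : Subgroup C) := by
      have : (c : G) ∈ (S : Subgroup C).map C.subtype := by
        rw [hSE, ← C.coe_subtype, hcz]; exact mul_mem (inv_mem hzE) (inv_mem hzE)
      obtain ⟨c', hc', hcc'⟩ := this
      exact C.subtype_injective hcc' ▸ hc'
    have : c ∈ (⊥ : Subgroup C) := hdisj ▸ ⟨hcS, hc⟩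
    rw [← hcz, mem_bot.mp this, map_one]
  apply hu0
  apply Subtype.ext
  show (u0 : G) ^ p = 1
  have h2 : z ^ 2 = 1 := by
    rw [pow_two, ← inv_inj, mul_inv_rev, inv_one]; exact hzb
  have hp1 := hEpow z hzE
  have hzero : orderOf z ∣ Nat.gcd 2 p := Nat.dvd_gcd (orderOf_dvd_of_pow_eq_one h2) (orderOf_dvd_of_pow_eq_one hp1)
  rw [Nat.Coprime.gcd_eq_one ((Nat.coprime_primes Nat.prime_two hpp).mpr (Ne.symm hp))] at hzero
  exact orderOf_eq_one_iff.mp (Nat.dvd_one.mp hzero)

end Cfsg.Agent.S3053
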