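import Cfsg.Statements.S3054
import Cfsg.Agent.Lib.RankTwo.ExtraspecialTorus

set_option autoImplicit false
open Cfsg
open Matrix
open scoped MatrixGroups commutatorElement Pointwise

namespace Cfsg.Agent.S3054

/-- Let p be an odd prime and G a finite group with a Sylow p-subgroup P that is extraspecial of order p³ and exponent p. Suppose P contains three distinct subgroups A of order p² (each is elementary abelian of rank 2) such that every automorphism of A of order p is induced by conjugation by an element of G; equivalently the automorphism group induced on A by its normalizer contains the special linear group of A. Then p ≤ 13. -/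
theorem result {G : Type*} [Group G] [Finite G]
    {p : ℕ} [Fact p.Prime] (hp : p ≠ 2) (P : Sylow p G) (hE : Cfsg.IsExtraspecial p ↥P)
    (hcard : Nat.card P = p ^ 3) (hexp : Monoid.exponent ↥P = p)
    (A : Fin 3 → Subgroup G) (hA : Function.Injective A) (hAP : ∀ i, A i ≤ (P : Subgroup G))
    (hAcard : ∀ i, Nat.card ↥(A i) = p ^ 2)
    (hSL : ∀ i, ∀ φ : MulAut ↥(A i), orderOf φ = p → ∃ g : G, ∀ a : ↥(A i), (φ a : G) = g * (a : G) * g⁻¹) :
    p ≤ 13 := by
  open Cfsg.Agent.RankTwo Cfsg.Agent.RankTwo.Torus in
  classical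
  by_contra hp13
  have hpp : p.Prime := Fact.out
  have h16 : 16 ≤ p - 1 := by
    by_contra h
    have : p ≤ 16 := by omega
    interval_cases p <;> norm_num at hpp
  obtain ⟨a, b, c, F⟩ := exists_frame (P : Subgroup G) hE hcard hexp
  have hc : c ^ p = 1 := F.hcpow
  -- the centre lies in each `A i`
  have hcA : ∀ i, c ∈ A i := by
    intro i
    by_contra hni
    have : Fact (Nat.Prime (Nat.card (Subgroup.zpowers c))) := ⟨by rw [Nat.card_zpowers, F.hc]; exact hpp⟩
    have hdisj : A i ⊓ Subgroup.zpowers c = ⊥ := by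
      rcases Subgroup.eq_bot_or_eq_top_of_prime_card ((A i).subgroupOf (Subgroup.zpowers c)) with h | h
      · exact (Subgroup.subgroupOf_eq_bot.1 h).eq_bot
      · exact absurd ((Subgroup.subgroupOf_eq_top.1 h) (Subgroup.mem_zpowers c)) hni
    let f : A i × Subgroup.zpowers c → (P : Subgroup G) := fun z => ⟨z.1 * z.2,
      mul_mem (hAP i z.1.2) (Subgroup.zpowers_le.2 F.hcP z.2.2)⟩
    have hf : Function.Injective f := fun x y e =>
      Subgroup.disjoint_def.1 (disjoint_iff.2 hdisj) |> fun hd => by
        have e' : (x.1 : G) * x.2 = y.1 * y.2 := congrArg Subtype.val e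
        have e2 : (y.1 : G)⁻¹ * x.1 = (y.2 : G) * (x.2 : G)⁻¹ := by
          rw [eq_mul_inv_iff_mul_eq, mul_assoc, e', inv_mul_cancel_left]
        have h1 := hd ((A i).mul_mem ((A i).inv_mem y.1.2) x.1.2)
          (e2 ▸ Subgroup.mul_mem _ y.2.2 (Subgroup.inv_mem _ x.2.2))
        have h2 : (x.1 : G) = y.1 := (inv_mul_eq_one.1 h1).symm
        exact Prod.ext (Subtype.ext h2) (Subtype.ext (mul_left_cancel (h2 ▸ e')))
    have hsurj := (hf.bijective_of_nat_card_le (by
      rw [Nat.card_prod, hAcard, Nat.card_zpowers, F.hc, ← pow_succ]; exact hcard.le)).2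
    have hAc : IsMulCommutative (A i) := IsPGroup.isMulCommutative_of_card_eq_prime_sq (hAcard i)
    obtain ⟨⟨x, ⟨_, m, rfl⟩⟩, hx⟩ := hsurj ⟨a, F.ha⟩
    obtain ⟨⟨y, ⟨_, n, rfl⟩⟩, hy⟩ := hsurj ⟨b, F.hb⟩
    have hx' : (x : G) * c ^ m = a := congrArg Subtype.val hx
    have hy' : (y : G) * c ^ n = b := congrArg Subtype.val hy
    have hxy : Commute (x : G) (y : G) := congrArg Subtype.val (mul_comm' x y)
    have hab : Commute a b := by
      rw [← hx', ← hy']
      exact ((hxy.mul_right ((F.comm_c _ (hAP i x.2)).zpow_right n))).mul_left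
        (((F.comm_c _ (hAP i y.2)).zpow_right m).symm.mul_right (Commute.zpow_zpow_self c m n))
    have h1 := F.hc
    rw [← F.hab, commutatorElement_eq_one_iff_mul_comm.2 hab, orderOf_one] at h1
    exact hpp.ne_one h1.symm
  have hne : ∀ i, ∃ u ∈ A i, coord p a b c u ≠ 0 := by
    intro i
    by_contra h
    push Not at h
    have hle : A i ≤ Subgroup.zpowers c := fun x hx => F.mem_center_of_coord (hAP i hx) (h x hx)
    have := Subgroup.card_le_of_le hle
    rw [hAcard, Nat.card_zpowers, F.hc] at this
    nlinarith [hpp.two_le]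
  choose u huA hu using hne
  have huP : ∀ i, u i ∈ (P : Subgroup G) := fun i => hAP i (huA i)
  have hup : ∀ i, u i ^ p = 1 := fun i => F.pow_eq _ (huP i)
  have hcu : ∀ i, Commute c (u i) := fun i => (F.comm_c _ (huP i)).symm
  let e : ∀ i, Multiplicative (ZMod p × ZMod p) →* A i := fun i =>
    { toFun := fun v => ⟨pw c v.toAdd.1 * pw (u i) v.toAdd.2,
        mul_mem (pw_mem (hcA i) _) (pw_mem (huA i) _)⟩
      map_one' := Subtype.ext (by simp [pw_zero])
      map_mul' := fun v w => Subtype.ext (by
        show pw c (v.toAdd.1 + w.toAdd.1) * pw (u i) (v.toAdd.2 + w.toAdd.2) =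
          pw c v.toAdd.1 * pw (u i) v.toAdd.2 * (pw c w.toAdd.1 * pw (u i) w.toAdd.2)
        rw [pw_add hc, pw_add (hup i)]
        simp only [mul_assoc]
        rw [← mul_assoc (pw c w.toAdd.1), (commute_pw (hcu i) w.toAdd.1 v.toAdd.2).eq, mul_assoc]) }
  have hcoord : ∀ i v, coord p a b c (e i v : G) = v.toAdd.2 • coord p a b c (u i) := by
    intro i v
    show coord p a b c (pw c v.toAdd.1 * pw (u i) v.toAdd.2) = _
    rw [F.coord_mul (pw_mem F.hcP _) (pw_mem (huP i) _), F.coord_pw F.hcP, F.coord_pw (huP i),
      F.coord_central F.comm_c, smul_zero, zero_add]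
  have hbij : ∀ i, Function.Bijective (e i) := by
    intro i
    refine Function.Injective.bijective_of_nat_card_le ?_ (by
      rw [hAcard, Nat.card_eq_fintype_card, Fintype.card_multiplicative, Fintype.card_prod, ZMod.card,
        pow_two])
    rw [injective_iff_map_eq_one]
    intro v hv
    have h2 : v.toAdd.2 = 0 := by
      have := hcoord i v
      rw [hv, OneMemClass.coe_one, F.coord_central (fun y _ => Commute.one_right y)] at this
      exact (smul_eq_zero.1 this.symm).resolve_right (hu i)
    have h1 : v.toAdd.1 = 0 := by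
      have := congrArg Subtype.val hv
      change pw c v.toAdd.1 * pw (u i) v.toAdd.2 = 1 at this
      rw [h2, pw_zero, mul_one] at this
      exact pw_eq_one F.hc this
    exact Multiplicative.toAdd.injective (Prod.ext h1 h2)
  refine false_of_lines P F u huP ?_ ?_ (Or.inl ⟨Or.inl h16, le_rfl⟩)
  · intro i j hij h
    obtain ⟨l, hl⟩ := eigen_of_cross (hu i) h
    have hj : u j * (pw (u i) l)⁻¹ ∈ Subgroup.zpowers c := by
      refine F.mem_center_of_coord (mul_mem (huP j) (inv_mem (pw_mem (huP i) l))) ?_
      have h0 : coord p a b c (pw (u i) l) + coord p a b c (pw (u i) l)⁻¹ = 0 := by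
        rw [← F.coord_mul (pw_mem (huP i) l) (inv_mem (pw_mem (huP i) l)), mul_inv_cancel]
        exact F.coord_central fun y _ => Commute.one_right y
      rw [F.coord_mul (huP j) (inv_mem (pw_mem (huP i) l)), hl, ← F.coord_pw (huP i), h0]
    have hmem : u j ∈ A i := by
      have := mul_mem (Subgroup.zpowers_le.2 (hcA i) hj) (pw_mem (huA i) l)
      rwa [inv_mul_cancel_right] at this
    refine hij (hA ?_)
    refine (Subgroup.eq_of_le_of_card_ge ?_ (by rw [hAcard, hAcard])).symm
    intro x hx
    obtain ⟨v, hv⟩ := (hbij j).2 ⟨x, hx⟩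
    have : (e j v : G) = x := congrArg Subtype.val hv
    rw [← this]
    exact mul_mem (pw_mem (hcA i) _) (pw_mem hmem _)
  · intro i
    let S : Multiplicative (ZMod p × ZMod p) ≃* Multiplicative (ZMod p × ZMod p) :=
      AddEquiv.toMultiplicative
        { toFun := fun v => (v.1, v.2 + v.1)
          invFun := fun v => (v.1, v.2 - v.1)
          left_inv := fun v => by simp
          right_inv := fun v => by simp
          map_add' := fun v w => by simp; ring }
    let E := MulEquiv.ofBijective (e i) (hbij i)
    let φ : MulAut (A i) := (E.symm.trans S).trans E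
    have hφ : ∀ v, φ (E v) = E (S v) := fun v => by simp [φ]
    have hn : ∀ (n : ℕ) (v : ZMod p × ZMod p), (φ ^ n) (E (Multiplicative.ofAdd v)) =
        E (Multiplicative.ofAdd (v.1, v.2 + (n : ZMod p) * v.1)) := by
      intro n
      induction n with
      | zero => intro v; simp
      | succ n ih =>
        intro v
        rw [pow_succ', MulAut.mul_apply, ih, hφ]
        congr 1
        show Multiplicative.ofAdd (v.1, v.2 + (n : ZMod p) * v.1 + v.1) = _
        congr 2
        push_cast; ring
    have hord : orderOf φ = p := by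
      refine orderOf_eq_prime ?_ ?_
      · ext x
        obtain ⟨v, rfl⟩ := E.surjective x
        obtain ⟨v, rfl⟩ := Multiplicative.ofAdd.surjective v
        rw [hn, MulAut.one_apply]; simp
      · intro h1
        have h2 := hn 1 (1, 0)
        rw [pow_one, h1, MulAut.one_apply] at h2
        have := congrArg (fun v => (Multiplicative.toAdd v).2) (E.injective h2)
        simp at this
    obtain ⟨g, hg⟩ := hSL i φ hord
    have k1 := hg (E (Multiplicative.ofAdd (1, 0)))
    have k2 := hg (E (Multiplicative.ofAdd (0, 1)))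
    have s1 := hn 1 (1, 0)
    have s2 := hn 1 (0, 1)
    rw [pow_one] at s1 s2
    rw [s1] at k1
    rw [s2] at k2
    simp only [Nat.cast_one, one_mul, zero_add, add_zero, E, MulEquiv.ofBijective_apply, e,
      MonoidHom.coe_mk, OneHom.coe_mk, toAdd_ofAdd, pw_zero, pw_one, mul_one] at k1 k2
    exact ⟨g, k2.symm, k1.symm⟩

end Cfsg.Agent.S3054
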