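import Cfsg.Statements.S3055
import Cfsg.Agent.Lib.RankTwo.ExtraspecialTorus

set_option autoImplicit false
open Cfsg
open Matrix
open scoped MatrixGroups commutatorElement Pointwise

namespace Cfsg.Agent.S3055

/-- Let p be an odd prime and G a finite group with a Sylow p-subgroup P that is extraspecial of order p³ and exponent p. If all nonidentity elements of P are conjugate in G, then p ≤ 7. -/
theorem result {G : Type*} [Group G] [Finite G]
    {p : ℕ} [Fact p.Prime] (hp : p ≠ 2) (P : Sylow p G) (hE : Cfsg.IsExtraspecial p ↥P)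
    (hcard : Nat.card P = p ^ 3) (hexp : Monoid.exponent ↥P = p)
    (hconj : ∀ x y : ↥P, x ≠ 1 → y ≠ 1 → ∃ g : G, g * (x : G) * g⁻¹ = (y : G)) :
    p ≤ 7 := by
  open Cfsg.Agent.RankTwo Cfsg.Agent.RankTwo.Torus in
  classical
  by_contra hp7
  have hpp : p.Prime := Fact.out
  have hcases : (16 ≤ p - 1 ∨ p = 11) ∧ 3 ≤ 7 ∨ p = 13 ∧ 7 ≤ 7 := by
    by_cases h : p ≤ 16
    · interval_cases p <;> first | omega | (norm_num at hpp)
    · exact Or.inl ⟨Or.inl (by omega), by norm_num⟩
  obtain ⟨a, b, c, F⟩ := exists_frame (P : Subgroup G) hE hcard hexp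
  let u : Fin 7 → G := fun k => a * pw b ((k : ℕ) : ZMod p)
  have huP : ∀ k, u k ∈ (P : Subgroup G) := fun k => mul_mem F.ha (pw_mem F.hb _)
  have hco : ∀ k, coord p a b c (u k) = ![1, ((k : ℕ) : ZMod p)] := fun k => by
    simpa [pw_one, pw_zero] using F.coord_form 1 ((k : ℕ) : ZMod p) 0
  refine false_of_lines P F u huP ?_ ?_ hcases
  · intro i j hij h
    rw [hco, hco] at h
    simp [cross, sub_eq_zero, ZMod.natCast_eq_natCast_iff'] at h
    rw [Nat.mod_eq_of_lt (by omega), Nat.mod_eq_of_lt (by omega)] at h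
    exact hij (Fin.ext h.symm)
  · intro k
    have hc1 : c ≠ 1 := fun e => hpp.ne_one (by rw [← F.hc, e, orderOf_one])
    have hu1 : u k ≠ 1 := fun e => by
      have := hco k
      rw [e, F.coord_central (fun y _ => Commute.one_right y)] at this
      simpa using congrFun this 0
    obtain ⟨h, hh⟩ := hconj ⟨c, F.hcP⟩ ⟨u k, huP k⟩ (fun e => hc1 (congrArg Subtype.val e))
      (fun e => hu1 (congrArg Subtype.val e))
    change h * c * h⁻¹ = u k at hh
    set C := Subgroup.centralizer ({u k} : Set G)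
    have hQ : ((h • P : Sylow p G) : Subgroup G) ≤ C := by
      intro z hz
      rw [StrongEmb.mem_smul_sylow_iff] at hz
      rw [Subgroup.mem_centralizer_singleton_iff, ← hh]
      have := ((F.comm_c _ hz).map (MulAut.conj h).toMonoidHom).eq
      simp only [MulEquiv.coe_toMonoidHom, MulAut.conj_apply] at this
      rwa [show h * (h⁻¹ * z * h) * h⁻¹ = z by group] at this
    set A := Subgroup.closure ({c, u k} : Set G)
    have hAP : A ≤ (P : Subgroup G) := (Subgroup.closure_le _).2 (by
      rintro x (rfl | rfl)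
      exacts [F.hcP, huP k])
    have hAC : A ≤ C := (Subgroup.closure_le _).2 (by
      rintro x (rfl | rfl)
      · exact Subgroup.mem_centralizer_singleton_iff.2 (F.comm_c _ (huP k)).eq.symm
      · exact Subgroup.mem_centralizer_singleton_iff.2 rfl)
    obtain ⟨R, hR⟩ := ((P.2.to_le hAP).comap_of_injective C.subtype C.subtype_injective).exists_le_sylow
    obtain ⟨m, hm⟩ := MulAction.exists_smul_eq C ((h • P).subtype hQ) R
    set h' := (m : G) * h with hh'
    have hh'u : h' * c * h'⁻¹ = u k := by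
      rw [show h' * c * h'⁻¹ = m * (h * c * h⁻¹) * (m : G)⁻¹ by rw [hh']; group, hh,
        (Subgroup.mem_centralizer_singleton_iff.1 m.2), mul_inv_cancel_right]
    have hcR : (⟨c, hAC (Subgroup.subset_closure (Or.inl rfl))⟩ : C) ∈ (R : Subgroup C) :=
      hR (show c ∈ A from Subgroup.subset_closure (Or.inl rfl))
    rw [← hm, StrongEmb.mem_smul_sylow_iff, Sylow.coe_subtype, Subgroup.mem_subgroupOf] at hcR
    simp only [Subgroup.coe_mul, Subgroup.coe_inv] at hcR
    rw [StrongEmb.mem_smul_sylow_iff] at hcR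
    set w := h'⁻¹ * c * h' with hw
    have hwP : w ∈ (P : Subgroup G) := by simpa [hw, hh', mul_assoc] using hcR
    have hw0 : (⟨w, hwP⟩ : (P : Subgroup G)) ∉ Subgroup.center (P : Subgroup G) := by
      intro hz
      have hcw : coord p a b c w = 0 := F.coord_central fun x hx =>
        congrArg Subtype.val (Subgroup.mem_center_iff.1 hz ⟨x, hx⟩)
      obtain ⟨n, hn⟩ := F.mem_center_of_coord hwP hcw
      change c ^ n = w at hn
      have hc' : c = u k ^ n := by
        rw [← hh'u, conj_zpow, hn, hw]; group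
      have h0 := congrArg (coord p a b c) hc'
      rw [F.coord_central F.comm_c] at h0
      have hcc : u k ^ n = pw (u k) ((n : ZMod p)) := by
        rw [pw, ← zpow_natCast, zpow_eq_zpow_iff_modEq, orderOf_eq_prime (F.pow_eq _ (huP k)) hu1,
          ← ZMod.intCast_eq_intCast_iff, Int.cast_natCast, ZMod.natCast_zmod_val]
      rw [hcc, F.coord_pw (huP k), hco] at h0
      have hn0 : (n : ZMod p) = 0 := by simpa using (congrFun h0 0).symm
      rw [hcc, hn0, pw_zero] at hc'
      exact hc1 hc'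
    obtain ⟨y, hy⟩ := PGroup.exists_commutator_eq hE hw0
      (z := ⟨c, F.hcP⟩) (Subgroup.mem_center_iff.2 fun x => Subtype.ext (F.comm_c x x.2).eq)
    have hy' : ⁅(y : G), w⁆ = c := congrArg Subtype.val hy
    refine ⟨h' * y * h'⁻¹, ?_, ?_⟩
    · rw [show h' * (y : G) * h'⁻¹ * u k * (h' * (y : G) * h'⁻¹)⁻¹ =
        h' * (y * (h'⁻¹ * u k * h') * (y : G)⁻¹) * h'⁻¹ by group,
        show h'⁻¹ * u k * h' = c by rw [← hh'u]; group,
        (F.comm_c y y.2).eq, mul_inv_cancel_right, hh'u]
    · rw [show h' * (y : G) * h'⁻¹ * c * (h' * (y : G) * h'⁻¹)⁻¹ =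
        h' * (⁅(y : G), w⁆ * w) * h'⁻¹ by rw [hw, commutatorElement_def]; group, hy',
        show h' * (c * w) * h'⁻¹ = h' * c * h'⁻¹ * (h' * w * h'⁻¹) by group, hh'u,
        show h' * w * h'⁻¹ = c by rw [hw]; group, (F.comm_c _ (huP k)).eq]

end Cfsg.Agent.S3055
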