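import Cfsg.Statements.S3057
import Cfsg.Agent.Lib.StrongEmb.Generation
import Cfsg.Agent.Lib.PGroup.UniqueOrderP
import Cfsg.Agent.Lib.PCore.PSolvable
import Cfsg.Agent.Lib.Involution.QuaternionFactor

set_option autoImplicit false
open Cfsg

namespace Cfsg.Agent.S3057

open Subgroup

variable {G : Type*} [Group G] [Finite G] {p : ℕ} [Fact p.Prime]

theorem omega_one_cyclic (P : Sylow p G)
    (hP : IsCyclic ↥P ∨ (p = 2 ∧ ∃ n : ℕ, Nonempty (↥P ≃* QuaternionGroup (2 ^ n))))
    {x y : G} (hx : orderOf x = p) (hxP : x ∈ (P : Subgroup G)) (hyP : y ∈ (P : Subgroup G))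
    (hy : y ^ p = 1) : y ∈ zpowers x := by
  rcases hP with hc | ⟨rfl, n, ⟨e⟩⟩
  · exact StrongEmb.zpowers_eq_of_cyclic hc hx hy hxP hyP
  · by_cases h1 : y = 1
    · exact h1 ▸ one_mem _
    · have key : ∀ w (hw : w ∈ (P : Subgroup G)), w ^ 2 = 1 → w ≠ 1 →
          e ⟨w, hw⟩ = QuaternionGroup.a ((2 ^ n : ℕ) : ZMod (2 * 2 ^ n)) := fun w hw h2 hne =>
        QuaternionFactor.quat_involution
          (by rw [← map_pow]; exact (congrArg e (Subtype.ext h2)).trans (map_one e))
          (fun h => hne (congrArg Subtype.val (e.map_eq_one_iff.mp h)))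
      have hx2 : x ^ 2 = 1 := by rw [← hx, pow_orderOf_eq_one]
      have hx1 : x ≠ 1 := fun h => by simp [h] at hx
      have := congrArg Subtype.val
        (e.injective ((key y hyP hy h1).trans (key x hxP hx2 hx1).symm))
      exact (show y = x from this) ▸ mem_zpowers x

theorem not_connected (hdiv : p ∣ Nat.card G) (P : Sylow p G) (hcore : Cfsg.pCore p G = ⊥)
    (hP : IsCyclic ↥P ∨ (p = 2 ∧ ∃ n : ℕ, Nonempty (↥P ≃* QuaternionGroup (2 ^ n)))) :
    ¬ Cfsg.IsSylowChainConnected p G := by
  have hp : p.Prime := Fact.out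
  obtain ⟨⟨x, hxP⟩, hx⟩ := exists_prime_orderOf_dvd_card' (G := (P : Subgroup G)) p
    (P.dvd_card_of_dvd_card hdiv)
  rw [← Subgroup.orderOf_coe] at hx
  change orderOf x = p at hx
  have hcard : Nat.card (zpowers x) = p := by rw [Nat.card_zpowers, hx]
  have hxp : IsPGroup p (zpowers x) := IsPGroup.of_card (n := 1) (by rw [hcard, pow_one])
  set H := normalizer (zpowers x : Set G) with hH
  have hxH : x ∈ H := le_normalizer (mem_zpowers x)
  have hPH : (P : Subgroup G) ≤ H := by
    intro g hg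
    rw [hH, mem_normalizer_iff_map_conj_eq]
    refine eq_of_le_of_card_ge ?_ (card_map_of_injective (MulAut.conj g).injective).ge
    rw [MonoidHom.map_zpowers]
    refine zpowers_le.mpr (omega_one_cyclic P hP hx hxP ?_ ?_)
    · simpa using mul_mem (mul_mem hg hxP) (inv_mem hg)
    · rw [← map_pow, ← hx, pow_orderOf_eq_one, map_one]
  have hord : ∀ y ∈ H, orderOf y = p → zpowers y = zpowers x := by
    intro y hy hyp
    refine eq_of_le_of_card_ge ?_ (by rw [hcard, Nat.card_zpowers, hyp])
    have hy' : IsPGroup p (zpowers (⟨y, hy⟩ : H)) :=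
      IsPGroup.of_card (n := 1) (by rw [Nat.card_zpowers, orderOf_mk, hyp, pow_one])
    obtain ⟨Q, hQ⟩ := hy'.exists_le_sylow
    obtain ⟨h, rfl⟩ := MulAction.exists_smul_eq H (P.subtype hPH) Q
    have h1 := hQ (mem_zpowers _)
    rw [StrongEmb.mem_smul_sylow_iff, Sylow.coe_subtype, mem_subgroupOf] at h1
    have h2 : (h : G)⁻¹ * y * h ∈ zpowers x := by
      refine omega_one_cyclic P hP hx hxP (by simpa using h1) ?_
      have : ((h : G)⁻¹ * y * h) ^ p = (h : G)⁻¹ * y ^ p * h := by
        simpa using conj_pow (a := (h : G)⁻¹) (b := y) (i := p)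
      rw [this, ← hyp, pow_orderOf_eq_one, mul_one, inv_mul_cancel]
    exact zpowers_le.mpr (by simpa [mul_assoc] using (mem_normalizer_iff.mp h.2 _).mp h2)
  refine StrongEmb.not_connected_of_meetsPrime (H := H) ?_ ?_ fun g hg hd => hg ?_
  · intro htop
    haveI : (zpowers x).Normal := normalizer_eq_top_iff.mp htop
    have := PCore.le_pCore hxp
    rw [hcore, le_bot_iff, zpowers_eq_bot] at this
    simp [this] at hx
    exact hp.one_lt.ne hx
  · exact hcard ▸ card_dvd_of_le le_normalizer
  · obtain ⟨⟨y, hy, ⟨z, hz, hzy⟩⟩, hyp⟩ := exists_prime_orderOf_dvd_card' p hd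
    rw [← Subgroup.orderOf_coe] at hyp
    change orderOf y = p at hyp
    have hzp : orderOf z = p := by
      rw [← hyp, ← hzy]
      exact (orderOf_injective (MulAut.conj g).toMonoidHom (MulAut.conj g).injective z).symm
    rw [hH, mem_normalizer_iff_map_conj_eq]
    nth_rewrite 1 [← hord z hz hzp]
    rw [MonoidHom.map_zpowers, ← hord y hy hyp]
    exact congrArg zpowers hzy

theorem unique_of_not_connected (hsol : Cfsg.IsPSolvable p G) {H : Subgroup G} (hH : H ≠ ⊤)
    (hse : StrongEmb.MeetsPrime p H) (S : Sylow p G) (hS : (S : Subgroup G) ≤ H)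
    (hdiv : p ∣ Nat.card G) (hcore : Cfsg.pCore p G = ⊥) :
    ∀ A B : Subgroup ↥(S : Subgroup G), Nat.card A = p → Nat.card B = p → A = B := by
  have hp : p.Prime := Fact.out
  set K := Cfsg.pPrimeCore p G
  by_contra hne
  push Not at hne
  obtain ⟨A, B, hA, hB, hAB⟩ := hne
  -- a central element of order `p` and a second one
  have : Nontrivial ↥(S : Subgroup G) := (nontrivial_iff_ne_bot _).2 (S.ne_bot_of_dvd_card hdiv)
  haveI := S.2.center_nontrivial
  obtain ⟨k, hk0, hk⟩ := (S.2.to_subgroup (center _)).nontrivial_iff_card.mp inferInstance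
  obtain ⟨⟨z, hzc⟩, hz⟩ := exists_prime_orderOf_dvd_card' (G := center ↥(S : Subgroup G)) p
    (hk ▸ dvd_pow_self p hk0.ne')
  rw [← Subgroup.orderOf_coe] at hz
  change orderOf z = p at hz
  obtain ⟨w, hw, hwz⟩ : ∃ w : ↥(S : Subgroup G), orderOf w = p ∧ w ∉ zpowers z := by
    by_contra hc
    push Not at hc
    have key : ∀ C : Subgroup ↥(S : Subgroup G), Nat.card C = p → C = zpowers z := by
      intro C hC
      refine eq_of_le_of_card_ge (fun c hc' => ?_) (by rw [Nat.card_zpowers, hz, hC])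
      by_cases h1 : c = 1
      · exact h1 ▸ one_mem _
      refine hc c (orderOf_eq_prime ?_ h1)
      have h2 := congrArg Subtype.val (pow_card_eq_one' (x := (⟨c, hc'⟩ : C)))
      rwa [hC] at h2
    exact hAB ((key A hA).trans (key B hB).symm)
  have hK : K ≤ H := by
    have hKn : normalizer (K : Set G) = ⊤ := normalizer_eq_top _
    refine StrongEmb.le_of_coprime_pair hse (x := (z : G)) (y := (w : G))
      (by rw [Subgroup.orderOf_coe, hz]) (by rw [Subgroup.orderOf_coe, hw])
      (congrArg Subtype.val (mem_center_iff.mp hzc w).symm) ?_ (hS z.2) (hS w.2)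
      PCore.coprime_card_pPrimeCore (hKn ▸ mem_top _) (hKn ▸ mem_top _)
    intro h
    obtain ⟨i, hi⟩ := mem_zpowers_iff.mp h
    exact hwz (mem_zpowers_iff.mpr ⟨i, Subtype.ext (by simpa using hi)⟩)
  set U := Cfsg.pPrimePCore p G
  haveI : U.Normal := Subgroup.Normal.comap inferInstance _
  refine hH (StrongEmb.eq_top_of_normal hse (N := U) ?_ ?_)
  · haveI : Nontrivial (G ⧸ K) := by
      rw [QuotientGroup.nontrivial_iff]
      intro h
      have hc := PCore.coprime_card_pPrimeCore (G := G) (p := p)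
      rw [show Cfsg.pPrimeCore p G = ⊤ from h, card_top] at hc
      exact (hp.coprime_iff_not_dvd.mp hc.symm) hdiv
    have hne : Cfsg.pCore p (G ⧸ K) ≠ ⊥ :=
      (PCore.pCore_ne_bot_or_pPrimeCore_ne_bot (PCore.isPSolvable_quotient hsol K)).resolve_right
        (fun h => h PCore.pPrimeCore_quotient_self_eq_bot)
    refine (StrongEmb.dvd_card_of_ne_bot PCore.isPGroup_pCore hne).trans ?_
    rw [show Cfsg.pCore p (G ⧸ K) = U.map (QuotientGroup.mk' K) from
      (map_comap_eq_self_of_surjective (QuotientGroup.mk'_surjective K) _).symm]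
    exact card_map_dvd _ _
  · calc U ≤ ((S : Subgroup G).map (QuotientGroup.mk' K)).comap (QuotientGroup.mk' K) :=
          comap_mono (PCore.pCore_le_sylow (S.mapSurjective (QuotientGroup.mk'_surjective K)))
      _ = (S : Subgroup G) ⊔ K := by rw [comap_map_eq, QuotientGroup.ker_mk']
      _ ≤ H := sup_le hS hK

/-- Let p be a prime and G a finite p-solvable group of order divisible by p, with Sylow p-subgroup P. Then the Sylow p-subgroups of G fail to be chain-connected through nontrivial intersections (equivalently, G has a strongly p-embedded subgroup) if and only if O_p(G) = 1 and P is cyclic or, for p = 2, generalized quaternion. -/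
theorem result {G : Type*} [Group G] [Finite G]
    (p : ℕ) [Fact p.Prime] (hdiv : p ∣ Nat.card G) (hsol : Cfsg.IsPSolvable p G) (P : Sylow p G) :
    ¬ Cfsg.IsSylowChainConnected p G ↔
      Cfsg.pCore p G = ⊥ ∧ (IsCyclic ↥P ∨ (p = 2 ∧ ∃ n : ℕ, Nonempty (↥P ≃* QuaternionGroup (2 ^ n)))) := by
  refine ⟨fun h => ?_, fun h => not_connected hdiv P h.1 h.2⟩
  obtain ⟨H, hH, hpH, hse⟩ := StrongEmb.exists_meetsPrime_of_not_connected h
  obtain ⟨S, hS⟩ := StrongEmb.exists_sylow_le hse hpH
  have hcore : Cfsg.pCore p G = ⊥ := by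
    by_contra hne
    exact hH (StrongEmb.eq_top_of_normal hse
      (StrongEmb.dvd_card_of_ne_bot PCore.isPGroup_pCore hne)
      ((PCore.pCore_le_sylow S).trans hS))
  refine ⟨hcore, ?_⟩
  have e : ↥(P : Subgroup G) ≃* ↥(S : Subgroup G) := P.equiv S
  rcases PGroup.cyclic_or_quaternion_of_unique S.2
      (unique_of_not_connected hsol hH hse S hS hdiv hcore) with h' | ⟨hp2, n, -, -, ⟨f⟩⟩
  · exact Or.inl (e.isCyclic.mpr h')
  · exact Or.inr ⟨hp2, n, ⟨e.trans f⟩⟩

end Cfsg.Agent.S3057
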