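import Cfsg.Statements.S3058
import Cfsg.Agent.Lib.StrongEmb.Generation

set_option autoImplicit false
open Cfsg

namespace Cfsg.Agent.S3058
open Subgroup
open scoped commutatorElement

/-- Let p be a prime and G a finite group whose Sylow p-subgroups are not chain-connected through nontrivial intersections (so G has a strongly p-embedded subgroup). If N and M are normal subgroups of G whose orders are both divisible by p, then the order of N ∩ M is divisible by p. Consequently, among the normal subgroups of G whose order is divisible by p there is a smallest one (the intersection of all of them). -/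
theorem result {G : Type*} [Group G] [Finite G]
    (p : ℕ) [Fact p.Prime] (hG : ¬ Cfsg.IsSylowChainConnected p G)
    (N M : Subgroup G) [N.Normal] [M.Normal] (hN : p ∣ Nat.card N) (hM : p ∣ Nat.card M) :
    p ∣ Nat.card ↥(N ⊓ M) := by
  have hp : p.Prime := Fact.out
  by_contra hK
  obtain ⟨H, hH, hpH, hse⟩ := StrongEmb.exists_meetsPrime_of_not_connected hG
  obtain ⟨S, hS⟩ := StrongEmb.exists_sylow_le hse hpH
  have get : ∀ L : Subgroup G, L.Normal → p ∣ Nat.card L →
      ∃ x : G, orderOf x = p ∧ x ∈ L ∧ x ∈ (S : Subgroup G) ∧ ∀ s ∈ (S : Subgroup G), s * x = x * s := by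
    intro L hL hd
    have hne : L.subgroupOf (S : Subgroup G) ≠ ⊥ := by
      obtain ⟨x, hx⟩ := exists_prime_orderOf_dvd_card' p hd
      rw [← Subgroup.orderOf_coe] at hx
      have hxp : IsPGroup p (zpowers (x : G)) :=
        IsPGroup.of_card (n := 1) (by rw [Nat.card_zpowers, hx, pow_one])
      obtain ⟨T, hT⟩ := hxp.exists_le_sylow
      obtain ⟨g, rfl⟩ := MulAction.exists_smul_eq G S T
      intro hb
      have h1 := StrongEmb.mem_smul_sylow_iff.mp (hT (mem_zpowers (x : G)))
      have h2 : (⟨_, h1⟩ : (S : Subgroup G)) ∈ L.subgroupOf (S : Subgroup G) := by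
        show g⁻¹ * (x : G) * g ∈ L
        simpa using hL.conj_mem x x.2 g⁻¹
      rw [hb, mem_bot] at h2
      have h3 : (x : G) = 1 := by
        have h4 := congrArg (fun z : (S : Subgroup G) => g * (z : G) * g⁻¹) h2
        simpa [mul_assoc] using h4
      rw [h3, orderOf_one] at hx
      exact hp.one_lt.ne hx
    haveI : (L.subgroupOf (S : Subgroup G)).Normal := hL.subgroupOf _
    obtain ⟨x, hx, hxc, hxo⟩ := PGroup.exists_orderOf_eq_mem_center S.2 _ hne
    exact ⟨x, by rw [Subgroup.orderOf_coe]; exact hxo, hx, x.2,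
      fun s hs => congrArg Subtype.val (Subgroup.mem_center_iff.mp hxc ⟨s, hs⟩)⟩
  obtain ⟨x, hx, hxN, hxS, hxc⟩ := get N inferInstance hN
  obtain ⟨y, hy, hyM, hyS, -⟩ := get M inferInstance hM
  have hne : y ∉ zpowers x := by
    intro h
    apply hK
    rw [← hy]
    exact orderOf_dvd_natCard (⟨y, (zpowers_le.mpr hxN) h, hyM⟩ : ↥(N ⊓ M)) |> fun h => by
      rwa [← Subgroup.orderOf_coe] at h
  have hKn : (N ⊓ M).Normal := Subgroup.normal_inf_normal N M
  have hnorm : ∀ z : G, z ∈ Subgroup.normalizer ((N ⊓ M : Subgroup G) : Set G) := fun z => by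
    rw [Subgroup.normalizer_eq_top_iff.mpr hKn]; trivial
  have hKH : N ⊓ M ≤ H := StrongEmb.le_of_coprime_pair hse hx hy (hxc y hyS).symm hne (hS hxS) (hS hyS)
    ((hp.coprime_iff_not_dvd.mpr hK).symm) (hnorm x) (hnorm y)
  apply hH
  refine StrongEmb.eq_top_of_normal hse hM fun m hm => ?_
  have hxp : IsPGroup p (zpowers x) :=
    IsPGroup.of_card (n := 1) (by rw [Nat.card_zpowers, hx, pow_one])
  have h1 : m * x * m⁻¹ * x⁻¹ ∈ N ⊓ M := by
    refine Subgroup.mem_inf.mpr ⟨mul_mem (Subgroup.Normal.conj_mem inferInstance x hxN m) (inv_mem hxN), ?_⟩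
    have h2 := mul_mem hm (Subgroup.Normal.conj_mem (inferInstance : M.Normal) _ (inv_mem hm) x)
    simpa [mul_assoc] using h2
  have h2 : m * x * m⁻¹ ∈ H := by simpa using mul_mem (hKH h1) (hS hxS)
  have hmH : m⁻¹ ∈ H := by
    refine StrongEmb.mem_of_common (Q := zpowers x) hse hxp ?_ (zpowers_le.mpr (hS hxS)) ?_
    · rw [Ne, zpowers_eq_bot]
      intro h
      rw [h, orderOf_one] at hx
      exact hp.one_lt.ne hx
    · intro q hq
      obtain ⟨k, rfl⟩ := mem_zpowers_iff.mp hq
      rw [inv_inv, ← conj_zpow]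
      exact zpow_mem h2 k
  simpa using inv_mem hmH

end Cfsg.Agent.S3058
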