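import Cfsg.Statements.S3059
import Cfsg.Agent.Lib.StrongEmb.Basic
import Cfsg.Agent.Lib.Transfer.Residual

set_option autoImplicit false
open Cfsg

namespace Cfsg.Agent.S3059
open Subgroup
open scoped Pointwise

/-- Let p be a prime and H a strongly p-embedded subgroup of the finite group G in the classical sense: H is proper, p divides the order of H, and H ∩ gHg⁻¹ has order prime to p for every g outside H. Then for every normal subgroup N of G of order divisible by p, G = H · O^p(N), where O^p(N) is the subgroup generated by the elements of N of order prime to p. -/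
theorem result {G : Type*} [Group G] [Finite G]
    (p : ℕ) [Fact p.Prime] (H : Subgroup G) (hH : H ≠ ⊤) (hpH : p ∣ Nat.card H)
    (hse : ∀ g : G, g ∉ H → ¬ p ∣ Nat.card ↥(H ⊓ H.map (MulAut.conj g).toMonoidHom))
    (N : Subgroup G) [N.Normal] (hN : p ∣ Nat.card N) :
    H ⊔ Subgroup.closure {g : G | g ∈ N ∧ (orderOf g).Coprime p} = ⊤ := by
  have hp : p.Prime := Fact.out
  obtain ⟨S, hS⟩ := StrongEmb.exists_sylow_le hse hpH
  obtain ⟨Q⟩ : Nonempty (Sylow p N) := Sylow.nonempty
  obtain ⟨T, hT⟩ := (Q.2.map N.subtype).exists_le_sylow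
  obtain ⟨g, rfl⟩ := MulAction.exists_smul_eq G S T
  -- conjugate `Q` into `S`
  set K := Subgroup.closure {g : G | g ∈ N ∧ (orderOf g).Coprime p}
  let R : Sylow p N := Q.mapSurjective (f := (MulAut.conjNormal g⁻¹ : MulAut N).toMonoidHom)
    (MulAut.conjNormal g⁻¹ : MulAut N).surjective
  have hRH : (R : Subgroup N).map N.subtype ≤ H := by
    rintro _ ⟨y, ⟨q, hq, rfl⟩, rfl⟩
    have h1 := StrongEmb.mem_smul_sylow_iff.mp (hT ⟨q, hq, rfl⟩)
    apply hS
    simpa [MulAut.conjNormal_apply, mul_assoc] using h1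
  have hR1 : (R : Subgroup N).map N.subtype ≠ ⊥ := by
    rw [Ne, map_eq_bot_iff_of_injective _ N.subtype_injective]
    intro hb
    have h := R.not_dvd_index
    rw [hb, index_bot] at h
    exact h hN
  have hnorm := StrongEmb.normalizer_le hse (R.2.map N.subtype) hR1 hRH
  have hfr := Sylow.normalizer_sup_eq_top R
  have hres : (Cfsg.pResidual p N).map N.subtype ≤ K := by
    rw [map_le_iff_le_comap, Cfsg.pResidual, closure_le]
    intro y hy
    exact subset_closure ⟨y.2, by rw [Subgroup.coe_subtype, Subgroup.orderOf_coe]; exact hy⟩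
  have hNK : N ≤ H ⊔ K := by
    have h1 := congrArg (fun L => Subgroup.map N.subtype L) (Transfer.sylow_sup_pResidual_eq_top R)
    simp only [Subgroup.map_sup, ← MonoidHom.range_eq_map, Subgroup.range_subtype] at h1
    exact h1 ▸ sup_le (hRH.trans le_sup_left) (hres.trans le_sup_right)
  exact eq_top_iff.mpr (hfr ▸ sup_le (hnorm.trans le_sup_left) hNK)

end Cfsg.Agent.S3059
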