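import Cfsg.Statements.S3060
import Cfsg.Agent.Lib.DStar.Basic

set_option autoImplicit false
open Cfsg

namespace Cfsg.Agent.S3060
open Subgroup
open scoped commutatorElement
open DStar

theorem mem_dStarOf {G : Type*} [Group G] [Finite G] {p : ℕ} [Fact p.Prime] {T : Subgroup G}
    (hT : IsPGroup p T) : Mem T (Cfsg.dStarOf T) := by
  refine (mem_subgroupOf (Subgroup.map_subtype_le _)).mp ?_
  show ((dStar T).map T.subtype).subgroupOf T ∈ dStarFamily T
  rw [← Subgroup.comap_subtype, comap_map_eq_self_of_injective T.subtype_injective]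
  exact dStar_mem_family hT

theorem le_dStarOf {G : Type*} [Group G] {T A : Subgroup G} (h : Mem T A) : A ≤ Cfsg.dStarOf T := by
  intro a ha
  exact ⟨⟨a, h.1 ha⟩, le_sSup (s := dStarFamily T) ((mem_subgroupOf h.1).mpr h) ha, rfl⟩

theorem dStarOf_conj_mem {G : Type*} [Group G] {T : Subgroup G} {g : G}
    (hg : g ∈ Subgroup.normalizer (T : Set G)) {b : G} (hb : b ∈ Cfsg.dStarOf T) :
    g * b * g⁻¹ ∈ Cfsg.dStarOf T := by
  obtain ⟨y, hy, rfl⟩ := hb
  let e : T ≃* T := (MulAut.conj g).subgroupMap T |>.trans (MulEquiv.subgroupCongr (by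
    ext z
    constructor
    · rintro ⟨w, hw, rfl⟩
      exact (mem_normalizer_iff.mp hg w).mp hw
    · intro hz
      refine ⟨g⁻¹ * z * g, (mem_normalizer_iff.mp hg _).mpr ?_, by simp [mul_assoc]⟩
      simpa [mul_assoc] using hz))
  refine ⟨e y, ?_, rfl⟩
  rw [← dStar_map e]
  exact ⟨y, hy, rfl⟩

/-- The D*-Theorem. For a finite p-group S let D*(S) be the subgroup generated by the abelian subgroups A of S such that every x ∈ S with ⟨A, x⟩ of nilpotency class at most two centralizes A. Let p be an odd prime and H a finite p-stable group with Sylow p-subgroup S. Here H is p-stable in the following sense: the largest normal p-subgroup O_p(H) contains its centralizer in H, and for every normal p-subgroup P of H, every element acting quadratically on P has image in O_p(H/C_H(P)). Then D*(S) is a normal subgroup of H. -/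
theorem result {G : Type*} [Group G] [Finite G] {p : ℕ} [Fact p.Prime] (hp : p ≠ 2)
    (hc : Subgroup.centralizer (Cfsg.pCore p G : Set G) ≤ Cfsg.pCore p G)
    (hst : ∀ (P : Subgroup G) [P.Normal], IsPGroup p P → Cfsg.IsPStableOn p P) (S : Sylow p G) :
    (Cfsg.dStarOf (S : Subgroup G)).Normal := by
  classical
  have hSp : IsPGroup p ↥(S : Subgroup G) := S.2
  set A := Cfsg.dStarOf (S : Subgroup G) with hAdef
  set Q := Cfsg.pCore p G with hQdef
  have hQS : Q ≤ (S : Subgroup G) := pCore_le_sylow S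
  have hQp : IsPGroup p Q := hSp.to_le hQS
  have hA : Mem (S : Subgroup G) A := mem_dStarOf hSp
  have hAnorm : ∀ s ∈ (S : Subgroup G), ∀ a ∈ A, s * a * s⁻¹ ∈ A :=
    fun s hs a ha => dStarOf_conj_mem (le_normalizer hs) ha
  have hQn : Q.Normal := inferInstance
  -- `A ≤ Q`
  have hAQ : A ≤ Q := by
    intro a ha
    have h1 : ⁅⁅Q, zpowers a⁆, zpowers a⁆ = ⊥ := by
      rw [eq_bot_iff, commutator_le]
      intro u hu v hv
      have huA : u ∈ A := by
        revert u
        rw [← SetLike.le_def, commutator_le]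
        intro q hq b hb
        have hbA : b ∈ A := (zpowers_le.mpr ha) hb
        exact mul_mem (hAnorm q (hQS hq) b hbA) (inv_mem hbA)
      rw [mem_bot, commutatorElement_eq_one_iff_mul_comm]
      exact comm_of_isMulCommutative hA.2.1 huA ((zpowers_le.mpr ha) hv)
    have h2 := hst Q hQp a h1
    let K := (Cfsg.pCore p (G ⧸ Subgroup.centralizer (Q : Set G))).comap
      (QuotientGroup.mk' (Subgroup.centralizer (Q : Set G)))
    have hKp : IsPGroup p K := by
      refine IsPGroup.comap_of_ker_isPGroup ?_ _ ?_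
      · obtain ⟨P⟩ : Nonempty (Sylow p (G ⧸ Subgroup.centralizer (Q : Set G))) := Sylow.nonempty
        exact P.2.to_le (pCore_le_sylow P)
      · rw [QuotientGroup.ker_mk']
        exact hQp.to_le hc
    have : K ≤ Q := le_sSup ⟨Subgroup.normal_comap _, hKp⟩
    exact this h2
  set V := Subgroup.normalClosure (A : Set G) with hVdef
  have hVQ : V ≤ Q := normalClosure_le_normal hAQ
  have hVn : V.Normal := normalClosure_normal
  have hcommA : ∀ g : G, ∀ a ∈ A, ∀ b ∈ A, a * (g * b * g⁻¹) = (g * b * g⁻¹) * a := by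
    intro g a ha b hb
    have hin : ∀ q ∈ Q, ∀ b ∈ A, q * (g * b * g⁻¹) * q⁻¹ ∈ A.map (MulAut.conj g).toMonoidHom := by
      intro q hq b hb
      refine ⟨(g⁻¹ * q * g) * b * (g⁻¹ * q * g)⁻¹, hAnorm _ (hQS ?_) b hb, by simp [mul_assoc]⟩
      simpa using hQn.conj_mem q hq g⁻¹
    have hbQ : g * b * g⁻¹ ∈ Q := hQn.conj_mem b (hAQ hb) g
    refine hA.commute (hQS hbQ) (fun c hc => ?_) (fun c hc => ?_) a ha
    · have : ⁅c, g * b * g⁻¹⁆ = c * ((g * b * g⁻¹) * c⁻¹ * (g * b * g⁻¹)⁻¹) := by
        rw [commutatorElement_def]; group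
      rw [this]
      exact mul_mem hc (hAnorm _ (hQS hbQ) _ (inv_mem hc))
    · have hcB : ⁅c, g * b * g⁻¹⁆ ∈ A.map (MulAut.conj g).toMonoidHom :=
        mul_mem (hin c (hAQ hc) b hb) (inv_mem ⟨b, hb, rfl⟩)
      obtain ⟨u, hu, hu'⟩ := hcB
      rw [← hu']
      show g * u * g⁻¹ * (g * b * g⁻¹) = g * b * g⁻¹ * (g * u * g⁻¹)
      have := comm_of_isMulCommutative hA.2.1 hu hb
      calc g * u * g⁻¹ * (g * b * g⁻¹) = g * (u * b) * g⁻¹ := by group
        _ = g * (b * u) * g⁻¹ := by rw [this]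
        _ = _ := by group
  have hVc : IsMulCommutative ↥V := by
    refine isMulCommutative_closure ?_
    intro u hu v hv
    obtain ⟨a, ha, hau⟩ := Group.mem_conjugatesOfSet_iff.mp hu
    obtain ⟨b, hb, hbv⟩ := Group.mem_conjugatesOfSet_iff.mp hv
    obtain ⟨g, rfl⟩ := isConj_iff.mp hau
    obtain ⟨k, rfl⟩ := isConj_iff.mp hbv
    have := congrArg (fun z => g * z * g⁻¹) (hcommA (g⁻¹ * k) a ha b hb)
    simpa [mul_assoc] using this
  set C := Subgroup.centralizer (V : Set G) with hCdef
  have hCn : C.Normal := inferInstance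
  let K := (Cfsg.pCore p (G ⧸ C)).comap (QuotientGroup.mk' C)
  have hKn : K.Normal := Subgroup.normal_comap _
  have hCK : C ≤ K := by
    intro c hc
    show QuotientGroup.mk' C c ∈ Cfsg.pCore p (G ⧸ C)
    rw [show QuotientGroup.mk' C c = 1 from (QuotientGroup.eq_one_iff c).mpr hc]
    exact one_mem _
  let R : Subgroup G := (S : Subgroup G) ⊓ K
  have hRp : IsPGroup p R := hSp.to_le inf_le_left
  have hVR : V ≤ R := le_inf (hVQ.trans hQS)
    ((le_centralizer_iff_isMulCommutative.mpr hVc).trans hCK)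
  have hAV : A ≤ V := subset_normalClosure
  have hB : Mem R (Cfsg.dStarOf R) := mem_dStarOf hRp
  set B := Cfsg.dStarOf R with hBdef
  have hAB : A ≤ B := le_dStarOf (hA.mono (hAV.trans hVR) inf_le_left)
  -- `G = N(R) C`
  have hKeq : K = C ⊔ R := by
    refine le_antisymm ?_ (sup_le hCK inf_le_right)
    intro k hk
    obtain ⟨P, hP⟩ : ∃ P : Sylow p (G ⧸ C),
        (P : Subgroup (G ⧸ C)) = (S : Subgroup G).map (QuotientGroup.mk' C) :=
      ⟨S.mapSurjective (QuotientGroup.mk'_surjective C), rfl⟩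
    have := pCore_le_sylow P hk
    rw [hP] at this
    obtain ⟨s, hs, hsk⟩ := this
    have hsC : k * s⁻¹ ∈ C := by
      rw [← QuotientGroup.eq_one_iff, QuotientGroup.mk_mul, QuotientGroup.mk_inv]
      exact mul_inv_eq_one.mpr hsk.symm
    have hsK : s ∈ K := by
      show QuotientGroup.mk' C s ∈ Cfsg.pCore p (G ⧸ C)
      rw [hsk]; exact hk
    have : k * s⁻¹ * s ∈ C ⊔ R := mul_mem (mem_sup_left hsC) (mem_sup_right ⟨hs, hsK⟩)
    simpa using this
  have hfr : Subgroup.normalizer (R : Set G) ⊔ C = ⊤ := by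
    obtain ⟨PK, hPK⟩ := (hRp.comap_of_injective K.subtype K.subtype_injective).exists_le_sylow
    obtain ⟨S', hS'⟩ := (PK.2.map K.subtype).exists_le_sylow
    obtain ⟨g, rfl⟩ := MulAction.exists_smul_eq G S S'
    have hcard : Nat.card PK ≤ Nat.card R := by
      rw [← card_map_of_injective (K := (PK : Subgroup K)) K.subtype_injective,
        ← card_map_of_injective (K := R) (f := (MulAut.conj g).toMonoidHom) (MulAut.conj g).injective]
      refine card_le_of_le fun y hy => ?_
      refine ⟨g⁻¹ * y * g, ⟨?_, ?_⟩, by simp [mul_assoc]⟩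
      · have := hS' hy
        rw [Sylow.coe_subgroup_smul, mem_pointwise_smul_iff_inv_smul_mem] at this
        exact (show g⁻¹ * y * g ∈ (S : Subgroup G) by simpa using this)
      · simpa using hKn.conj_mem y (map_subtype_le _ hy) g⁻¹
    have hRK : R ≤ K := inf_le_right
    have heq : R.subgroupOf K = (PK : Subgroup K) := Subgroup.eq_of_le_of_card_ge hPK
      (hcard.trans_eq (Nat.card_congr (subgroupOfEquivOfLe hRK).toEquiv).symm)
    have := Sylow.normalizer_sup_eq_top PK
    rw [← heq, subgroupOf_map_subtype, inf_of_le_left hRK, hKeq] at this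
    refine eq_top_iff.mpr (this ▸ sup_le le_sup_left (sup_le le_sup_right ?_))
    exact le_normalizer.trans le_sup_left
  have hgen : ∀ g : G, ∀ a ∈ A, g * a * g⁻¹ ∈ B := by
    intro g a ha
    obtain ⟨n, hn, c, hc, rfl⟩ := Subgroup.mem_sup_of_normal_right.mp
      (show g ∈ Subgroup.normalizer (R : Set G) ⊔ C by rw [hfr]; trivial)
    have hca : c * a * c⁻¹ = a := by
      rw [← mem_centralizer_iff.mp hc a (hAV ha)]; group
    have : n * c * a * (n * c)⁻¹ = n * (c * a * c⁻¹) * n⁻¹ := by group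
    rw [this, hca]
    exact dStarOf_conj_mem hn (hAB ha)
  have hVB : V ≤ B := by
    refine (closure_le _).mpr ?_
    intro u hu
    obtain ⟨a, ha, hau⟩ := Group.mem_conjugatesOfSet_iff.mp hu
    obtain ⟨g, rfl⟩ := isConj_iff.mp hau
    exact hgen g a ha
  have hBS : Mem (S : Subgroup G) B := by
    refine ⟨hB.1.trans inf_le_left, hB.2.1, fun x hx hcl => hB.2.2 x ⟨hx, ?_⟩ hcl⟩
    refine hst V (hQp.to_le hVQ) x ?_
    rw [eq_bot_iff, ← hcl]
    exact commutator_mono (commutator_mono (hVB.trans le_sup_left) le_sup_right) le_sup_right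
  have hBA : B = A := le_antisymm (le_dStarOf hBS) hAB
  refine ⟨fun a ha g => ?_⟩
  rw [← hBA]
  exact hgen g a ha

end Cfsg.Agent.S3060
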