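import Cfsg.Statements.S3062
import Cfsg.Agent.Lib.DStar.Basic

set_option autoImplicit false
open Cfsg

namespace Cfsg.Agent.S3062
open Subgroup
open scoped commutatorElement
open DStar

/-- Let S be a finite p-group, J(S) the subgroup generated by the abelian subgroups of S of largest order and Z(J(S)) its centre. Then Z(S) ≤ D*(S) ≤ Z(J(S)), and every maximal normal abelian subgroup of S contains D*(S). -/
theorem result {S : Type*} [Group S] [Finite S] {p : ℕ} [Fact p.Prime]
    (hS : IsPGroup p S) :
    Subgroup.center S ≤ Cfsg.dStar S ∧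
    Cfsg.dStar S ≤ Cfsg.thompsonSubgroupA S ⊓ Subgroup.centralizer (Cfsg.thompsonSubgroupA S : Set S) ∧
    ∀ A : Subgroup S, A.Normal → IsMulCommutative A →
      (∀ B : Subgroup S, B.Normal → IsMulCommutative B → A ≤ B → B = A) → Cfsg.dStar S ≤ A := by
  classical
  haveI : Group.IsNilpotent S := hS.isNilpotent
  have hDn : (Cfsg.dStar S).Normal :=
    @Subgroup.normal_of_characteristic _ _ _ (dStar_characteristic (S := S))
  have hDf := mem_top_iff.mpr (dStar_mem_family hS)
  have hDc : IsMulCommutative ↥(Cfsg.dStar S) := hDf.2.1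
  set D := Cfsg.dStar S with hD
  -- `D` centralizes each abelian subgroup of largest order
  have main : ∀ A ∈ Cfsg.maxAbelianSubgroups S, ∀ d ∈ D, ∀ a ∈ A, d * a = a * d := by
    by_contra hcon
    let bad : Set (Subgroup S) :=
      {A | A ∈ Cfsg.maxAbelianSubgroups S ∧ ¬ ∀ d ∈ D, ∀ a ∈ A, d * a = a * d}
    have hne : bad.Nonempty := by
      by_contra h
      apply hcon
      intro A hA
      by_contra h'
      exact h ⟨A, hA, h'⟩
    obtain ⟨A, ⟨hA, hbad⟩, hmax⟩ := Set.exists_max_image bad (fun A => Nat.card ↥(A ⊓ D))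
      (Set.toFinite _) hne
    by_cases hall : ∀ d ∈ D, ∀ a ∈ A, ⁅d, a⁆ ∈ A
    · apply hbad
      intro d hd a ha
      refine hDf.commute (mem_top a) (fun e he => ?_) (fun e he => ?_) d hd
      · have : ⁅e, a⁆ = e * (a * e⁻¹ * a⁻¹) := by rw [commutatorElement_def]; group
        rw [this]
        exact mul_mem he (hDn.conj_mem _ (inv_mem he) a)
      · exact comm_of_isMulCommutative hA.1 (hall e he a ha) ha
    -- choose the element low in the upper central series
    have hex : ∃ n, ∃ d ∈ D, d ∈ Subgroup.upperCentralSeries S n ∧ ∃ a ∈ A, ⁅d, a⁆ ∉ A := by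
      push Not at hall
      obtain ⟨d, hd, a, ha, hda⟩ := hall
      exact ⟨Group.nilpotencyClass S, d, hd, by
        rw [Subgroup.upperCentralSeries_nilpotencyClass]; trivial, a, ha, hda⟩
    obtain ⟨x, hxD, hxn, hxA⟩ := Nat.find_spec hex
    have hf : ∀ a ∈ A, ⁅x, a⁆ ∈ D := fun a ha => by
      have : ⁅x, a⁆ = x * (a * x⁻¹ * a⁻¹) := by rw [commutatorElement_def]; group
      rw [this]
      exact mul_mem hxD (hDn.conj_mem _ (inv_mem hxD) a)
    have hlow : ∀ a ∈ A, ∀ b ∈ A, ⁅⁅x, a⁆, b⁆ ∈ A := by
      intro a ha b hb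
      by_contra hab
      cases hn : Nat.find hex with
      | zero =>
        rw [hn, Subgroup.upperCentralSeries_zero, mem_bot] at hxn
        subst hxn
        simp at hab
      | succ m =>
        rw [hn] at hxn
        exact Nat.find_min hex (m := m) (by omega)
          ⟨⁅x, a⁆, hf a ha, Subgroup.mem_upperCentralSeries_succ_iff.mp hxn a, b, hb, hab⟩
    obtain ⟨A', hA'c, hcard, hinf, hle, hlt⟩ := replacement A D hA.1 hDc x hf
    have hA' : A' ∈ Cfsg.maxAbelianSubgroups S :=
      ⟨hA'c, fun X hX => le_trans (hA.2 X hX) hcard⟩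
    have hcen : ∀ d ∈ D, ∀ a ∈ A', d * a = a * d := by
      by_contra h
      exact absurd (hmax A' ⟨hA', h⟩)
        (not_le.mpr (Set.Finite.card_lt_card (Set.toFinite _) (hlt hxA)))
    -- hence `D ≤ A'`, and `A'` normalizes `A`
    have hsup : IsMulCommutative ↥(A' ⊔ D) := by
      rw [← closure_eq A', ← closure_eq D, ← Subgroup.closure_union]
      refine isMulCommutative_closure ?_
      rintro u (hu | hu) v (hv | hv)
      · exact comm_of_isMulCommutative hA'c hu hv
      · exact (hcen v hv u hu).symm
      · exact hcen u hu v hv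
      · exact comm_of_isMulCommutative hDc hu hv
    have hDA' : D ≤ A' := by
      have := Subgroup.eq_of_le_of_card_ge (le_sup_left (a := A') (b := D)) (hA'.2 _ hsup)
      exact le_sup_right.trans this.ge
    have hnorm : A' ≤ Subgroup.normalizer (A : Set S) := by
      refine le_trans hle (sup_le ?_ le_normalizer)
      rw [closure_le]
      rintro _ ⟨a, ha, rfl⟩
      refine Subgroup.mem_normalizer_fintype ?_
      intro b hb
      have : ⁅x, a⁆ * b * ⁅x, a⁆⁻¹ = ⁅⁅x, a⁆, b⁆ * b := by simp only [commutatorElement_def]; group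
      rw [this]
      exact mul_mem (hlow a ha b hb) hb
    obtain ⟨a, ha, hxa⟩ := hxA
    apply hxa
    exact mul_mem ((Subgroup.mem_normalizer_iff.mp (hnorm (hDA' hxD)) a).mp ha) (inv_mem ha)
  refine ⟨center_le_dStar, le_inf ?_ ?_, ?_⟩
  · obtain ⟨A, hA⟩ : (Cfsg.maxAbelianSubgroups S).Nonempty := by
      obtain ⟨A, hA, hmax⟩ := Set.exists_max_image {A : Subgroup S | IsMulCommutative A}
        (fun A => Nat.card A) (Set.toFinite _) ⟨⊥, inferInstanceAs (IsMulCommutative ↥(⊥ : Subgroup S))⟩
      exact ⟨A, hA, hmax⟩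
    have hsup : IsMulCommutative ↥(A ⊔ D) := by
      rw [← closure_eq A, ← closure_eq D, ← Subgroup.closure_union]
      refine isMulCommutative_closure ?_
      rintro u (hu | hu) v (hv | hv)
      · exact comm_of_isMulCommutative hA.1 hu hv
      · exact (main A hA v hv u hu).symm
      · exact main A hA u hu v hv
      · exact comm_of_isMulCommutative hDc hu hv
    have := Subgroup.eq_of_le_of_card_ge (le_sup_left (a := A) (b := D)) (hA.2 _ hsup)
    exact le_trans (le_sup_right.trans this.ge) (le_sSup hA)
  · rw [le_centralizer_iff]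
    refine sSup_le fun A hA a ha => ?_
    exact mem_centralizer_iff.mpr fun d hd => main A hA d hd a ha
  · intro A hAn hAc hAmax
    have hcomm : ∀ a ∈ A, ∀ d ∈ D, d * a = a * d := by
      intro a ha d hd
      refine hDf.commute (mem_top a) (fun e he => ?_) (fun e he => ?_) d hd
      · have : ⁅e, a⁆ = e * (a * e⁻¹ * a⁻¹) := by rw [commutatorElement_def]; group
        rw [this]
        exact mul_mem he (hDn.conj_mem _ (inv_mem he) a)
      · refine comm_of_isMulCommutative hAc ?_ ha
        exact mul_mem (hAn.conj_mem a ha e) (inv_mem ha)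
    have hsup : IsMulCommutative ↥(A ⊔ D) := by
      rw [← closure_eq A, ← closure_eq D, ← Subgroup.closure_union]
      refine isMulCommutative_closure ?_
      rintro u (hu | hu) v (hv | hv)
      · exact comm_of_isMulCommutative hAc hu hv
      · exact (hcomm u hu v hv).symm
      · exact hcomm v hv u hu
      · exact comm_of_isMulCommutative hDc hu hv
    exact le_sup_right.trans (hAmax _ (Subgroup.sup_normal A D) hsup le_sup_left).le

end Cfsg.Agent.S3062
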