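import Cfsg.Statements.S3063
import Cfsg.Agent.Lib.DStar.Basic

set_option autoImplicit false
open Cfsg

namespace Cfsg.Agent.S3063
open Subgroup
open scoped commutatorElement
open DStar

/-- A weak replacement Theorem for metabelian p-groups: let S be a finite p-group whose derived subgroup is abelian and A an abelian subgroup of S of largest possible order. Then the normal closure of A in S contains an abelian subgroup B of the same order as A that is normal in S. -/
theorem result {S : Type*} [Group S] [Finite S] {p : ℕ} [Fact p.Prime]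
    (hS : IsPGroup p S) (hmeta : IsMulCommutative ↥(commutator S))
    (A : Subgroup S) (hA : A ∈ Cfsg.maxAbelianSubgroups S) :
    ∃ B ∈ Cfsg.maxAbelianSubgroups S, B.Normal ∧ B ≤ Subgroup.normalClosure (A : Set S) := by
  classical
  set W := Subgroup.normalClosure (A : Set S) with hW
  have hWn : W.Normal := normalClosure_normal
  let D := commutator S
  let fam : Set (Subgroup S) := {B | B ∈ Cfsg.maxAbelianSubgroups S ∧ B ≤ W}
  obtain ⟨B, ⟨hB, hBW⟩, hmax⟩ := Set.exists_max_image fam (fun B => Nat.card ↥(B ⊓ D))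
    (Set.toFinite _) ⟨A, hA, le_normalClosure⟩
  refine ⟨B, hB, ?_, hBW⟩
  by_cases hall : ∀ g : S, ∀ b ∈ B, ⁅g, b⁆ ∈ B
  · refine ⟨fun b hb g => ?_⟩
    have e : g * b * g⁻¹ = ⁅g, b⁆ * b := by rw [commutatorElement_def]; group
    rw [e]
    exact mul_mem (hall g b hb) hb
  push Not at hall
  obtain ⟨g, hg⟩ := hall
  exfalso
  obtain ⟨B', hB'c, hcard, -, hle, hlt⟩ := replacement B D hB.1 hmeta g
    (fun b _ => commutator_mem_commutator (mem_top g) (mem_top b))
  have hB'W : B' ≤ W := by
    refine le_trans hle (sup_le ((closure_le _).mpr ?_) hBW)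
    rintro _ ⟨b, hb, rfl⟩
    exact mul_mem (hWn.conj_mem b (hBW hb) g) (inv_mem (hBW hb))
  have hB' : B' ∈ fam := ⟨⟨hB'c, fun X hX => le_trans (hB.2 X hX) hcard⟩, hB'W⟩
  have := hlt hg
  exact absurd (hmax B' hB') (not_le.mpr (Set.Finite.card_lt_card (Set.toFinite _) this))

end Cfsg.Agent.S3063
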