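import Cfsg.Statements.S3064
import Cfsg.Agent.Lib.ZStar.IsolatedCentral
-- import your own Cfsg.Agent.* helpers here

set_option autoImplicit false
open Cfsg

namespace Cfsg.Agent.S3064

/-- Let S be a Sylow p-subgroup of the finite group G and x an element of S such that (i) x is the only G-conjugate of x lying in S, and (ii) x centralizes every subgroup of order prime to p that it normalizes. Then x lies in the centre of G. -/
theorem result {G : Type*} [Group G] [Finite G] {p : ℕ} [Fact p.Prime]
    (S : Sylow p G) (x : G) (hx : x ∈ S)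
    (hU : ∀ g : G, g⁻¹ * x * g ∈ S → g⁻¹ * x * g = x)
    (hb : ∀ H : Subgroup G, (Nat.card H).Coprime p → (∀ h ∈ H, x * h * x⁻¹ ∈ H) → ∀ h ∈ H, x * h = h * x) :
    x ∈ Subgroup.center G := by
  rw [Subgroup.mem_center_iff]
  intro g
  have hxp : IsPGroup p (Subgroup.zpowers x) := S.2.to_le (Subgroup.zpowers_le.mpr hx)
  refine mul_inv_eq_iff_eq_mul.mp (ZStar.IsolatedCentral.central (p := p) _ G rfl x hxp ?_ hb g)
  intro c P hP hxP hcP
  obtain ⟨R, hR⟩ := hP.exists_le_sylow
  obtain ⟨d, hd⟩ := MulAction.exists_smul_eq G R S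
  have hmem : ∀ b ∈ P, d * b * d⁻¹ ∈ S := fun b hb' => by
    show _ ∈ (S : Subgroup G)
    rw [← hd, Sylow.coe_subgroup_smul, Subgroup.mem_pointwise_smul_iff_inv_smul_mem]
    simpa [MulAut.smul_def, mul_assoc] using hR hb'
  have e1 : d * x * d⁻¹ = x := by simpa using hU d⁻¹ (by simpa using hmem x hxP)
  have e2 : d * (c * x * c⁻¹) * d⁻¹ = x := by
    have h' := hU (c⁻¹ * d⁻¹) (by simpa [mul_assoc] using hmem _ hcP)
    simpa [mul_assoc] using h'
  exact (MulAut.conj d).injective (by simpa only [MulAut.conj_apply] using e2.trans e1.symm)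

end Cfsg.Agent.S3064
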