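import Cfsg.Statements.S3067
import Cfsg.Agent.Lib.CoprimeInvolution.Main
-- import your own Cfsg.Agent.* helpers here

set_option autoImplicit false
open Cfsg

namespace Cfsg.Agent.S3067

/-- Let G be a finite non-abelian simple group, τ an involution of G, and α a nontrivial automorphism of G whose order is coprime to the order of G. Then α moves some element of the centralizer of τ: α does not fix C_G(τ) elementwise. -/
theorem result {G : Type*} [Group G] [Finite G] [IsSimpleGroup G]
    (hG : ¬ IsMulCommutative G) (τ : G) (hτ : orderOf τ = 2) (α : MulAut G) (hα : α ≠ 1)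
    (hcop : (orderOf α).Coprime (Nat.card G)) :
    ∃ c ∈ Subgroup.centralizer ({τ} : Set G), α c ≠ c := by
  by_contra hcon
  push Not at hcon
  have hne : τ ≠ 1 := fun e => by simp [e] at hτ
  have hsq : τ * τ = 1 := by rw [← pow_two, ← hτ, pow_orderOf_eq_one]
  have h : CoprimeInvolution.Hyp α τ :=
    ⟨hsq, hne, fun x hx => hcon x (Subgroup.mem_centralizer_singleton_iff.2 hx.eq)⟩
  have hle := CoprimeInvolution.mov_le_oddCore hcop h
  rcases (inferInstance : (Cfsg.oddCore G).Normal).eq_bot_or_eq_top with hO | hO
  · rw [hO, le_bot_iff, CoprimeInvolution.mov_eq_bot_iff] at hle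
    exact hα (MulEquiv.ext fun x => hle x (Subgroup.mem_top x))
  · have hodd : Odd (Nat.card (Cfsg.oddCore G)) := PCore.odd_card_oddCore
    exact hne (CoprimeInvolution.mem_of_odd_card_of_sq hodd (hO ▸ Subgroup.mem_top τ) hsq)

end Cfsg.Agent.S3067
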