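import Cfsg.Statements.S3069
import Cfsg.Agent.Lib.ConjFun.KInfControl
import Cfsg.Agent.Lib.Transfer.Residual
import Cfsg.Agent.Lib.Coprime.Lift
-- import your own Cfsg.Agent.* helpers here

set_option autoImplicit false
open Cfsg

namespace Cfsg.Agent.S3069

open Subgroup
open scoped Pointwise
universe u

/-- If `N(S)` acts on `S ≠ 1` as a `p`-group and `p ≥ 5`, then `S` is not in the derived subgroup. -/
theorem not_le_commutator {p : ℕ} [Fact p.Prime] (hp : 5 ≤ p) {G : Type u} [Group G] [Finite G]
    (S : Sylow p G) (hS : (S : Subgroup G) ≠ ⊥)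
    (hN : ∀ g ∈ normalizer ((S : Subgroup G) : Set G), (orderOf g).Coprime p →
      g ∈ centralizer ((S : Subgroup G) : Set G)) :
    ¬ (S : Subgroup G) ≤ commutator G := by
  induction hn : Nat.card G using Nat.strong_induction_on generalizing G with
  | _ n ih =>
  subst hn
  intro hle
  set W := Cfsg.inducedFunctor (G := G) Cfsg.kInfLower with hW
  have hchar : Cfsg.IsCharPFunctor.{u} p Cfsg.kInfLower := KInf.isCharPFunctor_kInfLower
  have h𝓦 : ∀ V ∈ ({Cfsg.kInfLower.{u}} : Set (∀ (Q : Type u) [Group Q], Subgroup Q)),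
      Cfsg.IsCharPFunctor.{u} p V := by
    rintro V rfl; exact hchar
  obtain ⟨T, -, hTp, hTi, hTeq⟩ := ConjFun.controlsTransferIn_of_controls h𝓦 rfl
    (ConjFun.controls_kInf hp (Or.inl rfl) G (ConjFun.involves_refl G))
  rw [relIndex_top_right] at hTi
  set U : Sylow p G := hTp.toSylow hTi with hUdef
  obtain ⟨g, hg⟩ := MulAction.exists_smul_eq G S U
  have hconj : ∀ x, x ∈ T ↔ g⁻¹ * x * g ∈ (S : Subgroup G) := by
    intro x
    have e : T = ((g • S : Sylow p G) : Subgroup G) := by rw [hg]; rfl
    rw [e, Sylow.coe_subgroup_smul, mem_pointwise_smul_iff_inv_smul_mem]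
    simp [MulAut.smul_def, MulAut.conj_apply]
  have hTG : T ≤ commutator G := fun x hx => by
    simpa [mul_assoc] using (inferInstance : (commutator G).Normal).conj_mem _ (hle ((hconj x).1 hx)) g
  have hT : T ≠ ⊥ := by
    intro h0
    refine hS ((Subgroup.eq_bot_iff_forall _).2 fun x hx => ?_)
    have := (hconj (g * x * g⁻¹)).2 (by simpa [mul_assoc] using hx)
    rwa [h0, mem_bot, conj_eq_one_iff] at this
  have hNT : ∀ x ∈ normalizer (T : Set G), (orderOf x).Coprime p → x ∈ centralizer (T : Set G) := by
    intro x hx hxp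
    have ho : (orderOf (g⁻¹ * x * g)).Coprime p := by
      have : orderOf (g⁻¹ * x * g) = orderOf x := by
        simpa using (MulEquiv.orderOf_eq (MulAut.conj g⁻¹) x)
      rwa [this]
    have hx' : g⁻¹ * x * g ∈ normalizer ((S : Subgroup G) : Set G) := by
      rw [mem_normalizer_iff]
      intro s
      have h1 := mem_normalizer_iff.1 hx (g * s * g⁻¹)
      rw [hconj, hconj] at h1
      simpa [mul_assoc] using h1
    have hc := hN _ hx' ho
    refine mem_centralizer_iff.2 fun t ht => ?_
    have h2 := congrArg (fun w => g * w * g⁻¹) (mem_centralizer_iff.1 hc _ ((hconj t).1 ht))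
    simpa [mul_assoc] using h2
  rw [← _root_.commutator_def, top_inf_eq, inf_eq_left.2 hTG] at hTeq
  obtain ⟨K, hK⟩ : ∃ K, K = Cfsg.inducedFunctor (G := G) Cfsg.kInfLower T := ⟨_, rfl⟩
  rw [← hK] at hTeq
  set M := normalizer (K : Set G) with hM
  have hWf := ConjFun.isConjugacyFunctor_inducedFunctor (G := G) hchar
  have hTM : T ≤ M := by
    rw [hM, hK]
    exact ConjFun.le_normalizer_functor hWf hTp
  have hTMM : T ≤ ⁅M, M⁆ := hTeq.le.trans inf_le_right
  by_cases hMtop : M = ⊤
  · haveI hKn : K.Normal := normalizer_eq_top_iff.1 hMtop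
    have hKT : K ≤ T := hK ▸ ConjFun.inducedFunctor_le _ _
    have hKne : K ≠ ⊥ := hK ▸ ConjFun.inducedFunctor_ne_bot hchar hTp hT
    set π := QuotientGroup.mk' K with hπ
    by_cases hKTeq : K = T
    · -- `T` is normal and centralised by a complement
      subst hKTeq
      obtain ⟨k, hk⟩ := IsPGroup.iff_card.1 hTp
      have hco : (Nat.card K).Coprime K.index := by
        rw [hk]
        exact Nat.Coprime.pow_left k (((Fact.out : p.Prime).coprime_iff_not_dvd).2 hTi)
      obtain ⟨L, hL⟩ := exists_right_complement'_of_coprime hco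
      have hLc : L ≤ centralizer (K : Set G) := by
        intro x hx
        refine hNT x (by rw [normalizer_eq_top]; exact mem_top x) ?_
        have h1 : orderOf x ∣ K.index := hL.symm.index_eq_card ▸ L.orderOf_dvd_natCard hx
        exact Nat.Coprime.coprime_dvd_left h1 (((Fact.out : p.Prime).coprime_iff_not_dvd).2 hTi).symm
      haveI hLn : L.Normal := by
        rw [← normalizer_eq_top_iff, eq_top_iff, ← hL.sup_eq_top]
        refine sup_le (fun z hz => ?_) le_normalizer
        refine mem_normalizer_iff.2 fun y => ?_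
        constructor
        · intro hy
          rwa [mem_centralizer_iff.1 (hLc hy) z hz, mul_inv_cancel_right]
        · intro hy
          have h1 := mem_centralizer_iff.1 (hLc hy) z⁻¹ (inv_mem hz)
          have : y = z * y * z⁻¹ := by
            calc y = z⁻¹ * (z * y * z⁻¹) * z := by group
              _ = (z * y * z⁻¹) * z⁻¹ * z := by rw [h1]
              _ = _ := by group
          rw [this]; exact hy
      set ρ := QuotientGroup.mk' L
      have htop : K.map ρ = ⊤ := by
        have h0 := congrArg (Subgroup.map ρ) hL.sup_eq_top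
        rw [Subgroup.map_sup, show L.map ρ = ⊥ by rw [Subgroup.map_eq_bot_iff, QuotientGroup.ker_mk'],
          sup_bot_eq, Subgroup.map_top_of_surjective ρ (QuotientGroup.mk'_surjective L)] at h0
        exact h0
      have hp' : IsPGroup p (G ⧸ L) := IsPGroup.of_surjective (hTp.map ρ) (Subgroup.subtype _)
        fun y => ⟨⟨y, htop ▸ mem_top y⟩, rfl⟩
      have hperf : commutator (G ⧸ L) = ⊤ := by
        refine top_le_iff.1 (htop.ge.trans ((map_mono hTG).trans ?_))
        rw [_root_.commutator_def, map_commutator, _root_.commutator_def]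
        exact commutator_mono le_top le_top
      haveI := hp'.isNilpotent
      have hnt : Nontrivial (G ⧸ L) := by
        rw [← not_subsingleton_iff_nontrivial]
        intro hs
        apply hKne
        rw [Subgroup.eq_bot_iff_forall]
        intro x hx
        have : x ∈ L := (QuotientGroup.eq_one_iff x).1 (Subsingleton.elim _ _)
        exact Subgroup.disjoint_def.1 hL.disjoint hx this
      haveI : Group.IsSolvable (G ⧸ L) := inferInstance
      exact ne_of_lt (Group.IsSolvable.commutator_lt_top_of_nontrivial (G ⧸ L)) hperf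
    have hsurj := QuotientGroup.mk'_surjective K
    have hlt : Nat.card (G ⧸ K) < Nat.card G := ConjFun.card_quotient_lt hKne
    refine ih _ hlt (U.mapSurjective hsurj) ?_ ?_ rfl ?_
    · show T.map π ≠ ⊥
      rw [Ne, Subgroup.map_eq_bot_iff, hπ, QuotientGroup.ker_mk']
      exact fun h => hKTeq (le_antisymm hKT h)
    · show ∀ y ∈ normalizer ((T.map π : Subgroup (G ⧸ K)) : Set (G ⧸ K)), (orderOf y).Coprime p →
        y ∈ centralizer ((T.map π : Subgroup (G ⧸ K)) : Set (G ⧸ K))
      intro y hy hyp
      obtain ⟨k, hk⟩ := IsPGroup.iff_card.1 (hTp.to_le hKT)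
      obtain ⟨x, hx, hxo⟩ := Coprime.exists_orderOf_lift K y (hk ▸ hyp.pow_right k)
      have hxN : x ∈ normalizer (T : Set G) := by
        rw [mem_normalizer_iff]
        intro t
        have hm : ∀ s, s ∈ T ↔ π s ∈ T.map π := fun s => by
          rw [← mem_comap, comap_map_eq_self (by rw [hπ, QuotientGroup.ker_mk']; exact hKT)]
        have hx' : π x = y := hx
        rw [hm, hm (x * t * x⁻¹), map_mul, map_mul, map_inv, hx']
        exact mem_normalizer_iff.1 hy (π t)
      have hxc := hNT x hxN (by rwa [hxo])
      refine mem_centralizer_iff.2 ?_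
      rintro _ ⟨t, ht, rfl⟩
      have hx' : π x = y := hx
      rw [← hx', ← map_mul, ← map_mul, mem_centralizer_iff.1 hxc t ht]
    · show T.map π ≤ commutator (G ⧸ K)
      refine (map_mono hTG).trans ?_
      rw [_root_.commutator_def, map_commutator, _root_.commutator_def]
      exact commutator_mono le_top le_top
  · have hidx : ¬ p ∣ T.relIndex M := fun h => hTi (h.trans (relIndex_dvd_index_of_le hTM))
    obtain ⟨R, hR⟩ := ConjFun.exists_sylow_eq hTp hidx
    refine ih _ (ConjFun.card_lt_of_ne_top hMtop) R ?_ ?_ rfl ?_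
    · rw [hR, Ne, subgroupOf_eq_bot]
      exact fun h => hT (h.eq_bot_of_le hTM)
    · intro x hx hxp
      rw [hR] at hx ⊢
      have hx' : (x : G) ∈ normalizer (T : Set G) := by
        have := le_normalizer_map M.subtype (mem_map_of_mem M.subtype hx)
        rwa [map_subgroupOf_eq_of_le hTM] at this
      have hc := hNT _ hx' (by rwa [Subgroup.orderOf_coe])
      exact mem_centralizer_iff.2 fun t ht => Subtype.ext (mem_centralizer_iff.1 hc (t : G) ht)
    · rw [hR]
      intro x hx
      have hx2 : (x : G) ∈ ⁅M, M⁆ := hTMM hx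
      rw [← map_subtype_commutator] at hx2
      obtain ⟨y, hy, hxy⟩ := hx2
      rwa [Subtype.ext hxy] at hy

/-- Let p ≥ 7 be a prime and S a nontrivial Sylow p-subgroup of the finite group G. If N_G(S)/C_G(S) is a p-group (every element of N_G(S) of order prime to p centralizes S), then O^p(G) < G, i.e. G has a nontrivial p-factor group. -/
theorem result {G : Type*} [Group G] [Finite G] {p : ℕ} [Fact p.Prime]
    (hp : 7 ≤ p) (S : Sylow p G) (hS : (S : Subgroup G) ≠ ⊥)
    (hN : ∀ g ∈ Subgroup.normalizer ((S : Subgroup G) : Set G), (orderOf g).Coprime p →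
      g ∈ Subgroup.centralizer ((S : Subgroup G) : Set G)) :
    Cfsg.pResidual p G ≠ ⊤ := by
  intro htop
  refine not_le_commutator (by omega) S hS hN fun x hx => ?_
  have hall : ∀ y : Abelianization G, (orderOf y).Coprime p := by
    have hmap : Subgroup.map Abelianization.of (Cfsg.pResidual p G) = ⊤ := by
      rw [htop, ← MonoidHom.range_eq_map]
      exact MonoidHom.range_eq_top.2 (fun y => Quotient.inductionOn' y fun g => ⟨g, rfl⟩)
    intro y
    have hy : y ∈ Subgroup.map Abelianization.of (Cfsg.pResidual p G) := hmap ▸ Subgroup.mem_top y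
    rw [Cfsg.pResidual, MonoidHom.map_closure] at hy
    induction hy using Subgroup.closure_induction with
    | mem w hw =>
      obtain ⟨g, hg, rfl⟩ := hw
      exact Nat.Coprime.coprime_dvd_left (orderOf_map_dvd _ g) hg
    | one => rw [orderOf_one]; exact Nat.coprime_one_left p
    | mul u v _ _ hu hv =>
      exact Nat.Coprime.coprime_dvd_left ((Commute.all u v).orderOf_mul_dvd_mul_orderOf) (hu.mul_left hv)
    | inv u _ hu => rwa [orderOf_inv]
  rw [← Abelianization.ker_of G, MonoidHom.mem_ker, ← orderOf_eq_one_iff]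
  obtain ⟨k, hk⟩ := S.2 ⟨x, hx⟩
  exact Nat.eq_one_of_dvd_coprimes ((hall (Abelianization.of x)).pow_right k) dvd_rfl
    ((orderOf_map_dvd _ x).trans (orderOf_dvd_of_pow_eq_one (congrArg Subtype.val hk)))


end Cfsg.Agent.S3069
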