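import Cfsg.Statements.S3070
import Cfsg.Agent.Lib.LargeAbelian.Complement
import Cfsg.Agent.Lib.PComplement.SelfCentralizing

set_option autoImplicit false
open Cfsg
open scoped commutatorElement

namespace Cfsg.Agent.S3070

/-- Let p ≥ 5 be a prime, S a Sylow p-subgroup of the finite group G and J(S) the subgroup generated by the abelian subgroups of S of largest order. Then G has a normal p-complement if and only if N_G(J(S))/C_G(J(S)) is a p-group (every element of N_G(J(S)) of order prime to p centralizes J(S)). -/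
theorem result {G : Type*} [Group G] [Finite G] {p : ℕ} [Fact p.Prime]
    (hp : 5 ≤ p) (S : Sylow p G) :
    Cfsg.HasNormalPComplement p G ↔
      ∀ g ∈ Subgroup.normalizer (Cfsg.thompsonSubgroupAOf (S : Subgroup G) : Set G), (orderOf g).Coprime p →
        g ∈ Subgroup.centralizer (Cfsg.thompsonSubgroupAOf (S : Subgroup G) : Set G) := by
  have hJS : Cfsg.thompsonSubgroupAOf (S : Subgroup G) ≤ S :=
    Cfsg.Agent.PGroup.thompsonSubgroupAOf_le _
  have hSN : (S : Subgroup G) ≤ Subgroup.normalizer (Cfsg.thompsonSubgroupAOf (S : Subgroup G) : Set G) :=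
    Subgroup.le_normalizer.trans (Cfsg.Agent.PGroup.normalizer_le_normalizer_thompsonAOf _)
  constructor
  · intro hG g hg hgp
    refine Subgroup.mem_centralizer_iff.mpr fun x hx => ?_
    haveI := Cfsg.Agent.Transfer.pResidual_normal (G := G) p
    have h1 : ⁅g, x⁆ ∈ Cfsg.pResidual p G := Subgroup.commutator_le_left _ ⊤
      (Subgroup.commutator_mem_commutator ((Cfsg.Agent.Transfer.mem_pResidual_iff hG g).2 hgp)
        (Subgroup.mem_top x))
    have h2 : ⁅g, x⁆ ∈ (S : Subgroup G) :=
      mul_mem (hJS ((Subgroup.mem_normalizer_iff.mp hg x).mp hx)) (inv_mem (hJS hx))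
    exact (commutatorElement_eq_one_iff_mul_comm.mp (Cfsg.Agent.PComplement.eq_one_of_mem_sylow h2
      ((Cfsg.Agent.Transfer.mem_pResidual_iff hG _).1 h1))).symm
  · intro h
    exact Cfsg.Agent.LargeAbelian.jAComplement hp S
      (Cfsg.Agent.PComplement.hasNormalPComplement_normalizer_of_centralizes S _ hSN
        (Cfsg.Agent.PGroup.centralizer_thompsonA_le _) h)

end Cfsg.Agent.S3070
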