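import Cfsg.Statements.S3071
import Cfsg.Agent.Lib.ZJControl.Local
import Cfsg.Agent.Lib.Quadratic.SectionFree
import Cfsg.Agent.Lib.Transfer.FunctorFusionRestricted
-- import your own Cfsg.Agent.* helpers here

set_option autoImplicit false
open Cfsg

namespace Cfsg.Agent.S3071

open Cfsg.Agent
open scoped MatrixGroups

theorem exists_le_of_involves {G : Type*} [Group G] {X : Type*} [Group X] {N : Subgroup G}
    (h : Cfsg.Involves X ↥N) : ∃ (H K : Subgroup G) (_ : (K.subgroupOf H).Normal), H ≤ N ∧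
      Nonempty ((H ⧸ K.subgroupOf H) ≃* X) := by
  obtain ⟨K, φ, hφ⟩ := ConjFun.exists_surjective_of_involves h
  set e := K.equivMapOfInjective N.subtype N.subtype_injective
  set H := K.map N.subtype with hH
  set ψ := φ.comp e.symm.toMonoidHom
  have hψ : Function.Surjective ψ := hφ.comp e.symm.surjective
  have heq : (ψ.ker.map H.subtype).subgroupOf H = ψ.ker :=
    Subgroup.comap_map_eq_self_of_injective H.subtype_injective _
  haveI hn : ((ψ.ker.map H.subtype).subgroupOf H).Normal := heq.symm ▸ MonoidHom.normal_ker ψ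
  exact ⟨H, ψ.ker.map H.subtype, hn, Subgroup.map_subtype_le K,
    ⟨(QuotientGroup.quotientMulEquivOfEq heq).trans
      (QuotientGroup.quotientKerEquivOfSurjective ψ hψ)⟩⟩

theorem involves_normalizer_conjMap {G : Type*} [Group G] {X : Type*} [Group X] (m : G)
    (U : Subgroup G)
    (h : Cfsg.Involves X ↥(Subgroup.normalizer ((Transfer.conjMap m U : Subgroup G) : Set G))) :
    Cfsg.Involves X ↥(Subgroup.normalizer (U : Set G)) := by
  rw [Transfer.normalizer_conjMap] at h
  set e := (Subgroup.normalizer (U : Set G)).equivMapOfInjective (MulAut.conj m).toMonoidHom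
    (MulAut.conj m).injective
  exact ConjFun.involves_trans h (ConjFun.involves_of_surjective ⊤
    (e.toMonoidHom.comp (⊤ : Subgroup ↥(Subgroup.normalizer (U : Set G))).subtype)
    fun y => ⟨⟨e.symm y, Subgroup.mem_top _⟩, e.apply_symm_apply y⟩)

/-- Let p be an odd prime and S a Sylow p-subgroup of the finite group G such that, for every subgroup P with Z(S) ≤ P ≤ S, the normalizer N_G(P) has no section isomorphic to SL₂(p). Let J(S) be the subgroup generated by the abelian subgroups of S of largest order. Then two elements of S are conjugate in G if and only if they are conjugate in N_G(Z(J(S))). -/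
theorem result {G : Type*} [Group G] [Finite G] {p : ℕ} [Fact p.Prime]
    (hp : p ≠ 2) (S : Sylow p G)
    (hfree : ∀ P : Subgroup G, (S : Subgroup G) ⊓ Subgroup.centralizer ((S : Subgroup G) : Set G) ≤ P → P ≤ S →
      ¬ ∃ (H K : Subgroup G) (hK : (K.subgroupOf H).Normal), H ≤ Subgroup.normalizer (P : Set G) ∧
        Nonempty ((H ⧸ K.subgroupOf H) ≃* Matrix.SpecialLinearGroup (Fin 2) (ZMod p))) :
    ∀ x ∈ S, ∀ y ∈ S, (∃ g : G, g * x * g⁻¹ = y) ↔
      ∃ n ∈ Subgroup.normalizer (Cfsg.centerThompsonAOf (S : Subgroup G) : Set G), n * x * n⁻¹ = y := by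
  intro x hx y hy
  refine ⟨?_, fun ⟨n, _, hn⟩ => ⟨n, hn⟩⟩
  rintro ⟨g, hg⟩
  by_cases hS : (S : Subgroup G) = ⊥
  · have hx1 : x = 1 := Subgroup.mem_bot.1 (hS ▸ hx)
    subst hx1
    exact ⟨1, one_mem _, by simpa using hg⟩
  set Z := (S : Subgroup G) ⊓ Subgroup.centralizer ((S : Subgroup G) : Set G) with hZ
  let R : Subgroup G → Prop := fun U =>
    ¬ Cfsg.Involves SL(2, ZMod p) ↥(Subgroup.normalizer (U : Set G))
  have hR : ∀ U : Subgroup G, Z ≤ U → U ≤ (S : Subgroup G) → R U := by
    intro U hZU hUS h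
    obtain ⟨H, K, hK, hHN, hiso⟩ := exists_le_of_involves h
    exact hfree U hZU hUS ⟨H, K, hK, hHN, hiso⟩
  have hA := ZJControl.isZJLike_A (p := p) hp
  have hD : Cfsg.IsStronglyClosed (S : Subgroup G) (S : Subgroup G) :=
    Replacement.isStronglyClosed_self _
  have hW := ZJControl.isConjugacyFunctor_wFun hA (S : Subgroup G)
  have hWT : ∀ T : Subgroup G, T ≤ (S : Subgroup G) → T ≠ ⊥ →
      ZJControl.wFun ZJControl.zjA (S : Subgroup G) T = Cfsg.centerThompsonAOf T := by
    intro T hT hT1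
    rw [ZJControl.wFun_eq hD hT (by rwa [inf_eq_right.2 hT]), inf_eq_right.2 hT]
  have hfam := Transfer.familyControlsStrongFusionIn_top_of_local_restricted (R := R)
    (Transfer.isGoodPred_fullyNormalized S) (𝓦 := {ZJControl.wFun ZJControl.zjA (S : Subgroup G)})
    (fun W hW' => by obtain rfl : W = _ := hW'; exact hW)
    (fun m U hU _ h => hU (involves_normalizer_conjMap m U h))
    (fun W hW' E hES hE1 _ => by
      obtain rfl : W = _ := hW'
      set T := (S : Subgroup G) ⊓ Subgroup.normalizer (E : Set G)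
      have hET : E ≤ T := le_inf hES Subgroup.le_normalizer
      have hT1 : T ≠ ⊥ := fun h => hE1 (le_bot_iff.1 (h ▸ hET))
      rw [hWT T inf_le_left hT1]
      refine hR _ (fun z hz => ?_) ((hA.le G T).trans inf_le_left)
      have hzE : z ∈ Subgroup.centralizer (E : Set G) := Subgroup.centralizer_le hES hz.2
      have hzT : z ∈ T := ⟨hz.1, Subgroup.centralizer_le_normalizer _ hzE⟩
      have hzc : z ∈ Subgroup.centralizer (T : Set G) := Subgroup.centralizer_le inf_le_left hz.2
      have hzJ : z ∈ Subgroup.centralizer (Cfsg.thompsonSubgroupAOf T : Set G) :=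
        Subgroup.centralizer_le (PGroup.thompsonSubgroupAOf_le T) hzc
      exact ⟨PGroup.centralizer_thompsonA_le T ⟨hzT, hzJ⟩, hzJ⟩)
    (fun D hD' _ => hR D (fun z hz => by
      have hzD : z ∈ Subgroup.centralizer (D : Set G) := Subgroup.centralizer_le hD'.1 hz.2
      exact ZJControl.member_inf_le hD' ⟨hz.1, hD'.2.1 hzD⟩) hD'.1)
    fun E hEP hE1 hEg hER => by
      set H := Subgroup.normalizer (E : Set G) with hH
      set T := (S : Subgroup G) ⊓ H with hT
      have hET : E ≤ T := le_inf hEP Subgroup.le_normalizer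
      have hT1 : T ≠ ⊥ := fun h => hE1 (le_bot_iff.1 (h ▸ hET))
      refine Transfer.controlsStrongFusionIn_iff_singleton.1
        ⟨T, inf_le_right, S.2.to_le inf_le_left, hEg, fun B h hh hB hBh => ?_⟩
      obtain ⟨P, hP⟩ := ConjFun.exists_sylow_eq (p := p) (H := H) (S.2.to_le (inf_le_left : T ≤ _)) hEg
      obtain ⟨w, hw, he⟩ := ZJControl.controlled_of_stableClass (p := p) hp
        (fun K _ => ¬ Cfsg.Involves SL(2, ZMod p) K)
        (fun _ _ _ L h hL => h (ConjFun.involves_trans hL (ConjFun.involves_subgroup L)))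
        (fun _ _ _ N _ h hN => h (ConjFun.involves_trans hN (ConjFun.involves_quotient N)))
        (fun _ _ _ h Q _ => Replacement.stableOn_of_isPStableOn _ fun V _ hV =>
          Quadratic.isPStableOn_of_not_involves_sl2 hp h V hV)
        (show ¬ Cfsg.Involves SL(2, ZMod p) ↥H from hER) hA P
        (Replacement.isStronglyClosed_self _) (H.subtype ⁻¹' B)
        (fun b hb => by rw [hP]; exact hB hb) ⟨h, hh⟩
        (fun b hb => by rw [hP]; exact hBh ⟨(b : G), hb, rfl⟩)
      refine ⟨(w : G), ⟨w.2, ?_⟩, fun b hb =>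
        (congrArg Subtype.val (he ⟨b, (inf_le_right : T ≤ H) (hB hb)⟩ hb)).symm⟩
      have e : (ZJControl.zjA H (T.subgroupOf H)).map H.subtype = ZJControl.zjA G T := by
        rw [← hA.map_subtype, Subgroup.map_subgroupOf_eq_of_le (inf_le_right : T ≤ H)]
      rw [hWT T inf_le_left hT1, show Cfsg.centerThompsonAOf T = ZJControl.zjA G T from rfl, ← e]
      exact Subgroup.le_normalizer_map H.subtype ⟨w, hP ▸ hw, rfl⟩
  obtain ⟨n, hn, c, hc, rfl⟩ := (Transfer.controlsStrongFusionIn_top_iff S hW).1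
    (Transfer.controlsStrongFusionIn_iff_singleton.2 hfam) (Subgroup.zpowers x) g
    (Subgroup.zpowers_le.2 hx) (by
      rintro _ ⟨z, hz, rfl⟩
      obtain ⟨k, rfl⟩ := hz
      show g * x ^ k * g⁻¹ ∈ (S : Subgroup G)
      rw [← conj_zpow, hg]
      exact zpow_mem hy k)
  rw [hWT _ le_rfl hS] at hn
  refine ⟨n, hn, ?_⟩
  rw [← hg]
  have h1 := Subgroup.mem_centralizer_iff.1 hc x (Subgroup.mem_zpowers x)
  calc n * x * n⁻¹ = n * (x * c) * c⁻¹ * n⁻¹ := by group
    _ = n * (c * x) * c⁻¹ * n⁻¹ := by rw [h1]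
    _ = n * c * x * (n * c)⁻¹ := by group


end Cfsg.Agent.S3071
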