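import Cfsg.Statements.S3073
import Cfsg.Agent.Lib.PComplement.GlaubermanThompson
import Cfsg.Agent.Lib.Transfer.Frobenius
import Cfsg.Agent.Lib.SylowCount.Basic
import Cfsg.Agent.Lib.Coprime.Stabilize

set_option autoImplicit false
universe u
open Cfsg

namespace Cfsg.Agent.S3073

open Subgroup

variable {p : ℕ}

/-- `p'`-elements normalising `Q` centralise it. -/
def Ctrl (p : ℕ) {G : Type u} [Group G] (Q : Subgroup G) : Prop :=
  ∀ g ∈ normalizer (Q : Set G), (orderOf g).Coprime p → g ∈ centralizer (Q : Set G)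

/-- `K` decides p-nilpotency in every group with Sylow subgroup `S`. -/
def Decides (p : ℕ) (S : Type u) [Group S] (K : Subgroup S) : Prop :=
  ∀ (G : Type u) [Group G] [Finite G] (ι : S →* G), Function.Injective ι →
    (∃ P : Sylow p G, ι.range = (P : Subgroup G)) → Ctrl p (K.map ι) →
      Cfsg.HasNormalPComplement p G

theorem exists_coprime_lift [Fact p.Prime] {A B : Type*} [Group A] [Finite A] [Group B]
    (f : A →* B) (a : A) (h : (orderOf (f a)).Coprime p) :
    ∃ k : ℕ, (orderOf (a ^ k)).Coprime p ∧ f (a ^ k) = f a := by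
  obtain ⟨e, m, hm, hem⟩ := Nat.exists_eq_pow_mul_and_not_dvd (orderOf_pos a).ne' p
    (Fact.out : p.Prime).ne_one
  obtain ⟨l, hl⟩ := exists_pow_eq_self_of_coprime (x := f a) (h.symm.pow_left e)
  refine ⟨p ^ e * l, ?_, ?_⟩
  · have hd : orderOf (a ^ (p ^ e * l)) ∣ m := by
      apply orderOf_dvd_of_pow_eq_one
      rw [← pow_mul, mul_right_comm, ← hem, pow_mul, pow_orderOf_eq_one, one_pow]
    exact Nat.Coprime.coprime_dvd_left hd
      ((Nat.Prime.coprime_iff_not_dvd Fact.out).2 hm).symm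
  · rw [map_pow, pow_mul, hl]

/-- All `p'`-elements in a p-nilpotent subgroup force p-nilpotency. -/
theorem hasNPC_of_coprime_mem [Fact p.Prime] {G : Type u} [Group G] [Finite G] (M : Subgroup G)
    (hM : Cfsg.HasNormalPComplement p M) (h : ∀ g : G, (orderOf g).Coprime p → g ∈ M) :
    Cfsg.HasNormalPComplement p G := by
  rw [Transfer.hasNormalPComplement_iff] at hM ⊢
  intro hd
  apply hM
  refine hd.trans ?_
  rw [← card_map_of_injective M.subtype_injective]
  refine card_dvd_of_le ((closure_le _).2 fun g hg => ?_)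
  refine ⟨⟨g, h g hg⟩, Transfer.mem_residual_of_coprime ?_, rfl⟩
  rw [orderOf_mk]
  exact hg

/-- Central extension by a p-group. -/
theorem hasNPC_of_central [Fact p.Prime] {G : Type u} [Group G] [Finite G] (Z : Subgroup G)
    [Z.Normal] (hZ : Z ≤ center G) (hZp : IsPGroup p Z)
    (h : Cfsg.HasNormalPComplement p (G ⧸ Z)) : Cfsg.HasNormalPComplement p G := by
  set f := QuotientGroup.mk' Z
  set M := (Cfsg.pResidual p (G ⧸ Z)).comap f with hM
  refine hasNPC_of_coprime_mem M ?_ fun g hg => ?_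
  · have hZM : Z ≤ M := fun z hz => by
      show f z ∈ Cfsg.pResidual p (G ⧸ Z)
      rw [show f z = 1 from (QuotientGroup.eq_one_iff z).2 hz]
      exact one_mem _
    have hidx : ¬ p ∣ (Z.subgroupOf M).index := by
      have h1 : Z.relIndex M = Nat.card (Cfsg.pResidual p (G ⧸ Z)) := by
        rw [hM]
        conv_lhs => arg 1; rw [← QuotientGroup.ker_mk' Z]
        rw [← MonoidHom.comap_bot, relIndex_comap,
          map_comap_eq_self_of_surjective (QuotientGroup.mk'_surjective Z), relIndex_bot_left]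
      show ¬ p ∣ Z.relIndex M
      rw [h1]
      exact Transfer.hasNormalPComplement_iff.1 h
    have hp' : IsPGroup p (Z.subgroupOf M) :=
      hZp.comap_of_injective M.subtype M.subtype_injective
    refine (Transfer.hasNormalPComplement_iff_inf_eq_bot (hp'.toSylow hidx)).2
      (Transfer.pResidual_le_centralizer_of_central_sylow _ ?_)
    intro z hz
    rw [mem_center_iff]
    exact fun y => Subtype.ext (mem_center_iff.1 (hZ (hz : (z : G) ∈ Z)) y)
  · exact Transfer.mem_residual_of_coprime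
      (Nat.Coprime.coprime_dvd_left (orderOf_map_dvd f g) hg)

theorem mem_normalizer_of_conj_mem {G : Type u} [Group G] [Finite G] {H : Subgroup G} {g : G}
    (h : ∀ x ∈ H, g * x * g⁻¹ ∈ H) : g ∈ normalizer (H : Set G) := by
  apply PGroup.mem_normalizer_of_map_conj_eq
  refine eq_of_le_of_card_ge ?_ (card_map_of_injective (MulAut.conj g).injective).ge
  rintro _ ⟨x, hx, rfl⟩
  exact h x hx

/-- Invariance of the pull-back of a characteristic subgroup. -/
theorem comap_mk_invariant {T : Type u} [Group T] (Z : Subgroup T) [Z.Normal]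
    {K' : Subgroup (T ⧸ Z)} (hK : K'.Characteristic) (φ : T ≃* T)
    (hφ : Z.map φ.toMonoidHom = Z) {t : T} (ht : t ∈ K'.comap (QuotientGroup.mk' Z)) :
    φ t ∈ K'.comap (QuotientGroup.mk' Z) := by
  have h := (characteristic_iff_map_eq.1 hK (QuotientGroup.congr Z Z φ hφ))
  show QuotientGroup.mk' Z (φ t) ∈ K'
  rw [← h]
  exact ⟨QuotientGroup.mk' Z t, ht, rfl⟩

section Step

variable [Fact p.Prime] {S : Type u} [Group S] [Finite S] {Z T : Subgroup S}
  [(Z.subgroupOf T).Normal] {K' : Subgroup (↥T ⧸ Z.subgroupOf T)}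

variable (Z T K') in
/-- The pull-back of `K'` into `S`. -/
abbrev lift : Subgroup S := (K'.comap (QuotientGroup.mk' (Z.subgroupOf T))).map T.subtype

theorem mem_lift {x : S} :
    x ∈ lift Z T K' ↔ ∃ hx : x ∈ T, QuotientGroup.mk' (Z.subgroupOf T) ⟨x, hx⟩ ∈ K' :=
  ⟨fun ⟨t, ht, e⟩ => e ▸ ⟨t.2, ht⟩, fun ⟨hx, h⟩ => ⟨⟨x, hx⟩, h, rfl⟩⟩

theorem lift_le : lift Z T K' ≤ T := map_subtype_le _

theorem le_lift (hZT : Z ≤ T) : Z ≤ lift Z T K' := fun z hz => mem_lift.2
  ⟨hZT hz, by
    rw [show QuotientGroup.mk' (Z.subgroupOf T) ⟨z, hZT hz⟩ = 1 from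
      (QuotientGroup.eq_one_iff _).2 hz]
    exact one_mem _⟩

theorem lift_characteristic [hT : T.Characteristic] [hZ : Z.Characteristic]
    (hK : K'.Characteristic) : (lift Z T K').Characteristic := by
  refine characteristic_iff_le_comap.2 fun φ x hx => ?_
  obtain ⟨hxT, hx'⟩ := mem_lift.1 hx
  have hmT : T.map φ.toMonoidHom = T := characteristic_iff_map_eq.1 hT φ
  let ψ : ↥T ≃* ↥T := (φ.subgroupMap T).trans (MulEquiv.subgroupCongr hmT)
  have hψ : (Z.subgroupOf T).map ψ.toMonoidHom = Z.subgroupOf T := by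
    refine eq_of_le_of_card_ge ?_ (card_map_of_injective ψ.injective).ge
    rintro _ ⟨z, hz, rfl⟩
    show φ (z : S) ∈ Z
    rw [← characteristic_iff_map_eq.1 hZ φ]
    exact ⟨(z : S), hz, rfl⟩
  exact mem_lift.2 ⟨(ψ ⟨x, hxT⟩).2, comap_mk_invariant _ hK ψ hψ hx'⟩

theorem centralizer_inf_lift_le (hK : centralizer (K' : Set (↥T ⧸ Z.subgroupOf T)) ≤ K') :
    T ⊓ centralizer (lift Z T K' : Set S) ≤ lift Z T K' := by
  rintro x ⟨hxT, hxC⟩
  refine mem_lift.2 ⟨hxT, hK (mem_centralizer_iff.2 fun q hq => ?_)⟩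
  obtain ⟨t, rfl⟩ := QuotientGroup.mk'_surjective _ q
  rw [← map_mul, ← map_mul]
  exact congrArg _ (Subtype.ext (mem_centralizer_iff.1 hxC _ ⟨t, hq, rfl⟩))

theorem step (hp : p ≠ 2) (hS : IsPGroup p S) (hK : K'.Characteristic)
    (hcK : centralizer (K' : Set (↥T ⧸ Z.subgroupOf T)) ≤ K')
    (hdec : Decides p (↥T ⧸ Z.subgroupOf T) K') (hZT : T = centralizer (Z : Set S))
    (hZT' : Z ≤ T) (hZn : Z.Normal)
    (hZJ : Z = PComplement.zOf (Cfsg.thompsonSubgroupA S)) :
    Decides p S (lift Z T K') := by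
  -- the case where the image of `Z` is normal
  have core : ∀ (G : Type u) [Group G] [Finite G] (ι : S →* G), Function.Injective ι →
      (∃ P : Sylow p G, ι.range = (P : Subgroup G)) → (Z.map ι).Normal →
      Ctrl p ((lift Z T K').map ι) → Cfsg.HasNormalPComplement p G := by
    intro G _ _ ι hι ⟨P, hP⟩ hn hc
    set ZG := Z.map ι
    set X := centralizer (ZG : Set G)
    haveI := hn
    have hTX : ∀ s : S, ι s ∈ X ↔ s ∈ T := by
      intro s
      rw [hZT]
      constructor
      · exact fun hs => mem_centralizer_iff.2 fun z hz => hι (by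
          rw [map_mul, map_mul]; exact mem_centralizer_iff.1 hs _ ⟨z, hz, rfl⟩)
      · intro hs
        refine mem_centralizer_iff.2 ?_
        rintro _ ⟨z, hz, rfl⟩
        rw [← map_mul, ← map_mul, mem_centralizer_iff.1 hs z hz]
    obtain ⟨R, hR⟩ := SylowCount.exists_sylow_inf P X
    let ιT : ↥T →* X := (ι.comp T.subtype).codRestrict X fun t => (hTX _).2 t.2
    have hιT : ιT.range = (R : Subgroup X) := by
      rw [hR]
      ext x
      rw [mem_subgroupOf, ← hP]
      constructor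
      · rintro ⟨t, rfl⟩; exact ⟨(t : S), rfl⟩
      · rintro ⟨s, hs⟩
        exact ⟨⟨s, (hTX s).1 (hs ▸ x.2)⟩, Subtype.ext hs⟩
    have hZX : ∀ z ∈ ZG, z ∈ X := by
      rintro _ ⟨z, hz, rfl⟩
      exact (hTX z).2 (hZT' hz)
    set ZX := ZG.subgroupOf X with hZXdef
    have hZXc : ZX ≤ center X := fun z hz => mem_center_iff.2 fun y =>
      Subtype.ext (mem_centralizer_iff.1 y.2 _ hz).symm
    have hle : Z.subgroupOf T ≤ ZX.comap ιT := fun t ht => ⟨(t : S), ht, rfl⟩
    let ι' : ↥T ⧸ Z.subgroupOf T →* ↥X ⧸ ZX := QuotientGroup.map _ ZX ιT hle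
    have hι' : Function.Injective ι' := by
      refine (injective_iff_map_eq_one _).2 fun q hq => ?_
      obtain ⟨t, rfl⟩ := QuotientGroup.mk'_surjective _ q
      obtain ⟨z, hz, hzt⟩ := (QuotientGroup.eq_one_iff (ιT t)).1 hq
      refine (QuotientGroup.eq_one_iff t).2 ?_
      show (t : S) ∈ Z
      exact (hι hzt : z = (t : S)) ▸ hz
    have hι'r : ι'.range = (R.mapSurjective (QuotientGroup.mk'_surjective ZX) :
        Subgroup (↥X ⧸ ZX)) := by
      show _ = (R : Subgroup X).map (QuotientGroup.mk' ZX)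
      rw [← hιT]
      ext q
      constructor
      · rintro ⟨q0, rfl⟩
        obtain ⟨t, rfl⟩ := QuotientGroup.mk'_surjective _ q0
        exact ⟨ιT t, ⟨t, rfl⟩, rfl⟩
      · rintro ⟨_, ⟨t, rfl⟩, rfl⟩
        exact ⟨QuotientGroup.mk' _ t, rfl⟩
    have hXN : Cfsg.HasNormalPComplement p X := by
      have hZXp : IsPGroup p ZX :=
        ((hS.to_subgroup Z).map ι).comap_of_injective X.subtype X.subtype_injective
      refine hasNPC_of_central ZX hZXc hZXp (hdec _ ι' hι' ⟨_, hι'r⟩ fun g hg hgo => ?_)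
      obtain ⟨x0, rfl⟩ := QuotientGroup.mk'_surjective ZX g
      obtain ⟨k, hxo, hx⟩ := exists_coprime_lift (QuotientGroup.mk' ZX) x0 hgo
      set x := x0 ^ k
      rw [← hx] at hg ⊢
      have hxN : (x : G) ∈ normalizer ((lift Z T K').map ι : Set G) := by
        refine mem_normalizer_of_conj_mem ?_
        rintro _ ⟨_, ⟨t, ht, rfl⟩, rfl⟩
        obtain ⟨q, hq, hqe⟩ := (mem_normalizer_iff.1 hg (ι' (QuotientGroup.mk' _ t))).1
          ⟨_, ht, rfl⟩
        obtain ⟨t', rfl⟩ := QuotientGroup.mk'_surjective _ q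
        have he : (ιT t')⁻¹ * (x * ιT t * x⁻¹) ∈ ZX := by
          rw [← QuotientGroup.eq]
          exact hqe
        obtain ⟨z, hz, hze⟩ := he
        refine ⟨(t' : S) * z, mul_mem ⟨t', hq, rfl⟩ (le_lift hZT' hz), ?_⟩
        show ι ((t' : S) * z) = (x : G) * ι t * (x : G)⁻¹
        rw [map_mul, hze]
        simp [ιT, mul_assoc]
      have hxC := hc _ hxN (by rwa [orderOf_coe])
      refine mem_centralizer_iff.2 ?_
      rintro _ ⟨q, hq, rfl⟩
      obtain ⟨t, rfl⟩ := QuotientGroup.mk'_surjective _ q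
      show QuotientGroup.mk' ZX (ιT t) * QuotientGroup.mk' ZX x
        = QuotientGroup.mk' ZX x * QuotientGroup.mk' ZX (ιT t)
      rw [← map_mul, ← map_mul]
      exact congrArg _ (Subtype.ext
        (mem_centralizer_iff.1 hxC _ ⟨_, ⟨t, hq, rfl⟩, rfl⟩))
    -- Frattini
    set TG := T.map ι
    have hTG : (R : Subgroup X).map X.subtype = TG := by
      rw [← hιT, MonoidHom.map_range]
      ext y
      constructor
      · rintro ⟨t, rfl⟩; exact ⟨(t : S), t.2, rfl⟩
      · rintro ⟨s, hs, rfl⟩; exact ⟨⟨s, hs⟩, rfl⟩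
    have hnorm : ∀ n ∈ normalizer (TG : Set G),
        n ∈ normalizer ((lift Z T K').map ι : Set G) := by
      intro n hn'
      refine mem_normalizer_of_conj_mem ?_
      rintro _ ⟨_, ⟨t, ht, rfl⟩, rfl⟩
      let eT : ↥T ≃* ↥TG := T.equivMapOfInjective ι hι
      let c : ↥TG ≃* ↥TG := ((MulAut.conj n).subgroupMap TG).trans
        (MulEquiv.subgroupCongr (PGroup.map_conj_eq_of_mem_normalizer hn'))
      let φ : ↥T ≃* ↥T := (eT.trans c).trans eT.symm
      have hφ : ∀ s : ↥T, ι (φ s) = n * ι s * n⁻¹ := fun s =>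
        congrArg Subtype.val (eT.apply_symm_apply (c (eT s)))
      have hφZ : (Z.subgroupOf T).map φ.toMonoidHom = Z.subgroupOf T := by
        refine eq_of_le_of_card_ge ?_ (card_map_of_injective φ.injective).ge
        rintro _ ⟨z, hz, rfl⟩
        obtain ⟨z', hz', he⟩ := hn.conj_mem _ (⟨(z : S), hz, rfl⟩ : ι z ∈ ZG) n
        show (φ z : S) ∈ Z
        rw [← hι (he.trans (hφ z).symm)]
        exact hz'
      exact ⟨(φ t : S), ⟨φ t, comap_mk_invariant _ hK φ hφZ ht, rfl⟩, hφ t⟩
    have hKn : ∀ t ∈ T, ∀ k ∈ lift Z T K', t * k * t⁻¹ ∈ lift Z T K' := by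
      intro t ht k hk
      obtain ⟨k', hk', rfl⟩ := hk
      haveI := hK
      exact ⟨⟨t, ht⟩ * k' * ⟨t, ht⟩⁻¹,
        (normal_of_characteristic K').comap _ |>.conj_mem k' hk' _, rfl⟩
    have hcent : ∀ n ∈ normalizer (TG : Set G), (orderOf n).Coprime p → n ∈ X := by
      intro n hn' hno
      have hnC := hc n (hnorm n hn') hno
      refine mem_centralizer_iff.2 ?_
      rintro _ ⟨z, hz, rfl⟩
      suffices h : ∀ t ∈ T, Commute n (ι t) from (h z (hZT' hz)).symm.eq
      intro t ht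
      obtain ⟨t', ht', he⟩ := (mem_normalizer_iff.1 hn' (ι t)).1 ⟨t, ht, rfl⟩
      have hcomm : ∀ k ∈ lift Z T K', n * ι k = ι k * n := fun k hk =>
        (mem_centralizer_iff.1 hnC _ ⟨k, hk, rfl⟩).symm
      have hw : t' * t⁻¹ ∈ T := mul_mem ht' (inv_mem ht)
      have hwK : t' * t⁻¹ ∈ lift Z T K' := by
        refine centralizer_inf_lift_le hcK ⟨hw, mem_centralizer_iff.2 fun k hk => hι ?_⟩
        have h1 : t⁻¹ * k * t ∈ lift Z T K' := by simpa using hKn _ (inv_mem ht) k hk
        have h2 := hcomm k hk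
        have h3 : n * ι (t⁻¹ * k * t) = ι (t⁻¹ * k * t) * n := hcomm _ h1
        simp only [map_mul, map_inv] at h3 ⊢
        rw [he]
        have h3' : n * ((ι t)⁻¹ * ι k * ι t) * n⁻¹ = (ι t)⁻¹ * ι k * ι t := by
          rw [h3, mul_inv_cancel_right]
        have h2' : n * ι k * n⁻¹ = ι k := by rw [h2, mul_inv_cancel_right]
        calc ι k * (n * ι t * n⁻¹ * (ι t)⁻¹)
            = n * ι t * n⁻¹ * (n * ((ι t)⁻¹ * (n⁻¹ * (n * ι k * n⁻¹) * n) * ι t) * n⁻¹)
                * (ι t)⁻¹ := by rw [h2']; group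
          _ = n * ι t * n⁻¹ * ((ι t)⁻¹ * ι k * ι t) * (ι t)⁻¹ := by
              rw [show n⁻¹ * (n * ι k * n⁻¹) * n = ι k by group, h3']
          _ = n * ι t * n⁻¹ * (ι t)⁻¹ * ι k := by group
      have htr : n * ι t * n⁻¹ = ι (t' * t⁻¹) * ι t := by
        rw [← map_mul, inv_mul_cancel_right, he]
      refine Coprime.commute_of_translate htr (hcomm _ hwK) ?_
      rw [orderOf_injective ι hι]
      obtain ⟨a, ha⟩ := IsPGroup.iff_orderOf.1 hS (t' * t⁻¹)
      rw [ha]
      exact hno.pow_right a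
    refine hasNPC_of_coprime_mem X hXN fun g hg => ?_
    have hsup : normalizer (TG : Set G) ⊔ X = ⊤ := by
      rw [← hTG]; exact Sylow.normalizer_sup_eq_top R
    obtain ⟨n, hn', x, hx, hnx⟩ :=
      mem_sup_of_normal_right.1 (show g ∈ normalizer (TG : Set G) ⊔ X from hsup ▸ mem_top g)
    have heq : QuotientGroup.mk' X n = QuotientGroup.mk' X g := by
      rw [← hnx, map_mul, show QuotientGroup.mk' X x = 1 from
        (QuotientGroup.eq_one_iff x).2 hx, mul_one]
    obtain ⟨k, hk, hk'⟩ := exists_coprime_lift (QuotientGroup.mk' X) n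
      (Nat.Coprime.coprime_dvd_left (heq ▸ orderOf_map_dvd _ g) hg)
    have h1 : QuotientGroup.mk' X (n ^ k) = 1 :=
      (QuotientGroup.eq_one_iff _).2 (hcent _ (pow_mem hn' k) hk)
    rw [hk', heq] at h1
    exact (QuotientGroup.eq_one_iff g).1 h1
  -- reduction to the normaliser of `Z`
  intro G _ _ ι hι ⟨P, hP⟩ hc
  refine PComplement.zjAComplement hp P ?_
  have hZG : Cfsg.centerThompsonAOf (P : Subgroup G) = Z.map ι := by
    have hJ : Cfsg.thompsonSubgroupAOf (P : Subgroup G) = (Cfsg.thompsonSubgroupA S).map ι := by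
      rw [← hP]
      show (Cfsg.thompsonSubgroupA ↥ι.range).map ι.range.subtype = _
      rw [← PComplement.map_thompsonSubgroupA (MonoidHom.ofInjective hι), map_map]
      rfl
    rw [hZJ, PComplement.zOf_map ι hι, ← hJ]
    rfl
  rw [hZG]
  set H := normalizer (Z.map ι : Set G)
  have hH : ∀ s, ι s ∈ H := by
    intro s
    refine mem_normalizer_of_conj_mem ?_
    rintro _ ⟨z, hz, rfl⟩
    exact ⟨s * z * s⁻¹, hZn.conj_mem z hz s, by simp⟩
  let ιH : S →* H := ι.codRestrict H hH
  have hsub : ∀ K : Subgroup S, (K.map ιH).map H.subtype = K.map ι := fun K => by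
    rw [map_map]; rfl
  have hPH : (P : Subgroup G) ≤ H := by
    rw [← hP]; rintro _ ⟨s, rfl⟩; exact hH s
  refine core H ιH (fun a b h => hι (congrArg Subtype.val h)) ⟨P.subtype hPH, ?_⟩ ?_ ?_
  · rw [Sylow.coe_subtype]
    ext x
    rw [mem_subgroupOf, ← hP]
    exact ⟨fun ⟨s, hs⟩ => ⟨s, congrArg Subtype.val hs⟩, fun ⟨s, hs⟩ => ⟨s, Subtype.ext hs⟩⟩
  · constructor
    intro x hx g
    obtain ⟨z, hz, rfl⟩ := hx
    obtain ⟨z', hz', he⟩ := (mem_normalizer_iff.1 g.2 (ι z)).1 ⟨z, hz, rfl⟩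
    exact ⟨z', hz', Subtype.ext he⟩
  · intro g hg hgo
    refine mem_centralizer_iff.2 ?_
    rintro _ ⟨k, hk, rfl⟩
    refine Subtype.ext (mem_centralizer_iff.1 (hc (g : G) ?_ (by rwa [orderOf_coe])) _
      ⟨k, hk, rfl⟩)
    refine mem_normalizer_of_conj_mem ?_
    rintro _ ⟨y, hy, rfl⟩
    obtain ⟨y', hy', he⟩ := (mem_normalizer_iff.1 hg (ιH y)).1 ⟨y, hy, rfl⟩
    exact ⟨y', hy', congrArg Subtype.val he⟩

end Step

theorem exists_decides [Fact p.Prime] (hp : p ≠ 2) (n : ℕ) :
    ∀ (S : Type u) [Group S] [Finite S], IsPGroup p S → Nat.card S = n →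
      ∃ K : Subgroup S, K.Characteristic ∧ centralizer (K : Set S) ≤ K ∧ Decides p S K := by
  induction n using Nat.strong_induction_on with
  | _ n ih =>
  intro S _ _ hS hn
  rcases subsingleton_or_nontrivial S with hs | hs
  · refine ⟨⊤, inferInstance, le_top, fun G _ _ ι _ ⟨P, hP⟩ _ => ?_⟩
    refine Transfer.hasNormalPComplement_of_not_dvd fun hd => P.ne_bot_of_dvd_card hd ?_
    rw [← hP, MonoidHom.range_eq_bot_iff]
    exact MonoidHom.ext fun s => by rw [Subsingleton.elim s 1, map_one, MonoidHom.one_apply]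
  set J := Cfsg.thompsonSubgroupA S with hJdef
  haveI hJc : J.Characteristic := PGroup.thompsonSubgroupA_characteristic
  set Z := PComplement.zOf J with hZdef
  have hJle : centralizer (J : Set S) ≤ J := by
    have h := PGroup.centralizer_thompsonA_le (⊤ : Subgroup S)
    rwa [PGroup.thompsonSubgroupAOf_top, top_inf_eq] at h
  have hZeq : Z = centralizer (J : Set S) := inf_eq_right.2 hJle
  haveI hZc : Z.Characteristic := hZeq ▸ inferInstance
  have hZne : Z ≠ ⊥ := by
    haveI := hS.center_nontrivial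
    intro h
    have : center S ≤ Z := hZeq ▸ center_le_centralizer _
    exact nontrivial_iff_ne_bot _ |>.1 ‹_› (le_bot_iff.1 (h ▸ this))
  set T := centralizer (Z : Set S) with hTdef
  haveI hTc : T.Characteristic := inferInstance
  have hZT : Z ≤ T := fun z hz => mem_centralizer_iff.2 fun y hy =>
    congrArg Subtype.val ((PComplement.isMulCommutative_zOf J).is_comm.comm ⟨y, hy⟩ ⟨z, hz⟩)
  haveI hZ'n : (Z.subgroupOf T).Normal :=
    ⟨fun z hz t => (normal_of_characteristic Z).conj_mem (z : S) hz (t : S)⟩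
  have hlt : Nat.card (↥T ⧸ Z.subgroupOf T) < n := by
    have h1 := card_eq_card_quotient_mul_card_subgroup (Z.subgroupOf T)
    have h2 : 1 < Nat.card (Z.subgroupOf T) := by
      rw [Nat.card_congr (subgroupOfEquivOfLe hZT).toEquiv]
      exact Z.one_lt_card_iff_ne_bot.2 hZne
    have h3 := card_le_card_group T
    have h4 : 0 < Nat.card (↥T ⧸ Z.subgroupOf T) := Nat.card_pos
    rw [← hn]
    nlinarith
  obtain ⟨K', hK, hcK, hdec⟩ :=
    ih _ hlt (↥T ⧸ Z.subgroupOf T) ((hS.to_subgroup T).to_quotient _) rfl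
  refine ⟨lift Z T K', lift_characteristic hK, fun x hx => ?_,
    step hp hS hK hcK hdec hTdef hZT (normal_of_characteristic Z) hZdef⟩
  exact centralizer_inf_lift_le hcK ⟨centralizer_le (le_lift hZT) hx, hx⟩

/-- For an odd prime p, every finite p-group S has a characteristic subgroup K with C_S(K) ≤ K such that, whenever S is (isomorphic to) a Sylow p-subgroup of a finite group G, G has a normal p-complement if and only if N_G(K)/C_G(K) is a p-group, i.e. every element of N_G(K) of order prime to p centralizes K (K transported into G along the isomorphism). -/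
theorem result (p : ℕ) [Fact p.Prime] (hp : p ≠ 2)
    (S : Type u) [Group S] [Finite S] (hS : IsPGroup p S) :
    ∃ K : Subgroup S, K.Characteristic ∧ Subgroup.centralizer (K : Set S) ≤ K ∧
      ∀ (G : Type u) [Group G] [Finite G] (P : Sylow p G) (e : ↥(P : Subgroup G) ≃* S),
        Cfsg.HasNormalPComplement p G ↔
          ∀ g ∈ Subgroup.normalizer (((K.comap (e : ↥(P : Subgroup G) →* S)).map (P : Subgroup G).subtype : Subgroup G) : Set G),
            (orderOf g).Coprime p →
              g ∈ Subgroup.centralizer (((K.comap (e : ↥(P : Subgroup G) →* S)).map (P : Subgroup G).subtype : Subgroup G) : Set G) := by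
  obtain ⟨K, hK, hcK, hdec⟩ := exists_decides hp (Nat.card S) S hS rfl
  refine ⟨K, hK, hcK, fun G _ _ P e => ⟨fun h g hg hgo => ?_, fun h => ?_⟩⟩
  · exact Transfer.mem_centralizer_of_hasNormalPComplement (P.2.to_le (map_subtype_le _))
      (Transfer.HasNormalPComplement_subgroup h _) hg hgo
  · set ι : S →* G := (P : Subgroup G).subtype.comp e.symm.toMonoidHom
    have hm : (K.comap (e : ↥(P : Subgroup G) →* S)).map (P : Subgroup G).subtype = K.map ι := by
      ext x
      constructor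
      · rintro ⟨y, hy, rfl⟩; exact ⟨e y, hy, by simp [ι]⟩
      · rintro ⟨k, hk, rfl⟩; exact ⟨e.symm k, by simpa using hk, rfl⟩
    rw [hm] at h
    refine hdec G ι (Subtype.coe_injective.comp e.symm.injective) ⟨P, ?_⟩ h
    ext x
    exact ⟨fun ⟨s, hs⟩ => hs ▸ (e.symm s).2, fun hx => ⟨e ⟨x, hx⟩, by simp [ι]⟩⟩

end Cfsg.Agent.S3073
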