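import Cfsg.Statements.S3799
import Mathlib.LinearAlgebra.Matrix.GeneralLinearGroup.Defs
import Mathlib.Tactic.Abel
import Cfsg.Agent.Lib.PGroup.Frattini


set_option autoImplicit false
open Cfsg
open scoped commutatorElement

namespace Cfsg.Agent.S3799

open Matrix

variable {p : ℕ} {n : ℕ}

/-- A vector supported in the middle coordinates. -/
def mid (a : Fin n → ZMod p) : Fin (n + 2) → ZMod p := Fin.cons 0 (Fin.snoc a 0)

/-- The first unit vector. -/
def eF : Fin (n + 2) → ZMod p := Pi.single 0 1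

/-- The last unit vector. -/
def eL : Fin (n + 2) → ZMod p := Pi.single (Fin.last (n + 1)) 1

theorem mid_zero_apply (a : Fin n → ZMod p) : mid a 0 = 0 := Fin.cons_zero _ _

theorem mid_last (a : Fin n → ZMod p) : mid a (Fin.last (n + 1)) = 0 := by
  rw [mid, ← Fin.succ_last, Fin.cons_succ, Fin.snoc_last]

theorem mid_mid (a : Fin n → ZMod p) (i : Fin n) : mid a i.castSucc.succ = a i := by
  rw [mid, Fin.cons_succ, Fin.snoc_castSucc]

theorem mid_add (a b : Fin n → ZMod p) : mid (a + b) = mid a + mid b := by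
  ext i
  refine Fin.cases ?_ (fun j => ?_) i
  · simp [mid]
  · refine Fin.lastCases ?_ (fun k => ?_) j <;> simp [mid]

theorem mid_zero : mid (0 : Fin n → ZMod p) = 0 := by
  simpa using mid_add (0 : Fin n → ZMod p) 0

theorem mid_dot (a b : Fin n → ZMod p) : mid a ⬝ᵥ mid b = a ⬝ᵥ b := by
  simp [dotProduct, mid, Fin.sum_univ_succ (n := n + 1), Fin.sum_univ_castSucc (n := n)]

/-- The Heisenberg matrix with parameters `(a, b, c)`. -/
def heisMat (a b : Fin n → ZMod p) (c : ZMod p) : Matrix (Fin (n + 2)) (Fin (n + 2)) (ZMod p) :=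
  1 + vecMulVec eF (mid a) + vecMulVec (mid b) eL + vecMulVec eF (c • eL)

theorem eL_ne : (0 : Fin (n + 2)) ≠ Fin.last (n + 1) := by
  intro h
  have := congrArg Fin.val h
  simp at this

theorem heisMat_mul (a b : Fin n → ZMod p) (c : ZMod p) (a' b' : Fin n → ZMod p) (c' : ZMod p) :
    heisMat a b c * heisMat a' b' c' = heisMat (a + a') (b + b') (c + c' + a ⬝ᵥ b') := by
  have h1 : ∀ v : Fin n → ZMod p, mid v ⬝ᵥ (eF : Fin (n + 2) → ZMod p) = 0 := fun v => by
    simp [eF, mid_zero_apply]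
  have h2 : ∀ v : Fin n → ZMod p, (eL : Fin (n + 2) → ZMod p) ⬝ᵥ mid v = 0 := fun v => by
    rw [eL, single_dotProduct, mid_last, mul_zero]
  have h3 : (eL : Fin (n + 2) → ZMod p) ⬝ᵥ (eF : Fin (n + 2) → ZMod p) = 0 := by
    rw [eL, single_dotProduct, eF, Pi.single_eq_of_ne eL_ne.symm, mul_zero]
  simp only [heisMat, mid_add, add_smul, vecMulVec_add, add_vecMulVec, Matrix.add_mul, Matrix.mul_add,
    Matrix.one_mul, Matrix.mul_one, vecMulVec_mul_vecMulVec, smul_dotProduct, h1, h2, h3, mid_dot,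
    smul_eq_mul, mul_zero, zero_smul, vecMulVec_zero, smul_zero, add_zero, zero_add]
  abel

theorem heisMat_zero : heisMat (0 : Fin n → ZMod p) 0 0 = 1 := by
  simp [heisMat, mid_zero]

/-- The Heisenberg matrix as a unit. -/
def heis (a b : Fin n → ZMod p) (c : ZMod p) : GeneralLinearGroup (Fin (n + 2)) (ZMod p) where
  val := heisMat a b c
  inv := heisMat (-a) (-b) (-c + a ⬝ᵥ b)
  val_inv := by
    rw [heisMat_mul, add_neg_cancel, add_neg_cancel, dotProduct_neg, ← heisMat_zero]
    congr 1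
    abel
  inv_val := by
    rw [heisMat_mul, neg_add_cancel, neg_add_cancel, neg_dotProduct, ← heisMat_zero]
    congr 1
    abel

theorem heis_mul (a b : Fin n → ZMod p) (c : ZMod p) (a' b' : Fin n → ZMod p) (c' : ZMod p) :
    heis a b c * heis a' b' c' = heis (a + a') (b + b') (c + c' + a ⬝ᵥ b') :=
  Units.ext (heisMat_mul _ _ _ _ _ _)

theorem heis_zero : heis (0 : Fin n → ZMod p) 0 0 = 1 := Units.ext heisMat_zero

theorem heis_inj {a b : Fin n → ZMod p} {c : ZMod p} {a' b' : Fin n → ZMod p} {c' : ZMod p}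
    (h : heis a b c = heis a' b' c') : a = a' ∧ b = b' ∧ c = c' := by
  have h' : heisMat a b c = heisMat a' b' c' := congrArg Units.val h
  have key : ∀ (x y : Fin n → ZMod p) (z : ZMod p),
      (∀ i : Fin n, heisMat x y z 0 i.castSucc.succ = x i) ∧
      (∀ i : Fin n, heisMat x y z i.castSucc.succ (Fin.last (n + 1)) = y i) ∧
      heisMat x y z 0 (Fin.last (n + 1)) = z := by
    intro x y z
    have hne : ∀ i : Fin n, i.castSucc.succ ≠ Fin.last (n + 1) := fun i h => by
      have := congrArg Fin.val h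
      simp at this
      omega
    refine ⟨fun i => ?_, fun i => ?_, ?_⟩
    · simp [heisMat, vecMulVec_apply, eF, eL, mid_zero_apply, mid_mid, hne, (Fin.succ_ne_zero _).symm]
    · simp [heisMat, vecMulVec_apply, eF, eL, mid_mid, hne, Fin.succ_ne_zero]
    · simp [heisMat, vecMulVec_apply, eF, eL, mid_zero_apply, mid_last, eL_ne]
  refine ⟨funext fun i => ?_, funext fun i => ?_, ?_⟩
  · rw [← (key a b c).1 i, h', (key a' b' c').1 i]
  · rw [← (key a b c).2.1 i, h', (key a' b' c').2.1 i]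
  · rw [← (key a b c).2.2, h', (key a' b' c').2.2]

theorem heis_pow (a b : Fin n → ZMod p) (c : ZMod p) (k : ℕ) :
    heis a b c ^ k = heis (k • a) (k • b) (k • c + k.choose 2 • (a ⬝ᵥ b)) := by
  induction k with
  | zero => simp [heis_zero]
  | succ k ih =>
    rw [pow_succ, ih, heis_mul, smul_dotProduct, succ_nsmul, succ_nsmul, succ_nsmul,
      Nat.choose_succ_succ', Nat.choose_one_right, add_smul]
    congr 1
    abel

/-- The Heisenberg group inside `GL`. -/
def heisGroup (p n : ℕ) : Subgroup (GeneralLinearGroup (Fin (n + 2)) (ZMod p)) where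
  carrier := Set.range fun t : (Fin n → ZMod p) × (Fin n → ZMod p) × ZMod p => heis t.1 t.2.1 t.2.2
  one_mem' := ⟨(0, 0, 0), heis_zero⟩
  mul_mem' := by
    rintro _ _ ⟨s, rfl⟩ ⟨t, rfl⟩
    exact ⟨(s.1 + t.1, s.2.1 + t.2.1, s.2.2 + t.2.2 + s.1 ⬝ᵥ t.2.1), (heis_mul _ _ _ _ _ _).symm⟩
  inv_mem' := by
    rintro _ ⟨t, rfl⟩
    refine ⟨(-t.1, -t.2.1, -t.2.2 + t.1 ⬝ᵥ t.2.1), eq_inv_of_mul_eq_one_left ?_⟩
    rw [heis_mul, neg_add_cancel, neg_add_cancel, neg_dotProduct, ← heis_zero]
    congr 1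
    ring

/-- The element `(a, b, c)` of the Heisenberg group. -/
def mkH (a b : Fin n → ZMod p) (c : ZMod p) : heisGroup p n := ⟨heis a b c, (a, b, c), rfl⟩

theorem exists_mkH (x : heisGroup p n) : ∃ a b c, x = mkH a b c := by
  obtain ⟨_, ⟨a, b, c⟩, rfl⟩ := x
  exact ⟨a, b, c, rfl⟩

theorem mkH_mul (a b : Fin n → ZMod p) (c : ZMod p) (a' b' : Fin n → ZMod p) (c' : ZMod p) :
    mkH a b c * mkH a' b' c' = mkH (a + a') (b + b') (c + c' + a ⬝ᵥ b') :=
  Subtype.ext (heis_mul _ _ _ _ _ _)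

theorem mkH_inj {a b : Fin n → ZMod p} {c : ZMod p} {a' b' : Fin n → ZMod p} {c' : ZMod p}
    (h : mkH a b c = mkH a' b' c') : a = a' ∧ b = b' ∧ c = c' := heis_inj (congrArg Subtype.val h)

theorem mem_center_iff_mkH (a b : Fin n → ZMod p) (c : ZMod p) :
    mkH a b c ∈ Subgroup.center (heisGroup p n) ↔ a = 0 ∧ b = 0 := by
  rw [Subgroup.mem_center_iff]
  constructor
  · intro h
    constructor <;> ext i
    · have h1 := (mkH_inj ((mkH_mul _ _ _ _ _ _).symm.trans
        ((h (mkH 0 (Pi.single i 1) 0)).trans (mkH_mul _ _ _ _ _ _)))).2.2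
      simpa using h1.symm
    · have h1 := (mkH_inj ((mkH_mul _ _ _ _ _ _).symm.trans
        ((h (mkH (Pi.single i 1) 0 0)).trans (mkH_mul _ _ _ _ _ _)))).2.2
      simpa using h1
  · rintro ⟨rfl, rfl⟩ x
    obtain ⟨a', b', c', rfl⟩ := exists_mkH x
    rw [mkH_mul, mkH_mul]
    simp [add_comm c c']


/-- For every odd prime p and every n ≥ 1 there is an extraspecial p-group of order p^(1+2n) and exponent p; concretely, the general linear group of degree n + 2 over the field with p elements contains such a subgroup. -/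
theorem result (p : ℕ) [Fact p.Prime] (hp : p ≠ 2) (n : ℕ) (hn : 1 ≤ n) : ∃ E : Subgroup (Matrix.GeneralLinearGroup (Fin (n + 2)) (ZMod p)), Cfsg.IsExtraspecial p ↥E ∧ Nat.card E = p ^ (1 + 2 * n) ∧ ∀ x ∈ E, x ^ p = 1 := by
  classical
  have hpp := (Fact.out : p.Prime)
  have : NeZero p := ⟨hpp.ne_zero⟩
  refine ⟨heisGroup p n, ?_, ?_, ?_⟩
  · have hcard : Nat.card (Subgroup.center (heisGroup p n)) = p := by
      rw [← Nat.card_congr (Equiv.ofBijective
        (fun c : ZMod p => (⟨mkH 0 0 c, (mem_center_iff_mkH _ _ _).2 ⟨rfl, rfl⟩⟩ : Subgroup.center (heisGroup p n)))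
        ⟨fun c c' h => (mkH_inj (congrArg Subtype.val h)).2.2, fun x => by
          obtain ⟨a, b, c, hx⟩ := exists_mkH x.1
          obtain ⟨rfl, rfl⟩ := (mem_center_iff_mkH a b c).1 (hx ▸ x.2)
          exact ⟨c, Subtype.ext hx.symm⟩⟩), Nat.card_zmod]
    have hexp : ∀ x : heisGroup p n, x ^ p = 1 := by
      intro x
      obtain ⟨a, b, c, rfl⟩ := exists_mkH x
      refine Subtype.ext ?_
      show heis a b c ^ p = 1
      rw [heis_pow, ← heis_zero]
      have hch : p ∣ p.choose 2 := hpp.dvd_choose_self two_ne_zero (lt_of_le_of_ne hpp.two_le (Ne.symm hp))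
      have hz : ∀ z : ZMod p, p.choose 2 • z = 0 := fun z => by
        rw [nsmul_eq_mul, (ZMod.natCast_eq_zero_iff _ _).2 hch, zero_mul]
      rw [hz, add_zero]
      congr 1 <;> try (ext i)
      all_goals simp
    have hG : IsPGroup p (heisGroup p n) := fun x => ⟨1, by rw [pow_one]; exact hexp x⟩
    have hcz : commutator (heisGroup p n) ≤ Subgroup.center (heisGroup p n) := by
      let ψ : heisGroup p n → (Fin n → ZMod p) × (Fin n → ZMod p) := fun x =>
        ((exists_mkH x).choose, (exists_mkH x).choose_spec.choose)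
      have hψ : ∀ a b c, ψ (mkH a b c) = (a, b) := fun a b c => by
        have h := mkH_inj (exists_mkH (mkH a b c)).choose_spec.choose_spec.choose_spec
        exact Prod.ext h.1.symm h.2.1.symm
      let Ψ : heisGroup p n →* Multiplicative ((Fin n → ZMod p) × (Fin n → ZMod p)) :=
        MonoidHom.mk' (fun x => Multiplicative.ofAdd (ψ x)) fun x y => by
          obtain ⟨a, b, c, rfl⟩ := exists_mkH x
          obtain ⟨a', b', c', rfl⟩ := exists_mkH y
          rw [mkH_mul, hψ, hψ, hψ]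
          rfl
      refine (Abelianization.commutator_subset_ker Ψ).trans fun x hx => ?_
      obtain ⟨a, b, c, rfl⟩ := exists_mkH x
      have h0 : ψ (mkH a b c) = 0 := hx
      rw [hψ, Prod.ext_iff] at h0
      exact (mem_center_iff_mkH a b c).2 h0
    have hzc : Subgroup.center (heisGroup p n) ≤ commutator (heisGroup p n) := by
      intro z hz
      obtain ⟨a, b, c, rfl⟩ := exists_mkH z
      obtain ⟨rfl, rfl⟩ := (mem_center_iff_mkH a b c).1 hz
      let x : heisGroup p n := mkH (Pi.single ⟨0, hn⟩ c) 0 0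
      let y : heisGroup p n := mkH 0 (Pi.single ⟨0, hn⟩ 1) 0
      have h1 : x * y = mkH 0 0 c * (y * x) := by
        simp only [x, y, mkH_mul]
        simp
      have h2 : mkH 0 0 c = x * y * x⁻¹ * y⁻¹ := by
        rw [h1]; group
      rw [h2]
      exact Subgroup.commutator_mem_commutator (Subgroup.mem_top x) (Subgroup.mem_top y)
    have heq := le_antisymm hcz hzc
    refine ⟨⟨hG, le_antisymm (Cfsg.Agent.PGroup.frattini_le hcz fun x => by rw [hexp x]; exact one_mem _) ?_,
      heq⟩, hcard⟩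
    rw [← heq]
    exact Cfsg.Agent.PGroup.commutator_le_frattini hG
  · rw [← Nat.card_congr (Equiv.ofBijective
      (fun t : (Fin n → ZMod p) × (Fin n → ZMod p) × ZMod p => mkH t.1 t.2.1 t.2.2)
      ⟨fun s t h => by obtain ⟨h1, h2, h3⟩ := mkH_inj h; exact Prod.ext h1 (Prod.ext h2 h3),
        fun x => by obtain ⟨a, b, c, hx⟩ := exists_mkH x; exact ⟨(a, b, c), hx.symm⟩⟩),
      Nat.card_prod, Nat.card_prod, Nat.card_fun, Nat.card_zmod, Nat.card_fin]
    ring
  · rintro _ ⟨⟨a, b, c⟩, rfl⟩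
    show heis a b c ^ p = 1
    rw [heis_pow, ← heis_zero]
    have hch : p ∣ p.choose 2 := hpp.dvd_choose_self two_ne_zero (lt_of_le_of_ne hpp.two_le (Ne.symm hp))
    have hz : ∀ z : ZMod p, p.choose 2 • z = 0 := fun z => by
      rw [nsmul_eq_mul, (ZMod.natCast_eq_zero_iff _ _).2 hch, zero_mul]
    rw [hz, add_zero]
    congr 1 <;> try (ext i)
    all_goals simp


end Cfsg.Agent.S3799
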