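import Cfsg.Statements.S3074
import Cfsg.Agent.S3799
import Cfsg.Agent.Lib.GL.Sylow
import Cfsg.Agent.Lib.TI.Extraspecial

set_option autoImplicit false
open Cfsg

namespace Cfsg.Agent.S3074

open Matrix

theorem card_sylowGL_three (p : ℕ) [Fact p.Prime] (Q : Sylow p (GL (Fin 3) (ZMod p))) :
    Nat.card Q = p ^ 3 := by
  obtain ⟨g, hg⟩ := GL.exists_conj_unitriangular p Q
  show Nat.card (Q : Subgroup (GL (Fin 3) (ZMod p))) = _
  rw [hg, Subgroup.card_map_of_injective (MulAut.conj g).injective, GL.card_unitriangular,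
    Nat.card_zmod]

/-- Let p be an odd prime. A Sylow p-subgroup of Qd(p), the split extension of an elementary abelian group of order p² by SL₂(p) acting naturally, is extraspecial of order p³ and exponent p. -/
theorem result (p : ℕ) [Fact p.Prime] (hp : p ≠ 2) (P : Sylow p ↥(Cfsg.qd p)) :
    Cfsg.IsExtraspecial p ↥P ∧ Nat.card P = p ^ 3 ∧ Monoid.exponent ↥P = p := by
  classical
  obtain ⟨E, hE, hEc, hEx⟩ := S3799.result p hp 1 le_rfl
  have hEc' : Nat.card E = p ^ 3 := hEc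
  let f : ↥(Cfsg.qd p) →* GL (Fin 3) (ZMod p) :=
    SpecialLinearGroup.toGL.comp (Cfsg.qd p).subtype
  have hf : Function.Injective f :=
    SpecialLinearGroup.toGL_injective.comp Subtype.coe_injective
  have hUle : GL.unitriangularSL 3 (ZMod p) ≤ Cfsg.qd p := fun g hg =>
    Subgroup.subset_closure
      ⟨(GL.mem_unitriangular.1 hg).1 2 0 (by decide), (GL.mem_unitriangular.1 hg).1 2 1 (by decide),
        (GL.mem_unitriangular.1 hg).2 2⟩
  have hUc : Nat.card ((GL.unitriangularSL 3 (ZMod p)).subgroupOf (Cfsg.qd p)) = p ^ 3 := by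
    rw [Nat.card_congr (Subgroup.subgroupOfEquivOfLe hUle).toEquiv, GL.card_unitriangularSL,
      Nat.card_zmod]
  obtain ⟨P', hP'⟩ := (IsPGroup.of_card hUc).exists_le_sylow
  have hle : p ^ 3 ≤ Nat.card P := by
    rw [← hUc, Nat.card_congr (P.equiv P').toEquiv]
    exact Subgroup.card_le_of_le hP'
  obtain ⟨Q1, hQ1⟩ := (P.2.map f).exists_le_sylow
  have hc1 : Nat.card ((P : Subgroup ↥(Cfsg.qd p)).map f) = Nat.card P :=
    Subgroup.card_map_of_injective hf
  have hPc : Nat.card P = p ^ 3 := le_antisymm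
    (by rw [← hc1, ← card_sylowGL_three p Q1]; exact Subgroup.card_le_of_le hQ1) hle
  have h1 : (P : Subgroup ↥(Cfsg.qd p)).map f = Q1 :=
    Subgroup.eq_of_le_of_card_ge hQ1 (by rw [hc1, hPc]; exact (card_sylowGL_three p Q1).le)
  obtain ⟨Q2, hQ2⟩ := (IsPGroup.of_card hEc').exists_le_sylow
  have h2 : E = Q2 :=
    Subgroup.eq_of_le_of_card_ge hQ2 (by rw [hEc']; exact (card_sylowGL_three p Q2).le)
  have e : ↥P ≃* ↥E := (((P : Subgroup ↥(Cfsg.qd p)).equivMapOfInjective f hf).trans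
    (MulEquiv.subgroupCongr h1)).trans ((Q1.equiv Q2).trans (MulEquiv.subgroupCongr h2).symm)
  refine ⟨TI.isExtraspecial_congr e.symm hE, hPc, ?_⟩
  rw [Monoid.exponent_eq_of_mulEquiv e]
  have : Nontrivial E := Finite.one_lt_card_iff_nontrivial.1
    (hEc' ▸ Nat.one_lt_pow (by norm_num) (Fact.out : p.Prime).one_lt)
  exact Monoid.exponent_eq_prime_iff (Fact.out : p.Prime) |>.2 fun g hg =>
    orderOf_eq_prime (Subtype.ext (hEx g g.2)) hg

end Cfsg.Agent.S3074
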