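import Cfsg.Statements.S3075
import Mathlib.GroupTheory.Commutator.Basic
import Mathlib.FieldTheory.Finite.Basic

set_option autoImplicit false
open Cfsg

namespace Cfsg.Agent.S3075
open Subgroup
open scoped commutatorElement

/-- Commutators centralize a normal subgroup of prime order. -/
theorem commutator_le_centralizer_of_card_prime {N : Type*} [Group N] (B : Subgroup N) [B.Normal] {p : ℕ}
    [Fact p.Prime] (hB : Nat.card B = p) : commutator N ≤ Subgroup.centralizer (B : Set N) := by
  haveI := isCyclic_of_prime_card hB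
  let f : N →* MulAut B := MulAut.conjNormal
  have hcomm : ∀ σ τ : MulAut B, σ * τ = τ * σ := by
    intro σ τ
    obtain ⟨b, hb⟩ := IsCyclic.exists_generator (α := B)
    obtain ⟨i, hi⟩ := mem_zpowers_iff.mp (hb (σ b))
    obtain ⟨j, hj⟩ := mem_zpowers_iff.mp (hb (τ b))
    ext x
    obtain ⟨k, rfl⟩ := mem_zpowers_iff.mp (hb x)
    simp [MulAut.mul_apply, map_zpow, ← hi, ← hj, ← zpow_mul]
    ring_nf
  intro x hx
  have h1 : f x = 1 := by
    have hle : commutator N ≤ f.ker := by
      rw [commutator_def, Subgroup.commutator_le]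
      intro a _ b _
      rw [MonoidHom.mem_ker, map_commutatorElement, commutatorElement_eq_one_iff_mul_comm]
      exact hcomm _ _
    exact hle hx
  rw [Subgroup.mem_centralizer_iff]
  intro b hb
  have h2 := congrArg (fun σ : MulAut B => ((σ ⟨b, hb⟩ : B) : N)) h1
  simp only [f, MulAut.conjNormal_apply, MulAut.one_apply] at h2
  conv_lhs => rw [← h2]
  group

/-- Let p be an odd prime and N a finite group with a normal elementary abelian subgroup A of order p² that is its own centralizer in N, such that N/A is isomorphic to SL₂(p) (over any field F with p elements). Then N splits over A: some subgroup U of N satisfies A ∩ U = 1 and AU = N. -/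
theorem result {N : Type*} [Group N] [Finite N] {p : ℕ} [Fact p.Prime] (hp : p ≠ 2)
    (A : Subgroup N) [A.Normal] (hAcomm : IsMulCommutative A) (hAcard : Nat.card A = p ^ 2) (hAexp : Monoid.exponent ↥A = p)
    (hAself : Subgroup.centralizer (A : Set N) = A)
    {F : Type*} [Field F] [Fintype F] (hF : Fintype.card F = p) (e : N ⧸ A ≃* Matrix.SpecialLinearGroup (Fin 2) F) :
    ∃ U : Subgroup N, A ⊓ U = ⊥ ∧ A ⊔ U = ⊤ := by
  classical
  haveI hpf := (Fact.out : p.Prime)
  have hodd : Odd p := hpf.odd_of_ne_two hp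
  have hA : ∀ a ∈ A, ∀ b ∈ A, a * b = b * a := fun a ha b hb =>
    congrArg Subtype.val (hAcomm.is_comm.comm ⟨a, ha⟩ ⟨b, hb⟩)
  have hApow : ∀ a ∈ A, a ^ p = 1 := fun a ha => by
    have h1 : (⟨a, ha⟩ : A) ^ p = 1 := hAexp ▸ Monoid.pow_exponent_eq_one _
    exact congrArg Subtype.val h1
  obtain ⟨k, hk⟩ := hodd
  have sqrt : ∀ a ∈ A, a ^ (k + 1) * a ^ (k + 1) = a := fun a ha => by
    rw [← pow_add, show k + 1 + (k + 1) = p + 1 by omega, pow_succ, hApow a ha, one_mul]
  have h2F : (1 : F) + 1 ≠ 0 := by
    intro h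
    have hc : (p : F) = 0 := hF ▸ FiniteField.cast_card_eq_zero F
    rw [hk] at hc
    push_cast at hc
    rw [show (2 : F) = 1 + 1 by norm_num, h] at hc
    simp at hc
  -- an involution over the central involution
  obtain ⟨t0, ht0⟩ := QuotientGroup.mk_surjective (e.symm (-1))
  set t := t0 ^ p with htdef
  have hsq : t0 * t0 ∈ A := by
    rw [← QuotientGroup.eq_one_iff, QuotientGroup.mk_mul, ht0, ← map_mul]
    simp
  have ht2 : t * t = 1 := by
    rw [htdef, ← (Commute.refl t0).mul_pow]
    exact hApow _ hsq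
  have htA : (QuotientGroup.mk t : N ⧸ A) = e.symm (-1) := by
    rw [htdef, QuotientGroup.mk_pow, ht0, ← map_pow, hk, pow_succ, pow_mul]
    simp
  have htinv : t⁻¹ = t := inv_eq_of_mul_eq_one_right ht2
  have hconj : ∀ n : N, (n * t * n⁻¹) * t ∈ A := by
    intro n
    rw [← QuotientGroup.eq_one_iff, QuotientGroup.mk_mul, QuotientGroup.mk_mul, QuotientGroup.mk_mul,
      QuotientGroup.mk_inv, htA]
    apply e.injective
    simp [mul_assoc]
  -- the fixed and the inverted part of `A`
  have hfix : ∀ n : N, ∀ a ∈ A, t * a * t = a → t * (n * a * n⁻¹) * t = n * a * n⁻¹ := by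
    intro n a ha h
    have hu : n⁻¹ * t * n * t ∈ A := by simpa using hconj n⁻¹
    have h1 : (n⁻¹ * t * n * t) * a = a * (n⁻¹ * t * n * t) := hA _ hu a ha
    calc t * (n * a * n⁻¹) * t
        = n * ((n⁻¹ * t * n * t) * (t⁻¹ * a * t⁻¹⁻¹) * (n⁻¹ * t * n * t)⁻¹) * n⁻¹ := by
          rw [show t⁻¹⁻¹ = t from inv_inv t]
          simp only [mul_inv_rev, inv_inv, mul_assoc, mul_inv_cancel_left, htinv]
          simp [← mul_assoc, ht2]
      _ = n * a * n⁻¹ := by
          rw [inv_inv, htinv, h, h1]; group
  let B : Subgroup N :=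
    { carrier := {a | a ∈ A ∧ t * a * t = a}
      one_mem' := ⟨one_mem _, by simpa using ht2⟩
      mul_mem' := fun {a b} ha hb => ⟨mul_mem ha.1 hb.1, by
        calc t * (a * b) * t = (t * a * t) * (t * b * t) := by
              simp [mul_assoc, ← mul_assoc t t, ht2]
          _ = a * b := by rw [ha.2, hb.2]⟩
      inv_mem' := fun {a} ha => ⟨inv_mem ha.1, by
        conv_rhs => rw [← ha.2]
        simp [htinv, mul_assoc]⟩ }
  let D : Subgroup N :=
    { carrier := {a | a ∈ A ∧ t * a * t = a⁻¹}
      one_mem' := ⟨one_mem _, by simpa using ht2⟩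
      mul_mem' := fun {a b} ha hb => ⟨mul_mem ha.1 hb.1, by
        calc t * (a * b) * t = (t * a * t) * (t * b * t) := by
              simp [mul_assoc, ← mul_assoc t t, ht2]
          _ = a⁻¹ * b⁻¹ := by rw [ha.2, hb.2]
          _ = (a * b)⁻¹ := by rw [mul_inv_rev, hA _ (inv_mem ha.1) _ (inv_mem hb.1)]⟩
      inv_mem' := fun {a} ha => ⟨inv_mem ha.1, by
        calc t * a⁻¹ * t = (t * a * t)⁻¹ := by simp [htinv, mul_assoc]
          _ = _ := by rw [ha.2]⟩ }
  have hBn : B.Normal := ⟨fun a ha n => ⟨‹A.Normal›.conj_mem a ha.1 n, hfix n a ha.1 ha.2⟩⟩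
  have hdec : ∀ a ∈ A, ∃ b ∈ B, ∃ d ∈ D, a = b * d := by
    intro a ha
    have hta : t * a * t ∈ A := by
      simpa [htinv] using ‹A.Normal›.conj_mem a ha t
    refine ⟨a ^ (k + 1) * (t * a * t) ^ (k + 1), ?_, a ^ (k + 1) * ((t * a * t) ^ (k + 1))⁻¹, ?_, ?_⟩
    all_goals
      have hA1 : a ^ (k + 1) ∈ A := pow_mem ha _
      have hA2 : (t * a * t) ^ (k + 1) ∈ A := pow_mem hta _
      have hp1 : ∀ x : N, t * x ^ (k + 1) * t = (t * x * t) ^ (k + 1) := fun x => by
        simpa [MulAut.conj_apply, htinv] using (map_pow (MulAut.conj t) x (k + 1))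
      have hp2 : t * (t * a * t) * t = a := by simp [mul_assoc, ← mul_assoc t t, ht2]
      have hm : ∀ x y : N, t * (x * y) * t = (t * x * t) * (t * y * t) := fun x y => by
        simp [mul_assoc, ← mul_assoc t t, ht2]
    · refine ⟨mul_mem hA1 hA2, ?_⟩
      rw [hm, hp1, hp1, hp2, hA _ hA2 _ hA1]
    · refine ⟨mul_mem hA1 (inv_mem hA2), ?_⟩
      have hp3 : t * ((t * a * t) ^ (k + 1))⁻¹ * t = (a ^ (k + 1))⁻¹ := by
        rw [← inv_inj, inv_inv]
        simp only [mul_inv_rev, inv_inv, htinv, ← mul_assoc]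
        rw [hp1, hp2]
      rw [hm, hp1, hp3, mul_inv_rev, inv_inv]
    · have hx := sqrt a ha
      conv_lhs => rw [← hx]
      rw [mul_assoc, ← mul_assoc ((t * a * t) ^ (k + 1)), hA _ hA2 _ hA1, mul_assoc,
        mul_inv_cancel, mul_one]
  have hBbot : B = ⊥ := by
    by_contra hB1
    have hBA : B ≤ A := fun a ha => ha.1
    have hcardBp : Nat.card B = p ∨ Nat.card B = p ^ 2 := by
      obtain ⟨i, hi, hc⟩ := (Nat.dvd_prime_pow hpf).mp (hAcard ▸ card_dvd_of_le hBA)
      match i, hi with
      | 0, _ => exact absurd (eq_bot_of_card_eq B (by simpa using hc)) hB1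
      | 1, _ => exact .inl (by simpa using hc)
      | 2, _ => exact .inr hc
    rcases hcardBp with hcB | hcB
    swap
    · -- `t` centralizes `A`
      have hBeq : B = A := eq_of_le_of_card_ge hBA (hAcard.trans hcB.symm).le
      have : t ∈ Subgroup.centralizer (A : Set N) := by
        rw [Subgroup.mem_centralizer_iff]
        intro a ha
        have h := (show a ∈ B by rw [hBeq]; exact ha).2
        conv_lhs => rw [← h]
        simp [mul_assoc, ← mul_assoc t t, ht2]
      rw [hAself, ← QuotientGroup.eq_one_iff, htA] at this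
      have h' : (-1 : Matrix.SpecialLinearGroup (Fin 2) F) = 1 := by
        simpa using congrArg e this
      have h00 := congrArg (fun M : Matrix.SpecialLinearGroup (Fin 2) F => (M : Matrix (Fin 2) (Fin 2) F) 0 0) h'
      simp at h00
      apply h2F
      calc (1 : F) + 1 = -1 + 1 := by rw [h00]
        _ = 0 := neg_add_cancel 1
    · have hDn : D.Normal := ⟨fun a ha n => by
        have haD : a ∈ D := ha
        refine ⟨‹A.Normal›.conj_mem a ha.1 n, ?_⟩
        have hu : n⁻¹ * t * n * t ∈ A := by simpa using hconj n⁻¹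
        have h1 : (n⁻¹ * t * n * t) * a⁻¹ = a⁻¹ * (n⁻¹ * t * n * t) := hA _ hu _ (inv_mem ha.1)
        calc t * (n * a * n⁻¹) * t
            = n * ((n⁻¹ * t * n * t) * (t * a * t) * (n⁻¹ * t * n * t)⁻¹) * n⁻¹ := by
              simp only [mul_inv_rev, inv_inv, htinv, mul_assoc, mul_inv_cancel_left]
              simp [← mul_assoc, ht2]
          _ = (n * a * n⁻¹)⁻¹ := by rw [ha.2, h1]; group⟩
      have hcD : Nat.card D = p := by
        have hdisj : B ⊓ D = ⊥ := by
          rw [eq_bot_iff]
          rintro a ⟨ha, ha'⟩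
          rw [mem_bot]
          have : a = a⁻¹ := ha.2.symm.trans ha'.2
          calc a = a ^ (k + 1) * a ^ (k + 1) := (sqrt a ha.1).symm
            _ = (a * a) ^ (k + 1) := ((Commute.refl a).mul_pow _).symm
            _ = 1 := by rw [eq_inv_iff_mul_eq_one.mp this, one_pow]
        have hsup : B ⊔ D = A := by
          refine le_antisymm (sup_le hBA fun a ha => ha.1) fun a ha => ?_
          obtain ⟨b, hb, d, hd, rfl⟩ := hdec a ha
          exact mul_mem_sup hb hd
        haveI := hBn
        haveI := hDn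
        have h := Subgroup.card_mul_index (B.subgroupOf A)
        have h2 : (B.subgroupOf A).index = Nat.card D := by
          rw [← relIndex, ← hsup, relIndex_sup_left, ← inf_relIndex_right, hdisj,
            relIndex_bot_left]
        rw [h2, hAcard, Nat.card_congr (subgroupOfEquivOfLe hBA).toEquiv, hcB, pow_two] at h
        exact Nat.eq_of_mul_eq_mul_left hpf.pos h
      have hcent : commutator N ≤ A := by
        intro x hx
        rw [← hAself, Subgroup.mem_centralizer_iff]
        intro a ha
        obtain ⟨b, hb, d, hd, rfl⟩ := hdec a ha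
        haveI := hBn
        haveI := hDn
        have h1 := Subgroup.mem_centralizer_iff.mp (commutator_le_centralizer_of_card_prime B hcB hx) b hb
        have h2 := Subgroup.mem_centralizer_iff.mp (commutator_le_centralizer_of_card_prime D hcD hx) d hd
        rw [mul_assoc, h2, ← mul_assoc, h1, mul_assoc]
      let u : Matrix.SpecialLinearGroup (Fin 2) F := ⟨!![1, 1; 0, 1], by simp [Matrix.det_fin_two]⟩
      let v : Matrix.SpecialLinearGroup (Fin 2) F := ⟨!![1, 0; 1, 1], by simp [Matrix.det_fin_two]⟩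
      obtain ⟨u', hu'⟩ := QuotientGroup.mk_surjective (e.symm u)
      obtain ⟨v', hv'⟩ := QuotientGroup.mk_surjective (e.symm v)
      have h := hcent (commutator_mem_commutator (mem_top u') (mem_top v'))
      rw [← QuotientGroup.eq_one_iff, ← QuotientGroup.mk'_apply, map_commutatorElement,
        QuotientGroup.mk'_apply, QuotientGroup.mk'_apply, hu', hv', ← map_commutatorElement,
        EmbeddingLike.map_eq_one_iff, commutatorElement_eq_one_iff_mul_comm] at h
      have h00 := congrArg (fun M : Matrix.SpecialLinearGroup (Fin 2) F => (M : Matrix (Fin 2) (Fin 2) F) 0 0) h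
      rw [Matrix.SpecialLinearGroup.coe_mul, Matrix.SpecialLinearGroup.coe_mul] at h00
      simp [u, v, Matrix.mul_apply, Fin.sum_univ_two] at h00
  refine ⟨Subgroup.centralizer ({t} : Set N), ?_, ?_⟩
  · rw [eq_bot_iff, ← hBbot]
    intro a ha
    refine ⟨ha.1, ?_⟩
    have := Subgroup.mem_centralizer_singleton_iff.mp ha.2
    rw [← this, mul_assoc, ht2, mul_one]
  · refine eq_top_iff.mpr fun n _ => ?_
    set a := t * (n * t * n⁻¹) with hadef
    have ha : a ∈ A := by
      have := ‹A.Normal›.conj_mem _ (hconj n) t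
      rw [htinv] at this
      simpa [hadef, mul_assoc, ht2] using this
    have hai : t * a * t = a⁻¹ := by
      rw [hadef]
      simp only [mul_inv_rev, inv_inv, htinv, mul_assoc]
      simp [← mul_assoc, ht2]
    set r := a ^ (k + 1) with hr
    have hrA : r ∈ A := pow_mem ha _
    have hri : t * r * t = r⁻¹ := by
      rw [hr, ← inv_pow, ← hai]
      have := (map_pow (MulAut.conj t) a (k + 1))
      simpa [MulAut.conj_apply, htinv] using this
    have hrn : r * n ∈ Subgroup.centralizer ({t} : Set N) := by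
      rw [Subgroup.mem_centralizer_singleton_iff]
      have hn : n * t = (t * a) * n := by rw [hadef]; simp [← mul_assoc, ht2]
      rw [mul_assoc, hn]
      have h1 : r * (t * a) = t * r := by
        calc r * (t * a) = t * (t * r * t) * a := by simp [← mul_assoc, ht2]
          _ = t * (r⁻¹ * a) := by rw [hri, mul_assoc]
          _ = t * r := by rw [← sqrt a ha, ← hr, inv_mul_cancel_left]
      rw [← mul_assoc, h1, mul_assoc]
    have : r⁻¹ * (r * n) ∈ A ⊔ Subgroup.centralizer ({t} : Set N) :=
      mul_mem (mem_sup_left (inv_mem hrA)) (mem_sup_right hrn)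
    simpa using this

end Cfsg.Agent.S3075
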