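import Mathlib
import Cfsg.Statements.S3076
import Cfsg.Agent.Lib.PCore.UpperSeries
import Cfsg.Agent.Lib.SylowCount.Basic
-- import your own Cfsg.Agent.* helpers here

set_option autoImplicit false
open Cfsg

namespace Cfsg.Agent.S3076

open Subgroup in
theorem generic {M : Type*} [Group M] [Finite M] {p : ℕ} [hp : Fact p.Prime] (S : Sylow p M)
    (H : Subgroup M) [H.Normal] (hHS : H ≤ S) (C : Subgroup M) [C.Normal]
    (hC : ∀ x, x ∈ C ↔ ∀ h ∈ H, h * x = x * h) :
    (H ≤ (pCore p (M ⧸ C)).comap (QuotientGroup.mk' C) ∧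
      ¬ p ∣ H.relIndex ((pCore p (M ⧸ C)).comap (QuotientGroup.mk' C))) ↔
    ((S : Subgroup M) ⊓ C ≤ H ∧ pPrimePCore p M = H ⊔ C) := by
  have hH : IsPGroup p H := S.2.to_le hHS
  set N := (pCore p (M ⧸ C)).comap (QuotientGroup.mk' C) with hNdef
  have hCN : C ≤ N := fun x hx => by
    have : QuotientGroup.mk' C x = 1 := (QuotientGroup.eq_one_iff x).2 hx
    rw [hNdef, mem_comap, this]; exact one_mem _
  have hHN : H ≤ N := by
    rw [← map_le_iff_le_comap]
    have := (inferInstance : H.Normal).map _ (QuotientGroup.mk'_surjective C)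
    exact PCore.le_pCore (hH.map _)
  have hQC : pPrimeCore p M ≤ C := by
    intro x hx
    rw [hC]
    intro h hh
    exact PCore.commute_of_mem_cores (PCore.le_pCore hH hh) hx
  have hSC : ¬ p ∣ (S : Subgroup M).relIndex C := by
    obtain ⟨R, hR⟩ := SylowCount.exists_sylow_inf S C
    show ¬ p ∣ ((S : Subgroup M).subgroupOf C).index
    rw [← hR]
    exact R.not_dvd_index
  have hA : (S : Subgroup M) ⊓ C ≤ H → ¬ p ∣ H.relIndex C := by
    intro hA h
    apply hSC
    rw [← inf_relIndex_right]
    exact h.trans (relIndex_dvd_of_le_left C hA)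
  have hP2 : (S : Subgroup M) ⊓ C ≤ H → N = pPrimePCore p M := by
    intro hA'
    have hz : ∀ c ∈ C, ∃ z ∈ H, ∃ q ∈ pPrimeCore p M, c = z * q := by
      set Z := H.subgroupOf C with hZ
      have hcent : ∀ z ∈ Z, ∀ c : C, z * c = c * z := fun z hz c =>
        Subtype.ext ((hC c).1 c.2 _ hz)
      have : Z.Normal := ⟨fun z hz c => by
        rw [← hcent z hz c, mul_inv_cancel_right]; exact hz⟩
      have hZi : ¬ p ∣ Z.index := hA hA'
      have hZp : IsPGroup p Z := hH.comap_subtype
      obtain ⟨k, hk⟩ := hZp.exists_card_eq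
      have hcop : Nat.Coprime (Nat.card Z) Z.index := by
        rw [hk]; exact Nat.Coprime.pow_left k (hp.out.coprime_iff_not_dvd.2 hZi)
      obtain ⟨K, hK⟩ := exists_right_complement'_of_coprime hcop
      have hKn : K.Normal := ⟨fun y hy c => by
        obtain ⟨⟨z, y'⟩, hzy⟩ := hK.2 c
        simp only at hzy
        have hcy : c * y * c⁻¹ = (y' : C) * y * (y' : C)⁻¹ := by
          rw [← hzy, mul_inv_rev]
          have hz := hcent z.1 z.2 ((y' : C) * y * (y' : C)⁻¹)
          calc (z : C) * y' * y * ((y' : C)⁻¹ * (z : C)⁻¹)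
              = (z : C) * ((y' : C) * y * (y' : C)⁻¹) * (z : C)⁻¹ := by group
            _ = _ := by rw [hz, mul_inv_cancel_right]
        rw [hcy]
        exact mul_mem (mul_mem y'.2 hy) (inv_mem y'.2)⟩
      have hKQ : K ≤ pPrimeCore p C := by
        refine PCore.le_pPrimeCore ?_
        rw [← hK.symm.index_eq_card]
        exact Nat.Coprime.symm (hp.out.coprime_iff_not_dvd.2 hZi)
      intro c hc
      obtain ⟨⟨z, y⟩, hzy⟩ := hK.2 ⟨c, hc⟩
      refine ⟨_, z.2, ((y : C) : M), ?_, congrArg Subtype.val hzy.symm⟩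
      have := (PCore.map_pPrimeCore_subtype_of_normal (p := p) C).le ⟨(y : C), hKQ y.2, rfl⟩
      exact this.1
    apply le_antisymm
    · rw [pPrimePCore, ← map_le_iff_le_comap]
      have := ((PCore.le_pCore (p := p) (G := M) hH).trans le_rfl)
      have hn : (N.map (QuotientGroup.mk' (pPrimeCore p M))).Normal :=
        (inferInstance : N.Normal).map _ (QuotientGroup.mk'_surjective _)
      refine PCore.le_pCore ?_
      rintro ⟨_, x, hx, rfl⟩
      obtain ⟨k, hk⟩ := PCore.isPGroup_pCore (p := p) ⟨_, hx⟩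
      have hk' : (QuotientGroup.mk' C x) ^ (p ^ k) = 1 := congrArg Subtype.val hk
      rw [← map_pow] at hk'
      obtain ⟨z, hzH, q, hq, hzq⟩ := hz _ ((QuotientGroup.eq_one_iff _).1 hk')
      obtain ⟨l, hl⟩ := hH ⟨z, hzH⟩
      have hl' : z ^ (p ^ l) = 1 := congrArg Subtype.val hl
      refine ⟨k + l, Subtype.ext ?_⟩
      have hq1 : QuotientGroup.mk' (pPrimeCore p M) q = 1 := (QuotientGroup.eq_one_iff _).2 hq
      show (QuotientGroup.mk' (pPrimeCore p M) x) ^ (p ^ (k + l)) = 1
      rw [pow_add, pow_mul, ← map_pow, hzq, map_mul, hq1, mul_one, ← map_pow, hl', map_one]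
    · rw [hNdef, ← map_le_iff_le_comap]
      have hn : ((pPrimePCore p M).map (QuotientGroup.mk' C)).Normal :=
        (show (pPrimePCore p M).Normal by rw [pPrimePCore]; infer_instance).map _
          (QuotientGroup.mk'_surjective _)
      refine PCore.le_pCore ?_
      rintro ⟨_, x, hx, rfl⟩
      obtain ⟨k, hk⟩ := PCore.isPGroup_pCore (p := p) ⟨_, hx⟩
      have hk' : (QuotientGroup.mk' (pPrimeCore p M) x) ^ (p ^ k) = 1 := congrArg Subtype.val hk
      rw [← map_pow] at hk'
      refine ⟨k, Subtype.ext ?_⟩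
      show (QuotientGroup.mk' C x) ^ (p ^ k) = 1
      rw [← map_pow]
      exact (QuotientGroup.eq_one_iff _).2 (hQC ((QuotientGroup.eq_one_iff _).1 hk'))
  constructor
  · rintro ⟨-, hidx⟩
    have hA' : (S : Subgroup M) ⊓ C ≤ H := by
      have h1 : H ≤ (S : Subgroup M) ⊓ N := le_inf hHS hHN
      have h2 : H.relIndex ((S : Subgroup M) ⊓ N) ∣ H.relIndex N :=
        Dvd.intro _ (relIndex_mul_relIndex _ _ _ h1 inf_le_right)
      have hp' : IsPGroup p ((S : Subgroup M) ⊓ N : Subgroup M) := S.2.to_le inf_le_left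
      obtain ⟨k, hk⟩ := hp'.index (H.subgroupOf ((S : Subgroup M) ⊓ N))
      rcases Nat.eq_zero_or_pos k with rfl | hk0
      · rw [pow_zero] at hk
        exact (inf_le_inf_left _ hCN).trans (relIndex_eq_one.1 hk)
      · exact absurd ((by rw [Subgroup.relIndex, hk]; exact dvd_pow_self p hk0.ne' : p ∣ H.relIndex ((S : Subgroup M) ⊓ N)).trans h2) hidx
    refine ⟨hA', ?_⟩
    rw [← hP2 hA']
    refine le_antisymm ?_ (sup_le hHN hCN)
    rw [← relIndex_eq_one]
    have h1 : (H ⊔ C).relIndex N ∣ H.relIndex N := relIndex_dvd_of_le_left N le_sup_left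
    have h2 : (H ⊔ C).relIndex N ∣ C.relIndex N := relIndex_dvd_of_le_left N le_sup_right
    obtain ⟨k, hk⟩ := PCore.exists_card_pCore (p := p) (G := M ⧸ C)
    rw [hNdef, PCore.relIndex_comap_mk', hk] at h2
    exact Nat.eq_one_of_dvd_coprimes
      (Nat.Coprime.pow_right k (Nat.Coprime.symm (hp.out.coprime_iff_not_dvd.2 hidx))) h1 h2
  · rintro ⟨hA', heq⟩
    refine ⟨hHN, ?_⟩
    rw [hP2 hA', heq, sup_comm, relIndex_sup_right]
    exact hA hA'

/-- Let P be a Sylow p-subgroup of the finite group G and H ≤ P a subgroup with N_P(H) a Sylow p-subgroup of N_G(H). Let N be the preimage in N_G(H) of O_p(N_G(H)/C_G(H)). Then H is a Sylow p-subgroup of N if and only if C_P(H) ≤ H and O_{p',p}(N_G(H)) = H·C_G(H). -/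
theorem result {G : Type*} [Group G] [Finite G] {p : ℕ} [Fact p.Prime]
    (P : Sylow p G) (H : Subgroup G) (hHP : H ≤ (P : Subgroup G))
    (hSyl : ¬ p ∣ ((P : Subgroup G) ⊓ Subgroup.normalizer (H : Set G)).relIndex (Subgroup.normalizer (H : Set G)))
    [hC : ((Subgroup.centralizer (H : Set G)).subgroupOf (Subgroup.normalizer (H : Set G))).Normal] :
    (H ≤ ((Cfsg.pCore p (↥(Subgroup.normalizer (H : Set G)) ⧸
              (Subgroup.centralizer (H : Set G)).subgroupOf (Subgroup.normalizer (H : Set G)))).comap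
            (QuotientGroup.mk' _)).map (Subgroup.normalizer (H : Set G)).subtype ∧
      ¬ p ∣ H.relIndex (((Cfsg.pCore p (↥(Subgroup.normalizer (H : Set G)) ⧸
              (Subgroup.centralizer (H : Set G)).subgroupOf (Subgroup.normalizer (H : Set G)))).comap
            (QuotientGroup.mk' _)).map (Subgroup.normalizer (H : Set G)).subtype)) ↔
    ((P : Subgroup G) ⊓ Subgroup.centralizer (H : Set G) ≤ H ∧
      (Cfsg.pPrimePCore p ↥(Subgroup.normalizer (H : Set G))).map (Subgroup.normalizer (H : Set G)).subtype =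
        H ⊔ Subgroup.centralizer (H : Set G)) := by
  set M := Subgroup.normalizer (H : Set G) with hM
  have hHM : H ≤ M := Subgroup.le_normalizer
  have hCM : Subgroup.centralizer (H : Set G) ≤ M := fun x hx => by
    rw [hM, Subgroup.mem_normalizer_iff]
    intro h
    constructor
    · intro hh; rw [← (hx h hh), mul_inv_cancel_right]; exact hh
    · intro hh
      have := hx _ hh
      have h2 : x * h * x⁻¹ = h := by
        have h3 : x * h * x⁻¹ * x = x * (x * h * x⁻¹) := this
        rw [inv_mul_cancel_right] at h3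
        exact (mul_left_cancel h3).symm
      rwa [h2] at hh
  set H' := H.subgroupOf M with hH'
  set C' := (Subgroup.centralizer (H : Set G)).subgroupOf M with hC'
  have eH : H'.map M.subtype = H := Subgroup.map_subgroupOf_eq_of_le hHM
  have eC : C'.map M.subtype = Subgroup.centralizer (H : Set G) :=
    Subgroup.map_subgroupOf_eq_of_le hCM
  have hn : H'.Normal := Subgroup.normal_in_normalizer
  have hidx : ¬ p ∣ ((P : Subgroup G).subgroupOf M).index := by
    rw [← Subgroup.inf_subgroupOf_right]; exact hSyl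
  let S : Sylow p M := (P.2.comap_subtype (K := M)).toSylow hidx
  have hS : (S : Subgroup M) = (P : Subgroup G).subgroupOf M := rfl
  have key := generic S H' (fun x hx => hHP hx) C' (fun x => by
    constructor
    · exact fun hx h hh => Subtype.ext (hx (h : G) hh)
    · exact fun hx h hh => congrArg Subtype.val (hx ⟨h, hHM hh⟩ hh))
  have inj : ∀ A B : Subgroup M, A.map M.subtype ≤ B.map M.subtype ↔ A ≤ B :=
    fun A B => Subgroup.map_le_map_iff_of_injective M.subtype_injective
  have e1 : (P : Subgroup G) ⊓ Subgroup.centralizer (H : Set G) =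
      ((S : Subgroup M) ⊓ C').map M.subtype := by
    rw [hS, Subgroup.map_inf _ _ _ M.subtype_injective, Subgroup.subgroupOf_map_subtype, eC,
      inf_assoc, inf_eq_right.2 hCM]
  have l1 : ∀ A : Subgroup M, H ≤ A.map M.subtype ↔ H' ≤ A := fun A => by
    constructor
    · intro h; exact (inj _ _).1 (eH.le.trans h)
    · intro h; exact eH.ge.trans (Subgroup.map_mono h)
  have l2 : ∀ A : Subgroup M, H.relIndex (A.map M.subtype) = H'.relIndex A := fun A =>
    (congrArg (fun K : Subgroup G => K.relIndex (A.map M.subtype)) eH).symm.trans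
      (Subgroup.relIndex_map_map_of_injective _ _ M.subtype_injective)
  have l3 : (P : Subgroup G) ⊓ Subgroup.centralizer (H : Set G) ≤ H ↔ (S : Subgroup M) ⊓ C' ≤ H' := by
    rw [e1]
    exact ⟨fun h => (inj _ _).1 (h.trans eH.ge), fun h => (Subgroup.map_mono h).trans eH.le⟩
  have l4 : (pPrimePCore p M).map M.subtype = H ⊔ Subgroup.centralizer (H : Set G) ↔
      pPrimePCore p M = H' ⊔ C' := by
    rw [← (Subgroup.map_injective M.subtype_injective).eq_iff, Subgroup.map_sup, eH, eC]
  refine Iff.trans ?_ (key.trans (and_congr l3 l4).symm)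
  exact and_congr (l1 _) (not_congr (by rw [l2]))

end Cfsg.Agent.S3076
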