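import Mathlib
import Cfsg.Prelude
import Cfsg.Agent.Lib.PGroup.Frattini

/-!
# S3084: an extension `2^{1+2n}.K` realising an orthogonal module of plus type

`R` is built inside `GL(2^n, 3) × Sym(U)`: the pairs `(g, k)` such that `g` conjugates the monomial
representation `M` of the extraspecial group to its twist by `k`. Lifts exist by averaging, and the
kernel over `K` consists of the `± M(u)` as the commutant of `M` is scalar.
-/

set_option autoImplicit false

open Matrix

namespace Cfsg.Agent.S3084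

local notation "F₂" => ZMod 2
local notation "F₃" => ZMod 3

variable {n : ℕ}

abbrev V (n : ℕ) : Type := Fin n → ZMod 2
abbrev U2 (n : ℕ) : Type := V n × V n
abbrev Mat (n : ℕ) : Type := Matrix (V n) (V n) (ZMod 3)

/-- The sign character. -/
def sgn (x : F₂) : F₃ := if x = 0 then 1 else -1

theorem sgn_add : ∀ x y : F₂, sgn (x + y) = sgn x * sgn y := by decide
theorem sgn_zero : sgn 0 = 1 := rfl
theorem sgn_sq : ∀ x : F₂, sgn x * sgn x = 1 := by decide
theorem sgn_ne_zero : ∀ x : F₂, sgn x ≠ 0 := by decide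
theorem sgn_inj : ∀ x y : F₂, sgn x = sgn y → x = y := by decide
theorem sgn_surj : ∀ c : F₃, c ≠ 0 → ∃ x : F₂, c = sgn x := by decide
theorem zmod2_cases : ∀ x : F₂, x = 0 ∨ x = 1 := by decide

theorem add_self_V {α : Type*} (a : α → F₂) : a + a = 0 :=
  funext fun _ => CharTwo.add_self_eq_zero _

theorem add_self_U (u : U2 n) : u + u = 0 := Prod.ext (add_self_V _) (add_self_V _)

/-- The cocycle. -/
def beta (u v : U2 n) : F₂ := u.1 ⬝ᵥ v.2

theorem beta_add_left (u v w : U2 n) : beta (u + v) w = beta u w + beta v w := by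
  simp [beta, add_dotProduct]

theorem beta_add_right (u v w : U2 n) : beta u (v + w) = beta u v + beta u w := by
  simp [beta, dotProduct_add]

theorem beta_zero_left (u : U2 n) : beta 0 u = 0 := by simp [beta]
theorem beta_zero_right (u : U2 n) : beta u 0 = 0 := by simp [beta]

/-- The monomial projective representation. -/
def mon (u : U2 n) : Mat n := Matrix.of fun i j => if j = i + u.1 then sgn (u.2 ⬝ᵥ i) else 0

theorem mon_apply (u : U2 n) (i j : V n) :
    mon u i j = if j = i + u.1 then sgn (u.2 ⬝ᵥ i) else 0 := rfl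

theorem mon_mul (u v : U2 n) : mon u * mon v = sgn (beta u v) • mon (u + v) := by
  ext i k
  rw [Matrix.mul_apply, Finset.sum_eq_single (i + u.1)]
  · simp only [mon_apply, if_true, Matrix.smul_apply, smul_eq_mul, Prod.fst_add, Prod.snd_add,
      add_assoc, mul_ite, mul_zero, beta]
    split
    · rw [← sgn_add, ← sgn_add, add_dotProduct, dotProduct_add, dotProduct_comm v.2 u.1]
      congr 1
      ring
    · rfl
  · intro j _ hj
    rw [mon_apply, if_neg hj, zero_mul]
  · simp

theorem mon_zero : mon (0 : U2 n) = 1 := by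
  ext i j
  simp [mon_apply, Matrix.one_apply, sgn_zero, eq_comm]

theorem mon_self (u : U2 n) : mon u * mon u = sgn (beta u u) • (1 : Mat n) := by
  rw [mon_mul, add_self_U, mon_zero]

theorem trace_mon_ne_zero {u : U2 n} (hu : u ≠ 0) : (mon u).trace = 0 := by
  rw [Matrix.trace]
  simp only [Matrix.diag, mon_apply]
  by_cases ha : u.1 = 0
  · have hb : u.2 ≠ 0 := fun h => hu (Prod.ext ha h)
    obtain ⟨k, hk⟩ := Function.ne_iff.mp hb
    simp only [Pi.zero_apply] at hk
    have hk1 : u.2 k = 1 := (zmod2_cases _).resolve_left hk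
    simp only [ha, add_zero, if_true]
    have h := Equiv.sum_comp (Equiv.addRight (Pi.single k (1 : F₂))) (fun i => sgn (u.2 ⬝ᵥ i))
    simp only [Equiv.coe_addRight, dotProduct_add, dotProduct_single, mul_one, hk1, sgn_add] at h
    rw [← Finset.sum_mul] at h
    revert h
    generalize ∑ i, sgn (u.2 ⬝ᵥ i) = x
    revert x
    decide
  · refine Finset.sum_eq_zero fun i _ => if_neg ?_
    intro h
    exact ha (by simpa using h.symm)

theorem card_ne_zero3 (m : ℕ) : ((2 ^ m : ℕ) : F₃) ≠ 0 := by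
  push_cast
  exact pow_ne_zero _ (by decide)

theorem trace_one_ne_zero : (1 : Mat n).trace ≠ 0 := by
  rw [Matrix.trace_one, Fintype.card_fun, ZMod.card, Fintype.card_fin]
  exact card_ne_zero3 n

theorem trace_mon_mul_mon {u v : U2 n} (h : u ≠ v) : (mon u * mon v).trace = 0 := by
  rw [mon_mul, Matrix.trace_smul, trace_mon_ne_zero, smul_zero]
  intro h0
  exact h (by rw [← add_zero u, ← add_self_U v, ← add_assoc, h0, zero_add])

theorem trace_mon_mul_self_ne_zero (u : U2 n) : (mon u * mon u).trace ≠ 0 := by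
  rw [mon_self, Matrix.trace_smul, smul_eq_mul]
  exact mul_ne_zero (sgn_ne_zero _) trace_one_ne_zero

theorem mon_indep (w : U2 n → F₃) (h : ∑ u, w u • mon u = 0) (u : U2 n) : w u = 0 := by
  have h1 := congrArg Matrix.trace (congrArg (fun X => mon u * X) h)
  simp only [Finset.mul_sum, mul_smul_comm, Matrix.trace_sum, Matrix.trace_smul, mul_zero,
    Matrix.trace_zero] at h1
  rw [Finset.sum_eq_single u (fun v _ hv => by rw [trace_mon_mul_mon (Ne.symm hv), smul_zero])
    (by simp)] at h1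
  exact (smul_eq_zero.mp h1).resolve_right (trace_mon_mul_self_ne_zero u)

theorem mon_ne_zero (u : U2 n) : mon u ≠ 0 := fun h =>
  trace_mon_mul_self_ne_zero u (by rw [h, zero_mul, Matrix.trace_zero])

theorem smul_mon_inj {c d : F₃} {u v : U2 n} (hc : c ≠ 0) (h : c • mon u = d • mon v) :
    c = d ∧ u = v := by
  have huv : u = v := by
    by_contra hne
    have h1 := congrArg (fun X => (mon u * X).trace) h
    simp only [mul_smul_comm, Matrix.trace_smul, trace_mon_mul_mon hne,
      smul_eq_mul] at h1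
    exact mul_ne_zero hc (trace_mon_mul_self_ne_zero u) (by simpa using h1)
  subst huv
  exact ⟨smul_left_injective F₃ (mon_ne_zero u) h, rfl⟩

theorem mul_mon_apply (h : Mat n) (u : U2 n) (i k : V n) :
    (h * mon u) i k = h i (k + u.1) * sgn (u.2 ⬝ᵥ (k + u.1)) := by
  rw [Matrix.mul_apply, Finset.sum_eq_single (k + u.1)]
  · rw [mon_apply, add_assoc, add_self_V, add_zero, if_pos rfl]
  · intro j _ hj
    rw [mon_apply, if_neg, mul_zero]
    intro hk
    exact hj (by rw [hk, add_assoc, add_self_V, add_zero])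
  · simp

theorem mon_mul_apply (h : Mat n) (u : U2 n) (i k : V n) :
    (mon u * h) i k = sgn (u.2 ⬝ᵥ i) * h (i + u.1) k := by
  rw [Matrix.mul_apply, Finset.sum_eq_single (i + u.1)]
  · rw [mon_apply, if_pos rfl]
  · intro j _ hj
    rw [mon_apply, if_neg hj, zero_mul]
  · simp

theorem scalar_of_commute {h : Mat n} (hc : ∀ u, h * mon u = mon u * h) :
    ∃ l : F₃, h = l • 1 := by
  refine ⟨h 0 0, ?_⟩
  ext i k
  rw [Matrix.smul_apply, Matrix.one_apply, smul_eq_mul, mul_ite, mul_one, mul_zero]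
  split
  next hik =>
    subst hik
    have := congrFun (congrFun (hc (i, 0)) i) 0
    simp only [mul_mon_apply, mon_mul_apply, zero_add, zero_dotProduct, sgn_zero, mul_one,
      one_mul, add_self_V] at this
    exact this
  next hik =>
    obtain ⟨t, ht⟩ := Function.ne_iff.mp hik
    have := congrFun (congrFun (hc (0, Pi.single t 1)) i) k
    simp only [mul_mon_apply, mon_mul_apply, add_zero, single_dotProduct, one_mul] at this
    rw [mul_comm (sgn (i t))] at this
    by_contra h0
    exact ht (sgn_inj _ _ (mul_left_cancel₀ h0 this)).symm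

/-- A projective representation with the cocycle `beta`. -/
def IsRep (N : U2 n → Mat n) : Prop :=
  ∀ u v, N u * N v = sgn (beta u v) • N (u + v)

/-- Averaging. -/
noncomputable def tw (N₁ N₂ : U2 n → Mat n) (T : Mat n) : Mat n :=
  ∑ u, sgn (beta u u) • (N₁ u * T * N₂ u)

theorem tw_comm {N₁ N₂ : U2 n → Mat n} (h₁ : IsRep N₁) (h₂ : IsRep N₂) (T : Mat n) (v : U2 n) :
    N₁ v * tw N₁ N₂ T = tw N₁ N₂ T * N₂ v := by
  simp only [tw, Finset.mul_sum, Finset.sum_mul, mul_smul_comm, smul_mul_assoc]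
  refine Fintype.sum_equiv (Equiv.addRight v) _ _ fun u => ?_
  simp only [Equiv.coe_addRight]
  rw [mul_assoc (N₁ (u + v) * T), h₂ (u + v) v, add_assoc u, add_self_U, add_zero,
    ← mul_assoc, ← mul_assoc, h₁ v u, mul_smul_comm, smul_mul_assoc, smul_mul_assoc, smul_smul,
    smul_smul, add_comm v u, ← sgn_add, ← sgn_add]
  congr 2
  simp only [beta_add_left, beta_add_right]
  linear_combination -(beta v v + beta u v) * (CharTwo.two_eq_zero : (2 : F₂) = 0)

theorem mul_single_mul (A B : Mat n) (p r a b : V n) :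
    (A * (Matrix.single p r (1 : F₃) : Mat n) * B) a b = A a p * B r b := by
  rw [Matrix.mul_apply, Finset.sum_eq_single r]
  · simp [Matrix.mul_single_apply_same]
  · intro j _ hj
    simp [Matrix.mul_single_apply_of_ne _ _ _ _ _ hj]
  · simp

theorem exists_tw_ne_zero (N : U2 n → Mat n) (hN : N 0 ≠ 0) :
    ∃ T, tw N (mon : U2 n → Mat n) T ≠ 0 := by
  by_contra hall
  push Not at hall
  apply hN
  ext a p
  have h : ∑ u, (sgn (beta u u) * N u a p) • mon u = 0 := by
    ext r b
    have := congrFun (congrFun (hall (Matrix.single p r 1)) a) b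
    simp only [tw, Matrix.sum_apply, Matrix.smul_apply, mul_single_mul, Matrix.zero_apply,
      smul_eq_mul] at this
    simpa only [Matrix.sum_apply, Matrix.smul_apply, smul_eq_mul, mul_assoc,
      Matrix.zero_apply] using this
  exact (mul_eq_zero.mp (mon_indep _ h 0)).resolve_left (sgn_ne_zero _)

theorem add_hom_dot {l : V n → F₂} (hl : ∀ a b, l (a + b) = l a + l b) (a : V n) :
    l a = a ⬝ᵥ (fun i => l (Pi.single i 1)) := by
  let L : V n →+ F₂ := AddMonoidHom.mk' l hl
  calc l a = L a := rfl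
    _ = L (∑ i, Pi.single i (a i)) := by rw [Finset.univ_sum_single]
    _ = ∑ i, L (Pi.single i (a i)) := map_sum L _ _
    _ = _ := Finset.sum_congr rfl fun i _ => by
        rcases zmod2_cases (a i) with h | h <;> rw [h]
        · rw [Pi.single_zero, map_zero, zero_mul]
        · rw [one_mul]; rfl

/-- An alternating form is the polar of some function. -/
theorem exists_polar_V (D : V n → V n → F₂) (hl : ∀ a b c, D (a + b) c = D a c + D b c)
    (hs : ∀ a b, D a b = D b a) (h0 : ∀ a, D a a = 0) :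
    ∃ f : V n → F₂, ∀ a b, f (a + b) = f a + f b + D a b := by
  classical
  let d : Fin n → Fin n → F₂ := fun i j => D (Pi.single i 1) (Pi.single j 1)
  have hD : ∀ a b, D a b = ∑ i, ∑ j, a i * b j * d i j := by
    intro a b
    rw [add_hom_dot (l := fun x => D x b) (fun x y => hl x y b) a, dotProduct]
    refine Finset.sum_congr rfl fun i _ => ?_
    simp only [hs (Pi.single i 1) b]
    rw [add_hom_dot (l := fun y => D y (Pi.single i 1)) (fun x y => hl x y _) b, dotProduct,
      Finset.mul_sum]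
    refine Finset.sum_congr rfl fun j _ => ?_
    simp only [d, hs (Pi.single j 1) (Pi.single i 1), mul_assoc]
  refine ⟨fun a => ∑ i, ∑ j, if i < j then a i * a j * d i j else 0, fun a b => ?_⟩
  have hswap : (∑ i, ∑ j, if i < j then b i * a j * d i j else 0) =
      ∑ i, ∑ j, if j < i then a i * b j * d i j else 0 := by
    rw [Finset.sum_comm]
    refine Finset.sum_congr rfl fun i _ => Finset.sum_congr rfl fun j _ => ?_
    simp only [d, hs (Pi.single j 1) (Pi.single i 1), mul_comm (b j) (a i)]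
  have h3 : D a b = (∑ i, ∑ j, if i < j then a i * b j * d i j else 0) +
      ∑ i, ∑ j, if i < j then b i * a j * d i j else 0 := by
    rw [hswap, hD, ← Finset.sum_add_distrib]
    refine Finset.sum_congr rfl fun i _ => ?_
    rw [← Finset.sum_add_distrib]
    refine Finset.sum_congr rfl fun j _ => ?_
    rcases lt_trichotomy i j with h | h | h
    · simp [h, h.not_gt]
    · subst h
      simp [d, h0]
    · simp [h, h.not_gt]
  rw [h3]
  simp only [← Finset.sum_add_distrib]
  refine Finset.sum_congr rfl fun i _ => Finset.sum_congr rfl fun j _ => ?_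
  split
  · simp only [Pi.add_apply]; ring
  · simp

theorem exists_polar (D : U2 n → U2 n → F₂) (hl : ∀ u v w, D (u + v) w = D u w + D v w)
    (hs : ∀ u v, D u v = D v u) (h0 : ∀ u, D u u = 0) :
    ∃ f : U2 n → F₂, ∀ u v, f (u + v) = f u + f v + D u v := by
  obtain ⟨f₁, hf₁⟩ := exists_polar_V (fun a b : V n => D (a, 0) (b, 0))
    (fun a b c => by rw [← hl, Prod.mk_add_mk, add_zero]) (fun a b => hs _ _) fun a => h0 _
  obtain ⟨f₂, hf₂⟩ := exists_polar_V (fun a b : V n => D (0, a) (0, b))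
    (fun a b c => by rw [← hl, Prod.mk_add_mk, add_zero]) (fun a b => hs _ _) fun a => h0 _
  have hr : ∀ u v w, D w (u + v) = D w u + D w v := fun u v w => by
    rw [hs, hl, hs u, hs v]
  refine ⟨fun u => f₁ u.1 + f₂ u.2 + D (u.1, 0) (0, u.2), fun u v => ?_⟩
  have hu : u = (u.1, 0) + (0, u.2) := by simp
  have hv : v = (v.1, 0) + (0, v.2) := by simp
  have h1 : D u v = D (u.1, 0) (v.1, 0) + D (u.1, 0) (0, v.2) + (D (v.1, 0) (0, u.2) +
      D (0, u.2) (0, v.2)) := by
    conv_lhs => rw [hu, hv]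
    rw [hl, hr, hr, hs (0, u.2) (v.1, 0)]
  have ha : ((u + v).1, (0 : V n)) = (u.1, 0) + (v.1, 0) := by simp
  have hb : ((0 : V n), (u + v).2) = (0, u.2) + (0, v.2) := by simp
  dsimp only
  rw [h1, ha, hb, hl, hr, hr, Prod.fst_add, Prod.snd_add, hf₁, hf₂]
  ring

/-- Any map preserving the form lifts. -/
theorem exists_lift (k : U2 n → U2 n) (hadd : ∀ u v, k (u + v) = k u + k v)
    (hq : ∀ u, beta (k u) (k u) = beta u u) :
    ∃ g : (Mat n)ˣ, ∀ u : U2 n, ∃ c : F₃, c ≠ 0 ∧ (g : Mat n) * mon u = c • (mon (k u) * (g : Mat n)) := by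
  obtain ⟨f, hf⟩ := exists_polar (fun u v => beta (k u) (k v) + beta u v)
    (fun u v w => by simp only [hadd, beta_add_left]; ring)
    (fun u v => by
      have h1 := hq (u + v)
      simp only [hadd, beta_add_left, beta_add_right] at h1
      linear_combination h1 - hq u - hq v + (beta u v - beta (k v) (k u)) *
        (CharTwo.two_eq_zero : (2 : F₂) = 0))
    (fun u => by rw [hq, CharTwo.add_self_eq_zero])
  let N : U2 n → Mat n := fun u => sgn (f u) • mon (k u)
  have hN : IsRep N := by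
    intro u v
    simp only [N, smul_mul_assoc, mul_smul_comm, smul_smul, mon_mul, ← hadd, ← sgn_add]
    congr 2
    rw [hf u v]
    linear_combination (-beta u v) * (CharTwo.two_eq_zero : (2 : F₂) = 0)
  have hM : IsRep (mon : U2 n → Mat n) := mon_mul
  have hk0 : k 0 = 0 := by
    have := hadd 0 0
    rw [add_zero] at this
    simpa using this
  have hN0 : N 0 ≠ 0 := smul_ne_zero (sgn_ne_zero _) (mon_ne_zero _)
  obtain ⟨T, hT⟩ := exists_tw_ne_zero N hN0
  set g := tw N mon T with hg
  obtain ⟨i, j, hij⟩ : ∃ i j, g i j ≠ 0 := by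
    by_contra hall
    push Not at hall
    exact hT (Matrix.ext hall)
  set T' : Mat n := Matrix.single j i 1 with hT'
  set h := tw mon N T' with hh
  have hcomm : ∀ v, (h * g) * mon v = mon v * (h * g) := by
    intro v
    rw [mul_assoc, ← tw_comm hN hM T v, ← mul_assoc, ← tw_comm hM hN T' v, mul_assoc]
  obtain ⟨l, hl⟩ := scalar_of_commute hcomm
  have htr : (h * g).trace = (Fintype.card (U2 n) : F₃) * g i j := by
    have hterm : ∀ u, ((sgn (beta u u) • (mon u * T' * N u)) * g).trace = g i j := by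
      intro u
      rw [smul_mul_assoc, mul_assoc (mon u * T'), tw_comm hN hM T u, ← hg, Matrix.trace_smul,
        smul_eq_mul, mul_assoc (mon u) T', ← mul_assoc T' g, ← mul_assoc, Matrix.trace_mul_cycle,
        mon_self, smul_mul_assoc, one_mul, Matrix.trace_smul, smul_eq_mul, ← mul_assoc, sgn_sq,
        one_mul, hT', Matrix.trace_single_mul, one_smul]
    rw [hh, tw, Finset.sum_mul, Matrix.trace_sum, Finset.sum_congr rfl fun u _ => hterm u,
      Finset.sum_const, Finset.card_univ, nsmul_eq_mul]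
  have hl0 : l ≠ 0 := by
    intro h0
    rw [hl, h0, zero_smul, Matrix.trace_zero] at htr
    refine mul_ne_zero ?_ hij htr.symm
    rw [Fintype.card_prod, Fintype.card_fun, ZMod.card, Fintype.card_fin, ← pow_add]
    exact card_ne_zero3 _
  have hleft : (l⁻¹ • h) * g = 1 := by
    rw [smul_mul_assoc, hl, smul_smul, inv_mul_cancel₀ hl0, one_smul]
  refine ⟨⟨g, l⁻¹ • h, mul_eq_one_comm.mp hleft, hleft⟩, fun u => ⟨sgn (f u), sgn_ne_zero _, ?_⟩⟩
  change g * mon u = _
  rw [← tw_comm hN hM T u, ← hg]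
  exact smul_mul_assoc _ _ _

/-- The conjugators that fix the monomial representation up to sign are `± mon u`. -/
theorem eq_smul_mon (g : (Mat n)ˣ)
    (hg : ∀ u : U2 n, ∃ c : F₃, c ≠ 0 ∧ (g : Mat n) * mon u = c • (mon u * (g : Mat n))) :
    ∃ (e : F₂) (u : U2 n), (g : Mat n) = sgn e • mon u := by
  have hne : ∀ u : U2 n, mon u * (g : Mat n) ≠ 0 := by
    intro u h
    have h2 := congrArg (fun X : Mat n => X * ((g⁻¹ : (Mat n)ˣ) : Mat n)) h
    simp only [Units.mul_inv_cancel_right, zero_mul] at h2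
    exact mon_ne_zero u h2
  have hw : ∀ u : U2 n, ∃ x : F₂, (g : Mat n) * mon u = sgn x • (mon u * (g : Mat n)) := fun u => by
    obtain ⟨c, hc, h⟩ := hg u
    obtain ⟨x, rfl⟩ := sgn_surj c hc
    exact ⟨x, h⟩
  choose w hw using hw
  have hadd : ∀ u v, w (u + v) = w u + w v := by
    intro u v
    have h1 : (g : Mat n) * (mon u * mon v) =
        (sgn (beta u v) * sgn (w (u + v))) • (mon (u + v) * g) := by
      rw [mon_mul, mul_smul_comm, hw, smul_smul]
    have h2 : (g : Mat n) * (mon u * mon v) =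
        (sgn (w u) * sgn (w v) * sgn (beta u v)) • (mon (u + v) * g) := by
      rw [← mul_assoc, hw, smul_mul_assoc, mul_assoc, hw, mul_smul_comm, ← mul_assoc, mon_mul,
        smul_mul_assoc, smul_smul, smul_smul]
    have h3 := smul_left_injective F₃ (hne (u + v)) (h1.symm.trans h2)
    rw [mul_comm (sgn (beta u v)), ← sgn_add (w u)] at h3
    exact sgn_inj _ _ (mul_right_cancel₀ (sgn_ne_zero _) h3)
  let u₀ : U2 n := (fun i => w (0, Pi.single i 1), fun i => w (Pi.single i 1, 0))
  have hu₀ : ∀ u, w u = beta u₀ u + beta u u₀ := by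
    intro u
    have hu : u = (u.1, 0) + (0, u.2) := by simp
    conv_lhs => rw [hu, hadd]
    rw [add_hom_dot (l := fun a => w (a, 0))
        (fun a b => by rw [← hadd, Prod.mk_add_mk, add_zero]) u.1,
      add_hom_dot (l := fun a => w (0, a))
        (fun a b => by rw [← hadd, Prod.mk_add_mk, add_zero]) u.2]
    simp only [beta, u₀]
    rw [dotProduct_comm u.2, add_comm]
  have hcomm : ∀ u, ((g : Mat n) * mon u₀) * mon u = mon u * ((g : Mat n) * mon u₀) := by
    intro u
    have hx : mon u₀ * mon u = sgn (w u) • (mon u * mon u₀) := by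
      rw [mon_mul, mon_mul, smul_smul, ← sgn_add, add_comm u u₀, hu₀]
      congr 2
      linear_combination (-beta u u₀) * (CharTwo.two_eq_zero : (2 : F₂) = 0)
    rw [mul_assoc, hx, mul_smul_comm, ← mul_assoc, hw, smul_mul_assoc, smul_smul, sgn_sq,
      one_smul, mul_assoc]
  obtain ⟨l, hl⟩ := scalar_of_commute hcomm
  have hg' : (g : Mat n) = (l * sgn (beta u₀ u₀)) • mon u₀ := by
    calc (g : Mat n) = sgn (beta u₀ u₀) • ((g : Mat n) * (mon u₀ * mon u₀)) := by
          rw [mon_self, mul_smul_comm, mul_one, smul_smul, sgn_sq, one_smul]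
      _ = _ := by
          rw [← mul_assoc, hl, smul_mul_assoc, one_mul, smul_smul, mul_comm]
  obtain ⟨e, he⟩ := sgn_surj (l * sgn (beta u₀ u₀)) (by
    intro h0
    rw [h0, zero_smul] at hg'
    exact hne 0 (by rw [hg', mul_zero]))
  exact ⟨e, u₀, he ▸ hg'⟩

/-- Hyperbolic coordinates. -/
theorem exists_coords {U : Type*} [AddCommGroup U] [Module F₂ U] [Module.Finite F₂ U]
    (hn : Module.finrank F₂ U = 2 * n) (q : QuadraticForm F₂ U)
    (hnd : (QuadraticMap.polarBilin q).Nondegenerate)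
    (hplus : ∃ W : Submodule F₂ U, Module.finrank F₂ ↥W = n ∧ ∀ w ∈ W, q w = 0) :
    ∃ Φ : U2 n ≃ₗ[F₂] U, ∀ u, q (Φ u) = beta u u := by
  obtain ⟨W, hW, hq0⟩ := hplus
  obtain ⟨C, hC⟩ := W.exists_isCompl
  have hCn : Module.finrank F₂ C = n := by
    have := Submodule.finrank_add_eq_of_isCompl hC
    omega
  let bC := Module.finBasisOfFinrankEq F₂ C hCn
  let B : U →ₗ[F₂] U →ₗ[F₂] F₂ := QuadraticMap.polarBilin q
  have hWW : ∀ w ∈ W, ∀ w' ∈ W, B w w' = 0 := fun w hw w' hw' => by
    simp [B, QuadraticMap.polar, hq0 w hw, hq0 w' hw', hq0 _ (W.add_mem hw hw')]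
  let φ : W →ₗ[F₂] C →ₗ[F₂] F₂ := (B.compl₂ C.subtype).comp W.subtype
  have hφ : ∀ (w : W) (c : C), φ w c = B w c := fun w c => rfl
  have hinj : Function.Injective φ := by
    rw [injective_iff_map_eq_zero]
    intro w hw
    apply Subtype.ext
    refine hnd.1 (w : U) fun u => ?_
    obtain ⟨a, ha, c, hc, rfl⟩ : ∃ a ∈ W, ∃ c ∈ C, a + c = u :=
      Submodule.mem_sup.mp (hC.sup_eq_top.symm ▸ Submodule.mem_top)
    change B w (a + c) = 0
    rw [map_add, hWW _ w.2 a ha, zero_add]
    exact (hφ w ⟨c, hc⟩).symm.trans (by rw [hw]; rfl)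
  have hdim : Module.finrank F₂ W = Module.finrank F₂ (C →ₗ[F₂] F₂) := by
    rw [hW, Module.finrank_linearMap, Module.finrank_self, mul_one, hCn]
  let φe := φ.linearEquivOfInjective hinj hdim
  have hφe : ∀ (f : C →ₗ[F₂] F₂) (c : C), B (φe.symm f : U) c = f c := fun f c => by
    rw [← hφ, ← LinearMap.linearEquivOfInjective_apply hinj hdim, LinearEquiv.apply_symm_apply]
  let γ : C →ₗ[F₂] C →ₗ[F₂] F₂ := (q.comp C.subtype).toBilin bC
  have hγ : ∀ c : C, γ c c = q c := fun c => by
    have := congrArg (fun Q : QuadraticForm F₂ C => Q c)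
      (QuadraticMap.toQuadraticMap_toBilin (q.comp C.subtype) bC)
    simpa using this
  let L : C →ₗ[F₂] W := φe.symm.toLinearMap.comp γ
  let cb : V n →ₗ[F₂] C := bC.equivFun.symm.toLinearMap
  let wa : V n →ₗ[F₂] W := φe.symm.toLinearMap.comp (bC.constr F₂).toLinearMap
  let Φ₀ : U2 n →ₗ[F₂] U :=
    (W.subtype.comp wa).coprod ((C.subtype + W.subtype.comp L).comp cb)
  have hΦ₀ : ∀ u : U2 n, Φ₀ u = (wa u.1 : U) + ((cb u.2 : U) + (L (cb u.2) : U)) := fun u => rfl
  have hi : Function.Injective Φ₀ := by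
    rw [injective_iff_map_eq_zero]
    intro u hu
    rw [hΦ₀] at hu
    have hc : (cb u.2 : U) = 0 := by
      refine Submodule.disjoint_def.mp hC.disjoint _ ?_ (cb u.2).2
      have : (cb u.2 : U) = -((wa u.1 : U) + (L (cb u.2) : U)) := by
        rw [eq_neg_iff_add_eq_zero, ← hu]
        abel
      rw [this]
      exact W.neg_mem (W.add_mem (wa u.1).2 (L (cb u.2)).2)
    have hb : cb u.2 = 0 := Subtype.ext hc
    rw [hb, map_zero, Submodule.coe_zero, Submodule.coe_zero, add_zero, add_zero] at hu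
    have h2 : u.2 = 0 := bC.equivFun.symm.injective (hb.trans (map_zero _).symm)
    have h1 : u.1 = 0 := (bC.constr F₂).injective (φe.symm.injective
      ((Subtype.ext hu : wa u.1 = 0).trans (by simp)))
    exact Prod.ext h1 h2
  have hdim2 : Module.finrank F₂ (U2 n) = Module.finrank F₂ U := by
    rw [hn, Module.finrank_prod, Module.finrank_fin_fun]
    ring
  refine ⟨Φ₀.linearEquivOfInjective hi hdim2, fun u => ?_⟩
  rw [LinearMap.linearEquivOfInjective_apply, hΦ₀]
  set w := wa u.1 with hw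
  set c := cb u.2 with hc
  have e1 : q ((c : U) + (L c : U)) = 0 := by
    rw [QuadraticMap.map_add (⇑q), hq0 _ (L c).2, add_zero]
    have : QuadraticMap.polar q (c : U) (L c : U) = q c := by
      rw [QuadraticMap.polar_comm]
      exact (hφe (γ c) c).trans (hγ c)
    rw [this, CharTwo.add_self_eq_zero]
  rw [QuadraticMap.map_add (⇑q), e1, hq0 _ w.2, zero_add, zero_add]
  change B (w : U) ((c : U) + (L c : U)) = _
  rw [map_add, hWW _ w.2 _ (L c).2, add_zero]
  refine (hφe (bC.constr F₂ u.1) c).trans ?_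
  rw [Module.Basis.constr_apply_fintype, hc]
  change ∑ i, bC.equivFun (bC.equivFun.symm u.2) i • u.1 i = _
  rw [LinearEquiv.apply_symm_apply]
  simp [beta, dotProduct, mul_comm]

/-- Let K be a group acting faithfully and linearly on a finite-dimensional vector space U of dimension 2n ≥ 2 over the field with two elements, preserving a quadratic form q whose polar bilinear form is non-degenerate and which vanishes on some n-dimensional subspace (a non-singular form of plus type). Then there is a finite group R with a normal extraspecial 2-subgroup Q of order 2^(2n+1), an isomorphism of R/Q with K, and a surjective homomorphism χ from Q onto (the additive group of) U with kernel the centre of Q, such that χ carries conjugation by any r in R to the action of the image of r in K, and an element a of Q squares to the identity exactly when q vanishes at χ(a). -/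
theorem result {K : Type*} [Group K] {U : Type*} [AddCommGroup U] [Module (ZMod 2) U] [Module.Finite (ZMod 2) U] (n : ℕ) (hn1 : 1 ≤ n) (hn : Module.finrank (ZMod 2) U = 2 * n) (ρ : Representation (ZMod 2) K U) (hρ : Function.Injective ρ) (q : QuadraticForm (ZMod 2) U) (hq : ∀ (k : K) (u : U), q (ρ k u) = q u) (hnd : (QuadraticMap.polarBilin q).Nondegenerate) (hplus : ∃ W : Submodule (ZMod 2) U, Module.finrank (ZMod 2) ↥W = n ∧ ∀ w ∈ W, q w = 0) : ∃ (R : Type) (_ : Group R) (_ : Finite R) (Q : Subgroup R) (hN : Q.Normal) (e : R ⧸ Q ≃* K) (χ : ↥Q →* Multiplicative U), Cfsg.IsExtraspecial 2 ↥Q ∧ Nat.card ↥Q = 2 ^ (2 * n + 1) ∧ Function.Surjective χ ∧ χ.ker = Subgroup.center ↥Q ∧ (∀ (r : R) (a : ↥Q), χ ⟨r * a * r⁻¹, hN.conj_mem (a : R) a.2 r⟩ = Multiplicative.ofAdd (ρ (e (r : R ⧸ Q)) (Multiplicative.toAdd (χ a)))) ∧ ∀ a : ↥Q, a * a = 1 ↔ q (Multiplicative.toAdd (χ a)) = 0 := by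
  classical
  obtain ⟨Φ, hΦ⟩ := exists_coords hn q hnd hplus
  -- `K` as permutations of the coordinates
  let σ : K →* Equiv.Perm (U2 n) := MonoidHom.mk'
    (fun k => ⟨fun x => Φ.symm (ρ k (Φ x)), fun x => Φ.symm (ρ k⁻¹ (Φ x)),
      fun x => by simp [← Module.End.mul_apply, ← map_mul],
      fun x => by simp [← Module.End.mul_apply, ← map_mul]⟩)
    (fun a b => Equiv.ext fun x => by simp [Module.End.mul_apply])
  have hσ : ∀ k x, Φ (σ k x) = ρ k (Φ x) := fun k x => Φ.apply_symm_apply _
  have hσi : Function.Injective σ := by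
    intro a b h
    apply hρ
    refine LinearMap.ext fun x => ?_
    rw [← Φ.apply_symm_apply x, ← hσ, ← hσ, h]
  have hσadd : ∀ k u v, σ k (u + v) = σ k u + σ k v := fun k u v => by
    apply Φ.injective
    simp [hσ]
  have hσq : ∀ k u, beta (σ k u) (σ k u) = beta u u := fun k u => by
    rw [← hΦ, ← hΦ, hσ, hq]
  let S : Subgroup ((Mat n)ˣ × Equiv.Perm (U2 n)) :=
    { carrier := {p | p.2 ∈ σ.range ∧
        ∀ u : U2 n, ∃ c : F₃, c ≠ 0 ∧ (p.1 : Mat n) * mon u = c • (mon (p.2 u) * (p.1 : Mat n))}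
      one_mem' := ⟨one_mem _, fun u => ⟨1, one_ne_zero, by simp⟩⟩
      mul_mem' := by
        rintro a b ⟨ha1, ha2⟩ ⟨hb1, hb2⟩
        refine ⟨mul_mem ha1 hb1, fun u => ?_⟩
        obtain ⟨c, hc, h⟩ := hb2 u
        obtain ⟨d, hd, h'⟩ := ha2 (b.2 u)
        refine ⟨c * d, mul_ne_zero hc hd, ?_⟩
        simp only [Prod.fst_mul, Prod.snd_mul, Units.val_mul, Equiv.Perm.mul_apply]
        rw [mul_assoc, h, mul_smul_comm, ← mul_assoc, h', smul_mul_assoc, smul_smul, mul_assoc]
      inv_mem' := by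
        rintro a ⟨ha1, ha2⟩
        refine ⟨inv_mem ha1, fun u => ?_⟩
        obtain ⟨c, hc, h⟩ := ha2 (a.2⁻¹ u)
        rw [show a.2 (a.2⁻¹ u) = u from a.2.apply_symm_apply u] at h
        refine ⟨c⁻¹, inv_ne_zero hc, ?_⟩
        simp only [Prod.fst_inv, Prod.snd_inv]
        have h1 := congrArg (fun X : Mat n =>
          ((a.1⁻¹ : (Mat n)ˣ) : Mat n) * X * ((a.1⁻¹ : (Mat n)ˣ) : Mat n)) h
        simp only [mul_smul_comm, smul_mul_assoc, Units.inv_mul_cancel_left, mul_assoc,
          Units.mul_inv, mul_one] at h1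
        rw [h1, smul_smul, inv_mul_cancel₀ hc, one_smul] }
  let π : S →* K := (MonoidHom.ofInjective hσi).symm.toMonoidHom.comp
    (((MonoidHom.snd _ _).comp S.subtype).codRestrict σ.range fun r => r.2.1)
  have hπ : ∀ r : S, σ (π r) = (r : (Mat n)ˣ × Equiv.Perm (U2 n)).2 := fun r =>
    congrArg Subtype.val ((MonoidHom.ofInjective hσi).apply_symm_apply
      (⟨(r : (Mat n)ˣ × Equiv.Perm (U2 n)).2, r.2.1⟩ : σ.range))
  have hπs : Function.Surjective π := fun k => by
    obtain ⟨g, hg⟩ := exists_lift (σ k) (hσadd k) (hσq k)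
    exact ⟨⟨(g, σ k), ⟨⟨k, rfl⟩, hg⟩⟩, hσi (by rw [hπ])⟩
  let Q := π.ker
  have hQ2 : ∀ a : Q, ((a : S) : (Mat n)ˣ × Equiv.Perm (U2 n)).2 = 1 := fun a => by
    have ha : π (a : S) = 1 := a.2
    rw [← hπ, ha, map_one]
  let val : Q → Mat n := fun a => (((a : S) : (Mat n)ˣ × Equiv.Perm (U2 n)).1 : Mat n)
  have hval_inj : Function.Injective val := fun a b h =>
    Subtype.ext (Subtype.ext (Prod.ext (Units.ext h) ((hQ2 a).trans (hQ2 b).symm)))
  have hval_mul : ∀ a b : Q, val (a * b) = val a * val b := fun a b => rfl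
  have hval_one : val 1 = 1 := rfl
  have hex : ∀ z : F₂ × U2 n, ∃ a : Q, val a = sgn z.1 • mon z.2 := by
    rintro ⟨e, u⟩
    let g : (Mat n)ˣ := ⟨sgn e • mon u, sgn (e + beta u u) • mon u,
      by rw [smul_mul_assoc, mul_smul_comm, mon_self, smul_smul, smul_smul, ← sgn_add, ← sgn_add,
        show e + (e + beta u u) + beta u u = 0 by
          linear_combination (e + beta u u) * (CharTwo.two_eq_zero : (2 : F₂) = 0),
        sgn_zero, one_smul],
      by rw [smul_mul_assoc, mul_smul_comm, mon_self, smul_smul, smul_smul, ← sgn_add, ← sgn_add,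
        show e + beta u u + e + beta u u = 0 by
          linear_combination (e + beta u u) * (CharTwo.two_eq_zero : (2 : F₂) = 0),
        sgn_zero, one_smul]⟩
    let r : S := ⟨(g, 1), ⟨one_mem _, fun v => ⟨sgn (beta u v + beta v u), sgn_ne_zero _, by
      change (sgn e • mon u) * mon v = _ • (mon v * (sgn e • mon u))
      rw [smul_mul_assoc, mul_smul_comm, smul_smul, mon_mul, mon_mul, smul_smul, smul_smul,
        ← sgn_add, ← sgn_add, ← sgn_add, add_comm v u]
      congr 2
      linear_combination (-beta v u) * (CharTwo.two_eq_zero : (2 : F₂) = 0)⟩⟩⟩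
    have hr : r ∈ Q := hσi (by rw [hπ, map_one])
    exact ⟨⟨r, hr⟩, rfl⟩
  choose Ψ hΨ using hex
  have hΨi : Function.Injective Ψ := by
    intro y z h
    have := congrArg val h
    rw [hΨ, hΨ] at this
    obtain ⟨h1, h2⟩ := smul_mon_inj (sgn_ne_zero _) this
    exact Prod.ext (sgn_inj _ _ h1) h2
  have hΨs : Function.Surjective Ψ := by
    intro a
    obtain ⟨e, u, h⟩ := eq_smul_mon ((a : S) : (Mat n)ˣ × Equiv.Perm (U2 n)).1 (fun u => by
      have := (a : S).2.2 u
      rwa [hQ2, Equiv.Perm.one_apply] at this)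
    exact ⟨(e, u), hval_inj ((hΨ _).trans h.symm)⟩
  let Ψe : F₂ × U2 n ≃ Q := Equiv.ofBijective Ψ ⟨hΨi, hΨs⟩
  have hmul : ∀ y z, Ψ y * Ψ z = Ψ (y.1 + z.1 + beta y.2 z.2, y.2 + z.2) := fun y z => by
    apply hval_inj
    rw [hval_mul, hΨ, hΨ, hΨ, smul_mul_assoc, mul_smul_comm, mon_mul, smul_smul, smul_smul,
      ← sgn_add, ← sgn_add]
  have hone : Ψ 0 = 1 := hval_inj (by rw [hΨ, hval_one]; simp [sgn_zero, mon_zero])
  let χ : Q →* Multiplicative U := MonoidHom.mk'
    (fun a => Multiplicative.ofAdd (Φ (Ψe.symm a).2)) fun a b => by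
      obtain ⟨y, rfl⟩ := hΨs a
      obtain ⟨z, rfl⟩ := hΨs b
      rw [hmul]
      simp only [show ∀ y, Ψe.symm (Ψ y) = y from Ψe.symm_apply_apply, map_add, ofAdd_add]
  have hχ : ∀ y, χ (Ψ y) = Multiplicative.ofAdd (Φ y.2) := fun y => by
    change Multiplicative.ofAdd (Φ (Ψe.symm (Ψe y)).2) = _
    rw [Equiv.symm_apply_apply]
  have hker : ∀ y, Ψ y ∈ χ.ker ↔ y.2 = 0 := fun y => by
    rw [MonoidHom.mem_ker, hχ, ofAdd_eq_one, map_eq_zero_iff Φ Φ.injective]
  have hcent : ∀ y, Ψ y ∈ Subgroup.center Q ↔ y.2 = 0 := by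
    intro y
    rw [Subgroup.mem_center_iff]
    constructor
    · intro h
      have hc : ∀ v, beta y.2 v = beta v y.2 := fun v => by
        have h1 := h (Ψ (0, v))
        rw [hmul, hmul] at h1
        have h2 := congrArg Prod.fst (hΨi h1)
        simp only [zero_add, add_zero] at h2
        exact (add_left_cancel h2).symm
      refine Prod.ext (funext fun i => ?_) (funext fun i => ?_)
      · simpa [beta] using hc (0, Pi.single i 1)
      · simpa [beta] using (hc (Pi.single i 1, 0)).symm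
    · intro h a
      obtain ⟨z, rfl⟩ := hΨs a
      rw [hmul, hmul, h, beta_zero_left, beta_zero_right, add_comm z.1, zero_add, add_zero,
        add_zero]
  have hkc : χ.ker = Subgroup.center Q := by
    ext a
    obtain ⟨y, rfl⟩ := hΨs a
    rw [hker, hcent]
  have hcardQ : Nat.card Q = 2 ^ (2 * n + 1) := by
    rw [← Nat.card_congr Ψe]
    simp only [Nat.card_eq_fintype_card, Fintype.card_prod, Fintype.card_fun, ZMod.card,
      Fintype.card_fin]
    ring
  have hP : IsPGroup 2 Q := IsPGroup.of_card hcardQ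
  have hcardZ : Nat.card (Subgroup.center Q) = 2 := by
    rw [← Nat.card_congr (Equiv.ofBijective
      (fun e : F₂ => (⟨Ψ (e, 0), (hcent (e, 0)).mpr rfl⟩ : Subgroup.center Q))
      ⟨fun a b h => congrArg Prod.fst (hΨi (congrArg Subtype.val h)), fun a => by
        obtain ⟨y, hy⟩ := hΨs (a : Q)
        have h2 : y.2 = 0 := (hcent y).mp (hy ▸ a.2)
        exact ⟨y.1, Subtype.ext ((congrArg Ψ (show (y.1, (0 : U2 n)) = y from Prod.ext rfl h2.symm)).trans hy)⟩⟩)]
    simp
  have hsq : ∀ a : Q, a ^ 2 ∈ χ.ker := fun a => by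
    obtain ⟨y, rfl⟩ := hΨs a
    rw [pow_two, hmul, hker]
    exact add_self_U _
  have hcomm : commutator Q = Subgroup.center Q := by
    refine le_antisymm (hkc ▸ Abelianization.commutator_subset_ker χ) fun a ha => ?_
    let i : Fin n := ⟨0, hn1⟩
    let x := Ψ (0, ((Pi.single i 1, 0) : U2 n))
    let y := Ψ (0, ((0, Pi.single i 1) : U2 n))
    have hz : x * y = Ψ (1, 0) * (y * x) := by
      simp [x, y, hmul, beta]
    obtain ⟨⟨e, u⟩, rfl⟩ := hΨs a
    obtain rfl : u = 0 := (hcent _).mp ha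
    rcases zmod2_cases e with rfl | rfl
    · rw [show ((0, 0) : F₂ × U2 n) = 0 from rfl, hone]
      exact one_mem _
    · have h := Subgroup.commutator_mem_commutator (Subgroup.mem_top x) (Subgroup.mem_top y)
      rw [commutatorElement_def, hz, mul_assoc (Ψ (1, 0)), mul_assoc y x, mul_inv_cancel, mul_one,
        mul_assoc, mul_inv_cancel, mul_one] at h
      rw [commutator_def]
      exact h
  have hfr : frattini Q = Subgroup.center Q := by
    refine le_antisymm ?_ (hcomm ▸ PGroup.commutator_le_frattini hP)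
    exact PGroup.frattini_le hcomm.le fun a => hkc ▸ hsq a
  refine ⟨S, inferInstance, inferInstance, Q, inferInstance,
    QuotientGroup.quotientKerEquivOfSurjective π hπs, χ, ⟨⟨hP, hfr, hcomm⟩, hcardZ⟩, hcardQ,
    fun x => ?_, hkc, fun r a => ?_, fun a => ?_⟩
  · refine ⟨Ψ (0, Φ.symm (Multiplicative.toAdd x)), ?_⟩
    rw [hχ]
    simp
  · obtain ⟨⟨e, u⟩, rfl⟩ := hΨs a
    obtain ⟨c, hc, h⟩ := r.2.2 u
    set b : Q := ⟨r * (Ψ (e, u) : S) * r⁻¹, _⟩
    obtain ⟨⟨e', u'⟩, hb⟩ := hΨs b
    have h1 : val b * ((r : (Mat n)ˣ × Equiv.Perm (U2 n)).1 : Mat n) =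
        ((r : (Mat n)ˣ × Equiv.Perm (U2 n)).1 : Mat n) * val (Ψ (e, u)) := by
      change ((_ * _ * _⁻¹ : (Mat n)ˣ) : Mat n) * _ = _
      rw [← Units.val_mul, inv_mul_cancel_right, Units.val_mul]
    rw [hΨ, ← hb, hΨ, mul_smul_comm, h, smul_smul, ← smul_mul_assoc] at h1
    obtain ⟨-, h2⟩ := smul_mon_inj (sgn_ne_zero _) ((Units.isUnit _).mul_right_cancel h1)
    rw [← hb, hχ, hχ, toAdd_ofAdd]
    change Multiplicative.ofAdd (Φ u') = Multiplicative.ofAdd (ρ (π r) (Φ u))
    rw [← hσ, hπ]
    exact congrArg _ (congrArg Φ h2)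
  · obtain ⟨⟨e, u⟩, rfl⟩ := hΨs a
    rw [hχ, toAdd_ofAdd, hΦ, hmul, ← hone, hΨi.eq_iff, Prod.ext_iff]
    simp [add_self_U, CharTwo.add_self_eq_zero]

end Cfsg.Agent.S3084
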