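import Cfsg.Statements.S3085
import Cfsg.Agent.Lib.PGroup.Extraspecial
import Cfsg.Agent.Lib.Griess.Frame

set_option autoImplicit false
open Cfsg

namespace Cfsg.Agent.S3085
open Subgroup
open scoped commutatorElement

/-- Let Q be an extraspecial 2-group of order 2^(2n+1) with n ≥ 3 that is of plus type (it contains an elementary abelian subgroup of order 2^(n+1)). Then the group of inner automorphisms of Q has no complement in the full automorphism group of Q: the extension of the inner automorphism group (elementary abelian of order 2^(2n)) by the outer automorphism group (the orthogonal group of plus type) does not split. -/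
theorem result {Q : Type*} [Group Q] [Finite Q] (n : ℕ) (hn : 3 ≤ n) (hQ : Cfsg.IsExtraspecial 2 Q) (hcard : Nat.card Q = 2 ^ (2 * n + 1)) (hplus : ∃ E : Subgroup Q, Cfsg.IsElementaryAbelian 2 E ∧ Nat.card ↥E = 2 ^ (n + 1)) (L : Subgroup (MulAut Q)) : ¬ (Cfsg.Inn Q).IsComplement' L := by
  classical
  have hsp := hQ.1
  -- the centre
  obtain ⟨z, hzc, hz1⟩ : ∃ z ∈ Subgroup.center Q, z ≠ 1 := by
    by_contra hh
    push Not at hh
    have h2 := hQ.2
    rw [(Subgroup.eq_bot_iff_forall _).mpr hh, Subgroup.card_bot] at h2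
    exact absurd h2 (by norm_num)
  have hcen : ∀ c ∈ Subgroup.center Q, c = 1 ∨ c = z := by
    intro c hc
    by_contra hh
    push Not at hh
    obtain ⟨x, y, -, hxy⟩ := Nat.card_eq_two_iff.mp hQ.2
    have key : ∀ w : Subgroup.center Q, w = x ∨ w = y := fun w => by
      have : w ∈ ({x, y} : Set (Subgroup.center Q)) := by rw [hxy]; trivial
      simpa using this
    rcases key 1 with h1 | h1 <;> rcases key ⟨z, hzc⟩ with h2 | h2 <;>
      rcases key ⟨c, hc⟩ with h3 | h3 <;>
      first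
      | exact hz1 (congrArg Subtype.val (h2.trans h1.symm))
      | exact hh.1 (congrArg Subtype.val (h3.trans h1.symm))
      | exact hh.2 (congrArg Subtype.val (h3.trans h2.symm))
  have hzcomm : ∀ q : Q, z * q = q * z := fun q => (Subgroup.mem_center_iff.mp hzc q).symm
  have hz2 : z ^ 2 = 1 := PGroup.special_center_pow hsp hzc
  have hbin : ∀ x y : Q, x * y = y * x ∨ x * y = y * x * z := by
    intro x y
    have e : x * y = ⁅x, y⁆ * (y * x) := by rw [commutatorElement_def]; group
    rcases hcen _ (PGroup.special_commutator_mem_center hsp x y) with h | h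
    · left; rw [e, h, one_mul]
    · right; rw [e, h, hzcomm]
  have hsq : ∀ x : Q, x ^ 2 = 1 ∨ x ^ 2 = z := fun x => hcen _ (PGroup.special_pow_mem_center hsp x)
  obtain ⟨E, hE, hEcard⟩ := hplus
  have hEc : ∀ a ∈ E, ∀ b ∈ E, a * b = b * a := fun a ha b hb =>
    congrArg Subtype.val (hE.1.is_comm.comm ⟨a, ha⟩ ⟨b, hb⟩)
  have hbig : 16 ≤ Nat.card E := by
    rw [hEcard]
    calc 16 = 2 ^ (3 + 1) := by norm_num
      _ ≤ _ := Nat.pow_le_pow_right (by norm_num) (by omega)
  set Z := Subgroup.center Q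
  have hnormal : ∀ H : Subgroup Q, Z ≤ H → H.Normal := fun H hH => ⟨fun a ha g => by
    have e : g * a * g⁻¹ = ⁅g, a⁆ * a := by rw [commutatorElement_def]; group
    rw [e]
    exact mul_mem (hH (PGroup.special_commutator_mem_center hsp g a)) ha⟩
  have hpick : ∀ H : Subgroup Q, Nat.card H < 16 → ∃ a ∈ E, a ∉ H := by
    intro H hH
    by_contra hh
    push Not at hh
    have := Subgroup.card_le_of_le (fun a ha => hh a ha : E ≤ H)
    omega
  have hgrow : ∀ H : Subgroup Q, Z ≤ H → ∀ a : Q, a ∉ H →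
      Nat.card (H ⊔ zpowers a : Subgroup Q) = Nat.card H * 2 := fun H hH a ha => by
    haveI := hnormal H hH
    exact PGroup.card_sup_zpowers H ha (hH (PGroup.special_pow_mem_center hsp a))
  obtain ⟨a1, h1E, h1⟩ := hpick Z (by rw [hQ.2]; norm_num)
  have hc1 := hgrow Z le_rfl a1 h1
  set H1 := Z ⊔ zpowers a1
  obtain ⟨a2, h2E, h2⟩ := hpick H1 (by rw [hc1, hQ.2]; norm_num)
  have hc2 := hgrow H1 le_sup_left a2 h2
  set H2 := H1 ⊔ zpowers a2 with hH2
  obtain ⟨a3, h3E, h3⟩ := hpick H2 (by rw [hc2, hc1, hQ.2]; norm_num)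
  -- independence
  have hsplit : ∀ H : Subgroup Q, Z ≤ H → ∀ w x : Q, x ∈ H ⊔ zpowers w → x ∈ H ∨ x * w ∈ H := by
    intro H hH w x hx
    haveI := hnormal H hH
    obtain ⟨k, hk, y, hy, rfl⟩ := Subgroup.mem_sup_of_normal_left.mp hx
    obtain ⟨j, rfl⟩ := mem_zpowers_iff.mp hy
    have hw : w ^ (2 : ℤ) ∈ H := by
      rw [show w ^ (2 : ℤ) = w ^ 2 from zpow_natCast w 2]
      exact hH (PGroup.special_pow_mem_center hsp w)
    rcases Int.even_or_odd' j with ⟨i, hi | hi⟩
    · left
      subst hi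
      rw [zpow_mul]
      exact mul_mem hk (zpow_mem hw i)
    · right
      subst hi
      rw [mul_assoc, ← zpow_add_one, show 2 * i + 1 + 1 = 2 * (i + 1) by ring, zpow_mul]
      exact mul_mem hk (zpow_mem hw _)
  have ha1mem : a1 ∈ H1 := mem_sup_right (mem_zpowers a1)
  have n1 : a1 ∉ Z ⊔ zpowers a2 ⊔ zpowers a3 := by
    intro h
    rcases hsplit _ le_sup_left a3 a1 h with h' | h'
    · rcases hsplit Z le_rfl a2 a1 h' with h'' | h''
      · exact h1 h''
      · apply h2
        have := mul_mem (inv_mem ha1mem) (mem_sup_left (T := zpowers a1) h'' : a1 * a2 ∈ H1)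
        simpa using this
    · apply h3
      have h'' : a1 * a3 ∈ H2 := (sup_le_sup_right le_sup_left _ : Z ⊔ zpowers a2 ≤ H2) h'
      have := mul_mem (inv_mem (mem_sup_left ha1mem : a1 ∈ H2)) h''
      simpa using this
  have n2 : a2 ∉ Z ⊔ zpowers a1 ⊔ zpowers a3 := by
    intro h
    rcases hsplit _ le_sup_left a3 a2 h with h' | h'
    · exact h2 h'
    · apply h3
      have := mul_mem (inv_mem (mem_sup_right (mem_zpowers a2) : a2 ∈ H2)) (mem_sup_left h' : a2 * a3 ∈ H2)
      simpa using this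
  have n3 : a3 ∉ Z ⊔ zpowers a1 ⊔ zpowers a2 := h3
  -- the dual elements
  have dual : ∀ a u v : Q, a ∉ Z ⊔ zpowers u ⊔ zpowers v →
      ∃ y : Q, y * a = a * y * z ∧ y * u = u * y ∧ y * v = v * y := by
    intro a u v ha
    have hZ : Z ≤ Z ⊔ zpowers u ⊔ zpowers v := le_sup_left.trans le_sup_left
    rw [← PGroup.centralizer_centralizer_extraspecial hQ hZ, Subgroup.mem_centralizer_iff] at ha
    push Not at ha
    obtain ⟨y, hy, hya⟩ := ha
    refine ⟨y, (hbin y a).resolve_left hya, ?_, ?_⟩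
    · exact (Subgroup.mem_centralizer_iff.mp hy u
        (mem_sup_left (mem_sup_right (mem_zpowers u)))).symm
    · exact (Subgroup.mem_centralizer_iff.mp hy v (mem_sup_right (mem_zpowers v))).symm
  obtain ⟨y1, p1, q12, q13⟩ := dual a1 a2 a3 n1
  obtain ⟨y2, p2, q21, q23⟩ := dual a2 a1 a3 n2
  obtain ⟨y3, p3, q31, q32⟩ := dual a3 a1 a2 n3
  have s1 : a1 ^ 2 = 1 := hE.2 a1 h1E
  have s2 : a2 ^ 2 = 1 := hE.2 a2 h2E
  have s3 : a3 ^ 2 = 1 := hE.2 a3 h3E
  have mulc : ∀ y a x : Q, y * x = x * y → a * x = x * a → y * a * x = x * (y * a) := by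
    intro y a x h h'
    rw [mul_assoc, h', ← mul_assoc, h, mul_assoc]
  have mulz : ∀ y a x : Q, y * x = x * y * z → a * x = x * a → y * a * x = x * (y * a) * z := by
    intro y a x h h'
    rw [mul_assoc, h', ← mul_assoc, h, mul_assoc (x * y), hzcomm]
    simp only [mul_assoc]
  have fixsq : ∀ y a : Q, y * a = a * y * z → a ^ 2 = 1 → ∃ b : Q, b ^ 2 = 1 ∧ (b = y ∨ b = y * a) := by
    intro y a hya ha
    rcases hsq y with h | h
    · exact ⟨y, h, Or.inl rfl⟩
    · refine ⟨y * a, ?_, Or.inr rfl⟩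
      have hay : a * y = y * a * z := by
        rw [hya, mul_assoc (a * y), ← pow_two z, hz2, mul_one]
      calc (y * a) ^ 2 = y * (a * y) * a := by rw [pow_two]; simp only [mul_assoc]
        _ = y * y * (a * (z * a)) := by rw [hay]; simp only [mul_assoc]
        _ = z * (a * a * z) := by rw [← pow_two, h, hzcomm a]; simp only [mul_assoc]
        _ = 1 := by rw [← pow_two a, ha, one_mul, ← pow_two, hz2]
  obtain ⟨b1, t1, hb1⟩ := fixsq y1 a1 p1 s1
  have e11 : b1 * a1 = a1 * b1 * z := by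
    rcases hb1 with rfl | rfl
    · exact p1
    · exact mulz _ _ _ p1 rfl
  have e12 : b1 * a2 = a2 * b1 := by
    rcases hb1 with rfl | rfl
    · exact q12
    · exact mulc _ _ _ q12 (hEc _ h1E _ h2E)
  have e13 : b1 * a3 = a3 * b1 := by
    rcases hb1 with rfl | rfl
    · exact q13
    · exact mulc _ _ _ q13 (hEc _ h1E _ h3E)
  -- adjust to commute with an earlier dual
  have fixcomm : ∀ y b a : Q, b * a = a * b * z → ∃ y' : Q, y' * b = b * y' ∧ (y' = y ∨ y' = y * a) := by
    intro y b a hba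
    rcases hbin y b with h | h
    · exact ⟨y, h, Or.inl rfl⟩
    · refine ⟨y * a, ?_, Or.inr rfl⟩
      have hab : a * b = b * a * z := by
        rw [hba, mul_assoc (a * b), ← pow_two z, hz2, mul_one]
      calc y * a * b = y * b * a * z := by rw [mul_assoc, hab]; simp only [mul_assoc]
        _ = b * y * (z * a) * z := by rw [h]; simp only [mul_assoc]
        _ = b * (y * a) * (z * z) := by rw [hzcomm a]; simp only [mul_assoc]
        _ = b * (y * a) := by rw [← pow_two, hz2, mul_one]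
  obtain ⟨w2, c12, hw2⟩ := fixcomm y2 b1 a1 e11
  have f22 : w2 * a2 = a2 * w2 * z := by
    rcases hw2 with rfl | rfl
    · exact p2
    · exact mulz _ _ _ p2 (hEc _ h1E _ h2E)
  have f21 : w2 * a1 = a1 * w2 := by
    rcases hw2 with rfl | rfl
    · exact q21
    · exact mulc _ _ _ q21 rfl
  have f23 : w2 * a3 = a3 * w2 := by
    rcases hw2 with rfl | rfl
    · exact q23
    · exact mulc _ _ _ q23 (hEc _ h1E _ h3E)
  obtain ⟨b2, t2, hb2⟩ := fixsq w2 a2 f22 s2
  have e22 : b2 * a2 = a2 * b2 * z := by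
    rcases hb2 with rfl | rfl
    · exact f22
    · exact mulz _ _ _ f22 rfl
  have e21 : b2 * a1 = a1 * b2 := by
    rcases hb2 with rfl | rfl
    · exact f21
    · exact mulc _ _ _ f21 (hEc _ h2E _ h1E)
  have e23 : b2 * a3 = a3 * b2 := by
    rcases hb2 with rfl | rfl
    · exact f23
    · exact mulc _ _ _ f23 (hEc _ h2E _ h3E)
  have eb12 : b2 * b1 = b1 * b2 := by
    rcases hb2 with rfl | rfl
    · exact c12
    · exact mulc _ _ _ c12 e12.symm
  obtain ⟨w3, c13, hw3⟩ := fixcomm y3 b1 a1 e11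
  have g33 : w3 * a3 = a3 * w3 * z := by
    rcases hw3 with rfl | rfl
    · exact p3
    · exact mulz _ _ _ p3 (hEc _ h1E _ h3E)
  have g31 : w3 * a1 = a1 * w3 := by
    rcases hw3 with rfl | rfl
    · exact q31
    · exact mulc _ _ _ q31 rfl
  have g32 : w3 * a2 = a2 * w3 := by
    rcases hw3 with rfl | rfl
    · exact q32
    · exact mulc _ _ _ q32 (hEc _ h1E _ h2E)
  obtain ⟨v3, c23, hv3⟩ := fixcomm w3 b2 a2 e22
  have k33 : v3 * a3 = a3 * v3 * z := by
    rcases hv3 with rfl | rfl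
    · exact g33
    · exact mulz _ _ _ g33 (hEc _ h2E _ h3E)
  have k31 : v3 * a1 = a1 * v3 := by
    rcases hv3 with rfl | rfl
    · exact g31
    · exact mulc _ _ _ g31 (hEc _ h2E _ h1E)
  have k32 : v3 * a2 = a2 * v3 := by
    rcases hv3 with rfl | rfl
    · exact g32
    · exact mulc _ _ _ g32 rfl
  have k3b1 : v3 * b1 = b1 * v3 := by
    rcases hv3 with rfl | rfl
    · exact c13
    · exact mulc _ _ _ c13 e12.symm
  obtain ⟨b3, t3, hb3⟩ := fixsq v3 a3 k33 s3
  have e33 : b3 * a3 = a3 * b3 * z := by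
    rcases hb3 with rfl | rfl
    · exact k33
    · exact mulz _ _ _ k33 rfl
  have e31 : b3 * a1 = a1 * b3 := by
    rcases hb3 with rfl | rfl
    · exact k31
    · exact mulc _ _ _ k31 (hEc _ h3E _ h1E)
  have e32 : b3 * a2 = a2 * b3 := by
    rcases hb3 with rfl | rfl
    · exact k32
    · exact mulc _ _ _ k32 (hEc _ h3E _ h2E)
  have eb13 : b3 * b1 = b1 * b3 := by
    rcases hb3 with rfl | rfl
    · exact k3b1
    · exact mulc _ _ _ k3b1 e13.symm
  have eb23 : b3 * b2 = b2 * b3 := by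
    rcases hb3 with rfl | rfl
    · exact c23
    · exact mulc _ _ _ c23 e23.symm
  exact Griess.not_isComplement'
    { a1 := a1, a2 := a2, a3 := a3, b1 := b1, b2 := b2, b3 := b3, z := z,
      hz := hzcomm, hz2 := hz2, hz1 := hz1, hbin := hbin,
      s1 := s1, s2 := s2, s3 := s3, t1 := t1, t2 := t2, t3 := t3,
      a12 := hEc _ h1E _ h2E, a13 := hEc _ h1E _ h3E, a23 := hEc _ h2E _ h3E,
      b12 := eb12.symm, b13 := eb13.symm, b23 := eb23.symm,
      p11 := e11, p22 := e22, p33 := e33, p12 := e12, p13 := e13, p21 := e21, p23 := e23,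
      p31 := e31, p32 := e32 } L

end Cfsg.Agent.S3085
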