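import Cfsg.Statements.S3086
import Cfsg.Agent.Lib.PGV.Theorem
import Cfsg.Agent.Lib.Components.Layer
import Mathlib.Algebra.Module.ZMod

set_option autoImplicit false
open Cfsg

namespace Cfsg.Agent.S3086

open Cfsg.Agent.PGV

/-- A representation as a homomorphism into the units of the endomorphisms of the abelian group. -/
def toUnits {R G V : Type*} [CommRing R] [Group G] [AddCommGroup V] [Module R V]
    (ρ : Representation R G V) : G →* (Module.End ℤ V)ˣ :=
  MonoidHom.toHomUnits
    { toFun := fun g => (ρ g).toAddMonoidHom.toIntLinearMap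
      map_one' := LinearMap.ext fun v => by simp
      map_mul' := fun g h => LinearMap.ext fun v => by simp }

theorem toUnits_injective {R G V : Type*} [CommRing R] [Group G] [AddCommGroup V] [Module R V]
    {ρ : Representation R G V} (hρ : Function.Injective ρ) : Function.Injective (toUnits ρ) :=
  fun g h hgh => hρ (LinearMap.ext fun v =>
    DFunLike.congr_fun (congrArg Units.val hgh : (toUnits ρ g : Module.End ℤ V) = toUnits ρ h) v)

/-- The P(G,V)-theorem. Let p be a prime, G a finite group acting faithfully and linearly on a finite vector space V over the field with p elements, and A a nontrivial elementary abelian p-subgroup of G such that |A|·|C_V(A)| ≥ |B|·|C_V(B)| for every subgroup B of A. Then A normalizes every component (subnormal quasisimple subgroup) of G. -/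
theorem result {G V : Type*} [Group G] [Finite G] [AddCommGroup V] [Finite V] (p : ℕ) [Fact p.Prime] [Module (ZMod p) V]
    (ρ : Representation (ZMod p) G V) (hρ : Function.Injective ρ)
    (A : Subgroup G) (hA : A ≠ ⊥) (hAel : Cfsg.IsElementaryAbelian p A)
    (hP : ∀ B : Subgroup G, B ≤ A →
      Nat.card ↥B * Nat.card {v : V // ∀ b ∈ B, ρ b v = v} ≤ Nat.card ↥A * Nat.card {v : V // ∀ a ∈ A, ρ a v = v}) :
    ∀ K : Subgroup G, Cfsg.IsComponent K → A ≤ Subgroup.normalizer (K : Set G) := by
  intro K hK
  set f := toUnits ρ with hf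
  have hfi : Function.Injective f := toUnits_injective hρ
  have hV : ∀ v : V, p • v = 0 := fun v => by
    rw [← Nat.cast_smul_eq_nsmul (ZMod p), ZMod.natCast_self, zero_smul]
  have hfix : ∀ B : Subgroup G,
      Nat.card (fixed (B.map f)) = Nat.card {v : V // ∀ b ∈ B, ρ b v = v} := fun B =>
    Nat.card_congr (Equiv.subtypeEquivRight fun v =>
      ⟨fun h b hb => h (f b) ⟨b, hb, rfl⟩, fun h => by rintro _ ⟨b, hb, rfl⟩; exact h b hb⟩)
  have hel : Cfsg.IsElementaryAbelian p (A.map f) := by
    refine ⟨⟨⟨?_⟩⟩, ?_⟩
    · rintro ⟨_, a, ha, rfl⟩ ⟨_, b, hb, rfl⟩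
      exact Subtype.ext (show f a * f b = f b * f a by
        rw [← map_mul, ← map_mul,
          show a * b = b * a from congrArg Subtype.val (hAel.1.is_comm.comm ⟨a, ha⟩ ⟨b, hb⟩)])
    · rintro _ ⟨a, ha, rfl⟩
      rw [← map_pow, hAel.2 a ha, map_one]
  have hbest : Best (A.map f) := by
    intro C hC
    have hle : C.comap f ≤ A := fun g hg => (Subgroup.mem_map_iff_mem hfi).mp (hC hg)
    have hCm : (C.comap f).map f = C :=
      Subgroup.map_comap_eq_self (hC.trans (Subgroup.map_le_range f A))
    have h := hP _ hle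
    rw [← hfix, ← hfix, hCm] at h
    rw [Subgroup.card_map_of_injective hfi]
    rwa [← Subgroup.card_map_of_injective hfi (K := C.comap f), hCm] at h
  have hSep : PGV.Sep (A.map f) (K.map f) := by
    rintro _ ⟨a, ha, rfl⟩ han _ ⟨x, hx, rfl⟩ _ ⟨y, hy, rfl⟩
    rw [← map_inv, ← map_mul, ← map_mul]
    refine Commute.map ?_ f
    have hne : K.map (MulAut.conj a).toMonoidHom ≠ K := fun h => han <| by
      refine Subgroup.le_normalizer_map f (Subgroup.mem_map_of_mem f ?_)
      refine Subgroup.mem_normalizer_fintype fun z hz => ?_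
      rw [SetLike.mem_coe, ← h]
      exact ⟨z, hz, rfl⟩
    have h0 := Components.IsComponent.commutator_eq_bot (Components.IsComponent.conj hK a) hK hne
    rw [Subgroup.commutator_eq_bot_iff_le_centralizer] at h0
    exact (Subgroup.mem_centralizer_iff.mp (h0 ⟨x, hx, rfl⟩) y hy).symm
  have hmain := le_normalizer_of_best hV (Components.IsQuasisimple.map_injective hK.2 hfi) hel hbest hSep
  intro a ha
  have h := hmain (Subgroup.mem_map_of_mem f ha)
  rw [Subgroup.mem_normalizer_iff] at h ⊢
  intro z
  rw [← Subgroup.mem_map_iff_mem hfi, h (f z), ← map_inv, ← map_mul, ← map_mul,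
    Subgroup.mem_map_iff_mem hfi]

end Cfsg.Agent.S3086
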