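import Cfsg.Statements.S3087


set_option autoImplicit false
open Cfsg

namespace Cfsg.Agent.S3087

/-- Let p be a prime, G a finite group acting linearly on a finite vector space V over the field with p elements, W a G-invariant subspace, and A a subgroup of G with |A|·|C_V(A)| ≥ |B|·|C_V(B)| for every subgroup B of A. Then |A|·|C_W(A)| ≥ |B|·|C_W(B)| for every subgroup B of A that contains C_A(W); that is, the image of A in the group induced on W satisfies the same maximality condition. -/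
theorem result {G V : Type*} [Group G] [Finite G] [AddCommGroup V] [Finite V] (p : ℕ) [Fact p.Prime] [Module (ZMod p) V]
    (ρ : Representation (ZMod p) G V) (W : Submodule (ZMod p) V) (hW : ∀ g : G, ∀ w ∈ W, ρ g w ∈ W)
    (A : Subgroup G)
    (hP : ∀ B : Subgroup G, B ≤ A →
      Nat.card ↥B * Nat.card {v : V // ∀ b ∈ B, ρ b v = v} ≤ Nat.card ↥A * Nat.card {v : V // ∀ a ∈ A, ρ a v = v})
    (B : Subgroup G) (hBA : B ≤ A) (hCB : ∀ a ∈ A, (∀ w ∈ W, ρ a w = w) → a ∈ B) :
    Nat.card ↥B * Nat.card {w : W // ∀ b ∈ B, ρ b w = w} ≤ Nat.card ↥A * Nat.card {w : W // ∀ a ∈ A, ρ a w = w} := by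
  classical
  let fx : Subgroup G → AddSubgroup V := fun X =>
    { carrier := {v | ∀ b ∈ X, ρ b v = v}
      zero_mem' := fun b _ => map_zero _
      add_mem' := fun {u w} hu hw b hb => by rw [map_add, hu b hb, hw b hb]
      neg_mem' := fun {u} hu b hb => by rw [map_neg, hu b hb] }
  let S : AddSubgroup V := fx B ⊓ W.toAddSubgroup
  let T : AddSubgroup V := fx A
  let U : AddSubgroup V := fx B
  have hTU : T ≤ U := fun v hv b hb => hv b (hBA hb)
  have hSB : Nat.card {w : W // ∀ b ∈ B, ρ b w = w} = Nat.card S :=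
    Nat.card_congr ⟨fun w => ⟨w.1.1, w.2, w.1.2⟩, fun v => ⟨⟨v.1, v.2.2⟩, v.2.1⟩,
      fun _ => rfl, fun _ => rfl⟩
  have hSA : Nat.card {w : W // ∀ a ∈ A, ρ a w = w} = Nat.card ↥(T ⊓ S) :=
    Nat.card_congr ⟨fun w => ⟨w.1.1, w.2, fun b hb => w.2 b (hBA hb), w.1.2⟩,
      fun v => ⟨⟨v.1, v.2.2.2⟩, v.2.1⟩, fun _ => rfl, fun _ => rfl⟩
  have h := hP B hBA
  change Nat.card B * Nat.card U ≤ Nat.card A * Nat.card T at h
  rw [hSB, hSA]
  have e1 : Nat.card ↥(T ⊓ S) * T.relIndex S = Nat.card S := by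
    rw [← AddSubgroup.inf_relIndex_right T S, ← AddSubgroup.relIndex_bot_left,
      ← AddSubgroup.relIndex_bot_left, AddSubgroup.relIndex_mul_relIndex _ _ _ bot_le inf_le_right]
  have e2 : Nat.card T * T.relIndex U = Nat.card U := by
    rw [← AddSubgroup.relIndex_bot_left, ← AddSubgroup.relIndex_bot_left,
      AddSubgroup.relIndex_mul_relIndex _ _ _ bot_le hTU]
  have e3 : T.relIndex S ≤ T.relIndex U :=
    AddSubgroup.relIndex_le_of_le_right inf_le_left AddSubgroup.index_ne_zero_of_finite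
  have h2 : Nat.card B * T.relIndex U ≤ Nat.card A := by
    refine Nat.le_of_mul_le_mul_right ?_ (Nat.card_pos (α := T))
    calc Nat.card B * T.relIndex U * Nat.card T = Nat.card B * Nat.card U := by rw [← e2]; ring
      _ ≤ Nat.card A * Nat.card T := h
  calc Nat.card B * Nat.card S = Nat.card B * T.relIndex S * Nat.card ↥(T ⊓ S) := by
        rw [← e1]; ring
    _ ≤ Nat.card A * Nat.card ↥(T ⊓ S) :=
        Nat.mul_le_mul_right _ (le_trans (Nat.mul_le_mul_left _ e3) h2)

end Cfsg.Agent.S3087
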