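import Cfsg.Statements.S3103
import Cfsg.Agent.Lib.A8Sub.Linear
import Cfsg.Agent.Lib.PCore.HallHigman
import Cfsg.Agent.Lib.PGroup.Frattini
import Cfsg.Agent.Lib.Coprime.Commutator

set_option autoImplicit false
open Cfsg

namespace Cfsg.Agent.S3103

open Subgroup

/-- Automorphisms of an elementary abelian group of order at most `16` embed into `A₈`. -/
theorem exists_hom_mulAut {V : Type*} [Group V] [Finite V] (hc : IsMulCommutative V)
    (hexp : ∀ v : V, v ^ 2 = 1) (h16 : Nat.card V ≤ 2 ^ 4) :
    ∃ f : MulAut V →* ↥(alternatingGroup (Fin 8)), Function.Injective f := by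
  haveI : Fact (Nat.Prime 2) := ⟨Nat.prime_two⟩
  letI : CommGroup V := { ‹Group V› with mul_comm := hc.is_comm.comm }
  letI : Module (ZMod 2) (Additive V) := AddCommGroup.zmodModule fun v => hexp v
  haveI : Module.Finite (ZMod 2) (Additive V) := Module.Finite.of_finite
  set k := Module.finrank (ZMod 2) (Additive V) with hk
  have hcard : Nat.card (Additive V) = 2 ^ k := by
    rw [Module.natCard_eq_pow_finrank (K := ZMod 2), Nat.card_zmod]
  have hk4 : k ≤ 4 := (Nat.pow_le_pow_iff_right (by norm_num : 1 < 2)).1 (hcard ▸ h16)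
  let E : (Additive V × (Fin (4 - k) → ZMod 2)) ≃ₗ[ZMod 2] (Fin 4 → ZMod 2) :=
    LinearEquiv.ofFinrankEq _ _ (by rw [Module.finrank_prod, Module.finrank_fin_fun, Module.finrank_fin_fun]; omega)
  let lin : MulAut V → (Additive V →ₗ[ZMod 2] Additive V) := fun e =>
    (MonoidHom.toAdditive e.toMonoidHom).toZModLinearMap 2
  have hlin : ∀ (e : MulAut V) (v : Additive V), lin e v = Additive.ofMul (e v.toMul) := fun e v => rfl
  let F : MulAut V →* Module.End (ZMod 2) (Fin 4 → ZMod 2) :=
    { toFun := fun e => E.toLinearMap ∘ₗ (LinearMap.prodMap (lin e) LinearMap.id) ∘ₗ E.symm.toLinearMap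
      map_one' := LinearMap.ext fun x => by
        show E ((lin 1) (E.symm x).1, (E.symm x).2) = x
        rw [hlin]
        exact E.apply_symm_apply x
      map_mul' := fun a b => LinearMap.ext fun x => by
        show E ((lin (a * b)) (E.symm x).1, (E.symm x).2) =
          E ((lin a) (E.symm (E ((lin b) (E.symm x).1, (E.symm x).2))).1,
            (E.symm (E ((lin b) (E.symm x).1, (E.symm x).2))).2)
        rw [E.symm_apply_apply]
        rfl }
  have hF : Function.Injective F := by
    intro a b h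
    refine MulEquiv.ext fun v => ?_
    have h' : E ((lin a) (E.symm (E (Additive.ofMul v, 0))).1, (E.symm (E (Additive.ofMul v, 0))).2) =
        E ((lin b) (E.symm (E (Additive.ofMul v, 0))).1, (E.symm (E (Additive.ofMul v, 0))).2) :=
      DFunLike.congr_fun h (E (Additive.ofMul v, 0))
    rw [E.symm_apply_apply] at h'
    exact congrArg Prod.fst (E.injective h')
  let T : Module.End (ZMod 2) (Fin 4 → ZMod 2) ≃* Matrix (Fin 4) (Fin 4) (ZMod 2) :=
    LinearMap.toMatrixAlgEquiv'.toMulEquiv
  obtain ⟨e⟩ := A8Sub.exists_GL_four_equiv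
  refine ⟨e.toMonoidHom.comp (T.toMonoidHom.comp F).toHomUnits, e.injective.comp fun a b h => hF ?_⟩
  exact T.injective (congrArg Units.val h)

/-- Let X be a finite 2-constrained group with no nontrivial normal subgroup of odd order such that O₂(X) has sectional 2-rank at most 4. Then X/O₂(X) is isomorphic to a subgroup of the alternating group of degree 8. -/
theorem result {X : Type*} [Group X] [Finite X] (hc : Cfsg.IsPConstrained 2 X) (hO : Cfsg.oddCore X = ⊥)
    (h4 : Cfsg.SectionalPRankLE 2 4 ↥(Cfsg.pCore 2 X)) :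
    ∃ f : X ⧸ Cfsg.pCore 2 X →* ↥(alternatingGroup (Fin 8)), Function.Injective f := by
  classical
  haveI : Fact (Nat.Prime 2) := ⟨Nat.prime_two⟩
  set Q := Cfsg.pCore 2 X with hQ
  have hQ2 : IsPGroup 2 Q := PCore.isPGroup_pCore
  have hcen : centralizer (Q : Set X) ≤ Q :=
    (PCore.isPConstrained_of_pPrimeCore_eq_bot_iff hO).1 hc
  haveI hΦn : (frattini Q).Normal := inferInstance
  let V := Q ⧸ frattini Q
  have hVc : IsMulCommutative V :=
    ⟨⟨fun a b => by
      obtain ⟨a, rfl⟩ := QuotientGroup.mk'_surjective _ a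
      obtain ⟨b, rfl⟩ := QuotientGroup.mk'_surjective _ b
      rw [← commutatorElement_eq_one_iff_mul_comm, ← map_commutatorElement]
      exact (QuotientGroup.eq_one_iff _).2 (PGroup.commutator_le_frattini hQ2
        (commutator_mem_commutator (mem_top _) (mem_top _)))⟩⟩
  have hexp : ∀ v : V, v ^ 2 = 1 := by
    intro v
    obtain ⟨a, rfl⟩ := QuotientGroup.mk'_surjective _ v
    rw [← map_pow]
    exact (QuotientGroup.eq_one_iff _).2 (PGroup.pow_mem_frattini hQ2 a)
  have h16 : Nat.card V ≤ 2 ^ 4 := by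
    let e : (⊤ : Subgroup Q) ⧸ (frattini Q).comap (⊤ : Subgroup Q).subtype ≃* V :=
      QuotientGroup.congr _ _ Subgroup.topEquiv (Subgroup.map_comap_eq_self_of_surjective (f := (⊤ : Subgroup Q).subtype)
        (fun q => ⟨⟨q, mem_top q⟩, rfl⟩) _)
    have h := h4 ⊤ ((frattini Q).comap (⊤ : Subgroup Q).subtype) ⊤ ⟨⟨fun a b => Subtype.ext (e.injective (by
      rw [Subgroup.coe_mul, Subgroup.coe_mul, map_mul, map_mul]
      exact hVc.is_comm.comm _ _))⟩⟩ (fun a _ => e.injective (by rw [map_pow, map_one]; exact hexp _))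
    rwa [Subgroup.card_top, Nat.card_congr e.toEquiv] at h
  have hΦinv : ∀ g : X, (frattini Q).map (MulAut.conjNormal g : MulAut Q).toMonoidHom = frattini Q :=
    fun g => Subgroup.characteristic_iff_map_eq.1 inferInstance _
  let act : X →* MulAut V :=
    { toFun := fun g => QuotientGroup.congr _ _ (MulAut.conjNormal g : MulAut Q) (hΦinv g)
      map_one' := MulEquiv.ext fun v => by
        obtain ⟨a, rfl⟩ := QuotientGroup.mk'_surjective _ v
        show (QuotientGroup.mk' _ ((MulAut.conjNormal (1 : X) : MulAut Q) a) : V) = _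
        rw [map_one]; rfl
      map_mul' := fun g h => MulEquiv.ext fun v => by
        obtain ⟨a, rfl⟩ := QuotientGroup.mk'_surjective _ v
        show (QuotientGroup.mk' _ ((MulAut.conjNormal (g * h) : MulAut Q) a) : V) = _
        rw [map_mul]; rfl }
  have hker : act.ker = Q := by
    refine le_antisymm (PCore.le_pCore ?_) fun q hq => ?_
    · intro x
      obtain ⟨k, m, hm, hord⟩ := Nat.exists_eq_pow_mul_and_not_dvd (orderOf_pos x).ne' 2 (by norm_num)
      set y := x ^ 2 ^ k with hy
      have hyker : (y : X) ∈ act.ker := pow_mem x.2 _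
      have hym : (y : X) ^ m = 1 := by
        rw [← Subgroup.coe_pow, hy, ← pow_mul, ← hord, pow_orderOf_eq_one, Subgroup.coe_one]
      have hyodd : (orderOf (y : X)).Coprime 2 :=
        (Nat.Coprime.symm (Nat.prime_two.coprime_iff_not_dvd.2 hm)).coprime_dvd_left
          (orderOf_dvd_of_pow_eq_one hym)
      have hyC : (y : X) ∈ centralizer (Q : Set X) := by
        refine Coprime.le_centralizer_of_frattini (A := zpowers (y : X)) (K := Q)
          (by rw [Subgroup.normalizer_eq_top]; exact le_top) ?_ ?_ (mem_zpowers _)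
        · obtain ⟨j, hj⟩ := IsPGroup.iff_card.1 (hQ2.to_subgroup (frattini Q))
          rw [Nat.card_zpowers, hj]
          exact hyodd.pow_right j
        · intro a ha k hk
          have hak : act a = 1 := zpowers_le.2 hyker ha
          have h1 : (QuotientGroup.mk' (frattini Q) ((MulAut.conjNormal a : MulAut Q) ⟨k, hk⟩) : V) =
              QuotientGroup.mk' (frattini Q) ⟨k, hk⟩ := by
            exact DFunLike.congr_fun hak (QuotientGroup.mk' (frattini Q) ⟨k, hk⟩)
          rw [QuotientGroup.mk'_eq_mk'] at h1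
          obtain ⟨z, hz, hz'⟩ := h1
          have hz'' : a * k * a⁻¹ * (z : X) = k := by simpa using congrArg Subtype.val hz'
          have h2 : a * k * a⁻¹ = k * (z : X)⁻¹ := eq_mul_inv_of_mul_eq hz''
          refine ⟨⟨k, hk⟩ * z⁻¹ * (⟨k, hk⟩ : Q)⁻¹, hΦn.conj_mem _ (inv_mem hz) _, ?_⟩
          simp [h2]
      have hy1 : (y : X) = 1 := by
        obtain ⟨j, hj⟩ := hQ2 ⟨y, hcen hyC⟩
        rw [← orderOf_eq_one_iff]
        exact Nat.eq_one_of_dvd_coprimes (Nat.Coprime.pow_right j hyodd) dvd_rfl
          (orderOf_dvd_of_pow_eq_one (congrArg Subtype.val hj))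
      exact ⟨k, Subtype.ext hy1⟩
    · refine MulEquiv.ext fun v => ?_
      obtain ⟨a, rfl⟩ := QuotientGroup.mk'_surjective _ v
      show (QuotientGroup.mk' _ ((MulAut.conjNormal q : MulAut Q) a) : V) = QuotientGroup.mk' _ a
      have : (MulAut.conjNormal q : MulAut Q) a = ⟨q, hq⟩ * a * (⟨q, hq⟩ : Q)⁻¹ := Subtype.ext rfl
      rw [this, map_mul, map_mul, map_inv, hVc.is_comm.comm (QuotientGroup.mk' _ ⟨q, hq⟩),
        mul_inv_cancel_right]
  obtain ⟨f, hf⟩ := exists_hom_mulAut hVc hexp h16
  have hle : Q ≤ (f.comp act).ker := fun x hx => by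
    rw [MonoidHom.mem_ker, MonoidHom.comp_apply, show act x = 1 from MonoidHom.mem_ker.1 (by rw [hker]; exact hx), map_one]
  refine ⟨QuotientGroup.lift Q (f.comp act) hle, (injective_iff_map_eq_one _).2 fun q h => ?_⟩
  obtain ⟨x, rfl⟩ := QuotientGroup.mk'_surjective Q q
  have hx : act x = 1 := (map_eq_one_iff f hf).1 h
  exact (QuotientGroup.eq_one_iff x).2 (hker ▸ (hx : x ∈ act.ker))

end Cfsg.Agent.S3103
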