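import Cfsg.Statements.S3104
import Cfsg.Agent.S3103
import Cfsg.Agent.Lib.A8Sub.Nonsolvable
import Cfsg.Agent.Lib.A8Sub.RankFive

set_option autoImplicit false
set_option linter.style.haveILetI false
open Cfsg

namespace Cfsg.Agent.S3104

open Equiv

/-- `S₆` inside `A₈`. -/
theorem exists_six_eight : ∃ f : Perm (Fin 6) →* alternatingGroup (Fin 8), Function.Injective f := by
  let sgn : Perm (Fin 6) →* Perm (Fin 2) := MonoidHom.mk'
    (fun σ => if Perm.sign σ = 1 then 1 else Equiv.swap 0 1) fun a b => by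
      rcases Int.units_eq_one_or (Perm.sign a) with ha | ha <;>
        rcases Int.units_eq_one_or (Perm.sign b) with hb | hb <;>
          simp [map_mul, ha, hb]
  let f0 : Perm (Fin 6) →* Perm (Fin 8) := ((finSumFinEquiv (m := 6) (n := 2)).permCongrHom.toMonoidHom).comp
    ((Perm.sumCongrHom (Fin 6) (Fin 2)).comp ((MonoidHom.id _).prod sgn))
  have hmem : ∀ σ, f0 σ ∈ alternatingGroup (Fin 8) := fun σ => by
    rw [Perm.mem_alternatingGroup]
    show Perm.sign ((finSumFinEquiv (m := 6) (n := 2)).permCongr (Equiv.sumCongr σ (sgn σ))) = 1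
    rw [Perm.sign_permCongr, Perm.sign_sumCongr]
    rcases Int.units_eq_one_or (Perm.sign σ) with h | h <;> simp [sgn, h]
  refine ⟨f0.codRestrict _ hmem, fun a b e => ?_⟩
  have e' : f0 a = f0 b := congrArg Subtype.val e
  exact congrArg Prod.fst (Perm.sumCongrHom_injective
    ((finSumFinEquiv (m := 6) (n := 2)).permCongrHom.injective e') : (a, sgn a) = (b, sgn b))

/-- Sectional rank passes to quotients. -/
theorem sectional_quot {X Y : Type*} [Group X] [Group Y] (π : X →* Y) (hπ : Function.Surjective π)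
    {p k : ℕ} (h : SectionalPRankLE p k X) : SectionalPRankLE p k Y := by
  intro H N hN A hA hexp
  haveI := hN
  let r : H.comap π →* H := (π.comp (H.comap π).subtype).codRestrict H fun x => x.2
  let ψ : H.comap π →* H ⧸ N := (QuotientGroup.mk' N).comp r
  have hψ : Function.Surjective ψ := fun q => by
    obtain ⟨⟨y, hy⟩, rfl⟩ := QuotientGroup.mk'_surjective N q
    obtain ⟨x, rfl⟩ := hπ y
    exact ⟨⟨x, hy⟩, rfl⟩
  let e := QuotientGroup.quotientKerEquivOfSurjective ψ hψ
  have hB := h (H.comap π) ψ.ker (A.map e.symm.toMonoidHom)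
    ⟨⟨fun ⟨_, a, ha, rfl⟩ ⟨_, b, hb, rfl⟩ => Subtype.ext (by
      show e.symm a * e.symm b = e.symm b * e.symm a
      rw [← map_mul, ← map_mul, show a * b = b * a from congrArg Subtype.val (hA.is_comm.comm ⟨a, ha⟩ ⟨b, hb⟩)])⟩⟩
    (by rintro _ ⟨a, ha, rfl⟩; rw [← map_pow, hexp a ha, map_one])
  rwa [Subgroup.card_map_of_injective e.symm.injective] at hB

/-- No `S₆` in the radical quotient when the sectional 2-rank is at most 4. -/
theorem not_six {X : Type*} [Group X] [Finite X] (hc : Cfsg.IsPConstrained 2 X) (hO : Cfsg.oddCore X = ⊥)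
    (h4 : Cfsg.SectionalPRankLE 2 4 ↥(Cfsg.pCore 2 X)) (ι : Perm (Fin 6) →* X ⧸ Cfsg.pCore 2 X)
    (hι : Function.Injective ι) : ¬ Cfsg.SectionalPRankLE 2 4 X := by
  haveI : Fact (Nat.Prime 2) := ⟨Nat.prime_two⟩
  intro hsr
  set Q := Cfsg.pCore 2 X with hQ
  have hQ2 : IsPGroup 2 Q := PCore.isPGroup_pCore
  have hcen : Subgroup.centralizer (Q : Set X) ≤ Q := (PCore.isPConstrained_of_pPrimeCore_eq_bot_iff hO).1 hc
  set Φ := (frattini Q).map Q.subtype with hΦ
  haveI : Φ.Normal := inferInstance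
  have hΦQ : Φ ≤ Q := Subgroup.map_subtype_le _
  let π := QuotientGroup.mk' Φ
  let N := Q.map π
  haveI : N.Normal := Subgroup.Normal.map inferInstance _ (QuotientGroup.mk'_surjective Φ)
  have hexp : ∀ v ∈ N, v * v = 1 := by
    rintro _ ⟨x, hx, rfl⟩
    rw [← map_mul]
    exact (QuotientGroup.eq_one_iff _).2 ⟨⟨x, hx⟩ ^ 2, PGroup.pow_mem_frattini hQ2 _, by simp [pow_two]⟩
  have hcommN : ∀ a ∈ N, ∀ b ∈ N, a * b = b * a := fun a ha b hb => congrArg Subtype.val
    (ThreeInvol.comm_of_sq (V := N) (fun v => Subtype.ext (hexp v v.2)) ⟨a, ha⟩ ⟨b, hb⟩)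
  have hfaith : ∀ y : X ⧸ Φ, (∀ v ∈ N, y * v = v * y) → y ∈ N := by
    intro y hy
    obtain ⟨x, rfl⟩ := QuotientGroup.mk'_surjective Φ y
    let C := (Subgroup.centralizer (N : Set (X ⧸ Φ))).comap π
    haveI : C.Normal := Subgroup.Normal.comap inferInstance π
    have hxC : x ∈ C := fun v hv => (hy v hv).symm
    have hC2 : IsPGroup 2 C := by
      intro c
      obtain ⟨k, m, hm, hord⟩ := Nat.exists_eq_pow_mul_and_not_dvd (orderOf_pos c).ne' 2 (by norm_num)
      set d := c ^ 2 ^ k with hd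
      have hdC : π (d : X) ∈ Subgroup.centralizer (N : Set (X ⧸ Φ)) := d.2
      have hdm : (d : X) ^ m = 1 := by
        rw [← Subgroup.coe_pow, hd, ← pow_mul, ← hord, pow_orderOf_eq_one, Subgroup.coe_one]
      have hdodd : (orderOf (d : X)).Coprime 2 :=
        (Nat.Coprime.symm (Nat.prime_two.coprime_iff_not_dvd.2 hm)).coprime_dvd_left (orderOf_dvd_of_pow_eq_one hdm)
      have hdQ : (d : X) ∈ Subgroup.centralizer (Q : Set X) := by
        refine Coprime.le_centralizer_of_frattini (A := Subgroup.zpowers (d : X)) (K := Q)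
          (by rw [Subgroup.normalizer_eq_top]; exact le_top) ?_ ?_ (Subgroup.mem_zpowers _)
        · obtain ⟨j, hj⟩ := IsPGroup.iff_card.1 (hQ2.to_subgroup (frattini Q))
          rw [Nat.card_zpowers, hj]
          exact hdodd.pow_right j
        · intro a ha q hq
          have ha' : π a ∈ Subgroup.centralizer (N : Set (X ⧸ Φ)) := by
            obtain ⟨i, rfl⟩ := Subgroup.mem_zpowers_iff.1 ha
            rw [map_zpow]
            exact zpow_mem hdC i
          have hc1 := Subgroup.mem_centralizer_iff.1 ha' (π q) ⟨q, hq, rfl⟩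
          rw [← map_mul, ← map_mul] at hc1
          obtain ⟨z, hz, hz'⟩ : q⁻¹ * a * q * a⁻¹ ∈ Φ := by
            rw [← QuotientGroup.eq_one_iff]
            show π (q⁻¹ * a * q * a⁻¹) = 1
            rw [show q⁻¹ * a * q * a⁻¹ = q⁻¹ * (a * q) * a⁻¹ by group, map_mul, map_mul, ← hc1,
              map_mul, map_inv, map_inv]
            group
          have hn' : a * q * a⁻¹ * q⁻¹ ∈ Φ := by
            have h1 : q⁻¹ * a * q * a⁻¹ ∈ Φ := ⟨z, hz, hz'⟩
            have h2 := (inferInstance : Φ.Normal).conj_mem _ h1 q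
            simpa [mul_assoc] using h2
          exact hn'
      have hd1 : (d : X) = 1 := by
        obtain ⟨j, hj⟩ := hQ2 ⟨d, hcen hdQ⟩
        rw [← orderOf_eq_one_iff]
        exact Nat.eq_one_of_dvd_coprimes (Nat.Coprime.pow_right j hdodd) dvd_rfl
          (orderOf_dvd_of_pow_eq_one (congrArg Subtype.val hj))
      exact ⟨k, Subtype.ext hd1⟩
    exact ⟨x, PCore.le_pCore hC2 hxC, rfl⟩
  have h16 : Nat.card N ≤ 16 := by
    let g : Q →* N := (π.comp Q.subtype).codRestrict N fun q => ⟨q.1, q.2, rfl⟩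
    have hg : Function.Surjective g := fun v => by
      obtain ⟨x, hx, e⟩ := v.2
      exact ⟨⟨x, hx⟩, Subtype.ext e⟩
    have hcq : ∀ a b : (⊤ : Subgroup N) ⧸ (⊥ : Subgroup (⊤ : Subgroup N)), a * b = b * a := fun a b => by
      obtain ⟨a, rfl⟩ := QuotientGroup.mk'_surjective _ a
      obtain ⟨b, rfl⟩ := QuotientGroup.mk'_surjective _ b
      rw [← map_mul, ← map_mul]
      exact congrArg _ (Subtype.ext (Subtype.ext (hcommN _ a.1.2 _ b.1.2)))
    have hb := sectional_quot g hg h4 ⊤ ⊥ ⊤ ⟨⟨fun a b => Subtype.ext (hcq a.1 b.1)⟩⟩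
      (fun a _ => by
        obtain ⟨a, rfl⟩ := QuotientGroup.mk'_surjective _ a
        rw [← map_pow, show a ^ 2 = 1 from Subtype.ext (Subtype.ext (by
          simp only [pow_two]; exact hexp _ a.1.2)), map_one])
    rwa [Subgroup.card_top, Nat.card_congr (QuotientGroup.quotientBot).toEquiv, Subgroup.card_top] at hb
  let ι' : Perm (Fin 6) →* (X ⧸ Φ) ⧸ N :=
    (QuotientGroup.quotientQuotientEquivQuotient Φ Q hΦQ).symm.toMonoidHom.comp ι
  have hι' : Function.Injective ι' := (QuotientGroup.quotientQuotientEquivQuotient Φ Q hΦQ).symm.injective.comp hι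
  have hN : Nat.card N = 16 := by
    haveI : Fact (Nat.Prime 5) := ⟨by norm_num⟩
    have hN2 : IsPGroup 2 N := hQ2.map π
    obtain ⟨k, hk⟩ := IsPGroup.iff_card.1 hN2
    by_contra hne
    obtain ⟨y, hy⟩ := QuotientGroup.mk_surjective (ι' (Equiv.swap 0 1 * Equiv.swap 1 2 * Equiv.swap 2 3 * Equiv.swap 3 4))
    have hy5 : y ^ 5 ∈ N := by
      rw [← QuotientGroup.eq_one_iff, QuotientGroup.mk_pow, hy, ← map_pow,
        show (Equiv.swap 0 1 * Equiv.swap 1 2 * Equiv.swap 2 3 * Equiv.swap 3 4 : Perm (Fin 6)) ^ 5 = 1 by decide +kernel,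
        map_one]
    set σ : MulAut N := MulAut.conjNormal y with hσ
    have hσ5 : σ ^ 5 = 1 := by
      rw [hσ, ← map_pow]
      exact MulEquiv.ext fun v => Subtype.ext (by
        show y ^ 5 * v * (y ^ 5)⁻¹ = v
        rw [hcommN _ hy5 _ v.2, mul_inv_cancel_right])
    have hmod : Nat.card N ≡ Nat.card (ThreeInvol.fixedSubgroup σ) [MOD 5] := ThreeInvol.card_fixed_modEq_prime hσ5
    have hd := Subgroup.card_subgroup_dvd_card (ThreeInvol.fixedSubgroup σ)
    have heq : Nat.card (ThreeInvol.fixedSubgroup σ) = Nat.card N := by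
      have hk3 : k < 4 := by
        rw [hk] at h16 hne
        have := (Nat.pow_le_pow_iff_right (le_refl 2)).1 (show 2 ^ k ≤ 2 ^ 4 from h16)
        rcases this.lt_or_eq with h | h
        · exact h
        · exact absurd (by rw [h]; norm_num) hne
      rw [hk] at hd hmod ⊢
      have key : ∀ k < 4, ∀ d ∈ List.range (2 ^ k + 1), d ∣ 2 ^ k → 2 ^ k % 5 = d % 5 → d = 2 ^ k := by decide
      exact key k hk3 _ (List.mem_range.2 (Nat.lt_succ_of_le (Nat.le_of_dvd (by positivity) hd))) hd hmod
    have htop := Subgroup.eq_top_of_card_eq _ heq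
    have hyN : y ∈ N := hfaith y fun v hv => by
      have hfix : (⟨v, hv⟩ : N) ∈ ThreeInvol.fixedSubgroup σ := htop ▸ Subgroup.mem_top _
      exact mul_inv_eq_iff_eq_mul.1 (congrArg Subtype.val hfix)
    rw [(QuotientGroup.eq_one_iff y).2 hyN] at hy
    have h1 := hι' (hy.symm.trans (map_one ι').symm)
    revert h1
    decide +kernel
  exact A8Sub.RankFive.not_sectional_four N hN hexp hfaith ι' hι' (sectional_quot π (QuotientGroup.mk'_surjective Φ) hsr)


/-- Let X be a finite nonsolvable 2-constrained group with no nontrivial normal subgroup of odd order such that O₂(X) has sectional 2-rank at most 4, and write Q for X/O₂(X). Then Q is isomorphic to the projective special linear group of dimension 3 over the field with 2 elements, to an alternating group of degree n with 5 ≤ n ≤ 8, to a symmetric group of degree n with 5 ≤ n ≤ 7, or else O₃(Q) has order 3 and Q/O₃(Q) is isomorphic to the alternating or the symmetric group of degree 5 (so Q is the direct product of a group of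 order 3 with the alternating group of degree 5, or an extension of that direct product by a group of order 2). If moreover X itself has sectional 2-rank at most 4, then Q is not isomorphic to the symmetric group of degree 6 or 7 nor to the alternating group of degree 8. -/
theorem result {X : Type*} [Group X] [Finite X] (hns : ¬ Group.IsSolvable X) (hc : Cfsg.IsPConstrained 2 X) (hO : Cfsg.oddCore X = ⊥)
    (h4 : Cfsg.SectionalPRankLE 2 4 ↥(Cfsg.pCore 2 X)) :
    ((∃ (F : Type) (_ : Field F) (_ : Fintype F), Fintype.card F = 2 ∧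
          Nonempty (X ⧸ Cfsg.pCore 2 X ≃* Matrix.ProjectiveSpecialLinearGroup (Fin 3) F)) ∨
        (∃ n : ℕ, 5 ≤ n ∧ n ≤ 8 ∧ Nonempty (X ⧸ Cfsg.pCore 2 X ≃* ↥(alternatingGroup (Fin n)))) ∨
        (∃ n : ℕ, 5 ≤ n ∧ n ≤ 7 ∧ Nonempty (X ⧸ Cfsg.pCore 2 X ≃* Equiv.Perm (Fin n))) ∨
        (Nat.card ↥(Cfsg.pCore 3 (X ⧸ Cfsg.pCore 2 X)) = 3 ∧
          (Nonempty ((X ⧸ Cfsg.pCore 2 X) ⧸ Cfsg.pCore 3 (X ⧸ Cfsg.pCore 2 X) ≃* ↥(alternatingGroup (Fin 5))) ∨
            Nonempty ((X ⧸ Cfsg.pCore 2 X) ⧸ Cfsg.pCore 3 (X ⧸ Cfsg.pCore 2 X) ≃* Equiv.Perm (Fin 5))))) ∧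
      (Cfsg.SectionalPRankLE 2 4 X →
        ¬ (Nonempty (X ⧸ Cfsg.pCore 2 X ≃* Equiv.Perm (Fin 6)) ∨ Nonempty (X ⧸ Cfsg.pCore 2 X ≃* Equiv.Perm (Fin 7)) ∨
            Nonempty (X ⧸ Cfsg.pCore 2 X ≃* ↥(alternatingGroup (Fin 8))))) := by
  haveI : Fact (Nat.Prime 2) := ⟨Nat.prime_two⟩
  obtain ⟨f, hf⟩ := S3103.result hc hO h4
  have hQ2 : IsPGroup 2 (Cfsg.pCore 2 X) := PCore.isPGroup_pCore
  have hnsQ : ¬ Group.IsSolvable (X ⧸ Cfsg.pCore 2 X) := fun h => by
    haveI := h
    haveI := hQ2.isNilpotent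
    exact hns ((Group.isSolvable_iff_subgroup_quotient _).2 ⟨inferInstance, h⟩)
  refine ⟨?_, fun hsr => ?_⟩
  · rcases A8Sub.good_or_core_three f hf hnsQ PCore.pCore_quotient_self_eq_bot with hg | h
    · haveI : Nontrivial (X ⧸ Cfsg.pCore 2 X) := by
        by_contra hn
        rw [not_nontrivial_iff_subsingleton] at hn
        exact hnsQ (Group.isSolvable_of_comm fun a b => Subsingleton.elim _ _)
      obtain ⟨e⟩ := A8Sub.exists_GL_four_equiv
      by_cases h7 : 7 ∣ Nat.card (X ⧸ Cfsg.pCore 2 X)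
      · rcases A8Sub.seven_case hf hg (e.symm.toMonoidHom.comp f) (e.symm.injective.comp hf) h7 with h | h | h
        · exact Or.inr (Or.inl ⟨8, by norm_num, le_rfl, h⟩)
        · exact Or.inr (Or.inl ⟨7, by norm_num, by norm_num, h⟩)
        · obtain ⟨i⟩ := h
          obtain ⟨j⟩ := A8Sub.nonempty_SL_equiv_GL 3
          haveI := A8Sub.isSimpleGroup_GL_three
          haveI : IsSimpleGroup (Matrix.SpecialLinearGroup (Fin 3) (ZMod 2)) := j.isSimpleGroup
          have hz : Subgroup.center (Matrix.SpecialLinearGroup (Fin 3) (ZMod 2)) = ⊥ := by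
            refine (Subgroup.Normal.eq_bot_or_eq_top inferInstance).resolve_right fun htop => ?_
            have hsol : Group.IsSolvable (X ⧸ Cfsg.pCore 2 X) := Group.isSolvable_of_comm fun a b =>
              (i.trans j.symm).injective (by
                rw [map_mul, map_mul]
                exact (Subgroup.mem_center_iff.1 (htop ▸ Subgroup.mem_top _) _))
            exact hnsQ hsol
          exact Or.inl ⟨ZMod 2, inferInstance, inferInstance, by simp,
            ⟨(i.trans j.symm).trans (QuotientGroup.quotientBot.symm.trans (QuotientGroup.quotientMulEquivOfEq hz.symm))⟩⟩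
      · have h5 : 5 ∣ Nat.card (X ⧸ Cfsg.pCore 2 X) := by
          by_contra h5
          refine hnsQ ?_
          have hd := A8Sub.card_dvd f hf
          have hcop : Nat.Coprime (Nat.card (X ⧸ Cfsg.pCore 2 X)) 35 :=
            Nat.Coprime.mul_right ((Nat.Prime.coprime_iff_not_dvd (by norm_num)).2 h5).symm
              ((Nat.Prime.coprime_iff_not_dvd (by norm_num)).2 h7).symm
          have h576 : Nat.card (X ⧸ Cfsg.pCore 2 X) ∣ 2 ^ 6 * 3 ^ 2 :=
            hcop.dvd_of_dvd_mul_right (by norm_num; exact hd)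
          obtain ⟨a, b, ha, hb, hab⟩ := Nat.dvd_mul.1 h576
          obtain ⟨i, -, rfl⟩ := (Nat.dvd_prime_pow Nat.prime_two).1 ha
          obtain ⟨j, -, rfl⟩ := (Nat.dvd_prime_pow Nat.prime_three).1 hb
          exact CharInt.isSolvable_of_card_eq Nat.prime_two Nat.prime_three hab.symm
        rcases A8Sub.five_case hg f hf h5 h7 with h | h | h | h
        · exact Or.inr (Or.inl ⟨5, le_rfl, by norm_num, h⟩)
        · exact Or.inr (Or.inr (Or.inl ⟨5, le_rfl, by norm_num, h⟩))
        · exact Or.inr (Or.inl ⟨6, by norm_num, by norm_num, h⟩)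
        · exact Or.inr (Or.inr (Or.inl ⟨6, by norm_num, by norm_num, h⟩))
    · exact Or.inr (Or.inr (Or.inr h))
  · rintro (⟨⟨e⟩⟩ | ⟨⟨e⟩⟩ | ⟨⟨e⟩⟩)
    · exact not_six hc hO h4 e.symm.toMonoidHom e.symm.injective hsr
    · let g : Equiv.Perm (Fin 7) →* alternatingGroup (Fin 8) := f.comp e.symm.toMonoidHom
      have hg : Function.Injective g := hf.comp e.symm.injective
      haveI : IsSimpleGroup (alternatingGroup (Fin 8)) := alternatingGroup.isSimpleGroup (by simp)
      have hc8 : Nat.card (alternatingGroup (Fin 8)) = 20160 := by rw [nat_card_alternatingGroup, Nat.card_fin]; rfl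
      have hcr : Nat.card g.range = 5040 := by
        rw [← Nat.card_congr (MonoidHom.ofInjective hg).toEquiv, Nat.card_perm, Nat.card_fin]; rfl
      have hidx : g.range.index = 4 := by
        have := g.range.card_mul_index
        rw [hcr, hc8] at this
        omega
      have hcore : g.range.normalCore = ⊥ := by
        refine (Subgroup.normalCore_normal g.range).eq_bot_or_eq_top.resolve_right fun h => ?_
        have := Subgroup.card_le_of_le (h.ge.trans (Subgroup.normalCore_le g.range))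
        rw [Subgroup.card_top, hcr, hc8] at this
        omega
      obtain ⟨s, hs⟩ := A8Sub.exists_embed_of_core_bot g.range (m := 3) hidx hcore
      have := Subgroup.card_dvd_of_injective s hs
      rw [hcr, Nat.card_perm, Nat.card_fin] at this
      exact absurd this (by decide)
    · obtain ⟨g, hg⟩ := exists_six_eight
      exact not_six hc hO h4 (e.symm.toMonoidHom.comp g) (e.symm.injective.comp hg) hsr

end Cfsg.Agent.S3104
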