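import Cfsg.Statements.S3105
import Cfsg.Agent.Lib.L32Radical.Main
import Cfsg.Agent.S3104
-- import your own Cfsg.Agent.* helpers here

set_option autoImplicit false
set_option linter.style.haveILetI false
open Cfsg

namespace Cfsg.Agent.S3105

/-- `PSL₃` over a field of two elements is `GL₃(2)`. -/
theorem psl_equiv {F : Type*} [Field F] [Fintype F] (hF : Fintype.card F = 2) :
    Nonempty (Matrix.ProjectiveSpecialLinearGroup (Fin 3) F ≃* GL (Fin 3) (ZMod 2)) := by
  have hc : Subgroup.center (Matrix.SpecialLinearGroup (Fin 3) F) = ⊥ := by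
    refine (Subgroup.eq_bot_iff_card _).2 ?_
    rw [GL.card_center_SL, hF]
    rfl
  let e : Matrix.ProjectiveSpecialLinearGroup (Fin 3) F ≃* Matrix.SpecialLinearGroup (Fin 3) F :=
    (QuotientGroup.quotientMulEquivOfEq hc).trans QuotientGroup.quotientBot
  haveI : Finite (Matrix.ProjectiveSpecialLinearGroup (Fin 3) F) := Finite.of_equiv _ e.symm.toEquiv
  haveI := GL.PSL_isSimpleGroup (F := F) 3 (by norm_num) (by norm_num)
  refine A8Sub.iso_GL_three ?_
  rw [Nat.card_congr e.toEquiv]
  have h1 := GL.card_GL_eq_SL_mul_units (ι := Fin 3) (R := F)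
  rw [GL.card_units_field, hF, show 2 - 1 = 1 from rfl, mul_one] at h1
  rw [← h1, GL.card_GL 3 (Fintype.card_fin 3), hF, Fin.prod_univ_three]
  decide

/-- Let X be a finite nonsolvable 2-constrained group with no nontrivial normal subgroup of odd order and of sectional 2-rank at most 4, and suppose X/O₂(X) is isomorphic to the projective special linear group of dimension 3 over the field with 2 elements. Then O₂(X) is elementary abelian of order 8 or 16, or is isomorphic to the direct product of a cyclic group of order 4 and an elementary abelian group of order 8. -/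
theorem result {X : Type*} [Group X] [Finite X] (hns : ¬ Group.IsSolvable X) (hc : Cfsg.IsPConstrained 2 X) (hO : Cfsg.oddCore X = ⊥)
    (h4 : Cfsg.SectionalPRankLE 2 4 X) {F : Type*} [Field F] [Fintype F] (hF : Fintype.card F = 2)
    (hQ : Nonempty (X ⧸ Cfsg.pCore 2 X ≃* Matrix.ProjectiveSpecialLinearGroup (Fin 3) F)) :
    (Cfsg.IsElementaryAbelian 2 (Cfsg.pCore 2 X) ∧ (Nat.card ↥(Cfsg.pCore 2 X) = 8 ∨ Nat.card ↥(Cfsg.pCore 2 X) = 16)) ∨
      Nonempty (↥(Cfsg.pCore 2 X) ≃* Multiplicative (ZMod 4) × (Fin 3 → Multiplicative (ZMod 2))) := by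
  haveI : Fact (Nat.Prime 2) := ⟨Nat.prime_two⟩
  obtain ⟨eQ⟩ := hQ
  obtain ⟨eG⟩ := psl_equiv hF
  let φ : X →* GL (Fin 3) (ZMod 2) := (eQ.trans eG).toMonoidHom.comp (QuotientGroup.mk' (Cfsg.pCore 2 X))
  have hC : L32Radical.Ctx (Cfsg.pCore 2 X) φ :=
    { surj := (eQ.trans eG).surjective.comp (QuotientGroup.mk'_surjective _)
      ker := by
        ext x
        rw [MonoidHom.mem_ker]
        show (eQ.trans eG) (QuotientGroup.mk' (Cfsg.pCore 2 X) x) = 1 ↔ _
        rw [map_eq_one_iff _ (eQ.trans eG).injective]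
        exact QuotientGroup.eq_one_iff x
      two := PCore.isPGroup_pCore
      rank := h4 }
  rcases hC.radical_structure ((PCore.isPConstrained_of_pPrimeCore_eq_bot_iff hO).1 hc) with ⟨hexp, hcard⟩ | he
  · exact Or.inl ⟨⟨⟨⟨fun a b => Subtype.ext (A5Radical.comm_of_exp hexp a.2 b.2)⟩⟩,
      fun a ha => by rw [pow_two]; exact hexp a ha⟩, hcard⟩
  · exact Or.inr he

end Cfsg.Agent.S3105
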