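import Cfsg.Statements.S3106
import Cfsg.Agent.Lib.A5Radical.Main
import Cfsg.Agent.S3104
-- import your own Cfsg.Agent.* helpers here

set_option autoImplicit false
set_option linter.style.haveILetI false
open Cfsg

namespace Cfsg.Agent.S3106

/-- Let X be a finite nonsolvable 2-constrained group with no nontrivial normal subgroup of odd order and of sectional 2-rank at most 4, and suppose X/O₂(X) contains a subgroup isomorphic to the alternating group of degree 5. Then O₂(X) is elementary abelian of order 16, or O₂(X) is a central product of a quaternion group of order 8 and a dihedral group of order 8 (it has order 32 and is generated by two elementwise-commuting subgroups, one quaternion of order 8 and one dihedral of order 8, meeting in the centre). -/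
theorem result {X : Type*} [Group X] [Finite X] (hns : ¬ Group.IsSolvable X) (hc : Cfsg.IsPConstrained 2 X) (hO : Cfsg.oddCore X = ⊥)
    (h4 : Cfsg.SectionalPRankLE 2 4 X)
    (hQ : ∃ A : Subgroup (X ⧸ Cfsg.pCore 2 X), Nonempty (↥A ≃* ↥(alternatingGroup (Fin 5)))) :
    (Cfsg.IsElementaryAbelian 2 (Cfsg.pCore 2 X) ∧ Nat.card ↥(Cfsg.pCore 2 X) = 16) ∨
      (Nat.card ↥(Cfsg.pCore 2 X) = 32 ∧ ∃ A B : Subgroup ↥(Cfsg.pCore 2 X),
        Nonempty (↥A ≃* QuaternionGroup 2) ∧ Nonempty (↥B ≃* DihedralGroup 4) ∧ (∀ a ∈ A, ∀ b ∈ B, a * b = b * a) ∧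
          A ⊔ B = ⊤ ∧ A ⊓ B = Subgroup.center ↥(Cfsg.pCore 2 X)) := by
  haveI : Fact (Nat.Prime 2) := ⟨Nat.prime_two⟩
  obtain ⟨A, ⟨eA⟩⟩ := hQ
  have hQ2 : IsPGroup 2 (Cfsg.pCore 2 X) := PCore.isPGroup_pCore
  have hcen : Subgroup.centralizer ((Cfsg.pCore 2 X : Subgroup X) : Set X) ≤ Cfsg.pCore 2 X :=
    (PCore.isPConstrained_of_pPrimeCore_eq_bot_iff hO).1 hc
  let Y : Subgroup X := A.comap (QuotientGroup.mk' (Cfsg.pCore 2 X))
  have hle : Cfsg.pCore 2 X ≤ Y := fun x hx => by
    show (QuotientGroup.mk x : X ⧸ Cfsg.pCore 2 X) ∈ A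
    rw [(QuotientGroup.eq_one_iff x).2 hx]
    exact one_mem _
  let Q : Subgroup Y := (Cfsg.pCore 2 X).subgroupOf Y
  let ι : Q ≃* Cfsg.pCore 2 X := Subgroup.subgroupOfEquivOfLe hle
  let r : Y →* A := ((QuotientGroup.mk' (Cfsg.pCore 2 X)).comp Y.subtype).codRestrict A fun y => y.2
  have hr : Function.Surjective r := fun ⟨a, ha⟩ => by
    obtain ⟨x, rfl⟩ := QuotientGroup.mk'_surjective _ a
    exact ⟨⟨x, ha⟩, rfl⟩
  let φ : Y →* alternatingGroup (Fin 5) := eA.toMonoidHom.comp r
  have hC : A5Radical.Ctx Q φ :=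
    { surj := eA.surjective.comp hr
      ker := by
        ext y
        rw [MonoidHom.mem_ker, Subgroup.mem_subgroupOf]
        show eA (r y) = 1 ↔ _
        rw [map_eq_one_iff eA eA.injective, Subtype.ext_iff]
        exact QuotientGroup.eq_one_iff _
      two := hQ2.of_equiv ι.symm
      cent := fun y hy => hcen fun q hq => congrArg Subtype.val (hy ⟨q, hle hq⟩ hq)
      rank := by
        intro H N hN B hB hexp
        haveI := hN
        let r : H.map Y.subtype ≃* H := (H.equivMapOfInjective Y.subtype Y.subtype_injective).symm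
        let e := QuotientGroup.congr (N.comap r.toMonoidHom) N r
          (Subgroup.map_comap_eq_self_of_surjective r.surjective N)
        have := h4 (H.map Y.subtype) (N.comap r.toMonoidHom) (B.map e.symm.toMonoidHom)
          ⟨⟨fun ⟨_, a, ha, rfl⟩ ⟨_, b, hb, rfl⟩ => Subtype.ext (by
            show e.symm a * e.symm b = e.symm b * e.symm a
            rw [← map_mul, ← map_mul,
              show a * b = b * a from congrArg Subtype.val (hB.is_comm.comm ⟨a, ha⟩ ⟨b, hb⟩)])⟩⟩
          (by rintro _ ⟨a, ha, rfl⟩; rw [← map_pow, hexp a ha, map_one])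
        exact (Nat.card_congr (B.equivMapOfInjective e.symm.toMonoidHom e.symm.injective).toEquiv).trans_le this }
  rcases hC.radical_structure with ⟨hE, h16⟩ | ⟨h32, B1, B2, ⟨e1⟩, ⟨e2⟩, hcomm, hsup, hinf⟩
  · left
    refine ⟨⟨⟨⟨fun a b => ι.symm.injective (by
      rw [map_mul, map_mul]; exact hE.1.is_comm.comm _ _)⟩⟩, fun a ha => ?_⟩, ?_⟩
    · have h2 := hE.2 ⟨a, hle ha⟩ ha
      exact congrArg Subtype.val h2
    · rw [← h16]; exact Nat.card_congr ι.symm.toEquiv
  · right
    refine ⟨(Nat.card_congr ι.symm.toEquiv).trans h32, B1.map ι.toMonoidHom, B2.map ι.toMonoidHom,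
      ⟨(B1.equivMapOfInjective ι.toMonoidHom ι.injective).symm.trans e1⟩,
      ⟨(B2.equivMapOfInjective ι.toMonoidHom ι.injective).symm.trans e2⟩, ?_, ?_, ?_⟩
    · rintro _ ⟨a, ha, rfl⟩ _ ⟨b, hb, rfl⟩
      rw [← map_mul, ← map_mul, hcomm a ha b hb]
    · rw [← Subgroup.map_sup, hsup, Subgroup.map_top_of_surjective _ ι.surjective]
    · rw [← Subgroup.map_inf _ _ _ ι.injective, hinf]
      ext w
      constructor
      · rintro ⟨v, hv, rfl⟩
        refine Subgroup.mem_center_iff.2 fun c => ?_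
        obtain ⟨c, rfl⟩ := ι.surjective c
        show ι c * ι v = ι v * ι c
        rw [← map_mul, ← map_mul, Subgroup.mem_center_iff.1 hv c]
      · intro hw
        refine ⟨ι.symm w, Subgroup.mem_center_iff.2 fun c => ι.injective ?_, ι.apply_symm_apply w⟩
        rw [map_mul, map_mul, ι.apply_symm_apply]
        exact Subgroup.mem_center_iff.1 hw (ι c)

end Cfsg.Agent.S3106
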