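import Cfsg.Statements.S3117
import Cfsg.Agent.Lib.ThreeInvol.Reduce

set_option autoImplicit false
open Cfsg

namespace Cfsg.Agent.S3117

/-- If X is a finite 2-group containing exactly three involutions, then the automorphism group of X is solvable. -/
theorem result {X : Type*} [Group X] [Finite X] (h2 : IsPGroup 2 X) (h3 : Nat.card {x : X // orderOf x = 2} = 3) : Group.IsSolvable (MulAut X) := by
  classical
  refine ThreeInvol.solvable_aut h2 ?_
  refine le_trans (Nat.card_le_card_of_injective (fun x : {x : X // x * x = 1} =>
    if h : x.1 = 1 then (none : Option {x : X // orderOf x = 2})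
    else some ⟨x.1, orderOf_eq_prime (by rw [pow_two]; exact x.2) h⟩) ?_) ?_
  · rintro ⟨x, hx⟩ ⟨y, hy⟩ e
    by_cases h : x = 1 <;> by_cases h' : y = 1 <;> simp_all
  · rw [Finite.card_option, h3]

end Cfsg.Agent.S3117
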