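import Cfsg.Statements.S3153
import Cfsg.Agent.Lib.StdSub.Pairs
import Cfsg.Agent.Lib.Components.Quasisimple
import Cfsg.Agent.Lib.Coprime.Basic
import Cfsg.Agent.Lib.PCore.Basic
-- import your own Cfsg.Agent.* helpers here

set_option autoImplicit false
open Cfsg
open scoped commutatorElement

namespace Cfsg.Agent.S3153

/-- Let X be a finite group and P a standard subgroup of X whose centralizer has 2-rank at most 1 and whose centre has odd order. Let S be a Sylow 2-subgroup of N_X(P) and t an involution of S centralizing P. Suppose some element g of X normalizes S, does not lie in S, has its square in S, and conjugates t into P·C_X(P). Then P commutes elementwise with the largest normal odd-order subgroup O(X) of X; consequently every t-invariant 2-component of X containing P is quasisimple. -/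
theorem result {X : Type*} [Group X] [Finite X] (P : Subgroup X) (hP : Cfsg.IsStandardSubgroup P)
    (hr : Cfsg.PRankLE 2 1 ↥(Subgroup.centralizer (P : Set X))) (hZ : Odd (Nat.card ↥(Subgroup.center ↥P)))
    (S : Sylow 2 ↥(Subgroup.normalizer (P : Set X))) (t : X) (ht : orderOf t = 2) (htS : t ∈ (S : Subgroup ↥(Subgroup.normalizer (P : Set X))).map (Subgroup.normalizer (P : Set X)).subtype)
    (htP : t ∈ Subgroup.centralizer (P : Set X))
    (g : X) (hgN : ∀ s ∈ (S : Subgroup ↥(Subgroup.normalizer (P : Set X))).map (Subgroup.normalizer (P : Set X)).subtype, g * s * g⁻¹ ∈ (S : Subgroup ↥(Subgroup.normalizer (P : Set X))).map (Subgroup.normalizer (P : Set X)).subtype)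
    (hgS : g ∉ (S : Subgroup ↥(Subgroup.normalizer (P : Set X))).map (Subgroup.normalizer (P : Set X)).subtype) (hg2 : g ^ 2 ∈ (S : Subgroup ↥(Subgroup.normalizer (P : Set X))).map (Subgroup.normalizer (P : Set X)).subtype)
    (hgt : g * t * g⁻¹ ∈ P ⊔ Subgroup.centralizer (P : Set X)) :
    ⁅P, Cfsg.oddCore X⁆ = ⊥ ∧
      ∀ L : Subgroup X, Cfsg.IsPComponent 2 L → P ≤ L → (∀ l ∈ L, t * l * t⁻¹ ∈ L) → Cfsg.IsQuasisimple ↥L := by
  haveI : Fact (Nat.Prime 2) := ⟨Nat.prime_two⟩
  let T := (S : Subgroup ↥(Subgroup.normalizer (P : Set X))).map (Subgroup.normalizer (P : Set X)).subtype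
  have hT2 : IsPGroup 2 T := S.2.map _
  have htt : t * t = 1 := Cfsg.Agent.Invol.mul_self_of_orderOf_two ht
  -- `t` is central in `T`
  have hTN : T ≤ Subgroup.normalizer (P : Set X) := Subgroup.map_subtype_le _
  have htc : ∀ x ∈ T, Commute x t := by
    intro x hx
    have hxC : x * t * x⁻¹ ∈ Subgroup.centralizer (P : Set X) := by
      rw [Subgroup.mem_centralizer_iff]
      intro a ha
      have h1 : x⁻¹ * a * x ∈ P := by
        simpa using (Subgroup.mem_normalizer_iff.mp (inv_mem (hTN hx)) a).mp ha
      have h2 := Subgroup.mem_centralizer_iff.mp htP _ h1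
      calc a * (x * t * x⁻¹) = x * ((x⁻¹ * a * x) * t) * x⁻¹ := by group
        _ = x * (t * (x⁻¹ * a * x)) * x⁻¹ := by rw [h2]
        _ = x * t * x⁻¹ * a := by group
    have := StdSub.eq_of_involutions_of_rank (Q := T ⊓ Subgroup.centralizer (P : Set X)) hr
      inf_le_right (hT2.to_le inf_le_left)
      (z := x * t * x⁻¹) (by rw [Cfsg.Agent.Invol.orderOf_conj_eq]; exact ht) ht
      ⟨T.mul_mem (T.mul_mem hx htS) (T.inv_mem hx), hxC⟩ ⟨htS, htP⟩
    exact mul_inv_eq_iff_eq_mul.mp this
  let s := g * t * g⁻¹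
  have hsT : s ∈ T := hgN t htS
  have hts : Commute t s := (htc s hsT).symm
  have hs : orderOf s = 2 := by rw [Cfsg.Agent.Invol.orderOf_conj_eq]; exact ht
  have hss : s * s = 1 := Cfsg.Agent.Invol.mul_self_of_orderOf_two hs
  have hne : s ≠ t := by
    intro h
    have hgC : g ∈ Subgroup.centralizer ({t} : Set X) :=
      Subgroup.mem_centralizer_singleton_iff.mpr (mul_inv_eq_iff_eq_mul.mp h)
    have hgP : g ∈ Subgroup.normalizer (P : Set X) := StdSub.centralizer_le_normalizer hP ht htP hgC
    let N := Subgroup.normalizer (P : Set X)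
    let g' : N := ⟨g, hgP⟩
    have hTmem : ∀ {y : N}, (y : X) ∈ T → y ∈ (S : Subgroup N) := by
      rintro y ⟨z, hz, hzy⟩
      rwa [← Subtype.ext hzy]
    have hnorm : Subgroup.zpowers g' ≤ Subgroup.normalizer ((S : Subgroup N) : Set N) := by
      rw [Subgroup.zpowers_le]
      refine Subgroup.mem_normalizer_iff''.mpr fun y => ?_
      have hbij : ∀ z ∈ (S : Subgroup N), g' * z * g'⁻¹ ∈ (S : Subgroup N) := fun z hz =>
        hTmem (hgN z ⟨z, hz, rfl⟩)
      have hg'2 : g' * g' ∈ (S : Subgroup N) := hTmem (by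
        rw [← pow_two] at *
        exact hg2)
      constructor
      · intro hy
        have := mul_mem (mul_mem (inv_mem hg'2) (hbij y hy)) hg'2
        rwa [show (g' * g')⁻¹ * (g' * y * g'⁻¹) * (g' * g') = g'⁻¹ * y * g' by group] at this
      · intro hy
        have := hbij _ hy
        rwa [show g' * (g'⁻¹ * y * g') * g'⁻¹ = y by group] at this
    have hg2' : ∃ k, g' ^ (2 ^ k) = 1 := by
      obtain ⟨k, hk⟩ := hT2 ⟨g ^ 2, hg2⟩
      refine ⟨k + 1, Subtype.ext ?_⟩
      have hk' : (g ^ 2) ^ (2 ^ k) = 1 := congrArg Subtype.val hk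
      show g ^ (2 ^ (k + 1)) = 1
      rw [pow_succ', pow_mul, hk']
    obtain ⟨k, hk⟩ := hg2'
    have hz : IsPGroup 2 (Subgroup.zpowers g') := IsPGroup.of_card_dvd_pow (n := k) (by
      rw [Nat.card_zpowers]; exact orderOf_dvd_of_pow_eq_one hk)
    have := S.3 (hz.to_sup_of_normal_right' S.2 hnorm) le_sup_right
    refine hgS ⟨g', ?_, rfl⟩
    have hmem : g' ∈ Subgroup.zpowers g' ⊔ (S : Subgroup N) :=
      Subgroup.mem_sup_left (Subgroup.mem_zpowers g')
    rwa [this] at hmem
  -- `s = p` or `s = t p` with an involution `p` of `P`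
  have hCN : Subgroup.centralizer (P : Set X) ≤ Subgroup.normalizer (P : Set X) :=
    Subgroup.centralizer_le_normalizer _
  obtain ⟨p0, hp0, c0, hc0, hpc⟩ : ∃ p ∈ P, ∃ c ∈ Subgroup.centralizer (P : Set X), s = p * c := by
    have h := hgt
    rw [sup_comm] at h
    obtain ⟨c, hc, p, hp, h⟩ := (Cfsg.Agent.Coprime.mem_sup_iff_of_le_normalizer hCN).mp h
    exact ⟨p, hp, c, hc, by rw [← Subgroup.mem_centralizer_iff.mp hc p hp] at h; exact h.symm⟩
  have hpc0 : Commute p0 c0 := Subgroup.mem_centralizer_iff.mp hc0 p0 hp0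
  have hsq : p0 * p0 * (c0 * c0) = 1 := by
    rw [hpc0.mul_mul_mul_comm, ← hpc, hss]
  have hzC : p0 * p0 ∈ Subgroup.centralizer (P : Set X) := by
    rw [show p0 * p0 = (c0 * c0)⁻¹ from eq_inv_of_mul_eq_one_left hsq]
    exact inv_mem (mul_mem hc0 hc0)
  have hzodd : Odd (orderOf (p0 * p0)) := by
    have hmem : (⟨p0 * p0, mul_mem hp0 hp0⟩ : P) ∈ Subgroup.center P :=
      Subgroup.mem_center_iff.mpr fun y =>
        Subtype.ext (Subgroup.mem_centralizer_iff.mp hzC y y.2)
    have := StdSub.odd_orderOf_of_mem hZ hmem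
    rwa [Subgroup.orderOf_mk] at this
  let w := Cfsg.Agent.Involution.Isolated.oddRoot (p0 * p0)
  have hw2 : w * w = p0 * p0 := Cfsg.Agent.Involution.Isolated.oddRoot_mul_self hzodd
  have hwP : w ∈ P := pow_mem (mul_mem hp0 hp0) _
  have hwC : w ∈ Subgroup.centralizer (P : Set X) := pow_mem hzC _
  let p := p0 * w⁻¹
  let c := w * c0
  have hpP : p ∈ P := mul_mem hp0 (inv_mem hwP)
  have hcC : c ∈ Subgroup.centralizer (P : Set X) := mul_mem hwC hc0
  have hspc : s = p * c := by simp only [p, c]; rw [hpc]; group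
  have hpcc : Commute p c := Subgroup.mem_centralizer_iff.mp hcC p hpP
  have hp2 : p * p = 1 := by
    have hcomm : Commute p0 w⁻¹ :=
      (show Commute p0 w from Subgroup.mem_centralizer_iff.mp hwC p0 hp0).inv_right
    calc p * p = (p0 * p0) * (w⁻¹ * w⁻¹) := hcomm.symm.mul_mul_mul_comm _ _
      _ = 1 := by rw [← mul_inv_rev, hw2, mul_inv_cancel]
  have hc2 : c * c = 1 := by
    have : (p * p) * (c * c) = 1 := by rw [hpcc.mul_mul_mul_comm, ← hspc, hss]
    rwa [hp2, one_mul] at this
  have htp : Commute t p := (Subgroup.mem_centralizer_iff.mp htP p hpP).symm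
  have htc' : Commute t c := by
    have : Commute t (p⁻¹ * s) := htp.inv_right.mul_right hts
    rwa [hspc, inv_mul_cancel_left] at this
  have hct : c = 1 ∨ c = t := by
    by_cases h : c = 1
    · exact Or.inl h
    · exact Or.inr (StdSub.eq_of_commuting_involutions_of_rank hr
        (Cfsg.Agent.Invol.orderOf_two_of_mul_self hc2 h) ht hcC htP htc'.symm)
  have hp1 : p ≠ 1 := by
    intro h
    rcases hct with hc | hc
    · exact Cfsg.Agent.Invol.ne_one_of_orderOf_two hs (by rw [hspc, h, hc, one_mul])
    · exact hne (by rw [hspc, h, hc, one_mul])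
  have hpord : orderOf p = 2 := Cfsg.Agent.Invol.orderOf_two_of_mul_self hp2 hp1
  have hpnC : p ∉ Subgroup.centralizer (P : Set X) := by
    intro h
    have hmem : (⟨p, hpP⟩ : P) ∈ Subgroup.center P :=
      Subgroup.mem_center_iff.mpr fun y => Subtype.ext (Subgroup.mem_centralizer_iff.mp h y y.2)
    exact Cfsg.Agent.Invol.not_mem_of_odd hZ (t := (⟨p, hpP⟩ : P))
      (by rw [Subgroup.orderOf_mk]; exact hpord) hmem
  -- action on the odd core
  let O := Cfsg.oddCore X
  haveI : O.Normal := Cfsg.Agent.PCore.pPrimeCore_normal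
  have hOodd : Odd (Nat.card O) := Cfsg.Agent.PCore.odd_card_oddCore
  have hPO : ¬ P ≤ O := fun h => Cfsg.Agent.Invol.not_mem_of_odd hOodd hpord (h hpP)
  have hD : ∀ x ∈ O, Commute x t → x ∈ Subgroup.centralizer (P : Set X) := fun x hx hxt =>
    StdSub.le_centralizer_of_le_normal hP.1 (D := O ⊓ Subgroup.centralizer ({t} : Set X))
      inf_le_left (inf_le_right.trans (StdSub.centralizer_le_normalizer hP ht htP)) hPO
      ⟨hx, Subgroup.mem_centralizer_singleton_iff.mpr hxt⟩
  have hiff : ∀ x ∈ O, Commute x t ↔ Commute x s := StdSub.commute_iff_of_conj (N := O) (g := g)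
    fun x hx hxt => by
      have h1 : Commute x p := (Subgroup.mem_centralizer_iff.mp (hD x hx hxt) p hpP).symm
      show Commute x s
      rw [hspc]
      rcases hct with hc | hc <;> rw [hc]
      · rw [mul_one]; exact h1
      · exact h1.mul_right hxt
  have hcj : ∀ u : X, u * u = 1 → ∀ x : X, u * x * u = x ↔ Commute x u := by
    intro u hu x
    constructor
    · intro h
      calc x * u = u * x * u * u := by rw [h]
        _ = u * x := by rw [mul_assoc, hu, mul_one]
    · intro h
      rw [mul_assoc, h.eq, ← mul_assoc, hu, one_mul]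
  have hconj : ∀ u : X, u * u = 1 → ∀ x ∈ O, u * x * u ∈ O := fun u hu x hx => by
    have := (inferInstance : O.Normal).conj_mem x hx u
    rwa [inv_eq_of_mul_eq_one_right hu] at this
  have hts_cent : t * s ∈ Subgroup.centralizer (O : Set X) :=
    Subgroup.mem_centralizer_iff.mpr fun x hx =>
      (StdSub.commute_mul_of_same_fixed hOodd htt hss hts (hconj t htt) (hconj s hss)
        (fun y hy => by rw [hcj t htt y, hcj s hss y]; exact hiff y hy) x hx).symm
  have hPcent : P ≤ Subgroup.centralizer (O : Set X) := by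
    rcases hct with hc | hc
    · -- `t * p` centralises `O`
      have hsp : s = p := by rw [hspc, hc, mul_one]
      by_contra hPC
      have hle : P ⊓ Subgroup.centralizer (O : Set X) ≤ Subgroup.centralizer (P : Set X) :=
        StdSub.le_centralizer_of_le_normal hP.1 inf_le_right
          (inf_le_left.trans Subgroup.le_normalizer) hPC
      have hcomm : ⁅Subgroup.zpowers p, P⁆ ≤ P ⊓ Subgroup.centralizer (P : Set X) := by
        rw [Subgroup.commutator_le]
        rintro _ ⟨k, rfl⟩ y hy
        refine ⟨?_, hle ⟨?_, ?_⟩⟩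
        · exact (commutatorElement_def (p ^ k) y).symm ▸
            P.mul_mem (P.mul_mem (P.mul_mem (P.zpow_mem hpP k) hy) (P.inv_mem (P.zpow_mem hpP k))) (P.inv_mem hy)
        · exact (commutatorElement_def (p ^ k) y).symm ▸
            P.mul_mem (P.mul_mem (P.mul_mem (P.zpow_mem hpP k) hy) (P.inv_mem (P.zpow_mem hpP k))) (P.inv_mem hy)
        · have htpc : t * p ∈ Subgroup.centralizer (O : Set X) := hsp ▸ hts_cent
          have hk : ⁅(t * p) ^ k, y⁆ = ⁅p ^ k, y⁆ := by
            have hty0 : Commute t y := (Subgroup.mem_centralizer_iff.mp htP y hy).symm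
            have hty : Commute (t ^ k) y := hty0.zpow_left k
            have htpk : Commute (t ^ k) (p ^ k) := htp.zpow_zpow k k
            rw [htp.mul_zpow, commutatorElement_def, commutatorElement_def, mul_inv_rev]
            calc t ^ k * p ^ k * y * ((p ^ k)⁻¹ * (t ^ k)⁻¹) * y⁻¹
                = t ^ k * (p ^ k * y * (p ^ k)⁻¹) * (t ^ k)⁻¹ * y⁻¹ := by group
              _ = p ^ k * y * (p ^ k)⁻¹ * y⁻¹ := by
                  rw [((htpk.mul_right hty).mul_right htpk.inv_right).eq, mul_inv_cancel_right]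
          have hN : (Subgroup.centralizer (O : Set X)).Normal := inferInstance
          rw [← hk, commutatorElement_def,
            show (t * p) ^ k * y * ((t * p) ^ k)⁻¹ * y⁻¹
              = (t * p) ^ k * (y * ((t * p) ^ k)⁻¹ * y⁻¹) by group]
          exact mul_mem (zpow_mem htpc k) (hN.conj_mem _ (inv_mem (zpow_mem htpc k)) y)
      have h3 : ⁅⁅Subgroup.zpowers p, P⁆, P⁆ = ⊥ := by
        rw [Subgroup.commutator_eq_bot_iff_le_centralizer]
        exact hcomm.trans inf_le_right
      have h4 : ⁅P, Subgroup.zpowers p⁆ = ⊥ :=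
        Components.commutator_eq_bot_of_commutator_commutator hP.1.1 h3
      rw [Subgroup.commutator_comm, Subgroup.commutator_eq_bot_iff_le_centralizer] at h4
      exact hpnC (h4 (Subgroup.mem_zpowers p))
    · have : t * s = p := by
        rw [hspc, hc, ← mul_assoc, htp.eq, mul_assoc, htt, mul_one]
      exact StdSub.le_centralizer_of_mem hP.1 O hpP hpnC (this ▸ hts_cent)
  have hPO' : ⁅P, O⁆ = ⊥ := Subgroup.commutator_eq_bot_iff_le_centralizer.mpr hPcent
  refine ⟨hPO', ?_⟩
  intro L hL hPL _
  obtain ⟨hLs, hLc, hLmin⟩ := hL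
  let q := QuotientGroup.mk' O
  change Cfsg.IsComponent (L.map q) at hLc
  have hq : Cfsg.IsQuasisimple (L.map q) := hLc.2
  haveI : Group.IsPerfect (L.map q) := hq.1
  -- normal subgroups of `L` either map onto the image of `L` or are central modulo `O`
  have hnorm : ∀ M : Subgroup X, M ≤ L → L ≤ Subgroup.normalizer (M : Set X) →
      M = L ∨ ⁅M, L⁆ ≤ O := by
    intro M hML hLM
    have hn : L.map q ≤ Subgroup.normalizer ((M.map q : Subgroup (X ⧸ O)) : Set (X ⧸ O)) :=
      (Subgroup.map_mono hLM).trans (M.le_normalizer_map q)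
    rcases Components.IsQuasisimple.eq_or_commutator_eq_bot hq (Subgroup.map_mono hML) hn with h | h
    · exact Or.inl (hLmin M (Components.isSubnormal_of_normalized hLs hML hLM) hML h)
    · right
      rw [Subgroup.commutator_comm, ← Subgroup.map_commutator, Subgroup.map_eq_bot_iff] at h
      rwa [QuotientGroup.ker_mk'] at h
  have hC : L ≤ Subgroup.centralizer (O : Set X) := by
    rcases hnorm (L ⊓ Subgroup.centralizer (O : Set X)) inf_le_left (by
      intro x hx
      rw [Subgroup.mem_normalizer_iff]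
      intro y
      simp only [Subgroup.mem_inf]
      rw [Subgroup.mul_mem_cancel_right _ (inv_mem hx), Subgroup.mul_mem_cancel_left _ hx]
      refine and_congr_right fun _ => ?_
      exact ⟨fun h => (inferInstance : (Subgroup.centralizer (O : Set X)).Normal).conj_mem y h x,
        fun h => by simpa [mul_assoc] using
          (inferInstance : (Subgroup.centralizer (O : Set X)).Normal).conj_mem _ h x⁻¹⟩) with h | h
    · exact h ▸ inf_le_right
    · exfalso
      apply hPO
      have hPP : ⁅P, P⁆ = P := Components.IsQuasisimple.commutator_self hP.1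
      rw [← hPP]
      exact (Subgroup.commutator_mono (le_inf hPL hPcent) hPL).trans h
  haveI hLperf : Group.IsPerfect L := by
    refine Subgroup.isPerfect_iff.mpr (hLmin _ (Components.isSubnormal_commutator_self hLs)
      L.commutator_le_self ?_)
    exact (Subgroup.map_commutator L L q).trans (L.map q).commutator_eq_self
  haveI : Nontrivial L := by
    rw [Subgroup.nontrivial_iff_ne_bot]
    intro h
    exact Components.IsQuasisimple.ne_bot hq (by rw [h, Subgroup.map_bot])
  refine Components.isQuasisimple_of_normal_central fun M hM => ?_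
  rcases hnorm (M.map L.subtype) (Subgroup.map_subtype_le M) (by
    refine le_trans ?_ (M.le_normalizer_map L.subtype)
    rw [Subgroup.normalizer_eq_top, ← MonoidHom.range_eq_map, Subgroup.range_subtype]) with h | h
  · left
    rw [← Subgroup.map_subtype_inj, h, ← MonoidHom.range_eq_map, Subgroup.range_subtype]
  · right
    have h2 : ⁅⁅M.map L.subtype, L⁆, L⁆ = ⊥ := by
      rw [eq_bot_iff]
      refine le_trans (Subgroup.commutator_mono h hC) (le_of_eq ?_)
      rw [Subgroup.commutator_comm, Subgroup.commutator_eq_bot_iff_le_centralizer]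
    have h3 := Components.commutator_eq_bot_of_commutator_commutator hLperf h2
    rw [Subgroup.commutator_comm] at h3
    intro m hm
    rw [Subgroup.mem_center_iff]
    intro y
    exact Subtype.ext (Subgroup.mem_centralizer_iff.mp
      (Subgroup.commutator_eq_bot_iff_le_centralizer.mp h3 ⟨m, hm, rfl⟩) y y.2)

end Cfsg.Agent.S3153
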