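import Cfsg.Statements.S3154
import Cfsg.Agent.Lib.L34Cover.Cover

set_option autoImplicit false
set_option linter.style.haveILetI false
open Cfsg

namespace Cfsg.Agent.S3154

open Cfsg.Agent.L34Cover SylL34

/-- `PSL₃` of a field with four elements is the model. -/
theorem exists_equiv {F : Type*} [Field F] [Fintype F] (hF : Fintype.card F = 4) :
    Nonempty (Matrix.ProjectiveSpecialLinearGroup (Fin 3) F ≃* G) := by
  obtain ⟨e⟩ : Nonempty (F ≃+* F4) := ⟨FiniteField.ringEquivOfCardEq (by rw [hF, card_F4])⟩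
  let f : Matrix.SpecialLinearGroup (Fin 3) F ≃* S3 :=
    { Matrix.SpecialLinearGroup.map (e : F →+* F4) with
      invFun := Matrix.SpecialLinearGroup.map (e.symm : F4 →+* F)
      left_inv := fun g => Subtype.ext (Matrix.ext fun i j => e.symm_apply_apply _)
      right_inv := fun g => Subtype.ext (Matrix.ext fun i j => e.apply_symm_apply _) }
  exact ⟨QuotientGroup.congr (Subgroup.center (Matrix.SpecialLinearGroup (Fin 3) F)) (Subgroup.center S3) f (L34Cover.map_center f)⟩

/-- A subgroup of `K` of order 4 meeting `H` trivially. -/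
theorem exists_small {X : Type*} [Group X] (H K : Subgroup X)
    (hK2 : ∀ k ∈ K, k * k = 1) (hcard : 3 ≤ (H.subgroupOf K).index) :
    ∃ W : Subgroup X, W ≤ K ∧ W ⊓ H = ⊥ ∧ 4 ≤ Nat.card W := by
  have hcm : ∀ a ∈ K, ∀ b ∈ K, a * b = b * a := fun a ha b hb => by
    have h := hK2 _ (mul_mem ha hb)
    calc a * b = (a * b)⁻¹ := (inv_eq_of_mul_eq_one_right h).symm
      _ = b * a := by rw [mul_inv_rev, inv_eq_of_mul_eq_one_right (hK2 a ha), inv_eq_of_mul_eq_one_right (hK2 b hb)]
  haveI : Finite (K ⧸ H.subgroupOf K) := (Nat.card_ne_zero.1 (by rw [← Subgroup.index_eq_card]; omega)).2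
  obtain ⟨a, ha⟩ : ∃ a : K, (QuotientGroup.mk a : K ⧸ H.subgroupOf K) ≠ QuotientGroup.mk 1 := by
    by_contra hc
    push Not at hc
    haveI : Subsingleton (K ⧸ H.subgroupOf K) := ⟨fun p q => by
      induction p using QuotientGroup.induction_on with
      | H p => induction q using QuotientGroup.induction_on with
        | H q => rw [hc p, hc q]⟩
    rw [Subgroup.index_eq_card, Nat.card_of_subsingleton (QuotientGroup.mk 1)] at hcard
    omega
  obtain ⟨b, hb1, hb2⟩ : ∃ b : K, (QuotientGroup.mk b : K ⧸ H.subgroupOf K) ≠ QuotientGroup.mk 1 ∧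
      (QuotientGroup.mk b : K ⧸ H.subgroupOf K) ≠ QuotientGroup.mk a := by
    by_contra hc
    push Not at hc
    have hle : Nat.card (K ⧸ H.subgroupOf K) ≤ 2 := by
      refine le_trans (Nat.card_le_card_of_surjective (fun t : Bool => if t then QuotientGroup.mk a else QuotientGroup.mk 1) ?_)
        (by simp)
      intro q
      induction q using QuotientGroup.induction_on with
      | H q =>
        by_cases h : (QuotientGroup.mk q : K ⧸ H.subgroupOf K) = QuotientGroup.mk 1
        · exact ⟨false, h.symm⟩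
        · exact ⟨true, (hc q h).symm⟩
    rw [Subgroup.index_eq_card] at hcard
    omega
  have hnot : ∀ g : K, (QuotientGroup.mk g : K ⧸ H.subgroupOf K) ≠ QuotientGroup.mk 1 → (g : X) ∉ H := fun g hg hm =>
    hg (QuotientGroup.eq.2 (by simpa [Subgroup.mem_subgroupOf] using hm))
  have hna := hnot a ha
  have hnb := hnot b hb1
  have hnab : (a : X) * b ∉ H := fun hm => hb2 (QuotientGroup.eq.2 (by
    rw [Subgroup.mem_subgroupOf, Subgroup.coe_mul, Subgroup.coe_inv, inv_eq_of_mul_eq_one_right (hK2 b b.2),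
      hcm b b.2 a a.2]
    exact hm))
  let f : Bool × Bool → X := fun p => (if p.1 then (a : X) else 1) * (if p.2 then (b : X) else 1)
  have hfK : ∀ p, f p ∈ K := fun p => mul_mem (by split_ifs <;> simp [one_mem]) (by split_ifs <;> simp [one_mem])
  have hfm : ∀ p q, f p * f q = f (xor p.1 q.1, xor p.2 q.2) := by
    rintro ⟨x, y⟩ ⟨z, w⟩
    have hsq : ∀ (c : X), c * c = 1 → ∀ i j : Bool,
        (if i then c else 1) * (if j then c else 1) = (if xor i j then c else 1) := by
      intro c hc i j
      cases i <;> cases j <;> simp [hc]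
    have hz : (if z then (a : X) else 1) ∈ K := by split_ifs <;> simp [one_mem]
    have hy : (if y then (b : X) else 1) ∈ K := by split_ifs <;> simp [one_mem]
    show _ * _ * (_ * _) = _ * _
    rw [← hsq _ (hK2 a a.2) x z, ← hsq _ (hK2 b b.2) y w]
    simp only [mul_assoc]
    congr 1
    rw [← mul_assoc, hcm _ hy _ hz, mul_assoc]
  have hf1 : ∀ p, f p ∈ H → p = (false, false) := by
    rintro ⟨x, y⟩ h
    cases x <;> cases y <;> simp [f] at h ⊢
    exacts [hnb h, hna h, hnab h]
  let W : Subgroup X :=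
    { carrier := Set.range f
      one_mem' := ⟨(false, false), by simp [f]⟩
      mul_mem' := by rintro _ _ ⟨p, rfl⟩ ⟨q, rfl⟩; exact ⟨_, (hfm p q).symm⟩
      inv_mem' := by
        rintro _ ⟨p, rfl⟩
        exact ⟨p, (inv_eq_of_mul_eq_one_right (hK2 _ (hfK p))).symm⟩ }
  refine ⟨W, by rintro _ ⟨p, rfl⟩; exact hfK p, ?_, ?_⟩
  · rw [Subgroup.eq_bot_iff_forall]
    rintro _ ⟨⟨p, rfl⟩, h⟩
    rw [hf1 p h]
    simp [f]
  · have hfinj : Function.Injective f := fun p q e => by
      have h2 : f p * f q = 1 := by rw [e]; exact hK2 _ (hfK q)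
      rw [hfm] at h2
      have h3 := hf1 _ (h2 ▸ one_mem H)
      simp only [Prod.mk.injEq, bne_eq_false_iff_eq] at h3
      exact Prod.ext h3.1 h3.2
    rw [← SetLike.coe_sort_coe, show ((W : Subgroup X) : Set X) = Set.range f from rfl,
      Nat.card_congr (Equiv.ofInjective f hfinj).symm]
    simp


/-- Let X be a finite quasisimple group whose centre is an elementary abelian 2-group and whose central quotient is isomorphic to the projective special linear group of dimension 3 over the field with 4 elements. Let T be a Sylow 2-subgroup of X and H ≠ K subgroups of T containing the centre Z(X) whose images in X/Z(X) are elementary abelian of order 16 (the two such subgroups of a Sylow 2-subgroup of the quotient). Then H and K are elementary abelian, H ∩ K is the centre of the subgroup they generate, and each of N_X(H), N_X(K) is a split extension of H, respectively K, by the projective special linear group of dimension 2 over the field with 4 elements (there is a complement isomorphic to that group).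 -/
theorem result {X : Type*} [Group X] [Finite X] (hq : Cfsg.IsQuasisimple X) (hZ : Cfsg.IsElementaryAbelian 2 (Subgroup.center X))
    {F : Type*} [Field F] [Fintype F] (hF : Fintype.card F = 4) (hXL : Nonempty ((X ⧸ Subgroup.center X) ≃* Matrix.ProjectiveSpecialLinearGroup (Fin 3) F))
    (T : Sylow 2 X) (H K : Subgroup X) (hHK : H ≠ K) (hHT : H ≤ T) (hKT : K ≤ T) (hZH : Subgroup.center X ≤ H) (hZK : Subgroup.center X ≤ K)
    (hH : Cfsg.IsElementaryAbelian 2 (H.map (QuotientGroup.mk' (Subgroup.center X))) ∧ Nat.card ↥(H.map (QuotientGroup.mk' (Subgroup.center X))) = 16)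
    (hK : Cfsg.IsElementaryAbelian 2 (K.map (QuotientGroup.mk' (Subgroup.center X))) ∧ Nat.card ↥(K.map (QuotientGroup.mk' (Subgroup.center X))) = 16) :
    Cfsg.IsElementaryAbelian 2 H ∧ Cfsg.IsElementaryAbelian 2 K ∧
      H ⊓ K = (Subgroup.center ↥(H ⊔ K)).map (H ⊔ K).subtype ∧
      (∃ C : Subgroup X, C ≤ Subgroup.normalizer (H : Set X) ∧ C ⊓ H = ⊥ ∧ H ⊔ C = Subgroup.normalizer (H : Set X) ∧
        Nonempty (↥C ≃* Matrix.ProjectiveSpecialLinearGroup (Fin 2) F)) ∧
      (∃ C : Subgroup X, C ≤ Subgroup.normalizer (K : Set X) ∧ C ⊓ K = ⊥ ∧ K ⊔ C = Subgroup.normalizer (K : Set X) ∧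
        Nonempty (↥C ≃* Matrix.ProjectiveSpecialLinearGroup (Fin 2) F)) := by
  haveI : Fact (Nat.Prime 2) := ⟨Nat.prime_two⟩
  obtain ⟨e0⟩ := hXL
  obtain ⟨e1⟩ := exists_equiv hF
  -- a projection onto the model taking `T` to `U`
  obtain ⟨SU, hSU⟩ := exists_sylow
  set π := QuotientGroup.mk' (Subgroup.center X) with hπ
  set P0 : X →* G := (e0.trans e1).toMonoidHom.comp π with hP0
  have hP0s : Function.Surjective P0 := (e0.trans e1).surjective.comp (QuotientGroup.mk'_surjective _)
  obtain ⟨g, hg⟩ := MulAction.exists_smul_eq G (T.mapSurjective hP0s) SU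
  let P : X →* G := (MulAut.conj g).toMonoidHom.comp P0
  have hPs : Function.Surjective P := (MulAut.conj g).surjective.comp hP0s
  have hker : P.ker = Subgroup.center X := by
    ext x
    rw [MonoidHom.mem_ker]
    show MulAut.conj g ((e0.trans e1) (π x)) = 1 ↔ _
    rw [(MulAut.conj g).map_eq_one_iff, (e0.trans e1).map_eq_one_iff]
    exact QuotientGroup.eq_one_iff x
  have hT : (T : Subgroup X).map P = L34Cover.U := by
    have h := congrArg (fun S : Sylow 2 G => (S : Subgroup G)) hg
    simp only [Sylow.coe_subgroup_smul, Sylow.coe_mapSurjective, hSU] at h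
    rw [← h, ← Subgroup.map_map]
    rfl
  -- the images of the two subgroups
  have himg : ∀ L : Subgroup X, L ≤ T → Subgroup.center X ≤ L →
      (Cfsg.IsElementaryAbelian 2 (L.map π) ∧ Nat.card ↥(L.map π) = 16) →
      (L.map P = Arow ∨ L.map P = Acol) ∧ L = (L.map P).comap P := by
    intro L hLT hZL hL
    refine ⟨classify _ (hT ▸ Subgroup.map_mono hLT) ?_ ?_, ?_⟩
    · rintro _ ⟨l, hl, rfl⟩
      have h := hL.1.2 _ (Subgroup.mem_map_of_mem π hl)
      rw [← map_pow, pow_two] at h
      rw [← map_mul, ← MonoidHom.mem_ker, hker, ← QuotientGroup.eq_one_iff]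
      exact h
    · have e : L.map P = (L.map π).map ((MulAut.conj g).toMonoidHom.comp (e0.trans e1).toMonoidHom) := by
        rw [Subgroup.map_map]; rfl
      rw [e, Subgroup.card_map_of_injective]
      · exact hL.2
      · exact (MulAut.conj g).injective.comp (e0.trans e1).injective
    · rw [Subgroup.comap_map_eq, hker, sup_eq_left.2 hZL]
  obtain ⟨hA, hHeq⟩ := himg H hHT hZH hH
  obtain ⟨hB, hKeq⟩ := himg K hKT hZK hK
  have hAB : H.map P ≠ K.map P := fun h => hHK (by rw [hHeq, hKeq, h])
  obtain ⟨hsup, hinf, hcent, hnormA⟩ := pairFacts hA hB hAB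
  obtain ⟨hsup', hinf', -, hnormB⟩ := pairFacts hB hA (Ne.symm hAB)
  have hZc : P.ker ≤ Subgroup.center X := hker.le
  have hZ2 : ∀ z ∈ P.ker, z * z = 1 := fun z hz => by
    rw [← pow_two]; exact hZ.2 z (hker ▸ hz)
  -- a projection in normal form for each of them
  have hnormal : ∀ L : Subgroup X, (L.map P = Arow ∨ L.map P = Acol) → L = (L.map P).comap P →
      ∃ Q : X →* G, Function.Surjective Q ∧ Q.ker = P.ker ∧ L = Arow.comap Q := by
    intro L hL hLeq
    rcases hL with h | h
    · exact ⟨P, hPs, rfl, by rw [hLeq, h]⟩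
    · refine ⟨thetaBar.toMonoidHom.comp P, thetaBar.surjective.comp hPs, ?_, ?_⟩
      · ext x
        simp [MonoidHom.mem_ker]
      · conv_lhs => rw [hLeq, h]
        ext x
        show P x ∈ Acol ↔ thetaBar.toMonoidHom (P x) ∈ Arow
        rw [← map_thetaBar_Acol]
        exact (Subgroup.mem_map_iff_mem thetaBar.injective).symm
  have hel : ∀ L : Subgroup X, (L.map P = Arow ∨ L.map P = Acol) → L = (L.map P).comap P →
      ∀ l ∈ L, l * l = 1 := by
    intro L hL hLeq l hl
    obtain ⟨Q, hQ, hQk, hLQ⟩ := hnormal L hL hLeq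
    exact L34Cover.sq_eq_one Q hQ (hQk ▸ hZc) (hQk ▸ hZ2) l (hLQ ▸ hl)
  have helem : ∀ L : Subgroup X, (∀ l ∈ L, l * l = 1) → Cfsg.IsElementaryAbelian 2 L := fun L hL =>
    ⟨⟨⟨fun a b => Subtype.ext (by
      have h := hL _ (mul_mem a.2 b.2)
      calc (a : X) * b = ((a : X) * b)⁻¹ := (inv_eq_of_mul_eq_one_right h).symm
        _ = b * a := by rw [mul_inv_rev, inv_eq_of_mul_eq_one_right (hL a a.2), inv_eq_of_mul_eq_one_right (hL b b.2)])⟩⟩,
      fun a ha => by rw [pow_two]; exact hL a ha⟩
  have hH2 := hel H hA hHeq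
  have hK2 := hel K hB hKeq
  have hHe := helem H hH2
  have hKe := helem K hK2
  have hsupX : (H ⊔ K).map P = L34Cover.U := by rw [Subgroup.map_sup, hsup]
  refine ⟨hHe, hKe, ?_, ?_, ?_⟩
  · -- the centre of the subgroup they generate
    refine le_antisymm (fun x hx => ?_) ?_
    · refine ⟨⟨x, Subgroup.mem_sup_left hx.1⟩, ?_, rfl⟩
      refine Subgroup.mem_center_iff.2 fun y => Subtype.ext ?_
      have hle : H ⊔ K ≤ Subgroup.centralizer {x} := sup_le
        (fun h hh => Subgroup.mem_centralizer_singleton_iff.2 (congrArg Subtype.val (hHe.1.is_comm.comm ⟨h, hh⟩ ⟨x, hx.1⟩)))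
        (fun k hk => Subgroup.mem_centralizer_singleton_iff.2 (congrArg Subtype.val (hKe.1.is_comm.comm ⟨k, hk⟩ ⟨x, hx.2⟩)))
      exact Subgroup.mem_centralizer_singleton_iff.1 (hle y.2)
    · rintro _ ⟨x, hx, rfl⟩
      have hc := fun (y : X) (hy : y ∈ H ⊔ K) => congrArg Subtype.val (Subgroup.mem_center_iff.1 hx ⟨y, hy⟩)
      have hxU : P x.1 ∈ L34Cover.U := hsupX ▸ Subgroup.mem_map_of_mem P x.2
      have hm := hcent (P x.1) hxU
        (by rintro _ ⟨h, hh, rfl⟩; rw [← map_mul, ← map_mul]; exact congrArg P (hc h (Subgroup.mem_sup_left hh)).symm)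
        (by rintro _ ⟨k, hk, rfl⟩; rw [← map_mul, ← map_mul]; exact congrArg P (hc k (Subgroup.mem_sup_right hk)).symm)
      exact ⟨(SetLike.ext_iff.1 hHeq _).2 hm.1, (SetLike.ext_iff.1 hKeq _).2 hm.2⟩
  all_goals
    have hsplit : ∀ (L M : Subgroup X), (L.map P = Arow ∨ L.map P = Acol) → L = (L.map P).comap P →
        (∀ l ∈ L, l * l = 1) → (∀ l ∈ M, l * l = 1) → M = (M.map P).comap P → L.map P ⊔ M.map P = L34Cover.U →
        Nat.card (L.map P ⊓ M.map P : Subgroup G) = 4 →
        (∀ t ∈ L34Cover.U, ∀ a ∈ L.map P, t * a * t⁻¹ ∈ L.map P) → Nat.card (M.map P) = 16 →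
        ∃ C : Subgroup X, C ≤ Subgroup.normalizer (L : Set X) ∧ C ⊓ L = ⊥ ∧ L ⊔ C = Subgroup.normalizer (L : Set X) ∧
          Nonempty (↥C ≃* Matrix.ProjectiveSpecialLinearGroup (Fin 2) F) := by
      intro L M hL hLeq hL2 hM2 hMeq hLM hcap hnorm hM16
      have hidx : (L.subgroupOf M).index = 4 := by
        let r : M →* M.map P := P.subgroupMap M
        have hr : Function.Surjective r := P.subgroupMap_surjective M
        have e : L.subgroupOf M = ((L.map P).subgroupOf (M.map P)).comap r := by
          ext m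
          simp only [Subgroup.mem_subgroupOf, Subgroup.mem_comap]
          exact Iff.of_eq (congrArg (fun S : Subgroup X => (m : X) ∈ S) hLeq)
        rw [e, Subgroup.index_comap_of_surjective _ hr]
        have h := ((L.map P).subgroupOf (M.map P)).card_mul_index
        rw [← Subgroup.inf_subgroupOf_right, Nat.card_congr (Subgroup.subgroupOfEquivOfLe inf_le_right).toEquiv,
          hcap, hM16] at h
        rw [← Subgroup.inf_subgroupOf_right]
        omega
      obtain ⟨W, hWM, hWd, hW4⟩ := exists_small L M hM2 (by omega)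
      have hnLM : M ≤ Subgroup.normalizer (L : Set X) := by
        intro m hm
        have hmU : P m ∈ L34Cover.U := hLM ▸ Subgroup.mem_sup_right (Subgroup.mem_map_of_mem P hm)
        have key : ∀ m : X, P m ∈ L34Cover.U → ∀ l ∈ L, m * l * m⁻¹ ∈ L := fun m hm l hl => by
          rw [hLeq, Subgroup.mem_comap, map_mul, map_mul, map_inv]
          exact hnorm _ hm _ (Subgroup.mem_map_of_mem P hl)
        rw [Subgroup.mem_normalizer_iff]
        refine fun l => ⟨key m hmU l, fun h => ?_⟩
        have := key m⁻¹ (by rw [map_inv]; exact inv_mem hmU) _ h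
        simpa [mul_assoc] using this
      have hLW : L ⊔ W = (L34Cover.U).comap P := by
        have hle : L ⊔ W ≤ (L34Cover.U).comap P := by
          rw [← Subgroup.map_le_iff_le_comap, Subgroup.map_sup, ← hLM]
          exact sup_le_sup le_rfl (Subgroup.map_mono hWM)
        refine Subgroup.eq_of_le_of_card_ge hle ?_
        -- order count
        have hcomap : ∀ S : Subgroup G, Nat.card (S.comap P) = Nat.card P.ker * Nat.card S := by
          intro S
          have h1 := (S.comap P).card_mul_index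
          have h2 := S.card_mul_index
          have h3 := P.ker.card_mul_index
          rw [Subgroup.index_comap_of_surjective _ hPs] at h1
          rw [Subgroup.index_ker, MonoidHom.range_eq_top_of_surjective P hPs, Subgroup.card_top, ← h2] at h3
          rw [← h3, ← mul_assoc] at h1
          exact Nat.eq_of_mul_eq_mul_right (Nat.pos_of_ne_zero Subgroup.index_ne_zero_of_finite) h1
        have hLc : Nat.card L = Nat.card P.ker * 16 := by
          conv_lhs => rw [hLeq]
          rw [hcomap]
          rcases hL with h | h <;> rw [h] <;> simp [card_Arow, card_Acol]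
        rw [hcomap, card_U]
        let f : L × W → (L ⊔ W : Subgroup X) := fun p => ⟨p.1.1 * p.2.1, Subgroup.mul_mem_sup p.1.2 p.2.2⟩
        have hf : Function.Injective f := fun p q h => by
          have h' : p.1.1 * p.2.1 = q.1.1 * q.2.1 := congrArg Subtype.val h
          have hq : q.1.1⁻¹ * p.1.1 = q.2.1 * p.2.1⁻¹ := by
            rw [eq_mul_inv_iff_mul_eq, mul_assoc, h', inv_mul_cancel_left]
          have hb : q.1.1⁻¹ * p.1.1 ∈ W ⊓ L :=
            ⟨hq ▸ W.mul_mem q.2.2 (W.inv_mem p.2.2), L.mul_mem (L.inv_mem q.1.2) p.1.2⟩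
          rw [hWd, Subgroup.mem_bot, inv_mul_eq_one] at hb
          rw [hb] at h'
          exact Prod.ext (Subtype.ext hb.symm) (Subtype.ext (mul_left_cancel h'))
        have hc := Nat.card_le_card_of_injective f hf
        rw [Nat.card_prod, hLc] at hc
        calc Nat.card P.ker * 64 = Nat.card P.ker * 16 * 4 := by ring
          _ ≤ Nat.card P.ker * 16 * Nat.card W := Nat.mul_le_mul_left _ hW4
          _ ≤ _ := hc
      have hodd : ¬ 2 ∣ (L ⊔ W).index := by
        rw [hLW, Subgroup.index_comap_of_surjective _ hPs, ← hSU]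
        exact SU.not_dvd_index
      obtain ⟨Q, hQ, hQk, hLQ⟩ := hnormal L hL hLeq
      rw [hLQ] at hodd hWd ⊢
      exact L34Cover.exists_complement Q hQ hF (fun l hl => hL2 l (hLQ ▸ hl)) W
        (hLQ ▸ hWM.trans hnLM) hWd hodd
  · exact hsplit H K hA hHeq hH2 hK2 hKeq hsup hinf hnormA (by rcases hB with h | h <;> rw [h] <;> simp [card_Arow, card_Acol])
  · exact hsplit K H hB hKeq hK2 hH2 hHeq hsup' hinf' hnormB (by rcases hA with h | h <;> rw [h] <;> simp [card_Arow, card_Acol])

end Cfsg.Agent.S3154
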