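import Cfsg.Statements.S3155
import Mathlib.LinearAlgebra.Determinant
import Mathlib.LinearAlgebra.FreeModule.Finite.Basic
import Mathlib.LinearAlgebra.Dimension.Constructions
import Mathlib.Algebra.Module.ZMod
import Mathlib.Data.ZMod.Basic
import Mathlib.Tactic.NormNum
-- import your own Cfsg.Agent.* helpers here

set_option autoImplicit false
open Cfsg

namespace Cfsg.Agent.S3155

/-- Let B be the direct product of three cyclic groups of order 4. Then the automorphism of B inverting every element is not the square of any automorphism of B. -/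
theorem result {B : Type*} [CommGroup B] [Finite B] (hB : Nonempty (B ≃* Multiplicative (ZMod 4 × ZMod 4 × ZMod 4)))
    (τ : B ≃* B) : τ.trans τ ≠ MulEquiv.inv B := by
  intro h
  obtain ⟨e⟩ := hB
  let M := ZMod 4 × ZMod 4 × ZMod 4
  let σ : M →+ M := AddMonoidHom.mk' (fun v => Multiplicative.toAdd (e (τ (e.symm (Multiplicative.ofAdd v)))))
    (fun a b => by simp [map_mul])
  let f : M →ₗ[ZMod 4] M := σ.toZModLinearMap 4
  have hf : f ∘ₗ f = (-1 : ZMod 4) • LinearMap.id := by
    refine LinearMap.ext fun v => ?_
    have := DFunLike.congr_fun h (e.symm (Multiplicative.ofAdd v))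
    simp only [MulEquiv.trans_apply, MulEquiv.inv_apply] at this
    show Multiplicative.toAdd (e (τ (e.symm (Multiplicative.ofAdd
      (Multiplicative.toAdd (e (τ (e.symm (Multiplicative.ofAdd v))))))))) = (-1 : ZMod 4) • v
    rw [ofAdd_toAdd, MulEquiv.symm_apply_apply, this, map_inv, MulEquiv.apply_symm_apply,
      toAdd_inv, toAdd_ofAdd, neg_one_smul]
  have hd := congrArg LinearMap.det hf
  rw [LinearMap.det_comp, LinearMap.det_smul, LinearMap.det_id] at hd
  have hr : Module.finrank (ZMod 4) M = 3 := by
    haveI : Fact (1 < 4) := ⟨by norm_num⟩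
    show Module.finrank (ZMod 4) (ZMod 4 × ZMod 4 × ZMod 4) = 3
    rw [Module.finrank_prod, Module.finrank_prod, Module.finrank_self]
  rw [hr, mul_one] at hd
  revert hd
  generalize LinearMap.det f = d
  revert d
  decide

end Cfsg.Agent.S3155
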