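import Cfsg.Statements.S3156
import Cfsg.Agent.Lib.SylL34.U34
import Cfsg.Agent.Lib.SylL34.L34

set_option autoImplicit false
open Cfsg

namespace Cfsg.Agent.S3156

/-- If a finite group T is isomorphic to a Sylow 2-subgroup of the projective special unitary group of dimension 3 with parameter 4 (realised over the field with 16 elements), then no subgroup of the automorphism group of T is isomorphic to the symmetric group of degree 3. -/
theorem result {T : Type*} [Group T] [Finite T] (hT : (∃ (F : Type) (_ : Field F) (_ : Fintype F), Fintype.card F = 16 ∧ ∃ S : Sylow 2 (Cfsg.PSU 3 F 4), Nonempty (T ≃* ↥(S : Subgroup (Cfsg.PSU 3 F 4))))) (H : Subgroup (MulAut T)) : ¬ Nonempty (↥H ≃* Equiv.Perm (Fin 3)) := by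
  rintro ⟨e⟩
  obtain ⟨F, _, _, hF, S, ⟨eT⟩⟩ := hT
  have h := (SylL34.props_of_sylow hF S).of_equiv eT
  let f : Equiv.Perm (Fin 3) →* MulAut T := H.subtype.comp e.symm.toMonoidHom
  have hf : Function.Injective f := H.subtype_injective.comp e.symm.injective
  let a : Equiv.Perm (Fin 3) := finRotate 3
  let b : Equiv.Perm (Fin 3) := Equiv.swap 0 1
  have ha : a * a * a = 1 := by decide
  have hb : b * b = 1 := by decide
  have hab : b * a = a * a * b := by decide
  have ha1 : a ≠ 1 := by decide
  let ρ := f a
  let x := f b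
  have h3 : ∀ g, ρ (ρ (ρ g)) = g := fun g => by
    have := DFunLike.congr_fun (show ρ * ρ * ρ = 1 by rw [← map_mul, ← map_mul, ha, map_one]) g
    simpa [MulAut.mul_apply] using this
  have hρ : ρ ≠ 1 := fun e' => ha1 (hf (e'.trans (map_one f).symm))
  have hfp : ∀ y, ρ y = y → y = 1 := fun y hy => by
    by_contra hy1
    exact hρ (h.eq_one ρ h3 ⟨y, hy, hy1⟩)
  have hx : ∀ g, x (x g) = g := fun g => by
    have := DFunLike.congr_fun (show x * x = 1 by rw [← map_mul, hb, map_one]) g
    simpa [MulAut.mul_apply] using this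
  have hxr : ∀ g, x (ρ g) = ρ (ρ (x g)) := fun g => by
    have := DFunLike.congr_fun (show x * ρ = ρ * ρ * x by rw [← map_mul, ← map_mul, ← map_mul, hab]) g
    simpa [MulAut.mul_apply] using this
  let C : Subgroup T :=
    { carrier := {g | x g = g}
      one_mem' := map_one x
      mul_mem' := fun {u v} hu hv => by
        show x (u * v) = u * v
        rw [map_mul, hu, hv]
      inv_mem' := fun {u} hu => by
        show x u⁻¹ = u⁻¹
        rw [map_inv, hu] }
  obtain ⟨y, hy, hyZ⟩ :=
    (⟨h.card, h.nonab, h3, hfp⟩ : SylL34.Fpf T ρ).exists_involution hxr hx C fun g => Iff.rfl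
  exact hyZ (h.central y hy)

end Cfsg.Agent.S3156
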