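import Cfsg.Statements.S3157
import Cfsg.Agent.Lib.SylL34.L34

set_option autoImplicit false
open Cfsg

namespace Cfsg.Agent.S3157

/-- Let T be a non-abelian group of order 64 admitting automorphisms ρ of order 3 and x of order 2 with x ρ x⁻¹ = ρ⁻¹ (so they generate a symmetric group of degree 3), where ρ fixes only the identity. Then T is isomorphic to a Sylow 2-subgroup of the projective special linear group of dimension 3 over the field with 4 elements, and the subgroup of fixed points of x is dihedral of order 8 or quaternion of order 8. -/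
theorem result {T : Type*} [Group T] [Finite T] (hT : Nat.card T = 64) (hna : ¬ IsMulCommutative T) (ρ x : MulAut T) (hρ : orderOf ρ = 3) (hx : orderOf x = 2)
    (hxr : x * ρ * x⁻¹ = ρ⁻¹) (hfp : ∀ y : T, ρ y = y → y = 1) (C : Subgroup T) (hC : ∀ y : T, y ∈ C ↔ x y = y) :
    (∃ (F : Type) (_ : Field F) (_ : Fintype F), Fintype.card F = 4 ∧
        ∃ S : Sylow 2 (Matrix.ProjectiveSpecialLinearGroup (Fin 3) F), Nonempty (T ≃* ↥(S : Subgroup (Matrix.ProjectiveSpecialLinearGroup (Fin 3) F)))) ∧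
      (Nonempty (↥C ≃* DihedralGroup 4) ∨ Nonempty (↥C ≃* QuaternionGroup 2)) := by
  have h3 : ∀ y, ρ (ρ (ρ y)) = y := fun y => by
    have := DFunLike.congr_fun (hρ ▸ pow_orderOf_eq_one ρ : ρ ^ 3 = 1) y
    simpa [pow_succ, MulAut.mul_apply] using this
  have hx2 : ∀ y, x (x y) = y := fun y => by
    have := DFunLike.congr_fun (hx ▸ pow_orderOf_eq_one x : x ^ 2 = 1) y
    simpa [pow_succ, MulAut.mul_apply] using this
  have hxr' : ∀ y, x (ρ y) = ρ (ρ (x y)) := fun y => by
    have he : x * ρ = ρ⁻¹ * x := mul_inv_eq_iff_eq_mul.mp hxr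
    have h2 : ρ⁻¹ = ρ * ρ := inv_eq_of_mul_eq_one_right (MulEquiv.ext fun z => h3 z)
    rw [h2] at he
    simpa [MulAut.mul_apply] using DFunLike.congr_fun he y
  have h : SylL34.Fpf T ρ := ⟨hT, hna, h3, hfp⟩
  exact ⟨⟨SylL34.F4, inferInstance, inferInstance, SylL34.card_F4,
      h.exists_sylow_equiv (h.exists_involution hxr' hx2 C hC)⟩,
    h.fixed_iso hxr' hx2 C hC⟩

end Cfsg.Agent.S3157
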