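import Cfsg.Statements.S3158
import Cfsg.Agent.Lib.PGroup.Basic
-- import your own Cfsg.Agent.* helpers here

set_option autoImplicit false
open Cfsg

namespace Cfsg.Agent.S3158

/-- Let U be a group of order q² with q = 2^n ≥ 2, and y an automorphism of U of order q − 1 all of whose nontrivial powers fix only the identity. Let V be a proper normal y-invariant subgroup of U such that V and U/V are elementary abelian 2-groups and there is an isomorphism from V to U/V commuting with the actions of y. Then U is abelian. -/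
theorem result {U : Type*} [Group U] [Finite U] (n : ℕ) (hn : 1 ≤ n) (hU : Nat.card U = (2 ^ n) ^ 2)
    (y : MulAut U) (hy : orderOf y = 2 ^ n - 1) (hfp : ∀ k : ℕ, y ^ k ≠ 1 → ∀ u : U, (y ^ k) u = u → u = 1)
    (V : Subgroup U) [V.Normal] (hV : V ≠ ⊤) (hyV : ∀ v ∈ V, y v ∈ V)
    (hVe : ∀ v ∈ V, v ^ 2 = 1) (hQe : ∀ u : U, u ^ 2 ∈ V) (hQc : ∀ u w : U, u * w * u⁻¹ * w⁻¹ ∈ V)
    (φ : ↥V ≃* U ⧸ V) (hφ : ∀ (v : ↥V) (u : U), (QuotientGroup.mk u : U ⧸ V) = φ v → φ ⟨y v, hyV v v.2⟩ = QuotientGroup.mk (y u)) :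
    IsMulCommutative U := by
  haveI : Fact (Nat.Prime 2) := ⟨Nat.prime_two⟩
  have hcardV : Nat.card V = 2 ^ n := by
    have h1 := Subgroup.card_eq_card_quotient_mul_card_subgroup V
    rw [← Nat.card_congr φ.toEquiv, hU, ← pow_two] at h1
    exact (Nat.pow_left_injective (by norm_num) h1).symm
  have hyk : ∀ (k : ℕ) (v : U), v ∈ V → (y ^ k) v ∈ V := by
    intro k
    induction k with
    | zero => intro v hv; simpa using hv
    | succ k ih => intro v hv; rw [pow_succ', MulAut.mul_apply]; exact hyV _ (ih v hv)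
  let Y : ℕ → V → V := fun k v => ⟨(y ^ k) v, hyk k v v.2⟩
  have hYadd : ∀ (i j : ℕ) (v : V), Y (i + j) v = Y i (Y j v) := fun i j v =>
    Subtype.ext (by simp only [Y, pow_add, MulAut.mul_apply])
  have hY0 : ∀ v : V, Y 0 v = v := fun v => Subtype.ext (by simp [Y])
  have hYmul : ∀ (i : ℕ) (a b : V), Y i (a * b) = Y i a * Y i b := fun i a b =>
    Subtype.ext (by simp only [Y, Subgroup.coe_mul, map_mul])
  have hYmod : ∀ (i j : ℕ) (v : V), i % (2 ^ n - 1) = j % (2 ^ n - 1) → Y i v = Y j v := by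
    intro i j v h
    have : y ^ i = y ^ j := by
      rw [← pow_mod_orderOf y i, ← pow_mod_orderOf y j, hy, h]
    exact Subtype.ext (by simp only [Y, this])
  have hpos : 0 < 2 ^ n - 1 := by
    have : 2 ≤ 2 ^ n := le_self_pow₀ (by norm_num) (by omega)
    omega
  -- `y` is transitive on the non-identity elements of `V`
  have htrans : ∀ a b : V, a ≠ 1 → b ≠ 1 → ∃ k : ℕ, Y k a = b := by
    intro a b ha hb
    classical
    haveI := Fintype.ofFinite V
    let f : Fin (2 ^ n - 1) → {v : V // v ≠ 1} := fun k => ⟨Y k a, fun h => ha (by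
      have : (y ^ (k : ℕ)) (a : U) = 1 := congrArg Subtype.val h
      exact Subtype.ext ((map_eq_one_iff _ (y ^ (k : ℕ)).injective).mp this))⟩
    have hf : Function.Injective f := by
      suffices key : ∀ i j : Fin (2 ^ n - 1), (i : ℕ) ≤ j → f i = f j → i = j by
        intro i j h
        rcases le_total (i : ℕ) j with h' | h'
        · exact key i j h' h
        · exact (key j i h' h.symm).symm
      intro i j hij h
      have h' : Y i a = Y j a := congrArg Subtype.val h
      rw [show (j : ℕ) = i + (j - i) by omega, hYadd] at h'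
      have h'' : (y ^ ((j : ℕ) - i)) (a : U) = a :=
        ((y ^ (i : ℕ)).injective (congrArg Subtype.val h')).symm
      by_contra hne
      have hlt : (i : ℕ) < j := lt_of_le_of_ne hij (fun e => hne (Fin.ext e))
      refine ha (Subtype.ext (hfp _ ?_ _ h''))
      exact fun e => absurd (Nat.le_of_dvd (by omega) (orderOf_dvd_of_pow_eq_one e))
        (by rw [hy]; omega)
    have hcard : Nat.card {v : V // v ≠ 1} = 2 ^ n - 1 := by
      rw [Nat.card_eq_fintype_card, Fintype.card_subtype_compl, Fintype.card_subtype_eq,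
        ← Nat.card_eq_fintype_card, hcardV]
    have hs : Function.Bijective f := (Nat.bijective_iff_injective_and_card f).mpr
      ⟨hf, by rw [hcard, Nat.card_fin]⟩
    obtain ⟨k, hk⟩ := hs.2 ⟨b, hb⟩
    exact ⟨k, congrArg Subtype.val hk⟩
  -- `V` is central
  have hVc : ∀ v ∈ V, ∀ u : U, u * v = v * u := by
    have hp : IsPGroup 2 U := IsPGroup.of_card (n := n * 2) (by rw [hU, ← pow_mul])
    have hV1 : V ≠ ⊥ := by
      intro h
      have : Nat.card V = 1 := by rw [h]; exact Subgroup.card_bot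
      omega
    obtain ⟨z, hz, hz1⟩ : ∃ z ∈ V ⊓ Subgroup.center U, z ≠ 1 := by
      have := Cfsg.Agent.PGroup.inf_center_ne_bot hp (N := V) hV1
      exact (Subgroup.bot_or_exists_ne_one _).resolve_left this
    intro v hv u
    by_cases h1 : v = 1
    · subst h1; simp
    obtain ⟨k, hk⟩ := htrans ⟨z, hz.1⟩ ⟨v, hv⟩ (fun e => hz1 (congrArg Subtype.val e))
      (fun e => h1 (congrArg Subtype.val e))
    have hk' : (y ^ k) z = v := congrArg Subtype.val hk
    have := congrArg (y ^ k) ((Subgroup.mem_center_iff.mp hz.2) ((y ^ k).symm u))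
    simpa [hk'] using this
  have hQc' : ∀ u w : U, ∃ v ∈ V, u * w = v * (w * u) := fun u w =>
    ⟨_, hQc u w, by group⟩
  let cc : U → U → U := fun u w => u * w * u⁻¹ * w⁻¹
  have cmem : ∀ u w, cc u w ∈ V := hQc
  have cl : ∀ u u' w, cc (u * u') w = cc u w * cc u' w := by
    intro u u' w
    have h := hVc _ (cmem u' w) u
    calc cc (u * u') w = u * cc u' w * w * u⁻¹ * w⁻¹ := by simp only [cc]; group
      _ = cc u' w * cc u w := by rw [h]; simp only [cc]; group
      _ = cc u w * cc u' w := hVc _ (cmem u w) _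
  have cinv : ∀ u w, cc w u = (cc u w)⁻¹ := fun u w => by simp only [cc]; group
  have cr : ∀ u w w', cc u (w * w') = cc u w * cc u w' := by
    intro u w w'
    rw [cinv (w * w') u, cl, mul_inv_rev, ← cinv w u, ← cinv w' u]
    exact hVc _ (cmem u w) _
  have cv : ∀ v ∈ V, ∀ w, cc v w = 1 := fun v hv w => by
    simp only [cc]; rw [← hVc v hv w]; group
  have cdep : ∀ u u' w w', (QuotientGroup.mk u : U ⧸ V) = QuotientGroup.mk u' →
      (QuotientGroup.mk w : U ⧸ V) = QuotientGroup.mk w' → cc u w = cc u' w' := by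
    intro u u' w w' hu hw
    rw [QuotientGroup.eq] at hu hw
    have e1 : u' = u * (u⁻¹ * u') := by group
    have e2 : w' = w * (w⁻¹ * w') := by group
    rw [e1, e2, cl, cr, cv _ hu, cinv (w⁻¹ * w') u, cv _ hw]
    simp
  let σ : V → U := fun a => (φ a).out
  have hσ : ∀ a, (QuotientGroup.mk (σ a) : U ⧸ V) = φ a := fun a => Quotient.out_eq _
  let B : V → V → U := fun a b => cc (σ a) (σ b)
  have Bl : ∀ a a' b, B (a * a') b = B a b * B a' b := fun a a' b => by
    show cc _ _ = _
    rw [← cl]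
    exact cdep _ _ _ _ (by rw [QuotientGroup.mk_mul, hσ, hσ, hσ, map_mul]) rfl
  have Br : ∀ a b b', B a (b * b') = B a b * B a b' := fun a b b' => by
    show cc _ _ = _
    rw [← cr]
    exact cdep _ _ _ _ rfl (by rw [QuotientGroup.mk_mul, hσ, hσ, hσ, map_mul])
  have Bself : ∀ a, B a a = 1 := fun a => by simp only [B, cc]; group
  have B1 : ∀ b, B 1 b = 1 := fun b => by
    have h := Bl 1 1 b
    rwa [one_mul, left_eq_mul] at h
  have hφk : ∀ (k : ℕ) (a : V), φ (Y k a) = QuotientGroup.mk ((y ^ k) (σ a)) := by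
    intro k
    induction k with
    | zero => intro a; rw [hY0]; simp [hσ]
    | succ k ih =>
      intro a
      have := hφ (Y k a) ((y ^ k) (σ a)) (ih a).symm
      rw [pow_succ', MulAut.mul_apply, ← this]
      exact congrArg φ (Subtype.ext (by simp only [Y, pow_succ', MulAut.mul_apply]))
  have Beq : ∀ (k : ℕ) (a b : V), B (Y k a) (Y k b) = (y ^ k) (B a b) := fun k a b => by
    show cc _ _ = (y ^ k) (cc _ _)
    rw [cdep _ ((y ^ k) (σ a)) _ ((y ^ k) (σ b)) (by rw [hσ, hφk]) (by rw [hσ, hφk])]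
    simp only [cc, map_mul, map_inv]
  have hB2 : ∀ (k : ℕ) (v : V), B v (Y (k + k) v) = 1 := by
    intro k v
    let ψ : V → V := fun a => ⟨B a (Y k a), cmem _ _⟩
    have hψY : ∀ i a, ψ (Y i a) = Y i (ψ a) := fun i a => Subtype.ext (by
      show B (Y i a) (Y k (Y i a)) = (y ^ i) (B a (Y k a))
      rw [← hYadd, add_comm, hYadd, Beq])
    have hadd : ∀ a b, ψ (a * b) = ψ a * ψ b := by
      by_cases hall : ∀ a, ψ a = 1
      · simp [hall]
      push Not at hall
      obtain ⟨a0, ha0⟩ := hall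
      have ha1 : a0 ≠ 1 := fun h => ha0 (by subst h; exact Subtype.ext (B1 _))
      obtain ⟨j, hj⟩ := htrans a0 (ψ a0) ha1 ha0
      have : ∀ a, ψ a = Y j a := by
        intro a
        by_cases h1 : a = 1
        · subst h1
          exact Subtype.ext (by simp [ψ, Y, B1])
        obtain ⟨i, hi⟩ := htrans a0 a ha1 h1
        rw [← hi, hψY, ← hj, ← hYadd, ← hYadd, add_comm]
      intro a b
      rw [this, this, this, hYmul]
    have h := congrArg Subtype.val (hadd v (Y k v))
    simp only [ψ, Subgroup.coe_mul] at h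
    rw [hYmul, Bl, Br, Br, Bself, one_mul, ← hYadd] at h
    have e : ∀ p q r : U, p * q * r = p * r → q = 1 := fun p q r h' => by
      have := mul_right_cancel h'
      simpa using this
    exact e _ _ _ h
  have hBall : ∀ a b : V, B a b = 1 := by
    intro a b
    by_cases ha : a = 1
    · subst ha; exact B1 b
    by_cases hb : b = 1
    · subst hb
      have h := Br a 1 1
      rwa [one_mul, left_eq_mul] at h
    obtain ⟨m, hm⟩ := htrans a b ha hb
    rw [← hm, hYmod m (m * 2 ^ (n - 1) + m * 2 ^ (n - 1)) a ?_]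
    · exact hB2 _ a
    have e : m * 2 ^ (n - 1) + m * 2 ^ (n - 1) = m + m * (2 ^ n - 1) := by
      obtain ⟨j, rfl⟩ := Nat.exists_eq_add_of_le hn
      rw [add_tsub_cancel_left, pow_add, pow_one, Nat.mul_sub, mul_one,
        ← Nat.add_sub_assoc (le_mul_of_one_le_right (by omega) (by
          have : 1 ≤ 2 ^ j := Nat.one_le_two_pow
          omega))]
      rw [Nat.add_sub_cancel_left]; ring
    rw [e, Nat.add_mul_mod_self_right]
  refine ⟨⟨fun u w => ?_⟩⟩
  have hu := cdep u (σ (φ.symm (QuotientGroup.mk u))) w (σ (φ.symm (QuotientGroup.mk w)))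
    (by rw [hσ, MulEquiv.apply_symm_apply]) (by rw [hσ, MulEquiv.apply_symm_apply])
  have h : u * w * u⁻¹ * w⁻¹ = 1 := hu.trans (hBall _ _)
  have := mul_inv_eq_one.mp h
  exact mul_inv_eq_iff_eq_mul.mp this

end Cfsg.Agent.S3158
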