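import Cfsg.Statements.S3161
import Cfsg.Agent.Lib.FixedTransitive.Identify
import Cfsg.Agent.Lib.FixedTransitive.LinearModel
import Cfsg.Agent.Lib.FixedTransitive.UnitaryModel
-- import your own Cfsg.Agent.* helpers here

set_option autoImplicit false
open Cfsg

namespace Cfsg.Agent.S3161

/-- Let Q be a non-abelian finite 2-group admitting commuting automorphisms α of order 2 and ρ of order 2^n − 1, where n ≥ 2, such that the fixed points of α form an elementary abelian subgroup of order 2^n on whose nonidentity elements the group generated by ρ acts transitively. Then Q is isomorphic to a Sylow 2-subgroup of the projective special unitary group of dimension 3 with parameter 2^n (realised over the field with 4^n elements) or of the projective special linear group of dimension 3 over the field with 2^n elements. -/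
theorem result {Q : Type*} [Group Q] [Finite Q] (hQ : IsPGroup 2 Q) (hna : ¬ IsMulCommutative Q) (n : ℕ) (hn : 2 ≤ n)
    (α ρ : MulAut Q) (hα : orderOf α = 2) (hρ : orderOf ρ = 2 ^ n - 1) (hc : Commute α ρ)
    (C : Subgroup Q) (hC : ∀ x : Q, x ∈ C ↔ α x = x) (hCE : Cfsg.IsElementaryAbelian 2 C ∧ Nat.card ↥C = 2 ^ n)
    (htr : ∀ x y : Q, x ∈ C → y ∈ C → x ≠ 1 → y ≠ 1 → ∃ k : ℕ, (ρ ^ k) x = y) :
    (∃ (F : Type) (_ : Field F) (_ : Fintype F), Fintype.card F = 4 ^ n ∧
        ∃ S : Sylow 2 (Cfsg.PSU 3 F (2 ^ n)), Nonempty (Q ≃* ↥(S : Subgroup (Cfsg.PSU 3 F (2 ^ n))))) ∨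
      (∃ (F : Type) (_ : Field F) (_ : Fintype F), Fintype.card F = 2 ^ n ∧
        ∃ S : Sylow 2 (Matrix.ProjectiveSpecialLinearGroup (Fin 3) F), Nonempty (Q ≃* ↥(S : Subgroup (Matrix.ProjectiveSpecialLinearGroup (Fin 3) F)))) := by
  have h : FixedTransitive.Setting α ρ n :=
    { two_le := hn
      two := hQ
      invol := fun x => by
        rw [← MulAut.mul_apply, ← pow_two, ← hα, pow_orderOf_eq_one]
        rfl
      comm := fun x => by
        rw [← MulAut.mul_apply, hc.eq]
        rfl
      card := by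
        rw [← hCE.2]
        exact (Nat.card_congr (Equiv.subtypeEquivRight hC)).symm
      sq_one := fun x hx => by
        rw [← pow_two]
        exact hCE.1.2 x ((hC x).2 hx)
      trans := fun x y hx hy => htr x y ((hC x).2 hx) ((hC y).2 hy) }
  rcases FixedTransitive.comm_or_shape h with hcm | hS
  · exact absurd ⟨⟨fun a b => FixedTransitive.cm_eq_one.1 (hcm a b)⟩⟩ hna
  obtain ⟨K, _, _, _, hK, a, ⟨E⟩⟩ := FixedTransitive.exists_sqExt h hS (by rw [← hρ, pow_orderOf_eq_one])
  have hV : ∀ v : K × K, v + v = 0 := fun v =>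
    Prod.ext (CharTwo.add_self_eq_zero _) (CharTwo.add_self_eq_zero _)
  by_cases ha : ∃ t : K, t ^ 2 + t = a
  · obtain ⟨t, ht⟩ := ha
    obtain ⟨E'⟩ := FixedTransitive.Linear.sqExt ht
    obtain ⟨S, hS'⟩ := FixedTransitive.Linear.exists_sylow hn hK
    obtain ⟨e⟩ := FixedTransitive.nonempty_mulEquiv hV E E'
    exact Or.inr ⟨K, inferInstance, inferInstance, hK, S,
      ⟨e.trans (MulEquiv.subgroupCongr hS'.symm)⟩⟩
  · push Not at ha
    obtain ⟨F, _, _, j, t, hF, ht, htj⟩ := FixedTransitive.Unitary.exists_quadratic hK a ha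
    obtain ⟨E'⟩ := FixedTransitive.Unitary.sqExt (by omega) hK hF j ht htj
    obtain ⟨e⟩ := FixedTransitive.nonempty_mulEquiv hV E E'
    obtain ⟨S⟩ : Nonempty (Sylow 2 (Cfsg.PSU 3 F (2 ^ n))) := inferInstance
    obtain ⟨e'⟩ := U3Two.equiv_syl (by omega : 1 ≤ n) hF S
    refine Or.inl ⟨F, inferInstance, inferInstance, ?_, S, ⟨e.trans e'.symm⟩⟩
    rw [hF, ← pow_mul, mul_comm, pow_mul]
    norm_num

end Cfsg.Agent.S3161
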