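import Cfsg.Statements.S3162
import Cfsg.Agent.Lib.U3Two.AutGroup

set_option autoImplicit false
open Cfsg

namespace Cfsg.Agent.S3162

/-- Let S be a Sylow 2-subgroup of the special unitary group of dimension 3 with parameter q = 2^n (n ≥ 2; realised over the field with q² elements). Then the largest normal 2-subgroup of the automorphism group of S is elementary abelian of order 2^(2n²), and the automorphism group has order 2^(2n²) · 2n(q² − 1). -/
theorem result {S : Type*} [Group S] [Finite S] (n : ℕ) (hn : 2 ≤ n) {F : Type*} [Field F] [Fintype F] (hF : Fintype.card F = 4 ^ n)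
    (P : Sylow 2 ↥(Cfsg.SU 3 F (2 ^ n))) (hS : Nonempty (S ≃* ↥(P : Subgroup ↥(Cfsg.SU 3 F (2 ^ n))))) :
    Cfsg.IsElementaryAbelian 2 (Cfsg.pCore 2 (MulAut S)) ∧ Nat.card ↥(Cfsg.pCore 2 (MulAut S)) = 2 ^ (2 * n ^ 2) ∧
      Nat.card (MulAut S) = 2 ^ (2 * n ^ 2) * (2 * n * ((2 ^ n) ^ 2 - 1)) := by
  have hn1 : 1 ≤ n := by omega
  have hF' : Fintype.card F = (2 ^ n) ^ 2 := by rw [hF, ← pow_mul, mul_comm, pow_mul]; norm_num
  obtain ⟨e⟩ := hS
  obtain ⟨e'⟩ := U3Two.equiv_syl_SU hn1 hF' P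
  obtain ⟨⟨hc, hexp⟩, hcard, hA⟩ := U3Two.AutGroup.main hn1 hF'
  set φ : MulAut S ≃* MulAut ↥(U3Two.syl hn1 hF') := MulAut.congr (e.trans e') with hφ
  have hmap := PCore.map_pCore_mulEquiv (p := 2) φ
  let χ : Cfsg.pCore 2 (MulAut S) ≃* Cfsg.pCore 2 (MulAut ↥(U3Two.syl hn1 hF')) :=
    ((Cfsg.pCore 2 (MulAut S)).equivMapOfInjective φ.toMonoidHom φ.injective).trans (MulEquiv.subgroupCongr hmap)
  refine ⟨⟨⟨⟨fun a b => χ.injective (by rw [map_mul, map_mul]; exact hc.is_comm.comm _ _)⟩⟩, fun a ha =>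
    φ.injective (by rw [map_pow, map_one]; exact hexp _ (hmap.le (Subgroup.mem_map_of_mem φ.toMonoidHom ha)))⟩, ?_, ?_⟩
  · rw [Nat.card_congr χ.toEquiv, hcard]
  · rw [Nat.card_congr φ.toEquiv, hA]

end Cfsg.Agent.S3162
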