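import Cfsg.Statements.S3163
-- import your own Cfsg.Agent.* helpers here

set_option autoImplicit false
open Cfsg

namespace Cfsg.Agent.S3163

/-- The natural map of coset spaces `C ⧸ (P ∩ C) → S ⧸ P`. -/
def cosetMap {S : Type*} [Group S] (P C : Subgroup S) : C ⧸ P.subgroupOf C → S ⧸ P :=
  Quotient.map' (fun c => (c : S)) fun c d h => by
    rw [QuotientGroup.leftRel_apply] at h ⊢
    exact h

theorem cosetMap_injective {S : Type*} [Group S] (P C : Subgroup S) :
    Function.Injective (cosetMap P C) := by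
  intro x y
  induction x using QuotientGroup.induction_on with
  | _ x =>
    induction y using QuotientGroup.induction_on with
    | _ y =>
      intro h
      rw [QuotientGroup.eq]
      rw [Subgroup.mem_subgroupOf]
      simp only [Subgroup.coe_mul, Subgroup.coe_inv]
      exact QuotientGroup.eq.mp (show (QuotientGroup.mk (x : S) : S ⧸ P) = QuotientGroup.mk (y : S) from h)

/-- Let S be a non-abelian finite 2-group which is the product S = AB of two elementary abelian subgroups A and B, and suppose that the centralizer in S of every element of A outside B is exactly A. Then the centralizer of every element of B outside A is exactly B; A and B are maximal elementary abelian subgroups of S and the only ones; the centre of S is A ∩ B; and every element of S outside A ∪ B has centralizer of order at most min(|A|, |B|). -/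
theorem result {S : Type*} [Group S] [Finite S] (hS : IsPGroup 2 S) (hna : ¬ IsMulCommutative S) (A B : Subgroup S)
    (hA : Cfsg.IsElementaryAbelian 2 A) (hB : Cfsg.IsElementaryAbelian 2 B) (hAB : ∀ s : S, ∃ a ∈ A, ∃ b ∈ B, s = a * b)
    (hC : ∀ a ∈ A, a ∉ B → Subgroup.centralizer ({a} : Set S) = A) :
    (∀ b ∈ B, b ∉ A → Subgroup.centralizer ({b} : Set S) = B) ∧
      (∀ E : Subgroup S, Cfsg.IsElementaryAbelian 2 E → (∀ E' : Subgroup S, Cfsg.IsElementaryAbelian 2 E' → E ≤ E' → E' = E) → E = A ∨ E = B) ∧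
      (∀ E' : Subgroup S, Cfsg.IsElementaryAbelian 2 E' → A ≤ E' → E' = A) ∧ (∀ E' : Subgroup S, Cfsg.IsElementaryAbelian 2 E' → B ≤ E' → E' = B) ∧
      Subgroup.center S = A ⊓ B ∧
      (∀ x : S, x ∉ A → x ∉ B → Nat.card ↥(Subgroup.centralizer ({x} : Set S)) ≤ min (Nat.card ↥A) (Nat.card ↥B)) := by
  -- the basic consequence of the centraliser hypothesis
  have hkey : ∀ a ∈ A, ∀ b ∈ B, a * b = b * a → a ∈ B ∨ b ∈ A := by
    intro a ha b hb h
    by_cases haB : a ∈ B
    · exact Or.inl haB
    · right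
      rw [← hC a ha haB]
      exact Subgroup.mem_centralizer_singleton_iff.mpr h.symm
  have hAcomm : ∀ {a a'}, a ∈ A → a' ∈ A → a * a' = a' * a := fun {a a'} ha ha' =>
    congrArg Subtype.val (hA.1.is_comm.comm ⟨a, ha⟩ ⟨a', ha'⟩)
  have hBcomm : ∀ {b b'}, b ∈ B → b' ∈ B → b * b' = b' * b := fun {b b'} hb hb' =>
    congrArg Subtype.val (hB.1.is_comm.comm ⟨b, hb⟩ ⟨b', hb'⟩)
  have hsq : ∀ {g : S}, g ^ 2 = 1 → g⁻¹ = g := fun {g} hg =>
    inv_eq_of_mul_eq_one_right (by rwa [← pow_two])
  have h1 : ∀ b ∈ B, b ∉ A → Subgroup.centralizer ({b} : Set S) = B := by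
    intro b hb hbA
    refine le_antisymm (fun s hs => ?_) (fun s hs =>
      Subgroup.mem_centralizer_singleton_iff.mpr (hBcomm hs hb))
    obtain ⟨a, ha, b', hb', rfl⟩ := hAB s
    have h := Subgroup.mem_centralizer_singleton_iff.mp hs
    have hab : a * b = b * a := by
      rw [mul_assoc, hBcomm hb' hb, ← mul_assoc, ← mul_assoc] at h
      exact mul_right_cancel h
    exact B.mul_mem ((hkey a ha b hb hab).resolve_right hbA) hb'
  have hAnB : ∃ a ∈ A, a ∉ B := by
    by_contra h
    push Not at h
    refine hna ⟨⟨fun x y => ?_⟩⟩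
    obtain ⟨a, ha, b, hb, rfl⟩ := hAB x
    obtain ⟨a', ha', b', hb', rfl⟩ := hAB y
    exact hBcomm (B.mul_mem (h a ha) hb) (B.mul_mem (h a' ha') hb')
  have hBnA : ∃ b ∈ B, b ∉ A := by
    by_contra h
    push Not at h
    refine hna ⟨⟨fun x y => ?_⟩⟩
    obtain ⟨a, ha, b, hb, rfl⟩ := hAB x
    obtain ⟨a', ha', b', hb', rfl⟩ := hAB y
    exact hAcomm (A.mul_mem ha (h b hb)) (A.mul_mem ha' (h b' hb'))
  have hinv : ∀ s : S, s ^ 2 = 1 → s ∈ A ∨ s ∈ B := by
    intro s hs
    obtain ⟨a, ha, b, hb, rfl⟩ := hAB s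
    have hab : a * b = b * a := by
      rw [← hsq hs, mul_inv_rev, hsq (hA.2 a ha), hsq (hB.2 b hb)]
    rcases hkey a ha b hb hab with h | h
    · exact Or.inr (B.mul_mem h hb)
    · exact Or.inl (A.mul_mem ha h)
  have hE : ∀ E : Subgroup S, Cfsg.IsElementaryAbelian 2 E → E ≤ A ∨ E ≤ B := by
    intro E hE
    by_contra h
    obtain ⟨hEA, hEB⟩ := not_or.mp h
    obtain ⟨x, hx, hxA⟩ := SetLike.not_le_iff_exists.mp hEA
    obtain ⟨y, hy, hyB⟩ := SetLike.not_le_iff_exists.mp hEB
    have hxB := (hinv x (hE.2 x hx)).resolve_left hxA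
    have hyA := (hinv y (hE.2 y hy)).resolve_right hyB
    rcases hinv (x * y) (hE.2 _ (E.mul_mem hx hy)) with h | h
    · exact hxA ((A.mul_mem_cancel_right hyA).mp h)
    · exact hyB ((B.mul_mem_cancel_left hxB).mp h)
  refine ⟨h1, ?_, ?_, ?_, ?_, ?_⟩
  · intro E hE' hmax
    rcases hE E hE' with h | h
    · exact Or.inl (hmax A hA h).symm
    · exact Or.inr (hmax B hB h).symm
  · intro E hE' hle
    rcases hE E hE' with h | h
    · exact le_antisymm h hle
    · obtain ⟨a, ha, haB⟩ := hAnB; exact absurd (h (hle ha)) haB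
  · intro E hE' hle
    rcases hE E hE' with h | h
    · obtain ⟨b, hb, hbA⟩ := hBnA; exact absurd (h (hle hb)) hbA
    · exact le_antisymm h hle
  · refine le_antisymm (le_inf (fun z hz => ?_) (fun z hz => ?_)) ?_
    · obtain ⟨a, ha, haB⟩ := hAnB
      rw [← hC a ha haB]
      exact Subgroup.mem_centralizer_singleton_iff.mpr (Subgroup.mem_center_iff.mp hz a).symm
    · obtain ⟨b, hb, hbA⟩ := hBnA
      rw [← h1 b hb hbA]
      exact Subgroup.mem_centralizer_singleton_iff.mpr (Subgroup.mem_center_iff.mp hz b).symm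
    · intro z hz
      rw [Subgroup.mem_center_iff]
      intro s
      obtain ⟨a, ha, b, hb, rfl⟩ := hAB s
      rw [mul_assoc, hBcomm hb hz.2, ← mul_assoc, hAcomm ha hz.1, mul_assoc]
  · intro x hxA hxB
    obtain ⟨a, ha, b, hb, rfl⟩ := hAB x
    have haB : a ∉ B := fun h => hxB (B.mul_mem h hb)
    have hbA : b ∉ A := fun h => hxA (A.mul_mem ha h)
    have hbound : ∀ (P R : Subgroup S), (∀ s : S, ∃ r ∈ R, ∃ q ∈ P, s = r * q) →
        (∀ c ∈ Subgroup.centralizer ({a * b} : Set S), c ∈ P → c ∈ R) →
        Nat.card (Subgroup.centralizer ({a * b} : Set S)) ≤ Nat.card R := by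
      intro P R hsur hin
      let C := Subgroup.centralizer ({a * b} : Set S)
      have hg : Function.Surjective
          (fun q : R ⧸ P.subgroupOf R => (QuotientGroup.mk (q.out : S) : S ⧸ P)) := by
        intro c
        induction c using QuotientGroup.induction_on with
        | _ s =>
          obtain ⟨r, hr, q, hq, rfl⟩ := hsur s
          refine ⟨QuotientGroup.mk ⟨r, hr⟩, ?_⟩
          obtain ⟨w, hw⟩ := QuotientGroup.mk_out_eq_mul (P.subgroupOf R) ⟨r, hr⟩
          simp only [hw, Subgroup.coe_mul, QuotientGroup.eq, mul_inv_rev]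
          rw [mul_assoc, inv_mul_cancel_left]
          exact P.mul_mem (P.inv_mem w.2) hq
      have hidx : P.index ≤ (P.subgroupOf R).index := Nat.card_le_card_of_surjective _ hg
      have hCi : (P.subgroupOf C).index ≤ P.index :=
        Nat.card_le_card_of_injective (cosetMap P C) (cosetMap_injective P C)
      have hd : Nat.card (P.subgroupOf C) ≤ Nat.card (P.subgroupOf R) :=
        Nat.card_le_card_of_injective
          (fun c => ⟨⟨((c : C) : S), hin _ (c : C).2 c.2⟩, c.2⟩)
          (fun c d h => Subtype.ext (Subtype.ext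
            (congrArg (fun w : P.subgroupOf R => ((w : R) : S)) h)))
      rw [← (P.subgroupOf C).card_mul_index, ← (P.subgroupOf R).card_mul_index]
      exact Nat.mul_le_mul hd (hCi.trans hidx)
    refine le_min ?_ ?_
    · refine hbound B A hAB ?_
      intro c hc hcB
      have h := Subgroup.mem_centralizer_singleton_iff.mp hc
      have hca : a * c = c * a := by
        rw [mul_assoc a b c, hBcomm hb hcB, ← mul_assoc, ← mul_assoc] at h
        exact (mul_right_cancel h).symm
      exact (hkey a ha c hcB hca).resolve_left haB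
    · refine hbound A B (fun s => ?_) ?_
      · obtain ⟨a', ha', b', hb', h⟩ := hAB s⁻¹
        exact ⟨b'⁻¹, B.inv_mem hb', a'⁻¹, A.inv_mem ha', by rw [← mul_inv_rev, ← h, inv_inv]⟩
      · intro c hc hcA
        have h := Subgroup.mem_centralizer_singleton_iff.mp hc
        have hcb : c * b = b * c := by
          rw [← mul_assoc, hAcomm hcA ha, mul_assoc, mul_assoc] at h
          exact mul_left_cancel h
        exact (hkey c hcA b hb hcb).resolve_right hbA

end Cfsg.Agent.S3163
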