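import Cfsg.Statements.S3164
import Cfsg.Agent.Lib.StdSub.Pairs
import Cfsg.Agent.Lib.Components.GenFitting
import Cfsg.Agent.Lib.Coprime.Basic
-- import your own Cfsg.Agent.* helpers here

set_option autoImplicit false
open Cfsg

namespace Cfsg.Agent.S3164

/-- Let A be a standard subgroup of a finite group G whose centralizer has cyclic Sylow 2-subgroups, t an involution centralizing A, and X the normal closure of A in G. If X has a t-invariant 2-subgroup R with [R, t] nontrivial and contained in A, then X is semisimple (X equals its own layer, a central product of quasisimple groups) and the centre of X has odd order. -/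
theorem result {G : Type*} [Group G] [Finite G] (A : Subgroup G) (hA : Cfsg.IsStandardSubgroup A)
    (hcyc : ∀ R : Sylow 2 ↥(Subgroup.centralizer (A : Set G)), IsCyclic ↥(R : Subgroup ↥(Subgroup.centralizer (A : Set G)))) (t : G) (ht : orderOf t = 2) (htA : t ∈ Subgroup.centralizer (A : Set G))
    (R : Subgroup G) (hR2 : IsPGroup 2 ↥R) (hRX : R ≤ Subgroup.normalClosure (A : Set G)) (hRt : ∀ r ∈ R, t * r * t⁻¹ ∈ R)
    (hc1 : ⁅R, Subgroup.zpowers t⁆ ≠ ⊥) (hc2 : ⁅R, Subgroup.zpowers t⁆ ≤ A) :
    Cfsg.layer ↥(Subgroup.normalClosure (A : Set G)) = ⊤ ∧ Odd (Nat.card ↥(Subgroup.center ↥(Subgroup.normalClosure (A : Set G)))) := by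
  have htt : t * t = 1 := Cfsg.Agent.Invol.mul_self_of_orderOf_two ht
  have hti : t⁻¹ = t := Cfsg.Agent.Invol.inv_of_orderOf_two ht
  -- an element `a = [t, r]` of `A`
  obtain ⟨r, hr, hne⟩ : ∃ r ∈ R, r * t * r⁻¹ ≠ t := by
    by_contra h
    push Not at h
    apply hc1
    rw [Subgroup.commutator_eq_bot_iff_le_centralizer]
    intro r hr
    rw [Subgroup.mem_centralizer_iff]
    rintro x ⟨k, rfl⟩
    have : Commute r t := mul_inv_eq_iff_eq_mul.mp (h r hr)
    exact (this.zpow_right k).eq.symm
  let s := r * t * r⁻¹
  let a := t * s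
  have haA : a ∈ A := by
    apply hc2
    rw [Subgroup.commutator_comm]
    have := Subgroup.commutator_mem_commutator (Subgroup.mem_zpowers t) hr
    rwa [commutatorElement_def, hti, show t * r * t * r⁻¹ = a by simp only [a, s, mul_assoc]] at this
  have hss : s * s = 1 := by
    calc s * s = r * (t * t) * r⁻¹ := by simp only [s]; group
      _ = 1 := by rw [htt]; group
  have hat : a * t = t * a := Subgroup.mem_centralizer_iff.mp htA a haA
  have hts : t * s = s * t := by
    have h : t * s * t = t * (t * s) := hat
    rw [← mul_assoc t t, htt, one_mul] at h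
    calc t * s = t * s * (t * t) := by rw [htt, mul_one]
      _ = (t * s * t) * t := by simp only [mul_assoc]
      _ = s * t := by rw [h]
  have hso : orderOf s = 2 := orderOf_eq_prime (by rw [pow_two, hss]) (fun h => by
    have : t = r⁻¹ * s * r := by simp only [s]; group
    exact Cfsg.Agent.Invol.ne_one_of_orderOf_two ht (by rw [this, h]; group))
  have hta : t * a = s := by simp only [a]; rw [← mul_assoc, htt, one_mul]
  have hnc : a ∉ Subgroup.centralizer (A : Set G) := by
    intro hac
    exact hne (StdSub.eq_of_commuting_involutions hcyc hso ht (by have h := mul_mem htA hac; rwa [hta] at h) htA hts.symm)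
  have hCt : Subgroup.centralizer ({t} : Set G) ≤ Subgroup.normalizer (A : Set G) :=
    StdSub.centralizer_le_normalizer hA ht htA
  -- normal subgroups of even order contain `A`
  have heven : ∀ N : Subgroup G, N.Normal → Even (Nat.card N) → A ≤ N := by
    intro N hN hev
    by_contra hAN
    obtain ⟨z, hzN, hz, hzt⟩ := StdSub.exists_commuting_involution hev htt
      (by rw [Subgroup.normalizer_eq_top]; trivial)
    have hzC : z ∈ Subgroup.centralizer (A : Set G) :=
      StdSub.le_centralizer_of_le_normal hA.1 (D := N ⊓ Subgroup.centralizer ({t} : Set G))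
        inf_le_left (inf_le_right.trans hCt) hAN
        ⟨hzN, Subgroup.mem_centralizer_singleton_iff.mpr hzt⟩
    have hzt' : z = t := StdSub.eq_of_commuting_involutions hcyc hz ht hzC htA hzt
    have htN : t ∈ N := hzt' ▸ hzN
    have haN : a ∈ N := N.mul_mem htN (hN.conj_mem t htN r)
    exact hnc (StdSub.le_centralizer_of_le_normal hA.1 (D := A ⊓ N) inf_le_right
      (inf_le_left.trans Subgroup.le_normalizer) hAN ⟨haA, haN⟩)
  -- normal subgroups of odd order are centralised by `A`
  have hodd : ∀ N : Subgroup G, N.Normal → Odd (Nat.card N) →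
      A ≤ Subgroup.centralizer (N : Set G) := by
    intro N hN hod
    have ha2 : a ^ 2 = 1 := by
      rw [pow_two]
      show t * s * (t * s) = 1
      rw [mul_assoc, ← mul_assoc s t, ← hts, mul_assoc t s, hss, mul_one, htt]
    have hAN : ¬ A ≤ N := fun h => Cfsg.Agent.Invol.not_mem_of_odd hod
      (orderOf_eq_prime ha2 (fun e => hnc (e ▸ one_mem _))) (h haA)
    let D := N ⊓ Subgroup.centralizer ({t} : Set G)
    let D' := N ⊓ Subgroup.centralizer ({s} : Set G)
    have hDA : D ≤ Subgroup.centralizer (A : Set G) :=
      StdSub.le_centralizer_of_le_normal hA.1 inf_le_left (inf_le_right.trans hCt) hAN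
    have hle : D ≤ D' := by
      intro x hx
      refine ⟨hx.1, Subgroup.mem_centralizer_singleton_iff.mpr ?_⟩
      have h1 : Commute x t := Subgroup.mem_centralizer_singleton_iff.mp hx.2
      have h2 : Commute x a := (Subgroup.mem_centralizer_iff.mp (hDA hx) a haA).symm
      exact hta ▸ h1.mul_right h2
    have hD' : D' = D.map (MulAut.conj r).toMonoidHom := by
      ext x
      rw [Subgroup.mem_map_equiv]
      simp only [D, D', Subgroup.mem_inf, Subgroup.mem_centralizer_singleton_iff, MulAut.conj_symm_apply]
      refine and_congr ?_ ?_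
      · constructor
        · intro h; simpa using hN.conj_mem x h r⁻¹
        · intro h
          have h' := hN.conj_mem _ h r
          rwa [show r * (r⁻¹ * x * r) * r⁻¹ = x by group] at h'
      · show x * (r * t * r⁻¹) = r * t * r⁻¹ * x ↔ r⁻¹ * x * r * t = t * (r⁻¹ * x * r)
        constructor
        · intro h
          calc r⁻¹ * x * r * t = r⁻¹ * (x * (r * t * r⁻¹)) * r := by group
            _ = r⁻¹ * (r * t * r⁻¹ * x) * r := by rw [h]
            _ = t * (r⁻¹ * x * r) := by group
        · intro h
          calc x * (r * t * r⁻¹) = r * (r⁻¹ * x * r * t) * r⁻¹ := by group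
            _ = r * (t * (r⁻¹ * x * r)) * r⁻¹ := by rw [h]
            _ = r * t * r⁻¹ * x := by group
    have hDD : D = D' := Subgroup.eq_of_le_of_card_ge hle (le_of_eq (by
      rw [hD']
      exact Nat.card_congr (D.equivMapOfInjective _ (MulAut.conj r).injective).toEquiv.symm))
    have hcj : ∀ u : G, u * u = 1 → ∀ x : G, u * x * u = x ↔ x * u = u * x := by
      intro u hu x
      constructor
      · intro h
        calc x * u = u * x * u * u := by rw [h]
          _ = u * x := by rw [mul_assoc, hu, mul_one]
      · intro h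
        rw [mul_assoc, h, ← mul_assoc, hu, one_mul]
    have hconj : ∀ u : G, u * u = 1 → ∀ x ∈ N, u * x * u ∈ N := fun u hu x hx => by
      have := hN.conj_mem x hx u
      rwa [inv_eq_of_mul_eq_one_right hu] at this
    have key := StdSub.commute_mul_of_same_fixed hod htt hss hts (hconj t htt) (hconj s hss)
      (fun x hx => by
        have hmem : x ∈ D ↔ x ∈ D' := by rw [hDD]
        simp only [D, D', Subgroup.mem_inf, hx, true_and,
          Subgroup.mem_centralizer_singleton_iff] at hmem
        rw [hcj t htt x, hcj s hss x, hmem])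
    exact StdSub.le_centralizer_of_mem hA.1 N haA hnc
      (Subgroup.mem_centralizer_iff.mpr fun x hx => (key x hx).symm)
  -- conclusion
  let X := Subgroup.normalClosure (A : Set G)
  have hAX : A ≤ X := Subgroup.subset_normalClosure
  have hXle : ∀ (N : Subgroup G), N.Normal → A ≤ N → X ≤ N := fun N hN h => by
    haveI := hN
    exact Subgroup.normalClosure_le_normal h
  have hnotA : ∀ C : Subgroup X, Group.IsSolvable C → ¬ A ≤ C.map X.subtype := fun C hC h =>
    Components.IsQuasisimple.not_isSolvable hA.1
      (Cfsg.Agent.Coprime.isSolvable_of_le h (Cfsg.Agent.Coprime.isSolvable_map X.subtype C hC))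
  have hcard : ∀ C : Subgroup X, Nat.card (C.map X.subtype) = Nat.card C := fun C =>
    (Nat.card_congr (C.equivMapOfInjective _ X.subtype_injective).toEquiv).symm
  have hcentral : ∀ C : Subgroup X, C.Characteristic → ¬ A ≤ C.map X.subtype →
      C ≤ Subgroup.center X ∧ Odd (Nat.card C) := by
    intro C hC hnA
    haveI := hC
    have hn : (C.map X.subtype).Normal := ConjAct.normal_of_characteristic_of_normal
    have ho : Odd (Nat.card (C.map X.subtype)) :=
      Nat.not_even_iff_odd.mp (fun h => hnA (heven _ hn h))
    refine ⟨fun c hc => ?_, hcard C ▸ ho⟩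
    rw [Subgroup.mem_center_iff]
    intro x
    haveI := hn
    have hx : (x : G) ∈ Subgroup.centralizer ((C.map X.subtype : Subgroup G) : Set G) :=
      hXle _ inferInstance (hodd _ hn ho) x.2
    exact Subtype.ext (Subgroup.mem_centralizer_iff.mp hx _ ⟨c, hc, rfl⟩).symm
  have hXc : ∀ C : Subgroup X, C ≤ Subgroup.center X → ¬ A ≤ C.map X.subtype := by
    intro C hC
    exact hnotA C (Group.isSolvable_of_comm fun x y => Subtype.ext
      (Subgroup.mem_center_iff.mp (hC y.2) x))
  refine ⟨?_, (hcentral _ inferInstance (hXc _ le_rfl)).2⟩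
  by_contra hL
  have hLA : ¬ A ≤ (Cfsg.layer X).map X.subtype := fun h => hL (by
    have := hXle _ ConjAct.normal_of_characteristic_of_normal h
    rw [eq_top_iff]
    intro x _
    obtain ⟨y, hy, hyx⟩ := this x.2
    rwa [← Subtype.ext hyx])
  have hFA : ¬ A ≤ (Cfsg.fittingSubgroup X).map X.subtype := hnotA _ inferInstance
  have hF : Cfsg.generalizedFittingSubgroup X ≤ Subgroup.center X :=
    sup_le (hcentral _ inferInstance hLA).1 (hcentral _ inferInstance hFA).1
  have htop : (⊤ : Subgroup X) ≤ Subgroup.center X := by
    refine le_trans ?_ ((Components.centralizer_generalizedFittingSubgroup_le (G := X)).trans hF)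
    intro x _
    rw [Subgroup.mem_centralizer_iff]
    intro y hy
    exact (Subgroup.mem_center_iff.mp (hF hy) x).symm
  exact hXc ⊤ htop (fun x hx => ⟨⟨x, hAX hx⟩, trivial, rfl⟩)

end Cfsg.Agent.S3164
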