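import Cfsg.Statements.S3166
import Mathlib
-- import your own Cfsg.Agent.* helpers here

set_option autoImplicit false
open Cfsg

namespace Cfsg.Agent.S3166

/-- Let q = 2^n with n ≥ 1. If q⁴ − q³ + q² − q + 1 is a power p^m of a prime p, then m = 1: the value is never a prime power with exponent greater than 1. -/
theorem result (n p m : ℕ) (hn : 1 ≤ n) (hp : p.Prime) (h : (2 ^ n) ^ 4 - (2 ^ n) ^ 3 + (2 ^ n) ^ 2 - 2 ^ n + 1 = p ^ m) : m = 1 := by
  have hq : 2 ≤ 2 ^ n := le_self_pow₀ (by norm_num) (by omega)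
  obtain ⟨q, hqdef⟩ : ∃ q, 2 ^ n = q := ⟨_, rfl⟩
  rw [hqdef] at h hq
  have h34 : q ^ 3 * 2 ≤ q ^ 4 := by rw [pow_succ q 3]; exact Nat.mul_le_mul_left _ hq
  have h23 : q ^ 2 * 2 ≤ q ^ 3 := by rw [pow_succ q 2]; exact Nat.mul_le_mul_left _ hq
  have h12 : q * 2 ≤ q ^ 2 := by rw [pow_two]; exact Nat.mul_le_mul_left _ hq
  have hf : p ^ m + q ^ 3 + q = q ^ 4 + q ^ 2 + 1 := by omega
  have hfZ : (p : ℤ) ^ m + (q : ℤ) ^ 3 + q = (q : ℤ) ^ 4 + (q : ℤ) ^ 2 + 1 := by exact_mod_cast hf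
  have hqZ : (2 : ℤ) ≤ q := by exact_mod_cast hq
  by_contra hm1
  rcases Nat.even_or_odd m with ⟨j, hj⟩ | hodd
  · -- a square lies strictly between consecutive squares
    obtain ⟨r, hr, hr0⟩ : ∃ r : ℤ, (p : ℤ) ^ m = r * r ∧ 0 ≤ r :=
      ⟨(p : ℤ) ^ j, by rw [hj, pow_add], by positivity⟩
    rw [hr] at hfZ
    have h1 : 2 * (q : ℤ) ^ 2 - q < 2 * r := by
      by_contra hc
      have hc' : 2 * r ≤ 2 * (q : ℤ) ^ 2 - q := le_of_not_gt hc
      have := mul_self_le_mul_self (by linarith) hc'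
      nlinarith
    have h2 : 2 * r < 2 * (q : ℤ) ^ 2 - q + 1 := by
      by_contra hc
      have hc' : 2 * (q : ℤ) ^ 2 - q + 1 ≤ 2 * r := le_of_not_gt hc
      have := mul_self_le_mul_self (by nlinarith) hc'
      nlinarith
    omega
  · have hm3 : 3 ≤ m := by obtain ⟨j, rfl⟩ := hodd; omega
    have hqdvd : (q : ℤ) ∣ (p : ℤ) ^ m - 1 :=
      ⟨(q : ℤ) ^ 3 - (q : ℤ) ^ 2 + q - 1, by linarith [hfZ]⟩
    have hpodd : Odd p := by
      rcases hp.eq_two_or_odd' with h2 | h2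
      · exfalso
        have hev : (2 : ℤ) ∣ (p : ℤ) ^ m := by
          rw [h2]; exact dvd_pow_self _ (by omega)
        have hq2 : (2 : ℤ) ∣ (q : ℤ) := by
          rw [← hqdef]; push_cast; exact dvd_pow_self _ (by omega)
        have h3 := dvd_sub hev (hq2.trans hqdvd)
        simp at h3
      · exact h2
    have hunit : (p : ZMod q) ^ 1 = 1 := by
      have h1 : (p : ZMod q) ^ m = 1 := by
        have := (ZMod.intCast_zmod_eq_zero_iff_dvd ((p : ℤ) ^ m - 1) q).mpr hqdvd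
        push_cast at this
        exact sub_eq_zero.mp this
      have h2 : (p : ZMod q) ^ (2 ^ (n - 1)) = 1 := by
        have hc : p.Coprime q := by
          rw [← hqdef]; exact (Nat.coprime_two_right.mpr hpodd).pow_right _
        have := Nat.ModEq.pow_totient hc
        rw [← hqdef, Nat.totient_prime_pow Nat.prime_two (by omega), hqdef, Nat.add_one_sub_one,
          mul_one] at this
        have h3 := (ZMod.natCast_eq_natCast_iff _ _ _).mpr this
        simpa using h3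
      have hg := pow_gcd_eq_one.mpr ⟨h1, h2⟩
      rwa [Nat.Coprime.gcd_eq_one ((Nat.coprime_two_right.mpr hodd).pow_right _)] at hg
    rw [pow_one] at hunit
    have hkd : (q : ℤ) ∣ (p : ℤ) - 1 :=
      (ZMod.intCast_zmod_eq_zero_iff_dvd _ q).mp (by push_cast; rw [hunit, sub_self])
    obtain ⟨k, hk⟩ := hkd
    have hp2 : (2 : ℤ) ≤ p := by exact_mod_cast hp.two_le
    have hk1 : 1 ≤ k := by
      by_contra hc
      have : (q : ℤ) * k ≤ 0 := mul_nonpos_of_nonneg_of_nonpos (by linarith) (by omega)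
      linarith
    have hpk : (p : ℤ) = q * k + 1 := by linarith
    have hlt : (p : ℤ) ^ m < (q : ℤ) ^ 4 := by nlinarith [hfZ]
    have hm : m = 3 := by
      by_contra hne
      have h1 : (q : ℤ) ≤ p := by nlinarith
      have h2 : (q : ℤ) ^ 4 ≤ (p : ℤ) ^ 4 := pow_le_pow_left₀ (by linarith) h1 4
      have h3 : (p : ℤ) ^ 4 ≤ (p : ℤ) ^ m := pow_le_pow_right₀ (by linarith) (by omega)
      linarith
    subst hm
    rw [hpk] at hfZ hlt
    have hdiv : (q : ℤ) ∣ 3 * k + 1 := by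
      refine ⟨(q : ℤ) ^ 2 - q + 1 - 3 * k ^ 2 - k ^ 3 * q, ?_⟩
      apply mul_left_cancel₀ (show (q : ℤ) ≠ 0 by omega)
      linear_combination hfZ
    have hk3 : k ^ 3 < q := by
      by_contra hc
      have : (q : ℤ) * (q : ℤ) ^ 3 ≤ k ^ 3 * (q : ℤ) ^ 3 :=
        mul_le_mul_of_nonneg_right (le_of_not_gt hc) (by positivity)
      nlinarith
    have hq3k : (q : ℤ) ≤ 3 * k + 1 := Int.le_of_dvd (by linarith) hdiv
    have hk2 : k = 1 := by
      by_contra hne
      have h2 : 2 ≤ k := by omega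
      have h4 : 4 * k ≤ k ^ 3 := by nlinarith [mul_le_mul h2 h2 (by norm_num) (by omega : (0:ℤ) ≤ k)]
      linarith
    subst hk2
    have : q ≤ 4 := by exact_mod_cast (show (q : ℤ) ≤ 4 by linarith)
    interval_cases q <;> norm_num at hfZ

end Cfsg.Agent.S3166
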