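import Cfsg.Statements.S3171
import Cfsg.Agent.Lib.M24Syl.Abelian
import Cfsg.Agent.Lib.M24Syl.Iso
import Cfsg.Agent.Lib.PGroup.Basic

set_option autoImplicit false
open Cfsg

namespace Cfsg.Agent.S3171

/-- Let P be a Sylow 2-subgroup of the Mathieu group of degree 24 and S the quotient of P by its centre. Then the centre of every maximal subgroup of S has order at most 8; S has an elementary abelian subgroup of order 64; and S has only one abelian subgroup of order 64. -/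
theorem result (P : Sylow 2 ↥Cfsg.M24) :
    (∀ M : Subgroup (↥(P : Subgroup ↥Cfsg.M24) ⧸ Subgroup.center ↥(P : Subgroup ↥Cfsg.M24)), IsCoatom M →
        Nat.card ↥(Subgroup.center ↥M) ≤ 8) ∧
      (∃ A : Subgroup (↥(P : Subgroup ↥Cfsg.M24) ⧸ Subgroup.center ↥(P : Subgroup ↥Cfsg.M24)),
        Cfsg.IsElementaryAbelian 2 A ∧ Nat.card ↥A = 64) ∧
      ∀ A B : Subgroup (↥(P : Subgroup ↥Cfsg.M24) ⧸ Subgroup.center ↥(P : Subgroup ↥Cfsg.M24)),
        IsMulCommutative ↥A → Nat.card ↥A = 64 → IsMulCommutative ↥B → Nat.card ↥B = 64 → A = B := by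
  obtain ⟨e⟩ := M24Syl.W.nonempty_quotient_equiv P
  haveI : Fact (Nat.Prime 2) := ⟨Nat.prime_two⟩
  have hcard : ∀ H : Subgroup (↥(P : Subgroup ↥Cfsg.M24) ⧸ Subgroup.center ↥(P : Subgroup ↥Cfsg.M24)), Nat.card ↥(Subgroup.map e.toMonoidHom H) = Nat.card ↥H := fun H =>
    (Nat.card_congr (H.equivMapOfInjective _ e.injective).toEquiv).symm
  refine ⟨fun M hM => ?_, ⟨M24Syl.V.subA.map e.symm.toMonoidHom, ?_, ?_⟩, fun A B hA hA' hB hB' => ?_⟩
  · have hidx := PGroup.index_of_isCoatom (p := 2) (P.isPGroup'.to_quotient _) hM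
    have := M24Syl.V.center_card_le (M.map e.toMonoidHom) (by
      rw [Subgroup.index_map_of_bijective e.bijective]; exact hidx)
    rwa [← Nat.card_congr (Subgroup.centerCongr (M.equivMapOfInjective e.toMonoidHom e.injective)).toEquiv] at this
  · refine ⟨⟨⟨?_⟩⟩, ?_⟩
    · rintro ⟨_, a, ha, rfl⟩ ⟨_, b, hb, rfl⟩
      exact Subtype.ext (show e.symm a * e.symm b = e.symm b * e.symm a by
        rw [← map_mul, ← map_mul, (M24Syl.V.A_spec ha hb).2.1])
    · rintro _ ⟨a, ha, rfl⟩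
      show (e.symm a) ^ 2 = 1
      rw [pow_two, ← map_mul, (M24Syl.V.A_spec ha ha).1, map_one]
  · rw [← Nat.card_congr (M24Syl.V.subA.equivMapOfInjective _ e.symm.injective).toEquiv,
      M24Syl.V.card_subA]
  · have key : ∀ C : Subgroup (↥(P : Subgroup ↥Cfsg.M24) ⧸ Subgroup.center ↥(P : Subgroup ↥Cfsg.M24)), IsMulCommutative ↥C → Nat.card ↥C = 64 → C.map e.toMonoidHom = M24Syl.V.subA := by
      intro C hC hC'
      refine M24Syl.V.eq_subA _ ?_ ((hcard C).trans hC')
      rintro _ ⟨a, ha, rfl⟩ _ ⟨b, hb, rfl⟩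
      rw [← map_mul, ← map_mul, show a * b = b * a from congrArg Subtype.val (hC.is_comm.comm ⟨a, ha⟩ ⟨b, hb⟩)]
    exact Subgroup.map_injective e.injective ((key A hA hA').trans (key B hB hB').symm)

end Cfsg.Agent.S3171
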