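import Cfsg.Statements.S3175
import Cfsg.Agent.Lib.RuSylow.Structure

set_option autoImplicit false
open Cfsg

namespace Cfsg.Agent.S3175

/-- Let G be a finite group whose Sylow 2-subgroup T has order at least 2^14 and whose upper central series has fourth term of order 16; let W be the centralizer in T of the third term, and suppose the Frattini subgroup of W has order at most 8 and lies in every subgroup of W of index at most 16. Then the normalizer of T in G has a normal 2-complement, and W is weakly closed in T with respect to G. -/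
theorem result {G : Type*} [Group G] [Finite G]
    (T : Sylow 2 G) (ha : 2 ^ 14 ≤ Nat.card ↥(T : Subgroup G))
    (hb : Nat.card ↥(Subgroup.upperCentralSeries ↥(T : Subgroup G) 4) = 16)
    (W : Subgroup ↥(T : Subgroup G))
    (hW : W = Subgroup.centralizer ((Subgroup.upperCentralSeries ↥(T : Subgroup G) 3 : Subgroup ↥(T : Subgroup G)) : Set ↥(T : Subgroup G)))
    (hc : Nat.card ↥(frattini ↥W) ≤ 8)
    (hd : ∀ U : Subgroup ↥W, U.index ≤ 16 → frattini ↥W ≤ U) :
    Cfsg.HasNormalPComplement 2 ↥(Subgroup.normalizer ((T : Subgroup G) : Set G)) ∧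
      Cfsg.IsWeaklyClosed (W.map (T : Subgroup G).subtype) (T : Subgroup G) := by
  have h : RuSylow.Hyp ↥(T : Subgroup G) W := ⟨T.isPGroup', ha, hb, hW, hc, hd⟩
  refine ⟨?_, Subgroup.map_subtype_le W, fun g hg => ?_⟩
  · let N : Subgroup G := Subgroup.normalizer ((T : Subgroup G) : Set G)
    have hle : (T : Subgroup G) ≤ N := Subgroup.le_normalizer
    let S : Sylow 2 N := T.subtype hle
    haveI hSn : (S : Subgroup N).Normal := Subgroup.normal_in_normalizer
    have hodd : Odd (S : Subgroup N).index := by
      rw [← Nat.not_even_iff_odd, even_iff_two_dvd]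
      exact S.not_dvd_index
    have hcop : Nat.Coprime (Nat.card (S : Subgroup N)) (S : Subgroup N).index := by
      obtain ⟨k, hk⟩ := IsPGroup.iff_card.mp S.isPGroup'
      rw [hk]
      exact (Nat.coprime_two_left.mpr hodd).pow_left k
    obtain ⟨X, hX⟩ := Subgroup.exists_right_complement'_of_coprime hcop
    have hcard : Odd (Nat.card X) := hX.symm.index_eq_card ▸ hodd
    have hcomm : ∀ x ∈ X, ∀ t ∈ (S : Subgroup N), t * x = x * t := by
      intro x hx t ht
      have hd1 : orderOf (Subgroup.normalizerMonoidHom (T : Subgroup G) x) ∣ orderOf x :=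
        orderOf_map_dvd _ x
      have hd2 : orderOf x ∣ Nat.card X := Subgroup.orderOf_dvd_natCard X hx
      have h1 := RuSylow.mulAut_eq_one h _ (hcard.of_dvd_nat (hd1.trans hd2))
      have h2 := congrArg Subtype.val (DFunLike.congr_fun h1 ⟨(t : G), ht⟩)
      rw [MulAut.one_apply] at h2
      have h3 : (x : G) * t * (x : G)⁻¹ = t := h2
      exact Subtype.ext (mul_inv_eq_iff_eq_mul.mp h3).symm
    haveI : X.Normal := by
      rw [← Subgroup.normalizer_eq_top_iff, eq_top_iff, ← hX.sup_eq_top, sup_le_iff]
      refine ⟨fun t ht => ?_, Subgroup.le_normalizer⟩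
      rw [Subgroup.mem_normalizer_iff]
      intro x
      constructor
      · intro hx
        rwa [hcomm x hx t ht, mul_inv_cancel_right]
      · intro hx
        have := hcomm _ hx t ht
        rw [inv_mul_cancel_right] at this
        rwa [mul_left_cancel this] at hx
    exact ⟨S, X, this, hX.symm⟩
  · let ψ : W →* ↥(T : Subgroup G) :=
      ((MulAut.conj g).toMonoidHom.comp ((T : Subgroup G).subtype.comp W.subtype)).codRestrict _
        fun w => hg ⟨((w : ↥(T : Subgroup G)) : G), ⟨w, w.2, rfl⟩, rfl⟩
    have hψ : Function.Injective ψ := fun a b e => by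
      have := congrArg Subtype.val e
      exact Subtype.ext (Subtype.ext ((MulAut.conj g).injective this))
    have hr := RuSylow.range_eq_W h ψ hψ
    conv_rhs => rw [← hr]
    ext y
    constructor
    · rintro ⟨_, ⟨w, hw, rfl⟩, rfl⟩
      exact ⟨ψ ⟨w, hw⟩, ⟨⟨w, hw⟩, rfl⟩, rfl⟩
    · rintro ⟨_, ⟨w, rfl⟩, rfl⟩
      exact ⟨_, ⟨(w : ↥(T : Subgroup G)), w.2, rfl⟩, rfl⟩

end Cfsg.Agent.S3175
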