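import Cfsg.Statements.S3178
import Cfsg.Agent.Lib.Transfer.SmallFusion
import Cfsg.Agent.Lib.PGroup.CyclicMaximal

set_option autoImplicit false
open Cfsg

namespace Cfsg.Agent.S3178

/-- An element of odd order whose square centralises `x` centralises `x`. -/
theorem commute_of_sq {G : Type*} [Group G] {g x : G} (hg : (orderOf g).Coprime 2)
    (h : Commute (g ^ 2) x) : Commute g x := by
  obtain ⟨i, hi⟩ := Subgroup.mem_zpowers_iff.mp (mem_zpowers_pow_iff.mpr hg.symm)
  exact hi ▸ h.zpow_left i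

theorem hasNormalPComplement_modular {G : Type*} [Group G] [Finite G]
    (S : Sylow 2 G) (k : ℕ) (hS : Nat.card ↥(S : Subgroup G) = 2 ^ (k + 4))
    (a b : G) (ha : a ∈ (S : Subgroup G)) (hb : b ∈ (S : Subgroup G))
    (hao : orderOf a = 2 ^ (k + 3)) (hbo : orderOf b = 2)
    (hrel : b * a * b⁻¹ = a ^ (2 ^ (k + 2) + 1)) :
    Cfsg.HasNormalPComplement 2 G := by
  haveI : Fact (Nat.Prime 2) := ⟨Nat.prime_two⟩
  set q : ℤ := 2 ^ k with hq
  have hord : ∀ i : ℤ, a ^ i = 1 ↔ 8 * q ∣ i := fun i => by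
    rw [← orderOf_dvd_iff_zpow_eq_one, hao, hq]
    push_cast
    ring_nf
  have hb2 : b * b = 1 := by rw [← pow_two, ← hbo, pow_orderOf_eq_one]
  have hbinv : b⁻¹ = b := inv_eq_of_mul_eq_one_right hb2
  have hconj : ∀ i : ℤ, b * a ^ i * b⁻¹ = a ^ ((4 * q + 1) * i) := fun i => by
    refine PGroup.conj_zpow ?_ i
    rw [hrel, ← zpow_natCast, hq]
    push_cast
    ring_nf
  have hbcomm : ∀ i : ℤ, Commute (a ^ (2 * i)) b := fun i => by
    have h1 : b * a ^ (2 * i) * b⁻¹ = a ^ (2 * i) := by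
      rw [hconj, ← mul_inv_eq_one, ← zpow_sub, hord]
      exact ⟨i, by ring⟩
    exact (mul_inv_eq_iff_eq_mul.mp h1).symm
  set z := a ^ (4 * q) with hz
  have hz2 : z * z = 1 := by
    rw [hz, ← zpow_add, hord]
    exact ⟨1, by ring⟩
  have hq0 : 0 < q := by positivity
  have hz1 : z ≠ 1 := by
    rw [hz, Ne, hord]
    intro h
    have := Int.le_of_dvd (by omega) h
    omega
  have hbA : b ∉ Subgroup.zpowers a := by
    intro h
    obtain ⟨j, hj⟩ := Subgroup.mem_zpowers_iff.mp h
    refine hz1 ?_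
    have h1 := hconj 1
    rw [zpow_one, mul_one, ← hj] at h1
    have h2 : a ^ (4 * q + 1) = a ^ (1 : ℤ) := by rw [← h1]; group
    rw [hz, hord]
    have h3 : a ^ (4 * q + 1 - 1) = 1 := by rw [zpow_sub, h2, mul_inv_cancel]
    simpa using (hord _).mp h3
  have haS : Subgroup.zpowers a ≤ (S : Subgroup G) := Subgroup.zpowers_le.mpr ha
  have hidx : ((Subgroup.zpowers a).subgroupOf (S : Subgroup G)).index = 2 := by
    have h1 := Subgroup.card_mul_index ((Subgroup.zpowers a).subgroupOf (S : Subgroup G))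
    rw [hS, Nat.card_congr (Subgroup.subgroupOfEquivOfLe haS).toEquiv, Nat.card_zpowers, hao,
      show k + 4 = (k + 3) + 1 from rfl, pow_succ] at h1
    exact Nat.eq_of_mul_eq_mul_left (by positivity) h1
  have helts : ∀ y ∈ (S : Subgroup G), ∃ i : ℤ, y = a ^ i ∨ y = a ^ i * b := by
    intro y hy
    by_cases hyA : y ∈ Subgroup.zpowers a
    · obtain ⟨i, hi⟩ := Subgroup.mem_zpowers_iff.mp hyA
      exact ⟨i, Or.inl hi.symm⟩
    · have h1 := (Subgroup.mul_mem_iff_of_index_two hidx (a := ⟨y, hy⟩) (b := ⟨b, hb⟩)).mpr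
        (iff_of_false (fun h => hyA h) (fun h => hbA h))
      obtain ⟨i, hi⟩ := Subgroup.mem_zpowers_iff.mp (Subgroup.mem_subgroupOf.mp h1)
      refine ⟨i, Or.inr ?_⟩
      have e : y * b = a ^ i := hi.symm
      rw [← e, mul_assoc, hb2, mul_one]
  have hsqb : ∀ i : ℤ, a ^ i * b * (a ^ i * b) = a ^ ((4 * q + 2) * i) := fun i => by
    calc a ^ i * b * (a ^ i * b) = a ^ i * (b * a ^ i * b⁻¹) * (b * b) := by group
      _ = a ^ ((4 * q + 2) * i) := by
        rw [hconj, hb2, mul_one, ← zpow_add]; ring_nf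
  have hsq : ∀ y ∈ (S : Subgroup G), ∃ t : ℤ, y * y = a ^ (2 * t) := by
    intro y hy
    obtain ⟨i, rfl | rfl⟩ := helts y hy
    · exact ⟨i, by rw [← zpow_add, two_mul]⟩
    · exact ⟨(2 * q + 1) * i, by rw [hsqb]; ring_nf⟩
  have hzpow : ∀ i : ℤ, 4 * q ∣ i → a ^ i = 1 ∨ a ^ i = z := by
    rintro i ⟨t, rfl⟩
    rcases Int.even_or_odd t with ⟨s, rfl⟩ | ⟨s, rfl⟩
    · exact Or.inl ((hord _).mpr ⟨s, by ring⟩)
    · refine Or.inr ?_
      rw [hz, ← mul_inv_eq_one, ← zpow_sub, hord]
      exact ⟨s, by ring⟩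
  have hA2 : ∀ i : ℤ, a ^ i * a ^ i = 1 → a ^ i = 1 ∨ a ^ i = z := by
    intro i h
    rw [← zpow_add, hord] at h
    obtain ⟨t, ht⟩ := h
    exact hzpow i ⟨t, by linarith⟩
  have hinv : ∀ u ∈ (S : Subgroup G), u * u = 1 → u = 1 ∨ u = z ∨ u = b ∨ u = z * b := by
    intro u hu h
    obtain ⟨i, rfl | rfl⟩ := helts u hu
    · rcases hA2 i h with e | e
      · exact Or.inl e
      · exact Or.inr (Or.inl e)
    · rw [hsqb, hord] at h
      have h1 : 4 * q ∣ (2 * q + 1) * i := by
        obtain ⟨t, ht⟩ := h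
        exact ⟨t, by linarith⟩
      have h2 : 4 * q ∣ i :=
        IsCoprime.dvd_of_dvd_mul_left ⟨q, 1 - 2 * q, by ring⟩ h1
      rcases hzpow i h2 with e | e
      · exact Or.inr (Or.inr (Or.inl (by rw [e, one_mul])))
      · exact Or.inr (Or.inr (Or.inr (by rw [e])))
  have hzb : Commute z b := by
    rw [hz, show (4 * q : ℤ) = 2 * (2 * q) by ring]
    exact hbcomm _
  have hzS : z ∈ (S : Subgroup G) := zpow_mem ha _
  have hzcent : ∀ y ∈ (S : Subgroup G), Commute z y := by
    intro y hy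
    obtain ⟨i, rfl | rfl⟩ := helts y hy
    · exact (Commute.refl a).zpow_zpow _ _
    · exact ((Commute.refl a).zpow_zpow _ _).mul_right hzb
  -- `b` and `z * b` are not conjugate to `z`
  have hnf : ∀ u ∈ (S : Subgroup G), Commute u (a ^ (2 : ℤ)) → ∀ g : G, g * u * g⁻¹ = z → u = z := by
    intro u hu huc g hg
    set C := Subgroup.centralizer ({z} : Set G) with hC
    have hSC : (S : Subgroup G) ≤ C := fun y hy =>
      Subgroup.mem_centralizer_singleton_iff.mpr (hzcent y hy).symm.eq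
    set K := (Subgroup.zpowers u ⊔ Subgroup.zpowers (a ^ (2 : ℤ))).map (MulAut.conj g).toMonoidHom
    have hKC : K ≤ C := by
      rw [Subgroup.map_le_iff_le_comap, sup_le_iff, Subgroup.zpowers_le, Subgroup.zpowers_le]
      refine ⟨Subgroup.mem_centralizer_singleton_iff.mpr ?_,
        Subgroup.mem_centralizer_singleton_iff.mpr ?_⟩
      · show g * u * g⁻¹ * z = z * (g * u * g⁻¹)
        rw [hg]
      · show g * a ^ (2 : ℤ) * g⁻¹ * z = z * (g * a ^ (2 : ℤ) * g⁻¹)
        rw [← hg]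
        exact ((Commute.conj_iff g).mpr huc.symm).eq
    have hKp : IsPGroup 2 (K.subgroupOf C) := ((S.2.to_le (sup_le (Subgroup.zpowers_le.mpr hu)
      (Subgroup.zpowers_le.mpr (zpow_mem ha _)))).map _).comap_subtype
    obtain ⟨R, hR⟩ := hKp.exists_le_sylow
    obtain ⟨c, hc⟩ := MulAction.exists_smul_eq C R (S.subtype hSC)
    have hmem : ∀ y ∈ K, (c : G) * y * (c : G)⁻¹ ∈ (S : Subgroup G) := fun y hy =>
      Transfer.conj_mem_of_smul_eq hc (t := ⟨y, hKC hy⟩) (hR hy)
    set m := (c : G) * g with hm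
    have hcz : (c : G) * z * (c : G)⁻¹ = z :=
      mul_inv_eq_iff_eq_mul.mpr (Subgroup.mem_centralizer_singleton_iff.mp c.2)
    have hmu : m * u * m⁻¹ = z := by
      rw [← hcz, ← hg, hm]
      group
    have hy : m * a ^ (2 : ℤ) * m⁻¹ ∈ (S : Subgroup G) := by
      have := hmem _ ⟨_, Subgroup.mem_sup_right (Subgroup.mem_zpowers (a ^ (2 : ℤ))), rfl⟩
      convert this using 1
      simp [m, mul_assoc]
    obtain ⟨t, ht⟩ := hsq _ hy
    have hmz : m * z * m⁻¹ = a ^ (2 * t * q) := by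
      rw [zpow_mul, ← ht]
      calc m * z * m⁻¹ = m * (a ^ (2 : ℤ) * a ^ (2 : ℤ)) ^ q * m⁻¹ := by
            rw [hz, ← zpow_add, ← zpow_mul]; norm_num
        _ = (m * (a ^ (2 : ℤ) * a ^ (2 : ℤ)) * m⁻¹) ^ q := _root_.conj_zpow.symm
        _ = _ := by congr 1; group
    have h2 : a ^ (2 * t * q) = z := by
      have h3 : a ^ (2 * t * q) * a ^ (2 * t * q) = 1 := by
        rw [← hmz]
        calc m * z * m⁻¹ * (m * z * m⁻¹) = m * (z * z) * m⁻¹ := by group
          _ = 1 := by rw [hz2]; group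
      refine (hA2 _ h3).resolve_left fun h4 => hz1 ?_
      rw [← hmz] at h4
      exact conj_eq_one_iff.mp h4
    rw [h2, ← hmu] at hmz
    exact ((MulAut.conj m).injective (show MulAut.conj m z = MulAut.conj m u by
      simpa [hmu] using hmz)).symm
  have hzbne : z * b ≠ z := by
    intro h
    refine hbA ?_
    have e : b = 1 := mul_eq_left.mp h
    rw [e]
    exact one_mem _
  have hzbz : b ≠ z := fun h => hbA (h ▸ zpow_mem (Subgroup.mem_zpowers a) _)
  refine Transfer.hasNormalPComplement_of_centralizer S fun D hDS g hg hco => ?_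
  refine Transfer.mem_centralizer_of_fix_small_real D (S.2.to_le hDS) hg hco fun x hx hsm => ?_
  have hgD : ∀ y ∈ D, g * y * g⁻¹ ∈ D := fun y hy => (Subgroup.mem_normalizer_iff.mp hg y).mp hy
  have conj_sq : ∀ y : G, g * y * g⁻¹ * (g * y * g⁻¹) = g * (y * y) * g⁻¹ := fun y => by group
  -- `g` fixes `z`
  have hgz : z ∈ D → g * z * g⁻¹ = z := by
    intro hzD
    rcases hinv _ (hDS (hgD z hzD)) (by rw [conj_sq, hz2]; group) with h | h | h | h
    · exact absurd (conj_eq_one_iff.mp h) hz1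
    · exact h
    · refine absurd (hnf b hb ?_ g⁻¹ (by rw [← h]; group)) hzbz
      simpa using (hbcomm 1).symm
    · refine absurd (hnf (z * b) (mul_mem hzS hb) ?_ g⁻¹ (by rw [← h]; group)) hzbne
      exact ((Commute.refl a).zpow_zpow _ _).mul_left (by simpa using (hbcomm 1).symm)
  have hfixb : ∀ u, u = b ∨ u = z * b → u ∈ D → Commute g u := by
    intro u hu huD
    have huS := hDS huD
    have hu2 : u * u = 1 := by
      rcases hu with rfl | rfl
      · exact hb2
      · rw [mul_assoc, ← mul_assoc b, ← hzb.eq, mul_assoc z b, hb2, mul_one, hz2]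
    have hu1 : u ≠ 1 := by
      rcases hu with rfl | rfl
      · exact fun h => hbA (h ▸ one_mem _)
      · intro h
        refine hzbz ?_
        rw [eq_comm, ← mul_right_cancel_iff (a := b), hb2]
        exact h
    have huz : u ≠ z := by rcases hu with rfl | rfl; exacts [hzbz, hzbne]
    have huc : Commute u (a ^ (2 : ℤ)) := by
      rcases hu with rfl | rfl
      · simpa using (hbcomm 1).symm
      · exact ((Commute.refl a).zpow_zpow _ _).mul_left (by simpa using (hbcomm 1).symm)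
    have key : g * u * g⁻¹ = u ∨ (z ∈ D ∧ g * u * g⁻¹ = z * u) := by
      have hmem := hgD u huD
      rcases hinv _ (hDS hmem) (by rw [conj_sq, hu2]; group) with h | h | h | h
      · exact absurd (conj_eq_one_iff.mp h) hu1
      · exact absurd (hnf u huS huc g h) huz
      · rw [h] at hmem
        rcases hu with rfl | rfl
        · exact Or.inl h
        · refine Or.inr ⟨?_, ?_⟩
          · simpa [mul_assoc, hb2] using mul_mem huD hmem
          · rw [h, ← mul_assoc, hz2, one_mul]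
      · rw [h] at hmem
        rcases hu with rfl | rfl
        · refine Or.inr ⟨?_, h⟩
          simpa [mul_assoc, hb2] using mul_mem hmem huD
        · exact Or.inl h
    rcases key with h | ⟨hzD, h⟩
    · exact mul_inv_eq_iff_eq_mul.mp h
    · refine commute_of_sq hco (mul_inv_eq_iff_eq_mul.mp ?_)
      calc g ^ 2 * u * (g ^ 2)⁻¹ = g * (g * u * g⁻¹) * g⁻¹ := by rw [pow_two]; group
        _ = g * (z * u) * g⁻¹ := by rw [h]
        _ = (g * z * g⁻¹) * (g * u * g⁻¹) := by group
        _ = u := by rw [hgz hzD, h, ← mul_assoc, hz2, one_mul]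
  by_cases hx2 : x * x = 1
  · rcases hinv x (hDS hx) hx2 with rfl | rfl | rfl | rfl
    · exact Commute.one_right g
    · exact mul_inv_eq_iff_eq_mul.mp (hgz hx)
    · exact hfixb _ (Or.inl rfl) hx
    · exact hfixb _ (Or.inr rfl) hx
  obtain ⟨-, hx4, y, hy, hyx⟩ := hsm.resolve_left (fun h => hx2 (by rwa [pow_two] at h))
  have hnc : ¬ Commute x y := by
    intro h
    refine hx2 ?_
    have : y⁻¹ * x * y = x := by rw [mul_assoc, h.eq, ← mul_assoc, inv_mul_cancel, one_mul]
    rw [hyx] at this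
    rw [← mul_inv_cancel x, this]
  have hx4' : x * x * (x * x) = 1 := by rw [← pow_two, ← pow_two, ← pow_mul]; exact hx4
  -- the shape of `x` and of the inverting element
  obtain ⟨i, hxe | hxe⟩ := helts x (hDS hx)
  · exfalso
    have h8 : 2 * q ∣ i := by
      rw [hxe, ← zpow_add, ← zpow_add, hord] at hx4'
      obtain ⟨t, ht⟩ := hx4'
      exact ⟨t, by linarith⟩
    obtain ⟨s, rfl⟩ := h8
    obtain ⟨j, rfl | rfl⟩ := helts y (hDS hy)
    · exact hnc (hxe ▸ (Commute.refl a).zpow_zpow _ _)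
    · refine hnc (hxe ▸ ((Commute.refl a).zpow_zpow _ _).mul_right ?_)
      rw [show 2 * q * s = 2 * (q * s) by ring]
      exact hbcomm _
  have h8 : 2 * q ∣ i := by
    rw [hxe, hsqb, ← zpow_add, hord] at hx4'
    obtain ⟨t, ht⟩ := hx4'
    exact IsCoprime.dvd_of_dvd_mul_left ⟨-1, 1, by ring⟩
      (show 2 * q ∣ (2 * q + 1) * i from ⟨t, by linarith⟩)
  obtain ⟨s, rfl⟩ := h8
  set w := a ^ (2 * q * s) with hw
  have hwb : Commute w b := by
    rw [hw, show 2 * q * s = 2 * (q * s) by ring]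
    exact hbcomm _
  obtain ⟨j, hje⟩ := helts y (hDS hy)
  have hjodd : ¬ (2 : ℤ) ∣ j := by
    rintro ⟨m, rfl⟩
    apply hnc
    rw [hxe]
    rcases hje with rfl | rfl
    · exact ((Commute.refl a).zpow_zpow _ _).mul_left (hbcomm m).symm
    · exact (((Commute.refl a).zpow_zpow _ _).mul_left (hbcomm m).symm).mul_right
        (hwb.mul_left (Commute.refl b))
  obtain ⟨e, he, hye⟩ : ∃ e : ℤ, ¬ (2 : ℤ) ∣ e ∧ y * y = (a ^ (2 : ℤ)) ^ e := by
    rcases hje with rfl | rfl
    · exact ⟨j, hjodd, by rw [← zpow_mul, ← zpow_add, two_mul]⟩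
    · refine ⟨(2 * q + 1) * j, ?_, by rw [hsqb, ← zpow_mul]; ring_nf⟩
      intro h
      exact hjodd ((Int.prime_two.dvd_mul.mp h).resolve_left (by omega))
  have hcop : ∀ e : ℤ, ¬ (2 : ℤ) ∣ e → ∃ u : ℤ, ∀ m : ℤ, (a ^ (m * e)) ^ u = a ^ m := by
    intro e he
    obtain ⟨u, v, huv⟩ := ((Int.prime_two.coprime_iff_not_dvd.mpr he).symm.pow_right :
      IsCoprime e ((2 : ℤ) ^ (k + 3)))
    refine ⟨u, fun m => ?_⟩
    rw [← zpow_mul, ← mul_inv_eq_one, ← zpow_sub, hord]
    refine ⟨-(m * v), ?_⟩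
    rw [hq]
    linear_combination m * huv
  have ha2D : a ^ (2 : ℤ) ∈ D := by
    obtain ⟨u, hu⟩ := hcop e he
    rw [← hu 2]
    refine zpow_mem ?_ u
    rw [zpow_mul, ← hye]
    exact mul_mem hy hy
  have hwD : w ∈ D := by
    rw [hw, show 2 * q * s = 2 * (q * s) by ring, zpow_mul]
    exact zpow_mem ha2D _
  have hbD : b ∈ D := by
    have := mul_mem (inv_mem hwD) hx
    rwa [hxe, inv_mul_cancel_left] at this
  have haD : a ∈ D := by
    have hjD : a ^ j ∈ D := by
      rcases hje with rfl | rfl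
      · exact hy
      · simpa [mul_assoc, hb2] using mul_mem hy hbD
    obtain ⟨u, hu⟩ := hcop j hjodd
    have := zpow_mem hjD u
    rwa [show a ^ j = a ^ (1 * j) by rw [one_mul], hu 1, zpow_one] at this
  have hw4 : w * w * (w * w) = 1 := by
    rw [← hx4', hxe]
    rw [show w * b * (w * b) = w * (b * w) * b by group, ← hwb.eq,
      show w * (w * b) * b = w * w * (b * b) by group, hb2, mul_one]
  have hw2 : w * w ≠ 1 := by
    intro h
    apply hx2
    rw [hxe, show w * b * (w * b) = w * (b * w) * b by group, ← hwb.eq,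
      show w * (w * b) * b = w * w * (b * b) by group, hb2, mul_one, h]
  have hwz : w * w = z := by
    have h1 : w * w = a ^ (2 * q * s + 2 * q * s) := by rw [zpow_add]
    rw [h1] at hw4 hw2 ⊢
    exact (hA2 _ hw4).resolve_left hw2
  have hzD : z ∈ D := hwz ▸ mul_mem hwD hwD
  have hgb : Commute g b := hfixb b (Or.inl rfl) hbD
  -- the image of `w`
  have hgw : g * w * g⁻¹ = w ∨ g * w * g⁻¹ = z * w := by
    set w' := g * w * g⁻¹ with hw'
    have hw'D : w' ∈ D := hgD w hwD
    have hsq' : w' * w' = z := by rw [hw', conj_sq, hwz]; exact hgz hzD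
    have hwall : ∀ r ∈ (S : Subgroup G), Commute w r := by
      intro r hr
      obtain ⟨l, rfl | rfl⟩ := helts r hr
      · exact (Commute.refl a).zpow_zpow _ _
      · exact ((Commute.refl a).zpow_zpow _ _).mul_right hwb
    have hca : Commute w' a := by
      have h1 : Commute w (g⁻¹ * a * g) :=
        hwall _ (hDS ((Subgroup.mem_normalizer_iff''.mp hg a).mp haD))
      have h2 := (Commute.conj_iff g).mpr h1
      have e : g * (g⁻¹ * a * g) * g⁻¹ = a := by group
      rwa [e] at h2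
    obtain ⟨l, hl | hl⟩ := helts w' (hDS hw'D)
    · have h3 : (a ^ (l - 2 * q * s)) * a ^ (l - 2 * q * s) = 1 := by
        have e1 : a ^ (l - 2 * q * s) * a ^ (l - 2 * q * s) = w' * w' * (w * w)⁻¹ := by
          rw [hl, hw]
          simp only [mul_inv_rev, ← zpow_neg, ← zpow_add]
          congr 1
          ring
        rw [e1, hsq', hwz, mul_inv_cancel]
      rcases hA2 _ h3 with h | h
      · exact Or.inl (by rw [zpow_sub, mul_inv_eq_one] at h; rw [hl, h])
      · exact Or.inr (by rw [zpow_sub, mul_inv_eq_iff_eq_mul] at h; rw [hl, h])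
    · exfalso
      have h1 : Commute b a := by
        have h2 : b = (a ^ l)⁻¹ * w' := by rw [hl]; group
        rw [h2]
        exact ((Commute.refl a).zpow_left l).inv_left.mul_left hca
      have h2 := hconj 1
      rw [zpow_one, h1.eq, mul_inv_cancel_right, mul_one, eq_comm, ← mul_inv_eq_one,
        ← zpow_one a, ← zpow_mul, ← zpow_sub, hord] at h2
      obtain ⟨c, hc⟩ := h2
      have := Int.le_of_dvd (by omega) (⟨c, by linarith⟩ : (8 * q) ∣ 4 * q)
      omega
  rcases hgw with h | h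
  · rw [hxe]
    exact Commute.mul_right (mul_inv_eq_iff_eq_mul.mp h) hgb
  · rw [hxe]
    refine Commute.mul_right (commute_of_sq hco (mul_inv_eq_iff_eq_mul.mp ?_)) hgb
    calc g ^ 2 * w * (g ^ 2)⁻¹ = g * (g * w * g⁻¹) * g⁻¹ := by rw [pow_two]; group
      _ = g * (z * w) * g⁻¹ := by rw [h]
      _ = (g * z * g⁻¹) * (g * w * g⁻¹) := by group
      _ = w := by rw [hgz hzD, h, ← mul_assoc, hz2, one_mul]

/-- Groups with a modular Sylow 2-subgroup have a normal 2-complement. Let S, of order 2^(n+1) with n ≥ 3, be a Sylow 2-subgroup of a finite group G, and suppose S contains an element a of order 2^n and an involution b with b a b⁻¹ = a^(2^(n-1) + 1); so S is the non-abelian 2-group with a cyclic subgroup of index 2 that is neither dihedral, semidihedral nor generalized quaternion. Then G has a normal 2-complement. -/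
theorem result {G : Type*} [Group G] [Finite G]
    (S : Sylow 2 G) (n : ℕ) (hn : 3 ≤ n) (hS : Nat.card ↥(S : Subgroup G) = 2 ^ (n + 1))
    (a b : G) (ha : a ∈ (S : Subgroup G)) (hb : b ∈ (S : Subgroup G))
    (hao : orderOf a = 2 ^ n) (hbo : orderOf b = 2) (hrel : b * a * b⁻¹ = a ^ (2 ^ (n - 1) + 1)) :
    Cfsg.HasNormalPComplement 2 G := by
  obtain ⟨k, rfl⟩ : ∃ k, n = k + 3 := ⟨n - 3, by omega⟩
  exact hasNormalPComplement_modular S k hS a b ha hb hao hbo hrel

end Cfsg.Agent.S3178
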