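import Cfsg.Statements.S3179
import Cfsg.Agent.Lib.Sz.Lie
import Cfsg.Agent.Lib.Forms.HermCenter
import Cfsg.Agent.Lib.PSL2.Classes
import Cfsg.Agent.Lib.GL.ElementOrders

set_option autoImplicit false
open Cfsg

namespace Cfsg.Agent.S3179

theorem card_GL52 : Nat.card (GL (Fin 5) (ZMod 2)) = 9999360 := by
  rw [Matrix.card_GL_field]
  simp [Fin.prod_univ_five, ZMod.card]

theorem card_dvd {H : Subgroup (GL (Fin 5) (ZMod 2))} (K : Subgroup ↥H) :
    Nat.card (↥H ⧸ K) ∣ 9999360 :=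
  card_GL52 ▸ (Subgroup.card_quotient_dvd_card K).trans H.card_subgroup_dvd_card

theorem pow_26040 (A : GL (Fin 5) (ZMod 2)) : A ^ 26040 = 1 := by
  refine GL.pow_eq_one_of_exponent (p := 2) (e := 3) (L := 3255) (by simp) (fun d h1 h2 => ?_) A
  simp only [Fintype.card_fin] at h2
  interval_cases d <;> norm_num [ZMod.card]

theorem le_of_pow_dvd {k : ℕ} (h : 2 ^ k ∣ 9999360) : k ≤ 10 := by
  by_contra hk
  exact absurd ((pow_dvd_pow 2 (by omega : 11 ≤ k)).trans h) (by norm_num)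

/-- Let X be a section of the general linear group GL(5, 2), that is, a quotient of a subgroup of it. If X is isomorphic to PSL(2, 2^n) for some n ≥ 2, to a Suzuki group over the field with 2^(2m+1) elements for some m ≥ 1, or to PSU(3, 2^n) for some n ≥ 2, then X is isomorphic to PSL(2, 4). -/
theorem result {H : Subgroup (GL (Fin 5) (ZMod 2))}
    {K : Subgroup ↥H} [K.Normal]
    (hX : (∃ (n : ℕ) (F : Type) (_ : Field F) (_ : Fintype F), 2 ≤ n ∧ Fintype.card F = 2 ^ n ∧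
        Nonempty (↥H ⧸ K ≃* Matrix.ProjectiveSpecialLinearGroup (Fin 2) F)) ∨
      (∃ (m : ℕ) (F : Type) (_ : Field F) (_ : Fintype F), 1 ≤ m ∧ Fintype.card F = 2 ^ (2 * m + 1) ∧
        Nonempty (↥H ⧸ K ≃* ↥(Cfsg.Lie.Sz F (2 ^ (m + 1))))) ∨
      (∃ (n : ℕ) (F : Type) (_ : Field F) (_ : Fintype F), 2 ≤ n ∧ Fintype.card F = 4 ^ n ∧
        Nonempty (↥H ⧸ K ≃* Cfsg.PSU 3 F (2 ^ n)))) :
    ∃ (F : Type) (_ : Field F) (_ : Fintype F), Fintype.card F = 4 ∧
      Nonempty (↥H ⧸ K ≃* Matrix.ProjectiveSpecialLinearGroup (Fin 2) F) := by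
  have hdvd := card_dvd K
  rcases hX with ⟨n, F, _, _, hn, hF, ⟨e⟩⟩ | ⟨m, F, _, _, hm, hF, ⟨e⟩⟩ | ⟨n, F, _, _, hn, hF, ⟨e⟩⟩
  · have h2 : (2 : F) = 0 :=
      PSL2.even_card_iff.1 (hF ▸ Nat.even_pow.2 ⟨even_two, by omega⟩)
    rw [Nat.card_congr e.toEquiv, PSL2.card_PSL_of_two_eq_zero h2, hF] at hdvd
    have hn10 : n ≤ 10 := le_of_pow_dvd ((dvd_mul_right _ _).trans hdvd)
    interval_cases n
    · exact ⟨F, inferInstance, inferInstance, hF, ⟨e⟩⟩
    · exfalso
      haveI : CharP F 2 := CharTwo.of_one_ne_zero_of_two_eq_zero one_ne_zero h2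
      obtain ⟨g, h4, hc⟩ := PSL2.exists_torus_card_add_one F
      obtain ⟨x, hx⟩ := PSL2.exists_orderOf_of_dvd_torus h4 (m := 9) (by rw [hc, hF]; norm_num)
      obtain ⟨y, hy⟩ := QuotientGroup.mk_surjective (e.symm x)
      have hy' : (e.symm x) ^ 26040 = 1 := by
        rw [← hy, ← QuotientGroup.mk_pow,
          show y ^ 26040 = 1 from Subtype.ext (pow_26040 _)]
        rfl
      have : orderOf (e.symm x) ∣ 26040 := orderOf_dvd_of_pow_eq_one hy'
      rw [MulEquiv.orderOf_eq, hx] at this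
      norm_num at this
    all_goals norm_num at hdvd
  · exfalso
    rw [Nat.card_congr e.toEquiv, SZ.card_LieSz hm hF, hF] at hdvd
    have hm10 : (2 * m + 1) * 2 ≤ 10 :=
      le_of_pow_dvd (((pow_mul 2 _ _).dvd.trans (dvd_mul_right _ _)).trans ((dvd_mul_right _ _).trans hdvd))
    have : m ≤ 2 := by omega
    interval_cases m <;> norm_num at hdvd
  · exfalso
    have hq : Fintype.card F = (2 ^ n) ^ 2 := by rw [hF, ← pow_mul, mul_comm, pow_mul]; norm_num
    have hU := Forms.card_PSU_mul hq (n := 3) (by norm_num)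
    rw [Forms.card_GU hq 3, ← Nat.card_congr e.toEquiv] at hU
    have hq3 : 2 ^ (3 * n) ∣ Nat.card (↥H ⧸ K) := by
      have hcop : Nat.Coprime (2 ^ (3 * n)) (Nat.gcd 3 (2 ^ n + 1) * (2 ^ n + 1)) := by
        have hodd : Odd (2 ^ n + 1) := (Nat.even_pow.2 ⟨even_two, by omega⟩).add_one
        exact (Nat.coprime_two_left.2
          ((hodd.of_dvd_nat (Nat.gcd_dvd_right _ _)).mul hodd)).pow_left _
      refine hcop.dvd_of_dvd_mul_left ?_
      rw [mul_assoc, hU]
      refine Dvd.dvd.mul_right ?_ _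
      rw [← pow_mul, mul_comm n]
    have hn10 := le_of_pow_dvd (hq3.trans hdvd)
    have : n ≤ 3 := by omega
    interval_cases n <;>
    · simp [Finset.prod_range_succ, Nat.even_iff] at hU
      obtain ⟨k, hk⟩ := hdvd
      generalize Nat.card (↥H ⧸ K) = c at hU hk
      have : c = 62400 ∨ c = 5515776 := by omega
      rcases this with rfl | rfl <;> omega

end Cfsg.Agent.S3179
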