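import Cfsg.Statements.S3183
import Mathlib
set_option linter.style.haveILetI false
-- import your own Cfsg.Agent.* helpers here

set_option autoImplicit false
open Cfsg

namespace Cfsg.Agent.S3183

lemma mem_map_center {G : Type*} [Group G] {S : Subgroup G} {x : G} :
    x ∈ (Subgroup.center ↥S).map S.subtype ↔ x ∈ S ∧ ∀ s ∈ S, s * x = x * s := by
  constructor
  · rintro ⟨y, hy, rfl⟩
    exact ⟨y.2, fun s hs => congrArg Subtype.val (Subgroup.mem_center_iff.1 hy ⟨s, hs⟩).symm |>.symm⟩
  · rintro ⟨hx, h⟩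
    exact ⟨⟨x, hx⟩, Subgroup.mem_center_iff.2 (fun s => Subtype.ext (h s s.2)), rfl⟩

/-- 2-elements normalising `D` centralise it, if `C(D)` contains a Sylow 2-subgroup. -/
lemma mem_centralizer_of_mem_normalizer {G : Type*} [Group G] [Finite G] (U : Sylow 2 G)
    (D : Subgroup G) (hU : (U : Subgroup G) ≤ Subgroup.centralizer (D : Set G))
    {g : G} (hg : g ∈ Subgroup.normalizer (D : Set G)) {k : ℕ} (hk : g ^ 2 ^ k = 1) :
    g ∈ Subgroup.centralizer (D : Set G) := by
  set N := Subgroup.normalizer (D : Set G) with hN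
  set C := Subgroup.centralizer (D : Set G) with hC
  have hCN : C ≤ N := by
    intro c hc
    rw [hN, Subgroup.mem_normalizer_iff]
    intro d
    constructor
    · intro hd
      rw [← hc d hd, mul_assoc, mul_inv_cancel, mul_one]; exact hd
    · intro hd
      have h := hc _ hd
      have : d = c * d * c⁻¹ := by
        have h2 : c * d = c * (c * d * c⁻¹) := by rw [← h]; group
        exact mul_left_cancel h2
      rwa [this]
  haveI : (C.subgroupOf N).Normal := by
    constructor
    intro c hc n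
    rw [Subgroup.mem_subgroupOf] at hc ⊢
    intro d hd
    have hd' : (n : G)⁻¹ * d * (n : G) ∈ D := by
      have hn : (n : G)⁻¹ ∈ N := N.inv_mem n.2
      simpa using (Subgroup.mem_normalizer_iff.1 hn d).1 hd
    have := hc _ hd'
    calc d * ((n * c * n⁻¹ : N) : G) = (n : G) * (((n : G)⁻¹ * d * (n : G)) * (c : G)) * (n : G)⁻¹ := by
          simp only [Subgroup.coe_mul, Subgroup.coe_inv]; group
      _ = (n : G) * ((c : G) * ((n : G)⁻¹ * d * (n : G))) * (n : G)⁻¹ := by rw [this]
      _ = ((n * c * n⁻¹ : N) : G) * d := by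
          simp only [Subgroup.coe_mul, Subgroup.coe_inv]; group
  have hodd : ¬ 2 ∣ C.relIndex N := by
    intro h
    have h1 : C.relIndex N ∣ C.index := Dvd.intro N.index (Subgroup.relIndex_mul_index hCN)
    exact U.not_dvd_index ((h.trans h1).trans (Subgroup.index_dvd_of_le hU))
  by_contra hne
  set q : N ⧸ C.subgroupOf N := QuotientGroup.mk' _ ⟨g, hg⟩ with hq
  have h1 : orderOf q ∣ 2 ^ k := by
    apply orderOf_dvd_of_pow_eq_one
    rw [hq, ← map_pow]
    have : (⟨g, hg⟩ : N) ^ 2 ^ k = 1 := Subtype.ext (by simpa using hk)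
    rw [this, map_one]
  have h2 : orderOf q ∣ C.relIndex N := by
    rw [Subgroup.relIndex, Subgroup.index_eq_card]; exact orderOf_dvd_natCard q
  obtain ⟨i, _, hi⟩ := (Nat.dvd_prime_pow Nat.prime_two).1 h1
  rcases Nat.eq_zero_or_pos i with h0 | h0
  · rw [h0, pow_zero, orderOf_eq_one_iff] at hi
    exact hne (Subgroup.mem_subgroupOf.1 ((QuotientGroup.eq_one_iff (N := C.subgroupOf N) ⟨g, hg⟩).1 hi))
  · exact hodd ((dvd_pow_self 2 (by omega : i ≠ 0)).trans (hi ▸ h2))

/-- a full Sylow subgroup of `G` inside `C`, containing a given 2-subgroup of `C`. -/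
lemma exists_sylow_le {G : Type*} [Group G] [Finite G] (C : Subgroup G) (U : Sylow 2 G)
    (hU : (U : Subgroup G) ≤ C) (P : Subgroup G) (hP : P ≤ C) (hPp : IsPGroup 2 ↥P) :
    ∃ W : Sylow 2 G, P ≤ (W : Subgroup G) ∧ (W : Subgroup G) ≤ C := by
  obtain ⟨Q, hQ⟩ := (hPp.comap_subtype : IsPGroup 2 ↥(P.subgroupOf C)).exists_le_sylow
  obtain ⟨W, hW⟩ := (Q.2.map C.subtype).exists_le_sylow
  have hUQ : Nat.card ↥(U : Subgroup G) ≤ Nat.card ↥((Q : Subgroup C).map C.subtype) := by
    rw [Subgroup.card_map_of_injective C.subtype_injective]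
    obtain ⟨Q', hQ'⟩ := (U.2.comap_subtype : IsPGroup 2 ↥((U : Subgroup G).subgroupOf C)).exists_le_sylow
    rw [Sylow.card_eq_multiplicity Q, ← Sylow.card_eq_multiplicity Q',
      ← Nat.card_congr (Subgroup.subgroupOfEquivOfLe hU).toEquiv]
    exact Nat.card_le_card_of_injective _ (Subgroup.inclusion_injective hQ')
  have heq : (W : Subgroup G) = (Q : Subgroup C).map C.subtype := by
    refine (Subgroup.eq_of_le_of_card_ge hW ?_).symm
    rwa [Sylow.card_eq_multiplicity W, ← Sylow.card_eq_multiplicity U]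
  refine ⟨W, ?_, ?_⟩
  · rw [heq]
    intro x hx
    exact ⟨⟨x, hP hx⟩, hQ (Subgroup.mem_subgroupOf.2 hx), rfl⟩
  · rw [heq]; exact Subgroup.map_subtype_le _

theorem inf_central {G : Type*} [Group G] [Finite G]
    (hCI : ∀ S T : Sylow 2 G, S ≠ T → ∃ U : Sylow 2 G,
      (S : Subgroup G) ⊓ (T : Subgroup G) ≤ (Subgroup.center ↥(U : Subgroup G)).map (U : Subgroup G).subtype)
    (D : Subgroup G) : ∀ S T : Sylow 2 G, S ≠ T → (S : Subgroup G) ⊓ (T : Subgroup G) = D →
      (S : Subgroup G) ≤ Subgroup.centralizer (D : Set G) := by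
  induction D using WellFoundedGT.induction with
  | _ D ih =>
    intro S T hST hD
    by_contra hnot
    obtain ⟨U, hU⟩ := hCI S T hST
    rw [hD] at hU
    have hUC : (U : Subgroup G) ≤ Subgroup.centralizer (D : Set G) := by
      intro u hu d hd
      exact ((mem_map_center.1 (hU hd)).2 u hu).symm
    have hDC : D ≤ Subgroup.centralizer (D : Set G) := fun d hd => hUC (mem_map_center.1 (hU hd)).1
    have hDS : D ≤ (S : Subgroup G) := hD ▸ inf_le_left
    have hne : D.subgroupOf (S : Subgroup G) ≠ ⊤ := by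
      rw [Ne, Subgroup.subgroupOf_eq_top]
      intro h
      apply hST
      apply Sylow.ext
      refine le_antisymm ?_ ?_
      · exact (h.trans (hD ▸ inf_le_right))
      · have hle : (S : Subgroup G) ≤ (T : Subgroup G) := h.trans (hD ▸ inf_le_right)
        exact le_of_eq (S.3 T.2 hle)
    haveI : Group.IsNilpotent ↥(S : Subgroup G) := S.2.isNilpotent
    obtain ⟨g, hgN, hgD⟩ := SetLike.exists_of_lt
      ((Group.normalizerCondition_of_isNilpotent (G := ↥(S : Subgroup G))) _ (lt_top_iff_ne_top.2 hne))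
    have hgD' : (g : G) ∉ D := fun h => hgD (Subgroup.mem_subgroupOf.2 h)
    have hgn : (g : G) ∈ Subgroup.normalizer (D : Set G) := by
      rw [Subgroup.mem_normalizer_iff]
      intro d
      constructor
      · intro hd
        have := (Subgroup.mem_normalizer_iff.1 hgN ⟨d, hDS hd⟩).1 (Subgroup.mem_subgroupOf.2 hd)
        simpa [Subgroup.mem_subgroupOf] using this
      · intro hd
        have hdS : (g : G)⁻¹ * ((g : G) * d * (g : G)⁻¹) * (g : G) ∈ (S : Subgroup G) :=
          mul_mem (mul_mem (inv_mem g.2) (hDS hd)) g.2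
        have he : (g : G)⁻¹ * ((g : G) * d * (g : G)⁻¹) * (g : G) = d := by group
        rw [he] at hdS
        have := (Subgroup.mem_normalizer_iff.1 hgN ⟨d, hdS⟩).2
        simpa [Subgroup.mem_subgroupOf] using this (by simpa [Subgroup.mem_subgroupOf] using hd)
    obtain ⟨k, hk⟩ := S.2 g
    have hgC := mem_centralizer_of_mem_normalizer U D hUC hgn (k := k) (by
      simpa using congrArg Subtype.val hk)
    obtain ⟨R, hR1, hR2⟩ := exists_sylow_le _ U hUC
      ((S : Subgroup G) ⊓ Subgroup.centralizer (D : Set G)) inf_le_right (S.2.to_le inf_le_left)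
    have hRS : S ≠ R := fun h => hnot (h ▸ hR2)
    have hlt : D < (S : Subgroup G) ⊓ (R : Subgroup G) := by
      refine lt_of_le_not_ge (le_inf hDS ((le_inf hDS hDC).trans hR1)) (fun h => hgD' (h ⟨g.2, hR1 ⟨g.2, hgC⟩⟩))
    have := ih _ hlt S R hRS rfl
    exact hnot (this.trans (Subgroup.centralizer_le (SetLike.coe_subset_coe.2 hlt.le)))

/-- Let G be a finite group in which the intersection of any two distinct Sylow 2-subgroups is contained in the centre of some Sylow 2-subgroup, and let S be a Sylow 2-subgroup. Then for every x in S the centralizer of x in S is a Sylow 2-subgroup of the centralizer of x in G (no 2-subgroup centralizing x is larger), and for every other Sylow 2-subgroup T the intersection S ∩ T lies in both the centre of S and the centre of T. -/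
theorem result {G : Type*} [Group G] [Finite G]
    (hCI : ∀ S T : Sylow 2 G, S ≠ T → ∃ U : Sylow 2 G,
      (S : Subgroup G) ⊓ (T : Subgroup G) ≤ (Subgroup.center ↥(U : Subgroup G)).map (U : Subgroup G).subtype)
    (S : Sylow 2 G) :
    (∀ x ∈ (S : Subgroup G), ∀ P : Subgroup G, IsPGroup 2 ↥P → P ≤ Subgroup.centralizer ({x} : Set G) →
        Nat.card ↥P ≤ Nat.card ↥((S : Subgroup G) ⊓ Subgroup.centralizer ({x} : Set G))) ∧
    (∀ T : Sylow 2 G, T ≠ S →
        (S : Subgroup G) ⊓ (T : Subgroup G) ≤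
          (Subgroup.center ↥(S : Subgroup G)).map (S : Subgroup G).subtype ⊓
            (Subgroup.center ↥(T : Subgroup G)).map (T : Subgroup G).subtype) := by
  have key : ∀ A B : Sylow 2 G, A ≠ B → ∀ d ∈ (A : Subgroup G) ⊓ (B : Subgroup G),
      d ∈ (Subgroup.center ↥(A : Subgroup G)).map (A : Subgroup G).subtype := fun A B h d hd =>
    mem_map_center.2 ⟨hd.1, fun s hs => (inf_central hCI _ A B h rfl hs d hd).symm⟩
  refine ⟨?_, fun T hT d hd => ⟨key S T (Ne.symm hT) d hd, key T S hT d ⟨hd.2, hd.1⟩⟩⟩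
  intro x hx P hP hPC
  set C := Subgroup.centralizer ({x} : Set G) with hC
  by_cases hcentral : x ∈ (Subgroup.center ↥(S : Subgroup G)).map (S : Subgroup G).subtype
  · have hSC : (S : Subgroup G) ≤ C := fun s hs =>
      Subgroup.mem_centralizer_singleton_iff.2 ((mem_map_center.1 hcentral).2 s hs)
    rw [inf_eq_left.2 hSC]
    obtain ⟨W, hW⟩ := hP.exists_le_sylow
    rw [Sylow.card_eq_multiplicity S, ← Sylow.card_eq_multiplicity W]
    exact Nat.card_le_card_of_injective _ (Subgroup.inclusion_injective hW)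
  · obtain ⟨Q, hQ⟩ := ((S.2.to_le inf_le_left).comap_subtype :
      IsPGroup 2 ↥(((S : Subgroup G) ⊓ C).subgroupOf C)).exists_le_sylow
    obtain ⟨W, hW⟩ := (Q.2.map C.subtype).exists_le_sylow
    have hxC : x ∈ C := Subgroup.mem_centralizer_singleton_iff.2 rfl
    have hxW : x ∈ (W : Subgroup G) :=
      hW ⟨⟨x, hxC⟩, hQ (Subgroup.mem_subgroupOf.2 ⟨hx, hxC⟩), rfl⟩
    have hWS : W = S := by
      by_contra h
      exact hcentral (key S W (Ne.symm h) x ⟨hx, hxW⟩)
    subst hWS
    obtain ⟨Q', hQ'⟩ := (hP.comap_subtype : IsPGroup 2 ↥(P.subgroupOf C)).exists_le_sylow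
    calc Nat.card P = Nat.card (P.subgroupOf C) := (Nat.card_congr (Subgroup.subgroupOfEquivOfLe hPC).toEquiv).symm
      _ ≤ Nat.card (Q' : Subgroup C) := Nat.card_le_card_of_injective _ (Subgroup.inclusion_injective hQ')
      _ = Nat.card ((Q : Subgroup C).map C.subtype) := by
          rw [Subgroup.card_map_of_injective C.subtype_injective, Sylow.card_eq_multiplicity Q, Sylow.card_eq_multiplicity Q']
      _ ≤ _ := Nat.card_le_card_of_injective _ (Subgroup.inclusion_injective
          (le_inf hW (Subgroup.map_subtype_le _)))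

end Cfsg.Agent.S3183
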