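import Cfsg.Agent.S3183
import Cfsg.Agent.Lib.Transfer.Fusion
import Cfsg.Agent.Lib.PCore.Basic
import Mathlib
set_option linter.style.haveILetI false

set_option autoImplicit false
set_option linter.unusedSectionVars false
open Cfsg

namespace Cfsg.Agent.S3184

variable {G : Type*} [Group G] [Finite G]

lemma char_cyclic_fixed {S : Type*} [Group S] [Finite S] {C : Subgroup S} (hCc : IsCyclic C) (hCh : C.Characteristic)
    {c : S} (hc : c ∈ C) (hc2 : orderOf c = 2) (φ : S ≃* S) : φ c = c := by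
  classical
  haveI : Fintype C := Fintype.ofFinite C
  have hmem : φ c ∈ C := Subgroup.characteristic_iff_map_le.1 hCh φ (Subgroup.mem_map_of_mem _ hc)
  have hcard := IsCyclic.card_orderOf_eq_totient (α := C) (d := 2) (by
    rw [← hc2, ← Nat.card_eq_fintype_card]
    exact C.orderOf_dvd_natCard hc)
  rw [show Nat.totient 2 = 1 from rfl, Finset.card_eq_one] at hcard
  obtain ⟨a, ha⟩ := hcard
  have h1 : (⟨c, hc⟩ : C) = a := by
    have : (⟨c, hc⟩ : C) ∈ ({a} : Finset C) := ha ▸ (Finset.mem_filter.2 ⟨Finset.mem_univ _, by rw [Subgroup.orderOf_mk]; exact hc2⟩)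
    simpa using this
  have h2 : (⟨φ c, hmem⟩ : C) = a := by
    have : (⟨φ c, hmem⟩ : C) ∈ ({a} : Finset C) := ha ▸ (Finset.mem_filter.2 ⟨Finset.mem_univ _, by rw [Subgroup.orderOf_mk, MulEquiv.orderOf_eq]; exact hc2⟩)
    simpa using this
  exact congrArg Subtype.val (h2.trans h1.symm)

theorem isolated
    (hCI : ∀ S T : Sylow 2 G, S ≠ T → ∃ U : Sylow 2 G,
      (S : Subgroup G) ⊓ (T : Subgroup G) ≤ (Subgroup.center ↥(U : Subgroup G)).map (U : Subgroup G).subtype)
    (S : Sylow 2 G) (C : Subgroup ↥(S : Subgroup G)) (hCc : IsCyclic ↥C) (hCh : C.Characteristic)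
    (c : ↥(S : Subgroup G)) (hc : c ∈ C) (hc2 : orderOf c = 2) (g : G) (hg : g * (c : G) * g⁻¹ ∈ (S : Subgroup G)) :
    g * (c : G) * g⁻¹ = c := by
  haveI : Fact (Nat.Prime 2) := ⟨Nat.prime_two⟩
  have hcent : ∀ s : ↥(S : Subgroup G), s * c = c * s := fun s => by
    have := char_cyclic_fixed hCc hCh hc hc2 (MulAut.conj s)
    exact mul_inv_eq_iff_eq_mul.1 (by simpa using this)
  have hcS : (c : G) ∈ Subgroup.centralizer ((S : Subgroup G) : Set G) :=
    fun s hs => congrArg Subtype.val (hcent ⟨s, hs⟩)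
  set x := g * (c : G) * g⁻¹ with hx
  set P := (g • S : Sylow 2 G) with hP
  have hPx : (P : Subgroup G) ≤ Subgroup.centralizer ({x} : Set G) := by
    rintro _ ⟨s, hs, rfl⟩
    rw [Subgroup.mem_centralizer_singleton_iff]
    have := hcS s hs
    show g * s * g⁻¹ * (g * c * g⁻¹) = g * c * g⁻¹ * (g * s * g⁻¹)
    calc g * s * g⁻¹ * (g * c * g⁻¹) = g * (s * c) * g⁻¹ := by group
      _ = g * (c * s) * g⁻¹ := by rw [this]
      _ = _ := by group
  have hcard := (S3183.result hCI S).1 x hg P P.2 hPx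
  rw [Sylow.card_eq_multiplicity P, ← Sylow.card_eq_multiplicity S] at hcard
  have hSx : (S : Subgroup G) ⊓ Subgroup.centralizer ({x} : Set G) = S :=
    Subgroup.eq_of_le_of_card_ge inf_le_left hcard
  have hxS : x ∈ Subgroup.centralizer ((S : Subgroup G) : Set G) := fun s hs =>
    Subgroup.mem_centralizer_singleton_iff.1 (hSx.symm.le hs).2
  obtain ⟨n, hn, he⟩ := Transfer.exists_sylow_normalizer_conj_eq S {(c : G)} g
    (by simpa using hcS) (by simpa [hx] using hxS)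
  rw [hx, ← he _ rfl]
  have hmem : ∀ s ∈ (S : Subgroup G), n * s * n⁻¹ ∈ (S : Subgroup G) ∧ n⁻¹ * s * n ∈ (S : Subgroup G) := fun s hs =>
    ⟨(Subgroup.mem_normalizer_iff.1 hn s).1 hs, (Subgroup.mem_normalizer_iff''.1 hn s).1 hs⟩
  let φ : ↥(S : Subgroup G) ≃* ↥(S : Subgroup G) :=
    { toFun := fun s => ⟨n * s * n⁻¹, (hmem s s.2).1⟩
      invFun := fun s => ⟨n⁻¹ * s * n, (hmem s s.2).2⟩
      left_inv := fun s => by ext; simp [mul_assoc]
      right_inv := fun s => by ext; simp [mul_assoc]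
      map_mul' := fun a b => by ext; simp [mul_assoc] }
  exact congrArg Subtype.val (char_cyclic_fixed hCc hCh hc hc2 φ)

theorem of_zStar {c : G} (hN : ∃ N : Subgroup G, N.Normal ∧ Odd (Nat.card N) ∧ ∀ g : G, (c * g * c⁻¹ * g⁻¹) ∈ N)
    (g : G) : (QuotientGroup.mk (s := Cfsg.oddCore G) (g * c * g⁻¹)) = QuotientGroup.mk (s := Cfsg.oddCore G) c := by
  obtain ⟨N, hn, hodd, hcomm⟩ := hN
  rw [QuotientGroup.eq]
  refine PCore.le_oddCore hodd ?_
  have h := hn.conj_mem _ (N.inv_mem (hn.conj_mem _ (hcomm g) c⁻¹)) 1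
  have e : (g * c * g⁻¹)⁻¹ * c = c⁻¹ * (c * g * c⁻¹ * g⁻¹) * c := by group
  rw [e]
  have := hn.conj_mem _ (hcomm g) c⁻¹
  simpa using this

end Cfsg.Agent.S3184
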