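import Cfsg.Statements.S3190
import Mathlib
import Cfsg.Agent.Lib.Coprime.Commutator
import Cfsg.Agent.Lib.PGroup.Basic
set_option linter.style.haveILetI false
-- import your own Cfsg.Agent.* helpers here

set_option autoImplicit false
open Cfsg

namespace Cfsg.Agent.S3190

variable {X : Type*} [Group X]

lemma mem_zc {R : Subgroup X} {x : X} :
    x ∈ (Subgroup.center ↥R).map R.subtype ↔ x ∈ R ∧ ∀ r ∈ R, r * x = x * r := by
  constructor
  · rintro ⟨y, hy, rfl⟩
    exact ⟨y.2, fun r hr => congrArg Subtype.val (Subgroup.mem_center_iff.1 hy ⟨r, hr⟩)⟩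
  · rintro ⟨hx, h⟩
    exact ⟨⟨x, hx⟩, Subgroup.mem_center_iff.2 (fun r => Subtype.ext (h r r.2)), rfl⟩

lemma normalizer_le_normalizer_zc (R : Subgroup X) :
    Subgroup.normalizer (R : Set X) ≤ Subgroup.normalizer (((Subgroup.center ↥R).map R.subtype : Subgroup X) : Set X) := by
  have step : ∀ g ∈ Subgroup.normalizer (R : Set X), ∀ z ∈ (Subgroup.center ↥R).map R.subtype,
      g * z * g⁻¹ ∈ (Subgroup.center ↥R).map R.subtype := by
    intro g hg z hz
    rw [mem_zc] at hz ⊢
    refine ⟨(Subgroup.mem_normalizer_iff.1 hg z).1 hz.1, fun r hr => ?_⟩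
    have hr' : g⁻¹ * r * g ∈ R := by
      have := (Subgroup.mem_normalizer_iff.1 (inv_mem hg) r).1 hr
      simpa using this
    have := congrArg (fun t => g * t * g⁻¹) (hz.2 _ hr')
    simpa [mul_assoc] using this
  intro g hg
  rw [Subgroup.mem_normalizer_iff]
  refine fun z => ⟨step g hg z, fun hz => ?_⟩
  have := step g⁻¹ (inv_mem hg) _ hz
  simpa [mul_assoc] using this

/-- Let p be an odd prime and, inside a finite group, let P be a p-subgroup normalized by a Klein four-group T. Let R be a subgroup of P, normal in P and normalized by T, such that P is the product of R with the centralizer of T in P. If T centralizes the centre of P, then T centralizes the centre of R. -/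
theorem result {X : Type*} [Group X] [Finite X]
    {p : ℕ} (hp : p.Prime) (hodd : Odd p) (P T R : Subgroup X) (hP : IsPGroup p ↥P) (hT : IsKleinFour ↥T)
    (hTP : T ≤ Subgroup.normalizer (P : Set X)) (hRP : R ≤ P) (hRn : (R.subgroupOf P).Normal)
    (hTR : T ≤ Subgroup.normalizer (R : Set X)) (hfac : R ⊔ (P ⊓ Subgroup.centralizer (T : Set X)) = P)
    (hZ : T ≤ Subgroup.centralizer (((Subgroup.center ↥P).map P.subtype : Subgroup X) : Set X)) :
    T ≤ Subgroup.centralizer (((Subgroup.center ↥R).map R.subtype : Subgroup X) : Set X) := by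
  haveI : Fact p.Prime := ⟨hp⟩
  haveI : IsMulCommutative ↥((Subgroup.center ↥R).map R.subtype) := by
    refine ⟨⟨fun a b => Subtype.ext ?_⟩⟩
    exact (mem_zc.1 b.2).2 a (mem_zc.1 a.2).1
  set Z := (Subgroup.center ↥R).map R.subtype with hZdef
  have hTZ : T ≤ Subgroup.normalizer (Z : Set X) := hTR.trans (normalizer_le_normalizer_zc R)
  have hM : ⁅Z, T⁆ ≤ Z := Coprime.commutator_le_left_of_le_normalizer hTZ
  have hMP : ⁅Z, T⁆ ≤ P := hM.trans ((Subgroup.map_subtype_le _).trans hRP)
  have hPR : P ≤ Subgroup.normalizer (R : Set X) :=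
    (Subgroup.normal_subgroupOf_iff_le_normalizer hRP).1 hRn
  have hPM : P ≤ Subgroup.normalizer ((⁅Z, T⁆ : Subgroup X) : Set X) := by
    rw [← hfac]
    refine sup_le ?_ (Coprime.le_normalizer_commutator ((inf_le_left.trans hPR).trans (normalizer_le_normalizer_zc R)) inf_le_right)
    intro r hr
    rw [Subgroup.mem_normalizer_iff]
    have fix : ∀ z ∈ Z, r * z * r⁻¹ = z := fun z hz => by
      rw [(mem_zc.1 hz).2 r hr, mul_assoc, mul_inv_cancel, mul_one]
    refine fun z => ⟨fun hz => by rw [fix z (hM hz)]; exact hz, fun hz => ?_⟩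
    have h1 := fix _ (hM hz)
    have h2 : r * (r * z * r⁻¹) * r⁻¹ = r * z * r⁻¹ := h1
    have h3 : r * z * r⁻¹ = z := by
      have := congrArg (fun t => r⁻¹ * t * r) h2
      simpa [mul_assoc] using this
    rwa [h3] at hz
  rw [Coprime.le_centralizer_iff_commutator_eq_bot]
  by_contra hne
  haveI : ((⁅Z, T⁆ : Subgroup X).subgroupOf P).Normal :=
    (Subgroup.normal_subgroupOf_iff_le_normalizer hMP).2 hPM
  have hne' : (⁅Z, T⁆ : Subgroup X).subgroupOf P ≠ ⊥ := by
    rw [Ne, Subgroup.subgroupOf_eq_bot]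
    exact fun h => hne (disjoint_self.1 (h.mono_right hMP))
  obtain ⟨⟨z, hzM, hzc⟩, hz1⟩ := Subgroup.ne_bot_iff_exists_ne_one.1 (PGroup.inf_center_ne_bot hP _ hne')
  have hzM' : (z : X) ∈ (⁅Z, T⁆ : Subgroup X) := hzM
  have hzC : (z : X) ∈ Subgroup.centralizer (T : Set X) := by
    intro t ht
    exact (hZ ht (z : X) ⟨z, hzc, rfl⟩).symm
  have hcop : (Nat.card T).Coprime (Nat.card Z) := by
    obtain ⟨k, hk⟩ := IsPGroup.iff_card.1 (hP.to_le ((Subgroup.map_subtype_le _).trans hRP) : IsPGroup p Z)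
    rw [hk, hT.card_four, show (4 : ℕ) = 2 ^ 2 by norm_num]
    exact ((Nat.coprime_two_left.2 hodd).pow 2 k)
  have hb := Coprime.inf_centralizer_inf_commutator_eq_bot hTZ hcop
  have hmem : (z : X) ∈ (Z ⊓ Subgroup.centralizer (T : Set X)) ⊓ ⁅Z, T⁆ := ⟨⟨hM hzM', hzC⟩, hzM'⟩
  rw [hb, Subgroup.mem_bot] at hmem
  exact hz1 (Subtype.ext (Subtype.ext hmem))

end Cfsg.Agent.S3190
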