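import Cfsg.Statements.S3192
import Cfsg.Agent.Lib.PSL2.ThreeSizes.Main
import Cfsg.Agent.Lib.PSL2.CentralizerSizes

set_option autoImplicit false
open Cfsg

namespace Cfsg.Agent.S3192

open ClassSize.CoprimeTop ThreeSizes
open scoped MatrixGroups

theorem index_centralizer_equiv {G H : Type*} [Group G] [Group H] (e : G ≃* H) (x : G) :
    (Subgroup.centralizer ({e x} : Set H)).index = (Subgroup.centralizer ({x} : Set G)).index := by
  have h : Subgroup.centralizer ({e x} : Set H) =
      (Subgroup.centralizer ({x} : Set G)).map e.toMonoidHom := by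
    ext y
    simp only [Subgroup.mem_map, Subgroup.mem_centralizer_singleton_iff, MulEquiv.coe_toMonoidHom]
    refine ⟨fun hy => ⟨e.symm y, e.injective (by simpa using hy), by simp⟩, ?_⟩
    rintro ⟨z, hz, rfl⟩
    rw [← map_mul, ← map_mul, hz]
  rw [h]
  exact Subgroup.index_map_equiv _ e

theorem sizes_eq (G : Type*) [Group G] [Finite G] :
    {m : ℕ | ∃ x : G, x ∉ Subgroup.center G ∧ m = (Subgroup.centralizer ({x} : Set G)).index} =
      Set.range (fun g : G => (Subgroup.centralizer ({g} : Set G)).index) \ {1} := by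
  ext m
  simp only [Set.mem_ofPred_eq, Set.mem_diff, Set.mem_range, Set.mem_singleton_iff]
  constructor
  · rintro ⟨x, hx, rfl⟩
    exact ⟨⟨x, rfl⟩, fun h => hx (cl_eq_one.1 h)⟩
  · rintro ⟨⟨x, rfl⟩, h1⟩
    exact ⟨x, fun h => h1 (cl_eq_one.2 h), rfl⟩

/-- Simple groups of conjugate type rank three. For a finite group G consider the set of indices of the centralizers of the non-central elements of G. Then G is a non-abelian simple group for which this set has exactly three members if and only if G is isomorphic to PSL(2, 2^m) for some m ≥ 2. -/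
theorem result (G : Type*) [Group G] [Finite G] :
    (IsSimpleGroup G ∧ ¬ IsMulCommutative G ∧
        Set.ncard {m : ℕ | ∃ x : G, x ∉ Subgroup.center G ∧ m = (Subgroup.centralizer ({x} : Set G)).index} = 3) ↔
      ∃ (m : ℕ) (F : Type) (_ : Field F) (_ : Fintype F), 2 ≤ m ∧ Fintype.card F = 2 ^ m ∧
        Nonempty (G ≃* Matrix.ProjectiveSpecialLinearGroup (Fin 2) F) := by
  classical
  letI := Fintype.ofFinite G
  constructor
  · rintro ⟨hS, hne, h3⟩
    have hZ : Subgroup.center G = ⊥ := OddOrder.center_eq_bot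
      fun h1 => hne (isMulCommutative_iff.2 h1)
    set C : Finset ℕ := (Finset.univ.filter fun x : G => x ≠ 1).image co with hC
    refine psl_of_three hne (C := C) ?_ fun n => by simp [hC]
    have hinj : Set.InjOn (fun c => Nat.card G / c) (C : Set ℕ) := by
      intro a ha b hb hab
      simp only [hC, Finset.coe_image, Set.mem_image] at ha hb
      obtain ⟨x, -, rfl⟩ := ha
      obtain ⟨y, -, rfl⟩ := hb
      have hx := co_mul_cl x
      have hy := co_mul_cl y
      have h1 : cl x = cl y := by
        simp only at hab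
        rwa [Nat.div_eq_of_eq_mul_right (co_pos x) hx.symm,
          Nat.div_eq_of_eq_mul_right (co_pos y) hy.symm] at hab
      exact Nat.eq_of_mul_eq_mul_right (cl_pos y) ((h1 ▸ hx).trans hy.symm)
    rw [← Finset.card_image_of_injOn hinj, ← Set.ncard_coe_finset]
    refine Eq.trans (congrArg Set.ncard ?_) h3
    ext m
    simp only [hC, Finset.image_image, Finset.coe_image, Set.mem_image, Set.mem_ofPred_eq,
      Finset.coe_filter, Finset.mem_univ, true_and, Function.comp_apply, hZ, Subgroup.mem_bot]
    constructor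
    · rintro ⟨x, hx, rfl⟩
      exact ⟨x, hx, Nat.div_eq_of_eq_mul_right (co_pos x) (co_mul_cl x).symm⟩
    · rintro ⟨x, hx, rfl⟩
      exact ⟨x, hx, Nat.div_eq_of_eq_mul_right (co_pos x) (co_mul_cl x).symm⟩
  · rintro ⟨m, F, hF, hFt, hm, hq, ⟨e⟩⟩
    have h4 : 4 ≤ Fintype.card F := hq ▸ Nat.pow_le_pow_right two_pos hm
    have h2 : (2 : F) = 0 := PSL2.even_card_iff.1 (hq ▸ even_iff_two_dvd.2 (dvd_pow_self 2 (by omega)))
    haveI := PSL2.psl_isSimpleGroup h4
    haveI hS : IsSimpleGroup G := MulEquiv.isSimpleGroup e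
    have hset := PSL2.class_sizes_even (F := F) h2 h4
    have hrange : Set.range (fun g : G => (Subgroup.centralizer ({g} : Set G)).index) =
        Set.range (fun g : PSL(2, F) => (Subgroup.centralizer ({g} : Set PSL(2, F))).index) := by
      ext n
      simp only [Set.mem_range]
      constructor
      · rintro ⟨x, rfl⟩
        exact ⟨e x, index_centralizer_equiv e x⟩
      · rintro ⟨y, rfl⟩
        exact ⟨e.symm y, by rw [← index_centralizer_equiv e, e.apply_symm_apply]⟩
    obtain ⟨a, b, c, ha, hab, hbc, hS3⟩ : ∃ a b c : ℕ, 1 < a ∧ a < b ∧ b < c ∧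
        Set.range (fun g : G => (Subgroup.centralizer ({g} : Set G)).index) = {1, a, b, c} := by
      refine ⟨_, _, _, ?_, ?_, ?_, hrange.trans hset⟩ <;>
        obtain ⟨n, hn⟩ : ∃ n, Fintype.card F = n + 4 := ⟨Fintype.card F - 4, by omega⟩
      · rw [hn, show n + 4 - 1 = n + 3 from rfl]; nlinarith
      · rw [hn, show n + 4 - 1 = n + 3 from rfl]
        have : (n + 4) ^ 2 = (n + 4) * (n + 4) := sq _
        have h1 : (n + 4) * (n + 4) = (n + 4) * (n + 3) + (n + 4) := by ring
        omega
      · rw [hn]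
        have h1 : (n + 4) * (n + 4 + 1) = (n + 4) ^ 2 + (n + 4) := by ring
        omega
    refine ⟨hS, fun hcm => ?_, ?_⟩
    · obtain ⟨x, hx⟩ : a ∈ Set.range (fun g : G => (Subgroup.centralizer ({g} : Set G)).index) :=
        hS3 ▸ Set.mem_insert_of_mem _ (Set.mem_insert _ _)
      have h1 : cl x = 1 := cl_eq_one.2 (Subgroup.mem_center_iff.2 fun y => hcm.1.comm y x)
      change cl x = a at hx
      omega
    · rw [sizes_eq, hS3, Set.insert_diff_of_mem _ (Set.mem_singleton 1),
        Set.diff_singleton_eq_self (by simp; omega)]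
      rw [Set.ncard_eq_three]
      exact ⟨a, b, c, hab.ne, (hab.trans hbc).ne, hbc.ne, rfl⟩

end Cfsg.Agent.S3192
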