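import Cfsg.Statements.S3195
import Mathlib
import Cfsg.Agent.Lib.Involution.BaerSuzuki
set_option linter.style.haveILetI false
-- import your own Cfsg.Agent.* helpers here

set_option autoImplicit false
set_option linter.unusedVariables false
open Cfsg

namespace Cfsg.Agent.S3195

variable {G : Type*} [Group G]

lemma mul_self_one {A : Subgroup G} (hA : IsKleinFour ↥A) {x : G} (hx : x ∈ A) : x * x = 1 :=
  congrArg Subtype.val (IsKleinFour.mul_self (⟨x, hx⟩ : A))

lemma four_comm {A : Subgroup G} (hA : IsKleinFour ↥A) {x y : G} (hx : x ∈ A) (hy : y ∈ A) :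
    Commute x y :=
  congrArg Subtype.val ((IsKleinFour.isMulCommutative (G := A)).is_comm.comm ⟨x, hx⟩ ⟨y, hy⟩)

lemma four_cases {A : Subgroup G} (hA : IsKleinFour ↥A) {x y : G} (hx : x ∈ A) (hy : y ∈ A)
    (hx1 : x ≠ 1) (hy1 : y ≠ 1) (hxy : x ≠ y) {z : G} (hz : z ∈ A) :
    z = 1 ∨ z = x ∨ z = y ∨ z = x * y := by
  by_cases h1 : z = 1
  · exact Or.inl h1
  by_cases h2 : z = x
  · exact Or.inr (Or.inl h2)
  by_cases h3 : z = y
  · exact Or.inr (Or.inr (Or.inl h3))
  refine Or.inr (Or.inr (Or.inr ?_))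
  have e : (⟨z, hz⟩ : A) = ⟨x, hx⟩ * ⟨y, hy⟩ := by
    apply IsKleinFour.eq_mul_of_ne_all <;> simp_all [Subtype.ext_iff, eq_comm]
  exact congrArg Subtype.val e

def conjSub (g : G) (A : Subgroup G) : Subgroup G := A.map (MulAut.conj g).toMonoidHom

lemma mem_conjSub {g x : G} {A : Subgroup G} : x ∈ conjSub g A ↔ g⁻¹ * x * g ∈ A := by
  constructor
  · rintro ⟨a, ha, rfl⟩
    simpa [mul_assoc] using ha
  · intro hx
    exact ⟨g⁻¹ * x * g, hx, by simp [mul_assoc]⟩

lemma klein_conjSub {A : Subgroup G} (hA : IsKleinFour ↥A) (g : G) : IsKleinFour ↥(conjSub g A) := by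
  have e := A.equivMapOfInjective (MulAut.conj g).toMonoidHom (MulAut.conj g).injective
  exact ⟨by rw [conjSub, ← Nat.card_congr e.toEquiv]; exact hA.card_four,
    by rw [conjSub, ← Monoid.exponent_eq_of_mulEquiv e]; exact hA.exponent_two⟩

def Meets (A : Subgroup G) : Prop :=
  ∀ a ∈ A, a ≠ 1 → ∀ g : G, ∃ u ∈ A, u ≠ 1 ∧ Commute u (g * a * g⁻¹)

/-- an element of `A` commuting with a conjugate of `a` commutes with every conjugate of `A` through it. -/
lemma line_lemma {A : Subgroup G} (hA : IsKleinFour ↥A) (h : Meets A) {a b : G} (ha : a ∈ A) (hb : b ∈ A)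
    (ha1 : a ≠ 1) (hb1 : b ≠ 1) {e : G} (hbe : Commute b e)
    (hne : ¬ Commute e (a * e * a)) (g : G) (heL : e ∈ conjSub g A) :
    ∀ l ∈ conjSub g A, Commute b l := by
  have hL := klein_conjSub hA g
  have he1 : e ≠ 1 := by rintro rfl; exact hne (Commute.one_left _)
  -- every element of `A` commutes with some element of the line
  have meet : ∀ x ∈ A, x ≠ 1 → ∃ u ∈ conjSub g A, u ≠ 1 ∧ Commute u x := by
    intro x hx hx1
    obtain ⟨u, hu, hu1, hc⟩ := h x hx hx1 g⁻¹
    refine ⟨g * u * g⁻¹, mem_conjSub.2 (by simpa [mul_assoc] using hu), ?_, ?_⟩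
    · intro h'; exact hu1 (conj_eq_one_iff.1 h')
    · have := hc.map (MulAut.conj g)
      simpa [mul_assoc] using this
  have hae : ¬ Commute a e := by
    intro hc
    apply hne
    have : a * e * a = e := by
      rw [hc.eq, mul_assoc, mul_self_one hA ha, mul_one]
    rw [this]
  have hab : a ≠ b := fun hh => hae (hh ▸ hbe)
  have hc_mem : a * b ∈ A := mul_mem ha hb
  have hc1 : a * b ≠ 1 := fun hh => hab (by
    have := mul_self_one hA hb
    exact mul_right_cancel (hh.trans this.symm))
  have hce : ¬ Commute (a * b) e := fun hc => hae (by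
    have := hc.mul_left hbe
    rwa [mul_assoc, mul_self_one hA hb, mul_one] at this)
  have hd' : a * b * e * (a * b) = a * e * a := by
    calc a * b * e * (a * b) = a * (b * e) * (a * b) := by group
      _ = a * (e * b) * (b * a) := by rw [hbe.eq, (four_comm hA ha hb).eq]
      _ = a * e * (b * b) * a := by group
      _ = a * e * a := by rw [mul_self_one hA hb, mul_one]
  obtain ⟨U, hU, hU1, hUa⟩ := meet a ha ha1
  obtain ⟨V, hV, hV1, hVc⟩ := meet (a * b) hc_mem hc1
  have hUe : Commute U e := four_comm hL hU heL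
  have hVe : Commute V e := four_comm hL hV heL
  have hUd : Commute U (a * e * a) := (hUa.mul_right hUe).mul_right hUa
  have hVd : Commute V (a * e * a) := hd' ▸ (hVc.mul_right hVe).mul_right hVc
  have hUV : U = V := by
    by_contra hUV
    rcases four_cases hL hU hV hU1 hV1 hUV heL with h' | h' | h' | h'
    · exact he1 h'
    · exact hne (h' ▸ hUd)
    · exact hne (h' ▸ hVd)
    · exact hne (h' ▸ hUd.mul_left hVd)
  have hbU : Commute b U := by
    have := (hUa.mul_right (hUV ▸ hVc)).symm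
    rwa [← mul_assoc, mul_self_one hA ha, one_mul] at this
  have hUne : U ≠ e := fun hh => hae (hh ▸ hUa.symm)
  intro l hl
  rcases four_cases hL hU heL hU1 he1 hUne hl with h' | h' | h' | h'
  · exact h' ▸ Commute.one_right b
  · exact h' ▸ hbU
  · exact h' ▸ hbe
  · exact h' ▸ hbU.mul_right hbe

/-- `e` is conjugate to the involution `a` by `z`, and `a e` has odd order. -/
structure Partner (a e z : G) : Prop where
  conj : e = z * a * z⁻¹
  odd : ¬ Commute e (a * e * a)
  cent : ∀ u, Commute u a → Commute u e → Commute u z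

theorem exists_partner [Finite G] {a : G} (haa : a * a = 1) (hcore : a ∉ Cfsg.pCore 2 G) :
    ∃ e z, Partner a e z := by
  have hinv : a⁻¹ = a := inv_eq_of_mul_eq_one_right haa
  obtain ⟨g, hg⟩ : ∃ g : G, ¬ IsPGroup 2 (Subgroup.closure ({a, g * a * g⁻¹} : Set G)) := by
    by_contra hall
    push Not at hall
    apply hcore
    exact (le_sSup (show Subgroup.normalClosure ({a} : Set G) ∈ {N : Subgroup G | N.Normal ∧ IsPGroup 2 N} from
      ⟨Subgroup.normalClosure_normal, Involution.baer_suzuki a hall⟩))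
      (Subgroup.subset_normalClosure rfl)
  have hyy : g * a * g⁻¹ * (g * a * g⁻¹) = 1 := by
    rw [show g * a * g⁻¹ * (g * a * g⁻¹) = g * (a * a) * g⁻¹ by group, haa]; group
  obtain ⟨i, m, hm, hn⟩ :=
    Nat.exists_eq_two_pow_mul_odd (orderOf_pos (a * (g * a * g⁻¹))).ne'
  have hm1 : m ≠ 1 := by
    intro h1
    apply hg
    apply Involution.isPGroup_closure_pair haa hyy (a := i)
    rw [← Nat.mul_one (2 ^ i), ← h1, ← hn, pow_orderOf_eq_one]
  set t : G := (a * (g * a * g⁻¹)) ^ 2 ^ i with ht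
  have hat : a * t * a = t⁻¹ := by
    have := Involution.invol_conj_zpow (Involution.invol_conj_mul haa hyy) ((2 ^ i : ℕ) : ℤ)
    rw [hinv, zpow_neg, zpow_natCast] at this
    exact this
  have hord : orderOf t = m := by
    rw [ht, orderOf_pow_of_dvd (by positivity) (by rw [hn]; exact dvd_mul_right _ _), hn,
      Nat.mul_div_cancel_left _ (by positivity)]
  obtain ⟨k, hk⟩ := hm
  set z : G := t ^ (k + 1) with hz
  have hzz : z * z = t := by
    rw [hz, ← pow_add, show k + 1 + (k + 1) = orderOf t + 1 by omega, pow_succ,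
      pow_orderOf_eq_one, one_mul]
  have hza : a * z * a = z⁻¹ := by
    have hh : a * t * a⁻¹ = t⁻¹ := by rw [hinv]; exact hat
    have := Involution.invol_conj_zpow hh ((k + 1 : ℕ) : ℤ)
    rw [hinv, zpow_neg, zpow_natCast] at this
    exact this
  have he : z * a * z⁻¹ = a * t⁻¹ := by
    calc z * a * z⁻¹ = a * (a * z * a) * z⁻¹ := by
          rw [← mul_assoc, ← mul_assoc, haa, one_mul]
      _ = a * (z * z)⁻¹ := by rw [hza, mul_inv_rev, mul_assoc]
      _ = a * t⁻¹ := by rw [hzz]
  refine ⟨z * a * z⁻¹, z, rfl, ?_, ?_⟩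
  · rw [he]
    intro hc
    have h1 : a * t⁻¹ * a = t := by
      have := congrArg (·⁻¹) hat
      simpa [mul_assoc, hinv] using this
    have h2 : a * (a * t⁻¹) * a = t⁻¹ * a := by rw [← mul_assoc, haa, one_mul]
    rw [h2] at hc
    have h3 : t * t = t⁻¹ * t⁻¹ := by
      calc t * t = (a * t⁻¹ * a) * (a * t⁻¹ * a) := by rw [h1]
        _ = a * t⁻¹ * (a * a) * t⁻¹ * a := by group
        _ = a * t⁻¹ * (t⁻¹ * a) := by rw [haa]; group
        _ = t⁻¹ * a * (a * t⁻¹) := hc.eq
        _ = t⁻¹ * (a * a) * t⁻¹ := by group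
        _ = t⁻¹ * t⁻¹ := by rw [haa, mul_one]
    have h4 : t ^ 4 = 1 := by
      calc t ^ 4 = t * t * (t * t) := by simp [pow_succ, mul_assoc]
        _ = t⁻¹ * t⁻¹ * (t * t) := by nth_rewrite 1 [h3]; rfl
        _ = 1 := by group
    have := orderOf_dvd_of_pow_eq_one h4
    rw [hord] at this
    have := Nat.le_of_dvd (by norm_num) this
    interval_cases m <;> omega
  · intro u hua hue
    rw [he] at hue
    have : Commute u t⁻¹ := by
      have := (hua.mul_right hue)
      rwa [← mul_assoc, haa, one_mul] at this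
    exact (by simpa using this.inv_right : Commute u t).pow_right _

theorem no_partners [Finite G] {A : Subgroup G} (hA : IsKleinFour ↥A) (h : Meets A)
    (hp : ∀ a ∈ A, a ≠ 1 → ∃ e z, Partner a e z) : False := by
  haveI := hA
  have : Nontrivial A := Finite.one_lt_card_iff_nontrivial.1 (by rw [hA.card_four]; norm_num)
  obtain ⟨⟨a, ha⟩, hane⟩ := exists_ne (1 : A)
  have ha1 : a ≠ 1 := fun h' => hane (Subtype.ext h')
  obtain ⟨e, z, he⟩ := hp a ha ha1
  obtain ⟨b, hb, hb1, hbe⟩ := h a ha ha1 z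
  rw [← he.conj] at hbe
  have hae : ¬ Commute a e := by
    intro hc
    apply he.odd
    rw [show a * e * a = e by rw [hc.eq, mul_assoc, mul_self_one hA ha, mul_one]]
  have hab : a ≠ b := fun hh => hae (hh ▸ hbe)
  have hbz : Commute b z := he.cent b (four_comm hA hb ha) hbe
  obtain ⟨f, w, hf⟩ := hp b hb hb1
  obtain ⟨u, hu, hu1, huf⟩ := h b hb hb1 w
  rw [← hf.conj] at huf
  have hbf : ¬ Commute b f := by
    intro hc
    apply hf.odd
    rw [show b * f * b = f by rw [hc.eq, mul_assoc, mul_self_one hA hb, mul_one]]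
  have hub : u ≠ b := fun hh => hbf (hh ▸ huf)
  have huw : Commute u w := hf.cent u (four_comm hA hu hb) huf
  -- the conjugate of `A` through `b` and `e`
  have hL : ∀ l ∈ conjSub (w * z) A, Commute u l := by
    apply line_lemma hA h hb hu hb1 hu1 huf hf.odd (w * z)
    rw [mem_conjSub, hf.conj]
    have : (w * z)⁻¹ * (w * b * w⁻¹) * (w * z) = z⁻¹ * b * z := by group
    rw [this, mul_assoc, hbz.eq, inv_mul_cancel_left]
    exact hb
  have hue : Commute u e := by
    have h1 := hL (w * e * w⁻¹) (mem_conjSub.2 (by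
      rw [he.conj, show (w * z)⁻¹ * (w * (z * a * z⁻¹) * w⁻¹) * (w * z) = a by group]; exact ha))
    have h2 := ((huw.inv_right).mul_right h1).mul_right huw
    rwa [show w⁻¹ * (w * e * w⁻¹) * w = e by group] at h2
  rcases four_cases hA ha hb ha1 hb1 hab hu with h' | h' | h' | h'
  · exact hu1 h'
  · exact hae (h' ▸ hue)
  · exact hub h'
  · apply hae
    have := (h' ▸ hue).mul_left hbe
    rwa [mul_assoc, mul_self_one hA hb, mul_one] at this

/-- Let A be a Klein four-subgroup of a finite group G. If every G-conjugate of every involution of A commutes with some involution of A (its centralizer meets A nontrivially), then A meets the largest normal 2-subgroup O₂(G) nontrivially. -/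
theorem result {G : Type*} [Group G] [Finite G]
    (A : Subgroup G) (hA : IsKleinFour ↥A)
    (h : ∀ a ∈ A, a ≠ 1 → ∀ g : G, A ⊓ Subgroup.centralizer ({g * a * g⁻¹} : Set G) ≠ ⊥) :
    A ⊓ Cfsg.pCore 2 G ≠ ⊥ := by
  intro hbot
  apply no_partners hA (A := A)
  · intro a ha ha1 g
    have := (Subgroup.ne_bot_iff_exists_ne_one.1 (h a ha ha1 g))
    obtain ⟨⟨u, hu, huc⟩, hu1⟩ := this
    exact ⟨u, hu, fun h' => hu1 (Subtype.ext h'), Subgroup.mem_centralizer_singleton_iff.1 huc⟩
  · intro a ha ha1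
    apply exists_partner (mul_self_one hA ha)
    intro hcore
    apply ha1
    have : a ∈ A ⊓ Cfsg.pCore 2 G := ⟨ha, hcore⟩
    rw [hbot, Subgroup.mem_bot] at this
    exact this

end Cfsg.Agent.S3195
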