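import Cfsg.Statements.S3196
import Mathlib
import Cfsg.Agent.Lib.PGroup.Basic
set_option linter.style.haveILetI false
-- import your own Cfsg.Agent.* helpers here

set_option autoImplicit false
set_option linter.unusedSectionVars false
set_option linter.unusedVariables false
open Cfsg

namespace Cfsg.Agent.S3196

variable {G : Type*} [Group G] {p : ℕ}

def Perp (X Y : Subgroup G) : Prop := X ≤ Subgroup.centralizer (Y : Set G)

lemma perp_symm {X Y : Subgroup G} (h : Perp X Y) : Perp Y X := Subgroup.le_centralizer_iff.1 h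

lemma perp_iff {X Y : Subgroup G} : Perp X Y ↔ ∀ x ∈ X, ∀ y ∈ Y, x * y = y * x :=
  ⟨fun h x hx y hy => (h hx y hy).symm, fun h x hx y hy => (h x hx y hy).symm⟩

lemma perp_sup {U X Y : Subgroup G} (h1 : Perp U X) (h2 : Perp U Y) : Perp U (X ⊔ Y) :=
  perp_symm (sup_le (perp_symm h1) (perp_symm h2))

lemma perp_mono {U X Y : Subgroup G} (h1 : Perp U Y) (h2 : X ≤ Y) : Perp U X :=
  perp_symm (h2.trans (perp_symm h1))

def cj (g : G) (A : Subgroup G) : Subgroup G := A.map (MulAut.conj g).toMonoidHom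

lemma perp_cj {g : G} {X Y : Subgroup G} (h : Perp X Y) : Perp (cj g X) (cj g Y) := by
  rw [perp_iff] at h ⊢
  rintro _ ⟨x, hx, rfl⟩ _ ⟨y, hy, rfl⟩
  rw [← map_mul, ← map_mul, h x hx y hy]

lemma cj_eq_self {g : G} {A : Subgroup G} (h : ∀ a ∈ A, g * a = a * g) : cj g A = A := by
  ext x
  constructor
  · rintro ⟨a, ha, rfl⟩
    simpa [h a ha] using ha
  · intro hx
    exact ⟨x, hx, by simp [h x hx]⟩

variable [Fact p.Prime] [Finite G]

lemma perp_self {X : Subgroup G} (hX : Nat.card X = p) : Perp X X := by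
  haveI : IsCyclic X := isCyclic_of_prime_card hX
  rw [perp_iff]
  intro a ha b hb
  exact congrArg Subtype.val ((IsCyclic.commGroup (α := X)).mul_comm ⟨a, ha⟩ ⟨b, hb⟩)

lemma pow_p_eq_one {X : Subgroup G} (hX : Nat.card X = p) {x : G} (hx : x ∈ X) : x ^ p = 1 := by
  have := pow_card_eq_one' (x := (⟨x, hx⟩ : X))
  rw [hX] at this
  exact congrArg Subtype.val this

lemma eq_of_mem {X Y : Subgroup G} (hX : Nat.card X = p) (hY : Nat.card Y = p) {x : G} (hx : x ∈ X) (hy : x ∈ Y)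
    (h1 : x ≠ 1) : X = Y := by
  have hp : orderOf x = p := orderOf_eq_prime (pow_p_eq_one hX hx) h1
  have e1 : Subgroup.zpowers x = X := Subgroup.eq_of_le_of_card_ge (Subgroup.zpowers_le.2 hx) (by rw [Nat.card_zpowers, hp, hX])
  have e2 : Subgroup.zpowers x = Y := Subgroup.eq_of_le_of_card_ge (Subgroup.zpowers_le.2 hy) (by rw [Nat.card_zpowers, hp, hY])
  exact e1.symm.trans e2

lemma exists_ne_one {X : Subgroup G} (hX : Nat.card X = p) : ∃ x ∈ X, x ≠ 1 := by
  haveI : Nontrivial X := Finite.one_lt_card_iff_nontrivial.1 (hX ▸ (Fact.out : p.Prime).one_lt)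
  obtain ⟨x, hx⟩ := exists_ne (1 : X)
  exact ⟨x, x.2, fun h => hx (Subtype.ext h)⟩

lemma mem_sup_iff {X Y : Subgroup G} (h : Perp X Y) {g : G} : g ∈ X ⊔ Y ↔ ∃ x ∈ X, ∃ y ∈ Y, g = x * y := by
  constructor
  · intro hg
    have hn : X ≤ Subgroup.normalizer (Y : Set G) := h.trans (Subgroup.centralizer_le_normalizer _)
    have hg' : g ∈ ((X ⊔ Y : Subgroup G) : Set G) := hg
    rw [Subgroup.coe_mul_of_left_le_normalizer_right X Y hn] at hg'
    obtain ⟨x, hx, y, hy, rfl⟩ := Set.mem_mul.1 hg'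
    exact ⟨x, hx, y, hy, rfl⟩
  · rintro ⟨x, hx, y, hy, rfl⟩
    exact mul_mem (Subgroup.mem_sup_left hx) (Subgroup.mem_sup_right hy)

lemma line_pow {X Y : Subgroup G} (hX : Nat.card X = p) (hY : Nat.card Y = p) (h : Perp X Y) {g : G}
    (hg : g ∈ X ⊔ Y) : g ^ p = 1 := by
  obtain ⟨x, hx, y, hy, rfl⟩ := (mem_sup_iff h).1 hg
  rw [Commute.mul_pow (perp_iff.1 h x hx y hy), pow_p_eq_one hX hx, pow_p_eq_one hY hy, one_mul]

lemma card_sup_le {X Y : Subgroup G} (hX : Nat.card X = p) (hY : Nat.card Y = p) (h : Perp X Y) :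
    Nat.card ↥(X ⊔ Y) ≤ p * p := by
  have : Function.Surjective (fun q : X × Y => (⟨(q.1 : G) * q.2,
      (mem_sup_iff h).2 ⟨_, q.1.2, _, q.2.2, rfl⟩⟩ : ↥(X ⊔ Y))) := by
    intro g
    obtain ⟨x, hx, y, hy, e⟩ := (mem_sup_iff h).1 g.2
    exact ⟨(⟨x, hx⟩, ⟨y, hy⟩), Subtype.ext e.symm⟩
  have := Nat.card_le_card_of_surjective _ this
  rwa [Nat.card_prod, hX, hY] at this

/-- two distinct points span their line. -/
lemma sup_eq {X Y A B : Subgroup G} (hX : Nat.card X = p) (hY : Nat.card Y = p) (h : Perp X Y)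
    (hA : Nat.card A = p) (hB : Nat.card B = p) (hne : A ≠ B) (hAl : A ≤ X ⊔ Y) (hBl : B ≤ X ⊔ Y) :
    A ⊔ B = X ⊔ Y := by
  refine Subgroup.eq_of_le_of_card_ge (sup_le hAl hBl) ((card_sup_le hX hY h).trans ?_)
  have : Function.Injective (fun q : A × B => (⟨(q.1 : G) * q.2,
      mul_mem (Subgroup.mem_sup_left q.1.2) (Subgroup.mem_sup_right q.2.2)⟩ : ↥(A ⊔ B))) := by
    rintro ⟨a, b⟩ ⟨a', b'⟩ he
    have he' : (a : G) * b = a' * b' := congrArg Subtype.val he
    have h1 : (a' : G)⁻¹ * a = b' * (b : G)⁻¹ := by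
      rw [eq_mul_inv_iff_mul_eq, mul_assoc, he', inv_mul_cancel_left]
    by_cases h2 : (a' : G)⁻¹ * a = 1
    · have ea : a = a' := Subtype.ext (inv_mul_eq_one.1 h2).symm
      subst ea
      exact Prod.ext rfl (Subtype.ext (mul_left_cancel he'))
    · exact absurd (eq_of_mem hA hB (A.mul_mem (A.inv_mem a'.2) a.2) (h1 ▸ B.mul_mem b'.2 (B.inv_mem b.2)) h2) hne
  have := Nat.card_le_card_of_injective _ this
  rwa [Nat.card_prod, hA, hB] at this

section axioms
variable (K : Set (Subgroup G)) (hK : ∀ X ∈ K, Nat.card ↥X = p)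
    (hKc : ∀ X ∈ K, ∀ g : G, cj g X ∈ K)
    (ha : ∀ X ∈ K, ∀ Y ∈ K, X ≠ Y → Perp X Y → ∀ Z : Subgroup G, Z ≤ X ⊔ Y → Nat.card ↥Z = p → Z ∈ K)
    (hb : ∀ X ∈ K, ∀ Y ∈ K, X ≠ Y → Perp X Y → ∀ W ∈ K, (X ⊔ Y) ⊓ Subgroup.centralizer (W : Set G) ≠ ⊥)
    (hnd : ∀ V ∈ K, ∃ W ∈ K, ¬ Perp V W)
include hK ha hb

lemma exists_point {X Y W : Subgroup G} (hX : X ∈ K) (hY : Y ∈ K) (hne : X ≠ Y) (h : Perp X Y) (hW : W ∈ K) :
    ∃ T ∈ K, T ≤ X ⊔ Y ∧ Perp T W := by
  obtain ⟨⟨t, htl, htc⟩, ht1⟩ := Subgroup.ne_bot_iff_exists_ne_one.1 (hb X hX Y hY hne h W hW)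
  have ht : orderOf t = p := orderOf_eq_prime (line_pow (hK X hX) (hK Y hY) h htl) (fun he => ht1 (Subtype.ext he))
  refine ⟨Subgroup.zpowers t, ha X hX Y hY hne h _ (Subgroup.zpowers_le.2 htl) (by rw [Nat.card_zpowers, ht]),
    Subgroup.zpowers_le.2 htl, Subgroup.zpowers_le.2 htc⟩

omit ha hb in
lemma perp_line {X Y A B U : Subgroup G} (hX : X ∈ K) (hY : Y ∈ K) (h : Perp X Y) (hA : A ∈ K) (hB : B ∈ K)
    (hne : A ≠ B) (hAl : A ≤ X ⊔ Y) (hBl : B ≤ X ⊔ Y) (h1 : Perp U A) (h2 : Perp U B) : Perp U (X ⊔ Y) :=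
  sup_eq (hK X hX) (hK Y hY) h (hK A hA) (hK B hB) hne hAl hBl ▸ perp_sup h1 h2

include hnd in
lemma no_containment {W Z : Subgroup G} (hW : W ∈ K) (hZ : Z ∈ K) (hne : W ≠ Z) (h : Perp W Z)
    (hsub : ∀ U ∈ K, Perp U W → Perp U Z) : False := by
  obtain ⟨P, hP, hPZ⟩ := hnd Z hZ
  have hPZ' : ¬ Perp P Z := fun h' => hPZ (perp_symm h')
  have hPW : ¬ Perp P W := fun h' => hPZ' (hsub P hP h')
  obtain ⟨T, hT, hTl, hTP⟩ := exists_point K hK ha hb hW hZ hne h hP
  have hTW : Perp T W := perp_symm (perp_mono (perp_sup (perp_self (hK W hW)) h) hTl)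
  have hTZ : Perp T Z := hsub T hT hTW
  have hPT : P ≠ T := fun e => hPZ' (e ▸ hTZ)
  obtain ⟨Q, hQ, hTQ⟩ := hnd T hT
  obtain ⟨R, hR, hRl, hRQ⟩ := exists_point K hK ha hb hP hT hPT (perp_symm hTP) hQ
  have hRT : Perp R T := by
    refine perp_symm (perp_mono (perp_sup hTP (perp_self (hK T hT))) hRl)
  have hRne : R ≠ T := fun e => hTQ (e ▸ hRQ)
  have hRW : ¬ Perp R W := by
    intro h'
    have hRZ := hsub R hR h'
    have := perp_line K hK hP hT (perp_symm hTP) hR hT hRne hRl le_sup_right (perp_symm hRZ) (perp_symm hTZ)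
    exact hPZ' (perp_symm (perp_mono this le_sup_left))
  have hQW : ¬ Perp Q W := fun h' => hTQ (perp_symm (perp_mono (perp_sup h' (hsub Q hQ h')) hTl))
  have hQR : Q ≠ R := fun e => hTQ (perp_symm (e ▸ hRT))
  obtain ⟨S, hS, hSl, hSW⟩ := exists_point K hK ha hb hQ hR hQR (perp_symm hRQ) hW
  have hST : Perp S T := perp_mono (perp_sup hSW (hsub S hS hSW)) hTl
  by_cases hSR : S = R
  · exact hRW (hSR ▸ hSW)
  have := perp_line K hK hQ hR (perp_symm hRQ) hS hR hSR hSl le_sup_right (perp_symm hST) (perp_symm hRT)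
  exact hTQ (perp_mono this le_sup_left)

include hnd hKc in
lemma no_lines {X Y : Subgroup G} (hX : X ∈ K) (hY : Y ∈ K) (hne : X ≠ Y) (hXY : Perp X Y) : False := by
  obtain ⟨W, hW, hWX'⟩ := hnd X hX
  have hWX : ¬ Perp W X := fun h => hWX' (perp_symm h)
  obtain ⟨Z, hZ, hZl, hZW⟩ := exists_point K hK ha hb hX hY hne hXY hW
  have hXZ : Perp X Z := perp_mono (perp_sup (perp_self (hK X hX)) hXY) hZl
  have hXneZ : X ≠ Z := fun e => hWX' (e ▸ hZW)
  obtain ⟨x, hx, hx1⟩ := exists_ne_one (hK X hX)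
  obtain ⟨z, hz, hz1⟩ := exists_ne_one (hK Z hZ)
  have hxz : x * z ∈ X ⊔ Z := mul_mem (Subgroup.mem_sup_left hx) (Subgroup.mem_sup_right hz)
  have hxz1 : x * z ≠ 1 := fun e => hXneZ (eq_of_mem (hK X hX) (hK Z hZ) hx (by
    rw [eq_inv_of_mul_eq_one_left e]; exact inv_mem hz) hx1)
  set Y' := Subgroup.zpowers (x * z) with hY'
  have hcY' : Nat.card Y' = p := by
    rw [hY', Nat.card_zpowers]
    exact orderOf_eq_prime (line_pow (hK X hX) (hK Z hZ) hXZ hxz) hxz1
  have hY'K : Y' ∈ K := ha X hX Z hZ hXneZ hXZ Y' (Subgroup.zpowers_le.2 hxz) hcY'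
  have hY'X : Y' ≠ X := by
    intro e
    apply hz1
    have : x * z ∈ X := e ▸ Subgroup.mem_zpowers _
    have hzX : z ∈ X := by simpa using X.mul_mem (X.inv_mem hx) this
    by_contra hz'
    exact hXneZ (eq_of_mem (hK X hX) (hK Z hZ) hzX hz hz')
  set W' := cj x W with hW'
  have hW'K : W' ∈ K := hKc W hW x
  have hW'y : cj (x * z) W = W' := by
    have : cj z W = W := cj_eq_self (fun w hw => perp_iff.1 hZW z hz w hw)
    rw [hW']
    conv_rhs => rw [← this]
    rw [cj, cj, cj, Subgroup.map_map]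
    congr 1
    ext w; simp
  have fixX : ∀ U : Subgroup G, Perp U X → cj x U = U := fun U hU =>
    cj_eq_self (fun u hu => ((perp_iff.1 hU) u hu x hx).symm)
  have fixY : ∀ U : Subgroup G, Perp U Y' → cj (x * z) U = U := fun U hU =>
    cj_eq_self (fun u hu => ((perp_iff.1 hU) u hu _ (Subgroup.mem_zpowers _)).symm)
  have hWW' : ∀ U : Subgroup G, Perp U W → Perp U X → Perp U W' := fun U h1 h2 => by
    rw [hW', ← fixX U h2]; exact perp_cj h1
  have hWW'' : ∀ U : Subgroup G, Perp U W → Perp U Y' → Perp U W' := fun U h1 h2 => by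
    rw [← hW'y, ← fixY U h2]; exact perp_cj h1
  by_cases hc : Perp W' W
  · have hneW : W' ≠ W := by
      intro e
      apply hWX
      have hn : X ≤ Subgroup.normalizer (W : Set G) := by
        have hxn : x ∈ Subgroup.normalizer (W : Set G) := by
          rw [Subgroup.mem_normalizer_iff]
          intro w
          have hiff : x * w * x⁻¹ ∈ W' ↔ w ∈ W := by
            constructor
            · rintro ⟨u, hu, hue⟩
              have : u = w := by simpa using hue
              exact this ▸ hu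
            · exact fun hw => ⟨w, hw, rfl⟩
          rw [e] at hiff
          exact hiff.symm
        have : Subgroup.zpowers x = X := Subgroup.eq_of_le_of_card_ge (Subgroup.zpowers_le.2 hx)
          (by rw [Nat.card_zpowers, orderOf_eq_prime (pow_p_eq_one (hK X hX) hx) hx1, hK X hX])
        exact this ▸ Subgroup.zpowers_le.2 hxn
      have hpX : IsPGroup p X := IsPGroup.of_card (n := 1) (by rw [hK X hX, pow_one])
      have hpW : IsPGroup p W := IsPGroup.of_card (n := 1) (by rw [hK W hW, pow_one])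
      have hP := hpX.to_sup_of_normal_right' hpW hn
      haveI : (W.subgroupOf (X ⊔ W)).Normal :=
        (Subgroup.normal_subgroupOf_iff_le_normalizer le_sup_right).2 (sup_le hn Subgroup.le_normalizer)
      have hcard : Nat.card (W.subgroupOf (X ⊔ W)) = p := by
        rw [Nat.card_congr (Subgroup.subgroupOfEquivOfLe le_sup_right).toEquiv, hK W hW]
      have hle := PGroup.le_center_of_card_eq hP _ hcard
      rw [perp_iff]
      intro w hw u hu
      exact (congrArg Subtype.val (Subgroup.mem_center_iff.1 (hle (x := ⟨w, Subgroup.mem_sup_right hw⟩)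
        (Subgroup.mem_subgroupOf.2 hw)) ⟨u, Subgroup.mem_sup_left hu⟩)).symm
    obtain ⟨T, hT, hTl, hTX⟩ := exists_point K hK ha hb hW'K hW hneW hc hX
    have hTW : Perp T W := perp_symm (perp_mono (perp_sup (perp_symm hc) (perp_self (hK W hW))) hTl)
    have hTne : W ≠ T := fun e => hWX (e ▸ hTX)
    apply no_containment K hK ha hb hnd hW hT hTne (perp_symm hTW)
    intro U hU hUW
    by_cases hUe : U = W
    · exact hUe ▸ perp_symm hTW
    obtain ⟨V, hV, hVl, hVX⟩ := exists_point K hK ha hb hU hW hUe hUW hX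
    have hVW : Perp V W := perp_symm (perp_mono (perp_sup (perp_symm hUW) (perp_self (hK W hW))) hVl)
    have hVT : Perp V T := perp_mono (perp_sup (hWW' V hVW hVX) hVW) hTl
    have hVne : V ≠ W := fun e => hWX (e ▸ hVX)
    exact perp_symm (perp_mono (perp_line K hK hU hW hUW hV hW hVne hVl le_sup_right (perp_symm hVT) hTW) le_sup_left)
  · apply no_containment K hK ha hb hnd hW hZ (fun e => hWX (e ▸ perp_symm hXZ)) (perp_symm hZW)
    intro U hU hUW
    by_cases hUe : U = W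
    · exact hUe ▸ perp_symm hZW
    obtain ⟨V, hV, hVl, hVX⟩ := exists_point K hK ha hb hU hW hUe hUW hX
    obtain ⟨V', hV', hVl', hVY⟩ := exists_point K hK ha hb hU hW hUe hUW hY'K
    have hline : Perp W (U ⊔ W) := perp_sup (perp_symm hUW) (perp_self (hK W hW))
    have h1 := hWW' V (perp_symm (perp_mono hline hVl)) hVX
    have h2 := hWW'' V' (perp_symm (perp_mono hline hVl')) hVY
    have hVV : V' = V := by
      by_contra e
      exact hc (perp_mono (perp_line K hK hU hW hUW hV' hV e hVl' hVl (perp_symm h2) (perp_symm h1)) le_sup_right)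
    subst hVV
    have hVZ : Perp V' Z := by
      have hline2 := sup_eq (hK X hX) (hK Z hZ) hXZ hcY' (hK X hX) hY'X (Subgroup.zpowers_le.2 hxz) le_sup_left
      exact perp_mono (perp_sup hVY hVX) (hline2 ▸ le_sup_right)
    have hVne : V' ≠ W := fun e => hWX (e ▸ hVX)
    exact perp_symm (perp_mono (perp_line K hK hU hW hUW hV' hW hVne hVl' le_sup_right (perp_symm hVZ) hZW) le_sup_left)

end axioms

/-- Let p be a prime and K a set of subgroups of order p of a finite group G, closed under conjugation, such that at least two distinct members of K commute elementwise, and whenever two distinct members X, Y of K commute: every subgroup of order p of the group XY they generate belongs to K, and every member W of K has centralizer meeting XY nontrivially. Then some member V of K commutes elementwise with every member of K and lies in O_p(G); in particular G is not simple. -/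
theorem result {G : Type*} [Group G] [Finite G]
    {p : ℕ} (hp : p.Prime) (K : Set (Subgroup G)) (hK : ∀ X ∈ K, Nat.card ↥X = p)
    (hKc : ∀ X ∈ K, ∀ g : G, X.map (MulAut.conj g).toMonoidHom ∈ K)
    (hex : ∃ X ∈ K, ∃ Y ∈ K, X ≠ Y ∧ ∀ x ∈ X, ∀ y ∈ Y, x * y = y * x)
    (ha : ∀ X ∈ K, ∀ Y ∈ K, X ≠ Y → (∀ x ∈ X, ∀ y ∈ Y, x * y = y * x) →
      ∀ Z : Subgroup G, Z ≤ X ⊔ Y → Nat.card ↥Z = p → Z ∈ K)
    (hb : ∀ X ∈ K, ∀ Y ∈ K, X ≠ Y → (∀ x ∈ X, ∀ y ∈ Y, x * y = y * x) →
      ∀ W ∈ K, (X ⊔ Y) ⊓ Subgroup.centralizer (W : Set G) ≠ ⊥) :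
    (∃ V ∈ K, (∀ W ∈ K, ∀ v ∈ V, ∀ w ∈ W, v * w = w * v) ∧ V ≤ Cfsg.pCore p G) ∧ ¬ IsSimpleGroup G := by
  haveI : Fact p.Prime := ⟨hp⟩
  have ha' : ∀ X ∈ K, ∀ Y ∈ K, X ≠ Y → Perp X Y → ∀ Z : Subgroup G, Z ≤ X ⊔ Y → Nat.card ↥Z = p → Z ∈ K :=
    fun X hX Y hY h1 h2 => ha X hX Y hY h1 (perp_iff.1 h2)
  have hb' : ∀ X ∈ K, ∀ Y ∈ K, X ≠ Y → Perp X Y → ∀ W ∈ K, (X ⊔ Y) ⊓ Subgroup.centralizer (W : Set G) ≠ ⊥ :=
    fun X hX Y hY h1 h2 => hb X hX Y hY h1 (perp_iff.1 h2)
  obtain ⟨X, hX, Y, hY, hXY, hc⟩ := hex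
  obtain ⟨V, hV, hVall⟩ : ∃ V ∈ K, ∀ W ∈ K, Perp V W := by
    by_contra hnd
    push Not at hnd
    exact no_lines K hK hKc ha' hb' hnd hX hY hXY (perp_iff.2 hc)
  set S : Set G := {g : G | ∃ V ∈ K, (∀ W ∈ K, Perp V W) ∧ g ∈ V} with hS
  have hScomm : ∀ a ∈ S, ∀ b ∈ S, a * b = b * a := by
    rintro a ⟨A, _, hA, haA⟩ b ⟨B, hB, _, hbB⟩
    exact perp_iff.1 (hA B hB) a haA b hbB
  set N := Subgroup.closure S with hN
  have hNc : IsMulCommutative N := Subgroup.isMulCommutative_closure hScomm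
  have hNn : N.Normal := by
    refine Subgroup.Normal.of_conjugate_fixed fun g => ?_
    rw [hN]
    show (Subgroup.closure S).map (MulAut.conj g).toMonoidHom = _
    rw [MonoidHom.map_closure]
    congr 1
    ext a
    constructor
    · rintro ⟨b, ⟨B, hB, hBall, hbB⟩, rfl⟩
      refine ⟨cj g B, hKc B hB g, fun W hW => ?_, ⟨b, hbB, rfl⟩⟩
      have := perp_cj (g := g) (hBall _ (hKc W hW g⁻¹))
      have e : cj g (Subgroup.map (MulAut.conj g⁻¹).toMonoidHom W) = W := by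
        rw [cj, Subgroup.map_map]
        convert Subgroup.map_id W using 2
        ext w; simp [mul_assoc]
      rwa [e] at this
    · rintro ⟨B, hB, hBall, haB⟩
      refine ⟨g⁻¹ * a * g, ⟨cj g⁻¹ B, hKc B hB g⁻¹, fun W hW => ?_, ⟨a, haB, by simp⟩⟩, by simp [mul_assoc]⟩
      have := perp_cj (g := g⁻¹) (hBall _ (hKc W hW g))
      have e : cj g⁻¹ (Subgroup.map (MulAut.conj g).toMonoidHom W) = W := by
        rw [cj, Subgroup.map_map]
        convert Subgroup.map_id W using 2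
        ext w; simp [mul_assoc]
      rwa [e] at this
  have hNp : ∀ a ∈ N, a ^ p = 1 := by
    intro a ha
    induction ha using Subgroup.closure_induction with
    | mem a ha =>
      obtain ⟨A, hA, _, haA⟩ := ha
      exact pow_p_eq_one (hK A hA) haA
    | one => exact one_pow p
    | mul a b ha hb iha ihb =>
      have hcm : Commute a b := congrArg Subtype.val (hNc.is_comm.comm ⟨a, ha⟩ ⟨b, hb⟩)
      rw [hcm.mul_pow, iha, ihb, one_mul]
    | inv a _ iha => rw [inv_pow, iha, inv_one]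
  have hVN : V ≤ N := fun v hv => Subgroup.subset_closure ⟨V, hV, hVall, hv⟩
  refine ⟨⟨V, hV, fun W hW => perp_iff.1 (hVall W hW), hVN.trans ?_⟩, ?_⟩
  · exact le_sSup ⟨hNn, fun a => ⟨1, Subtype.ext (by simpa using hNp a a.2)⟩⟩
  · intro hsimple
    rcases hNn.eq_bot_or_eq_top with h | h
    · obtain ⟨v, hv, hv1⟩ := exists_ne_one (hK V hV)
      exact hv1 (Subgroup.mem_bot.1 (h ▸ hVN hv))
    · have hcomm : ∀ a b : G, a * b = b * a := fun a b =>
        congrArg Subtype.val (hNc.is_comm.comm ⟨a, h ▸ Subgroup.mem_top a⟩ ⟨b, h ▸ Subgroup.mem_top b⟩)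
      have key : ∀ A ∈ K, A = ⊤ := by
        intro A hA
        have hAn : A.Normal := ⟨fun a ha g => by rw [hcomm g a, mul_assoc, mul_inv_cancel, mul_one]; exact ha⟩
        rcases hAn.eq_bot_or_eq_top with h' | h'
        · obtain ⟨v, hv, hv1⟩ := exists_ne_one (hK A hA)
          exact absurd (Subgroup.mem_bot.1 (h' ▸ hv)) hv1
        · exact h'
      exact hXY ((key X hX).trans (key Y hY).symm)

end Cfsg.Agent.S3196
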