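import Cfsg.Statements.S3200
import Mathlib
import Cfsg.Agent.Lib.CharInt.Burnside
import Cfsg.Agent.Lib.Solvable.Hall
set_option linter.style.haveILetI false
-- import your own Cfsg.Agent.* helpers here

set_option autoImplicit false
open Cfsg

namespace Cfsg.Agent.S3200

universe u

theorem solvable_aux : ∀ (n : ℕ) (H : Type u) [Group H] [Finite H], Nat.card H = n →
    ∀ C : Subgroup H, IsMulCommutative C → (∃ k, C.index ∣ 2 ^ k) → Group.IsSolvable H := by
  intro n
  induction n using Nat.strong_induction_on with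
  | _ n ih =>
    intro H _ _ hn C hC hidx
    obtain ⟨k, hk⟩ := hidx
    rcases subsingleton_or_nontrivial H with hs | hs
    · infer_instance
    by_cases hN : ∃ N : Subgroup H, N.Normal ∧ N ≠ ⊥ ∧ N ≠ ⊤
    · obtain ⟨N, hNn, hNb, hNt⟩ := hN
      haveI := hNn
      haveI hsN : Group.IsSolvable N := by
        refine ih _ ?_ N rfl (C.subgroupOf N) ?_ ⟨k, ?_⟩
        · rw [← hn]
          exact lt_of_le_of_ne (Subgroup.card_le_card_group N) fun he => hNt (Subgroup.eq_top_of_card_eq N he)
        · refine ⟨⟨fun a b => Subtype.ext (Subtype.ext ?_)⟩⟩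
          show ((a : N) : H) * (b : N) = (b : N) * (a : N)
          exact congrArg Subtype.val (hC.is_comm.comm ⟨((a : N) : H), a.2⟩ ⟨((b : N) : H), b.2⟩)
        · refine dvd_trans ?_ hk
          show C.relIndex N ∣ C.index
          obtain ⟨t, ht⟩ := Subgroup.relIndex_dvd_index_of_normal (K := C) N
          have h1 := Subgroup.relIndex_mul_index (inf_le_right : C ⊓ N ≤ N)
          have h2 := Subgroup.relIndex_mul_index (inf_le_left : C ⊓ N ≤ C)
          rw [Subgroup.inf_relIndex_right, ← h2, Subgroup.inf_relIndex_left, ht] at h1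
          have hpos : 0 < N.relIndex C := Nat.pos_of_ne_zero (N.subgroupOf C).index_ne_zero_of_finite
          exact Dvd.intro t (Nat.eq_of_mul_eq_mul_left hpos (by rw [← h1]; ring))
      haveI hsQ : Group.IsSolvable (H ⧸ N) := by
        refine ih _ ?_ (H ⧸ N) rfl (C.map (QuotientGroup.mk' N)) ?_ ⟨k, ?_⟩
        · rw [← hn]
          have h2 := Subgroup.card_eq_card_quotient_mul_card_subgroup N
          have h3 : 1 < Nat.card N := N.one_lt_card_iff_ne_bot.mpr hNb
          have h4 : 0 < Nat.card (H ⧸ N) := Nat.card_pos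
          nlinarith
        · refine ⟨⟨fun a b => Subtype.ext ?_⟩⟩
          obtain ⟨x, hx, hxa⟩ := a.2
          obtain ⟨y, hy, hyb⟩ := b.2
          show (a : H ⧸ N) * b = b * a
          rw [← hxa, ← hyb, ← map_mul, ← map_mul]
          exact congrArg _ (congrArg Subtype.val (hC.is_comm.comm ⟨x, hx⟩ ⟨y, hy⟩))
        · exact (Subgroup.index_map_dvd _ (QuotientGroup.mk'_surjective N)).trans hk
      exact Group.isSolvable_of_ker_le_range N.subtype (QuotientGroup.mk' N)
        (by rw [QuotientGroup.ker_mk', Subgroup.range_subtype])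
    · push Not at hN
      haveI : IsSimpleGroup H := ⟨fun N hN' => by
        by_cases h1 : N = ⊥
        · exact Or.inl h1
        · exact Or.inr (hN N hN' h1)⟩
      by_cases hCb : C = ⊥
      · rw [hCb, Subgroup.index_bot] at hk
        obtain ⟨j, _, hj⟩ := (Nat.dvd_prime_pow Nat.prime_two).1 hk
        haveI : Fact (Nat.Prime 2) := ⟨Nat.prime_two⟩
        haveI : Group.IsNilpotent H := (IsPGroup.of_card hj).isNilpotent
        infer_instance
      obtain ⟨⟨c, hc⟩, hc1⟩ := Subgroup.ne_bot_iff_exists_ne_one.1 hCb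
      have hle : C ≤ Subgroup.centralizer ({c} : Set H) := fun x hx => Subgroup.mem_centralizer_singleton_iff.2
        (congrArg Subtype.val (hC.is_comm.comm ⟨x, hx⟩ ⟨c, hc⟩))
      obtain ⟨j, _, hj⟩ := (Nat.dvd_prime_pow Nat.prime_two).1 ((Subgroup.index_dvd_of_le hle).trans hk)
      have hp := CharInt.card_prime_of_class_prime_pow Nat.prime_two (fun h => hc1 (Subtype.ext h)) hj
      haveI : Fact (Nat.card H).Prime := ⟨hp⟩
      haveI : IsCyclic H := isCyclic_of_prime_card rfl
      exact ⟨⟨fun a b => (IsCyclic.commGroup (α := H)).mul_comm a b⟩⟩ |> fun (h : IsMulCommutative H) =>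
        Group.isSolvable_of_comm (fun a b => h.is_comm.comm a b)

theorem exists_complement {L : Type*} [Group L] [Finite L] (D : Subgroup L) (hD : Odd (Nat.card D))
    (hidx : ∃ k, D.index ∣ 2 ^ k) : ∃ P : Sylow 2 L, Subgroup.IsComplement' (P : Subgroup L) D := by
  haveI : Fact (Nat.Prime 2) := ⟨Nat.prime_two⟩
  obtain ⟨k, hk⟩ := hidx
  obtain ⟨j, _, hj⟩ := (Nat.dvd_prime_pow Nat.prime_two).1 hk
  let P : Sylow 2 L := default
  refine ⟨P, ?_⟩
  obtain ⟨i, hi⟩ := IsPGroup.iff_card.1 P.2
  have hcop : (Nat.card P).Coprime (Nat.card D) := by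
    rw [hi]; exact Nat.Coprime.pow_left i (Nat.coprime_two_left.2 hD)
  refine Subgroup.isComplement'_of_coprime ?_ hcop
  have h1 := P.1.card_mul_index
  have h2 := D.card_mul_index
  have hd1 : Nat.card P ∣ D.index := by
    have : Nat.card P ∣ D.index * Nat.card D := by rw [mul_comm, h2]; exact Subgroup.card_subgroup_dvd_card _
    exact hcop.dvd_of_dvd_mul_right this
  have hd2 : D.index ∣ Nat.card P := by
    have : D.index ∣ Nat.card P * P.1.index := by rw [h1, ← h2]; exact dvd_mul_left _ _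
    refine (Nat.Coprime.dvd_of_dvd_mul_right ?_ this)
    rw [hj]
    exact Nat.Coprime.pow_left j ((Nat.Prime.coprime_iff_not_dvd Nat.prime_two).2 P.not_dvd_index)
  rw [Nat.dvd_antisymm hd1 hd2, mul_comm, h2]

/-- Let H be a finite group in which a Sylow 2-subgroup has an abelian complement (an abelian subgroup meeting it trivially whose product with it is all of H). Then H is solvable, and every subgroup and every quotient group of H again has a Sylow 2-subgroup with an abelian complement. -/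
theorem result {H : Type*} [Group H] [Finite H]
    (S : Sylow 2 H) (C : Subgroup H) (hC : IsMulCommutative ↥C) (hSC : Subgroup.IsComplement' (S : Subgroup H) C) :
    Group.IsSolvable H ∧
    (∀ L : Subgroup H, ∃ (P : Sylow 2 ↥L) (D : Subgroup ↥L), IsMulCommutative ↥D ∧ Subgroup.IsComplement' (P : Subgroup ↥L) D) ∧
    (∀ (N : Subgroup H) [N.Normal], ∃ (P : Sylow 2 (H ⧸ N)) (D : Subgroup (H ⧸ N)),
      IsMulCommutative ↥D ∧ Subgroup.IsComplement' (P : Subgroup (H ⧸ N)) D) := by
  haveI : Fact (Nat.Prime 2) := ⟨Nat.prime_two⟩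
  obtain ⟨k, hk⟩ := IsPGroup.iff_card.1 S.2
  have hidx : C.index = 2 ^ k := by rw [hSC.index_eq_card, hk]
  have hodd : Odd (Nat.card C) := by
    rw [← hSC.symm.index_eq_card, ← Nat.not_even_iff_odd, even_iff_two_dvd]
    exact S.not_dvd_index
  haveI hsol : Group.IsSolvable H := solvable_aux _ H rfl C hC ⟨k, dvd_of_eq hidx⟩
  refine ⟨hsol, fun L => ?_, fun N _ => ?_⟩
  · obtain ⟨D, hD1, hD2⟩ := Solvable.exists_pComplement (G := L) Nat.prime_two
    have hDodd : Odd (Nat.card D) := by rwa [← Nat.not_even_iff_odd, even_iff_two_dvd]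
    obtain ⟨P, hP⟩ := exists_complement D hDodd ⟨_, dvd_of_eq hD1⟩
    refine ⟨P, D, ?_, hP⟩
    have hG : Nat.card H = Nat.card C * Nat.card (S : Subgroup H) := by
      rw [← hSC.index_eq_card, Subgroup.card_mul_index]
    obtain ⟨g, hg⟩ := Solvable.exists_le_conj_hall hG
      (by rw [hk]; exact Nat.Coprime.pow_right k (Nat.coprime_two_right.2 hodd)) (H := C) rfl (K := D.map L.subtype)
      (by rw [hk, Subgroup.card_map_of_injective L.subtype_injective]
          exact Nat.Coprime.pow_right k (Nat.coprime_two_right.2 hDodd))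
    refine ⟨⟨fun a b => Subtype.ext (Subtype.ext ?_)⟩⟩
    obtain ⟨x, hx, hxe⟩ := hg ⟨(a : L), a.2, rfl⟩
    obtain ⟨y, hy, hye⟩ := hg ⟨(b : L), b.2, rfl⟩
    show ((a : L) : H) * (b : L) = (b : L) * (a : L)
    have hxe' : g * x * g⁻¹ = ((a : L) : H) := hxe
    have hye' : g * y * g⁻¹ = ((b : L) : H) := hye
    have hxy : x * y = y * x := congrArg Subtype.val (hC.is_comm.comm ⟨x, hx⟩ ⟨y, hy⟩)
    rw [← hxe', ← hye']
    calc g * x * g⁻¹ * (g * y * g⁻¹) = g * (x * y) * g⁻¹ := by group
      _ = g * (y * x) * g⁻¹ := by rw [hxy]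
      _ = _ := by group
  · obtain ⟨P, hP⟩ := exists_complement (C.map (QuotientGroup.mk' N))
      (hodd.of_dvd_nat (Subgroup.card_map_dvd _ _))
      ⟨k, hidx ▸ Subgroup.index_map_dvd _ (QuotientGroup.mk'_surjective N)⟩
    refine ⟨P, _, ⟨⟨fun a b => Subtype.ext ?_⟩⟩, hP⟩
    obtain ⟨x, hx, hxa⟩ := a.2
    obtain ⟨y, hy, hyb⟩ := b.2
    show (a : H ⧸ N) * b = b * a
    rw [← hxa, ← hyb, ← map_mul, ← map_mul]
    exact congrArg _ (congrArg Subtype.val (hC.is_comm.comm ⟨x, hx⟩ ⟨y, hy⟩))

end Cfsg.Agent.S3200
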