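import Cfsg.Statements.S3201
import Mathlib
import Cfsg.Agent.Lib.PGroup.QuaternionQuot
import Cfsg.Agent.Lib.PGroup.Basic
-- import your own Cfsg.Agent.* helpers here

set_option autoImplicit false
set_option linter.unusedVariables false
open Cfsg

namespace Cfsg.Agent.S3201

variable {S : Type*} [Group S]

/-- In a quotient by a proper subgroup of the centre with a unique involution, square roots of 1 come from the centre. -/
lemma mem_center_of_sq {D : Subgroup S} [D.Normal] (hD : D ≤ Subgroup.center S)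
    {z : S} (hz : z ∈ Subgroup.center S) (hzD : z ∉ D) (hz2 : z ^ 2 = 1)
    (huniq : ∃! x : S ⧸ D, orderOf x = 2) {g : S} (hg : g ^ 2 ∈ D) : g ∈ Subgroup.center S := by
  have hp : Fact (Nat.Prime 2) := ⟨Nat.prime_two⟩
  by_cases h1 : g ∈ D
  · exact hD h1
  obtain ⟨t, -, htu⟩ := huniq
  have e1 : orderOf (QuotientGroup.mk' D g) = 2 :=
    orderOf_eq_prime (by rw [← map_pow]; exact (QuotientGroup.eq_one_iff _).2 hg)
      (fun h => h1 ((QuotientGroup.eq_one_iff _).1 h))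
  have e2 : orderOf (QuotientGroup.mk' D z) = 2 :=
    orderOf_eq_prime (by rw [← map_pow, hz2, map_one]) (fun h => hzD ((QuotientGroup.eq_one_iff _).1 h))
  obtain ⟨d, hd, he⟩ := (QuotientGroup.mk'_eq_mk' D).1 ((htu _ e2).trans (htu _ e1).symm)
  exact he ▸ mul_mem hz (hD hd)

lemma pow_mul_eq (x : S) {z : S} {N : ℕ} (hxN : x ^ N = z) (hz : z ^ 2 = 1) (k : ℕ) : x ^ (2 * N * k) = 1 := by
  rw [pow_mul, mul_comm 2 N, pow_mul, hxN, hz, one_pow]

/-- Let S be a finite 2-group whose centre Z(S) has n ≥ 2 distinct maximal subgroups C₁, …, Cₙ with trivial intersection such that each quotient S/Cᵢ is a non-abelian group with exactly one involution (a generalized quaternion group). Then S is the internal direct product of an elementary abelian subgroup and a non-abelian subgroup with exactly one involution. -/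
theorem result {S : Type*} [Group S] [Finite S]
    (hS : IsPGroup 2 S) (n : ℕ) (hn : 2 ≤ n) (C : Fin n → Subgroup ↥(Subgroup.center S))
    (hCmax : ∀ i, IsCoatom (C i)) (hCinj : Function.Injective C) (hCint : ⨅ i, C i = ⊥)
    (hCq : ∀ i, ∃ (_ : ((C i).map (Subgroup.center S).subtype).Normal),
      ¬ IsMulCommutative (S ⧸ (C i).map (Subgroup.center S).subtype) ∧
      ∃! x : S ⧸ (C i).map (Subgroup.center S).subtype, orderOf x = 2) :
    ∃ E Q : Subgroup S, Cfsg.IsInternalDirectProduct E Q ⊤ ∧ Cfsg.IsElementaryAbelian 2 E ∧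
      ¬ IsMulCommutative ↥Q ∧ ∃! x : ↥Q, orderOf x = 2 := by
  have hp : Fact (Nat.Prime 2) := ⟨Nat.prime_two⟩
  have hidx : ∀ i, (C i).index = 2 := fun i => PGroup.index_of_isCoatom (hS.to_subgroup (Subgroup.center S)) (hCmax i)
  have hsep : ∀ w : ↥(Subgroup.center S), (∀ i, w ∈ C i) → w = 1 := fun w hw => by
    have : w ∈ ⨅ i, C i := Subgroup.mem_iInf.2 hw
    rwa [hCint, Subgroup.mem_bot] at this
  have hsq : ∀ w : ↥(Subgroup.center S), w ^ 2 = 1 := fun w => hsep _ fun i => by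
    have := Subgroup.mul_self_mem_of_index_two (hidx i) w
    rwa [pow_two]
  have hsqS : ∀ g ∈ (Subgroup.center S), g ^ 2 = 1 := fun g hg => congrArg Subtype.val (hsq ⟨g, hg⟩)
  have heqn : ∀ v w : ↥(Subgroup.center S), (∀ i, v ∉ C i) → (∀ i, w ∉ C i) → v = w := fun v w hv hw => by
    have h1 := hsep (v * w) fun i => (Subgroup.mul_mem_iff_of_index_two (hidx i)).2 (iff_of_false (hv i) (hw i))
    have h2 := hsq w
    rw [pow_two] at h2
    exact mul_right_cancel (h1.trans h2.symm)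
  -- square roots modulo each `C i`
  have hroot : ∀ (i : Fin n) (g : S), g ∉ (Subgroup.center S) → g ^ 2 ∉ (C i).map (Subgroup.center S).subtype := by
    intro i g hg hmem
    obtain ⟨hn', -, huniq⟩ := hCq i
    obtain ⟨z, -, hzC⟩ := SetLike.exists_of_lt (lt_top_iff_ne_top.2 (hCmax i).1)
    refine hg (mem_center_of_sq (D := (C i).map (Subgroup.center S).subtype) (Subgroup.map_subtype_le _) z.2 ?_ (hsqS _ z.2) huniq hmem)
    rintro ⟨z', hz', he⟩
    exact hzC (Subtype.ext he ▸ hz')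
  let i₀ : Fin n := ⟨0, by omega⟩
  obtain ⟨hn₀, hna, huniq⟩ := hCq i₀
  set D := (C i₀).map (Subgroup.center S).subtype with hDdef
  have hDZ : D ≤ (Subgroup.center S) := Subgroup.map_subtype_le _
  obtain ⟨k, a, b, hk, ha, hab, hbb, hba, hgen⟩ := PGroup.exists_quaternion_generators (hS.to_quotient D) hna huniq
  obtain ⟨x, rfl⟩ := QuotientGroup.mk'_surjective D a
  obtain ⟨y, rfl⟩ := QuotientGroup.mk'_surjective D b
  set N := 2 ^ k with hN
  have hN0 : 0 < N := by positivity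
  set A := QuotientGroup.mk' D x with hA
  set B := QuotientGroup.mk' D y with hB
  have hAN : A ^ N ≠ 1 := by
    intro h
    have := Nat.le_of_dvd hN0 (orderOf_dvd_of_pow_eq_one h)
    rw [ha, pow_succ, ← hN] at this
    omega
  have hA2N : (A ^ N) ^ 2 = 1 := by
    rw [← pow_mul, hN, ← pow_succ, ← ha, pow_orderOf_eq_one]
  have hBA : (B * A) ^ 2 = A ^ N := by
    calc (B * A) ^ 2 = (B * A * B⁻¹) * B ^ 2 * A := by rw [pow_two, pow_two]; group
      _ = A⁻¹ * A ^ N * A := by rw [hab, hbb]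
      _ = A ^ N := by rw [mul_assoc, ← pow_succ, pow_succ']; group
  have hsqD : ∀ g : S, (QuotientGroup.mk' D g) ^ 2 ≠ 1 → g ∉ (Subgroup.center S) := fun g hg hgZ => hg (by
    rw [← map_pow, hsqS g hgZ, map_one])
  have hsqZ : ∀ g : S, (QuotientGroup.mk' D g) ^ 2 = A ^ N → g ^ 2 ∈ (Subgroup.center S) := by
    intro g hg
    by_contra h
    apply hroot i₀ (g ^ 2) h
    exact (QuotientGroup.eq_one_iff _).1 (by
      show QuotientGroup.mk' D ((g ^ 2) ^ 2) = 1
      rw [map_pow, map_pow, hg, hA2N])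
  have hxh : x ^ (N / 2) ∉ (Subgroup.center S) ∧ x ^ N = (x ^ (N / 2)) ^ 2 := by
    have h2 : N / 2 * 2 = N := Nat.div_mul_cancel (dvd_pow_self 2 (by omega))
    refine ⟨hsqD _ ?_, by rw [← pow_mul, h2]⟩
    rw [map_pow, ← pow_mul, h2]; exact hAN
  have hxZ : x ^ N ∈ (Subgroup.center S) := by
    rw [hxh.2]
    refine hsqZ _ ?_
    rw [← map_pow, ← hxh.2, map_pow]
  have hyZ : y ∉ (Subgroup.center S) := hsqD y (by rw [hbb]; exact hAN)
  have hyxZ : y * x ∉ (Subgroup.center S) := hsqD _ (by rw [map_mul, hBA]; exact hAN)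
  have key : ∀ g : S, g ∉ (Subgroup.center S) → (hg : g ^ 2 ∈ (Subgroup.center S)) → g ^ 2 = x ^ N := fun g hgZ hg => congrArg Subtype.val
    (heqn ⟨g ^ 2, hg⟩ ⟨x ^ N, hxZ⟩ (fun i h => hroot i g hgZ ⟨_, h, rfl⟩)
      (fun i h => hroot i _ hxh.1 ⟨_, h, hxh.2⟩))
  have hy2 : y ^ 2 = x ^ N := key y hyZ (hsqZ y hbb)
  have hyx2 : (y * x) ^ 2 = x ^ N := key _ hyxZ (hsqZ _ (by rw [map_mul, hBA]))
  have hrel : y * x * y⁻¹ = x⁻¹ := by
    have h1 : y * x * y⁻¹ * y ^ 2 * x = x ^ N := by rw [← hyx2, pow_two, pow_two]; group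
    rw [hy2, mul_assoc, ← pow_succ, pow_succ', ← mul_assoc] at h1
    exact eq_inv_of_mul_eq_one_left (mul_eq_right.1 h1)
  have hx2N : x ^ (2 * N) = 1 := by simpa using pow_mul_eq x rfl (hsqS _ hxZ) 1
  -- the complement
  set Q : Subgroup S := Subgroup.zpowers x ⊔ Subgroup.zpowers y with hQ
  have hxQ : x ∈ Q := Subgroup.mem_sup_left (Subgroup.mem_zpowers x)
  have hyQ : y ∈ Q := Subgroup.mem_sup_right (Subgroup.mem_zpowers y)
  have hform : ∀ q ∈ Q, ∃ m : ℤ, q = x ^ m ∨ q = y * x ^ m := by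
    intro q hq
    have hnorm : Subgroup.zpowers y ≤ Subgroup.normalizer (Subgroup.zpowers x : Set S) := by
      rw [Subgroup.zpowers_le, Subgroup.mem_normalizer_iff]
      have hc : ∀ m : ℤ, y * x ^ m * y⁻¹ = x ^ (-m) := fun m => by rw [← conj_zpow, hrel, inv_zpow, zpow_neg]
      intro t
      constructor
      · rintro ⟨m, rfl⟩; exact ⟨-m, (hc m).symm⟩
      · rintro ⟨m, hm⟩
        refine ⟨-m, ?_⟩
        have hm' : x ^ m = y * t * y⁻¹ := hm
        have h1 := hc (-m)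
        rw [neg_neg, hm'] at h1
        exact mul_left_cancel (mul_right_cancel h1)
    have hq' : q ∈ ((Subgroup.zpowers y ⊔ Subgroup.zpowers x : Subgroup S) : Set S) := by rwa [sup_comm]
    rw [Subgroup.coe_mul_of_left_le_normalizer_right _ _ hnorm] at hq'
    obtain ⟨_, ⟨j, rfl⟩, _, ⟨m, rfl⟩, rfl⟩ := Set.mem_mul.1 hq'
    rcases Int.even_or_odd' j with ⟨l, rfl | rfl⟩
    · refine ⟨(N : ℤ) * l + m, Or.inl ?_⟩
      simp only [zpow_mul, zpow_add, zpow_natCast, zpow_ofNat, hy2]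
    · refine ⟨(N : ℤ) * l + m, Or.inr ?_⟩
      show y ^ (2 * l + 1) * x ^ m = _
      rw [add_comm (2 * l), zpow_one_add, mul_assoc]
      simp only [zpow_mul, zpow_add, zpow_natCast, zpow_ofNat, hy2]
  have hinj : ∀ q ∈ Q, q ∈ D → q = 1 := by
    intro q hq hqD
    have hone : QuotientGroup.mk' D q = 1 := (QuotientGroup.eq_one_iff _).2 hqD
    obtain ⟨m, rfl | rfl⟩ := hform q hq
    · rw [map_zpow] at hone
      obtain ⟨l, hl⟩ := orderOf_dvd_iff_zpow_eq_one.2 hone
      rw [hl, ha, show ((2 ^ (k + 1) : ℕ) : ℤ) * l = ((2 * N : ℕ) : ℤ) * l by rw [hN, pow_succ']]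
      rw [zpow_mul, zpow_natCast, hx2N, one_zpow]
    · rw [map_mul, map_zpow] at hone
      exact absurd ⟨-m, by show A ^ (-m) = B; rw [zpow_neg, eq_comm]; exact eq_inv_of_mul_eq_one_left hone⟩ hba
  have htop : D ⊔ Q = ⊤ := by
    rw [eq_top_iff]
    intro g _
    obtain ⟨m, hm | hm⟩ := hgen (QuotientGroup.mk' D g)
    · rw [hA, ← map_pow] at hm
      obtain ⟨e, he, heq⟩ := (QuotientGroup.mk'_eq_mk' D).1 hm.symm
      rw [← heq]
      exact mul_mem (Subgroup.mem_sup_right (pow_mem hxQ m)) (Subgroup.mem_sup_left he)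
    · rw [hA, hB, ← map_pow, ← map_mul] at hm
      obtain ⟨e, he, heq⟩ := (QuotientGroup.mk'_eq_mk' D).1 hm.symm
      rw [← heq]
      exact mul_mem (Subgroup.mem_sup_right (mul_mem hyQ (pow_mem hxQ m))) (Subgroup.mem_sup_left he)
  let φ : ↥Q →* S ⧸ D := (QuotientGroup.mk' D).comp Q.subtype
  have hφ : Function.Bijective φ := by
    constructor
    · rw [← MonoidHom.ker_eq_bot_iff, eq_bot_iff]
      intro q hq
      exact Subgroup.mem_bot.2 (Subtype.ext (hinj q q.2 ((QuotientGroup.eq_one_iff _).1 hq)))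
    · intro u
      obtain ⟨m, rfl | rfl⟩ := hgen u
      · exact ⟨⟨x ^ m, pow_mem hxQ m⟩, by simp [φ, hA]⟩
      · exact ⟨⟨y * x ^ m, mul_mem hyQ (pow_mem hxQ m)⟩, by simp [φ, hA, hB]⟩
  let e : ↥Q ≃* S ⧸ D := MulEquiv.ofBijective φ hφ
  refine ⟨D, Q, ⟨le_top, le_top, ?_, ?_, htop⟩, ⟨?_, fun d hd => hsqS d (hDZ hd)⟩, ?_, ?_⟩
  · exact fun d hd q _ => (Subgroup.mem_center_iff.1 (hDZ hd) q).symm
  · rw [eq_bot_iff]
    exact fun q hq => Subgroup.mem_bot.2 (hinj q hq.2 hq.1)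
  · exact ⟨⟨fun u v => Subtype.ext (Subgroup.mem_center_iff.1 (hDZ v.2) u)⟩⟩
  · intro hc
    apply hna
    refine ⟨⟨fun u v => ?_⟩⟩
    apply e.symm.injective
    rw [map_mul, map_mul]
    exact hc.is_comm.comm _ _
  · obtain ⟨t, ht, htu⟩ := huniq
    refine ⟨e.symm t, ?_, fun q hq => ?_⟩
    · show orderOf (e.symm t) = 2
      rw [MulEquiv.orderOf_eq]; exact ht
    · rw [← htu (e q) (by show orderOf (e q) = 2; rw [MulEquiv.orderOf_eq]; exact hq), e.symm_apply_apply]

end Cfsg.Agent.S3201
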