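import Cfsg.Statements.S3202
import Mathlib
import Cfsg.Agent.Lib.PGroup.QuaternionQuot
-- import your own Cfsg.Agent.* helpers here

set_option autoImplicit false
set_option linter.unusedVariables false
open Cfsg
open scoped commutatorElement

namespace Cfsg.Agent.S3202

/-- Let S be a finite 2-group of 2-rank exactly 2 and D a maximal subgroup of the centre of S such that S/D is a non-abelian group with exactly one involution (a generalized quaternion group). Then S has a nontrivial cyclic characteristic subgroup. -/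
theorem result {S : Type*} [Group S]
    [Finite S] (hS : IsPGroup 2 S) (hr2 : Cfsg.PRankLE 2 2 S) (hr1 : ¬ Cfsg.PRankLE 2 1 S)
    (D : Subgroup ↥(Subgroup.center S)) (hD : IsCoatom D)
    (hq : ∃ (_ : (D.map (Subgroup.center S).subtype).Normal),
      ¬ IsMulCommutative (S ⧸ D.map (Subgroup.center S).subtype) ∧
      ∃! x : S ⧸ D.map (Subgroup.center S).subtype, orderOf x = 2) :
    ∃ C : Subgroup S, C ≠ ⊥ ∧ IsCyclic ↥C ∧ C.Characteristic := by
  obtain ⟨hn, hna, huniq⟩ := hq
  set D' := D.map (Subgroup.center S).subtype with hD'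
  obtain ⟨n, a, b, hn1, ha, hab, -, -, hgen⟩ := PGroup.exists_quaternion_generators (hS.to_quotient D') hna huniq
  obtain ⟨x, rfl⟩ := QuotientGroup.mk'_surjective D' a
  obtain ⟨y, rfl⟩ := QuotientGroup.mk'_surjective D' b
  have hcent : D' ≤ Subgroup.center S := Subgroup.map_subtype_le _
  obtain ⟨d, hd, hrel⟩ : ∃ d ∈ D', y * x * y⁻¹ = x⁻¹ * d := by
    refine ⟨x * (y * x * y⁻¹), ?_, by group⟩
    rw [← map_inv, ← map_mul, ← map_mul, ← map_inv] at hab
    have := (QuotientGroup.eq_iff_div_mem).1 hab.symm
    rw [div_eq_mul_inv] at this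
    have h2 := D'.inv_mem this
    rw [mul_inv_rev, inv_inv, inv_inv] at h2
    have h3 := hn.conj_mem _ h2 x
    rwa [show x * (y * x * y⁻¹ * x) * x⁻¹ = x * (y * x * y⁻¹) by group] at h3
  have hdc : ∀ g, g * d = d * g := Subgroup.mem_center_iff.1 (hcent hd)
  set c := y * x * y⁻¹ * x⁻¹ with hc
  have hcd : c = (x⁻¹) ^ 2 * d := by rw [hc, hrel, pow_two, mul_assoc x⁻¹ d, ← hdc, mul_assoc]
  have hxc : Commute x c := by
    rw [hcd]; exact (((Commute.refl x).inv_right).pow_right 2).mul_right (hdc x)
  have hyc : y * c * y⁻¹ = c⁻¹ := by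
    calc y * c * y⁻¹ = (y * x * y⁻¹)⁻¹ ^ 2 * (y * d * y⁻¹) := by rw [hcd]; simp [pow_two, mul_assoc]
      _ = (d⁻¹ * x) ^ 2 * d := by rw [hrel, hdc y, mul_assoc d y, mul_inv_cancel, mul_one, mul_inv_rev, inv_inv]
      _ = c⁻¹ := by
        have hcm : Commute d x := (hdc x).symm
        rw [hcd, mul_inv_rev, Commute.mul_pow hcm.inv_left, ← inv_pow x⁻¹, inv_inv]
        rw [mul_assoc, hdc (x ^ 2), ← mul_assoc]
        rw [show (d⁻¹) ^ 2 * d = d⁻¹ by rw [pow_two]; group]
  have hgenS : Subgroup.closure {x, y} ⊔ D' = ⊤ := by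
    rw [eq_top_iff]
    intro g _
    have hxm : x ∈ Subgroup.closure ({x, y} : Set S) := Subgroup.subset_closure (by simp)
    have hym : y ∈ Subgroup.closure ({x, y} : Set S) := Subgroup.subset_closure (by simp)
    obtain ⟨k, hk | hk⟩ := hgen (QuotientGroup.mk' D' g)
    · rw [← map_pow] at hk
      obtain ⟨e, he, rfl⟩ := (QuotientGroup.mk'_eq_mk' D').1 hk.symm
      exact mul_mem (Subgroup.mem_sup_left (pow_mem hxm k)) (Subgroup.mem_sup_right he)
    · rw [← map_pow, ← map_mul] at hk
      obtain ⟨e, he, rfl⟩ := (QuotientGroup.mk'_eq_mk' D').1 hk.symm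
      exact mul_mem (Subgroup.mem_sup_left (mul_mem hym (pow_mem hxm k))) (Subgroup.mem_sup_right he)
  set C := Subgroup.zpowers c with hC
  have hCn : C.Normal := by
    rw [← Subgroup.normalizer_eq_top_iff, eq_top_iff, ← hgenS]
    have key : ∀ g : S, (g * c * g⁻¹ = c ∨ g * c * g⁻¹ = c⁻¹) → g ∈ Subgroup.normalizer (C : Set S) := by
      intro g hg
      rw [Subgroup.mem_normalizer_iff]
      intro t
      have step : ∀ k : ℤ, g * c ^ k * g⁻¹ ∈ C ∧ g⁻¹ * c ^ k * g ∈ C := by
        intro k
        rcases hg with hg | hg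
        · have hg' : g⁻¹ * c * g⁻¹⁻¹ = c := by
            conv_lhs => rw [← hg]
            group
          refine ⟨?_, ?_⟩
          · rw [← conj_zpow, hg]; exact zpow_mem (Subgroup.mem_zpowers c) k
          · have := conj_zpow (i := k) (a := g⁻¹) (b := c)
            rw [hg', inv_inv] at this
            rw [← this]; exact zpow_mem (Subgroup.mem_zpowers c) k
        · have hg' : g⁻¹ * c * g⁻¹⁻¹ = c⁻¹ := by
            have h1 : c = (g * c * g⁻¹)⁻¹ := by rw [hg, inv_inv]
            conv_lhs => rw [h1]
            group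
          refine ⟨?_, ?_⟩
          · rw [← conj_zpow, hg]; exact zpow_mem (C.inv_mem (Subgroup.mem_zpowers c)) k
          · have := conj_zpow (i := k) (a := g⁻¹) (b := c)
            rw [hg', inv_inv] at this
            rw [← this]; exact zpow_mem (C.inv_mem (Subgroup.mem_zpowers c)) k
      constructor
      · rintro ⟨k, rfl⟩; exact (step k).1
      · rintro ⟨k, hk⟩
        have := (step k).2
        rw [show c ^ k = g * t * g⁻¹ from hk] at this
        simpa [mul_assoc] using this
    refine sup_le ((Subgroup.closure_le _).2 ?_) (fun e he => key e (Or.inl (by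
      rw [(Subgroup.mem_center_iff.1 (hcent he) c).symm]; group)))
    rintro g (rfl | hg)
    · exact key g (Or.inl (by rw [hxc.eq]; group))
    · rw [Set.mem_singleton_iff] at hg
      exact hg ▸ key y (Or.inr hyc)
  have hle : commutator S ≤ C := by
    rw [← QuotientGroup.ker_mk' C, commutator_def, Subgroup.commutator_le]
    intro g _ h _
    have hall : ∀ g h : S, Commute (QuotientGroup.mk' C g) (QuotientGroup.mk' C h) := by
      have hxy : Commute (QuotientGroup.mk' C x) (QuotientGroup.mk' C y) := by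
        have h1 : QuotientGroup.mk' C (y * x * y⁻¹ * x⁻¹) = 1 :=
          (QuotientGroup.eq_one_iff _).2 (Subgroup.mem_zpowers c)
        simp only [map_mul, map_inv] at h1
        exact (mul_inv_eq_iff_eq_mul.1 (mul_inv_eq_one.1 h1)).symm
      have hinner : ∀ g ∈ ({x, y} : Set S) ∪ D', ∀ h ∈ ({x, y} : Set S) ∪ D',
          Commute (QuotientGroup.mk' C g) (QuotientGroup.mk' C h) := by
        rintro g ((rfl | rfl) | hg) h ((rfl | rfl) | hh)
        all_goals first
          | exact Commute.refl _
          | exact hxy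
          | exact hxy.symm
          | exact Commute.map (Subgroup.mem_center_iff.1 (hcent hh) g) _
          | exact Commute.map (Subgroup.mem_center_iff.1 (hcent hg) h).symm _
      have htop : Subgroup.closure ((QuotientGroup.mk' C) '' (({x, y} : Set S) ∪ D')) = ⊤ := by
        rw [← MonoidHom.map_closure, Subgroup.closure_union, Subgroup.closure_eq, hgenS]
        exact Subgroup.map_top_of_surjective _ (QuotientGroup.mk'_surjective C)
      have hcomm := Subgroup.isMulCommutative_closure (k := (QuotientGroup.mk' C) '' (({x, y} : Set S) ∪ D')) (by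
        rintro _ ⟨g, hg, rfl⟩ _ ⟨h, hh, rfl⟩
        exact hinner g hg h hh)
      intro g h
      rw [htop] at hcomm
      exact congrArg Subtype.val (hcomm.is_comm.comm ⟨QuotientGroup.mk' C g, trivial⟩ ⟨QuotientGroup.mk' C h, trivial⟩)
    rw [MonoidHom.mem_ker, map_commutatorElement]
    exact commutatorElement_eq_one_iff_commute.2 (hall g h)
  refine ⟨commutator S, ?_, Subgroup.isCyclic_of_le hle, inferInstance⟩
  intro h0
  apply hna
  refine ⟨⟨fun u v => ?_⟩⟩
  obtain ⟨u, rfl⟩ := QuotientGroup.mk'_surjective D' u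
  obtain ⟨v, rfl⟩ := QuotientGroup.mk'_surjective D' v
  have : ⁅u, v⁆ ∈ commutator S := Subgroup.commutator_mem_commutator (Subgroup.mem_top u) (Subgroup.mem_top v)
  rw [h0, Subgroup.mem_bot, commutatorElement_eq_one_iff_commute] at this
  exact this.map _

end Cfsg.Agent.S3202
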