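import Cfsg.Statements.S3203
import Mathlib
import Cfsg.Agent.Lib.PGroup.ElementaryAbelian
set_option linter.style.haveILetI false
-- import your own Cfsg.Agent.* helpers here

set_option autoImplicit false
set_option linter.unusedSectionVars false
open Cfsg

namespace Cfsg.Agent.S3203

variable {G : Type*} [Group G]

def IsMaxEA (S E : Subgroup G) : Prop :=
  E ≤ S ∧ Cfsg.IsElementaryAbelian 2 E ∧ ∀ C : Subgroup G, C ≤ S → Cfsg.IsElementaryAbelian 2 C → E ≤ C → C = E

lemma isMaxEA_map {S : Subgroup G} {A : Subgroup ↥S}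
    (hA : Cfsg.IsElementaryAbelian 2 A ∧ ∀ C : Subgroup ↥S, Cfsg.IsElementaryAbelian 2 C → A ≤ C → C = A) :
    IsMaxEA S (A.map S.subtype) := by
  refine ⟨Subgroup.map_subtype_le A, (PGroup.isElementaryAbelian_map_iff S.subtype_injective).2 hA.1, ?_⟩
  intro C hCS hC hAC
  have hC' : Cfsg.IsElementaryAbelian 2 (C.subgroupOf S) := by
    rwa [← PGroup.isElementaryAbelian_map_iff S.subtype_injective, Subgroup.subgroupOf_map_subtype, inf_eq_left.2 hCS]
  have := hA.2 (C.subgroupOf S) hC' (fun a ha => hAC ⟨a, ha, rfl⟩)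
  rw [← this, Subgroup.subgroupOf_map_subtype, inf_eq_left.2 hCS]

def cj (g : G) (A : Subgroup G) : Subgroup G := A.map (MulAut.conj g).toMonoidHom

lemma mem_cj {g x : G} {A : Subgroup G} : x ∈ cj g A ↔ g⁻¹ * x * g ∈ A := by
  constructor
  · rintro ⟨a, ha, rfl⟩
    simpa [mul_assoc] using ha
  · intro hx
    exact ⟨g⁻¹ * x * g, hx, by simp [mul_assoc]⟩

lemma cj_cj (g h : G) (A : Subgroup G) : cj g (cj h A) = cj (g * h) A := by
  ext x; simp [mem_cj, mul_assoc]

lemma cj_one (A : Subgroup G) : cj 1 A = A := by ext x; simp [mem_cj]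

lemma cj_inj (g : G) {A B : Subgroup G} (h : cj g A = cj g B) : A = B := by
  have := congrArg (cj g⁻¹) h
  simpa [cj_cj, cj_one] using this

lemma cj_eq_iff_normalizer (g : G) (A : Subgroup G) :
    g ∈ Subgroup.normalizer (A : Set G) ↔ cj g A = A := by
  rw [Subgroup.mem_normalizer_iff]
  constructor
  · intro h
    ext x
    rw [mem_cj, h (g⁻¹ * x * g)]
    simp [mul_assoc]
  · intro h x
    have e : (g * x * g⁻¹ ∈ cj g A) ↔ x ∈ A := by simp [mem_cj, mul_assoc]
    rw [h] at e
    exact e.symm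

lemma ea_cj {g : G} {A : Subgroup G} (h : Cfsg.IsElementaryAbelian 2 A) : Cfsg.IsElementaryAbelian 2 (cj g A) :=
  PGroup.isElementaryAbelian_map h _

lemma isMaxEA_cj {g : G} {S E : Subgroup G} (hg : g ∈ Subgroup.normalizer (S : Set G)) (h : IsMaxEA S E) :
    IsMaxEA S (cj g E) := by
  have hS : cj g S = S := (cj_eq_iff_normalizer g S).1 hg
  have hS' : cj g⁻¹ S = S := (cj_eq_iff_normalizer g⁻¹ S).1 (inv_mem hg)
  refine ⟨(Subgroup.map_mono h.1).trans hS.le, ea_cj h.2.1, fun C hCS hC hEC => ?_⟩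
  have h1 := h.2.2 (cj g⁻¹ C) ((Subgroup.map_mono hCS).trans hS'.le) (ea_cj hC) (by
    have hh : cj g⁻¹ (cj g E) ≤ cj g⁻¹ C := Subgroup.map_mono hEC
    rwa [cj_cj, inv_mul_cancel, cj_one] at hh)
  rw [← h1, cj_cj, mul_inv_cancel, cj_one]

section main
variable [Finite G] (S : Sylow 2 G) (A B : Subgroup G) (hAB : A ≠ B)
    (hA : IsMaxEA (S : Subgroup G) A) (hB : IsMaxEA (S : Subgroup G) B)
    (honly : ∀ C, IsMaxEA (S : Subgroup G) C → C = A ∨ C = B)
    (hprod : ∀ s ∈ (S : Subgroup G), ∃ a ∈ A, ∃ b ∈ B, a * b = s)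
include hAB hA hB honly hprod

theorem sylow_normalizes : (S : Subgroup G) ≤ Subgroup.normalizer (A : Set G) := by
  have hAA : ∀ a ∈ A, cj a A = A := fun a ha => (cj_eq_iff_normalizer a A).1 (Subgroup.le_normalizer ha)
  have hBA : ∀ b ∈ B, cj b A = A := by
    intro b hb
    rcases honly _ (isMaxEA_cj (Subgroup.le_normalizer (hB.1 hb)) hA) with h | h
    · exact h
    · exact absurd (cj_inj b (h.trans ((cj_eq_iff_normalizer b B).1 (Subgroup.le_normalizer hb)).symm)) hAB
  intro s hs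
  obtain ⟨a, ha, b, hb, rfl⟩ := hprod s hs
  rw [cj_eq_iff_normalizer, ← cj_cj, hBA b hb, hAA a ha]

theorem normalizer_le : Subgroup.normalizer ((S : Subgroup G) : Set G) ≤ Subgroup.normalizer (A : Set G) := by
  intro n hn
  rw [cj_eq_iff_normalizer]
  rcases honly _ (isMaxEA_cj hn hA) with h | h
  · exact h
  exfalso
  have hBn : cj n B = A := by
    rcases honly _ (isMaxEA_cj hn hB) with h' | h'
    · exact h'
    · exact absurd (cj_inj n (h.trans h'.symm)) hAB
  obtain ⟨i, m, hm, hnn⟩ := Nat.exists_eq_two_pow_mul_odd (orderOf_pos n).ne'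
  obtain ⟨k, hk⟩ := hm
  have hS : n ^ m ∈ (S : Subgroup G) := by
    have hp : IsPGroup 2 (Subgroup.zpowers (n ^ m)) := by
      refine IsPGroup.of_card (n := i) ?_
      rw [Nat.card_zpowers, orderOf_pow_of_dvd (by omega) (by rw [hnn]; exact dvd_mul_left _ _), hnn,
        Nat.mul_div_cancel _ (by omega)]
    have hle : Subgroup.zpowers (n ^ m) ≤ Subgroup.normalizer ((S : Subgroup G) : Set G) :=
      Subgroup.zpowers_le.2 (pow_mem hn m)
    have hsup := hp.to_sup_of_normal_right' S.2 hle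
    have := S.3 hsup le_sup_right
    exact this.le (Subgroup.mem_sup_left (Subgroup.mem_zpowers _))
  have h2 : ∀ l : ℕ, cj (n ^ (2 * l)) A = A := by
    intro l
    induction l with
    | zero => simp [cj_one]
    | succ l ihl => rw [show 2 * (l + 1) = 2 * l + 1 + 1 by ring, pow_succ, pow_succ, ← cj_cj, ← cj_cj, h, hBn, ihl]
  have h3 := (cj_eq_iff_normalizer _ _).1 (sylow_normalizes S A B hAB hA hB honly hprod hS)
  rw [hk, pow_succ', ← cj_cj, h2, h] at h3
  exact hAB h3.symm

theorem weaklyClosed (hnA : Subgroup.normalizer ((S : Subgroup G) : Set G) ≤ Subgroup.normalizer (A : Set G))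
    (hSA : (S : Subgroup G) ≤ Subgroup.normalizer (A : Set G)) (hSB : (S : Subgroup G) ≤ Subgroup.normalizer (B : Set G)) :
    Cfsg.IsWeaklyClosed A (S : Subgroup G) := by
  refine ⟨hA.1, fun g hg => ?_⟩
  change cj g A ≤ (S : Subgroup G) at hg
  show cj g A = A
  haveI : Fact (Nat.Prime 2) := ⟨Nat.prime_two⟩
  have hmax : IsMaxEA (S : Subgroup G) (cj g A) := by
    refine ⟨hg, ea_cj hA.2.1, fun W hWS hW hle => ?_⟩
    -- move `W` into `S` by an element of the centralizer of `A`
    set C := Subgroup.centralizer (A : Set G) with hC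
    set N := Subgroup.normalizer (A : Set G) with hN
    set W₀ := cj g⁻¹ W with hW₀
    have hW₀e : Cfsg.IsElementaryAbelian 2 W₀ := ea_cj hW
    have hAW₀ : A ≤ W₀ := by
      have hh : cj g⁻¹ (cj g A) ≤ cj g⁻¹ W := Subgroup.map_mono hle
      rwa [cj_cj, inv_mul_cancel, cj_one] at hh
    have hW₀N : W₀ ≤ N := by
      intro w hw
      rw [hN, Subgroup.mem_normalizer_iff]
      intro x
      constructor
      · intro hx
        rw [PGroup.mul_comm_of_elementaryAbelian hW₀e hw (hAW₀ hx), mul_assoc, mul_inv_cancel, mul_one]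
        exact hx
      · intro hx
        have := PGroup.mul_comm_of_elementaryAbelian hW₀e hw (hAW₀ hx)
        have h' : x = w * x * w⁻¹ := by
          have := congrArg (fun t => w⁻¹ * t) this
          simp [mul_assoc] at this
          rw [mul_assoc]; exact this.symm
        rwa [← h'] at hx
    obtain ⟨Q, hQ⟩ := ((PGroup.isPGroup_of_elementaryAbelian hW₀e).comap_subtype : IsPGroup 2 ↥(W₀.subgroupOf N)).exists_le_sylow
    obtain ⟨c, hc⟩ := MulAction.exists_smul_eq N Q (S.subtype hSA)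
    have hWS : cj (c : G) W₀ ≤ (S : Subgroup G) := by
      intro x hx
      rw [mem_cj] at hx
      have hxN : (c : G)⁻¹ * x * (c : G) ∈ N := hW₀N hx
      have : (⟨(c : G)⁻¹ * x * (c : G), hxN⟩ : N) ∈ (Q : Subgroup N) := hQ (Subgroup.mem_subgroupOf.2 hx)
      have h1 : c * ⟨(c : G)⁻¹ * x * (c : G), hxN⟩ * c⁻¹ ∈ ((c • Q : Sylow 2 N) : Subgroup N) := ⟨_, this, rfl⟩
      rw [hc] at h1
      have h2 : ((c * ⟨(c : G)⁻¹ * x * (c : G), hxN⟩ * c⁻¹ : N) : G) ∈ (S : Subgroup G) := h1
      simpa [mul_assoc] using h2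
    have hcA : cj (c : G) A = A := (cj_eq_iff_normalizer _ _).1 c.2
    have hAle : cj (c : G) A ≤ cj (c : G) W₀ := Subgroup.map_mono hAW₀
    rw [hcA] at hAle
    have e1 := hA.2.2 _ hWS (ea_cj hW₀e) hAle
    have e2 : W₀ = A := cj_inj (c : G) (e1.trans hcA.symm)
    rw [← e2, hW₀, cj_cj, mul_inv_cancel, cj_one]
  rcases honly _ hmax with h | h
  · exact h
  exfalso
  set N := Subgroup.normalizer (B : Set G) with hN
  have hgS : ((g • S : Sylow 2 G) : Subgroup G) ≤ N := by
    rintro x ⟨s, hs, rfl⟩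
    show g * s * g⁻¹ ∈ N
    have h1 := (cj_eq_iff_normalizer _ _).1 (hSA hs)
    rw [hN, cj_eq_iff_normalizer, ← h, cj_cj, show g * s * g⁻¹ * g = g * s by group, ← cj_cj, h1]
  obtain ⟨c, hc⟩ := MulAction.exists_smul_eq N ((g • S).subtype hgS) (S.subtype hSB)
  have hn : (c : G) * g ∈ Subgroup.normalizer ((S : Subgroup G) : Set G) := by
    have hle : (((c : G) • (g • S) : Sylow 2 G) : Subgroup G) ≤ N := by
      rintro x ⟨s, hs, rfl⟩
      exact N.mul_mem (N.mul_mem c.2 (hgS hs)) (N.inv_mem c.2)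
    have h1 : (c : G) • (g • S) = S := by
      apply Sylow.subtype_injective (N := N) (hP := hle) (hQ := hSB)
      rw [← hc, Sylow.smul_subtype]
      rfl
    rw [← mul_smul] at h1
    exact Sylow.smul_eq_iff_mem_normalizer.1 h1
  have := (cj_eq_iff_normalizer _ _).1 (hnA hn)
  rw [← cj_cj, h, (cj_eq_iff_normalizer _ _).1 c.2] at this
  exact hAB this.symm

end main

/-- Let S be a Sylow 2-subgroup of a finite group G having exactly two subgroups A ≠ B that are maximal among its elementary abelian subgroups, with S = AB. Then A and B are each weakly closed in S with respect to G, and the normalizer of S normalizes both A and B. -/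
theorem result {G : Type*} [Group G] [Finite G] (S : Sylow 2 G)
    (A B : Subgroup ↥(S : Subgroup G)) (hAB : A ≠ B)
    (hA : Cfsg.IsElementaryAbelian 2 A ∧ ∀ C : Subgroup ↥(S : Subgroup G), Cfsg.IsElementaryAbelian 2 C → A ≤ C → C = A)
    (hB : Cfsg.IsElementaryAbelian 2 B ∧ ∀ C : Subgroup ↥(S : Subgroup G), Cfsg.IsElementaryAbelian 2 C → B ≤ C → C = B)
    (honly : ∀ C : Subgroup ↥(S : Subgroup G), Cfsg.IsElementaryAbelian 2 C →
      (∀ D : Subgroup ↥(S : Subgroup G), Cfsg.IsElementaryAbelian 2 D → C ≤ D → D = C) → C = A ∨ C = B)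
    (hprod : ∀ s : ↥(S : Subgroup G), ∃ a ∈ A, ∃ b ∈ B, a * b = s)
    (A' B' : Subgroup G) (hA' : A' = A.map (S : Subgroup G).subtype) (hB' : B' = B.map (S : Subgroup G).subtype) :
    Cfsg.IsWeaklyClosed A' (S : Subgroup G) ∧ Cfsg.IsWeaklyClosed B' (S : Subgroup G) ∧
      Subgroup.normalizer ((S : Subgroup G) : Set G) ≤ Subgroup.normalizer (A' : Set G) ⊓ Subgroup.normalizer (B' : Set G) := by
  subst hA' hB'
  have hne : A.map (S : Subgroup G).subtype ≠ B.map (S : Subgroup G).subtype := fun h => hAB (Subgroup.map_injective (S : Subgroup G).subtype_injective h)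
  have honly' : ∀ C, IsMaxEA (S : Subgroup G) C → C = A.map (S : Subgroup G).subtype ∨ C = B.map (S : Subgroup G).subtype := by
    intro C hC
    have heq : (C.subgroupOf (S : Subgroup G)).map (S : Subgroup G).subtype = C := by
      rw [Subgroup.subgroupOf_map_subtype, inf_eq_left.2 hC.1]
    have hCe : Cfsg.IsElementaryAbelian 2 (C.subgroupOf (S : Subgroup G)) := by
      rw [← PGroup.isElementaryAbelian_map_iff (S : Subgroup G).subtype_injective, heq]; exact hC.2.1
    rcases honly (C.subgroupOf (S : Subgroup G)) hCe (fun D hD hle => by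
        apply Subgroup.map_injective (S : Subgroup G).subtype_injective
        rw [heq]
        refine hC.2.2 _ (Subgroup.map_subtype_le D) (PGroup.isElementaryAbelian_map hD _) ?_
        rw [← heq]; exact Subgroup.map_mono hle) with h | h
    · exact Or.inl (by rw [← heq, h])
    · exact Or.inr (by rw [← heq, h])
  have hprod' : ∀ s ∈ (S : Subgroup G), ∃ a ∈ A.map (S : Subgroup G).subtype, ∃ b ∈ B.map (S : Subgroup G).subtype, a * b = s := by
    intro s hs
    obtain ⟨a, ha, b, hb, hab⟩ := hprod ⟨s, hs⟩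
    exact ⟨a, ⟨a, ha, rfl⟩, b, ⟨b, hb, rfl⟩, congrArg Subtype.val hab⟩
  have hprod'' : ∀ s ∈ (S : Subgroup G), ∃ a ∈ B.map (S : Subgroup G).subtype, ∃ b ∈ A.map (S : Subgroup G).subtype, a * b = s := by
    intro s hs
    obtain ⟨a, ha, b, hb, hab⟩ := hprod' s⁻¹ (inv_mem hs)
    exact ⟨b⁻¹, inv_mem hb, a⁻¹, inv_mem ha, by rw [← mul_inv_rev, hab, inv_inv]⟩
  have honly'' : ∀ C, IsMaxEA (S : Subgroup G) C → C = B.map (S : Subgroup G).subtype ∨ C = A.map (S : Subgroup G).subtype := fun C hC => (honly' C hC).symm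
  have hmA := isMaxEA_map hA
  have hmB := isMaxEA_map hB
  have nA := normalizer_le S _ _ hne hmA hmB honly' hprod'
  have nB := normalizer_le S _ _ hne.symm hmB hmA honly'' hprod''
  have sA := sylow_normalizes S _ _ hne hmA hmB honly' hprod'
  have sB := sylow_normalizes S _ _ hne.symm hmB hmA honly'' hprod''
  exact ⟨weaklyClosed S _ _ hne hmA hmB honly' hprod' nA sA sB,
    weaklyClosed S _ _ hne.symm hmB hmA honly'' hprod'' nB sB sA, le_inf nA nB⟩

end Cfsg.Agent.S3203
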