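import Cfsg.Statements.S3208
import Mathlib
-- import your own Cfsg.Agent.* helpers here

set_option autoImplicit false
open Cfsg

namespace Cfsg.Agent.S3208

/-- Let j be an involution of a finite group G, H a subgroup of G, and T a Sylow 2-subgroup of H ∩ C_G(j) containing j such that ⟨j⟩ is a characteristic subgroup of T. Then T is a Sylow 2-subgroup of H. -/
theorem result {G : Type*} [Group G] [Finite G]
    (j : G) (hj : orderOf j = 2) (H T : Subgroup G) (hT : T ≤ H ⊓ Subgroup.centralizer ({j} : Set G)) (h2 : IsPGroup 2 ↥T)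
    (hSyl : ¬ 2 ∣ T.relIndex (H ⊓ Subgroup.centralizer ({j} : Set G))) (hjT : j ∈ T)
    (hchar : ((Subgroup.zpowers j).subgroupOf T).Characteristic) :
    ¬ 2 ∣ T.relIndex H := by
  intro hdvd
  haveI : Fact (Nat.Prime 2) := ⟨Nat.prime_two⟩
  have hTH : T ≤ H := hT.trans inf_le_left
  have hTC : T ≤ Subgroup.centralizer ({j} : Set G) := hT.trans inf_le_right
  obtain ⟨Q, hQ⟩ := (h2.comap_subtype : IsPGroup 2 ↥(T.subgroupOf H)).exists_le_sylow
  set P : Subgroup G := (Q : Subgroup H).map H.subtype with hP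
  have hPH : P ≤ H := Subgroup.map_subtype_le _
  have hTP : T ≤ P := by
    intro t ht
    exact ⟨⟨t, hTH ht⟩, hQ (Subgroup.mem_subgroupOf.2 ht), rfl⟩
  have hPp : IsPGroup 2 ↥P := Q.2.map _
  have hPidx : ¬ 2 ∣ P.relIndex H := by
    rw [hP, Subgroup.relIndex, Subgroup.subgroupOf, Subgroup.comap_map_eq_self_of_injective H.subtype_injective]
    exact Q.not_dvd_index
  have hne : T.subgroupOf P ≠ ⊤ := by
    rw [Ne, Subgroup.subgroupOf_eq_top]
    intro h
    exact hPidx (le_antisymm h hTP ▸ hdvd)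
  haveI : Group.IsNilpotent P := hPp.isNilpotent
  obtain ⟨g, hgN, hgT⟩ := SetLike.exists_of_lt
    ((Group.normalizerCondition_of_isNilpotent (G := P)) (T.subgroupOf P) (lt_top_iff_ne_top.2 hne))
  have hgnorm : ∀ t : G, t ∈ T ↔ (g : G) * t * (g : G)⁻¹ ∈ T := by
    intro t
    constructor
    · intro ht
      have := (Subgroup.mem_normalizer_iff.1 hgN ⟨t, hTP ht⟩).1 (Subgroup.mem_subgroupOf.2 ht)
      simpa [Subgroup.mem_subgroupOf] using this
    · intro ht
      have hmem : (g : G)⁻¹ * ((g : G) * t * (g : G)⁻¹) * (g : G) ∈ P :=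
        P.mul_mem (P.mul_mem (P.inv_mem g.2) (hTP ht)) g.2
      have heq : (g : G)⁻¹ * ((g : G) * t * (g : G)⁻¹) * (g : G) = t := by group
      rw [heq] at hmem
      have := (Subgroup.mem_normalizer_iff.1 hgN ⟨t, hmem⟩).2
      simpa [Subgroup.mem_subgroupOf] using this (by simpa [Subgroup.mem_subgroupOf] using ht)
  have hgC : (g : G) ∈ Subgroup.centralizer ({j} : Set G) := by
    let φ : T ≃* T :=
      { toFun := fun t => ⟨(g : G) * t * (g : G)⁻¹, (hgnorm t).1 t.2⟩
        invFun := fun t => ⟨(g : G)⁻¹ * t * (g : G), (hgnorm _).2 (by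
          have : (g : G) * ((g : G)⁻¹ * t * (g : G)) * (g : G)⁻¹ = t := by group
          rw [this]; exact t.2)⟩
        left_inv := fun t => by ext; simp [mul_assoc]
        right_inv := fun t => by ext; simp [mul_assoc]
        map_mul' := fun a b => by ext; simp [mul_assoc] }
    have hfix := Subgroup.characteristic_iff_map_le.1 hchar φ
      (Subgroup.mem_map_of_mem φ.toMonoidHom (show (⟨j, hjT⟩ : T) ∈ _ from
        Subgroup.mem_subgroupOf.2 (Subgroup.mem_zpowers j)))
    have hz : (g : G) * j * (g : G)⁻¹ ∈ Subgroup.zpowers j := Subgroup.mem_subgroupOf.1 hfix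
    obtain ⟨k, hk⟩ := Subgroup.mem_zpowers_iff.1 hz
    rw [← zpow_mod_orderOf, hj] at hk
    rcases Int.emod_two_eq_zero_or_one k with h | h
    · exfalso
      rw [show k % ((2 : ℕ) : ℤ) = 0 from h, zpow_zero] at hk
      have hj1 : j = 1 := conj_eq_one_iff.1 hk.symm
      rw [hj1] at hj; simp at hj
    · rw [show k % ((2 : ℕ) : ℤ) = 1 from h, zpow_one] at hk
      rw [Subgroup.mem_centralizer_singleton_iff]
      exact mul_inv_eq_iff_eq_mul.1 hk.symm
  set T1 : Subgroup G := T ⊔ Subgroup.zpowers (g : G) with hT1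
  have hT1P : T1 ≤ P := sup_le hTP (Subgroup.zpowers_le.2 g.2)
  have hT1HC : T1 ≤ H ⊓ Subgroup.centralizer ({j} : Set G) :=
    sup_le hT (Subgroup.zpowers_le.2 ⟨hPH g.2, hgC⟩)
  have hp1 : IsPGroup 2 ↥T1 := hPp.to_le hT1P
  obtain ⟨k, hk⟩ := (hp1.index (T.subgroupOf T1))
  have hne1 : T.relIndex T1 ≠ 1 := by
    rw [Ne, Subgroup.relIndex_eq_one]
    intro h
    exact hgT (Subgroup.mem_subgroupOf.2 (h (Subgroup.mem_sup_right (Subgroup.mem_zpowers _))))
  apply hSyl
  rw [← Subgroup.relIndex_mul_relIndex T T1 _ le_sup_left hT1HC]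
  refine dvd_mul_of_dvd_left ?_ _
  change T.relIndex T1 = 2 ^ k at hk
  rw [hk]
  exact dvd_pow_self 2 (by rintro rfl; exact hne1 (by simpa using hk))

end Cfsg.Agent.S3208
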