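import Cfsg.Statements.S3209
import Cfsg.Agent.Lib.PSL2.CentralProduct

set_option autoImplicit false
open Cfsg Cfsg.Agent.PSL2
open scoped MatrixGroups

namespace Cfsg.Agent.S3209

/-- Let L₁ ≅ SL₂(q₁) and L₂ ≅ SL₂(q₂), q₁ and q₂ odd, be elementwise-commuting subgroups of a finite group meeting in ⟨j⟩ for an involution j. Then L₁L₂ has exactly two conjugacy classes of involutions: the central involution j, and one further class (there is an involution x ≠ j in L₁L₂, and every involution of L₁L₂ other than j is conjugate to x by an element of L₁L₂). -/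
theorem result {G : Type*} [Group G] [Finite G]
    {F₁ : Type*} [Field F₁] [Fintype F₁] {F₂ : Type*} [Field F₂] [Fintype F₂]
    (hF₁ : Odd (Fintype.card F₁)) (hF₂ : Odd (Fintype.card F₂)) (L₁ L₂ : Subgroup G)
    (e₁ : ↥L₁ ≃* Matrix.SpecialLinearGroup (Fin 2) F₁) (e₂ : ↥L₂ ≃* Matrix.SpecialLinearGroup (Fin 2) F₂)
    (hc : ∀ x ∈ L₁, ∀ y ∈ L₂, x * y = y * x) (j : G) (hj : orderOf j = 2) (hm : L₁ ⊓ L₂ = Subgroup.zpowers j) :
    ∃ x ∈ L₁ ⊔ L₂, orderOf x = 2 ∧ x ≠ j ∧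
      ∀ y ∈ L₁ ⊔ L₂, orderOf y = 2 → y = j ∨ ∃ g ∈ L₁ ⊔ L₂, g * x * g⁻¹ = y := by
  have h21 : (2 : F₁) ≠ 0 := CentralProduct.two_ne_zero_of_odd_card hF₁
  have h22 : (2 : F₂) ≠ 0 := CentralProduct.two_ne_zero_of_odd_card hF₂
  have hjL : j ∈ L₁ ∧ j ∈ L₂ := Subgroup.mem_inf.1 (hm.symm.le (Subgroup.mem_zpowers j))
  have hjj : j * j = 1 := by
    have := pow_orderOf_eq_one j
    rwa [hj, pow_two] at this
  have hj1 : j ≠ 1 := fun h => by simp [h] at hj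
  have hj₁ : e₁ ⟨j, hjL.1⟩ = -1 := CentralProduct.map_j e₁ h21 hjL.1 hj
  have hj₂ : e₂ ⟨j, hjL.2⟩ = -1 := CentralProduct.map_j e₂ h22 hjL.2 hj
  obtain ⟨a₀, ha₀⟩ := e₁.surjective ww
  obtain ⟨b₀, hb₀⟩ := e₂.surjective ww
  have haa : (a₀ : G) * a₀ = j := by
    have : a₀ * a₀ = ⟨j, hjL.1⟩ := e₁.injective (by rw [map_mul, ha₀, ww_mul_self, hj₁])
    exact congrArg Subtype.val this
  have hbb : (b₀ : G) * b₀ = j := by
    have : b₀ * b₀ = ⟨j, hjL.2⟩ := e₂.injective (by rw [map_mul, hb₀, ww_mul_self, hj₂])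
    exact congrArg Subtype.val this
  have hxx : (a₀ : G) * b₀ * (a₀ * b₀) = 1 := by
    calc (a₀ : G) * b₀ * (a₀ * b₀) = a₀ * (b₀ * a₀) * b₀ := by group
      _ = a₀ * (a₀ * b₀) * b₀ := by rw [hc a₀ a₀.2 b₀ b₀.2]
      _ = a₀ * a₀ * (b₀ * b₀) := by group
      _ = 1 := by rw [haa, hbb, hjj]
  have hnot : (a₀ : G) ∉ L₂ := fun h => by
    rcases CentralProduct.mem_inf_cases hj hm a₀.2 h with h' | h' <;> rw [h'] at haa
    · exact hj1 (by simpa using haa.symm)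
    · exact hj1 (haa.symm.trans hjj)
  refine ⟨a₀ * b₀, mul_mem (Subgroup.mem_sup_left a₀.2) (Subgroup.mem_sup_right b₀.2), ?_, ?_, ?_⟩
  · refine orderOf_eq_prime (by rw [pow_two]; exact hxx) fun h => hnot ?_
    rw [eq_inv_of_mul_eq_one_left h]
    exact inv_mem b₀.2
  · intro h
    refine hnot ?_
    rw [eq_mul_inv_of_mul_eq h]
    exact mul_mem hjL.2 (inv_mem b₀.2)
  intro y hy hy2
  obtain ⟨a, ha, b, hb, rfl⟩ := (CentralProduct.mem_sup_iff hc).1 hy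
  have hsq : a * a * (b * b) = 1 := by
    have h := pow_orderOf_eq_one (a * b)
    rw [hy2, pow_two] at h
    calc a * a * (b * b) = a * (a * b) * b := by group
      _ = a * (b * a) * b := by rw [hc a ha b hb]
      _ = a * b * (a * b) := by group
      _ = 1 := h
  have ha2 : a * a ∈ L₂ := by
    rw [eq_inv_of_mul_eq_one_left hsq]
    exact inv_mem (mul_mem hb hb)
  rcases CentralProduct.mem_inf_cases hj hm (mul_mem ha ha) ha2 with h | h
  · left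
    rw [h, one_mul] at hsq
    have ha' : a = 1 ∨ a = j := CentralProduct.eq_one_or_of_mul_self e₁ h21 hjL.1 hj ha h
    have hb' : b = 1 ∨ b = j := CentralProduct.eq_one_or_of_mul_self e₂ h22 hjL.2 hj hb hsq
    rcases ha' with rfl | rfl <;> rcases hb' with rfl | rfl
    · simp at hy2
    · rw [one_mul]
    · rw [mul_one]
    · rw [hjj] at hy2; simp at hy2
  · right
    rw [h] at hsq
    have hb2 : b * b = j := by rw [eq_inv_of_mul_eq_one_right hsq, inv_eq_of_mul_eq_one_right hjj]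
    have hA : e₁ ⟨a, ha⟩ * e₁ ⟨a, ha⟩ = -1 := by
      rw [← map_mul, show (⟨a, ha⟩ : L₁) * ⟨a, ha⟩ = ⟨j, hjL.1⟩ from Subtype.ext h, hj₁]
    have hB : e₂ ⟨b, hb⟩ * e₂ ⟨b, hb⟩ = -1 := by
      rw [← map_mul, show (⟨b, hb⟩ : L₂) * ⟨b, hb⟩ = ⟨j, hjL.2⟩ from Subtype.ext hb2, hj₂]
    obtain ⟨c, hc1⟩ := isConj_iff.1 (isConj_of_sq_neg_one h21 ww_mul_self hA)
    obtain ⟨d, hd1⟩ := isConj_iff.1 (isConj_of_sq_neg_one h22 ww_mul_self hB)
    obtain ⟨c, rfl⟩ := e₁.surjective c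
    obtain ⟨d, rfl⟩ := e₂.surjective d
    rw [← ha₀, ← map_inv, ← map_mul, ← map_mul] at hc1
    rw [← hb₀, ← map_inv, ← map_mul, ← map_mul] at hd1
    have hc2 : (c : G) * a₀ * (c : G)⁻¹ = a := congrArg Subtype.val (e₁.injective hc1)
    have hd2 : (d : G) * b₀ * (d : G)⁻¹ = b := congrArg Subtype.val (e₂.injective hd1)
    refine ⟨c * d, mul_mem (Subgroup.mem_sup_left c.2) (Subgroup.mem_sup_right d.2), ?_⟩
    have hda : (d : G) * a₀ * (d : G)⁻¹ = a₀ := by rw [← hc a₀ a₀.2 d d.2]; group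
    have hcb : (c : G) * b * (c : G)⁻¹ = b := by rw [hc c c.2 b hb]; group
    calc (c : G) * d * (a₀ * b₀) * (c * d : G)⁻¹
        = c * (d * a₀ * (d : G)⁻¹ * (d * b₀ * (d : G)⁻¹)) * (c : G)⁻¹ := by group
      _ = c * a₀ * (c : G)⁻¹ * (c * b * (c : G)⁻¹) := by rw [hda, hd2]; group
      _ = a * b := by rw [hc2, hcb]

end Cfsg.Agent.S3209
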