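import Cfsg.Statements.S3210
import Cfsg.Agent.Lib.PSL2.CentralProduct

set_option autoImplicit false
open Cfsg Cfsg.Agent.PSL2
open scoped MatrixGroups

namespace Cfsg.Agent.S3210

/-- Let G be a finite group with subgroups L₁ ≅ SL₂(q₁) and L₂ ≅ SL₂(q₂), q₁ and q₂ odd prime powers, which commute elementwise and meet in ⟨j⟩ for an involution j, and suppose L₁L₂ has index 2 in C_G(j). Then every element n of C_G(j) outside L₁L₂ either normalizes both L₁ and L₂, or conjugates L₁ onto L₂; in the second case q₁ = q₂ and there is an element n′ of C_G(j) outside L₁L₂ conjugating L₁ onto L₂ with n′² ∈ ⟨j⟩. -/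
theorem result {G : Type*} [Group G] [Finite G]
    {F₁ : Type*} [Field F₁] [Fintype F₁] {F₂ : Type*} [Field F₂] [Fintype F₂]
    (hF₁ : Odd (Fintype.card F₁)) (hF₂ : Odd (Fintype.card F₂)) (L₁ L₂ : Subgroup G)
    (e₁ : ↥L₁ ≃* Matrix.SpecialLinearGroup (Fin 2) F₁) (e₂ : ↥L₂ ≃* Matrix.SpecialLinearGroup (Fin 2) F₂)
    (hc : ∀ x ∈ L₁, ∀ y ∈ L₂, x * y = y * x) (j : G) (hj : orderOf j = 2) (hm : L₁ ⊓ L₂ = Subgroup.zpowers j)
    (hle : L₁ ⊔ L₂ ≤ Subgroup.centralizer ({j} : Set G)) (hi : (L₁ ⊔ L₂).relIndex (Subgroup.centralizer ({j} : Set G)) = 2) (n : G) (hn : n ∈ Subgroup.centralizer ({j} : Set G)) (hn' : n ∉ L₁ ⊔ L₂) :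
    (L₁.map (MulAut.conj n).toMonoidHom = L₁ ∧ L₂.map (MulAut.conj n).toMonoidHom = L₂) ∨
      (L₁.map (MulAut.conj n).toMonoidHom = L₂ ∧ Fintype.card F₁ = Fintype.card F₂ ∧
        ∃ n' ∈ Subgroup.centralizer ({j} : Set G), n' ∉ L₁ ⊔ L₂ ∧ L₁.map (MulAut.conj n').toMonoidHom = L₂ ∧ n' ^ 2 ∈ Subgroup.zpowers j) := by
  have h21 : (2 : F₁) ≠ 0 := CentralProduct.two_ne_zero_of_odd_card hF₁
  have h22 : (2 : F₂) ≠ 0 := CentralProduct.two_ne_zero_of_odd_card hF₂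
  have hjL : j ∈ L₁ ∧ j ∈ L₂ := Subgroup.mem_inf.1 (hm.symm.le (Subgroup.mem_zpowers j))
  have hjj : j * j = 1 := by
    have := pow_orderOf_eq_one j
    rwa [hj, pow_two] at this
  have hi2 : ((L₁ ⊔ L₂).subgroupOf (Subgroup.centralizer ({j} : Set G))).index = 2 := hi
  have hYn : ∀ y, y ∈ L₁ ⊔ L₂ → n * y * n⁻¹ ∈ L₁ ⊔ L₂ := fun y hy => by
    have h := (Subgroup.normal_of_index_eq_two hi2).conj_mem ⟨y, hle hy⟩ hy ⟨n, hn⟩
    exact h
  have hsq : n * n ∈ L₁ ⊔ L₂ := by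
    have h := Subgroup.mul_self_mem_of_index_two hi2 ⟨n, hn⟩
    exact h
  set φ := (MulAut.conj n).toMonoidHom with hφ
  have hφj : φ j = j := by
    show n * j * n⁻¹ = j
    rw [Subgroup.mem_centralizer_singleton_iff.1 hn]; group
  have hφY : (L₁ ⊔ L₂).map φ = L₁ ⊔ L₂ := by
    refine Subgroup.eq_of_le_of_card_ge (by rintro _ ⟨y, hy, rfl⟩; exact hYn y hy) ?_
    rw [Subgroup.card_map_of_injective (MulAut.conj n).injective]
  have hc' : ∀ x ∈ L₂, ∀ y ∈ L₁, x * y = y * x := fun x hx y hy => (hc y hy x hx).symm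
  have hcn₁ : L₂ ≤ Subgroup.centralizer (L₁ : Set G) := fun x hx =>
    Subgroup.mem_centralizer_iff.2 fun y hy => (hc' x hx y hy).symm
  have hcn₂ : L₁ ≤ Subgroup.centralizer (L₂ : Set G) := fun x hx =>
    Subgroup.mem_centralizer_iff.2 fun y hy => (hc x hx y hy).symm
  have key : ∀ L : Subgroup G, L ≤ L₁ ⊔ L₂ → L₁ ⊔ L₂ ≤ Subgroup.normalizer (L : Set G) →
      L₁ ⊔ L₂ ≤ Subgroup.normalizer (L.map φ : Set G) := by
    intro L _ hLn y hy
    rw [← hφY] at hy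
    obtain ⟨z, hz, rfl⟩ := hy
    exact Subgroup.le_normalizer_map φ ⟨z, hLn hz, rfl⟩
  have h₁ : L₁.map φ ≤ L₁ ∨ L₁.map φ ≤ L₂ :=
    CentralProduct.le_or_le h21 h22 h21 e₁ e₂
      ((L₁.equivMapOfInjective φ (MulAut.conj n).injective).symm.trans e₁) hc hj hm
      ⟨j, hjL.1, hφj⟩ ((Subgroup.map_mono le_sup_left).trans hφY.le)
      (key L₁ le_sup_left (sup_le Subgroup.le_normalizer
        (hcn₁.trans (Subgroup.centralizer_le_normalizer _))))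
  have h₂ : L₂.map φ ≤ L₁ ∨ L₂.map φ ≤ L₂ :=
    CentralProduct.le_or_le h21 h22 h22 e₁ e₂
      ((L₂.equivMapOfInjective φ (MulAut.conj n).injective).symm.trans e₂) hc hj hm
      ⟨j, hjL.2, hφj⟩ ((Subgroup.map_mono le_sup_right).trans hφY.le)
      (key L₂ le_sup_right (sup_le (hcn₂.trans (Subgroup.centralizer_le_normalizer _))
        Subgroup.le_normalizer))
  have hnc : ∀ L : Subgroup G, ¬ L ≤ Subgroup.zpowers j → L ≤ L₁ → L ≤ L₂ → False :=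
    fun L h a b => h ((le_inf a b).trans hm.le)
  have hbig₁ : ¬ L₁ ≤ Subgroup.zpowers j := fun h => by
    obtain ⟨⟨a, ha⟩, ha'⟩ := e₁.surjective ww
    have hcen : e₁ ⟨a, ha⟩ ∈ Subgroup.center SL(2, F₁) := (CentralProduct.mem_center_iff e₁ h21 hjL.1 hj _).2
      (CentralProduct.mem_inf_cases hj hm ha (hm.symm.le (h ha) : a ∈ L₁ ⊓ L₂).2)
    rw [ha'] at hcen
    exact not_central_of_mul_self_eq_neg_one h21 ww_mul_self hcen
  have hbig₂ : ¬ L₂ ≤ Subgroup.zpowers j := fun h => by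
    obtain ⟨⟨a, ha⟩, ha'⟩ := e₂.surjective ww
    have hcen : e₂ ⟨a, ha⟩ ∈ Subgroup.center SL(2, F₂) := (CentralProduct.mem_center_iff e₂ h22 hjL.2 hj _).2
      (CentralProduct.mem_inf_cases hj hm (hm.symm.le (h ha) : a ∈ L₁ ⊓ L₂).1 ha)
    rw [ha'] at hcen
    exact not_central_of_mul_self_eq_neg_one h22 ww_mul_self hcen
  have hcard : ∀ L : Subgroup G, Nat.card (L.map φ : Subgroup G) = Nat.card L := fun L =>
    Subgroup.card_map_of_injective (MulAut.conj n).injective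
  rcases h₁ with h₁ | h₁
  · refine Or.inl ⟨Subgroup.eq_of_le_of_card_ge h₁ (hcard _).ge, ?_⟩
    refine Subgroup.eq_of_le_of_card_ge (h₂.resolve_left fun h₂ => ?_) (hcard _).ge
    have := hφY.symm.le.trans ((Subgroup.map_sup L₁ L₂ φ).le.trans (sup_le h₁ h₂))
    exact hnc L₂ hbig₂ (le_sup_right.trans this) le_rfl
  right
  have h₂' : L₂.map φ ≤ L₁ := h₂.resolve_right fun h₂ => by
    have := hφY.symm.le.trans ((Subgroup.map_sup L₁ L₂ φ).le.trans (sup_le h₁ h₂))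
    exact hnc L₁ hbig₁ le_rfl (le_sup_left.trans this)
  have hle12 : Nat.card L₁ ≤ Nat.card L₂ := (hcard L₁).symm.le.trans
    (Nat.le_of_dvd Nat.card_pos (Subgroup.card_dvd_of_le h₁))
  have hle21 : Nat.card L₂ ≤ Nat.card L₁ := (hcard L₂).symm.le.trans
    (Nat.le_of_dvd Nat.card_pos (Subgroup.card_dvd_of_le h₂'))
  have e12 : L₁.map φ = L₂ := Subgroup.eq_of_le_of_card_ge h₁ (hle21.trans (hcard L₁).ge)
  have e21 : L₂.map φ = L₁ := Subgroup.eq_of_le_of_card_ge h₂' (hle12.trans (hcard L₂).ge)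
  refine ⟨e12, ?_, ?_⟩
  · have h := le_antisymm hle12 hle21
    rw [Nat.card_congr e₁.toEquiv, Nat.card_congr e₂.toEquiv, card_SL, card_SL] at h
    set a := Fintype.card F₁
    set b := Fintype.card F₂
    have ha : 1 < a := Fintype.one_lt_card
    have hb : 1 < b := Fintype.one_lt_card
    rcases lt_trichotomy a b with hlt | heq | hgt
    · exfalso
      have : a * (a ^ 2 - 1) < b * (b ^ 2 - 1) := by
        gcongr
        exact Nat.one_le_pow _ _ (by omega)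
      omega
    · exact heq
    · exfalso
      have : b * (b ^ 2 - 1) < a * (a ^ 2 - 1) := by
        gcongr
        exact Nat.one_le_pow _ _ (by omega)
      omega
  obtain ⟨a, ha, b, hb, hab⟩ := (CentralProduct.mem_sup_iff hc).1 hsq
  have haC : a ∈ Subgroup.centralizer ({j} : Set G) := hle (Subgroup.mem_sup_left ha)
  have hn'' : n * a⁻¹ ∉ L₁ ⊔ L₂ := fun h => hn' (by
    have := mul_mem h (Subgroup.mem_sup_left ha : a ∈ L₁ ⊔ L₂)
    rwa [inv_mul_cancel_right] at this)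
  have e12' : L₁.map (MulAut.conj (n * a⁻¹)).toMonoidHom = L₂ := by
    refine Subgroup.eq_of_le_of_card_ge ?_ (by
      rw [Subgroup.card_map_of_injective (MulAut.conj (n * a⁻¹)).injective]; exact hle21)
    rintro _ ⟨x, hx, rfl⟩
    refine e12.le ⟨a⁻¹ * x * a, mul_mem (mul_mem (inv_mem ha) hx) ha, ?_⟩
    show n * (a⁻¹ * x * a) * n⁻¹ = n * a⁻¹ * x * (n * a⁻¹)⁻¹
    group
  refine ⟨n * a⁻¹, mul_mem hn (inv_mem haC), hn'', e12', ?_⟩
  have hsq2 : (n * a⁻¹) ^ 2 = (n * a⁻¹ * n⁻¹) * b := by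
    calc (n * a⁻¹) ^ 2 = n * a⁻¹ * n⁻¹ * (n * n) * a⁻¹ := by rw [pow_two]; group
      _ = n * a⁻¹ * n⁻¹ * (a * b) * a⁻¹ := by rw [hab]
      _ = n * a⁻¹ * n⁻¹ * (b * a) * a⁻¹ := by rw [hc a ha b hb]
      _ = (n * a⁻¹ * n⁻¹) * b := by group
  have m2 : (n * a⁻¹) ^ 2 ∈ L₂ := by
    rw [hsq2]
    exact mul_mem (e12.le ⟨a⁻¹, inv_mem ha, rfl⟩) hb
  refine hm.le (Subgroup.mem_inf.2 ⟨?_, m2⟩)
  have : (n * a⁻¹) * (n * a⁻¹) ^ 2 * (n * a⁻¹)⁻¹ ∈ L₁ := by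
    have hmem : a⁻¹ * (n * a⁻¹) ^ 2 * a ∈ L₂ := by
      rw [mul_assoc, ← hc a ha _ m2, inv_mul_cancel_left]; exact m2
    refine e21.le ⟨_, hmem, ?_⟩
    show n * (a⁻¹ * (n * a⁻¹) ^ 2 * a) * n⁻¹ = n * a⁻¹ * (n * a⁻¹) ^ 2 * (n * a⁻¹)⁻¹
    group
  rwa [(Commute.self_pow (n * a⁻¹) 2).eq, mul_inv_cancel_right] at this

end Cfsg.Agent.S3210
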