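import Cfsg.Prelude.Def_TwoFusion
import Cfsg.Prelude.Def_IsolatedElements
import Cfsg.Agent.Lib.PSL2.CentralProduct
import Cfsg.Agent.Lib.PCore.Basic
import Cfsg.Agent.S3209

/-!
The central involution of two swapped commuting copies of SL₂ is isolated.
-/

set_option autoImplicit false
set_option linter.style.haveILetI false
set_option linter.unusedSectionVars false

open Cfsg Cfsg.Agent.PSL2
open scoped MatrixGroups

namespace Cfsg.Agent.S3211

variable {G : Type*} [Group G] [Finite G]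

/-- An involution of `Z*` and the odd core generate with the centralizer. -/
theorem sup_of_inZStar {j : G} (hj : orderOf j = 2) (hz : InZStar 2 j) :
    Subgroup.centralizer ({j} : Set G) ⊔ Cfsg.oddCore G = ⊤ := by
  refine eq_top_iff.2 fun g _ => ?_
  have hjj : j * j = 1 := by
    have := pow_orderOf_eq_one j
    rwa [hj, pow_two] at this
  have hji : j⁻¹ = j := inv_eq_of_mul_eq_one_right hjj
  set N := Cfsg.oddCore G with hN
  set w := g * j * g⁻¹ * j with hw
  have hwN : w ∈ N := by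
    have h := hz g
    rwa [hji] at h
  have hinv : j * w * j⁻¹ = w⁻¹ := by
    have hgg : (g * j * g⁻¹)⁻¹ = g * j * g⁻¹ := by rw [mul_inv_rev, mul_inv_rev, inv_inv, hji]; group
    rw [hw, mul_inv_rev (g * j * g⁻¹) j, hgg, mul_assoc j (g * j * g⁻¹ * j) j⁻¹,
      mul_inv_cancel_right, hji]
  obtain ⟨c, hc⟩ := (PCore.odd_card_oddCore : Odd (Nat.card N))
  have hwc : w ^ (2 * c + 1) = 1 := by
    rw [← hc]
    exact (congrArg Subtype.val (pow_card_eq_one' (x := (⟨w, hwN⟩ : N))) :)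
  set v := w ^ (c + 1) with hv
  have h1 : j * v⁻¹ * j⁻¹ = v := by
    rw [hv, ← conj_inv, ← conj_pow, hinv, inv_pow, inv_inv]
  have h2 : v * v = w := by
    rw [hv, ← pow_add]
    calc w ^ (c + 1 + (c + 1)) = w ^ (2 * c + 1) * w := by rw [← pow_succ]; ring_nf
      _ = w := by rw [hwc, one_mul]
  have h3 : v * j * v⁻¹ = g * j * g⁻¹ := by
    calc v * j * v⁻¹ = v * (j * v⁻¹ * j⁻¹) * j := by group
      _ = v * v * j := by rw [h1]
      _ = g * j * g⁻¹ * (j * j) := by rw [h2, hw]; group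
      _ = g * j * g⁻¹ := by rw [hjj, mul_one]
  have h4 : v⁻¹ * g ∈ Subgroup.centralizer ({j} : Set G) := by
    rw [Subgroup.mem_centralizer_singleton_iff]
    calc v⁻¹ * g * j = v⁻¹ * (g * j * g⁻¹) * g := by group
      _ = v⁻¹ * (v * j * v⁻¹) * g := by rw [h3]
      _ = j * (v⁻¹ * g) := by group
  have h5 := mul_mem (Subgroup.mem_sup_right (pow_mem hwN (c + 1)) : v ∈ Subgroup.centralizer ({j} : Set G) ⊔ N)
    (Subgroup.mem_sup_left h4 : v⁻¹ * g ∈ Subgroup.centralizer ({j} : Set G) ⊔ N)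
  rwa [mul_inv_cancel_left] at h5

theorem isolated {F₁ : Type*} [Field F₁] [Fintype F₁] {F₂ : Type*} [Field F₂] [Fintype F₂]
    (hF₁ : Odd (Fintype.card F₁)) (hF₂ : Odd (Fintype.card F₂)) (L₁ L₂ : Subgroup G)
    (e₁ : ↥L₁ ≃* SL(2, F₁)) (e₂ : ↥L₂ ≃* SL(2, F₂))
    (hc : ∀ x ∈ L₁, ∀ y ∈ L₂, x * y = y * x) (j : G) (hj : orderOf j = 2)
    (hm : L₁ ⊓ L₂ = Subgroup.zpowers j)
    (hle : L₁ ⊔ L₂ ≤ Subgroup.centralizer ({j} : Set G))
    (hi : (L₁ ⊔ L₂).relIndex (Subgroup.centralizer ({j} : Set G)) = 2) (n : G)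
    (hn : n ∈ Subgroup.centralizer ({j} : Set G)) (hn2 : n ^ 2 = j)
    (hswap : L₁.map (MulAut.conj n).toMonoidHom = L₂) : IsIsolatedInvolution j := by
  classical
  have h21 : (2 : F₁) ≠ 0 := CentralProduct.two_ne_zero_of_odd_card hF₁
  have h22 : (2 : F₂) ≠ 0 := CentralProduct.two_ne_zero_of_odd_card hF₂
  set C := Subgroup.centralizer ({j} : Set G) with hC
  set Y := L₁ ⊔ L₂ with hY
  have hi2 : (Y.subgroupOf C).index = 2 := hi
  have hjL : j ∈ L₁ ∧ j ∈ L₂ := Subgroup.mem_inf.1 (hm.symm.le (Subgroup.mem_zpowers j))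
  have hjj : j * j = 1 := by
    have := pow_orderOf_eq_one j
    rwa [hj, pow_two] at this
  have hj1 : j ≠ 1 := fun h => by simp [h] at hj
  have hnn : n * n = j := by rw [← pow_two]; exact hn2
  have hCj : ∀ y ∈ C, y * j = j * y := fun y hy => Subgroup.mem_centralizer_singleton_iff.1 hy
  have hnL₁ : ∀ a ∈ L₁, n * a * n⁻¹ ∈ L₂ := fun a ha => hswap.le ⟨a, ha, rfl⟩
  have hnL₂ : ∀ b ∈ L₂, n * b * n⁻¹ ∈ L₁ := fun b hb => by
    obtain ⟨a, ha, rfl⟩ := hswap.symm.le hb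
    have : n * (n * a * n⁻¹) * n⁻¹ = a := by
      calc n * (n * a * n⁻¹) * n⁻¹ = n * n * a * (n * n)⁻¹ := by group
        _ = a * j * j⁻¹ := by rw [hnn, ← hCj a (hle (Subgroup.mem_sup_left ha))]
        _ = a := by group
    show n * (n * a * n⁻¹) * n⁻¹ ∈ L₁
    rw [this]; exact ha
  -- the involution `x = a₀ b₀` centralised by `n`
  obtain ⟨a₀, ha₀⟩ := e₁.surjective ww
  have haa : (a₀ : G) * a₀ = j := by
    have : a₀ * a₀ = ⟨j, hjL.1⟩ := e₁.injective (by
      rw [map_mul, ha₀, ww_mul_self, CentralProduct.map_j e₁ h21 hjL.1 hj])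
    exact congrArg Subtype.val this
  obtain ⟨a₀, ha₀L⟩ := a₀
  replace haa : a₀ * a₀ = j := haa
  set b₀ := n * a₀ * n⁻¹ with hb₀
  have hb₀L : b₀ ∈ L₂ := hnL₁ a₀ ha₀L
  have hnb₀ : n * b₀ * n⁻¹ = a₀ := by
    calc n * b₀ * n⁻¹ = n * n * a₀ * (n * n)⁻¹ := by rw [hb₀]; group
      _ = a₀ * j * j⁻¹ := by rw [hnn, ← hCj a₀ (hle (Subgroup.mem_sup_left ha₀L))]
      _ = a₀ := by group
  have hnj : n * j * n⁻¹ = j := by rw [hCj n hn]; group
  have hbb : b₀ * b₀ = j := by
    calc b₀ * b₀ = n * (a₀ * a₀) * n⁻¹ := by rw [hb₀]; group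
      _ = j := by rw [haa, hnj]
  set x := a₀ * b₀ with hx
  have hxx : x * x = 1 := by
    calc x * x = a₀ * (b₀ * a₀) * b₀ := by rw [hx]; group
      _ = a₀ * (a₀ * b₀) * b₀ := by rw [hc a₀ ha₀L b₀ hb₀L]
      _ = a₀ * a₀ * (b₀ * b₀) := by group
      _ = 1 := by rw [haa, hbb, hjj]
  have ha₀c : a₀ ∉ L₂ := fun h => by
    rcases CentralProduct.mem_inf_cases hj hm ha₀L h with h' | h' <;> rw [h'] at haa
    · exact hj1 (by simpa using haa.symm)
    · exact hj1 (haa.symm.trans hjj)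
  have hxj : x ≠ j := fun h => ha₀c (by
    rw [eq_mul_inv_of_mul_eq (hx.symm.trans h)]; exact mul_mem hjL.2 (inv_mem hb₀L))
  have hx2 : orderOf x = 2 := orderOf_eq_prime (by rw [pow_two]; exact hxx) fun h => ha₀c (by
    rw [eq_inv_of_mul_eq_one_left (hx.symm.trans h)]; exact inv_mem hb₀L)
  have hxY : x ∈ Y := mul_mem (Subgroup.mem_sup_left ha₀L) (Subgroup.mem_sup_right hb₀L)
  have hnx : n * x * n⁻¹ = x := by
    calc n * x * n⁻¹ = n * a₀ * n⁻¹ * (n * b₀ * n⁻¹) := by rw [hx]; group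
      _ = b₀ * a₀ := by rw [hnb₀, hb₀]
      _ = x := (hc a₀ ha₀L b₀ hb₀L).symm
  have hnY : n ∉ Y := fun h => by
    obtain ⟨a, ha, b, hb, hab⟩ := (CentralProduct.mem_sup_iff hc).1 h
    refine ha₀c ?_
    have e : n * (a⁻¹ * a₀ * a) * n⁻¹ = a₀ := by
      rw [hab]
      calc a * b * (a⁻¹ * a₀ * a) * (a * b)⁻¹ = a * (b * (a⁻¹ * a₀ * a)) * b⁻¹ * a⁻¹ := by group
        _ = a * ((a⁻¹ * a₀ * a) * b) * b⁻¹ * a⁻¹ := by
          rw [hc _ (mul_mem (mul_mem (inv_mem ha) ha₀L) ha) b hb]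
        _ = a₀ := by group
    rw [← e]
    exact hnL₁ _ (mul_mem (mul_mem (inv_mem ha) ha₀L) ha)
  have hsplit : ∀ d ∈ C, d ∉ Y → ∃ a ∈ L₁, ∃ b ∈ L₂, d = a * b * n := fun d hd hdY => by
    have hmul := Subgroup.mul_mem_iff_of_index_two hi2 (a := (⟨d, hd⟩ : C)) (b := (⟨n, hn⟩ : C)⁻¹)
    have h : d * n⁻¹ ∈ Y := hmul.2 ⟨fun h => absurd h hdY, fun h => absurd (by simpa [Subgroup.mem_subgroupOf] using inv_mem h) hnY⟩
    obtain ⟨a, ha, b, hb, hab⟩ := (CentralProduct.mem_sup_iff hc).1 h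
    exact ⟨a, ha, b, hb, by rw [← hab, inv_mul_cancel_right]⟩
  have hsquare : ∀ a ∈ L₁, ∀ b ∈ L₂,
      a * b * n * (a * b * n) = a * (n * b * n⁻¹) * (b * (n * a * n⁻¹)) * j := fun a ha b hb => by
    calc a * b * n * (a * b * n) = a * (b * (n * a * n⁻¹) * (n * b * n⁻¹)) * (n * n) := by group
      _ = a * ((n * b * n⁻¹) * (b * (n * a * n⁻¹))) * j := by
        rw [hnn, ← hc _ (hnL₂ b hb) _ (mul_mem hb (hnL₁ a ha))]
      _ = a * (n * b * n⁻¹) * (b * (n * a * n⁻¹)) * j := by group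
  have hconjc : ∀ a ∈ L₁, ∀ b ∈ L₂,
      n * (a * (n * b * n⁻¹)) * n⁻¹ = n * a * n⁻¹ * b := fun a ha b hb => by
    calc n * (a * (n * b * n⁻¹)) * n⁻¹ = n * a * n⁻¹ * (n * n * b * (n * n)⁻¹) := by group
      _ = n * a * n⁻¹ * (b * j * j⁻¹) := by rw [hnn, ← hCj b (hle (Subgroup.mem_sup_right hb))]
      _ = n * a * n⁻¹ * b := by group
  -- no involutions outside `Y`
  have hout : ∀ d ∈ C, d * d = 1 → d ∈ Y := fun d hd hdd => by
    by_contra hdY
    obtain ⟨a, ha, b, hb, rfl⟩ := hsplit d hd hdY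
    rw [hsquare a ha b hb] at hdd
    set u := a * (n * b * n⁻¹) with hu
    set v := b * (n * a * n⁻¹) with hv
    have huL : u ∈ L₁ := mul_mem ha (hnL₂ b hb)
    have hvL : v ∈ L₂ := mul_mem hb (hnL₁ a ha)
    have huv : u = (v * j)⁻¹ := eq_inv_of_mul_eq_one_left (by rw [← mul_assoc]; exact hdd)
    have huc : u = 1 ∨ u = j := CentralProduct.mem_inf_cases hj hm huL
      (huv ▸ inv_mem (mul_mem hvL hjL.2))
    have hnu : n * u * n⁻¹ = u := by rcases huc with h | h <;> rw [h] <;> [group; exact hnj]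
    have hub : u * b = b * u := hc u huL b hb
    have hvu : v = u := by
      calc v = b * (n * a * n⁻¹ * b) * b⁻¹ := by rw [hv]; group
        _ = b * u * b⁻¹ := by rw [← hconjc a ha b hb, ← hu, hnu]
        _ = u := by rw [← hub, mul_inv_cancel_right]
    rw [hvu] at hdd
    rcases huc with h | h <;> rw [h] at hdd
    · exact hj1 (by simpa using hdd)
    · rw [hjj, one_mul] at hdd; exact hj1 hdd
  -- every involution of `C` other than `j` is conjugate to `x`
  obtain ⟨x', -, -, -, hall⟩ := S3209.result hF₁ hF₂ L₁ L₂ e₁ e₂ hc j hj hm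
  obtain ⟨k₀, hk₀, hk₀x⟩ := (hall x hxY hx2).resolve_left hxj
  have hclass : ∀ w ∈ C, orderOf w = 2 → w = j ∨ ∃ k ∈ C, k * x * k⁻¹ = w := fun w hw hw2 => by
    have hww : w * w = 1 := by
      have := pow_orderOf_eq_one w
      rwa [hw2, pow_two] at this
    refine (hall w (hout w hw hww) hw2).imp_right ?_
    rintro ⟨k, hk, rfl⟩
    exact ⟨k * k₀⁻¹, hle (mul_mem hk (inv_mem hk₀)), by rw [← hk₀x]; group⟩
  refine ⟨hj, fun g hg => ?_⟩
  by_contra hne
  have hgC : g * j * g⁻¹ ∈ C := Subgroup.mem_centralizer_singleton_iff.2 hg.eq.symm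
  have hconj2 : ∀ (g y : G), orderOf (g * y * g⁻¹) = orderOf y := fun g y =>
    orderOf_injective (MulAut.conj g).toMonoidHom (MulAut.conj g).injective y
  obtain ⟨k, hk, hkx⟩ := (hclass _ hgC (by rw [hconj2, hj])).resolve_left hne
  set g₁ := k⁻¹ * g with hg₁
  have hg₁x : g₁ * j * g₁⁻¹ = x := by
    calc g₁ * j * g₁⁻¹ = k⁻¹ * (g * j * g⁻¹) * k := by rw [hg₁]; group
      _ = x := by rw [← hkx]; group
  have hxC : x ∈ C := hle hxY
  have hjx : g₁⁻¹ * j * g₁ ∈ C := by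
    rw [hC, Subgroup.mem_centralizer_singleton_iff]
    calc g₁⁻¹ * j * g₁ * j = g₁⁻¹ * (j * (g₁ * j * g₁⁻¹)) * g₁ := by group
      _ = g₁⁻¹ * ((g₁ * j * g₁⁻¹) * j) * g₁ := by rw [hg₁x, hCj x hxC]
      _ = j * (g₁⁻¹ * j * g₁) := by group
  obtain ⟨c, hcC, hcx⟩ := (hclass _ hjx (by
    have := hconj2 g₁⁻¹ j; rw [inv_inv] at this; rw [this, hj])).resolve_left (fun h => hxj (by
      rw [← hg₁x]
      calc g₁ * j * g₁⁻¹ = g₁ * (g₁⁻¹ * j * g₁) * g₁⁻¹ := by rw [h]
        _ = j := by group))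
  set h := g₁ * c with hh
  have hhx : h * x * h⁻¹ = j := by
    calc h * x * h⁻¹ = g₁ * (c * x * c⁻¹) * g₁⁻¹ := by rw [hh]; group
      _ = j := by rw [hcx]; group
  have hhj : h * j * h⁻¹ = x := by
    calc h * j * h⁻¹ = g₁ * (c * j) * c⁻¹ * g₁⁻¹ := by rw [hh]; group
      _ = g₁ * j * g₁⁻¹ := by rw [hCj c hcC]; group
      _ = x := hg₁x
  -- compare square roots of `j` and of `x` in `C ∩ C(x)`
  let Rj : Set G := {d | d ∈ C ∧ d * x = x * d ∧ d * d = j}
  let Rx : Set G := {d | d ∈ C ∧ d * d = x}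
  have hle1 : Rj.ncard ≤ Rx.ncard := by
    refine Set.ncard_le_ncard_of_injOn (fun d => h * d * h⁻¹) ?_
      (fun a _ b _ e => mul_left_cancel (mul_right_cancel e)) (Set.toFinite _)
    rintro d ⟨hdC, hdx, hdd⟩
    refine ⟨?_, ?_⟩
    · rw [hC, Subgroup.mem_centralizer_singleton_iff]
      conv_lhs => rw [← hhx]
      conv_rhs => rw [← hhx]
      calc h * d * h⁻¹ * (h * x * h⁻¹) = h * (d * x) * h⁻¹ := by group
        _ = h * (x * d) * h⁻¹ := by rw [hdx]
        _ = h * x * h⁻¹ * (h * d * h⁻¹) := by group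
    · calc h * d * h⁻¹ * (h * d * h⁻¹) = h * (d * d) * h⁻¹ := by group
        _ = x := by rw [hdd, hhj]
  -- the factorisation of roots of `x`
  have hcent : ∀ a ∈ L₁, ∀ b ∈ L₁, a * a₀ = a₀ * a → b * a₀ = a₀ * b → a * b = b * a := by
    intro a ha b hb haa' hba'
    have hnc : e₁ ⟨a₀, ha₀L⟩ ∉ Subgroup.center SL(2, F₁) := by
      rw [ha₀]; exact not_central_of_mul_self_eq_neg_one h21 ww_mul_self
    have hh' : Commute (e₁ ⟨a, ha⟩) (e₁ ⟨b, hb⟩) := commute_trans' hnc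
      (Commute.map (Subtype.ext haa' : Commute (⟨a, ha⟩ : L₁) ⟨a₀, ha₀L⟩) e₁.toMonoidHom)
      (Commute.map (Subtype.ext hba' : Commute (⟨b, hb⟩ : L₁) ⟨a₀, ha₀L⟩) e₁.toMonoidHom)
    have h' := e₁.injective (by rw [map_mul, map_mul]; exact hh'.eq :
      e₁ (⟨a, ha⟩ * ⟨b, hb⟩) = e₁ (⟨b, hb⟩ * ⟨a, ha⟩))
    exact congrArg Subtype.val h'
  have hcent₂ : ∀ a ∈ L₂, ∀ b ∈ L₂, a * b₀ = b₀ * a → b * b₀ = b₀ * b → a * b = b * a := by
    intro a ha b hb h1 h2
    have k1 : ∀ y, y * b₀ = b₀ * y → n * y * n⁻¹ * a₀ = a₀ * (n * y * n⁻¹) := fun y hy => by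
      rw [← hnb₀]
      calc n * y * n⁻¹ * (n * b₀ * n⁻¹) = n * (y * b₀) * n⁻¹ := by group
        _ = n * (b₀ * y) * n⁻¹ := by rw [hy]
        _ = n * b₀ * n⁻¹ * (n * y * n⁻¹) := by group
    have h3 := hcent _ (hnL₂ a ha) _ (hnL₂ b hb) (k1 a h1) (k1 b h2)
    refine mul_left_cancel (a := n) (mul_right_cancel (b := n⁻¹) ?_)
    calc n * (a * b) * n⁻¹ = n * a * n⁻¹ * (n * b * n⁻¹) := by group
      _ = n * b * n⁻¹ * (n * a * n⁻¹) := h3
      _ = n * (b * a) * n⁻¹ := by group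
  -- roots of `x` in `Y`
  have hinY : ∀ d ∈ Y, d * d = x → ∃ a ∈ L₁, ∃ b ∈ L₂, d = a * b ∧ a * a₀ = a₀ * a ∧ b * b₀ = b₀ * b := by
    intro d hd hdd
    obtain ⟨a, ha, b, hb, rfl⟩ := (CentralProduct.mem_sup_iff hc).1 hd
    refine ⟨a, ha, b, hb, rfl, ?_, ?_⟩
    all_goals
      have hd2 : a * a * (b * b) = a₀ * b₀ := by
        calc a * a * (b * b) = a * (a * b) * b := by group
          _ = a * (b * a) * b := by rw [hc a ha b hb]
          _ = a * b * (a * b) := by group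
          _ = x := hdd
    · have hz : a₀⁻¹ * (a * a) ∈ L₂ := by
        rw [eq_mul_inv_of_mul_eq hd2, ← mul_assoc, inv_mul_cancel_left]
        exact mul_mem hb₀L (inv_mem (mul_mem hb hb))
      have hzc := CentralProduct.mem_inf_cases hj hm (mul_mem (inv_mem ha₀L) (mul_mem ha ha)) hz
      have haz : a * a = a₀ ∨ a * a = a₀ * j := hzc.imp
        (fun h => (inv_mul_eq_one.1 h).symm) inv_mul_eq_iff_eq_mul.1
      rcases haz with h | h
      · rw [← h]; group
      · have e : a₀ = a * a * j := by rw [h, mul_assoc, hjj, mul_one]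
        rw [e]
        calc a * (a * a * j) = a * a * (a * j) := by group
          _ = a * a * (j * a) := by rw [hCj a (hle (Subgroup.mem_sup_left ha))]
          _ = a * a * j * a := by group
    · have hz : b * b * b₀⁻¹ ∈ L₁ := by
        rw [eq_inv_mul_of_mul_eq hd2, mul_assoc, mul_inv_cancel_right]
        exact mul_mem (inv_mem (mul_mem ha ha)) ha₀L
      have hzc := CentralProduct.mem_inf_cases hj hm hz (mul_mem (mul_mem hb hb) (inv_mem hb₀L))
      have hbz : b * b = b₀ ∨ b * b = j * b₀ := hzc.imp mul_inv_eq_one.1 mul_inv_eq_iff_eq_mul.1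
      rcases hbz with h | h
      · rw [← h]; group
      · have e : b₀ = j * (b * b) := by rw [h, ← mul_assoc, hjj, one_mul]
        rw [e]
        calc b * (j * (b * b)) = b * j * (b * b) := by group
          _ = j * b * (b * b) := by rw [hCj b (hle (Subgroup.mem_sup_right hb))]
          _ = j * (b * b) * b := by group
  -- left multiplication by `a₀` sends outer roots of `x` to roots of `j`
  have hshift : ∀ d ∈ C, d ∉ Y → d * d = x → a₀ * d * x = x * (a₀ * d) ∧ a₀ * d * (a₀ * d) = j := by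
    intro d hd hdY hdd
    have hdx : d * x = x * d := by rw [← hdd]; group
    have ha₀x : a₀ * x = x * a₀ := by
      rw [hx, mul_assoc a₀ b₀ a₀, ← hc a₀ ha₀L b₀ hb₀L]
    refine ⟨by rw [mul_assoc, hdx, ← mul_assoc, ha₀x, mul_assoc], ?_⟩
    obtain ⟨a, ha, b, hb, rfl⟩ := hsplit d hd hdY
    have hnxn : n * x = x * n := by
      calc n * x = n * x * n⁻¹ * n := by group
        _ = x * n := by rw [hnx]
    have hab : a * b * x = x * (a * b) := by
      refine mul_right_cancel (b := n) ?_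
      calc a * b * x * n = a * b * (x * n) := by group
        _ = a * b * n * x := by rw [← hnxn]; group
        _ = x * (a * b * n) := hdx
        _ = x * (a * b) * n := by group
    rw [hsquare a ha b hb] at hdd
    set u := a * (n * b * n⁻¹) with hu
    set v := b * (n * a * n⁻¹) with hv
    have huL : u ∈ L₁ := mul_mem ha (hnL₂ b hb)
    have hvL : v ∈ L₂ := mul_mem hb (hnL₁ a ha)
    set z := a₀⁻¹ * u with hz
    have hvz : v = z⁻¹ * j * b₀ := by
      have e1 : u * v * j = a₀ * b₀ := hdd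
      have e2 : z * (v * j) = b₀ := by
        rw [hz]
        calc a₀⁻¹ * u * (v * j) = a₀⁻¹ * (u * v * j) := by group
          _ = b₀ := by rw [e1]; group
      calc v = z⁻¹ * (z * (v * j)) * j⁻¹ := by group
        _ = z⁻¹ * (b₀ * j) := by rw [e2, inv_eq_of_mul_eq_one_right hjj, mul_assoc]
        _ = z⁻¹ * j * b₀ := by rw [hCj b₀ (hle (Subgroup.mem_sup_right hb₀L)), mul_assoc]
    have hzc : z = 1 ∨ z = j := by
      refine CentralProduct.mem_inf_cases hj hm (mul_mem (inv_mem ha₀L) huL) ?_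
      have : z = j * b₀ * v⁻¹ := by rw [hvz]; group
      show z ∈ L₂
      rw [this]
      exact mul_mem (mul_mem hjL.2 hb₀L) (inv_mem hvL)
    have hzn : n * z * n⁻¹ = z := by rcases hzc with h | h <;> rw [h] <;> [group; exact hnj]
    have hzz : z * z = 1 := by rcases hzc with h | h <;> rw [h] <;> [exact one_mul 1; exact hjj]
    have hzi : z⁻¹ = z := inv_eq_of_mul_eq_one_right hzz
    have hzC : ∀ y ∈ C, y * z = z * y := fun y hy => by
      rcases hzc with h | h <;> rw [h]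
      · group
      · exact hCj y hy
    have hb₀C : b₀ ∈ C := hle (Subgroup.mem_sup_right hb₀L)
    have hnan : n * a * n⁻¹ * b = b₀ * z := by
      rw [← hconjc a ha b hb, show a * (n * b * n⁻¹) = a₀ * z by rw [hz, hu]; group]
      calc n * (a₀ * z) * n⁻¹ = n * a₀ * n⁻¹ * (n * z * n⁻¹) := by group
        _ = b₀ * z := by rw [hzn, hb₀]
    have hbε : b * b₀ = j * b₀ * b := by
      set ε := b * b₀ * b⁻¹ * b₀⁻¹ with hε
      have hεL : ε ∈ L₂ := mul_mem (mul_mem (mul_mem hb hb₀L) (inv_mem hb)) (inv_mem hb₀L)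
      have hε₁ : ε ∈ L₁ := by
        have e : (a * a₀ * a⁻¹) * (b * b₀ * b⁻¹) = a₀ * b₀ := by
          calc (a * a₀ * a⁻¹) * (b * b₀ * b⁻¹) = a * a₀ * (a⁻¹ * (b * b₀ * b⁻¹)) := by group
            _ = a * a₀ * ((b * b₀ * b⁻¹) * a⁻¹) := by
              rw [hc a⁻¹ (inv_mem ha) _ (mul_mem (mul_mem hb hb₀L) (inv_mem hb))]
            _ = a * (a₀ * b) * b₀ * b⁻¹ * a⁻¹ := by group
            _ = a * (b * a₀) * b₀ * b⁻¹ * a⁻¹ := by rw [hc a₀ ha₀L b hb]
            _ = a * b * x * (a * b)⁻¹ := by rw [hx]; group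
            _ = a₀ * b₀ := by rw [hab, mul_inv_cancel_right, hx]
        have : ε = (a * a₀ * a⁻¹)⁻¹ * a₀ := by
          rw [hε, eq_inv_mul_of_mul_eq e, mul_assoc, mul_inv_cancel_right]
        rw [this]
        exact mul_mem (inv_mem (mul_mem (mul_mem ha ha₀L) (inv_mem ha))) ha₀L
      rcases CentralProduct.mem_inf_cases hj hm hε₁ hεL with h | h
      · exfalso
        have hcb : b * b₀ = b₀ * b := by
          rw [hε] at h
          exact mul_inv_eq_iff_eq_mul.1 (mul_inv_eq_one.1 h)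
        have hcz : b * z = z * b := hzC b (hle (Subgroup.mem_sup_right hb))
        have hna : n * a * n⁻¹ = b₀ * z * b⁻¹ := eq_mul_inv_of_mul_eq hnan
        have hvb : v = b₀ * z := by
          calc v = b * (b₀ * z * b⁻¹) := by rw [hv, hna]
            _ = b * b₀ * z * b⁻¹ := by group
            _ = b₀ * (b * z) * b⁻¹ := by rw [hcb]; group
            _ = b₀ * z := by rw [hcz]; group
        rw [hvz, hzi, hzC b₀ hb₀C, mul_assoc] at hvb
        have e3 : z * (j * b₀) = z * b₀ := hvb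
        have e4 : j * b₀ = b₀ := mul_left_cancel e3
        exact hj1 (mul_eq_right.1 e4)
      · calc b * b₀ = ε * b₀ * b := by rw [hε]; group
          _ = j * b₀ * b := by rw [h]
    have e : a₀ * (a * b * n) = (a₀ * a) * b * n := by group
    rw [e, hsquare (a₀ * a) (mul_mem ha₀L ha) b hb]
    have f1 : a₀ * a * (n * b * n⁻¹) = j * z := by
      calc a₀ * a * (n * b * n⁻¹) = a₀ * (a₀ * z) := by rw [hz, hu]; group
        _ = j * z := by rw [← mul_assoc, haa]
    have f2 : b * (n * (a₀ * a) * n⁻¹) = j * z := by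
      calc b * (n * (a₀ * a) * n⁻¹) = b * b₀ * (n * a * n⁻¹) := by rw [hb₀]; group
        _ = j * b₀ * v := by rw [hbε, hv]; group
        _ = j * b₀ * (z * j * b₀) := by rw [hvz, hzi]
        _ = j * (b₀ * (z * j)) * b₀ := by group
        _ = j * ((z * j) * b₀) * b₀ := by
          rw [← mul_assoc b₀ z j, hzC b₀ hb₀C, mul_assoc z b₀ j, hCj b₀ hb₀C, mul_assoc z j b₀]
        _ = j * z * j * (b₀ * b₀) := by group
        _ = j * z := by rw [hbb, mul_assoc, hjj, mul_one]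
    rw [f1, f2]
    calc j * z * (j * z) * j = j * (z * j) * z * j := by group
      _ = j * (j * z) * z * j := by rw [hzC j (hle (Subgroup.mem_sup_left hjL.1))]
      _ = (j * j) * (z * z) * j := by group
      _ = j := by rw [hjj, hzz, one_mul, one_mul]
  have hle2 : Rx.ncard < Rj.ncard := by
    have ha₀C : a₀ ∈ C := hle (Subgroup.mem_sup_left ha₀L)
    have ha₀Y : a₀ ∈ Y := Subgroup.mem_sup_left ha₀L
    have hY' : ∀ d ∈ Y, d * d = x → ∀ d' ∈ Y, d' * d' = x →
        d * d' = d' * d ∧ a₀ * d = d * a₀ := by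
      intro d hd hdd d' hd' hdd'
      obtain ⟨a, ha, b, hb, rfl, h1, h2⟩ := hinY d hd hdd
      obtain ⟨a', ha', b', hb', rfl, h1', h2'⟩ := hinY d' hd' hdd'
      constructor
      · calc a * b * (a' * b') = a * (b * a') * b' := by group
          _ = (a * a') * (b * b') := by rw [← hc a' ha' b hb]; group
          _ = (a' * a) * (b' * b) := by rw [hcent a ha a' ha' h1 h1', hcent₂ b hb b' hb' h2 h2']
          _ = a' * (a * b') * b := by group
          _ = a' * (b' * a) * b := by rw [hc a ha b' hb']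
          _ = a' * b' * (a * b) := by group
      · calc a₀ * (a * b) = a * a₀ * b := by rw [← mul_assoc, ← h1]
          _ = a * b * a₀ := by rw [mul_assoc, hc a₀ ha₀L b hb, ← mul_assoc]
    let d₁ : G := if hex : ∃ d, d ∈ Y ∧ d * d = x then hex.choose else 1
    let f : G → G := fun d => if d ∈ Y then a₀ * (d * d₁⁻¹) else a₀ * d
    have hf : ∀ d ∈ Rx, f d ∈ Rj ∧ f d ≠ n ∧ (f d ∈ Y ↔ d ∈ Y) := by
      rintro d ⟨hdC, hdd⟩
      by_cases hdY : d ∈ Y
      · have hex : ∃ d, d ∈ Y ∧ d * d = x := ⟨d, hdY, hdd⟩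
        have hd₁ : d₁ ∈ Y ∧ d₁ * d₁ = x := by
          simp only [d₁, dif_pos hex]
          exact hex.choose_spec
        have hfd : f d = a₀ * (d * d₁⁻¹) := if_pos hdY
        have hmem : f d ∈ Y := by rw [hfd]; exact mul_mem ha₀Y (mul_mem hdY (inv_mem hd₁.1))
        refine ⟨⟨hle hmem, ?_, ?_⟩, fun h => hnY (h ▸ hmem), iff_of_true hmem hdY⟩
        · have c1 : Commute a₀ x := by
            show a₀ * x = x * a₀
            rw [hx, mul_assoc a₀ b₀ a₀, ← hc a₀ ha₀L b₀ hb₀L]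
          have c2 : Commute d x := by show d * x = x * d; rw [← hdd]; group
          have c3 : Commute d₁ x := by show d₁ * x = x * d₁; rw [← hd₁.2]; group
          rw [hfd]
          exact (c1.mul_left (c2.mul_left c3.inv_left)).eq
        · have c1 : Commute a₀ d := (hY' d hdY hdd d hdY hdd).2
          have c2 : Commute a₀ d₁ := (hY' d₁ hd₁.1 hd₁.2 d hdY hdd).2
          have c3 : Commute d d₁ := (hY' d hdY hdd d₁ hd₁.1 hd₁.2).1
          rw [hfd]
          calc a₀ * (d * d₁⁻¹) * (a₀ * (d * d₁⁻¹))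
              = a₀ * a₀ * ((d * d₁⁻¹) * (d * d₁⁻¹)) :=
                (c1.mul_right c2.inv_right).symm.mul_mul_mul_comm _ _
            _ = j * (d * d * (d₁⁻¹ * d₁⁻¹)) := by rw [haa, c3.symm.inv_left.mul_mul_mul_comm]
            _ = j := by rw [← mul_inv_rev, hdd, hd₁.2, mul_inv_cancel, mul_one]
      · have hfd : f d = a₀ * d := if_neg hdY
        have hmem : f d ∉ Y := by
          rw [hfd]; exact fun h => hdY ((Subgroup.mul_mem_cancel_left _ ha₀Y).1 h)
        refine ⟨⟨hfd ▸ mul_mem ha₀C hdC, ?_, ?_⟩, fun h => ?_, iff_of_false hmem hdY⟩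
        · rw [hfd]; exact (hshift d hdC hdY hdd).1
        · rw [hfd]; exact (hshift d hdC hdY hdd).2
        · rw [hfd] at h
          have hd' : d = a₀⁻¹ * n := eq_inv_mul_of_mul_eq h
          rw [hd'] at hdd
          have e : a₀⁻¹ * n * (a₀⁻¹ * n) = x * j := by
            have i1 : a₀⁻¹ = j * a₀ := inv_eq_of_mul_eq_one_right (by
              rw [← mul_assoc, hCj a₀ ha₀C, mul_assoc, haa, hjj])
            calc a₀⁻¹ * n * (a₀⁻¹ * n) = a₀⁻¹ * (n * a₀⁻¹ * n⁻¹) * (n * n) := by group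
              _ = a₀⁻¹ * b₀⁻¹ * j := by rw [hnn, hb₀]; group
              _ = x⁻¹ * j := by rw [hx, mul_inv_rev a₀ b₀, hc _ (inv_mem ha₀L) _ (inv_mem hb₀L)]
              _ = x * j := by rw [inv_eq_of_mul_eq_one_right hxx]
          rw [e] at hdd
          exact hj1 (mul_eq_left.1 hdd)
    have hinj : Set.InjOn f Rx := by
      intro d hd d' hd' e
      have h1 := (hf d hd).2.2
      have h2 := (hf d' hd').2.2
      rw [e] at h1
      by_cases hdY : d ∈ Y
      · have hd'Y : d' ∈ Y := h2.1 (h1.2 hdY)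
        simp only [f, if_pos hdY, if_pos hd'Y] at e
        exact mul_right_cancel (mul_left_cancel e)
      · have hd'Y : d' ∉ Y := fun h => hdY (h1.1 (h2.2 h))
        simp only [f, if_neg hdY, if_neg hd'Y] at e
        exact mul_left_cancel e
    have hnR : n ∈ Rj := ⟨hn, by
      calc n * x = n * x * n⁻¹ * n := by group
        _ = x * n := by rw [hnx], hnn⟩
    calc Rx.ncard = (f '' Rx).ncard := hinj.ncard_image.symm
      _ < Rj.ncard := Set.ncard_lt_ncard ⟨fun _ ⟨d, hd, e⟩ => e ▸ (hf d hd).1,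
          fun hs => by obtain ⟨d, hd, e⟩ := hs hnR; exact (hf d hd).2.1 e⟩ (Set.toFinite _)
  exact absurd (hle1.trans_lt hle2) (lt_irrefl _)

end Cfsg.Agent.S3211
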