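import Cfsg.Statements.S3213
import Mathlib
set_option linter.style.haveILetI false
set_option linter.unusedSimpArgs false
-- import your own Cfsg.Agent.* helpers here

set_option autoImplicit false
open Cfsg

namespace Cfsg.Agent.S3213
open Matrix

variable {F : Type*} [Field F] [Fintype F]

/-- an endomorphism of order dividing 5 of a space of dimension at most 3 over the field of order 3 is trivial. -/
lemma eq_one_of_pow_five (hF : Fintype.card F = 3) {U : Type*} [AddCommGroup U] [Module F U] [FiniteDimensional F U]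
    (hd : Module.finrank F U ≤ 3) (y : U →ₗ[F] U) (hy : y ^ 5 = 1) : y = 1 := by
  classical
  haveI : Finite U := Module.finite_of_finite F
  haveI : Fintype U := Fintype.ofFinite U
  haveI : Fact (Nat.Prime 5) := ⟨by norm_num⟩
  let σ : Function.End U := fun v => y v
  have key := Equiv.Perm.card_fixedPoints_modEq (f := σ) (p := 5) (n := 1) (by
    rw [pow_one]
    funext v
    have h1 : ∀ (k : ℕ) (v : U), (σ ^ k) v = (y ^ k) v := by
      intro k
      induction k with
      | zero => intro v; rfl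
      | succ k ih => intro v; rw [pow_succ, pow_succ]; exact ih (y v)
    rw [h1, hy]; rfl)
  have hfix : Fintype.card ↥(Function.fixedPoints σ) = 3 ^ Module.finrank F ↥(LinearMap.ker (y - 1)) := by
    rw [← hF, ← Module.card_eq_pow_finrank (K := F)]
    exact Fintype.card_congr (Equiv.subtypeEquivRight (fun v => by
      show y v = v ↔ _
      simp [sub_eq_zero]))
  have hle : Module.finrank F ↥(LinearMap.ker (y - 1)) ≤ Module.finrank F U := Submodule.finrank_le _
  rw [hfix, Module.card_eq_pow_finrank (K := F) (V := U), hF] at key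
  have heq : Module.finrank F ↥(LinearMap.ker (y - 1)) = Module.finrank F U := by
    unfold Nat.ModEq at key
    revert key hle hd
    generalize Module.finrank F U = d
    generalize Module.finrank F ↥(LinearMap.ker (y - 1)) = e
    intro hd hle key
    interval_cases d <;> interval_cases e <;> simp_all
  have := LinearMap.ker_eq_top.1 (Submodule.eq_top_of_finrank_eq heq)
  exact sub_eq_zero.1 this

lemma three_eq_zero (hF : Fintype.card F = 3) : (3 : F) = 0 := by
  have := FiniteField.cast_card_eq_zero F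
  rw [hF] at this
  exact_mod_cast this

/-- A central involution of a faithful representation of SL(2,5) in dimension 4 over F_3 is -1. -/
lemma map_invol_eq_neg (hF : Fintype.card F = 3) {U : Type*} [AddCommGroup U] [Module F U] [FiniteDimensional F U]
    (hd : Module.finrank F U ≤ 4) (z y : U →ₗ[F] U) (hz : z * z = 1) (hz1 : z ≠ 1) (hy : y ^ 5 = 1) (hy1 : y ≠ 1)
    (hc : z * y = y * z) : z = -1 := by
  have h3 := three_eq_zero hF
  by_contra hne
  apply hy1
  set P := LinearMap.ker (z - 1) with hP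
  set M := LinearMap.ker (z + 1) with hM
  have memP : ∀ {v : U}, v ∈ P ↔ z v = v := by intro v; simp [hP, sub_eq_zero]
  have memM : ∀ {v : U}, v ∈ M ↔ z v = -v := by
    intro v; simp [hM, add_eq_zero_iff_eq_neg]
  have hzy : ∀ v, z (y v) = y (z v) := fun v => LinearMap.congr_fun hc v
  have hyP : ∀ v ∈ P, y v ∈ P := fun v hv => memP.2 (by rw [hzy, memP.1 hv])
  have hyM : ∀ v ∈ M, y v ∈ M := fun v hv => memM.2 (by rw [hzy, memM.1 hv, map_neg])
  have triv : ∀ (W : Submodule F U) (hW : ∀ v ∈ W, y v ∈ W), W ≠ ⊤ → ∀ v ∈ W, y v = v := by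
    intro W hW hne v hv
    have hr : Module.finrank F W ≤ 3 := by
      have := Submodule.finrank_lt hne
      omega
    have := eq_one_of_pow_five hF hr (y.restrict hW) (by
      rw [Module.End.pow_restrict]
      ext v; simp [hy])
    exact congrArg Subtype.val (LinearMap.congr_fun this ⟨v, hv⟩)
  have hPt : P ≠ ⊤ := fun h => hz1 (sub_eq_zero.1 (LinearMap.ker_eq_top.1 h))
  have hMt : M ≠ ⊤ := fun h => hne (eq_neg_of_add_eq_zero_left (LinearMap.ker_eq_top.1 h))
  ext v
  have hzz : z (z v) = v := LinearMap.congr_fun hz v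
  have h1 : v + z v ∈ P := memP.2 (by rw [map_add, hzz, add_comm])
  have h2 : v - z v ∈ M := memM.2 (by rw [map_sub, hzz, neg_sub])
  have e : v = -((v + z v) + (v - z v)) := by
    have : (3 : F) • v = 0 := by rw [h3, zero_smul]
    rw [show (3 : F) = 1 + 1 + 1 by norm_num, add_smul, add_smul, one_smul] at this
    rw [eq_neg_iff_add_eq_zero, ← this]; abel
  show y v = v
  rw [e, map_neg, map_add, triv P hyP hPt _ h1, triv M hyM hMt _ h2]

lemma sl25_facts : ∀ a b c d : ZMod 5, a * d - b * c = 1 →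
    (a * (a * a + b * c) + b * (c * a + d * c) = 1 ∧ a * (a * b + b * d) + b * (c * b + d * d) = 0 ∧
      c * (a * a + b * c) + d * (c * a + d * c) = 0) →
    ¬ (a = 1 ∧ b = 0 ∧ c = 0 ∧ d = 1) →
    ∃ p q r : ZMod 5, p * (-p) - q * r = 1 ∧ p * a + q * c + r * b - p * d = 0 := by decide +kernel

lemma exists_inverting (x : Matrix.SpecialLinearGroup (Fin 2) (ZMod 5)) (hx : orderOf x = 3) :
    ∃ w : Matrix.SpecialLinearGroup (Fin 2) (ZMod 5), w * w = -1 ∧ x * w = w * x⁻¹ := by
  set M : Matrix (Fin 2) (Fin 2) (ZMod 5) := (x : Matrix (Fin 2) (Fin 2) (ZMod 5)) with hM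
  have hdet : M 0 0 * M 1 1 - M 0 1 * M 1 0 = 1 := by rw [← Matrix.det_fin_two]; exact x.2
  have h3 : M * (M * M) = 1 := by
    have hx3 : x * (x * x) = 1 := by
      rw [show x * (x * x) = x ^ 3 by simp [pow_succ, mul_assoc], ← hx, pow_orderOf_eq_one]
    exact congrArg (fun g : Matrix.SpecialLinearGroup (Fin 2) (ZMod 5) => (g : Matrix (Fin 2) (Fin 2) (ZMod 5))) hx3
  have hne : M ≠ 1 := by
    intro h
    have : x = 1 := Subtype.ext h
    rw [this, orderOf_one] at hx
    norm_num at hx
  have e00 := congrFun (congrFun h3 0) 0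
  have e01 := congrFun (congrFun h3 0) 1
  have e10 := congrFun (congrFun h3 1) 0
  simp [Matrix.mul_apply, Fin.sum_univ_two, Matrix.one_apply] at e00 e01 e10
  obtain ⟨p, q, r, hpqr, htr⟩ := sl25_facts (M 0 0) (M 0 1) (M 1 0) (M 1 1) hdet ⟨e00, e01, e10⟩ (by
    rintro ⟨h1, h2, h3, h4⟩
    exact hne (by ext i j; fin_cases i <;> fin_cases j <;> simp [h1, h2, h3, h4]))
  let w : Matrix.SpecialLinearGroup (Fin 2) (ZMod 5) := ⟨!![p, q; r, -p], by rw [Matrix.det_fin_two_of]; exact hpqr⟩
  refine ⟨w, ?_, ?_⟩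
  · apply Subtype.ext
    rw [Matrix.SpecialLinearGroup.coe_mul, Matrix.SpecialLinearGroup.coe_neg, Matrix.SpecialLinearGroup.coe_one]
    ext i j
    fin_cases i <;> fin_cases j <;> simp [w, Matrix.mul_apply, Fin.sum_univ_two, Matrix.one_apply] <;>
      first | linear_combination -hpqr | ring
  · apply Subtype.ext
    rw [Matrix.SpecialLinearGroup.coe_mul, Matrix.SpecialLinearGroup.coe_mul, Matrix.SpecialLinearGroup.coe_inv,
      Matrix.adjugate_fin_two]
    ext i j
    fin_cases i <;> fin_cases j <;> simp [w, ← hM, Matrix.mul_apply, Fin.sum_univ_two] <;>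
      first | linear_combination htr | linear_combination -htr | ring

theorem main (hF : Fintype.card F = 3)
    (φ : Matrix.SpecialLinearGroup (Fin 2) (ZMod 5) →* ↥(Matrix.symplecticGroup (Fin 2) F)) (hφ : Function.Injective φ)
    (x : Matrix.SpecialLinearGroup (Fin 2) (ZMod 5)) (hx : orderOf x = 3) :
    Module.finrank F ↥(LinearMap.ker (Matrix.toLin' ((φ x : Matrix (Fin 2 ⊕ Fin 2) (Fin 2 ⊕ Fin 2) F)) - LinearMap.id)) = 2 ∧
      ∀ v w : Fin 2 ⊕ Fin 2 → F, (φ x : Matrix (Fin 2 ⊕ Fin 2) (Fin 2 ⊕ Fin 2) F).mulVec v = v →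
        (φ x : Matrix (Fin 2 ⊕ Fin 2) (Fin 2 ⊕ Fin 2) F).mulVec w = w →
          dotProduct v ((Matrix.J (Fin 2) F).mulVec w) = 0 := by
  have h3 := three_eq_zero hF
  set ρ : Matrix.SpecialLinearGroup (Fin 2) (ZMod 5) →* ((Fin 2 ⊕ Fin 2 → F) →ₗ[F] (Fin 2 ⊕ Fin 2 → F)) :=
    { toFun := fun g => Matrix.toLin' (φ g : Matrix (Fin 2 ⊕ Fin 2) (Fin 2 ⊕ Fin 2) F)
      map_one' := by simp [Module.End.one_eq_id]
      map_mul' := fun a b => by simp [Matrix.toLin'_mul, Module.End.mul_eq_comp] } with hρ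
  have ρinj : Function.Injective ρ := fun a b h => hφ (Subtype.ext (Matrix.toLin'.injective h))
  have hdim : Module.finrank F (Fin 2 ⊕ Fin 2 → F) = 4 := by simp
  let y : Matrix.SpecialLinearGroup (Fin 2) (ZMod 5) := ⟨!![1, 1; 0, 1], by simp [Matrix.det_fin_two_of]⟩
  have hy5 : y ^ 5 = 1 := by decide +kernel
  have hyne : ¬ y = 1 := fun h => by
    have h01 := congrArg (fun g : Matrix.SpecialLinearGroup (Fin 2) (ZMod 5) => (g : Matrix (Fin 2) (Fin 2) (ZMod 5)) 0 1) h
    simp [y] at h01
    exact absurd h01 (by decide)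
  have hzne : ¬ (-1 : Matrix.SpecialLinearGroup (Fin 2) (ZMod 5)) = 1 := by decide +kernel
  have hneg : ρ (-1) = -1 := by
    refine map_invol_eq_neg hF hdim.le _ (ρ y) (by rw [← map_mul, neg_mul_neg, one_mul, map_one]) ?_
      (by rw [← map_pow, hy5, map_one]) ?_ (by rw [← map_mul, ← map_mul, neg_one_mul, mul_neg_one])
    · exact fun h => hzne (ρinj (h.trans (map_one ρ).symm))
    · exact fun h => hyne (ρinj (h.trans (map_one ρ).symm))
  set W := LinearMap.ker (ρ x - 1) with hW
  have memW : ∀ {v}, v ∈ W ↔ ρ x v = v := by intro v; simp [hW, sub_eq_zero]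
  obtain ⟨w, hw2, hwx⟩ := exists_inverting x hx
  have hwW : ∀ v ∈ W, ρ w v ∈ W := by
    intro v hv
    rw [memW] at hv ⊢
    have h1 : ρ x⁻¹ v = v := by
      conv_lhs => rw [← hv]
      rw [← Module.End.mul_apply, ← map_mul, inv_mul_cancel, map_one, Module.End.one_apply]
    rw [← Module.End.mul_apply, ← map_mul, hwx, map_mul, Module.End.mul_apply, h1]
  have heven : Even (Module.finrank F W) := by
    rcases Nat.even_or_odd (Module.finrank F W) with h | h
    · exact h
    exfalso
    have h1 : (ρ w).restrict hwW * (ρ w).restrict hwW = (-1 : F) • (1 : W →ₗ[F] W) := by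
      ext v
      have : ρ w (ρ w v) = -(v : Fin 2 ⊕ Fin 2 → F) := by
        rw [← Module.End.mul_apply, ← map_mul, hw2, hneg]; simp
      simp [this]
    have h2 := congrArg LinearMap.det h1
    rw [map_mul, LinearMap.det_smul, map_one, mul_one, h.neg_one_pow] at h2
    have hsq : ∀ a : F, a * a ≠ -1 := by
      intro a ha
      by_cases ha0 : a = 0
      · rw [ha0, zero_mul] at ha; exact one_ne_zero (neg_eq_zero.1 ha.symm)
      · have := FiniteField.pow_card_sub_one_eq_one a ha0
        rw [hF, show 3 - 1 = 2 from rfl, pow_two, ha] at this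
        exact one_ne_zero (show (1 : F) = 0 by linear_combination h3 + this)
    exact hsq _ h2
  set N := ρ x - 1 with hN
  have hN3 : N * (N * N) = 0 := by
    have hx3 : ρ x * (ρ x * ρ x) = 1 := by
      rw [← map_mul, ← map_mul, show x * (x * x) = x ^ 3 by simp [pow_succ, mul_assoc], ← hx, pow_orderOf_eq_one, map_one]
    refine LinearMap.ext fun v => ?_
    have hv := LinearMap.congr_fun hx3 v
    simp only [Module.End.mul_apply, Module.End.one_apply] at hv
    simp only [hN, Module.End.mul_apply, LinearMap.sub_apply, Module.End.one_apply, map_sub, hv,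
      LinearMap.zero_apply]
    have e : ∀ u : Fin 2 ⊕ Fin 2 → F, u + u + u = 0 := by
      intro u; ext i
      show u i + u i + u i = 0
      linear_combination (u i) * h3
    have e1 := e (ρ x v)
    have e2 := e (ρ x (ρ x v))
    calc v - ρ x (ρ x v) - (ρ x (ρ x v) - ρ x v) - (ρ x (ρ x v) - ρ x v - (ρ x v - v))
        = (ρ x v + ρ x v + ρ x v) - (ρ x (ρ x v) + ρ x (ρ x v) + ρ x (ρ x v)) := by abel
      _ = 0 := by rw [e1, e2, sub_zero]
  have hN0 : N ≠ 0 := by
    intro h
    have := ρinj ((sub_eq_zero.1 h).trans (map_one ρ).symm)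
    rw [this, orderOf_one] at hx
    norm_num at hx
  obtain ⟨r, hr0, hrW, u, hur⟩ : ∃ r, r ≠ 0 ∧ r ∈ W ∧ ∃ u, r = N u := by
    obtain ⟨v, hv⟩ : ∃ v, N v ≠ 0 := by
      by_contra hh
      push Not at hh
      exact hN0 (LinearMap.ext hh)
    by_cases h : N (N v) = 0
    · exact ⟨N v, hv, h, v, rfl⟩
    · exact ⟨N (N v), h, LinearMap.congr_fun hN3 v, N v, rfl⟩
  have hWtop : W ≠ ⊤ := fun h => hN0 (LinearMap.ker_eq_top.1 h)
  have hpos : Module.finrank F W ≠ 0 := by
    intro h
    have := Submodule.finrank_eq_zero.1 h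
    rw [this, Submodule.mem_bot] at hrW
    exact hr0 hrW
  have hlt := Submodule.finrank_lt hWtop
  rw [hdim] at hlt
  have hd2 : Module.finrank F W = 2 := by obtain ⟨k, hk⟩ := heven; omega
  refine ⟨hd2, fun v v' hv hv' => ?_⟩
  set B : (Fin 2 ⊕ Fin 2 → F) → (Fin 2 ⊕ Fin 2 → F) → F :=
    fun a b => dotProduct a ((Matrix.J (Fin 2) F).mulVec b) with hB
  show B v v' = 0
  have hBalt : ∀ a, B a a = 0 := by
    intro a
    simp only [hB, Matrix.J, dotProduct, Matrix.mulVec, Fintype.sum_sum_type, Fin.sum_univ_two,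
      Matrix.fromBlocks_apply₁₁, Matrix.fromBlocks_apply₁₂, Matrix.fromBlocks_apply₂₁, Matrix.fromBlocks_apply₂₂,
      Matrix.zero_apply, Matrix.neg_apply, Matrix.one_apply]
    simp; ring
  have hvW : v ∈ W := memW.2 hv
  have hvW' : v' ∈ W := memW.2 hv'
  have hinv : ∀ a b, B (ρ x a) (ρ x b) = B a b := by
    intro a b
    simp only [hB, hρ, MonoidHom.coe_mk, OneHom.coe_mk, Matrix.toLin'_apply]
    rw [Matrix.mulVec_mulVec, Matrix.dotProduct_mulVec, ← Matrix.vecMul_transpose, Matrix.vecMul_vecMul,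
      ← Matrix.mul_assoc, SymplecticGroup.mem_iff'.1 (φ x).2, ← Matrix.dotProduct_mulVec]
  have Bsub : ∀ a b c, B a (b - c) = B a b - B a c := by
    intro a b c; simp [hB, Matrix.mulVec_sub, dotProduct_sub]
  have hperp : ∀ a ∈ W, B a r = 0 := by
    intro a ha
    have := hinv a u
    rw [memW.1 ha] at this
    rw [hur, hN, LinearMap.sub_apply, Module.End.one_apply, Bsub, this, sub_self]
  by_contra hne
  have hskew : B v' v = - B v v' := by
    have := hBalt (v + v')
    simp only [hB, Matrix.mulVec_add, dotProduct_add, add_dotProduct] at this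
    have a1 := hBalt v
    have a2 := hBalt v'
    simp only [hB] at a1 a2 ⊢
    linear_combination this - a1 - a2
  have hli : LinearIndependent F ![(⟨v, hvW⟩ : W), ⟨v', hvW'⟩] := by
    rw [LinearIndependent.pair_iff]
    intro s t hst
    have hst' : s • v + t • v' = 0 := congrArg Subtype.val hst
    have a1 := congrArg (B v) hst'
    have a2 := congrArg (B v') hst'
    simp only [hB, Matrix.mulVec_add, Matrix.mulVec_smul, dotProduct_add, dotProduct_smul, Matrix.mulVec_zero,
      dotProduct_zero, smul_eq_mul] at a1 a2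
    have b1 := hBalt v
    have b2 := hBalt v'
    simp only [hB] at b1 b2 hne hskew
    rw [b1, mul_zero, zero_add] at a1
    rw [b2, mul_zero, add_zero, hskew, mul_neg, neg_eq_zero] at a2
    exact ⟨(mul_eq_zero.1 a2).resolve_right hne, (mul_eq_zero.1 a1).resolve_right hne⟩
  have hspan := hli.span_eq_top_of_card_eq_finrank (by rw [hd2]; rfl)
  have hr : (⟨r, hrW⟩ : W) ∈ Submodule.span F (Set.range ![(⟨v, hvW⟩ : W), ⟨v', hvW'⟩]) := hspan ▸ Submodule.mem_top
  rw [Submodule.mem_span_range_iff_exists_fun] at hr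
  obtain ⟨c, hc⟩ := hr
  have hc' : r = c 0 • v + c 1 • v' := by
    have := congrArg Subtype.val hc
    simpa [Fin.sum_univ_two] using this.symm
  have a1 := hperp v hvW
  have a2 := hperp v' hvW'
  have b1 := hBalt v
  have b2 := hBalt v'
  simp only [hB, hc', Matrix.mulVec_add, Matrix.mulVec_smul, dotProduct_add, dotProduct_smul, smul_eq_mul] at a1 a2 b1 b2 hne hskew
  rw [b1, mul_zero, zero_add] at a1
  rw [b2, mul_zero, add_zero, hskew, mul_neg, neg_eq_zero] at a2
  apply hr0
  rw [hc', (mul_eq_zero.1 a2).resolve_right hne, (mul_eq_zero.1 a1).resolve_right hne, zero_smul, zero_smul, zero_add]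

/-- Let F be the field with 3 elements and K the field with 5 elements. For every injective homomorphism φ from SL₂(K) into the symplectic group Sp₄(F) (4 × 4 matrices g with g J gᵀ = J for the standard alternating matrix J) and every element x of order 3 of SL₂(K), the vectors of F⁴ fixed by φ(x) form a 2-dimensional subspace that is totally isotropic for the alternating form defined by J. -/
theorem result {F : Type*} [Field F] [Fintype F] (hF : Fintype.card F = 3)
    {K : Type*} [Field K] [Fintype K] (hK : Fintype.card K = 5)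
    (φ : Matrix.SpecialLinearGroup (Fin 2) K →* ↥(Matrix.symplecticGroup (Fin 2) F)) (hφ : Function.Injective φ)
    (x : Matrix.SpecialLinearGroup (Fin 2) K) (hx : orderOf x = 3) :
    Module.finrank F ↥(LinearMap.ker (Matrix.toLin' ((φ x : Matrix (Fin 2 ⊕ Fin 2) (Fin 2 ⊕ Fin 2) F)) - LinearMap.id)) = 2 ∧
      ∀ v w : Fin 2 ⊕ Fin 2 → F, (φ x : Matrix (Fin 2 ⊕ Fin 2) (Fin 2 ⊕ Fin 2) F).mulVec v = v →
        (φ x : Matrix (Fin 2 ⊕ Fin 2) (Fin 2 ⊕ Fin 2) F).mulVec w = w →
          dotProduct v ((Matrix.J (Fin 2) F).mulVec w) = 0 := by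
  haveI : CharP K 5 := charP_of_card_eq_prime (hp := ⟨by norm_num⟩) hK
  haveI : Fact (Nat.Prime 5) := ⟨by norm_num⟩
  let e : ZMod 5 ≃+* K := ZMod.ringEquiv K hK
  let E : Matrix.SpecialLinearGroup (Fin 2) (ZMod 5) →* Matrix.SpecialLinearGroup (Fin 2) K :=
    Matrix.SpecialLinearGroup.map e.toRingHom
  let E' : Matrix.SpecialLinearGroup (Fin 2) K →* Matrix.SpecialLinearGroup (Fin 2) (ZMod 5) :=
    Matrix.SpecialLinearGroup.map e.symm.toRingHom
  have hEE : E (E' x) = x := by
    ext i j; exact e.apply_symm_apply _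
  have hEinj : Function.Injective E := by
    intro a b h
    ext i j
    have := congrArg (fun m : Matrix.SpecialLinearGroup (Fin 2) K => (m : Matrix (Fin 2) (Fin 2) K) i j) h
    exact e.injective this
  obtain ⟨x', rfl⟩ : ∃ x', E x' = x := ⟨_, hEE⟩
  exact main hF (φ.comp E) (hφ.comp hEinj) x' (by rw [← orderOf_injective E hEinj, hx])

end Cfsg.Agent.S3213
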