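import Cfsg.Statements.S3215
import Mathlib
import Cfsg.Agent.Lib.PCore.HallHigman
import Cfsg.Agent.Lib.LocalChar.Basic
import Cfsg.Agent.Lib.Coprime.Generation
import Cfsg.Agent.Lib.PGroup.UniqueOrderP
import Cfsg.Agent.Lib.PGroup.Basic
import Cfsg.Agent.Lib.Components.Fitting
set_option linter.style.haveILetI false
-- import your own Cfsg.Agent.* helpers here

set_option autoImplicit false
set_option linter.unusedVariables false
set_option linter.unusedSectionVars false
open Cfsg
open scoped commutatorElement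

namespace Cfsg.Agent.S3215
open Subgroup

variable {H : Type*} [Group H] [Finite H]

lemma eq_one_of_pow_two_pow {x : H} (hodd : Odd (orderOf x)) {k : ℕ} (h : x ^ 2 ^ k = 1) : x = 1 := by
  rw [← orderOf_eq_one_iff]
  exact Nat.eq_one_of_dvd_coprimes (Nat.Coprime.pow_left k (Nat.coprime_two_left.2 hodd))
    (orderOf_dvd_of_pow_eq_one h) dvd_rfl

lemma cyclic_subgroup_ext {G : Type*} [Group G] [Finite G] [IsCyclic G] {A B : Subgroup G}
    (h : Nat.card A = Nat.card B) : A = B := by
  classical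
  haveI : Fintype G := Fintype.ofFinite G
  have key : ∀ C : Subgroup G, Nat.card C = Nat.card A →
      (Finset.univ.filter fun x : G => x ∈ C) = (Finset.univ.filter fun x : G => x ^ Nat.card A = 1) := by
    intro C hC
    refine Finset.eq_of_subset_of_card_le ?_ ?_
    · intro x hx
      simp only [Finset.mem_filter, Finset.mem_univ, true_and] at hx ⊢
      exact hC ▸ congrArg Subtype.val (pow_card_eq_one' (x := (⟨x, hx⟩ : C)))
    · refine (IsCyclic.card_pow_eq_one_le Nat.card_pos).trans (le_of_eq ?_)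
      rw [← hC, Nat.card_eq_fintype_card, Fintype.card_subtype]
  ext x
  have hx := congrArg (fun s : Finset G => x ∈ s) ((key A rfl).trans (key B h.symm).symm)
  simpa using hx

/-- an odd element commuting with an involution `t` centralizes `C(t) ∩ O_2`. -/
lemma commute_pCore {t x : H} (hnpc : Cfsg.HasNormalPComplement 2 ↥(centralizer ({t} : Set H)))
    (hxt : Commute x t) (hxo : Odd (orderOf x)) {q : H} (hq : q ∈ pCore 2 H) (hqt : Commute t q) : Commute x q := by
  haveI : Fact (Nat.Prime 2) := ⟨Nat.prime_two⟩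
  obtain ⟨P, N, hN, hcomp⟩ := hnpc
  set xc : ↥(centralizer ({t} : Set H)) := ⟨x, mem_centralizer_singleton_iff.2 hxt.eq⟩ with hxc
  set qc : ↥(centralizer ({t} : Set H)) := ⟨q, mem_centralizer_singleton_iff.2 hqt.symm.eq⟩ with hqc
  obtain ⟨k, hk⟩ := IsPGroup.iff_card.1 P.2
  have hxN : xc ∈ N := by
    rw [← QuotientGroup.eq_one_iff]
    refine eq_one_of_pow_two_pow (k := k) ?_ ?_
    · have hd : orderOf (xc : ↥(centralizer ({t} : Set H)) ⧸ N) ∣ orderOf x := by
        have h := orderOf_map_dvd (QuotientGroup.mk' N) xc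
        rwa [← Subgroup.orderOf_coe] at h
      exact hxo.of_dvd_nat hd
    · have := pow_card_eq_one' (x := (xc : ↥(centralizer ({t} : Set H)) ⧸ N))
      rwa [← Subgroup.index_eq_card, hcomp.symm.index_eq_card, hk] at this
  have hNodd : Odd (Nat.card N) := by
    rw [← hcomp.index_eq_card, ← Nat.not_even_iff_odd, even_iff_two_dvd]
    exact P.not_dvd_index
  have h1 : x * q * x⁻¹ * q⁻¹ ∈ pCore 2 H :=
    mul_mem ((Components.pCore_normal' 2).conj_mem q hq x) (inv_mem hq)
  have h2 : xc * (qc * xc⁻¹ * qc⁻¹) ∈ N := N.mul_mem hxN (hN.conj_mem _ (N.inv_mem hxN) qc)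
  have h3 : ¬ 2 ∣ orderOf (x * q * x⁻¹ * q⁻¹) := by
    intro hd
    have h4 : orderOf (x * q * x⁻¹ * q⁻¹) ∣ Nat.card N := by
      have h5 := N.orderOf_dvd_natCard h2
      rw [← Subgroup.orderOf_coe] at h5
      simpa [xc, qc, mul_assoc] using h5
    exact (Nat.not_even_iff_odd.2 hNodd) (even_iff_two_dvd.2 (hd.trans h4))
  have h6 := LocalChar.eq_one_of_isPGroup (Components.isPGroup_pCore' 2) Nat.prime_two h1 h3
  exact mul_inv_eq_iff_eq_mul.1 (mul_inv_eq_one.1 h6)

/-- Let H be a finite solvable group with no nontrivial normal subgroup of odd order in which the centralizer of every involution has a normal 2-complement. Let X be a Hall 2'-subgroup of H (odd order, index a power of 2) and Y = O₂(H). Then no non-identity element of X commutes with a non-identity element of Y (so for X ≠ 1 the group XY is a Frobenius group with kernel Y), every Sylow subgroup of X is cyclic, XY is normal in H, and H/XY is a cyclic 2-group. -/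
theorem result {H : Type*} [Group H] [Finite H] (hsol : Group.IsSolvable H)
    (hO : Cfsg.oddCore H = ⊥)
    (hI : ∀ t : H, orderOf t = 2 → Cfsg.HasNormalPComplement 2 ↥(Subgroup.centralizer ({t} : Set H)))
    (X : Subgroup H) (hXodd : Odd (Nat.card X)) (hXidx : ∃ k : ℕ, X.index = 2 ^ k) :
    (∀ x ∈ X, x ≠ 1 → ∀ y ∈ Cfsg.pCore 2 H, y ≠ 1 → x * y ≠ y * x) ∧
      (∀ (p : ℕ) [Fact p.Prime] (P : Sylow p ↥X), IsCyclic ↥(P : Subgroup ↥X)) ∧
      (X ⊔ Cfsg.pCore 2 H).Normal ∧
      ∀ hN : (X ⊔ Cfsg.pCore 2 H).Normal, IsCyclic (H ⧸ (X ⊔ Cfsg.pCore 2 H)) ∧ IsPGroup 2 (H ⧸ (X ⊔ Cfsg.pCore 2 H)) := by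
  haveI : Fact (Nat.Prime 2) := ⟨Nat.prime_two⟩
  haveI := hsol
  set P := Cfsg.pCore 2 H with hP
  haveI hPn : P.Normal := Components.pCore_normal' 2
  have hPp : IsPGroup 2 ↥P := Components.isPGroup_pCore' 2
  have hCP : Subgroup.centralizer (P : Set H) ≤ P := PCore.centralizer_pCore_le_of_isSolvable hO
  have hord : ∀ x ∈ X, Odd (orderOf x) := fun x hx => hXodd.of_dvd_nat (X.orderOf_dvd_natCard hx)
  have hdisj : ∀ x ∈ X, x ∈ P → x = 1 := fun x hx hxP =>
    LocalChar.eq_one_of_isPGroup hPp Nat.prime_two hxP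
      (fun h => (Nat.not_even_iff_odd.2 (hord x hx)) (even_iff_two_dvd.2 h))
  -- (a)
  have hfpf : ∀ x ∈ X, x ≠ 1 → ∀ y ∈ P, y ≠ 1 → x * y ≠ y * x := by
    intro x hx hx1 y hy hy1 hxy
    obtain ⟨k, hk⟩ := IsPGroup.iff_orderOf.1 hPp ⟨y, hy⟩
    rw [Subgroup.orderOf_mk] at hk
    have hk0 : k ≠ 0 := by rintro rfl; exact hy1 (orderOf_eq_one_iff.1 (by simpa using hk))
    have ht2 : orderOf (y ^ 2 ^ (k - 1)) = 2 := by
      rw [orderOf_pow_of_dvd (by positivity) (hk ▸ pow_dvd_pow 2 (Nat.sub_le k 1)), hk,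
        Nat.pow_div (Nat.sub_le k 1) two_pos, show k - (k - 1) = 1 by omega, pow_one]
    set t := y ^ 2 ^ (k - 1) with ht
    have hxt : Commute x t := (show Commute x y from hxy).pow_right _
    have htN : Subgroup.zpowers t ≤ Subgroup.normalizer (P : Set H) := by
      rw [Subgroup.normalizer_eq_top_iff.2 hPn]; exact le_top
    have hall := LocalChar.thompson_axb hPp (IsPGroup.of_card (n := 1) (by rw [Nat.card_zpowers, ht2, pow_one]) : IsPGroup 2 ↥(Subgroup.zpowers t))
      htN (b := x) (by rw [Subgroup.normalizer_eq_top_iff.2 hPn]; trivial)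
      (fun h => (Nat.not_even_iff_odd.2 (hord x hx)) (even_iff_two_dvd.2 h))
      (by rintro _ ⟨j, rfl⟩; exact hxt.zpow_right j)
      (fun q hq hqt => commute_pCore (hI t ht2) hxt (hord x hx) hq (hqt t (Subgroup.mem_zpowers t)))
    exact hx1 (hdisj x hx (hCP (fun q hq => (hall q hq).eq.symm)))
  have hPtriv : P = ⊥ → ∀ g : H, g = 1 := fun h g => by
    have : g ∈ P := hCP (fun q hq => by rw [h] at hq; rw [Subgroup.mem_bot.1 hq]; simp)
    rwa [h, Subgroup.mem_bot] at this
  -- (b)
  have hcyc : ∀ (p : ℕ) [Fact p.Prime] (Q : Sylow p ↥X), IsCyclic ↥(Q : Subgroup ↥X) := by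
    intro p hp Q
    by_cases hQb : (Q : Subgroup ↥X) = ⊥
    · rw [hQb]; infer_instance
    have hp2 : p ≠ 2 := by
      rintro rfl
      obtain ⟨j, hj⟩ := IsPGroup.iff_card.1 Q.2
      have hj0 : j ≠ 0 := by rintro rfl; exact hQb (Subgroup.card_eq_one.1 (by simpa using hj))
      have h2 : 2 ∣ Nat.card ↥X := dvd_trans (hj ▸ dvd_pow_self 2 hj0) (Subgroup.card_subgroup_dvd_card _)
      exact (Nat.not_even_iff_odd.2 hXodd) (even_iff_two_dvd.2 h2)
    by_contra hnc
    have hnu : ¬ ∀ A B : Subgroup ↥(Q : Subgroup ↥X), Nat.card A = p → Nat.card B = p → A = B := by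
      intro hu
      rcases PGroup.cyclic_or_quaternion_of_unique Q.2 hu with h | ⟨h, -⟩
      exacts [hnc h, hp2 h]
    push Not at hnu
    obtain ⟨A, B, hA, hB, hAB⟩ := hnu
    have hQne : (⊤ : Subgroup ↥(Q : Subgroup ↥X)) ≠ ⊥ := by
      intro h
      apply hAB
      rw [eq_bot_iff.2 ((le_top : A ≤ ⊤).trans h.le), eq_bot_iff.2 ((le_top : B ≤ ⊤).trans h.le)]
    obtain ⟨z, -, hzc, hz⟩ := PGroup.exists_orderOf_eq_mem_center Q.2 ⊤ hQne
    obtain ⟨W, hW, hWz⟩ : ∃ W : Subgroup ↥(Q : Subgroup ↥X), Nat.card W = p ∧ W ≠ Subgroup.zpowers z := by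
      by_cases h : A = Subgroup.zpowers z
      · exact ⟨B, hB, fun hb => hAB (h.trans hb.symm)⟩
      · exact ⟨A, hA, h⟩
    set E := (Subgroup.zpowers z ⊔ W : Subgroup ↥(Q : Subgroup ↥X)) with hE
    haveI hWcyc : IsCyclic W := isCyclic_of_prime_card hW
    have hEc : IsMulCommutative E := by
      rw [hE, ← Subgroup.closure_eq W, Subgroup.zpowers_eq_closure, ← Subgroup.closure_union]
      apply Subgroup.isMulCommutative_closure
      rintro a (ha | ha) b (hb | hb)
      · rw [Set.mem_singleton_iff] at ha hb; rw [ha, hb]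
      · rw [Set.mem_singleton_iff] at ha; rw [ha]; exact (Subgroup.mem_center_iff.1 hzc b).symm
      · rw [Set.mem_singleton_iff] at hb; rw [hb]; exact Subgroup.mem_center_iff.1 hzc a
      · exact congrArg Subtype.val ((IsCyclic.commGroup (α := W)).mul_comm ⟨a, ha⟩ ⟨b, hb⟩)
    set f : ↥(Q : Subgroup ↥X) →* H := X.subtype.comp (Q : Subgroup ↥X).subtype with hf
    have hfinj : Function.Injective f := X.subtype_injective.comp (Q : Subgroup ↥X).subtype_injective
    set E' : Subgroup H := E.map f with hE'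
    haveI : IsMulCommutative E' := by
      refine ⟨⟨fun a b => Subtype.ext ?_⟩⟩
      obtain ⟨u, hu, hua⟩ := a.2
      obtain ⟨v, hv, hvb⟩ := b.2
      show (a : H) * b = b * a
      rw [← hua, ← hvb, ← map_mul, ← map_mul]
      exact congrArg f (congrArg Subtype.val (hEc.is_comm.comm ⟨u, hu⟩ ⟨v, hv⟩))
    have hEncyc : ¬ IsCyclic E' := by
      intro hc
      haveI : IsCyclic E := (E.equivMapOfInjective f hfinj).isCyclic.2 hc
      apply hWz
      apply Subgroup.map_injective (Subgroup.subtype_injective E) |> fun h => ?_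
      have e1 : (W.subgroupOf E) = (Subgroup.zpowers z).subgroupOf E := by
        refine cyclic_subgroup_ext ?_
        rw [Nat.card_congr (Subgroup.subgroupOfEquivOfLe (le_sup_right : W ≤ E)).toEquiv,
          Nat.card_congr (Subgroup.subgroupOfEquivOfLe (le_sup_left : Subgroup.zpowers z ≤ E)).toEquiv,
          hW, Nat.card_zpowers, hz]
      have e2 := congrArg (Subgroup.map E.subtype) e1
      rwa [Subgroup.subgroupOf_map_subtype, Subgroup.subgroupOf_map_subtype, inf_eq_left.2 le_sup_right,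
        inf_eq_left.2 le_sup_left] at e2
    have hE'X : E' ≤ X := by
      rintro _ ⟨e, -, rfl⟩
      exact (e : ↥X).2
    have hcop : (Nat.card E').Coprime (Nat.card P) := by
      obtain ⟨j, hj⟩ := IsPGroup.iff_card.1 hPp
      rw [hj]
      exact Nat.Coprime.pow_right j (Nat.coprime_two_right.2 (hXodd.of_dvd_nat (Subgroup.card_dvd_of_le hE'X)))
    have hbot : (⊥ : Subgroup H) = P := by
      refine Coprime.eq_of_forall_centralizer_le hEncyc (by rw [Subgroup.normalizer_eq_top_iff.2 hPn]; exact le_top) hcop bot_le ?_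
      intro a ha ha1 q hq
      by_contra hq1
      exact hfpf a (hE'X ha) ha1 q hq.1 (fun h => hq1 (Subgroup.mem_bot.2 h)) (Subgroup.mem_centralizer_singleton_iff.1 hq.2).symm
    exact hQb (eq_bot_iff.2 fun q _ => Subgroup.mem_bot.2 (Subtype.ext (hPtriv hbot.symm _)))
  -- the quotient by P
  set π := QuotientGroup.mk' P with hπ
  haveI : Group.IsSolvable (H ⧸ P) := inferInstance
  set F := Cfsg.fittingSubgroup (H ⧸ P) with hF
  haveI hFn : F.Normal := Subgroup.sSup_normal _ fun _ h => h.1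
  have hbot2 : Cfsg.pCore 2 (H ⧸ P) = ⊥ := PCore.pCore_quotient_self_eq_bot
  have hFodd : Odd (Nat.card F) := by
    rw [← Nat.not_even_iff_odd, even_iff_two_dvd]
    intro h2
    haveI : Group.IsNilpotent F := Components.fittingSubgroup_isNilpotent _
    let Q : Sylow 2 F := default
    haveI hQn : (Q : Subgroup F).Normal := Sylow.normal_of_normalizerCondition Group.normalizerCondition_of_isNilpotent Q
    haveI : (Q : Subgroup F).Characteristic := Sylow.characteristic_of_normal Q hQn
    have hle : (Q : Subgroup F).map F.subtype ≤ Cfsg.pCore 2 (H ⧸ P) := PCore.le_pCore (Q.2.map _)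
    rw [hbot2, le_bot_iff, Subgroup.map_eq_bot_iff_of_injective _ F.subtype_injective] at hle
    have := Q.not_dvd_index
    rw [hle, Subgroup.index_bot] at this
    exact this h2
  set X' := X.map π with hX'
  have hFX : F ≤ X' := by
    obtain ⟨k, hk⟩ := hXidx
    have h1 : X'.index ∣ 2 ^ k := hk ▸ Subgroup.index_map_dvd _ (QuotientGroup.mk'_surjective P)
    rw [← Subgroup.relIndex_eq_one]
    have h2 : X'.relIndex F ∣ 2 ^ k := by
      refine dvd_trans ?_ h1
      rw [← Subgroup.inf_relIndex_right]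
      obtain ⟨t, ht⟩ := Subgroup.relIndex_dvd_index_of_normal (K := X') F
      have e1 := Subgroup.relIndex_mul_index (inf_le_right : X' ⊓ F ≤ F)
      have e2 := Subgroup.relIndex_mul_index (inf_le_left : X' ⊓ F ≤ X')
      rw [← e2, Subgroup.inf_relIndex_left, ht] at e1
      have hpos : 0 < F.relIndex X' := Nat.pos_of_ne_zero (F.subgroupOf X').index_ne_zero_of_finite
      exact Dvd.intro t (Nat.eq_of_mul_eq_mul_left hpos (by rw [← e1]; ring))
    exact Nat.eq_one_of_dvd_coprimes (Nat.Coprime.pow_left k (Nat.coprime_two_left.2 hFodd)) h2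
      ((X'.subgroupOf F).index_dvd_card)
  haveI hXZ : IsZGroup X := ⟨fun p hp Q => by haveI := Fact.mk hp; exact hcyc p Q⟩
  haveI hX'Z : IsZGroup X' := IsZGroup.of_surjective (f := π.subgroupMap X) (MonoidHom.subgroupMap_surjective _ _)
  haveI hFZ : IsZGroup F := IsZGroup.of_injective (Subgroup.inclusion_injective hFX)
  haveI : Group.IsNilpotent F := Components.fittingSubgroup_isNilpotent _
  haveI hFc : IsCyclic F := inferInstance
  have hcommF : commutator (H ⧸ P) ≤ F := by
    refine le_trans ?_ (Components.centralizer_fittingSubgroup_le)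
    rw [_root_.commutator_def, Subgroup.commutator_le]
    intro g _ h _
    have hc := Commute.map (Commute.all (IsCyclic.mulAutMulEquiv (G := F) (MulAut.conjNormal g)) (IsCyclic.mulAutMulEquiv (G := F) (MulAut.conjNormal h))) (IsCyclic.mulAutMulEquiv (G := F)).symm
    simp only [MulEquiv.symm_apply_apply] at hc
    have h1 : MulAut.conjNormal ⁅g, h⁆ = (1 : MulAut F) := by
      rw [map_commutatorElement]; exact commutatorElement_eq_one_iff_commute.2 hc
    intro a ha
    have h2 := congrArg (fun φ : MulAut F => ((φ ⟨a, ha⟩ : F) : H ⧸ P)) h1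
    simp only [MulAut.conjNormal_apply, MulAut.one_apply] at h2
    exact (mul_inv_eq_iff_eq_mul.1 h2).symm
  have hcomap : X ⊔ P = X'.comap π := by
    rw [hX', Subgroup.comap_map_eq, hπ, QuotientGroup.ker_mk']
  have hX'n : X'.Normal := Subgroup.Normal.of_commutator_le (h := (hcommF).trans hFX)
  have hnorm : (X ⊔ P).Normal := hcomap ▸ hX'n.comap π
  refine ⟨hfpf, hcyc, hnorm, fun hN => ?_⟩
  have hidx : ∃ k, (X ⊔ P).index = 2 ^ k := by
    obtain ⟨k, hk⟩ := hXidx
    obtain ⟨j, _, hj⟩ := (Nat.dvd_prime_pow Nat.prime_two).1 (hk ▸ Subgroup.index_dvd_of_le (le_sup_left : X ≤ X ⊔ P))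
    exact ⟨j, hj⟩
  obtain ⟨j, hj⟩ := hidx
  have hpq : IsPGroup 2 (H ⧸ (X ⊔ P)) := IsPGroup.of_card (n := j) (by rw [← Subgroup.index_eq_card, hj])
  refine ⟨?_, hpq⟩
  -- the Sylow 2-subgroup of `H / P` is cyclic
  let T : Sylow 2 (H ⧸ P) := default
  have hTabel : IsMulCommutative (T : Subgroup (H ⧸ P)) := by
    refine ⟨⟨fun a b => ?_⟩⟩
    have h1 : ⁅(a : H ⧸ P), (b : H ⧸ P)⁆ ∈ F := hcommF (Subgroup.commutator_mem_commutator (Subgroup.mem_top _) (Subgroup.mem_top _))
    have h2 : ⁅(a : H ⧸ P), (b : H ⧸ P)⁆ ∈ (T : Subgroup (H ⧸ P)) := (⁅a, b⁆ : (T : Subgroup (H ⧸ P))).2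
    have h3 := LocalChar.eq_one_of_isPGroup T.2 Nat.prime_two h2
      (fun h => (Nat.not_even_iff_odd.2 hFodd) (even_iff_two_dvd.2 (h.trans (F.orderOf_dvd_natCard h1))))
    exact Subtype.ext (commutatorElement_eq_one_iff_commute.1 h3)
  -- no involution of T centralizes a nontrivial element of F
  have hinv : ∀ s ∈ (T : Subgroup (H ⧸ P)), orderOf s = 2 → ∀ f ∈ F, (orderOf f).Prime → ¬ Commute s f := by
    intro s hs hs2 f hf hfp hsf
    haveI : Fact (orderOf f).Prime := ⟨hfp⟩
    obtain ⟨x, hx, hxf⟩ := hFX hf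
    have hx1 : x ≠ 1 := by rintro rfl; rw [map_one] at hxf; rw [← hxf, orderOf_one] at hfp; exact Nat.not_prime_one hfp
    have hxord : orderOf x = orderOf f := by
      have h := orderOf_injective (π.comp X.subtype) (by
        rw [← MonoidHom.ker_eq_bot_iff, eq_bot_iff]
        intro u hu
        exact Subgroup.mem_bot.2 (Subtype.ext (hdisj u u.2 ((QuotientGroup.eq_one_iff _).1 hu)))) ⟨x, hx⟩
      rw [← hxf, ← Subgroup.orderOf_mk x hx]; exact h.symm
    have hp2 : orderOf f ≠ 2 := by
      intro h2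
      have := hord x hx
      rw [hxord, h2] at this
      exact absurd this (by decide)
    have hmem : s ∈ (Subgroup.centralizer ((Subgroup.zpowers x : Subgroup H) : Set H)).map π := by
      rw [hπ, PCore.map_centralizer_mk' (p := orderOf f) P
        (by
          obtain ⟨j, hj⟩ := IsPGroup.iff_card.1 hPp
          rw [hj]
          exact Nat.Coprime.pow_left j ((Nat.coprime_primes Nat.prime_two hfp).2 (Ne.symm hp2)))
        (IsPGroup.of_card (n := 1) (by rw [Nat.card_zpowers, hxord, pow_one])), MonoidHom.map_zpowers]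
      rintro _ ⟨i, rfl⟩
      exact (hxf ▸ hsf : Commute s (π x)).zpow_right i |>.symm
    obtain ⟨g, hg, hgs⟩ := hmem
    have hgx : Commute g x := (hg x (Subgroup.mem_zpowers x)).symm
    have hg2P : g ^ 2 ∈ P := by
      rw [← QuotientGroup.eq_one_iff]
      show π (g ^ 2) = 1
      rw [map_pow, hgs, ← hs2, pow_orderOf_eq_one]
    have hg2 : g ^ 2 = 1 := by
      by_contra h
      exact hfpf x hx hx1 _ hg2P h ((hgx.pow_left 2).symm.eq)
    have hg1 : g ≠ 1 := by rintro rfl; rw [map_one] at hgs; rw [← hgs, orderOf_one] at hs2; norm_num at hs2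
    have hgord : orderOf g = 2 := orderOf_eq_prime hg2 hg1
    have hPne : P ≠ ⊥ := fun h => hx1 (hPtriv h x)
    -- a fixed point of g on P
    have hR : IsPGroup 2 ↥(Subgroup.zpowers g ⊔ P) := (IsPGroup.of_card (n := 1) (by rw [Nat.card_zpowers, hgord, pow_one]) : IsPGroup 2 ↥(Subgroup.zpowers g)).to_sup_of_normal_right' hPp (by rw [Subgroup.normalizer_eq_top_iff.2 hPn]; exact le_top)
    have hne : P.subgroupOf (Subgroup.zpowers g ⊔ P) ≠ ⊥ := by
      rw [Ne, Subgroup.subgroupOf_eq_bot]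
      exact fun h => hPne (disjoint_self.1 (h.mono_right le_sup_right))
    obtain ⟨⟨q, hqP, hqc⟩, hq1⟩ := Subgroup.ne_bot_iff_exists_ne_one.1 (PGroup.inf_center_ne_bot hR _ hne)
    have hgq : Commute g (q : H) := congrArg Subtype.val
      (Subgroup.mem_center_iff.1 hqc ⟨g, Subgroup.mem_sup_left (Subgroup.mem_zpowers g)⟩)
    have hxq := commute_pCore (hI g hgord) hgx.symm (hord x hx) hqP hgq
    exact hfpf x hx hx1 q hqP (fun h => hq1 (Subtype.ext (Subtype.ext h))) hxq.eq
  have hTcyc : IsCyclic (T : Subgroup (H ⧸ P)) := by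
    by_cases hFb : F = ⊥
    · have htop : ∀ u : H ⧸ P, u ∈ F := fun u => Components.centralizer_fittingSubgroup_le (fun w hw => by
        rw [SetLike.mem_coe, ← hF, hFb, Subgroup.mem_bot] at hw; rw [hw]; simp)
      haveI : Subsingleton (H ⧸ P) := ⟨fun u v => by
        have hu := htop u; have hv := htop v
        rw [hFb, Subgroup.mem_bot] at hu hv
        rw [hu, hv]⟩
      infer_instance
    refine PGroup.isCyclic_of_unique_of_isMulCommutative T.2 ?_ hTabel
    intro A B hA hB
    obtain ⟨a, ha⟩ := exists_prime_orderOf_dvd_card' 2 (dvd_of_eq hA.symm)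
    obtain ⟨b, hb⟩ := exists_prime_orderOf_dvd_card' 2 (dvd_of_eq hB.symm)
    have hab : (a : (T : Subgroup (H ⧸ P))) = b := by
      by_contra hne
      have hF1 : Nat.card F ≠ 1 := fun h => hFb (Subgroup.card_eq_one.1 h)
      obtain ⟨q, hq, hqd⟩ := Nat.exists_prime_and_dvd hF1
      haveI : Fact q.Prime := ⟨hq⟩
      obtain ⟨f, hf⟩ := exists_prime_orderOf_dvd_card' q hqd
      have hfq : orderOf (f : H ⧸ P) = q := by rw [Subgroup.orderOf_coe, hf]
      have flip : ∀ s ∈ (T : Subgroup (H ⧸ P)), orderOf s = 2 → s * (f : H ⧸ P) * s⁻¹ = (f : H ⧸ P)⁻¹ := by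
        intro s hs hs2
        have hsf := hinv s hs hs2 f f.2 (hfq ▸ hq)
        obtain ⟨m, hm⟩ : ∃ m : ℤ, (f : H ⧸ P) ^ m = s * f * s⁻¹ := by
          have hmap : (Subgroup.zpowers f).map (MulAut.conjNormal s).toMonoidHom = Subgroup.zpowers f := by
            refine cyclic_subgroup_ext ?_
            exact Nat.card_congr ((Subgroup.zpowers f).equivMapOfInjective _ (MulAut.conjNormal s : MulAut F).injective).toEquiv.symm
          have := hmap.le (Subgroup.mem_map_of_mem _ (Subgroup.mem_zpowers f))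
          obtain ⟨m, hm⟩ := this
          refine ⟨m, ?_⟩
          have h' := congrArg Subtype.val hm
          simpa using h'
        have hss : s * s = 1 := by rw [← pow_two, ← hs2, pow_orderOf_eq_one]
        have h4 : s * (s * f * s⁻¹) * s⁻¹ = (f : H ⧸ P) := by
          rw [show s * (s * f * s⁻¹) * s⁻¹ = (s * s) * f * (s * s)⁻¹ by group, hss]; simp
        have h5 : (f : H ⧸ P) ^ (m * m) = (f : H ⧸ P) := by
          rw [zpow_mul, hm, conj_zpow, hm, h4]
        have h6 : ((f : H ⧸ P)) ^ (m * m - 1) = 1 := by rw [zpow_sub_one, h5, mul_inv_cancel]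
        have h7 := orderOf_dvd_iff_zpow_eq_one.2 h6
        rw [hfq, show m * m - 1 = (m - 1) * (m + 1) by ring] at h7
        rcases (Nat.prime_iff_prime_int.1 hq).dvd_mul.1 h7 with h8 | h8
        · exfalso
          apply hsf
          have : (f : H ⧸ P) ^ (m - 1) = 1 := orderOf_dvd_iff_zpow_eq_one.1 (by rw [hfq]; exact h8)
          rw [zpow_sub_one, hm, mul_inv_eq_one] at this
          exact mul_inv_eq_iff_eq_mul.1 this
        · have : (f : H ⧸ P) ^ (m + 1) = 1 := orderOf_dvd_iff_zpow_eq_one.1 (by rw [hfq]; exact h8)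
          rw [zpow_add_one, hm] at this
          exact eq_inv_of_mul_eq_one_left this
      have e1 : orderOf ((a : (T : Subgroup (H ⧸ P))) : H ⧸ P) = 2 := by rw [Subgroup.orderOf_coe, Subgroup.orderOf_coe, ha]
      have e2 : orderOf ((b : (T : Subgroup (H ⧸ P))) : H ⧸ P) = 2 := by rw [Subgroup.orderOf_coe, Subgroup.orderOf_coe, hb]
      set a' : H ⧸ P := ((a : (T : Subgroup (H ⧸ P))) : H ⧸ P) with ha'
      set b' : H ⧸ P := ((b : (T : Subgroup (H ⧸ P))) : H ⧸ P) with hb'
      have hTa : a' ∈ (T : Subgroup (H ⧸ P)) := (a : (T : Subgroup (H ⧸ P))).2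
      have hTb : b' ∈ (T : Subgroup (H ⧸ P)) := (b : (T : Subgroup (H ⧸ P))).2
      have hne' : a' ≠ b' := fun h => hne (Subtype.ext h)
      have hcab : Commute a' b' := congrArg Subtype.val (hTabel.is_comm.comm ⟨a', hTa⟩ ⟨b', hTb⟩)
      have haa : a' * a' = 1 := by rw [← pow_two, ← e1, pow_orderOf_eq_one]
      have hbb : b' * b' = 1 := by rw [← pow_two, ← e2, pow_orderOf_eq_one]
      have e3 : orderOf (a' * b') = 2 := by
        refine orderOf_eq_prime (by rw [hcab.mul_pow, pow_two, pow_two, haa, hbb, one_mul]) fun h => hne' ?_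
        exact mul_right_cancel (h.trans hbb.symm)
      refine hinv _ (Subgroup.mul_mem _ hTa hTb) e3 f f.2 (hfq ▸ hq) ?_
      have h9 : a' * b' * (f : H ⧸ P) * (a' * b')⁻¹ = f := by
        rw [show a' * b' * (f : H ⧸ P) * (a' * b')⁻¹ = a' * (b' * f * b'⁻¹) * a'⁻¹ by group,
          flip b' hTb e2, ← conj_inv, flip a' hTa e1, inv_inv]
      exact mul_inv_eq_iff_eq_mul.1 h9
    have eA : Subgroup.zpowers (a : (T : Subgroup (H ⧸ P))) = A :=
      Subgroup.eq_of_le_of_card_ge (Subgroup.zpowers_le.2 a.2) (by rw [hA, Nat.card_zpowers, Subgroup.orderOf_coe, ha])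
    have eB : Subgroup.zpowers (b : (T : Subgroup (H ⧸ P))) = B :=
      Subgroup.eq_of_le_of_card_ge (Subgroup.zpowers_le.2 b.2) (by rw [hB, Nat.card_zpowers, Subgroup.orderOf_coe, hb])
    rw [← eA, ← eB, hab]
  let q : H ⧸ P →* H ⧸ (X ⊔ P) := QuotientGroup.map P (X ⊔ P) (MonoidHom.id H) le_sup_right
  let r : ↥(T : Subgroup (H ⧸ P)) →* H ⧸ (X ⊔ P) := q.comp (T : Subgroup (H ⧸ P)).subtype
  refine isCyclic_of_surjective r fun u => ?_
  have hq : Function.Surjective q := by
    intro u; induction u using QuotientGroup.induction_on with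
    | H h => exact ⟨QuotientGroup.mk h, rfl⟩
  have : r.range = ⊤ := by
    rw [← Subgroup.index_eq_one]
    refine Nat.eq_one_of_dvd_coprimes (Nat.Coprime.pow_left j ((Nat.Prime.coprime_iff_not_dvd Nat.prime_two).2 T.not_dvd_index)) ?_ ?_
    · rw [← hj, Subgroup.index_eq_card (X ⊔ P)]
      exact r.range.index_dvd_card
    · rw [MonoidHom.range_comp, Subgroup.range_subtype]
      exact Subgroup.index_map_dvd _ hq
  exact MonoidHom.range_eq_top.1 this u

end Cfsg.Agent.S3215
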