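import Cfsg.Statements.S3216
import Cfsg.Agent.Lib.InvolTimesPSL.ElemCase
import Cfsg.Agent.Lib.InvolTimesPSL.DihedralFinal

set_option autoImplicit false
open Cfsg

namespace Cfsg.Agent.S3216

/-- Let G be a finite non-abelian simple group and t an involution of G; write C = C_G(t) and C̄ = C/O(C). If the subgroup of C̄ generated by its 2-elements (the smallest normal subgroup of C̄ of odd index) is isomorphic to Z₂ × PSL₂(q) for some prime power q > 3, then the Sylow 2-subgroups of G are elementary abelian of order 8. -/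
theorem result {G : Type*} [Group G] [Finite G] [IsSimpleGroup G]
    (hG : ¬ IsMulCommutative G) (t : G) (ht : orderOf t = 2) {F : Type*} [Field F] [Fintype F] (hF : 3 < Fintype.card F)
    (hL : Nonempty (↥(Subgroup.closure {x : (↥(Subgroup.centralizer ({t} : Set G)) ⧸ Cfsg.oddCore ↥(Subgroup.centralizer ({t} : Set G))) | ∃ k : ℕ, orderOf x = 2 ^ k}) ≃*
      (Multiplicative (ZMod 2) × Matrix.ProjectiveSpecialLinearGroup (Fin 2) F))) (S : Sylow 2 G) :
    Nat.card ↥(S : Subgroup G) = 8 ∧ ∀ x ∈ (S : Subgroup G), x ^ 2 = 1 := by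
  obtain ⟨D, -⟩ := InvolTimesPSL.exists_cent t ht hF hL
  obtain ⟨H⟩ : Nonempty (InvolTimesPSL.Hyp G) := by
    by_cases h2 : (2 : F) = 0
    · obtain ⟨P, k₀, hS⟩ := InvolTimesPSL.exists_singer_even h2 hF
      exact InvolTimesPSL.hyp_of_singer D P hS
    obtain ⟨P⟩ : Nonempty (Sylow 2 (Matrix.ProjectiveSpecialLinearGroup (Fin 2) F)) := inferInstance
    obtain ⟨k, hk, hcard, ⟨e⟩⟩ := PSL2.sylow_two_dihedral h2 P
    rcases Nat.lt_or_ge k 2 with hk2 | hk2
    · obtain rfl : k = 1 := by omega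
      have hsq : ∀ d : DihedralGroup (2 ^ 1), d * d = 1 := by decide
      obtain ⟨k₀, hS⟩ := InvolTimesPSL.singer_klein h2 P hcard fun x hx =>
        congrArg Subtype.val (e.injective (by rw [map_mul, map_one]; exact hsq _) : (⟨x, hx⟩ : (P : Subgroup _)) * ⟨x, hx⟩ = 1)
      exact InvolTimesPSL.hyp_of_singer D P hS
    · obtain ⟨H⟩ := InvolTimesPSL.exists_dih D h2 P hk2 e
      exact (H.absurd_of_simple hG).elim
  exact H.card_sylow hG S

end Cfsg.Agent.S3216
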