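import Cfsg.Statements.S3219
import Cfsg.Agent.Lib.TwoTransA4.Even
import Cfsg.Agent.Lib.TwoTransA4.OddS
import Cfsg.Agent.Lib.TwoTransA4.OddCentral
import Cfsg.Agent.Lib.TwoTransA4.MuFour
import Cfsg.Agent.Lib.TwoTransA4.Small
import Cfsg.Agent.Lib.TwoTransA4.Affine

set_option autoImplicit false
open Cfsg

namespace Cfsg.Agent.S3219

open Cfsg.Agent.TwoTransA4 MulAction

theorem setup_of_equiv {G : Type*} [Group G] {Ω : Type*} [MulAction G Ω]
    (h2 : MulAction.IsMultiplyPretransitive G Ω 2) {a b : Ω} (hab : a ≠ b)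
    (e : ↥(MulAction.stabilizer G a ⊓ MulAction.stabilizer G b) ≃* ↥(alternatingGroup (Fin 4))) :
    Setup G Ω := by
  refine ⟨h2, fun c d hcd => ?_⟩
  obtain ⟨g, rfl, rfl⟩ := Perm.exists_smul_eq_two h2 hab hcd
  have heq : (stabilizer G a ⊓ stabilizer G b).map (MulAut.conj g).toMonoidHom =
      stabilizer G (g • a) ⊓ stabilizer G (g • b) := by
    rw [Subgroup.map_inf _ _ _ (MulAut.conj g).injective, ← stabilizer_smul_eq_stabilizer_map_conj,
      ← stabilizer_smul_eq_stabilizer_map_conj]
  exact ⟨((MulEquiv.subgroupCongr heq.symm).trans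
    ((stabilizer G a ⊓ stabilizer G b).equivMapOfInjective _ (MulAut.conj g).injective).symm).trans e⟩

/-- Let G be a finite doubly transitive permutation group on a set Ω in which the stabilizer of two points is isomorphic to the alternating group A₄. Then Ω has 6 points and G ≅ A₆, or Ω has 15 points and G ≅ A₇, or Ω has 16 points and G is isomorphic to the group of all affine transformations of the affine plane over the field with 4 elements, or G = C_G(J)O(G) for some involution J of G, where O(G) is the largest normal subgroup of G of odd order. -/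
theorem result {G : Type*} [Group G] [Finite G] {Ω : Type*} [Fintype Ω] [MulAction G Ω] [FaithfulSMul G Ω]
    (h2 : MulAction.IsMultiplyPretransitive G Ω 2) (a b : Ω) (hab : a ≠ b)
    (e : ↥(MulAction.stabilizer G a ⊓ MulAction.stabilizer G b) ≃* ↥(alternatingGroup (Fin 4))) :
    (Fintype.card Ω = 6 ∧ Nonempty (G ≃* ↥(alternatingGroup (Fin 6)))) ∨ (Fintype.card Ω = 15 ∧ Nonempty (G ≃* ↥(alternatingGroup (Fin 7)))) ∨
      (Fintype.card Ω = 16 ∧ ∃ (F : Type) (_ : Field F) (_ : Fintype F), Fintype.card F = 4 ∧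
        Nonempty (G ≃* ((Fin 2 → F) ≃ᵃ[F] (Fin 2 → F)))) ∨
      (∃ J : G, orderOf J = 2 ∧ Subgroup.centralizer ({J} : Set G) ⊔ Cfsg.oddCore G = ⊤) := by
  have hS := setup_of_equiv h2 hab e
  obtain ⟨u, hu, hu1, -⟩ := hS.exists_mem_four hab 1
  rw [← Nat.card_eq_fintype_card]
  rcases Nat.mod_two_eq_zero_or_one (Nat.card Ω) with hn | hn
  · rcases hS.even_cases hn hu1 hab hu with ⟨h6, -⟩ | ⟨h16, -, hg, hl⟩ | ⟨h28, hf, hl⟩
    · exact Or.inl ⟨h6, hS.degree_six hab h6⟩
    · have hC : ¬ SCase G Ω := fun h => by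
        have := (hS.case_S h hab).1
        omega
      have hP : Plane G Ω := ⟨hS, h16, hC, fun c d h => (hS.ncard_fixS_eq h hab).trans hg,
        fun c d h => (hS.ncard_uSw_eq h hab).trans hl⟩
      exact Or.inr (Or.inr (Or.inl ⟨h16, F4, inferInstance, inferInstance, card_four_field,
        hP.equiv_affine a b hab⟩))
    · exact (hS.false_degree_28 hu1 hab hu h28 hf hl).elim
  · by_cases hC : SCase G Ω
    · obtain ⟨h15, h7⟩ := hS.odd_SCase hC hn hu1 hab hu
      exact Or.inr (Or.inl ⟨h15, h7⟩)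
    · rcases hS.lam_cases hC hab with hl | hl | hl
      · exact (hS.false_lam_one hC hn hab hl).elim
      · exact Or.inr (Or.inr (Or.inr (hS.exists_J hC hn hab hl)))
      · obtain ⟨hone, hf⟩ := hS.reduce_lam_four hC hn hu1 hab hu hl
        exact (hS.false_mu_four hC hn hu1 hab hu hl hone hf).elim

end Cfsg.Agent.S3219
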