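import Cfsg.Statements.S3244
import Cfsg.Agent.Lib.LocalChar.TwoType

set_option autoImplicit false
open Cfsg Cfsg.Agent

set_option linter.style.haveILetI false

namespace Cfsg.Agent.S3244

/-- Say that a finite group G is of characteristic 2 type in the early sense when a Sylow 2-subgroup S of G has a self-centralizing normal subgroup of rank at least 3, S normalizes no nontrivial subgroup of odd order, and every 2-local subgroup of G is 2-constrained. If G is a non-abelian simple group of characteristic 2 type in this sense, then for some maximal 2-local subgroup M of G the centre of O₂(M) is not cyclic. -/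
theorem result {G : Type*} [Group G] [Finite G] [IsSimpleGroup G]
    (hG : ¬ IsMulCommutative G) (S : Sylow 2 G) (A : Subgroup G) (hA : Cfsg.IsSCN (S : Subgroup G) A) (hA3 : ¬ Cfsg.PRankLE 2 2 ↥A)
    (hinv : ∀ X : Subgroup G, Odd (Nat.card ↥X) → (S : Subgroup G) ≤ Subgroup.normalizer (X : Set G) → X = ⊥)
    (hcon : ∀ T : Subgroup G, IsPGroup 2 ↥T → T ≠ ⊥ → Cfsg.IsPConstrained 2 ↥(Subgroup.normalizer (T : Set G))) :
    ∃ M : Subgroup G, Cfsg.IsMaximalTwoLocal M ∧ ¬ IsCyclic ↥(Subgroup.center ↥(Cfsg.pCore 2 ↥M)) := by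
  haveI : Fact (Nat.Prime 2) := ⟨Nat.prime_two⟩
  obtain ⟨hAS, hSA, hCA⟩ := hA
  have hAc : ∀ a ∈ A, ∀ b ∈ A, a * b = b * a := fun a ha b hb =>
    Subgroup.mem_centralizer_iff.1 ((hCA.symm.le hb).2) a ha
  let E : Subgroup G :=
    { carrier := {a | a ∈ A ∧ a * a = 1}
      one_mem' := ⟨A.one_mem, one_mul 1⟩
      mul_mem' := fun {a b} ha hb => ⟨A.mul_mem ha.1 hb.1, by
        rw [(show Commute b a from hAc b hb.1 a ha.1).mul_mul_mul_comm, ha.2, hb.2, one_mul]⟩
      inv_mem' := fun {a} ha => ⟨A.inv_mem ha.1, by rw [← mul_inv_rev, ha.2, inv_one]⟩ }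
  have hE8 : 8 ≤ Nat.card E := by
    unfold Cfsg.PRankLE at hA3
    push Not at hA3
    obtain ⟨B, -, hB2, hBcard⟩ := hA3
    have hle : B.map A.subtype ≤ E := by
      rintro _ ⟨b, hb, rfl⟩
      refine ⟨b.2, ?_⟩
      have := congrArg Subtype.val (hB2 b hb)
      rwa [SubmonoidClass.coe_pow, pow_two] at this
    obtain ⟨k, hk⟩ := IsPGroup.iff_card.1 (((S.2.to_le hAS).to_subgroup B))
    have h3 : 3 ≤ k := by
      by_contra hlt
      have : 2 ^ k ≤ 2 ^ 2 := Nat.pow_le_pow_right two_pos (by omega)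
      omega
    have := Subgroup.card_le_of_le hle
    rw [Subgroup.card_map_of_injective A.subtype_injective, hk] at this
    exact le_trans (Nat.pow_le_pow_right two_pos h3 : 2 ^ 3 ≤ 2 ^ k) this
  have hc : TwoType.Conf S E :=
    { le := fun a ha => hAS ha.1
      normal := fun s hs => by
        have key : ∀ t ∈ (S : Subgroup G), ∀ a ∈ E, t * a * t⁻¹ ∈ E := fun t ht a ha =>
          ⟨(Subgroup.mem_normalizer_iff.1 (hSA ht) a).1 ha.1, by
            calc t * a * t⁻¹ * (t * a * t⁻¹) = t * (a * a) * t⁻¹ := by group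
              _ = 1 := by rw [ha.2]; group⟩
        refine Subgroup.mem_normalizer_iff.2 fun a => ⟨key s hs a, fun h => ?_⟩
        have h2 := key s⁻¹ (inv_mem hs) _ h
        simpa [mul_assoc] using h2
      comm := fun a ha b hb => hAc a ha.1 b hb.1
      sq := fun a ha => ha.2
      card := hE8
      inv := hinv
      con := hcon }
  by_contra hno
  push Not at hno
  -- a maximal 2-local is the centralizer of the unique involution centralising its `O₂`
  let Good : G → Prop := fun v => orderOf v = 2 ∧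
    Cfsg.IsMaximalTwoLocal (Subgroup.centralizer ({v} : Set G)) ∧
    ∀ x : G, orderOf x = 2 → ∀ hx : x ∈ Subgroup.centralizer ({v} : Set G),
      (∀ q ∈ Cfsg.pCore 2 (Subgroup.centralizer ({v} : Set G)),
        Commute (⟨x, hx⟩ : Subgroup.centralizer ({v} : Set G)) q) → x = v
  have hloc : ∀ M : Subgroup G, Cfsg.IsTwoLocal M →
      ∃ v, Good v ∧ M ≤ Subgroup.centralizer ({v} : Set G) := by
    intro M hM
    obtain ⟨M', hMM', hmax⟩ := Finite.exists_le_maximal (p := Cfsg.IsTwoLocal (G := G)) hM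
    have hM'max : Cfsg.IsMaximalTwoLocal M' :=
      ⟨hmax.1, fun N hN hle => le_antisymm (hmax.2 hN hle) hle⟩
    obtain ⟨T, hT, hT1, rfl⟩ := hmax.1
    have hcp : LocalChar.CP 2 ↥(Subgroup.normalizer (T : Set G)) := TwoType.cp_normalizer hc hT hT1
    set M' := Subgroup.normalizer (T : Set G) with hM'
    set P := Cfsg.pCore 2 M' with hP
    have hPp : IsPGroup 2 P := PCore.isPGroup_pCore
    have hPn : P ≠ ⊥ := fun h => hT1 (by
      rw [eq_bot_iff]
      intro t ht
      have h1 := LocalChar.mem_pCore_subgroup hT (le_refl _) (Subgroup.le_normalizer ht) ht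
      rw [← hP, h, Subgroup.mem_bot] at h1
      exact Subgroup.mem_bot.2 (congrArg Subtype.val h1))
    haveI : Nontrivial P := (Subgroup.nontrivial_iff_ne_bot P).2 hPn
    haveI hcyc : IsCyclic ↥(Subgroup.center P) := hno M' hM'max
    obtain ⟨⟨v, hvc⟩, hvo⟩ := exists_prime_orderOf_dvd_card' (G := Subgroup.center P) 2 (by
      haveI := hPp.center_nontrivial
      obtain ⟨k, hk0, hk⟩ := (IsPGroup.nontrivial_iff_card (hPp.to_subgroup (Subgroup.center P))).1 inferInstance
      exact hk ▸ dvd_pow_self 2 (Nat.pos_iff_ne_zero.1 hk0))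
    rw [Subgroup.orderOf_mk] at hvo
    have huniq : ∀ u : P, u ∈ Subgroup.center P → orderOf u = 2 → u = v := fun u hu huo => by
      classical
      haveI : Fintype (Subgroup.center P) := Fintype.ofFinite _
      have hcard := IsCyclic.card_orderOf_eq_totient (α := Subgroup.center P) (d := 2) (by
        rw [← hvo, ← Nat.card_eq_fintype_card]
        exact Subgroup.orderOf_dvd_natCard _ hvc)
      rw [show Nat.totient 2 = 1 from rfl, Finset.card_eq_one] at hcard
      obtain ⟨w, hw⟩ := hcard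
      have h1 : (⟨u, hu⟩ : Subgroup.center P) ∈ ({w} : Finset (Subgroup.center P)) :=
        hw ▸ Finset.mem_filter.2 ⟨Finset.mem_univ _, by rw [Subgroup.orderOf_mk]; exact huo⟩
      have h2 : (⟨v, hvc⟩ : Subgroup.center P) ∈ ({w} : Finset (Subgroup.center P)) :=
        hw ▸ Finset.mem_filter.2 ⟨Finset.mem_univ _, by rw [Subgroup.orderOf_mk]; exact hvo⟩
      rw [Finset.mem_singleton] at h1 h2
      exact congrArg Subtype.val (h1.trans h2.symm)
    set v' : G := ((v : M') : G) with hv'
    have hv'o : orderOf v' = 2 := by rw [hv', Subgroup.orderOf_coe, Subgroup.orderOf_coe, hvo]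
    have hle : M' ≤ Subgroup.centralizer ({v'} : Set G) := by
      intro m hm
      rw [Subgroup.mem_centralizer_singleton_iff]
      haveI : P.Normal := by rw [hP]; infer_instance
      have hmem : (⟨m, hm⟩ : M') * v * (⟨m, hm⟩ : M')⁻¹ ∈ P :=
        Subgroup.Normal.conj_mem inferInstance _ v.2 _
      have h := huniq ⟨_, hmem⟩ (Subgroup.mem_center_iff.2 fun q => Subtype.ext (by
        have hq := Subgroup.mem_center_iff.1 hvc ⟨(⟨m, hm⟩ : M')⁻¹ * q * (⟨m, hm⟩ : M'), by
          have := Subgroup.Normal.conj_mem (inferInstance : P.Normal) _ q.2 (⟨m, hm⟩ : M')⁻¹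
          rwa [inv_inv] at this⟩
        have hq' := congrArg (fun a : P => (a : M')) hq
        show (q : M') * ((⟨m, hm⟩ : M') * v * (⟨m, hm⟩ : M')⁻¹) =
          (⟨m, hm⟩ : M') * v * (⟨m, hm⟩ : M')⁻¹ * q
        generalize (⟨m, hm⟩ : M') = μ at hq'
        simp only [Subgroup.coe_mul] at hq'
        calc (q : M') * (μ * v * μ⁻¹) = μ * (μ⁻¹ * q * μ * v) * μ⁻¹ := by group
          _ = μ * (v * (μ⁻¹ * q * μ)) * μ⁻¹ := by rw [hq']
          _ = μ * v * μ⁻¹ * q := by group)) (by
        rw [← Subgroup.orderOf_coe, Invol.orderOf_conj_eq, Subgroup.orderOf_coe, hvo])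
      have h' : m * v' * m⁻¹ = v' := congrArg (fun a : P => ((a : M') : G)) h
      exact mul_inv_eq_iff_eq_mul.1 h'
    have hloc' : Cfsg.IsTwoLocal (Subgroup.centralizer ({v'} : Set G)) :=
      ⟨Subgroup.zpowers v', TwoType.isPGroup_zpowers hv'o, TwoType.zpowers_ne_bot hv'o,
        (TwoType.normalizer_zpowers hv'o).symm⟩
    have hEq : Subgroup.centralizer ({v'} : Set G) = M' := hM'max.2 _ hloc' hle
    refine ⟨v', ⟨hv'o, hEq ▸ hM'max, ?_⟩, hMM'.trans hle⟩
    rw [hEq]
    intro x hxo hx hxc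
    have hxP : (⟨x, hx⟩ : M') ∈ P := hcp (Subgroup.mem_centralizer_iff.2 fun q hq => (hxc q hq).eq.symm)
    have h := huniq ⟨⟨x, hx⟩, hxP⟩ (Subgroup.mem_center_iff.2 fun q => Subtype.ext (hxc q q.2).eq.symm)
      (by rw [← Subgroup.orderOf_coe, ← Subgroup.orderOf_coe]; exact hxo)
    exact congrArg (fun a : P => ((a : M') : G)) h
  have hloc2 : ∀ x : G, orderOf x = 2 → Cfsg.IsTwoLocal (Subgroup.centralizer ({x} : Set G)) :=
    fun x hx => ⟨Subgroup.zpowers x, TwoType.isPGroup_zpowers hx, TwoType.zpowers_ne_bot hx,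
      (TwoType.normalizer_zpowers hx).symm⟩
  -- an involution centralising `O₂` of the centralizer of a good one is that one
  have hcentral : ∀ v x : G, Good v → orderOf x = 2 → ∀ T : Subgroup G, IsPGroup 2 T →
      T ≤ Subgroup.centralizer ({v} : Set G) → T ≤ Subgroup.centralizer ({x} : Set G) →
      x ∈ Subgroup.centralizer ({v} : Set G) →
      (∀ R : Subgroup G, IsPGroup 2 R → R ≤ Subgroup.centralizer ({v} : Set G) →
        Nat.card R ≤ Nat.card T) → x = v := by
    intro v x hv hx T hT hTv hTx hxv hmax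
    refine hv.2.2 x hx hxv ?_
    rintro ⟨q, hqv⟩ hq
    set P := (Cfsg.pCore 2 (Subgroup.centralizer ({v} : Set G))).map (Subgroup.centralizer ({v} : Set G)).subtype
    have hPp : IsPGroup 2 P := PCore.isPGroup_pCore.map _
    have hPn : T ≤ Subgroup.normalizer (P : Set G) := fun t ht =>
      Subgroup.le_normalizer_map (Subgroup.centralizer ({v} : Set G)).subtype
        ⟨⟨t, hTv ht⟩, (by rw [Subgroup.normalizer_eq_top]; exact Subgroup.mem_top _), rfl⟩
    have hsup : IsPGroup 2 (T ⊔ P : Subgroup G) := hT.to_sup_of_normal_right' hPp hPn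
    have heq : T = T ⊔ P := Subgroup.eq_of_le_of_card_ge le_sup_left
      (hmax _ hsup (sup_le hTv (Subgroup.map_subtype_le _)))
    have hqT : q ∈ T := heq.symm ▸ Subgroup.mem_sup_right ⟨⟨q, hqv⟩, hq, rfl⟩
    exact Subtype.ext (Subgroup.mem_centralizer_singleton_iff.1 (hTx hqT)).symm
  -- a central involution is good
  obtain ⟨z, hzE, hz, hSz⟩ := TwoType.exists_central hc hc.le hc.normal (TwoType.ne_bot hc)
  have hSmax : ∀ R : Subgroup G, IsPGroup 2 R → Nat.card R ≤ Nat.card (S : Subgroup G) := fun R hR => by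
    obtain ⟨Q, hQ⟩ := hR.exists_le_sylow
    exact (Subgroup.card_le_of_le hQ).trans (le_of_eq (Q.card_eq_multiplicity.trans S.card_eq_multiplicity.symm))
  have hzGood : Good z := by
    obtain ⟨v, hv, hzv⟩ := hloc _ (hloc2 z hz)
    have hzz : z = v := hcentral v z hv hz (S : Subgroup G) S.2 (hSz.trans hzv) hSz
      (hzv (Subgroup.mem_centralizer_singleton_iff.2 rfl)) (fun R hR _ => hSmax R hR)
    exact hzz ▸ hv
  -- a good involution commuting with `z` equals it
  have hkey : ∀ v, Good v → Commute z v → v = z := by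
    intro v₀ hv₀ hc₀
    by_contra hne₀
    let pairs : Set (G × G) := {p | (∃ g : G, g * z * g⁻¹ = p.1) ∧ Good p.2 ∧ p.2 ≠ p.1 ∧ Commute p.1 p.2}
    let sz : G × G → ℕ := fun p => Nat.card
      (((default : Sylow 2 ↥(Subgroup.centralizer ({p.1} : Set G) ⊓ Subgroup.centralizer ({p.2} : Set G)))) :
        Subgroup ↥(Subgroup.centralizer ({p.1} : Set G) ⊓ Subgroup.centralizer ({p.2} : Set G)))
    obtain ⟨⟨z₁, v⟩, ⟨⟨g, hg⟩, hv, hne, hcom⟩, hmax⟩ := Set.exists_max_image pairs sz (Set.toFinite _)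
      ⟨(z, v₀), ⟨1, by simp⟩, hv₀, hne₀, hc₀⟩
    simp only at hg hv hne hcom
    set I := Subgroup.centralizer ({z₁} : Set G) ⊓ Subgroup.centralizer ({v} : Set G) with hI
    set T₀ : Sylow 2 I := default with hT₀
    set T := (T₀ : Subgroup I).map I.subtype with hT
    have hTp : IsPGroup 2 T := T₀.2.map _
    have hTI : T ≤ I := Subgroup.map_subtype_le _
    have hz₁o : orderOf z₁ = 2 := by rw [← hg, Invol.orderOf_conj_eq, hz]
    have hszT : sz (z₁, v) = Nat.card T := (Subgroup.card_map_of_injective I.subtype_injective).symm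
    have hgrow : ∀ (p : G × G), p ∈ pairs → ∀ R : Subgroup G, IsPGroup 2 R →
        R ≤ Subgroup.centralizer ({p.1} : Set G) ⊓ Subgroup.centralizer ({p.2} : Set G) →
        Nat.card R ≤ Nat.card T := by
      intro p hp R hR hRle
      rw [← hszT]
      refine le_trans ?_ (hmax p hp)
      obtain ⟨Q, hQ⟩ := (hR.of_equiv (Subgroup.subgroupOfEquivOfLe hRle).symm).exists_le_sylow
      rw [← Nat.card_congr (Subgroup.subgroupOfEquivOfLe hRle).toEquiv]
      exact (Subgroup.card_le_of_le hQ).trans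
        (le_of_eq (Q.card_eq_multiplicity.trans (Sylow.card_eq_multiplicity _).symm))
    -- central 2-elements of the intersection lie in `T`
    have hcenmem : ∀ x : G, orderOf x = 2 → x ∈ I → (∀ i ∈ I, Commute x i) → x ∈ T := by
      intro x hx hxI hxc
      have hR : IsPGroup 2 (T ⊔ Subgroup.zpowers x : Subgroup G) := by
        refine hTp.to_sup_of_normal_right' (TwoType.isPGroup_zpowers hx) fun t ht => ?_
        rw [TwoType.normalizer_zpowers hx]
        exact Subgroup.mem_centralizer_singleton_iff.2 (hxc t (hTI ht)).eq.symm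
      have hle := hgrow (z₁, v) ⟨⟨g, hg⟩, hv, hne, hcom⟩ _ hR (sup_le hTI (Subgroup.zpowers_le.2 hxI))
      exact (Subgroup.eq_of_le_of_card_ge le_sup_left hle).symm ▸
        Subgroup.mem_sup_right (Subgroup.mem_zpowers x)
    have hz₁T : z₁ ∈ T := hcenmem z₁ hz₁o
      ⟨Subgroup.mem_centralizer_singleton_iff.2 rfl, Subgroup.mem_centralizer_singleton_iff.2 hcom.eq⟩
      fun i hi => (Subgroup.mem_centralizer_singleton_iff.1 hi.1).symm
    have hTne : T ≠ ⊥ := fun h => Invol.ne_one_of_orderOf_two hz₁o (by simpa [h] using hz₁T)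
    obtain ⟨w, hw, hNw⟩ := hloc _ ⟨T, hTp, hTne, rfl⟩
    have hz₁Good : Good z₁ := by
      obtain ⟨v', hv', hle'⟩ := hloc _ (hloc2 z₁ hz₁o)
      have hS₁ : (S : Subgroup G).map (MulAut.conj g).toMonoidHom ≤ Subgroup.centralizer ({z₁} : Set G) := by
        rintro _ ⟨s, hs, rfl⟩
        rw [Subgroup.mem_centralizer_singleton_iff, ← hg]
        show g * s * g⁻¹ * (g * z * g⁻¹) = g * z * g⁻¹ * (g * s * g⁻¹)
        calc g * s * g⁻¹ * (g * z * g⁻¹) = g * (s * z) * g⁻¹ := by group
          _ = g * (z * s) * g⁻¹ := by rw [Subgroup.mem_centralizer_singleton_iff.1 (hSz hs)]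
          _ = g * z * g⁻¹ * (g * s * g⁻¹) := by group
      have : z₁ = v' := hcentral v' z₁ hv' hz₁o _ (S.2.map _) (hS₁.trans hle') hS₁
        (hle' (Subgroup.mem_centralizer_singleton_iff.2 rfl)) (fun R hR _ => by
          rw [Subgroup.card_map_of_injective (MulAut.conj g).injective]; exact hSmax R hR)
      exact this ▸ hv'
    -- `T` grows inside each of the two centralizers
    have hgrows : ∀ x y : G, Good x → orderOf y = 2 → T ≤ Subgroup.centralizer ({x} : Set G) →
        T ≤ Subgroup.centralizer ({y} : Set G) → y ∈ Subgroup.centralizer ({x} : Set G) → y ≠ x →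
        ∃ R : Subgroup G, IsPGroup 2 R ∧ R ≤ Subgroup.centralizer ({x} : Set G) ∧
          R ≤ Subgroup.normalizer (T : Set G) ∧ Nat.card T < Nat.card R := by
      intro x y hx hy hTx hTy hyx hxy
      by_contra hno'
      refine hxy (hcentral x y hx hy T hTp hTx hTy hyx fun R hR hRx => ?_)
      obtain ⟨Q, hQ⟩ := (hTp.of_equiv (Subgroup.subgroupOfEquivOfLe hTx).symm).exists_le_sylow
      set Q' := (Q : Subgroup _).map (Subgroup.centralizer ({x} : Set G)).subtype with hQ'
      have hTQ : T ≤ Q' := fun t ht => ⟨⟨t, hTx ht⟩, hQ ht, rfl⟩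
      obtain ⟨Q₂, hQ₂⟩ := (hR.of_equiv (Subgroup.subgroupOfEquivOfLe hRx).symm).exists_le_sylow
      have hRQ : Nat.card R ≤ Nat.card Q' := by
        rw [hQ', Subgroup.card_map_of_injective (Subgroup.centralizer ({x} : Set G)).subtype_injective,
          ← Nat.card_congr (Subgroup.subgroupOfEquivOfLe hRx).toEquiv]
        exact (Subgroup.card_le_of_le hQ₂).trans
          (le_of_eq (Q₂.card_eq_multiplicity.trans Q.card_eq_multiplicity.symm))
      refine hRQ.trans (le_of_eq ?_)
      by_contra hne'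
      have hQ'p : IsPGroup 2 Q' := Q.2.map _
      haveI : Group.IsNilpotent Q' := hQ'p.isNilpotent
      have hlt : T.subgroupOf Q' ≠ ⊤ := fun h => hne' (by
        rw [le_antisymm hTQ (Subgroup.subgroupOf_eq_top.1 h)])
      have hstep := Group.normalizerCondition_of_isNilpotent (T.subgroupOf Q') (lt_top_iff_ne_top.2 hlt)
      set R' := (Subgroup.normalizer ((T.subgroupOf Q' : Subgroup Q') : Set Q')).map Q'.subtype with hR'
      refine hno' ⟨R', hQ'p.to_le (Subgroup.map_subtype_le _),
        (Subgroup.map_subtype_le _).trans (Subgroup.map_subtype_le _), ?_, ?_⟩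
      · have h := Subgroup.le_normalizer_map (H := T.subgroupOf Q') Q'.subtype
        rwa [Subgroup.subgroupOf_map_subtype, inf_of_le_left hTQ] at h
      · rw [hR', Subgroup.card_map_of_injective Q'.subtype_injective,
          ← Nat.card_congr (Subgroup.subgroupOfEquivOfLe hTQ).toEquiv]
        exact Set.ncard_lt_ncard hstep (Set.toFinite _)
    have hvo : orderOf v = 2 := hv.1
    have hTz₁ : T ≤ Subgroup.centralizer ({z₁} : Set G) := hTI.trans inf_le_left
    have hTv : T ≤ Subgroup.centralizer ({v} : Set G) := hTI.trans inf_le_right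
    have hwz : w = z₁ := by
      by_contra hwne
      obtain ⟨R, hR, hRz, hRN, hlt⟩ := hgrows z₁ v hz₁Good hvo hTz₁ hTv
        (Subgroup.mem_centralizer_singleton_iff.2 hcom.eq.symm) hne
      have hz₁w : z₁ ∈ Subgroup.centralizer ({w} : Set G) := hNw (Subgroup.le_normalizer hz₁T)
      have := hgrow (z₁, w) ⟨⟨g, hg⟩, hw, hwne,
        (Subgroup.mem_centralizer_singleton_iff.1 hz₁w)⟩ R hR (le_inf hRz (hRN.trans hNw))
      omega
    subst hwz
    obtain ⟨R, hR, hRv, hRN, hlt⟩ := hgrows v w hv hz₁o hTv hTz₁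
      (Subgroup.mem_centralizer_singleton_iff.2 hcom.eq) hne.symm
    have := hgrow (w, v) ⟨⟨g, hg⟩, hv, hne, hcom⟩ R hR (le_inf (hRN.trans hNw) hRv)
    omega
  -- `C(z)` contains the centralizers of its involutions
  have hsub : ∀ u, orderOf u = 2 → Commute z u →
      Subgroup.centralizer ({u} : Set G) ≤ Subgroup.centralizer ({z} : Set G) := by
    intro u hu hzu
    obtain ⟨v, hv, hle⟩ := hloc _ (hloc2 u hu)
    have hzv := Subgroup.mem_centralizer_singleton_iff.1 (hle (Subgroup.mem_centralizer_singleton_iff.2 hzu.eq))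
    exact (hkey v hv hzv) ▸ hle
  obtain ⟨u, huE, hu1, huz⟩ : ∃ u ∈ E, u ≠ 1 ∧ u ≠ z := by
    by_contra hnot
    push Not at hnot
    have : Nat.card E ≤ ({1, z} : Set G).ncard := by
      show Nat.card (E : Set G) ≤ _
      rw [Nat.card_coe_set_eq]
      exact Set.ncard_le_ncard (fun e he => or_iff_not_imp_left.2 fun h => hnot e he h) (Set.toFinite _)
    have h2 : ({1, z} : Set G).ncard ≤ 2 := (Set.ncard_insert_le _ _).trans (by simp)
    omega
  have huo : orderOf u = 2 := Invol.orderOf_two_of_mul_self (hc.sq u huE) hu1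
  have hzu : Commute z u := hc.comm z hzE u huE
  have hconj : ∀ g : G, g * u * g⁻¹ ∈ Subgroup.centralizer ({z} : Set G) := by
    intro g
    set x := g * u * g⁻¹ with hx
    have hxo : orderOf x = 2 := by rw [hx, Invol.orderOf_conj_eq, huo]
    by_cases hcj : IsConj x z
    · exfalso
      obtain ⟨k, hk⟩ := isConj_iff.1 hcj
      have hu' : u = (k * g)⁻¹ * z * (k * g) := by rw [← hk, hx]; group
      obtain ⟨v, hv, hle⟩ := hloc _ (hloc2 u huo)
      set c := (k * g)⁻¹ with hcdef
      have hSc : (S : Subgroup G).map (MulAut.conj c).toMonoidHom ≤ Subgroup.centralizer ({u} : Set G) := by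
        rintro _ ⟨s, hs, rfl⟩
        rw [Subgroup.mem_centralizer_singleton_iff, hu']
        show c * s * c⁻¹ * (c * z * (k * g)) = c * z * (k * g) * (c * s * c⁻¹)
        rw [show k * g = c⁻¹ by rw [hcdef, inv_inv]]
        calc c * s * c⁻¹ * (c * z * c⁻¹) = c * (s * z) * c⁻¹ := by group
          _ = c * (z * s) * c⁻¹ := by rw [Subgroup.mem_centralizer_singleton_iff.1 (hSz hs)]
          _ = c * z * c⁻¹ * (c * s * c⁻¹) := by group
      have huv : u = v := hcentral v u hv huo _ (S.2.map _) (hSc.trans hle) hSc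
        (hle (Subgroup.mem_centralizer_singleton_iff.2 rfl)) (fun R hR _ => by
          rw [Subgroup.card_map_of_injective (MulAut.conj c).injective]; exact hSmax R hR)
      exact huz (hkey u (huv ▸ hv) hzu)
    · obtain ⟨c, hco, hcx, hcz⟩ := Invol.exists_common_commuting hxo hz hcj
      exact hsub c hco hcz.symm (Subgroup.mem_centralizer_singleton_iff.2 hcx.eq.symm)
  have htop : Subgroup.normalClosure ({u} : Set G) = ⊤ :=
    (Subgroup.Normal.eq_bot_or_eq_top Subgroup.normalClosure_normal).resolve_left fun h =>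
      hu1 (by
        have := Subgroup.subset_normalClosure (Set.mem_singleton u)
        rw [h] at this
        simpa using this)
  have hzc : Subgroup.centralizer ({z} : Set G) = ⊤ := by
    rw [← top_le_iff, ← htop]
    refine (Subgroup.closure_le _).2 ?_
    intro x hx
    obtain ⟨a, ha, hax⟩ := Group.mem_conjugatesOfSet_iff.1 hx
    rw [Set.mem_singleton_iff] at ha
    subst ha
    obtain ⟨k, hk⟩ := isConj_iff.1 hax
    exact hk ▸ hconj k
  have hzcen : z ∈ Subgroup.center G := Subgroup.mem_center_iff.2 fun g =>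
    Subgroup.mem_centralizer_singleton_iff.1 (hzc.symm.le (Subgroup.mem_top g))
  refine hG ?_
  rcases Subgroup.Normal.eq_bot_or_eq_top (H := Subgroup.center G) inferInstance with h | h
  · rw [h, Subgroup.mem_bot] at hzcen
    exact absurd hzcen (Invol.ne_one_of_orderOf_two hz)
  · exact ⟨⟨fun a b => (Subgroup.mem_center_iff.1 (h.symm.le (Subgroup.mem_top b)) a)⟩⟩

end Cfsg.Agent.S3244
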