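import Cfsg.Statements.S3246
import Mathlib
import Cfsg.Agent.Lib.LocalChar.Descent
import Cfsg.Agent.Lib.Coprime.Generation
import Cfsg.Agent.Lib.PGroup.ElementaryAbelian
import Cfsg.Agent.Lib.PGroup.Basic
set_option linter.style.haveILetI false
-- import your own Cfsg.Agent.* helpers here

set_option autoImplicit false
set_option linter.unusedVariables false
open Cfsg

namespace Cfsg.Agent.S3246
open Subgroup

variable {G : Type*} [Group G] [Finite G]

lemma exists_involution_center {T : Subgroup G} (hT : IsPGroup 2 ↥T) (hT1 : T ≠ ⊥) :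
    ∃ z ∈ T, orderOf z = 2 ∧ ∀ x ∈ T, Commute x z := by
  haveI : Fact (Nat.Prime 2) := ⟨Nat.prime_two⟩
  haveI : (⊤ : Subgroup T).Normal := inferInstance
  have hne : (⊤ : Subgroup T) ≠ ⊥ := fun h => hT1 (by
    rw [eq_bot_iff]
    intro x hx
    have : (⟨x, hx⟩ : T) ∈ (⊥ : Subgroup T) := h ▸ mem_top _
    exact congrArg Subtype.val (mem_bot.1 this))
  obtain ⟨z, -, hzc, hz⟩ := PGroup.exists_orderOf_eq_mem_center hT ⊤ hne
  exact ⟨z, z.2, by rw [Subgroup.orderOf_coe, hz], fun x hx => congrArg Subtype.val (mem_center_iff.1 hzc ⟨x, hx⟩)⟩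

theorem cp_normalizer
    (h : (∀ M : Subgroup G, Cfsg.IsMaximalTwoLocal M → Cfsg.IsPConstrained 2 ↥M ∧ Cfsg.oddCore ↥M = ⊥) ∨
      (∀ t : G, orderOf t = 2 → Cfsg.IsPConstrained 2 ↥(Subgroup.centralizer ({t} : Set G)) ∧
        Cfsg.oddCore ↥(Subgroup.centralizer ({t} : Set G)) = ⊥))
    {T : Subgroup G} (hT : IsPGroup 2 ↥T) (hT1 : T ≠ ⊥) :
    LocalChar.CP 2 ↥(normalizer (T : Set G)) := by
  haveI : Fact (Nat.Prime 2) := ⟨Nat.prime_two⟩
  rcases h with h | h
  · obtain ⟨M, hle, hM⟩ := Finite.exists_le_maximal (p := fun M : Subgroup G => Cfsg.IsTwoLocal M)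
      (a := normalizer (T : Set G)) ⟨T, hT, hT1, rfl⟩
    obtain ⟨h1, h2⟩ := h M ⟨hM.1, fun N hN hMN => le_antisymm (hM.2 hN hMN) hMN⟩
    exact LocalChar.cp_normalizer_of_le hT (le_normalizer.trans hle) hle (LocalChar.cp_of_isPConstrained h1 h2)
  · obtain ⟨z, hzT, hz, hzc⟩ := exists_involution_center hT hT1
    obtain ⟨h1, h2⟩ := h z hz
    exact LocalChar.cp_normalizer_of_centralizer_elem hT hzT hzc (LocalChar.cp_of_isPConstrained h1 h2)

/-- An odd subgroup `Y` of a group of characteristic 2 normalised by a 2-subgroup `S₀` of index at most 2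
in a Sylow 2-subgroup is trivial. -/
theorem eq_bot_of_invariant {H Y S₀ : Subgroup G} {S : Sylow 2 G} (hH : LocalChar.CP 2 ↥H)
    (hYH : Y ≤ H) (hS₀H : S₀ ≤ H) (hS₀ : IsPGroup 2 ↥S₀) (hY : Odd (Nat.card ↥Y))
    (hn : S₀ ≤ normalizer (Y : Set G)) (hidx : Nat.card ↥(S : Subgroup G) ≤ 2 * Nat.card ↥S₀) : Y = ⊥ := by
  haveI : Fact (Nat.Prime 2) := ⟨Nat.prime_two⟩
  set Q : Subgroup G := (pCore 2 ↥H).map H.subtype with hQdef
  have hQ : IsPGroup 2 ↥Q := PCore.isPGroup_pCore.map _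
  have hHQ : H ≤ normalizer (Q : Set G) := by
    haveI : (pCore 2 ↥H).Normal := Components.pCore_normal' 2
    intro g hg
    rw [mem_normalizer_iff]
    intro x
    constructor
    · rintro ⟨q, hq, rfl⟩
      exact ⟨⟨g, hg⟩ * q * ⟨g, hg⟩⁻¹, Subgroup.Normal.conj_mem inferInstance q hq _, rfl⟩
    · rintro ⟨q, hq, he⟩
      refine ⟨⟨g, hg⟩⁻¹ * q * ⟨g, hg⟩, ?_, ?_⟩
      · simpa using Subgroup.Normal.conj_mem inferInstance q hq (⟨g, hg⟩⁻¹)
      · have he' : (q : G) = g * x * g⁻¹ := he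
        simp [he', mul_assoc]
  have hQH : Q ≤ H := map_subtype_le _
  set T : Subgroup G := S₀ ⊔ Q with hTdef
  have hT : IsPGroup 2 ↥T := hS₀.to_sup_of_normal_right' hQ (hS₀H.trans hHQ)
  have hcardT : Nat.card ↥T ≤ 2 * Nat.card ↥S₀ := by
    obtain ⟨W, hW⟩ := hT.exists_le_sylow
    refine le_trans (Nat.card_le_card_of_injective _ (inclusion_injective hW)) (le_trans (le_of_eq ?_) hidx)
    rw [Sylow.card_eq_multiplicity W, ← Sylow.card_eq_multiplicity S]
  have hrel : S₀.relIndex T ≤ 2 := by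
    have := (S₀.subgroupOf T).card_mul_index
    rw [Nat.card_congr (subgroupOfEquivOfLe (le_sup_left : S₀ ≤ T)).toEquiv] at this
    have hpos : 0 < Nat.card ↥S₀ := Nat.card_pos
    have : Nat.card ↥S₀ * S₀.relIndex T ≤ Nat.card ↥S₀ * 2 := by
      rw [Subgroup.relIndex, this]; linarith
    exact Nat.le_of_mul_le_mul_left this hpos
  have hoddy : ∀ y ∈ Y, ¬ 2 ∣ orderOf y := fun y hy hd => by
    have : orderOf y ∣ Nat.card ↥Y := Subgroup.orderOf_dvd_natCard Y hy
    exact (Nat.not_even_iff_odd.2 hY) (even_iff_two_dvd.2 (hd.trans this))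
  have hfix : ∀ y ∈ Y, ∀ q ∈ Q, q ∈ S₀ → Commute y q := by
    intro y hy q hq hqS
    have h1 : y * q * y⁻¹ * q⁻¹ ∈ Q :=
      Q.mul_mem ((mem_normalizer_iff.1 (hHQ (hYH hy)) q).1 hq) (Q.inv_mem hq)
    have h2 : y * q * y⁻¹ * q⁻¹ ∈ Y := by
      have h3 := Y.mul_mem hy ((mem_normalizer_iff.1 (hn hqS) y⁻¹).1 (Y.inv_mem hy))
      simpa [mul_assoc] using h3
    have h4 : y * q * y⁻¹ * q⁻¹ = 1 := LocalChar.eq_one_of_isPGroup hQ Nat.prime_two h1 (hoddy _ h2)
    exact mul_inv_eq_iff_eq_mul.1 (by simpa using mul_inv_eq_one.1 h4)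
  have hall : ∀ y ∈ Y, ∀ q ∈ Q, Commute y q := by
    intro y hy q hq
    by_cases hqS : q ∈ S₀
    · exact hfix y hy q hq hqS
    have hqT : q ∈ T := mem_sup_right hq
    have hq' : y * q * y⁻¹ ∈ Q := (mem_normalizer_iff.1 (hHQ (hYH hy)) q).1 hq
    have hq'S : y * q * y⁻¹ ∉ S₀ := by
      intro hc
      have h5 := hfix y⁻¹ (Y.inv_mem hy) _ hq' hc
      apply hqS
      have h6 : y⁻¹ * (y * q * y⁻¹) = (y * q * y⁻¹) * y⁻¹ := h5.eq
      have h7 : q = y * q * y⁻¹ := by
        calc q = y⁻¹ * (y * q * y⁻¹) * y := by group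
          _ = y * q * y⁻¹ := by rw [h6]; group
      rwa [h7]
    have hidx2 : S₀.relIndex T = 2 := by
      have hne0 : S₀.relIndex T ≠ 0 := (S₀.subgroupOf T).index_ne_zero_of_finite
      have hne1 : S₀.relIndex T ≠ 1 := fun h1 => hqS (relIndex_eq_one.1 h1 hqT)
      omega
    have hd : y * q * y⁻¹ * q⁻¹ ∈ S₀ := by
      have := (mul_mem_iff_of_index_two (H := S₀.subgroupOf T) hidx2
        (a := ⟨y * q * y⁻¹, mem_sup_right hq'⟩) (b := ⟨q⁻¹, T.inv_mem hqT⟩)).2
      refine this ⟨fun h => absurd h hq'S, fun h => absurd (by simpa using S₀.inv_mem (mem_subgroupOf.1 h)) hqS⟩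
    exact LocalChar.commute_of_commute_commutator hQ Nat.prime_two (hoddy y hy)
      (Q.mul_mem hq' (Q.inv_mem hq)) (hfix y hy _ (Q.mul_mem hq' (Q.inv_mem hq)) hd)
  rw [eq_bot_iff]
  intro y hy
  have := LocalChar.cp_elim hH (b := ⟨y, hYH hy⟩) (fun q hq => Subtype.ext (hall y hy q ⟨q, hq, rfl⟩))
    (by rw [← Subgroup.orderOf_coe]; exact hoddy y hy)
  exact mem_bot.2 (congrArg Subtype.val this)

/-- Let G be a finite group whose Sylow 2-subgroup S has a self-centralizing normal subgroup of rank at least 3. Suppose that either every maximal 2-local subgroup of G is 2-constrained with no nontrivial normal subgroup of odd order, or the centralizer of every involution of G is 2-constrained with no nontrivial normal subgroup of odd order. Then S normalizes no nontrivial subgroup of G of odd order and every 2-local subgroup of G is 2-constrained. -/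
theorem result {G : Type*} [Group G] [Finite G]
    (S : Sylow 2 G) (A : Subgroup G) (hA : Cfsg.IsSCN (S : Subgroup G) A) (hA3 : ¬ Cfsg.PRankLE 2 2 ↥A)
    (h : (∀ M : Subgroup G, Cfsg.IsMaximalTwoLocal M → Cfsg.IsPConstrained 2 ↥M ∧ Cfsg.oddCore ↥M = ⊥) ∨
      (∀ t : G, orderOf t = 2 → Cfsg.IsPConstrained 2 ↥(Subgroup.centralizer ({t} : Set G)) ∧
        Cfsg.oddCore ↥(Subgroup.centralizer ({t} : Set G)) = ⊥)) :
    (∀ X : Subgroup G, Odd (Nat.card ↥X) → (S : Subgroup G) ≤ Subgroup.normalizer (X : Set G) → X = ⊥) ∧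
      (∀ T : Subgroup G, IsPGroup 2 ↥T → T ≠ ⊥ → Cfsg.IsPConstrained 2 ↥(Subgroup.normalizer (T : Set G))) := by
  haveI : Fact (Nat.Prime 2) := ⟨Nat.prime_two⟩
  have hcp := fun (T : Subgroup G) (hT : IsPGroup 2 ↥T) (hT1 : T ≠ ⊥) => cp_normalizer h hT hT1
  refine ⟨?_, fun T hT hT1 => LocalChar.isPConstrained_of_cp (hcp T hT hT1)⟩
  intro X hX hXn
  obtain ⟨hAS, hSA, hAC⟩ := hA
  -- a normal four-group of `S` inside `A`
  have hAcomm : ∀ a ∈ A, ∀ b ∈ A, a * b = b * a := by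
    intro a ha b hb
    have hb' : b ∈ (S : Subgroup G) ⊓ Subgroup.centralizer (A : Set G) := by rw [hAC]; exact hb
    exact Subgroup.mem_centralizer_iff.1 hb'.2 a ha
  set B : Subgroup G := A ⊓ Subgroup.closure {x | x ∈ A ∧ x ^ 2 = 1} with hB
  have hBA : B ≤ A := inf_le_left
  have hsq : ∀ x ∈ B, x ^ 2 = 1 := by
    intro x hx
    have key : x ∈ A ∧ x ^ 2 = 1 := by
      refine Subgroup.closure_induction (p := fun y _ => y ∈ A ∧ y ^ 2 = 1) (fun y hy => hy)
        ⟨A.one_mem, one_pow 2⟩ ?_ ?_ hx.2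
      · intro a b _ _ ha hb
        exact ⟨A.mul_mem ha.1 hb.1, by rw [Commute.mul_pow (hAcomm a ha.1 b hb.1), ha.2, hb.2, one_mul]⟩
      · intro a _ ha
        exact ⟨A.inv_mem ha.1, by rw [inv_pow, ha.2, inv_one]⟩
    exact key.2
  have hBn : (B.subgroupOf (S : Subgroup G)).Normal := by
    refine ⟨fun b hb s => ?_⟩
    rw [Subgroup.mem_subgroupOf] at hb ⊢
    have hm : ∀ x ∈ A, (s : G) * x * (s : G)⁻¹ ∈ A := fun x hx => (Subgroup.mem_normalizer_iff.1 (hSA s.2) x).1 hx
    exact ⟨hm _ hb.1, Subgroup.subset_closure ⟨hm _ hb.1, by simp only [Subgroup.coe_mul, Subgroup.coe_inv]; rw [conj_pow, hsq _ hb, mul_one, mul_inv_cancel]⟩⟩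
  have hB8 : 2 ^ 2 ≤ Nat.card ↥(B.subgroupOf (S : Subgroup G)) := by
    rw [Nat.card_congr (Subgroup.subgroupOfEquivOfLe (hBA.trans hAS)).toEquiv]
    by_contra hlt
    apply hA3
    intro C hC hC2
    have hle : C.map A.subtype ≤ B := by
      rintro _ ⟨c, hc, rfl⟩
      exact ⟨c.2, Subgroup.subset_closure ⟨c.2, congrArg Subtype.val (hC2 c hc)⟩⟩
    have := Nat.card_le_card_of_injective _ (Subgroup.inclusion_injective hle)
    rw [Subgroup.card_map_of_injective A.subtype_injective] at this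
    omega
  obtain ⟨U₀, hU₀n, -, hU₀B, hU₀c⟩ := PGroup.exists_normal_card_between S.2 ⊥ (B.subgroupOf (S : Subgroup G)) bot_le 2
    (by simp) hB8
  set U : Subgroup G := U₀.map (S : Subgroup G).subtype with hU
  have hUB : U ≤ B := by
    rintro _ ⟨u, hu, rfl⟩
    exact Subgroup.mem_subgroupOf.1 (hU₀B hu)
  have hUc : Nat.card ↥U = 4 := by
    rw [hU, Subgroup.card_map_of_injective (S : Subgroup G).subtype_injective, hU₀c]; norm_num
  have hUS : U ≤ (S : Subgroup G) := Subgroup.map_subtype_le _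
  haveI : IsMulCommutative ↥U :=
    ⟨⟨fun a b => Subtype.ext (hAcomm a (hBA (hUB a.2)) b (hBA (hUB b.2)))⟩⟩
  have hUncyc : ¬ IsCyclic ↥U := by
    intro hc
    obtain ⟨g, hg⟩ := hc.exists_ofOrder_eq_natCard
    have : orderOf g ∣ 2 := orderOf_dvd_of_pow_eq_one (Subtype.ext (hsq g (hUB g.2)))
    rw [hg, hUc] at this
    norm_num at this
  have hcop : (Nat.card ↥U).Coprime (Nat.card ↥X) := by
    rw [hUc, show (4 : ℕ) = 2 ^ 2 by norm_num]
    exact Nat.Coprime.pow_left 2 (Nat.coprime_two_left.2 hX)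
  refine (Coprime.eq_of_forall_centralizer_le hUncyc (hUS.trans hXn) hcop bot_le ?_).symm
  intro u hu hu1
  have hu2 : orderOf u = 2 := orderOf_eq_prime (hsq u (hUB hu)) hu1
  set S₀ := (S : Subgroup G) ⊓ Subgroup.centralizer ({u} : Set G) with hS₀
  have hidx : Nat.card ↥(S : Subgroup G) ≤ 2 * Nat.card ↥S₀ := by
    have hne : U₀ ≠ ⊥ := by
      intro h0; rw [h0, Subgroup.card_bot] at hU₀c; norm_num at hU₀c
    obtain ⟨⟨z, hz0, hzc⟩, hz1⟩ := Subgroup.ne_bot_iff_exists_ne_one.1 (PGroup.inf_center_ne_bot S.2 U₀ hne)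
    have hzU : (z : G) ∈ U := ⟨z, hz0, rfl⟩
    have hz1' : (z : G) ≠ 1 := fun h0 => hz1 (Subtype.ext (Subtype.ext h0))
    have conjU : ∀ s ∈ (S : Subgroup G), s * u * s⁻¹ ∈ U := by
      intro s hs
      obtain ⟨v, hv, hvu⟩ := hu
      exact ⟨⟨s, hs⟩ * v * ⟨s, hs⟩⁻¹, hU₀n.conj_mem v hv _, by rw [← hvu]; rfl⟩
    by_cases hall : ∀ s ∈ (S : Subgroup G), s * u = u * s
    · have : S₀ = (S : Subgroup G) := inf_eq_left.2 (fun s hs => Subgroup.mem_centralizer_singleton_iff.2 (hall s hs))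
      rw [this]; omega
    push Not at hall
    obtain ⟨s₁, hs₁, hs₁u⟩ := hall
    have hzu : (z : G) ≠ u := fun h0 => hs₁u (h0 ▸ congrArg Subtype.val (Subgroup.mem_center_iff.1 hzc ⟨s₁, hs₁⟩))
    have hzfix : ∀ s ∈ (S : Subgroup G), s * z * s⁻¹ = z := fun s hs =>
      mul_inv_eq_iff_eq_mul.2 (congrArg Subtype.val (Subgroup.mem_center_iff.1 hzc ⟨s, hs⟩))
    have hother : ∀ s ∈ (S : Subgroup G), s * u ≠ u * s → s * u * s⁻¹ = z * u := by
      intro s hs hsu
      have h1 : s * u * s⁻¹ ≠ 1 := fun h0 => hu1 (conj_eq_one_iff.1 h0)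
      have h2 : s * u * s⁻¹ ≠ u := fun h0 => hsu (mul_inv_eq_iff_eq_mul.1 h0)
      have h3 : s * u * s⁻¹ ≠ z := fun h0 => hzu (by
        have := h0.trans (hzfix s hs).symm
        exact (mul_left_cancel (mul_right_cancel this)).symm)
      by_contra h4
      classical
      haveI : Fintype ↥U := Fintype.ofFinite _
      have hzu1 : (z : G) * u ≠ 1 := fun h0 => hzu (by
        have h5 : u * u = 1 := by rw [← pow_two]; exact hsq u (hUB hu)
        exact mul_right_cancel (h0.trans h5.symm))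
      have hsub : ({⟨1, U.one_mem⟩, ⟨z, hzU⟩, ⟨u, hu⟩, ⟨z * u, U.mul_mem hzU hu⟩, ⟨s * u * s⁻¹, conjU s hs⟩} : Finset ↥U).card = 5 := by
        have e1 : (z : G) * u ≠ z := fun h0 => hu1 (mul_eq_left.1 h0)
        have e2 : (z : G) * u ≠ u := fun h0 => hz1' (mul_eq_right.1 h0)
        rw [Finset.card_insert_of_notMem, Finset.card_insert_of_notMem, Finset.card_insert_of_notMem, Finset.card_pair]
        · exact fun h0 => h4 (congrArg Subtype.val h0).symm
        · simp only [Finset.mem_insert, Finset.mem_singleton, Subtype.mk.injEq, not_or]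
          exact ⟨Ne.symm e2, Ne.symm h2⟩
        · simp only [Finset.mem_insert, Finset.mem_singleton, Subtype.mk.injEq, not_or]
          exact ⟨hzu, Ne.symm e1, Ne.symm h3⟩
        · simp only [Finset.mem_insert, Finset.mem_singleton, Subtype.mk.injEq, not_or]
          exact ⟨Ne.symm hz1', Ne.symm hu1, Ne.symm hzu1, Ne.symm h1⟩
      have := hsub ▸ Finset.card_le_univ _
      rw [← Nat.card_eq_fintype_card, hUc] at this
      omega
    have hsub : ∀ s ∈ (S : Subgroup G), s ∈ S₀ ∨ s₁⁻¹ * s ∈ S₀ := by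
      intro s hs
      by_cases hsu : s * u = u * s
      · exact Or.inl ⟨hs, Subgroup.mem_centralizer_singleton_iff.2 hsu⟩
      · refine Or.inr ⟨(S : Subgroup G).mul_mem ((S : Subgroup G).inv_mem hs₁) hs, Subgroup.mem_centralizer_singleton_iff.2 ?_⟩
        have := (hother s hs hsu).trans (hother s₁ hs₁ hs₁u).symm
        calc s₁⁻¹ * s * u = s₁⁻¹ * (s * u * s⁻¹) * s := by group
          _ = u * (s₁⁻¹ * s) := by rw [this]; group
    classical
    let f : ↥(S : Subgroup G) → Bool × ↥S₀ := fun s =>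
      if hh : (s : G) ∈ S₀ then (true, ⟨s, hh⟩) else (false, ⟨s₁⁻¹ * s, (hsub s s.2).resolve_left hh⟩)
    have hf : Function.Injective f := by
      intro a b hab
      simp only [f] at hab
      split_ifs at hab
      · exact Subtype.ext (congrArg (fun q : Bool × ↥S₀ => (q.2 : G)) hab)
      · exact absurd (congrArg Prod.fst hab) (fun h0 => Bool.noConfusion h0)
      · exact absurd (congrArg Prod.fst hab) (fun h0 => Bool.noConfusion h0)
      · exact Subtype.ext (mul_left_cancel (congrArg (fun q : Bool × ↥S₀ => (q.2 : G)) hab))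
    have := Nat.card_le_card_of_injective f hf
    rwa [Nat.card_prod, Nat.card_eq_fintype_card (α := Bool), Fintype.card_bool] at this
  have hcpC : LocalChar.CP 2 ↥(Subgroup.centralizer ({u} : Set G)) := by
    have hp : IsPGroup 2 ↥(Subgroup.zpowers u) := IsPGroup.of_card (n := 1) (by rw [Nat.card_zpowers, hu2, pow_one])
    have h1 := hcp (Subgroup.zpowers u) hp (fun h0 => hu1 (Subgroup.zpowers_eq_bot.1 h0))
    have he : Subgroup.centralizer ({u} : Set G) = Subgroup.centralizer ((Subgroup.zpowers u : Subgroup G) : Set G) := by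
      rw [Subgroup.zpowers_eq_closure, Subgroup.centralizer_closure]
    rw [he]
    exact LocalChar.cp_of_normal_subgroupOf h1 (Subgroup.centralizer_le_normalizer _)
      ((Subgroup.normal_subgroupOf_iff_le_normalizer (Subgroup.centralizer_le_normalizer _)).2 (by
        intro g hg
        rw [Subgroup.mem_normalizer_iff]
        have step : ∀ g ∈ Subgroup.normalizer ((Subgroup.zpowers u : Subgroup G) : Set G), ∀ c ∈ Subgroup.centralizer ((Subgroup.zpowers u : Subgroup G) : Set G),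
            g * c * g⁻¹ ∈ Subgroup.centralizer ((Subgroup.zpowers u : Subgroup G) : Set G) := by
          intro g hg c hc y hy
          have hy' := (Subgroup.mem_normalizer_iff''.1 hg y).1 hy
          calc y * (g * c * g⁻¹) = g * ((g⁻¹ * y * g) * c) * g⁻¹ := by group
            _ = g * (c * (g⁻¹ * y * g)) * g⁻¹ := by rw [hc _ hy']
            _ = g * c * g⁻¹ * y := by group
        refine fun c => ⟨step g hg c, fun hc => ?_⟩
        simpa [mul_assoc] using step g⁻¹ (Subgroup.inv_mem _ hg) _ hc))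
  refine le_of_eq (eq_bot_of_invariant (S := S) hcpC inf_le_right inf_le_right (S.2.to_le inf_le_left)
    (hX.of_dvd_nat (Subgroup.card_dvd_of_le inf_le_left)) ?_ hidx)
  intro s hs
  exact Subgroup.inf_normalizer_le_normalizer_inf ⟨hXn hs.1, Subgroup.le_normalizer hs.2⟩

end Cfsg.Agent.S3246
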