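import Cfsg.Statements.S3247
import Mathlib
import Cfsg.Agent.Lib.LocalChar.Descent
-- import your own Cfsg.Agent.* helpers here

set_option autoImplicit false
set_option linter.unusedVariables false
open Cfsg

namespace Cfsg.Agent.S3247

/-- Let G be a finite group and p a prime; here a p-local subgroup means the normalizer of a nontrivial p-subgroup, other than G itself. If every p-local subgroup of G that is maximal among p-local subgroups is p-constrained, or if the centralizer of every element of order p of G is p-constrained, then every p-local subgroup of G is p-constrained. -/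
theorem result {G : Type*} [Group G] [Finite G] (p : ℕ) [hp : Fact p.Prime]
    (h : (∀ M : Subgroup G, (∃ T : Subgroup G, IsPGroup p ↥T ∧ T ≠ ⊥ ∧ M = Subgroup.normalizer (T : Set G)) → M ≠ ⊤ →
        (∀ M' : Subgroup G, (∃ T' : Subgroup G, IsPGroup p ↥T' ∧ T' ≠ ⊥ ∧ M' = Subgroup.normalizer (T' : Set G)) → M' ≠ ⊤ → M ≤ M' → M = M') →
        Cfsg.IsPConstrained p ↥M) ∨
      (∀ x : G, orderOf x = p → Cfsg.IsPConstrained p ↥(Subgroup.centralizer ({x} : Set G))))
    (T : Subgroup G) (hT : IsPGroup p ↥T) (hT1 : T ≠ ⊥) (hTG : Subgroup.normalizer (T : Set G) ≠ ⊤) :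
    Cfsg.IsPConstrained p ↥(Subgroup.normalizer (T : Set G)) := by
  rcases h with h | h
  · let P : Subgroup G → Prop := fun M => (∃ T' : Subgroup G, IsPGroup p ↥T' ∧ T' ≠ ⊥ ∧ M = Subgroup.normalizer (T' : Set G)) ∧ M ≠ ⊤
    obtain ⟨M, hle, hM⟩ := Finite.exists_le_maximal (p := P) (a := Subgroup.normalizer (T : Set G)) ⟨⟨T, hT, hT1, rfl⟩, hTG⟩
    exact LocalChar.isPConstrained_normalizer_of_le hT (Subgroup.le_normalizer.trans hle) hle
      (h M hM.1.1 hM.1.2 fun M' h1 h2 h3 => le_antisymm h3 (hM.2 ⟨h1, h2⟩ h3))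
  · have : Nontrivial T := (Subgroup.nontrivial_iff_ne_bot T).2 hT1
    have : Nontrivial (Subgroup.center T) := hT.center_nontrivial
    obtain ⟨k, hk⟩ := IsPGroup.iff_card.1 (hT.to_subgroup (Subgroup.center T))
    have hdvd : p ∣ Nat.card (Subgroup.center T) := by
      rcases Nat.eq_zero_or_pos k with h0 | h0
      · have := Finite.one_lt_card (α := Subgroup.center T)
        rw [hk, h0] at this
        simp at this
      · rw [hk]; exact dvd_pow_self p (by omega)
    obtain ⟨c, hc⟩ := exists_prime_orderOf_dvd_card' p hdvd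
    refine LocalChar.isPConstrained_normalizer_of_centralizer_elem hT (z := ((c : T) : G)) (c : T).2
      (fun x hx => congrArg Subtype.val (Subgroup.mem_center_iff.1 c.2 ⟨x, hx⟩)) (h _ ?_)
    rw [Subgroup.orderOf_coe, Subgroup.orderOf_coe, hc]

end Cfsg.Agent.S3247
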