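import Cfsg.Statements.S3250
import Cfsg.Agent.Lib.SylowMaxTwo.Cit
import Cfsg.Agent.Lib.CIT.Main
import Cfsg.Agent.Lib.PSL2.Sylow
import Cfsg.Agent.Lib.Mathieu.PlaneStab

set_option autoImplicit false
open Cfsg

namespace Cfsg.Agent.S3250


/-- The exponent of 2 is determined by the divisibilities. -/
theorem two_exp {N a b : ℕ} (hb : Odd b) (hN : N = 2 ^ a * b) (h7 : 2 ^ 7 ∣ N)
    (h8 : ¬ 2 ^ 8 ∣ N) : a = 7 := by
  subst hN
  have hco : ∀ k, (2 ^ k).Coprime b := fun k =>
    Nat.Coprime.pow_left k (Nat.coprime_two_left.2 hb)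
  have h1 : 2 ^ 7 ∣ 2 ^ a := (hco 7).dvd_of_dvd_mul_right h7
  have h2 : 7 ≤ a := (Nat.pow_dvd_pow_iff_le_right one_lt_two).1 h1
  by_contra hne
  exact h8 (dvd_mul_of_dvd_left (pow_dvd_pow 2 (by omega)) b)

/-- The Sylow 2-subgroups of `PSL(2, F)`, `F` of characteristic 2, are abelian. -/
theorem comm_of_char_two {G : Type*} [Group G] [Finite G] {F : Type} [Field F] [Fintype F]
    (h2 : (2 : F) = 0) (e : G ≃* Matrix.ProjectiveSpecialLinearGroup (Fin 2) F) (S : Sylow 2 G)
    {a b : G} (ha : a ∈ (S : Subgroup G)) (hb : b ∈ (S : Subgroup G)) : a * b = b * a := by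
  have : Fact (Nat.Prime 2) := ⟨Nat.prime_two⟩
  have : CharP F 2 := CharTwo.of_one_ne_zero_of_two_eq_zero one_ne_zero h2
  obtain ⟨g, hg⟩ := MulAction.exists_smul_eq
    (Matrix.ProjectiveSpecialLinearGroup (Fin 2) F) (S.mapSurjective (f := e.toMonoidHom) e.surjective)
    (PSL2.unipSylowPSL F 2)
  have key : ∀ c ∈ (S : Subgroup G), ∃ t : F, g * e c * g⁻¹ = PSL2.mk (PSL2.uu t) := by
    intro c hc
    have h0 : g * e c * g⁻¹ ∈ ((g • S.mapSurjective (f := e.toMonoidHom) e.surjective :
        Sylow 2 _) : Subgroup _) := ⟨e c, ⟨c, hc, rfl⟩, rfl⟩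
    rw [hg, PSL2.coe_unipSylowPSL] at h0
    obtain ⟨u, hu, hue⟩ := h0
    obtain ⟨t, rfl⟩ := PSL2.mem_unip.1 hu
    exact ⟨t, hue.symm⟩
  obtain ⟨s, hs⟩ := key a ha
  obtain ⟨t, ht⟩ := key b hb
  apply e.injective
  apply (MulAut.conj g).injective
  rw [map_mul, map_mul, map_mul, map_mul, MulAut.conj_apply, MulAut.conj_apply, hs, ht, ← map_mul,
    ← map_mul, PSL2.uu_mul_uu, PSL2.uu_mul_uu, add_comm]

/-- With the length of a finite group defined as the maximum n for which there is a chain G = G₀ > G₁ > ⋯ > G_n = 1 of subgroups: a finite non-abelian simple group of length exactly 8 whose Sylow 2-subgroups have order 2⁷ is isomorphic to PSL₂(127). -/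
theorem result {G : Type*} [Group G] [Finite G] [IsSimpleGroup G]
    (hG : ¬ IsMulCommutative G) (h8 : ∃ c : Fin 9 → Subgroup G, StrictAnti c) (h9 : ∀ c : Fin 10 → Subgroup G, ¬ StrictAnti c)
    (S : Sylow 2 G) (hS : Nat.card ↥(S : Subgroup G) = 2 ^ 7) :
    ∃ (F : Type) (_ : Field F) (_ : Fintype F), Fintype.card F = 127 ∧ Nonempty (G ≃* Matrix.ProjectiveSpecialLinearGroup (Fin 2) F) := by
  have : Fact (Nat.Prime 2) := ⟨Nat.prime_two⟩
  have hne : ∃ a b : G, a * b ≠ b * a := by
    by_contra hh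
    push Not at hh
    exact hG ⟨⟨hh⟩⟩
  have hs : Agent.SylowMaxTwo.Setup S := ⟨hne, hS, h9⟩
  have h7 : 2 ^ 7 ∣ Nat.card G := hS ▸ Subgroup.card_subgroup_dvd_card _
  have h8' : ¬ 2 ^ 8 ∣ Nat.card G := fun h => by
    rw [← (S : Subgroup G).card_mul_index, hS, pow_succ] at h
    exact S.not_dvd_index (Nat.dvd_of_mul_dvd_mul_left (Nat.two_pow_pos 7) h)
  rcases Agent.CIT.classification hne hs.isCIT with
    ⟨F, iF, iFF, hq, ⟨e⟩⟩ | ⟨F, iF, iFF, hq, ⟨e⟩⟩ | ⟨-, m, hm, hcard⟩
  · refine ⟨F, iF, iFF, ?_, ⟨e⟩⟩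
    have hc : Nat.card G = Nat.card (Matrix.ProjectiveSpecialLinearGroup (Fin 2) F) :=
      Nat.card_congr e.toEquiv
    set q := Fintype.card F with hqdef
    have hq1 : 1 < q := PSL2.one_lt_q
    rcases hq with hq | ⟨n, hq⟩ | ⟨hpr, k, hk⟩
    · exfalso
      have h2 := PSL2.two_mul_card_PSL (F := F) (fun h2 => by
        have := PSL2.even_card_iff.2 h2
        rw [← hqdef, hq] at this
        exact absurd this (by decide))
      rw [← hc, ← hqdef, hq] at h2
      norm_num at h2
      omega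
    · exfalso
      have hn : n ≠ 0 := by
        rintro rfl
        rw [hq] at hq1
        omega
      have heven : Even q := hq ▸ Nat.even_pow.2 ⟨even_two, hn⟩
      have h2 := PSL2.even_card_iff.1 heven
      obtain ⟨a, ha, b, hb, hab⟩ := hs.exists_noncomm
      exact hab (comm_of_char_two h2 e S ha hb)
    · have hq2 : q ≠ 2 := by
        intro hq2
        have h2 := PSL2.even_card_iff.1 (show Even q by rw [hq2]; decide)
        obtain ⟨a, ha, b, hb, hab⟩ := hs.exists_noncomm
        exact hab (comm_of_char_two h2 e S ha hb)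
      have hodd : Odd q := hpr.odd_of_ne_two hq2
      have h2 := PSL2.two_mul_card_PSL (F := F) (PSL2.odd_card_iff.1 hodd)
      rw [← hc, ← hqdef] at h2
      rcases hk with hk | hk
      · exfalso
        have hk2 : 2 ≤ k := by
          by_contra hh
          interval_cases k
          · omega
          · norm_num at hk
            rw [hk] at h2
            norm_num at h2
            omega
        obtain ⟨j, rfl⟩ : ∃ j, k = j + 2 := ⟨k - 2, by omega⟩
        have e1 : Nat.card G = 2 ^ (j + 2) * (q * (2 ^ (j + 1) + 1)) := by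
          have : q ^ 2 - 1 = 2 * (2 ^ (j + 2) * (2 ^ (j + 1) + 1)) := by
            rw [hk]
            have : (2 ^ (j + 2) + 1) ^ 2 = 2 * (2 ^ (j + 2) * (2 ^ (j + 1) + 1)) + 1 := by ring
            omega
          rw [this] at h2
          nlinarith
        have h := two_exp (hodd.mul ⟨2 ^ j, by ring⟩) e1 h7 h8'
        rw [hk, h] at hpr
        norm_num at hpr
      · have hk2 : 2 ≤ k := by
          by_contra hh
          interval_cases k <;> omega
        obtain ⟨j, rfl⟩ : ∃ j, k = j + 2 := ⟨k - 2, by omega⟩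
        obtain ⟨r, hr⟩ : ∃ r, 2 ^ (j + 1) = r + 1 :=
          ⟨2 ^ (j + 1) - 1, by have := Nat.two_pow_pos (j + 1); omega⟩
        have hro : Odd r := by
          rcases Nat.even_or_odd r with ⟨i, hi⟩ | ho
          · exfalso
            rw [pow_succ] at hr
            omega
          · exact ho
        have hq' : q = 2 * r + 1 := by
          rw [show j + 2 = (j + 1) + 1 from rfl, pow_succ, hr] at hk
          omega
        have e1 : Nat.card G = 2 ^ (j + 2) * (q * r) := by
          have : q ^ 2 - 1 = 2 * (2 ^ (j + 2) * r) := by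
            have h3 : q ^ 2 = 2 * (2 ^ (j + 2) * r) + 1 := by
              rw [show 2 ^ (j + 2) = 2 * 2 ^ (j + 1) by ring, hr, hq']
              ring
            omega
          rw [this] at h2
          nlinarith
        have h := two_exp (hodd.mul hro) e1 h7 h8'
        rw [h] at hk
        omega
  · exfalso
    rw [Nat.card_congr e.toEquiv, Mathieu.PlaneStab.card_PSL34 hq] at h7
    norm_num at h7
  · exfalso
    set Q := 2 ^ (2 * m + 1) with hQ
    have hQe : Even Q := Nat.even_pow.2 ⟨even_two, by omega⟩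
    have hQ1 : 1 ≤ Q := Nat.one_le_two_pow
    have hodd : Odd ((Q ^ 2 + 1) * (Q - 1)) :=
      ((Even.pow_of_ne_zero hQe two_ne_zero).add_one).mul (Nat.Even.sub_odd hQ1 hQe odd_one)
    have h := two_exp (a := (2 * m + 1) * 2) hodd
      (by rw [hcard, pow_mul, ← hQ, mul_assoc]) h7 h8'
    omega

end Cfsg.Agent.S3250
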