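import Cfsg.Statements.S3252
import Cfsg.Agent.Lib.CyclicTimesZ.Main
-- import your own Cfsg.Agent.* helpers here

set_option autoImplicit false
open Cfsg

namespace Cfsg.Agent.S3252

/-- Let G be a finite non-solvable group that is the product G = AB of a cyclic subgroup A and a subgroup B all of whose Sylow subgroups are cyclic. Then the quotient of G by its largest solvable normal subgroup is isomorphic to PGL₂(p) for some prime p > 3. -/
theorem result {G : Type*} [Group G] [Finite G] (hG : ¬ Group.IsSolvable G)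
    (A B : Subgroup G) (hA : IsCyclic ↥A) (hB : ∀ (q : ℕ) [Fact q.Prime] (Q : Sylow q ↥B), IsCyclic ↥(Q : Subgroup ↥B))
    (hAB : ∀ g : G, ∃ a ∈ A, ∃ b ∈ B, g = a * b)
    (R : Subgroup G) [hR : R.Normal] (hRs : Group.IsSolvable ↥R) (hRmax : ∀ N : Subgroup G, N.Normal → Group.IsSolvable ↥N → N ≤ R) :
    ∃ (F : Type) (_ : Field F) (_ : Fintype F) (p : ℕ), p.Prime ∧ 3 < p ∧ Fintype.card F = p ∧
      Nonempty ((G ⧸ R) ≃* (GL (Fin 2) F ⧸ Subgroup.center (GL (Fin 2) F))) := by
  
  haveI := hA
  haveI : IsZGroup B := ⟨fun q hq Q => @hB q ⟨hq⟩ Q⟩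
  set π := QuotientGroup.mk' R with hπ
  have hπs : Function.Surjective π := QuotientGroup.mk'_surjective R
  have F : CyclicTimesZ.Fac (G ⧸ R) (A.map π) (B.map π) := by
    refine ⟨isCyclic_of_surjective (π.subgroupMap A) (MonoidHom.subgroupMap_surjective π A),
      IsZGroup.of_surjective (f := π.subgroupMap B) (MonoidHom.subgroupMap_surjective π B), fun q => ?_,
      fun N hN hNs => ?_, fun h => ?_⟩
    · obtain ⟨g, rfl⟩ := hπs q
      obtain ⟨a, ha, b, hb, rfl⟩ := hAB g
      exact ⟨π a, Subgroup.mem_map_of_mem π ha, π b, Subgroup.mem_map_of_mem π hb, map_mul π a b⟩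
    · haveI := hN
      haveI := hNs
      haveI : Group.IsSolvable R := hRs
      have hsol : Group.IsSolvable (N.comap π) :=
        Group.isSolvable_of_ker_le_range (Subgroup.inclusion (H := R) (K := N.comap π) fun r hr => by
            rw [Subgroup.mem_comap, show π r = 1 from (QuotientGroup.eq_one_iff r).2 hr]
            exact one_mem N)
          ((π.comp (N.comap π).subtype).codRestrict N fun x => x.2) fun x hx =>
          ⟨⟨x.1, (QuotientGroup.eq_one_iff _).1 (congrArg Subtype.val hx :)⟩, rfl⟩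
      rw [eq_bot_iff, ← Subgroup.map_comap_eq_self_of_surjective hπs N]
      refine (Subgroup.map_mono (hRmax _ inferInstance hsol)).trans (le_of_eq ?_)
      rw [Subgroup.map_eq_bot_iff, QuotientGroup.ker_mk']
    · haveI := h
      haveI : Group.IsSolvable R := hRs
      exact hG (Group.isSolvable_of_ker_le_range R.subtype π
        fun x hx => ⟨⟨x, (QuotientGroup.eq_one_iff x).1 hx⟩, rfl⟩)
  obtain ⟨p, hp, h3, ⟨e⟩⟩ := F.exists_pgl
  haveI : Fact p.Prime := hp
  exact ⟨ZMod p, inferInstance, inferInstance, p, hp.out, h3, ZMod.card p, ⟨e⟩⟩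

end Cfsg.Agent.S3252
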