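import Cfsg.Statements.S3258
import Cfsg.Agent.Lib.PiHom.Sylow64
import Cfsg.Agent.Lib.PiHom.FourGroup
import Cfsg.Agent.Lib.GW.PartII.PartTwoFinal
-- import your own Cfsg.Agent.* helpers here

set_option autoImplicit false
set_option linter.style.haveILetI false
open Cfsg

namespace Cfsg.Agent.S3258

open PiHom

universe v

theorem min_false {π : Set ℕ} (G : Type v) [Group G] [Finite G] (hM : Min π G) : False := by
  obtain ⟨S⟩ : Nonempty (Sylow 2 G) := inferInstance
  rcases hM.sylow_cases S with h | ⟨r, hr, hF⟩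
  · exact hM.four_false S GW.partTwo h
  · exact hM.false_of_fpf S hr hF

/-- Let π be a set of primes containing 2 and G a finite group all of whose π-subgroups (subgroups whose order is divisible only by primes in π) have a normal Sylow 2-subgroup. Then the π'-elements of G (elements whose order is divisible by no prime in π) form a subgroup if and only if N_G(H)/C_G(H) is a π-group for every nontrivial π-subgroup H of G. -/
theorem result {G : Type*} [Group G] [Finite G] (π : Set ℕ) (h2 : 2 ∈ π)
    (hcl : ∀ H : Subgroup G, (∀ p : ℕ, p.Prime → p ∣ Nat.card ↥H → p ∈ π) → ∀ P : Sylow 2 ↥H, (P : Subgroup ↥H).Normal) :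
    (∃ K : Subgroup G, ∀ x : G, x ∈ K ↔ ∀ p : ℕ, p.Prime → p ∣ orderOf x → p ∉ π) ↔
      (∀ H : Subgroup G, H ≠ ⊥ → (∀ p : ℕ, p.Prime → p ∣ Nat.card ↥H → p ∈ π) →
        ∀ p : ℕ, p.Prime → p ∣ (Subgroup.centralizer (H : Set G)).relIndex (Subgroup.normalizer (H : Set G)) → p ∈ π) := by
  haveI : Fact (Nat.Prime 2) := ⟨Nat.prime_two⟩
  constructor
  · rintro ⟨K, hK⟩ H - hH p hp hd
    by_contra hpπ
    obtain ⟨hKn, -, -⟩ := exists_complement (π := π) hK
    refine not_dvd_index (π := π) (K := (Subgroup.centralizer (H : Set G)).subgroupOf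
      (Subgroup.normalizer (H : Set G))) (fun x hx => ?_) hp hpπ hd
    rw [Subgroup.mem_subgroupOf, Subgroup.mem_centralizer_iff]
    intro h hh
    have h1 : h * (x : G) * h⁻¹ * (x : G)⁻¹ = 1 := by
      refine eq_one_of_isPiSub_of_isPi' (π := π) hH ?_ ((hK _).1 ?_)
      · rw [show h * (x : G) * h⁻¹ * (x : G)⁻¹ = h * ((x : G) * h⁻¹ * (x : G)⁻¹) by group]
        exact mul_mem hh ((Subgroup.mem_normalizer_iff.1 x.2 _).1 (inv_mem hh))
      · have hxK : (x : G) ∈ K := (hK _).2 (isPi'_coe.2 hx)
        exact mul_mem (hKn.conj_mem _ hxK h) (inv_mem hxK)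
    exact mul_inv_eq_iff_eq_mul.1 (mul_inv_eq_one.1 h1)
  · intro hom
    refine closed_of_min_false (fun G _ _ hM => min_false G hM) h2 G hcl ?_
    intro H hH g hg hgN
    by_cases hH1 : H = ⊥
    · rw [Subgroup.mem_centralizer_iff]
      intro h hh
      rw [hH1, SetLike.mem_coe, Subgroup.mem_bot] at hh
      rw [hh, one_mul, mul_one]
    set N := Subgroup.normalizer (H : Set G) with hN
    set C := (Subgroup.centralizer (H : Set G)).subgroupOf N with hC
    haveI : C.Normal := by
      rw [hC, hN, ← Subgroup.normalizerMonoidHom_ker]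
      exact MonoidHom.normal_ker _
    have h1 : orderOf (QuotientGroup.mk' C ⟨g, hgN⟩) = 1 := by
      by_contra hne
      obtain ⟨p, hp, hpd⟩ := Nat.exists_prime_and_dvd hne
      refine hg p hp ?_ (hom H hH1 hH p hp ?_)
      · rw [← Subgroup.orderOf_mk g hgN]
        exact hpd.trans (orderOf_map_dvd _ _)
      · show p ∣ C.index
        rw [Subgroup.index_eq_card]
        exact hpd.trans (orderOf_dvd_natCard _)
    exact (QuotientGroup.eq_one_iff (N := C) ⟨g, hgN⟩).1 (orderOf_eq_one_iff.1 h1)

end Cfsg.Agent.S3258
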