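import Cfsg.Statements.S3265
import Cfsg.Agent.Lib.OddProductGraph.Solve

set_option autoImplicit false
open Cfsg

namespace Cfsg.Agent.S3265

open Equiv Cfsg.Agent.OddProductGraph

variable {α : Type*} [Fintype α] [DecidableEq α]

theorem isConj_of_card {x y : Perm α} (hx : x * x = 1) (hy : y * y = 1)
    (h : x.support.card = y.support.card) : IsConj x y := by
  have rep : ∀ w : Perm α, w * w = 1 → w.cycleType = Multiset.replicate (w.support.card / 2) 2 := by
    intro w hw
    have hd : orderOf w ∣ 2 := orderOf_dvd_of_pow_eq_one (by rw [sq]; exact hw)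
    have hrep : w.cycleType = Multiset.replicate w.cycleType.card 2 :=
      Multiset.eq_replicate.mpr ⟨rfl, fun n hn => le_antisymm
        (Nat.le_of_dvd two_pos ((Perm.dvd_of_mem_cycleType hn).trans hd))
        (Perm.two_le_of_mem_cycleType hn)⟩
    have hsum := w.sum_cycleType
    rw [hrep, Multiset.sum_replicate, smul_eq_mul] at hsum
    rw [hrep, ← hsum, Nat.mul_div_cancel _ two_pos]
  rw [Perm.isConj_iff_cycleType_eq, rep x hx, rep y hy, h]

/-- A different conjugate of an involution commuting with it. -/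
theorem exists_commuting {t : Perm α} (ht : t * t = 1) (f : Fin 4 ↪ α) (x0 s0 : Perm (Fin 4))
    (hx0 : x0 * x0 = 1) (htf : ∀ i, t (f i) = f (x0 i))
    (h1 : (x0 * (s0 * x0 * s0⁻¹)) * (x0 * (s0 * x0 * s0⁻¹)) = 1) (h2 : x0 ≠ s0 * x0 * s0⁻¹) :
    ∃ y, IsConj t y ∧ y ≠ t ∧ (t * y) * (t * y) = 1 := by
  obtain ⟨r, et, ir, fr, -, -⟩ := split (S := Finset.univ) ⟨ht, fun a h => absurd (Finset.mem_univ a) h⟩
    f x0 hx0 htf
  have hc := fun g => commute_via f g fr
  have ey : via f s0 * t * (via f s0)⁻¹ = r * via f (s0 * x0 * s0⁻¹) := by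
    rw [et, map_mul, map_mul, map_inv, ← mul_assoc (via f s0) r, ← (hc s0).eq]
    simp only [mul_assoc]
  refine ⟨_, isConj_iff.mpr ⟨via f s0, rfl⟩, ?_, ?_⟩
  · rw [ey, et]
    intro h
    refine h2 (Equiv.ext fun i => f.injective ?_).symm
    rw [← via_apply f, ← via_apply f, mul_left_cancel h]
  · rw [ey, et]
    have : r * via f x0 * (r * via f (s0 * x0 * s0⁻¹)) = via f (x0 * (s0 * x0 * s0⁻¹)) := by
      rw [mul_assoc r, ← mul_assoc (via f x0), ← (hc x0).eq, mul_assoc r (via f x0),
        ← mul_assoc r r, ir.1, one_mul, ← map_mul]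
    rw [this, ← map_mul, h1, map_one]

theorem exists_commuting' {t : Perm α} (hα : 5 ≤ Fintype.card α) (ht : t * t = 1) (ht1 : t ≠ 1) :
    ∃ y, IsConj t y ∧ y ≠ t ∧ (t * y) * (t * y) = 1 := by
  have inv : ∀ w, t (t w) = w := fun w => by rw [← Perm.mul_apply, ht]; rfl
  obtain ⟨a, ha⟩ : ∃ a, t a ≠ a := by
    by_contra h; push Not at h; exact ht1 (Equiv.ext h)
  have hab : a ≠ t a := ha.symm
  by_cases hc : ∃ c, c ≠ a ∧ c ≠ t a ∧ t c ≠ c
  · obtain ⟨c, h1, h2, h3⟩ := hc
    refine exists_commuting ht (e4 a (t a) c (t c) hab h1.symm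
      (fun e => h2 ((inv c).symm.trans (congrArg t e.symm)))
      h2.symm (fun e => h1 (t.injective e).symm) h3.symm) qx (swap 1 2) (tab_mul_self _ _) ?_
      (by decide) (by decide)
    intro i; fin_cases i
    exacts [rfl, inv a, rfl, inv c]
  · push Not at hc
    obtain ⟨c, hc1, hc2⟩ : ∃ c, c ≠ a ∧ c ≠ t a := by
      by_contra h
      push Not at h
      have : (Finset.univ : Finset α) ⊆ {a, t a} := fun w _ => by
        by_cases hw : w = a
        · simp [hw]
        · simp [h w hw]
      have := (Finset.card_le_card this).trans Finset.card_le_two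
      rw [Finset.card_univ] at this
      omega
    obtain ⟨d, hd1, hd2, hd3⟩ : ∃ d, d ≠ a ∧ d ≠ t a ∧ d ≠ c := by
      by_contra h
      push Not at h
      have : (Finset.univ : Finset α) ⊆ {a, t a, c} := fun w _ => by
        by_cases hw : w = a
        · simp [hw]
        by_cases hw' : w = t a
        · simp [hw']
        simp [h w hw hw']
      have := (Finset.card_le_card this).trans Finset.card_le_three
      rw [Finset.card_univ] at this
      omega
    refine exists_commuting ht (e4 a (t a) c d hab hc1.symm hd1.symm hc2.symm hd2.symm hd3.symm)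
      (swap 0 1) (swap 0 2 * swap 1 3) (swap_mul_self _ _) ?_ (by decide) (by decide)
    intro i; fin_cases i
    exacts [rfl, inv a, hc c hc1 hc2, hc d hd1 hd2]

/-- Let n ≥ 5 and let X be a conjugacy class of involutions of the symmetric group of degree n. The graph on X joining two distinct involutions whose product has odd order is connected and has diameter exactly 2. -/
theorem result (n : ℕ) (hn : 5 ≤ n) (t : Equiv.Perm (Fin n)) (ht : orderOf t = 2) :
    (SimpleGraph.fromRel fun x y : {x : Equiv.Perm (Fin n) // IsConj t x} =>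
        Odd (orderOf (x.1 * y.1))).Connected ∧
      (SimpleGraph.fromRel fun x y : {x : Equiv.Perm (Fin n) // IsConj t x} =>
        Odd (orderOf (x.1 * y.1))).diam = 2 := by
  set G := SimpleGraph.fromRel fun x y : {x : Equiv.Perm (Fin n) // IsConj t x} =>
    Odd (orderOf (x.1 * y.1)) with hG
  have hinv : ∀ x : {x : Equiv.Perm (Fin n) // IsConj t x}, x.1 * x.1 = 1 := by
    rintro ⟨x, hx⟩
    obtain ⟨c, rfl⟩ := isConj_iff.mp hx
    rw [conj_mul, ← sq, ← ht, pow_orderOf_eq_one, mul_one, mul_inv_cancel]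
  have hcard : ∀ x : {x : Equiv.Perm (Fin n) // IsConj t x}, x.1.support.card = t.support.card := by
    rintro ⟨x, hx⟩
    obtain ⟨c, rfl⟩ := isConj_iff.mp hx
    exact Perm.card_support_conj
  have flip : ∀ x y : {x : Equiv.Perm (Fin n) // IsConj t x},
      orderOf (x.1 * y.1) = orderOf (y.1 * x.1) := by
    intro x y
    rw [← orderOf_inv, mul_inv_rev, inv_eq_of_mul_eq_one_right (hinv x),
      inv_eq_of_mul_eq_one_right (hinv y)]
  have hle : ∀ x y, G.edist x y ≤ 2 := by
    intro x y
    by_cases hxy : x = y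
    · rw [hxy, SimpleGraph.edist_self]; exact zero_le
    by_cases hodd : Odd (orderOf (x.1 * y.1))
    · have hadj : G.Adj x y := ⟨hxy, Or.inl hodd⟩
      rw [SimpleGraph.edist_eq_one_iff_adj.mpr hadj]; exact one_le_two
    obtain ⟨z, ⟨hzz, -⟩, hzc, hzx, hzy⟩ := solve _ Finset.univ x.1 y.1 rfl
      ⟨hinv x, fun a h => absurd (Finset.mem_univ a) h⟩ ⟨hinv y, fun a h => absurd (Finset.mem_univ a) h⟩
      ((hcard x).trans (hcard y).symm) (fun h => by
        have h4 := h.1
        rw [Finset.card_univ, Fintype.card_fin] at h4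
        omega)
    set w : {x : Equiv.Perm (Fin n) // IsConj t x} :=
      ⟨z, x.2.trans (isConj_of_card (hinv x) hzz hzc.symm)⟩ with hw
    have hwy : Odd (orderOf (w.1 * y.1)) := by rw [flip]; exact odd_orderOf hzy
    have hxw : x ≠ w := fun e => hodd (by rw [e]; exact hwy)
    have hwy' : w ≠ y := fun e => hodd (by rw [← e]; exact odd_orderOf hzx)
    have a1 : G.Adj x w := ⟨hxw, Or.inl (odd_orderOf hzx)⟩
    have a2 : G.Adj w y := ⟨hwy', Or.inl hwy⟩
    exact SimpleGraph.edist_le (.cons a1 (.cons a2 .nil))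
  have ht2 : t * t = 1 := by rw [← sq, ← ht, pow_orderOf_eq_one]
  have ht1 : t ≠ 1 := fun e => by rw [e, orderOf_one] at ht; omega
  obtain ⟨y, hy, hne, hsq⟩ := exists_commuting' (by simpa using hn) ht2 ht1
  set T : {x : Equiv.Perm (Fin n) // IsConj t x} := ⟨t, IsConj.refl t⟩ with hT
  set Y : {x : Equiv.Perm (Fin n) // IsConj t x} := ⟨y, hy⟩ with hY
  have heven : ¬ Odd (orderOf (t * y)) := by
    intro ho
    have h1 : orderOf (t * y) = 1 := by
      rcases (Nat.dvd_prime Nat.prime_two).mp (orderOf_dvd_of_pow_eq_one (x := t * y) (n := 2) (by rw [sq]; exact hsq))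
        with h | h
      · exact h
      · rw [h] at ho; exact absurd ho (by decide)
    have h2 := orderOf_eq_one_iff.mp h1
    exact hne (mul_left_cancel (h2.trans ht2.symm))
  have hnadj : ¬ G.Adj T Y := by
    rintro ⟨-, h | h⟩
    · exact heven h
    · exact heven ((flip T Y).symm ▸ h)
  have hTY : T ≠ Y := fun e => hne (congrArg Subtype.val e).symm
  have h2 : G.ediam = 2 := by
    refine le_antisymm (SimpleGraph.ediam_le_of_edist_le hle) (le_trans ?_ (SimpleGraph.edist_le_ediam
      (u := T) (v := Y)))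
    by_contra h
    rcases SimpleGraph.edist_le_one_iff_adj_or_eq.mp (Order.le_of_lt_add_one (by
      rw [one_add_one_eq_two]; exact not_le.mp h)) with h' | h'
    · exact hnadj h'
    · exact hTY h'
  have : Nonempty {x : Equiv.Perm (Fin n) // IsConj t x} := ⟨T⟩
  exact ⟨SimpleGraph.connected_of_ediam_ne_top (by rw [h2]; simp),
    by rw [SimpleGraph.diam, h2]; rfl⟩

end Cfsg.Agent.S3265
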