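import Cfsg.Statements.S3266
import Cfsg.Agent.Lib.PSL2.InvolutionGraph

set_option autoImplicit false
open Cfsg Matrix
open scoped MatrixGroups

namespace Cfsg.Agent.S3266

/-- Let F be a finite field with at least 4 elements and let X be a conjugacy class of involutions of PSL(2, F). The graph on X joining two distinct involutions whose product has odd order is connected and has diameter exactly 2. -/
theorem result {F : Type*} [Field F] [Fintype F] (hF : 4 ≤ Fintype.card F)
    (t : Matrix.ProjectiveSpecialLinearGroup (Fin 2) F) (ht : orderOf t = 2) :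
    (SimpleGraph.fromRel fun x y : {x : Matrix.ProjectiveSpecialLinearGroup (Fin 2) F // IsConj t x} =>
        Odd (orderOf (x.1 * y.1))).Connected ∧
      (SimpleGraph.fromRel fun x y : {x : Matrix.ProjectiveSpecialLinearGroup (Fin 2) F // IsConj t x} =>
        Odd (orderOf (x.1 * y.1))).diam = 2 := by
  set Γ := SimpleGraph.fromRel fun x y : {x : Matrix.ProjectiveSpecialLinearGroup (Fin 2) F // IsConj t x} =>
    Odd (orderOf (x.1 * y.1)) with hΓ
  have hord : ∀ x : {x : PSL(2, F) // IsConj t x}, orderOf x.1 = 2 := by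
    rintro ⟨x, hx⟩
    obtain ⟨c, rfl⟩ := isConj_iff.1 hx
    exact (orderOf_injective (MulAut.conj c).toMonoidHom (MulEquiv.injective _) t).trans ht
  have hdist : ∀ a b, ∃ p : Γ.Walk a b, p.length ≤ 2 := by
    intro a b
    by_cases hab : a = b
    · subst hab; exact ⟨.nil, by simp⟩
    rcases Cfsg.Agent.PSL2.InvGraph.exists_odd_common hF (hord a) (hord b)
      (fun e => hab (Subtype.ext e)) with h | ⟨z, hz, hza, hzb, h1, h2⟩
    · exact ⟨.cons ((SimpleGraph.fromRel_adj _ _ _).2 ⟨hab, Or.inl h⟩) .nil, by simp⟩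
    · let c : {x : PSL(2, F) // IsConj t x} := ⟨z, Cfsg.Agent.PSL2.psl_involutions_isConj ht hz⟩
      have hac : Γ.Adj a c := (SimpleGraph.fromRel_adj _ _ _).2
        ⟨fun e => hza (congrArg Subtype.val e).symm, Or.inl h1⟩
      have hcb : Γ.Adj c b := (SimpleGraph.fromRel_adj _ _ _).2
        ⟨fun e => hzb (congrArg Subtype.val e), Or.inl h2⟩
      exact ⟨.cons hac (.cons hcb .nil), by simp⟩
  obtain ⟨x, y, hx, hy, hxy, hord2⟩ := Cfsg.Agent.PSL2.InvGraph.exists_commuting_pair hF
  let a : {x : PSL(2, F) // IsConj t x} := ⟨x, Cfsg.Agent.PSL2.psl_involutions_isConj ht hx⟩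
  let b : {x : PSL(2, F) // IsConj t x} := ⟨y, Cfsg.Agent.PSL2.psl_involutions_isConj ht hy⟩
  have hab : a ≠ b := fun e => hxy (congrArg Subtype.val e)
  have hnadj : ¬ Γ.Adj a b := by
    intro h
    rcases ((SimpleGraph.fromRel_adj _ _ _).1 h).2 with h | h
    · rw [show orderOf (a.1 * b.1) = 2 from hord2] at h; exact absurd h (by decide)
    · have e : orderOf (b.1 * a.1) = orderOf (a.1 * b.1) := by
        rw [← orderOf_injective (MulAut.conj a.1).toMonoidHom (MulEquiv.injective _) (b.1 * a.1)]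
        congr 1
        simp [mul_assoc]
      rw [e, show orderOf (a.1 * b.1) = 2 from hord2] at h
      exact absurd h (by decide)
  have : Nonempty {x : PSL(2, F) // IsConj t x} := ⟨a⟩
  have hconn : Γ.Connected := ⟨fun u v => ⟨(hdist u v).choose⟩⟩
  refine ⟨hconn, ?_⟩
  have hne : Γ.ediam ≠ ⊤ := SimpleGraph.connected_iff_ediam_ne_top.1 hconn
  refine le_antisymm ?_ ?_
  · obtain ⟨u, v, huv⟩ := Γ.exists_dist_eq_diam
    obtain ⟨p, hp⟩ := hdist u v
    rw [← huv]
    exact (SimpleGraph.dist_le p).trans hp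
  · refine le_trans ?_ (SimpleGraph.dist_le_diam hne (u := a) (v := b))
    have h0 : 0 < Γ.dist a b := hconn.pos_dist_of_ne hab
    have h1 : Γ.dist a b ≠ 1 := fun h => hnadj (SimpleGraph.dist_eq_one_iff_adj.1 h)
    omega

end Cfsg.Agent.S3266
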