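import Mathlib.GroupTheory.Sylow
import Mathlib.GroupTheory.PGroup
import Mathlib.Tactic.Group
import Cfsg.Prelude.Def_Transfer

set_option autoImplicit false

namespace Cfsg.Agent.S3276

open Subgroup

theorem dihedral_common {G : Type*} [Group G] [Finite G] {x z : G} (hx : orderOf x = 2) (hz : orderOf z = 2)
    (h : ¬ IsConj x z) : ∃ u : G, orderOf u = 2 ∧ Commute u x ∧ Commute u z := by
  have hx2 : x * x = 1 := by rw [← sq, ← hx]; exact pow_orderOf_eq_one x
  have hz2 : z * z = 1 := by rw [← sq, ← hz]; exact pow_orderOf_eq_one z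
  have hxi : x⁻¹ = x := inv_eq_of_mul_eq_one_right hx2
  have hzi : z⁻¹ = z := inv_eq_of_mul_eq_one_right hz2
  set d := x * z with hd
  have hxd : x * d * x⁻¹ = d⁻¹ := by
    rw [hd, mul_inv_rev, hzi, hxi, ← mul_assoc, hx2, one_mul]
  have hzd : z * d * z⁻¹ = d⁻¹ := by
    rw [hd, mul_inv_rev, hzi, hxi, mul_assoc, mul_assoc, hz2, mul_one]
  have hpos : 0 < orderOf d := orderOf_pos d
  rcases Nat.even_or_odd (orderOf d) with ⟨k, hk⟩ | ⟨k, hk⟩
  · have hu2 : orderOf (d ^ k) = 2 := by
      rw [orderOf_pow' _ (by omega : k ≠ 0), hk]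
      have : Nat.gcd (k + k) k = k := by
        rw [← two_mul]; exact Nat.gcd_mul_left_left 2 k
      rw [this, ← two_mul]
      exact Nat.mul_div_cancel _ (by omega)
    have hui : (d ^ k)⁻¹ = d ^ k := inv_eq_of_mul_eq_one_right (by rw [← sq, ← hu2]; exact pow_orderOf_eq_one _)
    have key : ∀ w : G, w * d * w⁻¹ = d⁻¹ → Commute (d ^ k) w := by
      intro w hw
      have h1 : w * d ^ k * w⁻¹ = d ^ k := by
        rw [← conj_pow, hw, inv_pow, hui]
      exact (mul_inv_eq_iff_eq_mul.mp h1).symm
    exact ⟨d ^ k, hu2, key x hxd, key z hzd⟩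
  · exfalso
    apply h
    refine isConj_iff.mpr ⟨d ^ k, ?_⟩
    have h1 : x * (d ^ k)⁻¹ = d ^ k * x := by
      have : x * d ^ k * x⁻¹ = (d ^ k)⁻¹ := by rw [← conj_pow, hxd, inv_pow]
      rw [← this, hxi]
      simp only [← mul_assoc, hx2, one_mul]
    have h2 : d ^ (k + k) = d⁻¹ := by
      refine eq_inv_of_mul_eq_one_left ?_
      rw [← pow_succ, show k + k + 1 = orderOf d by omega]; exact pow_orderOf_eq_one d
    calc d ^ k * x * (d ^ k)⁻¹ = d ^ k * (x * (d ^ k)⁻¹) := by rw [mul_assoc]
      _ = d ^ (k + k) * x := by rw [h1, ← mul_assoc, ← pow_add]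
      _ = z := by rw [h2, hd, mul_inv_rev, hzi, hxi, mul_assoc, hx2, mul_one]

/-- Let x and y be commuting, non-conjugate involutions of a finite group G, and suppose that for every involution u commuting with x, each conjugate of y that commutes with u also commutes with y. Then the normal closure of y is a proper, normal, elementary abelian 2-subgroup of G; and if y is the only involution of that normal closure commuting with x, it has order at most 4. -/
theorem result {G : Type*} [Group G] [Finite G] (x y : G) (hx : orderOf x = 2) (hy : orderOf y = 2)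
    (hxy : Commute x y) (hnc : ¬ IsConj x y)
    (hstar : ∀ u : G, orderOf u = 2 → Commute u x → ∀ g : G, Commute (g * y * g⁻¹) u → Commute (g * y * g⁻¹) y) :
    Subgroup.normalClosure ({y} : Set G) ≠ ⊤ ∧ Cfsg.IsElementaryAbelian 2 (Subgroup.normalClosure ({y} : Set G)) ∧
      ((∀ u ∈ Subgroup.normalClosure ({y} : Set G), orderOf u = 2 → Commute u x → u = y) →
        Nat.card ↥(Subgroup.normalClosure ({y} : Set G)) ≤ 4) := by
  set N := Subgroup.normalClosure ({y} : Set G) with hN
  have hyN : y ∈ N := Subgroup.subset_normalClosure (Set.mem_singleton y)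
  have hordc : ∀ g : G, orderOf (g * y * g⁻¹) = 2 := by
    intro g
    rw [← hy]
    exact (MulAut.conj g).orderOf_eq y
  have hcy : ∀ g : G, Commute (g * y * g⁻¹) y := by
    intro g
    obtain ⟨u, hu, hux, huz⟩ := dihedral_common hx (hordc g) (fun h => hnc (h.trans (isConj_iff.mpr ⟨g, rfl⟩).symm))
    exact hstar u hu hux g huz.symm
  have hcc : ∀ g h : G, Commute (g * y * g⁻¹) (h * y * h⁻¹) := by
    intro g h
    have := (hcy (h⁻¹ * g)).map (MulAut.conj h).toMonoidHom
    simpa [mul_assoc] using this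
  have hset : ∀ a ∈ Group.conjugatesOfSet ({y} : Set G), ∃ g, g * y * g⁻¹ = a := by
    intro a ha
    obtain ⟨b, hb, hab⟩ := Group.mem_conjugatesOfSet_iff.mp ha
    rw [Set.mem_singleton_iff] at hb
    subst hb
    exact isConj_iff.mp hab
  have hab : IsMulCommutative N := by
    rw [hN, Subgroup.normalClosure]
    exact Subgroup.isMulCommutative_closure fun a ha b hb => by
      obtain ⟨g, rfl⟩ := hset a ha
      obtain ⟨h, rfl⟩ := hset b hb
      exact hcc g h
  have hcomm : ∀ a ∈ N, ∀ b ∈ N, a * b = b * a := by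
    intro a ha b hb
    exact congrArg Subtype.val (hab.1.comm ⟨a, ha⟩ ⟨b, hb⟩)
  have hexp : ∀ a ∈ N, a ^ 2 = 1 := by
    intro a ha
    induction ha using Subgroup.closure_induction with
    | mem a ha =>
      obtain ⟨g, rfl⟩ := hset a ha
      rw [← hordc g]; exact pow_orderOf_eq_one _
    | one => simp
    | mul a b hma hmb ha hb => rw [Commute.mul_pow (hcomm a hma b hmb), ha, hb, one_mul]
    | inv a _ ha => rw [inv_pow, ha, inv_one]
  refine ⟨?_, ⟨hab, hexp⟩, ?_⟩
  · intro htop
    have hall : ∀ a b : G, a * b = b * a := fun a b => hcomm a (htop ▸ mem_top a) b (htop ▸ mem_top b)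
    have : (Subgroup.zpowers y).Normal := ⟨fun a ha g => by rw [hall g a]; simpa using ha⟩
    have hle : N ≤ Subgroup.zpowers y := Subgroup.normalClosure_le_normal (by simp)
    obtain ⟨i, hi⟩ := Subgroup.mem_zpowers_iff.mp (hle (htop ▸ mem_top x : x ∈ N))
    rw [← zpow_mod_orderOf, hy] at hi
    rcases Int.emod_two_eq_zero_or_one i with h | h
    · rw [show ((2 : ℕ) : ℤ) = 2 from rfl, h, zpow_zero] at hi; rw [← hi, orderOf_one] at hx; omega
    · rw [show ((2 : ℕ) : ℤ) = 2 from rfl, h, zpow_one] at hi; exact hnc (hi ▸ IsConj.refl _)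
  · intro huniq
    have hmem : ∀ a : N, x * (a : G) * x⁻¹ ∈ N := fun a => (inferInstance : N.Normal).conj_mem a.1 a.2 x
    let f : N →* N :=
      { toFun := fun a => ⟨(a : G) * (x * (a : G) * x⁻¹), mul_mem a.2 (hmem a)⟩
        map_one' := by simp
        map_mul' := fun a b => by
          apply Subtype.ext
          have hc := hcomm (b : G) b.2 (x * (a : G) * x⁻¹) (hmem a)
          simp only [Subgroup.coe_mul]
          calc (a : G) * (b : G) * (x * ((a : G) * (b : G)) * x⁻¹)
              = (a : G) * ((b : G) * (x * (a : G) * x⁻¹)) * (x * (b : G) * x⁻¹) := by group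
            _ = (a : G) * (x * (a : G) * x⁻¹) * ((b : G) * (x * (b : G) * x⁻¹)) := by rw [hc]; group }
    have hinv : ∀ a : N, ((a : G))⁻¹ = a := fun a => inv_eq_of_mul_eq_one_right (by rw [← sq]; exact hexp a a.2)
    have hxi : x⁻¹ = x := inv_eq_of_mul_eq_one_right (by rw [← sq, ← hx]; exact pow_orderOf_eq_one x)
    have hfix : ∀ a : N, x * (a : G) * x⁻¹ = a → a = 1 ∨ (a : G) = y := by
      intro a ha
      by_cases h1 : (a : G) = 1
      · exact Or.inl (Subtype.ext h1)
      · exact Or.inr (huniq a a.2 (orderOf_eq_prime (hexp a a.2) h1) (mul_inv_eq_iff_eq_mul.mp ha).symm)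
    have hsub : ∀ S : Subgroup N, (∀ a ∈ S, x * (a : G) * x⁻¹ = a) → Nat.card S ≤ 2 := by
      intro S hS
      classical
      let j : S → Bool := fun a => decide ((a : N) = 1)
      have hj : Function.Injective j := by
        intro a b hab'
        rcases hfix a (hS a a.2) with ha | ha <;> rcases hfix b (hS b b.2) with hb | hb
        · exact Subtype.ext (ha.trans hb.symm)
        · exact Subtype.ext (ha.trans ((of_decide_eq_true (hab'.symm.trans (decide_eq_true ha))).symm))
        · exact Subtype.ext (((of_decide_eq_true (hab'.trans (decide_eq_true hb)))).trans hb.symm)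
        · exact Subtype.ext (Subtype.ext (ha.trans hb.symm))
      simpa using Nat.card_le_card_of_injective j hj
    have hk : Nat.card f.ker ≤ 2 := hsub _ fun a ha => by
      have : (a : G) * (x * (a : G) * x⁻¹) = 1 := congrArg Subtype.val (MonoidHom.mem_ker.mp ha)
      rw [eq_inv_of_mul_eq_one_right this, hinv a]
    have hr : Nat.card f.range ≤ 2 := hsub _ fun a ha => by
      obtain ⟨b, rfl⟩ := ha
      change x * ((b : G) * (x * (b : G) * x⁻¹)) * x⁻¹ = (b : G) * (x * (b : G) * x⁻¹)
      have hxx : x * x = 1 := by rw [← sq, ← hx]; exact pow_orderOf_eq_one x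
      rw [hcomm (b : G) b.2 _ (hmem b), hxi]
      simp only [← mul_assoc, hxx, one_mul]
      rw [show x * (b : G) * x * (b : G) = x * (b : G) * x⁻¹ * (b : G) by rw [hxi]]
      rw [hcomm _ (hmem b) (b : G) b.2, hxi]
      simp only [← mul_assoc]
    have hcard : Nat.card N = Nat.card f.range * Nat.card f.ker := by
      rw [← Subgroup.index_ker f]
      exact (Subgroup.index_mul_card f.ker).symm
    rw [hcard]
    calc Nat.card f.range * Nat.card f.ker ≤ 2 * 2 := Nat.mul_le_mul hr hk
      _ = 4 := rfl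

end Cfsg.Agent.S3276
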