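import Cfsg.Statements.S3283
import Cfsg.Agent.Lib.WidthFour.Build

set_option autoImplicit false
open Cfsg

namespace Cfsg.Agent.S3283

/-- Let G be a finite group with an involution z whose centralizer M has Q = O₂(M) extraspecial of order 2⁹ with C_M(Q) ≤ Q, and M/Q isomorphic to S₃ × A₆ or to S₃ × S₆. Then G is not simple. -/
theorem result {G : Type*} [Group G] [Finite G] (z : G) (hz : orderOf z = 2)
    (hQ : Cfsg.IsExtraspecial 2 ↥(Cfsg.pCore 2 ↥(Subgroup.centralizer ({z} : Set G)))) (hQ9 : Nat.card ↥(Cfsg.pCore 2 ↥(Subgroup.centralizer ({z} : Set G))) = 2 ^ 9)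
    (hCQ : Subgroup.centralizer ((Cfsg.pCore 2 ↥(Subgroup.centralizer ({z} : Set G))) : Set ↥(Subgroup.centralizer ({z} : Set G))) ≤ Cfsg.pCore 2 ↥(Subgroup.centralizer ({z} : Set G)))
    (hMQ : Nonempty (↥(Subgroup.centralizer ({z} : Set G)) ⧸ Cfsg.pCore 2 ↥(Subgroup.centralizer ({z} : Set G)) ≃* (Equiv.Perm (Fin 3) × ↥(alternatingGroup (Fin 6)))) ∨
      Nonempty (↥(Subgroup.centralizer ({z} : Set G)) ⧸ Cfsg.pCore 2 ↥(Subgroup.centralizer ({z} : Set G)) ≃* (Equiv.Perm (Fin 3) × Equiv.Perm (Fin 6)))) :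
    ¬ IsSimpleGroup G := by
  intro hsimple
  obtain ⟨hub, -⟩ := LargeExtraspecial.Hub.of_coreAt hz (WidthFour.extraspecial_map hQ) (by
    intro c hc
    have hzC : z ∈ Subgroup.centralizer ({z} : Set G) := Subgroup.mem_centralizer_singleton_iff.mpr rfl
    have hzP : (⟨z, hzC⟩ : ↥(Subgroup.centralizer ({z} : Set G))) ∈
        Cfsg.pCore 2 ↥(Subgroup.centralizer ({z} : Set G)) := hCQ (Subgroup.mem_centralizer_iff.mpr
          fun q _ => Subtype.ext (Subgroup.mem_centralizer_singleton_iff.mp q.2))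
    have hcC : c ∈ Subgroup.centralizer ({z} : Set G) :=
      Subgroup.mem_centralizer_singleton_iff.mpr (hc z ⟨_, hzP, rfl⟩).symm
    have hcP : (⟨c, hcC⟩ : ↥(Subgroup.centralizer ({z} : Set G))) ∈
        Cfsg.pCore 2 ↥(Subgroup.centralizer ({z} : Set G)) := hCQ (Subgroup.mem_centralizer_iff.mpr
          fun q hq => Subtype.ext (hc q ⟨q, hq, rfl⟩))
    exact ⟨_, hcP, rfl⟩)
  rcases hMQ with he | he
  · obtain ⟨e⟩ := he
    exact (WidthFour.Setting.build _ hub hQ9 e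
      (MonoidHom.prodMap (MonoidHom.id (Equiv.Perm (Fin 3))) (alternatingGroup (Fin 6)).subtype)
      (fun a b h => Prod.ext (congrArg (fun x : WidthFour.Top => x.1) h)
        (Subtype.ext (congrArg (fun x : WidthFour.Top => x.2) h)))
      (fun a b _ hb => ⟨(a, ⟨b, Equiv.Perm.mem_alternatingGroup.mpr hb⟩), rfl⟩)
      ⟨(Equiv.swap 0 1, 1), Equiv.Perm.sign_swap (by decide)⟩).not_simple
  · obtain ⟨e⟩ := he
    exact (WidthFour.Setting.build _ hub hQ9 e (MonoidHom.id _) (fun a b h => h)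
      (fun a b _ _ => ⟨(a, b), rfl⟩) ⟨(Equiv.swap 0 1, 1), Equiv.Perm.sign_swap (by decide)⟩).not_simple

end Cfsg.Agent.S3283
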