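import Cfsg.Statements.S4273
import Cfsg.Agent.Lib.Order175560.Centraliser
import Cfsg.Agent.Lib.J1Unique.Build

set_option autoImplicit false
open Cfsg

namespace Cfsg.Agent.S4273

theorem isoJ1_of_card {K : Type*} [Group K] [Finite K] [IsSimpleGroup K] (hK : Nat.card K = 175560) :
    Cfsg.Spor.IsoJ1 K := by
  have hna : ¬ IsMulCommutative K := fun h => by
    letI : CommGroup K := { (inferInstance : Group K) with mul_comm := h.is_comm.comm }
    have hp := IsSimpleGroup.prime_card (α := K)
    rw [hK] at hp
    norm_num at hp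
  obtain ⟨t, ht, ⟨e⟩⟩ := Order175560.exists_centraliser hna hK
  exact J1Unique.isoJ1 hK (t := t)
    { iso := e
      hu := ⟨by rw [← pow_two, ← ht, pow_orderOf_eq_one], fun h => by
        rw [h, orderOf_one] at ht; norm_num at ht⟩ }

/-- Uniqueness of the simple group of order 175560: any two finite simple groups of order 175560 are isomorphic. -/
theorem result {G : Type*} {H : Type*} [Group G] [Finite G] [IsSimpleGroup G] [Group H] [Finite H] [IsSimpleGroup H] (hG : Nat.card G = 175560) (hH : Nat.card H = 175560) : Nonempty (G ≃* H) := by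
  obtain ⟨e⟩ := isoJ1_of_card hG
  obtain ⟨f⟩ := isoJ1_of_card hH
  exact ⟨e.trans f.symm⟩

end Cfsg.Agent.S4273
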