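import Cfsg.Statements.S3294
import Cfsg.Agent.Lib.SolvableTwo.Basic

set_option autoImplicit false
open Cfsg Cfsg.Agent

namespace Cfsg.Agent.S3294

open scoped commutatorElement

/-- The large elements of a normal noncyclic subgroup of a generalized quaternion group. -/
theorem quat_big {n : ℕ} (hn : 3 ≤ n) (R : Subgroup (QuaternionGroup (2 ^ n))) [R.Normal]
    (hR : ¬ R ≤ Subgroup.zpowers (QuaternionGroup.a 1)) :
    Subgroup.closure {w | w ∈ R ∧ 4 < orderOf w} = R ⊓ Subgroup.zpowers (QuaternionGroup.a 1) ∧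
      ∀ r ∈ R, ∀ r' ∈ R, r ∉ R ⊓ Subgroup.zpowers (QuaternionGroup.a 1) →
        r' ∉ R ⊓ Subgroup.zpowers (QuaternionGroup.a 1) → r⁻¹ * r' ∈ R ⊓ Subgroup.zpowers (QuaternionGroup.a 1) := by
  haveI : NeZero (2 * 2 ^ n) := ⟨by positivity⟩
  set C := Subgroup.zpowers (QuaternionGroup.a 1 : QuaternionGroup (2 ^ n)) with hC
  have hpow : ∀ i : ZMod (2 * 2 ^ n), (QuaternionGroup.a 1 : QuaternionGroup (2 ^ n)) ^ i.val = QuaternionGroup.a i :=
    fun i => by rw [QuaternionGroup.a_one_pow, ZMod.natCast_zmod_val]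
  have ha : ∀ i : ZMod (2 * 2 ^ n), QuaternionGroup.a i ∈ C := fun i => hpow i ▸ pow_mem (Subgroup.mem_zpowers _) _
  have hxa : ∀ i : ZMod (2 * 2 ^ n), (QuaternionGroup.xa i : QuaternionGroup (2 ^ n)) ∉ C := by
    intro i hi
    obtain ⟨k, hk⟩ := Subgroup.mem_zpowers_iff.mp hi
    rw [← zpow_mod_orderOf, ← Int.toNat_of_nonneg (Int.emod_nonneg _ (by exact_mod_cast (orderOf_pos _).ne')),
      zpow_natCast, QuaternionGroup.a_one_pow] at hk
    exact nomatch hk
  obtain ⟨w, hw, hwC⟩ := SetLike.not_le_iff_exists.mp hR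
  obtain ⟨i, rfl⟩ : ∃ i, w = QuaternionGroup.xa i := by
    cases w with
    | a i => exact absurd (ha i) hwC
    | xa i => exact ⟨i, rfl⟩
  have ha2 : (QuaternionGroup.a 1 : QuaternionGroup (2 ^ n)) ^ 2 ∈ R := by
    have h1 : QuaternionGroup.a 1 * QuaternionGroup.xa i * (QuaternionGroup.a 1)⁻¹ *
        (QuaternionGroup.xa i)⁻¹ ∈ R := mul_mem (Subgroup.Normal.conj_mem inferInstance _ hw _) (inv_mem hw)
    have h2 : (QuaternionGroup.a 1 : QuaternionGroup (2 ^ n)) ^ 2 * QuaternionGroup.xa i * QuaternionGroup.a 1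
        = QuaternionGroup.a 1 * QuaternionGroup.xa i := by
      rw [QuaternionGroup.a_one_pow]; simp; ring
    have h3 : (QuaternionGroup.a 1 : QuaternionGroup (2 ^ n)) * QuaternionGroup.xa i * (QuaternionGroup.a 1)⁻¹ *
        (QuaternionGroup.xa i)⁻¹ = QuaternionGroup.a 1 ^ 2 := by
      rw [mul_inv_eq_iff_eq_mul, mul_inv_eq_iff_eq_mul, h2]
    exact h3 ▸ h1
  have h2pow : 8 ≤ 2 ^ n := le_trans (by norm_num) (Nat.pow_le_pow_right (by norm_num) hn)
  have hord2 : orderOf ((QuaternionGroup.a 1 : QuaternionGroup (2 ^ n)) ^ 2) = 2 ^ n := by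
    rw [orderOf_pow' _ (by norm_num : (2:ℕ) ≠ 0), QuaternionGroup.orderOf_a_one, Nat.gcd_mul_right_left,
      Nat.mul_div_cancel_left _ (by norm_num : 0 < 2)]
  refine ⟨le_antisymm ?_ ?_, ?_⟩
  · rw [Subgroup.closure_le]
    rintro x ⟨hx, hx4⟩
    refine ⟨hx, ?_⟩
    cases x with
    | a j => exact ha j
    | xa j =>
      have := QuaternionGroup.orderOf_xa (n := 2 ^ n) j
      omega
  · rintro x ⟨hx, hxC⟩
    cases x with
    | xa j => exact absurd hxC (hxa j)
    | a j =>
      rcases Nat.even_or_odd' j.val with ⟨k, hk | hk⟩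
      · rw [← hpow j, hk, pow_mul]
        exact pow_mem (Subgroup.subset_closure (show _ ∈ {w | w ∈ R ∧ 4 < orderOf w} from ⟨ha2, by omega⟩)) k
      · refine Subgroup.subset_closure ⟨hx, ?_⟩
        rw [← hpow j, Nat.Coprime.orderOf_pow, QuaternionGroup.orderOf_a_one]
        · omega
        · rw [QuaternionGroup.orderOf_a_one]
          exact Nat.Coprime.mul_left (Nat.coprime_two_left.mpr (hk ▸ odd_two_mul_add_one k))
            (Nat.Coprime.pow_left _ (Nat.coprime_two_left.mpr (hk ▸ odd_two_mul_add_one k)))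
  · intro r hr r' hr' h1 h2
    refine ⟨Subgroup.mul_mem _ (Subgroup.inv_mem _ hr) hr', ?_⟩
    cases r with
    | a j => exact absurd ⟨hr, ha j⟩ h1
    | xa j =>
      cases r' with
      | a l => exact absurd ⟨hr', ha l⟩ h2
      | xa l =>
        have : (QuaternionGroup.xa j : QuaternionGroup (2 ^ n))⁻¹ * QuaternionGroup.xa l = QuaternionGroup.a (l - j) := by
          rw [inv_mul_eq_iff_eq_mul]; simp
        rw [this]; exact ha _

/-- A group with a self-centralizing normal subgroup inside a quaternion Sylow 2-subgroup of order at least 16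
is a 2-group. -/
theorem isPGroup_two {H : Type*} [Group H] [Finite H] {n : ℕ} (hn : 3 ≤ n) (f : QuaternionGroup (2 ^ n) →* H)
    (hf : Function.Injective f) {R : Subgroup H} (hR : R.Normal) (hRf : R ≤ f.range) (hR2 : IsPGroup 2 R)
    (hC : Subgroup.centralizer (R : Set H) ≤ R) : IsPGroup 2 H := by
  haveI := hR
  have hmap : (R.comap f).map f = R := by rw [Subgroup.map_comap_eq, inf_eq_right.mpr hRf]
  by_cases hcase : R.comap f ≤ Subgroup.zpowers (QuaternionGroup.a 1)
  · refine SolvableTwo.isPGroup_two_of_cyclic_self_centralizing hR hR2 ?_ hC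
    haveI : IsCyclic ↥(R.comap f) := isCyclic_of_injective (Subgroup.inclusion hcase) (Subgroup.inclusion_injective _)
    rw [← hmap]
    exact isCyclic_of_surjective (f.subgroupMap _) (f.subgroupMap_surjective _)
  · obtain ⟨hcl, hidx⟩ := quat_big hn (R.comap f) hcase
    set A' := R.comap f ⊓ Subgroup.zpowers (QuaternionGroup.a 1) with hA'
    set A := A'.map f with hA
    have hAclo : A = Subgroup.closure {r | r ∈ R ∧ 4 < orderOf r} := by
      rw [hA, ← hcl, MonoidHom.map_closure]
      congr 1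
      ext r
      constructor
      · rintro ⟨w, ⟨hw, hw4⟩, rfl⟩
        exact ⟨hw, by rwa [orderOf_injective f hf]⟩
      · rintro ⟨hr, hr4⟩
        obtain ⟨w, rfl⟩ := hRf hr
        exact ⟨w, ⟨hr, by rwa [orderOf_injective f hf] at hr4⟩, rfl⟩
    have hconjA : ∀ (g : H), ∀ a ∈ A, g * a * g⁻¹ ∈ A := by
      intro g a ha
      rw [hAclo] at ha ⊢
      induction ha using Subgroup.closure_induction with
      | mem a ha =>
        refine Subgroup.subset_closure ⟨hR.conj_mem a ha.1 g, ?_⟩
        have := (MulAut.conj g).orderOf_eq a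
        rw [MulAut.conj_apply] at this
        rw [this]; exact ha.2
      | one => simp
      | mul a b _ _ ha hb => rw [← conj_mul]; exact mul_mem ha hb
      | inv a _ ha => rw [← conj_inv]; exact inv_mem ha
    have hAn : A.Normal := ⟨fun a ha g => hconjA g a ha⟩
    have hAR : A ≤ R := by rw [hA, ← hmap]; exact Subgroup.map_mono inf_le_left
    have hAc : IsCyclic A := by
      haveI : IsCyclic ↥A' := isCyclic_of_injective (Subgroup.inclusion (inf_le_right : A' ≤ _))
        (Subgroup.inclusion_injective _)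
      rw [hA]
      exact isCyclic_of_surjective (f.subgroupMap _) (f.subgroupMap_surjective _)
    refine SolvableTwo.isPGroup_two_of_cyclic hAn hAR hR2 hAc hC fun g _ r hr => ?_
    by_cases hrA : r ∈ A
    · exact mul_mem (inv_mem hrA) (hconjA g r hrA)
    · have hrA' : g * r * g⁻¹ ∉ A := fun h => hrA (by simpa [mul_assoc] using hconjA g⁻¹ _ h)
      obtain ⟨w, rfl⟩ := hRf hr
      obtain ⟨w', hw'⟩ := hRf (hR.conj_mem _ hr g)
      rw [← hw'] at hrA' ⊢
      rw [← map_inv, ← map_mul]
      have h1 : w ∉ A' := fun h => hrA (Subgroup.mem_map_of_mem f h)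
      have h2 : w' ∉ A' := fun h => hrA' (Subgroup.mem_map_of_mem f h)
      have hw'R : w' ∈ R.comap f := by rw [Subgroup.mem_comap, hw']; exact hR.conj_mem _ hr g
      exact Subgroup.mem_map_of_mem f (hidx w hr w' hw'R h1 h2)

/-- A finite solvable group whose Sylow 2-subgroups are generalized quaternion of order at least 32 has a normal 2-complement. -/
theorem result {G : Type*} [Group G] [Finite G] (hsol : Group.IsSolvable G) (T : Sylow 2 G) (n : ℕ) (hn : 3 ≤ n) (hT : Nonempty ((T : Subgroup G) ≃* QuaternionGroup (2 ^ n))) : Cfsg.HasNormalPComplement 2 G := by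
  haveI hON := SolvableTwo.oddCore_normal (G := G)
  set N := Cfsg.oddCore G with hN
  have hsQ : Group.IsSolvable (G ⧸ N) :=
    @Group.isSolvable_of_surjective _ _ _ _ _ (QuotientGroup.mk'_surjective N) hsol
  obtain ⟨e⟩ := hT
  have hodd : Odd (Nat.card N) := SolvableTwo.odd_card_oddCore
  set f : QuaternionGroup (2 ^ n) →* G ⧸ N :=
    ((QuotientGroup.mk' N).comp (T : Subgroup G).subtype).comp e.symm.toMonoidHom with hf
  have hinj : Function.Injective f := by
    refine (MonoidHom.ker_eq_bot_iff f).mp ((Subgroup.eq_bot_iff_forall _).mpr fun w hw => ?_)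
    have hwN : ((e.symm w : ↥(T : Subgroup G)) : G) ∈ N := (QuotientGroup.eq_one_iff _).mp hw
    obtain ⟨k, hk⟩ := IsPGroup.iff_orderOf.mp T.2 (e.symm w)
    have h1 : ((e.symm w : ↥(T : Subgroup G)) : G) = 1 := by
      refine SolvableTwo.odd_pow_two_eq_one (k := k) hodd ?_ ?_
      · exact congrArg Subtype.val (pow_card_eq_one' (x := (⟨_, hwN⟩ : N)))
      · rw [← hk, ← Subgroup.coe_pow, pow_orderOf_eq_one, Subgroup.coe_one]
    exact e.symm.map_eq_one_iff.mp (Subtype.ext h1)
  have hrange : f.range = (Sylow.mapSurjective (QuotientGroup.mk'_surjective N) T : Subgroup (G ⧸ N)) := by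
    rw [Sylow.coe_mapSurjective, hf, MonoidHom.range_comp, MonoidHom.range_eq_top.mpr e.symm.surjective,
      ← Subgroup.map_map, ← MonoidHom.range_eq_map, Subgroup.range_subtype]
  have hn' : (Cfsg.pCore 2 (G ⧸ N)).Normal := Components.pCore_normal' 2
  have hQ : IsPGroup 2 (G ⧸ N) := isPGroup_two hn f hinj hn'
    (hrange ▸ (Components.isPGroup_pCore' 2).le_sylow_of_normal _) (Components.isPGroup_pCore' 2)
    (SolvableTwo.centralizer_pCore_two_le hsQ fun M hM ho => SolvableTwo.eq_bot_of_odd_normal N hN M hM ho)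
  obtain ⟨k, hk⟩ := IsPGroup.iff_card.mp hQ
  obtain ⟨l, hl⟩ := IsPGroup.iff_card.mp T.2
  have hT2 : ¬ 2 ∣ (T : Subgroup G).index := T.not_dvd_index
  have hG : Nat.card G = 2 ^ k * Nat.card N := by rw [← hk]; exact Subgroup.card_eq_card_quotient_mul_card_subgroup N
  have hkl : k = l := by
    have h1 : 2 ^ k * Nat.card N = 2 ^ l * (T : Subgroup G).index := by rw [← hG, ← hl, Subgroup.card_mul_index]
    have h2 := congrArg (fun m : ℕ => m.factorization 2) h1
    simpa [Nat.factorization_mul, Nat.card_pos.ne', Subgroup.index_ne_zero_of_finite,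
      Nat.factorization_eq_zero_of_not_dvd hT2, Nat.Prime.factorization_self Nat.prime_two,
      Nat.factorization_eq_zero_of_not_dvd (hodd.not_two_dvd_nat)] using h2
  refine ⟨T, N, hON, Subgroup.isComplement'_of_coprime ?_ ?_⟩
  · rw [hG, hl, hkl, mul_comm]
  · rw [hl]; exact (Nat.coprime_two_right.mpr hodd).pow_right l


end Cfsg.Agent.S3294
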