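import Cfsg.Statements.S3301
import Cfsg.Agent.Lib.LargeExtraspecial.SmithAbelianization

set_option autoImplicit false
open Cfsg

namespace Cfsg.Agent.S3301

/-- Let G be a finite group with no nontrivial 2-group quotient (O^2(G) = G), z an involution of G with H = C_G(z), and suppose E = O_2(H) is extraspecial with C_G(E) ≤ E. Then the Sylow 2-subgroups of H/[H, H] are elementary abelian: every element of 2-power order of the abelianization of H has order at most 2. -/
theorem result {G : Type*} [Group G] [Finite G] (hres : Cfsg.pResidual 2 G = ⊤) (z : G) (hz : orderOf z = 2)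
    (E : Subgroup G) (hE : E = (Cfsg.pCore 2 ↥(Subgroup.centralizer ({z} : Set G))).map (Subgroup.centralizer ({z} : Set G)).subtype)
    (hext : Cfsg.IsExtraspecial 2 ↥E) (hcent : Subgroup.centralizer (E : Set G) ≤ E) :
    ∀ q : Abelianization ↥(Subgroup.centralizer ({z} : Set G)), (∃ k : ℕ, orderOf q = 2 ^ k) → q ^ 2 = 1 := by
  obtain rfl : E = LargeExtraspecial.coreAt z := hE
  obtain ⟨h, hle⟩ := LargeExtraspecial.Hub.of_coreAt hz hext hcent
  set H := Subgroup.centralizer ({z} : Set G)
  rintro q ⟨k, hk⟩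
  have : Fact (Nat.Prime 2) := ⟨Nat.prime_two⟩
  haveI : Finite (Abelianization ↥H) := inferInstanceAs (Finite (↥H ⧸ commutator ↥H))
  obtain ⟨s, m, hm, hN⟩ := Nat.exists_eq_two_pow_mul_odd
    (Nat.card_pos (α := Abelianization ↥H)).ne'
  let f : ↥H →* Abelianization ↥H := (powMonoidHom m).comp Abelianization.of
  have hA : IsPGroup 2 ↥f.range := by
    rintro ⟨x, y, rfl⟩
    refine ⟨s, Subtype.ext ?_⟩
    show (Abelianization.of y ^ m) ^ 2 ^ s = 1
    rw [← pow_mul, mul_comm, ← hN]
    exact pow_card_eq_one'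
  have hsq : ∀ a, f.rangeRestrict a ^ 2 = 1 := by
    obtain ⟨n, hn, hcard, -⟩ := PGroup.extraspecial_card hext
    rcases (by omega : n = 1 ∨ 2 ≤ n) with rfl | hn2
    · refine fun a => h.sq_hom_eq_one_small hle hext.1.1 (by rw [hcard]; norm_num) rfl _ hA ?_ a
      by_contra hc
      push Not at hc
      exact PGroup.extraspecial_not_commutative hext ((Subgroup.eq_top_iff' _).mpr fun x =>
        Subgroup.mem_center_iff.mpr fun y => Subtype.ext (hc y y.2 x x.2))
    · refine fun a => h.sq_hom_eq_one_large hle hext.1.1 ?_ hres _ hA a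
      rw [hcard]
      calc 32 = 2 ^ 5 := by norm_num
        _ ≤ _ := Nat.pow_le_pow_right (by norm_num) (by omega)
  obtain ⟨a, ha⟩ := QuotientGroup.mk_surjective q
  have hq : Abelianization.of a = q := ha
  have h1 : Abelianization.of a ^ (2 * m) = 1 := by
    rw [mul_comm, pow_mul]
    exact congrArg Subtype.val (hsq a)
  have h2 : Abelianization.of a ^ 2 ^ (k + 1) = 1 := by
    rw [pow_succ, pow_mul, show Abelianization.of a ^ 2 ^ k = 1 by rw [hq, ← hk]; exact pow_orderOf_eq_one q,
      one_pow]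
  have hg := pow_gcd_eq_one.mpr ⟨h1, h2⟩
  rw [pow_succ', Nat.gcd_mul_left, Nat.Coprime.pow_right k (Nat.coprime_two_right.mpr hm)] at hg
  rwa [mul_one, hq] at hg

end Cfsg.Agent.S3301
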