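import Mathlib.GroupTheory.Sylow
import Mathlib.GroupTheory.SpecificGroups.Cyclic
import Mathlib.GroupTheory.QuotientGroup.Basic

set_option autoImplicit false

namespace Cfsg.Agent.S3305

/-- Given a Sylow 2-subgroup `S` of the quotient and a 2-subgroup inside its preimage, a Sylow 2-subgroup of `G`
above it maps onto `S`. -/
theorem lift_sylow {G : Type*} [Group G] [Finite G] (H : Subgroup G) [H.Normal] (p : ℕ) [Fact p.Prime]
    (S : Sylow p (G ⧸ H)) (D : Subgroup G) (hD : IsPGroup p D)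
    (hDS : D.map (QuotientGroup.mk' H) ≤ (S : Subgroup (G ⧸ H))) :
    ∃ S₀ : Sylow p G, D ≤ (S₀ : Subgroup G) ∧ (S₀ : Subgroup G).map (QuotientGroup.mk' H) = (S : Subgroup (G ⧸ H)) := by
  set K := (S : Subgroup (G ⧸ H)).comap (QuotientGroup.mk' H) with hK
  have hDK : D ≤ K := Subgroup.map_le_iff_le_comap.mp hDS
  obtain ⟨Q, hQ⟩ := (hD.comap_subtype (K := K)).exists_le_sylow
  obtain ⟨S₀, hS₀⟩ := IsPGroup.exists_le_sylow ((Q.2).map K.subtype)
  have hD' : D ≤ (Q : Subgroup K).map K.subtype := fun a ha => ⟨⟨a, hDK ha⟩, hQ ha, rfl⟩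
  refine ⟨S₀, hD'.trans hS₀, ?_⟩
  have himg : ((Q : Subgroup K).map K.subtype).map (QuotientGroup.mk' H) = (S : Subgroup (G ⧸ H)) := by
    have hsurj : Function.Surjective ((QuotientGroup.mk' H).subgroupComap (S : Subgroup (G ⧸ H))) :=
      MonoidHom.subgroupComap_surjective_of_surjective _ _ (QuotientGroup.mk'_surjective H)
    let Q' := Sylow.mapSurjective hsurj Q
    have hQ' : (Q' : Subgroup (S : Subgroup (G ⧸ H))) = ⊤ := by
      have h1 := Q'.is_maximal' ((S.2).to_subgroup ⊤) le_top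
      exact h1.symm
    rw [Subgroup.map_map]
    have hcomp : (QuotientGroup.mk' H).comp K.subtype =
        (S : Subgroup (G ⧸ H)).subtype.comp ((QuotientGroup.mk' H).subgroupComap (S : Subgroup (G ⧸ H))) := rfl
    rw [hcomp, ← Subgroup.map_map]
    have : (Q : Subgroup K).map ((QuotientGroup.mk' H).subgroupComap (S : Subgroup (G ⧸ H))) = ⊤ := hQ'
    rw [this, ← MonoidHom.range_eq_map, Subgroup.range_subtype]
  refine le_antisymm ?_ (himg ▸ Subgroup.map_mono hS₀)
  have hle : (S : Subgroup (G ⧸ H)) ≤ (S₀ : Subgroup G).map (QuotientGroup.mk' H) := himg ▸ Subgroup.map_mono hS₀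
  exact (S.is_maximal' ((S₀.2).map _) hle).le

/-- If any two distinct Sylow 2-subgroups of the finite group G intersect in a cyclic group, then the same holds in every quotient group G/H, H a normal subgroup of G. -/
theorem result {G : Type*} [Group G] [Finite G]
    (hC : ∀ S T : Sylow 2 G, S ≠ T → IsCyclic ↥((S : Subgroup G) ⊓ (T : Subgroup G))) (H : Subgroup G) [H.Normal] :
    ∀ S T : Sylow 2 (G ⧸ H), S ≠ T → IsCyclic ↥((S : Subgroup (G ⧸ H)) ⊓ (T : Subgroup (G ⧸ H))) := by
  intro S T hST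
  set E := (S : Subgroup (G ⧸ H)) ⊓ (T : Subgroup (G ⧸ H)) with hE
  -- a 2-subgroup of `G` mapping onto the intersection
  set K := E.comap (QuotientGroup.mk' H) with hK
  have hsurj : Function.Surjective ((QuotientGroup.mk' H).subgroupComap E) :=
    MonoidHom.subgroupComap_surjective_of_surjective _ _ (QuotientGroup.mk'_surjective H)
  obtain ⟨Q⟩ : Nonempty (Sylow 2 K) := inferInstance
  have hQtop : (Q : Subgroup K).map ((QuotientGroup.mk' H).subgroupComap E) = ⊤ := by
    exact ((Sylow.mapSurjective hsurj Q).is_maximal'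
      ((S.2.to_le (inf_le_left : E ≤ S)).to_subgroup ⊤) le_top).symm
  set D := (Q : Subgroup K).map K.subtype with hD
  have hDmap : D.map (QuotientGroup.mk' H) = E := by
    rw [hD, Subgroup.map_map]
    have hcomp : (QuotientGroup.mk' H).comp K.subtype =
        E.subtype.comp ((QuotientGroup.mk' H).subgroupComap E) := rfl
    rw [hcomp, ← Subgroup.map_map, hQtop, ← MonoidHom.range_eq_map, Subgroup.range_subtype]
  have hDp : IsPGroup 2 D := Q.2.map K.subtype
  obtain ⟨S₀, hDS₀, hS₀⟩ := lift_sylow H 2 S D hDp (hDmap ▸ inf_le_left)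
  obtain ⟨T₀, hDT₀, hT₀⟩ := lift_sylow H 2 T D hDp (hDmap ▸ inf_le_right)
  have hne : S₀ ≠ T₀ := by
    rintro rfl
    exact hST (Sylow.ext (hS₀.symm.trans hT₀))
  have := hC S₀ T₀ hne
  have hDc : IsCyclic D := isCyclic_of_injective (Subgroup.inclusion (le_inf hDS₀ hDT₀))
    (Subgroup.inclusion_injective _)
  rw [← hDmap]
  exact isCyclic_of_surjective ((QuotientGroup.mk' H).subgroupMap D) (MonoidHom.subgroupMap_surjective _ _)

end Cfsg.Agent.S3305
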