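import Cfsg.Statements.S3303
import Cfsg.Agent.Lib.SolvableTwo.Basic
import Cfsg.Agent.S3305

set_option autoImplicit false
open Cfsg Cfsg.Agent

namespace Cfsg.Agent.S3303

/-- Let G be a finite solvable group in which the intersection of any two distinct Sylow 2-subgroups is cyclic. Then G/O(G) has a normal Sylow 2-subgroup, where O(G) is the largest normal subgroup of odd order. -/
theorem result {G : Type*} [Group G] [Finite G] (hs : Group.IsSolvable G)
    (hC : ∀ S T : Sylow 2 G, S ≠ T → IsCyclic ↥((S : Subgroup G) ⊓ (T : Subgroup G))) :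
    ∃ P : Sylow 2 (G ⧸ Cfsg.oddCore G), (P : Subgroup (G ⧸ Cfsg.oddCore G)).Normal := by
  
  haveI := SolvableTwo.oddCore_normal (G := G)
  have hsQ : Group.IsSolvable (G ⧸ Cfsg.oddCore G) :=
    @Group.isSolvable_of_surjective _ _ _ _ _ (QuotientGroup.mk'_surjective (Cfsg.oddCore G)) hs
  obtain ⟨S⟩ : Nonempty (Sylow 2 (G ⧸ Cfsg.oddCore G)) := inferInstance
  by_contra hne
  push Not at hne
  obtain ⟨T, hT⟩ : ∃ T : Sylow 2 (G ⧸ Cfsg.oddCore G), T ≠ S := by
    by_contra h
    push Not at h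
    haveI : Subsingleton (Sylow 2 (G ⧸ Cfsg.oddCore G)) := ⟨fun a b => (h a).trans (h b).symm⟩
    exact hne S S.normal_of_subsingleton
  set R := Cfsg.pCore 2 (G ⧸ Cfsg.oddCore G) with hRdef
  have hn : R.Normal := Components.pCore_normal' 2
  have hR : IsPGroup 2 R := Components.isPGroup_pCore' 2
  have hle : ∀ P : Sylow 2 (G ⧸ Cfsg.oddCore G), R ≤ (P : Subgroup (G ⧸ Cfsg.oddCore G)) :=
    fun P => hR.le_sylow_of_normal P
  have hint := S3305.result hC (Cfsg.oddCore G) T S hT
  have hcyc : IsCyclic R := isCyclic_of_injective (Subgroup.inclusion (le_inf (hle T) (hle S)))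
    (Subgroup.inclusion_injective _)
  have hQ := SolvableTwo.isPGroup_two_of_cyclic_self_centralizing hn hR hcyc
    (SolvableTwo.centralizer_pCore_two_le hsQ (fun M hM ho => SolvableTwo.eq_bot_of_odd_normal _ rfl M hM ho))
  haveI : Subsingleton (Sylow 2 (G ⧸ Cfsg.oddCore G)) := ⟨fun a b => Sylow.ext
    ((a.is_maximal' (hQ.to_subgroup ⊤) le_top).symm.trans (b.is_maximal' (hQ.to_subgroup ⊤) le_top))⟩
  exact hT (Subsingleton.elim T S)


end Cfsg.Agent.S3303
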