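import Cfsg.Statements.S3309
import Cfsg.Agent.Lib.Transfer.Thompson
import Mathlib.GroupTheory.SpecificGroups.Dihedral

set_option autoImplicit false
open Cfsg

namespace Cfsg.Agent.S3309

/-- The model of the Sylow 2-subgroup. -/
abbrev T0 := Multiplicative (ZMod 2) × DihedralGroup 4

/-- The generator of the cyclic factor. -/
def a0 : T0 := (Multiplicative.ofAdd 1, 1)

/-- The involution which is a square. -/
def z0 : T0 := (1, DihedralGroup.r 2)

/-- A noncentral involution. -/
def w0 (i : ZMod 2) (j : ZMod 4) : T0 := (Multiplicative.ofAdd i, DihedralGroup.sr j)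

theorem center_cases : ∀ x : T0, (∀ y, x * y = y * x) → x = 1 ∨ x = a0 ∨ x = z0 ∨ x = a0 * z0 := by decide +kernel

theorem a0_central : ∀ y : T0, y * a0 = a0 * y := by decide +kernel

theorem z0_central : ∀ y : T0, y * z0 = z0 * y := by decide +kernel

theorem sq_cases : ∀ x : T0, x * x = 1 ∨ x * x = z0 := by decide +kernel

theorem invol_cases : ∀ x : T0, x * x = 1 → (∀ y, x * y = y * x) ∨ ∃ i j, x = w0 i j := by decide +kernel

theorem cent_cases : ∀ (i : ZMod 2) (j : ZMod 4) (y : T0), y * w0 i j = w0 i j * y →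
    y = 1 ∨ y = a0 ∨ y = z0 ∨ y = a0 * z0 ∨ ∃ i', y = w0 i' j ∨ y = w0 i' (j + 2) := by decide +kernel

theorem cent_card : ∀ (i : ZMod 2) (j : ZMod 4),
    (Finset.univ.filter fun y : T0 => y * w0 i j = w0 i j * y).card = 8 := by decide +kernel

theorem center_card : (Finset.univ.filter fun y : T0 => ∀ x, y * x = x * y).card = 4 := by decide +kernel

theorem cent_sq : ∀ (i : ZMod 2) (j : ZMod 4) (x : T0), x * w0 i j = w0 i j * x → x * x = 1 := by
  decide +kernel

theorem cent_abel : ∀ (j : ZMod 4) (x : T0), x * w0 0 j = w0 0 j * x →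
    ∀ y : T0, y * w0 0 j = w0 0 j * y → x * y = y * x := by decide +kernel

theorem cent_comm (j : ZMod 4) (x y : T0) (hx : x * w0 0 j = w0 0 j * x) (hy : y * w0 0 j = w0 0 j * y) :
    x * y = y * x ∧ x * x = 1 := ⟨cent_abel j x hx y hy, cent_sq 0 j x hx⟩

theorem w0_ncomm : ∀ j : ZMod 4, ¬ w0 0 j * w0 0 (j + 1) = w0 0 (j + 1) * w0 0 j := by decide +kernel

theorem zmod2_cases : ∀ i : ZMod 2, i = 0 ∨ i = 1 := by decide +kernel

theorem zmod4_cases : ∀ j : ZMod 4, j = 0 ∨ j = 2 ∨ j = 1 ∨ j = 3 := by decide +kernel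

theorem cent_normal : ∀ (i : ZMod 2) (j : ZMod 4) (x y : T0), x * w0 i j = w0 i j * x →
    y * x * y⁻¹ * w0 i j = w0 i j * (y * x * y⁻¹) := by decide +kernel

theorem cent_same : ∀ (i i' : ZMod 2) (j : ZMod 4) (y : T0),
    y * w0 i j = w0 i j * y ↔ y * w0 i' j = w0 i' j * y := by decide +kernel

theorem cent_shift : ∀ (i : ZMod 2) (j : ZMod 4) (y : T0),
    y * w0 i j = w0 i j * y ↔ y * w0 i (j + 2) = w0 i (j + 2) * y := by decide +kernel

theorem pair_conj : ∀ (i : ZMod 2) (j : ZMod 4), ∃ y : T0, y * w0 i j * y⁻¹ = w0 i (j + 2) := by decide +kernel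

theorem w0_ne : ∀ (i : ZMod 2) (j : ZMod 4), w0 i j ≠ a0 ∧ w0 i j * w0 i j = 1 := by decide +kernel

theorem lam_exists : ∀ p q : ZMod 2, ∃ f : T0 → ZMod 2, (∀ x y, f (x * y) = f x + f y) ∧ f a0 = 1 ∧
    f z0 = 0 ∧ f (w0 p 0) = 1 ∧ f (w0 p 2) = 1 ∧ f (w0 q 1) = 1 ∧ f (w0 q 3) = 1 := by
  intro p q
  refine ⟨fun x => Multiplicative.toAdd x.1 + match x.2 with
    | .r k => (k.val : ZMod 2) * (p + q)
    | .sr k => 1 + p + (k.val : ZMod 2) * (p + q), ?_⟩
  revert p q
  decide +kernel

theorem not_false {G : Type*} [Group G] [Finite G] (S : Sylow 2 G) (e : T0 ≃* (S : Subgroup G))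
    (hno : ∀ M : Subgroup G, M.Normal → M.index ≠ 2) : False := by
  haveI := Fact.mk Nat.prime_two
  classical
  let el : T0 →* G := (S : Subgroup G).subtype.comp e.toMonoidHom
  have el_inj : Function.Injective el := fun x y h => e.injective (Subtype.ext h)
  have el_mem : ∀ x, el x ∈ (S : Subgroup G) := fun x => (e x).2
  have el_surj : ∀ g ∈ (S : Subgroup G), ∃ x, el x = g := fun g hg =>
    ⟨e.symm ⟨g, hg⟩, congrArg Subtype.val (e.apply_symm_apply _)⟩
  -- an element of `N(S)` with square in a subgroup containing `S` lies in that subgroup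
  have oddpow : ∀ n ∈ Subgroup.normalizer ((S : Subgroup G) : Set G), ∀ C : Subgroup G,
      (S : Subgroup G) ≤ C → n * n ∈ C → n ∈ C := by
    intro n hn C hC h2
    set N := Subgroup.normalizer ((S : Subgroup G) : Set G)
    haveI : ((S : Subgroup G).subgroupOf N).Normal := Subgroup.normal_in_normalizer
    have hodd : ¬ 2 ∣ ((S : Subgroup G).subgroupOf N).index := fun h => S.not_dvd_index
      (h.trans (Subgroup.relIndex_dvd_index_of_le Subgroup.le_normalizer))
    obtain ⟨m, hm⟩ := Nat.odd_iff.mpr (Nat.two_dvd_ne_zero.mp hodd)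
    have hmem : n ^ (2 * m + 1) ∈ C := by
      have := Subgroup.pow_index_mem ((S : Subgroup G).subgroupOf N) (⟨n, hn⟩ : N)
      rw [hm, Subgroup.mem_subgroupOf, Subgroup.coe_pow] at this
      exact hC this
    rw [pow_succ, pow_mul, pow_two] at hmem
    exact (Subgroup.mul_mem_cancel_left _ (pow_mem h2 _)).mp hmem
  -- central elements conjugate in `G` are conjugate in `N(S)`
  have burnside : ∀ x y : T0, (∀ t, t * x = x * t) → (∀ t, t * y = y * t) → IsConj (el x) (el y) →
      ∃ n ∈ Subgroup.normalizer ((S : Subgroup G) : Set G), n * el x * n⁻¹ = el y := by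
    intro x y hx hy hc
    have hle : ∀ v : T0, (∀ t, t * v = v * t) → el v ∈ Subgroup.centralizer ((S : Subgroup G) : Set G) := by
      intro v hv
      refine Subgroup.mem_centralizer_iff.mpr fun g hg => ?_
      obtain ⟨t, rfl⟩ := el_surj g hg
      rw [← map_mul, hv, map_mul]
    obtain ⟨g, hg⟩ := isConj_iff.mp hc
    obtain ⟨n, hn, hn'⟩ := S.conj_eq_normalizer_conj_of_mem_centralizer (el x) g⁻¹ (hle x hx)
      (by rw [inv_inv, hg]; exact hle y hy)
    refine ⟨n⁻¹, inv_mem hn, ?_⟩
    rw [inv_inv, ← hn', inv_inv, hg]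
  have hfixz : ∀ n ∈ Subgroup.normalizer ((S : Subgroup G) : Set G), n * el z0 * n⁻¹ = el z0 := by
    intro n hn
    have hz : el z0 = el (1, DihedralGroup.r 1) * el (1, DihedralGroup.r 1) := by
      rw [← map_mul]; rfl
    obtain ⟨x, hx⟩ := el_surj _ ((Subgroup.mem_normalizer_iff.mp hn _).mp (el_mem (1, DihedralGroup.r 1)))
    have he : n * el z0 * n⁻¹ = el (x * x) := by rw [map_mul, hx, hz]; group
    rcases sq_cases x with h | h
    · exfalso
      rw [h, map_one, conj_eq_one_iff, ← map_one el] at he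
      exact absurd (el_inj he) (by decide +kernel)
    · rw [he, h]
  have hfixa : ∀ n ∈ Subgroup.normalizer ((S : Subgroup G) : Set G), n * el a0 * n⁻¹ = el a0 := by
    intro n hn
    obtain ⟨x, hx⟩ := el_surj _ ((Subgroup.mem_normalizer_iff.mp hn _).mp (el_mem a0))
    have hc : ∀ y, x * y = y * x := by
      intro y
      refine el_inj ?_
      rw [map_mul, map_mul, hx]
      obtain ⟨y', hy'⟩ := el_surj _
        ((Subgroup.mem_normalizer_iff.mp (inv_mem hn) _).mp (el_mem y))
      rw [inv_inv] at hy'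
      have h := congrArg el (a0_central y')
      rw [map_mul, map_mul, hy'] at h
      calc n * el a0 * n⁻¹ * el y = n * (el a0 * (n⁻¹ * el y * n)) * n⁻¹ := by group
        _ = n * (n⁻¹ * el y * n * el a0) * n⁻¹ := by rw [h]
        _ = el y * (n * el a0 * n⁻¹) := by group
    rcases center_cases x hc with rfl | rfl | rfl | rfl
    · rw [map_one, eq_comm, conj_eq_one_iff, ← map_one el] at hx
      exact absurd (el_inj hx) (by decide +kernel)
    · exact hx.symm
    · rw [← hfixz n hn] at hx
      exact absurd (el_inj (mul_left_cancel (mul_right_cancel hx.symm))) (by decide +kernel)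
    · exfalso
      have hsq : n * n ∈ Subgroup.centralizer ({el a0} : Set G) := by
        refine Subgroup.mem_centralizer_singleton_iff.mpr (mul_inv_eq_iff_eq_mul.mp ?_)
        have h1 : n * el z0 * n⁻¹ = el z0 := hfixz n hn
        calc n * n * el a0 * (n * n)⁻¹ = n * (n * el a0 * n⁻¹) * n⁻¹ := by group
          _ = n * (el a0 * el z0) * n⁻¹ := by rw [← hx, map_mul]
          _ = n * el a0 * n⁻¹ * (n * el z0 * n⁻¹) := by group
          _ = el a0 := by
            rw [h1, ← hx, ← map_mul, mul_assoc, show z0 * z0 = 1 by decide +kernel, mul_one]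
      have hSC : (S : Subgroup G) ≤ Subgroup.centralizer ({el a0} : Set G) := fun g hg => by
        obtain ⟨t, rfl⟩ := el_surj g hg
        exact Subgroup.mem_centralizer_singleton_iff.mpr (by rw [← map_mul, ← map_mul, a0_central])
      have := Subgroup.mem_centralizer_singleton_iff.mp (oddpow n hn _ hSC hsq)
      rw [this, mul_inv_cancel_right] at hx
      exact absurd (el_inj hx) (by decide +kernel)
  -- central classes
  have za : ¬ IsConj (el z0) (el a0) := fun h => by
    obtain ⟨n, hn, hn'⟩ := burnside z0 a0 z0_central a0_central h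
    rw [hfixz n hn] at hn'
    exact absurd (el_inj hn') (by decide +kernel)
  have az_central : ∀ t : T0, t * (a0 * z0) = a0 * z0 * t := by decide +kernel
  have zaz : ¬ IsConj (el z0) (el (a0 * z0)) := fun h => by
    obtain ⟨n, hn, hn'⟩ := burnside z0 _ z0_central az_central h
    rw [hfixz n hn] at hn'
    exact absurd (el_inj hn') (by decide +kernel)
  have aza : ¬ IsConj (el (a0 * z0)) (el a0) := fun h => by
    obtain ⟨n, hn, hn'⟩ := burnside _ a0 az_central a0_central h
    rw [map_mul, show n * (el a0 * el z0) * n⁻¹ = n * el a0 * n⁻¹ * (n * el z0 * n⁻¹) by group,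
      hfixa n hn, hfixz n hn, ← map_mul] at hn'
    exact absurd (el_inj hn') (by decide +kernel)
  -- the two elementary abelian subgroups of order 8
  let E : ZMod 4 → Subgroup G := fun j => (Subgroup.centralizer ({w0 0 j} : Set T0)).map el
  have hE : ∀ j y, el y ∈ E j ↔ y * w0 0 j = w0 0 j * y := fun j y => by
    simp only [E, Subgroup.mem_map_iff_mem el_inj, Subgroup.mem_centralizer_singleton_iff]
  have hES : ∀ j, E j ≤ (S : Subgroup G) := fun j => by
    rintro _ ⟨y, -, rfl⟩; exact el_mem y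
  have hEcard : ∀ j, Nat.card (E j) = 8 := fun j => by
    rw [Subgroup.card_map_of_injective el_inj, ← cent_card 0 j, ← Fintype.card_subtype, ← Nat.card_eq_fintype_card]
    exact Nat.card_congr (Equiv.subtypeEquivRight fun y => Subgroup.mem_centralizer_singleton_iff)
  have hE2 : ∀ j, E (j + 2) = E j := fun j => by
    refine le_antisymm ?_ ?_ <;> rintro _ ⟨y, hy, rfl⟩ <;>
      rw [SetLike.mem_coe, Subgroup.mem_centralizer_singleton_iff] at hy <;> rw [hE]
    · exact (cent_shift 0 j y).mpr hy
    · exact (cent_shift 0 j y).mp hy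
  have hEne : ∀ j, E (j + 1) ≠ E j := fun j h => by
    have hm : el (w0 0 j) ∈ E j := (hE _ _).mpr rfl
    rw [← h, hE] at hm
    exact w0_ncomm j hm
  have hEN : ∀ j, (S : Subgroup G) ≤ Subgroup.normalizer (E j : Set G) := fun j g hg => by
    obtain ⟨t, rfl⟩ := el_surj g hg
    have key : ∀ t x, el x ∈ E j → el t * el x * (el t)⁻¹ ∈ E j := fun t x hx => by
      rw [← map_inv, ← map_mul, ← map_mul, hE]
      exact cent_normal 0 j x t ((hE _ _).mp hx)
    refine Subgroup.mem_normalizer_iff.mpr fun h => ⟨fun hh => ?_, fun hh => ?_⟩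
    · obtain ⟨x, rfl⟩ := el_surj h (hES j hh)
      exact key t x hh
    · obtain ⟨x, hx⟩ := el_surj _ (hES j hh)
      have := key t⁻¹ x (hx ▸ hh)
      rw [hx, map_inv] at this
      simpa [mul_assoc] using this
  have hclass : ∀ (h : G) (j : ZMod 4), (E j).map (MulAut.conj h).toMonoidHom ≤ (S : Subgroup G) →
      ∃ j', (E j).map (MulAut.conj h).toMonoidHom = E j' := by
    intro h j hle
    set F := (E j).map (MulAut.conj h).toMonoidHom with hF
    have hFcard : Nat.card F = 8 := by
      rw [hF, Subgroup.card_map_of_injective (MulAut.conj h).injective, hEcard]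
    have hFprop : ∀ x ∈ F, x * x = 1 ∧ ∀ y ∈ F, x * y = y * x := by
      rintro _ ⟨x, hx, rfl⟩
      obtain ⟨x, rfl⟩ := el_surj x (hES j hx)
      have hx' := (hE _ _).mp hx
      refine ⟨?_, ?_⟩
      · rw [← map_mul, ← map_mul, (cent_comm j x x hx' hx').2, map_one, map_one]
      · rintro _ ⟨y, hy, rfl⟩
        obtain ⟨y, rfl⟩ := el_surj y (hES j hy)
        rw [← map_mul, ← map_mul el, (cent_comm j x y hx' ((hE _ _).mp hy)).1, map_mul el, map_mul]
    obtain ⟨k, hk, hknc⟩ : ∃ k, el k ∈ F ∧ ¬ ∀ y, k * y = y * k := by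
      by_contra hall
      push Not at hall
      let f : F → {y : T0 // ∀ x, y * x = x * y} := fun g =>
        ⟨(el_surj g.1 (hle g.2)).choose, hall _ (by rw [(el_surj g.1 (hle g.2)).choose_spec]; exact g.2)⟩
      have hf : Function.Injective f := fun g g' hgg => Subtype.ext (by
        rw [← (el_surj g.1 (hle g.2)).choose_spec, ← (el_surj g'.1 (hle g'.2)).choose_spec]
        exact congrArg (fun q => el q.1) hgg)
      have := Nat.card_le_card_of_injective f hf
      rw [hFcard, Nat.card_eq_fintype_card, Fintype.card_subtype, center_card] at this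
      omega
    obtain ⟨hk2, hkc⟩ := hFprop _ hk
    rw [← map_mul, ← map_one el] at hk2
    rcases invol_cases k (el_inj hk2) with hc | ⟨i', j', rfl⟩
    · exact absurd hc hknc
    · refine ⟨j', Subgroup.eq_of_le_of_card_ge (fun g hg => ?_) (by rw [hEcard, hFcard])⟩
      obtain ⟨y, rfl⟩ := el_surj g (hle hg)
      rw [hE, ← cent_same i' 0 j' y]
      have := hkc _ hg
      rw [← map_mul, ← map_mul] at this
      exact (el_inj this).symm
  -- fusion of a noncentral involution with `a` is realized in the normalizer of its elementary subgroup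
  have hlocal : ∀ i j, IsConj (el (w0 i j)) (el a0) →
      ∃ h ∈ Subgroup.normalizer (E j : Set G), h * el (w0 i j) * h⁻¹ = el a0 := by
    intro i j hc
    obtain ⟨g, hg⟩ := isConj_iff.mp hc
    set Ca := Subgroup.centralizer ({el a0} : Set G) with hCa
    have hSC : (S : Subgroup G) ≤ Ca := fun g hg => by
      obtain ⟨t, rfl⟩ := el_surj g hg
      exact Subgroup.mem_centralizer_singleton_iff.mpr (by rw [← map_mul, ← map_mul, a0_central])
    have hEC : (E j).map (MulAut.conj g).toMonoidHom ≤ Ca := by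
      rintro _ ⟨x, hx, rfl⟩
      obtain ⟨x, rfl⟩ := el_surj x (hES j hx)
      have hx' := congrArg el ((cent_same 0 i j x).mp ((hE _ _).mp hx))
      rw [map_mul, map_mul] at hx'
      refine Subgroup.mem_centralizer_singleton_iff.mpr ?_
      show g * el x * g⁻¹ * el a0 = el a0 * (g * el x * g⁻¹)
      rw [← hg]
      calc g * el x * g⁻¹ * (g * el (w0 i j) * g⁻¹) = g * (el x * el (w0 i j)) * g⁻¹ := by group
        _ = g * (el (w0 i j) * el x) * g⁻¹ := by rw [hx']
        _ = g * el (w0 i j) * g⁻¹ * (g * el x * g⁻¹) := by group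
    have hp : IsPGroup 2 (((E j).map (MulAut.conj g).toMonoidHom).subgroupOf Ca) :=
      IsPGroup.of_card (n := 3) (by
        rw [Nat.card_congr (Subgroup.subgroupOfEquivOfLe hEC).toEquiv,
          Subgroup.card_map_of_injective (MulAut.conj g).injective, hEcard]; norm_num)
    obtain ⟨R, hR⟩ := hp.exists_le_sylow
    obtain ⟨c, hc'⟩ := MulAction.exists_smul_eq Ca R (S.subtype hSC)
    set h : G := (c : G) * g with hh
    have hhw : h * el (w0 i j) * h⁻¹ = el a0 := by
      rw [hh, show (c : G) * g * el (w0 i j) * ((c : G) * g)⁻¹ =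
        (c : G) * (g * el (w0 i j) * g⁻¹) * (c : G)⁻¹ by group, hg,
        Subgroup.mem_centralizer_singleton_iff.mp c.2, mul_inv_cancel_right]
    have hle : (E j).map (MulAut.conj h).toMonoidHom ≤ (S : Subgroup G) := by
      rintro _ ⟨x, hx, rfl⟩
      have hm : (⟨g * x * g⁻¹, hEC ⟨x, hx, rfl⟩⟩ : Ca) ∈ (R : Subgroup Ca) := hR ⟨x, hx, rfl⟩
      have hm' : c * ⟨g * x * g⁻¹, hEC ⟨x, hx, rfl⟩⟩ * c⁻¹ ∈ ((c • R : Sylow 2 Ca) : Subgroup Ca) := by
        rw [Sylow.coe_subgroup_smul]; exact ⟨_, hm, rfl⟩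
      rw [hc'] at hm'
      have hm'' : (c : G) * (g * x * g⁻¹) * (c : G)⁻¹ ∈ (S : Subgroup G) := hm'
      show (c : G) * g * x * ((c : G) * g)⁻¹ ∈ (S : Subgroup G)
      rwa [show (c : G) * g * x * ((c : G) * g)⁻¹ = (c : G) * (g * x * g⁻¹) * (c : G)⁻¹ by group]
    obtain ⟨j', hj'⟩ := hclass h j hle
    have hcases : E j' = E j ∨ E j' = E (j + 1) := by
      have : ∀ j j' : ZMod 4, j' = j ∨ j' = j + 2 ∨ j' = j + 1 ∨ j' = j + 1 + 2 := by decide +kernel
      rcases this j j' with e | e | e | e <;> subst e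
      · exact Or.inl rfl
      · exact Or.inl (hE2 j)
      · exact Or.inr rfl
      · exact Or.inr (hE2 (j + 1))
    rcases hcases with e | e
    · refine ⟨h, ?_, hhw⟩
      exact Subgroup.mem_normalizer_iff.mpr fun x => by
        conv_rhs => rw [← e, ← hj']
        rw [Subgroup.mem_map]
        exact ⟨fun hx => ⟨x, hx, rfl⟩, fun ⟨y, hy, hyx⟩ => (MulAut.conj h).injective hyx ▸ hy⟩
    · exfalso
      rw [e] at hj'
      -- `E j` and `E (j+1)` would be conjugate in `N(S)`
      set N' := Subgroup.normalizer (E (j + 1) : Set G) with hN'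
      have hmapN : (S : Subgroup G).map (MulAut.conj h).toMonoidHom ≤ N' := by
        rintro _ ⟨x, hx, rfl⟩
        refine Subgroup.mem_normalizer_iff.mpr fun y => ?_
        show y ∈ E (j + 1) ↔ h * x * h⁻¹ * y * (h * x * h⁻¹)⁻¹ ∈ E (j + 1)
        have hmem : ∀ z, z ∈ E (j + 1) ↔ h⁻¹ * z * h ∈ E j := fun z => by
          rw [← hj', Subgroup.mem_map]
          exact ⟨fun ⟨w, hw, hwz⟩ => by rw [← hwz]; simpa [mul_assoc] using hw,
            fun hz => ⟨_, hz, by simp [mul_assoc]⟩⟩
        rw [hmem, hmem, show h⁻¹ * (h * x * h⁻¹ * y * (h * x * h⁻¹)⁻¹) * h = x * (h⁻¹ * y * h) * x⁻¹ by group]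
        exact Subgroup.mem_normalizer_iff.mp (hEN j hx) _
      have hSi : ¬ 2 ∣ ((S : Subgroup G).map (MulAut.conj h).toMonoidHom).index := by
        rw [show ((S : Subgroup G).map (MulAut.conj h).toMonoidHom).index = (S : Subgroup G).index from
          Subgroup.index_map_equiv _ (MulAut.conj h)]
        exact S.not_dvd_index
      let S' : Sylow 2 G := (S.2.map (MulAut.conj h).toMonoidHom).toSylow hSi
      obtain ⟨m, hm⟩ := MulAction.exists_smul_eq N' (S'.subtype hmapN) (S.subtype (hEN (j + 1)))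
      set n : G := (m : G) * h with hn
      have hnS : n ∈ Subgroup.normalizer ((S : Subgroup G) : Set G) := by
        have key : ∀ x ∈ (S : Subgroup G), n * x * n⁻¹ ∈ (S : Subgroup G) := by
          intro x hx
          have h1 : (⟨h * x * h⁻¹, hmapN ⟨x, hx, rfl⟩⟩ : N') ∈ ((S'.subtype hmapN : Sylow 2 N') : Subgroup N') :=
            ⟨x, hx, rfl⟩
          have h2 : m * ⟨h * x * h⁻¹, hmapN ⟨x, hx, rfl⟩⟩ * m⁻¹ ∈
              ((m • S'.subtype hmapN : Sylow 2 N') : Subgroup N') := by
            rw [Sylow.coe_subgroup_smul]; exact ⟨_, h1, rfl⟩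
          rw [hm] at h2
          have h3 : (m : G) * (h * x * h⁻¹) * (m : G)⁻¹ ∈ (S : Subgroup G) := h2
          rwa [hn, show (m : G) * h * x * ((m : G) * h)⁻¹ = (m : G) * (h * x * h⁻¹) * (m : G)⁻¹ by group]
        have hmap : (S : Subgroup G).map (MulAut.conj n).toMonoidHom = (S : Subgroup G) :=
          Subgroup.eq_of_le_of_card_ge (by rintro _ ⟨x, hx, rfl⟩; exact key x hx)
            (le_of_eq (Subgroup.card_map_of_injective (MulAut.conj n).injective).symm)
        refine Subgroup.mem_normalizer_iff.mpr fun x => ⟨key x, fun hx => ?_⟩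
        rw [← hmap, Subgroup.mem_map] at hx
        obtain ⟨y, hy, hyx⟩ := hx
        exact (MulAut.conj n).injective hyx ▸ hy
      have hnE : (E j).map (MulAut.conj n).toMonoidHom = E (j + 1) := by
        ext y
        rw [Subgroup.mem_map]
        have hmN := Subgroup.mem_normalizer_iff.mp m.2
        constructor
        · rintro ⟨x, hx, rfl⟩
          show (m : G) * h * x * ((m : G) * h)⁻¹ ∈ E (j + 1)
          rw [show (m : G) * h * x * ((m : G) * h)⁻¹ = (m : G) * (h * x * h⁻¹) * (m : G)⁻¹ by group]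
          exact (hmN _).mp (hj' ▸ ⟨x, hx, rfl⟩)
        · intro hy
          have h1 : (m : G)⁻¹ * y * (m : G) ∈ E (j + 1) := (hmN _).mpr (by simpa [mul_assoc] using hy)
          rw [← hj', Subgroup.mem_map] at h1
          obtain ⟨x, hx, hxy⟩ := h1
          refine ⟨x, hx, ?_⟩
          show (m : G) * h * x * ((m : G) * h)⁻¹ = y
          rw [show (m : G) * h * x * ((m : G) * h)⁻¹ = (m : G) * (MulAut.conj h).toMonoidHom x * (m : G)⁻¹ by
            simp [mul_assoc], hxy]
          group
      obtain ⟨j'', hj''⟩ := hclass n (j + 1) (by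
        rintro _ ⟨x, hx, rfl⟩; exact (Subgroup.mem_normalizer_iff.mp hnS x).mp (hES _ hx))
      have hj2 : E j'' = E j := by
        have : ∀ j j' : ZMod 4, j' = j ∨ j' = j + 2 ∨ j' = j + 1 ∨ j' = j + 1 + 2 := by decide +kernel
        have hne : E j'' ≠ E (j + 1) := fun he => hEne j
          (Subgroup.map_injective (MulAut.conj n).injective ((hj''.trans he).trans hnE.symm))
        rcases this j j'' with e | e | e | e <;> subst e
        · rfl
        · exact hE2 j
        · exact absurd rfl hne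
        · exact absurd (hE2 (j + 1)) hne
      have hnn : n * n ∈ Subgroup.normalizer (E j : Set G) := by
        have heq : (E j).map (MulAut.conj (n * n)).toMonoidHom = E j := by
          have hcomp : (MulAut.conj (n * n)).toMonoidHom =
              (MulAut.conj n).toMonoidHom.comp (MulAut.conj n).toMonoidHom := by
            ext x; simp [mul_assoc]
          rw [hcomp, ← Subgroup.map_map, hnE, hj'', hj2]
        refine Subgroup.mem_normalizer_iff.mpr fun x => ?_
        conv_rhs => rw [← heq]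
        rw [Subgroup.mem_map]
        exact ⟨fun hx => ⟨x, hx, rfl⟩, fun ⟨y, hy, hyx⟩ => (MulAut.conj (n * n)).injective hyx ▸ hy⟩
      have hnNE := Subgroup.mem_normalizer_iff.mp (oddpow n hnS _ (hEN j) hnn)
      exact hEne j (hnE.symm.trans (le_antisymm (by rintro _ ⟨x, hx, rfl⟩; exact (hnNE x).mp hx)
        (fun y hy => ⟨n⁻¹ * y * n, (hnNE _).mpr (by simpa [mul_assoc] using hy), by simp [mul_assoc]⟩)))
  -- at most one pair in each subgroup is fused with `a`
  have hone : ∀ j, ¬ (IsConj (el (w0 0 j)) (el a0) ∧ IsConj (el (w0 1 j)) (el a0)) := by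
    rintro j ⟨h0, h1⟩
    have hshift : ∀ i, IsConj (el (w0 i j)) (el a0) → IsConj (el (w0 i (j + 2))) (el a0) := fun i hi => by
      obtain ⟨y, hy⟩ := pair_conj i j
      exact IsConj.trans (isConj_iff.mpr ⟨el y, by rw [← map_mul, ← map_inv, ← map_mul, hy]⟩ :
        IsConj (el (w0 i j)) (el (w0 i (j + 2)))).symm hi
    have hw : ∀ i', IsConj (el (w0 i' j)) (el a0) ∧ IsConj (el (w0 i' (j + 2))) (el a0) := fun i' => by
      rcases zmod2_cases i' with rfl | rfl
      · exact ⟨h0, hshift 0 h0⟩
      · exact ⟨h1, hshift 1 h1⟩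
    obtain ⟨h, hN, hh⟩ := hlocal 0 j h0
    have himg : ∀ x, el x ∈ E j → ∃ y, el y = h * el x * h⁻¹ ∧ IsConj (el x) (el y) ∧
        (y = 1 ∨ y = a0 ∨ y = z0 ∨ y = a0 * z0 ∨ IsConj (el y) (el a0)) := fun x hx => by
      have hm := (Subgroup.mem_normalizer_iff.mp hN _).mp hx
      obtain ⟨y, hy⟩ := el_surj _ (hES j hm)
      refine ⟨y, hy, isConj_iff.mpr ⟨h, hy.symm⟩, ?_⟩
      rcases cent_cases 0 j y ((hE _ _).mp (hy ▸ hm)) with e | e | e | e | ⟨i', e | e⟩
      · exact Or.inl e
      · exact Or.inr (Or.inl e)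
      · exact Or.inr (Or.inr (Or.inl e))
      · exact Or.inr (Or.inr (Or.inr (Or.inl e)))
      · subst e; exact Or.inr (Or.inr (Or.inr (Or.inr (hw i').1)))
      · subst e; exact Or.inr (Or.inr (Or.inr (Or.inr (hw i').2)))
    have hzfix : h * el z0 * h⁻¹ = el z0 := by
      obtain ⟨y, hy, hc, hcase⟩ := himg z0 ((hE _ _).mpr (z0_central _).symm)
      rcases hcase with rfl | rfl | rfl | rfl | hya
      · rw [map_one, eq_comm, conj_eq_one_iff, ← map_one el] at hy
        exact absurd (el_inj hy) (by decide +kernel)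
      · exact absurd hc za
      · exact hy.symm
      · exact absurd hc zaz
      · exact absurd (hc.trans hya) za
    have hazfix : h * el (a0 * z0) * h⁻¹ = el (a0 * z0) := by
      obtain ⟨y, hy, hc, hcase⟩ := himg (a0 * z0) ((hE _ _).mpr (az_central _).symm)
      rcases hcase with rfl | rfl | rfl | rfl | hya
      · rw [map_one, eq_comm, conj_eq_one_iff, ← map_one el] at hy
        exact absurd (el_inj hy) (by decide +kernel)
      · exact absurd hc aza
      · exact absurd hc.symm zaz
      · exact hy.symm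
      · exact absurd (hc.trans hya) aza
    have hafix : h * el a0 * h⁻¹ = el a0 := by
      have e1 : el a0 = el (a0 * z0) * el z0 := by
        rw [← map_mul]; exact congrArg el (by decide +kernel)
      calc h * el a0 * h⁻¹ = (h * el (a0 * z0) * h⁻¹) * (h * el z0 * h⁻¹) := by rw [e1]; group
        _ = el a0 := by rw [hazfix, hzfix, ← e1]
    exact (w0_ne 0 j).1 (el_inj (mul_left_cancel (mul_right_cancel (hh.trans hafix.symm))))
  have hpq : ∀ j, ∃ p : ZMod 2, ∀ i, IsConj (el (w0 i j)) (el a0) → i = p := by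
    intro j
    by_cases h : IsConj (el (w0 0 j)) (el a0)
    · refine ⟨0, fun i hi => ?_⟩
      rcases zmod2_cases i with rfl | rfl
      · rfl
      · exact absurd ⟨h, hi⟩ (hone j)
    · refine ⟨1, fun i hi => ?_⟩
      rcases zmod2_cases i with rfl | rfl
      · exact absurd hi h
      · rfl
  obtain ⟨p, hp⟩ := hpq 0
  obtain ⟨q, hq⟩ := hpq 1
  obtain ⟨f, hf, hfa, hfz, hp0, hp2, hq1, hq3⟩ := lam_exists p q
  let F : T0 →* Multiplicative (ZMod 2) := MonoidHom.mk' (fun x => Multiplicative.ofAdd (f x))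
    (fun x y => by rw [hf]; rfl)
  have hFsurj : Function.Surjective F := fun m => by
    rcases (show ∀ m : Multiplicative (ZMod 2), m = 1 ∨ m = Multiplicative.ofAdd 1 by decide) m with rfl | rfl
    · exact ⟨1, map_one F⟩
    · exact ⟨a0, congrArg Multiplicative.ofAdd hfa⟩
  have hrange : el.range = (S : Subgroup G) :=
    le_antisymm (by rintro _ ⟨x, rfl⟩; exact el_mem x) fun g hg => el_surj g hg
  have hrel : (F.ker.map el).relIndex (S : Subgroup G) = 2 := by
    rw [← hrange, MonoidHom.range_eq_map, Subgroup.relIndex_map_map_of_injective _ _ el_inj,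
      Subgroup.relIndex_top_right, Subgroup.index_ker, MonoidHom.range_eq_top.mpr hFsurj, Subgroup.card_top,
      Nat.card_eq_fintype_card]
    rfl
  have hker : ∀ x, el x ∈ F.ker.map el → f x = 0 := fun x hx => by
    rw [Subgroup.mem_map_iff_mem el_inj, MonoidHom.mem_ker] at hx
    exact congrArg Multiplicative.toAdd hx
  have hQle : F.ker.map el ≤ (S : Subgroup G) := by rintro _ ⟨x, -, rfl⟩; exact el_mem x
  have hconj : ∀ g : G, g * el a0 * g⁻¹ ∉ F.ker.map el := by
    intro g hg
    obtain ⟨x, hx⟩ := el_surj _ (hQle hg)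
    have hf0 : f x = 0 := hker x (hx ▸ hg)
    have hc : IsConj (el x) (el a0) := (isConj_iff.mpr ⟨g, hx.symm⟩ : IsConj (el a0) (el x)).symm
    have hx2 : x * x = 1 := el_inj (by
      rw [map_mul, map_one, hx, show g * el a0 * g⁻¹ * (g * el a0 * g⁻¹) = g * (el a0 * el a0) * g⁻¹ by group,
        ← map_mul el a0, show a0 * a0 = 1 by decide +kernel, map_one]
      group)
    rcases invol_cases x hx2 with hcen | ⟨i, j, rfl⟩
    · rcases center_cases x hcen with rfl | rfl | rfl | rfl
      · rw [map_one, eq_comm, conj_eq_one_iff, ← map_one el] at hx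
        exact absurd (el_inj hx) (by decide +kernel)
      · rw [hfa] at hf0; exact absurd hf0 (by decide)
      · exact za hc
      · rw [hf, hfa, hfz] at hf0; exact absurd hf0 (by decide)
    · rcases zmod4_cases j with rfl | rfl | rfl | rfl
      · obtain rfl := hp i hc
        rw [hp0] at hf0; exact absurd hf0 (by decide)
      · obtain ⟨y, hy⟩ := pair_conj i 2
        obtain rfl := hp i (IsConj.trans (isConj_iff.mpr ⟨el y, by
          rw [← map_mul, ← map_inv, ← map_mul, hy]; rfl⟩ : IsConj (el (w0 i 2)) (el (w0 i 0))).symm hc)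
        rw [hp2] at hf0; exact absurd hf0 (by decide)
      · obtain rfl := hq i hc
        rw [hq1] at hf0; exact absurd hf0 (by decide)
      · obtain ⟨y, hy⟩ := pair_conj i 3
        obtain rfl := hq i (IsConj.trans (isConj_iff.mpr ⟨el y, by
          rw [← map_mul, ← map_inv, ← map_mul, hy]; rfl⟩ : IsConj (el (w0 i 3)) (el (w0 i 1))).symm hc)
        rw [hq3] at hf0; exact absurd hf0 (by decide)
  obtain ⟨M, hM, hidx, -⟩ := Transfer.exists_index_two_of_involution S (F.ker.map el) hQle hrel (el a0)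
    (by rw [pow_two, ← map_mul, show a0 * a0 = 1 by decide +kernel, map_one]) (el_mem a0)
    (fun h => hconj 1 (by simpa using h)) hconj
  exact hno M hM hidx

/-- A finite group whose Sylow 2-subgroups are isomorphic to the direct product of a group of order 2 and the dihedral group of order 8 is not a non-abelian simple group. -/
theorem result {G : Type*} [Group G] [Finite G] (S : Sylow 2 G) (hS : Nonempty (↥(S : Subgroup G) ≃* Multiplicative (ZMod 2) × DihedralGroup 4))
    [IsSimpleGroup G] (hG : ¬ IsMulCommutative G) : False := by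
  obtain ⟨e⟩ := hS
  refine not_false S e.symm fun M hM hidx => ?_
  rcases hM.eq_bot_or_eq_top with h | h
  · rw [h, Subgroup.index_bot] at hidx
    haveI : Fact (Nat.card G).Prime := ⟨hidx ▸ Nat.prime_two⟩
    haveI := isCyclic_of_prime_card (α := G) (p := Nat.card G) rfl
    exact hG ⟨⟨fun a b => by
      obtain ⟨g, hg⟩ := IsCyclic.exists_generator (α := G)
      obtain ⟨i, rfl⟩ := Subgroup.mem_zpowers_iff.mp (hg a)
      obtain ⟨j, rfl⟩ := Subgroup.mem_zpowers_iff.mp (hg b)
      exact (Commute.refl g).zpow_zpow i j⟩⟩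
  · rw [h, Subgroup.index_top] at hidx
    omega

end Cfsg.Agent.S3309
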