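import Cfsg.Statements.S3312
import Cfsg.Agent.Lib.ZStar.CosetAverage
import Cfsg.Agent.Lib.PCore.UpperSeries
import Cfsg.Agent.Lib.Invol.Basic

set_option autoImplicit false
open Cfsg

namespace Cfsg.Agent.S3312

set_option linter.style.haveILetI false

open Cfsg.Agent.Invol

variable {G : Type*} [Group G] [Finite G] {T : Sylow 2 G} {W : Subgroup G}

/-- Two conjugates of a weakly closed subgroup in a common 2-subgroup are equal. -/
theorem mem_normalizer_of_le (hwc : IsWeaklyClosed W (T : Subgroup G)) {P : Subgroup G}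
    (hP : IsPGroup 2 P) (hW : W ≤ P) {g : G}
    (hg : W.map (MulAut.conj g).toMonoidHom ≤ P) : ∀ w ∈ W, g * w * g⁻¹ ∈ W := by
  obtain ⟨Q, hQ⟩ := hP.exists_le_sylow
  obtain ⟨h, hh⟩ := MulAction.exists_smul_eq G Q T
  have hmem : ∀ x ∈ P, h * x * h⁻¹ ∈ (T : Subgroup G) := by
    intro x hx
    rw [← hh, Sylow.coe_subgroup_smul]
    exact ⟨x, hQ hx, rfl⟩
  have h1 : W.map (MulAut.conj h).toMonoidHom = W := hwc.2 h fun y hy => by
    obtain ⟨w, hw, rfl⟩ := hy
    exact hmem w (hW hw)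
  have h2 : W.map (MulAut.conj (h * g)).toMonoidHom = W := hwc.2 _ fun y hy => by
    obtain ⟨w, hw, rfl⟩ := hy
    have := hmem _ (hg (Subgroup.mem_map_of_mem _ hw))
    simpa [mul_assoc] using this
  intro w hw
  have h3 : (h * g) * w * (h * g)⁻¹ ∈ W := by
    have h4 : (MulAut.conj (h * g)).toMonoidHom w ∈ W.map (MulAut.conj (h * g)).toMonoidHom :=
      Subgroup.mem_map_of_mem _ hw
    rw [h2] at h4
    simpa [mul_assoc] using h4
  have h5 : h * (g * w * g⁻¹) * h⁻¹ ∈ W.map (MulAut.conj h).toMonoidHom := by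
    rw [h1]
    simpa [mul_assoc] using h3
  obtain ⟨w', hw', he⟩ := h5
  have he' : w' = g * w * g⁻¹ := (MulAut.conj h).injective (by simpa [mul_assoc] using he)
  exact he' ▸ hw'

/-- If `g w g⁻¹` and `W` are centralised by `y`, a conjugation in `C(y)` matches them. -/
theorem exists_centralizing (hwc : IsWeaklyClosed W (T : Subgroup G)) {y g : G}
    (h1 : ∀ w ∈ W, Commute w y) (h2 : ∀ w ∈ W, Commute (g * w * g⁻¹) y) :
    ∃ c : G, Commute c y ∧ ∀ w ∈ W, (c * g) * w * (c * g)⁻¹ ∈ W := by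
  set C := Subgroup.centralizer ({y} : Set G)
  have hW : W ≤ C := fun w hw => Subgroup.mem_centralizer_singleton_iff.mpr (h1 w hw).eq
  have hW2 : W.map (MulAut.conj g).toMonoidHom ≤ C := by
    rintro _ ⟨w, hw, rfl⟩
    exact Subgroup.mem_centralizer_singleton_iff.mpr (h2 w hw).eq
  have hp : IsPGroup 2 W := T.2.to_le hwc.1
  obtain ⟨P1, hP1⟩ := (hp.comap_of_injective C.subtype C.subtype_injective).exists_le_sylow
  obtain ⟨P2, hP2⟩ :=
    ((hp.map (MulAut.conj g).toMonoidHom).comap_of_injective C.subtype C.subtype_injective).exists_le_sylow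
  obtain ⟨c, hc⟩ := MulAction.exists_smul_eq C P2 P1
  refine ⟨c, (Subgroup.mem_centralizer_singleton_iff.mp c.2), ?_⟩
  refine mem_normalizer_of_le hwc (P1.2.map C.subtype)
    (fun w hw => ⟨⟨w, hW hw⟩, hP1 hw, rfl⟩) ?_
  rintro _ ⟨w, hw, rfl⟩
  have hm : (⟨g * w * g⁻¹, hW2 ⟨w, hw, rfl⟩⟩ : C) ∈ P2 := hP2 ⟨w, hw, rfl⟩
  refine ⟨c * ⟨g * w * g⁻¹, hW2 ⟨w, hw, rfl⟩⟩ * c⁻¹, ?_, by simp [mul_assoc]⟩
  rw [← hc]
  exact ⟨_, hm, rfl⟩

/-- An element of `T` conjugate to an element of `W` lies in `W`. -/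
theorem mem_of_isConj (hWZ : W ≤ (T : Subgroup G) ⊓ Subgroup.centralizer ((T : Subgroup G) : Set G))
    (hwc : IsWeaklyClosed W (T : Subgroup G)) {a y : G} (ha : a ∈ W)
    (hy : y ∈ (T : Subgroup G)) (hc : IsConj a y) : y ∈ W := by
  obtain ⟨g, rfl⟩ := isConj_iff.mp hc
  have h1 : ∀ w ∈ W, Commute w (g * a * g⁻¹) := fun w hw =>
    ((hWZ hw).2 _ hy).symm
  have h2 : ∀ w ∈ W, Commute (g * w * g⁻¹) (g * a * g⁻¹) := fun w hw =>
    (Commute.conj_iff g).mpr ((show a * w = w * a from ((hWZ hw).2 _ (hwc.1 ha)))).symm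
  obtain ⟨c, hc, hcW⟩ := exists_centralizing hwc h1 h2
  have := hcW a ha
  rwa [show (c * g) * a * (c * g)⁻¹ = g * a * g⁻¹ by
    rw [mul_inv_rev, ← mul_assoc, show c * g * a * g⁻¹ = c * (g * a * g⁻¹) by group, hc.eq,
      mul_inv_cancel_right]] at this

/-- A non-simplicity criterion by weak closure. Let T be a Sylow 2-subgroup of a finite group G, W a nontrivial subgroup of the centre of T that is weakly closed in T with respect to G, and t an involution of T outside W. Suppose that for every involution x in the coset Wt, W lies in O_{2',2}(C_G(x)), the preimage of O₂ of C_G(x)/O_{2'}(C_G(x)). Then G is not simple. -/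
theorem result {G : Type*} [Group G] [Finite G]
    (T : Sylow 2 G) (W : Subgroup G) (hW1 : W ≠ ⊥) (hWZ : W ≤ (T : Subgroup G) ⊓ Subgroup.centralizer ((T : Subgroup G) : Set G))
    (hwc : Cfsg.IsWeaklyClosed W (T : Subgroup G)) (t : G) (ht : orderOf t = 2) (htT : t ∈ (T : Subgroup G)) (htW : t ∉ W)
    (hcos : ∀ w ∈ W, orderOf (w * t) = 2 →
      W.subgroupOf (Subgroup.centralizer ({w * t} : Set G)) ≤ Cfsg.pPrimePCore 2 ↥(Subgroup.centralizer ({w * t} : Set G))) :
    ¬ IsSimpleGroup G := by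
  intro hsimple
  -- an involution of `W`
  obtain ⟨a, haW, ha⟩ : ∃ a ∈ W, orderOf a = 2 := by
    haveI : Nontrivial W := (Subgroup.nontrivial_iff_ne_bot W).mpr hW1
    obtain ⟨k, hk⟩ := IsPGroup.iff_card.mp (T.2.to_le hwc.1)
    have h2 : 2 ∣ Nat.card W := by
      rcases k with _ | k
      · simp [Finite.one_lt_card.ne'] at hk
      · exact hk ▸ dvd_pow_self 2 k.succ_ne_zero
    obtain ⟨x, hx⟩ := exists_prime_orderOf_dvd_card' 2 h2
    exact ⟨x, x.2, by rw [Subgroup.orderOf_coe, hx]⟩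
  let X : G → Prop := fun x => ∃ g w : G, w ∈ W ∧ orderOf (w * t) = 2 ∧ x = g * (w * t) * g⁻¹
  have hX2 : ∀ u, X u → orderOf u = 2 := by
    rintro _ ⟨g, w, hw, h2, rfl⟩
    rw [orderOf_conj_eq, h2]
  have hXc : ∀ u g, X u → X (g * u * g⁻¹) := by
    rintro _ g ⟨g', w, hw, h2, rfl⟩
    exact ⟨g * g', w, hw, h2, by group⟩
  have hwtT : ∀ w ∈ W, w * t ∈ (T : Subgroup G) := fun w hw => mul_mem (hwc.1 hw) htT
  -- `X` does not meet the class of `a`
  have hXa : ∀ u, X u → ¬ IsConj a u := by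
    rintro _ ⟨g, w, hw, h2, rfl⟩ hc
    have h := mem_of_isConj hWZ hwc haW (hwtT w hw)
      (hc.trans (isConj_iff.mpr ⟨g, rfl⟩).symm)
    exact htW ((Subgroup.mul_mem_cancel_left W hw).mp h)
  -- commuting pairs
  have hpair : ∀ u b, X u → IsConj a b → Commute u b → X (u * b) := by
    intro u b hu hb hcomm
    have hu2 := mul_self_of_orderOf_two (hX2 u hu)
    have hb2 : orderOf b = 2 := by
      obtain ⟨g, rfl⟩ := isConj_iff.mp hb
      rw [orderOf_conj_eq, ha]
    have hE : IsPGroup 2 (Subgroup.closure ({u, b} : Set G)) := by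
      refine (IsPGroup.iff_orderOf).mpr fun x => ?_
      have hx : (x : G) ^ 2 = 1 := by
        have hx2 := x.2
        suffices ∀ y ∈ Subgroup.closure ({u, b} : Set G), y ^ 2 = 1 ∧ Commute y u ∧ Commute y b from
          (this _ hx2).1
        intro y hy
        induction hy using Subgroup.closure_induction with
        | mem y hy =>
            rcases hy with rfl | hy
            · exact ⟨by rw [pow_two, hu2], Commute.refl _, hcomm⟩
            · rw [Set.mem_singleton_iff] at hy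
              subst hy
              exact ⟨by rw [pow_two, mul_self_of_orderOf_two hb2], hcomm.symm, Commute.refl _⟩
        | one => exact ⟨one_pow 2, Commute.one_left _, Commute.one_left _⟩
        | mul y z hy hz ihy ihz =>
            have hyz : Commute y z := by
              have hle : Subgroup.closure ({u, b} : Set G) ≤ Subgroup.centralizer ({y} : Set G) := by
                rw [Subgroup.closure_le]
                rintro v (rfl | hv)
                · exact Subgroup.mem_centralizer_singleton_iff.mpr ihy.2.1.symm.eq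
                · rw [Set.mem_singleton_iff] at hv
                  subst hv
                  exact Subgroup.mem_centralizer_singleton_iff.mpr ihy.2.2.symm.eq
              exact (Subgroup.mem_centralizer_singleton_iff.mp (hle hz)).symm
            exact ⟨by rw [hyz.mul_pow, ihy.1, ihz.1, one_mul], ihy.2.1.mul_left ihz.2.1,
              ihy.2.2.mul_left ihz.2.2⟩
        | inv y hy ih => exact ⟨by rw [inv_pow, ih.1, inv_one], ih.2.1.inv_left, ih.2.2.inv_left⟩
      have h2 : x ^ 2 = 1 := Subtype.ext (by simpa using hx)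
      obtain ⟨k, -, hk⟩ := (Nat.dvd_prime_pow Nat.prime_two).mp
        (show orderOf x ∣ 2 ^ 1 by simpa using orderOf_dvd_of_pow_eq_one h2)
      exact ⟨k, hk⟩
    obtain ⟨Q, hQ⟩ := hE.exists_le_sylow
    obtain ⟨h, hh⟩ := MulAction.exists_smul_eq G Q T
    have hin : ∀ x ∈ Subgroup.closure ({u, b} : Set G), h * x * h⁻¹ ∈ (T : Subgroup G) := by
      intro x hx
      rw [← hh, Sylow.coe_subgroup_smul]
      exact ⟨x, hQ hx, rfl⟩
    have huT := hin u (Subgroup.subset_closure (by simp))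
    have hbW : h * b * h⁻¹ ∈ W := mem_of_isConj hWZ hwc haW
      (hin b (Subgroup.subset_closure (by simp))) (hb.trans (isConj_iff.mpr ⟨h, rfl⟩))
    obtain ⟨g, w, hw, h2, hu'⟩ := hXc u h hu
    -- fusion in `C(W)` is controlled by `N(W)`
    obtain ⟨c, hc, hcW⟩ := exists_centralizing hwc (y := h * u * h⁻¹) (g := g)
      (fun x hx => ((hWZ hx).2 _ huT).symm)
      (fun x hx => by
        rw [hu']
        exact (Commute.conj_iff g).mpr ((hWZ hx).2 _ (hwtT w hw)).symm)
    set n := c * g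
    have hun : h * u * h⁻¹ = n * (w * t) * n⁻¹ := by
      have h3 : n * (w * t) * n⁻¹ = c * (g * (w * t) * g⁻¹) * c⁻¹ := by simp only [n]; group
      rw [h3, ← hu', hc.eq, mul_inv_cancel_right]
    have hninv : ∀ x ∈ W, n⁻¹ * x * n ∈ W := by
      intro x hx
      have hmap : W.map (MulAut.conj n).toMonoidHom = W :=
        Subgroup.eq_of_le_of_card_ge (by rintro _ ⟨y, hy, rfl⟩; simpa using hcW y hy)
          (by rw [Subgroup.card_map_of_injective (MulAut.conj n).injective])
      rw [← hmap] at hx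
      obtain ⟨y, hy, rfl⟩ := hx
      simpa [mul_assoc] using hy
    have hw' := hninv _ hbW
    set w' := n⁻¹ * (h * b * h⁻¹) * n
    have hcW2 : Commute w' (w * t) := ((hWZ hw').2 _ (hwtT w hw)).symm
    have he : h * (u * b) * h⁻¹ = n * ((w' * w) * t) * n⁻¹ := by
      rw [mul_assoc w', hcW2.eq]
      calc h * (u * b) * h⁻¹ = (h * u * h⁻¹) * (h * b * h⁻¹) := by group
        _ = n * (w * t) * n⁻¹ * (n * w' * n⁻¹) := by
            rw [hun]
            simp only [w']
            group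
        _ = _ := by group
    have hord : orderOf ((w' * w) * t) = 2 := by
      rw [← orderOf_conj_eq n, ← he, orderOf_conj_eq]
      have hne : u * b ≠ 1 := by
        intro h1
        have hub : u = b := by
          rw [eq_inv_of_mul_eq_one_left h1, inv_of_orderOf_two hb2]
        exact hXa u hu (hub ▸ hb)
      refine orderOf_two_of_mul_self ?_ hne
      rw [show u * b * (u * b) = (u * u) * (b * b) from by
        rw [mul_assoc, ← mul_assoc b, ← hcomm.eq]
        group, hu2, mul_self_of_orderOf_two hb2, one_mul]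
    refine ⟨h⁻¹ * n, w' * w, mul_mem hw' hw, hord, ?_⟩
    calc u * b = h⁻¹ * (h * (u * b) * h⁻¹) * h := by group
      _ = _ := by rw [he]; group
  -- the products
  haveI : Fact (Nat.Prime 2) := ⟨Nat.prime_two⟩
  refine ZStar.not_isSimpleGroup_of_products (ne_one_of_orderOf_two ha) X
    ⟨t, 1, 1, W.one_mem, by rw [one_mul, ht], by group⟩ hX2 hXc ?_ hsimple
  intro x y hx hy
  have hx2 := mul_self_of_orderOf_two (hX2 x hx)
  have hy2' : orderOf y = 2 := by
    obtain ⟨g, rfl⟩ := isConj_iff.mp hy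
    rw [orderOf_conj_eq, ha]
  have hy2 := mul_self_of_orderOf_two hy2'
  rcases Nat.even_or_odd (orderOf (x * y)) with he | ho
  swap
  · exact absurd (hy.trans (isConj_of_odd_orderOf_mul hx2 hy2 ho).symm) (hXa x hx)
  obtain ⟨m, hm⟩ := he
  rw [← two_mul] at hm
  have hm0 : m ≠ 0 := fun h0 => (orderOf_pos (x * y)).ne' (by simp [hm, h0])
  obtain ⟨hz2, hzx, hzy⟩ := commute_pow_half hx2 hy2 hm0 hm
  set r := x * y
  set z := r ^ m
  -- `m` is odd
  have hmodd : Odd m := by
    rcases Nat.even_or_odd m with ⟨j, hj⟩ | h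
    · exfalso
      set s := r ^ j
      have hys : y * s = s⁻¹ * y := pow_mul_inv_eq hx2 hy2 j
      have hsord : orderOf s = 4 := by
        have hj0 : j ≠ 0 := by omega
        rw [orderOf_pow' _ hj0, hm, show 2 * m = 4 * j by omega, Nat.gcd_mul_left_left]
        exact Nat.mul_div_cancel 4 (Nat.pos_of_ne_zero hj0)
      have hS : IsPGroup 2 (Subgroup.zpowers s) := by
        refine IsPGroup.iff_card.mpr ⟨2, ?_⟩
        rw [Nat.card_zpowers, hsord]; norm_num
      have hY : IsPGroup 2 (Subgroup.zpowers y) := by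
        refine IsPGroup.iff_card.mpr ⟨1, ?_⟩
        rw [Nat.card_zpowers, hy2']; norm_num
      have hnorm : Subgroup.zpowers y ≤ Subgroup.normalizer (Subgroup.zpowers s : Set G) := by
        rw [Subgroup.zpowers_le, Subgroup.mem_normalizer_iff_map_conj_eq, MonoidHom.map_zpowers]
        show Subgroup.zpowers (y * s * y⁻¹) = _
        rw [hys, mul_inv_cancel_right, Subgroup.zpowers_inv]
      have hD : IsPGroup 2 ↥(Subgroup.zpowers y ⊔ Subgroup.zpowers s) :=
        hY.to_sup_of_normal_right' hS hnorm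
      obtain ⟨Q, hQ⟩ := hD.exists_le_sylow
      obtain ⟨h, hh⟩ := MulAction.exists_smul_eq G Q T
      have hin : ∀ v ∈ Subgroup.zpowers y ⊔ Subgroup.zpowers s, h * v * h⁻¹ ∈ (T : Subgroup G) := by
        intro v hv
        rw [← hh, Sylow.coe_subgroup_smul]
        exact ⟨v, hQ hv, rfl⟩
      have hyW : h * y * h⁻¹ ∈ W := mem_of_isConj hWZ hwc haW
        (hin y (Subgroup.mem_sup_left (Subgroup.mem_zpowers y)))
        (hy.trans (isConj_iff.mpr ⟨h, rfl⟩))
      have hcs : Commute s y := (Commute.conj_iff h).mp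
        ((hWZ hyW).2 _ (hin s (Subgroup.mem_sup_right (Subgroup.mem_zpowers s))))
      have hss : s = s⁻¹ := mul_right_cancel (b := y) (by rw [hcs.eq, hys])
      have hs2 : s ^ 2 = 1 := by rw [pow_two]; nth_rewrite 2 [hss]; exact mul_inv_cancel s
      have := orderOf_dvd_of_pow_eq_one hs2
      rw [hsord] at this
      norm_num at this
    · exact h
  obtain ⟨j, hj⟩ := hmodd
  -- `x z` is conjugate to `y`, so `z` lies in `X`
  have hzz : z * z = 1 := mul_self_of_orderOf_two hz2
  have hxz : (x * z) * (x * z) = 1 := by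
    rw [mul_assoc, ← mul_assoc z, hzx.eq, ← mul_assoc, ← mul_assoc, hx2, one_mul, hzz]
  have hv : (x * z) * y = r ^ (m + 1) := by
    rw [pow_succ, show r ^ m = z from rfl]
    simp only [r]
    rw [← mul_assoc, hzx.eq]
  have hvodd : Odd (orderOf (r ^ (m + 1))) := by
    refine Odd.of_dvd_nat ⟨j, hj⟩ (orderOf_dvd_of_pow_eq_one ?_)
    rw [← pow_mul, show (m + 1) * m = (2 * m) * (j + 1) by subst hj; ring, pow_mul, ← hm,
      pow_orderOf_eq_one, one_pow]
  have hb : IsConj a (x * z) :=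
    hy.trans (isConj_of_odd_orderOf_mul hxz hy2 (by rw [hv]; exact hvodd)).symm
  have hzX : X z := by
    have h1 := hpair x (x * z) hx hb ((Commute.refl x).mul_right hzx.symm)
    rwa [← mul_assoc, hx2, one_mul] at h1
  refine ⟨z, hzX, r ^ (m + 1), ?_, by
    rw [pow_succ, ← mul_assoc, show r ^ m = z from rfl, hzz, one_mul]⟩
  -- the odd part lies in the core
  obtain ⟨g, w, hw, h2, hzg⟩ := hzX
  set C := Subgroup.centralizer ({w * t} : Set G) with hC
  have hWC : W ≤ C := fun x hx =>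
    Subgroup.mem_centralizer_singleton_iff.mpr (((hWZ hx).2 _ (hwtT w hw)).symm)
  have hkey : ∀ b, IsConj a b → Commute b (w * t) → ∃ hbC : b ∈ C,
      (⟨b, hbC⟩ : C) ∈ Cfsg.pPrimePCore 2 C := by
    intro b hb hbc
    refine ⟨Subgroup.mem_centralizer_singleton_iff.mpr hbc.eq, ?_⟩
    obtain ⟨g', rfl⟩ := isConj_iff.mp hb
    obtain ⟨P, hP⟩ :=
      ((T.2.to_le hwc.1).comap_of_injective C.subtype C.subtype_injective).exists_le_sylow
    have hbC : g' * a * g'⁻¹ ∈ C := Subgroup.mem_centralizer_singleton_iff.mpr hbc.eq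
    have hbp : IsPGroup 2 (Subgroup.zpowers (⟨g' * a * g'⁻¹, hbC⟩ : C)) := by
      refine IsPGroup.iff_card.mpr ⟨1, ?_⟩
      rw [Nat.card_zpowers, Subgroup.orderOf_mk, orderOf_conj_eq, ha]; norm_num
    obtain ⟨P', hP'⟩ := hbp.exists_le_sylow
    obtain ⟨c, hc⟩ := MulAction.exists_smul_eq C P' P
    have hbP : c * (⟨g' * a * g'⁻¹, hbC⟩ : C) * c⁻¹ ∈ P := by
      rw [← hc]
      exact ⟨_, hP' (Subgroup.mem_zpowers _), rfl⟩
    obtain ⟨Q, hQ⟩ := (P.2.map C.subtype).exists_le_sylow
    obtain ⟨h, hh⟩ := MulAction.exists_smul_eq G Q T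
    have hinT : ∀ p : C, p ∈ P → h * (p : G) * h⁻¹ ∈ (T : Subgroup G) := by
      intro p hp
      rw [← hh, Sylow.coe_subgroup_smul]
      exact ⟨(p : G), hQ ⟨p, hp, rfl⟩, rfl⟩
    have hfix : W.map (MulAut.conj h).toMonoidHom = W := hwc.2 h (by
      rintro _ ⟨x, hx, rfl⟩
      exact hinT ⟨x, hWC hx⟩ (hP hx))
    have hinW := mem_of_isConj hWZ hwc haW (hinT _ hbP)
      ((isConj_iff.mpr ⟨g', rfl⟩).trans (isConj_iff.mpr ⟨h * (c : G), by simp [mul_assoc]⟩))
    rw [← hfix] at hinW
    obtain ⟨x, hx, he⟩ := hinW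
    have hmem : c * (⟨g' * a * g'⁻¹, hbC⟩ : C) * c⁻¹ ∈ Cfsg.pPrimePCore 2 C := by
      have hx' : (⟨x, hWC hx⟩ : C) ∈ W.subgroupOf C := hx
      have := hcos w hw h2 hx'
      convert this using 1
      exact Subtype.ext (((MulAut.conj h).injective (by simpa [mul_assoc] using he)).symm)
    simpa [mul_assoc] using (PCore.pPrimePCore_normal.conj_mem _ hmem c⁻¹)
  obtain ⟨h1C, h1⟩ := hkey (g⁻¹ * (x * z) * g)
    (hb.trans (isConj_iff.mpr ⟨g⁻¹, by group⟩)) ((Commute.conj_iff g).mp (by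
      rw [← hzg, show g * (g⁻¹ * (x * z) * g) * g⁻¹ = x * z by group]
      exact hzx.symm.mul_left (Commute.refl z)))
  obtain ⟨h2C, h2'⟩ := hkey (g⁻¹ * y * g) (hy.trans (isConj_iff.mpr ⟨g⁻¹, by group⟩))
    ((Commute.conj_iff g).mp (by
      rw [← hzg, show g * (g⁻¹ * y * g) * g⁻¹ = y by group]
      exact hzy.symm))
  set v : C := ⟨g⁻¹ * (x * z) * g, h1C⟩ * ⟨g⁻¹ * y * g, h2C⟩
  have hvG : g * (v : G) * g⁻¹ = r ^ (m + 1) := by
    rw [← hv]; simp only [v, Subgroup.coe_mul]; group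
  have hvmem : v ∈ Cfsg.pPrimeCore 2 C := by
    have hp := PCore.isPGroup_pCore (p := 2) (G := C ⧸ Cfsg.pPrimeCore 2 C)
    have hm1 : QuotientGroup.mk' (Cfsg.pPrimeCore 2 C) v ∈
        Cfsg.pCore 2 (C ⧸ Cfsg.pPrimeCore 2 C) := mul_mem h1 h2'
    obtain ⟨k, hk⟩ := IsPGroup.iff_orderOf.mp hp ⟨_, hm1⟩
    rw [Subgroup.orderOf_mk] at hk
    have hd : orderOf (QuotientGroup.mk' (Cfsg.pPrimeCore 2 C) v) ∣ orderOf v :=
      orderOf_map_dvd _ v
    have ho : Odd (orderOf v) := by
      rw [← Subgroup.orderOf_coe, ← orderOf_conj_eq g, hvG]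
      exact hvodd
    have ho' := Odd.of_dvd_nat ho hd
    rw [hk] at ho'
    rcases k with _ | k
    · exact (QuotientGroup.eq_one_iff v).mp (orderOf_eq_one_iff.mp (by simpa using hk))
    · exact absurd ho' (Nat.not_odd_iff_even.mpr ⟨2 ^ k, by rw [pow_succ]; ring⟩)
  have hcz : Subgroup.centralizer ({z} : Set G) = C.map (MulAut.conj g).toMonoidHom := by
    ext q
    rw [Subgroup.mem_map_equiv (f := MulAut.conj g), MulAut.conj_symm_apply, hC,
      Subgroup.mem_centralizer_singleton_iff, Subgroup.mem_centralizer_singleton_iff, hzg]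
    constructor <;> intro h
    · have := congrArg (fun p => g⁻¹ * p * g) h
      simpa [mul_assoc] using this
    · have := congrArg (fun p => g * p * g⁻¹) h
      simpa [mul_assoc] using this
  have hmemC : r ^ (m + 1) ∈ Subgroup.centralizer ({z} : Set G) := by
    rw [Subgroup.mem_centralizer_singleton_iff]
    exact ((Commute.refl r).pow_left (m + 1)).pow_right m
  refine ⟨⟨_, hmemC⟩, ?_, rfl⟩
  have h := (PCore.mem_pPrimeCore_congr (p := 2) ((C.equivMapOfInjective (MulAut.conj g).toMonoidHom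
    (MulAut.conj g).injective).trans (MulEquiv.subgroupCongr hcz.symm))).mpr hvmem
  have heq : ((C.equivMapOfInjective (MulAut.conj g).toMonoidHom
      (MulAut.conj g).injective).trans (MulEquiv.subgroupCongr hcz.symm)) v = ⟨_, hmemC⟩ :=
    Subtype.ext hvG
  rw [heq] at h
  exact h

end Cfsg.Agent.S3312
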