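import Cfsg.Statements.S3313
import Cfsg.Agent.S0213
import Cfsg.Agent.Lib.JankoOrder.Basic
import Cfsg.Agent.Lib.Involution.Isolated
import Cfsg.Agent.Lib.Components.GenFitting
import Cfsg.Agent.Lib.Components.Fitting
import Cfsg.Agent.Lib.SmallSimple.Order168
import Cfsg.Agent.Lib.PCore.Basic
import Cfsg.Agent.Lib.Coprime.Basic

set_option autoImplicit false
open Cfsg

namespace Cfsg.Agent.S3313

/-- The order of a simple group with the involution pattern of the Hall–Janko group. Let G be a non-abelian finite simple group with exactly two conjugacy classes of involutions, represented by z and t, such that: F*(C_G(z)) is an extraspecial 2-group; Q = O₂(C_G(z)) has order 32 and C_G(z) is the semidirect product of Q by a subgroup isomorphic to A₅; every involution of Q is conjugate to z and every other involution of C_G(z) is conjugate to t; C_G(t) is an internal direct product V × B with V a four-group containing t and B ≅ A₅; every involution of B is conjugate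 to z and every other involution of C_G(t) is conjugate to t. Then |G| = 604800. -/
theorem result {G : Type*} [Group G] [Finite G]
    [IsSimpleGroup G] (hna : ¬ IsMulCommutative G) (z t : G) (hz : orderOf z = 2) (ht : orderOf t = 2)
    (hzt : ¬ IsConj z t) (hcl : ∀ x : G, orderOf x = 2 → IsConj x z ∨ IsConj x t)
    (hex : Cfsg.IsExtraspecial 2 ↥(Cfsg.generalizedFittingSubgroup ↥(Subgroup.centralizer ({z} : Set G))))
    (hQ : Nat.card ↥(Cfsg.pCore 2 ↥(Subgroup.centralizer ({z} : Set G))) = 32)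
    (K : Subgroup G) (hK : Nonempty (↥K ≃* alternatingGroup (Fin 5)))
    (hKC : K ⊔ (Cfsg.pCore 2 ↥(Subgroup.centralizer ({z} : Set G))).map (Subgroup.centralizer ({z} : Set G)).subtype = Subgroup.centralizer ({z} : Set G))
    (hKQ : K ⊓ (Cfsg.pCore 2 ↥(Subgroup.centralizer ({z} : Set G))).map (Subgroup.centralizer ({z} : Set G)).subtype = ⊥)
    (hQz : ∀ x ∈ (Cfsg.pCore 2 ↥(Subgroup.centralizer ({z} : Set G))).map (Subgroup.centralizer ({z} : Set G)).subtype, orderOf x = 2 → IsConj x z)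
    (hCz : ∀ x ∈ Subgroup.centralizer ({z} : Set G), orderOf x = 2 →
      x ∉ (Cfsg.pCore 2 ↥(Subgroup.centralizer ({z} : Set G))).map (Subgroup.centralizer ({z} : Set G)).subtype → IsConj x t)
    (V B : Subgroup G) (hVB : Cfsg.IsInternalDirectProduct V B (Subgroup.centralizer ({t} : Set G)))
    (hV : Nat.card ↥V = 4) (hV2 : ∀ v ∈ V, v ^ 2 = 1) (htV : t ∈ V) (hB : Nonempty (↥B ≃* alternatingGroup (Fin 5)))
    (hBz : ∀ x ∈ B, orderOf x = 2 → IsConj x z)
    (hCt : ∀ x ∈ Subgroup.centralizer ({t} : Set G), orderOf x = 2 → x ∉ B → IsConj x t) :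
    Nat.card G = 604800 := by
  classical
  obtain ⟨eK⟩ := hK
  obtain ⟨eB⟩ := hB
  have hA5 : Nat.card ↥(alternatingGroup (Fin 5)) = 60 := by
    rw [nat_card_alternatingGroup, Nat.card_fin]; rfl
  have hinv : ∀ {x : G}, IsConj z x ∨ IsConj t x → x * x = 1 ∧ orderOf x = 2 := by
    intro x hx
    have h2 : orderOf x = 2 := by
      rcases hx with h | h
      · obtain ⟨g, rfl⟩ := isConj_iff.mp h
        rw [← MulAut.conj_apply, MulEquiv.orderOf_eq, hz]
      · obtain ⟨g, rfl⟩ := isConj_iff.mp h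
        rw [← MulAut.conj_apply, MulEquiv.orderOf_eq, ht]
    exact ⟨(JankoOrder.inv_iff_orderOf.mpr h2).1, h2⟩
  have hnc : ∀ {x : G}, IsConj z x → ¬ IsConj t x := fun h1 h2 => hzt (h1.trans h2.symm)
  set C := Subgroup.centralizer ({z} : Set G) with hC
  have hmemC : ∀ x : G, x ∈ C ↔ Commute x z := fun x => by
    rw [hC, Subgroup.mem_centralizer_singleton_iff]; rfl
  set Qn := Cfsg.pCore 2 ↥C with hQn
  set Qm := Qn.map C.subtype with hQm
  have : Qn.Normal := PCore.pCore_normal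
  have hQp : IsPGroup 2 ↥Qn := PCore.isPGroup_pCore
  have hF : Cfsg.generalizedFittingSubgroup ↥C = Qn := by
    refine le_antisymm (PCore.le_pCore hex.1.1) ?_
    exact (Components.pCore_le_fittingSubgroup Nat.prime_two).trans le_sup_right
  have hex' : Cfsg.IsExtraspecial 2 ↥Qn := hF ▸ hex
  have hcen : Subgroup.centralizer (Qn : Set ↥C) ≤ Qn := by
    have := Components.centralizer_generalizedFittingSubgroup_le (G := ↥C)
    rwa [hF] at this
  -- `|C(z)| = 1920`
  have hKC' : K ≤ C := le_sup_left.trans hKC.le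
  have hcardC : Nat.card ↥C = 1920 := by
    rw [Subgroup.card_eq_card_quotient_mul_card_subgroup Qn, hQ]
    let f : ↥K →* ↥C ⧸ Qn := (QuotientGroup.mk' Qn).comp (Subgroup.inclusion hKC')
    have hf : Function.Bijective f := by
      constructor
      · rw [injective_iff_map_eq_one]
        intro k hk
        have h1 : Subgroup.inclusion hKC' k ∈ Qn := (QuotientGroup.eq_one_iff _).mp hk
        exact Subtype.ext (Subgroup.mem_bot.mp
          (hKQ ▸ (⟨k.2, ⟨_, h1, rfl⟩⟩ : (k : G) ∈ K ⊓ Qm)))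
      · intro q
        induction q using QuotientGroup.induction_on with
        | _ c =>
          have hc : (c : G) ∈ K ⊔ Qm := by rw [hKC]; exact c.2
          have hn : K ≤ Subgroup.normalizer (Qm : Set G) := by
            intro k hk
            refine Subgroup.mem_normalizer_iff.mpr fun x => ⟨?_, ?_⟩
            · rintro ⟨x', hx', rfl⟩
              exact ⟨⟨k, hKC' hk⟩ * x' * ⟨k, hKC' hk⟩⁻¹, PCore.pCore_normal.conj_mem _ hx' _, rfl⟩
            · rintro ⟨x', hx', e⟩
              refine ⟨⟨k, hKC' hk⟩⁻¹ * x' * ⟨k, hKC' hk⟩⁻¹⁻¹, PCore.pCore_normal.conj_mem _ hx' _, ?_⟩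
              show k⁻¹ * (x' : G) * k⁻¹⁻¹ = x
              rw [show (x' : G) = k * x * k⁻¹ from e]
              group
          obtain ⟨k, hk, n, hn', e⟩ := (Coprime.mem_sup_iff_of_le_normalizer hn).mp hc
          obtain ⟨n', hn'', rfl⟩ := hn'
          refine ⟨⟨k, hk⟩, QuotientGroup.eq.mpr ?_⟩
          have h1 : (Subgroup.inclusion hKC' ⟨k, hk⟩)⁻¹ * c = n' := Subtype.ext (by
            show k⁻¹ * (c : G) = n'
            rw [← e]; exact inv_mul_cancel_left _ _)
          rw [h1]; exact hn''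
    rw [← Nat.card_eq_of_bijective f hf, Nat.card_congr eK.toEquiv, hA5]
  -- `|C(t)| = 240`
  obtain ⟨hVC, hBC, hVBc, hVBd, hVBs⟩ := hVB
  set D := Subgroup.centralizer ({t} : Set G) with hD
  have hmemD : ∀ x : G, x ∈ D ↔ Commute x t := fun x => by
    rw [hD, Subgroup.mem_centralizer_singleton_iff]; rfl
  have hdec : ∀ x ∈ D, ∃ v ∈ V, ∃ b ∈ B, v * b = x := fun x hx =>
    (Coprime.mem_sup_iff_of_le_normalizer (fun v hv => Subgroup.centralizer_le_normalizer _
      fun b hb => (hVBc v hv b hb).symm)).mp (hVBs.symm ▸ hx)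
  have huniq : ∀ v ∈ V, ∀ b ∈ B, v * b = 1 → v = 1 ∧ b = 1 := by
    intro v hv b hb h
    have h1 : v = b⁻¹ := eq_inv_of_mul_eq_one_left h
    have h2 : v = 1 := Subgroup.mem_bot.mp
      (hVBd ▸ Subgroup.mem_inf.mpr ⟨hv, h1 ▸ inv_mem hb⟩)
    exact ⟨h2, by rwa [h2, one_mul] at h⟩
  have hcardD : Nat.card ↥D = 240 := by
    let f : ↥V × ↥B → ↥D := fun q => ⟨q.1 * q.2, mul_mem (hVC q.1.2) (hBC q.2.2)⟩
    have hf : Function.Bijective f := by
      constructor
      · rintro ⟨v, b⟩ ⟨v', b'⟩ e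
        have e' : (v : G) * b = v' * b' := congrArg Subtype.val e
        obtain ⟨h1, h2⟩ := huniq _ (mul_mem (inv_mem v'.2) v.2) _ (mul_mem b.2 (inv_mem b'.2)) (by
          calc ((v' : G)⁻¹ * v) * (b * (b' : G)⁻¹) = (v' : G)⁻¹ * (v * b) * (b' : G)⁻¹ := by group
            _ = 1 := by rw [e']; group)
        exact Prod.ext (Subtype.ext (inv_mul_eq_one.mp h1).symm) (Subtype.ext (mul_inv_eq_one.mp h2))
      · rintro ⟨x, hx⟩
        obtain ⟨v, hv, b, hb, e⟩ := hdec x hx
        exact ⟨(⟨v, hv⟩, ⟨b, hb⟩), Subtype.ext e⟩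
    rw [← Nat.card_eq_of_bijective f hf, Nat.card_prod, hV, Nat.card_congr eB.toEquiv, hA5]
  have hzG := SmallSimple.card_class_mul_card_centralizer z
  have htG := SmallSimple.card_class_mul_card_centralizer t
  rw [← hC, hcardC] at hzG
  rw [← hD, hcardD] at htG
  -- classes inside the two centralizers
  have htB : t ∉ B := fun h => by
    have := (huniq t htV t⁻¹ (inv_mem h) (mul_inv_cancel t)).1
    rw [this, orderOf_one] at ht
    exact absurd ht (by norm_num)
  have hclassC : ∀ u : G, Commute u z → (IsConj z u ↔ u ∈ Qm ∧ orderOf u = 2) := by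
    intro u hu
    refine ⟨fun h => ⟨?_, (hinv (.inl h)).2⟩, fun h => (hQz u h.1 h.2).symm⟩
    by_contra hq
    exact hnc h (hCz u ((hmemC u).mpr hu) (hinv (.inl h)).2 hq).symm
  have hclassD : ∀ u : G, Commute u t → (IsConj z u ↔ u ∈ B ∧ orderOf u = 2) := by
    intro u hu
    refine ⟨fun h => ⟨?_, (hinv (.inl h)).2⟩, fun h => (hBz u h.1 h.2).symm⟩
    by_contra hq
    exact hnc h (hCt u ((hmemD u).mpr hu) (hinv (.inl h)).2 hq).symm
  -- the centre of `Q`
  have hzz : z * z = 1 := (hinv (.inl (IsConj.refl z))).1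
  let zC : ↥C := ⟨z, (hmemC z).mpr (Commute.refl z)⟩
  have hzCc : ∀ x : ↥C, x * zC = zC * x := fun x => Subtype.ext ((hmemC x).mp x.2).eq
  have hzQ : zC ∈ Qn := by
    have hn : (Subgroup.zpowers zC).Normal := ⟨fun x hx g => by
      obtain ⟨n, rfl⟩ := Subgroup.mem_zpowers_iff.mp hx
      have hg : Commute g zC := hzCc g
      rw [(hg.zpow_right n).eq, mul_inv_cancel_right]
      exact Subgroup.zpow_mem_zpowers zC n⟩
    refine PCore.le_pCore (N := Subgroup.zpowers zC) ?_ (Subgroup.mem_zpowers zC)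
    refine IsPGroup.of_card (n := 1) ?_
    rw [Nat.card_zpowers, pow_one, ← Subgroup.orderOf_coe]
    exact hz
  let zQ : ↥Qn := ⟨zC, hzQ⟩
  have hzQ1 : zQ ≠ 1 := fun e => by
    have : z = 1 := congrArg (fun w : ↥Qn => ((w : ↥C) : G)) e
    rw [this, orderOf_one] at hz
    exact absurd hz (by norm_num)
  have hzQ2 : orderOf zQ = 2 :=
    JankoOrder.inv_iff_orderOf.mp ⟨Subtype.ext (Subtype.ext hzz), hzQ1⟩
  have hcentre : ∀ x ∈ Subgroup.center ↥Qn, x = 1 ∨ x = zQ := by
    have hZ : Subgroup.zpowers zQ = Subgroup.center ↥Qn :=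
      Subgroup.eq_of_le_of_card_ge (Subgroup.zpowers_le.mpr (Subgroup.mem_center_iff.mpr fun x =>
        Subtype.ext (hzCc x))) (by rw [hex'.2, Nat.card_zpowers, hzQ2])
    intro x hx
    rw [← hZ, Subgroup.mem_zpowers_iff] at hx
    obtain ⟨n, rfl⟩ := hx
    have h2 : zQ ^ (2 : ℤ) = 1 := by
      rw [zpow_two]; exact Subtype.ext (Subtype.ext hzz)
    rcases Int.even_or_odd n with ⟨j, rfl⟩ | ⟨j, rfl⟩
    · left; rw [← two_mul, zpow_mul, h2, one_zpow]
    · right; rw [zpow_add_one, zpow_mul, h2, one_zpow, one_mul]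
  -- an involution of `Q` other than `z`
  obtain ⟨u₀, hu₀, hu₀z⟩ : ∃ u₀ : ↥Qn, u₀ * u₀ = 1 ∧ u₀ ∉ Subgroup.center ↥Qn := by
    obtain ⟨a, b, ha, hb, hab, hc⟩ := JankoOrder.exists_comm eB
    have hord : ∀ {x : ↥B}, JankoOrder.Inv x → orderOf (x : G) = 2 := fun {x} hx => by
      rw [Subgroup.orderOf_coe]; exact JankoOrder.inv_iff_orderOf.mp hx
    obtain ⟨g, hg⟩ := isConj_iff.mp (hBz a a.2 (hord ha))
    have hbz : IsConj z (g * b * g⁻¹) :=
      (hBz b b.2 (hord hb)).symm.trans (isConj_iff.mpr ⟨g, rfl⟩)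
    have hbc : Commute (g * b * g⁻¹) z := by
      have hab' : (a : G) * b = b * a := congrArg Subtype.val hc
      rw [← hg]
      calc g * b * g⁻¹ * (g * a * g⁻¹) = g * (b * a) * g⁻¹ := by group
        _ = g * a * g⁻¹ * (g * b * g⁻¹) := by rw [← hab']; group
    obtain ⟨⟨w, hw, e⟩, hw2⟩ := (hclassC _ hbc).mp hbz
    have e' : (w : G) = g * b * g⁻¹ := e
    refine ⟨⟨w, hw⟩, Subtype.ext (Subtype.ext ?_), fun hm => ?_⟩
    · show (w : G) * w = 1
      rw [e']; exact (hinv (.inl hbz)).1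
    · rcases hcentre _ hm with k | k
      · have : (w : G) = 1 := congrArg (fun q : ↥Qn => ((q : ↥C) : G)) k
        rw [e'] at this; rw [this, orderOf_one] at hw2
        exact absurd hw2 (by norm_num)
      · have : (w : G) = z := congrArg (fun q : ↥Qn => ((q : ↥C) : G)) k
        rw [e', ← hg] at this
        exact hab (Subtype.ext (mul_left_cancel (mul_right_cancel this)).symm)
  -- an element of order five
  have : Fact (Nat.Prime 5) := ⟨by decide⟩
  obtain ⟨g, hg⟩ := exists_prime_orderOf_dvd_card' (G := ↥C) 5 (by rw [hcardC]; norm_num)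
  let φ : ↥Qn ≃* ↥Qn := MulAut.conjNormal g
  have hφv : ∀ q : ↥Qn, ((φ q : ↥Qn) : ↥C) = g * q * g⁻¹ := fun q => MulAut.conjNormal_apply g q
  have hφ5 : ∀ q, φ (φ (φ (φ (φ q)))) = q := fun q => Subtype.ext (by
    have h5 : g ^ 5 = 1 := hg ▸ pow_orderOf_eq_one g
    simp only [hφv]
    calc g * (g * (g * (g * (g * (q : ↥C) * g⁻¹) * g⁻¹) * g⁻¹) * g⁻¹) * g⁻¹
        = g * g * g * g * g * q * (g * g * g * g * g)⁻¹ := by group
      _ = q := by
        rw [show g * g * g * g * g = 1 by rw [← h5]; simp only [pow_succ, pow_zero, one_mul],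
          one_mul, inv_one, mul_one])
  have hφne : ∃ q, φ q ≠ q := by
    by_contra hc
    push Not at hc
    have hgQ : g ∈ Qn := hcen fun q hq => by
      have h1 : g * q * g⁻¹ = q := (hφv ⟨q, hq⟩).symm.trans (congrArg Subtype.val (hc ⟨q, hq⟩))
      exact (mul_inv_eq_iff_eq_mul.mp h1).symm
    obtain ⟨k, hk⟩ := IsPGroup.iff_orderOf.mp hQp ⟨g, hgQ⟩
    rw [Subgroup.orderOf_mk, hg] at hk
    have : 5 ∣ 2 ^ k := ⟨1, by omega⟩
    exact absurd ((Nat.prime_dvd_prime_iff_eq (by decide) Nat.prime_two).mp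
      ((by decide : Nat.Prime 5).dvd_of_dvd_pow this)) (by norm_num)
  obtain ⟨h12, hcent⟩ := JankoOrder.sq_one_count hex' hQ φ hφ5 hφne hu₀ hu₀z
  -- `z`-class in `C(z)`
  have hA : Nat.card {u : G // Commute z u ∧ IsConj z u} = 11 := by
    have h1 := Nat.card_congr (Equiv.sumCompl fun x : {x : ↥Qn // x * x = 1} => (x : ↥Qn) = 1)
    rw [Nat.card_sum, h12] at h1
    have h2 : Nat.card {x : {x : ↥Qn // x * x = 1} // (x : ↥Qn) = 1} = 1 :=
      Nat.card_eq_one_iff_unique.mpr ⟨⟨fun a b => Subtype.ext (Subtype.ext (a.2.trans b.2.symm))⟩,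
        ⟨⟨⟨1, one_mul 1⟩, rfl⟩⟩⟩
    have h3 : Nat.card {x : {x : ↥Qn // x * x = 1} // ¬ (x : ↥Qn) = 1} =
        Nat.card {u : G // Commute z u ∧ IsConj z u} := by
      refine Nat.card_eq_of_bijective
        (fun x => ⟨((x.1.1 : ↥C) : G), ((hmemC _).mp x.1.1.1.2).symm,
          (hclassC _ ((hmemC _).mp x.1.1.1.2)).mpr ⟨⟨_, x.1.1.2, rfl⟩, ?_⟩⟩) ⟨?_, ?_⟩
      · rw [Subgroup.orderOf_coe, Subgroup.orderOf_coe]
        exact JankoOrder.inv_iff_orderOf.mp ⟨x.1.2, x.2⟩
      · intro x y e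
        have h := congrArg Subtype.val e
        apply Subtype.ext; apply Subtype.ext; apply Subtype.ext; apply Subtype.ext
        exact h
      · rintro ⟨u, huc, huz⟩
        obtain ⟨⟨w, hw, rfl⟩, hw2⟩ := (hclassC _ huc.symm).mp huz
        refine ⟨⟨⟨⟨w, hw⟩, Subtype.ext (Subtype.ext (hinv (.inl huz)).1)⟩, fun e => ?_⟩, rfl⟩
        have hw1 : C.subtype w = 1 := congrArg (fun q : ↥Qn => ((q : ↥C) : G)) e
        rw [hw1, orderOf_one] at hw2
        exact absurd hw2 (by norm_num)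
    omega
  -- double counting
  have hcomm : ∀ {g a b : G}, Commute a b → Commute (g * a * g⁻¹) (g * b * g⁻¹) := fun {g a b} h =>
    show g * a * g⁻¹ * (g * b * g⁻¹) = g * b * g⁻¹ * (g * a * g⁻¹) by
      calc g * a * g⁻¹ * (g * b * g⁻¹) = g * (a * b) * g⁻¹ := by group
        _ = g * b * g⁻¹ * (g * a * g⁻¹) := by rw [h.eq]; group
  have hconj : ∀ {c g a : G}, IsConj c a → IsConj c (g * a * g⁻¹) := fun {c g a} h =>
    h.trans (isConj_iff.mpr ⟨g, rfl⟩)
  have hsmul : ∀ g a : G, ConjAct.toConjAct g • a = g * a * g⁻¹ := fun g a => ConjAct.toConjAct_smul g a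
  have hmk : ∀ b : ↥B, JankoOrder.Inv b → Commute t (b : G) ∧ IsConj z (b : G) := fun b hb =>
    ⟨((hmemD _).mp (hBC b.2)).symm, (hclassD _ ((hmemD _).mp (hBC b.2))).mpr
      ⟨b.2, by rw [Subgroup.orderOf_coe]; exact JankoOrder.inv_iff_orderOf.mp hb⟩⟩
  have h15 : Nat.card {a : G // Commute t a ∧ IsConj z a} = 15 := by
    rw [← JankoOrder.card_inv eB]
    refine (Nat.card_eq_of_bijective (fun b => ⟨((b.1 : ↥B) : G), hmk b.1 b.2⟩) ⟨?_, ?_⟩).symm
    · intro a b e
      have h := congrArg Subtype.val e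
      apply Subtype.ext; apply Subtype.ext
      exact h
    · rintro ⟨a, hac, haz⟩
      obtain ⟨haB, ha2⟩ := (hclassD _ hac.symm).mp haz
      exact ⟨⟨⟨a, haB⟩, JankoOrder.inv_iff_orderOf.mpr ((Subgroup.orderOf_mk a haB).trans ha2)⟩, rfl⟩
  have hI : Nat.card {v : G // Commute z v ∧ IsConj t v} = 120 := by
    have e1 := JankoOrder.card_pairs z (fun a v => Commute a v ∧ IsConj t v) (fun g a v h => by
      simp only [hsmul]; exact ⟨hcomm h.1, hconj h.2⟩)
    have e2 := JankoOrder.card_pairs t (fun v a => Commute v a ∧ IsConj z a) (fun g a v h => by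
      simp only [hsmul]; exact ⟨hcomm h.1, hconj h.2⟩)
    have e3 : Nat.card {q : G × G // IsConj z q.1 ∧ Commute q.1 q.2 ∧ IsConj t q.2} =
        Nat.card {q : G × G // IsConj t q.1 ∧ Commute q.1 q.2 ∧ IsConj z q.2} :=
      Nat.card_congr (Equiv.subtypeEquiv (Equiv.prodComm G G) fun q =>
        ⟨fun h => ⟨h.2.2, h.2.1.symm, h.1⟩, fun h => ⟨h.2.2, h.2.1.symm, h.1⟩⟩)
    rw [e3, e2, h15] at e1
    nlinarith [Nat.card_pos (α := G)]
  have h45 : Nat.card {q : G × G //
      (Commute t q.1 ∧ IsConj z q.1) ∧ (Commute t q.2 ∧ IsConj z q.2) ∧ Commute q.1 q.2} = 45 := by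
    rw [← JankoOrder.card_comm eB]
    refine (Nat.card_eq_of_bijective (fun q => ⟨((q.1.1 : G), (q.1.2 : G)), hmk _ q.2.1, hmk _ q.2.2.1,
      (congrArg Subtype.val q.2.2.2 : _)⟩) ⟨?_, ?_⟩).symm
    · intro a b e
      have e' := congrArg Subtype.val e
      exact Subtype.ext (Prod.ext (Subtype.ext (congrArg Prod.fst e')) (Subtype.ext (congrArg Prod.snd e')))
    · rintro ⟨⟨a, b⟩, ⟨hac, haz⟩, ⟨hbc, hbz⟩, hab⟩
      obtain ⟨haB, ha2⟩ := (hclassD _ hac.symm).mp haz
      obtain ⟨hbB, hb2⟩ := (hclassD _ hbc.symm).mp hbz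
      exact ⟨⟨(⟨a, haB⟩, ⟨b, hbB⟩), JankoOrder.inv_iff_orderOf.mpr ((Subgroup.orderOf_mk a haB).trans ha2),
        JankoOrder.inv_iff_orderOf.mpr ((Subgroup.orderOf_mk b hbB).trans hb2), Subtype.ext hab.eq⟩, rfl⟩
  have h360 : Nat.card {q : G × G //
      (Commute z q.1 ∧ IsConj z q.1) ∧ (Commute z q.2 ∧ IsConj t q.2) ∧ Commute q.1 q.2} = 360 := by
    have e1 := JankoOrder.card_pairs (X := G × G) z (fun a q =>
      (Commute a q.1 ∧ IsConj z q.1) ∧ (Commute a q.2 ∧ IsConj t q.2) ∧ Commute q.1 q.2) (fun g a q h => by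
      simp only [Prod.smul_fst, Prod.smul_snd, hsmul]
      exact ⟨⟨hcomm h.1.1, hconj h.1.2⟩, ⟨hcomm h.2.1.1, hconj h.2.1.2⟩, hcomm h.2.2⟩)
    have e2 := JankoOrder.card_pairs (X := G × G) t (fun v q =>
      (Commute v q.1 ∧ IsConj z q.1) ∧ (Commute v q.2 ∧ IsConj z q.2) ∧ Commute q.1 q.2) (fun g a q h => by
      simp only [Prod.smul_fst, Prod.smul_snd, hsmul]
      exact ⟨⟨hcomm h.1.1, hconj h.1.2⟩, ⟨hcomm h.2.1.1, hconj h.2.1.2⟩, hcomm h.2.2⟩)
    let eT : G × G × G ≃ G × G × G :=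
      { toFun := fun q => (q.2.2, q.1, q.2.1)
        invFun := fun q => (q.2.1, q.2.2, q.1)
        left_inv := fun q => rfl
        right_inv := fun q => rfl }
    have e3 : Nat.card {q : G × G × G // IsConj z q.1 ∧ (Commute q.1 q.2.1 ∧ IsConj z q.2.1) ∧
          (Commute q.1 q.2.2 ∧ IsConj t q.2.2) ∧ Commute q.2.1 q.2.2} =
        Nat.card {q : G × G × G // IsConj t q.1 ∧ (Commute q.1 q.2.1 ∧ IsConj z q.2.1) ∧
          (Commute q.1 q.2.2 ∧ IsConj z q.2.2) ∧ Commute q.2.1 q.2.2} :=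
      Nat.card_congr (Equiv.subtypeEquiv eT fun q =>
        ⟨fun ⟨h1, ⟨h2, h3⟩, ⟨h4, h5⟩, h6⟩ => ⟨h5, ⟨h4.symm, h1⟩, ⟨h6.symm, h3⟩, h2⟩,
          fun ⟨h5, ⟨h4, h1⟩, ⟨h6, h3⟩, h2⟩ => ⟨h1, ⟨h2, h3⟩, ⟨h4.symm, h5⟩, h6.symm⟩⟩)
    rw [e3, e2, h45] at e1
    nlinarith [Nat.card_pos (α := G)]
  have h960 : Nat.card {q : G × G // ((Commute z q.1 ∧ IsConj z q.1) ∧ (Commute z q.2 ∧ IsConj t q.2)) ∧
      ¬ Commute q.1 q.2} = 960 := by
    have hall : Nat.card {q : G × G // (Commute z q.1 ∧ IsConj z q.1) ∧ (Commute z q.2 ∧ IsConj t q.2)} =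
        1320 := by
      rw [Nat.card_congr (Equiv.subtypeProdEquivProd (p := fun u : G => Commute z u ∧ IsConj z u)
        (q := fun v : G => Commute z v ∧ IsConj t v)), Nat.card_prod, hA, hI]
    have h1 := Nat.card_congr (Equiv.sumCompl fun q : {q : G × G // (Commute z q.1 ∧ IsConj z q.1) ∧
      (Commute z q.2 ∧ IsConj t q.2)} => Commute q.1.1 q.1.2)
    rw [Nat.card_sum, hall,
      Nat.card_congr (Equiv.subtypeSubtypeEquivSubtypeInter
        (fun q : G × G => (Commute z q.1 ∧ IsConj z q.1) ∧ (Commute z q.2 ∧ IsConj t q.2))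
        (fun q => Commute q.1 q.2)),
      Nat.card_congr (Equiv.subtypeSubtypeEquivSubtypeInter
        (fun q : G × G => (Commute z q.1 ∧ IsConj z q.1) ∧ (Commute z q.2 ∧ IsConj t q.2))
        (fun q => ¬ Commute q.1 q.2))] at h1
    have h2 : Nat.card {q : G × G // ((Commute z q.1 ∧ IsConj z q.1) ∧ (Commute z q.2 ∧ IsConj t q.2)) ∧
        Commute q.1 q.2} = 360 := by
      rw [← h360]
      exact Nat.card_congr (Equiv.subtypeEquivRight fun q => and_assoc)
    omega
  -- `z` as a power of `u v`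
  have hn1 : Nat.card {p : G × G // IsConj z p.1 ∧ IsConj t p.2 ∧ z ∈ Subgroup.zpowers (p.1 * p.2)} = 960 := by
    rw [← h960]
    refine Nat.card_congr (Equiv.subtypeEquivRight fun p => ?_)
    obtain ⟨u, v⟩ := p
    constructor
    · rintro ⟨huz, hvt, hzp⟩
      have hu := (hinv (.inl huz)).1
      have hv := (hinv (.inr hvt)).1
      obtain ⟨k, hk⟩ := mem_powers_iff_mem_zpowers.mpr hzp
      have hk' : (u * v) ^ k = z := hk
      have hui : u⁻¹ = u := inv_eq_of_mul_eq_one_right hu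
      have huc : Commute z u := by
        have h1 := Involution.Isolated.conj_pow_eq hu hv k
        rw [hk', inv_eq_of_mul_eq_one_right hzz] at h1
        show z * u = u * z
        calc z * u = u * z * u * u := by rw [h1]
          _ = u * z := by rw [mul_assoc, hu, mul_one]
      have huvc : Commute z (u * v) := hk' ▸ (Commute.refl (u * v)).pow_left k
      have hvc : Commute z v := by
        have := huc.mul_right huvc
        rwa [← mul_assoc, hu, one_mul] at this
      refine ⟨⟨⟨huc, huz⟩, hvc, hvt⟩, fun hc => ?_⟩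
      have hc2 : (u * v) ^ 2 = 1 := by
        rw [pow_two, mul_assoc, ← mul_assoc v, ← hc.eq, mul_assoc u v v, hv, mul_one, hu]
      rcases Nat.even_or_odd k with ⟨j, rfl⟩ | ⟨j, rfl⟩
      · rw [← two_mul, pow_mul, hc2, one_pow] at hk'
        rw [← hk', orderOf_one] at hz
        exact absurd hz (by norm_num)
      · rw [pow_succ, pow_mul, hc2, one_pow, one_mul] at hk'
        have hvu : v = u * z := by rw [← hk', ← mul_assoc, hu, one_mul]
        have hvQ : v ∈ Qm := hvu ▸ mul_mem ((hclassC u huc.symm).mp huz).1 ⟨zC, hzQ, rfl⟩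
        exact hnc ((hclassC v hvc.symm).mpr ⟨hvQ, (hinv (.inr hvt)).2⟩) hvt
    · rintro ⟨⟨⟨huc, huz⟩, hvc, hvt⟩, hne⟩
      refine ⟨huz, hvt, ?_⟩
      obtain ⟨hu, hu2⟩ := hinv (.inl huz)
      have hv := (hinv (.inr hvt)).1
      have hvi : v⁻¹ = v := inv_eq_of_mul_eq_one_right hv
      have hu'z : IsConj z (v * u * v⁻¹) := hconj huz
      have hu'c : Commute (v * u * v⁻¹) z := ((hvc.symm.mul_left huc.symm).mul_left hvc.symm.inv_left)
      obtain ⟨⟨w, hw, ew⟩, -⟩ := (hclassC u huc.symm).mp huz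
      obtain ⟨⟨w', hw', ew'⟩, -⟩ := (hclassC _ hu'c).mp hu'z
      have ew₁ : (w : G) = u := ew
      have ew₂ : (w' : G) = v * u * v⁻¹ := ew'
      have hsq2 : (u * v) ^ 2 = u * (v * u * v⁻¹) := by rw [hvi, pow_two]; simp only [mul_assoc]
      have hu'1 := (hinv (.inl hu'z)).1
      have hwc : (⟨w, hw⟩ : ↥Qn) ∉ Subgroup.center ↥Qn := fun hm => by
        rcases hcentre _ hm with k | k
        · have : (w : G) = 1 := congrArg (fun q : ↥Qn => ((q : ↥C) : G)) k
          rw [ew₁] at this; rw [this, orderOf_one] at hu2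
          exact absurd hu2 (by norm_num)
        · have : (w : G) = z := congrArg (fun q : ↥Qn => ((q : ↥C) : G)) k
          rw [ew₁] at this
          exact hne (this ▸ hvc)
      have hw1 : (⟨w, hw⟩ : ↥Qn) * ⟨w, hw⟩ = 1 := Subtype.ext (Subtype.ext (by
        show (w : G) * w = 1
        rw [ew₁, hu]))
      by_cases hcc : u * (v * u * v⁻¹) = v * u * v⁻¹ * u
      · obtain ⟨-, hcent'⟩ := JankoOrder.sq_one_count hex' hQ φ hφ5 hφne hw1 hwc
        have h1 := hcent' ⟨w', hw'⟩ (Subtype.ext (Subtype.ext (by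
          show (w' : G) * w' = 1
          rw [ew₂, hu'1]))) (Subtype.ext (Subtype.ext (by
          show (w' : G) * w = w * w'
          rw [ew₁, ew₂, hcc])))
        rcases h1 with h1 | h1 <;> rcases hcentre _ h1 with k | k
        · have : (w' : G) = 1 := congrArg (fun q : ↥Qn => ((q : ↥C) : G)) k
          rw [ew₂] at this
          have h0 : u = 1 := by rwa [conj_eq_one_iff] at this
          rw [h0, orderOf_one] at hu2
          exact absurd hu2 (by norm_num)
        · have : (w' : G) = z := congrArg (fun q : ↥Qn => ((q : ↥C) : G)) k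
          rw [ew₂] at this
          have h0 : u = z := by
            calc u = v⁻¹ * (v * u * v⁻¹) * v := by group
              _ = z := by rw [this, mul_assoc, hvc.eq, inv_mul_cancel_left]
          exact absurd (h0 ▸ hvc) hne
        · have : (w' : G) * (w : G)⁻¹ = 1 := congrArg (fun q : ↥Qn => ((q : ↥C) : G)) k
          rw [ew₁, ew₂, mul_inv_eq_one] at this
          exact absurd (mul_inv_eq_iff_eq_mul.mp this : v * u = u * v).symm hne
        · have : (w' : G) * (w : G)⁻¹ = z := congrArg (fun q : ↥Qn => ((q : ↥C) : G)) k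
          rw [ew₁, ew₂, inv_eq_of_mul_eq_one_right hu, ← hcc, ← hsq2] at this
          exact this ▸ pow_mem (Subgroup.mem_zpowers _) 2
      · have hmem : (⟨w, hw⟩ : ↥Qn) * ⟨w', hw'⟩ * (⟨w, hw⟩ * ⟨w', hw'⟩) ∈ Subgroup.center ↥Qn := by
          rw [← hex'.1.2.1, ← pow_two]
          exact PGroup.pow_mem_frattini hQp _
        rcases hcentre _ hmem with k | k
        · exfalso
          have : (w : G) * w' * (w * w') = 1 := congrArg (fun q : ↥Qn => ((q : ↥C) : G)) k
          rw [ew₁, ew₂] at this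
          refine hcc ((eq_inv_of_mul_eq_one_left this).trans ?_)
          rw [mul_inv_rev, inv_eq_of_mul_eq_one_right hu'1, inv_eq_of_mul_eq_one_right hu]
        · have : (w : G) * w' * (w * w') = z := congrArg (fun q : ↥Qn => ((q : ↥C) : G)) k
          rw [ew₁, ew₂, ← hsq2] at this
          exact this ▸ mul_mem (pow_mem (Subgroup.mem_zpowers _) 2) (pow_mem (Subgroup.mem_zpowers _) 2)
  -- `t` as a power of `u v`
  have hn2 : Nat.card {p : G × G // IsConj z p.1 ∧ IsConj t p.2 ∧ t ∈ Subgroup.zpowers (p.1 * p.2)} = 195 := by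
    rw [← JankoOrder.card_odd eB]
    have htt : t * t = 1 := (hinv (.inr (IsConj.refl t))).1
    have htc : ∀ b : ↥B, Commute t (b : G) := fun b => ((hmemD _).mp (hBC b.2)).symm
    have hfun : ∀ c d : ↥B, JankoOrder.Inv c → d * d = 1 → (c * d) ^ 15 = 1 →
        IsConj z (c : G) ∧ IsConj t (t * (d : G)) ∧
          t ∈ Subgroup.zpowers ((c : G) * (t * (d : G))) := by
      intro c d hc hd h15'
      refine ⟨(hmk c hc).2, ?_, ?_⟩
      · have hb : (d : G) * d = 1 := congrArg Subtype.val hd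
        have h2 : orderOf (t * (d : G)) = 2 := by
          refine JankoOrder.inv_iff_orderOf.mp ⟨?_, fun e => htB ?_⟩
          · calc t * (d : G) * (t * (d : G)) = t * ((d : G) * t) * (d : G) := by group
              _ = 1 := by rw [← (htc d).eq, ← mul_assoc, htt, one_mul, hb]
          · rw [eq_inv_of_mul_eq_one_left e]; exact inv_mem d.2
        exact (hCt _ ((hmemD _).mpr ((Commute.refl t).mul_left (htc d).symm)) h2 fun hm => htB (by
          have := mul_mem hm (inv_mem d.2)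
          rwa [mul_inv_cancel_right] at this)).symm
      · have h15'' : ((c : G) * (d : G)) ^ 15 = 1 := congrArg Subtype.val h15'
        have e : ((c : G) * (t * (d : G))) ^ 15 = t := by
          rw [show (c : G) * (t * (d : G)) = t * ((c : G) * (d : G)) by
            rw [← mul_assoc, ← (htc c).eq, mul_assoc], ((htc c).mul_right (htc d)).mul_pow, h15'',
            mul_one, show (15 : ℕ) = 2 * 7 + 1 by rfl, pow_succ, pow_mul, pow_two, htt, one_pow, one_mul]
        have hp := pow_mem (Subgroup.mem_zpowers ((c : G) * (t * (d : G)))) 15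
        rwa [e] at hp
    refine (Nat.card_eq_of_bijective (fun q => ⟨((q.1.1 : G), t * (q.1.2 : G)),
      hfun q.1.1 q.1.2 q.2.1 q.2.2.1 q.2.2.2⟩) ⟨?_, ?_⟩).symm
    · intro a b e
      have e' := congrArg Subtype.val e
      exact Subtype.ext (Prod.ext (Subtype.ext (congrArg Prod.fst e'))
        (Subtype.ext (mul_left_cancel (congrArg Prod.snd e'))))
    · rintro ⟨⟨u, v⟩, huz, hvt, htp⟩
      have hu := (hinv (.inl huz)).1
      have hv := (hinv (.inr hvt)).1
      obtain ⟨k, hk⟩ := mem_powers_iff_mem_zpowers.mpr htp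
      have hk' : (u * v) ^ k = t := hk
      have huc : Commute t u := by
        have h1 := Involution.Isolated.conj_pow_eq hu hv k
        rw [hk', inv_eq_of_mul_eq_one_right htt] at h1
        show t * u = u * t
        calc t * u = u * t * u * u := by rw [h1]
          _ = u * t := by rw [mul_assoc, hu, mul_one]
      have hvc : Commute t v := by
        have := huc.mul_right (hk' ▸ (Commute.refl (u * v)).pow_left k)
        rwa [← mul_assoc, hu, one_mul] at this
      obtain ⟨huB, hu2⟩ := (hclassD u huc.symm).mp huz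
      obtain ⟨w, hw, b, hb, rfl⟩ := hdec v ((hmemD v).mpr hvc.symm)
      have hcw : Commute w u := hVBc w hw u huB
      have hcwb : Commute w b := hVBc w hw b hb
      have hw2 : w * w = 1 := by rw [← pow_two]; exact hV2 w hw
      have hkey : w ^ k * (u * b) ^ k = t := by
        rw [← hk', ← (hcw.mul_right hcwb).mul_pow]
        congr 1
        rw [← mul_assoc, hcw.eq, mul_assoc]
      obtain ⟨h1, h2⟩ := huniq (t⁻¹ * w ^ k) (mul_mem (inv_mem htV) (pow_mem hw k)) ((u * b) ^ k)
        (pow_mem (mul_mem huB hb) k) (by rw [mul_assoc, hkey, inv_mul_cancel])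
      have hwk : w ^ k = t := (inv_mul_eq_one.mp h1).symm
      obtain ⟨hkodd, hwt⟩ : Odd k ∧ w = t := by
        rcases Nat.even_or_odd k with ⟨j, rfl⟩ | ⟨j, rfl⟩
        · rw [← two_mul, pow_mul, pow_two, hw2, one_pow] at hwk
          rw [← hwk, orderOf_one] at ht
          exact absurd ht (by norm_num)
        · rw [pow_succ, pow_mul, pow_two, hw2, one_pow, one_mul] at hwk
          exact ⟨⟨j, rfl⟩, hwk⟩
      subst hwt
      have hb2 : b * b = 1 := by
        calc b * b = w * w * (b * b) := by rw [hw2, one_mul]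
          _ = w * (w * b) * b := by simp only [mul_assoc]
          _ = w * (b * w) * b := by rw [hcwb.eq]
          _ = w * b * (w * b) := by simp only [mul_assoc]
          _ = 1 := hv
      exact ⟨⟨(⟨u, huB⟩, ⟨b, hb⟩), JankoOrder.inv_iff_orderOf.mpr ((Subgroup.orderOf_mk u huB).trans hu2),
        Subtype.ext hb2, JankoOrder.pow_fifteen_of_odd eB hkodd (Subtype.ext h2)⟩, rfl⟩
  have h := Cfsg.Agent.S0213.result z t hz ht hzt fun x hx => (hcl x hx).imp IsConj.symm IsConj.symm
  rw [hn1, hn2, ← hC, ← hD, hcardC, hcardD] at h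
  exact h

end Cfsg.Agent.S3313
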