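import Cfsg.Statements.S3315
import Cfsg.Agent.Lib.U3Two.AutFix

set_option autoImplicit false
open Cfsg

namespace Cfsg.Agent.S3315

/-- Let S be a Sylow 2-subgroup of SU₃(2ⁿ), n ≥ 2 (realised over the field with 4ⁿ elements). If a finite 2-group R contains a subgroup S' of index 2 isomorphic to S, then the centre of S' is contained in the centre of R. -/
theorem result {R : Type*} [Group R] [Finite R]
    (hR : IsPGroup 2 R) (n : ℕ) (hn : 2 ≤ n) {F : Type*} [Field F] [Fintype F] (hF : Fintype.card F = 4 ^ n)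
    (P : Sylow 2 ↥(Cfsg.SU 3 F (2 ^ n))) (S' : Subgroup R) (hS : Nonempty (↥S' ≃* ↥(P : Subgroup ↥(Cfsg.SU 3 F (2 ^ n)))))
    (hidx : S'.index = 2) :
    (Subgroup.center ↥S').map S'.subtype ≤ Subgroup.center R := by
  have hn1 : 1 ≤ n := by omega
  have hF' : Fintype.card F = (2 ^ n) ^ 2 := by rw [hF, ← pow_mul, mul_comm, pow_mul]; norm_num
  obtain ⟨e₀⟩ := hS
  obtain ⟨e₁⟩ := U3Two.equiv_syl_SU hn1 hF' P
  let e := e₀.trans e₁
  haveI : S'.Normal := Subgroup.normal_of_index_eq_two hidx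
  rintro _ ⟨z, hz, rfl⟩
  refine Subgroup.mem_center_iff.mpr fun t => ?_
  let c : MulAut S' := MulAut.conjNormal t
  have hc : ∀ g : S', ((c g : S') : R) = t * g * t⁻¹ := fun g => MulAut.conjNormal_apply t g
  have ht2 : t * t ∈ S' := Subgroup.mul_self_mem_of_index_two hidx t
  have hzc : e z ∈ Subgroup.center (U3Two.syl hn1 hF') := Subgroup.mem_center_iff.mpr fun k => by
    obtain ⟨k, rfl⟩ := e.surjective k
    rw [← map_mul, ← map_mul, Subgroup.mem_center_iff.mp hz k]
  have h := U3Two.aut_fix_center hn1 hF' (MulAut.congr e c) (e ⟨t * t, ht2⟩) (fun g => by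
    obtain ⟨g, rfl⟩ := e.surjective g
    show e (c (e.symm (e (c (e.symm (e g)))))) = _
    rw [e.symm_apply_apply, e.symm_apply_apply, ← map_inv, ← map_mul, ← map_mul]
    congr 1
    refine Subtype.ext ?_
    rw [hc, hc]
    simp [mul_assoc]) hzc
  have h' : c z = z := e.injective (by
    rw [← h]
    show e (c z) = e (c (e.symm (e z)))
    rw [e.symm_apply_apply])
  have h2 : t * (z : R) * t⁻¹ = z := by rw [← hc, h']
  show t * (z : R) = (z : R) * t
  calc t * (z : R) = t * (z : R) * t⁻¹ * t := by group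
    _ = (z : R) * t := by rw [h2]

end Cfsg.Agent.S3315
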