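import Cfsg.Statements.S3349
-- import your own Cfsg.Agent.* helpers here

set_option autoImplicit false
open Cfsg

namespace Cfsg.Agent.S3349

/-- Let Q be a finite extraspecial p-group and α an automorphism of Q fixing every element of some maximal abelian subgroup of Q. Then the order of α is a power of p. -/
theorem result {Q : Type*} [Group Q] [Finite Q]
    (p : ℕ) [Fact p.Prime] (hQ : Cfsg.IsExtraspecial p Q) (α : MulAut Q)
    (A : Subgroup Q) (hA : IsMulCommutative A) (hmax : ∀ B : Subgroup Q, A ≤ B → IsMulCommutative B → B = A)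
    (hfix : ∀ a ∈ A, α a = a) :
    ∃ k : ℕ, orderOf α = p ^ k := by
  haveI := hA
  obtain ⟨⟨hp, -, hder⟩, -⟩ := hQ
  have hself : ∀ x : Q, (∀ a ∈ A, x * a = a * x) → x ∈ A := by
    intro x hx
    have hcomm : ∀ u ∈ (insert x (A : Set Q)), ∀ v ∈ (insert x (A : Set Q)), u * v = v * u := by
      rintro u (rfl | hu) v (rfl | hv)
      · rfl
      · exact hx v hv
      · exact (hx u hu).symm
      · exact congrArg Subtype.val (mul_comm' (⟨u, hu⟩ : A) ⟨v, hv⟩)
    have h := hmax (Subgroup.closure (insert x (A : Set Q)))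
      (fun a ha => Subgroup.subset_closure (Set.mem_insert_of_mem _ ha))
      (Subgroup.isMulCommutative_closure hcomm)
    rw [← h]; exact Subgroup.subset_closure (Set.mem_insert _ _)
  have hZA : Subgroup.center Q ≤ A := fun z hz => hself z fun a _ => (Subgroup.mem_center_iff.1 hz a).symm
  have hnorm : ∀ x : Q, ∀ a ∈ A, x * a * x⁻¹ ∈ A := by
    intro x a ha
    have h : x * a * x⁻¹ * a⁻¹ ∈ A := hZA (hder ▸ Subgroup.commutator_mem_commutator (Subgroup.mem_top x) (Subgroup.mem_top a))
    simpa using A.mul_mem h ha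
  have hc : ∀ x : Q, x⁻¹ * α x ∈ A := by
    intro x
    refine hself _ fun a ha => ?_
    have h := hfix _ (hnorm x a ha)
    rw [map_mul, map_mul, map_inv, hfix a ha] at h
    calc x⁻¹ * α x * a = x⁻¹ * (α x * a * (α x)⁻¹) * α x := by group
      _ = a * (x⁻¹ * α x) := by rw [h]; group
  have hpow : ∀ (k : ℕ) (x : Q), (α ^ k) x = x * (x⁻¹ * α x) ^ k := by
    intro k x
    induction k with
    | zero => simp
    | succ k ih =>
      rw [pow_succ', MulAut.mul_apply, ih, map_mul, map_pow, hfix _ (hc x), pow_succ' (x⁻¹ * α x) k, ← mul_assoc x, mul_inv_cancel_left]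
  obtain ⟨j, hj⟩ := (IsPGroup.iff_card).1 (hp.to_subgroup A)
  have h1 : α ^ (p ^ j) = 1 := by
    ext x
    rw [hpow, MulAut.one_apply, ← hj]
    have h2 : (⟨_, hc x⟩ : A) ^ Nat.card A = 1 := pow_card_eq_one'
    have h3 := congrArg Subtype.val h2
    simp only [SubgroupClass.coe_pow, OneMemClass.coe_one] at h3
    rw [h3, mul_one]
  obtain ⟨k, -, hk⟩ := (Nat.dvd_prime_pow Fact.out).1 (orderOf_dvd_of_pow_eq_one h1)
  exact ⟨k, hk⟩

end Cfsg.Agent.S3349
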