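import Cfsg.Statements.S3356
-- import your own Cfsg.Agent.* helpers here

set_option autoImplicit false
open Cfsg

namespace Cfsg.Agent.S3356

section Abstract

variable {H N : Type*} [Group H] [Group N] [Finite H] [Finite N] [MulDistribMulAction H N]

local notation "C" => MulAction.stabilizer H

theorem card_dvd {c : ℕ} (K : Subgroup H) (S : Set N) (hS : ∀ k ∈ K, ∀ s ∈ S, k • s ∈ S)
    (hCK : ∀ s ∈ S, C s ≤ K) (hc : ∀ s ∈ S, Nat.card (MulAction.stabilizer H s) = c) : Nat.card K / c ∣ Nat.card S := by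
  let A : SubMulAction K N := ⟨S, fun k s hs => hS k k.2 s hs⟩
  have horb : ∀ s : A, Nat.card (MulAction.orbit K s) = Nat.card K / c := by
    intro s
    have e : (MulAction.stabilizer K s) = (C (s : N)).subgroupOf K := by
      ext k
      simp only [MulAction.mem_stabilizer_iff, Subgroup.mem_subgroupOf, Subtype.ext_iff]
      rfl
    have h1 : Nat.card (MulAction.stabilizer K s) = c := by
      rw [e, Nat.card_congr (Subgroup.subgroupOfEquivOfLe (hCK s s.2)).toEquiv, hc s s.2]
    have h2 : Nat.card (MulAction.orbit K s) * Nat.card (MulAction.stabilizer K s) = Nat.card K := by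
      rw [← Nat.card_prod]
      exact Nat.card_congr (MulAction.orbitProdStabilizerEquivGroup K s)
    have h0 : 0 < c := h1 ▸ Nat.card_pos
    rw [← h2, h1, Nat.mul_div_cancel _ h0]
  show _ ∣ Nat.card A
  haveI : Fintype (MulAction.orbitRel.Quotient K A) := Fintype.ofFinite _
  rw [Nat.card_congr (MulAction.selfEquivSigmaOrbits K A), Nat.card_sigma]
  exact Finset.dvd_sum fun i _ => dvd_of_eq (horb _).symm

variable {c : ℕ} (hc : ∀ x : N, x ≠ 1 → Nat.card (MulAction.stabilizer H x) = c)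

include hc in
theorem dvd_sub_one (M : Subgroup N) (hM : ∀ h : H, ∀ m ∈ M, h • m ∈ M) :
    Nat.card H / c ∣ Nat.card M - 1 := by
  have h := card_dvd (c := c) (⊤ : Subgroup H) {x | x ∈ M ∧ x ≠ 1}
    (fun k _ s hs => ⟨hM k s hs.1, fun e => hs.2 (smul_left_cancel k (e.trans (smul_one k).symm))⟩)
    (fun s _ => le_top) (fun s hs => hc s hs.2)
  rw [Subgroup.card_top] at h
  convert h using 1
  have e : ((M : Set N) \ {1}).ncard = (M : Set N).ncard - 1 := Set.ncard_sdiff_singleton_of_mem M.one_mem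
  rw [← Nat.card_coe_set_eq, ← Nat.card_coe_set_eq] at e
  exact e.symm

include hc in
theorem stabilizer_eq (M : Subgroup N) (hM : ∀ h : H, ∀ m ∈ M, h • m ∈ M) (S : Set N) (hS1 : ∀ s ∈ S, s ≠ 1)
    (hdvd : Nat.card S ∣ Nat.card M) (hS : ∀ z ∈ S, ∀ h ∈ C z, ∀ s ∈ S, h • s ∈ S)
    {x y : N} (hx : x ∈ S) (hy : y ∈ S) : C x = C y := by
  let K : Subgroup H :=
    { carrier := {h | ∀ s, h • s ∈ S ↔ s ∈ S}
      one_mem' := fun s => by rw [one_smul]
      mul_mem' := fun {a b} ha hb s => by rw [mul_smul, ha, hb]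
      inv_mem' := fun {a} ha s => by rw [← ha (a⁻¹ • s), smul_inv_smul] }
  have hCK : ∀ z ∈ S, C z ≤ K := fun z hz h hh s =>
    ⟨fun hs => by rw [← inv_smul_smul h s]; exact hS z hz _ (inv_mem hh) _ hs, hS z hz h hh s⟩
  have h1 := (card_dvd K S (fun k hk s hs => (hk s).2 hs) hCK fun s hs => hc s (hS1 s hs)).trans hdvd
  have hcx := hc x (hS1 x hx)
  have h0 : c ∣ Nat.card K := hcx ▸ Subgroup.card_dvd_of_le (hCK x hx)
  have h2 : Nat.card K / c ∣ Nat.card M - 1 :=
    (Nat.div_dvd_div h0 (Subgroup.card_subgroup_dvd_card K)).trans (dvd_sub_one hc M hM)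
  have h3 := Nat.dvd_sub h1 h2
  rw [Nat.sub_sub_self (Nat.card_pos : 0 < Nat.card M), Nat.dvd_one] at h3
  have hK : Nat.card K = c := by rw [← Nat.div_mul_cancel h0, h3, one_mul]
  have he : ∀ z ∈ S, C z = K := fun z hz =>
    Subgroup.eq_of_le_of_card_ge (hCK z hz) (by rw [hK, hc z (hS1 z hz)])
  rw [he x hx, he y hy]

include hc in
theorem false_of_stabilizer_const [FaithfulSMul H N] (hc1 : c ≠ 1) {x : N} (hx : x ≠ 1)
    (hconst : ∀ y : N, y ≠ 1 → C y = C x) : False := by
  refine hc1 ((hc x hx).symm.trans (Subgroup.card_eq_one.2 (le_bot_iff.1 fun h hh => ?_)))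
  refine Subgroup.mem_bot.2 (FaithfulSMul.eq_of_smul_eq_smul (α := N) fun y => ?_)
  rw [one_smul]
  by_cases hy : y = 1
  · rw [hy, smul_one]
  · have : h ∈ C y := by rw [hconst y hy]; exact hh
    exact this

include hc in
theorem irreducible [FaithfulSMul H N] (hc1 : c ≠ 1) (M : Subgroup N) (hM : ∀ h : H, ∀ m ∈ M, h • m ∈ M) :
    M = ⊥ ∨ M = ⊤ := by
  by_contra hne
  push Not at hne
  obtain ⟨x, hx⟩ : ∃ x, x ∉ M := by
    by_contra h
    push Not at h
    exact hne.2 ((Subgroup.eq_top_iff' M).2 h)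
  have key : ∀ z, z ∉ M → ∀ m ∈ M, C z = C (m * z) := by
    intro z hz m hm
    refine stabilizer_eq hc M hM {s | s * z⁻¹ ∈ M} ?_ ?_ ?_ (x := z) (y := m * z) (by simp [M.one_mem]) (by simpa using hm)
    · intro s hs e
      subst e
      simp only [Set.mem_ofPred_eq, one_mul, inv_mem_iff] at hs
      exact hz hs
    · refine dvd_of_eq (Nat.card_congr ⟨fun s => ⟨s.1 * z⁻¹, s.2⟩, fun m => ⟨m.1 * z, by simp⟩, fun s => by simp, fun m => by simp⟩)
    · intro w hw h hh s hs
      have hw' : h • w = w := hh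
      have e : h • s * z⁻¹ = h • (s * w⁻¹) * (w * z⁻¹) := by rw [smul_mul', smul_inv', hw']; group
      show h • s * z⁻¹ ∈ M
      rw [e]
      refine mul_mem (hM h _ ?_) hw
      rw [show s * w⁻¹ = s * z⁻¹ * (w * z⁻¹)⁻¹ by group]
      exact mul_mem hs (inv_mem hw)
  have hx1 : x ≠ 1 := fun e => hx (e ▸ M.one_mem)
  have hMx : ∀ z, z ∉ M → ∀ m ∈ M, m ≠ 1 → C m = C z := by
    intro z hz m hm hm1
    have h1 := key z hz m hm
    refine (Subgroup.eq_of_le_of_card_ge (fun h hh => ?_) (by rw [hc m hm1, hc z (fun e => hz (e ▸ M.one_mem))])).symm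
    have h2 : h • (m * z) = m * z := by
      have : h ∈ C (m * z) := h1 ▸ hh
      exact this
    rw [smul_mul', (hh : h • z = z)] at h2
    exact mul_right_cancel h2
  obtain ⟨m, hm, hm1⟩ := M.ne_bot_iff_exists_ne_one.1 hne.1 |> fun ⟨⟨m, hm⟩, h⟩ => (⟨m, hm, fun e => h (Subtype.ext e)⟩ : ∃ m, m ∈ M ∧ m ≠ 1)
  refine false_of_stabilizer_const hc hc1 hx1 fun y hy => ?_
  by_cases hyM : y ∈ M
  · exact hMx x hx y hyM hy
  · exact (hMx y hyM m hm hm1).symm.trans (hMx x hx m hm hm1)

include hc in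
theorem stabilizer_eq_of_mem_normalClosure {x y : N} (hx : x ≠ 1) (hy : y ∈ Subgroup.normalClosure {x}) (hy1 : y ≠ 1) :
    C x = C y := by
  refine Subgroup.eq_of_le_of_card_ge (fun h hh => ?_) (by rw [hc x hx, hc y hy1])
  have key : ∀ z, IsConj x z → C x = C z := fun z hz => by
    refine stabilizer_eq hc ⊤ (fun _ _ _ => Subgroup.mem_top _) (ConjClasses.mk x).carrier ?_ ?_ ?_
      (ConjClasses.mem_carrier_mk) (by rw [ConjClasses.mem_carrier_iff_mk_eq, ConjClasses.mk_eq_mk_iff_isConj]; exact hz.symm)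
    · intro s hs e
      subst e
      rw [ConjClasses.mem_carrier_iff_mk_eq, ConjClasses.mk_eq_mk_iff_isConj] at hs
      exact hx (isConj_one_right.1 hs)
    · rw [Subgroup.card_top, ← ConjAct.orbit_eq_carrier_conjClasses]
      rw [Nat.card_coe_set_eq, ← MulAction.index_stabilizer (ConjAct N) x]
      exact (Subgroup.index_dvd_card _).trans (Nat.card_congr ConjAct.ofConjAct.toEquiv).dvd
    · intro w hw h hh s hs
      rw [ConjClasses.mem_carrier_iff_mk_eq, ConjClasses.mk_eq_mk_iff_isConj] at hw hs ⊢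
      have := (MulDistribMulAction.toMonoidHom N h).map_isConj (hs.trans hw.symm)
      rw [MulDistribMulAction.toMonoidHom_apply, MulDistribMulAction.toMonoidHom_apply, (hh : h • w = w)] at this
      exact this.trans hw
  have hfix : Subgroup.normalClosure {x} ≤ (MulDistribMulAction.toMonoidHom N h).eqLocus (MonoidHom.id N) := by
    show Subgroup.closure _ ≤ _
    rw [Subgroup.closure_le]
    intro z hz0
    obtain ⟨x', hx', hz⟩ := Group.mem_conjugatesOfSet_iff.1 hz0
    obtain rfl : x' = x := hx'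
    have : h ∈ C z := key z hz ▸ hh
    exact this
  exact hfix hy

include hc in
theorem isMulCommutative [FaithfulSMul H N] [Nontrivial N] (hc1 : c ≠ 1) : ∀ a b : N, a * b = b * a := by
  let P : Subgroup N → Prop := fun M => M.Normal ∧ M ≠ ⊥ ∧ ∀ M' : Subgroup N, M'.Normal → M' ≤ M → M' ≠ ⊥ → M' = M
  have hex : ∀ x : N, x ≠ 1 → ∃ M, P M ∧ M ≤ Subgroup.normalClosure {x} := by
    intro x hx
    obtain ⟨M, hM⟩ := (Set.toFinite {M : Subgroup N | M.Normal ∧ M ≠ ⊥ ∧ M ≤ Subgroup.normalClosure {x}}).exists_minimal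
      ⟨_, inferInstance, fun e => hx (Subgroup.mem_bot.1 (e ▸ Subgroup.subset_normalClosure (Set.mem_singleton _))), le_rfl⟩
    exact ⟨M, ⟨hM.1.1, hM.1.2.1, fun M' h1 h2 h3 => le_antisymm h2 (hM.2 ⟨h1, h3, h2.trans hM.1.2.2⟩ h2)⟩, hM.1.2.2⟩
  have hcomm : ∀ M M' : Subgroup N, P M → P M' → M ≠ M' → ∀ a ∈ M, ∀ b ∈ M', a * b = b * a := by
    intro M M' hM hM' hne a ha b hb
    haveI := hM.1; haveI := hM'.1
    have hd : Disjoint M M' := by
      rw [disjoint_iff]
      by_contra h
      have e1 := hM.2.2 _ (Subgroup.normal_inf_normal M M') inf_le_left h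
      have e2 := hM'.2.2 _ (Subgroup.normal_inf_normal M M') inf_le_right h
      exact hne (e1.symm.trans e2)
    exact (Subgroup.commute_of_normal_of_disjoint M M' hM.1 hM'.1 hd a b ha hb).eq
  by_cases hab : ∃ M, P M ∧ ∀ a ∈ M, ∀ b ∈ M, a * b = b * a
  · obtain ⟨M₀, hM₀, hM₀c⟩ := hab
    let X : Set N := {x | ∃ M, P M ∧ (∀ a ∈ M, ∀ b ∈ M, a * b = b * a) ∧ x ∈ M}
    have hX : ∀ a ∈ X, ∀ b ∈ X, a * b = b * a := by
      rintro a ⟨M, hM, hMc, ha⟩ b ⟨M', hM', -, hb⟩
      by_cases e : M = M'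
      · exact hMc a ha b (e ▸ hb)
      · exact hcomm M M' hM hM' e a ha b hb
    have hinv : ∀ h : H, ∀ m ∈ Subgroup.closure X, h • m ∈ Subgroup.closure X := by
      intro h m hm
      have hle : Subgroup.closure X ≤ (Subgroup.closure X).comap (MulDistribMulAction.toMonoidHom N h) := by
        rw [Subgroup.closure_le]
        rintro x ⟨M, hM, hMc, hxM⟩
        refine Subgroup.subset_closure ⟨M.comap (MulDistribMulAction.toMonoidHom N h⁻¹), ?_, ?_, ?_⟩
        · have hinj : Function.Injective (MulDistribMulAction.toMonoidHom N h⁻¹) := MulAction.injective h⁻¹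
          have hsurj : Function.Surjective (MulDistribMulAction.toMonoidHom N h⁻¹) := MulAction.surjective h⁻¹
          refine ⟨hM.1.comap _, fun e => hM.2.1 ?_, fun M' h1 h2 h3 => ?_⟩
          · rw [← Subgroup.map_comap_eq_self_of_surjective hsurj M, e, Subgroup.map_bot]
          · have h4 := hM.2.2 (M'.map (MulDistribMulAction.toMonoidHom N h⁻¹)) (h1.map _ hsurj)
              (Subgroup.map_le_iff_le_comap.2 h2) (fun e => h3 ((Subgroup.map_eq_bot_iff_of_injective _ hinj).1 e))
            rw [← h4, Subgroup.comap_map_eq_self_of_injective hinj]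
        · intro a ha b hb
          have := hMc _ ha _ hb
          rw [← map_mul, ← map_mul] at this
          exact MulAction.injective h⁻¹ this
        · show h⁻¹ • (h • x) ∈ M
          rwa [inv_smul_smul]
      exact hle hm
    rcases irreducible hc hc1 _ hinv with e | e
    · obtain ⟨⟨m, hm⟩, hm1⟩ := M₀.ne_bot_iff_exists_ne_one.1 hM₀.2.1
      have h1 : m ∈ (⊥ : Subgroup N) := e ▸ Subgroup.subset_closure ⟨M₀, hM₀, hM₀c, hm⟩
      exact absurd (Subtype.ext (Subgroup.mem_bot.1 h1)) hm1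
    · intro a b
      exact congrArg Subtype.val ((Subgroup.isMulCommutative_closure hX).1.1
        ⟨a, by rw [e]; trivial⟩ ⟨b, by rw [e]; trivial⟩)
  · exfalso
    push Not at hab
    obtain ⟨x₀, hx₀⟩ := exists_ne (1 : N)
    have hmm : ∀ M M' : Subgroup N, P M → P M' → ∀ m ∈ M, ∀ n ∈ M, m * n ≠ n * m →
        ∀ m' ∈ M', ∀ n' ∈ M', m' * n' ≠ n' * m' → C m = C m' := by
      intro M M' hM hM' m hm n hn hmn m' hm' n' hn' hmn'
      have hm1 : m ≠ 1 := fun e => hmn (by simp [e])
      have hm'1 : m' ≠ 1 := fun e => hmn' (by simp [e])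
      by_cases e : M = M'
      · subst e
        refine stabilizer_eq_of_mem_normalClosure hc hm1 ?_ hm'1
        haveI := hM.1
        rw [hM.2.2 _ inferInstance (Subgroup.normalClosure_le_normal (by simpa using hm))
          (fun h => hm1 (Subgroup.mem_bot.1 (h ▸ Subgroup.subset_normalClosure (Set.mem_singleton _))))]
        exact hm'
      · have c1 : Commute n m' := hcomm M M' hM hM' e n hn m' hm'
        have c2 : Commute m n' := hcomm M M' hM hM' e m hm n' hn'
        have hz1 : m * m' ≠ 1 := fun h => hmn (by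
          rw [show m = m'⁻¹ from eq_inv_of_mul_eq_one_left h]
          exact (c1.inv_right).symm.eq)
        have hcl : ∀ g, (m * m') * g * (m * m')⁻¹ * g⁻¹ ∈ Subgroup.normalClosure {m * m'} := by
          intro g
          have hI : m * m' ∈ Subgroup.normalClosure {m * m'} := Subgroup.subset_normalClosure (Set.mem_singleton _)
          rw [show (m * m') * g * (m * m')⁻¹ * g⁻¹ = (m * m') * (g * (m * m')⁻¹ * g⁻¹) by group]
          exact mul_mem hI (Subgroup.Normal.conj_mem inferInstance _ (inv_mem hI) g)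
        have e1 : (m * m') * n * (m * m')⁻¹ * n⁻¹ = m * n * m⁻¹ * n⁻¹ := by
          rw [mul_assoc m m' n, c1.symm.eq]; group
        have e2 : (m * m') * n' * (m * m')⁻¹ * n'⁻¹ = m' * n' * m'⁻¹ * n'⁻¹ := by
          have hc3 : Commute m (m' * n' * m'⁻¹) := hcomm M M' hM hM' e m hm _ (hM'.1.conj_mem _ hn' m')
          calc (m * m') * n' * (m * m')⁻¹ * n'⁻¹ = m * (m' * n' * m'⁻¹) * m⁻¹ * n'⁻¹ := by group
            _ = _ := by rw [hc3.eq]; group
        have step : ∀ (a b : N), a * b ≠ b * a → ∀ L : Subgroup N, L.Normal → a ∈ L →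
            a * b * a⁻¹ * b⁻¹ ≠ 1 ∧ a * b * a⁻¹ * b⁻¹ ∈ L := fun a b hab L hL ha =>
          ⟨fun h => hab (by rwa [mul_inv_eq_one, mul_inv_eq_iff_eq_mul] at h),
            by rw [show a * b * a⁻¹ * b⁻¹ = a * (b * a⁻¹ * b⁻¹) by group]; exact mul_mem ha (hL.conj_mem _ (inv_mem ha) b)⟩
        obtain ⟨u1, u2⟩ := step m n hmn (Subgroup.normalClosure {m}) inferInstance (Subgroup.subset_normalClosure (Set.mem_singleton _))
        obtain ⟨w1, w2⟩ := step m' n' hmn' (Subgroup.normalClosure {m'}) inferInstance (Subgroup.subset_normalClosure (Set.mem_singleton _))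
        rw [stabilizer_eq_of_mem_normalClosure hc hm1 u2 u1, stabilizer_eq_of_mem_normalClosure hc hm'1 w2 w1,
          ← stabilizer_eq_of_mem_normalClosure hc hz1 (e1 ▸ hcl n) u1,
          ← stabilizer_eq_of_mem_normalClosure hc hz1 (e2 ▸ hcl n') w1]
    refine false_of_stabilizer_const hc hc1 hx₀ fun y hy => ?_
    have rep : ∀ x : N, x ≠ 1 → ∃ M, P M ∧ ∃ m ∈ M, ∃ n ∈ M, m * n ≠ n * m ∧ C x = C m := by
      intro x hx
      obtain ⟨M, hM, hle⟩ := hex x hx
      obtain ⟨m, hm, n, hn, hne⟩ := hab M hM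
      exact ⟨M, hM, m, hm, n, hn, hne, stabilizer_eq_of_mem_normalClosure hc hx (hle hm) (fun e => hne (by simp [e]))⟩
    obtain ⟨M, hM, m, hm, n, hn, hne, e1⟩ := rep y hy
    obtain ⟨M', hM', m', hm', n', hn', hne', e2⟩ := rep x₀ hx₀
    rw [e1, e2]
    exact hmm M M' hM hM' m hm n hn hne m' hm' n' hn' hne'

end Abstract

/-- Let G be a finite 3/2-transitive permutation group: G acts faithfully and transitively on a finite set, the point stabilizers are non-trivial, and for each point a all orbits of G_a on the remaining points have the same size. Suppose G has a regular normal subgroup N and G is not a Frobenius group (some two-point stabilizer is non-trivial). Then N is an elementary abelian p-group for some prime p, and every non-trivial normal subgroup of G contains N (so N is the unique minimal normal subgroup). -/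
theorem result {G Ω : Type*} [Group G] [Finite G]
    [MulAction G Ω] [FaithfulSMul G Ω] [Finite Ω] (htrans : MulAction.IsPretransitive G Ω)
    (hne : ∀ a : Ω, MulAction.stabilizer G a ≠ ⊥)
    (hhalf : ∀ a b c : Ω, b ≠ a → c ≠ a →
      Nat.card (MulAction.orbit (MulAction.stabilizer G a) b) = Nat.card (MulAction.orbit (MulAction.stabilizer G a) c))
    (N : Subgroup G) [hN : N.Normal] (hNt : MulAction.IsPretransitive N Ω) (hNr : ∀ a : Ω, MulAction.stabilizer N a = ⊥)
    (hnotF : ∃ a b : Ω, a ≠ b ∧ MulAction.stabilizer G a ⊓ MulAction.stabilizer G b ≠ ⊥) :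
    (∃ p : ℕ, p.Prime ∧ IsMulCommutative N ∧ ∀ x ∈ N, x ^ p = 1) ∧
    (∀ M : Subgroup G, M.Normal → M ≠ ⊥ → N ≤ M) := by
  obtain ⟨a, b, hab, hst⟩ := hnotF
  haveI := htrans
  haveI := hNt
  let H := MulAction.stabilizer G a
  letI : MulDistribMulAction H N := MulDistribMulAction.compHom N
    ((MulAut.conjNormal (H := N)).comp H.subtype)
  have hsm : ∀ (h : H) (n : N), ((h • n : N) : G) = h * n * (h : G)⁻¹ := fun h n => rfl
  have hinj : ∀ m n : N, (m : G) • a = (n : G) • a → m = n := by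
    intro m n e
    have : (n⁻¹ * m : N) ∈ MulAction.stabilizer N a := by
      rw [MulAction.mem_stabilizer_iff, mul_smul]
      show (n : G)⁻¹ • (m : G) • a = a
      rw [e, inv_smul_smul]
    rw [hNr a, Subgroup.mem_bot, inv_mul_eq_one] at this
    exact this.symm
  have hstab : ∀ (h : H) (n : N), h • n = n ↔ (h : G) • ((n : G) • a) = (n : G) • a := by
    intro h n
    have e : ((h • n : N) : G) • a = (h : G) • ((n : G) • a) := by
      rw [hsm, mul_smul, mul_smul, MulAction.mem_stabilizer_iff.1 (inv_mem h.2)]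
    exact ⟨fun h' => by rw [← e, h'], fun h' => hinj _ _ (e.trans h')⟩
  haveI : FaithfulSMul H N := ⟨fun {h₁ h₂} hh => Subtype.ext (FaithfulSMul.eq_of_smul_eq_smul (α := Ω) fun x => by
    obtain ⟨n, rfl⟩ := MulAction.exists_smul_eq N a x
    have h3 := (hstab (h₂⁻¹ * h₁) n).1 (by rw [mul_smul, hh, inv_smul_smul])
    rw [Subgroup.coe_mul, Subgroup.coe_inv, mul_smul, inv_smul_eq_iff] at h3
    exact h3)⟩
  obtain ⟨n₀, hn₀⟩ := MulAction.exists_smul_eq N a b
  have hn₀1 : n₀ ≠ 1 := fun e => hab (by rw [← hn₀, e, one_smul])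
  have hequiv : ∀ n : N, MulAction.stabilizer H n = MulAction.stabilizer H ((n : G) • a) := fun n => by
    ext h; exact hstab h n
  set c := Nat.card (MulAction.stabilizer H n₀) with hcdef
  have hc : ∀ x : N, x ≠ 1 → Nat.card (MulAction.stabilizer H x) = c := by
    intro x hx
    have h1 := hhalf a ((x : G) • a) b (fun e => hx (hinj x 1 (by simpa using e))) hab.symm
    have key : ∀ y : Ω, Nat.card (MulAction.orbit H y) * Nat.card (MulAction.stabilizer H y) = Nat.card H := fun y => by
      rw [← Nat.card_prod]; exact Nat.card_congr (MulAction.orbitProdStabilizerEquivGroup H y)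
    have k1 := key ((x : G) • a)
    have k2 := key b
    rw [hcdef, hequiv x, hequiv n₀, show (n₀ : G) • a = b from hn₀]
    rw [h1] at k1
    have hpos : 0 < Nat.card (MulAction.orbit H b) :=
      Nat.pos_of_ne_zero fun e => by rw [e, zero_mul] at k2; exact Nat.card_pos.ne' k2.symm
    exact Nat.eq_of_mul_eq_mul_left hpos (k1.trans k2.symm)
  have hc1 : c ≠ 1 := by
    rw [hcdef, hequiv n₀, show (n₀ : G) • a = b from hn₀]
    intro e
    refine hst (le_bot_iff.1 fun g hg => Subgroup.mem_bot.2 ?_)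
    have : (⟨g, hg.1⟩ : H) ∈ MulAction.stabilizer H b := hg.2
    rw [Subgroup.card_eq_one.1 e, Subgroup.mem_bot] at this
    exact congrArg Subtype.val this
  haveI : Nontrivial N := ⟨⟨n₀, 1, hn₀1⟩⟩
  have hcomm := isMulCommutative hc hc1
  constructor
  · obtain ⟨p, hp, hpd⟩ := Nat.exists_prime_and_dvd (Finite.one_lt_card (α := N)).ne'
    haveI := Fact.mk hp
    obtain ⟨z, hz⟩ := exists_prime_orderOf_dvd_card' p hpd
    let M : Subgroup N :=
      { carrier := {x | x ^ p = 1}
        one_mem' := one_pow p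
        mul_mem' := fun {x y} hx hy => by
          show (x * y) ^ p = 1
          rw [(show Commute x y from hcomm x y).mul_pow, hx, hy, one_mul]
        inv_mem' := fun {x} hx => by
          show x⁻¹ ^ p = 1
          rw [inv_pow, hx, inv_one] }
    have hM : M = ⊤ := (irreducible hc hc1 M fun h m hm => by
      show (h • m) ^ p = 1
      rw [← smul_pow', (hm : m ^ p = 1), smul_one]).resolve_left fun e => by
        have : z ∈ (⊥ : Subgroup N) := e ▸ (hz ▸ pow_orderOf_eq_one z : z ^ p = 1)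
        rw [Subgroup.mem_bot.1 this, orderOf_one] at hz
        exact hp.ne_one hz.symm
    refine ⟨p, hp, ⟨⟨hcomm⟩⟩, fun x hx => ?_⟩
    have : (⟨x, hx⟩ : N) ∈ M := hM ▸ Subgroup.mem_top _
    exact congrArg Subtype.val this
  · intro M hM hM1
    rcases irreducible hc hc1 (M.subgroupOf N) (fun h m hm => by
      rw [Subgroup.mem_subgroupOf, hsm]
      exact hM.conj_mem _ hm h) with e | e
    · exfalso
      apply hM1
      rw [Subgroup.subgroupOf_eq_bot] at e
      refine le_bot_iff.1 fun g hg => ?_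
      have hgc : ∀ n ∈ N, g * n = n * g := fun n hn =>
        (Subgroup.commute_of_normal_of_disjoint M N hM hN e g n hg hn).eq
      obtain ⟨n, hn⟩ := MulAction.exists_smul_eq N a (g • a)
      let h : H := ⟨(n : G)⁻¹ * g, by rw [MulAction.mem_stabilizer_iff, mul_smul, inv_smul_eq_iff]; exact hn.symm⟩
      have hh : h = 1 := FaithfulSMul.eq_of_smul_eq_smul (α := N) fun m => by
        rw [one_smul]
        refine Subtype.ext ?_
        rw [hsm]
        show (n : G)⁻¹ * g * m * ((n : G)⁻¹ * g)⁻¹ = m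
        rw [mul_inv_eq_iff_eq_mul, mul_assoc, hgc m m.2, ← mul_assoc, ← mul_assoc]
        congr 1
        exact congrArg Subtype.val (hcomm n⁻¹ m)
      have : g = n := (inv_mul_eq_one.1 (congrArg Subtype.val hh)).symm
      exact Subgroup.disjoint_def.1 e hg (this ▸ n.2)
    · exact Subgroup.subgroupOf_eq_top.1 e

end Cfsg.Agent.S3356
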