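import Cfsg.Statements.S3379
-- import your own Cfsg.Agent.* helpers here

set_option autoImplicit false
open Cfsg

namespace Cfsg.Agent.S3379

/-- Let G be a finite group all of whose Sylow subgroups are cyclic. Then G is generated by two elements x and y of coprime orders n and m with x⁻¹yx = y^r, where gcd(r − 1, m) = 1 and r^n ≡ 1 (mod m). -/
theorem result {G : Type*} [Group G] [Finite G]
    (hZ : ∀ (p : ℕ) [Fact p.Prime] (P : Sylow p G), IsCyclic (P : Subgroup G)) :
    ∃ (x y : G) (n m r : ℕ), Subgroup.closure {x, y} = ⊤ ∧ orderOf x = n ∧ orderOf y = m ∧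
      x⁻¹ * y * x = y ^ r ∧ Nat.Coprime (r - 1) m ∧ Nat.Coprime n m ∧ 1 ≤ r ∧ r ^ n % m = 1 % m := by
  haveI : IsZGroup G := ⟨fun p hp P => @hZ p ⟨hp⟩ P⟩
  haveI := IsZGroup.isCyclic_commutator (G := G)
  obtain ⟨H, hH⟩ := Subgroup.exists_right_complement'_of_coprime (IsZGroup.coprime_commutator_index G)
  haveI : IsCyclic (G ⧸ commutator G) := (inferInstance : IsCyclic (Abelianization G))
  haveI hHc : IsCyclic H :=
    isCyclic_of_surjective (hH.symm.QuotientMulEquiv : G ⧸ commutator G ≃* H).toMonoidHom (MulEquiv.surjective _)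
  obtain ⟨x, hx⟩ := (Subgroup.isCyclic_iff_exists_zpowers_eq_top H).1 hHc
  obtain ⟨y, hy⟩ := (Subgroup.isCyclic_iff_exists_zpowers_eq_top (commutator G)).1 ‹_›
  have hconj : ∀ g : G, ∀ k : ℤ, g * y ^ k * g⁻¹ ∈ Subgroup.zpowers y := by
    intro g k
    rw [hy]
    exact Subgroup.Normal.conj_mem inferInstance _ (hy ▸ Subgroup.zpow_mem_zpowers y k) g
  obtain ⟨r₀, hr₀⟩ : ∃ r₀ : ℕ, y ^ r₀ = x⁻¹ * y * x := by
    have h : x⁻¹ * y * x ∈ Subgroup.zpowers y := by simpa using hconj x⁻¹ 1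
    rwa [← mem_powers_iff_mem_zpowers] at h
  have hym : y ^ orderOf y = 1 := pow_orderOf_eq_one y
  have hm : 0 < orderOf y := orderOf_pos y
  obtain ⟨r, hr1, hr⟩ : ∃ r : ℕ, 1 ≤ r ∧ x⁻¹ * y * x = y ^ r :=
    ⟨r₀ + orderOf y, by omega, by rw [pow_add, hym, mul_one, hr₀]⟩
  have htop : Subgroup.closure {x, y} = ⊤ := by
    rw [Set.insert_eq, Subgroup.closure_union, ← Subgroup.zpowers_eq_closure, ← Subgroup.zpowers_eq_closure,
      hx, hy, sup_comm, hH.sup_eq_top]
  have hcop : Nat.Coprime (orderOf x) (orderOf y) := by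
    rw [← Nat.card_zpowers, ← Nat.card_zpowers, hx, hy, ← hH.symm.index_eq_card]
    exact (IsZGroup.coprime_commutator_index G).symm
  have hxk : ∀ k : ℕ, (x ^ k)⁻¹ * y * x ^ k = y ^ r ^ k := by
    intro k
    induction k with
    | zero => simp
    | succ k ih =>
      calc (x ^ (k + 1))⁻¹ * y * x ^ (k + 1) = x⁻¹ * ((x ^ k)⁻¹ * y * x ^ k) * x := by
            rw [pow_succ]; group
        _ = (x⁻¹ * y * x⁻¹⁻¹) ^ r ^ k := by rw [ih, inv_inv]; exact (by simpa using (conj_pow (a := x⁻¹) (b := y) (i := r ^ k)).symm)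
        _ = y ^ r ^ (k + 1) := by rw [inv_inv, hr, ← pow_mul, pow_succ']
  refine ⟨x, y, orderOf x, orderOf y, r, htop, rfl, rfl, hr, ?_, hcop, hr1, ?_⟩
  · -- `y ^ (r - 1)` generates a normal subgroup with abelian quotient
    let M := Subgroup.zpowers (y ^ (r - 1))
    haveI hMn : M.Normal := by
      refine ⟨fun a ha g => ?_⟩
      obtain ⟨j, rfl⟩ := Subgroup.mem_zpowers_iff.1 ha
      obtain ⟨l, hl⟩ := Subgroup.mem_zpowers_iff.1 (hconj g 1)
      rw [zpow_one] at hl
      refine Subgroup.mem_zpowers_iff.2 ⟨l * j, ?_⟩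
      rw [← conj_zpow, ← conj_pow, ← hl]
      simp only [← zpow_natCast, ← zpow_mul]
      congr 1; ring
    have hMc : commutator G ≤ M := by
      let π := QuotientGroup.mk' M
      have hxy : π x * π y = π y * π x := by
        rw [← map_mul, ← map_mul]
        refine (QuotientGroup.mk'_eq_mk' M).2 ⟨y ^ (r - 1), Subgroup.mem_zpowers _, ?_⟩
        rw [mul_assoc, ← pow_succ', Nat.sub_add_cancel hr1, ← hr]
        group
      have htop' : Subgroup.closure (π '' {x, y}) = ⊤ := by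
        rw [← MonoidHom.map_closure, htop, Subgroup.map_top_of_surjective π (QuotientGroup.mk'_surjective M)]
      haveI : IsMulCommutative (Subgroup.closure (π '' {x, y})) := by
        refine Subgroup.isMulCommutative_closure ?_
        rintro _ ⟨a, rfl | rfl, rfl⟩ _ ⟨b, rfl | rfl, rfl⟩ <;> first | rfl | exact hxy | exact hxy.symm
      refine Subgroup.Normal.quotient_commutative_iff_commutator_le.1 ⟨⟨fun a b => ?_⟩⟩
      have := congrArg Subtype.val (mul_comm' (⟨a, htop'.symm ▸ Subgroup.mem_top a⟩ : Subgroup.closure (π '' {x, y})) ⟨b, htop'.symm ▸ Subgroup.mem_top b⟩)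
      exact this
    have hyM : orderOf y ∣ orderOf (y ^ (r - 1)) := by
      rw [← Nat.card_zpowers, ← Nat.card_zpowers]
      exact Subgroup.card_dvd_of_le (hy ▸ hMc)
    rw [orderOf_pow] at hyM
    have hd := Nat.le_of_dvd (Nat.div_pos (Nat.le_of_dvd hm (Nat.gcd_dvd_left _ _)) (Nat.gcd_pos_of_pos_left _ hm)) hyM
    rw [Nat.coprime_iff_gcd_eq_one, Nat.gcd_comm]
    by_contra hne
    have : orderOf y / (orderOf y).gcd (r - 1) < orderOf y :=
      Nat.div_lt_self hm (by have := Nat.gcd_pos_of_pos_left (r - 1) hm; omega)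
    omega
  · have h := hxk (orderOf x)
    rw [pow_orderOf_eq_one, inv_one, one_mul, mul_one] at h
    exact ((pow_eq_pow_iff_modEq).1 (by rw [← h, pow_one]) : r ^ orderOf x ≡ 1 [MOD orderOf y])

end Cfsg.Agent.S3379
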