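import Cfsg.Statements.S3382
-- import your own Cfsg.Agent.* helpers here

set_option autoImplicit false
open Cfsg

namespace Cfsg.Agent.S3382

variable {T : Type*} [Group T]

/-- An automorphism of odd order fixes a point that a `2`-power of it fixes. -/
theorem fix_of_pow {φ : MulAut T} {r k : ℕ} (hr : Odd r) (hφ : φ ^ r = 1) {x : T} (h : (φ ^ 2 ^ k) x = x) :
    φ x = x := by
  let S := MulAction.stabilizer (MulAut T) x
  have h1 : φ ^ r ∈ S := by rw [hφ]; exact one_mem _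
  have h2 : φ ^ 2 ^ k ∈ S := h
  have hc : Nat.gcd r (2 ^ k) = 1 := (Nat.coprime_two_right.2 hr).pow_right k
  have h3 : φ ^ ((Nat.gcd r (2 ^ k) : ℕ) : ℤ) ∈ S := by
    rw [Nat.gcd_eq_gcd_ab, zpow_add, zpow_mul, zpow_mul, zpow_natCast, zpow_natCast]
    exact mul_mem (zpow_mem h1 _) (zpow_mem h2 _)
  rw [hc] at h3
  rw [Nat.cast_one, zpow_one] at h3
  exact h3

theorem key (D : Subgroup T) (w : T) (k : ℕ) (hcov : ∀ x, x ∈ D ∨ w⁻¹ * x ∈ D)
    (hcomm : ∀ x ∈ D, ∀ y ∈ D, x * y = y * x) (hexp : ∀ x ∈ D, x ^ 2 ^ k = 1)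
    {φ : MulAut T} {r : ℕ} (hr : Odd r) (hφ : φ ^ r = 1) (hinv : ∀ x ∈ D, φ x ∈ D)
    (hfix : ∀ y ∈ D, y ^ 2 = 1 → φ y = y) : φ = 1 := by
  have hD : ∀ x ∈ D, φ x = x := by
    have : ∀ j, ∀ x ∈ D, x ^ 2 ^ j = 1 → φ x = x := by
      intro j
      induction j with
      | zero => intro x _ hx; rw [pow_zero, pow_one] at hx; rw [hx, map_one]
      | succ j ih =>
        intro x hxD hx
        have hsq : φ (x ^ 2) = x ^ 2 := ih _ (pow_mem hxD 2) (by rw [← pow_mul, ← pow_succ']; exact hx)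
        have hyD : x⁻¹ * φ x ∈ D := mul_mem (inv_mem hxD) (hinv x hxD)
        have hy : (x⁻¹ * φ x) ^ 2 = 1 := by
          rw [(show Commute x⁻¹ (φ x) from hcomm _ (inv_mem hxD) _ (hinv x hxD)).mul_pow, ← map_pow, hsq,
            inv_pow, inv_mul_cancel]
        have hyφ := hfix _ hyD hy
        refine fix_of_pow (k := 1) hr hφ ?_
        have e : φ x = x * (x⁻¹ * φ x) := by group
        calc (φ ^ 2 ^ 1) x = φ (φ x) := by rw [pow_one, sq]; rfl
          _ = φ (x * (x⁻¹ * φ x)) := by rw [← e]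
          _ = x * (x⁻¹ * φ x) * (x⁻¹ * φ x) := by rw [map_mul, hyφ, ← e]
          _ = x := by rw [mul_assoc, ← sq, hy, mul_one]
    exact fun x hx => this k x hx (hexp x hx)
  refine MulEquiv.ext fun x => ?_
  rcases hcov x with hx | hx
  · exact hD x hx
  have hw : φ w = w := by
    by_cases hwD : w ∈ D
    · exact hD w hwD
    have h1 : φ w ∉ D := fun h => hwD (by
      have h2 : φ (φ w) = φ w := hD _ h
      rwa [← φ.injective h2])
    have hd : w⁻¹ * φ w ∈ D := (hcov _).resolve_left h1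
    have hn : ∀ n : ℕ, (φ ^ n) w = w * (w⁻¹ * φ w) ^ n := by
      intro n
      induction n with
      | zero => simp
      | succ n ih => rw [pow_succ', MulAut.mul_apply, ih, map_mul, hD _ (pow_mem hd n), pow_succ' (w⁻¹ * φ w) n, ← mul_assoc]; group
    exact fix_of_pow (k := k) hr hφ (by rw [hn, hexp _ hd, mul_one])
  have := hD _ hx
  rw [map_mul, map_inv, hw] at this
  exact mul_left_cancel this

theorem isPGroup_mulAut [Finite T]
    (h : ∀ (φ : MulAut T) (r : ℕ), Odd r → φ ^ r = 1 → φ = 1) : IsPGroup 2 (MulAut T) := by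
  haveI : Finite (MulAut T) := Finite.of_injective (fun φ : MulAut T => ⇑φ) DFunLike.coe_injective
  refine IsPGroup.of_card (n := (Nat.card (MulAut T)).primeFactorsList.length) ?_
  refine Nat.eq_prime_pow_of_unique_prime_dvd Nat.card_pos.ne' fun {r} hr hd => ?_
  by_contra h2
  haveI := Fact.mk hr
  obtain ⟨φ, hφ⟩ := exists_prime_orderOf_dvd_card' r hd
  have := h φ r (hr.odd_of_ne_two h2) (hφ ▸ pow_orderOf_eq_one φ)
  rw [this, orderOf_one] at hφ
  exact hr.ne_one hφ.symm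

theorem z2 : ∀ a : ZMod 2, a ≠ 0 → a = 1 := by decide
theorem z3 : ∀ a : ZMod 3, a ≠ 0 → a = 1 ∨ a = -1 := by decide
theorem z3' : (-1 : ZMod 3) ≠ 1 := by decide
theorem z3'' : (-1 : ZMod 3) ≠ 0 := by decide
theorem z2' : (-1 : ZMod 2) = 1 := by decide

instance instFiniteLinearEquiv {R M : Type*} [Semiring R] [AddCommMonoid M] [Module R M] [Finite M] :
    Finite (M ≃ₗ[R] M) :=
  Finite.of_injective (fun f : M ≃ₗ[R] M => ⇑f) DFunLike.coe_injective

section Monomial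

variable {q : ℕ} [Fact q.Prime]

local notation "E" q => ((Fin 2 → ZMod q) ≃ₗ[ZMod q] (Fin 2 → ZMod q))

/-- `f` is diagonal with entries `a`, `b`. -/
def Dg (f : E q) (a b : ZMod q) : Prop := ∀ v, f v = ![a * v 0, b * v 1]

/-- `f` is antidiagonal with entries `a`, `b`. -/
def Ad (f : E q) (a b : ZMod q) : Prop := ∀ v, f v = ![a * v 1, b * v 0]

theorem Dg.one : Dg (1 : E q) 1 1 := fun v => by
  funext i; fin_cases i <;> simp

theorem Dg.mul {f g : E q} {a b c d : ZMod q} (h : Dg f a b) (h' : Dg g c d) : Dg (f * g) (a * c) (b * d) := fun v => by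
  rw [LinearEquiv.mul_apply, h', h]; funext i; fin_cases i <;> simp [mul_assoc]

theorem Dg.pow {f : E q} {a b : ZMod q} (h : Dg f a b) (n : ℕ) : Dg (f ^ n) (a ^ n) (b ^ n) := by
  induction n with
  | zero => simpa using Dg.one
  | succ n ih => simpa [pow_succ] using ih.mul h

theorem Dg.eq {f g : E q} {a b : ZMod q} (h : Dg f a b) (h' : Dg g a b) : f = g :=
  LinearEquiv.ext fun v => (h v).trans (h' v).symm

theorem Dg.unique {f : E q} {a b c d : ZMod q} (h : Dg f a b) (h' : Dg f c d) : a = c ∧ b = d := by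
  have := (h ![1, 1]).symm.trans (h' ![1, 1])
  exact ⟨by simpa using congrFun this 0, by simpa using congrFun this 1⟩

theorem Ad.mul {f g : E q} {a b c d : ZMod q} (h : Ad f a b) (h' : Ad g c d) : Dg (f * g) (a * d) (b * c) := fun v => by
  rw [LinearEquiv.mul_apply, h', h]; funext i; fin_cases i <;> simp [mul_assoc]

theorem Ad.mul_dg {f g : E q} {a b c d : ZMod q} (h : Ad f a b) (h' : Dg g c d) : Ad (f * g) (a * d) (b * c) := fun v => by
  rw [LinearEquiv.mul_apply, h', h]; funext i; fin_cases i <;> simp [mul_assoc]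

theorem Ad.eq {f g : E q} {a b : ZMod q} (h : Ad f a b) (h' : Ad g a b) : f = g :=
  LinearEquiv.ext fun v => (h v).trans (h' v).symm

theorem exists_dg {a b : ZMod q} (ha : a ≠ 0) (hb : b ≠ 0) : ∃ f : E q, Dg f a b :=
  ⟨{ toFun := fun v => ![a * v 0, b * v 1]
     map_add' := fun u v => by funext i; fin_cases i <;> simp [mul_add]
     map_smul' := fun c v => by funext i; fin_cases i <;> simp [mul_left_comm]
     invFun := fun v => ![a⁻¹ * v 0, b⁻¹ * v 1]
     left_inv := fun v => by funext i; fin_cases i <;> simp [ha, hb]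
     right_inv := fun v => by funext i; fin_cases i <;> simp [ha, hb] }, fun _ => rfl⟩

theorem exists_ad {a b : ZMod q} (ha : a ≠ 0) (hb : b ≠ 0) : ∃ f : E q, Ad f a b :=
  ⟨{ toFun := fun v => ![a * v 1, b * v 0]
     map_add' := fun u v => by funext i; fin_cases i <;> simp [mul_add]
     map_smul' := fun c v => by funext i; fin_cases i <;> simp [mul_left_comm]
     invFun := fun v => ![b⁻¹ * v 1, a⁻¹ * v 0]
     left_inv := fun v => by funext i; fin_cases i <;> simp [ha, hb]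
     right_inv := fun v => by funext i; fin_cases i <;> simp [ha, hb] }, fun _ => rfl⟩

/-- The defining property of the monomial group. -/
def IsMon (T : Subgroup (E q)) : Prop :=
  ∀ f, f ∈ T ↔ ∃ a s : ZMod q, a ≠ 0 ∧ (s = 1 ∨ s = -1) ∧ (Dg f a (s * a⁻¹) ∨ Ad f (s * a⁻¹) a)

theorem case_two {T : Subgroup (E q)} (hT : IsMon T) (hq : q = 2) (φ : MulAut T) (r : ℕ) (hr : Odd r) (hφ : φ ^ r = 1) :
    φ = 1 := by
  subst hq
  obtain ⟨g, hg⟩ := exists_ad (q := 2) one_ne_zero one_ne_zero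
  have hg' : g ∈ T := (hT g).2 ⟨1, 1, one_ne_zero, Or.inl rfl, Or.inr (by simpa using hg)⟩
  refine key ⊥ ⟨g, hg'⟩ 0 ?_ ?_ ?_ hr hφ ?_ ?_
  · rintro ⟨f, hf⟩
    obtain ⟨a, s, ha, hs, h⟩ := (hT f).1 hf
    have ha1 : a = 1 := z2 a ha
    have hs1 : s = 1 := hs.elim id fun h => h.trans z2'
    subst ha1; subst hs1
    rcases h with h | h
    · exact Or.inl (Subgroup.mem_bot.2 (Subtype.ext (Dg.eq (by simpa using h) Dg.one)))
    · refine Or.inr (Subgroup.mem_bot.2 (Subtype.ext ?_))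
      have := Ad.eq (by simpa using h : Ad f 1 1) hg
      subst this
      simp
  all_goals simp

theorem case_three {T : Subgroup (E q)} (hT : IsMon T) (hq : q = 3) (φ : MulAut T) (r : ℕ) (hr : Odd r) (hφ : φ ^ r = 1) :
    φ = 1 := by
  subst hq
  obtain ⟨u, hu⟩ := exists_ad (q := 3) z3'' one_ne_zero
  obtain ⟨g, hg⟩ := exists_ad (q := 3) (one_ne_zero (α := ZMod 3)) one_ne_zero
  have hu' : u ∈ T := (hT u).2 ⟨1, -1, one_ne_zero, Or.inr rfl, Or.inr (by simpa using hu)⟩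
  have hg' : g ∈ T := (hT g).2 ⟨1, 1, one_ne_zero, Or.inl rfl, Or.inr (by simpa using hg)⟩
  have hu2 : Dg (u ^ 2) (-1) (-1) := by simpa [sq] using hu.mul hu
  have hu4 : u ^ 4 = 1 := Dg.eq (by simpa [← pow_mul] using hu2.pow 2) Dg.one
  have hu3 : Ad (u ^ 3) 1 (-1) := by
    rw [show u ^ 3 = u * u ^ 2 from pow_succ' u 2]; simpa using hu.mul_dg hu2
  let U : T := ⟨u, hu'⟩
  have hU4 : U ^ 4 = 1 := Subtype.ext hu4
  have hmem : ∀ n : ℕ, ∀ f : T, (f : E 3) = u ^ n → f ∈ Subgroup.zpowers U := fun n f hf =>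
    (show U ^ n = f from Subtype.ext hf.symm) ▸ Subgroup.npow_mem_zpowers U n
  have hsq : ∀ f : T, f ^ 2 ≠ 1 → f = U ∨ f = U ^ 3 := by
    rintro ⟨f, hf⟩ hne
    obtain ⟨a, s, ha, hs, h⟩ := (hT f).1 hf
    rcases h with h | h
    · refine absurd (Subtype.ext (Dg.eq ?_ Dg.one)) hne
      have e1 : a ^ 2 = 1 := by rcases z3 a ha with rfl | rfl <;> simp
      have e2 : (s * a⁻¹) ^ 2 = 1 := by rcases hs with rfl | rfl <;> simp [inv_pow, e1]
      simpa [e1, e2] using h.pow 2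
    · have h2 := h.mul h
      rcases hs with rfl | rfl
      · refine absurd (Subtype.ext (Dg.eq ?_ Dg.one)) hne
        simpa [sq, ha] using h2
      · obtain rfl | rfl := z3 a ha
        · exact Or.inl (Subtype.ext (Ad.eq (by simpa using h) hu))
        · exact Or.inr (Subtype.ext (Ad.eq (by simpa using h) hu3))
  refine key (Subgroup.zpowers U) ⟨g, hg'⟩ 2 ?_ ?_ ?_ hr hφ ?_ ?_
  · rintro ⟨f, hf⟩
    obtain ⟨a, s, ha, hs, h⟩ := (hT f).1 hf
    obtain rfl | rfl := z3 a ha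
    all_goals rcases hs with rfl | rfl
    all_goals rcases h with h | h
    all_goals simp at h
    all_goals first
      | exact Or.inl (hmem 1 _ (by simpa using Ad.eq h (by simpa using hu)))
      | exact Or.inl (hmem 3 _ (Ad.eq h (by simpa using hu3)))
      | exact Or.inl (hmem 0 _ (by simpa using Dg.eq h (by simpa using Dg.one)))
      | exact Or.inl (hmem 2 _ (Dg.eq h (by simpa using hu2)))
      | refine Or.inr (hmem 0 _ ?_); (show g⁻¹ * f = u ^ 0); rw [pow_zero, Ad.eq h hg, inv_mul_cancel]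
      | refine Or.inr (hmem 1 _ ?_); (show g⁻¹ * f = u ^ 1); rw [inv_mul_eq_iff_eq_mul, pow_one]; exact Dg.eq h (by simpa using hg.mul hu)
      | refine Or.inr (hmem 2 _ ?_); (show g⁻¹ * f = u ^ 2); rw [inv_mul_eq_iff_eq_mul]; exact Ad.eq h (by simpa using hg.mul_dg hu2)
      | refine Or.inr (hmem 3 _ ?_); (show g⁻¹ * f = u ^ 3); rw [inv_mul_eq_iff_eq_mul]; exact Dg.eq h (by simpa using hg.mul hu3)
  · intro x hx y hy
    obtain ⟨i, rfl⟩ := hx; obtain ⟨j, rfl⟩ := hy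
    exact ((Commute.refl U).zpow_zpow i j).eq
  · rintro x ⟨i, rfl⟩
    show (U ^ i) ^ 4 = 1
    rw [← zpow_natCast, ← zpow_mul, mul_comm, zpow_mul, zpow_natCast, hU4, one_zpow]
  · rintro x ⟨i, rfl⟩
    rw [map_zpow]
    refine zpow_mem ?_ i
    have h1 : φ U ^ 2 ≠ 1 := by
      rw [← map_pow, Ne, MulEquiv.map_eq_one_iff]
      intro h
      have := Dg.unique (by rw [← show (U ^ 2 : T).1 = u ^ 2 from rfl, h]; exact Dg.one) hu2
      exact z3' this.1.symm
    rcases hsq _ h1 with h | h <;> rw [h]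
    · exact Subgroup.mem_zpowers U
    · exact Subgroup.npow_mem_zpowers U 3
  · intro y hy h2
    have hsqU : ∀ i : ℕ, i < 4 → (U ^ i) ^ 2 = 1 → φ (U ^ i) = U ^ i := by
      intro i hi hone
      have hU2 : φ (U ^ 2) = U ^ 2 := by
        have h1 : φ U ^ 2 ≠ 1 := by
          rw [← map_pow, Ne, MulEquiv.map_eq_one_iff]
          intro h
          have := Dg.unique (by rw [← show (U ^ 2 : T).1 = u ^ 2 from rfl, h]; exact Dg.one) hu2
          exact z3' this.1.symm
        rw [map_pow]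
        rcases hsq _ h1 with h | h <;> rw [h]
        rw [← pow_mul, show 3 * 2 = 4 + 2 from rfl, pow_add, hU4, one_mul]
      have hne : U ^ 2 ≠ 1 := fun h => by
        have := Dg.unique (by rw [← show (U ^ 2 : T).1 = u ^ 2 from rfl, h]; exact Dg.one) hu2
        exact z3' this.1.symm
      interval_cases i
      · simp
      · exact absurd (by simpa using hone) hne
      · exact hU2
      · exact absurd (by rw [← pow_mul, show 3 * 2 = 4 + 2 from rfl, pow_add, hU4, one_mul] at hone; exact hone) hne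
    obtain ⟨n, rfl⟩ := (Submonoid.mem_powers_iff _ _).1 ((isOfFinOrder_of_finite U).mem_powers_iff_mem_zpowers.2 hy)
    rw [← pow_mod_orderOf U n] at h2 ⊢
    exact hsqU _ ((Nat.mod_lt _ (orderOf_pos U)).trans_le (Nat.le_of_dvd (by norm_num) (orderOf_dvd_of_pow_eq_one hU4))) h2

theorem case_large {m : ℕ} {T : Subgroup (E q)} (hT : IsMon T) (hq : q = 2 ^ m + 1) (hm : 3 ≤ m)
    (φ : MulAut T) (r : ℕ) (hr : Odd r) (hφ : φ ^ r = 1) : φ = 1 := by
  have h9 : 9 ≤ q := by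
    have := Nat.pow_le_pow_right (show 0 < 2 by norm_num) hm
    omega
  have hpow : ∀ a : ZMod q, a ≠ 0 → a ^ 2 ^ m = 1 := fun a ha => by
    rw [show 2 ^ m = q - 1 by omega]; exact ZMod.pow_card_sub_one_eq_one ha
  let D : Subgroup T :=
    { carrier := {f | ∃ a b, Dg (f : E q) a b}
      one_mem' := ⟨1, 1, Dg.one⟩
      mul_mem' := fun ⟨_, _, h⟩ ⟨_, _, h'⟩ => ⟨_, _, h.mul h'⟩
      inv_mem' := by
        rintro f ⟨a, b, h⟩
        obtain ⟨n, hn⟩ := (Submonoid.mem_powers_iff _ _).1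
          ((isOfFinOrder_of_finite f).mem_powers_iff_mem_zpowers.2 (inv_mem (Subgroup.mem_zpowers f)))
        exact ⟨_, _, by rw [← hn]; exact h.pow n⟩ }
  have hform : ∀ f ∈ D, ∃ a s : ZMod q, a ≠ 0 ∧ (s = 1 ∨ s = -1) ∧ Dg (f : E q) a (s * a⁻¹) := by
    rintro ⟨f, hf⟩ ⟨x, y, hxy⟩
    obtain ⟨a, s, ha, hs, h | h⟩ := (hT f).1 hf
    · exact ⟨a, s, ha, hs, h⟩
    · have := congrFun ((h ![1, 0]).symm.trans (hxy ![1, 0])) 1
      simp [ha] at this
  have hexp : ∀ f ∈ D, f ^ 2 ^ m = 1 := by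
    intro f hf
    obtain ⟨a, s, ha, hs, h⟩ := hform f hf
    have hs0 : s * a⁻¹ ≠ 0 := mul_ne_zero (by rcases hs with rfl | rfl <;> simp) (inv_ne_zero ha)
    exact Subtype.ext (Dg.eq (by simpa [hpow a ha, hpow _ hs0] using h.pow (2 ^ m)) Dg.one)
  have hfour : ∀ f : T, f ∉ D → f ^ 4 = 1 := by
    rintro ⟨f, hf⟩ hfD
    obtain ⟨a, s, ha, hs, h | h⟩ := (hT f).1 hf
    · exact absurd ⟨_, _, h⟩ hfD
    · refine Subtype.ext (Dg.eq (?_ : Dg (f ^ 4) 1 1) Dg.one)
      have := (h.mul h).pow 2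
      rw [← sq, ← pow_mul] at this
      rcases hs with rfl | rfl <;> simpa [mul_pow, ha] using this
  haveI hne3 : (2 : ZMod q) ≠ 0 := by
    rw [show (2 : ZMod q) = ((2 : ℕ) : ZMod q) from rfl, Ne, ZMod.natCast_eq_zero_iff]
    exact fun h => absurd (Nat.le_of_dvd (by norm_num) h) (by omega)
  obtain ⟨c, hc⟩ := exists_dg hne3 (inv_ne_zero hne3)
  have hcT : c ∈ T := (hT c).2 ⟨2, 1, hne3, Or.inl rfl, Or.inl (by simpa using hc)⟩
  let C : T := ⟨c, hcT⟩
  have hC4 : C ^ 4 ≠ 1 := fun h => by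
    have h1 := (Dg.unique (hc.pow 4) (by rw [show c ^ 4 = 1 from congrArg Subtype.val h]; exact Dg.one)).1
    have h15 : ((15 : ℕ) : ZMod q) = 0 := by
      have : ((15 : ℕ) : ZMod q) + 1 = 2 ^ 4 := by norm_num
      rw [h1] at this
      simpa using this
    rw [ZMod.natCast_eq_zero_iff] at h15
    have h15' := Nat.le_of_dvd (by norm_num) h15
    obtain hm' | hm' : m = 3 ∨ 4 ≤ m := by omega
    · subst hm'; rw [hq] at h15; norm_num at h15
    · have := Nat.pow_le_pow_right (show 0 < 2 by norm_num) hm'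
      omega
  have hcomm : ∀ f ∈ D, ∀ g ∈ D, f * g = g * f := by
    rintro f ⟨a, b, h⟩ g ⟨c, d, h'⟩
    exact Subtype.ext (Dg.eq (h.mul h') (by simpa [mul_comm] using h'.mul h))
  have hCD : C ∈ D := ⟨_, _, hc⟩
  have hinv : ∀ f ∈ D, φ f ∈ D := by
    have hbig : ∀ f : T, f ^ 4 ≠ 1 → φ f ∈ D := fun f hf => by
      by_contra h
      exact hf (φ.injective (by rw [map_pow, hfour _ h, map_one]))
    intro f hf
    by_cases h4 : f ^ 4 = 1
    · have : (f * C) ^ 4 ≠ 1 := by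
        rw [(show Commute f C from hcomm f hf C hCD).mul_pow, h4, one_mul]; exact hC4
      have h1 := mul_mem (hbig _ this) (inv_mem (hbig _ hC4))
      rwa [← map_inv, ← map_mul, mul_inv_cancel_right] at h1
    · exact hbig f h4
  obtain ⟨i, hi⟩ : IsSquare (-1 : ZMod q) := by
    rw [ZMod.exists_sq_eq_neg_one_iff]
    have : 2 ^ m = 4 * 2 ^ (m - 2) := by rw [show (4 : ℕ) = 2 ^ 2 from rfl, ← pow_add]; congr 1; omega
    omega
  have hi0 : i ≠ 0 := fun h => by simp [h] at hi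
  obtain ⟨d, hd⟩ := exists_dg hi0 (inv_ne_zero hi0)
  have hdT : d ∈ T := (hT d).2 ⟨i, 1, hi0, Or.inl rfl, Or.inl (by simpa using hd)⟩
  let M : T := ⟨d, hdT⟩ ^ 2
  have hM : Dg (M : E q) (-1) (-1) := by
    have := hd.pow 2
    rw [sq, sq, sq, ← mul_inv, ← hi, inv_neg, inv_one, ← sq] at this
    exact this
  have hM1 : (-1 : ZMod q) ≠ 1 := fun h => hne3 (by linear_combination -h)
  have hMne : M ≠ 1 := fun h => hM1 (Dg.unique hM (by rw [h]; exact Dg.one)).1
  have hfixM : φ M = M := by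
    obtain ⟨a, s, ha, hs, h⟩ := hform _ (hinv ⟨d, hdT⟩ ⟨_, _, hd⟩)
    have h2 := h.pow 2
    have hφM2 : φ M ^ 2 = 1 := by
      rw [← map_pow, show M ^ 2 = 1 from Subtype.ext (Dg.eq (by simpa using hM.pow 2) Dg.one), map_one]
    have hval : Dg (φ M : T).1 (a ^ 2) (a⁻¹ ^ 2) := by
      rw [map_pow, SubmonoidClass.coe_pow]
      rcases hs with rfl | rfl <;> simpa [mul_pow] using h2
    have h4 : (a ^ 2) ^ 2 = 1 :=
      (Dg.unique (hval.pow 2) (by rw [← SubmonoidClass.coe_pow, hφM2]; exact Dg.one)).1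
    rcases sq_eq_one_iff.1 h4 with e | e
    · exact absurd (φ.injective ((Subtype.ext (Dg.eq (by simpa [e] using hval) Dg.one) : φ M = 1).trans (map_one φ).symm)) hMne
    · exact Subtype.ext (Dg.eq (by simpa [e] using hval) hM)
  obtain ⟨g, hg⟩ := exists_ad (q := q) one_ne_zero one_ne_zero
  have hgT : g ∈ T := (hT g).2 ⟨1, 1, one_ne_zero, Or.inl rfl, Or.inr (by simpa using hg)⟩
  refine key D ⟨g, hgT⟩ m ?_ hcomm hexp hr hφ hinv ?_
  · rintro ⟨f, hf⟩
    obtain ⟨a, s, ha, hs, h | h⟩ := (hT f).1 hf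
    · exact Or.inl ⟨_, _, h⟩
    · refine Or.inr ⟨a, s * a⁻¹, ?_⟩
      show Dg (g⁻¹ * f) _ _
      have hgg : g * g = 1 := Dg.eq (by simpa using hg.mul hg) Dg.one
      rw [inv_eq_of_mul_eq_one_right hgg]
      simpa using hg.mul h
  · have hcase : ∀ f ∈ D, f ^ 2 = 1 → f = 1 ∨ f = M ∨ Dg (f : E q) 1 (-1) ∨ Dg (f : E q) (-1) 1 := by
      rintro f ⟨a, b, h⟩ hf2
      have h2 := Dg.unique (h.pow 2) (by rw [← SubmonoidClass.coe_pow, hf2]; exact Dg.one)
      rcases sq_eq_one_iff.1 h2.1 with rfl | rfl <;> rcases sq_eq_one_iff.1 h2.2 with rfl | rfl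
      · exact Or.inl (Subtype.ext (Dg.eq h Dg.one))
      · exact Or.inr (Or.inr (Or.inl h))
      · exact Or.inr (Or.inr (Or.inr h))
      · exact Or.inr (Or.inl (Subtype.ext (Dg.eq h hM)))
    intro y hy hy2
    by_cases h1 : y = 1
    · rw [h1, map_one]
    by_cases h2 : y = M
    · rw [h2, hfixM]
    have hstep : ∀ z ∈ D, z ^ 2 = 1 → z ≠ 1 → z ≠ M → φ z ∈ D ∧ φ z ^ 2 = 1 ∧ φ z ≠ 1 ∧ φ z ≠ M :=
      fun z hz hz2 hz1 hzM => ⟨hinv z hz, by rw [← map_pow, hz2, map_one],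
        by rwa [Ne, MulEquiv.map_eq_one_iff], fun h => hzM (φ.injective (h.trans hfixM.symm))⟩
    obtain ⟨a1, a2, a3, a4⟩ := hstep y hy hy2 h1 h2
    obtain ⟨b1, b2, b3, b4⟩ := hstep _ a1 a2 a3 a4
    by_contra hne
    refine hne (fix_of_pow (k := 1) hr hφ ?_)
    show φ (φ y) = y
    have hne2 : φ (φ y) ≠ φ y := fun h => hne (φ.injective h)
    rcases hcase y hy hy2 with e | e | e | e <;> [exact absurd e h1; exact absurd e h2; skip; skip]
    all_goals rcases hcase _ a1 a2 with e' | e' | e' | e' <;> [exact absurd e' a3; exact absurd e' a4; skip; skip]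
    all_goals rcases hcase _ b1 b2 with e'' | e'' | e'' | e'' <;> [exact absurd e'' b3; exact absurd e'' b4; skip; skip]
    all_goals first
      | exact absurd (Subtype.ext (Dg.eq e' e)) hne
      | exact absurd (Subtype.ext (Dg.eq e'' e')) hne2
      | exact Subtype.ext (Dg.eq e'' e)

end Monomial

/-- Let q = 2^m + 1 be a prime other than 5. Then the automorphism group of the group of linear maps of F_q² of the forms (x, y) ↦ (a x, ± a⁻¹ y) and (x, y) ↦ (± a⁻¹ y, a x) with a ≠ 0 is itself a 2-group. -/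
theorem result (q m : ℕ) [Fact q.Prime] (hq : q = 2 ^ m + 1) (hq5 : q ≠ 5)
    (T : Subgroup ((Fin 2 → ZMod q) ≃ₗ[ZMod q] (Fin 2 → ZMod q)))
    (hT : ∀ f, f ∈ T ↔ ∃ a s : ZMod q, a ≠ 0 ∧ (s = 1 ∨ s = -1) ∧
      ((∀ v, f v = ![a * v 0, s * a⁻¹ * v 1]) ∨ (∀ v, f v = ![s * a⁻¹ * v 1, a * v 0]))) :
    IsPGroup 2 (MulAut T) := by
  refine isPGroup_mulAut fun φ r hr hφ => ?_
  rcases Nat.lt_or_ge m 3 with hm | hm
  · interval_cases m
    · exact case_two hT (by simpa using hq) φ r hr hφ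
    · exact case_three hT (by simpa using hq) φ r hr hφ
    · exact absurd (by simpa using hq) hq5
  · exact case_large hT hq hm φ r hr hφ

end Cfsg.Agent.S3382
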