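import Cfsg.Statements.S4292
import Cfsg.Agent.S3357
import Cfsg.Agent.Lib.Frobenius.Construct
import Cfsg.Agent.Lib.Frobenius.FixedPointFree

set_option autoImplicit false
open Cfsg

namespace Cfsg.Agent.S4292

/-- A group acting fixed-point-freely by matrices gives a fixed-point-free action. -/
theorem exists_fpfHom {G : Type*} [Group G] {p n : ℕ} (σ : G →* GL (Fin n) (ZMod p))
    (hσ : ∀ g, g ≠ 1 → ∀ v, ((σ g : GL (Fin n) (ZMod p)) : Matrix (Fin n) (Fin n) (ZMod p)).mulVec v = v → v = 0) :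
    ∃ φ : G →* MulAut (Multiplicative (Fin n → ZMod p)), ∀ g, g ≠ 1 → ∀ v, φ g v = v → v = 1 := by
  let L : G →* Matrix (Fin n) (Fin n) (ZMod p) := (Units.coeHom _).comp σ
  have hL : ∀ g h v, (L (g * h)).mulVec v = (L g).mulVec ((L h).mulVec v) := fun g h v => by
    rw [map_mul, Matrix.mulVec_mulVec]
  have hL1 : ∀ v, (L 1).mulVec v = v := fun v => by rw [map_one, Matrix.one_mulVec]
  let e : G → MulAut (Multiplicative (Fin n → ZMod p)) := fun g =>
    { toFun := fun v => Multiplicative.ofAdd ((L g).mulVec v.toAdd)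
      invFun := fun v => Multiplicative.ofAdd ((L g⁻¹).mulVec v.toAdd)
      left_inv := fun v => by
        show Multiplicative.ofAdd ((L g⁻¹).mulVec ((L g).mulVec v.toAdd)) = v
        rw [← hL, inv_mul_cancel, hL1]; rfl
      right_inv := fun v => by
        show Multiplicative.ofAdd ((L g).mulVec ((L g⁻¹).mulVec v.toAdd)) = v
        rw [← hL, mul_inv_cancel, hL1]; rfl
      map_mul' := fun u v => by
        show Multiplicative.ofAdd ((L g).mulVec (u.toAdd + v.toAdd)) = _
        rw [Matrix.mulVec_add]; rfl }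
  refine ⟨MonoidHom.mk' e fun g h => MulEquiv.ext fun v => congrArg Multiplicative.ofAdd (hL g h v.toAdd),
    fun g hg v hv => ?_⟩
  exact congrArg Multiplicative.ofAdd (hσ g hg v.toAdd (congrArg Multiplicative.toAdd hv))

/-- An integral solution of the orbit equations makes the group a Frobenius complement. -/
theorem exists_complement_of_int_solution {G : Type*} [Group G] [Fintype G] [Nontrivial G]
    {v₀ : G → ℤ} (hv₀ : v₀ ≠ 0) (he : (S3357.eqs G).mulVec v₀ = 0) :
    ∃ (L : Type) (_ : Group L) (_ : Finite L) (H : Subgroup L), Cfsg.IsFrobeniusComplement H ∧ Nonempty (G ≃* H) := by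
  classical
  haveI : Fintype {g : G // (orderOf g).Prime} := Fintype.ofFinite _
  obtain ⟨x₀, hx₀⟩ := Function.ne_iff.1 hv₀
  obtain ⟨s, hs, hsp⟩ := Nat.exists_infinite_primes (max (Nat.card G) (v₀ x₀).natAbs + 1)
  haveI := Fact.mk hsp
  let V0 : Submodule (ZMod s) (G → ZMod s) :=
    LinearMap.ker (Matrix.mulVecLin ((S3357.eqs G).map (fun z : ℤ => (z : ZMod s))))
  have hV0 : ∀ v, v ∈ V0 ↔ ∀ (g : {g : G // (orderOf g).Prime}) x,
      ∑ i ∈ Finset.range (orderOf g.1), v (g.1 ^ i * x) = 0 := by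
    intro v
    simp only [V0, LinearMap.mem_ker, Matrix.mulVecLin_apply, funext_iff, Prod.forall, S3357.eqs_mulVec, Pi.zero_apply]
  have hv : (fun x => (v₀ x : ZMod s)) ∈ V0 := by
    rw [hV0]
    intro g x
    have h2 := congrArg (fun z : ℤ => (z : ZMod s)) (congrFun he (g, x))
    simp only [Pi.zero_apply, Int.cast_zero] at h2
    rw [← h2, ← S3357.eqs_mulVec (R := ZMod s) (fun y => (v₀ y : ZMod s)) g x]
    simp [Matrix.mulVec, dotProduct, Int.cast_sum]
  have hne : (fun x => (v₀ x : ZMod s)) ≠ 0 := fun h => by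
    have h1 := congrFun h x₀
    rw [Pi.zero_apply, ZMod.intCast_zmod_eq_zero_iff_dvd, Int.natCast_dvd] at h1
    have := Nat.le_of_dvd (Int.natAbs_pos.2 hx₀) h1
    omega
  haveI : Nontrivial V0 := ⟨⟨⟨_, hv⟩, 0, fun h => hne (congrArg Subtype.val h)⟩⟩
  haveI : Finite (Multiplicative V0) := Finite.of_equiv _ Multiplicative.ofAdd
  have hinv : ∀ (h : G), ∀ w ∈ V0, (fun x => w (x * h)) ∈ V0 := by
    intro h w hw
    rw [hV0] at hw ⊢
    intro g x
    simp only [mul_assoc]
    exact hw g (x * h)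
  let e : G → MulAut (Multiplicative V0) := fun g =>
    { toFun := fun w => Multiplicative.ofAdd ⟨fun x => w.toAdd.1 (x * g), hinv g _ w.toAdd.2⟩
      invFun := fun w => Multiplicative.ofAdd ⟨fun x => w.toAdd.1 (x * g⁻¹), hinv g⁻¹ _ w.toAdd.2⟩
      left_inv := fun w => congrArg Multiplicative.ofAdd (Subtype.ext (funext fun x => congrArg w.toAdd.1 (inv_mul_cancel_right x g)))
      right_inv := fun w => congrArg Multiplicative.ofAdd (Subtype.ext (funext fun x => congrArg w.toAdd.1 (mul_inv_cancel_right x g)))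
      map_mul' := fun u w => rfl }
  let φ : G →* MulAut (Multiplicative V0) := MonoidHom.mk' e fun g h => MulEquiv.ext fun w =>
    congrArg Multiplicative.ofAdd (Subtype.ext (funext fun x => congrArg w.toAdd.1 (mul_assoc x g h).symm))
  have hφ : ∀ g, g ≠ 1 → ∀ w, φ g w = w → w = 1 := by
    intro g hg w hgw
    have hgw' : ∀ x, w.toAdd.1 (x * g) = w.toAdd.1 x := fun x =>
      congrArg (fun u : Multiplicative V0 => u.toAdd.1 x) hgw
    obtain ⟨r, hr, hrd⟩ := Nat.exists_prime_and_dvd (mt orderOf_eq_one_iff.1 hg)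
    set g' := g ^ (orderOf g / r)
    have hord : orderOf g' = r := orderOf_pow_orderOf_div (orderOf_pos g).ne' hrd
    have hpow : ∀ j x, w.toAdd.1 (x * g' ^ j) = w.toAdd.1 x := by
      intro j x
      rw [← pow_mul]
      generalize orderOf g / r * j = l
      induction l with
      | zero => rw [pow_zero, mul_one]
      | succ l ih => rw [pow_succ, ← mul_assoc, hgw', ih]
    refine congrArg Multiplicative.ofAdd (Subtype.ext (funext fun x => ?_))
    have hg'' : orderOf (x * g' * x⁻¹) = r :=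
      (orderOf_injective (MulAut.conj x).toMonoidHom (MulAut.conj x).injective g').trans hord
    have h := (hV0 _).1 w.toAdd.2 ⟨x * g' * x⁻¹, by rw [hg'']; exact hr⟩ x
    simp only [hg'', conj_pow, inv_mul_cancel_right, hpow, Finset.sum_const, Finset.card_range, nsmul_eq_mul] at h
    refine (mul_eq_zero.1 h).resolve_left ?_
    intro h0
    have hdvd := (ZMod.natCast_eq_zero_iff r s).1 h0
    have h1 : r ≤ Nat.card G := Nat.le_of_dvd Nat.card_pos (hrd.trans (orderOf_dvd_natCard g))
    have := Nat.le_of_dvd hr.pos hdvd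
    omega
  obtain ⟨L, iG, iF, H, hH, hiso, -⟩ := Frobenius.exists_complement_of_fpf φ hφ
  exact ⟨L, iG, iF, H, hH, hiso⟩

/-- A complement has an integral solution of the orbit equations. -/
theorem exists_solution {A : Type*} [Group A] [Fintype A]
    (hA : ∃ (L : Type) (_ : Group L) (_ : Finite L) (H : Subgroup L), Cfsg.IsFrobeniusComplement H ∧ Nonempty (A ≃* H)) :
    ∃ v : A → ℤ, v ≠ 0 ∧ (S3357.eqs A).mulVec v = 0 := by
  obtain ⟨L, _, _, H, hH, ⟨e⟩⟩ := hA
  obtain ⟨p, n, _, σ, hn, hcop, hσ⟩ := S3357.exists_module hH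
  exact S3357.exists_int_solution hn (by rwa [Nat.card_congr e.toEquiv]) (σ.comp e.toMonoidHom)
    fun g hg => hσ (e g) fun h => hg (e.map_eq_one_iff.1 h)

theorem eqs_solution_iff {G : Type*} [Group G] [Fintype G] (v : G → ℤ) :
    (S3357.eqs G).mulVec v = 0 ↔
      ∀ g : G, (orderOf g).Prime → ∀ x, ∑ i ∈ Finset.range (orderOf g), v (g ^ i * x) = 0 := by
  classical
  have h : ∀ gx : {g : G // (orderOf g).Prime} × G, (S3357.eqs G).mulVec v gx =
      ∑ i ∈ Finset.range (orderOf gx.1.1), v (gx.1.1 ^ i * gx.2) := fun ⟨g, x⟩ => by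
    rw [← S3357.eqs_mulVec (R := ℤ) v g x]
    simp
  constructor
  · intro he g hg x
    rw [← h (⟨g, hg⟩, x), he]; rfl
  · intro he
    funext gx
    rw [h]; exact he _ gx.1.2 _


/-- Let A and B be nontrivial finite groups. Then the direct product A × B occurs as a Frobenius complement if and only if A and B both occur as Frobenius complements and the orders of A and B are coprime. -/
theorem result {A B : Type*} [Group A] [Finite A] [Nontrivial A] [Group B] [Finite B] [Nontrivial B] :
    (∃ (L : Type) (_ : Group L) (_ : Finite L) (H : Subgroup L), Cfsg.IsFrobeniusComplement H ∧ Nonempty ((A × B) ≃* H)) ↔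
    ((∃ (L : Type) (_ : Group L) (_ : Finite L) (H : Subgroup L), Cfsg.IsFrobeniusComplement H ∧ Nonempty (A ≃* H)) ∧
     (∃ (L : Type) (_ : Group L) (_ : Finite L) (H : Subgroup L), Cfsg.IsFrobeniusComplement H ∧ Nonempty (B ≃* H)) ∧
     (Nat.card A).Coprime (Nat.card B)) := by
  haveI := Fintype.ofFinite A
  haveI := Fintype.ofFinite B
  constructor
  · rintro ⟨L, _, _, H, hH, ⟨e⟩⟩
    obtain ⟨p, n, _, σ, hn, -, hσ⟩ := S3357.exists_module hH
    obtain ⟨φ, hφ⟩ := exists_fpfHom σ hσ
    haveI : Nonempty (Fin n) := ⟨⟨0, hn⟩⟩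
    haveI : Nontrivial (Multiplicative (Fin n → ZMod p)) := Multiplicative.ofAdd.symm.nontrivial
    have hφ' : ∀ g : A × B, g ≠ 1 → ∀ v, (φ.comp e.toMonoidHom) g v = v → v = 1 := fun g hg =>
      hφ (e g) fun h => hg (e.map_eq_one_iff.1 h)
    refine ⟨?_, ?_, ?_⟩
    · obtain ⟨L', i1, i2, H', hH', hiso, -⟩ := Frobenius.exists_complement_of_fpf
        ((φ.comp e.toMonoidHom).comp (MonoidHom.inl A B)) fun a ha => hφ' (a, 1) fun h => ha (congrArg Prod.fst h)
      exact ⟨L', i1, i2, H', hH', hiso⟩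
    · obtain ⟨L', i1, i2, H', hH', hiso, -⟩ := Frobenius.exists_complement_of_fpf
        ((φ.comp e.toMonoidHom).comp (MonoidHom.inr A B)) fun b hb => hφ' (1, b) fun h => hb (congrArg Prod.snd h)
      exact ⟨L', i1, i2, H', hH', hiso⟩
    · refine Nat.coprime_of_dvd fun r hr hrA hrB => ?_
      haveI := Fact.mk hr
      obtain ⟨a, ha⟩ := exists_prime_orderOf_dvd_card' (G := A) r hrA
      obtain ⟨b, hb⟩ := exists_prime_orderOf_dvd_card' (G := B) r hrB
      have h1 : ((a, 1) : A × B) ≠ 1 := fun h => hr.ne_one (by rw [← ha, show a = 1 from congrArg Prod.fst h, orderOf_one])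
      obtain ⟨i, hi⟩ := Frobenius.Fpf.mem_zpowers_of_commute (φ := φ.comp e.toMonoidHom) hφ' (p := r)
        (a := (a, 1)) (b := (1, b)) (by ext <;> simp [← ha, pow_orderOf_eq_one]) h1
        (by ext <;> simp [← hb, pow_orderOf_eq_one]) (by ext <;> simp)
      have := congrArg Prod.snd hi
      simp at this
      exact hr.ne_one (by rw [← hb, ← this, orderOf_one])
  · rintro ⟨hA, hB, hcop⟩
    obtain ⟨f, hf, hfe⟩ := exists_solution hA
    obtain ⟨g, hg, hge⟩ := exists_solution hB
    rw [eqs_solution_iff] at hfe hge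
    refine exists_complement_of_int_solution (v₀ := fun x => f x.1 * g x.2) ?_ ((eqs_solution_iff _).2 ?_)
    · obtain ⟨a, ha⟩ := Function.ne_iff.1 hf
      obtain ⟨b, hb⟩ := Function.ne_iff.1 hg
      exact Function.ne_iff.2 ⟨(a, b), mul_ne_zero ha hb⟩
    · rintro ⟨a, b⟩ hr ⟨x, y⟩
      rw [Prod.orderOf] at hr ⊢
      have hdA := orderOf_dvd_natCard (G := A) a
      have hdB := orderOf_dvd_natCard (G := B) b
      have hab : a = 1 ∨ b = 1 := by
        by_contra h
        push Not at h
        have ha := (Nat.dvd_prime hr).1 (Nat.dvd_lcm_left (orderOf a) (orderOf b))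
        have hb := (Nat.dvd_prime hr).1 (Nat.dvd_lcm_right (orderOf a) (orderOf b))
        rw [orderOf_eq_one_iff] at ha hb
        exact hr.not_dvd_one (hcop ▸ Nat.dvd_gcd ((ha.resolve_left h.1) ▸ hdA) ((hb.resolve_left h.2) ▸ hdB))
      simp only [Prod.pow_mk, Prod.mk_mul_mk]
      rcases hab with rfl | rfl
      · simp only [orderOf_one, Nat.lcm_one_left, one_pow, one_mul] at hr ⊢
        rw [← Finset.mul_sum, hge b hr y, mul_zero]
      · simp only [orderOf_one, Nat.lcm_one_right, one_pow, one_mul] at hr ⊢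
        rw [← Finset.sum_mul, hfe a hr x, zero_mul]

end Cfsg.Agent.S4292
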