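import Cfsg.Statements.S3358
import Cfsg.Agent.S3357
import Cfsg.Agent.S3379
import Cfsg.Agent.S3382
import Cfsg.Agent.S4292
import Cfsg.Agent.Lib.Components.Fitting
import Cfsg.Agent.Lib.Frobenius.FixedPointFree
import Cfsg.Agent.Lib.PGroup.UniqueOrderP
import Mathlib.GroupTheory.SpecificGroups.ZGroup
import Mathlib.GroupTheory.PresentedGroup

set_option autoImplicit false
open Cfsg
open scoped Pointwise commutatorElement

namespace Cfsg.Agent.S3358

theorem orderOf_dvd_natCard_of_mem_aux {G : Type*} [Group G] (H : Subgroup G) {x : G} (hx : x ∈ H) :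
    orderOf x ∣ Nat.card H := by
  rw [← Subgroup.orderOf_mk x hx]
  exact orderOf_dvd_natCard _

section Quaternion

open QuaternionGroup

theorem a_inv {N : ℕ} (i : ZMod (2 * N)) : (a i : QuaternionGroup N)⁻¹ = a (-i) := rfl

theorem xa_inv {N : ℕ} (i : ZMod (2 * N)) : (xa i : QuaternionGroup N)⁻¹ = xa ((N : ZMod (2 * N)) + i) := rfl

/-- The candidate automorphism of `Q₈` with prescribed images of the two generators. -/
def qmap (u v : QuaternionGroup 2) : QuaternionGroup 2 → QuaternionGroup 2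
  | .a i => u ^ i.val
  | .xa i => v * u ^ i.val

/-- A choice of one element of each of the three pairs of mutually inverse elements of order four. -/
def chi (k : Fin 4) : QuaternionGroup 2 → Bool
  | .a i => i.val == 1
  | .xa i => (i.val == 0 && k.val % 2 == 0) || (i.val == 2 && k.val % 2 == 1) ||
      (i.val == 1 && k.val / 2 == 0) || (i.val == 3 && k.val / 2 == 1)

/-- Two elements of order four chosen alike by `chi k`. -/
def frame (k : Fin 4) (x y : QuaternionGroup 2) : Bool :=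
  (x ^ 2 != 1) && (y ^ 2 != 1) && (chi k x == chi k y)

theorem frame_injective : ∀ k l : Fin 4, (∀ x y, frame k x y = frame l x y) → k = l := by decide +kernel

theorem exists_frame : ∀ u v : QuaternionGroup 2, u * v ≠ v * u → ∀ k : Fin 4, ∃ l : Fin 4,
    ∀ x y, frame k x y = frame l (qmap u v x) (qmap u v y) := by decide +kernel

theorem eq_id_of_frame : ∀ u v : QuaternionGroup 2, u * v ≠ v * u →
    (∀ (k : Fin 4) x y, frame k x y = frame k (qmap u v x) (qmap u v y)) → ∀ x, qmap u v x = x := by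
  decide +kernel

theorem exists_qmap (σ : MulAut (QuaternionGroup 2)) :
    ∃ u v : QuaternionGroup 2, u * v ≠ v * u ∧ ⇑σ = qmap u v := by
  refine ⟨σ (.a 1), σ (.xa 0), ?_, ?_⟩
  · rw [← map_mul, ← map_mul]
    intro h
    exact absurd (σ.injective h) (by decide)
  funext g
  cases g with
  | a i =>
    show σ (.a i) = σ (.a 1) ^ i.val
    rw [← map_pow]; congr 1
    revert i; decide
  | xa i =>
    show σ (.xa i) = σ (.xa 0) * σ (.a 1) ^ i.val
    rw [← map_pow, ← map_mul]; congr 1
    revert i; decide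

theorem exists_embedding_mulAut_eight :
    ∃ f : MulAut (QuaternionGroup 2) →* Equiv.Perm (Fin 4), Function.Injective f := by
  have h : ∀ (σ : MulAut (QuaternionGroup 2)) (k : Fin 4), ∃ l, ∀ x y, frame k x y = frame l (σ x) (σ y) := by
    intro σ k
    obtain ⟨u, v, huv, hσ⟩ := exists_qmap σ
    rw [hσ]
    exact exists_frame u v huv k
  choose g hg using h
  have huniq : ∀ σ : MulAut (QuaternionGroup 2), ∀ k l, (∀ x y, frame k x y = frame l (σ x) (σ y)) → g σ k = l :=
    fun σ k l hl => frame_injective _ _ fun x y => by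
      have h1 := hg σ k (σ.symm x) (σ.symm y)
      have h2 := hl (σ.symm x) (σ.symm y)
      rw [MulEquiv.apply_symm_apply, MulEquiv.apply_symm_apply] at h1 h2
      rw [← h1, h2]
  letI : MulAction (MulAut (QuaternionGroup 2)) (Fin 4) :=
    { smul := g
      one_smul := fun k => huniq 1 k k fun x y => rfl
      mul_smul := fun σ τ k => huniq (σ * τ) k (g σ (g τ k)) fun x y => by
        rw [hg τ k x y, hg σ (g τ k)]; rfl }
  refine ⟨MulAction.toPermHom _ (Fin 4), (injective_iff_map_eq_one _).2 fun σ hσ => ?_⟩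
  obtain ⟨u, v, huv, hσ'⟩ := exists_qmap σ
  refine MulEquiv.ext fun x => ?_
  rw [hσ', MulAut.one_apply]
  refine eq_id_of_frame u v huv (fun k x y => ?_) x
  have h1 : g σ k = k := Equiv.Perm.ext_iff.1 hσ k
  have h2 := hg σ k x y
  rwa [h1, hσ'] at h2

variable {N : ℕ}

theorem two_ne_zero_of_two_le (hN : 2 ≤ N) : (2 : ZMod (2 * N)) ≠ 0 := by
  rw [show (2 : ZMod (2 * N)) = ((2 : ℕ) : ZMod (2 * N)) from rfl, Ne, ZMod.natCast_eq_zero_iff]
  intro h
  have := Nat.le_of_dvd (by norm_num) h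
  omega

theorem two_mul_eq_zero (hN : 2 ≤ N) {i : ZMod (2 * N)} (hi : 2 * i = 0) : i = 0 ∨ i = (N : ZMod (2 * N)) := by
  haveI : NeZero (2 * N) := ⟨by omega⟩
  have h1 : ((2 * i.val : ℕ) : ZMod (2 * N)) = 0 := by
    rw [Nat.cast_mul, ZMod.natCast_zmod_val]; exact hi
  rw [ZMod.natCast_eq_zero_iff] at h1
  have h2 : N ∣ i.val := (Nat.mul_dvd_mul_iff_left (by norm_num : 0 < 2)).1 h1
  obtain ⟨c, hc⟩ := h2
  have h3 : i.val < 2 * N := ZMod.val_lt i
  have hc2 : c < 2 := by
    by_contra h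
    have := Nat.mul_le_mul_left N (show 2 ≤ c by omega)
    omega
  rw [← ZMod.natCast_zmod_val i, hc]
  interval_cases c <;> simp

theorem isCyclic_of_commute_pair (hN : 2 ≤ N) {u v : QuaternionGroup N} (huv : u * v ≠ v * u)
    (C : Subgroup (QuaternionGroup N)) (hC : ∀ x ∈ C, x * u = u * x ∧ x * v = v * x) : IsCyclic C := by
  haveI : NeZero N := ⟨by omega⟩
  have hN2 : ((N : ZMod (2 * N)) + N) = 0 := by rw [← Nat.cast_add, ← two_mul, ZMod.natCast_self]
  refine Subgroup.isCyclic_of_le (H' := Subgroup.zpowers (a (N : ZMod (2 * N)))) fun x hx => ?_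
  obtain ⟨hxu, hxv⟩ := hC x hx
  rcases x with i | i
  · have h2 : 2 * i = 0 := by
      rcases u with j | j
      · rcases v with k | k
        · exact absurd (by simp [add_comm]) huv
        · simp only [a_mul_xa, xa_mul_a, xa.injEq] at hxv
          linear_combination -hxv
      · simp only [a_mul_xa, xa_mul_a, xa.injEq] at hxu
        linear_combination -hxu
    rcases two_mul_eq_zero hN h2 with rfl | rfl
    · rw [a_zero]; exact one_mem _
    · exact Subgroup.mem_zpowers _
  · exfalso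
    refine huv ?_
    rcases u with j | j <;> rcases v with k | k <;>
      simp only [a_mul_a, a_mul_xa, xa_mul_a, xa_mul_xa, a.injEq, xa.injEq] at hxu hxv ⊢
    · ring
    · linear_combination -hxu
    · linear_combination hxv
    · linear_combination hxv - hxu

theorem card_zpowers_a_one [NeZero N] : (Subgroup.zpowers (a 1 : QuaternionGroup N)).index = 2 := by
  have h := (Subgroup.zpowers (a 1 : QuaternionGroup N)).card_mul_index
  rw [Nat.card_zpowers, orderOf_a_one, Nat.card_eq_fintype_card, QuaternionGroup.card] at h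
  have : 0 < N := NeZero.pos N
  nlinarith

theorem exists_cyclic_index_two (hN : 2 ≤ N) (C : Subgroup (QuaternionGroup N)) [C.Normal] (hC : IsCyclic C) :
    ∃ A : Subgroup (QuaternionGroup N), IsCyclic A ∧ A.index = 2 ∧ C ≤ A := by
  haveI : NeZero N := ⟨by omega⟩
  obtain ⟨c, hc⟩ := (Subgroup.isCyclic_iff_exists_zpowers_eq_top C).1 hC
  rcases c with i | i
  · refine ⟨Subgroup.zpowers (a 1), inferInstance, card_zpowers_a_one, hc ▸ Subgroup.zpowers_le.2 ⟨(i.val : ℤ), ?_⟩⟩
    show (a 1 : QuaternionGroup N) ^ (i.val : ℤ) = a i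
    rw [zpow_natCast, a_one_pow, ZMod.natCast_zmod_val]
  · refine ⟨C, hC, ?_, le_rfl⟩
    have hmem : (a 1 : QuaternionGroup N) * xa i * (a 1)⁻¹ ∈ C :=
      Subgroup.Normal.conj_mem inferInstance _ (hc ▸ Subgroup.mem_zpowers _) _
    rw [← hc] at hmem ⊢
    obtain ⟨k, hk⟩ := (Submonoid.mem_powers_iff _ _).1 ((isOfFinOrder_of_finite _).mem_powers_iff_mem_zpowers.2 hmem)
    rw [← pow_mod_orderOf, orderOf_xa, show (a 1 : QuaternionGroup N) * xa i * (a 1)⁻¹ = xa (i - 2) by
      rw [a_inv, a_mul_xa, xa_mul_a]; congr 1; ring] at hk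
    have h4 := Nat.mod_lt k (show 0 < 4 by norm_num)
    generalize k % 4 = l at hk h4
    have hN2 : N = 2 := by
      interval_cases l
      · rw [pow_zero, one_def] at hk
        cases hk
      · rw [pow_one, xa.injEq] at hk
        exact absurd (by linear_combination hk) (two_ne_zero_of_two_le hN)
      · rw [xa_sq] at hk
        cases hk
      · rw [pow_succ, xa_sq, a_mul_xa, xa.injEq] at hk
        have h : ((2 + N : ℕ) : ZMod (2 * N)) = 0 := by
          push_cast
          have h2 : ((N : ZMod (2 * N)) + N) = 0 := by rw [← Nat.cast_add, ← two_mul, ZMod.natCast_self]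
          linear_combination hk + h2
        rw [ZMod.natCast_eq_zero_iff] at h
        have := Nat.le_of_dvd (by omega) h
        omega
    have h := (Subgroup.zpowers (xa i : QuaternionGroup N)).card_mul_index
    rw [Nat.card_zpowers, orderOf_xa, Nat.card_eq_fintype_card, QuaternionGroup.card] at h
    omega

theorem isPGroup_mulAut_quaternion {n : ℕ} (hn : 2 ≤ n) : IsPGroup 2 (MulAut (QuaternionGroup (2 ^ n))) := by
  haveI : NeZero (2 ^ n) := ⟨by positivity⟩
  have hN : 4 ≤ 2 ^ n := le_trans (by norm_num) (Nat.pow_le_pow_right (by norm_num) hn)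
  refine S3382.isPGroup_mulAut fun φ r hr hφ => ?_
  let D := Subgroup.zpowers (a 1 : QuaternionGroup (2 ^ n))
  have hmem : ∀ i, (a i : QuaternionGroup (2 ^ n)) ∈ D := fun i =>
    ⟨(i.val : ℤ), by show (a 1 : QuaternionGroup (2 ^ n)) ^ (i.val : ℤ) = a i; rw [zpow_natCast, a_one_pow, ZMod.natCast_zmod_val]⟩
  have hrep : ∀ x ∈ D, ∃ i, x = a i := by
    intro x hx
    obtain ⟨k, hk⟩ := (Submonoid.mem_powers_iff _ _).1 ((isOfFinOrder_of_finite _).mem_powers_iff_mem_zpowers.2 hx)
    exact ⟨_, by rw [← hk, a_one_pow]⟩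
  refine S3382.key D (xa 0) (n + 1) ?_ ?_ ?_ hr hφ ?_ ?_
  · rintro (i | i)
    · exact Or.inl (hmem i)
    · exact Or.inr (by rw [xa_inv, xa_mul_xa]; exact hmem _)
  · intro x hx y hy
    obtain ⟨i, rfl⟩ := hrep x hx
    obtain ⟨j, rfl⟩ := hrep y hy
    rw [a_mul_a, a_mul_a, add_comm]
  · intro x hx
    obtain ⟨i, rfl⟩ := hrep x hx
    rw [← orderOf_dvd_iff_pow_eq_one]
    refine (orderOf_dvd_natCard_of_mem_aux _ hx).trans ?_
    rw [Nat.card_zpowers, orderOf_a_one, pow_succ']
  · intro x hx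
    obtain ⟨k, hk⟩ := (Submonoid.mem_powers_iff _ _).1 ((isOfFinOrder_of_finite _).mem_powers_iff_mem_zpowers.2 hx)
    rw [← hk, map_pow]
    refine pow_mem ?_ k
    rcases hcase : φ (a 1) with i | i
    · exact hmem i
    · exfalso
      have h4 : (a 1 : QuaternionGroup (2 ^ n)) ^ 4 = 1 := φ.injective (by rw [map_pow, hcase, xa_pow_four, map_one])
      have := Nat.le_of_dvd (by norm_num) (orderOf_dvd_of_pow_eq_one h4)
      rw [orderOf_a_one] at this
      omega
  · intro y hy h2
    have hcases : ∀ z : QuaternionGroup (2 ^ n), z ^ 2 = 1 → z = 1 ∨ z = a ((2 ^ n : ℕ) : ZMod (2 * 2 ^ n)) := by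
      rintro (i | i) hz
      · rw [sq, a_mul_a, one_def, a.injEq, ← two_mul] at hz
        rcases two_mul_eq_zero (N := 2 ^ n) (by omega) hz with rfl | rfl
        · exact Or.inl a_zero
        · exact Or.inr rfl
      · rw [xa_sq, one_def, a.injEq, ZMod.natCast_eq_zero_iff] at hz
        have := Nat.le_of_dvd (by positivity) hz
        omega
    rcases hcases y h2 with rfl | rfl
    · exact map_one φ
    · rcases hcases (φ (a _)) (by rw [← map_pow, h2, map_one]) with h | h
      · rw [MulEquiv.map_eq_one_iff] at h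
        rw [h, map_one]
      · exact h

end Quaternion

section Arith

theorem pow_div_primeFactors_eq_one {n m r : ℕ} (hn : 0 < n) (hm : 0 < m) (hco : n.Coprime m)
    (hr : ((r : ZMod m)) ^ n = 1)
    (hfix : ∀ p ∈ n.primeFactors, ∀ q ∈ m.primeFactors, ((r : ZMod q)) ^ (n / p) = 1) :
    ((r : ZMod m)) ^ (n / ∏ p ∈ n.primeFactors, p) = 1 := by
  have hdp : ∀ p ∈ n.primeFactors, ((r : ZMod m)) ^ (n / p) = 1 := by
    intro p hp
    haveI : NeZero m := ⟨hm.ne'⟩
    set s : ZMod m := (r : ZMod m) ^ (n / p) with hs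
    have hsp : s ^ p = 1 := by
      rw [hs, ← pow_mul, Nat.div_mul_cancel (Nat.dvd_of_mem_primeFactors hp), hr]
    have hu : IsUnit (∑ i ∈ Finset.range p, s ^ i) := by
      have key : ((∑ i ∈ Finset.range p, (r ^ (n / p)) ^ i : ℕ) : ZMod m) = ∑ i ∈ Finset.range p, s ^ i := by
        simp [hs]
      rw [← key, ZMod.isUnit_iff_coprime]
      refine Nat.coprime_of_dvd fun q hq hq1 hq2 => ?_
      have hqm : q ∈ m.primeFactors := Nat.mem_primeFactors.2 ⟨hq, hq2, hm.ne'⟩
      have h0 : ((∑ i ∈ Finset.range p, (r ^ (n / p)) ^ i : ℕ) : ZMod q) = 0 := (ZMod.natCast_eq_zero_iff _ _).2 hq1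
      rw [Nat.cast_sum] at h0
      simp only [Nat.cast_pow, hfix p hp q hqm, one_pow, Finset.sum_const, Finset.card_range, nsmul_eq_mul,
        mul_one, ZMod.natCast_eq_zero_iff] at h0
      have hpp := Nat.prime_of_mem_primeFactors hp
      have : q ∣ Nat.gcd n m := Nat.dvd_gcd (h0.trans (Nat.dvd_of_mem_primeFactors hp)) hq2
      rw [hco] at this
      exact hq.not_dvd_one this
    have h1 : (∑ i ∈ Finset.range p, s ^ i) * (s - 1) = 0 := by rw [geom_sum_mul, hsp, sub_self]
    exact sub_eq_zero.1 (hu.mul_right_eq_zero.1 h1)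
  set d := orderOf (r : ZMod m) with hd
  have hdn : d ∣ n := orderOf_dvd_of_pow_eq_one hr
  rw [← orderOf_dvd_iff_pow_eq_one]
  have hprod : (∏ p ∈ n.primeFactors, p) ∣ n / d := by
    refine Finset.prod_primes_dvd _ (fun p hp => (Nat.prime_of_mem_primeFactors hp).prime) fun p hp => ?_
    have h1 : d ∣ n / p := orderOf_dvd_of_pow_eq_one (hdp p hp)
    exact (Nat.dvd_div_iff_mul_dvd hdn).2
      ((mul_comm d p).dvd.trans ((Nat.dvd_div_iff_mul_dvd (Nat.dvd_of_mem_primeFactors hp)).1 h1))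
  rw [Nat.dvd_div_iff_mul_dvd (hprod.trans (Nat.div_dvd_of_dvd hdn))]
  exact (mul_comm _ _).dvd.trans ((Nat.dvd_div_iff_mul_dvd hdn).1 hprod)

end Arith

section Presentation

theorem presented_iso {H : Type*} [Group H] [Finite H] {x y : H} {n m r : ℕ} (hn : 0 < n) (hm : 0 < m)
    (hgen : Subgroup.closure {x, y} = ⊤) (hx : orderOf x = n) (hy : orderOf y = m) (hrel : x⁻¹ * y * x = y ^ r)
    (hco : n.Coprime m) :
    Nonempty (H ≃* PresentedGroup
      ({FreeGroup.of (0 : Fin 2) ^ n, FreeGroup.of (1 : Fin 2) ^ m,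
        (FreeGroup.of (0 : Fin 2))⁻¹ * FreeGroup.of 1 * FreeGroup.of 0 * (FreeGroup.of (1 : Fin 2) ^ r)⁻¹} :
        Set (FreeGroup (Fin 2)))) := by
  set rels : Set (FreeGroup (Fin 2)) := {FreeGroup.of (0 : Fin 2) ^ n, FreeGroup.of (1 : Fin 2) ^ m,
        (FreeGroup.of (0 : Fin 2))⁻¹ * FreeGroup.of 1 * FreeGroup.of 0 * (FreeGroup.of (1 : Fin 2) ^ r)⁻¹}
  have hrels : ∀ w ∈ rels, FreeGroup.lift ![x, y] w = 1 := by
    rintro w (rfl | rfl | rfl)
    · simp [← hx, pow_orderOf_eq_one]
    · simp [← hy, pow_orderOf_eq_one]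
    · simp [hrel]
  let f := PresentedGroup.toGroup hrels
  have hsurj : Function.Surjective f := by
    rw [← MonoidHom.range_eq_top, eq_top_iff, ← hgen, Subgroup.closure_le]
    rintro z (rfl | rfl)
    · exact ⟨PresentedGroup.of 0, PresentedGroup.toGroup.of hrels⟩
    · exact ⟨PresentedGroup.of 1, PresentedGroup.toGroup.of hrels⟩
  let X : PresentedGroup rels := PresentedGroup.of 0
  let Y : PresentedGroup rels := PresentedGroup.of 1
  have hone : ∀ w ∈ rels, PresentedGroup.mk rels w = 1 := fun w hw => PresentedGroup.one_of_mem hw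
  have hXn : X ^ n = 1 := hone _ (Or.inl rfl)
  have hYm : Y ^ m = 1 := hone _ (Or.inr (Or.inl rfl))
  have hXY : X⁻¹ * Y * X * (Y ^ r)⁻¹ = 1 := hone _ (Or.inr (Or.inr rfl))
  rw [mul_inv_eq_one] at hXY
  let Z := Subgroup.zpowers Y
  have hstep : ∀ z ∈ Z, X⁻¹ * z * X ∈ Z := by
    rintro _ ⟨i, rfl⟩
    have e : X⁻¹ * Y ^ i * X = (X⁻¹ * Y * X) ^ i := by
      have := (conj_zpow (i := i) (a := X⁻¹) (b := Y)).symm
      rwa [inv_inv] at this
    show X⁻¹ * Y ^ i * X ∈ Z
    rw [e, hXY]
    exact zpow_mem (pow_mem (Subgroup.mem_zpowers Y) r) i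
  have hiter : ∀ (k : ℕ), ∀ z ∈ Z, (X ^ k)⁻¹ * z * X ^ k ∈ Z := by
    intro k
    induction k with
    | zero => intro z hz; simpa using hz
    | succ k ih =>
      intro z hz
      rw [show (X ^ (k + 1))⁻¹ * z * X ^ (k + 1) = X⁻¹ * ((X ^ k)⁻¹ * z * X ^ k) * X by rw [pow_succ]; group]
      exact hstep _ (ih z hz)
  have hnorm : X ∈ Subgroup.normalizer (Z : Set (PresentedGroup rels)) := by
    rw [Subgroup.mem_normalizer_iff]
    intro z
    constructor
    · intro hz
      have e : X = (X ^ (n - 1))⁻¹ := by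
        rw [eq_inv_iff_mul_eq_one, ← pow_succ', show n - 1 + 1 = n by omega, hXn]
      have := hiter (n - 1) z hz
      rwa [← e, show X ^ (n - 1) = X⁻¹ from eq_inv_of_mul_eq_one_left (by
        rw [← pow_succ, show n - 1 + 1 = n by omega, hXn])] at this
    · intro hz
      have := hstep _ hz
      rwa [show X⁻¹ * (X * z * X⁻¹) * X = z by group] at this
  have htop : Subgroup.zpowers Y ⊔ Subgroup.zpowers X = ⊤ := by
    rw [eq_top_iff, ← PresentedGroup.closure_range_of rels, Subgroup.closure_le]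
    rintro _ ⟨i, rfl⟩
    fin_cases i
    · exact (le_sup_right : _ ≤ Subgroup.zpowers Y ⊔ _) (Subgroup.mem_zpowers X)
    · exact (le_sup_left : _ ≤ _ ⊔ Subgroup.zpowers X) (Subgroup.mem_zpowers Y)
  have hmul := Subgroup.coe_mul_of_right_le_normalizer_left (Subgroup.zpowers Y) (Subgroup.zpowers X)
    (Subgroup.zpowers_le.2 hnorm)
  rw [htop, Subgroup.coe_top] at hmul
  have hF : Function.Surjective (fun ij : Fin m × Fin n => Y ^ (ij.1 : ℕ) * X ^ (ij.2 : ℕ)) := by
    intro z
    have hz : z ∈ (Set.univ : Set (PresentedGroup rels)) := trivial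
    rw [hmul] at hz
    obtain ⟨_, ⟨i, rfl⟩, _, ⟨j, rfl⟩, rfl⟩ := hz
    have hi := Int.emod_nonneg i (show (m : ℤ) ≠ 0 by omega)
    have hj := Int.emod_nonneg j (show (n : ℤ) ≠ 0 by omega)
    have hi' := Int.emod_lt_of_pos i (show (0 : ℤ) < m by omega)
    have hj' := Int.emod_lt_of_pos j (show (0 : ℤ) < n by omega)
    refine ⟨(⟨(i % m).toNat, by omega⟩, ⟨(j % n).toNat, by omega⟩), ?_⟩
    show Y ^ (i % m).toNat * X ^ (j % n).toNat = Y ^ i * X ^ j
    rw [← zpow_natCast, ← zpow_natCast, Int.toNat_of_nonneg hi, Int.toNat_of_nonneg hj]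
    congr 1
    · conv_rhs => rw [← Int.emod_add_mul_ediv i m, zpow_add, zpow_mul, zpow_natCast, hYm, one_zpow, mul_one]
    · conv_rhs => rw [← Int.emod_add_mul_ediv j n, zpow_add, zpow_mul, zpow_natCast, hXn, one_zpow, mul_one]
  haveI : Finite (PresentedGroup rels) := Finite.of_surjective _ hF
  have hge : n * m ≤ Nat.card H :=
    Nat.le_of_dvd Nat.card_pos (hco.mul_dvd_of_dvd_of_dvd (hx ▸ orderOf_dvd_natCard x) (hy ▸ orderOf_dvd_natCard y))
  have hle : Nat.card (PresentedGroup rels) ≤ m * n := by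
    refine (Nat.card_le_card_of_surjective _ hF).trans ?_
    rw [Nat.card_prod, Nat.card_fin, Nat.card_fin]
  have hbij : Function.Bijective f := (Nat.bijective_iff_surjective_and_card f).2
    ⟨hsurj, le_antisymm (hle.trans ((mul_comm m n).le.trans hge)) (Nat.card_le_card_of_surjective f hsurj)⟩
  exact ⟨(MulEquiv.ofBijective f hbij).symm⟩

end Presentation

section Structure

variable {G : Type*} [Group G] [Finite G]

/-- A normal subgroup meeting a Sylow `2`-subgroup in a cyclic group has cyclic `2`-subgroups. -/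
theorem isCyclic_of_inf (N : Subgroup G) [N.Normal] (S : Sylow 2 G) (h : IsCyclic ↥(N ⊓ (S : Subgroup G)))
    (P : Subgroup N) (hP : IsPGroup 2 P) : IsCyclic P := by
  obtain ⟨Q, hQ⟩ := (hP.map N.subtype).exists_le_sylow
  obtain ⟨g, hg⟩ := MulAction.exists_smul_eq G Q S
  let f : P →* ↥(N ⊓ (S : Subgroup G)) :=
    (((MulAut.conj g).toMonoidHom.comp N.subtype).comp P.subtype).codRestrict _ fun x => by
      refine ⟨Subgroup.Normal.conj_mem inferInstance _ (x : N).2 g, ?_⟩
      rw [← hg]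
      show _ ∈ MulAut.conj g • (Q : Subgroup G)
      rw [Subgroup.mem_pointwise_smul_iff_inv_smul_mem]
      refine hQ ⟨(x : N), x.2, ?_⟩
      simp [MulAut.smul_def, mul_assoc]
  refine isCyclic_of_injective f fun x y hxy => ?_
  exact Subtype.ext (Subtype.ext ((MulAut.conj g).injective (congrArg Subtype.val hxy :)))

/-- The homomorphism to `Sym(4)` with kernel of index two. -/
theorem exists_hom_of_index_two (N : Subgroup G) (hN : N.index = 2) :
    ∃ f : G →* Equiv.Perm (Fin 4), f.ker = N := by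
  classical
  refine ⟨MonoidHom.mk' (fun g => if g ∈ N then 1 else Equiv.swap 0 1) fun a b => ?_, ?_⟩
  · have h := Subgroup.mul_mem_iff_of_index_two hN (a := a) (b := b)
    by_cases ha : a ∈ N <;> by_cases hb : b ∈ N <;> simp [ha, hb, h, Equiv.swap_mul_self]
  · ext g
    by_cases hg : g ∈ N <;> simp [hg]

theorem exists_index_two (S : Sylow 2 G) {n : ℕ} (hn : 1 ≤ n) (e : (S : Subgroup G) ≃* QuaternionGroup (2 ^ n))
    (M : Subgroup G) [hM : M.Normal] (htop : M ⊔ (S : Subgroup G) = ⊤) (hcyc : IsCyclic ↥(M ⊓ (S : Subgroup G))) :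
    ∃ N : Subgroup G, N.index = 2 ∧ IsCyclic ↥(N ⊓ (S : Subgroup G)) := by
  have hN : 2 ≤ 2 ^ n := le_self_pow₀ (by norm_num) (by omega)
  set C : Subgroup (S : Subgroup G) := (M ⊓ (S : Subgroup G)).subgroupOf (S : Subgroup G) with hCdef
  haveI : C.Normal := by
    rw [hCdef, Subgroup.inf_subgroupOf_right]; exact hM.subgroupOf _
  haveI hCc : IsCyclic (C.map e.toMonoidHom) := by
    haveI : IsCyclic C := (Subgroup.subgroupOfEquivOfLe (inf_le_right : M ⊓ (S : Subgroup G) ≤ S)).isCyclic.2 hcyc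
    exact (C.equivMapOfInjective e.toMonoidHom e.injective).isCyclic.1 inferInstance
  haveI : (C.map e.toMonoidHom).Normal := Subgroup.Normal.map inferInstance _ e.surjective
  obtain ⟨A', hA'c, hA'i, hA'le⟩ := exists_cyclic_index_two hN (C.map e.toMonoidHom) hCc
  set A : Subgroup G := (A'.comap e.toMonoidHom).map (S : Subgroup G).subtype with hAdef
  have hAS : A ≤ S := Subgroup.map_subtype_le _
  have hrel : A.relIndex (S : Subgroup G) = 2 := by
    rw [Subgroup.relIndex, hAdef, Subgroup.subgroupOf, Subgroup.comap_map_eq_self_of_injective (S : Subgroup G).subtype_injective,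
      Subgroup.index_comap_of_surjective _ (f := e.toMonoidHom) e.surjective, hA'i]
  have hAc : IsCyclic A := by
    haveI : IsCyclic (A'.comap e.toMonoidHom) := by
      refine isCyclic_of_injective ((e.toMonoidHom.comp (A'.comap e.toMonoidHom).subtype).codRestrict A' fun x => x.2)
        fun x y h => Subtype.ext (e.injective (congrArg Subtype.val h :))
    exact ((A'.comap e.toMonoidHom).equivMapOfInjective _ (S : Subgroup G).subtype_injective).isCyclic.1 inferInstance
  have hMA : M ⊓ (S : Subgroup G) ≤ A := by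
    intro x hx
    exact ⟨⟨x, hx.2⟩, hA'le ⟨⟨x, hx.2⟩, hx, rfl⟩, rfl⟩
  refine ⟨M ⊔ A, ?_, ?_⟩
  · have h1 : M.relIndex (M ⊔ A) * (M ⊔ A).index = M.index := Subgroup.relIndex_mul_index le_sup_left
    have h2 : M.index = M.relIndex (S : Subgroup G) := by
      rw [← Subgroup.relIndex_sup_left (K := M) (H := (S : Subgroup G)), htop, Subgroup.relIndex_top_right]
    rw [Subgroup.relIndex_sup_left, h2, ← Subgroup.inf_relIndex_right M (S : Subgroup G),
      ← Subgroup.relIndex_mul_relIndex _ _ _ hMA hAS, hrel, ← Subgroup.inf_relIndex_right M A] at h1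
    have e1 : M ⊓ (S : Subgroup G) = M ⊓ A :=
      le_antisymm (le_inf inf_le_left hMA) (inf_le_inf_left _ hAS)
    rw [← e1] at h1
    exact Nat.eq_of_mul_eq_mul_left (Nat.pos_of_ne_zero Subgroup.index_ne_zero_of_finite) h1
  · refine Subgroup.isCyclic_of_le (H' := A) fun x hx => ?_
    have hx' : x ∈ (M : Set G) * (A : Set G) :=
      (Subgroup.coe_mul_of_right_le_normalizer_left M A (by rw [Subgroup.normalizer_eq_top]; exact le_top)) ▸ hx.1
    obtain ⟨a, ha, b, hb, rfl⟩ := hx'
    have : a ∈ (S : Subgroup G) := by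
      have h := mul_mem (show a * b ∈ (S : Subgroup G) from hx.2) (inv_mem (hAS hb))
      rwa [mul_inv_cancel_right] at h
    exact mul_mem (hMA ⟨ha, this⟩) hb

theorem exists_normal_cyclic_sylow (hsol : Group.IsSolvable G)
    (hp : ∀ (p : ℕ) [Fact p.Prime] (P : Subgroup G), IsPGroup p P →
      IsCyclic P ∨ (p = 2 ∧ ∃ n : ℕ, 1 ≤ n ∧ Nonempty (P ≃* QuaternionGroup (2 ^ n)))) :
    ∃ G₀ : Subgroup G, G₀.Normal ∧ (∃ f : G →* Equiv.Perm (Fin 4), f.ker = G₀) ∧
      ∀ (p : ℕ) [Fact p.Prime] (P : Sylow p G₀), IsCyclic P := by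
  haveI := hsol
  have hodd : ∀ (H : Subgroup G) (p : ℕ) [Fact p.Prime], p ≠ 2 → ∀ P : Subgroup H, IsPGroup p P → IsCyclic P := by
    intro H p _ hp2 P hP
    have := (hp p (P.map H.subtype) (hP.map _)).resolve_right fun h => hp2 h.1
    exact (P.equivMapOfInjective _ H.subtype_injective).isCyclic.2 this
  have finish : ∀ (N : Subgroup G) (S : Sylow 2 G), N.Normal → IsCyclic ↥(N ⊓ (S : Subgroup G)) →
      (∃ f : G →* Equiv.Perm (Fin 4), f.ker = N) →
      ∃ G₀ : Subgroup G, G₀.Normal ∧ (∃ f : G →* Equiv.Perm (Fin 4), f.ker = G₀) ∧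
        ∀ (p : ℕ) [Fact p.Prime] (P : Sylow p G₀), IsCyclic P := fun N S hN hc hf =>
    ⟨N, hN, hf, fun p _ P => by
      rcases eq_or_ne p 2 with rfl | hp2
      · exact isCyclic_of_inf N S hc P P.2
      · exact hodd N p hp2 P P.2⟩
  obtain ⟨S⟩ : Nonempty (Sylow 2 G) := Sylow.nonempty
  haveI : Fact (Nat.Prime 2) := ⟨Nat.prime_two⟩
  rcases hp 2 (S : Subgroup G) S.2 with hS | ⟨-, n, hn, ⟨eS⟩⟩
  · exact finish ⊤ S inferInstance ((MulEquiv.subgroupCongr (top_inf_eq (S : Subgroup G))).isCyclic.2 hS)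
      ⟨1, MonoidHom.ker_one⟩
  have viaM : ∀ M : Subgroup G, M.Normal → M ⊔ (S : Subgroup G) = ⊤ → IsCyclic ↥(M ⊓ (S : Subgroup G)) →
      ∃ G₀ : Subgroup G, G₀.Normal ∧ (∃ f : G →* Equiv.Perm (Fin 4), f.ker = G₀) ∧
        ∀ (p : ℕ) [Fact p.Prime] (P : Sylow p G₀), IsCyclic P := fun M hM htop hc => by
    haveI := hM
    obtain ⟨N, hN, hNc⟩ := exists_index_two S hn eS M htop hc
    exact finish N S (Subgroup.normal_of_index_eq_two hN) hNc (exists_hom_of_index_two N hN)
  set F := fittingSubgroup G with hFdef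
  have hCF : Subgroup.centralizer (F : Set G) ≤ F := Components.centralizer_fittingSubgroup_le
  haveI : Group.IsNilpotent F := Components.fittingSubgroup_isNilpotent G
  haveI : F.Characteristic := Components.fittingSubgroup_characteristic G
  obtain ⟨P⟩ : Nonempty (Sylow 2 F) := Sylow.nonempty
  haveI hPn : (P : Subgroup F).Normal := Sylow.normal_of_normalizerCondition Group.normalizerCondition_of_isNilpotent P
  by_cases hPc : IsCyclic P
  · haveI : IsZGroup F := ⟨fun p hpr P' => by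
      haveI := Fact.mk hpr
      rcases eq_or_ne p 2 with rfl | hp2
      · exact (Sylow.equiv P P').isCyclic.1 hPc
      · exact hodd F p hp2 P' P'.2⟩
    haveI : IsCyclic F := inferInstance
    have hGF : commutator G ≤ F := by
      refine le_trans ?_ hCF
      rw [commutator_def, Subgroup.commutator_le]
      intro a _ b _
      rw [Subgroup.mem_centralizer_iff]
      intro x hx
      let ψ : G →* MulAut F := MulAut.conjNormal
      have h1 : ψ ⁅a, b⁆ = 1 := by
        rw [map_commutatorElement, commutatorElement_eq_one_iff_mul_comm]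
        exact (IsCyclic.mulAutMulEquiv F).injective (by rw [map_mul, map_mul, mul_comm])
      have h2 := congrArg (fun φ : MulAut F => ((φ ⟨x, hx⟩ : F) : G)) h1
      simp only [MulAut.one_apply, ψ, MulAut.conjNormal_apply] at h2
      exact (mul_inv_eq_iff_eq_mul.1 h2).symm
    haveI : IsCyclic (commutator G) := Subgroup.isCyclic_of_le hGF
    set c := Nat.card G / 2 ^ (Nat.card G).factorization 2 with hc
    have hc2 : Nat.Coprime 2 c := Nat.coprime_ordCompl Nat.prime_two Nat.card_pos.ne'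
    let κ : G →* Abelianization G := (powMonoidHom c).comp Abelianization.of
    have hκ : ∀ g, g ∈ κ.ker ↔ g ^ c ∈ commutator G := by
      intro g
      rw [MonoidHom.mem_ker, ← Abelianization.ker_of G, MonoidHom.mem_ker, map_pow]
      rfl
    refine viaM κ.ker inferInstance ?_ (Subgroup.isCyclic_of_le (H' := commutator G) fun x hx => ?_)
    · rw [← Subgroup.index_eq_one]
      by_contra h
      obtain ⟨q, hq, hqd⟩ := Nat.exists_prime_and_dvd h
      haveI := Fact.mk hq
      rcases eq_or_ne q 2 with rfl | hq2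
      · exact S.not_dvd_index (hqd.trans (Subgroup.index_dvd_of_le le_sup_right))
      · obtain ⟨Q⟩ : Nonempty (Sylow q G) := Sylow.nonempty
        refine Q.not_dvd_index (hqd.trans (Subgroup.index_dvd_of_le (fun g hg => ?_)))
        refine Subgroup.mem_sup_left ((hκ g).2 ?_)
        obtain ⟨j, hj⟩ := IsPGroup.iff_card.1 Q.2
        have hd : orderOf g ∣ c := by
          have h1 : orderOf g ∣ q ^ j := hj ▸ orderOf_dvd_natCard_of_mem_aux _ hg
          have h2 : orderOf g ∣ 2 ^ (Nat.card G).factorization 2 * c := by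
            rw [hc, Nat.ordProj_mul_ordCompl_eq_self]; exact orderOf_dvd_natCard g
          refine Nat.Coprime.dvd_of_dvd_mul_left ?_ h2
          exact ((((Nat.coprime_primes hq Nat.prime_two).2 hq2).pow j _).coprime_dvd_left h1)
        rw [orderOf_dvd_iff_pow_eq_one.1 hd]
        exact one_mem _
    · obtain ⟨j, hj⟩ := IsPGroup.iff_card.1 S.2
      have hd : orderOf x ∣ 2 ^ j := hj ▸ orderOf_dvd_natCard_of_mem_aux _ hx.2
      have hco : (orderOf x).Coprime c := (hc2.pow_left j).coprime_dvd_left hd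
      obtain ⟨i, hi⟩ := exists_pow_eq_self_of_coprime hco.symm
      rw [← hi]
      exact pow_mem ((hκ x).1 hx.1) i
  · set Q : Subgroup G := (P : Subgroup F).map F.subtype with hQdef
    haveI : (P : Subgroup F).Characteristic := P.characteristic_of_normal hPn
    haveI hQn : Q.Normal := inferInstance
    have hQp : IsPGroup 2 Q := P.2.map _
    obtain ⟨k, hk, ⟨eQ⟩⟩ : ∃ k, 1 ≤ k ∧ Nonempty (Q ≃* QuaternionGroup (2 ^ k)) := by
      rcases hp 2 Q hQp with h | ⟨-, h⟩
      · exact absurd (((P : Subgroup F).equivMapOfInjective _ F.subtype_injective).isCyclic.2 h) hPc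
      · exact h
    have hQS : Q ≤ S := IsPGroup.le_sylow_of_normal hQp S
    set K : Subgroup G := Subgroup.centralizer (Q : Set G) with hKdef
    haveI : K.Normal := inferInstance
    have hKS : IsCyclic ↥(K ⊓ (S : Subgroup G)) := by
      obtain ⟨u, v, huv⟩ : ∃ u v : Q, u * v ≠ v * u := by
        refine ⟨eQ.symm (QuaternionGroup.a 1), eQ.symm (QuaternionGroup.xa 0), fun h => ?_⟩
        rw [← map_mul, ← map_mul, EmbeddingLike.apply_eq_iff_eq, QuaternionGroup.a_mul_xa, QuaternionGroup.xa_mul_a,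
          QuaternionGroup.xa.injEq] at h
        have : (2 : ZMod (2 * 2 ^ k)) = 0 := by linear_combination -h
        exact two_ne_zero_of_two_le (le_self_pow₀ (by norm_num) (by omega)) this
      let C : Subgroup (QuaternionGroup (2 ^ n)) := ((K ⊓ (S : Subgroup G)).subgroupOf (S : Subgroup G)).map eS.toMonoidHom
      haveI hC : IsCyclic C := by
        refine isCyclic_of_commute_pair (le_self_pow₀ (by norm_num) (by omega))
          (u := eS ⟨u, hQS u.2⟩) (v := eS ⟨v, hQS v.2⟩) (fun h => huv ?_) C ?_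
        · rw [← map_mul, ← map_mul] at h
          exact Subtype.ext (congrArg Subtype.val (eS.injective h) :)
        · rintro _ ⟨x, hx, rfl⟩
          have hxK := Subgroup.mem_centralizer_iff.1 hx.1
          refine ⟨?_, ?_⟩
          · show eS x * eS ⟨u, _⟩ = eS ⟨u, _⟩ * eS x
            rw [← map_mul, ← map_mul]; exact congrArg eS (Subtype.ext (hxK u u.2).symm)
          · show eS x * eS ⟨v, _⟩ = eS ⟨v, _⟩ * eS x
            rw [← map_mul, ← map_mul]; exact congrArg eS (Subtype.ext (hxK v v.2).symm)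
      exact (Subgroup.subgroupOfEquivOfLe (inf_le_right : K ⊓ (S : Subgroup G) ≤ S)).isCyclic.1
        ((((K ⊓ (S : Subgroup G)).subgroupOf (S : Subgroup G)).equivMapOfInjective eS.toMonoidHom eS.injective).isCyclic.2 hC)
    let ψ : G →* MulAut Q := MulAut.conjNormal
    let eA : MulAut Q ≃* MulAut (QuaternionGroup (2 ^ k)) := MulAut.congr eQ
    have hψ : ψ.ker = K := by
      ext g
      rw [MonoidHom.mem_ker, hKdef, Subgroup.mem_centralizer_iff]
      constructor
      · intro h x hx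
        have h2 := congrArg (fun φ : MulAut Q => ((φ ⟨x, hx⟩ : Q) : G)) h
        simp only [MulAut.one_apply, ψ, MulAut.conjNormal_apply] at h2
        exact (mul_inv_eq_iff_eq_mul.1 h2).symm
      · intro h
        refine MulEquiv.ext fun x => Subtype.ext ?_
        rw [MulAut.one_apply, MulAut.conjNormal_apply, mul_inv_eq_iff_eq_mul]
        exact (h x x.2).symm
    rcases hk.eq_or_lt with rfl | hk2
    · obtain ⟨f, hf⟩ := exists_embedding_mulAut_eight
      refine finish K S inferInstance hKS ⟨f.comp ((MulAut.congr eQ).toMonoidHom.comp ψ), ?_⟩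
      rw [← hψ]
      ext g
      rw [MonoidHom.mem_ker, MonoidHom.mem_ker, MonoidHom.comp_apply, map_eq_one_iff _ hf]
      exact (MulAut.congr eQ).map_eq_one_iff
    · refine viaM K inferInstance ?_ hKS
      have h2 : IsPGroup 2 ψ.range :=
        ((isPGroup_mulAut_quaternion hk2).of_injective eA.toMonoidHom eA.injective).to_subgroup _
      rw [← Subgroup.index_eq_one]
      by_contra h
      obtain ⟨q, hq, hqd⟩ := Nat.exists_prime_and_dvd h
      haveI := Fact.mk hq
      obtain ⟨j, hj⟩ := IsPGroup.iff_card.1 h2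
      have hq' := hqd.trans (Subgroup.index_dvd_of_le (le_sup_left : K ≤ K ⊔ (S : Subgroup G)))
      rw [← hψ, Subgroup.index_ker, hj] at hq'
      rw [(Nat.prime_dvd_prime_iff_eq hq Nat.prime_two).1 (hq.dvd_of_dvd_pow hq')] at hqd
      exact S.not_dvd_index (hqd.trans (Subgroup.index_dvd_of_le le_sup_right))

end Structure

theorem isFpf_restrict {A B V : Type*} [Group A] [Group B] [CommGroup V] {φ : A →* MulAut V}
    (hφ : Frobenius.Fpf.IsFpf φ) (f : B →* A) (hf : Function.Injective f) : Frobenius.Fpf.IsFpf (φ.comp f) :=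
  fun b hb => hφ (f b) fun h => hb (hf (by rw [h, map_one]))


/-- Structure of solvable Frobenius complements. Let G be a finite solvable group that occurs as a Frobenius complement. Then G has a normal subgroup G₀ such that G/G₀ is isomorphic to a subgroup of Sym(4) (G₀ is the kernel of a homomorphism to Sym(4)), all Sylow subgroups of G₀ are cyclic, and G₀ has a presentation ⟨x, y | x^n = 1, y^m = 1, x⁻¹ y x = y^r⟩ with n, m ≥ 1, gcd(r − 1, m) = gcd(n, m) = 1 and r^(n/n′) ≡ 1 (mod m), where n′ is the product of the distinct primes dividing n. -/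
theorem result {G : Type*} [Group G] [Finite G] (hsol : Group.IsSolvable G)
    (hFC : ∃ (L : Type) (_ : Group L) (_ : Finite L) (H : Subgroup L), Cfsg.IsFrobeniusComplement H ∧ Nonempty (G ≃* H)) :
    ∃ G₀ : Subgroup G, G₀.Normal ∧
      (∃ f : G →* Equiv.Perm (Fin 4), f.ker = G₀) ∧
      (∀ (p : ℕ) [Fact p.Prime] (P : Sylow p G₀), IsCyclic P) ∧
      ∃ n m r : ℕ, 0 < n ∧ 0 < m ∧ Nat.Coprime (r - 1) m ∧ Nat.Coprime n m ∧ 1 ≤ r ∧
        r ^ (n / ∏ p ∈ n.primeFactors, p) % m = 1 % m ∧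
        Nonempty (G₀ ≃* PresentedGroup
          ({FreeGroup.of (0 : Fin 2) ^ n, FreeGroup.of (1 : Fin 2) ^ m,
            (FreeGroup.of (0 : Fin 2))⁻¹ * FreeGroup.of 1 * FreeGroup.of 0 * (FreeGroup.of (1 : Fin 2) ^ r)⁻¹} :
            Set (FreeGroup (Fin 2)))) := by
  obtain ⟨L, _, _, H, hH, ⟨e⟩⟩ := hFC
  obtain ⟨p₀, d, _, σ, hd, -, hσ⟩ := S3357.exists_module hH
  obtain ⟨φ₀, hφ₀⟩ := S4292.exists_fpfHom σ hσ
  haveI : Nonempty (Fin d) := ⟨⟨0, hd⟩⟩
  haveI : Nontrivial (Multiplicative (Fin d → ZMod p₀)) := Multiplicative.ofAdd.symm.nontrivial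
  set φ := φ₀.comp e.toMonoidHom with hφdef
  have hφ : Frobenius.Fpf.IsFpf φ := isFpf_restrict hφ₀ e.toMonoidHom e.injective
  have hp : ∀ (p : ℕ) [Fact p.Prime] (P : Subgroup G), IsPGroup p P →
      IsCyclic P ∨ (p = 2 ∧ ∃ n : ℕ, 1 ≤ n ∧ Nonempty (P ≃* QuaternionGroup (2 ^ n))) := fun p _ P hP =>
    (PGroup.cyclic_or_quaternion_of_unique hP fun X Y hX hY =>
      Frobenius.Fpf.eq_of_card_eq_prime (isFpf_restrict hφ P.subtype P.subtype_injective) hP hX hY).imp id
      fun ⟨h, n, hn, _, he⟩ => ⟨h, n, hn, he⟩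
  obtain ⟨G₀, hG₀, hf, hcyc⟩ := exists_normal_cyclic_sylow hsol hp
  refine ⟨G₀, hG₀, hf, hcyc, ?_⟩
  obtain ⟨x, y, n, m, r, hgen, hx, hy, hrel, hrm, hnm, hr, hrn⟩ := S3379.result (G := G₀) hcyc
  have hn : 0 < n := hx ▸ orderOf_pos x
  have hm : 0 < m := hy ▸ orderOf_pos y
  refine ⟨n, m, r, hn, hm, hrm, hnm, hr, ?_, presented_iso hn hm hgen hx hy hrel hnm⟩
  have key : ((r : ZMod m)) ^ (n / ∏ p ∈ n.primeFactors, p) = 1 := by
    refine pow_div_primeFactors_eq_one hn hm hnm ?_ ?_
    · rw [← Nat.cast_pow, ← ZMod.natCast_mod, hrn, ZMod.natCast_mod, Nat.cast_one]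
    intro p hp' q hq'
    obtain ⟨hpp, hpn, -⟩ := Nat.mem_primeFactors.1 hp'
    obtain ⟨hqp, hqm, -⟩ := Nat.mem_primeFactors.1 hq'
    haveI := Fact.mk hpp
    haveI := Fact.mk hqp
    set a := y ^ (m / q) with ha
    set b := (x ^ (n / p))⁻¹ with hb
    have hao : orderOf a = q := by rw [ha, ← hy]; exact orderOf_pow_orderOf_div (orderOf_pos y).ne' (hy.symm ▸ hqm)
    have hbp : b ^ p = 1 := by
      rw [hb, inv_pow, ← pow_mul, Nat.div_mul_cancel hpn, ← hx, pow_orderOf_eq_one, inv_one]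
    have hconj : ∀ j k : ℕ, (x ^ j)⁻¹ * y ^ k * x ^ j = y ^ (k * r ^ j) := by
      intro j
      induction j with
      | zero => intro k; simp
      | succ j ih =>
        intro k
        have h1 : x⁻¹ * (y ^ (k * r ^ j)) * x = (x⁻¹ * y * x) ^ (k * r ^ j) := by
          have := (conj_pow (i := k * r ^ j) (a := x⁻¹) (b := y)).symm
          rwa [inv_inv] at this
        rw [show (x ^ (j + 1))⁻¹ * y ^ k * x ^ (j + 1) = x⁻¹ * ((x ^ j)⁻¹ * y ^ k * x ^ j) * x by rw [pow_succ]; group,
          ih, h1, hrel, ← pow_mul]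
        congr 1; ring
    have hba : b * a * b⁻¹ = a ^ r ^ (n / p) := by
      rw [hb, inv_inv, ha, hconj, pow_mul]
    have hc : Commute a b := Frobenius.Fpf.commute_of_conj_mem_zpowers (p := p) (q := q)
      (isFpf_restrict hφ G₀.subtype G₀.subtype_injective) (hao ▸ pow_orderOf_eq_one a) hbp
      (by rw [hba]; exact Subgroup.npow_mem_zpowers _ _)
    have h1 : a ^ r ^ (n / p) = a ^ 1 := by rw [← hba, ← hc.eq, mul_inv_cancel_right, pow_one]
    rw [pow_eq_pow_iff_modEq, hao, ← ZMod.natCast_eq_natCast_iff, Nat.cast_pow, Nat.cast_one] at h1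
    exact h1
  rw [← Nat.cast_pow] at key
  exact (ZMod.natCast_eq_natCast_iff' _ 1 m).1 (by rw [key, Nat.cast_one])

end Cfsg.Agent.S3358
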