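import Cfsg.Statements.S3361
import Cfsg.Agent.Lib.SharplyLinear.Exceptional
import Cfsg.Agent.Lib.SharplyLinear.Semilinear

set_option autoImplicit false
set_option linter.style.haveILetI false
open Cfsg

namespace Cfsg.Agent.S3361

/-- Let q be a prime and V a non-trivial finite vector space over the field with q elements, and let G be a finite solvable group acting faithfully and linearly on V and regularly on the non-zero vectors (transitively, with only the identity fixing a non-zero vector). Then either V can be identified with the additive group of a finite field F so that every element of G acts as x ↦ a·σ(x) (a ∈ F, σ a field automorphism), or V has 5^2, 7^2, 11^2 or 23^2 elements. Moreover, if q ≠ 2 then G has a normal subgroup of index 2, except that when V has 25 elements G may be isomorphic to SL(2,3) and when V has 121 elements G may be isomorphic to SL(2,3) × C₅. -/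
theorem result
    (q : ℕ) [Fact q.Prime] {V : Type*} [AddCommGroup V] [Module (ZMod q) V] [Finite V] [Nontrivial V]
    {G : Type*} [Group G] [Finite G] (hsol : Group.IsSolvable G)
    (ρ : G →* (V ≃ₗ[ZMod q] V)) (hρ : Function.Injective ρ)
    (htrans : ∀ v w : V, v ≠ 0 → w ≠ 0 → ∃ g : G, ρ g v = w)
    (hreg : ∀ v : V, v ≠ 0 → ∀ g : G, ρ g v = v → g = 1) :
    ((∃ (F : Type) (_ : Field F) (_ : Fintype F) (e : V ≃+ F),
        ∀ g : G, ∃ (a : F) (σ : F ≃+* F), ∀ v : V, e (ρ g v) = a * σ (e v)) ∨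
      Nat.card V ∈ ({25, 49, 121, 529} : Set ℕ)) ∧
    (q ≠ 2 → (∃ N : Subgroup G, N.Normal ∧ N.index = 2) ∨
      (Nat.card V = 25 ∧ Nonempty (G ≃* Matrix.SpecialLinearGroup (Fin 2) (ZMod 3))) ∨
      (Nat.card V = 121 ∧ Nonempty (G ≃* Matrix.SpecialLinearGroup (Fin 2) (ZMod 3) × Multiplicative (ZMod 5)))) := by
  classical
  haveI : Finite (V ≃ₗ[ZMod q] V) := SharplyLinear.finite_group
  let e : G ≃* ρ.range := MonoidHom.ofInjective hρ
  have hreg' : ∀ v w : V, v ≠ 0 → w ≠ 0 → ∃! h : ρ.range, (h : V ≃ₗ[ZMod q] V) v = w := by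
    intro v w hv hw
    obtain ⟨g, hg⟩ := htrans v w hv hw
    refine ⟨e g, hg, ?_⟩
    rintro ⟨_, g', rfl⟩ hg'
    have h1 : g⁻¹ * g' = 1 := hreg v hv _ (by
      rw [map_mul, map_inv, LinearEquiv.mul_apply, show ρ g' v = w from hg', ← hg]
      exact LinearEquiv.symm_apply_apply _ _)
    exact Subtype.ext (congrArg ρ (inv_mul_eq_one.mp h1).symm)
  haveI := hsol
  have hsol' : Group.IsSolvable ρ.range := Group.isSolvable_of_surjective (f := ρ.rangeRestrict) ρ.rangeRestrict_surjective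
  have htr : (∃ M : Subgroup ρ.range, M.Normal ∧ M.index = 2) → ∃ N : Subgroup G, N.Normal ∧ N.index = 2 := by
    rintro ⟨M, hM, hM2⟩
    exact ⟨M.comap e.toMonoidHom, Subgroup.Normal.comap hM _,
      (Subgroup.index_comap_of_surjective _ e.surjective).trans hM2⟩
  by_cases hI : ∀ A : Subgroup ρ.range, A.Normal → IsCyclic A → ∃ W : Submodule (ZMod q) V,
      W ≠ ⊥ ∧ W ≠ ⊤ ∧ ∀ a ∈ A, ∀ v ∈ W, ((a : ρ.range) : V ≃ₗ[ZMod q] V) v ∈ W
  · obtain ⟨h1, h2⟩ := SharplyLinear.exceptional_cases hreg' hI hsol'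
    refine ⟨Or.inr h1, fun _ => ?_⟩
    rcases h2 with h | ⟨h, ⟨f⟩⟩ | ⟨h, ⟨f⟩⟩
    exacts [Or.inl (htr h), Or.inr (Or.inl ⟨h, ⟨e.trans f⟩⟩), Or.inr (Or.inr ⟨h, ⟨e.trans f⟩⟩)]
  · push Not at hI
    obtain ⟨A, hAn, hAc, hA⟩ := hI
    haveI := hAn
    have hirr : ∀ W : Submodule (ZMod q) V, SharplyLinear.Inv A W → W = ⊥ ∨ W = ⊤ := by
      intro W hW
      by_contra hcon
      rw [not_or] at hcon
      obtain ⟨a, ha, v, hv, hav⟩ := hA W hcon.1 hcon.2
      exact hav (hW a ha v hv)
    obtain ⟨F, i1, i2, eF, hF⟩ := SharplyLinear.exists_semilinear A hirr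
    refine ⟨Or.inl ⟨F, i1, i2, eF, fun g => hF (e g)⟩, fun hq => Or.inl (htr ?_)⟩
    exact SharplyLinear.exists_index_two_of_semilinear hreg' hq A hAc hirr

end Cfsg.Agent.S3361
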