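import Cfsg.Statements.S3362
import Cfsg.Agent.Lib.Mathieu.Sift
import Cfsg.Agent.Lib.Perm.Transitive

set_option autoImplicit false
open Cfsg

namespace Cfsg.Agent.S3362

open Cfsg.Agent.Mathieu

def m12Levels : List CertLevel :=
  [(2, [0, 1, 2, 3, 4, 5, 6, 7, 8, 9, 10, 11], [2798710625634506630693388801, 1866614707169428356231922176, 3416467015609337987117220096, 3415253330530878240734773761, 2797482810493917941165457921, 3108181486803427535312192001, 1551103939339288127075648001, 933333419302327827506332161, 1244032095611837421653066241, 2483157300951307732768064001, 2172491754850031619139043841, 2479549486818265923869934081]),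
   (0, [0, 1, 3, 4, 5, 6, 7, 8, 9, 10, 11], [3416467015609337987117220096, 2484371097144259712655687681, 2795088625882096358916227331, 3102146357850327377997070596, 3412844979035777533128868101, 941776899750528692426768646, 1248834631718759711507611911, 1559533252904209866639409416, 1862992596302525850949124361, 1560756456142037812477296906, 939373325745685519969419531]),
   (1, [1, 3, 4, 5, 6, 7, 8, 9, 10, 11], [3416467015609337987117220096, 2177322736266131131341079296, 2488021412575637439837766656, 1870250892538680425918366976, 3098495931522315737846908416, 3409194607831822046343595776, 2178507994553654567864764416, 1245226706686560623373977856, 1244027280869766405757733376, 1551099179936604894494067456]),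
   (3, [3, 4, 5, 6, 7, 8, 9, 10, 11], [3416467015609337987117220096, 2798710607331594075371602176, 3105782506183104206941061376, 1552275123121935321491702016, 934518714844191409746084096, 1241590613695701541315543296, 2484370986029767479250780416, 2177299216162468861751460096, 2487983670249314832894525696]),
   (4, [4, 5, 6, 7, 8, 9, 10, 11], [3416467015609337987117220096, 2176094994767841698217328896, 3103331671908747429468569856, 1248858261637354181590384896, 1861797801122060564397424896, 2489202004267852810974003456, 2791442848277985774815805696, 1554725994000428398352138496])]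

def m12Known : List ℕ := [3416467015609337987117220096, 2798710607331594075371602176, 1552275123121935321491702016, 3103331671908747429468569856, 1248858261637354181590384896, 2791442848277985774815805696, 2795088625882096358916227331, 2484371097144259712655687681, 1866614707169428356231922176]

def m12Slp : List (ℕ × ℕ × ℕ) :=
  [(2798710625634506630693388801, 7, 8),
   (3415253330530878240734773761, 7, 0),
   (2797482810493917941165457921, 3, 0),
   (3108181486803427535312192001, 4, 0),
   (1551103939339288127075648001, 6, 2),
   (933333419302327827506332161, 7, 2),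
   (1244032095611837421653066241, 8, 2),
   (2483157300951307732768064001, 9, 2),
   (2172491754850031619139043841, 13, 5),
   (2479549486818265923869934081, 14, 4),
   (3102146357850327377997070596, 11, 16),
   (3412844979035777533128868101, 12, 0),
   (941776899750528692426768646, 14, 18),
   (1248834631718759711507611911, 15, 2),
   (1559533252904209866639409416, 16, 2),
   (1862992596302525850949124361, 17, 2),
   (1560756456142037812477296906, 21, 5),
   (939373325745685519969419531, 22, 4),
   (1870246151654241417262399491, 25, 24),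
   (2177322736266131131341079296, 25, 0),
   (2488021412575637439837766656, 21, 0),
   (1870250892538680425918366976, 22, 0),
   (3098495931522315737846908416, 24, 2),
   (3409194607831822046343595776, 25, 2),
   (3102136876296777704983888641, 30, 31),
   (1248867651461022590510958081, 27, 0),
   (3103336246774174230796962561, 31, 0),
   (2178507994553654567864764416, 34, 0),
   (1245226706686560623373977856, 35, 2),
   (1244027280869766405757733376, 34, 8),
   (1551099179936604894494067456, 35, 7),
   (3105782506183104206941061376, 32, 32),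
   (934518714844191409746084096, 34, 33),
   (1241590613695701541315543296, 35, 1),
   (2484370986029767479250780416, 36, 36),
   (2177299216162468861751460096, 40, 36),
   (2487983670249314832894525696, 41, 38),
   (2176094994767841698217328896, 40, 40),
   (1861797801122060564397424896, 41, 42),
   (2489202004267852810974003456, 43, 44),
   (1554725994000428398352138496, 45, 43)]

def m11Levels : List CertLevel :=
  [(0, [0, 1, 3, 4, 5, 6, 7, 8, 9, 10, 11], [3416467015609337987117220096, 2484371097144259712655687681, 2795088625882096358916227331, 3102146357850327377997070596, 3412844979035777533128868101, 941776899750528692426768646, 1248834631718759711507611911, 1559533252904209866639409416, 1862992596302525850949124361, 1560756456142037812477296906, 939373325745685519969419531]),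
   (1, [1, 3, 4, 5, 6, 7, 8, 9, 10, 11], [3416467015609337987117220096, 2177322736266131131341079296, 2488021412575637439837766656, 1870250892538680425918366976, 3098495931522315737846908416, 3409194607831822046343595776, 2178507994553654567864764416, 1245226706686560623373977856, 1244027280869766405757733376, 1551099179936604894494067456]),
   (3, [3, 4, 5, 6, 7, 8, 9, 10, 11], [3416467015609337987117220096, 2798710607331594075371602176, 3105782506183104206941061376, 1552275123121935321491702016, 934518714844191409746084096, 1241590613695701541315543296, 2484370986029767479250780416, 2177299216162468861751460096, 2487983670249314832894525696]),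
   (4, [4, 5, 6, 7, 8, 9, 10, 11], [3416467015609337987117220096, 2176094994767841698217328896, 3103331671908747429468569856, 1248858261637354181590384896, 1861797801122060564397424896, 2489202004267852810974003456, 2791442848277985774815805696, 1554725994000428398352138496])]

def m11Known : List ℕ := [3416467015609337987117220096, 2798710607331594075371602176, 1552275123121935321491702016, 3103331671908747429468569856, 1248858261637354181590384896, 2791442848277985774815805696, 2795088625882096358916227331, 2484371097144259712655687681]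

def m11Slp : List (ℕ × ℕ × ℕ) :=
  [(3102146357850327377997070596, 1, 6),
   (3412844979035777533128868101, 2, 0),
   (941776899750528692426768646, 4, 8),
   (1248834631718759711507611911, 5, 2),
   (1559533252904209866639409416, 6, 2),
   (1862992596302525850949124361, 7, 2),
   (1560756456142037812477296906, 11, 5),
   (939373325745685519969419531, 12, 4),
   (1870246151654241417262399491, 15, 14),
   (2177322736266131131341079296, 15, 0),
   (2488021412575637439837766656, 11, 0),
   (1870250892538680425918366976, 12, 0),
   (3098495931522315737846908416, 14, 2),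
   (3409194607831822046343595776, 15, 2),
   (3102136876296777704983888641, 20, 21),
   (1248867651461022590510958081, 17, 0),
   (3103336246774174230796962561, 21, 0),
   (2178507994553654567864764416, 24, 0),
   (1245226706686560623373977856, 25, 2),
   (1244027280869766405757733376, 24, 8),
   (1551099179936604894494067456, 25, 7),
   (3105782506183104206941061376, 22, 22),
   (934518714844191409746084096, 24, 23),
   (1241590613695701541315543296, 25, 1),
   (2484370986029767479250780416, 26, 26),
   (2177299216162468861751460096, 30, 26),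
   (2487983670249314832894525696, 31, 28),
   (2176094994767841698217328896, 30, 30),
   (1861797801122060564397424896, 31, 32),
   (2489202004267852810974003456, 33, 34),
   (1554725994000428398352138496, 35, 33)]

theorem m12_ok : levelsOK 12 [] m12Levels = true ∧ idRepOK 12 m12Levels = true ∧ closedOK 12 m12Levels = true ∧
    slpOK 12 m12Known m12Slp = true ∧ m12Known.all (fun g => sift 12 m12Levels g) = true ∧
    (allReps m12Levels).all (fun t => m12Known.contains t || (m12Slp.map fun s => s.1).contains t) = true := by
  refine ⟨?_, ?_, ?_, ?_, ?_, ?_⟩ <;> decide +kernel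

theorem m11_ok : levelsOK 12 [] m11Levels = true ∧ idRepOK 12 m11Levels = true ∧ closedOK 12 m11Levels = true ∧
    slpOK 12 m11Known m11Slp = true ∧ m11Known.all (fun g => sift 12 m11Levels g) = true ∧
    (allReps m11Levels).all (fun t => m11Known.contains t || (m11Slp.map fun s => s.1).contains t) = true := by
  refine ⟨?_, ?_, ?_, ?_, ?_, ?_⟩ <;> decide +kernel

theorem cert {levels : List CertLevel} {known : List ℕ} {slp : List (ℕ × ℕ × ℕ)} (hne : levels ≠ [])
    (hok : levelsOK 12 [] levels = true ∧ idRepOK 12 levels = true ∧ closedOK 12 levels = true ∧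
      slpOK 12 known slp = true ∧ known.all (fun g => sift 12 levels g) = true ∧
      (allReps levels).all (fun t => known.contains t || (slp.map fun s => s.1).contains t) = true)
    {S : Set (Equiv.Perm (Fin 12))}
    (hk : ∀ l ∈ known, ∃ σ ∈ Subgroup.closure S, Rep (Equiv.refl (Fin 12)) σ l)
    (hS : ∀ σ ∈ S, ∃ l ∈ known, Rep (Equiv.refl (Fin 12)) σ l) :
    Chain (Subgroup.closure S) (toLevels (Equiv.refl (Fin 12)) levels) ∧
      Nat.card (Subgroup.closure S) = (levels.map fun p => p.2.1.length).prod := by
  obtain ⟨h1, h2, h3, h4, h5, h6⟩ := hok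
  refine closure_cert (by norm_num) hne h1 h2 h3 (fun t ht => ?_) (fun σ hσ => ?_)
  · refine rep_of_slp known slp hk h4 t ?_
    simpa using List.all_eq_true.1 h6 t ht
  · obtain ⟨l, hl, hr⟩ := hS σ hσ
    exact ⟨l, hr, List.all_eq_true.1 h5 l hl⟩

/-- An explicit construction of the Mathieu groups of degrees 11 and 12. On the points 0, …, 11 let s = (3 4 5)(6 7 8)(9 10 11), t = (3 6 9)(4 7 10)(5 8 11), u = (4 6 5 9)(7 8 11 10), v = (4 7 5 11)(6 10 9 8), w = (4 10 5 8)(6 11 9 7), x₁ = (0 3)(6 7)(8 10)(9 11), x₂ = (0 1)(6 9)(7 10)(8 11), x₃ = (1 2)(6 11)(7 9)(8 10) (each written as a product of transpositions). Then the group M₁₂ generated by all eight permutations is sharply 5-transitive on the 12 points and has order 95040, and the group M₁₁ generated by the first seven has order 7920 and is the stabilizer of the point 2 in M₁₂. -/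
theorem result
    (s t u v w x₁ x₂ x₃ : Equiv.Perm (Fin 12))
    (hs : s = Equiv.swap (3 : Fin 12) 5 * Equiv.swap (3 : Fin 12) 4 * Equiv.swap (6 : Fin 12) 8 * Equiv.swap (6 : Fin 12) 7 * Equiv.swap (9 : Fin 12) 11 * Equiv.swap (9 : Fin 12) 10) (ht : t = Equiv.swap (3 : Fin 12) 9 * Equiv.swap (3 : Fin 12) 6 * Equiv.swap (4 : Fin 12) 10 * Equiv.swap (4 : Fin 12) 7 * Equiv.swap (5 : Fin 12) 11 * Equiv.swap (5 : Fin 12) 8)
    (hu : u = Equiv.swap (4 : Fin 12) 9 * Equiv.swap (4 : Fin 12) 5 * Equiv.swap (4 : Fin 12) 6 * Equiv.swap (7 : Fin 12) 10 * Equiv.swap (7 : Fin 12) 11 * Equiv.swap (7 : Fin 12) 8) (hv : v = Equiv.swap (4 : Fin 12) 11 * Equiv.swap (4 : Fin 12) 5 * Equiv.swap (4 : Fin 12) 7 * Equiv.swap (6 : Fin 12) 8 * Equiv.swap (6 : Fin 12) 9 * Equiv.swap (6 : Fin 12) 10) (hw : w = Equiv.swap (4 : Fin 12) 8 * Equiv.swap (4 : Fin 12) 5 * Equiv.swap (4 : Fin 12) 10 * Equiv.swap (6 : Fin 12) 7 * Equiv.swap (6 : Fin 12) 9 * Equiv.swap (6 : Fin 12) 11)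
    (hx₁ : x₁ = Equiv.swap (0 : Fin 12) 3 * Equiv.swap (6 : Fin 12) 7 * Equiv.swap (8 : Fin 12) 10 * Equiv.swap (9 : Fin 12) 11) (hx₂ : x₂ = Equiv.swap (0 : Fin 12) 1 * Equiv.swap (6 : Fin 12) 9 * Equiv.swap (7 : Fin 12) 10 * Equiv.swap (8 : Fin 12) 11)
    (hx₃ : x₃ = Equiv.swap (1 : Fin 12) 2 * Equiv.swap (6 : Fin 12) 11 * Equiv.swap (7 : Fin 12) 9 * Equiv.swap (8 : Fin 12) 10)
    (M₁₂ M₁₁ : Subgroup (Equiv.Perm (Fin 12))) (hM₁₂ : M₁₂ = Subgroup.closure {s, t, u, v, w, x₁, x₂, x₃})
    (hM₁₁ : M₁₁ = Subgroup.closure {s, t, u, v, w, x₁, x₂}) :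
    MulAction.IsMultiplyPretransitive M₁₂ (Fin 12) 5 ∧ (∀ y : Fin 5 ↪ Fin 12, MulAction.stabilizer M₁₂ y = ⊥) ∧
    Nat.card M₁₂ = 95040 ∧ Nat.card M₁₁ = 7920 ∧
    M₁₁ = M₁₂ ⊓ MulAction.stabilizer (Equiv.Perm (Fin 12)) (2 : Fin 12) := by
  have r0 : Rep (Equiv.refl (Fin 12)) s 2798710607331594075371602176 := by subst s; decide +kernel
  have r1 : Rep (Equiv.refl (Fin 12)) t 1552275123121935321491702016 := by subst t; decide +kernel
  have r2 : Rep (Equiv.refl (Fin 12)) u 3103331671908747429468569856 := by subst u; decide +kernel
  have r3 : Rep (Equiv.refl (Fin 12)) v 1248858261637354181590384896 := by subst v; decide +kernel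
  have r4 : Rep (Equiv.refl (Fin 12)) w 2791442848277985774815805696 := by subst w; decide +kernel
  have r5 : Rep (Equiv.refl (Fin 12)) x₁ 2795088625882096358916227331 := by subst x₁; decide +kernel
  have r6 : Rep (Equiv.refl (Fin 12)) x₂ 2484371097144259712655687681 := by subst x₂; decide +kernel
  have r7 : Rep (Equiv.refl (Fin 12)) x₃ 1866614707169428356231922176 := by subst x₃; decide +kernel
  subst hM₁₂ hM₁₁
  have hone : Rep (Equiv.refl (Fin 12)) (1 : Equiv.Perm (Fin 12)) (packId 12) := rep_packId (by norm_num)
  have hid : packId 12 = 3416467015609337987117220096 := by decide +kernel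
  rw [hid] at hone
  have h12 := cert (S := {s, t, u, v, w, x₁, x₂, x₃}) (by decide) m12_ok
    (by
      intro l hl
      simp only [m12Known, List.mem_cons, List.not_mem_nil, or_false] at hl
      rcases hl with rfl | rfl | rfl | rfl | rfl | rfl | rfl | rfl | rfl
      exacts [⟨1, one_mem _, hone⟩, ⟨s, Subgroup.subset_closure (by simp), r0⟩, ⟨t, Subgroup.subset_closure (by simp), r1⟩, ⟨u, Subgroup.subset_closure (by simp), r2⟩, ⟨v, Subgroup.subset_closure (by simp), r3⟩, ⟨w, Subgroup.subset_closure (by simp), r4⟩, ⟨x₁, Subgroup.subset_closure (by simp), r5⟩, ⟨x₂, Subgroup.subset_closure (by simp), r6⟩, ⟨x₃, Subgroup.subset_closure (by simp), r7⟩])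
    (by
      intro σ hσ
      simp only [Set.mem_insert_iff, Set.mem_singleton_iff] at hσ
      rcases hσ with rfl | rfl | rfl | rfl | rfl | rfl | rfl | rfl
      exacts [⟨_, by decide +kernel, r0⟩, ⟨_, by decide +kernel, r1⟩, ⟨_, by decide +kernel, r2⟩, ⟨_, by decide +kernel, r3⟩, ⟨_, by decide +kernel, r4⟩, ⟨_, by decide +kernel, r5⟩, ⟨_, by decide +kernel, r6⟩, ⟨_, by decide +kernel, r7⟩])
  have h11 := cert (S := {s, t, u, v, w, x₁, x₂}) (by decide) m11_ok
    (by
      intro l hl
      simp only [m11Known, List.mem_cons, List.not_mem_nil, or_false] at hl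
      rcases hl with rfl | rfl | rfl | rfl | rfl | rfl | rfl | rfl
      exacts [⟨1, one_mem _, hone⟩, ⟨s, Subgroup.subset_closure (by simp), r0⟩, ⟨t, Subgroup.subset_closure (by simp), r1⟩, ⟨u, Subgroup.subset_closure (by simp), r2⟩, ⟨v, Subgroup.subset_closure (by simp), r3⟩, ⟨w, Subgroup.subset_closure (by simp), r4⟩, ⟨x₁, Subgroup.subset_closure (by simp), r5⟩, ⟨x₂, Subgroup.subset_closure (by simp), r6⟩])
    (by
      intro σ hσ
      simp only [Set.mem_insert_iff, Set.mem_singleton_iff] at hσ
      rcases hσ with rfl | rfl | rfl | rfl | rfl | rfl | rfl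
      exacts [⟨_, by decide +kernel, r0⟩, ⟨_, by decide +kernel, r1⟩, ⟨_, by decide +kernel, r2⟩, ⟨_, by decide +kernel, r3⟩, ⟨_, by decide +kernel, r4⟩, ⟨_, by decide +kernel, r5⟩, ⟨_, by decide +kernel, r6⟩])
  have hc12 : Nat.card (Subgroup.closure ({s, t, u, v, w, x₁, x₂, x₃} : Set (Equiv.Perm (Fin 12)))) = 95040 :=
    h12.2.trans (by decide +kernel)
  have hc11 : Nat.card (Subgroup.closure ({s, t, u, v, w, x₁, x₂} : Set (Equiv.Perm (Fin 12)))) = 7920 :=
    h11.2.trans (by decide +kernel)
  have hfull : FullChain (Finset.univ : Finset (Fin 12)) (toLevels (Equiv.refl (Fin 12)) m12Levels) := by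
    simp only [m12Levels, toLevels, List.map_cons, List.map_nil, FullChain, idx]
    decide +kernel
  haveI h5 : MulAction.IsMultiplyPretransitive
      (Subgroup.closure ({s, t, u, v, w, x₁, x₂, x₃} : Set (Equiv.Perm (Fin 12)))) (Fin 12) 5 :=
    h12.1.isMultiplyPretransitive hfull
  refine ⟨h5, fun y => ?_, hc12, hc11, ?_⟩
  · have h := Cfsg.Agent.Perm.card_eq_descFactorial_mul (G := Subgroup.closure ({s, t, u, v, w, x₁, x₂, x₃} : Set (Equiv.Perm (Fin 12)))) (α := Fin 12) y
    rw [hc12, Nat.card_eq_fintype_card (α := Fin 12), Fintype.card_fin] at h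
    refine Subgroup.card_eq_one.1 (Nat.eq_of_mul_eq_mul_left (show 0 < Nat.descFactorial 12 5 by decide) ?_)
    exact h.trans (by decide)
  · refine Subgroup.eq_of_le_of_card_ge ?_ ?_
    · rw [Subgroup.closure_le]
      intro σ hσ
      refine ⟨Subgroup.subset_closure (Set.insert_subset_insert (Set.insert_subset_insert (Set.insert_subset_insert (Set.insert_subset_insert (Set.insert_subset_insert (Set.insert_subset_insert (by simp)))))) hσ), ?_⟩
      simp only [Set.mem_insert_iff, Set.mem_singleton_iff] at hσ
      rcases hσ with rfl | rfl | rfl | rfl | rfl | rfl | rfl <;>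
        (show _ = _; subst_vars; decide +kernel)
    · have h1 := h12.1
      simp only [m12Levels, toLevels, List.map_cons] at h1
      have h2 := card_eq_orbit_mul _ _ _ h1.1
      have h3 : idx (Equiv.refl (Fin 12)) 2 = (2 : Fin 12) := rfl
      rw [hc12, h3] at h2
      rw [hc11]
      refine le_of_eq (Nat.eq_of_mul_eq_mul_left (show 0 < 12 by norm_num) (Eq.trans ?_ (show 95040 = 12 * 7920 by norm_num)))
      rw [h2]
      rfl

end Cfsg.Agent.S3362
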