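import Cfsg.Statements.S3366
import Cfsg.Agent.Lib.PCore.Basic
import Cfsg.Agent.Lib.HeisSL2.Cent
import Cfsg.Agent.Lib.HeisSL2.Recog

set_option autoImplicit false
open Cfsg

namespace Cfsg.Agent.S3366

/-- Let X be a finite group with O₃(X) extraspecial of order 27 and exponent 3, X/O₃(X) isomorphic to SL(2,3), O₂(X) = 1, and a Sylow 3-subgroup of X containing an elementary abelian subgroup of order 27. Then X is isomorphic to the centralizer in PSp(4,3) of a 3-central element of order 3 (an element of order 3 in the centre of a Sylow 3-subgroup). -/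
theorem result {X : Type*} [Group X] [Finite X]
    (hR : Cfsg.IsExtraspecial 3 (Cfsg.pCore 3 X)) (hRcard : Nat.card (Cfsg.pCore 3 X) = 27)
    (hRexp : ∀ r ∈ Cfsg.pCore 3 X, r ^ 3 = 1)
    (e : X ⧸ Cfsg.pCore 3 X ≃* Matrix.SpecialLinearGroup (Fin 2) (ZMod 3))
    (hO2 : Cfsg.pCore 2 X = ⊥)
    (hE : ∃ E : Subgroup X, IsMulCommutative E ∧ (∀ a ∈ E, a ^ 3 = 1) ∧ Nat.card E = 27)
    (F : Type*) [Field F] [Fintype F] (hF : Fintype.card F = 3) :
    ∃ (c : Cfsg.PSp 2 F) (S : Sylow 3 (Cfsg.PSp 2 F)), orderOf c = 3 ∧ c ∈ (S : Subgroup (Cfsg.PSp 2 F)) ∧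
      c ∈ Subgroup.centralizer ((S : Subgroup (Cfsg.PSp 2 F)) : Set (Cfsg.PSp 2 F)) ∧
      Nonempty (X ≃* Subgroup.centralizer ({c} : Set (Cfsg.PSp 2 F))) := by
  classical
  haveI : Fact (Nat.Prime 3) := ⟨by norm_num⟩
  let R := Cfsg.pCore 3 X
  let q : X →* Matrix.SpecialLinearGroup (Fin 2) (ZMod 3) := e.toMonoidHom.comp (QuotientGroup.mk' R)
  let S : HeisSL2.Setting X :=
    { R := R
      normal := inferInstance
      card_R := hRcard
      exp := hRexp
      q := q
      q_surj := e.surjective.comp (QuotientGroup.mk'_surjective R)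
      q_ker := fun x => by
        show e (QuotientGroup.mk' R x) = 1 ↔ _
        rw [MulEquiv.map_eq_one_iff]
        exact QuotientGroup.eq_one_iff x
      no_inv := fun w h2 hc => by
        haveI : (Subgroup.zpowers w).Normal := ⟨fun y hy g => by
          obtain ⟨i, rfl⟩ := Subgroup.mem_zpowers_iff.1 hy
          rw [((show Commute g w from hc g).zpow_right i).eq, mul_inv_cancel_right]
          exact Subgroup.zpow_mem_zpowers w i⟩
        have hp : IsPGroup 2 (Subgroup.zpowers w) := fun y => ⟨1, by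
          obtain ⟨i, hi⟩ := Subgroup.mem_zpowers_iff.1 y.2
          apply Subtype.ext
          rw [SubmonoidClass.coe_pow, ← hi, pow_one, Subgroup.coe_one, ← zpow_natCast, ← zpow_mul,
            mul_comm, zpow_mul, zpow_natCast, h2, one_zpow]⟩
        have := PCore.le_pCore (p := 2) hp (Subgroup.mem_zpowers w)
        rwa [hO2, Subgroup.mem_bot] at this
      card_center := hR.2
      comm_le := hR.1.2.2.le }
  obtain ⟨φ⟩ := S.exists_iso hE
  obtain ⟨c, P, h1, h2, h3, ⟨ψ⟩⟩ := HeisSL2.exists_cent hF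
  exact ⟨c, P, h1, h2, h3, ⟨φ.symm.trans ψ⟩⟩

end Cfsg.Agent.S3366
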