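import Cfsg.Statements.S3370
import Cfsg.Agent.Lib.PGroup.UniqueOrderP

set_option autoImplicit false
open Cfsg
open scoped Pointwise

namespace Cfsg.Agent.S3370

/-- The possible orders `q ^ n` with `q ^ n - 1` a power of a prime. -/
theorem arith {q n p b : ℕ} (hq : q.Prime) (hp : p.Prime) (hn : 1 ≤ n) (h : q ^ n = p ^ b + 1)
    (hb : 1 ≤ b) : (q = 2 ∧ b = 1) ∨ (p = 2 ∧ n = 1) ∨ (p = 2 ∧ q = 3 ∧ n = 2) := by
  rcases hq.eq_two_or_odd with rfl | hodd
  · left
    refine ⟨rfl, ?_⟩
    have hn2 : 2 ≤ n := by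
      by_contra hc
      have : n = 1 := by omega
      subst this
      have : 2 ≤ p ^ b := le_trans hp.two_le (Nat.le_self_pow (by omega) p)
      omega
    have hpodd : Odd p := by
      refine hp.odd_of_ne_two fun e => ?_
      subst e
      have h1 : 2 ∣ 2 ^ n := dvd_pow_self 2 (by omega)
      have h2 : 2 ∣ 2 ^ b := dvd_pow_self 2 (by omega)
      omega
    rcases Nat.even_or_odd b with hbe | hbo
    · exfalso
      obtain ⟨c, rfl⟩ := hbe
      obtain ⟨d, hd⟩ : Odd (p ^ c) := hpodd.pow
      rw [← two_mul, mul_comm 2 c, pow_mul, hd] at h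
      have h4 : 4 ∣ 2 ^ n := by
        obtain ⟨k, rfl⟩ := Nat.exists_eq_add_of_le hn2
        exact Dvd.intro _ (pow_add 2 2 k).symm
      rw [h] at h4
      have : (2 * d + 1) ^ 2 + 1 = 4 * (d * d + d) + 2 := by ring
      omega
    · -- `p + 1` divides with odd cofactor
      have hdvd : p + 1 ∣ p ^ b + 1 := by simpa using hbo.nat_add_dvd_pow_add_pow p 1
      rw [← h] at hdvd
      obtain ⟨i, hi, hpi⟩ := (Nat.dvd_prime_pow Nat.prime_two).1 hdvd
      -- the cofactor is odd
      have hgs : ((-(p : ℤ)) - 1) * ∑ j ∈ Finset.range b, (-(p : ℤ)) ^ j = (-(p : ℤ)) ^ b - 1 := by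
        rw [mul_geom_sum]
      rw [hbo.neg_pow] at hgs
      have hoddS : Odd (∑ j ∈ Finset.range b, (-(p : ℤ)) ^ j) := by
        obtain ⟨c, rfl⟩ := hbo
        have hp' : Odd (-(p : ℤ)) := ((Int.odd_coe_nat p).2 hpodd).neg
        clear hgs h hdvd hb
        induction c with
        | zero => simp
        | succ c ih =>
          rw [show 2 * (c + 1) + 1 = 2 * c + 1 + 1 + 1 by ring, Finset.sum_range_succ, Finset.sum_range_succ, add_assoc]
          exact ih.add_even (hp'.pow.add_odd hp'.pow)
      have hpi' : ((p : ℤ) + 1) = 2 ^ i := by exact_mod_cast hpi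
      have hh : ((2 : ℤ) ^ n) = (p : ℤ) ^ b + 1 := by exact_mod_cast h
      have heq : (2 : ℤ) ^ n = 2 ^ i * ∑ j ∈ Finset.range b, (-(p : ℤ)) ^ j := by
        rw [hh, ← hpi']; linear_combination hgs
      rcases Nat.lt_or_ge i n with hlt | hge
      · exfalso
        obtain ⟨k, rfl⟩ := Nat.exists_eq_add_of_lt hlt
        rw [show i + k + 1 = i + (k + 1) by ring, pow_add] at heq
        have := mul_left_cancel₀ (pow_ne_zero i (by norm_num)) heq
        rw [← this] at hoddS
        exact (Int.not_odd_iff_even.2 ((even_two).pow_of_ne_zero (by omega))) hoddS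
      · have hin : i = n := le_antisymm hi hge
        subst hin
        have : p ^ b = p ^ 1 := by rw [pow_one]; omega
        exact Nat.pow_right_injective hp.two_le this
  · right
    have hp2 : p = 2 := by
      by_contra hp2
      have h1 : Odd (q ^ n) := (Nat.odd_iff.2 hodd).pow
      rw [h, Nat.odd_add_one, Nat.not_odd_iff_even, Nat.even_pow] at h1
      exact hp2 (hp.even_iff.1 h1.1)
    subst hp2
    rcases Nat.even_or_odd n with hne | hno
    · right
      obtain ⟨m, rfl⟩ := hne
      rw [← two_mul, mul_comm 2 m, pow_mul] at h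
      have h1 : 2 ^ b = (q ^ m + 1) * (q ^ m - 1) := by
        rw [← Nat.sq_sub_sq, one_pow, h, Nat.add_sub_cancel]
      obtain ⟨i, -, hi⟩ := (Nat.dvd_prime_pow Nat.prime_two).1 (Dvd.intro _ h1.symm)
      obtain ⟨j, -, hj⟩ := (Nat.dvd_prime_pow Nat.prime_two).1 (Dvd.intro_left _ h1.symm)
      have hqm : 3 ≤ q ^ m := by
        have : 3 ≤ q := by have := hq.two_le; omega
        exact this.trans (Nat.le_self_pow (by omega) q)
      have hij : j < i := (Nat.pow_lt_pow_iff_right (by norm_num : 1 < 2)).1 (by omega)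
      have hj1 : j = 1 := by
        have : 2 ^ j ∣ 2 := by
          have h2 : 2 ^ j ∣ 2 ^ i := pow_dvd_pow 2 hij.le
          have := Nat.dvd_sub h2 (dvd_refl (2 ^ j))
          rwa [show 2 ^ i - 2 ^ j = 2 by omega] at this
        rcases j with _ | j
        · simp at hj; omega
        · have := Nat.le_of_dvd (by norm_num) this
          have h3 : (2 : ℕ) ^ (j + 1) ≤ 2 ^ 1 := by simpa using this
          have := (Nat.pow_le_pow_iff_right (by norm_num : 1 < 2)).1 h3
          omega
      subst hj1
      have hqm3 : q ^ m = 3 := by omega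
      have hm1 : m = 1 := ((Nat.Prime.pow_eq_iff Nat.prime_three).1 hqm3).2
      subst hm1
      exact ⟨rfl, by simpa using hqm3, rfl⟩
    · left
      refine ⟨rfl, ?_⟩
      by_contra hn1
      have hgs := mul_geom_sum (q : ℤ) n
      have hh : (q : ℤ) ^ n - 1 = 2 ^ b := by
        have : ((q ^ n : ℕ) : ℤ) = ((2 ^ b + 1 : ℕ) : ℤ) := by rw [h]
        push_cast at this; linarith
      rw [hh] at hgs
      have hoddS : Odd (∑ j ∈ Finset.range n, q ^ j) := by
        rw [Finset.odd_sum_iff_odd_card_odd]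
        rw [Finset.filter_true_of_mem (fun j _ => (Nat.odd_iff.2 hodd).pow), Finset.card_range]
        exact hno
      have hdvd : (∑ j ∈ Finset.range n, q ^ j) ∣ 2 ^ b := by
        have : ((∑ j ∈ Finset.range n, q ^ j : ℕ) : ℤ) ∣ ((2 ^ b : ℕ) : ℤ) := by
          push_cast; exact Dvd.intro_left _ hgs
        exact_mod_cast this
      have h1 := Nat.eq_one_of_dvd_coprimes ((Nat.coprime_pow_right_iff (by omega) _ _).2 (Nat.coprime_two_right.2 hoddS)) dvd_rfl hdvd
      have : 1 + q ≤ ∑ j ∈ Finset.range n, q ^ j := by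
        calc 1 + q = ∑ j ∈ Finset.range 2, q ^ j := by simp [Finset.sum_range_succ]
          _ ≤ _ := Finset.sum_le_sum_of_subset (Finset.range_subset_range.2 (by omega))
      have := hq.two_le
      omega

/-- Elements of one Sylow subgroup transfer, by a conjugation, into an injective image that is a Sylow subgroup. -/
theorem exists_transfer {G M : Type*} [Group G] [Group M] [Finite M] {p : ℕ} [Fact p.Prime]
    (R S : Sylow p M) (f : G →* M) (hf : Function.Injective f) (hr : f.range = (S : Subgroup M))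
    {x y : M} (hx : x ∈ (R : Subgroup M)) (hy : y ∈ (R : Subgroup M)) (k : ℕ) (hxy : y * x * y⁻¹ = x ^ k) :
    ∃ x' y' : G, orderOf x' = orderOf x ∧ orderOf y' = orderOf y ∧ y' * x' * y'⁻¹ = x' ^ k := by
  obtain ⟨g, hg⟩ := MulAction.exists_smul_eq M R S
  have hconj : ∀ z ∈ (R : Subgroup M), ∃ w, f w = g * z * g⁻¹ := by
    intro z hz
    have hmem : g * z * g⁻¹ ∈ ((g • R : Sylow p M) : Subgroup M) := by
      rw [Sylow.coe_subgroup_smul]
      exact Subgroup.smul_mem_pointwise_smul z (MulAut.conj g) _ hz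
    rw [hg, ← hr] at hmem
    exact hmem
  obtain ⟨x', hx'⟩ := hconj x hx
  obtain ⟨y', hy'⟩ := hconj y hy
  refine ⟨x', y', ?_, ?_, hf ?_⟩
  · rw [← orderOf_injective f hf, hx']; exact orderOf_injective (MulAut.conj g).toMonoidHom (MulAut.conj g).injective x
  · rw [← orderOf_injective f hf, hy']; exact orderOf_injective (MulAut.conj g).toMonoidHom (MulAut.conj g).injective y
  · rw [map_mul, map_mul, map_inv, map_pow, hx', hy', conj_pow, ← hxy]; group

/-- A semidihedral pair in `GL(2,3)`. -/
theorem exists_SD16 : ∃ x y : GL (Fin 2) (ZMod 3), orderOf x = 2 ^ 3 ∧ orderOf y = 2 ∧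
    y * x * y⁻¹ = x ^ 3 := by
  let x : GL (Fin 2) (ZMod 3) := Matrix.GeneralLinearGroup.mkOfDetNeZero !![1, 1; 2, 1] (by decide)
  let y : GL (Fin 2) (ZMod 3) := Matrix.GeneralLinearGroup.mkOfDetNeZero !![1, 0; 0, 2] (by decide)
  refine ⟨x, y, ?_, orderOf_eq_prime (by decide +kernel) (by decide +kernel), ?_⟩
  · exact orderOf_eq_prime_pow (p := 2) (n := 2) (by decide +kernel) (by decide +kernel)
  · rw [mul_inv_eq_iff_eq_mul]; decide +kernel

/-- Let q be a prime, V a non-trivial finite vector space over the field with q elements, and G a non-trivial finite p-group (p prime) acting faithfully and linearly on V and transitively on the non-zero vectors. Then either q = 2 and G has prime order p = |V| − 1; or p = 2, V has q elements with q = 2^m + 1 and G is cyclic of order 2^m; or p = 2, q = 3, V has 9 elements and G is cyclic of order 8, quaternion of order 8, or semidihedral of order 16. -/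
theorem result (q : ℕ) [Fact q.Prime] {V : Type*} [AddCommGroup V] [Module (ZMod q) V] [Finite V] [Nontrivial V]
    {G : Type*} [Group G] [Finite G] [Nontrivial G] (p : ℕ) [Fact p.Prime] (hG : IsPGroup p G)
    (ρ : G →* (V ≃ₗ[ZMod q] V)) (hρ : Function.Injective ρ)
    (htrans : ∀ v w : V, v ≠ 0 → w ≠ 0 → ∃ g : G, ρ g v = w) :
    (q = 2 ∧ p = Nat.card V - 1 ∧ Nat.card G = p) ∨
    (p = 2 ∧ Nat.card V = q ∧ (∃ m : ℕ, q = 2 ^ m + 1 ∧ Nat.card G = 2 ^ m) ∧ IsCyclic G) ∨
    (p = 2 ∧ q = 3 ∧ Nat.card V = 9 ∧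
      ((IsCyclic G ∧ Nat.card G = 8) ∨ Nonempty (G ≃* QuaternionGroup 2) ∨ (Cfsg.IsQuasiDihedral G ∧ Nat.card G = 16))) := by
  obtain ⟨v₀, hv₀⟩ := exists_ne (0 : V)
  have hone : ∀ v : V, (1 : V ≃ₗ[ZMod q] V) v = v := fun v => rfl
  have hmul : ∀ (g h : G) (v : V), ρ (g * h) v = ρ g (ρ h v) := fun g h v => by
    rw [map_mul, LinearEquiv.mul_apply]
  let inst : MulAction G V :=
    { smul := fun g v => ρ g v
      one_smul := fun v => by show ρ 1 v = v; rw [map_one, hone]
      mul_smul := fun g h v => hmul g h v }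
  have hsmul : ∀ (g : G) (v : V), g • v = ρ g v := fun _ _ => rfl
  have horb : MulAction.orbit G v₀ = {v | v ≠ 0} := by
    ext v
    constructor
    · rintro ⟨g, rfl⟩ h
      exact hv₀ ((ρ g).map_eq_zero_iff.1 h)
    · intro hv; exact htrans v₀ v hv₀ hv
  obtain ⟨a, ha⟩ := IsPGroup.iff_card.1 hG
  have hidx := (MulAction.stabilizer G v₀).index_mul_card
  rw [MulAction.index_stabilizer, horb] at hidx
  have hncard : ({v : V | v ≠ 0} : Set V).ncard = Nat.card V - 1 := by
    rw [show ({v : V | v ≠ 0} : Set V) = {0}ᶜ from rfl, Set.ncard_compl, Set.ncard_singleton]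
  rw [hncard] at hidx
  obtain ⟨b, hba, hb⟩ := (Nat.dvd_prime_pow Fact.out).1 (ha ▸ Dvd.intro _ hidx : Nat.card V - 1 ∣ p ^ a)
  let n := Module.finrank (ZMod q) V
  have hV : Nat.card V = q ^ n := by rw [Module.natCard_eq_pow_finrank (K := ZMod q), Nat.card_zmod]
  have hn : 1 ≤ n := Module.finrank_pos
  have hVpos : 0 < Nat.card V := Nat.card_pos
  have heq : q ^ n = p ^ b + 1 := by omega
  -- the fixed space of a subgroup fixing a vector
  have hfixfree : ∀ g : G, (∀ v : V, v ≠ 0 → ρ g v = v) → g = 1 := by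
    intro g hg
    apply hρ
    rw [map_one]
    refine LinearEquiv.ext fun v => ?_
    by_cases hv : v = 0
    · rw [hv, map_zero, map_zero]
    · rw [hg v hv, hone]
  have hb1 : 1 ≤ b := by
    by_contra hb0
    obtain rfl : b = 0 := by omega
    obtain ⟨g, hg⟩ := exists_ne (1 : G)
    refine hg (hfixfree g fun v hv => ?_)
    have hsub : ({v : V | v ≠ 0} : Set V).ncard = 1 := by rw [hncard, hb, pow_zero]
    obtain ⟨w, hw⟩ := Set.ncard_eq_one.1 hsub
    have h1 : v = w := by simpa using hw.le (show v ∈ {v : V | v ≠ 0} from hv)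
    have h2 : ρ g v = w := by
      simpa using hw.le (show ρ g v ∈ {v : V | v ≠ 0} from fun h => hv ((ρ g).map_eq_zero_iff.1 h))
    rw [h2, h1]
  rcases arith Fact.out Fact.out hn heq hb1 with ⟨rfl, rfl⟩ | ⟨rfl, hn1⟩ | ⟨rfl, rfl, hn2⟩
  · -- `V` has `p + 1` elements
    left
    rw [pow_one] at heq hb
    refine ⟨rfl, by omega, ?_⟩
    have hp2 : 2 ≤ p := (Fact.out : p.Prime).two_le
    suffices hst : MulAction.stabilizer G v₀ = ⊥ by
      rw [hst, Subgroup.card_bot, mul_one] at hidx; omega
    rw [Subgroup.eq_bot_iff_forall]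
    intro h hh
    refine hfixfree h fun v hv => ?_
    let W : Submodule (ZMod 2) V := LinearMap.eqLocus (ρ h : V →ₗ[ZMod 2] V) LinearMap.id
    suffices hW : W = ⊤ by
      have : v ∈ W := hW ▸ Submodule.mem_top
      exact this
    by_contra hW
    have hlt := Submodule.finrank_lt hW
    have hmod : Nat.card V ≡ Nat.card (MulAction.fixedPoints (Subgroup.zpowers h) V) [MOD p] :=
      (hG.to_subgroup _).card_modEq_card_fixedPoints V
    have hfix : Nat.card (MulAction.fixedPoints (Subgroup.zpowers h) V) = Nat.card W := by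
      refine Nat.card_congr (Equiv.subtypeEquivRight fun x => ?_)
      constructor
      · intro hx; exact hx ⟨h, Subgroup.mem_zpowers h⟩
      · rintro hx ⟨g, hg⟩
        have : Subgroup.zpowers h ≤ MulAction.stabilizer G x := Subgroup.zpowers_le.2 hx
        exact this hg
    have hWc : Nat.card W = 2 ^ Module.finrank (ZMod 2) W := by
      rw [Module.natCard_eq_pow_finrank (K := ZMod 2), Nat.card_zmod]
    rw [hfix, show Nat.card V = p + 1 by omega, hWc] at hmod
    have hWp : 2 ^ Module.finrank (ZMod 2) W < p + 1 := by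
      rw [← heq]; exact Nat.pow_lt_pow_right (by norm_num) hlt
    have hv₀W : v₀ ∈ W := hh
    have h2W : 2 ≤ 2 ^ Module.finrank (ZMod 2) W := by
      rw [← hWc]
      exact Finite.one_lt_card_iff_nontrivial.2 ⟨⟨⟨v₀, hv₀W⟩, 0, fun e => hv₀ (congrArg Subtype.val e)⟩⟩
    have hmod' : p + 1 ≡ 0 + 1 [MOD p] := (Nat.modEq_zero_iff_dvd.2 dvd_rfl).add_right 1
    have h1 := hmod.symm.trans hmod'
    have h3 : p ∣ 2 ^ Module.finrank (ZMod 2) W - 1 := (Nat.modEq_iff_dvd' (by omega)).1 (by simpa using h1.symm)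
    have := Nat.le_of_dvd (by omega) h3
    omega
  · -- dimension one
    right; left
    have hVq : Nat.card V = q := by rw [hV, hn1, pow_one]
    have hspan : ∀ v : V, ∃ c : ZMod q, c • v₀ = v := fun v => by
      obtain ⟨c, hc⟩ := (finrank_eq_one_iff_of_nonzero' v₀ hv₀).1 hn1 v
      exact ⟨c, hc⟩
    choose c hc using fun g : G => hspan (ρ g v₀)
    have hcm : ∀ g h, c (g * h) = c g * c h := by
      intro g h
      refine smul_left_injective (ZMod q) hv₀ ?_
      show c (g * h) • v₀ = (c g * c h) • v₀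
      rw [hc, hmul, ← hc h, map_smul, ← hc g, smul_smul, mul_comm]
    have hc0 : ∀ g, c g ≠ 0 := fun g e => hv₀ ((ρ g).map_eq_zero_iff.1 (by rw [← hc g, e, zero_smul]))
    let φ : G →* (ZMod q)ˣ := MonoidHom.mk' (fun g => Units.mk0 (c g) (hc0 g)) (fun g h => Units.ext (hcm g h))
    have hφ : Function.Injective φ := by
      rw [injective_iff_map_eq_one]
      intro g hg
      refine hfixfree g fun v _ => ?_
      obtain ⟨d, rfl⟩ := hspan v
      have : c g = 1 := congrArg Units.val hg
      rw [map_smul, ← hc g, this, one_smul]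
    haveI := isCyclic_of_injective φ hφ
    have hst : MulAction.stabilizer G v₀ = ⊥ := by
      rw [Subgroup.eq_bot_iff_forall]
      intro g hg
      refine hfixfree g fun v _ => ?_
      obtain ⟨d, rfl⟩ := hspan v
      rw [map_smul, show ρ g v₀ = v₀ from hg]
    rw [hst, Subgroup.card_bot, mul_one] at hidx
    exact ⟨rfl, hVq, ⟨b, by omega, by omega⟩, inferInstance⟩
  · -- nine vectors
    right; right
    have hV9 : Nat.card V = 9 := by rw [hV, hn2]; norm_num
    refine ⟨rfl, rfl, hV9, ?_⟩
    let bas := Module.finBasisOfFinrankEq (ZMod 3) V hn2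
    let M : G →* Matrix (Fin 2) (Fin 2) (ZMod 3) :=
      { toFun := fun g => LinearMap.toMatrixAlgEquiv bas (ρ g : V →ₗ[ZMod 3] V)
        map_one' := by
          rw [← map_one (LinearMap.toMatrixAlgEquiv bas)]
          congr 1
          ext v; show ρ 1 v = v; rw [map_one, hone]
        map_mul' := fun g h => by
          rw [← map_mul]
          congr 1
          ext v; exact hmul g h v }
    let f : G →* GL (Fin 2) (ZMod 3) := M.toHomUnits
    have hf : Function.Injective f := by
      intro g h e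
      refine hρ (LinearEquiv.toLinearMap_injective ((LinearMap.toMatrixAlgEquiv bas).injective ?_))
      exact congrArg Units.val e
    have hGdvd : Nat.card G ∣ 48 := by
      have h := Subgroup.card_dvd_of_injective f hf
      rwa [Matrix.card_GL_field, ← Nat.card_eq_fintype_card, Nat.card_zmod, show ∏ i : Fin 2, (3 ^ 2 - 3 ^ (i : ℕ)) = 48 by decide] at h
    have h8 : Nat.card G = 8 ∨ Nat.card G = 16 := by
      rw [ha] at hGdvd ⊢
      have ha4 : a ≤ 4 := by
        have h16 : 2 ^ a ∣ 16 := (Nat.Coprime.dvd_of_dvd_mul_right ((Nat.coprime_primes Nat.prime_two Nat.prime_three).2 (by norm_num) |>.pow_left a) (by simpa using hGdvd : 2 ^ a ∣ 16 * 3))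
        exact (Nat.pow_dvd_pow_iff_le_right (by norm_num : 1 < 2)).1 (by simpa using h16)
      have h8 : 8 ≤ 2 ^ a := by
        rw [← ha, ← hidx, hV9]
        exact Nat.le_mul_of_pos_right _ Nat.card_pos
      interval_cases a <;> simp at h8 ⊢
    rcases h8 with h8 | h16
    · have hst : ∀ v : V, v ≠ 0 → ∀ g : G, ρ g v = v → g = 1 := by
        intro v hv g hg
        have h := (MulAction.stabilizer G v).index_mul_card
        have horb' : MulAction.orbit G v = {v | v ≠ 0} := by
          ext w
          constructor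
          · rintro ⟨k, rfl⟩ hk
            exact hv ((ρ k).map_eq_zero_iff.1 hk)
          · intro hw; exact htrans v w hv hw
        rw [MulAction.index_stabilizer, horb', hncard, hV9, h8] at h
        exact (Subgroup.eq_bot_iff_forall _).1 (Subgroup.card_eq_one.1 (show Nat.card (MulAction.stabilizer G v) = 1 by omega)) g hg
      have hneg : ∀ g : G, orderOf g = 2 → ∀ v, ρ g v = - v := by
        intro g hg v
        have h2 : ρ g (v + ρ g v) = v + ρ g v := by
          rw [map_add, ← hmul, ← sq, ← hg, pow_orderOf_eq_one, map_one, hone, add_comm]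
        by_contra hne
        have := hst _ (fun e => hne (eq_neg_of_add_eq_zero_right e)) g h2
        simp [this] at hg
      have huniq : ∀ H K : Subgroup G, Nat.card H = 2 → Nat.card K = 2 → H = K := by
        intro H K hH hK
        obtain ⟨x, hx⟩ : ∃ x : H, orderOf x = 2 := exists_prime_orderOf_dvd_card' 2 (dvd_of_eq hH.symm)
        obtain ⟨y, hy⟩ : ∃ y : K, orderOf y = 2 := exists_prime_orderOf_dvd_card' 2 (dvd_of_eq hK.symm)
        rw [← Subgroup.orderOf_coe] at hx hy
        have hxy : (x : G) = y := hρ (LinearEquiv.ext fun v => by rw [hneg _ hx, hneg _ hy])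
        rw [← Subgroup.eq_of_le_of_card_ge (Subgroup.zpowers_le.2 x.2) (by rw [Nat.card_zpowers, hx, hH]),
          ← Subgroup.eq_of_le_of_card_ge (Subgroup.zpowers_le.2 y.2) (by rw [Nat.card_zpowers, hy, hK]), hxy]
      rcases Cfsg.Agent.PGroup.cyclic_or_quaternion_of_unique hG huniq with hc | ⟨-, k, hk, hcard, hiso⟩
      · exact Or.inl ⟨hc, h8⟩
      · refine Or.inr (Or.inl ?_)
        obtain rfl : k = 1 := by
          rw [h8, show (8 : ℕ) = 2 ^ 3 by norm_num] at hcard
          have := Nat.pow_right_injective le_rfl hcard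
          omega
        simpa using hiso
    · refine Or.inr (Or.inr ⟨?_, h16⟩)
      obtain ⟨x, y, hx, hy, hxy⟩ := exists_SD16
      have hK : IsPGroup 2 ↥(Subgroup.zpowers y ⊔ Subgroup.zpowers x) := by
        refine IsPGroup.to_sup_of_normal_right' ?_ ?_ ?_
        · exact IsPGroup.of_card (n := 1) (by rw [Nat.card_zpowers, hy]; norm_num)
        · exact IsPGroup.of_card (n := 3) (by rw [Nat.card_zpowers, hx])
        · rw [Subgroup.zpowers_le, Subgroup.mem_normalizer_iff_map_conj_eq, MonoidHom.map_zpowers]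
          refine Subgroup.eq_of_le_of_card_ge ?_ ?_
          · rw [Subgroup.zpowers_le]
            show y * x * y⁻¹ ∈ _
            rw [hxy]; exact Subgroup.pow_mem _ (Subgroup.mem_zpowers x) 3
          · rw [Nat.card_zpowers, Nat.card_zpowers]
            exact le_of_eq (orderOf_injective _ (MulAut.conj y).injective x).symm
      obtain ⟨R, hR⟩ := hK.exists_le_sylow
      have hfr : IsPGroup 2 f.range := hG.of_surjective f.rangeRestrict f.rangeRestrict_surjective
      obtain ⟨S, hS⟩ := hfr.exists_le_sylow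
      have hScard : Nat.card f.range = Nat.card (S : Subgroup (GL (Fin 2) (ZMod 3))) := by
        have hfc : Nat.card f.range = 16 :=
          (Nat.card_congr (MonoidHom.ofInjective hf).toEquiv).symm.trans h16
        refine le_antisymm (Subgroup.card_le_of_le hS) ?_
        obtain ⟨k, hk⟩ := IsPGroup.iff_card.1 S.2
        have hd := Subgroup.card_subgroup_dvd_card (S : Subgroup (GL (Fin 2) (ZMod 3)))
        rw [hk, Matrix.card_GL_field, ← Nat.card_eq_fintype_card, Nat.card_zmod, show ∏ i : Fin 2, (3 ^ 2 - 3 ^ (i : ℕ)) = 16 * 3 by decide] at hd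
        rw [hk, hfc]
        exact Nat.le_of_dvd (by norm_num) (((Nat.coprime_primes Nat.prime_two Nat.prime_three).2 (by norm_num) |>.pow_left k).dvd_of_dvd_mul_right hd)
      have hrange := Subgroup.eq_of_le_of_card_ge hS hScard.ge
      obtain ⟨x', y', hx', hy', hxy'⟩ := exists_transfer R S f hf hrange
        (hR (Subgroup.mem_sup_right (Subgroup.mem_zpowers x))) (hR (Subgroup.mem_sup_left (Subgroup.mem_zpowers y))) 3 hxy
      exact ⟨3, le_rfl, h16, x', y', hx'.trans hx, hy'.trans hy, hxy'⟩

end Cfsg.Agent.S3370
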