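import Cfsg.Statements.S3380
import Cfsg.Agent.S0519
import Cfsg.Agent.Lib.PGroup.UniqueOrderP
import Cfsg.Agent.Lib.PGroup.Basic

set_option autoImplicit false
open Cfsg

namespace Cfsg.Agent.S3380

variable {G : Type*} [Group G] [Finite G] {p : ℕ} [Fact p.Prime]

theorem exists_normal_abelian (hG : IsPGroup p G) (hnc : ¬ IsCyclic G)
    (hnq : ∀ n : ℕ, ¬ Nonempty (G ≃* QuaternionGroup n))
    (hnd : ∀ n : ℕ, ¬ Nonempty (G ≃* DihedralGroup n)) (hnsd : ¬ Cfsg.IsQuasiDihedral G) :
    ∃ A : Subgroup G, A.Normal ∧ IsMulCommutative A ∧ ¬ IsCyclic A := by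
  by_contra hA
  push Not at hA
  haveI : Nontrivial G := by
    by_contra h
    rw [not_nontrivial_iff_subsingleton] at h
    exact hnc inferInstance
  obtain ⟨z, -, hzc, hz⟩ := PGroup.exists_orderOf_eq_mem_center hG (⊤ : Subgroup G) top_ne_bot
  have hex : ∃ y : G, orderOf y = p ∧ y ∉ Subgroup.zpowers z := by
    by_contra hy
    push Not at hy
    refine (PGroup.cyclic_or_quaternion_of_unique hG fun H K hH hK => ?_).elim hnc
      (fun ⟨_, n, _, _, hn⟩ => hnq _ hn)
    have key : ∀ H : Subgroup G, Nat.card H = p → H = Subgroup.zpowers z := fun H hH => by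
      obtain ⟨y, hy'⟩ := exists_prime_orderOf_dvd_card' (G := H) p (dvd_of_eq hH.symm)
      have h1 : orderOf (y : G) = p := by rw [Subgroup.orderOf_coe, hy']
      have h2 : Subgroup.zpowers (y : G) = H :=
        Subgroup.eq_of_le_of_card_ge (Subgroup.zpowers_le.2 y.2) (by rw [Nat.card_zpowers, h1, hH])
      rw [← h2]
      exact Subgroup.eq_of_le_of_card_ge (Subgroup.zpowers_le.2 (hy _ h1))
        (by rw [Nat.card_zpowers, Nat.card_zpowers, h1, hz])
    rw [key H hH, key K hK]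
  obtain ⟨y, hy, hyz⟩ := hex
  have hcomm : IsMulCommutative (Subgroup.closure ({z, y} : Set G)) := Subgroup.isMulCommutative_closure (by
    rintro a (rfl | rfl) b (rfl | rfl)
    · rfl
    · exact (Subgroup.mem_center_iff.1 hzc _).symm
    · exact Subgroup.mem_center_iff.1 hzc _
    · rfl)
  have hnB : ¬ IsCyclic (Subgroup.closure ({z, y} : Set G)) := by
    intro hc
    refine hyz ?_
    have hzB : z ∈ Subgroup.closure ({z, y} : Set G) := Subgroup.subset_closure (by simp)
    have hyB : y ∈ Subgroup.closure ({z, y} : Set G) := Subgroup.subset_closure (by simp)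
    classical
    letI := Fintype.ofFinite (Subgroup.closure ({z, y} : Set G))
    have h1 : (⟨y, hyB⟩ : Subgroup.closure ({z, y} : Set G)) ∈ Subgroup.zpowers ⟨z, hzB⟩ := by
      by_contra hy1
      have hsub : insert (⟨y, hyB⟩ : Subgroup.closure ({z, y} : Set G))
          (Finset.univ.filter fun a => a ∈ Subgroup.zpowers (⟨z, hzB⟩ : Subgroup.closure ({z, y} : Set G))) ⊆
          Finset.univ.filter fun a => a ^ p = 1 := by
        intro a ha
        rw [Finset.mem_insert, Finset.mem_filter] at ha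
        rw [Finset.mem_filter]
        refine ⟨Finset.mem_univ _, ?_⟩
        rcases ha with rfl | ⟨-, i, rfl⟩
        · exact Subtype.ext (show y ^ p = 1 from hy ▸ pow_orderOf_eq_one y)
        · refine Subtype.ext ?_
          show (z ^ i) ^ p = 1
          rw [← zpow_natCast, ← zpow_mul, mul_comm, zpow_mul, zpow_natCast, ← hz, pow_orderOf_eq_one, one_zpow]
      have h2 := (Finset.card_le_card hsub).trans (IsCyclic.card_pow_eq_one_le (Fact.out : p.Prime).pos)
      rw [Finset.card_insert_of_notMem (by simpa using hy1)] at h2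
      have h3 := Nat.card_zpowers (⟨z, hzB⟩ : Subgroup.closure ({z, y} : Set G))
      rw [Subgroup.orderOf_mk, hz, Nat.card_eq_fintype_card, Fintype.card_subtype] at h3
      omega
    obtain ⟨i, hi⟩ := h1
    exact ⟨i, congrArg Subtype.val hi⟩
  obtain ⟨-, h⟩ := S0519.result p hG hA ⟨_, hcomm, hnB⟩
  rcases h with ⟨n, hn⟩ | ⟨n, -, hn⟩ | h
  exacts [hnq n hn, hnd n hn, hnsd h]

/-- A non-cyclic abelian normal subgroup contains a central `z` and an `e` moved only modulo `⟨z⟩`. -/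
theorem exists_pair (hG : IsPGroup p G) (A : Subgroup G) [A.Normal] (hA : IsMulCommutative A)
    (hnA : ¬ IsCyclic A) :
    ∃ z e : G, z ∈ Subgroup.center G ∧ orderOf z = p ∧ e ^ p = 1 ∧ e ∉ Subgroup.zpowers z ∧
      ∀ g : G, ∃ n : ℕ, g * e * g⁻¹ = e * z ^ n := by
  have hAc : ∀ a ∈ A, ∀ b ∈ A, a * b = b * a := fun a ha b hb =>
    congrArg Subtype.val (hA.is_comm.comm ⟨a, ha⟩ ⟨b, hb⟩)
  obtain ⟨z, hzA, hzc, hz⟩ := PGroup.exists_orderOf_eq_mem_center hG A fun h => hnA (by rw [h]; infer_instance)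
  let E₀ : Subgroup G :=
    { carrier := {a | a ∈ A ∧ a ^ p = 1}
      one_mem' := ⟨one_mem _, one_pow p⟩
      mul_mem' := fun {a b} ha hb => ⟨mul_mem ha.1 hb.1, by
        rw [(show Commute a b from hAc a ha.1 b hb.1).mul_pow, ha.2, hb.2, one_mul]⟩
      inv_mem' := fun {a} ha => ⟨inv_mem ha.1, by rw [inv_pow, ha.2, inv_one]⟩ }
  haveI hE₀ : E₀.Normal := ⟨fun a ha g => ⟨Subgroup.Normal.conj_mem inferInstance a ha.1 g,
    by rw [conj_pow, ha.2, mul_one, mul_inv_cancel]⟩⟩
  haveI hZn : (Subgroup.zpowers z).Normal := ⟨fun a ha g => by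
    obtain ⟨i, rfl⟩ := ha
    rw [Subgroup.mem_center_iff.1 (Subgroup.zpow_mem _ hzc i) g, mul_inv_cancel_right]
    exact ⟨i, rfl⟩⟩
  have hne : E₀.map (QuotientGroup.mk' (Subgroup.zpowers z)) ≠ ⊥ := by
    rw [Ne, Subgroup.map_eq_bot_iff, QuotientGroup.ker_mk']
    intro hle
    refine hnA (PGroup.isCyclic_of_unique_of_isMulCommutative (hG.to_subgroup A) (fun H K hH hK => ?_) hA)
    have key : ∀ H : Subgroup A, Nat.card H = p → H.map A.subtype = Subgroup.zpowers z := fun H hH => by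
      refine Subgroup.eq_of_le_of_card_ge ?_ (by rw [Nat.card_zpowers, hz, Subgroup.card_map_of_injective A.subtype_injective, hH])
      rintro _ ⟨a, ha, rfl⟩
      refine hle ⟨a.2, ?_⟩
      have := congrArg (fun x : H => ((x : A) : G)) (pow_card_eq_one' (x := (⟨a, ha⟩ : H)))
      simpa [hH] using this
    exact Subgroup.map_injective A.subtype_injective ((key H hH).trans (key K hK).symm)
  haveI : (E₀.map (QuotientGroup.mk' (Subgroup.zpowers z))).Normal := hE₀.map _ (QuotientGroup.mk'_surjective _)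
  obtain ⟨⟨ē, hē⟩, hne'⟩ := Subgroup.ne_bot_iff_exists_ne_one.1
    (PGroup.inf_center_ne_bot (hG.to_quotient (Subgroup.zpowers z)) _ hne)
  obtain ⟨e, he, rfl⟩ := hē.1
  refine ⟨z, e, hzc, hz, he.2, fun h => hne' (Subtype.ext ((QuotientGroup.eq_one_iff e).2 h)), fun g => ?_⟩
  have h1 : QuotientGroup.mk' (Subgroup.zpowers z) g * QuotientGroup.mk' _ e = QuotientGroup.mk' _ e * QuotientGroup.mk' _ g :=
    Subgroup.mem_center_iff.1 hē.2 _
  have h2 : e⁻¹ * (g * e * g⁻¹) ∈ Subgroup.zpowers z := by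
    rw [← QuotientGroup.eq_one_iff, QuotientGroup.mk_mul, QuotientGroup.mk_mul, QuotientGroup.mk_mul,
      QuotientGroup.mk_inv, QuotientGroup.mk_inv]
    show (QuotientGroup.mk' (Subgroup.zpowers z) e)⁻¹ * (QuotientGroup.mk' _ g * QuotientGroup.mk' _ e * (QuotientGroup.mk' _ g)⁻¹) = 1
    rw [h1, mul_inv_cancel_right, inv_mul_cancel]
  obtain ⟨n, hn⟩ := (Submonoid.mem_powers_iff _ _).1 ((isOfFinOrder_of_finite z).mem_powers_iff_mem_zpowers.2 h2)
  exact ⟨n, by rw [hn, mul_inv_cancel_left]⟩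

section Decomp

variable {q : ℕ} [Fact q.Prime] {V : Type*} [AddCommGroup V] [Module (ZMod q) V]
  (ρ : G →* (V ≃ₗ[ZMod q] V))

/-- Powers with exponent in `ZMod p`. -/
def pw (z : G) (c : ZMod p) : G := z ^ c.val

theorem pw_add {z : G} (hz : z ^ p = 1) (a b : ZMod p) : pw z (a + b) = pw z a * pw z b := by
  rw [pw, pw, pw, ← pow_add, ZMod.val_add]
  exact (pow_eq_pow_mod _ hz).symm

theorem pw_natCast {z : G} (hz : z ^ p = 1) (n : ℕ) : pw z (n : ZMod p) = z ^ n := by
  rw [pw, ZMod.val_natCast]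
  exact (pow_eq_pow_mod _ hz).symm

/-- The fixed space of `a`. -/
def fx (a : G) : Submodule (ZMod q) V := LinearMap.ker ((ρ a : V →ₗ[ZMod q] V) - LinearMap.id)

theorem mem_fx {a : G} {v : V} : v ∈ fx ρ a ↔ ρ a v = v := by
  simp [fx, sub_eq_zero]

theorem mul_app (a b : G) (v : V) : ρ (a * b) v = ρ a (ρ b v) := by rw [map_mul]; rfl

theorem conj_fx {g a b : G} (h : g * a * g⁻¹ = b) {v : V} (hv : v ∈ fx ρ a) : ρ g v ∈ fx ρ b := by
  rw [mem_fx] at hv ⊢
  rw [← mul_app, ← h, inv_mul_cancel_right, mul_app, hv]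

/-- The projection onto the fixed space of `e * pw z c`, up to the factor `p`. -/
noncomputable def pr (e z : G) (c : ZMod p) : V →ₗ[ZMod q] V :=
  ∑ k : ZMod p, (ρ (pw e k * pw z (k * c)) : V →ₗ[ZMod q] V)

theorem pr_apply (e z : G) (c : ZMod p) (v : V) : pr ρ e z c v = ∑ k : ZMod p, ρ (pw e k * pw z (k * c)) v := by
  simp [pr, LinearMap.sum_apply]

variable {ρ}
variable {e z : G}

theorem pr_mem (he : e ^ p = 1) (hz : z ^ p = 1) (hez : Commute e z) (c : ZMod p) (v : V) :
    pr ρ e z c v ∈ fx ρ (e * pw z c) := by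
  rw [mem_fx, pr_apply, map_sum]
  refine Fintype.sum_equiv (Equiv.addRight (1 : ZMod p)) _ _ fun k => ?_
  rw [← mul_app, Equiv.coe_addRight, add_mul, one_mul, pw_add he, pw_add hz]
  have h1 : pw e (1 : ZMod p) = e := by rw [← Nat.cast_one, pw_natCast he, pow_one]
  rw [h1]
  have hc : Commute (pw e k) e := (Commute.refl e).pow_left _
  have hc2 : Commute (pw z c) (pw e k) := (hez.symm.pow_pow _ _)
  have hc3 : Commute (pw z c) (pw z (k * c)) := (Commute.refl z).pow_pow _ _
  congr 2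
  calc e * pw z c * (pw e k * pw z (k * c)) = e * (pw z c * pw e k) * pw z (k * c) := by group
    _ = (e * pw e k) * (pw z c * pw z (k * c)) := by rw [hc2.eq]; group
    _ = _ := by rw [← hc.eq, hc3.eq]

theorem sum_pw_eq_zero (hz : z ^ p = 1) (hfz : fx ρ z = ⊥) (v : V) : ∑ c : ZMod p, ρ (pw z c) v = 0 := by
  rw [← Submodule.mem_bot (ZMod q), ← hfz, mem_fx, map_sum]
  refine Fintype.sum_equiv (Equiv.addRight (1 : ZMod p)) _ _ fun c => ?_
  rw [← mul_app, Equiv.coe_addRight]
  dsimp only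
  rw [add_comm c 1, pw_add hz]
  congr 3
  rw [← Nat.cast_one, pw_natCast hz, pow_one]

theorem pr_sum (hz : z ^ p = 1) (hfz : fx ρ z = ⊥) (v : V) : ∑ c : ZMod p, pr ρ e z c v = p • v := by
  classical
  simp only [pr_apply, mul_app]
  rw [Finset.sum_comm, Finset.sum_eq_single (0 : ZMod p)]
  · simp [pw]
  · intro k _ hk
    rw [← map_sum, Fintype.sum_equiv (Equiv.mulLeft₀ k hk) (fun c => ρ (pw z (k * c)) v) (fun c => ρ (pw z c) v) fun c => rfl,
      sum_pw_eq_zero hz hfz, map_zero]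
  · simp

theorem pr_fx (he : e ^ p = 1) (hz : z ^ p = 1) (hez : Commute e z) (hfz : fx ρ z = ⊥) {i j : ZMod p}
    {w : V} (hw : w ∈ fx ρ (e * pw z i)) : pr ρ e z j w = if i = j then p • w else 0 := by
  have hk : ∀ k : ZMod p, ρ (pw e k * pw z (k * i)) w = w := by
    intro k
    have h1 : pw z (k * i) = (pw z i) ^ k.val := by
      rw [pw, pw, ← pow_mul, mul_comm i.val, ZMod.val_mul]
      exact (pow_eq_pow_mod _ hz).symm
    rw [h1]
    show ρ (e ^ k.val * pw z i ^ k.val) w = w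
    rw [← Commute.mul_pow (show Commute e (pw z i) from hez.pow_right _)]
    induction k.val with
    | zero => simp
    | succ n ih => rw [pow_succ, mul_app, (mem_fx ρ).1 hw, ih]
  have hd : ∀ k : ZMod p, ρ (pw e k * pw z (k * j)) w = ρ (pw z (k * (j - i))) w := by
    intro k
    conv_rhs => rw [← hk k]
    rw [← mul_app]
    congr 2
    have hce : Commute (pw z (k * (j - i))) (pw e k) := hez.symm.pow_pow _ _
    rw [← mul_assoc, hce.eq, mul_assoc, ← pw_add hz]
    congr 2
    ring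
  rw [pr_apply, Finset.sum_congr rfl fun k _ => hd k]
  split_ifs with h
  · simp [h, pw]
  · rw [← sum_pw_eq_zero hz hfz w]
    exact Fintype.sum_equiv (Equiv.mulRight₀ (j - i) (sub_ne_zero.2 (Ne.symm h))) _ _ fun c => rfl

theorem iSup_eq_top (he : e ^ p = 1) (hz : z ^ p = 1) (hez : Commute e z) (hfz : fx ρ z = ⊥)
    (hp : (p : ZMod q) ≠ 0) : ⨆ c : ZMod p, fx ρ (e * pw z c) = ⊤ := by
  rw [Submodule.eq_top_iff']
  intro v
  have h : p • v ∈ ⨆ c : ZMod p, fx ρ (e * pw z c) := by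
    rw [← pr_sum (e := e) hz hfz v]
    exact Submodule.sum_mem _ fun c _ => Submodule.mem_iSup_of_mem c (pr_mem he hz hez c v)
  rw [← Nat.cast_smul_eq_nsmul (ZMod q)] at h
  have := Submodule.smul_mem _ (p : ZMod q)⁻¹ h
  rwa [smul_smul, inv_mul_cancel₀ hp, one_smul] at this

theorem iSupIndep_fx (he : e ^ p = 1) (hz : z ^ p = 1) (hez : Commute e z) (hfz : fx ρ z = ⊥)
    (hp : (p : ZMod q) ≠ 0) : iSupIndep fun c : ZMod p => fx ρ (e * pw z c) := by
  rw [iSupIndep_def]
  intro i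
  rw [Submodule.disjoint_def]
  intro x hx hx'
  have h0 : (⨆ (j : ZMod p) (_ : j ≠ i), fx ρ (e * pw z j)) ≤ LinearMap.ker (pr ρ e z i) :=
    iSup₂_le fun j hj w hw => by rw [LinearMap.mem_ker, pr_fx he hz hez hfz hw, if_neg hj]
  have h := LinearMap.mem_ker.1 (h0 hx')
  rw [pr_fx he hz hez hfz hx, if_pos rfl, ← Nat.cast_smul_eq_nsmul (ZMod q)] at h
  exact (smul_eq_zero.1 h).resolve_left hp

end Decomp

/-- Let a finite p-group G act faithfully and irreducibly on a non-trivial finite vector space V over the field with q elements (q prime), and suppose G is not cyclic, generalized quaternion, dihedral or semidihedral. Then G has a subgroup H of index p and V is the direct sum of p subspaces, each invariant under H, on none of which H acts faithfully, and which every element of G outside H permutes in a single p-cycle. -/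
theorem result
    (q : ℕ) [Fact q.Prime] {V : Type*} [AddCommGroup V] [Module (ZMod q) V] [Finite V] [Nontrivial V]
    {G : Type*} [Group G] [Finite G] (p : ℕ) [Fact p.Prime] (hG : IsPGroup p G)
    (ρ : G →* (V ≃ₗ[ZMod q] V)) (hρ : Function.Injective ρ)
    (hirr : ∀ W : Submodule (ZMod q) V, (∀ g : G, ∀ w ∈ W, ρ g w ∈ W) → W = ⊥ ∨ W = ⊤)
    (hnc : ¬ IsCyclic G) (hnq : ∀ n : ℕ, ¬ Nonempty (G ≃* QuaternionGroup n))
    (hnd : ∀ n : ℕ, ¬ Nonempty (G ≃* DihedralGroup n)) (hnsd : ¬ Cfsg.IsQuasiDihedral G) :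
    ∃ (H : Subgroup G) (W : Fin p → Submodule (ZMod q) V), H.index = p ∧
      iSup W = ⊤ ∧ iSupIndep W ∧
      (∀ h ∈ H, ∀ i, ∀ w ∈ W i, ρ h w ∈ W i) ∧
      (∀ i, ∃ h ∈ H, h ≠ 1 ∧ ∀ w ∈ W i, ρ h w = w) ∧
      ∀ g : G, g ∉ H → ∃ σ : Equiv.Perm (Fin p), orderOf σ = p ∧ ∀ i, (W i).map (ρ g : V →ₗ[ZMod q] V) = W (σ i) := by
  obtain ⟨A, hAn, hAc, hAnc⟩ := exists_normal_abelian hG hnc hnq hnd hnsd
  obtain ⟨z, e, hzc, hz, he, hez', hconj⟩ := exists_pair hG A hAc hAnc
  have hp : p.Prime := Fact.out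
  have hzp : z ^ p = 1 := hz ▸ pow_orderOf_eq_one z
  have hez : Commute e z := Subgroup.mem_center_iff.1 hzc e
  have hfaith : ∀ a : G, (∀ v, ρ a v = v) → a = 1 := fun a h => hρ (by rw [map_one]; exact LinearEquiv.ext h)
  have hfix : ∀ a : G, a ∈ Subgroup.center G → a ≠ 1 → fx ρ a = ⊥ := by
    intro a ha ha1
    refine (hirr (fx ρ a) fun g w hw => conj_fx ρ ?_ hw).resolve_right fun h => ha1 (hfaith a fun v => (mem_fx ρ).1 (h ▸ Submodule.mem_top))
    rw [Subgroup.mem_center_iff.1 ha g, mul_inv_cancel_right]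
  have hfz : fx ρ z = ⊥ := hfix z hzc fun h => hp.ne_one (by rw [← hz, h, orderOf_one])
  have hpq : (p : ZMod q) ≠ 0 := by
    intro h
    rw [ZMod.natCast_eq_zero_iff, Nat.prime_dvd_prime_iff_eq Fact.out hp] at h
    subst h
    letI : MulAction G V := MulAction.compHom V ρ
    have hd : q ∣ Nat.card V := by
      obtain ⟨v, hv⟩ := exists_ne (0 : V)
      have h1 : q • v = 0 := by rw [← Nat.cast_smul_eq_nsmul (ZMod q), ZMod.natCast_self, zero_smul]
      exact addOrderOf_eq_prime h1 hv ▸ addOrderOf_dvd_natCard v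
    obtain ⟨b, hb, hb0⟩ := hG.exists_fixed_point_of_prime_dvd_card_of_fixed_point V hd (a := (0 : V))
      (fun g => map_zero (ρ g))
    have : b ∈ fx ρ z := (mem_fx ρ).2 (hb z)
    rw [hfz, Submodule.mem_bot] at this
    exact hb0 this.symm
  have hone : ∀ c : ZMod p, e * pw z c ≠ 1 := fun c h => hez' (by
    rw [eq_inv_of_mul_eq_one_left h]
    exact inv_mem (pow_mem (Subgroup.mem_zpowers z) _))
  have hnce : ∃ g, g * e * g⁻¹ ≠ e := by
    by_contra hh
    push Not at hh
    have hec : e ∈ Subgroup.center G := Subgroup.mem_center_iff.2 fun g => mul_inv_eq_iff_eq_mul.1 (hh g)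
    have h0 : ∀ c : ZMod p, fx ρ (e * pw z c) = ⊥ := fun c =>
      hfix _ (mul_mem hec (pow_mem hzc _)) (hone c)
    have := iSup_eq_top he hzp hez hfz hpq
    simp only [h0, iSup_bot] at this
    exact bot_ne_top this
  choose n hn using hconj
  have huniq : ∀ a b : ZMod p, pw z a = pw z b → a = b := fun a b h =>
    ZMod.val_injective p (pow_injOn_Iio_orderOf (x := z) (by rw [hz]; exact ZMod.val_lt a) (by rw [hz]; exact ZMod.val_lt b) h)
  have hn' : ∀ g, g * e * g⁻¹ = e * pw z (n g : ZMod p) := fun g => by rw [pw_natCast hzp, hn g]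
  let φ : G →* Multiplicative (ZMod p) := MonoidHom.mk' (fun g => Multiplicative.ofAdd (n g : ZMod p)) fun g h => by
    rw [← ofAdd_add]
    congr 1
    refine huniq _ _ (mul_left_cancel (a := e) ?_)
    rw [← hn', pw_add hzp, ← mul_assoc, ← hn']
    have hc : h * e * h⁻¹ = e * pw z (n h : ZMod p) := hn' h
    have hcz : g * pw z (n h : ZMod p) * g⁻¹ = pw z (n h : ZMod p) := by
      have hm : pw z (n h : ZMod p) ∈ Subgroup.center G := pow_mem hzc _
      rw [Subgroup.mem_center_iff.1 hm g, mul_inv_cancel_right]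
    calc g * h * e * (g * h)⁻¹ = g * (h * e * h⁻¹) * g⁻¹ := by group
      _ = g * e * g⁻¹ * (g * pw z (n h : ZMod p) * g⁻¹) := by rw [hc]; group
      _ = _ := by rw [hcz]
  have hker : ∀ g, g ∈ φ.ker ↔ g * e * g⁻¹ = e := by
    intro g
    rw [MonoidHom.mem_ker, hn']
    show Multiplicative.ofAdd (n g : ZMod p) = 1 ↔ _
    rw [ofAdd_eq_one]
    constructor
    · intro h; rw [h]; simp [pw]
    · intro h
      refine huniq _ _ ?_
      have h0 : pw z (0 : ZMod p) = 1 := by simp [pw]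
      rw [h0, ← mul_left_cancel_iff (a := e), h, mul_one]
  have hidx : φ.ker.index = p := by
    rw [Subgroup.index_ker]
    obtain ⟨g, hg⟩ := hnce
    have h1 : Nat.card φ.range ∣ p := by
      have := φ.range.card_subgroup_dvd_card
      rwa [show Nat.card (Multiplicative (ZMod p)) = p from (Nat.card_congr Multiplicative.toAdd).trans (Nat.card_zmod p)] at this
    refine ((Nat.dvd_prime hp).1 h1).resolve_left fun h => hg ((hker g).1 ?_)
    rw [MonoidHom.mem_ker, ← Subgroup.mem_bot, ← Subgroup.card_eq_one.1 h]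
    exact ⟨g, rfl⟩
  have hshift : ∀ g (c : ZMod p), g * (e * pw z c) * g⁻¹ = e * pw z (c + (n g : ZMod p)) := by
    intro g c
    have hcz : g * pw z c * g⁻¹ = pw z c := by
      have hm : pw z c ∈ Subgroup.center G := pow_mem hzc _
      rw [Subgroup.mem_center_iff.1 hm g, mul_inv_cancel_right]
    rw [add_comm, pw_add hzp, ← mul_assoc e, ← hn']
    calc g * (e * pw z c) * g⁻¹ = g * e * g⁻¹ * (g * pw z c * g⁻¹) := by group
      _ = _ := by rw [hcz]
  have hcomm : ∀ (c : ZMod p), e * pw z c ∈ φ.ker := fun c => (hker _).2 (by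
    have h1 : Commute (e * pw z c) e := ((Commute.refl e).mul_left (hez.symm.pow_left _))
    rw [h1.eq, mul_inv_cancel_right])
  let ε : Fin p ≃ ZMod p := (ZMod.finEquiv p).toEquiv
  refine ⟨φ.ker, fun i => fx ρ (e * pw z (ε i)), hidx, ?_, ?_, ?_, ?_, ?_⟩
  · rw [Equiv.iSup_comp (g := fun c => fx ρ (e * pw z c)) ε]
    exact iSup_eq_top he hzp hez hfz hpq
  · exact (iSupIndep_fx he hzp hez hfz hpq).comp ε.injective
  · intro h hh i w hw
    refine conj_fx ρ ?_ hw
    have : (n h : ZMod p) = 0 := ofAdd_eq_one.1 (MonoidHom.mem_ker.1 hh)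
    rw [hshift, this, add_zero]
  · exact fun i => ⟨_, hcomm (ε i), hone (ε i), fun w hw => (mem_fx ρ).1 hw⟩
  · intro g hg
    have hc : (n g : ZMod p) ≠ 0 := fun h => hg (MonoidHom.mem_ker.2 (by
      show Multiplicative.ofAdd (n g : ZMod p) = 1
      rw [h]; rfl))
    let σ : Equiv.Perm (Fin p) := (ε.trans (Equiv.addRight (n g : ZMod p))).trans ε.symm
    refine ⟨σ, orderOf_eq_prime ?_ ?_, fun i => le_antisymm ?_ ?_⟩
    · have : ∀ m : ℕ, ∀ i, (σ ^ m) i = ε.symm (ε i + m • (n g : ZMod p)) := by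
        intro m
        induction m with
        | zero => simp
        | succ m ih =>
          intro i
          rw [pow_succ', Equiv.Perm.mul_apply, ih]
          simp [σ, add_assoc, add_mul]
      ext i
      simp [this]
    · intro h
      have := congrArg ε (Equiv.Perm.ext_iff.1 h (ε.symm 0))
      simp [σ] at this
      exact hc this
    · rintro _ ⟨w, hw, rfl⟩
      refine conj_fx ρ ?_ hw
      simp [σ, hshift]
    · intro w hw
      refine ⟨ρ g⁻¹ w, conj_fx ρ ?_ hw, ?_⟩
      · have := hshift g (ε i)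
        simp only [σ, Equiv.trans_apply, Equiv.apply_symm_apply, Equiv.coe_addRight]
        rw [← this]; group
      · show ρ g (ρ g⁻¹ w) = w
        rw [← mul_app, mul_inv_cancel, map_one]; rfl

end Cfsg.Agent.S3380
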