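import Cfsg.Statements.S3371
import Cfsg.Agent.S3356
import Cfsg.Agent.S3380
import Cfsg.Agent.Lib.Frobenius.FixedPointFree
import Cfsg.Agent.Lib.PGroup.UniqueOrderP

set_option autoImplicit false
open Cfsg

namespace Cfsg.Agent.S3371

section Arith

theorem eq_one_of_pow_add_one {q e j : ℕ} (hq : 2 ≤ q) (hqo : Odd q) (he : 1 ≤ e) (h : q ^ e + 1 = 2 ^ j) :
    e = 1 := by
  have hqe : 2 ≤ q ^ e := hq.trans (Nat.le_self_pow (by omega) q)
  have hj : 2 ≤ j := by
    by_contra hlt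
    interval_cases j <;> omega
  rcases Nat.even_or_odd e with ⟨l, rfl⟩ | ⟨l, rfl⟩
  · exfalso
    have h4 : ((q ^ (l + l) + 1 : ℕ) : ZMod 4) = 0 := by
      rw [ZMod.natCast_eq_zero_iff, h]
      exact (show 2 ^ 2 ∣ 2 ^ j from pow_dvd_pow 2 hj)
    obtain ⟨s, rfl⟩ := hqo
    have hsq : (((2 * s + 1 : ℕ) : ZMod 4)) ^ 2 = 1 := by
      push_cast
      generalize (s : ZMod 4) = a
      revert a; decide
    rw [← two_mul, Nat.cast_add, Nat.cast_pow, pow_mul, hsq, one_pow, Nat.cast_one] at h4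
    exact absurd h4 (by decide)
  · have hd : q + 1 ∣ 2 ^ j := by
      rw [← h]
      have := Odd.nat_add_dvd_pow_add_pow q 1 (show Odd (2 * l + 1) from ⟨l, rfl⟩)
      simpa using this
    obtain ⟨i, -, hi⟩ := (Nat.dvd_prime_pow Nat.prime_two).1 hd
    have hi1 : 1 ≤ i := by
      by_contra hlt
      interval_cases i
      omega
    have h2 : (2 : ZMod (2 ^ (i + 1))) ^ (i + 1) = 0 := by
      have := ZMod.natCast_self (2 ^ (i + 1))
      push_cast at this
      exact this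
    have hqz : (q : ZMod (2 ^ (i + 1))) = 2 ^ i - 1 := by
      have := congrArg (Nat.cast (R := ZMod (2 ^ (i + 1)))) hi
      push_cast at this
      linear_combination this
    have hsq : (q : ZMod (2 ^ (i + 1))) ^ 2 = 1 := by
      have h3 : ((2 : ZMod (2 ^ (i + 1))) ^ i) ^ 2 = 0 := by
        rw [← pow_mul, show i * 2 = (i + 1) + (i - 1) by omega, pow_add (2 : ZMod (2 ^ (i + 1))) (i + 1) (i - 1), h2, zero_mul]
      rw [pow_succ (2 : ZMod (2 ^ (i + 1))) i] at h2
      rw [hqz]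
      linear_combination h3 - h2
    have hji : j ≤ i := by
      by_contra hlt
      have h5 : ((q ^ (2 * l + 1) + 1 : ℕ) : ZMod (2 ^ (i + 1))) = 0 := by
        rw [ZMod.natCast_eq_zero_iff, h]
        exact pow_dvd_pow 2 (by omega)
      rw [Nat.cast_add, Nat.cast_pow, pow_succ (q : ZMod (2 ^ (i + 1))) (2 * l), pow_mul (q : ZMod (2 ^ (i + 1))) 2 l, hsq, one_pow, one_mul, ← Nat.cast_add, hi,
        ZMod.natCast_eq_zero_iff] at h5
      exact absurd (Nat.le_of_dvd (by positivity) h5) (not_le.2 (Nat.pow_lt_pow_right (by norm_num) (by omega)))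
    have h6 := Nat.pow_le_pow_right (show 0 < 2 by norm_num) hji
    by_contra hl
    have h7 : q ^ 1 < q ^ (2 * l + 1) := Nat.pow_lt_pow_right (by omega) (by omega)
    rw [pow_one] at h7
    omega

theorem of_pow_eq_add_one {q d j : ℕ} (hq : 3 ≤ q) (hd : 1 ≤ d) (h : q ^ d = 2 ^ j + 1) :
    d = 1 ∨ (q = 3 ∧ d = 2) := by
  rcases Nat.even_or_odd d with ⟨l, rfl⟩ | ⟨l, rfl⟩
  · right
    have hl : 1 ≤ l := by omega
    set x := q ^ l with hx
    have hx3 : 3 ≤ x := hq.trans (Nat.le_self_pow (by omega) q)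
    have hxx : x * x = 2 ^ j + 1 := by rw [hx, ← pow_add, h]
    obtain ⟨y, hy⟩ : ∃ y, x = y + 1 := ⟨x - 1, by omega⟩
    have hprod : y * (y + 2) = 2 ^ j := by rw [hy] at hxx; nlinarith
    obtain ⟨a, -, ha⟩ := (Nat.dvd_prime_pow Nat.prime_two).1 (Dvd.intro _ hprod)
    obtain ⟨b, -, hb⟩ := (Nat.dvd_prime_pow Nat.prime_two).1 (Dvd.intro_left _ hprod)
    have hy2 : y = 2 := by
      rcases Nat.lt_or_ge a 2 with ha2 | ha2
      · interval_cases a <;> omega
      · have hb2 : 2 ≤ b := by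
          by_contra hlt
          interval_cases b <;> omega
        have h1 : 4 ∣ y := ha ▸ (show 2 ^ 2 ∣ 2 ^ a from pow_dvd_pow 2 ha2)
        have h2 : 4 ∣ y + 2 := hb ▸ (show 2 ^ 2 ∣ 2 ^ b from pow_dvd_pow 2 hb2)
        omega
    have hl1 : l = 1 := by
      by_contra hne
      have : q ^ 2 ≤ x := Nat.pow_le_pow_right (by omega) (by omega)
      nlinarith
    subst hl1
    rw [hx, pow_one] at hy
    exact ⟨by omega, rfl⟩
  · left
    have hd' : q - 1 ∣ 2 ^ j := by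
      have := Nat.sub_dvd_pow_sub_pow q 1 (2 * l + 1)
      rw [one_pow, h, Nat.add_sub_cancel] at this
      exact this
    obtain ⟨i, -, hi⟩ := (Nat.dvd_prime_pow Nat.prime_two).1 hd'
    have hi1 : 1 ≤ i := by
      by_contra hlt
      interval_cases i
      omega
    have hqi : q = 2 ^ i + 1 := by omega
    have h2 : (2 : ZMod (2 ^ (i + 1))) ^ (i + 1) = 0 := by
      have := ZMod.natCast_self (2 ^ (i + 1))
      push_cast at this
      exact this
    have hsq : (q : ZMod (2 ^ (i + 1))) ^ 2 = 1 := by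
      have h3 : ((2 : ZMod (2 ^ (i + 1))) ^ i) ^ 2 = 0 := by
        rw [← pow_mul, show i * 2 = (i + 1) + (i - 1) by omega, pow_add (2 : ZMod (2 ^ (i + 1))) (i + 1) (i - 1), h2, zero_mul]
      rw [pow_succ (2 : ZMod (2 ^ (i + 1))) i] at h2
      rw [hqi]
      push_cast
      linear_combination h3 + h2
    have hji : j ≤ i := by
      by_contra hlt
      have h5 : ((2 ^ j + 1 : ℕ) : ZMod (2 ^ (i + 1))) = 1 := by
        rw [Nat.cast_add, Nat.cast_one, show ((2 ^ j : ℕ) : ZMod (2 ^ (i + 1))) = 0 from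
          (ZMod.natCast_eq_zero_iff _ _).2 (pow_dvd_pow 2 (by omega)), zero_add]
      rw [← h, Nat.cast_pow, pow_succ (q : ZMod (2 ^ (i + 1))) (2 * l), pow_mul (q : ZMod (2 ^ (i + 1))) 2 l, hsq, one_pow, one_mul, hqi, Nat.cast_add, Nat.cast_one,
        add_eq_right, ZMod.natCast_eq_zero_iff] at h5
      exact absurd (Nat.le_of_dvd (by positivity) h5) (not_le.2 (Nat.pow_lt_pow_right (by norm_num) (by omega)))
    have h6 := Nat.pow_le_pow_right (show 0 < 2 by norm_num) hji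
    by_contra hl
    have h7 : q ^ 1 < q ^ (2 * l + 1) := Nat.pow_lt_pow_right (by omega) (by omega)
    rw [pow_one] at h7
    omega

end Arith

section Linear

variable {q : ℕ} [Fact q.Prime] {V : Type*} [AddCommGroup V] [Module (ZMod q) V]
  {G : Type*} [Group G] (ρ : G →* (V ≃ₗ[ZMod q] V))

/-- The stabilizer of a vector. -/
def stab (v : V) : Subgroup G where
  carrier := {g | ρ g v = v}
  one_mem' := by show ρ 1 v = v; rw [map_one]; rfl
  mul_mem' := fun {a b} ha hb => by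
    show ρ (a * b) v = v
    rw [map_mul]
    show ρ a (ρ b v) = v
    rw [show ρ b v = v from hb, show ρ a v = v from ha]
  inv_mem' := fun {a} ha => by
    show ρ a⁻¹ v = v
    conv_lhs => rw [← show ρ a v = v from ha]
    show (ρ a⁻¹ * ρ a) v = v
    rw [← map_mul, inv_mul_cancel, map_one]; rfl

theorem mem_stab {g : G} {v : V} : g ∈ stab ρ v ↔ ρ g v = v := Iff.rfl

theorem mul_app (a b : G) (v : V) : ρ (a * b) v = ρ a (ρ b v) := by rw [map_mul]; rfl

theorem inv_app (a : G) (v : V) : ρ a⁻¹ (ρ a v) = v := by rw [← mul_app, inv_mul_cancel, map_one]; rfl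

theorem app_inv (a : G) (v : V) : ρ a (ρ a⁻¹ v) = v := by rw [← mul_app, mul_inv_cancel, map_one]; rfl

theorem eq_one_of_forall (hρ : Function.Injective ρ) {g : G} (h : ∀ v, ρ g v = v) : g = 1 :=
  hρ (by rw [map_one]; exact LinearEquiv.ext h)

theorem stab_card [Finite G]
    (hhalf : ∀ v w : V, v ≠ 0 → w ≠ 0 → Nat.card {u : V | ∃ g : G, ρ g v = u} = Nat.card {u : V | ∃ g : G, ρ g w = u})
    {v w : V} (hv : v ≠ 0) (hw : w ≠ 0) : Nat.card (stab ρ v) = Nat.card (stab ρ w) := by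
  letI : MulAction G V :=
    { smul := fun g x => ρ g x
      one_smul := fun x => by show ρ 1 x = x; rw [map_one]; rfl
      mul_smul := fun a b x => mul_app ρ a b x }
  have key : ∀ x : V, Nat.card {u : V | ∃ g : G, ρ g x = u} * Nat.card (stab ρ x) = Nat.card G := fun x => by
    rw [← Nat.card_prod, ← Nat.card_congr (MulAction.orbitProdStabilizerEquivGroup G x)]
    exact Nat.card_congr (Equiv.prodCongr (Equiv.setCongr (Set.ext fun u => Iff.rfl))
      (MulEquiv.subgroupCongr (Subgroup.ext fun g => Iff.rfl)).toEquiv)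
  have h1 := key v
  have h2 := key w
  rw [hhalf v w hv hw] at h1
  refine Nat.eq_of_mul_eq_mul_left (Nat.pos_of_ne_zero fun h0 => ?_) (h1.trans h2.symm)
  rw [h0, zero_mul] at h2
  exact Nat.card_pos.ne' h2.symm

/-- The set of vectors fixed by an element. -/
def fix (g : G) : Submodule (ZMod q) V where
  carrier := {v | ρ g v = v}
  add_mem' := fun {a b} ha hb => by
    show ρ g (a + b) = a + b
    rw [map_add, show ρ g a = a from ha, show ρ g b = b from hb]
  zero_mem' := map_zero _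
  smul_mem' := fun t {a} ha => by
    show ρ g (t • a) = t • a
    rw [map_smul, show ρ g a = a from ha]

variable {ρ}

theorem central_eq_one (hρ : Function.Injective ρ)
    (hirr : ∀ W : Submodule (ZMod q) V, (∀ g : G, ∀ w ∈ W, ρ g w ∈ W) → W = ⊥ ∨ W = ⊤)
    {z : G} (hz : z ∈ Subgroup.center G) {v : V} (hv : v ≠ 0) (h : ρ z v = v) : z = 1 := by
  refine eq_one_of_forall ρ hρ fun w => ?_
  have := (hirr (fix ρ z) fun g x hx => by
    show ρ z (ρ g x) = ρ g x
    rw [← mul_app, ← Subgroup.mem_center_iff.1 hz g, mul_app, show ρ z x = x from hx]).resolve_left fun e => hv (by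
      have : v ∈ (⊥ : Submodule (ZMod q) V) := e ▸ h
      exact (Submodule.mem_bot _).1 this)
  have hw : w ∈ fix ρ z := this ▸ Submodule.mem_top
  exact hw

theorem reflection_count [Finite V] [Nontrivial V] [Finite G] (hρ : Function.Injective ρ)
    (hirr : ∀ W : Submodule (ZMod q) V, (∀ g : G, ∀ w ∈ W, ρ g w ∈ W) → W = ⊥ ∨ W = ⊤) (hq2 : q ≠ 2)
    (hG : IsPGroup 2 G) {c : ℕ} (hc : ∀ v : V, v ≠ 0 → Nat.card (stab ρ v) = c) (hc1 : c ≠ 1)
    (A : Subgroup G) [IsCyclic A] (hA : A.index = 2) (a : G) (ha : a ∈ A) (ha4 : orderOf a = 4)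
    (hinv : ∀ g, g ∉ A → g ^ 2 = 1 → g * a * g⁻¹ = a⁻¹) (hz : a ^ 2 ∈ Subgroup.center G) :
    ∃ f, 2 ≤ f ∧ f * f = Nat.card V ∧ f + 1 = Nat.card {g : G | g ∉ A ∧ g ^ 2 = 1} := by
  classical
  set z := a ^ 2 with hzdef
  have hz1 : z ≠ 1 := fun h => by
    have := orderOf_dvd_of_pow_eq_one h
    rw [ha4] at this
    norm_num at this
  have hz2 : z ^ 2 = 1 := by rw [hzdef, ← pow_mul, show 2 * 2 = orderOf a by rw [ha4], pow_orderOf_eq_one]
  have hzneg : ∀ v, ρ z v = -v := by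
    intro v
    by_contra hne
    refine hz1 (central_eq_one hρ hirr hz (v := ρ z v + v) (fun h => hne (eq_neg_of_add_eq_zero_left h)) ?_)
    rw [map_add, ← mul_app, ← sq, hz2, map_one, add_comm]
    rfl
  have h2F : (2 : ZMod q) ≠ 0 := by
    rw [show (2 : ZMod q) = ((2 : ℕ) : ZMod q) from rfl, Ne, ZMod.natCast_eq_zero_iff]
    exact fun h => hq2 ((Nat.prime_dvd_prime_iff_eq Fact.out Nat.prime_two).1 h)
  have hneg0 : ∀ v : V, -v = v → v = 0 := by
    intro v hv
    have : (2 : ZMod q) • v = 0 := by rw [two_smul]; nth_rewrite 1 [← hv]; exact neg_add_cancel v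
    exact (smul_eq_zero.1 this).resolve_left h2F
  have hzA : z ∈ A := pow_mem ha 2
  have hAfree : ∀ g ∈ A, ∀ v : V, v ≠ 0 → ρ g v = v → g = 1 := by
    intro g hg v hv hgv
    by_contra hg1
    obtain ⟨k, hk⟩ := (IsPGroup.iff_orderOf.1 hG) g
    rcases k with _ | k
    · rw [pow_zero, orderOf_eq_one_iff] at hk; exact hg1 hk
    set y := g ^ 2 ^ k with hy
    have hy2 : orderOf y = 2 := by
      rw [hy, orderOf_pow_of_dvd (by positivity) (by rw [hk, pow_succ]; exact dvd_mul_right _ _), hk, pow_succ,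
        Nat.mul_div_cancel_left _ (by positivity)]
    have hz' : orderOf z = 2 := orderOf_eq_prime hz2 hz1
    have hyz : y = z := by
      letI := Fintype.ofFinite A
      by_contra hne
      have hsub : ({1, ⟨z, hzA⟩, ⟨y, pow_mem hg _⟩} : Finset A) ⊆ Finset.univ.filter fun b => b ^ 2 = 1 := by
        intro b hb
        rw [Finset.mem_filter]
        refine ⟨Finset.mem_univ _, ?_⟩
        simp only [Finset.mem_insert, Finset.mem_singleton] at hb
        rcases hb with rfl | rfl | rfl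
        · exact one_pow 2
        · exact Subtype.ext hz2
        · exact Subtype.ext (show y ^ 2 = 1 from hy2 ▸ pow_orderOf_eq_one y)
      have h3 := (Finset.card_le_card hsub).trans (IsCyclic.card_pow_eq_one_le (by norm_num : 0 < 2))
      have hy1 : y ≠ 1 := fun h => by rw [h, orderOf_one] at hy2; omega
      rw [Finset.card_insert_of_notMem (by
          simp only [Finset.mem_insert, Finset.mem_singleton, Subtype.ext_iff, OneMemClass.coe_one, not_or]
          exact ⟨Ne.symm hz1, Ne.symm hy1⟩),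
        Finset.card_pair (fun h => hne (congrArg Subtype.val h).symm)] at h3
      omega
    refine hz1 (hyz ▸ central_eq_one hρ hirr (hyz ▸ hz) hv ?_)
    rw [hy]
    exact pow_mem (show g ∈ stab ρ v from hgv) _
  set R := {g : G | g ∉ A ∧ g ^ 2 = 1} with hR
  have huniq : ∀ v : V, v ≠ 0 → ∃ r ∈ R, ρ r v = v ∧ ∀ s ∈ R, ρ s v = v → s = r := by
    intro v hv
    obtain ⟨r, hr, hr1⟩ : ∃ r, r ∈ stab ρ v ∧ r ≠ 1 := by
      by_contra h
      push Not at h
      exact hc1 ((hc v hv).symm.trans (Subgroup.card_eq_one.2 (le_bot_iff.1 fun g hg => Subgroup.mem_bot.2 (h g hg))))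
    have hrA : r ∉ A := fun h => hr1 (hAfree r h v hv hr)
    refine ⟨r, ⟨hrA, hAfree _ (Subgroup.sq_mem_of_index_two hA r) v hv (pow_mem hr 2)⟩, hr, fun s hs hsv => ?_⟩
    have hm : r⁻¹ * s ∈ A :=
      (Subgroup.mul_mem_iff_of_index_two hA).2 ⟨fun h => absurd (inv_mem_iff.1 h) hrA, fun h => absurd h hs.1⟩
    exact (inv_mul_eq_one.1 (hAfree _ hm v hv (mul_mem (inv_mem hr) (show s ∈ stab ρ v from hsv)))).symm
  have hf : ∀ r ∈ R, Nat.card (fix ρ r) * Nat.card (fix ρ r) = Nat.card V := by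
    rintro r ⟨hrA, hr2⟩
    have hrr : ∀ v, ρ r (ρ r v) = v := fun v => by rw [← mul_app, ← sq, hr2, map_one]; rfl
    -- `a` exchanges the two eigenspaces of `r`
    have hra : ∀ v, ρ r (ρ a v) = -(ρ a (ρ r v)) := by
      intro v
      have e : r * a = a * r * z := by
        have h1 := hinv r hrA hr2
        rw [mul_inv_eq_iff_eq_mul] at h1
        have ha4' : a ^ 4 = 1 := ha4 ▸ pow_orderOf_eq_one a
        rw [h1, mul_assoc a r z, Subgroup.mem_center_iff.1 hz r, ← mul_assoc]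
        congr 1
        rw [hzdef, inv_eq_iff_mul_eq_one, ← mul_assoc, ← sq, ← pow_add, ha4']
      rw [← mul_app, e, mul_app, mul_app, hzneg, map_neg, map_neg]
    let f : fix ρ r × fix ρ r → V := fun x => (x.1 : V) + ρ a (x.2 : V)
    have hbij : Function.Bijective f := by
      refine ⟨fun x y hxy => ?_, fun v => ?_⟩
      · have h1 : (x.1 : V) + ρ a (x.2 : V) = (y.1 : V) + ρ a (y.2 : V) := hxy
        have h2 := congrArg (ρ r) h1
        rw [map_add, map_add, hra, hra, show ρ r (x.1 : V) = x.1 from x.1.2, show ρ r (y.1 : V) = y.1 from y.1.2,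
          show ρ r (x.2 : V) = x.2 from x.2.2, show ρ r (y.2 : V) = y.2 from y.2.2] at h2
        have e1 : (x.1 : V) = y.1 := by
          have : (2 : ZMod q) • ((x.1 : V) - y.1) = 0 := by
            rw [two_smul, sub_add_sub_comm, sub_eq_zero]
            calc (x.1 : V) + x.1 = ((x.1 : V) + ρ a (x.2 : V)) + ((x.1 : V) + -ρ a (x.2 : V)) := by abel
              _ = ((y.1 : V) + ρ a (y.2 : V)) + ((y.1 : V) + -ρ a (y.2 : V)) := by rw [h1, h2]
              _ = (y.1 : V) + y.1 := by abel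
          exact sub_eq_zero.1 ((smul_eq_zero.1 this).resolve_left h2F)
        rw [e1, add_right_inj] at h1
        exact Prod.ext (Subtype.ext e1) (Subtype.ext ((ρ a).injective h1))
      · set t : ZMod q := (2 : ZMod q)⁻¹ with ht
        have hp : t • (v + ρ r v) ∈ fix ρ r := by
          show ρ r (t • (v + ρ r v)) = _
          rw [map_smul, map_add, hrr, add_comm]
        have hm : ρ a⁻¹ (t • (v - ρ r v)) ∈ fix ρ r := by
          set u := t • (v - ρ r v) with hu
          have hru : ρ r u = -u := by rw [hu, map_smul, map_sub, hrr, ← smul_neg, neg_sub]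
          have := hra (ρ a⁻¹ u)
          rw [app_inv, hru, neg_inj] at this
          show ρ r (ρ a⁻¹ u) = ρ a⁻¹ u
          conv_rhs => rw [this, inv_app]
        refine ⟨(⟨_, hp⟩, ⟨_, hm⟩), ?_⟩
        show t • (v + ρ r v) + ρ a (ρ a⁻¹ (t • (v - ρ r v))) = v
        rw [app_inv, ← smul_add, add_add_sub_cancel, ← two_smul (ZMod q), smul_smul, ht, inv_mul_cancel₀ h2F, one_smul]
    rw [← Nat.card_prod, Nat.card_eq_of_bijective f hbij]
  obtain ⟨v₀, hv₀⟩ := exists_ne (0 : V)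
  obtain ⟨r₀, hr₀, -, -⟩ := huniq v₀ hv₀
  refine ⟨Nat.card (fix ρ r₀), ?_, hf r₀ hr₀, ?_⟩
  · have h1 : 1 < Nat.card V := Finite.one_lt_card
    rw [← hf r₀ hr₀] at h1
    nlinarith
  haveI := Fintype.ofFinite R
  have hsame : ∀ r ∈ R, Nat.card (fix ρ r) = Nat.card (fix ρ r₀) := fun r hr =>
    Nat.mul_self_inj.1 ((hf r hr).trans (hf r₀ hr₀).symm)
  let toV : (Σ r : R, {v : fix ρ (r : G) // v ≠ 0}) → {v : V // v ≠ 0} := fun x =>
    ⟨(x.2.1 : V), fun h => x.2.2 (Subtype.ext h)⟩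
  have hbij : Function.Bijective toV := by
    constructor
    · rintro ⟨r, ⟨v, hrv⟩, hv⟩ ⟨s, ⟨w, hsw⟩, hw⟩ h
      have hvw : v = w := congrArg Subtype.val h
      obtain ⟨r', -, -, hu⟩ := huniq v fun e => hv (Subtype.ext e)
      obtain rfl : r = s := Subtype.ext ((hu r r.2 hrv).trans (hu s s.2 (hvw ▸ hsw)).symm)
      subst hvw
      rfl
    · rintro ⟨v, hv⟩
      obtain ⟨r, hr, hrv, -⟩ := huniq v hv
      exact ⟨⟨⟨r, hr⟩, ⟨⟨v, hrv⟩, fun e => hv (congrArg Subtype.val e)⟩⟩, rfl⟩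
  have hne : ∀ {α : Type _} [Finite α] (x : α), Nat.card {v : α // v ≠ x} + 1 = Nat.card α := by
    intro α _ x
    rw [← Finite.card_option]
    exact Nat.card_congr (Equiv.optionSubtypeNe x)
  have hcard := Nat.card_eq_of_bijective toV hbij
  rw [Nat.card_sigma] at hcard
  set f₀ := Nat.card (fix ρ r₀) with hf₀
  have hterm : ∀ r : R, Nat.card {v : fix ρ (r : G) // v ≠ 0} + 1 = f₀ := fun r => (hne _).trans (hsame r r.2)
  have hf2 : 2 ≤ f₀ := by
    have h1 : 1 < Nat.card V := Finite.one_lt_card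
    rw [← hf r₀ hr₀, ← hf₀] at h1
    nlinarith
  have hV := hne (0 : V)
  have hterm' : ∀ r : R, Nat.card {v : fix ρ (r : G) // v ≠ 0} = f₀ - 1 := fun r => by have := hterm r; omega
  rw [← hcard, ← hf r₀ hr₀, ← hf₀] at hV
  simp only [hterm'] at hV
  rw [Finset.sum_const, Finset.card_univ, smul_eq_mul, ← Nat.card_eq_fintype_card] at hV
  obtain ⟨f₁, hf₁⟩ : ∃ f₁, f₀ = f₁ + 1 := ⟨f₀ - 1, by omega⟩
  rw [hf₁, Nat.add_sub_cancel] at hV
  rw [hf₁]
  nlinarith

theorem dihedral_case [Finite V] [Nontrivial V] [Finite G] (hρ : Function.Injective ρ)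
    (hirr : ∀ W : Submodule (ZMod q) V, (∀ g : G, ∀ w ∈ W, ρ g w ∈ W) → W = ⊥ ∨ W = ⊤) {p : ℕ} [Fact p.Prime]
    (hG : IsPGroup p G) (hpq : p ≠ q) {c : ℕ} (hc : ∀ v : V, v ≠ 0 → Nat.card (stab ρ v) = c) (hc1 : c ≠ 1)
    (hnab : ∃ x y : G, x * y ≠ y * x)
    (h : (∃ n, Nonempty (G ≃* DihedralGroup n)) ∨ Cfsg.IsQuasiDihedral G) :
    Nat.card V = q ^ 2 ∧ ∃ m : ℕ, q = 2 ^ m - 1 ∧
      (Nonempty (G ≃* DihedralGroup (2 ^ m)) ∨ (Cfsg.IsQuasiDihedral G ∧ Nat.card G = 2 ^ (m + 2))) := by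
  classical
  obtain ⟨k, hk⟩ := IsPGroup.iff_card.1 hG
  have hq : q.Prime := Fact.out
  have p2 : 2 ∣ Nat.card G → p = 2 := fun h2 =>
    ((Nat.prime_dvd_prime_iff_eq Nat.prime_two Fact.out).1 (Nat.prime_two.dvd_of_dvd_pow (hk ▸ h2))).symm
  obtain ⟨e, he⟩ : ∃ e, Nat.card V = q ^ e :=
    ⟨_, by rw [Module.natCard_eq_pow_finrank (K := ZMod q) (V := V), Nat.card_zmod]⟩
  have finish : q ≠ 2 → ∀ f j : ℕ, 2 ≤ f → f * f = Nat.card V → f + 1 = 2 ^ j → Nat.card V = q ^ 2 ∧ q + 1 = 2 ^ j := by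
    intro hq2 f j hf hff hfj
    obtain ⟨i, -, hi⟩ := (Nat.dvd_prime_pow hq).1 (he ▸ hff ▸ dvd_mul_right f f : f ∣ q ^ e)
    have hi1 : 1 ≤ i := by
      by_contra hlt
      interval_cases i
      rw [pow_zero] at hi
      omega
    have h1 := eq_one_of_pow_add_one hq.two_le (hq.odd_of_ne_two hq2) hi1 (hi ▸ hfj)
    rw [h1, pow_one] at hi
    exact ⟨by rw [← hff, hi, sq], hi ▸ hfj⟩
  rcases h with ⟨n, ⟨E⟩⟩ | hsd
  · have hn : n ≠ 0 := by
      rintro rfl
      have : Finite (DihedralGroup 0) := Finite.of_equiv G E.toEquiv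
      have h0 := Nat.card_pos (α := DihedralGroup 0)
      rw [DihedralGroup.nat_card] at h0
      omega
    haveI : NeZero n := ⟨hn⟩
    have hcard : Nat.card G = 2 * n := by rw [Nat.card_congr E.toEquiv, DihedralGroup.nat_card]
    obtain rfl := p2 ⟨n, hcard⟩
    obtain ⟨m, -, rfl⟩ := (Nat.dvd_prime_pow Nat.prime_two).1 (hk ▸ hcard ▸ dvd_mul_left n 2 : n ∣ 2 ^ k)
    have hm : 2 ≤ m := by
      by_contra hlt
      obtain ⟨x, y, hxy⟩ := hnab
      refine hxy (E.injective ?_)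
      rw [map_mul, map_mul]
      generalize E x = u
      generalize E y = v
      revert u v
      interval_cases m <;> decide
    obtain ⟨m, rfl⟩ : ∃ l, m = l + 2 := ⟨m - 2, by omega⟩
    set A : Subgroup G := Subgroup.zpowers (E.symm (DihedralGroup.r 1)) with hAdef
    have hmemA : ∀ g, g ∈ A ↔ ∃ i, E g = DihedralGroup.r i := by
      intro g
      constructor
      · rintro ⟨i, rfl⟩
        exact ⟨(i : ZMod _), by rw [map_zpow, MulEquiv.apply_symm_apply, DihedralGroup.r_one_zpow]⟩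
      · rintro ⟨i, hi⟩
        refine ⟨(i.val : ℤ), E.injective ?_⟩
        show E (E.symm (DihedralGroup.r 1) ^ (i.val : ℤ)) = E g
        rw [zpow_natCast, map_pow, MulEquiv.apply_symm_apply, DihedralGroup.r_one_pow, ZMod.natCast_zmod_val, hi]
    have hAi : A.index = 2 := by
      have h1 := A.card_mul_index
      rw [hAdef, Nat.card_zpowers, MulEquiv.orderOf_eq, DihedralGroup.orderOf_r_one, hcard] at h1
      rw [hAdef]
      exact Nat.eq_of_mul_eq_mul_left (show 0 < 2 ^ (m + 2) by positivity) (h1.trans (mul_comm _ _))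
    set a := E.symm (DihedralGroup.r ((2 ^ m : ℕ) : ZMod (2 ^ (m + 2)))) with hadef
    have ha4 : orderOf a = 4 := by
      rw [hadef, MulEquiv.orderOf_eq, ← DihedralGroup.r_one_pow, orderOf_pow_of_dvd (by positivity)
        (by rw [DihedralGroup.orderOf_r_one]; exact pow_dvd_pow 2 (by omega)), DihedralGroup.orderOf_r_one,
        pow_add, Nat.mul_div_cancel_left _ (by positivity)]
      norm_num
    have hinv : ∀ g, g ∉ A → g * a * g⁻¹ = a⁻¹ := by
      intro g hg
      apply E.injective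
      rw [map_mul, map_mul, map_inv, map_inv, hadef, MulEquiv.apply_symm_apply]
      rcases hEg : E g with i | i
      · exact absurd ((hmemA g).2 ⟨i, hEg⟩) hg
      · simp [DihedralGroup.inv_sr, DihedralGroup.sr_mul_r, DihedralGroup.sr_mul_sr, DihedralGroup.inv_r]
    have hz : a ^ 2 ∈ Subgroup.center G := by
      refine Subgroup.mem_center_iff.2 fun g => E.injective ?_
      have h2 : ((2 ^ m : ℕ) : ZMod (2 ^ (m + 2))) * 2 + ((2 ^ m : ℕ) : ZMod (2 ^ (m + 2))) * 2 = 0 := by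
        have : ((2 ^ m * 4 : ℕ) : ZMod (2 ^ (m + 2))) = 0 := by
          rw [show 2 ^ m * 4 = 2 ^ (m + 2) by ring, ZMod.natCast_self]
        rw [Nat.cast_mul] at this
        push_cast at this ⊢
        linear_combination this
      rw [map_mul, map_mul, map_pow, hadef, MulEquiv.apply_symm_apply, DihedralGroup.r_pow]
      rcases E g with i | i
      · rw [DihedralGroup.r_mul_r, DihedralGroup.r_mul_r]
        exact congrArg _ (add_comm _ _)
      · rw [DihedralGroup.sr_mul_r, DihedralGroup.r_mul_sr]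
        congr 1
        push_cast at h2 ⊢
        linear_combination h2
    obtain ⟨f, hf, hff, hfR⟩ := reflection_count hρ hirr (Ne.symm hpq) hG hc hc1 A hAi a
      ((hmemA a).2 ⟨_, E.apply_symm_apply _⟩) ha4 (fun g hg _ => hinv g hg) hz
    have hRcard : Nat.card {g : G | g ∉ A ∧ g ^ 2 = 1} = 2 ^ (m + 2) := by
      have : Nat.card {g : G | g ∉ A ∧ g ^ 2 = 1} = Nat.card (ZMod (2 ^ (m + 2))) := by
        refine (Nat.card_eq_of_bijective
          (fun i : ZMod (2 ^ (m + 2)) => (⟨E.symm (DihedralGroup.sr i), ?_, ?_⟩ : {g : G | g ∉ A ∧ g ^ 2 = 1})) ⟨?_, ?_⟩).symm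
        · intro h
          obtain ⟨j, hj⟩ := (hmemA _).1 h
          rw [MulEquiv.apply_symm_apply] at hj
          cases hj
        · rw [← map_pow, sq, DihedralGroup.sr_mul_self, map_one]
        · intro i j h
          exact DihedralGroup.sr.inj (E.symm.injective (congrArg Subtype.val h))
        · rintro ⟨g, hg, -⟩
          rcases hEg : E g with i | i
          · exact absurd ((hmemA g).2 ⟨i, hEg⟩) hg
          · exact ⟨i, Subtype.ext (by show E.symm (DihedralGroup.sr i) = g; rw [← hEg, E.symm_apply_apply])⟩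
      rw [this, Nat.card_zmod]
    obtain ⟨hV, hqm⟩ := finish (Ne.symm hpq) f (m + 2) hf hff (hfR.trans hRcard)
    exact ⟨hV, m + 2, by omega, Or.inl ⟨E⟩⟩
  · obtain ⟨n, hn, hcard, x, y, hx, hy, hyx⟩ := hsd
    obtain rfl := p2 (hcard ▸ dvd_pow_self 2 (Nat.succ_ne_zero n))
    obtain ⟨l, rfl⟩ : ∃ l, n = l + 3 := ⟨n - 3, by omega⟩
    set K := 2 ^ (l + 3 - 1) - 1 with hK
    have hK' : K + 1 = 4 * 2 ^ l := by
      have : 2 ^ (l + 3 - 1) = 4 * 2 ^ l := by rw [show l + 3 - 1 = l + 2 by omega]; ring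
      have := Nat.one_le_two_pow (n := l)
      omega
    have hy2 : y ^ 2 = 1 := hy ▸ pow_orderOf_eq_one y
    have h8 : (2 : ℕ) ^ (l + 3) = 8 * 2 ^ l := by ring
    have hl1 := Nat.one_le_two_pow (n := l)
    set A : Subgroup G := Subgroup.zpowers x with hAdef
    have hyA : y ∉ A := by
      rintro ⟨i, hi⟩
      have e : y * x * y⁻¹ = x := by rw [← hi]; simp only; group
      rw [hyx] at e
      have h1 : x ^ (2 ^ (l + 3 - 1) - 1) = x ^ 1 := by rw [e, pow_one]
      rw [pow_eq_pow_iff_modEq, hx] at h1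
      unfold Nat.ModEq at h1
      rw [Nat.mod_eq_of_lt (show K < 2 ^ (l + 3) by omega), Nat.mod_eq_of_lt (show 1 < 2 ^ (l + 3) by omega)] at h1
      omega
    have hAi : A.index = 2 := by
      have h1 := A.card_mul_index
      rw [hAdef, Nat.card_zpowers, hx, hcard, pow_succ 2 (l + 3)] at h1
      rw [hAdef]
      exact Nat.eq_of_mul_eq_mul_left (show 0 < 2 ^ (l + 3) by positivity) h1
    have hconj : ∀ i : ℕ, y * x ^ i * y⁻¹ = x ^ (K * i) := by
      intro i; rw [← conj_pow, hyx, pow_mul]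
    set a := x ^ (2 * 2 ^ l) with hadef
    have hxN : x ^ (8 * 2 ^ l) = 1 := by rw [← h8, ← hx, pow_orderOf_eq_one]
    have ha4 : orderOf a = 4 := by
      rw [hadef, orderOf_pow_of_dvd (by positivity) (by rw [hx, h8]; exact ⟨4, by ring⟩), hx, h8,
        show 8 * 2 ^ l = 2 * 2 ^ l * 4 by ring, Nat.mul_div_cancel_left _ (by positivity)]
    have hcoset : ∀ g, g ∉ A → ∃ i : ℕ, g = y * x ^ i := by
      intro g hg
      have : y⁻¹ * g ∈ A :=
        (Subgroup.mul_mem_iff_of_index_two hAi).2 ⟨fun h => absurd (inv_mem_iff.1 h) hyA, fun h => absurd h hg⟩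
      obtain ⟨i, hi⟩ := (Submonoid.mem_powers_iff _ _).1 ((isOfFinOrder_of_finite x).mem_powers_iff_mem_zpowers.2 this)
      exact ⟨i, by rw [hi, mul_inv_cancel_left]⟩
    have hinv : ∀ g, g ∉ A → g * a * g⁻¹ = a⁻¹ := by
      intro g hg
      obtain ⟨i, rfl⟩ := hcoset g hg
      rw [hadef, show y * x ^ i * x ^ (2 * 2 ^ l) * (y * x ^ i)⁻¹ = y * (x ^ i * x ^ (2 * 2 ^ l) * (x ^ i)⁻¹) * y⁻¹ by group,
        (Commute.pow_pow_self x i (2 * 2 ^ l)).eq, mul_inv_cancel_right, hconj, eq_inv_iff_mul_eq_one, ← pow_add,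
        show K * (2 * 2 ^ l) + 2 * 2 ^ l = (8 * 2 ^ l) * 2 ^ l by
          rw [show K * (2 * 2 ^ l) + 2 * 2 ^ l = (K + 1) * (2 * 2 ^ l) by ring, hK']; ring, pow_mul, hxN, one_pow]
    have hz : a ^ 2 ∈ Subgroup.center G := by
      refine Subgroup.mem_center_iff.2 fun g => ?_
      by_cases hg : g ∈ A
      · obtain ⟨i, rfl⟩ := hg
        rw [hadef, ← pow_mul]
        exact ((Commute.refl x).zpow_left i).pow_right _
      · have h1 := hinv g hg
        have h2 : g * a ^ 2 * g⁻¹ = a ^ 2 := by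
          rw [← conj_pow, h1, inv_pow, inv_eq_iff_mul_eq_one, ← pow_add, show 2 + 2 = orderOf a by rw [ha4], pow_orderOf_eq_one]
        exact mul_inv_eq_iff_eq_mul.1 h2
    have haA : a ∈ A := pow_mem (Subgroup.mem_zpowers x) _
    obtain ⟨f, hf, hff, hfR⟩ := reflection_count hρ hirr (Ne.symm hpq) hG hc hc1 A hAi a haA ha4
      (fun g hg _ => hinv g hg) hz
    have hsq : ∀ i : ℕ, (y * x ^ i) ^ 2 = x ^ ((K + 1) * i) := by
      intro i
      rw [sq, show y * x ^ i * (y * x ^ i) = (y * x ^ i * y⁻¹) * (y * y) * x ^ i by group, ← sq y, hy2, mul_one, hconj,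
        ← pow_add]
      congr 1; ring
    have hRcard : Nat.card {g : G | g ∉ A ∧ g ^ 2 = 1} = 2 ^ (l + 2) := by
      have e : {g : G | g ∉ A ∧ g ^ 2 = 1} = (y * ·) '' (Subgroup.zpowers (x ^ 2) : Set G) := by
        ext g
        constructor
        · rintro ⟨hg, hg2⟩
          obtain ⟨i, rfl⟩ := hcoset g hg
          rw [hsq, hK', ← orderOf_dvd_iff_pow_eq_one, hx, h8, show 8 * 2 ^ l = 4 * 2 ^ l * 2 by ring,
            Nat.mul_dvd_mul_iff_left (by positivity)] at hg2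
          obtain ⟨j, rfl⟩ := hg2
          exact ⟨x ^ (2 * j), by rw [pow_mul]; exact Subgroup.npow_mem_zpowers _ _, rfl⟩
        · rintro ⟨b, hb, rfl⟩
          obtain ⟨j, rfl⟩ := (Submonoid.mem_powers_iff _ _).1 ((isOfFinOrder_of_finite (x ^ 2)).mem_powers_iff_mem_zpowers.2 hb)
          refine ⟨fun h => hyA ?_, ?_⟩
          · have := mul_mem h (inv_mem (pow_mem (pow_mem (Subgroup.mem_zpowers x) 2) j : (x ^ 2) ^ j ∈ A))
            simpa using this
          · show (y * (x ^ 2) ^ j) ^ 2 = 1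
            rw [← pow_mul, hsq, hK', show 4 * 2 ^ l * (2 * j) = 8 * 2 ^ l * j by ring, pow_mul, hxN, one_pow]
      rw [e, Nat.card_image_of_injective (mul_right_injective y)]
      refine (Nat.card_zpowers _).trans ?_
      rw [orderOf_pow_of_dvd (by norm_num) (by rw [hx, h8]; exact ⟨4 * 2 ^ l, by ring⟩), hx, h8]
      have : (2 : ℕ) ^ (l + 2) = 4 * 2 ^ l := by ring
      omega
    obtain ⟨hV, hqm⟩ := finish (Ne.symm hpq) f (l + 2) hf hff (hfR.trans hRcard)
    exact ⟨hV, l + 2, by omega, Or.inr ⟨⟨l + 3, hn, hcard, x, y, hx, hy, hyx⟩, hcard⟩⟩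

theorem perm_moves {p : ℕ} [Fact p.Prime] {σ : Equiv.Perm (Fin p)} (h : orderOf σ = p) (i : Fin p) : σ i ≠ i := by
  obtain ⟨n, hn⟩ := Equiv.Perm.cycleType_prime_order (σ := σ) (by rw [h]; exact Fact.out)
  have hs := Equiv.Perm.sum_cycleType σ
  rw [hn, h, Multiset.sum_replicate, smul_eq_mul] at hs
  have hle : σ.support.card ≤ p := σ.support.card_le_univ.trans (Fintype.card_fin p).le
  have huniv : σ.support = Finset.univ := by
    rw [← Finset.card_eq_iff_eq_univ, Fintype.card_fin]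
    have : p ≤ (n + 1) * p := Nat.le_mul_of_pos_left p (Nat.succ_pos n)
    omega
  exact Equiv.Perm.mem_support.1 (huniv ▸ Finset.mem_univ i)

theorem decomposition_case [Finite V] [Nontrivial V] [Finite G] (hρ : Function.Injective ρ)
    (hirr : ∀ W : Submodule (ZMod q) V, (∀ g : G, ∀ w ∈ W, ρ g w ∈ W) → W = ⊥ ∨ W = ⊤) {p : ℕ} [Fact p.Prime]
    (hG : IsPGroup p G) (hpq : p ≠ q) {c : ℕ} (hc : ∀ v : V, v ≠ 0 → Nat.card (stab ρ v) = c)
    (H : Subgroup G) (W : Fin p → Submodule (ZMod q) V) (hidx : H.index = p)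
    (htop : iSup W = ⊤) (hind : iSupIndep W)
    (hH : ∀ h ∈ H, ∀ i, ∀ w ∈ W i, ρ h w ∈ W i)
    (hker : ∀ i, ∃ h ∈ H, h ≠ 1 ∧ ∀ w ∈ W i, ρ h w = w)
    (hperm : ∀ g : G, g ∉ H → ∃ σ : Equiv.Perm (Fin p), orderOf σ = p ∧
      ∀ i, (W i).map (ρ g : V →ₗ[ZMod q] V) = W (σ i)) :
    (Nat.card V = q ^ 2 ∧ (∃ m : ℕ, q = 2 ^ m + 1) ∧
      ∃ e : V ≃ₗ[ZMod q] (Fin 2 → ZMod q), ∀ f : (Fin 2 → ZMod q) ≃ₗ[ZMod q] (Fin 2 → ZMod q),
        (∃ g : G, f = e.symm.trans ((ρ g).trans e)) ↔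
        ∃ a s : ZMod q, a ≠ 0 ∧ (s = 1 ∨ s = -1) ∧
          ((∀ v, f v = ![a * v 0, s * a⁻¹ * v 1]) ∨ (∀ v, f v = ![s * a⁻¹ * v 1, a * v 0]))) ∨
    (Nat.card V = 81 ∧ q = 3 ∧ p = 2) := by
  classical
  have hp : p.Prime := Fact.out
  obtain ⟨g₀, hg₀⟩ : ∃ g, g ∉ H := by
    by_contra h
    push Not at h
    rw [(Subgroup.eq_top_iff' H).2 h, Subgroup.index_top] at hidx
    exact hp.ne_one hidx.symm
  have hdis : ∀ k, ∀ x ∈ W k, x ∈ (⨆ (l) (_ : l ≠ k), W l) → x = 0 := fun k x hx hx' =>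
    Submodule.disjoint_def.1 (hind k) x hx hx'
  have hmem2 : ∀ i j, i ≠ j → ∀ x ∈ W i, x ∈ W j → x = 0 := fun i j hij x hi hj =>
    hdis i x hi (Submodule.mem_iSup_of_mem j (Submodule.mem_iSup_of_mem hij.symm hj))
  have hmap : ∀ g, g ∉ H → ∀ i, ∃ k, k ≠ i ∧ ∀ w ∈ W i, ρ g w ∈ W k := by
    intro g hg i
    obtain ⟨σ, hσ, hW⟩ := hperm g hg
    exact ⟨σ i, perm_moves hσ i, fun w hw => hW i ▸ Submodule.mem_map_of_mem hw⟩
  have hne : ∀ i, ∃ w ∈ W i, w ≠ 0 := by
    intro i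
    by_contra hall
    push Not at hall
    obtain ⟨h, hh, hh1, hfix⟩ := hker i
    obtain ⟨σ, hσ, hW⟩ := hperm g₀ hg₀
    have hbot : W i = ⊥ := (Submodule.eq_bot_iff _).2 hall
    have hiter : ∀ k : ℕ, W ((σ ^ k) i) = ⊥ := by
      intro k
      induction k with
      | zero => simpa using hbot
      | succ k ih => rw [pow_succ', Equiv.Perm.mul_apply, ← hW, ih, Submodule.map_bot]
    have hall' : ∀ j, W j = ⊥ := by
      intro j
      have hs : σ.IsCycle := Equiv.Perm.isCycle_of_prime_order'' (by rw [Fintype.card_fin]; exact hp) (by rw [Fintype.card_fin, hσ])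
      obtain ⟨k, hk⟩ := hs.exists_pow_eq (perm_moves hσ i) (perm_moves hσ j)
      exact hk ▸ hiter k
    have : (⊤ : Submodule (ZMod q) V) ≤ ⊥ := htop ▸ iSup_le fun j => (hall' j).le
    exact bot_ne_top (le_bot_iff.1 this).symm
  have hstabH : ∀ i, ∀ w ∈ W i, w ≠ 0 → stab ρ w ≤ H := by
    intro i w hw hw0 g hg
    by_contra hgH
    obtain ⟨k, hk, hWk⟩ := hmap g hgH i
    exact hw0 (hmem2 k i hk w (by have := hWk w hw; rwa [show ρ g w = w from hg] at this) hw)
  have hsum : ∀ g, ∀ i j, i ≠ j → ∀ u ∈ W i, ∀ v ∈ W j, u ≠ 0 → v ≠ 0 → ρ g (u + v) = u + v →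
      (g ∈ H ∧ ρ g u = u ∧ ρ g v = v) ∨ (g ∉ H ∧ p = 2 ∧ ρ g u = v ∧ ρ g v = u) := by
    intro g i j hij u hu v hv hu0 hv0 hfix
    rw [map_add] at hfix
    by_cases hg : g ∈ H
    · left
      have e : ρ g u - u = v - ρ g v := by rw [sub_eq_sub_iff_add_eq_add, hfix, add_comm]
      have h0 : ρ g u - u = 0 := hmem2 i j hij _ (sub_mem (hH g hg i u hu) hu) (e ▸ sub_mem hv (hH g hg j v hv))
      exact ⟨hg, sub_eq_zero.1 h0, (sub_eq_zero.1 (e ▸ h0)).symm⟩
    · right
      obtain ⟨σ, hσ, hW⟩ := hperm g hg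
      have him : ∀ k, ∀ w ∈ W k, ρ g w ∈ W (σ k) := fun k w hw => hW k ▸ Submodule.mem_map_of_mem hw
      have key : ∀ (i j : Fin p) (u v : V), i ≠ j → u ∈ W i → v ∈ W j → u ≠ 0 → ρ g u + ρ g v = u + v → σ i = j := by
        intro i j u v hij hu hv hu0 hfix
        by_contra hne
        have hi : i ≠ σ i := (perm_moves hσ i).symm
        refine hu0 ((ρ g).injective ?_)
        rw [map_zero]
        refine hdis (σ i) _ (him i u hu) ?_
        rw [eq_sub_of_add_eq hfix]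
        refine sub_mem (add_mem ?_ ?_) ?_
        · exact Submodule.mem_iSup_of_mem i (Submodule.mem_iSup_of_mem hi hu)
        · exact Submodule.mem_iSup_of_mem j (Submodule.mem_iSup_of_mem (Ne.symm hne) hv)
        · exact Submodule.mem_iSup_of_mem (σ j) (Submodule.mem_iSup_of_mem (σ.injective.ne hij.symm) (him j v hv))
      have hσi := key i j u v hij hu hv hu0 hfix
      have hσj := key j i v u hij.symm hv hu hv0 (by rw [add_comm, hfix, add_comm])
      refine ⟨hg, ?_, ?_⟩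
      · by_contra hp2
        have h2 : orderOf (σ ^ 2) = p := by
          rw [Nat.Coprime.orderOf_pow, hσ]
          rw [hσ]
          exact Nat.coprime_two_right.2 (hp.odd_of_ne_two hp2)
        exact perm_moves h2 i (by rw [sq, Equiv.Perm.mul_apply, hσi, hσj])
      · have e : ρ g u - v = u - ρ g v := by rw [sub_eq_sub_iff_add_eq_add, hfix]
        have h0 : ρ g u - v = 0 :=
          hmem2 j i hij.symm _ (sub_mem (hσi ▸ him i u hu) hv) (e ▸ sub_mem hu (hσj ▸ him j v hv))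
        exact ⟨sub_eq_zero.1 h0, (sub_eq_zero.1 (e ▸ h0)).symm⟩
  have hstabeq : ∀ i j, i ≠ j → ∀ u ∈ W i, ∀ v ∈ W j, u ≠ 0 → v ≠ 0 → (p = 2 → ∀ g, ρ g u ≠ v) →
      stab ρ u = stab ρ v := by
    intro i j hij u hu v hv hu0 hv0 hno
    have huv : u + v ≠ 0 := fun h => hu0 (hmem2 i j hij u hu (eq_neg_of_add_eq_zero_left h ▸ neg_mem hv))
    have hle : ∀ g ∈ stab ρ (u + v), ρ g u = u ∧ ρ g v = v := fun g hg => by
      rcases hsum g i j hij u hu v hv hu0 hv0 hg with h | ⟨-, h2, h3, -⟩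
      · exact h.2
      · exact absurd h3 (hno h2 g)
    have l1 : stab ρ (u + v) ≤ stab ρ u := fun g hg => (hle g hg).1
    have l2 : stab ρ (u + v) ≤ stab ρ v := fun g hg => (hle g hg).2
    exact (Subgroup.eq_of_le_of_card_ge l1 (by rw [hc u hu0, hc _ huv])).symm.trans
      (Subgroup.eq_of_le_of_card_ge l2 (by rw [hc v hv0, hc _ huv]))
  have hc1 : c ≠ 1 := by
    obtain ⟨i⟩ : Nonempty (Fin p) := ⟨⟨0, hp.pos⟩⟩
    obtain ⟨h, hh, hh1, hfix⟩ := hker i
    obtain ⟨w, hw, hw0⟩ := hne i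
    intro e
    have : h ∈ stab ρ w := hfix w hw
    rw [Subgroup.card_eq_one.1 ((hc w hw0).trans e), Subgroup.mem_bot] at this
    exact hh1 this
  have hfalse : ∀ K : Subgroup G, Nat.card K = c → ¬ (∀ g ∈ K, ∀ i, ∀ w ∈ W i, ρ g w = w) := by
    intro K hK hall
    refine hc1 (hK.symm.trans (Subgroup.card_eq_one.2 (le_bot_iff.1 fun g hg => Subgroup.mem_bot.2
      (eq_one_of_forall ρ hρ fun v => ?_))))
    have : v ∈ fix ρ g := (iSup_le fun i w hw => hall g hg i w hw : iSup W ≤ fix ρ g) (htop ▸ Submodule.mem_top)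
    exact this
  obtain rfl : p = 2 := by
    by_contra hp2
    have hconst : ∀ i j, ∀ u ∈ W i, ∀ v ∈ W j, u ≠ 0 → v ≠ 0 → stab ρ u = stab ρ v := by
      intro i j u hu v hv hu0 hv0
      by_cases hij : i = j
      · subst hij
        obtain ⟨k, hk⟩ : ∃ k, k ≠ i := by
          haveI : Nontrivial (Fin p) := Fin.nontrivial_iff_two_le.2 hp.two_le
          exact exists_ne i
        obtain ⟨w, hw, hw0⟩ := hne k
        exact (hstabeq i k hk.symm u hu w hw hu0 hw0 fun h => absurd h hp2).trans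
          (hstabeq i k hk.symm v hv w hw hv0 hw0 fun h => absurd h hp2).symm
      · exact hstabeq i j hij u hu v hv hu0 hv0 fun h => absurd h hp2
    obtain ⟨u, hu, hu0⟩ := hne ⟨0, hp.pos⟩
    refine hfalse (stab ρ u) (hc u hu0) fun g hg i w hw => ?_
    by_cases hw0 : w = 0
    · rw [hw0, map_zero]
    · rw [hconst _ i u hu w hw hu0 hw0] at hg; exact hg
  clear hker
  have hfin2 : ∀ i : Fin 2, i = 0 ∨ i = 1 := by decide
  have hflip : ∀ i k : Fin 2, k ≠ i → k = 1 - i := by decide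
  set t := g₀ with ht
  have htW : ∀ i : Fin 2, ∀ w ∈ W i, ρ t w ∈ W (1 - i) := by
    intro i w hw
    obtain ⟨k, hk, hWk⟩ := hmap t hg₀ i
    have : k = 1 - i := hflip i k hk
    exact this ▸ hWk w hw
  haveI hHn : H.Normal := Subgroup.normal_of_index_eq_two hidx
  have htinv : t⁻¹ ∉ H := fun h => hg₀ (inv_mem_iff.1 h)
  have hHt : ∀ g, g ∉ H → t⁻¹ * g ∈ H := fun g hg =>
    (Subgroup.mul_mem_iff_of_index_two hidx).2 ⟨fun h => absurd h htinv, fun h => absurd h hg⟩
  have htW' : ∀ w ∈ W 1, ρ t⁻¹ w ∈ W 0 := by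
    intro w hw
    obtain ⟨k, hk, hWk⟩ := hmap _ htinv 1
    obtain rfl : k = 0 := (hflip 1 k hk).trans (by decide)
    exact hWk w hw
  have h01 : (0 : Fin 2) ≠ 1 := by decide
  obtain ⟨e₀, he₀, he₀0⟩ := hne 0
  have htrans : ∀ w ∈ W 0, w ≠ 0 → ∃ h ∈ H, ρ h e₀ = w := by
    intro u'' hu'' hu''0
    by_contra hno
    push Not at hno
    have hno' : ∀ h ∈ H, ρ h u'' ≠ e₀ := fun h hh e => hno h⁻¹ (inv_mem hh) (by rw [← e, inv_app])
    have ht0 : ρ t u'' ≠ 0 := fun e => hu''0 ((ρ t).injective (by rw [e, map_zero]))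
    have hK1 : ∀ h ∈ H, stab ρ (ρ h e₀) = stab ρ (ρ t u'') := by
      intro h hh
      refine hstabeq 0 1 h01 _ (hH h hh 0 e₀ he₀) _ (by simpa using htW 0 u'' hu'')
        (fun e => he₀0 ((ρ h).injective (by rw [e, map_zero]))) ht0 fun _ g hg => ?_
      by_cases hgH : g ∈ H
      · exact ht0 (hmem2 0 1 h01 _ (hg ▸ hH g hgH 0 _ (hH h hh 0 e₀ he₀)) (by simpa using htW 0 u'' hu''))
      · refine hno (t⁻¹ * g * h) (mul_mem (hHt g hgH) hh) ?_
        rw [mul_app, mul_app, hg, inv_app]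
    have hKe : stab ρ e₀ = stab ρ (ρ t u'') := by
      have := hK1 1 (one_mem H)
      rwa [map_one] at this
    have ht0' : ρ t e₀ ≠ 0 := fun e => he₀0 ((ρ t).injective (by rw [e, map_zero]))
    have hK2 : stab ρ u'' = stab ρ (ρ t e₀) := by
      refine hstabeq 0 1 h01 _ hu'' _ (by simpa using htW 0 e₀ he₀) hu''0 ht0' fun _ g hg => ?_
      by_cases hgH : g ∈ H
      · exact ht0' (hmem2 0 1 h01 _ (hg ▸ hH g hgH 0 _ hu'') (by simpa using htW 0 e₀ he₀))
      · refine hno' (t⁻¹ * g) (hHt g hgH) ?_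
        rw [mul_app, hg, inv_app]
    -- the span of the orbit is the whole block
    set U : Submodule (ZMod q) V := Submodule.span (ZMod q) {w | ∃ h ∈ H, ρ h e₀ = w} with hU
    have hUW : U ≤ W 0 := Submodule.span_le.2 (by rintro _ ⟨h, hh, rfl⟩; exact hH h hh 0 e₀ he₀)
    have hUinv : ∀ h ∈ H, ∀ w ∈ U, ρ h w ∈ U := by
      intro h hh w hw
      have hle : U ≤ U.comap (ρ h : V →ₗ[ZMod q] V) := Submodule.span_le.2 (by
        rintro _ ⟨h', hh', rfl⟩
        exact Submodule.subset_span ⟨h * h', mul_mem hh hh', mul_app ρ h h' e₀⟩)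
      exact hle hw
    have hUT : U ⊔ U.map (ρ t : V →ₗ[ZMod q] V) = ⊤ := by
      refine (hirr _ fun g w hw => ?_).resolve_left fun e => he₀0 ?_
      · obtain ⟨a, ha, _, ⟨b, hb, rfl⟩, rfl⟩ := Submodule.mem_sup.1 hw
        rw [map_add]
        by_cases hg : g ∈ H
        · refine add_mem (Submodule.mem_sup_left (hUinv g hg a ha))
            (Submodule.mem_sup_right ⟨ρ (t⁻¹ * g * t) b, hUinv _ ?_ b hb, ?_⟩)
          · simpa using hHn.conj_mem g hg t⁻¹
          · show ρ t (ρ (t⁻¹ * g * t) b) = ρ g (ρ t b)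
            rw [← mul_app, ← mul_app]; group
        · refine add_mem (Submodule.mem_sup_right ⟨ρ (t⁻¹ * g) a, hUinv _ (hHt g hg) a ha, ?_⟩)
            (Submodule.mem_sup_left ?_)
          · show ρ t (ρ (t⁻¹ * g) a) = ρ g a
            rw [← mul_app, mul_inv_cancel_left]
          · show ρ g (ρ t b) ∈ U
            rw [← mul_app]
            exact hUinv _ ((Subgroup.mul_mem_iff_of_index_two hidx).2
              ⟨fun h => absurd h hg, fun h => absurd h hg₀⟩) b hb
      · have : e₀ ∈ U ⊔ U.map (ρ t : V →ₗ[ZMod q] V) :=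
          Submodule.mem_sup_left (Submodule.subset_span ⟨1, one_mem H, by rw [map_one]; rfl⟩)
        rw [e, Submodule.mem_bot] at this
        exact this
    have hWU : W 0 ≤ U := by
      intro w hw
      obtain ⟨a, ha, _, ⟨b, hb, rfl⟩, e⟩ := Submodule.mem_sup.1 (hUT ▸ Submodule.mem_top : w ∈ U ⊔ _)
      have h1 : ρ t b ∈ W 1 := by simpa using htW 0 b (hUW hb)
      have h2 : ρ t b ∈ W 0 := by
        have := sub_mem hw (hUW ha)
        rwa [← e, add_sub_cancel_left] at this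
      have h3 : ρ t b = 0 := hmem2 0 1 h01 _ h2 h1
      rw [← e, show (ρ t : V →ₗ[ZMod q] V) b = ρ t b from rfl, h3, add_zero]
      exact ha
    have hfix0 : ∀ g ∈ stab ρ e₀, ∀ w ∈ W 0, ρ g w = w := by
      intro g hg w hw
      have hle : U ≤ fix ρ g := Submodule.span_le.2 (by
        rintro _ ⟨h, hh, rfl⟩
        have : g ∈ stab ρ (ρ h e₀) := by rw [hK1 h hh, ← hKe]; exact hg
        exact this)
      exact hle (hWU hw)
    have heq : stab ρ e₀ = stab ρ u'' :=
      Subgroup.eq_of_le_of_card_ge (fun g hg => hfix0 g hg u'' hu'') (by rw [hc e₀ he₀0, hc _ hu''0])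
    refine hfalse (stab ρ e₀) (hc e₀ he₀0) fun g hg i w hw => ?_
    rcases hfin2 i with rfl | rfl
    · exact hfix0 g hg w hw
    · have hg' : t⁻¹ * g * t ∈ stab ρ e₀ := by
        have : g ∈ stab ρ (ρ t e₀) := by rw [← hK2, ← heq]; exact hg
        show ρ (t⁻¹ * g * t) e₀ = e₀
        rw [mul_app, mul_app, show ρ g (ρ t e₀) = ρ t e₀ from this, inv_app]
      have := hfix0 _ hg' _ (htW' w hw)
      rw [← mul_app, show t⁻¹ * g * t * t⁻¹ = t⁻¹ * g by group, mul_app] at this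
      exact (ρ t⁻¹).injective this
  -- counting
  have hcardH : Nat.card H = (Nat.card (W 0) - 1) * c := by
    letI : MulAction H V :=
      { smul := fun g x => ρ (g : G) x
        one_smul := fun x => by show ρ ((1 : H) : G) x = x; rw [OneMemClass.coe_one, map_one]; rfl
        mul_smul := fun a b x => mul_app ρ (a : G) b x }
    rw [← Nat.card_congr (MulAction.orbitProdStabilizerEquivGroup H e₀), Nat.card_prod]
    congr 1
    · have e : MulAction.orbit H e₀ = ((W 0 : Set V) \ {0}) := by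
        ext w
        constructor
        · rintro ⟨h, rfl⟩
          exact ⟨hH h h.2 0 e₀ he₀, fun e => he₀0 ((ρ (h : G)).injective ((e : ρ (h : G) e₀ = 0).trans (map_zero _).symm))⟩
        · rintro ⟨hw, hw0⟩
          obtain ⟨h, hh, he⟩ := htrans w hw hw0
          exact ⟨⟨h, hh⟩, he⟩
      rw [e, Nat.card_coe_set_eq, Set.ncard_sdiff_singleton_of_mem (show (0 : V) ∈ (W 0 : Set V) from zero_mem _),
        ← Nat.card_coe_set_eq]
      rfl
    · refine (Nat.card_congr (Equiv.ofBijective (fun g : MulAction.stabilizer H e₀ => (⟨(g.1 : G), g.2⟩ : stab ρ e₀)) ⟨?_, ?_⟩)).trans (hc e₀ he₀0)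
      · intro a b h
        exact Subtype.ext (Subtype.ext (congrArg (fun x : stab ρ e₀ => (x : G)) h))
      · rintro ⟨g, hg⟩
        exact ⟨⟨⟨g, hstabH 0 e₀ he₀ he₀0 hg⟩, hg⟩, rfl⟩
  have hq3 : 3 ≤ q := by
    have h2 := (Fact.out : q.Prime).two_le
    omega
  obtain ⟨j, hj⟩ := IsPGroup.iff_card.1 (hG.to_subgroup H)
  obtain ⟨i, -, hi⟩ := (Nat.dvd_prime_pow Nat.prime_two).1 ⟨c, hj ▸ hcardH⟩
  set d := Module.finrank (ZMod q) (W 0) with hd
  have hW0card : Nat.card (W 0) = q ^ d := by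
    rw [Module.natCard_eq_pow_finrank (K := ZMod q) (V := W 0), Nat.card_zmod]
  have hW0two : 2 ≤ Nat.card (W 0) := by
    haveI : Nontrivial (W 0) := ⟨⟨⟨e₀, he₀⟩, 0, fun e => he₀0 (congrArg Subtype.val e)⟩⟩
    exact Finite.one_lt_card
  have hd1 : 1 ≤ d := by
    by_contra hlt
    rw [show d = 0 by omega, pow_zero] at hW0card
    omega
  have hVcard : Nat.card V = Nat.card (W 0) * Nat.card (W 0) := by
    let f : W 0 × W 0 → V := fun x => (x.1 : V) + ρ t (x.2 : V)
    have hbij : Function.Bijective f := by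
      refine ⟨fun x y hxy => ?_, fun v => ?_⟩
      · have h1 : (x.1 : V) + ρ t (x.2 : V) = (y.1 : V) + ρ t (y.2 : V) := hxy
        have e : (x.1 : V) - y.1 = ρ t (y.2 : V) - ρ t (x.2 : V) := by
          rw [sub_eq_sub_iff_add_eq_add, h1, add_comm]
        have h0 : (x.1 : V) - y.1 = 0 := hmem2 0 1 h01 _ (sub_mem x.1.2 y.1.2)
          (e ▸ sub_mem (by simpa using htW 0 _ y.2.2) (by simpa using htW 0 _ x.2.2))
        exact Prod.ext (Subtype.ext (sub_eq_zero.1 h0))
          (Subtype.ext ((ρ t).injective (sub_eq_zero.1 (e ▸ h0)).symm))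
      · have hv : v ∈ W 0 ⊔ W 1 := by
          refine (iSup_le ?_ : iSup W ≤ W 0 ⊔ W 1) (htop ▸ Submodule.mem_top)
          intro i
          rcases hfin2 i with rfl | rfl
          exacts [le_sup_left, le_sup_right]
        obtain ⟨a, ha, b, hb, rfl⟩ := Submodule.mem_sup.1 hv
        exact ⟨(⟨a, ha⟩, ⟨ρ t⁻¹ b, htW' b hb⟩), by show a + ρ t (ρ t⁻¹ b) = a + b; rw [app_inv]⟩
    rw [← Nat.card_prod, Nat.card_eq_of_bijective f hbij]
  rcases of_pow_eq_add_one hq3 hd1 (show q ^ d = 2 ^ i + 1 by omega) with hd' | ⟨hq, hd'⟩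
  swap
  · exact Or.inr ⟨by rw [hVcard, hW0card, hq, hd']; norm_num, hq, rfl⟩
  rw [hd', pow_one] at hW0card
  left
  refine ⟨by rw [hVcard, hW0card, sq], ⟨i, by omega⟩, ?_⟩
  -- coordinates
  have hline : ∀ w ∈ W 0, ∃ a : ZMod q, a • e₀ = w := by
    intro w hw
    let L : ZMod q → W 0 := fun a => ⟨a • e₀, Submodule.smul_mem _ a he₀⟩
    have hL : Function.Bijective L := by
      refine (Nat.bijective_iff_injective_and_card L).2 ⟨fun a b h => ?_, by rw [Nat.card_zmod, hW0card]⟩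
      have h' : a • e₀ = b • e₀ := congrArg Subtype.val h
      rw [← sub_eq_zero, ← sub_smul] at h'
      exact sub_eq_zero.1 ((smul_eq_zero.1 h').resolve_right he₀0)
    obtain ⟨a, ha⟩ := hL.2 ⟨w, hw⟩
    exact ⟨a, congrArg Subtype.val ha⟩
  have hswap : ∀ v₁ ∈ W 1, v₁ ≠ 0 → Nat.card (stab ρ e₀) = 2 ∧ ∃ g, g ∉ H ∧ ρ g e₀ = v₁ ∧ ρ g v₁ = e₀ := by
    intro v₁ hv₁ hv₁0
    have hne0 : e₀ + v₁ ≠ 0 := fun h => he₀0 (hmem2 0 1 h01 _ he₀ (eq_neg_of_add_eq_zero_left h ▸ neg_mem hv₁))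
    have hinterH : ∀ g ∈ stab ρ (e₀ + v₁), g ∈ H → g = 1 := by
      intro g hg hgH
      rcases hsum g 0 1 h01 e₀ he₀ v₁ hv₁ he₀0 hv₁0 hg with ⟨-, h1, h2⟩ | ⟨h, -⟩
      swap
      · exact absurd hgH h
      refine eq_one_of_forall ρ hρ fun v => ?_
      have hv : v ∈ W 0 ⊔ W 1 := by
        refine (iSup_le ?_ : iSup W ≤ W 0 ⊔ W 1) (htop ▸ Submodule.mem_top)
        intro i
        rcases hfin2 i with rfl | rfl
        exacts [le_sup_left, le_sup_right]
      obtain ⟨a, ha, b, hb, rfl⟩ := Submodule.mem_sup.1 hv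
      obtain ⟨r, rfl⟩ := hline a ha
      obtain ⟨r', hr'⟩ := hline (ρ t⁻¹ v₁) (htW' v₁ hv₁)
      obtain ⟨s, hs⟩ := hline (ρ t⁻¹ b) (htW' b hb)
      have hr'0 : r' ≠ 0 := fun e => hv₁0 ((ρ t⁻¹).injective (by rw [← hr', e, zero_smul, map_zero]))
      have hb' : b = (s * r'⁻¹) • v₁ := by
        refine (ρ t⁻¹).injective ?_
        rw [map_smul, ← hr', smul_smul, mul_assoc, inv_mul_cancel₀ hr'0, mul_one, hs]
      rw [map_add, hb', map_smul, map_smul, h1, h2]
    have hcle : Nat.card (stab ρ (e₀ + v₁)) ≤ 2 := by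
      let F : stab ρ (e₀ + v₁) → Bool := fun g => decide ((g : G) ∈ H)
      have hF : Function.Injective F := by
        intro a b h
        have hm : (a : G)⁻¹ * (b : G) ∈ H := (Subgroup.mul_mem_iff_of_index_two hidx).2 (by
          rw [inv_mem_iff]; exact decide_eq_decide.1 h)
        exact Subtype.ext (inv_mul_eq_one.1 (hinterH _ (mul_mem (inv_mem a.2) b.2) hm))
      exact (Nat.card_le_card_of_injective F hF).trans (by simp)
    have hcpos : 0 < Nat.card (stab ρ (e₀ + v₁)) := Nat.card_pos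
    have hc2 : c = 2 := by rw [hc _ hne0] at hcle hcpos; omega
    refine ⟨(hc e₀ he₀0).trans hc2, ?_⟩
    obtain ⟨g, hg, hg1⟩ : ∃ g ∈ stab ρ (e₀ + v₁), g ≠ 1 := by
      by_contra h
      push Not at h
      have := Subgroup.card_eq_one.2 (le_bot_iff.1 fun g hg => Subgroup.mem_bot.2 (h g hg) : stab ρ (e₀ + v₁) = ⊥)
      rw [hc _ hne0, hc2] at this
      omega
    rcases hsum g 0 1 h01 e₀ he₀ v₁ hv₁ he₀0 hv₁0 hg with ⟨h, -⟩ | ⟨h, -, h1, h2⟩
    · exact absurd (hinterH g hg h) hg1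
    · exact ⟨g, h, h1, h2⟩
  have hte : ρ t e₀ ∈ W 1 := by simpa using htW 0 e₀ he₀
  have hte0 : ρ t e₀ ≠ 0 := fun e => he₀0 ((ρ t).injective (by rw [e, map_zero]))
  set e₁ := ρ t e₀ with he₁def
  obtain ⟨hc2, t₁, ht₁H, ht₁a, ht₁b⟩ := hswap e₁ hte hte0
  have hline1 : ∀ w ∈ W 1, ∃ a : ZMod q, a • e₁ = w := by
    intro w hw
    obtain ⟨a, ha⟩ := hline _ (htW' w hw)
    exact ⟨a, by rw [he₁def, ← map_smul, ha, app_inv]⟩
  let L : (Fin 2 → ZMod q) →ₗ[ZMod q] V :=
    (LinearMap.proj (R := ZMod q) (φ := fun _ : Fin 2 => ZMod q) 0).smulRight e₀ +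
      (LinearMap.proj (R := ZMod q) (φ := fun _ : Fin 2 => ZMod q) 1).smulRight e₁
  have hLapp : ∀ v, L v = v 0 • e₀ + v 1 • e₁ := fun v => rfl
  have hLbij : Function.Bijective L := by
    refine (Nat.bijective_iff_injective_and_card L).2 ⟨?_, ?_⟩
    · rw [injective_iff_map_eq_zero]
      intro v hv
      rw [hLapp, add_eq_zero_iff_eq_neg] at hv
      have h0 : v 0 • e₀ = 0 := hmem2 0 1 h01 _ (Submodule.smul_mem _ _ he₀) (hv ▸ neg_mem (Submodule.smul_mem _ _ hte))
      rw [h0, eq_comm, neg_eq_zero] at hv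
      funext k
      rcases hfin2 k with rfl | rfl
      · exact (smul_eq_zero.1 h0).resolve_right he₀0
      · exact (smul_eq_zero.1 hv).resolve_right hte0
    · rw [hVcard, hW0card, Nat.card_fun, Nat.card_zmod, Nat.card_fin, sq]
  let E := LinearEquiv.ofBijective L hLbij
  refine ⟨E.symm, fun f => ?_⟩
  have hEapp : ∀ v, E v = v 0 • e₀ + v 1 • e₁ := hLapp
  have hform : ∀ (g : G) (a b : ZMod q), ρ g e₀ = a • e₀ → ρ g e₁ = b • e₁ →
      ∀ v, (E.trans ((ρ g).trans E.symm)) v = ![a * v 0, b * v 1] := by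
    intro g a b ha hb v
    show E.symm (ρ g (E v)) = _
    rw [LinearEquiv.symm_apply_eq, hEapp, hEapp, map_add, map_smul, map_smul, ha, hb, smul_smul, smul_smul]
    simp [mul_comm]
  have hform' : ∀ (g : G) (a b : ZMod q), ρ g e₀ = a • e₁ → ρ g e₁ = b • e₀ →
      ∀ v, (E.trans ((ρ g).trans E.symm)) v = ![b * v 1, a * v 0] := by
    intro g a b ha hb v
    show E.symm (ρ g (E v)) = _
    rw [LinearEquiv.symm_apply_eq, hEapp, hEapp, map_add, map_smul, map_smul, ha, hb, smul_smul, smul_smul, add_comm]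
    simp [mul_comm]
  have hdiag : ∀ a : ZMod q, a ≠ 0 → ∃ g ∈ H, ρ g e₀ = a • e₀ ∧ ρ g e₁ = a⁻¹ • e₁ := by
    intro a ha
    obtain ⟨-, g, hgH, hg1, hg2⟩ := hswap (a • e₁) (Submodule.smul_mem _ _ hte) (smul_ne_zero ha hte0)
    refine ⟨t₁ * g, (Subgroup.mul_mem_iff_of_index_two hidx).2 ⟨fun h => absurd h ht₁H, fun h => absurd h hgH⟩, ?_, ?_⟩
    · rw [mul_app, hg1, map_smul, ht₁b]
    · rw [map_smul] at hg2
      have hge : ρ g e₁ = a⁻¹ • e₀ := by rw [← hg2, smul_smul, inv_mul_cancel₀ ha, one_smul]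
      rw [mul_app, hge, map_smul, ht₁a]
  obtain ⟨h₀, hh₀s, hh₀1⟩ : ∃ h ∈ stab ρ e₀, h ≠ 1 := by
    by_contra h
    push Not at h
    have := Subgroup.card_eq_one.2 (le_bot_iff.1 fun g hg => Subgroup.mem_bot.2 (h g hg) : stab ρ e₀ = ⊥)
    rw [hc2] at this
    omega
  have hsign : ∀ h ∈ stab ρ e₀, ∃ s : ZMod q, (s = 1 ∨ s = -1) ∧ ρ h e₁ = s • e₁ ∧ (h ≠ 1 → s = -1) := by
    intro h hh
    obtain ⟨s, hs⟩ := hline1 (ρ h e₁) (hH h (hstabH 0 e₀ he₀ he₀0 hh) 1 e₁ hte)
    have h2 : h ^ 2 = 1 := by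
      have h3 : (⟨h, hh⟩ : stab ρ e₀) ^ Nat.card (stab ρ e₀) = 1 := pow_card_eq_one'
      rw [hc2] at h3
      exact congrArg Subtype.val h3
    have hs2 : s * s = 1 := by
      have e : (s * s) • e₁ = (1 : ZMod q) • e₁ := by
        rw [one_smul, ← smul_smul, hs, ← map_smul, hs, ← mul_app, ← sq, h2, map_one]; rfl
      rw [← sub_eq_zero, ← sub_smul] at e
      exact sub_eq_zero.1 ((smul_eq_zero.1 e).resolve_right hte0)
    have hs' := mul_self_eq_one_iff.1 hs2
    refine ⟨s, hs', hs.symm, fun hne1 => hs'.resolve_left fun e => hne1 (eq_one_of_forall ρ hρ fun v => ?_)⟩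
    obtain ⟨x, rfl⟩ := E.surjective v
    rw [hEapp, map_add, map_smul, map_smul, show ρ h e₀ = e₀ from hh, ← hs, e, one_smul]
  obtain ⟨s₀, -, hs₀, hs₀'⟩ := hsign h₀ hh₀s
  obtain rfl := hs₀' hh₀1
  constructor
  · rintro ⟨g, rfl⟩
    have hHform : ∀ h ∈ H, ∃ a s : ZMod q, a ≠ 0 ∧ (s = 1 ∨ s = -1) ∧ ρ h e₀ = a • e₀ ∧ ρ h e₁ = (s * a⁻¹) • e₁ := by
      intro h hh
      obtain ⟨a, ha⟩ := hline (ρ h e₀) (hH h hh 0 e₀ he₀)
      have ha0 : a ≠ 0 := fun e => he₀0 ((ρ h).injective (by rw [← ha, e, zero_smul, map_zero]))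
      obtain ⟨d, hd, hd0, hd1⟩ := hdiag a ha0
      have hs : d⁻¹ * h ∈ stab ρ e₀ := by
        show ρ (d⁻¹ * h) e₀ = e₀
        rw [mul_app, ← ha, ← hd0, inv_app]
      obtain ⟨s, hs', hse, -⟩ := hsign _ hs
      refine ⟨a, s, ha0, hs', ha.symm, ?_⟩
      rw [mul_app] at hse
      have := congrArg (ρ d) hse
      rw [app_inv, map_smul, hd1, smul_smul] at this
      exact this
    by_cases hg : g ∈ H
    · obtain ⟨a, s, ha0, hs, h0, h1⟩ := hHform g hg
      exact ⟨a, s, ha0, hs, Or.inl (hform g a (s * a⁻¹) h0 h1)⟩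
    · have hh : t₁⁻¹ * g ∈ H := (Subgroup.mul_mem_iff_of_index_two hidx).2
        ⟨fun h => absurd (inv_mem_iff.1 h) ht₁H, fun h => absurd h hg⟩
      obtain ⟨a, s, ha0, hs, h0, h1⟩ := hHform _ hh
      refine ⟨a, s, ha0, hs, Or.inr (hform' g a (s * a⁻¹) ?_ ?_)⟩
      · rw [← mul_inv_cancel_left t₁ g, mul_app, h0, map_smul, ht₁a]
      · rw [← mul_inv_cancel_left t₁ g, mul_app, h1, map_smul, ht₁b]
  · rintro ⟨a, s, ha0, hs, hf⟩
    obtain ⟨d, hd, hd0, hd1⟩ := hdiag a ha0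
    obtain ⟨g', hg0, hg1⟩ : ∃ g', ρ g' e₀ = a • e₀ ∧ ρ g' e₁ = (s * a⁻¹) • e₁ := by
      rcases hs with rfl | rfl
      · exact ⟨d, hd0, by rw [one_mul]; exact hd1⟩
      · refine ⟨d * h₀, by rw [mul_app, show ρ h₀ e₀ = e₀ from hh₀s, hd0], ?_⟩
        rw [mul_app, hs₀, map_smul, hd1, smul_smul]
    rcases hf with hf | hf
    · exact ⟨g', LinearEquiv.ext fun v => (hf v).trans (hform g' a (s * a⁻¹) hg0 hg1 v).symm⟩
    · refine ⟨t₁ * g', LinearEquiv.ext fun v => (hf v).trans (hform' (t₁ * g') a (s * a⁻¹) ?_ ?_ v).symm⟩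
      · rw [mul_app, hg0, map_smul, ht₁a]
      · rw [mul_app, hg1, map_smul, ht₁b]

end Linear


/-- Let q be a prime, V a non-trivial finite vector space over the field with q elements, and G a finite p-group (p prime) acting faithfully and linearly on V such that all G-orbits on the non-zero vectors have the same size. Then one of the following holds: G is cyclic or generalized quaternion and acts semiregularly on the non-zero vectors; or V has q² elements with q = 2^m − 1 and G is dihedral of order 2^(m+1) or semidihedral of order 2^(m+2); or V has q² elements with q = 2^m + 1 and, in suitable coordinates V = F_q², G is exactly the group of maps (x, y) ↦ (a x, ± a⁻¹ y) and (x, y) ↦ (± a⁻¹ y, a x) with a ≠ 0; or V has 81 elements (q = 3) and G is a 2-group. -/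
theorem result (q : ℕ) [Fact q.Prime] {V : Type*} [AddCommGroup V] [Module (ZMod q) V] [Finite V] [Nontrivial V]
    {G : Type*} [Group G] [Finite G] (p : ℕ) [Fact p.Prime] (hG : IsPGroup p G)
    (ρ : G →* (V ≃ₗ[ZMod q] V)) (hρ : Function.Injective ρ)
    (hhalf : ∀ v w : V, v ≠ 0 → w ≠ 0 → Nat.card {u : V | ∃ g : G, ρ g v = u} = Nat.card {u : V | ∃ g : G, ρ g w = u}) :
    ((IsCyclic G ∨ ∃ n : ℕ, Nonempty (G ≃* QuaternionGroup n)) ∧ ∀ v : V, v ≠ 0 → ∀ g : G, ρ g v = v → g = 1) ∨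
    (Nat.card V = q ^ 2 ∧ ∃ m : ℕ, q = 2 ^ m - 1 ∧
      (Nonempty (G ≃* DihedralGroup (2 ^ m)) ∨ (Cfsg.IsQuasiDihedral G ∧ Nat.card G = 2 ^ (m + 2)))) ∨
    (Nat.card V = q ^ 2 ∧ (∃ m : ℕ, q = 2 ^ m + 1) ∧
      ∃ e : V ≃ₗ[ZMod q] (Fin 2 → ZMod q), ∀ f : (Fin 2 → ZMod q) ≃ₗ[ZMod q] (Fin 2 → ZMod q),
        (∃ g : G, f = e.symm.trans ((ρ g).trans e)) ↔
        ∃ a s : ZMod q, a ≠ 0 ∧ (s = 1 ∨ s = -1) ∧
          ((∀ v, f v = ![a * v 0, s * a⁻¹ * v 1]) ∨ (∀ v, f v = ![s * a⁻¹ * v 1, a * v 0]))) ∨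
    (Nat.card V = 81 ∧ q = 3 ∧ p = 2) := by
  classical
  obtain ⟨v₀, hv₀⟩ := exists_ne (0 : V)
  set c := Nat.card (stab ρ v₀) with hcdef
  have hc : ∀ v : V, v ≠ 0 → Nat.card (stab ρ v) = c := fun v hv => stab_card ρ hhalf hv hv₀
  let φ : G →* MulAut (Multiplicative V) := MonoidHom.mk'
    (fun g => AddEquiv.toMultiplicative (ρ g).toAddEquiv) fun g h => MulEquiv.ext fun v =>
      congrArg Multiplicative.ofAdd (mul_app ρ g h v.toAdd)
  haveI : Finite (Multiplicative V) := Finite.of_equiv _ Multiplicative.ofAdd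
  haveI : Nontrivial (Multiplicative V) := Multiplicative.ofAdd.symm.nontrivial
  by_cases hc1 : c = 1
  · refine Or.inl ⟨?_, fun v hv g hg => ?_⟩
    · have hφ : Frobenius.Fpf.IsFpf φ := fun g hg v hv => by
        by_contra h1
        refine hg ?_
        have h0 : v.toAdd ≠ 0 := fun e => h1 (congrArg Multiplicative.ofAdd e)
        have hm : g ∈ stab ρ v.toAdd := congrArg Multiplicative.toAdd hv
        rw [Subgroup.card_eq_one.1 ((hc _ h0).trans hc1), Subgroup.mem_bot] at hm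
        exact hm
      rcases PGroup.cyclic_or_quaternion_of_unique hG (fun X Y hX hY =>
        Frobenius.Fpf.eq_of_card_eq_prime hφ hG hX hY) with h | ⟨-, n, -, -, h⟩
      · exact Or.inl h
      · exact Or.inr ⟨_, h⟩
    · have hm : g ∈ stab ρ v := hg
      rw [Subgroup.card_eq_one.1 ((hc _ hv).trans hc1), Subgroup.mem_bot] at hm
      exact hm
  right
  have hirr : ∀ W : Submodule (ZMod q) V, (∀ g : G, ∀ w ∈ W, ρ g w ∈ W) → W = ⊥ ∨ W = ⊤ := by
    intro W hW
    letI : MulDistribMulAction G (Multiplicative V) := MulDistribMulAction.compHom _ φ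
    haveI : FaithfulSMul G (Multiplicative V) := ⟨fun {g h} hgh => hρ (LinearEquiv.ext fun v =>
      congrArg Multiplicative.toAdd (hgh (Multiplicative.ofAdd v)))⟩
    let M : Subgroup (Multiplicative V) := AddSubgroup.toSubgroup W.toAddSubgroup
    rcases S3356.irreducible (H := G) (N := Multiplicative V) (c := c) (fun x hx => by
        rw [← hc x.toAdd fun e => hx (congrArg Multiplicative.ofAdd e)]
        exact Nat.card_congr (Equiv.subtypeEquivRight fun g =>
          ⟨fun h => congrArg Multiplicative.toAdd h, fun h => congrArg Multiplicative.ofAdd h⟩))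
      hc1 M (fun g m hm => hW g _ hm) with h | h
    · left
      refine (Submodule.eq_bot_iff _).2 fun w hw => ?_
      have : Multiplicative.ofAdd w ∈ M := hw
      rw [h, Subgroup.mem_bot] at this
      exact congrArg Multiplicative.toAdd this
    · right
      refine Submodule.eq_top_iff'.2 fun w => ?_
      have : Multiplicative.ofAdd w ∈ M := h ▸ Subgroup.mem_top _
      exact this
  have hp : p.Prime := Fact.out
  have hpq : p ≠ q := by
    rintro rfl
    apply hc1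
    letI : MulAction G V := MulAction.compHom V ρ
    have hd : p ∣ Nat.card V := by
      have h1 : p • v₀ = 0 := by rw [← Nat.cast_smul_eq_nsmul (ZMod p), ZMod.natCast_self, zero_smul]
      exact addOrderOf_eq_prime h1 hv₀ ▸ addOrderOf_dvd_natCard v₀
    obtain ⟨b, hb, hb0⟩ := hG.exists_fixed_point_of_prime_dvd_card_of_fixed_point V hd (a := (0 : V))
      (fun g => map_zero (ρ g))
    have htop : stab ρ b = ⊤ := (Subgroup.eq_top_iff' _).2 fun g => hb g
    have hall : ∀ g : G, g = 1 := fun g => eq_one_of_forall ρ hρ fun v => by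
      by_cases hv : v = 0
      · rw [hv, map_zero]
      · have : stab ρ v = ⊤ := Subgroup.eq_top_of_le_card _ (by rw [hc v hv, ← hc b hb0.symm, htop, Subgroup.card_top])
        exact (this ▸ Subgroup.mem_top g : g ∈ stab ρ v)
    exact Subgroup.card_eq_one.2 (le_bot_iff.1 fun g _ => Subgroup.mem_bot.2 (hall g))
  have hinvol : ∀ g : G, g ∈ stab ρ v₀ → g ∈ Subgroup.center G → g = 1 := fun g hg hgc =>
    central_eq_one hρ hirr hgc hv₀ hg
  have hnab : ∃ x y : G, x * y ≠ y * x := by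
    by_contra hab
    push Not at hab
    exact hc1 (Subgroup.card_eq_one.2 (le_bot_iff.1 fun g hg =>
      Subgroup.mem_bot.2 (hinvol g hg (Subgroup.mem_center_iff.2 fun h => hab h g))))
  have hnc : ¬ IsCyclic G := fun h => by
    obtain ⟨x, y, hxy⟩ := hnab
    exact hxy ((IsCyclic.isMulCommutative (α := G)).is_comm.comm x y)
  have hnq : ∀ n : ℕ, ¬ Nonempty (G ≃* QuaternionGroup n) := by
    rintro n ⟨E⟩
    have hn : n ≠ 0 := by
      rintro rfl
      haveI : Finite (QuaternionGroup 0) := Finite.of_equiv G E.toEquiv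
      haveI : Finite (DihedralGroup 0) := Finite.of_equiv _ QuaternionGroup.quaternionGroupZeroEquivDihedralGroupZero.toEquiv
      have h0 := Nat.card_pos (α := DihedralGroup 0)
      rw [DihedralGroup.nat_card] at h0
      omega
    haveI : NeZero n := ⟨hn⟩
    obtain ⟨k, hk⟩ := IsPGroup.iff_card.1 hG
    have hcard : Nat.card G = 4 * n := by
      rw [Nat.card_congr E.toEquiv, Nat.card_eq_fintype_card, QuaternionGroup.card]
    have hp2 : p = 2 := ((Nat.prime_dvd_prime_iff_eq Nat.prime_two hp).1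
      (Nat.prime_two.dvd_of_dvd_pow (hk ▸ hcard ▸ (show 2 ∣ 4 * n from ⟨2 * n, by ring⟩)))).symm
    subst hp2
    haveI : Nontrivial (stab ρ v₀) := Finite.one_lt_card_iff_nontrivial.1 (by
      have : 0 < Nat.card (stab ρ v₀) := Nat.card_pos
      omega)
    obtain ⟨j, hj⟩ := IsPGroup.iff_card.1 (hG.to_subgroup (stab ρ v₀))
    obtain ⟨⟨y, hy⟩, hy2⟩ := exists_prime_orderOf_dvd_card' (G := stab ρ v₀) 2 (hj ▸ dvd_pow_self 2 (fun e => by
      subst e
      rw [pow_zero] at hj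
      exact hc1 hj))
    rw [Subgroup.orderOf_mk] at hy2
    refine absurd (hinvol y hy (Subgroup.mem_center_iff.2 fun g => E.injective ?_)) (fun e => by rw [e, orderOf_one] at hy2; omega)
    rw [map_mul, map_mul]
    rcases hEy : E y with i | i
    · have h1 : (QuaternionGroup.a i : QuaternionGroup n) ^ 2 = 1 := by
        rw [← hEy, ← map_pow, ← hy2, pow_orderOf_eq_one, map_one]
      rw [sq, QuaternionGroup.a_mul_a, QuaternionGroup.one_def, QuaternionGroup.a.injEq] at h1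
      rcases E g with j | j
      · rw [QuaternionGroup.a_mul_a, QuaternionGroup.a_mul_a, add_comm]
      · rw [QuaternionGroup.xa_mul_a, QuaternionGroup.a_mul_xa]
        congr 1
        linear_combination h1
    · have h1 := QuaternionGroup.orderOf_xa (n := n) i
      rw [← hEy, MulEquiv.orderOf_eq, hy2] at h1
      omega
  by_cases hD : (∃ n, Nonempty (G ≃* DihedralGroup n)) ∨ Cfsg.IsQuasiDihedral G
  · exact Or.inl (dihedral_case hρ hirr hG hpq hc hc1 hnab hD)
  push Not at hD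
  obtain ⟨H, W, hidx, htop, hind, hH, hker, hperm⟩ := S3380.result q p hG ρ hρ hirr hnc hnq
    (fun n h => by first | exact hD.1 n h | exact h.elim fun e => (hD.1 n).false e) hD.2
  exact Or.inr (decomposition_case hρ hirr hG hpq hc H W hidx htop hind hH hker hperm)

end Cfsg.Agent.S3371
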