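import Cfsg.Statements.S3374
-- import your own Cfsg.Agent.* helpers here

set_option autoImplicit false
open Cfsg

namespace Cfsg.Agent.S3374

abbrev Q (p : ℕ) := ZMod p × ZMod p × ZMod p × ZMod p

def qmul {p : ℕ} (x y : Q p) : Q p :=
  (x.1 * y.1 + x.2.1 * y.2.2.1, x.1 * y.2.1 + x.2.1 * y.2.2.2,
   x.2.2.1 * y.1 + x.2.2.2 * y.2.2.1, x.2.2.1 * y.2.1 + x.2.2.2 * y.2.2.2)

def qpow {p : ℕ} (x : Q p) : ℕ → Q p
  | 0 => (1, 0, 0, 1)
  | n + 1 => qmul (qpow x n) x

/-- Packed table: for each of the 625 matrices over `ZMod 5` the exponents of a word `T^i S T^j S T^k S T^l`. -/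
def tbl : ℕ := 18279782609188197387053516823990890835340939978823992961153912360576483139816771619175276255389291764587363274693570496993570994651765066340920718849018791241416118243026667959691503615442973092858966753400190556389842423185219212096429531127813595467234932645919193434088721871979382897012049603306507128061681151932113730642234184830798423758739430229912554594975790849529395283196695626864201959475230399952985203089535903419036473142172707366797845350939747359783498503670480145321549614480892421265942347221868632515133615986052073278346183916067455401842362013373622738767380304795114470459624466071543893900382878272689613918189303909355397519597157081035489078728736403409677954386724944174230992041755150855619610000007844167312784308210272582909177470005970803303309688856816385748362179313879138432699579267061413164732079522501800675323506929071215720433787659550776073955264641143360967898951039480368830994429013929848448504861001321345613275357323345015009407474001844040437912150518017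529127501397922741812955281245226237379089534658039148983530606485569271937737067672028671939224634856425346111316795933319425859214442370252564792395875064663425658570602405469388995734851418119611496506030419908019470488622361383204940381459730640599643472035549661225423787284160885629221074470111767071659363854571860091033824448717248604552606445509455186216258633231814616670920103074430739054038525394162830800317096208666058544113951157658638608463732983949404919616617494667145639637714394810534466967857359846648356265028062405075729623474798352859981326568930077644672195027679155649238844255418601492093523951322115933417743133396113363953904043240539031148460020424780993710672328129271391538601799893037046379594845335612098462775759198011890305197446564939754388893002108764341213364469804841731348363304003153943202444725417887894346481132922634441169154605056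

def idx (g : Q 5) : ℕ := ((g.1.val * 5 + g.2.1.val) * 5 + g.2.2.1.val) * 5 + g.2.2.2.val

def word {p : ℕ} (S T : Q p) (c : ℕ) : Q p :=
  qmul (qmul (qmul (qmul (qmul (qmul (qpow T (c / 125)) S) (qpow T (c / 25 % 5))) S) (qpow T (c / 5 % 5))) S) (qpow T (c % 5))

def wd (g : Q 5) : ℕ := (tbl >>> (10 * idx g)) % 1024

def F (g : Q 5) : Q 11 := word (0, 10, 1, 0) (1, 4, 3, 2) (wd g)

theorem table : ∀ a b c d : ZMod 5, a * d - b * c = 1 →
    word (p := 5) (0, 4, 1, 0) (1, 1, 0, 1) (wd (a, b, c, d)) = (a, b, c, d) ∧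
    (F (a, b, c, d)).1 * (F (a, b, c, d)).2.2.2 - (F (a, b, c, d)).2.1 * (F (a, b, c, d)).2.2.1 = 1 ∧
    (F (a, b, c, d) = (1, 0, 0, 1) → (a, b, c, d) = (1, 0, 0, 1)) ∧
    F (qmul (a, b, c, d) (0, 4, 1, 0)) = qmul (F (a, b, c, d)) (0, 10, 1, 0) ∧
    F (qmul (a, b, c, d) (1, 1, 0, 1)) = qmul (F (a, b, c, d)) (1, 4, 3, 2) := by
  decide +kernel

theorem det_qmul {p : ℕ} (x y : Q p) :
    (qmul x y).1 * (qmul x y).2.2.2 - (qmul x y).2.1 * (qmul x y).2.2.1 =
      (x.1 * x.2.2.2 - x.2.1 * x.2.2.1) * (y.1 * y.2.2.2 - y.2.1 * y.2.2.1) := by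
  simp only [qmul]; ring

theorem qmul_assoc {p : ℕ} (x y z : Q p) : qmul (qmul x y) z = qmul x (qmul y z) := by
  simp only [qmul, Prod.mk.injEq]
  refine ⟨?_, ?_, ?_, ?_⟩ <;> ring

theorem qmul_one {p : ℕ} (x : Q p) : qmul x (1, 0, 0, 1) = x := by
  obtain ⟨a, b, c, d⟩ := x; simp [qmul]

abbrev IsSL {p : ℕ} (g : Q p) : Prop := g.1 * g.2.2.2 - g.2.1 * g.2.2.1 = 1

/-- `h` is good when `F` respects right multiplication by `h`. -/
def Good (h : Q 5) : Prop :=
  IsSL h ∧ ∀ g : Q 5, IsSL g → F (qmul g h) = qmul (F g) (F h)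

theorem Good.mul {h k : Q 5} (hh : Good h) (hk : Good k) : Good (qmul h k) := by
  refine ⟨by rw [IsSL, det_qmul, hh.1, hk.1, mul_one], fun g hg => ?_⟩
  have hgh : IsSL (qmul g h) := by rw [IsSL, det_qmul, hg, hh.1, mul_one]
  rw [← qmul_assoc, hk.2 _ hgh, hh.2 g hg, qmul_assoc, hk.2 h hh.1]

theorem good_one : Good (1, 0, 0, 1) := by
  refine ⟨by decide, fun g _ => ?_⟩
  rw [qmul_one, show F (1, 0, 0, 1) = ((1, 0, 0, 1) : Q 11) by decide +kernel, qmul_one]

theorem good_S : Good (0, 4, 1, 0) := by
  refine ⟨by decide, fun g hg => ?_⟩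
  rw [show F (0, 4, 1, 0) = ((0, 10, 1, 0) : Q 11) by decide +kernel]
  exact (table _ _ _ _ hg).2.2.2.1

theorem good_T : Good (1, 1, 0, 1) := by
  refine ⟨by decide, fun g hg => ?_⟩
  rw [show F (1, 1, 0, 1) = ((1, 4, 3, 2) : Q 11) by decide +kernel]
  exact (table _ _ _ _ hg).2.2.2.2

theorem good_pow : ∀ n : ℕ, Good (qpow (1, 1, 0, 1) n)
  | 0 => good_one
  | n + 1 => (good_pow n).mul good_T

theorem F_mul (g h : Q 5) (hg : IsSL g) (hh : IsSL h) : F (qmul g h) = qmul (F g) (F h) := by
  have hgood : Good h := by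
    obtain ⟨a, b, c, d⟩ := h
    rw [← (table a b c d hh).1]
    exact ((((((good_pow _).mul good_S).mul (good_pow _)).mul good_S).mul (good_pow _)).mul good_S).mul (good_pow _)
  exact hgood.2 g hg

def ofSL {p : ℕ} (A : Matrix.SpecialLinearGroup (Fin 2) (ZMod p)) : Q p :=
  (A.1 0 0, A.1 0 1, A.1 1 0, A.1 1 1)

theorem isSL_ofSL {p : ℕ} (A : Matrix.SpecialLinearGroup (Fin 2) (ZMod p)) : IsSL (ofSL A) :=
  (Matrix.det_fin_two A.1).symm.trans A.2

theorem ofSL_mul {p : ℕ} (A B : Matrix.SpecialLinearGroup (Fin 2) (ZMod p)) :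
    ofSL (A * B) = qmul (ofSL A) (ofSL B) := by
  simp [ofSL, qmul, Matrix.mul_apply, Fin.sum_univ_two]

theorem ofSL_injective {p : ℕ} : Function.Injective (ofSL (p := p)) := by
  intro A B h
  simp only [ofSL, Prod.mk.injEq] at h
  obtain ⟨h1, h2, h3, h4⟩ := h
  ext i j; fin_cases i <;> fin_cases j <;> assumption

theorem ofSL_one {p : ℕ} : ofSL (1 : Matrix.SpecialLinearGroup (Fin 2) (ZMod p)) = (1, 0, 0, 1) := by
  simp [ofSL]

def toSL {p : ℕ} (g : Q p) (h : IsSL g) : Matrix.SpecialLinearGroup (Fin 2) (ZMod p) :=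
  ⟨!![g.1, g.2.1; g.2.2.1, g.2.2.2], by rw [Matrix.det_fin_two_of]; exact h⟩

theorem ofSL_toSL {p : ℕ} (g : Q p) (h : IsSL g) : ofSL (toSL g h) = g := by
  simp [ofSL, toSL]

noncomputable def embed : Matrix.SpecialLinearGroup (Fin 2) (ZMod 5) →* Matrix.SpecialLinearGroup (Fin 2) (ZMod 11) :=
  MonoidHom.mk' (fun A => toSL (F (ofSL A)) (table _ _ _ _ (isSL_ofSL A)).2.1) fun A B => ofSL_injective <| by
    rw [ofSL_toSL, ofSL_mul, ofSL_mul, ofSL_toSL, ofSL_toSL, F_mul _ _ (isSL_ofSL A) (isSL_ofSL B)]

theorem embed_injective : Function.Injective embed := by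
  rw [injective_iff_map_eq_one]
  intro A hA
  have h : ofSL (embed A) = (1, 0, 0, 1) := by rw [hA, ofSL_one]
  simp only [embed, MonoidHom.mk'_apply, ofSL_toSL] at h
  exact ofSL_injective (((table _ _ _ _ (isSL_ofSL A)).2.2.1 h).trans ofSL_one.symm)

abbrev V := Multiplicative (ZMod 11 × ZMod 11)

/-- The action of `SL(2,11)` on the plane. -/
def act (A : Matrix.SpecialLinearGroup (Fin 2) (ZMod 11)) : MulAut V where
  toFun v := .ofAdd (A.1 0 0 * v.toAdd.1 + A.1 0 1 * v.toAdd.2, A.1 1 0 * v.toAdd.1 + A.1 1 1 * v.toAdd.2)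
  invFun v := .ofAdd (A.1 1 1 * v.toAdd.1 - A.1 0 1 * v.toAdd.2, - A.1 1 0 * v.toAdd.1 + A.1 0 0 * v.toAdd.2)
  left_inv v := by
    have := isSL_ofSL A
    simp only [ofSL, IsSL] at this
    apply Multiplicative.toAdd.injective
    simp only [toAdd_ofAdd]
    refine Prod.ext ?_ ?_
    · linear_combination v.toAdd.1 * this
    · linear_combination v.toAdd.2 * this
  right_inv v := by
    have := isSL_ofSL A
    simp only [ofSL, IsSL] at this
    apply Multiplicative.toAdd.injective
    simp only [toAdd_ofAdd]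
    refine Prod.ext ?_ ?_
    · linear_combination v.toAdd.1 * this
    · linear_combination v.toAdd.2 * this
  map_mul' v w := by
    apply Multiplicative.toAdd.injective
    simp only [toAdd_ofAdd, toAdd_mul, Prod.fst_add, Prod.snd_add, Prod.mk_add_mk]
    refine Prod.ext ?_ ?_ <;> ring

def actHom : Matrix.SpecialLinearGroup (Fin 2) (ZMod 11) →* MulAut V :=
  MonoidHom.mk' act fun A B => by
    ext v : 1
    apply Multiplicative.toAdd.injective
    simp only [MulAut.mul_apply, act, MulEquiv.coe_mk, Equiv.coe_fn_mk, toAdd_ofAdd, Matrix.SpecialLinearGroup.coe_mul,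
      Matrix.mul_apply, Fin.sum_univ_two]
    refine Prod.ext ?_ ?_ <;> ring

/-- A nontrivial element coming from `SL(2,5)` fixes no nonzero vector. -/
theorem table_fpf : ∀ a b c d : ZMod 5, a * d - b * c = 1 → (a, b, c, d) ≠ (1, 0, 0, 1) →
    (F (a, b, c, d)).1 + (F (a, b, c, d)).2.2.2 ≠ 2 := by
  decide +kernel

theorem fpf (A : Matrix.SpecialLinearGroup (Fin 2) (ZMod 5)) (hA : A ≠ 1) (v : V)
    (hv : act (embed A) v = v) : v = 1 := by
  have htr : (ofSL (embed A)).1 + (ofSL (embed A)).2.2.2 ≠ 2 := by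
    simp only [embed, MonoidHom.mk'_apply, ofSL_toSL]
    exact table_fpf _ _ _ _ (isSL_ofSL A) (fun h => hA (ofSL_injective (h.trans ofSL_one.symm)))
  have hd := isSL_ofSL (embed A)
  generalize embed A = M at hv htr hd
  have h := congrArg Multiplicative.toAdd hv
  simp only [act, MulEquiv.coe_mk, Equiv.coe_fn_mk, toAdd_ofAdd, Prod.ext_iff] at h
  obtain ⟨h1, h2⟩ := h
  simp only [ofSL, IsSL] at htr hd
  haveI : Fact (Nat.Prime 11) := ⟨by norm_num⟩
  have h0 : (2 : ZMod 11) - (M.1 0 0 + M.1 1 1) ≠ 0 := sub_ne_zero.2 htr.symm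
  apply Multiplicative.toAdd.injective
  rw [toAdd_one]
  refine Prod.ext (mul_left_cancel₀ h0 ?_) (mul_left_cancel₀ h0 ?_)
  · simp only [Prod.fst_zero, mul_zero]
    linear_combination (M.1 1 1 - 1) * h1 - M.1 0 1 * h2 - v.toAdd.1 * hd
  · simp only [Prod.snd_zero, mul_zero]
    linear_combination (M.1 0 0 - 1) * h2 - M.1 1 0 * h1 - v.toAdd.2 * hd

/-- SL(2,5) occurs as a Frobenius complement: there is a finite group L with a subgroup H isomorphic to SL(2,5) which is a non-trivial proper subgroup meeting each conjugate gHg⁻¹ with g outside H trivially. -/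
theorem result :
    ∃ (L : Type) (_ : Group L) (_ : Finite L) (H : Subgroup L),
      Cfsg.IsFrobeniusComplement H ∧ Nonempty (H ≃* Matrix.SpecialLinearGroup (Fin 2) (ZMod 5)) := by
  let φ := actHom.comp embed
  refine ⟨V ⋊[φ] Matrix.SpecialLinearGroup (Fin 2) (ZMod 5), inferInstance,
    Finite.of_equiv _ SemidirectProduct.equivProd.symm, SemidirectProduct.inr.range, ⟨?_, ?_, ?_⟩,
    ⟨(MonoidHom.ofInjective SemidirectProduct.inr_injective).symm⟩⟩
  · intro h
    have hm : (SemidirectProduct.inr (φ := φ) ⟨!![1, 1; 0, 1], by simp [Matrix.det_fin_two_of]⟩) ∈ (⊥ : Subgroup _) := h ▸ ⟨_, rfl⟩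
    have := congrArg (fun x : V ⋊[φ] Matrix.SpecialLinearGroup (Fin 2) (ZMod 5) => x.right.1 0 1) (Subgroup.mem_bot.1 hm)
    change (1 : ZMod 5) = 0 at this
    exact absurd this (by decide)
  · intro h
    obtain ⟨g, hg⟩ : SemidirectProduct.inl (φ := φ) (Multiplicative.ofAdd ((1, 0) : ZMod 11 × ZMod 11)) ∈ SemidirectProduct.inr.range := by
      rw [h]; trivial
    have h2 : (1 : V) = Multiplicative.ofAdd ((1, 0) : ZMod 11 × ZMod 11) := congrArg (fun x : V ⋊[φ] Matrix.SpecialLinearGroup (Fin 2) (ZMod 5) => x.left) hg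
    exact absurd h2 (by decide)
  · intro g hg
    rw [Subgroup.eq_bot_iff_forall]
    rintro x ⟨⟨a, rfl⟩, hx⟩
    obtain ⟨_, ⟨b, rfl⟩, hb⟩ := Subgroup.mem_smul_pointwise_iff_exists _ _ _ |>.1 hx
    rw [MulAut.smul_def, MulAut.conj_apply, mul_inv_eq_iff_eq_mul] at hb
    by_contra ha
    have ha' : a ≠ 1 := fun h => ha (by rw [h, map_one])
    have hl := congrArg (fun x : V ⋊[φ] Matrix.SpecialLinearGroup (Fin 2) (ZMod 5) => x.left) hb
    simp only [SemidirectProduct.mul_left, SemidirectProduct.left_inr, SemidirectProduct.right_inr, map_one, mul_one, one_mul] at hl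
    have hv : g.left = 1 := fpf a ha' g.left hl.symm
    exact hg ⟨g.right, SemidirectProduct.ext hv.symm rfl⟩

end Cfsg.Agent.S3374
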