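import Cfsg.Statements.S3375
-- import your own Cfsg.Agent.* helpers here

set_option autoImplicit false
open Cfsg

namespace Cfsg.Agent.S3375

/-- Let γ be an automorphism of order 2 of a finite group H. (i) If γ fixes only the identity, then H is abelian and γ inverts every element. (ii) If γ has exactly two fixed points and H has a subgroup of index 2, then H has a γ-invariant abelian subgroup of index 2 on which γ acts by inversion. -/
theorem result {H : Type*} [Group H] [Finite H] (γ : MulAut H) (hγ : orderOf γ = 2) :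
    ((∀ h : H, γ h = h → h = 1) → (∀ a b : H, a * b = b * a) ∧ ∀ h : H, γ h = h⁻¹) ∧
    ((Nat.card {h : H // γ h = h} = 2 ∧ ∃ M : Subgroup H, M.index = 2) →
      ∃ A : Subgroup H, A.index = 2 ∧ IsMulCommutative A ∧ (∀ a ∈ A, γ a ∈ A) ∧ ∀ a ∈ A, γ a = a⁻¹) := by
  have hinvol : Function.Involutive γ := by
    intro h
    have h2 : γ ^ 2 = 1 := hγ ▸ pow_orderOf_eq_one γ
    have := congrArg (fun f : MulAut H => f h) h2
    simpa [sq, MulAut.mul_apply] using this
  refine ⟨fun hfpf => ?_, ?_⟩
  · have hf : MonoidHom.FixedPointFree γ := hfpf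
    exact ⟨fun a b => hf.commute_all_of_involutive hinvol a b,
      fun h => congrFun (hf.coe_eq_inv_of_involutive hinvol) h⟩
  rintro ⟨h2, M₀, hM₀⟩
  -- an invariant subgroup of index two
  obtain ⟨M, hM, hMinv⟩ : ∃ M : Subgroup H, M.index = 2 ∧ ∀ h, γ h ∈ M ↔ h ∈ M := by
    by_cases hinv : ∀ h, γ h ∈ M₀ ↔ h ∈ M₀
    · exact ⟨M₀, hM₀, hinv⟩
    push_neg at hinv
    let M : Subgroup H :=
      { carrier := {h | γ h ∈ M₀ ↔ h ∈ M₀}
        one_mem' := by simp
        mul_mem' := by
          intro a b ha hb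
          simp only [Set.mem_setOf_eq] at ha hb ⊢
          rw [map_mul, Subgroup.mul_mem_iff_of_index_two hM₀, Subgroup.mul_mem_iff_of_index_two hM₀, ha, hb]
        inv_mem' := by intro a ha; simpa using ha }
    have hmem : ∀ h, h ∈ M ↔ (γ h ∈ M₀ ↔ h ∈ M₀) := fun h => Iff.rfl
    obtain ⟨a, ha⟩ := hinv
    refine ⟨M, Subgroup.index_eq_two_iff.2 ⟨a, fun b => ?_⟩, fun h => ?_⟩
    · simp only [hmem, map_mul, Subgroup.mul_mem_iff_of_index_two hM₀]
      rcases ha with ⟨p, q⟩ | ⟨p, q⟩ <;> by_cases γ b ∈ M₀ <;> by_cases b ∈ M₀ <;> simp_all [Xor']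
    · simp only [hmem, hinvol h]; exact Iff.comm
  let f : H → M := fun h => ⟨h⁻¹ * γ h, by
    rw [Subgroup.mul_mem_iff_of_index_two hM, inv_mem_iff, hMinv]⟩
  have hf : ∀ h, γ (f h : H) = (f h : H)⁻¹ := fun h => by simp [f, hinvol h]
  have hsurj : Function.Surjective f := by
    classical
    haveI := Fintype.ofFinite H
    have hfib : ∀ m ∈ Finset.univ.image f, (Finset.univ.filter fun h => f h = m).card = 2 := by
      intro m hm
      obtain ⟨h₀, -, rfl⟩ := Finset.mem_image.1 hm
      rw [← h2, Nat.card_eq_fintype_card, Fintype.card_subtype]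
      refine Finset.card_bij (fun h _ => h * h₀⁻¹) ?_ ?_ ?_
      · intro h hh
        simp only [Finset.mem_filter, Finset.mem_univ, true_and, f, Subtype.mk.injEq] at hh ⊢
        rw [map_mul, map_inv]
        calc γ h * (γ h₀)⁻¹ = h * (h⁻¹ * γ h) * (γ h₀)⁻¹ := by group
          _ = h * h₀⁻¹ := by rw [hh]; group
      · intro a _ b _ hab; exact mul_right_cancel hab
      · intro c hc
        simp only [Finset.mem_filter, Finset.mem_univ, true_and] at hc
        refine ⟨c * h₀, ?_, by group⟩
        simp only [Finset.mem_filter, Finset.mem_univ, true_and, f, Subtype.mk.injEq]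
        rw [map_mul, hc]; group
    have hc := Finset.card_eq_sum_card_image f (Finset.univ : Finset H)
    rw [Finset.sum_congr rfl hfib, Finset.sum_const, smul_eq_mul, Finset.card_univ] at hc
    have hcard : Fintype.card M * 2 = Fintype.card H := by
      rw [← Nat.card_eq_fintype_card, ← Nat.card_eq_fintype_card, ← hM, Subgroup.card_mul_index]
    have himg : Finset.univ.image f = Finset.univ :=
      Finset.eq_univ_of_card _ (by omega)
    intro m
    have hm := Finset.mem_univ m
    rw [← himg] at hm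
    simpa using hm
  have hinvM : ∀ a ∈ M, γ a = a⁻¹ := by
    intro a ha
    obtain ⟨h, hh⟩ := hsurj ⟨a, ha⟩
    have h' : (f h : H) = a := congrArg Subtype.val hh
    rw [← h', hf]
  refine ⟨M, hM, ⟨⟨fun a b => Subtype.ext ?_⟩⟩, fun a ha => (hMinv a).2 ha, hinvM⟩
  have h := hinvM _ (M.mul_mem a.2 b.2)
  rw [map_mul, hinvM _ a.2, hinvM _ b.2, mul_inv_rev] at h
  show (a : H) * b = b * a
  have h' := congrArg (·⁻¹) h
  simpa using h'.symm

end Cfsg.Agent.S3375
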