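import Cfsg.Statements.S3376
import Cfsg.Agent.Lib.PGroup.Basic
-- import your own Cfsg.Agent.* helpers here

set_option autoImplicit false
open Cfsg
open scoped Pointwise

namespace Cfsg.Agent.S3376

theorem cycleType_eq {τ : Equiv.Perm (Fin 9)} (h3 : τ ^ 3 = 1) (hfix : ∀ x, τ x ≠ x) :
    τ.cycleType = {3, 3, 3} := by
  have hord : orderOf τ = 3 := orderOf_eq_prime h3 fun h => hfix 0 (by simp [h])
  obtain ⟨n, hn⟩ := Equiv.Perm.cycleType_prime_order (σ := τ) (by rw [hord]; norm_num)
  rw [hord] at hn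
  have hsupp : τ.support = Finset.univ := Finset.eq_univ_iff_forall.2 fun x => Equiv.Perm.mem_support.2 (hfix x)
  have hs := Equiv.Perm.sum_cycleType τ
  rw [hn, hsupp, Multiset.sum_replicate, Finset.card_univ, Fintype.card_fin, smul_eq_mul] at hs
  rw [hn, show n + 1 = 3 by omega]
  rfl

theorem card_centralizer {τ : Equiv.Perm (Fin 9)} (h : τ.cycleType = {3, 3, 3}) :
    Nat.card (Subgroup.centralizer ({τ} : Set (Equiv.Perm (Fin 9)))) = 162 := by
  rw [Equiv.Perm.nat_card_centralizer, h]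
  simp [Nat.factorial]

theorem two_ne_zero3 : (2 : ZMod 3) ≠ 0 := by decide

theorem sigma_facts : (Equiv.swap (0 : Fin 9) 1 * Equiv.swap 1 2 * Equiv.swap 3 4 * Equiv.swap 4 5 * Equiv.swap 6 7 * Equiv.swap 7 8 : Equiv.Perm (Fin 9)) ^ 3 = 1 ∧
    ∀ x : Fin 9, (Equiv.swap (0 : Fin 9) 1 * Equiv.swap 1 2 * Equiv.swap 3 4 * Equiv.swap 4 5 * Equiv.swap 6 7 * Equiv.swap 7 8 : Equiv.Perm (Fin 9)) x ≠ x := by
  decide

variable {G : Type*} [Group G] [Finite G]

/-- A subgroup of index nine avoiding a nontrivial element of `Z`. -/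
theorem exists_subgroup (T : Subgroup G) (t : G) (hT : T = Subgroup.zpowers t) (hTcard : Nat.card T = 2)
    (J : Subgroup G) [hJn : J.Normal] (hJcomm : IsMulCommutative J) (hJexp : ∀ a ∈ J, a ^ 3 = 1)
    (hJcard : Nat.card J = 27) (z : G) (hzJ : z ∈ J) (hz1 : z ≠ 1) (hzt : t * z = z * t) :
    ∃ K : Subgroup G, Nat.card K = 18 ∧ z ∉ K := by
  haveI := hJcomm
  letI : CommGroup J := { (inferInstance : Group J) with mul_comm := fun a b => Std.Commutative.comm a b }
  have hexp : ∀ a : Additive J, (3 : ℕ) • a = 0 := fun a => by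
    apply Additive.toMul.injective
    rw [toMul_nsmul, toMul_zero]
    exact Subtype.ext (hJexp _ a.toMul.2)
  letI : Module (ZMod 3) (Additive J) := AddCommGroup.zmodModule (n := 3) hexp
  haveI : Fact (Nat.Prime 3) := ⟨Nat.prime_three⟩
  let zA : Additive J := Additive.ofMul ⟨z, hzJ⟩
  have hzA : zA ≠ 0 := fun h => hz1 (congrArg (fun a : Additive J => ((Additive.toMul a : J) : G)) h)
  obtain ⟨l, hl⟩ := Module.Projective.exists_dual_ne_zero (ZMod 3) hzA
  let τ : Additive J →+ Additive J := (MulAut.conjNormal (H := J) t).toMonoidHom.toAdditive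
  have hτz : τ zA = zA := by
    apply Additive.toMul.injective
    refine Subtype.ext ?_
    show t * z * t⁻¹ = z
    rw [hzt, mul_inv_cancel_right]
  have hττ : ∀ a, τ (τ a) = a := fun a => by
    apply Additive.toMul.injective
    refine Subtype.ext ?_
    show t * (t * (Additive.toMul a : J) * t⁻¹) * t⁻¹ = (Additive.toMul a : J)
    have ht2 : t * t = 1 := by
      rw [← sq, ← hTcard, hT, Nat.card_zpowers, pow_orderOf_eq_one]
    rw [inv_eq_of_mul_eq_one_right ht2, ← mul_assoc, ← mul_assoc, ht2, one_mul, mul_assoc, ht2, mul_one]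
  let L : Additive J →+ ZMod 3 := l.toAddMonoidHom + l.toAddMonoidHom.comp τ
  have hL : ∀ a, L a = l a + l (τ a) := fun a => rfl
  have hLτ : ∀ a, L (τ a) = L a := fun a => by rw [hL, hL, hττ, add_comm]
  let W : Subgroup G := (AddSubgroup.toSubgroup' L.ker).map J.subtype
  have hWmem : ∀ x, x ∈ W ↔ ∃ h : x ∈ J, L (Additive.ofMul ⟨x, h⟩) = 0 := by
    intro x
    constructor
    · rintro ⟨a, ha, rfl⟩; exact ⟨a.2, ha⟩
    · rintro ⟨h, ha⟩; exact ⟨⟨x, h⟩, ha, rfl⟩
  have hzW : z ∉ W := fun h => by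
    obtain ⟨_, h2⟩ := (hWmem z).1 h
    rw [hL, show Additive.ofMul (⟨z, hzJ⟩ : J) = zA from rfl, hτz, ← two_mul] at h2
    exact hl ((mul_eq_zero.1 h2).resolve_left two_ne_zero3)
  have hWcard : Nat.card W = 9 := by
    have hne : L zA ≠ 0 := fun h => hzW ((hWmem z).2 ⟨hzJ, h⟩)
    have hsurj : Function.Surjective L := fun c => ⟨(c * (L zA)⁻¹).val • zA, by
      rw [map_nsmul, nsmul_eq_mul, ZMod.natCast_zmod_val, inv_mul_cancel_right₀ hne]⟩
    rw [Subgroup.card_map_of_injective J.subtype_injective]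
    show Nat.card L.ker = 9
    have h1 := L.ker.card_mul_index
    rw [AddSubgroup.index_ker, AddMonoidHom.range_eq_top.2 hsurj, AddSubgroup.card_top, Nat.card_zmod,
      show Nat.card (Additive J) = 27 from (Nat.card_congr Additive.toMul).trans hJcard] at h1
    omega
  have hnorm : T ≤ Subgroup.normalizer (W : Set G) := by
    rw [hT, Subgroup.zpowers_le, Subgroup.mem_normalizer_iff]
    intro x
    have key : ∀ x, x ∈ W → t * x * t⁻¹ ∈ W := fun x hx => by
      obtain ⟨hxJ, hx0⟩ := (hWmem x).1 hx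
      exact (hWmem _).2 ⟨hJn.conj_mem x hxJ t, (hLτ (Additive.ofMul ⟨x, hxJ⟩)).trans hx0⟩
    refine ⟨key x, fun h => ?_⟩
    have := key _ h
    have ht2 : t * t = 1 := by
      rw [← sq, ← hTcard, hT, Nat.card_zpowers, pow_orderOf_eq_one]
    rwa [inv_eq_of_mul_eq_one_right ht2, ← mul_assoc, ← mul_assoc, ht2, one_mul, mul_assoc, ht2, mul_one] at this
  have hdis : Disjoint W T := by
    rw [disjoint_iff]
    exact Subgroup.inf_eq_bot_of_coprime (by rw [hWcard, hTcard]; norm_num)
  have hmul := Subgroup.coe_mul_of_right_le_normalizer_left W T hnorm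
  refine ⟨W ⊔ T, ?_, fun hz => ?_⟩
  · rw [show Nat.card ↥(W ⊔ T) = Nat.card ↥((W : Set G) * (T : Set G)) from Nat.card_congr (Equiv.setCongr hmul)]
    rw [← Nat.card_congr (Equiv.ofBijective
      (fun p : W × T => (⟨(p.1 : G) * p.2, Set.mul_mem_mul p.1.2 p.2.2⟩ : ↥((W : Set G) * (T : Set G)))) ⟨?_, ?_⟩),
      Nat.card_prod, hWcard, hTcard]
    · intro p q h
      exact Subgroup.mul_injective_of_disjoint hdis (congrArg Subtype.val h)
    · rintro ⟨_, a, ha, b, hb, rfl⟩
      exact ⟨(⟨a, ha⟩, ⟨b, hb⟩), rfl⟩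
  · have hz' : z ∈ (W : Set G) * (T : Set G) := by rw [← hmul]; exact hz
    obtain ⟨a, ha, b, hb, e⟩ := hz'
    obtain ⟨haJ, -⟩ := (hWmem a).1 ha
    have hbJ : b ∈ J := by
      have e' : a * b = z := e
      rw [show b = a⁻¹ * z from by rw [← e', inv_mul_cancel_left]]
      exact mul_mem (inv_mem haJ) hzJ
    have hb1 : b = 1 := by
      have : b ∈ J ⊓ T := ⟨hbJ, hb⟩
      rwa [Subgroup.inf_eq_bot_of_coprime (by rw [hJcard, hTcard]; norm_num), Subgroup.mem_bot] at this
    have e' : a * b = z := e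
    rw [hb1, mul_one] at e'
    exact hzW (e' ▸ ha)


/-- Let G be a group of order 162 = 3⁴·2 with Sylow 3-subgroup S and Sylow 2-subgroup T, having an elementary abelian normal subgroup J of order 27, such that Z = Z(S) has order 3, Z centralizes T, and C_S(T) ≠ S. Then G is isomorphic to the centralizer in Sym(9) of a product of three disjoint 3-cycles. -/
theorem result {G : Type*} [Group G] [Finite G] (hG : Nat.card G = 162)
    (S : Sylow 3 G) (T : Sylow 2 G) (J : Subgroup G) [hJn : J.Normal] (hJcomm : IsMulCommutative J)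
    (hJexp : ∀ a ∈ J, a ^ 3 = 1) (hJcard : Nat.card J = 27)
    (Z : Subgroup G) (hZ : Z = (S : Subgroup G) ⊓ Subgroup.centralizer ((S : Subgroup G) : Set G)) (hZcard : Nat.card Z = 3)
    (hZT : Z ≤ Subgroup.centralizer ((T : Subgroup G) : Set G))
    (hST : (S : Subgroup G) ⊓ Subgroup.centralizer ((T : Subgroup G) : Set G) ≠ S) :
    Nonempty (G ≃* Subgroup.centralizer ({Equiv.swap (0 : Fin 9) 1 * Equiv.swap 1 2 * Equiv.swap 3 4 * Equiv.swap 4 5 * Equiv.swap 6 7 * Equiv.swap 7 8} : Set (Equiv.Perm (Fin 9)))) := by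
  classical
  haveI : Fact (Nat.Prime 3) := ⟨Nat.prime_three⟩
  haveI : Fact (Nat.Prime 2) := ⟨Nat.prime_two⟩
  have hScard : Nat.card S = 81 := by
    obtain ⟨n, hn⟩ := IsPGroup.iff_card.1 S.2
    have h1 := (S : Subgroup G).card_mul_index
    have h2 := S.not_dvd_index
    rw [hn, hG] at h1
    have hd : 3 ^ n ∣ 162 := ⟨_, h1.symm⟩
    have : n ≤ 4 := by
      by_contra h
      have := (pow_dvd_pow 3 (show 5 ≤ n by omega)).trans hd
      norm_num at this
    interval_cases n <;> simp_all <;> omega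
  have hTcard : Nat.card T = 2 := by
    obtain ⟨n, hn⟩ := IsPGroup.iff_card.1 T.2
    have h1 := (T : Subgroup G).card_mul_index
    have h2 := T.not_dvd_index
    rw [hn, hG] at h1
    have hd : 2 ^ n ∣ 162 := ⟨_, h1.symm⟩
    have : n ≤ 1 := by
      by_contra h
      have := (pow_dvd_pow 2 (show 2 ≤ n by omega)).trans hd
      norm_num at this
    interval_cases n <;> simp_all <;> omega
  haveI hSn : (S : Subgroup G).Normal := Subgroup.normal_of_index_eq_two (by
    have := (S : Subgroup G).card_mul_index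
    rw [hScard, hG] at this
    omega)
  haveI : IsCyclic T := isCyclic_of_prime_card hTcard
  obtain ⟨t, ht⟩ : ∃ t, (T : Subgroup G) = Subgroup.zpowers t :=
    (Subgroup.isCyclic_iff_exists_zpowers_eq_top (T : Subgroup G)).1 inferInstance |>.imp fun _ h => h.symm
  have htT : t ∈ (T : Subgroup G) := ht ▸ Subgroup.mem_zpowers t
  have hJS : J ≤ S := by
    exact IsPGroup.le_sylow_of_normal (IsPGroup.of_card (n := 3) (by rw [hJcard]; rfl) : IsPGroup 3 J) S
  have hZS : Z ≤ (S : Subgroup G) := hZ.le.trans inf_le_left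
  have hZJ : Z ≤ J := by
    haveI : Nontrivial J := Finite.one_lt_card_iff_nontrivial.1 (by rw [hJcard]; norm_num)
    by_contra hle
    have hinf : Z ⊓ J = ⊥ := by
      rw [← Subgroup.card_eq_one]
      have hd : Nat.card ↥(Z ⊓ J) ∣ 3 := hZcard ▸ Subgroup.card_dvd_of_le inf_le_left
      rcases (Nat.dvd_prime Nat.prime_three).1 hd with h | h
      · exact h
      · exact absurd (inf_eq_left.1 (Subgroup.eq_of_le_of_card_ge (inf_le_left : Z ⊓ J ≤ Z) (by rw [hZcard, h]))) hle
    haveI : (J.subgroupOf (S : Subgroup G)).Normal := hJn.subgroupOf _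
    have hJne : J.subgroupOf (S : Subgroup G) ≠ ⊥ := fun h => by
      rw [Subgroup.subgroupOf_eq_bot, disjoint_iff, inf_eq_left.2 hJS] at h
      rw [h, Subgroup.card_bot] at hJcard
      omega
    obtain ⟨c, hcJ, hc1⟩ : ∃ c : (S : Subgroup G), c ≠ 1 ∧ c ∈ Subgroup.center (S : Subgroup G) ⊓ J.subgroupOf (S : Subgroup G) := by
      obtain ⟨⟨c, hc⟩, hne⟩ := Subgroup.ne_bot_iff_exists_ne_one.1 (PGroup.inf_center_ne_bot S.2 _ hJne)
      exact ⟨c, fun e => hne (Subtype.ext e), hc.2, hc.1⟩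
    have : (c : G) ∈ Z ⊓ J := ⟨hZ ▸ ⟨c.2, Subgroup.mem_centralizer_iff.2 fun s hs =>
      congrArg Subtype.val (Subgroup.mem_center_iff.1 hc1.1 ⟨s, hs⟩)⟩, hc1.2⟩
    rw [hinf, Subgroup.mem_bot] at this
    exact hcJ (Subtype.ext this)
  haveI : Nontrivial Z := Finite.one_lt_card_iff_nontrivial.1 (by rw [hZcard]; norm_num)
  obtain ⟨⟨z, hzZ⟩, hz⟩ := exists_ne (1 : Z)
  have hz1 : z ≠ 1 := fun e => hz (Subtype.ext e)
  have hzt : t * z = z * t := (Subgroup.mem_centralizer_iff.1 (hZT hzZ) t htT)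
  have hzc : ∀ g : G, g * z = z * g := by
    have htop : (S : Subgroup G) ⊔ T = ⊤ := by
      rw [← Subgroup.card_eq_iff_eq_top, hG]
      refine Nat.dvd_antisymm (hG ▸ Subgroup.card_subgroup_dvd_card _) ?_
      have d1 : 81 ∣ Nat.card ↥((S : Subgroup G) ⊔ T) := by
        exact hScard.symm.dvd.trans (Subgroup.card_dvd_of_le le_sup_left)
      have d2 : 2 ∣ Nat.card ↥((S : Subgroup G) ⊔ T) := by
        exact hTcard.symm.dvd.trans (Subgroup.card_dvd_of_le le_sup_right)
      exact Nat.Coprime.mul_dvd_of_dvd_of_dvd (by norm_num : Nat.Coprime 81 2) d1 d2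
    intro g
    have hle : (S : Subgroup G) ⊔ T ≤ Subgroup.centralizer {z} := sup_le
      (fun s hs => Subgroup.mem_centralizer_singleton_iff.2 ((Subgroup.mem_centralizer_iff.1 (hZ.le hzZ).2 s hs)))
      (fun s hs => Subgroup.mem_centralizer_singleton_iff.2 ((Subgroup.mem_centralizer_iff.1 (hZT hzZ) s hs)))
    exact Subgroup.mem_centralizer_singleton_iff.1 (hle (htop ▸ Subgroup.mem_top g))
  obtain ⟨K, hKcard, hzK⟩ := exists_subgroup (T : Subgroup G) t ht hTcard J hJcomm hJexp hJcard z (hZJ hzZ) hz1 hzt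
  have hidx : Nat.card (G ⧸ K) = 9 := by
    have := Subgroup.card_eq_card_quotient_mul_card_subgroup K
    rw [hG, hKcard] at this
    omega
  let e : G ⧸ K ≃ Fin 9 := Finite.equivFinOfCardEq hidx
  let F₀ : G →* Equiv.Perm (Fin 9) := e.permCongrHom.toMonoidHom.comp (MulAction.toPermHom G (G ⧸ K))
  have hF₀inj : Function.Injective F₀ := by
    refine e.permCongrHom.injective.comp ((MonoidHom.ker_eq_bot_iff _).1 ?_)
    rw [← Subgroup.normalCore_eq_ker]
    by_contra hM
    set M := K.normalCore with hMdef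
    by_cases hMS : M ⊓ (S : Subgroup G) = ⊥
    · have hcm : ∀ s ∈ (S : Subgroup G), ∀ m ∈ M, s * m = m * s := fun s hs m hm =>
        ((Subgroup.commute_of_normal_of_disjoint M (S : Subgroup G) (Subgroup.normalCore_normal K) hSn
          (disjoint_iff.2 hMS) m s hm hs).eq).symm
      have hM2 : IsPGroup 2 M := by
        have h1 : Nat.card M ∣ 18 := hKcard ▸ Subgroup.card_dvd_of_le (Subgroup.normalCore_le K)
        have h2 : ¬ 3 ∣ Nat.card M := fun h3 => by
          obtain ⟨⟨x, hxM⟩, hx⟩ := exists_prime_orderOf_dvd_card' 3 h3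
          rw [Subgroup.orderOf_mk] at hx
          have hxS : x ∈ (S : Subgroup G) := by
            have hidx2 : (S : Subgroup G).index = 2 := by
              have := (S : Subgroup G).card_mul_index
              rw [hScard, hG] at this
              omega
            have h4 : x = (x ^ 2) ^ 2 := by
              rw [← pow_mul, show 2 * 2 = 3 + 1 from rfl, pow_add, ← hx, pow_orderOf_eq_one, one_mul, pow_one]
            rw [h4]
            exact pow_mem (Subgroup.sq_mem_of_index_two hidx2 x) 2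
          have hx0 : x ∈ M ⊓ (S : Subgroup G) := ⟨hxM, hxS⟩
          rw [hMS, Subgroup.mem_bot] at hx0
          rw [hx0, orderOf_one] at hx
          omega
        have h3 : Nat.card M ∣ 2 := by
          have hco : (Nat.card M).Coprime 9 := by
            rw [show (9 : ℕ) = 3 ^ 2 by norm_num]
            exact ((Nat.prime_three.coprime_iff_not_dvd.2 h2).symm).pow_right 2
          exact hco.dvd_of_dvd_mul_right (show Nat.card M ∣ 2 * 9 from h1)
        rcases (Nat.dvd_prime Nat.prime_two).1 h3 with h | h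
        · exact IsPGroup.of_card (n := 0) (by rw [h]; rfl)
        · exact IsPGroup.of_card (n := 1) (by rw [h]; rfl)
      obtain ⟨Q, hMQ⟩ := hM2.exists_le_sylow
      obtain ⟨g, hg⟩ := MulAction.exists_smul_eq G Q T
      have hMT : M ≤ (T : Subgroup G) := by
        intro m hm
        rw [← hg, Sylow.coe_subgroup_smul, Subgroup.mem_pointwise_smul_iff_inv_smul_mem]
        refine hMQ ?_
        have := (Subgroup.normalCore_normal K).conj_mem m hm g⁻¹
        simpa [MulAut.smul_def] using this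
      have hMT' : M = (T : Subgroup G) := Subgroup.eq_of_le_of_card_ge hMT (by
        rw [hTcard]
        exact (Subgroup.one_lt_card_iff_ne_bot M).2 hM)
      exact hST (inf_eq_left.2 fun s hs => Subgroup.mem_centralizer_iff.2 fun m hm =>
        (hcm s hs m (hMT' ▸ hm)).symm)
    · haveI : M.Normal := Subgroup.normalCore_normal K
      haveI : (M.subgroupOf (S : Subgroup G)).Normal := Subgroup.Normal.subgroupOf inferInstance _
      obtain ⟨c, hcJ, hc1⟩ : ∃ c : (S : Subgroup G), c ≠ 1 ∧ c ∈ Subgroup.center (S : Subgroup G) ⊓ M.subgroupOf (S : Subgroup G) := by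
        obtain ⟨⟨c, hc⟩, hne⟩ := Subgroup.ne_bot_iff_exists_ne_one.1 (PGroup.inf_center_ne_bot S.2 (M.subgroupOf (S : Subgroup G))
          (by rw [Ne, Subgroup.subgroupOf_eq_bot, disjoint_iff]; exact hMS))
        exact ⟨c, fun e => hne (Subtype.ext e), hc.2, hc.1⟩
      have hcZ : (c : G) ∈ Z := hZ ▸ ⟨c.2, Subgroup.mem_centralizer_iff.2 fun s hs =>
        congrArg Subtype.val (Subgroup.mem_center_iff.1 hc1.1 ⟨s, hs⟩)⟩
      obtain ⟨i, hi⟩ : z ∈ Subgroup.zpowers (c : G) := by
        have e1 : Subgroup.zpowers (c : G) = Z := by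
          refine Subgroup.eq_of_le_of_card_ge (Subgroup.zpowers_le.2 hcZ) ?_
          have h1 := Subgroup.card_dvd_of_le (Subgroup.zpowers_le.2 hcZ)
          rw [hZcard] at h1 ⊢
          rcases (Nat.dvd_prime Nat.prime_three).1 h1 with h | h
          · rw [Nat.card_zpowers, orderOf_eq_one_iff] at h
            exact absurd (Subtype.ext h) hcJ
          · exact h.ge
        exact e1 ▸ hzZ
      exact hzK (hi ▸ zpow_mem (Subgroup.normalCore_le K hc1.2) i)
  have hfix : ∀ x, F₀ z x ≠ x := by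
    intro x h
    have h' : z • e.symm x = e.symm x := e.injective (by rw [e.apply_symm_apply]; exact h)
    obtain ⟨g, hg⟩ := QuotientGroup.mk_surjective (e.symm x)
    rw [← hg, MulAction.Quotient.smul_mk, QuotientGroup.eq, smul_eq_mul, mul_inv_rev, mul_assoc] at h'
    refine hzK ?_
    have : g⁻¹ * (z⁻¹ * g) = z⁻¹ := by rw [← hzc g |> fun h => (show Commute g z from h).inv_right.eq, inv_mul_cancel_left]
    rw [this] at h'
    exact inv_mem_iff.1 h'
  have hz3 : F₀ z ^ 3 = 1 := by rw [← map_pow, hJexp z (hZJ hzZ), map_one]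
  set σ : Equiv.Perm (Fin 9) := Equiv.swap (0 : Fin 9) 1 * Equiv.swap 1 2 * Equiv.swap 3 4 * Equiv.swap 4 5 * Equiv.swap 6 7 * Equiv.swap 7 8
  have hσ : σ.cycleType = {3, 3, 3} := cycleType_eq sigma_facts.1 sigma_facts.2
  obtain ⟨c, hc⟩ := isConj_iff.1 (Equiv.Perm.isConj_iff_cycleType_eq.2 ((cycleType_eq hz3 hfix).trans hσ.symm))
  let F : G →* Equiv.Perm (Fin 9) := (MulAut.conj c).toMonoidHom.comp F₀
  have hrange : F.range ≤ Subgroup.centralizer {σ} := by
    rintro _ ⟨g, rfl⟩
    rw [Subgroup.mem_centralizer_singleton_iff, show σ = F z from hc.symm, ← map_mul, ← map_mul, hzc]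
  have hFinj : Function.Injective F := (MulAut.conj c).injective.comp hF₀inj
  have hcard : Nat.card F.range = 162 := by rw [Nat.card_congr (MonoidHom.ofInjective hFinj).toEquiv.symm, hG]
  have heq : F.range = Subgroup.centralizer {σ} :=
    Subgroup.eq_of_le_of_card_ge hrange (by rw [hcard, card_centralizer hσ])
  exact ⟨(MonoidHom.ofInjective hFinj).trans (MulEquiv.subgroupCongr heq)⟩

end Cfsg.Agent.S3376
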