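import Cfsg.Statements.S3381
-- import your own Cfsg.Agent.* helpers here

set_option autoImplicit false
open Cfsg

namespace Cfsg.Agent.S3381

/-- Let G be a finite group acting faithfully and linearly on a non-trivial finite vector space V over the field with q elements (q prime) so that every non-zero vector has a stabilizer of order 2, and suppose G has a central involution. Then V has q^(2r) elements for some r and G contains exactly q^r + 1 non-central involutions. -/
theorem result
    (q : ℕ) [Fact q.Prime] {V : Type*} [AddCommGroup V] [Module (ZMod q) V] [Finite V] [Nontrivial V]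
    {G : Type*} [Group G] [Finite G] (ρ : G →* (V ≃ₗ[ZMod q] V)) (hρ : Function.Injective ρ)
    (hstab : ∀ v : V, v ≠ 0 → Nat.card {g : G // ρ g v = v} = 2)
    (z : G) (hz : orderOf z = 2) (hzc : z ∈ Subgroup.center G) :
    ∃ r : ℕ, Nat.card V = q ^ (2 * r) ∧
      Nat.card {g : G // orderOf g = 2 ∧ g ∉ Subgroup.center G} = q ^ r + 1 := by
  have hone : ∀ v : V, (1 : V ≃ₗ[ZMod q] V) v = v := fun v => rfl
  -- the unique involution fixing a given vector
  have hex : ∀ v : V, v ≠ 0 → ∃ g : G, orderOf g = 2 ∧ ρ g v = v ∧ ∀ h, ρ h v = v → h = 1 ∨ h = g := by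
    intro v hv
    let S : Subgroup G :=
      { carrier := {g | ρ g v = v}
        one_mem' := by simp
        mul_mem' := by
          intro a b ha hb
          simp only [Set.mem_setOf_eq] at ha hb ⊢
          rw [map_mul, LinearEquiv.mul_apply, hb, ha]
        inv_mem' := by
          intro a ha
          simp only [Set.mem_setOf_eq] at ha ⊢
          nth_rewrite 1 [← ha]
          rw [← LinearEquiv.mul_apply, ← map_mul, inv_mul_cancel, map_one, hone] }
    have hS : Nat.card S = 2 := hstab v hv
    obtain ⟨g, hg⟩ : ∃ g : S, orderOf g = 2 := exists_prime_orderOf_dvd_card' 2 (dvd_of_eq hS.symm)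
    refine ⟨g, by rw [Subgroup.orderOf_coe, hg], g.2, fun h hh => ?_⟩
    obtain ⟨a, b, hab, huniv⟩ := Nat.card_eq_two_iff.1 hS
    have key : ∀ x : S, x = a ∨ x = b := fun x => by
      have := huniv.ge (Set.mem_univ x)
      simpa using this
    have hg1 : g ≠ 1 := by intro e; simp [e] at hg
    rcases key ⟨h, hh⟩ with h1 | h1 <;> rcases key g with h2 | h2 <;> rcases key 1 with h3 | h3 <;>
      first
      | exact Or.inl (congrArg Subtype.val (h1.trans h3.symm))
      | exact Or.inr (congrArg Subtype.val (h1.trans h2.symm))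
      | exact absurd (h2.trans h3.symm) hg1
  have hmul : ∀ (g h : G) (v : V), ρ (g * h) v = ρ g (ρ h v) := fun g h v => by
    rw [map_mul, LinearEquiv.mul_apply]
  have hinv : ∀ (g : G), orderOf g = 2 → ∀ v, ρ g (ρ g v) = v := fun g hg v => by
    rw [← hmul, ← sq, ← hg, pow_orderOf_eq_one, map_one, hone]
  have hne1 : ∀ {g : G}, orderOf g = 2 → g ≠ 1 := fun {g} hg e => by simp [e] at hg
  -- `V` has odd characteristic on the relevant vectors
  have htwo : ∀ u : V, u + u = 0 → q = 2 ∨ u = 0 := by
    intro u hu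
    by_contra h
    push_neg at h
    have h2 : (2 : ZMod q) • u = 0 := by rw [two_smul]; exact hu
    rcases smul_eq_zero.1 h2 with h2 | h2
    · exact h.1 ((Nat.prime_dvd_prime_iff_eq Fact.out Nat.prime_two).1 ((ZMod.natCast_eq_zero_iff 2 q).1 (by exact_mod_cast h2)))
    · exact h.2 h2
  -- a central involution acts as minus one
  have hcentral : ∀ c : G, orderOf c = 2 → c ∈ Subgroup.center G → ∀ v, ρ c v = - v := by
    intro c hc hcc
    have hcomm : ∀ g v, ρ g (ρ c v) = ρ c (ρ g v) := fun g v => by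
      rw [← hmul, ← hmul, Subgroup.mem_center_iff.1 hcc g]
    suffices hf : ∀ w, ρ c w = w → w = 0 by
      intro v
      have h0 := hf (v + ρ c v) (by rw [map_add, hinv c hc, add_comm])
      exact eq_neg_of_add_eq_zero_right h0
    intro w hw
    by_contra hw0
    apply hne1 hc
    apply hρ
    rw [map_one]
    refine LinearEquiv.ext fun v => ?_
    rw [hone]
    by_contra hv
    have hv0 : v ≠ 0 := fun e => hv (by rw [e, map_zero])
    have hstabW : ∀ (g : G) (x : V), x ≠ 0 → ρ c x = x → ρ g x = x → g = 1 ∨ g = c := by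
      intro g x hx hcx hgx
      obtain ⟨s, -, -, hs⟩ := hex x hx
      rcases hs g hgx with h | h
      · exact Or.inl h
      · rcases hs c hcx with h' | h'
        · exact absurd h' (hne1 hc)
        · exact Or.inr (h.trans h'.symm)
    by_cases hq : q = 2
    · subst hq
      obtain ⟨g, hg, hgv, -⟩ := hex v hv0
      have hg' : g ≠ 1 ∧ g ≠ c := ⟨hne1 hg, fun e => hv (e ▸ hgv)⟩
      by_cases hgw : w + ρ g w = 0
      · have hgw' : ρ g w = w := by
          rw [eq_neg_of_add_eq_zero_right hgw]
          exact neg_eq_of_add_eq_zero_right (by rw [← two_smul (ZMod 2) w, show (2 : ZMod 2) = 0 from rfl, zero_smul])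
        rcases hstabW g w hw0 hw hgw' with h | h <;> simp [h] at hg'
      · rcases hstabW g _ hgw (by rw [map_add, ← hcomm, hw]) (by rw [map_add, hinv g hg, add_comm]) with h | h <;>
          simp [h] at hg'
    · set u := v - ρ c v with hu
      have hcu : ρ c u = - u := by rw [hu, map_sub, hinv c hc, neg_sub]
      have hu0 : u ≠ 0 := fun e => hv (sub_eq_zero.1 e).symm
      have hwu : w + u ≠ 0 := by
        intro e
        have h2 := congrArg (ρ c) e
        rw [map_add, hw, hcu, map_zero] at h2
        apply hu0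
        refine (htwo u ?_).resolve_left hq
        rw [← sub_eq_zero] at e
        linear_combination (norm := abel) e - h2
      obtain ⟨g, hg, hgv, -⟩ := hex _ hwu
      have h2 : ρ g (ρ c (w + u)) = ρ c (w + u) := by rw [hcomm, hgv]
      rw [map_add (ρ c), hw, hcu, map_add, map_neg] at h2
      rw [map_add] at hgv
      have hgw : ρ g w = w := by
        refine sub_eq_zero.1 ((htwo _ ?_).resolve_left hq)
        linear_combination (norm := abel) hgv + h2
      rcases hstabW g w hw0 hw hgw with h | h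
      · exact hne1 hg h
      · rw [hgw, add_right_inj, h, hcu] at hgv
        exact hu0 ((htwo u (by linear_combination (norm := abel) -hgv)).resolve_left hq)
  have hzv := hcentral z hz hzc
  have hq2 : q ≠ 2 := by
    rintro rfl
    apply hne1 hz
    apply hρ
    rw [map_one]
    refine LinearEquiv.ext fun v => ?_
    rw [hone, hzv]
    exact neg_eq_of_add_eq_zero_right (by rw [← two_smul (ZMod 2) v, show (2 : ZMod 2) = 0 from rfl, zero_smul])
  have htwo' : ∀ u : V, u + u = 0 → u = 0 := fun u hu => (htwo u hu).resolve_left hq2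
  let T := {g : G // orderOf g = 2 ∧ g ∉ Subgroup.center G}
  let A : G → Submodule (ZMod q) V := fun g => LinearMap.eqLocus (ρ g : V →ₗ[ZMod q] V) LinearMap.id
  have hA : ∀ g v, v ∈ A g ↔ ρ g v = v := fun g v => Iff.rfl
  have hT : ∀ g : G, orderOf g = 2 → ((g ∉ Subgroup.center G) ↔ ∃ v : V, v ≠ 0 ∧ ρ g v = v) := by
    intro g hg
    constructor
    · intro hgc
      by_contra h
      push_neg at h
      apply hgc
      have : g = z := by
        apply hρ
        refine LinearEquiv.ext fun v => ?_
        rw [hzv]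
        by_contra hv
        refine h (v + ρ g v) ?_ (by rw [map_add, hinv g hg, add_comm])
        intro e; exact hv (eq_neg_of_add_eq_zero_right e)
      exact this ▸ hzc
    · rintro ⟨v, hv, hgv⟩ hgc
      rw [hcentral g hg hgc] at hgv
      exact hv (htwo' v (by rw [← neg_eq_iff_add_eq_zero]; exact hgv))
  -- the opposite involution
  have hopp : ∀ t : T, orderOf (z * t.1) = 2 := by
    intro t
    have hne : z * t.1 ≠ 1 := fun e => t.2.2 (by rw [← inv_eq_of_mul_eq_one_right e]; exact inv_mem hzc)
    refine orderOf_eq_prime ?_ hne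
    have h1 : z ^ 2 = 1 := by rw [← hz, pow_orderOf_eq_one]
    have h2 : t.1 ^ 2 = 1 := (orderOf_eq_prime_iff.1 t.2.1).1
    rw [(show Commute z t.1 from (Subgroup.mem_center_iff.1 hzc t.1).symm).mul_pow, h1, h2, one_mul]
  have hzt : ∀ (t : T) v, ρ (z * t.1) v = - ρ t.1 v := fun t v => by rw [hmul, hzv]
  have huniq : ∀ (s g : G) (v : V), orderOf s = 2 → orderOf g = 2 → v ≠ 0 → ρ s v = v → ρ g v = v → s = g := by
    intro s g v hs hg hv hsv hgv
    obtain ⟨m, -, -, hm⟩ := hex v hv
    exact ((hm s hsv).resolve_left (hne1 hs)).trans ((hm g hgv).resolve_left (hne1 hg)).symm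
  have hcompl : ∀ t : T, IsCompl (A t.1) (A (z * t.1)) := by
    intro t
    constructor
    · rw [Submodule.disjoint_def]
      intro v h1 h2
      rw [hA] at h1; rw [hA, hzt, h1] at h2
      exact htwo' v (by rw [← neg_eq_iff_add_eq_zero]; exact h2)
    · rw [codisjoint_iff, Submodule.eq_top_iff']
      intro v
      have h2 : (2 : ZMod q) ≠ 0 := fun h => hq2 ((Nat.prime_dvd_prime_iff_eq Fact.out Nat.prime_two).1 ((ZMod.natCast_eq_zero_iff 2 q).1 (by exact_mod_cast h)))
      refine Submodule.mem_sup.2 ⟨(2 : ZMod q)⁻¹ • (v + ρ t.1 v), ?_, (2 : ZMod q)⁻¹ • (v - ρ t.1 v), ?_, ?_⟩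
      · rw [hA, map_smul, map_add, hinv _ t.2.1, add_comm]
      · rw [hA, hzt, map_smul, map_sub, hinv _ t.2.1, ← smul_neg, neg_sub]
      · rw [← smul_add, show v + ρ t.1 v + (v - ρ t.1 v) = (2 : ZMod q) • v by rw [two_smul]; abel, inv_smul_smul₀ h2]
  have hdisj : ∀ s g : G, orderOf s = 2 → orderOf g = 2 → s ≠ g → A s ⊓ A g = ⊥ := by
    intro s g hs hg hne
    rw [eq_bot_iff]
    intro v hv
    rw [Submodule.mem_bot]
    by_contra h
    exact hne (huniq s g v hs hg h hv.1 hv.2)
  let n := Module.finrank (ZMod q) V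
  have hsumle : ∀ s g : G, orderOf s = 2 → orderOf g = 2 → s ≠ g →
      Module.finrank (ZMod q) (A s) + Module.finrank (ZMod q) (A g) ≤ n := by
    intro s g hs hg hne
    rw [← Submodule.finrank_sup_add_finrank_inf_eq, hdisj s g hs hg hne, finrank_bot, add_zero]
    exact Submodule.finrank_le _
  have hhalf : ∀ t : T, 2 * Module.finrank (ZMod q) (A t.1) = n := by
    intro t
    obtain ⟨a, ha, hat⟩ := (hT _ t.2.1).1 t.2.2
    have hztc : z * t.1 ∉ Subgroup.center G := fun h => t.2.2 (by simpa using mul_mem (inv_mem hzc) h)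
    obtain ⟨b, hb, hbt⟩ := (hT _ (hopp t)).1 hztc
    have hab : a + b ≠ 0 := fun e => ha ((Submodule.disjoint_def.1 (hcompl t).disjoint) a hat (by rw [eq_neg_of_add_eq_zero_left e]; exact neg_mem hbt))
    obtain ⟨s, hs, hsv, -⟩ := hex _ hab
    have hst : s ≠ t.1 := by
      intro e
      have : b ∈ A t.1 := by
        have h := (A t.1).sub_mem ((hA t.1 (a + b)).2 (e ▸ hsv)) hat
        rwa [add_sub_cancel_left] at h
      exact hb (Submodule.disjoint_def.1 (hcompl t).disjoint b this hbt)
    have hszt : s ≠ z * t.1 := by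
      intro e
      have : a ∈ A (z * t.1) := by
        have h := (A (z * t.1)).sub_mem ((hA (z * t.1) (a + b)).2 (e ▸ hsv)) hbt
        rwa [add_sub_cancel_right] at h
      exact ha (Submodule.disjoint_def.1 (hcompl t).disjoint a hat this)
    have hsc : s ∉ Subgroup.center G := (hT s hs).2 ⟨_, hab, hsv⟩
    have hzs := hopp ⟨s, hs, hsc⟩
    have hz2 : z * z = 1 := by rw [← sq, ← hz, pow_orderOf_eq_one]
    have e1 := Submodule.finrank_add_eq_of_isCompl (hcompl t)
    have e2 := Submodule.finrank_add_eq_of_isCompl (hcompl ⟨s, hs, hsc⟩)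
    have l1 := hsumle t.1 s t.2.1 hs hst.symm
    have l2 := hsumle (z * t.1) (z * s) (hopp t) hzs (fun e => hst (mul_left_cancel e).symm)
    have l3 := hsumle t.1 (z * s) t.2.1 hzs (fun e => hszt (by rw [e, ← mul_assoc, hz2, one_mul]))
    have l4 := hsumle (z * t.1) s (hopp t) hs hszt.symm
    simp only at e2
    omega
  obtain ⟨v₀, hv₀⟩ := exists_ne (0 : V)
  obtain ⟨t₀, ht₀, ht₀v, -⟩ := hex v₀ hv₀
  let t₁ : T := ⟨t₀, ht₀, (hT t₀ ht₀).2 ⟨v₀, hv₀, ht₀v⟩⟩
  let r := Module.finrank (ZMod q) (A t₁.1)
  have hcardV : Nat.card V = q ^ (2 * r) := by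
    rw [Module.natCard_eq_pow_finrank (K := ZMod q), Nat.card_zmod, hhalf t₁]
  refine ⟨r, hcardV, ?_⟩
  classical
  haveI := Fintype.ofFinite G
  haveI := Fintype.ofFinite V
  let f : (Σ t : T, {x : A t.1 // x ≠ 0}) → {v : V // v ≠ 0} := fun p =>
    ⟨p.2.1, fun e => p.2.2 (Subtype.ext e)⟩
  have hf : Function.Bijective f := by
    constructor
    · rintro ⟨t, x, hx⟩ ⟨s, y, hy⟩ e
      have e' : (x : V) = y := congrArg Subtype.val e
      have : t = s := Subtype.ext (huniq _ _ _ t.2.1 s.2.1 (fun h => hx (Subtype.ext h)) x.2 (by rw [e']; exact y.2))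
      subst this
      have : x = y := Subtype.ext e'
      subst this
      rfl
    · rintro ⟨v, hv⟩
      obtain ⟨g, hg, hgv, -⟩ := hex v hv
      exact ⟨⟨⟨g, hg, (hT g hg).2 ⟨v, hv, hgv⟩⟩, ⟨v, hgv⟩, fun e => hv (congrArg Subtype.val e)⟩, rfl⟩
  have hc := Nat.card_congr (Equiv.ofBijective f hf)
  have hsub : ∀ t : T, Nat.card {x : A t.1 // x ≠ 0} = q ^ r - 1 := by
    intro t
    have h1 : Module.finrank (ZMod q) (A t.1) = r := by
      have := hhalf t; have := hhalf t₁; omega
    have h2 := Module.natCard_eq_pow_finrank (K := ZMod q) (V := A t.1)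
    rw [Nat.card_zmod, h1] at h2
    rw [← h2, Nat.card_eq_fintype_card, Nat.card_eq_fintype_card, Fintype.card_subtype_compl, Fintype.card_subtype_eq]
  rw [Nat.card_sigma, Finset.sum_congr rfl fun t _ => hsub t, Finset.sum_const, Finset.card_univ, smul_eq_mul,
    ← Nat.card_eq_fintype_card (α := T), Nat.card_eq_fintype_card (α := {v : V // v ≠ 0}), Fintype.card_subtype_compl, Fintype.card_subtype_eq, ← Nat.card_eq_fintype_card, hcardV] at hc
  have hr : 1 < q ^ r := by
    refine Nat.one_lt_pow ?_ (Fact.out (p := q.Prime)).one_lt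
    have := hhalf t₁
    have hn : 0 < n := Module.finrank_pos
    omega
  have hfac : q ^ (2 * r) - 1 = (q ^ r + 1) * (q ^ r - 1) := by
    rw [← Nat.sq_sub_sq, one_pow, ← pow_mul, mul_comm]
  rw [hfac] at hc
  exact Nat.eq_of_mul_eq_mul_right (by omega) hc

end Cfsg.Agent.S3381
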