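import Cfsg.Statements.S3383
-- import your own Cfsg.Agent.* helpers here

set_option autoImplicit false
open Cfsg
open scoped Pointwise

namespace Cfsg.Agent.S3383

/-- Let H be a Frobenius complement in a finite group L and K the Frobenius kernel (as a subgroup). Then K is characteristic in L, and every normal subgroup of L either contains K or is contained in K. -/
theorem result {L : Type*} [Group L] [Finite L]
    (H : Subgroup L) (hH : Cfsg.IsFrobeniusComplement H)
    (K : Subgroup L) (hK : (K : Set L) = Cfsg.frobeniusKernel H) :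
    K.Characteristic ∧ ∀ N : Subgroup L, N.Normal → K ≤ N ∨ N ≤ K := by
  obtain ⟨-, -, hTI⟩ := hH
  have hconjmem : ∀ (g x : L), x ∈ MulAut.conj g • H ↔ g⁻¹ * x * g ∈ H := by
    intro g x
    rw [Subgroup.mem_smul_pointwise_iff_exists]
    constructor
    · rintro ⟨s, hs, rfl⟩; simpa [MulAut.smul_def, mul_assoc] using hs
    · intro h; exact ⟨_, h, by simp [MulAut.smul_def, mul_assoc]⟩
  have hmemK : ∀ x, x ∈ K ↔ x = 1 ∨ ∀ g : L, g⁻¹ * x * g ∉ H := by
    intro x
    rw [← SetLike.mem_coe, hK]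
    simp [Cfsg.frobeniusKernel, hconjmem]
  have hKn : K.Normal := by
    refine ⟨fun x hx y => ?_⟩
    rw [hmemK] at hx ⊢
    rcases hx with rfl | hx
    · left; group
    · right; intro g; convert hx (y⁻¹ * g) using 2; group
  have hfix : ∀ h ∈ H, h ≠ 1 → ∀ u ∈ K, u * h = h * u → u = 1 := by
    intro h hh h1 u hu huh
    by_contra hu1
    have huH : u ∈ H := by
      by_contra hn
      have hmem : h ∈ H ⊓ MulAut.conj u • H := by
        refine ⟨hh, (hconjmem u h).2 ?_⟩
        rwa [mul_assoc, ← huh, inv_mul_cancel_left]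
      rw [hTI u hn] at hmem
      exact h1 hmem
    rcases (hmemK u).1 hu with h0 | h0
    · exact hu1 h0
    · exact h0 1 (by simpa using huH)
  have hN : ∀ N : Subgroup L, N.Normal → K ≤ N ∨ N ≤ K := by
    intro N hNn
    by_cases hNK : N ≤ K
    · exact Or.inr hNK
    left
    obtain ⟨x, hxN, hxK⟩ := SetLike.not_le_iff_exists.1 hNK
    rw [hmemK] at hxK
    push_neg at hxK
    obtain ⟨hx1, g, hg⟩ := hxK
    have hhN : g⁻¹ * x * g ∈ N := by simpa using hNn.conj_mem x hxN g⁻¹
    have hh1 : g⁻¹ * x * g ≠ 1 := fun e => hx1 (by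
      calc x = g * (g⁻¹ * x * g) * g⁻¹ := by group
        _ = 1 := by rw [e]; group)
    generalize g⁻¹ * x * g = h at hg hhN hh1
    let f : K → K := fun k => ⟨h * k * h⁻¹ * (k : L)⁻¹, K.mul_mem (hKn.conj_mem _ k.2 h) (K.inv_mem k.2)⟩
    have hinj : Function.Injective f := by
      intro a b hab
      have e : h * a * h⁻¹ * (a : L)⁻¹ = h * b * h⁻¹ * (b : L)⁻¹ := congrArg Subtype.val hab
      have hu := hfix h hg hh1 _ (K.mul_mem (K.inv_mem b.2) a.2) (by
        have e1 : (b : L) * h⁻¹ * (b : L)⁻¹ = a * h⁻¹ * (a : L)⁻¹ := by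
          apply mul_left_cancel (a := h); simpa [mul_assoc] using e.symm
        have e2 : (b : L) * h * (b : L)⁻¹ = a * h * (a : L)⁻¹ := by
          have := congrArg (·⁻¹) e1; simpa [mul_assoc] using this
        calc (b : L)⁻¹ * a * h = (b : L)⁻¹ * (a * h * (a : L)⁻¹) * a := by group
          _ = h * ((b : L)⁻¹ * a) := by rw [← e2]; group)
      exact Subtype.ext (inv_mul_eq_one.1 hu).symm
    intro k hk
    obtain ⟨k', hk'⟩ := Finite.surjective_of_injective hinj ⟨k, hk⟩
    have e : h * k' * h⁻¹ * (k' : L)⁻¹ = k := congrArg Subtype.val hk'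
    rw [← e]
    have h2 : (k' : L) * h⁻¹ * (k' : L)⁻¹ ∈ N := hNn.conj_mem _ (N.inv_mem hhN) k'
    simpa [mul_assoc] using N.mul_mem hhN h2
  refine ⟨Subgroup.characteristic_iff_map_eq.2 fun φ => ?_, hN⟩
  have hcard : Nat.card (K.map φ.toMonoidHom) = Nat.card K :=
    (Nat.card_congr (K.equivMapOfInjective φ.toMonoidHom φ.injective).toEquiv).symm
  rcases hN _ (hKn.map φ.toMonoidHom φ.surjective) with h | h
  · exact (Subgroup.eq_of_le_of_card_ge h hcard.le).symm
  · exact Subgroup.eq_of_le_of_card_ge h hcard.ge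

end Cfsg.Agent.S3383
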