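import Cfsg.Statements.S3389
-- import your own Cfsg.Agent.* helpers here

set_option autoImplicit false
open Cfsg

namespace Cfsg.Agent.S3389

/-- Let G be a finite group acting faithfully and transitively on a finite set Ω with fixity k ≥ 1: every non-identity element fixes at most k points and some non-identity element fixes exactly k points. Then |Z(G)| divides k; if k = 2 then |G| is even; and for every prime p > k dividing |G| and every point α, either p does not divide |G_α| or G_α contains a Sylow p-subgroup of G. -/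
theorem result {G : Type*} [Group G] [Finite G] {Ω : Type*} [Fintype Ω] [MulAction G Ω] [FaithfulSMul G Ω]
    (htr : MulAction.IsPretransitive G Ω) (k : ℕ) (hk : 1 ≤ k)
    (hfix : ∀ g : G, g ≠ 1 → Nat.card (MulAction.fixedBy Ω g) ≤ k) (hex : ∃ g : G, g ≠ 1 ∧ Nat.card (MulAction.fixedBy Ω g) = k) :
    Nat.card (Subgroup.center G) ∣ k ∧ (k = 2 → 2 ∣ Nat.card G) ∧
      ∀ (p : ℕ), p.Prime → k < p → p ∣ Nat.card G → ∀ α : Ω,
        ¬ p ∣ Nat.card (MulAction.stabilizer G α) ∨ ¬ p ∣ (MulAction.stabilizer G α).index := by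
  haveI := htr
  obtain ⟨g, hg1, hgk⟩ := hex
  have hFg : Nonempty (MulAction.fixedBy Ω g) := by
    have : 0 < Nat.card (MulAction.fixedBy Ω g) := by omega
    exact (Nat.card_pos_iff.1 this).1
  -- a nontrivial central element fixes no point
  have hZ : ∀ z ∈ Subgroup.center G, ∀ ω : Ω, z • ω = ω → z = 1 := by
    intro z hz ω hω
    refine eq_of_smul_eq_smul (α := Ω) fun ω' => ?_
    obtain ⟨t, rfl⟩ := MulAction.exists_smul_eq G ω ω'
    rw [one_smul, smul_smul, ← Subgroup.mem_center_iff.1 hz t, mul_smul, hω]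
  refine ⟨?_, ?_, ?_⟩
  · let instA : MulAction (Subgroup.center G) (MulAction.fixedBy Ω g) :=
      { smul := fun z w => ⟨(z : G) • (w : Ω), by
          show g • ((z : G) • (w : Ω)) = (z : G) • (w : Ω)
          rw [smul_smul, Subgroup.mem_center_iff.1 z.2 g, mul_smul, w.2]⟩
        one_smul := fun w => Subtype.ext (one_smul G (w : Ω))
        mul_smul := fun a b w => Subtype.ext (mul_smul (a : G) (b : G) (w : Ω)) }
    have hs : ∀ w : MulAction.fixedBy Ω g, MulAction.stabilizer (Subgroup.center G) w = ⊥ := fun w =>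
      (Subgroup.eq_bot_iff_forall _).2 fun z hz =>
        Subtype.ext (hZ z z.2 w (congrArg Subtype.val hz))
    have hc := Nat.card_congr (MulAction.selfEquivOrbitsQuotientProd hs)
    rw [Nat.card_prod, hgk] at hc
    exact Dvd.intro_left _ hc.symm
  · intro hk2
    subst hk2
    by_contra hodd
    obtain ⟨α, β, hαβ, hF⟩ : ∃ α β, α ≠ β ∧ MulAction.fixedBy Ω g = {α, β} := Set.ncard_eq_two.1 hgk
    let H : Subgroup G := MulAction.stabilizer G α ⊓ MulAction.stabilizer G β
    have hfixH : ∀ h ∈ H, h ≠ 1 → MulAction.fixedBy Ω h = {α, β} := by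
      intro h hh h1
      obtain ⟨ha, hb⟩ := hh
      refine (Set.eq_of_subset_of_ncard_le (Set.insert_subset (show α ∈ MulAction.fixedBy Ω h from ha) (Set.singleton_subset_iff.2 (show β ∈ MulAction.fixedBy Ω h from hb))) ?_ (Set.toFinite _)).symm
      rw [Set.ncard_pair hαβ]; exact hfix h h1
    have hgH : g ∈ H := ⟨(Set.ext_iff.1 hF α).2 (Or.inl rfl), (Set.ext_iff.1 hF β).2 (Or.inr rfl)⟩
    -- conjugates of nontrivial elements of `H` meet only inside a coset of `H`
    have key : ∀ u h : G, h ∈ H → h ≠ 1 → u * h * u⁻¹ ∈ H → u ∈ H := by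
      intro u h hh h1 hu
      have h1' : u * h * u⁻¹ ≠ 1 := fun e => h1 (conj_eq_one_iff.1 e)
      have himg : ∀ ω ∈ ({α, β} : Set Ω), u • ω ∈ ({α, β} : Set Ω) := by
        intro ω hω
        rw [← hfixH _ hu h1']
        rw [← hfixH h hh h1] at hω
        show (u * h * u⁻¹) • u • ω = u • ω
        rw [smul_smul, inv_mul_cancel_right, mul_smul, hω]
      have h2 : ∀ ω ∈ ({α, β} : Set Ω), u • u • ω = ω := by
        intro ω hω
        have ha := himg α (Or.inl rfl)
        have hb := himg β (Or.inr rfl)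
        simp only [Set.mem_insert_iff, Set.mem_singleton_iff] at ha hb hω
        have hne : u • α ≠ u • β := fun e => hαβ (MulAction.injective u e)
        rcases hω with rfl | rfl <;> rcases ha with ha | ha <;> rcases hb with hb | hb <;>
          simp_all
      have hsq : u ^ 2 ∈ H := ⟨by show u ^ 2 • α = α; rw [sq, mul_smul, h2 α (Or.inl rfl)],
        by show u ^ 2 • β = β; rw [sq, mul_smul, h2 β (Or.inr rfl)]⟩
      obtain ⟨j, hj⟩ : Odd (orderOf u) := by
        rw [← Nat.not_even_iff_odd, even_iff_two_dvd]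
        exact fun h => hodd (h.trans (orderOf_dvd_natCard u))
      have hu' : u = (u ^ 2) ^ (j + 1) := by
        rw [← pow_mul, show 2 * (j + 1) = orderOf u + 1 by omega, pow_succ, pow_orderOf_eq_one, one_mul]
      rw [hu']; exact H.pow_mem hsq _
    let D := Σ ω : Ω, {x : MulAction.stabilizer G ω // x ≠ 1}
    let φ : (G ⧸ H) × {h : H // h ≠ 1} × Bool → D := fun p =>
      ⟨p.1.out • (cond p.2.2 α β), ⟨⟨p.1.out * ((p.2.1.1 : H) : G) * p.1.out⁻¹, by
        rw [MulAction.mem_stabilizer_iff, smul_smul, inv_mul_cancel_right, mul_smul]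
        congr 1
        cases p.2.2
        · exact p.2.1.1.2.2
        · exact p.2.1.1.2.1⟩, fun e => p.2.1.2 (Subtype.ext (conj_eq_one_iff.1 (congrArg Subtype.val e)))⟩⟩
    have hφ : Function.Injective φ := by
      rintro ⟨q, h, i⟩ ⟨q', h', i'⟩ e
      have e1 : q.out • cond i α β = q'.out • cond i' α β := congrArg Sigma.fst e
      have e2 : q.out * ((h.1 : H) : G) * q.out⁻¹ = q'.out * ((h'.1 : H) : G) * q'.out⁻¹ :=
        congrArg (fun d : D => ((d.2.1 : MulAction.stabilizer G d.1) : G)) e
      have h1 : ((h.1 : H) : G) ≠ 1 := fun e => h.2 (Subtype.ext e)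
      have hu : q'.out⁻¹ * q.out ∈ H := by
        refine key _ _ h.1.2 h1 ?_
        have : q'.out⁻¹ * q.out * ((h.1 : H) : G) * (q'.out⁻¹ * q.out)⁻¹ = ((h'.1 : H) : G) := by
          rw [show q'.out⁻¹ * q.out * ((h.1 : H) : G) * (q'.out⁻¹ * q.out)⁻¹ =
            q'.out⁻¹ * (q.out * ((h.1 : H) : G) * q.out⁻¹) * q'.out by group, e2]
          group
        rw [this]; exact h'.1.2
      have hq : q' = q := by
        rw [← QuotientGroup.out_eq' q, ← QuotientGroup.out_eq' q']
        exact QuotientGroup.eq.2 hu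
      subst hq
      have hh : h = h' := Subtype.ext (Subtype.ext (mul_left_cancel (mul_right_cancel e2)))
      subst hh
      have hi := MulAction.injective _ e1
      cases i <;> cases i' <;> simp_all
    have hle := Nat.card_le_card_of_injective φ hφ
    haveI : ∀ ω : Ω, Finite {x : MulAction.stabilizer G ω // x ≠ 1} := fun ω => inferInstance
    simp only [D, Nat.card_prod, Nat.card_sigma] at hle
    have hne : ∀ (K : Subgroup G), Nat.card {x : K // x ≠ 1} + 1 = Nat.card K := by
      intro K
      classical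
      haveI := Fintype.ofFinite K
      rw [Nat.card_eq_fintype_card, Nat.card_eq_fintype_card, Fintype.card_subtype_compl, Fintype.card_subtype_eq]
      have : 0 < Fintype.card K := Fintype.card_pos
      omega
    have hsum : ∀ ω : Ω, Fintype.card Ω * Nat.card {x : MulAction.stabilizer G ω // x ≠ 1} + Fintype.card Ω = Nat.card G := by
      intro ω
      rw [← Nat.mul_succ, Nat.succ_eq_add_one, hne, ← (MulAction.stabilizer G ω).index_mul_card, MulAction.index_stabilizer_of_transitive G ω, Nat.card_eq_fintype_card (α := Ω)]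
    have hS := Finset.sum_congr rfl fun ω (_ : ω ∈ (Finset.univ : Finset Ω)) => hsum ω
    simp only [Finset.sum_add_distrib, ← Finset.mul_sum, Finset.sum_const, Finset.card_univ, smul_eq_mul] at hS
    have hGH : Nat.card (G ⧸ H) * Nat.card H = Nat.card G := H.index_mul_card
    have hHc := hne H
    have hgne : 0 < Nat.card {x : H // x ≠ 1} := Nat.card_pos_iff.2 ⟨⟨⟨⟨g, hgH⟩, fun e => hg1 (congrArg Subtype.val e)⟩⟩, inferInstance⟩
    have hn : 0 < Fintype.card Ω := Fintype.card_pos_iff.2 ⟨α⟩
    have hB : Nat.card Bool = 2 := by simp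
    rw [hB] at hle
    rw [← mul_add, mul_left_cancel_iff_of_pos hn] at hS
    rw [← hS, ← hHc] at hGH
    nlinarith [hGH, hgne, hn, hle]
  · intro p hp hkp _ α
    haveI := Fact.mk hp
    by_contra hcon
    push_neg at hcon
    obtain ⟨hpα, hpi⟩ := hcon
    let A := MulAction.stabilizer G α
    obtain ⟨P⟩ : Nonempty (Sylow p A) := Sylow.nonempty
    let P' : Subgroup G := (P : Subgroup A).map A.subtype
    have hP' : IsPGroup p P' := P.2.map _
    obtain ⟨Q, hPQ⟩ := hP'.exists_le_sylow
    obtain ⟨x, hx, hx1⟩ := ((P : Subgroup A).ne_bot_iff_exists_ne_one.1 (P.ne_bot_of_dvd_card hpα)) |> fun ⟨y, hy⟩ => (⟨(y : A), y.2, fun e => hy (Subtype.ext e)⟩ : ∃ x : A, x ∈ (P : Subgroup A) ∧ x ≠ 1)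
    have hQA : (Q : Subgroup G) ⊓ A = P' := by
      refine le_antisymm ?_ (le_inf hPQ (Subgroup.map_subtype_le _))
      have hR : IsPGroup p (((Q : Subgroup G) ⊓ A).subgroupOf A) :=
        (Q.2.to_le inf_le_left).comap_of_injective _ A.subtype_injective
      have hle : (P : Subgroup A) ≤ ((Q : Subgroup G) ⊓ A).subgroupOf A := fun y hy => ⟨hPQ ⟨y, hy, rfl⟩, y.2⟩
      have heq := P.3 hR hle
      intro y hy
      exact ⟨⟨y, hy.2⟩, heq ▸ hy, rfl⟩
    by_cases hQP : (Q : Subgroup G) ≤ P'
    · exact Q.not_dvd_index (hpi.trans (Subgroup.index_dvd_of_le (hQP.trans (Subgroup.map_subtype_le _))))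
    · haveI : Group.IsNilpotent (Q : Subgroup G) := Q.2.isNilpotent
      have hlt : P'.subgroupOf Q < ⊤ :=
        lt_top_iff_ne_top.2 fun e => hQP (Subgroup.subgroupOf_eq_top.1 e)
      obtain ⟨y, hyN, hyP⟩ := SetLike.exists_of_lt (Group.normalizerCondition_of_isNilpotent (P'.subgroupOf Q) hlt)
      let y' : G := ((y : (Q : Subgroup G)) : G)
      have hxy : ∀ a ∈ P', y'⁻¹ * a * y' ∈ P' := by
        intro a ha
        have h := (Subgroup.mem_normalizer_iff''.1 hyN ⟨a, hPQ ha⟩).1 (by simpa [Subgroup.mem_subgroupOf] using ha)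
        simpa [Subgroup.mem_subgroupOf, y'] using h
      -- the fixed points of `P'` are permuted by `y'`
      let F : Set Ω := {ω | ∀ a ∈ P', a • ω = ω}
      have hFy : ∀ ω ∈ F, y' • ω ∈ F := by
        intro ω hω a ha
        calc a • y' • ω = y' • (y'⁻¹ * a * y') • ω := by simp only [smul_smul]; congr 1; group
          _ = y' • ω := by rw [hω _ (hxy a ha)]
      have hαF : α ∈ F := fun a ha => Subgroup.map_subtype_le _ ha
      have hpow : ∀ n : ℕ, y' ^ n • α ∈ F := by
        intro n
        induction n with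
        | zero => simpa using hαF
        | succ n ih => rw [pow_succ', mul_smul]; exact hFy _ ih
      have hsub : MulAction.orbit (Subgroup.zpowers y') α ⊆ MulAction.fixedBy Ω (x : G) := by
        rintro _ ⟨⟨z, hz⟩, rfl⟩
        rw [← mem_powers_iff_mem_zpowers] at hz
        obtain ⟨n, rfl⟩ := Submonoid.mem_powers_iff _ _ |>.1 hz
        exact hpow n _ ⟨x, hx, rfl⟩
      have hpy : IsPGroup p (Subgroup.zpowers y') := Q.2.to_le (Subgroup.zpowers_le.2 y.2)
      obtain ⟨m, hm⟩ := hpy.card_orbit α
      have hle : Nat.card (MulAction.orbit (Subgroup.zpowers y') α) ≤ k := by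
        refine le_trans ?_ (hfix (x : G) (fun e => hx1 (Subtype.ext e)))
        exact Nat.card_mono (Set.toFinite _) hsub
      have hm0 : m = 0 := by
        by_contra h
        have := Nat.le_self_pow h p
        omega
      rw [hm0, pow_zero] at hm
      haveI := (Nat.card_eq_one_iff_unique.1 hm).1
      have hyα : y' • α = α := congrArg Subtype.val (Subsingleton.elim
        (⟨y' • α, ⟨y', Subgroup.mem_zpowers y'⟩, rfl⟩ : MulAction.orbit (Subgroup.zpowers y') α) ⟨α, MulAction.mem_orbit_self α⟩)
      apply hyP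
      show y' ∈ P'
      rw [← hQA]
      exact ⟨y.2, hyα⟩

end Cfsg.Agent.S3389
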