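import Cfsg.Statements.S3390
import Cfsg.Agent.S3224
import Cfsg.Agent.Lib.PGroup.Basic

set_option autoImplicit false
open Cfsg
open scoped Pointwise

namespace Cfsg.Agent.S3390

section Sign

variable {α : Type*} [Fintype α] [DecidableEq α]

/-- The sign of a permutation generating a group acting semiregularly on its support. -/
theorem sign_of_semiregular (σ : Equiv.Perm α)
    (h : ∀ x ∈ σ.support, ∀ k : ℕ, (σ ^ k) x = x → σ ^ k = 1) :
    ∃ c : ℕ, σ.support.card = c * orderOf σ ∧ Equiv.Perm.sign σ = (-1 : ℤˣ) ^ (c * orderOf σ + c) := by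
  have hrep : σ.cycleType = Multiset.replicate (Multiset.card σ.cycleType) (orderOf σ) := by
    rw [Multiset.eq_replicate_card]
    intro n hn
    refine Nat.dvd_antisymm (Equiv.Perm.dvd_of_mem_cycleType hn) ?_
    obtain ⟨c, τ, hστ, hd, hc, rfl⟩ := Equiv.Perm.mem_cycleType_iff.1 hn
    obtain ⟨x, hx⟩ := Finset.card_pos.1 (lt_of_lt_of_le (by norm_num) hc.two_le_card_support : 0 < c.support.card)
    have hxσ : x ∈ σ.support := by
      rw [hστ, hd.support_mul]
      exact Finset.mem_union_left _ hx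
    refine orderOf_dvd_of_pow_eq_one (h x hxσ _ ?_)
    rw [hστ, hd.commute.mul_pow, Equiv.Perm.mul_apply, ← hc.orderOf, pow_orderOf_eq_one, Equiv.Perm.one_apply]
    refine Equiv.Perm.pow_apply_eq_self_of_apply_eq_self ?_ _
    exact (hd x).resolve_left (Equiv.Perm.mem_support.1 hx)
  refine ⟨Multiset.card σ.cycleType, ?_, ?_⟩
  · rw [← Equiv.Perm.sum_cycleType]
    conv_lhs => rw [hrep]
    rw [Multiset.sum_replicate, smul_eq_mul]
  · rw [Equiv.Perm.sign_of_cycleType]
    congr 1
    conv_lhs => arg 1; rw [hrep]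
    rw [Multiset.sum_replicate, smul_eq_mul]

theorem sign_eq_one_of_semiregular (σ : Equiv.Perm α) {N : ℕ}
    (h : ∀ x ∈ σ.support, ∀ k : ℕ, (σ ^ k) x = x → σ ^ k = 1) (hN : N ∣ σ.support.card)
    (ho : 2 * orderOf σ ∣ N) : Equiv.Perm.sign σ = 1 := by
  obtain ⟨c, hc, hs⟩ := sign_of_semiregular σ h
  rw [hs]
  have h2 : 2 * orderOf σ ∣ c * orderOf σ := hc ▸ ho.trans hN
  have hc2 : 2 ∣ c := Nat.dvd_of_mul_dvd_mul_right (orderOf_pos σ) h2
  exact Even.neg_one_pow (even_iff_two_dvd.2 (dvd_add (hc2.mul_right _) hc2))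

end Sign

section Frob

variable {G : Type*} [Group G] [Finite G] {Ω : Type*} [Finite Ω] [MulAction G Ω]

/-- In a group whose nontrivial elements fix at most one point of an invariant set, the points of
that set with nontrivial stabilizer form one orbit. -/
theorem orbit_eq_of_nonregular {L X : Type*} [Group L] [Finite L] [Finite X] [MulAction L X]
    (h1 : ∀ g : L, g ≠ 1 → ∀ a b : X, g • a = a → g • b = b → a = b)
    {a b : X} (ha : MulAction.stabilizer L a ≠ ⊥) (hb : MulAction.stabilizer L b ≠ ⊥) :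
    b ∈ MulAction.orbit L a := by
  classical
  by_contra hne
  let S : X → Set L := fun c => {g | g ≠ 1 ∧ ∃ x ∈ MulAction.orbit L c, g • x = x}
  have hcount : ∀ c : X, MulAction.stabilizer L c ≠ ⊥ → Nat.card L ≤ 2 * (S c).ncard := by
    intro c hc
    let f : (Σ x : MulAction.orbit L c, {g : MulAction.stabilizer L (x : X) // g ≠ 1}) → S c := fun p =>
      ⟨(p.2.1 : L), fun e => p.2.2 (Subtype.ext e), p.1, p.1.2, p.2.1.2⟩
    have hf : Function.Bijective f := by
      constructor
      · rintro ⟨⟨x, hx⟩, ⟨g, hg⟩, hg1⟩ ⟨⟨y, hy⟩, ⟨g', hg'⟩, hg'1⟩ h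
        have e : g = g' := congrArg Subtype.val h
        subst e
        obtain rfl : x = y := h1 g (fun e => hg1 (Subtype.ext e)) x y hg hg'
        rfl
      · rintro ⟨g, hg1, x, hx, hgx⟩
        exact ⟨⟨⟨x, hx⟩, ⟨⟨g, hgx⟩, fun e => hg1 (congrArg Subtype.val e)⟩⟩, rfl⟩
    haveI := Fintype.ofFinite (MulAction.orbit L c)
    have hcard : ∀ x : MulAction.orbit L c, Nat.card (MulAction.stabilizer L (x : X)) = Nat.card (MulAction.stabilizer L c) := by
      intro x
      obtain ⟨g, hg⟩ := x.2
      exact (Nat.card_congr (MulAction.stabilizerEquivStabilizer hg.symm).toEquiv).symm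
    have hterm : ∀ x : MulAction.orbit L c,
        Nat.card {g : MulAction.stabilizer L (x : X) // g ≠ 1} = Nat.card (MulAction.stabilizer L c) - 1 := by
      intro x
      have := Nat.card_congr (Equiv.optionSubtypeNe (1 : MulAction.stabilizer L (x : X)))
      rw [Finite.card_option, hcard x] at this
      omega
    rw [← Nat.card_coe_set_eq (S c), ← Nat.card_eq_of_bijective f hf, Nat.card_sigma]
    simp only [hterm]
    rw [Finset.sum_const, Finset.card_univ, ← Nat.card_eq_fintype_card, smul_eq_mul,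
      ← Nat.card_congr (MulAction.orbitProdStabilizerEquivGroup L c), Nat.card_prod]
    have h2 : 2 ≤ Nat.card (MulAction.stabilizer L c) := (Subgroup.one_lt_card_iff_ne_bot _).2 hc
    obtain ⟨e, he⟩ : ∃ e, Nat.card (MulAction.stabilizer L c) = e + 1 :=
      ⟨Nat.card (MulAction.stabilizer L c) - 1, by omega⟩
    rw [he, Nat.add_sub_cancel]
    calc Nat.card (MulAction.orbit L c) * (e + 1) ≤ Nat.card (MulAction.orbit L c) * (2 * e) :=
          Nat.mul_le_mul_left _ (by omega)
      _ = 2 * (Nat.card (MulAction.orbit L c) * e) := by ring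
  have hdisj : Disjoint (S a) (S b) := by
    rw [Set.disjoint_left]
    rintro g ⟨hg1, x, hx, hgx⟩ ⟨-, y, hy, hgy⟩
    obtain rfl := h1 g hg1 x y hgx hgy
    exact hne ((MulAction.orbit_eq_iff.2 hx).symm.trans (MulAction.orbit_eq_iff.2 hy) ▸ MulAction.mem_orbit_self b)
  have hsub : insert (1 : L) (S a ∪ S b) ⊆ Set.univ := Set.subset_univ _
  have h := Set.ncard_le_ncard hsub
  rw [Set.ncard_insert_of_notMem (fun h => h.elim (fun h => h.1 rfl) (fun h => h.1 rfl)),
    Set.ncard_union_eq hdisj, Set.ncard_univ] at h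
  have := hcount a ha
  have := hcount b hb
  omega

/-- Cardinality of an invariant set without nonregular points. -/
theorem card_dvd_of_semiregular {L X : Type*} [Group L] [Finite L] [Finite X] [MulAction L X] (T : Set X)
    (hT : ∀ g : L, ∀ x ∈ T, g • x ∈ T) (hreg : ∀ x ∈ T, MulAction.stabilizer L x = ⊥) :
    Nat.card L ∣ T.ncard := by
  let A : SubMulAction L X := ⟨T, fun g x hx => hT g x hx⟩
  rw [← Nat.card_coe_set_eq]
  show Nat.card L ∣ Nat.card A
  haveI : Fintype (MulAction.orbitRel.Quotient L A) := Fintype.ofFinite _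
  rw [Nat.card_congr (MulAction.selfEquivSigmaOrbits L A), Nat.card_sigma]
  refine Finset.dvd_sum fun i _ => ?_
  rw [← Nat.card_congr (MulAction.orbitProdStabilizerEquivGroup L (Quotient.out i)), Nat.card_prod,
    show MulAction.stabilizer L (Quotient.out i) = ⊥ from ?_, Subgroup.card_bot, mul_one]
  refine (Subgroup.eq_bot_iff_forall _).2 fun g hg => ?_
  have hg' : g ∈ MulAction.stabilizer L ((Quotient.out i : A) : X) := congrArg Subtype.val hg
  rw [hreg _ (Quotient.out i).2, Subgroup.mem_bot] at hg'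
  exact hg'

theorem frobenius_index_two [FaithfulSMul G Ω] [MulAction.IsPretransitive G Ω]
    (hF3 : ∀ g : G, ∀ a b c : Ω, a ≠ b → a ≠ c → b ≠ c → g • a = a → g • b = b → g • c = c → g = 1)
    {α β : Ω} (hαβ : α ≠ β) {x : G} (hx : x ≠ 1) (hxα : x • α = α) (hxβ : x • β = β)
    (M : Subgroup G) (hM : M.index = 2) (hMα : MulAction.stabilizer G α ≤ M)
    {s : G} (hs : s ∉ M) (hsα : s • α = β) :
    ∃ H : Subgroup M, Cfsg.IsFrobeniusComplement H := by
  classical
  haveI hMn : M.Normal := Subgroup.normal_of_index_eq_two hM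
  set O1 : Set Ω := {γ | ∃ m ∈ M, m • α = γ} with hO1
  set O2 : Set Ω := {γ | ∃ m ∈ M, m • β = γ} with hO2
  have hcov : ∀ γ, γ ∈ O1 ∨ γ ∈ O2 := by
    intro γ
    obtain ⟨g, rfl⟩ := MulAction.exists_smul_eq G α γ
    by_cases hg : g ∈ M
    · exact Or.inl ⟨g, hg, rfl⟩
    · refine Or.inr ⟨g * s⁻¹, (Subgroup.mul_mem_iff_of_index_two hM).2
        ⟨fun h => absurd h hg, fun h => absurd (inv_mem_iff.1 h) hs⟩, ?_⟩
      rw [← hsα, mul_smul, inv_smul_smul]
  have hdisj : ∀ γ, γ ∈ O1 → γ ∈ O2 → False := by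
    rintro γ ⟨m, hm, rfl⟩ ⟨m', hm', e⟩
    rw [← hsα] at e
    have h1 : m⁻¹ * m' * s ∈ M := hMα (by rw [MulAction.mem_stabilizer_iff, mul_smul, mul_smul, e, inv_smul_smul])
    exact hs ((Subgroup.mul_mem_cancel_left M (mul_mem (inv_mem hm) hm')).1 h1)
  have hncard : O1.ncard = O2.ncard := by
    rw [← Set.ncard_image_of_injective O1 (MulAction.injective s)]
    congr 1
    ext γ
    constructor
    · rintro ⟨_, ⟨m, hm, rfl⟩, rfl⟩
      refine ⟨s * m * s⁻¹, hMn.conj_mem m hm s, ?_⟩
      rw [← hsα, ← mul_smul, inv_mul_cancel_right, mul_smul]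
    · rintro ⟨m, hm, rfl⟩
      refine ⟨(s⁻¹ * m * s) • α, ⟨_, by simpa using hMn.conj_mem m hm s⁻¹, rfl⟩, ?_⟩
      show s • (s⁻¹ * m * s) • α = m • β
      rw [← mul_smul, ← hsα, ← mul_smul]
      congr 1
      group
  let L := MulAction.stabilizer G α
  let X : SubMulAction L Ω := ⟨{γ | γ ≠ α}, fun g γ hγ e => hγ (by
    have h1 : (g : G) • γ = α := e
    have h2 : (g : G) • α = α := g.2
    exact MulAction.injective (g : G) (h1.trans h2.symm))⟩
  have hfix1 : ∀ g : L, g ≠ 1 → ∀ a b : X, g • a = a → g • b = b → a = b := by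
    intro g hg a b ha hb
    by_contra hab
    exact hg (Subtype.ext (hF3 g α a b (Ne.symm a.2) (Ne.symm b.2) (fun e => hab (Subtype.ext e)) g.2
      (congrArg Subtype.val ha) (congrArg Subtype.val hb)))
  let β' : X := ⟨β, hαβ.symm⟩
  have hβ' : MulAction.stabilizer L β' ≠ ⊥ := fun h => hx (by
    have : (⟨x, hxα⟩ : L) ∈ MulAction.stabilizer L β' := Subtype.ext hxβ
    rw [h, Subgroup.mem_bot] at this
    exact congrArg Subtype.val this)
  set O : Set Ω := {γ | ∃ g ∈ L, g • β = γ} with hO
  have hOO2 : O ⊆ O2 := by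
    rintro γ ⟨g, hg, rfl⟩
    exact ⟨g, hMα hg, rfl⟩
  have hregular : ∀ γ, γ ≠ α → γ ∉ O → MulAction.stabilizer L γ = ⊥ := by
    intro γ hγ hγO
    by_contra hne
    have hne' : MulAction.stabilizer L (⟨γ, hγ⟩ : X) ≠ ⊥ := fun h => hne ((Subgroup.eq_bot_iff_forall _).2 fun g hg => by
      have hg' : g ∈ MulAction.stabilizer L (⟨γ, hγ⟩ : X) := Subtype.ext (show g • γ = γ from hg)
      rwa [h, Subgroup.mem_bot] at hg')
    obtain ⟨g, hg⟩ := orbit_eq_of_nonregular hfix1 hβ' hne'
    exact hγO ⟨g, g.2, congrArg Subtype.val hg⟩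
  have hd1 : Nat.card L ∣ (O1 \ {α}).ncard := by
    refine card_dvd_of_semiregular _ ?_ fun γ hγ => hregular γ hγ.2 fun h => hdisj γ hγ.1 (hOO2 h)
    rintro g γ ⟨⟨m, hm, rfl⟩, hne⟩
    refine ⟨⟨(g : G) * m, mul_mem (hMα g.2) hm, mul_smul _ _ _⟩, fun e => hne ?_⟩
    exact MulAction.injective (g : G) ((e : (g : G) • m • α = α).trans g.2.symm)
  have hd2 : Nat.card L ∣ (O2 \ O).ncard := by
    refine card_dvd_of_semiregular _ ?_ fun γ hγ => hregular γ (fun e => hdisj γ (e ▸ ⟨1, one_mem M, one_smul _ _⟩) hγ.1) hγ.2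
    rintro g γ ⟨⟨m, hm, rfl⟩, hne⟩
    refine ⟨⟨(g : G) * m, mul_mem (hMα g.2) hm, mul_smul _ _ _⟩, fun ⟨g', hg', e⟩ => hne ⟨(g : G)⁻¹ * g', mul_mem (inv_mem g.2) hg', ?_⟩⟩
    rw [mul_smul, e]
    exact inv_smul_smul (g : G) _
  rw [Set.ncard_sdiff hOO2, ← hncard] at hd2
  rw [Set.ncard_sdiff_singleton_of_mem (show α ∈ O1 from ⟨1, one_mem M, one_smul _ _⟩)] at hd1
  have hOk : O.ncard * Nat.card (MulAction.stabilizer L β') = Nat.card L := by
    have e : O = (fun y : X => (y : Ω)) '' MulAction.orbit L β' := by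
      ext γ
      constructor
      · rintro ⟨g, hg, rfl⟩
        exact ⟨⟨g, hg⟩ • β', ⟨_, rfl⟩, rfl⟩
      · rintro ⟨_, ⟨g, rfl⟩, rfl⟩
        exact ⟨g, g.2, rfl⟩
    rw [e, Set.ncard_image_of_injective _ Subtype.val_injective, ← Nat.card_coe_set_eq, ← Nat.card_prod]
    exact Nat.card_congr (MulAction.orbitProdStabilizerEquivGroup L β')
  have hO1 : O.ncard = 1 := by
    have hle : O.ncard ≤ O1.ncard := by rw [hncard]; exact Set.ncard_le_ncard hOO2
    have hd3 : Nat.card L ∣ (O1.ncard - 1) - (O1.ncard - O.ncard) := Nat.dvd_sub hd1 hd2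
    have h1 : 1 ≤ O.ncard := Nat.one_le_iff_ne_zero.2 fun e => by
      rw [e, zero_mul] at hOk
      exact Nat.card_pos.ne' hOk.symm
    have h2 := (Subgroup.one_lt_card_iff_ne_bot _).2 hβ'
    have h3 : O.ncard < Nat.card L := hOk ▸ lt_mul_of_one_lt_right (by omega) h2
    rw [show (O1.ncard - 1) - (O1.ncard - O.ncard) = O.ncard - 1 by omega] at hd3
    by_contra hne
    have := Nat.le_of_dvd (by omega) hd3
    omega
  have hLβ : ∀ g : G, g • α = α → g • β = β := by
    intro g hg
    obtain ⟨y, hy⟩ := Set.ncard_eq_one.1 hO1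
    have h1 : g • β ∈ O := ⟨g, hg, rfl⟩
    have h2 : β ∈ O := ⟨1, one_mem L, one_smul _ _⟩
    rw [hy, Set.mem_singleton_iff] at h1 h2
    exact h1.trans h2.symm
  refine ⟨L.subgroupOf M, fun h => ?_, fun h => ?_, fun g hg => ?_⟩
  · rw [Subgroup.subgroupOf_eq_bot, disjoint_iff, inf_eq_left.2 hMα] at h
    exact hx (Subgroup.mem_bot.1 (h ▸ (show x ∈ L from hxα)))
  · rw [Subgroup.subgroupOf_eq_top] at h
    refine hx ((Subgroup.mem_bot).1 ?_)
    have hall : ∀ m ∈ M, m = 1 := fun m hm => by
      refine FaithfulSMul.eq_of_smul_eq_smul (α := Ω) fun γ => ?_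
      obtain ⟨g, rfl⟩ := MulAction.exists_smul_eq G α γ
      have h1 : (g⁻¹ * m * g) • α = α := h (by simpa using hMn.conj_mem m hm g⁻¹)
      rw [one_smul, ← mul_smul]
      calc (m * g) • α = g • (g⁻¹ * m * g) • α := by rw [← mul_smul]; congr 1; group
        _ = g • α := by rw [h1]
    exact Subgroup.mem_bot.2 (hall x (hMα hxα))
  · refine (Subgroup.eq_bot_iff_forall _).2 fun h hh => ?_
    obtain ⟨h1, h2⟩ := Subgroup.mem_inf.1 hh
    rw [Subgroup.mem_pointwise_smul_iff_inv_smul_mem] at h2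
    have h1' : (h : G) • α = α := h1
    have h2' : ((g : G)⁻¹ * h * g) • α = α := by
      have h3 : ((MulAut.conj g)⁻¹ • h : M) ∈ L.subgroupOf M := h2
      rw [MulAut.smul_def, MulAut.conj_inv_apply] at h3
      exact h3
    rw [mul_smul, mul_smul, inv_smul_eq_iff] at h2'
    refine Subtype.ext (hF3 h α ((g : G) • α) β (fun e => hg e.symm) hαβ ?_ h1' h2' (hLβ _ h1'))
    intro e
    exact hdisj β ⟨g, g.2, e⟩ ⟨1, one_mem M, one_smul _ _⟩

end Frob


/-- Let G be a finite group acting faithfully and transitively on a finite set Ω with fixity 2 (every non-identity element fixes at most two points, and some fixes exactly two). Let α ∈ Ω and S a Sylow 2-subgroup of G. Then one of the following holds: the stabilizer S_α of α in S is trivial; S is dihedral or semidihedral and either |S_α| = 2 or |S : S_α| = 2; |S| ≥ 4, S has exactly one orbit of size 2 on Ω, every other S-orbit is regular, and G has a normal subgroup of index 2 or of index |S| which is a Frobenius group; or S ≤ G_α. -/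
theorem result {G : Type*} [Group G] [Finite G] {Ω : Type*} [Fintype Ω] [MulAction G Ω] [FaithfulSMul G Ω] (htr : MulAction.IsPretransitive G Ω)
    (hfix : ∀ g : G, g ≠ 1 → Nat.card (MulAction.fixedBy Ω g) ≤ 2) (hex : ∃ g : G, g ≠ 1 ∧ Nat.card (MulAction.fixedBy Ω g) = 2) (α : Ω) (S : Sylow 2 G) :
    (S : Subgroup G) ⊓ MulAction.stabilizer G α = ⊥ ∨
    (((∃ n : ℕ, Nonempty (↥(S : Subgroup G) ≃* DihedralGroup n)) ∨ Cfsg.IsQuasiDihedral ↥(S : Subgroup G)) ∧
       (Nat.card ↥((S : Subgroup G) ⊓ MulAction.stabilizer G α) = 2 ∨ ((S : Subgroup G) ⊓ MulAction.stabilizer G α).relIndex (S : Subgroup G) = 2)) ∨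
    (4 ≤ Nat.card (S : Subgroup G) ∧
       (∃ ω : Ω, Nat.card (MulAction.orbit ↥(S : Subgroup G) ω) = 2 ∧
          ∀ ω' : Ω, ω' ∉ MulAction.orbit ↥(S : Subgroup G) ω → Nat.card (MulAction.orbit ↥(S : Subgroup G) ω') = Nat.card (S : Subgroup G)) ∧
       ∃ N : Subgroup G, N.Normal ∧ (N.index = 2 ∨ N.index = Nat.card (S : Subgroup G)) ∧ (∃ H : Subgroup ↥N, Cfsg.IsFrobeniusComplement H)) ∨
    (S : Subgroup G) ≤ MulAction.stabilizer G α := by
  classical
  haveI := htr
  haveI := Fintype.ofFinite G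
  haveI : Fact (Nat.Prime 2) := ⟨Nat.prime_two⟩
  have hF3 : ∀ g : G, ∀ a b c : Ω, a ≠ b → a ≠ c → b ≠ c → g • a = a → g • b = b → g • c = c → g = 1 := by
    intro g a b c hab hac hbc ha hb hc
    by_contra hg
    have hle := hfix g hg
    rw [Nat.card_coe_set_eq] at hle
    have hsub : ({a, b, c} : Set Ω) ⊆ MulAction.fixedBy Ω g := by
      rintro y (rfl | rfl | rfl)
      exacts [ha, hb, hc]
    have h3 : ({a, b, c} : Set Ω).ncard = 3 :=
      Set.ncard_eq_three.2 ⟨a, b, c, hab, hac, hbc, rfl⟩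
    have := Set.ncard_le_ncard hsub
    omega
  set T : Subgroup G := (S : Subgroup G) with hT
  have hTp : IsPGroup 2 T := S.2
  set P := T ⊓ MulAction.stabilizer G α with hPdef
  have hPmem : ∀ g, g ∈ P ↔ g ∈ T ∧ g • α = α := fun g => Iff.rfl
  by_cases hP : P = ⊥
  · exact Or.inl hP
  right
  by_cases hSα : T ≤ MulAction.stabilizer G α
  · exact Or.inr (Or.inr hSα)
  -- an element of `T` normalizing `P`, outside `P`
  set P₀ : Subgroup T := P.subgroupOf T with hP₀
  have hP₀top : P₀ ≠ ⊤ := fun h => hSα ((Subgroup.subgroupOf_eq_top.1 h).trans inf_le_right)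
  obtain ⟨⟨s, hsT⟩, hsN, hsP⟩ := SetLike.exists_of_lt (PGroup.lt_normalizer hTp hP₀top)
  have hsP' : s • α ≠ α := fun h => hsP (show s ∈ P from ⟨hsT, h⟩)
  have hnorm : ∀ h ∈ P, s * h * s⁻¹ ∈ P ∧ s⁻¹ * h * s ∈ P := by
    intro h hh
    have h1 := (Subgroup.mem_normalizer_iff.1 hsN ⟨h, hh.1⟩).1 hh
    have h2 := (Subgroup.mem_normalizer_iff''.1 hsN ⟨h, hh.1⟩).1 hh
    exact ⟨h1, h2⟩
  set β := s • α with hβ
  have hPβ : ∀ h ∈ P, h • β = β := by
    intro h hh
    obtain ⟨-, h2⟩ := (hnorm h hh).2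
    rw [hβ, ← mul_smul]
    calc (h * s) • α = s • (s⁻¹ * h * s) • α := by rw [← mul_smul]; congr 1; group
      _ = s • α := by rw [h2]
  have hPfree : ∀ h ∈ P, h ≠ 1 → ∀ γ, h • γ = γ → γ = α ∨ γ = β := by
    intro h hh h1 γ hγ
    by_contra hne
    push Not at hne
    exact h1 (hF3 h α β γ (Ne.symm hsP') (Ne.symm hne.1) (Ne.symm hne.2) hh.2 (hPβ h hh) hγ)
  obtain ⟨x, hxP, hx1⟩ : ∃ x ∈ P, x ≠ 1 := by
    by_contra h
    push Not at h
    exact hP ((Subgroup.eq_bot_iff_forall _).2 h)
  -- the set stabilizer of `{α, β}` in `T`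
  let R : Subgroup G :=
    { carrier := {g | g ∈ T ∧ ((g • α = α ∧ g • β = β) ∨ (g • α = β ∧ g • β = α))}
      one_mem' := ⟨one_mem T, Or.inl ⟨one_smul _ _, one_smul _ _⟩⟩
      mul_mem' := by
        rintro a b ⟨ha, ha'⟩ ⟨hb, hb'⟩
        refine ⟨mul_mem ha hb, ?_⟩
        rcases ha' with ⟨a1, a2⟩ | ⟨a1, a2⟩ <;> rcases hb' with ⟨b1, b2⟩ | ⟨b1, b2⟩ <;>
          simp [mul_smul, a1, a2, b1, b2]
      inv_mem' := by
        rintro a ⟨ha, ha'⟩
        refine ⟨inv_mem ha, ?_⟩
        rcases ha' with ⟨a1, a2⟩ | ⟨a1, a2⟩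
        · exact Or.inl ⟨inv_smul_eq_iff.2 a1.symm, inv_smul_eq_iff.2 a2.symm⟩
        · exact Or.inr ⟨inv_smul_eq_iff.2 a2.symm, inv_smul_eq_iff.2 a1.symm⟩ }
  have hRT : R ≤ T := fun g hg => hg.1
  have hPR : P ≤ R := fun g hg => ⟨hg.1, Or.inl ⟨hg.2, hPβ g hg⟩⟩
  have hnormR : ∀ y ∈ T, (∀ h ∈ P, y * h * y⁻¹ ∈ P) → y ∈ R := by
    intro y hy hyn
    have hγ : ∀ γ, (γ = α ∨ γ = β) → y • γ = α ∨ y • γ = β := by
      intro γ hγ
      refine hPfree (y * x * y⁻¹) (hyn x hxP) (fun e => hx1 ?_) _ ?_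
      · rwa [mul_inv_eq_one, mul_eq_left] at e
      · rw [mul_smul, mul_smul, inv_smul_smul]
        rcases hγ with rfl | rfl
        · rw [show x • γ = γ from hxP.2]
        · rw [hPβ x hxP]
    refine ⟨hy, ?_⟩
    have hne : y • α ≠ y • β := fun e => hsP' (MulAction.injective y e).symm
    rcases hγ α (Or.inl rfl) with h | h <;> rcases hγ β (Or.inr rfl) with h' | h'
    · exact absurd (h.trans h'.symm) hne
    · exact Or.inl ⟨h, h'⟩
    · exact Or.inr ⟨h, h'⟩
    · exact absurd (h.trans h'.symm) hne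
  have hsR : s ∈ R := hnormR s hsT fun h hh => (hnorm h hh).1
  have hsβ : s • β = α := by
    rcases hsR.2 with ⟨h, -⟩ | ⟨-, h⟩
    · exact absurd h hsP'
    · exact h
  have hRP : (P.subgroupOf R).index = 2 := by
    rw [Subgroup.index_eq_two_iff]
    refine ⟨⟨s, hsR⟩, fun b => ?_⟩
    rcases b.2.2 with ⟨b1, b2⟩ | ⟨b1, b2⟩
    · refine Or.inr ⟨⟨b.2.1, b1⟩, fun h => hsP' ?_⟩
      have h2 : ((b : G) * s) • α = α := h.2
      rw [mul_smul, ← hβ, b2] at h2
      exact h2
    · refine Or.inl ⟨⟨mul_mem b.2.1 hsT, ?_⟩, fun h => hsP' ?_⟩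
      · show ((b : G) * s) • α = α
        rw [mul_smul, ← hβ, b2]
      · exact b1.symm.trans h.2
  have hRcard : Nat.card R = 2 * Nat.card P := by
    have := (P.subgroupOf R).card_mul_index
    rw [hRP, Nat.card_congr (Subgroup.subgroupOfEquivOfLe hPR).toEquiv] at this
    omega
  have hdih : ∀ y : T, orderOf y = 2 → Nat.card (Subgroup.centralizer ({y} : Set T)) = 4 → Nat.card T ≠ 4 →
      (∃ n : ℕ, Nonempty (T ≃* DihedralGroup n)) ∨ Cfsg.IsQuasiDihedral T := by
    intro y hy hC h4
    rcases S3224.result hTp y hy hC with h | h | h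
    exacts [Or.inl h, Or.inr h, absurd h h4]
  by_cases hRtop : R = T
  swap
  · -- the stabilizer has order two
    have hR₀ : R.subgroupOf T ≠ ⊤ := fun h => hRtop (le_antisymm hRT (Subgroup.subgroupOf_eq_top.1 h))
    obtain ⟨⟨y, hyT⟩, hyN, hyR⟩ := SetLike.exists_of_lt (PGroup.lt_normalizer hTp hR₀)
    let c : P →* R := ((MulAut.conj y).toMonoidHom.comp P.subtype).codRestrict R fun h =>
      (Subgroup.mem_normalizer_iff.1 hyN ⟨(h : G), h.2.1⟩).1 (hPR h.2)
    let f : P × P → R := fun p => ⟨(p.1 : G), hPR p.1.2⟩ * c p.2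
    have hpairs : ∀ h ∈ P, y * h * y⁻¹ ∈ P → h = 1 := by
      intro h hh hc'
      by_contra h1
      have hne1 : y * h * y⁻¹ ≠ 1 := fun e => h1 (by rwa [mul_inv_eq_one, mul_eq_left] at e)
      have key : ∀ γ, (γ = α ∨ γ = β) → y • γ = α ∨ y • γ = β := by
        intro γ hγ
        refine hPfree _ hc' hne1 _ ?_
        rw [mul_smul, mul_smul, inv_smul_smul]
        rcases hγ with rfl | rfl
        · rw [show h • γ = γ from hh.2]
        · rw [hPβ h hh]
      refine hyR (show y ∈ R from ⟨hyT, ?_⟩)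
      have hne : y • α ≠ y • β := fun e => hsP' (MulAction.injective y e).symm
      rcases key α (Or.inl rfl) with h' | h' <;> rcases key β (Or.inr rfl) with h'' | h''
      · exact absurd (h'.trans h''.symm) hne
      · exact Or.inl ⟨h', h''⟩
      · exact Or.inr ⟨h', h''⟩
      · exact absurd (h'.trans h''.symm) hne
    have hf : Function.Injective f := by
      rintro ⟨a, b⟩ ⟨a', b'⟩ e
      have e' : (a : G) * (y * b * y⁻¹) = (a' : G) * (y * b' * y⁻¹) := congrArg Subtype.val e
      have hmem : y * ((b : G) * (b' : G)⁻¹) * y⁻¹ = (a : G)⁻¹ * a' := by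
        rw [eq_inv_mul_iff_mul_eq]
        calc (a : G) * (y * (b * (b' : G)⁻¹) * y⁻¹) = (a : G) * (y * b * y⁻¹) * (y * b' * y⁻¹)⁻¹ := by group
          _ = a' := by rw [e', mul_inv_cancel_right]
      have hb : (b : G) * (b' : G)⁻¹ = 1 :=
        hpairs _ (mul_mem b.2 (inv_mem b'.2)) (hmem ▸ mul_mem (inv_mem a.2) a'.2)
      rw [hb, mul_one, mul_inv_cancel, eq_comm, inv_mul_eq_one] at hmem
      exact Prod.ext (Subtype.ext hmem) (Subtype.ext (mul_inv_eq_one.1 hb))
    have hle := Nat.card_le_card_of_injective f hf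
    rw [Nat.card_prod, hRcard] at hle
    have hP1 : 1 < Nat.card P := (Subgroup.one_lt_card_iff_ne_bot P).2 hP
    have hP2 : Nat.card P = 2 := by nlinarith
    refine Or.inl ⟨?_, Or.inl hP2⟩
    have hxo : orderOf (⟨x, hxP.1⟩ : T) = 2 := by
      rw [Subgroup.orderOf_mk]
      refine orderOf_eq_prime ?_ hx1
      have := congrArg Subtype.val (pow_card_eq_one' (x := (⟨x, hxP⟩ : P)))
      rwa [hP2] at this
    have hzP : Subgroup.zpowers x = P := Subgroup.eq_of_le_of_card_ge (Subgroup.zpowers_le.2 hxP)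
      (by rw [hP2, Nat.card_zpowers]; rw [Subgroup.orderOf_mk] at hxo; rw [hxo])
    have hC : Subgroup.centralizer ({(⟨x, hxP.1⟩ : T)} : Set T) = R.subgroupOf T := by
      ext ⟨g, hg⟩
      rw [Subgroup.mem_centralizer_singleton_iff, Subgroup.mem_subgroupOf, Subtype.ext_iff]
      show g * x = x * g ↔ g ∈ R
      constructor
      · intro e
        refine hnormR g hg fun h hh => ?_
        have hh' : h ∈ Subgroup.zpowers x := hzP ▸ hh
        obtain ⟨i, rfl⟩ := hh'
        rw [((show Commute g x from e).zpow_right i).eq, mul_inv_cancel_right]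
        exact hh
      · intro hgR
        have hc : g * x * g⁻¹ ∈ P := by
          refine (hPmem _).2 ⟨mul_mem (mul_mem hg ((hPmem x).1 hxP).1) (inv_mem hg), ?_⟩
          rw [mul_smul, mul_smul]
          rcases (inv_mem hgR : g⁻¹ ∈ R).2 with ⟨h1, -⟩ | ⟨h1, -⟩
          · rw [h1, show x • α = α from hxP.2, ← inv_smul_eq_iff.1 h1]
          · rw [h1, hPβ x hxP, ← inv_smul_eq_iff.1 h1]
        rw [← hzP] at hc
        obtain ⟨k, hk⟩ := (Submonoid.mem_powers_iff _ _).1 ((isOfFinOrder_of_finite _).mem_powers_iff_mem_zpowers.2 hc)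
        have hx2 : orderOf x = 2 := by rwa [Subgroup.orderOf_mk] at hxo
        rw [← pow_mod_orderOf, hx2] at hk
        have hlt := Nat.mod_lt k (show 0 < 2 by norm_num)
        generalize k % 2 = l at hk hlt
        interval_cases l
        · rw [pow_zero, eq_comm, mul_inv_eq_one, mul_eq_left] at hk
          exact absurd hk hx1
        · rw [pow_one, eq_comm, mul_inv_eq_iff_eq_mul] at hk
          exact hk
    refine hdih _ hxo (by rw [hC, Nat.card_congr (Subgroup.subgroupOfEquivOfLe hRT).toEquiv, hRcard, hP2]) fun h4 => ?_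
    exact hRtop (Subgroup.eq_of_le_of_card_ge hRT (by rw [h4, hRcard, hP2]))
  -- index two
  have hPT : P.relIndex T = 2 := by
    have h : P.relIndex R = 2 := hRP
    rwa [hRtop] at h
  have hPTcard : Nat.card T = 2 * Nat.card P := by
    rw [← hRcard]
    exact congrArg (fun K : Subgroup G => Nat.card K) hRtop.symm
  have horb : ∀ g ∈ T, (g ∈ P ∧ g • α = α ∧ g • β = β) ∨ (g ∉ P ∧ g • α = β ∧ g • β = α) := by
    intro g hg
    have : g ∈ R := hRtop ▸ hg
    rcases this.2 with ⟨h1, h2⟩ | ⟨h1, h2⟩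
    · exact Or.inl ⟨⟨hg, h1⟩, h1, h2⟩
    · exact Or.inr ⟨fun h => hsP' (h1.symm.trans h.2), h1, h2⟩
  have hP1 : 2 ≤ Nat.card P := (Subgroup.one_lt_card_iff_ne_bot P).2 hP
  by_cases hex' : ∃ g ∈ T, g ∉ P ∧ ∃ γ : Ω, g • γ = γ
  · obtain ⟨g, hgT, hgP, γ, hγ⟩ := hex'
    refine Or.inl ⟨?_, Or.inr hPT⟩
    obtain ⟨hga, hgb⟩ : g • α = β ∧ g • β = α := by
      rcases horb g hgT with h | h
      · exact absurd h.1 hgP
      · exact h.2
    have hγne : γ ≠ α ∧ γ ≠ β :=
      ⟨fun e => hsP' (by rw [e] at hγ; exact hga.symm.trans hγ),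
       fun e => hsP' (by rw [e] at hγ; exact (hgb.symm.trans hγ).symm)⟩
    set Q := T ⊓ MulAction.stabilizer G γ with hQdef
    have hPQ : ∀ h, h ∈ P → h ∈ Q → h = 1 := by
      intro h h1 h2
      by_contra hne
      rcases hPfree h h1 hne γ h2.2 with e | e
      exacts [hγne.1 e, hγne.2 e]
    have hQle : ∀ h ∈ Q, h = 1 ∨ h = g := by
      intro h hh
      by_cases hhP : h ∈ P
      · exact Or.inl (hPQ h hhP hh)
      · right
        rcases horb h hh.1 with h1 | h1
        · exact absurd h1.1 hhP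
        have hgh : g⁻¹ * h ∈ P := (hPmem _).2 ⟨mul_mem (inv_mem hgT) (Subgroup.mem_inf.1 hh).1, by
          rw [mul_smul, h1.2.1, inv_smul_eq_iff, hga]⟩
        exact (inv_mul_eq_one.1 (hPQ _ hgh (mul_mem (inv_mem (show g ∈ Q from ⟨hgT, hγ⟩)) hh))).symm
    have hgne : g ≠ 1 := fun e => hgP (e ▸ one_mem P)
    have hg2 : g * g = 1 := (hQle _ (mul_mem (show g ∈ Q from ⟨hgT, hγ⟩) ⟨hgT, hγ⟩)).resolve_right fun e => hgne (mul_eq_left.1 e)
    set gT : T := ⟨g, hgT⟩ with hgT'
    have hgo : orderOf gT = 2 := by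
      rw [Subgroup.orderOf_mk]; exact orderOf_eq_prime (by rw [sq]; exact hg2) hgne
    set C := Subgroup.centralizer ({gT} : Set T) with hCdef
    have hCle : Nat.card C ≤ 4 := by
      have hfixC : ∀ c : C, g • ((c : T) : G) • γ = ((c : T) : G) • γ := fun c => by
        have e : ((c : T) : G) * g = g * ((c : T) : G) := congrArg Subtype.val (Subgroup.mem_centralizer_singleton_iff.1 c.2)
        rw [← mul_smul, ← e, mul_smul, hγ]
      have hle := hfix g hgne
      let F : C → (MulAction.fixedBy Ω g) := fun c => ⟨((c : T) : G) • γ, hfixC c⟩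
      have hfib : ∀ c c' : C, F c = F c' → ((c : T) : G)⁻¹ * ((c' : T) : G) ∈ Q := by
        intro c c' e
        refine Subgroup.mem_inf.2 ⟨mul_mem (inv_mem (c : T).2) (c' : T).2, ?_⟩
        have e' : ((c : T) : G) • γ = ((c' : T) : G) • γ := congrArg Subtype.val e
        rw [MulAction.mem_stabilizer_iff, mul_smul, ← e', inv_smul_smul]
      let F' : C → MulAction.fixedBy Ω g × Bool := fun c =>
        (F c, decide (((c : T) : G) ∈ P))
      have hF' : Function.Injective F' := by
        intro c c' e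
        have e1 := congrArg Prod.fst e
        have e2 : (((c : T) : G) ∈ P) ↔ (((c' : T) : G) ∈ P) := decide_eq_decide.1 (congrArg Prod.snd e)
        refine Subtype.ext (Subtype.ext ?_)
        rcases hQle _ (hfib c c' e1) with h | h
        · exact inv_mul_eq_one.1 h
        · exfalso
          rw [inv_mul_eq_iff_eq_mul] at h
          by_cases hcP : ((c : T) : G) ∈ P
          · have := e2.1 hcP
            rw [h] at this
            exact hgP ((Subgroup.mul_mem_cancel_left P hcP).1 this)
          · have hc'P : ((c' : T) : G) ∉ P := fun h' => hcP (e2.2 h')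
            rcases horb _ (c : T).2 with h1 | h1
            · exact hcP h1.1
            refine hc'P ((hPmem _).2 ⟨(c' : T).2, ?_⟩)
            rw [h, mul_smul, hga, h1.2.2]
      calc Nat.card C ≤ Nat.card (MulAction.fixedBy Ω g × Bool) := Nat.card_le_card_of_injective F' hF'
        _ ≤ 4 := by rw [Nat.card_prod, Nat.card_eq_fintype_card (α := Bool), Fintype.card_bool]; omega
    obtain ⟨j, hj⟩ := IsPGroup.iff_card.1 (hTp.to_subgroup C)
    have hj2 : j ≤ 2 := by
      by_contra hlt
      have : 2 ^ 3 ≤ 2 ^ j := Nat.pow_le_pow_right (by norm_num) (by omega)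
      omega
    have hgC : gT ∈ C := Subgroup.mem_centralizer_singleton_iff.2 rfl
    by_cases h4 : Nat.card T = 4
    · left
      refine ⟨2, ?_⟩
      have hP2 : Nat.card P = 2 := by omega
      have hx2 : x * x = 1 := by
        have := congrArg Subtype.val (pow_card_eq_one' (x := (⟨x, hxP⟩ : P)))
        rw [hP2] at this
        rw [← sq]; exact this
      have hncyc : ¬ IsCyclic T := by
        intro hcyc
        letI := Fintype.ofFinite T
        have hsub : ({1, gT, ⟨x, hxP.1⟩} : Finset T) ⊆ Finset.univ.filter fun b => b ^ 2 = 1 := by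
          intro b hb
          rw [Finset.mem_filter]
          refine ⟨Finset.mem_univ _, ?_⟩
          simp only [Finset.mem_insert, Finset.mem_singleton] at hb
          rcases hb with rfl | rfl | rfl
          · exact one_pow 2
          · exact Subtype.ext (by show g ^ 2 = 1; rw [sq, hg2])
          · exact Subtype.ext (by show x ^ 2 = 1; rw [sq, hx2])
        have h3 := (Finset.card_le_card hsub).trans (IsCyclic.card_pow_eq_one_le (by norm_num : 0 < 2))
        rw [Finset.card_insert_of_notMem (by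
            simp only [Finset.mem_insert, Finset.mem_singleton, not_or]
            exact ⟨fun e => hgne (congrArg Subtype.val e).symm, fun e => hx1 (congrArg Subtype.val e).symm⟩),
          Finset.card_pair (fun e : gT = ⟨x, hxP.1⟩ => hgP (by rw [show g = x from congrArg Subtype.val e]; exact hxP))] at h3
        omega
      haveI : Nontrivial T := Finite.one_lt_card_iff_nontrivial.1 (by omega)
      haveI : IsKleinFour T :=
        { card_four := h4
          exponent_two := by
            rw [Monoid.exponent_eq_prime_iff Nat.prime_two]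
            intro a ha
            have hd : orderOf a ∣ 2 ^ 2 := by rw [show 2 ^ 2 = Nat.card T by rw [h4]; norm_num]; exact orderOf_dvd_natCard a
            obtain ⟨i, hi, hia⟩ := (Nat.dvd_prime_pow Nat.prime_two).1 hd
            interval_cases i
            · exact absurd (orderOf_eq_one_iff.1 (by simpa using hia)) ha
            · simpa using hia
            · exact absurd (isCyclic_of_orderOf_eq_card a (by rw [hia, h4]; norm_num)) hncyc }
      obtain ⟨e⟩ : Nonempty (T ≃ DihedralGroup 2) := by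
        rw [← Finite.card_eq, h4, DihedralGroup.nat_card]
      exact ⟨IsKleinFour.mulEquiv (e.trans (Equiv.swap (e 1) 1)) (by simp)⟩
    · refine hdih gT hgo ?_ h4
      interval_cases j
      · exfalso
        rw [pow_zero] at hj
        have : gT ∈ (⊥ : Subgroup T) := (Subgroup.card_eq_one.1 hj) ▸ hgC
        exact hgne (congrArg Subtype.val (Subgroup.mem_bot.1 this))
      · exfalso
        haveI : Nontrivial T := Finite.one_lt_card_iff_nontrivial.1 (by omega)
        obtain ⟨z, -, hzc, hz⟩ := PGroup.exists_orderOf_eq_mem_center hTp (⊤ : Subgroup T) top_ne_bot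
        have hzC : z ∈ C := Subgroup.mem_centralizer_singleton_iff.2 (Subgroup.mem_center_iff.1 hzc gT).symm
        have hgz : Subgroup.zpowers gT = C :=
          Subgroup.eq_of_le_of_card_ge (Subgroup.zpowers_le.2 hgC) (by rw [Nat.card_zpowers, hgo, hj, pow_one])
        have hzeq : Subgroup.zpowers z = C :=
          Subgroup.eq_of_le_of_card_ge (Subgroup.zpowers_le.2 hzC) (by rw [Nat.card_zpowers, hz, hj, pow_one])
        have hgc : gT ∈ Subgroup.center T := by
          have : gT ∈ Subgroup.zpowers z := hzeq ▸ hgC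
          exact Subgroup.zpowers_le.2 hzc this
        have hCtop : C = ⊤ := (Subgroup.eq_top_iff' _).2 fun a =>
          Subgroup.mem_centralizer_singleton_iff.2 (Subgroup.mem_center_iff.1 hgc a)
        rw [hCtop, Subgroup.card_top, pow_one] at hj
        omega
      · exact hj
  right; left
  push Not at hex'
  have hstab : ∀ γ, γ ≠ α → γ ≠ β → MulAction.stabilizer T γ = ⊥ := by
    intro γ hγa hγb
    refine (Subgroup.eq_bot_iff_forall _).2 fun g hg => ?_
    by_cases hgP : (g : G) ∈ P
    · by_contra hg1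
      rcases hPfree (g : G) hgP (fun e => hg1 (Subtype.ext e)) γ hg with e | e
      exacts [hγa e, hγb e]
    · exact absurd hg (hex' _ g.2 hgP γ)
  have horbα : MulAction.orbit T α = {α, β} := by
    ext γ
    constructor
    · rintro ⟨g, rfl⟩
      rcases horb g g.2 with h | h
      · exact Or.inl h.2.1
      · exact Or.inr h.2.1
    · rintro (rfl | rfl)
      · exact MulAction.mem_orbit_self _
      · exact ⟨⟨s, hsT⟩, rfl⟩
  refine ⟨by omega, ⟨α, by rw [horbα, Nat.card_coe_set_eq, Set.ncard_pair (Ne.symm hsP')], fun γ hγ => ?_⟩, ?_⟩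
  · rw [horbα] at hγ
    simp only [Set.mem_insert_iff, Set.mem_singleton_iff, not_or] at hγ
    rw [← Nat.card_congr (MulAction.orbitProdStabilizerEquivGroup T γ), Nat.card_prod, hstab γ hγ.1 hγ.2,
      Subgroup.card_bot, mul_one]
  obtain ⟨n, hn⟩ := IsPGroup.iff_card.1 hTp
  have hn2 : 2 ≤ n := by
    by_contra hlt
    interval_cases n <;> omega
  have hrest : Nat.card T ∣ (Set.univ \ {α, β} : Set Ω).ncard := by
    refine card_dvd_of_semiregular _ ?_ fun γ hγ => ?_
    · rintro g γ ⟨-, hγ⟩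
      refine ⟨trivial, fun h => hγ ?_⟩
      rw [← horbα] at h ⊢
      rcases h with ⟨g', hg'⟩
      exact ⟨g⁻¹ * g', by show (g⁻¹ * g') • α = γ; rw [mul_smul, show g' • α = g • γ from hg', inv_smul_smul]⟩
    · obtain ⟨-, hγ⟩ := hγ
      simp only [Set.mem_insert_iff, Set.mem_singleton_iff, not_or] at hγ
      exact hstab γ hγ.1 hγ.2
  have hΩcard : Nat.card Ω = (Set.univ \ {α, β} : Set Ω).ncard + 2 := by
    rw [← Set.ncard_univ, ← Set.ncard_sdiff_add_ncard_of_subset (Set.subset_univ ({α, β} : Set Ω)),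
      Set.ncard_pair (Ne.symm hsP')]
  -- a homomorphism to signs
  obtain ⟨χ, hχP, hχout⟩ : ∃ χ : G →* ℤˣ, (∀ u ∈ P, χ u = 1) ∧ ∃ u ∈ T, u ∉ P ∧ χ u = -1 := by
    by_cases hcyc : IsCyclic T
    · refine ⟨Equiv.Perm.sign.comp (MulAction.toPermHom G G), fun u hu => ?_, ?_⟩
      · by_cases hu1 : u = 1
        · rw [hu1, map_one]
        show Equiv.Perm.sign (MulAction.toPermHom G G u) = 1
        have hord : orderOf (MulAction.toPermHom G G u) = orderOf u := orderOf_injective _ MulAction.toPerm_injective u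
        refine sign_eq_one_of_semiregular (N := Nat.card T) _ (fun y _ k hk => ?_) ?_ ?_
        · rw [← map_pow] at hk ⊢
          have : u ^ k * y = y := hk
          rw [mul_eq_right.1 this, map_one]
        · have e : (MulAction.toPermHom G G u).support = Finset.univ := Finset.eq_univ_iff_forall.2 fun y =>
            Equiv.Perm.mem_support.2 fun e => hu1 (mul_eq_right.1 (show u * y = y from e))
          rw [e, Finset.card_univ, ← Nat.card_eq_fintype_card]
          exact T.card_subgroup_dvd_card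
        · rw [hord, hPTcard]
          exact Nat.mul_dvd_mul_left 2 (by rw [← Subgroup.orderOf_mk u hu]; exact orderOf_dvd_natCard _)
      · obtain ⟨⟨u, huT⟩, hu⟩ := IsCyclic.exists_ofOrder_eq_natCard (α := T)
        rw [Subgroup.orderOf_mk] at hu
        have huP : u ∉ P := fun h => by
          have := Nat.le_of_dvd (by omega) (Subgroup.orderOf_mk u h ▸ orderOf_dvd_natCard (⟨u, h⟩ : P) : orderOf u ∣ Nat.card P)
          omega
        refine ⟨u, huT, huP, ?_⟩
        show Equiv.Perm.sign (MulAction.toPermHom G G u) = -1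
        have hord : orderOf (MulAction.toPermHom G G u) = orderOf u := orderOf_injective _ MulAction.toPerm_injective u
        obtain ⟨c, hc, hsign⟩ := sign_of_semiregular (MulAction.toPermHom G G u) fun y _ k hk => by
          rw [← map_pow] at hk ⊢
          have : u ^ k * y = y := hk
          rw [mul_eq_right.1 this, map_one]
        have e : (MulAction.toPermHom G G u).support = Finset.univ := Finset.eq_univ_iff_forall.2 fun y =>
          Equiv.Perm.mem_support.2 fun e => huP (by rw [mul_eq_right.1 (show u * y = y from e)]; exact one_mem P)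
        rw [e, Finset.card_univ, ← Nat.card_eq_fintype_card, hord, hu, ← T.card_mul_index, mul_comm c] at hc
        have hci : c = T.index := (Nat.eq_of_mul_eq_mul_left Nat.card_pos hc).symm
        rw [hsign, hord, hu]
        refine Odd.neg_one_pow (Even.add_odd ⟨c * Nat.card P, by rw [hPTcard]; ring⟩ ?_)
        rw [hci]
        exact Nat.odd_iff.2 (Nat.two_dvd_ne_zero.1 S.not_dvd_index)
    · refine ⟨Equiv.Perm.sign.comp (MulAction.toPermHom G Ω), fun u hu => ?_, s, hsT, fun h => hsP' h.2, ?_⟩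
      · by_cases hu1 : u = 1
        · rw [hu1, map_one]
        show Equiv.Perm.sign (MulAction.toPermHom G Ω u) = 1
        refine sign_eq_one_of_semiregular (N := Nat.card T) _ (fun γ hγ k hk => ?_) ?_ ?_
        · rw [Equiv.Perm.mem_support] at hγ
          have hγ' : u • γ ≠ γ := hγ
          rw [← map_pow] at hk ⊢
          by_cases huk : u ^ k = 1
          · rw [huk, map_one]
          rcases hPfree _ (pow_mem hu k) huk γ hk with rfl | rfl
          exacts [absurd hu.2 hγ', absurd (hPβ u hu) hγ']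
        · have e : ((MulAction.toPermHom G Ω u).support : Set Ω) = Set.univ \ {α, β} := by
            ext γ
            simp only [Finset.mem_coe, Equiv.Perm.mem_support, Set.mem_sdiff, Set.mem_univ, true_and,
              Set.mem_insert_iff, Set.mem_singleton_iff, not_or]
            constructor
            · intro h
              exact ⟨fun e => h (e ▸ hu.2), fun e => h (e ▸ hPβ u hu)⟩
            · intro h e
              rcases hPfree u hu hu1 γ e with h' | h'
              exacts [h.1 h', h.2 h']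
          rw [← Set.ncard_coe_finset, e]
          exact hrest
        · rw [hPTcard]
          refine Nat.mul_dvd_mul_left 2 ((orderOf_map_dvd _ u).trans ?_)
          rw [← Subgroup.orderOf_mk u hu]; exact orderOf_dvd_natCard _
      · show Equiv.Perm.sign (MulAction.toPermHom G Ω s) = -1
        set π := MulAction.toPermHom G Ω s with hπ
        have hπapp : ∀ γ, π γ = s • γ := fun γ => rfl
        set σ := Equiv.swap α β * π with hσ
        have hσa : σ α = α := by rw [hσ, Equiv.Perm.mul_apply, hπapp, ← hβ, Equiv.swap_apply_right]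
        have hσb : σ β = β := by rw [hσ, Equiv.Perm.mul_apply, hπapp, hsβ, Equiv.swap_apply_left]
        have hσrest : ∀ γ, γ ≠ α → γ ≠ β → σ γ = s • γ := by
          intro γ h1 h2
          rw [hσ, Equiv.Perm.mul_apply, hπapp]
          refine Equiv.swap_apply_of_ne_of_ne (fun e => h2 ?_) (fun e => h1 ?_)
          · exact MulAction.injective s (e.trans hsβ.symm)
          · exact MulAction.injective s e
        have hne : ∀ k : ℕ, ∀ γ, γ ≠ α → γ ≠ β → (s ^ k) • γ ≠ α ∧ (s ^ k) • γ ≠ β := by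
          intro k γ h1 h2
          rcases horb (s ^ k) (pow_mem hsT k) with ⟨-, h3, h4⟩ | ⟨-, h3, h4⟩
          · exact ⟨fun e => h1 (MulAction.injective _ (e.trans h3.symm)), fun e => h2 (MulAction.injective _ (e.trans h4.symm))⟩
          · exact ⟨fun e => h2 (MulAction.injective _ (e.trans h4.symm)), fun e => h1 (MulAction.injective _ (e.trans h3.symm))⟩
        have hσpow : ∀ k : ℕ, ∀ γ, γ ≠ α → γ ≠ β → (σ ^ k) γ = (s ^ k) • γ := by
          intro k γ h1 h2
          induction k with
          | zero => simp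
          | succ k ih => rw [pow_succ', Equiv.Perm.mul_apply, ih, hσrest _ (hne k γ h1 h2).1 (hne k γ h1 h2).2, pow_succ', mul_smul]
        have hσone : ∀ k : ℕ, s ^ k = 1 → σ ^ k = 1 := by
          intro k hk
          ext γ
          rw [Equiv.Perm.one_apply]
          by_cases h1 : γ = α
          · rw [h1]; exact Equiv.Perm.pow_apply_eq_self_of_apply_eq_self hσa k
          by_cases h2 : γ = β
          · rw [h2]; exact Equiv.Perm.pow_apply_eq_self_of_apply_eq_self hσb k
          rw [hσpow k γ h1 h2, hk, one_smul]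
        have hsupp : ((σ).support : Set Ω) = Set.univ \ {α, β} := by
          ext γ
          simp only [Finset.mem_coe, Equiv.Perm.mem_support, Set.mem_sdiff, Set.mem_univ, true_and,
            Set.mem_insert_iff, Set.mem_singleton_iff, not_or]
          constructor
          · intro h
            exact ⟨fun e => h (e ▸ hσa), fun e => h (e ▸ hσb)⟩
          · rintro ⟨h1, h2⟩ e
            rw [hσrest γ h1 h2] at e
            exact hex' s hsT (fun h => hsP' h.2) γ e
        have hσ1 : Equiv.Perm.sign σ = 1 := by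
          refine sign_eq_one_of_semiregular (N := Nat.card T) σ (fun γ hγ k hk => hσone k ?_) ?_ ?_
          · have hγ' : γ ∈ (Set.univ \ {α, β} : Set Ω) := hsupp ▸ hγ
            simp only [Set.mem_sdiff, Set.mem_univ, true_and, Set.mem_insert_iff, Set.mem_singleton_iff, not_or] at hγ'
            rw [hσpow k γ hγ'.1 hγ'.2] at hk
            by_cases hkP : s ^ k ∈ P
            · by_contra hk1
              rcases hPfree _ hkP hk1 γ hk with e | e
              exacts [hγ'.1 e, hγ'.2 e]
            · exact absurd hk (hex' _ (pow_mem hsT k) hkP γ)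
          · rw [← Set.ncard_coe_finset, hsupp]; exact hrest
          · have hd : orderOf s ∣ 2 ^ n := by rw [← hn, ← Subgroup.orderOf_mk s hsT]; exact orderOf_dvd_natCard _
            obtain ⟨i, hi, hi'⟩ := (Nat.dvd_prime_pow Nat.prime_two).1 hd
            have hin : i < n := lt_of_le_of_ne hi fun e => hcyc (isCyclic_of_orderOf_eq_card ⟨s, hsT⟩ (by
              rw [Subgroup.orderOf_mk, hi', e, hn]))
            refine (Nat.mul_dvd_mul_left 2 (orderOf_dvd_of_pow_eq_one (hσone _ (pow_orderOf_eq_one s)))).trans ?_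
            rw [hi', hn, ← pow_succ']
            exact pow_dvd_pow 2 hin
        have : π = Equiv.swap α β * σ := by rw [hσ, ← mul_assoc, Equiv.swap_mul_self, one_mul]
        rw [this, map_mul, hσ1, mul_one, Equiv.Perm.sign_swap (Ne.symm hsP')]
  obtain ⟨u, huT, huP, huχ⟩ := hχout
  have hMidx : χ.ker.index = 2 := by
    rw [Subgroup.index_ker, MonoidHom.range_eq_top.2, Subgroup.card_top, Nat.card_eq_fintype_card, Fintype.card_units_int]
    intro a
    rcases Int.units_eq_one_or a with rfl | rfl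
    · exact ⟨1, map_one χ⟩
    · exact ⟨u, huχ⟩
  have huM : u ∉ χ.ker := fun h => by
    rw [MonoidHom.mem_ker, huχ] at h
    exact absurd h (by decide)
  have huα : u • α = β := by
    rcases horb u huT with h | h
    · exact absurd h.1 huP
    · exact h.2.1
  have hMα : MulAction.stabilizer G α ≤ χ.ker := by
    rw [← Subgroup.relIndex_eq_one]
    rcases (Nat.dvd_prime Nat.prime_two).1 (hMidx ▸ Subgroup.relIndex_dvd_index_of_normal χ.ker (MulAction.stabilizer G α)) with h | h
    · exact h
    · exfalso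
      have hPM : P ≤ χ.ker ⊓ MulAction.stabilizer G α := fun p hp => ⟨hχP p hp, hp.2⟩
      have h1 : Nat.card P ∣ Nat.card ↥(χ.ker ⊓ MulAction.stabilizer G α) := Subgroup.card_dvd_of_le hPM
      have h2 : Nat.card ↥(χ.ker ⊓ MulAction.stabilizer G α) * 2 = Nat.card (MulAction.stabilizer G α) := by
        have h' := Subgroup.card_mul_index ((χ.ker ⊓ MulAction.stabilizer G α).subgroupOf (MulAction.stabilizer G α))
        rw [Nat.card_congr (Subgroup.subgroupOfEquivOfLe inf_le_right).toEquiv] at h'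
        rw [← h', ← Subgroup.relIndex, Subgroup.inf_relIndex_right, h]
      have h3 : Nat.card T ∣ Nat.card (MulAction.stabilizer G α) := by
        rw [← h2, hPTcard, mul_comm 2]
        exact Nat.mul_dvd_mul_right h1 2
      have h4 : Nat.card G = Nat.card Ω * Nat.card (MulAction.stabilizer G α) := by
        rw [← Nat.card_congr (MulAction.orbitProdStabilizerEquivGroup G α), Nat.card_prod,
          MulAction.orbit_eq_univ, Nat.card_univ]
      have h5 : 2 ∣ Nat.card Ω := by
        have : 2 ∣ Nat.card T := ⟨_, hPTcard⟩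
        have := this.trans hrest
        omega
      have h6 : Nat.card T * 2 ∣ Nat.card T * T.index := by
        rw [T.card_mul_index, h4, mul_comm (Nat.card T) 2]
        exact mul_dvd_mul h5 h3
      exact S.not_dvd_index ((Nat.mul_dvd_mul_iff_left Nat.card_pos).1 h6)
  exact ⟨χ.ker, inferInstance, Or.inl hMidx,
    frobenius_index_two hF3 (Ne.symm hsP') hx1 hxP.2 (hPβ x hxP) χ.ker hMidx hMα huM huα⟩

end Cfsg.Agent.S3390
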