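import Cfsg.Statements.S3391
import Cfsg.Agent.Lib.Sz.Fixity
import Cfsg.Agent.Lib.Sz.Lie
-- import your own Cfsg.Agent.* helpers here

set_option autoImplicit false
open Cfsg

namespace Cfsg.Agent.S3391

/-- Let q = 2^{2m+1} ≥ 8 and let G be isomorphic to the Suzuki group Sz(q). If G acts faithfully and transitively on a finite set Ω with fixity 2 (every non-identity element fixes at most two points, and some fixes exactly two), then either |Ω| = q² + 1 and the action is 2-transitive, or |Ω| = q²(q² + 1) and the point stabilizers have order q − 1. -/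
theorem result {G : Type*} [Group G] [Finite G] (F : Type) [Field F] [Fintype F] (m : ℕ) (hm : 1 ≤ m) (hF : Fintype.card F = 2 ^ (2 * m + 1))
    (e : G ≃* ↥(Cfsg.Lie.Sz F (2 ^ (m + 1)))) {Ω : Type*} [Fintype Ω] [MulAction G Ω] [FaithfulSMul G Ω] (htr : MulAction.IsPretransitive G Ω)
    (hfix : ∀ g : G, g ≠ 1 → Nat.card (MulAction.fixedBy Ω g) ≤ 2) (hex : ∃ g : G, g ≠ 1 ∧ Nat.card (MulAction.fixedBy Ω g) = 2) :
    (Fintype.card Ω = Fintype.card F ^ 2 + 1 ∧ MulAction.IsMultiplyPretransitive G Ω 2) ∨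
    (Fintype.card Ω = Fintype.card F ^ 2 * (Fintype.card F ^ 2 + 1) ∧ ∀ α : Ω, Nat.card (MulAction.stabilizer G α) = Fintype.card F - 1) := by
  haveI := htr
  let φ : Cfsg.Sz F m ≃* G := (SZ.szEquiv hm hF).trans e.symm
  letI : MulAction (Cfsg.Sz F m) Ω := MulAction.compHom Ω φ.toMonoidHom
  have hsmul : ∀ (g : Cfsg.Sz F m) (x : Ω), g • x = φ g • x := fun g x => rfl
  have hfix' : ∀ g : Cfsg.Sz F m, g ≠ 1 → Nat.card (MulAction.fixedBy Ω g) ≤ 2 := fun g hg =>
    hfix (φ g) (fun h => hg (φ.injective (h.trans φ.map_one.symm)))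
  have htr' : MulAction.IsPretransitive (Cfsg.Sz F m) Ω := ⟨fun x y => by
    obtain ⟨g, hg⟩ := MulAction.exists_smul_eq G x y
    exact ⟨φ.symm g, by rw [hsmul, φ.apply_symm_apply]; exact hg⟩⟩
  haveI := htr'
  have hst : ∀ x : Ω, Nat.card (MulAction.stabilizer G x) = Nat.card (MulAction.stabilizer (Cfsg.Sz F m) x) :=
    fun x => (Nat.card_congr (φ.toEquiv.subtypeEquiv fun g => Iff.rfl)).symm
  obtain ⟨g₀, hg₀, hg₀2⟩ := hex
  obtain ⟨⟨α₀, hα₀⟩⟩ : Nonempty (MulAction.fixedBy Ω g₀) := (Nat.card_pos_iff.1 (by omega)).1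
  have hΩ : ∀ x : Ω, Nat.card (MulAction.stabilizer (Cfsg.Sz F m) x) * Fintype.card Ω = Nat.card (Cfsg.Sz F m) := by
    intro x
    rw [← Nat.card_eq_fintype_card, ← MulAction.index_stabilizer_of_transitive (G := Cfsg.Sz F m) x,
      Subgroup.card_mul_index]
  by_cases hev : ∃ α : Ω, Even (Nat.card (MulAction.stabilizer (Cfsg.Sz F m) α))
  · left
    obtain ⟨α, hα⟩ := hev
    have hnt : ∀ β : Ω, MulAction.stabilizer (Cfsg.Sz F m) β ≠ ⊤ := by
      intro β hβ
      have hsub : ∀ x : Ω, x = β := fun x => by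
        obtain ⟨g, hg⟩ := MulAction.exists_smul_eq (Cfsg.Sz F m) β x
        rw [← hg]
        exact MulAction.mem_stabilizer_iff.1 (hβ ▸ Subgroup.mem_top g)
      haveI : Subsingleton (MulAction.fixedBy Ω g₀) :=
        ⟨fun x y => Subtype.ext ((hsub x.1).trans (hsub y.1).symm)⟩
      have := Finite.card_le_one_iff_subsingleton.2 (inferInstance : Subsingleton (MulAction.fixedBy Ω g₀))
      omega
    obtain ⟨β, hβ⟩ := SZ.exists_stab_eq_borel hm hF hfix' hnt hα
    refine ⟨?_, ?_⟩
    · have h := hΩ β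
      rw [hβ, SZ.card_stab_inf hm hF, SZ.card_Sz hm hF] at h
      refine Nat.eq_of_mul_eq_mul_left ?_ (h.trans (by ring))
      exact Nat.mul_pos (pow_pos Fintype.card_pos 2) (Nat.sub_pos_of_lt Fintype.one_lt_card)
    · -- transport the two-transitivity from the ovoid
      have hw : ∀ x : Ω, ∃ g : Cfsg.Sz F m, g • β = x := fun x => MulAction.exists_smul_eq _ β x
      choose w hw using hw
      let f : Ω → suzukiOvoid F m := fun x =>
        ⟨(w x).1 • suzukiPointInfinity F, SZ.smul_mem (w x).2 SZ.inf_mem⟩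
      have hf : ∀ (g : Cfsg.Sz F m) (x : Ω), (f (g • x)).1 = g.1 • (f x).1 := by
        intro g x
        have hB : (w (g • x))⁻¹ * (g * w x) ∈ MulAction.stabilizer (Cfsg.Sz F m) β := by
          rw [MulAction.mem_stabilizer_iff, mul_smul, mul_smul, hw, inv_smul_eq_iff, hw]
        rw [hβ] at hB
        have hB' : ((w (g • x)).1⁻¹ * (g.1 * (w x).1)) • suzukiPointInfinity F = suzukiPointInfinity F := hB
        rw [mul_smul, inv_smul_eq_iff, mul_smul] at hB'
        exact hB'.symm
      have hinj : Function.Injective f := by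
        intro x y h
        have h' : (w x).1 • suzukiPointInfinity F = (w y).1 • suzukiPointInfinity F := congrArg Subtype.val h
        have hB : (w y)⁻¹ * w x ∈ MulAction.stabilizer (Cfsg.Sz F m) β := by
          rw [hβ]
          show ((w y).1⁻¹ * (w x).1) • suzukiPointInfinity F = suzukiPointInfinity F
          rw [mul_smul, h', inv_smul_smul]
        rw [MulAction.mem_stabilizer_iff, mul_smul, hw, inv_smul_eq_iff, hw] at hB
        exact hB
      rw [MulAction.is_two_pretransitive_iff]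
      intro a b c d hab hcd
      obtain ⟨k, hk, k1, k2⟩ := SZ.exists_move hF (f a).2 (f b).2
        (fun h => hab (hinj (Subtype.ext h)))
      obtain ⟨l, hl, l1, l2⟩ := SZ.exists_move hF (f c).2 (f d).2
        (fun h => hcd (hinj (Subtype.ext h)))
      set g : Cfsg.Sz F m := ⟨l⁻¹ * k, Subgroup.mul_mem _ (Subgroup.inv_mem _ hl) hk⟩ with hg
      refine ⟨φ g, ?_, ?_⟩
      · refine hinj (Subtype.ext ?_)
        rw [← hsmul, hf]
        show (l⁻¹ * k) • (f a).1 = (f c).1
        rw [mul_smul, k1, ← l1, inv_smul_smul]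
      · refine hinj (Subtype.ext ?_)
        rw [← hsmul, hf]
        show (l⁻¹ * k) • (f b).1 = (f d).1
        rw [mul_smul, k2, ← l2, inv_smul_smul]
  · right
    push Not at hev
    have hodd : ∀ β : Ω, Odd (Nat.card (MulAction.stabilizer (Cfsg.Sz F m) β)) := fun β =>
      Nat.not_even_iff_odd.1 (hev β)
    have hne : MulAction.stabilizer (Cfsg.Sz F m) α₀ ≠ ⊥ := fun h => hg₀ (by
      have hmem : φ.symm g₀ ∈ MulAction.stabilizer (Cfsg.Sz F m) α₀ := by
        rw [MulAction.mem_stabilizer_iff, hsmul, φ.apply_symm_apply]; exact hα₀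
      rw [h, Subgroup.mem_bot] at hmem
      rw [← φ.apply_symm_apply g₀, hmem, map_one])
    have h₀ := SZ.card_stab_of_odd hm hF hfix' hodd hne
    have hcardΩ : Fintype.card Ω = Fintype.card F ^ 2 * (Fintype.card F ^ 2 + 1) := by
      have h := hΩ α₀
      rw [h₀, SZ.card_Sz hm hF] at h
      exact Nat.eq_of_mul_eq_mul_left (Nat.sub_pos_of_lt Fintype.one_lt_card) (h.trans (by ring))
    refine ⟨hcardΩ, fun α => ?_⟩
    rw [hst, ← h₀]
    exact Nat.eq_of_mul_eq_mul_right (Fintype.card_pos_iff.2 ⟨α⟩) ((hΩ α).trans (hΩ α₀).symm)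

end Cfsg.Agent.S3391
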