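import Cfsg.Statements.S3396
import Cfsg.Agent.Lib.CIT.Main
import Cfsg.Agent.Lib.PSL2.Classes
import Cfsg.Agent.Lib.PSL2.Recognition
import Cfsg.Agent.Lib.SmallSimple.Order168
import Cfsg.Agent.Lib.CharInt.Burnside
import Cfsg.Agent.Lib.PrimeGraph.ThreePrimes
import Cfsg.Agent.Lib.TICentralisers.Rigid
import Cfsg.Agent.Lib.GL.Basic
import Cfsg.Agent.S3992
import Cfsg.Agent.Lib.PSL2.PGLHom
import Cfsg.Agent.S1475

set_option autoImplicit false
set_option linter.style.haveILetI false

open Cfsg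
open scoped MatrixGroups

namespace Cfsg.Agent.S3396

open Subgroup

/-- Element orders are powers of two or primes other than five. -/
def Orders (G : Type*) [Group G] : Prop :=
  ∀ g : G, g ≠ 1 → (∃ k : ℕ, orderOf g = 2 ^ k) ∨ ((orderOf g).Prime ∧ orderOf g ≠ 5)

variable {G : Type*} [Group G]

theorem Orders.ok (h : Orders G) {m : ℕ} {g : G} (hm : m ∣ orderOf g) (hm1 : m ≠ 1) :
    (∃ k : ℕ, m = 2 ^ k) ∨ (m.Prime ∧ m ≠ 5 ∧ orderOf g = m) := by
  rcases eq_or_ne g 1 with rfl | hg
  · rw [orderOf_one] at hm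
    exact absurd (Nat.dvd_one.1 hm) hm1
  rcases h g hg with ⟨k, hk⟩ | ⟨hp, h5⟩
  · obtain ⟨i, -, hi⟩ := (Nat.dvd_prime_pow Nat.prime_two).1 (hk ▸ hm)
    exact Or.inl ⟨i, hi⟩
  · rcases (Nat.dvd_prime hp).1 hm with e | e
    · exact absurd e hm1
    · exact Or.inr ⟨e ▸ hp, e ▸ h5, e.symm⟩

theorem Orders.subgroup (h : Orders G) (H : Subgroup G) : Orders H := fun g hg => by
  rw [← Subgroup.orderOf_coe]
  exact h g fun e => hg (Subtype.ext e)

theorem Orders.surj (h : Orders G) {Q : Type*} [Group Q] (f : G →* Q) (hf : Function.Surjective f) :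
    Orders Q := fun x hx => by
  obtain ⟨g, rfl⟩ := hf x
  rcases h.ok (orderOf_map_dvd f g) (fun e => hx (orderOf_eq_one_iff.1 e)) with h1 | ⟨h1, h2, -⟩
  · exact Or.inl h1
  · exact Or.inr ⟨h1, h2⟩

/-- No two primes divide one element order. -/
theorem Orders.mixed (h : Orders G) {x y : G} (hxy : Commute x y) {p q : ℕ} (hp : p.Prime)
    (hq : q.Prime) (hne : p ≠ q) (hx : p ∣ orderOf x) (hy : q ∣ orderOf y) : False := by
  obtain ⟨a, ha⟩ := hx
  obtain ⟨b, hb⟩ := hy
  have hx0 : orderOf x ≠ 0 := by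
    intro e
    rcases h x (fun e' => by rw [e', orderOf_one] at e; omega) with ⟨k, hk⟩ | ⟨h1, -⟩
    · rw [e] at hk; exact (pow_pos (by norm_num : 0 < 2) k).ne hk
    · rw [e] at h1; exact Nat.not_prime_zero h1
  have hy0 : orderOf y ≠ 0 := by
    intro e
    rcases h y (fun e' => by rw [e', orderOf_one] at e; omega) with ⟨k, hk⟩ | ⟨h1, -⟩
    · rw [e] at hk; exact (pow_pos (by norm_num : 0 < 2) k).ne hk
    · rw [e] at h1; exact Nat.not_prime_zero h1
  have hxa : orderOf (x ^ a) = p := by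
    rw [orderOf_pow_of_dvd (fun e => hx0 (by rw [ha, e, mul_zero])) ⟨p, by rw [ha, mul_comm]⟩, ha,
      Nat.mul_div_cancel _ (Nat.pos_of_ne_zero fun e => hx0 (by rw [ha, e, mul_zero]))]
  have hyb : orderOf (y ^ b) = q := by
    rw [orderOf_pow_of_dvd (fun e => hy0 (by rw [hb, e, mul_zero])) ⟨q, by rw [hb, mul_comm]⟩, hb,
      Nat.mul_div_cancel _ (Nat.pos_of_ne_zero fun e => hy0 (by rw [hb, e, mul_zero]))]
  have hmul := (hxy.pow_pow a b).orderOf_mul_eq_mul_orderOf_of_coprime
    (by rw [hxa, hyb]; exact (Nat.coprime_primes hp hq).2 hne)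
  rw [hxa, hyb] at hmul
  rcases h.ok (dvd_refl (orderOf (x ^ a * y ^ b)))
      (fun e => by rw [hmul] at e; exact hp.ne_one (Nat.eq_one_of_mul_eq_one_right e)) with
    ⟨k, hk⟩ | ⟨hpr, -⟩
  · rw [hmul] at hk
    have h2p : p = 2 := (Nat.prime_dvd_prime_iff_eq hp Nat.prime_two).1
      (hp.dvd_of_dvd_pow (⟨q, hk.symm⟩ : p ∣ 2 ^ k))
    have h2q : q = 2 := (Nat.prime_dvd_prime_iff_eq hq Nat.prime_two).1
      (hq.dvd_of_dvd_pow (⟨p, by rw [← hk, mul_comm]⟩ : q ∣ 2 ^ k))
    exact hne (h2p.trans h2q.symm)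
  · rw [hmul] at hpr
    exact Nat.not_prime_mul hp.ne_one hq.ne_one hpr

theorem Orders.cit (h : Orders G) : CIT.IsCIT G := by
  intro t ht x
  rcases eq_or_ne (x : G) 1 with hx | hx
  · exact ⟨0, by rw [pow_zero, pow_one]; exact Subtype.ext hx⟩
  rcases h x hx with ⟨k, hk⟩ | ⟨hp, -⟩
  · exact ⟨k, Subtype.ext (by rw [Subgroup.coe_pow, ← hk, pow_orderOf_eq_one]; rfl)⟩
  by_cases h2 : orderOf (x : G) = 2
  · exact ⟨1, Subtype.ext (by rw [Subgroup.coe_pow, pow_one, ← h2, pow_orderOf_eq_one]; rfl)⟩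
  exact (h.mixed (mem_centralizer_singleton_iff.1 x.2 : Commute (x : G) t) hp Nat.prime_two h2
    dvd_rfl ht.symm.dvd).elim

theorem three_dvd_adjacent (n : ℕ) : 3 ∣ 2 ^ n - 1 ∨ 3 ∣ 2 ^ n + 1 := by
  have h1 := Nat.one_le_two_pow (n := n)
  have h : 2 ^ n % 3 = 1 ∨ 2 ^ n % 3 = 2 := by
    have : ¬ 3 ∣ 2 ^ n := fun e => absurd (Nat.prime_three.dvd_of_dvd_pow e) (by norm_num)
    omega
  omega

/-- An odd number which is an element order is a prime other than five. -/
theorem Orders.odd_ok (h : Orders G) {m : ℕ} {g : G} (hg : orderOf g = m) (hodd : Odd m)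
    (hm1 : m ≠ 1) : m.Prime ∧ m ≠ 5 := by
  rcases h.ok (hg ▸ dvd_rfl : m ∣ orderOf g) hm1 with ⟨k, hk⟩ | ⟨h1, h2, -⟩
  · rcases k with _ | k
    · exact absurd (hk.trans (pow_zero 2)) hm1
    · rw [hk] at hodd
      exact absurd hodd (Nat.not_odd_iff_even.2 (even_iff_two_dvd.2 (dvd_pow_self 2 k.succ_ne_zero)))
  · exact ⟨h1, h2⟩

theorem not_five_dvd [Finite G] (h : Orders G) : ¬ 5 ∣ Nat.card G := fun hd => by
  haveI : Fact (Nat.Prime 5) := ⟨by norm_num⟩
  obtain ⟨g, hg⟩ := exists_prime_orderOf_dvd_card' 5 hd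
  exact (h.odd_ok hg (by decide) (by norm_num)).2 rfl

/-- A simple group with these orders is `PSL₂(7)`. -/
theorem simple_case {S : Type*} [Group S] [Finite S] [IsSimpleGroup S]
    (hne : ∃ a b : S, a * b ≠ b * a) (h : Orders S) :
    ∃ (F : Type) (_ : Field F) (_ : Fintype F), Fintype.card F = 7 ∧ Nonempty (S ≃* PSL(2, F)) := by
  rcases CIT.classification hne h.cit with ⟨F, iF, iFt, hq, ⟨e⟩⟩ | ⟨F, iF, iFt, hF, ⟨e⟩⟩ | hSz
  · have h5 : ¬ 5 ∣ Nat.card PSL(2, F) := by
      rw [← Nat.card_congr e.toEquiv]; exact not_five_dvd h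
    have hP : Orders PSL(2, F) := h.surj e.toMonoidHom e.surjective
    by_cases hsmall : Fintype.card F < 4
    · exfalso
      obtain ⟨a, b, hab⟩ := hne
      refine hab (IsSimpleGroup.comm_iff_isSolvable.2 ?_ a b)
      have hc := Nat.card_congr e.toEquiv
      rw [PSL2.card_PSL] at hc
      have h2 : 2 ≤ Fintype.card F := Fintype.one_lt_card
      obtain hF | hF : Fintype.card F = 2 ∨ Fintype.card F = 3 := by omega
      · exact CharInt.isSolvable_of_card_eq Nat.prime_two Nat.prime_three (a := 1) (b := 1)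
          (hc.trans (by rw [hF]; norm_num))
      · exact CharInt.isSolvable_of_card_eq Nat.prime_two Nat.prime_three (a := 2) (b := 1)
          (hc.trans (by rw [hF]; norm_num))
    push Not at hsmall
    obtain ⟨g₁, hg₁, hc₁⟩ := PSL2.exists_torus_card_sub_one (F := F) hsmall
    obtain ⟨g₂, hg₂, hc₂⟩ := PSL2.exists_torus_card_add_one F
    obtain ⟨x₁, hx₁⟩ := PSL2.exists_orderOf_of_dvd_torus hg₁ (m := (Fintype.card F - 1) /
      Nat.gcd 2 (Fintype.card F - 1)) (by rw [hc₁])
    obtain ⟨x₂, hx₂⟩ := PSL2.exists_orderOf_of_dvd_torus hg₂ (m := (Fintype.card F + 1) /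
      Nat.gcd 2 (Fintype.card F - 1)) (by rw [hc₂])
    rcases hq with h9 | ⟨n, hn⟩ | ⟨hp, k, hk⟩
    · exfalso
      rw [h9] at hx₂
      exact (hP.odd_ok hx₂ (by decide) (by norm_num)).2 rfl
    · exfalso
      rw [hn] at hx₁ hx₂ hsmall
      have hn2 : 2 ≤ n := by
        by_contra hlt
        have : 2 ^ n ≤ 2 ^ 1 := Nat.pow_le_pow_right (by norm_num) (by omega)
        omega
      have heven : 2 ∣ 2 ^ n := dvd_pow_self 2 (by omega)
      have hg : Nat.gcd 2 (2 ^ n - 1) = 1 :=
        (Nat.prime_two.coprime_iff_not_dvd).2 (by omega)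
      rw [hg, Nat.div_one] at hx₁ hx₂
      have h1 := hP.odd_ok hx₁ (Nat.odd_iff.2 (by omega)) (by omega)
      have h2 := hP.odd_ok hx₂ (Nat.odd_iff.2 (by omega)) (by omega)
      rcases three_dvd_adjacent n with h3 | h3
      · have := (Nat.prime_dvd_prime_iff_eq Nat.prime_three h1.1).1 h3
        omega
      · have := (Nat.prime_dvd_prime_iff_eq Nat.prime_three h2.1).1 h3
        omega
    · refine ⟨F, iF, iFt, ?_, ⟨e⟩⟩
      obtain ⟨c, hc⟩ := hp.odd_of_ne_two (by omega)
      have hg : Nat.gcd 2 (Fintype.card F - 1) = 2 := Nat.gcd_eq_left ⟨c, by omega⟩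
      rw [hg] at hx₁ hx₂
      rcases k with _ | _ | j
      · omega
      · omega
      have hj1 := Nat.one_le_two_pow (n := j)
      have hj : 2 ^ (j + 1 + 1) = 4 * 2 ^ j := by rw [pow_succ, pow_succ]; ring
      by_cases hj0 : j = 0
      · subst hj0
        norm_num at hk
        rcases hk with hk | hk
        · exfalso
          refine h5 ?_
          rw [PSL2.card_PSL, hk]
          norm_num
        · omega
      have hev : 2 ∣ 2 ^ j := dvd_pow_self 2 hj0
      have h7 : j = 1 ∨ 2 ≤ j := by omega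
      rw [hj] at hk
      rcases hk with hk | hk
      · exfalso
        rw [show (Fintype.card F + 1) / 2 = 2 * 2 ^ j + 1 by omega] at hx₂
        have h2 := hP.odd_ok hx₂ ⟨2 ^ j, rfl⟩ (by omega)
        rcases three_dvd_adjacent j with h3 | h3
        · have h4 : 3 ∣ 2 * 2 ^ j + 1 := by omega
          have := (Nat.prime_dvd_prime_iff_eq Nat.prime_three h2.1).1 h4
          omega
        · have h4 : 3 ∣ Fintype.card F := by omega
          have := (Nat.prime_dvd_prime_iff_eq Nat.prime_three hp).1 h4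
          omega
      · rw [show (Fintype.card F - 1) / 2 = 2 * 2 ^ j - 1 by omega] at hx₁
        have h2 := hP.odd_ok hx₁ (Nat.odd_iff.2 (by omega)) (by omega)
        rcases three_dvd_adjacent j with h3 | h3
        · have h4 : 3 ∣ Fintype.card F := by omega
          have := (Nat.prime_dvd_prime_iff_eq Nat.prime_three hp).1 h4
          omega
        · have h4 : 3 ∣ 2 * 2 ^ j - 1 := by omega
          have := (Nat.prime_dvd_prime_iff_eq Nat.prime_three h2.1).1 h4
          omega
  · exfalso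
    exact not_five_dvd h (by
      have hc := GL.gcd_mul_card_PSL (F := F) 3 (by norm_num)
      rw [GL.card_SL_prod, hF] at hc
      rw [show Finset.Ico 2 (3 + 1) = ({2, 3} : Finset ℕ) from rfl] at hc
      norm_num at hc
      rw [Nat.card_congr e.toEquiv]
      omega)
  · obtain ⟨-, m, -, hm⟩ := hSz
    exfalso
    refine not_five_dvd h (hm ▸ ?_)
    refine Dvd.dvd.mul_right (Dvd.dvd.mul_left ?_ _) _
    rw [← pow_mul, show (2 * m + 1) * 2 = 4 * m + 2 by ring, pow_add, pow_mul]
    have : (2 ^ 4) ^ m % 5 = 1 := by rw [Nat.pow_mod]; norm_num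
    omega

variable [Finite G]

/-- A group with these orders and a normal `PSL₂(7)` below all minimal normal subgroups is it. -/
theorem top_case (h : Orders G) {M : Subgroup G} [M.Normal] [IsSimpleGroup M]
    (hcard : Nat.card M = 168) (hmin : ∀ N : Subgroup G, N.Normal → N ≠ ⊥ → M ≤ N) : M = ⊤ := by
  classical
  haveI : Fact (Nat.Prime 7) := ⟨by norm_num⟩
  have h168 : SmallSimple.Simple168 M := ⟨inferInstance, hcard⟩
  let θ : G →* Equiv.Perm (Sylow 7 M) :=
    (MulAction.toPermHom (MulAut M) (Sylow 7 M)).comp MulAut.conjNormal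
  obtain ⟨P⟩ : Nonempty (Sylow 7 M) := inferInstance
  have hker : θ.ker = ⊥ := by
    by_contra hk
    have hle := hmin _ inferInstance hk
    have h1 := SmallSimple.card_sylow_mul_card_normalizer P
    have h2 : normalizer ((P : Subgroup M) : Set M) = ⊤ := by
      refine eq_top_iff.2 fun m _ => ?_
      have hm : θ (m : G) = 1 := hle m.2
      have h3 := congrFun (congrArg DFunLike.coe hm) P
      refine Sylow.smul_eq_iff_mem_normalizer.1 ?_
      refine Eq.trans ?_ h3
      show m • P = MulAut.conjNormal (H := M) (m : G) • P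
      rw [MulAut.conjNormal_val, Sylow.smul_def]
    have h4 := congrArg (fun K : Subgroup M => Nat.card K) h2
    simp only [h168.card_normalizer_seven P, Subgroup.card_top, hcard] at h4
    omega
  have h49 : ¬ 7 ^ 2 ∣ Nat.card G := fun hd => by
    have h1 : Nat.card G ∣ Nat.card (Equiv.Perm (Sylow 7 M)) :=
      Subgroup.card_dvd_of_injective θ ((MonoidHom.ker_eq_bot_iff θ).1 hker)
    rw [Nat.card_perm, h168.card_sylow_seven] at h1
    exact absurd (hd.trans h1) (by decide)
  have hidx : ¬ 7 ∣ M.index := fun hd => h49 (by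
    rw [← M.card_mul_index, pow_two]
    exact mul_dvd_mul (hcard ▸ (by norm_num : 7 ∣ 168)) hd)
  -- the normaliser of a Sylow 7-subgroup lies in `M`
  set Q := (P : Subgroup M).map M.subtype with hQ
  have hQc : Nat.card Q = 7 := by
    rw [hQ, card_map_of_injective M.subtype_injective]; exact h168.card7 P
  haveI : IsCyclic Q := isCyclic_of_prime_card hQc
  set N := normalizer (Q : Set G) with hN
  haveI : (Q.subgroupOf N).Normal := (normal_subgroupOf_iff_le_normalizer le_normalizer).2 le_rfl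
  let e : Q.subgroupOf N ≃* Q := subgroupOfEquivOfLe le_normalizer
  haveI : IsCyclic (Q.subgroupOf N) := isCyclic_of_surjective e.symm.toMonoidHom e.symm.surjective
  let χ : N →* MulAut (Q.subgroupOf N) := MulAut.conjNormal
  have hAut : Nat.card (MulAut (Q.subgroupOf N)) = 6 := by
    rw [IsCyclic.card_mulAut, Nat.card_congr e.toEquiv, hQc]; decide
  haveI : IsCyclic (MulAut (Q.subgroupOf N)) := by
    have hc : Nat.card (Q.subgroupOf N) = 7 := (Nat.card_congr e.toEquiv).trans hQc
    haveI : IsCyclic (ZMod (Nat.card (Q.subgroupOf N)))ˣ := by rw [hc]; infer_instance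
    exact isCyclic_of_surjective (IsCyclic.mulAutMulEquiv (Q.subgroupOf N)).symm.toMonoidHom
      (IsCyclic.mulAutMulEquiv (Q.subgroupOf N)).symm.surjective
  letI := IsCyclic.commGroup (α := MulAut (Q.subgroupOf N))
  have hkerM : ∀ x : N, χ x = 1 → (x : G) ∈ M := by
    intro x hx
    obtain ⟨q, hq⟩ := isCyclic_iff_exists_zpowers_eq_top.1 (inferInstance : IsCyclic Q)
    have hq7 : orderOf (q : G) = 7 := by
      rw [Subgroup.orderOf_coe, ← Nat.card_zpowers, hq, Subgroup.card_top, hQc]
    have hc : Commute (x : G) q := by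
      have h1 := congrArg (fun f : MulAut (Q.subgroupOf N) => ((f ⟨⟨q, le_normalizer q.2⟩, q.2⟩ : N) : G)) hx
      simp only [χ, MulAut.conjNormal_apply, MulAut.one_apply] at h1
      exact mul_inv_eq_iff_eq_mul.1 h1
    rcases eq_or_ne (x : G) 1 with hx1 | hx1
    · rw [hx1]; exact one_mem _
    obtain ⟨r, hr, hrx⟩ := Nat.exists_prime_and_dvd (fun e => hx1 (orderOf_eq_one_iff.1 e))
    have hr7 : r = 7 := by
      by_contra hne
      exact h.mixed hc hr (by norm_num) hne hrx hq7.symm.dvd
    subst hr7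
    rcases h.ok hrx (by norm_num) with ⟨k, hk⟩ | ⟨-, -, ho⟩
    · exact absurd ((Nat.prime_dvd_prime_iff_eq (by norm_num : Nat.Prime 7) Nat.prime_two).1
        ((by norm_num : Nat.Prime 7).dvd_of_dvd_pow hk.dvd)) (by norm_num)
    · have h1 : ((x : G) : G ⧸ M) = 1 := by
        rw [← orderOf_eq_one_iff]
        have h2 : orderOf ((x : G) : G ⧸ M) ∣ 7 := ho ▸ orderOf_map_dvd (QuotientGroup.mk' M) _
        rcases (Nat.dvd_prime (by norm_num)).1 h2 with h3 | h3
        · exact h3
        · exact absurd (h3 ▸ orderOf_dvd_natCard _) hidx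
      exact (QuotientGroup.eq_one_iff _).1 h1
  obtain ⟨y, hyN, hy3⟩ : ∃ y : M, y ∈ normalizer ((P : Subgroup M) : Set M) ∧ orderOf y = 3 := by
    haveI : Fact (Nat.Prime 3) := ⟨Nat.prime_three⟩
    obtain ⟨y, hy⟩ := exists_prime_orderOf_dvd_card' (G := normalizer ((P : Subgroup M) : Set M)) 3
      (by rw [h168.card_normalizer_seven P]; norm_num)
    exact ⟨y, y.2, by rw [Subgroup.orderOf_coe, hy]⟩
  have hyN' : (y : G) ∈ N := by
    rw [hN, hQ]
    exact Subgroup.le_normalizer_map M.subtype ⟨y, hyN, rfl⟩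
  set y' : N := ⟨(y : G), hyN'⟩ with hy'
  have hy'3 : orderOf y' = 3 := by
    rw [← Subgroup.orderOf_coe]; simpa [hy', Subgroup.orderOf_coe] using hy3
  have hχy : orderOf (χ y') = 3 := by
    refine (((Nat.dvd_prime Nat.prime_three).1 (hy'3 ▸ orderOf_map_dvd χ y')).resolve_left
      fun e => ?_)
    obtain ⟨q, hq⟩ := isCyclic_iff_exists_zpowers_eq_top.1 (inferInstance : IsCyclic Q)
    have hq7 : orderOf (q : G) = 7 := by
      rw [Subgroup.orderOf_coe, ← Nat.card_zpowers, hq, Subgroup.card_top, hQc]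
    have hc : Commute (y : G) q := by
      have h1 := congrArg (fun f : MulAut (Q.subgroupOf N) => ((f ⟨⟨q, le_normalizer q.2⟩, q.2⟩ : N) : G))
        (orderOf_eq_one_iff.1 e)
      simp only [χ, MulAut.conjNormal_apply, MulAut.one_apply] at h1
      exact mul_inv_eq_iff_eq_mul.1 h1
    exact h.mixed hc Nat.prime_three (by norm_num) (by norm_num : (3 : ℕ) ≠ 7)
      (by rw [Subgroup.orderOf_coe, hy3]) hq7.symm.dvd
  have hNM : N ≤ M := by
    intro g hg
    set x : N := ⟨g, hg⟩
    have h6 : (χ x) ^ 6 = 1 := hAut ▸ pow_card_eq_one'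
    have h3 : (χ x) ^ 3 = 1 := by
      by_contra hne
      have h2 : orderOf ((χ x) ^ 3) = 2 := orderOf_eq_prime (by rw [← pow_mul]; exact h6) hne
      have hmul := (Commute.all ((χ x) ^ 3) (χ y')).orderOf_mul_eq_mul_orderOf_of_coprime
        (by rw [h2, hχy]; decide)
      rw [h2, hχy, ← map_pow, ← map_mul] at hmul
      have hd : 6 ∣ orderOf (x ^ 3 * y') := by
        have := orderOf_map_dvd χ (x ^ 3 * y')
        rwa [hmul] at this
      rcases (h.subgroup N).ok hd (by norm_num) with ⟨k, hk⟩ | ⟨hp, -⟩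
      · exact absurd ((Nat.prime_dvd_prime_iff_eq Nat.prime_three Nat.prime_two).1
          (Nat.prime_three.dvd_of_dvd_pow (hk ▸ (by norm_num : 3 ∣ 6)))) (by norm_num)
      · exact absurd hp (by decide)
    have hmem : χ x ∈ zpowers (χ y') := by
      by_contra hout
      haveI := Fintype.ofFinite (MulAut (Q.subgroupOf N))
      have hle := IsCyclic.card_pow_eq_one_le (α := MulAut (Q.subgroupOf N)) (n := 3) (by norm_num)
      have hp3 : ∀ i : ℕ, ((χ y') ^ i) ^ 3 = 1 := fun i => by
        rw [← pow_mul, mul_comm, pow_mul, ← hχy, pow_orderOf_eq_one, one_pow]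
      have hsub : ({χ x} ∪ (Finset.range 3).image ((χ y') ^ ·)) ⊆
          Finset.univ.filter (fun a : MulAut (Q.subgroupOf N) => a ^ 3 = 1) := by
        intro a ha
        rw [Finset.mem_filter]
        refine ⟨Finset.mem_univ _, ?_⟩
        rcases Finset.mem_union.1 ha with ha | ha
        · rw [Finset.mem_singleton.1 ha]; exact h3
        · obtain ⟨i, -, rfl⟩ := Finset.mem_image.1 ha
          exact hp3 i
      have h4 := (Finset.card_le_card hsub).trans hle
      rw [Finset.card_union_of_disjoint (by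
        rw [Finset.disjoint_singleton_left, Finset.mem_image]
        rintro ⟨i, -, hi⟩
        exact hout ⟨i, by rw [← hi]; simp⟩), Finset.card_singleton,
        Finset.card_image_of_injOn (fun i hi j hj he => pow_injOn_Iio_orderOf
          (by rw [hχy]; simpa using hi) (by rw [hχy]; simpa using hj) he), Finset.card_range] at h4
      omega
    obtain ⟨i, hi⟩ := mem_zpowers_iff.1 hmem
    have h7 := hkerM ((y' ^ i)⁻¹ * x) (by rw [map_mul, map_inv, map_zpow, hi, inv_mul_cancel])
    have h8 : ((y' ^ i : N) : G) ∈ M := by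
      rw [Subgroup.coe_zpow]; exact zpow_mem y.2 i
    have := mul_mem h8 h7
    rwa [Subgroup.coe_mul, Subgroup.coe_inv, mul_inv_cancel_left] at this
  have := Sylow.normalizer_sup_eq_top (N := M) P
  rw [eq_top_iff]
  exact this.ge.trans (_root_.sup_le hNM le_rfl)

/-- The solvable radical is trivial. -/
theorem radical_trivial (h : Orders G) {F : Type*} [Field F] [Fintype F] (hF : Fintype.card F = 7)
    (f : G →* PSL(2, F)) (hf : Function.Surjective f) {p : ℕ} (hp : p.Prime)
    (hK : IsPGroup p f.ker) : f.ker = ⊥ := by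
  classical
  by_contra hne
  haveI := Fact.mk hp
  haveI : Fact (Nat.Prime 2) := ⟨Nat.prime_two⟩
  haveI : Fact (Nat.Prime 7) := ⟨by norm_num⟩
  haveI : Nontrivial f.ker := (nontrivial_iff_ne_bot _).2 hne
  have h2F : (2 : F) ≠ 0 := PSL2.odd_card_iff.1 (by rw [hF]; decide)
  haveI : IsSimpleGroup PSL(2, F) := PSL2.psl_isSimpleGroup (by omega)
  have hc : Nat.card PSL(2, F) = 168 := by rw [PSL2.card_PSL, hF]; norm_num
  have h168 : SmallSimple.Simple168 PSL(2, F) := ⟨inferInstance, hc⟩
  -- `p`-elements of the kernel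
  have hkp : ∀ v ∈ f.ker, v ≠ 1 → p ∣ orderOf v := by
    intro v hv hv1
    obtain ⟨i, hi⟩ := IsPGroup.iff_orderOf.1 hK ⟨v, hv⟩
    rw [Subgroup.orderOf_mk] at hi
    rw [hi]
    exact dvd_pow_self p fun h0 => hv1 (orderOf_eq_one_iff.1 (by rw [hi, h0, pow_zero]))
  by_cases hp2 : p = 2
  · subst hp2
    -- an element of order 7 and one of order 3 normalising it
    obtain ⟨P⟩ : Nonempty (Sylow 7 G) := inferInstance
    set Q := (P : Subgroup G) with hQ
    set Pb := P.mapSurjective hf with hPb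
    have hQK : ∀ q ∈ Q, q ∈ f.ker → q = 1 := by
      intro q hq hqk
      by_contra hq1
      obtain ⟨i, hi⟩ := IsPGroup.iff_orderOf.1 P.isPGroup' ⟨q, hq⟩
      rw [Subgroup.orderOf_mk] at hi
      have := (Nat.prime_dvd_prime_iff_eq Nat.prime_two (by norm_num : Nat.Prime 7)).1
        (Nat.prime_two.dvd_of_dvd_pow (hi ▸ hkp q hqk hq1))
      omega
    set X := Q ⊔ f.ker with hX
    obtain ⟨yb, hyN, hy3⟩ : ∃ yb : PSL(2, F),
        yb ∈ normalizer ((Pb : Subgroup PSL(2, F)) : Set PSL(2, F)) ∧ orderOf yb = 3 := by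
      haveI : Fact (Nat.Prime 3) := ⟨Nat.prime_three⟩
      obtain ⟨y, hy⟩ := exists_prime_orderOf_dvd_card'
        (G := normalizer ((Pb : Subgroup PSL(2, F)) : Set PSL(2, F))) 3
        (by rw [h168.card_normalizer_seven Pb]; norm_num)
      exact ⟨y, y.2, by rw [Subgroup.orderOf_coe, hy]⟩
    obtain ⟨g, rfl⟩ := hf yb
    have hgQ : ((g • P : Sylow 7 G) : Subgroup G) ≤ X := by
      rintro _ ⟨q, hq, rfl⟩
      show g * q * g⁻¹ ∈ X
      have h1 : f (g * q * g⁻¹) ∈ (Pb : Subgroup PSL(2, F)) := by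
        rw [map_mul, map_mul, map_inv]
        exact (mem_normalizer_iff.1 hyN (f q)).1 ⟨q, hq, rfl⟩
      obtain ⟨q', hq', he⟩ := h1
      have h2 : q'⁻¹ * (g * q * g⁻¹) ∈ f.ker := by
        rw [MonoidHom.mem_ker, map_mul, map_inv, he, inv_mul_cancel]
      have := mul_mem (mem_sup_left hq' : q' ∈ X) (mem_sup_right h2)
      rwa [mul_inv_cancel_left] at this
    obtain ⟨r, hr⟩ := MulAction.exists_smul_eq X ((g • P).subtype hgQ) (P.subtype le_sup_left)
    rw [Sylow.smul_subtype hgQ] at hr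
    have hr' : (r : G) • g • P = P := Sylow.subtype_injective hr
    set y := (r : G) * g with hy
    have hyQ : y ∈ normalizer (Q : Set G) := by
      exact Sylow.smul_eq_iff_mem_normalizer.1 (by rw [hy, mul_smul]; exact hr')
    have hPc : Nat.card (Pb : Subgroup PSL(2, F)) = 7 := h168.card7 Pb
    -- `f r ∈ Pb`
    have hfr : f r ∈ (Pb : Subgroup PSL(2, F)) := by
      obtain ⟨q, hq, k, hk, e⟩ := Subgroup.mem_sup_of_normal_right.1 r.2
      refine ⟨q, hq, ?_⟩
      rw [← e, map_mul, (MonoidHom.mem_ker.1 hk), mul_one]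
    have hout : ∀ q ∈ Q, f (q * y) ∉ (Pb : Subgroup PSL(2, F)) := by
      intro q hq hm
      rw [hy, map_mul, map_mul, ← mul_assoc] at hm
      have h1 : f g ∈ (Pb : Subgroup PSL(2, F)) := by
        have := mul_mem (inv_mem (mul_mem (show f q ∈ (Pb : Subgroup _) from ⟨q, hq, rfl⟩) hfr)) hm
        rwa [inv_mul_cancel_left] at this
      have h2 := orderOf_dvd_natCard (⟨f g, h1⟩ : (Pb : Subgroup PSL(2, F)))
      rw [Subgroup.orderOf_mk, hy3, hPc] at h2
      omega
    have hord : ∀ q ∈ Q, orderOf (q * y) = 3 := by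
      intro q hq
      have hN : f (q * y) ∈ normalizer ((Pb : Subgroup PSL(2, F)) : Set PSL(2, F)) := by
        rw [hy, map_mul, map_mul]
        exact mul_mem (le_normalizer ⟨q, hq, rfl⟩) (mul_mem (le_normalizer hfr) hyN)
      have h21 := Subgroup.orderOf_dvd_natCard _ hN
      rw [h168.card_normalizer_seven Pb] at h21
      have h3 : 3 ∣ orderOf (q * y) := by
        refine Dvd.dvd.trans ?_ (orderOf_map_dvd f (q * y))
        rcases h168.orders (f (q * y)) with e | e | e | e | e <;> rw [e] at h21 ⊢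
        · exact absurd (by rw [orderOf_eq_one_iff.1 e]; exact one_mem _) (hout q hq)
        · norm_num at h21
        · norm_num at h21
        · exfalso
          obtain ⟨Q', hQ'⟩ := SmallSimple.zpowers_eq_sylow (fun S => h168.card7 S) e
          have h7 : zpowers (f (q * y)) ≤ normalizer ((Pb : Subgroup PSL(2, F)) : Set _) :=
            zpowers_le.2 hN
          have h8 : IsPGroup 7 (Pb ⊔ zpowers (f (q * y)) : Subgroup PSL(2, F)) :=
            IsPGroup.to_sup_of_normal_left' Pb.isPGroup'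
              (IsPGroup.of_card (n := 1) (by rw [Nat.card_zpowers, e, pow_one])) h7
          exact hout q hq (Pb.is_maximal' h8 le_sup_left ▸ mem_sup_right (mem_zpowers _))
      rcases h.ok h3 (by norm_num) with ⟨k, hk⟩ | ⟨-, -, he⟩
      · exact absurd ((Nat.prime_dvd_prime_iff_eq Nat.prime_three Nat.prime_two).1
          (Nat.prime_three.dvd_of_dvd_pow hk.dvd)) (by norm_num)
      · exact he
    -- the action on the centre of the kernel
    set Z := (center f.ker).map f.ker.subtype with hZ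
    haveI hZn : Z.Normal := inferInstance
    letI : CommGroup Z :=
      { (inferInstance : Group Z) with
        mul_comm := by
          rintro ⟨_, a, ha, rfl⟩ ⟨_, b, hb, rfl⟩
          exact Subtype.ext (congrArg Subtype.val (Subgroup.mem_center_iff.1 hb a) :) }
    set F' := Q ⊔ zpowers y with hF'
    let φ : F' →* MulAut Z := (MulAut.conjNormal).comp F'.subtype
    set A := Q.subgroupOf F' with hA
    have hF'N : F' ≤ normalizer (Q : Set G) := _root_.sup_le le_normalizer (zpowers_le.2 hyQ)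
    haveI : A.Normal := (normal_subgroupOf_iff_le_normalizer le_sup_left).2 hF'N
    have h7Q : ∀ q ∈ Q, q ^ 7 = 1 := by
      intro q hq
      refine hQK _ (pow_mem hq 7) ?_
      have hm : f q ∈ (Pb : Subgroup PSL(2, F)) := ⟨q, hq, rfl⟩
      have := Subgroup.orderOf_dvd_natCard _ hm
      rw [hPc] at this
      rw [MonoidHom.mem_ker, map_pow, orderOf_dvd_iff_pow_eq_one.1 this]
    have hA0 : A ≠ ⊥ := by
      intro e
      rw [hA, subgroupOf_eq_bot, disjoint_iff, inf_eq_left.2 le_sup_left] at e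
      exact P.ne_bot_of_dvd_card ((hc ▸ (by norm_num : 7 ∣ 168)).trans
        (card_dvd_of_surjective f hf)) e
    have hy2 : ∀ x : F', orderOf x = 2 → False := by
      intro x hx
      rw [← Subgroup.orderOf_coe] at hx
      have hxN : f x ∈ normalizer ((Pb : Subgroup PSL(2, F)) : Set PSL(2, F)) := by
        refine (_root_.sup_le ?_ ?_ : F' ≤ (normalizer ((Pb : Subgroup PSL(2, F)) : Set _)).comap f) x.2
        · exact fun q hq => le_normalizer ⟨q, hq, rfl⟩
        · rw [zpowers_le, mem_comap, hy, map_mul]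
          exact mul_mem (le_normalizer hfr) hyN
      have h21 := Subgroup.orderOf_dvd_natCard _ hxN
      rw [h168.card_normalizer_seven Pb] at h21
      have h2 : orderOf (f (x : G)) ∣ 2 := by
        have := orderOf_map_dvd f (x : G)
        rwa [hx] at this
      have h1 : f (x : G) = 1 := by
        rw [← orderOf_eq_one_iff]
        exact Nat.eq_one_of_dvd_coprimes (by norm_num : Nat.Coprime 2 21) h2 h21
      -- then `x` centralises `Q`
      obtain ⟨α, hα⟩ := (Subgroup.ne_bot_iff_exists_ne_one).1 hA0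
      have hq : ((α : F') : G) ∈ Q := α.2
      have hq1 : ((α : F') : G) ≠ 1 := fun e => hα (Subtype.ext (Subtype.ext e))
      have hxk : (x : G) ∈ f.ker := MonoidHom.mem_ker.2 h1
      generalize hqe : ((α : F') : G) = q at hq hq1
      have hcom : q * x * q⁻¹ * (x : G)⁻¹ = 1 := by
        refine hQK _ ?_ ?_
        · rw [mul_assoc, mul_assoc]
          refine mul_mem hq ?_
          rw [← mul_assoc]
          exact (mem_normalizer_iff.1 (hF'N x.2) q⁻¹).1 (inv_mem hq)
        · exact mul_mem ((inferInstance : f.ker.Normal).conj_mem _ hxk q) (inv_mem hxk)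
      have hc' : Commute (x : G) q :=
        (mul_inv_eq_iff_eq_mul.1 (mul_inv_eq_one.1 hcom)).symm
      have hoq : orderOf q = 7 := orderOf_eq_prime (h7Q q hq) hq1
      exact h.mixed hc' Nat.prime_two (by norm_num : Nat.Prime 7) (by norm_num : (2 : ℕ) ≠ 7)
        hx.symm.dvd hoq.symm.dvd
    haveI : Nontrivial (center f.ker) := hK.center_nontrivial
    obtain ⟨v, hv⟩ := exists_ne (1 : center f.ker)
    have hV : IsPGroup 2 Z := hK.to_le (map_subtype_le _) |>.of_equiv (MulEquiv.refl _)
    have hall := PrimeGraph.forall_eq_one_of_fpf φ A (p := 7) (q := 3) (s := 2) (by norm_num)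
      Nat.prime_three Nat.prime_two (by norm_num) hA0
      (fun x hx => Subtype.ext (h7Q _ hx)) ⟨y, mem_sup_right (mem_zpowers y)⟩
      (fun α => by rw [← Subgroup.orderOf_coe]; exact hord _ α.2)
      (fun x hx w hw => by
        by_contra hw1
        have hc' : Commute (x : G) w := by
          have h1 := congrArg Subtype.val hw
          simp only [φ, MonoidHom.comp_apply, MulAut.conjNormal_apply] at h1
          exact mul_inv_eq_iff_eq_mul.1 h1
        refine h.mixed hc' hx Nat.prime_two (fun e => hy2 x e) ?_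
          (hkp w (map_subtype_le _ w.2) fun e => hw1 (Subtype.ext e))
        rw [Subgroup.orderOf_coe]) hV ⟨((v : f.ker) : G), ⟨v, v.2, rfl⟩⟩
    exact hv (Subtype.ext (Subtype.ext (congrArg Subtype.val hall :)))
  · -- a four group inverts the kernel in three ways
    obtain ⟨a, b, ha, hb, hab, hne'⟩ : ∃ a b : G, orderOf a = 2 ∧ orderOf b = 2 ∧ Commute a b ∧
        a ≠ b := by
      obtain ⟨x, hx⟩ := exists_prime_orderOf_dvd_card' (G := PSL(2, F)) 2 (by rw [hc]; norm_num)
      obtain ⟨n, hn, ⟨e⟩⟩ := PSL2.dihedral_centralizer_involution h2F hx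
      have hn4 : n = 4 := by omega
      subst hn4
      have hC : Nat.card (centralizer ({x} : Set PSL(2, F))) = 8 := by
        rw [Nat.card_congr e.toEquiv, DihedralGroup.nat_card]
      have hC2 : IsPGroup 2 (centralizer ({x} : Set PSL(2, F))) := IsPGroup.of_card (n := 3) hC
      obtain ⟨T, hT⟩ := hC2.exists_le_sylow
      obtain ⟨S, rfl⟩ := Sylow.mapSurjective_surjective hf 2 T
      obtain ⟨a, ha, ha'⟩ := hT (e.symm (DihedralGroup.r 2)).2
      obtain ⟨b, hb, hb'⟩ := hT (e.symm (DihedralGroup.sr 0)).2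
      have hinj : ∀ s ∈ (S : Subgroup G), f s = 1 → s = 1 := by
        intro s hs hfs
        by_contra hs1
        obtain ⟨i, hi⟩ := IsPGroup.iff_orderOf.1 S.isPGroup' ⟨s, hs⟩
        rw [Subgroup.orderOf_mk] at hi
        exact hp2 ((Nat.prime_dvd_prime_iff_eq hp Nat.prime_two).1
          (hp.dvd_of_dvd_pow (hi ▸ hkp s hfs hs1)))
      have hord : ∀ s ∈ (S : Subgroup G), ∀ d : DihedralGroup 4, d * d = 1 → d ≠ 1 →
          f s = (e.symm d : PSL(2, F)) → orderOf s = 2 := by
        intro s hs d hd hd1 hfs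
        refine orderOf_eq_prime (hinj _ (pow_mem hs 2) ?_) fun e1 => hd1 ?_
        · rw [pow_two, map_mul, hfs, ← Subgroup.coe_mul, ← map_mul, hd, map_one]; rfl
        · rw [e1, map_one] at hfs
          exact e.symm.injective (by rw [map_one]; exact Subtype.ext hfs.symm)
      refine ⟨a, b, hord a ha _ (by decide) (by decide) ha', hord b hb _ (by decide) (by decide) hb',
        ?_, fun e1 => ?_⟩
      · have h1 : f (a * b * (b * a)⁻¹) = 1 := by
          rw [map_mul, map_inv, map_mul, map_mul, show f a = _ from ha', show f b = _ from hb',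
            ← Subgroup.coe_mul, ← Subgroup.coe_mul, ← map_mul, ← map_mul,
            show DihedralGroup.r (2 : ZMod 4) * DihedralGroup.sr 0 =
              DihedralGroup.sr 0 * DihedralGroup.r 2 by decide]
          exact mul_inv_cancel _
        exact mul_inv_eq_one.1 (hinj _ (mul_mem (mul_mem ha hb) (inv_mem (mul_mem hb ha))) h1)
      · rw [e1] at ha'
        exact absurd (e.symm.injective (Subtype.ext (ha'.symm.trans hb'))) (by decide)
    have habo : orderOf (a * b) = 2 := by
      refine orderOf_eq_prime ?_ fun e => hne' ?_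
      · rw [hab.mul_pow, ← ha, pow_orderOf_eq_one, one_mul, ha, ← hb, pow_orderOf_eq_one]
      · rw [mul_eq_one_iff_eq_inv] at e
        rw [e, inv_eq_of_mul_eq_one_right (by rw [← pow_two, ← hb, pow_orderOf_eq_one])]
    have hinv : ∀ u : G, orderOf u = 2 → ∀ v ∈ f.ker, u * v * u = v⁻¹ := by
      intro u hu
      have hu2 : u * u = 1 := by rw [← pow_two, ← hu, pow_orderOf_eq_one]
      refine TICentralisers.inverts_of_fpf hu2 _ (fun v hv => ?_) fun v hv hc' => ?_
      · have := (inferInstance : f.ker.Normal).conj_mem v hv u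
        rwa [inv_eq_of_mul_eq_one_right hu2] at this
      · by_contra hv1
        exact h.mixed hc' hp Nat.prime_two hp2 (hkp v hv hv1) hu.symm.dvd
    obtain ⟨v, hv⟩ := exists_ne (1 : f.ker)
    have h1 := hinv _ habo v v.2
    have h2 : a * b * v * (a * b) = v := by
      calc a * b * v * (a * b) = a * b * v * (b * a) := by rw [← hab.eq]
        _ = a * (b * v * b) * a := by group
        _ = a * (v : G)⁻¹ * a := by rw [hinv b hb v v.2]
        _ = v := by rw [hinv a ha _ (inv_mem v.2), inv_inv]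
    rw [h2] at h1
    have h3 : (v : G) ^ 2 = 1 := by rw [pow_two]; nth_rw 2 [h1]; rw [mul_inv_cancel]
    refine hp2 ((Nat.prime_dvd_prime_iff_eq hp Nat.prime_two).1
      ((hkp v v.2 fun e => hv (Subtype.ext e)).trans (orderOf_dvd_of_pow_eq_one h3)))

omit [Finite G] in
theorem sup_solvable {A B : Subgroup G} (hA : Group.IsSolvable A) (hB : Group.IsSolvable B)
    (hn : B ≤ normalizer (A : Set G)) : Group.IsSolvable (A ⊔ B : Subgroup G) :=
  PrimeGraph.isSolvable_sup_of_le_normalizer A B hn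

theorem result {G : Type*} [Group G] [Finite G]
    {F : Type*} [Field F] [Fintype F] (hF : Fintype.card F = 7)
    (h3 : 3 ≤ (Nat.card G).primeFactors.card)
    (hord : ∀ g : G, g ≠ 1 → (∃ k : ℕ, orderOf g = 2 ^ k) ∨ ((orderOf g).Prime ∧ orderOf g ≠ 5)) :
    Nonempty (G ≃* Matrix.ProjectiveSpecialLinearGroup (Fin 2) F) := by
  classical
  have h : Orders G := hord
  have hpp : ∀ g : G, g ≠ 1 → IsPrimePow (orderOf g) := by
    intro g hg
    rcases hord g hg with ⟨k, hk⟩ | ⟨hp, -⟩
    · rw [hk]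
      exact Nat.prime_two.isPrimePow.pow fun e => hg (orderOf_eq_one_iff.1 (by rw [hk, e, pow_zero]))
    · exact hp.isPrimePow
  have hns : ¬ Group.IsSolvable G := fun hs => by
    have := S1475.result (G := G) fun g => by
      by_cases hg : g = 1
      · exact Or.inr hg
      · exact Or.inl (hpp g hg)
    omega
  obtain ⟨R, ⟨hRn, hRs⟩, hRmax⟩ := Set.Finite.exists_maximalFor
    (fun K : Subgroup G => Nat.card K) {K | K.Normal ∧ Group.IsSolvable K} (Set.toFinite _)
    ⟨⊥, inferInstance, inferInstance⟩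
  haveI := hRn
  have hmax : ∀ N : Subgroup G, N.Normal → Group.IsSolvable N → N ≤ R := by
    intro N hN hNs
    haveI := hN
    haveI := hRs
    haveI := hNs
    have hs : Group.IsSolvable (R ⊔ N : Subgroup G) :=
      sup_solvable hRs hNs (fun x _ => by rw [normalizer_eq_top]; exact mem_top x)
    have := Subgroup.eq_of_le_of_card_ge (le_sup_left : R ≤ R ⊔ N)
      (hRmax ⟨inferInstance, hs⟩ (Subgroup.card_le_of_le le_sup_left))
    exact le_sup_right.trans this.ge
  obtain ⟨⟨p, hp, hRp⟩, ⟨M, hMn, hMs, hMc, hMmin⟩, -⟩ := S3992.result hns hpp R hRs hmax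
  haveI := hMn
  haveI := hMs
  have hQ : Orders (G ⧸ R) := h.surj (QuotientGroup.mk' R) (QuotientGroup.mk'_surjective R)
  obtain ⟨F', iF, iFt, hF', ⟨e⟩⟩ := simple_case (S := M)
    (by
      by_contra hall
      push Not at hall
      exact hMc ⟨⟨hall⟩⟩) (hQ.subgroup M)
  have hcard : Nat.card M = 168 := by
    rw [Nat.card_congr e.toEquiv, PSL2.card_PSL, hF']; norm_num
  have htop := top_case hQ hcard hMmin
  let e₁ := PSL2.pslCongr (FiniteField.ringEquivOfCardEq (K := F') (K' := F) (by rw [hF', hF]))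
  let e₂ : (G ⧸ R) ≃* PSL(2, F) :=
    ((Subgroup.topEquiv.symm.trans (MulEquiv.subgroupCongr htop.symm)).trans e).trans e₁
  let f : G →* PSL(2, F) := e₂.toMonoidHom.comp (QuotientGroup.mk' R)
  have hk : f.ker = R := by
    ext x
    simp [f]
  have hf : Function.Surjective f := e₂.surjective.comp (QuotientGroup.mk'_surjective R)
  have hbot := radical_trivial h hF f hf hp (hk.symm ▸ hRp)
  exact ⟨MulEquiv.ofBijective f ⟨(MonoidHom.ker_eq_bot_iff f).1 hbot, hf⟩⟩

end Cfsg.Agent.S3396
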