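import Cfsg.Statements.S3401
import Cfsg.Agent.Lib.Perm.RegularNormal
-- import your own Cfsg.Agent.* helpers here

set_option autoImplicit false
open Cfsg

namespace Cfsg.Agent.S3401

open MulAction

variable {G : Type*} [Group G] [Finite G] {Ω : Type*} [Fintype Ω] [MulAction G Ω]

/-- No normal subgroup of a 2-transitive group of degree `2 mod 4` is regular. -/
lemma not_regular (h2 : IsMultiplyPretransitive G Ω 2) (hn : Fintype.card Ω % 4 = 2)
    (hn2 : 2 < Fintype.card Ω) {N : Subgroup G} [N.Normal] [IsPretransitive N Ω] :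
    ∃ a : Ω, stabilizer N a ≠ ⊥ := by
  by_contra h
  simp only [not_exists, not_not] at h
  have : Nontrivial Ω := Fintype.one_lt_card_iff_nontrivial.1 (by omega)
  obtain ⟨p, m, hp, hm, hc, -⟩ := Cfsg.Agent.Perm.regular_normal_elementary_abelian h2 h
  rw [Nat.card_eq_fintype_card] at hc
  have hev : p ∣ 2 ∧ 2 ∣ p := by
    have h2d : 2 ∣ p ^ m := by omega
    have := Nat.prime_two.dvd_of_dvd_pow h2d
    exact ⟨dvd_of_eq ((Nat.prime_dvd_prime_iff_eq Nat.prime_two hp).1 this).symm, this⟩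
  have hp2 : p = 2 := Nat.dvd_antisymm hev.1 hev.2
  subst hp2
  have hm1 : m ≠ 1 := by rintro rfl; omega
  have : 4 ∣ 2 ^ m := pow_dvd_pow 2 (show 2 ≤ m by omega)
  omega

/-- Two 2-subgroups of maximal order in `L` are conjugate in `L`. -/
lemma conj_exists {L P Q : Subgroup G} {k : ℕ} (hP : P ≤ L) (hQ : Q ≤ L)
    (cP : Nat.card P = 2 ^ k) (cQ : Nat.card Q = 2 ^ k) (hk : (Nat.card L).factorization 2 = k) :
    ∃ m ∈ L, P.map (MulAut.conj m).toMonoidHom = Q := by
  have : Fact (Nat.Prime 2) := ⟨Nat.prime_two⟩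
  have c1 : Nat.card (P.subgroupOf L) = 2 ^ (Nat.card L).factorization 2 := by
    rw [hk, Nat.card_congr (Subgroup.subgroupOfEquivOfLe hP).toEquiv, cP]
  have c2 : Nat.card (Q.subgroupOf L) = 2 ^ (Nat.card L).factorization 2 := by
    rw [hk, Nat.card_congr (Subgroup.subgroupOfEquivOfLe hQ).toEquiv, cQ]
  obtain ⟨m, hm⟩ := MulAction.exists_smul_eq L (Sylow.ofCard _ c1) (Sylow.ofCard _ c2)
  refine ⟨m, m.2, Subgroup.eq_of_le_of_card_ge ?_ ?_⟩
  · rintro _ ⟨x, hx, rfl⟩
    have hx' : (⟨x, hP hx⟩ : L) ∈ (Sylow.ofCard _ c1 : Subgroup L) := hx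
    have : MulAut.conj m (⟨x, hP hx⟩ : L) ∈ ((m • Sylow.ofCard _ c1 : Sylow 2 L) : Subgroup L) :=
      ⟨_, hx', rfl⟩
    rw [hm] at this
    exact this
  · rw [Subgroup.card_map_of_injective (MulAut.conj (m : G)).injective, cP, cQ]

lemma map_conj_mul (T : Subgroup G) (m g : G) :
    T.map (MulAut.conj (m * g)).toMonoidHom =
      (T.map (MulAut.conj g).toMonoidHom).map (MulAut.conj m).toMonoidHom := by
  have h : (MulAut.conj (m * g)).toMonoidHom =
      (MulAut.conj m).toMonoidHom.comp (MulAut.conj g).toMonoidHom := by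
    ext x
    simp [mul_assoc]
  rw [Subgroup.map_map, h]

lemma fixed_of_conj {T : Subgroup G} {g : G} (h : T.map (MulAut.conj g).toMonoidHom = T) {x : Ω}
    (hx : ∀ t ∈ T, t • x = x) : ∀ t ∈ T, t • g • x = g • x := by
  intro t ht
  rw [← h] at ht
  obtain ⟨s, hs, rfl⟩ := ht
  simp [mul_smul, hx s hs]

lemma normal_two_transitive (h2 : IsMultiplyPretransitive G Ω 2) (hn : Fintype.card Ω % 4 = 2)
    (hn2 : 2 < Fintype.card Ω) {M : Subgroup G} [hMn : M.Normal] [IsPretransitive M Ω] :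
    IsMultiplyPretransitive M Ω 2 := by
  classical
  have : Fact (Nat.Prime 2) := ⟨Nat.prime_two⟩
  have hne : Nonempty Ω := Fintype.card_pos_iff.1 (by omega)
  let a : Ω := hne.some
  set A : Ω → Subgroup G := fun x => stabilizer G x ⊓ M with hA
  have hAconj : ∀ (g : G) (x : Ω), (A x).map (MulAut.conj g).toMonoidHom ≤ A (g • x) := by
    rintro g x _ ⟨y, ⟨hy1, hy2⟩, rfl⟩
    refine ⟨?_, hMn.conj_mem _ hy2 g⟩
    simp [mul_smul, mem_stabilizer_iff.1 hy1]
  have hAcard : ∀ x, Nat.card (A x) = Nat.card (A a) := by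
    have key : ∀ x y, Nat.card (A x) ≤ Nat.card (A y) := by
      intro x y
      obtain ⟨g, hg, hgx⟩ := Cfsg.Agent.Perm.isPretransitive_subgroup_iff.1 ‹IsPretransitive M Ω› x y
      have := Subgroup.card_le_of_le (hgx ▸ hAconj g x)
      rwa [Subgroup.card_map_of_injective (MulAut.conj g).injective] at this
    exact fun x => le_antisymm (key x a) (key a x)
  set k := (Nat.card (A a)).factorization 2 with hk
  let T₀ : Sylow 2 (A a) := default
  set T : Subgroup G := (T₀ : Subgroup (A a)).map (A a).subtype with hT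
  have hTcard : Nat.card T = 2 ^ k := by
    rw [hT, Subgroup.card_map_of_injective (A a).subtype_injective, Sylow.card_eq_multiplicity]
  have hTA : T ≤ A a := Subgroup.map_subtype_le _
  have hTM : T ≤ M := hTA.trans inf_le_right
  have hTa : ∀ t ∈ T, t • a = a := fun t ht => mem_stabilizer_iff.1 (hTA ht).1
  have hTp : IsPGroup 2 T := IsPGroup.of_card hTcard
  -- a maximal 2-subgroup of any point stabiliser in `M`
  have hmax : ∀ (x : Ω) (L : Subgroup G), L ≤ A x → T ≤ L →
      (Nat.card L).factorization 2 = k := by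
    intro x L hL hTL
    refine le_antisymm ?_ ?_
    · have := (Nat.factorization_le_iff_dvd Nat.card_pos.ne' Nat.card_pos.ne').2
        (Subgroup.card_dvd_of_le hL) 2
      rwa [hAcard x] at this
    · have := (Nat.factorization_le_iff_dvd Nat.card_pos.ne' Nat.card_pos.ne').2
        (Subgroup.card_dvd_of_le hTL) 2
      rwa [hTcard, Nat.prime_two.factorization_pow, Finsupp.single_eq_same] at this
  let F : Set Ω := {x | ∀ t ∈ T, t • x = x}
  have haF : a ∈ F := hTa
  -- the normaliser of `T` in `G_a` is transitive on `F \ {a}`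
  have hNa : ∀ b ∈ F, ∀ c ∈ F, b ≠ a → c ≠ a → ∃ g : G, g • a = a ∧
      T.map (MulAut.conj g).toMonoidHom = T ∧ g • b = c := by
    intro b hb c hc hba hca
    obtain ⟨g, hga, hgb⟩ := Cfsg.Agent.Perm.exists_stabilizer_smul_eq h2 hba hca
    let L := A a ⊓ stabilizer G c
    have hTL : T ≤ L := le_inf hTA fun t ht => hc t ht
    have hgL : T.map (MulAut.conj g).toMonoidHom ≤ L := by
      rintro _ ⟨t, ht, rfl⟩
      refine ⟨?_, ?_⟩
      · have := hAconj g a ⟨t, hTA ht, rfl⟩
        rwa [mem_stabilizer_iff.1 hga] at this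
      · simp [mem_stabilizer_iff, mul_smul, ← hgb, hb t ht]
    obtain ⟨m, ⟨hmA, hmc⟩, hm⟩ := conj_exists hgL hTL
      (by rw [Subgroup.card_map_of_injective (MulAut.conj g).injective, hTcard]) hTcard
      (hmax a L inf_le_left hTL)
    refine ⟨m * g, ?_, ?_, ?_⟩
    · rw [mul_smul, mem_stabilizer_iff.1 hga, mem_stabilizer_iff.1 hmA.1]
    · rw [map_conj_mul, hm]
    · rw [mul_smul, hgb, mem_stabilizer_iff.1 hmc]
  -- `N_M(T)` is transitive on `F`
  have hNM : ∀ c ∈ F, ∃ g ∈ M, T.map (MulAut.conj g).toMonoidHom = T ∧ g • a = c := by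
    intro c hc
    obtain ⟨g, hg, hgc⟩ := Cfsg.Agent.Perm.isPretransitive_subgroup_iff.1 ‹IsPretransitive M Ω› a c
    have hTc : T ≤ A c := le_inf (fun t ht => hc t ht) hTM
    obtain ⟨m, ⟨hmc, hmM⟩, hm⟩ := conj_exists
      ((Subgroup.map_mono hTA).trans (hgc ▸ hAconj g a)) hTc
      (by rw [Subgroup.card_map_of_injective (MulAut.conj g).injective, hTcard]) hTcard
      (hmax c _ le_rfl hTc)
    refine ⟨m * g, M.mul_mem hmM hg, ?_, ?_⟩
    · rw [map_conj_mul, hm]
    · rw [mul_smul, hgc, mem_stabilizer_iff.1 hmc]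
  -- the action of the normaliser on `F`
  let R : Subgroup G :=
    { carrier := {g | T.map (MulAut.conj g).toMonoidHom = T}
      one_mem' := by ext; simp
      mul_mem' := by
        intro x y hx hy
        simp only [Set.mem_ofPred_eq] at hx hy ⊢
        rw [map_conj_mul, hy, hx]
      inv_mem' := by
        intro x hx
        simp only [Set.mem_ofPred_eq] at hx ⊢
        conv_lhs => rw [← hx, ← map_conj_mul]
        ext z
        simp [mul_assoc] }
  let actF : MulAction R F :=
    { smul := fun g x => ⟨(g : G) • (x : Ω), fixed_of_conj g.2 x.2⟩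
      one_smul := fun x => Subtype.ext (one_smul G (x : Ω))
      mul_smul := fun g h x => Subtype.ext (mul_smul (g : G) (h : G) (x : Ω)) }
  let φ : R →* Equiv.Perm F := MulAction.toPermHom R F
  have hφ : ∀ (g : R) (x : F), ((φ g x : F) : Ω) = (g : G) • (x : Ω) := fun g x => rfl
  let a' : F := ⟨a, haF⟩
  have hodd_stab : ∀ (x : R), (x : G) ∈ M → (∃ c : F, (x : G) • (c : Ω) = c) →
      ∃ o, Odd o ∧ φ x ^ o = 1 := by
    rintro x hxM ⟨c, hxc⟩
    obtain ⟨e, o, ho, heo⟩ := Nat.exists_eq_two_pow_mul_odd (orderOf_pos (x : G)).ne'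
    refine ⟨o, ho, ?_⟩
    set y := (x : G) ^ o with hy
    have hyR : y ∈ R := R.pow_mem x.2 o
    have hZ : IsPGroup 2 (Subgroup.zpowers y) :=
      IsPGroup.of_card_dvd_pow (n := e) (by
        rw [Nat.card_zpowers]
        apply orderOf_dvd_of_pow_eq_one
        rw [hy, ← pow_mul, mul_comm, ← heo, pow_orderOf_eq_one])
    have hnor : Subgroup.zpowers y ≤ Subgroup.normalizer (T : Set G) := by
      rw [Subgroup.zpowers_le]
      refine Subgroup.mem_normalizer_iff.2 fun t => ?_
      conv_rhs => rw [← show T.map (MulAut.conj y).toMonoidHom = T from hyR]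
      rw [Subgroup.mem_map_equiv]
      simp [mul_assoc]
    have hsup := IsPGroup.to_sup_of_normal_right' hZ hTp hnor
    have hle : Subgroup.zpowers y ⊔ T ≤ A (c : Ω) := by
      refine sup_le ?_ (le_inf (fun t ht => c.2 t ht) hTM)
      rw [Subgroup.zpowers_le, hy]
      exact Subgroup.pow_mem _ (Subgroup.mem_inf.2 ⟨hxc, hxM⟩) o
    obtain ⟨j, hj⟩ := IsPGroup.iff_card.1 hsup
    have hjk := hmax _ _ hle le_sup_right
    rw [hj, Nat.prime_two.factorization_pow, Finsupp.single_eq_same] at hjk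
    have heq : T = Subgroup.zpowers y ⊔ T :=
      Subgroup.eq_of_le_of_card_ge le_sup_right (by rw [hj, hjk, hTcard])
    have hyT : y ∈ T := heq ▸ Subgroup.mem_sup_left (Subgroup.mem_zpowers y)
    rw [← map_pow]
    refine Equiv.ext fun d => Subtype.ext ?_
    rw [hφ, SubmonoidClass.coe_pow]
    exact d.2 y hyT
  have hsign_stab : ∀ (x : R), (x : G) ∈ M → (x : G) • a = a → Equiv.Perm.sign (φ x) = 1 := by
    intro x hxM hxa
    obtain ⟨o, ho, h⟩ := hodd_stab x hxM ⟨a', hxa⟩
    rcases Int.units_eq_one_or (Equiv.Perm.sign (φ x)) with h1 | h1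
    · exact h1
    · have := congrArg Equiv.Perm.sign h
      rw [map_pow, h1, ho.neg_one_pow, map_one] at this
      exact absurd this (by decide)
  -- the size of `F`
  have hFev : Fintype.card F % 2 = 0 := by
    have h := hTp.card_modEq_card_fixedPoints Ω
    have he : fixedPoints T Ω = F := by
      ext x
      simp [F, fixedPoints, Subgroup.smul_def]
    rw [he, Nat.card_eq_fintype_card, Nat.card_eq_fintype_card, Nat.ModEq] at h
    omega
  let N : Subgroup R := M.comap R.subtype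
  have : IsPretransitive N F := by
    refine ⟨fun x y => ?_⟩
    obtain ⟨g, hgM, hgR, hg⟩ := hNM _ x.2
    obtain ⟨h, hhM, hhR, hh⟩ := hNM _ y.2
    let g' : N := ⟨⟨g, hgR⟩, hgM⟩
    let h' : N := ⟨⟨h, hhR⟩, hhM⟩
    refine ⟨h' * g'⁻¹, ?_⟩
    have e1 : g' • a' = x := Subtype.ext hg
    have e2 : h' • a' = y := Subtype.ext hh
    rw [mul_smul, ← e1, inv_smul_smul, e2]
  have hF4 : ¬ 4 ∣ Fintype.card F := by
    intro h4
    have e1 : Nat.card F * Nat.card (stabilizer N a') = Nat.card N :=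
      Cfsg.Agent.Perm.card_mul_card_stabilizer a'
    have e2 : Nat.card N ∣ Nat.card M := by
      rw [← Subgroup.card_map_of_injective R.subtype_injective]
      exact Subgroup.card_dvd_of_le (Subgroup.map_comap_le _ _)
    have e3 : Nat.card Ω * Nat.card (A a) = Nat.card M := by
      rw [← Cfsg.Agent.Perm.card_mul_card_stabilizer (G := M) a,
        ← Subgroup.card_map_of_injective M.subtype_injective]
      have he : (stabilizer M a).map M.subtype = A a := by
        ext x
        simp [hA, Subgroup.smul_def, and_comm, Subgroup.mem_inf, mem_stabilizer_iff]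
      rw [he]
    have e4 : 2 ^ k ∣ Nat.card (stabilizer N a') := by
      rw [← Subgroup.card_map_of_injective
        (f := R.subtype.comp N.subtype) (R.subtype_injective.comp N.subtype_injective), ← hTcard]
      refine Subgroup.card_dvd_of_le fun t ht => ?_
      have htR : t ∈ R := by
        refine Subgroup.eq_of_le_of_card_ge ?_ ?_
        · rintro _ ⟨s, hs, rfl⟩
          exact T.mul_mem (T.mul_mem ht hs) (T.inv_mem ht)
        · exact (Subgroup.card_map_of_injective (MulAut.conj t).injective).ge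
      exact ⟨⟨⟨t, htR⟩, hTM ht⟩, Subtype.ext (hTa t ht), rfl⟩
    have e5 : 2 ^ (k + 2) ∣ Nat.card Ω * Nat.card (A a) := by
      rw [e3, pow_add, mul_comm]
      exact (mul_dvd_mul (by rwa [Nat.card_eq_fintype_card]) e4).trans (e1 ▸ e2)
    have h := (Nat.Prime.pow_dvd_iff_le_factorization Nat.prime_two
      (mul_pos Nat.card_pos Nat.card_pos).ne').1 e5
    rw [Nat.factorization_mul Nat.card_pos.ne' Nat.card_pos.ne', Finsupp.add_apply, ← hk] at h
    have : 2 ^ 2 ∣ Nat.card Ω :=
      (Nat.Prime.pow_dvd_iff_le_factorization Nat.prime_two Nat.card_pos.ne').2 (by omega)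
    rw [Nat.card_eq_fintype_card] at this
    omega
  -- an odd permutation of `F` in `N`
  obtain ⟨s, hsM, hs⟩ : ∃ s : R, (s : G) ∈ M ∧ Equiv.Perm.sign (φ s) = -1 := by
    let P : Subgroup (Equiv.Perm F) := N.map φ
    have : IsPretransitive P F := by
      refine ⟨fun x y => ?_⟩
      obtain ⟨g, hg⟩ := exists_smul_eq N x y
      exact ⟨⟨φ g, g, g.2, rfl⟩, hg⟩
    have hev : 2 ∣ Nat.card P := by
      rw [← Cfsg.Agent.Perm.card_mul_card_stabilizer (G := P) a', Nat.card_eq_fintype_card]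
      exact Dvd.dvd.mul_right (Nat.dvd_of_mod_eq_zero hFev) _
    obtain ⟨⟨_, s, hs, rfl⟩, hord⟩ := exists_prime_orderOf_dvd_card' 2 hev
    replace hord : orderOf (φ s) = 2 := (orderOf_injective P.subtype P.subtype_injective
      ⟨φ s, _⟩).trans hord
    refine ⟨s, hs, ?_⟩
    rw [Equiv.Perm.sign_of_pow_two_eq_one (hord ▸ pow_orderOf_eq_one _)]
    have : Fintype.card (Function.fixedPoints (φ s)) = 0 := by
      refine Fintype.card_eq_zero_iff.2 ⟨fun ⟨c, hc⟩ => ?_⟩
      obtain ⟨o, ho, h⟩ := hodd_stab s hs ⟨c, congrArg Subtype.val hc⟩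
      have hdvd := orderOf_dvd_of_pow_eq_one h
      rw [hord] at hdvd
      exact (Nat.not_even_iff_odd.2 ho) (even_iff_two_dvd.2 hdvd)
    rw [this, Nat.sub_zero]
    exact Odd.neg_one_pow (Nat.odd_iff.2 (by omega))
  have hsa : (s : G) • a ∈ F := fixed_of_conj s.2 haF
  have hsane : (s : G) • a ≠ a := fun e => by
    have := hsign_stab s hsM e
    rw [hs] at this
    exact absurd this (by decide)
  -- even elements of `N` fix `a`
  have heven : ∀ m : R, (m : G) ∈ M → Equiv.Perm.sign (φ m) = 1 → (m : G) • a = a := by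
    intro m hm hsm
    by_contra hne
    obtain ⟨g, hga, hgT, hg⟩ := hNa _ (fixed_of_conj m.2 haF) _ hsa hne hsane
    let g' : R := ⟨g, hgT⟩
    let z : R := s⁻¹ * (g' * m * g'⁻¹)
    have hzM : (z : G) ∈ M := M.mul_mem (M.inv_mem hsM) (hMn.conj_mem _ hm g)
    have hgi : g⁻¹ • a = a := inv_smul_eq_iff.2 hga.symm
    have hza : (z : G) • a = a := by
      simp [z, g', mul_smul, hgi, hg]
    have := hsign_stab z hzM hza
    simp [z, hs, hsm] at this
  have hF2 : ∀ b ∈ F, ∀ c ∈ F, b ≠ a → c ≠ a → b = c := by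
    suffices h : ∀ b ∈ F, b ≠ a → b = (s : G) • a by
      intro b hb c hc hba hca
      rw [h b hb hba, h c hc hca]
    intro b hb hba
    obtain ⟨m, hm, hmT, rfl⟩ := hNM b hb
    let m' : R := ⟨m, hmT⟩
    have hsm : Equiv.Perm.sign (φ m') = -1 :=
      (Int.units_eq_one_or _).resolve_left fun h1 => hba (heven m' hm h1)
    have h := heven (s⁻¹ * m') (M.mul_mem (M.inv_mem hsM) hm) (by simp [hs, hsm])
    simpa [m', mul_smul, inv_smul_eq_iff] using h
  -- a fixed point of `T` in every orbit of `M_a`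
  obtain ⟨c₀, hc₀, hc₀a⟩ : ∃ c ∈ F, c ≠ a := ⟨_, hsa, hsane⟩
  have horb : ∀ b, b ≠ a → ∃ m ∈ A a, m • b = c₀ := by
    intro b hba
    obtain ⟨g, hga, hgb⟩ := Cfsg.Agent.Perm.exists_stabilizer_smul_eq h2 hc₀a hba
    have hga' : g • a = a := hga
    obtain ⟨m, hmA, hm⟩ := conj_exists
      ((Subgroup.map_mono hTA).trans (hga' ▸ hAconj g a)) hTA
      (by rw [Subgroup.card_map_of_injective (MulAut.conj g).injective, hTcard]) hTcard hk.symm
    refine ⟨m, hmA, hF2 _ ?_ _ hc₀ ?_ hc₀a⟩
    · have he : T.map (MulAut.conj (m * g)).toMonoidHom = T := by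
        rw [map_conj_mul, hm]
      have := fixed_of_conj he hc₀
      rwa [mul_smul, hgb] at this
    · intro e
      exact hba ((smul_left_cancel_iff m).1 (e.trans (mem_stabilizer_iff.1 hmA.1).symm))
  rw [is_two_pretransitive_iff]
  intro x y z w hxy hzw
  obtain ⟨g, hgM, hgx⟩ := Cfsg.Agent.Perm.isPretransitive_subgroup_iff.1 ‹IsPretransitive M Ω› x a
  obtain ⟨h, hhM, hhz⟩ := Cfsg.Agent.Perm.isPretransitive_subgroup_iff.1 ‹IsPretransitive M Ω› z a
  obtain ⟨m, hm, hmy⟩ := horb (g • y) fun e =>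
    hxy ((smul_left_cancel_iff g).1 (hgx.trans e.symm))
  obtain ⟨m', hm', hmw⟩ := horb (h • w) fun e =>
    hzw ((smul_left_cancel_iff h).1 (hhz.trans e.symm))
  refine ⟨⟨h⁻¹ * m'⁻¹ * m * g, M.mul_mem (M.mul_mem (M.mul_mem (M.inv_mem hhM)
    (M.inv_mem hm'.2)) hm.2) hgM⟩, ?_, ?_⟩
  · simp [Subgroup.smul_def, mul_smul, hgx, mem_stabilizer_iff.1 hm.1, inv_smul_eq_iff, hhz,
      mem_stabilizer_iff.1 hm'.1]
  · simp [Subgroup.smul_def, mul_smul, hmy, inv_smul_eq_iff, hmw]

/-- Every non-trivial normal subgroup is 2-transitive with trivial centraliser. -/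
lemma normal_props [FaithfulSMul G Ω] (h2 : IsMultiplyPretransitive G Ω 2)
    (hn : Fintype.card Ω % 4 = 2) (hn2 : 2 < Fintype.card Ω) (M : Subgroup G) [M.Normal]
    (hM : M ≠ ⊥) :
    IsMultiplyPretransitive M Ω 2 ∧ Subgroup.centralizer (M : Set G) = ⊥ := by
  have : IsPreprimitive G Ω := isPreprimitive_of_is_two_pretransitive h2
  have := Cfsg.Agent.Perm.isPretransitive_of_normal (α := Ω) hM
  refine ⟨normal_two_transitive h2 hn hn2, ?_⟩
  by_contra hC
  have := Cfsg.Agent.Perm.isPretransitive_of_normal (α := Ω) hC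
  obtain ⟨a, ha⟩ := not_regular h2 hn hn2 (N := M)
  refine ha (Cfsg.Agent.Perm.semiregular_of_commute (M := M)
    (N := Subgroup.centralizer (M : Set G)) ‹_› (fun x hx => Subgroup.mem_centralizer_iff.2
      fun y hy => (Subgroup.mem_centralizer_iff.1 hy x hx).symm) a)

/-- There is a smallest non-trivial normal subgroup. -/
lemma exists_smallest [FaithfulSMul G Ω] (h2 : IsMultiplyPretransitive G Ω 2)
    (hn : Fintype.card Ω % 4 = 2) (hn2 : 2 < Fintype.card Ω) :
    ∃ M : Subgroup G, M.Normal ∧ M ≠ ⊥ ∧ ∀ N : Subgroup G, N.Normal → N ≠ ⊥ → M ≤ N := by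
  classical
  have hne : ({N : Subgroup G | N.Normal ∧ N ≠ ⊥}).Nonempty := by
    refine ⟨⊤, inferInstance, fun h => ?_⟩
    have : IsPretransitive G Ω := isPretransitive_of_is_two_pretransitive
    have : Nontrivial Ω := Fintype.one_lt_card_iff_nontrivial.1 (by omega)
    obtain ⟨x, y, hxy⟩ := exists_pair_ne Ω
    obtain ⟨g, rfl⟩ := exists_smul_eq G x y
    have hg : g = 1 := Subgroup.mem_bot.1 (h ▸ Subgroup.mem_top g)
    exact hxy (by rw [hg, one_smul])
  obtain ⟨M, ⟨hMn, hM⟩, hmin⟩ := Set.Finite.exists_minimal (Set.toFinite _) hne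
  refine ⟨M, hMn, hM, fun N hN hNne => ?_⟩
  have := hMn
  have := hN
  by_contra hle
  have hbot : M ⊓ N = ⊥ := by
    by_contra h
    exact hle (inf_eq_left.1 (le_antisymm inf_le_left (hmin ⟨inferInstance, h⟩ inf_le_left)))
  have hc : N ≤ Subgroup.centralizer (M : Set G) := fun x hx =>
    Subgroup.mem_centralizer_iff.2 fun y hy =>
      (Subgroup.commute_of_normal_of_disjoint M N hMn hN (disjoint_iff.2 hbot) y x hy hx).eq
  rw [(normal_props h2 hn hn2 M hM).2] at hc
  exact hNne (le_bot_iff.1 hc)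

/-- Let G be a doubly transitive permutation group on a finite set Ω with |Ω| ≡ 2 mod 4 and |Ω| > 2. Then G has a unique minimal normal subgroup M (a nontrivial normal subgroup contained in every nontrivial normal subgroup); M is simple and doubly transitive on Ω, and its centralizer in G is trivial (so G embeds in Aut(M)). -/
theorem result {G : Type*} [Group G] [Finite G] {Ω : Type*} [Fintype Ω] [MulAction G Ω] [FaithfulSMul G Ω]
    (h2 : MulAction.IsMultiplyPretransitive G Ω 2) (hn : Fintype.card Ω % 4 = 2) (hn2 : 2 < Fintype.card Ω) :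
    ∃ M : Subgroup G, M.Normal ∧ M ≠ ⊥ ∧ (∀ N : Subgroup G, N.Normal → N ≠ ⊥ → M ≤ N) ∧
      IsSimpleGroup ↥M ∧ MulAction.IsMultiplyPretransitive ↥M Ω 2 ∧ Subgroup.centralizer (M : Set G) = ⊥ := by
  obtain ⟨M, hMn, hM, hle⟩ := exists_smallest h2 hn hn2
  have := hMn
  obtain ⟨hM2, hC⟩ := normal_props h2 hn hn2 M hM
  refine ⟨M, hMn, hM, hle, ?_, hM2, hC⟩
  obtain ⟨L, hLn, hL, hLle⟩ := exists_smallest (G := M) hM2 hn hn2
  have hLG : (L.map M.subtype).Normal := by
    refine ⟨fun x hx g => ?_⟩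
    obtain ⟨y, hy, rfl⟩ := hx
    let e : M ≃* M := MulAut.conjNormal g
    have hn' : (L.comap e.symm.toMonoidHom).Normal := hLn.comap _
    have hne : L.comap e.symm.toMonoidHom ≠ ⊥ := by
      intro h
      refine hL ((Subgroup.eq_bot_iff_forall L).2 fun z hz => ?_)
      have h1 : e z = 1 := by
        rw [← Subgroup.mem_bot, ← h]
        simpa using hz
      exact (map_eq_one_iff e e.injective).1 h1
    have h1 := Subgroup.eq_of_le_of_card_ge (hLle _ hn' hne)
      (le_of_eq (by rw [Subgroup.comap_equiv_eq_map_symm', Subgroup.card_map_of_injective]; exact (e.symm.symm).injective))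
    refine ⟨e y, ?_, ?_⟩
    · show e y ∈ L
      rw [h1]
      simpa using hy
    · simp [e, MulAut.conjNormal_apply]
  have hLtop : L = ⊤ := by
    have h1 : L.map M.subtype ≠ ⊥ := by
      rwa [Ne, Subgroup.map_eq_bot_iff_of_injective _ M.subtype_injective]
    refine eq_top_iff.2 fun x _ => ?_
    obtain ⟨y, hy, hyx⟩ := hle _ hLG h1 x.2
    rwa [← Subtype.ext hyx]
  have : Nontrivial M := (Subgroup.nontrivial_iff_ne_bot M).2 hM
  exact ⟨fun N hN => or_iff_not_imp_left.2 fun hne => eq_top_iff.2 (hLtop ▸ hLle N hN hne)⟩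

end Cfsg.Agent.S3401
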