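import Cfsg.Statements.S3412
import Cfsg.Agent.Lib.CommGraph.L33
-- import your own Cfsg.Agent.* helpers here

set_option autoImplicit false
open Cfsg

namespace Cfsg.Agent.S3412

/-- Let H be a finite group whose commuting graph (vertices the non-identity elements, two joined when they commute) is isomorphic to that of PSL_3(3): there is a bijection between the non-identity elements of H and of PSL_3(3) under which two elements commute exactly when their images do. Then H ≅ PSL_3(3). -/
theorem result {H : Type*} [Group H] [Finite H]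
    (f : {h : H // h ≠ 1} ≃ {g : Matrix.ProjectiveSpecialLinearGroup (Fin 3) (ZMod 3) // g ≠ 1})
    (hf : ∀ x y : {h : H // h ≠ 1}, (x : H) * y = y * x ↔ ((f x) : Matrix.ProjectiveSpecialLinearGroup (Fin 3) (ZMod 3)) * (f y) = (f y) * (f x)) :
    Nonempty (H ≃* Matrix.ProjectiveSpecialLinearGroup (Fin 3) (ZMod 3)) := by
  have := GL.PSL_isSimpleGroup (F := ZMod 3) 3 (by norm_num) (by norm_num)
  have hz : Subgroup.center (Matrix.SpecialLinearGroup (Fin 3) (ZMod 3)) = ⊥ := by
    rw [eq_bot_iff]
    intro g hg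
    obtain ⟨r, hr, hrg⟩ := Matrix.SpecialLinearGroup.mem_center_iff.1 hg
    have hr1 : r = 1 := by
      have : ∀ r : ZMod 3, r ^ 3 = 1 → r = 1 := by decide
      exact this r (by simpa using hr)
    subst hr1
    refine Subgroup.mem_bot.2 (Subtype.ext ?_)
    rw [← hrg]
    simp
  let e : Matrix.SpecialLinearGroup (Fin 3) (ZMod 3) ≃*
      Matrix.ProjectiveSpecialLinearGroup (Fin 3) (ZMod 3) :=
    (QuotientGroup.quotientBot.symm).trans (QuotientGroup.quotientMulEquivOfEq hz.symm)
  have : Nontrivial (Matrix.SpecialLinearGroup (Fin 3) (ZMod 3)) := e.toEquiv.nontrivial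
  have : IsSimpleGroup (Matrix.SpecialLinearGroup (Fin 3) (ZMod 3)) :=
    IsSimpleGroup.isSimpleGroup_of_surjective e.symm.toMonoidHom e.symm.surjective
  let e' : {g : Matrix.ProjectiveSpecialLinearGroup (Fin 3) (ZMod 3) // g ≠ 1} ≃
      {g : Matrix.SpecialLinearGroup (Fin 3) (ZMod 3) // g ≠ 1} :=
    e.symm.toEquiv.subtypeEquiv fun g => (map_ne_one_iff e.symm e.symm.injective).symm
  obtain ⟨φ⟩ := CommGraph.L33.recognition (f.trans e') fun x y => by
    rw [hf]
    change _ ↔ e.symm _ * e.symm _ = e.symm _ * e.symm _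
    rw [← map_mul, ← map_mul, e.symm.injective.eq_iff]
  exact ⟨φ.trans e⟩

end Cfsg.Agent.S3412
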