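import Cfsg.Statements.S3419
import Mathlib
import Cfsg.Agent.Lib.Spectrum.BigPrimes
-- import your own Cfsg.Agent.* helpers here

set_option autoImplicit false
open Cfsg

namespace Cfsg.Agent.S3419

/-- Let n ≥ 5 and let G be a finite group with the same order and the same set of element orders as the alternating group of degree n. Then G is not solvable. -/
theorem result {G : Type*} [Group G] [Finite G] (n : ℕ) (hn : 5 ≤ n)
    (hcard : Nat.card G = Nat.card ↥(alternatingGroup (Fin n)))
    (hspec : Set.range (orderOf : G → ℕ) = Set.range (orderOf : ↥(alternatingGroup (Fin n)) → ℕ)) :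
    ¬ Group.IsSolvable G := by
  intro hsol
  have no : ∀ {p q : ℕ}, p.Prime → q.Prime → p ≠ q → n < p + q → ∀ g : G, orderOf g ≠ p * q :=
    fun hp hq hne hlt g h => Spectrum.not_mul_dvd_orderOf hspec hp hq hne hlt g (dvd_of_eq h.symm)
  have pair : ∀ p q : ℕ, p.Prime → q.Prime → p ≠ 2 → n < 2 * p → p < q → q ≤ n → False := by
    intro p q hp hq h2 hlt hpq hqn
    obtain ⟨hd1, hn1⟩ := Spectrum.dvd_card_alternating hp h2 hlt (hpq.le.trans hqn)
    obtain ⟨hd2, hn2⟩ := Spectrum.dvd_card_alternating hq (by have := hp.two_le; omega)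
      (by omega) hqn
    rw [← hcard] at hd1 hn1 hd2 hn2
    obtain ⟨m, hm⟩ : p * q ∣ Nat.card G :=
      ((Nat.coprime_primes hp hq).2 hpq.ne).mul_dvd_of_dvd_of_dvd hd1 hd2
    obtain ⟨g, hg⟩ := Spectrum.exists_orderOf_eq_mul (G := G) (a := 1) (b := 1) (m := m) hp hq hpq.ne
      le_rfl le_rfl (by rw [pow_one, pow_one, hm])
      (fun h => hn1 (by rw [hm, sq, mul_assoc]; exact mul_dvd_mul_left p (h.mul_left q)))
      (fun h => hn2 (by rw [hm, sq, mul_comm p q, mul_assoc]; exact mul_dvd_mul_left q (h.mul_left p)))
      (fun i hi h => by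
        rcases Nat.le_one_iff_eq_zero_or_eq_one.1 hi with rfl | rfl
        · rfl
        · rw [pow_one, Nat.mod_eq_of_lt hpq] at h
          exact absurd h hp.ne_one)
      (fun i hi h => by
        rcases Nat.le_one_iff_eq_zero_or_eq_one.1 hi with rfl | rfl
        · rfl
        · rw [pow_one, Nat.mod_eq_sub_mod hpq.le, Nat.mod_eq_of_lt (by omega)] at h
          have hq1 : q = p + 1 := by omega
          rcases hp.eq_two_or_odd with h' | h'
          · exact absurd h' h2
          · have := hq.eq_two_or_odd
            omega)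
    exact no hp hq hpq.ne (by omega) g hg
  have hc : 2 * Nat.card G = n.factorial := by
    have : Nontrivial (Fin n) := Fin.nontrivial_iff_two_le.2 (by omega)
    rw [hcard, two_mul_nat_card_alternatingGroup, Nat.card_perm, Nat.card_eq_fintype_card, Fintype.card_fin]
  rcases Nat.lt_or_ge n 11 with h | h
  · interval_cases n
    · exact pair 3 5 (by norm_num) (by norm_num) (by norm_num) (by norm_num) (by norm_num) (by norm_num)
    · have hG : Nat.card G = 3 ^ 2 * 5 ^ 1 * 8 := by simp [Nat.factorial] at hc ⊢; omega
      obtain ⟨g, hg⟩ := Spectrum.exists_orderOf_eq_mul (G := G) Nat.prime_three Nat.prime_five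
        (by norm_num) (by norm_num) le_rfl hG (by norm_num) (by norm_num) (by decide) (by decide)
      exact no Nat.prime_three Nat.prime_five (by norm_num) (by norm_num) g hg
    · exact pair 5 7 (by norm_num) (by norm_num) (by norm_num) (by norm_num) (by norm_num) (by norm_num)
    · exact pair 5 7 (by norm_num) (by norm_num) (by norm_num) (by norm_num) (by norm_num) (by norm_num)
    · exact pair 5 7 (by norm_num) (by norm_num) (by norm_num) (by norm_num) (by norm_num) (by norm_num)
    · have hG : Nat.card G = 5 ^ 2 * 7 ^ 1 * 10368 := by simp [Nat.factorial] at hc ⊢; omega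
      obtain ⟨g, hg⟩ := Spectrum.exists_orderOf_eq_mul (G := G) Nat.prime_five (by norm_num : Nat.Prime 7)
        (by norm_num) (by norm_num) le_rfl hG (by norm_num) (by norm_num) (by decide) (by decide)
      exact no Nat.prime_five (by norm_num : Nat.Prime 7) (by norm_num) (by norm_num) g hg
  · obtain ⟨p, q, hp, hq, h1, h2, h3⟩ := NT.exists_two_primes_half h
    exact pair p q hp hq (by omega) h1 h2 h3

end Cfsg.Agent.S3419
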