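import Cfsg.Statements.S3420
import Mathlib
import Cfsg.Agent.Lib.Spectrum.BigPrimes
-- import your own Cfsg.Agent.* helpers here

set_option autoImplicit false
open Cfsg

namespace Cfsg.Agent.S3420

open Cfsg.Agent

/-- Among normal subgroups of order prime to `p` there is a largest one. -/
lemma exists_largest_prime_to {M : Type*} [Group M] [Finite M] (P : ℕ → Prop) (hP : ∀ p, P p → p.Prime) :
    ∃ K : Subgroup M, K.Normal ∧ (∀ p, P p → ¬ p ∣ Nat.card K) ∧
      ∀ L : Subgroup M, L.Normal → (∀ p, P p → ¬ p ∣ Nat.card L) → L ≤ K := by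
  classical
  have : Finite (Subgroup M) := Finite.of_injective _ SetLike.coe_injective
  obtain ⟨K, ⟨hKn, hK⟩, hmax⟩ := Set.Finite.exists_maximal
    (Set.toFinite {K : Subgroup M | K.Normal ∧ ∀ p, P p → ¬ p ∣ Nat.card K})
    ⟨⊥, inferInstance, fun p hp => by rw [Subgroup.card_bot]; exact (hP p hp).not_dvd_one⟩
  refine ⟨K, hKn, hK, fun L hLn hL => le_sup_right.trans (hmax ⟨Subgroup.sup_normal K L, fun p hp h => ?_⟩ le_sup_left)⟩
  rw [sup_comm, Solvable.card_sup_normal] at h
  rcases (hP p hp).dvd_mul.1 h with h | h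
  · exact hK p hp h
  · exact hL p hp (h.trans (Subgroup.card_map_dvd _ _))

/-- A minimal normal subgroup of order exactly divisible by `p` is simple. -/
lemma isSimple_of_minimal {Q : Type*} [Group Q] [Finite Q] (M : Subgroup Q) [hMn : M.Normal]
    (hmin : ∀ L : Subgroup Q, L.Normal → L ≤ M → L = ⊥ ∨ L = M) {p : ℕ} (hp : p.Prime)
    (hdvd : p ∣ Nat.card M) (hnd : ¬ p ^ 2 ∣ Nat.card M) : IsSimpleGroup M := by
  classical
  have hMne : M ≠ ⊥ := fun h => by
    rw [h, Subgroup.card_bot] at hdvd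
    exact hp.not_dvd_one hdvd
  have : Nontrivial M := (Subgroup.nontrivial_iff_ne_bot M).2 hMne
  obtain ⟨K, hKn, hK, hKmax⟩ := exists_largest_prime_to (M := M) (fun r => r = p) (fun r h => h ▸ hp)
  have hKbot : K = ⊥ := by
    have hnorm : (K.map M.subtype).Normal := by
      refine ⟨fun x hx g => ?_⟩
      obtain ⟨y, hy, rfl⟩ := hx
      let e : M ≃* M := MulAut.conjNormal g
      have := hKmax (K.map e.toMonoidHom) (hKn.map _ e.surjective) (fun r hr h => hK r hr
        (h.trans (Subgroup.card_map_dvd _ _)))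
      exact ⟨e y, this ⟨y, hy, rfl⟩, by simp [e, MulAut.conjNormal_apply]⟩
    rcases hmin _ hnorm (Subgroup.map_subtype_le K) with h | h
    · rwa [Subgroup.map_eq_bot_iff_of_injective _ M.subtype_injective] at h
    · exfalso
      refine hK p rfl ?_
      rw [← Subgroup.card_map_of_injective M.subtype_injective, h]
      exact hdvd
  refine ⟨fun L hL => ?_⟩
  by_contra hcon
  rw [not_or] at hcon
  obtain ⟨hLbot, hLtop⟩ := hcon
  have : Finite (Subgroup M) := Finite.of_injective _ SetLike.coe_injective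
  obtain ⟨T, ⟨hTn, hTne, hTL⟩, hTmin⟩ := Set.Finite.exists_minimal
    (Set.toFinite {T : Subgroup M | T.Normal ∧ T ≠ ⊥ ∧ T ≤ L}) ⟨L, hL, hLbot, le_rfl⟩
  have hTp : p ∣ Nat.card T := by
    by_contra h
    exact hTne (le_bot_iff.1 (hKbot ▸ hKmax T hTn (fun r hr => hr ▸ h)))
  have hnot : ∃ g : Q, T.map (MulAut.conjNormal g : M ≃* M).toMonoidHom ≠ T := by
    by_contra hall
    simp only [not_exists, not_not] at hall
    have hn : (T.map M.subtype).Normal := by
      refine ⟨fun x hx g => ?_⟩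
      obtain ⟨y, hy, rfl⟩ := hx
      exact ⟨MulAut.conjNormal g y, (hall g).le ⟨y, hy, rfl⟩, by simp [MulAut.conjNormal_apply]⟩
    rcases hmin _ hn (Subgroup.map_subtype_le T) with h | h
    · exact hTne (by rwa [Subgroup.map_eq_bot_iff_of_injective _ M.subtype_injective] at h)
    · refine hLtop (eq_top_iff.2 fun x _ => ?_)
      obtain ⟨y, hy, hyx⟩ := h.ge x.2
      exact Subtype.ext hyx ▸ hTL hy
  obtain ⟨g, hg⟩ := hnot
  set T' := T.map (MulAut.conjNormal g : M ≃* M).toMonoidHom with hT'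
  have hT'n : T'.Normal := hTn.map _ (MulAut.conjNormal g : M ≃* M).surjective
  have hcard : Nat.card T' = Nat.card T :=
    Subgroup.card_map_of_injective (MulAut.conjNormal g : M ≃* M).injective
  have hinf : T ⊓ T' = ⊥ := by
    by_contra h
    have h1 : T ≤ T ⊓ T' := hTmin ⟨inferInstance, h, inf_le_left.trans hTL⟩ inf_le_left
    exact hg (Subgroup.eq_of_le_of_card_ge (h1.trans inf_le_right) hcard.le).symm
  have hnor : T ≤ Subgroup.normalizer (T' : Set M) := by
    rw [Subgroup.normalizer_eq_top]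
    exact le_top
  refine hnd ?_
  rw [sq]
  refine (mul_dvd_mul hTp (hcard ▸ hTp)).trans ?_
  rw [← Coprime.card_sup_of_le_normalizer hnor hinf]
  exact (Subgroup.card_subgroup_dvd_card _)

/-- Let n ≥ 11 and let G be a finite group with the same order and the same set of element orders as the alternating group of degree n. Then G has normal subgroups N < H such that H/N is a non-abelian simple group whose order is divisible by every prime p with n/2 < p ≤ n. -/
theorem result {G : Type*} [Group G] [Finite G] (n : ℕ) (hn : 11 ≤ n)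
    (hcard : Nat.card G = Nat.card ↥(alternatingGroup (Fin n)))
    (hspec : Set.range (orderOf : G → ℕ) = Set.range (orderOf : ↥(alternatingGroup (Fin n)) → ℕ)) :
    ∃ (N H : Subgroup G) (_ : N.Normal), H.Normal ∧ N < H ∧
      IsSimpleGroup (↥H ⧸ N.subgroupOf H) ∧ ¬ IsMulCommutative (↥H ⧸ N.subgroupOf H) ∧
      ∀ p : ℕ, p.Prime → n < 2 * p → p ≤ n → p ∣ Nat.card (↥H ⧸ N.subgroupOf H) := by
  classical
  let big : ℕ → Prop := fun p => p.Prime ∧ n < 2 * p ∧ p ≤ n
  obtain ⟨N, hNn, hN, hNmax⟩ := exists_largest_prime_to (M := G) big (fun p h => h.1)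
  obtain ⟨p₁, q₁, hp₁, hq₁, hn1, hlt₁, hle₁⟩ := NT.exists_two_primes_half hn
  have hodd : ∀ p, big p → p ≠ 2 := by rintro p ⟨-, h1, -⟩ rfl; omega
  have hexact : ∀ p, big p → p ∣ Nat.card G ∧ ¬ p ^ 2 ∣ Nat.card G := fun p h => by
    rw [hcard]; exact Spectrum.dvd_card_alternating h.1 (hodd p h) h.2.1 h.2.2
  have hbig₁ : big p₁ := ⟨hp₁, hn1, hlt₁.le.trans hle₁⟩
  have hbig₂ : big q₁ := ⟨hq₁, by omega, hle₁⟩
  have hGN : Nat.card (G ⧸ N) * Nat.card N = Nat.card G := Solvable.card_quotient_mul_card N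
  have hQbig : ∀ p, big p → p ∣ Nat.card (G ⧸ N) ∧ ¬ p ^ 2 ∣ Nat.card (G ⧸ N) := fun p h => by
    refine ⟨?_, fun h2 => (hexact p h).2 (hGN ▸ h2.mul_right _)⟩
    exact (h.1.dvd_mul.1 (hGN ▸ (hexact p h).1)).resolve_right (hN p h)
  have : Nontrivial (G ⧸ N) := Finite.one_lt_card_iff_nontrivial.1
    (lt_of_lt_of_le hp₁.one_lt (Nat.le_of_dvd Nat.card_pos (hQbig _ hbig₁).1))
  have : Finite (Subgroup (G ⧸ N)) := Finite.of_injective _ SetLike.coe_injective
  obtain ⟨M, ⟨hMn, hMne⟩, hMmin⟩ := Set.Finite.exists_minimal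
    (Set.toFinite {M : Subgroup (G ⧸ N) | M.Normal ∧ M ≠ ⊥}) ⟨⊤, inferInstance, top_ne_bot⟩
  have hmin : ∀ L : Subgroup (G ⧸ N), L.Normal → L ≤ M → L = ⊥ ∨ L = M := fun L hL hle =>
    or_iff_not_imp_left.2 fun h => le_antisymm hle (hMmin ⟨hL, h⟩ hle)
  set H := M.comap (QuotientGroup.mk' N) with hH
  have hNH : N ≤ H := QuotientGroup.le_comap_mk' N M
  have hne : N ≠ H := fun h => hMne (by
    have h1 : H.map (QuotientGroup.mk' N) = M :=
      Subgroup.map_comap_eq_self_of_surjective (QuotientGroup.mk'_surjective N) M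
    rw [← h1, ← h, QuotientGroup.map_mk'_self])
  -- some big prime divides `|M|`
  obtain ⟨p, hpbig, hpM⟩ : ∃ p, big p ∧ p ∣ Nat.card M := by
    by_contra hcon
    simp only [not_exists, not_and] at hcon
    refine hne (le_antisymm hNH (hNmax H (hMn.comap _) fun p hp h => ?_))
    rw [hH, Solvable.card_comap_quotient] at h
    exact (hp.1.dvd_mul.1 h).elim (hN p hp) (hcon p hp)
  have hpM2 : ¬ p ^ 2 ∣ Nat.card M := fun h =>
    (hQbig p hpbig).2 (h.trans (Subgroup.card_subgroup_dvd_card M))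
  have hall : ∀ q, big q → q ∣ Nat.card M := by
    intro q hqbig
    by_contra hqM
    have hp := hpbig.1
    have hq := hqbig.1
    have hne : p ≠ q := fun h => hqM (h ▸ hpM)
    have hfp : Fact p.Prime := ⟨hp⟩
    have hfq : Fact q.Prime := ⟨hq⟩
    let P : Sylow p M := default
    set N₁ := Subgroup.normalizer ((P : Subgroup M).map M.subtype : Set (G ⧸ N)) with hN₁
    have hfr : N₁ ⊔ M = ⊤ := Sylow.normalizer_sup_eq_top P
    have hqN : q ∣ Nat.card N₁ := by
      have h := (hQbig q hqbig).1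
      rw [← Subgroup.card_top (G := G ⧸ N), ← hfr, Solvable.card_sup_normal] at h
      exact ((hq.dvd_mul.1 h).resolve_left hqM).trans (Subgroup.card_map_dvd _ _)
    obtain ⟨y, hy⟩ := exists_prime_orderOf_dvd_card' (G := N₁) q hqN
    obtain ⟨x, hx⟩ := exists_prime_orderOf_dvd_card' (G := P) p (by
      have : p ∣ Nat.card P := by
        rw [P.card_eq_multiplicity]
        exact dvd_pow_self p (hp.factorization_pos_of_dvd Nat.card_pos.ne' hpM).ne'
      exact this)
    set x' : G ⧸ N := ((x : M) : G ⧸ N) with hx'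
    have hxo : orderOf x' = p := by rw [hx', Subgroup.orderOf_coe, Subgroup.orderOf_coe, hx]
    have hPc : Nat.card ((P : Subgroup M).map M.subtype) = p := by
      rw [Subgroup.card_map_of_injective M.subtype_injective, P.card_eq_multiplicity]
      have h1 := hp.factorization_pos_of_dvd Nat.card_pos.ne' hpM
      have h2 : (Nat.card M).factorization p < 2 := by
        by_contra h
        exact hpM2 ((hp.pow_dvd_iff_le_factorization Nat.card_pos.ne').2 (by omega))
      rw [show (Nat.card M).factorization p = 1 by omega, pow_one]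
    have hzp : Subgroup.zpowers x' = (P : Subgroup M).map M.subtype :=
      Subgroup.eq_of_le_of_card_ge ((Subgroup.zpowers_le).2 ⟨(x : M), x.2, rfl⟩)
        (by rw [hPc, Nat.card_zpowers, hxo])
    have hyx : (y : G ⧸ N) * x' * (y : G ⧸ N)⁻¹ ∈ Subgroup.zpowers x' := by
      rw [hzp]
      exact (Subgroup.mem_normalizer_iff.1 y.2 x').1 (hzp ▸ Subgroup.mem_zpowers x')
    obtain ⟨k, hk⟩ := Subgroup.mem_zpowers_iff.1 hyx
    have hyo : (y : G ⧸ N) ^ q = 1 := by rw [← Subgroup.coe_pow, ← hy, pow_orderOf_eq_one, Subgroup.coe_one]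
    have hiter : ∀ i : ℕ, (y : G ⧸ N) ^ i * x' * ((y : G ⧸ N) ^ i)⁻¹ = x' ^ (k ^ i) := by
      intro i
      induction i with
      | zero => simp
      | succ i ih =>
        rw [pow_succ' (y : G ⧸ N), mul_inv_rev, show (y : G ⧸ N) * (y : G ⧸ N) ^ i * x' * (((y : G ⧸ N) ^ i)⁻¹ * (y : G ⧸ N)⁻¹) =
          (y : G ⧸ N) * ((y : G ⧸ N) ^ i * x' * ((y : G ⧸ N) ^ i)⁻¹) * (y : G ⧸ N)⁻¹ by group, ih, ← conj_zpow, ← hk, ← zpow_mul, pow_succ']
    have hkq := hiter q
    rw [hyo, one_mul, inv_one, mul_one] at hkq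
    have hmod : ((k : ZMod p)) ^ q = 1 := by
      have : x' ^ (k ^ q - 1) = 1 := by rw [zpow_sub, ← hkq, zpow_one, mul_inv_cancel]
      rw [← orderOf_dvd_iff_zpow_eq_one, hxo, ← ZMod.intCast_zmod_eq_zero_iff_dvd, Int.cast_sub,
        Int.cast_pow, Int.cast_one, sub_eq_zero] at this
      exact this
    have hk1 : (k : ZMod p) = 1 := by
      have hk0 : (k : ZMod p) ≠ 0 := fun h => by
        rw [h, zero_pow hq.ne_zero] at hmod
        exact zero_ne_one hmod
      have h1 := ZMod.orderOf_dvd_card_sub_one hk0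
      rcases (Nat.dvd_prime hq).1 (orderOf_dvd_of_pow_eq_one hmod) with h | h
      · exact orderOf_eq_one_iff.1 h
      · rw [h] at h1
        obtain ⟨c, hc⟩ := h1
        exfalso
        have := hpbig.2.2
        have := hqbig.2.1
        have := hp.two_le
        rcases Nat.lt_or_ge c 2 with hc2 | hc2
        · interval_cases c
          · omega
          · rcases hp.eq_two_or_odd with h' | h'
            · exact hodd p hpbig h'
            · rcases hq.eq_two_or_odd with h'' | h''
              · exact hodd q hqbig h''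
              · omega
        · have := Nat.mul_le_mul_left q hc2
          omega
    have hcomm : Commute x' (y : G ⧸ N) := by
      have : x' ^ k = x' := by
        conv_rhs => rw [← zpow_one x']
        rw [zpow_eq_zpow_iff_modEq, hxo, ← ZMod.intCast_eq_intCast_iff, Int.cast_one]
        exact hk1
      rw [hk] at this
      exact (mul_inv_eq_iff_eq_mul.1 this).symm
    obtain ⟨g, hg⟩ := QuotientGroup.mk'_surjective N (x' * y)
    refine Spectrum.not_mul_dvd_orderOf hspec hp hq hne (by have := hpbig.2.1; have := hqbig.2.1; omega) g ?_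
    have := orderOf_map_dvd (QuotientGroup.mk' N) g
    rwa [hg, hcomm.orderOf_mul_eq_mul_orderOf_of_coprime, hxo, Subgroup.orderOf_coe, hy] at this
    rw [hxo, Subgroup.orderOf_coe, hy]
    exact (Nat.coprime_primes hp hq).2 hne
  have := hMn
  have hsimple : IsSimpleGroup M := isSimple_of_minimal M hmin hpbig.1 hpM hpM2
  let f : H →* M := (QuotientGroup.mk' N).subgroupComap M
  have hf : Function.Surjective f :=
    MonoidHom.subgroupComap_surjective_of_surjective _ _ (QuotientGroup.mk'_surjective N)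
  have hker : f.ker = N.subgroupOf H := by
    ext x
    rw [MonoidHom.mem_ker, Subgroup.mem_subgroupOf, ← QuotientGroup.eq_one_iff (N := N) (x : G), Subtype.ext_iff]
    rfl
  refine ⟨N, H, hNn, hMn.comap _, lt_of_le_of_ne hNH hne, ?_⟩
  let e : (↥H ⧸ N.subgroupOf H) ≃* M :=
    (QuotientGroup.quotientMulEquivOfEq hker.symm).trans (QuotientGroup.quotientKerEquivOfSurjective f hf)
  refine ⟨e.isSimpleGroup, fun hc => ?_, fun q hq h1 h2 => ?_⟩
  · let _ : CommGroup M := { (inferInstance : Group M) with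
      mul_comm := fun a b => by
        obtain ⟨a', rfl⟩ := e.surjective a
        obtain ⟨b', rfl⟩ := e.surjective b
        rw [← map_mul, ← map_mul, hc.is_comm.comm] }
    have hprime := IsSimpleGroup.prime_card (α := M)
    have h1 := (Nat.prime_dvd_prime_iff_eq hp₁ hprime).1 (hall _ hbig₁)
    have h2 := (Nat.prime_dvd_prime_iff_eq hq₁ hprime).1 (hall _ hbig₂)
    omega
  · rw [Nat.card_congr e.toEquiv]
    exact hall q ⟨hq, h1, h2⟩

end Cfsg.Agent.S3420
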