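import Cfsg.Statements.S3421
import Cfsg.Agent.Lib.PSL2.Spectrum.Main
import Cfsg.Agent.Lib.PSL2.AbelianInvol.Main
import Cfsg.Agent.Lib.PSL2.Classes
import Cfsg.Agent.Lib.PSL2.PGLHom
-- import your own Cfsg.Agent.* helpers here

set_option autoImplicit false
open Cfsg

namespace Cfsg.Agent.S3421


open scoped MatrixGroups

universe u v

theorem even_case {G : Type v} [Group G] [Finite G] {F : Type u} [Field F] [Fintype F]
    (h4 : 4 ≤ Fintype.card F) (h2 : (2 : F) = 0) (hcard : Nat.card G = Nat.card PSL(2, F))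
    (hspec : ∀ g : G, ∃ x : PSL(2, F), orderOf x = orderOf g)
    (hocc : ∀ x : PSL(2, F), ∃ g : G, orderOf g = orderOf x) :
    Nonempty (G ≃* PSL(2, F)) := by
  classical
  haveI : Fact (Nat.Prime 2) := ⟨Nat.prime_two⟩
  haveI : CharP F 2 := CharTwo.of_one_ne_zero_of_two_eq_zero one_ne_zero h2
  obtain ⟨n, -, hn⟩ := FiniteField.card F 2
  set q := Fintype.card F with hq
  have hqe : 2 ∣ q := hn ▸ dvd_pow_self 2 n.pos.ne'
  have hgcd : Nat.gcd 2 (q - 1) = 1 :=
    (Nat.Prime.coprime_iff_not_dvd Nat.prime_two).2 (by omega)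
  have hdiv : ∀ g : G, orderOf g ∣ 2 ∨ orderOf g ∣ q - 1 ∨ orderOf g ∣ q + 1 := by
    intro g
    obtain ⟨x, hx⟩ := hspec g
    have := PSL2.psl_orderOf_dvd 2 x
    rwa [hgcd, Nat.div_one, Nat.div_one, hx] at this
  have hinvol : ∀ t g : G, orderOf t = 2 → Commute g t → g ^ 2 = 1 := by
    intro t g ht hg
    by_cases he : 2 ∣ orderOf g
    · rcases hdiv g with e | e | e
      · exact orderOf_dvd_iff_pow_eq_one.1 e
      all_goals exact absurd (he.trans e) (by omega)
    · have hco : Nat.Coprime (orderOf g) (orderOf t) :=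
        ht ▸ ((Nat.Prime.coprime_iff_not_dvd Nat.prime_two).2 he).symm
      have e1 := hg.orderOf_mul_eq_mul_orderOf_of_coprime hco
      rcases hdiv (g * t) with e | e | e <;> rw [e1, ht] at e
      · have : orderOf g * 2 ∣ 1 * 2 := by rwa [one_mul]
        have h1 := Nat.dvd_one.1 (Nat.dvd_of_mul_dvd_mul_right two_pos this)
        rw [orderOf_eq_one_iff.1 h1, one_pow]
      all_goals exact absurd (dvd_of_mul_left_dvd e) (by omega)
  have hH : PSL2.AbInv.Hyp G := fun t ht => ⟨⟨fun x y => Subtype.ext (by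
    have hx := hinvol t x ht (Subgroup.mem_centralizer_singleton_iff.1 x.2)
    have hy := hinvol t y ht (Subgroup.mem_centralizer_singleton_iff.1 y.2)
    have hxy := hinvol t ((x : G) * y) ht (Subgroup.mem_centralizer_singleton_iff.1 (mul_mem x.2 y.2))
    rw [pow_two] at hx hy hxy
    calc (x : G) * y = ((x : G) * y)⁻¹ := (inv_eq_of_mul_eq_one_right hxy).symm
      _ = (y : G) * x := by
        rw [mul_inv_rev, inv_eq_of_mul_eq_one_right hx, inv_eq_of_mul_eq_one_right hy])⟩⟩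
  obtain ⟨T⟩ := (inferInstance : Nonempty (Sylow 2 G))
  have hG : Nat.card G = q * (q ^ 2 - 1) := by rw [hcard, PSL2.card_PSL_of_two_eq_zero h2]
  have hodd : ¬ 2 ∣ q ^ 2 - 1 := by
    have : 2 ∣ q ^ 2 := hqe.trans (dvd_pow_self q two_ne_zero)
    have : 0 < q ^ 2 := pow_pos (by omega) 2
    omega
  have hT : Nat.card (T : Subgroup G) = q := by
    rw [hn]; exact SmallSimple.card_sylow_subgroup (hn ▸ hG) (hn ▸ hodd) T
  have hTexp : ∀ x ∈ (T : Subgroup G), x ^ 2 = 1 := by
    intro x hx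
    by_cases hx1 : x = 1
    · rw [hx1, one_pow]
    obtain ⟨k, hk⟩ := T.isPGroup' ⟨x, hx⟩
    obtain ⟨j, -, hj⟩ := (Nat.dvd_prime_pow Nat.prime_two).1
      (orderOf_dvd_of_pow_eq_one (by simpa using congrArg Subtype.val hk) : orderOf x ∣ 2 ^ k)
    rcases j with _ | j
    · exact absurd (orderOf_eq_one_iff.1 (by simpa using hj)) hx1
    · rcases hdiv x with e | e | e
      · exact orderOf_dvd_iff_pow_eq_one.1 e
      all_goals exact absurd (((dvd_pow_self 2 (Nat.succ_ne_zero j))).trans (hj ▸ e)) (by omega)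
  have hnc : ¬ IsCyclic (T : Subgroup G) := by
    intro hc
    obtain ⟨c, hc'⟩ := hc.exists_ofOrder_eq_natCard
    have := orderOf_dvd_of_pow_eq_one (Subtype.ext (hTexp c c.2) : c ^ 2 = 1)
    rw [hc', hT] at this
    have := Nat.le_of_dvd two_pos this
    omega
  have hnn : ¬ (T : Subgroup G).Normal := by
    intro hN
    obtain ⟨g₀, htr, hg₀⟩ := PSL2.exists_torus_card_add_one F
    obtain ⟨x, hx⟩ := PSL2.exists_orderOf_of_dvd_torus (m := q + 1) htr
      (by rw [hg₀, hgcd, Nat.div_one])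
    obtain ⟨g, hg⟩ := hocc x
    rw [hx] at hg
    have hinv : ∀ k ∈ Subgroup.zpowers g, ∀ y : G, (y ∈ (T : Subgroup G) ∧ y ≠ 1) →
        (k * y * k⁻¹ ∈ (T : Subgroup G) ∧ k * y * k⁻¹ ≠ 1) := fun k _ y hy =>
      ⟨hN.conj_mem y hy.1 k, by rw [Ne, conj_eq_one_iff]; exact hy.2⟩
    letI := PSL2.Spec.conjAction (Subgroup.zpowers g)
      (fun y => y ∈ (T : Subgroup G) ∧ y ≠ 1) hinv
    have hdvd : q + 1 ∣ Nat.card {y : G // y ∈ (T : Subgroup G) ∧ y ≠ 1} := by
      refine PSL2.Spec.dvd_card_of_dvd_index (K := Subgroup.zpowers g) fun y => ?_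
      have : MulAction.stabilizer (Subgroup.zpowers g) y = ⊥ := by
        refine (Subgroup.eq_bot_iff_forall _).2 fun k hk => ?_
        have hk' : (k : G) * y.1 * (k : G)⁻¹ = y.1 :=
          congrArg Subtype.val (MulAction.mem_stabilizer_iff.1 hk)
        have hy2 : orderOf y.1 = 2 := orderOf_eq_prime (hTexp _ y.2.1) y.2.2
        have h1 := orderOf_dvd_of_pow_eq_one (hinvol y.1 k hy2 (mul_inv_eq_iff_eq_mul.1 hk'))
        have h2 := Subgroup.orderOf_dvd_natCard _ k.2
        rw [Nat.card_zpowers, hg] at h2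
        have h3 := Nat.dvd_gcd h1 h2
        rw [(Nat.Prime.coprime_iff_not_dvd Nat.prime_two).2 (by omega : ¬ 2 ∣ q + 1), Nat.dvd_one,
          orderOf_eq_one_iff] at h3
        exact Subtype.ext h3
      rw [this, Subgroup.index_bot, Nat.card_zpowers, hg]
    have hle : Nat.card {y : G // y ∈ (T : Subgroup G) ∧ y ≠ 1} ≤ q - 1 := by
      letI := Fintype.ofFinite G
      rw [Nat.card_eq_fintype_card, Fintype.card_subtype,
        show (Finset.univ.filter fun y : G => y ∈ (T : Subgroup G) ∧ y ≠ 1) =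
          (Finset.univ.filter fun y : G => y ∈ (T : Subgroup G)).erase 1 by ext y; simp [and_comm],
        Finset.card_erase_of_mem (by simp), ← Fintype.card_subtype, ← Nat.card_eq_fintype_card, hT]
    haveI : Nontrivial (T : Subgroup G) := Finite.one_lt_card_iff_nontrivial.1 (by omega)
    obtain ⟨y, hy⟩ := exists_ne (1 : (T : Subgroup G))
    haveI : Nonempty {y : G // y ∈ (T : Subgroup G) ∧ y ≠ 1} :=
      ⟨⟨y, y.2, fun e => hy (Subtype.ext e)⟩⟩
    have := Nat.le_of_dvd Nat.card_pos hdvd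
    omega
  obtain ⟨K, iK, iKf, A, iA, iAf, hK, hA, ⟨e⟩⟩ := PSL2.AbInv.exists_equiv hH T hnc hnn
  haveI := hK
  have hK2 : (2 : K) = 0 := CharTwo.two_eq_zero
  have hA1 : ∀ y : A, y = 1 := by
    intro y
    let t : SL(2, K) := PSL2.uu 1
    have ht : orderOf t = 2 := by
      refine orderOf_eq_prime ?_ ?_
      · rw [PSL2.uu_pow, Nat.cast_ofNat, hK2, zero_mul, PSL2.uu_zero]
      · simp [t]
    have hts : orderOf (e.symm (t, 1)) = 2 := by
      rw [MulEquiv.orderOf_eq, Prod.orderOf, ht, orderOf_one]; rfl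
    have hc : Commute ((t, y) : SL(2, K) × A) (t, 1) :=
      Prod.ext rfl (show y * 1 = 1 * y by rw [one_mul, mul_one])
    have h1 := hinvol _ (e.symm (t, y)) hts (hc.map e.symm.toMonoidHom)
    rw [← map_pow, map_eq_one_iff _ e.symm.injective] at h1
    have h2 := Nat.dvd_gcd (orderOf_dvd_of_pow_eq_one (congrArg Prod.snd h1 : y ^ 2 = 1))
      (orderOf_dvd_natCard y)
    rw [(Nat.Prime.coprime_iff_not_dvd Nat.prime_two).2 (fun h => by
      obtain ⟨i, hi⟩ := hA; omega), Nat.dvd_one, orderOf_eq_one_iff] at h2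
    exact h2
  have hcK : Fintype.card K = q := by
    have h1 : Nat.card G = Fintype.card K * (Fintype.card K ^ 2 - 1) := by
      haveI : Subsingleton A := ⟨fun x y => (hA1 x).trans (hA1 y).symm⟩
      rw [Nat.card_congr e.toEquiv, Nat.card_prod, Nat.card_unique (α := A), mul_one, PSL2.card_SL]
    have hmono : StrictMonoOn (fun x : ℕ => x * (x ^ 2 - 1)) {x | 1 ≤ x} := by
      intro x hx y _ hxy
      have hxy' : x ^ 2 < y ^ 2 := Nat.pow_lt_pow_left hxy two_ne_zero
      have hx2 : 1 ≤ x ^ 2 := Nat.one_le_pow _ _ hx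
      exact Nat.mul_lt_mul_of_lt_of_le hxy (by omega) (by omega)
    exact (hmono.eq_iff_eq (show 1 ≤ Fintype.card K from Fintype.card_pos)
      (show 1 ≤ q by omega)).1 (h1.symm.trans hG)
  haveI : Subsingleton A := ⟨fun x y => (hA1 x).trans (hA1 y).symm⟩
  refine ⟨(e.trans ?_).trans (PSL2.pslCongr (FiniteField.ringEquivOfCardEq hcK))⟩
  exact MulEquiv.ofBijective (PSL2.mk.comp (MonoidHom.fst SL(2, K) A)) ⟨fun x y hxy => by
    refine Prod.ext ?_ (Subsingleton.elim _ _)
    rcases PSL2.mk_eq_mk.1 hxy with h | h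
    · exact h
    · refine h.trans ?_
      ext i j; simp [CharTwo.neg_eq], fun z => by
    obtain ⟨g, hg⟩ := PSL2.mk_surjective z
    exact ⟨(g, 1), hg⟩⟩

theorem odd_case {G : Type v} [Group G] [Finite G] {F : Type u} [Field F] [Fintype F]
    (h4 : 4 ≤ Fintype.card F) (h2 : (2 : F) ≠ 0) (hcard : Nat.card G = Nat.card PSL(2, F))
    (hspec : ∀ g : G, ∃ x : PSL(2, F), orderOf x = orderOf g)
    (hocc : ∀ x : PSL(2, F), ∃ g : G, orderOf g = orderOf x) :
    Nonempty (G ≃* PSL(2, F)) := by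
  obtain ⟨p, hpF⟩ := CharP.exists F
  haveI := hpF
  haveI hp : Fact p.Prime := ⟨CharP.char_is_prime F p⟩
  obtain ⟨n, -, hn⟩ := FiniteField.card F p
  set q := Fintype.card F with hq
  have hp2 : p ≠ 2 := fun e => h2 (by subst e; exact CharP.cast_eq_zero F 2)
  obtain ⟨a, ha⟩ : ∃ a, q = 2 * a + 1 := by
    obtain ⟨k, hk⟩ := (hp.out.odd_of_ne_two hp2).pow (n := (n : ℕ))
    exact ⟨k, by omega⟩
  have hgcd : Nat.gcd 2 (q - 1) = 2 := Nat.gcd_eq_left ⟨a, by omega⟩
  have h : PSL2.Spec.Hyp G p q a (a + 1) := by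
    refine ⟨⟨n, hn⟩, hp2, by omega, ha, rfl, ?_, fun g => ?_, ?_, ?_⟩
    · have h1 := PSL2.two_mul_card_PSL h2
      rw [← hcard, ← hq, show q ^ 2 - 1 = 4 * (a * (a + 1)) by
        rw [ha, show (2 * a + 1) ^ 2 = 4 * (a * (a + 1)) + 1 by ring]; omega] at h1
      linarith
    · obtain ⟨x, hx⟩ := hspec g
      have := PSL2.psl_orderOf_dvd p x
      rwa [← hq, hgcd, hx, show (q - 1) / 2 = a by omega, show (q + 1) / 2 = a + 1 by omega] at this
    · obtain ⟨g₀, htr, hg₀⟩ := PSL2.exists_torus_card_sub_one h4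
      obtain ⟨x, hx⟩ := PSL2.exists_orderOf_of_dvd_torus (m := a) htr (by
        rw [hg₀, ← hq, hgcd, show (q - 1) / 2 = a by omega])
      obtain ⟨g, hg⟩ := hocc x
      exact ⟨g, hg.trans hx⟩
    · obtain ⟨g₀, htr, hg₀⟩ := PSL2.exists_torus_card_add_one F
      obtain ⟨x, hx⟩ := PSL2.exists_orderOf_of_dvd_torus (m := a + 1) htr (by
        rw [hg₀, ← hq, hgcd, show (q + 1) / 2 = a + 1 by omega])
      obtain ⟨g, hg⟩ := hocc x
      exact ⟨g, hg.trans hx⟩
  exact h.nonempty_mulEquiv rfl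


/-- Let F be a finite field with more than 3 elements. A finite group G is isomorphic to PSL(2, F) if and only if G has the same set of element orders and the same order as PSL(2, F). -/
theorem result {G : Type*} [Group G] [Finite G] {F : Type*} [Field F] [Fintype F] (hF : 3 < Fintype.card F) :
    Nonempty (G ≃* Matrix.ProjectiveSpecialLinearGroup (Fin 2) F) ↔
      (Set.range (orderOf : G → ℕ) = Set.range (orderOf : Matrix.ProjectiveSpecialLinearGroup (Fin 2) F → ℕ) ∧
        Nat.card G = Nat.card (Matrix.ProjectiveSpecialLinearGroup (Fin 2) F)) := by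
  classical
  constructor
  · rintro ⟨e⟩
    refine ⟨Set.ext fun n => ⟨?_, ?_⟩, Nat.card_congr e.toEquiv⟩
    · rintro ⟨g, rfl⟩; exact ⟨e g, MulEquiv.orderOf_eq e g⟩
    · rintro ⟨x, rfl⟩; exact ⟨e.symm x, MulEquiv.orderOf_eq e.symm x⟩
  rintro ⟨hr, hcard⟩
  have hspec : ∀ g : G, ∃ x : PSL(2, F), orderOf x = orderOf g := fun g => (Set.ext_iff.1 hr (orderOf g)).1 ⟨g, rfl⟩
  have hocc : ∀ x : PSL(2, F), ∃ g : G, orderOf g = orderOf x := fun x => (Set.ext_iff.1 hr (orderOf x)).2 ⟨x, rfl⟩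
  by_cases h2 : (2 : F) = 0
  · exact even_case (by omega) h2 hcard hspec hocc
  · exact odd_case (by omega) h2 hcard hspec hocc

end Cfsg.Agent.S3421
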