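import Cfsg.Statements.S3437
import Mathlib
import Cfsg.Agent.Lib.Spectrum.QuadMatrix
-- import your own Cfsg.Agent.* helpers here

set_option autoImplicit false
open Cfsg

namespace Cfsg.Agent.S3437

open Cfsg.Agent

/-- An explicit list of 48 encoded matrices. -/
def L0 : List Spectrum.MN := [((1, 0), (0, 0), (0, 0), (1, 0)),
  ((0, 3), (0, 0), (0, 0), (0, 11)),
  ((3, 0), (3, 0), (2, 0), (11, 0)),
  ((5, 0), (0, 0), (0, 0), (8, 0)),
  ((0, 9), (0, 9), (0, 9), (0, 4)),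
  ((0, 9), (0, 7), (0, 6), (0, 4)),
  ((2, 0), (3, 0), (2, 0), (10, 0)),
  ((0, 2), (0, 0), (0, 0), (0, 10)),
  ((2, 0), (2, 0), (3, 0), (10, 0)),
  ((0, 6), (0, 9), (0, 9), (0, 6)),
  ((2, 0), (11, 0), (10, 0), (10, 0)),
  ((0, 6), (0, 7), (0, 6), (0, 6)),
  ((12, 0), (0, 0), (0, 0), (12, 0)),
  ((0, 6), (0, 6), (0, 7), (0, 6)),
  ((10, 0), (2, 0), (3, 0), (2, 0)),
  ((10, 0), (3, 0), (2, 0), (2, 0)),
  ((0, 10), (0, 0), (0, 0), (0, 2)),
  ((0, 6), (0, 4), (0, 4), (0, 6)),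
  ((2, 0), (10, 0), (11, 0), (10, 0)),
  ((10, 0), (11, 0), (10, 0), (2, 0)),
  ((10, 0), (10, 0), (11, 0), (2, 0)),
  ((0, 4), (0, 6), (0, 7), (0, 9)),
  ((0, 4), (0, 9), (0, 9), (0, 9)),
  ((8, 0), (0, 0), (0, 0), (5, 0)),
  ((0, 4), (0, 7), (0, 6), (0, 9)),
  ((0, 4), (0, 4), (0, 4), (0, 9)),
  ((0, 0), (0, 10), (0, 11), (0, 0)),
  ((0, 0), (12, 0), (1, 0), (0, 0)),
  ((0, 0), (8, 0), (8, 0), (0, 0)),
  ((11, 0), (10, 0), (11, 0), (3, 0)),
  ((11, 0), (2, 0), (3, 0), (3, 0)),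
  ((0, 11), (0, 0), (0, 0), (0, 3)),
  ((11, 0), (3, 0), (2, 0), (3, 0)),
  ((11, 0), (11, 0), (10, 0), (3, 0)),
  ((0, 0), (0, 11), (0, 10), (0, 0)),
  ((0, 7), (0, 4), (0, 4), (0, 7)),
  ((0, 7), (0, 6), (0, 7), (0, 7)),
  ((0, 0), (0, 2), (0, 3), (0, 0)),
  ((3, 0), (10, 0), (11, 0), (11, 0)),
  ((0, 7), (0, 9), (0, 9), (0, 7)),
  ((0, 7), (0, 7), (0, 6), (0, 7)),
  ((0, 0), (1, 0), (12, 0), (0, 0)),
  ((3, 0), (11, 0), (10, 0), (11, 0)),
  ((0, 9), (0, 4), (0, 4), (0, 4)),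
  ((3, 0), (2, 0), (3, 0), (11, 0)),
  ((0, 0), (5, 0), (5, 0), (0, 0)),
  ((0, 9), (0, 6), (0, 7), (0, 4)),
  ((0, 0), (0, 3), (0, 2), (0, 0))]

/-- An explicit list of 24 encoded matrices. -/
def L1 : List Spectrum.MN := [((1, 0), (0, 0), (0, 0), (1, 0)),
  ((3, 0), (10, 0), (11, 0), (11, 0)),
  ((3, 0), (11, 0), (10, 0), (11, 0)),
  ((3, 0), (3, 0), (2, 0), (11, 0)),
  ((3, 0), (2, 0), (3, 0), (11, 0)),
  ((5, 0), (0, 0), (0, 0), (8, 0)),
  ((11, 0), (3, 0), (2, 0), (3, 0)),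
  ((0, 0), (5, 0), (5, 0), (0, 0)),
  ((0, 0), (1, 0), (12, 0), (0, 0)),
  ((2, 0), (3, 0), (2, 0), (10, 0)),
  ((0, 0), (8, 0), (8, 0), (0, 0)),
  ((0, 0), (12, 0), (1, 0), (0, 0)),
  ((12, 0), (0, 0), (0, 0), (12, 0)),
  ((11, 0), (2, 0), (3, 0), (3, 0)),
  ((2, 0), (10, 0), (11, 0), (10, 0)),
  ((2, 0), (11, 0), (10, 0), (10, 0)),
  ((10, 0), (2, 0), (3, 0), (2, 0)),
  ((10, 0), (3, 0), (2, 0), (2, 0)),
  ((11, 0), (11, 0), (10, 0), (3, 0)),
  ((2, 0), (2, 0), (3, 0), (10, 0)),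
  ((10, 0), (11, 0), (10, 0), (2, 0)),
  ((8, 0), (0, 0), (0, 0), (5, 0)),
  ((10, 0), (10, 0), (11, 0), (2, 0)),
  ((11, 0), (10, 0), (11, 0), (3, 0))]

/-- An explicit list of 8 encoded matrices. -/
def L2 : List Spectrum.MN := [((1, 0), (0, 0), (0, 0), (1, 0)),
  ((0, 0), (12, 0), (1, 0), (0, 0)),
  ((0, 0), (8, 0), (8, 0), (0, 0)),
  ((5, 0), (0, 0), (0, 0), (8, 0)),
  ((0, 0), (1, 0), (12, 0), (0, 0)),
  ((0, 0), (5, 0), (5, 0), (0, 0)),
  ((12, 0), (0, 0), (0, 0), (12, 0)),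
  ((8, 0), (0, 0), (0, 0), (5, 0))]

/-- An explicit list of 2 encoded matrices. -/
def L3 : List Spectrum.MN := [((1, 0), (0, 0), (0, 0), (1, 0)),
  ((12, 0), (0, 0), (0, 0), (12, 0))]

/-- An explicit list of 1 encoded matrices. -/
def L4 : List Spectrum.MN := [((1, 0), (0, 0), (0, 0), (1, 0))]

lemma chain_ok : Spectrum.chainOK 13 2 [L0, L1, L2, L3, L4] = true := by decide +kernel

lemma top_ok : Spectrum.topOK 13 2 L0 [6, 8] = true := by decide +kernel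

lemma witness : ∃ (H : Type) (_ : Group H) (_ : Fintype H), Group.IsSolvable H ∧
    Set.range (orderOf : H → ℕ) = {d | ∃ k ∈ insert 13 ([6, 8] : List ℕ).toFinset, d ∣ k} :=
  have : Fact (Nat.Prime 13) := ⟨by norm_num⟩
  Spectrum.exists_quad_witness 13 2 L0 [L1, L2, L3, L4] [6, 8] chain_ok top_ok


local notation "S" => Matrix.SpecialLinearGroup (Fin 3) (ZMod 3)

lemma cube_eq_one : ∀ z : ZMod 3, z ^ 3 = 1 → z = 1 := by decide +kernel

lemma killed (M : S) : ∃ k ∈ ({13, 6, 8} : Finset ℕ), M ^ k = 1 := by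
  have h : ∀ a b : ZMod 3, ∃ k ∈ ({13, 6, 8} : Finset ℕ), Spectrum.powCoeff a b 1 k = (0, 0, 1) := by
    decide +kernel
  obtain ⟨k, hk, hc⟩ := h (M : Matrix (Fin 3) (Fin 3) (ZMod 3)).trace
    (-(M : Matrix (Fin 3) (Fin 3) (ZMod 3)).adjugate.trace)
  refine ⟨k, hk, Subtype.ext ?_⟩
  rw [Matrix.SpecialLinearGroup.coe_pow, Matrix.SpecialLinearGroup.coe_one]
  exact Spectrum.pow_eq_one_of_powCoeff (by
    have := Spectrum.cayley_hamilton_three (M : Matrix (Fin 3) (Fin 3) (ZMod 3))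
    rwa [M.det_coe] at this) hc

lemma exact_order {k : ℕ} {M : S} (hk : 0 < k)
    (h1 : (M : Matrix (Fin 3) (Fin 3) (ZMod 3)) ^ k = 1)
    (h2 : ∀ m < k, 0 < m → (M : Matrix (Fin 3) (Fin 3) (ZMod 3)) ^ m ≠ 1) : orderOf M = k :=
  Spectrum.orderOf_eq_of_forall hk (Subtype.ext (by
    rw [Matrix.SpecialLinearGroup.coe_pow]; exact h1))
    fun m hm hm0 h => h2 m hm hm0 (by
      rw [← Matrix.SpecialLinearGroup.coe_pow, h, Matrix.SpecialLinearGroup.coe_one])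

lemma spectrum_model : Set.range (orderOf : S → ℕ) = {d | ∃ k ∈ ({13, 6, 8} : Finset ℕ), d ∣ k} := by
  refine Spectrum.range_orderOf_eq_divisors _ killed fun k hk => ?_
  simp only [Finset.mem_insert, Finset.mem_singleton] at hk
  rcases hk with rfl | rfl | rfl
  · exact ⟨by norm_num, ⟨!![0, 0, 1; 1, 0, 1; 0, 1, 0], by decide +kernel⟩,
      exact_order (by norm_num) (by decide +kernel) (by decide +kernel)⟩
  · exact ⟨by norm_num, ⟨!![-1, 1, 0; 0, -1, 0; 0, 0, 1], by decide +kernel⟩,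
      exact_order (by norm_num) (by decide +kernel) (by decide +kernel)⟩
  · exact ⟨by norm_num, ⟨!![0, 1, 0; 1, 1, 0; 0, 0, -1], by decide +kernel⟩,
      exact_order (by norm_num) (by decide +kernel) (by decide +kernel)⟩

/-- There is a finite solvable group with exactly the same set of element orders as the simple group PSL(3,3). -/
theorem result {F : Type*} [Field F] [Fintype F] (hF : Fintype.card F = 3) :
    ∃ (H : Type) (_ : Group H) (_ : Fintype H), Group.IsSolvable H ∧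
      Set.range (orderOf : H → ℕ) = Set.range (orderOf : Matrix.ProjectiveSpecialLinearGroup (Fin 3) F → ℕ) := by
  obtain ⟨H, iH, iF, hs, hsp⟩ := witness
  refine ⟨H, iH, iF, hs, hsp.trans (spectrum_model.symm.trans ?_)⟩
  have : Fact (Nat.Prime 3) := ⟨Nat.prime_three⟩
  have : CharP F 3 := charP_of_card_eq_prime (by simpa [Nat.card_eq_fintype_card] using hF)
  let e : ZMod 3 ≃+* F := ZMod.ringEquivOfPrime F Nat.prime_three hF
  have hc : Subgroup.center (Matrix.SpecialLinearGroup (Fin 3) F) = ⊥ := by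
    rw [Subgroup.eq_bot_iff_forall]
    intro x hx
    obtain ⟨r, hr, he⟩ := Matrix.SpecialLinearGroup.mem_center_iff.1 hx
    simp only [Fintype.card_fin] at hr
    have hr1 : r = 1 := by
      obtain ⟨z, rfl⟩ := e.surjective r
      rw [← map_pow, map_eq_one_iff e e.injective] at hr
      rw [map_eq_one_iff e e.injective]
      exact cube_eq_one z hr
    apply Subtype.ext
    rw [← he, hr1]
    simp
  let f : Matrix.SpecialLinearGroup (Fin 3) (ZMod 3) →* Matrix.SpecialLinearGroup (Fin 3) F :=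
    Matrix.SpecialLinearGroup.map e.toRingHom
  have hf : Function.Bijective f := by
    refine ⟨fun x y h => Subtype.ext ?_, fun y => ⟨Matrix.SpecialLinearGroup.map e.symm.toRingHom y, ?_⟩⟩
    · ext i j
      exact e.injective (congrFun (congrFun (congrArg Subtype.val h) i) j)
    · apply Subtype.ext
      ext i j
      exact e.apply_symm_apply _
  exact Spectrum.range_orderOf_congr ((MulEquiv.ofBijective f hf).trans
    (QuotientGroup.quotientBot.symm.trans (QuotientGroup.quotientMulEquivOfEq hc.symm)))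

end Cfsg.Agent.S3437
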