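import Cfsg.Statements.S3439
import Mathlib
import Cfsg.Agent.Lib.Spectrum.Frobenius
import Cfsg.Agent.Lib.Spectrum.ThreeGroupFiveFour
-- import your own Cfsg.Agent.* helpers here

set_option autoImplicit false
open Cfsg

namespace Cfsg.Agent.S3439

open Cfsg.Agent

/-- Index type of `4 × 4` symplectic matrices. -/
abbrev I4 : Type := Fin 2 ⊕ Fin 2

/-- `X ^ k` reduced modulo `X ^ 4 - a X ^ 3 - b X ^ 2 - a X + 1`. -/
def coeff {S : Type*} [CommRing S] (a b : S) : ℕ → S × S × S × S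
  | 0 => (0, 0, 0, 1)
  | k + 1 => let r := coeff a b k
    (r.1 * a + r.2.1, r.1 * b + r.2.2.1, r.1 * a + r.2.2.2, -r.1)

lemma pow_eq_coeff {S : Type*} [CommRing S] {M : Matrix I4 I4 S} {a b : S}
    (h : M ^ 4 = a • M ^ 3 + b • M ^ 2 + a • M - 1) (k : ℕ) :
    M ^ k = (coeff a b k).1 • M ^ 3 + (coeff a b k).2.1 • M ^ 2 + (coeff a b k).2.2.1 • M
      + (coeff a b k).2.2.2 • 1 := by
  induction k with
  | zero => simp [coeff]
  | succ k ih =>
    rw [pow_succ, ih, add_mul, add_mul, add_mul, smul_mul_assoc, smul_mul_assoc, smul_mul_assoc,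
      smul_mul_assoc, ← pow_succ, ← pow_succ, ← sq, one_mul, h]
    simp only [coeff]
    module

variable {F : Type*} [Field F]

/-- For symplectic `M` the matrix `M + M⁻¹` satisfies a quadratic, so `M` satisfies a palindromic quartic. -/
lemma quartic (M : Matrix.symplecticGroup (Fin 2) F) :
    ∃ a b : F, (M : Matrix I4 I4 F) ^ 4 =
      a • (M : Matrix I4 I4 F) ^ 3 + b • (M : Matrix I4 I4 F) ^ 2 + a • (M : Matrix I4 I4 F) - 1 := by
  set A := (M : Matrix I4 I4 F) with hA
  set N := -(Matrix.J (Fin 2) F * A.transpose * Matrix.J (Fin 2) F) with hN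
  have h1 : A * N = 1 := by
    have h : A * Matrix.J (Fin 2) F * A.transpose = Matrix.J (Fin 2) F :=
      SymplecticGroup.mem_iff.1 M.2
    rw [hN, mul_neg, ← mul_assoc, ← mul_assoc, h, Matrix.J_squared, neg_neg]
  have key : ∀ X : Matrix I4 I4 F, ∃ c : F,
      (X + -(Matrix.J (Fin 2) F * X.transpose * Matrix.J (Fin 2) F)) *
        (X + -(Matrix.J (Fin 2) F * X.transpose * Matrix.J (Fin 2) F)) =
      (X.trace) • (X + -(Matrix.J (Fin 2) F * X.transpose * Matrix.J (Fin 2) F)) - c • 1 := by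
    intro X
    obtain ⟨P, Q, R, S, rfl⟩ : ∃ P Q R S, X = Matrix.fromBlocks P Q R S :=
      ⟨_, _, _, _, (Matrix.fromBlocks_toBlocks X).symm⟩
    refine ⟨(P 0 0 + S 0 0) * (P 1 1 + S 1 1) - (P 0 1 + S 1 0) * (P 1 0 + S 0 1) +
      (Q 0 1 - Q 1 0) * (R 0 1 - R 1 0), ?_⟩
    simp only [Matrix.J, Matrix.fromBlocks_transpose, Matrix.fromBlocks_multiply, Matrix.fromBlocks_neg,
      Matrix.fromBlocks_add, zero_mul, one_mul, neg_mul, mul_zero, mul_one, mul_neg, zero_add, add_zero,
      neg_neg, neg_zero]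
    rw [← Matrix.fromBlocks_one, Matrix.fromBlocks_smul, Matrix.fromBlocks_smul]
    ext (i | i) (j | j) <;> fin_cases i <;> fin_cases j <;>
      simp [Matrix.trace, Fintype.sum_sum_type, Matrix.mul_apply, Fin.sum_univ_two] <;> ring
  obtain ⟨c, hc⟩ := key A
  rw [← hN] at hc
  have h2 : N * A = 1 := mul_eq_one_comm.1 h1
  have h := congrArg (fun Z => A * A * Z) hc
  simp only [add_mul, mul_add, mul_sub, Matrix.mul_smul, mul_one] at h
  have e1 : A * A * (A * A) = A ^ 4 := by simp [pow_succ, mul_assoc]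
  have e2 : A * A * (N * A) = A ^ 2 := by rw [h2, mul_one, sq]
  have e3 : A * A * (A * N) = A ^ 2 := by rw [h1, mul_one, sq]
  have e4 : A * A * (N * N) = 1 := by rw [mul_assoc, ← mul_assoc A N, h1, one_mul, h1]
  have e5 : A * A * A = A ^ 3 := by simp [pow_succ]
  have e6 : A * A * N = A := by rw [mul_assoc, h1, mul_one]
  rw [e1, e2, e3, e4, e5, e6, ← sq] at h
  refine ⟨A.trace, -c - 2, ?_⟩
  linear_combination (norm := module) h

variable [Fintype F]

lemma table : ∀ a b : ZMod 3, ∃ k ∈ ({5, 9, 12} : Finset ℕ), (coeff a b k).1 = 0 ∧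
    (coeff a b k).2.1 = 0 ∧ (coeff a b k).2.2.1 = 0 := by decide +kernel

lemma coeff_map {S T : Type*} [CommRing S] [CommRing T] (e : S →+* T) (a b : S) (n : ℕ) :
    coeff (e a) (e b) n =
      (e (coeff a b n).1, e (coeff a b n).2.1, e (coeff a b n).2.2.1, e (coeff a b n).2.2.2) := by
  induction n with
  | zero => simp [coeff]
  | succ n ih => simp [coeff, ih]

lemma killed (hF : Fintype.card F = 3) (x : PSp 2 F) :
    ∃ k ∈ ({5, 9, 12} : Finset ℕ), x ^ k = 1 := by
  obtain ⟨M, rfl⟩ := QuotientGroup.mk'_surjective _ x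
  obtain ⟨a, b, h⟩ := quartic M
  let e : ZMod 3 ≃+* F := ZMod.ringEquivOfPrime F Nat.prime_three hF
  obtain ⟨α, rfl⟩ := e.surjective a
  obtain ⟨β, rfl⟩ := e.surjective b
  obtain ⟨k, hk, h1, h2, h3⟩ := table α β
  refine ⟨k, hk, ?_⟩
  have hk' := pow_eq_coeff h k
  rw [show e α = e.toRingHom α from rfl, show e β = e.toRingHom β from rfl, coeff_map, h1, h2, h3] at hk'
  simp only [map_zero, zero_smul, zero_add] at hk'
  rw [← map_pow, QuotientGroup.mk'_apply, QuotientGroup.eq_one_iff, Subgroup.mem_center_iff]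
  intro g
  apply Subtype.ext
  rw [Submonoid.coe_mul, Submonoid.coe_mul, SubmonoidClass.coe_pow, hk', Matrix.mul_smul,
    Matrix.smul_mul, mul_one, one_mul]

lemma exists_order (hF : Fintype.card F = 3) (A B : Matrix I4 I4 (ZMod 3))
    (hA : A * Matrix.J (Fin 2) (ZMod 3) * A.transpose = Matrix.J (Fin 2) (ZMod 3))
    (hB : B * Matrix.J (Fin 2) (ZMod 3) * B.transpose = Matrix.J (Fin 2) (ZMod 3))
    {k : ℕ} (hk : 0 < k) (h1 : A ^ k = 1 ∨ A ^ k = -1)
    (h2 : ∀ m < k, 0 < m → A ^ m * B ≠ B * A ^ m) : ∃ x : PSp 2 F, orderOf x = k := by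
  let e : ZMod 3 →+* F := (ZMod.ringEquivOfPrime F Nat.prime_three hF).toRingHom
  have he : Function.Injective e := (ZMod.ringEquivOfPrime F Nat.prime_three hF).injective
  have hJ : e.mapMatrix (Matrix.J (Fin 2) (ZMod 3)) = Matrix.J (Fin 2) F := by
    ext (i | i) (j | j) <;> simp [Matrix.J, Matrix.one_apply, apply_ite e]
  have mk : ∀ C : Matrix I4 I4 (ZMod 3),
      C * Matrix.J (Fin 2) (ZMod 3) * C.transpose = Matrix.J (Fin 2) (ZMod 3) →
      ∃ x : Matrix.symplecticGroup (Fin 2) F, (x : Matrix I4 I4 F) = e.mapMatrix C := by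
    intro C hC
    refine ⟨⟨e.mapMatrix C, SymplecticGroup.mem_iff.2 ?_⟩, rfl⟩
    have := congrArg e.mapMatrix hC
    rw [map_mul, map_mul, hJ] at this
    simpa [Matrix.transpose_map] using this
  obtain ⟨x, hx⟩ := mk A hA
  obtain ⟨y, hy⟩ := mk B hB
  refine ⟨QuotientGroup.mk' _ x, Spectrum.orderOf_eq_of_forall hk ?_ ?_⟩
  · rw [← map_pow, QuotientGroup.mk'_apply, QuotientGroup.eq_one_iff, Subgroup.mem_center_iff]
    intro g
    apply Subtype.ext
    rw [Submonoid.coe_mul, Submonoid.coe_mul, SubmonoidClass.coe_pow, hx, ← map_pow]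
    rcases h1 with h1 | h1
    · simp [h1]
    · rw [h1, map_neg, map_one]; simp
  · intro m hm hm0 h
    rw [← map_pow, QuotientGroup.mk'_apply, QuotientGroup.eq_one_iff, Subgroup.mem_center_iff] at h
    have h' := congrArg Subtype.val (h y)
    simp only [Submonoid.coe_mul, SubmonoidClass.coe_pow, hx, hy, ← map_pow, ← map_mul] at h'
    exact h2 m hm hm0 ((Matrix.map_injective he h').symm)

lemma spectrum_psp (hF : Fintype.card F = 3) :
    Set.range (orderOf : PSp 2 F → ℕ) = {d | ∃ k ∈ ({5, 9, 12} : Finset ℕ), d ∣ k} := by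
  refine Spectrum.range_orderOf_eq_divisors _ (killed hF) fun k hk => ?_
  simp only [Finset.mem_insert, Finset.mem_singleton] at hk
  rcases hk with rfl | rfl | rfl
  · exact ⟨by norm_num, exists_order hF (Matrix.fromBlocks !![1, 2; 2, 0] !![2, 0; 0, 2] !![1, 0; 0, 1] !![0, 0; 0, 0])
      (Matrix.fromBlocks !![1, 0; 0, 1] !![0, 0; 0, 0] !![0, 0; 0, 2] !![1, 0; 0, 1])
      (by decide +kernel) (by decide +kernel) (by norm_num) (by decide +kernel) (by decide +kernel)⟩
  · exact ⟨by norm_num, exists_order hF (Matrix.fromBlocks !![0, 1; 0, 1] !![0, 0; 2, 0] !![2, 0; 1, 0] !![0, 1; 0, 0])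
      (Matrix.fromBlocks !![1, 0; 0, 1] !![0, 0; 0, 0] !![0, 0; 0, 2] !![1, 0; 0, 1])
      (by decide +kernel) (by decide +kernel) (by norm_num) (by decide +kernel) (by decide +kernel)⟩
  · exact ⟨by norm_num, exists_order hF (Matrix.fromBlocks !![0, 0; 0, 1] !![1, 0; 0, 0] !![2, 0; 0, 1] !![0, 0; 0, 1])
      (Matrix.fromBlocks !![1, 0; 2, 1] !![0, 0; 0, 1] !![2, 0; 0, 0] !![1, 1; 0, 1])
      (by decide +kernel) (by decide +kernel) (by norm_num) (by decide +kernel) (by decide +kernel)⟩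

lemma witness : ∃ (H : Type) (_ : Group H) (_ : Fintype H), Group.IsSolvable H ∧
    Set.range (orderOf : H → ℕ) = {d | ∃ k ∈ ({5, 9, 12} : Finset ℕ), d ∣ k} := by
  have : Fact (Nat.Prime 3) := ⟨Nat.prime_three⟩
  let K := GaloisField 3 4
  let _ : Fintype K := Fintype.ofFinite K
  have hK : Fintype.card K = 81 := by
    rw [← Nat.card_eq_fintype_card, GaloisField.card 3 4 (by norm_num)]
    norm_num
  have : Fact (Nat.Prime 5) := ⟨by norm_num⟩
  obtain ⟨u, hu⟩ := exists_prime_orderOf_dvd_card' (G := Kˣ) 5 (by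
    rw [Nat.card_units, Nat.card_eq_fintype_card, hK]
    norm_num)
  have hz : (u : K) ^ 5 = 1 := by rw [← Units.val_pow_eq_pow_val, ← hu, pow_orderOf_eq_one, Units.val_one]
  have hz1 : (u : K) ≠ 1 := fun e => by
    rw [← Units.val_one, Units.val_inj] at e
    rw [e, orderOf_one] at hu
    norm_num at hu
  open Spectrum.FiveFour in
  exact ⟨H hK hz, inferInstance, Fintype.ofEquiv _ SemidirectProduct.equivProd.symm, solvable hK hz,
    Spectrum.range_orderOf_eq_divisors _ (all_killed hz1) (fun k hk => by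
      simp only [Finset.mem_insert, Finset.mem_singleton] at hk
      rcases hk with rfl | rfl | rfl
      · exact ⟨by norm_num, exists_five⟩
      · exact ⟨by norm_num, exists_nine hz1⟩
      · exact ⟨by norm_num, exists_twelve⟩)⟩

/-- There is a finite solvable group with exactly the same set of element orders as the simple group PSp(4,3). -/
theorem result {F : Type*} [Field F] [Fintype F] (hF : Fintype.card F = 3) :
    ∃ (H : Type) (_ : Group H) (_ : Fintype H), Group.IsSolvable H ∧ Set.range (orderOf : H → ℕ) = Set.range (orderOf : Cfsg.PSp 2 F → ℕ) := by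
  obtain ⟨H, iH, iF, hs, hsp⟩ := witness
  exact ⟨H, iH, iF, hs, hsp.trans (spectrum_psp hF).symm⟩

end Cfsg.Agent.S3439
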