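import Cfsg.Statements.S3443
-- import your own Cfsg.Agent.* helpers here

set_option autoImplicit false
open Cfsg

namespace Cfsg.Agent.S3443

lemma spectrum {G : Type*} [Group G] [Finite G] (V : Subgroup G) [V.Normal] {p : ℕ} (hp : p.Prime)
    (hexp : ∀ x : V, x ^ p = 1) :
    Set.range (orderOf : V ⋊[MulAut.conjNormal] G → ℕ) = Set.range (orderOf : G → ℕ) := by
  apply Set.Subset.antisymm
  · rintro _ ⟨w, rfl⟩
    let φ : V ⋊[MulAut.conjNormal] G →* G :=
      SemidirectProduct.lift V.subtype (MonoidHom.id G) (by
        intro g
        ext x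
        simp [MulAut.conjNormal_apply])
    let e : V ⋊[MulAut.conjNormal] G →* G × G := φ.prod SemidirectProduct.rightHom
    have he : Function.Injective e := by
      intro a b h
      have h1 : φ a = φ b := congrArg Prod.fst h
      have h2 : a.right = b.right := congrArg Prod.snd h
      refine SemidirectProduct.ext ?_ h2
      simp [φ, SemidirectProduct.lift, h2] at h1
      exact h1
    rw [← orderOf_injective e he w, Prod.orderOf]
    change Nat.lcm (orderOf (φ w)) (orderOf w.right) ∈ _
    set u := φ w with hu
    set g := w.right with hg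
    have hv : u * g⁻¹ ∈ V := by
      have : u * g⁻¹ = (w.left : G) := by simp [hu, hg, φ, SemidirectProduct.lift]
      rw [this]
      exact w.left.2
    have hq : (QuotientGroup.mk' V u) = QuotientGroup.mk' V g := by
      rw [← mul_inv_eq_one, ← map_inv, ← map_mul, QuotientGroup.mk'_apply, QuotientGroup.eq_one_iff]
      exact hv
    set r := orderOf (QuotientGroup.mk' V g) with hr
    have key : ∀ x : G, QuotientGroup.mk' V x = QuotientGroup.mk' V g →
        orderOf x = r ∨ orderOf x = r * p := by
      intro x hx
      have hxr : r ∣ orderOf x := by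
        rw [hr, ← hx]
        exact orderOf_map_dvd _ x
      have hxV : x ^ r ∈ V := by
        rw [← QuotientGroup.eq_one_iff, ← QuotientGroup.mk'_apply, map_pow, hx, hr, pow_orderOf_eq_one]
      have h2 : orderOf x ∣ r * p := by
        apply orderOf_dvd_of_pow_eq_one
        rw [pow_mul]
        exact congrArg Subtype.val (hexp ⟨_, hxV⟩)
      obtain ⟨c, hc⟩ := hxr
      have hr0 : 0 < r := orderOf_pos _
      rw [hc, Nat.mul_dvd_mul_iff_left hr0] at h2
      rcases (Nat.dvd_prime hp).1 h2 with rfl | rfl
      · left; simp [hc]
      · right; exact hc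
    rcases key u hq with hu' | hu' <;> rcases key g rfl with hg' | hg'
    · exact ⟨u, by rw [hg', hu', Nat.lcm_self]⟩
    · exact ⟨g, by rw [hg', hu', Nat.lcm_eq_right (dvd_mul_right r p)]⟩
    · exact ⟨u, by rw [hg', hu', Nat.lcm_eq_left (dvd_mul_right r p)]⟩
    · exact ⟨u, by rw [hg', hu', Nat.lcm_self]⟩
  · rintro _ ⟨g, rfl⟩
    exact ⟨SemidirectProduct.inr g, orderOf_injective _ SemidirectProduct.inr_injective g⟩

/-- Let G be a finite group and V a normal elementary abelian subgroup of G (abelian of prime exponent p, possibly trivial). Then the semidirect product V ⋊ G, with G acting on V by conjugation, has exactly the same set of element orders as G. -/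
theorem result {G : Type*} [Group G] [Finite G] (V : Subgroup G) [V.Normal] (p : ℕ) (hp : p.Prime)
    (hcomm : ∀ x y : V, x * y = y * x) (hexp : ∀ x : V, x ^ p = 1) :
    Set.range (orderOf : V ⋊[MulAut.conjNormal] G → ℕ) = Set.range (orderOf : G → ℕ) := by
  exact spectrum V hp hexp

end Cfsg.Agent.S3443
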