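import Cfsg.Statements.S3444
import Mathlib
import Cfsg.Agent.S3443
-- import your own Cfsg.Agent.* helpers here

set_option autoImplicit false
open Cfsg

namespace Cfsg.Agent.S3444

/-- A group has a non-trivial normal subgroup that is abelian of prime exponent. -/
def HasElab (H : Type*) [Group H] : Prop :=
  ∃ (V : Subgroup H) (p : ℕ), V.Normal ∧ V ≠ ⊥ ∧ p.Prime ∧
    (∀ x y : V, x * y = y * x) ∧ ∀ x : V, x ^ p = 1

lemma hasElab_of_solvable {G : Type*} [Group G] [Finite G] (K : Subgroup G) [hKn : K.Normal]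
    (hK : K ≠ ⊥) (hs : Group.IsSolvable K) : HasElab G := by
  classical
  have : Finite (Subgroup G) := Finite.of_injective _ SetLike.coe_injective
  obtain ⟨M, ⟨hMn, hM, hMK⟩, hmin⟩ := Set.Finite.exists_minimal (Set.toFinite _)
    (show ({M : Subgroup G | M.Normal ∧ M ≠ ⊥ ∧ M ≤ K}).Nonempty from ⟨K, hKn, hK, le_rfl⟩)
  have := hMn
  have hcomm : ⁅M, M⁆ = ⊥ := by
    by_contra h
    have h1 : ⁅M, M⁆ = M := le_antisymm (Subgroup.commutator_le_left M M)
      (hmin ⟨inferInstance, h, (Subgroup.commutator_le_left M M).trans hMK⟩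
        (Subgroup.commutator_le_left M M))
    have hM' : M.subgroupOf K ≠ ⊥ := fun e => hM (by
      have := congrArg (Subgroup.map K.subtype) e
      rwa [Subgroup.subgroupOf_map_subtype, inf_eq_left.2 hMK, Subgroup.map_bot] at this)
    refine (IsSolvable.commutator_lt_of_ne_bot hM').ne ?_
    apply Subgroup.map_injective K.subtype_injective
    rw [Subgroup.map_commutator, Subgroup.subgroupOf_map_subtype, inf_eq_left.2 hMK, h1]
  have hc : ∀ x ∈ M, ∀ y ∈ M, x * y = y * x := fun x hx y hy =>
    commutatorElement_eq_one_iff_mul_comm.1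
      (Subgroup.mem_bot.1 (hcomm ▸ Subgroup.commutator_mem_commutator hx hy))
  have h1 : Nat.card M ≠ 1 := fun h => hM (Subgroup.eq_bot_of_card_eq M h)
  obtain ⟨p, hp, hpd⟩ := Nat.exists_prime_and_dvd h1
  have : Fact p.Prime := ⟨hp⟩
  obtain ⟨x, hx⟩ := exists_prime_orderOf_dvd_card' p hpd
  refine ⟨{ carrier := {y | y ∈ M ∧ y ^ p = 1}
            one_mem' := ⟨M.one_mem, one_pow p⟩
            mul_mem' := fun {a b} ha hb => ⟨M.mul_mem ha.1 hb.1, by
              rw [Commute.mul_pow (hc a ha.1 b hb.1), ha.2, hb.2, one_mul]⟩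
            inv_mem' := fun {a} ha => ⟨M.inv_mem ha.1, by rw [inv_pow, ha.2, inv_one]⟩ },
    p, ⟨fun y hy g => ⟨hMn.conj_mem y hy.1 g, by rw [conj_pow, hy.2, mul_one, mul_inv_cancel]⟩⟩,
    ?_, hp, fun a b => Subtype.ext (hc a a.2.1 b b.2.1), fun a => Subtype.ext a.2.2⟩
  intro h
  have hxm : (x : G) ∈ (⊥ : Subgroup G) := by
    rw [← h]
    exact ⟨x.2, by rw [← Subgroup.coe_pow, ← hx, pow_orderOf_eq_one, Subgroup.coe_one]⟩
  rw [Subgroup.mem_bot, OneMemClass.coe_eq_one] at hxm
  rw [hxm, orderOf_one] at hx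
  exact hp.ne_one hx.symm

lemma hasElab_equiv {G H : Type*} [Group G] [Group H] (e : G ≃* H) (h : HasElab G) : HasElab H := by
  obtain ⟨V, p, hn, hne, hp, hc, hexp⟩ := h
  refine ⟨V.map e.toMonoidHom, p, hn.map _ e.surjective, ?_, hp, ?_, ?_⟩
  · rwa [Ne, Subgroup.map_eq_bot_iff_of_injective _ e.injective]
  · rintro ⟨_, a, ha, rfl⟩ ⟨_, b, hb, rfl⟩
    apply Subtype.ext
    change e.toMonoidHom a * e.toMonoidHom b = e.toMonoidHom b * e.toMonoidHom a
    rw [← map_mul, ← map_mul]
    exact congrArg e.toMonoidHom (congrArg Subtype.val (hc ⟨a, ha⟩ ⟨b, hb⟩))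
  · rintro ⟨_, a, ha, rfl⟩
    apply Subtype.ext
    change (e.toMonoidHom a) ^ p = 1
    rw [← map_pow, show a ^ p = 1 from congrArg Subtype.val (hexp ⟨a, ha⟩), map_one]

lemma grow (N : ℕ) : ∀ (G : Type) [Group G] [Fintype G], HasElab G →
    ∃ (H : Type) (_ : Group H) (_ : Fintype H), N < Fintype.card H ∧ HasElab H ∧
      Set.range (orderOf : H → ℕ) = Set.range (orderOf : G → ℕ) := by
  classical
  induction N with
  | zero => exact fun G _ _ h => ⟨G, ‹_›, ‹_›, Fintype.card_pos, h, rfl⟩
  | succ N ih =>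
    intro G _ _ hG
    obtain ⟨H, _, _, hN, hH, hsp⟩ := ih G hG
    obtain ⟨V, p, hn, hne, hp, hc, hexp⟩ := hH
    let L := V ⋊[MulAut.conjNormal] H
    have : Fintype L := Fintype.ofEquiv _ SemidirectProduct.equivProd.symm
    refine ⟨L, inferInstance, ‹_›, ?_, ?_, ?_⟩
    · have h2 : 2 ≤ Nat.card V :=
        Finite.one_lt_card_iff_nontrivial.2 ((Subgroup.nontrivial_iff_ne_bot V).2 hne)
      rw [← Nat.card_eq_fintype_card, Nat.card_congr SemidirectProduct.equivProd, Nat.card_prod,
        Nat.card_eq_fintype_card (α := H)]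
      have := Nat.mul_le_mul_right (Fintype.card H) h2
      omega
    · refine ⟨(SemidirectProduct.inl : V →* L).range, p, ?_, ?_, hp, ?_, ?_⟩
      · rw [SemidirectProduct.range_inl_eq_ker_rightHom]
        infer_instance
      · rw [Ne, MonoidHom.range_eq_bot_iff]
        intro h
        refine hne ((Subgroup.eq_bot_iff_forall V).2 fun v hv => ?_)
        have := DFunLike.congr_fun h ⟨v, hv⟩
        exact congrArg Subtype.val (SemidirectProduct.inl_injective (this.trans (map_one _).symm))
      · rintro ⟨_, a, rfl⟩ ⟨_, b, rfl⟩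
        apply Subtype.ext
        change SemidirectProduct.inl a * SemidirectProduct.inl b = _ * _
        rw [← map_mul, hc, map_mul]
      · rintro ⟨_, a, rfl⟩
        apply Subtype.ext
        change (SemidirectProduct.inl a : L) ^ p = 1
        rw [← map_pow, hexp, map_one]
    · rw [← hsp]
      exact S3443.spectrum V hp hexp

/-- A finite group with a non-trivial solvable normal subgroup is not determined by its set of element orders, not even up to finitely many possibilities: for every bound N there is a finite group of order greater than N with exactly the same set of element orders. -/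
theorem result {G : Type*} [Group G] [Finite G] (K : Subgroup G) [K.Normal] (hK : K ≠ ⊥)
    (hs : Group.IsSolvable K) (N : ℕ) :
    ∃ (H : Type) (_ : Group H) (_ : Fintype H), N < Fintype.card H ∧ Set.range (orderOf : H → ℕ) = Set.range (orderOf : G → ℕ) := by
  have : Small.{0} G := small_of_injective (Finite.equivFin G).injective
  let me : Shrink.{0} G ≃* G := Shrink.mulEquiv
  have : Fintype (Shrink.{0} G) := Fintype.ofEquiv (Fin (Nat.card G)) ((Finite.equivFin G).symm.trans (equivShrink G))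
  obtain ⟨H, iH, iF, hN, -, hsp⟩ :=
    grow N (Shrink.{0} G) (hasElab_equiv me.symm (hasElab_of_solvable K hK hs))
  refine ⟨H, iH, iF, hN, hsp.trans ?_⟩
  ext n
  constructor
  · rintro ⟨x, rfl⟩
    exact ⟨me x, me.orderOf_eq x⟩
  · rintro ⟨x, rfl⟩
    exact ⟨me.symm x, me.symm.orderOf_eq x⟩

end Cfsg.Agent.S3444
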