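import Cfsg.Statements.S3448
-- import your own Cfsg.Agent.* helpers here

set_option autoImplicit false
open Cfsg

namespace Cfsg.Agent.S3448

local notation "A5" => alternatingGroup (Fin 5)

lemma orders (x : A5) : orderOf x = 1 ∨ orderOf x = 2 ∨ orderOf x = 3 ∨ orderOf x = 5 := by
  have h : ∀ x : A5, x ^ 2 = 1 ∨ x ^ 3 = 1 ∨ x ^ 5 = 1 := by decide +kernel
  rcases h x with h | h | h
  · rcases (Nat.dvd_prime Nat.prime_two).1 (orderOf_dvd_of_pow_eq_one h) with e | e <;> simp [e]
  · rcases (Nat.dvd_prime Nat.prime_three).1 (orderOf_dvd_of_pow_eq_one h) with e | e <;> simp [e]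
  · rcases (Nat.dvd_prime Nat.prime_five).1 (orderOf_dvd_of_pow_eq_one h) with e | e <;> simp [e]

lemma exists_order {p : ℕ} (hp : p.Prime) (h : p ∣ 60) : ∃ x : A5, orderOf x = p := by
  have : Fact p.Prime := ⟨hp⟩
  refine exists_prime_orderOf_dvd_card' p ?_
  have : Nat.card A5 = 60 := by rw [Nat.card_eq_fintype_card]; decide +kernel
  rwa [this]

/-- The set of element orders of the direct product of two copies of the alternating group of degree 5 is {1, 2, 3, 5, 6, 10, 15}. (It is shared by the direct product of two Frobenius groups of orders 50 and 75, so this direct product is not determined by its element orders.) -/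
theorem result : Set.range (orderOf : alternatingGroup (Fin 5) × alternatingGroup (Fin 5) → ℕ) = {1, 2, 3, 5, 6, 10, 15} := by
  ext n
  simp only [Set.mem_range, Set.mem_insert_iff, Set.mem_singleton_iff]
  constructor
  · rintro ⟨⟨x, y⟩, rfl⟩
    rw [Prod.orderOf]
    rcases orders x with h | h | h | h <;> rcases orders y with h' | h' | h' | h' <;>
      simp [h, h'] <;> norm_num
  · obtain ⟨a, ha⟩ := exists_order Nat.prime_two (by norm_num)
    obtain ⟨b, hb⟩ := exists_order Nat.prime_three (by norm_num)
    obtain ⟨c, hc⟩ := exists_order Nat.prime_five (by norm_num)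
    rintro (rfl | rfl | rfl | rfl | rfl | rfl | rfl)
    · exact ⟨1, orderOf_one⟩
    · exact ⟨(a, 1), by simp [Prod.orderOf, ha]⟩
    · exact ⟨(b, 1), by simp [Prod.orderOf, hb]⟩
    · exact ⟨(c, 1), by simp [Prod.orderOf, hc]⟩
    · exact ⟨(a, b), by simp [Prod.orderOf, ha, hb]; rfl⟩
    · exact ⟨(a, c), by simp [Prod.orderOf, ha, hc]; rfl⟩
    · exact ⟨(b, c), by simp [Prod.orderOf, hb, hc]; rfl⟩

end Cfsg.Agent.S3448
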