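import Cfsg.Statements.S3449
-- import your own Cfsg.Agent.* helpers here

set_option autoImplicit false
open Cfsg

namespace Cfsg.Agent.S3449

local notation "A5" => alternatingGroup (Fin 5)

lemma orders (x : A5) : orderOf x = 1 ∨ orderOf x = 2 ∨ orderOf x = 3 ∨ orderOf x = 5 := by
  have h : ∀ x : A5, x ^ 2 = 1 ∨ x ^ 3 = 1 ∨ x ^ 5 = 1 := by decide +kernel
  rcases h x with h | h | h
  · rcases (Nat.dvd_prime Nat.prime_two).1 (orderOf_dvd_of_pow_eq_one h) with e | e <;> simp [e]
  · rcases (Nat.dvd_prime Nat.prime_three).1 (orderOf_dvd_of_pow_eq_one h) with e | e <;> simp [e]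
  · rcases (Nat.dvd_prime Nat.prime_five).1 (orderOf_dvd_of_pow_eq_one h) with e | e <;> simp [e]

lemma exists_order {p : ℕ} (hp : p.Prime) (h : p ∣ 60) : ∃ x : A5, orderOf x = p := by
  have : Fact p.Prime := ⟨hp⟩
  refine exists_prime_orderOf_dvd_card' p ?_
  have : Nat.card A5 = 60 := by rw [Nat.card_eq_fintype_card]; decide +kernel
  rwa [this]

/-- The direct product of three copies of the alternating group of degree 5 has exactly the same set of element orders as the cyclic group of order 30, namely the divisors of 30; in particular a direct power of a non-abelian simple group need not be determined by its element orders. -/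
theorem result : Set.range (orderOf : alternatingGroup (Fin 5) × alternatingGroup (Fin 5) × alternatingGroup (Fin 5) → ℕ) =
      Set.range (orderOf : Multiplicative (ZMod 30) → ℕ) := by
  ext n
  simp only [Set.mem_range]
  constructor
  · rintro ⟨⟨x, y, z⟩, rfl⟩
    have h30 : ∀ w : A5, orderOf w ∣ 30 := fun w => by
      rcases orders w with h | h | h | h <;> rw [h] <;> norm_num
    have h : orderOf (x, y, z) ∣ 30 := by
      rw [Prod.orderOf, Prod.orderOf]
      exact Nat.lcm_dvd (h30 x) (Nat.lcm_dvd (h30 y) (h30 z))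
    refine ⟨Multiplicative.ofAdd ((30 / orderOf (x, y, z) : ℕ) : ZMod 30), ?_⟩
    rw [orderOf_ofAdd_eq_addOrderOf, ZMod.addOrderOf_coe _ (by norm_num),
      Nat.gcd_eq_right (Nat.div_dvd_of_dvd h), Nat.div_div_self h (by norm_num)]
  · rintro ⟨x, rfl⟩
    have h : orderOf x ∣ 30 := by
      have := orderOf_dvd_natCard (G := Multiplicative (ZMod 30)) x
      simpa using this
    obtain ⟨a, ha⟩ := exists_order Nat.prime_two (by norm_num)
    obtain ⟨b, hb⟩ := exists_order Nat.prime_three (by norm_num)
    obtain ⟨c, hc⟩ := exists_order Nat.prime_five (by norm_num)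
    have hm : orderOf (a, b, c) = 30 := by simp [Prod.orderOf, ha, hb, hc]; rfl
    refine ⟨(a, b, c) ^ (30 / orderOf x), ?_⟩
    rw [orderOf_pow, hm, Nat.gcd_eq_right (Nat.div_dvd_of_dvd h), Nat.div_div_self h (by norm_num)]

end Cfsg.Agent.S3449
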