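import Cfsg.Statements.S3452
import Cfsg.Agent.Lib.Spectrum.PGL2Orders
import Cfsg.Agent.Lib.Spectrum.PGL2Witness
import Cfsg.Agent.Lib.CharInt.Burnside
import Cfsg.Agent.S3444

set_option autoImplicit false
open Cfsg

namespace Cfsg.Agent.S3452

/-- `PGL₂` over fields with two or three elements is solvable. -/
theorem isSolvable_small {F : Type*} [Field F] [Fintype F] (h : Fintype.card F ≤ 3) :
    Group.IsSolvable (Matrix.GeneralLinearGroup (Fin 2) F ⧸
      Subgroup.center (Matrix.GeneralLinearGroup (Fin 2) F)) := by
  classical
  have : Group.IsSolvable (Matrix.GeneralLinearGroup (Fin 2) F) := by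
    have hq := Fintype.one_lt_card (α := F)
    have hc := Matrix.card_GL_field (𝔽 := F) 2
    rw [Fin.prod_univ_two] at hc
    rcases (show Fintype.card F = 2 ∨ Fintype.card F = 3 by omega) with h2 | h2 <;>
      rw [h2] at hc
    · exact CharInt.isSolvable_of_card_eq (p := 2) (q := 3) (a := 1) (b := 1) Nat.prime_two
        Nat.prime_three (by rw [hc]; norm_num)
    · exact CharInt.isSolvable_of_card_eq (p := 2) (q := 3) (a := 4) (b := 1) Nat.prime_two
        Nat.prime_three (by rw [hc]; norm_num)
  exact Group.isSolvable_of_surjective (QuotientGroup.mk'_surjective _)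

/-- For F a finite field whose number of elements is a prime or equals 9, the group PGL(2,F) = GL(2,F)/Z(GL(2,F)) is not determined by its set of element orders: for every bound N there is a finite group of order greater than N with exactly the same set of element orders as PGL(2,F). -/
theorem result {F : Type*} [Field F] [Fintype F] (hF : (Fintype.card F).Prime ∨ Fintype.card F = 9) (N : ℕ) :
    ∃ (H : Type) (_ : Group H) (_ : Fintype H), N < Fintype.card H ∧
      Set.range (orderOf : H → ℕ) = Set.range (orderOf : Matrix.GeneralLinearGroup (Fin 2) F ⧸ Subgroup.center (Matrix.GeneralLinearGroup (Fin 2) F) → ℕ) := by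
  classical
  have key : ∀ r : ℕ, r.Prime → ∀ k, Fintype.card F = r ^ k → CharP F r := by
    intro r hr k hk
    obtain ⟨p, hp⟩ := CharP.exists F
    have hpp := CharP.char_is_prime F p
    have hd : p ∣ r ^ k := by
      rw [← hk, ← CharP.cast_eq_zero_iff F p]
      exact Nat.cast_card_eq_zero F
    have := (Nat.prime_dvd_prime_iff_eq hpp hr).1 (hpp.dvd_of_dvd_pow hd)
    subst this
    exact hp
  rcases hF with hp | h9
  · rcases le_or_gt 5 (Fintype.card F) with h5 | h5
    · have := Fact.mk hp
      have := key _ hp 1 (pow_one _).symm
      rw [Spectrum.range_orderOf_pgl_two (Fintype.card F) (by omega)]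
      exact Spectrum.exists_large_pgl_two_prime h5 N
    · have h3 : Fintype.card F ≤ 3 := by
        rcases lt_or_ge (Fintype.card F) 4 with h | h
        · omega
        · have h4 : Fintype.card F = 4 := by omega
          rw [h4] at hp
          norm_num at hp
      have := isSolvable_small h3
      have : Nontrivial (Matrix.GeneralLinearGroup (Fin 2) F ⧸
          Subgroup.center (Matrix.GeneralLinearGroup (Fin 2) F)) := by
        refine nontrivial_of_ne
          (QuotientGroup.mk (Matrix.GeneralLinearGroup.mkOfDetNeZero !![1, 1; 0, 1] (by simp))) 1 ?_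
        intro h
        obtain ⟨c, hc⟩ := (Spectrum.pgl_two_pow_eq_one_iff _ 1).1 (by rw [pow_one]; exact h)
        rw [pow_one] at hc
        have := congrFun (congrFun hc 0) 1
        simp at this
      exact S3444.result ⊤ top_ne_bot inferInstance N
  · have : Fact (Nat.Prime 3) := ⟨Nat.prime_three⟩
    have := key 3 Nat.prime_three 2 (by rw [h9]; norm_num)
    rw [Spectrum.range_orderOf_pgl_two 3 (by omega), h9]
    exact Spectrum.PGLNine.exists_large_pgl_two_nine N

end Cfsg.Agent.S3452
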