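import Cfsg.Statements.S3466
import Cfsg.Agent.Lib.Spectrum.SympWitness
import Cfsg.Agent.Lib.Spectrum.PSpFourThree
import Cfsg.Agent.Lib.Spectrum.PSpFourS5

set_option autoImplicit false
open Cfsg

namespace Cfsg.Agent.S3466

/-- Let F be a finite field with q ≥ 3 elements such that q is not of the form 3^(2t+1) with t ≥ 1. Then PSp(4,F) is not determined by its set of element orders, not even up to finitely many groups: for every bound N there is a finite group of order greater than N with exactly the same set of element orders as PSp(4,F). -/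
theorem result {F : Type*} [Field F] [Fintype F] (h3 : 3 ≤ Fintype.card F) (hq : ∀ t : ℕ, 1 ≤ t → Fintype.card F ≠ 3 ^ (2 * t + 1)) (N : ℕ) :
    ∃ (H : Type) (_ : Group H) (_ : Fintype H), N < Fintype.card H ∧ Set.range (orderOf : H → ℕ) = Set.range (orderOf : Cfsg.PSp 2 F → ℕ) := by
  obtain ⟨p, hp⟩ := CharP.exists F
  have : Fact p.Prime := ⟨CharP.char_is_prime F p⟩
  obtain ⟨n, -, hn⟩ := FiniteField.card F p
  rcases eq_or_ne p 2 with rfl | hp2
  · exact Agent.Spectrum.SympWitness.exists_large (Or.inl rfl) (Or.inl (by omega)) N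
  rw [Agent.Spectrum.PSpFour.range_orderOf_psp (F := F) p hp2, hn]
  let K := GaloisField p ((n : ℕ) * 2)
  let _ : Fintype K := Fintype.ofFinite K
  have hK : Fintype.card K = (p ^ (n : ℕ)) ^ 2 := by
    rw [Fintype.card_eq_nat_card, GaloisField.card p _ (by simp), pow_mul]
  by_cases hp5 : 5 ≤ p
  · exact Agent.Spectrum.PSpFour.Big.exists_large p hK (AlgebraicClosure K) (algebraMap K _) hp5 n.pos N
  have hp3 : p = 3 := by
    have h2 := (Fact.out : p.Prime).two_le
    have h4 : p ≠ 4 := fun h => absurd (h ▸ (Fact.out : p.Prime)) (by norm_num)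
    omega
  subst hp3
  rcases Nat.even_or_odd' (n : ℕ) with ⟨t, ht | ht⟩
  · exact Agent.Spectrum.PSpFour.Three.exists_large (n : ℕ) hK (AlgebraicClosure K) (algebraMap K _)
      (ht ▸ even_two_mul t) n.pos N
  · rcases Nat.eq_zero_or_pos t with rfl | ht0
    · rw [ht]
      exact Agent.Spectrum.PSpFour.Five.exists_large N
    · exact absurd (hn.trans (by rw [ht])) (hq t ht0)

end Cfsg.Agent.S3466
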