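import Cfsg.Statements.S3485
import Cfsg.Agent.Lib.HallJanko.Spectrum
import Cfsg.Agent.Lib.Spectrum.Basic

set_option autoImplicit false
open Cfsg

namespace Cfsg.Agent.S3485

/-- The element orders of the symmetric group on eight points. -/
theorem range_orderOf_perm_eight :
    Set.range (orderOf : Equiv.Perm (Fin 8) → ℕ) = {n | n ∈ [1, 2, 3, 4, 5, 6, 7, 8, 10, 12, 15]} := by
  refine Spectrum.range_orderOf_eq _ (fun σ => ?_) fun n hn => ?_
  · have h2 : ∀ a ∈ σ.cycleType, 2 ≤ a := fun a ha => Equiv.Perm.two_le_of_mem_cycleType ha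
    have hsum : σ.cycleType.sum ≤ 8 := by
      rw [Equiv.Perm.sum_cycleType]
      exact le_trans (Finset.card_le_univ _) (by simp)
    have hcard : Multiset.card σ.cycleType * 2 ≤ σ.cycleType.sum := by
      simpa [smul_eq_mul] using Multiset.card_nsmul_le_sum h2
    have hS : ((Spectrum.reach 4 8).all fun x => [1, 2, 3, 4, 5, 6, 7, 8, 10, 12, 15].contains x.1) = true := by
      decide +kernel
    have h := List.all_eq_true.mp hS _ (Spectrum.mem_reach 4 8 _ h2 hsum (by omega))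
    simpa [Equiv.Perm.lcm_cycleType] using h
  · let L : List (Equiv.Perm (Fin 8) × ℕ) := [(c[0, 1, 2, 3, 4, 5, 6], 7), (c[0, 1, 2, 3, 4, 5, 6, 7], 8),
      (c[0, 1, 2, 3, 4] * c[5, 6], 10), (c[0, 1, 2, 3] * c[4, 5, 6], 12), (c[0, 1, 2, 3, 4] * c[5, 6, 7], 15)]
    refine Spectrum.exists_orderOf_of_dvd (L.map Prod.snd) (by decide) (fun m hm => ?_) ?_
    · have : ∀ b ∈ L, b.1 ^ b.2 = 1 ∧ 0 < b.2 ∧ b.2 ≤ 15 ∧
          ∀ k : Fin 15, 0 < (k : ℕ) → (k : ℕ) < b.2 → b.1 ^ (k : ℕ) ≠ 1 := by decide +kernel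
      obtain ⟨⟨σ, N⟩, hσ, rfl⟩ := List.mem_map.1 hm
      obtain ⟨h1, h0, h15, hne⟩ := this _ hσ
      exact ⟨σ, (orderOf_eq_iff h0).2 ⟨h1, fun k hk hk0 => hne ⟨k, by simp only at h15 hk; omega⟩ hk0 hk⟩⟩
    · have : ∀ n ∈ [1, 2, 3, 4, 5, 6, 7, 8, 10, 12, 15], ∃ m ∈ [7, 8, 10, 12, 15], n ∣ m := by decide
      exact this n hn

/-- The symmetric group of degree 8 and the Hall–Janko sporadic group J₂ have exactly the same set of element orders (namely 1, 2, 3, 4, 5, 6, 7, 8, 10, 12, 15); in particular J₂ is not determined by its element orders. -/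
theorem result : Set.range (orderOf : Equiv.Perm (Fin 8) → ℕ) = Set.range (orderOf : Cfsg.Spor.J2 → ℕ) := by
  rw [range_orderOf_perm_eight, HJ.range_orderOf_J2]

end Cfsg.Agent.S3485
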