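import Cfsg.Statements.S3489
import Cfsg.Agent.Lib.Spectrum.Basic
import Cfsg.Agent.Lib.Spectrum.TwoS5
import Cfsg.Agent.Lib.Spectrum.AlternatingTen

/-!
`H` = fibre power over `Q` of `(V × W) ⋊ Q`, where `Q = 2.S₅⁻ ≤ GL₄(7)` is fixed-point-free on
`V = F₇⁴` and `W` is the `z = -1` part of the regular `F₃ Q`-module.
-/

set_option autoImplicit false
open Cfsg

namespace Cfsg.Agent.S3489
open Spectrum Spectrum.AlternatingTen

abbrev Qt : Type := ↥TwoS5.Q

def zQ : Qt := ⟨TwoS5.z, TwoS5.z_mem⟩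

theorem zQ_mul_self : zQ * zQ = 1 := by
  apply Subtype.ext; apply Units.ext
  simp [zQ, TwoS5.coe_z]

theorem zQ_ne_one : zQ ≠ 1 := fun h => TwoS5.z_ne_one (congrArg Subtype.val h)

theorem zQ_comm (q : Qt) : zQ * q = q * zQ := by
  apply Subtype.ext; apply Units.ext
  simp [zQ, TwoS5.coe_z]

/-- The functions `f : Q → F₃` with `f (z x) = - f x`. -/
def W : AddSubgroup (Qt → ZMod 3) where
  carrier := {f | ∀ x, f (zQ * x) = - f x}
  zero_mem' := by simp
  add_mem' := fun {f g} hf hg x => by simp only [Pi.add_apply, hf x, hg x]; ring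
  neg_mem' := fun {f} hf x => by simp only [Pi.neg_apply, hf x]

abbrev V : Type := Fin 4 → ZMod 7

abbrev M : Type := V × ↥W

def actV (q : Qt) : V ≃+ V where
  toFun v := ((q : TwoS5.M4ˣ) : TwoS5.M4).mulVec v
  invFun v := ((q⁻¹ : Qt) : TwoS5.M4ˣ).val.mulVec v
  left_inv v := by simp [Matrix.mulVec_mulVec]
  right_inv v := by simp [Matrix.mulVec_mulVec]
  map_add' := Matrix.mulVec_add _

def actW (q : Qt) : ↥W ≃+ ↥W where
  toFun f := ⟨fun x => f.1 (q⁻¹ * x), fun x => by
    show f.1 (q⁻¹ * (zQ * x)) = - f.1 (q⁻¹ * x)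
    rw [← mul_assoc, ← zQ_comm, mul_assoc]; exact f.2 _⟩
  invFun f := ⟨fun x => f.1 (q * x), fun x => by
    show f.1 (q * (zQ * x)) = - f.1 (q * x)
    rw [← mul_assoc, ← zQ_comm, mul_assoc]; exact f.2 _⟩
  left_inv f := by apply Subtype.ext; funext x; simp
  right_inv f := by apply Subtype.ext; funext x; simp
  map_add' f g := rfl

def φ : Qt →* MulAut (Multiplicative M) where
  toFun q := AddEquiv.toMultiplicative ((actV q).prodCongr (actW q))
  map_one' := by
    refine MulEquiv.ext fun m => ?_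
    show Multiplicative.ofAdd ((actV 1).prodCongr (actW 1) (Multiplicative.toAdd m)) = m
    refine congrArg Multiplicative.ofAdd (Prod.ext ?_ (Subtype.ext ?_))
    · simp [actV]; rfl
    · funext x; simp [actW]; rfl
  map_mul' p q := by
    refine MulEquiv.ext fun m => ?_
    refine congrArg Multiplicative.ofAdd (Prod.ext ?_ (Subtype.ext ?_))
    · show (((p * q : Qt) : TwoS5.M4ˣ) : TwoS5.M4).mulVec (Multiplicative.toAdd m).1 =
        ((p : TwoS5.M4ˣ) : TwoS5.M4).mulVec
          (((q : TwoS5.M4ˣ) : TwoS5.M4).mulVec (Multiplicative.toAdd m).1)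
      rw [Matrix.mulVec_mulVec, Subgroup.coe_mul, Units.val_mul]
    · funext x
      show (Multiplicative.toAdd m).2.1 ((p * q)⁻¹ * x) =
        (Multiplicative.toAdd m).2.1 (q⁻¹ * (p⁻¹ * x))
      rw [mul_inv_rev, mul_assoc]

abbrev B : Type := Multiplicative M ⋊[φ] Qt

instance finite_B : Finite B := Finite.of_equiv _ SemidirectProduct.equivProd.symm

def vOf (b : B) : V := (Multiplicative.toAdd b.left).1
def wOf (b : B) : Qt → ZMod 3 := (Multiplicative.toAdd b.left).2.1

def mk (v : V) (w : ↥W) (q : Qt) : B := ⟨Multiplicative.ofAdd (v, w), q⟩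

theorem eq_one_iff (b : B) : b = 1 ↔ b.right = 1 ∧ vOf b = 0 ∧ wOf b = 0 := by
  constructor
  · rintro rfl; exact ⟨rfl, rfl, rfl⟩
  · rintro ⟨h1, h2, h3⟩
    refine SemidirectProduct.ext ?_ h1
    exact Multiplicative.toAdd.injective (Prod.ext h2 (Subtype.ext h3))

theorem right_pow (b : B) (n : ℕ) : (b ^ n).right = b.right ^ n :=
  map_pow SemidirectProduct.rightHom b n

theorem vOf_pow (b : B) (n : ℕ) : vOf (b ^ n) =
    (∑ i ∈ Finset.range n, ((b.right : TwoS5.M4ˣ) : TwoS5.M4) ^ i).mulVec (vOf b) := by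
  induction n with
  | zero => simp; rfl
  | succ n ih =>
    rw [Finset.sum_range_succ, Matrix.add_mulVec, ← ih, pow_succ]
    show vOf (b ^ n) + ((((b ^ n).right : Qt) : TwoS5.M4ˣ) : TwoS5.M4).mulVec (vOf b) = _
    rw [right_pow]; simp

theorem wOf_pow (b : B) (n : ℕ) (x : Qt) : wOf (b ^ n) x =
    ∑ i ∈ Finset.range n, wOf b ((b.right ^ i)⁻¹ * x) := by
  induction n with
  | zero => simp; rfl
  | succ n ih =>
    rw [Finset.sum_range_succ, ← ih, pow_succ]
    show wOf (b ^ n) x + wOf b ((b ^ n).right⁻¹ * x) = _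
    rw [right_pow]

theorem spec_right (q : Qt) (hq : q ≠ 1) : ∃ m ∈ [2, 3, 4, 5, 6, 8, 10, 12], q ^ m = 1 ∧
    (∑ t ∈ Finset.range m, ((q : TwoS5.M4ˣ) : TwoS5.M4) ^ t) = 0 ∧
    (m % 2 = 0 → q ^ (m / 2) = zQ) := by
  obtain ⟨m, hm, h1, h2, h3⟩ := TwoS5.spec q.2 (fun h => hq (Subtype.ext h))
  refine ⟨m, hm, ?_, h2, fun he => ?_⟩
  · apply Subtype.ext; apply Units.ext; simpa using h1
  · apply Subtype.ext; apply Units.ext
    simpa [zQ, TwoS5.coe_z] using h3 he

theorem pow_seven_three {b : B} (hb : b.right = 1) : b ^ 21 = 1 := by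
  refine (eq_one_iff _).mpr ⟨by rw [right_pow, hb, one_pow], ?_, ?_⟩
  · rw [vOf_pow, hb]
    simp only [OneMemClass.coe_one, Units.val_one, one_pow, Finset.sum_const, Finset.card_range]
    rw [show ((21 : ℕ) • (1 : TwoS5.M4)) = 0 by decide +kernel, Matrix.zero_mulVec]
  · funext x
    rw [wOf_pow, hb]
    simp only [one_pow, inv_one, one_mul, Finset.sum_const, Finset.card_range, nsmul_eq_mul,
      Pi.zero_apply]
    rw [show ((21 : ℕ) : ZMod 3) = 0 by decide, zero_mul]

theorem coset_exponent (q : Qt) : ∃ N ∈ S, ∀ b : B, b.right = q → b ^ N = 1 := by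
  rcases eq_or_ne q 1 with rfl | hq
  · exact ⟨21, by decide, fun b hb => pow_seven_three hb⟩
  obtain ⟨m, hm, h1, h2, h3⟩ := spec_right q hq
  have hv : ∀ b : B, b.right = q → (b ^ m).right = 1 ∧ vOf (b ^ m) = 0 := fun b hb =>
    ⟨by rw [right_pow, hb, h1], by rw [vOf_pow, hb, h2, Matrix.zero_mulVec]⟩
  rcases Nat.mod_two_eq_zero_or_one m with he | ho
  · refine ⟨m, ?_, fun b hb => (eq_one_iff _).mpr ⟨(hv b hb).1, (hv b hb).2, ?_⟩⟩
    · simp only [List.mem_cons, List.not_mem_nil, or_false] at hm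
      rcases hm with rfl | rfl | rfl | rfl | rfl | rfl | rfl | rfl <;> decide
    · funext x
      rw [wOf_pow, hb, show m = m / 2 + m / 2 by omega, Finset.sum_range_add]
      have key : ∀ i, wOf b ((q ^ (m / 2 + i))⁻¹ * x) = - wOf b ((q ^ i)⁻¹ * x) := fun i => by
        have hz : zQ⁻¹ = zQ := inv_eq_of_mul_eq_one_right zQ_mul_self
        have : (q ^ (m / 2 + i))⁻¹ * x = zQ * ((q ^ i)⁻¹ * x) := by
          rw [pow_add, h3 he, mul_inv_rev, hz, ← zQ_comm, mul_assoc]
        rw [this]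
        exact (Multiplicative.toAdd b.left).2.2 _
      simp [key]
  · refine ⟨m * 3, ?_, fun b hb => ?_⟩
    · simp only [List.mem_cons, List.not_mem_nil, or_false] at hm
      rcases hm with rfl | rfl | rfl | rfl | rfl | rfl | rfl | rfl <;> first | decide | omega
    · rw [pow_mul]
      refine (eq_one_iff _).mpr ⟨by rw [right_pow, (hv b hb).1, one_pow], ?_, ?_⟩
      · rw [vOf_pow, (hv b hb).2, Matrix.mulVec_zero]
      · funext x
        rw [wOf_pow, (hv b hb).1]
        simp only [one_pow, inv_one, one_mul, Finset.sum_const, Finset.card_range, nsmul_eq_mul,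
          Pi.zero_apply]
        rw [show ((3 : ℕ) : ZMod 3) = 0 by decide, zero_mul]

open Classical in
/-- `δ₁ - δ_z`. -/
noncomputable def w0 : ↥W := ⟨fun x => if x = 1 then 1 else if x = zQ then -1 else 0, fun x => by
  have hz : ∀ y : Qt, zQ * y = 1 ↔ y = zQ := fun y =>
    ⟨fun h => by rw [← inv_eq_of_mul_eq_one_right h, inv_eq_of_mul_eq_one_right zQ_mul_self],
     fun h => by rw [h, zQ_mul_self]⟩
  show (if zQ * x = 1 then (1 : ZMod 3) else if zQ * x = zQ then -1 else 0) = _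
  by_cases h1 : x = 1
  · subst h1; simp [zQ_ne_one]
  by_cases h2 : x = zQ
  · subst h2; simp [zQ_mul_self, zQ_ne_one]
  simp [h1, h2, hz]⟩

theorem orderOf_inr (q : Qt) : orderOf (SemidirectProduct.inr q : B) = orderOf q :=
  orderOf_injective _ SemidirectProduct.inr_injective q

theorem orderOf_thrice (q : Qt) (hodd : ¬ 2 ∣ orderOf q) :
    orderOf (mk 0 w0 q) = orderOf q * 3 := by
  set b := mk 0 w0 q with hb
  set m := orderOf q with hm
  have hr : b.right = q := rfl
  have hne : b ^ m ≠ 1 := fun h => by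
    have h1 := congrFun ((eq_one_iff _).mp h).2.2 1
    rw [wOf_pow, Finset.sum_eq_single 0] at h1
    · simp [hb, mk, wOf, w0] at h1
    · intro i hi hi0
      have hi' := Finset.mem_range.mp hi
      have n1 : (q ^ i)⁻¹ * 1 ≠ 1 := fun h => by
        rw [mul_one, inv_eq_one] at h
        exact hi0 (Nat.eq_zero_of_dvd_of_lt (orderOf_dvd_of_pow_eq_one h) hi')
      have n2 : (q ^ i)⁻¹ * 1 ≠ zQ := fun h => by
        rw [mul_one] at h
        have hpow : zQ ^ m = 1 := by
          rw [← h, inv_pow, ← pow_mul, mul_comm, pow_mul, pow_orderOf_eq_one, one_pow, inv_one]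
        obtain ⟨c, hc⟩ : Odd m := by
          rcases Nat.even_or_odd m with he | ho
          · exact absurd (even_iff_two_dvd.mp he) hodd
          · exact ho
        rw [hc, pow_succ, pow_mul, pow_two, zQ_mul_self, one_pow, one_mul] at hpow
        exact zQ_ne_one hpow
      rw [hr]
      show (w0.1 ((q ^ i)⁻¹ * 1)) = 0
      simp only [w0, if_neg n1, if_neg n2]
    · intro h0
      exact absurd (Finset.mem_range.mpr (orderOf_pos q)) h0
  have h3 : b ^ (m * 3) = 1 := by
    rw [pow_mul]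
    refine (eq_one_iff _).mpr ⟨by rw [right_pow, right_pow, hr, pow_orderOf_eq_one, one_pow], ?_, ?_⟩
    · rw [vOf_pow, vOf_pow]
      simp [hb, mk, vOf]
    · funext x
      rw [wOf_pow, right_pow, hr, pow_orderOf_eq_one]
      simp only [one_pow, inv_one, one_mul, Finset.sum_const, Finset.card_range, nsmul_eq_mul,
        Pi.zero_apply]
      rw [show ((3 : ℕ) : ZMod 3) = 0 by decide, zero_mul]
  have hdvd : m ∣ orderOf b := orderOf_map_dvd SemidirectProduct.rightHom b
  obtain ⟨c, hc⟩ := hdvd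
  have h3' := orderOf_dvd_of_pow_eq_one h3
  rw [hc] at h3'
  rcases (Nat.dvd_prime Nat.prime_three).mp
    (Nat.dvd_of_mul_dvd_mul_left (orderOf_pos q) h3') with rfl | rfl
  · exact absurd (by rw [← Nat.mul_one m, ← hc]; exact pow_orderOf_eq_one b) hne
  · exact hc

theorem realised (n : ℕ) (hn : n ∈ S) : ∃ b : B, orderOf b = n := by
  refine exists_orderOf_of_dvd [8, 9, 10, 12, 15, 21] (by decide) ?_ (mem_of_dvd_max hn)
  have hq : ∀ k ∈ [3, 5, 8, 10, 12], ∃ q : Qt, orderOf q = k := fun k hk => by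
    obtain ⟨q, hq, ho⟩ := TwoS5.order_witness k hk
    exact ⟨⟨q, hq⟩, by rw [← orderOf_injective TwoS5.Q.subtype Subtype.val_injective]; exact ho⟩
  intro m hm
  simp only [List.mem_cons, List.not_mem_nil, or_false] at hm
  rcases hm with rfl | rfl | rfl | rfl | rfl | rfl
  · obtain ⟨q, ho⟩ := hq 8 (by decide); exact ⟨_, (orderOf_inr q).trans ho⟩
  · obtain ⟨q, ho⟩ := hq 3 (by decide); exact ⟨_, by rw [orderOf_thrice q (by omega), ho]⟩
  · obtain ⟨q, ho⟩ := hq 10 (by decide); exact ⟨_, (orderOf_inr q).trans ho⟩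
  · obtain ⟨q, ho⟩ := hq 12 (by decide); exact ⟨_, (orderOf_inr q).trans ho⟩
  · obtain ⟨q, ho⟩ := hq 5 (by decide); exact ⟨_, by rw [orderOf_thrice q (by omega), ho]⟩
  · refine ⟨mk (fun _ => 1) w0 1, orderOf_of_pow (by omega) (pow_seven_three rfl) ?_⟩
    intro k hk h0 hd h
    obtain ⟨-, hv, hw⟩ := (eq_one_iff _).mp h
    have hv' := congrFun hv 0
    have hw' := congrFun hw 1
    rw [vOf_pow] at hv'
    rw [wOf_pow] at hw'
    simp [mk, vOf, wOf, w0, Matrix.smul_mulVec] at hv' hw'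
    interval_cases k <;> first | omega | (revert hv'; decide) | (revert hw'; decide)

theorem result (N : ℕ) : ∃ (H : Type) (_ : Group H) (_ : Fintype H), N < Fintype.card H ∧ Set.range (orderOf : H → ℕ) = Set.range (orderOf : alternatingGroup (Fin 10) → ℕ) := by
  rw [range_A10]
  refine exists_large (SemidirectProduct.rightHom : B →* Qt) ⟨mk 0 w0 1, ?_, rfl⟩ S
    (by decide +kernel) coset_exponent realised N
  intro h
  have h' := congrFun ((eq_one_iff _).mp h).2.2 1
  simp [mk, wOf, w0] at h'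

end Cfsg.Agent.S3489
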