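import Cfsg.Statements.S3491
import Cfsg.Agent.Lib.Spectrum.AffineSL2F4

set_option autoImplicit false
open Cfsg

namespace Cfsg.Agent.S3491

/-- The alternating group of degree 6 is not determined by its set of element orders, not even up to finitely many groups: for every bound N there is a finite group of order greater than N with exactly the same set of element orders as the alternating group of degree 6. -/
theorem result (N : ℕ) : ∃ (H : Type) (_ : Group H) (_ : Fintype H), N < Fintype.card H ∧ Set.range (orderOf : H → ℕ) = Set.range (orderOf : alternatingGroup (Fin 6) → ℕ) := by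
  haveI : Fintype (GaloisField 2 2) := Fintype.ofFinite _
  have hF : Fintype.card (GaloisField 2 2) = 4 := by
    rw [← Nat.card_eq_fintype_card, GaloisField.card 2 2 (by decide)]
    norm_num
  rw [Spectrum.AffineSL2F4.range_A6]
  refine Spectrum.exists_large (Spectrum.AffineSL2F4.linearPart (GaloisField 2 2))
    ⟨⟨⟨!![1, 0, 1; 0, 1, 0; 0, 0, 1], by simp [Matrix.det_fin_three]⟩, rfl, rfl, rfl⟩, ?_, ?_⟩
    Spectrum.AffineSL2F4.S (by decide +kernel) (Spectrum.AffineSL2F4.exponent hF)
    (Spectrum.AffineSL2F4.realised hF) N
  · intro h
    simpa using congrArg (fun M : Spectrum.AffineSL2F4.affine (GaloisField 2 2) =>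
      (M.1 : Matrix (Fin 3) (Fin 3) (GaloisField 2 2)) 0 2) h
  · apply Subtype.ext
    show (!![(1 : GaloisField 2 2), 0; 0, 1]) = 1
    exact Matrix.one_fin_two.symm

end Cfsg.Agent.S3491
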