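import Cfsg.Statements.S3493
import Cfsg.Agent.Lib.ExtremelyPrimitive.AlmostSimple
import Cfsg.Agent.Lib.Socle.DerangementClasses

set_option autoImplicit false
open Cfsg

namespace Cfsg.Agent.S3493

/-- An extremely primitive permutation group is of affine type or almost simple. Let a finite group G act faithfully and primitively on a finite set Ω with at least two points, in such a way that every point stabilizer acts primitively on each of its own orbits in Ω (an orbit of size one counts as primitive). Then either G has a non-trivial abelian normal subgroup whose elements other than the identity fix no point (affine type), or G has a non-abelian simple normal subgroup with trivial centralizer (almost simple). -/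
theorem result {G : Type*} [Group G] [Finite G] {Ω : Type*} [Fintype Ω] [MulAction G Ω] [FaithfulSMul G Ω] (hΩ : 2 ≤ Fintype.card Ω) (hprim : MulAction.IsPreprimitive G Ω) (hep : ∀ (α : Ω) (ω : Ω), MulAction.IsPreprimitive (MulAction.stabilizer G α) (MulAction.orbit (MulAction.stabilizer G α) ω)) :
    (∃ N : Subgroup G, N.Normal ∧ N ≠ ⊥ ∧ IsMulCommutative N ∧ ∀ ω : Ω, MulAction.stabilizer N ω = ⊥) ∨ (∃ T : Subgroup G, T.Normal ∧ IsSimpleGroup T ∧ ¬ IsMulCommutative T ∧ Subgroup.centralizer (T : Set G) = ⊥) := by
  haveI := hprim
  haveI : Nontrivial Ω := Fintype.one_lt_card_iff_nontrivial.mp (by omega)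
  haveI : Nontrivial G := by
    obtain ⟨a, b, hab⟩ := exists_pair_ne Ω
    obtain ⟨g, hg⟩ := MulAction.exists_smul_eq G a b
    exact ⟨⟨g, 1, fun e => hab (by rw [← hg, e, one_smul])⟩⟩
  obtain ⟨N, hN, hne, hmin⟩ := Socle.exists_minimal_normal (G := G)
  haveI := hN
  by_cases hab : IsMulCommutative N
  · haveI := hab
    exact Or.inl ⟨N, hN, hne, hab, (Perm.regular_of_abelian_normal (α := Ω) hne).2.1⟩
  right
  obtain ⟨α⟩ := (inferInstance : Nonempty Ω)
  obtain ⟨𝒯, hF⟩ := Socle.exists_factors N hne hmin hab
  obtain ⟨T, hT⟩ := hF.nonempty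
  have hone : ∀ S ∈ 𝒯, S = T := fun S hS => by
    by_contra h
    exact ExtremelyPrimitive.not_two_factors hep α hne hab hF hT hS h
  have hTN : T = N := by
    rw [← hF.sSup_eq]
    exact le_antisymm (le_sSup hT) (sSup_le fun S hS => (hone S hS).le)
  subst hTN
  refine ⟨T, hN, hF.simple T hT, hab, ?_⟩
  by_contra hC
  exact ExtremelyPrimitive.regular_pair_false hep α (hF.simple T hT) hab hC

end Cfsg.Agent.S3493
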