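import Cfsg.Statements.S3495
import Cfsg.Agent.Lib.ExtremelyPrimitive.Basic
import Cfsg.Agent.Lib.Perm.RegularNormal

set_option autoImplicit false
open Cfsg

namespace Cfsg.Agent.S3495

/-- Let a finite group G act faithfully and primitively on a finite set Ω with non-trivial point stabilizers, each acting primitively on every one of its orbits (an extremely primitive group), and suppose G has an elementary abelian normal p-subgroup N acting regularly on Ω (affine type). Then every non-trivial subgroup M of a point stabilizer G_α that is normal in G_α has the same orbits on Ω as G_α, and normalizes no subgroup of N other than 1 and N. -/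
theorem result {G : Type*} [Group G] [Finite G] {Ω : Type*} [Fintype Ω] [MulAction G Ω] [FaithfulSMul G Ω] (hprim : MulAction.IsPreprimitive G Ω) (hH : ∀ α : Ω, MulAction.stabilizer G α ≠ ⊥) (hep : ∀ (α : Ω) (ω : Ω), MulAction.IsPreprimitive (MulAction.stabilizer G α) (MulAction.orbit (MulAction.stabilizer G α) ω))
    (N : Subgroup G) [N.Normal] (hNc : IsMulCommutative N) (p : ℕ) (hp : p.Prime) (hNp : ∀ n ∈ N, n ^ p = 1)
    (hNtr : MulAction.IsPretransitive N Ω) (hNreg : ∀ ω : Ω, MulAction.stabilizer N ω = ⊥) (α : Ω) (M : Subgroup G) (hM : M ≠ ⊥) (hMle : M ≤ MulAction.stabilizer G α)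
    (hMn : MulAction.stabilizer G α ≤ Subgroup.normalizer (M : Set G)) :
    (∀ ω : Ω, MulAction.orbit M ω = MulAction.orbit (MulAction.stabilizer G α) ω) ∧
    (∀ L : Subgroup G, L ≤ N → M ≤ Subgroup.normalizer (L : Set G) → L = ⊥ ∨ L = N) := by
  haveI := hprim
  refine ⟨ExtremelyPrimitive.orbit_eq_of_normal hep hM hMle hMn, fun L hLN hLM => ?_⟩
  rcases eq_or_ne L ⊥ with hL | hL
  · exact Or.inl hL
  right
  haveI := hNc
  haveI := hNtr
  -- the stabiliser normalises L
  have key : ∀ h ∈ MulAction.stabilizer G α, ∀ l ∈ L, h * l * h⁻¹ ∈ L := by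
    intro h hh l hl
    have h1 : h • l • α ∈ MulAction.orbit M (l • α) := by
      rw [ExtremelyPrimitive.orbit_eq_of_normal hep hM hMle hMn]
      exact ⟨⟨h, hh⟩, rfl⟩
    obtain ⟨⟨m, hm⟩, hm'⟩ := h1
    have hml : m * l * m⁻¹ ∈ L := (Subgroup.mem_normalizer_iff.mp (hLM hm) l).mp hl
    have e : (h * l * h⁻¹) • α = (m * l * m⁻¹) • α := by
      rw [Perm.conj_smul_eq hh, Perm.conj_smul_eq (hMle hm)]
      exact hm'.symm
    rw [Perm.eq_of_smul_eq (hNreg α) (‹N.Normal›.conj_mem l (hLN hl) h) (hLN hml) e]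
    exact hml
  haveI : L.Normal := by
    refine ⟨fun l hl g => ?_⟩
    obtain ⟨n, hn, hna⟩ := Perm.isPretransitive_subgroup_iff.1 hNtr α (g • α)
    have hh : n⁻¹ * g ∈ MulAction.stabilizer G α := by
      rw [MulAction.mem_stabilizer_iff, mul_smul, inv_smul_eq_iff, hna]
    have h2 := key _ hh l hl
    have hc := congrArg Subtype.val (mul_comm' (⟨n, hn⟩ : N) ⟨_, hLN h2⟩)
    simp only [Subgroup.coe_mul] at hc
    have : g * l * g⁻¹ = n * (n⁻¹ * g * l * (n⁻¹ * g)⁻¹) * n⁻¹ := by group
    rw [this, hc, mul_inv_cancel_right]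
    exact h2
  haveI : Nonempty Ω := ⟨α⟩
  exact Perm.eq_of_transitive_le_semiregular hLN (Perm.isPretransitive_of_normal hL) hNreg

end Cfsg.Agent.S3495
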