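import Cfsg.Statements.S3496
import Cfsg.Agent.Lib.ExtremelyPrimitive.Fitting
import Cfsg.Agent.Lib.Socle.DerangementClasses

/-!
Solvable extremely primitive groups: the stabiliser is a subgroup `C_q ⋊ C_s` of `ΓL₁(p^d)`.
-/

set_option autoImplicit false
set_option linter.style.haveILetI false
open Cfsg

namespace Cfsg.Agent.S3496

open Subgroup in
/-- An abelian irreducible self-centralising normal subgroup of exponent `q` of a linear group. -/
theorem semilinear {H V : Type*} [Group H] [Finite H] [AddCommGroup V] [Finite V] (p d q : ℕ)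
    [Fact p.Prime] (hcard : Nat.card V = p ^ d) (hd : 1 ≤ d) (hV : ∀ v : V, p • v = 0)
    (τ : H →* AddMonoid.End V) (hτ : Function.Injective τ) (F : Subgroup H) [F.Normal]
    [IsMulCommutative F] (hq : q.Prime) (hexp : ∀ x ∈ F, x ^ q = 1) (hF : F ≠ ⊥)
    (hcent : centralizer (F : Set H) = F)
    (hirr : ∀ L : AddSubgroup V, (∀ t ∈ F, ∀ v ∈ L, τ t v ∈ L) → L = ⊥ ∨ L = ⊤) :
    Nat.card F = q ∧ (∀ i : ℕ, 0 < i → i < d → ¬ q ∣ p ^ i - 1) ∧
      (∃ h : H, (⊤ : Subgroup H) = F ⊔ zpowers h) ∧ Nat.card H ∣ q * d := by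
  classical
  have hp := (Fact.out : p.Prime)
  haveI : Finite (AddMonoid.End V) :=
    Finite.of_injective (fun f : AddMonoid.End V => (⇑f : V → V)) DFunLike.coe_injective
  let s : Set (AddMonoid.End V) := τ '' (F : Set H)
  let A : Subring (AddMonoid.End V) := Subring.closure s
  have hs : ∀ x ∈ s, ∀ y ∈ s, x * y = y * x := by
    rintro _ ⟨a, ha, rfl⟩ _ ⟨b, hb, rfl⟩
    rw [← map_mul, ← map_mul]
    exact congrArg τ (congrArg Subtype.val (mul_comm' (⟨a, ha⟩ : F) ⟨b, hb⟩))
  have hA1 : A ≤ Subring.centralizer s := Subring.closure_le.mpr fun x hx => by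
    rw [SetLike.mem_coe, Subring.mem_centralizer_iff]
    exact fun y hy => hs y hy x hx
  have hA2 : ∀ x ∈ A, ∀ y ∈ A, x * y = y * x := by
    intro x hx
    have : A ≤ Subring.centralizer {x} := Subring.closure_le.mpr fun y hy => by
      rw [SetLike.mem_coe, Subring.mem_centralizer_iff]
      rintro _ rfl
      exact (Subring.mem_centralizer_iff.mp (hA1 hx) y hy).symm
    exact fun y hy => Subring.mem_centralizer_iff.mp (this hy) x rfl
  letI : CommRing A := { (inferInstance : Ring A) with
    mul_comm := fun a b => Subtype.ext (hA2 _ a.2 _ b.2) }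
  have hinjA : ∀ a : A, a ≠ 0 → ∀ v : V, (a : AddMonoid.End V) v = 0 → v = 0 := by
    intro a ha v hv
    let L : AddSubgroup V := (a : AddMonoid.End V).ker
    rcases hirr L (fun t ht w hw => by
      show (a : AddMonoid.End V) (τ t w) = 0
      have h := DFunLike.congr_fun (hA2 a a.2 (τ t) (Subring.subset_closure ⟨t, ht, rfl⟩)) w
      exact h.trans (by
        show τ t ((a : AddMonoid.End V) w) = 0
        rw [show (a : AddMonoid.End V) w = 0 from hw, map_zero])) with h | h
    · exact (AddSubgroup.eq_bot_iff_forall L).mp h v hv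
    · refine absurd (Subtype.ext (DFunLike.ext _ _ fun w => ?_)) ha
      exact AddMonoidHom.mem_ker.mp (h.ge (AddSubgroup.mem_top w) : w ∈ L)
  obtain ⟨v₀, hv₀⟩ : ∃ v : V, v ≠ 0 := by
    haveI : Nontrivial V := Finite.one_lt_card_iff_nontrivial.mp
      (hcard ▸ Nat.one_lt_pow (by omega) hp.one_lt)
    exact exists_ne 0
  let ev : A →+ V :=
    { toFun := fun a => (a : AddMonoid.End V) v₀
      map_zero' := rfl
      map_add' := fun _ _ => rfl }
  have hev : Function.Bijective ev := by
    refine ⟨(injective_iff_map_eq_zero ev).mpr fun a ha => ?_, fun v => ?_⟩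
    · by_contra hne
      exact hv₀ (hinjA a hne v₀ ha)
    · rcases hirr ev.range (fun t ht w hw => by
        obtain ⟨a, rfl⟩ := hw
        exact ⟨⟨τ t, Subring.subset_closure ⟨t, ht, rfl⟩⟩ * a, rfl⟩) with h | h
      · exact absurd ((AddSubgroup.eq_bot_iff_forall _).mp h v₀ ⟨1, rfl⟩) hv₀
      · exact h.ge (AddSubgroup.mem_top v)
  have hAcard : Nat.card A = p ^ d := (Nat.card_congr (Equiv.ofBijective ev hev)).trans hcard
  haveI : Nontrivial A := Finite.one_lt_card_iff_nontrivial.mp
    (hAcard ▸ Nat.one_lt_pow (by omega) hp.one_lt)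
  haveI : NoZeroDivisors A := ⟨fun {a b} hab => by
    by_contra h
    rw [not_or] at h
    refine h.2 (hev.1 (hinjA a h.1 _ ?_ |>.trans (map_zero ev).symm))
    exact congrArg (fun c : A => (c : AddMonoid.End V) v₀) hab⟩
  haveI : IsDomain A := NoZeroDivisors.to_isDomain A
  have hchar : (p : A) = 0 := by
    apply hev.1
    rw [map_zero, ← nsmul_one, map_nsmul]
    exact hV _
  haveI : CharP A p := (CharP.charP_iff_prime_eq_zero hp).mpr hchar
  -- `F` has prime order
  let τA : F →* A :=
    { toFun := fun t => ⟨τ (t : H), Subring.subset_closure ⟨(t : H), t.2, rfl⟩⟩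
      map_one' := Subtype.ext (map_one τ)
      map_mul' := fun a b => Subtype.ext (map_mul τ (a : H) (b : H)) }
  have hτA : Function.Injective τA := fun a b h => Subtype.ext (hτ (congrArg Subtype.val h))
  haveI hcyc : IsCyclic F := isCyclic_of_injective_ringHom τA hτA
  have hFq : Nat.card F = q := by
    obtain ⟨g, hg⟩ := hcyc.exists_ofOrder_eq_natCard
    rcases (Nat.dvd_prime hq).mp
      (orderOf_dvd_of_pow_eq_one (x := g) (Subtype.ext (by simpa using hexp g g.2))) with h | h
    · rw [h] at hg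
      exact absurd (Subgroup.eq_bot_of_card_eq F hg.symm) hF
    · rw [← hg, h]
  letI : Field A := (Finite.isDomain_to_isField A).toField
  refine ⟨hFq, fun i hi0 hid hdvd => ?_, ?_⟩
  · -- small fields cannot act irreducibly
    obtain ⟨k, hk⟩ := hdvd
    have hfix : ∀ a : A, a ^ p ^ i = a := by
      let K : Subring A :=
        { carrier := {a | a ^ p ^ i = a}
          one_mem' := one_pow _
          mul_mem' := fun {a b} ha hb => by
            show (a * b) ^ p ^ i = a * b
            rw [mul_pow, ha, hb]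
          zero_mem' := zero_pow (pow_ne_zero i hp.ne_zero)
          add_mem' := fun {a b} ha hb => by
            show (a + b) ^ p ^ i = a + b
            rw [add_pow_char_pow, ha, hb]
          neg_mem' := fun {a} ha => by
            show (-a) ^ p ^ i = -a
            have h0 : (a + -a) ^ p ^ i = 0 := by rw [add_neg_cancel, zero_pow (pow_ne_zero i hp.ne_zero)]
            rw [add_pow_char_pow, ha] at h0
            exact eq_neg_of_add_eq_zero_right h0 }
      have hle : A ≤ K.map A.subtype := Subring.closure_le.mpr (by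
        rintro _ ⟨t, ht, rfl⟩
        refine ⟨τA ⟨t, ht⟩, ?_, rfl⟩
        show τA ⟨t, ht⟩ ^ p ^ i = τA ⟨t, ht⟩
        rw [← map_pow]
        congr 1
        apply Subtype.ext
        show t ^ p ^ i = t
        have hpi : 1 ≤ p ^ i := Nat.one_le_pow _ _ hp.pos
        rw [show p ^ i = q * k + 1 by omega, pow_succ, pow_mul, hexp t ht, one_pow, one_mul])
      intro a
      obtain ⟨b, hb, hba⟩ := hle a.2
      obtain rfl : b = a := Subtype.ext hba
      exact hb
    haveI := Fintype.ofFinite A
    have hsub : (Finset.univ : Finset A) ⊆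
        (Polynomial.X ^ p ^ i - Polynomial.X : Polynomial A).roots.toFinset := by
      intro a _
      rw [Multiset.mem_toFinset, Polynomial.mem_roots
        (FiniteField.X_pow_card_sub_X_ne_zero A (Nat.one_lt_pow hi0.ne' hp.one_lt))]
      simp [hfix a]
    have hle := (Finset.card_le_card hsub).trans
      ((Multiset.toFinset_card_le _).trans (Polynomial.card_roots' _))
    rw [FiniteField.X_pow_card_sub_X_natDegree_eq A (Nat.one_lt_pow hi0.ne' hp.one_lt),
      Finset.card_univ, ← Nat.card_eq_fintype_card, hAcard] at hle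
    exact absurd hle (not_le.mpr (Nat.pow_lt_pow_right hp.one_lt hid))
  letI : Algebra (ZMod p) A := ZMod.algebra A p
  have hmem : ∀ (h : H) (a : AddMonoid.End V), a ∈ A → τ h * a * τ h⁻¹ ∈ A := by
    intro h
    have hinv : τ h⁻¹ * τ h = 1 := by rw [← map_mul, inv_mul_cancel, map_one]
    have hinv' : τ h * τ h⁻¹ = 1 := by rw [← map_mul, mul_inv_cancel, map_one]
    let f : AddMonoid.End V →+* AddMonoid.End V :=
      { toFun := fun a => τ h * a * τ h⁻¹
        map_one' := by rw [mul_one, hinv']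
        map_mul' := fun a b => by
          calc τ h * (a * b) * τ h⁻¹ = τ h * a * (τ h⁻¹ * τ h) * b * τ h⁻¹ := by
                rw [hinv, mul_one]; simp only [mul_assoc]
            _ = τ h * a * τ h⁻¹ * (τ h * b * τ h⁻¹) := by simp only [mul_assoc]
        map_zero' := by rw [mul_zero, zero_mul]
        map_add' := fun a b => by rw [mul_add, add_mul] }
    intro a ha
    have hle : A ≤ A.comap f := Subring.closure_le.mpr (by
      rintro _ ⟨t, ht, rfl⟩
      show τ h * τ t * τ h⁻¹ ∈ A
      rw [← map_mul, ← map_mul]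
      exact Subring.subset_closure ⟨_, ‹F.Normal›.conj_mem t ht h, rfl⟩)
    exact hle ha
  let c : H → A → A := fun h a => ⟨τ h * a * τ h⁻¹, hmem h a a.2⟩
  have c_mul : ∀ g h a, c (g * h) a = c g (c h a) := fun g h a => Subtype.ext (by
    show τ (g * h) * (a : AddMonoid.End V) * τ (g * h)⁻¹ =
      τ g * (τ h * (a : AddMonoid.End V) * τ h⁻¹) * τ g⁻¹
    rw [mul_inv_rev, map_mul, map_mul]
    simp only [mul_assoc])
  have c_one : ∀ a, c 1 a = a := fun a => Subtype.ext (by
    show τ 1 * (a : AddMonoid.End V) * τ 1⁻¹ = a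
    rw [inv_one, map_one, one_mul, mul_one])
  let e : H → (A ≃+* A) := fun h =>
    { toFun := c h
      invFun := c h⁻¹
      left_inv := fun a => by rw [← c_mul, inv_mul_cancel, c_one]
      right_inv := fun a => by rw [← c_mul, mul_inv_cancel, c_one]
      map_mul' := fun a b => Subtype.ext (by
        show τ h * ((a : AddMonoid.End V) * b) * τ h⁻¹ =
          τ h * a * τ h⁻¹ * (τ h * b * τ h⁻¹)
        have hinv : τ h⁻¹ * τ h = 1 := by rw [← map_mul, inv_mul_cancel, map_one]
        calc τ h * ((a : AddMonoid.End V) * b) * τ h⁻¹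
            = τ h * a * (τ h⁻¹ * τ h) * b * τ h⁻¹ := by rw [hinv, mul_one]; simp only [mul_assoc]
          _ = τ h * a * τ h⁻¹ * (τ h * b * τ h⁻¹) := by simp only [mul_assoc])
      map_add' := fun a b => Subtype.ext (by
        show τ h * ((a : AddMonoid.End V) + b) * τ h⁻¹ = τ h * a * τ h⁻¹ + τ h * b * τ h⁻¹
        rw [mul_add, add_mul]) }
  let ψ : H →* (A ≃ₐ[ZMod p] A) :=
    { toFun := fun h => { e h with
        commutes' := fun r => RingHom.congr_fun (Subsingleton.elim
          ((e h).toRingHom.comp (algebraMap (ZMod p) A)) (algebraMap (ZMod p) A)) r }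
      map_one' := AlgEquiv.ext fun a => c_one a
      map_mul' := fun g h => AlgEquiv.ext fun a => c_mul g h a }
  have hker : ψ.ker = F := by
    refine le_antisymm (fun h hh => ?_) (fun h hh => ?_)
    · rw [← hcent, mem_centralizer_iff]
      intro t ht
      have h1 : τ h * τ t * τ h⁻¹ = τ t := congrArg Subtype.val
        (DFunLike.congr_fun hh (τA ⟨t, ht⟩))
      apply hτ
      rw [map_mul, map_mul]
      calc τ t * τ h = τ h * τ t * τ h⁻¹ * τ h := by rw [h1]
        _ = τ h * τ t * (τ h⁻¹ * τ h) := by rw [mul_assoc]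
        _ = τ h * τ t := by rw [← map_mul τ h⁻¹, inv_mul_cancel, map_one, mul_one]
    · refine AlgEquiv.ext fun a => Subtype.ext ?_
      show τ h * (a : AddMonoid.End V) * τ h⁻¹ = a
      rw [hA2 _ (Subring.subset_closure ⟨h, hh, rfl⟩) a a.2, mul_assoc, ← map_mul, mul_inv_cancel,
        map_one, mul_one]
  haveI : Finite (A ≃ₐ[ZMod p] A) :=
    Finite.of_injective (fun f : A ≃ₐ[ZMod p] A => (⇑f : A → A)) DFunLike.coe_injective
  constructor
  · obtain ⟨⟨_, h, rfl⟩, hgen⟩ := IsCyclic.exists_generator (α := ψ.range)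
    refine ⟨h, (eq_top_iff.mpr fun x _ => ?_).symm⟩
    obtain ⟨k, hk⟩ := Subgroup.mem_zpowers_iff.mp (hgen ⟨ψ x, x, rfl⟩)
    have hk' : ψ (h ^ k) = ψ x := by
      rw [map_zpow]; simpa using congrArg Subtype.val hk
    have hmemF : (h ^ k)⁻¹ * x ∈ ψ.ker := by
      rw [MonoidHom.mem_ker, map_mul, map_inv, hk', inv_mul_cancel]
    rw [hker] at hmemF
    have hx := (F ⊔ zpowers h).mul_mem (mem_sup_right (zpow_mem (mem_zpowers h) k))
      (mem_sup_left hmemF)
    rwa [mul_inv_cancel_left] at hx
  · rw [← ψ.ker.card_mul_index, Subgroup.index_ker, hker, hFq]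
    refine Nat.mul_dvd_mul_left q ((Subgroup.card_subgroup_dvd_card ψ.range).trans ?_)
    haveI : Module.Finite (ZMod p) A := Module.Finite.of_finite
    rw [IsGalois.card_aut_eq_finrank]
    have hfr : Nat.card A = Nat.card (ZMod p) ^ Module.finrank (ZMod p) A :=
      Module.natCard_eq_pow_finrank
    rw [Nat.card_zmod, hAcard] at hfr
    rw [← Nat.pow_right_injective hp.two_le hfr]

open MulAction in
theorem result {G : Type*} [Group G] [Finite G] {Ω : Type*} [Fintype Ω] [MulAction G Ω] [FaithfulSMul G Ω] [Group.IsSolvable G] (p d : ℕ) (hp : p.Prime) (hcard : Fintype.card Ω = p ^ d)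
    (hprim : MulAction.IsPreprimitive G Ω) (hH : ∀ α : Ω, MulAction.stabilizer G α ≠ ⊥) (hep : ∀ (α : Ω) (ω : Ω), MulAction.IsPreprimitive (MulAction.stabilizer G α) (MulAction.orbit (MulAction.stabilizer G α) ω)) (α : Ω) :
    ∃ q : ℕ, q.Prime ∧ (∀ ω : Ω, ω ≠ α → Nat.card (MulAction.orbit (MulAction.stabilizer G α) ω) = q) ∧
      q ∣ p ^ d - 1 ∧ (∀ i : ℕ, 0 < i → i < d → ¬ q ∣ p ^ i - 1) ∧
      ∃ T : Subgroup G, T ≤ MulAction.stabilizer G α ∧ MulAction.stabilizer G α ≤ Subgroup.normalizer (T : Set G) ∧ Nat.card T = q ∧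
        (∃ h : G, MulAction.stabilizer G α = T ⊔ Subgroup.zpowers h) ∧ Nat.card (MulAction.stabilizer G α) ∣ q * d := by
  classical
  haveI := hprim
  haveI : Fact p.Prime := ⟨hp⟩
  set H := MulAction.stabilizer G α with hHdef
  obtain ⟨ω₀, hω₀⟩ := ExtremelyPrimitive.exists_ne (hH α)
  haveI : Nontrivial Ω := ⟨⟨ω₀, α, hω₀⟩⟩
  haveI : Nonempty Ω := ⟨α⟩
  haveI : Nontrivial G := by
    obtain ⟨g, hg⟩ := exists_smul_eq G α ω₀
    exact ⟨⟨g, 1, fun e => hω₀ (by rw [← hg, e, one_smul])⟩⟩
  have hd : 1 ≤ d := by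
    rcases Nat.eq_zero_or_pos d with rfl | h
    · have := Fintype.one_lt_card (α := Ω)
      rw [hcard] at this
      simp at this
    · exact h
  obtain ⟨N, hN, hne, hmin⟩ := Socle.exists_minimal_normal (G := G)
  haveI := hN
  haveI hNab : IsMulCommutative N := by
    rcases hmin ⁅N, N⁆ inferInstance (Subgroup.commutator_le_left N N) with h | h
    · exact ⟨⟨fun a b => Subtype.ext
        (Subgroup.mem_centralizer_iff.mp (Subgroup.commutator_eq_bot_iff_le_centralizer.mp h b.2) a a.2)⟩⟩
    · exact absurd h (Group.IsSolvable.commutator_lt_of_ne_bot hne).ne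
  obtain ⟨hNtr, hNreg, hNcent⟩ := Perm.regular_of_abelian_normal (α := Ω) hne
  haveI := hNtr
  have hNcard : Nat.card N = p ^ d := by
    rw [Perm.card_eq_of_regular (hNreg α), Nat.card_eq_fintype_card, hcard]
  haveI : Nontrivial H := (Subgroup.nontrivial_iff_ne_bot _).mpr (hH α)
  have hFne : Cfsg.fittingSubgroup H ≠ ⊥ := Components.fittingSubgroup_ne_bot
  obtain ⟨hFc, hFcent, horb, hdvd, q, e, hq, -, -, hexp⟩ := ExtremelyPrimitive.fitting hep hFne
  haveI := hFc
  haveI : (Cfsg.fittingSubgroup H).Normal := Components.fittingSubgroup_normal H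
  set F := Cfsg.fittingSubgroup H
  set T := F.map H.subtype
  have hTle : T ≤ H := Subgroup.map_subtype_le F
  have hTn : H ≤ Subgroup.normalizer (T : Set G) := by
    intro h hh
    rw [Subgroup.mem_normalizer_iff]
    intro x
    constructor
    · rintro ⟨y, hy, rfl⟩
      exact ⟨_, ‹F.Normal›.conj_mem y hy ⟨h, hh⟩, rfl⟩
    · rintro ⟨y, hy, hye⟩
      refine ⟨_, ‹F.Normal›.conj_mem y hy ⟨h, hh⟩⁻¹, ?_⟩
      show h⁻¹ * (y : G) * h⁻¹⁻¹ = x
      rw [show (y : G) = h * x * h⁻¹ from hye]
      group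
  have hT : T ≠ ⊥ := fun h =>
    hFne ((Subgroup.map_eq_bot_iff_of_injective _ H.subtype_injective).mp h)
  have hTorb := ExtremelyPrimitive.orbit_eq_of_normal hep hT hTle hTn
  letI : CommGroup N := { (inferInstance : Group N) with mul_comm := fun a b => mul_comm' a b }
  haveI : Finite (Additive N) := inferInstanceAs (Finite N)
  let τ : H →* AddMonoid.End (Additive N) :=
    { toFun := fun h => AddMonoidHom.mk'
        (fun x => Additive.ofMul (⟨(h : G) * (Additive.toMul x : N) * (h : G)⁻¹,
          hN.conj_mem _ (Additive.toMul x).2 h⟩ : N))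
        (fun x y => Additive.toMul.injective (Subtype.ext (show
          (h : G) * (((Additive.toMul x : N) : G) * ((Additive.toMul y : N) : G)) * (h : G)⁻¹ =
            ((h : G) * ((Additive.toMul x : N) : G) * (h : G)⁻¹) *
              ((h : G) * ((Additive.toMul y : N) : G) * (h : G)⁻¹) by group)))
      map_one' := AddMonoidHom.ext fun x => Additive.toMul.injective (Subtype.ext (by
        show (1 : G) * ((Additive.toMul x : N) : G) * (1 : G)⁻¹ = ((Additive.toMul x : N) : G)
        group))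
      map_mul' := fun g h => AddMonoidHom.ext fun x => Additive.toMul.injective (Subtype.ext (by
        show (g : G) * h * ((Additive.toMul x : N) : G) * ((g : G) * h)⁻¹ =
          (g : G) * ((h : G) * ((Additive.toMul x : N) : G) * (h : G)⁻¹) * (g : G)⁻¹
        group)) }
  have hτ : Function.Injective τ := by
    refine (injective_iff_map_eq_one τ).mpr fun h hh => Subtype.ext ?_
    have hc : (h : G) ∈ Subgroup.centralizer (N : Set G) := Subgroup.mem_centralizer_iff.mpr fun n hn => by
      have h1 : (h : G) * n * (h : G)⁻¹ = n := congrArg (fun x => ((Additive.toMul x : N) : G))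
        (DFunLike.congr_fun hh (Additive.ofMul (⟨n, hn⟩ : N)))
      exact (mul_inv_eq_iff_eq_mul.mp h1).symm
    rw [hNcent] at hc
    exact Perm.stabilizer_subgroup_eq_bot_iff.1 (hNreg α) _ hc h.2
  have hV : ∀ v : Additive N, p • v = 0 := by
    intro v
    obtain ⟨q', hq', hq''⟩ : ∃ q' : ℕ, q'.Prime ∧ ∀ n ∈ N, n ^ q' = 1 := by
      haveI := Fact.mk hp
      obtain ⟨x, hx⟩ := exists_prime_orderOf_dvd_card' (G := N) p
        (hNcard ▸ dvd_pow_self p (by omega))
      let K : Subgroup G :=
        { carrier := {g | g ∈ N ∧ g ^ p = 1}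
          one_mem' := ⟨N.one_mem, one_pow p⟩
          mul_mem' := fun {a b} ha hb => ⟨N.mul_mem ha.1 hb.1, by
            rw [Commute.mul_pow (congrArg Subtype.val (mul_comm' (⟨a, ha.1⟩ : N) ⟨b, hb.1⟩)),
              ha.2, hb.2, one_mul]⟩
          inv_mem' := fun {a} ha => ⟨N.inv_mem ha.1, by rw [inv_pow, ha.2, inv_one]⟩ }
      have hK : K.Normal := ⟨fun n hn g => ⟨hN.conj_mem n hn.1 g, by
        rw [conj_pow, hn.2, mul_one, mul_inv_cancel]⟩⟩
      rcases hmin K hK (fun g hg => hg.1) with h | h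
      · exfalso
        have hxK : (x : G) ∈ K :=
          ⟨x.2, by rw [← Subgroup.coe_pow, ← hx, pow_orderOf_eq_one, Subgroup.coe_one]⟩
        rw [h, Subgroup.mem_bot] at hxK
        rw [show x = 1 from Subtype.ext hxK, orderOf_one] at hx
        exact hp.ne_one hx.symm
      · exact ⟨p, hp, fun n hn => (h.ge hn : n ∈ K).2⟩
    have : q' = p := by
      obtain ⟨x, hx⟩ := exists_prime_orderOf_dvd_card' (G := N) p
        (hNcard ▸ dvd_pow_self p (by omega))
      have := orderOf_dvd_of_pow_eq_one (x := x) (n := q') (Subtype.ext (by simpa using hq'' x x.2))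
      rw [hx] at this
      exact ((Nat.prime_dvd_prime_iff_eq hp hq').mp this).symm
    subst this
    apply Additive.toMul.injective
    rw [toMul_nsmul, toMul_zero]
    exact Subtype.ext (by simpa using hq'' _ (Additive.toMul v).2)
  have hirr : ∀ L : AddSubgroup (Additive N), (∀ t ∈ F, ∀ v ∈ L, τ t v ∈ L) → L = ⊥ ∨ L = ⊤ := by
    intro L hL
    let L' : Subgroup G :=
      { carrier := {g | ∃ h : g ∈ N, Additive.ofMul (⟨g, h⟩ : N) ∈ L}
        one_mem' := ⟨N.one_mem, L.zero_mem⟩
        mul_mem' := fun {a b} ⟨ha, ha'⟩ ⟨hb, hb'⟩ => ⟨N.mul_mem ha hb, L.add_mem ha' hb'⟩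
        inv_mem' := fun {a} ⟨ha, ha'⟩ => ⟨N.inv_mem ha, L.neg_mem ha'⟩ }
    rcases ExtremelyPrimitive.irreducible (α := α) hNreg hTle hTorb (L := L') (fun g hg => hg.1)
      (fun m hm l hl => by
        obtain ⟨t, ht, rfl⟩ := hm
        obtain ⟨hl1, hl2⟩ := hl
        exact ⟨hN.conj_mem l hl1 _, hL t ht _ hl2⟩) with h | h
    · refine Or.inl ((AddSubgroup.eq_bot_iff_forall L).mpr fun v hv => ?_)
      have : ((Additive.toMul v : N) : G) ∈ L' := ⟨(Additive.toMul v).2, hv⟩
      rw [h, Subgroup.mem_bot] at this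
      exact Additive.toMul.injective (Subtype.ext this)
    · exact Or.inr (eq_top_iff.mpr fun v _ => (h.ge (Additive.toMul v).2 : _ ∈ L').2)
  obtain ⟨hFq, hord, ⟨h, hh⟩, hHdvd⟩ :=
    semilinear (V := Additive N) p d q hNcard hd hV τ hτ F hq hexp hFne hFcent hirr
  refine ⟨q, hq, fun ω hω => (horb ω hω).trans hFq, ?_, hord, T, hTle, hTn, ?_, ⟨(h : G), ?_⟩, hHdvd⟩
  · rwa [hFq, Nat.card_eq_fintype_card, hcard] at hdvd
  · rw [Subgroup.card_map_of_injective H.subtype_injective, hFq]
  · have := congrArg (Subgroup.map H.subtype) hh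
    rwa [Subgroup.map_sup, MonoidHom.map_zpowers, ← MonoidHom.range_eq_map, Subgroup.range_subtype] at this

end Cfsg.Agent.S3496
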