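import Cfsg.Statements.S3497
import Cfsg.Agent.Lib.ExtremelyPrimitive.Fitting

set_option autoImplicit false
open Cfsg

namespace Cfsg.Agent.S3497

/-- An action by additive maps on a finite group of exponent `p` gives a matrix representation. -/
theorem exists_gl {H V : Type*} [Group H] [AddCommGroup V] [Finite V] (p e : ℕ) [Fact p.Prime]
    [Module (ZMod p) V] (hcard : Nat.card V = p ^ e) (f : H → (V →+ V))
    (h1 : f 1 = AddMonoidHom.id V) (h2 : ∀ g h, f (g * h) = (f g).comp (f h)) :
    ∃ φ : H →* GL (Fin e) (ZMod p), ∀ h, φ h = 1 ↔ f h = AddMonoidHom.id V := by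
  haveI : Module.Finite (ZMod p) V := Module.Finite.of_finite
  have hrank : Module.finrank (ZMod p) V = e := by
    have h : Nat.card V = Nat.card (ZMod p) ^ Module.finrank (ZMod p) V :=
      Module.natCard_eq_pow_finrank
    rw [Nat.card_zmod, hcard] at h
    exact (Nat.pow_right_injective (Fact.out : p.Prime).two_le h).symm
  let b := (Module.finBasis (ZMod p) V).reindex (finCongr hrank)
  let T : Module.End (ZMod p) V ≃ₐ[ZMod p] Matrix (Fin e) (Fin e) (ZMod p) :=
    LinearMap.toMatrixAlgEquiv b
  let c : H →* Matrix (Fin e) (Fin e) (ZMod p) :=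
    { toFun := fun h => T ((f h).toZModLinearMap p)
      map_one' := (congrArg T (LinearMap.ext fun x => by
        show f 1 x = x
        rw [h1]; rfl)).trans (map_one T)
      map_mul' := fun g h => (congrArg T (LinearMap.ext fun x => by
        show f (g * h) x = f g (f h x)
        rw [h2]; rfl)).trans (map_mul T ((f g).toZModLinearMap p) ((f h).toZModLinearMap p)) }
  refine ⟨c.toHomUnits, fun h => ⟨fun hk => ?_, fun hk => Units.ext ?_⟩⟩
  · have hv : T ((f h).toZModLinearMap p) = T 1 := (congrArg Units.val hk).trans (map_one T).symm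
    ext x
    exact DFunLike.congr_fun (T.injective hv) x
  · exact (congrArg T (LinearMap.ext fun x => by
      show f h x = x
      rw [hk]; rfl)).trans (map_one T)


/-- Restrictions on the point stabilizer of an extremely primitive group. Let a finite group G act faithfully and primitively on a finite set Ω with point stabilizers H = G_α whose order is neither 1 nor a prime, each acting primitively on every one of its orbits. Then H has trivial center, the Fitting subgroup F(H) is an elementary abelian p-group for some prime p, and if F(H) ≠ 1 has order p ^ e then p ^ e divides the number of points minus one and H / F(H) embeds in GL_e(p) (there is a homomorphism from H to GL_e(p) with kernel exactly F(H)). -/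
theorem result {G : Type*} [Group G] [Finite G] {Ω : Type*} [Fintype Ω] [MulAction G Ω] [FaithfulSMul G Ω] (hprim : MulAction.IsPreprimitive G Ω) (hep : ∀ (α : Ω) (ω : Ω), MulAction.IsPreprimitive (MulAction.stabilizer G α) (MulAction.orbit (MulAction.stabilizer G α) ω)) (α : Ω)
    (hH1 : MulAction.stabilizer G α ≠ ⊥) (hHp : ¬ (Nat.card (MulAction.stabilizer G α)).Prime) :
    Subgroup.center (MulAction.stabilizer G α) = ⊥ ∧
    IsMulCommutative (Cfsg.fittingSubgroup (MulAction.stabilizer G α)) ∧
    ∃ p e : ℕ, p.Prime ∧ Nat.card (Cfsg.fittingSubgroup (MulAction.stabilizer G α)) = p ^ e ∧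
      (∀ x ∈ Cfsg.fittingSubgroup (MulAction.stabilizer G α), x ^ p = 1) ∧
      (Cfsg.fittingSubgroup (MulAction.stabilizer G α) ≠ ⊥ →
        p ^ e ∣ Fintype.card Ω - 1 ∧
        ∃ φ : MulAction.stabilizer G α →* GL (Fin e) (ZMod p), φ.ker = Cfsg.fittingSubgroup (MulAction.stabilizer G α)) := by
  haveI := hprim
  set H := MulAction.stabilizer G α
  refine ⟨ExtremelyPrimitive.center_eq_bot hep hH1 hHp, ?_⟩
  rcases eq_or_ne (Cfsg.fittingSubgroup H) ⊥ with hF | hF
  · refine ⟨?_, 2, 0, Nat.prime_two, ?_, fun x hx => ?_, fun h => absurd hF h⟩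
    · rw [hF]; exact ⟨⟨fun a b => Subsingleton.elim _ _⟩⟩
    · rw [hF, Subgroup.card_bot, pow_zero]
    · rw [hF, Subgroup.mem_bot] at hx
      rw [hx, one_pow]
  obtain ⟨hcomm, hcent, -, hdvd, p, e, hp, -, hcard, hexp⟩ := ExtremelyPrimitive.fitting hep hF
  refine ⟨hcomm, p, e, hp, hcard, hexp, fun _ =>
    ⟨hcard ▸ Nat.card_eq_fintype_card (α := Ω) ▸ hdvd, ?_⟩⟩
  set F := Cfsg.fittingSubgroup H with hFdef
  haveI := Fact.mk hp
  haveI hN : F.Normal := Components.fittingSubgroup_normal H
  letI : CommGroup F := { (inferInstance : Group F) with mul_comm := fun a b => mul_comm' a b }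
  haveI : Finite (Additive F) := inferInstanceAs (Finite F)
  let f : H → (Additive F →+ Additive F) := fun h => AddMonoidHom.mk'
    (fun x => Additive.ofMul (⟨h * (Additive.toMul x : F) * h⁻¹, hN.conj_mem _ (Additive.toMul x).2 h⟩ : F))
    (fun x y => Additive.toMul.injective (Subtype.ext (show
      h * (((Additive.toMul x : F) : H) * ((Additive.toMul y : F) : H)) * h⁻¹ =
        (h * ((Additive.toMul x : F) : H) * h⁻¹) * (h * ((Additive.toMul y : F) : H) * h⁻¹) by group)))
  obtain ⟨φ, hφ⟩ := @exists_gl H (Additive F) _ _ _ p e _ (AddCommGroup.zmodModule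
    (fun x => Additive.toMul.injective (by
      rw [toMul_nsmul, toMul_zero]
      exact Subtype.ext (by simpa using hexp _ (Additive.toMul x).2))))
    hcard f
    (AddMonoidHom.ext fun x => Additive.toMul.injective (Subtype.ext (by
      show (1 : H) * ((Additive.toMul x : F) : H) * (1 : H)⁻¹ = ((Additive.toMul x : F) : H)
      group)))
    (fun g h => AddMonoidHom.ext fun x => Additive.toMul.injective (Subtype.ext (by
      show g * h * ((Additive.toMul x : F) : H) * (g * h)⁻¹ =
        g * (h * ((Additive.toMul x : F) : H) * h⁻¹) * g⁻¹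
      group)))
  refine ⟨φ, ?_⟩
  ext h
  rw [MonoidHom.mem_ker, hφ, ← SetLike.ext_iff.mp hcent h, Subgroup.mem_centralizer_iff]
  constructor
  · intro hk x hx
    have h3 : h * x * h⁻¹ = x := congrArg (fun y => ((Additive.toMul y : F) : H))
      (DFunLike.congr_fun hk (Additive.ofMul (⟨x, hx⟩ : F)))
    exact (mul_inv_eq_iff_eq_mul.mp h3).symm
  · intro hk
    refine AddMonoidHom.ext fun x => Additive.toMul.injective (Subtype.ext ?_)
    show h * ((Additive.toMul x : F) : H) * h⁻¹ = ((Additive.toMul x : F) : H)
    rw [← hk _ (Additive.toMul x).2, mul_inv_cancel_right]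

end Cfsg.Agent.S3497
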