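import Cfsg.Statements.S3498

set_option autoImplicit false
set_option linter.style.haveILetI false
open Cfsg

namespace Cfsg.Agent.S3498

/-- A maximal subgroup of a finite almost simple group does not have prime order. Here G is almost simple in the sense that it has a non-abelian simple normal subgroup T with trivial centralizer. -/
theorem result {G : Type*} [Group G] [Finite G] (T : Subgroup G) [T.Normal] (hT : IsSimpleGroup T) (hTc : ¬ IsMulCommutative T)
    (hC : Subgroup.centralizer (T : Set G) = ⊥) (H : Subgroup G) (hmax : IsCoatom H) : ¬ (Nat.card H).Prime := by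
  classical
  intro hr
  set r := Nat.card H with hrH
  haveI := Fact.mk hr
  haveI := hT
  have hTne : T ≠ ⊥ := fun h => hTc (by
    subst h
    exact ⟨⟨fun a b => Subsingleton.elim _ _⟩⟩)
  have hTnp : ∀ s : ℕ, s.Prime → ¬ IsPGroup s T := by
    intro s hs hp
    haveI := Fact.mk hs
    haveI : Nontrivial T := (Subgroup.nontrivial_iff_ne_bot _).mpr hTne
    haveI := hp.center_nontrivial
    rcases (inferInstance : (Subgroup.center T).Normal).eq_bot_or_eq_top with h | h
    · exact not_subsingleton (Subgroup.center T) (h ▸ inferInstance)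
    · exact hTc ⟨⟨fun a b => (Subgroup.mem_center_iff.mp (h ▸ Subgroup.mem_top a) b).symm⟩⟩
  have hGp : ¬ IsPGroup r G := fun h => hTnp r hr (h.to_subgroup T)
  -- `H` is a Sylow subgroup
  obtain ⟨P, hHP⟩ := (IsPGroup.of_card (n := 1) (by rw [pow_one]) : IsPGroup r H).exists_le_sylow
  have hP : (P : Subgroup G) = H := by
    rcases hHP.lt_or_eq with h | h
    · exact absurd (IsPGroup.of_equiv (hmax.2 _ h ▸ P.2) Subgroup.topEquiv) hGp
    · exact h.symm
  by_cases hHT : H ≤ T
  · -- `T = G`
    have hTop : T = ⊤ := by
      rcases hHT.lt_or_eq with h | h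
      · exact hmax.2 _ h
      · exact absurd (h ▸ IsPGroup.of_card (n := 1) (by rw [pow_one])) (hTnp r hr)
    subst hTop
    haveI : IsSimpleGroup G := (Subgroup.topEquiv (G := G)).symm.isSimpleGroup
    have hN : Subgroup.normalizer ((P : Subgroup G) : Set G) = (P : Subgroup G) := by
      rcases (Subgroup.le_normalizer (H := (P : Subgroup G))).lt_or_eq with h | h
      · exfalso
        rw [hP] at h
        have hn : H.Normal := Subgroup.normalizer_eq_top_iff.mp (hmax.2 _ h)
        rcases hn.eq_bot_or_eq_top with h1 | h1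
        · rw [hrH, h1, Subgroup.card_bot] at hr; exact hr.ne_one rfl
        · exact hmax.1 h1
      · exact h.symm
    have hc : Subgroup.normalizer ((P : Subgroup G) : Set G) ≤ Subgroup.centralizer ((P : Subgroup G) : Set G) := by
      rw [hN]
      haveI : IsCyclic (P : Subgroup G) := isCyclic_of_prime_card (p := r) (by rw [hP])
      exact Subgroup.le_centralizer _
    have hcompl := MonoidHom.ker_transferSylow_isComplement' P hc
    rcases (MonoidHom.transferSylow P hc).normal_ker.eq_bot_or_eq_top with h | h
    · rw [h, Subgroup.isComplement'_bot_left, hP] at hcompl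
      exact hmax.1 hcompl
    · have := hcompl.card_mul
      rw [h, Subgroup.card_top, hP] at this
      have h2 : Nat.card G * r = Nat.card G * 1 := by rw [mul_one]; exact this
      exact hr.ne_one (Nat.eq_of_mul_eq_mul_left Nat.card_pos h2)
  · have hinf : H ⊓ T = ⊥ := by
      have hd : Nat.card (H ⊓ T : Subgroup G) ∣ r := Subgroup.card_dvd_of_le inf_le_left
      rcases (Nat.dvd_prime hr).mp hd with h | h
      · exact Subgroup.eq_bot_of_card_eq _ h
      · exact absurd (inf_eq_left.mp (Subgroup.eq_of_le_of_card_ge inf_le_left h.ge)) hHT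
    have hrT : ¬ r ∣ Nat.card T := by
      intro h
      obtain ⟨x, hx⟩ := exists_prime_orderOf_dvd_card' (G := T) r h
      have hz : IsPGroup r (Subgroup.zpowers (x : G)) := IsPGroup.of_card (n := 1) (by
        rw [Nat.card_zpowers, Subgroup.orderOf_coe, hx, pow_one])
      obtain ⟨Q, hQ⟩ := hz.exists_le_sylow
      obtain ⟨g, hg⟩ := MulAction.exists_smul_eq G Q P
      have hmem : g * x * g⁻¹ ∈ (P : Subgroup G) := by
        rw [← hg, Sylow.coe_subgroup_smul]
        exact ⟨x, hQ (Subgroup.mem_zpowers _), rfl⟩
      have h1 : g * x * g⁻¹ ∈ H ⊓ T := ⟨hP ▸ hmem, ‹T.Normal›.conj_mem _ x.2 g⟩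
      rw [hinf, Subgroup.mem_bot, conj_eq_one_iff] at h1
      rw [show x = 1 from Subtype.ext h1, orderOf_one] at hx
      exact hr.ne_one hx.symm
    obtain ⟨s, hs, hsd⟩ := Nat.exists_prime_and_dvd (n := Nat.card T)
      (fun h => hTne (Subgroup.eq_bot_of_card_eq T h))
    haveI := Fact.mk hs
    let S : Sylow s T := default
    set Q := (S : Subgroup T).map T.subtype
    have hfr : Subgroup.normalizer (Q : Set G) ⊔ T = ⊤ := Sylow.normalizer_sup_eq_top S
    set L := Subgroup.normalizer (Q : Set G)
    have hrL : r ∣ Nat.card L := by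
      by_contra h
      have hdvd : T.relIndex L ∣ Nat.card L := Subgroup.relIndex_dvd_card _ _
      have h2 : T.relIndex L = T.index := by
        rw [← Subgroup.relIndex_sup_right, hfr, Subgroup.relIndex_top_right]
      have h3 : r ∣ T.index := by
        have h4 : r ∣ T.index * Nat.card T := by
          rw [T.index_mul_card]; exact H.card_subgroup_dvd_card
        exact (hr.dvd_mul.mp h4).resolve_right hrT
      exact h (h3.trans (h2 ▸ hdvd))
    obtain ⟨y, hy⟩ := exists_prime_orderOf_dvd_card' (G := L) r hrL
    obtain ⟨P', hP'⟩ := (IsPGroup.of_card (n := 1) (by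
      rw [Nat.card_zpowers, Subgroup.orderOf_coe, hy, pow_one]) :
        IsPGroup r (Subgroup.zpowers (y : G))).exists_le_sylow
    have hcardP : Nat.card P' = r := by
      rw [P'.card_eq_multiplicity, ← P.card_eq_multiplicity, hP]
    have hP'L : (P' : Subgroup G) ≤ L := by
      rw [← Subgroup.eq_of_le_of_card_ge hP' (le_of_eq (by
        rw [hcardP, Nat.card_zpowers, Subgroup.orderOf_coe, hy]))]
      exact Subgroup.zpowers_le.mpr y.2
    obtain ⟨g, hg⟩ := MulAction.exists_smul_eq G P' P
    have hL : L ≠ ⊤ := by
      intro h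
      haveI hQn : Q.Normal := Subgroup.normalizer_eq_top_iff.mp h
      rcases (inferInstance : (Q.subgroupOf T).Normal).eq_bot_or_eq_top with h1 | h1
      · have hS : (S : Subgroup T) = ⊥ := by
          rwa [Subgroup.subgroupOf, Subgroup.comap_map_eq_self_of_injective T.subtype_injective] at h1
        have := S.card_eq_multiplicity
        rw [hS, Subgroup.card_bot] at this
        exact absurd this (Ne.symm (Nat.one_lt_pow (Nat.Prime.factorization_pos_of_dvd hs Nat.card_pos.ne' hsd).ne' hs.one_lt).ne')
      · have hS : (S : Subgroup T) = ⊤ := by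
          rwa [Subgroup.subgroupOf, Subgroup.comap_map_eq_self_of_injective T.subtype_injective] at h1
        exact hTnp s hs (IsPGroup.of_equiv (hS ▸ S.2) Subgroup.topEquiv)
    -- conjugate everything into `H`
    set c : G ≃* G := MulAut.conj g
    have hHL : H ≤ L.map c.toMonoidHom := by
      rw [← hP, ← hg, Sylow.coe_subgroup_smul]
      exact Subgroup.map_mono hP'L
    rcases hHL.lt_or_eq with h | h
    · refine hL ?_
      have := hmax.2 _ h
      exact eq_top_iff.mpr fun x _ => (Subgroup.mem_map_iff_mem c.injective).mp (this ▸ Subgroup.mem_top (c x))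
    · have hcardL : Nat.card L = r := by
        rw [← Subgroup.card_map_of_injective (f := c.toMonoidHom) c.injective, ← h]
      have hQd : Nat.card Q ∣ r := hcardL ▸ Subgroup.card_dvd_of_le Subgroup.le_normalizer
      rw [Subgroup.card_map_of_injective T.subtype_injective] at hQd
      have hsQ : s ∣ Nat.card S := by
        rw [S.card_eq_multiplicity]
        exact dvd_pow_self s (Nat.Prime.factorization_pos_of_dvd hs Nat.card_pos.ne' hsd).ne'
      have := (Nat.prime_dvd_prime_iff_eq hs hr).mp (hsQ.trans hQd)
      exact hrT (this ▸ hsd)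

end Cfsg.Agent.S3498
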