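import Cfsg.Statements.S3501
import Cfsg.Agent.Lib.Socle.DerangementClasses
import Cfsg.Agent.Lib.Perm.Transitive

/-!
One class of derangements in a primitive group that is not almost simple: sharply 2-transitive.
-/

set_option autoImplicit false
open Cfsg

namespace Cfsg.Agent.S3501

open Subgroup MulAction Socle

theorem result {G : Type*} [Group G] [Finite G] {Ω : Type*} [Fintype Ω] [MulAction G Ω] [FaithfulSMul G Ω] (hΩ : 2 ≤ Fintype.card Ω) (hprim : MulAction.IsPreprimitive G Ω) (hnas : ¬ ∃ T : Subgroup G, T.Normal ∧ IsSimpleGroup T ∧ ¬ IsMulCommutative T ∧ Subgroup.centralizer (T : Set G) = ⊥) :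
    Nat.card {c : ConjClasses G // ∃ g : G, ConjClasses.mk g = c ∧ ∀ ω : Ω, g • ω ≠ ω} = 1 ↔ (MulAction.IsMultiplyPretransitive G Ω 2 ∧ ∀ g : G, g ≠ 1 → ∀ a b : Ω, a ≠ b → g • a = a → g • b ≠ b) := by
  haveI := hprim
  haveI : Nontrivial Ω := Fintype.one_lt_card_iff_nontrivial.mp (by omega)
  have hΩ' : 2 ≤ Nat.card Ω := by rw [Nat.card_eq_fintype_card]; omega
  obtain ⟨a₀, b₀, hab₀⟩ := exists_pair_ne Ω
  constructor
  · intro h1
    haveI : Nontrivial G := by
      obtain ⟨g, hg⟩ := exists_smul_eq G a₀ b₀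
      exact ⟨⟨g, 1, fun e => hab₀ (by rw [← hg, e, one_smul])⟩⟩
    obtain ⟨N, hN, hne, hmin⟩ := exists_minimal_normal (G := G)
    by_cases hab : IsMulCommutative N
    · haveI := hN
      haveI := hab
      obtain ⟨htr, hreg, -⟩ := Perm.regular_of_abelian_normal (α := Ω) hne
      haveI := htr
      have hsub := (Nat.card_eq_one_iff_unique.mp h1).1
      have hconj : ∀ x y : G, (∀ ω : Ω, x • ω ≠ ω) → (∀ ω : Ω, y • ω ≠ ω) → IsConj x y := by
        intro x y hx hy
        exact ConjClasses.mk_eq_mk_iff_isConj.mp (congrArg Subtype.val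
          (@Subsingleton.elim _ hsub ⟨_, x, rfl, hx⟩ ⟨_, y, rfl, hy⟩))
      have hderN : ∀ x ∈ N, x ≠ 1 → ∀ ω : Ω, x • ω ≠ ω := fun x hx hx1 ω hω =>
        hx1 (Perm.stabilizer_subgroup_eq_bot_iff.1 (hreg ω) x hx hω)
      refine ⟨Perm.isTwoPretransitive_of_stabilizer a₀ fun b c hb hc => ?_, fun g hg a b hab ha hb => ?_⟩
      · obtain ⟨x, hx, rfl⟩ := Perm.isPretransitive_subgroup_iff.1 htr a₀ b
        obtain ⟨y, hy, rfl⟩ := Perm.isPretransitive_subgroup_iff.1 htr a₀ c
        obtain ⟨g, hg⟩ := isConj_iff.mp (hconj x y (hderN x hx fun e => hb (by rw [e, one_smul]))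
          (hderN y hy fun e => hc (by rw [e, one_smul])))
        obtain ⟨n, hn, hna⟩ := Perm.isPretransitive_subgroup_iff.1 htr a₀ (g • a₀)
        have hh : (n⁻¹ * g) • a₀ = a₀ := by rw [mul_smul, inv_smul_eq_iff, hna]
        refine ⟨n⁻¹ * g, hh, ?_⟩
        rw [← Perm.conj_smul_eq hh x]
        have hc' := congrArg Subtype.val (mul_comm' (⟨n⁻¹, N.inv_mem hn⟩ : N) ⟨y, hy⟩)
        simp only [Subgroup.coe_mul] at hc'
        have : n⁻¹ * g * x * (n⁻¹ * g)⁻¹ = y := by
          calc n⁻¹ * g * x * (n⁻¹ * g)⁻¹ = n⁻¹ * (g * x * g⁻¹) * n := by group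
            _ = n⁻¹ * y * n := by rw [hg]
            _ = y * n⁻¹ * n := by rw [hc']
            _ = y := by group
        rw [this]
      · obtain ⟨d, hd, hdN⟩ := exists_derangement_not_mem hreg hg hab ha hb
        obtain ⟨m, hm, hm1⟩ : ∃ m ∈ N, m ≠ 1 := by
          obtain ⟨⟨m, hm⟩, hm1⟩ := Subgroup.ne_bot_iff_exists_ne_one.mp hne
          exact ⟨m, hm, fun e => hm1 (Subtype.ext e)⟩
        obtain ⟨k, hk⟩ := isConj_iff.mp (hconj m d (hderN m hm hm1) hd)
        exact hdN (hk ▸ hN.conj_mem m hm k)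
    · haveI := hN
      have := three_classes_of_nonabelian (α := Ω) hnas hne hmin hab
      change 3 ≤ Nat.card {c : ConjClasses G // ∃ g : G, ConjClasses.mk g = c ∧ ∀ ω : Ω, g • ω ≠ ω} at this
      omega
  · rintro ⟨h2, hsharp⟩
    have hfix := fixedBy_le_one_iff.mpr hsharp
    classical
    haveI := Fintype.ofFinite G
    have hD := card_derangements hfix hΩ'
    obtain ⟨⟨d, hd⟩⟩ : Nonempty {g : G // IsDerangement Ω g} :=
      (Nat.card_pos_iff.mp (by omega)).1
    -- the centraliser of `d` is small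
    let C := Subgroup.centralizer ({d} : Set G)
    have hC : Nat.card C ≤ Nat.card Ω := by
      let f : C → Option {g : G // IsDerangement Ω g} := fun c =>
        if h : c = 1 then none else some ⟨c, fun a ha => by
          have hcd : (c : G) * d = d * c :=
            (mem_centralizer_iff.mp c.2 d (Set.mem_singleton d)).symm
          exact hsharp c (fun e => h (Subtype.ext e)) a (d • a) (fun e => hd a e.symm) ha
            (by rw [← mul_smul, hcd, mul_smul, ha])⟩
      have hf : Function.Injective f := by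
        intro x y hxy
        by_cases hx : x = 1 <;> by_cases hy : y = 1 <;> simp [f, hx, hy] at hxy
        · exact hx.trans hy.symm
        · exact Subtype.ext (congrArg Subtype.val hxy :)
      have hle := Nat.card_le_card_of_injective f hf
      rw [Finite.card_option, hD] at hle
      omega
    -- so its class is everything
    have horb : Nat.card (orbit (ConjAct G) d) * Nat.card C = Nat.card G := by
      have h := Subgroup.card_mul_index (stabilizer (ConjAct G) d)
      rw [index_stabilizer, ← Nat.card_coe_set_eq] at h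
      have e : Nat.card (stabilizer (ConjAct G) d) = Nat.card C := by
        refine Nat.card_congr (Equiv.subtypeEquiv ConjAct.ofConjAct.toEquiv fun x => ?_)
        show x • d = d ↔ ConjAct.ofConjAct x ∈ C
        rw [ConjAct.smul_def, mem_centralizer_iff]
        simp only [Set.mem_singleton_iff, forall_eq]
        rw [mul_inv_eq_iff_eq_mul]
        exact eq_comm
      rw [e, mul_comm] at h
      exact h
    have hGcard : Nat.card Ω * (Nat.card Ω - 1) ≤ Nat.card G := by
      rw [← Perm.card_mul_card_stabilizer (G := G) a₀]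
      refine Nat.mul_le_mul_left _ ?_
      have : Nat.card {x : Ω // x ≠ a₀} = Nat.card Ω - 1 := by
        rw [Nat.card_eq_fintype_card, Nat.card_eq_fintype_card, Fintype.card_subtype_compl,
          Fintype.card_subtype_eq]
      rw [← this]
      refine Nat.card_le_card_of_surjective
        (fun g : stabilizer G a₀ => (⟨(g : G) • b₀, fun e => hab₀ ?_⟩ : {x : Ω // x ≠ a₀})) ?_
      · exact (smul_left_cancel (g : G) (e.trans (mem_stabilizer_iff.mp g.2).symm)).symm
      · rintro ⟨x, hx⟩
        obtain ⟨g, hga, hgb⟩ := Perm.exists_stabilizer_smul_eq h2 (Ne.symm hab₀) hx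
        exact ⟨⟨g, hga⟩, Subtype.ext hgb⟩
    let ι : orbit (ConjAct G) d → {g : G // IsDerangement Ω g} := fun x => ⟨x.1, by
      obtain ⟨c, hc⟩ := x.2
      rw [← hc]
      show IsDerangement Ω (c • d)
      rw [ConjAct.smul_def]; exact (show IsDerangement Ω d from hd).conj _⟩
    have hι : Function.Injective ι := fun x y h => Subtype.ext (congrArg Subtype.val h :)
    have hsurj : Function.Surjective ι := by
      refine ((Nat.bijective_iff_injective_and_card _).mpr ⟨hι, le_antisymm
        (Nat.card_le_card_of_injective _ hι) ?_⟩).2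
      rw [hD]
      refine Nat.le_of_mul_le_mul_left ?_ (show 0 < Nat.card Ω by omega)
      calc Nat.card Ω * (Nat.card Ω - 1) ≤ _ := hGcard
        _ = Nat.card (orbit (ConjAct G) d) * Nat.card C := horb.symm
        _ ≤ Nat.card (orbit (ConjAct G) d) * Nat.card Ω := Nat.mul_le_mul_left _ hC
        _ = _ := Nat.mul_comm _ _
    refine Nat.card_eq_one_iff_unique.mpr ⟨⟨?_⟩, ⟨⟨_, d, rfl, hd⟩⟩⟩
    have key : ∀ x : G, (∀ ω : Ω, x • ω ≠ ω) → ConjClasses.mk x = ConjClasses.mk d := by
      intro x hx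
      obtain ⟨y, hy⟩ := hsurj ⟨x, hx⟩
      obtain ⟨c, hc⟩ := y.2
      have : x = c • d := (congrArg Subtype.val hy).symm.trans hc.symm
      rw [this, ConjAct.smul_def]
      exact ConjClasses.mk_eq_mk_iff_isConj.mpr (isConj_iff.mpr ⟨(ConjAct.ofConjAct c)⁻¹, by group⟩)
    rintro ⟨_, x, rfl, hx⟩ ⟨_, y, rfl, hy⟩
    exact Subtype.ext ((key x hx).trans (key y hy).symm)

end Cfsg.Agent.S3501
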