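import Cfsg.Statements.S3504

set_option autoImplicit false
set_option linter.style.haveILetI false
open Cfsg

namespace Cfsg.Agent.S3504

/-- For n ≥ 5, the fixed-point-free permutations of prime order in the symmetric group of degree n form a single conjugacy class if and only if n is a prime power. -/
theorem result (n : ℕ) (hn : 5 ≤ n) :
    Nat.card {c : ConjClasses (Equiv.Perm (Fin n)) // ∃ g : Equiv.Perm (Fin n), ConjClasses.mk g = c ∧ (orderOf g).Prime ∧ ∀ i : Fin n, g i ≠ i} = 1 ↔ IsPrimePow n := by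
  classical
  have hn0 : n ≠ 0 := by omega
  rw [isPrimePow_iff_card_primeFactors_eq_one]
  have hiff : ∀ g : Equiv.Perm (Fin n), (∀ i, g i ≠ i) → (hg : (orderOf g).Prime) →
      orderOf g ∣ n ∧ g.cycleType = Multiset.replicate (n / orderOf g) (orderOf g) := by
    intro g hfix hg
    obtain ⟨k, hk⟩ := Equiv.Perm.cycleType_prime_order hg
    have hsum := g.sum_cycleType
    rw [hk, Multiset.sum_replicate, smul_eq_mul,
      show g.support = Finset.univ from Finset.eq_univ_iff_forall.mpr fun i =>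
        Equiv.Perm.mem_support.mpr (hfix i), Finset.card_univ, Fintype.card_fin] at hsum
    refine ⟨⟨k + 1, by rw [mul_comm]; exact hsum.symm⟩, ?_⟩
    rw [hk, Nat.div_eq_of_eq_mul_left hg.pos hsum.symm]
  have hex : ∀ p ∈ n.primeFactors, ∃ g : Equiv.Perm (Fin n), orderOf g = p ∧ ∀ i, g i ≠ i := by
    intro p hp
    have hpp := Nat.prime_of_mem_primeFactors hp
    obtain ⟨k, hk⟩ := Nat.dvd_of_mem_primeFactors hp
    have hsum : (Multiset.replicate k p).sum = n := by
      rw [Multiset.sum_replicate, smul_eq_mul, hk, mul_comm]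
    obtain ⟨g, hg⟩ := (Equiv.Perm.exists_with_cycleType_iff (Fin n) (m := Multiset.replicate k p)).mpr
      ⟨by rw [hsum, Fintype.card_fin], fun a ha => by
        rw [Multiset.eq_of_mem_replicate ha]; exact hpp.two_le⟩
    refine ⟨g, ?_, fun i hi => ?_⟩
    · have hk0 : k ≠ 0 := by
        rintro rfl
        exact hn0 (by simpa using hk)
      rw [← Equiv.Perm.lcm_cycleType, hg]
      refine Nat.dvd_antisymm (Multiset.lcm_dvd.mpr fun a ha => ?_)
        (Multiset.dvd_lcm (Multiset.mem_replicate.mpr ⟨hk0, rfl⟩))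
      rw [Multiset.eq_of_mem_replicate ha]
    · have h1 := g.sum_cycleType
      rw [hg, hsum] at h1
      have h2 : g.support = Finset.univ :=
        Finset.eq_univ_of_card _ (by rw [← h1, Fintype.card_fin])
      exact Equiv.Perm.mem_support.mp (h2 ▸ Finset.mem_univ i) hi
  choose g hg hgfix using hex
  have e : {p // p ∈ n.primeFactors} ≃ {c : ConjClasses (Equiv.Perm (Fin n)) // ∃ g : Equiv.Perm (Fin n),
      ConjClasses.mk g = c ∧ (orderOf g).Prime ∧ ∀ i : Fin n, g i ≠ i} := by
    refine Equiv.ofBijective (fun p => ⟨ConjClasses.mk (g p.1 p.2), g p.1 p.2, rfl,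
      (hg p.1 p.2).symm ▸ Nat.prime_of_mem_primeFactors p.2, hgfix p.1 p.2⟩) ⟨?_, ?_⟩
    · intro a b hab
      obtain ⟨c, hc⟩ := ConjClasses.mk_eq_mk_iff_isConj.mp (congrArg Subtype.val hab)
      refine Subtype.ext ?_
      rw [← hg a.1 a.2, ← hg b.1 b.2]
      exact SemiconjBy.orderOf_eq _ hc
    · rintro ⟨_, x, rfl, hx, hxfix⟩
      obtain ⟨hdvd, hct⟩ := hiff x hxfix hx
      have hmem : orderOf x ∈ n.primeFactors := Nat.mem_primeFactors.mpr ⟨hx, hdvd, hn0⟩
      refine ⟨⟨_, hmem⟩, Subtype.ext (ConjClasses.mk_eq_mk_iff_isConj.mpr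
        (Equiv.Perm.isConj_iff_cycleType_eq.mpr ?_))⟩
      rw [hct, (hiff _ (hgfix _ hmem) ((hg _ hmem).symm ▸ hx)).2, hg _ hmem]
  rw [← Nat.card_congr e, Nat.card_eq_fintype_card, Fintype.card_coe]

end Cfsg.Agent.S3504
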