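import Cfsg.Statements.S3508


set_option autoImplicit false
set_option linter.style.haveILetI false
open Cfsg

namespace Cfsg.Agent.S3508

/-- A unipotent linear map in characteristic `p` on a space of order `p ^ m` with `m < p ^ s`. -/
theorem unipotent_linear (p : ℕ) [Fact p.Prime] {V : Type*} [AddCommGroup V] [Module (ZMod p) V] [Finite V]
    (φ : Module.End (ZMod p) V) {r s m : ℕ} (hφ : φ ^ p ^ r = 1) (hcard : Nat.card V = p ^ m) (hlt : m < p ^ s) :
    φ ^ p ^ s = 1 ∧ ∑ i ∈ Finset.range (p ^ s), φ ^ i = 0 := by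
  haveI : Module.Finite (ZMod p) V := Module.Finite.of_finite
  have hdim : Module.finrank (ZMod p) V = m := by
    have h1 : Nat.card V = Nat.card (ZMod p) ^ Module.finrank (ZMod p) V := Module.natCard_eq_pow_finrank
    rw [Nat.card_zmod, hcard] at h1
    exact (Nat.pow_right_injective (Fact.out : p.Prime).two_le h1).symm
  have hX : ∀ s : ℕ, (Polynomial.X - 1 : Polynomial (ZMod p)) ^ p ^ s = Polynomial.X ^ p ^ s - 1 := by
    intro s; rw [sub_pow_char_pow, one_pow]
  have hev : ∀ s : ℕ, (φ - 1) ^ p ^ s = φ ^ p ^ s - 1 := fun s => by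
    simpa using congrArg (Polynomial.aeval φ) (hX s)
  have hnil : ∀ j, m ≤ j → (φ - 1) ^ j = 0 := by
    intro j hj
    have hm : (φ - 1) ^ m = 0 := by
      refine LinearMap.ker_eq_top.mp (eq_top_iff.mpr ?_)
      rw [← hdim]
      refine le_trans ?_ (Module.End.ker_pow_le_ker_pow_finrank (φ - 1) (p ^ r))
      rw [hev, hφ, sub_self, LinearMap.ker_zero]
    rw [← Nat.sub_add_cancel hj, pow_add, hm, mul_zero]
  refine ⟨sub_eq_zero.mp ((hev s).symm.trans (hnil _ hlt.le)), ?_⟩
  have hsum : (∑ i ∈ Finset.range (p ^ s), (Polynomial.X : Polynomial (ZMod p)) ^ i) =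
      (Polynomial.X - 1) ^ (p ^ s - 1) := by
    have hne : (Polynomial.X - 1 : Polynomial (ZMod p)) ≠ 0 := by
      simpa using Polynomial.X_sub_C_ne_zero (1 : ZMod p)
    apply mul_right_cancel₀ hne
    rw [geom_sum_mul, ← pow_succ, Nat.sub_add_cancel (Nat.one_le_pow _ _ (Fact.out : p.Prime).pos), hX]
  have := congrArg (Polynomial.aeval φ) hsum
  simp only [map_sum, map_pow, Polynomial.aeval_X, map_sub, map_one] at this
  rw [this, hnil _ (by omega)]


theorem pow_toZMod (p : ℕ) {V : Type*} [AddCommGroup V] [Module (ZMod p) V] (f : AddMonoid.End V)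
    (i : ℕ) (v : V) :
    ((AddMonoidHom.toZModLinearMap p (f : V →+ V) : Module.End (ZMod p) V) ^ i) v = (f ^ i) v := by
  induction i generalizing v with
  | zero => rfl
  | succ i ih => rw [pow_succ, pow_succ]; exact ih _

/-- A unipotent map in characteristic `p` on a group of order `p ^ m` with `m < p ^ s`. -/
theorem unipotent_aux (p : ℕ) [Fact p.Prime] {V : Type*} [AddCommGroup V] [Module (ZMod p) V] [Finite V]
    (f : AddMonoid.End V) {r s m : ℕ} (hf : f ^ p ^ r = 1) (hcard : Nat.card V = p ^ m) (hlt : m < p ^ s) :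
    f ^ p ^ s = 1 ∧ ∑ i ∈ Finset.range (p ^ s), f ^ i = 0 := by
  obtain ⟨h1, h2⟩ := unipotent_linear p
    (AddMonoidHom.toZModLinearMap p (f : V →+ V) : Module.End (ZMod p) V) (r := r) (s := s)
    (LinearMap.ext fun v => by rw [pow_toZMod, hf]; rfl) hcard hlt
  refine ⟨AddMonoidHom.ext fun v => (pow_toZMod p f _ v).symm.trans (LinearMap.congr_fun h1 v),
    AddMonoidHom.ext fun v => ?_⟩
  have h3 := LinearMap.congr_fun h2 v
  rw [LinearMap.sum_apply] at h3
  simp only [pow_toZMod] at h3
  exact (map_sum (AddMonoidHom.eval v : (V →+ V) →+ V) (fun i => ((f ^ i : AddMonoid.End V) : V →+ V)) _).trans h3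

/-- `unipotent_aux` without a module structure. -/
theorem unipotent (p : ℕ) [Fact p.Prime] {V : Type*} [AddCommGroup V] [Finite V] (hV : ∀ v : V, p • v = 0)
    (f : AddMonoid.End V) {r s m : ℕ} (hf : f ^ p ^ r = 1) (hcard : Nat.card V = p ^ m) (hlt : m < p ^ s) :
    f ^ p ^ s = 1 ∧ ∑ i ∈ Finset.range (p ^ s), f ^ i = 0 :=
  @unipotent_aux p _ V _ (AddCommGroup.zmodModule hV) _ f r s m hf hcard hlt

/-- Let a finite group G act faithfully on a set Ω with p ^ m points (p prime) and have an elementary abelian normal p-subgroup N acting regularly on Ω (so G is a group of affine transformations of an m-dimensional space over the field with p elements). If G contains an element of order p ^ r with r ≥ 1, then p ^ (r − 1) ≤ m. In particular an element of order p ^ m forces m ≤ 2, and m ≤ 1 when p is odd. -/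
theorem result {G : Type*} [Group G] [Finite G] {Ω : Type*} [Fintype Ω] [MulAction G Ω] [FaithfulSMul G Ω] (p m : ℕ) (hp : p.Prime) (hcard : Fintype.card Ω = p ^ m)
    (N : Subgroup G) [N.Normal] (hNc : IsMulCommutative N) (hNp : ∀ n ∈ N, n ^ p = 1)
    (hNtr : MulAction.IsPretransitive N Ω) (hNreg : ∀ ω : Ω, MulAction.stabilizer N ω = ⊥)
    (g : G) (r : ℕ) (hr : 1 ≤ r) (hg : orderOf g = p ^ r) :
    p ^ (r - 1) ≤ m ∧ (r = m → m ≤ 2 ∧ (2 < p → m ≤ 1)) := by
  classical
  haveI := Fact.mk hp
  suffices hmain : p ^ (r - 1) ≤ m by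
    refine ⟨hmain, fun hrm => ?_⟩
    subst hrm
    have h2 : 2 ^ (r - 1) ≤ r := (Nat.pow_le_pow_left hp.two_le _).trans hmain
    have hr2 : r ≤ 2 := by
      by_contra hr3
      obtain ⟨k, rfl⟩ : ∃ k, r = k + 3 := ⟨r - 3, by omega⟩
      have : k + 1 ≤ 2 ^ k := Nat.lt_two_pow_self
      rw [show k + 3 - 1 = k + 2 by omega, pow_add] at h2
      omega
    refine ⟨hr2, fun hp3 => ?_⟩
    by_contra hr1
    obtain rfl : r = 2 := by omega
    simp at hmain
    omega
  by_contra hlt
  push Not at hlt
  obtain ⟨ω₀⟩ : Nonempty Ω := Fintype.card_pos_iff.mp (hcard ▸ pow_pos hp.pos m)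
  have hNcard : Nat.card N = p ^ m := by
    rw [← hcard, ← Nat.card_eq_fintype_card]
    haveI := hNtr
    refine Nat.card_congr (Equiv.ofBijective (fun n : N => n • ω₀) ⟨fun a b hab => ?_, fun x => ?_⟩)
    · have : b⁻¹ * a ∈ MulAction.stabilizer N ω₀ := by
        rw [MulAction.mem_stabilizer_iff, mul_smul]
        exact inv_smul_eq_iff.mpr hab
      rw [hNreg, Subgroup.mem_bot, inv_mul_eq_one] at this
      exact this.symm
    · exact MulAction.exists_smul_eq N ω₀ x
  -- split `g = n * h` with `h` fixing `ω₀`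
  obtain ⟨n, hn⟩ := hNtr.exists_smul_eq ω₀ (g • ω₀)
  set h := (n : G)⁻¹ * g with hh
  have hhfix : h • ω₀ = ω₀ := by
    rw [hh, mul_smul, ← hn]
    exact inv_smul_smul (n : G) ω₀
  have hgnh : g = n * h := by rw [hh, mul_inv_cancel_left]
  haveI := hNc
  letI : CommGroup N := { (inferInstance : Group N) with mul_comm := fun a b => mul_comm' a b }
  haveI : Finite (Additive N) := inferInstanceAs (Finite N)
  let θ : G →* AddMonoid.End (Additive N) :=
    { toFun := fun x => AddMonoidHom.mk'
        (fun v => Additive.ofMul ((MulAut.conjNormal x : MulAut N) (Additive.toMul v)))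
        (fun v w => map_mul (MulAut.conjNormal x : MulAut N) (Additive.toMul v) (Additive.toMul w))
      map_one' := AddMonoidHom.ext fun v =>
        congrArg Additive.ofMul (DFunLike.congr_fun (map_one (MulAut.conjNormal (G := G) (H := N))) (Additive.toMul v))
      map_mul' := fun x y => AddMonoidHom.ext fun v =>
        congrArg Additive.ofMul (DFunLike.congr_fun (map_mul (MulAut.conjNormal (G := G) (H := N)) x y) (Additive.toMul v)) }
  have hval : ∀ x (v : Additive N),
      ((Additive.toMul (θ x v) : N) : G) = x * ((Additive.toMul v : N) : G) * x⁻¹ := fun x v =>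
    MulAut.conjNormal_apply (H := N) x (Additive.toMul v)
  have hθn : θ (n : G) = 1 := AddMonoidHom.ext fun v => Additive.toMul.injective (Subtype.ext (by
    refine (hval _ v).trans ?_
    show _ = ((Additive.toMul v : N) : G)
    rw [mul_inv_eq_iff_eq_mul]
    exact congrArg Subtype.val (mul_comm n (Additive.toMul v))))
  have hθh : θ h = θ g := by conv_rhs => rw [hgnh, map_mul, hθn, one_mul]
  have hpr : θ g ^ p ^ r = 1 := by rw [← map_pow, ← hg, pow_orderOf_eq_one, map_one]
  obtain ⟨hk1, hk2⟩ := unipotent (V := Additive N) p (fun v => Additive.toMul.injective (by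
      rw [toMul_nsmul, toMul_zero]
      exact Subtype.ext (by simpa using hNp _ (Additive.toMul v).2))) (θ h) (hθh ▸ hpr) hNcard hlt
  set k := p ^ (r - 1)
  have hformula : ∀ i : ℕ, g ^ i =
      ((Additive.toMul ((∑ j ∈ Finset.range i, θ h ^ j) (Additive.ofMul n)) : N) : G) * h ^ i := by
    intro i
    induction i with
    | zero => simp
    | succ i ih =>
      have hS : (∑ j ∈ Finset.range (i + 1), θ h ^ j) (Additive.ofMul n) =
          (∑ j ∈ Finset.range i, θ h ^ j) (Additive.ofMul n) + (θ (h ^ i)) (Additive.ofMul n) := by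
        rw [map_pow, Finset.sum_range_succ]; rfl
      rw [pow_succ, ih, hS, toMul_add, Subgroup.coe_mul, hval, pow_succ h i, hgnh]
      simp only [toMul_ofMul]
      group
  have hgk : g ^ k = 1 := by
    rw [hformula, hk2]
    show (((1 : N)) : G) * h ^ k = 1
    rw [Subgroup.coe_one, one_mul]
    refine FaithfulSMul.eq_of_smul_eq_smul fun x : Ω => ?_
    obtain ⟨a, rfl⟩ := hNtr.exists_smul_eq ω₀ x
    have hfix : ∀ i : ℕ, h ^ i • ω₀ = ω₀ := fun i => by
      induction i with
      | zero => simp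
      | succ i ih => rw [pow_succ, mul_smul, hhfix, ih]
    rw [one_smul]
    show h ^ k • ((a : G) • ω₀) = (a : G) • ω₀
    have hc : h ^ k * (a : G) * (h ^ k)⁻¹ = a := by
      have := hval (h ^ k) (Additive.ofMul a)
      rw [map_pow, hk1] at this
      exact this.symm
    rw [← mul_smul, mul_inv_eq_iff_eq_mul.mp hc, mul_smul, hfix]
  have h1 := orderOf_dvd_of_pow_eq_one hgk
  rw [hg] at h1
  have := (Nat.pow_dvd_pow_iff_le_right hp.one_lt).mp h1
  omega

end Cfsg.Agent.S3508
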