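import Cfsg.Statements.S3511

set_option autoImplicit false
set_option linter.style.haveILetI false
open Cfsg

namespace Cfsg.Agent.S3511

/-- Let a finite group G act faithfully on a set Ω. If every element of G of square-free order has a regular cycle (an orbit of the cyclic group it generates with trivial stabilizer), then every element of G has a regular cycle. -/
theorem result {G : Type*} [Group G] [Finite G] {Ω : Type*} [MulAction G Ω] [FaithfulSMul G Ω]
    (h : ∀ g : G, Squarefree (orderOf g) → ∃ ω : Ω, MulAction.stabilizer (Subgroup.zpowers g) ω = ⊥) (g : G) :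
    ∃ ω : Ω, MulAction.stabilizer (Subgroup.zpowers g) ω = ⊥ := by
  classical
  set m := orderOf g
  have hm : 0 < m := orderOf_pos g
  set r := ∏ p ∈ m.primeFactors, p with hr
  have hrm : r ∣ m := Nat.prod_primeFactors_dvd m
  have hrsq : Squarefree r := by
    refine Finset.squarefree_prod_of_pairwise_isCoprime (fun p hp q hq hpq => ?_)
      (fun p hp => (Nat.prime_of_mem_primeFactors hp).squarefree)
    show IsRelPrime p q
    rw [← Nat.coprime_iff_isRelPrime]
    exact (Nat.coprime_primes (Nat.prime_of_mem_primeFactors hp)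
      (Nat.prime_of_mem_primeFactors hq)).mpr hpq
  have hord : orderOf (g ^ (m / r)) = r := by
    rw [orderOf_pow_of_dvd (Nat.div_pos (Nat.le_of_dvd hm hrm) (Nat.pos_of_dvd_of_pos hrm hm)).ne'
      (Nat.div_dvd_of_dvd hrm), Nat.div_div_self hrm hm.ne']
  obtain ⟨ω, hω⟩ := h (g ^ (m / r)) (by rw [hord]; exact hrsq)
  refine ⟨ω, (Subgroup.eq_bot_iff_forall _).mpr fun x hx => ?_⟩
  by_contra hne
  obtain ⟨p, hp, hpd⟩ := Nat.exists_prime_and_dvd (n := orderOf x) (by simpa using hne)
  obtain ⟨i, hi⟩ := Subgroup.mem_zpowers_iff.mp x.2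
  set y := x ^ (orderOf x / p) with hy
  have hyord : orderOf y = p := by
    rw [hy, orderOf_pow_of_dvd (Nat.div_pos (Nat.le_of_dvd (orderOf_pos x) hpd) hp.pos).ne'
      (Nat.div_dvd_of_dvd hpd), Nat.div_div_self hpd (orderOf_pos x).ne']
  have hyfix : y ∈ MulAction.stabilizer (Subgroup.zpowers g) ω := Subgroup.pow_mem _ hx _
  have hyg : (y : G) ∈ Subgroup.zpowers (g ^ (m / r)) := by
    obtain ⟨j, hj⟩ := Subgroup.mem_zpowers_iff.mp y.2
    have hpm : p ∣ m := hyord ▸ (Subgroup.orderOf_coe y ▸ hj ▸ orderOf_dvd_of_pow_eq_one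
      (x := g ^ j) (n := m) (by rw [← zpow_natCast, ← zpow_mul, mul_comm, zpow_mul, zpow_natCast,
        pow_orderOf_eq_one, one_zpow]))
    have hpr : p ∣ r := Finset.dvd_prod_of_mem _ (Nat.mem_primeFactors.mpr ⟨hp, hpm, hm.ne'⟩)
    have h1 : g ^ (j * (p : ℤ)) = 1 := by
      rw [zpow_mul, hj, zpow_natCast, ← hyord, ← Subgroup.orderOf_coe, pow_orderOf_eq_one]
    have h2 : (m : ℤ) ∣ j * p := orderOf_dvd_iff_zpow_eq_one.mpr h1
    have h3 : ((m / r : ℕ) : ℤ) ∣ j := by
      have h4 : ((m / p : ℕ) : ℤ) * p ∣ j * p := by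
        rwa [← Nat.cast_mul, Nat.div_mul_cancel hpm]
      exact (Int.natCast_dvd_natCast.mpr (Nat.div_dvd_div_left hrm hpr)).trans
        ((mul_dvd_mul_iff_right (by exact_mod_cast hp.ne_zero)).mp h4)
    obtain ⟨k, rfl⟩ := h3
    rw [← hj, zpow_mul, zpow_natCast]
    exact Subgroup.zpow_mem _ (Subgroup.mem_zpowers _) k
  have : (⟨(y : G), hyg⟩ : Subgroup.zpowers (g ^ (m / r))) ∈
      MulAction.stabilizer (Subgroup.zpowers (g ^ (m / r))) ω := hyfix
  rw [hω, Subgroup.mem_bot] at this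
  have hy1 : y = 1 := Subtype.ext (congrArg (fun z : Subgroup.zpowers (g ^ (m / r)) => (z : G)) this)
  rw [hy1, orderOf_one] at hyord
  exact hp.ne_one hyord.symm

end Cfsg.Agent.S3511
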