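import Cfsg.Statements.S3514

set_option autoImplicit false
set_option linter.style.haveILetI false
open Cfsg
open scoped Pointwise

namespace Cfsg.Agent.S3514

/-- The number of cosets of `S` met by a normal subgroup divides the index of `S`. -/
theorem relIndex_dvd_index_of_normal' {G : Type*} [Group G] [Finite G] (S K : Subgroup G) [K.Normal] :
    S.relIndex K ∣ S.index := by
  refine (dvd_of_eq ?_).trans (Subgroup.relIndex_dvd_index_of_le (le_sup_left : S ≤ S ⊔ K))
  have h1 := (S.subgroupOf K).index_mul_card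
  have h2 := (S.subgroupOf (S ⊔ K)).index_mul_card
  have h3 := (K.subgroupOf (S ⊔ K)).index_mul_card
  have h4 := (K.subgroupOf S).index_mul_card
  rw [Nat.card_congr (Subgroup.subgroupOfEquivOfLe (le_sup_left : S ≤ S ⊔ K)).toEquiv] at h2
  rw [Nat.card_congr (Subgroup.subgroupOfEquivOfLe (le_sup_right : K ≤ S ⊔ K)).toEquiv] at h3
  have h5 : (S.subgroupOf (S ⊔ K)).index = S.relIndex (S ⊔ K) := rfl
  have h6 : (K.subgroupOf (S ⊔ K)).index = K.relIndex S := Subgroup.relIndex_sup_right S K
  have h7 : Nat.card (S.subgroupOf K) = Nat.card (K.subgroupOf S) := by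
    rw [← Subgroup.card_map_of_injective (K := S.subgroupOf K) (f := K.subtype) K.subtype_injective,
      ← Subgroup.card_map_of_injective (K := K.subgroupOf S) (f := S.subtype) S.subtype_injective,
      Subgroup.subgroupOf_map_subtype, Subgroup.subgroupOf_map_subtype, inf_comm]
  apply Nat.eq_of_mul_eq_mul_right (Nat.card_pos (α := S))
  rw [← h5, h2, ← h3, h6]
  show (S.subgroupOf K).index * _ = (K.subgroupOf S).index * _
  rw [← h4, ← h1, h7]
  ring

/-- A supplement of a normal subgroup bounds indices. -/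
theorem index_dvd_mul {G : Type*} [Group G] [Finite G] (N H : Subgroup G) [N.Normal] (hsup : N ⊔ H = ⊤)
    (S : Subgroup G) : S.index ∣ Nat.card N * S.relIndex H := by
  rw [← Subgroup.relIndex_mul_index (le_sup_left : S ≤ S ⊔ N)]
  refine Nat.mul_dvd_mul ?_ ?_
  · have h := relIndex_dvd_index_of_normal' (S.subgroupOf (S ⊔ N)) (N.subgroupOf (S ⊔ N))
    have h2 := (N.subgroupOf (S ⊔ N)).index_mul_card
    have h3 := (S.subgroupOf (S ⊔ N)).index_mul_card
    rw [Nat.card_congr (Subgroup.subgroupOfEquivOfLe (le_sup_right : N ≤ S ⊔ N)).toEquiv,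
      ← h3, Nat.card_congr (Subgroup.subgroupOfEquivOfLe (le_sup_left : S ≤ S ⊔ N)).toEquiv,
      show (N.subgroupOf (S ⊔ N)).index = N.relIndex S from Subgroup.relIndex_sup_right S N] at h2
    have h4 := (N.subgroupOf S).index_mul_card
    refine ⟨Nat.card (N.subgroupOf S), Nat.eq_of_mul_eq_mul_left
      (Nat.pos_of_ne_zero Subgroup.index_ne_zero_of_finite : 0 < (N.subgroupOf S).index) ?_⟩
    show N.relIndex S * Nat.card N = N.relIndex S * _
    rw [h2, show S.relIndex (S ⊔ N) = (S.subgroupOf (S ⊔ N)).index from rfl]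
    conv_lhs => rw [← h4]
    simp only [Subgroup.relIndex]
    ring
  · refine (dvd_of_eq ?_).trans (Subgroup.relIndex_dvd_of_le_left H (le_sup_left : S ≤ S ⊔ N))
    set L := S ⊔ N
    refine Nat.card_congr (Equiv.ofBijective (fun q => Quotient.liftOn' q (fun h : H => (QuotientGroup.mk (h : G) : G ⧸ L))
      fun a b hab => QuotientGroup.eq.mpr ?_) ⟨?_, ?_⟩).symm
    · exact (QuotientGroup.leftRel_apply.mp hab : a⁻¹ * b ∈ L.subgroupOf H)
    · intro a b
      induction a using QuotientGroup.induction_on
      induction b using QuotientGroup.induction_on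
      intro hab
      exact QuotientGroup.eq.mpr ((QuotientGroup.eq (s := L)).mp hab)
    · intro q
      induction q using QuotientGroup.induction_on with | H g => ?_
      have hg : g ∈ ((H : Set G) * (N : Set G)) := by
        rw [← Subgroup.mul_normal, sup_comm, hsup]; trivial
      obtain ⟨h, hh, n, hn, rfl⟩ := hg
      refine ⟨QuotientGroup.mk (⟨h, hh⟩ : H), QuotientGroup.eq.mpr ?_⟩
      rw [inv_mul_cancel_left]
      exact Subgroup.mem_sup_right hn

/-- Let p be a prime, V a finite vector space over the field with p elements, and H a group of linear transformations of V all of whose orbits on V have size coprime to p. (i) Every normal subgroup K of H has all its orbits on V of size coprime to p. (ii) If N is a group of linear transformations of V of order coprime to p that is normalized by H, then the group generated by N and H has all its orbits on V of size coprime to p. -/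
theorem result (p : ℕ) [Fact p.Prime] {V : Type*} [AddCommGroup V] [Module (ZMod p) V] [Finite V]
    (H : Subgroup (V ≃ₗ[ZMod p] V)) (hH : ∀ v : V, ¬ p ∣ Nat.card {u : V | ∃ h ∈ H, h v = u}) :
    (∀ K : Subgroup (V ≃ₗ[ZMod p] V), K ≤ H → H ≤ Subgroup.normalizer (K : Set (V ≃ₗ[ZMod p] V)) →
        ∀ v : V, ¬ p ∣ Nat.card {u : V | ∃ k ∈ K, k v = u}) ∧
    (∀ N : Subgroup (V ≃ₗ[ZMod p] V), ¬ p ∣ Nat.card N → H ≤ Subgroup.normalizer (N : Set (V ≃ₗ[ZMod p] V)) →
        ∀ v : V, ¬ p ∣ Nat.card {u : V | ∃ x ∈ N ⊔ H, x v = u}) := by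
  classical
  haveI : Finite (V ≃ₗ[ZMod p] V) := DFunLike.finite _
  have key : ∀ (K : Subgroup (V ≃ₗ[ZMod p] V)) (v : V),
      Nat.card {u : V | ∃ h ∈ K, h v = u} = (MulAction.stabilizer K v).index := by
    intro K v
    rw [MulAction.index_stabilizer, ← Nat.card_coe_set_eq]
    refine Nat.card_congr (Equiv.setCongr (Set.ext fun u => ⟨?_, ?_⟩))
    · rintro ⟨h, hh, rfl⟩
      exact ⟨⟨h, hh⟩, rfl⟩
    · rintro ⟨⟨h, hh⟩, rfl⟩
      exact ⟨h, hh, rfl⟩
  refine ⟨fun K hKH hnorm v hdvd => hH v ?_, fun N hN hnorm v hdvd => ?_⟩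
  · rw [key] at hdvd ⊢
    haveI : (K.subgroupOf H).Normal := Subgroup.normal_subgroupOf_of_le_normalizer hnorm
    set S := MulAction.stabilizer H v
    have h1 : (MulAction.stabilizer K v).index = S.relIndex (K.subgroupOf H) := by
      rw [Subgroup.relIndex, ← Subgroup.index_comap_of_surjective _
        (f := (Subgroup.subgroupOfEquivOfLe hKH).toMonoidHom) (Subgroup.subgroupOfEquivOfLe hKH).surjective]
      rfl
    refine hdvd.trans ?_
    rw [h1]
    exact relIndex_dvd_index_of_normal' S (K.subgroupOf H)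
  · rw [key] at hdvd
    set M := N ⊔ H with hM
    set S := MulAction.stabilizer M v
    haveI : (N.subgroupOf M).Normal :=
      Subgroup.normal_subgroupOf_of_le_normalizer (sup_le Subgroup.le_normalizer hnorm)
    have hsup : N.subgroupOf M ⊔ H.subgroupOf M = ⊤ := by
      rw [← Subgroup.subgroupOf_sup le_sup_left le_sup_right, Subgroup.subgroupOf_self]
    have := index_dvd_mul (N.subgroupOf M) (H.subgroupOf M) hsup S
    rcases (Fact.out : p.Prime).dvd_mul.mp (hdvd.trans this) with h | h
    · refine hN (h.trans ?_)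
      rw [Nat.card_congr (Subgroup.subgroupOfEquivOfLe (le_sup_left : N ≤ M)).toEquiv]
    · refine hH v ?_
      rw [key]
      refine h.trans (dvd_of_eq ?_)
      rw [← Subgroup.index_comap_of_surjective (MulAction.stabilizer H v)
        (f := (Subgroup.subgroupOfEquivOfLe (le_sup_right : H ≤ M)).toMonoidHom)
        (Subgroup.subgroupOfEquivOfLe (le_sup_right : H ≤ M)).surjective, Subgroup.relIndex]
      rfl

end Cfsg.Agent.S3514
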