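import Cfsg.Statements.S3515

import Cfsg.Agent.Lib.ThreeClosed.Affine

set_option autoImplicit false
set_option linter.style.haveILetI false
open Cfsg

namespace Cfsg.Agent.S3515

/-- Every primitive affine permutation group of degree p² is 3-closed. Let p be a prime and G a group of permutations of the plane V = F_p² consisting of affine maps x ↦ Ax + b, containing all translations, and acting primitively on V. Then any permutation σ of V that agrees on every triple of points with some element of G (σ preserves every G-orbit on ordered triples) already lies in G. -/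
theorem result (p : ℕ) [Fact p.Prime] (G : Subgroup (Equiv.Perm (Fin 2 → ZMod p)))
    (haff : (G : Set (Equiv.Perm (Fin 2 → ZMod p))) ⊆ {τ : Equiv.Perm (Fin 2 → ZMod p) | ∃ (A : (Fin 2 → ZMod p) ≃ₗ[ZMod p] (Fin 2 → ZMod p)) (b : Fin 2 → ZMod p), ∀ x, τ x = A x + b})
    (htrans : ∀ b : Fin 2 → ZMod p, ∃ g ∈ G, ∀ x, g x = x + b) (hprim : MulAction.IsPreprimitive G (Fin 2 → ZMod p))
    (σ : Equiv.Perm (Fin 2 → ZMod p)) (hσ : (∀ t : Fin 3 → (Fin 2 → ZMod p), ∃ g ∈ G, ∀ i, σ (t i) = g (t i))) : σ ∈ G := by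
  classical
  have hp := (Fact.out : p.Prime)
  -- normalise so that the origin is fixed
  obtain ⟨τ, hτ, hτ'⟩ := htrans (σ 0)
  suffices h : τ⁻¹ * σ ∈ G by simpa using G.mul_mem hτ h
  have hσ' : ∀ t : Fin 3 → (Fin 2 → ZMod p), ∃ g ∈ G, ∀ i, (τ⁻¹ * σ) (t i) = g (t i) := fun t => by
    obtain ⟨g, hg, hgt⟩ := hσ t
    exact ⟨τ⁻¹ * g, G.mul_mem (G.inv_mem hτ) hg, fun i => by simp [hgt i]⟩
  have hρ0 : (τ⁻¹ * σ) 0 = 0 := by
    rw [Equiv.Perm.mul_apply, Equiv.Perm.inv_eq_iff_eq, hτ', zero_add]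
  generalize τ⁻¹ * σ = ρ at hσ' hρ0
  let e₁ : Fin 2 → ZMod p := Pi.single 0 1
  let e₂ : Fin 2 → ZMod p := Pi.single 1 1
  obtain ⟨g, hg, hg3⟩ := hσ' ![0, e₁, e₂]
  obtain ⟨A, b, hA⟩ := haff hg
  have hb : b = 0 := by
    have := hg3 0
    simp [hρ0, hA] at this
    exact this.symm
  subst hb
  have hg0 : g 0 = 0 := by simp [hA]
  have h1 : ρ e₁ = g e₁ := hg3 1
  have h2 : ρ e₂ = g e₂ := hg3 2
  suffices hρ : ρ = g from hρ ▸ hg
  by_cases hp2 : p = 2
  · subst hp2
    have hcase : ∀ x : Fin 2 → ZMod 2, x = 0 ∨ x = e₁ ∨ x = e₂ ∨ x = e₁ + e₂ := by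
      have hz : ∀ a : ZMod 2, a = 0 ∨ a = 1 := fun a => by
        fin_cases a <;> first | exact Or.inl rfl | exact Or.inr rfl
      intro x
      rcases hz (x 0) with h | h <;> rcases hz (x 1) with h' | h' <;>
        simp [funext_iff, Fin.forall_fin_two, e₁, e₂, h, h']
    refine Equiv.ext fun x => ?_
    rcases hcase x with rfl | rfl | rfl | rfl
    · rw [hρ0, hg0]
    · exact h1
    · exact h2
    · obtain ⟨y, hy⟩ := g.surjective (ρ (e₁ + e₂))
      rcases hcase y with rfl | rfl | rfl | rfl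
      · rw [hg0, ← hρ0] at hy
        exact absurd (ρ.injective hy) (by simp [funext_iff, Fin.forall_fin_two, e₁, e₂])
      · rw [← h1] at hy
        exact absurd (ρ.injective hy) (by simp [funext_iff, Fin.forall_fin_two, e₁, e₂])
      · rw [← h2] at hy
        exact absurd (ρ.injective hy) (by simp [funext_iff, Fin.forall_fin_two, e₁, e₂])
      · exact hy.symm
  · obtain ⟨B, c, hB⟩ := ThreeClosed.exists_affine_of_three hp2 ρ ρ.bijective fun x y z => by
      obtain ⟨k, hk, hk3⟩ := hσ' ![x, y, z]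
      obtain ⟨C, d, hC⟩ := haff hk
      exact ⟨C.toLinearMap, d, (hk3 0).trans (hC x), (hk3 1).trans (hC y), (hk3 2).trans (hC z)⟩
    have hc : c = 0 := by simpa [hρ0] using (hB 0).symm
    subst hc
    have hlin : (B : (Fin 2 → ZMod p) →ₗ[ZMod p] (Fin 2 → ZMod p)) = A := by
      apply (Pi.basisFun (ZMod p) (Fin 2)).ext
      intro i
      fin_cases i
      · simpa [hB, hA, e₁] using h1
      · simpa [hB, hA, e₂] using h2
    refine Equiv.ext fun x => ?_
    rw [hB, hA]
    exact congrArg (· + 0) (LinearMap.congr_fun hlin x)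

end Cfsg.Agent.S3515
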