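import Cfsg.Statements.S3516

import Cfsg.Agent.Lib.ThreeClosed.Affine

set_option autoImplicit false
set_option linter.style.haveILetI false
open Cfsg

namespace Cfsg.Agent.S3516

/-- Let p be an odd prime, d ≥ 3, and G a group of affine permutations x ↦ Ax + b of V = F_p^d containing all translations and all maps x ↦ Ax with A of determinant 1. Then the 3-closure of G is the full affine group: a permutation σ of V agrees on every triple of points with some element of G if and only if σ is an affine map. -/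
theorem result (p : ℕ) [Fact p.Prime] (hp : p ≠ 2) (d : ℕ) (hd : 3 ≤ d) (G : Subgroup (Equiv.Perm (Fin d → ZMod p)))
    (haff : (G : Set (Equiv.Perm (Fin d → ZMod p))) ⊆ {τ : Equiv.Perm (Fin d → ZMod p) | ∃ (A : (Fin d → ZMod p) ≃ₗ[ZMod p] (Fin d → ZMod p)) (b : Fin d → ZMod p), ∀ x, τ x = A x + b})
    (htrans : ∀ b : Fin d → ZMod p, ∃ g ∈ G, ∀ x, g x = x + b)
    (hsl : ∀ A : (Fin d → ZMod p) ≃ₗ[ZMod p] (Fin d → ZMod p), LinearMap.det (A : (Fin d → ZMod p) →ₗ[ZMod p] (Fin d → ZMod p)) = 1 → ∃ g ∈ G, ∀ x, g x = A x)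
    (σ : Equiv.Perm (Fin d → ZMod p)) :
    (∀ t : Fin 3 → (Fin d → ZMod p), ∃ g ∈ G, ∀ i, σ (t i) = g (t i)) ↔ σ ∈ {τ : Equiv.Perm (Fin d → ZMod p) | ∃ (A : (Fin d → ZMod p) ≃ₗ[ZMod p] (Fin d → ZMod p)) (b : Fin d → ZMod p), ∀ x, τ x = A x + b} := by
  classical
  constructor
  · intro h
    exact ThreeClosed.exists_affine_of_three hp σ σ.bijective fun x y z => by
      obtain ⟨k, hk, hk3⟩ := h ![x, y, z]
      obtain ⟨C, d', hC⟩ := haff hk
      exact ⟨C.toLinearMap, d', (hk3 0).trans (hC x), (hk3 1).trans (hC y), (hk3 2).trans (hC z)⟩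
  · rintro ⟨A, b, hA⟩ t
    set W := Submodule.span (ZMod p) ({t 1 - t 0, t 2 - t 0} : Set (Fin d → ZMod p))
    have hWtop : W < ⊤ := by
      refine lt_top_iff_ne_top.mpr fun hW => ?_
      have h1 : Module.finrank (ZMod p) W ≤ 2 :=
        (finrank_span_le_card _).trans (by rw [Set.toFinset_insert, Set.toFinset_singleton]; exact Finset.card_le_two)
      rw [hW, finrank_top, Module.finrank_fin_fun] at h1
      omega
    obtain ⟨f, hf, hfW⟩ := Submodule.exists_dual_map_eq_bot_of_lt_top hWtop inferInstance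
    obtain ⟨v, hv⟩ : ∃ v, f v ≠ 0 := by
      by_contra hcon
      push Not at hcon
      exact hf (LinearMap.ext hcon)
    set c : ZMod p := LinearMap.det (A : (Fin d → ZMod p) →ₗ[ZMod p] (Fin d → ZMod p))
    have hc : c ≠ 0 := (LinearEquiv.isUnit_det' A).ne_zero
    set T := LinearMap.transvection f (((c⁻¹ - 1) * (f v)⁻¹) • v) with hTdef
    have hT : LinearMap.det T = c⁻¹ := by
      rw [hTdef, LinearMap.transvection.det, map_smul, smul_eq_mul, inv_mul_cancel_right₀ hv,
        add_sub_cancel]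
    have hfix : ∀ w ∈ W, T w = w := by
      intro w hw
      have : f w = 0 := (Submodule.mem_bot _).mp (hfW ▸ Submodule.mem_map_of_mem hw)
      simp [hTdef, LinearMap.transvection.apply, this]
    have hTunit : IsUnit (LinearMap.det T) := by rw [hT]; exact (inv_ne_zero hc).isUnit
    let B : (Fin d → ZMod p) ≃ₗ[ZMod p] (Fin d → ZMod p) :=
      (LinearEquiv.ofBijective T ((Module.End.isUnit_iff T).mp ((LinearMap.isUnit_iff_isUnit_det T).mpr hTunit))).trans A
    have hdet : LinearMap.det (B : (Fin d → ZMod p) →ₗ[ZMod p] (Fin d → ZMod p)) = 1 := by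
      show LinearMap.det ((A : (Fin d → ZMod p) →ₗ[ZMod p] (Fin d → ZMod p)) ∘ₗ T) = 1
      rw [LinearMap.det_comp, hT]
      exact mul_inv_cancel₀ hc
    obtain ⟨g, hg, hgB⟩ := hsl B hdet
    obtain ⟨τ, hτ, hτb⟩ := htrans (σ (t 0) - B (t 0))
    refine ⟨τ * g, G.mul_mem hτ hg, fun i => ?_⟩
    rw [Equiv.Perm.mul_apply, hτb, hgB]
    have key : B (t i - t 0) = A (t i - t 0) := by
      show A (T (t i - t 0)) = A (t i - t 0)
      rw [hfix]
      fin_cases i
      · simp
      · exact Submodule.subset_span (Or.inl rfl)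
      · exact Submodule.subset_span (Or.inr rfl)
    rw [map_sub, map_sub, sub_eq_iff_eq_add] at key
    rw [key, hA (t 0), hA (t i)]
    abel

end Cfsg.Agent.S3516
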