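import Cfsg.Statements.S3517

set_option autoImplicit false
open Cfsg

namespace Cfsg.Agent.S3517

/-- For d ≥ 3, the 3-closure of the affine group AGL_d(2) acting on F_2^d is the full symmetric group: every permutation of F_2^d agrees on every ordered triple of points with some affine map (AGL_d(2) is 3-transitive). -/
theorem result (d : ℕ) (hd : 3 ≤ d) (σ : Equiv.Perm (Fin d → ZMod 2)) (t : Fin 3 → (Fin d → ZMod 2)) :
    ∃ (A : (Fin d → ZMod 2) ≃ₗ[ZMod 2] (Fin d → ZMod 2)) (b : Fin d → ZMod 2), ∀ i, σ (t i) = A (t i) + b := by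
  classical
  have key : ∀ u w u' w' : Fin d → ZMod 2, (u = 0 ↔ u' = 0) → (w = 0 ↔ w' = 0) → (u = w ↔ u' = w') →
      ∃ A : (Fin d → ZMod 2) ≃ₗ[ZMod 2] (Fin d → ZMod 2), A u = u' ∧ A w = w' := by
    intro u w u' w' h1 h2 h3
    let f := (LinearMap.toSpanSingleton (ZMod 2) _ u).coprod (LinearMap.toSpanSingleton (ZMod 2) _ w)
    let f' := (LinearMap.toSpanSingleton (ZMod 2) _ u').coprod (LinearMap.toSpanSingleton (ZMod 2) _ w')
    have hz : ∀ a : ZMod 2, a = 0 ∨ a = 1 := by decide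
    have hneg : ∀ a b : Fin d → ZMod 2, a + b = 0 ↔ a = b := fun a b => by
      rw [add_eq_zero_iff_eq_neg, ZModModule.neg_eq_self]
    have hker : LinearMap.ker f = LinearMap.ker f' := by
      ext ⟨a, b⟩
      rcases hz a with rfl | rfl <;> rcases hz b with rfl | rfl <;>
        simp [f, f', hneg, h1, h2, h3]
    let e : LinearMap.range f ≃ₗ[ZMod 2] LinearMap.range f' :=
      f.quotKerEquivRange.symm ≪≫ₗ Submodule.quotEquivOfEq _ _ hker ≪≫ₗ f'.quotKerEquivRange
    obtain ⟨A, hA⟩ := Submodule.exists_linearEquiv_restrict_eq e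
    have he : ∀ c, A (f c) = f' c := fun c => by
      rw [← hA ⟨f c, c, rfl⟩]
      have : f.quotKerEquivRange.symm ⟨f c, c, rfl⟩ = Submodule.Quotient.mk c :=
        (LinearEquiv.symm_apply_eq _).mpr (Subtype.ext (by simp))
      simp [e, this]
    exact ⟨A, by simpa [f, f'] using he (1, 0), by simpa [f, f'] using he (0, 1)⟩
  obtain ⟨A, hA1, hA2⟩ := key (t 1 - t 0) (t 2 - t 0) (σ (t 1) - σ (t 0)) (σ (t 2) - σ (t 0))
    (by simp [sub_eq_zero]) (by simp [sub_eq_zero]) (by simp)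
  refine ⟨A, σ (t 0) - A (t 0), fun i => ?_⟩
  rw [map_sub] at hA1 hA2
  fin_cases i
  · simp
  · show σ (t 1) = A (t 1) + (σ (t 0) - A (t 0))
    rw [← sub_add_cancel (σ (t 1)) (σ (t 0)), ← hA1]; abel
  · show σ (t 2) = A (t 2) + (σ (t 0) - A (t 0))
    rw [← sub_add_cancel (σ (t 2)) (σ (t 0)), ← hA2]; abel

end Cfsg.Agent.S3517
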