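import Cfsg.Statements.S3518

import Cfsg.Agent.Lib.Perm.PrimeDegree

set_option autoImplicit false
set_option linter.style.haveILetI false
open Cfsg

namespace Cfsg.Agent.S3518

open Perm.PrimeDegree Polynomial in
/-- A proper subgroup of the one-dimensional affine group containing the translations is 2-closed. -/
theorem closed {p : ℕ} [Fact p.Prime] (G : Subgroup (Equiv.Perm (ZMod p))) (hG : G ≤ Cfsg.affineGroup (ZMod p))
    (htrans : ∀ b : ZMod p, ∃ g ∈ G, ∀ x, g x = x + b) (hne : G ≠ Cfsg.affineGroup (ZMod p))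
    (σ : Equiv.Perm (ZMod p)) (hσ : ∀ t : Fin 2 → ZMod p, ∃ g ∈ G, ∀ i, σ (t i) = g (t i)) : σ ∈ G := by
  classical
  have hp := (Fact.out : p.Prime)
  set M : Subgroup (ZMod p)ˣ := G.comap (MulAction.toPermHom (ZMod p)ˣ (ZMod p))
  have hGiff : ∀ g : Equiv.Perm (ZMod p), ∀ (a : (ZMod p)ˣ) (b : ZMod p), (∀ x, g x = (a : ZMod p) * x + b) →
      (g ∈ G ↔ a ∈ M) := by
    intro g a b hg
    obtain ⟨τ, hτ, hτb⟩ := htrans b
    have : g = τ * MulAction.toPermHom (ZMod p)ˣ (ZMod p) a := Equiv.ext fun x => by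
      simp [hg, hτb, Units.smul_def]
    rw [this]
    exact G.mul_mem_cancel_left hτ
  have hMtop : M ≠ ⊤ := fun h => hne (le_antisymm hG fun g hg => by
    obtain ⟨a, b, hab⟩ := hg
    exact (hGiff g a b hab).mpr (h ▸ Subgroup.mem_top a))
  set s := Nat.card M with hs
  have hs0 : 0 < s := Nat.card_pos
  have h2s : 2 * s + 1 ≤ p := by
    have hidx : 2 ≤ M.index := by
      have := M.index_ne_zero_of_finite
      have : M.index ≠ 1 := fun h => hMtop (Subgroup.index_eq_one.mp h)
      omega
    have := M.index_mul_card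
    rw [Nat.card_eq_fintype_card (α := (ZMod p)ˣ), ZMod.card_units, ← hs] at this
    have := Nat.mul_le_mul_right s hidx
    have := hp.two_le
    omega
  have hpow : ∀ x y, (σ x - σ y) ^ s = (x - y) ^ s := by
    intro x y
    obtain ⟨g, hg, hgt⟩ := hσ ![x, y]
    obtain ⟨a, b, hab⟩ := hG hg
    have hx : σ x = g x := hgt 0
    have hy : σ y = g y := hgt 1
    have ha : (a : ZMod p) ^ s = 1 := by
      have h1 : (⟨a, (hGiff g a b hab).mp hg⟩ : M) ^ s = 1 := pow_card_eq_one'
      rw [← Units.val_pow_eq_pow_val, show a ^ s = 1 from congrArg Subtype.val h1]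
      rfl
    rw [hx, hy, hab, hab, show (a : ZMod p) * x + b - ((a : ZMod p) * y + b) = a * (x - y) by ring,
      mul_pow, ha, one_mul]
  -- the translates of `x ^ s` span all polynomial functions of degree at most `s`
  set W : Submodule (ZMod p) (ZMod p → ZMod p) :=
    Submodule.span (ZMod p) (Set.range fun c : ZMod p => fun x => (x - c) ^ s) with hW
  have hWshift : ∀ f ∈ W, (fun x => f (x - 1)) ∈ W := by
    intro f hf
    induction hf using Submodule.span_induction with
    | mem f hf =>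
      obtain ⟨c, rfl⟩ := hf
      exact Submodule.subset_span ⟨c + 1, funext fun x => by
        show (x - (c + 1)) ^ s = (x - 1 - c) ^ s
        ring⟩
    | zero => exact W.zero_mem
    | add f g _ _ hf hg => exact W.add_mem hf hg
    | smul a f _ hf => exact W.smul_mem a hf
  obtain ⟨hrp, hWeq⟩ := eq_polyFun hWshift
  set r := Module.finrank (ZMod p) W
  have hinc : ∀ x : ZMod p, (inc x : ZMod p) = x := fun x => by simp [inc]
  have hrlow : s + 1 ≤ r := by
    have hmem : (fun x : ZMod p => x ^ s) ∈ W := Submodule.subset_span ⟨0, funext fun x => by simp⟩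
    rw [hWeq, mem_polyFun_iff] at hmem
    obtain ⟨P, hPd, hP⟩ := hmem
    by_contra hlt
    have hz : evalFun p (ZMod p) (X ^ s - P) = 0 := funext fun x => by
      have := hP x
      rw [hinc] at this
      simp [evalFun_apply, hinc, ← this]
    have hPs : P.degree < (s : ℕ) := hPd.trans_le (by exact_mod_cast (show r ≤ s by omega))
    have h0 := eq_zero_of_evalFun_eq_zero (p := p) ((degree_sub_le _ _).trans_lt (max_lt
      (by rw [degree_X_pow]; exact_mod_cast (show s < p by omega))
      (hPs.trans_le (by exact_mod_cast (show s ≤ p by omega))))) hz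
    rw [sub_eq_zero] at h0
    rw [← h0, degree_X_pow] at hPs
    exact lt_irrefl _ hPs
  have hWle : W ≤ polyFun p (ZMod p) (s + 1) := by
    refine Submodule.span_le.mpr ?_
    rintro _ ⟨c, rfl⟩
    refine mem_polyFun_iff.mpr ⟨(X - C c) ^ s, ?_, fun x => by simp [hinc]⟩
    rw [degree_pow, degree_X_sub_C, nsmul_one]
    exact_mod_cast Nat.lt_succ_self s
  have hrhigh : r ≤ s + 1 :=
    (Submodule.finrank_mono hWle).trans (finrank_polyFun (by omega)).le
  obtain ⟨a, b, hab⟩ := affine_of_preserves (K := ZMod p) (r := r) (by omega) (by omega) σ fun f hf => by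
    rw [← hWeq] at hf ⊢
    induction hf using Submodule.span_induction with
    | mem f hf =>
      obtain ⟨c, rfl⟩ := hf
      refine Submodule.subset_span ⟨σ.symm c, funext fun x => ?_⟩
      have := hpow x (σ.symm c)
      rw [Equiv.apply_symm_apply] at this
      exact this.symm
    | zero => exact W.zero_mem
    | add f g _ _ hf hg => exact W.add_mem hf hg
    | smul a f _ hf => exact W.smul_mem a hf
  obtain ⟨g, hg, hgt⟩ := hσ ![0, 1]
  obtain ⟨a', b', hab'⟩ := hG hg
  have h0 : σ 0 = g 0 := hgt 0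
  have h1 : σ 1 = g 1 := hgt 1
  rw [hab, hab'] at h0 h1
  have : σ = g := Equiv.ext fun x => by
    rw [hab, hab']
    linear_combination x * h1 + (1 - x) * h0
  rwa [this]

/-- Closures of subgroups of the one-dimensional affine group. Let p be a prime and G a group of permutations of F_p lying in the affine group AGL₁(p) = {x ↦ ax + b, a ≠ 0} and containing all translations. (1) If G is a proper subgroup of AGL₁(p), then G is 2-closed: a permutation of F_p agreeing on every ordered pair of points with some element of G lies in G. (2) Every permutation of F_p agrees on every ordered pair with some element of AGL₁(p) (the 2-closure of AGL₁(p) is the symmetric group). (3) AGL₁(p) is 3-closed: a permutation agreeing on every ordered triple with some affine map is affine. -/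
theorem result (p : ℕ) [Fact p.Prime] (G : Subgroup (Equiv.Perm (ZMod p))) (hG : G ≤ Cfsg.affineGroup (ZMod p))
    (htrans : ∀ b : ZMod p, ∃ g ∈ G, ∀ x, g x = x + b) :
    (G ≠ Cfsg.affineGroup (ZMod p) → ∀ σ : Equiv.Perm (ZMod p), (∀ t : Fin 2 → ZMod p, ∃ g ∈ G, ∀ i, σ (t i) = g (t i)) → σ ∈ G) ∧
    (∀ σ : Equiv.Perm (ZMod p), (∀ t : Fin 2 → ZMod p, ∃ g ∈ Cfsg.affineGroup (ZMod p), ∀ i, σ (t i) = g (t i))) ∧
    (∀ σ : Equiv.Perm (ZMod p), (∀ t : Fin 3 → ZMod p, ∃ g ∈ Cfsg.affineGroup (ZMod p), ∀ i, σ (t i) = g (t i)) → σ ∈ Cfsg.affineGroup (ZMod p)) := by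
  classical
  have hp := (Fact.out : p.Prime)
  refine ⟨fun hne σ hσ => closed G hG htrans hne σ hσ, fun σ t => ?_, fun σ hσ => ?_⟩
  · by_cases h : t 0 = t 1
    · refine ⟨Equiv.addRight (σ (t 0) - t 0), ⟨1, σ (t 0) - t 0, fun x => by simp⟩, fun i => ?_⟩
      fin_cases i
      · simp
      · simp [← h]
    · have h' : t 1 - t 0 ≠ 0 := sub_ne_zero.mpr (Ne.symm h)
      have ha : (σ (t 1) - σ (t 0)) / (t 1 - t 0) ≠ 0 :=
        div_ne_zero (sub_ne_zero.mpr (σ.injective.ne (Ne.symm h))) h'
      set a : (ZMod p)ˣ := Units.mk0 _ ha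
      refine ⟨(MulAction.toPermHom (ZMod p)ˣ (ZMod p) a).trans (Equiv.addRight (σ (t 0) - (a : ZMod p) * t 0)),
        ⟨a, σ (t 0) - (a : ZMod p) * t 0, fun x => by simp [Units.smul_def]⟩, fun i => ?_⟩
      show σ (t i) = (a : ZMod p) * t i + (σ (t 0) - (a : ZMod p) * t 0)
      have key : (a : ZMod p) * (t 1 - t 0) = σ (t 1) - σ (t 0) := div_mul_cancel₀ _ h'
      fin_cases i
      · show σ (t 0) = _; simp
      · show σ (t 1) = (a : ZMod p) * t 1 + _
        linear_combination -key
  · obtain ⟨g, ⟨a, b, hg⟩, hgt⟩ := hσ ![0, 1, 1]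
    have h0 : σ 0 = g 0 := hgt 0
    have h1 : σ 1 = g 1 := hgt 1
    refine ⟨a, b, fun z => ?_⟩
    obtain ⟨k, ⟨c, e, hk⟩, hkt⟩ := hσ ![0, 1, z]
    have e0 : σ 0 = k 0 := hkt 0
    have e1 : σ 1 = k 1 := hkt 1
    have ez : σ z = k z := hkt 2
    rw [hg] at h0 h1
    rw [hk] at e0 e1 ez
    linear_combination ez + z * h1 - z * h0 - z * e1 + z * e0 + h0 - e0

end Cfsg.Agent.S3518
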