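import Cfsg.Statements.S3520
import Cfsg.Agent.Lib.Socle.DerangementClasses
import Cfsg.Agent.Lib.Perm.Transitive

/-!
Two classes of derangements in a primitive group that is not almost simple.
-/

set_option autoImplicit false
open Cfsg

namespace Cfsg.Agent.S3520

open Subgroup MulAction Socle

theorem result {G : Type*} [Group G] [Finite G] {Ω : Type*} [Fintype Ω] [MulAction G Ω] [FaithfulSMul G Ω] (hΩ : 2 ≤ Fintype.card Ω) (hprim : MulAction.IsPreprimitive G Ω) (hnas : ¬ ∃ T : Subgroup G, T.Normal ∧ IsSimpleGroup T ∧ ¬ IsMulCommutative T ∧ Subgroup.centralizer (T : Set G) = ⊥)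
    (hκ : Nat.card {c : ConjClasses G // ∃ g : G, ConjClasses.mk g = c ∧ ∀ ω : Ω, g • ω ≠ ω} = 2) (α : Ω) :
    (Fintype.card Ω = 3 ∧ Nat.card G = 3) ∨
    ((∃ N : Subgroup G, N.Normal ∧ N ≠ ⊥ ∧ IsMulCommutative N ∧ ∀ ω : Ω, MulAction.stabilizer N ω = ⊥) ∧ (∀ g : G, g ≠ 1 → Nat.card (MulAction.fixedBy Ω g) ≤ 1) ∧ ¬ 2 ∣ Fintype.card Ω ∧
        2 * Nat.card (MulAction.stabilizer G α) = Fintype.card Ω - 1) ∨
    ((∃ N : Subgroup G, N.Normal ∧ N ≠ ⊥ ∧ IsMulCommutative N ∧ ∀ ω : Ω, MulAction.stabilizer N ω = ⊥) ∧ MulAction.IsMultiplyPretransitive G Ω 2 ∧ ∃ g : G, g ≠ 1 ∧ 2 ≤ Nat.card (MulAction.fixedBy Ω g)) := by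
  classical
  haveI := hprim
  haveI : Nontrivial Ω := Fintype.one_lt_card_iff_nontrivial.mp (by omega)
  have hΩ' : 2 ≤ Nat.card Ω := by rw [Nat.card_eq_fintype_card]; omega
  haveI : Nontrivial G := by
    obtain ⟨a, b, hab⟩ := exists_pair_ne Ω
    obtain ⟨g, hg⟩ := exists_smul_eq G a b
    exact ⟨⟨g, 1, fun e => hab (by rw [← hg, e, one_smul])⟩⟩
  obtain ⟨N, hN, hne, hmin⟩ := exists_minimal_normal (G := G)
  haveI := hN
  by_cases hab : IsMulCommutative N
  swap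
  · have := three_classes_of_nonabelian (α := Ω) hnas hne hmin hab
    change 3 ≤ Nat.card {c : ConjClasses G // ∃ g : G, ConjClasses.mk g = c ∧ ∀ ω : Ω, g • ω ≠ ω} at this
    omega
  haveI := hab
  obtain ⟨htr, hreg, -⟩ := Perm.regular_of_abelian_normal (α := Ω) hne
  haveI := htr
  have hNex : ∃ N : Subgroup G, N.Normal ∧ N ≠ ⊥ ∧ IsMulCommutative N ∧
      ∀ ω : Ω, MulAction.stabilizer N ω = ⊥ := ⟨N, hN, hne, hab, hreg⟩
  have hderN : ∀ x ∈ N, x ≠ 1 → ∀ ω : Ω, x • ω ≠ ω := fun x hx hx1 ω hω =>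
    hx1 (Perm.stabilizer_subgroup_eq_bot_iff.1 (hreg ω) x hx hω)
  -- every conjugate of an element of `N` is a conjugate under the stabiliser
  have hH : ∀ (g x : G), x ∈ N →
      ∃ h : stabilizer G α, (h : G) * x * (h : G)⁻¹ = g * x * g⁻¹ := by
    intro g x hx
    obtain ⟨n, hn, hna⟩ := Perm.isPretransitive_subgroup_iff.1 htr α (g • α)
    refine ⟨⟨n⁻¹ * g, by rw [mem_stabilizer_iff, mul_smul, inv_smul_eq_iff, hna]⟩, ?_⟩
    have hc' := congrArg Subtype.val
      (mul_comm' (⟨n⁻¹, N.inv_mem hn⟩ : N) ⟨g * x * g⁻¹, hN.conj_mem x hx g⟩)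
    simp only [Subgroup.coe_mul] at hc'
    calc n⁻¹ * g * x * (n⁻¹ * g)⁻¹ = n⁻¹ * (g * x * g⁻¹) * n := by group
      _ = g * x * g⁻¹ * n⁻¹ * n := by rw [hc']
      _ = g * x * g⁻¹ := by group
  obtain ⟨c₁, c₂, hne12, huniv⟩ := Nat.card_eq_two_iff.mp hκ
  have hall : ∀ c : {c : ConjClasses G // ∃ g : G, ConjClasses.mk g = c ∧ ∀ ω : Ω, g • ω ≠ ω},
      c = c₁ ∨ c = c₂ := fun c => by
    have := Set.mem_univ c
    rw [← huniv] at this
    simpa using this
  have hthree : ∀ x y z : G, (∀ ω : Ω, x • ω ≠ ω) → (∀ ω : Ω, y • ω ≠ ω) → (∀ ω : Ω, z • ω ≠ ω) →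
      IsConj x y ∨ IsConj x z ∨ IsConj y z := by
    intro x y z hx hy hz
    by_contra h
    simp only [not_or] at h
    have := three_le_card (α := Ω) hx hy hz h.1 h.2.1 h.2.2
    change 3 ≤ Nat.card {c : ConjClasses G // ∃ g : G, ConjClasses.mk g = c ∧ ∀ ω : Ω, g • ω ≠ ω} at this
    omega
  obtain ⟨⟨m₀, hm₀⟩, hm₀1⟩ := Subgroup.ne_bot_iff_exists_ne_one.mp hne
  have hm₀1' : m₀ ≠ 1 := fun e => hm₀1 (Subtype.ext e)
  by_cases hfrob : ∀ g : G, g ≠ 1 → Nat.card (MulAction.fixedBy Ω g) ≤ 1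
  · right; left
    -- all derangements lie in `N`
    let ι : {x : N // x ≠ 1} → {g : G // IsDerangement Ω g} := fun x =>
      ⟨x.1.1, hderN x.1.1 x.1.2 fun e => x.2 (Subtype.ext e)⟩
    have hι : Function.Injective ι := fun x y h =>
      Subtype.ext (Subtype.ext (congrArg Subtype.val h :))
    have hcN : Nat.card {x : N // x ≠ 1} = Nat.card Ω - 1 := by
      haveI := Fintype.ofFinite N
      rw [← Perm.card_eq_of_regular (hreg α), Nat.card_eq_fintype_card, Nat.card_eq_fintype_card,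
        Fintype.card_subtype_compl, Fintype.card_subtype_eq]
    have hsurj := ((Nat.bijective_iff_injective_and_card ι).mpr
      ⟨hι, by rw [hcN, card_derangements hfrob hΩ']⟩).2
    obtain ⟨⟨_, x, rfl, hx⟩, hc₁⟩ : ∃ c, c = c₁ := ⟨c₁, rfl⟩
    obtain ⟨⟨_, y, rfl, hy⟩, hc₂⟩ : ∃ c, c = c₂ := ⟨c₂, rfl⟩
    have hxy : ¬ IsConj x y := fun h => hne12 (by
      rw [← hc₁, ← hc₂]; exact Subtype.ext (ConjClasses.mk_eq_mk_iff_isConj.mpr h))
    have hmemN : ∀ z : G, (∀ ω : Ω, z • ω ≠ ω) → z ∈ N ∧ z ≠ 1 := fun z hz => by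
      obtain ⟨w, hw⟩ := hsurj ⟨z, hz⟩
      rw [← show (w.1 : G) = z from congrArg Subtype.val hw]
      exact ⟨w.1.2, fun e => w.2 (Subtype.ext e)⟩
    obtain ⟨hxN, hx1⟩ := hmemN x hx
    obtain ⟨hyN, hy1⟩ := hmemN y hy
    let F : stabilizer G α ⊕ stabilizer G α → {g : G // IsDerangement Ω g} :=
      Sum.elim (fun h => ⟨h * x * (h : G)⁻¹, (show IsDerangement Ω x from hx).conj _⟩)
        (fun h => ⟨h * y * (h : G)⁻¹, (show IsDerangement Ω y from hy).conj _⟩)
    have hfree : ∀ (h k : stabilizer G α) (z : G), z ∈ N → z ≠ 1 →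
        (h : G) * z * (h : G)⁻¹ = (k : G) * z * (k : G)⁻¹ → h = k := by
      intro h k z hz hz1 e
      by_contra hhk
      have hkh : (k : G)⁻¹ * h ≠ 1 := fun e' => hhk (Subtype.ext (inv_mul_eq_one.mp e').symm)
      have hcomm : (k : G)⁻¹ * h * z = z * ((k : G)⁻¹ * h) := by
        calc (k : G)⁻¹ * h * z = (k : G)⁻¹ * ((h : G) * z * (h : G)⁻¹) * h := by group
          _ = (k : G)⁻¹ * ((k : G) * z * (k : G)⁻¹) * h := by rw [e]
          _ = _ := by group
      have ha : ((k : G)⁻¹ * h) • α = α := ((stabilizer G α).mul_mem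
        ((stabilizer G α).inv_mem k.2) h.2)
      have hb := (Perm.commute_iff_fixes (hreg α) ha hz).mp hcomm
      exact fixedBy_le_one_iff.mp hfrob _ hkh α (z • α) (fun e' => hderN z hz hz1 α e'.symm) ha hb
    have hF : Function.Bijective F := by
      constructor
      · rintro (h | h) (k | k) e <;> have e' := congrArg Subtype.val e <;>
          simp only [F, Sum.elim_inl, Sum.elim_inr] at e'
        · rw [hfree h k x hxN hx1 e']
        · exact absurd (isConj_iff.mpr ⟨(k : G)⁻¹ * h, by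
            calc (k : G)⁻¹ * h * x * ((k : G)⁻¹ * h)⁻¹ = (k : G)⁻¹ * ((h : G) * x * (h : G)⁻¹) * k := by group
              _ = (k : G)⁻¹ * ((k : G) * y * (k : G)⁻¹) * k := by rw [e']
              _ = y := by group⟩) hxy
        · exact absurd (isConj_iff.mpr ⟨(h : G)⁻¹ * k, by
            calc (h : G)⁻¹ * k * x * ((h : G)⁻¹ * k)⁻¹ = (h : G)⁻¹ * ((k : G) * x * (k : G)⁻¹) * h := by group
              _ = (h : G)⁻¹ * ((h : G) * y * (h : G)⁻¹) * h := by rw [e']
              _ = y := by group⟩) hxy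
        · rw [hfree h k y hyN hy1 e']
      · rintro ⟨z, hz⟩
        rcases hall ⟨_, z, rfl, hz⟩ with h | h
        · rw [← hc₁] at h
          obtain ⟨g, hg⟩ := isConj_iff.mp (ConjClasses.mk_eq_mk_iff_isConj.mp (congrArg Subtype.val h).symm)
          obtain ⟨k, hk⟩ := hH g x hxN
          exact ⟨Sum.inl k, Subtype.ext (hk.trans hg)⟩
        · rw [← hc₂] at h
          obtain ⟨g, hg⟩ := isConj_iff.mp (ConjClasses.mk_eq_mk_iff_isConj.mp (congrArg Subtype.val h).symm)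
          obtain ⟨k, hk⟩ := hH g y hyN
          exact ⟨Sum.inr k, Subtype.ext (hk.trans hg)⟩
    have hcard := Nat.card_congr (Equiv.ofBijective F hF)
    rw [Nat.card_sum, card_derangements hfrob hΩ'] at hcard
    rw [Nat.card_eq_fintype_card (α := Ω)] at hcard
    refine ⟨hNex, hfrob, ?_, by omega⟩
    intro h2
    omega
  · right; right
    simp only [not_forall, exists_prop, not_le] at hfrob
    obtain ⟨g, hg, hg2⟩ := hfrob
    refine ⟨hNex, ?_, g, hg, by omega⟩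
    obtain ⟨⟨a, ha⟩, ⟨b, hb⟩, hab'⟩ :=
      (Finite.one_lt_card_iff_nontrivial.mp hg2).exists_pair_ne
    obtain ⟨d, hd, hdN⟩ := exists_derangement_not_mem hreg hg (a := a) (b := b)
      (fun e => hab' (Subtype.ext e)) ha hb
    have hnd : ∀ z ∈ N, ¬ IsConj z d := fun z hz h => by
      obtain ⟨k, hk⟩ := isConj_iff.mp h
      exact hdN (hk ▸ hN.conj_mem z hz k)
    refine Perm.isTwoPretransitive_of_stabilizer α fun b c hb hc => ?_
    obtain ⟨x, hx, rfl⟩ := Perm.isPretransitive_subgroup_iff.1 htr α b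
    obtain ⟨y, hy, rfl⟩ := Perm.isPretransitive_subgroup_iff.1 htr α c
    rcases hthree x y d (hderN x hx fun e => hb (by rw [e, one_smul]))
      (hderN y hy fun e => hc (by rw [e, one_smul])) hd with h | h | h
    · obtain ⟨g', hg'⟩ := isConj_iff.mp h
      obtain ⟨k, hk⟩ := hH g' x hx
      refine ⟨k, k.2, ?_⟩
      rw [← Perm.conj_smul_eq k.2 x, hk, hg']
    · exact absurd h (hnd x hx)
    · exact absurd h (hnd y hy)

end Cfsg.Agent.S3520
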