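import Cfsg.Statements.S3532

import Cfsg.Agent.Lib.PSL2.Classes
import Cfsg.Agent.Lib.Spectrum.CyclotomicFrobenius

set_option autoImplicit false
set_option linter.style.haveILetI false
open Cfsg

namespace Cfsg.Agent.S3532

/-- Let q ≥ 4 be a prime power and L = PSL(2,q). There is a finite solvable group with the same set of element orders as L × L (so L × L is not determined by its spectrum). -/
theorem result {F : Type*} [Field F] [Fintype F] (hF : 4 ≤ Fintype.card F) :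
    ∃ (H : Type) (_ : Group H) (_ : Finite H), Group.IsSolvable H ∧
      Set.range (orderOf : H → ℕ) = Set.range (orderOf : Matrix.ProjectiveSpecialLinearGroup (Fin 2) F × Matrix.ProjectiveSpecialLinearGroup (Fin 2) F → ℕ) := by
  classical
  obtain ⟨p, hchar⟩ := CharP.exists F
  obtain ⟨e, hp, hq⟩ := FiniteField.card F p
  haveI := Fact.mk hp
  set q := Fintype.card F with hqdef
  set d := Nat.gcd 2 (q - 1) with hd
  obtain ⟨g₁, h₁, hc₁⟩ := PSL2.exists_torus_card_sub_one hF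
  obtain ⟨g₂, h₂, hc₂⟩ := PSL2.exists_torus_card_add_one F
  rw [← hqdef] at hc₁ hc₂
  set n₁ := (q - 1) / d with hn₁
  set n₂ := (q + 1) / d with hn₂
  have hd0 : 0 < d := Nat.gcd_pos_of_pos_left _ two_pos
  have hd2 : d ≤ 2 := Nat.gcd_le_left _ two_pos
  have hd1 : d ∣ q - 1 := Nat.gcd_dvd_right _ _
  have hd1' : d ∣ q + 1 := by
    rw [show q + 1 = (q - 1) + 2 by omega]
    exact dvd_add hd1 (Nat.gcd_dvd_left _ _)
  have hpq : p ∣ q := hq ▸ dvd_pow_self p e.pos.ne'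
  have hn1pos : 0 < n₁ := Nat.div_pos (by omega) hd0
  have hn2 : 1 < n₂ := by
    rw [hn₂, Nat.lt_div_iff_mul_lt' hd1']
    omega
  have hcp : n₁.Coprime p := by
    refine (Nat.Coprime.coprime_dvd_left (Nat.div_dvd_of_dvd hd1) ?_).coprime_dvd_right hpq
    rw [Nat.coprime_comm, Nat.coprime_self_sub_right (by omega)]
    exact Nat.coprime_one_right q
  have hc12 : n₁.Coprime n₂ := by
    rcases (Nat.dvd_prime Nat.prime_two).mp (Nat.gcd_dvd_left 2 (q - 1)) with h | h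
    · have hne : ¬ 2 ∣ q - 1 := fun h' => by
        rw [Nat.gcd_eq_left h'] at h; omega
      rw [hn₁, hn₂, hd, h, Nat.div_one, Nat.div_one]
      rw [show q + 1 = (q - 1) + 2 by omega, Nat.coprime_self_add_right]
      exact ((Nat.prime_two.coprime_iff_not_dvd).mpr hne).symm
    · obtain ⟨a, ha⟩ : 2 ∣ q - 1 := h ▸ Nat.gcd_dvd_right 2 (q - 1)
      rw [hn₁, hn₂, hd, h, ha, Nat.mul_div_cancel_left _ two_pos,
        show (q + 1) / 2 = a + 1 by omega, Nat.coprime_self_add_right]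
      exact Nat.coprime_one_right a
  have hL : Set.range (orderOf : Matrix.ProjectiveSpecialLinearGroup (Fin 2) F → ℕ) =
      {k | k ∣ p ∨ k ∣ n₁ ∨ k ∣ n₂} := by
    ext k
    constructor
    · rintro ⟨x, rfl⟩
      exact PSL2.psl_orderOf_dvd p x
    · rintro (h | h | h)
      · rcases (Nat.dvd_prime hp).mp h with rfl | rfl
        · exact ⟨1, orderOf_one⟩
        · exact ⟨_, PSL2.orderOf_mk_uu k (one_ne_zero (α := F))⟩
      · exact PSL2.exists_orderOf_of_dvd_torus h₁ (by rw [hc₁]; exact h)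
      · exact PSL2.exists_orderOf_of_dvd_torus h₂ (by rw [hc₂]; exact h)
  obtain ⟨K₁, iG₁, iF₁, hs₁, hK₁⟩ := Spectrum.exists_two_divisor_sets hp.one_lt hn1pos hcp
  obtain ⟨K₂, iG₂, iF₂, hs₂, hK₂⟩ := Spectrum.exists_two_divisor_sets hn2 hn1pos hc12
  haveI := hs₁
  haveI := hs₂
  refine ⟨K₁ × K₂, inferInstance, inferInstance, inferInstance, ?_⟩
  ext k
  simp only [Set.mem_range, Prod.exists, Prod.orderOf]
  constructor
  · rintro ⟨a, b, rfl⟩
    have ha : orderOf a ∈ Set.range (orderOf : K₁ → ℕ) := ⟨a, rfl⟩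
    have hb : orderOf b ∈ Set.range (orderOf : K₂ → ℕ) := ⟨b, rfl⟩
    rw [hK₁] at ha
    rw [hK₂] at hb
    have ha' : orderOf a ∈ Set.range (orderOf : Matrix.ProjectiveSpecialLinearGroup (Fin 2) F → ℕ) := by
      rw [hL]; exact ha.imp id Or.inl
    have hb' : orderOf b ∈ Set.range (orderOf : Matrix.ProjectiveSpecialLinearGroup (Fin 2) F → ℕ) := by
      rw [hL]; exact hb.elim (fun h => Or.inr (Or.inr h)) (fun h => Or.inr (Or.inl h))
    obtain ⟨x, hx⟩ := ha'
    obtain ⟨y, hy⟩ := hb'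
    exact ⟨x, y, by rw [hx, hy]⟩
  · rintro ⟨x, y, rfl⟩
    have key : ∀ a b : ℕ, (a ∣ p ∨ a ∣ n₁) → (b ∣ n₂ ∨ b ∣ n₁) →
        ∃ s : K₁, ∃ t : K₂, Nat.lcm (orderOf s) (orderOf t) = Nat.lcm a b := by
      intro a b ha hb
      obtain ⟨s, hs⟩ : a ∈ Set.range (orderOf : K₁ → ℕ) := hK₁ ▸ ha
      obtain ⟨t, ht⟩ : b ∈ Set.range (orderOf : K₂ → ℕ) := hK₂ ▸ hb
      exact ⟨s, t, by rw [hs, ht]⟩
    have hx : orderOf x ∈ Set.range (orderOf : Matrix.ProjectiveSpecialLinearGroup (Fin 2) F → ℕ) := ⟨x, rfl⟩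
    have hy : orderOf y ∈ Set.range (orderOf : Matrix.ProjectiveSpecialLinearGroup (Fin 2) F → ℕ) := ⟨y, rfl⟩
    rw [hL] at hx hy
    generalize orderOf x = a at hx ⊢
    generalize orderOf y = b at hy ⊢
    rcases hx with hx | hx | hx <;> rcases hy with hy | hy | hy
    · simpa using key (Nat.lcm a b) 1 (Or.inl (Nat.lcm_dvd hx hy)) (Or.inl (one_dvd _))
    · exact key a b (Or.inl hx) (Or.inr hy)
    · exact key a b (Or.inl hx) (Or.inl hy)
    · rw [Nat.lcm_comm]; exact key b a (Or.inl hy) (Or.inr hx)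
    · exact key a b (Or.inr hx) (Or.inr hy)
    · exact key a b (Or.inr hx) (Or.inl hy)
    · rw [Nat.lcm_comm]; exact key b a (Or.inl hy) (Or.inl hx)
    · rw [Nat.lcm_comm]; exact key b a (Or.inr hy) (Or.inl hx)
    · simpa using key 1 (Nat.lcm a b) (Or.inl (one_dvd _)) (Or.inl (Nat.lcm_dvd hx hy))

end Cfsg.Agent.S3532
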