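import Cfsg.Statements.S3547
import Cfsg.Agent.Lib.Perm.Derangement

set_option autoImplicit false
open Cfsg

namespace Cfsg.Agent.S3547


/-- Let G act faithfully and transitively on a finite set Ω, let D be the subgroup generated by the derangements, and let r_G and r_D be the numbers of orbits of G and of D on ordered pairs of points (the permutation ranks). Then r_D − 1 = (r_G − 1)·[G : D]. -/
theorem result {G Ω : Type*} [Group G] [Finite G] [MulAction G Ω] [FaithfulSMul G Ω] [Finite Ω]
    (htrans : MulAction.IsPretransitive G Ω) :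
    Nat.card (MulAction.orbitRel.Quotient ↥(Subgroup.closure {g : G | ∀ ω : Ω, g • ω ≠ ω}) (Ω × Ω)) - 1 =
      (Nat.card (MulAction.orbitRel.Quotient G (Ω × Ω)) - 1) * (Subgroup.closure {g : G | ∀ ω : Ω, g • ω ≠ ω}).index := by
  classical
  rcases isEmpty_or_nonempty Ω with hE | hne
  · simp
  haveI := Fintype.ofFinite G
  haveI := Fintype.ofFinite Ω
  set D := Subgroup.closure {g : G | ∀ ω : Ω, g • ω ≠ ω} with hD
  haveI := Fintype.ofFinite (MulAction.orbitRel.Quotient G (Ω × Ω))
  haveI := Fintype.ofFinite (MulAction.orbitRel.Quotient ↥D (Ω × Ω))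
  have hG := MulAction.sum_card_fixedBy_eq_card_orbits_mul_card_group G (Ω × Ω)
  have hDs := MulAction.sum_card_fixedBy_eq_card_orbits_mul_card_group (↥D) (Ω × Ω)
  have hone : ∀ g : G, g ∉ D → Fintype.card (MulAction.fixedBy (Ω × Ω) g) = 1 := by
    intro g hg
    have h1 := Perm.Derangement.card_fixedBy_eq_one htrans hg
    have h2 : MulAction.fixedBy (Ω × Ω) g = (MulAction.fixedBy Ω g) ×ˢ (MulAction.fixedBy Ω g) := by
      ext ⟨x, y⟩; simp [Prod.ext_iff]
    rw [← Nat.card_eq_fintype_card, h2, Nat.card_congr (Equiv.Set.prod _ _), Nat.card_prod, h1]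
  have hsplit := Finset.sum_add_sum_compl (Finset.univ.filter (· ∈ D))
    (fun g : G => Fintype.card (MulAction.fixedBy (Ω × Ω) g))
  have hDsum : ∑ g ∈ Finset.univ.filter (· ∈ D), Fintype.card (MulAction.fixedBy (Ω × Ω) g) =
      ∑ d : ↥D, Fintype.card ↑(MulAction.fixedBy (Ω × Ω) (d : ↥D)) := by
    rw [Finset.sum_subtype (p := (· ∈ D)) _ (by simp)]
    exact Finset.sum_congr rfl fun d _ => Fintype.card_congr (Equiv.setCongr rfl)
  have hout : ∑ g ∈ (Finset.univ.filter (· ∈ D))ᶜ, Fintype.card (MulAction.fixedBy (Ω × Ω) g) =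
      ((Finset.univ.filter (· ∈ D))ᶜ).card := by
    rw [Finset.card_eq_sum_ones]
    exact Finset.sum_congr rfl fun g hg => hone g (by simpa using hg)
  have hcD : (Finset.univ.filter (· ∈ D)).card = Fintype.card D := (Fintype.card_subtype _).symm
  have hcc := Finset.card_add_card_compl (Finset.univ.filter (· ∈ D))
  have hidx := D.card_mul_index
  have hDpos : 0 < Fintype.card ↥D := Fintype.card_pos
  haveI : Nonempty (MulAction.orbitRel.Quotient G (Ω × Ω)) := Nonempty.map Quotient.mk'' inferInstance
  have hrG : 0 < Nat.card (MulAction.orbitRel.Quotient G (Ω × Ω)) := Nat.card_pos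
  simp only [← Nat.card_eq_fintype_card, MulAction.orbitRel.Quotient] at hG hDs hsplit hDsum hout hcD hcc hidx hDpos hrG ⊢
  generalize hr : Nat.card (Quotient (MulAction.orbitRel G (Ω × Ω))) = r at *
  generalize hs : Nat.card (Quotient (MulAction.orbitRel (↥D) (Ω × Ω))) = s at *
  generalize hk : D.index = k at *
  generalize Nat.card ↥D = c at *
  obtain ⟨r, rfl⟩ : ∃ r', r = r' + 1 := ⟨r - 1, by omega⟩
  have hkey : s * c = (r * k + 1) * c := by
    have : (r + 1) * Nat.card G = (r * k + 1) * c + (Nat.card G - c) := by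
      rw [← hidx]
      have hc : c ≤ c * k := by
        have : c ≤ Nat.card G := by omega
        rwa [← hidx] at this
      zify [hc]
      ring
    omega
  have : s = r * k + 1 := Nat.eq_of_mul_eq_mul_right hDpos hkey
  subst this
  simp

end Cfsg.Agent.S3547
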