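import Cfsg.Statements.S3548
import Cfsg.Agent.Lib.Perm.Derangement

set_option autoImplicit false
open Cfsg

namespace Cfsg.Agent.S3548


/-- Let G act faithfully and transitively on a finite set with n ≥ 2 points and let D be the subgroup generated by the derangements. Then the index of D in G divides n − 1, and if it equals n − 1 then n is a prime power. -/
theorem result {G Ω : Type*} [Group G] [Finite G] [MulAction G Ω] [FaithfulSMul G Ω] [Finite Ω]
    (htrans : MulAction.IsPretransitive G Ω) (hΩ : 2 ≤ Nat.card Ω) :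
    (Subgroup.closure {g : G | ∀ ω : Ω, g • ω ≠ ω}).index ∣ Nat.card Ω - 1 ∧
    ((Subgroup.closure {g : G | ∀ ω : Ω, g • ω ≠ ω}).index = Nat.card Ω - 1 → IsPrimePow (Nat.card Ω)) := by
  classical
  haveI : Nonempty Ω := (Nat.card_pos_iff.mp (by omega)).1
  obtain ⟨a⟩ := ‹Nonempty Ω›
  set D := Subgroup.closure {g : G | ∀ ω : Ω, g • ω ≠ ω} with hD
  haveI hDn : D.Normal := Perm.Derangement.normal_derSub G Ω
  haveI hDt : MulAction.IsPretransitive ↥D Ω := Perm.Derangement.isPretransitive_derSub htrans
  haveI := htrans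
  have hcompl : ({a}ᶜ : Set Ω).ncard = Nat.card Ω - 1 := by
    rw [Set.ncard_compl, Set.ncard_singleton]
  have hdvd : D.index ∣ Nat.card Ω - 1 := by
    rw [← hcompl]
    refine Perm.Derangement.index_dvd_ncard htrans a _ (by simp) fun g hg x hx => ?_
    simp only [Set.mem_compl_iff, Set.mem_singleton_iff] at hx ⊢
    intro h
    refine hx (MulAction.injective g ?_)
    simp only [h]
    exact hg.symm
  refine ⟨hdvd, fun hk => ?_⟩
  have hfix : ∀ b : Ω, b ≠ a → D ⊓ MulAction.stabilizer G a ≤ MulAction.stabilizer G b := by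
    intro b hb
    let K := MulAction.stabilizer (↥(MulAction.stabilizer G a)) b
    have hKle : K ≤ D.subgroupOf (MulAction.stabilizer G a) := fun g hg =>
      Perm.Derangement.stabilizer_inf_le htrans hb ⟨g.2, hg⟩
    have h1 : D.index ∣ K.index := by
      rw [← Perm.Derangement.relIndex_stabilizer htrans a]
      exact Subgroup.index_dvd_of_le hKle
    have h2 : K.index ≤ Nat.card Ω - 1 := by
      rw [MulAction.index_stabilizer, ← hcompl]
      refine Set.ncard_le_ncard ?_
      rintro x ⟨g, rfl⟩ hx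
      refine hb (MulAction.injective (g : G) ?_)
      exact (Set.mem_singleton_iff.mp hx).trans g.2.symm
    have h3 : K.index = D.index :=
      le_antisymm (hk ▸ h2) (Nat.le_of_dvd (Nat.pos_of_ne_zero K.index_ne_zero_of_finite) h1)
    have h4 : D.subgroupOf (MulAction.stabilizer G a) ≤ K := by
      rw [← Subgroup.relIndex_eq_one]
      have h5 := Subgroup.relIndex_mul_index hKle
      have h6 : (D.subgroupOf (MulAction.stabilizer G a)).index = D.index :=
        Perm.Derangement.relIndex_stabilizer htrans a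
      rw [h6, h3] at h5
      exact (Nat.mul_eq_right D.index_ne_zero_of_finite).mp h5
    intro g hg
    exact h4 (show (⟨g, hg.2⟩ : MulAction.stabilizer G a) ∈ D.subgroupOf (MulAction.stabilizer G a) from hg.1)
  have htriv : ∀ x ∈ D, x • a = a → x = 1 := by
    intro x hx hxa
    refine eq_of_smul_eq_smul fun b : Ω => ?_
    rw [one_smul]
    by_cases hb : b = a
    · rw [hb, hxa]
    · exact hfix b hb ⟨hx, hxa⟩
  have hbij : Function.Bijective (fun d : D => d • a) := by
    refine ⟨fun d e hde => ?_, MulAction.exists_smul_eq (↥D) a⟩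
    have h := htriv ((e : G)⁻¹ * d) (D.mul_mem (D.inv_mem e.2) d.2)
      (by rw [mul_smul, inv_smul_eq_iff]; exact hde)
    exact (Subtype.ext (inv_mul_eq_one.mp h)).symm
  have hcardD : Nat.card D = Nat.card Ω := Nat.card_congr (Equiv.ofBijective _ hbij)
  rw [← hcardD]
  have hDcard : 2 ≤ Nat.card D := hcardD ▸ hΩ
  obtain ⟨p, hp, hpdvd⟩ := Nat.exists_prime_and_dvd (show Nat.card D ≠ 1 by omega)
  haveI := Fact.mk hp
  obtain ⟨x, hx⟩ := exists_prime_orderOf_dvd_card' p hpdvd
  have hx1 : (x : G) • a ≠ a := fun h => by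
    have := htriv x x.2 h
    rw [← Subgroup.orderOf_coe, this, orderOf_one] at hx
    exact hp.one_lt.ne hx
  have hall : ∀ y : D, y ^ p = 1 := by
    intro y
    by_cases hy : y = 1
    · simp [hy]
    have hy1 : (y : G) • a ≠ a := fun h => hy (Subtype.ext (htriv y y.2 h))
    let K := MulAction.stabilizer (↥(MulAction.stabilizer G a)) ((x : G) • a)
    have h2 : MulAction.orbit (↥(MulAction.stabilizer G a)) ((x : G) • a) = {a}ᶜ := by
      refine Set.eq_of_subset_of_ncard_le ?_ ?_
      · rintro z ⟨g, rfl⟩ hz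
        refine hx1 (MulAction.injective (g : G) ?_)
        exact (Set.mem_singleton_iff.mp hz).trans g.2.symm
      · rw [hcompl, ← hk, ← Nat.card_coe_set_eq]
        exact Nat.le_of_dvd (haveI : Nonempty (MulAction.orbit (↥(MulAction.stabilizer G a)) ((x : G) • a)) :=
            ⟨⟨_, MulAction.mem_orbit_self _⟩⟩; Nat.card_pos)
          (Perm.Derangement.index_dvd_card_orbit htrans hx1)
    obtain ⟨g, hg⟩ : (y : G) • a ∈ MulAction.orbit (↥(MulAction.stabilizer G a)) ((x : G) • a) := by
      rw [h2]; exact hy1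
    have hz : ((y : G))⁻¹ * ((g : G) * x * (g : G)⁻¹) = 1 := by
      refine htriv _ (D.mul_mem (D.inv_mem y.2) (hDn.conj_mem _ x.2 _)) ?_
      have hga : ((g : G)⁻¹) • a = a := inv_smul_eq_iff.mpr g.2.symm
      rw [mul_smul, mul_smul, mul_smul, hga, inv_smul_eq_iff]
      exact hg
    rw [inv_mul_eq_one] at hz
    refine Subtype.ext ?_
    rw [SubmonoidClass.coe_pow, hz, conj_pow, ← SubmonoidClass.coe_pow, ← hx, pow_orderOf_eq_one]
    simp
  have hP : IsPGroup p D := fun y => ⟨1, by rw [pow_one]; exact hall y⟩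
  obtain ⟨m, hm⟩ := hP.exists_card_eq
  refine ⟨p, m, hp.prime, ?_, hm.symm⟩
  rcases Nat.eq_zero_or_pos m with rfl | h
  · rw [pow_zero] at hm; omega
  · exact h

end Cfsg.Agent.S3548
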