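import Cfsg.Statements.S3549
import Cfsg.Agent.Lib.Perm.Derangement

set_option autoImplicit false
open Cfsg
open scoped Pointwise

namespace Cfsg.Agent.S3549


/-- Let G act faithfully, transitively but imprimitively on a finite set with n points, and let D be the subgroup generated by the derangements. Then the index of D in G is at most √n − 1. -/
theorem result {G Ω : Type*} [Group G] [Finite G] [MulAction G Ω] [FaithfulSMul G Ω] [Finite Ω]
    (htrans : MulAction.IsPretransitive G Ω) (himp : ¬ MulAction.IsPreprimitive G Ω) :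
    ((Subgroup.closure {g : G | ∀ ω : Ω, g • ω ≠ ω}).index : ℝ) ≤ Real.sqrt (Nat.card Ω) - 1 := by
  classical
  rcases isEmpty_or_nonempty Ω with hE | hne
  · exact absurd
      { toIsPretransitive := htrans
        isTrivialBlock_of_isBlock := fun _ => Or.inl (Set.subsingleton_of_subsingleton) } himp
  haveI := htrans
  obtain ⟨B, hB, hBnt⟩ : ∃ B : Set Ω, MulAction.IsBlock G B ∧ ¬ MulAction.IsTrivialBlock B := by
    by_contra h
    push Not at h
    exact himp { toIsPretransitive := htrans, isTrivialBlock_of_isBlock := fun hB => h _ hB }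
  simp only [MulAction.IsTrivialBlock, not_or, Set.not_subsingleton_iff] at hBnt
  obtain ⟨a, ha⟩ := hBnt.1.nonempty
  have hb : 2 ≤ B.ncard := (Set.one_lt_ncard_iff_nontrivial).mpr hBnt.1
  have hinv : ∀ g ∈ MulAction.stabilizer G a, g • B = B := fun g hg =>
    MulAction.mem_stabilizer_iff.mp (hB.stabilizer_le ha hg)
  set k := (Subgroup.closure {g : G | ∀ ω : Ω, g • ω ≠ ω}).index with hk
  have hk1 : k ∣ (B \ {a}).ncard := by
    refine Perm.Derangement.index_dvd_ncard htrans a _ (by simp) fun g hg x hx => ?_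
    refine ⟨?_, fun h => hx.2 ?_⟩
    · rw [← hinv g hg]
      exact Set.smul_mem_smul_set hx.1
    · exact Set.mem_singleton_iff.mpr (MulAction.injective g ((Set.mem_singleton_iff.mp h).trans hg.symm))
  have hk2 : k ∣ ({a}ᶜ : Set Ω).ncard := by
    refine Perm.Derangement.index_dvd_ncard htrans a _ (by simp) fun g hg x hx => ?_
    intro h
    exact hx (Set.mem_singleton_iff.mpr (MulAction.injective g ((Set.mem_singleton_iff.mp h).trans hg.symm)))
  rw [Set.ncard_sdiff (Set.singleton_subset_iff.mpr ha), Set.ncard_singleton] at hk1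
  rw [Set.ncard_compl, Set.ncard_singleton] at hk2
  obtain ⟨c, hc⟩ := hB.ncard_dvd_card ⟨a, ha⟩
  have hlt : B.ncard < Nat.card Ω := Set.ncard_univ Ω ▸ Set.ncard_lt_ncard
    ⟨Set.subset_univ _, fun h => hBnt.2 (Set.eq_univ_of_univ_subset h)⟩
  have hc2 : 2 ≤ c := by
    rcases c with - | - | c <;> simp_all
  have hk3 : k ∣ c - 1 := by
    have h : Nat.card Ω - 1 = (B.ncard - 1) * c + (c - 1) := by
      rw [hc, Nat.sub_mul, one_mul]
      have : c ≤ B.ncard * c := Nat.le_mul_of_pos_left c (by omega)
      omega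
    rw [h] at hk2
    exact (Nat.dvd_add_right (Dvd.dvd.mul_right hk1 c)).mp hk2
  have hsq : (k + 1) * (k + 1) ≤ Nat.card Ω := by
    have := Nat.le_of_dvd (by omega) hk1
    have := Nat.le_of_dvd (by omega) hk3
    calc (k + 1) * (k + 1) ≤ B.ncard * c := Nat.mul_le_mul (by omega) (by omega)
      _ = _ := hc.symm
  rw [le_sub_iff_add_le, Real.le_sqrt (by positivity) (by positivity)]
  calc ((k : ℝ) + 1) ^ 2 = (((k + 1) * (k + 1) : ℕ) : ℝ) := by push_cast; ring
    _ ≤ _ := by exact_mod_cast hsq

end Cfsg.Agent.S3549
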