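import Cfsg.Statements.S3554


set_option autoImplicit false
open Cfsg

namespace Cfsg.Agent.S3554


/-- Let G act faithfully and transitively on a finite set and suppose G has a non-trivial cyclic normal subgroup. Then some element of G of prime order fixes no point. -/
theorem result {G Ω : Type*} [Group G] [Finite G] [MulAction G Ω] [FaithfulSMul G Ω] [Finite Ω]
    (htrans : MulAction.IsPretransitive G Ω) (C : Subgroup G) (hC : C.Normal) (hC1 : C ≠ ⊥) (hcyc : IsCyclic ↥C) :
    ∃ g : G, (orderOf g).Prime ∧ ∀ ω : Ω, g • ω ≠ ω := by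
  haveI := htrans
  haveI := hcyc
  have h1 : Nat.card C ≠ 1 := fun h => hC1 (Subgroup.eq_bot_of_card_eq C h)
  obtain ⟨p, hp, hdvd⟩ := Nat.exists_prime_and_dvd h1
  haveI := Fact.mk hp
  obtain ⟨x, hx⟩ := exists_prime_orderOf_dvd_card' p hdvd
  refine ⟨(x : G), by rw [Subgroup.orderOf_coe, hx]; exact hp, fun ω hω => ?_⟩
  have hall : ∀ ξ : Ω, (x : G) • ξ = ξ := by
    intro ξ
    obtain ⟨g, rfl⟩ := MulAction.exists_smul_eq G ω ξ
    have hy : g⁻¹ * (x : G) * g ∈ C := by simpa using hC.conj_mem _ x.2 g⁻¹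
    haveI := hC
    obtain ⟨m, hm⟩ := MonoidHom.map_cyclic (MulAut.conjNormal (H := C) g⁻¹).toMonoidHom
    have hk' : (x : G) ^ m = g⁻¹ * x * g := by
      have := congrArg Subtype.val (hm x)
      simpa [MulAut.conjNormal_apply] using this.symm
    have hfix : (g⁻¹ * (x : G) * g) • ω = ω := by
      rw [← hk']
      exact MulAction.mem_stabilizer_iff.mp (Subgroup.zpow_mem _ (MulAction.mem_stabilizer_iff.mpr hω) m)
    rwa [mul_smul, mul_smul, inv_smul_eq_iff] at hfix
  have hone : (x : G) = 1 := eq_of_smul_eq_smul fun ξ => by rw [hall, one_smul]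
  rw [← Subgroup.orderOf_coe, hone, orderOf_one] at hx
  exact hp.one_lt.ne hx

end Cfsg.Agent.S3554
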