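import Cfsg.Statements.S3555
import Cfsg.Agent.Lib.Perm.InvolutionDerangements

set_option autoImplicit false
open Cfsg

namespace Cfsg.Agent.S3555

/-- Let G act faithfully and transitively on a finite set and suppose every element of G fixing no point is an involution. Then either G is an elementary abelian 2-group, or G is a Frobenius group whose Frobenius kernel is an elementary abelian 2-group: G has a Frobenius complement H, and the elements lying in no conjugate of H, together with the identity, pairwise commute and square to the identity. -/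
theorem result {G Ω : Type*} [Group G] [Finite G] [MulAction G Ω] [FaithfulSMul G Ω] [Finite Ω]
    (htrans : MulAction.IsPretransitive G Ω) (hinv : ∀ g : G, (∀ ω : Ω, g • ω ≠ ω) → orderOf g = 2) :
    (IsMulCommutative G ∧ ∀ g : G, g ^ 2 = 1) ∨
    (∃ H : Subgroup G, Cfsg.IsFrobeniusComplement H ∧
      (∀ x ∈ Cfsg.frobeniusKernel H, x ^ 2 = 1) ∧
      ∀ x ∈ Cfsg.frobeniusKernel H, ∀ y ∈ Cfsg.frobeniusKernel H, x * y = y * x) := by
  rcases Cfsg.Agent.Perm.InvDer.structure_theorem hinv htrans with hall | ⟨H, K, hK, h1, h2, hTI, hker⟩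
  · refine Or.inl ⟨⟨⟨fun a b => ?_⟩⟩, fun g => by rw [pow_two, hall g]⟩
    have hi : ∀ y : G, y⁻¹ = y := fun y => inv_eq_of_mul_eq_one_right (hall y)
    rw [← hi (a * b), mul_inv_rev, hi a, hi b]
  · refine Or.inr ⟨H, ⟨h1, h2, hTI⟩, fun x hx => by rw [pow_two, hK x (hker x hx)], fun x hx y hy => ?_⟩
    have hi : ∀ y ∈ K, y⁻¹ = y := fun y hy => inv_eq_of_mul_eq_one_right (hK y hy)
    rw [← hi _ (K.mul_mem (hker x hx) (hker y hy)), mul_inv_rev, hi _ (hker x hx), hi _ (hker y hy)]

end Cfsg.Agent.S3555
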