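import Cfsg.Statements.S3556
import Cfsg.Agent.Lib.Perm.Derangement
import Cfsg.Agent.Lib.Perm.Basic

set_option autoImplicit false
open Cfsg

namespace Cfsg.Agent.S3556

open MulAction

/-- A proper subgroup of a finite group misses a whole conjugacy class. -/
theorem exists_no_conj_mem {H : Type*} [Group H] [Finite H] {B : Subgroup H} (hB : B ≠ ⊤) :
    ∃ x : H, ∀ h : H, h⁻¹ * x * h ∉ B := by
  by_contra hno
  push Not at hno
  have hder : Perm.Derangement.derSub H (H ⧸ B) = ⊥ := by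
    rw [Subgroup.closure_eq_bot_iff]
    intro g hg
    exfalso
    obtain ⟨h, hh⟩ := hno g
    refine hg (QuotientGroup.mk h) ?_
    rw [MulAction.Quotient.smul_mk, QuotientGroup.eq]
    have := B.inv_mem hh
    simpa [smul_eq_mul, mul_assoc] using this
  have ht : IsPretransitive ↥(Perm.Derangement.derSub H (H ⧸ B)) (H ⧸ B) :=
    Perm.Derangement.isPretransitive_derSub inferInstance
  refine hB (eq_top_iff.mpr fun g _ => ?_)
  obtain ⟨d, hd⟩ := ht.exists_smul_eq (QuotientGroup.mk (1 : H)) (QuotientGroup.mk g)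
  have hd1 : (d : H) = 1 := Subgroup.mem_bot.mp (hder ▸ d.2)
  change (d : H) • (QuotientGroup.mk (1 : H) : H ⧸ B) = QuotientGroup.mk g at hd
  rw [hd1, one_smul] at hd
  simpa using QuotientGroup.eq.mp hd

variable {G : Type*} [Group G]

/-- `L` is normalised by `N`. -/
def NormIn (N L : Subgroup G) : Prop := ∀ n ∈ N, ∀ x ∈ L, n * x * n⁻¹ ∈ L

theorem NormIn.inf {N L M : Subgroup G} (hL : NormIn N L) (hM : NormIn N M) : NormIn N (L ⊓ M) :=
  fun n hn x hx => ⟨hL n hn x hx.1, hM n hn x hx.2⟩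

/-- The centraliser of a subgroup normalised by `N` is normalised by `N`. -/
theorem NormIn.centralizer {N L : Subgroup G} (hL : NormIn N L) :
    NormIn N (Subgroup.centralizer (L : Set G)) := by
  intro n hn x hx
  refine Subgroup.mem_centralizer_iff.mpr fun y hy => ?_
  have hy' : n⁻¹ * y * n ∈ L := by simpa using hL n⁻¹ (N.inv_mem hn) y hy
  have := Subgroup.mem_centralizer_iff.mp hx _ hy'
  calc y * (n * x * n⁻¹) = n * ((n⁻¹ * y * n) * x) * n⁻¹ := by group
    _ = n * (x * (n⁻¹ * y * n)) * n⁻¹ := by rw [this]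
    _ = n * x * n⁻¹ * y := by group

/-- A minimal normal subgroup with trivial centraliser either is simple or splits. -/
theorem simple_or_split [Finite G] {N : Subgroup G} [hN : N.Normal] (hN1 : N ≠ ⊥)
    (hmin : ∀ L : Subgroup G, L.Normal → L ≤ N → L = ⊥ ∨ L = N)
    (hC : Subgroup.centralizer (N : Set G) = ⊥) :
    IsSimpleGroup N ∨ ∃ M M' : Subgroup G, M ≤ N ∧ M' ≤ N ∧ M ≠ ⊥ ∧ M' ≠ ⊥ ∧ NormIn N M ∧
      (∀ L : Subgroup G, L ≤ M → NormIn N L → L = ⊥ ∨ L = M) ∧
      (∀ x ∈ M, ∀ y ∈ M', x * y = y * x) ∧ M ⊓ M' = ⊥ ∧ ∀ n ∈ N, ∃ x ∈ M, ∃ y ∈ M', x * y = n := by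
  classical
  by_cases hs : ∀ L : Subgroup G, L ≤ N → NormIn N L → L = ⊥ ∨ L = N
  · left
    haveI : Nontrivial N := (Subgroup.nontrivial_iff_ne_bot N).mpr hN1
    refine ⟨fun K hK => ?_⟩
    rcases hs (K.map N.subtype) (Subgroup.map_subtype_le K) (by
        rintro n hn _ ⟨x, hx, rfl⟩
        exact ⟨_, hK.conj_mem x hx ⟨n, hn⟩, rfl⟩) with h | h
    · exact Or.inl ((Subgroup.map_eq_bot_iff_of_injective _ N.subtype_injective).mp h)
    · refine Or.inr (Subgroup.map_injective N.subtype_injective ?_)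
      rw [h, ← MonoidHom.range_eq_map, Subgroup.range_subtype]
  right
  push Not at hs
  obtain ⟨L₀, hL₀N, hL₀, hL₀1, hL₀ne⟩ := hs
  haveI : Finite (Subgroup G) := Finite.of_injective (fun H : Subgroup G => (H : Set G)) SetLike.coe_injective
  obtain ⟨M, hMle, hM⟩ := (Set.toFinite {L : Subgroup G | L ≤ N ∧ NormIn N L ∧ L ≠ ⊥}).exists_le_minimal
    (a := L₀) ⟨hL₀N, hL₀, hL₀1⟩
  obtain ⟨⟨hMN, hMn, hM1⟩, hMmin⟩ := hM
  have hMmin' : ∀ L : Subgroup G, L ≤ M → NormIn N L → L = ⊥ ∨ L = M := fun L hL hLn =>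
    or_iff_not_imp_left.mpr fun h => le_antisymm hL (hMmin ⟨hL.trans hMN, hLn, h⟩ hL)
  have hMne : M ≠ N := fun h => hL₀ne (le_antisymm hL₀N (h ▸ hMle))
  set M' := N ⊓ Subgroup.centralizer (M : Set G) with hM'
  have hM'n : NormIn N M' := NormIn.inf (fun n _ x hx => hN.conj_mem x hx n) hMn.centralizer
  -- conjugates of `M` other than `M` centralise it, so `M` and `M'` generate `N`
  have hconj : ∀ g : G, ∀ x ∈ M, g * x * g⁻¹ ∈ M ⊔ M' := by
    intro g
    set Mg := M.map (MulAut.conj g).toMonoidHom with hMg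
    have hMgn : NormIn N Mg := by
      rintro n hn _ ⟨x, hx, rfl⟩
      refine ⟨(g⁻¹ * n * g) * x * (g⁻¹ * n * g)⁻¹, hMn _ ?_ x hx, ?_⟩
      · simpa using hN.conj_mem n hn g⁻¹
      · simp only [MulEquiv.coe_toMonoidHom, MulAut.conj_apply]; group
    intro x hx
    have hxg : g * x * g⁻¹ ∈ Mg := ⟨x, hx, by simp⟩
    rcases hMmin' (M ⊓ Mg) inf_le_left (hMn.inf hMgn) with h | h
    · refine Subgroup.mem_sup_right ⟨hN.conj_mem x (hMN hx) g, Subgroup.mem_centralizer_iff.mpr ?_⟩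
      intro y hy
      have hgxN : g * x * g⁻¹ ∈ N := hN.conj_mem x (hMN hx) g
      have h1 : y * (g * x * g⁻¹) * y⁻¹ * (g * x * g⁻¹)⁻¹ ∈ M ⊓ Mg := by
        refine ⟨?_, Mg.mul_mem (hMgn y (hMN hy) _ hxg) (Mg.inv_mem hxg)⟩
        have := M.mul_mem hy (hMn _ hgxN y⁻¹ (M.inv_mem hy))
        rw [show y * (g * x * g⁻¹) * y⁻¹ * (g * x * g⁻¹)⁻¹ =
          y * (g * x * g⁻¹ * y⁻¹ * (g * x * g⁻¹)⁻¹) by group]
        exact this
      rw [h, Subgroup.mem_bot] at h1
      calc y * (g * x * g⁻¹)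
          = (y * (g * x * g⁻¹) * y⁻¹ * (g * x * g⁻¹)⁻¹) * ((g * x * g⁻¹) * y) := by group
        _ = g * x * g⁻¹ * y := by rw [h1, one_mul]
    · refine Subgroup.mem_sup_left ?_
      have heq : M = Mg := Subgroup.eq_of_le_of_card_ge (h ▸ inf_le_right)
        (le_of_eq (Subgroup.card_map_of_injective (MulEquiv.injective _)))
      rw [heq]; exact hxg
  have hgen : N ≤ M ⊔ M' := by
    rcases hmin (Subgroup.normalClosure (M : Set G)) Subgroup.normalClosure_normal
      (Subgroup.normalClosure_le_normal hMN) with h | h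
    · exact absurd (le_bot_iff.mp (h ▸ Subgroup.le_normalClosure)) hM1
    · rw [← h]
      refine (Subgroup.closure_le _).mpr fun z hz => ?_
      obtain ⟨x, hx, hc⟩ := Group.mem_conjugatesOfSet_iff.mp hz
      obtain ⟨g, rfl⟩ := isConj_iff.mp hc
      exact hconj g x hx
  have hdisj : M ⊓ M' = ⊥ := by
    rcases hMmin' (M ⊓ M') inf_le_left (hMn.inf hM'n) with h | h
    · exact h
    exfalso
    have hcen : N ≤ Subgroup.centralizer (M : Set G) :=
      hgen.trans (sup_le (inf_eq_left.mp h |>.trans inf_le_right) inf_le_right)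
    refine hM1 (le_bot_iff.mp (hC ▸ ?_))
    intro x hx
    exact Subgroup.mem_centralizer_iff.mpr fun n hn =>
      ((Subgroup.mem_centralizer_iff.mp (hcen hn)) x hx).symm
  refine ⟨M, M', hMN, inf_le_left, hM1, fun h => hMne ?_, hMn, hMmin', ?_, hdisj, ?_⟩
  · exact le_antisymm hMN (by simpa [h] using hgen)
  · exact fun x hx y hy => Subgroup.mem_centralizer_iff.mp hy.2 x hx
  · intro n hn
    have hle : M ≤ Subgroup.normalizer (M' : Set G) := by
      intro x hx
      refine Subgroup.mem_normalizer_iff.mpr fun y => ⟨fun hy => hM'n x (hMN hx) y hy, fun hy => ?_⟩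
      have := hM'n x⁻¹ (N.inv_mem (hMN hx)) _ hy
      simpa [mul_assoc] using this
    have h1 : n ∈ ((M ⊔ M' : Subgroup G) : Set G) := hgen hn
    rw [Subgroup.coe_mul_of_left_le_normalizer_right M M' hle] at h1
    obtain ⟨x, hx, y, hy, hxy⟩ := h1
    exact ⟨x, hx, y, hy, hxy⟩


/-- Let G act faithfully and primitively on a finite set with at least two points, and suppose that for some fixed prime p every element of G fixing no point has order a power of p. Then G is of affine type (it has a regular normal subgroup that is an elementary abelian r-group for some prime r) or almost simple (it has a non-abelian simple normal subgroup with trivial centralizer). -/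
theorem result {G Ω : Type*} [Group G] [Finite G] [MulAction G Ω] [FaithfulSMul G Ω] [Finite Ω]
    (hprim : MulAction.IsPreprimitive G Ω) (hΩ : 2 ≤ Nat.card Ω) (p : ℕ) (hp : p.Prime)
    (hder : ∀ g : G, (∀ ω : Ω, g • ω ≠ ω) → ∃ k : ℕ, orderOf g = p ^ k) :
    (∃ (N : Subgroup G) (r : ℕ), r.Prime ∧ N.Normal ∧ Cfsg.IsElementaryAbelian r N ∧
      MulAction.IsPretransitive N Ω ∧ ∀ a : Ω, MulAction.stabilizer N a = ⊥) ∨
    (∃ T : Subgroup G, T.Normal ∧ IsSimpleGroup ↥T ∧ ¬ IsMulCommutative ↥T ∧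
      Subgroup.centralizer (T : Set G) = ⊥) := by
  classical
  haveI := hprim
  haveI : Nontrivial Ω := Finite.one_lt_card_iff_nontrivial.mp hΩ
  obtain ⟨a, b, hab⟩ := exists_pair_ne Ω
  haveI : Nontrivial G := by
    obtain ⟨g, hg⟩ := MulAction.exists_smul_eq G a b
    exact ⟨g, 1, fun h => hab (by rw [← hg, h, one_smul])⟩
  haveI : Finite (Subgroup G) := Finite.of_injective (fun H : Subgroup G => (H : Set G)) SetLike.coe_injective
  obtain ⟨N, ⟨hNn, hN1⟩, hNmin⟩ : ∃ N, Minimal (fun L : Subgroup G => L.Normal ∧ L ≠ ⊥) N :=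
    (Set.toFinite {L : Subgroup G | L.Normal ∧ L ≠ ⊥}).exists_minimal ⟨⊤, Subgroup.normal_top, top_ne_bot⟩
  haveI : N.Normal := hNn
  have hmin : ∀ L : Subgroup G, L.Normal → L ≤ N → L = ⊥ ∨ L = N := fun L hL hLN =>
    or_iff_not_imp_left.mpr fun h => le_antisymm hLN (hNmin ⟨hL, h⟩ hLN)
  haveI hNt : MulAction.IsPretransitive N Ω := Perm.isPretransitive_of_normal hN1
  haveI := Fact.mk hp
  by_cases hcomm : IsMulCommutative N
  · left
    haveI := hcomm
    obtain ⟨r, hr, hrd⟩ := Nat.exists_prime_and_dvd (show Nat.card N ≠ 1 from fun h => hN1 (Subgroup.eq_bot_of_card_eq N h))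
    haveI := Fact.mk hr
    have hNcomm : ∀ x ∈ N, ∀ y ∈ N, x * y = y * x := fun x hx y hy =>
      congrArg Subtype.val (mul_comm' (⟨x, hx⟩ : N) ⟨y, hy⟩)
    let E : Subgroup G :=
      { carrier := {x | x ∈ N ∧ x ^ r = 1}
        mul_mem' := fun {x y} hx hy => ⟨N.mul_mem hx.1 hy.1, by
          rw [(show Commute x y from hNcomm x hx.1 y hy.1).mul_pow, hx.2, hy.2, one_mul]⟩
        one_mem' := ⟨N.one_mem, one_pow _⟩
        inv_mem' := fun {x} hx => ⟨N.inv_mem hx.1, by rw [inv_pow, hx.2, inv_one]⟩ }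
    haveI hEn : E.Normal := ⟨fun x hx g => ⟨hNn.conj_mem x hx.1 g, by rw [conj_pow, hx.2]; group⟩⟩
    obtain ⟨x, hx⟩ := exists_prime_orderOf_dvd_card' r hrd
    have hE : E = N := (hmin E hEn fun y hy => hy.1).resolve_left fun h => by
      have hxE : (x : G) ∈ E := ⟨x.2, by rw [← hx, ← Subgroup.orderOf_coe, pow_orderOf_eq_one]⟩
      rw [h, Subgroup.mem_bot] at hxE
      rw [← Subgroup.orderOf_coe, hxE, orderOf_one] at hx
      exact hr.one_lt.ne hx
    exact ⟨N, r, hr, hNn, ⟨hcomm, fun y hy => ((hE.symm ▸ hy : y ∈ E)).2⟩, hNt,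
      Perm.semiregular_of_abelian hNt⟩
  right
  -- `N` centralises no non-trivial element
  have hfixP : ∀ K : Subgroup G, (∀ g ∈ K, g ≠ 1 → ∀ ω : Ω, g • ω ≠ ω) → IsPGroup p K := by
    intro K hK x
    by_cases hx : (x : G) = 1
    · exact ⟨0, Subtype.ext (by simp [hx])⟩
    obtain ⟨k, hk⟩ := hder x (hK x x.2 hx)
    exact ⟨k, Subtype.ext (by simp [← hk, pow_orderOf_eq_one])⟩
  have hZ : N ⊓ Subgroup.centralizer (N : Set G) = ⊥ :=
    (hmin _ inferInstance inf_le_left).resolve_right fun h => hcomm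
      ⟨⟨fun x y => Subtype.ext (Subgroup.mem_centralizer_iff.mp (inf_eq_left.mp h y.2) x x.2)⟩⟩
  have hcenterN : ∀ z ∈ N, (∀ n ∈ N, n * z = z * n) → z = 1 := fun z hz h =>
    Subgroup.mem_bot.mp (hZ ▸ ⟨hz, Subgroup.mem_centralizer_iff.mpr h⟩)
  have hC : Subgroup.centralizer (N : Set G) = ⊥ := by
    by_contra hC
    have hreg := Perm.regular_of_commuting_normal (α := Ω) (M := N)
      (N := Subgroup.centralizer (N : Set G)) hN1 hC (fun x hx =>
        Subgroup.mem_centralizer_iff.mpr fun y hy => (Subgroup.mem_centralizer_iff.mp hy x hx).symm)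
    have hP : IsPGroup p N := hfixP N fun g hg hg1 ω hω =>
      hg1 (Perm.stabilizer_subgroup_eq_bot_iff.mp (hreg.2 ω) g hg hω)
    haveI : Nontrivial N := (Subgroup.nontrivial_iff_ne_bot N).mpr hN1
    haveI := hP.center_nontrivial
    obtain ⟨z, hz⟩ := exists_ne (1 : Subgroup.center N)
    exact hz (Subtype.ext (Subtype.ext (hcenterN _ z.1.2 fun n hn =>
      congrArg Subtype.val (Subgroup.mem_center_iff.mp z.2 ⟨n, hn⟩))))
  rcases simple_or_split hN1 hmin hC with hs | ⟨M, M', hMN, hM'N, hM1, hM'1, hMn, hMmin, hMM', hdisj, hprod⟩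
  · exact ⟨N, hNn, hs, hcomm, hC⟩
  exfalso
  have hnotP : ∀ K K' : Subgroup G, K ≤ N → K ≠ ⊥ → (∀ x ∈ K, ∀ y ∈ K', x * y = y * x) →
      (∀ n ∈ N, ∃ x ∈ K, ∃ y ∈ K', x * y = n) → ¬ IsPGroup p K := by
    intro K K' hKN hK1 hKK' hprod hP
    haveI : Nontrivial K := (Subgroup.nontrivial_iff_ne_bot K).mpr hK1
    haveI := hP.center_nontrivial
    obtain ⟨z, hz⟩ := exists_ne (1 : Subgroup.center K)
    refine hz (Subtype.ext (Subtype.ext (hcenterN _ (hKN z.1.2) fun n hn => ?_)))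
    obtain ⟨x, hx, y, hy, rfl⟩ := hprod n hn
    have hxz : x * (z.1 : G) = (z.1 : G) * x := congrArg Subtype.val (Subgroup.mem_center_iff.mp z.2 ⟨x, hx⟩)
    rw [mul_assoc, ← hKK' _ z.1.2 y hy, ← mul_assoc, hxz, mul_assoc]
  have hMp : ¬ IsPGroup p M := hnotP M M' hMN hM1 hMM' hprod
  have hM'p : ¬ IsPGroup p M' := hnotP M' M hM'N hM'1 (fun y hy x hx => (hMM' x hx y hy).symm) (fun n hn => by
    obtain ⟨x, hx, y, hy, rfl⟩ := hprod n hn
    exact ⟨y, hy, x, hx, (hMM' x hx y hy).symm⟩)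
  obtain ⟨y, hy, q, hq, hqp, hyq⟩ : ∃ y ∈ M', ∃ q : ℕ, q.Prime ∧ q ≠ p ∧ orderOf y = q := by
    by_contra h
    push Not at h
    refine hM'p (IsPGroup.of_card (n := (Nat.card M').primeFactorsList.length)
      (Nat.eq_prime_pow_of_unique_prime_dvd Nat.card_pos.ne' fun {r} hr hrd => ?_))
    haveI := Fact.mk hr
    obtain ⟨w, hw⟩ := exists_prime_orderOf_dvd_card' r hrd
    by_contra hrp
    exact h w w.2 r hr hrp (by rw [Subgroup.orderOf_coe, hw])
  -- projection of the point stabiliser to `M`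
  let S : Subgroup G := N ⊓ MulAction.stabilizer G a
  let B : Subgroup M :=
    { carrier := {m | ∃ m' ∈ M', ((m : G) * m') • a = a}
      one_mem' := ⟨1, M'.one_mem, by simp⟩
      mul_mem' := by
        rintro m n ⟨m', hm', hm⟩ ⟨n', hn', hn⟩
        refine ⟨m' * n', M'.mul_mem hm' hn', ?_⟩
        have h : ((m * n : M) : G) * (m' * n') = ((m : G) * m') * ((n : G) * n') := by
          rw [Subgroup.coe_mul, mul_assoc (m : G) n, ← mul_assoc (n : G), hMM' n n.2 m' hm']; group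
        rw [h, mul_smul, hn, hm]
      inv_mem' := by
        rintro m ⟨m', hm', hm⟩
        refine ⟨m'⁻¹, M'.inv_mem hm', ?_⟩
        rw [InvMemClass.coe_inv, hMM' _ (M.inv_mem m.2) _ (M'.inv_mem hm'), ← mul_inv_rev, inv_smul_eq_iff, hm] }
  have hfixN : ∀ (g : G) (ω : Ω), g • ω = ω → ∃ m ∈ M, ∃ m' ∈ M', ((m * m')⁻¹ * g * (m * m')) • a = a := by
    intro g ω hω
    obtain ⟨n, rfl⟩ := MulAction.exists_smul_eq N a ω
    obtain ⟨m, hm, m', hm', hn⟩ := hprod n n.2
    refine ⟨m, hm, m', hm', ?_⟩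
    rw [mul_smul, mul_smul, inv_smul_eq_iff, hn]
    exact hω
  by_cases hB : B = ⊤
  · -- then the intersection of `M` with the stabiliser is normal in `N`
    have hA : NormIn N (M ⊓ MulAction.stabilizer G a) := by
      intro n hn x hx
      obtain ⟨m, hm, m', hm', rfl⟩ := hprod n hn
      obtain ⟨m'', hm'', hfix⟩ : (⟨m, hm⟩ : M) ∈ B := hB ▸ Subgroup.mem_top _
      have hconjm : ∀ w ∈ M', (m * w) * x * (m * w)⁻¹ = m * x * m⁻¹ := fun w hw => by
        rw [mul_assoc m w x, ← hMM' x hx.1 w hw]; group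
      rw [hconjm m' hm']
      refine ⟨hMn m (hMN hm) x hx.1, ?_⟩
      rw [← hconjm m'' hm'']
      exact Subgroup.mul_mem _ (Subgroup.mul_mem _ hfix hx.2) (Subgroup.inv_mem _ hfix)
    rcases hMmin _ inf_le_left hA with hbot | htop
    · refine hMp (hfixP M fun g hg hg1 ω hω => hg1 ?_)
      obtain ⟨m, hm, m', hm', h⟩ := hfixN g ω hω
      have h' : (m * m')⁻¹ * g * (m * m') = m⁻¹ * g * m := by
        have hmm : m⁻¹ * g * m ∈ M := M.mul_mem (M.mul_mem (M.inv_mem hm) hg) hm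
        calc (m * m')⁻¹ * g * (m * m') = m'⁻¹ * ((m⁻¹ * g * m) * m') := by group
          _ = m⁻¹ * g * m := by rw [hMM' _ hmm m' hm']; group
      rw [h'] at h
      have : m⁻¹ * g * m ∈ M ⊓ MulAction.stabilizer G a :=
        ⟨M.mul_mem (M.mul_mem (M.inv_mem hm) hg) hm, h⟩
      rw [hbot, Subgroup.mem_bot] at this
      have := congrArg (fun t => m * t * m⁻¹) this
      simpa [mul_assoc] using this
    · refine hM1 (Perm.eq_bot_of_forall_smul_eq (α := Ω) fun g hg ω => ?_)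
      obtain ⟨n, rfl⟩ := MulAction.exists_smul_eq N a ω
      have hgn : (n : G)⁻¹ * g * n ∈ M := by simpa using hMn _ (N.inv_mem n.2) g hg
      have hle : M ≤ MulAction.stabilizer G a := inf_eq_left.mp htop
      have := MulAction.mem_stabilizer_iff.mp (hle hgn)
      rw [mul_smul, mul_smul, inv_smul_eq_iff] at this
      exact this
  · obtain ⟨x, hx⟩ := exists_no_conj_mem hB
    have hder' : ∀ ω : Ω, ((x : G) * y) • ω ≠ ω := by
      intro ω hω
      obtain ⟨m, hm, m', hm', h⟩ := hfixN _ ω hω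
      refine hx ⟨m, hm⟩ ⟨m'⁻¹ * y * m', M'.mul_mem (M'.mul_mem (M'.inv_mem hm') hy) hm', ?_⟩
      have hxm : m⁻¹ * (x : G) * m ∈ M := M.mul_mem (M.mul_mem (M.inv_mem hm) x.2) hm
      have e : (m * m')⁻¹ * ((x : G) * y) * (m * m') = (m⁻¹ * (x : G) * m) * (m'⁻¹ * y * m') := by
        calc (m * m')⁻¹ * ((x : G) * y) * (m * m') = m'⁻¹ * ((m⁻¹ * (x : G)) * (y * m)) * m' := by group
          _ = m'⁻¹ * ((m⁻¹ * (x : G) * m) * y) * m' := by rw [← hMM' m hm y hy]; group
          _ = (m'⁻¹ * (m⁻¹ * (x : G) * m)) * (y * m') := by group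
          _ = ((m⁻¹ * (x : G) * m) * m'⁻¹) * (y * m') := by rw [← hMM' _ hxm _ (M'.inv_mem hm')]
          _ = _ := by group
      simpa [← e] using h
    obtain ⟨k, hk⟩ := hder _ hder'
    have h1 : ((x : G) * y) ^ p ^ k = 1 := hk ▸ pow_orderOf_eq_one _
    rw [(show Commute (x : G) y from hMM' x x.2 y hy).mul_pow] at h1
    have h2 : y ^ p ^ k ∈ M ⊓ M' := ⟨by rw [eq_inv_of_mul_eq_one_right h1]; exact M.inv_mem (M.pow_mem x.2 _), M'.pow_mem hy _⟩
    rw [hdisj, Subgroup.mem_bot] at h2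
    have h3 : q ∣ p ^ k := hyq ▸ orderOf_dvd_of_pow_eq_one h2
    exact hqp ((Nat.prime_dvd_prime_iff_eq hq hp).mp (hq.dvd_of_dvd_pow h3))

end Cfsg.Agent.S3556
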