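import Cfsg.Statements.S3557
import Cfsg.Agent.Lib.Perm.Basic
import Cfsg.Agent.Lib.PGroup.Basic

set_option autoImplicit false
open Cfsg

namespace Cfsg.Agent.S3557

open MulAction

/-- A `p`-group with exactly two orbits, both of size `p ^ 2`, one of its two orbit kernels being
non-trivial: its 2-closure holds an element of order `p` without fixed points. -/
theorem key {G Ω : Type*} [Group G] [Finite G] [MulAction G Ω] [FaithfulSMul G Ω] [Finite Ω]
    (p : ℕ) [Fact p.Prime]
    (hcl : ∀ σ : Equiv.Perm Ω, (∀ a b : Ω, ∃ g : G, σ a = g • a ∧ σ b = g • b) → ∃ g : G, ∀ a : Ω, σ a = g • a)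
    (P : Subgroup G) (hP : IsPGroup p P) (a b : Ω) (hab : b ∉ orbit P a)
    (hcov : ∀ x : Ω, x ∈ orbit P a ∨ x ∈ orbit P b) (hsize : (orbit P a).ncard = p ^ 2)
    (hsize' : (orbit P b).ncard = p ^ 2)
    (Q : Subgroup P) (hQ : ∀ u : P, u ∈ Q ↔ ∀ x ∈ orbit P b, u • x = x) (hQ1 : Q ≠ ⊥) :
    ∃ g : G, orderOf g = p ∧ ∀ ω : Ω, g • ω ≠ ω := by
  classical
  have hp : p.Prime := Fact.out
  have hdisj : ∀ x : Ω, x ∈ orbit P a → x ∉ orbit P b := fun x hxa hxb =>
    hab (by rw [← orbit_eq_iff.mpr hxa, orbit_eq_iff.mpr hxb]; exact mem_orbit_self b)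
  have hfaith : ∀ u : P, (∀ x ∈ orbit P a, u • x = x) → (∀ x ∈ orbit P b, u • x = x) → u = 1 :=
    fun u h1 h2 => Subtype.ext (Perm.eq_one_of_forall_smul_eq (α := Ω) fun x => (hcov x).elim (h1 x) (h2 x))
  haveI hQn : Q.Normal := ⟨fun u hu v => (hQ _).mpr fun x hx => by
    rw [mul_smul, mul_smul, (hQ u).mp hu (v⁻¹ • x) (mem_orbit_of_mem_orbit v⁻¹ hx), smul_inv_smul]⟩
  obtain ⟨z, hzQ, hzc, hzo⟩ := PGroup.exists_orderOf_eq_mem_center hP Q hQ1
  have hz1 : z ≠ 1 := fun h => by rw [h, orderOf_one] at hzo; exact hp.one_lt.ne hzo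
  -- no point of the first orbit is fixed by `z`
  have hzA : ∀ x ∈ orbit P a, z • x ≠ x := fun x hx hzx => hz1 <| hfaith z (fun y hy => by
      obtain ⟨v, rfl⟩ : y ∈ orbit P x := by rwa [orbit_eq_iff.mpr hx]
      change z • v • x = v • x
      rw [← mul_smul, ← Subgroup.mem_center_iff.mp hzc v, mul_smul, hzx]) ((hQ z).mp hzQ)
  set M : Subgroup P := stabilizer P a ⊔ Q with hM
  have hQa : ¬ Q ≤ stabilizer P a := fun h => hzA a (mem_orbit_self a) (h hzQ)
  have hPa : (stabilizer P a).index = p ^ 2 := by rw [index_stabilizer, hsize]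
  haveI hMn : M.Normal := by
    have hmul := Subgroup.relIndex_mul_index (le_sup_left : stabilizer P a ≤ M)
    obtain ⟨i, hi⟩ := PGroup.index_eq_pow hP M
    rw [hPa, hi] at hmul
    have hne : (stabilizer P a).relIndex M ≠ 1 := fun h =>
      hQa (le_sup_right.trans (Subgroup.relIndex_eq_one.mp h))
    have hi2 : i ≤ 1 := by
      by_contra hlt
      have hd : p ^ 2 ∣ p ^ i := pow_dvd_pow p (by omega)
      have hd2 : p ^ i ∣ p ^ 2 := Dvd.intro_left _ hmul
      rw [← Nat.dvd_antisymm hd hd2] at hmul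
      exact hne ((Nat.mul_eq_right (pow_ne_zero 2 hp.ne_zero)).mp hmul)
    rcases Nat.le_one_iff_eq_zero_or_eq_one.mp hi2 with rfl | rfl
    · rw [(Subgroup.index_eq_one.mp (by simpa using hi) : M = ⊤)]; infer_instance
    · exact PGroup.normal_of_index_eq hP (by simpa using hi)
  have hMQ : ¬ M ≤ Q := by
    intro h
    have hle : stabilizer P a ≤ stabilizer P b := fun u hu =>
      (hQ u).mp (h (Subgroup.mem_sup_left hu)) b (mem_orbit_self b)
    have hQb : Q ≤ stabilizer P b := fun u hu => (hQ u).mp hu b (mem_orbit_self b)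
    have hPb : (stabilizer P b).index = p ^ 2 := by rw [index_stabilizer, hsize']
    have hmul := Subgroup.relIndex_mul_index hle
    rw [hPa, hPb] at hmul
    exact hQa (hQb.trans (Subgroup.relIndex_eq_one.mp ((Nat.mul_eq_right (pow_ne_zero 2 hp.ne_zero)).mp hmul)))
  let f : P →* Equiv.Perm (orbit P b) := MulAction.toPermHom P (orbit P b)
  have hf : ∀ u : P, f.rangeRestrict u = 1 ↔ u ∈ Q := fun u => by
    rw [hQ, Subtype.ext_iff]
    constructor
    · intro h x hx
      have := congrArg (fun σ : Equiv.Perm (orbit P b) => (σ ⟨x, hx⟩ : Ω)) h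
      simpa [f] using this
    · intro h
      ext x
      simpa [f] using h x x.2
  have hfp : IsPGroup p f.range := hP.of_surjective f.rangeRestrict f.rangeRestrict_surjective
  haveI : (M.map f.rangeRestrict).Normal := hMn.map _ f.rangeRestrict_surjective
  obtain ⟨wb, hwM, hwc, hwo⟩ := PGroup.exists_orderOf_eq_mem_center hfp (M.map f.rangeRestrict)
    (fun h => hMQ fun u hu => (hf u).mp (Subgroup.mem_bot.mp (h ▸ Subgroup.mem_map_of_mem _ hu)))
  obtain ⟨w, hw, rfl⟩ := hwM
  have hwp : w ^ p ∈ Q := (hf _).mp (by rw [map_pow, ← hwo, pow_orderOf_eq_one])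
  have hwQ : w ∉ Q := fun h => by
    rw [(hf w).mpr h, orderOf_one] at hwo
    exact hp.one_lt.ne hwo
  have hwcomm : ∀ v : P, ∀ x ∈ orbit P b, w • v • x = v • w • x := fun v x hx => by
    have := congrArg (fun σ : f.range => ((σ : Equiv.Perm (orbit P b)) ⟨x, hx⟩ : Ω))
      (Subgroup.mem_center_iff.mp hwc (f.rangeRestrict v))
    simpa [f] using this.symm
  have hwB : ∀ x ∈ orbit P b, w • x ≠ x := fun x hx hwx => hwQ <| (hQ w).mpr fun y hy => by
    obtain ⟨v, rfl⟩ : y ∈ orbit P x := by rwa [orbit_eq_iff.mpr hx]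
    change w • v • x = v • x
    rw [hwcomm v x hx, hwx]
  have hmixed : ∀ x ∈ orbit P a, ∀ y ∈ orbit P b, ∃ u : P, u • x = x ∧ u • y = w • y := by
    intro x hx y hy
    obtain ⟨v, rfl⟩ := hx
    obtain ⟨u₀, hu₀, q, hq, huq⟩ : ∃ u₀ ∈ stabilizer P a, ∃ q ∈ Q, u₀ * q = w := by
      have h : w ∈ ((stabilizer P a ⊔ Q : Subgroup P) : Set P) := hw
      rw [Subgroup.mul_normal] at h
      exact h
    refine ⟨v * u₀ * v⁻¹, ?_, ?_⟩
    · change (v * u₀ * v⁻¹) • v • a = v • a
      rw [mul_smul, mul_smul, inv_smul_smul, hu₀]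
    · have hy' : v⁻¹ • y ∈ orbit P b := mem_orbit_of_mem_orbit _ hy
      rw [mul_smul, mul_smul]
      have hstep : u₀ • v⁻¹ • y = w • v⁻¹ • y := by
        conv_rhs => rw [← huq, mul_smul, (hQ q).mp hq _ hy']
      rw [hstep, ← hwcomm v _ hy', smul_inv_smul]
  -- the permutation equal to `w` on the second orbit and trivial on the first
  have hmem : ∀ (u : P) (x : Ω), (u • x ∈ orbit P b ↔ x ∈ orbit P b) := fun u x =>
    ⟨fun h => by simpa using mem_orbit_of_mem_orbit u⁻¹ h, fun h => mem_orbit_of_mem_orbit u h⟩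
  let σ : Equiv.Perm Ω :=
    { toFun := fun x => if x ∈ orbit P b then w • x else x
      invFun := fun x => if x ∈ orbit P b then w⁻¹ • x else x
      left_inv := fun x => by by_cases hx : x ∈ orbit P b <;> simp [hx, hmem]
      right_inv := fun x => by by_cases hx : x ∈ orbit P b <;> simp [hx, hmem] }
  obtain ⟨g, hg⟩ := hcl σ (fun x y => by
    by_cases hx : x ∈ orbit P b <;> by_cases hy : y ∈ orbit P b
    · exact ⟨(w : G), by simp [σ, hx]; rfl, by simp [σ, hy]; rfl⟩
    · obtain ⟨u, h1, h2⟩ := hmixed y ((hcov y).resolve_right hy) x hx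
      exact ⟨(u : G), by simp only [σ, Equiv.coe_fn_mk, if_pos hx]; exact h2.symm,
        by simp only [σ, Equiv.coe_fn_mk, if_neg hy]; exact h1.symm⟩
    · obtain ⟨u, h1, h2⟩ := hmixed x ((hcov x).resolve_right hx) y hy
      exact ⟨(u : G), by simp only [σ, Equiv.coe_fn_mk, if_neg hx]; exact h1.symm,
        by simp only [σ, Equiv.coe_fn_mk, if_pos hy]; exact h2.symm⟩
    · exact ⟨1, by simp [σ, hx], by simp [σ, hy]⟩)
  refine ⟨g * (z : G), ?_, ?_⟩
  · have hpow : ∀ (k : ℕ) (x : Ω),
        (g * (z : G)) ^ k • x = if x ∈ orbit P b then w ^ k • x else z ^ k • x := by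
      intro k
      induction k with
      | zero => intro x; simp
      | succ k ih =>
        intro x
        rw [pow_succ', mul_smul, ih]
        by_cases hx : x ∈ orbit P b
        · have hwk : w ^ k • x ∈ orbit P b := (hmem _ _).mpr hx
          have hzfix : z • (w ^ k • x) = w ^ k • x := (hQ z).mp hzQ _ hwk
          rw [if_pos hx, if_pos hx, mul_smul, pow_succ', mul_smul]
          change g • z • (w ^ k • x) = _
          rw [hzfix, ← hg]
          simp [σ, hwk]
        · have hzk : z • (z ^ k • x) ∉ orbit P b := by rwa [hmem, hmem]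
          rw [if_neg hx, if_neg hx, mul_smul, pow_succ', mul_smul]
          change g • z • (z ^ k • x) = _
          rw [← hg]
          simp [σ, hzk]
    refine orderOf_eq_prime (Perm.eq_one_of_forall_smul_eq (α := Ω) fun x => ?_) fun h => ?_
    · rw [hpow]
      by_cases hx : x ∈ orbit P b
      · rw [if_pos hx]; exact (hQ _).mp hwp x hx
      · rw [if_neg hx, ← hzo, pow_orderOf_eq_one, one_smul]
    · have := hpow 1 b
      rw [pow_one, h, one_smul, if_pos (mem_orbit_self b), pow_one] at this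
      exact hwB b (mem_orbit_self b) this.symm
  · intro x hx
    rw [mul_smul, ← hg] at hx
    by_cases hxb : x ∈ orbit P b
    · have hzx : (z : G) • x = x := (hQ z).mp hzQ x hxb
      rw [hzx] at hx
      exact hwB x hxb (by simpa [σ, hxb] using hx)
    · have hzb : (z : G) • x ∉ orbit P b := fun h => hxb ((hmem z x).mp h)
      exact hzA x ((hcov x).resolve_right hxb) (by simp only [σ, Equiv.coe_fn_mk, if_neg hzb] at hx; exact hx)

/-- Let G act faithfully and transitively on a finite set with 2p² points, p a prime, and suppose G is 2-closed: every permutation of the set which, on each ordered pair of points, agrees with some element of G, is itself induced by an element of G. Then some element of G of prime order fixes no point. -/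
theorem result {G Ω : Type*} [Group G] [Finite G] [MulAction G Ω] [FaithfulSMul G Ω] [Finite Ω]
    (htrans : MulAction.IsPretransitive G Ω) (p : ℕ) (hp : p.Prime) (hcard : Nat.card Ω = 2 * p ^ 2)
    (hcl : ∀ σ : Equiv.Perm Ω, (∀ a b : Ω, ∃ g : G, σ a = g • a ∧ σ b = g • b) → ∃ g : G, ∀ a : Ω, σ a = g • a) :
    ∃ g : G, (orderOf g).Prime ∧ ∀ ω : Ω, g • ω ≠ ω := by
  classical
  haveI := Fact.mk hp
  haveI := htrans
  obtain ⟨P⟩ : Nonempty (Sylow p G) := inferInstance
  haveI : Nonempty Ω := (Nat.card_pos_iff.mp (by rw [hcard]; exact Nat.mul_pos two_pos (pow_pos hp.pos 2))).1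
  obtain ⟨a⟩ := ‹Nonempty Ω›
  have hP : IsPGroup p (P : Subgroup G) := P.isPGroup'
  -- every orbit of a Sylow subgroup has size divisible by the `p`-part of the degree
  have hdvd : ∀ (x : Ω) (e : ℕ), p ^ e ∣ Nat.card Ω →
      p ^ e ∣ (MulAction.orbit (P : Subgroup G) x).ncard := by
    intro x e he
    rw [← MulAction.index_stabilizer, ← MulAction.index_stabilizer_of_transitive G x] at *
    obtain ⟨i, hi⟩ := PGroup.index_eq_pow hP (MulAction.stabilizer (P : Subgroup G) x)
    rw [hi]
    have h : (MulAction.stabilizer G x).index ∣ (P : Subgroup G).index * p ^ i := by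
      rw [← hi]
      have hle : (MulAction.stabilizer (P : Subgroup G) x).map (P : Subgroup G).subtype ≤ MulAction.stabilizer G x := by
        rintro _ ⟨u, hu, rfl⟩; exact hu
      have := Subgroup.index_dvd_of_le hle
      rwa [Subgroup.index_map_subtype, mul_comm] at this
    exact (Nat.Coprime.pow_left e ((hp.coprime_iff_not_dvd).mpr P.not_dvd_index)).dvd_of_dvd_mul_left
      (he.trans h)
  by_cases hp2 : p = 2
  · subst hp2
    have h8 : (MulAction.orbit (P : Subgroup G) a) = Set.univ := by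
      refine Set.eq_of_subset_of_ncard_le (Set.subset_univ _) ?_
      rw [Set.ncard_univ, hcard]
      refine Nat.le_of_dvd ((Set.ncard_pos).mpr (MulAction.nonempty_orbit a)) ?_
      have := hdvd a 3 (by rw [hcard]; norm_num)
      simpa using this
    have hPt : MulAction.IsPretransitive (P : Subgroup G) Ω :=
      (MulAction.isPretransitive_iff_orbit_eq_univ a).mpr h8
    obtain ⟨z, -, hzc, hzo⟩ := PGroup.exists_orderOf_eq_mem_center hP (⊤ : Subgroup (P : Subgroup G)) (fun h => by
      have h1 : (MulAction.orbit (P : Subgroup G) a).ncard = 1 := by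
        rw [← MulAction.index_stabilizer, Subgroup.index_eq_one]
        exact top_le_iff.mp (h.trans_le bot_le)
      rw [h8, Set.ncard_univ, hcard] at h1
      norm_num at h1)
    refine ⟨(z : G), by rw [Subgroup.orderOf_coe, hzo]; exact hp, fun x hx => ?_⟩
    have hz1 : z = 1 := Subtype.ext (Perm.eq_one_of_forall_smul_eq (α := Ω) fun y =>
      Perm.smul_eq_of_mem_centralizer (N := (P : Subgroup G))
        (Subgroup.mem_centralizer_iff.mpr fun u hu => congrArg Subtype.val (Subgroup.mem_center_iff.mp hzc ⟨u, hu⟩)) hx y)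
    rw [hz1, orderOf_one] at hzo
    exact absurd hzo (by norm_num)
  have hp3 : 3 ≤ p := by have := hp.two_le; omega
  have hsize : ∀ x : Ω, (MulAction.orbit (P : Subgroup G) x).ncard = p ^ 2 := by
    intro x
    have h1 := hdvd x 2 (by rw [hcard]; exact dvd_mul_left _ _)
    have h2 : (MulAction.orbit (P : Subgroup G) x).ncard ≤ 2 * p ^ 2 := hcard ▸ Set.ncard_le_card _
    obtain ⟨i, hi⟩ := PGroup.index_eq_pow hP (MulAction.stabilizer (P : Subgroup G) x)
    rw [MulAction.index_stabilizer] at hi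
    rw [hi] at h1 h2 ⊢
    have h3 : 2 ≤ i := (Nat.pow_dvd_pow_iff_le_right hp.one_lt).mp h1
    rcases h3.eq_or_lt with rfl | h4
    · rfl
    · have : p ^ 3 ≤ p ^ i := Nat.pow_le_pow_right hp.pos h4
      have : 3 * p ^ 2 ≤ p ^ 3 := by rw [pow_succ' p 2]; exact Nat.mul_le_mul_right _ hp3
      have : 0 < p ^ 2 := pow_pos hp.pos 2
      omega
  obtain ⟨b, hb⟩ : ∃ b : Ω, b ∉ MulAction.orbit (P : Subgroup G) a := by
    by_contra h
    push Not at h
    have := hsize a
    rw [Set.eq_univ_of_forall h, Set.ncard_univ, hcard] at this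
    have : 0 < p ^ 2 := pow_pos hp.pos 2
    omega
  have hdis : Disjoint (MulAction.orbit (P : Subgroup G) a) (MulAction.orbit (P : Subgroup G) b) :=
    Set.disjoint_left.mpr fun x hxa hxb => hb (by
      rw [← MulAction.orbit_eq_iff.mpr hxa, MulAction.orbit_eq_iff.mpr hxb]; exact MulAction.mem_orbit_self b)
  have hcov : ∀ x : Ω, x ∈ MulAction.orbit (P : Subgroup G) a ∨ x ∈ MulAction.orbit (P : Subgroup G) b := by
    have h : MulAction.orbit (P : Subgroup G) a ∪ MulAction.orbit (P : Subgroup G) b = Set.univ := by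
      refine Set.eq_of_subset_of_ncard_le (Set.subset_univ _) ?_
      rw [Set.ncard_univ, Set.ncard_union_eq hdis, hsize, hsize, hcard]; omega
    exact fun x => h.ge (Set.mem_univ x)
  have hgen : ∀ c d : Ω, d ∉ MulAction.orbit (P : Subgroup G) c →
      (∀ x : Ω, x ∈ MulAction.orbit (P : Subgroup G) c ∨ x ∈ MulAction.orbit (P : Subgroup G) d) →
      fixingSubgroup (P : Subgroup G) (MulAction.orbit (P : Subgroup G) d) ≠ ⊥ →
      ∃ g : G, (orderOf g).Prime ∧ ∀ ω : Ω, g • ω ≠ ω := by
    intro c d hcd hcv hne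
    obtain ⟨g, hg, hg'⟩ := key p hcl (P : Subgroup G) hP c d hcd hcv (hsize c) (hsize d) _
      (fun u => mem_fixingSubgroup_iff _) hne
    exact ⟨g, hg ▸ hp, hg'⟩
  by_cases hQb : fixingSubgroup (P : Subgroup G) (MulAction.orbit (P : Subgroup G) b) = ⊥
  swap
  · exact hgen a b hb hcov hQb
  by_cases hQa : fixingSubgroup (P : Subgroup G) (MulAction.orbit (P : Subgroup G) a) = ⊥
  swap
  · exact hgen b a (fun h => hb (MulAction.mem_orbit_symm.mp h)) (fun x => (hcov x).symm) hQa
  obtain ⟨z, -, hzc, hzo⟩ := PGroup.exists_orderOf_eq_mem_center hP (⊤ : Subgroup (P : Subgroup G)) (fun h => by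
    have h1 : (MulAction.orbit (P : Subgroup G) a).ncard = 1 := by
      rw [← MulAction.index_stabilizer, Subgroup.index_eq_one]
      exact top_le_iff.mp (h.trans_le bot_le)
    rw [hsize] at h1
    have : 2 ≤ p ^ 2 := le_trans hp.two_le (Nat.le_self_pow (by norm_num) p)
    omega)
  refine ⟨(z : G), by rw [Subgroup.orderOf_coe, hzo]; exact hp, fun x hx => ?_⟩
  have hz1 : z = 1 := by
    have hall : ∀ y ∈ MulAction.orbit (P : Subgroup G) x, z • y = y := by
      rintro _ ⟨v, rfl⟩
      change z • v • x = v • x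
      rw [← mul_smul, ← Subgroup.mem_center_iff.mp hzc v, mul_smul]
      exact congrArg (v • ·) hx
    rcases hcov x with h | h
    · exact Subgroup.mem_bot.mp (hQa ▸ (mem_fixingSubgroup_iff _).mpr fun y hy => hall y (by rwa [MulAction.orbit_eq_iff.mpr h]))
    · exact Subgroup.mem_bot.mp (hQb ▸ (mem_fixingSubgroup_iff _).mpr fun y hy => hall y (by rwa [MulAction.orbit_eq_iff.mpr h]))
  rw [hz1, orderOf_one] at hzo
  exact hp.one_lt.ne hzo

end Cfsg.Agent.S3557
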