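import Cfsg.Statements.S3560
import Cfsg.Agent.Lib.Perm.Basic

set_option autoImplicit false
open Cfsg

namespace Cfsg.Agent.S3560

/-- The automorphism group of the Hamming graph, carried to `Fin n`. -/
def hamGroup {ι : Type*} [Fintype ι] {m n : ℕ} (ψ : (ι → Fin m) ≃ Fin n) : Subgroup (Equiv.Perm (Fin n)) where
  carrier := {σ | ∀ a b, hammingDist (ψ.symm (σ a)) (ψ.symm (σ b)) = hammingDist (ψ.symm a) (ψ.symm b)}
  mul_mem' := fun {σ τ} hσ hτ a b => (hσ (τ a) (τ b)).trans (hτ a b)
  one_mem' := fun _ _ => rfl
  inv_mem' := fun {σ} hσ a b => by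
    have := hσ (σ⁻¹ a) (σ⁻¹ b)
    simpa using this.symm

theorem coordPerm_mem {ι : Type*} [Fintype ι] {m n : ℕ} (ψ : (ι → Fin m) ≃ Fin n)
    (π : ι → Equiv.Perm (Fin m)) : ψ.permCongr (Equiv.piCongrRight π) ∈ hamGroup ψ := by
  intro a b
  simp only [Equiv.permCongr_apply, Equiv.symm_apply_apply]
  exact hammingDist_comp (fun i => π i) (fun i => (π i).injective)

theorem swapCoord_mem {ι : Type*} [Fintype ι] {m n : ℕ} (ψ : (ι → Fin m) ≃ Fin n)
    (τ : Equiv.Perm ι) : ψ.permCongr (Equiv.arrowCongr τ (Equiv.refl (Fin m))) ∈ hamGroup ψ := by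
  intro a b
  simp only [Equiv.permCongr_apply, Equiv.symm_apply_apply]
  refine Finset.card_equiv τ.symm fun i => ?_
  simp


/-- Let K be a finite group isomorphic to a direct product of r ≥ 2 groups all of the same order m ≥ 3. Then K is not a B-group: there is a primitive but not doubly transitive permutation group (on some finite set) containing a regular subgroup isomorphic to K. -/
theorem result {K : Type*} [Group K] [Finite K] {ι : Type*} [Fintype ι] (F : ι → Type*) [∀ i, Group (F i)]
    (hr : 2 ≤ Fintype.card ι) (m : ℕ) (hm : 3 ≤ m) (hcard : ∀ i, Nat.card (F i) = m) (e : K ≃* (∀ i, F i)) :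
    ∃ (n : ℕ) (G R : Subgroup (Equiv.Perm (Fin n))), R ≤ G ∧ Nonempty (↥R ≃* K) ∧
      MulAction.IsPretransitive ↥R (Fin n) ∧ (∀ a : Fin n, MulAction.stabilizer ↥R a = ⊥) ∧
      MulAction.IsPreprimitive ↥G (Fin n) ∧ ¬ MulAction.IsMultiplyPretransitive ↥G (Fin n) 2 := by
  classical
  haveI : ∀ i, Finite (F i) := fun i => Nat.finite_of_card_ne_zero (by rw [hcard]; omega)
  haveI : NeZero m := ⟨by omega⟩
  let ψ : (ι → Fin m) ≃ Fin (Fintype.card (ι → Fin m)) := Fintype.equivFin _
  let α : ∀ i, F i ≃ Fin m := fun i => Finite.equivFinOfCardEq (hcard i)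
  let β : (∀ i, F i) ≃ Fin (Fintype.card (ι → Fin m)) := (Equiv.piCongrRight α).trans ψ
  let Φ : K →* Equiv.Perm (Fin (Fintype.card (ι → Fin m))) :=
    { toFun := fun k => β.permCongr (Equiv.mulLeft (e k))
      map_one' := by ext; simp [Equiv.permCongr_apply]
      map_mul' := fun k l => by ext; simp [Equiv.permCongr_apply, mul_assoc] }
  have hΦ : ∀ k x, Φ k x = β (e k * β.symm x) := fun k x => rfl
  have hinj : Function.Injective Φ := fun k l h => by
    have := congrArg (fun σ : Equiv.Perm (Fin (Fintype.card (ι → Fin m))) => β.symm (σ (β 1))) h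
    simpa [hΦ] using this
  have hmemG : ∀ k, Φ k ∈ hamGroup ψ := by
    intro k
    convert coordPerm_mem ψ (fun i => (α i).permCongr (Equiv.mulLeft (e k i))) using 1
    ext x
    simp only [hΦ, β, Equiv.permCongr_apply, Equiv.trans_apply, Equiv.symm_trans_apply]
    congr 1
  refine ⟨_, hamGroup ψ, Φ.range, ?_, ⟨(MonoidHom.ofInjective hinj).symm⟩, ?_, ?_, ?_, ?_⟩
  · rintro _ ⟨k, rfl⟩; exact hmemG k
  · refine ⟨fun x y => ⟨⟨Φ (e.symm (β.symm y * (β.symm x)⁻¹)), _, rfl⟩, ?_⟩⟩
    change Φ _ x = y
    rw [hΦ, e.apply_symm_apply, inv_mul_cancel_right, β.apply_symm_apply]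
  · intro a
    rw [Subgroup.eq_bot_iff_forall]
    rintro ⟨_, k, rfl⟩ hg
    rw [MulAction.mem_stabilizer_iff] at hg
    change Φ k a = a at hg
    have hk : e k = 1 := mul_eq_right.mp (β.injective (a₂ := β.symm a) (by rw [β.apply_symm_apply]; exact hg))
    refine Subtype.ext ?_
    change Φ k = 1
    rw [(map_eq_one_iff e e.injective).mp hk, map_one]
  · haveI : MulAction.IsPretransitive ↥(hamGroup ψ) (Fin (Fintype.card (ι → Fin m))) :=
      ⟨fun x y => ⟨⟨_, hmemG (e.symm (β.symm y * (β.symm x)⁻¹))⟩, by change Φ _ x = y; rw [hΦ, e.apply_symm_apply, inv_mul_cancel_right, β.apply_symm_apply]⟩⟩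
    refine Perm.isPreprimitive_of_equivalence fun r hr hinv => ?_
    rw [or_iff_not_imp_left]
    intro hne
    push Not at hne
    obtain ⟨a, b, hab, hne⟩ := hne
    set R : (ι → Fin m) → (ι → Fin m) → Prop := fun x y => r (ψ x) (ψ y) with hR
    have hRinv : ∀ σ : Equiv.Perm (ι → Fin m), ψ.permCongr σ ∈ hamGroup ψ →
        ∀ x y, R x y → R (σ x) (σ y) := fun σ hσ x y h => by
      have h' := hinv ⟨_, hσ⟩ _ _ h
      change r (ψ.permCongr σ (ψ x)) (ψ.permCongr σ (ψ y)) at h'
      simpa [Equiv.permCongr_apply] using h'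
    obtain ⟨x, y, hxy, hne⟩ : ∃ x y, R x y ∧ x ≠ y :=
      ⟨ψ.symm a, ψ.symm b, by simpa [hR] using hab, ψ.symm.injective.ne hne⟩
    obtain ⟨i, hi⟩ := Function.ne_iff.mp hne
    obtain ⟨c, hc1, hc2⟩ : ∃ c : Fin m, c ≠ x i ∧ c ≠ y i := by
      obtain ⟨c, hc⟩ := Finset.exists_mem_notMem_of_card_lt_card (s := {x i, y i}) (t := Finset.univ)
        (by rw [Finset.card_univ, Fintype.card_fin]; exact (Finset.card_le_two).trans_lt (by omega))
      simp at hc; exact ⟨c, hc.1, hc.2⟩
    have h1 := hRinv _ (coordPerm_mem ψ (Function.update (fun _ => 1) i (Equiv.swap (y i) c))) x y hxy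
    have e1 : Equiv.piCongrRight (Function.update (fun _ : ι => (1 : Equiv.Perm (Fin m))) i (Equiv.swap (y i) c)) x = x := by
      ext1 j
      by_cases hj : j = i
      · subst hj; simp [Equiv.swap_apply_of_ne_of_ne hi (Ne.symm hc1)]
      · simp [Function.update_of_ne hj]
    have e2 : Equiv.piCongrRight (Function.update (fun _ : ι => (1 : Equiv.Perm (Fin m))) i (Equiv.swap (y i) c)) y
        = Function.update y i c := by
      ext1 j
      by_cases hj : j = i
      · subst hj; simp
      · simp [Function.update_of_ne hj]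
    rw [e1, e2] at h1
    have h2 : R y (Function.update y i c) := hr.trans (hr.symm hxy) h1
    -- all edges in direction `i`
    have h3 : ∀ (z : ι → Fin m) (d : Fin m), R z (Function.update z i d) := by
      intro z d
      by_cases hd : d = z i
      · subst hd; rw [Function.update_eq_self]; exact hr.refl _
      let π : ι → Equiv.Perm (Fin m) := Function.update (fun j => Equiv.swap (y j) (z j)) i
        (Equiv.swap (Equiv.swap (y i) (z i) c) d * Equiv.swap (y i) (z i))
      have h := hRinv _ (coordPerm_mem ψ π) _ _ h2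
      have f1 : Equiv.piCongrRight π y = z := by
        ext1 j
        by_cases hj : j = i
        · subst hj
          have hne1 : z j ≠ Equiv.swap (y j) (z j) c := fun hh => hc2 <| by
            have := congrArg (Equiv.swap (y j) (z j)) hh
            simpa using this.symm
          simp [π, Equiv.swap_apply_of_ne_of_ne hne1 (Ne.symm hd)]
        · simp [π, Function.update_of_ne hj]
      have f2 : Equiv.piCongrRight π (Function.update y i c) = Function.update z i d := by
        ext1 j
        by_cases hj : j = i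
        · subst hj; simp [π]
        · simp [π, Function.update_of_ne hj]
      rwa [f1, f2] at h
    have h4 : ∀ (z : ι → Fin m) (j : ι) (d : Fin m), R z (Function.update z j d) := by
      intro z j d
      have h := hRinv _ (swapCoord_mem ψ (Equiv.swap i j)) _ _ (h3 (z ∘ Equiv.swap i j) d)
      have g1 : Equiv.arrowCongr (Equiv.swap i j) (Equiv.refl (Fin m)) (z ∘ Equiv.swap i j) = z := by
        ext1 l; simp
      have g2 : Equiv.arrowCongr (Equiv.swap i j) (Equiv.refl (Fin m)) (Function.update (z ∘ Equiv.swap i j) i d)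
          = Function.update z j d := by
        ext1 l
        simp only [Equiv.arrowCongr_apply, Function.comp_apply, Equiv.refl_apply, Equiv.symm_swap]
        by_cases hl : l = j
        · subst hl; simp
        · have : Equiv.swap i j l ≠ i := fun hh => hl (by
            have := congrArg (Equiv.swap i j) hh
            simpa using this)
          simp [Function.update_of_ne hl, Function.update_of_ne this]
      rwa [g1, g2] at h
    have h5 : ∀ (s : Finset ι) (z w : ι → Fin m), R z (s.piecewise w z) := by
      intro s z w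
      induction s using Finset.induction with
      | empty => rw [Finset.piecewise_empty]; exact hr.refl _
      | @insert j s hj ih =>
        rw [Finset.piecewise_insert]
        exact hr.trans ih (h4 _ j (w j))
    intro u v
    have := h5 Finset.univ (ψ.symm u) (ψ.symm v)
    simpa [hR] using this
  · intro h2
    rw [MulAction.is_two_pretransitive_iff] at h2
    obtain ⟨i, j, hij⟩ := Fintype.exists_pair_of_one_lt_card (α := ι) (by omega)
    let z : ι → Fin m := fun _ => 0
    let c : Fin m := ⟨1, by omega⟩
    have hc : c ≠ 0 := by simp [c, Fin.ext_iff]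
    have e1 : hammingDist z (Function.update z i c) = 1 := by
      rw [hammingDist, Finset.card_eq_one]
      refine ⟨i, ?_⟩
      ext l
      by_cases hl : l = i <;> simp [hl, z, Ne.symm hc]
    have e2 : hammingDist z (Function.update (Function.update z i c) j c) = 2 := by
      rw [hammingDist, Finset.card_eq_two]
      refine ⟨i, j, hij, ?_⟩
      ext l
      by_cases hl : l = i
      · subst hl; simp [hij, z, Ne.symm hc]
      · by_cases hl' : l = j <;> simp [hl, hl', z, Ne.symm hc]
    obtain ⟨⟨σ, hσ⟩, hs1, hs2⟩ := h2 (a := ψ z) (b := ψ (Function.update z i c)) (c := ψ z)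
      (d := ψ (Function.update (Function.update z i c) j c))
      (fun h => by rw [← ψ.injective h] at e1; simp at e1)
      (fun h => by rw [← ψ.injective h] at e2; simp at e2)
    change σ _ = _ at hs1 hs2
    have := hσ (ψ z) (ψ (Function.update z i c))
    simp [hs1, hs2, e1, e2] at this

end Cfsg.Agent.S3560
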