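import Cfsg.Statements.S3571
import Cfsg.Agent.S2119
import Cfsg.Agent.Lib.Perm.Basic
import Cfsg.Agent.Lib.AltDerange.Main

set_option autoImplicit false
open Cfsg

namespace Cfsg.Agent.S3571

/-- Let G be an almost simple group whose socle is an alternating group of degree m ≥ 5 (G has a normal subgroup T isomorphic to that alternating group with trivial centralizer), acting faithfully and primitively on a finite set Ω with at least two points, and let r be the largest prime divisor of the number of points. Then G contains an element of order r fixing no point. -/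
theorem result {G Ω : Type*} [Group G] [Finite G] [MulAction G Ω] [FaithfulSMul G Ω] [Finite Ω]
    (T : Subgroup G) (hT : T.Normal) (hTc : Subgroup.centralizer (T : Set G) = ⊥) (m : ℕ) (hm : 5 ≤ m)
    (eT : ↥T ≃* ↥(alternatingGroup (Fin m))) (hprim : MulAction.IsPreprimitive G Ω) (hΩ : 2 ≤ Nat.card Ω)
    (r : ℕ) (hr : r.Prime) (hrd : r ∣ Nat.card Ω) (hmax : ∀ s : ℕ, s.Prime → s ∣ Nat.card Ω → s ≤ r) :
    ∃ g : G, orderOf g = r ∧ ∀ ω : Ω, g • ω ≠ ω := by
  classical
  haveI := hT
  haveI := hprim
  have hcard : 1 < Nat.card T := by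
    rw [Nat.card_congr eT.toEquiv]
    haveI : Nontrivial (Fin m) := Fin.nontrivial_iff_two_le.2 (by omega)
    have h2 : Nat.factorial 5 ≤ m.factorial := Nat.factorial_le hm
    have h := two_mul_nat_card_alternatingGroup (α := Fin m)
    rw [Nat.card_perm, Nat.card_fin] at h
    norm_num [Nat.factorial] at h2
    omega
  haveI : MulAction.IsPretransitive T Ω := Perm.isPretransitive_of_normal (α := Ω) (N := T) fun h => by
    subst h; simp at hcard
  let ψ : T →* Equiv.Perm (Fin m) := (alternatingGroup (Fin m)).subtype.comp eT.toMonoidHom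
  refine AltDerange.exists_derangement T hΩ hm ψ (Subtype.val_injective.comp eT.injective) ?_
    (fun h6 => ?_) hr hrd hmax
  · rw [MonoidHom.range_comp, MonoidHom.range_eq_top.2 eT.surjective, ← MonoidHom.range_eq_map,
      Subgroup.range_subtype]
  · let E := MulEquiv.ofBijective _ (S2119.result m (by omega) h6)
    refine ⟨E.symm.toMonoidHom.comp ((MulAut.congr eT).toMonoidHom.comp MulAut.conjNormal),
      fun t => ?_⟩
    show E.symm (MulAut.congr eT (MulAut.conjNormal (t : G))) = ψ t
    rw [MulEquiv.symm_apply_eq]
    refine MulEquiv.ext fun x => Subtype.ext ?_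
    show (eT (MulAut.conjNormal (t : G) (eT.symm x)) : Equiv.Perm (Fin m)) = _
    have h : MulAut.conjNormal (t : G) (eT.symm x) = t * eT.symm x * t⁻¹ := Subtype.ext (by simp)
    rw [h, map_mul, map_mul, map_inv, MulEquiv.apply_symm_apply]
    simp [E, ψ]

end Cfsg.Agent.S3571
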