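import Cfsg.Statements.S3572
import Cfsg.Agent.Lib.DihedralBGroup.Main

set_option autoImplicit false
open Cfsg

namespace Cfsg.Agent.S3572

/-- A finite primitive permutation group containing a dihedral subgroup that acts regularly (transitively with trivial point stabilizers) is doubly transitive. -/
theorem result {G Ω : Type*} [Group G] [Finite G] [MulAction G Ω] [FaithfulSMul G Ω] [Finite Ω]
    (hprim : MulAction.IsPreprimitive G Ω) (D : Subgroup G) (m : ℕ) (hD : Nonempty (↥D ≃* DihedralGroup m))
    (hDreg : MulAction.IsPretransitive ↥D Ω ∧ ∀ a : Ω, MulAction.stabilizer ↥D a = ⊥) :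
    MulAction.IsMultiplyPretransitive G Ω 2 := by
  obtain ⟨f⟩ := hD
  obtain ⟨htr, hfree⟩ := hDreg
  haveI := hprim
  haveI : Finite D := inferInstance
  haveI : NeZero m := ⟨fun h => by
    subst h
    haveI := Finite.of_equiv (↥D) f.toEquiv
    exact not_finite (DihedralGroup 0)⟩
  rcases isEmpty_or_nonempty Ω with hΩ | ⟨⟨a⟩⟩
  · rw [MulAction.is_two_pretransitive_iff]
    intro x
    exact isEmptyElim x
  haveI := htr
  have hbij : Function.Bijective fun d : D => d • a := by
    refine ⟨fun x y h => ?_, MulAction.surjective_smul D a⟩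
    have h1 : x⁻¹ * y ∈ MulAction.stabilizer D a := by
      rw [MulAction.mem_stabilizer_iff, mul_smul, inv_smul_eq_iff]
      exact h.symm
    rw [hfree a, Subgroup.mem_bot, inv_mul_eq_one] at h1
    exact h1
  exact DihedralB.two_pretransitive
    { hom := D.subtype.comp f.symm.toMonoidHom
      e := f.symm.toEquiv.trans (Equiv.ofBijective _ hbij)
      e_mul := fun d x => by
        simp [Equiv.ofBijective, mul_smul, Subgroup.smul_def] }

end Cfsg.Agent.S3572
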