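import Cfsg.Statements.S3573
import Cfsg.Agent.Lib.Perm.PrimeOrderPerm

set_option autoImplicit false
open Cfsg

namespace Cfsg.Agent.S3573

open Perm.PrimeOrderPerm

/-- An elusive prime satisfies the congruence condition. -/
theorem forward (n k r : ℕ) (hr : r.Prime) (hrn : r ≤ n)
    (h : ∀ σ : Equiv.Perm (Fin n), orderOf σ = r → ∃ s : Finset (Fin n), s.card = k ∧ s.image σ = s) :
    k % r ≤ n % r := by
  classical
  haveI := Fact.mk hr
  obtain ⟨σ, hσ, hsupp⟩ := exists_orderOf_eq_support_card n (n / r) r hr (Nat.div_pos hrn hr.pos)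
    (Nat.div_mul_le_self n r)
  obtain ⟨s, hs, hinv⟩ := h σ hσ
  have hσr : σ ^ r = 1 := hσ ▸ pow_orderOf_eq_one σ
  have hmod := card_modEq_filter_fixed hσr hinv
  have hle : (s.filter fun x => σ x = x).card ≤ n % r := by
    refine le_trans (Finset.card_le_card (t := σ.supportᶜ) fun x hx => ?_) ?_
    · simpa using (Finset.mem_filter.mp hx).2
    · rw [Finset.card_compl, Fintype.card_fin, hsupp]
      have := Nat.div_add_mod n r
      rw [mul_comm] at this
      omega
  rw [← hs, ← hmod]
  exact (Nat.mod_le _ _).trans hle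

/-- The congruence condition gives invariant sets. -/
theorem backward (n k r : ℕ) (hr : r.Prime) (hk : k ≤ n) (h : k % r ≤ n % r) (σ : Equiv.Perm (Fin n))
    (hσ : orderOf σ = r) : ∃ s : Finset (Fin n), s.card = k ∧ s.image σ = s := by
  classical
  haveI := Fact.mk hr
  have hσr : σ ^ r = 1 := hσ ▸ pow_orderOf_eq_one σ
  obtain ⟨c, hc⟩ := dvd_card_support hσr
  have hle : σ.support.card ≤ n := (Finset.card_le_univ _).trans_eq (Fintype.card_fin n)
  have hfix : n % r + σ.support.card ≤ n := by
    have hdiv : c ≤ n / r := by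
      rw [Nat.le_div_iff_mul_le hr.pos, mul_comm, ← hc]; exact hle
    have := Nat.div_add_mod n r
    have := Nat.mul_le_mul_left r hdiv
    omega
  have key : ∃ i j : ℕ, i * r ≤ σ.support.card ∧ j + σ.support.card ≤ n ∧ i * r + j = k := by
    by_cases hkc : k / r ≤ c
    · refine ⟨k / r, k % r, ?_, by omega, Nat.div_add_mod' k r⟩
      rw [hc, mul_comm r c]; exact Nat.mul_le_mul_right r hkc
    · have hck : σ.support.card ≤ k := by
        rw [hc]
        calc r * c ≤ r * (k / r) := Nat.mul_le_mul_left r (le_of_lt (not_le.mp hkc))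
          _ ≤ k := Nat.mul_div_le k r
      refine ⟨c, k - σ.support.card, by rw [hc, mul_comm], by omega, ?_⟩
      rw [mul_comm c r, ← hc]; omega
  obtain ⟨i, j, h1, h2, h3⟩ := key
  obtain ⟨s, hs, hcard⟩ := exists_invariant_card hσr i j h1 (by simpa using h2)
  exact ⟨s, hcard.trans h3, hs⟩


/-- Let 1 ≤ k with 2k < n and consider the symmetric group of degree n acting on the k-subsets of an n-set. Let r be a prime dividing the number C(n,k) of k-subsets. If r is odd, then every permutation of order r fixes some k-subset if and only if r ≤ k and the remainder of k modulo r is at most the remainder of n modulo r. If r = 2, then every involution fixes some k-subset if and only if k is even or n is odd. -/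
theorem result (n k : ℕ) (hk : 1 ≤ k) (hkn : 2 * k < n) (r : ℕ) (hr : r.Prime) (hrd : r ∣ Nat.choose n k) :
    (r ≠ 2 → ((∀ σ : Equiv.Perm (Fin n), orderOf σ = r → ∃ s : Finset (Fin n), s.card = k ∧ s.image σ = s) ↔
      (r ≤ k ∧ k % r ≤ n % r))) ∧
    (r = 2 → ((∀ σ : Equiv.Perm (Fin n), orderOf σ = 2 → ∃ s : Finset (Fin n), s.card = k ∧ s.image σ = s) ↔
      (Even k ∨ Odd n))) := by
  have hrn : r ≤ n := by
    by_contra hlt
    have : ¬ r ∣ Nat.choose n k := fun hd => by
      have h1 : r ∣ n.factorial := hd.trans ⟨k.factorial * (n - k).factorial, by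
        rw [← mul_assoc, Nat.choose_mul_factorial_mul_factorial (by omega : k ≤ n)]⟩
      exact hlt ((Nat.Prime.dvd_factorial hr).mp h1)
    exact this hrd
  refine ⟨fun hr2 => ⟨fun h => ?_, fun h => backward n k r hr (by omega) h.2⟩, fun hr2 => ⟨fun h => ?_, fun h => ?_⟩⟩
  · have hle := forward n k r hr hrn h
    refine ⟨?_, hle⟩
    by_contra hrk
    haveI := Fact.mk hr
    have hkr : k % r = k := Nat.mod_eq_of_lt (not_le.mp hrk)
    have hmod := Choose.choose_modEq_choose_mod_mul_choose_div_nat (n := n) (k := k) (p := r)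
    have hzero : Nat.choose (n % r) (k % r) * Nat.choose (n / r) (k / r) ≡ 0 [MOD r] :=
      hmod.symm.trans (Nat.modEq_zero_iff_dvd.mpr hrd)
    rw [hkr, Nat.div_eq_of_lt (not_le.mp hrk), Nat.choose_zero_right, mul_one, Nat.modEq_zero_iff_dvd] at hzero
    have hd : r ∣ (n % r).factorial := hzero.trans ⟨k.factorial * (n % r - k).factorial, by
      rw [← mul_assoc, Nat.choose_mul_factorial_mul_factorial (hkr ▸ hle)]⟩
    have := (Nat.Prime.dvd_factorial hr).mp hd
    have := Nat.mod_lt n hr.pos
    omega
  · subst hr2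
    have := forward n k 2 hr hrn h
    rw [Nat.even_iff, Nat.odd_iff]
    omega
  · subst hr2
    rw [Nat.even_iff, Nat.odd_iff] at h
    exact backward n k 2 hr (by omega) (by omega)

end Cfsg.Agent.S3573
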