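import Cfsg.Statements.S3575
import Cfsg.Agent.Lib.Perm.PrimeOrderPerm

set_option autoImplicit false
open Cfsg

namespace Cfsg.Agent.S3575

open Perm.PrimeOrderPerm

variable {a b r : ℕ} [hr : Fact r.Prime]

/-- `F` points can be fixed by a permutation of order `r` preserving a partition. -/
def Feasible (a b r F : ℕ) : Prop :=
  ∃ t : ℕ, t * r ≤ b ∧ (b - t * r) * (a % r) ≤ F ∧ F ≤ (b - t * r) * a

theorem fixed_card {α : Type*} [Fintype α] [DecidableEq α] (σ : Equiv.Perm α) :
    (Finset.univ.filter fun x => σ x = x).card = Fintype.card α - σ.support.card := by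
  rw [← Finset.card_compl]
  congr 1
  ext x; simp

/-- A preserved partition constrains the number of fixed points. -/
theorem feasible_of_partition (ha : 2 ≤ a) (σ : Equiv.Perm (Fin (a * b))) (hσ : σ ^ r = 1)
    (f : Fin (a * b) → Fin b) (hf : ∀ j : Fin b, Nat.card {x : Fin (a * b) // f x = j} = a)
    (π : Equiv.Perm (Fin b)) (hπ : ∀ x, f (σ x) = π (f x)) :
    Feasible a b r (Finset.univ.filter fun x => σ x = x).card := by
  classical
  have hsurj : Function.Surjective f := fun j => by
    have : 0 < Nat.card {x : Fin (a * b) // f x = j} := by rw [hf]; omega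
    obtain ⟨⟨x, hx⟩⟩ := (Nat.card_pos_iff.mp this).1
    exact ⟨x, hx⟩
  have hpow : ∀ (m : ℕ) (x : Fin (a * b)), f ((σ ^ m) x) = (π ^ m) (f x) := fun m => by
    induction m with
    | zero => simp
    | succ m ih => intro x; rw [pow_succ', pow_succ', Equiv.Perm.mul_apply, Equiv.Perm.mul_apply, hπ, ih]
  have hπr : π ^ r = 1 := Equiv.ext fun j => by
    obtain ⟨x, rfl⟩ := hsurj j
    rw [← hpow, hσ]; simp
  obtain ⟨t, ht⟩ := dvd_card_support hπr
  have hcfix := fixed_card π
  rw [ht, Fintype.card_fin, mul_comm r t] at hcfix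
  have hfib : ∀ j : Fin b, (Finset.univ.filter fun x => f x = j).card = a := fun j => by
    rw [← Fintype.card_subtype, ← Nat.card_eq_fintype_card, hf]
  have hdecomp : (Finset.univ.filter fun x => σ x = x).card =
      ∑ j ∈ Finset.univ.filter (fun j => π j = j),
        ((Finset.univ.filter fun x => f x = j).filter fun x => σ x = x).card := by
    rw [Finset.card_eq_sum_card_fiberwise (f := f) (t := Finset.univ.filter (fun j => π j = j))]
    · refine Finset.sum_congr rfl fun j _ => ?_
      rw [Finset.filter_comm]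
    · intro x hx
      simp only [Finset.coe_filter, Finset.mem_univ, true_and, Set.mem_ofPred_eq] at hx ⊢
      rw [← hπ, hx]
  have hinv : ∀ j, π j = j →
      (Finset.univ.filter fun x => f x = j).image σ = Finset.univ.filter fun x => f x = j := by
    intro j hj
    refine Finset.eq_of_subset_of_card_le (fun y hy => ?_) (by rw [Finset.card_image_of_injective _ σ.injective])
    obtain ⟨x, hx, rfl⟩ := Finset.mem_image.mp hy
    simp only [Finset.mem_filter, Finset.mem_univ, true_and] at hx ⊢
    rw [hπ, hx, hj]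
  refine ⟨t, ?_, ?_, ?_⟩
  · have := π.support.card_le_univ
    rw [Fintype.card_fin, ht, mul_comm] at this
    exact this
  · rw [hdecomp, ← hcfix]
    refine (smul_eq_mul _ _).symm.trans_le (Finset.card_nsmul_le_sum _ _ (a % r) fun j hj => ?_)
    have hm := card_modEq_filter_fixed hσ (hinv j (Finset.mem_filter.mp hj).2)
    rw [hfib] at hm
    calc a % r = _ := hm.symm
      _ ≤ _ := Nat.mod_le _ _
  · rw [hdecomp, ← hcfix]
    exact (Finset.sum_le_card_nsmul _ _ a fun j _ => (Finset.card_filter_le _ _).trans (hfib j).le).trans_eq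
      (smul_eq_mul _ _)

theorem sum_min (q E : ℕ) : ∀ m, ∑ i ∈ Finset.range m, min q (E - i * q) = min (m * q) E := by
  intro m
  induction m with
  | zero => simp
  | succ m ih => rw [Finset.sum_range_succ, ih, Nat.succ_mul]; omega

/-- Every feasible number of fixed points is realised by every permutation having it. -/
theorem partition_of_feasible (σ : Equiv.Perm (Fin (a * b))) (hσ : orderOf σ = r) (F : ℕ)
    (hF : (Finset.univ.filter fun x => σ x = x).card = F) (hfeas : Feasible a b r F) :
    ∃ f : Fin (a * b) → Fin b, (∀ j : Fin b, Nat.card {x : Fin (a * b) // f x = j} = a) ∧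
      ∃ π : Equiv.Perm (Fin b), ∀ x : Fin (a * b), f (σ x) = π (f x) := by
  classical
  have hr' := hr.out
  haveI : NeZero r := ⟨hr'.ne_zero⟩
  obtain ⟨t, htb, hlo, hhi⟩ := hfeas
  set m := b - t * r with hm
  set q := a / r with hq
  have hqa : a % r + r * q = a := Nat.mod_add_div a r
  have hσr : σ ^ r = 1 := hσ ▸ pow_orderOf_eq_one σ
  obtain ⟨c, hc⟩ := dvd_card_support hσr
  have hsupp : F = a * b - σ.support.card := by rw [← hF, fixed_card, Fintype.card_fin]
  have hle : σ.support.card ≤ a * b := (Finset.card_le_univ _).trans_eq (Fintype.card_fin _)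
  -- the surplus over the least value is a multiple of the order
  obtain ⟨E, hE⟩ : r ∣ F - m * (a % r) := by
    rw [← Nat.modEq_iff_dvd' hlo]
    have h1 : F + r * c = a * b := by omega
    have h2 : m * (a % r) + r * (m * q + t * a) = a * b := by
      have hb' : b = m + t * r := by omega
      calc m * (a % r) + r * (m * q + t * a) = m * (a % r + r * q) + t * r * a := by ring
        _ = a * b := by rw [hqa, hb']; ring
    have h3 : (F + r * c) % r = (m * (a % r) + r * (m * q + t * a)) % r := by rw [h1, h2]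
    simpa [Nat.ModEq] using h3.symm
  have hEle : E ≤ m * q := by
    have h1 : m * a = m * (a % r) + r * (m * q) := by
      conv_lhs => rw [← hqa]
      ring
    exact Nat.le_of_mul_le_mul_left (by omega) hr'.pos
  let e : ℕ → ℕ := fun i => min q (E - i * q)
  have hex : ∀ i : Fin m, ∃ τ : Equiv.Perm (Fin a), τ ^ r = 1 ∧ τ.support.card = (q - e i) * r := by
    intro i
    rcases Nat.eq_zero_or_pos (q - e i) with h0 | hpos
    · exact ⟨1, one_pow r, by simp [h0]⟩
    · obtain ⟨τ, h1, h2⟩ := exists_orderOf_eq_support_card a _ r hr' hpos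
        (le_trans (Nat.mul_le_mul_right r (Nat.sub_le q (e i))) (Nat.div_mul_le_self a r))
      exact ⟨τ, h1 ▸ pow_orderOf_eq_one τ, h2⟩
  choose τ hτ hτs using hex
  -- the model
  let rot : Equiv.Perm (Fin r) := finRotate r
  have hrot : rot ^ r = 1 := by
    have hc' : rot.IsCycle := isCycle_finRotate_of_le hr'.two_le
    have : orderOf rot = r := by
      rw [hc'.orderOf, support_finRotate_of_le hr'.two_le, Finset.card_univ, Fintype.card_fin]
    exact (congrArg (rot ^ ·) this).symm.trans (pow_orderOf_eq_one rot)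
  have hrotne : ∀ x, rot x ≠ x := fun x h => by
    have hs := support_finRotate_of_le hr'.two_le
    have : x ∈ (finRotate r).support := hs ▸ Finset.mem_univ x
    exact Equiv.Perm.mem_support.mp this h
  let ρ : Equiv.Perm ((Fin t × Fin r) × Fin a ⊕ Fin m × Fin a) :=
    Equiv.sumCongr (Equiv.prodCongr (Equiv.prodCongr (Equiv.refl _) rot) (Equiv.refl _))
      (Equiv.prodShear (Equiv.refl _) τ)
  let π₀ : Equiv.Perm (Fin t × Fin r ⊕ Fin m) :=
    Equiv.sumCongr (Equiv.prodCongr (Equiv.refl _) rot) (Equiv.refl _)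
  let g : (Fin t × Fin r) × Fin a ⊕ Fin m × Fin a → Fin t × Fin r ⊕ Fin m := Sum.map Prod.fst Prod.fst
  let eY : Fin t × Fin r ⊕ Fin m ≃ Fin b :=
    (Equiv.sumCongr finProdFinEquiv (Equiv.refl _)).trans (finSumFinEquiv.trans (finCongr (by omega)))
  let eX : (Fin t × Fin r) × Fin a ⊕ Fin m × Fin a ≃ Fin (a * b) :=
    (Equiv.sumProdDistrib _ _ _).symm.trans ((Equiv.prodCongr eY (Equiv.refl _)).trans
      (finProdFinEquiv.trans (finCongr (Nat.mul_comm b a))))
  set σ₀ := eX.permCongr ρ with hσ₀
  have hfixρ : (Finset.univ.filter fun x => ρ x = x).card = F := by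
    rw [Finset.card_filter, Fintype.sum_sum_type, Fintype.sum_prod_type]
    have h1 : ∀ (x : Fin t × Fin r) (y : Fin a), ρ (Sum.inl (x, y)) ≠ Sum.inl (x, y) := fun x y h => by
      simp [ρ, Prod.ext_iff] at h
      exact hrotne _ h
    simp only [if_neg (h1 _ _), Finset.sum_const_zero, zero_add]
    rw [Fintype.sum_prod_type]
    have h2 : ∀ i : Fin m, (∑ y : Fin a, if ρ (Sum.inr (i, y)) = Sum.inr (i, y) then 1 else 0) = a % r + r * e i := by
      intro i
      have hf2 := fixed_card (τ i)
      rw [Finset.card_filter, Fintype.card_fin, hτs] at hf2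
      have hei : e i ≤ q := min_le_left _ _
      refine Eq.trans (Finset.sum_congr rfl fun y _ => by simp [ρ]) (hf2.trans ?_)
      rw [Nat.sub_mul, mul_comm q r, mul_comm (e i) r]
      have := Nat.mul_le_mul_left r hei
      omega
    rw [Finset.sum_congr rfl fun i _ => h2 i, Finset.sum_add_distrib, ← Finset.mul_sum,
      Fin.sum_univ_eq_sum_range (fun i => e i) m, sum_min, min_eq_right hEle, ← hE, Finset.sum_const,
      Finset.card_univ, Fintype.card_fin, smul_eq_mul]
    omega
  have hcardρ : ρ.support.card = σ.support.card := by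
    have h := fixed_card ρ
    rw [hfixρ, Fintype.card_congr eX, Fintype.card_fin] at h
    have : ρ.support.card ≤ a * b := (Finset.card_le_univ _).trans_eq ((Fintype.card_congr eX).trans (Fintype.card_fin _))
    omega
  have hρr : ρ ^ r = 1 := by
    have key : ∀ (k : ℕ), (∀ x y, (ρ ^ k) (Sum.inl (x, y)) = Sum.inl ((x.1, (rot ^ k) x.2), y)) ∧
        (∀ i y, (ρ ^ k) (Sum.inr (i, y)) = Sum.inr (i, (τ i ^ k) y)) := fun k => by
      induction k with
      | zero => simp
      | succ k ih =>
        constructor <;> intro x y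
        · rw [pow_succ', Equiv.Perm.mul_apply, ih.1, pow_succ' rot]; simp [ρ]
        · rw [pow_succ', Equiv.Perm.mul_apply, ih.2, pow_succ' (τ x)]; simp [ρ]
    ext1 (⟨x, y⟩ | ⟨i, y⟩)
    · rw [(key r).1, hrot]; rfl
    · rw [(key r).2, hτ]; rfl
  have hσ₀r : orderOf σ₀ = r := by
    refine (MulEquiv.orderOf_eq eX.permCongrHom ρ).trans (orderOf_eq_prime hρr fun h => ?_)
    rw [h, Equiv.Perm.support_one, Finset.card_empty] at hcardρ
    have := Finset.card_eq_zero.mp hcardρ.symm
    rw [Equiv.Perm.support_eq_empty_iff] at this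
    rw [this, orderOf_one] at hσ
    exact hr'.one_lt.ne hσ
  have hsupp₀ : σ₀.support.card = σ.support.card := by
    rw [← hcardρ]
    refine Finset.card_equiv eX.symm fun x => ?_
    simp [hσ₀, Equiv.Perm.mem_support, Equiv.permCongr_apply, eq_comm (b := x)]
    simp only [Equiv.eq_symm_apply, Equiv.symm_apply_eq, eq_comm]
  have hconj : IsConj σ₀ σ := by
    rw [Equiv.Perm.isConj_iff_cycleType_eq]
    obtain ⟨n₁, h1⟩ := Equiv.Perm.cycleType_prime_order (σ := σ₀) (hσ₀r.symm ▸ hr')
    obtain ⟨n₂, h2⟩ := Equiv.Perm.cycleType_prime_order (σ := σ) (hσ.symm ▸ hr')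
    rw [hσ₀r] at h1; rw [hσ] at h2
    have e1 := σ₀.sum_cycleType
    have e2 := σ.sum_cycleType
    rw [h1, Multiset.sum_replicate, smul_eq_mul, hsupp₀] at e1
    rw [h2, Multiset.sum_replicate, smul_eq_mul] at e2
    rw [h1, h2, Nat.eq_of_mul_eq_mul_right hr'.pos (e1.trans e2.symm)]
  obtain ⟨κ, hκ⟩ := isConj_iff.mp hconj
  refine ⟨fun x => eY (g (eX.symm (κ⁻¹ x))), fun j => ?_, eY.permCongr π₀, fun x => ?_⟩
  · have e1 : {x : Fin (a * b) // eY (g (eX.symm (κ⁻¹ x))) = j} ≃
        {z : (Fin t × Fin r ⊕ Fin m) × Fin a // z.1 = eY.symm j} :=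
      Equiv.subtypeEquiv (((κ⁻¹).trans eX.symm).trans (Equiv.sumProdDistrib _ _ _).symm) fun x => by
        rw [Equiv.eq_symm_apply]
        simp only [Equiv.trans_apply]
        rcases eX.symm (κ⁻¹ x) with z | z <;> rfl
    let e2 : {z : (Fin t × Fin r ⊕ Fin m) × Fin a // z.1 = eY.symm j} ≃ Fin a :=
      { toFun := fun z => z.1.2
        invFun := fun y => ⟨(eY.symm j, y), rfl⟩
        left_inv := fun z => Subtype.ext (Prod.ext z.2.symm rfl)
        right_inv := fun _ => rfl }
    rw [Nat.card_congr (e1.trans e2), Nat.card_fin]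
  · have e2 : κ⁻¹ (σ x) = eX (ρ (eX.symm (κ⁻¹ x))) := by
      rw [← hκ]; simp [hσ₀, Equiv.permCongr_apply]
    simp only [e2, Equiv.symm_apply_apply, Equiv.permCongr_apply]
    congr 1
    rcases eX.symm (κ⁻¹ x) with z | z <;> rfl


/-- Let a, b ≥ 2 and consider the symmetric group of degree a·b acting on the partitions of an (a·b)-set into b parts of size a (encoded as maps onto a b-element set all of whose fibres have a elements; a permutation fixes such a partition when it permutes the fibres). Let r be a prime dividing the number (ab)!/((a!)^b·b!) of such partitions, and let ℓ and k be the remainders of a and b modulo r. Then every permutation of order r fixes some such partition if and only if r ≤ a and one of the following holds: ℓ = 0; or k = 0 and ℓ = 1; or ℓ and k are non-zero, k·ℓ < r, and either b < r or (k + r)·ℓ ≤ k·a + r. -/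
theorem result (a b : ℕ) (ha : 2 ≤ a) (hb : 2 ≤ b) (r : ℕ) (hr : r.Prime)
    (hrd : r ∣ (a * b).factorial / (a.factorial ^ b * b.factorial)) :
    (∀ σ : Equiv.Perm (Fin (a * b)), orderOf σ = r →
        ∃ f : Fin (a * b) → Fin b, (∀ j : Fin b, Nat.card {x : Fin (a * b) // f x = j} = a) ∧
          ∃ π : Equiv.Perm (Fin b), ∀ x : Fin (a * b), f (σ x) = π (f x)) ↔
      (r ≤ a ∧ (a % r = 0 ∨ (b % r = 0 ∧ a % r = 1) ∨
        (a % r ≠ 0 ∧ b % r ≠ 0 ∧ (b % r) * (a % r) < r ∧ (b < r ∨ (b % r + r) * (a % r) ≤ (b % r) * a + r)))) := by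
  classical
  haveI := Fact.mk hr
  have hrab : r ≤ a * b := by
    rw [← Nat.Prime.dvd_factorial hr]
    have h : a.factorial ^ b * b.factorial ∣ (a * b).factorial := by
      rw [mul_comm a b, ← Nat.uniformBell_mul_eq b (show a ≠ 0 by omega)]
      exact ⟨Nat.uniformBell b a, by ring⟩
    exact hrd.trans (Nat.div_dvd_of_dvd h)
  have hcong : (a * b) % r = (b % r) * (a % r) % r := by rw [mul_comm, Nat.mul_mod]
  constructor
  · intro h
    have test : ∀ c : ℕ, 0 < c → c * r ≤ a * b → Feasible a b r (a * b - c * r) := by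
      intro c hc hcr
      obtain ⟨σ, hσ, hs⟩ := exists_orderOf_eq_support_card (a * b) c r hr hc hcr
      obtain ⟨f, hf, π, hπ⟩ := h σ hσ
      have := feasible_of_partition ha σ (hσ ▸ pow_orderOf_eq_one σ) f hf π hπ
      rwa [fixed_card, Fintype.card_fin, hs] at this
    have hra : r ≤ a := by
      by_contra hlt
      obtain ⟨t, htb, h1, h2⟩ := test 1 one_pos (by omega)
      rw [Nat.mod_eq_of_lt (not_le.mp hlt)] at h1
      have h3 : a * b - 1 * r = (b - t * r) * a := le_antisymm h2 h1
      rw [Nat.sub_mul, mul_comm b a] at h3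
      have : t * r * a ≤ a * b := by rw [mul_comm a b]; exact Nat.mul_le_mul_right a htb
      have h4 : t * r * a = r := by omega
      rcases Nat.eq_zero_or_pos t with rfl | htpos
      · simp at h4; exact hr.ne_zero h4.symm
      · have : r * 2 ≤ t * r * a := Nat.mul_le_mul (Nat.le_mul_of_pos_left r htpos) ha
        have := hr.pos
        omega
    refine ⟨hra, ?_⟩
    by_cases hl : a % r = 0
    · exact Or.inl hl
    have hmk : ∀ t, t * r ≤ b → b % r ≤ b - t * r := fun t ht => by
      have ht' : t ≤ b / r := (Nat.le_div_iff_mul_le hr.pos).mpr ht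
      have := Nat.mul_le_mul_right r ht'
      have := Nat.div_add_mod' b r
      omega
    have hkl : (b % r) * (a % r) < r := by
      obtain ⟨t, htb, h1, -⟩ := test (a * b / r) (Nat.div_pos hrab hr.pos) (Nat.div_mul_le_self _ _)
      have h3 : a * b - a * b / r * r = (a * b) % r := by
        have := Nat.div_add_mod' (a * b) r; omega
      rw [h3] at h1
      exact ((Nat.mul_le_mul_right (a % r) (hmk t htb)).trans h1).trans_lt (Nat.mod_lt _ hr.pos)
    have hgap : b < r ∨ (b % r + r) * (a % r) ≤ (b % r) * a + r := by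
      by_contra hcon
      push Not at hcon
      obtain ⟨hbr, hg⟩ := hcon
      have hb' : b % r + r ≤ b := by
        have := Nat.div_add_mod' b r
        have : r ≤ b / r * r := Nat.le_mul_of_pos_left r (Nat.div_pos hbr hr.pos)
        omega
      have hF : (b % r) * a + r + r ≤ a * b := by
        have h1 : (b % r + r) * a ≤ b * a := Nat.mul_le_mul_right a hb'
        have h2 : r * 2 ≤ r * a := Nat.mul_le_mul_left r ha
        rw [add_mul, mul_comm b a] at h1
        omega
      have hdvd : r ∣ a * b - ((b % r) * a + r) := by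
        rw [← Nat.modEq_iff_dvd' (by omega), Nat.ModEq, Nat.add_mod_right, mul_comm a b]
        exact ((Nat.mod_modEq b r).mul_right a)
      obtain ⟨c, hc⟩ := hdvd
      have hcpos : 0 < c := Nat.pos_of_ne_zero fun h0 => by rw [h0, mul_zero] at hc; have := hr.pos; omega
      obtain ⟨t, htb, h1, h2⟩ := test c hcpos (by rw [mul_comm, ← hc]; omega)
      rw [mul_comm c r, ← hc, show a * b - (a * b - ((b % r) * a + r)) = (b % r) * a + r by omega] at h1 h2
      have hmod : (b - t * r) % r = b % r := by
        conv_rhs => rw [← Nat.sub_add_cancel htb, Nat.add_mul_mod_self_right]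
      rcases (hmk t htb).eq_or_lt with heq | hlt
      · rw [← heq] at h2; have := hr.pos; omega
      · have hge : b % r + r ≤ b - t * r := by
          have h3 := Nat.div_add_mod' (b - t * r) r
          rw [hmod] at h3
          have : r ≤ (b - t * r) / r * r := Nat.le_mul_of_pos_left r (Nat.pos_of_ne_zero fun h0 => by
            rw [h0, zero_mul] at h3; omega)
          omega
        have := (Nat.mul_le_mul_right (a % r) hge).trans h1
        omega
    by_cases hk : b % r = 0
    · refine Or.inr (Or.inl ⟨hk, ?_⟩)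
      rcases hgap with hg | hg
      · rw [Nat.mod_eq_of_lt hg] at hk; omega
      · rw [hk, zero_add, zero_mul, zero_add] at hg
        have : a % r ≤ 1 := Nat.le_of_mul_le_mul_left (by simpa using hg) hr.pos
        omega
    · exact Or.inr (Or.inr ⟨hl, hk, hkl, hgap⟩)
  · rintro ⟨hra, hcond⟩ σ hσ
    refine partition_of_feasible σ hσ _ rfl ?_
    set F := (Finset.univ.filter fun x => σ x = x).card with hFdef
    have hσr : σ ^ r = 1 := hσ ▸ pow_orderOf_eq_one σ
    obtain ⟨c, hc⟩ := dvd_card_support hσr
    have hFeq : F = a * b - σ.support.card := by rw [hFdef, fixed_card, Fintype.card_fin]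
    have hle : σ.support.card ≤ a * b := (Finset.card_le_univ _).trans_eq (Fintype.card_fin _)
    by_cases hl : a % r = 0
    · exact ⟨0, by simp, by simp [hl], by simp only [zero_mul, Nat.sub_zero]; rw [mul_comm]; omega⟩
    have hkl : (b % r) * (a % r) < r := by
      rcases hcond with h | h | h
      · exact absurd h hl
      · rw [h.1, zero_mul]; exact hr.pos
      · exact h.2.2.1
    have hgap : r ≤ b → (b % r + r) * (a % r) ≤ (b % r) * a + r := by
      intro hbr
      rcases hcond with h | h | h
      · exact absurd h hl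
      · rw [h.1, h.2]; simp
      · exact h.2.2.2.resolve_left (not_lt.mpr hbr)
    have hFmod : F % r = (b % r) * (a % r) := by
      rw [← Nat.mod_eq_of_lt hkl, ← hcong, show a * b = F + r * c by omega, Nat.add_mul_mod_self_left]
    have hex : ∃ t, (b - t * r) * (a % r) ≤ F := ⟨b / r, by
      have : b - b / r * r = b % r := by have := Nat.div_add_mod' b r; omega
      rw [this, ← hFmod]; exact Nat.mod_le _ _⟩
    obtain ⟨t, hlo, hmin⟩ : ∃ t, (b - t * r) * (a % r) ≤ F ∧ ∀ u < t, ¬ (b - u * r) * (a % r) ≤ F :=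
      ⟨Nat.find hex, Nat.find_spec hex, fun u hu => Nat.find_min hex hu⟩
    rcases Nat.eq_zero_or_pos t with rfl | htpos
    · exact ⟨0, by simp, hlo, by simp only [zero_mul, Nat.sub_zero]; rw [mul_comm]; omega⟩
    obtain ⟨u, rfl⟩ : ∃ u, t = u + 1 := ⟨t - 1, by omega⟩
    have hbound : (u + 1) * r ≤ b := by
      have ht : u + 1 ≤ b / r := by
        by_contra hgt
        refine hmin (b / r) (by omega) ?_
        have : b - b / r * r = b % r := by have := Nat.div_add_mod' b r; omega
        rw [this, ← hFmod]; exact Nat.mod_le _ _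
      exact (Nat.le_div_iff_mul_le hr.pos).mp ht
    refine ⟨u + 1, hbound, hlo, ?_⟩
    set m := b - (u + 1) * r with hm
    have hprev : b - u * r = m + r := by rw [hm, Nat.succ_mul] at *; omega
    have h1 := hmin u (by omega)
    rw [hprev] at h1
    have hmmod : m % r = b % r := by
      conv_rhs => rw [← Nat.sub_add_cancel hbound, Nat.add_mul_mod_self_right]
    have hmge : b % r ≤ m := hmmod ▸ Nat.mod_le m r
    have hdvd : r ∣ (m + r) * (a % r) - F := by
      rw [← Nat.modEq_iff_dvd' (by omega), Nat.ModEq, hFmod, Nat.mul_mod, Nat.add_mod_right, hmmod,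
        Nat.mod_mod, Nat.mod_eq_of_lt hkl]
    have h2 : F + r ≤ (m + r) * (a % r) := by
      have := Nat.le_of_dvd (by omega) hdvd
      omega
    have h3 : (m + r) * (a % r) ≤ m * a + r := by
      have hbr : r ≤ b := le_trans (Nat.le_mul_of_pos_left r (Nat.succ_pos u)) hbound
      have hg := hgap hbr
      obtain ⟨d, hd⟩ := Nat.exists_eq_add_of_le hmge
      have hd2 : d * (a % r) ≤ d * a := Nat.mul_le_mul_left d (Nat.mod_le a r)
      calc (m + r) * (a % r) = (b % r + r) * (a % r) + d * (a % r) := by rw [hd]; ring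
        _ ≤ (b % r) * a + r + d * a := by omega
        _ = m * a + r := by rw [hd]; ring
    omega

end Cfsg.Agent.S3575
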