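import Cfsg.Statements.S3580
import Cfsg.Agent.Lib.SylowFixed.Bound

set_option autoImplicit false
open Cfsg

namespace Cfsg.Agent.S3580

open MulAction Cfsg.Agent.SylowFixed

/-- Orbits of a `p`-group: fixed points count once, the other orbits have at least `p` points. -/
theorem card_orbits_le {P Ω : Type*} [Group P] [MulAction P Ω] [Finite Ω] {p : ℕ} [Fact p.Prime]
    (hP : IsPGroup p P) :
    p * Nat.card (orbitRel.Quotient P Ω) ≤
      Nat.card Ω + (p - 1) * Nat.card ↥(fixedPoints P Ω) := by
  classical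
  have : Fintype Ω := Fintype.ofFinite Ω
  have : Fintype (orbitRel.Quotient P Ω) := Fintype.ofFinite _
  let w : Ω → ℕ := fun x => 1 + (p - 1) * (if x ∈ fixedPoints P Ω then 1 else 0)
  have h1 : ∑ x, w x = Nat.card Ω + (p - 1) * Nat.card ↥(fixedPoints P Ω) := by
    simp only [w, Finset.sum_add_distrib, ← Finset.mul_sum, Finset.sum_boole, Finset.sum_const,
      Finset.card_univ, smul_eq_mul, mul_one, Nat.card_eq_fintype_card, Nat.cast_id]
    rw [Fintype.card_subtype]
  have h2 : ∀ ω : orbitRel.Quotient P Ω, p ≤ ∑ y ∈ Finset.univ.filter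
      (fun y => (Quotient.mk'' y : orbitRel.Quotient P Ω) = ω), w y := by
    intro ω
    obtain ⟨x, rfl⟩ := Quotient.exists_rep ω
    have hset : Finset.univ.filter (fun y => (Quotient.mk'' y : orbitRel.Quotient P Ω) =
        Quotient.mk'' x) = (orbit P x).toFinset := by
      ext y
      simp only [Finset.mem_filter, Finset.mem_univ, true_and, Set.mem_toFinset]
      rw [Quotient.eq'', orbitRel_apply]
    change p ≤ ∑ y ∈ Finset.univ.filter
      (fun y => (Quotient.mk'' y : orbitRel.Quotient P Ω) = Quotient.mk'' x), w y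
    rw [hset]
    obtain ⟨k, hk⟩ := hP.card_orbit x
    rw [Nat.card_eq_card_toFinset] at hk
    rcases Nat.eq_zero_or_pos k with rfl | hk0
    · obtain ⟨a, ha⟩ := Finset.card_eq_one.1 (by rwa [pow_zero] at hk)
      have hx : x ∈ fixedPoints P Ω := fun g => by
        have h3 : g • x ∈ (orbit P x).toFinset := Set.mem_toFinset.2 (mem_orbit x g)
        have h4 : x ∈ (orbit P x).toFinset := Set.mem_toFinset.2 (mem_orbit_self x)
        rw [ha, Finset.mem_singleton] at h3 h4
        exact h3.trans h4.symm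
      refine le_trans ?_ (Finset.single_le_sum (fun y _ => Nat.zero_le _)
        (Set.mem_toFinset.2 (mem_orbit_self x)))
      simp only [w, if_pos hx]
      omega
    · calc p ≤ p ^ k := Nat.le_self_pow hk0.ne' p
        _ = ((orbit P x).toFinset).card := hk.symm
        _ = ∑ y ∈ (orbit P x).toFinset, 1 := by simp
        _ ≤ _ := Finset.sum_le_sum fun y _ => Nat.le_add_right 1 _
  rw [← h1, ← Finset.sum_fiberwise Finset.univ
    (fun y => (Quotient.mk'' y : orbitRel.Quotient P Ω)) w, Nat.card_eq_fintype_card,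
    ← Finset.card_univ, mul_comm, ← smul_eq_mul]
  exact Finset.card_nsmul_le_sum _ _ _ fun ω _ => h2 ω

/-- Let G act faithfully and transitively on a finite set Ω, let p be an odd prime dividing the order of G and P a Sylow p-subgroup of G. Then the number of orbits of P on Ω is at most (p/(2p − 1))·(number of points). -/
theorem result {G Ω : Type*} [Group G] [Finite G] [MulAction G Ω] [FaithfulSMul G Ω] [Finite Ω]
    (htrans : MulAction.IsPretransitive G Ω) (p : ℕ) [Fact p.Prime] (hp2 : p ≠ 2) (hpG : p ∣ Nat.card G)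
    (P : Sylow p G) :
    (2 * p - 1) * Nat.card (MulAction.orbitRel.Quotient ↥(P : Subgroup G) Ω) ≤ p * Nat.card Ω := by
  set L : Subgroup G := pGen p ⊤ with hL
  have hPL : (P : Subgroup G) ≤ L := sylow_le_pGen le_top
  have hLn : L.Normal :=
    Subgroup.normalizer_eq_top_iff.1 (top_unique (le_normalizer_pGen (p := p) (⊤ : Subgroup G)))
  have hF : Nat.card ↥(fixedPoints ↥L Ω) = 0 := by
    rw [Nat.card_eq_zero]
    refine Or.inl ⟨fun ⟨a, ha⟩ => ?_⟩
    have hL1 : ∀ l ∈ L, l = 1 := by
      intro l hl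
      refine eq_of_smul_eq_smul (α := Ω) fun b => ?_
      obtain ⟨g, rfl⟩ := htrans.exists_smul_eq a b
      have h := ha ⟨g⁻¹ * l * g, by simpa using hLn.conj_mem l hl g⁻¹⟩
      change (g⁻¹ * l * g) • a = a at h
      rw [mul_smul, mul_smul, inv_smul_eq_iff] at h
      rw [h, one_smul]
    obtain ⟨x, hx⟩ := exists_prime_orderOf_dvd_card' (G := G) p hpG
    have hxL : x ∈ L := Subgroup.subset_closure ⟨Subgroup.mem_top x, 1, by rw [hx, pow_one]⟩
    rw [hL1 x hxL, orderOf_one] at hx
    exact (Fact.out : p.Prime).one_lt.ne hx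
  have h0 := (dfct_orbit_split (fun H hH => dfct_nonneg (pGen_generated (p := p) (⊤ : Subgroup G)) hH) Ω).1
  rw [dfct_subgroup Ω L P hPL, hF, dfct, fxN_eq Ω P] at h0
  have h1 := card_orbits_le (Ω := Ω) P.isPGroup'
  have hp := (Fact.out : p.Prime).two_le
  refine Nat.le_of_mul_le_mul_left ?_ (show 0 < p by omega)
  zify [show 1 ≤ p by omega, show 1 ≤ 2 * p by omega] at h1 ⊢
  push_cast at h0
  nlinarith [mul_le_mul_of_nonneg_left h1 (show (0 : ℤ) ≤ 2 * p - 1 by linarith)]

end Cfsg.Agent.S3580
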