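import Cfsg.Statements.S3583
import Cfsg.Agent.Lib.PSL2.ClassSizes.Split

set_option autoImplicit false
open Cfsg

namespace Cfsg.Agent.S3583

/-- Let F be a finite field with q elements, where either q is even and q > 2, or q is odd and q ≥ 7, and let G be a finite group whose set of conjugacy class sizes equals that of PSL(2,F). Then G is the direct product of a normal subgroup isomorphic to PSL(2,F) and a central (hence abelian) subgroup: there are subgroups N and A of G with N normal and isomorphic to PSL(2,F), A contained in the centre, N ∩ A = 1 and NA = G. -/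
theorem result {F : Type*} [Field F] [Fintype F]
    (hq : (2 ∣ Fintype.card F ∧ 2 < Fintype.card F) ∨ (¬ 2 ∣ Fintype.card F ∧ 7 ≤ Fintype.card F))
    {G : Type*} [Group G] [Finite G]
    (h : Set.range (fun g : G => (Subgroup.centralizer ({g} : Set G)).index) = Set.range (fun g : (Matrix.ProjectiveSpecialLinearGroup (Fin 2) F) => (Subgroup.centralizer ({g} : Set (Matrix.ProjectiveSpecialLinearGroup (Fin 2) F))).index)) :
    ∃ N A : Subgroup G, N.Normal ∧ A ≤ Subgroup.center G ∧ N ⊓ A = ⊥ ∧ N ⊔ A = ⊤ ∧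
      Nonempty (N ≃* Matrix.ProjectiveSpecialLinearGroup (Fin 2) F) := by
  obtain ⟨p, hp⟩ := CharP.exists F
  obtain ⟨n, hp', hn⟩ := FiniteField.card F p
  rcases hq with ⟨h2, h2'⟩ | ⟨hodd, h7⟩
  · have h4 : 4 ≤ Fintype.card F := by obtain ⟨j, hj⟩ := h2; omega
    obtain ⟨i⟩ := PSLSizes.quotient_even h2 h4 h
    obtain ⟨u, v, w, hyp⟩ := PSLSizes.hyp_even h2 h4 h hn hp'
    exact PSLSizes.exists_split_extension hyp h4 i fun h20 =>
      absurd (PSL2.even_card_iff.1 (even_iff_two_dvd.2 h2)) h20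
  · obtain ⟨i⟩ := PSLSizes.quotient_odd hodd h7 h
    obtain ⟨s, d, ha, h1, h3⟩ := PSLSizes.exists_arith (q := p ^ (n : ℕ))
      (Nat.odd_iff.2 (by omega)) (hn ▸ h7)
    have hS := PSLSizes.oddSizes hn h7 ha h1 h3 h
    exact PSLSizes.exists_split_extension (hS.hyp hp' ha) (by omega) i fun _ => by
      obtain ⟨g, hg⟩ := hS.mem_w
      have hodd' : ¬ 2 ∣ s * p ^ (n : ℕ) := Nat.two_dvd_ne_zero.2 (Nat.odd_iff.1 (ha.hs.mul (Nat.odd_iff.2 (by omega))))
      refine ⟨g, fun hz => ?_, hg ▸ hodd'⟩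
      have := hg.symm.trans (ClassSize.CoprimeTop.cl_eq_one.2 hz)
      have := ha.hs3
      nlinarith

end Cfsg.Agent.S3583
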