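import Cfsg.Statements.S3589
import Cfsg.Agent.Lib.Spectrum.SympEight
-- import your own Cfsg.Agent.* helpers here

set_option autoImplicit false
open Cfsg

namespace Cfsg.Agent.S3589

open Cfsg.Agent.Spectrum Cfsg.Agent.Forms Cfsg.Agent.Forms.SympOrthCover
open scoped Matrix

variable {F : Type*} [Field F] [Fintype F] [CharP F 2]

theorem exists_pow_orderOf {G : Type*} [Group G] [Finite G] (g : G) {n : ℕ} (h : n ∣ orderOf g) :
    ∃ x : G, orderOf x = n := by
  have hg := orderOf_pos g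
  have hn : 0 < n := Nat.pos_of_dvd_of_pos h hg
  refine ⟨g ^ (orderOf g / n), ?_⟩
  rw [orderOf_pow' g (Nat.div_pos (Nat.le_of_dvd hg h) hn).ne', Nat.gcd_eq_right (Nat.div_dvd_of_dvd h),
    Nat.div_div_self h hg.ne']

/-- `PSp` and `spGL` have the same element orders. -/
theorem range_psp :
    Set.range (orderOf : Cfsg.PSp 4 F → ℕ) = Set.range (orderOf : spGL 4 F → ℕ) := by
  have hc : Subgroup.center (Matrix.symplecticGroup (Fin 4) F) = ⊥ := by
    rw [eq_bot_iff]
    intro z hz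
    obtain ⟨c, hcz⟩ := GL.symp_center_scalar z hz
    have hcc := GL.symp_scalar_sq (F := F) (n := 4) (c := c) (by norm_num)
      (hcz ▸ GL.mem_symplectic_iff_preserves.1 z.2)
    have hc1 : c = 1 := by
      rcases mul_self_eq_one_iff.1 hcc with h | h
      · exact h
      · rw [h, CharTwo.neg_eq]
    refine Subgroup.mem_bot.2 (Subtype.ext ?_)
    rw [hcz, hc1, one_smul]
    rfl
  let e₀ : Cfsg.PSp 4 F ≃* Matrix.symplecticGroup (Fin 4) F :=
    (QuotientGroup.quotientMulEquivOfEq hc).trans QuotientGroup.quotientBot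
  let f : Matrix.symplecticGroup (Fin 4) F →* spGL 4 F :=
    ((Matrix.symplecticGroup (Fin 4) F).subtype.toHomUnits).codRestrict (spGL 4 F) fun g =>
      mem_spGL_iff.2 (GL.mem_symplectic_iff_preserves.1 g.2)
  have hf : Function.Injective f := fun a b h => by
    have h' := congrArg (fun x : spGL 4 F =>
      ((x : Matrix.GeneralLinearGroup (Fin 4 ⊕ Fin 4) F) : Matrix (Fin 4 ⊕ Fin 4) (Fin 4 ⊕ Fin 4) F)) h
    exact Subtype.ext h'
  have hs : Function.Surjective f := by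
    rintro ⟨g, hg⟩
    exact ⟨⟨(g : Matrix (Fin 4 ⊕ Fin 4) (Fin 4 ⊕ Fin 4) F),
      GL.mem_symplectic_iff_preserves.2 fun u v => mem_spGL_iff.1 hg u v⟩, Subtype.ext (Units.ext rfl)⟩
  let e := e₀.trans (MulEquiv.ofBijective f ⟨hf, hs⟩)
  ext n
  exact ⟨fun ⟨x, hx⟩ => ⟨e x, by rw [MulEquiv.orderOf_eq, hx]⟩,
    fun ⟨x, hx⟩ => ⟨e.symm x, by rw [MulEquiv.orderOf_eq, hx]⟩⟩

/-- Change of coordinates from `Fin 4 ⊕ Fin 4` to the coordinates of the minus form. -/
noncomputable def coords (a : F) (ha : a ≠ 0) :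
    (Fin 4 ⊕ Fin 4 → F) ≃ₗ[F] ((Fin 3 ⊕ Fin 3) ⊕ Fin 2 → F) where
  toFun v := Sum.elim (Sum.elim (fun i => v (.inl i.castSucc)) fun i => v (.inr i.castSucc))
    ![v (.inl (Fin.last 3)), v (.inr (Fin.last 3)) / a]
  map_add' u v := by
    funext j
    rcases j with (i | i) | i
    · rfl
    · rfl
    · fin_cases i <;> simp [add_div]
  map_smul' c v := by
    funext j
    rcases j with (i | i) | i
    · rfl
    · rfl
    · fin_cases i <;> simp [mul_div_assoc]
  invFun u := Sum.elim (Fin.snoc (fun i => u (.inl (.inl i))) (u (.inr 0)))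
    (Fin.snoc (fun i => u (.inl (.inr i))) (u (.inr 1) * a))
  left_inv v := by
    funext j
    rcases j with i | i <;> refine Fin.lastCases ?_ (fun k => ?_) i <;>
      simp only [Sum.elim_inl, Sum.elim_inr, Fin.snoc_last, Fin.snoc_castSucc, Matrix.cons_val_zero,
        Matrix.cons_val_one, Matrix.cons_val_fin_one] <;> field_simp
  right_inv u := by
    funext j
    rcases j with (i | i) | i
    · simp only [Sum.elim_inl, Sum.elim_inr, Fin.snoc_castSucc]
    · simp only [Sum.elim_inl, Sum.elim_inr, Fin.snoc_castSucc]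
    · fin_cases i <;> simp only [Sum.elim_inl, Sum.elim_inr, Fin.snoc_last, Fin.zero_eta, Fin.mk_one,
        Matrix.cons_val_zero, Matrix.cons_val_one, Matrix.cons_val_fin_one] <;> field_simp


/-- Let F be a finite field of characteristic 2 and let a, b ∈ F make the binary form z₁² + a z₁z₂ + b z₂² anisotropic. Then the symplectic group PSp(8,F) (= Sp(8,F)) and the full isometry group of the non-singular quadratic form x₁y₁ + x₂y₂ + x₃y₃ + (z₁² + a z₁z₂ + b z₂²) of minus type in dimension 8 have the same set of element orders. -/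
theorem result {F : Type*} [Field F] [Fintype F]
    [CharP F 2] (a b : F) (han : ∀ z₁ z₂ : F, z₁ ^ 2 + a * z₁ * z₂ + b * z₂ ^ 2 = 0 → z₁ = 0 ∧ z₂ = 0) :
    Set.range (orderOf : Cfsg.PSp 4 F → ℕ) = Set.range (orderOf : ↥(Cfsg.isometryGroup F (Cfsg.quadFormMinus 3 F a b)) → ℕ) := by
  classical
  have ha : a ≠ 0 := by
    intro ha
    obtain ⟨r, hr⟩ := SympTwo.exists_sqrt b
    have h := (han r 1 (by
      subst ha
      linear_combination hr + (r * r) * CharTwo.two_eq_zero (R := F))).2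
    exact one_ne_zero h
  obtain ⟨β, hβ⟩ := SympTwo.exists_sqrt (b / (a * a))
  set w : Fin 4 ⊕ Fin 4 → F := Sum.elim ![0, 0, 0, β] ![0, 0, 0, 1] with hwdef
  have hw : ¬ AS (quadPlus 4 F w) := by
    rintro ⟨d, hd⟩
    have hq : quadPlus 4 F w = β := by
      simp [hwdef, SympBlocks.quadPlus_eq, Fin.sum_univ_four]
    rw [hq] at hd
    have hb : b = a * a * (β * β) := by
      rw [hd] at hβ ⊢
      field_simp at hβ
      linear_combination hβ
    have h := (han (a * (d * d)) 1 (by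
      rw [hb, hd]
      linear_combination (a * a * (d * d * (d * d) + d * d + d * d * d)) *
        CharTwo.two_eq_zero (R := F))).2
    exact one_ne_zero h
  let Ψ := coords a ha
  have hΨ : ∀ v, quadFormMinus 3 F a b (Ψ v) = tw w v := by
    intro v
    have hβ' : b = a * a * (β * β) := by
      field_simp at hβ
      linear_combination hβ
    simp [Ψ, coords, quadFormMinus, tw, hwdef, SympBlocks.quadPlus_eq, SympBlocks.sympForm_eq,
      Fin.sum_univ_four, Fin.sum_univ_three]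
    rw [hβ']
    field_simp
    ring_nf
    simp [CharTwo.two_eq_zero]
  let Φ : Matrix ((Fin 3 ⊕ Fin 3) ⊕ Fin 2) ((Fin 3 ⊕ Fin 3) ⊕ Fin 2) F ≃ₐ[F]
      Matrix (Fin 4 ⊕ Fin 4) (Fin 4 ⊕ Fin 4) F :=
    Matrix.toLinAlgEquiv'.trans ((LinearEquiv.conjAlgEquiv F Ψ.symm).trans LinearMap.toMatrixAlgEquiv')
  have hΦ : ∀ M v, Φ M *ᵥ v = Ψ.symm (M *ᵥ Ψ v) := fun M v => by
    rw [← Matrix.toLinAlgEquiv'_apply (Φ M)]
    simp [Φ]
  let U := Units.mapEquiv Φ.toMulEquiv
  have hQ : IsForm (tw w) := isForm_tw w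
  -- the isometry group is the stabiliser of `tw w` inside the symplectic group
  have hiso : ∀ g : Matrix.GeneralLinearGroup ((Fin 3 ⊕ Fin 3) ⊕ Fin 2) F,
      g ∈ Cfsg.isometryGroup F (Cfsg.quadFormMinus 3 F a b) ↔
        ∀ v, tw w ((U g : Matrix (Fin 4 ⊕ Fin 4) (Fin 4 ⊕ Fin 4) F) *ᵥ v) = tw w v := by
    intro g
    constructor
    · intro hg v
      change tw w (Φ _ *ᵥ v) = _
      rw [hΦ, ← hΨ, ← hΨ, Ψ.apply_symm_apply]
      exact hg (Ψ v) (Ψ v)
    · intro h u _
      have := h (Ψ.symm u)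
      change tw w (Φ _ *ᵥ _) = _ at this
      rw [hΦ, ← hΨ, ← hΨ, Ψ.apply_symm_apply, Ψ.apply_symm_apply] at this
      exact this
  have hsp : ∀ x : Matrix.GeneralLinearGroup (Fin 4 ⊕ Fin 4) F,
      (∀ v, tw w ((x : Matrix _ _ F) *ᵥ v) = tw w v) → x ∈ spGL 4 F := by
    intro x hx
    refine mem_spGL_iff.2 fun u v => ?_
    have h1 := hQ.add ((x : Matrix _ _ F) *ᵥ u) ((x : Matrix _ _ F) *ᵥ v)
    rw [← Matrix.mulVec_add, hx, hx, hx, hQ.add] at h1
    linear_combination -h1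
  rw [range_psp]
  ext n
  constructor
  · rintro ⟨x, rfl⟩
    obtain ⟨k, hk, hpow⟩ := SympEight.exists_maxOrder_pow (A := ((x : Matrix.GeneralLinearGroup
      (Fin 4 ⊕ Fin 4) F) : Matrix (Fin 4 ⊕ Fin 4) (Fin 4 ⊕ Fin 4) F)) (fun u v => mem_spGL_iff.1 x.2 u v)
      ((Matrix.isUnit_iff_isUnit_det _).1
        (x : Matrix.GeneralLinearGroup (Fin 4 ⊕ Fin 4) F).isUnit).ne_zero
    have hxk : orderOf x ∣ k := orderOf_dvd_of_pow_eq_one (Subtype.ext (Units.ext hpow))
    obtain ⟨j, hkj, g, w', hg, htype, hj⟩ := SympEight.realised_maxOrders hk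
    obtain ⟨h, -, hh⟩ := exists_equiv hQ (isForm_tw w') (iff_of_false
      (fun hP => htype.1 ((plus_tw_iff w').1 hP)) fun hP => hw ((plus_tw_iff w).1 hP))
    have hfix : ∀ v, tw w (((h * g * h⁻¹ : Matrix.GeneralLinearGroup _ F) : Matrix _ _ F) *ᵥ v) =
        tw w v := fun v => by
      rw [Units.val_mul, Units.val_mul, ← Matrix.mulVec_mulVec, ← Matrix.mulVec_mulVec, hh, hg, ← hh,
        mulVec_inv_mulVec]
    let y : ↥(Cfsg.isometryGroup F (Cfsg.quadFormMinus 3 F a b)) :=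
      ⟨U.symm (h * g * h⁻¹), (hiso _).2 (by rw [U.apply_symm_apply]; exact hfix)⟩
    have hy : orderOf y = orderOf g := by
      rw [← Subgroup.orderOf_coe, U.symm.orderOf_eq]
      exact (MulAut.conj h).orderOf_eq g
    exact exists_pow_orderOf y (hy ▸ (hxk.trans hkj).trans hj)
  · rintro ⟨y, rfl⟩
    refine ⟨⟨U y, hsp _ ((hiso _).1 y.2)⟩, ?_⟩
    rw [← Subgroup.orderOf_coe, U.orderOf_eq, Subgroup.orderOf_coe]

end Cfsg.Agent.S3589
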