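import Cfsg.Statements.S3593
import Cfsg.Agent.Lib.Order95040.Main
import Cfsg.Agent.Lib.Order95040.Nse

set_option autoImplicit false
open Cfsg

namespace Cfsg.Agent.S3593

/-- Let M be the Mathieu group M₁₂ (order 95040). If a finite group G has the same order as M and the same set of values of the function 'number of elements of order n' (taken over the element orders n that occur), then G is isomorphic to M. -/
theorem result {G : Type*} [Group G] [Finite G]
    (hcard : Nat.card G = Nat.card ↥Cfsg.Spor.M12)
    (hnse : {c : ℕ | 0 < c ∧ ∃ n : ℕ, c = Nat.card {g : G // orderOf g = n}} =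
      {c : ℕ | 0 < c ∧ ∃ n : ℕ, c = Nat.card {g : ↥Cfsg.Spor.M12 // orderOf g = n}}) :
    Nonempty (G ≃* ↥Cfsg.Spor.M12) := by
  haveI := Cfsg.Agent.Mathieu.isSimple_M12
  haveI : Finite Cfsg.Spor.M12 :=
    Nat.finite_of_card_ne_zero (by rw [Cfsg.Agent.Mathieu.card_M12]; norm_num)
  exact Cfsg.Agent.Order95040.nse_M12
    (fun hs hc => by
      haveI := hs
      exact Cfsg.Agent.Order95040.nonempty_mulEquiv hc Cfsg.Agent.Mathieu.card_M12) hcard hnse

end Cfsg.Agent.S3593
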