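import Cfsg.Statements.S4765
import Cfsg.Agent.Lib.DefChar.Steinberg
import Cfsg.Agent.Lib.GL2Char.OddCount
import Cfsg.Agent.Lib.GL2Char.Even
import Cfsg.Agent.Lib.GL2Char.SLAbove
import Cfsg.Agent.Lib.Char.Descend

set_option autoImplicit false
open Cfsg Cfsg.Agent

namespace Cfsg.Agent.S4765

/-- Let F be a finite field of characteristic p with at least 4 elements. Then PSL(2,F) has exactly one irreducible complex character of degree divisible by p, and its degree is the order of F. -/
theorem result (p : ℕ) [Fact p.Prime] (F : Type*) [Field F] [Fintype F] [CharP F p] (hF : 4 ≤ Fintype.card F) : Nat.card {χ : Cfsg.IrrCharacter (Matrix.ProjectiveSpecialLinearGroup (Fin 2) F) // p ∣ Cfsg.charDegree (χ : Matrix.ProjectiveSpecialLinearGroup (Fin 2) F → ℂ)} = 1 ∧ ∀ χ : Cfsg.IrrCharacter (Matrix.ProjectiveSpecialLinearGroup (Fin 2) F), p ∣ Cfsg.charDegree (χ : Matrix.ProjectiveSpecialLinearGroup (Fin 2) F → ℂ) → Cfsg.charDegree (χ : Matrix.ProjectiveSpecialLinearGroup (Fin 2) F →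 ℂ) = Fintype.card F := by
  classical
  set q := Fintype.card F with hq
  obtain ⟨f, hf0, hf⟩ := GL.card_eq_pow_char (F := F) (p := p)
  have hpp : p.Prime := Fact.out
  have hpq : p ∣ q := by rw [hq, hf]; exact dvd_pow_self p hf0.ne'
  -- a degree divisible by `p` is `q`
  have hdeg : ∀ θ : IrrCharacter (Matrix.SpecialLinearGroup (Fin 2) F),
      p ∣ Char.degree θ → θ.1 1 = (q : ℂ) := by
    intro θ hd
    have hnot : ∀ m : ℕ, θ.1 1 = (m : ℂ) → (p ∣ m → False) → θ.1 1 = (q : ℂ) := fun m hm hno => by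
      rw [Char.apply_one_eq_degree, Nat.cast_inj] at hm
      exact (hno (hm ▸ hd)).elim
    have h1 : ∀ m : ℕ, (p ∣ m → p ∣ 1) → p ∣ m → False := fun m h hm => hpp.not_dvd_one (h hm)
    have hqp : ¬ p ∣ q + 1 := fun h => hpp.not_dvd_one ((Nat.dvd_add_right hpq).1 h)
    have hqm : ¬ p ∣ q - 1 := fun h => by
      have := Nat.dvd_sub hpq h
      rw [Nat.sub_sub_self (by omega)] at this
      exact hpp.not_dvd_one this
    rcases Nat.even_or_odd q with hev | hodd
    · have h2 : p = 2 := by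
        have h2d : 2 ∣ p ^ f := hf ▸ even_iff_two_dvd.1 hev
        exact ((Nat.prime_dvd_prime_iff_eq Nat.prime_two hpp).1 (Nat.prime_two.dvd_of_dvd_pow h2d)).symm
      subst h2
      rcases GL2Char.degree_mem_SL θ with h | h | h | h
      · exact hnot 1 (by rw [h]; norm_num) hpp.not_dvd_one
      · exact hnot (q - 1) (by rw [h, Nat.cast_sub (by omega), Nat.cast_one]) hqm
      · exact h
      · exact hnot (q + 1) (by rw [h]; push_cast; rfl) hqp
    · rcases GL2Char.degree_mem_SL_odd hodd θ with h | h | h | h | h | h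
      · exact hnot 1 (by rw [h]; norm_num) hpp.not_dvd_one
      · exact h
      · exact hnot (q + 1) (by rw [h]; push_cast; rfl) hqp
      · exact hnot (q - 1) (by rw [h, Nat.cast_sub (by omega), Nat.cast_one]) hqm
      · exact hnot ((q + 1) / 2) h fun hh => hqp (hh.trans ⟨2, by obtain ⟨r, hr⟩ := hodd; omega⟩)
      · exact hnot ((q - 1) / 2) h fun hh => hqm (hh.trans ⟨2, by obtain ⟨r, hr⟩ := hodd; omega⟩)
  -- the Steinberg character of the quotient
  obtain ⟨St, hStdeg, hStc⟩ := DefChar.exists_steinberg (F := F) (n := 2) (by omega)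
  obtain ⟨χ₀, hχ₀⟩ := Char.exists_descend (Subgroup.center (Matrix.SpecialLinearGroup (Fin 2) F)) St hStc
  have hχ₀d : Char.degree χ₀ = q := by
    have h := hχ₀ 1
    rw [QuotientGroup.mk_one, Char.apply_one_eq_degree, Char.apply_one_eq_degree, hStdeg,
      show 2 * (2 - 1) / 2 = 1 from rfl, pow_one] at h
    exact_mod_cast h
  have huniq : ∀ χ : IrrCharacter (Matrix.SpecialLinearGroup (Fin 2) F ⧸
      Subgroup.center (Matrix.SpecialLinearGroup (Fin 2) F)),
      p ∣ charDegree χ.1 → χ = χ₀ := by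
    intro χ hd
    apply Char.inflate_injective
    have hSt : ∀ θ : IrrCharacter (Matrix.SpecialLinearGroup (Fin 2) F), θ.1 1 = (q : ℂ) →
        θ = GL2Char.stS := fun θ h => GL2Char.eq_stS_of_degree θ h
    rw [hSt (Char.inflate _ χ) (hdeg _ ?_), hSt (Char.inflate _ χ₀) ?_]
    · rw [Char.inflate_apply, QuotientGroup.mk_one, Char.apply_one_eq_degree, hχ₀d]
    · have : Char.degree (Char.inflate _ χ) = Char.degree χ := by
        have h := Char.apply_one_eq_degree (Char.inflate _ χ)
        rw [Char.inflate_apply, QuotientGroup.mk_one, Char.apply_one_eq_degree] at h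
        exact_mod_cast h.symm
      rwa [this, ← Char.charDegree_eq_degree]
  refine ⟨?_, fun χ hd => by rw [huniq χ hd, Char.charDegree_eq_degree, hχ₀d]⟩
  rw [Nat.card_eq_one_iff_unique]
  exact ⟨⟨fun a b => Subtype.ext ((huniq a.1 a.2).trans (huniq b.1 b.2).symm)⟩,
    ⟨⟨χ₀, show p ∣ charDegree χ₀.1 by rw [Char.charDegree_eq_degree, hχ₀d]; exact hpq⟩⟩⟩

end Cfsg.Agent.S4765
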