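import Cfsg.Statements.S3598
import Cfsg.Agent.Lib.DegreeRecog.PSLTwoSquare
import Cfsg.Agent.Lib.GL2Char.OddCount
import Cfsg.Agent.Lib.GL2Char.SLCuspidal
import Cfsg.Agent.Lib.PSL2.SmallIso
import Cfsg.Agent.Lib.SylowCount.Coprime
import Cfsg.Agent.S2435
import Cfsg.Agent.S4765
-- import your own Cfsg.Agent.* helpers here

set_option autoImplicit false
open Cfsg

set_option linter.style.haveILetI false

namespace Cfsg.Agent.S3598

open Cfsg.Agent

/-- A perfect group of order `60` is simple. -/
theorem isSimpleGroup_of_perfect {G : Type*} [Group G] [Finite G] (h60 : Nat.card G = 60)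
    (hperf : commutator G = ⊤) : IsSimpleGroup G := by
  haveI : Nontrivial G := Finite.one_lt_card_iff_nontrivial.1 (by omega)
  constructor
  intro N hN
  haveI := hN
  by_contra hcon
  push Not at hcon
  obtain ⟨hNb, hNt⟩ := hcon
  haveI : Nontrivial (G ⧸ N) := QuotientGroup.nontrivial_iff.2 hNt
  have hm : Nat.card (G ⧸ N) ∣ 60 := h60 ▸ Subgroup.card_quotient_dvd_card N
  have hlt : Nat.card (G ⧸ N) < 60 := by
    have h := Subgroup.card_eq_card_quotient_mul_card_subgroup N
    have h1 := (Subgroup.one_lt_card_iff_ne_bot N).2 hNb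
    have h2 : 0 < Nat.card (G ⧸ N) := Nat.card_pos
    rw [h60] at h
    nlinarith
  haveI : Group.IsSolvable (G ⧸ N) := by
    have hcases : Nat.card (G ⧸ N) ∣ 30 ∨ Nat.card (G ⧸ N) ∣ 12 ∨ Nat.card (G ⧸ N) ∣ 20 := by
      have key : ∀ m ∈ Nat.divisors 60, m < 60 → m ∣ 30 ∨ m ∣ 12 ∨ m ∣ 20 := by decide
      exact key _ (Nat.mem_divisors.2 ⟨hm, by norm_num⟩) hlt
    have hsub : ∀ a b : ℕ, a.Prime → b.Prime → ∀ i k, Nat.card (G ⧸ N) ∣ a ^ i * b ^ k →
        Group.IsSolvable (G ⧸ N) := by
      intro a b ha hb i k hd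
      refine SylowCount.isSolvable_of_primeFactors_card_le_two ?_
      refine le_trans (Finset.card_le_card ?_) (Finset.card_le_two (a := a) (b := b))
      intro r hr
      obtain ⟨hr1, hr2, -⟩ := Nat.mem_primeFactors.1 hr
      rcases hr1.dvd_mul.1 (hr2.trans hd) with h | h
      · simp [(Nat.prime_dvd_prime_iff_eq hr1 ha).1 (hr1.dvd_of_dvd_pow h)]
      · simp [(Nat.prime_dvd_prime_iff_eq hr1 hb).1 (hr1.dvd_of_dvd_pow h)]
    rcases hcases with h | h | h
    · have h30 : Squarefree (30 : ℕ) := by decide +kernel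
      haveI := IsZGroup.of_squarefree (G := G ⧸ N) (h30.squarefree_of_dvd h)
      infer_instance
    · exact hsub 2 3 Nat.prime_two Nat.prime_three 2 1 h
    · exact hsub 2 5 Nat.prime_two (by norm_num) 2 1 h
  refine ne_of_lt (Group.IsSolvable.commutator_lt_top_of_nontrivial (G ⧸ N)) ?_
  have hs := QuotientGroup.mk'_surjective N
  rw [commutator_def, ← Subgroup.map_top_of_surjective _ hs, ← Subgroup.map_commutator,
    ← commutator_def, hperf]

/-- Let p be a prime and F a field with p² elements. If a finite group G has, for every d, the same number of irreducible complex characters of degree d as PSL(2,F) (the same first column of the character table, with multiplicities), then G is isomorphic to PSL(2,F). -/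
theorem result {F : Type*} [Field F] [Fintype F] (p : ℕ) (hp : p.Prime)
    (hF : Fintype.card F = p ^ 2) {G : Type*} [Group G] [Finite G]
    (h : ∀ d : ℕ, Nat.card {χ : Cfsg.IrrCharacter G // (χ : G → ℂ) 1 = (d : ℂ)} =
      Nat.card {χ : Cfsg.IrrCharacter (Matrix.ProjectiveSpecialLinearGroup (Fin 2) F) // (χ : Matrix.ProjectiveSpecialLinearGroup (Fin 2) F → ℂ) 1 = (d : ℂ)}) :
    Nonempty (G ≃* Matrix.ProjectiveSpecialLinearGroup (Fin 2) F) := by
  classical
  haveI := Fact.mk hp
  haveI : CharP F p := by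
    obtain ⟨r, hr⟩ := CharP.exists F
    obtain ⟨n, hr', hn⟩ := FiniteField.card F r
    haveI := hr
    have : r ∣ p := hr'.dvd_of_dvd_pow (hF ▸ hn ▸ dvd_pow_self r n.pos.ne')
    rw [← (Nat.prime_dvd_prime_iff_eq hr' hp).1 this]; exact hr
  have hp2le := hp.two_le
  have h4 : 4 ≤ Fintype.card F := by rw [hF]; nlinarith
  haveI := PSL2.psl_isSimpleGroup (F := F) h4
  set X := Matrix.ProjectiveSpecialLinearGroup (Fin 2) F
  haveI : Finite X := inferInstance
  letI := Fintype.ofFinite G
  letI := Fintype.ofFinite X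
  -- the characters correspond
  have hfib : ∀ d : ℕ, Nat.card {χ : IrrCharacter G // Char.degree χ = d} =
      Nat.card {χ : IrrCharacter X // Char.degree χ = d} := fun d => by
    calc Nat.card {χ : IrrCharacter G // Char.degree χ = d}
        = Nat.card {χ : IrrCharacter G // (χ : G → ℂ) 1 = (d : ℂ)} :=
          Nat.card_congr (Equiv.subtypeEquivRight fun χ => by
            rw [Char.apply_one_eq_degree, Nat.cast_inj])
      _ = Nat.card {χ : IrrCharacter X // (χ : X → ℂ) 1 = (d : ℂ)} := h d
      _ = _ := Nat.card_congr (Equiv.subtypeEquivRight fun χ => by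
            rw [Char.apply_one_eq_degree, Nat.cast_inj])
  let fe : ∀ d : ℕ, {χ : IrrCharacter G // Char.degree χ = d} ≃
      {χ : IrrCharacter X // Char.degree χ = d} := fun d =>
    (Finite.equivFin _).trans ((finCongr (hfib d)).trans (Finite.equivFin _).symm)
  let e : IrrCharacter G ≃ IrrCharacter X := Equiv.ofFiberEquiv fe
  have he : ∀ χ, Char.degree (e χ) = Char.degree χ := fun χ => Equiv.ofFiberEquiv_map fe χ
  have hcard : Nat.card G = Nat.card X := by
    rw [← Char.sum_degree_sq, ← Char.sum_degree_sq]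
    exact Fintype.sum_equiv e _ _ fun χ => by rw [he]
  have hperfX : commutator X = ⊤ := by
    refine ((Subgroup.commutator_normal (⊤ : Subgroup X) ⊤).eq_bot_or_eq_top).resolve_left fun hb => ?_
    refine GL.PSL_not_comm (F := F) 2 le_rfl (fun _ => by rwa [Nat.card_eq_fintype_card]) fun a b => ?_
    exact commutatorElement_eq_one_iff_mul_comm.1 (Subgroup.mem_bot.1
      (hb ▸ Subgroup.commutator_mem_commutator (Subgroup.mem_top a) (Subgroup.mem_top b)))
  have hlinX : Nat.card {χ : IrrCharacter X // (χ : X → ℂ) 1 = 1} = 1 := by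
    rw [Char.card_linear, hperfX, Subgroup.index_top]
  have hlin1 : Nat.card {χ : IrrCharacter G // (χ : G → ℂ) 1 = 1} = 1 := by
    have := h 1
    rw [Nat.cast_one] at this
    rw [this, hlinX]
  have hlin : ∀ χ : IrrCharacter G, Char.degree χ = 1 → χ = Char.trivialChar G := by
    intro χ hχ
    haveI := (Nat.card_eq_one_iff_unique.1 hlin1).1
    exact congrArg Subtype.val (Subsingleton.elim
      (⟨χ, by rw [Char.apply_one_eq_degree, hχ, Nat.cast_one]⟩ : {χ : IrrCharacter G // (χ : G → ℂ) 1 = 1})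
      ⟨Char.trivialChar G, Char.trivialChar_apply _⟩)
  by_cases hp2 : p = 2
  · subst hp2
    have hF4 : Fintype.card F = 4 := by rw [hF]; norm_num
    have h60 : Nat.card G = 60 := by
      rw [hcard, PSL2.card_PSL_of_two_eq_zero (F := F) (PSL2.even_card_iff.1 (by rw [hF4]; decide)), hF4]
      norm_num
    have hperf : commutator G = ⊤ := by
      rw [← Subgroup.index_eq_one, ← Char.card_linear, hlin1]
    haveI := isSimpleGroup_of_perfect h60 hperf
    have hnc : ¬ IsMulCommutative G := by
      intro hc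
      haveI : Nontrivial G := Finite.one_lt_card_iff_nontrivial.1 (by omega)
      have hb : commutator G = ⊥ := by
        rw [commutator_def, Subgroup.commutator_eq_bot_iff_le_centralizer]
        exact fun a _ => Subgroup.mem_centralizer_iff.2 fun b _ => hc.is_comm.comm b a
      rw [hb] at hperf
      exact bot_ne_top hperf
    obtain ⟨e1⟩ := SmallSimple.iso_alternating_five hnc h60
    obtain ⟨e2⟩ := PSL2.psl_four_five_iso (F := F) (Or.inl hF4)
    exact ⟨e1.trans e2.symm⟩
  have hodd : Odd (Fintype.card F) := by rw [hF]; exact (hp.odd_of_ne_two hp2).pow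
  have h9 : 9 ≤ Fintype.card F := by
    rw [hF]
    exact le_trans (by norm_num : 9 ≤ 3 ^ 2) (Nat.pow_le_pow_left (by omega) 2)
  have h2 : (2 : F) ≠ 0 := GL2Char.two_ne_zero_of_odd_card hodd
  -- degrees of `PSL₂(q)`
  have hdegX : ∀ ψ : IrrCharacter X, Char.degree ψ = 1 ∨ Char.degree ψ = p ^ 2 ∨
      Char.degree ψ = p ^ 2 + 1 ∨ Char.degree ψ = p ^ 2 - 1 ∨ Char.degree ψ = (p ^ 2 + 1) / 2 := by
    intro ψ
    set θ : IrrCharacter (Matrix.SpecialLinearGroup (Fin 2) F) := Char.inflate _ ψ with hθ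
    have hd : θ.1 1 = (Char.degree ψ : ℂ) := by
      rw [hθ, Char.inflate_apply, QuotientGroup.mk_one, ← Char.apply_one_eq_degree]
    rw [← hF]
    rcases GL2Char.degree_mem_SL_odd hodd θ with h' | h' | h' | h' | h' | h' <;> rw [hd] at h'
    · exact Or.inl (by exact_mod_cast h')
    · exact Or.inr (Or.inl (by exact_mod_cast h'))
    · exact Or.inr (Or.inr (Or.inl (by exact_mod_cast h')))
    · refine Or.inr (Or.inr (Or.inr (Or.inl ?_)))
      rw [← Nat.cast_one, ← Nat.cast_sub (by omega), Nat.cast_inj] at h'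
      exact h'
    · exact Or.inr (Or.inr (Or.inr (Or.inr (by exact_mod_cast h'))))
    · exfalso
      obtain ⟨g, hg⟩ := PSL2.exists_elliptic F
      have hC : GL2Char.Torus (PSL2.cent g) := ⟨h2, hg.card_cent, hg.isCyclic_cent⟩
      obtain ⟨c0, hc0, -, hgen⟩ := hC.exists_gen
      have hord : orderOf (c0 : Matrix.SpecialLinearGroup (Fin 2) F) = Fintype.card F + 1 := by
        rw [Subgroup.orderOf_coe, orderOf_eq_card_of_forall_mem_zpowers hgen, hC.card]
      set c : Matrix.SpecialLinearGroup (Fin 2) F := c0.1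
      set n := (Fintype.card F + 1) / 2 with hn
      have hn2 : Fintype.card F + 1 = 2 * n := by
        obtain ⟨i, hi⟩ := hodd; omega
      have hnodd : Odd n := by
        rw [hn, hF]
        obtain ⟨i, rfl⟩ := hp.odd_of_ne_two hp2
        refine ⟨i * i + i, ?_⟩
        rw [show (2 * i + 1) ^ 2 + 1 = (2 * (i * i + i) + 1) * 2 by ring, Nat.mul_div_cancel _ two_pos]
      have hcn : c ^ n = -1 := by
        have h1 : (c ^ n) * (c ^ n) = 1 := by
          rw [← pow_add, ← two_mul, ← hn2, ← hord, pow_orderOf_eq_one]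
        rcases PSL2.eq_pm_of_mul_self_eq_one h2 h1 with h0 | h0
        · exfalso
          have := Nat.le_of_dvd (by omega) (orderOf_dvd_of_pow_eq_one h0)
          omega
        · exact h0
      have hval : θ.1 (-1 * c) = θ.1 c := by
        rw [hθ, Char.inflate_apply, Char.inflate_apply]
        congr 1
        rw [QuotientGroup.mk_mul, (QuotientGroup.eq_one_iff _).2 PSL2.neg_one_mem_center, one_mul]
      have hnoeig := GL2Char.noEigen_of_isEll hc0
      have hnoeig' : ∀ (r : F) (v : Fin 2 → F), v ≠ 0 →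
          ((-1 * c : Matrix.SpecialLinearGroup (Fin 2) F) : Matrix (Fin 2) (Fin 2) F).mulVec v ≠ r • v := by
        intro r v hv heq
        refine hnoeig (-r) v hv ?_
        rw [neg_one_mul, Matrix.SpecialLinearGroup.coe_neg, Matrix.neg_mulVec, neg_eq_iff_eq_neg] at heq
        rw [neg_smul]; exact heq
      have hθ1 : θ.1 1 = (((Fintype.card F - 1) / 2 : ℕ) : ℂ) := by rw [hd, h']
      have hv1 := ((Cfsg.Agent.S2435.result hodd (by omega) θ.1 θ.2 c).2 hθ1 hnoeig).2
      have hv2 := ((Cfsg.Agent.S2435.result hodd (by omega) θ.1 θ.2 (-1 * c)).2 hθ1 hnoeig').1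
      have e1 : θ.1 c = 1 := hv1 (by
        rw [← hn, ← Matrix.SpecialLinearGroup.coe_pow, hcn]
        intro hh
        exact PSL2.neg_one_ne_one h2 (Subtype.ext hh))
      have e2 : θ.1 (-1 * c) = -1 := hv2 (by
        rw [← hn, ← Matrix.SpecialLinearGroup.coe_pow, (Commute.neg_one_left c).mul_pow, hnodd.neg_one_pow,
          hcn, neg_mul_neg, one_mul, Matrix.SpecialLinearGroup.coe_one])
      rw [hval, e1] at e2
      norm_num at e2
  refine DegreeRecog.psl_of_degrees hp2 ?_ hlin (fun χ => he χ ▸ hdegX (e χ)) ?_ hF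
  · rw [hcard, ← hF]
    exact PSL2.two_mul_card_PSL h2
  · obtain ⟨h1, h2'⟩ := Cfsg.Agent.S4765.result p F h4
    obtain ⟨⟨ψ, hψ⟩⟩ := (Nat.card_eq_one_iff_unique.1 h1).2
    refine ⟨e.symm ψ, ?_⟩
    rw [← he, e.apply_symm_apply, ← hF]
    have h3 := Char.charDegree_cast ψ
    rw [Char.apply_one_eq_degree, Nat.cast_inj] at h3
    rw [← h3]
    exact h2' ψ hψ

end Cfsg.Agent.S3598
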