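import Cfsg.Statements.S3599
import Mathlib

set_option autoImplicit false
open Cfsg

namespace Cfsg.Agent.S3599

/-- The affine group `E ⋊ ⟨ζ⟩`. -/
abbrev affHom (E : Type) [Field E] (U : Subgroup Eˣ) : U →* MulAut (Multiplicative E) where
  toFun u :=
    { toFun := fun x => Multiplicative.ofAdd (((u : Eˣ) : E) * x.toAdd)
      invFun := fun x => Multiplicative.ofAdd ((((u : Eˣ)⁻¹ : Eˣ) : E) * x.toAdd)
      left_inv := fun x => by simp
      right_inv := fun x => by simp
      map_mul' := fun x y => by simp [mul_add] }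
  map_one' := by ext x; simp
  map_mul' u v := by ext x; simp [mul_assoc]

/-- The properties wanted of each of the two groups of spectrum `{1, p, q}`. -/
def Good (p q : ℕ) (K : Type) [Group K] : Prop :=
  Set.range (orderOf : K → ℕ) = {1, p, q} ∧
    (∀ x y : K, orderOf x = q → orderOf y = q → x * y = y * x) ∧
    (∃ x y : K, orderOf x = p ∧ orderOf y = p ∧ x * y ≠ y * x) ∧
    (∀ x y : K, orderOf x = p → orderOf y = q → Subgroup.closure {x, y} = ⊤) ∧
    ∀ n : K, n ≠ 1 → ∃ g : K, orderOf (n * g * n⁻¹ * g⁻¹) = q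

theorem exists_good (p q : ℕ) (hp : p.Prime) (hq : q.Prime) (hpq : p ≠ q) :
    ∃ (K : Type) (_ : Group K) (_ : Fintype K), Good p q K := by
  classical
  haveI := Fact.mk hp
  haveI := Fact.mk hq
  have hq0 : (q : ZMod p) ≠ 0 := fun h =>
    hpq ((Nat.prime_dvd_prime_iff_eq hp hq).mp ((CharP.cast_eq_zero_iff (ZMod p) p q).mp h))
  set d := orderOf (q : ZMod p) with hd
  have hd0 : d ≠ 0 := (orderOf_pos_iff.mpr (isOfFinOrder_iff_pow_eq_one.mpr
    ⟨p - 1, Nat.sub_pos_of_lt hp.one_lt, ZMod.pow_card_sub_one_eq_one hq0⟩)).ne'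
  let E := GaloisField q d
  have hE : Nat.card E = q ^ d := GaloisField.card q d hd0
  have hdvd : ∀ e : ℕ, p ∣ q ^ e - 1 ↔ d ∣ e := fun e => by
    have h1 : 1 ≤ q ^ e := Nat.one_le_pow _ _ hq.pos
    rw [← CharP.cast_eq_zero_iff (ZMod p) p, Nat.cast_sub h1, sub_eq_zero, Nat.cast_pow, Nat.cast_one,
      orderOf_dvd_iff_pow_eq_one]
  obtain ⟨ζ, hζ⟩ := exists_prime_orderOf_dvd_card' (G := Eˣ) p (by rw [Nat.card_units, hE]; exact (hdvd d).mpr dvd_rfl)
  set U : Subgroup Eˣ := Subgroup.zpowers ζ with hU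
  have hUcard : Nat.card U = p := by rw [hU, Nat.card_zpowers, hζ]
  haveI : Finite (SemidirectProduct (Multiplicative E) U (affHom E U)) := Finite.of_equiv _ SemidirectProduct.equivProd.symm
  have hchar : CharP E q := inferInstance
  have hUsub : ∀ u : U, u ≠ 1 → ((u : Eˣ) : E) ≠ 1 := fun u hu h =>
    hu (Subtype.ext (Units.ext h))
  have hUpow : ∀ u : U, u ^ p = 1 := fun u => hUcard ▸ pow_card_eq_one'
  have horder : ∀ x : (SemidirectProduct (Multiplicative E) U (affHom E U)), (x.right = 1 → x ≠ 1 → orderOf x = q) ∧ (x.right ≠ 1 → orderOf x = p) := by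
    intro x
    have hpow : ∀ k : ℕ, (x ^ k).right = x.right ^ k ∧
        (x ^ k).left.toAdd = (∑ i ∈ Finset.range k, ((x.right : Eˣ) : E) ^ i) * x.left.toAdd := by
      intro k
      induction k with
      | zero => simp
      | succ k ih =>
        rw [pow_succ]
        refine ⟨by rw [SemidirectProduct.mul_right, ih.1, pow_succ], ?_⟩
        rw [SemidirectProduct.mul_left, toAdd_mul, ih.2, Finset.sum_range_succ, add_mul, ih.1]
        simp
    refine ⟨fun hr hx => orderOf_eq_prime ?_ hx, fun hr => orderOf_eq_prime ?_ (fun h => hr (by rw [h]; rfl))⟩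
    · refine SemidirectProduct.ext ?_ ?_
      · apply Multiplicative.toAdd.injective
        rw [(hpow q).2, hr]
        simp
      · rw [(hpow q).1, hr]; simp
    · refine SemidirectProduct.ext ?_ ?_
      · apply Multiplicative.toAdd.injective
        have hne := hUsub _ hr
        rw [(hpow p).2, geom_sum_eq hne]
        have : ((x.right : Eˣ) : E) ^ p = 1 := by
          rw [← Units.val_pow_eq_pow_val, ← SubmonoidClass.coe_pow, hUpow]; rfl
        simp [this]
      · rw [(hpow p).1, hUpow]; rfl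
  have hq_right : ∀ x : (SemidirectProduct (Multiplicative E) U (affHom E U)), orderOf x = q → x.right = 1 := fun x hx => by
    by_contra h
    exact hpq (((horder x).2 h).symm.trans hx)
  have hp_right : ∀ x : (SemidirectProduct (Multiplicative E) U (affHom E U)), orderOf x = p → x.right ≠ 1 := fun x hx h => by
    by_cases hx1 : x = 1
    · rw [hx1, orderOf_one] at hx; exact hp.one_lt.ne hx
    · exact hpq (hx.symm.trans ((horder x).1 h hx1))
  obtain ⟨u, hu⟩ : ∃ u : U, u ≠ 1 := ⟨⟨ζ, Subgroup.mem_zpowers ζ⟩, fun h => by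
    have : ζ = 1 := congrArg Subtype.val h
    rw [this, orderOf_one] at hζ; exact hp.one_lt.ne hζ⟩
  let tr : E → (SemidirectProduct (Multiplicative E) U (affHom E U)) := fun v => SemidirectProduct.inl (Multiplicative.ofAdd v)
  have htr : ∀ v, v ≠ 0 → orderOf (tr v) = q := fun v hv =>
    (horder _).1 rfl fun h => hv (by simpa [tr] using congrArg (fun z : (SemidirectProduct (Multiplicative E) U (affHom E U)) => z.left.toAdd) h)
  let rot : (SemidirectProduct (Multiplicative E) U (affHom E U)) := SemidirectProduct.inr u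
  have hrot : orderOf rot = p := (horder _).2 (by simpa [rot] using hu)
  refine ⟨(SemidirectProduct (Multiplicative E) U (affHom E U)), inferInstance, Fintype.ofFinite (SemidirectProduct (Multiplicative E) U (affHom E U)), ?_, ?_, ?_, ?_, ?_⟩
  · ext k
    simp only [Set.mem_range, Set.mem_insert_iff, Set.mem_singleton_iff]
    constructor
    · rintro ⟨x, rfl⟩
      by_cases hx : x = 1
      · exact Or.inl (hx ▸ orderOf_one)
      by_cases hr : x.right = 1
      · exact Or.inr (Or.inr ((horder x).1 hr hx))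
      · exact Or.inr (Or.inl ((horder x).2 hr))
    · rintro (rfl | rfl | rfl)
      exacts [⟨1, orderOf_one⟩, ⟨rot, hrot⟩, ⟨tr 1, htr 1 one_ne_zero⟩]
  · intro x y hx hy
    refine SemidirectProduct.ext ?_ ?_ <;> simp [hq_right x hx, hq_right y hy, mul_comm]
  · refine ⟨rot, tr 1 * rot, hrot, (horder _).2 (by simpa [tr, rot] using hu), fun h => hUsub u hu ?_⟩
    have := congrArg (fun z : (SemidirectProduct (Multiplicative E) U (affHom E U)) => z.left.toAdd) h
    simpa [tr, rot] using this
  · intro x y hx hy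
    set H := Subgroup.closure ({x, y} : Set (SemidirectProduct (Multiplicative E) U (affHom E U))) with hH
    have hxH : x ∈ H := Subgroup.subset_closure (by simp)
    have hyH : y ∈ H := Subgroup.subset_closure (by simp)
    have hy0 : y.left.toAdd ≠ 0 := fun h => by
      have : y = 1 := SemidirectProduct.ext (Multiplicative.toAdd.injective (by simpa using h)) (hq_right y hy)
      rw [this, orderOf_one] at hy; exact hq.one_lt.ne hy
    let S : AddSubgroup E :=
      { carrier := {v | tr v ∈ H}
        zero_mem' := by simp only [Set.mem_ofPred_eq, tr, ofAdd_zero, map_one]; exact H.one_mem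
        add_mem' := fun {a b} ha hb => by
          have := H.mul_mem ha hb
          simpa only [Set.mem_ofPred_eq, tr, ofAdd_add, map_mul] using this
        neg_mem' := fun {a} ha => by
          change tr (-a) ∈ H
          rw [show tr (-a) = (tr a)⁻¹ from map_inv SemidirectProduct.inl (Multiplicative.ofAdd a)]
          exact H.inv_mem ha }
    have hyS : y.left.toAdd ∈ S := by
      change tr _ ∈ H
      convert hyH
      exact SemidirectProduct.ext (by simp [tr]) (by simp [tr, hq_right y hy])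
    have hrotS : ∀ v ∈ S, ((x.right : Eˣ) : E) * v ∈ S := by
      intro v hv
      have h := H.mul_mem (H.mul_mem hxH hv) (H.inv_mem hxH)
      change tr _ ∈ H
      convert h using 1
      refine SemidirectProduct.ext ?_ ?_
      · apply Multiplicative.toAdd.injective
        simp [tr]
      · simp [tr]
    let R : Subring E :=
      { carrier := {r | ∀ v ∈ S, r * v ∈ S}
        one_mem' := fun v hv => by simpa using hv
        zero_mem' := fun v _ => by simp [S.zero_mem]
        mul_mem' := fun {a b} ha hb v hv => by rw [mul_assoc]; exact ha _ (hb v hv)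
        add_mem' := fun {a b} ha hb v hv => by rw [add_mul]; exact S.add_mem (ha v hv) (hb v hv)
        neg_mem' := fun {a} ha v hv => by rw [neg_mul]; exact S.neg_mem (ha v hv) }
    have hR : R = ⊤ := by
      letI : Field R := (Finite.isField_of_domain R).toField
      obtain ⟨e, -, he⟩ : ∃ e ≤ d, Nat.card R = q ^ e := by
        refine (Nat.dvd_prime_pow hq).mp ?_
        rw [← hE]
        exact AddSubgroup.card_addSubgroup_dvd_card R.toAddSubgroup
      have hw : orderOf (x.right : Eˣ) = p := by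
        rw [Subgroup.orderOf_coe]
        exact orderOf_eq_prime (hUpow _) (hp_right x hx)
      let w : R := ⟨((x.right : Eˣ) : E), hrotS⟩
      have hw0 : w ≠ 0 := fun h => (x.right : Eˣ).ne_zero (congrArg Subtype.val h)
      have hwp : orderOf w = p := by
        rw [← orderOf_injective R.subtype.toMonoidHom Subtype.val_injective w]
        exact orderOf_units.trans hw
      have h1 : p ∣ q ^ e - 1 := by
        rw [← he, ← Nat.card_units, ← hwp, ← Units.val_mk0 hw0, orderOf_units]
        exact orderOf_dvd_natCard _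
      have hde : d ≤ e := by
        rcases Nat.eq_zero_or_pos e with rfl | h
        · have := Finite.one_lt_card (α := R)
          simp [he] at this
        · exact Nat.le_of_dvd h ((hdvd e).mp h1)
      refine SetLike.coe_injective (Set.eq_of_subset_of_ncard_le (Set.subset_univ _) ?_)
      rw [Subring.coe_top, Set.ncard_univ, hE, ← Nat.card_coe_set_eq]
      exact (Nat.pow_le_pow_right hq.pos hde).trans_eq he.symm
    have hS : ∀ v, v ∈ S := fun v => by
      have := (hR.symm ▸ Subring.mem_top (v / y.left.toAdd) : v / y.left.toAdd ∈ R) _ hyS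
      rwa [div_mul_cancel₀ _ hy0] at this
    refine eq_top_iff.mpr fun g _ => ?_
    obtain ⟨i, hi⟩ : ∃ i : ℕ, x.right ^ i = g.right :=
      (Submonoid.mem_powers_iff _ _).mp (mem_powers_of_prime_card hUcard (hp_right x hx))
    have : g = tr (g * (x ^ i)⁻¹).left.toAdd * x ^ i := by
      have hz : (g * (x ^ i)⁻¹) = tr (g * (x ^ i)⁻¹).left.toAdd := by
        refine SemidirectProduct.ext (by simp [tr]) ?_
        have hxi : (x ^ i).right = x.right ^ i := map_pow SemidirectProduct.rightHom x i
        simp [tr, hxi, hi]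
      rw [← hz, inv_mul_cancel_right]
    rw [this]
    exact H.mul_mem (hS _) (H.pow_mem hxH i)
  · intro n hn
    have hcomm : ∃ g : (SemidirectProduct (Multiplicative E) U (affHom E U)), n * g ≠ g * n := by
      by_contra h
      push Not at h
      by_cases hr : n.right = 1
      · have := congrArg (fun z : (SemidirectProduct (Multiplicative E) U (affHom E U)) => z.left.toAdd) (h rot)
        simp [rot, hr] at this
        have hl : (((u : Eˣ) : E) - 1) * n.left.toAdd = 0 := by rw [sub_mul, one_mul, ← this, sub_self]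
        rcases mul_eq_zero.mp hl with h' | h'
        · exact hUsub u hu (sub_eq_zero.mp h')
        · exact hn (SemidirectProduct.ext (Multiplicative.toAdd.injective (by simpa using h')) hr)
      · have := congrArg (fun z : (SemidirectProduct (Multiplicative E) U (affHom E U)) => z.left.toAdd) (h (tr 1))
        simp [tr, add_comm n.left.toAdd] at this
        exact hr this
    obtain ⟨g, hg⟩ := hcomm
    refine ⟨g, (horder _).1 ?_ fun h => hg ?_⟩
    · simp [mul_inv_eq_one, mul_comm n.right g.right]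
    · rwa [mul_inv_eq_one, mul_inv_eq_iff_eq_mul] at h


/-- A finite group is critical with respect to a set Ω of natural numbers when its set of element orders is Ω while no proper section H/N (H a subgroup, N normal in H, (H, N) ≠ (whole group, 1)) has Ω as its set of element orders. Let s ≥ 1 and let p(j,0), p(j,1) (j < s) be 2s pairwise distinct primes, and let Ω be the set of all products c(0)·…·c(s−1) with each c(j) ∈ {1, p(j,0), p(j,1)}. Then there are 2^s pairwise non-isomorphic finite groups critical with respect to Ω. -/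
theorem result (s : ℕ) (hs : 1 ≤ s) (p : Fin s → Fin 2 → ℕ)
    (hp : ∀ j i, (p j i).Prime) (hinj : ∀ j i j' i', p j i = p j' i' → j = j' ∧ i = i') :
    ∃ (G : Fin (2 ^ s) → Type) (_ : ∀ a, Group (G a)) (_ : ∀ a, Fintype (G a)),
      (∀ a b, a ≠ b → ¬ Nonempty (G a ≃* G b)) ∧
      ∀ a, Set.range (orderOf : (G a) → ℕ) = {m : ℕ | ∃ c : Fin s → ℕ, (∀ j, c j = 1 ∨ c j = p j 0 ∨ c j = p j 1) ∧ m = ∏ j, c j} ∧
      ∀ (H : Subgroup (G a)) (N : Subgroup ↥H) [N.Normal], (H ≠ ⊤ ∨ N ≠ ⊥) → Set.range (orderOf : (↥H ⧸ N) → ℕ) ≠ {m : ℕ | ∃ c : Fin s → ℕ, (∀ j, c j = 1 ∨ c j = p j 0 ∨ c j = p j 1) ∧ m = ∏ j, c j} := by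
  classical
  have hne : ∀ j, p j 0 ≠ p j 1 := fun j h => absurd (hinj j 0 j 1 h).2 (by decide)
  have hchoose : ∀ (j : Fin s) (b : Fin 2), ∃ (K : Type) (_ : Group K) (_ : Fintype K),
      Good (p j b) (p j (1 - b)) K := fun j b =>
    exists_good _ _ (hp j b) (hp j (1 - b)) fun h => by
      have := (hinj j b j (1 - b) h).2
      revert this; fin_cases b <;> decide
  choose K instG instF hK using hchoose
  let ea : Fin (2 ^ s) → Fin s → Fin 2 := fun a => (finFunctionFinEquiv.symm a)
  refine ⟨fun a => ∀ j, K j (ea a j), fun a => inferInstance, fun a => inferInstance, ?_, ?_⟩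
  · intro a b hab ⟨φ⟩
    obtain ⟨j, hj⟩ := Function.ne_iff.mp (finFunctionFinEquiv.symm.injective.ne hab)
    have hb : ea b j = 1 - ea a j := by
      revert hj; change ea a j ≠ ea b j → _
      generalize ea a j = u; generalize ea b j = v
      revert u v; decide
    obtain ⟨x, y, hx, hy, hxy⟩ := (hK j (ea b j)).2.2.1
    have hx' : orderOf (φ.symm (Pi.mulSingle j x)) = p j (1 - ea a j) := by
      rw [MulEquiv.orderOf_eq,
        ← hb, ← hx]; exact orderOf_injective (MonoidHom.mulSingle (fun i => K i (ea b i)) j) (Pi.mulSingle_injective (M := fun i => K i (ea b i)) j) x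
    have hy' : orderOf (φ.symm (Pi.mulSingle j y)) = p j (1 - ea a j) := by
      rw [MulEquiv.orderOf_eq,
        ← hb, ← hy]; exact orderOf_injective (MonoidHom.mulSingle (fun i => K i (ea b i)) j) (Pi.mulSingle_injective (M := fun i => K i (ea b i)) j) y
    -- elements of this order live in one coordinate
    have hco : ∀ z : ∀ i, K i (ea a i), orderOf z = p j (1 - ea a j) →
        (∀ i ≠ j, z i = 1) ∧ (z j = 1 ∨ orderOf (z j) = p j (1 - ea a j)) := by
      intro z hz
      have hd : ∀ i, orderOf (z i) = 1 ∨ orderOf (z i) = p j (1 - ea a j) := fun i =>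
        (Nat.dvd_prime (hp j _)).mp (hz ▸ orderOf_map_dvd (Pi.evalMonoidHom _ i) z)
      refine ⟨fun i hi => orderOf_eq_one_iff.mp ((hd i).resolve_right fun h => ?_),
        (hd j).imp orderOf_eq_one_iff.mp id⟩
      have hmem : orderOf (z i) ∈ Set.range (orderOf : K i (ea a i) → ℕ) := ⟨_, rfl⟩
      rw [(hK i (ea a i)).1, h] at hmem
      simp only [Set.mem_insert_iff, Set.mem_singleton_iff] at hmem
      rcases hmem with h' | h' | h'
      · exact (hp j _).one_lt.ne' h'
      · exact hi (hinj _ _ _ _ h').1.symm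
      · exact hi (hinj _ _ _ _ h').1.symm
    obtain ⟨hx1, hx2⟩ := hco _ hx'
    obtain ⟨hy1, hy2⟩ := hco _ hy'
    have hcomm : φ.symm (Pi.mulSingle j x) * φ.symm (Pi.mulSingle j y) =
        φ.symm (Pi.mulSingle j y) * φ.symm (Pi.mulSingle j x) := by
      ext i
      by_cases hi : i = j
      · subst hi
        rcases hx2 with h | h
        · simp [h]
        rcases hy2 with h' | h'
        · simp [h']
        simpa using (hK i (ea a i)).2.1 _ _ h h'
      · simp [hx1 i hi, hy1 i hi]
    rw [← map_mul, ← map_mul] at hcomm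
    have := congrFun (φ.symm.injective hcomm) j
    simp at this
    exact hxy this
  intro a
  set S : Set ℕ := {m : ℕ | ∃ c : Fin s → ℕ, (∀ j, c j = 1 ∨ c j = p j 0 ∨ c j = p j 1) ∧ m = ∏ j, c j} with hS
  have hpq : ∀ (j : Fin s) (m : ℕ), (m = 1 ∨ m = p j 0 ∨ m = p j 1) ↔
      m ∈ Set.range (orderOf : K j (ea a j) → ℕ) := by
    intro j m
    rw [(hK j (ea a j)).1]
    simp only [Set.mem_insert_iff, Set.mem_singleton_iff]
    generalize ea a j = u
    obtain rfl | rfl : u = 0 ∨ u = 1 := by omega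
    · simp
    · simp only [sub_self]; tauto
  have hne' : ∀ {i j : Fin s}, i ≠ j → ∀ {m k : ℕ}, (m = 1 ∨ m = p i 0 ∨ m = p i 1) →
      (k = 1 ∨ k = p j 0 ∨ k = p j 1) → Nat.Coprime m k := by
    intro i j hij m k hm hk
    have key : ∀ u v, Nat.Coprime (p i u) (p j v) := fun u v =>
      (Nat.coprime_primes (hp i u) (hp j v)).mpr fun h => hij (hinj _ _ _ _ h).1
    rcases hm with rfl | rfl | rfl <;> rcases hk with rfl | rfl | rfl <;> first | exact key _ _ | simp
  have hordG : ∀ x : (∀ j, K j (ea a j)), orderOf x = ∏ j, orderOf (x j) := by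
    intro x
    refine Nat.dvd_antisymm ?_ ?_
    · refine orderOf_dvd_of_pow_eq_one (funext fun j => ?_)
      rw [Pi.pow_apply, Pi.one_apply, ← orderOf_dvd_iff_pow_eq_one]
      exact Finset.dvd_prod_of_mem _ (Finset.mem_univ j)
    · refine Finset.induction_on Finset.univ (by simp) fun i t hi ih => ?_
      rw [Finset.prod_insert hi]
      refine Nat.Coprime.mul_dvd_of_dvd_of_dvd (Nat.Coprime.prod_right fun k hk => ?_)
        (orderOf_map_dvd (Pi.evalMonoidHom _ i) x) ih
      exact hne' (fun h => hi (by rwa [h])) ((hpq i _).mpr ⟨_, rfl⟩) ((hpq k _).mpr ⟨_, rfl⟩)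
  refine ⟨?_, ?_⟩
  · ext m
    constructor
    · rintro ⟨x, rfl⟩
      exact ⟨fun j => orderOf (x j), fun j => (hpq j _).mpr ⟨_, rfl⟩, hordG x⟩
    · rintro ⟨c, hc, rfl⟩
      choose x hx using fun j => (hpq j _).mp (hc j)
      exact ⟨x, by rw [hordG]; exact Finset.prod_congr rfl fun j _ => hx j⟩
  intro H N hN hHN heq
  have hlift : ∀ u : Fin s → Fin 2, ∃ x ∈ H, ∀ j, orderOf (x j) = p j (u j) := by
    intro u
    obtain ⟨z, hz⟩ : (∏ j, p j (u j)) ∈ Set.range (orderOf : (↥H ⧸ N) → ℕ) := by
      rw [heq]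
      refine ⟨fun j => p j (u j), fun j => ?_, rfl⟩
      obtain h | h : u j = 0 ∨ u j = 1 := by omega
      all_goals simp [h]
    obtain ⟨x, rfl⟩ := QuotientGroup.mk_surjective z
    refine ⟨x, x.2, fun j => ?_⟩
    have h1 : p j (u j) ∣ ∏ i, orderOf ((x : (∀ j, K j (ea a j))) i) := by
      rw [← hordG, Subgroup.orderOf_coe]
      exact (Finset.dvd_prod_of_mem _ (Finset.mem_univ j)).trans (hz ▸ orderOf_map_dvd (QuotientGroup.mk' N) x)
    obtain ⟨i, -, hi⟩ := (Prime.dvd_finsetProd_iff (hp j (u j)).prime _).mp h1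
    have hcase : orderOf ((x : (∀ j, K j (ea a j))) i) = 1 ∨ orderOf ((x : (∀ j, K j (ea a j))) i) = p i 0 ∨ orderOf ((x : (∀ j, K j (ea a j))) i) = p i 1 :=
      (hpq i _).mpr ⟨_, rfl⟩
    rcases hcase with h | h | h <;> rw [h] at hi
    · exact absurd (Nat.dvd_one.mp hi) (hp j _).one_lt.ne'
    all_goals
      obtain ⟨rfl, h2⟩ := hinj _ _ _ _ ((Nat.prime_dvd_prime_iff_eq (hp j _) (hp i _)).mp hi)
      rw [h, ← h2]
  -- the coordinate subgroups
  have hsingle : ∀ (x : (∀ j, K j (ea a j))) (j : Fin s), x ∈ H → Pi.mulSingle j (x j) ∈ H := by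
    intro x j hx
    set n := ∏ i ∈ Finset.univ.erase j, orderOf (x i) with hn
    have hcop : (orderOf (x j)).Coprime n :=
      Nat.Coprime.prod_right fun i hi =>
        hne' (Finset.ne_of_mem_erase hi).symm ((hpq j _).mpr ⟨_, rfl⟩) ((hpq i _).mpr ⟨_, rfl⟩)
    obtain ⟨k, hk⟩ := exists_pow_eq_self_of_coprime (hcop.symm)
    have : Pi.mulSingle j (x j) = (x ^ n) ^ k := by
      ext i
      by_cases hi : i = j
      · subst hi; simp [hk]
      · simp only [Pi.mulSingle_eq_of_ne hi, Pi.pow_apply]
        have : x i ^ n = 1 := orderOf_dvd_iff_pow_eq_one.mp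
          (Finset.dvd_prod_of_mem _ (Finset.mem_erase.mpr ⟨hi, Finset.mem_univ i⟩))
        simp [this]
    rw [this]; exact H.pow_mem (H.pow_mem hx n) k
  obtain ⟨X, hX, hXo⟩ := hlift (fun j => ea a j)
  obtain ⟨Y, hY, hYo⟩ := hlift (fun j => 1 - ea a j)
  have hHtop : H = ⊤ := by
    rw [eq_top_iff]
    intro g _
    rw [← Finset.noncommProd_mulSingle g]
    refine Subgroup.noncommProd_mem _ _ fun j _ => ?_
    have hle : Subgroup.closure ({X j, Y j} : Set (K j (ea a j))) ≤
        H.comap (MonoidHom.mulSingle (fun i => K i (ea a i)) j) := by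
      rw [Subgroup.closure_le]
      rintro z (rfl | rfl)
      exacts [hsingle X j hX, hsingle Y j hY]
    rw [(hK j (ea a j)).2.2.2.1 _ _ (hXo j) (hYo j)] at hle
    exact hle (Subgroup.mem_top (g j))
  subst hHtop
  have hN1 : N ≠ ⊥ := hHN.resolve_left (fun h => h rfl)
  obtain ⟨⟨n, hn0⟩, hnN, hn1⟩ := N.bot_or_exists_ne_one.resolve_left hN1
  obtain ⟨j, hj⟩ : ∃ j, n j ≠ 1 := by
    by_contra h
    push Not at h
    exact hn1 (Subtype.ext (funext h))
  obtain ⟨g, hg⟩ := (hK j (ea a j)).2.2.2.2 (n j) hj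
  set N' : Subgroup (∀ j, K j (ea a j)) := N.map (⊤ : Subgroup (∀ j, K j (ea a j))).subtype with hN'
  haveI hN'n : N'.Normal := hN.map _ (fun x => ⟨⟨x, Subgroup.mem_top x⟩, rfl⟩)
  have hnN' : n ∈ N' := ⟨⟨n, hn0⟩, hnN, rfl⟩
  set c := n j * g * (n j)⁻¹ * g⁻¹ with hc
  have hcN : Pi.mulSingle j c ∈ N' := by
    have := N'.mul_mem hnN' (hN'n.conj_mem _ (N'.inv_mem hnN') (Pi.mulSingle j g))
    convert this using 1
    ext i
    by_cases hi : i = j
    · subst hi; simp [hc, mul_assoc]
    · simp [Pi.mulSingle_eq_of_ne hi]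
  have hrot : ∀ w : K j (ea a j), orderOf w = p j (1 - ea a j) → Pi.mulSingle j w ∈ N' := by
    intro w hw
    let L := N'.comap (MonoidHom.mulSingle (fun i => K i (ea a i)) j)
    haveI : L.Normal := hN'n.comap _
    have hxL : (X j) ^ p j (ea a j) ∈ L := by rw [← hXo j, pow_orderOf_eq_one]; exact L.one_mem
    have hgen := (hK j (ea a j)).2.2.2.1 (X j) c (hXo j) hg
    have hwk : ∀ z, z ∈ Subgroup.closure ({X j, c} : Set (K j (ea a j))) →
        ((QuotientGroup.mk z : K j (ea a j) ⧸ L)) ^ p j (ea a j) = 1 ∧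
        (QuotientGroup.mk z : K j (ea a j) ⧸ L) ∈ Subgroup.zpowers (QuotientGroup.mk (X j)) := by
      intro z hz
      have hmem : (QuotientGroup.mk z : K j (ea a j) ⧸ L) ∈ Subgroup.zpowers (QuotientGroup.mk (X j)) := by
        have h2 : Subgroup.closure ({X j, c} : Set (K j (ea a j))) ≤
            (Subgroup.zpowers (QuotientGroup.mk (X j) : K j (ea a j) ⧸ L)).comap (QuotientGroup.mk' L) := by
          rw [Subgroup.closure_le]
          rintro u (rfl | rfl)
          · exact Subgroup.mem_zpowers _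
          · rw [SetLike.mem_coe, Subgroup.mem_comap, QuotientGroup.mk'_apply, (QuotientGroup.eq_one_iff (N := L) c).mpr hcN]
            exact one_mem _
        exact h2 hz
      refine ⟨?_, hmem⟩
      obtain ⟨k, hk⟩ := Subgroup.mem_zpowers_iff.mp hmem
      rw [← hk, ← zpow_natCast, ← zpow_mul, mul_comm, zpow_mul, zpow_natCast, ← QuotientGroup.mk_pow,
        (QuotientGroup.eq_one_iff _).mpr hxL, one_zpow]
    have h1 := (hwk w (hgen ▸ Subgroup.mem_top w)).1
    have h2 : (QuotientGroup.mk w : K j (ea a j) ⧸ L) ^ p j (1 - ea a j) = 1 := by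
      rw [← QuotientGroup.mk_pow, ← hw, pow_orderOf_eq_one]; rfl
    have hcp : (p j (ea a j)).Coprime (p j (1 - ea a j)) :=
      (Nat.coprime_primes (hp _ _) (hp _ _)).mpr fun h => by
        have := (hinj _ _ _ _ h).2
        revert this; generalize ea a j = u; fin_cases u <;> decide
    have h3 := pow_gcd_eq_one.mpr ⟨h1, h2⟩
    rw [hcp.gcd_eq_one, pow_one] at h3
    exact (QuotientGroup.eq_one_iff w).mp h3
  obtain ⟨z, hz⟩ : (p j (1 - ea a j)) ∈ Set.range (orderOf : (↥(⊤ : Subgroup (∀ j, K j (ea a j))) ⧸ N) → ℕ) := by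
    rw [heq]
    refine ⟨Function.update (fun _ => 1) j (p j (1 - ea a j)), fun i => ?_, ?_⟩
    · by_cases hi : i = j
      · subst hi; simp only [Function.update_self]
        generalize ea a i = u
        obtain rfl | rfl : u = 0 ∨ u = 1 := by omega
        all_goals simp
      · simp [Function.update_of_ne hi]
    · simp [Finset.prod_update_of_mem]
  obtain ⟨⟨x, hx0⟩, rfl⟩ := QuotientGroup.mk_surjective z
  -- replace `x` by an element with no part of this order
  let x' : (∀ j, K j (ea a j)) := if orderOf (x j) = p j (1 - ea a j) then Function.update x j 1 else x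
  have hxx : (QuotientGroup.mk (⟨x', Subgroup.mem_top x'⟩) : ↥(⊤ : Subgroup (∀ j, K j (ea a j))) ⧸ N) = QuotientGroup.mk ⟨x, hx0⟩ := by
    rw [QuotientGroup.eq]
    by_cases h : orderOf (x j) = p j (1 - ea a j)
    · obtain ⟨⟨w, hw0⟩, hwN, hw⟩ := hrot (x j) h
      change w = Pi.mulSingle j (x j) at hw
      have e : (⟨x', Subgroup.mem_top x'⟩ : ↥(⊤ : Subgroup (∀ j, K j (ea a j))))⁻¹ * ⟨x, hx0⟩ = ⟨w, hw0⟩ := by
        refine Subtype.ext ?_
        simp only [Subgroup.coe_mul, InvMemClass.coe_inv, hw, x', if_pos h]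
        ext i
        by_cases hi : i = j
        · subst hi; simp
        · simp [Function.update_of_ne hi, Pi.mulSingle_eq_of_ne hi]
      rw [e]; exact hwN
    · rw [show (⟨x', Subgroup.mem_top x'⟩ : ↥(⊤ : Subgroup (∀ j, K j (ea a j))))⁻¹ * ⟨x, hx0⟩ = 1 from
        Subtype.ext (by simp [x', if_neg h])]
      exact N.one_mem
  rw [← hxx] at hz
  have hd : p j (1 - ea a j) ∣ ∏ i, orderOf (x' i) := by
    rw [← hordG, ← hz]
    have := orderOf_map_dvd (QuotientGroup.mk' N) (⟨x', Subgroup.mem_top x'⟩ : ↥(⊤ : Subgroup (∀ j, K j (ea a j))))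
    rwa [← Subgroup.orderOf_coe] at this
  obtain ⟨i, -, hi⟩ := (Prime.dvd_finsetProd_iff (hp j _).prime _).mp hd
  rcases (hpq i _).mpr ⟨_, rfl⟩ with h | h | h <;> rw [h] at hi
  · exact (hp j _).one_lt.ne' (Nat.dvd_one.mp hi)
  all_goals
    obtain ⟨rfl, h2⟩ := hinj _ _ _ _ ((Nat.prime_dvd_prime_iff_eq (hp j _) (hp i _)).mp hi)
    by_cases hxj : orderOf (x j) = p j (1 - ea a j)
    · simp only [x', if_pos hxj, Function.update_self, orderOf_one] at h
      exact (hp j _).one_lt.ne h
    · simp only [x', if_neg hxj] at h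
      exact hxj (by rw [h, h2])

end Cfsg.Agent.S3599
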