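import Cfsg.Statements.S3600
import Cfsg.Agent.Lib.OrderFive.Critical

set_option autoImplicit false
open Cfsg

namespace Cfsg.Agent.S3600

/-- A finite group is critical with respect to a set Ω of natural numbers when its set of element orders is Ω while no proper section has Ω as its set of element orders. A finite group critical with respect to {1, 2, 3, 4, 5} (the set of element orders of the alternating group of degree 6) is isomorphic either to the alternating group of degree 6 or to the affine group F² ⋊ SL(2,F) over the field F with four elements (realised as the matrices of SL(3,F) with last row (0, 0, 1)). -/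
theorem result {G : Type*} [Group G] [Finite G]
    (hcrit : Set.range (orderOf : G → ℕ) = ({1, 2, 3, 4, 5} : Set ℕ) ∧
      ∀ (H : Subgroup G) (N : Subgroup ↥H) [N.Normal], (H ≠ ⊤ ∨ N ≠ ⊥) → Set.range (orderOf : (↥H ⧸ N) → ℕ) ≠ ({1, 2, 3, 4, 5} : Set ℕ)) :
    Nonempty (G ≃* alternatingGroup (Fin 6)) ∨
      ∃ (F : Type) (_ : Field F) (_ : Fintype F), Fintype.card F = 4 ∧
        Nonempty (G ≃* ↥(Subgroup.closure {M : Matrix.SpecialLinearGroup (Fin 3) F |
          (M : Matrix (Fin 3) (Fin 3) F) 2 0 = 0 ∧ (M : Matrix (Fin 3) (Fin 3) F) 2 1 = 0 ∧ (M : Matrix (Fin 3) (Fin 3) F) 2 2 = 1})) := by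
  obtain ⟨hrange, hcr⟩ := hcrit
  have hS : ∀ n : ℕ, n ∈ ({1, 2, 3, 4, 5} : Set ℕ) → n ∣ Nat.card G := fun n hn => by
    obtain ⟨g, rfl⟩ := hrange.ge hn
    exact orderOf_dvd_natCard g
  have h : Agent.OrderFive.Small G := fun g => by
    have := hrange.le ⟨g, rfl⟩
    simp only [Set.mem_insert_iff, Set.mem_singleton_iff] at this
    omega
  rcases h.structure (hS 2 (by simp)) (hS 3 (by simp)) (hS 5 (by simp)) with h6 | ⟨N, hNn, ⟨hNc, hN⟩, ⟨e⟩⟩
  · exact Or.inl h6
  let iF : Fintype (GaloisField 2 2) := Fintype.ofFinite _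
  have hF : @Fintype.card (GaloisField 2 2) iF = 4 := by
    rw [← @Nat.card_eq_fintype_card _ iF, GaloisField.card 2 2 two_ne_zero]; norm_num
  refine Or.inr ⟨GaloisField 2 2, inferInstance, iF, hF, ?_⟩
  have hN1 : N ≠ ⊥ := by
    rintro rfl
    obtain ⟨g, hg⟩ := hrange.ge (show 4 ∈ ({1, 2, 3, 4, 5} : Set ℕ) by simp)
    have h4 := Agent.Spectrum.orderOf_alternating_mem 2 (by norm_num) [1, 2, 3, 5] (by decide +kernel)
      ((QuotientGroup.quotientBot.symm.trans e) g)
    rw [MulEquiv.orderOf_eq, hg] at h4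
    simp at h4
  obtain ⟨f, hf⟩ := Agent.OrderFive.exists_affine_hom h hN hNc hN1 e hF
  have htop : f.range = ⊤ := by
    by_contra hne
    refine hcr f.range ⊥ (Or.inl hne) ?_
    let φ : Agent.Spectrum.AffineSL2F4.affine (GaloisField 2 2) ≃* (↥f.range ⧸ (⊥ : Subgroup ↥f.range)) :=
      (MonoidHom.ofInjective hf).trans QuotientGroup.quotientBot.symm
    have e1 : Set.range (orderOf : (↥f.range ⧸ (⊥ : Subgroup ↥f.range)) → ℕ) =
        Set.range (orderOf : Agent.Spectrum.AffineSL2F4.affine (GaloisField 2 2) → ℕ) := by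
      rw [show (orderOf : Agent.Spectrum.AffineSL2F4.affine (GaloisField 2 2) → ℕ) = orderOf ∘ φ from
        funext fun x => (MulEquiv.orderOf_eq φ x).symm, φ.surjective.range_comp]
    rw [e1, Agent.Spectrum.AffineSL2F4.range_affine hF]
    ext n
    simp [Agent.Spectrum.AffineSL2F4.S]
  refine ⟨?_⟩
  rw [Agent.Spectrum.AffineSL2F4.closure_eq]
  exact Subgroup.topEquiv.symm.trans ((MulEquiv.subgroupCongr htop.symm).trans (MonoidHom.ofInjective hf).symm)

end Cfsg.Agent.S3600
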