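import Cfsg.Statements.S3614
import Cfsg.Agent.Lib.Perm.PrimeTwin
import Cfsg.Agent.Lib.Perm.MillerBound
import Cfsg.Agent.S0989

set_option autoImplicit false
open Cfsg

namespace Cfsg.Agent.S3614

/-- Let G be an insoluble group acting faithfully and transitively on a finite set of prime size p, and suppose the normalizer of a Sylow p-subgroup of G has order p(p-1)/2. If p = q + 2 = 2r + 3 > 9 or p = q + 2 = 3r + 4 > 13 with q and r prime, then G is isomorphic to the alternating group of degree p. -/
theorem result {G Ω : Type*} [Group G] [Finite G] [MulAction G Ω] [FaithfulSMul G Ω] [Finite Ω]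
    (p : ℕ) (hp : p.Prime) (hΩ : Nat.card Ω = p) (htrans : MulAction.IsPretransitive G Ω)
    (hins : ¬ Group.IsSolvable G) (P : Sylow p G)
    (hN : 2 * Nat.card ↥(Subgroup.normalizer ((P : Subgroup G) : Set G)) = p * (p - 1))
    (q r : ℕ) (hq : q.Prime) (hr : r.Prime)
    (hcases : (p = q + 2 ∧ p = 2 * r + 3 ∧ 9 < p) ∨ (p = q + 2 ∧ p = 3 * r + 4 ∧ 13 < p)) :
    Nonempty (G ≃* alternatingGroup (Fin p)) := by
  classical
  haveI := Fact.mk hp
  haveI := Fintype.ofFinite Ω
  have hcard : Fintype.card Ω = p := by rw [← Nat.card_eq_fintype_card, hΩ]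
  obtain ⟨hq5, hpq⟩ : 5 < q ∧ p = q + 2 := by
    rcases hcases with ⟨h, -, h9⟩ | ⟨h, -, h13⟩ <;> exact ⟨by omega, h⟩
  have h5 := Agent.Perm.PrimeTwin.five_transitive hp hΩ htrans hins P hN hq hq5 hpq
  let φ : G →* Equiv.Perm Ω := MulAction.toPermHom G Ω
  have hφ : Function.Injective φ := MulAction.toPerm_injective
  have h5' : MulAction.IsMultiplyPretransitive φ.range Ω 5 := ⟨fun x y => by
    obtain ⟨g, hg⟩ := h5.exists_smul_eq x y
    exact ⟨⟨φ g, g, rfl⟩, hg⟩⟩
  have h4 : MulAction.IsMultiplyPretransitive φ.range Ω 4 := by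
    haveI := h5'
    exact MulAction.isMultiplyPretransitive_of_le (n := 5) (by omega) (by rw [hΩ]; omega)
  have hle : alternatingGroup Ω ≤ φ.range := by
    rcases hcases with ⟨-, h, h9⟩ | ⟨-, h, h13⟩
    · exact Agent.Perm.alternatingGroup_le_of_miller hr 2 φ.range (r := 3) (by rw [hcard, h])
        (by omega) (by omega) (by omega) (by omega) h4
    · exact Agent.Perm.alternatingGroup_le_of_miller hr 3 φ.range (r := 4) (by rw [hcard, h])
        (by omega) (by omega) (by omega) (by omega) h5'
  haveI : Nontrivial Ω := Fintype.one_lt_card_iff_nontrivial.1 (hcard ▸ hp.one_lt)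
  have hidx : φ.range.index ∣ 2 := by
    rw [← alternatingGroup.index_eq_two (α := Ω)]
    exact Subgroup.index_dvd_of_le hle
  have hne : φ.range ≠ ⊤ := by
    intro htop
    let mE : G ≃* Equiv.Perm Ω := MulEquiv.ofBijective φ ⟨hφ, MonoidHom.range_eq_top.1 htop⟩
    let P' : Sylow p (Equiv.Perm Ω) := P.mapSurjective (f := mE.toMonoidHom) mE.surjective
    have hN' : Nat.card (Subgroup.normalizer ((P' : Subgroup (Equiv.Perm Ω)) : Set (Equiv.Perm Ω))) =
        Nat.card (Subgroup.normalizer ((P : Subgroup G) : Set G)) := by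
      rw [show (P' : Subgroup (Equiv.Perm Ω)) = (P : Subgroup G).map mE.toMonoidHom from
        P.coe_mapSurjective _,
        ← Subgroup.map_normalizer_eq_of_bijective (f := mE.toMonoidHom) (P : Subgroup G) mE.bijective]
      exact Subgroup.card_map_of_injective mE.injective
    have h := Agent.S0989.result (α := Ω) p (Or.inl hcard) P'
    rw [hN'] at h
    rw [h] at hN
    have : 0 < p * (p - 1) := Nat.mul_pos hp.pos (by omega)
    omega
  have heq : φ.range = alternatingGroup Ω := by
    rcases (Nat.dvd_prime Nat.prime_two).1 hidx with h | h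
    · exact absurd (Subgroup.index_eq_one.1 h) hne
    · exact Equiv.Perm.eq_alternatingGroup_of_index_eq_two h
  exact ⟨((MonoidHom.ofInjective hφ).trans (MulEquiv.subgroupCongr heq)).trans
    (Fintype.equivFinOfCardEq hcard).altCongrHom⟩

end Cfsg.Agent.S3614
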