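import Cfsg.Statements.S3615
import Cfsg.Agent.Lib.PrimeTwoQ.Small
import Cfsg.Agent.Lib.PrimeTwoQ.ThreeMain
import Cfsg.Agent.Lib.PrimeTwoQ.RankMain
import Cfsg.Agent.Lib.Perm.HalfNormalizerSetup

set_option autoImplicit false
open Cfsg

namespace Cfsg.Agent.S3615

/-- Let G be an insoluble group acting faithfully and transitively on a finite set of prime size p, and suppose the normalizer of a Sylow p-subgroup of G has order p(p-1)/2. If p = 2q + 1 with q prime, then G is 4-fold transitive, unless p is 5, 7 or 11 and G is isomorphic to PSL(2, p). -/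
theorem result {G Ω : Type*} [Group G] [Finite G] [MulAction G Ω] [FaithfulSMul G Ω] [Finite Ω]
    (p : ℕ) (hp : p.Prime) (hΩ : Nat.card Ω = p) (htrans : MulAction.IsPretransitive G Ω)
    (hins : ¬ Group.IsSolvable G) (P : Sylow p G)
    (hN : 2 * Nat.card ↥(Subgroup.normalizer ((P : Subgroup G) : Set G)) = p * (p - 1))
    (q : ℕ) (hq : q.Prime) (hpq : p = 2 * q + 1) :
    MulAction.IsMultiplyPretransitive G Ω 4 ∨
    ((p = 5 ∨ p = 7 ∨ p = 11) ∧ Nonempty (G ≃* Matrix.ProjectiveSpecialLinearGroup (Fin 2) (ZMod p))) := by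
  classical
  haveI := Fintype.ofFinite G
  haveI := Fintype.ofFinite Ω
  haveI : Fact p.Prime := ⟨hp⟩
  haveI : Fact q.Prime := ⟨hq⟩
  have hΩ' : Fintype.card Ω = p := by rw [← Nat.card_eq_fintype_card, hΩ]
  by_cases h11 : 11 ≤ q
  · left
    rcases PrimeTwoQ.exists_ctx hpq h11 hΩ' htrans hins P hN with hA | hc
    · exact PrimeTwoQ.four_of_alternating (by rw [hΩ]; omega) hA
    obtain ⟨c⟩ := hc
    obtain ⟨α⟩ : Nonempty Ω := Fintype.card_pos_iff.1 (hΩ' ▸ hp.pos)
    obtain ⟨e, -, hC⟩ := Perm.HalfNormalizer.exists_coord hΩ' htrans hins P hN α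
    rcases Perm.HalfNormalizer.three_or_card_eq_four hC with h3 | h4
    · exact c.four_of_three h3
    · exact (c.no_two_orbits h4).elim
  have h2 := hq.two_le
  interval_cases q <;> subst hpq <;>
    first
      | exact absurd hq (by decide)
      | exact absurd hp (by decide)
      | skip
  · refine Or.inr ⟨Or.inl rfl, PrimeTwoQ.degree_five hΩ' hins P ?_⟩
    omega
  · rcases PrimeTwoQ.degree_seven hΩ' htrans hins with h | h
    · exact Or.inl h
    · exact Or.inr ⟨Or.inr (Or.inl rfl), h⟩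
  · rcases PrimeTwoQ.degree_eleven hΩ' htrans hins with h | h
    · exact Or.inl h
    · exact Or.inr ⟨Or.inr (Or.inr rfl), h⟩

end Cfsg.Agent.S3615
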