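import Cfsg.Statements.S3620
import Cfsg.Agent.Lib.Perm.SmallJordanSet
import Cfsg.Agent.Lib.JordanSet.Basic

set_option autoImplicit false
open Cfsg
open MulAction
open scoped Pointwise

namespace Cfsg.Agent.S3620

universe u v

/-- The primitive case, in abstract form. -/
theorem of_primitive {G : Type u} {Ω : Type v} [Group G] [Finite G] [MulAction G Ω] [FaithfulSMul G Ω]
    [Fintype Ω] [DecidableEq Ω] (hprim : IsPreprimitive G Ω) (Γ : Set Ω) (h1 : 1 < Γ.ncard)
    (h2 : 2 * Γ.ncard < Fintype.card Ω)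
    (hJ : IsPretransitive ↥(fixingSubgroup G Γᶜ) ↥(SubMulAction.ofFixingSubgroup G Γᶜ)) :
    ∀ σ : Equiv.Perm Ω, Equiv.Perm.sign σ = 1 → ∃ x : G, (toPerm x : Equiv.Perm Ω) = σ := by
  classical
  intro σ hσ
  let L := (toPermHom G Ω).range
  have hLp : IsPreprimitive L Ω :=
    isPreprimitive_congr (φ := (toPermHom G Ω).rangeRestrict)
      (f := { toFun := id, map_smul' := fun _ _ => rfl })
      (MonoidHom.rangeRestrict_surjective _) Function.bijective_id |>.1 hprim
  have hc : Γ.toFinset.card = Γ.ncard := (Set.ncard_eq_toFinset_card' Γ).symm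
  have hA := Perm.alternatingGroup_le_of_small_jordan_set _ L Γ.toFinset rfl hLp (by omega) (by omega)
    fun x hx y hy => by
      obtain ⟨h, hh, hxy⟩ := JordanSet.exists_smul_of_jordan hJ (Set.mem_toFinset.1 hx)
        (Set.mem_toFinset.1 hy)
      exact ⟨⟨_, h, rfl⟩,
        fun z hz => (mem_fixingSubgroup_iff G).1 hh z fun h => hz (Set.mem_toFinset.2 h), hxy⟩
  obtain ⟨g, hg⟩ := hA (Equiv.Perm.mem_alternatingGroup.2 hσ)
  exact ⟨g, hg⟩

/-- The general case, by induction on the degree. -/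
theorem of_quasiprimitive (n : ℕ) : ∀ {G : Type u} {Ω : Type v} [Group G] [Finite G]
    [MulAction G Ω] [FaithfulSMul G Ω] [Fintype Ω] [DecidableEq Ω], Fintype.card Ω = n →
    (∀ N : Subgroup G, N.Normal → N ≠ ⊥ → IsPretransitive ↥N Ω) → ∀ Γ : Set Ω, 1 < Γ.ncard →
    2 * Γ.ncard < Fintype.card Ω →
    IsPretransitive ↥(fixingSubgroup G Γᶜ) ↥(SubMulAction.ofFixingSubgroup G Γᶜ) →
    ∀ σ : Equiv.Perm Ω, Equiv.Perm.sign σ = 1 → ∃ x : G, (toPerm x : Equiv.Perm Ω) = σ := by
  induction n using Nat.strong_induction_on with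
  | _ n ih =>
  intro G Ω _ _ _ _ _ _ hn hqp Γ h1 h2 hJ
  classical
  have hΓ : Γ.Nontrivial := (Set.one_lt_ncard_iff_nontrivial).1 h1
  haveI hGt : IsPretransitive G Ω := JordanSet.isPretransitive_of_qp hqp hΓ hJ
  by_cases hprim : IsPreprimitive G Ω
  · exact of_primitive hprim Γ h1 h2 hJ
  exfalso
  obtain ⟨B, hB, hB1, hB2⟩ : ∃ B : Set Ω, IsBlock G B ∧ B.Nontrivial ∧ B ≠ Set.univ := by
    by_contra hno
    refine hprim ⟨fun {B} hB => ?_⟩
    by_cases hs : B.Subsingleton
    · exact Or.inl hs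
    · exact Or.inr (by_contra fun hu => hno ⟨B, hB, Set.not_subsingleton_iff.1 hs, hu⟩)
  obtain ⟨x₀, hx₀⟩ := hB1.nonempty
  let β : SubMulAction G (Set Ω) := ⟨{D | ∃ g : G, g • B = D},
    fun h D ⟨g, hg⟩ => ⟨h * g, by rw [mul_smul, hg]⟩⟩
  haveI : Fintype β := Fintype.ofFinite β
  have hblock : ∀ D : β, IsBlock G (D : Set Ω) := fun D => by
    obtain ⟨g, hg⟩ := D.2; rw [← hg]; exact hB.translate g
  have hb : ∀ D : β, (D : Set Ω).ncard = B.ncard := fun D => by
    obtain ⟨g, hg⟩ := D.2; rw [← hg, Set.ncard_smul_set]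
  have hb2 : 2 ≤ B.ncard := (Set.one_lt_ncard_iff_nontrivial).2 hB1
  have hDne : ∀ D : β, (D : Set Ω).Nonempty := fun D => Set.nonempty_of_ncard_ne_zero (by
    rw [hb]; omega)
  have hcover : ∀ z, ∃ D : β, z ∈ (D : Set Ω) := fun z => by
    obtain ⟨g, hg⟩ := exists_smul_eq G x₀ z
    exact ⟨⟨g • B, g, rfl⟩, hg ▸ Set.smul_mem_smul_set hx₀⟩
  have huniq : ∀ D D' : β, ∀ z, z ∈ (D : Set Ω) → z ∈ (D' : Set Ω) → D = D' := by
    intro D D' z hz hz'
    obtain ⟨g, hg⟩ := D.2
    obtain ⟨g', hg'⟩ := D'.2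
    rw [← hg] at hz
    rw [← hg'] at hz'
    refine Subtype.ext ?_
    rcases hB.smul_eq_smul_or_disjoint (g₁ := g) (g₂ := g') with h | h
    · rw [← hg, h, hg']
    · exact absurd hz' (fun hz' => Set.disjoint_left.1 h hz hz')
  have hsmulD : ∀ (g : G) (D : β) (z : Ω), z ∈ (D : Set Ω) → g • z ∈ ((g • D : β) : Set Ω) :=
    fun g D z hz => Set.smul_mem_smul_set hz
  have hDu : ∀ D : β, (D : Set Ω) ≠ Set.univ := fun D h => hB2 (Set.eq_univ_of_forall fun z => by
    have hc := hb D
    rw [h] at hc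
    exact (Set.eq_of_subset_of_ncard_le (Set.subset_univ B) hc.le (Set.toFinite _)).ge (Set.mem_univ z))
  -- faithful on the blocks
  haveI hfaith : FaithfulSMul G β := by
    have hk : (toPermHom G β).ker = ⊥ := by
      by_contra hne
      have := hqp _ inferInstance hne
      apply hB2
      refine Set.eq_univ_of_forall fun z => ?_
      obtain ⟨⟨k, hk⟩, hkz⟩ := this.exists_smul_eq x₀ z
      have hkB : k • (⟨B, 1, one_smul G B⟩ : β) = ⟨B, 1, one_smul G B⟩ :=
        Equiv.ext_iff.1 (MonoidHom.mem_ker.1 hk) _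
      have hmem := hsmulD k ⟨B, 1, one_smul G B⟩ x₀ hx₀
      rw [hkB] at hmem
      exact hkz ▸ hmem
    exact ⟨fun {g h} e => (toPermHom G β).ker_eq_bot_iff.1 hk (Equiv.ext e)⟩
  have hqpβ : ∀ N : Subgroup G, N.Normal → N ≠ ⊥ → IsPretransitive ↥N β := by
    intro N hN hne
    have := hqp N hN hne
    refine ⟨fun D D' => ?_⟩
    obtain ⟨z, hz⟩ := hDne D
    obtain ⟨w, hw⟩ := hDne D'
    obtain ⟨g, hg⟩ := exists_smul_eq N z w
    exact ⟨g, huniq _ D' w (hg ▸ hsmulD (g : G) D z hz) hw⟩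
  -- the Jordan set of blocks
  let Γ' : Set β := {D | (D : Set Ω) ⊆ Γ}
  have hin : ∀ D : β, ((D : Set Ω) ∩ Γ).Nonempty → ¬ Γ ⊆ (D : Set Ω) ∧ (D : Set Ω) ⊆ Γ :=
    fun D h => JordanSet.block_subset_of_jordan hqp hΓ hJ (hblock D) (hDu D) h
  have hfixD : ∀ g ∈ fixingSubgroup G Γᶜ, ∀ D : β, D ∉ Γ' → ∀ z ∈ (D : Set Ω), g • z = z := by
    intro g hg D hD z hz
    exact (mem_fixingSubgroup_iff G).1 hg z fun hzΓ => hD (hin D ⟨z, hz, hzΓ⟩).2
  have hfixD' : ∀ g ∈ fixingSubgroup G Γᶜ, ∀ D : β, D ∉ Γ' → g • D = D := by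
    intro g hg D hD
    obtain ⟨z, hz⟩ := hDne D
    exact huniq _ D z (by
      have := hsmulD g D z hz
      rwa [hfixD g hg D hD z hz] at this) hz
  have hJ' : IsPretransitive ↥(fixingSubgroup G Γ'ᶜ) ↥(SubMulAction.ofFixingSubgroup G Γ'ᶜ) := by
    refine ⟨fun u v => ?_⟩
    have hu : (u : β) ∈ Γ' := not_not.1 ((SubMulAction.mem_ofFixingSubgroup_iff G).1 u.2)
    have hv : (v : β) ∈ Γ' := not_not.1 ((SubMulAction.mem_ofFixingSubgroup_iff G).1 v.2)
    obtain ⟨z, hz⟩ := hDne (u : β)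
    obtain ⟨w, hw⟩ := hDne (v : β)
    obtain ⟨g, hg, hgz⟩ := JordanSet.exists_smul_of_jordan hJ (hu hz) (hv hw)
    exact ⟨⟨g, (mem_fixingSubgroup_iff G).2 fun D hD => hfixD' g hg D hD⟩,
      Subtype.ext (huniq _ _ w (hgz ▸ hsmulD g _ z hz) hw)⟩
  choose D hD using hcover
  have hnc : Fintype.card Ω = Fintype.card β * B.ncard := by
    have e : Fintype.card Ω = Fintype.card (Σ E : β, (E : Set Ω)) := by
      refine (Fintype.card_of_bijective (f := fun s : Σ E : β, (E : Set Ω) => (s.2 : Ω)) ⟨?_, ?_⟩).symm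
      · rintro ⟨E, z, hz⟩ ⟨E', z', hz'⟩ (rfl : z = z')
        obtain rfl := huniq E E' z hz hz'
        rfl
      · exact fun z => ⟨⟨D z, z, hD z⟩, rfl⟩
    rw [e, Fintype.card_sigma, Finset.sum_const_nat (m := B.ncard), Finset.card_univ]
    intro E _
    rw [← Nat.card_eq_fintype_card, Nat.card_coe_set_eq, hb]
  have hΓc : Γ.ncard = Γ'.ncard * B.ncard := by
    haveI : Fintype Γ' := Fintype.ofFinite _
    have e : Nat.card Γ = Nat.card (Σ E : Γ', ((E : β) : Set Ω)) := by
      refine (Nat.card_eq_of_bijective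
        (fun s : Σ E : Γ', ((E : β) : Set Ω) => (⟨s.2, s.1.2 s.2.2⟩ : Γ)) ⟨?_, ?_⟩).symm
      · rintro ⟨E, z, hz⟩ ⟨E', z', hz'⟩ h
        obtain rfl : z = z' := congrArg Subtype.val h
        obtain rfl := Subtype.ext (huniq E.1 E'.1 z hz hz')
        rfl
      · rintro ⟨z, hz⟩
        exact ⟨⟨⟨D z, (hin (D z) ⟨z, hD z, hz⟩).2⟩, z, hD z⟩, rfl⟩
    rw [← Nat.card_coe_set_eq, e, Nat.card_sigma, Finset.sum_const_nat (m := B.ncard),
      Finset.card_univ, ← Nat.card_eq_fintype_card, Nat.card_coe_set_eq]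
    intro E _
    rw [Nat.card_coe_set_eq, hb]
  have hΓ'2 : 1 < Γ'.ncard := by
    by_contra h
    obtain ⟨z, hz⟩ := hΓ.nonempty
    refine (hin (D z) ⟨z, hD z, hz⟩).1 fun w hw => ?_
    have e : D w = D z := (Set.ncard_le_one_iff_subsingleton.1 (not_lt.1 h))
      (hin (D w) ⟨w, hD w, hw⟩).2 (hin (D z) ⟨z, hD z, hz⟩).2
    exact e ▸ hD w
  have hΓ'n : 2 * Γ'.ncard < Fintype.card β := by
    rw [hnc, hΓc] at h2
    exact Nat.lt_of_mul_lt_mul_right (a := B.ncard) (by rwa [← mul_assoc] at h2)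
  have hm : Fintype.card β < n := by
    rw [← hn, hnc]
    exact lt_mul_of_one_lt_right (by omega) hb2
  have hA := ih _ hm (G := G) (Ω := β) rfl hqpβ Γ' hΓ'2 hΓ'n hJ'
  have hinj : Function.Injective (toPermHom G β) := toPerm_injective
  -- the normal subgroup acting by even permutations on the blocks
  let N : Subgroup G := (alternatingGroup β).comap (toPermHom G β)
  -- a non-trivial even element supported on `Γ`
  obtain ⟨z₀, hz₀⟩ := hΓ.nonempty
  let J := fixingSubgroup G Γᶜ
  have hJc : 4 ≤ Nat.card J := by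
    have hge : Γ.ncard ≤ Nat.card J := by
      rw [← Nat.card_coe_set_eq]
      refine Nat.card_le_card_of_surjective (fun g : J => (⟨(g : G) • z₀, ?_⟩ : Γ)) ?_
      · by_contra h
        exact h (by
          have := (mem_fixingSubgroup_iff G).1 g.2 _ h
          rw [smul_left_cancel_iff] at this
          rw [this]; exact hz₀)
      · rintro ⟨w, hw⟩
        obtain ⟨g, hg, hgw⟩ := JordanSet.exists_smul_of_jordan hJ hz₀ hw
        exact ⟨⟨g, hg⟩, Subtype.ext hgw⟩
    have : 2 * 2 ≤ Γ'.ncard * B.ncard := Nat.mul_le_mul hΓ'2 hb2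
    omega
  obtain ⟨E, hE⟩ : ∃ E : β, E ∉ Γ' := by
    by_contra h
    simp only [not_exists, not_not] at h
    have : Γ' = Set.univ := Set.eq_univ_of_forall h
    rw [this, Set.ncard_univ, Nat.card_eq_fintype_card] at hΓ'n
    omega
  by_cases hm5 : Fintype.card β ≤ 5
  · -- two blocks: too few permutations
    have hΓ'c : Γ'.ncard = 2 := by omega
    obtain ⟨u, v, huv, hΓuv⟩ := Set.ncard_eq_two.1 hΓ'c
    have hle : Nat.card J ≤ 2 := by
      rw [← Nat.card_fin 2]
      refine Nat.card_le_card_of_injective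
        (fun g : J => if (g : G) • u = u then (0 : Fin 2) else 1) fun g h he => ?_
      have hcase : ∀ g : J, (g : G) • u = u ∨ (g : G) • u = v := by
        intro g
        by_contra hc
        rw [not_or] at hc
        have hout : (g : G) • u ∉ Γ' := by rw [hΓuv]; simp [hc.1, hc.2]
        exact hc.1 (smul_left_cancel (g : G) (hfixD' g g.2 _ hout))
      have hu : (g : G) • u = (h : G) • u := by
        rcases hcase g with hg | hg <;> rcases hcase h with hh | hh
        · rw [hg, hh]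
        · simp [hg, hh, huv.symm] at he
        · simp [hg, hh, huv.symm] at he
        · rw [hg, hh]
      refine Subtype.ext (hinj (Equiv.ext fun F => ?_))
      by_cases hF : F ∈ Γ'
      · rw [hΓuv, Set.mem_insert_iff, Set.mem_singleton_iff] at hF
        rcases hF with rfl | rfl
        · exact hu
        · -- `F = v` goes to the other block
          have key : ∀ g : J, ((g : G) • u = u → (g : G) • F = F) ∧
              ((g : G) • u = F → (g : G) • F = u) := by
            intro g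
            have hc : (g : G) • F = u ∨ (g : G) • F = F := by
              by_contra hc
              rw [not_or] at hc
              have hout : (g : G) • F ∉ Γ' := by rw [hΓuv]; simp [hc.1, hc.2]
              exact hc.2 (smul_left_cancel (g : G) (hfixD' g g.2 _ hout))
            exact ⟨fun h => hc.resolve_left fun h' => huv (smul_left_cancel (g : G) (h'.trans h.symm)).symm,
              fun h => hc.resolve_right fun h' => huv (smul_left_cancel (g : G) (h.trans h'.symm))⟩
          rcases hcase g with hg | hg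
          · exact ((key g).1 hg).trans ((key h).1 (hu ▸ hg)).symm
          · exact ((key g).2 hg).trans ((key h).2 (hu ▸ hg)).symm
      · exact (hfixD' g g.2 F hF).trans (hfixD' h h.2 F hF).symm
    omega
  -- an alternating group on the remaining blocks
  obtain ⟨j, hjJ, hjN, hj1⟩ : ∃ j, j ∈ J ∧ j ∈ N ∧ j ≠ 1 := by
    let f : J →* ℤˣ := (Equiv.Perm.sign.comp (toPermHom G β)).comp J.subtype
    have h := f.ker.index_mul_card
    rw [Subgroup.index_ker] at h
    have hle := Subgroup.card_le_card_group f.range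
    rw [show Nat.card ℤˣ = 2 by rw [Nat.card_eq_fintype_card]; rfl] at hle
    have : 1 < Nat.card f.ker := by
      by_contra hc
      have : Nat.card f.range * Nat.card f.ker ≤ 2 * 1 := Nat.mul_le_mul hle (not_lt.1 hc)
      omega
    haveI : Nontrivial f.ker := Finite.one_lt_card_iff_nontrivial.1 this
    obtain ⟨⟨⟨j, hj⟩, hjk⟩, hne⟩ := exists_ne (1 : f.ker)
    exact ⟨j, hj, Equiv.Perm.mem_alternatingGroup.2 hjk,
      fun e => hne (Subtype.ext (Subtype.ext e))⟩
  let P : β → Prop := fun F => F ≠ E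
  choose g hg using fun σ : alternatingGroup {F : β // P F} => hA (Equiv.Perm.ofSubtype (σ : Equiv.Perm {F : β // P F}))
    (by rw [Equiv.Perm.sign_ofSubtype]; exact σ.2)
  let ι : alternatingGroup {F : β // P F} →* G := MonoidHom.mk' g fun a b => hinj (by
    change toPerm (g (a * b)) = toPermHom G β (g a * g b)
    rw [map_mul, hg, Subgroup.coe_mul, map_mul]
    exact congrArg₂ (· * ·) (hg a).symm (hg b).symm)
  have hιE : ∀ σ, ι σ • E = E := fun σ => by
    have := Equiv.ext_iff.1 (hg σ) E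
    exact this.trans (Equiv.Perm.ofSubtype_apply_of_not_mem _ (fun h => h rfl))
  let K : Subgroup (alternatingGroup {F : β // P F}) := (fixingSubgroup G (E : Set Ω)).comap ι
  have hKn : K.Normal := ⟨fun a ha σ => by
    rw [Subgroup.mem_comap, map_mul, map_mul, map_inv]
    refine (mem_fixingSubgroup_iff G).2 fun z hz => ?_
    have hz' : (ι σ)⁻¹ • z ∈ (E : Set Ω) := by
      have := hsmulD (ι σ)⁻¹ E z hz
      rwa [inv_smul_eq_iff.2 (hιE σ).symm] at this
    rw [mul_smul, mul_smul, (mem_fixingSubgroup_iff G).1 ha _ hz', smul_inv_smul]⟩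
  haveI : IsSimpleGroup (alternatingGroup {F : β // P F}) := alternatingGroup.isSimpleGroup (by
    rw [Nat.card_eq_fintype_card, Fintype.card_subtype_compl, Fintype.card_subtype_eq]
    omega)
  have hjE : ∀ F : β, P (j • F) ↔ P F := fun F => by
    have hE' := hfixD' j hjJ E hE
    exact not_congr ⟨fun h => smul_left_cancel j (h.trans hE'.symm), fun h => h ▸ hE'⟩
  have hKtop : K = ⊤ := by
    refine (hKn.eq_bot_or_eq_top).resolve_left fun hbot => hj1 ?_
    let s : Equiv.Perm {F : β // P F} := (toPermHom G β j).subtypePerm hjE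
    have hs : Equiv.Perm.ofSubtype s = toPermHom G β j :=
      Equiv.Perm.ofSubtype_subtypePerm _ fun F hF e => hF (by rw [e]; exact hfixD' j hjJ E hE)
    have hsA : s ∈ alternatingGroup {F : β // P F} := by
      rw [Equiv.Perm.mem_alternatingGroup, ← Equiv.Perm.sign_ofSubtype, hs]
      exact hjN
    have hιs : ι ⟨s, hsA⟩ = j := hinj ((hg ⟨s, hsA⟩).trans hs)
    have : (⟨s, hsA⟩ : alternatingGroup {F : β // P F}) ∈ K := by
      rw [Subgroup.mem_comap, hιs]
      exact (mem_fixingSubgroup_iff G).2 (hfixD j hjJ E hE)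
    rw [hbot, Subgroup.mem_bot] at this
    rw [← hιs, this, map_one]
  -- but `N` is transitive
  have hNne : N ≠ ⊥ := fun h => hj1 (by rwa [h, Subgroup.mem_bot] at hjN)
  have hNt := hqp N inferInstance hNne
  obtain ⟨p, hp, q, hq, hpq⟩ := (Set.one_lt_ncard_iff_nontrivial).1 (show 1 < (E : Set Ω).ncard by
    rw [hb]; omega)
  obtain ⟨⟨c, hc⟩, hcpq⟩ := hNt.exists_smul_eq p q
  have hcpq' : c • p = q := hcpq
  have hcE : c • E = E := huniq _ E q (hcpq' ▸ hsmulD c E p hp) hq
  have hcs : ∀ F : β, P (c • F) ↔ P F := fun F =>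
    not_congr ⟨fun h => smul_left_cancel c (h.trans hcE.symm), fun h => h ▸ hcE⟩
  let s : Equiv.Perm {F : β // P F} := (toPermHom G β c).subtypePerm hcs
  have hs : Equiv.Perm.ofSubtype s = toPermHom G β c :=
    Equiv.Perm.ofSubtype_subtypePerm _ fun F hF e => hF (by rw [e]; exact hcE)
  have hsA : s ∈ alternatingGroup {F : β // P F} := by
    rw [Equiv.Perm.mem_alternatingGroup, ← Equiv.Perm.sign_ofSubtype, hs]
    exact hc
  have hιs : ι ⟨s, hsA⟩ = c := hinj ((hg ⟨s, hsA⟩).trans hs)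
  have hmem : (⟨s, hsA⟩ : alternatingGroup {F : β // P F}) ∈ K := hKtop ▸ Subgroup.mem_top _
  rw [Subgroup.mem_comap, hιs] at hmem
  exact hpq (((mem_fixingSubgroup_iff G).1 hmem p hp).symm.trans hcpq')

/-- Let G act faithfully on a finite set in such a way that every non-trivial normal subgroup of G is transitive (G is quasiprimitive). Let Γ be a subset with more than one point and fewer than half of the points, such that the pointwise stabilizer of the complement of Γ acts transitively on Γ. Then G induces every even permutation of the set (G is the alternating or the symmetric group). -/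
theorem result {G Ω : Type*} [Group G] [Finite G] [MulAction G Ω] [FaithfulSMul G Ω] [Fintype Ω] [DecidableEq Ω]
    (hqp : ∀ N : Subgroup G, N.Normal → N ≠ ⊥ → MulAction.IsPretransitive ↥N Ω)
    (Γ : Set Ω) (hΓ1 : 1 < Γ.ncard) (hΓ2 : 2 * Γ.ncard < Fintype.card Ω)
    (hJ : MulAction.IsPretransitive ↥(fixingSubgroup G Γᶜ) ↥(SubMulAction.ofFixingSubgroup G Γᶜ)) :
    ∀ σ : Equiv.Perm Ω, Equiv.Perm.sign σ = 1 → ∃ x : G, (MulAction.toPerm x : Equiv.Perm Ω) = σ := by
  exact of_quasiprimitive _ rfl hqp Γ hΓ1 hΓ2 hJ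

end Cfsg.Agent.S3620
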