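import Cfsg.Statements.S3626
import Cfsg.Agent.Lib.Twisted.ReeTori.Cube

set_option autoImplicit false
open Cfsg

namespace Cfsg.Agent.S3626

/-- Let R be the small Ree group over the field with q = 3^(2m+1) ≥ 27 elements. Then there are finite groups of arbitrarily large order with exactly the same set of element orders as R × R × R. -/
theorem result {K : Type*} [Field K] [Fintype K] {m : ℕ} (hm : 1 ≤ m) (hK : Fintype.card K = 3 ^ (2 * m + 1)) (N : ℕ) :
    ∃ (H : Type) (_ : Group H) (_ : Fintype H), N < Fintype.card H ∧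
      Set.range (orderOf : H → ℕ) = Set.range (orderOf : ↥(Cfsg.Lie.twistedG2 K (3 ^ m)) × ↥(Cfsg.Lie.twistedG2 K (3 ^ m)) × ↥(Cfsg.Lie.twistedG2 K (3 ^ m)) → ℕ) := by
  classical
  haveI := Cfsg.Agent.Twisted.Ree.charP_three hK
  haveI : Fact (Nat.Prime 3) := ⟨Nat.prime_three⟩
  let F := GaloisField 3 (2 * m + 1)
  haveI : Fintype F := Fintype.ofFinite F
  have hF : Fintype.card F = 3 ^ (2 * m + 1) := by
    rw [← Nat.card_eq_fintype_card]; exact GaloisField.card 3 _ (by omega)
  let X := Cfsg.Agent.ReeTori.Cube.XX F (N + 1)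
  haveI : Finite (MulAut (Multiplicative (Cfsg.Agent.ReeTori.Cube.W F (N + 1)))) :=
    Finite.of_injective _ DFunLike.coe_injective
  haveI : Finite X := Finite.of_equiv _ SemidirectProduct.equivProd.symm
  let H : Type := Cfsg.Agent.ReeTori.RG F m × Cfsg.Agent.ReeTori.RG F m × X
  refine ⟨H, inferInstance, Fintype.ofFinite H, ?_, ?_⟩
  · let f : (Fin (N + 1) → F) → H := fun v =>
      (1, 1, SemidirectProduct.inl (Multiplicative.ofAdd fun i => v i • (1 : Matrix (Fin 2) (Fin 2) F)))
    have hf : Function.Injective f := fun v w h => funext fun i => by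
      have h1 := congrFun (Multiplicative.ofAdd.injective (SemidirectProduct.inl_injective (congrArg (fun z : H => z.2.2) h))) i
      simpa using congrFun (congrFun h1 0) 0
    have h1 := Nat.card_le_card_of_injective f hf
    rw [Nat.card_fun, Nat.card_fin, Nat.card_eq_fintype_card, hF] at h1
    rw [← @Nat.card_eq_fintype_card H (Fintype.ofFinite H)]
    have h2 : N + 1 < 2 ^ (N + 1) := Nat.lt_two_pow_self
    have h3 : 2 ^ (N + 1) ≤ (3 ^ (2 * m + 1)) ^ (N + 1) :=
      Nat.pow_le_pow_left ((by norm_num : 2 ≤ 3 ^ 1).trans (Nat.pow_le_pow_right (by norm_num) (by omega))) _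
    omega
  · exact Cfsg.Agent.ReeTori.Cube.range_cube (fun d => Cfsg.Agent.ReeTori.Cube.reeOrder_iff hm hF d)
      (fun d => Cfsg.Agent.ReeTori.Cube.reeOrder_iff hm hK d)
      (fun x => Cfsg.Agent.ReeTori.Cube.orders_small hF (Nat.succ_pos N) x)
      (fun d hd => Cfsg.Agent.ReeTori.Cube.exists_small hm hF (Nat.succ_pos N) d hd)

end Cfsg.Agent.S3626
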