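import Cfsg.Statements.S3627
import Cfsg.Agent.Lib.J1.Spectrum
import Cfsg.Agent.Lib.PrimeGraph.Module

set_option autoImplicit false
open Cfsg

namespace Cfsg.Agent.S3627

open PrimeGraph

/-- The proper divisors of `43890 = 2·3·5·7·11·19`. -/
def Spec : Set ℕ := {n | n ∣ 43890 ∧ n ≠ 43890}

theorem max_lcm : ∀ a ∈ ([6, 7, 10, 11, 15, 19] : List ℕ), ∀ b ∈ ([6, 7, 10, 11, 15, 19] : List ℕ),
    ∀ c ∈ ([6, 7, 10, 11, 15, 19] : List ℕ), ∀ d ∈ ([6, 7, 10, 11, 15, 19] : List ℕ),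
      Nat.lcm a (Nat.lcm b (Nat.lcm c d)) ∣ 43890 ∧ Nat.lcm a (Nat.lcm b (Nat.lcm c d)) ≠ 43890 := by
  decide +kernel

theorem proper_divisor : ∀ d ∈ Nat.divisorsAntidiagonal 43890, d.2 ≠ 1 →
    d.1 ∣ 43890 / 2 ∨ d.1 ∣ 43890 / 3 ∨ d.1 ∣ 43890 / 5 ∨ d.1 ∣ 43890 / 7 ∨ d.1 ∣ 43890 / 11 ∨
      d.1 ∣ 43890 / 19 := by
  intro d hd hd1
  obtain ⟨he, -⟩ := Nat.mem_divisorsAntidiagonal.1 hd
  obtain ⟨p, hp, hpd⟩ := Nat.exists_prime_and_dvd hd1
  have hp' : p ∣ 2 * (3 * (5 * (7 * (11 * 19)))) :=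
    (hpd.trans (dvd_mul_left d.2 d.1)).trans (dvd_of_eq (he.trans (by norm_num)))
  have key : ∀ q : ℕ, q.Prime → p ∣ q → d.1 ∣ 43890 / q := fun q hq hpq => by
    rw [(Nat.prime_dvd_prime_iff_eq hp hq).1 hpq] at hpd
    obtain ⟨e, hde⟩ := hpd
    rw [← he, hde, mul_left_comm, Nat.mul_div_cancel_left _ hq.pos]
    exact dvd_mul_right _ _
  rcases hp.dvd_mul.1 hp' with h | h
  · exact Or.inl (key 2 (by norm_num) h)
  rcases hp.dvd_mul.1 h with h | h
  · exact Or.inr (Or.inl (key 3 (by norm_num) h))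
  rcases hp.dvd_mul.1 h with h | h
  · exact Or.inr (Or.inr (Or.inl (key 5 (by norm_num) h)))
  rcases hp.dvd_mul.1 h with h | h
  · exact Or.inr (Or.inr (Or.inr (Or.inl (key 7 (by norm_num) h))))
  rcases hp.dvd_mul.1 h with h | h
  · exact Or.inr (Or.inr (Or.inr (Or.inr (Or.inl (key 11 (by norm_num) h)))))
  · exact Or.inr (Or.inr (Or.inr (Or.inr (Or.inr (key 19 (by norm_num) h)))))

theorem range_eq_spec {G : Type*} [Group G] [Finite G] (hup : ∀ g : G, orderOf g ∈ Spec)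
    (hdown : ∀ p ∈ ([2, 3, 5, 7, 11, 19] : List ℕ), ∃ g : G, 43890 / p ∣ orderOf g) :
    Set.range (orderOf : G → ℕ) = Spec := by
  ext n
  refine ⟨?_, fun ⟨⟨e, he⟩, hne⟩ => ?_⟩
  · rintro ⟨g, rfl⟩; exact hup g
  obtain ⟨p, hp, hpd⟩ : ∃ p ∈ ([2, 3, 5, 7, 11, 19] : List ℕ), n ∣ 43890 / p := by
    have := proper_divisor (n, e) (Nat.mem_divisorsAntidiagonal.2 ⟨he.symm, by norm_num⟩)
      (fun h1 : e = 1 => hne (by rw [he, h1, mul_one]))
    rcases this with h | h | h | h | h | h <;> exact ⟨_, by simp, h⟩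
  obtain ⟨g, hg⟩ := hdown p hp
  obtain ⟨c, hc⟩ := hpd.trans hg
  have hn : 0 < n := Nat.pos_of_mul_pos_right (hc ▸ orderOf_pos g)
  have hcp : 0 < c := Nat.pos_of_mul_pos_left (hc ▸ orderOf_pos g)
  exact ⟨g ^ c, by rw [orderOf_pow' g hcp.ne', hc, Nat.gcd_mul_left_left, Nat.mul_div_cancel _ hcp]⟩

theorem lcm_dvd_lcm' {a b c d : ℕ} (h : a ∣ c) (h' : b ∣ d) : Nat.lcm a b ∣ Nat.lcm c d :=
  Nat.lcm_dvd (h.trans (Nat.dvd_lcm_left c d)) (h'.trans (Nat.dvd_lcm_right c d))

theorem range_J1_four : Set.range (orderOf : ↥Cfsg.Spor.J1 × ↥Cfsg.Spor.J1 × ↥Cfsg.Spor.J1 ×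
    ↥Cfsg.Spor.J1 → ℕ) = Spec := by
  have : Finite (GL (Fin 7) (ZMod 11)) := Finite.of_injective _ Units.val_injective
  refine range_eq_spec ?_ ?_
  · rintro ⟨a, b, c, d⟩
    simp only [Prod.orderOf_mk]
    have h : ∀ x : Cfsg.Spor.J1, ∃ m ∈ ([6, 7, 10, 11, 15, 19] : List ℕ), orderOf x ∣ m :=
      fun x => (J1.range_orderOf ▸ Set.mem_range_self x :)
    obtain ⟨a', ha, ha'⟩ := h a
    obtain ⟨b', hb, hb'⟩ := h b
    obtain ⟨c', hc, hc'⟩ := h c
    obtain ⟨d', hd, hd'⟩ := h d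
    have hdvd := lcm_dvd_lcm' ha' (lcm_dvd_lcm' hb' (lcm_dvd_lcm' hc' hd'))
    obtain ⟨h1, h2⟩ := max_lcm a' ha b' hb c' hc d' hd
    exact ⟨hdvd.trans h1, fun e => h2 (Nat.dvd_antisymm h1 (e ▸ hdvd))⟩
  · intro p hp
    have h : ∀ a b c d : ℕ, a ∈ ([6, 7, 10, 11, 15, 19] : List ℕ) → b ∈ ([6, 7, 10, 11, 15, 19] : List ℕ) →
        c ∈ ([6, 7, 10, 11, 15, 19] : List ℕ) → d ∈ ([6, 7, 10, 11, 15, 19] : List ℕ) →
        43890 / p ∣ Nat.lcm a (Nat.lcm b (Nat.lcm c d)) →
        ∃ g : ↥Cfsg.Spor.J1 × ↥Cfsg.Spor.J1 × ↥Cfsg.Spor.J1 × ↥Cfsg.Spor.J1,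
          43890 / p ∣ orderOf g := by
      intro a b c d ha hb hc hd hdvd
      obtain ⟨x, rfl⟩ := J1.exists_orderOf_max a ha
      obtain ⟨y, rfl⟩ := J1.exists_orderOf_max b hb
      obtain ⟨z, rfl⟩ := J1.exists_orderOf_max c hc
      obtain ⟨w, rfl⟩ := J1.exists_orderOf_max d hd
      exact ⟨(x, y, z, w), by simpa only [Prod.orderOf_mk] using hdvd⟩
    fin_cases hp
    · exact h 7 11 19 15 (by simp) (by simp) (by simp) (by simp) (by decide +kernel)
    · exact h 7 11 19 10 (by simp) (by simp) (by simp) (by simp) (by decide +kernel)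
    · exact h 7 11 19 6 (by simp) (by simp) (by simp) (by simp) (by decide +kernel)
    · exact h 11 19 6 10 (by simp) (by simp) (by simp) (by simp) (by decide +kernel)
    · exact h 7 19 6 10 (by simp) (by simp) (by simp) (by simp) (by decide +kernel)
    · exact h 7 11 6 10 (by simp) (by simp) (by simp) (by simp) (by decide +kernel)

/-- The cyclic group of order 6270. -/
abbrev B := Multiplicative (ZMod 6270)

/-- Functions on `B` summing to zero. -/
def V (n : ℕ) : AddSubgroup (B → (Fin n → ZMod 7)) where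
  carrier := {f | ∑ x, f x = 0}
  zero_mem' := by simp
  add_mem' {f g} hf hg := by
    show ∑ x, (f x + g x) = 0
    rw [Finset.sum_add_distrib, hf, hg, add_zero]
  neg_mem' {f} hf := by
    show ∑ x, -f x = 0
    rw [Finset.sum_neg_distrib, hf, neg_zero]

instance actV (n : ℕ) : DistribMulAction B (V n) where
  smul g f := ⟨fun x => f.1 (x * g), by
    show ∑ x, f.1 (x * g) = 0
    exact (Equiv.sum_comp (Equiv.mulRight g) f.1).trans f.2⟩
  one_smul f := Subtype.ext (funext fun x => congrArg f.1 (mul_one x))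
  mul_smul a b f := Subtype.ext (funext fun x => congrArg f.1 (mul_assoc x a b).symm)
  smul_zero _ := rfl
  smul_add _ _ _ := rfl

theorem seven_smul (n : ℕ) (v : V n) : 7 • v = 0 :=
  Subtype.ext (funext fun x => funext fun i => ZModModule.char_nsmul_eq_zero 7 (v.1 x i))

theorem fixed_gen_eq_zero {n : ℕ} {g : B} (hg : orderOf g = 6270) {v : V n} (hv : g • v = v) :
    v = 0 := by
  have hstep : ∀ x, v.1 (x * g) = v.1 x := fun x => congrFun (congrArg Subtype.val hv) x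
  have hpow : ∀ k : ℕ, v.1 (g ^ k) = v.1 1 := by
    intro k
    induction k with
    | zero => rw [pow_zero]
    | succ k ih => rw [pow_succ, hstep, ih]
  have hall : ∀ x, v.1 x = v.1 1 := fun x => by
    have hx : x ∈ Submonoid.powers g := by
      rw [mem_powers_iff_mem_zpowers,
        Subgroup.eq_top_of_card_eq (Subgroup.zpowers g) (by
          rw [Nat.card_zpowers, hg, Nat.card_congr Multiplicative.toAdd, Nat.card_zmod])]
      trivial
    obtain ⟨k, rfl⟩ := hx
    exact hpow k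
  have hsum : ∑ x, v.1 x = 0 := v.2
  rw [Finset.sum_congr rfl fun x _ => hall x, Finset.sum_const, Finset.card_univ,
    ← Nat.card_eq_fintype_card, Nat.card_congr Multiplicative.toAdd, Nat.card_zmod] at hsum
  refine Subtype.ext (funext fun x => funext fun i => ?_)
  rw [hall x]
  have h := congrFun hsum i
  simp only [Pi.smul_apply, nsmul_eq_mul, Pi.zero_apply] at h
  have : Fact (Nat.Prime 7) := ⟨by norm_num⟩
  refine (mul_eq_zero.1 h).resolve_left ?_
  rw [ZMod.natCast_eq_zero_iff]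
  norm_num

theorem exists_fixed {n : ℕ} {g : B} (hg : orderOf g ≠ 6270) :
    ∃ v : V (n + 1), v ≠ 0 ∧ g • v = v := by
  classical
  have hne : Subgroup.zpowers g ≠ ⊤ := fun h => hg (by
    rw [← Nat.card_zpowers, h, Subgroup.card_top, Nat.card_congr Multiplicative.toAdd, Nat.card_zmod])
  obtain ⟨b, hb⟩ : ∃ b, b ∉ Subgroup.zpowers g := by
    by_contra h
    exact hne ((Subgroup.eq_top_iff' _).2 fun x => not_not.1 fun hx => h ⟨x, hx⟩)
  let χ : B → (Fin (n + 1) → ZMod 7) := fun x => if x ∈ Subgroup.zpowers g then (fun _ => 1) else 0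
  refine ⟨⟨fun x => χ x - χ (x * b), ?_⟩, fun h => ?_, ?_⟩
  · show ∑ x, (χ x - χ (x * b)) = 0
    rw [Finset.sum_sub_distrib,
      show ∑ x, χ (x * b) = ∑ x, χ x from Equiv.sum_comp (Equiv.mulRight b) χ, sub_self]
  · have h1 := congrFun (congrFun (congrArg Subtype.val h) 1) 0
    simp [χ, hb] at h1
    exact (by decide : (1 : ZMod 7) ≠ 0) h1
  · refine Subtype.ext (funext fun x => ?_)
    show χ (x * g) - χ (x * g * b) = χ x - χ (x * b)
    simp only [χ, mul_right_comm x g b,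
      Subgroup.mul_mem_cancel_right (Subgroup.zpowers g) (Subgroup.mem_zpowers g)]

theorem range_mod (n : ℕ) :
    Set.range (orderOf : ModGroup B (V (n + 1)) → ℕ) = Spec := by
  have : Fact (Nat.Prime 7) := ⟨by norm_num⟩
  have hcard : Nat.card B = 6270 := by
    rw [Nat.card_congr Multiplicative.toAdd, Nat.card_zmod]
  have hgdvd : ∀ g : B, orderOf g ∣ 6270 := fun g => (orderOf_dvd_natCard g).trans (dvd_of_eq hcard)
  refine range_eq_spec (fun y => ?_) ?_
  · have h1 : orderOf y ∣ orderOf y.right * 7 := orderOf_dvd_mul (seven_smul _) y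
    refine ⟨h1.trans (Nat.mul_dvd_mul (hgdvd _) dvd_rfl), fun e => ?_⟩
    rw [e] at h1
    have h6 : orderOf y.right = 6270 := Nat.dvd_antisymm (hgdvd _)
      (Nat.dvd_of_mul_dvd_mul_right (by norm_num : 0 < 7) h1)
    obtain ⟨w, hw, hfix⟩ := pow_eq_inl y
    rw [fixed_gen_eq_zero h6 hfix, ofAdd_zero, map_one, h6] at hw
    have := Nat.le_of_dvd (by norm_num) (e ▸ orderOf_dvd_of_pow_eq_one hw)
    norm_num at this
  · intro p hp
    have hgen : orderOf (Multiplicative.ofAdd (1 : ZMod 6270)) = 6270 := by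
      rw [orderOf_ofAdd_eq_addOrderOf, ZMod.addOrderOf_one]
    have h : ∀ k : ℕ, k ∣ 6270 → k ≠ 1 → Nat.Coprime (6270 / k) 7 → 43890 / p ∣ 6270 / k * 7 →
        ∃ y : ModGroup B (V (n + 1)), 43890 / p ∣ orderOf y := by
      intro k hk hk1 hcop hdvd
      have hk0 : k ≠ 0 := by rintro rfl; norm_num at hk
      have ho : orderOf (Multiplicative.ofAdd (1 : ZMod 6270) ^ k) = 6270 / k := by
        rw [orderOf_pow' _ hk0, hgen, Nat.gcd_eq_right hk]
      obtain ⟨v, hv, hgv⟩ := exists_fixed (n := n) (g := Multiplicative.ofAdd (1 : ZMod 6270) ^ k)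
        (by
          rw [ho]
          exact (Nat.div_lt_self (by norm_num) (by omega)).ne)
      obtain ⟨y, hy⟩ := exists_orderOf_mul (seven_smul _) _ (ho ▸ hcop) hv hgv
      exact ⟨y, by rw [hy, ho]; exact hdvd⟩
    fin_cases hp
    · exact h 2 (by norm_num) (by norm_num) (by norm_num) (by norm_num)
    · exact h 3 (by norm_num) (by norm_num) (by norm_num) (by norm_num)
    · exact h 5 (by norm_num) (by norm_num) (by norm_num) (by norm_num)
    · exact ⟨SemidirectProduct.inr (Multiplicative.ofAdd (1 : ZMod 6270)),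
        by rw [orderOf_inr, hgen]⟩
    · exact h 11 (by norm_num) (by norm_num) (by norm_num) (by norm_num)
    · exact h 19 (by norm_num) (by norm_num) (by norm_num) (by norm_num)

/-- Let J be the first Janko group. Then there are finite groups of arbitrarily large order with exactly the same set of element orders as J × J × J × J. -/
theorem result (N : ℕ) : ∃ (H : Type) (_ : Group H) (_ : Fintype H), N < Fintype.card H ∧
      Set.range (orderOf : H → ℕ) = Set.range (orderOf : ↥Cfsg.Spor.J1 × ↥Cfsg.Spor.J1 × ↥Cfsg.Spor.J1 × ↥Cfsg.Spor.J1 → ℕ) := by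
  classical
  have hN : N < Nat.card (V (N + 1)) := by
    let b : B := Multiplicative.ofAdd (1 : ZMod 6270)
    have hb : (1 : B) ≠ b := by
      intro h
      have : (0 : ZMod 6270) = 1 := congrArg Multiplicative.toAdd h
      exact absurd this (by decide)
    refine lt_of_lt_of_le (exists_lt_card_pow (V := ZMod 7) (by rw [Nat.card_zmod]; norm_num) N)
      (Nat.card_le_card_of_injective
        (fun w => (⟨fun x => (if x = 1 then w else 0) - (if x = b then w else 0), ?_⟩ : V (N + 1))) ?_)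
    · show ∑ x, ((if x = 1 then w else 0) - (if x = b then w else 0)) = 0
      simp [Finset.sum_sub_distrib]
    · intro w w' h
      have := congrFun (congrArg Subtype.val h) 1
      simpa [hb] using this
  obtain ⟨H, iG, iF, ⟨e⟩⟩ := exists_small (ModGroup B (V (N + 1)))
  refine ⟨H, iG, iF, ?_, ?_⟩
  · rw [← Nat.card_eq_fintype_card, ← Nat.card_congr e.toEquiv, card_modGroup]
    exact lt_of_lt_of_le hN (Nat.le_mul_of_pos_right _ Nat.card_pos)
  · rw [range_J1_four, ← range_mod N]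
    ext n
    constructor
    · rintro ⟨x, rfl⟩; exact ⟨e.symm x, e.symm.orderOf_eq x⟩
    · rintro ⟨x, rfl⟩; exact ⟨e x, e.orderOf_eq x⟩

end Cfsg.Agent.S3627
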