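import Cfsg.Statements.S3633
import Cfsg.Agent.Lib.PrimeGraph.ThreePrimes

set_option autoImplicit false
open Cfsg

namespace Cfsg.Agent.S3633

/-- Let G be a finite group and ρ a set of at least three prime divisors of the order of G that are pairwise non-adjacent in the prime graph (no element of order rs for distinct r, s ∈ ρ). Then at most one prime of ρ divides the order of any given solvable normal subgroup of G; in particular G is not solvable. -/
theorem result {G : Type*} [Group G] [Finite G] (ρ : Finset ℕ) (hρ : 3 ≤ ρ.card) (hc : ((∀ r ∈ ρ, r.Prime ∧ r ∣ Nat.card G) ∧ (∀ r ∈ ρ, ∀ s ∈ ρ, r ≠ s → ¬ ∃ x : G, orderOf x = r * s)))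
    (K : Subgroup G) [K.Normal] (hK : Group.IsSolvable ↥K) :
    (∀ r ∈ ρ, ∀ s ∈ ρ, r ∣ Nat.card ↥K → s ∣ Nat.card ↥K → r = s) ∧ ¬ Group.IsSolvable G := by
  obtain ⟨hρ1, hρ2⟩ := hc
  have nadj : ∀ a ∈ ρ, ∀ b ∈ ρ, a ≠ b → PrimeGraph.NonAdj G a b :=
    fun a ha b hb hab x hx => hρ2 a ha b hb hab ⟨x, hx⟩
  refine ⟨fun r hr s hs hrK hsK => ?_, fun hG => ?_⟩
  · by_contra hrs
    obtain ⟨t, ht, htr⟩ : ∃ t ∈ ρ, t ∉ ({r, s} : Finset ℕ) := by
      refine Finset.exists_mem_notMem_of_card_lt_card ?_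
      exact lt_of_le_of_lt Finset.card_le_two (by omega)
    simp only [Finset.mem_insert, Finset.mem_singleton, not_or] at htr
    have := Fact.mk (hρ1 t ht).1
    obtain ⟨y, hy⟩ := exists_prime_orderOf_dvd_card' t (hρ1 t ht).2
    have : Group.IsSolvable ↥(Subgroup.zpowers y) := Group.isSolvable_of_comm fun a b => mul_comm' a b
    have hsol := PrimeGraph.isSolvable_sup_of_le_normalizer K (Subgroup.zpowers y)
      (by rw [Subgroup.normalizer_eq_top]; exact le_top)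
    refine PrimeGraph.three_primes (G := ↥(K ⊔ Subgroup.zpowers y)) (hρ1 r hr).1 (hρ1 s hs).1
      (hρ1 t ht).1 hrs (Ne.symm htr.1) (Ne.symm htr.2)
      (hrK.trans (Subgroup.card_dvd_of_le le_sup_left))
      (hsK.trans (Subgroup.card_dvd_of_le le_sup_left))
      (?_) ((nadj r hr s hs hrs).subgroup _) ((nadj r hr t ht (Ne.symm htr.1)).subgroup _)
      ((nadj s hs t ht (Ne.symm htr.2)).subgroup _)
    refine Dvd.dvd.trans ?_ (Subgroup.card_dvd_of_le le_sup_right)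
    rw [Nat.card_zpowers, hy]
  · obtain ⟨a, b, c, hab, hac, hbc, hsub⟩ := Finset.two_lt_card_iff.1 (show 2 < ρ.card by omega) |> fun
      ⟨a, b, c, ha, hb, hc', hab, hac, hbc⟩ =>
        (⟨a, b, c, hab, hac, hbc, ha, hb, hc'⟩ :
          ∃ a b c, a ≠ b ∧ a ≠ c ∧ b ≠ c ∧ a ∈ ρ ∧ b ∈ ρ ∧ c ∈ ρ)
    obtain ⟨ha, hb, hc'⟩ := hsub
    exact PrimeGraph.three_primes (hρ1 a ha).1 (hρ1 b hb).1 (hρ1 c hc').1 hab hac hbc
      (hρ1 a ha).2 (hρ1 b hb).2 (hρ1 c hc').2
      (nadj a ha b hb hab) (nadj a ha c hc' hac) (nadj b hb c hc' hbc)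

end Cfsg.Agent.S3633
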