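import Cfsg.Statements.S3634
import Cfsg.Agent.Lib.PrimeGraph.ThreePrimes

set_option autoImplicit false
open Cfsg

namespace Cfsg.Agent.S3634

open Subgroup
open scoped Pointwise

/-- Frattini: a Sylow subgroup's normaliser covers, so a prime of `|G : N|` divides it. -/
theorem prime_dvd_of_sup_eq {G : Type*} [Group G] [Finite G] (N A : Subgroup G) [N.Normal]
    (h : A ⊔ N = ⊤) {r : ℕ} (hr : r ∣ N.index) : r ∣ Nat.card A := by
  refine hr.trans ?_
  have hπ : Function.Surjective ((QuotientGroup.mk' N).comp A.subtype) := by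
    rw [← MonoidHom.range_eq_top, MonoidHom.range_comp, Subgroup.range_subtype]
    have := congrArg (Subgroup.map (QuotientGroup.mk' N)) h
    rwa [Subgroup.map_sup, QuotientGroup.map_mk'_self, sup_bot_eq,
      Subgroup.map_top_of_surjective _ (QuotientGroup.mk'_surjective N)] at this
  exact Subgroup.card_dvd_of_surjective _ hπ

/-- Let G be a finite group with normal subgroups K ≤ M, and let p, q, r be distinct primes with p dividing the order of K, q dividing the order of M/K and r dividing the order of G/M. Then p, q, r are not pairwise non-adjacent in the prime graph of G: G has an element of order pq, pr or qr. -/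
theorem result {G : Type*} [Group G] [Finite G] (K M : Subgroup G) [K.Normal] [M.Normal] (hKM : K ≤ M)
    (p q r : ℕ) (hp : p.Prime) (hq : q.Prime) (hr : r.Prime) (hpq : p ≠ q) (hpr : p ≠ r) (hqr : q ≠ r)
    (hpK : p ∣ Nat.card ↥K) (hqM : q ∣ Nat.card ↥M / Nat.card ↥K) (hrG : r ∣ Nat.card G / Nat.card ↥M) :
    (∃ x : G, orderOf x = p * q) ∨ (∃ x : G, orderOf x = p * r) ∨ (∃ x : G, orderOf x = q * r) := by
  by_contra hcon
  simp only [not_or, not_exists] at hcon
  obtain ⟨npq, npr, nqr⟩ := hcon
  have hpf := Fact.mk hp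
  have hqf := Fact.mk hq
  have hrf := Fact.mk hr
  obtain ⟨P⟩ : Nonempty (Sylow p K) := inferInstance
  let P' : Subgroup G := (P : Subgroup K).map K.subtype
  let N₁ : Subgroup G := normalizer (P' : Set G)
  have hN1 : N₁ ⊔ K = ⊤ := Sylow.normalizer_sup_eq_top P
  -- q divides |N₁ ⊓ M|
  have hMN : (N₁ ⊓ M) ⊔ K = M := by
    refine le_antisymm (sup_le inf_le_right hKM) fun x hx => ?_
    have hx' : x ∈ ((N₁ : Set G) * (K : Set G)) := by
      rw [← Subgroup.mul_normal, hN1]; exact trivial
    obtain ⟨a, ha, c, hc, rfl⟩ := hx'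
    refine mul_mem_sup ⟨ha, ?_⟩ hc
    exact (M.mul_mem_cancel_right (hKM hc)).1 hx
  have hqN : q ∣ Nat.card ↥(N₁ ⊓ M) := by
    have hidx : (K.subgroupOf M).index = Nat.card ↥M / Nat.card ↥K := by
      have h1 := (K.subgroupOf M).card_mul_index
      rw [Nat.card_congr (subgroupOfEquivOfLe hKM).toEquiv] at h1
      rw [← h1, Nat.mul_div_cancel_left _ Nat.card_pos]
    have h := prime_dvd_of_sup_eq (K.subgroupOf M) ((N₁ ⊓ M).subgroupOf M)
      (by rw [← subgroupOf_sup inf_le_right hKM, hMN, subgroupOf_self]) (r := q) (hidx ▸ hqM)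
    rwa [Nat.card_congr (subgroupOfEquivOfLe inf_le_right).toEquiv] at h
  let N₁' : Subgroup N₁ := M.subgroupOf N₁
  have : N₁'.Normal := inferInstanceAs (M.subgroupOf N₁).Normal
  have hqN' : q ∣ Nat.card N₁' := by
    have e : (N₁ ⊓ M).subgroupOf N₁ = N₁' := by
      ext x; simp [N₁', mem_subgroupOf]
    rwa [← e, Nat.card_congr (subgroupOfEquivOfLe inf_le_left).toEquiv]
  obtain ⟨Q⟩ : Nonempty (Sylow q N₁') := inferInstance
  let Q' : Subgroup N₁ := (Q : Subgroup N₁').map N₁'.subtype
  let N₂ : Subgroup N₁ := normalizer (Q' : Set N₁)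
  have hN2 : N₂ ⊔ N₁' = ⊤ := Sylow.normalizer_sup_eq_top Q
  have hrN : r ∣ N₁'.index := by
    have h0 : M.relIndex N₁ = M.index := by
      have e : N₁ ⊔ M = ⊤ := eq_top_iff.2 (hN1.ge.trans (sup_le_sup_left hKM _))
      have := (Subgroup.relIndex_sup_right (H := N₁) (K := M)).symm
      rw [e, relIndex_top_right] at this
      exact this
    show r ∣ M.relIndex N₁
    rw [h0]
    rwa [← M.card_mul_index, Nat.mul_div_cancel_left _ Nat.card_pos] at hrG
  obtain ⟨y, hy⟩ := exists_prime_orderOf_dvd_card' r (prime_dvd_of_sup_eq N₁' N₂ hN2 hrN)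
  let yy : N₁ := (y : N₁)
  have hQs : Group.IsSolvable Q' := by
    have : Group.IsNilpotent Q' := (Q.isPGroup'.map _).isNilpotent
    infer_instance
  have hPs : Group.IsSolvable P' := by
    have : Group.IsNilpotent P' := (P.isPGroup'.map _).isNilpotent
    infer_instance
  have : Group.IsSolvable ↥(zpowers yy) := Group.isSolvable_of_comm fun a b => mul_comm' a b
  have hL1 := PrimeGraph.isSolvable_sup_of_le_normalizer Q' (zpowers yy)
    ((zpowers_le).2 y.2)
  have hL1' : Group.IsSolvable ↥((Q' ⊔ zpowers yy).map N₁.subtype) :=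
    Group.isSolvable_of_surjective
      (f := ((Q' ⊔ zpowers yy).equivMapOfInjective _ N₁.subtype_injective).toMonoidHom)
      ((Q' ⊔ zpowers yy).equivMapOfInjective _ N₁.subtype_injective).surjective
  have hL := PrimeGraph.isSolvable_sup_of_le_normalizer P' ((Q' ⊔ zpowers yy).map N₁.subtype)
    (Subgroup.map_subtype_le _)
  set L : Subgroup G := P' ⊔ (Q' ⊔ zpowers yy).map N₁.subtype
  have hpL : p ∣ Nat.card L := by
    have h1 : p ∣ Nat.card P' := by
      rw [Subgroup.card_map_of_injective K.subtype_injective]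
      exact P.dvd_card_of_dvd_card hpK
    exact h1.trans (card_dvd_of_le le_sup_left)
  have hle : (Q' ⊔ zpowers yy).map N₁.subtype ≤ L := le_sup_right
  have hcard : Nat.card ↥(Q' ⊔ zpowers yy) ∣ Nat.card L := by
    rw [← Subgroup.card_map_of_injective N₁.subtype_injective]
    exact card_dvd_of_le hle
  have hqL : q ∣ Nat.card L := by
    have h1 : q ∣ Nat.card Q' := by
      rw [Subgroup.card_map_of_injective N₁'.subtype_injective]
      exact Q.dvd_card_of_dvd_card hqN'
    exact (h1.trans (card_dvd_of_le le_sup_left)).trans hcard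
  have hrL : r ∣ Nat.card L := by
    refine Dvd.dvd.trans ?_ ((card_dvd_of_le (le_sup_right : zpowers yy ≤ _)).trans hcard)
    rw [Nat.card_zpowers, Subgroup.orderOf_coe, hy]
  exact PrimeGraph.three_primes hp hq hr hpq hpr hqr hpL hqL hrL
    (PrimeGraph.NonAdj.subgroup (G := G) npq L) (PrimeGraph.NonAdj.subgroup (G := G) npr L)
    (PrimeGraph.NonAdj.subgroup (G := G) nqr L)

end Cfsg.Agent.S3634
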