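import Cfsg.Statements.S3639
import Cfsg.Agent.Lib.PrimeGraph.Module
import Cfsg.Agent.Lib.Suzuki4.Basic

set_option autoImplicit false
open Cfsg

namespace Cfsg.Agent.S3639

open Matrix

/-- Let S be the Suzuki group over the field with q = 2^(2m+1) ≥ 8 elements. Then there are finite groups of arbitrarily large order with the same prime graph as S. -/
theorem result {F : Type*} [Field F] [Fintype F] {m : ℕ} (hm : 1 ≤ m) (hF : Fintype.card F = 2 ^ (2 * m + 1)) (N : ℕ) :
    ∃ (H : Type) (_ : Group H) (_ : Fintype H), N < Fintype.card H ∧ ((∀ r : ℕ, r.Prime → (r ∣ Nat.card ↥(Cfsg.Lie.Sz F (2 ^ (m + 1))) ↔ r ∣ Nat.card H)) ∧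
      (∀ r s : ℕ, r.Prime → s.Prime → r ≠ s → ((∃ x : ↥(Cfsg.Lie.Sz F (2 ^ (m + 1))), orderOf x = r * s) ↔ (∃ y : H, orderOf y = r * s)))) := by
  classical
  have hchar : CharP F 2 := by
    obtain ⟨p, hp⟩ := CharP.exists F
    have := Fact.mk (CharP.char_is_prime F p)
    obtain ⟨n, hn, hc⟩ := FiniteField.card F p
    rw [hF] at hc
    have : p ∣ 2 ^ (2 * m + 1) := hc ▸ dvd_pow_self p (PNat.ne_zero n)
    have h2 := (Nat.prime_dvd_prime_iff_eq hn Nat.prime_two).1 (hn.dvd_of_dvd_pow this)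
    subst h2
    exact hp
  have two : (2 : F) = 0 := CharTwo.two_eq_zero
  let L := ↥(Cfsg.Lie.Sz F (2 ^ (m + 1)))
  let V := Fin 4 → F
  have : Finite (GL (Fin 4) F) := Finite.of_injective _ Units.val_injective
  letI : DistribMulAction L V :=
    { smul := fun g v => ((g : GL (Fin 4) F) : Matrix (Fin 4) (Fin 4) F) *ᵥ v
      one_smul := fun v => one_mulVec v
      mul_smul := fun a b v => (mulVec_mulVec v _ _).symm
      smul_zero := fun a => mulVec_zero _
      smul_add := fun a v w => mulVec_add _ v w }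
  let M : Matrix (Fin 4) (Fin 4) F := !![1, 0, 0, 0; 0, 1, 0, 0; 1, 0, 1, 0; 1, 1, 0, 1]
  have hMM : M * M = 1 := by
    ext i j
    fin_cases i <;> fin_cases j <;>
      simp [M, Matrix.mul_apply, Fin.sum_univ_four, CharTwo.add_self_eq_zero]
  let u : GL (Fin 4) F := ⟨M, M, hMM, hMM⟩
  have huSz : u ∈ Cfsg.Lie.Sz F (2 ^ (m + 1)) := by
    refine Subgroup.subset_closure ⟨?_, ?_⟩
    · intro a b
      simp [u, M, Cfsg.Lie.altForm4, Matrix.mulVec, dotProduct, Fin.sum_univ_four]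
      linear_combination (a 0 * b 1 + a 1 * b 0 + a 0 * b 0) * two
    · ext p r
      fin_cases p <;> fin_cases r <;> simp [u, M, Cfsg.Lie.star4, Cfsg.Lie.pairOf, CharTwo.neg_eq]
  have hu : orderOf (⟨u, huSz⟩ : L) = 2 := by
    rw [← Subgroup.orderOf_coe]
    refine orderOf_eq_prime (by rw [pow_two]; exact Units.ext hMM) fun h => ?_
    simpa [u, M] using congrArg (fun g : GL (Fin 4) F => (g : Matrix (Fin 4) (Fin 4) F) 2 0) h
  obtain ⟨H, iG, iF, hN, hH⟩ := PrimeGraph.exists_large_self L V 2 Nat.prime_two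
    (fun v => funext fun i => by simp [two_smul, CharTwo.add_self_eq_zero])
    (hu ▸ orderOf_dvd_natCard (⟨u, huSz⟩ : L))
    (fun g hg hg2 _ v hv => by
      by_contra hv0
      have h4 := Suzuki4.pow_four_eq_one_of_fix (Suzuki4.inSz_of_mem g.2) hv0 hv
      have : orderOf g ∣ 2 ^ 2 := orderOf_dvd_of_pow_eq_one (Subtype.ext h4)
      exact hg2 ((Nat.prime_dvd_prime_iff_eq hg Nat.prime_two).1 (hg.dvd_of_dvd_pow this))) N
  exact ⟨H, iG, iF, by rwa [← Nat.card_eq_fintype_card], hH⟩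

end Cfsg.Agent.S3639
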