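import Cfsg.Statements.S3641
import Cfsg.Agent.Lib.PSL2.Recognition
import Cfsg.Agent.Lib.PSL2.Subfield
import Cfsg.Agent.Lib.Perm.SharplyPGL
import Cfsg.Agent.Lib.Perm.ZassenhausNormal
import Cfsg.Agent.Lib.Perm.ZassenhausEven
import Cfsg.Agent.Lib.SylowCount.Basic
import Cfsg.Agent.Lib.SmallSimple.Tools
import Cfsg.Agent.Lib.PGroup.Basic

set_option autoImplicit false
set_option linter.style.haveILetI false
set_option linter.unusedSectionVars false
open Cfsg

namespace Cfsg.Agent.S3641

open MulAction Finset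
open scoped MatrixGroups
open Cfsg.Agent.Perm

theorem eq_of_mul_eq_mul_coprime {a b c e : ℕ} (h : a * b = c * e) (h1 : Nat.Coprime a e)
    (h2 : Nat.Coprime c b) : a = c :=
  Nat.dvd_antisymm (h1.dvd_of_dvd_mul_right ⟨b, h.symm⟩) (h2.dvd_of_dvd_mul_right ⟨e, h⟩)

theorem card_sylow_equiv {A B : Type*} [Group A] [Finite A] [Group B] [Finite B] (e : A ≃* B)
    (p : ℕ) [Fact p.Prime] : Nat.card (Sylow p B) = Nat.card (Sylow p A) := by
  obtain ⟨P⟩ : Nonempty (Sylow p A) := Sylow.nonempty
  have hs : Function.Surjective (e : A →* B) := e.surjective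
  rw [(P.mapSurjective hs).card_eq_index_normalizer, P.card_eq_index_normalizer,
    ← Subgroup.index_comap_of_surjective _ hs]
  congr 1
  show Subgroup.comap (e : A →* B) (Subgroup.normalizer
    (((P.mapSurjective hs : Sylow p B) : Subgroup B) : Set B)) = _
  rw [Subgroup.comap_normalizer_eq_of_surjective _ hs, Sylow.coe_mapSurjective,
    Subgroup.comap_map_eq_self_of_injective (f := (e : A →* B)) e.injective]
  rfl

section Deg18

variable {H Ω : Type*} [Group H] [Finite H] [MulAction H Ω] [Fintype Ω]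

/-- The order of a doubly transitive group. -/
theorem card_two_trans (h2 : IsMultiplyPretransitive H Ω 2) {a b : Ω} (hab : a ≠ b) :
    Nat.card H = Fintype.card Ω *
      ((Fintype.card Ω - 1) * Nat.card ↥(stabilizer H a ⊓ stabilizer H b)) := by
  classical
  haveI := h2
  haveI : IsPretransitive H Ω := isPretransitive_of_is_two_pretransitive
  have hidx : ((stabilizer H b).subgroupOf (stabilizer H a)).index = Fintype.card Ω - 1 := by
    have horb : orbit (stabilizer H a) b = {c | c ≠ a} := by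
      ext c
      constructor
      · rintro ⟨k, rfl⟩ h
        exact hab (smul_left_cancel (k : H) ((mem_stabilizer_iff.1 k.2).trans h.symm))
      · intro hc
        obtain ⟨k, hka, hkb⟩ := is_two_pretransitive_iff.1 h2 hab (Ne.symm hc)
        exact ⟨⟨k, hka⟩, hkb⟩
    have : (stabilizer H b).subgroupOf (stabilizer H a) = stabilizer (stabilizer H a) b := by
      ext k; simp [Subgroup.mem_subgroupOf, mem_stabilizer_iff, Subgroup.smul_def]
    rw [this, index_stabilizer, horb, Set.ncard_eq_toFinset_card']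
    simp [filter_ne']
  have h3 : Nat.card ((stabilizer H b).subgroupOf (stabilizer H a)) =
      Nat.card ↥(stabilizer H a ⊓ stabilizer H b) := by
    rw [← Subgroup.inf_subgroupOf_right,
      Nat.card_congr (Subgroup.subgroupOfEquivOfLe inf_le_right).toEquiv, inf_comm]
  have h4 := ((stabilizer H b).subgroupOf (stabilizer H a)).card_mul_index
  rw [hidx, h3, mul_comm] at h4
  rw [← (stabilizer H a).index_mul_card, index_stabilizer_of_transitive, Nat.card_eq_fintype_card,
    h4]

/-- A subgroup acting semiregularly has order dividing the degree. -/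
theorem card_dvd_of_semiregular (C : Subgroup H) (h : ∀ g ∈ C, ∀ x : Ω, g • x = x → g = 1) :
    Nat.card C ∣ Fintype.card Ω := by
  classical
  rw [← Nat.card_eq_fintype_card, Nat.card_congr (selfEquivSigmaOrbits C Ω)]
  have := Fintype.ofFinite (Quotient (orbitRel C Ω))
  rw [Nat.card_sigma]
  refine Finset.dvd_sum fun ω _ => dvd_of_eq ?_
  have h1 := index_stabilizer C ω.out
  rw [show stabilizer C ω.out = ⊥ from (Subgroup.eq_bot_iff_forall _).2
    fun g hg => Subtype.ext (h g g.2 _ hg), Subgroup.index_bot] at h1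
  rw [h1, ← Nat.card_coe_set_eq]

variable [FaithfulSMul H Ω] [IsPretransitive H Ω]

theorem rigid (h18 : Fintype.card Ω = 18) {a : Ω} {U : Subgroup H} (hUa : ∀ u ∈ U, u • a = a)
    (hU : Nat.card U = 17) (hUtr : ∀ b c : Ω, b ≠ a → c ≠ a → ∃ u ∈ U, u • b = c)
    (hUn : ∀ g : H, g • a = a → ∀ u ∈ U, g * u * g⁻¹ ∈ U) :
    ∀ g : H, ∀ x y z : Ω, x ≠ y → y ≠ z → x ≠ z → g • x = x → g • y = y → g • z = z → g = 1 := by
  classical
  haveI : Fact (Nat.Prime 17) := ⟨by norm_num⟩
  have main : ∀ g : H, ∀ b c : Ω, b ≠ a → c ≠ a → b ≠ c → g • a = a → g • b = b → g • c = c →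
      g = 1 := by
    intro g b c hb hc hbc hga hgb hgc
    obtain ⟨u, hu, hub⟩ := hUtr b c hb hc
    -- regularity of `U` away from `a`
    have hsurj : Function.Surjective (fun v : U => (⟨(v : H) • b, fun e =>
        hb (smul_left_cancel (v : H) (e.trans (hUa v v.2).symm))⟩ : {x : Ω // x ≠ a})) := by
      intro x
      obtain ⟨v, hv, hvx⟩ := hUtr b x hb x.2
      exact ⟨⟨v, hv⟩, Subtype.ext hvx⟩
    letI := Fintype.ofFinite U
    have hinj := ((Fintype.bijective_iff_surjective_and_card _).2 ⟨hsurj, by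
      rw [← Nat.card_eq_fintype_card, hU, Fintype.card_subtype_compl, Fintype.card_subtype_eq,
        h18]⟩).1
    have hv : g * u * g⁻¹ ∈ U := hUn g hga u hu
    have hvu : g * u * g⁻¹ = u := by
      have h1 : (g * u * g⁻¹) • b = u • b := by
        rw [mul_smul, mul_smul, inv_smul_eq_iff.2 hgb.symm, hub, hgc]
      exact congrArg Subtype.val (hinj (a₁ := ⟨_, hv⟩) (a₂ := ⟨u, hu⟩) (Subtype.ext h1))
    have hu1 : u ≠ 1 := fun e => hbc (by rw [← hub, e, one_smul])
    have hgen : Subgroup.zpowers (⟨u, hu⟩ : U) = ⊤ :=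
      zpowers_eq_top_of_prime_card hU (fun e => hu1 (congrArg Subtype.val e))
    refine FaithfulSMul.eq_of_smul_eq_smul (α := Ω) fun x => ?_
    rw [one_smul]
    by_cases hx : x = a
    · rw [hx, hga]
    obtain ⟨v, hvU, hvx⟩ := hUtr b x hb hx
    obtain ⟨k, hk⟩ := Subgroup.mem_zpowers_iff.1
      (show (⟨v, hvU⟩ : U) ∈ Subgroup.zpowers (⟨u, hu⟩ : U) from hgen ▸ Subgroup.mem_top _)
    have hk' : u ^ k = v := by simpa using congrArg Subtype.val hk
    have hcomm : g * v = v * g := by
      rw [← hk']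
      exact (Commute.zpow_right (mul_inv_eq_iff_eq_mul.1 hvu) k)
    rw [← hvx, ← mul_smul, hcomm, mul_smul, hgb]
  intro g x y z hxy hyz hxz hgx hgy hgz
  obtain ⟨k, hk⟩ := exists_smul_eq H x a
  have hconj : ∀ w : Ω, g • w = w → (k * g * k⁻¹) • (k • w) = k • w := fun w hw => by
    rw [mul_smul, mul_smul, inv_smul_smul, hw]
  have h1 := main (k * g * k⁻¹) (k • y) (k • z)
    (fun e => hxy (smul_left_cancel k (hk.trans e.symm)))
    (fun e => hxz (smul_left_cancel k (hk.trans e.symm)))
    (fun e => hyz (smul_left_cancel k e)) (hk ▸ hconj x hgx) (hconj y hgy) (hconj z hgz)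
  simpa [mul_inv_eq_one] using h1

theorem isZassenhaus (h18 : Fintype.card Ω = 18) {a : Ω} {U : Subgroup H}
    (hUa : ∀ u ∈ U, u • a = a) (hU : Nat.card U = 17)
    (hUtr : ∀ b c : Ω, b ≠ a → c ≠ a → ∃ u ∈ U, u • b = c)
    (hUn : ∀ g : H, g • a = a → ∀ u ∈ U, g * u * g⁻¹ ∈ U) : Cfsg.IsZassenhausGroup H Ω := by
  classical
  have h2 : IsMultiplyPretransitive H Ω 2 := Perm.isTwoPretransitive_of_stabilizer a
    fun b c hb hc => let ⟨u, hu, h⟩ := hUtr b c hb hc; ⟨u, hUa u hu, h⟩
  haveI : Nontrivial Ω := Fintype.one_lt_card_iff_nontrivial.1 (by omega)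
  have hreg : ∀ N : Subgroup H, N.Normal → IsPretransitive N Ω →
      ∃ x : Ω, stabilizer N x ≠ ⊥ := by
    intro N hN hNt
    by_contra h
    push Not at h
    obtain ⟨p, m, hp, -, hc, -, -, -⟩ := Perm.regular_normal_elementary_abelian h2 h
    rw [Nat.card_eq_fintype_card, h18] at hc
    have e2 := (Nat.prime_dvd_prime_iff_eq Nat.prime_two hp).1
      (Nat.prime_two.dvd_of_dvd_pow (hc ▸ (by norm_num : 2 ∣ 18)))
    have e3 := (Nat.prime_dvd_prime_iff_eq Nat.prime_three hp).1
      (Nat.prime_three.dvd_of_dvd_pow (hc ▸ (by norm_num : 3 ∣ 18)))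
    omega
  refine ⟨inferInstance, h2, rigid h18 hUa hU hUtr hUn, ?_, hreg⟩
  by_contra hno
  push Not at hno
  obtain ⟨b, hba⟩ := exists_ne a
  have hE : stabilizer H a ⊓ stabilizer H b = ⊥ := (Subgroup.eq_bot_iff_forall _).2 fun g hg =>
    by_contra fun hg1 => hno g hg1 a b hba.symm hg.1 hg.2
  have hc := card_two_trans h2 hba.symm
  rw [hE, h18, Subgroup.card_bot] at hc
  haveI : Fact (Nat.Prime 2) := ⟨Nat.prime_two⟩
  obtain ⟨T⟩ : Nonempty (Sylow 2 H) := Sylow.nonempty
  have hT : Nat.card T = 2 := by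
    obtain ⟨k, hk⟩ := T.isPGroup'.exists_card_eq
    have hi : Nat.Coprime 2 (T : Subgroup H).index :=
      (Nat.Prime.coprime_iff_not_dvd Nat.prime_two).2 T.not_dvd_index
    refine eq_of_mul_eq_mul_coprime (b := (T : Subgroup H).index) (e := 153)
      ((T : Subgroup H).card_mul_index.trans hc) ?_ hi
    rw [hk]
    exact Nat.Coprime.pow_left k (by norm_num)
  haveI hcyc : IsCyclic T := isCyclic_of_prime_card hT
  have hmin : (Nat.card H).minFac = 2 := by rw [hc]; norm_num
  have hM := (IsCyclic.isComplement' hmin hcyc).card_mul_card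
  set M := (MonoidHom.transferSylow T (hcyc.normalizer_le_centralizer hmin)).ker
  rw [hT, hc] at hM
  have hMne : M ≠ ⊥ := fun e => by rw [e, Subgroup.card_bot] at hM; omega
  haveI := Perm.Zass.normal_transitive h2 M hMne
  have h18M : 18 ∣ Nat.card M := by
    rw [← h18, ← Nat.card_eq_fintype_card, ← index_stabilizer_of_transitive M a]
    exact Subgroup.index_dvd_card _
  omega

theorem card_twoStab (hZ : Cfsg.IsZassenhausGroup H Ω) (h18 : Fintype.card Ω = 18) {a b : Ω}
    (hab : a ≠ b) : (Nat.card ↥(stabilizer H a ⊓ stabilizer H b) = 8 ∨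
      Nat.card ↥(stabilizer H a ⊓ stabilizer H b) = 16) := by
  have h1 := ZassEven.card_stab_dvd hZ hab
  have h2 : 1 < Nat.card ↥(stabilizer H a ⊓ stabilizer H b) :=
    ZassenhausOdd.twoStab_nontrivial hZ hab
  rw [h18] at h1
  obtain ⟨d, hd⟩ : ∃ d, d = Nat.card ↥(stabilizer H a ⊓ stabilizer H b) := ⟨_, rfl⟩
  rw [← hd] at h1 h2 ⊢
  have hm : d ∈ Nat.divisors 16 := Nat.mem_divisors.2 ⟨by simpa using h1, by norm_num⟩
  rw [show Nat.divisors 16 = {1, 2, 4, 8, 16} by decide] at hm
  simp only [Finset.mem_insert, Finset.mem_singleton] at hm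
  have heven : Even (Nat.card ↥(stabilizer H a ⊓ stabilizer H b)) := by
    rw [← hd]
    rcases hm with h | h | h | h | h
    · omega
    all_goals exact ⟨d / 2, by omega⟩
  have h3 := Perm.Zass.degree_le_of_even hZ hab heven
  rw [h18, ← hd] at h3
  omega

/-- The group is `PSL_2` or `PGL_2`. -/
theorem recognise (hZ : Cfsg.IsZassenhausGroup H Ω) (h18 : Fintype.card Ω = 18)
    {F : Type*} [Field F] [Fintype F] (hF : Fintype.card F = 17) :
    Nonempty (H ≃* PSL(2, F)) ∨ Nonempty (H ≃* PGL(2, F)) := by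
  classical
  haveI := Fintype.ofFinite H
  obtain ⟨a, b, hab⟩ := Fintype.exists_pair_of_one_lt_card (α := Ω) (by omega)
  have hcard := card_two_trans hZ.2.1 hab
  rw [h18] at hcard
  rcases card_twoStab hZ h18 hab with hd | hd
  · left
    haveI : Nontrivial H := (Finite.one_lt_card_iff_nontrivial).1 (by rw [hcard, hd]; norm_num)
    haveI : IsSimpleGroup H := by
      refine ⟨fun N hN => ?_⟩
      by_cases hNb : N = ⊥
      · exact Or.inl hNb
      haveI := hN
      have hZN := Perm.Zass.normal_isZassenhausGroup hZ N hNb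
      haveI := Perm.Zass.normal_transitive hZ.2.1 N hNb
      haveI : FaithfulSMul N Ω := hZN.1
      have hle : Nat.card ↥(stabilizer N a ⊓ stabilizer N b) ≤
          Nat.card ↥(stabilizer H a ⊓ stabilizer H b) :=
        Nat.card_le_card_of_injective
          (fun g => (⟨((g : N) : H), g.2.1, g.2.2⟩ : ↥(stabilizer H a ⊓ stabilizer H b)))
          (fun g g' e => Subtype.ext (Subtype.ext (by simpa using congrArg Subtype.val e)))
      have hNc := card_two_trans hZN.2.1 hab
      rw [h18] at hNc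
      refine Or.inr (Subgroup.eq_top_of_card_eq N ?_)
      rcases card_twoStab hZN h18 hab with h | h
      · rw [hNc, hcard, h, hd]
      · rw [h, hd] at hle; omega
    obtain ⟨K, _, _, -, hK, ⟨e⟩⟩ :=
      PSL2.Recog.psl_of_even_stab hZ hab (by rw [hd]; decide)
    exact ⟨e.trans (PSL2.pslCongr (FiniteField.ringEquivOfCardEq (by omega)))⟩
  · right
    have hfree : ∀ x y z w : Ω, x ≠ y → z ≠ x → z ≠ y → w ≠ x → w ≠ y →
        ∃ g : H, g • x = x ∧ g • y = y ∧ g • z = w := by
      intro x y z w hxy hzx hzy hwx hwy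
      letI := Fintype.ofFinite ↥(stabilizer H x ⊓ stabilizer H y)
      let f : ↥(stabilizer H x ⊓ stabilizer H y) → {t : Ω // t ≠ x ∧ t ≠ y} := fun g =>
        ⟨(g : H) • z, fun e => hzx (smul_left_cancel (g : H) (e.trans g.2.1.symm)),
          fun e => hzy (smul_left_cancel (g : H) (e.trans g.2.2.symm))⟩
      have hinj : Function.Injective f := fun g g' e => by
        have e' : (g : H) • z = (g' : H) • z := congrArg Subtype.val e
        refine Subtype.ext (inv_mul_eq_one.1 (Perm.Zass.eq_one_of_three hZ hxy (Ne.symm hzy)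
          (Ne.symm hzx) ?_ ?_ ?_)).symm
        · rw [mul_smul, show (g : H) • x = x from g.2.1, inv_smul_eq_iff]
          exact g'.2.1.symm
        · rw [mul_smul, show (g : H) • y = y from g.2.2, inv_smul_eq_iff]
          exact g'.2.2.symm
        · rw [mul_smul, e', inv_smul_smul]
      have hEc : Nat.card ↥(stabilizer H x ⊓ stabilizer H y) = 16 := by
        rw [← hd]; exact ZassenhausOdd.card_twoStab_eq hZ hab hxy
      have hTc : Fintype.card {t : Ω // t ≠ x ∧ t ≠ y} = 16 := by
        rw [Fintype.card_subtype, show (univ.filter fun t : Ω => t ≠ x ∧ t ≠ y) =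
          (univ.erase x).erase y by ext t; simp [and_comm], card_erase_of_mem (by simp [hxy.symm]),
          card_erase_of_mem (mem_univ x), card_univ, h18]
      obtain ⟨g, hg⟩ := ((Fintype.bijective_iff_injective_and_card f).2 ⟨hinj, by
        rw [hTc, ← hEc, Nat.card_eq_fintype_card]⟩).2 ⟨w, hwx, hwy⟩
      exact ⟨g, g.2.1, g.2.2, congrArg Subtype.val hg⟩
    have h3 : IsMultiplyPretransitive H Ω 3 := by
      refine ⟨fun x y => ?_⟩
      obtain ⟨k, hk0, hk1⟩ := Perm.Zass.two_trans hZ
        (x.injective.ne (show (0 : Fin 3) ≠ 1 by decide))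
        (y.injective.ne (show (0 : Fin 3) ≠ 1 by decide))
      obtain ⟨g, hg0, hg1, hg2⟩ := hfree (y 0) (y 1) (k • x 2) (y 2)
        (y.injective.ne (by decide))
        (by rw [← hk0]; exact fun e => x.injective.ne (show (2 : Fin 3) ≠ 0 by decide) (smul_left_cancel k e))
        (by rw [← hk1]; exact fun e => x.injective.ne (show (2 : Fin 3) ≠ 1 by decide) (smul_left_cancel k e))
        (y.injective.ne (by decide)) (y.injective.ne (by decide))
      refine ⟨g * k, ?_⟩
      ext i
      fin_cases i <;> simp [mul_smul, hk0, hk1, hg0, hg1, hg2]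
    have hsharp : ∀ x : Fin 3 ↪ Ω, stabilizer H x = ⊥ := by
      intro x
      refine (Subgroup.eq_bot_iff_forall _).2 fun g hg => ?_
      have hg' : ∀ i, g • x i = x i := fun i => by
        conv_rhs => rw [← mem_stabilizer_iff.1 hg]
        rfl
      exact Perm.Zass.eq_one_of_three hZ (x.injective.ne (show (0 : Fin 3) ≠ 1 by decide))
        (x.injective.ne (show (1 : Fin 3) ≠ 2 by decide))
        (x.injective.ne (show (0 : Fin 3) ≠ 2 by decide)) (hg' 0) (hg' 1) (hg' 2)
    obtain ⟨K, _, _, hK, ⟨e⟩⟩ := Perm.pgl_of_sharply_three h3 hsharp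
      (p := 17) (f := 1) (by norm_num) (by norm_num) odd_one (by rw [h18]; norm_num)
    exact ⟨e.trans (PSL2.pglCongr (FiniteField.ringEquivOfCardEq (by omega)))⟩

/-- A Sylow 2-subgroup is the setwise stabiliser of a pair, and self-normalising. -/
theorem card_sylow_two (hZ : Cfsg.IsZassenhausGroup H Ω) (h18 : Fintype.card Ω = 18) :
    Nat.card (Sylow 2 H) = 153 := by
  classical
  haveI := Fintype.ofFinite H
  haveI : Fact (Nat.Prime 2) := ⟨Nat.prime_two⟩
  obtain ⟨a, b, hab⟩ := Fintype.exists_pair_of_one_lt_card (α := Ω) (by omega)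
  have hcard := card_two_trans hZ.2.1 hab
  rw [h18] at hcard
  set E := stabilizer H a ⊓ stabilizer H b with hE
  obtain ⟨k, hk3, hk⟩ : ∃ k, 3 ≤ k ∧ Nat.card E = 2 ^ k := by
    rcases card_twoStab hZ h18 hab with h | h
    · exact ⟨3, le_rfl, h⟩
    · exact ⟨4, by norm_num, h⟩
  have hEp : IsPGroup 2 E := IsPGroup.of_card hk
  obtain ⟨T, hET⟩ := hEp.exists_le_sylow
  obtain ⟨l, hl⟩ := T.isPGroup'.exists_card_eq
  have hTc : Nat.card T = 2 ^ (k + 1) := by
    refine eq_of_mul_eq_mul_coprime (b := (T : Subgroup H).index) (e := 153) ?_ ?_ ?_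
    · rw [(T : Subgroup H).card_mul_index, hcard, hk, pow_succ]; ring
    · rw [hl]; exact Nat.Coprime.pow_left l (by norm_num)
    · exact Nat.Coprime.pow_left _ ((Nat.Prime.coprime_iff_not_dvd Nat.prime_two).2 T.not_dvd_index)
  have hidx : (E.subgroupOf (T : Subgroup H)).index = 2 := by
    have h := (E.subgroupOf (T : Subgroup H)).card_mul_index
    rw [Nat.card_congr (Subgroup.subgroupOfEquivOfLe hET).toEquiv, hk, hTc, pow_succ] at h
    exact Nat.eq_of_mul_eq_mul_left (by positivity) h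
  haveI hEn := Subgroup.normal_of_index_eq_two hidx
  -- an element of `E` whose square is not trivial
  obtain ⟨e, he, he2⟩ : ∃ e ∈ E, e * e ≠ 1 := by
    by_contra hno
    push Not at hno
    have hsub : (univ.filter fun g : H => g ∈ E).card ≤ 2 := by
      rcases Finset.eq_empty_or_nonempty ((univ.filter fun g : H => g ∈ E).erase 1) with h | ⟨z, hz⟩
      · have := Finset.card_erase_of_mem (a := (1 : H)) (s := univ.filter fun g : H => g ∈ E)
          (by simp [E.one_mem])
        rw [h, card_empty] at this; omega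
      · refine le_trans (card_le_card (t := ({1, z} : Finset H)) fun g hg => ?_) card_le_two
        simp only [mem_erase, mem_filter, mem_univ, true_and] at hz hg
        by_cases hg1 : g = 1
        · simp [hg1]
        · have := Perm.Zass.involution_unique hZ hab (z := z) (z' := g)
            (orderOf_eq_prime (by rw [pow_two]; exact hno z hz.2) hz.1) hz.2.1 hz.2.2
            (orderOf_eq_prime (by rw [pow_two]; exact hno g hg) hg1) hg.1 hg.2
          simp [this]
    have hc : Nat.card E = (univ.filter fun g : H => g ∈ E).card := by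
      rw [← Fintype.card_subtype, ← Nat.card_eq_fintype_card]
    have : 2 ^ 3 ≤ 2 ^ k := Nat.pow_le_pow_right (by norm_num) hk3
    omega
  have hfix : ∀ x : Ω, (e * e) • x = x → x = a ∨ x = b := by
    intro x hx
    by_contra h
    push Not at h
    exact he2 (Perm.Zass.eq_one_of_three hZ hab (Ne.symm h.2) (Ne.symm h.1)
      (E.mul_mem he he).1 (E.mul_mem he he).2 hx)
  -- `T` preserves the pair
  have hT : ∀ t ∈ (T : Subgroup H), (t • a = a ∧ t • b = b) ∨ (t • a = b ∧ t • b = a) := by
    intro t ht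
    have hc : ∀ x : Ω, (∀ g ∈ E, g • x = x) → ∀ g ∈ E, g • (t • x) = t • x := by
      intro x hx g hg
      have h1 : t⁻¹ * g * t ∈ E := by
        have := hEn.conj_mem ⟨g, hET hg⟩ hg ⟨t⁻¹, inv_mem ht⟩
        simpa [Subgroup.mem_subgroupOf] using this
      calc g • t • x = t • ((t⁻¹ * g * t) • x) := by simp only [mul_smul, smul_inv_smul]
        _ = t • x := by rw [hx _ h1]
    have ha := hfix _ (hc a (fun g hg => hg.1) _ (E.mul_mem he he))
    have hb := hfix _ (hc b (fun g hg => hg.2) _ (E.mul_mem he he))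
    have hne : t • a ≠ t • b := fun h => hab (smul_left_cancel t h)
    rcases ha with ha | ha <;> rcases hb with hb | hb
    · exact absurd (ha.trans hb.symm) hne
    · exact Or.inl ⟨ha, hb⟩
    · exact Or.inr ⟨ha, hb⟩
    · exact absurd (ha.trans hb.symm) hne
  obtain ⟨t, ht, hta, htb⟩ : ∃ t ∈ (T : Subgroup H), t • a = b ∧ t • b = a := by
    by_contra hno
    have hle : (T : Subgroup H) ≤ E := fun t ht =>
      (hT t ht).resolve_right fun h => hno ⟨t, ht, h⟩
    have := Subgroup.card_le_of_le hle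
    rw [hTc, hk, pow_succ] at this
    have : 0 < 2 ^ k := by positivity
    omega
  have hN : Subgroup.normalizer ((T : Subgroup H) : Set H) = T := by
    refine le_antisymm (fun g hg => ?_) Subgroup.le_normalizer
    have hpair : ∀ x : Ω, x = a ∨ x = b → g • x = a ∨ g • x = b := by
      intro x hx
      have h1 : g⁻¹ * e * g ∈ (T : Subgroup H) := by
        have := (Subgroup.mem_normalizer_iff.1 (inv_mem hg) e).1 (hET he)
        simpa using this
      refine hfix _ ?_
      have h2 : g⁻¹ * (e * e) * g = (g⁻¹ * e * g) * (g⁻¹ * e * g) := by group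
      have h3 : ((g⁻¹ * e * g) * (g⁻¹ * e * g)) • x = x := by
        rcases hT _ h1 with h | h <;> rcases hx with rfl | rfl <;> simp [mul_smul, h.1, h.2]
      calc (e * e) • g • x = g • ((g⁻¹ * (e * e) * g) • x) := by
            simp only [mul_smul, smul_inv_smul]
        _ = g • x := by rw [h2, h3]
    have hne : g • a ≠ g • b := fun h => hab (smul_left_cancel g h)
    rcases hpair a (Or.inl rfl) with ha | ha <;> rcases hpair b (Or.inr rfl) with hb | hb
    · exact absurd (ha.trans hb.symm) hne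
    · exact hET ⟨ha, hb⟩
    · have : t * g ∈ E := ⟨by show (t * g) • a = a; rw [mul_smul, ha, htb],
        by show (t * g) • b = b; rw [mul_smul, hb, hta]⟩
      exact (Subgroup.mul_mem_cancel_left _ ht).1 (hET this)
    · exact absurd (ha.trans hb.symm) hne
  rw [T.card_eq_index_normalizer]
  show (Subgroup.normalizer ((T : Subgroup H) : Set H)).index = 153
  rw [hN]
  have h := (T : Subgroup H).card_mul_index
  rw [hTc, hcard, hk, pow_succ] at h
  have h' : 2 ^ k * 2 * (T : Subgroup H).index = 2 ^ k * 2 * 153 := h.trans (by ring)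
  exact Nat.eq_of_mul_eq_mul_left (by positivity) h'

/-- An element of order 9 forces 136 Sylow 3-subgroups. -/
theorem card_sylow_three (hZ : Cfsg.IsZassenhausGroup H Ω) (h18 : Fintype.card Ω = 18) {x : H}
    (hx : orderOf x = 9) (hn : Nat.card (Sylow 3 H) ∣ 136) : Nat.card (Sylow 3 H) = 136 := by
  classical
  haveI : Fact (Nat.Prime 3) := ⟨Nat.prime_three⟩
  obtain ⟨a, b, hab⟩ := Fintype.exists_pair_of_one_lt_card (α := Ω) (by omega)
  have hcard := card_two_trans hZ.2.1 hab
  rw [h18] at hcard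
  set d := Nat.card ↥(stabilizer H a ⊓ stabilizer H b) with hdd
  have hd := card_twoStab hZ h18 hab
  rw [← hdd] at hd
  have hxp : IsPGroup 3 (Subgroup.zpowers x) :=
    IsPGroup.of_card (n := 2) (by rw [Nat.card_zpowers, hx]; norm_num)
  obtain ⟨S, hxS⟩ := hxp.exists_le_sylow
  obtain ⟨l, hl⟩ := S.isPGroup'.exists_card_eq
  have hSc : Nat.card S = 9 := by
    refine eq_of_mul_eq_mul_coprime (b := (S : Subgroup H).index) (e := 34 * d) ?_ ?_ ?_
    · rw [(S : Subgroup H).card_mul_index, hcard]; ring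
    · rw [hl]; refine Nat.Coprime.pow_left l ?_
      rcases hd with h | h <;> rw [h] <;> decide
    · exact Nat.Coprime.pow_left 2 ((Nat.Prime.coprime_iff_not_dvd Nat.prime_three).2 S.not_dvd_index)
  have hSx : Subgroup.zpowers x = (S : Subgroup H) :=
    Subgroup.eq_of_le_of_card_ge hxS (by rw [Nat.card_zpowers, hx, hSc])
  -- powers of `x` are free of fixed points
  have hfree : ∀ (y : Ω) (i : ℕ), x ^ i • y = y → 9 ∣ i := by
    intro y i hi
    haveI := hZ.2.1
    haveI : IsPretransitive H Ω := isPretransitive_of_is_two_pretransitive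
    have hs : Nat.card (stabilizer H y) = 17 * d := by
      have h := (stabilizer H y).index_mul_card
      rw [index_stabilizer_of_transitive, Nat.card_eq_fintype_card, h18, hcard] at h
      exact Nat.eq_of_mul_eq_mul_left (by norm_num) (h.trans (by ring))
    have h1 : orderOf (x ^ i) ∣ 17 * d := hs ▸ Subgroup.orderOf_dvd_natCard _ hi
    have h2 : orderOf (x ^ i) ∣ 9 := hx ▸ orderOf_pow_dvd i
    have h3 : orderOf (x ^ i) = 1 := Nat.eq_one_of_dvd_coprimes
      (show Nat.Coprime 9 (17 * d) by rcases hd with h | h <;> rw [h] <;> decide) h2 h1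
    rw [← hx]
    exact orderOf_dvd_of_pow_eq_one (orderOf_eq_one_iff.1 h3)
  have hC : ∀ g ∈ Subgroup.centralizer ((S : Subgroup H) : Set H), ∀ y : Ω, g • y = y → g = 1 := by
    intro g hg y hy
    have hgx : g * x = x * g :=
      (Subgroup.mem_centralizer_iff.1 hg x (hxS (Subgroup.mem_zpowers x))).symm
    have h1 : g • x • y = x • y := by rw [← mul_smul, hgx, mul_smul, hy]
    refine Perm.Zass.eq_one_of_three hZ (b := x • y) (c := x • x • y) ?_ ?_ ?_ hy h1
      (by rw [← mul_smul g, hgx, mul_smul, h1])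
    · intro e; exact absurd (hfree y 1 (by rw [pow_one]; exact e.symm)) (by norm_num)
    · intro e; exact absurd (hfree y 1 (by rw [pow_one]; exact (smul_left_cancel x e).symm)) (by norm_num)
    · intro e; exact absurd (hfree y 2 (by rw [pow_two, mul_smul]; exact e.symm)) (by norm_num)
  have hCc := card_dvd_of_semiregular _ hC
  rw [h18] at hCc
  haveI : IsCyclic (S : Subgroup H) := by rw [← hSx]; infer_instance
  have hNdvd : Nat.card (Subgroup.normalizer ((S : Subgroup H) : Set H)) ∣ 108 := by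
    have hk := Subgroup.card_dvd_of_injective _
      (QuotientGroup.kerLift_injective (S : Subgroup H).normalizerMonoidHom)
    rw [IsCyclic.card_mulAut, hSc, show Nat.totient 9 = 6 by decide,
      ← Subgroup.index_eq_card] at hk
    rw [← (S : Subgroup H).normalizerMonoidHom.ker.card_mul_index,
      show (108 : ℕ) = 18 * 6 by norm_num]
    refine Nat.mul_dvd_mul ?_ hk
    rw [Subgroup.normalizerMonoidHom_ker,
      Nat.card_congr (Subgroup.subgroupOfEquivOfLe (Subgroup.centralizer_le_normalizer _)).toEquiv]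
    exact hCc
  have h := (Subgroup.normalizer ((S : Subgroup H) : Set H)).index_mul_card
  rw [show (Subgroup.normalizer ((S : Subgroup H) : Set H)).index = Nat.card (Sylow 3 H) from
    S.card_eq_index_normalizer.symm, hcard] at h
  obtain ⟨c, hc⟩ := hNdvd
  have hm : Nat.card (Sylow 3 H) ∈ Nat.divisors 136 := Nat.mem_divisors.2 ⟨hn, by norm_num⟩
  have hmod : Nat.card (Sylow 3 H) % 3 = 1 := card_sylow_modEq_one 3 H
  rw [show Nat.divisors 136 = {1, 2, 4, 8, 17, 34, 68, 136} by decide] at hm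
  simp only [Finset.mem_insert, Finset.mem_singleton] at hm
  set n := Nat.card (Sylow 3 H)
  set N := Nat.card (Subgroup.normalizer ((S : Subgroup H) : Set H))
  have hN0 : N ∈ Nat.divisors 108 := Nat.mem_divisors.2 ⟨⟨c, hc⟩, by norm_num⟩
  rw [show Nat.divisors 108 = {1, 2, 3, 4, 6, 9, 12, 18, 27, 36, 54, 108} by decide] at hN0
  simp only [Finset.mem_insert, Finset.mem_singleton] at hN0
  clear hc
  rcases hm with e | e | e | e | e | e | e | e <;> rw [e] at h hmod ⊢ <;>
    omega

end Deg18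

/-- A matrix whose image has order 9. -/
def matNine : SL(2, ZMod 17) := ⟨!![7, -1; 1, 0], by decide⟩

theorem matNine_pow : (matNine ^ 9 = 1 ∨ matNine ^ 9 = -1) ∧
    ¬ (matNine ^ 3 = 1 ∨ matNine ^ 3 = -1) := by
  decide +kernel

/-- An element of order 9 of `PSL_2 F` for `|F| = 17`. -/
theorem exists_order_nine {F : Type*} [Field F] [Fintype F] (hF : Fintype.card F = 17) :
    ∃ x : PSL(2, F), orderOf x = 9 := by
  haveI : Fact (Nat.Prime 3) := ⟨Nat.prime_three⟩
  haveI : Fact (Nat.Prime 17) := ⟨by norm_num⟩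
  let f : ZMod 17 →+* F := (FiniteField.ringEquivOfCardEq (by rw [ZMod.card, hF]) : ZMod 17 ≃+* F)
  obtain ⟨h9, h3⟩ := matNine_pow
  refine ⟨PSL2.pslMap f (PSL2.mk matNine), ?_⟩
  rw [orderOf_injective _ (PSL2.pslMap_injective f)]
  refine orderOf_eq_prime_pow (p := 3) (n := 1) ?_ ?_
  · rw [pow_one, ← map_pow, PSL2.mk_eq_one]; exact h3
  · rw [← map_pow, PSL2.mk_eq_one]; exact h9


/-- Let G be a finite group with trivial centre whose set of Sylow numbers (numbers of Sylow r-subgroups, r over the prime divisors of its order) is exactly {18, 136, 153}. Then G is isomorphic to PSL(2, 17) or to PGL(2, 17). -/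
theorem result {G : Type*} [Group G] [Finite G] (hZ : Subgroup.center G = ⊥) (hNS : {c : ℕ | ∃ r : ℕ, r.Prime ∧ r ∣ Nat.card G ∧ c = Nat.card (Sylow r G)} = ({18, 136, 153} : Set ℕ))
    {F : Type*} [Field F] [Fintype F] (hF : Fintype.card F = 17) :
    Nonempty (G ≃* Matrix.ProjectiveSpecialLinearGroup (Fin 2) F) ∨ Nonempty (G ≃* (GL (Fin 2) F ⧸ Subgroup.center (GL (Fin 2) F))) := by
  classical
  haveI : Fact (Nat.Prime 17) := ⟨by norm_num⟩
  haveI : Fact (Nat.Prime 2) := ⟨Nat.prime_two⟩
  haveI : Fact (Nat.Prime 3) := ⟨Nat.prime_three⟩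
  -- the possible values
  have hmem : ∀ r : ℕ, r.Prime → r ∣ Nat.card G → Nat.card (Sylow r G) = 18 ∨
      Nat.card (Sylow r G) = 136 ∨ Nat.card (Sylow r G) = 153 := by
    intro r hr hrd
    have h : Nat.card (Sylow r G) ∈ ({18, 136, 153} : Set ℕ) := hNS ▸ ⟨r, hr, hrd, rfl⟩
    simpa using h
  have hex : ∀ c ∈ ({18, 136, 153} : Set ℕ), ∃ r : ℕ, r.Prime ∧ r ∣ Nat.card G ∧
      c = Nat.card (Sylow r G) := fun c hc => by rw [← hNS] at hc; exact hc
  have hmod : ∀ r : ℕ, r.Prime → Nat.card (Sylow r G) % r = 1 % r := fun r hr =>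
    haveI := Fact.mk hr
    card_sylow_modEq_one r G
  have hdvd : ∀ r : ℕ, r.Prime → Nat.card (Sylow r G) ∣ Nat.card G := fun r hr => by
    haveI := Fact.mk hr
    obtain ⟨P⟩ : Nonempty (Sylow r G) := Sylow.nonempty
    rw [P.card_eq_index_normalizer]
    exact Subgroup.index_dvd_card _
  obtain ⟨r₀, hr₀, hr₀d, hr₀c⟩ := hex 18 (by simp)
  have h17 : r₀ = 17 := by
    have h := hmod r₀ hr₀
    rw [← hr₀c] at h
    have h' : r₀ ∣ 17 := (Nat.modEq_iff_dvd' (by norm_num : 1 ≤ 18)).1 (Eq.symm h)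
    exact (Nat.prime_dvd_prime_iff_eq hr₀ (by norm_num)).1 h'
  subst h17
  have h2d : 2 ∣ Nat.card G := (show 2 ∣ 18 by norm_num).trans (hr₀c ▸ hdvd 17 hr₀)
  have h3d : 3 ∣ Nat.card G := (show 3 ∣ 18 by norm_num).trans (hr₀c ▸ hdvd 17 hr₀)
  have hn2 : Nat.card (Sylow 2 G) = 153 := by
    have h := hmod 2 Nat.prime_two
    rcases hmem 2 Nat.prime_two h2d with e | e | e <;> rw [e] at h ⊢ <;> omega
  have hn3 : Nat.card (Sylow 3 G) = 136 := by
    have h := hmod 3 Nat.prime_three
    rcases hmem 3 Nat.prime_three h3d with e | e | e <;> rw [e] at h ⊢ <;> omega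
  -- the action on the Sylow 17-subgroups
  letI := Fintype.ofFinite (Sylow 17 G)
  have h18 : Fintype.card (Sylow 17 G) = 18 := by rw [← Nat.card_eq_fintype_card, ← hr₀c]
  set φ := MulAction.toPermHom G (Sylow 17 G) with hφ
  obtain ⟨P⟩ : Nonempty (Sylow 17 G) := Sylow.nonempty
  set U := (P : Subgroup G).map φ.rangeRestrict with hUdef
  have hsmul : ∀ (g : G) (Q : Sylow 17 G), φ.rangeRestrict g • Q = g • Q := fun g Q => rfl
  haveI : MulAction.IsPretransitive φ.range (Sylow 17 G) := ⟨fun Q Q' => by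
    obtain ⟨g, hg⟩ := MulAction.exists_smul_eq G Q Q'
    exact ⟨φ.rangeRestrict g, hg⟩⟩
  haveI : FaithfulSMul φ.range (Sylow 17 G) :=
    ⟨fun {g g'} h => Subtype.ext (Equiv.ext fun Q => h Q)⟩
  have hUa : ∀ u ∈ U, u • P = P := by
    rintro _ ⟨u, hu, rfl⟩
    rw [hsmul]
    exact SmallSimple.smul_sylow_eq_iff.2 (Subgroup.le_normalizer hu)
  -- `P` is transitive on the others
  have hPtr : ∀ Q R : Sylow 17 G, Q ≠ P → R ≠ P → ∃ u ∈ (P : Subgroup G), u • Q = R := by
    intro Q R hQ hR
    have horb : ∀ Q : Sylow 17 G, Q ≠ P → MulAction.orbit (P : Subgroup G) Q = {S | S ≠ P} := by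
      intro Q hQ
      have hsub : MulAction.orbit (P : Subgroup G) Q ⊆ {S | S ≠ P} := by
        rintro _ ⟨u, rfl⟩ h
        exact hQ (smul_left_cancel (u : G)
          ((show (u : G) • Q = P from h).trans
            (SmallSimple.smul_sylow_eq_iff.2 (Subgroup.le_normalizer u.2)).symm))
      have hcard : ({S | S ≠ P} : Set (Sylow 17 G)).ncard = 17 := by
        rw [Set.ncard_eq_toFinset_card']
        simp [Finset.filter_ne', h18]
      refine Set.eq_of_subset_of_ncard_le hsub ?_ (Set.toFinite _)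
      have hle := Set.ncard_le_ncard hsub (Set.toFinite _)
      have hi := MulAction.index_stabilizer (P : Subgroup G) Q
      obtain ⟨k, hk⟩ := P.isPGroup'.index (MulAction.stabilizer (P : Subgroup G) Q)
      rw [hk] at hi
      rw [hcard, ← hi]
      rcases k with _ | k
      · exfalso
        refine hQ (Sylow.ext (Subgroup.eq_of_le_of_card_ge (fun u hu => ?_)
          (le_of_eq (Q.card_eq_multiplicity.trans P.card_eq_multiplicity.symm))).symm)
        have htop : MulAction.stabilizer (P : Subgroup G) Q = ⊤ :=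
          Subgroup.index_eq_one.1 (by rw [hk, pow_zero])
        exact SmallSimple.mem_of_smul_sylow_eq hu
          (show (⟨u, hu⟩ : (P : Subgroup G)) ∈ MulAction.stabilizer (P : Subgroup G) Q from
            htop ▸ Subgroup.mem_top _)
      · calc (17 : ℕ) = 17 ^ 1 := (pow_one _).symm
          _ ≤ 17 ^ (k + 1) := Nat.pow_le_pow_right (by norm_num) (by omega)
    obtain ⟨u, hu⟩ : R ∈ MulAction.orbit (P : Subgroup G) Q := by rw [horb Q hQ]; exact hR
    exact ⟨u, u.2, hu⟩
  have hUtr : ∀ Q R : Sylow 17 G, Q ≠ P → R ≠ P → ∃ u ∈ U, u • Q = R := by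
    intro Q R hQ hR
    obtain ⟨u, hu, h⟩ := hPtr Q R hQ hR
    exact ⟨φ.rangeRestrict u, Subgroup.mem_map_of_mem _ hu, h⟩
  have hU : Nat.card U = 17 := by
    obtain ⟨k, hk⟩ := (P.isPGroup'.map φ.rangeRestrict).exists_card_eq
    rw [← hUdef] at hk
    have h1 : Nat.card U ∣ Nat.factorial 18 := by
      refine (Subgroup.card_subgroup_dvd_card U).trans ((Subgroup.card_subgroup_dvd_card φ.range).trans ?_)
      rw [Nat.card_perm, Nat.card_eq_fintype_card, h18]
    rw [hk] at h1 ⊢
    rcases k with _ | _ | k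
    · exfalso
      obtain ⟨Q, hQ⟩ := Fintype.exists_ne_of_one_lt_card (by omega : 1 < Fintype.card (Sylow 17 G)) P
      obtain ⟨R, hR⟩ : ∃ R, R ∉ ({P, Q} : Finset (Sylow 17 G)) :=
        (Finset.exists_mem_notMem_of_card_lt_card (t := Finset.univ) (by rw [Finset.card_pair hQ.symm, Finset.card_univ, h18]; norm_num)).imp fun _ h => h.2
      simp at hR
      obtain ⟨u, hu, huQ⟩ := hUtr Q R hQ hR.1
      have hUb : U = ⊥ := Subgroup.card_eq_one.1 (by rw [hk, pow_zero])
      rw [hUb] at hu
      rw [Subgroup.mem_bot.1 hu, one_smul] at huQ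
      exact hR.2 huQ.symm
    · norm_num
    · exfalso
      have : 17 ^ 2 ∣ Nat.factorial 18 := (Nat.pow_dvd_pow 17 (by omega)).trans h1
      norm_num [Nat.factorial] at this
  have hUn : ∀ g : φ.range, g • P = P → ∀ u ∈ U, g * u * g⁻¹ ∈ U := by
    intro g hg u hu
    obtain ⟨g₀, rfl⟩ := φ.rangeRestrict_surjective g
    obtain ⟨u₀, hu₀, rfl⟩ := hu
    rw [hsmul] at hg
    refine ⟨g₀ * u₀ * g₀⁻¹, ?_, by simp only [map_mul, map_inv]⟩
    exact (Subgroup.mem_normalizer_iff.1 (SmallSimple.smul_sylow_eq_iff.1 hg) u₀).1 hu₀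
  have hZas := isZassenhaus h18 hUa hU hUtr hUn
  have hiso := recognise hZas h18 hF
  obtain ⟨x, hx⟩ : ∃ x : φ.range, orderOf x = 9 := by
    obtain ⟨y, hy⟩ := exists_order_nine hF
    rcases hiso with ⟨⟨e⟩⟩ | ⟨⟨e⟩⟩
    · exact ⟨e.symm y, by rw [MulEquiv.orderOf_eq, hy]⟩
    · exact ⟨e.symm (PSL2.pslTwist 1 y),
        by rw [MulEquiv.orderOf_eq, orderOf_injective _ (PSL2.pslTwist_injective 1), hy]⟩
  -- the kernel normalizes every Sylow subgroup
  set K := φ.ker with hK
  have hquot : ∀ (r : ℕ) [Fact r.Prime], Nat.card (Sylow r (G ⧸ K)) = Nat.card (Sylow r φ.range) :=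
    fun r _ => (card_sylow_equiv (QuotientGroup.quotientKerEquivRange φ) r).symm
  have hnorm : ∀ r : ℕ, r = 2 ∨ r = 3 ∨ r = 17 → ∀ S : Sylow r G,
      K ≤ Subgroup.normalizer ((S : Subgroup G) : Set G) := by
    intro r hr
    have h17 : ∀ S : Sylow 17 G, K ≤ Subgroup.normalizer ((S : Subgroup G) : Set G) := by
      intro S k hk
      rw [← SmallSimple.smul_sylow_eq_iff]
      have := congrArg (fun f : Equiv.Perm (Sylow 17 G) => f S) (MonoidHom.mem_ker.1 hk)
      simpa [hφ] using this
    rcases hr with rfl | rfl | rfl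
    · intro S
      have h := SylowCount.card_sylow_eq S K
      rw [hn2, hquot, card_sylow_two hZas h18] at h
      exact Subgroup.relIndex_eq_one.1 (by omega)
    · intro S
      have h := SylowCount.card_sylow_eq S K
      rw [hn3, hquot] at h
      rw [card_sylow_three hZas h18 hx ⟨_, h⟩] at h
      exact Subgroup.relIndex_eq_one.1 (by omega)
    · exact h17
  -- only the primes 2, 3, 17
  have hHcard : ∀ r : ℕ, r.Prime → r ∣ Nat.card φ.range → r = 2 ∨ r = 3 ∨ r = 17 := by
    intro r hr hrd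
    obtain ⟨Q, hQ⟩ := Fintype.exists_ne_of_one_lt_card (by omega : 1 < Fintype.card (Sylow 17 G)) P
    have h2 : MulAction.IsMultiplyPretransitive φ.range (Sylow 17 G) 2 := hZas.2.1
    rw [card_two_trans h2 hQ.symm, h18] at hrd
    obtain ⟨j, hj⟩ : ∃ j, 18 * ((18 - 1) * Nat.card ↥(MulAction.stabilizer φ.range P ⊓
        MulAction.stabilizer φ.range Q)) = 2 ^ j * 3 ^ 2 * 17 := by
      rcases card_twoStab hZas h18 hQ.symm with e | e <;> rw [e]
      · exact ⟨4, by norm_num⟩
      · exact ⟨5, by norm_num⟩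
    rw [hj] at hrd
    rcases (Nat.Prime.dvd_mul hr).1 hrd with h | h
    · rcases (Nat.Prime.dvd_mul hr).1 h with h | h
      · exact Or.inl ((Nat.prime_dvd_prime_iff_eq hr Nat.prime_two).1 (hr.dvd_of_dvd_pow h))
      · exact Or.inr (Or.inl ((Nat.prime_dvd_prime_iff_eq hr Nat.prime_three).1 (hr.dvd_of_dvd_pow h)))
    · exact Or.inr (Or.inr ((Nat.prime_dvd_prime_iff_eq hr (by norm_num)).1 h))
  have hprimes : ∀ r : ℕ, r.Prime → r ∣ Nat.card G → r = 2 ∨ r = 3 ∨ r = 17 := by
    intro r hr hrd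
    by_contra hne
    haveI := Fact.mk hr
    have hrH : ¬ r ∣ Nat.card φ.range := fun h => hne (hHcard r hr h)
    obtain ⟨S⟩ : Nonempty (Sylow r G) := Sylow.nonempty
    have hSK : (S : Subgroup G) ≤ K := by
      intro s hs
      rw [hK, MonoidHom.mem_ker]
      have h1 : orderOf (φ.rangeRestrict s) ∣ Nat.card φ.range := orderOf_dvd_natCard _
      obtain ⟨j, hj⟩ := S.isPGroup' ⟨s, hs⟩
      have hj' : s ^ r ^ j = 1 := by simpa using congrArg Subtype.val hj
      have h2 : orderOf (φ.rangeRestrict s) ∣ r ^ j :=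
        orderOf_dvd_of_pow_eq_one (by rw [← map_pow, hj', map_one])
      have h3 := Nat.eq_one_of_dvd_coprimes
        (Nat.Coprime.pow_left j ((Nat.Prime.coprime_iff_not_dvd hr).2 hrH)) h2 h1
      simpa using congrArg Subtype.val (orderOf_eq_one_iff.1 h3)
    have hnK : Nat.card (Sylow r G) = Nat.card (Sylow r K) := by
      rw [SylowCount.card_sylow_normal S K, inf_eq_left.2 hSK, SylowCount.card_sylow_eq S K]
      have : Nat.card (Sylow r (G ⧸ K)) = 1 := by
        rw [hquot]
        haveI : Subsingleton (Sylow r φ.range) := ⟨fun A B => by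
          have : ∀ A : Sylow r φ.range, (A : Subgroup φ.range) = ⊥ := fun A => by
            obtain ⟨j, hj⟩ := A.isPGroup'.exists_card_eq
            refine Subgroup.card_eq_one.1 ?_
            rcases j with _ | j
            · rw [hj, pow_zero]
            · exact absurd ((dvd_pow_self r (by omega : j + 1 ≠ 0)).trans
                (hj ▸ Subgroup.card_subgroup_dvd_card _)) hrH
          exact Sylow.ext ((this A).trans (this B).symm)⟩
        exact Nat.card_unique
      rw [this, one_mul]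
    -- divide out the normal Sylow 17-subgroup of the kernel
    set R := (P : Subgroup G).subgroupOf K with hR
    haveI hRn : R.Normal := ⟨fun u hu k => by
      rw [hR, Subgroup.mem_subgroupOf] at hu ⊢
      exact (Subgroup.mem_normalizer_iff.1 (hnorm 17 (Or.inr (Or.inr rfl)) P k.2) _).1 hu⟩
    obtain ⟨S', hS'⟩ := SylowCount.exists_sylow_inf S K
    have hcnt := SylowCount.card_sylow_eq S' R
    obtain ⟨R', hR'⟩ := SylowCount.exists_sylow_inf P K
    have hR17 : ¬ 17 ∣ Nat.card (K ⧸ R) := by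
      rw [← Subgroup.index_eq_card, hR, ← hR']
      exact R'.not_dvd_index
    obtain ⟨j, hj⟩ := (IsPGroup.of_equiv (R'.isPGroup') (MulEquiv.subgroupCongr (hR'.trans hR.symm))).exists_card_eq
    obtain ⟨i, hi, hrel⟩ := (Nat.dvd_prime_pow (by norm_num : Nat.Prime 17)).1
      (hj ▸ (Subgroup.relIndex_dvd_card
        (Subgroup.normalizer ((S' : Subgroup K) : Set K)) R))
    rw [hrel] at hcnt
    have hq : Nat.card (Sylow r (K ⧸ R)) ∣ Nat.card (Sylow r G) := ⟨17 ^ i, by rw [hnK, hcnt]⟩
    have hq17 : Nat.Coprime (Nat.card (Sylow r (K ⧸ R))) 17 := by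
      rw [Nat.coprime_comm, Nat.Prime.coprime_iff_not_dvd (by norm_num)]
      intro h
      apply hR17
      obtain ⟨T⟩ : Nonempty (Sylow r (K ⧸ R)) := Sylow.nonempty
      rw [T.card_eq_index_normalizer] at h
      exact h.trans (Subgroup.index_dvd_card _)
    have hqm : Nat.card (Sylow r (K ⧸ R)) % r = 1 % r := card_sylow_modEq_one r (K ⧸ R)
    have hm := hmod r hr
    rw [hnK, hcnt] at hm
    set q := Nat.card (Sylow r (K ⧸ R))
    have hG := hmod r hr
    rcases hmem r hr hrd with e | e | e <;> rw [e] at hG hq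
    · have h' : r ∣ 17 := (Nat.modEq_iff_dvd' (by norm_num : 1 ≤ 18)).1 (Eq.symm hG)
      exact hne (Or.inr (Or.inr ((Nat.prime_dvd_prime_iff_eq hr (by norm_num)).1 h')))
    · have h' : r ∣ 3 ^ 3 * 5 := (Nat.modEq_iff_dvd' (by norm_num : 1 ≤ 136)).1 (Eq.symm hG)
      have hr5 : r = 5 := by
        rcases (Nat.Prime.dvd_mul hr).1 h' with h | h
        · exact absurd (Or.inr (Or.inl ((Nat.prime_dvd_prime_iff_eq hr Nat.prime_three).1
            (hr.dvd_of_dvd_pow h)))) hne
        · exact (Nat.prime_dvd_prime_iff_eq hr (by norm_num)).1 h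
      subst hr5
      have hq8 : q ∣ 8 := hq17.dvd_of_dvd_mul_right (show q ∣ 8 * 17 by simpa using hq)
      have hle := Nat.le_of_dvd (by norm_num) hq8
      have hq1 : q = 1 := by
        interval_cases q <;> omega
      rw [hnK, hcnt, hq1, one_mul] at e
      exact absurd (Nat.prime_two.dvd_of_dvd_pow (e ▸ (by norm_num : 2 ∣ 136) : 2 ∣ 17 ^ i)) (by norm_num)
    · have h' : r ∣ 2 ^ 3 * 19 := (Nat.modEq_iff_dvd' (by norm_num : 1 ≤ 153)).1 (Eq.symm hG)
      have hr19 : r = 19 := by
        rcases (Nat.Prime.dvd_mul hr).1 h' with h | h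
        · exact absurd (Or.inl ((Nat.prime_dvd_prime_iff_eq hr Nat.prime_two).1
            (hr.dvd_of_dvd_pow h))) hne
        · exact (Nat.prime_dvd_prime_iff_eq hr (by norm_num)).1 h
      subst hr19
      have hq9 : q ∣ 9 := hq17.dvd_of_dvd_mul_right (show q ∣ 9 * 17 by simpa using hq)
      have hle := Nat.le_of_dvd (by norm_num) hq9
      have hq1 : q = 1 := by
        interval_cases q <;> omega
      rw [hnK, hcnt, hq1, one_mul] at e
      exact absurd (Nat.prime_three.dvd_of_dvd_pow (e ▸ (by norm_num : 3 ∣ 153) : 3 ∣ 17 ^ i)) (by norm_num)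
  -- `K` meets each Sylow subgroup trivially
  have hKP : ∀ q : ℕ, q.Prime → q = 2 ∨ q = 3 ∨ q = 17 → ∀ S : Sylow q G,
      (S : Subgroup G) ⊓ K = ⊥ := by
    intro q hqp hq S
    haveI := Fact.mk hqp
    obtain ⟨S', hS'⟩ := SylowCount.exists_sylow_inf S K
    haveI hn : (S' : Subgroup K).Normal := ⟨fun u hu k => by
      rw [hS', Subgroup.mem_subgroupOf] at hu ⊢
      exact (Subgroup.mem_normalizer_iff.1 (hnorm q hq S k.2) _).1 hu⟩
    letI := Sylow.unique_of_normal S' hn
    have hall : ∀ T : Sylow q G, (T : Subgroup G) ⊓ K = (S : Subgroup G) ⊓ K := by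
      intro T
      obtain ⟨T', hT'⟩ := SylowCount.exists_sylow_inf T K
      rw [Subsingleton.elim T' S', hS'] at hT'
      ext g
      constructor
      · rintro ⟨h1, h2⟩
        exact ⟨(SetLike.ext_iff.1 hT' ⟨g, h2⟩).2 h1, h2⟩
      · rintro ⟨h1, h2⟩
        exact ⟨(SetLike.ext_iff.1 hT' ⟨g, h2⟩).1 h1, h2⟩
    haveI hNn : ((S : Subgroup G) ⊓ K).Normal := ⟨fun u hu g => by
      rw [← hall (g • S)]
      refine ⟨?_, (MonoidHom.normal_ker φ).conj_mem u hu.2 g⟩
      show g * u * g⁻¹ ∈ ((g • S : Sylow q G) : Subgroup G)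
      rw [Sylow.coe_subgroup_smul, Subgroup.mem_pointwise_smul_iff_inv_smul_mem]
      have hu1 : u ∈ (S : Subgroup G) := hu.1
      simpa [MulAut.smul_def, mul_assoc] using hu1⟩
    by_contra hne
    set W := (S : Subgroup G) ⊓ K with hW
    have hWS : W.subgroupOf (S : Subgroup G) ≠ ⊥ := by
      rw [Ne, Subgroup.subgroupOf_eq_bot, disjoint_iff, inf_eq_left.2 inf_le_left]
      exact hne
    obtain ⟨z, hzW, hzc, hzo⟩ :=
      PGroup.exists_orderOf_eq_mem_center S.isPGroup' _ hWS
    have hz1 : (z : G) ≠ 1 := fun e => by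
      rw [← Subgroup.orderOf_coe, e, orderOf_one] at hzo
      exact hqp.one_lt.ne hzo
    refine hz1 ((Subgroup.eq_bot_iff_forall _).1 hZ _ ?_)
    -- `z` is centralised by a Sylow subgroup for every prime
    have hle : ∀ (r : ℕ) [Fact r.Prime] (T : Sylow r G), r ≠ q → r = 2 ∨ r = 3 ∨ r = 17 →
        (T : Subgroup G) ≤ Subgroup.centralizer {(z : G)} := by
      intro r _ T hrq hr s hs
      rw [Subgroup.mem_centralizer_singleton_iff]
      have h1 : (z : G) * s * (z : G)⁻¹ * s⁻¹ ∈ W := by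
        have := W.mul_mem hzW (hNn.conj_mem _ (W.inv_mem hzW) s)
        simpa [mul_assoc] using this
      have h2 : (z : G) * s * (z : G)⁻¹ * s⁻¹ ∈ (T : Subgroup G) :=
        mul_mem ((Subgroup.mem_normalizer_iff.1 (hnorm r hr T
          (show (z : G) ∈ K from (show (z : G) ∈ W from hzW).2)) s).1 hs) (inv_mem hs)
      have hdisj := IsPGroup.disjoint_of_ne r q hrq (T : Subgroup G) W T.isPGroup'
        (S.isPGroup'.to_le inf_le_left)
      have := (Subgroup.disjoint_def.1 hdisj) h2 h1
      rw [mul_inv_eq_one, mul_inv_eq_iff_eq_mul] at this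
      exact this.symm
    have hdiv : ∀ r : ℕ, r.Prime → ∀ j, r ^ j ∣ Nat.card G →
        r ^ j ∣ Nat.card (Subgroup.centralizer {(z : G)}) := by
      intro r hr j hj
      rcases Nat.eq_zero_or_pos j with rfl | hj0
      · simp
      haveI := Fact.mk hr
      obtain ⟨T⟩ : Nonempty (Sylow r G) := Sylow.nonempty
      have hrset := hprimes r hr ((dvd_pow_self r hj0.ne').trans hj)
      have key : ∀ T : Sylow r G, (T : Subgroup G) ≤ Subgroup.centralizer {(z : G)} →
          r ^ j ∣ Nat.card (Subgroup.centralizer {(z : G)}) := fun T hT =>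
        (T.pow_dvd_card_of_pow_dvd_card hj).trans (Subgroup.card_dvd_of_le hT)
      by_cases hrq : r = q
      · subst hrq
        refine key S fun s hs => ?_
        rw [Subgroup.mem_centralizer_singleton_iff]
        exact congrArg Subtype.val (Subgroup.mem_center_iff.1 hzc ⟨s, hs⟩)
      · exact key T (hle r T hrq hrset)
    have htop : Subgroup.centralizer {(z : G)} = ⊤ := by
      refine Subgroup.eq_top_of_card_eq _ (Nat.dvd_antisymm (Subgroup.card_subgroup_dvd_card _) ?_)
      refine (Nat.dvd_iff_prime_pow_dvd_dvd _ _).2 fun r j hr hj => hdiv r hr j hj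
    rw [Subgroup.mem_center_iff]
    intro g
    exact Subgroup.mem_centralizer_singleton_iff.1 (htop ▸ Subgroup.mem_top g)
  have hKbot : K = ⊥ := by
    by_contra hne
    obtain ⟨q, hq, hqd⟩ := Nat.exists_prime_and_dvd
      (n := Nat.card K) (fun e => hne (Subgroup.card_eq_one.1 e))
    haveI := Fact.mk hq
    obtain ⟨S⟩ : Nonempty (Sylow q G) := Sylow.nonempty
    obtain ⟨S', hS'⟩ := SylowCount.exists_sylow_inf S K
    have hb : (S' : Subgroup K) = ⊥ := by
      rw [hS', Subgroup.subgroupOf_eq_bot, disjoint_iff]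
      exact hKP q hq (hprimes q hq (hqd.trans (Subgroup.card_subgroup_dvd_card K))) S
    have := S'.dvd_card_of_dvd_card hqd
    rw [hb, Subgroup.card_bot] at this
    exact hq.one_lt.ne' (Nat.dvd_one.1 this)
  have e : G ≃* φ.range := MonoidHom.ofInjective ((MonoidHom.ker_eq_bot_iff φ).1 hKbot)
  rcases hiso with ⟨⟨e'⟩⟩ | ⟨⟨e'⟩⟩
  · exact Or.inl ⟨e.trans e'⟩
  · exact Or.inr ⟨e.trans e'⟩

end Cfsg.Agent.S3641
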