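import Cfsg.Statements.S3643
import Cfsg.Agent.Lib.Order95040.Graph
import Cfsg.Agent.Lib.Order95040.EdgeDegrees
import Cfsg.Agent.Lib.Order95040.FactsBase
import Cfsg.Agent.Lib.Order95040.Main
import Cfsg.Agent.Lib.Order95040.Small
import Cfsg.Agent.Lib.Mathieu.Groups
import Cfsg.Agent.Lib.Mathieu.Simple

set_option autoImplicit false
open Cfsg

namespace Cfsg.Agent.S3643

open Cfsg.Agent

universe u

/-- The interface facts hold in every simple group of order 95040. -/
theorem facts_aux {G : Type u} [Group G] [Fintype G] [IsSimpleGroup G] (hG : Nat.card G = 95040) :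
    Order95040.Facts G := by
  obtain ⟨x, S, hx, hl⟩ := Order95040.exists_shape_degs hG
  exact Order95040.facts_of hG
    (fun hx' S' hl' f hf => ⟨fun i => Order95040.chi_real hG hx' S' hl' i f,
      Order95040.th_real hG hx' S' hl' hf⟩)
    (fun g hg h36 => Order95040.three hG hx S hl hg h36)
    (fun g i hg hi hc hCg hCi => Order95040.six_small hG hx S hl hg hi hc hCg hCi)
    (fun g i hg hi hc hCg => Order95040.six_big hG hx S hl hg hi hc hCg)
    (fun M hM => Order95040.twelve_le_index hG hx S hl hM)

/-- Let G be a finite group of the same order as the Mathieu group M₁₂ whose character degree graph equals that of M₁₂ (same primes dividing some irreducible complex character degree, same pairs of distinct primes whose product divides some degree). Then G is isomorphic to M₁₂ or to the direct product of the alternating group of degree 4 with M₁₁. -/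
theorem result {G : Type*} [Group G] [Finite G] (hcard : Nat.card G = Nat.card ↥Cfsg.Spor.M12) (hΔ : Cfsg.degreePrimes G = Cfsg.degreePrimes ↥Cfsg.Spor.M12 ∧ Cfsg.degreeGraph G = Cfsg.degreeGraph ↥Cfsg.Spor.M12) :
    Nonempty (G ≃* ↥Cfsg.Spor.M12) ∨ Nonempty (G ≃* alternatingGroup (Fin 4) × ↥Cfsg.Spor.M11) := by
  have hG : Nat.card G = 95040 := hcard.trans Mathieu.card_M12
  haveI := Mathieu.isSimple_M12
  haveI := Fintype.ofFinite Cfsg.Spor.M12
  obtain ⟨⟨χ, hχ⟩, ⟨ψ, hψ⟩⟩ := Order95040.exists_degree_dvd (G := Cfsg.Spor.M12) Mathieu.card_M12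
  rcases Order95040.graph_recognition (M := Cfsg.Spor.M12)
    ⟨_, ⟨χ, rfl⟩, (Char.charDegree_eq_degree χ).symm ▸ hχ⟩
    ⟨_, ⟨ψ, rfl⟩, (Char.charDegree_eq_degree ψ).symm ▸ hψ⟩ hΔ.2 hG with hS | hP
  · haveI := hS
    haveI := Fintype.ofFinite G
    exact Or.inl (Order95040.nonempty_mulEquiv_of_facts (facts_aux hG) (facts_aux Mathieu.card_M12))
  · exact Or.inr hP

end Cfsg.Agent.S3643
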