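import Cfsg.Statements.S3648
import Cfsg.Agent.Lib.NSE.PGLTwoCount
import Cfsg.Agent.Lib.NSE.PGLTwoGroup
import Cfsg.Agent.Lib.PSL2.PGLHom
-- import your own Cfsg.Agent.* helpers here

set_option autoImplicit false
set_option linter.style.haveILetI false
open Cfsg

namespace Cfsg.Agent.S3648

/-- For a finite group X let nse(X) be the set of values of the function 'number of elements of order k' over the element orders k that occur. Let F be a finite field of odd order q > 3 and P = PGL(2, F) = GL(2, F) modulo its centre. If G is a finite group with the same order as P and nse(G) = nse(P), then G is isomorphic to P. -/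
theorem result {F : Type*} [Field F] [Fintype F] (hodd : Odd (Fintype.card F)) (h3 : 3 < Fintype.card F)
    {G : Type*} [Group G] [Finite G] (hcard : Nat.card G = Nat.card (GL (Fin 2) F ⧸ Subgroup.center (GL (Fin 2) F)))
    (hnse : {c : ℕ | 0 < c ∧ ∃ n : ℕ, c = Nat.card {g : G // orderOf g = n}} = {c : ℕ | 0 < c ∧ ∃ n : ℕ, c = Nat.card {g : (GL (Fin 2) F ⧸ Subgroup.center (GL (Fin 2) F)) // orderOf g = n}}) :
    Nonempty (G ≃* (GL (Fin 2) F ⧸ Subgroup.center (GL (Fin 2) F))) := by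
  classical
  obtain ⟨p, f, hp, hchar, hf, hq⟩ := Cfsg.Agent.NSE.exists_char F
  haveI := Fact.mk hp
  haveI := hchar
  have hp2 : p ≠ 2 := fun h => by
    rw [hq, h] at hodd
    exact Nat.not_even_iff_odd.2 hodd ((Nat.even_pow.2 ⟨even_two, hf.ne'⟩))
  have hm2 := Cfsg.Agent.NSE.card_order_two (F := F) hodd
  have hmp := Cfsg.Agent.NSE.card_order_p (F := F) hodd (p := p)
  have hP : Nat.card (GL (Fin 2) F ⧸ Subgroup.center (GL (Fin 2) F)) =
      Fintype.card F * (Fintype.card F ^ 2 - 1) := by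
    have h := Subgroup.card_eq_card_quotient_mul_card_subgroup (Subgroup.center (GL (Fin 2) F))
    have hG := Matrix.card_GL_field (𝔽 := F) 2
    have hc := Cfsg.Agent.NSE.card_preimage (F := F) (fun _ => True)
    simp only [Nat.card_congr (Equiv.subtypeUnivEquiv fun _ => trivial)] at hc
    rw [Fin.prod_univ_two, ← Nat.card_congr (Equiv.refl (GL (Fin 2) F))] at hG
    rw [hG] at hc
    simp only [Fin.val_zero, pow_zero, Fin.val_one, pow_one] at hc
    have hq2 : 2 ≤ Fintype.card F := by omega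
    generalize Nat.card (GL (Fin 2) F ⧸ Subgroup.center (GL (Fin 2) F)) = n at hc ⊢
    generalize Fintype.card F = q at hc hq2 ⊢
    refine Nat.eq_of_mul_eq_mul_left (show 0 < q - 1 by omega) ?_
    rw [← hc, show q ^ 2 - q = q * (q - 1) by rw [Nat.mul_sub_one, pow_two]]
    ring
  -- the possible values
  have hvalP : ∀ n, 0 < Nat.card {g : GL (Fin 2) F ⧸ Subgroup.center (GL (Fin 2) F) // orderOf g = n} →
      Nat.card {g : GL (Fin 2) F ⧸ Subgroup.center (GL (Fin 2) F) // orderOf g = n} = 1 ∨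
      Nat.card {g : GL (Fin 2) F ⧸ Subgroup.center (GL (Fin 2) F) // orderOf g = n} = (p ^ f) ^ 2 ∨
      Nat.card {g : GL (Fin 2) F ⧸ Subgroup.center (GL (Fin 2) F) // orderOf g = n} = (p ^ f) ^ 2 - 1 ∨
      p ^ f ∣ Nat.card {g : GL (Fin 2) F ⧸ Subgroup.center (GL (Fin 2) F) // orderOf g = n} ∧
        Even (Nat.card {g : GL (Fin 2) F ⧸ Subgroup.center (GL (Fin 2) F) // orderOf g = n}) := by
    intro n hn
    rw [← hq]
    by_cases hn1 : n = 1
    · subst hn1
      refine Or.inl (Nat.card_eq_one_iff_unique.2 ⟨⟨fun g h => Subtype.ext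
        ((orderOf_eq_one_iff.1 g.2).trans (orderOf_eq_one_iff.1 h.2).symm)⟩, ⟨⟨1, orderOf_one⟩⟩⟩)
    by_cases hn2 : n = 2
    · subst hn2; exact Or.inr (Or.inl hm2)
    by_cases hnp : n = p
    · subst hnp; exact Or.inr (Or.inr (Or.inl hmp))
    have hn3 : 2 < n := by
      rcases Nat.eq_zero_or_pos n with rfl | h
      · obtain ⟨⟨g, hg⟩⟩ := (Nat.card_pos_iff.1 hn).1
        exact absurd hg (orderOf_pos g).ne'
      · omega
    exact Or.inr (Or.inr (Or.inr ⟨Cfsg.Agent.NSE.card_dvd_card_order hodd hn1 hnp,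
      Cfsg.Agent.NSE.even_card_order hn3⟩))
  have hvals : ∀ n, 0 < Nat.card {g : G // orderOf g = n} →
      Nat.card {g : G // orderOf g = n} = 1 ∨ Nat.card {g : G // orderOf g = n} = (p ^ f) ^ 2 ∨
      Nat.card {g : G // orderOf g = n} = (p ^ f) ^ 2 - 1 ∨
      p ^ f ∣ Nat.card {g : G // orderOf g = n} ∧ Even (Nat.card {g : G // orderOf g = n}) := by
    intro n hn
    obtain ⟨hpos, m, hm⟩ := (Set.ext_iff.1 hnse _).1 ⟨hn, n, rfl⟩
    rw [hm] at hn ⊢
    exact hvalP m hn
  have hsq : ∃ n, Nat.card {g : G // orderOf g = n} = (p ^ f) ^ 2 := by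
    obtain ⟨-, n, hn⟩ := (Set.ext_iff.1 hnse ((p ^ f) ^ 2)).2
      ⟨pow_pos (pow_pos hp.pos f) 2, 2, by rw [← hq, hm2]⟩
    exact ⟨n, hn.symm⟩
  obtain ⟨K, iK, iK', hK, ⟨e⟩⟩ := Cfsg.Agent.NSE.pgl_of_orderCounts hp2 hf
    (by rw [hcard, hP, hq]) hvals hsq
  exact ⟨e.trans (Cfsg.Agent.PSL2.pglCongr (FiniteField.ringEquivOfCardEq (hK.trans hq.symm)))⟩

end Cfsg.Agent.S3648
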