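import Cfsg.Statements.S3660
import Cfsg.Agent.Lib.PrimeGraph.Module

set_option autoImplicit false
open Cfsg

namespace Cfsg.Agent.S3660

open Matrix

/-- An element of `SL₂` in characteristic 2 fixing a nonzero vector squares to one. -/
theorem sq_eq_one_of_fix {F : Type*} [Field F] [CharP F 2]
    (g : SpecialLinearGroup (Fin 2) F) (v : Fin 2 → F) (hv : v ≠ 0)
    (h : (g : Matrix (Fin 2) (Fin 2) F) *ᵥ v = v) : g ^ 2 = 1 := by
  set M : Matrix (Fin 2) (Fin 2) F := (g : Matrix (Fin 2) (Fin 2) F) with hM
  have hd : (M - 1).det = 0 :=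
    exists_mulVec_eq_zero_iff.1 ⟨v, hv, by rw [sub_mulVec, one_mulVec, h, sub_self]⟩
  have h1 : M.det = 1 := g.2
  rw [det_fin_two] at h1 hd
  have two : (2 : F) = 0 := CharTwo.two_eq_zero
  simp [Matrix.sub_apply] at hd
  have htr : M 0 0 + M 1 1 = 0 := by linear_combination h1 - hd + two
  have h2 : M * M = 1 := by
    ext i j
    fin_cases i <;> fin_cases j <;> simp [Matrix.mul_apply, Fin.sum_univ_two]
    · linear_combination (M 0 0) * htr - h1 - two
    · linear_combination (M 0 1) * htr
    · linear_combination (M 1 0) * htr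
    · linear_combination (M 1 1) * htr - h1 - two
  rw [pow_two]
  exact Subtype.ext h2

/-- The prime graph of a finite group has the prime divisors of its order as vertices, two distinct primes p, q being joined when the group has an element of order pq; two groups have the same prime graph when they have the same prime divisors and the same joined pairs. Let F be a finite field of characteristic 2 with at least 4 elements. Then there are finite groups of arbitrarily large order with the same prime graph as PSL(2,F); in particular PSL(2,F) is not determined by its prime graph. -/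
theorem result {F : Type*} [Field F] [Fintype F] [CharP F 2] (hF : 4 ≤ Fintype.card F) (N : ℕ) :
    ∃ (H : Type) (_ : Group H) (_ : Finite H), N < Nat.card H ∧
      ((∀ p : ℕ, p.Prime → (p ∣ Nat.card (Matrix.ProjectiveSpecialLinearGroup (Fin 2) F) ↔ p ∣ Nat.card H)) ∧
      (∀ p q : ℕ, p.Prime → q.Prime → p ≠ q → ((∃ g : (Matrix.ProjectiveSpecialLinearGroup (Fin 2) F), orderOf g = p * q) ↔ (∃ g : H, orderOf g = p * q)))) := by
  classical
  let S := SpecialLinearGroup (Fin 2) F
  let V := Fin 2 → F
  letI : DistribMulAction S V :=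
    { smul := fun g v => (g : Matrix (Fin 2) (Fin 2) F) *ᵥ v
      one_smul := fun v => one_mulVec v
      mul_smul := fun a b v => (mulVec_mulVec v _ _).symm
      smul_zero := fun a => mulVec_zero _
      smul_add := fun a v w => mulVec_add _ v w }
  have two : (2 : F) = 0 := CharTwo.two_eq_zero
  have hc : Subgroup.center S = ⊥ := by
    refine (Subgroup.eq_bot_iff_forall _).2 fun g hg => ?_
    obtain ⟨c, hc, hgc⟩ := Matrix.SpecialLinearGroup.mem_center_iff.1 hg
    have hc2 : c ^ 2 = 1 := by simpa using hc
    have : (c - 1) ^ 2 = 0 := by linear_combination hc2 + (1 - c) * two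
    have hc1 : c = 1 := sub_eq_zero.1 (pow_eq_zero_iff two_ne_zero |>.1 this)
    apply Subtype.ext
    rw [← hgc, hc1]
    simp
  let e : ProjectiveSpecialLinearGroup (Fin 2) F ≃* S :=
    (QuotientGroup.quotientMulEquivOfEq hc).trans QuotientGroup.quotientBot
  let u : S := ⟨!![1, 1; 0, 1], by simp [det_fin_two]⟩
  have hu : orderOf u = 2 := orderOf_eq_prime (by
    rw [pow_two]
    refine Subtype.ext ?_
    show (!![1, 1; 0, 1] : Matrix (Fin 2) (Fin 2) F) * !![1, 1; 0, 1] = 1
    ext i j
    fin_cases i <;> fin_cases j <;>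
      simp [Matrix.mul_apply, Fin.sum_univ_two, CharTwo.add_self_eq_zero])
    (fun h => by simpa [u] using congrArg (fun g : S => (g : Matrix (Fin 2) (Fin 2) F) 0 1) h)
  obtain ⟨H, iG, iF, hN, hH⟩ := PrimeGraph.exists_large_self S V 2 Nat.prime_two
    (fun v => funext fun i => by simp [two_smul, CharTwo.add_self_eq_zero])
    (hu ▸ orderOf_dvd_natCard u)
    (fun g hg hg2 _ v hv => by
      by_contra hv0
      have := orderOf_dvd_of_pow_eq_one (sq_eq_one_of_fix g v hv0 hv)
      exact hg2 ((Nat.prime_dvd_prime_iff_eq hg Nat.prime_two).1 this)) N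
  exact ⟨H, iG, inferInstance, hN, PrimeGraph.sameGraph_of_mulEquiv_left e.symm hH⟩

end Cfsg.Agent.S3660
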