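import Cfsg.Statements.S3662
import Cfsg.Agent.Lib.G2Four.Orbit
import Cfsg.Agent.Lib.G2Four.Transport
import Cfsg.Agent.Lib.PrimeGraph.Module
import Cfsg.Agent.S1059
-- import your own Cfsg.Agent.* helpers here

set_option autoImplicit false
open Cfsg

namespace Cfsg.Agent.S3662

open Cfsg.Agent.G2Four Cfsg.Agent.PrimeGraph

theorem card_Q : Nat.card Q = 61440 * 4095 := by
  rw [Nat.card_congr qEquiv.toEquiv, Cfsg.Agent.S1059.result card_K4]; norm_num

theorem fix_trivial (g : Q) (hg : (orderOf g).Prime) (h2 : orderOf g ≠ 2)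
    (hno : ¬ ∃ x : Q, orderOf x = orderOf g * 2) (v : V6) (hgv : g • v = v) : v = 0 := by
  by_contra hv
  have hs : Nat.card (MulAction.stabilizer Q v) = 61440 :=
    Nat.eq_of_mul_eq_mul_right (show 0 < 4095 by norm_num) ((card_stabilizer_mul hv).trans card_Q)
  have hd := Subgroup.orderOf_dvd_natCard (MulAction.stabilizer Q v)
    (MulAction.mem_stabilizer_iff.2 hgv)
  rw [hs, show (61440 : ℕ) = 2 ^ 12 * (3 * 5) by norm_num] at hd
  rcases (Nat.Prime.dvd_mul hg).1 hd with h | h
  · exact h2 ((Nat.prime_dvd_prime_iff_eq hg Nat.prime_two).1 (hg.dvd_of_dvd_pow h))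
  rcases (Nat.Prime.dvd_mul hg).1 h with h | h
  · rw [(Nat.prime_dvd_prime_iff_eq hg Nat.prime_three).1 h] at hno
    exact hno exists_orderOf_six
  · rw [(Nat.prime_dvd_prime_iff_eq hg (by norm_num)).1 h] at hno
    exact hno exists_orderOf_ten

/-- The prime graph of a finite group has the prime divisors of its order as vertices, two distinct primes p, q being joined when the group has an element of order pq; two groups have the same prime graph when they have the same prime divisors and the same joined pairs. Let F be the field with 4 elements and L the Chevalley group of type G₂ over F. There are finite groups of arbitrarily large order with the same prime graph as L. -/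
theorem result {F : Type*} [Field F] [Fintype F] (hF : Fintype.card F = 4) (N : ℕ) :
    ∃ (H : Type) (_ : Group H) (_ : Finite H), N < Nat.card H ∧
      ((∀ p : ℕ, p.Prime → (p ∣ Nat.card ↥(Cfsg.Lie.chevG2.group F) ↔ p ∣ Nat.card H)) ∧
      (∀ p q : ℕ, p.Prime → q.Prime → p ≠ q → ((∃ g : ↥(Cfsg.Lie.chevG2.group F), orderOf g = p * q) ↔ (∃ g : H, orderOf g = p * q)))) := by
  have : Finite (GL (Fin 7) K4) := Finite.of_injective _ Units.val_injective
  have : Finite (GL Cfsg.Lie.chevG2.Idx K4) := Finite.of_injective _ Units.val_injective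
  obtain ⟨H, i1, i2, hN, hS⟩ := exists_large_self Q V6 2 Nat.prime_two
    (fun v => by rw [two_nsmul]; funext i; rw [Pi.add_apply, ← two_mul, two_eq_zero, zero_mul]; rfl)
    (by rw [card_Q]; norm_num) fix_trivial N
  have e : Q ≃* Cfsg.Lie.chevG2.group F :=
    qEquiv.trans (groupEquiv (FiniteField.ringEquivOfCardEq (K := K4) (K' := F) (card_K4.trans hF.symm)))
  exact ⟨H, i1, inferInstance, hN, sameGraph_of_mulEquiv_left e hS⟩

end Cfsg.Agent.S3662
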