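import Cfsg.Statements.S3663
import Cfsg.Agent.Lib.PrimeGraph.Module
import Cfsg.Agent.Lib.Unital16.Module

set_option autoImplicit false
open Cfsg

namespace Cfsg.Agent.S3663

/-- The prime graph of a finite group has the prime divisors of its order as vertices, two distinct primes p, q being joined when the group has an element of order pq; two groups have the same prime graph when they have the same prime divisors and the same joined pairs. Let F be the field with 16 elements and L = PSU(3,4) realised over F. There are finite groups of arbitrarily large order with the same prime graph as L. -/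
theorem result {F : Type*} [Field F] [Fintype F] (hF : Fintype.card F = 16) (N : ℕ) :
    ∃ (H : Type) (_ : Group H) (_ : Finite H), N < Nat.card H ∧
      ((∀ p : ℕ, p.Prime → (p ∣ Nat.card (Cfsg.PSU 3 F 4) ↔ p ∣ Nat.card H)) ∧
      (∀ p q : ℕ, p.Prime → q.Prime → p ≠ q → ((∃ g : (Cfsg.PSU 3 F 4), orderOf g = p * q) ↔ (∃ g : H, orderOf g = p * q)))) := by
  obtain ⟨e⟩ := Unital16.nonempty_psu_equiv hF
  have := Unital16.nontrivial_mod
  have : Finite Unital16.Mod := inferInstance
  obtain ⟨H, iG, iF, hN, hH⟩ := PrimeGraph.exists_large_self Unital16.U3 Unital16.Mod 5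
    Nat.prime_five Unital16.mod_five
    ((by norm_num : 5 ∣ 10).trans (Unital16.orderOf_g10 ▸ orderOf_dvd_natCard Unital16.g10))
    (fun g hg hg5 hno v hv => by
      refine Unital16.eq_zero_of_fix ?_ hv
      rcases Unital16.prime_dvd_card hg (orderOf_dvd_natCard g) with h | h | h | h
      · exact absurd ⟨Unital16.g10, by rw [h, Unital16.orderOf_g10]⟩ hno
      · exact absurd ⟨Unital16.g15, by rw [h, Unital16.orderOf_g15]⟩ hno
      · exact absurd h hg5
      · exact h) N
  exact ⟨H, iG, inferInstance, hN, PrimeGraph.sameGraph_of_mulEquiv_left e.symm hH⟩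

end Cfsg.Agent.S3663
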