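import Cfsg.Statements.S3664
import Cfsg.Agent.Lib.SzEight.Facts
import Cfsg.Agent.Lib.GL.PSpPrimes
import Cfsg.Agent.Lib.GL.TorusArith
import Cfsg.Agent.Lib.PrimeGraph.Module
-- import your own Cfsg.Agent.* helpers here

set_option autoImplicit false
open Cfsg

namespace Cfsg.Agent.S3664

open Cfsg.Agent.SzEight

/-- The edges of the common prime graph. -/
def Edge (p q : ℕ) : Prop :=
  (p = 2 ∧ (q = 3 ∨ q = 5 ∨ q = 7)) ∨ (p = 3 ∧ q = 5) ∨
  (q = 2 ∧ (p = 3 ∨ p = 5 ∨ p = 7)) ∨ (q = 3 ∧ p = 5)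

theorem torus_values (d : ℕ) (b : Bool) (h0 : 0 < d) (h3 : d ≤ 3) :
    GL.torusExp 3 d b = if d = 1 then (if b then 2 else 1) else
      if d = 2 then (if b then 5 else 4) else (if b then 14 else 13) := by
  interval_cases d <;> cases b <;> rfl

/-- Which prime pairs satisfy the criterion. -/
theorem crit_iff {p q : ℕ} (hp : p ∈ [2, 3, 5, 7, 13]) (hq : q ∈ [2, 3, 5, 7, 13]) (hpq : p ≠ q) :
    GL.PrimeCrit 3 3 3 p q ↔ Edge p q := by
  have key : ∀ p ∈ [2, 3, 5, 7, 13], ∀ q ∈ [2, 3, 5, 7, 13], p ≠ q →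
      (((∃ d : Fin 4, ∃ b, 0 < (d : ℕ) ∧ (d : ℕ) ≤ 3 ∧ p * q ∣ GL.torusExp 3 d b) ∨
        (∃ d₁ : Fin 4, ∃ b₁, ∃ d₂ : Fin 4, ∃ b₂, 0 < (d₁ : ℕ) ∧ 0 < (d₂ : ℕ) ∧ (d₁ : ℕ) + d₂ ≤ 3 ∧
          p ∣ GL.torusExp 3 d₁ b₁ ∧ q ∣ GL.torusExp 3 d₂ b₂) ∨
        ∃ d : Fin 4, ∃ b, 0 < (d : ℕ) ∧ (d : ℕ) < 3 ∧
          ((q = 3 ∧ p ∣ GL.torusExp 3 d b) ∨ (p = 3 ∧ q ∣ GL.torusExp 3 d b))) ↔ Edge p q) := by
    unfold Edge
    decide +kernel
  rw [← key p hp q hq hpq]
  constructor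
  · rintro (⟨d, b, h⟩ | ⟨d₁, b₁, d₂, b₂, h⟩ | ⟨d, b, h⟩)
    · exact Or.inl ⟨⟨d, by omega⟩, b, h⟩
    · exact Or.inr (Or.inl ⟨⟨d₁, by omega⟩, b₁, ⟨d₂, by omega⟩, b₂, h⟩)
    · exact Or.inr (Or.inr ⟨⟨d, by omega⟩, b, h⟩)
  · rintro (⟨d, b, h⟩ | ⟨d₁, b₁, d₂, b₂, h⟩ | ⟨d, b, h⟩)
    · exact Or.inl ⟨d, b, h⟩
    · exact Or.inr (Or.inl ⟨d₁, b₁, d₂, b₂, h⟩)
    · exact Or.inr (Or.inr ⟨d, b, h⟩)

variable {F : Type*} [Field F] [Fintype F]

theorem charP_three (hF : Fintype.card F = 3) : CharP F 3 := by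
  have : Fact (Nat.Prime 3) := ⟨Nat.prime_three⟩
  exact charP_of_card_eq_prime hF

theorem exists_iff_crit (hF : Fintype.card F = 3) {p q : ℕ} (hp : p.Prime) (hq : q.Prime) (hpq : p ≠ q) :
    (∃ g : Cfsg.PSp 3 F, orderOf g = p * q) ↔ GL.PrimeCrit 3 3 3 p q := by
  have : Fact (Nat.Prime 3) := ⟨Nat.prime_three⟩
  have := charP_three hF
  constructor
  · rintro ⟨g, hg⟩
    have := GL.crit_of_psp (F := F) 3 (n := 3) (by norm_num) hp hq hpq ⟨g, hg⟩
    rwa [hF] at this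
  · intro h
    exact GL.psp_of_crit (F := F) 3 (n := 3) hp hq hpq (by rw [hF]; exact h)

theorem dvd_card_iff (hF : Fintype.card F = 3) {p : ℕ} (hp : p.Prime) :
    p ∣ Nat.card (Cfsg.PSp 3 F) ↔ p ∈ [2, 3, 5, 7, 13] := by
  have : Finite (Cfsg.PSp 3 F) := Finite.of_surjective _ (QuotientGroup.mk'_surjective _)
  constructor
  · intro h
    have h2 := h.trans (Subgroup.card_quotient_dvd_card _)
    rw [Forms.card_symplecticGroup, hF] at h2
    norm_num [Finset.prod_range_succ] at h2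
    have h3 : p ∣ 2 ^ 10 * (3 ^ 9 * (5 * (7 * 13))) := by norm_num; exact h2
    simp only [List.mem_cons, List.not_mem_nil, or_false]
    rcases hp.dvd_mul.1 h3 with h | h
    · exact Or.inl ((Nat.prime_dvd_prime_iff_eq hp Nat.prime_two).1 (hp.dvd_of_dvd_pow h))
    rcases hp.dvd_mul.1 h with h | h
    · exact Or.inr (Or.inl ((Nat.prime_dvd_prime_iff_eq hp Nat.prime_three).1 (hp.dvd_of_dvd_pow h)))
    rcases hp.dvd_mul.1 h with h | h
    · exact Or.inr (Or.inr (Or.inl ((Nat.prime_dvd_prime_iff_eq hp (by norm_num)).1 h)))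
    rcases hp.dvd_mul.1 h with h | h
    · exact Or.inr (Or.inr (Or.inr (Or.inl ((Nat.prime_dvd_prime_iff_eq hp (by norm_num)).1 h))))
    · exact Or.inr (Or.inr (Or.inr (Or.inr ((Nat.prime_dvd_prime_iff_eq hp (by norm_num)).1 h))))
  · intro h
    by_cases h13 : p = 13
    · subst h13
      obtain ⟨Z, hZ, hZN⟩ := GL.torusExp_dvd (F := F) (d := 3) (by norm_num) false
      rw [hF] at hZN
      obtain ⟨x, hx⟩ := GL.exists_dvd_orderOf_blocks (n := 3) 3 0 le_rfl Z 1 hZ (GL.preserves_one _)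
        (by norm_num) (k := 13) fun N c hc h1 _ => (show GL.torusExp 3 3 false = 13 from rfl) ▸ hZN N c hc h1
      exact hx.trans (orderOf_dvd_natCard x)
    simp only [List.mem_cons, List.not_mem_nil, or_false] at h
    obtain ⟨q, hq, hqm, hpq, hE⟩ : ∃ q, q.Prime ∧ q ∈ [2, 3, 5, 7, 13] ∧ p ≠ q ∧ Edge p q := by
      rcases h with rfl | rfl | rfl | rfl | rfl
      · exact ⟨3, Nat.prime_three, by simp, by norm_num, by unfold Edge; norm_num⟩
      all_goals first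
        | exact absurd rfl h13
        | exact ⟨2, Nat.prime_two, by simp, by norm_num, by unfold Edge; norm_num⟩
    obtain ⟨g, hg⟩ := (exists_iff_crit hF hp hq hpq).2
      ((crit_iff (by simp only [List.mem_cons, List.not_mem_nil, or_false]; exact h) hqm hpq).2 hE)
    exact ((dvd_mul_right p q).trans (hg ▸ dvd_rfl)).trans (orderOf_dvd_natCard g)

theorem exists_iff_edge (hF : Fintype.card F = 3) {p q : ℕ} (hp : p.Prime) (hq : q.Prime) (hpq : p ≠ q) :
    (∃ g : Cfsg.PSp 3 F, orderOf g = p * q) ↔ Edge p q := by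
  constructor
  · intro h
    obtain ⟨g, hg⟩ := h
    have hd : p * q ∣ Nat.card (Cfsg.PSp 3 F) := hg ▸ orderOf_dvd_natCard g
    exact (crit_iff ((dvd_card_iff hF hp).1 ((dvd_mul_right p q).trans hd))
      ((dvd_card_iff hF hq).1 ((dvd_mul_left q p).trans hd)) hpq).1 ((exists_iff_crit hF hp hq hpq).1 ⟨g, hg⟩)
  · intro h
    refine (exists_iff_crit hF hp hq hpq).2 ((crit_iff ?_ ?_ hpq).2 h)
    all_goals
      rcases h with ⟨rfl, rfl | rfl | rfl⟩ | ⟨rfl, rfl⟩ | ⟨rfl, rfl | rfl | rfl⟩ | ⟨rfl, rfl⟩ <;> simp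

/-- The prime graph of a finite group has the prime divisors of its order as vertices, two distinct primes p, q being joined when the group has an element of order pq; two groups have the same prime graph when they have the same prime divisors and the same joined pairs. Let F be the field with 3 elements and L = PSp(6,F). There are finite groups of arbitrarily large order with the same prime graph as L (a prime graph shared by the orthogonal groups Ω₇(3) and PΩ⁺₈(3)). -/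
theorem result {F : Type*} [Field F] [Fintype F] (hF : Fintype.card F = 3) (N : ℕ) :
    ∃ (H : Type) (_ : Group H) (_ : Finite H), N < Nat.card H ∧
      ((∀ p : ℕ, p.Prime → (p ∣ Nat.card (Cfsg.PSp 3 F) ↔ p ∣ Nat.card H)) ∧
      (∀ p q : ℕ, p.Prime → q.Prime → p ≠ q → ((∃ g : (Cfsg.PSp 3 F), orderOf g = p * q) ↔ (∃ g : H, orderOf g = p * q)))) := by
  obtain ⟨e32, e35, ⟨x5, hx5, A5, hA5, hf5⟩, ⟨x7, hx7, A7, hA7, hf7⟩, hdiv⟩ := edges
  have hcardX : ∀ p : ℕ, p.Prime → (p ∣ Nat.card X ↔ p ∈ [2, 3, 5, 7, 13]) := fun p hp => ⟨fun h => by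
    rw [card_X] at h
    have := dvd_card_X_cases hp h
    simpa using this, hdiv p⟩
  have : Nontrivial V8 := ⟨⟨A5, 0, hA5⟩⟩
  obtain ⟨H, i1, i2, hN, hS⟩ := PrimeGraph.exists_large (L := Cfsg.PSp 3 F) X V8 2 Nat.prime_two
    two_nsmul_V8
    (fun p hp => by
      rw [dvd_card_iff hF hp, hcardX p hp]
      refine ⟨Or.inr, ?_⟩
      rintro (rfl | h)
      · simp
      · exact h)
    (fun p q hp hq hpq hp2 hq2 => by
      rw [exists_iff_edge hF hp hq hpq]
      constructor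
      · intro h
        rcases h with ⟨rfl, -⟩ | ⟨rfl, rfl⟩ | ⟨rfl, -⟩ | ⟨rfl, rfl⟩
        · exact absurd rfl hp2
        · exact e35
        · exact absurd rfl hq2
        · obtain ⟨x, hx⟩ := e35
          exact ⟨x, by rw [hx, mul_comm]⟩
      · intro h
        rcases no_odd_edge hp hq hpq hp2 hq2 h with ⟨rfl, rfl⟩ | ⟨rfl, rfl⟩
        · exact Or.inr (Or.inl ⟨rfl, rfl⟩)
        · exact Or.inr (Or.inr (Or.inr ⟨rfl, rfl⟩)))
    (fun p hp hp2 => by
      rw [exists_iff_edge hF hp Nat.prime_two hp2]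
      constructor
      · intro h
        rcases h with ⟨rfl, -⟩ | ⟨-, h⟩ | ⟨-, rfl | rfl | rfl⟩ | ⟨h, -⟩
        · exact absurd rfl hp2
        · norm_num at h
        · exact Or.inl e32
        · exact Or.inr ⟨x5, hx5, A5, hA5, hf5⟩
        · exact Or.inr ⟨x7, hx7, A7, hA7, hf7⟩
        · norm_num at h
      · intro h
        have hd : p ∣ Nat.card X := by
          rcases h with ⟨g, hg⟩ | ⟨g, hg, -⟩
          · exact ((dvd_mul_right p 2).trans (hg ▸ dvd_rfl)).trans (orderOf_dvd_natCard g)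
          · exact hg ▸ orderOf_dvd_natCard g
        have hm := (hcardX p hp).1 hd
        simp only [List.mem_cons, List.not_mem_nil, or_false] at hm
        rcases hm with rfl | rfl | rfl | rfl | rfl
        · exact absurd rfl hp2
        · exact Or.inr (Or.inr (Or.inl ⟨rfl, by norm_num⟩))
        · exact Or.inr (Or.inr (Or.inl ⟨rfl, by norm_num⟩))
        · exact Or.inr (Or.inr (Or.inl ⟨rfl, by norm_num⟩))
        · exfalso
          rcases h with ⟨g, hg⟩ | ⟨g, hg, A, hA, hgA⟩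
          · obtain ⟨y, -, hy⟩ := exists_left g (by rw [hg]; norm_num)
            exact orderOf_two_primes_s8 y hp Nat.prime_two hp2 (hy.trans hg)
          · exact hA (thirteen_fpf g hg A hgA)) N
  exact ⟨H, i1, inferInstance, hN, hS⟩

end Cfsg.Agent.S3664
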