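import Cfsg.Statements.S3669
import Cfsg.Agent.Lib.Solvable.Basic
import Cfsg.Agent.Lib.Char.Ito
import Cfsg.Agent.Lib.GL2Char.DegreeGraphAux
import Cfsg.Agent.S3378
import Cfsg.Agent.S4812
import Cfsg.Agent.S0494
import Cfsg.Agent.S0252
-- import your own Cfsg.Agent.* helpers here

set_option autoImplicit false
open Cfsg

namespace Cfsg.Agent.S3669

/-- A solvable group of order `5·m`, `5m ∣ 60`, has a normal subgroup of order 5. -/
theorem normal_five : ∀ (n : ℕ) {G : Type*} [Group G] [Finite G], Nat.card G = n → n ∣ 60 → 5 ∣ n →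
    Group.IsSolvable G → ∃ P : Subgroup G, P.Normal ∧ Nat.card P = 5 := by
  intro n
  induction n using Nat.strong_induction_on with
  | _ n ih =>
  intro G _ _ hn h60 h5 hs
  haveI := hs
  haveI : Fact (Nat.Prime 5) := ⟨by norm_num⟩
  have htop : (⊤ : Subgroup G) ≠ ⊥ := by
    intro h
    have h1 := congrArg (fun K : Subgroup G => Nat.card K) h
    simp only [Subgroup.card_top, Subgroup.card_bot] at h1
    omega
  obtain ⟨N, p, hNn, -, hN, -, -, hp, hpN⟩ :=
    Solvable.exists_abelian_minimal_normal (K := (⊤ : Subgroup G)) inferInstance htop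
  haveI := hNn
  haveI := Fact.mk hp
  obtain ⟨k, hk⟩ := IsPGroup.iff_card.1 hpN
  have hN60 : p ^ k ∣ 60 := hk ▸ (hn ▸ N.card_subgroup_dvd_card).trans h60
  have hk0 : k ≠ 0 := fun h => by
    rw [h, pow_zero, Subgroup.card_eq_one] at hk
    exact hN hk
  by_cases hp5 : p = 5
  · subst hp5
    refine ⟨N, hNn, ?_⟩
    have : k = 1 := by
      by_contra h
      exact absurd ((pow_dvd_pow 5 (show 2 ≤ k by omega)).trans hN60) (by norm_num)
    rw [hk, this, pow_one]
  have hco : Nat.Coprime 5 (p ^ k) :=
    Nat.Coprime.pow_right _ ((Nat.coprime_primes (by norm_num) hp).2 (Ne.symm hp5))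
  have hsmall : p ^ k ≤ 4 := by
    have hm : p ^ k ∣ 12 := by
      have : (p ^ k).Coprime 5 := hco.symm
      exact this.dvd_of_dvd_mul_right (show p ^ k ∣ 12 * 5 by simpa using hN60)
    have hle := Nat.le_of_dvd (by norm_num) hm
    have hpd : p ∣ 12 := (dvd_pow_self p hk0).trans hm
    have hp12 : p = 2 ∨ p = 3 := by
      rcases (Nat.Prime.dvd_mul hp).1 (show p ∣ 2 ^ 2 * 3 by simpa using hpd) with h | h
      · exact Or.inl ((Nat.prime_dvd_prime_iff_eq hp Nat.prime_two).1 (hp.dvd_of_dvd_pow h))
      · exact Or.inr ((Nat.prime_dvd_prime_iff_eq hp Nat.prime_three).1 h)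
    rcases hp12 with rfl | rfl
    · rcases Nat.lt_or_ge k 3 with h | h
      · interval_cases k <;> norm_num
      · exact absurd ((pow_dvd_pow 2 h).trans hm) (by norm_num)
    · rcases Nat.lt_or_ge k 2 with h | h
      · interval_cases k <;> norm_num
      · exact absurd ((pow_dvd_pow 3 h).trans hm) (by norm_num)
  have hmul := Subgroup.card_eq_card_quotient_mul_card_subgroup N
  rw [hn, hk] at hmul
  have h5q : 5 ∣ Nat.card (G ⧸ N) := hco.dvd_of_dvd_mul_right (hmul ▸ h5)
  have hlt : Nat.card (G ⧸ N) < n := by
    rw [hmul]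
    exact lt_mul_of_one_lt_right Nat.card_pos (Nat.one_lt_pow hk0 hp.one_lt)
  obtain ⟨P, hPn, hP⟩ := ih _ hlt rfl ((Dvd.intro _ hmul.symm).trans h60) h5q inferInstance
  haveI := hPn
  set M := P.comap (QuotientGroup.mk' N) with hM
  have hMc : Nat.card M = 5 * p ^ k := by
    have h1 : M.index = P.index := P.index_comap_of_surjective (QuotientGroup.mk'_surjective N)
    have h2 := M.card_mul_index
    have h3 := P.card_mul_index
    rw [hP] at h3
    rw [hn, h1, hmul, ← h3] at h2
    have hidx : 0 < P.index := Nat.pos_of_ne_zero P.index_ne_zero_of_finite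
    exact Nat.eq_of_mul_eq_mul_right hidx (by rw [h2]; ring)
  obtain ⟨S⟩ := (inferInstance : Nonempty (Sylow 5 M))
  have hmod : Nat.card (Sylow 5 M) % 5 = 1 := card_sylow_modEq_one 5 M
  have hSc : Nat.card (S : Subgroup M) = 5 := by
    have hd : 5 ∣ Nat.card (S : Subgroup M) := S.dvd_card_of_dvd_card (hMc ▸ dvd_mul_right 5 _)
    obtain ⟨j, hj⟩ := IsPGroup.iff_card.1 S.2
    rw [hj] at hd ⊢
    have hj2 : 5 ^ j ∣ 5 * p ^ k := hj ▸ hMc ▸ (S : Subgroup M).card_subgroup_dvd_card
    have : j ≤ 1 := by
      by_contra h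
      have h5le := Nat.le_of_dvd (Nat.pow_pos hp.pos) ((Nat.mul_dvd_mul_iff_left (by norm_num : 0 < 5)).1
          (show 5 * 5 ∣ 5 * p ^ k from ((pow_dvd_pow 5 (show 2 ≤ j by omega))).trans hj2))
      omega
    rcases j with _ | _ | j
    · norm_num at hd
    · rfl
    · omega
  have hidx : (S : Subgroup M).index = p ^ k := by
    have := (S : Subgroup M).card_mul_index
    rw [hSc, hMc] at this
    omega
  have hn5 : Nat.card (Sylow 5 M) = 1 := by
    have hle := Nat.le_of_dvd (Nat.pow_pos hp.pos) (hidx ▸ S.card_dvd_index)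
    omega
  haveI : Subsingleton (Sylow 5 M) := (Nat.card_eq_one_iff_unique.1 hn5).1
  haveI := S.characteristic_of_subsingleton
  haveI : M.Normal := hPn.comap _
  exact ⟨(S : Subgroup M).map M.subtype, inferInstance,
    by rw [Subgroup.card_subtype, hSc]⟩

/-- The character degree graph of a finite group has as vertices the primes dividing some irreducible complex character degree, two distinct primes being joined when their product divides some irreducible character degree; two groups have the same character degree graph when they have the same vertices and the same joined pairs. A finite group of order 60 with the same character degree graph as the alternating group A₅ (whose character degrees are 1, 3, 4, 5, so the graph has vertices 2, 3, 5 and no edges) is isomorphic to A₅. -/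
theorem result {G : Type*} [Group G] [Finite G] (hcard : Nat.card G = 60)
    (hΓ : Cfsg.degreePrimes G = Cfsg.degreePrimes (alternatingGroup (Fin 5)) ∧ Cfsg.degreeGraph G = Cfsg.degreeGraph (alternatingGroup (Fin 5))) : Nonempty (G ≃* alternatingGroup (Fin 5)) := by
  have h5 : 5 ∈ Cfsg.degreePrimes G := by
    letI : Fintype (GaloisField 2 2) := Fintype.ofFinite _
    obtain ⟨e⟩ := S0252.result (F := GaloisField 2 2)
      (by rw [Fintype.card_eq_nat_card, GaloisField.card 2 2 (by norm_num)]; norm_num)
    have := (S4812.result (GaloisField 2 2) 4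
      (by rw [Fintype.card_eq_nat_card, GaloisField.card 2 2 (by norm_num)]; norm_num) le_rfl
      (S := alternatingGroup (Fin 5)) (Or.inl ⟨e.symm⟩)).1
    rw [hΓ.1, this]
    exact ⟨by norm_num, by norm_num⟩
  by_cases hs : Group.IsSolvable G
  · exfalso
    obtain ⟨P, hPn, hP⟩ := normal_five 60 hcard dvd_rfl (by norm_num) hs
    haveI := hPn
    haveI : Fact (Nat.Prime 5) := ⟨by norm_num⟩
    haveI : IsCyclic P := isCyclic_of_prime_card hP
    letI : Fintype G := Fintype.ofFinite G
    obtain ⟨-, d, ⟨χ, rfl⟩, hd⟩ := h5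
    have hi : P.index = 12 := by
      have := P.card_mul_index
      rw [hP, hcard] at this
      omega
    have hdeg := Char.degree_dvd_index_of_comm (N := P) (fun a ha b hb =>
      congrArg Subtype.val (IsMulCommutative.is_comm.comm (⟨a, ha⟩ : P) ⟨b, hb⟩)) χ
    rw [hi] at hdeg
    have hcd : Cfsg.charDegree (χ : G → ℂ) = Char.degree χ :=
      Nat.cast_injective (R := ℂ) (by rw [Char.charDegree_cast, Char.apply_one_eq_degree])
    rw [hcd] at hd
    exact absurd (hd.trans hdeg) (by norm_num)
  · haveI := S3378.simple_60 hcard hs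
    exact S0494.result hcard

end Cfsg.Agent.S3669
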