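import Cfsg.Statements.S3670
import Cfsg.Agent.Lib.U33.Model
import Cfsg.Agent.Lib.U33.Solvable
import Cfsg.Agent.Lib.GL2Char.DegreeGraphAux

set_option autoImplicit false
open Cfsg

namespace Cfsg.Agent.S3670

open Cfsg.Agent

/-- the graph of a group of order 6048 with the three edges -/
theorem graph_eq {G : Type*} [Group G] [Finite G] (hG : Nat.card G = 6048) (h23 : ∃ d ∈ charDegrees G, 2 * 3 ∣ d)
    (h27 : ∃ d ∈ charDegrees G, 2 * 7 ∣ d) (h37 : ∃ d ∈ charDegrees G, 3 * 7 ∣ d) :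
    degreePrimes G = {p | p = 2 ∨ p = 3 ∨ p = 7} ∧
      ∀ p q, (degreeGraph G).Adj p q ↔ (p ≠ q ∧ (p = 2 ∨ p = 3 ∨ p = 7) ∧ (q = 2 ∨ q = 3 ∨ q = 7)) := by
  haveI := Fintype.ofFinite G
  have hp : ∀ p : ℕ, p.Prime → (∃ d ∈ charDegrees G, p ∣ d) → p = 2 ∨ p = 3 ∨ p = 7 := by
    rintro p hp ⟨d, ⟨χ, rfl⟩, hd⟩
    have h := hd.trans (Char.charDegree_dvd_card χ)
    rw [hG, show 6048 = 2 ^ 5 * 3 ^ 3 * 7 by norm_num] at h
    rcases (Nat.Prime.dvd_mul hp).1 h with h | h
    · rcases (Nat.Prime.dvd_mul hp).1 h with h | h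
      · exact Or.inl ((Nat.prime_dvd_prime_iff_eq hp Nat.prime_two).1 (hp.dvd_of_dvd_pow h))
      · exact Or.inr (Or.inl ((Nat.prime_dvd_prime_iff_eq hp Nat.prime_three).1 (hp.dvd_of_dvd_pow h)))
    · exact Or.inr (Or.inr ((Nat.prime_dvd_prime_iff_eq hp (by norm_num)).1 h))
  refine ⟨Set.ext fun p => ⟨fun ⟨hpp, hd⟩ => hp p hpp hd, ?_⟩, fun p q => ⟨?_, ?_⟩⟩
  · obtain ⟨d, hd, hdd⟩ := h23
    obtain ⟨e, he, hee⟩ := h27
    rintro (rfl | rfl | rfl)
    · exact ⟨Nat.prime_two, d, hd, (dvd_mul_right 2 3).trans hdd⟩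
    · exact ⟨Nat.prime_three, d, hd, (dvd_mul_left 3 2).trans hdd⟩
    · exact ⟨by norm_num, e, he, (dvd_mul_left 7 2).trans hee⟩
  · rintro ⟨hne, hpp, hqp, d, hd, hdd⟩
    exact ⟨hne, hp p hpp ⟨d, hd, (dvd_mul_right p q).trans hdd⟩, hp q hqp ⟨d, hd, (dvd_mul_left q p).trans hdd⟩⟩
  · rintro ⟨hne, hpp, hqq⟩
    refine ⟨hne, ?_, ?_, ?_⟩
    · rcases hpp with rfl | rfl | rfl <;> norm_num
    · rcases hqq with rfl | rfl | rfl <;> norm_num
    · rcases hpp with rfl | rfl | rfl <;> rcases hqq with rfl | rfl | rfl <;>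
        first
          | exact absurd rfl hne
          | exact h23
          | exact h27
          | exact h37
          | exact h23.imp fun d hd => ⟨hd.1, by simpa [mul_comm] using hd.2⟩
          | exact h27.imp fun d hd => ⟨hd.1, by simpa [mul_comm] using hd.2⟩
          | exact h37.imp fun d hd => ⟨hd.1, by simpa [mul_comm] using hd.2⟩

theorem mem_of_degree {G : Type*} [Group G] [Finite G] (χ : IrrCharacter G) {m : ℕ} (h : m ∣ Char.degree χ) :
    ∃ d ∈ charDegrees G, m ∣ d :=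
  haveI := Fintype.ofFinite G
  ⟨_, ⟨χ, rfl⟩, by rwa [Char.charDegree_eq_degree]⟩

/-- The character degree graph of a finite group has as vertices the primes dividing some irreducible complex character degree, two distinct primes being joined when their product divides some irreducible character degree; two groups have the same character degree graph when they have the same vertices and the same joined pairs. Let F be the field with 9 elements and L = PSU(3,3) realised over F (order 6048). There is a finite solvable group of order 6048 with the same character degree graph as L; so L is not determined by its order together with its character degree graph. -/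
theorem result {F : Type*} [Field F] [Fintype F] (hF : Fintype.card F = 9) :
    ∃ (H : Type) (_ : Group H) (_ : Fintype H), Group.IsSolvable H ∧ Nat.card H = 6048 ∧ Cfsg.degreePrimes H = Cfsg.degreePrimes (Cfsg.PSU 3 F 3) ∧ Cfsg.degreeGraph H = Cfsg.degreeGraph (Cfsg.PSU 3 F 3) := by
  obtain ⟨H, iG, iF, hsol, hcard, χ, hχ⟩ := U33.exists_solvable
  refine ⟨H, iG, iF, hsol, hcard, ?_⟩
  obtain ⟨h1, h2⟩ := graph_eq hcard (mem_of_degree χ (by rw [hχ]; norm_num)) (mem_of_degree χ (by rw [hχ]; norm_num))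
    (mem_of_degree χ (by rw [hχ]; norm_num))
  have hF' : Fintype.card F = 3 ^ 2 := by rw [hF]; norm_num
  obtain ⟨iG', ⟨C⟩⟩ := U33.exists_config hF'
  let e := MulEquiv.ofBijective _ (U33.mk_bijective hF')
  obtain ⟨a, ha⟩ := C.exists_28
  obtain ⟨b, hb⟩ := C.exists_21
  obtain ⟨c, hc⟩ := C.exists_six
  have hs : ∀ (χ : IrrCharacter (Cfsg.SU 3 F 3)) (m : ℕ), m ∣ Char.degree χ →
      ∃ d ∈ charDegrees (Cfsg.PSU 3 F 3), m ∣ d := fun χ m hm => by
    rw [← GL2Char.charDegrees_congr e]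
    exact mem_of_degree χ hm
  obtain ⟨k1, k2⟩ := graph_eq (G := Cfsg.PSU 3 F 3) ((Nat.card_congr e.toEquiv).symm.trans (U33.card_G hF'))
    (hs c _ hc) (hs a _ (by rw [ha]; norm_num)) (hs b _ (by rw [hb]))
  refine ⟨h1.trans k1.symm, ?_⟩
  ext p q
  rw [h2, k2]

end Cfsg.Agent.S3670
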