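import Cfsg.Statements.S3678
import Cfsg.Agent.Lib.PrimeGraph.Module
import Cfsg.Agent.Lib.PSL2.Centralizer
import Cfsg.Agent.S3660

set_option autoImplicit false
open Cfsg

namespace Cfsg.Agent.S3678

open Matrix

theorem charP_of_card {F : Type*} [Field F] [Fintype F] (p n : ℕ) (hp : p.Prime) (hn : n ≠ 0)
    (hF : Fintype.card F = p ^ n) : CharP F p := by
  obtain ⟨q, hq⟩ := CharP.exists F
  obtain ⟨k, hk, hc⟩ := FiniteField.card F q
  rw [hF] at hc
  have : q ∣ p ^ n := hc ▸ dvd_pow_self q (PNat.ne_zero k)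
  rw [(Nat.prime_dvd_prime_iff_eq hk hp).1 (hk.dvd_of_dvd_pow this)] at hq
  exact hq

theorem not_orderOf_psl_seven {F : Type*} [Field F] [Fintype F] (hF : Fintype.card F = 7)
    (p q : ℕ) (hp : p.Prime) (hq : q.Prime) (hpq : p ≠ q) :
    ¬ ∃ g : ProjectiveSpecialLinearGroup (Fin 2) F, orderOf g = p * q := by
  rintro ⟨x, hx⟩
  have : CharP F 7 := charP_of_card 7 1 (by norm_num) one_ne_zero (by rw [hF]; rfl)
  have : Fact (Nat.Prime 7) := ⟨by norm_num⟩
  have h2 : (2 : F) ≠ 0 := PSL2.odd_card_iff.1 (by rw [hF]; exact ⟨3, rfl⟩)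
  obtain ⟨g, rfl⟩ := PSL2.mk_surjective x
  have hdvd : p * q ∣ orderOf g := hx ▸ orderOf_map_dvd _ g
  have key : ∀ r : ℕ, 0 < r → p * q = 2 * r → orderOf g = 2 * r → False := by
    intro r hr hpq' hg
    have hgr : orderOf (g ^ r) = 2 := by
      rw [orderOf_pow' g hr.ne', hg, Nat.gcd_mul_left_left, Nat.mul_div_cancel _ hr]
    have h1 := PSL2.eq_neg_one_of_orderOf_eq_two h2 hgr
    have : PSL2.mk g ^ r = 1 := by rw [← map_pow, h1, PSL2.mk_neg_one]
    have := Nat.le_of_dvd hr (hx ▸ orderOf_dvd_of_pow_eq_one this)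
    omega
  have hle : p * q ∈ Nat.divisors 6 ∨ p * q ∈ Nat.divisors 8 ∨ p * q ∈ Nat.divisors 14 := by
    rcases PSL2.orderOf_dvd 7 g with h | h | h
    · rw [hF] at h; exact Or.inl (Nat.mem_divisors.2 ⟨hdvd.trans h, by norm_num⟩)
    · rw [hF] at h; exact Or.inr (Or.inl (Nat.mem_divisors.2 ⟨hdvd.trans h, by norm_num⟩))
    · exact Or.inr (Or.inr (Nat.mem_divisors.2 ⟨hdvd.trans h, by norm_num⟩))
  have hcases : p * q = 6 ∨ p * q = 14 := by
    have h4 : p * q ≠ 4 ∧ p * q ≠ 8 := by
      constructor <;> intro h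
      all_goals
        have hp2 := (Nat.prime_dvd_prime_iff_eq hp Nat.prime_two).1
          (hp.dvd_of_dvd_pow (n := 3) ((Dvd.intro q h).trans (by norm_num)))
        have hq2 := (Nat.prime_dvd_prime_iff_eq hq Nat.prime_two).1
          (hq.dvd_of_dvd_pow (n := 3) ((Dvd.intro_left p h).trans (by norm_num)))
        exact hpq (hp2.trans hq2.symm)
    have h2 : 2 * 2 ≤ p * q := Nat.mul_le_mul hp.two_le hq.two_le
    rcases hle with h | h | h <;> revert h
    · rw [show Nat.divisors 6 = {1, 2, 3, 6} by decide]; simp; omega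
    · rw [show Nat.divisors 8 = {1, 2, 4, 8} by decide]; simp; omega
    · rw [show Nat.divisors 14 = {1, 2, 7, 14} by decide]; simp
      intro h
      rcases h with h | h | h | h
      · omega
      · omega
      · exact absurd (h ▸ (by norm_num : Nat.Prime 7)) (Nat.not_prime_mul hp.one_lt.ne' hq.one_lt.ne')
      · omega
  rcases PSL2.orderOf_dvd 7 g with h | h | h <;> rcases hcases with h' | h'
  · exact key 3 (by norm_num) h' (Nat.dvd_antisymm (by simpa [hF] using h) (by rw [h'] at hdvd; exact hdvd))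
  · rw [hF] at h; exact absurd (h' ▸ hdvd.trans h) (by decide)
  · rw [hF] at h; exact absurd (h' ▸ hdvd.trans h) (by decide)
  · rw [hF] at h; exact absurd (h' ▸ hdvd.trans h) (by decide)
  · exact absurd (h' ▸ hdvd.trans h) (by decide)
  · exact key 7 (by norm_num) h' (Nat.dvd_antisymm h (by rw [h'] at hdvd; exact hdvd))

theorem not_orderOf_sl_eight {K : Type*} [Field K] [Fintype K] (hK : Fintype.card K = 8)
    (p q : ℕ) (hp : p.Prime) (hq : q.Prime) (hpq : p ≠ q) :
    ¬ ∃ g : SpecialLinearGroup (Fin 2) K, orderOf g = p * q := by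
  rintro ⟨g, hg⟩
  have : CharP K 2 := charP_of_card 2 3 Nat.prime_two (by norm_num) (by rw [hK]; rfl)
  have : Fact (Nat.Prime 2) := ⟨Nat.prime_two⟩
  have hr : ∃ r e : ℕ, r.Prime ∧ p * q ∣ r ^ e := by
    rcases PSL2.orderOf_dvd 2 g with h | h | h
    · exact ⟨7, 1, by norm_num, by rw [← hg]; simpa [hK] using h⟩
    · exact ⟨3, 2, Nat.prime_three, by rw [← hg]; simpa [hK] using h⟩
    · exact ⟨2, 2, Nat.prime_two, by rw [← hg]; exact h⟩
  obtain ⟨r, e, hr, h⟩ := hr
  exact hpq (((Nat.prime_dvd_prime_iff_eq hp hr).1 (hp.dvd_of_dvd_pow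
    ((Nat.dvd_mul_right p q).trans h))).trans ((Nat.prime_dvd_prime_iff_eq hq hr).1
      (hq.dvd_of_dvd_pow ((Nat.dvd_mul_left q p).trans h))).symm)

/-- The prime graph of a finite group has the prime divisors of its order as vertices, two distinct primes p, q being joined when the group has an element of order pq; two groups have the same prime graph when they have the same prime divisors and the same joined pairs. Let F be the field with 7 elements. There are finite groups of arbitrarily large order with the same prime graph as PSL(2,F) (the graph on {2, 3, 7} with no edges, which is also the prime graph of PSL(2,8)). -/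
theorem result {F : Type*} [Field F] [Fintype F] (hF : Fintype.card F = 7) (N : ℕ) :
    ∃ (H : Type) (_ : Group H) (_ : Finite H), N < Nat.card H ∧
      ((∀ p : ℕ, p.Prime → (p ∣ Nat.card (Matrix.ProjectiveSpecialLinearGroup (Fin 2) F) ↔ p ∣ Nat.card H)) ∧
      (∀ p q : ℕ, p.Prime → q.Prime → p ≠ q → ((∃ g : (Matrix.ProjectiveSpecialLinearGroup (Fin 2) F), orderOf g = p * q) ↔ (∃ g : H, orderOf g = p * q)))) := by
  classical
  let K := GaloisField 2 3
  have : Fintype K := Fintype.ofFinite _
  have hK : Fintype.card K = 8 := by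
    rw [← Nat.card_eq_fintype_card, GaloisField.card 2 3 (by norm_num)]; norm_num
  let S := SpecialLinearGroup (Fin 2) K
  let V := Fin 2 → K
  letI : DistribMulAction S V :=
    { smul := fun g v => (g : Matrix (Fin 2) (Fin 2) K) *ᵥ v
      one_smul := fun v => one_mulVec v
      mul_smul := fun a b v => (mulVec_mulVec v _ _).symm
      smul_zero := fun a => mulVec_zero _
      smul_add := fun a v w => mulVec_add _ v w }
  have hfix : ∀ p : ℕ, p.Prime → p ≠ 2 → ∀ g : S, orderOf g = p → ∀ v : V, g • v = v → v = 0 := by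
    intro p hp hp2 g hg v hv
    by_contra hv0
    have := orderOf_dvd_of_pow_eq_one (S3660.sq_eq_one_of_fix g v hv0 hv)
    rw [hg] at this
    exact hp2 ((Nat.prime_dvd_prime_iff_eq hp Nat.prime_two).1 this)
  have hS : Nat.card S = 504 := by rw [PSL2.card_SL, hK]; norm_num
  have hL : Nat.card (ProjectiveSpecialLinearGroup (Fin 2) F) = 168 := by
    rw [PSL2.card_PSL, hF]; norm_num
  obtain ⟨H, iG, iF, hN, hH⟩ := PrimeGraph.exists_large (L := ProjectiveSpecialLinearGroup (Fin 2) F)
    S V 2 Nat.prime_two (fun v => funext fun i => by simp [two_smul, CharTwo.add_self_eq_zero])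
    (fun p hp => by
      have h1 : p ∣ 168 ↔ p ∈ Nat.primeFactors 168 := by simp [Nat.mem_primeFactors, hp]
      have h2 : p ∣ 504 ↔ p ∈ Nat.primeFactors 504 := by simp [Nat.mem_primeFactors, hp]
      have e1 : Nat.primeFactors 168 = {2, 3, 7} := by
        rw [show (168 : ℕ) = 2 ^ 3 * (3 * 7) by norm_num, Nat.primeFactors_mul (by norm_num) (by norm_num),
          Nat.primeFactors_mul (by norm_num) (by norm_num), Nat.primeFactors_prime_pow (by norm_num) Nat.prime_two,
          Nat.Prime.primeFactors Nat.prime_three, Nat.Prime.primeFactors (by norm_num : Nat.Prime 7)]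
        rfl
      have e2 : Nat.primeFactors 504 = {2, 3, 7} := by
        rw [show (504 : ℕ) = 2 ^ 3 * (3 ^ 2 * 7) by norm_num, Nat.primeFactors_mul (by norm_num) (by norm_num),
          Nat.primeFactors_mul (by norm_num) (by norm_num), Nat.primeFactors_prime_pow (by norm_num) Nat.prime_two,
          Nat.primeFactors_prime_pow (by norm_num) Nat.prime_three, Nat.Prime.primeFactors (by norm_num : Nat.Prime 7)]
        rfl
      rw [hL, hS, h1, h2, e1, e2]
      simp)
    (fun p q hp hq hpq _ _ => iff_of_false (not_orderOf_psl_seven hF p q hp hq hpq)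
      (not_orderOf_sl_eight hK p q hp hq hpq))
    (fun p hp hp2 => iff_of_false (not_orderOf_psl_seven hF p 2 hp Nat.prime_two hp2) (by
      rintro (h | ⟨g, hg, v, hv, hgv⟩)
      · exact not_orderOf_sl_eight hK p 2 hp Nat.prime_two hp2 h
      · exact hv (hfix p hp hp2 g hg v hgv))) N
  exact ⟨H, iG, inferInstance, hN, hH⟩

end Cfsg.Agent.S3678
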