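import Cfsg.Statements.S3681
-- import your own Cfsg.Agent.* helpers here

set_option autoImplicit false
open Cfsg

namespace Cfsg.Agent.S3681

open Equiv

theorem commutator_isThreeCycle {Ω : Type*} [Fintype Ω] [DecidableEq Ω] (g h : Perm Ω) (x : Ω)
    (hgx : g x ≠ x) (hhx : h x ≠ x) (hd : ∀ t, t ≠ x → g t = t ∨ h t = t) :
    (g * h * g⁻¹ * h⁻¹).IsThreeCycle := by
  rw [← card_support_eq_three_iff]
  have fg : ∀ t, g t = t → g.symm t = t := fun t ht => g.symm_apply_eq.2 ht.symm
  have fh : ∀ t, h t = t → h.symm t = t := fun t ht => h.symm_apply_eq.2 ht.symm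
  have hy : h (g x) = g x := by
    rcases hd (g x) hgx with e | e
    · exact absurd (g.injective e) hgx
    · exact e
  have hz : g (h x) = h x := by
    rcases hd (h x) hhx with e | e
    · exact e
    · exact absurd (h.injective e) hhx
  have hu : h.symm x ≠ x := fun e => hhx (by
    have := h.apply_symm_apply x
    rwa [e] at this)
  have hu' : g (h.symm x) = h.symm x := by
    rcases hd _ hu with e | e
    · exact e
    · exact absurd ((h.apply_symm_apply x).symm.trans e).symm hu
  have hw : g.symm x ≠ x := fun e => hgx (by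
    have := g.apply_symm_apply x
    rwa [e] at this)
  have hw' : h (g.symm x) = g.symm x := by
    rcases hd _ hw with e | e
    · exact absurd ((g.apply_symm_apply x).symm.trans e).symm hw
    · exact e
  have hyz : g x ≠ h x := fun e => hgx (g.injective (by
    calc g (g x) = g (h x) := by rw [e]
      _ = h x := hz
      _ = g x := e.symm))
  have key : (g * h * g⁻¹ * h⁻¹).support = {x, g x, h x} := by
    ext t
    simp only [Perm.mem_support, Perm.mul_apply, Perm.inv_def, Finset.mem_insert,
      Finset.mem_singleton]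
    by_cases h1 : t = x
    · subst h1
      simp [fg _ hu', hgx]
    by_cases h2 : t = g x
    · subst h2
      simp [fh _ hy, hz, Ne.symm hyz]
    by_cases h3 : t = h x
    · subst h3
      simp [hw', hhx.symm]
    simp only [h1, h2, h3, or_self, iff_false, not_not]
    by_cases ht : g t = t
    · by_cases hs : h.symm t = x
      · exact absurd (h.symm_apply_eq.1 hs) h3
      · rcases hd _ hs with e | e
        · rw [fg _ e, h.apply_symm_apply, ht]
        · rw [h.apply_symm_apply] at e
          rw [← e, fg _ ht, h.eq_symm_apply.1 e, ht]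
    · have ht' : h t = t := (hd t h1).resolve_left ht
      rw [fh _ ht']
      by_cases hs : g.symm t = x
      · exact absurd (g.symm_apply_eq.1 hs) h2
      · rcases hd _ hs with e | e
        · rw [g.apply_symm_apply] at e
          exact absurd (g.symm_apply_eq.1 e.symm).symm ht
        · rw [e, g.apply_symm_apply]
  rw [key]
  simp [Ne.symm hgx, Ne.symm hhx, hyz]

theorem exists_small_base {Ω : Type*} [Fintype Ω] [DecidableEq Ω] (P : Subgroup (Perm Ω))
    (hP : MulAction.IsPreprimitive P Ω) (hA : ¬ alternatingGroup Ω ≤ P) :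
    ∃ Γ : Finset Ω, 2 * Γ.card ≤ Fintype.card Ω ∧
      ∀ g ∈ P, (∀ x ∈ Γ, g x = x) → g = 1 := by
  classical
  let IsBase : Finset Ω → Prop := fun Γ => ∀ g ∈ P, (∀ x ∈ Γ, g x = x) → g = 1
  have hne : (Finset.univ.filter IsBase).Nonempty :=
    ⟨Finset.univ, by
      simp only [Finset.mem_filter, Finset.mem_univ, true_and]
      exact fun g _ hg => Equiv.ext fun x => hg x (Finset.mem_univ x)⟩
  obtain ⟨Γ, hΓ, hmin⟩ := Finset.exists_min_image _ Finset.card hne
  simp only [Finset.mem_filter, Finset.mem_univ, true_and] at hΓ hmin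
  refine ⟨Γ, ?_, hΓ⟩
  by_contra hb
  have h1 : ¬ IsBase Γᶜ := fun h => by
    have := hmin _ h
    rw [Finset.card_compl] at this
    omega
  simp only [IsBase, not_forall] at h1
  obtain ⟨g, hgP, hg, hg1⟩ := h1
  obtain ⟨x, hgx⟩ : ∃ x, g x ≠ x := by
    by_contra h
    exact hg1 (Equiv.ext fun x => not_not.1 fun hx => h ⟨x, hx⟩)
  have hxΓ : x ∈ Γ := by
    by_contra h
    exact hgx (hg x (Finset.mem_compl.2 h))
  have h2 : ¬ IsBase (Γ.erase x) := fun h => by
    have := hmin _ h
    rw [Finset.card_erase_of_mem hxΓ] at this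
    have := Finset.card_pos.2 ⟨x, hxΓ⟩
    omega
  simp only [IsBase, not_forall] at h2
  obtain ⟨h, hhP, hh, hh1⟩ := h2
  have hhx : h x ≠ x := fun e => hh1 (hΓ h hhP fun y hy => by
    by_cases hyx : y = x
    · rw [hyx, e]
    · exact hh y (Finset.mem_erase.2 ⟨hyx, hy⟩))
  have hd : ∀ t, t ≠ x → g t = t ∨ h t = t := fun t ht => by
    by_cases htΓ : t ∈ Γ
    · exact Or.inr (hh t (Finset.mem_erase.2 ⟨ht, htΓ⟩))
    · exact Or.inl (hg t (Finset.mem_compl.2 htΓ))
  exact hA (Perm.alternatingGroup_le_of_isPreprimitive_of_isThreeCycle_mem hP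
    (commutator_isThreeCycle g h x hgx hhx hd)
    (P.mul_mem (P.mul_mem (P.mul_mem hgP hhP) (P.inv_mem hgP)) (P.inv_mem hhP)))

/-- Bochert's bound for primitive groups. Let a finite group G act faithfully and primitively on a finite set Ω with n elements, and suppose the image of G in the symmetric group of Ω does not contain the alternating group of Ω. Then |G| · ⌊(n + 1)/2⌋! ≤ n!, that is, the index of G in the symmetric group is at least ⌊(n + 1)/2⌋!. -/
theorem result {G Ω : Type*} [Group G] [Finite G] [MulAction G Ω] [FaithfulSMul G Ω] [Fintype Ω] [DecidableEq Ω]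
    (hprim : MulAction.IsPreprimitive G Ω) (hA : ¬ alternatingGroup Ω ≤ (MulAction.toPermHom G Ω).range) :
    Nat.card G * Nat.factorial ((Fintype.card Ω + 1) / 2) ≤ Nat.factorial (Fintype.card Ω) := by
  classical
  let P := (MulAction.toPermHom G Ω).range
  let f : G →* P := (MulAction.toPermHom G Ω).rangeRestrict
  have hf : Function.Bijective f := by
    refine ⟨fun a b h => ?_, (MulAction.toPermHom G Ω).rangeRestrict_surjective⟩
    exact MulAction.toPerm_injective (congrArg Subtype.val h)
  have hP : MulAction.IsPreprimitive P Ω := by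
    let φ : Ω →ₑ[f] Ω := { toFun := id, map_smul' := fun _ _ => rfl }
    exact (MulAction.isPreprimitive_congr (f := φ) hf.2 Function.bijective_id).1 hprim
  obtain ⟨Γ, hcard, hbase⟩ := exists_small_base P hP hA
  have hG : Nat.card G ≤ (Fintype.card Ω).descFactorial Γ.card := by
    rw [Nat.card_eq_of_bijective f hf]
    have hle := Nat.card_le_card_of_injective
      (fun g : P => (⟨fun y => (g : Equiv.Perm Ω) y.1,
        fun a b h => Subtype.ext ((g : Equiv.Perm Ω).injective h)⟩ : ↥Γ ↪ Ω))
      (fun a b h => by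
        have hab : ∀ y ∈ Γ, ((a⁻¹ * b : P) : Equiv.Perm Ω) y = y := fun y hy => by
          have h' : (a : Equiv.Perm Ω) y = (b : Equiv.Perm Ω) y :=
            congrArg (fun e : ↥Γ ↪ Ω => e ⟨y, hy⟩) h
          show ((a : Equiv.Perm Ω)⁻¹ * (b : Equiv.Perm Ω)) y = y
          rw [Equiv.Perm.mul_apply, ← h']
          simp
        have := hbase _ (a⁻¹ * b : P).2 hab
        exact inv_mul_eq_one.1 (Subtype.ext this))
    simpa [Nat.card_eq_fintype_card] using hle
  calc Nat.card G * Nat.factorial ((Fintype.card Ω + 1) / 2)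
      ≤ (Fintype.card Ω).descFactorial Γ.card * Nat.factorial (Fintype.card Ω - Γ.card) :=
        Nat.mul_le_mul hG (Nat.factorial_le (by omega))
    _ = _ := by rw [mul_comm, Nat.factorial_mul_descFactorial (by omega)]

end Cfsg.Agent.S3681
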