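import Cfsg.Statements.S3686
import Cfsg.Agent.Lib.SuborbitThree.CaseD12Simple
import Cfsg.Agent.Lib.SuborbitThree.CaseS4
import Cfsg.Agent.Lib.SuborbitThree.CaseS4Two
import Cfsg.Agent.Lib.CharInt.Burnside

set_option autoImplicit false
open Cfsg

namespace Cfsg.Agent.S3686

/-- Let G be a finite insoluble group acting faithfully and primitively on a set Ω so that the stabilizer of a point a has an orbit of length 3. Then G is isomorphic to one of: the alternating or the symmetric group of degree 5, PGL(2, 7), PSL(2, 11), PSL(2, 13), PSL(2, p) for a prime p ≡ ±1 (mod 16), PSL(3, 3), or a group containing a normal subgroup of index 2 isomorphic to PSL(3, 3) with trivial centralizer. -/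
theorem result {G Ω : Type*} [Group G] [Finite G] [MulAction G Ω] [FaithfulSMul G Ω] [Finite Ω]
    (hsol : ¬ Group.IsSolvable G) (hprim : MulAction.IsPreprimitive G Ω) (a b : Ω) (h3 : Nat.card (MulAction.orbit (MulAction.stabilizer G a) b) = 3) :
    Nonempty (G ≃* alternatingGroup (Fin 5)) ∨ Nonempty (G ≃* Equiv.Perm (Fin 5)) ∨
      Nonempty (G ≃* GL (Fin 2) (ZMod 7) ⧸ Subgroup.center (GL (Fin 2) (ZMod 7))) ∨
      Nonempty (G ≃* Matrix.ProjectiveSpecialLinearGroup (Fin 2) (ZMod 11)) ∨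
      Nonempty (G ≃* Matrix.ProjectiveSpecialLinearGroup (Fin 2) (ZMod 13)) ∨
      (∃ p : ℕ, p.Prime ∧ (p % 16 = 1 ∨ p % 16 = 15) ∧ Nonempty (G ≃* Matrix.ProjectiveSpecialLinearGroup (Fin 2) (ZMod p))) ∨
      Nonempty (G ≃* Matrix.ProjectiveSpecialLinearGroup (Fin 3) (ZMod 3)) ∨
      (∃ N : Subgroup G, N.Normal ∧ N.index = 2 ∧ Subgroup.centralizer (N : Set G) = ⊥ ∧
        Nonempty (N ≃* Matrix.ProjectiveSpecialLinearGroup (Fin 3) (ZMod 3))) := by
  obtain ⟨⟨k, -, hk⟩, hiso⟩ := Cfsg.Agent.Suborbit.sims_three hprim a b h3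
  have hab := Cfsg.Agent.Suborbit.ne_of_two_le h3 (by norm_num)
  have hA : Group.IsSolvable (MulAction.stabilizer G a) :=
    CharInt.isSolvable_of_card_eq (a := k) (b := 1) Nat.prime_two Nat.prime_three (by rw [hk, pow_one])
  have h := SuborbitThree.Prim.of_stabilizer hsol hprim a b hab hA
  rcases hiso with ⟨⟨e⟩⟩ | ⟨⟨e⟩⟩ | ⟨⟨e⟩⟩ | hiso
  · exact Or.inl (SuborbitThree.case_three h (by
      rw [Nat.card_congr e.toEquiv, Nat.card_congr Multiplicative.toAdd, Nat.card_zmod]))
  · exact Or.inl (SuborbitThree.case_perm_three h e)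
  · rcases SuborbitThree.case_d12 h e with q | q | q | q | q
    · exact Or.inl q
    · exact Or.inr (Or.inl q)
    · exact Or.inr (Or.inr (Or.inl q))
    · exact Or.inr (Or.inr (Or.inr (Or.inl q)))
    · exact Or.inr (Or.inr (Or.inr (Or.inr (Or.inl q))))
  · rcases Suborbit.exists_cub hprim a b h3 with hA3 | ⟨x, s, hc⟩
    · exact Or.inl (SuborbitThree.case_three h hA3)
    rcases hiso with ⟨⟨e⟩⟩ | ⟨⟨e⟩⟩
    · rcases SuborbitThree.case_s4 h hc e with q | q
      · exact Or.inr (Or.inr (Or.inr (Or.inr (Or.inr (Or.inl q)))))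
      · exact Or.inr (Or.inr (Or.inr (Or.inr (Or.inr (Or.inr (Or.inl q))))))
    · exact Or.inr (Or.inr (Or.inr (Or.inr (Or.inr (Or.inr (Or.inr (SuborbitThree.case_s4_two h hc e)))))))

end Cfsg.Agent.S3686
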