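import Cfsg.Statements.S3693
import Cfsg.Agent.S3682
import Cfsg.Agent.Lib.Components.Fitting
import Cfsg.Agent.Lib.PCore.Basic
import Cfsg.Agent.Lib.Subnormalizer.Count

set_option autoImplicit false
open Cfsg

namespace Cfsg.Agent.S3693

open Subgroup

theorem le_normalizer_inf {G : Type*} [Group G] {A B C : Subgroup G}
    (hA : C ≤ normalizer (A : Set G)) (hB : C ≤ normalizer (B : Set G)) :
    C ≤ normalizer ((A ⊓ B : Subgroup G) : Set G) :=
  fun _ hc => Subnormalizer.mem_normalizer_inf (hA hc) (hB hc)

theorem le_normalizer_sup {G : Type*} [Group G] [Finite G] {A B C : Subgroup G}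
    (hA : C ≤ normalizer (A : Set G)) (hB : C ≤ normalizer (B : Set G)) :
    C ≤ normalizer ((A ⊔ B : Subgroup G) : Set G) := fun c hc => by
  rw [← Subnormalizer.map_conj_eq_self, Subgroup.map_sup, Subnormalizer.map_conj_eq_self.2 (hA hc),
    Subnormalizer.map_conj_eq_self.2 (hB hc)]

variable {G Ω : Type*} [Group G] [Finite G] [MulAction G Ω] [FaithfulSMul G Ω] [Finite Ω]

/-- The two-point stabiliser has no normal `p`-subgroup. -/
theorem pCore_eq_bot (hprim : MulAction.IsPreprimitive G Ω) {a b : Ω} {d : ℕ}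
    (hd : Nat.card (MulAction.orbit (MulAction.stabilizer G a) b) = d) (h2 : 2 ≤ d)
    (hF : Cfsg.fittingSubgroup ↥(((MulAction.stabilizer G b).subgroupOf (MulAction.stabilizer G a)).map
      (MulAction.toPermHom (MulAction.stabilizer G a) (MulAction.orbit (MulAction.stabilizer G a) b))) = ⊥)
    (p : ℕ) (hp : p.Prime) :
    Cfsg.pCore p ↥(MulAction.stabilizer G a ⊓ MulAction.stabilizer G b) = ⊥ := by
  classical
  have := Fact.mk hp
  have hab := Suborbit.ne_of_two_le hd h2
  haveI : Nontrivial Ω := ⟨⟨a, b, hab⟩⟩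
  haveI := hprim.toIsPretransitive
  set M₁ := MulAction.stabilizer G a with hM₁
  set M₂ := MulAction.stabilizer G b with hM₂
  have hne : M₁ ≠ M₂ := by
    intro e
    have h1 : MulAction.orbit M₁ b = {b} := by
      ext x
      constructor
      · rintro ⟨h, rfl⟩
        have hh : (h : G) ∈ M₂ := e ▸ h.2
        exact MulAction.mem_stabilizer_iff.1 hh
      · rintro rfl; exact MulAction.mem_orbit_self _
    rw [h1, Nat.card_coe_set_eq, Set.ncard_singleton] at hd
    omega
  have hmax : IsCoatom M₁ := (MulAction.isCoatom_stabilizer_iff_preprimitive G a).2 hprim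
  set C := M₁ ⊓ M₂ with hC
  set W := (Cfsg.pCore p C).map C.subtype with hWdef
  suffices hW : W = ⊥ by
    rwa [hWdef, Subgroup.map_eq_bot_iff_of_injective _ C.subtype_injective] at hW
  by_contra hWne
  have hWp : IsPGroup p W := PCore.isPGroup_pCore.map _
  have hWC : W ≤ C := map_subtype_le _
  have hCW : C ≤ normalizer (W : Set G) :=
    le_normalizer.trans (Components.normalizer_le_normalizer_map_of_characteristic C _)
  -- normal `p`-subgroups of `C` lie in `W`
  have hmaxW : ∀ R : Subgroup G, R ≤ C → IsPGroup p R → C ≤ normalizer (R : Set G) → R ≤ W := by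
    intro R hRC hRp hRn
    haveI : (R.subgroupOf C).Normal := normal_subgroupOf_of_le_normalizer hRn
    have h := map_mono (f := C.subtype) (PCore.le_pCore (p := p) (N := R.subgroupOf C)
      (hRp.comap_of_injective C.subtype C.subtype_injective))
    rwa [map_subgroupOf_eq_of_le hRC] at h
  -- the kernel of the action on the suborbit
  set f := MulAction.toPermHom M₁ (MulAction.orbit M₁ b) with hf
  set K := f.ker with hK
  have hKC : K.map M₁.subtype ≤ C := by
    rintro _ ⟨k, hk, rfl⟩
    refine ⟨k.2, MulAction.mem_stabilizer_iff.2 ?_⟩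
    exact congrArg Subtype.val
      (Equiv.ext_iff.1 (MonoidHom.mem_ker.1 hk) ⟨b, MulAction.mem_orbit_self b⟩)
  have hWK : W.subgroupOf M₁ ≤ K := by
    set C' := M₂.subgroupOf M₁
    have hle : W.subgroupOf M₁ ≤ C' := fun x hx => (hWC hx).2
    have hn : ((W.subgroupOf M₁).map f).subgroupOf (C'.map f) |>.Normal := by
      refine normal_subgroupOf_of_le_normalizer ?_
      refine le_trans ?_ (le_normalizer_map f)
      refine map_mono fun c hc => ?_
      have hcn := Subgroup.mem_normalizer_iff.1 (hCW (show (c : G) ∈ C from ⟨c.2, hc⟩))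
      rw [Subgroup.mem_normalizer_iff]
      intro x
      simpa [Subgroup.mem_subgroupOf] using hcn x
    have hp' : IsPGroup p (((W.subgroupOf M₁).map f).subgroupOf (C'.map f)) :=
      ((hWp.comap_of_injective M₁.subtype M₁.subtype_injective).map f).comap_of_injective _
        (C'.map f).subtype_injective
    have h : ((W.subgroupOf M₁).map f).subgroupOf (C'.map f) ≤ Cfsg.fittingSubgroup _ :=
      le_sSup ⟨hn, hp'.isNilpotent⟩
    rw [hF, le_bot_iff, Subgroup.subgroupOf_eq_bot] at h
    rw [hK, ← (MonoidHom.comap_bot f), ← Subgroup.map_le_iff_le_comap]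
    exact h (le_refl _) (map_mono hle)
  -- `W` is normal in the stabiliser
  have hWeq : W.subgroupOf M₁ = Cfsg.pCore p M₁ ⊓ K := by
    apply le_antisymm
    · rw [← PCore.map_pCore_subtype_of_normal (p := p) K]
      haveI : ((W.subgroupOf M₁).subgroupOf K).Normal := by
        refine normal_subgroupOf_of_le_normalizer fun k hk => ?_
        have hcn := Subgroup.mem_normalizer_iff.1 (hCW (hKC ⟨k, hk, rfl⟩))
        rw [Subgroup.mem_normalizer_iff]
        intro x
        simpa [Subgroup.mem_subgroupOf] using hcn x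
      have h := map_mono (f := K.subtype) (PCore.le_pCore (p := p) (N := (W.subgroupOf M₁).subgroupOf K)
        ((hWp.comap_of_injective M₁.subtype M₁.subtype_injective).comap_of_injective K.subtype
          K.subtype_injective))
      rwa [map_subgroupOf_eq_of_le hWK] at h
    · haveI : (Cfsg.pCore p M₁ ⊓ K).Normal := inferInstance
      intro x hx
      refine hmaxW ((Cfsg.pCore p M₁ ⊓ K).map M₁.subtype)
        (le_trans (map_mono inf_le_right) hKC)
        ((PCore.isPGroup_pCore.to_le inf_le_left).map _) ?_ ⟨x, hx, rfl⟩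
      intro c hc
      have hcn : (⟨c, hc.1⟩ : M₁) ∈ normalizer ((Cfsg.pCore p M₁ ⊓ K : Subgroup M₁) : Set M₁) := by
        rw [Subgroup.normalizer_eq_top]; exact mem_top _
      exact le_normalizer_map M₁.subtype ⟨_, hcn, rfl⟩
  have hWM₁ : M₁ ≤ normalizer (W : Set G) := by
    haveI : (W.subgroupOf M₁).Normal := hWeq ▸ inferInstance
    exact (normal_subgroupOf_iff_le_normalizer (hWC.trans inf_le_left)).1 inferInstance
  have hnot : ∀ {x : G}, x ∈ W → ∀ {N : Subgroup G}, M₁ ≤ N → N = ⊤ →
      N ≤ normalizer (W : Set G) → x = 1 := by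
    intro x hx N _ hN hle
    refine FaithfulSMul.eq_of_smul_eq_smul (α := Ω) fun ω => ?_
    obtain ⟨g, rfl⟩ := MulAction.exists_smul_eq G a ω
    rw [one_smul]
    have hg := (Subgroup.mem_normalizer_iff.1 (hle (hN ▸ mem_top g⁻¹)) x).1 hx
    have := MulAction.mem_stabilizer_iff.1 (hWC hg).1
    rw [inv_inv, mul_smul, mul_smul] at this
    simpa using congrArg (g • ·) this
  have hN : normalizer (W : Set G) = M₁ := by
    rcases eq_or_ne (normalizer (W : Set G)) ⊤ with h | h
    · exfalso
      refine hWne (eq_bot_iff.2 fun x hx => mem_bot.2 (hnot hx le_top rfl h.ge))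
    · exact ((hmax.le_iff.1 hWM₁).resolve_left h)
  -- growth of `O_p` of the other stabiliser
  set T₂ := (Cfsg.pCore p M₂).map M₂.subtype with hT₂
  have hT₂p : IsPGroup p T₂ := PCore.isPGroup_pCore.map _
  have hM₂T : M₂ ≤ normalizer (T₂ : Set G) :=
    le_normalizer.trans (Components.normalizer_le_normalizer_map_of_characteristic M₂ _)
  have hWT : IsPGroup p (W ⊔ T₂ : Subgroup G) :=
    hWp.to_sup_of_normal_right' hT₂p ((hWC.trans inf_le_right).trans hM₂T)
  have hR : W ⊔ T₂ = W := by
    by_contra hne'
    have hlt : W < W ⊔ T₂ := lt_of_le_of_ne le_sup_left (Ne.symm hne')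
    have h1 := Subnormalizer.lt_inf_normalizer hWT hlt
    refine h1.not_ge (hmaxW _ ?_ (hWT.to_le inf_le_left) ?_)
    · rw [hN]
      refine le_inf inf_le_right (inf_le_left.trans ?_)
      exact sup_le (hWC.trans inf_le_right) (map_subtype_le _)
    · exact le_normalizer_inf (le_normalizer_sup hCW (inf_le_right.trans hM₂T))
        ((hCW).trans le_normalizer)
  have hTW : T₂ ≤ W := hR ▸ le_sup_right
  obtain ⟨g, hg⟩ := MulAction.exists_smul_eq G a b
  have hconj : M₂ = M₁.map (MulAut.conj g).toMonoidHom := by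
    show MulAction.stabilizer G b = _
    rw [← hg, MulAction.stabilizer_smul_eq_stabilizer_map_conj]
  let e : M₁ ≃* M₂ := (Subgroup.equivMapOfInjective M₁ _ (MulAut.conj g).injective).trans
    (MulEquiv.subgroupCongr hconj.symm)
  have hcard : Nat.card T₂ = Nat.card (Cfsg.pCore p M₁) :=
    (card_map_of_injective M₂.subtype_injective).trans (PCore.card_pCore_congr e).symm
  have hle : Nat.card W ≤ Nat.card T₂ := by
    rw [hcard, ← Nat.card_congr (subgroupOfEquivOfLe (hWC.trans inf_le_left)).toEquiv, hWeq]
    exact Subgroup.card_le_of_le inf_le_left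
  have heq : T₂ = W := Subgroup.eq_of_le_of_card_ge hTW hle
  have htop : normalizer (W : Set G) = ⊤ := by
    rw [eq_top_iff, ← hmax.2 (M₁ ⊔ M₂) (lt_of_le_of_ne le_sup_left fun e' => hne ?_)]
    · exact sup_le hWM₁ (heq ▸ hM₂T)
    · have h21 : M₂ ≤ M₁ := e' ▸ le_sup_right
      refine (Subgroup.eq_of_le_of_card_ge h21 ?_).symm
      exact (Nat.card_congr e.toEquiv).le
  exact hmax.1 (hN ▸ htop)

/-- Let a finite group G act faithfully and primitively on a set Ω, let a and b be points such that the orbit Δ of b under the stabilizer H of a has length d ≥ 2, and consider the permutation group induced on Δ by the elements of H fixing b. If that induced group has trivial Fitting subgroup (no non-trivial nilpotent normal subgroup), then the two-point stabilizer of a and b has trivial Fitting subgroup and the order of H divides d! · ((d - 1)!)^d. -/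
theorem result {G Ω : Type*} [Group G] [Finite G] [MulAction G Ω] [FaithfulSMul G Ω] [Finite Ω]
    (hprim : MulAction.IsPreprimitive G Ω) (a b : Ω) (d : ℕ) (hd : Nat.card (MulAction.orbit (MulAction.stabilizer G a) b) = d) (h2 : 2 ≤ d)
    (hF : Cfsg.fittingSubgroup ↥(((MulAction.stabilizer G b).subgroupOf (MulAction.stabilizer G a)).map (MulAction.toPermHom (MulAction.stabilizer G a) (MulAction.orbit (MulAction.stabilizer G a) b))) = ⊥) :
    Cfsg.fittingSubgroup ↥(MulAction.stabilizer G a ⊓ MulAction.stabilizer G b) = ⊥ ∧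
      Nat.card (MulAction.stabilizer G a) ∣ Nat.factorial d * (Nat.factorial (d - 1)) ^ d := by
  have hcore : ∀ p : ℕ, p.Prime →
      Cfsg.pCore p ↥(MulAction.stabilizer G a ⊓ MulAction.stabilizer G b) = ⊥ :=
    @pCore_eq_bot G Ω _ _ _ _ _ hprim a b d hd h2 hF
  refine ⟨?_, ?_⟩
  · rw [Components.fittingSubgroup_eq_iSup_pCore, iSup_eq_bot]
    intro p
    exact hcore p (Nat.prime_of_mem_primeFactors p.2)
  · obtain ⟨p, hp, P, hPn, hPp, hfix, hdvd⟩ := S3682.result hprim a b d hd h2
    have := Fact.mk hp
    have hle : P.map (MulAction.stabilizer G a).subtype ≤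
        MulAction.stabilizer G a ⊓ MulAction.stabilizer G b := by
      rintro _ ⟨x, hx, rfl⟩
      exact ⟨x.2, MulAction.mem_stabilizer_iff.2 (hfix ⟨x, hx⟩)⟩
    haveI : ((P.map (MulAction.stabilizer G a).subtype).subgroupOf
        (MulAction.stabilizer G a ⊓ MulAction.stabilizer G b)).Normal := by
      refine normal_subgroupOf_of_le_normalizer fun c hc => ?_
      refine le_normalizer_map _ ⟨⟨c, hc.1⟩, ?_, rfl⟩
      rw [Subgroup.normalizer_eq_top]; exact mem_top _
    have h := PCore.le_pCore (p := p)
      (N := (P.map (MulAction.stabilizer G a).subtype).subgroupOf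
        (MulAction.stabilizer G a ⊓ MulAction.stabilizer G b))
      ((hPp.map _).comap_of_injective _ (Subgroup.subtype_injective _))
    rw [hcore p hp, le_bot_iff] at h
    have hP : P = ⊥ := by
      have h' := congrArg (Subgroup.map (Subgroup.subtype _)) h
      rwa [map_subgroupOf_eq_of_le hle, Subgroup.map_bot,
        Subgroup.map_eq_bot_iff_of_injective _ (Subgroup.subtype_injective _)] at h'
    rwa [hP, Subgroup.index_bot] at hdvd

end Cfsg.Agent.S3693
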