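import Cfsg.Statements.S3687
import Cfsg.Agent.Lib.Suborbit.Alternating
import Cfsg.Agent.Lib.Components.Fitting
import Cfsg.Agent.S3693
import Cfsg.Agent.S5752
-- import your own Cfsg.Agent.* helpers here

set_option autoImplicit false
open Cfsg

namespace Cfsg.Agent.S3687

open Subgroup Equiv Cfsg.Agent.SuborbitAlt

variable {G Ω : Type*} [Group G] [MulAction G Ω]

/-- The edge attached to a suborbit. -/
noncomputable def edgeOf {m : ℕ} {a b : Ω}
    (e : MulAction.orbit (MulAction.stabilizer G a) b ≃ Fin (m + 1))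
    (he : e ⟨b, MulAction.mem_orbit_self b⟩ = 0) :
    Edge (MulAction.stabilizer G a) (MulAction.stabilizer G b) m where
  f :=
    { toFun := fun x => e.permCongr
        (MulAction.toPermHom (MulAction.stabilizer G a) (MulAction.orbit (MulAction.stabilizer G a) b) x)
      map_one' := by ext; simp
      map_mul' := fun x y => by ext; simp [mul_smul] }
  stab x := by
    show e.permCongr _ 0 = 0 ↔ _
    rw [Equiv.permCongr_apply, ← he, e.symm_apply_apply, e.apply_eq_iff_eq]
    exact ⟨fun h => MulAction.mem_stabilizer_iff.2 (congrArg Subtype.val h),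
      fun h => Subtype.ext (MulAction.mem_stabilizer_iff.1 h)⟩
  trans c := by
    obtain ⟨x, hx⟩ := (e.symm c).2
    refine ⟨x, ?_⟩
    show e.permCongr _ 0 = c
    rw [Equiv.permCongr_apply, ← he, e.symm_apply_apply, ← e.eq_symm_apply]
    exact Subtype.ext hx

theorem exists_equiv {m : ℕ} {a b : Ω} [Finite Ω]
    (hd : Nat.card (MulAction.orbit (MulAction.stabilizer G a) b) = m + 1) :
    ∃ e : MulAction.orbit (MulAction.stabilizer G a) b ≃ Fin (m + 1),
      e ⟨b, MulAction.mem_orbit_self b⟩ = 0 := by
  have e₀ := (Finite.equivFin (MulAction.orbit (MulAction.stabilizer G a) b)).trans (finCongr hd)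
  exact ⟨e₀.trans (Equiv.swap (e₀ ⟨b, MulAction.mem_orbit_self b⟩) 0), by simp⟩


/-- Let a finite group G act faithfully and primitively on a set Ω, let a and b be points such that the orbit Δ of b under the stabilizer H of a has d ≥ 6 elements, and suppose that the permutation group induced by H on Δ contains the alternating group of Δ (the image of H in the symmetric group of Δ has index at most 2) while H does not act faithfully on Δ. Then either H induces exactly the alternating group of Δ and H is isomorphic to the direct product of the alternating groups of degrees d and d - 1; or H induces the full symmetric group of Δ and H is isomorphic to one of: the direct product of the symmetric groups of degrees d and d - 1, the direct product of the symmetric group of degree d with the alternating group of degree d - 1, or the subgroup of the direct product of the symmetric groups of degrees d and d - 1 consisting of the pairs of permutations with equal signs. -/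
theorem result {G Ω : Type*} [Group G] [Finite G] [MulAction G Ω] [FaithfulSMul G Ω] [Finite Ω]
    (hprim : MulAction.IsPreprimitive G Ω) (a b : Ω) (d : ℕ) (hd : Nat.card (MulAction.orbit (MulAction.stabilizer G a) b) = d) (h6 : 6 ≤ d)
    (halt : (MulAction.toPermHom (MulAction.stabilizer G a) (MulAction.orbit (MulAction.stabilizer G a) b)).range.index ≤ 2)
    (hunf : ¬ Function.Injective (MulAction.toPermHom (MulAction.stabilizer G a) (MulAction.orbit (MulAction.stabilizer G a) b))) :
    ((MulAction.toPermHom (MulAction.stabilizer G a) (MulAction.orbit (MulAction.stabilizer G a) b)).range.index = 2 ∧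
      Nonempty (MulAction.stabilizer G a ≃* alternatingGroup (Fin d) × alternatingGroup (Fin (d - 1)))) ∨
    ((MulAction.toPermHom (MulAction.stabilizer G a) (MulAction.orbit (MulAction.stabilizer G a) b)).range = ⊤ ∧
      (Nonempty (MulAction.stabilizer G a ≃* Equiv.Perm (Fin d) × Equiv.Perm (Fin (d - 1))) ∨
       Nonempty (MulAction.stabilizer G a ≃* Equiv.Perm (Fin d) × alternatingGroup (Fin (d - 1))) ∨
       Nonempty (MulAction.stabilizer G a ≃* ((Equiv.Perm.sign.comp (MonoidHom.fst (Equiv.Perm (Fin d)) (Equiv.Perm (Fin (d - 1))))) *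
         (Equiv.Perm.sign.comp (MonoidHom.snd (Equiv.Perm (Fin d)) (Equiv.Perm (Fin (d - 1)))))).ker))) := by
  classical
  obtain ⟨m, rfl⟩ : ∃ m, d = m + 1 := ⟨d - 1, by omega⟩
  have hm : 5 ≤ m := by omega
  have h2 : 2 ≤ m + 1 := by omega
  set M₁ := MulAction.stabilizer G a with hM₁
  set M₂ := MulAction.stabilizer G b with hM₂
  obtain ⟨e, he⟩ := exists_equiv hd
  set e₁ : Edge M₁ M₂ m := edgeOf e he
  have hab := Suborbit.ne_of_two_le hd h2
  haveI : Nontrivial Ω := ⟨⟨a, b, hab⟩⟩
  haveI := hprim.toIsPretransitive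
  obtain ⟨g, hg⟩ := MulAction.exists_smul_eq G a b
  have hconj : M₂ = M₁.map (MulAut.conj g).toMonoidHom := by
    show MulAction.stabilizer G b = _
    rw [← hg, MulAction.stabilizer_smul_eq_stabilizer_map_conj]
  have hr1 : M₂.relIndex M₁ = m + 1 := by
    show (M₂.subgroupOf M₁).index = m + 1
    rw [show M₂.subgroupOf M₁ = MulAction.stabilizer M₁ b from rfl, MulAction.index_stabilizer, ← hd,
      Nat.card_coe_set_eq]
  have hcards : Nat.card M₂ = Nat.card M₁ := by
    rw [hconj]; exact card_map_of_injective (MulAut.conj g).injective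
  have hd2 : Nat.card (MulAction.orbit M₂ a) = m + 1 := by
    have e1 := card_mul_index (M₂.subgroupOf M₁)
    have e2 := card_mul_index (M₁.subgroupOf M₂)
    have e3 : Nat.card (M₂.subgroupOf M₁) = Nat.card (M₁.subgroupOf M₂) := by
      rw [← card_subtype, ← card_subtype, subgroupOf_map_subtype, subgroupOf_map_subtype, inf_comm]
    rw [show (M₂.subgroupOf M₁).index = m + 1 from hr1, e3, ← hcards, ← e2] at e1
    rw [Nat.card_coe_set_eq, ← MulAction.index_stabilizer M₂ a]
    exact (Nat.eq_of_mul_eq_mul_left Nat.card_pos e1).symm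
  obtain ⟨e', he'⟩ := exists_equiv hd2
  set e₂ : Edge M₂ M₁ m := edgeOf e' he'
  -- the range on the orbit
  set T := MulAction.toPermHom M₁ (MulAction.orbit M₁ b) with hT
  have hrange : e₁.f.range = T.range.map e.permCongrHom.toMonoidHom := by
    rw [← MonoidHom.range_comp]; rfl
  have hindex : e₁.f.range.index = T.range.index := by
    rw [hrange, index_map_of_bijective (MulEquiv.bijective _)]
  have hA : alternatingGroup (Fin (m + 1)) ≤ e₁.f.range :=
    Perm.alternatingGroup_le_of_index_le_two (hindex ▸ halt)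
  have hne : e₁.K ≠ ⊥ := by
    intro hb
    apply hunf
    rw [injective_iff_map_eq_one]
    intro x hx
    have h1 : e₁.f x = 1 := by
      show e.permCongr (T x) = 1
      rw [hx]; ext; simp
    have : (x : G) ∈ e₁.K := e₁.mem_K.2 ⟨x.2, h1⟩
    rw [hb, mem_bot] at this
    exact Subtype.ext this
  -- the two-point stabiliser has trivial Fitting subgroup
  set X := (M₂.subgroupOf M₁).map T with hX
  have hF : Cfsg.fittingSubgroup X = ⊥ := by
    have hfix : ∀ σ : X, e.permCongr (σ : Perm (MulAction.orbit M₁ b)) 0 = 0 := by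
      rintro ⟨_, x, hx, rfl⟩
      exact (e₁.stab x).2 hx
    let j : X →* Perm (Fin m) := (res m).comp ((e.permCongrHom.toMonoidHom.comp X.subtype).codRestrict
      (MulAction.stabilizer (Perm (Fin (m + 1))) (0 : Fin (m + 1)))
      fun σ => MulAction.mem_stabilizer_iff.2 (hfix σ))
    have hj : Function.Injective j := res_injective.comp fun σ τ h =>
      Subtype.ext (e.permCongrHom.injective (congrArg Subtype.val h))
    have hjA : alternatingGroup (Fin m) ≤ j.range := by
      intro τ hτ
      obtain ⟨z, rfl⟩ := e₁.alt_le_pi hA hτ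
      exact ⟨⟨T (Subgroup.inclusion inf_le_left z), _, z.2.2, rfl⟩, congrArg (res m) (Subtype.ext rfl)⟩
    haveI := Components.fittingSubgroup_normal X
    have hn : alternatingGroup (Fin m) ≤
        normalizer (((Cfsg.fittingSubgroup X).map j : Subgroup _) : Set _) := by
      intro σ hσ
      obtain ⟨x, rfl⟩ := hjA hσ
      exact le_normalizer_map j ⟨x, by rw [Subgroup.normalizer_eq_top]; exact mem_top _, rfl⟩
    rcases normal_cases hm _ hn with hb | hb
    · exact (map_eq_bot_iff_of_injective _ hj).1 hb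
    · exfalso
      haveI : Group.IsNilpotent (Cfsg.fittingSubgroup X) := Components.fittingSubgroup_isNilpotent X
      haveI : Group.IsNilpotent ((Cfsg.fittingSubgroup X).map j) :=
        Group.nilpotent_of_surjective _ (j.subgroupMap_surjective _)
      haveI : Group.IsNilpotent (alternatingGroup (Fin m)) :=
        Group.nilpotent_of_mulEquiv (subgroupOfEquivOfLe hb)
      haveI : Nontrivial (alternatingGroup (Fin m)) :=
        alternatingGroup.nontrivial_of_three_le_card (by rw [Nat.card_fin]; omega)
      exact (IsSolvable.commutator_lt_top_of_nontrivial (alternatingGroup (Fin m))).ne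
        (commutator_alternatingGroup_eq_top (by rw [Nat.card_fin]; omega))
  have hfit := (S3693.result hprim a b (m + 1) hd h2 hF).1
  -- one of the second cores is trivial
  have hsecond : Suborbit.coreIn M₁ (e₁.K ⊓ e₂.K) = ⊥ ∨ Suborbit.coreIn M₂ (e₁.K ⊓ e₂.K) = ⊥ := by
    rw [e₁.K_eq_coreIn, e₂.K_eq_coreIn]
    by_contra hcon
    push Not at hcon
    obtain ⟨hA2, hB2⟩ := hcon
    have hmax : IsCoatom M₁ := (MulAction.isCoatom_stabilizer_iff_preprimitive G a).2 hprim
    have hne' : M₁ ≠ M₂ := by
      intro e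
      rw [← e, Subgroup.relIndex_self] at hr1
      omega
    have hcore : M₁.normalCore = ⊥ := by
      rw [eq_bot_iff]
      intro x hx
      refine mem_bot.2 (FaithfulSMul.eq_of_smul_eq_smul (α := Ω) fun ω => ?_)
      obtain ⟨h, rfl⟩ := MulAction.exists_smul_eq G a ω
      rw [one_smul]
      have := MulAction.mem_stabilizer_iff.1 (hx h⁻¹)
      rw [inv_inv, mul_smul, mul_smul] at this
      simpa using congrArg (h • ·) this
    let AB : ℕ → Subgroup G × Subgroup G := fun n =>
      Nat.rec (M₁, M₂) (fun _ p => (Suborbit.coreIn M₁ (p.1 ⊓ p.2), Suborbit.coreIn M₂ (p.1 ⊓ p.2))) n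
    have hA1 : (AB 1).1 = Suborbit.coreIn M₁ M₂ := by
      show Suborbit.coreIn M₁ (M₁ ⊓ M₂) = _
      rw [Suborbit.coreIn, inf_subgroupOf_left]; rfl
    have hB1 : (AB 1).2 = Suborbit.coreIn M₂ M₁ := by
      show Suborbit.coreIn M₂ (M₁ ⊓ M₂) = _
      rw [inf_comm, Suborbit.coreIn, inf_subgroupOf_left]; rfl
    have hA2' : (AB 2).1 = Suborbit.coreIn M₁ (Suborbit.coreIn M₁ M₂ ⊓ Suborbit.coreIn M₂ M₁) := by
      show Suborbit.coreIn M₁ ((AB 1).1 ⊓ (AB 1).2) = _
      rw [hA1, hB1]
    have hB2' : (AB 2).2 = Suborbit.coreIn M₂ (Suborbit.coreIn M₁ M₂ ⊓ Suborbit.coreIn M₂ M₁) := by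
      show Suborbit.coreIn M₂ ((AB 1).1 ⊓ (AB 1).2) = _
      rw [hA1, hB1]
    obtain ⟨p, hp, hP, -⟩ := S5752.result M₁ M₂ hmax g hconj hne' hcore
      (fun n => (AB n).1) (fun n => (AB n).2) rfl rfl (fun _ => rfl) (fun _ => rfl)
      (by show (AB 2).1 ≠ ⊥; rw [hA2']; exact hA2) (by show (AB 2).2 ≠ ⊥; rw [hB2']; exact hB2)
    haveI := Fact.mk hp
    set A₂ := Suborbit.coreIn M₁ (Suborbit.coreIn M₁ M₂ ⊓ Suborbit.coreIn M₂ M₁) with hA₂
    have hpA : IsPGroup p A₂ := by
      have h := hP.to_le (le_sup_left : (AB 2).1 ≤ _)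
      rwa [hA2'] at h
    have hle : A₂ ≤ M₁ ⊓ M₂ :=
      le_inf (Suborbit.coreIn_le_left _ _)
        ((Suborbit.coreIn_le _ _).trans (inf_le_left.trans (Suborbit.coreIn_le _ _)))
    haveI : (A₂.subgroupOf (M₁ ⊓ M₂)).Normal :=
      normal_subgroupOf_of_le_normalizer (inf_le_left.trans (Suborbit.le_normalizer_coreIn _ _))
    haveI : Group.IsNilpotent (A₂.subgroupOf (M₁ ⊓ M₂)) :=
      (hpA.comap_of_injective _ (Subgroup.subtype_injective _)).isNilpotent
    have h := Components.le_fittingSubgroup (N := A₂.subgroupOf (M₁ ⊓ M₂)) inferInstance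
    rw [hfit, le_bot_iff, subgroupOf_eq_bot, disjoint_iff, inf_eq_left.2 hle] at h
    exact hA2 h
  have hnb := noBig_of_second_core e₁ e₂ hm hsecond
  obtain ⟨hA', hcard, hK⟩ := opposite e₁ e₂ hm hnb hconj hA
  have hne2 : e₂.K ≠ ⊥ := by
    rw [hK]
    exact (map_eq_bot_iff_of_injective _ (MulAut.conj g).injective).not.2 hne
  have hL : e₁.K ⊓ e₂.K = ⊥ := by
    rcases hsecond with h | h
    · exact inf_eq_bot e₁ e₂ hm h hK hA hA' hne
    · rw [inf_comm] at h ⊢
      refine inf_eq_bot e₂ e₁ hm h (g := g⁻¹) ?_ hA' hA hne2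
      rw [hK, map_map]
      conv_lhs => rw [← Subgroup.map_id e₁.K]
      congr 1
      ext x
      simp [mul_assoc]
  rcases structure_of_inf_eq_bot e₁ e₂ hm hL hA hA' hne hne2 hcard with ⟨hi, hiso⟩ | ⟨hi, hiso⟩
  · exact Or.inl ⟨hindex ▸ hi, hiso⟩
  · refine Or.inr ⟨?_, hiso.elim Or.inl fun h => Or.inr (Or.inr h)⟩
    rw [← index_eq_one, ← hindex, hi, index_top]


end Cfsg.Agent.S3687
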