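import Cfsg.Statements.S3696
-- import your own Cfsg.Agent.* helpers here

set_option autoImplicit false
open Cfsg

namespace Cfsg.Agent.S3696

/-- Two-term weighted AM-GM in integral form. -/
theorem amgm_two (a b d e : ℕ) :
    a ^ d * b ^ e * (d + e) ^ (d + e) ≤ (a + b) ^ (d + e) * (d ^ d * e ^ e) := by
  rcases Nat.eq_zero_or_pos d with rfl | hd
  · simp only [pow_zero, one_mul, zero_add]; gcongr; omega
  rcases Nat.eq_zero_or_pos e with rfl | he
  · simp only [pow_zero, mul_one, add_zero]; gcongr; omega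
  have hd' : (0 : ℝ) < d := by exact_mod_cast hd
  have he' : (0 : ℝ) < e := by exact_mod_cast he
  have key := Real.geom_mean_le_arith_mean2_weighted (w₁ := (d : ℝ) / (d + e)) (w₂ := (e : ℝ) / (d + e))
    (p₁ := (a : ℝ) / d) (p₂ := (b : ℝ) / e) (by positivity) (by positivity) (by positivity) (by positivity)
    (by field_simp)
  have key' := pow_le_pow_left₀ (by positivity) key (d + e)
  rw [mul_pow, ← Real.rpow_mul_natCast (by positivity), ← Real.rpow_mul_natCast (by positivity)] at key'
  have e1 : (d : ℝ) / (d + e) * ((d + e : ℕ) : ℝ) = (d : ℝ) := by push_cast; field_simp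
  have e2 : (e : ℝ) / (d + e) * ((d + e : ℕ) : ℝ) = (e : ℝ) := by push_cast; field_simp
  rw [e1, e2, Real.rpow_natCast, Real.rpow_natCast, div_pow, div_pow] at key'
  have e3 : (d : ℝ) / (d + e) * ((a : ℝ) / d) + (e : ℝ) / (d + e) * ((b : ℝ) / e) = ((a : ℝ) + b) / (d + e) := by
    field_simp
  rw [e3, div_pow, div_mul_div_comm, div_le_div_iff₀ (by positivity) (by positivity)] at key'
  exact_mod_cast key'

theorem single_bound (m d : ℕ) (h : 2 ^ d ≤ m) (hd : 0 < d) : m * d ^ d ≤ m ^ d := by
  obtain ⟨c, rfl⟩ : ∃ c, d = c + 1 := ⟨d - 1, by omega⟩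
  calc m * (c + 1) ^ (c + 1) ≤ m * (2 ^ c) ^ (c + 1) :=
        Nat.mul_le_mul_left m (Nat.pow_le_pow_left Nat.lt_two_pow_self (c + 1))
    _ = m * (2 ^ (c + 1)) ^ c := by rw [← pow_mul, ← pow_mul, Nat.mul_comm c]
    _ ≤ m * m ^ c := Nat.mul_le_mul_left m (Nat.pow_le_pow_left h c)
    _ = m ^ (c + 1) := by rw [pow_succ']

open MulAction in
/-- Greedy choice of orbits separating an elementary part `D` of an abelian permutation group. -/
theorem exists_points {Ω A : Type*} [CommGroup A] [Finite A] [MulAction A Ω] [FaithfulSMul A Ω] [Finite Ω]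
    (p : ℕ) (hp : p.Prime) (hA : IsPGroup p A) :
    ∀ (e : ℕ) (D : Subgroup A), Nat.card D = p ^ e →
      ∃ T : Finset Ω, (∀ x ∈ T, ¬ D ≤ stabilizer A x) ∧
        (∀ x ∈ T, ∀ y ∈ T, x ≠ y → Disjoint (orbit A x) (orbit A y)) ∧
        (∀ g ∈ D, (∀ x ∈ T, g • x = x) → g = 1) ∧
        (∏ x ∈ T, (stabilizer A x).index) * e ^ e ≤ (∑ x ∈ T, (stabilizer A x).index) ^ e := by
  intro e
  induction e using Nat.strong_induction_on with
  | _ e ih =>
    intro D hD
    rcases Nat.eq_zero_or_pos e with rfl | he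
    · refine ⟨∅, by simp, by simp, fun g hg _ => ?_, by simp⟩
      rw [pow_zero] at hD
      rw [Subgroup.card_eq_one.1 hD] at hg
      exact Subgroup.mem_bot.1 hg
    classical
    obtain ⟨x, hx⟩ : ∃ x : Ω, ¬ D ≤ stabilizer A x := by
      by_contra! h
      have : D = ⊥ := (Subgroup.eq_bot_iff_forall _).2 fun g hg =>
        FaithfulSMul.eq_of_smul_eq_smul (α := Ω) fun y => by rw [one_smul]; exact h y hg
      rw [this, Subgroup.card_bot] at hD
      exact absurd hD.symm (Nat.one_lt_pow he.ne' hp.one_lt).ne'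
    haveI : Fact p.Prime := ⟨hp⟩
    obtain ⟨e', he'⟩ := (hA.to_subgroup (D ⊓ stabilizer A x)).exists_card_eq
    have hlt : Nat.card ↥(D ⊓ stabilizer A x) < Nat.card D := by
      refine lt_of_le_of_ne (Subgroup.card_le_of_le inf_le_left) fun h => hx ?_
      have := Subgroup.eq_of_le_of_card_ge inf_le_left h.ge
      exact this ▸ inf_le_right
    rw [he', hD, Nat.pow_lt_pow_iff_right hp.one_lt] at hlt
    obtain ⟨T, hT1, hT2, hT3, hT4⟩ := ih e' hlt _ he'
    have hxorb : ∀ y ∈ T, Disjoint (orbit A x) (orbit A y) := by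
      intro y hy
      rw [Set.disjoint_left]
      intro z hzx hzy
      apply hT1 y hy
      obtain ⟨g, rfl⟩ := hzx
      obtain ⟨h, hh⟩ := hzy
      intro d hd
      have hdx : d • x = x := hd.2
      have hy' : y = (h⁻¹ * g) • x := by
        simp only at hh
        rw [mul_smul, ← hh, inv_smul_smul]
      rw [mem_stabilizer_iff, hy', smul_smul, mul_comm d, mul_smul, hdx]
    have hxT : x ∉ T := fun h => Set.disjoint_left.1 (hxorb x h) (mem_orbit_self x) (mem_orbit_self x)
    refine ⟨insert x T, ?_, ?_, ?_, ?_⟩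
    · intro y hy
      rcases Finset.mem_insert.1 hy with rfl | hy
      · exact hx
      · exact fun h => hT1 y hy (inf_le_left.trans h)
    · intro y hy z hz hne
      rcases Finset.mem_insert.1 hy with hy' | hy' <;> rcases Finset.mem_insert.1 hz with hz' | hz'
      · exact absurd (hy'.trans hz'.symm) hne
      · rw [hy']; exact hxorb z hz'
      · rw [hz']; exact (hxorb y hy').symm
      · exact hT2 y hy' z hz' hne
    · intro g hg hfix
      exact hT3 g ⟨hg, hfix x (Finset.mem_insert_self x T)⟩ fun y hy => hfix y (Finset.mem_insert_of_mem hy)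
    · rw [Finset.prod_insert hxT, Finset.sum_insert hxT]
      set m := (stabilizer A x).index
      set P := ∏ y ∈ T, (stabilizer A y).index
      set S := ∑ y ∈ T, (stabilizer A y).index
      obtain ⟨d, rfl⟩ : ∃ d, e = d + e' := ⟨e - e', by omega⟩
      have hd : 0 < d := by omega
      have hm : p ^ d ≤ m := by
        have h1 : (stabilizer A x).relIndex D ≤ m :=
          Nat.le_of_dvd (Nat.pos_of_ne_zero Subgroup.index_ne_zero_of_finite) (Subgroup.relIndex_dvd_index_of_normal _ _)
        have h2 := Subgroup.card_mul_index ((stabilizer A x).subgroupOf D)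
        rw [hD, ← Subgroup.inf_subgroupOf_left, Nat.card_congr (Subgroup.subgroupOfEquivOfLe inf_le_left).toEquiv, he',
          Subgroup.inf_subgroupOf_left, pow_add, mul_comm (p ^ d)] at h2
        exact (Nat.eq_of_mul_eq_mul_left (pow_pos hp.pos e') h2) ▸ h1
      have h1 := single_bound m d ((Nat.pow_le_pow_left hp.two_le d).trans hm) hd
      have h2 := amgm_two m S d e'
      have h3 : m * P * (d + e') ^ (d + e') * (d ^ d * e' ^ e') ≤ (m + S) ^ (d + e') * (d ^ d * e' ^ e') := by
        refine le_trans ?_ h2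
        calc m * P * (d + e') ^ (d + e') * (d ^ d * e' ^ e')
            = (m * d ^ d) * (P * e' ^ e') * (d + e') ^ (d + e') := by ring
          _ ≤ _ := by gcongr
      refine Nat.le_of_mul_le_mul_right h3 (Nat.mul_pos (pow_pos hd d) ?_)
      rcases Nat.eq_zero_or_pos e' with h | h
      · simp [h]
      · exact pow_pos h e'

/-- Let p be a prime, Ω a finite set with n ≥ p elements, and A an abelian p-subgroup of the symmetric group on Ω whose elements of order dividing p number p^k (so k is the rank of A). Then |A| · k^k ≤ n^k, that is, |A| ≤ (n/k)^k. -/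
theorem result {Ω : Type*} [Fintype Ω] [DecidableEq Ω]
    (p : ℕ) (hp : p.Prime) (hn : p ≤ Fintype.card Ω) (A : Subgroup (Equiv.Perm Ω)) (hA : IsPGroup p A) (hab : IsMulCommutative A)
    (k : ℕ) (hk : Nat.card {x : A // x ^ p = 1} = p ^ k) :
    Nat.card A * k ^ k ≤ Fintype.card Ω ^ k := by
  classical
  haveI : Fact p.Prime := ⟨hp⟩
  letI : CommGroup A := { (inferInstance : Group A) with mul_comm := fun a b => hab.is_comm.comm a b }
  let D : Subgroup A :=
    { carrier := {x : A | x ^ p = 1}
      one_mem' := one_pow p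
      mul_mem' := fun {a b} ha hb => by
        simp only [Set.mem_ofPred_eq] at *
        rw [mul_pow, ha, hb, mul_one]
      inv_mem' := fun {a} ha => by
        simp only [Set.mem_ofPred_eq] at *
        rw [inv_pow, ha, inv_one] }
  have hD : Nat.card D = p ^ k := hk
  obtain ⟨T, -, hT2, hT3, hT4⟩ := exists_points (Ω := Ω) p hp hA k D hD
  have hker : ⨅ x : T, MulAction.stabilizer A (x : Ω) = ⊥ := by
    by_contra hne
    set K := ⨅ x : T, MulAction.stabilizer A (x : Ω)
    obtain ⟨j, hj⟩ := (hA.to_subgroup K).exists_card_eq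
    rcases j with _ | j
    · exact hne (Subgroup.card_eq_one.1 (hj.trans (pow_zero p)))
    obtain ⟨g, hg⟩ := exists_prime_orderOf_dvd_card' p (G := K) (hj ▸ dvd_pow_self p j.succ_ne_zero)
    have hgp : (g : A) ^ p = 1 := by rw [← SubgroupClass.coe_pow, ← hg, pow_orderOf_eq_one]; rfl
    have := hT3 g hgp fun x hx => (Subgroup.mem_iInf.1 g.2 ⟨x, hx⟩)
    have h1 : g = 1 := Subtype.ext this
    rw [h1, orderOf_one] at hg
    exact hp.one_lt.ne hg
  have hcard : Nat.card A ≤ ∏ x ∈ T, (MulAction.stabilizer A x).index := by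
    rw [← Finset.prod_coe_sort, ← Subgroup.index_bot, ← hker]
    exact Subgroup.index_iInf_le _
  have hsum : ∑ x ∈ T, (MulAction.stabilizer A x).index ≤ Fintype.card Ω := by
    calc ∑ x ∈ T, (MulAction.stabilizer A x).index = ∑ x ∈ T, (MulAction.orbit A x).toFinset.card := by
          refine Finset.sum_congr rfl fun x _ => ?_
          rw [MulAction.index_stabilizer, Set.ncard_eq_toFinset_card']
      _ = (T.biUnion fun x => (MulAction.orbit A x).toFinset).card := by
          rw [Finset.card_biUnion]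
          intro x hx y hy hne
          exact Set.disjoint_toFinset.2 (hT2 x hx y hy hne)
      _ ≤ _ := Finset.card_le_univ _
  exact ((Nat.mul_le_mul_right _ hcard).trans hT4).trans (Nat.pow_le_pow_left hsum k)

end Cfsg.Agent.S3696
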