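import Cfsg.Statements.S3703
import Cfsg.Agent.Lib.Coprime.Commutator
import Cfsg.Agent.Lib.PGroup.Frattini
import Cfsg.Agent.Lib.Components.Fitting

set_option autoImplicit false
open Cfsg

namespace Cfsg.Agent.S3703

open scoped Pointwise commutatorElement

variable {G : Type*} [Group G] [Finite G]

/-- Core: if every `v * g`, `v` in the `p`-group `P`, has `m`-th power one and `⟨g⟩` acts semiregularly
on `R`, then `R` centralises `P`. -/
theorem norm_trick {p : ℕ} [Fact p.Prime] (P R : Subgroup G) (hP : IsPGroup p P)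
    (hcop : (Nat.card R).Coprime (Nat.card P)) (hRP : R ≤ Subgroup.normalizer (P : Set G)) (g : G)
    (hgP : g ∈ Subgroup.normalizer (P : Set G)) (hgR : g ∈ Subgroup.normalizer (R : Set G)) (m : ℕ) (hm : 0 < m)
    (hpow : ∀ v ∈ P, (v * g) ^ m = 1)
    (hfree : ∀ i, 0 < i → i < m → ∀ r ∈ R, g ^ i * r = r * g ^ i → r = 1) :
    R ≤ Subgroup.centralizer (P : Set G) := by
  classical
  haveI := Fintype.ofFinite R
  letI : CommGroup (P ⧸ frattini ↥P) := { (inferInstance : Group (P ⧸ frattini ↥P)) with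
    mul_comm := (Subgroup.Normal.quotient_commutative_iff_commutator_le.2
      (Cfsg.Agent.PGroup.commutator_le_frattini hP)).is_comm.comm }
  let ψ : Subgroup.normalizer (P : Set G) → (P ⧸ frattini ↥P →* P ⧸ frattini ↥P) := fun a =>
    QuotientGroup.map (frattini ↥P) (frattini ↥P) (P.normalizerMonoidHom a).toMonoidHom
      (Subgroup.characteristic_iff_comap_eq.1 frattini_characteristic (P.normalizerMonoidHom a)).ge
  have ψmul : ∀ a b v, ψ (a * b) v = ψ a (ψ b v) := by
    intro a b v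
    induction v using QuotientGroup.induction_on with
    | H x =>
      show QuotientGroup.mk' _ (P.normalizerMonoidHom (a * b) x) = QuotientGroup.mk' _ (P.normalizerMonoidHom a (P.normalizerMonoidHom b x))
      rw [map_mul]; rfl
  have ψone : ∀ v, ψ 1 v = v := by
    intro v
    induction v using QuotientGroup.induction_on with
    | H x =>
      show QuotientGroup.mk' _ (P.normalizerMonoidHom 1 x) = _
      rw [map_one]; rfl
  set γ : Subgroup.normalizer (P : Set G) := ⟨g, hgP⟩
  let ι : R → Subgroup.normalizer (P : Set G) := fun r => ⟨r, hRP r.2⟩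
  let Θ : P ⧸ frattini ↥P → P ⧸ frattini ↥P := fun v => ∏ r : R, ψ (ι r) v
  -- the norm of `g` kills everything
  have hν : ∀ v : P ⧸ frattini ↥P, ∏ i ∈ Finset.range m, ψ (γ ^ i) v = 1 := by
    intro v
    induction v using QuotientGroup.induction_on with
    | H x =>
      have key : ∀ i, ∃ q : P, ((x : G) * g) ^ i = q * g ^ i ∧
          QuotientGroup.mk' (frattini ↥P) q = ∏ j ∈ Finset.range i, ψ (γ ^ j) (QuotientGroup.mk' (frattini ↥P) x) := by
        intro i
        induction i with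
        | zero => exact ⟨1, by simp, by simp⟩
        | succ i ih =>
          obtain ⟨q, hq, hq'⟩ := ih
          refine ⟨q * P.normalizerMonoidHom (γ ^ i) x, ?_, ?_⟩
          · have : ((P.normalizerMonoidHom (γ ^ i) x : P) : G) = g ^ i * x * (g ^ i)⁻¹ := by
              show ((γ ^ i : Subgroup.normalizer (P : Set G)) : G) * x * ((γ ^ i : Subgroup.normalizer (P : Set G)) : G)⁻¹ = _
              rw [SubgroupClass.coe_pow]
            rw [pow_succ, hq, Subgroup.coe_mul, this, pow_succ]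
            group
          · rw [map_mul, hq', Finset.prod_range_succ]
            rfl
      obtain ⟨q, hq, hq'⟩ := key m
      have hg : g ^ m = 1 := by simpa using hpow 1 P.one_mem
      rw [hpow x x.2, hg, mul_one] at hq
      have : q = 1 := Subtype.ext hq.symm
      rw [this, map_one] at hq'
      exact hq'.symm
  have hR : ∀ r : R, ∀ v, ψ (ι r) (Θ v) = Θ v := by
    intro r v
    show ψ (ι r) (∏ s : R, ψ (ι s) v) = ∏ s : R, ψ (ι s) v
    rw [map_prod]
    refine Fintype.prod_equiv (Equiv.mulLeft r) _ _ fun s => ?_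
    rw [← ψmul]; rfl
  -- the fixed-point conclusion
  have hfix : ∀ r : R, ∀ v : P ⧸ frattini ↥P, ψ (ι r) v = v := by
    intro r v
    have hswap : ∀ i, 0 < i → i < m →
        (∏ s : R, ψ (ι s) (ψ (γ ^ i) (ψ (ι s⁻¹) v))) = Θ (ψ (γ ^ i) v) := by
      intro i hi0 him
      have hgi : g ^ i ∈ Subgroup.normalizer (R : Set G) := pow_mem hgR i
      let σ : R → R := fun s => ⟨(s : G) * (g ^ i * (s : G)⁻¹ * (g ^ i)⁻¹),
        mul_mem s.2 ((Subgroup.mem_normalizer_iff.1 hgi _).1 (inv_mem s.2))⟩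
      have hσ : Function.Injective σ := by
        intro s t h
        have h' : (s : G) * (g ^ i * (s : G)⁻¹ * (g ^ i)⁻¹) = (t : G) * (g ^ i * (t : G)⁻¹ * (g ^ i)⁻¹) :=
          congrArg Subtype.val h
        refine inv_mul_eq_one.1 (Subtype.ext (hfree i hi0 him ((t⁻¹ * s : R) : G) (t⁻¹ * s).2 ?_) : t⁻¹ * s = 1) |>.symm
        have h'' : (t : G)⁻¹ * s = g ^ i * ((t : G)⁻¹ * s) * (g ^ i)⁻¹ := by
          calc (t : G)⁻¹ * s = (t : G)⁻¹ * ((s : G) * (g ^ i * (s : G)⁻¹ * (g ^ i)⁻¹)) * (g ^ i * s * (g ^ i)⁻¹) := by group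
            _ = _ := by rw [h']; group
        simp only [Subgroup.coe_mul, Subgroup.coe_inv]
        conv_rhs => rw [h'']
        simp [mul_assoc]
      refine Fintype.prod_bijective σ (Finite.injective_iff_bijective.1 hσ) _ _ fun s => ?_
      rw [← ψmul, ← ψmul, ← ψmul]
      congr 2
      ext
      simp [σ, ι, γ, mul_assoc]
    have hS : ∏ i ∈ Finset.range m, ∏ s : R, ψ (ι s) (ψ (γ ^ i) (ψ (ι s⁻¹) v)) = 1 := by
      rw [Finset.prod_comm]
      refine Finset.prod_eq_one fun s _ => ?_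
      rw [← map_prod, hν, map_one]
    obtain ⟨m', rfl⟩ : ∃ m', m = m' + 1 := ⟨m - 1, by omega⟩
    rw [Finset.prod_range_succ'] at hS
    have h0 : (∏ s : R, ψ (ι s) (ψ (γ ^ 0) (ψ (ι s⁻¹) v))) = v ^ Nat.card R := by
      rw [Nat.card_eq_fintype_card, ← Finset.card_univ, ← Finset.prod_const]
      refine Finset.prod_congr rfl fun s _ => ?_
      rw [pow_zero, ψone, ← ψmul, show ι s * ι s⁻¹ = 1 from Subtype.ext (mul_inv_cancel (s : G)), ψone]
    rw [h0, Finset.prod_congr rfl fun i hi => hswap (i + 1) (by omega) (by have := Finset.mem_range.1 hi; omega),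
      mul_eq_one_iff_eq_inv'] at hS
    have h1 : ψ (ι r) (v ^ Nat.card R) = v ^ Nat.card R := by
      rw [hS, map_inv, map_prod, Finset.prod_congr rfl fun i _ => hR r _]
    rw [map_pow] at h1
    have hcV : (Nat.card R).Coprime (Nat.card (P ⧸ frattini ↥P)) :=
      hcop.coprime_dvd_right (Subgroup.card_quotient_dvd_card _)
    exact (powCoprime hcV.symm).injective h1
  refine Cfsg.Agent.Coprime.le_centralizer_of_frattini hRP
    (hcop.coprime_dvd_right (Subgroup.card_subgroup_dvd_card _)) fun a ha k hk => ?_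
  have h := hfix ⟨a, ha⟩ (QuotientGroup.mk' (frattini ↥P) ⟨k, hk⟩)
  have h' : QuotientGroup.mk' (frattini ↥P) (P.normalizerMonoidHom ⟨a, hRP ha⟩ ⟨k, hk⟩) =
      QuotientGroup.mk' (frattini ↥P) ⟨k, hk⟩ := h
  rw [← mul_inv_eq_one, ← map_inv, ← map_mul, ← MonoidHom.mem_ker, QuotientGroup.ker_mk'] at h'
  exact ⟨_, h', rfl⟩

/-- In a Frobenius group a nontrivial element of the complement has no fixed point in the kernel. -/
theorem fpf_complement {Q : Type*} [Group Q] {F H : Subgroup Q} [F.Normal] (hH : Cfsg.IsFrobeniusComplement H)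
    (hker : Cfsg.frobeniusKernel H = (F : Set Q)) {y r : Q} (hy : y ∉ F) (hr : r ∈ F) (hcomm : y * r = r * y) : r = 1 := by
  have hy' : y ∉ Cfsg.frobeniusKernel H := by rw [hker]; exact hy
  simp only [Cfsg.frobeniusKernel, Set.mem_ofPred_eq, not_or, not_forall, not_not] at hy'
  obtain ⟨hy1, c, hc⟩ := hy'
  rw [Cfsg.Agent.Coprime.mem_conj_smul_iff] at hc
  set k := c⁻¹ * y * c with hk
  set s := c⁻¹ * r * c with hs
  have hsF : s ∈ F := by simpa [hs] using ‹F.Normal›.conj_mem r hr c⁻¹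
  have hsk : k * s = s * k := by
    calc k * s = c⁻¹ * (y * r) * c := by rw [hk, hs]; group
      _ = _ := by rw [hcomm, hk, hs]; group
  by_contra hne
  have hs1 : s ≠ 1 := fun h => hne (by
    calc r = c * s * c⁻¹ := by rw [hs]; group
      _ = 1 := by rw [h]; group)
  have hsH : s ∉ H := fun h => by
    have : s ∈ Cfsg.frobeniusKernel H := by rw [hker]; exact hsF
    rcases this with h1 | h1
    · exact hs1 h1
    · exact h1 1 (by simpa using h)
  have hmem : k ∈ H ⊓ MulAut.conj s • H := by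
    refine ⟨hc, Cfsg.Agent.Coprime.mem_conj_smul_iff.2 ?_⟩
    rw [mul_assoc, hsk, inv_mul_cancel_left]
    exact hc
  rw [hH.2.2 s hsH, Subgroup.mem_bot] at hmem
  exact hy1 (by
    calc y = c * k * c⁻¹ := by rw [hk]; group
      _ = 1 := by rw [hmem]; group)

/-- Let N be a normal subgroup of the finite group G such that G/N is a Frobenius group with kernel F and cyclic complement H, where the order of F is coprime to that of N and F is not contained in the image of C_G(N) in G/N. Then G has an element of order p·#H for some prime p dividing the order of N. (A standard tool in recognising groups by their element orders.) -/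
theorem result {G : Type*} [Group G] [Finite G] (N : Subgroup G) [N.Normal]
    (Fb Hb : Subgroup (G ⧸ N)) [Fb.Normal] (hHb : Cfsg.IsFrobeniusComplement Hb) (hker : Cfsg.frobeniusKernel Hb = (Fb : Set (G ⧸ N)))
    (hcyc : IsCyclic Hb) (hcop : (Nat.card Fb).Coprime (Nat.card N))
    (hnot : ¬ Fb ≤ (Subgroup.centralizer (N : Set G)).map (QuotientGroup.mk' N)) :
    ∃ p : ℕ, p.Prime ∧ p ∣ Nat.card N ∧ ∃ g : G, orderOf g = p * Nat.card Hb := by
  classical
  set m := Nat.card Hb with hm
  set π := QuotientGroup.mk' N with hπ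
  by_contra hcon
  push Not at hcon
  set F₁ := Fb.comap π with hF₁
  have hNF : N ≤ F₁ := le_of_eq_of_le (QuotientGroup.ker_mk' N).symm (MonoidHom.ker_le_comap _ _)
  have hπF : F₁.map π = Fb := Subgroup.map_comap_eq_self_of_surjective (QuotientGroup.mk'_surjective N) Fb
  -- a Sylow subgroup of the preimage of the kernel, prime to `N`, not centralising `N`
  obtain ⟨r, hr, R, hrN, hRC⟩ : ∃ r : ℕ, r.Prime ∧ ∃ R : Sylow r F₁, ¬ r ∣ Nat.card N ∧
      ¬ (R : Subgroup F₁).map F₁.subtype ≤ Subgroup.centralizer (N : Set G) := by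
    by_contra h
    push Not at h
    refine hnot ?_
    rw [← hπF]
    have htop : (Subgroup.centralizer (N : Set G) ⊔ N).subgroupOf F₁ = ⊤ := by
      refine Cfsg.Agent.Components.eq_top_of_forall_sylow fun r hr hd => ?_
      haveI := Fact.mk hr
      refine ⟨default, ?_⟩
      refine Subgroup.map_le_iff_le_comap.1 ?_
      by_cases hrN : r ∣ Nat.card N
      · refine le_trans (fun x hx => ?_) le_sup_right
        obtain ⟨y, hy, rfl⟩ := hx
        rw [← QuotientGroup.ker_mk' N, MonoidHom.mem_ker, ← orderOf_eq_one_iff]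
        obtain ⟨k, hk⟩ := (default : Sylow r F₁).2.exists_card_eq
        have h1 : orderOf (π (y : G)) ∣ r ^ k := (orderOf_map_dvd π (y : G)).trans (by
          rw [Subgroup.orderOf_coe, ← hk]; exact Subgroup.orderOf_dvd_natCard _ hy)
        have h2 : orderOf (π (y : G)) ∣ Nat.card Fb := Subgroup.orderOf_dvd_natCard Fb y.2
        have h3 : (r ^ k).Coprime (Nat.card Fb) := Nat.Coprime.pow_left k (hcop.symm.coprime_dvd_left hrN)
        exact Nat.eq_one_of_dvd_coprimes h3 h1 h2
      · exact (h r hr default hrN).trans le_sup_left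
    refine (Subgroup.map_mono (Subgroup.subgroupOf_eq_top.1 htop)).trans ?_
    rw [Subgroup.map_sup, show N.map π = ⊥ by rw [Subgroup.map_eq_bot_iff, QuotientGroup.ker_mk'], sup_bot_eq]
  haveI := Fact.mk hr
  set R' := (R : Subgroup F₁).map F₁.subtype with hR'
  have hRF : R' ≤ F₁ := Subgroup.map_subtype_le _
  have hRp : IsPGroup r R' := R.2.map F₁.subtype
  have hcopRN : (Nat.card R').Coprime (Nat.card N) := by
    obtain ⟨k, hk⟩ := hRp.exists_card_eq
    rw [hk]
    exact Nat.Coprime.pow_left k ((Nat.Prime.coprime_iff_not_dvd hr).2 hrN)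
  have hRN : R' ≤ Subgroup.normalizer (N : Set G) :=
    (Subgroup.normalizer_eq_top_iff.2 ‹N.Normal› : Subgroup.normalizer (N : Set G) = ⊤) ▸ le_top
  have hRs : Group.IsSolvable R' := by
    haveI := hRp.isNilpotent
    infer_instance
  -- a lift `g` of a generator, normalising `R'`
  obtain ⟨⟨h, hh⟩, hgen⟩ := hcyc.exists_ofOrder_eq_natCard
  obtain ⟨l, hl⟩ := QuotientGroup.mk'_surjective N h
  haveI : F₁.Normal := inferInstance
  have hlmem : l ∈ Subgroup.normalizer (R' : Set G) ⊔ F₁ := by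
    rw [hR', Sylow.normalizer_sup_eq_top R]; exact Subgroup.mem_top l
  rw [← SetLike.mem_coe, Subgroup.coe_mul_of_left_le_normalizer_right _ _
    ((Subgroup.normalizer_eq_top_iff.2 ‹F₁.Normal› : Subgroup.normalizer (F₁ : Set G) = ⊤) ▸ le_top)] at hlmem
  obtain ⟨g₀, hg₀, f, hf, hgf⟩ := hlmem
  have hπg : π g₀ = h * (π f)⁻¹ := by rw [← hl, ← hgf, map_mul, mul_inv_cancel_right]
  have hord : ∀ i : ℕ, (π g₀) ^ i ∈ Fb → m ∣ i := by
    intro i hi
    have h1 : h ^ i ∈ Fb := by
      have : ((π g₀) ^ i : G ⧸ N) = (h * (π f)⁻¹) ^ i := by rw [hπg]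
      rw [this, ← QuotientGroup.eq_one_iff, QuotientGroup.mk_pow, QuotientGroup.mk_mul,
        (QuotientGroup.eq_one_iff ((π f)⁻¹)).2 (inv_mem (hf : π f ∈ Fb)), mul_one, ← QuotientGroup.mk_pow,
        QuotientGroup.eq_one_iff] at hi
      exact hi
    have h2 : h ^ i ∈ Cfsg.frobeniusKernel Hb := by rw [hker]; exact h1
    have h3 : h ^ i = 1 := h2.resolve_right fun h' => h' 1 (by simpa using pow_mem hh i)
    rw [hm, ← hgen]
    exact orderOf_dvd_of_pow_eq_one (Subtype.ext h3)
  -- an `R'`-invariant Sylow subgroup of `N` not centralised by `R'`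
  obtain ⟨p, hp, P, hRP, hRPc⟩ : ∃ p : ℕ, p.Prime ∧ ∃ P : Sylow p N,
      R' ≤ Subgroup.normalizer ((P : Subgroup N).map N.subtype : Set G) ∧
      ¬ R' ≤ Subgroup.centralizer ((P : Subgroup N).map N.subtype : Set G) := by
    by_contra h
    push Not at h
    refine hRC (Subgroup.le_centralizer_iff.1 ?_)
    have : (Subgroup.centralizer (R' : Set G)).subgroupOf N = ⊤ := by
      refine Cfsg.Agent.Components.eq_top_of_forall_sylow fun q hq hd => ?_
      haveI := Fact.mk hq
      obtain ⟨P, hP⟩ := Cfsg.Agent.Coprime.exists_invariant_sylow hRN hcopRN (Or.inl hRs) q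
      exact ⟨P, Subgroup.map_le_iff_le_comap.1 (Subgroup.le_centralizer_iff.1 (h q hq P hP))⟩
    exact Subgroup.subgroupOf_eq_top.1 this
  haveI := Fact.mk hp
  set P' := (P : Subgroup N).map N.subtype with hP'
  obtain ⟨k, hk, hkg⟩ := Cfsg.Agent.Coprime.exists_mem_conj_sylow_eq P
    (show g₀ ∈ Subgroup.normalizer (N : Set G) by rw [Subgroup.normalizer_eq_top_iff.2 ‹N.Normal›]; exact Subgroup.mem_top g₀)
  have hkinv : R' ≤ Subgroup.normalizer ((((⟨k, hk⟩ : N) • P : Sylow p N) : Subgroup N).map N.subtype : Set G) := by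
    intro x hx
    rw [Sylow.coe_subgroup_smul, Cfsg.Agent.Coprime.map_conj_smul, N.coe_subtype, hkg]
    apply Cfsg.Agent.Coprime.mem_normalizer_of_conj_smul_eq
    rw [Cfsg.Agent.Coprime.conj_smul_smul]
    have h1 : g₀⁻¹ * x * g₀ ∈ R' := by simpa using (Subgroup.mem_normalizer_iff.1 (inv_mem hg₀) x).1 hx
    rw [show x * g₀ = g₀ * (g₀⁻¹ * x * g₀) by group, ← Cfsg.Agent.Coprime.conj_smul_smul,
      Cfsg.Agent.Coprime.conj_smul_eq_self_of_mem (hRP h1)]
  obtain ⟨c, hc, hcP⟩ := Cfsg.Agent.Coprime.exists_centralizer_smul_sylow hRN hcopRN (Or.inl hRs) P _ hRP hkinv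
  set g := (c : G)⁻¹ * g₀ with hg
  have hgP : g ∈ Subgroup.normalizer (P' : Set G) := by
    apply Cfsg.Agent.Coprime.mem_normalizer_of_conj_smul_eq
    have h1 := congrArg (fun T : Sylow p N => (T : Subgroup N).map N.subtype) hcP
    simp only [Sylow.coe_subgroup_smul, Cfsg.Agent.Coprime.map_conj_smul, N.coe_subtype, hkg] at h1
    rw [hg, ← Cfsg.Agent.Coprime.conj_smul_smul, ← h1, Cfsg.Agent.Coprime.conj_smul_smul, inv_mul_cancel, map_one, one_smul]
  have hgR : g ∈ Subgroup.normalizer (R' : Set G) :=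
    mul_mem (inv_mem (Subgroup.centralizer_le_normalizer _ hc)) hg₀
  have hP'N : P' ≤ N := Subgroup.map_subtype_le _
  have hone : ∀ x ∈ N, π x = 1 := fun x hx => (QuotientGroup.eq_one_iff x).2 hx
  have hπg' : ∀ v ∈ N, π (v * g) = π g₀ := fun v hv => by
    rw [map_mul, hg, map_mul, hone v hv, hone _ (inv_mem c.2), one_mul, one_mul]
  have hm0 : 0 < m := Nat.card_pos
  have hπm : (π g₀) ^ m = 1 := by
    by_contra hne
    have hyK : π g₀ ∉ Cfsg.frobeniusKernel Hb := by
      rw [hker]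
      intro h'
      have h1 : m ∣ 1 := hord 1 (by rwa [pow_one])
      exact hHb.1 (Subgroup.card_eq_one.1 (Nat.dvd_one.1 h1))
    simp only [Cfsg.frobeniusKernel, Set.mem_ofPred_eq, not_or, not_forall, not_not] at hyK
    obtain ⟨-, c', hc'⟩ := hyK
    rw [Cfsg.Agent.Coprime.mem_conj_smul_iff] at hc'
    apply hne
    have h2 : (⟨_, hc'⟩ : Hb) ^ m = 1 := pow_card_eq_one'
    have h2' : (c'⁻¹ * π g₀ * c') ^ m = 1 := congrArg Subtype.val h2
    have h3 : (c'⁻¹ * π g₀ * c'⁻¹⁻¹) ^ m = 1 := by rwa [inv_inv]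
    rw [conj_pow, inv_inv] at h3
    calc (π g₀) ^ m = c' * (c'⁻¹ * (π g₀) ^ m * c') * c'⁻¹ := by group
      _ = 1 := by rw [h3]; group
  refine hRPc (norm_trick P' R' (P.2.map N.subtype)
    (hcopRN.coprime_dvd_right (Subgroup.card_dvd_of_le hP'N)) hRP g hgP hgR m hm0 (fun v hv => ?_) ?_)
  · set z := (v * g) ^ m with hz
    by_contra hne
    have hzN : z ∈ N := by
      rw [← QuotientGroup.eq_one_iff]
      show π z = 1
      rw [hz, map_pow, hπg' v (hP'N hv), hπm]
    obtain ⟨q, hq, hqd⟩ := Nat.exists_prime_and_dvd (fun h => hne (orderOf_eq_one_iff.1 h) : orderOf z ≠ 1)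
    have hqN : q ∣ Nat.card N := hqd.trans (Subgroup.orderOf_dvd_natCard N hzN)
    have hmd : m ∣ orderOf (v * g) := by
      refine (hord _ ?_)
      rw [← hπg' v (hP'N hv), ← map_pow, pow_orderOf_eq_one, map_one]
      exact one_mem Fb
    have hord2 : orderOf (v * g) = m * orderOf z := by
      rw [hz, orderOf_pow' _ hm0.ne', Nat.gcd_eq_right hmd, Nat.mul_div_cancel' hmd]
    obtain ⟨w, hw⟩ := hqd
    refine hcon q hq hqN ((v * g) ^ w) ?_
    have hw0 : w ≠ 0 := fun h => (orderOf_pos z).ne' (by rw [hw, h, mul_zero])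
    rw [orderOf_pow' _ hw0, hord2, hw, Nat.gcd_eq_right ⟨m * q, by ring⟩, ← mul_assoc,
      Nat.mul_div_cancel _ (Nat.pos_of_ne_zero hw0), mul_comm]
  · intro i hi him x hx hcomm
    have hxF : π x ∈ Fb := hRF hx
    have hy : (π g₀) ^ i ∉ Fb := fun h => absurd (Nat.le_of_dvd hi (hord i h)) (not_le.2 him)
    have hgi : π g = π g₀ := by rw [hg, map_mul, hone _ (inv_mem c.2), one_mul]
    have h1 := fpf_complement hHb hker hy hxF (by rw [← hgi, ← map_pow, ← map_mul, ← map_mul, hcomm])
    have : x ∈ R' ⊓ N := ⟨hx, (QuotientGroup.eq_one_iff x).1 h1⟩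
    rw [Cfsg.Agent.Coprime.disjoint_of_coprime_card hcopRN, Subgroup.mem_bot] at this
    exact this

end Cfsg.Agent.S3703
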