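import Cfsg.Statements.S3704
-- import your own Cfsg.Agent.* helpers here

set_option autoImplicit false
open Cfsg

namespace Cfsg.Agent.S3704

open Matrix in
/-- Two-orbit bound from square incidence matrices with disjoint supports. -/
theorem no_third {ι : Type*} [Fintype ι] [DecidableEq ι] (N₁ N₂ N₃ : Matrix ι ι ℚ)
    (r l : ℚ) (hlr : l < r) (hl0 : 0 ≤ l)
    (h11 : ∀ i j, (N₁ * N₁ᵀ) i j = if i = j then r else l)
    (b₂ b₃ : ℚ) (h12 : ∀ i j, (N₁ * N₂ᵀ) i j = if i = j then 0 else b₂)
    (h13 : ∀ i j, (N₁ * N₃ᵀ) i j = if i = j then 0 else b₃)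
    (hdisj : ∀ i j, N₂ i j = 0 ∨ N₃ i j = 0) (h2 : ∃ i j, N₂ i j ≠ 0) (h3 : ∃ i j, N₃ i j ≠ 0) : False := by
  have hinj : Function.Injective (N₁ᵀ).mulVec := by
    intro u v huv
    have h0 : N₁ᵀ *ᵥ (u - v) = 0 := by rw [mulVec_sub, huv, sub_self]
    set w := u - v with hw
    have h1 : w ⬝ᵥ ((N₁ * N₁ᵀ) *ᵥ w) = 0 := by rw [← mulVec_mulVec, h0, mulVec_zero, dotProduct_zero]
    have h2 : w ⬝ᵥ ((N₁ * N₁ᵀ) *ᵥ w) = (r - l) * ∑ i, w i ^ 2 + l * (∑ i, w i) ^ 2 := by
      have e : ∀ i, ((N₁ * N₁ᵀ) *ᵥ w) i = (r - l) * w i + l * ∑ j, w j := by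
        intro i
        simp only [mulVec, dotProduct, h11]
        have : ∀ j, (if i = j then r else l) * w j = (if i = j then (r - l) * w j else 0) + l * w j := by
          intro j; split <;> ring
        simp only [this, Finset.sum_add_distrib, Finset.sum_ite_eq, Finset.mem_univ, if_true, Finset.mul_sum]
      simp only [dotProduct, e, mul_add, Finset.sum_add_distrib]
      rw [← Finset.sum_mul]
      congr 1
      · rw [Finset.mul_sum]; exact Finset.sum_congr rfl fun i _ => by ring
      · ring
    have hsq : (∑ i, w i ^ 2) = 0 := by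
      have hn : 0 ≤ ∑ i, w i ^ 2 := Finset.sum_nonneg fun i _ => sq_nonneg _
      have : 0 ≤ l * (∑ i, w i) ^ 2 := mul_nonneg hl0 (sq_nonneg _)
      nlinarith
    have : w = 0 := by
      funext i
      exact pow_eq_zero_iff (two_ne_zero) |>.1 ((Finset.sum_eq_zero_iff_of_nonneg fun j _ => sq_nonneg _).1 hsq i (Finset.mem_univ _))
    exact sub_eq_zero.1 this
  have hu : IsUnit N₁ := by
    have := mulVec_injective_iff_isUnit.1 hinj
    rwa [isUnit_transpose] at this
  have key : b₃ • N₂ᵀ = b₂ • N₃ᵀ := by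
    apply hu.mul_left_cancel
    ext i j
    simp only [Matrix.mul_smul, Matrix.smul_apply, h12, h13, smul_eq_mul]
    split <;> ring
  have hnz : ∀ (N : Matrix ι ι ℚ) (b : ℚ), (∀ i j, (N₁ * Nᵀ) i j = if i = j then 0 else b) →
      (∃ i j, N i j ≠ 0) → b ≠ 0 := by
    intro N b hN hne hb
    have h0 : N₁ * Nᵀ = N₁ * 0 := by ext i j; simp [hN, hb]
    obtain ⟨i, j, hij⟩ := hne
    exact hij (congrFun (congrFun (hu.mul_left_cancel h0) j) i)
  obtain ⟨i, j, hij⟩ := h2
  have hk := congrFun (congrFun key j) i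
  simp only [Matrix.smul_apply, Matrix.transpose_apply, smul_eq_mul, (hdisj i j).resolve_left hij, mul_zero] at hk
  exact (mul_ne_zero (hnz N₃ b₃ h13 h3) hij) hk

/-- Let G be a finite group acting faithfully and 2-transitively on a finite set Ω of size n, and let H be a subgroup of index n in G which is not transitive on Ω and fixes no point of Ω. Then H has exactly two orbits on Ω. -/
theorem result {G Ω : Type*} [Group G] [Finite G] [MulAction G Ω] [FaithfulSMul G Ω] [Finite Ω] (h2 : MulAction.IsMultiplyPretransitive G Ω 2) (H : Subgroup G) (hidx : H.index = Nat.card Ω) (hnt : ¬ MulAction.IsPretransitive H Ω) (hfix : ∀ a : Ω, ∃ h : H, h • a ≠ a) : Nat.card (MulAction.orbitRel.Quotient H Ω) = 2 := by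
  classical
  haveI := Fintype.ofFinite Ω
  haveI : MulAction.IsPretransitive G Ω := MulAction.isPretransitive_of_is_two_pretransitive
  obtain ⟨e⟩ : Nonempty (Ω ≃ G ⧸ H) := by
    haveI := Fintype.ofFinite (G ⧸ H)
    exact Fintype.card_eq.1 (by rw [← Nat.card_eq_fintype_card, ← Nat.card_eq_fintype_card, ← hidx]; rfl)
  let Q := MulAction.orbitRel.Quotient H Ω
  let f : Ω → (G ⧸ H) → Q := fun ω c => Quotient.liftOn' c (fun g => (Quotient.mk'' (g⁻¹ • ω) : Q))
    (fun g g' hgg => Quotient.sound' (by
      have hm : g⁻¹ * g' ∈ H := QuotientGroup.leftRel_apply.1 hgg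
      exact ⟨⟨g⁻¹ * g', hm⟩, by
        show (g⁻¹ * g') • g'⁻¹ • ω = g⁻¹ • ω
        rw [smul_smul, mul_inv_cancel_right]⟩))
  have hf : ∀ (k : G) (ω : Ω) (c : G ⧸ H), f (k • ω) (k • c) = f ω c := by
    intro k ω c
    induction c using QuotientGroup.induction_on with
    | H g =>
      show (Quotient.mk'' ((k * g)⁻¹ • k • ω) : Q) = Quotient.mk'' (g⁻¹ • ω)
      rw [smul_smul, mul_inv_rev, inv_mul_cancel_right]
  let N : Q → Matrix Ω Ω ℚ := fun q => Matrix.of fun ω i => if f ω (e i) = q then 1 else 0
  let S : Q → Q → Ω → Ω → ℚ := fun q q' ω ω' => (N q * (N q').transpose) ω ω'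
  have hS : ∀ q q' ω ω' (k : G), S q q' (k • ω) (k • ω') = S q q' ω ω' := by
    intro q q' ω ω' k
    simp only [S, N, Matrix.mul_apply, Matrix.transpose_apply, Matrix.of_apply]
    refine (Fintype.sum_equiv ((e.trans (MulAction.toPerm k)).trans e.symm) _ _ ?_).symm
    intro i
    simp [hf]
  obtain ⟨o⟩ : Nonempty Ω := by
    by_contra h; rw [not_nonempty_iff] at h
    exact hnt ⟨fun a => isEmptyElim a⟩
  obtain ⟨o', ho'⟩ : ∃ o' : Ω, o' ≠ o := by
    by_contra! h
    exact hnt ⟨fun a b => ⟨1, by rw [one_smul, h a, h b]⟩⟩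
  have hform : ∀ q q' ω ω', S q q' ω ω' = if ω = ω' then S q q' o o else S q q' o o' := by
    intro q q' ω ω'
    split_ifs with h
    · obtain ⟨k, rfl⟩ := MulAction.exists_smul_eq G o ω
      rw [← h, hS]
    · obtain ⟨k, hk, hk'⟩ := MulAction.is_two_pretransitive_iff.1 h2 (Ne.symm ho') h
      rw [← hk, ← hk', hS]
  have hdiag : ∀ q q', q ≠ q' → S q q' o o = 0 := by
    intro q q' hne
    refine Finset.sum_eq_zero fun i _ => ?_
    simp only [N, Matrix.transpose_apply, Matrix.of_apply]
    split_ifs with h h' <;> simp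
    exact hne (h.symm.trans h')
  have hsurj : ∀ q : Q, ∀ c : G ⧸ H, ∃ ω, f ω c = q := by
    intro q c
    induction c using QuotientGroup.induction_on with
    | H g =>
      induction q using Quotient.inductionOn' with
      | h x => exact ⟨g • x, by show (Quotient.mk'' (g⁻¹ • g • x) : Q) = _; rw [inv_smul_smul]⟩
  have hex : ∀ q : Q, ∃ i j, N q i j ≠ 0 := by
    intro q
    obtain ⟨ω, hω⟩ := hsurj q (e o)
    exact ⟨ω, o, by simp [N, hω]⟩
  have hlt : ∀ q : Q, S q q o o' < S q q o o ∧ 0 ≤ S q q o o' := by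
    intro q
    constructor
    · obtain ⟨i₀, j, hij⟩ := hex q
      by_contra! hle
      have hall : ∀ ω, N q ω j = 1 := by
        intro ω
        by_cases hw : i₀ = ω
        · subst hw
          clear * - hij
          simp only [N, Matrix.of_apply] at hij ⊢
          split_ifs at hij ⊢ with h
          · rfl
          · exact absurd rfl hij
        have h1 : S q q i₀ ω = S q q o o' := by rw [hform, if_neg hw]
        have h2' : S q q i₀ i₀ = S q q o o := by rw [hform, if_pos rfl]
        by_contra hne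
        have hlt' : S q q i₀ ω < S q q i₀ i₀ := by
          refine Finset.sum_lt_sum (fun c _ => ?_) ⟨j, Finset.mem_univ _, ?_⟩
          · simp only [N, Matrix.transpose_apply, Matrix.of_apply]
            split_ifs <;> norm_num
          · simp only [N, Matrix.transpose_apply, Matrix.of_apply] at hij hne ⊢
            clear * - hij hne
            by_cases ha : f i₀ (e j) = q
            · by_cases hb : f ω (e j) = q
              · exact absurd (if_pos hb) hne
              · rw [if_pos ha, if_neg hb]; norm_num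
            · exact absurd (if_neg ha) hij
        linarith
      apply hnt
      refine ⟨fun a b => ?_⟩
      obtain ⟨g, hg⟩ := QuotientGroup.mk_surjective (e j)
      have hq : ∀ x : Ω, (Quotient.mk'' x : Q) = q := by
        intro x
        have := hall (g • x)
        simp only [N, Matrix.of_apply, ← hg] at this
        have h' : f (g • x) (g : G ⧸ H) = q := by by_contra h; simp [h] at this
        simpa [f] using h'
      exact Quotient.exact' ((hq b).trans (hq a).symm)
    · exact Finset.sum_nonneg fun c _ => by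
        simp only [N, Matrix.transpose_apply, Matrix.of_apply]; split_ifs <;> norm_num
  have hle : ∀ a b c : Q, a ≠ b → a ≠ c → b ≠ c → False := by
    intro a b c hab hac hbc
    refine no_third (N a) (N b) (N c) _ _ (hlt a).1 (hlt a).2 (fun i j => hform a a i j) (S a b o o') (S a c o o')
      (fun i j => ?_) (fun i j => ?_) (fun i j => ?_) (hex b) (hex c)
    · show S a b i j = _
      rw [hform, hdiag a b hab]
    · show S a c i j = _
      rw [hform, hdiag a c hac]
    · simp only [N, Matrix.of_apply]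
      split_ifs with h h' <;> simp
      exact hbc (h.symm.trans h')
  haveI : Finite Q := Quotient.finite _
  obtain ⟨a, b, hab⟩ : ∃ a b : Q, a ≠ b := by
    by_contra! h
    exact hnt ⟨fun x y => Quotient.exact' (h (Quotient.mk'' y) (Quotient.mk'' x))⟩
  have huniv : (Set.univ : Set Q) = {a, b} := Set.eq_univ_of_forall (fun c => by
    by_contra hc
    simp only [Set.mem_insert_iff, Set.mem_singleton_iff, not_or] at hc
    exact hle a b c hab (Ne.symm hc.1) (Ne.symm hc.2)) |>.symm
  rw [← Set.ncard_univ, huniv, Set.ncard_pair hab]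

end Cfsg.Agent.S3704
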