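import Cfsg.Statements.S3709
import Cfsg.Agent.Lib.PhanAmalgam.Driver

set_option autoImplicit false
open Cfsg

namespace Cfsg.Agent.S3709

/-- Recognition of unitary groups from a weak Phan system. Let F be a finite field with q² elements, q > 3, and n ≥ 3. Let G be a group with subgroups U_0, …, U_{n−1}, each isomorphic to SU(2, q²), and, for each pair of consecutive indices, a subgroup V_{i,i+1} in which U_i and U_{i+1} form a standard pair (some isomorphism from SU(3, q²), or from its central quotient PSU(3, q²), onto V_{i,i+1} carries the two block-diagonal SU(2, q²) subgroups, or their images, onto U_i and U_{i+1}). Suppose that U_i and U_j commute elementwise whenever the indices differ by at least 2, and that G is generated by the U_i together with the V_{i,i+1}. Then G is a homomorphic image of SU(n+1, q²). (G is not assumed finite.) -/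
theorem result {G : Type*} [Group G] (n : ℕ) (hn : 3 ≤ n)
    (F : Type*) [Field F] [Fintype F] (q : ℕ) (hq : 3 < q) (hF : Fintype.card F = q ^ 2)
    (U : Fin n → Subgroup G) (e : ∀ i, ↥(Cfsg.SU 2 F q) ≃* ↥(U i))
    (V : Fin n → Fin n → Subgroup G)
    (h1 : ∀ i j : Fin n, (i : ℕ) + 2 ≤ j → ∀ x ∈ U i, ∀ y ∈ U j, x * y = y * x)
    (h2 : ∀ i j : Fin n, (i : ℕ) + 1 = j → Cfsg.IsStandardUnitaryPair (V i j) (U i) (U j) F q)
    (hgen : (⨆ i, U i) ⊔ (⨆ (i : Fin n) (j : Fin n) (_ : (i : ℕ) + 1 = j), V i j) = ⊤) :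
    ∃ f : ↥(Cfsg.SU (n + 1) F q) →* G, Function.Surjective f := by
  classical
  set U' : ℕ → Subgroup G := fun i => if h : i < n then U ⟨i, h⟩ else ⊥ with hU'
  set V' : ℕ → Subgroup G := fun i => if h : i + 1 < n then V ⟨i, by omega⟩ ⟨i + 1, h⟩ else ⊥ with hV'
  have hUe : ∀ i : Fin n, U' i = U i := fun i => dif_pos i.2
  have hVe : ∀ i j : Fin n, (i : ℕ) + 1 = j → V' i = V i j := fun i j hij => by
    rw [hV']
    have : (i : ℕ) + 1 < n := hij ▸ j.2
    simp only [dif_pos this]
    congr 1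
    exact Fin.ext hij
  have hpair : ∀ i, i + 1 < n → Cfsg.IsStandardUnitaryPair (V' i) (U' i) (U' (i + 1)) F q := fun i hi => by
    rw [hVe ⟨i, by omega⟩ ⟨i + 1, hi⟩ rfl, hUe ⟨i, by omega⟩, hUe ⟨i + 1, hi⟩]
    exact h2 _ _ rfl
  have hcomm : ∀ i j, i + 2 ≤ j → j + 2 ≤ n + 1 → ∀ a ∈ U' i, ∀ b ∈ U' j, a * b = b * a := fun i j hij hj => by
    rw [hUe ⟨i, by omega⟩, hUe ⟨j, by omega⟩]
    exact h1 _ _ hij
  obtain ⟨P, hP, hcompat⟩ := PhanAmalgam.exists_chain hF U' V' n
    (fun i hi => hcomm i (i + 2) le_rfl (by omega)) hpair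
  have hC : PhanAmalgam.Chain hF (n + 1) U' P :=
    { r01 := fun i hi x => (hP i (by omega)).mem_left x
      r12 := fun i hi x => (hP i (by omega)).mem_right x
      compat := fun i hi x => hcompat i (by omega) x
      comm := hcomm }
  obtain ⟨f, hf⟩ := PhanAmalgam.exists_hom hF (by omega) (by omega) hC
  refine ⟨f, MonoidHom.range_eq_top.1 (eq_top_iff.2 (hgen ▸ sup_le ?_ ?_))⟩
  · refine iSup_le fun i => fun y hy => ?_
    rw [← hUe i] at hy
    by_cases hi : (i : ℕ) + 1 < n
    · rw [← (hP i hi).r01] at hy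
      obtain ⟨x, rfl⟩ := hy
      exact hf i (by omega) ⟨_, rfl⟩
    · obtain ⟨j, hj⟩ : ∃ j, (i : ℕ) = j + 1 := ⟨(i : ℕ) - 1, by omega⟩
      rw [hj, ← (hP j (by omega)).r12] at hy
      obtain ⟨x, rfl⟩ := hy
      exact hf j (by omega) ⟨_, rfl⟩
  · refine iSup_le fun i => iSup_le fun j => iSup_le fun hij => ?_
    have hi : (i : ℕ) + 1 < n := hij ▸ j.2
    rw [← hVe i j hij, ← (hP i hi).range_eq]
    exact hf i (by omega)

end Cfsg.Agent.S3709
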