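import Cfsg.Statements.S3710
import Cfsg.Agent.Lib.PhanAmalgam.Small
import Cfsg.Agent.Lib.PhanAmalgam.ThreeBase

set_option autoImplicit false
open Cfsg

namespace Cfsg.Agent.S3710

/-- Recognition of unitary groups over the field with 9 elements from a weak Phan system. Let F be a field with 9 elements and n ≥ 4. Let G be a group with subgroups U_0, …, U_{n−1}, each isomorphic to SU(2, 9), and, for consecutive indices, subgroups V_{i,i+1} in which U_i and U_{i+1} form a standard pair (via an isomorphism from SU(3, 9) or PSU(3, 9) carrying the block-diagonal subgroups, or their images, onto U_i and U_{i+1}); suppose U_i and U_j commute elementwise whenever the indices differ by at least 2, that G is generated by the U_i and the V_{i,i+1}, and moreover that for each i the subgroup generated by V_{i,i+1} and V_{i+1,i+2} is a homomorphic image of SU(4, 9). Then G is a homomorphic image of SU(n+1, 9). (G is not assumed finite.) -/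
theorem result {G : Type*} [Group G] (n : ℕ) (hn : 4 ≤ n)
    (F : Type*) [Field F] [Fintype F] (hF : Fintype.card F = 9)
    (U : Fin n → Subgroup G) (e : ∀ i, ↥(Cfsg.SU 2 F 3) ≃* ↥(U i))
    (V : Fin n → Fin n → Subgroup G)
    (h1 : ∀ i j : Fin n, (i : ℕ) + 2 ≤ j → ∀ x ∈ U i, ∀ y ∈ U j, x * y = y * x)
    (h2 : ∀ i j : Fin n, (i : ℕ) + 1 = j → Cfsg.IsStandardUnitaryPair (V i j) (U i) (U j) F 3)
    (hgen : (⨆ i, U i) ⊔ (⨆ (i : Fin n) (j : Fin n) (_ : (i : ℕ) + 1 = j), V i j) = ⊤)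
    (h4 : ∀ i j k : Fin n, (i : ℕ) + 1 = j → (j : ℕ) + 1 = k →
      ∃ g : ↥(Cfsg.SU 4 F 3) →* ↥(V i j ⊔ V j k), Function.Surjective g) :
    ∃ f : ↥(Cfsg.SU (n + 1) F 3) →* G, Function.Surjective f := by
  classical
  have hF' : Fintype.card F = 3 ^ 2 := by rw [hF]; rfl
  set U' : ℕ → Subgroup G := fun i => if h : i < n then U ⟨i, h⟩ else ⊥ with hU'
  set V' : ℕ → Subgroup G := fun i => if h : i + 1 < n then V ⟨i, by omega⟩ ⟨i + 1, h⟩ else ⊥ with hV'
  have hUe : ∀ i : Fin n, U' i = U i := fun i => dif_pos i.2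
  have hVe : ∀ i j : Fin n, (i : ℕ) + 1 = j → V' i = V i j := fun i j hij => by
    rw [hV']
    have : (i : ℕ) + 1 < n := hij ▸ j.2
    simp only [dif_pos this]
    congr 1
    exact Fin.ext hij
  have hpair : ∀ i, i + 1 < n → Cfsg.IsStandardUnitaryPair (V' i) (U' i) (U' (i + 1)) F 3 := fun i hi => by
    rw [hVe ⟨i, by omega⟩ ⟨i + 1, hi⟩ rfl, hUe ⟨i, by omega⟩, hUe ⟨i + 1, hi⟩]
    exact h2 _ _ rfl
  have hcomm : ∀ i j, i + 2 ≤ j → j + 2 ≤ n + 1 → ∀ a ∈ U' i, ∀ b ∈ U' j, a * b = b * a := fun i j hij hj => by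
    rw [hUe ⟨i, by omega⟩, hUe ⟨j, by omega⟩]
    exact h1 _ _ hij
  obtain ⟨P, hP, hcompat⟩ := PhanAmalgam.exists_chain hF' U' V' n
    (fun i hi => hcomm i (i + 2) le_rfl (by omega)) hpair
  have hC : PhanAmalgam.Chain hF' (n + 1) U' P :=
    { r01 := fun i hi x => (hP i (by omega)).mem_left x
      r12 := fun i hi x => (hP i (by omega)).mem_right x
      compat := fun i hi x => hcompat i (by omega) x
      comm := hcomm }
  -- an element centralising both subgroups of a pair centralises its parametrisation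
  have hUP : ∀ i j, j + 3 ≤ n + 1 → i + 2 ≤ n + 1 → (i + 2 ≤ j ∨ j + 3 ≤ i) →
      ∀ y ∈ U' i, ∀ x, y * P j x = P j x * y := by
    intro i j hj hi hij y hy x
    have hle : U' j ⊔ U' (j + 1) ≤ Subgroup.centralizer {y} := by
      refine sup_le ?_ ?_ <;> intro b hb <;> rw [Subgroup.mem_centralizer_iff] <;> rintro _ rfl
      · rcases hij with h | h
        exacts [hcomm i j (by omega) (by omega) _ hy b hb, (hcomm j i (by omega) (by omega) b hb _ hy).symm]
      · rcases hij with h | h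
        exacts [hcomm i (j + 1) (by omega) (by omega) _ hy b hb, (hcomm (j + 1) i (by omega) (by omega) b hb _ hy).symm]
    rw [PhanAmalgam.std_sup_three hF' (hP j (by omega))] at hle
    exact Subgroup.mem_centralizer_iff.1 (hle ((hP j (by omega)).range_eq ▸ ⟨x, rfl⟩)) y rfl
  have hfar : PhanAmalgam.Far (n + 1) U' P := by
    refine ⟨hUP, fun i j hj hij w x => ?_⟩
    have hle : U' i ⊔ U' (i + 1) ≤ Subgroup.centralizer {P j x} := by
      refine sup_le ?_ ?_ <;> intro b hb <;> rw [Subgroup.mem_centralizer_iff] <;> rintro _ rfl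
      · exact (hUP i j hj (by omega) (Or.inl (by omega)) b hb x).symm
      · exact (hUP (i + 1) j hj (by omega) (Or.inl (by omega)) b hb x).symm
    rw [PhanAmalgam.std_sup_three hF' (hP i (by omega))] at hle
    exact (Subgroup.mem_centralizer_iff.1 (hle ((hP i (by omega)).range_eq ▸ ⟨w, rfl⟩)) _ rfl).symm
  have hbase : ∀ a, a + 4 ≤ n + 1 → ∃ Φ, PhanAmalgam.IsExt hF' (n + 1) P a 4 Φ := by
    intro a ha
    have e1 := hVe ⟨a, by omega⟩ ⟨a + 1, by omega⟩ rfl
    have e2 := hVe ⟨a + 1, by omega⟩ ⟨a + 2, by omega⟩ rfl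
    obtain ⟨g', hg'⟩ : ∃ g' : Cfsg.SU 4 F 3 →* G, g'.range = V' a ⊔ V' (a + 1) := by
      obtain ⟨g, hg⟩ := h4 ⟨a, by omega⟩ ⟨a + 1, by omega⟩ ⟨a + 2, by omega⟩ rfl rfl
      refine ⟨(Subgroup.subtype _).comp g, ?_⟩
      rw [MonoidHom.range_comp, MonoidHom.range_eq_top.2 hg, ← MonoidHom.range_eq_map, Subgroup.range_subtype,
        ← e1, ← e2]
    obtain ⟨f, hf1, hf2⟩ := PhanAmalgam.base_three hF' (hP a (by omega)) (hP (a + 1) (by omega))
      (hcompat a (by omega)) (hcomm a (a + 2) le_rfl (by omega)) g' hg'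
    exact PhanAmalgam.isExt_four hF' ha f hf1 hf2
  obtain ⟨f, hf⟩ := PhanAmalgam.exists_hom_small hF' (by omega) hC hfar hbase
  refine ⟨f, MonoidHom.range_eq_top.1 (eq_top_iff.2 (hgen ▸ sup_le ?_ ?_))⟩
  · refine iSup_le fun i => fun y hy => ?_
    rw [← hUe i] at hy
    by_cases hi : (i : ℕ) + 1 < n
    · rw [← (hP i hi).r01] at hy
      obtain ⟨x, rfl⟩ := hy
      exact hf i (by omega) ⟨_, rfl⟩
    · obtain ⟨j, hj⟩ : ∃ j, (i : ℕ) = j + 1 := ⟨(i : ℕ) - 1, by omega⟩
      rw [hj, ← (hP j (by omega)).r12] at hy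
      obtain ⟨x, rfl⟩ := hy
      exact hf j (by omega) ⟨_, rfl⟩
  · refine iSup_le fun i => iSup_le fun j => iSup_le fun hij => ?_
    have hi : (i : ℕ) + 1 < n := hij ▸ j.2
    rw [← hVe i j hij, ← (hP i hi).range_eq]
    exact hf i (by omega)

end Cfsg.Agent.S3710
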