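import Cfsg.Statements.S3711
import Cfsg.Agent.Lib.PhanAmalgam.Small
import Cfsg.Agent.Lib.PhanAmalgam.TwoBase

set_option autoImplicit false
open Cfsg

namespace Cfsg.Agent.S3711

/-- Recognition of unitary groups over the field with 4 elements from a weak Phan system. Let F be a field with 4 elements and n ≥ 4. Let G be a group with subgroups U_0, …, U_{n−1}, each isomorphic to SU(2, 4), and, for consecutive indices, subgroups V_{i,i+1} in which U_i and U_{i+1} form a standard pair (via an isomorphism from SU(3, 4) or PSU(3, 4) carrying the block-diagonal subgroups, or their images, onto U_i and U_{i+1}); suppose U_i and U_j commute elementwise whenever the indices differ by at least 2, that G is generated by the U_i and the V_{i,i+1}, that for each i the subgroup generated by V_{i,i+1} and V_{i+1,i+2} is a homomorphic image of SU(4, 4), that U_i and V_{j,j+1} commute elementwise whenever i ≤ j − 2 or i ≥ j + 3, and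 that V_{i,i+1} and V_{k,k+1} commute elementwise whenever k ≥ i + 3. Then G is a homomorphic image of SU(n+1, 4). (G is not assumed finite.) -/
theorem result {G : Type*} [Group G] (n : ℕ) (hn : 4 ≤ n)
    (F : Type*) [Field F] [Fintype F] (hF : Fintype.card F = 4)
    (U : Fin n → Subgroup G) (e : ∀ i, ↥(Cfsg.SU 2 F 2) ≃* ↥(U i))
    (V : Fin n → Fin n → Subgroup G)
    (h1 : ∀ i j : Fin n, (i : ℕ) + 2 ≤ j → ∀ x ∈ U i, ∀ y ∈ U j, x * y = y * x)
    (h2 : ∀ i j : Fin n, (i : ℕ) + 1 = j → Cfsg.IsStandardUnitaryPair (V i j) (U i) (U j) F 2)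
    (hgen : (⨆ i, U i) ⊔ (⨆ (i : Fin n) (j : Fin n) (_ : (i : ℕ) + 1 = j), V i j) = ⊤)
    (h4 : ∀ i j k : Fin n, (i : ℕ) + 1 = j → (j : ℕ) + 1 = k →
      ∃ g : ↥(Cfsg.SU 4 F 2) →* ↥(V i j ⊔ V j k), Function.Surjective g)
    (h5 : ∀ i j k : Fin n, (j : ℕ) + 1 = k → ((i : ℕ) + 2 ≤ j ∨ (k : ℕ) + 2 ≤ i) →
      ∀ x ∈ U i, ∀ y ∈ V j k, x * y = y * x)
    (h6 : ∀ i j k l : Fin n, (i : ℕ) + 1 = j → (k : ℕ) + 1 = l → (j : ℕ) + 2 ≤ k →
      ∀ x ∈ V i j, ∀ y ∈ V k l, x * y = y * x) :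
    ∃ f : ↥(Cfsg.SU (n + 1) F 2) →* G, Function.Surjective f := by
  classical
  have hF' : Fintype.card F = 2 ^ 2 := by rw [hF]; rfl
  set U' : ℕ → Subgroup G := fun i => if h : i < n then U ⟨i, h⟩ else ⊥ with hU'
  set V' : ℕ → Subgroup G := fun i => if h : i + 1 < n then V ⟨i, by omega⟩ ⟨i + 1, h⟩ else ⊥ with hV'
  have hUe : ∀ i : Fin n, U' i = U i := fun i => dif_pos i.2
  have hVe : ∀ i j : Fin n, (i : ℕ) + 1 = j → V' i = V i j := fun i j hij => by
    rw [hV']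
    have : (i : ℕ) + 1 < n := hij ▸ j.2
    simp only [dif_pos this]
    congr 1
    exact Fin.ext hij
  have hpair : ∀ i, i + 1 < n → Cfsg.IsStandardUnitaryPair (V' i) (U' i) (U' (i + 1)) F 2 := fun i hi => by
    rw [hVe ⟨i, by omega⟩ ⟨i + 1, hi⟩ rfl, hUe ⟨i, by omega⟩, hUe ⟨i + 1, hi⟩]
    exact h2 _ _ rfl
  have hcomm : ∀ i j, i + 2 ≤ j → j + 2 ≤ n + 1 → ∀ a ∈ U' i, ∀ b ∈ U' j, a * b = b * a := fun i j hij hj => by
    rw [hUe ⟨i, by omega⟩, hUe ⟨j, by omega⟩]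
    exact h1 _ _ hij
  obtain ⟨P, hP, hcompat⟩ := PhanAmalgam.exists_chain hF' U' V' n
    (fun i hi => hcomm i (i + 2) le_rfl (by omega)) hpair
  have hC : PhanAmalgam.Chain hF' (n + 1) U' P :=
    { r01 := fun i hi x => (hP i (by omega)).mem_left x
      r12 := fun i hi x => (hP i (by omega)).mem_right x
      compat := fun i hi x => hcompat i (by omega) x
      comm := hcomm }
  have hfar : PhanAmalgam.Far (n + 1) U' P := by
    constructor
    · intro i j hj hi hij y hy x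
      rw [hUe ⟨i, by omega⟩] at hy
      refine h5 ⟨i, by omega⟩ ⟨j, by omega⟩ ⟨j + 1, by omega⟩ rfl (hij.imp id fun h => by simp only; omega) y hy
        (P j x) ?_
      rw [← hVe ⟨j, by omega⟩ ⟨j + 1, by omega⟩ rfl, ← (hP j (by omega)).range_eq]
      exact ⟨x, rfl⟩
    · intro i j hj hij w x
      refine h6 ⟨i, by omega⟩ ⟨i + 1, by omega⟩ ⟨j, by omega⟩ ⟨j + 1, by omega⟩ rfl rfl (by simp only; omega)
        (P i w) ?_ (P j x) ?_
      · rw [← hVe ⟨i, by omega⟩ ⟨i + 1, by omega⟩ rfl, ← (hP i (by omega)).range_eq]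
        exact ⟨w, rfl⟩
      · rw [← hVe ⟨j, by omega⟩ ⟨j + 1, by omega⟩ rfl, ← (hP j (by omega)).range_eq]
        exact ⟨x, rfl⟩
  have hbase : ∀ a, a + 4 ≤ n + 1 → ∃ Φ, PhanAmalgam.IsExt hF' (n + 1) P a 4 Φ := by
    intro a ha
    have e1 := hVe ⟨a, by omega⟩ ⟨a + 1, by omega⟩ rfl
    have e2 := hVe ⟨a + 1, by omega⟩ ⟨a + 2, by omega⟩ rfl
    obtain ⟨g', hg'⟩ : ∃ g' : Cfsg.SU 4 F 2 →* G, g'.range = V' a ⊔ V' (a + 1) := by
      obtain ⟨g, hg⟩ := h4 ⟨a, by omega⟩ ⟨a + 1, by omega⟩ ⟨a + 2, by omega⟩ rfl rfl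
      refine ⟨(Subgroup.subtype _).comp g, ?_⟩
      rw [MonoidHom.range_comp, MonoidHom.range_eq_top.2 hg, ← MonoidHom.range_eq_map, Subgroup.range_subtype,
        ← e1, ← e2]
    obtain ⟨f, hf1, hf2⟩ := PhanAmalgam.base_two hF' (hP a (by omega)) (hP (a + 1) (by omega))
      (hcompat a (by omega)) (hcomm a (a + 2) le_rfl (by omega)) g' hg'
    exact PhanAmalgam.isExt_four hF' ha f hf1 hf2
  obtain ⟨f, hf⟩ := PhanAmalgam.exists_hom_small hF' (by omega) hC hfar hbase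
  refine ⟨f, MonoidHom.range_eq_top.1 (eq_top_iff.2 (hgen ▸ sup_le ?_ ?_))⟩
  · refine iSup_le fun i => fun y hy => ?_
    rw [← hUe i] at hy
    by_cases hi : (i : ℕ) + 1 < n
    · rw [← (hP i hi).r01] at hy
      obtain ⟨x, rfl⟩ := hy
      exact hf i (by omega) ⟨_, rfl⟩
    · obtain ⟨j, hj⟩ : ∃ j, (i : ℕ) = j + 1 := ⟨(i : ℕ) - 1, by omega⟩
      rw [hj, ← (hP j (by omega)).r12] at hy
      obtain ⟨x, rfl⟩ := hy
      exact hf j (by omega) ⟨_, rfl⟩
  · refine iSup_le fun i => iSup_le fun j => iSup_le fun hij => ?_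
    have hi : (i : ℕ) + 1 < n := hij ▸ j.2
    rw [← hVe i j hij, ← (hP i hi).range_eq]
    exact hf i (by omega)

end Cfsg.Agent.S3711
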