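import Cfsg.Statements.S3713
import Cfsg.Agent.Lib.SympAmalgam.Amalgam

set_option autoImplicit false
open Cfsg

namespace Cfsg.Agent.S3713

open Cfsg.Agent.SympAmalgam Cfsg.Agent.ClassicalSimple

/-- A homomorphism paired with the inclusion into the isometry group. -/
noncomputable def lift {n : ℕ} {F : Type*} [Field F] {H : Type*} [Group H]
    {S : Subgroup ↥(Matrix.symplecticGroup (Fin n) F)} (φ : ↥S →* H) :
    ↥S →* H × SpB (sympBilin n F) :=
  φ.prod ((symplecticEquiv (m := n) (F := F)).toMonoidHom.comp S.subtype)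

theorem injOn_of_hom {n : ℕ} {F : Type*} [Field F] {H : Type*} [Group H]
    {S T U : Subgroup ↥(Matrix.symplecticGroup (Fin n) F)} (φ : ↥S →* H) (ψ : ↥T →* H) (Ψ : ↥U →* H)
    (hS : ∀ g (hg : g ∈ S), ∃ h : g ∈ U, Ψ ⟨g, h⟩ = φ ⟨g, hg⟩)
    (hT : ∀ g (hg : g ∈ T), ∃ h : g ∈ U, Ψ ⟨g, h⟩ = ψ ⟨g, hg⟩) :
    Set.InjOn (MonoidHom.snd H (SpB (sympBilin n F))) ((lift φ).range ⊔ (lift ψ).range : Subgroup _) := by
  have h : (lift φ).range ⊔ (lift ψ).range ≤ (lift Ψ).range := by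
    refine sup_le ?_ ?_
    · rintro _ ⟨⟨g, hg⟩, rfl⟩
      obtain ⟨h, e⟩ := hS g hg
      exact ⟨⟨g, h⟩, Prod.ext e rfl⟩
    · rintro _ ⟨⟨g, hg⟩, rfl⟩
      obtain ⟨h, e⟩ := hT g hg
      exact ⟨⟨g, h⟩, Prod.ext e rfl⟩
  intro x hx y hy hxy
  obtain ⟨a, rfl⟩ := h hx
  obtain ⟨b, rfl⟩ := h hy
  rw [show a = b from Subtype.ext ((symplecticEquiv (m := n) (F := F)).injective hxy)]

theorem map_closure_eq {n : ℕ} {F : Type*} [Field F] (P : ↥(Matrix.symplecticGroup (Fin n) F) → Prop)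
    (T : Subgroup (SpB (sympBilin n F))) (hP : ∀ A, P A ↔ symplecticEquiv A ∈ T) :
    (Subgroup.closure {A | P A}).map (symplecticEquiv (m := n) (F := F)).toMonoidHom = T := by
  have h : {A | P A} = ((T.comap (symplecticEquiv (m := n) (F := F)).toMonoidHom) : Set _) := Set.ext hP
  rw [h, Subgroup.closure_eq, Subgroup.map_comap_eq_self_of_surjective]
  exact symplecticEquiv.surjective

/-- A presentation of the symplectic group as the universal completion of an amalgam of small subgroups. Let F be a field with more than two elements, n ≥ 2, and Sp the group of 2n × 2n matrices over F preserving the standard alternating form, acting on column vectors; write e_k, f_k for the standard basis vectors of the two halves (a hyperbolic basis). For each k let S_k be the subgroup of Sp fixing e_l and f_l for all l ≠ k (a copy of SL(2, F) on the plane of e_k, f_k), and for each i with i + 1 < n let M_i be the subgroup fixing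 every e_l and fixing f_l for all l other than i, i+1 (an abelian group isomorphic to the additive group of F³). Then Sp is the universal completion of the amalgam formed by the S_k, the M_i and the subgroups generated by two of them: for every group H and homomorphisms σ_k : S_k → H, μ_i : M_i → H such that for each pair of these subgroups some homomorphism on the subgroup they generate restricts to the given ones, there is exactly one homomorphism Sp → H restricting to every σ_k and μ_i. -/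
theorem result
    (F : Type*) [Field F] (hF : ∃ a : F, a ≠ 0 ∧ a ≠ 1) (n : ℕ) (hn : 2 ≤ n)
    (S M : Fin n → Subgroup ↥(Matrix.symplecticGroup (Fin n) F))
    (hS : ∀ j : Fin n, S j = Subgroup.closure {A : ↥(Matrix.symplecticGroup (Fin n) F) | ∀ k : Fin n, k ≠ j →
      ((A : ↥(Matrix.symplecticGroup (Fin n) F)) : Matrix (Fin n ⊕ Fin n) (Fin n ⊕ Fin n) F).mulVec (Pi.single (Sum.inl k) (1 : F)) = (Pi.single (Sum.inl k) (1 : F)) ∧ ((A : ↥(Matrix.symplecticGroup (Fin n) F)) : Matrix (Fin n ⊕ Fin n) (Fin n ⊕ Fin n) F).mulVec (Pi.single (Sum.inr k) (1 : F)) = (Pi.single (Sum.inr k) (1 : F))})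
    (hM : ∀ i : Fin n, (i : ℕ) + 1 < n → M i = Subgroup.closure {A : ↥(Matrix.symplecticGroup (Fin n) F) |
      (∀ k : Fin n, ((A : ↥(Matrix.symplecticGroup (Fin n) F)) : Matrix (Fin n ⊕ Fin n) (Fin n ⊕ Fin n) F).mulVec (Pi.single (Sum.inl k) (1 : F)) = (Pi.single (Sum.inl k) (1 : F))) ∧
        ∀ k : Fin n, (k : ℕ) ≠ i → (k : ℕ) ≠ (i : ℕ) + 1 → ((A : ↥(Matrix.symplecticGroup (Fin n) F)) : Matrix (Fin n ⊕ Fin n) (Fin n ⊕ Fin n) F).mulVec (Pi.single (Sum.inr k) (1 : F)) = (Pi.single (Sum.inr k) (1 : F))})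
    {H : Type*} [Group H] (σ : ∀ j : Fin n, ↥(S j) →* H) (μ : ∀ i : Fin n, ↥(M i) →* H)
    (hSS : ∀ j l : Fin n, j ≠ l → ∃ Ψ : ↥(S j ⊔ S l) →* H,
      (∀ (g : ↥(Matrix.symplecticGroup (Fin n) F)) (hg : g ∈ S j), Ψ ⟨g, Subgroup.mem_sup_left hg⟩ = σ j ⟨g, hg⟩) ∧
        (∀ (g : ↥(Matrix.symplecticGroup (Fin n) F)) (hg : g ∈ S l), Ψ ⟨g, Subgroup.mem_sup_right hg⟩ = σ l ⟨g, hg⟩))
    (hMM : ∀ i i' : Fin n, i ≠ i' → (i : ℕ) + 1 < n → (i' : ℕ) + 1 < n → ∃ Ψ : ↥(M i ⊔ M i') →* H,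
      (∀ (g : ↥(Matrix.symplecticGroup (Fin n) F)) (hg : g ∈ M i), Ψ ⟨g, Subgroup.mem_sup_left hg⟩ = μ i ⟨g, hg⟩) ∧
        (∀ (g : ↥(Matrix.symplecticGroup (Fin n) F)) (hg : g ∈ M i'), Ψ ⟨g, Subgroup.mem_sup_right hg⟩ = μ i' ⟨g, hg⟩))
    (hMS : ∀ i j : Fin n, (i : ℕ) + 1 < n → ∃ Ψ : ↥(M i ⊔ S j) →* H,
      (∀ (g : ↥(Matrix.symplecticGroup (Fin n) F)) (hg : g ∈ M i), Ψ ⟨g, Subgroup.mem_sup_left hg⟩ = μ i ⟨g, hg⟩) ∧
        (∀ (g : ↥(Matrix.symplecticGroup (Fin n) F)) (hg : g ∈ S j), Ψ ⟨g, Subgroup.mem_sup_right hg⟩ = σ j ⟨g, hg⟩)) :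
    ∃! Φ : ↥(Matrix.symplecticGroup (Fin n) F) →* H,
      (∀ (j : Fin n) (g : ↥(Matrix.symplecticGroup (Fin n) F)) (hg : g ∈ S j), Φ g = σ j ⟨g, hg⟩) ∧
        (∀ (i : Fin n), (i : ℕ) + 1 < n → ∀ (g : ↥(Matrix.symplecticGroup (Fin n) F)) (hg : g ∈ M i), Φ g = μ i ⟨g, hg⟩) := by
  set E := symplecticEquiv (m := n) (F := F)
  set π := MonoidHom.snd H (SpB (sympBilin n F)) with hπ
  have hrange : ∀ {T : Subgroup ↥(Matrix.symplecticGroup (Fin n) F)} (φ : ↥T →* H),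
      (lift φ).range.map π = T.map E.toMonoidHom := fun {T} φ => by
    rw [MonoidHom.map_range, show π.comp (lift φ) = E.toMonoidHom.comp T.subtype from MonoidHom.ext fun _ => rfl,
      MonoidHom.range_comp, Subgroup.range_subtype]
  have hinj : ∀ {T : Subgroup ↥(Matrix.symplecticGroup (Fin n) F)} (φ : ↥T →* H),
      Set.InjOn π (lift φ).range := fun {T} φ x hx y hy hxy => by
    obtain ⟨a, rfl⟩ := hx
    obtain ⟨b, rfl⟩ := hy
    rw [show a = b from Subtype.ext (E.injective hxy)]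
  let L : Lifts n π :=
    { S := fun j => (lift (σ j)).range
      M := fun i => (lift (μ i)).range
      imS := fun j => by
        rw [hrange, hS j]
        refine map_closure_eq _ _ fun A => ?_
        rw [mem_sImg]
        refine forall_congr' fun k => imp_congr_right fun _ => ?_
        rw [symplecticEquiv_smul, symplecticEquiv_smul]
        rfl
      imM := fun i hi => by
        rw [hrange, hM i hi]
        refine map_closure_eq _ _ fun A => ?_
        rw [mem_mImg]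
        simp only [symplecticEquiv_smul]
        rfl
      injS := fun j => hinj (σ j)
      injSS := fun j l hjl => by
        obtain ⟨Ψ, h1, h2⟩ := hSS j l hjl
        exact injOn_of_hom (σ j) (σ l) Ψ (fun g hg => ⟨_, h1 g hg⟩) (fun g hg => ⟨_, h2 g hg⟩)
      injMM := fun i i' hne hi hi' => by
        obtain ⟨Ψ, h1, h2⟩ := hMM i i' hne hi hi'
        exact injOn_of_hom (μ i) (μ i') Ψ (fun g hg => ⟨_, h1 g hg⟩) (fun g hg => ⟨_, h2 g hg⟩)
      injMS := fun i j hi => by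
        obtain ⟨Ψ, h1, h2⟩ := hMS i j hi
        exact injOn_of_hom (μ i) (σ j) Ψ (fun g hg => ⟨_, h1 g hg⟩) (fun g hg => ⟨_, h2 g hg⟩) }
  obtain ⟨hI, hT⟩ := L.injOn_gen hF
  let e : ↥(L.gen 0) ≃* SpB (sympBilin n F) := MulEquiv.ofBijective (π.comp (L.gen 0).subtype)
    ⟨fun x y h => Subtype.ext (hI x.2 y.2 h), fun g => by
      have hg : g ∈ (L.gen 0).map π := hT ▸ Subgroup.mem_top g
      obtain ⟨x, hx, hxg⟩ := hg
      exact ⟨⟨x, hx⟩, hxg⟩⟩
  let Φ : ↥(Matrix.symplecticGroup (Fin n) F) →* H :=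
    ((MonoidHom.fst H (SpB (sympBilin n F))).comp (L.gen 0).subtype).comp (e.symm.toMonoidHom.comp E.toMonoidHom)
  have key : ∀ x ∈ L.gen 0, ∀ g, π x = E g → Φ g = x.1 := fun x hx g hg => by
    show (e.symm (E g)).1.1 = x.1
    rw [show e.symm (E g) = ⟨x, hx⟩ from e.symm_apply_eq.2 hg.symm]
  refine ⟨Φ, ⟨fun j g hg => key (lift (σ j) ⟨g, hg⟩) (L.S_le_gen (Nat.zero_le _) ⟨_, rfl⟩) g rfl,
    fun i hi g hg => key (lift (μ i) ⟨g, hg⟩) (L.M_le_gen (Nat.zero_le _) hi ⟨_, rfl⟩) g rfl⟩, ?_⟩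
  intro Φ' hΦ'
  let G' : Subgroup (H × SpB (sympBilin n F)) :=
    ((Φ'.eqLocus Φ).map E.toMonoidHom).comap π
  have hle : L.gen 0 ≤ G' := L.gen_le
    (fun j _ => by
      rintro _ ⟨⟨g, hg⟩, rfl⟩
      refine ⟨g, ?_, rfl⟩
      show Φ' g = Φ g
      rw [hΦ'.1 j g hg, key (lift (σ j) ⟨g, hg⟩) (L.S_le_gen (Nat.zero_le _) ⟨_, rfl⟩) g rfl]
      rfl)
    (fun i _ hi => by
      rintro _ ⟨⟨g, hg⟩, rfl⟩
      refine ⟨g, ?_, rfl⟩
      show Φ' g = Φ g
      rw [hΦ'.2 i hi g hg, key (lift (μ i) ⟨g, hg⟩) (L.M_le_gen (Nat.zero_le _) hi ⟨_, rfl⟩) g rfl]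
      rfl)
  refine MonoidHom.ext fun g => ?_
  have hg : E g ∈ (L.gen 0).map π := hT ▸ Subgroup.mem_top _
  obtain ⟨x, hx, hxg⟩ := hg
  obtain ⟨g', hg', hgg'⟩ := hle hx
  rw [show g = g' from E.injective (hxg.symm.trans hgg'.symm)]
  exact hg'

end Cfsg.Agent.S3713
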