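import Cfsg.Statements.S3730
import Cfsg.Agent.Lib.EvenCyclicNorm.Simple
import Cfsg.Agent.Lib.EvenCyclicNorm.Outer
import Cfsg.Agent.Lib.EvenCyclicNorm.Minimal
import Cfsg.Agent.Lib.PSL2.SmallIso

set_option autoImplicit false
open Cfsg

namespace Cfsg.Agent.S3730

/-- Let G be a nontrivial finite group with no nontrivial solvable normal subgroup, such that for every cyclic subgroup X of even order and every nontrivial subgroup Y of X one has N_G(X) = N_G(Y) (every nontrivial subgroup of a cyclic subgroup of even order has the same normalizer as the whole cyclic subgroup). Then G is isomorphic to PSL(2, q) or to PGL(2, q) for some prime power q > 3. -/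
theorem result
    {G : Type*} [Group G] [Finite G] [Nontrivial G]
    (hss : ∀ N : Subgroup G, N.Normal → Group.IsSolvable ↥N → N = ⊥)
    (hii : ∀ X : Subgroup G, IsCyclic ↥X → Even (Nat.card ↥X) → ∀ Y : Subgroup G, Y ≤ X → Y ≠ ⊥ →
      Subgroup.normalizer (X : Set G) = Subgroup.normalizer (Y : Set G)) :
    ∃ (F : Type) (_ : Field F) (_ : Fintype F), 3 < Fintype.card F ∧
      (Nonempty (G ≃* Matrix.ProjectiveSpecialLinearGroup (Fin 2) F) ∨
        Nonempty (G ≃* Matrix.ProjGenLinGroup (Fin 2) F)) := by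
  classical
  have h : EvenCyclicNorm.Hyp G := EvenCyclicNorm.Hyp.of_normalizers hii
  obtain ⟨N, hN, hs, hna, hC⟩ := EvenCyclicNorm.exists_simple_normal h hss
  haveI := hs
  obtain ⟨F, iF, iF', hF, ⟨e⟩⟩ := EvenCyclicNorm.isPSLTwo_of_simple hna (h.of_injective N.subtype N.subtype_injective)
  by_cases h4 : Fintype.card F = 4
  · haveI : Fact (Nat.Prime 5) := ⟨by norm_num⟩
    have h5 : Fintype.card (ZMod 5) = 5 := ZMod.card 5
    obtain ⟨a⟩ := PSL2.psl_four_five_iso (F := F) (Or.inl h4)
    obtain ⟨b⟩ := PSL2.psl_four_five_iso (F := ZMod 5) (Or.inr h5)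
    exact ⟨ZMod 5, inferInstance, inferInstance, by omega,
      EvenCyclicNorm.Outer.pgl_or_psl h N hC ((e.trans a).trans b.symm) (by omega)⟩
  · exact ⟨F, iF, iF', hF, EvenCyclicNorm.Outer.pgl_or_psl h N hC e h4⟩

end Cfsg.Agent.S3730
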