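import Cfsg.Statements.S3732
import Cfsg.Agent.Lib.OstromWagner.Main
-- import your own Cfsg.Agent.* helpers here

set_option autoImplicit false
open Cfsg

namespace Cfsg.Agent.S3732

/-- A finite projective plane contains a quadrangle. -/
theorem quad (P L : Type*) [Membership P L] [Finite P] [Finite L] [Configuration.ProjectivePlane P L] :
    Agent.OstromWagner.Quad (fun (p : P) (l : L) => p ∈ l) Set.univ := by
  obtain ⟨p₁, p₂, p₃, l₁, l₂, l₃, h12, h13, h21, h22, h23, h31, h32, h33⟩ :=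
    @Configuration.ProjectivePlane.exists_config P L _ _
  have := Fintype.ofFinite {q : P // q ∈ l₃}
  have hcard := Configuration.ProjectivePlane.two_lt_pointCount P l₃
  rw [Configuration.pointCount, Nat.card_eq_fintype_card] at hcard
  -- the fourth point: on `l₃`, off the line `p₁ p₃`
  have h13' : p₁ ≠ p₃ := fun e => h12 (e ▸ h32)
  obtain ⟨m, ⟨hm1, hm3⟩, hmu⟩ := Configuration.HasLines.existsUnique_line (P := P) (L := L) p₁ p₃ h13'
  have hml : m ≠ l₃ := fun e => h13 (e ▸ hm1)
  have hmx : p₂ ∉ m := fun h => h12 (((Configuration.Nondegenerate.eq_or_eq h hm3 h22 h32).resolve_left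
    (fun e : p₂ = p₃ => h33 (e ▸ h23))) ▸ hm1)
  obtain ⟨a, b, c, hab, hac, hbc⟩ := Fintype.two_lt_card_iff.1 hcard
  obtain ⟨d, hd3, hd2, hdm⟩ : ∃ d, d ∈ l₃ ∧ d ≠ p₂ ∧ d ∉ m := by
    by_contra hno
    push Not at hno
    have key : ∀ q r : {q : P // q ∈ l₃}, q.1 ≠ p₂ → r.1 ≠ p₂ → q = r := fun q r hq hr => Subtype.ext
      ((Configuration.Nondegenerate.eq_or_eq q.2 r.2 (hno _ q.2 hq) (hno _ r.2 hr)).resolve_right hml.symm)
    by_cases ha : a.1 = p₂
    · exact hbc (key b c (fun e => hab (Subtype.ext (ha.trans e.symm)))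
        (fun e => hac (Subtype.ext (ha.trans e.symm))))
    by_cases hb : b.1 = p₂
    · exact hac (key a c ha (fun e => hbc (Subtype.ext (hb.trans e.symm))))
    exact hab (key a b ha hb)
  refine ⟨p₁, trivial, p₂, trivial, p₃, trivial, d, trivial, fun e => h13 (e ▸ h23),
    fun e => h33 (e ▸ h23), hd2.symm, fun e => h13 (e ▸ hd3), fun l => ⟨?_, ?_, ?_, ?_⟩⟩
  · rintro ⟨e1, e2, e3⟩; exact hmx (hmu l ⟨e1, e3⟩ ▸ e2)
  · rintro ⟨e1, e2, e3⟩
    exact h13 (((Configuration.Nondegenerate.eq_or_eq e2 e3 h23 hd3).resolve_left hd2.symm) ▸ e1)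
  · rintro ⟨e1, e2, e3⟩; exact hdm (hmu l ⟨e1, e2⟩ ▸ e3)
  · rintro ⟨e1, e2, e3⟩
    exact h33 (((Configuration.Nondegenerate.eq_or_eq e1 e3 h23 hd3).resolve_left hd2.symm) ▸ e2)

/-- A line is determined by its points. -/
theorem line_ext {P L : Type*} [Membership P L] [Finite P] [Finite L]
    [Configuration.ProjectivePlane P L] (l m : L) (h : ∀ p : P, p ∈ l ↔ p ∈ m) : l = m := by
  have := Fintype.ofFinite {q : P // q ∈ l}
  have hc := Configuration.ProjectivePlane.two_lt_pointCount P l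
  rw [Configuration.pointCount, Nat.card_eq_fintype_card] at hc
  obtain ⟨a, b, -, hab, -, -⟩ := Fintype.two_lt_card_iff.1 hc
  exact (Configuration.Nondegenerate.eq_or_eq a.2 b.2 ((h _).1 a.2) ((h _).1 b.2)).resolve_left
    fun e => hab (Subtype.ext e)

/-- The Ostrom–Wagner Theorem. Let Π be a finite projective plane (points P, lines L) whose collineation group is 2-transitive on points: for any two ordered pairs of distinct points there is a permutation of the points, together with a compatible permutation of the lines preserving incidence, carrying the first pair to the second. Then Π is Desarguesian: there is a finite field F and a bijection from P onto the points of the projective plane over F (the 1-dimensional subspaces of F³) under which the lines of Π correspond exactly to the 2-dimensional subspaces of F³. -/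
theorem result
    {P L : Type*} [Membership P L] [Fintype P] [Fintype L] [Configuration.ProjectivePlane P L]
    (h2t : ∀ p₁ p₂ q₁ q₂ : P, p₁ ≠ p₂ → q₁ ≠ q₂ →
      ∃ (σ : Equiv.Perm P) (τ : Equiv.Perm L), (∀ (p : P) (l : L), σ p ∈ τ l ↔ p ∈ l) ∧ σ p₁ = q₁ ∧ σ p₂ = q₂) :
    ∃ (F : Type) (_ : Field F) (_ : Fintype F) (φ : P ≃ Projectivization F (Fin 3 → F)),
      (∀ l : L, ∃ W : Submodule F (Fin 3 → F), Module.finrank F W = 2 ∧
          ∀ p : P, p ∈ l ↔ (φ p).submodule ≤ W) ∧
      (∀ W : Submodule F (Fin 3 → F), Module.finrank F W = 2 →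
          ∃ l : L, ∀ p : P, p ∈ l ↔ (φ p).submodule ≤ W) := by
  obtain ⟨S, hS⟩ := Agent.OstromWagner.Geo.exists_ofAxioms (Γ := Agent.OstromWagner.Coll (fun (p : P) (l : L) => p ∈ l))
    (fun (p : P) (l : L) => p ∈ l)
    (fun p q h => Configuration.HasLines.existsUnique_line P L p q h)
    (fun l m h => Configuration.HasPoints.existsUnique_point P L l m h)
    (Agent.S3732.quad P L) (Agent.OstromWagner.coll_smul_inc _)
    (Agent.OstromWagner.coll_faith _ Agent.S3732.line_ext)
  have h2 : ∀ p₁ p₂ q₁ q₂ : P, p₁ ≠ p₂ → q₁ ≠ q₂ →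
      ∃ g : Agent.OstromWagner.Coll (fun (p : P) (l : L) => p ∈ l), g • p₁ = q₁ ∧ g • p₂ = q₂ := by
    intro p₁ p₂ q₁ q₂ h h'
    obtain ⟨σ, τ, hστ, h1, h3⟩ := h2t p₁ p₂ q₁ q₂ h h'
    exact ⟨Agent.OstromWagner.Coll.mk _ σ τ hστ, h1, h3⟩
  obtain ⟨F, hF, hF', φ, -, hl, hW⟩ := S.desarguesian h2 (S.exists_perspectivity h2)
  rw [hS] at hl hW
  exact ⟨F, hF, hF', φ, hl, hW⟩

end Cfsg.Agent.S3732
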