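import Cfsg.Statements.S3733
-- import your own Cfsg.Agent.* helpers here

set_option autoImplicit false
open Cfsg

namespace Cfsg.Agent.S3733

/-- Let A and V be subgroups of a finite group with V abelian and nontrivial and A normalizing V. Suppose a nonempty finite family of proper subgroups of A partitions A: every non-identity element of A lies in exactly one member. If the number of members minus one is coprime to the order of V, then some member B of the family has a non-identity fixed point on V, that is V ∩ C(B) ≠ 1. -/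
theorem result {G : Type*} [Group G] [Finite G] (A V : Subgroup G) (hVab : IsMulCommutative V) (hV : V ≠ ⊥) (hAV : A ≤ Subgroup.normalizer (V : Set G)) (𝒜 : Finset (Subgroup G)) (hne : 𝒜.Nonempty) (hprop : ∀ B ∈ 𝒜, B < A) (hpart : ∀ a ∈ A, a ≠ 1 → ∃! B, B ∈ 𝒜 ∧ a ∈ B) (hk : (𝒜.card - 1).Coprime (Nat.card V)) : ∃ B ∈ 𝒜, V ⊓ Subgroup.centralizer (B : Set G) ≠ ⊥ := by
  classical
  have hfin : Fintype G := Fintype.ofFinite G
  letI : CommGroup V := { (inferInstance : Group V) with mul_comm := fun a b => hVab.is_comm.comm a b }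
  by_contra hcon
  push Not at hcon
  have hnorm : ∀ a ∈ A, ∀ v ∈ V, a * v * a⁻¹ ∈ V :=
    fun a ha v hv => (Subgroup.mem_normalizer_iff.1 (hAV ha) v).1 hv
  obtain ⟨v, hvV, hv1⟩ := (Subgroup.bot_or_exists_ne_one V).resolve_left hV
  let f : G → V := fun g => if h : g ∈ A then ⟨g * v * g⁻¹, hnorm g h v hvV⟩ else 1
  have hf1 : f 1 = ⟨v, hvV⟩ := by simp [f, A.one_mem]
  let S : Subgroup G → Finset G := fun B => Finset.univ.filter (· ∈ B)
  have hinv : ∀ B : Subgroup G, B ≤ A → ∀ b ∈ B, Commute b ((∏ g ∈ S B, f g : V) : G) := by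
    intro B hBA b hb
    let c : V →* V :=
      { toFun := fun w => ⟨b * w * b⁻¹, hnorm b (hBA hb) w w.2⟩
        map_one' := by ext; simp
        map_mul' := fun x y => by ext; simp [mul_assoc] }
    have h1 : c (∏ g ∈ S B, f g) = ∏ g ∈ S B, f g := by
      rw [map_prod]
      refine Finset.prod_nbij' (fun g => b * g) (fun g => b⁻¹ * g) ?_ ?_ ?_ ?_ ?_
      · intro g hg; simpa [S] using mul_mem hb (by simpa [S] using hg)
      · intro g hg; simpa [S] using mul_mem (inv_mem hb) (by simpa [S] using hg)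
      · intro g _; simp
      · intro g _; simp
      · intro g hg
        have hgA : g ∈ A := hBA (by simpa [S] using hg)
        ext
        simp [f, c, hgA, mul_mem (hBA hb) hgA, mul_assoc]
    have h2 : b * ((∏ g ∈ S B, f g : V) : G) * b⁻¹ = ((∏ g ∈ S B, f g : V) : G) := congrArg Subtype.val h1
    exact mul_inv_eq_iff_eq_mul.1 h2
  have hzero : ∀ B ∈ 𝒜, (∏ g ∈ S B, f g) = 1 := by
    intro B hB
    have : ((∏ g ∈ S B, f g : V) : G) ∈ V ⊓ Subgroup.centralizer (B : Set G) :=
      ⟨SetLike.coe_mem _, Subgroup.mem_centralizer_iff.2 fun b hb => hinv B (hprop B hB).le b hb⟩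
    rw [hcon B hB] at this
    exact Subtype.ext (Subgroup.mem_bot.1 this)
  have hzA : (∏ g ∈ S A, f g) = 1 := by
    obtain ⟨B, hB⟩ := hne
    have : ((∏ g ∈ S A, f g : V) : G) ∈ V ⊓ Subgroup.centralizer (B : Set G) :=
      ⟨SetLike.coe_mem _, Subgroup.mem_centralizer_iff.2 fun b hb => hinv A le_rfl b ((hprop B hB).le hb)⟩
    rw [hcon B hB] at this
    exact Subtype.ext (Subgroup.mem_bot.1 this)
  have hsplit : ∀ B : Subgroup G, (∏ g ∈ S B, f g) = ⟨v, hvV⟩ * ∏ g ∈ (S B).erase 1, f g := by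
    intro B
    rw [← hf1, Finset.mul_prod_erase]
    simp [S, B.one_mem]
  have hdisj : (↑𝒜 : Set (Subgroup G)).PairwiseDisjoint (fun B => (S B).erase 1) := by
    intro B hB C hC hBC
    change Disjoint _ _
    rw [Finset.disjoint_left]
    intro g hgB hgC
    simp [S] at hgB hgC
    obtain ⟨D, -, huniq⟩ := hpart g ((hprop B hB).le hgB.2) hgB.1
    exact hBC ((huniq B ⟨hB, hgB.2⟩).trans (huniq C ⟨hC, hgC.2⟩).symm)
  have hunion : 𝒜.biUnion (fun B => (S B).erase 1) = (S A).erase 1 := by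
    ext g
    simp only [S, Finset.mem_biUnion, Finset.mem_erase, Finset.mem_filter, Finset.mem_univ, true_and]
    constructor
    · rintro ⟨B, hB, h1, hg⟩; exact ⟨h1, (hprop B hB).le hg⟩
    · rintro ⟨h1, hg⟩
      obtain ⟨B, ⟨hB, hgB⟩, -⟩ := hpart g hg h1
      exact ⟨B, hB, h1, hgB⟩
  have htot : (1 : V) = ⟨v, hvV⟩ ^ 𝒜.card * ∏ g ∈ (S A).erase 1, f g := by
    rw [← hunion, Finset.prod_biUnion hdisj, ← Finset.prod_const, ← Finset.prod_mul_distrib]
    symm
    exact Finset.prod_eq_one fun B hB => by rw [← hsplit]; exact hzero B hB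
  rw [hsplit] at hzA
  have hrest : (∏ g ∈ (S A).erase 1, f g) = (⟨v, hvV⟩ : V)⁻¹ := eq_inv_of_mul_eq_one_right hzA
  rw [hrest] at htot
  have hpow : (⟨v, hvV⟩ : V) ^ (𝒜.card - 1) = 1 := by
    have hc : 1 ≤ 𝒜.card := hne.card_pos
    rw [pow_sub _ hc, pow_one]
    exact htot.symm
  have h1 : orderOf (⟨v, hvV⟩ : V) = 1 :=
    Nat.dvd_one.1 (hk ▸ Nat.dvd_gcd (orderOf_dvd_of_pow_eq_one hpow) (orderOf_dvd_natCard _))
  exact hv1 (congrArg Subtype.val (orderOf_eq_one_iff.1 h1))

end Cfsg.Agent.S3733
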