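import Cfsg.Statements.S3735
-- import your own Cfsg.Agent.* helpers here

set_option autoImplicit false
open Cfsg

namespace Cfsg.Agent.S3735

theorem mem_norm_iff {G : Type*} [Group G] (W : Subgroup G) (g : G) :
    g ∈ Subgroup.normalizer (W : Set G) ↔ W.map (MulAut.conj g).toMonoidHom = W := by
  rw [Subgroup.mem_normalizer_iff]
  constructor
  · intro h
    ext y
    rw [Subgroup.mem_map_equiv, MulAut.conj_symm_apply, h (g⁻¹ * y * g)]
    simp [mul_assoc]
  · intro h x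
    conv_rhs => rw [← h, Subgroup.mem_map_equiv]
    simp [mul_assoc]

/-- Clifford's Theorem for actions on finite abelian groups, first part. Let H and V be subgroups of a finite group with V abelian and H normalizing V, and let A be a normal subgroup of H. If every H-invariant subgroup of V has an H-invariant complement in V, then every A-invariant subgroup of V has an A-invariant complement in V. -/
theorem result {G : Type*} [Group G] [Finite G] (H A V : Subgroup G) (hVab : IsMulCommutative V) (hHV : H ≤ Subgroup.normalizer (V : Set G)) (hAH : A ≤ H) (hAn : H ≤ Subgroup.normalizer (A : Set G)) (hss : ∀ U : Subgroup G, U ≤ V → H ≤ Subgroup.normalizer (U : Set G) → ∃ W : Subgroup G, W ≤ V ∧ H ≤ Subgroup.normalizer (W : Set G) ∧ U ⊓ W = ⊥ ∧ U ⊔ W = V) (U : Subgroup G) (hUV : U ≤ V) (hAU : A ≤ Subgroup.normalizer (U : Set G)) : ∃ W : Subgroup G, W ≤ V ∧ A ≤ Subgroup.normalizer (W : Set G) ∧ U ⊓ W = ⊥ ∧ U ⊔ W = V := by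
  classical
  let Inv : Subgroup G → Prop := fun W => W ≤ V ∧ A ≤ Subgroup.normalizer (W : Set G)
  have hsup : ∀ W₁ W₂, Inv W₁ → Inv W₂ → Inv (W₁ ⊔ W₂) := fun W₁ W₂ h₁ h₂ =>
    ⟨sup_le h₁.1 h₂.1, fun a ha => by
      rw [mem_norm_iff, Subgroup.map_sup, (mem_norm_iff _ _).1 (h₁.2 ha), (mem_norm_iff _ _).1 (h₂.2 ha)]⟩
  have hinf : ∀ W₁ W₂, Inv W₁ → Inv W₂ → Inv (W₁ ⊓ W₂) := fun W₁ W₂ h₁ h₂ =>
    ⟨inf_le_left.trans h₁.1, fun a ha => by
      rw [mem_norm_iff, Subgroup.map_inf _ _ _ (MulAut.conj a).injective, (mem_norm_iff _ _).1 (h₁.2 ha),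
        (mem_norm_iff _ _).1 (h₂.2 ha)]⟩
  let IsMin : Subgroup G → Prop := fun m => Inv m ∧ m ≠ ⊥ ∧ ∀ m', Inv m' → m' ≤ m → m' = ⊥ ∨ m' = m
  have hex : ∀ W, Inv W → W ≠ ⊥ → ∃ m, IsMin m ∧ m ≤ W := by
    intro W hW hne
    obtain ⟨m, ⟨hm1, hm2, hm3⟩, hmin⟩ :=
      ({m : Subgroup G | Inv m ∧ m ≠ ⊥ ∧ m ≤ W}).toFinite.exists_minimal ⟨W, hW, hne, le_rfl⟩
    refine ⟨m, ⟨hm1, hm2, fun m' hm' hle => ?_⟩, hm3⟩
    rcases eq_or_ne m' ⊥ with h | h
    · exact Or.inl h
    · exact Or.inr (le_antisymm hle (hmin ⟨hm', h, hle.trans hm3⟩ hle))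
  set S := sSup {m | IsMin m} with hS
  have hSV : S ≤ V := sSup_le fun m hm => hm.1.1
  have hconj : ∀ h ∈ H, ∀ W, Inv W → Inv (W.map (MulAut.conj h).toMonoidHom) := by
    intro h hh W hW
    refine ⟨((Subgroup.map_mono hW.1).trans_eq ((mem_norm_iff _ _).1 (hHV hh))), fun a ha => ?_⟩
    have ha' : h⁻¹ * a * h ∈ A := by
      simpa using ((Subgroup.mem_normalizer_iff.1 (inv_mem (hAn hh))) a).1 ha
    rw [mem_norm_iff]
    conv_rhs => rw [← (mem_norm_iff _ _).1 (hW.2 ha')]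
    rw [Subgroup.map_map, Subgroup.map_map]
    congr 1
    ext x
    simp [mul_assoc]
  have hSH : H ≤ Subgroup.normalizer (S : Set G) := by
    intro h hh
    rw [mem_norm_iff]
    refine Subgroup.eq_of_le_of_card_ge ?_ ?_
    · rw [Subgroup.map_le_iff_le_comap, hS]
      refine sSup_le fun m hm => ?_
      rw [← Subgroup.map_le_iff_le_comap]
      refine le_sSup ⟨hconj h hh m hm.1, ?_, fun m' hm' hle => ?_⟩
      · rw [Ne, Subgroup.map_eq_bot_iff_of_injective _ (MulAut.conj h).injective]; exact hm.2.1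
      · have hback : m'.map (MulAut.conj h⁻¹).toMonoidHom ≤ m := by
          refine (Subgroup.map_mono hle).trans_eq ?_
          rw [Subgroup.map_map]
          conv_rhs => rw [← Subgroup.map_id m]
          congr 1
          ext x; simp [mul_assoc]
        have e : m' = (m'.map (MulAut.conj h⁻¹).toMonoidHom).map (MulAut.conj h).toMonoidHom := by
          rw [Subgroup.map_map]
          conv_lhs => rw [← Subgroup.map_id m']
          congr 1
          ext x; simp [mul_assoc]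
        rcases hm.2.2 _ (hconj h⁻¹ (inv_mem hh) m' hm') hback with h1 | h1
        · left; rw [e, h1, Subgroup.map_bot]
        · right; rw [e, h1]
    · rw [Subgroup.card_map_of_injective (MulAut.conj h).injective]
  obtain ⟨W₀, hW₀V, hW₀H, hW₀i, hW₀s⟩ := hss S hSV hSH
  have hSV' : S = V := by
    rcases eq_or_ne W₀ ⊥ with h | h
    · rw [h, sup_bot_eq] at hW₀s; exact hW₀s
    · obtain ⟨m, hm, hmle⟩ := hex W₀ ⟨hW₀V, hAH.trans hW₀H⟩ h
      exact absurd (eq_bot_iff.2 (hW₀i ▸ le_inf (le_sSup hm) hmle)) hm.2.1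
  obtain ⟨W, ⟨hW, hUW⟩, hmax⟩ := ({W : Subgroup G | Inv W ∧ U ⊓ W = ⊥}).toFinite.exists_maximal
    ⟨⊥, ⟨bot_le, fun a _ => by rw [mem_norm_iff, Subgroup.map_bot]⟩, inf_bot_eq U⟩
  refine ⟨W, hW.1, hW.2, hUW, le_antisymm (sup_le hUV hW.1) ?_⟩
  rw [← hSV']
  refine sSup_le fun m hm => ?_
  by_contra hcon
  have hd : m ⊓ (U ⊔ W) = ⊥ :=
    (hm.2.2 _ (hinf m _ hm.1 (hsup U W ⟨hUV, hAU⟩ hW)) inf_le_left).resolve_right fun h => hcon (inf_eq_left.1 h)
  have hbot : U ⊓ (W ⊔ m) = ⊥ := by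
    rw [Subgroup.eq_bot_iff_forall]
    rintro x ⟨hxU, hx⟩
    have hnorm : W ≤ Subgroup.normalizer (m : Set G) := fun w hw => by
      rw [Subgroup.mem_normalizer_iff]
      intro y
      constructor
      · intro hy
        have e : w * y = y * w :=
          congrArg Subtype.val (hVab.is_comm.comm (⟨w, hW.1 hw⟩ : V) ⟨y, hm.1.1 hy⟩)
        rwa [e, mul_inv_cancel_right]
      · intro hy
        have e : w * (w * y * w⁻¹) = (w * y * w⁻¹) * w :=
          congrArg Subtype.val (hVab.is_comm.comm (⟨w, hW.1 hw⟩ : V) ⟨_, hm.1.1 hy⟩)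
        rw [inv_mul_cancel_right] at e
        exact mul_left_cancel e ▸ hy
    have hx' : x ∈ ((W ⊔ m : Subgroup G) : Set G) := hx
    rw [Subgroup.coe_mul_of_left_le_normalizer_right W m hnorm] at hx'
    obtain ⟨w, hw, y, hy, rfl⟩ := hx'
    have hy1 : y = 1 := by
      have : y ∈ m ⊓ (U ⊔ W) := ⟨hy, by
        simpa using mul_mem (inv_mem (Subgroup.mem_sup_right hw) : w⁻¹ ∈ U ⊔ W) (Subgroup.mem_sup_left hxU)⟩
      rw [hd] at this
      exact Subgroup.mem_bot.1 this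
    subst hy1
    simp only [mul_one] at hxU ⊢
    exact Subgroup.mem_bot.1 (hUW ▸ (⟨hxU, hw⟩ : w ∈ U ⊓ W))
  exact hcon ((le_sup_right.trans (hmax ⟨hsup W m hW hm.1, hbot⟩ le_sup_left)).trans le_sup_right)

end Cfsg.Agent.S3735
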