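import Cfsg.Statements.S3737
import Cfsg.Agent.Lib.Coprime.Commutator

set_option autoImplicit false
open Cfsg

namespace Cfsg.Agent.S3737

open scoped commutatorElement

/-- Carrier of the Baer abelianisation of a group of class two and odd order. -/
@[ext] structure Baer (H : Type*) where
  val : H

/-- Baer's trick: for class two and `c ^ (2m) = c` on commutators, `x y [y,x]^m` is an abelian group law. -/
@[reducible] def baerGroup {H : Type*} [Group H] (m : ℕ)
    (hm : ∀ c : H, c ^ (2 * m) = c)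
    (hc : ∀ a b z : H, Commute ⁅a, b⁆ z) : CommGroup (Baer H) :=
  letI : Mul (Baer H) := ⟨fun x y => ⟨x.val * y.val * ⁅y.val, x.val⁆ ^ m⟩⟩
  letI : One (Baer H) := ⟨⟨1⟩⟩
  letI : Inv (Baer H) := ⟨fun x => ⟨x.val⁻¹⟩⟩
  { mul := (· * ·)
    one := 1
    inv := (·⁻¹)
    one_mul := fun x => Baer.ext (show 1 * x.val * ⁅x.val, 1⁆ ^ m = x.val by simp [commutatorElement_def])
    mul_one := fun x => Baer.ext (show x.val * 1 * ⁅(1 : H), x.val⁆ ^ m = x.val by simp [commutatorElement_def])
    inv_mul_cancel := fun x => Baer.ext (show x.val⁻¹ * x.val * ⁅x.val, x.val⁻¹⁆ ^ m = 1 by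
      simp [commutatorElement_def])
    mul_comm := fun x y => Baer.ext (by
      show x.val * y.val * ⁅y.val, x.val⁆ ^ m = y.val * x.val * ⁅x.val, y.val⁆ ^ m
      have e1 : x.val * y.val = y.val * x.val * ⁅x.val, y.val⁆ := by
        rw [← (hc x.val y.val (y.val * x.val)).eq, commutatorElement_def]
        group
      have e2 : ⁅x.val, y.val⁆ * ⁅y.val, x.val⁆ ^ m = ⁅x.val, y.val⁆ ^ m := by
        rw [← commutatorElement_inv x.val y.val, inv_pow]
        have := hm ⁅x.val, y.val⁆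
        rw [two_mul, pow_add] at this
        exact mul_inv_eq_iff_eq_mul.2 this.symm
      rw [e1, mul_assoc, e2])
    mul_assoc := fun x y z => Baer.ext (by
      show (x.val * y.val * ⁅y.val, x.val⁆ ^ m) * z.val * ⁅z.val, x.val * y.val * ⁅y.val, x.val⁆ ^ m⁆ ^ m
        = x.val * (y.val * z.val * ⁅z.val, y.val⁆ ^ m) * ⁅y.val * z.val * ⁅z.val, y.val⁆ ^ m, x.val⁆ ^ m
      obtain ⟨a⟩ := x; obtain ⟨b⟩ := y; obtain ⟨c⟩ := z
      have hml : ∀ u v w : H, ⁅u * v, w⁆ = ⁅u, w⁆ * ⁅v, w⁆ := by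
        intro u v w
        rw [commutatorElement_mul_left_eq_conj_mul, ← (hc v w u).eq, mul_inv_cancel_right, (hc v w _).eq]
      have hmr : ∀ u v w : H, ⁅u, v * w⁆ = ⁅u, v⁆ * ⁅u, w⁆ := by
        intro u v w
        rw [commutatorElement_mul_right_eq_mul_conj, mul_assoc, mul_assoc, ← mul_assoc v,
          ← (hc u w v).eq, mul_inv_cancel_right]
      have hz : ∀ u v w : H, ⁅w, ⁅u, v⁆ ^ m⁆ = 1 ∧ ⁅⁅u, v⁆ ^ m, w⁆ = 1 := fun u v w =>
        ⟨commutatorElement_eq_one_iff_mul_comm.2 ((hc u v w).pow_left m).eq.symm,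
          commutatorElement_eq_one_iff_mul_comm.2 ((hc u v w).pow_left m).eq⟩
      simp only [hml, hmr, (hz _ _ _).1, (hz _ _ _).2, mul_one, Commute.mul_pow (hc _ _ _)]
      have k1 : ∀ u v w : H, ⁅u, v⁆ ^ m * w = w * ⁅u, v⁆ ^ m := fun u v w => ((hc u v w).pow_left m).eq
      calc a * b * ⁅b, a⁆ ^ m * c * (⁅c, a⁆ ^ m * ⁅c, b⁆ ^ m)
          = a * b * (⁅b, a⁆ ^ m * c) * ⁅c, a⁆ ^ m * ⁅c, b⁆ ^ m := by simp only [mul_assoc]
        _ = a * b * c * (⁅b, a⁆ ^ m * ⁅c, a⁆ ^ m * ⁅c, b⁆ ^ m) := by rw [k1 b a c]; simp only [mul_assoc]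
        _ = a * b * c * (⁅c, b⁆ ^ m * (⁅b, a⁆ ^ m * ⁅c, a⁆ ^ m)) := by rw [k1 c b]
        _ = a * (b * c * ⁅c, b⁆ ^ m) * (⁅b, a⁆ ^ m * ⁅c, a⁆ ^ m) := by simp only [mul_assoc]) }

/-- The class-two case. -/
theorem class_two {A H : Type*} [Group A] [Group H] [Finite H] [Finite A] {p : ℕ} [Fact p.Prime] (hp : p ≠ 2)
    (φ : A →* MulAut H) (hH : IsPGroup p H) (hc : ∀ a b z : H, Commute ⁅a, b⁆ z)
    (P Q : Subgroup A) (hP : IsPGroup p P) (hQ : (Nat.card Q).Coprime p)
    (hPQ : P ≤ Subgroup.normalizer (Q : Set A))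
    (hC : ∀ x : H, (∀ a ∈ P, φ a x = x) → ∀ a ∈ Q, φ a x = x) : ∀ a ∈ Q, ∀ x : H, φ a x = x := by
  classical
  obtain ⟨k, hk⟩ := hH.exists_card_eq
  have hodd : Odd (Nat.card H) := hk ▸ ((Nat.Prime.odd_of_ne_two Fact.out hp).pow)
  obtain ⟨j, hj⟩ := hodd
  have hm : ∀ c : H, c ^ (2 * (j + 1)) = c := fun c => by
    rw [show 2 * (j + 1) = Nat.card H + 1 by omega, pow_succ, pow_card_eq_one', one_mul]
  letI := baerGroup (j + 1) hm hc
  haveI : Finite (Baer H) := Finite.of_injective Baer.val fun x y h => Baer.ext h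
  have hcardM : Nat.card (Baer H) = p ^ k :=
    hk ▸ Nat.card_congr ⟨Baer.val, Baer.mk, fun _ => rfl, fun _ => rfl⟩
  let ψ : A → Baer H →* Baer H := fun a => MonoidHom.mk' (fun x => ⟨φ a x.val⟩) fun x y => by
    apply Baer.ext
    show φ a (x.val * y.val * ⁅y.val, x.val⁆ ^ (j + 1)) = φ a x.val * φ a y.val * ⁅φ a y.val, φ a x.val⁆ ^ (j + 1)
    rw [map_mul, map_mul, map_pow, map_commutatorElement]
  haveI := Fintype.ofFinite Q
  let E : Baer H →* Baer H :=
    { toFun := fun x => ∏ q : Q, ψ q x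
      map_one' := by simp
      map_mul' := fun x y => by simp [Finset.prod_mul_distrib] }
  have hψ : ∀ (a b : A) (x : Baer H), ψ a (ψ b x) = ψ (a * b) x := fun a b x => by
    apply Baer.ext
    show φ a (φ b x.val) = φ (a * b) x.val
    rw [map_mul]; rfl
  have hfixE : ∀ (q : Q) (x : Baer H), ψ q (E x) = E x := by
    intro q x
    show ψ q (∏ r : Q, ψ r x) = ∏ r : Q, ψ r x
    rw [map_prod]
    exact Fintype.prod_equiv (Equiv.mulLeft q) _ _ fun r => by rw [hψ]; rfl
  have hcopE : ∀ x : Baer H, (∀ q : Q, ψ q x = x) → E x = 1 → x = 1 := by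
    intro x hx h1
    have h2 : E x = x ^ Nat.card Q := by
      show (∏ r : Q, ψ r x) = _
      rw [Finset.prod_congr rfl fun r _ => hx r, Finset.prod_const, Finset.card_univ, Nat.card_eq_fintype_card]
    rw [h1] at h2
    refine orderOf_eq_one_iff.1 (Nat.eq_one_of_dvd_coprimes (hQ.pow_right k) (orderOf_dvd_of_pow_eq_one h2.symm) ?_)
    exact hcardM ▸ orderOf_dvd_natCard x
  have hEinj : E.ker = ⊥ := by
    have hinv : ∀ (a : P) (x : Baer H), E x = 1 → E (ψ a x) = 1 := by
      intro a x hx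
      have e : E (ψ a x) = ψ a (E x) := by
        show (∏ q : Q, ψ q (ψ a x)) = ψ a (∏ q : Q, ψ q x)
        rw [map_prod]
        refine (Fintype.prod_equiv
          { toFun := fun q : Q => (⟨(a : A) * q * (a : A)⁻¹, (Subgroup.mem_normalizer_iff.1 (hPQ a.2) q).1 q.2⟩ : Q)
            invFun := fun q : Q => ⟨(a : A)⁻¹ * q * (a : A),
              by simpa using (Subgroup.mem_normalizer_iff.1 (inv_mem (hPQ a.2)) q).1 q.2⟩
            left_inv := fun q => Subtype.ext (by simp [mul_assoc])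
            right_inv := fun q => Subtype.ext (by simp [mul_assoc]) } _ _ fun q => ?_).symm
        rw [hψ, hψ]
        simp
      rw [e, hx, map_one]
    letI : MulAction P E.ker :=
      { smul := fun a x => ⟨ψ a x, hinv a x x.2⟩
        one_smul := fun x => Subtype.ext (Baer.ext (by
          show φ ((1 : P) : A) (x : Baer H).val = _
          simp))
        mul_smul := fun a b x => Subtype.ext (hψ a b x).symm }
    obtain ⟨i, hi⟩ := ((IsPGroup.of_card hcardM).to_subgroup E.ker).exists_card_eq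
    rcases i with _ | i
    · exact Subgroup.card_eq_one.1 (hi.trans (pow_zero p))
    exfalso
    have h1 : (1 : E.ker) ∈ MulAction.fixedPoints P E.ker := fun a => Subtype.ext (map_one (ψ a))
    obtain ⟨y, hy, hy1⟩ := hP.exists_fixed_point_of_prime_dvd_card_of_fixed_point E.ker
      (hi ▸ dvd_pow_self p i.succ_ne_zero) h1
    refine hy1 (Subtype.ext (hcopE y (fun q => Baer.ext ?_) y.2)).symm
    exact hC _ (fun a ha => congrArg (fun z : E.ker => ((z : Baer H)).val) (hy ⟨a, ha⟩)) q q.2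
  intro a ha x
  have hsurj : Function.Surjective E :=
    Finite.injective_iff_surjective.1 ((MonoidHom.ker_eq_bot_iff E).1 hEinj)
  obtain ⟨y, hy⟩ := hsurj ⟨x⟩
  have := congrArg Baer.val (hfixE ⟨a, ha⟩ y)
  rw [hy] at this
  exact this

open Subgroup in
/-- The induction. -/
theorem main {X : Type*} [Group X] [Finite X] {p : ℕ} [Fact p.Prime] (hp : p ≠ 2) (P Q : Subgroup X)
    (hP : IsPGroup p P) (hQ : (Nat.card Q).Coprime p) (hPQ : P ≤ normalizer (Q : Set X)) :
    ∀ (n : ℕ) (G : Subgroup X), Nat.card G = n → IsPGroup p G → P ≤ normalizer (G : Set X) →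
      Q ≤ normalizer (G : Set X) → G ⊓ centralizer (P : Set X) ≤ centralizer (Q : Set X) →
      Q ≤ centralizer (G : Set X) := by
  intro n
  induction n using Nat.strong_induction_on with
  | _ n ih =>
    intro G hn hG hPG hQG hC
    have hrec : ∀ K : Subgroup X, K < G → P ≤ normalizer (K : Set X) → Q ≤ normalizer (K : Set X) →
        Q ≤ centralizer (K : Set X) := fun K hK h1 h2 =>
      ih _ (hn ▸ lt_of_le_of_ne (card_le_of_le hK.le)
        (fun h => hK.ne (eq_of_le_of_card_ge hK.le h.ge))) K rfl (hG.to_le hK.le) h1 h2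
        ((inf_le_inf_right _ hK.le).trans hC)
    have hcop : (Nat.card Q).Coprime (Nat.card G) := by
      obtain ⟨k, hk⟩ := hG.exists_card_eq
      rw [hk]; exact hQ.pow_right k
    have hGs : Group.IsSolvable G := by
      haveI := hG.isNilpotent
      infer_instance
    have hcomm : ∀ (B C : Subgroup X), P ≤ normalizer (B : Set X) → P ≤ normalizer (C : Set X) →
        P ≤ normalizer ((⁅B, C⁆ : Subgroup X) : Set X) := by
      intro B C hB hC a ha
      refine Cfsg.Agent.Coprime.mem_normalizer_of_conj_smul_eq ?_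
      show Subgroup.map (MulAut.conj a).toMonoidHom ⁅B, C⁆ = _
      rw [map_commutator]
      exact congrArg₂ (fun Y Z => ⁅Y, Z⁆) (Cfsg.Agent.Coprime.conj_smul_eq_self_of_mem (hB ha))
        (Cfsg.Agent.Coprime.conj_smul_eq_self_of_mem (hC ha))
    by_cases hGQ : ⁅G, Q⁆ = G
    swap
    · exact Cfsg.Agent.Coprime.le_centralizer_of_commutator_le_centralizer hQG hcop (Or.inr hGs)
        (hrec _ (lt_of_le_of_ne (Cfsg.Agent.Coprime.commutator_le_left_of_le_normalizer hQG) hGQ)
          (hcomm G Q hPG hPQ) (normalizer_commutator_ge_right G Q))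
    by_cases hGb : G = ⊥
    · subst hGb; intro x _; rw [mem_centralizer_iff]; intro y hy
      rw [SetLike.mem_coe, mem_bot] at hy; simp [hy]
    have hlt : ⁅G, G⁆ < G := Cfsg.Agent.Coprime.commutator_lt_of_isPGroup hG hG le_normalizer hGb
    have hD : Q ≤ centralizer ((⁅G, G⁆ : Subgroup X) : Set X) :=
      hrec _ hlt (hcomm G G hPG hPG) (fun a ha => Cfsg.Agent.Coprime.mem_normalizer_of_conj_smul_eq (by
        show Subgroup.map (MulAut.conj a).toMonoidHom ⁅G, G⁆ = _
        rw [map_commutator]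
        exact congrArg₂ (fun Y Z => ⁅Y, Z⁆) (Cfsg.Agent.Coprime.conj_smul_eq_self_of_mem (hQG ha))
          (Cfsg.Agent.Coprime.conj_smul_eq_self_of_mem (hQG ha))))
    have h0 : ⁅⁅G, G⁆, Q⁆ = ⊥ := Cfsg.Agent.Coprime.le_centralizer_iff_commutator_eq_bot.1 hD
    have h1 : ⁅⁅G, ⁅G, G⁆⁆, Q⁆ = ⊥ := eq_bot_iff.2 (h0 ▸ commutator_mono
      (commutator_mono le_rfl G.commutator_le_self) le_rfl)
    have h2 : ⁅⁅⁅G, G⁆, Q⁆, G⁆ = ⊥ := by rw [h0, commutator_bot_left]
    have h3 : ⁅⁅Q, G⁆, ⁅G, G⁆⁆ = ⊥ := commutator_commutator_eq_bot_of_rotate h1 h2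
    rw [commutator_comm Q G, hGQ, commutator_eq_bot_iff_le_centralizer] at h3
    have hc : ∀ a b z : G, Commute ⁅a, b⁆ z := fun a b z => Subtype.ext (by
      have := mem_centralizer_iff.1 (h3 z.2) _ (commutator_mem_commutator a.2 b.2)
      simpa [commutatorElement_def] using this)
    let N := normalizer (G : Set X)
    have hmain := class_two hp (A := N) G.normalizerMonoidHom hG hc (P.subgroupOf N) (Q.subgroupOf N)
      (hP.of_equiv (subgroupOfEquivOfLe hPG).symm)
      (by rw [Nat.card_congr (subgroupOfEquivOfLe hQG).toEquiv]; exact hQ)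
      (fun a ha => by
        rw [mem_normalizer_iff]
        intro y
        simp only [mem_subgroupOf, Subgroup.coe_mul, Subgroup.coe_inv]
        exact mem_normalizer_iff.1 (hPQ ha) y)
      (fun x hx a ha => Subtype.ext (by
        have hxC : (x : X) ∈ centralizer (Q : Set X) := hC ⟨x.2, mem_centralizer_iff.2 fun b hb => by
          have h := congrArg Subtype.val (hx ⟨b, hPG hb⟩ hb)
          change b * (x : X) * b⁻¹ = x at h
          exact mul_inv_eq_iff_eq_mul.1 h⟩
        show (a : X) * x * (a : X)⁻¹ = x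
        rw [mem_centralizer_iff.1 hxC (a : X) ha, mul_inv_cancel_right]))
    intro a ha
    rw [mem_centralizer_iff]
    intro g hg
    have h := congrArg Subtype.val (hmain ⟨a, hQG ha⟩ ha ⟨g, hg⟩)
    change a * g * a⁻¹ = g at h
    exact (mul_inv_eq_iff_eq_mul.1 h).symm

/-- Thompson's strengthening of the P × Q lemma for odd primes. Let p be an odd prime and let P, Q and G be subgroups of a finite group with P a p-group, Q of order prime to p and normalized by P, and G a p-group normalized by both P and Q. If every element of G centralized by P is centralized by Q, then Q centralizes G. -/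
theorem result {X : Type*} [Group X] [Finite X] {p : ℕ} [Fact p.Prime] (hp : p ≠ 2) (P Q G : Subgroup X) (hP : IsPGroup p P) (hQ : (Nat.card Q).Coprime p) (hPQ : P ≤ Subgroup.normalizer (Q : Set X)) (hG : IsPGroup p G) (hPG : P ≤ Subgroup.normalizer (G : Set X)) (hQG : Q ≤ Subgroup.normalizer (G : Set X)) (hC : G ⊓ Subgroup.centralizer (P : Set X) ≤ Subgroup.centralizer (Q : Set X)) : Q ≤ Subgroup.centralizer (G : Set X) := by
  exact main hp P Q hP hQ hPQ _ G rfl hG hPG hQG hC

end Cfsg.Agent.S3737
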