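import Cfsg.Statements.S3738
import Cfsg.Agent.Lib.Coprime.Commutator
import Cfsg.Agent.Lib.PGroup.Frattini
import Cfsg.Agent.Lib.PGroup.Class2
import Cfsg.Agent.Lib.Components.Subnormal

set_option autoImplicit false
open Cfsg

namespace Cfsg.Agent.S3738

open scoped commutatorElement

/-- A group with central `C` containing all squares, of index at least `64`, has an abelian subgroup
with more than four solutions of `a ^ 2 = 1`. -/
theorem no_rank_two {H : Type*} [Group H] [Finite H] (C : Subgroup H) (hC : C ≤ Subgroup.center H)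
    (hcomm : ∀ x y : H, ⁅x, y⁆ ∈ C) (hsq : ∀ x : H, x ^ 2 ∈ C) (hidx : 64 ≤ C.index)
    (hr : ∀ A : Subgroup H, IsMulCommutative A → Nat.card {a : A // a ^ 2 = 1} ≤ 4) : False := by
  classical
  have hCc : ∀ x y : H, ⁅x, y⁆ ∈ Subgroup.center H := fun x y => hC (hcomm x y)
  have hml : ∀ a b c : H, ⁅a * b, c⁆ = ⁅a, c⁆ * ⁅b, c⁆ := fun a b c =>
    Cfsg.Agent.PGroup.commutator_mul_left (hCc b c)
  have hmr : ∀ a b c : H, ⁅a, b * c⁆ = ⁅a, b⁆ * ⁅a, c⁆ := fun a b c =>
    Cfsg.Agent.PGroup.commutator_mul_right (hCc a c)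
  have hinvol : ∀ x y : H, ⁅x, y⁆ ^ 2 = 1 := fun x y => by
    rw [← Cfsg.Agent.PGroup.commutator_pow_left (hCc x y)]
    exact commutatorElement_eq_one_iff_mul_comm.2 ((Subgroup.mem_center_iff.1 (hC (hsq x)) y).symm)
  have hCab : IsMulCommutative C :=
    ⟨⟨fun a b => Subtype.ext (Subgroup.mem_center_iff.1 (hC b.2) a)⟩⟩
  let K := {a : C // a ^ 2 = 1}
  have hK : Nat.card K ≤ 4 := hr C hCab
  haveI := Fintype.ofFinite K
  let kmk : H → H → K := fun x y => ⟨⟨⁅x, y⁆, hcomm x y⟩, Subtype.ext (hinvol x y)⟩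
  -- one step of growth
  have grow : ∀ (S : Subgroup H), C ≤ S → ∀ y : H, Nat.card ↥(S ⊔ Subgroup.zpowers y) ≤ 2 * Nat.card S := by
    intro S hCS y
    haveI : S.Normal := ⟨fun s hs g => by
      have e : g * s * g⁻¹ = ⁅g, s⁆ * s := by rw [commutatorElement_def]; group
      rw [e]; exact mul_mem (hCS (hcomm g s)) hs⟩
    have h1 : S.relIndex (S ⊔ Subgroup.zpowers y) ≤ 2 := by
      rw [Subgroup.relIndex_sup_left]
      have hz : (y ^ 2) ∈ S := hCS (hsq y)
      have h2 := Subgroup.relIndex_ker (QuotientGroup.mk' S) (K := Subgroup.zpowers y)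
      rw [QuotientGroup.ker_mk', MonoidHom.map_zpowers, Nat.card_zpowers] at h2
      rw [h2]
      exact Nat.le_of_dvd two_pos (orderOf_dvd_of_pow_eq_one (by
        rw [← map_pow, ← MonoidHom.mem_ker, QuotientGroup.ker_mk']; exact hz))
    have h2 := Subgroup.relIndex_mul_relIndex ⊥ S (S ⊔ Subgroup.zpowers y) bot_le le_sup_left
    rw [Subgroup.relIndex_bot_left, Subgroup.relIndex_bot_left] at h2
    calc Nat.card ↥(S ⊔ Subgroup.zpowers y) = Nat.card S * S.relIndex (S ⊔ Subgroup.zpowers y) := h2.symm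
      _ ≤ Nat.card S * 2 := Nat.mul_le_mul_left _ h1
      _ = 2 * Nat.card S := mul_comm _ _
  have strict : ∀ (S : Subgroup H) (y : H), y ∉ S → 2 * Nat.card S ≤ Nat.card ↥(S ⊔ Subgroup.zpowers y) := by
    intro S y hy
    obtain ⟨c, hc⟩ := Subgroup.card_dvd_of_le (le_sup_left : S ≤ S ⊔ Subgroup.zpowers y)
    have hne : c ≠ 1 := fun h => hy (by
      have he : S = S ⊔ Subgroup.zpowers y := Subgroup.eq_of_le_of_card_ge le_sup_left (by rw [hc, h, mul_one])
      rw [he]; exact Subgroup.mem_sup_right (Subgroup.mem_zpowers y))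
    have hc0 : c ≠ 0 := fun h => Nat.card_pos.ne' (hc.trans (by rw [h, mul_zero]))
    rw [hc, mul_comm (Nat.card S) c]
    exact Nat.mul_le_mul_right _ (by omega)
  have hcard : 64 * Nat.card C ≤ Nat.card H := by
    rw [← C.card_mul_index, mul_comm]; exact Nat.mul_le_mul_left _ hidx
  obtain ⟨x, hx⟩ : ∃ x : H, x ∉ C := by
    by_contra! h
    rw [(Subgroup.eq_top_iff' C).2 h, Subgroup.index_top] at hidx
    omega
  -- the centraliser of `x`
  let φ : H →* ↥C := MonoidHom.mk' (fun y => ⟨⁅x, y⁆, hcomm x y⟩) fun a b => Subtype.ext (hmr x a b)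
  have hker : Nat.card H ≤ 4 * Nat.card φ.ker := by
    rw [← φ.ker.card_mul_index, mul_comm 4]
    refine Nat.mul_le_mul_left _ ?_
    rw [Subgroup.index_ker]
    refine le_trans (Nat.card_le_card_of_injective (fun c : φ.range => (⟨c.1, ?_⟩ : K)) ?_) hK
    · obtain ⟨c, y, rfl⟩ := c
      exact Subtype.ext (hinvol x y)
    · exact fun a b h => Subtype.ext (congrArg (fun k : K => k.1) h)
  have hCker : C ≤ φ.ker := fun c hc => Subtype.ext
    (commutatorElement_eq_one_iff_mul_comm.2 (Subgroup.mem_center_iff.1 (hC hc) x))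
  have pick : ∀ S : Subgroup H, Nat.card S < Nat.card φ.ker → ∃ y ∈ φ.ker, y ∉ S := by
    intro S hS
    by_contra! h
    exact absurd (Subgroup.card_le_of_le h) (not_le.2 hS)
  set S₂ := C ⊔ Subgroup.zpowers x
  have h2 : Nat.card S₂ ≤ 2 * Nat.card C := grow C le_rfl x
  have hC0 : 0 < Nat.card C := Nat.card_pos
  obtain ⟨y, hyk, hy⟩ := pick S₂ (by omega)
  set S₃ := S₂ ⊔ Subgroup.zpowers y
  have h3 : Nat.card S₃ ≤ 2 * Nat.card S₂ := grow S₂ le_sup_left y
  obtain ⟨z, hzk, hz⟩ := pick S₃ (by omega)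
  set S₄ := S₃ ⊔ Subgroup.zpowers z
  have h4 : Nat.card S₄ ≤ 2 * Nat.card S₃ := grow S₃ (le_sup_left.trans le_sup_left) z
  obtain ⟨w, hwk, hw⟩ := pick S₄ (by omega)
  have hS23 : S₂ ≤ S₃ := le_sup_left
  have hS34 : S₃ ≤ S₄ := le_sup_left
  have hy4 : y ∈ S₄ := hS34 (Subgroup.mem_sup_right (Subgroup.mem_zpowers y))
  have hy3 : y ∈ S₃ := Subgroup.mem_sup_right (Subgroup.mem_zpowers y)
  have hz4 : z ∈ S₄ := Subgroup.mem_sup_right (Subgroup.mem_zpowers z)
  have h24 : ∀ a ∈ S₄, S₂ ⊔ Subgroup.zpowers a ≤ S₄ := fun a ha =>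
    sup_le (hS23.trans hS34) (Subgroup.zpowers_le.2 ha)
  -- a commuting pair gives too large an abelian subgroup
  have finish : ∀ a b : H, a ∈ φ.ker → b ∈ φ.ker → a ∉ S₂ → b ∉ S₂ ⊔ Subgroup.zpowers a → ⁅a, b⁆ = 1 → False := by
    intro a b hak hbk ha hb hab
    let T : Set H := (C : Set H) ∪ {x, a, b}
    let A := Subgroup.closure T
    have hAab : IsMulCommutative A := by
      refine Subgroup.isMulCommutative_closure ?_
      have key : ∀ s ∈ ({x, a, b} : Set H), ∀ t ∈ ({x, a, b} : Set H), s * t = t * s := by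
        have hxa : x * a = a * x := commutatorElement_eq_one_iff_mul_comm.1 (congrArg Subtype.val hak)
        have hxb : x * b = b * x := commutatorElement_eq_one_iff_mul_comm.1 (congrArg Subtype.val hbk)
        have hab' : a * b = b * a := commutatorElement_eq_one_iff_mul_comm.1 hab
        rintro s (rfl | rfl | rfl) t (rfl | rfl | rfl) <;>
          first
          | rfl
          | exact hxa
          | exact hxa.symm
          | exact hxb
          | exact hxb.symm
          | exact hab'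
          | exact hab'.symm
      rintro s (hs | hs) t (ht | ht)
      · exact Subgroup.mem_center_iff.1 (hC ht) s
      · exact (Subgroup.mem_center_iff.1 (hC hs) t).symm
      · exact Subgroup.mem_center_iff.1 (hC ht) s
      · exact key s hs t ht
    have hA : S₂ ⊔ Subgroup.zpowers a ⊔ Subgroup.zpowers b ≤ A := by
      refine sup_le (sup_le (sup_le (fun c hc => Subgroup.subset_closure (Or.inl hc)) ?_) ?_) ?_ <;>
        exact Subgroup.zpowers_le.2 (Subgroup.subset_closure (Or.inr (by simp)))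
    have h8 : 8 * Nat.card C ≤ Nat.card A := by
      have e1 : 2 * Nat.card C ≤ Nat.card S₂ := strict C x hx
      have e2 := strict S₂ a ha
      have e3 := strict (S₂ ⊔ Subgroup.zpowers a) b hb
      have e4 := Subgroup.card_le_of_le hA
      omega
    letI : CommGroup A := { (inferInstance : Group A) with mul_comm := fun u v => hAab.is_comm.comm u v }
    let sq : A →* ↥C := MonoidHom.mk' (fun u => ⟨(u : H) ^ 2, hsq u⟩) fun u v => Subtype.ext (by
      show ((u * v : A) : H) ^ 2 = (u : H) ^ 2 * (v : H) ^ 2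
      rw [← SubgroupClass.coe_pow, mul_pow, Subgroup.coe_mul, SubgroupClass.coe_pow, SubgroupClass.coe_pow])
    have hk2 : Nat.card sq.ker ≤ 4 := by
      refine le_trans (Nat.card_le_card_of_injective
        (fun u : sq.ker => (⟨u.1, Subtype.ext (congrArg Subtype.val u.2 :)⟩ : {u : A // u ^ 2 = 1})) ?_) (hr A hAab)
      exact fun u v h => Subtype.ext (congrArg Subtype.val h :)
    have himg : sq.ker.index ≤ Nat.card C := by
      rw [Subgroup.index_ker]
      exact Subgroup.card_le_card_group _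
    have := Nat.mul_le_mul hk2 himg
    rw [sq.ker.card_mul_index] at this
    omega
  have hK' : ∀ a b c : K, a.1 ≠ 1 → b.1 ≠ 1 → c.1 ≠ 1 → a ≠ b → a ≠ c → b ≠ c →
      (c.1 : H) = (a.1 : H) * b.1 := by
    intro a b c ha hb hc hab hac hbc
    by_contra hne
    have hsqa : (a.1 : H) * a.1 = 1 := by rw [← pow_two]; exact congrArg Subtype.val a.2
    have hsqb : (b.1 : H) * b.1 = 1 := by rw [← pow_two]; exact congrArg Subtype.val b.2
    let o : K := ⟨1, one_pow 2⟩
    let m : K := ⟨a.1 * b.1, by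
      rw [(show Commute a.1 b.1 from hCab.is_comm.comm _ _).mul_pow, a.2, b.2, mul_one]⟩
    have hma : m ≠ a := fun h => hb (Subtype.ext (mul_left_cancel (a := (a.1 : H))
      ((congrArg (fun k : K => (k.1 : H)) h).trans (mul_one _).symm)))
    have hmb : m ≠ b := fun h => ha (Subtype.ext (mul_right_cancel (b := (b.1 : H))
      ((congrArg (fun k : K => (k.1 : H)) h).trans (one_mul _).symm)))
    have hmo : m ≠ o := fun h => hab (Subtype.ext (Subtype.ext (mul_right_cancel (b := (b.1 : H))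
      ((congrArg (fun k : K => (k.1 : H)) h).trans hsqb.symm))))
    have hmc : m ≠ c := fun h => hne (congrArg (fun k : K => (k.1 : H)) h).symm
    have hoa : o ≠ a := fun h => ha (congrArg Subtype.val h).symm
    have hob : o ≠ b := fun h => hb (congrArg Subtype.val h).symm
    have hoc : o ≠ c := fun h => hc (congrArg Subtype.val h).symm
    have : ({o, a, b, c, m} : Finset K).card = 5 := by
      rw [Finset.card_insert_of_notMem, Finset.card_insert_of_notMem, Finset.card_insert_of_notMem,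
        Finset.card_insert_of_notMem, Finset.card_singleton] <;>
        simp [hab, hac, hbc, hoa, hob, hoc, hmo.symm, hma.symm, hmb.symm, hmc.symm]
    have h5 := Finset.card_le_univ ({o, a, b, c, m} : Finset K)
    rw [this, ← Nat.card_eq_fintype_card] at h5
    omega
  have hinv : ∀ a b : H, ⁅b, a⁆ = ⁅a, b⁆ := fun a b => by
    have h2 : ⁅a, b⁆⁻¹ = ⁅a, b⁆ := inv_eq_of_mul_eq_one_right (by rw [← pow_two]; exact hinvol a b)
    rw [← commutatorElement_inv a b, h2]
  have hwS : ∀ a ∈ S₄, w ∉ S₂ ⊔ Subgroup.zpowers a := fun a ha h => hw (h24 a ha h)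
  by_cases u1 : ⁅y, z⁆ = 1
  · exact finish y z hyk hzk hy hz u1
  by_cases v1 : ⁅y, w⁆ = 1
  · exact finish y w hyk hwk hy (hwS y hy4) v1
  by_cases s1 : ⁅z, w⁆ = 1
  · exact finish z w hzk hwk (fun h => hz (hS23 h)) (hwS z hz4) s1
  by_cases uv : ⁅y, z⁆ = ⁅y, w⁆
  · refine finish y (z * w) hyk (mul_mem hzk hwk) hy (fun h => hw ?_) ?_
    · have := mul_mem (inv_mem hz4) (hS34 h : z * w ∈ S₄)
      rwa [inv_mul_cancel_left] at this
    · rw [hmr, uv, ← pow_two, hinvol]
  by_cases us : ⁅y, z⁆ = ⁅z, w⁆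
  · refine finish z (y * w) hzk (mul_mem hyk hwk) (fun h => hz (hS23 h)) (fun h => hw ?_) ?_
    · have := mul_mem (inv_mem hy4) (h24 z hz4 h : y * w ∈ S₄)
      rwa [inv_mul_cancel_left] at this
    · rw [hmr, hinv y z, us, ← pow_two, hinvol]
  by_cases vs : ⁅y, w⁆ = ⁅z, w⁆
  · refine finish (y * z) w (mul_mem hyk hzk) hwk (fun h => hz ?_) (hwS _ (mul_mem hy4 hz4)) ?_
    · have := mul_mem (inv_mem hy3) (hS23 h : y * z ∈ S₃)
      rwa [inv_mul_cancel_left] at this
    · rw [hml, vs, ← pow_two, hinvol]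
  · have hs : ⁅z, w⁆ = ⁅y, z⁆ * ⁅y, w⁆ := hK' (kmk y z) (kmk y w) (kmk z w)
      (fun h => u1 (congrArg Subtype.val h)) (fun h => v1 (congrArg Subtype.val h))
      (fun h => s1 (congrArg Subtype.val h))
      (fun h => uv (congrArg (fun k : K => (k.1 : H)) h)) (fun h => us (congrArg (fun k : K => (k.1 : H)) h))
      (fun h => vs (congrArg (fun k : K => (k.1 : H)) h))
    refine finish (z * y) (w * y) (mul_mem hzk hyk) (mul_mem hwk hyk) (fun h => hz ?_) (fun h => hw ?_) ?_
    · have := mul_mem (hS23 h : z * y ∈ S₃) (inv_mem hy3)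
      rwa [mul_inv_cancel_right] at this
    · have := mul_mem (h24 _ (mul_mem hz4 hy4) h : w * y ∈ S₄) (inv_mem hy4)
      rwa [mul_inv_cancel_right] at this
    · rw [hml, hmr, hmr, commutatorElement_self, mul_one, hinv y z, hs,
        show ⁅y, z⁆ * ⁅y, w⁆ * ⁅y, z⁆ * ⁅y, w⁆ = (⁅y, z⁆ * ⁅y, w⁆) ^ 2 by rw [pow_two]; group]
      rw [← hs, hinvol]

/-- Let d be a non-identity 3-element of a finite group and P a 2-subgroup normalized by d on which ⟨d⟩ acts faithfully (no non-identity power of d centralizes P) and without non-identity fixed points (C_P(d) = 1). If every abelian subgroup of P has 2-rank at most 2, then d has order 3. -/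
theorem result {X : Type*} [Group X] [Finite X] (d : X) (n : ℕ) (hn : 1 ≤ n) (hd : orderOf d = 3 ^ n) (P : Subgroup X) (hP : IsPGroup 2 P) (hdP : d ∈ Subgroup.normalizer (P : Set X)) (hfaith : Subgroup.zpowers d ⊓ Subgroup.centralizer (P : Set X) = ⊥) (hfpf : P ⊓ Subgroup.centralizer {d} = ⊥) (hrank : ∀ V : Subgroup X, V ≤ P → IsMulCommutative V → Cfsg.PRankLE 2 2 V) : orderOf d = 3 := by
  classical
  by_contra hne
  have hn2 : 2 ≤ n := by
    by_contra h
    have : n = 1 := by omega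
    rw [this, pow_one] at hd
    exact hne hd
  set e := d ^ (3 ^ (n - 1)) with he
  have he1 : e ≠ 1 := by
    refine pow_ne_one_of_lt_orderOf (pow_ne_zero _ (by norm_num)) ?_
    rw [hd]; exact Nat.pow_lt_pow_right (by norm_num) (by omega)
  have heZ : e ∈ Subgroup.zpowers d := ⟨((3 ^ (n - 1) : ℕ) : ℤ), zpow_natCast d _⟩
  set E := Subgroup.zpowers e with hE
  have hEnot : ¬ E ≤ Subgroup.centralizer (P : Set X) := fun h => he1 (by
    have : e ∈ Subgroup.zpowers d ⊓ Subgroup.centralizer (P : Set X) := ⟨heZ, h (Subgroup.mem_zpowers e)⟩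
    rw [hfaith] at this; exact Subgroup.mem_bot.1 this)
  obtain ⟨S, ⟨hSP, hdS, hSne⟩, hmin⟩ :=
    ({S : Subgroup X | S ≤ P ∧ d ∈ Subgroup.normalizer (S : Set X) ∧ ¬ E ≤ Subgroup.centralizer (S : Set X)}).toFinite.exists_minimal
      ⟨P, le_rfl, hdP, hEnot⟩
  have hminS : ∀ T : Subgroup X, T < S → d ∈ Subgroup.normalizer (T : Set X) → E ≤ Subgroup.centralizer (T : Set X) :=
    fun T hT hdT => by_contra fun h => hT.not_ge (hmin ⟨hT.le.trans hSP, hdT, h⟩ hT.le)
  have hSp : IsPGroup 2 S := hP.to_le hSP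
  have hEd : ∀ (T : Subgroup X), d ∈ Subgroup.normalizer (T : Set X) → E ≤ Subgroup.normalizer (T : Set X) :=
    fun T hT => Subgroup.zpowers_le.2 ((Subgroup.zpowers_le.2 hT) heZ)
  have hcop : (Nat.card E).Coprime (Nat.card S) := by
    obtain ⟨i, hi⟩ := hSp.exists_card_eq
    have h1 : Nat.card E ∣ 3 ^ n := by
      rw [hE, Nat.card_zpowers, ← hd]; exact orderOf_pow_dvd _
    rw [hi]
    exact ((Nat.Coprime.pow_left n (by norm_num : (3 : ℕ).Coprime 2)).coprime_dvd_left h1).pow_right i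
  have hSs : Group.IsSolvable S := by
    haveI := hSp.isNilpotent
    infer_instance
  -- [S, e] = S
  have hcommS : ⁅S, E⁆ = S := by
    have hle := Cfsg.Agent.Coprime.commutator_le_left_of_le_normalizer (hEd S hdS)
    by_contra hlt
    refine hSne (Cfsg.Agent.Coprime.le_centralizer_of_commutator_le_centralizer (hEd S hdS) hcop (Or.inr hSs)
      (hminS _ (lt_of_le_of_ne hle hlt) ?_))
    apply Cfsg.Agent.Coprime.mem_normalizer_of_conj_smul_eq
    show Subgroup.map (MulAut.conj d).toMonoidHom ⁅S, E⁆ = _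
    rw [Subgroup.map_commutator]
    refine congrArg₂ (fun A B => ⁅A, B⁆) (Cfsg.Agent.Coprime.conj_smul_eq_self_of_mem hdS) ?_
    refine Cfsg.Agent.Coprime.conj_smul_eq_self_of_mem (Subgroup.centralizer_le_normalizer _ ?_)
    rw [Subgroup.mem_centralizer_iff]
    rintro _ ⟨i, rfl⟩
    exact ((Commute.self_pow d _).zpow_right i).eq.symm
  haveI : Nontrivial S := by
    rw [Subgroup.nontrivial_iff_ne_bot]
    rintro rfl
    exact hSne (by intro x _; rw [Subgroup.mem_centralizer_iff]; intro y hy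
                   rw [SetLike.mem_coe, Subgroup.mem_bot] at hy; simp [hy])
  set Φ := (frattini ↥S).map S.subtype with hΦ
  have hΦS : Φ ≤ S := Subgroup.map_subtype_le _
  have hΦlt : Φ < S := by
    refine lt_of_le_of_ne hΦS fun h => ?_
    have : frattini ↥S = ⊤ := by
      rw [← Subgroup.map_subtype_inj, ← MonoidHom.range_eq_map, Subgroup.range_subtype]; exact h
    obtain ⟨M, hM⟩ := (IsCoatomic.eq_top_or_exists_le_coatom (⊥ : Subgroup S)).resolve_left bot_ne_top
    exact hM.1.1 (top_unique (this ▸ frattini_le_coatom hM.1))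
  have hdΦ : d ∈ Subgroup.normalizer (Φ : Set X) :=
    Cfsg.Agent.Components.normalizer_le_normalizer_map_of_characteristic S (frattini ↥S) hdS
  have hΦc : E ≤ Subgroup.centralizer (Φ : Set X) := hminS Φ hΦlt hdΦ
  let C : Subgroup S := (Subgroup.centralizer (E : Set X)).subgroupOf S
  have hΦC : frattini ↥S ≤ C := fun x hx => by
    show (x : X) ∈ Subgroup.centralizer (E : Set X)
    exact Subgroup.le_centralizer_iff.1 hΦc ⟨x, hx, rfl⟩
  have hcommC : ∀ x y : S, ⁅x, y⁆ ∈ C := fun x y =>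
    hΦC (Cfsg.Agent.PGroup.commutator_le_frattini hSp
      (Subgroup.commutator_mem_commutator (Subgroup.mem_top x) (Subgroup.mem_top y)))
  have hsqC : ∀ x : S, x ^ 2 ∈ C := fun x => hΦC (Cfsg.Agent.PGroup.pow_mem_frattini hSp x)
  have hCZ : C ≤ Subgroup.center S := by
    set D := S ⊓ Subgroup.centralizer (E : Set X) with hD
    have h1 : ⁅D, E⁆ = ⊥ := Subgroup.commutator_eq_bot_iff_le_centralizer.2 inf_le_right
    have h2 : ⁅S, D⁆ ≤ Subgroup.centralizer (E : Set X) := Subgroup.commutator_le.2 fun a ha b hb =>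
      hcommC ⟨a, ha⟩ ⟨b, hb.1⟩
    have h3 : ⁅⁅S, D⁆, E⁆ = ⊥ := Subgroup.commutator_eq_bot_iff_le_centralizer.2 h2
    have h4 : ⁅⁅D, E⁆, S⁆ = ⊥ := by rw [h1, Subgroup.commutator_bot_left]
    have h5 : ⁅⁅E, S⁆, D⁆ = ⊥ := Subgroup.commutator_commutator_eq_bot_of_rotate h3 h4
    rw [Subgroup.commutator_comm E S, hcommS, Subgroup.commutator_eq_bot_iff_le_centralizer] at h5
    intro c hc
    rw [Subgroup.mem_center_iff]
    intro y
    exact Subtype.ext (Subgroup.mem_centralizer_iff.1 (h5 y.2) c ⟨c.2, hc⟩).symm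
  have hCne : C ≠ ⊤ := fun h => hSne (Subgroup.le_centralizer_iff.1 fun x hx =>
    (h ▸ Subgroup.mem_top (⟨x, hx⟩ : S) : (⟨x, hx⟩ : S) ∈ C))
  -- the free action of ⟨d⟩ outside C
  have hdZ : ∀ t : Subgroup.zpowers d, ∀ x : X, x ∈ S → x ∉ Subgroup.centralizer (E : Set X) →
      (t : X) * x * (t : X)⁻¹ ∈ S ∧ (t : X) * x * (t : X)⁻¹ ∉ Subgroup.centralizer (E : Set X) := by
    intro t x hx hxC
    have htN : (t : X) ∈ Subgroup.normalizer (S : Set X) := (Subgroup.zpowers_le.2 hdS) t.2
    refine ⟨(Subgroup.mem_normalizer_iff.1 htN x).1 hx, fun h => hxC ?_⟩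
    have htC : (t : X) ∈ Subgroup.centralizer (E : Set X) := by
      obtain ⟨i, hi⟩ := t.2
      rw [Subgroup.mem_centralizer_iff]
      rintro _ ⟨j, rfl⟩
      rw [← hi]
      exact ((((Commute.self_pow d (3 ^ (n - 1))).zpow_right j).zpow_left i).eq).symm
    have := mul_mem (mul_mem (inv_mem htC) h) htC
    simpa [mul_assoc] using this
  let W := {x : X // x ∈ S ∧ x ∉ Subgroup.centralizer (E : Set X)}
  letI : MulAction (Subgroup.zpowers d) W :=
    { smul := fun t x => ⟨(t : X) * x.1 * (t : X)⁻¹, hdZ t x.1 x.2.1 x.2.2⟩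
      one_smul := fun x => Subtype.ext (by
        show ((1 : Subgroup.zpowers d) : X) * x.1 * ((1 : Subgroup.zpowers d) : X)⁻¹ = x.1
        simp)
      mul_smul := fun s t x => Subtype.ext (by
        show ((s * t : Subgroup.zpowers d) : X) * x.1 * ((s * t : Subgroup.zpowers d) : X)⁻¹ =
          (s : X) * ((t : X) * x.1 * (t : X)⁻¹) * (s : X)⁻¹
        simp [mul_assoc]) }
  have hfree : ∀ x : W, MulAction.stabilizer (Subgroup.zpowers d) x = ⊥ := by
    intro x
    rw [Subgroup.eq_bot_iff_forall]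
    intro t ht
    by_contra ht1
    apply x.2.2
    have hfix : Commute (t : X) x.1 := mul_inv_eq_iff_eq_mul.1 (congrArg Subtype.val ht)
    obtain ⟨j, hj, hje⟩ := (Nat.dvd_prime_pow (by norm_num : Nat.Prime 3)).1
      (hd ▸ (orderOf_dvd_of_mem_zpowers t.2 : orderOf (t : X) ∣ orderOf d))
    have hj0 : 0 < j := by
      refine Nat.pos_of_ne_zero fun h => ht1 (Subtype.ext ?_)
      rw [h, pow_zero, orderOf_eq_one_iff] at hje
      exact hje
    have hecard : orderOf e = 3 := by
      rw [he, orderOf_pow, hd, Nat.gcd_eq_right (pow_dvd_pow 3 (Nat.sub_le n 1)),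
        Nat.pow_div (Nat.sub_le n 1) (by norm_num), show n - (n - 1) = 1 by omega, pow_one]
    have hmem : e ∈ Subgroup.zpowers (t : X) := by
      haveI : Finite (Subgroup.zpowers d) := inferInstance
      haveI : IsCyclic (Subgroup.zpowers d) := inferInstance
      let T : Subgroup (Subgroup.zpowers d) := Subgroup.zpowers t
      let s : Subgroup.zpowers d := ⟨(t : X) ^ 3 ^ (j - 1), pow_mem t.2 _⟩
      have hsT : s ∈ T := by
        have : s = t ^ 3 ^ (j - 1) := Subtype.ext (by simp [s])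
        exact this ▸ pow_mem (Subgroup.mem_zpowers t) _
      have hso : orderOf s = 3 := by
        rw [← Subgroup.orderOf_coe]
        show orderOf ((t : X) ^ 3 ^ (j - 1)) = 3
        rw [orderOf_pow, hje, Nat.gcd_eq_right (pow_dvd_pow 3 (Nat.sub_le j 1)),
          Nat.pow_div (Nat.sub_le j 1) (by norm_num), show j - (j - 1) = 1 by omega, pow_one]
      have heo : orderOf (⟨e, heZ⟩ : Subgroup.zpowers d) = 3 := by rw [← Subgroup.orderOf_coe]; exact hecard
      have h' : (⟨e, heZ⟩ : Subgroup.zpowers d) ∈ T := by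
        haveI := Fintype.ofFinite (Subgroup.zpowers d)
        have hsub : (Subgroup.zpowers s : Set (Subgroup.zpowers d)).toFinset ⊆
            Finset.univ.filter (fun y => y ^ 3 = 1) := fun y hy => by
          obtain ⟨i, rfl⟩ := Set.mem_toFinset.1 hy
          refine Finset.mem_filter.2 ⟨Finset.mem_univ _, ?_⟩
          show (s ^ i) ^ 3 = 1
          rw [← zpow_natCast, ← zpow_mul, mul_comm, zpow_mul, zpow_natCast, ← hso, pow_orderOf_eq_one, one_zpow]
        have heq := Finset.eq_of_subset_of_card_le hsub (by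
          refine (IsCyclic.card_pow_eq_one_le (α := Subgroup.zpowers d) (by norm_num : 0 < 3)).trans ?_
          rw [← Set.ncard_eq_toFinset_card', ← Nat.card_coe_set_eq]
          exact (hso.symm.trans (Nat.card_zpowers s).symm).le)
        refine (Subgroup.zpowers_le.2 hsT) (Set.mem_toFinset.1 (heq.symm ▸ ?_))
        exact Finset.mem_filter.2 ⟨Finset.mem_univ _, by rw [← heo, pow_orderOf_eq_one]⟩
      obtain ⟨i, hi⟩ := h'
      exact ⟨i, by simpa using congrArg Subtype.val hi⟩
    rw [Subgroup.mem_centralizer_iff]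
    rintro _ ⟨i, rfl⟩
    obtain ⟨k, hk⟩ := hmem
    have : Commute e x.1 := hk ▸ hfix.zpow_left k
    exact (this.zpow_left i).eq
  haveI : Finite W := Subtype.finite
  have hW : 3 ^ n ∣ Nat.card W := by
    refine ⟨Nat.card (Quotient (MulAction.orbitRel (Subgroup.zpowers d) W)), ?_⟩
    rw [Nat.card_congr (MulAction.selfEquivOrbitsQuotientProd hfree), Nat.card_prod, Nat.card_zpowers, hd, mul_comm]
  have hWc : Nat.card W = Nat.card C * (C.index - 1) := by
    have e1 : W ≃ {x : S // x ∉ C} :=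
      { toFun := fun x => ⟨⟨x.1, x.2.1⟩, x.2.2⟩
        invFun := fun x => ⟨x.1.1, x.1.2, x.2⟩
        left_inv := fun x => rfl
        right_inv := fun x => rfl }
    haveI := Fintype.ofFinite S
    rw [Nat.card_congr e1, Nat.mul_sub, C.card_mul_index, mul_one, Nat.card_eq_fintype_card,
      Fintype.card_subtype_compl, Nat.card_eq_fintype_card, Nat.card_eq_fintype_card]
  have h9 : 9 ∣ C.index - 1 := by
    have h1 : 9 ∣ Nat.card C * (C.index - 1) := hWc ▸ (pow_dvd_pow 3 hn2).trans hW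
    obtain ⟨i, hi⟩ := (hSp.to_subgroup C).exists_card_eq
    refine (Nat.Coprime.dvd_of_dvd_mul_left ?_ h1)
    rw [hi]
    exact Nat.Coprime.pow_right i (by norm_num)
  obtain ⟨m, hm⟩ := hSp.index C
  have h64 : 64 ≤ C.index := by
    rw [hm] at h9 ⊢
    have hm1 : m ≠ 0 := fun h => hCne (Subgroup.index_eq_one.1 (by rw [hm, h, pow_zero]))
    by_contra hlt
    have hlt' : m < 6 := (Nat.pow_lt_pow_iff_right one_lt_two).1 (by omega : 2 ^ m < 2 ^ 6)
    interval_cases m <;> simp_all
  refine no_rank_two C hCZ hcommC hsqC h64 fun A hA => ?_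
  have hA' : IsMulCommutative ↥(A.map S.subtype) := by
    refine ⟨⟨fun a b => ?_⟩⟩
    obtain ⟨a', ha', hae⟩ := a.2
    obtain ⟨b', hb', hbe⟩ := b.2
    apply Subtype.ext
    rw [Subgroup.coe_mul, Subgroup.coe_mul, ← hae, ← hbe]
    exact congrArg (fun u : A => ((u : S) : X)) (hA.is_comm.comm (⟨a', ha'⟩ : A) ⟨b', hb'⟩)
  have hle : A.map S.subtype ≤ P := (Subgroup.map_subtype_le A).trans hSP
  let B : Subgroup ↥(A.map S.subtype) :=
    { carrier := {a | a ^ 2 = 1}
      one_mem' := one_pow 2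
      mul_mem' := fun {a b} ha hb => by
        simp only [Set.mem_ofPred_eq] at *
        rw [(show Commute a b from hA'.is_comm.comm a b).mul_pow, ha, hb, mul_one]
      inv_mem' := fun {a} ha => by
        simp only [Set.mem_ofPred_eq] at *
        rw [inv_pow, ha, inv_one] }
  have hB := hrank _ hle hA' B ⟨⟨fun a b => Subtype.ext (hA'.is_comm.comm _ _)⟩⟩ (fun a ha => ha)
  refine le_trans (Nat.card_le_card_of_injective
    (fun a : {a : A // a ^ 2 = 1} => (⟨⟨((a.1 : S) : X), Subgroup.mem_map_of_mem _ a.1.2⟩,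
      Subtype.ext (congrArg (fun u : A => ((u : S) : X)) a.2 :)⟩ : B)) ?_) (hB.trans (by norm_num))
  intro a b h
  exact Subtype.ext (Subtype.ext (Subtype.ext (congrArg (fun u : B => ((u : ↥(A.map S.subtype)) : X)) h :)))

end Cfsg.Agent.S3738
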