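import Cfsg.Statements.S3739
import Cfsg.Agent.Lib.Components.Fitting
import Cfsg.Agent.Lib.Components.Subnormal
import Cfsg.Agent.Lib.Coprime.Basic
import Cfsg.Agent.Lib.PGroup.Basic
import Cfsg.Agent.Lib.PGroup.Critical
import Cfsg.Agent.Lib.PGroup.Frattini
import Mathlib.GroupTheory.Perm.Cycle.Type
-- import your own Cfsg.Agent.* helpers here

set_option autoImplicit false
open Cfsg

namespace Cfsg.Agent.S3739

open Cfsg.Agent.Components Cfsg.Agent Subgroup
open scoped commutatorElement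

set_option maxHeartbeats 1000000

variable {G : Type*} [Group G] [Finite G]

omit [Finite G] in
theorem comm_mul {x y u : G} (hyu : Commute x (y * u * y⁻¹ * u⁻¹)) :
    x * y * u * (x * y)⁻¹ * u⁻¹ = y * u * y⁻¹ * u⁻¹ * (x * u * x⁻¹ * u⁻¹) := by
  calc x * y * u * (x * y)⁻¹ * u⁻¹ = x * (y * u * y⁻¹ * u⁻¹) * u * x⁻¹ * u⁻¹ := by group
    _ = y * u * y⁻¹ * u⁻¹ * x * u * x⁻¹ * u⁻¹ := by rw [hyu.eq]
    _ = _ := by group

omit [Finite G] in
theorem sq_mul {x y : G} (h : Commute x (y * x * y⁻¹ * x⁻¹)) :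
    x * y * (x * y) = x * x * (y * x * y⁻¹ * x⁻¹) * (y * y) := by
  calc x * y * (x * y) = x * (y * x * y⁻¹ * x⁻¹) * x * (y * y) := by group
    _ = _ := by rw [mul_assoc x (y * x * y⁻¹ * x⁻¹) x, ← h.eq]; group

/-- A group `W` of exponent two covered by four elements. -/
theorem mul_mem_pair {W : Subgroup G} (hW : Nat.card ↥W ≤ 4) (hWsq : ∀ w ∈ W, w * w = 1) {a p q : G}
    (ha : a ∈ W) (hp : p ∈ W) (hq : q ∈ W) (ha1 : a ≠ 1) (hp1 : p ≠ 1) (hpa : p ≠ a) (hq1 : q ≠ 1)
    (hqa : q ≠ a) : p * q = 1 ∨ p * q = a := by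
  classical
  by_contra hno
  push Not at hno
  obtain ⟨hpq1, hpqa⟩ := hno
  have hpq : p ≠ q := fun e => hpq1 (e ▸ hWsq p hp)
  have h1 : p * q ≠ p := fun e => hq1 (mul_eq_left.mp e)
  have h2 : p * q ≠ q := fun e => hp1 (mul_eq_right.mp e)
  have hsub : ∀ u ∈ ({1, a, p, q, p * q} : Finset G), u ∈ W := by
    intro u hu
    simp only [Finset.mem_insert, Finset.mem_singleton] at hu
    rcases hu with rfl | rfl | rfl | rfl | rfl
    exacts [one_mem W, ha, hp, hq, mul_mem hp hq]
  have hcard : ({1, a, p, q, p * q} : Finset G).card = 5 := by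
    simp [Finset.card_insert_of_notMem, ha1.symm, hp1.symm, hq1.symm, Ne.symm hpq1, Ne.symm hpa,
      Ne.symm hqa, Ne.symm hpqa, hpq, Ne.symm h1, Ne.symm h2]
  have := Nat.card_le_card_of_injective (fun u : ({1, a, p, q, p * q} : Finset G) => (⟨u, hsub u u.2⟩ : W))
    fun u v e => Subtype.ext (congrArg (fun w : W => (w : G)) e)
  rw [Nat.card_eq_fintype_card, Fintype.card_coe, hcard] at this
  omega

/-- The counting bound `|X / W| ≤ 32`. -/
theorem card_le_of_squares {X W : Subgroup G} (hW : Nat.card ↥W ≤ 4) (hWsq : ∀ w ∈ W, w * w = 1)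
    (hcen : ∀ w ∈ W, ∀ x ∈ X, Commute x w) (hsq : ∀ x ∈ X, x * x ∈ W)
    (hinv : ∀ x ∈ X, x * x = 1 → x ∈ W) {x0 : G} (hx0 : x0 ∈ X) (hx0W : x0 ∉ W) :
    Nat.card ↥X ≤ 32 * 4 := by
  classical
  have hc : ∀ u ∈ X, ∀ v ∈ X, u * v * u⁻¹ * v⁻¹ ∈ W := by
    intro u hu v hv
    have e : u * v * u⁻¹ * v⁻¹ = u * u * (u⁻¹ * v * (u⁻¹ * v)) * (v⁻¹ * v⁻¹) := by group
    rw [e]
    exact mul_mem (mul_mem (hsq u hu) (hsq _ (mul_mem (inv_mem hu) hv))) (hsq _ (inv_mem hv))
  set a := x0 * x0 with ha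
  have haW : a ∈ W := hsq x0 hx0
  have ha1 : a ≠ 1 := fun e => hx0W (hinv x0 hx0 e)
  set K := X ⊓ centralizer ({x0} : Set G) with hK
  have hKX : K ≤ X := inf_le_left
  have hKc : ∀ u ∈ K, Commute u x0 := fun u hu => mem_centralizer_singleton_iff.mp hu.2
  -- `|X : K| ≤ |W|`
  have hidx : (K.subgroupOf X).index ≤ 4 := by
    refine le_trans ?_ hW
    have hwd : ∀ u v : X, QuotientGroup.leftRel (K.subgroupOf X) u v →
        (⟨(u : G) * x0 * (u : G)⁻¹ * x0⁻¹, hc _ u.2 _ hx0⟩ : W) =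
          ⟨(v : G) * x0 * (v : G)⁻¹ * x0⁻¹, hc _ v.2 _ hx0⟩ := by
      intro u v huv
      rw [QuotientGroup.leftRel_apply] at huv
      have h1 : Commute ((u : G)⁻¹ * v) x0 := hKc _ huv
      refine Subtype.ext ?_
      show (u : G) * x0 * (u : G)⁻¹ * x0⁻¹ = _
      calc (u : G) * x0 * (u : G)⁻¹ * x0⁻¹
          = (u : G) * (((u : G)⁻¹ * v) * x0 * ((u : G)⁻¹ * v)⁻¹) * (u : G)⁻¹ * x0⁻¹ := by
            rw [h1.eq, mul_inv_cancel_right]
        _ = _ := by group
    refine Nat.card_le_card_of_injective (fun c : X ⧸ K.subgroupOf X => Quotient.liftOn' c _ hwd) ?_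
    intro c₁ c₂
    induction c₁ using QuotientGroup.induction_on with
    | H u =>
      induction c₂ using QuotientGroup.induction_on with
      | H v =>
        intro e
        have e' : (u : G) * x0 * (u : G)⁻¹ * x0⁻¹ = (v : G) * x0 * (v : G)⁻¹ * x0⁻¹ :=
          congrArg Subtype.val e
        rw [mul_left_inj] at e'
        rw [QuotientGroup.eq]
        refine Subgroup.mem_subgroupOf.mpr (Subgroup.mem_inf.mpr
          ⟨mul_mem (inv_mem u.2) v.2, mem_centralizer_singleton_iff.mpr ?_⟩)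
        show (u : G)⁻¹ * v * x0 = x0 * ((u : G)⁻¹ * v)
        calc (u : G)⁻¹ * v * x0 = (u : G)⁻¹ * ((v : G) * x0 * (v : G)⁻¹) * v := by group
          _ = _ := by rw [← e']; group
  -- `|K| ≤ 32`
  have hKcard : Nat.card ↥K ≤ 32 := by
    set H := zpowers x0 ⊔ W with hH
    have hHX : H ≤ X ⊓ centralizer ({x0} : Set G) ⊔ W := sup_le_sup_right
      (le_inf (zpowers_le.mpr hx0) (zpowers_le.mpr (mem_centralizer_singleton_iff.mpr rfl))) W
    have hn : zpowers x0 ≤ normalizer (W : Set G) := by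
      refine le_trans ?_ (centralizer_le_normalizer _)
      exact zpowers_le.mpr (mem_centralizer_iff.mpr fun w hw => (hcen w hw x0 hx0).eq.symm)
    have hHmem : ∀ u ∈ H, u ∈ W ∨ x0⁻¹ * u ∈ W := by
      intro u hu
      obtain ⟨p, hp, w, hw, rfl⟩ := (Coprime.mem_sup_iff_of_le_normalizer hn).mp hu
      obtain ⟨i, rfl⟩ := mem_zpowers_iff.mp hp
      have ha2 : x0 ^ (2 : ℤ) ∈ W := by rw [zpow_two]; exact haW
      rcases Int.even_or_odd i with ⟨m, rfl⟩ | ⟨m, rfl⟩
      · left
        rw [← two_mul, zpow_mul]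
        exact mul_mem (zpow_mem ha2 m) hw
      · right
        rw [add_comm, zpow_add, zpow_one, zpow_mul, mul_assoc x0, inv_mul_cancel_left]
        exact mul_mem (zpow_mem ha2 m) hw
    have hWH : W ≤ H := le_sup_right
    have hx0H : x0 ∈ H := mem_sup_left (mem_zpowers x0)
    have hout : ∀ u ∈ K, u ∉ H → u * u ≠ 1 ∧ u * u ≠ a := by
      intro u hu huH
      refine ⟨fun e => huH (hWH (hinv u (hKX hu) e)), fun e => huH ?_⟩
      have h1 : x0 * u * (x0 * u) = 1 := by
        calc x0 * u * (x0 * u) = x0 * (u * x0) * u := by group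
          _ = (x0 * x0) * (u * u) := by rw [(hKc u hu).eq]; group
          _ = 1 := by rw [e, ← ha, hWsq a haW]
      exact (H.mul_mem_cancel_left hx0H).mp (hWH (hinv _ (mul_mem hx0 (hKX hu)) h1))
    have hpair : ∀ u ∈ K, ∀ v ∈ K, u ∉ H → v ∉ H → u * v ∉ H →
        v * u * v⁻¹ * u⁻¹ ≠ 1 ∧ v * u * v⁻¹ * u⁻¹ ≠ a := by
      intro u hu v hv huH hvH huvH
      set c := v * u * v⁻¹ * u⁻¹ with hc'
      have hcW : c ∈ W := hc v (hKX hv) u (hKX hu)
      have e := sq_mul (x := u) (y := v) (hcen c hcW u (hKX hu))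
      rw [← hc'] at e
      have e' : u * v * (u * v) = c * (u * u * (v * v)) := by
        rw [e, (hcen c hcW (u * u) (mul_mem (hKX hu) (hKX hu))).eq, mul_assoc]
      obtain ⟨hu1, hua⟩ := hout u hu huH
      obtain ⟨hv1, hva⟩ := hout v hv hvH
      obtain ⟨huv1, huva⟩ := hout (u * v) (mul_mem hu hv) huvH
      rcases mul_mem_pair hW hWsq haW (hsq u (hKX hu)) (hsq v (hKX hv)) ha1 hu1 hua hv1 hva with h | h
        <;> rw [e', h] at huv1 huva
      · exact ⟨fun h' => huv1 (by rw [h', one_mul]), fun h' => huva (by rw [h', mul_one])⟩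
      · exact ⟨fun h' => huva (by rw [h', one_mul]), fun h' => huv1 (by rw [h', hWsq a haW])⟩
    have hcover : ∃ x y : G, ∀ z ∈ K, z ∈ H ∨ x⁻¹ * z ∈ H ∨ y⁻¹ * z ∈ H ∨ (x * y)⁻¹ * z ∈ H := by
      by_cases hall : ∀ z ∈ K, z ∈ H
      · exact ⟨1, 1, fun z hz => Or.inl (hall z hz)⟩
      push Not at hall
      obtain ⟨x, hx, hxH⟩ := hall
      by_cases hall2 : ∀ z ∈ K, z ∈ H ∨ x⁻¹ * z ∈ H
      · exact ⟨x, 1, fun z hz => (hall2 z hz).imp_right Or.inl⟩
      push Not at hall2
      obtain ⟨y, hy, hyH, hxyH⟩ := hall2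
      refine ⟨x, y, fun z hz => ?_⟩
      by_contra hzn
      push Not at hzn
      obtain ⟨hzH, hxzH, hyzH, hxyzH⟩ := hzn
      -- multiplying by a square lands in the same coset
      have hflip : ∀ u ∈ K, ∀ v : G, u * v ∈ H → u⁻¹ * v ∈ H := fun u hu v h1 => by
        have h2 : u * u ∈ H := hWH (hsq u (hKX hu))
        rw [show u⁻¹ * v = (u * u)⁻¹ * (u * v) by group]
        exact mul_mem (inv_mem h2) h1
      have h1 := hpair x hx y hy hxH hyH fun h => hxyH (hflip x hx y h)
      have h2 := hpair x hx z hz hxH hzH fun h => hxzH (hflip x hx z h)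
      have h3 := hpair x hx (y * z) (mul_mem hy hz) hxH (fun h => hyzH (hflip y hy z h))
        (fun h => hxyzH (hflip (x * y) (mul_mem hx hy) z (by rw [mul_assoc]; exact h)))
      have hcz := hc z (hKX hz) x (hKX hx)
      rw [comm_mul (hcen _ hcz y (hKX hy))] at h3
      exact (mul_mem_pair hW hWsq haW hcz (hc y (hKX hy) x (hKX hx)) ha1 h2.1 h2.2 h1.1 h1.2).elim
        h3.1 h3.2
    obtain ⟨x, y, hcover⟩ := hcover
    have : Fintype W := Fintype.ofFinite W
    set T : Finset G := ({1, x, y, x * y} : Finset G)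
    set S : Finset G := (Finset.univ.image fun w : W => (w : G)) ∪
      (Finset.univ.image fun w : W => x0 * (w : G)) with hS
    have hcov : ∀ z ∈ K, z ∈ (T ×ˢ S).image fun pr => pr.1 * pr.2 := by
      intro z hz
      have key : ∀ t ∈ T, t⁻¹ * z ∈ H → z ∈ (T ×ˢ S).image fun pr => pr.1 * pr.2 := by
        intro t ht h
        refine Finset.mem_image.mpr ⟨(t, t⁻¹ * z), Finset.mem_product.mpr ⟨ht, ?_⟩, mul_inv_cancel_left t z⟩
        rw [hS, Finset.mem_union, Finset.mem_image, Finset.mem_image]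
        rcases hHmem _ h with h' | h'
        · exact Or.inl ⟨⟨_, h'⟩, Finset.mem_univ _, rfl⟩
        · exact Or.inr ⟨⟨_, h'⟩, Finset.mem_univ _, mul_inv_cancel_left x0 _⟩
      rcases hcover z hz with h | h | h | h
      · exact key 1 (by simp [T]) (by simpa using h)
      · exact key x (by simp [T]) h
      · exact key y (by simp [T]) h
      · exact key (x * y) (by simp [T]) h
    have h1 := Nat.card_le_card_of_injective
      (fun z : K => (⟨(z : G), hcov z z.2⟩ : ↥((T ×ˢ S).image fun pr => pr.1 * pr.2)))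
      fun u v e => Subtype.ext (congrArg (fun w : ↥((T ×ˢ S).image fun pr => pr.1 * pr.2) => (w : G)) e)
    rw [Nat.card_eq_fintype_card (α := ↥((T ×ˢ S).image fun pr => pr.1 * pr.2)), Fintype.card_coe] at h1
    refine h1.trans (Finset.card_image_le.trans ?_)
    rw [Finset.card_product]
    have hWc : Fintype.card W ≤ 4 := by rwa [← Nat.card_eq_fintype_card]
    have hS8 : S.card ≤ 8 := by
      refine (Finset.card_union_le _ _).trans (le_trans (add_le_add Finset.card_image_le
        Finset.card_image_le) ?_)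
      rw [Finset.card_univ]; omega
    calc T.card * S.card ≤ 4 * 8 := Nat.mul_le_mul Finset.card_le_four hS8
      _ = 32 := rfl
  calc Nat.card ↥X = Nat.card ↥(K.subgroupOf X) * (K.subgroupOf X).index :=
        (card_mul_index _).symm
    _ = Nat.card ↥K * (K.subgroupOf X).index := by
        rw [Nat.card_congr (subgroupOfEquivOfLe hKX).toEquiv]
    _ ≤ 32 * 4 := Nat.mul_le_mul hKcard hidx

/-- A power of two of the form `3 m + 1` up to `32`. -/
theorem three_mul_add_one {N m : ℕ} (hN : ∃ n, N = 2 ^ n) (h : N = 3 * m + 1) (h32 : N ≤ 32) :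
    m = 0 ∨ m = 1 ∨ m = 5 := by
  obtain ⟨n, rfl⟩ := hN
  have : n ≤ 5 := by
    by_contra hn
    have : 2 ^ 6 ≤ 2 ^ n := Nat.pow_le_pow_right two_pos (by omega)
    omega
  interval_cases n <;> omega

/-- An element of order dividing `3` which fixes `W` centralises `X`, when an automorphism `d`
permutes the involutions of `W` transitively. -/
theorem commute_of_counting {X W : Subgroup G} (hWX : W ≤ X) (hW : Nat.card ↥W = 4)
    (hWsq : ∀ w ∈ W, w * w = 1) (hcen : ∀ w ∈ W, ∀ x ∈ X, Commute x w) (hsq : ∀ x ∈ X, x * x ∈ W)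
    (hinv : ∀ x ∈ X, x * x = 1 → x ∈ W) {d : G} (hdX : d ∈ normalizer (X : Set G))
    (hdW : d ∈ normalizer (W : Set G)) {a b c : G} (ha : a ∈ W) (hb : b = d * a * d⁻¹)
    (hc : c = d * b * d⁻¹) (hab : a ≠ b) (hac : a ≠ c) (hbc : b ≠ c) (ha1 : a ≠ 1)
    {s : G} (hsX : s ∈ normalizer (X : Set G)) (hsW : ∀ w ∈ W, Commute s w) (hs3 : s ^ 3 = 1) :
    ∀ x ∈ X, Commute s x := by
  classical
  have : Fact (Nat.Prime 3) := ⟨Nat.prime_three⟩
  have : Fact (Nat.Prime 2) := ⟨Nat.prime_two⟩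
  intro x0 hx0
  by_cases hx0W : x0 ∈ W
  · exact hsW x0 hx0W
  have hX128 := card_le_of_squares hW.le hWsq hcen hsq hinv hx0 hx0W
  have hWn : (W.subgroupOf X).Normal := ⟨fun w hw x => by
    show (x : G) * w * (x : G)⁻¹ ∈ W
    rw [show (x : G) * (w : G) = w * x from (hcen _ hw x x.2).eq, mul_inv_cancel_right]
    exact hw⟩
  set V := X ⧸ W.subgroupOf X
  have : Fintype V := Fintype.ofFinite V
  set N := Nat.card V with hN
  have hmul : N * 4 = Nat.card ↥X := by
    rw [hN, card_eq_card_quotient_mul_card_subgroup (W.subgroupOf X),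
      Nat.card_congr (subgroupOfEquivOfLe hWX).toEquiv, hW]
  have hX2 : IsPGroup 2 ↥X := fun x => ⟨2, Subtype.ext (by
    rw [SubmonoidClass.coe_pow, OneMemClass.coe_one, show 2 ^ 2 = 2 + 2 from rfl, pow_add, pow_two]
    exact hWsq _ (hsq x x.2))⟩
  have hV2 : IsPGroup 2 V := hX2.to_quotient _
  have hwd : ∀ u v : X, QuotientGroup.leftRel (W.subgroupOf X) u v →
      (u : G) * u = (v : G) * v := by
    intro u v huv
    rw [QuotientGroup.leftRel_apply] at huv
    have hw : (u : G)⁻¹ * v ∈ W := huv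
    calc (u : G) * u = (u : G) * u * (((u : G)⁻¹ * v) * ((u : G)⁻¹ * v)) := by
          rw [hWsq _ hw, mul_one]
      _ = (u : G) * (u * ((u : G)⁻¹ * v)) * ((u : G)⁻¹ * v) := by group
      _ = (u : G) * (((u : G)⁻¹ * v) * u) * ((u : G)⁻¹ * v) := by rw [(hcen _ hw u u.2).eq]
      _ = _ := by group
  set q : V → G := fun v => Quotient.liftOn' v (fun u : X => (u : G) * u) hwd with hq
  have hqmk : ∀ u : X, q (u : V) = (u : G) * u := fun u => rfl
  -- the fibres
  set F : G → Finset V := fun w => Finset.univ.filter fun v => q v = w with hF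
  -- conjugation actions
  have conjEquiv : ∀ g : G, g ∈ normalizer (X : Set G) → g ∈ normalizer (W : Set G) →
      ∃ σ : V ≃* V, ∀ u : X, ∃ u' : X, σ (u : V) = (u' : V) ∧ (u' : G) = g * u * g⁻¹ := by
    intro g hg hgW
    set n : normalizer (X : Set G) := ⟨g, hg⟩
    refine ⟨QuotientGroup.congr (W.subgroupOf X) (W.subgroupOf X) (X.normalizerMonoidHom n) ?_,
      fun u => ⟨X.normalizerMonoidHom n u, rfl, rfl⟩⟩
    ext u
    constructor
    · rintro ⟨w, hw, rfl⟩
      exact (mem_normalizer_iff.mp hgW _).mp hw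
    · intro hu
      refine ⟨(X.normalizerMonoidHom n).symm u, ?_, MulEquiv.apply_symm_apply _ _⟩
      show ((X.normalizerMonoidHom n).symm u : G) ∈ W
      refine (mem_normalizer_iff.mp hgW _).mpr ?_
      have : ((X.normalizerMonoidHom n) ((X.normalizerMonoidHom n).symm u) : G) ∈ W := by
        rw [MulEquiv.apply_symm_apply]; exact hu
      exact this
  obtain ⟨δ, hδ⟩ := conjEquiv d hdX hdW
  have hsW' : s ∈ normalizer (W : Set G) :=
    centralizer_le_normalizer _ (mem_centralizer_iff.mpr fun w hw => (hsW w hw).eq.symm)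
  obtain ⟨σ, hσ⟩ := conjEquiv s hsX hsW'
  have hqδ : ∀ v, q (δ v) = d * q v * d⁻¹ := by
    intro v
    induction v using QuotientGroup.induction_on with
    | H u =>
      obtain ⟨u', e1, e2⟩ := hδ u
      rw [e1, hqmk, hqmk, e2]; group
  have hqσ : ∀ v, q (σ v) = q v := by
    intro v
    induction v using QuotientGroup.induction_on with
    | H u =>
      obtain ⟨u', e1, e2⟩ := hσ u
      rw [e1, hqmk, hqmk, e2, show s * u * s⁻¹ * (s * u * s⁻¹) = s * ((u : G) * u) * s⁻¹ by group,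
        (hsW _ (hsq u u.2)).eq, mul_inv_cancel_right]
  have hσ3 : ∀ v, σ (σ (σ v)) = v := by
    intro v
    induction v using QuotientGroup.induction_on with
    | H u =>
      obtain ⟨u1, e1, f1⟩ := hσ u
      obtain ⟨u2, e2, f2⟩ := hσ u1
      obtain ⟨u3, e3, f3⟩ := hσ u2
      rw [e1, e2, e3]
      refine congrArg _ (Subtype.ext ?_)
      rw [f3, f2, f1, show s * (s * (s * u * s⁻¹) * s⁻¹) * s⁻¹ = (s * s * s) * u * (s * s * s)⁻¹ by group,
        show s * s * s = 1 by rw [← hs3, pow_succ, pow_two]]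
      group
  have hbW : b ∈ W := hb ▸ (mem_normalizer_iff.mp hdW a).mp ha
  have hcW : c ∈ W := hc ▸ (mem_normalizer_iff.mp hdW b).mp hbW
  have hb1 : b ≠ 1 := fun e => ha1 (conj_eq_one_iff.mp (hb ▸ e))
  have hc1 : c ≠ 1 := fun e => hb1 (conj_eq_one_iff.mp (hc ▸ e))
  have : Fintype W := Fintype.ofFinite W
  have hW4 : ∀ w ∈ W, w = 1 ∨ w = a ∨ w = b ∨ w = c := by
    intro w hw
    by_contra hno
    push Not at hno
    obtain ⟨w1, wa, wb, wc⟩ := hno
    have hsub : ∀ u ∈ ({1, a, b, c, w} : Finset G), u ∈ W := by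
      intro u hu
      simp only [Finset.mem_insert, Finset.mem_singleton] at hu
      rcases hu with rfl | rfl | rfl | rfl | rfl
      exacts [one_mem W, ha, hbW, hcW, hw]
    have hcard : ({1, a, b, c, w} : Finset G).card = 5 := by
      simp [Finset.card_insert_of_notMem, ha1.symm, hb1.symm, hc1.symm, w1.symm, hab, hac, hbc,
        wa.symm, wb.symm, wc.symm]
    have := Nat.card_le_card_of_injective (fun u : ({1, a, b, c, w} : Finset G) => (⟨u, hsub u u.2⟩ : W))
      fun u v e => Subtype.ext (congrArg (fun w : W => (w : G)) e)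
    rw [hW, Nat.card_eq_fintype_card, Fintype.card_coe, hcard] at this
    omega
  have hFδ : ∀ w, (F (d * w * d⁻¹)).card = (F w).card := by
    intro w
    refine (Finset.card_bij (fun v _ => δ v) (fun v hv => ?_) (fun v _ v' _ e => δ.injective e)
      (fun v hv => ⟨δ.symm v, ?_, δ.apply_symm_apply v⟩)).symm
    · simp only [hF, Finset.mem_filter, Finset.mem_univ, true_and] at hv ⊢
      rw [hqδ, hv]
    · simp only [hF, Finset.mem_filter, Finset.mem_univ, true_and] at hv ⊢
      have := hqδ (δ.symm v)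
      rw [δ.apply_symm_apply, hv, mul_left_inj, mul_right_inj] at this
      exact this.symm
  set m := (F a).card with hm
  have hmb : (F b).card = m := by rw [hb, hFδ]
  have hmc : (F c).card = m := by rw [hc, hFδ, hmb]
  have hq1 : ∀ v, q v = 1 ↔ v = 1 := by
    intro v
    induction v using QuotientGroup.induction_on with
    | H u =>
      rw [hqmk, QuotientGroup.eq_one_iff]
      exact ⟨fun e => hinv u u.2 e, fun e => hWsq _ e⟩
  have hF1 : F 1 = {1} := by
    ext v; simp [hF, hq1]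
  have hsum : ∀ P : V → Prop, P 1 → (Finset.univ.filter P).card =
      1 + ((F a).filter P).card + ((F b).filter P).card + ((F c).filter P).card := by
    intro P hP
    have hqW : ∀ v, q v ∈ W := by
      intro v
      induction v using QuotientGroup.induction_on with
      | H u => exact hsq u u.2
    have hun : Finset.univ.filter P =
        (F 1).filter P ∪ (F a).filter P ∪ (F b).filter P ∪ (F c).filter P := by
      ext v
      simp only [hF, Finset.mem_filter, Finset.mem_univ, true_and, Finset.mem_union]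
      constructor
      · intro hv
        rcases hW4 _ (hqW v) with e | e | e | e <;> simp [e, hv]
      · rintro (((h | h) | h) | h) <;> exact h.2
    have hd : ∀ u w : G, u ≠ w → Disjoint ((F u).filter P) ((F w).filter P) := by
      intro u w huw
      rw [Finset.disjoint_left]
      intro v h1 h2
      simp only [hF, Finset.mem_filter, Finset.mem_univ, true_and] at h1 h2
      exact huw (h1.1.symm.trans h2.1)
    rw [hun, Finset.card_union_of_disjoint, Finset.card_union_of_disjoint,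
      Finset.card_union_of_disjoint]
    · rw [hF1, Finset.filter_singleton, if_pos hP, Finset.card_singleton]
    · exact hd _ _ (Ne.symm ha1)
    · rw [Finset.disjoint_union_left]
      exact ⟨hd _ _ (Ne.symm hb1), hd _ _ hab⟩
    · rw [Finset.disjoint_union_left, Finset.disjoint_union_left]
      exact ⟨⟨hd _ _ (Ne.symm hc1), hd _ _ hac⟩, hd _ _ hbc⟩
  have hNm : N = 3 * m + 1 := by
    have := hsum (fun _ => True) trivial
    simp only [Finset.filter_true, Finset.card_univ, ← Nat.card_eq_fintype_card, hmb, hmc] at this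
    rw [hN, this]; omega
  obtain ⟨n, hn⟩ := hV2.exists_card_eq
  have hcases := three_mul_add_one ⟨n, hn⟩ hNm (by omega)
  -- fixed points in each fibre
  have hfix : ∀ w : G, (F w).card % 3 ≤ ((F w).filter fun v => σ v = v).card := by
    intro w
    have hinv' : ∀ v, v ∈ F w ↔ σ v ∈ F w := by
      intro v; simp [hF, hqσ]
    set τ : Equiv.Perm {v // v ∈ F w} := Equiv.Perm.subtypePerm (σ.toEquiv : Equiv.Perm V) (fun v => (hinv' v).symm) with hτ
    have hτ3 : τ ^ 3 ^ 1 = 1 := by
      rw [pow_one, pow_succ, pow_two]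
      exact Equiv.ext fun v => Subtype.ext (hσ3 v)
    have h1 := Equiv.Perm.card_compl_support_modEq hτ3
    have h2 : τ.supportᶜ.card = ((F w).filter fun v => σ v = v).card := by
      refine Finset.card_bij (fun v _ => (v : V)) (fun v hv => ?_)
        (fun v _ v' _ e => Subtype.ext e) (fun v hv => ?_)
      · simp only [Finset.mem_compl, Equiv.Perm.mem_support, not_not] at hv
        exact Finset.mem_filter.mpr ⟨v.2, congrArg Subtype.val hv⟩
      · obtain ⟨hv1, hv2⟩ := Finset.mem_filter.mp hv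
        refine ⟨⟨v, hv1⟩, ?_, rfl⟩
        simp only [Finset.mem_compl, Equiv.Perm.mem_support, not_not]
        exact Subtype.ext hv2
    rw [Fintype.card_coe] at h1
    rw [← h1, ← h2]
    exact Nat.mod_le _ _
  set C : Subgroup V := MonoidHom.eqLocus σ.toMonoidHom (MonoidHom.id V) with hC
  have hCmem : ∀ v, v ∈ C ↔ σ v = v := fun v => Iff.rfl
  have hCcard : Nat.card ↥C = (Finset.univ.filter fun v => σ v = v).card := by
    rw [Nat.card_eq_fintype_card]
    exact Fintype.card_of_subtype _ (fun v => by simp [hCmem])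
  have hbig : 7 * N ≤ 16 * Nat.card ↥C := by
    have h0 : (Finset.univ.filter fun v => σ v = v).card = 1 + ((F a).filter fun v => σ v = v).card +
        ((F b).filter fun v => σ v = v).card + ((F c).filter fun v => σ v = v).card := by
      convert hsum (fun v => σ v = v) (map_one σ)
    rw [hCcard, h0]
    have h1 := hfix a
    have h2 := hfix b
    have h3 := hfix c
    rw [← hm] at h1
    rw [hmb] at h2
    rw [hmc] at h3
    rcases hcases with e | e | e <;> rw [e] at h1 h2 h3 hNm <;> omega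
  have hidx : C.index ≤ 2 := by
    have h1 := C.card_mul_index
    rw [← hN] at h1
    have hpos : 0 < Nat.card ↥C := Nat.card_pos
    by_contra hgt
    have h3 : Nat.card ↥C * 3 ≤ Nat.card ↥C * C.index := Nat.mul_le_mul_left _ (by omega)
    rcases hcases with e | e | e <;> rw [e] at hNm <;> omega
  have hfixall : ∀ v, σ v = v := by
    intro v
    by_contra hv
    have hidx2 : C.index = 2 := by
      have hne : C.index ≠ 1 := fun e => hv ((hCmem v).mp ((index_eq_one.mp e) ▸ mem_top v))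
      have := C.index_ne_zero_of_finite
      omega
    have hσv : σ v ∉ C := fun h => hv (σ.injective ((hCmem _).mp h))
    set e := v⁻¹ * σ v with he
    have heC : e ∈ C := by
      rw [he, mul_mem_iff_of_index_two hidx2]
      exact iff_of_false (fun h => hv ((hCmem v).mp (inv_mem_iff.mp h))) hσv
    have e1 : σ v = v * e := by rw [he, mul_inv_cancel_left]
    have e2 := hσ3 v
    rw [e1, map_mul, map_mul, e1, (hCmem e).mp heC, map_mul, e1, (hCmem e).mp heC] at e2
    have e3 : e * e * e = 1 := by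
      rw [mul_assoc, mul_assoc, mul_eq_left, ← mul_assoc] at e2
      exact e2
    obtain ⟨j, hj⟩ := hV2 e
    have : e = 1 := orderOf_eq_one_iff.mp (Nat.eq_one_of_dvd_coprimes
      (show (2 ^ j).Coprime 3 from (Nat.coprime_primes Nat.prime_two Nat.prime_three).mpr (by norm_num) |>.pow_left j)
      (orderOf_dvd_of_pow_eq_one hj) (orderOf_dvd_of_pow_eq_one (by rw [pow_succ, pow_two, e3])))
    exact hv (by rw [e1, this, mul_one])
  -- lift to `X`
  obtain ⟨u', e1, e2⟩ := hσ ⟨x0, hx0⟩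
  rw [hfixall] at e1
  have hw : x0⁻¹ * (s * x0 * s⁻¹) ∈ W := by
    have := (QuotientGroup.eq.mp e1 : (⟨x0, hx0⟩ : X)⁻¹ * u' ∈ W.subgroupOf X)
    have h' : x0⁻¹ * (u' : G) ∈ W := this
    rwa [e2] at h'
  set e := x0⁻¹ * (s * x0 * s⁻¹) with he
  have f1 : s * x0 * s⁻¹ = x0 * e := by rw [he, mul_inv_cancel_left]
  have hse : s * e * s⁻¹ = e := by rw [(hsW e hw).eq, mul_inv_cancel_right]
  have f3 : x0 * (e * e * e) = x0 := by
    calc x0 * (e * e * e) = x0 * e * (s * e * s⁻¹) * (s * e * s⁻¹) := by rw [hse]; group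
      _ = (s * x0 * s⁻¹) * (s * e * s⁻¹) * (s * e * s⁻¹) := by rw [f1]
      _ = s * ((x0 * e) * e) * s⁻¹ := by group
      _ = s * ((s * x0 * s⁻¹) * (s * e * s⁻¹)) * s⁻¹ := by rw [f1, hse]
      _ = s * (s * (x0 * e) * s⁻¹) * s⁻¹ := by group
      _ = s * (s * (s * x0 * s⁻¹) * s⁻¹) * s⁻¹ := by rw [f1]
      _ = (s * s * s) * x0 * (s * s * s)⁻¹ := by group
      _ = x0 := by rw [show s * s * s = 1 by rw [← hs3, pow_succ, pow_two]]; group
  rw [mul_eq_left, hWsq e hw, one_mul] at f3
  exact mul_inv_eq_iff_eq_mul.mp (by rw [f1, f3, mul_one])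

/-- Let G be a finite group with C_G(O₂(G)) ≤ O₂(G) containing an element of order 6, and let d be a non-identity 3-element of G normalizing a nontrivial elementary abelian 2-subgroup W with C_W(d) = 1. Then G has an elementary abelian subgroup of order 8. -/
theorem result {G : Type*} [Group G] [Finite G] (hchar : Subgroup.centralizer (Cfsg.pCore 2 G : Set G) ≤ Cfsg.pCore 2 G) (hsix : ∃ g : G, orderOf g = 6) (d : G) (hd1 : d ≠ 1) (hd : IsPGroup 3 ↥(Subgroup.zpowers d)) (W : Subgroup G) (hW : Cfsg.IsElementaryAbelian 2 W) (hW1 : W ≠ ⊥) (hdW : d ∈ Subgroup.normalizer (W : Set G)) (hfpf : W ⊓ Subgroup.centralizer {d} = ⊥) : ∃ E : Subgroup G, Cfsg.IsElementaryAbelian 2 E ∧ Nat.card E = 8 := by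
  classical
  have : Fact (Nat.Prime 2) := ⟨Nat.prime_two⟩
  have : Fact (Nat.Prime 3) := ⟨Nat.prime_three⟩
  by_contra hE
  have hWc : ∀ u ∈ W, ∀ v ∈ W, Commute u v := fun u hu v hv =>
    congrArg Subtype.val (hW.1.is_comm.comm (⟨u, hu⟩ : W) ⟨v, hv⟩)
  have hWsq : ∀ w ∈ W, w * w = 1 := fun w hw => by rw [← pow_two]; exact hW.2 w hw
  -- elementary abelian subgroups have order at most 4
  have hsmall : ∀ B : Subgroup G, Cfsg.IsElementaryAbelian 2 B → Nat.card ↥B ≤ 4 := by
    intro B hB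
    by_contra hlt
    obtain ⟨n, hn⟩ := (IsPGroup.exists_card_eq (p := 2) (G := B) fun u => ⟨1, Subtype.ext (by
      rw [pow_one]; exact hB.2 u u.2)⟩)
    have h3 : 3 ≤ n := by
      by_contra hn3
      have : 2 ^ n ≤ 2 ^ 2 := Nat.pow_le_pow_right two_pos (by omega)
      omega
    obtain ⟨E, hEc⟩ := Sylow.exists_subgroup_card_pow_prime 2 (G := B) (n := 3)
      (hn ▸ pow_dvd_pow 2 h3)
    refine hE ⟨E.map B.subtype, ⟨⟨⟨fun u v => Subtype.ext ?_⟩⟩, fun u hu => ?_⟩, ?_⟩
    · show (u : G) * v = v * u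
      exact congrArg Subtype.val (hB.1.is_comm.comm
        (⟨u, map_subtype_le E u.2⟩ : B) ⟨v, map_subtype_le E v.2⟩)
    · exact hB.2 u (map_subtype_le E hu)
    · rw [card_map_of_injective B.subtype_injective, hEc]; norm_num
  have hnofix : ∀ w ∈ W, d * w * d⁻¹ = w → w = 1 := fun w hw e => by
    have hc : w ∈ W ⊓ centralizer ({d} : Set G) := Subgroup.mem_inf.mpr
      ⟨hw, mem_centralizer_singleton_iff.mpr (mul_inv_eq_iff_eq_mul.mp e).symm⟩
    rwa [hfpf, mem_bot] at hc
  obtain ⟨a, ha, ha1⟩ := (W.bot_or_exists_ne_one).resolve_left hW1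
  set b := d * a * d⁻¹ with hb
  set c := d * b * d⁻¹ with hc
  have hbW : b ∈ W := (mem_normalizer_iff.mp hdW a).mp ha
  have hcW : c ∈ W := (mem_normalizer_iff.mp hdW b).mp hbW
  have hb1 : b ≠ 1 := fun e => ha1 (conj_eq_one_iff.mp e)
  have hab : a ≠ b := fun e => ha1 (hnofix a ha e.symm)
  have hbc : b ≠ c := fun e => hb1 (hnofix b hbW e.symm)
  have hW4 : Nat.card ↥W = 4 := by
    have h4 := hsmall W hW
    have : Fintype W := Fintype.ofFinite W
    rw [Nat.card_eq_fintype_card] at h4 ⊢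
    have h2 : ({⟨1, one_mem W⟩, ⟨a, ha⟩, ⟨b, hbW⟩} : Finset W).card = 3 := by
      simp [Finset.card_insert_of_notMem, ha1.symm, hb1.symm, hab]
    have := Finset.card_le_univ ({⟨1, one_mem W⟩, ⟨a, ha⟩, ⟨b, hbW⟩} : Finset W)
    obtain ⟨n, hn⟩ := (IsPGroup.exists_card_eq (p := 2) (G := W) fun u => ⟨1, Subtype.ext (by
      rw [pow_one]; exact hW.2 u u.2)⟩)
    rw [Nat.card_eq_fintype_card] at hn
    have : n ≤ 2 := by
      by_contra hn2
      have : 2 ^ 3 ≤ 2 ^ n := Nat.pow_le_pow_right two_pos (by omega)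
      omega
    interval_cases n <;> omega
  have hac : a ≠ c := by
    intro e
    have hp : d * (a * b) * d⁻¹ = a * b := by
      calc d * (a * b) * d⁻¹ = b * c := by rw [hc, hb]; group
        _ = b * a := by rw [← e]
        _ = a * b := (hWc b hbW a ha).eq
    have := hnofix _ (mul_mem ha hbW) hp
    exact hab ((mul_eq_one_iff_eq_inv.mp this).trans (inv_eq_of_mul_eq_one_right (hWsq b hbW)))
  set R := Cfsg.pCore 2 G with hR
  have hRn : R.Normal := pCore_normal' 2
  have hR2 : IsPGroup 2 ↥R := isPGroup_pCore' 2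
  have hW2 : IsPGroup 2 ↥W := fun u => ⟨1, Subtype.ext (by rw [pow_one]; exact hW.2 u u.2)⟩
  have hRne : R ≠ ⊥ := by
    intro e
    rw [e] at hchar
    exact hd1 (mem_bot.mp (hchar (mem_centralizer_iff.mpr fun u hu => by
      rw [mem_bot.mp hu, one_mul, mul_one])))
  -- extending `W` by a commuting involution
  have hext : ∀ u : G, u * u = 1 → (∀ w ∈ W, Commute u w) → u ∈ W := by
    intro u hu hcu
    set B := closure (insert u (W : Set G)) with hB
    have hBc : IsMulCommutative ↥B := isMulCommutative_closure (by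
      rintro p (rfl | hp) q (rfl | hq)
      · rfl
      · exact hcu q hq
      · exact (hcu p hp).symm
      · exact hWc p hp q hq)
    have hBsq : ∀ p ∈ B, p ^ 2 = 1 := by
      intro p hp
      induction hp using closure_induction with
      | mem p hp =>
        rcases hp with rfl | hp
        · rw [pow_two]; exact hu
        · exact hW.2 p hp
      | one => exact one_pow 2
      | mul p q hp hq ihp ihq =>
        have : Commute p q := congrArg Subtype.val (hBc.is_comm.comm (⟨p, hp⟩ : B) ⟨q, hq⟩)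
        rw [this.mul_pow, ihp, ihq, one_mul]
      | inv p _ ih => rw [inv_pow, ih, inv_one]
    have hWB : W ≤ B := fun w hw => subset_closure (Or.inr hw)
    have hWeq : W = B := eq_of_le_of_card_ge hWB (hW4 ▸ hsmall B ⟨hBc, hBsq⟩)
    rw [hWeq]; exact subset_closure (Or.inl rfl)
  -- `W ≤ Z(R)`
  have hWR : W ≤ R ∧ ∀ w ∈ W, ∀ r ∈ R, Commute r w := by
    set RW := R ⊔ W with hRW
    have hRW2 : IsPGroup 2 ↥RW := IsPGroup.to_sup_of_normal_left hR2 hW2
    set Z : Subgroup G := (center ↥R).map R.subtype with hZ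
    have hZn : Z.Normal := inferInstance
    have hZne : Z.subgroupOf RW ≠ ⊥ := by
      have : Nontrivial ↥R := (nontrivial_iff_ne_bot R).mpr hRne
      have := hR2.center_nontrivial
      obtain ⟨⟨u, hu⟩, hu1⟩ := exists_ne (1 : center ↥R)
      intro e
      have hmem : (⟨(u : G), mem_sup_left u.2⟩ : RW) ∈ Z.subgroupOf RW := ⟨u, hu, rfl⟩
      rw [e, mem_bot] at hmem
      exact hu1 (Subtype.ext (Subtype.ext (show (u : G) = 1 from congrArg (fun q : RW => (q : G)) hmem)))
    obtain ⟨e0, he0Z, he0c, he0o⟩ := PGroup.exists_orderOf_eq_mem_center hRW2 _ hZne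
    have he0sq : (e0 : G) * e0 = 1 := by
      have h' := pow_orderOf_eq_one e0
      rw [he0o, pow_two] at h'
      exact congrArg Subtype.val h'
    have he0W : (e0 : G) ∈ W := hext _ he0sq fun w hw =>
      (congrArg Subtype.val (mem_center_iff.mp he0c ⟨w, mem_sup_right hw⟩)).symm
    have he01 : (e0 : G) ≠ 1 := fun e => by
      rw [← orderOf_coe, e, orderOf_one] at he0o
      omega
    have he0Z' : (e0 : G) ∈ Z := he0Z
    have hconjZ : ∀ w ∈ Z, d * w * d⁻¹ ∈ Z := fun w hw => hZn.conj_mem w hw d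
    have hin : ∀ w ∈ W, w ∈ Z := by
      have hn1 := hnofix _ he0W
      set e1 := d * (e0 : G) * d⁻¹ with he1
      have he1W : e1 ∈ W := (mem_normalizer_iff.mp hdW _).mp he0W
      have he11 : e1 ≠ 1 := fun e => he01 (conj_eq_one_iff.mp e)
      have hne : e1 ≠ e0 := fun e => he01 (hn1 e)
      intro w hw
      by_cases hw1 : w = 1
      · rw [hw1]; exact one_mem Z
      by_cases hw0 : w = e0
      · rw [hw0]; exact he0Z'
      by_cases hwe : w = e1
      · rw [hwe]; exact hconjZ _ he0Z'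
      rcases mul_mem_pair hW4.le hWsq hw he0W he1W hw1 he01 (Ne.symm hw0) he11 (Ne.symm hwe) with h | h
      · exact absurd ((inv_eq_of_mul_eq_one_right h).symm.trans
          (inv_eq_of_mul_eq_one_right (hWsq _ he0W))) hne
      · rw [← h]; exact mul_mem he0Z' (hconjZ _ he0Z')
    refine ⟨fun w hw => map_subtype_le _ (hin w hw), fun w hw r hr => ?_⟩
    obtain ⟨w', hw', rfl⟩ := hin w hw
    exact congrArg Subtype.val (mem_center_iff.mp hw' ⟨r, hr⟩)
  obtain ⟨hWR, hWcen⟩ := hWR
  have hinvR : ∀ r ∈ R, r * r = 1 → r ∈ W := fun r hr e => hext r e fun w hw => hWcen w hw r hr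
  have hWn : ∀ g : G, g ∈ normalizer (W : Set G) := by
    intro g
    have key : ∀ g : G, ∀ w ∈ W, g * w * g⁻¹ ∈ W := fun g w hw => hinvR _ (hRn.conj_mem w (hWR hw) g)
      (by rw [show g * w * g⁻¹ * (g * w * g⁻¹) = g * (w * w) * g⁻¹ by group, hWsq w hw]; group)
    refine mem_normalizer_iff.mpr fun w => ⟨key g w, fun h => ?_⟩
    simpa [mul_assoc] using key g⁻¹ _ h
  -- an element `s` of order 3 centralising `W`
  obtain ⟨g, hg⟩ := hsix
  set s := g ^ 2 with hs
  set t := g ^ 3 with ht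
  have hs3 : s ^ 3 = 1 := by
    rw [hs, ← pow_mul, show 2 * 3 = 6 from rfl, ← hg, pow_orderOf_eq_one]
  have hs1 : s ≠ 1 := fun e => by
    have := orderOf_dvd_of_pow_eq_one e
    rw [hg] at this
    exact absurd this (by decide)
  have ht2 : t * t = 1 := by rw [ht, ← pow_add, show 3 + 3 = 6 from rfl, ← hg, pow_orderOf_eq_one]
  have ht1 : t ≠ 1 := fun e => by
    have := orderOf_dvd_of_pow_eq_one e
    rw [hg] at this
    exact absurd this (by decide)
  have hst : Commute s t := Commute.pow_pow (Commute.refl g) 2 3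
  have hsfix : ∃ w0 ∈ W, w0 ≠ 1 ∧ Commute s w0 := by
    by_cases htW : t ∈ W
    · exact ⟨t, htW, ht1, hst⟩
    · obtain ⟨w, hw, hwt⟩ : ∃ w ∈ W, ¬ Commute t w := by
        by_contra hno
        push Not at hno
        exact htW (hext t ht2 hno)
      have htwW : t * w * t⁻¹ ∈ W := (mem_normalizer_iff.mp (hWn t) w).mp hw
      set w0 := w * (t * w * t⁻¹) with hw0
      have hw0W : w0 ∈ W := mul_mem hw htwW
      have hw01 : w0 ≠ 1 := fun e => hwt (mul_inv_eq_iff_eq_mul.mp
        ((inv_eq_of_mul_eq_one_right e).symm.trans (inv_eq_of_mul_eq_one_right (hWsq w hw))))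
      have htw0 : Commute t w0 := mul_inv_eq_iff_eq_mul.mp (by
        calc t * w0 * t⁻¹ = (t * w * t⁻¹) * ((t * t) * w * (t * t)⁻¹) := by rw [hw0]; group
          _ = (t * w * t⁻¹) * w := by rw [ht2, one_mul, inv_one, mul_one]
          _ = w0 := (hWc _ htwW w hw).eq)
      refine ⟨w0, hw0W, hw01, ?_⟩
      set w1 := s * w0 * s⁻¹ with hw1
      have hw1W : w1 ∈ W := (mem_normalizer_iff.mp (hWn s) w0).mp hw0W
      by_contra hsw0
      have hne : w1 ≠ w0 := fun e => hsw0 (mul_inv_eq_iff_eq_mul.mp e)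
      have htw1 : Commute t w1 := (hst.symm.mul_right htw0).mul_right hst.symm.inv_right
      have hw1ne : w1 ≠ 1 := fun e => hw01 (conj_eq_one_iff.mp e)
      -- then `t` centralises all of `W`
      refine hwt ?_
      by_cases hww0 : w = w0
      · exact hww0 ▸ htw0
      by_cases hww1 : w = w1
      · exact hww1 ▸ htw1
      by_cases hww : w = 1
      · exact hww ▸ Commute.one_right t
      rcases mul_mem_pair hW4.le hWsq hw hw0W hw1W hww hw01 (Ne.symm hww0) hw1ne (Ne.symm hww1) with h | h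
      · exact absurd ((inv_eq_of_mul_eq_one_right h).symm.trans
          (inv_eq_of_mul_eq_one_right (hWsq _ hw0W))) hne
      · exact h ▸ htw0.mul_right htw1
  obtain ⟨w0, hw0W, hw01, hsw0⟩ := hsfix
  have hsW : ∀ w ∈ W, Commute s w := by
    intro w hw
    by_cases hw1 : w = 1
    · exact hw1 ▸ Commute.one_right s
    by_cases hwe : w = w0
    · exact hwe ▸ hsw0
    set w' := s * w * s⁻¹ with hw'
    have hw'W : w' ∈ W := (mem_normalizer_iff.mp (hWn s) w).mp hw
    have hw'1 : w' ≠ 1 := fun e => hw1 (conj_eq_one_iff.mp e)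
    have hs0 : s * w0 * s⁻¹ = w0 := by rw [hsw0.eq, mul_inv_cancel_right]
    have hw'0 : w' ≠ w0 := fun e => hwe (by
      rw [← hs0] at e; exact (MulAut.conj s).injective e)
    by_contra hne
    have hne' : w' ≠ w := fun e => hne (mul_inv_eq_iff_eq_mul.mp e)
    rcases mul_mem_pair hW4.le hWsq hw0W hw hw'W hw01 hw1 hwe hw'1 hw'0 with h | h
    · exact hne' ((inv_eq_of_mul_eq_one_right h).symm.trans (inv_eq_of_mul_eq_one_right (hWsq w hw)))
    · -- `s` moves `w` to `w * w0`, and `s ^ 3 = 1`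
      have e1 : s * w * s⁻¹ = w * w0 := by
        show w' = w * w0
        rw [← h, ← mul_assoc, hWsq w hw, one_mul]
      have hw00 : w0 * w0 = 1 := hWsq w0 hw0W
      have e3 : (s * s * s) * w * (s * s * s)⁻¹ = w * w0 := by
        calc (s * s * s) * w * (s * s * s)⁻¹ = s * (s * (s * w * s⁻¹) * s⁻¹) * s⁻¹ := by group
          _ = s * (s * (w * w0) * s⁻¹) * s⁻¹ := by rw [e1]
          _ = s * ((s * w * s⁻¹) * (s * w0 * s⁻¹)) * s⁻¹ := by group
          _ = s * w * s⁻¹ := by rw [e1, hs0, mul_assoc w, hw00, mul_one, e1]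
          _ = w * w0 := e1
      rw [show s * s * s = 1 by rw [← hs3, pow_succ, pow_two], one_mul, inv_one, mul_one] at e3
      exact hw01 (mul_eq_left.mp e3.symm)
  -- critical subgroup
  obtain ⟨C0, hC0char, hC0f, hC0c, hC0self⟩ := PGroup.exists_critical (p := 2) hR2
  set C := C0.map R.subtype with hC
  have hCR : C ≤ R := map_subtype_le C0
  have hCn : ∀ g : G, g ∈ normalizer (C : Set G) := fun g =>
    normalizer_le_normalizer_map_of_characteristic R C0 (by
      rw [normalizer_eq_top_iff.mpr hRn]; exact mem_top g)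
  have hcom : ∀ x ∈ C, ∀ y ∈ C, ∀ u ∈ C, Commute u (x * y * x⁻¹ * y⁻¹) := by
    rintro _ ⟨x, hx, rfl⟩ _ ⟨y, hy, rfl⟩ _ ⟨u, hu, rfl⟩
    have h1 := hC0c (commutator_mem_commutator hx (mem_top y))
    exact congrArg Subtype.val (h1.2 u hu)
  have hsqc : ∀ x ∈ C, ∀ u ∈ C, Commute u (x * x) := by
    rintro _ ⟨x, hx, rfl⟩ _ ⟨u, hu, rfl⟩
    have h1 := hC0f ⟨_, PGroup.pow_mem_frattini (p := 2) (hR2.to_subgroup C0) ⟨x, hx⟩, rfl⟩
    have h2 := congrArg Subtype.val (h1 u hu)
    show (u : G) * ((x : G) * x) = (x : G) * x * u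
    simpa [pow_two] using h2
  have hcW : ∀ x ∈ C, ∀ y ∈ C, x * y * x⁻¹ * y⁻¹ ∈ W := by
    intro x hx y hy
    refine hinvR _ (hCR (mul_mem (mul_mem (mul_mem hx hy) (inv_mem hx)) (inv_mem hy))) ?_
    have e1 := comm_mul (x := x) (y := x) (u := y) (hcom x hx y hy x hx)
    have e2 : x * x * y * (x * x)⁻¹ * y⁻¹ = 1 := by
      rw [← (hsqc x hx y hy).eq, mul_inv_cancel_right, mul_inv_cancel]
    rw [← e2, e1]
  have hWcenC : ∀ w ∈ W, ∀ x ∈ C, Commute x w := fun w hw x hx => hWcen w hw x (hCR hx)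
  have hsqmul : ∀ x ∈ C, ∀ y ∈ C,
      x * y * (x * y) = x * x * (y * x * y⁻¹ * x⁻¹) * (y * y) := fun x hx y hy =>
    sq_mul (hWcenC _ (hcW y hy x hx) x hx)
  let X : Subgroup G :=
    { carrier := {x | x ∈ C ∧ x * x ∈ W}
      one_mem' := ⟨one_mem C, by rw [one_mul]; exact one_mem W⟩
      mul_mem' := fun {x y} hx hy => ⟨mul_mem hx.1 hy.1, by
        rw [hsqmul x hx.1 y hy.1]
        exact mul_mem (mul_mem hx.2 (hcW y hy.1 x hx.1)) hy.2⟩
      inv_mem' := fun {x} hx => ⟨inv_mem hx.1, by rw [← mul_inv_rev]; exact inv_mem hx.2⟩ }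
  have hXn : ∀ g : G, g ∈ normalizer (X : Set G) := by
    have key : ∀ g : G, ∀ x ∈ X, g * x * g⁻¹ ∈ X := fun g x hx =>
      ⟨(mem_normalizer_iff.mp (hCn g) x).mp hx.1, by
        rw [show g * x * g⁻¹ * (g * x * g⁻¹) = g * (x * x) * g⁻¹ by group]
        exact (mem_normalizer_iff.mp (hWn g) _).mp hx.2⟩
    intro g
    refine mem_normalizer_iff.mpr fun x => ⟨key g x, fun h => ?_⟩
    simpa [mul_assoc] using key g⁻¹ _ h
  have hWC : W ≤ C := fun w hw => ⟨⟨w, hWR hw⟩, hC0self (mem_centralizer_iff.mpr fun u _ =>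
    Subtype.ext (hWcen w hw u u.2).eq), rfl⟩
  have hsX : ∀ x ∈ X, Commute s x := commute_of_counting (X := X) (W := W)
    (fun w hw => ⟨hWC hw, by rw [hWsq w hw]; exact one_mem W⟩) hW4 hWsq
    (fun w hw x hx => hWcenC w hw x hx.1) (fun x hx => hx.2)
    (fun x hx e => hinvR x (hCR hx.1) e) (hXn d) hdW ha hb hc hab hac hbc ha1 (hXn s) hsW hs3
  have hsC : ∀ x ∈ C, Commute s x := by
    intro x
    induction hn : orderOf x using Nat.strong_induction_on generalizing x with
    | _ n ih =>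
    intro hx
    have hxx : Commute s (x * x) := by
      by_cases hx1 : x = 1
      · rw [hx1, one_mul]; exact Commute.one_right s
      refine ih _ ?_ (x * x) rfl (mul_mem hx hx)
      obtain ⟨k, hk⟩ := hR2 ⟨x, hCR hx⟩
      have hk' : x ^ 2 ^ k = 1 := congrArg Subtype.val hk
      obtain ⟨j, -, hj⟩ := (Nat.dvd_prime_pow Nat.prime_two).mp (orderOf_dvd_of_pow_eq_one hk')
      have hj0 : j ≠ 0 := fun e => hx1 (orderOf_eq_one_iff.mp (by rw [hj, e, pow_zero]))
      rw [← hn, ← pow_two, orderOf_pow' x two_ne_zero, hj,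
        Nat.gcd_eq_right (dvd_pow_self 2 hj0)]
      exact Nat.div_lt_self (Nat.pow_pos two_pos) one_lt_two
    have hsx : s * x * s⁻¹ ∈ C := (mem_normalizer_iff.mp (hCn s) x).mp hx
    set e := x⁻¹ * (s * x * s⁻¹) with he
    have heC : e ∈ C := mul_mem (inv_mem hx) hsx
    have f1 : s * x * s⁻¹ = x * e := by rw [he, mul_inv_cancel_left]
    have hee : e * e ∈ W := by
      have e1 : x * e * (x * e) = x * x := by
        rw [← f1, show s * x * s⁻¹ * (s * x * s⁻¹) = s * (x * x) * s⁻¹ by group, hxx.eq,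
          mul_inv_cancel_right]
      rw [hsqmul x hx e heC, mul_assoc (x * x), mul_eq_left] at e1
      have e2 : e * e = (e * x * e⁻¹ * x⁻¹)⁻¹ := eq_inv_of_mul_eq_one_right e1
      rw [e2]; exact inv_mem (hcW e heC x hx)
    have hse : Commute s e := hsX e ⟨heC, hee⟩
    have hse' : s * e * s⁻¹ = e := by rw [hse.eq, mul_inv_cancel_right]
    have f3 : x * (e * e * e) = x := by
      calc x * (e * e * e) = x * e * (s * e * s⁻¹) * (s * e * s⁻¹) := by rw [hse']; group
        _ = (s * x * s⁻¹) * (s * e * s⁻¹) * (s * e * s⁻¹) := by rw [f1]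
        _ = s * ((x * e) * e) * s⁻¹ := by group
        _ = s * ((s * x * s⁻¹) * (s * e * s⁻¹)) * s⁻¹ := by rw [f1, hse']
        _ = s * (s * (x * e) * s⁻¹) * s⁻¹ := by group
        _ = s * (s * (s * x * s⁻¹) * s⁻¹) * s⁻¹ := by rw [f1]
        _ = (s * s * s) * x * (s * s * s)⁻¹ := by group
        _ = x := by rw [show s * s * s = 1 by rw [← hs3, pow_succ, pow_two]]; group
    rw [mul_eq_left] at f3
    obtain ⟨k, hk⟩ := hR2 ⟨e, hCR heC⟩
    have he1 : e = 1 := orderOf_eq_one_iff.mp (Nat.eq_one_of_dvd_coprimes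
      (show (2 ^ k).Coprime 3 from
        ((Nat.coprime_primes Nat.prime_two Nat.prime_three).mpr (by norm_num)).pow_left k)
      (orderOf_dvd_of_pow_eq_one (congrArg Subtype.val hk))
      (orderOf_dvd_of_pow_eq_one (by rw [pow_succ, pow_two, f3])))
    exact mul_inv_eq_iff_eq_mul.mp (by rw [f1, he1, mul_one])
  have hφ : (MulAut.conjNormal s : MulAut R) = 1 := by
    refine PGroup.aut_eq_one_of_centralizer_le hR2 C0 hC0self _ ?_ ?_
    · refine Nat.Coprime.coprime_dvd_left (orderOf_dvd_of_pow_eq_one (n := 3) ?_) (by norm_num)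
      rw [← map_pow, hs3, map_one]
    · intro u hu
      refine Subtype.ext ?_
      rw [MulAut.conjNormal_apply]
      exact mul_inv_eq_iff_eq_mul.mpr (hsC _ ⟨u, hu, rfl⟩).eq
  have hsR : s ∈ R := hchar (mem_centralizer_iff.mpr fun r hr => by
    have := congrArg (fun φ : MulAut R => ((φ ⟨r, hr⟩ : R) : G)) hφ
    simp only [MulAut.conjNormal_apply, MulAut.one_apply] at this
    exact (mul_inv_eq_iff_eq_mul.mp this).symm)
  obtain ⟨k, hk⟩ := hR2 ⟨s, hsR⟩
  exact hs1 (orderOf_eq_one_iff.mp (Nat.eq_one_of_dvd_coprimes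
    (show (2 ^ k).Coprime 3 from
      ((Nat.coprime_primes Nat.prime_two Nat.prime_three).mpr (by norm_num)).pow_left k)
    (orderOf_dvd_of_pow_eq_one (congrArg Subtype.val hk)) (orderOf_dvd_of_pow_eq_one hs3)))

end Cfsg.Agent.S3739
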