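import Cfsg.Statements.S3740
import Cfsg.Agent.Lib.Quadratic.SL2Sub
import Cfsg.Agent.Lib.PSL2.SL23Relations
import Cfsg.Agent.Lib.Coprime.Commutator

set_option autoImplicit false
set_option maxHeartbeats 1000000
open Cfsg

namespace Cfsg.Agent.S3740

open scoped MatrixGroups commutatorElement
open Subgroup PSL2 Quadratic

theorem pow_p_eq_one {F : Type*} [Field F] {p : ℕ} [Fact p.Prime] [CharP F p] {a : SL(2, F)} {k : ℕ}
    (h : a ^ p ^ k = 1) : a ^ p = 1 := by
  refine pow_eq_one_of_tr ?_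
  set M : Matrix (Fin 2) (Fin 2) F := (a : Matrix (Fin 2) (Fin 2) F)
  have hM : M ^ p ^ k = 1 := by
    have := congrArg (fun g : SL(2, F) => (g : Matrix (Fin 2) (Fin 2) F)) h
    simpa [Matrix.SpecialLinearGroup.coe_pow] using this
  have hnil : IsNilpotent (M - 1) := ⟨p ^ k, by
    rw [sub_pow_char_pow_of_commute _ _ (Commute.one_right M), hM, one_pow, sub_self]⟩
  have h := (Matrix.isNilpotent_trace_of_isNilpotent hnil).eq_zero
  rw [Matrix.trace_sub, Matrix.trace_one, Fintype.card_fin] at h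
  rw [tr_eq_trace]
  exact_mod_cast sub_eq_zero.mp h

/-- Let F be a finite field of odd characteristic p and let a be a p-element of SL₂(F) normalizing a subgroup R of order prime to p with [R, a] ≠ 1. Then p = 3, R is a quaternion group of order 8, and R⟨a⟩ is isomorphic to SL₂(3). -/
theorem result (F : Type) [Field F] [Fintype F] {p : ℕ} [Fact p.Prime] [CharP F p] (hp : p ≠ 2) (a : Matrix.SpecialLinearGroup (Fin 2) F) (ha : IsPGroup p ↥(Subgroup.zpowers a)) (R : Subgroup (Matrix.SpecialLinearGroup (Fin 2) F)) (hR : (Nat.card R).Coprime p) (haR : a ∈ Subgroup.normalizer (R : Set (Matrix.SpecialLinearGroup (Fin 2) F))) (hnt : ⁅R, Subgroup.zpowers a⁆ ≠ ⊥) : p = 3 ∧ Nonempty (↥R ≃* QuaternionGroup 2) ∧ Nonempty (↥(R ⊔ Subgroup.zpowers a) ≃* Matrix.SpecialLinearGroup (Fin 2) (ZMod 3)) := by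
  classical
  have h20 := two_ne_zero_of_odd (F := F) hp
  obtain ⟨k, hk⟩ := ha ⟨a, mem_zpowers a⟩
  have hap : a ^ p = 1 := pow_p_eq_one (k := k) (congrArg Subtype.val hk)
  have hne : ∃ g ∈ R, a * g * a⁻¹ ≠ g := by
    by_contra hcon
    push Not at hcon
    refine hnt (commutator_eq_bot_iff_le_centralizer.2 fun g hg => mem_centralizer_iff.2 fun z hz => ?_)
    obtain ⟨n, rfl⟩ := mem_zpowers_iff.1 hz
    exact (Commute.zpow_left (mul_inv_eq_iff_eq_mul.1 (hcon g hg)) n).eq
  have ha1 : a ≠ 1 := by rintro rfl; obtain ⟨g, -, hg⟩ := hne; simp at hg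
  have hao : orderOf a = p := orderOf_eq_prime hap ha1
  have hRo : ∀ g ∈ R, (orderOf g).Coprime p := fun g hg =>
    hR.coprime_dvd_left (Subgroup.orderOf_dvd_natCard R hg)
  have hfix : ∀ g ∈ R, a * g * a⁻¹ = g → g ∈ center SL(2, F) := by
    intro g hg h
    by_contra hgc
    exact ha1 (eq_one_of_conj_mem_cent hp (tr_sq_ne_four_of_coprime hp hgc (hRo g hg)) hap
      (by rw [h]))
  have hzn : zpowers a ≤ normalizer (R : Set SL(2, F)) := zpowers_le.2 haR
  have hcop : (Nat.card ↥(zpowers a)).Coprime (Nat.card R) := by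
    rw [Nat.card_zpowers, hao]; exact hR.symm
  have hodd : ∀ r : ℕ, r.Prime → r ∣ Nat.card R → r = 2 := by
    intro r hr hrR
    by_contra hr2
    haveI := Fact.mk hr
    have hrp : r ≠ p := by
      rintro rfl
      exact hr.not_dvd_one (hR.gcd_eq_one ▸ Nat.dvd_gcd hrR dvd_rfl)
    obtain ⟨P, hP⟩ := Coprime.exists_invariant_sylow hzn hcop (Or.inl inferInstance) r
    set P' := (P : Subgroup R).map R.subtype with hP'
    have hP'R : P' ≤ R := map_subtype_le _
    have hPr : IsPGroup r P' := P.2.map R.subtype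
    have hPcen : ∀ g ∈ P', g ∈ center SL(2, F) := by
      by_contra hcon
      push Not at hcon
      obtain ⟨g, hg, hgc⟩ := hcon
      obtain ⟨-, ψ, hψ, hle⟩ := exists_SL2_three (X := P' ⊔ zpowers a) hp hap hrp hPr
        (fun g hg => (mem_normalizer_iff.1 (hP (mem_zpowers a)) g).1 hg)
        ⟨g, hg, fun h => hgc (hfix g (hP'R hg) h)⟩ le_sup_left (le_sup_right (a := P') (mem_zpowers a))
      have h24 : Nat.card SL(2, ZMod 3) = 24 := by rw [Nat.card_eq_fintype_card]; decide +kernel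
      have h2 : 2 ∣ Nat.card ↥(P' ⊔ zpowers a) := by
        refine dvd_trans ?_ (card_dvd_of_le hle)
        rw [← Nat.card_congr (MonoidHom.ofInjective hψ).toEquiv, h24]
        norm_num
      have h3 := relIndex_mul_relIndex ⊥ P' (P' ⊔ zpowers a) bot_le le_sup_left
      rw [relIndex_bot_left, relIndex_bot_left, sup_comm P',
        Coprime.relIndex_sup_right_of_le_normalizer hP] at h3
      rw [sup_comm, ← h3] at h2
      obtain ⟨j, hj⟩ := IsPGroup.iff_card.1 hPr
      rcases Nat.prime_two.dvd_mul.1 h2 with h | h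
      · rw [hj] at h
        exact hr2 ((Nat.prime_dvd_prime_iff_eq Nat.prime_two hr).1 (Nat.prime_two.dvd_of_dvd_pow h)).symm
      · have h' := h.trans (relIndex_dvd_card P' (zpowers a))
        rw [Nat.card_zpowers, hao] at h'
        exact hp ((Nat.prime_dvd_prime_iff_eq Nat.prime_two (Fact.out : p.Prime)).1 h').symm
    have hrP : r ∣ Nat.card P' := by
      rw [hP', Nat.card_congr ((P : Subgroup R).equivMapOfInjective _ R.subtype_injective).symm.toEquiv]
      exact P.dvd_card_of_dvd_card hrR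
    obtain ⟨⟨g, hg⟩, hgo⟩ := exists_prime_orderOf_dvd_card' r hrP
    rw [Subgroup.orderOf_mk] at hgo
    have h2 : g ^ 2 = 1 := by
      rcases mem_center_iff_pm.1 (hPcen g hg) with h | h <;> simp [h]
    have := orderOf_dvd_of_pow_eq_one h2
    rw [hgo] at this
    exact hr2 ((Nat.prime_dvd_prime_iff_eq hr Nat.prime_two).1 this)
  have hR2 : IsPGroup 2 R :=
    IsPGroup.of_card (Nat.eq_prime_pow_of_unique_prime_dvd Nat.card_pos.ne' fun {d} hd hdvd => hodd d hd hdvd)
  haveI : Fact (Nat.Prime 2) := ⟨Nat.prime_two⟩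
  obtain ⟨g₀, hg₀, hne₀⟩ := hne
  obtain ⟨hp3, -, -, -⟩ := exists_SL2_three (X := ⊤) hp hap (Ne.symm hp) hR2
    (fun g hg => (mem_normalizer_iff.1 haR g).1 hg) ⟨g₀, hg₀, hne₀⟩ le_top (mem_top a)
  subst hp3
  have huniq : ∀ x y : R, orderOf x = 2 → orderOf y = 2 → x = y := by
    have key : ∀ x : R, orderOf x = 2 → (x : SL(2, F)) = -1 := by
      intro x hx
      have hxx : (x : SL(2, F)) * x = 1 := by
        rw [← pow_two, ← Subgroup.coe_pow, show x ^ 2 = 1 by have := pow_orderOf_eq_one x; rwa [hx] at this, Subgroup.coe_one]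
      refine (eq_pm_of_mul_self_eq_one h20 hxx).resolve_left fun h => ?_
      rw [show x = 1 from Subtype.ext h, orderOf_one] at hx
      omega
    exact fun x y hx hy => Subtype.ext ((key x hx).trans (key y hy).symm)
  have hconj : ∀ k : SL(2, F), k ∈ normalizer (R : Set SL(2, F)) → ∀ x : R, k * x * k⁻¹ ∈ R := fun k hk x =>
    (mem_normalizer_iff.1 hk _).1 x.2
  let φ : MulAut R :=
    { toFun := fun x => ⟨a * x * a⁻¹, hconj a haR x⟩
      invFun := fun x => ⟨a⁻¹ * x * a, by simpa using hconj a⁻¹ (inv_mem haR) x⟩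
      left_inv := fun x => Subtype.ext (by simp [mul_assoc])
      right_inv := fun x => Subtype.ext (by simp [mul_assoc])
      map_mul' := fun x y => Subtype.ext (by simp [mul_assoc]) }
  have hφv : ∀ x : R, (φ x : SL(2, F)) = a * x * a⁻¹ := fun x => rfl
  have hφ1 : φ ≠ 1 := fun e => hne₀ (by
    have := hφv ⟨g₀, hg₀⟩
    rw [e] at this
    exact this.symm)
  have hφ3 : φ ^ 3 = 1 := MulEquiv.ext fun x => Subtype.ext (by
    show (φ (φ (φ x)) : SL(2, F)) = (x : SL(2, F))
    rw [hφv, hφv, hφv, show a * (a * (a * x * a⁻¹) * a⁻¹) * a⁻¹ = a ^ 3 * x * (a ^ 3)⁻¹ by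
      simp [pow_succ, mul_assoc], hap]
    simp)
  have hcard : Nat.card R = 8 := by
    by_contra h
    exact hφ1 ((PGroup.mulAut_odd_of_unique_involution hR2 huniq φ (by decide : Odd 3) hφ3).2 h)
  obtain ⟨e⟩ : Nonempty (R ≃* QuaternionGroup 2) := by
    have hsub : ∀ A B : Subgroup R, Nat.card A = 2 → Nat.card B = 2 → A = B := by
      have key : ∀ A : Subgroup R, Nat.card A = 2 → ∃ z : R, orderOf z = 2 ∧ A = zpowers z := by
        intro A hA
        obtain ⟨⟨z, hz⟩, hzo⟩ := exists_prime_orderOf_dvd_card' 2 (dvd_of_eq hA.symm)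
        rw [Subgroup.orderOf_mk] at hzo
        exact ⟨z, hzo, (eq_of_le_of_card_ge (zpowers_le.2 hz)
          (by rw [hA, Nat.card_zpowers, hzo])).symm⟩
      intro A B hA hB
      obtain ⟨x, hx, rfl⟩ := key A hA
      obtain ⟨y, hy, rfl⟩ := key B hB
      rw [huniq x y hx hy]
    rcases PGroup.cyclic_or_quaternion_of_unique hR2 hsub with hc | ⟨-, k, -, hk, ⟨e⟩⟩
    · refine absurd (PGroup.eq_one_of_pow_two_pow_of_pow_odd (by decide : Odd 3) hφ3 (k := 2) ?_) hφ1
      have := pow_card_eq_one' (x := φ)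
      rwa [IsCyclic.card_mulAut, hcard, show Nat.totient 8 = 2 ^ 2 from by decide] at this
    · have hk1 : k = 1 := by
        have h' : 2 ^ (k + 2) = 2 ^ 3 := by rw [← hk, hcard]; norm_num
        have := Nat.pow_right_injective le_rfl h'
        omega
      subst hk1
      exact ⟨e⟩
  refine ⟨rfl, ⟨e⟩, ?_⟩
  obtain ⟨i, hi4, hjj, hji, hwj, hgenQ⟩ := SL23.exists_generators_of_aut_three (MulAut.congr e φ)
    (by rw [← map_pow, hφ3, map_one]) (fun h => hφ1 ((MulEquiv.map_eq_one_iff _).1 h))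
  set I : R := e.symm i with hI
  have hJ : e.symm (MulAut.congr e φ i) = φ I := by simp [MulAut.congr, hI]
  have hJJ : e.symm (MulAut.congr e φ (MulAut.congr e φ i)) = φ (φ I) := by simp [MulAut.congr, hI]
  have hgenI : closure ({I, φ I} : Set R) = ⊤ := by
    have := congrArg (Subgroup.map e.symm.toMonoidHom) hgenQ
    rw [MonoidHom.map_closure, Set.image_pair, map_top_of_surjective _ e.symm.surjective] at this
    simpa [hJ, ← hI] using this
  have hI4 : I ^ 4 = 1 := by rw [hI, ← map_pow, hi4, map_one]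
  have hIjj : φ I * φ I = I * I := by
    have := congrArg e.symm hjj
    simpa only [map_mul, hJ, ← hI] using this
  have hIji : φ I * I = I ^ 3 * φ I := by
    have := congrArg e.symm hji
    simpa only [map_mul, map_pow, hJ, ← hI] using this
  have hIwj : φ (φ I) = I * φ I := by
    have := congrArg e.symm hwj
    simpa only [map_mul, hJ, hJJ, ← hI] using this
  let ι : R →* ↥(R ⊔ zpowers a) := Subgroup.inclusion le_sup_left
  let w : ↥(R ⊔ zpowers a) := ⟨a, le_sup_right (a := R) (mem_zpowers a)⟩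
  have hwc : ∀ x : R, w * ι x = ι (φ x) * w := fun x => Subtype.ext (by
    show a * (x : SL(2, F)) = (φ x : SL(2, F)) * a
    rw [hφv, inv_mul_cancel_right])
  refine SL23.nonempty_mulEquiv_SL23 (i := ι I) (j := ι (φ I)) (w := w) ⟨?_, ?_, ?_, ?_, ?_, ?_⟩ ?_ ?_
  · rw [← map_pow, hI4, map_one]
  · rw [← map_mul ι, ← map_mul ι, hIjj]
  · rw [← map_pow ι, ← map_mul ι, ← map_mul ι, hIji]
  · exact Subtype.ext hap
  · rw [hwc]
  · rw [← map_mul ι, hwc, hIwj]
  · rw [eq_top_iff]
    intro x _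
    set C := closure ({ι I, ι (φ I), w} : Set ↥(R ⊔ zpowers a)) with hC
    have h1 : ∀ q : R, ι q ∈ C := by
      intro q
      have : q ∈ closure ({I, φ I} : Set R) := hgenI ▸ mem_top q
      have hle : closure ({I, φ I} : Set R) ≤ C.comap ι := by
        rw [closure_le]
        rintro z (rfl | rfl) <;> exact subset_closure (by simp)
      exact hle this
    have hle : R ⊔ zpowers a ≤ C.map (R ⊔ zpowers a).subtype :=
      sup_le (fun q hq => ⟨ι ⟨q, hq⟩, h1 ⟨q, hq⟩, rfl⟩)
        (zpowers_le.2 ⟨w, subset_closure (by simp), rfl⟩)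
    obtain ⟨y, hy, hyx⟩ := hle x.2
    rwa [Subtype.ext hyx] at hy
  · have h0 := relIndex_mul_relIndex ⊥ R (R ⊔ zpowers a) bot_le le_sup_left
    rw [relIndex_bot_left, relIndex_bot_left, sup_comm R, Coprime.relIndex_sup_right_of_le_normalizer hzn,
      Subgroup.relIndex, show R.subgroupOf (zpowers a) = ⊥ from subgroupOf_eq_bot.2
        (disjoint_iff.2 (inf_eq_bot_of_coprime hcop.symm)), index_bot, hcard, Nat.card_zpowers, hao,
      sup_comm (zpowers a)] at h0
    exact h0.symm

end Cfsg.Agent.S3740
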