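import Cfsg.Statements.S3741
-- import your own Cfsg.Agent.* helpers here

set_option autoImplicit false
open Cfsg
open scoped commutatorElement

namespace Cfsg.Agent.S3741

/-- A bimultiplicative pairing into a cyclic group: the rank on one side is at most that on the other. -/
theorem index_ker_le {A B C : Type*} [Group A] [Group B] [CommGroup C] [Finite A] [Finite B] [Finite C] [IsCyclic C]
    (f : A →* (B →* C)) : f.ker.index ≤ f.flip.ker.index := by
  rw [Subgroup.index_ker, Subgroup.index_ker]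
  let R := f.flip.range
  let ev : A →* (↥R →* C) :=
    { toFun := fun a =>
        { toFun := fun r => (r : A →* C) a
          map_one' := rfl
          map_mul' := fun _ _ => rfl }
      map_one' := by ext r; exact map_one (r : A →* C)
      map_mul' := fun a b => by ext r; exact map_mul (r : A →* C) a b }
  have hker : ev.ker = f.ker := by
    ext a
    simp only [MonoidHom.mem_ker]
    constructor
    · intro h; ext b; exact DFunLike.congr_fun h ⟨f.flip b, b, rfl⟩
    · intro h; ext ⟨r, b, rfl⟩; simp [ev, MonoidHom.flip_apply, h]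
  have h1 : Nat.card f.range = Nat.card ev.range := by
    rw [← Subgroup.index_ker, ← Subgroup.index_ker, hker]
  rw [h1]
  haveI : NeZero (Nat.card C) := ⟨Nat.card_pos.ne'⟩
  obtain ⟨ι, hι⟩ : ∃ ι : C →* ℂˣ, Function.Injective ι := by
    have e : C ≃* rootsOfUnity (Nat.card C) ℂ := mulEquivOfCyclicCardEq
      (Complex.card_rootsOfUnity _).symm
    exact ⟨(rootsOfUnity (Nat.card C) ℂ).subtype.comp e.toMonoidHom, Subtype.coe_injective.comp e.injective⟩
  haveI : Finite (A →* C) := Finite.of_injective _ DFunLike.coe_injective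
  haveI : Finite (↥R →* C) := Finite.of_injective _ DFunLike.coe_injective
  haveI : NeZero (Monoid.exponent R) := ⟨Monoid.exponent_ne_zero_of_finite⟩
  haveI : HasEnoughRootsOfUnity ℂ (Monoid.exponent R) := inferInstance
  haveI : Finite (↥R →* ℂˣ) :=
    (CommGroup.monoidHom_mulEquiv_of_hasEnoughRootsOfUnity ↥R ℂ).some.toEquiv.finite_iff.2 inferInstance
  calc Nat.card ev.range ≤ Nat.card (↥R →* C) := Subgroup.card_le_card_group _
    _ ≤ Nat.card (↥R →* ℂˣ) := Nat.card_le_card_of_injective (fun φ => ι.comp φ) (fun _ _ h => by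
        ext x; exact hι (DFunLike.congr_fun h x))
    _ = Nat.card R := CommGroup.card_monoidHom_of_hasEnoughRootsOfUnity _ _

/-- Let A and B be subgroups of a finite p-group with [A, B] ≤ A ∩ B and [A, B] of order at most p. Then |A : C_A(B)| = |B : C_B(A)|. -/
theorem result {G : Type*} [Group G] [Finite G] {p : ℕ} [Fact p.Prime] (hG : IsPGroup p G) (A B : Subgroup G) (hAB : ⁅A, B⁆ ≤ A ⊓ B) (hcard : Nat.card ↥⁅A, B⁆ ≤ p) : (A ⊓ Subgroup.centralizer (B : Set G)).relIndex A = (B ⊓ Subgroup.centralizer (A : Set G)).relIndex B := by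
  classical
  have hpg := hG.to_subgroup ⁅A, B⁆
  have hCA : ⁅A, B⁆ ≤ A := hAB.trans inf_le_left
  have hCB : ⁅A, B⁆ ≤ B := hAB.trans inf_le_right
  have key : ∀ X Y : Subgroup G, ⁅X, Y⁆ = ⁅A, B⁆ → ⁅A, B⁆ ≤ Y → ∀ x ∈ X, ∀ c ∈ ⁅A, B⁆, x * c * x⁻¹ = c := by
    intro X Y hXY hY x hx c hc
    have hstab : ∀ d ∈ ⁅A, B⁆, ∀ z ∈ X, z * d * z⁻¹ ∈ ⁅A, B⁆ := by
      intro d hd z hz
      have h := mul_mem (hXY ▸ Subgroup.commutator_mem_commutator hz (hY hd) : ⁅z, d⁆ ∈ ⁅A, B⁆) hd
      simpa [commutatorElement_def] using h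
    let φ : X →* MulAut ↥⁅A, B⁆ :=
      { toFun := fun z =>
          { toFun := fun d => ⟨z * d * (z : G)⁻¹, hstab d d.2 z z.2⟩
            invFun := fun d => ⟨(z : G)⁻¹ * d * (z : G)⁻¹⁻¹, hstab d d.2 _ (inv_mem z.2)⟩
            left_inv := fun d => by ext; simp [mul_assoc]
            right_inv := fun d => by ext; simp [mul_assoc]
            map_mul' := fun d e => by ext; simp [mul_assoc] }
        map_one' := by ext; simp
        map_mul' := fun y z => by ext; simp [mul_assoc] }
    letI : MulAction X ↥⁅A, B⁆ := MulAction.compHom _ φ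
    have h := (hG.to_subgroup X).card_modEq_card_fixedPoints ↥⁅A, B⁆
    rcases eq_or_ne (Nat.card ↥⁅A, B⁆) 1 with h1 | h1
    · have : c = 1 := Subgroup.mem_bot.1 ((Subgroup.card_eq_one.1 h1) ▸ hc)
      simp [this]
    · obtain ⟨k, hk⟩ := hpg.exists_card_eq
      have hp2 := (Fact.out : p.Prime).two_le
      have hcp : Nat.card ↥⁅A, B⁆ = p := by
        apply le_antisymm hcard
        rw [hk]
        exact Nat.le_self_pow (fun h0 => h1 (by rw [hk, h0, pow_zero])) p
      have hne : Nonempty (MulAction.fixedPoints X ↥⁅A, B⁆) := ⟨⟨1, fun z => map_one (φ z)⟩⟩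
      have hfix : Nat.card (MulAction.fixedPoints X ↥⁅A, B⁆) = p := by
        have hle : Nat.card (MulAction.fixedPoints X ↥⁅A, B⁆) ≤ p :=
          hcp ▸ Nat.card_le_card_of_injective _ Subtype.coe_injective
        have hd : p ∣ Nat.card (MulAction.fixedPoints X ↥⁅A, B⁆) := by
          rw [hcp] at h; exact Nat.modEq_zero_iff_dvd.1 (h.symm.trans (Nat.modEq_zero_iff_dvd.2 dvd_rfl))
        exact le_antisymm hle (Nat.le_of_dvd Nat.card_pos hd)
      have hall : (⟨c, hc⟩ : ↥⁅A, B⁆) ∈ MulAction.fixedPoints X ↥⁅A, B⁆ := by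
        have := Function.Injective.bijective_of_nat_card_le
          (Subtype.coe_injective (p := (· ∈ MulAction.fixedPoints X ↥⁅A, B⁆))) (by rw [hfix, hcp])
        obtain ⟨y, hy⟩ := this.2 ⟨c, hc⟩
        exact hy ▸ y.2
      exact congrArg Subtype.val (hall ⟨x, hx⟩)
  have hcA := key A B rfl hCB
  have hcB := key B A (Subgroup.commutator_comm B A) hCA
  letI : CommGroup ↥⁅A, B⁆ := { (inferInstance : Group ↥⁅A, B⁆) with
    mul_comm := fun c d => Subtype.ext (mul_inv_eq_iff_eq_mul.1 (hcA c (hCA c.2) d d.2)) }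
  have hcyc : IsCyclic ↥⁅A, B⁆ := by
    obtain ⟨k, hk⟩ := hpg.exists_card_eq
    rcases k with _ | k
    · haveI := (Nat.card_eq_one_iff_unique.1 (hk.trans (pow_zero p))).1
      exact isCyclic_of_subsingleton
    · refine isCyclic_of_prime_card (p := p) (le_antisymm hcard ?_)
      rw [hk]; exact Nat.le_self_pow k.succ_ne_zero p
  let f : A →* (B →* ↥⁅A, B⁆) :=
    { toFun := fun a =>
        { toFun := fun b => ⟨⁅(a : G), (b : G)⁆, Subgroup.commutator_mem_commutator a.2 b.2⟩
          map_one' := by ext; simp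
          map_mul' := fun b b' => by
            ext
            have e : ⁅(a : G), (b : G) * b'⁆ = ⁅(a : G), (b : G)⁆ * ((b : G) * ⁅(a : G), (b' : G)⁆ * (b : G)⁻¹) := by
              simp [commutatorElement_def, mul_assoc]
            simp only [Subgroup.coe_mul, e, hcB b b.2 _ (Subgroup.commutator_mem_commutator a.2 b'.2)] }
      map_one' := by ext; simp
      map_mul' := fun a a' => by
        ext b
        have e : ⁅(a : G) * a', (b : G)⁆ = ((a : G) * ⁅(a' : G), (b : G)⁆ * (a : G)⁻¹) * ⁅(a : G), (b : G)⁆ := by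
          simp [commutatorElement_def, mul_assoc]
        show ⁅(a : G) * a', (b : G)⁆ = ⁅(a : G), (b : G)⁆ * ⁅(a' : G), (b : G)⁆
        rw [e, hcA a a.2 _ (Subgroup.commutator_mem_commutator a'.2 b.2)]
        exact congrArg Subtype.val (mul_comm (⟨_, Subgroup.commutator_mem_commutator a'.2 b.2⟩ : ↥⁅A, B⁆)
          ⟨_, Subgroup.commutator_mem_commutator a.2 b.2⟩) }
  have hA : (A ⊓ Subgroup.centralizer (B : Set G)).subgroupOf A = f.ker := by
    ext a
    simp only [Subgroup.mem_subgroupOf, Subgroup.mem_inf, SetLike.coe_mem, true_and, Subgroup.mem_centralizer_iff,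
      MonoidHom.mem_ker, MonoidHom.ext_iff, Subtype.forall]
    refine forall₂_congr fun b hb => ?_
    rw [Subtype.ext_iff]
    simp only [f, MonoidHom.coe_mk, OneHom.coe_mk, MonoidHom.one_apply, Subgroup.coe_one]
    exact eq_comm.trans commutatorElement_eq_one_iff_mul_comm.symm
  have hB : (B ⊓ Subgroup.centralizer (A : Set G)).subgroupOf B = f.flip.ker := by
    ext b
    simp only [Subgroup.mem_subgroupOf, Subgroup.mem_inf, SetLike.coe_mem, true_and, Subgroup.mem_centralizer_iff,
      MonoidHom.mem_ker, MonoidHom.ext_iff, Subtype.forall]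
    refine forall₂_congr fun a ha => ?_
    rw [Subtype.ext_iff]
    simp only [f, MonoidHom.flip_apply, MonoidHom.coe_mk, OneHom.coe_mk, MonoidHom.one_apply, Subgroup.coe_one]
    exact commutatorElement_eq_one_iff_mul_comm.symm
  unfold Subgroup.relIndex
  rw [hA, hB]
  exact le_antisymm (index_ker_le f) (index_ker_le f.flip)

end Cfsg.Agent.S3741
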