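import Cfsg.Statements.S3744
import Cfsg.Agent.Lib.PCore.PSolvable
import Cfsg.Agent.Lib.Coprime.Basic

set_option autoImplicit false
open Cfsg

namespace Cfsg.Agent.S3744

open scoped Pointwise

universe u

theorem minimal_normal {G : Type u} [Group G] [Finite G] [Nontrivial G] :
    ∃ N : Subgroup G, N.Normal ∧ N ≠ ⊥ ∧ ∀ K : Subgroup G, K.Normal → K ≤ N → K = ⊥ ∨ K = N := by
  obtain ⟨N, ⟨h1, h2⟩, hmin⟩ := ({N : Subgroup G | N.Normal ∧ N ≠ ⊥}).toFinite.exists_minimal
    ⟨⊤, inferInstance, top_ne_bot⟩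
  refine ⟨N, h1, h2, fun K hK hle => ?_⟩
  rcases eq_or_ne K ⊥ with h | h
  · exact Or.inl h
  · exact Or.inr (le_antisymm hle (hmin ⟨hK, h⟩ hle))

theorem card_quot_lt {G : Type u} [Group G] [Finite G] {N : Subgroup G} [N.Normal] (hN : N ≠ ⊥) :
    Nat.card (G ⧸ N) < Nat.card G := by
  rw [← Subgroup.index_eq_card]
  have h1 := Subgroup.card_mul_index N
  have h2 : 1 < Nat.card N := (Subgroup.one_lt_card_iff_ne_bot N).2 hN
  have h3 : 0 < N.index := Nat.pos_of_ne_zero Subgroup.index_ne_zero_of_finite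
  nlinarith

theorem card_quot_eq {G : Type u} [Group G] [Finite G] (N H : Subgroup G) [N.Normal] :
    Nat.card ↥(H.map (QuotientGroup.mk' N)) ∣ Nat.card H := Subgroup.card_map_dvd H _

/-- A p-soluble group has a p-complement. -/
theorem exists_compl {p : ℕ} [Fact p.Prime] : ∀ (n : ℕ) (G : Type u) [Group G] [Finite G], Nat.card G = n →
    Cfsg.IsPSolvable p G → ∃ H : Subgroup G, (Nat.card H).Coprime p ∧ ∃ k : ℕ, H.index = p ^ k := by
  intro n
  induction n using Nat.strong_induction_on with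
  | _ n ih =>
    intro G _ _ hn hG
    rcases subsingleton_or_nontrivial G with hs | hs
    · exact ⟨⊤, by rw [Subgroup.card_top, Nat.card_unique]; exact Nat.coprime_one_left p, 0, by simp⟩
    obtain ⟨N, hN, hNb, hmin⟩ := minimal_normal (G := G)
    haveI := hN
    obtain ⟨K, hKc, k, hK⟩ := ih _ (hn ▸ card_quot_lt hNb) (G ⧸ N) rfl (Cfsg.Agent.PCore.isPSolvable_quotient hG N)
    set H₀ := K.comap (QuotientGroup.mk' N) with hH₀
    have hidx : H₀.index = p ^ k := by
      rw [hH₀, Subgroup.index_comap_of_surjective _ (QuotientGroup.mk'_surjective N), hK]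
    have hNH : N ≤ H₀ := by
      exact le_of_eq_of_le (QuotientGroup.ker_mk' N).symm (MonoidHom.ker_le_comap _ _)
    have hcard : Nat.card H₀ = Nat.card N * Nat.card K := by
      rw [← Subgroup.relIndex_bot_left, ← Subgroup.relIndex_mul_relIndex ⊥ N H₀ bot_le hNH, Subgroup.relIndex_bot_left]
      congr 1
      rw [← Subgroup.relIndex_bot_left K]
      have := Subgroup.relIndex_comap (f := QuotientGroup.mk' N) ⊥ (K := H₀)
      rw [MonoidHom.comap_bot, QuotientGroup.ker_mk', hH₀,
        Subgroup.map_comap_eq_self_of_surjective (QuotientGroup.mk'_surjective N)] at this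
      exact this
    rcases Cfsg.Agent.PCore.isPGroup_or_coprime_of_minimal_normal hG N hmin with hp | hp
    · have hidxN : (N.subgroupOf H₀).index = Nat.card K := by
        have h1 := Subgroup.card_mul_index (N.subgroupOf H₀)
        rw [Nat.card_congr (Subgroup.subgroupOfEquivOfLe hNH).toEquiv, hcard] at h1
        exact Nat.eq_of_mul_eq_mul_left Nat.card_pos h1
      obtain ⟨j, hj⟩ := hp.exists_card_eq
      obtain ⟨B, hB⟩ := Subgroup.exists_right_complement'_of_coprime (N := N.subgroupOf H₀) (by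
        rw [hidxN, Nat.card_congr (Subgroup.subgroupOfEquivOfLe hNH).toEquiv, hj]
        exact Nat.Coprime.pow_left j hKc.symm)
      refine ⟨B.map H₀.subtype, ?_, k + j, ?_⟩
      · rw [Subgroup.card_map_of_injective H₀.subtype_injective, ← hB.symm.index_eq_card, hidxN]
        exact hKc
      · have h1 := Subgroup.card_mul_index (B.map H₀.subtype)
        have h2 := Subgroup.card_mul_index H₀
        rw [Subgroup.card_map_of_injective H₀.subtype_injective, ← hB.symm.index_eq_card, hidxN] at h1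
        rw [hcard, hidx, hj] at h2
        have : Nat.card K * (B.map H₀.subtype).index = Nat.card K * p ^ (k + j) := by
          rw [h1, ← h2, pow_add]; ring
        exact Nat.eq_of_mul_eq_mul_left Nat.card_pos this
    · exact ⟨H₀, hcard ▸ Nat.Coprime.mul_left hp hKc, k, hidx⟩

/-- Every p'-subgroup of a p-soluble group lies in a conjugate of any given p-complement. -/
theorem exists_conj_le {p : ℕ} [Fact p.Prime] : ∀ (n : ℕ) (G : Type u) [Group G] [Finite G], Nat.card G = n →
    Cfsg.IsPSolvable p G → ∀ H U : Subgroup G, (Nat.card H).Coprime p → (∃ k : ℕ, H.index = p ^ k) →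
    (Nat.card U).Coprime p → ∃ g : G, U.map (MulAut.conj g).toMonoidHom ≤ H := by
  intro n
  induction n using Nat.strong_induction_on with
  | _ n ih =>
    intro G _ _ hn hG H U hH hHi hU
    rcases subsingleton_or_nontrivial G with hs | hs
    · exact ⟨1, fun x _ => Subsingleton.elim 1 x ▸ one_mem H⟩
    obtain ⟨N, hN, hNb, hmin⟩ := minimal_normal (G := G)
    haveI := hN
    obtain ⟨k, hk⟩ := hHi
    have hbar : ∃ j : ℕ, (H.map (QuotientGroup.mk' N)).index = p ^ j := by
      obtain ⟨j, -, hj⟩ := (Nat.dvd_prime_pow Fact.out).1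
        (hk ▸ Subgroup.index_map_dvd H (QuotientGroup.mk'_surjective N))
      exact ⟨j, hj⟩
    obtain ⟨g', hg⟩ := ih _ (hn ▸ card_quot_lt hNb) (G ⧸ N) rfl (Cfsg.Agent.PCore.isPSolvable_quotient hG N)
      (H.map (QuotientGroup.mk' N)) (U.map (QuotientGroup.mk' N))
      (hH.coprime_dvd_left (card_quot_eq N H)) hbar (hU.coprime_dvd_left (card_quot_eq N U))
    obtain ⟨g, rfl⟩ := QuotientGroup.mk'_surjective N g'
    have hle : U.map (MulAut.conj g).toMonoidHom ≤ H ⊔ N := by
      rintro _ ⟨x, hx, rfl⟩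
      have := hg ⟨_, ⟨x, hx, rfl⟩, rfl⟩
      obtain ⟨h, hh, e⟩ := this
      simp only [MulEquiv.toMonoidHom_eq_coe, MonoidHom.coe_coe, MulAut.conj_apply, ← map_inv, ← map_mul] at e ⊢
      obtain ⟨z, hz, hz'⟩ := (QuotientGroup.mk'_eq_mk' N).1 e
      exact hz' ▸ mul_mem (Subgroup.mem_sup_left hh) (Subgroup.mem_sup_right hz)
    rcases Cfsg.Agent.PCore.isPGroup_or_coprime_of_minimal_normal hG N hmin with hp | hp
    · obtain ⟨j, hj⟩ := hp.exists_card_eq
      have hNs : Group.IsSolvable N := by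
        haveI := hp.isNilpotent
        infer_instance
      obtain ⟨m, -, hm⟩ := Cfsg.Agent.Coprime.exists_le_conj_of_le_sup
        (A := H) (N := N) (B := U.map (MulAut.conj g).toMonoidHom)
        (by rw [Subgroup.normalizer_eq_top_iff.2 hN]; exact le_top) hle
        (hj ▸ hH.pow_right j)
        (by rw [Subgroup.card_map_of_injective (MulAut.conj g).injective, hj]; exact hU.pow_right j)
        (Or.inr hNs)
      refine ⟨m⁻¹ * g, ?_⟩
      rintro _ ⟨x, hx, rfl⟩
      have h1 := Cfsg.Agent.Coprime.mem_conj_smul_iff.1 (hm ⟨x, hx, rfl⟩)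
      simpa [mul_assoc] using h1
    · refine ⟨g, hle.trans (sup_le le_rfl ?_)⟩
      have hc : (Nat.card ↥(H ⊔ N)).Coprime p := Cfsg.Agent.PCore.coprime_card_sup N H hp hH |> fun h => by
        rw [sup_comm]; exact h
      have hd : H.relIndex (H ⊔ N) = 1 := by
        obtain ⟨i, -, hi⟩ := (Nat.dvd_prime_pow Fact.out).1
          (hk ▸ Dvd.intro _ (Subgroup.relIndex_mul_index (le_sup_left : H ≤ H ⊔ N)))
        rw [hi]
        rcases Nat.eq_zero_or_pos i with h | h
        · rw [h, pow_zero]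
        · exfalso
          have : p ∣ Nat.card ↥(H ⊔ N) :=
            ((dvd_pow_self p h.ne').trans (hi ▸ dvd_rfl)).trans (Subgroup.relIndex_dvd_card H (H ⊔ N))
          exact ((Nat.Prime.coprime_iff_not_dvd Fact.out).1 hc.symm) this
      exact le_sup_right.trans (Subgroup.relIndex_eq_one.1 hd)

/-- A finite p-soluble group has a p-complement, all its p-complements are conjugate, and every subgroup of order prime to p lies in one of them. Here a p-complement is a subgroup of order prime to p whose index is a power of p. -/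
theorem result {G : Type*} [Group G] [Finite G] {p : ℕ} [Fact p.Prime] (hG : Cfsg.IsPSolvable p G) : (∃ H : Subgroup G, (Nat.card H).Coprime p ∧ ∃ n : ℕ, H.index = p ^ n) ∧ (∀ H₁ H₂ : Subgroup G, (Nat.card H₁).Coprime p → (∃ n : ℕ, H₁.index = p ^ n) → (Nat.card H₂).Coprime p → (∃ n : ℕ, H₂.index = p ^ n) → ∃ g : G, H₂ = H₁.map (MulAut.conj g).toMonoidHom) ∧ (∀ U : Subgroup G, (Nat.card U).Coprime p → ∃ H : Subgroup G, (Nat.card H).Coprime p ∧ (∃ n : ℕ, H.index = p ^ n) ∧ ∃ g : G, U.map (MulAut.conj g).toMonoidHom ≤ H) := by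
  obtain ⟨H, hH, hHi⟩ := exists_compl _ G rfl hG
  refine ⟨⟨H, hH, hHi⟩, fun H₁ H₂ h₁ i₁ h₂ i₂ => ?_, fun U hU => ⟨H, hH, hHi, exists_conj_le _ G rfl hG H U hH hHi hU⟩⟩
  obtain ⟨g, hg⟩ := exists_conj_le _ G rfl hG H₁ H₂ h₁ i₁ h₂
  obtain ⟨a, ha⟩ := i₁
  obtain ⟨b, hb⟩ := i₂
  have hcard : Nat.card H₁ = Nat.card H₂ := by
    have e1 := Subgroup.card_mul_index H₁
    have e2 := Subgroup.card_mul_index H₂
    rw [ha] at e1
    rw [hb] at e2
    have h := e1.trans e2.symm
    exact Nat.dvd_antisymm ((h₁.pow_right b).dvd_of_dvd_mul_right ⟨p ^ a, h.symm⟩)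
      ((h₂.pow_right a).dvd_of_dvd_mul_right ⟨p ^ b, h⟩)
  have heq : H₂.map (MulAut.conj g).toMonoidHom = H₁ :=
    Subgroup.eq_of_le_of_card_ge hg (by rw [Subgroup.card_map_of_injective (MulAut.conj g).injective, hcard])
  refine ⟨g⁻¹, ?_⟩
  rw [← heq, Subgroup.map_map]
  conv_lhs => rw [← Subgroup.map_id H₂]
  congr 1
  ext x; simp [mul_assoc]

end Cfsg.Agent.S3744
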