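import Cfsg.Statements.S3746
import Cfsg.Agent.Lib.Components.Layer

set_option autoImplicit false
open Cfsg
open scoped commutatorElement

namespace Cfsg.Agent.S3746

/-- Let Z ≤ Z(G) be a central subgroup of a finite group G and E a subgroup of G containing Z whose image E/Z is a component of G/Z (subnormal and quasisimple). Then the derived subgroup [E, E] is a component of G. -/
theorem result {G : Type*} [Group G] [Finite G] (Z : Subgroup G) (hZ : Z ≤ Subgroup.center G) [Z.Normal] (E : Subgroup G) (hZE : Z ≤ E) (hE : Cfsg.IsComponent (E.map (QuotientGroup.mk' Z))) : Cfsg.IsComponent ⁅E, E⁆ := by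
  obtain ⟨hsn, hq⟩ := hE
  have hcomap : (E.map (QuotientGroup.mk' Z)).comap (QuotientGroup.mk' Z) = E := by
    rw [Subgroup.comap_map_eq, QuotientGroup.ker_mk', sup_eq_left.2 hZE]
  have hEsn : E.IsSubnormal := hcomap ▸ hsn.comap _
  refine ⟨Cfsg.Agent.Components.isSubnormal_commutator_self hEsn, ?_⟩
  have hEb : E.map (QuotientGroup.mk' Z) ≠ ⊥ := Cfsg.Agent.Components.IsQuasisimple.ne_bot hq
  have hsup : ⁅E, E⁆ ⊔ Z = E := by
    have h1 : (⁅E, E⁆).map (QuotientGroup.mk' Z) = E.map (QuotientGroup.mk' Z) := by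
      rw [Subgroup.map_commutator, Cfsg.Agent.Components.IsQuasisimple.commutator_self hq]
    have h2 := congrArg (Subgroup.comap (QuotientGroup.mk' Z)) h1
    rwa [hcomap, Subgroup.comap_map_eq, QuotientGroup.ker_mk'] at h2
  have hcen : ∀ H : Subgroup G, Z ≤ Subgroup.centralizer (H : Set G) := fun H =>
    hZ.trans (Subgroup.center_le_centralizer _)
  have key : ∀ M : Subgroup G, M ⊔ Z = E → ⁅E, E⁆ ≤ ⁅M, M⁆ := by
    intro M hM
    haveI : Z.Normal := inferInstance
    refine Subgroup.commutator_le.mpr fun a ha b hb => ?_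
    obtain ⟨m, hm, z, hz, rfl⟩ := Subgroup.mem_sup_of_normal_right.mp (hM.symm ▸ ha)
    obtain ⟨k, hk, w, hw, rfl⟩ := Subgroup.mem_sup_of_normal_right.mp (hM.symm ▸ hb)
    have hz' := Subgroup.mem_center_iff.mp (hZ hz)
    have hw' := Subgroup.mem_center_iff.mp (hZ hw)
    have e1 : ⁅z, k * w⁆ = 1 := commutatorElement_eq_one_iff_mul_comm.mpr (hz' (k * w)).symm
    have e2 : ⁅m, w⁆ = 1 := commutatorElement_eq_one_iff_mul_comm.mpr (hw' m)
    have e : ⁅m * z, k * w⁆ = ⁅m, k⁆ := by
      rw [commutatorElement_mul_left_eq_conj_mul, e1, commutatorElement_mul_right_eq_mul_conj, e2]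
      group
    rw [e]
    exact Subgroup.commutator_mem_commutator hm hk
  set K := ⁅E, E⁆ with hK
  have hKE : K ≤ E := Subgroup.commutator_le_self E
  have hperf : ⁅K, K⁆ = K := le_antisymm (Subgroup.commutator_le_self K) (key K hsup)
  have hKb : K ≠ ⊥ := fun h => hEb (by
    rw [← hsup, h, bot_sup_eq, Subgroup.map_eq_bot_iff, QuotientGroup.ker_mk'])
  haveI : Nontrivial K := (Subgroup.nontrivial_iff_ne_bot _).2 hKb
  haveI hP : Group.IsPerfect K := Subgroup.isPerfect_iff.mpr hperf
  refine Cfsg.Agent.Components.isQuasisimple_of_normal_central fun M hM => ?_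
  set N := M.map K.subtype with hN
  have hNK : N ≤ K := Subgroup.map_subtype_le M
  have hKN : K ≤ Subgroup.normalizer (N : Set G) := by
    refine le_trans ?_ (M.le_normalizer_map K.subtype)
    rw [Subgroup.normalizer_eq_top_iff.2 hM, ← MonoidHom.range_eq_map, Subgroup.range_subtype]
  have hEN : E ≤ Subgroup.normalizer (N : Set G) :=
    hsup.ge.trans (sup_le hKN ((hcen N).trans (Subgroup.centralizer_le_normalizer _)))
  rcases Cfsg.Agent.Components.IsQuasisimple.eq_or_commutator_eq_bot hq
    (Subgroup.map_mono (hNK.trans hKE)) (by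
      refine (Subgroup.map_mono hEN).trans ?_
      exact N.le_normalizer_map (QuotientGroup.mk' Z)) with h | h
  · left
    have h2 := congrArg (Subgroup.comap (QuotientGroup.mk' Z)) h
    rw [hcomap, Subgroup.comap_map_eq, QuotientGroup.ker_mk'] at h2
    have h3 : K ≤ N := (key N h2).trans (Subgroup.commutator_le_self N)
    rw [← Subgroup.map_subtype_inj, ← MonoidHom.range_eq_map, Subgroup.range_subtype]
    exact le_antisymm hNK h3
  · right
    rw [← Subgroup.map_commutator, Subgroup.map_eq_bot_iff, QuotientGroup.ker_mk'] at h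
    have h4 : ⁅N, K⁆ ≤ Z := by
      rw [Subgroup.commutator_comm]
      exact (Subgroup.commutator_mono hKE le_rfl).trans h
    have h5 : ⁅⁅N, K⁆, K⁆ = ⊥ := eq_bot_iff.2 ((Subgroup.commutator_mono h4 le_rfl).trans
      (Subgroup.commutator_eq_bot_iff_le_centralizer.2 (hcen K)).le)
    have h6 := Cfsg.Agent.Components.le_centralizer_of_commutator_eq_bot
      (Cfsg.Agent.Components.commutator_eq_bot_symm
        (Cfsg.Agent.Components.commutator_eq_bot_of_commutator_commutator hP h5))
    intro x hx
    rw [Subgroup.mem_center_iff]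
    intro y
    exact Subtype.ext (Subgroup.mem_centralizer_iff.1 (h6 ⟨x, hx, rfl⟩) y y.2)

end Cfsg.Agent.S3746
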