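import Cfsg.Statements.S3747
import Cfsg.Agent.Lib.Components.GenFitting
import Cfsg.Agent.Lib.Components.Wielandt

set_option autoImplicit false
open Cfsg

namespace Cfsg.Agent.S3747

open Cfsg.Agent.Components in
/-- A join of centre-free components has trivial centre. -/
theorem sSup_inf_centralizer_eq_bot {G : Type*} [Group G] [Finite G] (S : Set (Subgroup G))
    (hS : ∀ L ∈ S, IsComponent L ∧ L ⊓ Subgroup.centralizer (L : Set G) = ⊥) :
    sSup S ⊓ Subgroup.centralizer ((sSup S : Subgroup G) : Set G) = ⊥ := by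
  induction S, S.toFinite using Set.Finite.induction_on with
  | empty => simp
  | @insert a s ha hsf ih =>
    have hs : ∀ L ∈ s, IsComponent L ∧ L ⊓ Subgroup.centralizer (L : Set G) = ⊥ :=
      fun L hL => hS L (Set.mem_insert_of_mem a hL)
    obtain ⟨hac, haz⟩ := hS a (Set.mem_insert a s)
    have hcomm : ⁅a, sSup s⁆ = ⊥ := commutator_sSup_eq_bot fun L hL =>
      IsComponent.commutator_eq_bot hac (hs L hL).1 (fun h => ha (h ▸ hL))
    have hcent : a ≤ Subgroup.centralizer ((sSup s : Subgroup G) : Set G) :=
      le_centralizer_of_commutator_eq_bot hcomm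
    rw [Subgroup.eq_bot_iff_forall]
    rintro x ⟨hx, hxc⟩
    rw [sSup_insert] at hx hxc
    have hx' : x ∈ ((a ⊔ sSup s : Subgroup G) : Set G) := hx
    rw [Subgroup.coe_mul_of_left_le_normalizer_right a (sSup s)
      (hcent.trans (Subgroup.centralizer_le_normalizer _))] at hx'
    obtain ⟨k, hk, r, hr, rfl⟩ := hx'
    have hxc' := Subgroup.mem_centralizer_iff.1 hxc
    have hk1 : k = 1 := by
      have : k ∈ a ⊓ Subgroup.centralizer (a : Set G) := by
        refine ⟨hk, Subgroup.mem_centralizer_iff.2 fun y hy => ?_⟩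
        have h1 := hxc' y (Subgroup.mem_sup_left hy)
        have h2 : r * y = y * r := Subgroup.mem_centralizer_iff.1 (hcent hy) r hr
        simp only [← mul_assoc] at h1
        rw [mul_assoc k r y, h2, ← mul_assoc] at h1
        exact mul_right_cancel h1
      rw [haz] at this
      exact Subgroup.mem_bot.1 this
    subst hk1
    simp only [one_mul] at hxc' ⊢
    have : r ∈ sSup s ⊓ Subgroup.centralizer ((sSup s : Subgroup G) : Set G) :=
      ⟨hr, Subgroup.mem_centralizer_iff.2 fun y hy => hxc' y (Subgroup.mem_sup_right hy)⟩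
    rw [ih hs] at this
    exact Subgroup.mem_bot.1 this

open Cfsg.Agent.Components in
/-- The normal closure of a centre-free component is minimal normal. -/
theorem normalClosure_minimal {G : Type*} [Group G] [Finite G] {K : Subgroup G} (hK : IsComponent K)
    (hz : K ⊓ Subgroup.centralizer (K : Set G) = ⊥) :
    Subgroup.normalClosure (K : Set G) ≠ ⊥ ∧ ∀ N : Subgroup G, N.Normal → N ≤ Subgroup.normalClosure (K : Set G) →
      N = ⊥ ∨ N = Subgroup.normalClosure (K : Set G) := by
  refine ⟨fun h => IsComponent.ne_bot hK (eq_bot_iff.2 (h ▸ Subgroup.le_normalClosure)), fun N hN hle => ?_⟩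
  let S : Set (Subgroup G) := Set.range fun g : G => K.map (MulAut.conj g).toMonoidHom
  have hncl : Subgroup.normalClosure (K : Set G) ≤ sSup S := by
    haveI : (sSup S).Normal := by
      refine ⟨fun y hy g => ?_⟩
      have : (sSup S).map (MulAut.conj g).toMonoidHom ≤ sSup S := by
        rw [Subgroup.map_le_iff_le_comap]
        refine sSup_le ?_
        rintro _ ⟨h, rfl⟩
        rw [← Subgroup.map_le_iff_le_comap, Subgroup.map_map]
        refine le_sSup ⟨g * h, ?_⟩
        congr 1
        ext x; simp [mul_assoc]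
      exact this ⟨y, hy, rfl⟩
    refine Subgroup.normalClosure_le_normal (fun x hx => ?_)
    have h1 : K.map (MulAut.conj (1 : G)).toMonoidHom ≤ sSup S := le_sSup ⟨1, rfl⟩
    exact h1 ⟨x, hx, by simp⟩
  rcases IsComponent.le_or_commutator_eq_bot_of_normal hK N with h | h
  · exact Or.inr (le_antisymm hle (Subgroup.normalClosure_le_normal h))
  · left
    have hS : ∀ L ∈ S, IsComponent L ∧ L ⊓ Subgroup.centralizer (L : Set G) = ⊥ := by
      rintro _ ⟨g, rfl⟩
      refine ⟨IsComponent.conj hK g, ?_⟩
      rw [Subgroup.eq_bot_iff_forall]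
      rintro _ ⟨⟨k, hk, rfl⟩, hc⟩
      have : k ∈ K ⊓ Subgroup.centralizer (K : Set G) := by
        refine ⟨hk, Subgroup.mem_centralizer_iff.2 fun y hy => (MulAut.conj g).injective ?_⟩
        simp only [map_mul]
        exact Subgroup.mem_centralizer_iff.1 hc _ ⟨y, hy, rfl⟩
      rw [hz] at this
      rw [Subgroup.mem_bot.1 this, map_one]
    have hc : ∀ L ∈ S, ⁅N, L⁆ = ⊥ := by
      rintro _ ⟨g, rfl⟩
      have h' := congrArg (Subgroup.map (MulAut.conj g).toMonoidHom) h
      have hNg : N.map (MulAut.conj g).toMonoidHom = N := by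
        ext y
        rw [Subgroup.mem_map_equiv, MulAut.conj_symm_apply]
        exact ⟨fun h => by simpa [mul_assoc] using hN.conj_mem _ h g, fun h => by simpa using hN.conj_mem _ h g⁻¹⟩
      rw [Subgroup.map_commutator, Subgroup.map_bot, hNg] at h'
      exact commutator_eq_bot_symm h'
    have := sSup_inf_centralizer_eq_bot S hS
    rw [eq_bot_iff, ← this]
    exact le_inf (hle.trans hncl) (le_centralizer_of_commutator_eq_bot (commutator_sSup_eq_bot hc))

/-- Let G be a finite group. (a) If K is a component of G with trivial centre, then the normal closure of K in G is a minimal normal subgroup of G. (b) If the Fitting subgroup of G is trivial, then the layer E(G) is generated by the minimal normal subgroups of G. -/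
theorem result {G : Type*} [Group G] [Finite G] : (∀ K : Subgroup G, Cfsg.IsComponent K → Subgroup.center ↥K = ⊥ → (Subgroup.normalClosure (K : Set G) ≠ ⊥ ∧ ∀ N : Subgroup G, N.Normal → N ≤ Subgroup.normalClosure (K : Set G) → N = ⊥ ∨ N = Subgroup.normalClosure (K : Set G))) ∧ (Cfsg.fittingSubgroup G = ⊥ → sSup {N : Subgroup G | N ≠ ⊥ ∧ N.Normal ∧ ∀ N' : Subgroup G, N'.Normal → N' ≤ N → N' = ⊥ ∨ N' = N} = Cfsg.layer G) := by
  have hzz : ∀ K : Subgroup G, Subgroup.center ↥K = ⊥ → K ⊓ Subgroup.centralizer (K : Set G) = ⊥ := by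
    intro K hK
    rw [Subgroup.eq_bot_iff_forall]
    rintro x ⟨hx, hxc⟩
    have h1 : (⟨x, hx⟩ : K) ∈ Subgroup.center K :=
      Subgroup.mem_center_iff.2 fun y => Subtype.ext (Subgroup.mem_centralizer_iff.1 hxc y y.2)
    rw [hK] at h1
    exact congrArg Subtype.val (Subgroup.mem_bot.1 h1)
  refine ⟨fun K hK hz => normalClosure_minimal hK (hzz K hz), fun hF => le_antisymm ?_ ?_⟩
  · refine sSup_le fun N hN => ?_
    obtain ⟨hNb, hNn, hmin⟩ := hN
    haveI := hNn
    haveI : (Cfsg.layer G).Normal := by
      refine ⟨fun y hy g => ?_⟩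
      exact Cfsg.Agent.Components.map_layer_le (MulAut.conj g) ⟨y, hy, rfl⟩
    rcases hmin (N ⊓ Cfsg.layer G) inferInstance inf_le_left with h | h
    · exfalso
      have hc : ⁅N, Cfsg.layer G⁆ = ⊥ := eq_bot_iff.2 (h ▸ Subgroup.commutator_le_inf N (Cfsg.layer G))
      have hgf : Cfsg.generalizedFittingSubgroup G = Cfsg.layer G := by
        rw [Cfsg.generalizedFittingSubgroup, hF, sup_bot_eq]
      have hle : N ≤ Cfsg.layer G := by
        rw [← hgf]
        refine le_trans ?_ Cfsg.Agent.Components.centralizer_generalizedFittingSubgroup_le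
        rw [hgf]
        exact Cfsg.Agent.Components.le_centralizer_of_commutator_eq_bot hc
      exact hNb (inf_eq_left.2 hle ▸ h)
    · exact inf_eq_left.1 h
  · refine sSup_le fun K hK => ?_
    have hzK : K ⊓ Subgroup.centralizer (K : Set G) = ⊥ := by
      rw [eq_bot_iff, ← hF]
      haveI : IsMulCommutative ↥(K ⊓ Subgroup.centralizer (K : Set G)) :=
        ⟨⟨fun a b => Subtype.ext ((Subgroup.mem_centralizer_iff.1 a.2.2 b b.2.1).symm)⟩⟩
      haveI : Group.IsNilpotent ↥(K ⊓ Subgroup.centralizer (K : Set G)) := by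
        letI : CommGroup ↥(K ⊓ Subgroup.centralizer (K : Set G)) :=
          { (inferInstance : Group ↥(K ⊓ Subgroup.centralizer (K : Set G))) with mul_comm := mul_comm' }
        exact CommGroup.isNilpotent
      exact Cfsg.Agent.Components.le_fittingSubgroup_of_isSubnormal
        (Cfsg.Agent.Components.isSubnormal_of_normalized hK.1 inf_le_left (fun k hk => by
          rw [Subgroup.mem_normalizer_iff]
          intro y
          constructor
          · rintro ⟨hy, hyc⟩
            have := Subgroup.mem_centralizer_iff.1 hyc k hk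
            rw [this, mul_inv_cancel_right]
            exact ⟨hy, hyc⟩
          · rintro ⟨hy, hyc⟩
            have e : k * (k * y * k⁻¹) = k * y * k⁻¹ * k := Subgroup.mem_centralizer_iff.1 hyc k hk
            rw [inv_mul_cancel_right] at e
            rw [mul_left_cancel e] at hy hyc
            exact ⟨hy, hyc⟩))
    obtain ⟨h1, h2⟩ := normalClosure_minimal hK hzK
    exact Subgroup.le_normalClosure.trans (le_sSup ⟨h1, Subgroup.normalClosure_normal, h2⟩)

end Cfsg.Agent.S3747
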