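import Cfsg.Statements.S3748
import Cfsg.Agent.Lib.Components.Fitting
import Cfsg.Agent.Lib.Components.Wielandt

set_option autoImplicit false
open Cfsg

namespace Cfsg.Agent.S3748

/-- Call a proper subgroup M of G primitive when M = N_G(N) for every non-trivial normal subgroup N of M. If M is a primitive subgroup of the finite group G, then no non-trivial subnormal subgroup of G is contained in M; in particular M ∩ F(G) = 1. -/
theorem result {G : Type*} [Group G] [Finite G] (M : Subgroup G) (hM : M ≠ ⊤) (hprim : ∀ N : Subgroup G, N ≤ M → M ≤ Subgroup.normalizer (N : Set G) → N ≠ ⊥ → Subgroup.normalizer (N : Set G) = M) : (∀ L : Subgroup G, L.IsSubnormal → L ≤ M → L = ⊥) ∧ M ⊓ Cfsg.fittingSubgroup G = ⊥ := by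
  have key : ∀ L : Subgroup G, L.IsSubnormal → L ≤ M → L = ⊥ := by
    intro L hL hLM
    by_contra hne
    haveI : Nontrivial G := by
      obtain ⟨x, -, hx⟩ := (Subgroup.bot_or_exists_ne_one L).resolve_left hne
      exact ⟨x, 1, hx⟩
    obtain ⟨N, hN, hNb, -, hmin⟩ := Cfsg.Agent.Components.exists_minimalNormal_le (G := G) (N := ⊤) inferInstance top_ne_bot
    set S : Subgroup G := ⨆ h : M, L.map (MulAut.conj (h : G)).toMonoidHom with hS
    have hSM : S ≤ M := iSup_le fun h => by
      rintro _ ⟨l, hl, rfl⟩
      exact mul_mem (mul_mem h.2 (hLM hl)) (inv_mem h.2)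
    have hLS : L ≤ S := le_iSup_of_le 1 (fun l hl => ⟨l, hl, by simp⟩)
    have hMS : M ≤ Subgroup.normalizer (S : Set G) := by
      rw [Subgroup.le_normalizer_iff]
      intro g hg y hy
      have : S.map (MulAut.conj g).toMonoidHom ≤ S := by
        rw [hS, Subgroup.map_iSup]
        refine iSup_le fun h => le_iSup_of_le (⟨g, hg⟩ * h) (le_of_eq ?_)
        rw [Subgroup.map_map]
        congr 1
        ext x; simp [mul_assoc]
      exact this ⟨y, hy, rfl⟩
    have hNN : N ≤ Subgroup.normalizer (S : Set G) := by
      intro x hx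
      rw [Subgroup.mem_normalizer_iff]
      have hmap : S.map (MulAut.conj x).toMonoidHom = S := by
        rw [hS, Subgroup.map_iSup]
        refine iSup_congr fun h => ?_
        have h1 := Cfsg.Agent.Components.minimalNormal_le_normalizer hN hmin
          (hL.map (f := (MulAut.conj (h : G)).toMonoidHom) (MulAut.conj (h : G)).surjective) hx
        rw [Subgroup.mem_normalizer_iff] at h1
        ext y
        rw [Subgroup.mem_map_equiv, MulAut.conj_symm_apply, h1]
        simp [mul_assoc]
      intro y
      conv_rhs => rw [← hmap, Subgroup.mem_map_equiv]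
      simp [mul_assoc]
    have hSb : S ≠ ⊥ := fun h => hne (eq_bot_iff.2 (h ▸ hLS))
    rw [hprim S hSM hMS hSb] at hNN
    have := hprim N hNN (Subgroup.normalizer_eq_top_iff.2 hN ▸ le_top) hNb
    rw [Subgroup.normalizer_eq_top_iff.2 hN] at this
    exact hM this.symm
  refine ⟨key, key _ ?_ inf_le_left⟩
  haveI := Cfsg.Agent.Components.isNilpotent_iSup_pCore (G := G)
  haveI : Group.IsNilpotent ↥(Cfsg.fittingSubgroup G) := by
    rw [Cfsg.Agent.Components.fittingSubgroup_eq_iSup_pCore]; infer_instance
  exact Cfsg.Agent.Components.isSubnormal_of_le_nilpotent (F := Cfsg.fittingSubgroup G)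
    (Subgroup.sSup_normal _ fun _ h => h.1) inf_le_right

end Cfsg.Agent.S3748
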