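import Cfsg.Statements.S3749
import Cfsg.Agent.Lib.Components.Subnormal
import Cfsg.Agent.Lib.PCore.Basic
import Cfsg.Agent.Lib.Coprime.Sylow

set_option autoImplicit false
open Cfsg

namespace Cfsg.Agent.S3749

/-- Call a proper subgroup M of G primitive when M = N_G(N) for every non-trivial normal subgroup N of M. Let M be a primitive subgroup of the finite group G, p a prime with O_p(M) ≠ 1, and N a normal subgroup of G with M ∩ N = 1. Then p does not divide the order of N; for every prime q there is exactly one Sylow q-subgroup of N normalized by M; and if the order of N has at least two prime divisors then M is not a maximal subgroup of G. -/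
theorem result {G : Type*} [Group G] [Finite G] (M : Subgroup G) (hM : M ≠ ⊤) (hprim : ∀ N : Subgroup G, N ≤ M → M ≤ Subgroup.normalizer (N : Set G) → N ≠ ⊥ → Subgroup.normalizer (N : Set G) = M) {p : ℕ} [Fact p.Prime] (hOp : Cfsg.pCore p ↥M ≠ ⊥) (N : Subgroup G) [N.Normal] (hMN : M ⊓ N = ⊥) : ¬ p ∣ Nat.card N ∧ (∀ q : ℕ, [Fact q.Prime] → ∃! Q : Sylow q ↥N, M ≤ Subgroup.normalizer ((Q : Subgroup ↥N).map N.subtype : Set G)) ∧ ((∃ q r : ℕ, q.Prime ∧ r.Prime ∧ q ≠ r ∧ q ∣ Nat.card N ∧ r ∣ Nat.card N) → ¬ IsCoatom M) := by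
  classical
  set X := (Cfsg.pCore p ↥M).map M.subtype with hX
  have hXM : X ≤ M := Subgroup.map_subtype_le _
  have hXb : X ≠ ⊥ := fun h => hOp ((Subgroup.map_eq_bot_iff_of_injective _ M.subtype_injective).1 h)
  have hMX : M ≤ Subgroup.normalizer (X : Set G) := by
    refine le_trans ?_ ((Cfsg.pCore p ↥M).le_normalizer_map M.subtype)
    rw [Subgroup.normalizer_eq_top_iff.2 inferInstance, ← MonoidHom.range_eq_map, Subgroup.range_subtype]
  have hNX : Subgroup.normalizer (X : Set G) = M := hprim X hXM hMX hXb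
  have hXp : IsPGroup p X := (Cfsg.Agent.PCore.isPGroup_pCore (G := M)).map M.subtype
  have hfix : ∀ n ∈ N, (∀ x ∈ X, x * n = n * x) → n = 1 := by
    intro n hn hc
    have : n ∈ M ⊓ N := ⟨hNX ▸ Subgroup.centralizer_le_normalizer _ (Subgroup.mem_centralizer_iff.2 hc), hn⟩
    rw [hMN] at this
    exact Subgroup.mem_bot.1 this
  letI : MulAction X N :=
    { smul := fun x n => ⟨(x : G) * n * (x : G)⁻¹, ‹N.Normal›.conj_mem n n.2 x⟩
      one_smul := fun n => Subtype.ext (by
        show ((1 : X) : G) * n * ((1 : X) : G)⁻¹ = n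
        simp)
      mul_smul := fun x y n => Subtype.ext (by
        show ((x * y : X) : G) * n * ((x * y : X) : G)⁻¹ = x * (y * n * (y : G)⁻¹) * (x : G)⁻¹
        simp [mul_assoc]) }
  have hp : ¬ p ∣ Nat.card N := by
    intro hd
    have h := hXp.card_modEq_card_fixedPoints N
    have h1 : Nat.card (MulAction.fixedPoints X N) = 1 := by
      rw [Nat.card_eq_one_iff_unique]
      refine ⟨⟨fun a b => Subtype.ext (Subtype.ext ?_)⟩, ⟨⟨1, fun x => Subtype.ext ?_⟩⟩⟩
      · have : ∀ c : MulAction.fixedPoints X N, ((c : N) : G) = 1 := fun c =>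
          hfix _ c.1.2 fun x hx => mul_inv_eq_iff_eq_mul.1 (congrArg Subtype.val (c.2 ⟨x, hx⟩))
        rw [this a, this b]
      · show (x : G) * ((1 : N) : G) * (x : G)⁻¹ = ((1 : N) : G)
        simp
    rw [h1] at h
    have h0 : 0 ≡ 1 [MOD p] := (Nat.modEq_zero_iff_dvd.2 hd).symm.trans h
    have := (Nat.modEq_zero_iff_dvd).1 h0.symm
    exact (Fact.out : p.Prime).one_lt.ne' (Nat.dvd_one.1 this)
  have hcop : (Nat.card X).Coprime (Nat.card N) := by
    obtain ⟨k, hk⟩ := hXp.exists_card_eq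
    rw [hk]
    exact ((Nat.Prime.coprime_iff_not_dvd Fact.out).2 hp).pow_left k
  have hXN : X ≤ Subgroup.normalizer (N : Set G) := (Subgroup.normalizer_eq_top_iff.2 ‹N.Normal›) ▸ le_top
  have hXs : Group.IsSolvable X := by
    haveI := hXp.isNilpotent
    infer_instance
  have huniq : ∀ q : ℕ, [Fact q.Prime] → ∀ P Q : Sylow q N,
      X ≤ Subgroup.normalizer ((P : Subgroup N).map N.subtype : Set G) →
      X ≤ Subgroup.normalizer ((Q : Subgroup N).map N.subtype : Set G) → P = Q := by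
    intro q _ P Q hP hQ
    obtain ⟨c, hc, hcPQ⟩ := Cfsg.Agent.Coprime.exists_centralizer_smul_sylow hXN hcop (Or.inl hXs) P Q hP hQ
    have : c = 1 := Subtype.ext (hfix c c.2 fun x hx => Subgroup.mem_centralizer_iff.1 hc x hx)
    rwa [this, one_smul] at hcPQ
  have hexu : ∀ q : ℕ, [Fact q.Prime] →
      ∃! Q : Sylow q ↥N, M ≤ Subgroup.normalizer ((Q : Subgroup ↥N).map N.subtype : Set G) := by
    intro q _
    obtain ⟨Q, hQ⟩ := Cfsg.Agent.Coprime.exists_invariant_sylow hXN hcop (Or.inl hXs) q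
    refine ⟨Q, fun m hm => ?_, fun P hP => huniq q P Q (hXM.trans hP) hQ⟩
    obtain ⟨k, hk, hka⟩ := Cfsg.Agent.Coprime.exists_mem_conj_sylow_eq Q
      ((Subgroup.normalizer_eq_top_iff.2 ‹N.Normal›).symm ▸ Subgroup.mem_top m)
    have hinv : X ≤ Subgroup.normalizer ((((⟨k, hk⟩ : N) • Q : Sylow q N) : Subgroup N).map N.subtype : Set G) := by
      intro x hx
      rw [Sylow.coe_subgroup_smul, Cfsg.Agent.Coprime.map_conj_smul, N.coe_subtype, hka]
      apply Cfsg.Agent.Coprime.mem_normalizer_of_conj_smul_eq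
      rw [Cfsg.Agent.Coprime.conj_smul_smul]
      have h1 : m⁻¹ * x * m ∈ X := by
        simpa using (Subgroup.mem_normalizer_iff.1 (hMX (inv_mem hm)) x).1 hx
      rw [show x * m = m * (m⁻¹ * x * m) by group, ← Cfsg.Agent.Coprime.conj_smul_smul,
        Cfsg.Agent.Coprime.conj_smul_eq_self_of_mem (hQ h1)]
    have h2 := huniq q _ Q hinv hQ
    apply Cfsg.Agent.Coprime.mem_normalizer_of_conj_smul_eq
    rw [← hka]
    have h3 := congrArg (fun T : Sylow q N => (T : Subgroup N).map N.subtype) h2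
    simpa only [Sylow.coe_subgroup_smul, Cfsg.Agent.Coprime.map_conj_smul, N.coe_subtype] using h3
  refine ⟨hp, hexu, ?_⟩
  rintro ⟨q, r, hq, hr, hqr, hqN, hrN⟩ hM'
  haveI : Fact q.Prime := ⟨hq⟩
  obtain ⟨Q, hQ, -⟩ := hexu q
  set Q' := (Q : Subgroup N).map N.subtype with hQ'
  have hQN : Q' ≤ N := Subgroup.map_subtype_le _
  have hQb : Q' ≠ ⊥ := fun h => Q.ne_bot_of_dvd_card hqN ((Subgroup.map_eq_bot_iff_of_injective _ N.subtype_injective).1 h)
  have hMQ : M < M ⊔ Q' := by
    refine lt_of_le_not_ge le_sup_left fun h => hQb (eq_bot_iff.2 ?_)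
    rw [← hMN]
    exact le_inf (le_sup_right.trans h) hQN
  have htop := hM'.2 _ hMQ
  have h1 := Cfsg.Agent.Coprime.card_sup_of_le_normalizer hQ (eq_bot_iff.2 (hMN ▸ inf_le_inf_left M hQN))
  have h2 := Cfsg.Agent.Coprime.card_sup_of_le_normalizer
    (H := M) (N := N) ((Subgroup.normalizer_eq_top_iff.2 ‹N.Normal›) ▸ le_top) hMN
  have htop' : M ⊔ N = ⊤ := top_unique (htop ▸ sup_le_sup_left hQN M)
  rw [htop] at h1
  rw [htop'] at h2
  have h3 : Nat.card Q' = Nat.card N := Nat.eq_of_mul_eq_mul_left Nat.card_pos (h1.symm.trans h2)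
  obtain ⟨k, hk⟩ := (Q.2.map N.subtype).exists_card_eq
  rw [← h3, hk] at hrN
  exact hqr ((Nat.prime_dvd_prime_iff_eq hr hq).1 (hr.dvd_of_dvd_pow hrN)).symm

end Cfsg.Agent.S3749
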