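import Cfsg.Statements.S3750
import Cfsg.Agent.Lib.Components.Inf
import Cfsg.Agent.Lib.Solvable.Basic
-- import your own Cfsg.Agent.* helpers here

set_option autoImplicit false
open Cfsg

namespace Cfsg.Agent.S3750

open Cfsg.Agent.Components Subgroup
open scoped commutatorElement

/-- Call a proper subgroup M of G primitive when M = N_G(N) for every non-trivial normal subgroup N of M. Let M be a primitive subgroup of the finite group G and N a normal subgroup of G with M ∩ F*(N) ≠ 1. Then F(G) = 1 and F*(N) = F*(G) = E(G); in particular every minimal normal subgroup of G is contained in N. -/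
theorem result {G : Type*} [Group G] [Finite G] (M : Subgroup G) (hM : M ≠ ⊤) (hprim : ∀ N : Subgroup G, N ≤ M → M ≤ Subgroup.normalizer (N : Set G) → N ≠ ⊥ → Subgroup.normalizer (N : Set G) = M) (N : Subgroup G) [N.Normal] (hMF : M ⊓ (Cfsg.generalizedFittingSubgroup ↥N).map N.subtype ≠ ⊥) : Cfsg.fittingSubgroup G = ⊥ ∧ (Cfsg.generalizedFittingSubgroup ↥N).map N.subtype = Cfsg.generalizedFittingSubgroup G ∧ Cfsg.generalizedFittingSubgroup G = Cfsg.layer G ∧ ∀ K : Subgroup G, K.Normal → K ≠ ⊥ → (∀ K' : Subgroup G, K'.Normal → K' ≤ K → K' = ⊥ ∨ K' = K) → K ≤ N := by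
  set X := (Cfsg.generalizedFittingSubgroup ↥N).map N.subtype with hX
  have hXeq : Cfsg.generalizedFittingSubgroup G ⊓ N = X :=
    generalizedFittingSubgroup_inf_of_isSubnormal (inferInstance : N.Normal).isSubnormal
  have hXn : X.Normal := ConjAct.normal_of_characteristic_of_normal
  -- a normal subgroup inside `M` is trivial
  have hcore : ∀ Y : Subgroup G, Y.Normal → Y ≤ M → Y = ⊥ := fun Y hY hle => by
    by_contra hne
    have hn : normalizer (Y : Set G) = ⊤ := normalizer_eq_top Y
    exact hM ((hprim Y hle (le_top.trans_eq hn.symm) hne).symm.trans hn)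
  have hDn : normalizer ((M ⊓ X : Subgroup G) : Set G) = M :=
    hprim _ inf_le_left ((le_inf le_normalizer (le_top.trans_eq (normalizer_eq_top X).symm)).trans
      inf_normalizer_le_normalizer_inf) hMF
  have hCX : centralizer (X : Set G) = ⊥ := hcore _ inferInstance
    (((centralizer_le inf_le_right).trans (centralizer_le_normalizer _)).trans hDn.le)
  have hF : Cfsg.fittingSubgroup G = ⊥ := by
    by_contra hne
    have := (nontrivial_iff_ne_bot _).mpr hne
    have hc : (center ↥(Cfsg.fittingSubgroup G)).map (Cfsg.fittingSubgroup G).subtype ≤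
        centralizer (X : Set G) := by
      refine le_trans ?_ (centralizer_le (hXeq.ge.trans inf_le_left))
      rw [← commutator_eq_bot_iff_le_centralizer]
      refine commutator_sup_eq_bot ?_ ?_
      · exact le_bot_iff.mp ((commutator_mono (map_subtype_le _) le_rfl).trans_eq
          (commutator_eq_bot_symm commutator_layer_fittingSubgroup))
      · rw [commutator_eq_bot_iff_le_centralizer]
        rintro _ ⟨z, hz, rfl⟩
        exact mem_centralizer_iff.mpr fun y hy =>
          congrArg Subtype.val (mem_center_iff.mp hz ⟨y, hy⟩)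
    rw [hCX, le_bot_iff, map_eq_bot_iff_of_injective _ (subtype_injective _)] at hc
    exact Cfsg.Agent.Solvable.inf_center_ne_bot (N := (⊤ : Subgroup (Cfsg.fittingSubgroup G))) top_ne_bot
      (by rw [hc, inf_bot_eq])
  have hEN : Cfsg.layer G ≤ N := sSup_le fun K hK => by
    refine (IsComponent.le_or_commutator_eq_bot_of_normal hK N).resolve_right fun h => ?_
    refine IsComponent.ne_bot hK (le_bot_iff.mp (hCX ▸ ?_))
    exact (le_centralizer_of_commutator_eq_bot h).trans (centralizer_le (hXeq.ge.trans inf_le_right))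
  have hstar : Cfsg.generalizedFittingSubgroup G = Cfsg.layer G := by
    rw [Cfsg.generalizedFittingSubgroup, hF, sup_bot_eq]
  refine ⟨hF, ?_, hstar, fun K hKn hK0 hmin => ?_⟩
  · rw [← hXeq, inf_eq_left.mpr (hstar ▸ hEN)]
  · rcases hmin (K ⊓ N) inferInstance inf_le_left with h | h
    · exfalso
      refine hK0 (le_bot_iff.mp (hCX ▸ ?_))
      refine (le_centralizer_of_commutator_eq_bot (le_bot_iff.mp ?_)).trans
        (centralizer_le (hXeq.ge.trans inf_le_right))
      exact h ▸ commutator_le_inf K N
    · exact inf_eq_left.mp h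

end Cfsg.Agent.S3750
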