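import Cfsg.Statements.S3751
import Cfsg.Agent.Lib.Components.Subnormal
import Cfsg.Agent.Lib.Components.Fitting
import Cfsg.Agent.Lib.PCore.Basic
import Cfsg.Agent.S5752
-- import your own Cfsg.Agent.* helpers here

set_option autoImplicit false
open Cfsg

namespace Cfsg.Agent.S3751

open Cfsg.Agent.Components Subgroup
open scoped commutatorElement

open Cfsg.Agent.S5752 (cp isPGroup_cp le_cp le_normalizer_cp)

variable {G : Type*} [Group G] [Finite G] {p : ℕ} [Fact p.Prime]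

/-- A maximal `p`-local subgroup. -/
def MaxLoc (p : ℕ) (M : Subgroup G) : Prop :=
  (∃ T : Subgroup G, IsPGroup p T ∧ T ≠ ⊥ ∧ M = normalizer (T : Set G)) ∧
    ∀ L : Subgroup G, (∃ T : Subgroup G, IsPGroup p T ∧ T ≠ ⊥ ∧ L = normalizer (T : Set G)) →
      M ≤ L → L = M

omit [Fact p.Prime] in
theorem exists_maxLoc {T : Subgroup G} (hT : IsPGroup p T) (h0 : T ≠ ⊥) :
    ∃ M : Subgroup G, MaxLoc p M ∧ normalizer (T : Set G) ≤ M := by
  obtain ⟨M, hM⟩ := Set.Finite.exists_maximal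
    (s := {L : Subgroup G | (∃ T' : Subgroup G, IsPGroup p T' ∧ T' ≠ ⊥ ∧
      L = normalizer (T' : Set G)) ∧ normalizer (T : Set G) ≤ L}) (Set.toFinite _)
    ⟨_, ⟨T, hT, h0, rfl⟩, le_rfl⟩
  exact ⟨M, ⟨hM.1.1, fun L hL hle => le_antisymm (hM.2 ⟨hL, hM.1.2.trans hle⟩ hle) hle⟩, hM.1.2⟩

theorem normalizer_le_normalizer_cp (H : Subgroup G) :
    normalizer (H : Set G) ≤ normalizer (cp p H : Set G) := by
  have : (Cfsg.pCore p H).Characteristic := characteristic_iff_map_le.mpr fun e =>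
    Cfsg.Agent.PCore.map_pCore_le e.toMonoidHom e.surjective
  exact normalizer_le_normalizer_map_of_characteristic H _

variable {M M₁ M₂ : Subgroup G}

theorem MaxLoc.cent (hloc : Cfsg.IsOfLocalCharacteristic p G) (h : MaxLoc p M) :
    centralizer (Cfsg.pCore p M : Set M) ≤ Cfsg.pCore p M := by
  obtain ⟨T, hT, h0, rfl⟩ := h.1
  exact hloc.2 T hT h0

theorem MaxLoc.cp_ne_bot (h : MaxLoc p M) : cp p M ≠ ⊥ := by
  obtain ⟨T, hT, h0, rfl⟩ := h.1
  exact fun e => h0 (le_bot_iff.mp (e ▸ le_cp le_normalizer hT normal_in_normalizer.isSubnormal))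

theorem MaxLoc.normalizer_cp (h : MaxLoc p M) : normalizer (cp p M : Set G) = M :=
  h.2 _ ⟨_, isPGroup_cp p M, h.cp_ne_bot, rfl⟩ (le_normalizer_cp p M)

theorem MaxLoc.normalizer_le (h : MaxLoc p M) : normalizer (M : Set G) ≤ M :=
  (normalizer_le_normalizer_cp M).trans h.normalizer_cp.le

theorem MaxLoc.conj (h : MaxLoc p M) (g : G) : MaxLoc p (M.map (MulAut.conj g).toMonoidHom) := by
  have hmap : ∀ (T : Subgroup G) (e : G ≃* G),
      (normalizer (T : Set G)).map e.toMonoidHom = normalizer (T.map e.toMonoidHom : Set G) :=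
    fun T e => map_equiv_normalizer_eq T e
  refine ⟨?_, fun L hL hle => ?_⟩
  · obtain ⟨T, hT, h0, rfl⟩ := h.1
    exact ⟨T.map (MulAut.conj g).toMonoidHom, hT.map _,
      fun e => h0 ((map_eq_bot_iff_of_injective _ (MulAut.conj g).injective).mp e), hmap T _⟩
  · obtain ⟨T, hT, h0, rfl⟩ := hL
    have h1 := h.2 ((normalizer (T : Set G)).map (MulAut.conj g).symm.toMonoidHom)
      ⟨T.map (MulAut.conj g).symm.toMonoidHom, hT.map _,
        fun e => h0 ((map_eq_bot_iff_of_injective _ (MulAut.conj g).symm.injective).mp e), hmap T _⟩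
      (fun m hm => ⟨g * m * g⁻¹, hle ⟨m, hm, rfl⟩, by simp [mul_assoc]⟩)
    rw [← h1, map_map]
    convert (Subgroup.map_id _).symm
    ext x
    simp [mul_assoc]

theorem MaxLoc.prim (hloc : Cfsg.IsOfLocalCharacteristic p G) (h : MaxLoc p M) {A : Subgroup G}
    (h0 : A ≠ ⊥) (hA : A ≤ M) (hn : M ≤ normalizer (A : Set G)) :
    normalizer (A : Set G) = M := by
  have hne : cp p A ≠ ⊥ := by
    intro e
    set A' := A.subgroupOf M with hA'
    have : A'.Normal := normal_subgroupOf_of_le_normalizer hn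
    have hW : A' ⊓ Cfsg.pCore p M = ⊥ := by
      have hle : (A' ⊓ Cfsg.pCore p M).map M.subtype ≤ cp p A := by
        refine le_cp ((map_mono inf_le_left).trans (map_comap_le _ _))
          (((isPGroup_pCore' p).to_le inf_le_right).map _) (Normal.isSubnormal ?_)
        have := pCore_normal' (G := M) p
        exact normal_subgroupOf_of_le_normalizer (hA.trans (Cfsg.Agent.S5752.le_normalizer_map M _))
      rw [e, le_bot_iff, map_eq_bot_iff_of_injective _ M.subtype_injective] at hle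
      exact hle
    have := pCore_normal' (G := M) p
    have hc : A' ≤ Cfsg.pCore p M := by
      refine le_trans ?_ (h.cent hloc)
      rw [← commutator_eq_bot_iff_le_centralizer, eq_bot_iff, ← hW]
      exact commutator_le_inf _ _
    rw [inf_eq_left.mpr hc, hA', subgroupOf_eq_bot, disjoint_comm] at hW
    exact h0 (le_bot_iff.mp (hW.le_bot.trans' (le_inf hA le_rfl)))
  exact le_antisymm ((normalizer_le_normalizer_cp A).trans
    (h.2 _ ⟨_, isPGroup_cp p A, hne, rfl⟩ (hn.trans (normalizer_le_normalizer_cp A))).le) hn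

/-- The conclusion about primitive pairs. -/
def HasPair (p : ℕ) (G : Type*) [Group G] : Prop :=
  ∃ M₁ M₂ : Subgroup G, M₁ ≠ M₂ ∧ (∀ A : Subgroup G, A ≠ ⊥ → A ≤ M₁ ⊓ M₂ → (M₁ ≤ Subgroup.normalizer (A : Set G) → M₂ ⊓ Subgroup.normalizer (A : Set G) = M₁ ⊓ M₂) ∧ (M₂ ≤ Subgroup.normalizer (A : Set G) → M₁ ⊓ Subgroup.normalizer (A : Set G) = M₁ ⊓ M₂)) ∧ Subgroup.centralizer (Cfsg.pCore p ↥M₁ : Set ↥M₁) ≤ Cfsg.pCore p ↥M₁ ∧ Subgroup.centralizer (Cfsg.pCore p ↥M₂ : Set ↥M₂) ≤ Cfsg.pCore p ↥M₂ ∧ (Cfsg.pCore p ↥M₁).map M₁.subtype ⊔ (Cfsg.pCore p ↥M₂).map M₂.subtype ≤ M₁ ⊓ M₂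

theorem hasPair_of (hloc : Cfsg.IsOfLocalCharacteristic p G) (h1 : MaxLoc p M₁) (h2 : MaxLoc p M₂)
    (hne : M₁ ≠ M₂) (ha : cp p M₁ ≤ M₂) (hb : cp p M₂ ≤ M₁) : HasPair p G := by
  refine ⟨M₁, M₂, hne, fun A h0 hA => ⟨fun hn => ?_, fun hn => ?_⟩, h1.cent hloc, h2.cent hloc,
    sup_le (le_inf (map_subtype_le _) ha) (le_inf hb (map_subtype_le _))⟩
  · rw [h1.prim hloc h0 (hA.trans inf_le_left) hn, inf_comm]
  · rw [h2.prim hloc h0 (hA.trans inf_le_right) hn]

theorem hasPair_of_maximal (hloc : Cfsg.IsOfLocalCharacteristic p G) (h1 : MaxLoc p M₁)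
    (h2 : MaxLoc p M₂) (hne : M₁ ≠ M₂) {T : Subgroup G} (hT : IsPGroup p T) (hT1 : T ≤ M₁)
    (hT2 : T ≤ M₂) (hsyl : ∀ U : Subgroup G, IsPGroup p U → T ≤ U → U ≤ M₂ → U = T)
    : HasPair p G := by
  have hQ : ∀ {M : Subgroup G}, T ≤ M → (∀ U : Subgroup G, IsPGroup p U → T ≤ U → U ≤ M → U = T) →
      cp p M ≤ T := fun {M} hTM hs => (hs (cp p M ⊔ T)
        ((isPGroup_cp p M).to_sup_of_normal_left' hT (hTM.trans (le_normalizer_cp p M))) le_sup_right
        (sup_le (map_subtype_le _) hTM)).symm ▸ le_sup_left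
  by_cases hs1 : ∀ U : Subgroup G, IsPGroup p U → T ≤ U → U ≤ M₁ → U = T
  · exact hasPair_of hloc h1 h2 hne ((hQ hT1 hs1).trans hT2) ((hQ hT2 hsyl).trans hT1)
  push Not at hs1
  obtain ⟨U, hU, hTU, -, hne'⟩ := hs1
  have := hU.isNilpotent
  have hlt : T.subgroupOf U < ⊤ := lt_top_iff_ne_top.mpr fun e =>
    hne' (le_antisymm (subgroupOf_eq_top.mp e) hTU)
  obtain ⟨n, hn, hnT⟩ := SetLike.exists_of_lt (Group.normalizerCondition_of_isNilpotent _ hlt)
  have hnT' : (n : G) ∈ normalizer (T : Set G) := by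
    rw [mem_normalizer_iff]
    intro x
    by_cases hxU : x ∈ U
    · simpa [mem_subgroupOf] using mem_normalizer_iff.mp hn ⟨x, hxU⟩
    · refine iff_of_false (fun hx => hxU (hTU hx)) (fun hx => hxU ?_)
      simpa [mul_assoc] using mul_mem (mul_mem (inv_mem n.2) (hTU hx)) n.2
  have hn2 : (n : G) ∉ M₂ := fun h => hnT (mem_subgroupOf.mpr
    ((hsyl (T ⊔ zpowers (n : G)) (hU.to_le (sup_le hTU (zpowers_le.mpr n.2))) le_sup_left
      (sup_le hT2 (zpowers_le.mpr h))).le (mem_sup_right (mem_zpowers _))))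
  set c := (MulAut.conj (n : G)).toMonoidHom with hc
  have hTc : T.map c = T := by
    ext x
    constructor
    · rintro ⟨t, ht, rfl⟩
      exact (mem_normalizer_iff.mp hnT' t).mp ht
    · intro hx
      exact ⟨(n : G)⁻¹ * x * n, by simpa using (mem_normalizer_iff.mp (inv_mem hnT') x).mp hx,
        by simp [hc, mul_assoc]⟩
  have hTM : T ≤ M₂.map c := hTc ▸ map_mono hT2
  have hsyl' : ∀ U : Subgroup G, IsPGroup p U → T ≤ U → U ≤ M₂.map c → U = T := by
    intro V hV hTV hVM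
    have h1 := hsyl (V.map (MulAut.conj (n : G)).symm.toMonoidHom) (hV.map _)
      (fun t ht => ⟨(n : G) * t * (n : G)⁻¹, hTV ((mem_normalizer_iff.mp hnT' t).mp ht),
        by simp [mul_assoc]⟩)
      (fun x hx => by
        obtain ⟨v, hv, rfl⟩ := hx
        obtain ⟨m, hm, rfl⟩ := hVM hv
        simpa [hc, mul_assoc] using hm)
    refine le_antisymm (fun v hv => ?_) hTV
    have : (n : G)⁻¹ * v * n ∈ T := h1 ▸ ⟨v, hv, by simp [mul_assoc]⟩
    simpa [mul_assoc] using (mem_normalizer_iff.mp hnT' _).mp this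
  have hne2 : M₂ ≠ M₂.map c := by
    intro e
    refine hn2 (h2.normalizer_le ?_)
    rw [mem_normalizer_iff]
    intro x
    constructor
    · intro hx
      rw [e]
      exact ⟨x, hx, rfl⟩
    · intro hx
      rw [e] at hx
      obtain ⟨y, hy, hyx⟩ := hx
      rw [hc, MulEquiv.coe_toMonoidHom, MulAut.conj_apply, mul_left_inj, mul_right_inj] at hyx
      exact hyx ▸ hy
  exact hasPair_of hloc h2 (h2.conj _) hne2 ((hQ hT2 hsyl).trans hTM) ((hQ hTM hsyl').trans hT2)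

/-- Two distinct subgroups M₁, M₂ of G form a primitive pair when, for {i, j} = {1, 2}, every non-trivial normal subgroup A of M_i contained in M₁ ∩ M₂ satisfies N_{M_j}(A) = M₁ ∩ M₂; the pair has characteristic p when moreover C_{M_i}(O_p(M_i)) ≤ O_p(M_i) for both i and O_p(M₁)O_p(M₂) ≤ M₁ ∩ M₂. Let G be a finite group, p a prime dividing its order, with O_p(G) = 1 and every p-local subgroup of characteristic p. Then either G has a primitive pair of characteristic p, or every maximal p-local subgroup M of G is strongly p-embedded in G: M is a proper subgroup, p divides its order, and for every g ∉ M the order of M ∩ gMg⁻¹ is prime to p. -/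
theorem result {G : Type*} [Group G] [Finite G] {p : ℕ} [Fact p.Prime] (hloc : Cfsg.IsOfLocalCharacteristic p G) (hOp : Cfsg.pCore p G = ⊥) : (∃ M₁ M₂ : Subgroup G, M₁ ≠ M₂ ∧ (∀ A : Subgroup G, A ≠ ⊥ → A ≤ M₁ ⊓ M₂ → (M₁ ≤ Subgroup.normalizer (A : Set G) → M₂ ⊓ Subgroup.normalizer (A : Set G) = M₁ ⊓ M₂) ∧ (M₂ ≤ Subgroup.normalizer (A : Set G) → M₁ ⊓ Subgroup.normalizer (A : Set G) = M₁ ⊓ M₂)) ∧ Subgroup.centralizer (Cfsg.pCore p ↥M₁ : Set ↥M₁) ≤ Cfsg.pCore p ↥M₁ ∧ Subgroup.centralizer (Cfsg.pCore p ↥M₂ : Set ↥M₂) ≤ Cfsg.pCore p ↥M₂ ∧ (Cfsg.pCore p ↥M₁).map M₁.subtype ⊔ (Cfsg.pCore p ↥M₂).map M₂.subtype ≤ M₁ ⊓ M₂) ∨ (∀ M : Subgroup G, (∃ T : Subgroup G, IsPGroup p T ∧ T ≠ ⊥ ∧ M = Subgroup.normalizer (T : Set G)) → (∀ L : Subgroup G, (∃ T : Subgroup G, IsPGroup p T ∧ T ≠ ⊥ ∧ L = Subgroup.normalizer (T : Set G)) → M ≤ L → L = M) → M ≠ ⊤ ∧ p ∣ Nat.card M ∧ ∀ g : G, g ∉ M → ¬ p ∣ Nat.card ↥(M ⊓ M.map (MulAut.conj g).toMonoidHom))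 := by
  refine or_iff_not_imp_left.mpr fun hno M hM1 hM2 => ?_
  have hM : MaxLoc p M := ⟨hM1, hM2⟩
  refine ⟨fun htop => ?_, ?_, fun g hg hd => hno ?_⟩
  · have hn : (Cfsg.Agent.S5752.cp p M).Normal :=
      normalizer_eq_top_iff.mp (hM.normalizer_cp.trans htop)
    exact hM.cp_ne_bot (le_bot_iff.mp
      (hOp ▸ le_sSup ⟨hn, Cfsg.Agent.S5752.isPGroup_cp p M⟩))
  · obtain ⟨k, hk⟩ := (Cfsg.Agent.S5752.isPGroup_cp p M).exists_card_eq
    have hk0 : k ≠ 0 := fun h => hM.cp_ne_bot (card_eq_one.mp (by rw [hk, h, pow_zero]))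
    exact (dvd_pow_self p hk0).trans (hk ▸ card_dvd_of_le (map_subtype_le _))
  have hne : M ≠ M.map (MulAut.conj g).toMonoidHom := by
    intro e
    refine hg (hM.normalizer_le ?_)
    rw [mem_normalizer_iff]
    intro x
    constructor
    · intro hx
      rw [e]
      exact ⟨x, hx, rfl⟩
    · intro hx
      rw [e] at hx
      obtain ⟨y, hy, hyx⟩ := hx
      rw [MulEquiv.coe_toMonoidHom, MulAut.conj_apply, mul_left_inj, mul_right_inj] at hyx
      exact hyx ▸ hy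
  obtain ⟨x, hx⟩ := exists_prime_orderOf_dvd_card' p hd
  obtain ⟨T, hT⟩ := Set.Finite.exists_maximal
    (s := {T : Subgroup G | IsPGroup p T ∧ T ≠ ⊥ ∧ ∃ A B : Subgroup G,
      MaxLoc p A ∧ MaxLoc p B ∧ A ≠ B ∧ T ≤ A ∧ T ≤ B}) (Set.toFinite _)
    ⟨zpowers (x : G), IsPGroup.of_card (n := 1) (by
        rw [Nat.card_zpowers, Subgroup.orderOf_coe, hx, pow_one]),
      fun e => by
        rw [zpowers_eq_bot, OneMemClass.coe_eq_one] at e
        rw [e, orderOf_one] at hx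
        exact (Fact.out : p.Prime).one_lt.ne hx,
      M, _, hM, hM.conj g, hne, zpowers_le.mpr x.2.1, zpowers_le.mpr x.2.2⟩
  obtain ⟨hTp, hT0, A, B, hA, hB, hAB, hTA, hTB⟩ := hT.1
  obtain ⟨C, hC, hNC⟩ := exists_maxLoc hTp hT0
  -- in a local other than `C`, `T` is a maximal `p`-subgroup
  have key : ∀ {L : Subgroup G}, MaxLoc p L → L ≠ C → T ≤ L →
      ∀ U : Subgroup G, IsPGroup p U → T ≤ U → U ≤ L → U = T := by
    intro L hL hLC hTL U hU hTU hUL
    by_contra hne'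
    have := hU.isNilpotent
    have hlt : T.subgroupOf U < ⊤ := lt_top_iff_ne_top.mpr fun e =>
      hne' (le_antisymm (subgroupOf_eq_top.mp e) hTU)
    obtain ⟨n, hn, hnT⟩ := SetLike.exists_of_lt (Group.normalizerCondition_of_isNilpotent _ hlt)
    have hnT' : (n : G) ∈ normalizer (T : Set G) := by
      rw [mem_normalizer_iff]
      intro x
      by_cases hxU : x ∈ U
      · simpa [mem_subgroupOf] using mem_normalizer_iff.mp hn ⟨x, hxU⟩
      · refine iff_of_false (fun hx => hxU (hTU hx)) (fun hx => hxU ?_)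
        simpa [mul_assoc] using mul_mem (mul_mem (inv_mem n.2) (hTU hx)) n.2
    have hlt2 : T ⊔ zpowers (n : G) ≤ T := hT.2
      ⟨hU.to_le (sup_le hTU (zpowers_le.mpr n.2)),
        fun e => hT0 (le_bot_iff.mp (e ▸ le_sup_left)),
        L, C, hL, hC, hLC, sup_le hTL (zpowers_le.mpr (hUL n.2)),
        sup_le (le_normalizer.trans hNC) (zpowers_le.mpr (hNC hnT'))⟩ le_sup_left
    exact hnT (mem_subgroupOf.mpr (hlt2 (mem_sup_right (mem_zpowers _))))
  by_cases hBC : B = C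
  · exact hasPair_of_maximal hloc hB hA hAB.symm hTp hTB hTA (key hA (hBC ▸ hAB) hTA)
  · exact hasPair_of_maximal hloc hA hB hAB hTp hTA hTB (key hB hBC hTB)

end Cfsg.Agent.S3751
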