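import Cfsg.Statements.S3752
import Cfsg.Agent.Lib.Components.GenFitting
import Cfsg.Agent.Lib.PCore.Basic
import Mathlib.Tactic.Group

set_option autoImplicit false
open Cfsg

namespace Cfsg.Agent.S3752

open Subgroup Cfsg.Agent.Components

variable {G : Type*} [Group G]

/-- image of `O_p(X)` in the ambient group -/
def coreP (p : ℕ) (X : Subgroup G) : Subgroup G := (pCore p X).map X.subtype

/-- image of `O_{p'}(X) ∩ F(X)` in the ambient group -/
def coreR (p : ℕ) (X : Subgroup G) : Subgroup G :=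
  (pPrimeCore p X ⊓ fittingSubgroup X).map X.subtype

/-- image of `F*(X)` -/
def starOf (X : Subgroup G) : Subgroup G := (generalizedFittingSubgroup X).map X.subtype

theorem le_normalizer_map (X : Subgroup G) (C : Subgroup X) [C.Normal] :
    X ≤ normalizer ((C.map X.subtype : Subgroup G) : Set G) := by
  refine le_trans ?_ (C.le_normalizer_map X.subtype)
  rw [normalizer_eq_top, ← MonoidHom.range_eq_map, range_subtype]

theorem commute_of_inf {A R : Subgroup G} (hd : A ⊓ R = ⊥)
    (hA : R ≤ normalizer (A : Set G)) (hR : A ≤ normalizer (R : Set G)) {a r : G}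
    (ha : a ∈ A) (hr : r ∈ R) : Commute a r := by
  have h1 : a * r * a⁻¹ * r⁻¹ ∈ A ⊓ R := ⟨by
    rw [SetLike.mem_coe, mul_assoc a r, mul_assoc a]
    exact mul_mem ha (by
      simpa [mul_assoc] using (mem_normalizer_iff.mp (hA hr) a⁻¹).mp (A.inv_mem ha)), mul_mem
    ((mem_normalizer_iff.mp (hR ha) r).mp hr) (R.inv_mem hr)⟩
  rw [hd, mem_bot, mul_inv_eq_one, mul_inv_eq_iff_eq_mul] at h1
  exact h1

variable [Finite G]

theorem isPGroup_coreP (p : ℕ) (X : Subgroup G) : IsPGroup p (coreP p X) :=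
  (Cfsg.Agent.PCore.isPGroup_pCore).map _

theorem coprime_coreR (p : ℕ) (X : Subgroup G) : (Nat.card (coreR p X)).Coprime p :=
  (Cfsg.Agent.PCore.coprime_card_pPrimeCore (G := X)).coprime_dvd_left
    ((card_map_dvd _ _).trans (card_dvd_of_le inf_le_left))

/-- hypotheses on a pair of maximal subgroups -/
structure Pair (M N : Subgroup G) : Prop where
  prim : ∀ A : Subgroup G, A ≠ ⊥ → A ≤ M ⊓ N →
    (M ≤ normalizer (A : Set G) → N ⊓ normalizer (A : Set G) = M ⊓ N) ∧
    (N ≤ normalizer (A : Set G) → M ⊓ normalizer (A : Set G) = M ⊓ N)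
  hne : M ≠ N
  h1 : starOf M ≤ N
  h2 : starOf N ≤ M

theorem Pair.symm {M N : Subgroup G} (h : Pair M N) : Pair N M :=
  ⟨fun A h0 hA => ⟨fun hn => (((h.prim A h0 (hA.trans (inf_comm _ _).le)).2 hn).trans (inf_comm _ _)),
    fun hn => (((h.prim A h0 (hA.trans (inf_comm _ _).le)).1 hn).trans (inf_comm _ _))⟩, h.hne.symm, h.h2, h.h1⟩

omit [Finite G] in
theorem Pair.eq_bot_of_normalized {M N : Subgroup G} (h : Pair M N) {X : Subgroup G}
    (hX : X ≤ M ⊓ N) (hM : M ≤ normalizer (X : Set G)) (hN : N ≤ normalizer (X : Set G)) :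
    X = ⊥ := by
  by_contra hne
  have h1 := (h.prim X hne hX).1 hM
  have h2 := (h.prim X hne hX).2 hN
  rw [inf_eq_left.mpr hN] at h1
  rw [inf_eq_left.mpr hM] at h2
  exact h.hne (h2.trans h1.symm)

omit [Finite G] in
theorem Pair.mem_of_mem_normalizer {M N : Subgroup G} (h : Pair M N) {A : Subgroup G}
    (h0 : A ≠ ⊥) (hA : A ≤ M ⊓ N) (hn : M ≤ normalizer (A : Set G)) {c : G} (hc : c ∈ N)
    (hc' : c ∈ normalizer (A : Set G)) : c ∈ M := by
  have := (h.prim A h0 hA).1 hn
  have hc2 : c ∈ N ⊓ normalizer (A : Set G) := ⟨hc, hc'⟩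
  rw [this] at hc2
  exact hc2.1

theorem Pair.ne_bot {M N : Subgroup G} (h : Pair M N) : N ≠ ⊥ := by
  intro hb
  by_cases hM : M = ⊥
  · exact h.hne (hM.trans hb.symm)
  · have := (nontrivial_iff_ne_bot M).mpr hM
    exact generalizedFittingSubgroup_ne_bot (G := M)
      ((map_eq_bot_iff_of_injective _ M.subtype_injective).mp (le_bot_iff.mp (hb ▸ h.h1)))

theorem Pair.component {M N : Subgroup G} (h : Pair M N) (K : Subgroup M) (hK : IsComponent K) :
    K.map M.subtype ≤ (layer N).map N.subtype := by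
  set K' := K.map M.subtype with hK'
  have hKD : K' ≤ M ⊓ N := le_inf (map_subtype_le K) ((map_mono
    ((IsComponent.le_layer hK).trans layer_le_generalizedFittingSubgroup)).trans h.h1)
  -- components of `M` and of `N` are components of the intersection
  have tr : ∀ (X : Subgroup G), M ⊓ N ≤ X → ∀ L : Subgroup X, IsComponent L →
      L.map X.subtype ≤ M ⊓ N → IsComponent ((L.map X.subtype).subgroupOf (M ⊓ N)) := by
    intro X hX L hL hLD
    have hle : L ≤ (M ⊓ N).subgroupOf X := map_le_iff_le_comap.mp hLD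
    have h2 := IsComponent.map_equiv (IsComponent.subgroupOf_of_le hL hle) (subgroupOfEquivOfLe hX)
    convert h2 using 1
    ext y
    simp only [mem_subgroupOf, Subgroup.mem_map, MulEquiv.coe_toMonoidHom]
    constructor
    · rintro ⟨z, hz, hzy⟩
      exact ⟨⟨z, by rw [mem_subgroupOf]; simpa [← hzy] using y.2⟩, hz,
        Subtype.ext (by simpa using hzy)⟩
    · rintro ⟨z, hz, hzy⟩
      exact ⟨z, hz, by rw [← hzy]; rfl⟩
  by_contra hnot
  have hK1 := tr M inf_le_left K hK hKD
  have hKN : ∀ L : Subgroup N, IsComponent L → ⁅K', L.map N.subtype⁆ = ⊥ := by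
    intro L hL
    have hLD : L.map N.subtype ≤ M ⊓ N := le_inf ((map_mono
      ((IsComponent.le_layer hL).trans layer_le_generalizedFittingSubgroup)).trans h.h2)
      (map_subtype_le L)
    have hne : K'.subgroupOf (M ⊓ N) ≠ (L.map N.subtype).subgroupOf (M ⊓ N) := by
      intro he
      apply hnot
      have := congrArg (Subgroup.map (M ⊓ N).subtype) he
      rw [map_subgroupOf_eq_of_le hKD, map_subgroupOf_eq_of_le hLD] at this
      exact this.le.trans (map_mono (IsComponent.le_layer hL))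
    have := congrArg (Subgroup.map (M ⊓ N).subtype)
      (IsComponent.commutator_eq_bot hK1 (tr N inf_le_right L hL hLD) hne)
    rwa [map_commutator, Subgroup.map_bot, map_subgroupOf_eq_of_le hKD,
      map_subgroupOf_eq_of_le hLD] at this
  set F := (fittingSubgroup N).map N.subtype with hF
  have hFD : F ≤ M ⊓ N := le_inf
    ((map_mono fittingSubgroup_le_generalizedFittingSubgroup).trans h.h2) (map_subtype_le _)
  have : Group.IsNilpotent F := (Group.isNilpotent_congr
    ((fittingSubgroup N).equivMapOfInjective _ N.subtype_injective)).mp inferInstance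
  have : Group.IsSolvable (F.subgroupOf (M ⊓ N)) := Group.isSolvable_of_isSolvable_injective
    (f := (subgroupOfEquivOfLe hFD).toMonoidHom) (subgroupOfEquivOfLe hFD).injective
  have hFn : (F.subgroupOf (M ⊓ N)).Normal :=
    normal_subgroupOf_of_le_normalizer (inf_le_right.trans (le_normalizer_map N _))
  have hKF : ⁅K', F⁆ = ⊥ := by
    have := congrArg (Subgroup.map (M ⊓ N).subtype)
      (IsComponent.commutator_eq_bot_of_isSolvable hK1 hFn.isSubnormal)
    rwa [map_commutator, Subgroup.map_bot, map_subgroupOf_eq_of_le hKD,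
      map_subgroupOf_eq_of_le hFD] at this
  have hKS : ⁅K', starOf N⁆ = ⊥ := by
    rw [starOf, generalizedFittingSubgroup, Subgroup.map_sup]
    refine commutator_sup_eq_bot ?_ hKF
    rw [layer, sSup_eq_iSup', Subgroup.map_iSup]
    exact commutator_sSup_eq_bot (by rintro _ ⟨L, rfl⟩; exact hKN L L.2)
  have hle : K' ≤ starOf N := by
    intro x hx
    refine ⟨⟨x, (hKD hx).2⟩, centralizer_generalizedFittingSubgroup_le
      (mem_centralizer_iff.mpr fun y hy => Subtype.ext ?_), rfl⟩
    exact mem_centralizer_iff.mp (commutator_eq_bot_iff_le_centralizer.mp hKS hx) y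
      ⟨y, hy, rfl⟩
  refine IsQuasisimple.ne_bot (IsQuasisimple.map_injective hK.2 M.subtype_injective) (eq_bot_iff.mpr ?_)
  rw [← IsQuasisimple.commutator_self (IsQuasisimple.map_injective hK.2 M.subtype_injective),
    ← hKS]
  exact commutator_mono le_rfl hle

theorem Pair.layer_eq_bot {M N : Subgroup G} (h : Pair M N) : layer M = ⊥ := by
  have hle : ∀ {M N : Subgroup G}, Pair M N →
      (layer M).map M.subtype ≤ (layer N).map N.subtype := by
    intro M N h
    rw [layer, map_le_iff_le_comap]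
    exact sSup_le fun K hK => map_le_iff_le_comap.mp (h.component K hK)
  have he := le_antisymm (hle h) (hle h.symm)
  exact (map_eq_bot_iff_of_injective _ M.subtype_injective).mp (h.eq_bot_of_normalized
    (le_inf (map_subtype_le _) (he ▸ map_subtype_le _)) (le_normalizer_map M _)
    (he ▸ le_normalizer_map N _))

theorem Pair.star_eq {M N : Subgroup G} (h : Pair M N) :
    starOf M = (fittingSubgroup M).map M.subtype := by
  rw [starOf, generalizedFittingSubgroup, h.layer_eq_bot, bot_sup_eq]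

theorem Pair.centralizer_le {M N : Subgroup G} (h : Pair M N) {x : G}
    (hx : x ∈ M) (hc : ∀ y ∈ starOf M, y * x = x * y) : x ∈ starOf M :=
  ⟨⟨x, hx⟩, centralizer_generalizedFittingSubgroup_le
    (mem_centralizer_iff.mpr fun y hy => Subtype.ext (hc y ⟨y, hy, rfl⟩)), rfl⟩

variable {p : ℕ} [hp : Fact p.Prime]

theorem Pair.star_le_sup {M N : Subgroup G} (h : Pair M N) :
    starOf M ≤ coreP p M ⊔ coreR p M := by
  rw [h.star_eq, fittingSubgroup_eq_iSup_pCore, Subgroup.map_iSup]
  refine iSup_le fun ⟨q, hq⟩ => ?_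
  have hq' := Nat.prime_of_mem_primeFactors hq
  by_cases hqp : q = p
  · exact hqp ▸ le_sup_left
  · refine le_trans (map_mono (le_inf ?_ (pCore_le_fittingSubgroup hq'))) le_sup_right
    refine Cfsg.Agent.PCore.le_pPrimeCore ?_
    have : Fact q.Prime := ⟨hq'⟩
    obtain ⟨k, hk⟩ := (Cfsg.Agent.PCore.isPGroup_pCore (p := q) (G := M)).exists_card_eq
    rw [hk]; exact ((Nat.coprime_primes hq' hp.out).mpr hqp).pow_left k

theorem Pair.coreP_le {M N : Subgroup G} (h : Pair M N) : coreP p M ≤ M ⊓ N :=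
  le_inf (map_subtype_le _) ((map_mono ((pCore_le_fittingSubgroup hp.out).trans
    fittingSubgroup_le_generalizedFittingSubgroup)).trans h.h1)

theorem Pair.coreR_le {M N : Subgroup G} (h : Pair M N) : coreR p M ≤ M ⊓ N :=
  le_inf (map_subtype_le _) ((map_mono (inf_le_right.trans
    fittingSubgroup_le_generalizedFittingSubgroup)).trans h.h1)

theorem Pair.commute_A_R {M N : Subgroup G} (h : Pair M N) {a r : G} (ha : a ∈ coreP p M)
    (hr : r ∈ coreR p N) : Commute a r :=
  commute_of_inf (Cfsg.Agent.PCore.disjoint_of_isPGroup_of_coprime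
      (isPGroup_coreP p M) (coprime_coreR p N)).eq_bot
    ((h.symm.coreR_le.trans inf_le_right).trans (le_normalizer_map M _))
    ((h.coreP_le.trans inf_le_right).trans (le_normalizer_map N _)) ha hr

theorem Pair.coreP_ne_bot {M N : Subgroup G} (h : Pair M N)
    (hB : coreP p N ≠ ⊥) : coreP p M ≠ ⊥ := by
  intro hA
  refine hB (eq_bot_iff.mpr fun b hb => ?_)
  have hR : starOf M ≤ coreR p M := by
    have := h.star_le_sup (p := p)
    rwa [hA, bot_sup_eq] at this
  have hbM : b ∈ starOf M := h.centralizer_le (h.symm.coreP_le hb).2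
    fun y hy => (h.symm.commute_A_R hb (hR hy)).eq.symm
  exact (Cfsg.Agent.PCore.disjoint_of_isPGroup_of_coprime
      (isPGroup_coreP p N) (coprime_coreR p M)).le_bot ⟨hb, hR hbM⟩

theorem Pair.key {M N : Subgroup G} (h : Pair M N) {c a : G} (hcN : c ∈ N)
    (hcB : ∀ b ∈ coreP p N, b * c = c * b) (hco : (orderOf c).Coprime p)
    (ha : a ∈ coreP p M) : Commute c a := by
  have haN : a ∈ N := (h.coreP_le ha).2
  set z := c * a * c⁻¹ * a⁻¹ with hz
  have hzN : z ∈ N := mul_mem (mul_mem (mul_mem hcN haN) (inv_mem hcN)) (inv_mem haN)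
  have hB : ∀ b ∈ coreP p N, Commute (c * a * c⁻¹ * a⁻¹) b := by
    intro b hb
    have hn := fun x : G => fun hx : x ∈ N =>
      mem_normalizer_iff.mp (le_normalizer_map N (pCore p N) hx)
    have h1 : a⁻¹ * b * a⁻¹⁻¹ ∈ coreP p N := (hn _ (inv_mem haN) b).mp hb
    rw [inv_inv] at h1
    have h2 := hcB _ h1
    have h3 := hcB b hb
    refine (mul_inv_eq_iff_eq_mul (a := c * a * c⁻¹ * a⁻¹ * b)).mp ?_
    calc c * a * c⁻¹ * a⁻¹ * b * (c * a * c⁻¹ * a⁻¹)⁻¹
        = c * a * c⁻¹ * ((a⁻¹ * b * a) * c) * a⁻¹ * c⁻¹ := by group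
      _ = c * b * c⁻¹ := by rw [h2]; group
      _ = b := by rw [← h3, mul_inv_cancel_right]
  have hR : ∀ r ∈ coreR p N, Commute (c * a * c⁻¹ * a⁻¹) r := by
    intro r hr
    refine Commute.mul_left ?_ (h.commute_A_R ha hr).inv_left
    have h1 : c⁻¹ * r * c⁻¹⁻¹ ∈ coreR p N :=
      (mem_normalizer_iff.mp (le_normalizer_map N _ (inv_mem hcN)) r).mp hr
    rw [inv_inv] at h1
    have h2 := (h.commute_A_R ha h1).eq
    refine (mul_inv_eq_iff_eq_mul (a := c * a * c⁻¹ * r)).mp ?_
    calc c * a * c⁻¹ * r * (c * a * c⁻¹)⁻¹ = c * (a * (c⁻¹ * r * c)) * a⁻¹ * c⁻¹ := by group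
      _ = r := by rw [h2]; group
  have hzS : z ∈ coreP p N ⊔ coreR p N := by
    refine h.symm.star_le_sup (h.symm.centralizer_le hzN fun y hy => ?_)
    have hle : coreP p N ⊔ coreR p N ≤ centralizer {z} := sup_le
      (fun b hb => mem_centralizer_singleton_iff.mpr (hB b hb).eq.symm)
      (fun b hb => mem_centralizer_singleton_iff.mpr (hR b hb).eq.symm)
    exact mem_centralizer_singleton_iff.mp (hle (h.symm.star_le_sup hy))
  rw [← SetLike.mem_coe, coe_mul_of_left_le_normalizer_right (coreP p N) (coreR p N)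
    ((map_subtype_le _).trans (le_normalizer_map N _))] at hzS
  obtain ⟨b, hb, r, hr, hbr⟩ := hzS
  replace hbr : b * r = z := hbr
  have hbr' : Commute b r := commute_of_inf (Cfsg.Agent.PCore.disjoint_of_isPGroup_of_coprime
    (isPGroup_coreP p N) (coprime_coreR p N)).eq_bot
    ((map_subtype_le _).trans (le_normalizer_map N _))
    ((map_subtype_le _).trans (le_normalizer_map N _)) hb hr
  have har : Commute a r := h.commute_A_R ha hr
  have heq : c * a * c⁻¹ = b * a * r := by
    calc c * a * c⁻¹ = z * a := by rw [hz]; group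
      _ = b * (r * a) := by rw [← hbr, mul_assoc]
      _ = b * a * r := by rw [← har.eq, mul_assoc]
  have hp' : IsPGroup p ↥(coreP p N ⊔ coreP p M) :=
    (isPGroup_coreP p N).to_sup_of_normal_left' (isPGroup_coreP p M)
      ((h.coreP_le.trans inf_le_right).trans (le_normalizer_map N _))
  obtain ⟨n, hn⟩ := hp' ⟨b * a, mul_mem (mem_sup_left hb) (mem_sup_right ha)⟩
  obtain ⟨m, hm⟩ := isPGroup_coreP p M ⟨a, ha⟩
  have hn' : (b * a) ^ p ^ n = 1 := congrArg Subtype.val hn
  have hm' : a ^ p ^ m = 1 := congrArg Subtype.val hm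
  have hrn : r ^ p ^ (n + m) = 1 := by
    have e := congrArg (· ^ p ^ (n + m)) heq
    simp only [conj_pow, (hbr'.mul_left har).mul_pow] at e
    rw [pow_add, pow_mul (b * a), hn', one_pow, one_mul, mul_comm, pow_mul a, hm', one_pow,
      mul_one, mul_inv_cancel, mul_comm] at e
    rw [pow_add]; exact e.symm
  have hr1 : r = 1 := by
    rw [← orderOf_eq_one_iff]
    refine Nat.eq_one_of_dvd_coprimes ((coprime_coreR p N).pow_right (n + m)) ?_
      (orderOf_dvd_of_pow_eq_one hrn)
    have := orderOf_dvd_natCard (⟨r, hr⟩ : coreR p N)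
    rwa [Subgroup.orderOf_mk] at this
  rw [hr1, mul_one] at heq
  have hk : ∀ k : ℕ, c ^ k * a * (c ^ k)⁻¹ = b ^ k * a := by
    intro k
    induction k with
    | zero => simp
    | succ k ih =>
      have hcb : Commute c (b ^ k) := (show Commute c b from (hcB b hb).symm).pow_right k
      calc c ^ (k + 1) * a * (c ^ (k + 1))⁻¹ = c * (c ^ k * a * (c ^ k)⁻¹) * c⁻¹ := by
            rw [pow_succ']; group
        _ = (c * b ^ k) * a * c⁻¹ := by rw [ih]; group
        _ = b ^ k * (c * a * c⁻¹) := by rw [hcb.eq]; group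
        _ = b ^ (k + 1) * a := by rw [heq, pow_succ, mul_assoc]
  have hb1 := hk (orderOf c)
  rw [pow_orderOf_eq_one, one_mul, inv_one, mul_one] at hb1
  replace hb1 : b ^ orderOf c = 1 := mul_eq_right.mp hb1.symm
  obtain ⟨l, hl⟩ := isPGroup_coreP p N ⟨b, hb⟩
  have hl' : b ^ p ^ l = 1 := congrArg Subtype.val hl
  have : b = 1 := orderOf_eq_one_iff.mp (Nat.eq_one_of_dvd_coprimes (hco.pow_right l)
    (orderOf_dvd_of_pow_eq_one hb1) (orderOf_dvd_of_pow_eq_one hl'))
  rw [this, one_mul] at heq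
  exact mul_inv_eq_iff_eq_mul.mp heq

theorem Pair.coreR_eq_bot {M N : Subgroup G} (h : Pair M N)
    (hB : coreP p N ≠ ⊥) : coreR p N = ⊥ := by
  have hA := h.coreP_ne_bot hB
  let S : Subgroup G → Set G := fun X =>
    {c | c ∈ X ∧ c ∈ centralizer (coreP p X : Set G) ∧ (orderOf c).Coprime p}
  have hsub : ∀ {M N : Subgroup G}, Pair M N → coreP p M ≠ ⊥ → S N ⊆ S M := by
    rintro M N h h0 c ⟨hcN, hcB, hco⟩
    have hcA : c ∈ centralizer (coreP p M : Set G) := mem_centralizer_iff.mpr fun a ha =>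
      (h.key hcN (mem_centralizer_iff.mp hcB) hco ha).eq.symm
    exact ⟨h.mem_of_mem_normalizer h0 h.coreP_le (le_normalizer_map M _) hcN
      (centralizer_le_normalizer _ hcA), hcA, hco⟩
  have hS : S N = S M := Set.Subset.antisymm (hsub h hA) (hsub h.symm hB)
  have hnorm : ∀ X : Subgroup G, X ≤ normalizer (closure (S X) : Set G) := by
    intro X
    have aux : ∀ x ∈ X, ∀ y ∈ closure (S X), x * y * x⁻¹ ∈ closure (S X) := by
      intro x hx y hy
      induction hy using closure_induction with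
      | mem y hy =>
        refine subset_closure ⟨mul_mem (mul_mem hx hy.1) (inv_mem hx), ?_, ?_⟩
        · rw [mem_centralizer_iff]
          intro b hb
          have h1 : x⁻¹ * b * x⁻¹⁻¹ ∈ coreP p X :=
            (mem_normalizer_iff.mp (le_normalizer_map X _ (inv_mem hx)) b).mp hb
          rw [inv_inv] at h1
          have h2 := mem_centralizer_iff.mp hy.2.1 _ h1
          calc b * (x * y * x⁻¹) = x * ((x⁻¹ * b * x) * y) * x⁻¹ := by group
            _ = x * (y * (x⁻¹ * b * x)) * x⁻¹ := by rw [h2]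
            _ = _ := by group
        · rw [← MulAut.conj_apply, MulEquiv.orderOf_eq]; exact hy.2.2
      | one => simp
      | mul y w _ _ h1 h2 => simpa [mul_assoc] using mul_mem h1 h2
      | inv y _ h1 => simpa [mul_assoc] using inv_mem h1
    exact fun x hx => mem_normalizer_iff.mpr fun y => ⟨aux x hx y, fun hy => by
      simpa [mul_assoc] using aux x⁻¹ (inv_mem hx) _ hy⟩
  have hbot := h.symm.eq_bot_of_normalized
    ((closure_le (K := N ⊓ M)).mpr fun c hc => ⟨hc.1, (hS ▸ hc : c ∈ S M).1⟩) (hnorm N)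
    (hS ▸ hnorm M)
  refine eq_bot_iff.mpr fun r hr => hbot ▸ subset_closure ⟨(h.symm.coreR_le hr).1, ?_, ?_⟩
  · exact mem_centralizer_iff.mpr fun b hb => (commute_of_inf
      (Cfsg.Agent.PCore.disjoint_of_isPGroup_of_coprime
        (isPGroup_coreP p N) (coprime_coreR p N)).eq_bot
      ((map_subtype_le _).trans (le_normalizer_map N _))
      ((map_subtype_le _).trans (le_normalizer_map N _)) hb hr).eq
  · have := orderOf_dvd_natCard (⟨r, hr⟩ : coreR p N)
    rw [Subgroup.orderOf_mk] at this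
    exact (coprime_coreR p N).coprime_dvd_left this

omit hp in
theorem Pair.exists_isPGroup {M N : Subgroup G}
    (h : Pair M N) : ∃ p : ℕ, p.Prime ∧ IsPGroup p (starOf N) := by
  have hNb : N ≠ ⊥ := h.ne_bot
  have := (nontrivial_iff_ne_bot N).mpr hNb
  have hne := generalizedFittingSubgroup_ne_bot (G := N)
  rw [generalizedFittingSubgroup, h.symm.layer_eq_bot, bot_sup_eq,
    fittingSubgroup_eq_iSup_pCore] at hne
  obtain ⟨⟨p, hp⟩, hB⟩ : ∃ q : (Nat.card N).primeFactors, pCore (q : ℕ) N ≠ ⊥ := by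
    by_contra hc
    push Not at hc
    exact hne (iSup_eq_bot.mpr hc)
  have := Fact.mk (Nat.prime_of_mem_primeFactors hp)
  have hB' : coreP p N ≠ ⊥ := fun e => hB ((map_eq_bot_iff_of_injective _ N.subtype_injective).mp e)
  refine ⟨p, Fact.out, IsPGroup.to_le (isPGroup_coreP p N) ?_⟩
  have := h.symm.star_le_sup (p := p)
  rwa [h.coreR_eq_bot hB', sup_bot_eq] at this

omit hp in
theorem Pair.main {M N : Subgroup G} (h : Pair M N) :
    ∃ p : ℕ, p.Prime ∧ IsPGroup p (starOf M) ∧ IsPGroup p (starOf N) := by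
  obtain ⟨p, hp, hM⟩ := h.symm.exists_isPGroup
  obtain ⟨r, hr, hN⟩ := h.exists_isPGroup
  by_cases hpr : p = r
  · exact ⟨p, hp, hM, hpr ▸ hN⟩
  exfalso
  have := Fact.mk hr
  have := Fact.mk hp
  obtain ⟨k, hk⟩ := hM.exists_card_eq
  obtain ⟨l, hl⟩ := hN.exists_card_eq
  have hd : starOf M ⊓ starOf N = ⊥ := (IsPGroup.disjoint_of_ne _ _ hpr _ _ hM hN).eq_bot
  have hNM : starOf N ≤ starOf M := fun x hx => h.centralizer_le (h.h2 hx) fun y hy =>
    (commute_of_inf hd (h.h2.trans (le_normalizer_map M _)) (h.h1.trans (le_normalizer_map N _))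
      hy hx).eq
  rw [inf_eq_right.mpr hNM] at hd
  have hNb : N ≠ ⊥ := h.ne_bot
  have := (nontrivial_iff_ne_bot N).mpr hNb
  exact generalizedFittingSubgroup_ne_bot (G := N)
    ((map_eq_bot_iff_of_injective _ N.subtype_injective).mp hd)


/-- Bender's Theorem on primitive pairs. Two distinct subgroups M₁, M₂ of G form a primitive pair when, for {i, j} = {1, 2}, every non-trivial normal subgroup A of M_i contained in M₁ ∩ M₂ satisfies N_{M_j}(A) = M₁ ∩ M₂; the pair has characteristic p when moreover C_{M_i}(O_p(M_i)) ≤ O_p(M_i) for both i and O_p(M₁)O_p(M₂) ≤ M₁ ∩ M₂. If (M₁, M₂) is a primitive pair of the finite group G with F*(M₁) ≤ M₂ and F*(M₂) ≤ M₁, then for some prime p the pair has characteristic p. -/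
theorem result {G : Type*} [Group G] [Finite G] (M₁ M₂ : Subgroup G) (hne : M₁ ≠ M₂) (hP : ∀ A : Subgroup G, A ≠ ⊥ → A ≤ M₁ ⊓ M₂ → (M₁ ≤ Subgroup.normalizer (A : Set G) → M₂ ⊓ Subgroup.normalizer (A : Set G) = M₁ ⊓ M₂) ∧ (M₂ ≤ Subgroup.normalizer (A : Set G) → M₁ ⊓ Subgroup.normalizer (A : Set G) = M₁ ⊓ M₂)) (h₁ : (Cfsg.generalizedFittingSubgroup ↥M₁).map M₁.subtype ≤ M₂) (h₂ : (Cfsg.generalizedFittingSubgroup ↥M₂).map M₂.subtype ≤ M₁) : ∃ p : ℕ, p.Prime ∧ Subgroup.centralizer (Cfsg.pCore p ↥M₁ : Set ↥M₁) ≤ Cfsg.pCore p ↥M₁ ∧ Subgroup.centralizer (Cfsg.pCore p ↥M₂ : Set ↥M₂) ≤ Cfsg.pCore p ↥M₂ ∧ (Cfsg.pCore p ↥M₁).map M₁.subtype ⊔ (Cfsg.pCore p ↥M₂).map M₂.subtype ≤ M₁ ⊓ M₂ := by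
  have h : Pair M₁ M₂ := ⟨hP, hne, h₁, h₂⟩
  obtain ⟨p, hp, hA, hB⟩ := Pair.main h
  have := Fact.mk hp
  refine ⟨p, hp, ?_, ?_, sup_le h.coreP_le (h.symm.coreP_le.trans (inf_comm _ _).le)⟩
  all_goals
    refine le_trans (Subgroup.centralizer_le (SetLike.coe_subset_coe.mpr ?_)) (le_trans
      centralizer_generalizedFittingSubgroup_le ?_)
  all_goals
    rw [Cfsg.pCore]
    refine le_sSup (Set.mem_setOf.mpr ⟨generalizedFittingSubgroup_normal _, ?_⟩)
    first
    | exact hA.of_equiv
        ((Cfsg.generalizedFittingSubgroup ↥M₁).equivMapOfInjective _ M₁.subtype_injective).symm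
    | exact hB.of_equiv
        ((Cfsg.generalizedFittingSubgroup ↥M₂).equivMapOfInjective _ M₂.subtype_injective).symm

end Cfsg.Agent.S3752
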