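import Cfsg.Statements.S3753
import Cfsg.Agent.Lib.OddOrder.PuigStable
-- import your own Cfsg.Agent.* helpers here

set_option autoImplicit false
open Cfsg

namespace Cfsg.Agent.S3753

open Cfsg.Agent Subgroup
open scoped commutatorElement

open Cfsg.Agent.PuigPair Cfsg.Agent.OddOrder

universe u

/-- For `p = 2`: with abelian Sylow 2-subgroups, 2-elements of a 2-constrained group lie in `O_2`. -/
theorem mem_opIn_two {G : Type u} [Group G] [Finite G] {M : Subgroup G}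
    (hab : ∀ T : Sylow 2 M, IsMulCommutative (T : Subgroup M))
    (hc : centralizer (pCore 2 M : Set M) ≤ pCore 2 M) {x : G} (hx : x ∈ M) {k : ℕ}
    (hk : x ^ 2 ^ k = 1) : x ∈ opIn 2 M := by
  have : Fact (Nat.Prime 2) := ⟨Nat.prime_two⟩
  have hz : IsPGroup 2 (zpowers (⟨x, hx⟩ : M)) := by
    obtain ⟨i, -, hi⟩ := (Nat.dvd_prime_pow Nat.prime_two).1
      (orderOf_dvd_of_pow_eq_one (show (⟨x, hx⟩ : M) ^ 2 ^ k = 1 from Subtype.ext hk))
    exact IsPGroup.of_card (by rw [Nat.card_zpowers, hi])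
  obtain ⟨T, hT⟩ := hz.exists_le_sylow
  refine ⟨⟨x, hx⟩, hc (mem_centralizer_iff.2 fun q hq => ?_), rfl⟩
  exact PGroup.mul_comm_of_isMulCommutative (hab T) (PCore.pCore_le_sylow T hq)
    (hT (mem_zpowers _))

/-- Two distinct subgroups M₁, M₂ of G form a primitive pair when, for {i, j} = {1, 2}, every non-trivial normal subgroup A of M_i contained in M₁ ∩ M₂ satisfies N_{M_j}(A) = M₁ ∩ M₂; the pair has characteristic p when moreover C_{M_i}(O_p(M_i)) ≤ O_p(M_i) for both i and O_p(M₁)O_p(M₂) ≤ M₁ ∩ M₂. If the finite group G has a primitive pair (M₁, M₂) of characteristic p for some prime p, then M₁ or M₂ has non-abelian Sylow 2-subgroups. In particular no group of odd order has a primitive pair of characteristic p. -/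
theorem result {G : Type*} [Group G] [Finite G] {p : ℕ} [Fact p.Prime] (M₁ M₂ : Subgroup G) (hne : M₁ ≠ M₂) (hP : ∀ A : Subgroup G, A ≠ ⊥ → A ≤ M₁ ⊓ M₂ → (M₁ ≤ Subgroup.normalizer (A : Set G) → M₂ ⊓ Subgroup.normalizer (A : Set G) = M₁ ⊓ M₂) ∧ (M₂ ≤ Subgroup.normalizer (A : Set G) → M₁ ⊓ Subgroup.normalizer (A : Set G) = M₁ ⊓ M₂)) (hc₁ : Subgroup.centralizer (Cfsg.pCore p ↥M₁ : Set ↥M₁) ≤ Cfsg.pCore p ↥M₁) (hc₂ : Subgroup.centralizer (Cfsg.pCore p ↥M₂ : Set ↥M₂) ≤ Cfsg.pCore p ↥M₂) (hO : (Cfsg.pCore p ↥M₁).map M₁.subtype ⊔ (Cfsg.pCore p ↥M₂).map M₂.subtype ≤ M₁ ⊓ M₂) : (∃ S : Sylow 2 ↥M₁, ¬ IsMulCommutative (S : Subgroup ↥M₁)) ∨ (∃ S : Sylow 2 ↥M₂, ¬ IsMulCommutative (S : Subgroup ↥M₂)) := by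
  by_contra hcon
  simp only [not_or, not_exists, not_not] at hcon
  obtain ⟨hab1, hab2⟩ := hcon
  have hc1 := inf_centralizer_opIn_le hc₁
  have hc2 := inf_centralizer_opIn_le hc₂
  have hQ : opIn p M₁ ⊔ opIn p M₂ ≤ M₁ ⊓ M₂ := hO
  rw [sup_le_iff] at hQ
  obtain ⟨hQ1, hQ2⟩ := hQ
  -- neither member is trivial
  have hbot : ∀ {A B : Subgroup G}, A = ⊥ → opIn p B ≤ A → (B ⊓ centralizer (opIn p B : Set G)
      ≤ opIn p B) → B = ⊥ := by
    intro A B hA hBA hc
    refine le_bot_iff.1 (fun x hx => ?_)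
    have h1 : x ∈ opIn p B := hc ⟨hx, mem_centralizer_iff.2 fun q hq => by
      rw [Subgroup.mem_bot.1 (hA.le (hBA hq)), one_mul, mul_one]⟩
    exact hA.le (hBA h1)
  have hne1 : M₁ ≠ ⊥ := fun e => hne (e.trans (hbot e (hQ2.trans inf_le_left) hc2).symm)
  have hne2 : M₂ ≠ ⊥ := fun e => hne ((hbot e (hQ1.trans inf_le_right) hc1).trans e.symm)
  set D := M₁ ⊓ M₂ with hD
  set P := opIn p D
  have hQP1 : opIn p M₁ ≤ P := le_opIn hQ1 (inf_le_left.trans (le_normalizer_opIn M₁)) (isPGroup_opIn M₁)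
  have hQP2 : opIn p M₂ ≤ P := le_opIn hQ2 (inf_le_right.trans (le_normalizer_opIn M₂)) (isPGroup_opIn M₂)
  -- a common nontrivial normal subgroup gives equality
  have hend : ∀ A : Subgroup G, A ≠ ⊥ → A ≤ D → M₁ ≤ normalizer (A : Set G) →
      M₂ ≤ normalizer (A : Set G) → False := by
    intro A h1 h2 h3 h4
    have e1 := (hP A h1 h2).1 h3
    have e2 := (hP A h1 h2).2 h4
    rw [inf_eq_left.2 h4] at e1
    rw [inf_eq_left.2 h3] at e2
    exact hne (e2.trans e1.symm)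
  by_cases hp2 : p = 2
  · subst hp2
    have key : ∀ {A B : Subgroup G}, (∀ T : Sylow 2 B, IsMulCommutative (T : Subgroup B)) →
        (centralizer (pCore 2 B : Set B) ≤ pCore 2 B) → opIn 2 A ≤ B → opIn 2 A ≤ opIn 2 B := by
      intro A B hab hc hAB x hx
      obtain ⟨k, hk⟩ := isPGroup_opIn A ⟨x, hx⟩
      exact mem_opIn_two hab hc (hAB hx) (congrArg Subtype.val hk)
    have heq : opIn 2 M₁ = opIn 2 M₂ := le_antisymm (key hab2 hc₂ (hQ1.trans inf_le_right))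
      (key hab1 hc₁ (hQ2.trans inf_le_left))
    refine hend (opIn 2 M₁) (fun e => hne1 (hbot e le_rfl hc1)) hQ1 (le_normalizer_opIn M₁) ?_
    rw [heq]
    exact le_normalizer_opIn M₂
  · have stab : ∀ M : Subgroup G, (∀ T : Sylow 2 M, IsMulCommutative (T : Subgroup M)) → Stab p M :=
      fun M hab W _ hW => isPStableOn_of_elementary (fun N _ V _ hV =>
        Quadratic.isPStableOn_of_abelian_sylow_two hp2
          (fun T => Quadratic.isMulCommutative_sylow_two_quotient hab N T) V hV) W hW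
    obtain ⟨e2, hPne⟩ := puigOf_opIn_eq (Ma := M₁) (Mb := M₂) (P := P) (stab _ hab1) (stab _ hab2)
      hc1 hc2 hne1 (fun A h1 h2 => (hP A h1 h2).1) (isPGroup_opIn D) (opIn_le D)
      (le_normalizer_opIn D) hQP1 hQP2
    obtain ⟨e1, -⟩ := puigOf_opIn_eq (Ma := M₂) (Mb := M₁) (P := P) (stab _ hab2) (stab _ hab1)
      hc2 hc1 hne2 (fun A h1 h2 h3 => by
        rw [inf_comm M₂ M₁] at h2 ⊢
        exact (hP A h1 h2).2 h3)
      (isPGroup_opIn D) ((opIn_le D).trans (inf_comm M₁ M₂).le)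
      ((inf_comm M₂ M₁).le.trans (le_normalizer_opIn D)) hQP2 hQP1
    refine hend (puigOf P) hPne ((puigOf_le P).trans (opIn_le D)) ?_ ?_
    · rw [← e1]
      exact (le_normalizer_opIn M₁).trans (normalizer_le_normalizer_puigOf _)
    · rw [← e2]
      exact (le_normalizer_opIn M₂).trans (normalizer_le_normalizer_puigOf _)

end Cfsg.Agent.S3753
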