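import Cfsg.Statements.S3754
import Cfsg.Agent.Lib.Components.PAction
import Cfsg.Agent.Lib.Components.PComponents
import Cfsg.Agent.Lib.Coprime.Generation
import Cfsg.Agent.Lib.PCore.PSolvable
import Cfsg.Agent.Lib.PCore.HallHigman
import Cfsg.Agent.Lib.PGroup.Frattini
import Cfsg.Agent.Lib.Transfer.Residual
import Cfsg.Agent.S5752
-- import your own Cfsg.Agent.* helpers here

set_option autoImplicit false
open Cfsg

namespace Cfsg.Agent.S3754

open Cfsg.Agent.Components Subgroup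
open scoped commutatorElement

open Cfsg.Agent.S5752 (cp isPGroup_cp le_cp le_normalizer_cp)

variable {M : Type*} [Group M] [Finite M] {p : ℕ} [Fact p.Prime]

/-- Dual Hall–Higman: `C(O_{p'}) ≤ O_{p'}` when `O_p = 1`. -/
theorem centralizer_pPrimeCore_le (hs : Cfsg.IsPSolvable p M) (h : Cfsg.pCore p M = ⊥) :
    centralizer (Cfsg.pPrimeCore p M : Set M) ≤ Cfsg.pPrimeCore p M := by
  have hp : p.Prime := Fact.out
  have := Cfsg.Agent.PCore.pPrimeCore_normal (G := M) (p := p)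
  set C := centralizer (Cfsg.pPrimeCore p M : Set M) with hC
  set O := Cfsg.pPrimeCore p C with hO
  have hCn : C.Normal := inferInstance
  have hOle : O.map C.subtype ≤ Cfsg.pPrimeCore p M :=
    map_subtype_pPrimeCore_le_of_isSubnormal hCn.isSubnormal
  have hOc : O ≤ center C := fun z hz => mem_center_iff.mpr fun y => Subtype.ext
    (mem_centralizer_iff.mp y.2 z (hOle (mem_map_of_mem _ hz))).symm
  have hOn : O.Normal := Cfsg.Agent.PCore.pPrimeCore_normal
  have hpC : Cfsg.pCore p C = ⊥ := Cfsg.Agent.PCore.pCore_eq_bot_of_normal C h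
  suffices htop : O = ⊤ by
    intro x hx
    exact hOle ⟨⟨x, hx⟩, htop ▸ mem_top _, rfl⟩
  by_contra hne
  have : Nontrivial (C ⧸ O) := QuotientGroup.nontrivial_iff.mpr hne
  have hCs : Cfsg.IsPSolvable p C := Cfsg.Agent.PCore.isPSolvable_subgroup hs C
  rcases Cfsg.Agent.PCore.pCore_ne_bot_or_pPrimeCore_ne_bot
    (Cfsg.Agent.PCore.isPSolvable_quotient hCs O) with h1 | h1
  swap
  · exact h1 Cfsg.Agent.PCore.pPrimeCore_quotient_self_eq_bot
  apply h1
  set π := QuotientGroup.mk' O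
  set W := (Cfsg.pCore p (C ⧸ O)).comap π with hW
  have hWn : W.Normal := (pCore_normal' p).comap π
  let f : W →* Cfsg.pCore p (C ⧸ O) := π.subgroupComap _
  have : Group.IsNilpotent (Cfsg.pCore p (C ⧸ O)) := (isPGroup_pCore' p).isNilpotent
  have hnil : Group.IsNilpotent W := by
    refine Subgroup.isNilpotent_of_ker_le_center f fun w hw => ?_
    have hwO : (w : C) ∈ O := (QuotientGroup.eq_one_iff _).mp
      (congrArg Subtype.val (MonoidHom.mem_ker.mp hw))
    exact mem_center_iff.mpr fun y => Subtype.ext (mem_center_iff.mp (hOc hwO) y)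
  have hWO : W ≤ O := by
    refine (le_fittingSubgroup hWn).trans ?_
    rw [fittingSubgroup_eq_iSup_pCore]
    refine iSup_le fun q => ?_
    have := Fact.mk (Nat.prime_of_mem_primeFactors q.2)
    by_cases hq : (q : ℕ) = p
    · rw [hq, hpC]; exact bot_le
    · exact Cfsg.Agent.PCore.pCore_le_pPrimeCore hq
  rw [eq_bot_iff, ← map_comap_eq_self_of_surjective (QuotientGroup.mk'_surjective O)
    (Cfsg.pCore p (C ⧸ O))]
  exact (map_mono hWO).trans_eq (QuotientGroup.map_mk'_self O)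

omit [Finite M] in
theorem coprime_of_dvd_pow {g : M} (hg : (orderOf g).Coprime p) {k : ℕ} (h : g ^ p ^ k = 1) :
    g = 1 :=
  orderOf_eq_one_iff.mp (Nat.eq_one_of_dvd_coprimes (hg.pow_right k) dvd_rfl
    (orderOf_dvd_of_pow_eq_one h))

/-- A `p'`-element of `K A` lies in `K`, for a `p`-group `A` normalising `K`. -/
theorem mem_of_coprime {K A : Subgroup M} (hn : A ≤ normalizer (K : Set M)) (hA : IsPGroup p A)
    {g : M} (hg : g ∈ K ⊔ A) (hc : (orderOf g).Coprime p) : g ∈ K := by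
  set H := K ⊔ A
  have : (K.subgroupOf H).Normal := normal_subgroupOf_of_le_normalizer (sup_le le_normalizer hn)
  let π := QuotientGroup.mk' (K.subgroupOf H)
  have hmap : (⊤ : Subgroup H).map π = (A.subgroupOf H).map π := by
    rw [← subgroupOf_self H, show H.subgroupOf H = K.subgroupOf H ⊔ A.subgroupOf H from
      subgroupOf_sup le_sup_left le_sup_right, Subgroup.map_sup, QuotientGroup.map_mk'_self,
      bot_sup_eq]
  have hAp : IsPGroup p ((A.subgroupOf H).map π) :=
    (hA.of_equiv (subgroupOfEquivOfLe le_sup_right).symm).map π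
  obtain ⟨k, hk⟩ := hAp ⟨π ⟨g, hg⟩, hmap ▸ mem_map_of_mem π (mem_top _)⟩
  have h1 : π ⟨g, hg⟩ = 1 := by
    refine orderOf_eq_one_iff.mp (Nat.eq_one_of_dvd_coprimes (hc.pow_right k) ?_
      (orderOf_dvd_of_pow_eq_one (congrArg Subtype.val hk)))
    exact (orderOf_map_dvd π _).trans (dvd_of_eq (Subgroup.orderOf_mk _ _))
  exact mem_subgroupOf.mp ((QuotientGroup.eq_one_iff _).mp h1)

/-- The subgroup generated by the `p'`-elements. -/
theorem mem_res {L : Subgroup M} {g : M} (hg : g ∈ L) (hc : (orderOf g).Coprime p) :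
    g ∈ (Cfsg.pResidual p L).map L.subtype := by
  refine ⟨⟨g, hg⟩, ?_, rfl⟩
  rw [Cfsg.Agent.Transfer.pResidual_eq_residual]
  exact Cfsg.Agent.Transfer.mem_residual_of_coprime (by rwa [Subgroup.orderOf_mk])

theorem res_le {L K : Subgroup M} (h : ∀ g ∈ L, (orderOf g).Coprime p → g ∈ K) :
    (Cfsg.pResidual p L).map L.subtype ≤ K := by
  rw [map_le_iff_le_comap, Cfsg.Agent.Transfer.pResidual_eq_residual]
  refine (closure_le _).mpr fun g hg => ?_
  exact h g g.2 (by rw [Subgroup.orderOf_coe]; exact hg)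

/-- Let M be a finite p-soluble group and A a p-subgroup of M with Φ(A) ≤ O_p(M) but A ≰ O_p(M). Then there is x ∈ O_{p,p'}(M) such that L = ⟨A, xAx⁻¹⟩ satisfies: x ∈ O^p(L) and O^p(L) ≤ O_{p,p'}(M); [O^p(L), A] = O^p(L); A ∩ O_p(L) has index p in A; and [A ∩ O_p(L), L] ≤ O_p(M). Here O^p(L) is the subgroup generated by the p'-elements of L and O_{p,p'}(M) the preimage of O_{p'}(M/O_p(M)). -/
theorem result {M : Type*} [Group M] [Finite M] {p : ℕ} [Fact p.Prime] (hM : Cfsg.IsPSolvable p M) (A : Subgroup M) (hA : IsPGroup p A) (hΦ : (frattini ↥A).map A.subtype ≤ Cfsg.pCore p M) (hnot : ¬ A ≤ Cfsg.pCore p M) : ∃ x ∈ (Cfsg.pPrimeCore p (M ⧸ Cfsg.pCore p M)).comap (QuotientGroup.mk' (Cfsg.pCore p M)), x ∈ (Cfsg.pResidual p ↥(A ⊔ A.map (MulAut.conj x).toMonoidHom)).map (A ⊔ A.map (MulAut.conj x).toMonoidHom).subtype ∧ (Cfsg.pResidual p ↥(A ⊔ A.map (MulAut.conj x).toMonoidHom)).map (A ⊔ A.map (MulAut.conj x).toMonoidHom).subtype ≤ (Cfsg.pPrimeCore p (M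 ⧸ Cfsg.pCore p M)).comap (QuotientGroup.mk' (Cfsg.pCore p M)) ∧ ⁅(Cfsg.pResidual p ↥(A ⊔ A.map (MulAut.conj x).toMonoidHom)).map (A ⊔ A.map (MulAut.conj x).toMonoidHom).subtype, A⁆ = (Cfsg.pResidual p ↥(A ⊔ A.map (MulAut.conj x).toMonoidHom)).map (A ⊔ A.map (MulAut.conj x).toMonoidHom).subtype ∧ (A ⊓ (Cfsg.pCore p ↥(A ⊔ A.map (MulAut.conj x).toMonoidHom)).map (A ⊔ A.map (MulAut.conj x).toMonoidHom).subtype).relIndex A = p ∧ ⁅A ⊓ (Cfsg.pCore p ↥(A ⊔ A.map (MulAut.conj x).toMonoidHom)).map (A ⊔ A.map (MulAut.conj x).toMonoidHom).subtype, A ⊔ A.map (MulAut.conj x).toMonoidHom⁆ ≤ Cfsg.pCore p M := by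
  have hp' : p.Prime := Fact.out
  have hP0n : (Cfsg.pCore p M).Normal := pCore_normal' p
  set P0 := Cfsg.pCore p M with hP0
  set π := QuotientGroup.mk' P0 with hπ
  have hπs : Function.Surjective π := QuotientGroup.mk'_surjective P0
  set N := Cfsg.pPrimeCore p (M ⧸ P0) with hN
  have hNn : N.Normal := Cfsg.Agent.PCore.pPrimeCore_normal
  set A' := A.map π with hA'
  have hA'p : IsPGroup p A' := hA.map π
  -- `A'` is elementary abelian
  have hAab : IsMulCommutative A' := by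
    refine ⟨⟨?_⟩⟩
    rintro ⟨_, a, ha, rfl⟩ ⟨_, b, hb, rfl⟩
    refine Subtype.ext ?_
    show π a * π b = π b * π a
    rw [← commutatorElement_eq_one_iff_mul_comm, ← map_commutatorElement, hπ,
      QuotientGroup.mk'_apply, QuotientGroup.eq_one_iff]
    exact hΦ ⟨_, Cfsg.Agent.PGroup.commutator_le_frattini hA
      (commutator_mem_commutator (mem_top ⟨a, ha⟩) (mem_top ⟨b, hb⟩)), rfl⟩
  have hApow : ∀ a ∈ A', a ^ p = 1 := by
    rintro _ ⟨a, ha, rfl⟩
    rw [← map_pow, hπ, QuotientGroup.mk'_apply, QuotientGroup.eq_one_iff]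
    exact hΦ ⟨_, Cfsg.Agent.PGroup.pow_mem_frattini hA ⟨a, ha⟩, rfl⟩
  have hAne : A' ≠ ⊥ := fun e => hnot (by
    rwa [hA', Subgroup.map_eq_bot_iff, hπ, QuotientGroup.ker_mk'] at e)
  have hcop : (Nat.card A').Coprime (Nat.card N) := coprime_card_of_isPGroup hA'p
    Cfsg.Agent.PCore.coprime_card_pPrimeCore
  have hAN : A' ⊓ N = ⊥ := Cfsg.Agent.Coprime.disjoint_of_coprime_card hcop
  have hcomm : ∀ {u v : M ⧸ P0}, u ∈ A' → v ∈ A' → u * v = v * u := fun {u v} hu hv =>
    congrArg Subtype.val (mul_comm' (⟨u, hu⟩ : A') ⟨v, hv⟩)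
  -- a maximal subgroup of `A'` with large fixed points in `N`
  obtain ⟨B', hB'A, ⟨a0, ha0, hBa⟩, hB'⟩ : ∃ B ≤ A', (∃ a ∈ A', B ⊔ zpowers a = A') ∧
      ¬ N ⊓ centralizer (B : Set (M ⧸ P0)) ≤ centralizer (A' : Set (M ⧸ P0)) := by
    by_contra hex
    push Not at hex
    have h1 : N ≤ centralizer (A' : Set (M ⧸ P0)) :=
      Cfsg.Agent.Coprime.le_of_forall_cyclic_quotient
        (le_top.trans_eq (normalizer_eq_top N).symm) hcop hex
    have h2 : A' ≤ N := (le_centralizer_iff.mp h1).trans (centralizer_pPrimeCore_le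
      (Cfsg.Agent.PCore.isPSolvable_quotient hM P0) Cfsg.Agent.PCore.pCore_quotient_self_eq_bot)
    exact hAne (by rwa [inf_eq_left.mpr h2] at hAN)
  have hBne : B' ≠ A' := fun e => hB' (e ▸ inf_le_right)
  set W := (N ⊓ centralizer (B' : Set (M ⧸ P0))).comap π with hW
  let Good : M → Prop := fun y => y ∈ W ∧ π y ∉ centralizer (A' : Set (M ⧸ P0))
  let gen : M → Subgroup M := fun y => A ⊔ A.map (MulAut.conj y).toMonoidHom
  obtain ⟨L, hL⟩ := Set.Finite.exists_minimal (s := {L : Subgroup M | ∃ y, Good y ∧ L = gen y})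
    (Set.toFinite _) (by
      obtain ⟨w, hw, hwA⟩ := SetLike.not_le_iff_exists.mp hB'
      obtain ⟨y, rfl⟩ := hπs w
      exact ⟨_, y, ⟨hw, hwA⟩, rfl⟩)
  obtain ⟨y, ⟨hyW, hyA⟩, hLy⟩ := hL.1
  set L' := L.map π with hL'
  set K' := A'.map (MulAut.conj (π y)).toMonoidHom with hK'
  have hL'eq : L' = A' ⊔ K' := by
    rw [hL', hLy, Subgroup.map_sup, hK', hA', map_map, map_map]
    congr 1
  set R := L' ⊓ N with hR
  have hA'R : A' ≤ normalizer (R : Set (M ⧸ P0)) :=
    (le_inf ((hL'eq ▸ le_sup_left : A' ≤ L').trans le_normalizer)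
      (le_top.trans_eq (normalizer_eq_top N).symm)).trans inf_normalizer_le_normalizer_inf
  have hL'AR : L' ≤ A' ⊔ R := by
    intro l hl
    have hle : L' ≤ A' ⊔ N := by
      rw [hL'eq]
      refine sup_le le_sup_left ?_
      rintro _ ⟨a, ha, rfl⟩
      exact mul_mem (mul_mem (mem_sup_right hyW.1) (mem_sup_left ha))
        (mem_sup_right (inv_mem hyW.1))
    have h1 := hle hl
    rw [mem_sup_of_normal_right] at h1
    obtain ⟨a, ha, n, hn, rfl⟩ := h1
    exact mul_mem (mem_sup_left ha)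
      (mem_sup_right ⟨(L'.mul_mem_cancel_left (hL'eq ▸ mem_sup_left ha)).mp hl, hn⟩)
  have hL'B : L' ≤ centralizer (B' : Set (M ⧸ P0)) := by
    have hAB : A' ≤ centralizer (B' : Set (M ⧸ P0)) := fun a ha =>
      mem_centralizer_iff.mpr fun b hb => hcomm (hB'A hb) ha
    rw [hL'eq]
    refine sup_le hAB ?_
    rintro _ ⟨a, ha, rfl⟩
    exact mul_mem (mul_mem hyW.2 (hAB ha)) (inv_mem hyW.2)
  have hcopR : (Nat.card A').Coprime (Nat.card R) := hcop.coprime_dvd_right (card_dvd_of_le inf_le_right)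
  obtain ⟨r, hr, hrK⟩ := Cfsg.Agent.Coprime.exists_conj_eq_of_le_sup (N := R) (H := A') (K := K')
    hA'R ((hL'eq ▸ le_sup_right : K' ≤ L').trans hL'AR)
    (card_map_of_injective (MulAut.conj (π y)).injective) hcopR
    (Or.inr (Group.isSolvable_of_comm fun a b => mul_comm' a b))
  have hrA : r ∉ centralizer (A' : Set (M ⧸ P0)) := by
    intro hrc
    apply hyA
    rw [mem_centralizer_iff]
    intro a ha
    have hfix : K' = A' := by
      rw [← hrK]
      exact Cfsg.Agent.Coprime.conj_smul_eq_self_of_mem (centralizer_le_normalizer _ hrc)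
    have h1 : π y * a * (π y)⁻¹ ∈ A' := hfix.le ⟨a, ha, rfl⟩
    have h2 : π y * a * (π y)⁻¹ * a⁻¹ ∈ A' ⊓ N := by
      refine ⟨A'.mul_mem h1 (A'.inv_mem ha), ?_⟩
      rw [mul_assoc, mul_assoc]
      exact N.mul_mem hyW.1 (by simpa [mul_assoc] using hNn.conj_mem _ (inv_mem hyW.1) a)
    rw [hAN, mem_bot, mul_inv_eq_one, mul_inv_eq_iff_eq_mul] at h2
    exact h2.symm
  set S := (Cfsg.pResidual p L).map L.subtype with hS
  have hSL : S ≤ L := map_subtype_le _
  have hSN : S ≤ N.comap π := res_le fun g hg hc => by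
    have hc' : (orderOf (π g)).Coprime p := hc.coprime_dvd_left (orderOf_map_dvd π g)
    exact (mem_of_coprime hA'R hA'p (sup_comm A' R ▸ hL'AR (mem_map_of_mem π hg)) hc').2
  have hRS : R ≤ S.map π := by
    rintro _ ⟨⟨l, hl, rfl⟩, hn⟩
    obtain ⟨k, hk⟩ := Cfsg.Agent.S5752.exists_pow_coprime (p := p) l
    have hc : (orderOf (π l)).Coprime (p ^ k) := by
      refine Nat.Coprime.pow_right k ?_
      have h1 := orderOf_dvd_natCard (⟨π l, hn⟩ : N)
      rw [Subgroup.orderOf_mk] at h1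
      exact Cfsg.Agent.PCore.coprime_card_pPrimeCore.coprime_dvd_left h1
    obtain ⟨m, hm⟩ := exists_pow_eq_self_of_coprime hc.symm
    refine ⟨(l ^ p ^ k) ^ m, S.pow_mem (mem_res (L.pow_mem hl _) hk) m, ?_⟩
    rw [map_pow, map_pow]
    exact hm
  obtain ⟨x, hxS, hxr⟩ := hRS hr
  have hxW : x ∈ W := by
    show π x ∈ N ⊓ centralizer _
    rw [hxr]
    exact ⟨hr.2, hL'B hr.1⟩
  have hLx : L = gen x := by
    refine le_antisymm (hL.2 ⟨x, ⟨hxW, by rwa [hxr]⟩, rfl⟩ (sup_le ?_ ?_)) (sup_le ?_ ?_)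
    · exact hLy ▸ le_sup_left
    · rintro _ ⟨a, ha, rfl⟩
      exact mul_mem (mul_mem (hSL hxS) (hLy ▸ mem_sup_left ha)) (inv_mem (hSL hxS))
    · exact hLy ▸ le_sup_left
    · rintro _ ⟨a, ha, rfl⟩
      exact mul_mem (mul_mem (hSL hxS) (hLy ▸ mem_sup_left ha)) (inv_mem (hSL hxS))
  have hAL : A ≤ L := hLy ▸ le_sup_left
  refine ⟨x, hxW.1, ?_⟩
  rw [show A ⊔ A.map (MulAut.conj x).toMonoidHom = L from hLx.symm]
  refine ⟨hxS, hSN, ?_, ?_⟩
  · -- `[S, A] = S`
    have hAS : A ≤ normalizer (S : Set M) :=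
      have := Cfsg.Agent.Transfer.pResidual_normal (G := L) p
      hAL.trans (Cfsg.Agent.S5752.le_normalizer_map L _)
    set K := ⁅S, A⁆ with hK
    have hKS : K ≤ S := Cfsg.Agent.Coprime.commutator_le_left_of_le_normalizer hAS
    refine le_antisymm hKS (res_le fun g hg hc => ?_)
    have hLK : L ≤ K ⊔ A := by
      rw [hLx]
      refine sup_le le_sup_right ?_
      rintro _ ⟨a, ha, rfl⟩
      rw [MulEquiv.coe_toMonoidHom, MulAut.conj_apply,
        show x * a * x⁻¹ = ⁅x, a⁆ * a by simp [commutatorElement_def]]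
      exact mul_mem (mem_sup_left (commutator_mem_commutator hxS ha)) (mem_sup_right ha)
    exact mem_of_coprime (normalizer_commutator_ge_right S A) hA (hLK hg) hc
  -- the intersection with `O_p(L)`
  set D := A ⊓ cp p L with hD
  have hLne : ¬ A ≤ cp p L := by
    intro hle
    have hall : L ≤ cp p L := by
      rw [hLx] at hle ⊢
      refine sup_le hle ?_
      rintro _ ⟨a, ha, rfl⟩
      have hxL : x ∈ gen x := hLx ▸ hSL hxS
      exact (mem_normalizer_iff.mp (le_normalizer_cp p _ hxL) a).mp (hle ha)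
    have hLp : IsPGroup p L' := ((isPGroup_cp p L).to_le hall).map π
    refine hrA ?_
    have h1 : r ∈ L' ⊓ N := hr
    rw [Cfsg.Agent.Coprime.disjoint_of_coprime_card
      (coprime_card_of_isPGroup hLp Cfsg.Agent.PCore.coprime_card_pPrimeCore), mem_bot] at h1
    rw [h1]
    exact one_mem _
  set B := A ⊓ B'.comap π with hB
  have hBD : B ≤ D := by
    refine le_inf inf_le_left ((le_inf inf_le_right (inf_le_left.trans hAL)).trans
      (le_cp (P := B'.comap π ⊓ L) inf_le_right ?_ (Normal.isSubnormal ?_)))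
    · refine IsPGroup.to_le ?_ inf_le_left
      exact (hA'p.to_le hB'A).comap_of_ker_isPGroup π (by
        rw [hπ, QuotientGroup.ker_mk']; exact isPGroup_pCore' p)
    · refine normal_subgroupOf_of_le_normalizer ?_
      refine le_trans (le_inf ?_ le_normalizer) inf_normalizer_le_normalizer_inf
      refine le_trans ?_ (le_normalizer_comap π)
      rw [← map_le_iff_le_comap]
      exact hL'B.trans (centralizer_le_normalizer _)
  have hidx : B.relIndex A = p := by
    rw [hB, inf_relIndex_left, relIndex_comap, ← hA']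
    have hn : zpowers a0 ≤ normalizer (B' : Set (M ⧸ P0)) := by
      refine le_trans ?_ (centralizer_le_normalizer _)
      exact zpowers_le.mpr (mem_centralizer_iff.mpr fun b hb => hcomm (hB'A hb) ha0)
    have h1 : B'.relIndex A' = B'.relIndex (zpowers a0) := by
      rw [← Cfsg.Agent.Coprime.relIndex_sup_right_of_le_normalizer hn, sup_comm, hBa]
    have h2 : B'.relIndex (zpowers a0) ∣ p :=
      (Subgroup.index_dvd_card _).trans
        ((dvd_of_eq (Nat.card_zpowers a0)).trans (orderOf_dvd_of_pow_eq_one (hApow a0 ha0)))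
    rcases (Nat.dvd_prime hp').mp h2 with h3 | h3
    · exact absurd (le_antisymm hB'A (relIndex_eq_one.mp (h1.trans h3))) hBne
    · exact h1.trans h3
  have hDA : D.relIndex A = p ∧ B.relIndex D = 1 := by
    have h := relIndex_mul_relIndex B D A hBD inf_le_left
    rw [hidx] at h
    have h2 : D.relIndex A ≠ 1 := fun e => hLne ((relIndex_eq_one.mp e).trans inf_le_right)
    rcases (Nat.dvd_prime hp').mp (Dvd.intro_left _ h : D.relIndex A ∣ p) with h3 | h3
    · exact absurd h3 h2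
    · rw [h3] at h
      exact ⟨h3, Nat.eq_of_mul_eq_mul_right hp'.pos (h.trans (one_mul p).symm)⟩
  refine ⟨hDA.1, ?_⟩
  have hz : ⁅D, L⁆.map π = ⊥ := by
    rw [map_commutator, commutator_eq_bot_iff_le_centralizer, le_centralizer_iff]
    refine hL'B.trans (centralizer_le ?_)
    exact map_le_iff_le_comap.mpr ((relIndex_eq_one.mp hDA.2).trans inf_le_right)
  rw [Subgroup.map_eq_bot_iff, hπ, QuotientGroup.ker_mk'] at hz
  exact hz

end Cfsg.Agent.S3754
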