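import Cfsg.Statements.S3755
import Cfsg.Agent.Lib.Components.PAction
import Cfsg.Agent.Lib.Coprime.Generation
import Cfsg.Agent.Lib.PCore.Basic
import Cfsg.Agent.Lib.PComplement.SFour
import Cfsg.Agent.S5752
-- import your own Cfsg.Agent.* helpers here

set_option autoImplicit false
open Cfsg

namespace Cfsg.Agent.S3755

open Cfsg.Agent.Components Subgroup
open scoped commutatorElement

variable {X : Type*} [Group X] [Finite X]

omit [Finite X] in
/-- An element of order three inverted by an involution gives a symmetric group of degree 3. -/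
theorem involves_three (M : Subgroup X) [Finite M] {a y : X} (ha : a ∈ M) (hy : y ∈ M)
    (hoa : orderOf a = 2) (hoy : orderOf y = 3) (hinv : a * y * a⁻¹ = y⁻¹) :
    Cfsg.Involves (Equiv.Perm (Fin 3)) M := by
  set a' : M := ⟨a, ha⟩
  set y' : M := ⟨y, hy⟩
  have hoa' : orderOf a' = 2 := by rw [← Subgroup.orderOf_coe]; exact hoa
  have hoy' : orderOf y' = 3 := by rw [← Subgroup.orderOf_coe]; exact hoy
  have hinv' : a' * y' * a'⁻¹ = y'⁻¹ := Subtype.ext hinv
  have hn : zpowers a' ≤ normalizer (zpowers y' : Set M) := by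
    rw [zpowers_le]
    refine Cfsg.Agent.Coprime.mem_normalizer_of_conj_smul_eq ?_
    show (zpowers y').map (MulAut.conj a').toMonoidHom = zpowers y'
    rw [MonoidHom.map_zpowers]
    show zpowers (a' * y' * a'⁻¹) = _
    rw [hinv', zpowers_inv]
  have hd : zpowers a' ⊓ zpowers y' = ⊥ := Cfsg.Agent.Coprime.disjoint_of_coprime_card (by
    rw [Nat.card_zpowers, Nat.card_zpowers, hoa', hoy']; decide)
  set D := zpowers a' ⊔ zpowers y'
  have hcard : Nat.card D = 6 := by
    rw [Cfsg.Agent.Coprime.card_sup_of_le_normalizer hn hd, Nat.card_zpowers, Nat.card_zpowers,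
      hoa', hoy']
  set A := (zpowers a').subgroupOf D with hA
  have hAcard : Nat.card A = 2 := by
    rw [Cfsg.Agent.Coprime.card_subgroupOf le_sup_left, Nat.card_zpowers, hoa']
  have hidx : A.index = 3 := by
    have := A.card_mul_index
    rw [hcard, hAcard] at this
    omega
  have hcore : A.normalCore = ⊥ := by
    by_contra hne
    have heq : A.normalCore = A := by
      refine Subgroup.eq_of_le_of_card_ge A.normalCore_le ?_
      rw [hAcard]
      rcases Nat.lt_or_ge (Nat.card A.normalCore) 2 with h | h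
      · exact absurd (Subgroup.card_eq_one.mp (by have := Nat.card_pos (α := A.normalCore); omega)) hne
      · exact h
    have hAn : A.Normal := heq ▸ A.normalCore_normal
    set yD : D := ⟨y', mem_sup_right (mem_zpowers _)⟩
    set aD : D := ⟨a', mem_sup_left (mem_zpowers _)⟩
    have h1 : yD * aD * yD⁻¹ * aD⁻¹ ∈ A :=
      A.mul_mem (hAn.conj_mem aD (mem_zpowers a') yD) (A.inv_mem (mem_zpowers a'))
    have h2 : y' * a' * y'⁻¹ * a'⁻¹ ∈ zpowers a' ⊓ zpowers y' := by
      refine ⟨h1, ?_⟩
      rw [show y' * a' * y'⁻¹ * a'⁻¹ = y' * (a' * y' * a'⁻¹)⁻¹ by group, hinv', inv_inv]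
      exact mul_mem (mem_zpowers _) (mem_zpowers _)
    rw [hd, mem_bot, show y' * a' * y'⁻¹ * a'⁻¹ = y' * (a' * y' * a'⁻¹)⁻¹ by group, hinv',
      inv_inv] at h2
    have h3 := orderOf_dvd_of_pow_eq_one (pow_two y' ▸ h2 : y' ^ 2 = 1)
    rw [hoy'] at h3
    exact absurd h3 (by decide)
  have hc3 : Nat.card (D ⧸ A) = Nat.card (Fin 3) := by
    rw [← index_eq_card, hidx, Nat.card_fin]
  let e : D ⧸ A ≃ Fin 3 := Finite.equivFinOfCardEq (hc3.trans (Nat.card_fin 3))
  let φ : D →* Equiv.Perm (Fin 3) :=
    e.permCongrHom.toMonoidHom.comp (MulAction.toPermHom D (D ⧸ A))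
  have hinj : Function.Injective φ := by
    rw [← MonoidHom.ker_eq_bot_iff, eq_bot_iff, ← hcore, Subgroup.normalCore_eq_ker]
    intro g hg
    exact e.permCongrHom.injective (hg.trans (map_one _).symm)
  have := Fintype.ofFinite D
  have hsurj : Function.Surjective φ :=
    ((Fintype.bijective_iff_injective_and_card φ).mpr ⟨hinj, by
      rw [← Nat.card_eq_fintype_card, hcard, Fintype.card_perm, Fintype.card_fin]
      rfl⟩).2
  exact Cfsg.Agent.PComplement.involves_iff.mpr ⟨D, φ, hsurj⟩

/-- An involution inverting an element of prime order at least five that acts nontrivially on an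
elementary abelian 2-group has a centraliser of index at least four there. -/
theorem four_le_relIndex {W : Subgroup X} (hW : IsPGroup 2 W) (hWab : IsMulCommutative W)
    {a y : X} (haW : a ∈ normalizer (W : Set X)) (hyW : y ∈ normalizer (W : Set X))
    {q : ℕ} (hq : q.Prime) (hq5 : 5 ≤ q) (hoy : orderOf y = q) (haa : a * a = 1)
    (hinv : a * y * a⁻¹ = y⁻¹) (hne : y ∉ centralizer (W : Set X)) :
    4 ≤ (W ⊓ centralizer {a}).relIndex W := by
  by_contra hlt
  push Not at hlt
  set C := W ⊓ centralizer {a} with hC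
  set b := y * a * y⁻¹ with hb
  set C' := W ⊓ centralizer {b} with hC'
  set C₂ := C ⊓ C' with hC2
  have h2' : ∀ D : Subgroup X, D.relIndex W < 4 → D.relIndex W ≤ 2 := by
    intro D h4
    have h3 : D.relIndex W ∣ Nat.card W := Subgroup.index_dvd_card _
    obtain ⟨k, hk⟩ := hW.exists_card_eq
    rw [hk] at h3
    obtain ⟨i, -, hi⟩ := (Nat.dvd_prime_pow Nat.prime_two).mp h3
    rw [hi] at h4 ⊢
    rcases Nat.lt_or_ge i 2 with hi2 | hi2
    · exact le_trans (Nat.pow_le_pow_right (by norm_num) (Nat.le_of_lt_succ hi2)) (by norm_num)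
    · exact absurd (Nat.pow_le_pow_right (by norm_num : 1 ≤ 2) hi2) (not_le.mpr (by simpa using h4))
  have hb' : b = y * y * a := by
    have h0 : a * y⁻¹ * a⁻¹ = y := by
      have := congrArg (·⁻¹) hinv
      simpa [mul_assoc] using this
    rw [hb, mul_assoc y y, show y * a * y⁻¹ = y * (a * y⁻¹ * a⁻¹) * a by group, h0, ← mul_assoc]
  have hCy : C.map (MulAut.conj y).toMonoidHom = C' := by
    ext w
    constructor
    · rintro ⟨v, ⟨hvW, hva⟩, rfl⟩
      refine ⟨(mem_normalizer_iff.mp hyW v).mp hvW, ?_⟩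
      have hva' := mem_centralizer_singleton_iff.mp hva
      refine mem_centralizer_singleton_iff.mpr ?_
      show y * v * y⁻¹ * b = b * (y * v * y⁻¹)
      calc y * v * y⁻¹ * b = y * (v * a) * y⁻¹ := by rw [hb]; group
        _ = y * (a * v) * y⁻¹ := by rw [hva']
        _ = _ := by rw [hb]; group
    · rintro ⟨hwW, hwb⟩
      have hwb' := mem_centralizer_singleton_iff.mp hwb
      refine ⟨y⁻¹ * w * y, ⟨?_, mem_centralizer_singleton_iff.mpr ?_⟩, by simp [mul_assoc]⟩
      · simpa using (mem_normalizer_iff.mp (inv_mem hyW) w).mp hwW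
      · calc y⁻¹ * w * y * a = y⁻¹ * (w * b) * y := by rw [hb]; group
          _ = y⁻¹ * (b * w) * y := by rw [hwb']
          _ = _ := by rw [hb]; group
  have hC'idx : C'.relIndex W = C.relIndex W := by
    conv_lhs => rw [← hCy, show W = W.map (MulAut.conj y).toMonoidHom from
      (Cfsg.Agent.Coprime.conj_smul_eq_self_of_mem hyW).symm]
    rw [relIndex_map_map_of_injective _ _ (MulAut.conj y).injective]
  have hidx : C₂.relIndex W ≤ 4 :=
    le_trans Subgroup.relIndex_inf_le
      (Nat.mul_le_mul (h2' C hlt) (hC'idx ▸ h2' C hlt))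
  -- `y` centralises `C₂`
  have hyy : y * y ∈ centralizer (C₂ : Set X) := by
    rw [show y * y = b * a by rw [hb', mul_assoc _ a a, haa, mul_one]]
    refine mul_mem (mem_centralizer_iff.mpr fun w hw => ?_) (mem_centralizer_iff.mpr fun w hw => ?_)
    · exact mem_centralizer_singleton_iff.mp hw.2.2
    · exact mem_centralizer_singleton_iff.mp hw.1.2
  have hodd : Odd q := hq.odd_of_ne_two (by omega)
  have hyc : y ∈ centralizer (C₂ : Set X) := by
    obtain ⟨m, hm⟩ := exists_pow_eq_self_of_coprime (x := y) (n := 2)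
      (hoy ▸ Nat.coprime_two_left.mpr hodd)
    rw [← hm]
    exact pow_mem (by rw [pow_two]; exact hyy) m
  -- `y` fixes every coset of `C₂`
  have hfix : ∀ w ∈ W, y * w * y⁻¹ * w⁻¹ ∈ C₂ := by
    intro w hw
    have hyn : ∀ i : ℕ, y ^ i * w * (y ^ i)⁻¹ ∈ W := fun i =>
      (mem_normalizer_iff.mp (pow_mem hyW i) w).mp hw
    let g : Fin 5 → W ⧸ C₂.subgroupOf W := fun i => QuotientGroup.mk ⟨_, hyn i⟩
    have hW0 : Nat.card (W ⧸ C₂.subgroupOf W) < Nat.card (Fin 5) := by
      rw [Nat.card_fin, ← index_eq_card]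
      exact Nat.lt_succ_of_le hidx
    obtain ⟨i, j, hij, hg⟩ : ∃ i j : Fin 5, i < j ∧ g i = g j := by
      by_contra hno
      push Not at hno
      have hinjg : Function.Injective g := fun i j he => by
        rcases lt_trichotomy i j with h | h | h
        · exact absurd he (hno i j h)
        · exact h
        · exact absurd he.symm (hno j i h)
      exact absurd (Nat.card_le_card_of_injective g hinjg) (not_le.mpr hW0)
    have h0 : (y ^ (i : ℕ) * w * (y ^ (i : ℕ))⁻¹)⁻¹ * (y ^ (j : ℕ) * w * (y ^ (j : ℕ))⁻¹) ∈ C₂ := by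
      simpa [mem_subgroupOf] using QuotientGroup.eq.mp hg
    set d := (j : ℕ) - (i : ℕ) with hd
    have hd0 : 0 < d ∧ d < q := by
      have h5 := j.isLt
      have : (i : ℕ) < j := hij
      omega
    have hci : ∀ c ∈ C₂, ∀ k : ℕ, y ^ k * c * (y ^ k)⁻¹ = c := by
      intro c hc k
      have := mem_centralizer_iff.mp (pow_mem hyc k) c hc
      rw [← this, mul_inv_cancel_right]
    have h1 : y ^ d * w * (y ^ d)⁻¹ * w⁻¹ ∈ C₂ := by
      set c := (y ^ (i : ℕ) * w * (y ^ (i : ℕ))⁻¹)⁻¹ * (y ^ (j : ℕ) * w * (y ^ (j : ℕ))⁻¹) with hc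
      have hi : (y ^ (i : ℕ))⁻¹ * c * y ^ (i : ℕ) = c := by
        have := mem_centralizer_iff.mp (pow_mem hyc (i : ℕ)) c h0
        rw [mul_assoc, this, inv_mul_cancel_left]
      have hj : y ^ (j : ℕ) = y ^ (i : ℕ) * y ^ d := by
        rw [← pow_add, hd]; congr 1; have : (i : ℕ) < j := hij; omega
      have h2 : w⁻¹ * (y ^ d * w * (y ^ d)⁻¹) = c := by
        conv_rhs => rw [← hi, hc, hj]
        group
      have hwc : w * c * w⁻¹ = c := by
        have hcW : c ∈ W := h0.1.1
        rw [show w * c = c * w from congrArg Subtype.val (hWab.is_comm.comm ⟨w, hw⟩ ⟨c, hcW⟩),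
          mul_inv_cancel_right]
      rw [show y ^ d * w * (y ^ d)⁻¹ * w⁻¹ = w * (w⁻¹ * (y ^ d * w * (y ^ d)⁻¹)) * w⁻¹ by group,
        h2, hwc]
      exact h0
    have h3 : ∀ m : ℕ, (y ^ d) ^ m * w * ((y ^ d) ^ m)⁻¹ * w⁻¹ ∈ C₂ := by
      intro m
      induction m with
      | zero => simp
      | succ m ih =>
        rw [pow_succ, show (y ^ d) ^ m * y ^ d * w * ((y ^ d) ^ m * y ^ d)⁻¹ * w⁻¹ =
          ((y ^ d) ^ m * (y ^ d * w * (y ^ d)⁻¹ * w⁻¹) * ((y ^ d) ^ m)⁻¹) *
            ((y ^ d) ^ m * w * ((y ^ d) ^ m)⁻¹ * w⁻¹) by group]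
        refine mul_mem ?_ ih
        rw [← pow_mul, hci _ h1 (d * m)]
        exact h1
    obtain ⟨m, hm⟩ := exists_pow_eq_self_of_coprime (x := y) (n := d) (by
      rw [hoy]
      exact (hq.coprime_iff_not_dvd.mpr (Nat.not_dvd_of_pos_of_lt hd0.1 hd0.2)).symm)
    simpa [hm] using h3 m
  apply hne
  obtain ⟨k, hk⟩ := hW.exists_card_eq
  refine Cfsg.Agent.Coprime.le_centralizer_of_commutator_le_centralizer (A := zpowers y) (K := W)
    (zpowers_le.mpr hyW) ?_ (Or.inl (Group.isSolvable_of_comm fun u v => mul_comm' u v)) ?_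
    (mem_zpowers y)
  · rw [Nat.card_zpowers, hoy, hk]
    exact (Nat.Coprime.pow_left k (Nat.coprime_two_left.mpr hodd)).symm
  · refine (zpowers_le.mpr hyc).trans (centralizer_le ?_)
    rw [commutator_comm]
    refine commutator_le.mpr fun g hg w hw => ?_
    obtain ⟨i, rfl⟩ := mem_zpowers_iff.mp hg
    rw [commutatorElement_def]
    have hN : ∀ v ∈ W, ∀ n : ℕ, y ^ n * v * (y ^ n)⁻¹ * v⁻¹ ∈ C₂ := by
      intro v hv n
      induction n with
      | zero => simp
      | succ n ih =>
        rw [pow_succ, show y ^ n * y * v * (y ^ n * y)⁻¹ * v⁻¹ =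
          (y ^ n * (y * v * y⁻¹ * v⁻¹) * (y ^ n)⁻¹) * (y ^ n * v * (y ^ n)⁻¹ * v⁻¹) by group]
        refine mul_mem ?_ ih
        have hyv := hfix v hv
        have := mem_centralizer_iff.mp (pow_mem hyc n) _ hyv
        rw [← this, mul_inv_cancel_right]
        exact hyv
    obtain ⟨n, hn⟩ := mem_powers_iff_mem_zpowers.mpr (zpow_mem (mem_zpowers y) i)
    rw [← hn]
    exact hN w hw n

/-- Let M and V be subgroups of a finite group with V an elementary abelian 2-group, M normalizing V and acting faithfully on it (M ∩ C(V) = 1), and C_M(O_{2'}(M)) ≤ O_{2'}(M). If some elementary abelian 2-subgroup A of M satisfies |V : C_V(A)| < |A|², then M has a section isomorphic to the symmetric group of degree 3. -/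
theorem result {X : Type*} [Group X] [Finite X] (M V : Subgroup X) (hV : Cfsg.IsElementaryAbelian 2 V) (hMV : M ≤ Subgroup.normalizer (V : Set X)) (hfaith : M ⊓ Subgroup.centralizer (V : Set X) = ⊥) (hcon : Subgroup.centralizer (Cfsg.pPrimeCore 2 ↥M : Set ↥M) ≤ Cfsg.pPrimeCore 2 ↥M) (A : Subgroup X) (hAM : A ≤ M) (hA : Cfsg.IsElementaryAbelian 2 A) (hsmall : (V ⊓ Subgroup.centralizer (A : Set X)).relIndex V < Nat.card A ^ 2) : Cfsg.Involves (Equiv.Perm (Fin 3)) ↥M := by
  set K := (Cfsg.pPrimeCore 2 M).map M.subtype with hK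
  have hOn : (Cfsg.pPrimeCore 2 M).Normal := Cfsg.Agent.PCore.pPrimeCore_normal
  have hKodd : (Nat.card K).Coprime 2 := by
    rw [hK, card_map_of_injective M.subtype_injective]
    exact Cfsg.Agent.PCore.coprime_card_pPrimeCore
  have hKn : M ≤ normalizer (K : Set X) := Cfsg.Agent.S5752.le_normalizer_map M _
  have hKM : K ≤ M := map_subtype_le _
  have hVp : IsPGroup 2 V := fun v => ⟨1, Subtype.ext (by simpa using hV.2 v v.2)⟩
  by_contra hno
  have key : ∀ n : ℕ, ∀ B : Subgroup X, Nat.card B = n → B ≤ A →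
      Nat.card B ^ 2 ≤ (V ⊓ centralizer (B : Set X)).relIndex V := by
    intro n
    induction n using Nat.strong_induction_on with
    | _ n ih =>
      intro B hBn hBA
      by_cases hB0 : B = ⊥
      · subst hB0
        rw [card_bot, one_pow]
        exact Nat.one_le_iff_ne_zero.mpr Subgroup.index_ne_zero_of_finite
      have hBab : IsMulCommutative B := by
        have := hA.1
        exact ⟨⟨fun u v => Subtype.ext (congrArg Subtype.val
          (mul_comm' (⟨u, hBA u.2⟩ : A) ⟨v, hBA v.2⟩) :)⟩⟩
      have hB2 : ∀ b ∈ B, b ^ 2 = 1 := fun b hb => hA.2 b (hBA hb)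
      have hBM : B ≤ M := hBA.trans hAM
      have hBp : IsPGroup 2 B := fun b => ⟨1, Subtype.ext (by simpa using hB2 b b.2)⟩
      have hBfaith : ¬ K ≤ centralizer (B : Set X) := by
        intro h
        refine hB0 (eq_bot_iff.mpr fun b hb => ?_)
        have hb' : (⟨b, hBM hb⟩ : M) ∈ Cfsg.pPrimeCore 2 M := by
          refine hcon (mem_centralizer_iff.mpr fun k hk => Subtype.ext ?_)
          exact (mem_centralizer_iff.mp (h (mem_map_of_mem M.subtype hk)) b hb).symm
        have hbK : b ∈ K := ⟨_, hb', rfl⟩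
        have hd : B ⊓ K = ⊥ := Cfsg.Agent.Coprime.disjoint_of_coprime_card
          (coprime_card_of_isPGroup hBp hKodd)
        exact hd ▸ ⟨hb, hbK⟩
      obtain ⟨C, hCB, ⟨a, haB, hCa⟩, hC⟩ : ∃ C ≤ B, (∃ a ∈ B, C ⊔ zpowers a = B) ∧
          ¬ K ⊓ centralizer (C : Set X) ≤ centralizer (B : Set X) := by
        by_contra hex
        push Not at hex
        exact hBfaith (Cfsg.Agent.Coprime.le_of_forall_cyclic_quotient (hBM.trans hKn)
          (coprime_card_of_isPGroup hBp hKodd) hex)
      have hCne : C ≠ B := fun e => hC (e ▸ inf_le_right)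
      obtain ⟨k, hk, hka⟩ : ∃ k ∈ K ⊓ centralizer (C : Set X), k * a ≠ a * k := by
        by_contra hall
        push Not at hall
        refine hC fun k hk => ?_
        have : B ≤ centralizer {k} := by
          rw [← hCa]
          refine sup_le (fun c hc => mem_centralizer_singleton_iff.mpr ?_)
            (zpowers_le.mpr (mem_centralizer_singleton_iff.mpr (hall k hk).symm))
          exact mem_centralizer_iff.mp hk.2 c hc
        exact mem_centralizer_iff.mpr fun b hb => mem_centralizer_singleton_iff.mp (this hb)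
      have haa : a * a = 1 := by rw [← pow_two]; exact hB2 a haB
      have ha' : a⁻¹ = a := inv_eq_of_mul_eq_one_right haa
      have haC : a ∈ centralizer (C : Set X) := mem_centralizer_iff.mpr fun c hc =>
        congrArg Subtype.val (mul_comm' (⟨c, hCB hc⟩ : B) ⟨a, haB⟩)
      set Z := K ⊓ centralizer (C : Set X)
      set x := k⁻¹ * (a * k * a⁻¹) with hxdef
      have hxZ : x ∈ Z := by
        refine Z.mul_mem (Z.inv_mem hk) ⟨(mem_normalizer_iff.mp (hKn (hBM haB)) k).mp hk.1, ?_⟩
        exact (centralizer (C : Set X)).mul_mem ((centralizer (C : Set X)).mul_mem haC hk.2)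
          ((centralizer (C : Set X)).inv_mem haC)
      have hxinv : a * x * a⁻¹ = x⁻¹ := by
        rw [hxdef, ha', mul_inv_rev, inv_inv]
        calc a * (k⁻¹ * (a * k * a)) * a = a * k⁻¹ * a * k * (a * a) := by group
          _ = a * k⁻¹ * a * k := by rw [haa, mul_one]
          _ = (a * k * a)⁻¹ * k := by rw [mul_inv_rev, mul_inv_rev, ha', mul_assoc a]
      have hx1 : x ≠ 1 := fun h => hka <| by
        rw [hxdef, inv_mul_eq_one, eq_mul_inv_iff_mul_eq] at h
        exact h
      obtain ⟨q, hq, hqd⟩ := Nat.exists_prime_and_dvd (mt orderOf_eq_one_iff.mp hx1)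
      set y := x ^ (orderOf x / q) with hy
      have hoy : orderOf y = q := orderOf_pow_orderOf_div (orderOf_pos x).ne' hqd
      have hyZ : y ∈ Z := Z.pow_mem hxZ _
      have hyinv : a * y * a⁻¹ = y⁻¹ := by rw [hy, ← conj_pow, hxinv, inv_pow]
      have hqK : q ∣ Nat.card K := by
        have h1 := orderOf_dvd_natCard (⟨y, hyZ.1⟩ : K)
        rw [Subgroup.orderOf_mk, hoy] at h1
        exact h1
      have hq2 : q ≠ 2 := fun h => by
        subst h
        exact absurd (Nat.eq_one_of_dvd_coprimes hKodd hqK dvd_rfl) (by norm_num)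
      have hoa : orderOf a = 2 := by
        refine orderOf_eq_prime (hB2 a haB) fun h => hCne ?_
        rw [← hCa, h, zpowers_one_eq_bot, sup_bot_eq]
      have hq5 : 5 ≤ q := by
        have hq3 : q ≠ 3 := fun h => hno (involves_three M (hBM haB) (hKM hyZ.1) hoa (h ▸ hoy) hyinv)
        have h4 : q ≠ 4 := fun h => absurd (h ▸ hq) (by decide)
        have := hq.two_le
        omega
      set W := V ⊓ centralizer (C : Set X) with hW
      have hWp : IsPGroup 2 W := hVp.to_le inf_le_left
      have hWab : IsMulCommutative W := by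
        have := hV.1
        exact ⟨⟨fun u v => Subtype.ext (congrArg Subtype.val
          (mul_comm' (⟨u, u.2.1⟩ : V) ⟨v, v.2.1⟩) :)⟩⟩
      have hnW : ∀ g ∈ M, g ∈ centralizer (C : Set X) → g ∈ normalizer (W : Set X) := fun g hg hgc =>
        inf_normalizer_le_normalizer_inf ⟨hMV hg, le_normalizer hgc⟩
      have hynW : y ∈ normalizer (W : Set X) := hnW y (hKM hyZ.1) hyZ.2
      have hyne : y ∉ centralizer (W : Set X) := by
        intro hc
        have h1 : zpowers y ≤ centralizer (V : Set X) :=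
          Cfsg.Agent.Coprime.le_centralizer_of_pq (P := C) (Q := zpowers y) (U := V)
            (hBp.to_le hCB) (by
              rw [Nat.card_zpowers, hoy]
              exact (Nat.coprime_primes hq Nat.prime_two).mpr hq2)
            hVp (le_centralizer_iff.mp (zpowers_le.mpr hyZ.2)) ((hCB.trans hBM).trans hMV)
            ((zpowers_le.mpr (hKM hyZ.1)).trans hMV)
            (le_centralizer_iff.mp (zpowers_le.mpr hc))
        have h2 : y ∈ M ⊓ centralizer (V : Set X) := ⟨hKM hyZ.1, h1 (mem_zpowers y)⟩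
        rw [hfaith, mem_bot] at h2
        rw [h2, orderOf_one] at hoy
        exact hq.one_lt.ne hoy
      have hstep := four_le_relIndex hWp hWab (hnW a (hBM haB) haC) hynW hq hq5 hoy haa hyinv hyne
      have hVB : W ⊓ centralizer {a} = V ⊓ centralizer (B : Set X) := by
        refine le_antisymm ?_ ?_
        · rintro w ⟨⟨hwV, hwC⟩, hwa⟩
          refine ⟨hwV, ?_⟩
          have : B ≤ centralizer {w} := by
            rw [← hCa]
            exact sup_le (fun c hc => mem_centralizer_singleton_iff.mpr (mem_centralizer_iff.mp hwC c hc))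
              (zpowers_le.mpr (mem_centralizer_singleton_iff.mpr
                (mem_centralizer_singleton_iff.mp hwa).symm))
          exact mem_centralizer_iff.mpr fun b hb => mem_centralizer_singleton_iff.mp (this hb)
        · refine le_inf (inf_le_inf_left _ (centralizer_le hCB)) (inf_le_right.trans (centralizer_le ?_))
          simpa using haB
      have hlt : Nat.card C < n := by
        rw [← hBn]
        by_contra h
        exact hCne (Subgroup.eq_of_le_of_card_ge hCB (not_lt.mp h))
      have hcard : Nat.card B ≤ Nat.card C * 2 := by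
        have hn : zpowers a ≤ normalizer (C : Set X) :=
          (zpowers_le.mpr haC).trans (centralizer_le_normalizer _)
        by_cases hd : zpowers a ⊓ C = ⊥
        · rw [← hCa, sup_comm, Cfsg.Agent.Coprime.card_sup_of_le_normalizer hn hd, Nat.card_zpowers,
            hoa, mul_comm]
        · exfalso
          have hle : zpowers a ⊓ C = zpowers a := by
            refine Subgroup.eq_of_le_of_card_ge inf_le_left ?_
            rw [Nat.card_zpowers, hoa]
            have h1 : Nat.card ↥(zpowers a ⊓ C) ≠ 1 := fun h => hd (card_eq_one.mp h)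
            have := Nat.card_pos (α := ↥(zpowers a ⊓ C))
            omega
          exact hCne (by rw [← hCa, sup_eq_left.mpr (inf_eq_left.mp hle)])
      have hrel := relIndex_mul_relIndex (V ⊓ centralizer (B : Set X)) W V
        (inf_le_inf_left _ (centralizer_le hCB)) inf_le_left
      rw [← hrel]
      calc Nat.card B ^ 2 ≤ (Nat.card C * 2) ^ 2 := Nat.pow_le_pow_left hcard 2
        _ = 4 * Nat.card C ^ 2 := by ring
        _ ≤ _ := Nat.mul_le_mul (hVB ▸ hstep) (ih _ hlt C rfl (hCB.trans hBA))
  exact absurd (key _ A rfl le_rfl) (not_le.mpr hsmall)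

end Cfsg.Agent.S3755
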