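import Cfsg.Statements.S3756
import Cfsg.Agent.Lib.TwoLocalFree.Pair
import Cfsg.Agent.Lib.SmallSimple.Basic
-- import your own Cfsg.Agent.* helpers here

set_option autoImplicit false
open Cfsg

namespace Cfsg.Agent.S3756

open Cfsg.Agent Cfsg.Agent.TwoLocalFree Subgroup

universe u

variable {G : Type u} [Group G] [Finite G]

/-- Only one maximal 2-local contains a given Sylow 2-subgroup. -/
theorem unique_over_sylow (hh : Hyp G) {S : Subgroup G}
    (maxS : ∀ R : Subgroup G, IsPGroup 2 R → S ≤ R → R = S)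
    {A B : Subgroup G} (cA : Ctx A S) (cB : Ctx B S) : A = B := by
  obtain ⟨M₁, c₁, hmax⟩ := Set.exists_max_image {M : Subgroup G | Ctx M S}
    (fun M => Nat.card (zclos M S)) (Set.toFinite _) ⟨A, cA⟩
  have ctxS : ∀ {L : Subgroup G}, Cfsg.IsMaximalTwoLocal L → S ≤ L → Ctx L S :=
    fun hL hS => ⟨hL, hS, cA.isP, fun R _ hR hSR => maxS R hR hSR⟩
  have hJ : normalizer (jEA S : Set G) ≤ M₁ := by
    obtain ⟨L, hL, hle⟩ := exists_maximal
      (isTwoLocal_normalizer (cA.isP.to_le (jEA_le S)) (jEA_ne_bot cA.isP cA.ne_bot))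
    have cL := ctxS hL ((le_normalizer.trans (normalizer_le_normalizer_jEA S)).trans hle)
    have hZ : zclos M₁ S ≤ zclos L S := c₁.zclos_le_of_para hh (le_clos L (zc S))
      (((c₁.para_le_normalizer_jEA hh).trans hle).trans (le_normalizer_clos L (zc S)))
    have heq := Subgroup.eq_of_le_of_card_ge hZ (hmax L cL)
    have hLM : L ≤ M₁ := by
      rw [← c₁.normalizer_zclos hh, heq]
      exact le_normalizer_clos L (zc S)
    exact hle.trans hLM
  have hC : centralizer (zc S : Set G) ≤ M₁ := by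
    by_contra hcon
    obtain ⟨Y, ⟨hY1, hY2, hY3⟩, hYmin⟩ :=
      (Set.toFinite {Y : Subgroup G | S ≤ Y ∧ Y ≤ centralizer (zc S : Set G) ∧ ¬ Y ≤ M₁}).exists_minimal
        ⟨_, le_centralizer_zc S, le_rfl, hcon⟩
    exact Key.false (Y := Y) ⟨hh, c₁, maxS, hJ, hY1, hY2, hY3,
      fun Y' h1 h2 h3 => le_antisymm h2 (hYmin ⟨h1, h2.trans hY2, h3⟩ h2)⟩
  have key : ∀ {M : Subgroup G}, Ctx M S → M₁ = M := fun {M} c => by
    refine c.hM.2 _ c₁.hM.1 ((c.le_sup_para hh).trans (sup_le ?_ ((c.para_le_normalizer_jEA hh).trans hJ)))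
    exact (centralizer_le (le_clos M (zc S))).trans hC
  exact (key cA).symm.trans (key cB)

/-- A maximal 2-local `M` whose Sylow subgroup `T` is not maximal in the maximal 2-local `N`, for a largest
common 2-subgroup `T`, equals `N`. -/
theorem eq_of_not_sylow (hh : Hyp G) {M N T R : Subgroup G} (c : Ctx M T)
    (hN : Cfsg.IsMaximalTwoLocal N) (hR : IsPGroup 2 R) (hTR : T < R) (hRN : R ≤ N)
    (hmax : ∀ K₁ K₂ : Subgroup G, Cfsg.IsMaximalTwoLocal K₁ → Cfsg.IsMaximalTwoLocal K₂ →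
      ∀ U : Subgroup G, IsPGroup 2 U → U ≤ K₁ → U ≤ K₂ → Nat.card T < Nat.card U → K₁ = K₂) : M = N := by
  haveI : Fact (Nat.Prime 2) := ⟨Nat.prime_two⟩
  set R' := R ⊓ normalizer (T : Set G)
  have hlt : T < R' := SmallSimple.lt_inf_normalizer hR hTR
  have hcard : Nat.card T < Nat.card R' := by
    by_contra h
    exact hlt.ne (Subgroup.eq_of_le_of_card_ge hlt.le (not_lt.1 h))
  have hin : ∀ X : Subgroup G, IsPGroup 2 X → X ≠ ⊥ → normalizer (T : Set G) ≤ normalizer (X : Set G) →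
      normalizer (X : Set G) ≤ N := by
    intro X h1 h2 h3
    obtain ⟨K, hK, hle⟩ := exists_maximal (isTwoLocal_normalizer h1 h2)
    exact hle.trans (hmax K N hK hN R' (hR.to_le inf_le_left) ((inf_le_right.trans h3).trans hle)
      (inf_le_left.trans hRN) hcard).le
  refine (c.hM.2 N hN.1 ((c.le_sup_para hh).trans (sup_le ?_ ?_))).symm
  · exact ((centralizer_le (le_clos M (zc T))).trans (centralizer_le_normalizer _)).trans
      (hin _ (EA_zc T).isPGroup (zc_ne_bot c.isP c.ne_bot) (normalizer_le_normalizer_zc T))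
  · exact (c.para_le_normalizer_jEA hh).trans
      (hin _ (c.isP.to_le (jEA_le T)) (jEA_ne_bot c.isP c.ne_bot) (normalizer_le_normalizer_jEA T))

/-- Distinct maximal 2-locals have no common nontrivial 2-subgroup. -/
theorem no_common (hh : Hyp G) {M N U : Subgroup G} (hM : Cfsg.IsMaximalTwoLocal M)
    (hN : Cfsg.IsMaximalTwoLocal N) (hU : IsPGroup 2 U) (hU0 : U ≠ ⊥) (hUM : U ≤ M) (hUN : U ≤ N) :
    M = N := by
  haveI : Fact (Nat.Prime 2) := ⟨Nat.prime_two⟩
  by_contra hne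
  obtain ⟨⟨M', N', U'⟩, ⟨hM', hN', hne', hU', hUM', hUN'⟩, hbest⟩ := Set.exists_max_image
    {t : Subgroup G × Subgroup G × Subgroup G | Cfsg.IsMaximalTwoLocal t.1 ∧ Cfsg.IsMaximalTwoLocal t.2.1 ∧
      t.1 ≠ t.2.1 ∧ IsPGroup 2 t.2.2 ∧ t.2.2 ≤ t.1 ∧ t.2.2 ≤ t.2.1}
    (fun t => Nat.card t.2.2) (Set.toFinite _) ⟨⟨M, N, U⟩, hM, hN, hne, hU, hUM, hUN⟩
  have hU'0 : U' ≠ ⊥ := by
    intro e
    have h := hbest ⟨M, N, U⟩ ⟨hM, hN, hne, hU, hUM, hUN⟩
    simp only [e, Subgroup.card_bot] at h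
    exact hU0 (Subgroup.card_eq_one.1 (le_antisymm h Nat.card_pos))
  have hmax : ∀ K₁ K₂ : Subgroup G, Cfsg.IsMaximalTwoLocal K₁ → Cfsg.IsMaximalTwoLocal K₂ →
      ∀ X : Subgroup G, IsPGroup 2 X → X ≤ K₁ → X ≤ K₂ → Nat.card U' < Nat.card X → K₁ = K₂ := by
    intro K₁ K₂ h1 h2 X h3 h4 h5 h6
    by_contra h7
    exact absurd (hbest ⟨K₁, K₂, X⟩ ⟨h1, h2, h7, h3, h4, h5⟩) (not_le.2 h6)
  have hlt : ∀ {A B : Subgroup G}, A < B → Nat.card A < Nat.card B := fun {A B} h => by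
    by_contra h'
    exact h.ne (Subgroup.eq_of_le_of_card_ge h.le (not_lt.1 h'))
  obtain ⟨T₁, c₁, hUT₁⟩ := exists_ctx hM' hU' hUM'
  obtain ⟨T₂, c₂, hUT₂⟩ := exists_ctx hN' hU' hUN'
  rcases hUT₁.lt_or_eq with h₁ | rfl
  · rcases hUT₂.lt_or_eq with h₂ | rfl
    · obtain ⟨K, hK, hle⟩ := exists_maximal (isTwoLocal_normalizer hU' hU'0)
      have e₁ := hmax M' K hM' hK _ (c₁.isP.to_le inf_le_left) (inf_le_left.trans c₁.le)
        (inf_le_right.trans hle) (hlt (SmallSimple.lt_inf_normalizer c₁.isP h₁))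
      have e₂ := hmax N' K hN' hK _ (c₂.isP.to_le inf_le_left) (inf_le_left.trans c₂.le)
        (inf_le_right.trans hle) (hlt (SmallSimple.lt_inf_normalizer c₂.isP h₂))
      exact hne' (e₁.trans e₂.symm)
    · exact hne' (eq_of_not_sylow hh c₂ hM' c₁.isP h₁ c₁.le hmax).symm
  · rcases hUT₂.lt_or_eq with h₂ | rfl
    · exact hne' (eq_of_not_sylow hh c₁ hN' c₂.isP h₂ c₂.le hmax)
    · by_cases hsyl : ∀ R : Subgroup G, IsPGroup 2 R → U' ≤ R → R = U'
      · exact hne' (unique_over_sylow hh hsyl c₁ c₂)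
      · push Not at hsyl
        obtain ⟨R, hR, hUR, hRne⟩ := hsyl
        have hlt' : U' < R := hUR.lt_of_ne (Ne.symm hRne)
        have hgrow := SmallSimple.lt_inf_normalizer hR hlt'
        obtain ⟨K, hK, hle⟩ := exists_maximal (isTwoLocal_normalizer hU' hU'0)
        have hRK : R ⊓ normalizer (U' : Set G) ≤ K := inf_le_right.trans hle
        have e₁ := eq_of_not_sylow hh c₁ hK (hR.to_le inf_le_left) hgrow hRK hmax
        have e₂ := eq_of_not_sylow hh c₂ hK (hR.to_le inf_le_left) hgrow hRK hmax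
        exact hne' (e₁.trans e₂.symm)

/-- Let G be a finite group of even order with O₂(G) = 1 such that every 2-local subgroup of G is solvable, of characteristic 2, and has no section isomorphic to the symmetric group of degree 4. Then every maximal 2-local subgroup of G is strongly embedded in G. -/
theorem result {G : Type*} [Group G] [Finite G] (heven : Even (Nat.card G)) (hO : Cfsg.pCore 2 G = ⊥) (hloc : ∀ M : Subgroup G, Cfsg.IsTwoLocal M → Group.IsSolvable M ∧ Cfsg.IsOfCharacteristicTwo ↥M ∧ ¬ Cfsg.Involves (Equiv.Perm (Fin 4)) ↥M) (M : Subgroup G) (hM : Cfsg.IsMaximalTwoLocal M) : Cfsg.IsStronglyEmbedded M := by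
  haveI : Fact (Nat.Prime 2) := ⟨Nat.prime_two⟩
  have hh : Hyp G := hloc
  obtain ⟨T, c, -⟩ := exists_ctx hM (IsPGroup.of_bot (G := G) (p := 2)) bot_le
  refine ⟨?_, ?_, fun g hg => ?_⟩
  · intro htop
    obtain ⟨U, hU, hU0, hUM⟩ := hM.1
    have : U.Normal := normalizer_eq_top_iff.1 (hUM.symm.trans htop)
    exact hU0 (le_bot_iff.1 ((PCore.le_pCore hU).trans hO.le))
  · obtain ⟨n, hn⟩ := IsPGroup.iff_card.1 c.isP
    rcases n with _ | n
    · exact absurd (Subgroup.card_eq_one.1 (by simpa using hn)) c.ne_bot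
    · have h2 : 2 ∣ Nat.card T := ⟨2 ^ n, by rw [hn]; ring⟩
      exact even_iff_two_dvd.2 (h2.trans (Subgroup.card_dvd_of_le c.le))
  · rw [← Nat.not_even_iff_odd]
    intro he
    obtain ⟨x, hx⟩ := exists_prime_orderOf_dvd_card' 2 he.two_dvd
    rw [← orderOf_coe] at hx
    have hxP : IsPGroup 2 (zpowers (x : G)) := IsPGroup.of_card (n := 1) (by rw [Nat.card_zpowers, hx, pow_one])
    have hxne : zpowers (x : G) ≠ ⊥ := by
      rw [Subgroup.zpowers_ne_bot]
      intro e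
      rw [e, orderOf_one] at hx
      omega
    have heq := no_common hh hM (isMaximalTwoLocal_cj hM g) hxP hxne (zpowers_le.2 x.2.1) (zpowers_le.2 x.2.2)
    refine hg (normalizer_maximal_le hh hM (Subgroup.mem_normalizer_fintype fun y hy => ?_))
    rw [SetLike.mem_coe, heq]
    exact conj_mem_cj hy

end Cfsg.Agent.S3756
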