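import Cfsg.Statements.S3760
-- import your own Cfsg.Agent.* helpers here

set_option autoImplicit false
open Cfsg

namespace Cfsg.Agent.S3760

/-- Let the group G act transitively on a set X, let x ∈ X with stabilizer H = G_x, and let K ≤ H. Then N_G(K) acts transitively on the set of fixed points of K if and only if every G-conjugate of K contained in H is already an H-conjugate of K. -/
theorem result {G : Type*} [Group G] {X : Type*} [MulAction G X] (htrans : ∀ a b : X, ∃ g : G, g • a = b) (x : X) (K : Subgroup G) (hK : K ≤ MulAction.stabilizer G x) : (∀ a b : X, (∀ k ∈ K, k • a = a) → (∀ k ∈ K, k • b = b) → ∃ g ∈ Subgroup.normalizer (K : Set G), g • a = b) ↔ ∀ g : G, K.map (MulAut.conj g).toMonoidHom ≤ MulAction.stabilizer G x → ∃ h ∈ MulAction.stabilizer G x, K.map (MulAut.conj g).toMonoidHom = K.map (MulAut.conj h).toMonoidHom := by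
  constructor
  · intro h g hg
    have hfix : ∀ k ∈ K, k • (g⁻¹ • x) = g⁻¹ • x := by
      intro k hk
      have := MulAction.mem_stabilizer_iff.1 (hg (Subgroup.mem_map_of_mem _ hk))
      simp only [MulEquiv.toMonoidHom_eq_coe, MonoidHom.coe_coe, MulAut.conj_apply, mul_smul] at this
      calc k • (g⁻¹ • x) = g⁻¹ • g • k • g⁻¹ • x := by rw [inv_smul_smul]
        _ = g⁻¹ • x := by rw [this]
    obtain ⟨m, hm, hmx⟩ := h x (g⁻¹ • x) (fun k hk => MulAction.mem_stabilizer_iff.1 (hK hk)) hfix
    refine ⟨g * m, ?_, ?_⟩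
    · rw [MulAction.mem_stabilizer_iff, mul_smul, hmx, smul_inv_smul]
    · ext y
      simp only [Subgroup.mem_map, MulEquiv.toMonoidHom_eq_coe, MonoidHom.coe_coe, MulAut.conj_apply]
      constructor
      · rintro ⟨k, hk, rfl⟩
        exact ⟨m⁻¹ * k * m, (Subgroup.mem_normalizer_iff.1 hm _).2 (by simpa [mul_assoc] using hk), by group⟩
      · rintro ⟨k, hk, rfl⟩
        exact ⟨m * k * m⁻¹, (Subgroup.mem_normalizer_iff.1 hm _).1 hk, by group⟩
  · intro h a b ha hb
    have key : ∀ a : X, (∀ k ∈ K, k • a = a) → ∃ m ∈ Subgroup.normalizer (K : Set G), m • x = a := by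
      intro a ha
      obtain ⟨g, rfl⟩ := htrans x a
      obtain ⟨u, hu, he⟩ := h g⁻¹ (by
        rintro y ⟨k, hk, rfl⟩
        rw [MulAction.mem_stabilizer_iff]
        simp [mul_smul, ha k hk])
      refine ⟨g * u, ?_, by rw [mul_smul, MulAction.mem_stabilizer_iff.1 hu]⟩
      rw [Subgroup.mem_normalizer_iff]
      intro y
      have key : (MulAut.conj g⁻¹) y ∈ K.map (MulAut.conj g⁻¹).toMonoidHom ↔ y ∈ K :=
        Subgroup.mem_map_iff_mem (MulAut.conj g⁻¹).injective
      constructor
      · intro hy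
        have h2 : u * y * u⁻¹ ∈ K.map (MulAut.conj g⁻¹).toMonoidHom := he ▸ Subgroup.mem_map_of_mem _ hy
        obtain ⟨k, hk, e⟩ := h2
        simp only [MulEquiv.toMonoidHom_eq_coe, MonoidHom.coe_coe, MulAut.conj_apply] at e
        have : k = g * u * y * (g * u)⁻¹ := by
          calc k = g * (g⁻¹ * k * g⁻¹⁻¹) * g⁻¹ := by group
            _ = g * u * y * (g * u)⁻¹ := by rw [e]; group
        exact this ▸ hk
      · intro hy
        have h2 : g⁻¹ * (g * u * y * (g * u)⁻¹) * g⁻¹⁻¹ ∈ K.map (MulAut.conj u).toMonoidHom :=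
          he ▸ Subgroup.mem_map_of_mem (MulAut.conj g⁻¹).toMonoidHom hy
        obtain ⟨k, hk, e⟩ := h2
        simp only [MulEquiv.toMonoidHom_eq_coe, MonoidHom.coe_coe, MulAut.conj_apply] at e
        have : k = y := by
          calc k = u⁻¹ * (u * k * u⁻¹) * u := by group
            _ = y := by rw [e]; group
        exact this ▸ hk
    obtain ⟨m₁, hm₁, rfl⟩ := key a ha
    obtain ⟨m₂, hm₂, rfl⟩ := key b hb
    exact ⟨m₂ * m₁⁻¹, mul_mem hm₂ (inv_mem hm₁), by rw [mul_smul, inv_smul_smul]⟩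

end Cfsg.Agent.S3760
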