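import Cfsg.Statements.S3763
import Cfsg.Agent.Lib.PGroup.ExtraspecialTwo

set_option autoImplicit false
open Cfsg

namespace Cfsg.Agent.S3763

/-- The rank of an extraspecial 2-group is determined by the type. -/
theorem rank_of_type {E : Type*} [Group E] [Finite E] (hE : IsExtraspecial 2 E) {n : ℕ} (hn1 : 1 ≤ n)
    (hn : Nat.card E = 2 ^ (2 * n + 1)) {z : E} (hz : z ∈ Subgroup.center E) (hz1 : z ≠ 1)
    {e : Bool} {x y : ℕ → E} (hs : PGroup.IsSympSys z n x y)
    (hq : ∀ i, i < n → x i ^ 2 = z ^ PGroup.sympExp n e i ∧ y i ^ 2 = z ^ PGroup.sympExp n e i) :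
    (e = true → PRankLE 2 n E ∧ ¬ PRankLE 2 (n - 1) E) ∧
      (e = false → PRankLE 2 (n + 1) E ∧ ¬ PRankLE 2 n E) := by
  have : Fact (Nat.Prime 2) := ⟨Nat.prime_two⟩
  have hle : ∀ A : Subgroup E, IsMulCommutative A → Nat.card ↥A ≤ 2 ^ (n + 1) := by
    intro A hA
    have h := PGroup.extraspecial_abelian_card_le hE hA
    rw [hn, ← pow_succ', show 2 * n + 1 + 1 = (n + 1) * 2 by ring, pow_mul] at h
    exact (Nat.pow_le_pow_iff_left two_ne_zero).mp h
  obtain ⟨h1, h2⟩ := PGroup.sqCount_sympSys hE hz hz1 hn1 hn hs hq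
  constructor
  · intro he
    refine ⟨fun A hA hA2 => ?_, fun hcon => ?_⟩
    · by_contra hlt
      obtain ⟨a, ha⟩ := PGroup.card_eq_pow hE.1.1 A
      have hbig : 2 ^ (n + 1) ≤ Nat.card ↥A := by
        rw [ha] at hlt ⊢
        exact Nat.pow_le_pow_right two_pos ((Nat.pow_lt_pow_iff_right one_lt_two).mp (not_le.mp hlt))
      have hcnt := PGroup.two_mul_sqCount_of_elementary hE hA hA2 hn hbig
      have := h1 he
      rw [le_antisymm (hle A hA) hbig, hn] at hcnt
      have hp : (2 : ℕ) ^ (2 * n + 1) = 2 * 2 ^ (2 * n) := by ring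
      have hq' : (2 : ℕ) ^ (n + 1) = 2 * 2 ^ n := by ring
      have hpos : 0 < (2 : ℕ) ^ n := Nat.pow_pos two_pos
      omega
    · obtain ⟨A, -, -, hA, hA2, hc⟩ := PGroup.exists_elementary_of_sympSys hE hz hz1 hs hq
        (Nat.sub_le n 1) (fun i hi => by
          rw [(hq i (by omega)).1,
            show PGroup.sympExp n e i = 0 from if_neg fun hh => by omega, pow_zero])
      have := hcon A hA hA2
      rw [hc, show n - 1 + 1 = n by omega] at this
      exact absurd ((Nat.pow_le_pow_iff_right one_lt_two).mp this) (by omega)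
  · intro he
    refine ⟨fun A hA _ => hle A hA, fun hcon => ?_⟩
    obtain ⟨A, -, -, hA, hA2, hc⟩ := PGroup.exists_elementary_of_sympSys hE hz hz1 hs hq
      (le_refl n) (fun i hi => by
        rw [(hq i hi).1, show PGroup.sympExp n e i = 0 from if_neg fun hh => by simp [he] at hh,
          pow_zero])
    have := hcon A hA hA2
    rw [hc] at this
    exact absurd ((Nat.pow_le_pow_iff_right one_lt_two).mp this) (by omega)

/-- Let E be an extraspecial 2-group of order 2^(2n+1). Then the largest elementary abelian subgroups of E have order 2^n or 2^(n+1); and two extraspecial 2-groups of the same order whose largest elementary abelian subgroups have the same order are isomorphic. -/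
theorem result {E : Type*} [Group E] [Finite E] (hE : Cfsg.IsExtraspecial 2 E) (n : ℕ) (hn : Nat.card E = 2 ^ (2 * n + 1)) : ((Cfsg.PRankLE 2 n E ∧ ¬ Cfsg.PRankLE 2 (n - 1) E) ∨ (Cfsg.PRankLE 2 (n + 1) E ∧ ¬ Cfsg.PRankLE 2 n E)) ∧ ∀ (E' : Type*) [Group E'] [Finite E'], Cfsg.IsExtraspecial 2 E' → Nat.card E' = Nat.card E → (∀ k : ℕ, Cfsg.PRankLE 2 k E ↔ Cfsg.PRankLE 2 k E') → Nonempty (E ≃* E') := by
  have : Fact (Nat.Prime 2) := ⟨Nat.prime_two⟩
  have hn1 : 1 ≤ n := by
    obtain ⟨m, hm1, hm, -⟩ := PGroup.extraspecial_card hE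
    have := Nat.pow_right_injective le_rfl (hm.symm.trans hn)
    omega
  obtain ⟨z, hz, hz1⟩ := PGroup.exists_center_ne_one hE
  obtain ⟨e, x, y, hs, hg, hq⟩ := PGroup.exists_sympSys_two hE hn hz hz1
  obtain ⟨hr1, hr2⟩ := rank_of_type hE hn1 hn hz hz1 hs hq
  refine ⟨?_, fun E' _ _ hE' hc hrk => ?_⟩
  · cases e
    · exact Or.inr (hr2 rfl)
    · exact Or.inl (hr1 rfl)
  obtain ⟨z', hz', hz1'⟩ := PGroup.exists_center_ne_one hE'
  obtain ⟨e', x', y', hs', hg', hq'⟩ := PGroup.exists_sympSys_two hE' (hc.trans hn) hz' hz1'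
  obtain ⟨hd1, hd2⟩ := rank_of_type hE' hn1 (hc.trans hn) hz' hz1' hs' hq'
  have hee : e = e' := by
    cases e <;> cases e'
    · rfl
    · exact absurd ((hrk n).mpr (hd1 rfl).1) (hr2 rfl).2
    · exact absurd ((hrk n).mp (hr1 rfl).1) (hd2 rfl).2
    · rfl
  subst hee
  exact PGroup.nonempty_mulEquiv_of_sympSys hE hE' hz hz1 hz' hz1' hn (hc.trans hn) hs hs' hg hg'
    hq hq'

end Cfsg.Agent.S3763
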