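import Cfsg.Statements.S3764
import Cfsg.Agent.Lib.HallHigman.Extraspecial
import Cfsg.Agent.Lib.HallHigman.Bridge
import Cfsg.Agent.Lib.Coprime.Stabilize


set_option autoImplicit false
open Cfsg

namespace Cfsg.Agent.S3764

/-- Let p, q, r be distinct primes and let X, Q, V be subgroups of a finite group with X of order r, Q an extraspecial q-group normalized by X with C_Q(X) = Z(Q), and V an elementary abelian p-group normalized by X and Q on which XQ acts faithfully ((X ⊔ Q) ∩ C(V) = 1). If C_V(X) = 1, then q = 2, r = 2^n + 1 for some n, and Q has order 2^(2n+1). -/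
theorem result {G : Type*} [Group G] [Finite G] {p q r : ℕ} (hp : p.Prime) (hq : q.Prime) (hr : r.Prime) (hpq : p ≠ q) (hpr : p ≠ r) (hqr : q ≠ r) (X Q V : Subgroup G) (hX : Nat.card X = r) (hQ : Cfsg.IsExtraspecial q ↥Q) (hXQ : X ≤ Subgroup.normalizer (Q : Set G)) (hCQ : Q ⊓ Subgroup.centralizer (X : Set G) = (Subgroup.center ↥Q).map Q.subtype) (hV : Cfsg.IsElementaryAbelian p V) (hXV : X ≤ Subgroup.normalizer (V : Set G)) (hQV : Q ≤ Subgroup.normalizer (V : Set G)) (hfaith : (X ⊔ Q) ⊓ Subgroup.centralizer (V : Set G) = ⊥) (hCV : V ⊓ Subgroup.centralizer (X : Set G) = ⊥) : q = 2 ∧ ∃ n : ℕ, r = 2 ^ n + 1 ∧ Nat.card Q = 2 ^ (2 * n + 1) := by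
  classical
  haveI := Fact.mk hp; haveI := Fact.mk hq; haveI := Fact.mk hr
  obtain ⟨m, ρ, hρ1, hρ2⟩ := Agent.HallHigman.exists_rep V hV
  set K := AlgebraicClosure (ZMod p) with hK
  have hne : ∀ s : ℕ, s.Prime → p ≠ s → (s : K) ≠ 0 := fun s hs hps e => by
    rw [CharP.cast_eq_zero_iff K p] at e
    exact hps ((Nat.prime_dvd_prime_iff_eq hp hs).1 e)
  have hQc : Nat.card ((Subgroup.center ↥Q).map Q.subtype) = q := by
    rw [Subgroup.card_map_of_injective Q.subtype_injective, hQ.2]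
  haveI : IsCyclic X := isCyclic_of_prime_card hX
  obtain ⟨⟨x, hxX⟩, hxgen⟩ := IsCyclic.exists_generator (α := X)
  have hox : orderOf x = r := by
    rw [← hX, ← orderOf_eq_card_of_forall_mem_zpowers hxgen, Subgroup.orderOf_mk]
  have hxC : ∀ g : G, x * g = g * x → g ∈ Subgroup.centralizer (X : Set G) := by
    intro g hg
    refine Subgroup.mem_centralizer_iff.2 fun y hy => ?_
    obtain ⟨k, hk⟩ := Subgroup.mem_zpowers_iff.1 (hxgen ⟨y, hy⟩)
    have h1 : x ^ k = y := congrArg Subtype.val hk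
    rw [← h1]
    exact (Commute.zpow_left hg k : Commute (x ^ k) g)
  haveI : IsCyclic (Subgroup.center ↥Q) := isCyclic_of_prime_card hQ.2
  obtain ⟨z, hzgen⟩ := IsCyclic.exists_generator (α := Subgroup.center ↥Q)
  have hoz : orderOf z = q := by rw [orderOf_eq_card_of_forall_mem_zpowers hzgen, hQ.2]
  have hxz : ∀ c : Subgroup.center ↥Q, x * ((c : Q) : G) = ((c : Q) : G) * x := fun c => by
    have : ((c : Q) : G) ∈ Q ⊓ Subgroup.centralizer (X : Set G) := hCQ ▸ ⟨_, c.2, rfl⟩
    exact Subgroup.mem_centralizer_iff.1 this.2 x hxX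
  let N := Subgroup.normalizer (V : Set G)
  let π0 : Q →* Module.End K (Fin m → K) := ρ.comp (Subgroup.inclusion hQV)
  let xN : N := ⟨x, hXV hxX⟩
  set U : Module.End K (Fin m → K) := π0 (z : Q) with hU
  have hUq : U ^ q = 1 := by
    rw [hU, ← map_pow, ← Subgroup.coe_pow, ← hoz, pow_orderOf_eq_one]; exact map_one π0
  have hU1 : U ≠ 1 := by
    intro e
    have h1 : ((z : Q) : G) ∈ (X ⊔ Q) ⊓ Subgroup.centralizer (V : Set G) :=
      ⟨Subgroup.mem_sup_right (z : Q).2, (hρ1 _).1 e⟩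
    rw [hfaith, Subgroup.mem_bot] at h1
    rw [show z = 1 from Subtype.ext (Subtype.ext h1), orderOf_one] at hoz
    exact hq.ne_one hoz.symm
  haveI : NeZero (q : K) := ⟨hne q hq hpq⟩
  haveI : NeZero (r : K) := ⟨hne r hr hpr⟩
  obtain ⟨ζq, hζq⟩ := HasEnoughRootsOfUnity.exists_primitiveRoot K q
  obtain ⟨ζr, hζr⟩ := HasEnoughRootsOfUnity.exists_primitiveRoot K r
  obtain ⟨i, hi0, hiW⟩ := Agent.HallHigman.exists_eigen_ne hζq (hne q hq hpq) hq.pos hUq hU1
  set W := Module.End.eigenspace U (ζq ^ (i : ℕ)) with hW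
  have hcomm : ∀ T : Module.End K (Fin m → K), Commute U T → ∀ w ∈ W, T w ∈ W := fun T hT w hw => by
    rw [hW, Module.End.mem_eigenspace_iff] at hw ⊢
    rw [← Module.End.mul_apply, hT.eq, Module.End.mul_apply, hw, map_smul]
  have hUQ : ∀ g : Q, Commute U (π0 g) := fun g => by
    rw [hU, Commute, SemiconjBy, ← map_mul, ← map_mul, Subgroup.mem_center_iff.1 z.2 g]
  have hUx : Commute U (ρ xN) := by
    rw [hU, Commute, SemiconjBy]
    show ρ _ * ρ _ = ρ _ * ρ _
    rw [← map_mul, ← map_mul]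
    exact congrArg ρ (Subtype.ext (hxz z).symm)
  haveI : Nontrivial W := Submodule.nontrivial_iff_ne_bot.2 hiW
  let π : Q →* Module.End K W :=
    { toFun := fun g => (π0 g).restrict (hcomm _ (hUQ g))
      map_one' := LinearMap.ext fun v => Subtype.ext (by simp)
      map_mul' := fun a b => LinearMap.ext fun v => Subtype.ext (by simp) }
  have hscal : ∀ c : Subgroup.center ↥Q, ∃! a : K, π (c : Q) = a • 1 := by
    intro c
    obtain ⟨k, rfl⟩ := (mem_powers_iff_mem_zpowers.2 (hzgen c) : c ∈ Submonoid.powers z)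
    refine ⟨(ζq ^ (i : ℕ)) ^ k, ?_, fun a ha => ?_⟩
    · refine LinearMap.ext fun v => Subtype.ext ?_
      show π0 ((z ^ k : Subgroup.center ↥Q) : Q) (v : Fin m → K) = _
      rw [Subgroup.coe_pow, map_pow]
      exact Agent.HallHigman.pow_apply_of_eigen (Module.End.mem_eigenspace_iff.1 v.2) k
    · obtain ⟨v, hv⟩ := exists_ne (0 : W)
      have h1 : π ((z ^ k : Subgroup.center ↥Q) : Q) v = a • v := by rw [ha]; rfl
      have h2 : π ((z ^ k : Subgroup.center ↥Q) : Q) v = (ζq ^ (i : ℕ)) ^ k • v := by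
        refine Subtype.ext ?_
        show π0 ((z ^ k : Subgroup.center ↥Q) : Q) (v : Fin m → K) = _
        rw [Subgroup.coe_pow, map_pow]
        exact Agent.HallHigman.pow_apply_of_eigen (Module.End.mem_eigenspace_iff.1 v.2) k
      exact smul_left_injective K hv (h1.symm.trans h2)
  choose lam hlam hlamu using hscal
  let lamh : Subgroup.center ↥Q →* K :=
    { toFun := lam
      map_one' := (hlamu 1 1 (by simp)).symm
      map_mul' := fun a b => (hlamu _ _ (by
        rw [Subgroup.coe_mul, map_mul, hlam a, hlam b, smul_mul_smul_comm, mul_one])).symm }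
  have hlinj : ∀ c, lamh c = 1 → c = 1 := by
    intro c hc
    obtain ⟨k, rfl⟩ := (mem_powers_iff_mem_zpowers.2 (hzgen c) : c ∈ Submonoid.powers z)
    have h1 : lam z = ζq ^ (i : ℕ) := (hlamu z _ (by
      refine LinearMap.ext fun v => Subtype.ext ?_
      exact Module.End.mem_eigenspace_iff.1 v.2)).symm
    change lamh (z ^ k) = 1 at hc
    rw [map_pow, show lamh z = lam z from rfl, h1, ← pow_mul, hζq.pow_eq_one_iff_dvd] at hc
    rcases hq.dvd_mul.1 hc with h | h
    · exact absurd (Nat.le_of_dvd (Nat.pos_of_ne_zero hi0) h) (not_le_of_gt i.2)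
    · obtain ⟨t, rfl⟩ := h
      show z ^ (q * t) = 1
      rw [pow_mul, ← hoz, pow_orderOf_eq_one, one_pow]
  let σ : MulAut Q := Subgroup.normalizerMonoidHom Q ⟨x, hXQ hxX⟩
  have hσpow : ∀ k : ℕ, ∀ a : Q, (((σ ^ k) a : Q) : G) = x ^ k * a * (x ^ k)⁻¹ := fun k a => by
    rw [← map_pow]; rfl
  have hfix : ∀ w : W, (ρ xN).restrict (hcomm _ hUx) w = w → w = 0 := fun w hw => Subtype.ext
    (hρ2 xN (fun v hv he => Subgroup.mem_bot.1 (hCV ▸ ⟨hv, hxC v he⟩ : v ∈ (⊥ : Subgroup G))) w
      (congrArg Subtype.val hw))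
  exact Agent.HallHigman.eq_pow_add_one_of_scalar hr hQ (hne q hq hpq) (hne r hr hpr) hζr π lamh hlam hlinj σ
    (MulEquiv.ext fun a => Subtype.ext (by rw [hσpow, ← hox, pow_orderOf_eq_one]; simp))
    (fun c hc => Subtype.ext (by
      rw [← pow_one σ, hσpow, pow_one, hxz ⟨c, hc⟩, mul_inv_cancel_right]))
    (fun a ha => by
      set c := σ a * a⁻¹ with hc
      have h1 : x * (a : G) * x⁻¹ = (c : G) * (a : G) := by
        show ((σ a : Q) : G) = _
        rw [hc]; simp
      have hzp : (orderOf x).Coprime (orderOf (c : G)) := by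
        rw [hox, Subgroup.orderOf_coe]
        refine Nat.Coprime.coprime_dvd_right ?_ ((Nat.coprime_primes hr hq).2 hqr.symm)
        exact orderOf_dvd_of_pow_eq_one (Agent.PGroup.special_center_pow hQ.1 ha)
      have h2 : (a : G) ∈ Q ⊓ Subgroup.centralizer (X : Set G) :=
        ⟨a.2, hxC _ (Agent.Coprime.commute_of_translate h1 (hxz ⟨c, ha⟩) hzp).eq⟩
      rw [hCQ] at h2
      obtain ⟨a', ha', he⟩ := h2
      rwa [show a' = a from Subtype.ext he] at ha')
    ((ρ xN).restrict (hcomm _ hUx))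
    (by
      rw [Module.End.pow_restrict]
      refine LinearMap.ext fun w => Subtype.ext ?_
      show (ρ xN ^ r) (w : Fin m → K) = _
      rw [← map_pow, show xN ^ r = 1 from Subtype.ext (by rw [Subgroup.coe_pow, ← hox, pow_orderOf_eq_one]; rfl), map_one]
      rfl)
    (fun a => LinearMap.ext fun w => Subtype.ext (by
      show ρ xN (π0 a (w : Fin m → K)) = π0 (σ a) (ρ xN (w : Fin m → K))
      rw [← Module.End.mul_apply, ← Module.End.mul_apply]
      show (ρ xN * ρ _) _ = (ρ _ * ρ xN) _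
      rw [← map_mul, ← map_mul]
      congr 2
      refine Subtype.ext ?_
      show x * (a : G) = x * a * x⁻¹ * x
      rw [inv_mul_cancel_right]))
    hfix

end Cfsg.Agent.S3764
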