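import Cfsg.Statements.S3767
import Cfsg.Agent.Lib.PGroup.Extraspecial
import Cfsg.Agent.Lib.PGroup.Class2
import Cfsg.Agent.Lib.Coprime.Stabilize
import Cfsg.Agent.Lib.PGroup.Basic


set_option autoImplicit false
open Cfsg

namespace Cfsg.Agent.S3767


open Polynomial
open scoped commutatorElement

section Arith

variable {h : ℕ} [NeZero h]

/-- A function on units invariant under multiplication by a subgroup has sum divisible by its order. -/
theorem card_dvd_sum (m : (ZMod h)ˣ → ℕ) (S : Subgroup (ZMod h)ˣ)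
    (hm : ∀ g ∈ S, ∀ u, m (g * u) = m u) : Nat.card S ∣ ∑ u, m u := by
  classical
  have := Fintype.ofFinite S
  have := Fintype.ofFinite ((ZMod h)ˣ ⧸ S)
  rw [← Equiv.sum_comp (Subgroup.groupEquivQuotientProdSubgroup (s := S)).symm, Fintype.sum_prod_type]
  refine Finset.dvd_sum fun q _ => ?_
  have hc : ∀ s : S, m ((Subgroup.groupEquivQuotientProdSubgroup (s := S)).symm (q, s)) = m q.out := by
    intro s
    have h1 : (QuotientGroup.mk ((Subgroup.groupEquivQuotientProdSubgroup (s := S)).symm (q, s)) :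
        (ZMod h)ˣ ⧸ S) = q :=
      congrArg Prod.fst ((Subgroup.groupEquivQuotientProdSubgroup (s := S)).apply_symm_apply (q, s))
    have h2 := QuotientGroup.eq.1 (h1.trans (QuotientGroup.out_eq' q).symm)
    have h3 := hm _ h2 ((Subgroup.groupEquivQuotientProdSubgroup (s := S)).symm (q, s))
    rw [mul_comm, mul_inv_cancel_left] at h3
    exact h3.symm
  rw [Finset.sum_congr rfl fun s _ => hc s, Finset.sum_const, Finset.card_univ,
    ← Nat.card_eq_fintype_card, smul_eq_mul]
  exact dvd_mul_right _ _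

/-- If the subgroup generated by `P` and `-1` has order dividing `2 * n`, then `P ^ n = ±1`. -/
theorem pow_eq_or_eq (hh : 2 < h) (P : (ZMod h)ˣ) (n : ℕ) (m : (ZMod h)ˣ → ℕ) (hsum : ∑ u, m u = 2 * n)
    (hP : ∀ u, m (P * u) = m u) (hneg : ∀ u, m (-1 * u) = m u) : P ^ n = 1 ∨ P ^ n = -1 := by
  have hne : (-1 : (ZMod h)ˣ) ≠ 1 := by
    haveI := Fact.mk hh
    intro e
    exact ZMod.neg_one_ne_one (n := h) (congrArg Units.val e)
  let S : Subgroup (ZMod h)ˣ :=
    { carrier := {g | ∀ u, m (g * u) = m u}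
      one_mem' := fun u => by rw [one_mul]
      mul_mem' := fun {a b} ha hb u => by rw [mul_assoc, ha, hb]
      inv_mem' := fun {a} ha u => by
        have := ha (a⁻¹ * u)
        rw [mul_inv_cancel_left] at this
        exact this.symm }
  have hPS : Subgroup.zpowers P ≤ S := Subgroup.zpowers_le.2 hP
  by_cases hmem : (-1 : (ZMod h)ˣ) ∈ Subgroup.zpowers P
  · have hd := card_dvd_sum m (Subgroup.zpowers P) fun g hg => hPS hg
    rw [hsum, Nat.card_zpowers] at hd
    have hsq : (P ^ n) ^ 2 = 1 := by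
      rw [← pow_mul, mul_comm]; exact orderOf_dvd_iff_pow_eq_one.1 hd
    refine or_iff_not_imp_left.2 fun h1 => ?_
    by_contra h2
    classical
    have := IsCyclic.card_pow_eq_one_le (α := Subgroup.zpowers P) two_pos
    have hsub : ({1, ⟨P ^ n, Subgroup.pow_mem _ (Subgroup.mem_zpowers P) n⟩, ⟨-1, hmem⟩} :
        Finset (Subgroup.zpowers P)).card ≤ 2 := by
      refine le_trans (Finset.card_le_card ?_) this
      intro y hy
      simp only [Finset.mem_insert, Finset.mem_singleton] at hy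
      rw [Finset.mem_filter]
      refine ⟨Finset.mem_univ _, Subtype.ext ?_⟩
      rcases hy with rfl | rfl | rfl
      · simp
      · exact hsq
      · simp
    rw [Finset.card_eq_three.2 ⟨_, _, _, fun e => h1 (congrArg Subtype.val e).symm,
      fun e => hne (congrArg Subtype.val e).symm, fun e => h2 (congrArg Subtype.val e), rfl⟩] at hsub
    omega
  · haveI : Fact (Nat.Prime 2) := ⟨Nat.prime_two⟩
    have hd := card_dvd_sum m (Subgroup.zpowers P ⊔ Subgroup.zpowers (-1)) fun g hg =>
      (sup_le hPS (Subgroup.zpowers_le.2 hneg) : _ ≤ S) hg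
    rw [Agent.PGroup.card_sup_zpowers _ hmem (by rw [neg_one_sq]; exact one_mem _), hsum, Nat.card_zpowers, mul_comm 2 n] at hd
    exact Or.inl (orderOf_dvd_iff_pow_eq_one.1 (Nat.dvd_of_mul_dvd_mul_right two_pos hd))

end Arith

section Mat

variable {K : Type} [Field K]

theorem roots_reverse_prod : ∀ s : Multiset K, (0 : K) ∉ s →
    ((s.map fun a => X - C a).prod.reverse).roots = s.map (·⁻¹) ∧ (s.map fun a => X - C a).prod.reverse ≠ 0 := by
  intro s
  induction s using Multiset.induction_on with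
  | empty => intro _; simp [show (1 : K[X]).reverse = 1 by rw [← C_1, reverse_C]]
  | cons a s ih =>
    intro h0
    rw [Multiset.mem_cons, not_or] at h0
    obtain ⟨ih1, ih2⟩ := ih h0.2
    have ha : a ≠ 0 := Ne.symm h0.1
    have hr : (X - C a).reverse = C (-a) * (X - C a⁻¹) := by
      rw [reverse, natDegree_X_sub_C, reflect_sub, reflect_C]
      rw [show reflect 1 (X : K[X]) = 1 by
        rw [← pow_one (X : K[X]), reflect_monomial]; rfl]
      rw [mul_sub, ← C_mul, neg_mul, mul_inv_cancel₀ ha]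
      simp only [pow_one, C_neg, C_1]
      ring
    have hne : C (-a) * (X - C a⁻¹) ≠ 0 :=
      mul_ne_zero (C_ne_zero.2 (neg_ne_zero.2 ha)) (X_sub_C_ne_zero _)
    rw [Multiset.map_cons, Multiset.prod_cons, reverse_mul_of_domain, hr, Multiset.map_cons]
    refine ⟨?_, mul_ne_zero hne ih2⟩
    rw [roots_mul (mul_ne_zero hne ih2), ih1, roots_C_mul _ (neg_ne_zero.2 ha), roots_X_sub_C,
      Multiset.singleton_add]

/-- The key lemma on a semiregular isometry. -/
theorem dvd_of_isometry {p : ℕ} [Fact p.Prime] {N n h : ℕ} (hN : N = 2 * n) (M J : Matrix (Fin N) (Fin N) (ZMod p))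
    (hh : 2 < h) (hcop : h.Coprime p) (hJ : J.det ≠ 0) (hiso : M.transpose * J * M = J) (hMh : M ^ h = 1)
    (hfpf : ∀ k, 0 < k → k < h → (M ^ k - 1).det ≠ 0) : h ∣ p ^ n + 1 ∨ h ∣ p ^ n - 1 := by
  classical
  rcases Nat.eq_zero_or_pos n with rfl | hn
  · simp
  have : NeZero h := ⟨by omega⟩
  let L := AlgebraicClosure (ZMod p)
  let φ : ZMod p →+* L := algebraMap _ _
  let M' : Matrix (Fin N) (Fin N) L := φ.mapMatrix M
  let J' : Matrix (Fin N) (Fin N) L := φ.mapMatrix J
  set g := M'.charpoly with hg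
  have hgmap : g = M.charpoly.map φ := Matrix.charpoly_map M φ
  have hsplit : g.Splits := IsAlgClosed.splits g
  have hdetM : M.det ≠ 0 := by
    intro e
    have := congrArg Matrix.det hMh
    rw [Matrix.det_pow, e, zero_pow (by omega), Matrix.det_one] at this
    exact zero_ne_one this
  have hMu : IsUnit M' := (Matrix.isUnit_iff_isUnit_det _).2 (by
    rw [← RingHom.map_det]; exact ((isUnit_iff_ne_zero.2 hdetM).map φ))
  have hJu : IsUnit J'.det := by rw [← RingHom.map_det]; exact (isUnit_iff_ne_zero.2 hJ).map φ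
  have hiso' : M'.transpose * J' * M' = J' := by
    rw [show M'.transpose = φ.mapMatrix M.transpose from rfl, ← map_mul, ← map_mul, hiso]
  have hinvcp : M'⁻¹.charpoly = g := by
    have h1 : M'⁻¹ = J'⁻¹ * (M'.transpose * J') := by
      refine Matrix.inv_eq_left_inv ?_
      rw [Matrix.mul_assoc, hiso', Matrix.nonsing_inv_mul _ hJu]
    rw [h1, Matrix.charpoly_mul_comm, Matrix.mul_nonsing_inv_cancel_right _ _ hJu, Matrix.charpoly_transpose]
  have hroot : ∀ a ∈ g.roots, ∀ k, a ^ k = 1 → (M' ^ k - 1).det = 0 := by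
    intro a ha k hk
    have h0 : (Matrix.scalar (Fin N) a - M').det = 0 := by
      rw [← Matrix.eval_charpoly]; exact (mem_roots'.1 ha).2
    have h1 := (Matrix.scalar_commute a (fun r => mul_comm a r) M').geom_sum₂_mul k
    rw [← map_pow, hk, map_one] at h1
    rw [← neg_sub, Matrix.det_neg, ← h1, Matrix.det_mul, h0, mul_zero, mul_zero]
  have hpow1 : ∀ a ∈ g.roots, a ^ h = 1 := by
    intro a ha
    have h0 : (Matrix.scalar (Fin N) a - M').det = 0 := by
      rw [← Matrix.eval_charpoly]; exact (mem_roots'.1 ha).2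
    have h1 := (Matrix.scalar_commute a (fun r => mul_comm a r) M').geom_sum₂_mul h
    rw [← map_pow, show M' ^ h = 1 by rw [← map_pow, hMh, map_one]] at h1
    have h2 : (Matrix.scalar (Fin N) (a ^ h - 1)).det = 0 := by
      rw [map_sub, map_one, ← h1, Matrix.det_mul, h0, mul_zero]
    rw [Matrix.scalar_apply, Matrix.det_diagonal, Finset.prod_const] at h2
    exact sub_eq_zero.1 (eq_zero_of_pow_eq_zero h2)
  have hprim : ∀ a ∈ g.roots, IsPrimitiveRoot a h := by
    intro a ha
    refine IsPrimitiveRoot.mk_of_lt a (by omega) (hpow1 a ha) fun k hk0 hkh hk => ?_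
    have := hroot a ha k hk
    rw [show M' ^ k - 1 = φ.mapMatrix (M ^ k - 1) by rw [map_sub, map_pow, map_one], ← RingHom.map_det,
      map_eq_zero] at this
    exact hfpf k hk0 hkh this
  have hcard : g.roots.card = 2 * n := by
    rw [← hsplit.natDegree_eq_card_roots, hg, Matrix.charpoly_natDegree_eq_dim, Fintype.card_fin, hN]
  obtain ⟨ζ, hζ⟩ := Multiset.exists_mem_of_ne_zero (s := g.roots) (by
    intro e; rw [e, Multiset.card_zero] at hcard; omega)
  have hζp := hprim ζ hζ
  have h0 : (0 : L) ∉ g.roots := fun h0 => by simpa using (hprim 0 h0).ne_zero (by omega)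
  have hrinv : g.roots.map (·⁻¹) = g.roots := by
    have h1 := Matrix.charpoly_inv M' hMu
    rw [hinvcp, ← Matrix.reverse_charpoly, ← hg] at h1
    have h2 : g.roots = g.reverse.roots := by
      conv_lhs => rw [h1]
      rw [show ((-1 : L[X])) ^ Fintype.card (Fin N) * C (Ring.inverse M'.det) =
        C ((-1) ^ Fintype.card (Fin N) * Ring.inverse M'.det) by simp [map_mul, map_pow]]
      refine roots_C_mul _ ?_
      have hdu : IsUnit M'.det := (Matrix.isUnit_iff_isUnit_det _).1 hMu
      exact mul_ne_zero (pow_ne_zero _ (by simp)) (by rw [Ring.inverse_eq_inv']; exact inv_ne_zero hdu.ne_zero)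
    conv_rhs => rw [h2, hsplit.eq_prod_roots_of_monic (Matrix.charpoly_monic M')]
    rw [(roots_reverse_prod g.roots h0).1]
  have hrfrob : g.roots.map (frobenius L p) = g.roots := by
    conv_rhs => rw [← show g.map (frobenius L p) = g by
      rw [hgmap, Polynomial.map_map]
      congr 1
      ext a
      rw [RingHom.comp_apply, frobenius_def, ← map_pow, ZMod.pow_card]]
    rw [hsplit.roots_map]
  let z : (ZMod h)ˣ → L := fun u => ζ ^ (u : ZMod h).val
  have hzmul : ∀ (k : ℕ) (w u : ZMod h), (k : ZMod h) * u = w → ζ ^ w.val = (ζ ^ u.val) ^ k := by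
    intro k w u hw
    rw [← pow_mul]
    refine (fun {a b : ℕ} (e : a ≡ b [MOD orderOf ζ]) => ?_ : ∀ {a b : ℕ}, a ≡ b [MOD orderOf ζ] → ζ ^ a = ζ ^ b) ?_
    · rw [← pow_mod_orderOf, e, pow_mod_orderOf]
    rw [← hζp.eq_orderOf, ← ZMod.natCast_eq_natCast_iff]
    push_cast
    rw [ZMod.natCast_val, ZMod.cast_id', id, ZMod.natCast_val, ZMod.cast_id', id, ← hw, mul_comm]
  let m : (ZMod h)ˣ → ℕ := fun u => g.roots.count (z u)
  have hsum : ∑ u, m u = 2 * n := by
    rw [← hcard, ← Multiset.toFinset_sum_count_eq g.roots]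
    have hinj : Function.Injective z := fun u v e =>
      Units.ext (ZMod.val_injective h (hζp.pow_inj (ZMod.val_lt _) (ZMod.val_lt _) e))
    rw [show ∑ u, m u = ∑ a ∈ Finset.univ.image z, g.roots.count a from
      (Finset.sum_image (f := fun a => g.roots.count a) fun u _ v _ e => hinj e).symm]
    refine (Finset.sum_subset ?_ fun a _ ha => Multiset.count_eq_zero.2 (by simpa using ha)).symm
    intro a ha
    rw [Multiset.mem_toFinset] at ha
    obtain ⟨i, hi, hic, rfl⟩ := hζp.isPrimitiveRoot_iff.1 (hprim a ha)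
    refine Finset.mem_image.2 ⟨ZMod.unitOfCoprime i hic, Finset.mem_univ _, ?_⟩
    simp only [z, ZMod.coe_unitOfCoprime, ZMod.val_natCast, Nat.mod_eq_of_lt hi]
  let P : (ZMod h)ˣ := ZMod.unitOfCoprime p hcop.symm
  have hP : ∀ u, m (P * u) = m u := by
    intro u
    show g.roots.count (ζ ^ _) = g.roots.count (ζ ^ _)
    rw [hzmul p ((P * u : (ZMod h)ˣ) : ZMod h) (u : ZMod h) (by simp [P]), ← frobenius_def]
    conv_lhs => rw [← hrfrob]
    exact Multiset.count_map_eq_count' _ _ (frobenius_inj L p) _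
  have hneg : ∀ u, m (-1 * u) = m u := by
    intro u
    show g.roots.count (ζ ^ _) = g.roots.count (ζ ^ _)
    have hz1 : ζ ^ (h - 1) = ζ⁻¹ := by
      refine eq_inv_of_mul_eq_one_left ?_
      rw [← pow_succ, Nat.sub_add_cancel (by omega), hζp.pow_eq_one]
    rw [hzmul (h - 1) ((-1 * u : (ZMod h)ˣ) : ZMod h) (u : ZMod h)
      (by rw [Nat.cast_sub (by omega)]; simp), ← pow_mul, mul_comm, pow_mul, hz1, inv_pow]
    conv_lhs => rw [← hrinv]
    exact Multiset.count_map_eq_count' _ _ inv_injective _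
  rcases pow_eq_or_eq hh P n m hsum hP hneg with e | e
  · right
    rw [← ZMod.natCast_eq_zero_iff, Nat.cast_sub (Nat.one_le_pow _ _ (Fact.out : p.Prime).pos)]
    have := congrArg Units.val e
    simp only [P, Units.val_pow_eq_pow_val, ZMod.coe_unitOfCoprime, Units.val_one] at this
    push_cast
    rw [this, sub_self]
  · left
    rw [← ZMod.natCast_eq_zero_iff]
    have := congrArg Units.val e
    simp only [P, Units.val_pow_eq_pow_val, ZMod.coe_unitOfCoprime, Units.val_neg, Units.val_one] at this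
    push_cast
    rw [this, neg_add_cancel]

end Mat

/-- The matrix data attached to a semiregular automorphism fixing the centre of an extraspecial group. -/
theorem exists_matrix {Q : Type*} [Group Q] [Finite Q] {p : ℕ} [Fact p.Prime] (hQ : Cfsg.IsExtraspecial p Q)
    {W : Type*} [AddCommGroup W] [Module (ZMod p) W] (mk : Q → W) (hsurj : ∀ v, ∃ a, mk a = v)
    (hmul : ∀ a b, mk (a * b) = mk a + mk b) (hker : ∀ a, mk a = 0 ↔ a ∈ Subgroup.center Q)
    {n h : ℕ} (hn : Nat.card Q = p ^ (2 * n + 1)) (σ : MulAut Q) (hσh : σ ^ h = 1)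
    (hcen : ∀ z ∈ Subgroup.center Q, σ z = z)
    (hfpf : ∀ k, 0 < k → k < h → ∀ a : Q, (σ ^ k) a * a⁻¹ ∈ Subgroup.center Q → a ∈ Subgroup.center Q) :
    ∃ N : ℕ, N = 2 * n ∧ ∃ M J : Matrix (Fin N) (Fin N) (ZMod p), J.det ≠ 0 ∧ M.transpose * J * M = J ∧
      M ^ h = 1 ∧ ∀ k, 0 < k → k < h → (M ^ k - 1).det ≠ 0 := by
  classical
  set Z := Subgroup.center Q with hZ
  have hs := hQ.1
  have hcom : ∀ a b : Q, ⁅a, b⁆ ∈ Z := Agent.PGroup.special_commutator_mem_center hs
  let φ : Q →* Multiplicative W := MonoidHom.mk' (fun a => Multiplicative.ofAdd (mk a))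
    (fun a b => by rw [hmul]; rfl)
  have hφs : Function.Surjective φ := fun v => ⟨(hsurj v.toAdd).choose, congrArg Multiplicative.ofAdd (hsurj v.toAdd).choose_spec⟩
  have hφk : φ.ker = Z := by
    ext a
    exact ofAdd_eq_one.trans (hker a)
  have : Finite W := Finite.of_surjective mk hsurj
  have hinv : ∀ a b, mk a = mk b → a⁻¹ * b ∈ Z := fun a b e => by
    rw [← hφk, MonoidHom.mem_ker, map_mul, map_inv]
    exact inv_mul_eq_one.2 (congrArg Multiplicative.ofAdd e)
  let e : Z ≃* Multiplicative (ZMod p) := mulEquivOfPrimeCardEq hQ.2 (by simp)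
  let f : Q → Q → ZMod p := fun a b => (e ⟨⁅a, b⁆, hcom a b⟩).toAdd
  have fl : ∀ a a' b, f (a * a') b = f a b + f a' b := fun a a' b => by
    simp only [f, ← toAdd_mul, ← map_mul]
    congr 2
    exact Subtype.ext (Agent.PGroup.commutator_mul_left (hcom a' b))
  have fr : ∀ a b b', f a (b * b') = f a b + f a b' := fun a b b' => by
    simp only [f, ← toAdd_mul, ← map_mul]
    congr 2
    exact Subtype.ext (Agent.PGroup.commutator_mul_right (hcom a b'))
  have f0 : ∀ a b, f a b = 0 ↔ a * b = b * a := fun a b => by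
    rw [← commutatorElement_eq_one_iff_mul_comm]
    simp only [f, toAdd_eq_zero, map_eq_one_iff e e.injective, Subgroup.mk_eq_one]
  choose out hout using hsurj
  let c : W → W → ZMod p := fun v w => f (out v) (out w)
  have hc : ∀ a b, c (mk a) (mk b) = f a b := by
    intro a b
    have hz := hinv a (out (mk a)) (hout _).symm
    have hw := hinv b (out (mk b)) (hout _).symm
    show f (out (mk a)) (out (mk b)) = f a b
    obtain ⟨z, hz, hz'⟩ : ∃ z ∈ Z, out (mk a) = a * z := ⟨_, hz, (mul_inv_cancel_left _ _).symm⟩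
    obtain ⟨w, hw, hw'⟩ : ∃ w ∈ Z, out (mk b) = b * w := ⟨_, hw, (mul_inv_cancel_left _ _).symm⟩
    rw [hz', hw', fl, fr, fr, (f0 z b).2 (Subgroup.mem_center_iff.1 hz _).symm,
      (f0 z w).2 (Subgroup.mem_center_iff.1 hz _).symm, (f0 a w).2 (Subgroup.mem_center_iff.1 hw _)]
    simp
  have hsurj : ∀ v, ∃ a, mk a = v := fun v => ⟨out v, hout v⟩
  have cl : ∀ u v w, c (u + v) w = c u w + c v w := fun u v w => by
    obtain ⟨a, rfl⟩ := hsurj u
    obtain ⟨b, rfl⟩ := hsurj v
    obtain ⟨d, rfl⟩ := hsurj w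
    rw [← hmul, hc, hc, hc, fl]
  have cr : ∀ u v w, c u (v + w) = c u v + c u w := fun u v w => by
    obtain ⟨a, rfl⟩ := hsurj u
    obtain ⟨b, rfl⟩ := hsurj v
    obtain ⟨d, rfl⟩ := hsurj w
    rw [← hmul, hc, hc, hc, fr]
  let B : LinearMap.BilinForm (ZMod p) W :=
    LinearMap.mk₂ (ZMod p) c cl
      (fun r u w => ((AddMonoidHom.mk' (fun u => c u w) (fun u v => cl u v w)).toZModLinearMap p).map_smul r u)
      cr (fun r u w => ((AddMonoidHom.mk' (c u) (cr u)).toZModLinearMap p).map_smul r w)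
  have hB : ∀ a b, B (mk a) (mk b) = f a b := hc
  have hmk : ∀ a d, mk a = mk d → mk (σ a) = mk (σ d) := fun a d e => by
    have h1 := hinv a d e
    have h2 : σ d = σ a * (a⁻¹ * d) := by rw [← hcen _ h1, ← map_mul, mul_inv_cancel_left]
    rw [h2, hmul, (hker _).2 h1, add_zero]
  let T : W →ₗ[ZMod p] W := (AddMonoidHom.mk' (fun v => mk (σ (out v))) fun u v => by
    rw [← hmul, ← map_mul]
    exact hmk _ _ (by rw [hout, hmul, hout, hout])).toZModLinearMap p
  have hT1 : ∀ a, T (mk a) = mk (σ a) := fun a => hmk _ _ (hout _)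
  have hT : ∀ k a, (T ^ k) (mk a) = mk ((σ ^ k) a) := by
    intro k
    induction k with
    | zero => intro a; rfl
    | succ k ih => intro a; rw [pow_succ', pow_succ', Module.End.mul_apply, ih, hT1]; rfl
  let b := Module.finBasis (ZMod p) W
  refine ⟨_, ?_, LinearMap.toMatrixAlgEquiv b T, LinearMap.BilinForm.toMatrix b B, ?_, ?_, ?_, ?_⟩
  · have h1 := Module.natCard_eq_pow_finrank (K := ZMod p) (V := W)
    have h2 := Subgroup.card_mul_index Z
    rw [← hφk, Subgroup.index_ker, MonoidHom.range_eq_top.2 hφs, Subgroup.card_top,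
      Nat.card_congr (Multiplicative.toAdd (α := W)), h1, Nat.card_zmod, hφk, hQ.2, hn, ← pow_succ'] at h2
    have := Nat.pow_right_injective (Fact.out : p.Prime).two_le h2
    omega
  · refine (LinearMap.BilinForm.nondegenerate_iff_det_ne_zero b).1 ?_
    refine ⟨fun v hv => ?_, fun v hv => ?_⟩
    all_goals
      obtain ⟨a, rfl⟩ := hsurj v
      refine (hker a).2 (Subgroup.mem_center_iff.2 fun g => ?_)
      have h1 := hv (mk g)
      rw [hB, f0] at h1
    · exact h1.symm
    · exact h1
  · show (LinearMap.toMatrix b b T).transpose * _ * LinearMap.toMatrix b b T = _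
    rw [← LinearMap.BilinForm.toMatrix_comp]
    congr 1
    refine LinearMap.ext fun v => LinearMap.ext fun w => ?_
    obtain ⟨a, rfl⟩ := hsurj v
    obtain ⟨d, rfl⟩ := hsurj w
    rw [LinearMap.BilinForm.comp_apply, hT1, hT1, hB, hB]
    show (e ⟨⁅σ a, σ d⁆, _⟩).toAdd = (e ⟨⁅a, d⁆, _⟩).toAdd
    congr 2
    refine Subtype.ext ?_
    show ⁅σ a, σ d⁆ = ⁅a, d⁆
    rw [← map_commutatorElement, hcen _ (hcom a d)]
  · rw [← map_pow, show T ^ h = 1 from LinearMap.ext fun v => by
      obtain ⟨a, rfl⟩ := hsurj v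
      rw [hT, hσh]; rfl, map_one]
  · intro k hk0 hkh hdet
    rw [← map_pow, ← map_one (LinearMap.toMatrixAlgEquiv b), ← map_sub] at hdet
    have hdet' : LinearMap.det (T ^ k - 1) = 0 := by
      rw [← LinearMap.det_toMatrix b]; exact hdet
    obtain ⟨v, hv, hv0⟩ := SetLike.exists_of_lt (LinearMap.bot_lt_ker_of_det_eq_zero hdet')
    obtain ⟨a, rfl⟩ := hsurj v
    rw [LinearMap.mem_ker, LinearMap.sub_apply, sub_eq_zero, hT, Module.End.one_apply] at hv
    refine hv0 ((Submodule.mem_bot _).2 ((hker a).2 (hfpf k hk0 hkh a ?_)))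
    rw [← hφk, MonoidHom.mem_ker, map_mul, map_inv]
    exact mul_inv_eq_one.2 (congrArg Multiplicative.ofAdd hv)



/-- Let P be an extraspecial p-group of order p^(2n+1) and H a cyclic group of order h prime to p acting on P (inside a common finite group: H normalizes P) so that C_P(x) = Z(P) for every non-identity x ∈ H. Then h divides p^n + 1 or h divides p^n − 1. -/
theorem result {G : Type*} [Group G] [Finite G] {p : ℕ} [Fact p.Prime] (P H : Subgroup G) (hP : Cfsg.IsExtraspecial p ↥P) (n : ℕ) (hn : Nat.card P = p ^ (2 * n + 1)) (hH : IsCyclic H) (hcop : (Nat.card H).Coprime p) (hHP : H ≤ Subgroup.normalizer (P : Set G)) (hfix : ∀ x ∈ H, x ≠ 1 → P ⊓ Subgroup.centralizer {x} = (Subgroup.center ↥P).map P.subtype) : Nat.card H ∣ p ^ n + 1 ∨ Nat.card H ∣ p ^ n - 1 := by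
  obtain ⟨x, hx⟩ := hH.exists_generator
  have hox : orderOf (x : G) = Nat.card H := by
    rw [Subgroup.orderOf_coe]; exact orderOf_eq_card_of_forall_mem_zpowers hx
  rcases Nat.lt_or_ge 2 (Nat.card H) with hh | hh
  swap
  · right
    have hpos : 0 < Nat.card H := Nat.card_pos
    obtain hh1 | hh2 : Nat.card H = 1 ∨ Nat.card H = 2 := by omega
    · rw [hh1]; exact one_dvd _
    · rw [hh2] at hcop ⊢
      have hodd : Odd (p ^ n) := (Nat.coprime_two_left.1 hcop).pow
      obtain ⟨t, ht⟩ := hodd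
      omega
  let σ : MulAut P := Subgroup.normalizerMonoidHom P ⟨x, hHP x.2⟩
  have hσpow : ∀ k : ℕ, ∀ a : P, (((σ ^ k) a : P) : G) = (x : G) ^ k * a * ((x : G) ^ k)⁻¹ := fun k a => by
    rw [← map_pow]; rfl
  have hcz : ∀ y ∈ H, y ≠ 1 → ∀ z ∈ Subgroup.center P, Commute y (z : G) := fun y hy hy1 z hz => by
    have : (z : G) ∈ P ⊓ Subgroup.centralizer {y} := hfix y hy hy1 ▸ ⟨z, hz, rfl⟩
    exact (Subgroup.mem_centralizer_singleton_iff.1 this.2).symm
  have hx1 : (x : G) ≠ 1 := fun e => by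
    rw [e, orderOf_one] at hox; omega
  have hs := hP.1
  letI : CommGroup (P ⧸ Subgroup.center P) :=
    { (inferInstance : Group (P ⧸ Subgroup.center P)) with
      mul_comm := fun u v => by
        induction u using QuotientGroup.induction_on with | H a => ?_
        induction v using QuotientGroup.induction_on with | H b => ?_
        rw [← QuotientGroup.mk_mul, ← QuotientGroup.mk_mul, QuotientGroup.eq]
        have h1 := Agent.PGroup.special_commutator_mem_center hs b⁻¹ a⁻¹
        rw [commutatorElement_def, inv_inv, inv_inv] at h1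
        simpa [mul_assoc] using h1 }
  letI : Module (ZMod p) (Additive (P ⧸ Subgroup.center P)) := AddCommGroup.zmodModule (fun v => by
    obtain ⟨a, ha⟩ := QuotientGroup.mk_surjective v.toMul
    rw [← toMul_eq_one, toMul_nsmul, ← ha, ← QuotientGroup.mk_pow, QuotientGroup.eq_one_iff]
    exact Agent.PGroup.special_pow_mem_center hs a)
  obtain ⟨N, hN, M, J, hJ, hiso, hMh, hfpf⟩ := exists_matrix hP
    (fun a => Additive.ofMul (a : P ⧸ Subgroup.center P)) (fun v => QuotientGroup.mk_surjective v.toMul)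
    (fun a b => rfl) (fun a => QuotientGroup.eq_one_iff a) hn σ
    (h := Nat.card H) (MulEquiv.ext fun a => Subtype.ext (by
      rw [hσpow, ← hox, pow_orderOf_eq_one]; simp))
    (fun z hz => Subtype.ext (by
      rw [← pow_one σ, hσpow, pow_one]
      exact (hcz x x.2 hx1 z hz).mul_inv_cancel))
    (fun k hk0 hkh a ha => by
      set y := (x : G) ^ k with hy
      have hy1 : y ≠ 1 := pow_ne_one_of_lt_orderOf hk0.ne' (hox ▸ hkh)
      have hyH : y ∈ H := pow_mem x.2 k
      set z := (σ ^ k) a * a⁻¹ with hz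
      have h1 : y * (a : G) * y⁻¹ = (z : G) * (a : G) := by
        rw [hy, ← hσpow, hz]; simp
      have hzp : (orderOf y).Coprime (orderOf (z : G)) := by
        refine Nat.Coprime.coprime_dvd_left ?_ (hcop.coprime_dvd_right ?_)
        · exact (orderOf_dvd_of_mem_zpowers (Subgroup.pow_mem _ (Subgroup.mem_zpowers _) k)).trans (hox ▸ dvd_rfl)
        · rw [Subgroup.orderOf_coe]
          exact orderOf_dvd_of_pow_eq_one (Agent.PGroup.special_center_pow hP.1 ha)
      have h2 : (a : G) ∈ P ⊓ Subgroup.centralizer {y} :=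
        ⟨a.2, Subgroup.mem_centralizer_singleton_iff.2
          (Agent.Coprime.commute_of_translate h1 (hcz y hyH hy1 z ha) hzp).symm⟩
      rw [hfix y hyH hy1] at h2
      obtain ⟨a', ha', he⟩ := h2
      rwa [show a' = a from Subtype.ext he] at ha')
  exact dvd_of_isometry hN M J hh hcop hJ hiso hMh hfpf

end Cfsg.Agent.S3767
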