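import Cfsg.Statements.S3768
import Cfsg.Agent.Lib.Frobenius.Basic


set_option autoImplicit false
open Cfsg

namespace Cfsg.Agent.S3768

open Subgroup

open scoped Pointwise

/-- A normal subgroup meeting a Frobenius complement nontrivially contains the kernel. -/
theorem kernel_subset_of_inf_ne_bot {G : Type*} [Group G] [Finite G] {R N : Subgroup G} [hN : N.Normal]
    (hR : IsFrobeniusComplement R) (hne : N ⊓ R ≠ ⊥) : frobeniusKernel R ⊆ N := by
  classical
  set S := R.subgroupOf N with hS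
  have hSne : S ≠ ⊥ := by rw [hS, Ne, subgroupOf_eq_bot, disjoint_comm, disjoint_iff]; exact hne
  have hNR : ¬ N ≤ R := by
    intro hle
    obtain ⟨g, hg⟩ : ∃ g, g ∉ R := by
      by_contra h
      push Not at h
      exact hR.2.1 (eq_top_iff.2 fun x _ => h x)
    obtain ⟨⟨x, hxN, hxR⟩, hx1⟩ := ne_bot_iff_exists_ne_one.1 hne
    exact hg (Frobenius.mem_of_inter hR hxR (fun h => hx1 (Subtype.ext h))
      (hle (by simpa using hN.conj_mem x hxN g⁻¹)))
  have hSF : IsFrobeniusComplement S := by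
    refine ⟨hSne, by rwa [hS, Ne, subgroupOf_eq_top], fun n hn => ?_⟩
    refine (Subgroup.eq_bot_iff_forall _).2 fun x hx => ?_
    obtain ⟨h1, h2⟩ := mem_inf.1 hx
    rw [Cfsg.Agent.Coprime.mem_conj_smul_iff] at h2
    by_contra hx1
    exact hn (Frobenius.mem_of_inter hR (g := (n : G)) h1 (fun h => hx1 (Subtype.ext h)) h2)
  -- `G = N R`, by counting
  have hcount : R.index * (Nat.card S - 1) ≤ Nat.card N - 1 := by
    let f : (G ⧸ R) × {s : S // s ≠ 1} → {n : N // n ≠ 1} := fun q =>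
      ⟨⟨q.1.out * ((q.2.1 : N) : G) * q.1.out⁻¹, hN.conj_mem _ (q.2.1 : N).2 _⟩, fun h => q.2.2 (by
        have h' := congrArg Subtype.val h
        simp only [OneMemClass.coe_one, mul_inv_eq_one, mul_eq_left] at h'
        exact Subtype.ext (Subtype.ext h'))⟩
    have hf : Function.Injective f := by
      rintro ⟨q, ⟨⟨⟨s, hsN⟩, hs⟩, hs1⟩⟩ ⟨q', ⟨⟨⟨s', hsN'⟩, hs'⟩, hs1'⟩⟩ he
      have he' : q.out * s * q.out⁻¹ = q'.out * s' * q'.out⁻¹ :=
        congrArg (fun z : {n : N // n ≠ 1} => ((z.1 : N) : G)) he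
      have hs1'' : s ≠ 1 := fun h => hs1 (Subtype.ext (Subtype.ext h))
      have hm : q.out⁻¹ * q'.out ∈ R := by
        refine Frobenius.mem_of_inter hR hs hs1'' ?_
        have e : (q.out⁻¹ * q'.out)⁻¹ * s * (q.out⁻¹ * q'.out) = s' := by
          calc (q.out⁻¹ * q'.out)⁻¹ * s * (q.out⁻¹ * q'.out)
              = q'.out⁻¹ * (q.out * s * q.out⁻¹) * q'.out := by group
            _ = s' := by rw [he']; group
        show (q.out⁻¹ * q'.out)⁻¹ * s * (q.out⁻¹ * q'.out) ∈ R
        rw [e]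
        exact hs'
      have hq : q = q' := by
        rw [← QuotientGroup.out_eq' q, ← QuotientGroup.out_eq' q']
        exact QuotientGroup.eq.2 hm
      subst hq
      simp only [mul_left_inj, mul_right_inj] at he'
      subst he'
      rfl
    have h1 := Nat.card_le_card_of_injective f hf
    rw [Nat.card_prod, ← Subgroup.index] at h1
    have h2 : ∀ (A : Type _) [Group A] [Finite A], Nat.card {a : A // a ≠ 1} = Nat.card A - 1 := by
      intro A _ _
      have h := Nat.card_congr (Equiv.sumCompl (fun a : A => a = 1))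
      rw [Nat.card_sum, Nat.card_unique] at h
      show Nat.card {a : A // ¬ a = 1} = _
      omega
    rwa [h2, h2] at h1
  have hidx : R.relIndex (N ⊔ R) = S.index := by
    have h1 : Nat.card R * R.relIndex (N ⊔ R) = Nat.card ↥(N ⊔ R) := by
      rw [← Subgroup.relIndex_bot_left R, Subgroup.relIndex_mul_relIndex _ _ _ bot_le le_sup_right,
        Subgroup.relIndex_bot_left]
    have h2 : Nat.card N * N.relIndex R = Nat.card ↥(N ⊔ R) := by
      rw [sup_comm, ← Subgroup.relIndex_sup_right R N, ← Subgroup.relIndex_bot_left N,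
        Subgroup.relIndex_mul_relIndex _ _ _ bot_le le_sup_right, Subgroup.relIndex_bot_left]
    have h3 : Nat.card ↥(R ⊓ N) * R.relIndex N = Nat.card N := by
      rw [← Subgroup.inf_relIndex_right R N, ← Subgroup.relIndex_bot_left (R ⊓ N),
        Subgroup.relIndex_mul_relIndex _ _ _ bot_le inf_le_right, Subgroup.relIndex_bot_left]
    have h4 : Nat.card ↥(R ⊓ N) * N.relIndex R = Nat.card R := by
      rw [← Subgroup.inf_relIndex_left R N, ← Subgroup.relIndex_bot_left (R ⊓ N),
        Subgroup.relIndex_mul_relIndex _ _ _ bot_le inf_le_left, Subgroup.relIndex_bot_left]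
    show _ = R.relIndex N
    refine Nat.eq_of_mul_eq_mul_left (Nat.card_pos (α := R)) ?_
    rw [h1, ← h2, ← h3]
    conv_rhs => rw [← h4]
    ring
  have htop : N ⊔ R = ⊤ := by
    rw [← Subgroup.index_eq_one]
    by_contra hne1
    have hpos : (N ⊔ R).index ≠ 0 := index_ne_zero_of_finite
    have hs2 : 1 < Nat.card S := (one_lt_card_iff_ne_bot S).2 hSne
    have hSi : 1 ≤ S.index := Nat.one_le_iff_ne_zero.2 index_ne_zero_of_finite
    have hR2 : 2 * S.index ≤ R.index := by
      rw [← Subgroup.relIndex_mul_index (le_sup_right : R ≤ N ⊔ R), hidx, mul_comm]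
      exact Nat.mul_le_mul_left _ (by omega)
    have hN' := Subgroup.card_mul_index S
    obtain ⟨s, hs⟩ : ∃ s, Nat.card S = s + 2 := ⟨Nat.card S - 2, by omega⟩
    rw [hs] at hN' hcount
    rw [← hN', show s + 2 - 1 = s + 1 by omega] at hcount
    have h5 : 2 * S.index * (s + 1) ≤ (s + 2) * S.index - 1 := (Nat.mul_le_mul_right _ hR2).trans hcount
    have h6 : 1 ≤ (s + 2) * S.index := Nat.le_trans hSi (Nat.le_mul_of_pos_left _ (by omega))
    have h7 : 2 * S.index * (s + 1) + 1 ≤ (s + 2) * S.index := by omega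
    nlinarith
  have hRi : R.index = S.index := by rw [← hidx, htop, relIndex_top_right]
  -- the kernel of `S` in `N` is inside the kernel of `R`
  have himg : Subtype.val '' frobeniusKernel S ⊆ frobeniusKernel R := by
    rintro _ ⟨x, hx, rfl⟩
    rcases eq_or_ne x 1 with rfl | hx1
    · exact Or.inl rfl
    rw [Frobenius.mem_kernel_iff (fun h => hx1 (Subtype.ext h))]
    intro g hg
    have hgm : g ∈ N ⊔ R := htop ▸ mem_top g
    obtain ⟨n, hn, r, hr, rfl⟩ := mem_sup_of_normal_left.1 hgm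
    rw [Frobenius.mem_kernel_iff hx1] at hx
    refine hx ⟨n, hn⟩ ?_
    show n⁻¹ * (x : G) * n ∈ R
    have := mul_mem (mul_mem hr hg) (inv_mem hr)
    convert this using 1
    group
  have heq : Subtype.val '' frobeniusKernel S = frobeniusKernel R := by
    refine Set.eq_of_subset_of_ncard_le himg ?_ (Set.toFinite _)
    rw [Set.ncard_image_of_injective _ Subtype.val_injective, ← Nat.card_coe_set_eq,
      ← Nat.card_coe_set_eq, Frobenius.card_kernel hR, Frobenius.card_kernel hSF, hRi]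
  rw [← heq]
  rintro _ ⟨x, -, rfl⟩
  exact x.2

/-- If `N` misses `R`, every element of `N r` is an `N`-conjugate of `r ∈ R#`. -/
theorem exists_conj_eq_mul {G : Type*} [Group G] [Finite G] {R N : Subgroup G} [hN : N.Normal]
    (hR : IsFrobeniusComplement R) (hd : N ⊓ R = ⊥) {r : G} (hr : r ∈ R) (hr1 : r ≠ 1) {m : G}
    (hm : m ∈ N) : ∃ n ∈ N, m * r = n * r * n⁻¹ := by
  let f : N → N := fun n => ⟨n * (r * (n : G)⁻¹ * r⁻¹), mul_mem n.2 (hN.conj_mem _ (inv_mem n.2) r)⟩
  have hf : Function.Injective f := by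
    intro a b h
    have h' : (a : G) * (r * (a : G)⁻¹ * r⁻¹) = b * (r * (b : G)⁻¹ * r⁻¹) := congrArg Subtype.val h
    have hc : Commute ((b : G)⁻¹ * a) r := by
      calc (b : G)⁻¹ * a * r = (b : G)⁻¹ * ((a : G) * (r * (a : G)⁻¹ * r⁻¹)) * (r * a) := by group
        _ = (b : G)⁻¹ * ((b : G) * (r * (b : G)⁻¹ * r⁻¹)) * (r * a) := by rw [h']
        _ = r * ((b : G)⁻¹ * a) := by group
    have h2 : (b : G)⁻¹ * a ∈ N ⊓ R :=
      Subgroup.mem_inf.2 ⟨mul_mem (inv_mem b.2) a.2, Frobenius.mem_of_commute hR hr hr1 hc⟩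
    rw [hd, mem_bot, inv_mul_eq_one] at h2
    exact Subtype.ext h2.symm
  obtain ⟨n, hn⟩ := (Finite.injective_iff_surjective.1 hf) ⟨m, hm⟩
  refine ⟨n, n.2, ?_⟩
  have : (n : G) * (r * (n : G)⁻¹ * r⁻¹) = m := congrArg Subtype.val hn
  rw [← this]
  group


/-- Let G be a finite Frobenius group with Frobenius complement R and Frobenius kernel K (the identity together with the elements in no conjugate of R), and let N be a normal subgroup of G not containing K. Then G/N is a Frobenius group with Frobenius complement RN/N whose Frobenius kernel is the image of K. -/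
theorem result {G : Type*} [Group G] [Finite G] (R : Subgroup G) (hR : Cfsg.IsFrobeniusComplement R) (N : Subgroup G) [N.Normal] (hKN : ¬ Cfsg.frobeniusKernel R ⊆ N) : Cfsg.IsFrobeniusComplement (R.map (QuotientGroup.mk' N)) ∧ Cfsg.frobeniusKernel (R.map (QuotientGroup.mk' N)) = QuotientGroup.mk' N '' Cfsg.frobeniusKernel R := by
  set π := QuotientGroup.mk' N with hπ
  have hπ1 : ∀ x : G, π x = 1 ↔ x ∈ N := fun x => QuotientGroup.eq_one_iff x
  have hd : N ⊓ R = ⊥ := by
    by_contra h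
    exact hKN (kernel_subset_of_inf_ne_bot hR h)
  -- an element mapping onto a nontrivial element of `R̄` is conjugate to it
  have hlift : ∀ x : G, ∀ r ∈ R, r ≠ 1 → π x = π r → ∃ n ∈ N, x = n * r * n⁻¹ := by
    intro x r hr hr1 h
    obtain ⟨n, hn, hx⟩ := exists_conj_eq_mul hR hd hr hr1 (m := x * r⁻¹)
      ((hπ1 _).1 (by rw [map_mul, map_inv, h, mul_inv_cancel]))
    exact ⟨n, hn, by simpa using hx⟩
  have hker : ∀ x ∈ Cfsg.frobeniusKernel R, π x ≠ 1 → ∀ r ∈ R, ∀ g : G, π x ≠ π (g * r * g⁻¹) := by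
    intro x hx hx1 r hr g h
    have hr1 : r ≠ 1 := fun e => hx1 (by rw [h, e]; simp)
    have h' : π (g⁻¹ * x * g) = π r := by
      rw [map_mul, map_mul, h, ← map_mul, ← map_mul]; congr 1; group
    obtain ⟨n, hn, hxe⟩ := hlift _ r hr hr1 h'
    have hx' : x ≠ 1 := fun e => hx1 (by rw [e, map_one])
    refine (Frobenius.mem_kernel_iff hx').1 hx (g * n) ?_
    convert hr using 1
    calc (g * n)⁻¹ * x * (g * n) = n⁻¹ * (g⁻¹ * x * g) * n := by group
      _ = r := by rw [hxe]; group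
  have hkerne : ∀ y : G ⧸ N, y ∈ R.map π → y ≠ 1 → ∀ g : G ⧸ N, g⁻¹ * y * g ∈ R.map π → g ∈ R.map π := by
    rintro _ ⟨r, hr, rfl⟩ hy g ⟨r', hr', he⟩
    obtain ⟨g, rfl⟩ := QuotientGroup.mk'_surjective N g
    have hr1 : r ≠ 1 := fun e => hy (by rw [e, map_one])
    have h' : π (g * r' * g⁻¹) = π r := by
      rw [map_mul, map_mul, he, map_inv, ← hπ]; group
    obtain ⟨n, hn, hxe⟩ := hlift _ r hr hr1 h'
    have hmem : g⁻¹ * n ∈ R := by
      refine Frobenius.mem_of_inter hR hr' (fun e => ?_) ?_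
      · rw [e, mul_one, mul_inv_cancel] at hxe
        exact hr1 (conj_eq_one_iff.1 hxe.symm)
      · have e : (g⁻¹ * n)⁻¹ * r' * (g⁻¹ * n) = r := by
          calc (g⁻¹ * n)⁻¹ * r' * (g⁻¹ * n) = n⁻¹ * (g * r' * g⁻¹) * n := by group
            _ = r := by rw [hxe]; group
        rw [e]
        exact hr
    refine ⟨(g⁻¹ * n)⁻¹, inv_mem hmem, ?_⟩
    rw [map_inv, map_mul, map_inv, (hπ1 n).2 hn, mul_one, inv_inv]
  refine ⟨⟨?_, ?_, fun g hg => ?_⟩, Set.ext fun y => ?_⟩
  · intro h
    obtain ⟨⟨r, hr⟩, hr1⟩ := Subgroup.ne_bot_iff_exists_ne_one.1 hR.1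
    have h1 : π r ∈ R.map π := Subgroup.mem_map_of_mem π hr
    rw [h, Subgroup.mem_bot, hπ1] at h1
    exact hr1 (Subtype.ext (Subgroup.mem_bot.1 (hd ▸ ⟨h1, hr⟩ : r ∈ (⊥ : Subgroup G))))
  · intro h
    apply hKN
    intro x hx
    by_contra hxN
    obtain ⟨r, hr, he⟩ : π x ∈ R.map π := h ▸ Subgroup.mem_top _
    exact hker x hx (fun e => hxN ((hπ1 x).1 e)) r hr 1 (by rw [← he]; congr 1; group)
  · refine (Subgroup.eq_bot_iff_forall _).2 fun y hy => ?_
    obtain ⟨h1, h2⟩ := Subgroup.mem_inf.1 hy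
    by_contra hy1
    exact hg (hkerne y h1 hy1 g (Cfsg.Agent.Coprime.mem_conj_smul_iff.1 h2))
  · constructor
    · intro hy
      obtain ⟨x, rfl⟩ := QuotientGroup.mk'_surjective N y
      rcases hy with hy | hy
      · exact ⟨1, Or.inl rfl, by rw [map_one]; exact hy.symm⟩
      by_cases hxK : x ∈ Cfsg.frobeniusKernel R
      · exact ⟨x, hxK, rfl⟩
      exfalso
      simp only [Cfsg.frobeniusKernel, Set.mem_setOf_eq, not_or, not_forall, not_not] at hxK
      obtain ⟨-, g, hg⟩ := hxK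
      rw [Cfsg.Agent.Coprime.mem_conj_smul_iff] at hg
      exact hy (π g) (Cfsg.Agent.Coprime.mem_conj_smul_iff.2
        ⟨_, hg, by rw [map_mul, map_mul, map_inv]⟩)
    · rintro ⟨x, hx, rfl⟩
      by_cases h1 : π x = 1
      · exact Or.inl h1
      refine (Frobenius.mem_kernel_iff h1).2 fun g hg => ?_
      obtain ⟨g, rfl⟩ := QuotientGroup.mk'_surjective N g
      obtain ⟨r, hr, he⟩ := hg
      refine hker x hx h1 r hr g ?_
      rw [map_mul, map_mul, he, map_inv, ← hπ]
      group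


end Cfsg.Agent.S3768
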