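import Cfsg.Statements.S3772
import Cfsg.Agent.Lib.PGroup.GaussSum


set_option autoImplicit false
open Cfsg
open scoped commutatorElement

namespace Cfsg.Agent.S3772

/-- Let G be a finite 2-group whose Frattini subgroup Φ(G) has order 2, with |G : Φ(G)| = 2^d, and let j be the number of elements x of G with x² = 1. Then j = 2^d, or j = 2^d + 2^(d−r) or j = 2^d − 2^(d−r) for some positive integer r with 2r ≤ d. Moreover if d = 2r and j is 2^d + 2^r or 2^d − 2^r, then G is extraspecial. -/
theorem result {G : Type*} [Group G] [Finite G] (hG : IsPGroup 2 G) (hΦ : Nat.card (frattini G) = 2) (d : ℕ) (hd : (frattini G).index = 2 ^ d) : (Nat.card {x : G // x ^ 2 = 1} = 2 ^ d ∨ ∃ r : ℕ, 1 ≤ r ∧ 2 * r ≤ d ∧ (Nat.card {x : G // x ^ 2 = 1} = 2 ^ d + 2 ^ (d - r) ∨ Nat.card {x : G // x ^ 2 = 1} + 2 ^ (d - r) = 2 ^ d)) ∧ (∀ r : ℕ, d = 2 * r → (Nat.card {x : G // x ^ 2 = 1} = 2 ^ d + 2 ^ r ∨ Nat.card {x : G // x ^ 2 = 1} + 2 ^ r = 2 ^ d) → Cfsg.IsExtraspecial 2 G) := by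
  classical
  have := Fintype.ofFinite G
  have hΦc : frattini G ≤ Subgroup.center G := Cfsg.Agent.PGroup.le_center_of_card_eq hG _ hΦ
  have hsq : ∀ x : G, x ^ 2 ∈ frattini G := Cfsg.Agent.PGroup.pow_mem_frattini hG
  have hc : ∀ a b : G, ⁅a, b⁆ ∈ frattini G := fun a b => Cfsg.Agent.PGroup.commutator_le_frattini hG
    (Subgroup.commutator_mem_commutator (Subgroup.mem_top a) (Subgroup.mem_top b))
  have hUexp : ∀ u : ↥(frattini G), u ^ 2 = 1 := fun u => by
    rw [← hΦ]; exact pow_card_eq_one'
  have hUab : IsMulCommutative ↥(frattini G) :=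
    ⟨⟨fun a b => Subtype.ext (Subgroup.mem_center_iff.1 (hΦc b.2) a)⟩⟩
  have hUne : ∃ c : ↥(frattini G), c ≠ 1 := by
    have : Nontrivial ↥(frattini G) := Finite.one_lt_card_iff_nontrivial.1 (by rw [hΦ]; norm_num)
    exact exists_ne 1
  obtain ⟨c, hc1⟩ := hUne
  obtain ⟨χ, hχ⟩ := Cfsg.Agent.PGroup.exists_sign_of_ne_one (hG.to_subgroup _) hUab hUexp hc1
  have hinj : ∀ u : ↥(frattini G), χ u = 1 → u = 1 := by
    intro u hu
    by_contra hne
    have huc : u = c := ((Nat.card_eq_two_iff' (1 : ↥(frattini G))).1 hΦ).unique hne hc1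
    rw [huc, hχ] at hu
    exact absurd hu (by decide)
  obtain ⟨g, hg⟩ := IsPGroup.iff_card.mp hG
  have hgd : g = d + 1 := by
    have := Subgroup.card_mul_index (frattini G)
    rw [hΦ, hd, hg, ← pow_succ'] at this
    exact (Nat.pow_right_injective le_rfl this).symm
  set S : ℤ := ∑ x : G, (Cfsg.Agent.PGroup.sqForm hsq χ x : ℤ) with hS
  set N := Nat.card {x : G // x ^ 2 = 1} with hN
  have hcount : 2 * (N : ℤ) = 2 ^ (d + 1) + S := by
    have h1 : ∀ x : G, (if x ^ 2 = 1 then (2 : ℤ) else 0) = 1 + (Cfsg.Agent.PGroup.sqForm hsq χ x : ℤ) := by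
      intro x
      split_ifs with hx
      · have : (⟨x ^ 2, hsq x⟩ : ↥(frattini G)) = 1 := Subtype.ext hx
        simp [Cfsg.Agent.PGroup.sqForm, this]
      · have h2 : Cfsg.Agent.PGroup.sqForm hsq χ x = -1 :=
          (Int.units_eq_one_or _).resolve_left fun h => hx (congrArg Subtype.val (hinj _ h))
        simp [h2]
    have h3 := Finset.sum_congr (s₁ := (Finset.univ : Finset G)) rfl (fun x _ => h1 x)
    rw [← Finset.sum_filter, Finset.sum_const, Finset.sum_add_distrib, ← hS, Finset.sum_const,
      Finset.card_univ, ← Nat.card_eq_fintype_card, hg, hgd, nsmul_eq_mul, nsmul_eq_mul, mul_one] at h3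
    have hN' : N = (Finset.univ.filter fun x : G => x ^ 2 = 1).card := by
      rw [hN, Nat.card_eq_fintype_card, Fintype.card_subtype]
    rw [hN', mul_comm]
    push_cast at h3
    exact h3
  have h1N : 0 < N := by
    rw [hN]
    have : Nonempty {x : G // x ^ 2 = 1} := ⟨⟨1, one_pow 2⟩⟩
    exact Nat.card_pos
  -- the two cases
  rcases Cfsg.Agent.PGroup.sqSum_eq hG hΦc hsq hc χ with h0 | ⟨R, hZR, hR, j, hj, hjS⟩
  · rw [← hS] at h0
    rw [h0, add_zero, pow_succ'] at hcount
    have hNd : N = 2 ^ d := by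
      have : (N : ℤ) = 2 ^ d := by omega
      exact_mod_cast this
    refine ⟨Or.inl hNd, fun r hr hrN => ?_⟩
    have := Nat.one_le_two_pow (n := r)
    rcases hrN with h | h <;> omega
  · rw [← hS] at hjS
    have hReq : R = Subgroup.center G := le_antisymm (fun u hu => Subgroup.mem_center_iff.2 fun v =>
      commutatorElement_eq_one_iff_mul_comm.1 (congrArg Subtype.val (hinj _ (hR u hu v)))) hZR
    obtain ⟨z, hz⟩ := Cfsg.Agent.PGroup.card_eq_pow hG (Subgroup.center G)
    rw [hReq, hg, hz, ← pow_add] at hj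
    have hj' : 2 * j = g + z := Nat.pow_right_injective le_rfl hj
    have hz1 : 1 ≤ z := by
      have h := Subgroup.card_le_of_le hΦc
      rw [hΦ, hz] at h
      by_contra hcon
      rw [show z = 0 by omega] at h
      omega
    have hzd : z ≤ d := by
      have h := Subgroup.card_le_card_group (Subgroup.center G)
      rw [hz, hg] at h
      have hzg := (Nat.pow_le_pow_iff_right (le_refl 2)).1 h
      by_contra hcon
      have hzg' : z = g := by omega
      have htop : Subgroup.center G = ⊤ := Subgroup.card_eq_iff_eq_top _ |>.1 (by rw [hz, hg, hzg'])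
      have hjd : j = d + 1 := by omega
      rw [hjd] at hjS
      have hNle : N ≤ 2 ^ (d + 1) := by
        rw [← hgd, ← hg, hN]
        exact Nat.card_le_card_of_injective _ Subtype.val_injective
      have hNeq : N = Nat.card G := by
        rw [hg, hgd]
        rcases Int.natAbs_eq S with h' | h' <;> rw [hjS] at h' <;> push_cast at h' <;>
          · rw [h'] at hcount
            zify at *
            omega
      have hbot : frattini G = ⊥ := (Cfsg.Agent.PGroup.frattini_eq_bot_iff hG).2
        ⟨⟨⟨fun a b => Subgroup.mem_center_iff.1 (htop ▸ Subgroup.mem_top b) a⟩⟩, fun x => ?_⟩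
      · rw [hbot, Subgroup.card_bot] at hΦ
        exact absurd hΦ (by norm_num)
      · by_contra hx
        have : N < Nat.card G := by
          rw [hN, Nat.card_eq_fintype_card, Nat.card_eq_fintype_card]
          exact Fintype.card_subtype_lt hx
        omega
    obtain ⟨i, rfl⟩ : ∃ i, j = i + 1 := ⟨j - 1, by omega⟩
    have hNval : N = 2 ^ d + 2 ^ i ∨ N + 2 ^ i = 2 ^ d := by
      rcases Int.natAbs_eq S with h' | h' <;> rw [hjS] at h' <;> push_cast at h' <;>
        rw [h', pow_succ', pow_succ'] at hcount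
      · left
        have : (N : ℤ) = 2 ^ d + 2 ^ i := by linarith
        exact_mod_cast this
      · right
        have : (N : ℤ) + 2 ^ i = 2 ^ d := by linarith
        exact_mod_cast this
    refine ⟨Or.inr ⟨d - i, by omega, by omega, ?_⟩, fun r hr hrN => ?_⟩
    · rwa [show d - (d - i) = i by omega]
    · have hpow : 2 ^ i = 2 ^ r := by
        have := Nat.one_le_two_pow (n := r)
        have := Nat.one_le_two_pow (n := i)
        rcases hNval with h | h <;> rcases hrN with h' | h' <;> omega
      have hir : i = r := Nat.pow_right_injective le_rfl hpow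
      have hz1' : z = 1 := by omega
      have hcen : frattini G = Subgroup.center G :=
        Subgroup.eq_of_le_of_card_ge hΦc (by rw [hΦ, hz, hz1', pow_one])
      refine ⟨⟨hG, hcen, ?_⟩, by rw [hz, hz1', pow_one]⟩
      refine Subgroup.eq_of_le_of_card_ge (hcen ▸ Cfsg.Agent.PGroup.commutator_le_frattini hG) ?_
      have hne : commutator G ≠ ⊥ := by
        intro hbot
        have hab := (commutator_eq_bot_iff G).1 hbot
        have htop : Subgroup.center G = ⊤ := eq_top_iff.2 fun a _ =>
          Subgroup.mem_center_iff.2 fun b => hab.is_comm.comm b a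
        rw [htop, Subgroup.card_top, hg, hz1', hgd] at hz
        have := Nat.pow_right_injective (le_refl 2) hz
        omega
      have := (Subgroup.one_lt_card_iff_ne_bot _).2 hne
      rw [hz, hz1', pow_one]
      omega


end Cfsg.Agent.S3772
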