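import Cfsg.Statements.S3773
import Cfsg.Agent.Lib.PGroup.GaussSum


set_option autoImplicit false
open Cfsg
open scoped commutatorElement

namespace Cfsg.Agent.S3773

open Cfsg.Agent.PGroup in
/-- If squares and commutators lie in a central elementary subgroup `U` of order `2^u`, `Z` is
central of order `2^z`, and there are `2^k` solutions of `x² = 1`, then `g + z ≤ 2 (k + u)`. -/
theorem count_bound {H : Type*} [Group H] [Finite H] (hH : IsPGroup 2 H) (U Z : Subgroup H)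
    (hU : U ≤ Subgroup.center H) (hZ : Z ≤ Subgroup.center H) (hUexp : ∀ x ∈ U, x ^ 2 = 1)
    (hsq : ∀ x : H, x ^ 2 ∈ U) (hc : ∀ a b : H, ⁅a, b⁆ ∈ U) (g z u k : ℕ)
    (hg : Nat.card H = 2 ^ g) (hz : Nat.card Z = 2 ^ z) (hu : Nat.card U = 2 ^ u)
    (hk : Nat.card {x : H // x ^ 2 = 1} = 2 ^ k) : g + z ≤ 2 * (k + u) := by
  classical
  have := Fintype.ofFinite H
  have := Fintype.ofFinite (↥U →* ℤˣ)
  have hUab : IsMulCommutative ↥U := ⟨⟨fun a b => Subtype.ext (Subgroup.mem_center_iff.1 (hU b.2) a)⟩⟩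
  have hUexp' : ∀ x : ↥U, x ^ 2 = 1 := fun x => Subtype.ext (hUexp x x.2)
  set e := (g + z + 1) / 2 with he
  have hdvd : ∀ χ : ↥U →* ℤˣ, (2 ^ e : ℤ) ∣ ∑ x : H, (sqForm hsq χ x : ℤ) := by
    intro χ
    rcases sqSum_eq hH hU hsq hc χ with h | ⟨R, hR, -, j, hj, hjS⟩
    · rw [h]; exact dvd_zero _
    · have h1 : Nat.card H * Nat.card Z ≤ 2 ^ (2 * j) :=
        hj ▸ Nat.mul_le_mul_left _ (Subgroup.card_le_of_le (hZ.trans hR))
      rw [hg, hz, ← pow_add] at h1
      have h2 := (Nat.pow_le_pow_iff_right (le_refl 2)).1 h1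
      have h3 : ((2 ^ e : ℕ) : ℤ) ∣ ∑ x : H, (sqForm hsq χ x : ℤ) := by
        rw [Int.natCast_dvd, hjS]
        exact Nat.pow_dvd_pow 2 (by omega)
      exact_mod_cast h3
  have htot : ∑ χ : ↥U →* ℤˣ, ∑ x : H, (sqForm hsq χ x : ℤ) = ((2 ^ (k + u) : ℕ) : ℤ) := by
    rw [Finset.sum_comm]
    have h1 : ∀ x : H, ∑ χ : ↥U →* ℤˣ, (sqForm hsq χ x : ℤ) =
        if x ^ 2 = 1 then (2 ^ u : ℤ) else 0 := by
      intro x
      split_ifs with hx
      · have hx' : (⟨x ^ 2, hsq x⟩ : ↥U) = 1 := Subtype.ext hx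
        have hcard := card_sign_hom (hH.to_subgroup U) hUab hUexp'
        rw [Nat.card_eq_fintype_card, hu] at hcard
        simp [sqForm, hx', hcard]
      · exact sum_sign_apply (hH.to_subgroup U) hUab hUexp' fun h => hx (congrArg Subtype.val h)
    rw [Finset.sum_congr rfl (fun x _ => h1 x), ← Finset.sum_filter, Finset.sum_const]
    rw [Nat.card_eq_fintype_card, Fintype.card_subtype] at hk
    rw [hk, nsmul_eq_mul]
    push_cast
    rw [pow_add]
  have h4 : (2 ^ e : ℤ) ∣ ((2 ^ (k + u) : ℕ) : ℤ) := htot ▸ Finset.dvd_sum fun χ _ => hdvd χ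
  have h5 : 2 ^ e ∣ 2 ^ (k + u) := by exact_mod_cast h4
  have := (Nat.pow_dvd_pow_iff_le_right (le_refl 2)).1 h5
  omega


/-- Let G be a finite 2-group of nilpotency class at most 2 and exponent dividing 4 in which the elements x with x² = 1 form a subgroup N. Then |G| ≤ |N|³, and |G| < |N|³ unless G is special. -/
theorem result {G : Type*} [Group G] [Finite G] (hG : IsPGroup 2 G) (hcl : (⊤ : Subgroup G).lowerCentralSeries 2 = ⊥) (hexp : ∀ x : G, x ^ 4 = 1) (hN : ∀ x y : G, x ^ 2 = 1 → y ^ 2 = 1 → (x * y) ^ 2 = 1) : Nat.card G ≤ Nat.card {x : G // x ^ 2 = 1} ^ 3 ∧ (¬ Cfsg.IsSpecial 2 G → Nat.card G < Nat.card {x : G // x ^ 2 = 1} ^ 3) := by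
  classical
  have hGc : commutator G ≤ Subgroup.center G := by
    rw [Cfsg.Agent.PGroup.class_two_iff, ← hcl, commutator_def]
    simp [Subgroup.lowerCentralSeries_succ, Subgroup.lowerCentralSeries_zero]
  have hcz : ∀ a b : G, ⁅a, b⁆ ∈ Subgroup.center G := Cfsg.Agent.PGroup.mem_center_of_class_two hGc
  have hc2 : ∀ a b : G, ⁅a, b⁆ ^ 2 = 1 := fun a b => by
    have h := Cfsg.Agent.PGroup.mul_pow_of_central (x := b) (y := a) (hcz a b) 4
    rw [hexp, hexp, hexp, one_mul, one_mul, show Nat.choose 4 2 = 4 + 2 from rfl, pow_add, hexp, one_mul] at h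
    exact h.symm
  have hsqc : ∀ x : G, x ^ 2 ∈ Subgroup.center G := fun x => Subgroup.mem_center_iff.2 fun y => by
    refine (commutatorElement_eq_one_iff_mul_comm.1 ?_)
    rw [Cfsg.Agent.PGroup.commutator_pow_right (hcz y x), hc2]
  let Z2 : Subgroup G :=
    { carrier := {x | x ∈ Subgroup.center G ∧ x ^ 2 = 1}
      one_mem' := ⟨one_mem _, one_pow 2⟩
      mul_mem' := fun {a b} ha hb => ⟨mul_mem ha.1 hb.1, by
        rw [Commute.mul_pow (Subgroup.mem_center_iff.1 hb.1 a : a * b = b * a), ha.2, hb.2, one_mul]⟩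
      inv_mem' := fun {a} ha => ⟨inv_mem ha.1, by rw [inv_pow, ha.2, inv_one]⟩ }
  set U := frattini G with hUdef
  have hUZ : U ≤ Z2 := by
    refine Cfsg.Agent.PGroup.frattini_le (p := 2) ?_ fun x => ⟨hsqc x, by rw [← pow_mul]; exact hexp x⟩
    rw [commutator_def, Subgroup.commutator_le]
    exact fun a _ b _ => ⟨hcz a b, hc2 a b⟩
  have hUc : U ≤ Subgroup.center G := fun x hx => (hUZ hx).1
  have hsq : ∀ x : G, x ^ 2 ∈ U := Cfsg.Agent.PGroup.pow_mem_frattini hG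
  have hc : ∀ a b : G, ⁅a, b⁆ ∈ U := fun a b => Cfsg.Agent.PGroup.commutator_le_frattini hG
    (Subgroup.commutator_mem_commutator (Subgroup.mem_top a) (Subgroup.mem_top b))
  let N : Subgroup G :=
    { carrier := {x | x ^ 2 = 1}
      one_mem' := one_pow 2
      mul_mem' := fun {a b} ha hb => hN a b ha hb
      inv_mem' := fun {a} (ha : a ^ 2 = 1) => show a⁻¹ ^ 2 = 1 by rw [inv_pow, ha, inv_one] }
  have hNcard : Nat.card {x : G // x ^ 2 = 1} = Nat.card N := rfl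
  obtain ⟨g, hg⟩ := IsPGroup.iff_card.mp hG
  obtain ⟨k, hk⟩ := Cfsg.Agent.PGroup.card_eq_pow hG N
  obtain ⟨u, hu⟩ := Cfsg.Agent.PGroup.card_eq_pow hG U
  obtain ⟨z, hz⟩ := Cfsg.Agent.PGroup.card_eq_pow hG (Subgroup.center G)
  have hUexp : ∀ x ∈ U, x ^ 2 = 1 := fun x hx => (hUZ hx).2
  have hmain := count_bound hG U (Subgroup.center G) hUc le_rfl hUexp hsq hc g z u k hg hz hu (hNcard.trans hk)
  have huk : u ≤ k := (Nat.pow_le_pow_iff_right (le_refl 2)).1
    (hu ▸ hk ▸ Subgroup.card_le_of_le (show U ≤ N from fun x hx => (hUZ hx).2))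
  have huz : u ≤ z := (Nat.pow_le_pow_iff_right (le_refl 2)).1 (hu ▸ hz ▸ Subgroup.card_le_of_le hUc)
  rw [hNcard, hk, ← pow_mul, hg]
  refine ⟨Nat.pow_le_pow_right (by norm_num) (by omega), fun hns => ?_⟩
  refine Nat.pow_lt_pow_right (by norm_num) (lt_of_le_of_ne (by omega) fun h3 => hns ⟨hG, ?_, ?_⟩)
  · exact Subgroup.eq_of_le_of_card_ge hUc (by rw [hz, hu]; exact Nat.pow_le_pow_right (by norm_num) (by omega))
  · -- `G' = Z(G)`
    have hUcen : U = Subgroup.center G :=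
      Subgroup.eq_of_le_of_card_ge hUc (by rw [hz, hu]; exact Nat.pow_le_pow_right (by norm_num) (by omega))
    rw [← hUcen]
    refine le_antisymm (Cfsg.Agent.PGroup.commutator_le_frattini hG) ?_
    by_contra hne
    obtain ⟨χ, hχ1, hχ⟩ := Cfsg.Agent.PGroup.exists_sign_of_ne_top (hG.to_subgroup U)
      (W := (commutator G).subgroupOf U) (by rwa [Ne, Subgroup.subgroupOf_eq_top])
    let ψ : G →* ℤˣ := MonoidHom.mk' (fun x => χ ⟨x ^ 2, hsq x⟩) fun a b => by
      have h : (⟨(a * b) ^ 2, hsq _⟩ : ↥U) = ⟨a ^ 2, hsq a⟩ * ⟨b ^ 2, hsq b⟩ * ⟨⁅b, a⁆, hc b a⟩ := by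
        refine Subtype.ext ?_
        show (a * b) ^ 2 = a ^ 2 * b ^ 2 * ⁅b, a⁆
        rw [Cfsg.Agent.PGroup.mul_pow_of_central (hcz b a), show Nat.choose 2 2 = 1 from rfl, pow_one]
      rw [h, map_mul, map_mul, hχ ⟨⁅b, a⁆, hc b a⟩ (Subgroup.commutator_mem_commutator
        (Subgroup.mem_top b) (Subgroup.mem_top a)), mul_one]
    set K := ψ.ker with hK
    have hUK : U ≤ K := fun x hx => by
      show χ ⟨x ^ 2, hsq x⟩ = 1
      rw [show (⟨x ^ 2, hsq x⟩ : ↥U) = 1 from Subtype.ext (hUexp x hx), map_one]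
    have hNK : N ≤ K := fun x (hx : x ^ 2 = 1) => by
      show χ ⟨x ^ 2, hsq x⟩ = 1
      rw [show (⟨x ^ 2, hsq x⟩ : ↥U) = 1 from Subtype.ext hx, map_one]
    obtain ⟨gK, hgK⟩ := Cfsg.Agent.PGroup.card_eq_pow hG K
    have hKi : g ≤ gK + 1 := by
      have h1 := Subgroup.card_mul_index K
      rw [Subgroup.index_ker, hgK, hg] at h1
      have h2 : Nat.card ψ.range ≤ 2 := (Subgroup.card_le_card_group _).trans (by simp [Nat.card_eq_fintype_card])
      refine (Nat.pow_le_pow_iff_right (le_refl 2)).1 ?_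
      rw [← h1, pow_succ]
      exact Nat.mul_le_mul_left _ h2
    let W : Subgroup ↥K := (χ.ker.map U.subtype).subgroupOf K
    have hWle : χ.ker.map U.subtype ≤ K := (Subgroup.map_subtype_le _).trans hUK
    obtain ⟨w, hw⟩ := Cfsg.Agent.PGroup.card_eq_pow hG (χ.ker.map U.subtype)
    have hwu : w + 1 ≤ u := by
      have hlt : χ.ker.map U.subtype < U := by
        refine lt_of_le_of_ne (Subgroup.map_subtype_le _) fun h => hχ1 (MonoidHom.ext fun x => ?_)
        obtain ⟨y, hy, hyx⟩ := (h.symm ▸ x.2 : (x : G) ∈ χ.ker.map U.subtype)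
        rw [← Subtype.ext hyx]
        exact hy
      have h1 := Cfsg.Agent.PGroup.mul_card_le_card hG hlt
      rw [hw, hu, ← pow_succ'] at h1
      exact (Nat.pow_le_pow_iff_right (le_refl 2)).1 h1
    have hcount : Nat.card {x : ↥K // x ^ 2 = 1} = 2 ^ k := by
      rw [← hk, ← hNcard]
      refine Nat.card_congr
        { toFun := fun x => ⟨x.1, congrArg Subtype.val x.2⟩
          invFun := fun x => ⟨⟨x.1, hNK x.2⟩, Subtype.ext x.2⟩
          left_inv := fun x => rfl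
          right_inv := fun x => rfl }
    have hcK : ∀ x : ↥K, (x : G) ∈ Subgroup.center G → x ∈ Subgroup.center ↥K := fun x hx =>
      Subgroup.mem_center_iff.2 fun y => Subtype.ext (Subgroup.mem_center_iff.1 hx y)
    have := count_bound (hG.to_subgroup K) W (U.subgroupOf K)
      (fun x hx => hcK x (hUc (Subgroup.map_subtype_le _ hx))) (fun x hx => hcK x (hUc hx))
      (fun x hx => Subtype.ext (hUexp x (Subgroup.map_subtype_le _ hx)))
      (fun x => ⟨⟨(x : G) ^ 2, hsq x⟩, x.2, rfl⟩)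
      (fun a b => ⟨⟨⁅(a : G), b⁆, hc a b⟩, hχ _ (Subgroup.commutator_mem_commutator
        (Subgroup.mem_top _) (Subgroup.mem_top _)), rfl⟩)
      gK u w k hgK (by rw [Nat.card_congr (Subgroup.subgroupOfEquivOfLe hUK).toEquiv, hu])
      (by rw [Nat.card_congr (Subgroup.subgroupOfEquivOfLe hWle).toEquiv, hw]) hcount
    omega


end Cfsg.Agent.S3773
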