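import Cfsg.Statements.S3774
import Cfsg.Agent.Lib.PGroup.Basic


set_option autoImplicit false
open Cfsg

namespace Cfsg.Agent.S3774


theorem dvd_of_pow_sub_one {k d : ℕ} (hk : 0 < k) (h : 2 ^ k - 1 ∣ 2 ^ d - 1) : k ∣ d := by
  have h1 := Nat.pow_sub_one_gcd_pow_sub_one 2 k d
  rw [Nat.gcd_eq_left h] at h1
  have h2 : 2 ^ k = 2 ^ Nat.gcd k d := by
    have := Nat.one_le_pow k 2 two_pos
    have := Nat.one_le_pow (Nat.gcd k d) 2 two_pos
    omega
  rw [Nat.pow_right_injective le_rfl h2]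
  exact Nat.gcd_dvd_right _ _


/-- Let G be a nontrivial finite 2-group whose automorphism group permutes the involutions of G transitively. Then every involution of G is central, so that the involutions together with 1 form the subgroup Ω₁(Z(G)), and if this subgroup has order q then |G| is a power of q. -/
theorem result {G : Type*} [Group G] [Finite G] [Nontrivial G] (hG : IsPGroup 2 G) (htrans : ∀ x y : G, x ≠ 1 → x ^ 2 = 1 → y ≠ 1 → y ^ 2 = 1 → ∃ a : MulAut G, a x = y) : (∀ x : G, x ^ 2 = 1 → x ∈ Subgroup.center G) ∧ ∃ m : ℕ, Nat.card G = Nat.card {z : G // z ^ 2 = 1} ^ m := by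
  classical
  haveI : Fact (Nat.Prime 2) := ⟨Nat.prime_two⟩
  obtain ⟨z0, -, hz0c, hz0⟩ := Agent.PGroup.exists_orderOf_eq_mem_center hG ⊤ (by simp)
  have hcent : ∀ x : G, x ^ 2 = 1 → x ∈ Subgroup.center G := by
    intro x hx
    rcases eq_or_ne x 1 with rfl | hx1
    · exact one_mem _
    obtain ⟨a, rfl⟩ := htrans z0 x (fun e => by rw [e, orderOf_one] at hz0; omega)
      (by rw [← hz0, pow_orderOf_eq_one]) hx1 hx
    refine Subgroup.mem_center_iff.2 fun g => ?_
    obtain ⟨g, rfl⟩ := a.surjective g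
    rw [← map_mul, ← map_mul, Subgroup.mem_center_iff.1 hz0c g]
  refine ⟨hcent, ?_⟩
  let Ω : Subgroup G :=
    { carrier := {z | z ^ 2 = 1}
      one_mem' := one_pow 2
      mul_mem' := fun {x y} hx hy => by
        show (x * y) ^ 2 = 1
        rw [Commute.mul_pow ((Subgroup.mem_center_iff.1 (hcent y hy)) x), hx, hy, one_mul]
      inv_mem' := fun {x} hx => by
        show x⁻¹ ^ 2 = 1
        rw [inv_pow, hx, inv_one] }
  have hΩ : Nat.card {z : G // z ^ 2 = 1} = Nat.card Ω := rfl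
  obtain ⟨k, hk⟩ := Agent.PGroup.card_eq_pow hG Ω
  obtain ⟨d, hd⟩ := hG.exists_card_eq
  have hk0 : 0 < k := by
    refine Nat.pos_of_ne_zero fun e => ?_
    rw [e, pow_zero, Subgroup.card_eq_one] at hk
    have : z0 ∈ Ω := show z0 ^ 2 = 1 by rw [← hz0, pow_orderOf_eq_one]
    rw [hk, Subgroup.mem_bot] at this
    rw [this, orderOf_one] at hz0
    omega
  suffices h : 2 ^ k - 1 ∣ 2 ^ d - 1 by
    obtain ⟨m, rfl⟩ := dvd_of_pow_sub_one hk0 h
    exact ⟨m, by rw [hd, hΩ, hk, pow_mul]⟩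
  let X := {g : G // g ≠ 1}
  let Y := {z : G // z ≠ 1 ∧ z ^ 2 = 1}
  have hinv : ∀ g : X, (g.1 ^ (orderOf g.1 / 2)) ≠ 1 ∧ (g.1 ^ (orderOf g.1 / 2)) ^ 2 = 1 := by
    intro g
    obtain ⟨i, hi⟩ := (IsPGroup.iff_orderOf.1 hG) g.1
    have hi0 : i ≠ 0 := fun e => g.2 (by rwa [e, pow_zero, orderOf_eq_one_iff] at hi)
    have h2 : 2 ∣ orderOf g.1 := hi ▸ dvd_pow_self 2 hi0
    refine ⟨pow_ne_one_of_lt_orderOf ?_ ?_, by rw [← pow_mul, Nat.div_mul_cancel h2, pow_orderOf_eq_one]⟩
    · exact (Nat.div_pos (Nat.le_of_dvd (orderOf_pos _) h2) two_pos).ne'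
    · exact Nat.div_lt_self (orderOf_pos _) one_lt_two
  let π : X → Y := fun g => ⟨_, hinv g⟩
  have hfib : ∀ y y' : Y, Nat.card {g : X // π g = y} = Nat.card {g : X // π g = y'} := by
    intro y y'
    obtain ⟨a, ha⟩ := htrans y.1 y'.1 y.2.1 y.2.2 y'.2.1 y'.2.2
    have hπ : ∀ g : X, ((π ⟨a g.1, fun e => g.2 (a.injective (e.trans (map_one a).symm))⟩ : Y) : G) = a (π g : Y) := by
      intro g
      show (a g.1) ^ (orderOf (a g.1) / 2) = a (g.1 ^ (orderOf g.1 / 2))
      rw [orderOf_injective a.toMonoidHom a.injective g.1 |> fun h => (h : orderOf (a g.1) = orderOf g.1), map_pow]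
    refine Nat.card_congr (Equiv.subtypeEquiv (Equiv.subtypeEquiv a.toEquiv fun g => ?_) fun g => ?_)
    · simp
    · constructor
      · intro h
        refine Subtype.ext ((hπ g).trans ?_)
        rw [h, ha]
      · intro h
        refine Subtype.ext (a.injective ?_)
        rw [← hπ g, ha]
        exact congrArg Subtype.val h
  have hY : Nat.card Y = 2 ^ k - 1 := by
    have h := Nat.card_congr (Equiv.sumCompl (fun a : Ω => a = 1))
    rw [Nat.card_sum, Nat.card_unique, hk] at h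
    have e : {a : Ω // ¬ a = 1} ≃ Y :=
      { toFun := fun a => ⟨a.1.1, fun e => a.2 (Subtype.ext e), a.1.2⟩
        invFun := fun y => ⟨⟨y.1, y.2.2⟩, fun e => y.2.1 (congrArg Subtype.val e)⟩
        left_inv := fun _ => rfl
        right_inv := fun _ => rfl }
    rw [← Nat.card_congr e]
    omega
  have hX : Nat.card X = 2 ^ d - 1 := by
    have h := Nat.card_congr (Equiv.sumCompl (fun a : G => a = 1))
    rw [Nat.card_sum, Nat.card_unique, hd] at h
    show Nat.card {a : G // ¬ a = 1} = _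
    omega
  have := Fintype.ofFinite Y
  rw [← hX, ← hY, ← Nat.card_congr (Equiv.sigmaFiberEquiv π), Nat.card_sigma]
  rcases isEmpty_or_nonempty Y with hYe | ⟨⟨y0⟩⟩
  · simp
  rw [Finset.sum_congr rfl fun y _ => hfib y y0, Finset.sum_const, Finset.card_univ,
    ← Nat.card_eq_fintype_card, smul_eq_mul]
  exact dvd_mul_right _ _

end Cfsg.Agent.S3774
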