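import Cfsg.Statements.S3775
import Cfsg.Agent.Lib.Coprime.AbelianMaschke


set_option autoImplicit false
open Cfsg

namespace Cfsg.Agent.S3775


universe u
variable {A : Type u} [CommGroup A] [Finite A] {p : ℕ} [Fact p.Prime]

def IsInv (X : Subgroup (MulAut A)) (B : Subgroup A) : Prop := ∀ x ∈ X, ∀ a ∈ B, x a ∈ B

theorem isInv_iff (X : Subgroup (MulAut A)) (B : Subgroup A) :
    IsInv X B ↔ ∀ x ∈ X, B.map x.toMonoidHom = B := by
  constructor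
  · intro h x hx
    refine le_antisymm ?_ fun a ha => ⟨x⁻¹ a, h _ (inv_mem hx) a ha, by simp⟩
    rintro _ ⟨a, ha, rfl⟩
    exact h x hx a ha
  · intro h x hx a ha
    have := Subgroup.mem_map_of_mem x.toMonoidHom ha
    rwa [h x hx] at this

/-- `{a ∈ B | a ^ n ∈ C}`. -/
def rootsIn (B C : Subgroup A) (n : ℕ) : Subgroup A := B ⊓ C.comap (powMonoidHom n)

omit [Finite A] in
theorem mem_rootsIn {B C : Subgroup A} {n : ℕ} {a : A} : a ∈ rootsIn B C n ↔ a ∈ B ∧ a ^ n ∈ C := Iff.rfl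

theorem isInv_rootsIn {X : Subgroup (MulAut A)} {B C : Subgroup A} (hB : IsInv X B) (hC : IsInv X C) (n : ℕ) :
    IsInv X (rootsIn B C n) := fun x hx a ha =>
  ⟨hB x hx a ha.1, by
    show (x a) ^ n ∈ C
    rw [← map_pow]; exact hC x hx _ ha.2⟩

theorem isInv_map_pow {X : Subgroup (MulAut A)} {B : Subgroup A} (hB : IsInv X B) (n : ℕ) :
    IsInv X (B.map (powMonoidHom n)) := by
  rintro x hx _ ⟨b, hb, rfl⟩
  exact ⟨x b, hB x hx b hb, (map_pow x b n).symm⟩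

theorem isInv_top (X : Subgroup (MulAut A)) : IsInv X ⊤ := fun _ _ _ _ => trivial

theorem isInv_bot (X : Subgroup (MulAut A)) : IsInv X ⊥ := fun x _ a ha => by
  rw [Subgroup.mem_bot] at ha ⊢
  rw [ha, map_one]

theorem exists_pow_eq_one_of_ne_bot (hA : IsPGroup p A) {B : Subgroup A} (hB : B ≠ ⊥) :
    ∃ b ∈ B, b ≠ 1 ∧ b ^ p = 1 := by
  have : Nontrivial B := (Subgroup.nontrivial_iff_ne_bot B).2 hB
  obtain ⟨k, hk⟩ := (hA.to_subgroup B).exists_card_eq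
  have hk0 : k ≠ 0 := by
    rintro rfl
    exact absurd hk (Finite.one_lt_card (α := B)).ne'
  obtain ⟨b, hb⟩ := exists_prime_orderOf_dvd_card' (G := B) p (hk ▸ dvd_pow_self p hk0)
  refine ⟨b, b.2, fun h => ?_, ?_⟩
  · rw [show b = 1 from Subtype.ext h, orderOf_one] at hb
    exact (Fact.out : p.Prime).ne_one hb.symm
  · rw [← Subgroup.coe_pow, ← hb, pow_orderOf_eq_one, Subgroup.coe_one]

/-- (iii) implies (ii). -/
theorem eq_omega (hA : IsPGroup p A) (X : Subgroup (MulAut A))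
    (hirr : ∀ B : Subgroup A, IsInv X B → (∀ b ∈ B, b ^ p = 1) → B = ⊥ ∨ ∀ a : A, a ∈ B ↔ a ^ p = 1) :
    ∀ n, ∀ B : Subgroup A, IsInv X B → (∀ b ∈ B, b ^ p ^ n = 1) → ∃ i, ∀ a : A, a ∈ B ↔ a ^ p ^ i = 1 := by
  intro n
  induction n with
  | zero => exact fun B _ h => ⟨0, fun a => ⟨fun ha => h a ha, fun ha => by
      rw [pow_zero, pow_one] at ha; exact ha ▸ B.one_mem⟩⟩
  | succ n ih =>
    intro B hB h
    rcases eq_or_ne B ⊥ with rfl | hne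
    · exact ⟨0, fun a => by simp⟩
    obtain ⟨j, hj⟩ := ih (B.map (powMonoidHom p)) (isInv_map_pow hB p) (by
      rintro _ ⟨b, hb, rfl⟩
      rw [powMonoidHom_apply, ← pow_mul, ← pow_succ']
      exact h b hb)
    obtain ⟨b0, hb0, hb01, hb0p⟩ := exists_pow_eq_one_of_ne_bot hA hne
    have hΩ : ∀ a : A, a ^ p = 1 → a ∈ B := fun a ha => by
      rcases hirr (rootsIn B ⊥ p) (isInv_rootsIn hB (isInv_bot X) p) (fun b hb => hb.2) with h0 | h0
      · exact absurd (h0 ▸ (⟨hb0, hb0p⟩ : b0 ∈ rootsIn B ⊥ p) : b0 ∈ (⊥ : Subgroup A)) hb01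
      · exact ((h0 a).2 ha).1
    refine ⟨j + 1, fun a => ⟨fun ha => ?_, fun ha => ?_⟩⟩
    · rw [pow_succ', pow_mul]
      exact (hj _).1 ⟨a, ha, rfl⟩
    · obtain ⟨b, hb, hba⟩ := (hj (a ^ p)).2 (by rw [← pow_mul, ← pow_succ']; exact ha)
      rw [← div_mul_cancel a b]
      refine mul_mem (hΩ _ ?_) hb
      rw [div_pow, show b ^ p = a ^ p from hba, div_self']

/-- (i) implies (iii). -/
theorem omega_irreducible (hA : IsPGroup p A) (X : Subgroup (MulAut A)) (hX : (Nat.card X).Coprime p)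
    (hind : ¬ ∃ B C : Subgroup A, B ≠ ⊥ ∧ C ≠ ⊥ ∧ IsInv X B ∧ IsInv X C ∧ B ⊓ C = ⊥ ∧ B ⊔ C = ⊤)
    (U : Subgroup A) (hU : IsInv X U) (hUp : ∀ b ∈ U, b ^ p = 1) (hU0 : U ≠ ⊥) (a : A) (ha : a ^ p = 1) :
    a ∈ U := by
  classical
  have hex : ∃ e, ∀ a : A, a ^ p ^ e = 1 := by
    obtain ⟨k, hk⟩ := hA.exists_card_eq
    exact ⟨k, fun a => hk ▸ pow_card_eq_one'⟩
  obtain ⟨e, he⟩ : ∃ e, Nat.find hex = e + 1 := by
    refine ⟨Nat.find hex - 1, (Nat.succ_pred_eq_of_pos ?_).symm⟩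
    by_contra h
    have h0 := Nat.find_spec hex
    obtain ⟨u, _, hu1, _⟩ := exists_pow_eq_one_of_ne_bot hA hU0
    exact hu1 (by simpa [show Nat.find hex = 0 by omega] using h0 u)
  have hall : ∀ a : A, a ^ p ^ (e + 1) = 1 := he ▸ Nat.find_spec hex
  obtain ⟨a0, ha0⟩ : ∃ a : A, a ^ p ^ e ≠ 1 := by
    by_contra h
    push Not at h
    exact Nat.find_min hex (show e < Nat.find hex by omega) h
  obtain ⟨B, hB⟩ := (Set.toFinite {B : Subgroup A | IsInv X B ∧ ∃ b ∈ B, b ^ p ^ e ≠ 1}).exists_minimal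
    ⟨⊤, isInv_top X, a0, trivial, ha0⟩
  obtain ⟨hBi, b0, hb0, hb0e⟩ := hB.1
  have hsmall : ∀ S : Subgroup A, IsInv X S → S ≤ B → S ≠ B → ∀ s ∈ S, s ^ p ^ e = 1 := by
    intro S hS hSB hne s hs
    by_contra h
    exact hne (le_antisymm hSB (hB.2 ⟨hS, s, hs, h⟩ hSB))
  set Bp := B.map (powMonoidHom p) with hBp
  have hBpB : Bp ≤ B := by
    rintro _ ⟨b, hb, rfl⟩; exact pow_mem hb p
  have hsimple : ∀ S : Subgroup A, IsInv X S → Bp ≤ S → S ≤ B → S = Bp ∨ S = B := by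
    intro S hS h1 h2
    refine or_iff_not_imp_right.2 fun hne => ?_
    obtain ⟨D, hD1, hD2, hD3, hD4⟩ := Agent.Coprime.exists_invariant_compl_elementary X hX h1 h2
      (fun b hb => ⟨b, hb, rfl⟩) (isInv_map_pow hBi p) hS hBi
    rcases eq_or_ne D B with rfl | hDne
    · rwa [inf_eq_right.2 h2] at hD3
    exfalso
    obtain ⟨d, hd, s, hs, hds⟩ := Subgroup.mem_sup.1 (hD4.symm ▸ hb0 : b0 ∈ D ⊔ S)
    exact hb0e (by rw [← hds, mul_pow, hsmall D hD2 (hD4 ▸ le_sup_left) hDne d hd, hsmall S hS h2 hne s hs, one_mul])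
  have hK : ∀ b ∈ B, b ^ p ^ e = 1 → ∃ c ∈ B, b = c ^ p := by
    intro b hb hbe
    have h1 : Bp ≤ rootsIn B ⊥ (p ^ e) := by
      rintro _ ⟨c, hc, rfl⟩
      refine ⟨pow_mem hc p, ?_⟩
      show (c ^ p) ^ p ^ e = 1
      rw [← pow_mul, ← pow_succ']
      exact hall c
    rcases hsimple _ (isInv_rootsIn hBi (isInv_bot X) _) h1 inf_le_left with h | h
    · obtain ⟨c, hc, hcb⟩ := (h ▸ (⟨hb, hbe⟩ : b ∈ rootsIn B ⊥ (p ^ e)) : b ∈ Bp)
      exact ⟨c, hc, hcb.symm⟩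
    · exact absurd (h.symm ▸ hb0 : b0 ∈ rootsIn B ⊥ (p ^ e)).2 hb0e
  have hroot : ∀ j, j ≤ e → ∀ b ∈ B, b ^ p = 1 → ∃ c ∈ B, b = c ^ p ^ j := by
    intro j
    induction j with
    | zero => exact fun _ b hb _ => ⟨b, hb, by simp⟩
    | succ j ihj =>
      intro hje b hb hbp
      obtain ⟨c, hc, rfl⟩ := ihj (by omega) b hb hbp
      obtain ⟨c', hc', rfl⟩ := hK c hc (by
        rw [show e = (j + 1) + (e - (j + 1)) by omega, pow_add, pow_mul, pow_succ, pow_mul, hbp, one_pow])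
      exact ⟨c', hc', by rw [← pow_mul, ← pow_succ']⟩
  -- an invariant complement of `B`
  obtain ⟨C, hC⟩ := (Set.toFinite {C : Subgroup A | IsInv X C ∧ B ⊓ C = ⊥}).exists_maximal
    ⟨⊥, isInv_bot X, inf_bot_eq B⟩
  obtain ⟨hCi, hBC⟩ := hC.1
  have hSi : IsInv X (rootsIn (B ⊔ C) C p) := by
    refine isInv_rootsIn ?_ hCi p
    intro x hx y hy
    obtain ⟨b, hb, c, hc, rfl⟩ := Subgroup.mem_sup.1 hy
    rw [map_mul]
    exact Subgroup.mul_mem_sup (hBi x hx b hb) (hCi x hx c hc)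
  obtain ⟨D, hD1, hD2, hD3, hD4⟩ := Agent.Coprime.exists_invariant_compl_elementary X hX
    (S := rootsIn (B ⊔ C) C p) (T := rootsIn ⊤ C p) (fun c hc => ⟨Subgroup.mem_sup_right hc, pow_mem hc p⟩)
    (fun y hy => ⟨trivial, hy.2⟩) (fun t ht => ht.2) hCi hSi (isInv_rootsIn (isInv_top X) hCi p)
  have hDC : D = C := by
    refine le_antisymm (hC.2 ⟨hD2, ?_⟩ hD1) hD1
    refine (Subgroup.eq_bot_iff_forall _).2 fun y hy => ?_
    have hyC : y ∈ C := hD3 ▸ (⟨hy.2, Subgroup.mem_sup_left hy.1,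
      ((hD4 ▸ Subgroup.mem_sup_left hy.2 : y ∈ rootsIn ⊤ C p)).2⟩ : y ∈ D ⊓ rootsIn (B ⊔ C) C p)
    exact (Subgroup.eq_bot_iff_forall _).1 hBC y ⟨hy.1, hyC⟩
  have hT : ∀ t : A, t ^ p ∈ C → t ∈ B ⊔ C := fun t ht => by
    have hle : D ⊔ rootsIn (B ⊔ C) C p ≤ B ⊔ C :=
      sup_le (hDC ▸ le_sup_right) (fun y hy => hy.1)
    exact hle (hD4.symm ▸ (⟨trivial, ht⟩ : t ∈ rootsIn ⊤ C p))
  have hgen : ∀ i, i ≤ e + 1 → ∀ t : A, t ^ p ^ i ∈ C → t ∈ B ⊔ C := by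
    intro i
    induction i with
    | zero => exact fun _ t ht => Subgroup.mem_sup_right (by simpa using ht)
    | succ i ihi =>
      intro hie t ht
      rw [pow_succ', pow_mul] at ht
      obtain ⟨b, hb, c, hc, hbc⟩ := Subgroup.mem_sup.1 (ihi (by omega) _ ht)
      rw [← hbc, mul_pow] at ht
      have hbi : b ^ p ^ i = 1 := (Subgroup.eq_bot_iff_forall _).1 hBC _
        ⟨pow_mem hb _, (Subgroup.mul_mem_cancel_right _ (pow_mem hc _)).1 ht⟩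
      obtain ⟨b1, hb1, rfl⟩ := hK b hb (by
        rw [show e = i + (e - i) by omega, pow_add, pow_mul, hbi, one_pow])
      rw [← div_mul_cancel t b1]
      refine mul_mem (hT _ ?_) (Subgroup.mem_sup_left hb1)
      rw [div_pow, ← hbc, mul_div_cancel_left]
      exact hc
  have htop : B ⊔ C = ⊤ := eq_top_iff.2 fun t _ => hgen (e + 1) le_rfl t (hall t ▸ C.one_mem)
  have hB0 : B ≠ ⊥ := by
    rintro rfl
    exact hb0e (by rw [Subgroup.mem_bot.1 hb0, one_pow])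
  have hC0 : C = ⊥ := by
    by_contra hC0
    exact hind ⟨B, C, hB0, hC0, hBi, hCi, hBC, htop⟩
  rw [hC0, sup_bot_eq] at htop
  obtain ⟨u, hu, hu1, hup⟩ := exists_pow_eq_one_of_ne_bot hA hU0
  have h1 : Bp ≤ rootsIn B U (p ^ e) := by
    rintro _ ⟨c, hc, rfl⟩
    refine ⟨pow_mem hc p, ?_⟩
    show (c ^ p) ^ p ^ e ∈ U
    rw [← pow_mul, ← pow_succ', hall c]
    exact U.one_mem
  have hfull : rootsIn B U (p ^ e) = B := by
    refine (hsimple _ (isInv_rootsIn hBi hU _) h1 inf_le_left).resolve_left fun h => ?_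
    obtain ⟨c, hc, rfl⟩ := hroot e le_rfl u (htop ▸ trivial) hup
    obtain ⟨d, hd, rfl⟩ := (h ▸ (⟨hc, hu⟩ : c ∈ rootsIn B U (p ^ e)) : c ∈ Bp)
    exact hu1 (by rw [powMonoidHom_apply, ← pow_mul, ← pow_succ']; exact hall d)
  obtain ⟨c, hc, rfl⟩ := hroot e le_rfl a (htop ▸ trivial) ha
  exact (hfull.symm ▸ hc : c ∈ rootsIn B U (p ^ e)).2


/-- Let A be a finite abelian p-group and X a group of automorphisms of A of order prime to p. Call a subgroup of A invariant when every element of X maps it onto itself. Then the following are equivalent: (i) A is not the direct product of two nontrivial invariant subgroups; (ii) every invariant subgroup of A is one of the subgroups Ω_i(A) = {a : a^(p^i) = 1}; (iii) the subgroup Ω₁(A) of elements of order dividing p has no invariant subgroups other than 1 and itself. -/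
theorem result {A : Type*} [CommGroup A] [Finite A] {p : ℕ} [Fact p.Prime] (hA : IsPGroup p A) (X : Subgroup (MulAut A)) (hX : (Nat.card X).Coprime p) : ((¬ ∃ B C : Subgroup A, B ≠ ⊥ ∧ C ≠ ⊥ ∧ (∀ x ∈ X, B.map x.toMonoidHom = B) ∧ (∀ x ∈ X, C.map x.toMonoidHom = C) ∧ B ⊓ C = ⊥ ∧ B ⊔ C = ⊤) ↔ (∀ B : Subgroup A, (∀ x ∈ X, B.map x.toMonoidHom = B) → ∃ i : ℕ, ∀ a : A, a ∈ B ↔ a ^ p ^ i = 1)) ∧ ((∀ B : Subgroup A, (∀ x ∈ X, B.map x.toMonoidHom = B) → ∃ i : ℕ, ∀ a : A, a ∈ B ↔ a ^ p ^ i = 1) ↔ (∀ B : Subgroup A, (∀ x ∈ X, B.map x.toMonoidHom = B) → (∀ b ∈ B, b ^ p = 1) → B = ⊥ ∨ ∀ a : A, a ∈ B ↔ a ^ p = 1)) := by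
  simp only [← isInv_iff]
  have h12 : (¬ ∃ B C : Subgroup A, B ≠ ⊥ ∧ C ≠ ⊥ ∧ IsInv X B ∧ IsInv X C ∧ B ⊓ C = ⊥ ∧ B ⊔ C = ⊤) →
      ∀ B : Subgroup A, IsInv X B → (∀ b ∈ B, b ^ p = 1) → B = ⊥ ∨ ∀ a : A, a ∈ B ↔ a ^ p = 1 :=
    fun h B hB hBp => or_iff_not_imp_left.2 fun hne a =>
      ⟨hBp a, omega_irreducible hA X hX h B hB hBp hne a⟩
  have h32 : (∀ B : Subgroup A, IsInv X B → (∀ b ∈ B, b ^ p = 1) → B = ⊥ ∨ ∀ a : A, a ∈ B ↔ a ^ p = 1) →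
      ∀ B : Subgroup A, IsInv X B → ∃ i : ℕ, ∀ a : A, a ∈ B ↔ a ^ p ^ i = 1 := by
    intro h B hB
    obtain ⟨k, hk⟩ := hA.exists_card_eq
    exact eq_omega hA X h k B hB fun b _ => hk ▸ pow_card_eq_one'
  have h23 : (∀ B : Subgroup A, IsInv X B → ∃ i : ℕ, ∀ a : A, a ∈ B ↔ a ^ p ^ i = 1) →
      ∀ B : Subgroup A, IsInv X B → (∀ b ∈ B, b ^ p = 1) → B = ⊥ ∨ ∀ a : A, a ∈ B ↔ a ^ p = 1 := by
    intro h B hB hBp
    obtain ⟨i, hi⟩ := h B hB
    rcases i with _ | i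
    · exact Or.inl ((Subgroup.eq_bot_iff_forall _).2 fun b hb => by simpa using (hi b).1 hb)
    · exact Or.inr fun a => ⟨hBp a, fun ha => (hi a).2 (by rw [pow_succ', pow_mul, ha, one_pow])⟩
  refine ⟨⟨fun h => h32 (h12 h), ?_⟩, ⟨h23, h32⟩⟩
  rintro h ⟨B, C, hB, hC, hBi, hCi, hinf, -⟩
  have key : ∀ B : Subgroup A, B ≠ ⊥ → IsInv X B → ∀ a : A, a ^ p = 1 → a ∈ B := fun B hB hBi a ha => by
    obtain ⟨i, hi⟩ := h B hBi
    rcases i with _ | i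
    · exact absurd ((Subgroup.eq_bot_iff_forall _).2 fun b hb => by simpa using (hi b).1 hb) hB
    · exact (hi a).2 (by rw [pow_succ', pow_mul, ha, one_pow])
  obtain ⟨b, hb, hb1, hbp⟩ := exists_pow_eq_one_of_ne_bot hA hB
  exact hb1 ((Subgroup.eq_bot_iff_forall _).1 hinf b ⟨hb, key C hC hCi b hbp⟩)

end Cfsg.Agent.S3775
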