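import Cfsg.Statements.S3776
import Cfsg.Agent.Lib.HigmanTransitive.Main
import Cfsg.Agent.Lib.PGroup.Frattini

set_option autoImplicit false
open Cfsg

namespace Cfsg.Agent.S3776

/-- Let G be a finite non-abelian 2-group with more than one involution admitting a solvable group of automorphisms that permutes its involutions transitively. Then the derived subgroup, the Frattini subgroup and the centre of G coincide and consist exactly of the elements x with x² = 1. -/
theorem result {G : Type*} [Group G] [Finite G] (hG : IsPGroup 2 G) (hna : ¬ IsMulCommutative G) (htwo : ∃ x y : G, x ≠ y ∧ x ≠ 1 ∧ x ^ 2 = 1 ∧ y ≠ 1 ∧ y ^ 2 = 1) (hY : ∃ Y : Subgroup (MulAut G), Group.IsSolvable Y ∧ ∀ x y : G, x ≠ 1 → x ^ 2 = 1 → y ≠ 1 → y ^ 2 = 1 → ∃ a ∈ Y, a x = y) : commutator G = frattini G ∧ frattini G = Subgroup.center G ∧ ∀ x : G, x ∈ Subgroup.center G ↔ x ^ 2 = 1 := by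
  have : Fact (Nat.Prime 2) := ⟨Nat.prime_two⟩
  have hne : ∃ x y : G, x * y ≠ y * x := by
    by_contra! h
    exact hna ⟨⟨h⟩⟩
  obtain ⟨hmem, hsq, hcm, hchar⟩ := Cfsg.Agent.HigmanTransitive.structure_thm hG hne htwo hY
  have hle : commutator G ≤ Subgroup.center G := by
    rw [commutator_def, Subgroup.commutator_le]
    intro g _ h _
    exact hcm g h
  have hbot : commutator G ≠ ⊥ := by
    intro h
    obtain ⟨x, y, hxy⟩ := hne
    have h1 := Subgroup.commutator_mem_commutator (Subgroup.mem_top x) (Subgroup.mem_top y)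
    rw [← commutator_def, h, Subgroup.mem_bot] at h1
    exact hxy (commutatorElement_eq_one_iff_mul_comm.1 h1)
  have hD : commutator G = Subgroup.center G := le_antisymm hle (hchar _ inferInstance hbot)
  have hΦ : frattini G = Subgroup.center G :=
    le_antisymm (Cfsg.Agent.PGroup.frattini_le hle fun x => by rw [sq]; exact hsq x)
      (hD ▸ Cfsg.Agent.PGroup.commutator_le_frattini hG)
  exact ⟨hD.trans hΦ.symm, hΦ, fun x => by rw [hmem, sq]⟩

end Cfsg.Agent.S3776
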