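import Cfsg.Statements.S3778
import Mathlib

set_option autoImplicit false
set_option linter.style.haveILetI false
set_option linter.unusedSectionVars false
open Cfsg

namespace Cfsg.Agent.S3778

open Subgroup
open scoped Classical commutatorElement

section
variable {G : Type*} [Group G]

/-- The elements acting trivially by commutation from term `i` to term `i + 1` modulo `i + 2`. -/
def trivialStep (i : ℕ) : Subgroup G :=
  (centralizer ((((⊤ : Subgroup G).lowerCentralSeries i).map
      (QuotientGroup.mk' ((⊤ : Subgroup G).lowerCentralSeries (i + 2)))) :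
        Set (G ⧸ (⊤ : Subgroup G).lowerCentralSeries (i + 2)))).comap
    (QuotientGroup.mk' ((⊤ : Subgroup G).lowerCentralSeries (i + 2)))

theorem mem_trivialStep {i : ℕ} {x : G} :
    x ∈ trivialStep i ↔ ∀ a ∈ (⊤ : Subgroup G).lowerCentralSeries i,
      ⁅a, x⁆ ∈ (⊤ : Subgroup G).lowerCentralSeries (i + 2) := by
  rw [trivialStep, mem_comap, mem_centralizer_iff]
  constructor
  · intro h a ha
    rw [← QuotientGroup.eq_one_iff, ← QuotientGroup.mk'_apply, map_commutatorElement,
      commutatorElement_eq_one_iff_mul_comm]
    exact h _ (mem_map_of_mem _ ha)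
  · rintro h _ ⟨a, ha, rfl⟩
    rw [← commutatorElement_eq_one_iff_mul_comm, ← map_commutatorElement, QuotientGroup.mk'_apply,
      QuotientGroup.eq_one_iff]
    exact h a ha

end

variable {G : Type*} [Group G] [Finite G] {p : ℕ} [Fact p.Prime]

theorem trivialStep_ne_top {c : ℕ} (hmin : ∀ j < c, (⊤ : Subgroup G).lowerCentralSeries j ≠ ⊥)
    (hnil : ∃ n, (⊤ : Subgroup G).lowerCentralSeries n = ⊥) {i : ℕ} (hi : i + 1 < c) :
    trivialStep (G := G) i ≠ ⊤ := by
  intro h
  set L := (⊤ : Subgroup G).lowerCentralSeries with hL
  have h1 : L (i + 1) = L (i + 2) := by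
    refine le_antisymm ?_ ((⊤ : Subgroup G).lowerCentralSeries_antitone (by omega))
    rw [hL, Subgroup.lowerCentralSeries_succ, commutator_le]
    intro a ha x _
    exact mem_trivialStep.mp (h ▸ mem_top x) a ha
  have h2 : ∀ k, L (i + 1 + k) = L (i + 1) := by
    intro k
    induction k with
    | zero => rfl
    | succ k ih =>
      show ⁅L (i + 1 + k), (⊤ : Subgroup G)⁆ = _
      rw [ih]
      exact h1.symm
  obtain ⟨n, hn⟩ := hnil
  refine hmin (i + 1) hi ?_
  rw [← le_bot_iff]
  calc L (i + 1) = L (i + 1 + n) := (h2 n).symm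
    _ ≤ L n := (⊤ : Subgroup G).lowerCentralSeries_antitone (by omega)
    _ = ⊥ := hn

theorem pow_card_le_index (hG : IsPGroup p G) (x : G) (n : ℕ) :
    p ^ ((Finset.range n).filter fun i => x ∉ trivialStep i).card ≤
      (centralizer ({x} : Set G) ⊔ (⊤ : Subgroup G).lowerCentralSeries n).index := by
  induction n with
  | zero => simp
  | succ n ih =>
    set C := centralizer ({x} : Set G) with hC
    set L := (⊤ : Subgroup G).lowerCentralSeries with hL
    have hle : C ⊔ L (n + 1) ≤ C ⊔ L n :=
      sup_le_sup_left ((⊤ : Subgroup G).lowerCentralSeries_antitone (by omega)) C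
    have hmono : (C ⊔ L n).index ≤ (C ⊔ L (n + 1)).index :=
      Nat.le_of_dvd (Nat.pos_of_ne_zero Subgroup.index_ne_zero_of_finite) (index_dvd_of_le hle)
    rw [Finset.range_add_one, Finset.filter_insert]
    by_cases hx : x ∈ trivialStep n
    · rw [if_neg (by simp [hx])]
      exact ih.trans hmono
    · rw [if_pos hx, Finset.card_insert_of_notMem (by simp), pow_succ]
      obtain ⟨k, hk⟩ := hG.index (C ⊔ L n)
      obtain ⟨m, hm⟩ := hG.index (C ⊔ L (n + 1))
      have hlt : (C ⊔ L n).index ≠ (C ⊔ L (n + 1)).index := by
        intro he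
        refine hx (mem_trivialStep.mpr fun a ha => ?_)
        have heq : C ⊔ L (n + 1) = C ⊔ L n := by
          refine eq_of_le_of_card_ge hle ?_
          have h1 := (C ⊔ L n).card_mul_index
          have h2 := (C ⊔ L (n + 1)).card_mul_index
          rw [← he, ← h1] at h2
          exact (Nat.eq_of_mul_eq_mul_right
            (Nat.pos_of_ne_zero Subgroup.index_ne_zero_of_finite) h2).ge
        have ha' : a ∈ C ⊔ L (n + 1) := heq ▸ mem_sup_right ha
        haveI : (L (n + 1)).Normal := inferInstanceAs
          ((⊤ : Subgroup G).lowerCentralSeries (n + 1)).Normal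
        obtain ⟨h, hh, g, hg, rfl⟩ := mem_sup_of_normal_right.mp ha'
        have hhx : h * x = x * h := mem_centralizer_singleton_iff.mp hh
        have h1 : ⁅g, x⁆ ∈ L (n + 2) := commutator_mem_commutator hg (mem_top x)
        have h2 : ⁅h * g, x⁆ = h * ⁅g, x⁆ * h⁻¹ := by
          have h3 : x * h⁻¹ = h⁻¹ * x := by
            rw [eq_inv_mul_iff_mul_eq, ← mul_assoc, hhx, mul_inv_cancel_right]
          have h4 : x⁻¹ * h⁻¹ = h⁻¹ * x⁻¹ := by
            rw [← mul_inv_rev, ← mul_inv_rev, hhx]
          simp only [commutatorElement_def, mul_inv_rev, mul_assoc, h4]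
        rw [h2]
        haveI : (L (n + 2)).Normal := inferInstanceAs
          ((⊤ : Subgroup G).lowerCentralSeries (n + 2)).Normal
        exact Normal.conj_mem inferInstance _ h1 h
      rw [hk, hm] at hlt hmono
      rw [hk] at ih
      rw [hm]
      have hkm : k < m := by
        rcases lt_or_ge k m with h | h
        · exact h
        · exact absurd (le_antisymm hmono
            (Nat.pow_le_pow_right (Fact.out : p.Prime).pos h)) hlt
      calc p ^ _ * p ≤ p ^ k * p := Nat.mul_le_mul_right p ih
        _ = p ^ (k + 1) := (pow_succ p k).symm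
        _ ≤ p ^ m := Nat.pow_le_pow_right (Fact.out : p.Prime).pos hkm

theorem card_trivialStep_le (hG : IsPGroup p G) {i : ℕ} (h : trivialStep (G := G) i ≠ ⊤) :
    p * Nat.card (trivialStep (G := G) i) ≤ Nat.card G := by
  obtain ⟨k, hk⟩ := hG.index (trivialStep (G := G) i)
  have h1 := (trivialStep (G := G) i).card_mul_index
  rcases k with _ | k
  · exact absurd (index_eq_one.mp (by simpa using hk)) h
  · rw [← h1, hk, mul_comm p]
    exact Nat.mul_le_mul_left _ (Nat.le_self_pow (by omega) p)

/-- If G is a finite p-group in which every conjugacy class has at most p^b elements (every element has centralizer of index at most p^b), then G is abelian when b = 0, and when b ≥ 1 its nilpotency class c satisfies (c − 1)(p − 1) < bp, that is c < bp/(p − 1) + 1, and hence c ≤ 2b. -/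
theorem result {G : Type*} [Group G] [Finite G] {p : ℕ} [Fact p.Prime] (hG : IsPGroup p G) (b : ℕ) (hb : ∀ x : G, (Subgroup.centralizer ({x} : Set G)).index ≤ p ^ b) : ∃ c : ℕ, (⊤ : Subgroup G).lowerCentralSeries c = ⊥ ∧ (b ≠ 0 → (c - 1) * (p - 1) < b * p ∧ c ≤ 2 * b) ∧ (b = 0 → c ≤ 1) := by
  classical
  haveI : Group.IsNilpotent G := hG.isNilpotent
  have hnil : ∃ n, (⊤ : Subgroup G).lowerCentralSeries n = ⊥ :=
    Subgroup.nilpotent_iff_lowerCentralSeries.mp inferInstance
  refine ⟨Nat.find hnil, Nat.find_spec hnil, ?_, ?_⟩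
  · intro hb0
    set c := Nat.find hnil with hc
    haveI := Fintype.ofFinite G
    have hp2 := (Fact.out : p.Prime).two_le
    set bad : G → ℕ := fun x => ((Finset.range (c - 1)).filter fun i => x ∉ trivialStep i).card
    have hbad : ∀ x, bad x ≤ b := fun x => by
      refine (Nat.pow_le_pow_iff_right hp2).mp ((pow_card_le_index hG x (c - 1)).trans ?_)
      exact (Nat.le_of_dvd (Nat.pos_of_ne_zero Subgroup.index_ne_zero_of_finite)
        (index_dvd_of_le le_sup_left)).trans (hb x)
    have hbad1 : bad 1 = 0 := by simp [bad, one_mem]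
    have hub : ∑ x : G, bad x ≤ b * (Fintype.card G - 1) := by
      rw [← Finset.add_sum_erase _ _ (Finset.mem_univ (1 : G)), hbad1, zero_add]
      refine (Finset.sum_le_card_nsmul _ _ b fun x _ => hbad x).trans ?_
      simp [mul_comm, Finset.card_univ]
    have hlb : (c - 1) * ((p - 1) * Fintype.card G) ≤ p * ∑ x : G, bad x := by
      simp only [bad, Finset.card_filter]
      rw [Finset.sum_comm, Finset.mul_sum]
      have hterm : ∀ i ∈ Finset.range (c - 1), (p - 1) * Fintype.card G ≤
          p * ∑ x : G, if x ∉ trivialStep i then 1 else 0 := by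
        intro i hi
        have h1 := card_trivialStep_le hG (i := i) (trivialStep_ne_top (G := G)
          (fun j hj => Nat.find_min hnil hj) hnil (i := i) (by
            have := Finset.mem_range.mp hi; omega))
        rw [← Finset.card_filter]
        have h2 := Finset.card_filter_add_card_filter_not
          (s := (Finset.univ : Finset G)) (fun x : G => x ∈ trivialStep i)
        have h3 : (Finset.univ.filter fun x : G => x ∈ trivialStep i).card =
            Nat.card (trivialStep (G := G) i) := by
          rw [Nat.card_eq_fintype_card, Fintype.card_subtype]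
        rw [h3, Finset.card_univ] at h2
        rw [Nat.card_eq_fintype_card (α := G)] at h1
        rw [Nat.sub_mul, one_mul, ← h2, mul_add]
        omega
      have := Finset.card_nsmul_le_sum _ _ _ hterm
      rwa [Finset.card_range, smul_eq_mul] at this
    have hG1 : 0 < Fintype.card G := Fintype.card_pos
    have hlt : (c - 1) * (p - 1) < b * p := by
      refine Nat.lt_of_mul_lt_mul_right (a := Fintype.card G) ?_
      calc (c - 1) * (p - 1) * Fintype.card G ≤ p * ∑ x : G, bad x := by
            rw [mul_assoc]; exact hlb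
        _ ≤ p * (b * (Fintype.card G - 1)) := Nat.mul_le_mul_left p hub
        _ < p * (b * Fintype.card G) := by
            refine Nat.mul_lt_mul_of_pos_left ?_ (by omega)
            exact Nat.mul_lt_mul_of_pos_left (by omega) (by omega)
        _ = b * p * Fintype.card G := by ring
    refine ⟨hlt, ?_⟩
    by_contra hgt
    have h1 : 2 * b * (p - 1) ≤ (c - 1) * (p - 1) := Nat.mul_le_mul_right _ (by omega)
    have h2 : b * p ≤ 2 * b * (p - 1) := by
      rw [mul_comm 2 b, mul_assoc]
      exact Nat.mul_le_mul_left b (by omega)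
    omega
  · intro hb0
    subst hb0
    refine Nat.find_le ?_
    rw [top_lowerCentralSeries_one, _root_.commutator_def, commutator_eq_bot_iff_le_centralizer]
    intro x _
    rw [mem_centralizer_iff]
    intro y _
    have h1 : centralizer ({x} : Set G) = ⊤ := by
      rw [← index_eq_one]
      have h1 := hb x
      have h2 := Subgroup.index_ne_zero_of_finite (H := centralizer ({x} : Set G))
      rw [pow_zero] at h1
      omega
    exact mem_centralizer_singleton_iff.mp (h1 ▸ mem_top y : y ∈ centralizer ({x} : Set G))

end Cfsg.Agent.S3778
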