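import Cfsg.Statements.S3780
import Mathlib.Algebra.CharP.Lemmas
import Mathlib.GroupTheory.OrderOfElement
import Cfsg.Agent.Lib.PGroup.Frattini


set_option autoImplicit false
open Cfsg

namespace Cfsg.Agent.S3780

/-- An endomorphism iterated `k` times has at most `m ^ k` elements of order dividing `p` in its
kernel if it has at most `m` such elements in its kernel. -/
theorem card_ker_pow_le {A : Type*} [AddCommGroup A] [Finite A] (W : AddSubgroup A)
    (f : AddMonoid.End A) (hW : ∀ a ∈ W, f a ∈ W) (m : ℕ)
    (hm : Nat.card {a : A // a ∈ W ∧ f a = 0} ≤ m) (k : ℕ) :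
    Nat.card {a : A // a ∈ W ∧ (f ^ k) a = 0} ≤ m ^ k := by
  induction k with
  | zero =>
    rw [pow_zero m]
    exact Finite.card_le_one_iff_subsingleton.2
      ⟨fun a b => Subtype.ext (by
        have ha := a.2.2
        have hb := b.2.2
        simp only [pow_zero, AddMonoid.End.coe_one, id_eq] at ha hb
        rw [ha, hb])⟩
  | succ k ih =>
    let K : AddSubgroup A := W ⊓ AddMonoidHom.ker (f ^ (k + 1) : A →+ A)
    let g : K →+ A := (f ^ k : A →+ A).comp K.subtype
    have hiter : ∀ j, ∀ a ∈ W, (f ^ j) a ∈ W := by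
      intro j
      induction j with
      | zero => intro a ha; simpa using ha
      | succ j ihj => intro a ha; rw [pow_succ']; exact hW _ (ihj a ha)
    have hr : Nat.card g.range ≤ m := by
      refine le_trans (Nat.card_le_card_of_injective
        (fun x : g.range => (⟨x.1, ?_⟩ : {a : A // a ∈ W ∧ f a = 0})) ?_) hm
      · obtain ⟨_, ⟨⟨a, haW, ha⟩, rfl⟩⟩ := x
        refine ⟨hiter k a haW, ?_⟩
        have : (f ^ (k + 1)) a = 0 := ha
        rwa [pow_succ'] at this
      · intro x y h
        exact Subtype.ext (Subtype.mk.injEq _ _ _ _ ▸ h)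
    have hk : Nat.card g.ker ≤ m ^ k := by
      refine le_trans (Nat.card_le_card_of_injective
        (fun x : g.ker => (⟨x.1.1, x.1.2.1, x.2⟩ : {a : A // a ∈ W ∧ (f ^ k) a = 0})) ?_) ih
      intro x y h
      exact Subtype.ext (Subtype.ext (congrArg Subtype.val h :))
    have hK : Nat.card {a : A // a ∈ W ∧ (f ^ (k + 1)) a = 0} = Nat.card g.range * Nat.card g.ker := by
      rw [← Nat.card_congr (QuotientAddGroup.quotientKerEquivRange g).toEquiv,
        ← AddSubgroup.card_eq_card_quotient_mul_card_addSubgroup]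
      rfl
    rw [hK, pow_succ, mul_comm]
    exact Nat.mul_le_mul hk hr


/-- Let V be a finite abelian p-group and α an automorphism of V of order p whose fixed-point subgroup has order p^n. Then V can be generated by pn elements: some subset of V with at most pn elements generates V. -/
theorem result {V : Type*} [CommGroup V] [Finite V] {p : ℕ} [Fact p.Prime] (hV : IsPGroup p V) (α : MulAut V) (hα : orderOf α = p) (n : ℕ) (hfix : Nat.card {v : V // α v = v} = p ^ n) : ∃ S : Finset V, S.card ≤ p * n ∧ Subgroup.closure (S : Set V) = ⊤ := by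
  classical
  have hp := (Fact.out : p.Prime)
  let σ : AddMonoid.End (Additive V) := MonoidHom.toAdditive (α : V →* V)
  let W : AddSubgroup (Additive V) := AddMonoidHom.ker (nsmulAddMonoidHom p)
  have hWmem : ∀ a, a ∈ W ↔ p • a = 0 := fun a => Iff.rfl
  have hσk : ∀ (k : ℕ) (v : V), (σ ^ k) (Additive.ofMul v) = Additive.ofMul ((α ^ k) v) := by
    intro k
    induction k with
    | zero => intro v; rfl
    | succ k ih => intro v; rw [pow_succ', pow_succ', AddMonoid.End.coe_mul, Function.comp_apply, ih]; rfl
  have hσp : σ ^ p = 1 := by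
    refine AddMonoidHom.ext fun a => ?_
    have := hσk p a.toMul
    rw [show α ^ p = 1 by rw [← hα]; exact pow_orderOf_eq_one α] at this
    exact this
  have hkill : ∀ a ∈ W, ((σ - 1) ^ p) a = 0 := by
    intro a ha
    obtain ⟨r, hr⟩ := (Commute.one_right (σ - 1)).exists_add_pow_prime_eq hp
    rw [sub_add_cancel, hσp, one_pow, mul_one, mul_assoc] at hr
    have h1 := congrArg (fun e : AddMonoid.End (Additive V) => e a) hr
    have hadd : ∀ (f g : AddMonoid.End (Additive V)) (v : Additive V), (f + g) v = f v + g v :=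
      fun _ _ _ => rfl
    have hmul : ∀ (f g : AddMonoid.End (Additive V)) (v : Additive V), (f * g) v = f (g v) :=
      fun _ _ _ => rfl
    simp only [hadd, hmul, AddMonoid.End.natCast_apply, ← map_nsmul, (hWmem a).1 ha, map_zero,
      add_zero, show (1 : AddMonoid.End (Additive V)) a = a from rfl] at h1
    exact right_eq_add.1 h1
  have hWf : ∀ a ∈ W, (σ - 1) a ∈ W := fun a ha => by
    rw [hWmem, ← map_nsmul, (hWmem a).1 ha, map_zero]
  have hfix1 : Nat.card {a : Additive V // a ∈ W ∧ (σ - 1) a = 0} ≤ p ^ n := by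
    rw [← hfix]
    refine Nat.card_le_card_of_injective (fun a => ⟨a.1.toMul, ?_⟩) ?_
    · have h := a.2.2
      have h : σ (a : Additive V) - (a : Additive V) = 0 := h
      rw [sub_eq_zero] at h
      exact congrArg Additive.toMul h
    · intro a b h
      exact Subtype.ext (congrArg Subtype.val h :)
  have hWcard : Nat.card (powMonoidHom p : V →* V).ker ≤ p ^ (p * n) := by
    have h := card_ker_pow_le W (σ - 1) hWf _ hfix1 p
    rw [← pow_mul, mul_comm n] at h
    refine le_trans (Nat.card_le_card_of_injective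
      (fun v => (⟨Additive.ofMul v.1, ?_, hkill _ ?_⟩ : {a : Additive V // a ∈ W ∧ ((σ - 1) ^ p) a = 0})) ?_) h
    · exact v.2
    · exact v.2
    · intro a b h
      exact Subtype.ext (congrArg Subtype.val h :)
  have hΦ : (powMonoidHom p : V →* V).range ≤ frattini V := by
    rintro _ ⟨v, rfl⟩
    exact Cfsg.Agent.PGroup.pow_mem_frattini hV v
  have := Fintype.ofFinite V
  obtain ⟨T, -, hT, hTc⟩ := Cfsg.Agent.PGroup.exists_basis hV (Finset.univ : Finset V)
  have htop : Subgroup.closure (T : Set V) ⊔ frattini V = ⊤ := by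
    rw [hT, eq_top_iff]
    exact fun v _ => Subgroup.mem_sup_left (Subgroup.subset_closure (Finset.mem_coe.2 (Finset.mem_univ v)))
  refine ⟨T, ?_, Cfsg.Agent.PGroup.closure_eq_top_of_sup_frattini htop⟩
  rw [htop, Subgroup.card_top] at hTc
  have h1 := Subgroup.card_mul_index (powMonoidHom p : V →* V).range
  have h2 : (powMonoidHom p : V →* V).range.index = Nat.card (powMonoidHom p : V →* V).ker := by
    have h3 := Subgroup.card_mul_index (powMonoidHom p : V →* V).ker
    rw [Subgroup.index_ker, ← h1, mul_comm] at h3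
    exact (Nat.eq_of_mul_eq_mul_left Nat.card_pos h3).symm
  rw [h2, hTc] at h1
  have h4 : Nat.card (frattini V) * p ^ T.card ≤ Nat.card (frattini V) * p ^ (p * n) :=
    h1 ▸ Nat.mul_le_mul (Subgroup.card_le_of_le hΦ) hWcard
  exact (Nat.pow_le_pow_iff_right hp.one_lt).1 (Nat.le_of_mul_le_mul_left h4 Nat.card_pos)


end Cfsg.Agent.S3780
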