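import Cfsg.Statements.S3781
import Cfsg.Agent.Lib.PGroup.Basic


set_option autoImplicit false
open Cfsg
open scoped commutatorElement

namespace Cfsg.Agent.S3781

open Subgroup

universe u

variable {G : Type u} [Group G]

/-- `[A, G, ..., G]` with `k` copies of `G`. -/
def iterComm (A : Subgroup G) : ℕ → Subgroup G
  | 0 => A
  | k + 1 => ⁅iterComm A k, (⊤ : Subgroup G)⁆

theorem iterComm_normal (A : Subgroup G) [hA : A.Normal] : ∀ k, (iterComm A k).Normal
  | 0 => hA
  | k + 1 => by
    have := iterComm_normal A k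
    exact commutator_normal _ _

theorem iterComm_shift (A : Subgroup G) (k : ℕ) :
    iterComm ⁅A, (⊤ : Subgroup G)⁆ k = iterComm A (k + 1) := by
  induction k with
  | zero => rfl
  | succ k ih => show ⁅_, _⁆ = _; rw [ih]; rfl

theorem commutator_lcs_le (k : ℕ) : ∀ (A : Subgroup G) [A.Normal],
    ⁅A, (⊤ : Subgroup G).lowerCentralSeries k⁆ ≤ iterComm A (k + 1) := by
  induction k with
  | zero => intro A _; exact le_rfl
  | succ k ih =>
    intro A _
    have hT : (iterComm A (k + 1 + 1)).Normal := iterComm_normal A _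
    let π := QuotientGroup.mk' (iterComm A (k + 1 + 1))
    have hzero : ∀ S : Subgroup G, S ≤ iterComm A (k + 1 + 1) → S.map π = ⊥ := fun S hS => by
      rw [Subgroup.map_eq_bot_iff, QuotientGroup.ker_mk']; exact hS
    let γ := (⊤ : Subgroup G).lowerCentralSeries k
    have h1 : ⁅⁅(⊤ : Subgroup G).map π, A.map π⁆, γ.map π⁆ = ⊥ := by
      rw [← map_commutator, ← map_commutator]
      apply hzero
      have hn : (⁅A, (⊤ : Subgroup G)⁆).Normal := commutator_normal _ _
      rw [commutator_comm (⊤ : Subgroup G) A, ← iterComm_shift A (k + 1)]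
      exact ih _
    have h2 : ⁅⁅A.map π, γ.map π⁆, (⊤ : Subgroup G).map π⁆ = ⊥ := by
      rw [← map_commutator, ← map_commutator]
      exact hzero _ (commutator_mono (ih A) le_rfl)
    have h3 := commutator_commutator_eq_bot_of_rotate h1 h2
    rw [← map_commutator, ← map_commutator, Subgroup.map_eq_bot_iff, QuotientGroup.ker_mk',
      commutator_comm] at h3
    exact h3


/-- Let G be a finite p-group and n ≥ 1, and write γ_1(G) = G, γ_{k+1}(G) = [γ_k(G), G], and likewise γ_k(N) for a subgroup N. Let N be a normal subgroup of G contained in γ_n(G). If i > 1 and γ_{i+1}(N) ≠ 1, then |γ_i(N) : γ_{i+1}(N)| ≥ p^n. -/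
theorem result {G : Type*} [Group G] [Finite G] {p : ℕ} [Fact p.Prime] (hG : IsPGroup p G) (n : ℕ) (hn : 1 ≤ n) (N : Subgroup G) [N.Normal] (hN : N ≤ (⊤ : Subgroup G).lowerCentralSeries (n - 1)) (i : ℕ) (hi : 1 < i) (hne : N.lowerCentralSeries i ≠ ⊥) : p ^ n ≤ (N.lowerCentralSeries i).relIndex (N.lowerCentralSeries (i - 1)) := by
  have hp := (Fact.out : p.Prime)
  obtain ⟨j, rfl⟩ : ∃ j, n = j + 1 := ⟨n - 1, by omega⟩
  obtain ⟨l, rfl⟩ : ∃ l, i = l + 1 := ⟨i - 1, by omega⟩
  simp only [Nat.add_sub_cancel] at hN ⊢
  set A := N.lowerCentralSeries l with hA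
  set B := N.lowerCentralSeries (l + 1) with hB
  have hAn : A.Normal := by
    have : ∀ m, (N.lowerCentralSeries m).Normal := by
      intro m
      induction m with
      | zero => assumption
      | succ m ih => exact Subgroup.commutator_normal _ _
    exact this l
  have hBle : B ≤ iterComm A (j + 1) :=
    (Subgroup.commutator_mono le_rfl hN).trans (commutator_lcs_le j A)
  -- the chain descends strictly
  have hcard : ∀ m ≤ j + 1, Nat.card (iterComm A m) * p ^ m ≤ Nat.card A := by
    intro m hm
    induction m with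
    | zero => simp [iterComm]
    | succ m ih =>
      have := iterComm_normal A m
      have hne' : iterComm A m ≠ ⊥ := by
        intro h
        have hbot : ∀ t, iterComm A (m + t) = ⊥ := by
          intro t
          induction t with
          | zero => exact h
          | succ t iht =>
            show ⁅iterComm A (m + t), (⊤ : Subgroup G)⁆ = ⊥
            rw [iht, Subgroup.commutator_bot_left]
        refine hne (le_bot_iff.1 (hBle.trans ?_))
        rw [show j + 1 = m + (j + 1 - m) by omega, hbot]
      have hlt : iterComm A (m + 1) < iterComm A m :=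
        Cfsg.Agent.PGroup.commutator_top_lt hG _ hne'
      have h1 := Cfsg.Agent.PGroup.mul_card_le_card hG hlt
      calc Nat.card (iterComm A (m + 1)) * p ^ (m + 1) = p * Nat.card (iterComm A (m + 1)) * p ^ m := by ring
        _ ≤ Nat.card (iterComm A m) * p ^ m := Nat.mul_le_mul_right _ h1
        _ ≤ _ := ih (by omega)
  have h1 := hcard (j + 1) le_rfl
  have hBA : B ≤ A := N.lowerCentralSeries_antitone (Nat.le_succ l)
  have h2 : Nat.card B * B.relIndex A = Nat.card A := by
    rw [← Subgroup.relIndex_bot_left B, Subgroup.relIndex_mul_relIndex _ _ _ bot_le hBA,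
      Subgroup.relIndex_bot_left]
  rw [← h2] at h1
  exact Nat.le_of_mul_le_mul_left (le_trans (Nat.mul_le_mul_right _ (Subgroup.card_le_of_le hBle)) h1)
    Nat.card_pos


end Cfsg.Agent.S3781
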