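import Cfsg.Statements.S3784
import Mathlib.Algebra.Ring.GeomSum
import Mathlib.NumberTheory.Fermat
import Mathlib.NumberTheory.LucasLehmer
import Mathlib.Tactic


set_option autoImplicit false
open Cfsg

namespace Cfsg.Agent.S3784

/-- Let p, q be primes and a, b positive integers with p^a = q^b + 1. Then either p = 2, b = 1, a is prime and q = 2^a − 1; or q = 2, a = 1, b is a power of 2 and p = 2^b + 1; or p^a = 9 and q^b = 8. -/
theorem result (p q a b : ℕ) (hp : p.Prime) (hq : q.Prime) (ha : 1 ≤ a) (hb : 1 ≤ b) (h : p ^ a = q ^ b + 1) : (p = 2 ∧ b = 1 ∧ a.Prime ∧ q + 1 = 2 ^ a) ∨ (q = 2 ∧ a = 1 ∧ (∃ m : ℕ, b = 2 ^ m) ∧ p = 2 ^ b + 1) ∨ (p ^ a = 9 ∧ q ^ b = 8) := by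
  have hp2 := hp.two_le
  have hq2 := hq.two_le
  have hodd1 : ∀ n c : ℕ, Odd n → n ∣ 2 ^ c → n = 1 := by
    intro n c hn hdvd
    obtain ⟨i, -, rfl⟩ := (Nat.dvd_prime_pow Nat.prime_two).1 hdvd
    rcases i with _ | i
    · simp
    · exact absurd hn (by simp [pow_succ, Nat.odd_mul, show ¬ Odd 2 by decide])
  rcases hp.eq_two_or_odd' with rfl | hpo
  · left
    -- `q` is odd
    have hqo : Odd q := by
      rcases hq.eq_two_or_odd' with rfl | h'
      · exfalso
        have h1 : Even (2 ^ a) := (Nat.even_pow).2 ⟨even_two, by omega⟩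
        have h2 : Even (2 ^ b) := (Nat.even_pow).2 ⟨even_two, by omega⟩
        rw [h, Nat.even_add_one] at h1
        exact h1 h2
      · exact h'
    have hb1 : b = 1 := by
      rcases Nat.even_or_odd b with ⟨c, rfl⟩ | hbo
      · exfalso
        obtain ⟨t, ht⟩ := hqo.pow (n := c)
        rw [pow_add, ht] at h
        have ha2 : 2 ≤ a := by
          by_contra hlt
          rw [show a = 1 by omega, pow_one] at h
          have hc : 1 ≤ t := by
            by_contra h0
            rw [show t = 0 by omega] at ht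
            have := Nat.le_self_pow (show c ≠ 0 by omega) q
            omega
          nlinarith
        obtain ⟨a', rfl⟩ : ∃ a', a = a' + 2 := ⟨a - 2, by omega⟩
        rw [pow_add] at h
        have h' : 2 ^ a' * 4 = 4 * (t * t + t) + 2 := by linarith
        omega
      · have h1 := geom_sum_mul (-(q : ℤ)) b
        rw [hbo.neg_pow] at h1
        have h2 : ((∑ i ∈ Finset.range b, (-(q : ℤ)) ^ i).natAbs) * (q + 1) = 2 ^ a := by
          have := congrArg Int.natAbs (show (∑ i ∈ Finset.range b, (-(q : ℤ)) ^ i) * ((q + 1 : ℕ) : ℤ) =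
            ((2 ^ a : ℕ) : ℤ) by rw [h]; push_cast; linarith)
          rwa [Int.natAbs_mul, Int.natAbs_natCast, Int.natAbs_natCast] at this
        have h3 : Odd ((∑ i ∈ Finset.range b, (-(q : ℤ)) ^ i).natAbs) := by
          rw [Int.natAbs_odd, ← ZMod.intCast_eq_one_iff_odd]
          push_cast
          have hq1 : (q : ZMod 2) = 1 := ZMod.natCast_eq_one_iff_odd.2 hqo
          simp [hq1, ZMod.natCast_eq_one_iff_odd.2 hbo]
        rw [hodd1 _ a h3 ⟨_, h2.symm⟩, one_mul] at h2
        rw [← h2] at h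
        exact (Nat.pow_eq_self_iff hq.one_lt).1 (by omega)
    subst hb1
    rw [pow_one] at h
    refine ⟨rfl, rfl, ?_, h.symm⟩
    have ha1 : a ≠ 1 := fun e => by rw [e] at h; omega
    exact (Nat.prime_of_pow_sub_one_prime ha1 (by rwa [h, Nat.add_sub_cancel])).2
  · -- `p` odd, so `q = 2`
    have hq' : q = 2 := by
      rcases hq.eq_two_or_odd' with h' | h'
      · exact h'
      · exfalso
        have h1 : Odd (p ^ a) := hpo.pow
        rw [h, Nat.odd_add_one] at h1
        exact h1 h'.pow
    subst hq'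
    rcases Nat.even_or_odd a with ⟨c, rfl⟩ | hao
    · right; right
      have hc : 1 ≤ c := by omega
      obtain ⟨x, hx⟩ : ∃ x, p ^ c = x + 1 := ⟨p ^ c - 1, by have := Nat.one_le_pow c p hp.pos; omega⟩
      rw [pow_add, hx] at h ⊢
      have hprod : x * (x + 2) = 2 ^ b := by linarith
      obtain ⟨i, -, hi⟩ := (Nat.dvd_prime_pow Nat.prime_two).1 (Dvd.intro _ hprod)
      obtain ⟨j, -, hj⟩ := (Nat.dvd_prime_pow Nat.prime_two).1 (Dvd.intro_left _ hprod)
      have hx2 : x = 2 := by
        rcases Nat.lt_or_ge i 2 with hi2 | hi2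
        · interval_cases i
          · exfalso
            rw [hi] at hx
            have := (hpo.pow (n := c))
            rw [hx] at this
            exact absurd this (by decide)
          · simpa using hi
        · exfalso
          have hx4 : 4 ∣ x := hi ▸ Nat.pow_dvd_pow 2 hi2
          have hj2 : 2 ≤ j := by
            by_contra hlt
            have h4 : 4 ≤ x := Nat.le_of_dvd (hi ▸ Nat.two_pow_pos i) hx4
            interval_cases j <;> omega
          have hx4' : 4 ∣ x + 2 := hj ▸ Nat.pow_dvd_pow 2 hj2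
          omega
      subst hx2
      rw [show 2 * (2 + 2) = 8 by norm_num] at hprod
      exact ⟨by norm_num, hprod.symm⟩
    · right; left
      obtain ⟨x, hx⟩ : ∃ x, p = x + 1 := ⟨p - 1, by omega⟩
      have h1 := geom_sum_mul_add x a
      rw [← hx, h] at h1
      have h2 : Odd (∑ i ∈ Finset.range a, p ^ i) := by
        rw [← ZMod.natCast_eq_one_iff_odd]
        push_cast
        simp [ZMod.natCast_eq_one_iff_odd.2 hpo, ZMod.natCast_eq_one_iff_odd.2 hao]
      have h3 : (∑ i ∈ Finset.range a, p ^ i) * x = 2 ^ b := by omega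
      rw [hodd1 _ b h2 ⟨_, h3.symm⟩, one_mul] at h3
      have hpb : p = 2 ^ b + 1 := by omega
      have ha1 : a = 1 := (Nat.pow_eq_self_iff hp.one_lt).1 (h.trans hpb.symm)
      exact ⟨rfl, ha1, Nat.pow_of_pow_add_prime (by norm_num) (by omega) (hpb ▸ hp), hpb⟩


end Cfsg.Agent.S3784
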