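import Cfsg.Statements.S3785
import Cfsg.Agent.Lib.Components.Fitting
import Cfsg.Agent.Lib.Coprime.OmegaOne
import Cfsg.Agent.Lib.PCore.Basic


set_option autoImplicit false
open Cfsg
open scoped commutatorElement

namespace Cfsg.Agent.S3785

open Subgroup

/-- A `p`-subgroup of a nilpotent normal subgroup lies in `O_p(G)`. -/
theorem le_pCore_of_le_nilpotent {G : Type*} [Group G] [Finite G] {F R : Subgroup G} [F.Normal]
    [Group.IsNilpotent F] {p : ℕ} [Fact p.Prime] (hR : IsPGroup p R) (hRF : R ≤ F) :
    R ≤ pCore p G := by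
  obtain ⟨S, hS⟩ := (hR.comap_subtype (K := F)).exists_le_sylow
  have hSn : (S : Subgroup F).Normal :=
    S.normal_of_normalizerCondition Group.normalizerCondition_of_isNilpotent
  have hSc : (S : Subgroup F).Characteristic := S.characteristic_of_normal hSn
  have h1 : ((S : Subgroup F).map F.subtype).Normal := inferInstance
  refine le_trans ?_ (PCore.le_pCore (hN := h1) (S.isPGroup'.map F.subtype))
  intro x hx
  exact ⟨⟨x, hRF hx⟩, hS hx, rfl⟩


/-- Let G be a finite solvable group whose Fitting subgroup F(G) has odd order. If an element g of G commutes with every element of prime order of F(G), then g ∈ F(G). -/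
theorem result {G : Type*} [Group G] [Finite G] (hG : Group.IsSolvable G) (hodd : Odd (Nat.card (Cfsg.fittingSubgroup G))) (g : G) (hg : ∀ x ∈ Cfsg.fittingSubgroup G, (orderOf x).Prime → g * x = x * g) : g ∈ Cfsg.fittingSubgroup G := by
  set F := Cfsg.fittingSubgroup G with hF
  have hFnil : Group.IsNilpotent F := Cfsg.Agent.Components.fittingSubgroup_isNilpotent G
  have hFn : F.Normal := Cfsg.Agent.Components.fittingSubgroup_normal G
  let Ω : Set G := {x | x ∈ F ∧ (orderOf x).Prime}
  let C : Subgroup G := Subgroup.centralizer Ω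
  have hgC : g ∈ C := Subgroup.mem_centralizer_iff.2 fun x hx => (hg x hx.1 hx.2).symm
  have hCn : C.Normal := ⟨fun c hc k => Subgroup.mem_centralizer_iff.2 fun x hx => by
    have hx' : k⁻¹ * x * k ∈ Ω := ⟨by simpa using hFn.conj_mem x hx.1 k⁻¹, by
      have : orderOf (k⁻¹ * x * k) = orderOf x := by
        simpa [MulAut.conj] using MulEquiv.orderOf_eq (MulAut.conj k⁻¹) x
      rw [this]; exact hx.2⟩
    have := Subgroup.mem_centralizer_iff.1 hc _ hx'
    calc x * (k * c * k⁻¹) = k * ((k⁻¹ * x * k) * c) * k⁻¹ := by group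
      _ = k * (c * (k⁻¹ * x * k)) * k⁻¹ := by rw [this]
      _ = k * c * k⁻¹ * x := by group⟩
  suffices hCF : C ≤ F from hCF hgC
  by_contra hne
  obtain ⟨L, hLn, hLC, hLF, hLL⟩ : ∃ L : Subgroup G, L.Normal ∧ L ≤ C ∧ ¬ L ≤ F ∧ ⁅L, L⁆ ≤ F := by
    have : Group.IsSolvable G := hG
    obtain ⟨k, hk⟩ := Group.IsSolvable.solvable (G := G)
    have hex : ∃ j, derivedSeries G j ⊓ C ≤ F := ⟨k, by rw [hk, bot_inf_eq]; exact bot_le⟩
    classical
    have hj := Nat.find_spec hex
    have hj0 : Nat.find hex ≠ 0 := fun h => by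
      rw [h, derivedSeries_zero, top_inf_eq] at hj
      exact hne hj
    obtain ⟨j, hj'⟩ := Nat.exists_eq_succ_of_ne_zero hj0
    refine ⟨derivedSeries G j ⊓ C, inferInstance, inf_le_right,
      Nat.find_min hex (by omega), le_trans (le_inf ?_ ?_) hj⟩
    · rw [hj', derivedSeries_succ]
      exact Subgroup.commutator_mono inf_le_left inf_le_left
    · exact (Subgroup.commutator_le_self _).trans inf_le_right
  -- elements of `L` of order prime to `p` centralize `O_p(G)`
  have hcent : ∀ p : ℕ, p.Prime → ∀ A : Subgroup G, A ≤ L → (Nat.card A).Coprime p →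
      A ≤ Subgroup.centralizer (Cfsg.pCore p G : Set G) := by
    intro p hp A hAL hcop
    have := Fact.mk hp
    have hle : Cfsg.pCore p G ≤ F := Cfsg.Agent.Components.pCore_le_fittingSubgroup hp
    rcases eq_or_ne p 2 with rfl | hp2
    · have hbot : Cfsg.pCore 2 G = ⊥ := by
        refine Subgroup.card_eq_one.1 ?_
        obtain ⟨k, hk⟩ := (PCore.isPGroup_pCore (G := G) (p := 2)).exists_card_eq
        rcases k with _ | k
        · simpa using hk
        · exact absurd (hk ▸ Subgroup.card_dvd_of_le hle : 2 ^ (k + 1) ∣ Nat.card F)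
            (fun h => hodd.not_two_dvd_nat (dvd_trans (dvd_pow_self 2 (by omega)) h))
      intro a _
      rw [Subgroup.mem_centralizer_iff, hbot]
      intro x hx
      rw [Subgroup.mem_bot.1 hx, one_mul, mul_one]
    · refine Cfsg.Agent.Coprime.le_centralizer_of_fix_pow_eq_one hp2 _ A PCore.isPGroup_pCore ?_ hcop ?_
      · have : (Cfsg.pCore p G).Normal := Cfsg.Agent.Components.pCore_normal' p
        rw [Subgroup.normalizer_eq_top]; exact le_top
      · intro x hx hxp a ha
        rw [Subgroup.mem_centralizer_singleton_iff]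
        rcases eq_or_ne x 1 with rfl | hx1
        · simp
        · exact (Subgroup.mem_centralizer_iff.1 (hLC (hAL ha)) x
            ⟨hle hx, by rw [orderOf_eq_prime hxp hx1]; exact hp⟩).symm
  suffices hnil : Group.IsNilpotent L from hLF (Cfsg.Agent.Components.le_fittingSubgroup hLn)
  refine ((Group.isNilpotent_of_finite_tfae (G := L)).out 0 3).2 fun q hq Q => ?_
  have hq' : q.Prime := hq.out
  haveI : Fact q.Prime := ⟨hq'⟩
  -- `Q` is normal in `L`
  set Y : Subgroup L := (F ⊓ L).subgroupOf L with hY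
  have hYle : Y ≤ Subgroup.normalizer ((Q : Subgroup L) : Set L) ⊔ ⊥ := by
    rw [sup_bot_eq]
    have htop : (Subgroup.normalizer ((Q : Subgroup L) : Set L)).subgroupOf Y = ⊤ := by
      refine Cfsg.Agent.Components.eq_top_of_forall_sylow fun p hp _ => ?_
      have := Fact.mk hp
      obtain ⟨R⟩ := (inferInstance : Nonempty (Sylow p ↥Y))
      refine ⟨R, fun x hx => ?_⟩
      show (x : ↥L) ∈ Subgroup.normalizer ((Q : Subgroup L) : Set L)
      let R' : Subgroup G := ((R : Subgroup ↥Y).map Y.subtype).map L.subtype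
      have hR' : IsPGroup p R' := (R.isPGroup'.map _).map _
      have hR'F : R' ≤ F := by
        rintro _ ⟨_, ⟨y, -, rfl⟩, rfl⟩
        exact y.2.1
      have hxO : ((x : ↥L) : G) ∈ Cfsg.pCore p G :=
        le_pCore_of_le_nilpotent hR' hR'F ⟨_, ⟨x, hx, rfl⟩, rfl⟩
      by_cases hpq : p = q
      · subst hpq
        have hn : ((Cfsg.pCore p G).subgroupOf L).Normal :=
          (Cfsg.Agent.Components.pCore_normal' p).comap _
        exact Subgroup.le_normalizer ((PCore.le_pCore (hN := hn)
          (PCore.isPGroup_pCore.comap_subtype)).trans (PCore.pCore_le_sylow Q) hxO)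
      · have hA : ((Q : Subgroup L).map L.subtype) ≤ Subgroup.centralizer (Cfsg.pCore p G : Set G) := by
          refine hcent p hp _ (Subgroup.map_subtype_le _) ?_
          rw [Subgroup.card_map_of_injective L.subtype_injective]
          obtain ⟨k, hk⟩ := Q.isPGroup'.exists_card_eq
          rw [hk]
          exact ((Nat.coprime_primes hq' hp).2 (Ne.symm hpq)).pow_left k
        rw [Subgroup.mem_normalizer_iff]
        intro z
        have hfix : ∀ w ∈ (Q : Subgroup L), (x : ↥L) * w * (x : ↥L)⁻¹ = w := fun w hw => Subtype.ext (by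
          have := Subgroup.mem_centralizer_iff.1 (hA ⟨w, hw, rfl⟩) _ hxO
          show ((x : ↥L) : G) * (w : G) * ((x : ↥L) : G)⁻¹ = w
          rw [show ((x : ↥L) : G) * (w : G) = (w : G) * ((x : ↥L) : G) from this, mul_inv_cancel_right])
        refine ⟨fun hz => (hfix z hz).symm ▸ hz, fun hz => ?_⟩
        have := hfix _ hz
        rw [mul_left_inj, mul_right_inj] at this
        rwa [this] at hz
        -- `x (x z x⁻¹) x⁻¹ = x z x⁻¹`
    intro y hy
    exact Subgroup.subgroupOf_eq_top.1 htop hy
  -- `Q Y` is normal in `L`, so the Frattini argument gives `L = N(Q)`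
  have hcomm : commutator L ≤ (Q : Subgroup L) ⊔ Y := by
    refine le_trans ?_ le_sup_right
    rw [_root_.commutator_def, Subgroup.commutator_le]
    intro a _ b _
    exact ⟨hLL (Subgroup.commutator_mem_commutator a.2 b.2), (⁅a, b⁆ : L).2⟩
  have hX : ((Q : Subgroup L) ⊔ Y).Normal := Subgroup.Normal.of_commutator_le L hcomm
  have h1 := Sylow.normalizer_sup_eq_top' Q (N := (Q : Subgroup L) ⊔ Y) le_sup_left
  rw [sup_bot_eq] at hYle
  refine Subgroup.normalizer_eq_top_iff.1 (top_le_iff.1 (h1.ge.trans ?_))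
  exact sup_le le_rfl (sup_le Subgroup.le_normalizer hYle)


end Cfsg.Agent.S3785
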