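import Cfsg.Statements.S3786
import Cfsg.Agent.Lib.PLengthExp.Linear
import Cfsg.Agent.Lib.PCore.PLength

set_option autoImplicit false
set_option linter.style.haveILetI false
open Cfsg

namespace Cfsg.Agent.S3786

universe u

variable {p : ℕ} [Fact p.Prime]

theorem sylow_exp_quotient {G H : Type*} [Group G] [Group H] [Finite G] (f : G →* H) (hf : Function.Surjective f)
    {k : ℕ} (h : ∀ P : Sylow p G, ∀ x ∈ (P : Subgroup G), x ^ k = 1) :
    ∀ P : Sylow p H, ∀ x ∈ (P : Subgroup H), x ^ k = 1 := by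
  intro P x hx
  obtain ⟨S, rfl⟩ := Sylow.mapSurjective_surjective hf p P
  obtain ⟨y, hy, rfl⟩ := hx
  rw [← map_pow, h S y hy, map_one]

theorem abelian_sylow_two_quotient {G H : Type*} [Group G] [Group H] [Finite G] (f : G →* H)
    (hf : Function.Surjective f) (h : ∀ S : Sylow 2 G, IsMulCommutative (S : Subgroup G)) :
    ∀ S : Sylow 2 H, IsMulCommutative (S : Subgroup H) := by
  intro S
  obtain ⟨T, rfl⟩ := Sylow.mapSurjective_surjective hf 2 S
  refine ⟨⟨fun a b => Subtype.ext ?_⟩⟩
  obtain ⟨a', ha', ea⟩ := a.2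
  obtain ⟨b', hb', eb⟩ := b.2
  show (a : H) * b = b * a
  rw [← ea, ← eb, ← map_mul, ← map_mul,
    show a' * b' = b' * a' from congrArg Subtype.val ((h T).is_comm.comm ⟨a', ha'⟩ ⟨b', hb'⟩)]

/-- Passing the exponent bound to the quotient by `O_p`. -/
theorem exp_quotient {H H' : Type*} [Group H] [Group H'] [Finite H] (g : H →* H') (hg : Function.Surjective g)
    {k : ℕ} (h : ∀ T : Sylow p H, ∀ x ∈ (T : Subgroup H), x ^ k ∈ g.ker) :
    ∀ T : Sylow p H', ∀ x ∈ (T : Subgroup H'), x ^ k = 1 := by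
  intro P x hx
  obtain ⟨S, rfl⟩ := Sylow.mapSurjective_surjective hg p P
  obtain ⟨y, hy, rfl⟩ := hx
  rw [← map_pow]
  exact h S y hy

theorem pLengthLE_zero_of_exp {G : Type*} [Group G] [Finite G]
    (hexp : ∀ (P : Sylow p G), ∀ x ∈ (P : Subgroup G), x ^ p ^ 0 = 1) : PLengthLE p 0 G := by
  rw [PCore.pLengthLE_zero_iff, Nat.coprime_comm, (Fact.out : p.Prime).coprime_iff_not_dvd]
  intro hdvd
  obtain ⟨P⟩ := (inferInstance : Nonempty (Sylow p G))
  refine P.ne_bot_of_dvd_card hdvd ((Subgroup.eq_bot_iff_forall _).2 fun x hx => ?_)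
  simpa using hexp P x hx

/-- Part (a). -/
theorem auxA (hp : p ≠ 2) : ∀ (e : ℕ) {G : Type u} [Group G] [Finite G], IsPSolvable p G →
    ((¬ ∃ k : ℕ, p = 2 ^ k + 1) ∨ ∀ S : Sylow 2 G, IsMulCommutative (S : Subgroup G)) →
    (∀ P : Sylow p G, ∀ x ∈ (P : Subgroup G), x ^ p ^ e = 1) → PLengthLE p e G := by
  intro e
  induction e with
  | zero => intro G _ _ _ _ hexp; exact pLengthLE_zero_of_exp hexp
  | succ e ih =>
    intro G _ _ hG hexc hexp
    set f₁ := QuotientGroup.mk' (pPrimeCore p G)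
    refine PCore.pLengthLE_of_ker_le_pPrimeCore f₁ (QuotientGroup.mk'_surjective _) (QuotientGroup.ker_mk' _).le ?_
    set H := G ⧸ pPrimeCore p G
    have hsH := PCore.isPSolvable_quotient hG (pPrimeCore p G)
    have hexpH := sylow_exp_quotient f₁ (QuotientGroup.mk'_surjective _) hexp
    have hexcH := hexc.imp id (abelian_sylow_two_quotient f₁ (QuotientGroup.mk'_surjective _))
    set O := pCore p H with hO
    haveI : O.Normal := pCore_normal p H
    set f₂ := QuotientGroup.mk' O
    refine PCore.pLengthLE_succ_of_isPGroup_ker f₂ (QuotientGroup.mk'_surjective _)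
      (QuotientGroup.ker_mk' _).le (ih (PCore.isPSolvable_quotient hsH _)
        (hexcH.imp id (abelian_sylow_two_quotient f₂ (QuotientGroup.mk'_surjective _)))
        (exp_quotient f₂ (QuotientGroup.mk'_surjective _) fun T x hx => ?_))
    rw [QuotientGroup.ker_mk']
    -- modulo the Frattini subgroup of `O`
    set F := (frattini O).map O.subtype with hF
    haveI : F.Normal := by rw [hF]; infer_instance
    obtain ⟨hFO, hV, hcore, hC⟩ := HallHigman.frattini_quotient_facts hsH PCore.pPrimeCore_quotient_self_eq_bot F hF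
    set f := QuotientGroup.mk' F with hf
    haveI : (O.map f).Normal := Subgroup.Normal.map inferInstance f (QuotientGroup.mk'_surjective _)
    by_contra hne
    have hne' : f x ^ p ^ (e + 1 - 1) ∉ O.map f := by
      rw [Nat.add_sub_cancel, ← map_pow]
      intro h
      refine hne ?_
      rw [← Subgroup.mem_comap, hf, QuotientGroup.comap_map_mk', sup_eq_right.2 hFO] at h
      exact h
    obtain ⟨v, hv, hvne⟩ := HallHigman.exists_mul_pow_ne hp (PCore.isPSolvable_quotient hsH F) hV hcore hC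
      (hexcH.imp id (abelian_sylow_two_quotient f (QuotientGroup.mk'_surjective _))) (Nat.le_add_left 1 e)
      (x := f x) (by rw [← map_pow, hexpH T x hx, map_one]; exact one_mem _) hne'
    obtain ⟨o, ho, rfl⟩ := hv
    refine hvne ?_
    rw [← map_mul, ← map_pow, ← map_pow, hexpH T x hx, hexpH T _ (mul_mem (PCore.pCore_le_sylow T ho) hx)]

/-- The exponent drops in the second step. -/
theorem pow_mem_pCore_second {X : Type u} [Group X] [Finite X] (hp : p ≠ 2) (hs : IsPSolvable p X)
    (hbot : pPrimeCore p X = ⊥) {n : ℕ} (hn : 1 ≤ n) (hexp : ∀ T : Sylow p X, ∀ t ∈ (T : Subgroup X), t ^ p ^ n = 1)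
    (hcomm : ∀ T : Sylow p X, ∀ t ∈ (T : Subgroup X), ∀ u ∈ (T : Subgroup X),
      Commute (t ^ p ^ (n - 1)) (u ^ p ^ (n - 1)))
    (T : Sylow p X) {x : X} (hx : x ∈ (T : Subgroup X)) : x ^ p ^ (n - 1) ∈ pCore p X := by
  set O := pCore p X with hO
  haveI : O.Normal := pCore_normal p X
  set F := (frattini O).map O.subtype with hF
  haveI : F.Normal := by rw [hF]; infer_instance
  obtain ⟨hFO, hV, hcore, hC⟩ := HallHigman.frattini_quotient_facts hs hbot F hF
  set f := QuotientGroup.mk' F with hf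
  haveI : (O.map f).Normal := Subgroup.Normal.map inferInstance f (QuotientGroup.mk'_surjective _)
  obtain ⟨d, ψ, hψ, -, h2⟩ := PLengthExp.exists_linear hV hC
  have hXcore : pCore p ((X ⧸ F) ⧸ O.map f) = ⊥ := by
    have h : ∀ (V : Subgroup (X ⧸ F)) [V.Normal], V = pCore p (X ⧸ F) → pCore p ((X ⧸ F) ⧸ V) = ⊥ := by
      intro V _ hVe; subst hVe; exact PCore.pCore_quotient_self_eq_bot
    exact h _ hcore.symm
  have h3 := h2 (f x) (p ^ (n - 1)) (by
    rintro _ ⟨o, ho, rfl⟩
    rw [← map_mul, ← map_pow, ← map_pow]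
    exact (hcomm T x hx _ (mul_mem (PCore.pCore_le_sylow T ho) hx)).map f)
  set S := ψ ((f x : X ⧸ F) : (X ⧸ F) ⧸ O.map f) with hS
  rw [show S ^ p ^ (n - 1) - 1 = (S - 1) ^ p ^ (n - 1) by
      have h := congrArg (Polynomial.aeval S)
        (sub_pow_char_pow (R := Polynomial (AlgebraicClosure (ZMod p))) (p := p) (n := n - 1)
          (x := Polynomial.X) (y := 1))
      simpa using h.symm,
    ← HallHigman.sub_one_pow_eq_sum, ← pow_add,
    show p ^ (n - 1) + (p ^ (n - 1) - 1) = 2 * p ^ (n - 1) - 1 by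
      have := Nat.one_le_pow (n - 1) p (Fact.out : p.Prime).pos
      omega] at h3
  have h4 := PLengthExp.pow_eq_one_of_nilpotency hp
    (PCore.isPSolvable_quotient (PCore.isPSolvable_quotient hs F) _) hXcore ψ hψ
    (x := ((f x : X ⧸ F) : (X ⧸ F) ⧸ O.map f)) hn
    (by rw [← QuotientGroup.mk_pow, ← map_pow, hexp T x hx, map_one]; rfl) h3
  rw [← QuotientGroup.mk_pow, QuotientGroup.eq_one_iff, ← map_pow, ← Subgroup.mem_comap, hf,
    QuotientGroup.comap_map_mk', sup_eq_right.2 hFO] at h4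
  exact h4

/-- Part (b). -/
theorem auxB (hp : p ≠ 2) : ∀ (e : ℕ) {G : Type u} [Group G] [Finite G], IsPSolvable p G →
    (∀ P : Sylow p G, ∀ x ∈ (P : Subgroup G), x ^ p ^ e = 1) → PLengthLE p (2 * e) G := by
  intro e
  induction e with
  | zero => intro G _ _ _ hexp; exact pLengthLE_zero_of_exp hexp
  | succ e ih =>
    intro G _ _ hG hexp
    set f₁ := QuotientGroup.mk' (pPrimeCore p G)
    refine PCore.pLengthLE_of_ker_le_pPrimeCore f₁ (QuotientGroup.mk'_surjective _) (QuotientGroup.ker_mk' _).le ?_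
    set H := G ⧸ pPrimeCore p G
    have hsH := PCore.isPSolvable_quotient hG (pPrimeCore p G)
    have hexpH := sylow_exp_quotient f₁ (QuotientGroup.mk'_surjective _) hexp
    set O := pCore p H with hO
    haveI : O.Normal := pCore_normal p H
    set F := (frattini O).map O.subtype with hF
    haveI : F.Normal := by rw [hF]; infer_instance
    obtain ⟨hFO, hV, hcore, hC⟩ := HallHigman.frattini_quotient_facts hsH PCore.pPrimeCore_quotient_self_eq_bot F hF
    set f := QuotientGroup.mk' F with hf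
    haveI : (O.map f).Normal := Subgroup.Normal.map inferInstance f (QuotientGroup.mk'_surjective _)
    set X := (H ⧸ F) ⧸ O.map f
    set g : H →* X := (QuotientGroup.mk' (O.map f)).comp f
    have hg : Function.Surjective g := (QuotientGroup.mk'_surjective _).comp (QuotientGroup.mk'_surjective _)
    have hgker : g.ker ≤ O := by
      rw [← MonoidHom.comap_ker, QuotientGroup.ker_mk', hf, QuotientGroup.comap_map_mk', sup_eq_right.2 hFO]
    have hsX : IsPSolvable p X := PCore.isPSolvable_quotient (PCore.isPSolvable_quotient hsH F) _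
    have hXcore : pCore p X = ⊥ := by
      have h : ∀ (V : Subgroup (H ⧸ F)) [V.Normal], V = pCore p (H ⧸ F) → pCore p ((H ⧸ F) ⧸ V) = ⊥ := by
        intro V _ hVe; subst hVe; exact PCore.pCore_quotient_self_eq_bot
      exact h _ hcore.symm
    obtain ⟨d, ψ, hψ, h1, -⟩ := PLengthExp.exists_linear hV hC
    have hexpX := sylow_exp_quotient g hg hexpH
    have hcommX : ∀ T : Sylow p X, ∀ t ∈ (T : Subgroup X), ∀ u ∈ (T : Subgroup X),
        Commute (t ^ p ^ (e + 1 - 1)) (u ^ p ^ (e + 1 - 1)) := by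
      intro T t ht u hu
      refine PLengthExp.commute_pow_of_nilpotency hp hsX hXcore ψ hψ T.2 (Nat.le_add_left 1 e)
        (hexpX T) (fun t ht => ?_) ht hu
      obtain ⟨S, rfl⟩ := Sylow.mapSurjective_surjective hg p T
      obtain ⟨x, hx, rfl⟩ := ht
      rw [HallHigman.sub_one_pow_eq_sum]
      refine h1 (f x) (p ^ (e + 1)) ?_
      rintro _ ⟨o, ho, rfl⟩
      rw [← map_mul, ← map_pow, ← map_pow, hexpH S x hx, hexpH S _ (mul_mem (PCore.pCore_le_sylow S ho) hx)]
    rw [show 2 * (e + 1) = 2 * e + 1 + 1 by ring]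
    refine PCore.pLengthLE_succ_of_isPGroup_ker g hg hgker ?_
    set f₃ := QuotientGroup.mk' (pPrimeCore p X)
    refine PCore.pLengthLE_of_ker_le_pPrimeCore f₃ (QuotientGroup.mk'_surjective _) (QuotientGroup.ker_mk' _).le ?_
    set X₁ := X ⧸ pPrimeCore p X
    have hsX₁ := PCore.isPSolvable_quotient hsX (pPrimeCore p X)
    haveI : (pCore p X₁).Normal := pCore_normal p X₁
    refine PCore.pLengthLE_succ_of_isPGroup_ker (QuotientGroup.mk' (pCore p X₁)) (QuotientGroup.mk'_surjective _)
      (QuotientGroup.ker_mk' _).le (ih (PCore.isPSolvable_quotient hsX₁ _)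
        (exp_quotient _ (QuotientGroup.mk'_surjective _) fun T x hx => ?_))
    rw [QuotientGroup.ker_mk']
    refine pow_mem_pCore_second hp hsX₁ PCore.pPrimeCore_quotient_self_eq_bot (Nat.le_add_left 1 e)
      (sylow_exp_quotient f₃ (QuotientGroup.mk'_surjective _) hexpX) (fun T' t ht u hu => ?_) T hx
    obtain ⟨S, rfl⟩ := Sylow.mapSurjective_surjective (QuotientGroup.mk'_surjective (pPrimeCore p X)) p T'
    obtain ⟨a, ha, rfl⟩ := ht
    obtain ⟨b, hb, rfl⟩ := hu
    rw [← map_pow, ← map_pow]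
    exact (hcommX S a ha b hb).map f₃

/-- The Hall–Higman bound on p-length. Let p be an odd prime and G a finite p-soluble group whose Sylow p-subgroups have exponent dividing p^e. (a) If p is not of the form 2^k + 1, or if the Sylow 2-subgroups of G are abelian, then G has p-length at most e. (b) In every case G has p-length at most 2e. -/
theorem result {G : Type*} [Group G] [Finite G] {p : ℕ} [Fact p.Prime] (hp : p ≠ 2) (hG : Cfsg.IsPSolvable p G) (e : ℕ) (hexp : ∀ (P : Sylow p G), ∀ x ∈ (P : Subgroup G), x ^ p ^ e = 1) : (((¬ ∃ k : ℕ, p = 2 ^ k + 1) ∨ ∀ S : Sylow 2 G, IsMulCommutative (S : Subgroup G)) → Cfsg.PLengthLE p e G) ∧ Cfsg.PLengthLE p (2 * e) G := by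
  exact ⟨fun h => auxA hp e hG h hexp, auxB hp e hG hexp⟩

end Cfsg.Agent.S3786
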