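import Cfsg.Statements.S3787
import Cfsg.Agent.Lib.HallHigman.Linear
import Cfsg.Agent.Lib.PCore.PLength
import Cfsg.Agent.Lib.PComplement.SFour

set_option autoImplicit false
set_option linter.style.haveILetI false
open Cfsg

namespace Cfsg.Agent.S3787

open Finset

variable {p : ℕ} [Fact p.Prime]

/-- The section: `v` with non-trivial norm under `x` gives a wreath product section of `⟨v ^ ⟨x⟩, x⟩`. -/
theorem exists_wreath_section {G : Type*} [Group G] [Finite G] {V : Subgroup G} [V.Normal]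
    (hV : Cfsg.IsElementaryAbelian p V) {P : Subgroup G} (hVP : V ≤ P) {x v : G} (hxP : x ∈ P) (hxV : x ∉ V)
    (hxp : x ^ p ∈ V) (hv : v ∈ V) (hne : (v * x) ^ p ≠ x ^ p) :
    ∃ (W : Type) (_ : Group W) (_ : Finite W),
      (∃ (B : Subgroup W) (t : W), B.Normal ∧ IsMulCommutative B ∧ (∀ b ∈ B, b ^ p = 1) ∧ Nat.card B = p ^ p ∧
        orderOf t = p ∧ t ∉ B ∧ Nat.card W = p ^ (p + 1) ∧
        Nat.card ↥(B ⊓ Subgroup.centralizer ({t} : Set W)) = p) ∧
      ∃ (K : Subgroup G) (θ : K →* W), K ≤ P ∧ Function.Surjective θ := by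
  classical
  have hp : p.Prime := Fact.out
  have hVc : ∀ a ∈ V, ∀ b ∈ V, a * b = b * a := fun a ha b hb =>
    congrArg Subtype.val (hV.1.is_comm.comm ⟨a, ha⟩ ⟨b, hb⟩)
  have hVn : ∀ g : G, ∀ a ∈ V, g * a * g⁻¹ ∈ V := fun g a ha => (inferInstance : V.Normal).conj_mem a ha g
  have hxa : ∀ a ∈ V, x ^ p * a * (x ^ p)⁻¹ = a := fun a ha => by
    rw [hVc _ hxp a ha, mul_inv_cancel_right]
  have hpow_mod : ∀ k : ℕ, x ^ k * v * (x ^ k)⁻¹ = x ^ (k % p) * v * (x ^ (k % p))⁻¹ := fun k => by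
    conv_lhs => rw [← Nat.mod_add_div k p, pow_add]
    have h : ∀ j, x ^ (p * j) * v * (x ^ (p * j))⁻¹ = v := fun j => by
      induction j with
      | zero => simp
      | succ j ih =>
        rw [Nat.mul_succ, add_comm, pow_add, mul_inv_rev]
        calc x ^ p * x ^ (p * j) * v * ((x ^ (p * j))⁻¹ * (x ^ p)⁻¹)
            = x ^ p * (x ^ (p * j) * v * (x ^ (p * j))⁻¹) * (x ^ p)⁻¹ := by group
          _ = v := by rw [ih, hxa v hv]
    rw [mul_inv_rev]
    calc x ^ (k % p) * x ^ (p * (k / p)) * v * ((x ^ (p * (k / p)))⁻¹ * (x ^ (k % p))⁻¹)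
        = x ^ (k % p) * (x ^ (p * (k / p)) * v * (x ^ (p * (k / p)))⁻¹) * (x ^ (k % p))⁻¹ := by group
      _ = _ := by rw [h]
  -- the translates
  let a : ZMod p → V := fun i => ⟨x ^ i.val * v * (x ^ i.val)⁻¹, hVn _ v hv⟩
  have ha : ∀ i, x * (a i : G) * x⁻¹ = a (i + 1) := fun i => by
    show x * (x ^ i.val * v * (x ^ i.val)⁻¹) * x⁻¹ = x ^ (i + 1).val * v * (x ^ (i + 1).val)⁻¹
    rw [ZMod.val_add, ← hpow_mod, ZMod.val_one, pow_succ']
    group
  letI : CommGroup V := { (inferInstance : Group V) with mul_comm := fun a b => hV.1.is_comm.comm a b }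
  let L : Multiplicative (ZMod p → ZMod p) →* V :=
    { toFun := fun c => ∏ i : ZMod p, a i ^ (Multiplicative.toAdd c i).val
      map_one' := by simp
      map_mul' := fun c d => by
        rw [← Finset.prod_mul_distrib]
        refine Finset.prod_congr rfl fun i _ => ?_
        rw [← pow_add, toAdd_mul, Pi.add_apply, ZMod.val_add]
        refine (pow_eq_pow_mod _ ?_).symm
        exact Subtype.ext (by rw [SubgroupClass.coe_pow]; exact hV.2 _ (a i).2) }
  let sh : Multiplicative (ZMod p → ZMod p) → Multiplicative (ZMod p → ZMod p) := fun c =>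
    Multiplicative.ofAdd fun i => Multiplicative.toAdd c (i - 1)
  let cx : V →* V := (MulAut.conjNormal x : MulAut V).toMonoidHom
  have hLsh : ∀ c, L (sh c) = cx (L c) := by
    intro c
    show ∏ i : ZMod p, a i ^ (Multiplicative.toAdd c (i - 1)).val = cx (∏ i : ZMod p, a i ^ (Multiplicative.toAdd c i).val)
    rw [map_prod]
    conv_lhs => rw [← Equiv.prod_comp (Equiv.addRight (1 : ZMod p))]
    refine Finset.prod_congr rfl fun i _ => ?_
    rw [Equiv.coe_addRight, add_sub_cancel_right, map_pow]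
    congr 1
    exact Subtype.ext (by rw [show ((cx (a i) : V) : G) = x * (a i : G) * x⁻¹ from MulAut.conjNormal_apply x (a i), ha])
  have hLshn : ∀ (m : ℕ) (c : Multiplicative (ZMod p → ZMod p)), L c = 1 →
      L (Multiplicative.ofAdd fun i => Multiplicative.toAdd c (i - (m : ZMod p))) = 1 := by
    intro m c hc
    induction m with
    | zero => simpa using hc
    | succ m ih =>
      have e : (Multiplicative.ofAdd fun i => Multiplicative.toAdd c (i - ((m + 1 : ℕ) : ZMod p))) =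
          sh (Multiplicative.ofAdd fun i => Multiplicative.toAdd c (i - (m : ZMod p))) :=
        congrArg Multiplicative.ofAdd (funext fun i => by
          show _ = Multiplicative.toAdd c (i - 1 - (m : ZMod p))
          congr 1; push_cast; ring)
      rw [e, hLsh, ih, map_one]
  let const : ZMod p → Multiplicative (ZMod p → ZMod p) := fun b => Multiplicative.ofAdd fun _ => b
  have hconst : ∀ b, L (const b) = (∏ i : ZMod p, a i) ^ b.val := fun b => by
    show ∏ i : ZMod p, a i ^ b.val = _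
    rw [Finset.prod_pow]
  have hkey : ∀ w : G, ∀ k : ℕ, w ∈ V → ((∏ j ∈ range k, (⟨x ^ j * v * (x ^ j)⁻¹, hVn _ v hv⟩ : V) : V) : G) * x ^ k = (v * x) ^ k := by
    intro _ k _
    induction k with
    | zero => simp
    | succ k ih =>
      rw [Finset.prod_range_succ, Subgroup.coe_mul, pow_succ (v * x), ← ih, pow_succ]
      group
  have hN : (((∏ i : ZMod p, a i) : V) : G) * x ^ p = (v * x) ^ p := by
    rw [← hkey v p hv]
    congr 2
    refine Finset.prod_nbij' (fun i => i.val) (fun j => (j : ZMod p)) ?_ ?_ ?_ ?_ ?_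
    · intro i _; exact Finset.mem_range.2 (ZMod.val_lt i)
    · intro j _; exact Finset.mem_univ _
    · intro i _; exact ZMod.natCast_zmod_val i
    · intro j hj; exact ZMod.val_natCast_of_lt (Finset.mem_range.1 hj)
    · intro i _; rfl
  have hN1 : (∏ i : ZMod p, a i) ≠ 1 := fun e => hne (by rw [← hN, e, Subgroup.coe_one, one_mul])
  have hLker : ∀ c, L c = 1 → c = 1 := by
    intro c hc
    by_contra hc1
    let X := L.ker
    letI : MulAction (Multiplicative (ZMod p)) X :=
      { smul := fun k d => ⟨Multiplicative.ofAdd fun i => Multiplicative.toAdd d.1 (i - Multiplicative.toAdd k), by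
          rw [MonoidHom.mem_ker, ← ZMod.natCast_zmod_val (Multiplicative.toAdd k)]
          exact hLshn _ _ d.2⟩
        one_smul := fun d => Subtype.ext (congrArg Multiplicative.ofAdd (funext fun i => by simp; rfl))
        mul_smul := fun k l d => Subtype.ext (congrArg Multiplicative.ofAdd (funext fun i => by
          show Multiplicative.toAdd d.1 (i - Multiplicative.toAdd (k * l)) =
            Multiplicative.toAdd d.1 (i - Multiplicative.toAdd k - Multiplicative.toAdd l)
          rw [toAdd_mul]; congr 1; ring)) }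
    have hgrp : IsPGroup p (Multiplicative (ZMod p)) := IsPGroup.of_card (n := 1) (by simp)
    have hX : p ∣ Nat.card X := by
      have hXp : IsPGroup p X := fun d => ⟨1, Subtype.ext (by
        rw [SubgroupClass.coe_pow, pow_one]
        refine congrArg Multiplicative.ofAdd (funext fun i => ?_)
        show p • Multiplicative.toAdd d.1 i = 0
        simp)⟩
      haveI : Nontrivial X := ⟨⟨⟨c, hc⟩, 1, fun e => hc1 (congrArg Subtype.val e)⟩⟩
      obtain ⟨k, hk, hk'⟩ := hXp.nontrivial_iff_card.1 inferInstance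
      exact hk'.symm ▸ dvd_pow_self p hk.ne'
    obtain ⟨b, hb, hb1⟩ := hgrp.exists_fixed_point_of_prime_dvd_card_of_fixed_point X hX (a := (1 : X))
      (fun k => Subtype.ext rfl)
    have hconstb : (b : Multiplicative (ZMod p → ZMod p)) = const (Multiplicative.toAdd b.1 0) := by
      refine congrArg Multiplicative.ofAdd (funext fun i => ?_)
      have h := congrFun (congrArg (fun d : X => Multiplicative.toAdd d.1) (hb (Multiplicative.ofAdd i))) i
      exact (h.symm.trans (congrArg (Multiplicative.toAdd b.1) (sub_self i)))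
    have hb0 : Multiplicative.toAdd b.1 0 ≠ 0 := fun e => hb1 (Subtype.ext (by
      rw [hconstb, e]; rfl))
    have h1 : (∏ i : ZMod p, a i) ^ (Multiplicative.toAdd b.1 0).val = 1 := by
      rw [← hconst, ← hconstb]; exact b.2
    refine hN1 (orderOf_eq_one_iff.1 (Nat.eq_one_of_dvd_coprimes ?_ (orderOf_dvd_of_pow_eq_one h1)
      (orderOf_dvd_of_pow_eq_one (x := ∏ i : ZMod p, a i) (n := p)
        (Subtype.ext (by rw [SubgroupClass.coe_pow]; exact hV.2 _ (∏ i : ZMod p, a i).2)))))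
    exact (hp.coprime_iff_not_dvd.2 fun hd => hb0 ((ZMod.val_eq_zero _).1
      (Nat.eq_zero_of_dvd_of_lt hd (ZMod.val_lt _)))).symm
  have hLinj : Function.Injective L := (injective_iff_map_eq_one L).2 hLker
  have hfix : ∀ c, cx (L c) = L c → c = const (Multiplicative.toAdd c 0) := by
    intro c hc
    have h : sh c = c := hLinj (by rw [hLsh, hc])
    have h' : ∀ m : ℕ, Multiplicative.toAdd c (m : ZMod p) = Multiplicative.toAdd c 0 := fun m => by
      induction m with
      | zero => simp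
      | succ m ih =>
        rw [← ih]
        have := congrFun (congrArg Multiplicative.toAdd h) ((m + 1 : ℕ) : ZMod p)
        change Multiplicative.toAdd c (((m + 1 : ℕ) : ZMod p) - 1) = _ at this
        rw [← this]; push_cast; ring_nf
    exact congrArg Multiplicative.ofAdd (funext fun i => by
      show Multiplicative.toAdd c i = _
      rw [← ZMod.natCast_zmod_val i, h'])
  set B := L.range.map V.subtype with hBdef
  have hBV : B ≤ V := Subgroup.map_subtype_le _
  have hBx : ∀ b ∈ B, x * b * x⁻¹ ∈ B := by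
    rintro _ ⟨_, ⟨c, rfl⟩, rfl⟩
    exact ⟨L (sh c), ⟨sh c, rfl⟩, by rw [hLsh]; exact MulAut.conjNormal_apply x (L c)⟩
  -- adjust `x`
  obtain ⟨y, hyP, hyV, hyp, hyx, hyB⟩ : ∃ y, y ∈ P ∧ y ∉ V ∧ y ^ p ∈ V ∧
      (∀ w ∈ V, y * w * y⁻¹ = x * w * x⁻¹) ∧ (y ^ p ∈ B → y ^ p = 1) := by
    by_cases hxB : x ^ p ∈ B
    · obtain ⟨_, ⟨c, rfl⟩, hc⟩ := hxB
      have hc' : (L c : G) = x ^ p := hc
      have hcfix : cx (L c) = L c := Subtype.ext (by
        rw [show ((cx (L c) : V) : G) = x * (L c : G) * x⁻¹ from MulAut.conjNormal_apply x (L c), hc',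
          ← pow_succ', pow_succ, mul_inv_cancel_right])
      rw [hfix c hcfix, hconst] at hc'
      set b := (Multiplicative.toAdd c 0).val with hb
      set m := p - b with hm
      have hconj : ∀ w ∈ V, v ^ m * x * w * (v ^ m * x)⁻¹ = x * w * x⁻¹ := fun w hw => by
        rw [mul_inv_rev]
        calc v ^ m * x * w * (x⁻¹ * (v ^ m)⁻¹) = v ^ m * (x * w * x⁻¹) * (v ^ m)⁻¹ := by group
          _ = _ := by rw [hVc _ (pow_mem hv m) _ (hVn x w hw), mul_inv_cancel_right]
      have hpowm : (v ^ m * x) ^ p = 1 := by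
        have hk : ∀ k : ℕ, (((∏ j ∈ range k, (⟨x ^ j * v * (x ^ j)⁻¹, hVn _ v hv⟩ : V)) ^ m : V) : G) * x ^ k =
            (v ^ m * x) ^ k := by
          intro k
          induction k with
          | zero => simp
          | succ k ih =>
            rw [Finset.prod_range_succ, mul_pow, Subgroup.coe_mul, pow_succ (v ^ m * x), ← ih, pow_succ x,
              SubgroupClass.coe_pow, SubgroupClass.coe_pow, conj_pow]
            group
        have hprod : (∏ j ∈ range p, (⟨x ^ j * v * (x ^ j)⁻¹, hVn _ v hv⟩ : V)) = ∏ i : ZMod p, a i := by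
          refine Subtype.ext (mul_right_cancel (b := x ^ p) ?_)
          rw [hkey v p hv, hN]
        rw [← hk p, hprod, ← hc', ← Subgroup.coe_mul, ← pow_add, hm,
          Nat.sub_add_cancel (ZMod.val_lt (Multiplicative.toAdd c 0)).le, SubgroupClass.coe_pow]
        exact hV.2 _ (∏ i : ZMod p, a i).2
      exact ⟨v ^ m * x, mul_mem (hVP (pow_mem hv m)) hxP,
        fun h => hxV (by simpa using mul_mem (inv_mem (pow_mem hv m)) h), hpowm ▸ one_mem V, hconj,
        fun _ => hpowm⟩
    · exact ⟨x, hxP, hxV, hxp, fun w _ => rfl, fun h => absurd h hxB⟩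
  set R := Subgroup.zpowers (y ^ p) with hR
  have hRV : R ≤ V := Subgroup.zpowers_le.2 hyp
  have hBR : B ⊓ R = ⊥ := by
    by_contra hne'
    haveI : Nontrivial ↥(B ⊓ R) := (Subgroup.nontrivial_iff_ne_bot _).2 hne'
    obtain ⟨⟨r, hrB, hrR⟩, hr1⟩ := exists_ne (1 : ↥(B ⊓ R))
    obtain ⟨k, hk⟩ := Subgroup.mem_zpowers_iff.1 hrR
    have hcop : IsCoprime (k : ℤ) (p : ℤ) := by
      rw [isCoprime_comm, (Nat.prime_iff_prime_int.1 hp).coprime_iff_not_dvd]
      rintro ⟨d, rfl⟩
      refine hr1 (Subtype.ext ?_)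
      show r = 1
      rw [← hk, zpow_mul, zpow_natCast, hV.2 _ hyp, one_zpow]
    obtain ⟨u, w, huw⟩ := hcop
    have : y ^ p ∈ B := by
      rw [← zpow_one (y ^ p), ← huw, zpow_add, zpow_mul', zpow_mul', hk, zpow_natCast, hV.2 _ hyp, one_zpow, mul_one]
      exact B.zpow_mem hrB u
    refine hr1 (Subtype.ext ?_)
    show r = 1
    rw [← hk, hyB this, one_zpow]
  set Y := Subgroup.zpowers y ⊔ B with hY
  have hyY : y ∈ Y := Subgroup.mem_sup_left (Subgroup.mem_zpowers y)
  have hRY : R ≤ Y := Subgroup.zpowers_le.2 (pow_mem hyY p)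
  have hBn : Y ≤ Subgroup.normalizer (B : Set G) := by
    refine sup_le (Subgroup.zpowers_le.2 (Subgroup.mem_normalizer_iff_map_conj_eq.2
      (Subgroup.eq_of_le_of_card_ge ?_ (Subgroup.card_map_of_injective (MulAut.conj y).injective).ge)))
      Subgroup.le_normalizer
    rintro _ ⟨b, hb, rfl⟩
    show y * b * y⁻¹ ∈ B
    rw [hyx b (hBV hb)]
    exact hBx b hb
  haveI hRn : (R.subgroupOf Y).Normal := (Subgroup.normal_subgroupOf_iff_le_normalizer hRY).2 <| by
    refine sup_le (Subgroup.zpowers_le.2 ?_) fun b hb => ?_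
    · refine (Subgroup.centralizer_le_normalizer (R : Set G)) (Subgroup.mem_centralizer_iff.2 ?_)
      rintro _ ⟨k, rfl⟩
      exact (((Commute.refl y).pow_left p).zpow_left k).eq
    · exact (Subgroup.centralizer_le_normalizer (R : Set G)) (Subgroup.mem_centralizer_iff.2 fun r hr =>
        hVc r (hRV hr) b (hBV hb))
  obtain ⟨N, ⟨e⟩⟩ : ∃ N, Nonempty ((↥Y ⧸ R.subgroupOf Y) ≃ {n : Fin N // True}) :=
    ⟨_, ⟨(Finite.equivFin _).trans (Equiv.subtypeUnivEquiv fun _ => trivial).symm⟩⟩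
  letI : Group {n : Fin N // True} := e.symm.group
  let θ : Y →* {n : Fin N // True} := (e.symm.mulEquiv).symm.toMonoidHom.comp (QuotientGroup.mk' (R.subgroupOf Y))
  have hθ : Function.Surjective θ :=
    (e.symm.mulEquiv).symm.surjective.comp (QuotientGroup.mk'_surjective _)
  have hθ1 : ∀ z : Y, θ z = 1 ↔ (z : G) ∈ R := fun z => by
    show (e.symm.mulEquiv).symm (QuotientGroup.mk' (R.subgroupOf Y) z) = 1 ↔ _
    rw [MulEquiv.map_eq_one_iff]
    exact (QuotientGroup.eq_one_iff z).trans Subgroup.mem_subgroupOf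
  set t := θ ⟨y, hyY⟩ with ht
  set Bw := (B.subgroupOf Y).map θ with hBw
  have hinjB : Set.InjOn θ (B.subgroupOf Y : Set Y) := fun b hb c hc h => by
    have h1 : θ (b * c⁻¹) = 1 := by rw [map_mul, h, ← map_mul, mul_inv_cancel, map_one]
    have h2 : ((b * c⁻¹ : Y) : G) ∈ B ⊓ R := ⟨B.mul_mem (Subgroup.mem_subgroupOf.1 hb) (B.inv_mem (Subgroup.mem_subgroupOf.1 hc)), (hθ1 _).1 h1⟩
    rw [hBR, Subgroup.mem_bot] at h2
    exact mul_inv_eq_one.1 (Subtype.ext h2)
  have hcardB : Nat.card Bw = p ^ p := by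
    have h1 : Nat.card Bw = Nat.card (B.subgroupOf Y) :=
      Nat.card_image_of_injOn hinjB
    rw [h1, Nat.card_congr (Subgroup.subgroupOfEquivOfLe (le_sup_right : B ≤ Y)).toEquiv, hBdef,
      Subgroup.card_map_of_injective V.subtype_injective,
      Nat.card_congr (MonoidHom.ofInjective hLinj).toEquiv.symm]
    simp
  haveI hBwn : Bw.Normal := Subgroup.Normal.map
    ((Subgroup.normal_subgroupOf_iff_le_normalizer (le_sup_right : B ≤ Y)).2 hBn) θ hθ
  have htB : t ∉ Bw := by
    rintro ⟨b, hb, hbt⟩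
    have h1 : θ (b⁻¹ * ⟨y, hyY⟩) = 1 := by rw [map_mul, map_inv, hbt, inv_mul_cancel]
    have h2 : (b : G)⁻¹ * y ∈ V := hRV ((hθ1 _).1 h1)
    have h3 : (b : G) * ((b : G)⁻¹ * y) ∈ V := mul_mem (hBV hb) h2
    rw [mul_inv_cancel_left] at h3
    exact hyV h3
  have htp : orderOf t = p := by
    refine orderOf_eq_prime ?_ fun h => htB (h ▸ one_mem Bw)
    rw [ht, ← map_pow, hθ1]
    exact Subgroup.mem_zpowers _
  refine ⟨{n : Fin N // True}, inferInstance, inferInstance, ⟨Bw, t, hBwn, ⟨⟨?_⟩⟩, ?_, hcardB, htp, htB, ?_, ?_⟩,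
    Y, θ, sup_le (Subgroup.zpowers_le.2 hyP) (hBV.trans hVP), hθ⟩
  · rintro ⟨_, b, hb, rfl⟩ ⟨_, c, hc, rfl⟩
    refine Subtype.ext ?_
    show θ b * θ c = θ c * θ b
    rw [← map_mul, ← map_mul, show b * c = c * b from Subtype.ext (hVc _ (hBV hb) _ (hBV hc))]
  · rintro _ ⟨b, hb, rfl⟩
    rw [← map_pow, show b ^ p = 1 from Subtype.ext (by rw [SubgroupClass.coe_pow]; exact hV.2 _ (hBV hb)), map_one]
  · have htop : Subgroup.zpowers t ⊔ Bw = ⊤ := by
      refine eq_top_iff.2 fun z _ => ?_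
      obtain ⟨⟨w, hw⟩, rfl⟩ := hθ z
      obtain ⟨u, hu, b, hb, rfl⟩ := (Coprime.mem_sup_iff_of_le_normalizer
        ((le_sup_left : Subgroup.zpowers y ≤ Y).trans hBn)).1 hw
      obtain ⟨k, rfl⟩ := hu
      rw [show (⟨y ^ k * b, hw⟩ : Y) = ⟨y, hyY⟩ ^ k * ⟨b, Subgroup.mem_sup_right hb⟩ from Subtype.ext rfl,
        map_mul, map_zpow]
      exact mul_mem (Subgroup.mem_sup_left (Subgroup.zpow_mem_zpowers t k))
        (Subgroup.mem_sup_right (Subgroup.mem_map_of_mem θ (Subgroup.mem_subgroupOf.2 hb)))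
    have hdisj : Subgroup.zpowers t ⊓ Bw = ⊥ := by
      by_contra hne'
      have hc : Nat.card ↥(Subgroup.zpowers t ⊓ Bw) = Nat.card (Subgroup.zpowers t) := by
        have hd : Nat.card ↥(Subgroup.zpowers t ⊓ Bw) ∣ p := by
          have := Subgroup.card_dvd_of_le (inf_le_left : Subgroup.zpowers t ⊓ Bw ≤ _)
          rwa [Nat.card_zpowers, htp] at this
        rw [Nat.card_zpowers, htp]
        exact ((Nat.dvd_prime hp).1 hd).resolve_left fun e => hne' (Subgroup.eq_bot_of_card_eq _ e)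
      exact htB ((Subgroup.eq_of_le_of_card_ge inf_le_left hc.ge).ge (Subgroup.mem_zpowers t)).2
    rw [← Subgroup.card_top, ← htop, Coprime.card_sup_of_le_normalizer
      (by rw [Subgroup.normalizer_eq_top]; exact le_top) hdisj, Nat.card_zpowers, htp, hcardB, pow_succ']
  · let g : ZMod p → ↥(Bw ⊓ Subgroup.centralizer ({t} : Set {n : Fin N // True})) := fun b =>
      ⟨θ ⟨(L (const b) : G), Subgroup.mem_sup_right ⟨_, ⟨_, rfl⟩, rfl⟩⟩,
        ⟨Subgroup.mem_map_of_mem θ (Subgroup.mem_subgroupOf.2 ⟨_, ⟨_, rfl⟩, rfl⟩),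
          Subgroup.mem_centralizer_singleton_iff.2 (by
            rw [ht, ← map_mul, ← map_mul]
            congr 1
            refine Subtype.ext ?_
            show (L (const b) : G) * y = y * (L (const b) : G)
            have h1 : x * (L (const b) : G) * x⁻¹ = L (const b) := by
              rw [← MulAut.conjNormal_apply]; exact congrArg Subtype.val (hLsh (const b)).symm
            rw [← hyx _ (L (const b)).2, mul_inv_eq_iff_eq_mul] at h1
            exact h1.symm)⟩⟩
    have hg : Function.Bijective g := by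
      refine ⟨fun b c h => ?_, fun zz => ?_⟩
      · have h1 := hinjB (Subgroup.mem_subgroupOf.2 ⟨_, ⟨_, rfl⟩, rfl⟩) (Subgroup.mem_subgroupOf.2 ⟨_, ⟨_, rfl⟩, rfl⟩)
          (congrArg Subtype.val h)
        have h2 : ((L (const b) : V) : G) = (L (const c) : V) := congrArg (fun z : Y => (z : G)) h1
        exact congrFun (congrArg Multiplicative.toAdd (hLinj (Subtype.ext h2))) 0
      · obtain ⟨⟨⟨w, hw⟩, hwB, hzeq⟩, hzc⟩ := id zz.2
        obtain ⟨_, ⟨c, rfl⟩, rfl⟩ := id (hwB : w ∈ B)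
        have hcB : (cx (L c) : G) ∈ B := ⟨L (sh c), ⟨sh c, rfl⟩, by rw [hLsh]; rfl⟩
        have h1 : θ ⟨(cx (L c) : G), Subgroup.mem_sup_right hcB⟩ = θ ⟨(L c : G), hw⟩ := by
          have e : (⟨(cx (L c) : G), Subgroup.mem_sup_right hcB⟩ : Y) = ⟨y, hyY⟩ * ⟨(L c : G), hw⟩ * ⟨y, hyY⟩⁻¹ :=
            Subtype.ext (by
              show (cx (L c) : G) = y * (L c : G) * y⁻¹
              rw [hyx _ (L c).2]; exact MulAut.conjNormal_apply x (L c))
          rw [e, map_mul, map_mul, map_inv, ← ht]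
          rw [← hzeq] at hzc
          exact mul_inv_eq_iff_eq_mul.2 (Subgroup.mem_centralizer_singleton_iff.1 hzc).symm
        have h2 := congrArg Subtype.val (hinjB (Subgroup.mem_subgroupOf.2 hcB) hwB h1)
        have hcf := hfix c (Subtype.ext h2)
        exact ⟨Multiplicative.toAdd c 0, Subtype.ext (Eq.trans (congrArg θ (Subtype.ext (by
          show (L (const _) : G) = (L c : G)
          rw [← hcf]))) hzeq)⟩
    rw [← Nat.card_eq_of_bijective g hg, Nat.card_zmod]


/-- Let G be a finite p-soluble group, p an odd prime not of the form 2^k + 1, and suppose the wreath product C_p ≀ C_p (of order p^(p+1)) is not involved in a Sylow p-subgroup of G: no section of a Sylow p-subgroup is isomorphic to it. Then G has p-length at most 1. -/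
theorem result {G : Type*} [Group G] [Finite G] {p : ℕ} [Fact p.Prime] (hp2 : p ≠ 2) (hnf : (¬ ∃ k : ℕ, p = 2 ^ k + 1)) (hG : Cfsg.IsPSolvable p G) (P : Sylow p G) (hwr : ∀ (W : Type) [Group W] [Finite W], (∃ (B : Subgroup W) (t : W), B.Normal ∧ IsMulCommutative B ∧ (∀ b ∈ B, b ^ p = 1) ∧ Nat.card B = p ^ p ∧ orderOf t = p ∧ t ∉ B ∧ Nat.card W = p ^ (p + 1) ∧ Nat.card ↥(B ⊓ Subgroup.centralizer ({t} : Set W)) = p) → ¬ Cfsg.Involves W ↥(P : Subgroup G)) : Cfsg.PLengthLE p 1 G := by
  classical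
  have hexc : (¬ ∃ k : ℕ, p = 2 ^ k + 1) := hnf
  set f := QuotientGroup.mk' (Cfsg.pPrimeCore p G) with hf
  refine PCore.pLengthLE_of_ker_le_pPrimeCore f (QuotientGroup.mk'_surjective _) (QuotientGroup.ker_mk' _).le ?_
  have hbot : Cfsg.pPrimeCore p (G ⧸ Cfsg.pPrimeCore p G) = ⊥ := PCore.pPrimeCore_quotient_self_eq_bot
  have hs := PCore.isPSolvable_quotient hG (Cfsg.pPrimeCore p G)
  set P1 := P.mapSurjective (QuotientGroup.mk'_surjective (Cfsg.pPrimeCore p G)) with hP1
  set O := Cfsg.pCore p (G ⧸ Cfsg.pPrimeCore p G) with hO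
  have hOP : O ≤ (P1 : Subgroup (G ⧸ Cfsg.pPrimeCore p G)) := PCore.pCore_le_sylow P1
  refine PCore.pLengthLE_succ_of_isPGroup_ker (QuotientGroup.mk' O) (QuotientGroup.mk'_surjective O)
    (QuotientGroup.ker_mk' O).le ?_
  rw [PCore.pLengthLE_zero_iff]
  by_contra hdvd
  obtain ⟨x, hxP, hxO⟩ : ∃ x ∈ (P1 : Subgroup (G ⧸ Cfsg.pPrimeCore p G)), x ∉ O := by
    by_contra hall
    push Not at hall
    apply hdvd
    rw [Nat.coprime_comm, (Fact.out : p.Prime).coprime_iff_not_dvd]
    intro hd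
    refine P1.not_dvd_index ?_
    rw [← Subgroup.index_eq_card] at hd
    rwa [le_antisymm hall hOP]
  have hex : ∃ j, x ^ p ^ j ∈ O := by
    obtain ⟨j, hj⟩ := P1.2 ⟨x, hxP⟩
    exact ⟨j, by rw [show x ^ p ^ j = 1 from congrArg Subtype.val hj]; exact one_mem O⟩
  obtain ⟨j, hj⟩ : ∃ j, Nat.find hex = j + 1 :=
    ⟨_, (Nat.succ_pred_eq_of_pos (Nat.pos_of_ne_zero fun h0 => hxO (by
      have := Nat.find_spec hex; rwa [h0, pow_zero, pow_one] at this))).symm⟩
  have hy1 : x ^ p ^ j ∉ O := Nat.find_min hex (by omega)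
  have hy : (x ^ p ^ j) ^ p ∈ O := by
    have := Nat.find_spec hex; rw [hj, pow_succ, pow_mul] at this; exact this
  haveI : (frattini O).Characteristic := frattini_characteristic
  haveI : ((frattini O).map O.subtype).Normal := ConjAct.normal_of_characteristic_of_normal
  obtain ⟨hFO, hVe, hVc, hVC⟩ :=
    HallHigman.frattini_quotient_facts hs hbot ((frattini O).map O.subtype) rfl
  set π := QuotientGroup.mk' ((frattini O).map O.subtype) with hπ
  haveI : (O.map π).Normal := (inferInstance : O.Normal).map π (QuotientGroup.mk'_surjective _)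
  have hmem : ∀ z, π z ∈ O.map π → z ∈ O := fun z hz => by
    have h1 : z ∈ (O.map π).comap π := hz
    rwa [Subgroup.comap_map_eq, QuotientGroup.ker_mk', sup_eq_left.2 hFO] at h1
  obtain ⟨v, hv, hne⟩ := HallHigman.exists_mul_pow_ne (n := 1) hp2 (PCore.isPSolvable_quotient hs _) hVe hVc hVC
    (Or.inl hexc) le_rfl (x := π (x ^ p ^ j)) (by rw [pow_one, ← map_pow]; exact Subgroup.mem_map_of_mem π hy)
    (by rw [Nat.sub_self, pow_zero, pow_one]; exact fun h => hy1 (hmem _ h))
  rw [pow_one] at hne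
  obtain ⟨W, iG, iF, hW, K, θ, hKP, hθ⟩ := exists_wreath_section hVe (Subgroup.map_mono hOP)
    (Subgroup.mem_map_of_mem π (pow_mem hxP _)) (fun h => hy1 (hmem _ h))
    (by rw [← map_pow]; exact Subgroup.mem_map_of_mem π hy) hv hne
  refine hwr W hW (PComplement.involves_iff.2 ?_)
  let ω : (P : Subgroup G) →* _ := (π.comp f).comp (P : Subgroup G).subtype
  refine ⟨K.comap ω, θ.comp (ω.subgroupComap K), hθ.comp ?_⟩
  rintro ⟨k, hk⟩
  obtain ⟨z, ⟨g, hg, rfl⟩, rfl⟩ := hKP hk
  exact ⟨⟨⟨g, hg⟩, hk⟩, rfl⟩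

end Cfsg.Agent.S3787
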