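import Cfsg.Statements.S3788
import Cfsg.Agent.Lib.PCore.HallHigmanDual
import Cfsg.Agent.Lib.Coprime.Commutator
import Cfsg.Agent.Lib.PGroup.Frattini
import Cfsg.Agent.Lib.PGroup.Class2
import Cfsg.Agent.Lib.Offender.StableClosure
import Cfsg.Agent.Lib.PComplement.SFour
-- import your own Cfsg.Agent.* helpers here

set_option autoImplicit false
open Cfsg

namespace Cfsg.Agent.S3788

open Subgroup
open scoped commutatorElement Pointwise

variable {G : Type*} [Group G]

theorem mul_pow_eq {a w c : G} (hcw : Commute c w) (hca : Commute c a) (h : a * w = c * w * a)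
    (n : ℕ) : (w * a) ^ n = c ^ n.choose 2 * (w ^ n * a ^ n) := by
  have hbn : ∀ n : ℕ, a ^ n * w = c ^ n * (w * a ^ n) := by
    intro n
    induction n with
    | zero => simp
    | succ n ihn =>
      calc a ^ (n + 1) * w = a * (a ^ n * w) := by rw [pow_succ', mul_assoc]
        _ = a * c ^ n * (w * a ^ n) := by rw [ihn, mul_assoc]
        _ = c ^ n * (a * w) * a ^ n := by rw [← (hca.pow_left n).eq]; simp only [mul_assoc]
        _ = _ := by rw [h, pow_succ c, pow_succ' a]; simp only [mul_assoc]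
  induction n with
  | zero => simp
  | succ n ihn =>
    calc (w * a) ^ (n + 1) = c ^ n.choose 2 * w ^ n * (a ^ n * w) * a := by
          rw [pow_succ, ihn]; simp only [mul_assoc]
      _ = c ^ n.choose 2 * (w ^ n * c ^ n) * w * (a ^ n * a) := by
          rw [hbn]; simp only [mul_assoc]
      _ = c ^ n.choose 2 * c ^ n * (w ^ n * w) * (a ^ n * a) := by
          rw [← (hcw.pow_pow n n).eq]; simp only [mul_assoc]
      _ = _ := by
          rw [← pow_add, Nat.choose_succ_succ' n 1, Nat.choose_one_right, add_comm n, pow_succ,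
            pow_succ, mul_assoc]

/-- The transvection case: `V` self-centralising, `a ∉ V`, `a ^ p ∈ V` and `[V, a] ≤ ⟨a ^ p⟩`. -/
theorem false_of_transvection [Finite G] {p : ℕ} [hp : Fact p.Prime] (hs : Cfsg.IsPSolvable p G)
    {V : Subgroup G} [V.Normal] (hV : Cfsg.IsElementaryAbelian p V) (hcore : Cfsg.pCore p G = V)
    (hC : centralizer (V : Set G) ≤ V) {a : G} (haV : a ∉ V) (hap : a ^ p ∈ V)
    (hcomm : ∀ v ∈ V, ⁅v, a⁆ ∈ zpowers (a ^ p))
    (h : p ≠ 2 ∨ ¬ Cfsg.Involves (Equiv.Perm (Fin 4)) G) : False := by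
  haveI : IsMulCommutative V := hV.1
  set z := a ^ p with hz
  have hVc : ∀ u ∈ V, ∀ v ∈ V, u * v = v * u := fun u hu v hv =>
    congrArg Subtype.val (hV.1.is_comm.comm ⟨u, hu⟩ ⟨v, hv⟩)
  have hVp : IsPGroup p V := hcore ▸ PCore.isPGroup_pCore
  obtain ⟨kV, hkV⟩ := IsPGroup.iff_card.1 hVp
  set π := QuotientGroup.mk' V
  set Rb := Cfsg.pPrimeCore p (G ⧸ V) with hRb
  have hXcore : Cfsg.pCore p (G ⧸ V) = ⊥ := by
    subst hcore; exact PCore.pCore_quotient_self_eq_bot
  set D := Rb.comap π with hD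
  haveI : D.Normal := Normal.comap inferInstance π
  have hVD : V ≤ D := fun v hv => by
    rw [hD, mem_comap, show π v = 1 from (QuotientGroup.eq_one_iff v).2 hv]; exact one_mem _
  have hRc : (Nat.card Rb).Coprime p := PCore.coprime_card_pPrimeCore
  have hidx : (V.subgroupOf D).index = Nat.card Rb := by
    show V.relIndex D = _
    rw [PCore.relIndex_eq_card_map_mk', hD, map_comap_eq_self_of_surjective (QuotientGroup.mk'_surjective V)]
  obtain ⟨L, hL⟩ := exists_right_complement'_of_coprime (N := V.subgroupOf D) (by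
    rw [hidx, Nat.card_congr (subgroupOfEquivOfLe hVD).toEquiv, hkV]
    exact hRc.symm.pow_left kV)
  set R := L.map D.subtype with hR
  have hRD : R ≤ D := map_subtype_le L
  have hRcard : Nat.card R = Nat.card Rb := by
    rw [hR, card_map_of_injective D.subtype_injective, ← hL.symm.index_eq_card, hidx]
  have hRV : R ⊔ V = D := by
    have h0 := congrArg (Subgroup.map D.subtype) hL.sup_eq_top
    rw [Subgroup.map_sup, subgroupOf_map_subtype, inf_eq_left.2 hVD, ← MonoidHom.range_eq_map,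
      range_subtype, sup_comm] at h0
    exact h0
  have hcopRV : (Nat.card R).Coprime (Nat.card V) := by
    rw [hRcard, hkV]; exact hRc.pow_right kV
  have hdisj : R ⊓ V = ⊥ := Subgroup.inf_eq_bot_of_coprime hcopRV
  have hVs : Group.IsSolvable V := Group.isSolvable_of_comm fun u v => hV.1.is_comm.comm u v
  -- replace `a` by an element normalising `R`
  obtain ⟨v, hv, hvR⟩ := Coprime.exists_conj_eq_of_le_sup (N := V) (H := R)
    (K := MulAut.conj a • R) (by rw [normalizer_eq_top]; exact le_top) (by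
      rintro _ ⟨x, hx, rfl⟩
      rw [hRV]
      exact (inferInstance : D.Normal).conj_mem x (hRD hx) a) (Coprime.card_conj_smul _ _) hcopRV
    (Or.inl hVs)
  set b := v⁻¹ * a with hb
  have hbR : b ∈ normalizer (R : Set G) := by
    refine Coprime.mem_normalizer_of_conj_smul_eq ?_
    rw [hb, map_mul, mul_smul, ← hvR, map_inv, inv_smul_smul]
  have hbV : b ∉ V := fun hbV => haV (by simpa [hb] using mul_mem hv hbV)
  -- the power of `b`
  obtain ⟨k, hk⟩ := hcomm v hv
  have hbw : ∀ w ∈ V, ⁅w, b⁆ ∈ zpowers z := by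
    intro w hw
    have e : ⁅w, b⁆ = ⁅w, v⁻¹⁆ * (v⁻¹ * ⁅w, a⁆ * v) := by
      rw [hb, commutatorElement_mul_right_eq_mul_conj]; group
    rw [e, commutatorElement_eq_one_iff_mul_comm.2 (hVc w hw _ (inv_mem hv)), one_mul, mul_assoc,
      hVc _ (zpowers_le.2 hap (hcomm w hw)) v hv, inv_mul_cancel_left]
    exact hcomm w hw
  have hzp : z ^ p = 1 := hV.2 z hap
  have hbpow : ∃ c ∈ zpowers z, b ^ p = c * z ∧ (p ≠ 2 → c = 1) := by
    set c := ⁅v, a⁆ with hc
    have hcV : c ∈ V := zpowers_le.2 hap (hcomm v hv)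
    have e : a * v⁻¹ = c * v⁻¹ * a := by
      rw [hVc c hcV _ (inv_mem hv), hc, commutatorElement_def]; group
    have hca : Commute c a := by
      have h1 : Commute (z ^ k) a := ((Commute.refl a).pow_left p).zpow_left k
      have h2 : z ^ k = c := hk
      rwa [h2] at h1
    refine ⟨c ^ p.choose 2, pow_mem (hcomm v hv) _, ?_, fun h2 => ?_⟩
    · rw [hb, mul_pow_eq (hVc c hcV _ (inv_mem hv)) hca e p, inv_pow, hV.2 v hv, inv_one, one_mul]
    · obtain ⟨j, hj⟩ := PGroup.dvd_choose_two hp.out h2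
      rw [hj, pow_mul, hV.2 c hcV, one_pow]
  obtain ⟨c, hc, hbp, hc1⟩ := hbpow
  have hcentR : ∀ w ∈ V, w ∈ normalizer (R : Set G) → w ∈ centralizer (R : Set G) := by
    intro w hw hwN
    refine mem_centralizer_iff.2 fun r hr => ?_
    have h1 : ⁅w, r⁆ ∈ R ⊓ V := by
      refine mem_inf.2 ⟨?_, ?_⟩
      · rw [commutatorElement_def]
        exact mul_mem ((mem_normalizer_iff.1 hwN r).1 hr) (inv_mem hr)
      · rw [commutatorElement_def, mul_assoc, mul_assoc, ← mul_assoc r]
        exact mul_mem hw ((inferInstance : V.Normal).conj_mem _ (inv_mem hw) r)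
    rw [hdisj, mem_bot, commutatorElement_eq_one_iff_mul_comm] at h1
    exact h1.symm
  have hbp_cent : b ^ p ∈ centralizer (R : Set G) :=
    hcentR _ (by rw [hbp]; exact mul_mem (zpowers_le.2 hap hc) hap) (pow_mem hbR p)
  set M := ⁅V, R⁆ with hM
  have hMV : M ≤ V := Coprime.commutator_le_left_of_le_normalizer (by rw [normalizer_eq_top]; exact le_top)
  have hRnV : R ≤ normalizer (V : Set G) := by rw [normalizer_eq_top]; exact le_top
  have hMC := Coprime.inf_centralizer_inf_commutator_eq_bot hRnV hcopRV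
  have hbM : b ∈ normalizer (M : Set G) := by
    rw [hM, mem_normalizer_iff_map_conj_eq, map_commutator,
      mem_normalizer_iff_map_conj_eq.1 (show b ∈ normalizer (V : Set G) by rw [normalizer_eq_top]; exact mem_top b),
      mem_normalizer_iff_map_conj_eq.1 hbR]
  have hbnc : ∃ r ∈ R, b * r * b⁻¹ * r⁻¹ ≠ 1 := by
    by_contra! hall
    have hcent : π b ∈ centralizer (Rb : Set (G ⧸ V)) := by
      rw [mem_centralizer_iff]
      intro y hy
      obtain ⟨x, rfl⟩ := QuotientGroup.mk'_surjective V y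
      have hxD : x ∈ R ⊔ V := by rw [hRV]; exact hy
      obtain ⟨r, hr, w, hw, rfl⟩ := mem_sup_of_normal_right.1 hxD
      have h1 : b * r = r * b := by
        rw [← commutatorElement_eq_one_iff_mul_comm, commutatorElement_def]; exact hall r hr
      rw [map_mul, show π w = 1 from (QuotientGroup.eq_one_iff w).2 hw, mul_one, ← map_mul, ← map_mul, h1]
    have h2 := PCore.centralizer_pPrimeCore_le (PCore.isPSolvable_quotient hs V) hXcore hcent
    have h3 : π b ^ p = 1 := by
      rw [← map_pow, hbp]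
      exact (QuotientGroup.eq_one_iff _).2 (mul_mem (zpowers_le.2 hap hc) hap)
    have h4 : orderOf (π b) = 1 := Nat.eq_one_of_dvd_coprimes hRc
      (Rb.orderOf_dvd_natCard h2) (orderOf_dvd_of_pow_eq_one h3)
    exact hbV ((QuotientGroup.eq_one_iff b).1 (orderOf_eq_one_iff.1 h4))
  -- if `z` centralises `R`, then `b` centralises `[V, R]` and then `R`
  have hzR : z ∉ centralizer (R : Set G) := by
    intro hzR
    obtain ⟨r, hr, hr1⟩ := hbnc
    apply hr1
    set s := b * r * b⁻¹ * r⁻¹ with hsdef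
    have hsR : s ∈ R := mul_mem ((mem_normalizer_iff.1 hbR r).1 hr) (inv_mem hr)
    have hbM1 : ∀ m ∈ M, b * m = m * b := by
      intro m hm
      have h1 : ⁅m, b⁆ ∈ (V ⊓ centralizer (R : Set G)) ⊓ M := by
        refine mem_inf.2 ⟨mem_inf.2 ⟨zpowers_le.2 hap (hbw m (hMV hm)),
          zpowers_le.2 hzR (hbw m (hMV hm))⟩, ?_⟩
        rw [commutatorElement_def, mul_assoc, mul_assoc, ← mul_assoc b]
        exact mul_mem hm ((mem_normalizer_iff.1 hbM _).1 (inv_mem hm))
      rw [hMC, mem_bot, commutatorElement_eq_one_iff_mul_comm] at h1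
      exact h1.symm
    have hsV : s ∈ centralizer (V : Set G) := by
      refine mem_centralizer_iff.2 fun w hw => ?_
      obtain ⟨u, hu, m, hm, rfl⟩ := Coprime.exists_centralizer_mul_commutator hRnV hcopRV (Or.inr hVs) hw
      have hu' := mem_centralizer_iff.1 hu.2 s hsR
      have hrM : ∀ m ∈ M, r⁻¹ * m * r ∈ M := fun m hm => by
        have := (mem_normalizer_iff.1 (Subgroup.normalizer_commutator_ge_right V R (inv_mem hr)) m).1 hm
        simpa using this
      have hm' : s * m = m * s := by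
        have e1 := hbM1 _ (hrM m hm)
        have e2 : b⁻¹ * m = m * b⁻¹ := by
          calc b⁻¹ * m = b⁻¹ * (m * b) * b⁻¹ := by group
            _ = b⁻¹ * (b * m) * b⁻¹ := by rw [hbM1 m hm]
            _ = m * b⁻¹ := by group
        calc s * m = b * r * b⁻¹ * (r⁻¹ * m * r) * r⁻¹ := by rw [hsdef]; group
          _ = b * r * (b⁻¹ * (r⁻¹ * m * r) * b) * b⁻¹ * r⁻¹ := by group
          _ = b * r * (r⁻¹ * m * r) * b⁻¹ * r⁻¹ := by rw [mul_assoc b⁻¹, ← e1, inv_mul_cancel_left]
          _ = b * m * r * b⁻¹ * r⁻¹ := by group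
          _ = m * s := by rw [hbM1 m hm, hsdef]; group
      calc u * m * s = u * (s * m) := by rw [hm', mul_assoc]
        _ = s * (u * m) := by rw [← mul_assoc, ← hu', mul_assoc]
    exact mem_bot.1 (hdisj.le (mem_inf.2 ⟨hsR, hC hsV⟩))
  have hp2 : p = 2 := by
    by_contra h2
    apply hzR
    rw [hc1 h2, one_mul] at hbp
    rwa [hbp] at hbp_cent
  rcases h with h | h
  · exact h hp2
  subst hp2
  -- `b` is an involution inverting a nontrivial element of odd order
  have hb2 : b * b = 1 := by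
    rw [pow_two] at hbp
    obtain ⟨i, hi⟩ := hc
    simp only at hi
    rcases Int.even_or_odd i with ⟨j, hj⟩ | ⟨j, hj⟩
    · exfalso
      apply hzR
      rw [← hi, hj, ← two_mul, zpow_mul, zpow_two, ← pow_two z, hzp, one_zpow, one_mul] at hbp
      rwa [pow_two b, hbp] at hbp_cent
    · rw [hbp, ← hi, hj, zpow_add_one, zpow_mul, zpow_two, ← pow_two z, hzp, one_zpow, one_mul,
        ← pow_two z, hzp]
  obtain ⟨r, hr, hr1⟩ := hbnc
  set s := b * r * b⁻¹ * r⁻¹ with hsdef
  have hsR : s ∈ R := mul_mem ((mem_normalizer_iff.1 hbR r).1 hr) (inv_mem hr)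
  have hbinv : b⁻¹ = b := inv_eq_of_mul_eq_one_left hb2
  have hbs : b * s * b⁻¹ = s⁻¹ := by
    rw [hsdef]
    calc b * (b * r * b⁻¹ * r⁻¹) * b⁻¹ = (b * b) * r * b⁻¹ * r⁻¹ * b⁻¹ := by group
      _ = r * b⁻¹ * r⁻¹ * b⁻¹ := by rw [hb2, one_mul]
      _ = r * b * r⁻¹ * b⁻¹ := by rw [hbinv]
      _ = (b * r * b⁻¹ * r⁻¹)⁻¹ := by group
  set S := zpowers s with hS
  have hSR : S ≤ R := zpowers_le.2 hsR
  have hcopS : (Nat.card S).Coprime (Nat.card V) := hcopRV.coprime_dvd_left (card_dvd_of_le hSR)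
  have hSV : S ≤ normalizer (V : Set G) := by rw [normalizer_eq_top]; exact le_top
  set W := ⁅V, S⁆ with hW
  have hWV : W ≤ V := Coprime.commutator_le_left_of_le_normalizer hSV
  have hWC := Coprime.inf_centralizer_inf_commutator_eq_bot hSV hcopS
  have hWfix : ∀ w ∈ W, Commute s w → w = 1 := by
    intro w hw hc'
    refine mem_bot.1 (hWC.le (mem_inf.2 ⟨mem_inf.2 ⟨hWV hw, ?_⟩, hw⟩))
    rw [mem_centralizer_iff]
    rintro _ ⟨i, rfl⟩
    exact hc'.zpow_left i
  have hs1 : s ∉ centralizer (V : Set G) := fun hsV =>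
    hr1 (mem_bot.1 (hdisj.le (mem_inf.2 ⟨hsR, hC hsV⟩)))
  have hsn : s ∈ normalizer (W : Set G) := Subgroup.normalizer_commutator_ge_right V S (mem_zpowers s)
  have hbS : b ∈ normalizer (S : Set G) := by
    rw [mem_normalizer_iff_map_conj_eq, hS, MonoidHom.map_zpowers]
    show zpowers (b * s * b⁻¹) = _
    rw [hbs, zpowers_inv]
  have hbn : b ∈ normalizer (W : Set G) := by
    rw [hW, mem_normalizer_iff_map_conj_eq, map_commutator,
      mem_normalizer_iff_map_conj_eq.1 (show b ∈ normalizer (V : Set G) by rw [normalizer_eq_top]; exact mem_top b),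
      mem_normalizer_iff_map_conj_eq.1 hbS]
  -- `b` and `b * s` each centralise a hyperplane of `W`, so `|W| ≤ 4`
  have hz2 : ∀ y ∈ zpowers z, y = 1 ∨ y = z := by
    rintro _ ⟨i, rfl⟩
    show z ^ i = 1 ∨ z ^ i = z
    rcases Int.even_or_odd i with ⟨j, rfl⟩ | ⟨j, rfl⟩
    · left; rw [← two_mul, zpow_mul, zpow_two, ← pow_two, hzp, one_zpow]
    · right; rw [zpow_add_one, zpow_mul, zpow_two, ← pow_two z, hzp, one_zpow, one_mul]
  have hhalf : ∀ (t : G) (z' : G) (U : Subgroup G), U ≤ W → (∀ w ∈ U, ⁅w, t⁆ = 1 ∨ ⁅w, t⁆ = z') →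
      Nat.card U ≤ 2 * Nat.card ↥(U ⊓ centralizer ({t} : Set G)) := by
    intro t z' U hUW hU
    by_cases hex : ∃ u ∈ U, ⁅u, t⁆ ≠ 1
    · obtain ⟨u, hu, hu1⟩ := hex
      set U₀ := U ⊓ centralizer ({t} : Set G)
      have hmem : ∀ x ∈ U, x ∈ U₀ ∨ u⁻¹ * x ∈ U₀ := by
        intro x hx
        rcases hU x hx with h1 | h1
        · left
          exact ⟨hx, mem_centralizer_singleton_iff.2 (commutatorElement_eq_one_iff_mul_comm.1 h1)⟩
        · right
          refine ⟨U.mul_mem (U.inv_mem hu) hx, mem_centralizer_singleton_iff.2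
            (commutatorElement_eq_one_iff_mul_comm.1 ?_)⟩
          have hu2 := (hU u hu).resolve_left hu1
          have htx : x * t * x⁻¹ = u * t * u⁻¹ := by
            have := h1.trans hu2.symm
            rw [commutatorElement_def, commutatorElement_def] at this
            exact mul_right_cancel this
          rw [commutatorElement_def]
          calc u⁻¹ * x * t * (u⁻¹ * x)⁻¹ * t⁻¹ = u⁻¹ * (x * t * x⁻¹) * u * t⁻¹ := by group
            _ = 1 := by rw [htx]; group
      let f : ↥U₀ ⊕ ↥U₀ → U := Sum.elim (fun y => ⟨y, y.2.1⟩) (fun y => ⟨u * y, mul_mem hu y.2.1⟩)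
      have hf : Function.Surjective f := fun x => by
        rcases hmem x x.2 with h1 | h1
        · exact ⟨Sum.inl ⟨x, h1⟩, rfl⟩
        · exact ⟨Sum.inr ⟨u⁻¹ * x, h1⟩, Subtype.ext (by simp [f])⟩
      have := Nat.card_le_card_of_surjective f hf
      rwa [Nat.card_sum, ← two_mul] at this
    · push Not at hex
      rw [show U ⊓ centralizer ({t} : Set G) = U from inf_eq_left.2 fun x hx =>
        mem_centralizer_singleton_iff.2 (commutatorElement_eq_one_iff_mul_comm.1 (hex x hx))]
      omega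
  have hWcard : Nat.card W ≤ 4 := by
    have hsb : s * b * s⁻¹ = s * s * b := by
      have : b * s⁻¹ = s * b := by
        calc b * s⁻¹ = (b * s⁻¹ * b⁻¹) * b := by group
          _ = (b * s * b⁻¹)⁻¹ * b := by group
          _ = s * b := by rw [hbs, inv_inv]
      rw [mul_assoc s b s⁻¹, this, ← mul_assoc]
    have h1 := hhalf b z W le_rfl fun w hw => hz2 _ (hbw w (hWV hw))
    have h2 := hhalf (s * b * s⁻¹) (s * z * s⁻¹) (W ⊓ centralizer ({b} : Set G)) inf_le_left
      fun w hw => by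
        have hw' : s⁻¹ * w * s ∈ V := by
          simpa using (inferInstance : V.Normal).conj_mem w (hWV hw.1) s⁻¹
        have e : ⁅w, s * b * s⁻¹⁆ = s * ⁅s⁻¹ * w * s, b⁆ * s⁻¹ := by
          simp only [commutatorElement_def]; group
        rw [e]
        rcases hz2 _ (hbw _ hw') with h1 | h1
        · left; rw [h1, mul_one, mul_inv_cancel]
        · right; rw [h1]
    have h3 : W ⊓ centralizer ({b} : Set G) ⊓ centralizer ({s * b * s⁻¹} : Set G) = ⊥ := by
      rw [eq_bot_iff]
      intro w hwm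
      obtain ⟨hwm', hw2⟩ := mem_inf.1 hwm
      obtain ⟨hw, hw1⟩ := mem_inf.1 hwm'
      rw [mem_centralizer_singleton_iff] at hw1 hw2
      rw [hsb] at hw2
      have hss : w * (s * s) = s * s * w := by
        calc w * (s * s) = w * (s * s * b) * b⁻¹ := by group
          _ = s * s * b * w * b⁻¹ := by rw [hw2]
          _ = s * s * (b * w * b⁻¹) := by group
          _ = s * s * w := by rw [← hw1, mul_inv_cancel_right]
      rw [mem_bot]
      refine hWfix w hw ?_
      have hodd : (orderOf s).Coprime 2 := by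
        refine Nat.Coprime.coprime_dvd_left (Subgroup.orderOf_dvd_natCard R hsR) ?_
        rw [hRcard]; exact hRc
      obtain ⟨m, hm⟩ := exists_pow_eq_self_of_coprime hodd.symm
      rw [← hm]
      refine Commute.pow_left ?_ m
      rw [pow_two]; exact hss.symm
    rw [h3, card_bot] at h2
    omega
  have hWne : W ≠ ⊥ := by
    intro h0
    apply hs1
    exact Coprime.le_centralizer_iff_commutator_eq_bot.2 h0 (mem_zpowers s)
  have hWp : IsPGroup 2 W := hVp.to_le hWV
  have hW4 : Nat.card W = 4 := by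
    obtain ⟨j, hj⟩ := IsPGroup.iff_card.1 hWp
    rcases j with _ | _ | _ | j
    · exact absurd (card_eq_one.1 hj) hWne
    · exfalso
      have h2 : Nat.card W = 2 := hj
      obtain ⟨w, hw⟩ := exists_prime_orderOf_dvd_card' (G := W) 2 (dvd_of_eq h2.symm)
      rw [← Subgroup.orderOf_coe] at hw
      have hW2 : W = zpowers (w : G) := (eq_of_le_of_card_ge (zpowers_le.2 w.2)
        (by rw [h2, Nat.card_zpowers, hw])).symm
      have hcw : Commute s (w : G) := by
        have hm : s * w * s⁻¹ ∈ W := (mem_normalizer_iff.1 hsn _).1 w.2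
        obtain ⟨i, hi⟩ := hW2.le hm
        simp only at hi
        have hne : s * (w : G) * s⁻¹ ≠ 1 := by
          rw [Ne, conj_eq_one_iff]; intro h1; rw [h1, orderOf_one] at hw; omega
        obtain ⟨hw2, -⟩ := orderOf_eq_prime_iff.1 hw
        rcases Int.even_or_odd i with ⟨j, rfl⟩ | ⟨j, rfl⟩
        · exact absurd (by rw [← hi, ← two_mul, zpow_mul, zpow_two, ← pow_two, hw2, one_zpow]) hne
        · rw [zpow_add_one, zpow_mul, zpow_two, ← pow_two (w : G), hw2, one_zpow, one_mul] at hi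
          exact mul_inv_eq_iff_eq_mul.1 hi.symm
      exact absurd (hWfix _ w.2 hcw) fun h1 => by rw [h1, orderOf_one] at hw; omega
    · simpa using hj
    · exfalso
      have : 8 ≤ 2 ^ (j + 3) := le_trans (by norm_num) (Nat.pow_le_pow_right two_pos (show 3 ≤ j + 3 by omega))
      rw [show Nat.card W = 2 ^ (j + 3) from hj] at hWcard
      omega
  refine h (PComplement.involves_sfour W hW4 hsn hbn hWfix ?_ fun hall => ?_)
  · by_cases hall : ∀ m ∈ W, Commute b m
    · obtain ⟨m, hm, hm1⟩ := SetLike.exists_of_lt (bot_lt_iff_ne_bot.2 hWne)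
      exact ⟨m, hm, fun h0 => hm1 (h0 ▸ one_mem _), hall m hm⟩
    · push Not at hall
      obtain ⟨m, hm, hm1⟩ := hall
      have hm' : b * m * b⁻¹ ∈ W := (mem_normalizer_iff.1 hbn m).1 hm
      refine ⟨m * (b * m * b⁻¹), mul_mem hm hm', fun h0 => hm1 ?_, ?_⟩
      · have hmm : m⁻¹ = m := inv_eq_of_mul_eq_one_left (by rw [← pow_two]; exact hV.2 m (hWV hm))
        have := eq_inv_of_mul_eq_one_right h0
        rw [hmm] at this
        exact mul_inv_eq_iff_eq_mul.1 this
      · show b * (m * (b * m * b⁻¹)) = m * (b * m * b⁻¹) * b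
        rw [hVc m (hWV hm) _ (hWV hm')]
        calc b * (b * m * b⁻¹ * m) = (b * b) * m * b⁻¹ * m := by group
          _ = m * b * m := by rw [hb2, one_mul, hbinv]
          _ = b * m * b⁻¹ * m * b := by
            rw [hbinv]
            calc m * b * m = (b * b) * (m * b * m) := by rw [hb2, one_mul]
              _ = b * (b * m * b⁻¹ * m) := by rw [hbinv]; group
              _ = b * (m * (b * m * b⁻¹)) := by rw [hVc m (hWV hm) _ (hWV hm')]
              _ = b * m * b * m * b := by rw [hbinv]; group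
  · apply hr1
    have h2 : s * s = 1 := by
      have hss : s * s ∈ centralizer (V : Set G) := by
        refine mem_centralizer_iff.2 fun w hw => ?_
        obtain ⟨u, hu, m, hm, rfl⟩ := Coprime.exists_centralizer_mul_commutator hSV hcopS (Or.inr hVs) hw
        have hu' := mem_centralizer_iff.1 hu.2 s (mem_zpowers s)
        have hm1 : s * m * s⁻¹ = s⁻¹ * m * s := by
          have hsm : s * m * s⁻¹ ∈ W := (mem_normalizer_iff.1 hsn m).1 hm
          calc s * m * s⁻¹ = b * (s * m * s⁻¹) * b⁻¹ := by rw [(hall _ hsm).eq, mul_inv_cancel_right]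
            _ = (b * s * b⁻¹) * (b * m * b⁻¹) * (b * s * b⁻¹)⁻¹ := by group
            _ = s⁻¹ * m * s := by rw [hbs, (hall m hm).eq, mul_inv_cancel_right, inv_inv]
        have hm2 : s * s * m = m * (s * s) := by
          calc s * s * m = s * (s * m * s⁻¹) * s := by group
            _ = s * (s⁻¹ * m * s) * s := by rw [hm1]
            _ = m * (s * s) := by group
        have hu2 : s * s * u = u * (s * s) := by
          rw [mul_assoc, hu', ← mul_assoc, hu', mul_assoc]
        rw [mul_assoc, ← hm2, ← mul_assoc, ← hu2, mul_assoc]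
      exact mem_bot.1 (hdisj.le (mem_inf.2 ⟨mul_mem hsR hsR, hC hss⟩))
    have ho : orderOf s = 1 := Nat.eq_one_of_dvd_coprimes
      (hRcard ▸ hRc : (Nat.card R).Coprime 2) (R.orderOf_dvd_natCard hsR)
      (orderOf_dvd_of_pow_eq_one (by rw [pow_two]; exact h2))
    exact orderOf_eq_one_iff.1 ho

/-- Let G be a finite p-soluble group, P a Sylow p-subgroup of G and A a cyclic normal subgroup of P. If p is odd, or if no section of G is isomorphic to the symmetric group of degree 4, then A ≤ O_{p',p}(G). -/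
theorem result {G : Type*} [Group G] [Finite G] {p : ℕ} [Fact p.Prime] (hG : Cfsg.IsPSolvable p G) (P : Sylow p G) (A : Subgroup G) (hAP : A ≤ (P : Subgroup G)) (hAn : (P : Subgroup G) ≤ Subgroup.normalizer (A : Set G)) (hA : IsCyclic A) (h : p ≠ 2 ∨ ¬ Cfsg.Involves (Equiv.Perm (Fin 4)) G) : A ≤ Cfsg.pPrimePCore p G := by
  rw [Cfsg.pPrimePCore]
  set M := Cfsg.pPrimeCore p G with hM
  set π := QuotientGroup.mk' M with hπ
  set Q := Cfsg.pCore p (G ⧸ M) with hQ
  rw [← map_le_iff_le_comap]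
  by_contra hle
  have hAc : IsCyclic ↥(A.map π) := by
    haveI := hA
    exact isCyclic_of_surjective (π.subgroupMap A) (π.subgroupMap_surjective A)
  set P' := (P : Subgroup G).map π with hP'
  have hAP' : A.map π ≤ P' := map_mono hAP
  have hAn' : P' ≤ normalizer ((A.map π : Subgroup _) : Set _) :=
    (map_mono hAn).trans (le_normalizer_map π)
  have hQP : Q ≤ P' := by
    have := PCore.pCore_le_sylow (P.mapSurjective (QuotientGroup.mk'_surjective M))
    rwa [Sylow.coe_mapSurjective] at this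
  have hs := PCore.isPSolvable_quotient hG M
  have hc := PCore.centralizer_pCore_le hs PCore.pPrimeCore_quotient_self_eq_bot
  obtain ⟨g, hg⟩ := isCyclic_iff_exists_zpowers_eq_top.1 hAc
  have hAg : A.map π = zpowers (g : G ⧸ M) := by
    have := congrArg (Subgroup.map (A.map π).subtype) hg
    rw [MonoidHom.map_zpowers, ← MonoidHom.range_eq_map, range_subtype] at this
    exact this.symm
  have hAp : IsPGroup p ↥(A.map π) := (P.2.map π).to_le hAP'
  obtain ⟨n, hn⟩ := hAp ⟨g, g.2⟩
  have hgn : (g : G ⧸ M) ^ p ^ n ∈ Q := by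
    rw [show (g : G ⧸ M) ^ p ^ n = 1 from congrArg Subtype.val hn]; exact one_mem Q
  classical
  have hex : ∃ m, (g : G ⧸ M) ^ p ^ m ∈ Q := ⟨n, hgn⟩
  rcases hm : Nat.find hex with _ | j
  · have := Nat.find_spec hex
    rw [hm, pow_zero, pow_one] at this
    exact hle (hAg ▸ zpowers_le.2 this)
  have hjQ : (g : G ⧸ M) ^ p ^ j ∉ Q := Nat.find_min hex (by omega)
  have hj1Q : (g : G ⧸ M) ^ p ^ (j + 1) ∈ Q := hm ▸ Nat.find_spec hex
  set a := (g : G ⧸ M) ^ p ^ j with ha
  have hz : a ^ p = (g : G ⧸ M) ^ p ^ (j + 1) := by rw [ha, ← pow_mul, pow_succ]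
  have hinter : ∀ x ∈ A.map π, x ∈ Q → x ∈ zpowers (a ^ p) := by
    intro x hx hxQ
    rw [hAg] at hx
    obtain ⟨i, rfl⟩ := hx
    show (g : G ⧸ M) ^ i ∈ _
    rw [hz]
    rcases eq_or_ne i 0 with rfl | hi
    · rw [zpow_zero]; exact one_mem _
    obtain ⟨l, u, hu, hiu⟩ := Nat.exists_eq_pow_mul_and_not_dvd (Int.natAbs_ne_zero.2 hi) p
      (Fact.out : p.Prime).ne_one
    have hmem : ∀ K : Subgroup (G ⧸ M), (g : G ⧸ M) ^ i ∈ K ↔ (g : G ⧸ M) ^ i.natAbs ∈ K := fun K => by
      rcases Int.natAbs_eq i with e | e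
      · conv_lhs => rw [e, zpow_natCast]
      · conv_lhs => rw [e, zpow_neg, inv_mem_iff, zpow_natCast]
    rw [hmem]
    have hiQ := (hmem Q).1 hxQ
    rw [hiu] at hiQ ⊢
    have hl : (g : G ⧸ M) ^ p ^ l ∈ Q := by
      have hco : (orderOf ((g : G ⧸ M) ^ p ^ l)).Coprime u := by
        obtain ⟨k, hk⟩ := hAp ⟨g, g.2⟩
        have hd : orderOf (g : G ⧸ M) ∣ p ^ k := orderOf_dvd_of_pow_eq_one (congrArg Subtype.val hk)
        refine Nat.Coprime.coprime_dvd_left ((orderOf_pow_dvd _).trans hd) ?_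
        exact Nat.Coprime.pow_left k (((Fact.out : p.Prime).coprime_iff_not_dvd).2 hu)
      obtain ⟨w, hw⟩ := exists_pow_eq_self_of_coprime hco.symm
      rw [← hw]
      exact pow_mem (by rwa [← pow_mul]) w
    obtain ⟨d, hd⟩ := Nat.le.dest (show j + 1 ≤ l by
      by_contra hlt; exact Nat.find_min hex (show l < Nat.find hex by omega) hl)
    rw [← hd, pow_add p (j + 1) d, Nat.mul_assoc, pow_mul (g : G ⧸ M) (p ^ (j + 1))]
    exact pow_mem (mem_zpowers _) _
  -- pass to `(G / M) / Φ(Q)`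
  haveI : (frattini ↥Q).Characteristic := frattini_characteristic
  set Φ := (frattini ↥Q).map Q.subtype with hΦ
  haveI : Φ.Normal := ConjAct.normal_of_characteristic_of_normal
  set ρ := QuotientGroup.mk' Φ with hρ
  have hΦQ : Φ ≤ Q := map_subtype_le _
  have hQp : IsPGroup p Q := PCore.isPGroup_pCore
  have hρQ : ∀ x, ρ x ∈ Q.map ρ ↔ x ∈ Q := fun x => by
    rw [← mem_comap, comap_map_eq_self (by rw [hρ, QuotientGroup.ker_mk']; exact hΦQ)]
  haveI hWn : (Q.map ρ).Normal := (inferInstance : Q.Normal).map ρ (QuotientGroup.mk'_surjective Φ)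
  have hWe : Cfsg.IsElementaryAbelian p (Q.map ρ) := by
    refine PGroup.isElementaryAbelian_of_forall ?_ ?_
    · rintro _ ⟨v, hv, rfl⟩ _ ⟨w, hw, rfl⟩
      have hm' : ⁅(⟨v, hv⟩ : Q), ⟨w, hw⟩⁆ ∈ frattini ↥Q :=
        PGroup.commutator_le_frattini hQp
          (_root_.commutator_def (G := Q) ▸ commutator_mem_commutator (mem_top _) (mem_top _))
      rw [← commutatorElement_eq_one_iff_mul_comm, ← map_commutatorElement]
      exact (QuotientGroup.eq_one_iff _).mpr ⟨_, hm', rfl⟩
    · rintro _ ⟨v, hv, rfl⟩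
      rw [← map_pow]
      exact (QuotientGroup.eq_one_iff _).mpr ⟨_, PGroup.pow_mem_frattini hQp ⟨v, hv⟩, rfl⟩
  have hcoreW : Cfsg.pCore p ((G ⧸ M) ⧸ Φ) = Q.map ρ :=
    (PCore.map_pCore_quotient Φ (hQp.to_le hΦQ)).symm
  have hCW : centralizer ((Q.map ρ : Subgroup _) : Set _) ≤ Q.map ρ := by
    intro y hy
    obtain ⟨x, rfl⟩ := QuotientGroup.mk'_surjective Φ y
    rw [hρQ]
    haveI : (Cfsg.sectionKernel Q Φ).Normal := Normal.comap normal_centralizer _
    exact PCore.le_pCore (N := Cfsg.sectionKernel Q Φ) (Offender.isPGroup_sectionKernel hc) hy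
  have haA : a ∈ A.map π := pow_mem g.2 _
  refine false_of_transvection (PCore.isPSolvable_quotient hs Φ) hWe hcoreW hCW (a := ρ a)
    (fun hh => hjQ ((hρQ a).1 hh)) (by rw [← map_pow, hρQ, hz]; exact hj1Q) ?_
    (h.imp_right fun hS hI => hS (PComplement.involves_of_quotient (PComplement.involves_of_quotient hI)))
  rintro _ ⟨q, hq, rfl⟩
  rw [← map_commutatorElement, ← map_pow, ← MonoidHom.map_zpowers]
  refine mem_map_of_mem ρ (hinter _ ?_ ?_)
  · rw [commutatorElement_def]
    exact mul_mem ((mem_normalizer_iff.1 (hAn' (hQP hq)) a).1 haA) (inv_mem haA)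
  · rw [commutatorElement_def, mul_assoc, mul_assoc, ← mul_assoc a]
    exact mul_mem hq ((inferInstance : Q.Normal).conj_mem _ (inv_mem hq) a)


end Cfsg.Agent.S3788
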