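import Cfsg.Statements.S3789
import Cfsg.Agent.Lib.HallHigman.DerivedLength
import Cfsg.Agent.Lib.PCore.PLength

set_option autoImplicit false
set_option linter.style.haveILetI false
open Cfsg

namespace Cfsg.Agent.S3789

universe u

variable {p : ℕ} [Fact p.Prime]

theorem map_derivedSeries {G H : Type*} [Group G] [Group H] (f : G →* H) (P : Subgroup G) : ∀ n : ℕ,
    (derivedSeries ↥(P.map f) n).map (P.map f).subtype = ((derivedSeries ↥P n).map P.subtype).map f := by
  intro n
  induction n with
  | zero => rw [derivedSeries_zero, derivedSeries_zero, ← MonoidHom.range_eq_map, ← MonoidHom.range_eq_map,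
      Subgroup.range_subtype, Subgroup.range_subtype]
  | succ n ih => rw [derivedSeries_succ, derivedSeries_succ, Subgroup.map_commutator, Subgroup.map_commutator,
      Subgroup.map_commutator, ih]

theorem le_normalizer_derived {G : Type*} [Group G] (P : Subgroup G) : ∀ n : ℕ,
    P ≤ Subgroup.normalizer (((derivedSeries ↥P n).map P.subtype : Subgroup G) : Set G) := by
  intro n
  induction n with
  | zero => rw [derivedSeries_zero, ← MonoidHom.range_eq_map, Subgroup.range_subtype]; exact Subgroup.le_normalizer
  | succ n ih => rw [derivedSeries_succ, Subgroup.map_commutator]; exact HallHigman.le_normalizer_commutator ih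

/-- The last term of the derived series of a Sylow `p`-subgroup lies in `O_p` when `O_{p'} = 1`. -/
theorem derived_le_pCore {H : Type u} [Group H] [Finite H] (hp : p ≠ 2) (hs : IsPSolvable p H)
    (hbot : pPrimeCore p H = ⊥) (T : Sylow p H) {d : ℕ}
    (hd : derivedSeries ↥(T : Subgroup H) (d + 1) = ⊥) :
    (derivedSeries ↥(T : Subgroup H) d).map (T : Subgroup H).subtype ≤ pCore p H := by
  set O := pCore p H with hO
  haveI hOn : O.Normal := pCore_normal p H
  set F := (frattini O).map O.subtype with hF
  haveI : F.Normal := by rw [hF]; infer_instance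
  obtain ⟨hFO, hV, hcore, hC⟩ := HallHigman.frattini_quotient_facts hs hbot F hF
  set f := QuotientGroup.mk' F with hf
  haveI : (O.map f).Normal := hOn.map f (QuotientGroup.mk'_surjective _)
  set P := (T : Subgroup H).map f with hP
  have hPp : IsPGroup p P := T.2.map f
  have hVP : O.map f ≤ P := Subgroup.map_mono (PCore.pCore_le_sylow T)
  have hder : ∀ n, (derivedSeries ↥P n).map P.subtype =
      ((derivedSeries ↥(T : Subgroup H) n).map (T : Subgroup H).subtype).map f := map_derivedSeries f _
  suffices h : (derivedSeries ↥P d).map P.subtype ≤ O.map f by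
    rw [hder, Subgroup.map_le_iff_le_comap, hf, QuotientGroup.comap_map_mk', sup_eq_right.2 hFO] at h
    exact h
  have hab : ∀ a ∈ (derivedSeries ↥P d).map P.subtype, ∀ b ∈ (derivedSeries ↥P d).map P.subtype,
      a * b = b * a := fun a ha b hb => by
    have h := hder (d + 1)
    rw [hd, Subgroup.map_bot, Subgroup.map_bot, derivedSeries_succ, Subgroup.map_commutator,
      Subgroup.commutator_eq_bot_iff_le_centralizer] at h
    exact (Subgroup.mem_centralizer_iff.1 (h ha) b hb).symm
  cases d with
  | zero =>
    rw [derivedSeries_zero, ← MonoidHom.range_eq_map, Subgroup.range_subtype] at hab ⊢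
    exact fun x hx => hC (Subgroup.mem_centralizer_iff.2 fun v hv => hab v (hVP hv) x hx)
  | succ e =>
    rw [derivedSeries_succ, Subgroup.map_commutator] at hab ⊢
    exact HallHigman.commutator_le_of_quadratic hp (PCore.isPSolvable_quotient hs F) hV hcore hC hPp hVP
      (Subgroup.map_subtype_le _) (le_normalizer_derived P e) hab

theorem aux (hp : p ≠ 2) : ∀ (d : ℕ) {G : Type u} [Group G] [Finite G], IsPSolvable p G →
    (∀ P : Sylow p G, derivedSeries ↥(P : Subgroup G) d = ⊥) → PLengthLE p d G := by
  intro d
  induction d with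
  | zero =>
    intro G _ _ _ hd
    rw [PCore.pLengthLE_zero_iff, Nat.coprime_comm, (Fact.out : p.Prime).coprime_iff_not_dvd]
    intro hdvd
    obtain ⟨P⟩ := (inferInstance : Nonempty (Sylow p G))
    refine P.ne_bot_of_dvd_card hdvd ((Subgroup.eq_bot_iff_forall _).2 fun x hx => ?_)
    have h1 : (⟨x, hx⟩ : (P : Subgroup G)) ∈ derivedSeries ↥(P : Subgroup G) 0 := by
      rw [derivedSeries_zero]; exact Subgroup.mem_top _
    rw [hd P, Subgroup.mem_bot] at h1
    exact congrArg Subtype.val h1
  | succ d ih =>
    intro G _ _ hG hd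
    set f₁ := QuotientGroup.mk' (pPrimeCore p G)
    refine PCore.pLengthLE_of_ker_le_pPrimeCore f₁ (QuotientGroup.mk'_surjective _) (QuotientGroup.ker_mk' _).le ?_
    set H := G ⧸ pPrimeCore p G
    have hsH := PCore.isPSolvable_quotient hG (pPrimeCore p G)
    have hdH : ∀ T : Sylow p H, derivedSeries ↥(T : Subgroup H) (d + 1) = ⊥ := by
      intro T
      obtain ⟨S, rfl⟩ := Sylow.mapSurjective_surjective (QuotientGroup.mk'_surjective _) p T
      suffices h : derivedSeries ↥((S : Subgroup G).map f₁) (d + 1) = ⊥ from h
      apply Subgroup.map_injective (Subgroup.subtype_injective _)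
      rw [map_derivedSeries, hd S, Subgroup.map_bot, Subgroup.map_bot, Subgroup.map_bot]
    set f₂ := QuotientGroup.mk' (pCore p H)
    refine PCore.pLengthLE_succ_of_isPGroup_ker f₂ (QuotientGroup.mk'_surjective _)
      (QuotientGroup.ker_mk' _).le (ih (PCore.isPSolvable_quotient hsH _) fun P => ?_)
    obtain ⟨T, rfl⟩ := Sylow.mapSurjective_surjective (QuotientGroup.mk'_surjective _) p P
    suffices h : derivedSeries ↥((T : Subgroup H).map f₂) d = ⊥ from h
    apply Subgroup.map_injective (Subgroup.subtype_injective _)
    rw [map_derivedSeries, Subgroup.map_bot, Subgroup.map_eq_bot_iff]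
    exact (derived_le_pCore hp hsH PCore.pPrimeCore_quotient_self_eq_bot T (hdH T)).trans
      (QuotientGroup.ker_mk' _).ge

/-- Let p be an odd prime and G a finite p-soluble group whose Sylow p-subgroups have derived length at most d. Then G has p-length at most d. -/
theorem result {G : Type*} [Group G] [Finite G] {p : ℕ} [Fact p.Prime] (hp : p ≠ 2) (hG : Cfsg.IsPSolvable p G) (d : ℕ) (hd : ∀ P : Sylow p G, derivedSeries ↥(P : Subgroup G) d = ⊥) : Cfsg.PLengthLE p d G := by
  exact aux hp d hG hd

end Cfsg.Agent.S3789
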