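import Cfsg.Statements.S3790
import Cfsg.Agent.Lib.PCore.PLength
import Cfsg.Agent.Lib.PCore.PSolvable


set_option autoImplicit false
open Cfsg

namespace Cfsg.Agent.S3790

open Subgroup Cfsg.Agent.PCore

universe u

theorem iInf_pPrimeCore_eq_bot {G : Type u} [Group G] [Finite G] {r : ℕ} (q : Fin r → ℕ) {x : G}
    (h : ∀ i, x ∈ pPrimeCore (q i) G) : ∀ i, (orderOf x).Coprime (q i) := fun i =>
  coprime_card_pPrimeCore.coprime_dvd_left (Subgroup.orderOf_dvd_natCard _ (h i))

theorem pPrimeCore_quotient_trivial {G : Type u} [Group G] [Finite G] {p : ℕ}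
    (h : (Nat.card (G ⧸ pPrimeCore p G)).Coprime p) : Subsingleton (G ⧸ pPrimeCore p G) := by
  have h1 : pPrimeCore p (G ⧸ pPrimeCore p G) = ⊤ := pPrimeCore_eq_top_iff.2 h
  rw [pPrimeCore_quotient_self_eq_bot] at h1
  exact subsingleton_iff.1 (subsingleton_of_bot_eq_top h1)

theorem pLengthLE_prod {p r : ℕ} [Fact p.Prime] (q : Fin r → ℕ) (hq : ∀ i, (q i).Prime ∧ q i ≠ p)
    (n : ℕ) : ∀ (G : Type u) [Group G] [Finite G],
      (∀ s : ℕ, s.Prime → s ∣ Nat.card G → s ≠ p → ∃ i, q i = s) → ∀ l : Fin r → ℕ, ∑ i, l i = n →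
      (∀ i, PLengthLE (q i) (l i) G) → PLengthLE p (∏ i, (1 + l i)) G := by
  induction n using Nat.strong_induction_on with
  | h n ih =>
  intro G _ _ hcover l hln hl
  let π₁ := QuotientGroup.mk' (pPrimeCore p G)
  have hπ₁ : Function.Surjective π₁ := QuotientGroup.mk'_surjective _
  refine pLengthLE_of_ker_le_pPrimeCore π₁ hπ₁ (QuotientGroup.ker_mk' _).le ?_
  let π₂ := QuotientGroup.mk' (pCore p (G ⧸ pPrimeCore p G))
  have hπ₂ : Function.Surjective π₂ := QuotientGroup.mk'_surjective _
  have hpos : 1 ≤ ∏ i, (1 + l i) := Finset.one_le_prod' fun i _ => Nat.le_add_right 1 _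
  obtain ⟨t, ht⟩ : ∃ t, ∏ i, (1 + l i) = t + 1 := ⟨_, (Nat.sub_add_cancel hpos).symm⟩
  rw [ht]
  refine pLengthLE_succ_of_isPGroup_ker π₂ hπ₂ (QuotientGroup.ker_mk' _).le ?_
  let H := (G ⧸ pPrimeCore p G) ⧸ pCore p (G ⧸ pPrimeCore p G)
  have hψ : Function.Surjective (π₂.comp π₁) := hπ₂.comp hπ₁
  have hcardH : Nat.card H ∣ Nat.card G := Subgroup.card_dvd_of_surjective (π₂.comp π₁) hψ
  refine pLengthLE_of_subdirect (ι := Fin r) (K := fun i => H ⧸ pPrimeCore (q i) H)
    (fun i => QuotientGroup.mk' (pPrimeCore (q i) H)) (fun i => QuotientGroup.mk'_surjective _)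
    (fun x hx => ?_) (fun i => ?_)
  · -- the intersection of the `O_{q'}` is a normal `p`-subgroup
    have hI : ∀ y, y ∈ (⨅ i, pPrimeCore (q i) H) ↔ ∀ i, y ∈ pPrimeCore (q i) H := fun y =>
      Subgroup.mem_iInf
    have hp' : IsPGroup p ↥(⨅ i, pPrimeCore (q i) H) := by
      refine IsPGroup.of_card (n := (Nat.card ↥(⨅ i, pPrimeCore (q i) H)).primeFactorsList.length)
        (Nat.eq_prime_pow_of_unique_prime_dvd Nat.card_pos.ne' fun {s} hs hsd => ?_)
      by_contra hsp
      obtain ⟨i, rfl⟩ := hcover s hs ((hsd.trans (Subgroup.card_subgroup_dvd_card _)).trans hcardH) hsp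
      exact hs.coprime_iff_not_dvd.1 coprime_card_pPrimeCore.symm
        (hsd.trans (Subgroup.card_dvd_of_le (iInf_le _ i)))
    haveI : (⨅ i, pPrimeCore (q i) H).Normal := normal_iInf_normal fun i => inferInstance
    have h1 := le_pCore hp'
    rw [pCore_quotient_self_eq_bot] at h1
    exact Subgroup.mem_bot.1 (h1 ((hI x).2 fun i => (QuotientGroup.eq_one_iff x).1 (hx i)))
  · have := Fact.mk (hq i).1
    rcases Nat.eq_zero_or_pos (l i) with hli | hli
    · have h0 := pLengthLE_of_surjective (π₂.comp π₁) hψ (hl i)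
      rw [hli, pLengthLE_zero_iff] at h0
      have := pPrimeCore_quotient_trivial (h0.coprime_dvd_left (card_quotient_dvd_card (pPrimeCore (q i) H)))
      exact Subsingleton.elim _ _
    obtain ⟨l', hl'⟩ : ∃ l', l i = l' + 1 := ⟨l i - 1, by omega⟩
    let π₃ := QuotientGroup.mk' (pPrimeCore (q i) H)
    let π₄ := QuotientGroup.mk' (pCore (q i) (H ⧸ pPrimeCore (q i) H))
    have hπ₄ : Function.Surjective π₄ := QuotientGroup.mk'_surjective _
    let φ := π₄.comp (π₃.comp (π₂.comp π₁))
    have hφ : Function.Surjective φ := hπ₄.comp ((QuotientGroup.mk'_surjective _).comp hψ)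
    let m : Fin r → ℕ := Function.update l i l'
    have hm : ∑ j, m j < n := by
      rw [← hln]
      refine Finset.sum_lt_sum (fun j _ => ?_) ⟨i, Finset.mem_univ i, by simp [m]; omega⟩
      rcases eq_or_ne j i with rfl | hj <;> simp [m, *]
    have hIH := ih _ hm _ (fun s hs hsd => hcover s hs (hsd.trans (Subgroup.card_dvd_of_surjective φ hφ))) m rfl
      (fun j => by
        have := Fact.mk (hq j).1
        rcases eq_or_ne j i with rfl | hj
        · simp only [m, Function.update_self]
          exact pLengthLE_of_pCore π₄ hπ₄ (by rw [QuotientGroup.ker_mk'])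
            pPrimeCore_quotient_self_eq_bot
            (hl' ▸ pLengthLE_of_surjective (π₃.comp (π₂.comp π₁))
              ((QuotientGroup.mk'_surjective _).comp hψ) (hl j))
        · simp only [m, Function.update_of_ne hj]
          exact pLengthLE_of_surjective φ hφ (hl j))
    refine pLengthLE_mono ?_ (pLengthLE_of_ker_le_pPrimeCore π₄ hπ₄
      ((QuotientGroup.ker_mk' _).le.trans (pCore_le_pPrimeCore (hq i).2)) hIH)
    have h1 := Finset.mul_prod_erase Finset.univ (fun j => 1 + l j) (Finset.mem_univ i)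
    have h2 := Finset.mul_prod_erase Finset.univ (fun j => 1 + m j) (Finset.mem_univ i)
    rw [Finset.prod_congr rfl (fun j hj => by
      rw [show m j = l j from Function.update_of_ne (Finset.ne_of_mem_erase hj) ..] :
      ∀ j ∈ Finset.univ.erase i, (1 + m j) = (1 + l j))] at h2
    simp only [show m i = l' from Function.update_self ..] at h2
    simp only [hl', ht] at h1
    rw [← h2]
    have h3 : 1 ≤ ∏ j ∈ Finset.univ.erase i, (1 + l j) :=
      Finset.one_le_prod' fun j _ => Nat.le_add_right 1 _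
    nlinarith


/-- Let G be a finite solvable group and p a prime. Suppose p₁, …, p_r are distinct primes, all different from p, that include every prime dividing the order of G other than p, and that G has p_i-length at most l_i for each i. Then G has p-length at most the product of the numbers 1 + l_i. -/
theorem result {G : Type*} [Group G] [Finite G] (hG : Group.IsSolvable G) (p : ℕ) [Fact p.Prime] (r : ℕ) (q : Fin r → ℕ) (hq : ∀ i, (q i).Prime ∧ q i ≠ p) (hinj : Function.Injective q) (hcover : ∀ s : ℕ, s.Prime → s ∣ Nat.card G → s ≠ p → ∃ i, q i = s) (l : Fin r → ℕ) (hl : ∀ i, Cfsg.PLengthLE (q i) (l i) G) : Cfsg.PLengthLE p (Finset.univ.prod fun i => 1 + l i) G := by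
  exact pLengthLE_prod q hq _ G hcover l rfl hl


end Cfsg.Agent.S3790
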