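import Cfsg.Statements.S3791
import Cfsg.Agent.Lib.PCore.PLength
import Mathlib.GroupTheory.Solvable


set_option autoImplicit false
open Cfsg

namespace Cfsg.Agent.S3791

open Subgroup Cfsg.Agent.PCore

universe u

theorem iInf_pPrimeCore_eq_bot {G : Type u} [Group G] [Finite G] {r : ℕ} (q : Fin r → ℕ) {x : G}
    (h : ∀ i, x ∈ pPrimeCore (q i) G) : ∀ i, (orderOf x).Coprime (q i) := fun i =>
  coprime_card_pPrimeCore.coprime_dvd_left (Subgroup.orderOf_dvd_natCard _ (h i))

theorem pPrimeCore_quotient_trivial {G : Type u} [Group G] [Finite G] {p : ℕ}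
    (h : (Nat.card (G ⧸ pPrimeCore p G)).Coprime p) : Subsingleton (G ⧸ pPrimeCore p G) := by
  have h1 : pPrimeCore p (G ⧸ pPrimeCore p G) = ⊤ := pPrimeCore_eq_top_iff.2 h
  rw [pPrimeCore_quotient_self_eq_bot] at h1
  exact subsingleton_iff.1 (subsingleton_of_bot_eq_top h1)

theorem derivedSeries_add_le {G : Type u} [Group G] {S : Subgroup G} {a : ℕ}
    (h : derivedSeries G a ≤ S) (j : ℕ) :
    derivedSeries G (a + j) ≤ (derivedSeries ↥S j).map S.subtype := by
  induction j with
  | zero => rw [derivedSeries_zero, ← MonoidHom.range_eq_map, range_subtype]; exact h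
  | succ j ih =>
    rw [← Nat.add_assoc, derivedSeries_succ, derivedSeries_succ, map_commutator]
    exact commutator_mono ih ih

theorem derivedSeries_eq_bot_of_le {G : Type u} [Group G] {X P : Subgroup G} (h : X ≤ P) {d : ℕ}
    (hP : derivedSeries ↥P d = ⊥) : derivedSeries ↥X d = ⊥ := by
  have h1 := map_derivedSeries_le_derivedSeries (inclusion h) d
  rw [hP, le_bot_iff, map_eq_bot_iff_of_injective _ (inclusion_injective h)] at h1
  exact h1

theorem derivedSeries_sum_eq_bot {r : ℕ} (q : Fin r → ℕ) (hq : ∀ i, (q i).Prime) (d : Fin r → ℕ)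
    (n : ℕ) : ∀ (G : Type u) [Group G] [Finite G],
      (∀ s : ℕ, s.Prime → s ∣ Nat.card G → ∃ i, q i = s) → ∀ l : Fin r → ℕ, ∑ i, l i = n →
      (∀ i, ∀ P : Subgroup G, IsPGroup (q i) P → derivedSeries ↥P (d i) = ⊥) →
      (∀ i, PLengthLE (q i) (l i) G) → derivedSeries G (∑ i, d i * l i) = ⊥ := by
  induction n using Nat.strong_induction_on with
  | h n ih =>
  intro G _ _ hcover l hln hd hl
  -- it suffices to work modulo each `O_{q'}`
  suffices hle : ∀ i, derivedSeries G (∑ i, d i * l i) ≤ pPrimeCore (q i) G by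
    refine (eq_bot_iff_forall _).2 fun x hx => ?_
    have hcop := iInf_pPrimeCore_eq_bot q (fun i => hle i hx)
    by_contra hx1
    obtain ⟨s, hs, hsd⟩ := Nat.exists_prime_and_dvd (fun h => hx1 (orderOf_eq_one_iff.1 h))
    obtain ⟨i, rfl⟩ := hcover s hs (hsd.trans (orderOf_dvd_natCard x))
    exact hs.coprime_iff_not_dvd.1 (hcop i).symm hsd
  intro i
  have := Fact.mk (hq i)
  let π := QuotientGroup.mk' (pPrimeCore (q i) G)
  have hπ : Function.Surjective π := QuotientGroup.mk'_surjective _
  suffices hK : derivedSeries (G ⧸ pPrimeCore (q i) G) (∑ i, d i * l i) = ⊥ by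
    have h1 := map_derivedSeries_le_derivedSeries π (∑ i, d i * l i)
    rwa [hK, le_bot_iff, Subgroup.map_eq_bot_iff, QuotientGroup.ker_mk'] at h1
  rcases Nat.eq_zero_or_pos (l i) with hli | hli
  · have h0 := hl i
    rw [hli, pLengthLE_zero_iff] at h0
    have := pPrimeCore_quotient_trivial (h0.coprime_dvd_left (card_quotient_dvd_card (pPrimeCore (q i) G)))
    exact Subsingleton.elim _ _
  obtain ⟨l', hl'⟩ : ∃ l', l i = l' + 1 := ⟨l i - 1, by omega⟩
  let ρ := QuotientGroup.mk' (pCore (q i) (G ⧸ pPrimeCore (q i) G))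
  let φ := ρ.comp π
  have hφ : Function.Surjective φ := (QuotientGroup.mk'_surjective _).comp hπ
  let m : Fin r → ℕ := Function.update l i l'
  have hm : ∑ j, m j < n := by
    rw [← hln]
    refine Finset.sum_lt_sum (fun j _ => ?_) ⟨i, Finset.mem_univ i, by simp [m]; omega⟩
    rcases eq_or_ne j i with rfl | hj <;> simp [m, *]
  have hIH := ih _ hm _ (fun s hs hsd => hcover s hs (hsd.trans (Subgroup.card_dvd_of_surjective φ hφ))) m rfl
    (fun j P hP => by
      have := Fact.mk (hq j)
      obtain ⟨S, hPS⟩ := hP.exists_le_sylow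
      obtain ⟨T, rfl⟩ := Sylow.mapSurjective_surjective hφ (q j) S
      refine derivedSeries_eq_bot_of_le hPS ?_
      rw [Sylow.coe_mapSurjective, eq_bot_iff, ← map_derivedSeries_eq (φ.subgroupMap_surjective (T : Subgroup G)),
        hd j _ T.isPGroup', Subgroup.map_bot])
    (fun j => by
      have := Fact.mk (hq j)
      rcases eq_or_ne j i with rfl | hj
      · simp only [m, Function.update_self]
        exact pLengthLE_of_pCore ρ (QuotientGroup.mk'_surjective _) (by rw [QuotientGroup.ker_mk'])
          pPrimeCore_quotient_self_eq_bot (hl' ▸ pLengthLE_of_surjective π hπ (hl j))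
      · simp only [m, Function.update_of_ne hj]
        exact pLengthLE_of_surjective φ hφ (hl j))
  have hsum : ∑ j, d j * l j = (∑ j, d j * m j) + d i := by
    rw [← Finset.add_sum_erase _ _ (Finset.mem_univ i),
      ← Finset.add_sum_erase Finset.univ (fun j => d j * m j) (Finset.mem_univ i),
      show m i = l' from Function.update_self .., hl', Nat.mul_succ,
      Finset.sum_congr rfl (fun j hj => by
        rw [show m j = l j from Function.update_of_ne (Finset.ne_of_mem_erase hj) ..] :
        ∀ j ∈ Finset.univ.erase i, d j * m j = d j * l j)]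
    omega
  have hle : derivedSeries (G ⧸ pPrimeCore (q i) G) (∑ j, d j * m j) ≤
      pCore (q i) (G ⧸ pPrimeCore (q i) G) := by
    have h1 := map_derivedSeries_le_derivedSeries ρ (∑ j, d j * m j)
    rwa [hIH, le_bot_iff, Subgroup.map_eq_bot_iff, QuotientGroup.ker_mk'] at h1
  obtain ⟨S, hS⟩ := (isPGroup_pCore (G := G ⧸ pPrimeCore (q i) G) (p := q i)).exists_le_sylow
  obtain ⟨T, rfl⟩ := Sylow.mapSurjective_surjective hπ (q i) S
  have hpc : derivedSeries ↥(pCore (q i) (G ⧸ pPrimeCore (q i) G)) (d i) = ⊥ := by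
    refine derivedSeries_eq_bot_of_le hS ?_
    rw [Sylow.coe_mapSurjective, eq_bot_iff, ← map_derivedSeries_eq (π.subgroupMap_surjective (T : Subgroup G)),
      hd i _ T.isPGroup', Subgroup.map_bot]
  rw [hsum, eq_bot_iff]
  refine (derivedSeries_add_le hle (d i)).trans ?_
  rw [hpc, Subgroup.map_bot]


/-- The Hall–Higman bound on derived length: let G be a finite solvable group, let p₁, …, p_r be distinct primes that include every prime dividing the order of G, and suppose that for each i the Sylow p_i-subgroups of G have derived length at most d_i and G has p_i-length at most l_i. Then G has derived length at most Σ d_i l_i. -/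
theorem result {G : Type*} [Group G] [Finite G] (hG : Group.IsSolvable G) (r : ℕ) (q : Fin r → ℕ) (hq : ∀ i, (q i).Prime) (hinj : Function.Injective q) (hcover : ∀ s : ℕ, s.Prime → s ∣ Nat.card G → ∃ i, q i = s) (d l : Fin r → ℕ) (hd : ∀ i, ∀ P : Subgroup G, (haveI := Fact.mk (hq i); ∃ S : Sylow (q i) G, (S : Subgroup G) = P) → derivedSeries ↥P (d i) = ⊥) (hl : ∀ i, Cfsg.PLengthLE (q i) (l i) G) : derivedSeries G (Finset.univ.sum fun i => d i * l i) = ⊥ := by
  refine derivedSeries_sum_eq_bot q hq d _ G hcover l rfl (fun i P hP => ?_) hl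
  have := Fact.mk (hq i)
  obtain ⟨S, hS⟩ := hP.exists_le_sylow
  exact derivedSeries_eq_bot_of_le hS (hd i _ ⟨S, rfl⟩)


end Cfsg.Agent.S3791
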