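import Cfsg.Statements.S3793
import Cfsg.Agent.Lib.FittingHeight.CyclicReduction


set_option autoImplicit false
open Cfsg

namespace Cfsg.Agent.S3793

universe u

open Cfsg Cfsg.Agent

theorem fittingChain {p : ℕ} (hp : p.Prime) (hp2 : p ≠ 2) : ∀ (n : ℕ) (G : Type u) [Group G] [Finite G],
    Group.IsSolvable G → ∀ σ : MulAut G, σ ^ p ^ n = 1 → (∀ g : G, σ g = g → g = 1) →
    ∃ F : Fin (n + 1) → Subgroup G, F 0 = ⊥ ∧ F (Fin.last n) = ⊤ ∧ Monotone F ∧ (∀ i, (F i).Normal) ∧
      ∀ i : Fin n, ∃ k : ℕ, (F i.succ).lowerCentralSeries k ≤ F i.castSucc := by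
  classical
  intro n
  induction n with
  | zero =>
    intro G _ _ _ σ hσ hfpf
    have hσ1 : σ = 1 := by simpa using hσ
    refine ⟨fun _ => ⊥, rfl, ?_, fun _ _ _ => le_rfl, fun _ => inferInstance, fun i => i.elim0⟩
    refine (eq_top_iff.2 fun g _ => ?_)
    rw [Subgroup.mem_bot]
    exact hfpf g (by rw [hσ1, MulAut.one_apply])
  | succ n ih =>
    intro G _ _ hG σ hσ hfpf
    have hpF := Fact.mk hp
    by_cases hsmall : σ ^ p ^ n = 1
    · obtain ⟨F, h0, h1, hmono, hnorm, hnil⟩ := ih G hG σ hsmall hfpf
      refine ⟨Fin.snoc (α := fun _ => Subgroup G) F ⊤, ?_, by simp, ?_, ?_, ?_⟩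
      · rw [show (0 : Fin (n + 1 + 1)) = Fin.castSucc 0 from rfl, Fin.snoc_castSucc, h0]
      · refine Fin.monotone_iff_le_succ.2 fun i => ?_
        cases i using Fin.lastCases with
        | last => rw [Fin.succ_last, Fin.snoc_last]; exact le_top
        | cast i =>
          rw [← Fin.castSucc_succ, Fin.snoc_castSucc, Fin.snoc_castSucc]
          exact hmono (Fin.castSucc_lt_succ).le
      · intro i
        cases i using Fin.lastCases with
        | last => rw [Fin.snoc_last]; infer_instance
        | cast i => rw [Fin.snoc_castSucc]; exact hnorm i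
      · intro i
        cases i using Fin.lastCases with
        | last =>
          refine ⟨0, ?_⟩
          rw [Fin.succ_last, Fin.snoc_last, Fin.snoc_castSucc, h1]
          exact le_top
        | cast i =>
          rw [← Fin.castSucc_succ, Fin.snoc_castSucc, Fin.snoc_castSucc]
          exact hnil i
    · let A := Subgroup.zpowers σ
      haveI : IsMulCommutative A := inferInstance
      let _ : CommGroup A := { (inferInstance : Group A) with mul_comm := fun a b => mul_comm' a b }
      let _ : Fintype A := Fintype.ofFinite A
      have hord : orderOf σ = p ^ (n + 1) := orderOf_eq_prime_pow hsmall hσ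
      have hcard : Nat.card A = p ^ (n + 1) := (Nat.card_zpowers σ).trans hord
      let s : A := ⟨σ, Subgroup.mem_zpowers σ⟩
      have hgen : ∀ a, a ∈ Subgroup.zpowers s := fun a => by
        obtain ⟨i, hi⟩ := a.2
        exact ⟨i, Subtype.ext hi⟩
      have hfix : Coprime.fixedBy A.subtype = ⊥ := by
        rw [Subgroup.eq_bot_iff_forall]
        exact fun x hx => hfpf x (hx s)
      have hcop : (Nat.card A).Coprime (Nat.card G) := by
        rw [hcard]
        refine Nat.Coprime.pow_left _ (hp.coprime_iff_not_dvd.2 fun hd => ?_)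
        have hfixed : MulAction.fixedPoints A G = {1} := by
          ext x
          exact ⟨fun hx => hfpf x (hx s), fun hx a => by
            rw [Set.mem_singleton_iff.1 hx]; exact map_one (a : MulAut G)⟩
        have h := (IsPGroup.of_card hcard).card_modEq_card_fixedPoints G
        rw [hfixed, show Nat.card ({1} : Set G) = 1 by simp] at h
        have := (h.symm.trans (Nat.modEq_zero_iff_dvd.2 hd))
        exact hp.not_dvd_one (Nat.modEq_zero_iff_dvd.1 this)
      haveI := hG
      set Fi := fittingSubgroup G with hFi
      haveI hFn : Fi.Normal := Components.fittingSubgroup_normal G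
      haveI hFc : Fi.Characteristic := Components.fittingSubgroup_characteristic G
      have hFinv : ∀ a, ∀ x ∈ Fi, A.subtype a x ∈ Fi := fun a x hx =>
        FittingHeight.apply_mem_of_characteristic A.subtype a hx
      let ψ := FittingHeight.quotAct A.subtype Fi hFinv
      have hψ : ψ s ^ p ^ n = 1 := by
        rw [← map_pow]
        refine MulEquiv.ext fun x => ?_
        induction x using QuotientGroup.induction_on with | H g => ?_
        rw [FittingHeight.quotAct_mk, MulAut.one_apply]
        exact (QuotientGroup.eq.2 (FittingHeight.commLe_of_cyclic (e := n + 1) hp hp2 (Nat.succ_ne_zero n) hcard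
          hgen A.subtype hcop hfix g)).symm
      have hψfix : ∀ x : G ⧸ Fi, ψ s x = x → x = 1 := by
        intro x hx
        have hb := FittingHeight.fixedBy_quotAct A.subtype Fi hFinv hcop
          (Group.isSolvable_of_comm fun a b => mul_comm a b) hfix
        have hmem : x ∈ Coprime.fixedBy ψ := fun a => by
          obtain ⟨i, rfl⟩ := hgen a
          have hs : ψ s ∈ MulAction.stabilizer (MulAut (G ⧸ Fi)) x := hx
          have := zpow_mem hs i
          rw [← map_zpow] at this
          exact this
        rw [hb] at hmem
        exact Subgroup.mem_bot.1 hmem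
      obtain ⟨F, h0, h1, hmono, hnorm, hnil⟩ := ih (G ⧸ Fi) inferInstance (ψ s) hψ hψfix
      let q := QuotientGroup.mk' Fi
      refine ⟨Fin.cons (α := fun _ => Subgroup G) ⊥ fun i => (F i).comap q, by simp, ?_, ?_, ?_, ?_⟩
      · rw [← Fin.succ_last, Fin.cons_succ, h1, Subgroup.comap_top]
      · refine Fin.monotone_iff_le_succ.2 fun i => ?_
        cases i using Fin.cases with
        | zero => rw [Fin.castSucc_zero, Fin.cons_zero]; exact bot_le
        | succ i =>
          rw [← Fin.succ_castSucc, Fin.cons_succ, Fin.cons_succ]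
          exact Subgroup.comap_mono (hmono (Fin.castSucc_lt_succ).le)
      · intro i
        cases i using Fin.cases with
        | zero => rw [Fin.cons_zero]; infer_instance
        | succ i => rw [Fin.cons_succ]; exact (hnorm i).comap q
      · intro i
        cases i using Fin.cases with
        | zero =>
          obtain ⟨m, hm⟩ := Subgroup.nilpotent_iff_lowerCentralSeries.1
            (Components.fittingSubgroup_isNilpotent G)
          refine ⟨m, ?_⟩
          rw [Fin.castSucc_zero, Fin.cons_zero, Fin.cons_succ, h0, MonoidHom.comap_bot,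
            QuotientGroup.ker_mk']
          refine le_of_eq ?_
          rw [← Subgroup.top_subtype_lowerCentralSeries, hm, Subgroup.map_bot]
        | succ i =>
          obtain ⟨k, hk⟩ := hnil i
          refine ⟨k, ?_⟩
          rw [← Fin.succ_castSucc, Fin.cons_succ, Fin.cons_succ, ← Subgroup.map_le_iff_le_comap,
            Subgroup.map_lowerCentralSeries,
            Subgroup.map_comap_eq_self_of_surjective (QuotientGroup.mk'_surjective Fi)]
          exact hk


/-- The Shult–Gross Theorem: let p be an odd prime and G a finite solvable group with an automorphism σ of order p^n fixing only the identity. Then G has Fitting height at most n: G has Fitting height at most m when there is a chain of normal subgroups 1 = F₀ ≤ F₁ ≤ ⋯ ≤ F_m = G with each F_{i+1}/F_i nilpotent. -/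
theorem result {G : Type*} [Group G] [Finite G] (hG : Group.IsSolvable G) {p : ℕ} (hp : p.Prime) (hp2 : p ≠ 2) (σ : MulAut G) (n : ℕ) (hσ : orderOf σ = p ^ n) (hfpf : ∀ g : G, σ g = g → g = 1) : ∃ F : Fin (n + 1) → Subgroup G, F 0 = ⊥ ∧ F (Fin.last n) = ⊤ ∧ Monotone F ∧ (∀ i, (F i).Normal) ∧ ∀ i : Fin n, ∃ k : ℕ, (F i.succ).lowerCentralSeries k ≤ F i.castSucc := by
  exact fittingChain hp hp2 n G hG σ (by rw [← hσ]; exact pow_orderOf_eq_one σ) hfpf


end Cfsg.Agent.S3793
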