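import Cfsg.Statements.S3794
import Cfsg.Agent.Lib.FittingHeight.OrderFour

set_option autoImplicit false
open Cfsg

namespace Cfsg.Agent.S3794

/-- Let G be a finite solvable group with an automorphism σ satisfying σ⁴ = 1 and fixing only the identity. Then the derived subgroup G' is nilpotent. -/
theorem result {G : Type*} [Group G] [Finite G] (hG : Group.IsSolvable G) (σ : MulAut G) (hσ : σ ^ 4 = 1) (hfpf : ∀ g : G, σ g = g → g = 1) : Group.IsNilpotent (commutator G) := by
  classical
  set A := Subgroup.zpowers σ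
  let _ : Fintype A := Fintype.ofFinite A
  let s : A := ⟨σ, Subgroup.mem_zpowers σ⟩
  have hs : s ^ 4 = 1 := Subtype.ext hσ
  have hgen : ∀ a, a ∈ Subgroup.zpowers s := fun a => by
    obtain ⟨i, hi⟩ := a.2
    exact ⟨i, Subtype.ext hi⟩
  have h2 : IsPGroup 2 A := fun a => ⟨2, by
    obtain ⟨i, rfl⟩ := hgen a
    show (s ^ i) ^ 4 = 1
    rw [← zpow_natCast, ← zpow_mul, mul_comm, zpow_mul, zpow_natCast, hs, one_zpow]⟩
  have hfix : Coprime.fixedBy A.subtype = ⊥ := by
    rw [Subgroup.eq_bot_iff_forall]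
    exact fun x hx => hfpf x (hx s)
  have hfixed : MulAction.fixedPoints A G = {1} := by
    ext x
    exact ⟨fun hx => hfpf x (hx s), fun hx a => by rw [Set.mem_singleton_iff.1 hx]; exact map_one (a : MulAut G)⟩
  have hmod : Nat.card G ≡ 1 [MOD 2] := by
    have := h2.card_modEq_card_fixedPoints G
    rwa [hfixed, show Nat.card ({1} : Set G) = 1 by simp] at this
  have hcop : (Nat.card A).Coprime (Nat.card G) := by
    obtain ⟨n, hn⟩ := IsPGroup.iff_card.1 h2
    rw [hn]
    exact (Nat.coprime_two_left.2 (Nat.odd_iff.2 hmod)).pow_left n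
  obtain ⟨n, rfl, hn⟩ := FittingHeight.hasHeight_of_core (c := fun n => n = 1)
    (Group.isSolvable_of_comm (G := A) fun a b => by
      obtain ⟨i, rfl⟩ := hgen a
      obtain ⟨j, rfl⟩ := hgen b
      exact zpow_mul_comm s i j) ⟨1, rfl⟩
    (fun a b ha hb => by subst ha hb; rfl) (FittingHeight.coreProp_orderFour s hs hgen) A.subtype hcop hfix
  have := Components.fittingSubgroup_isNilpotent G
  exact Group.nilpotent_of_mulEquiv (Subgroup.subgroupOfEquivOfLe hn)

end Cfsg.Agent.S3794
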