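import Cfsg.Statements.S3795
import Cfsg.Agent.S3794
import Cfsg.Agent.Lib.FittingHeight.TwoPowerReduction

set_option autoImplicit false
open Cfsg

namespace Cfsg.Agent.S3795

universe u

open Cfsg Cfsg.Agent

/-- A normal series of length `L` with nilpotent factors. -/
def HasChain (G : Type u) [Group G] (L : ℕ) : Prop :=
  ∃ F : Fin (L + 1) → Subgroup G, F 0 = ⊥ ∧ F (Fin.last L) = ⊤ ∧ Monotone F ∧ (∀ i, (F i).Normal) ∧
    ∀ i : Fin L, ∃ k : ℕ, (F i.succ).lowerCentralSeries k ≤ F i.castSucc

theorem hasChain_two {G : Type u} [Group G] (h : Group.IsNilpotent (commutator G)) : HasChain G 2 := by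
  refine ⟨![⊥, commutator G, ⊤], rfl, rfl, ?_, ?_, ?_⟩
  · refine Fin.monotone_iff_le_succ.2 fun i => ?_
    fin_cases i <;> simp
  · intro i
    fin_cases i <;> simp <;> infer_instance
  · intro i
    fin_cases i
    · obtain ⟨k, hk⟩ := Subgroup.nilpotent_iff_lowerCentralSeries.1 h
      refine ⟨k, ?_⟩
      show (commutator G).lowerCentralSeries k ≤ ⊥
      rw [← Subgroup.top_subtype_lowerCentralSeries, hk, Subgroup.map_bot]
    · exact ⟨1, le_of_eq (by simp [Subgroup.lowerCentralSeries_succ, commutator_def])⟩

theorem HasChain.prepend {G : Type u} [Group G] {M N : Subgroup G} [M.Normal] [N.Normal]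
    (hMN : M ≤ N) (hM : Group.IsNilpotent M) (hN : ∃ k, N.lowerCentralSeries k ≤ M) {L : ℕ}
    (h : HasChain (G ⧸ N) L) : HasChain G (L + 2) := by
  obtain ⟨F, h0, h1, hmono, hnorm, hnil⟩ := h
  let q := QuotientGroup.mk' N
  refine ⟨Fin.cons (α := fun _ => Subgroup G) ⊥ (Fin.cons (α := fun _ => Subgroup G) M
    fun i => (F i).comap q), by simp, ?_, ?_, ?_, ?_⟩
  · rw [← Fin.succ_last, Fin.cons_succ, ← Fin.succ_last, Fin.cons_succ, h1, Subgroup.comap_top]
  · refine Fin.monotone_iff_le_succ.2 fun i => ?_
    cases i using Fin.cases with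
    | zero => rw [Fin.castSucc_zero, Fin.cons_zero]; exact bot_le
    | succ i =>
      rw [← Fin.succ_castSucc, Fin.cons_succ, Fin.cons_succ]
      cases i using Fin.cases with
      | zero =>
        rw [Fin.castSucc_zero, Fin.cons_zero, Fin.cons_succ, h0, MonoidHom.comap_bot,
          QuotientGroup.ker_mk']
        exact hMN
      | succ i =>
        rw [← Fin.succ_castSucc, Fin.cons_succ, Fin.cons_succ]
        exact Subgroup.comap_mono (hmono (Fin.castSucc_lt_succ).le)
  · intro i
    cases i using Fin.cases with
    | zero => rw [Fin.cons_zero]; infer_instance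
    | succ i =>
      rw [Fin.cons_succ]
      cases i using Fin.cases with
      | zero => rw [Fin.cons_zero]; infer_instance
      | succ i => rw [Fin.cons_succ]; exact (hnorm i).comap q
  · intro i
    cases i using Fin.cases with
    | zero =>
      obtain ⟨m, hm⟩ := Subgroup.nilpotent_iff_lowerCentralSeries.1 hM
      refine ⟨m, le_of_eq ?_⟩
      rw [Fin.castSucc_zero, Fin.cons_zero, Fin.cons_succ, Fin.cons_zero,
        ← Subgroup.top_subtype_lowerCentralSeries, hm, Subgroup.map_bot]
    | succ i =>
      cases i using Fin.cases with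
      | zero =>
        obtain ⟨k, hk⟩ := hN
        refine ⟨k, ?_⟩
        rw [← Fin.succ_castSucc, Fin.castSucc_zero]
        simp only [Fin.cons_succ, Fin.cons_zero, h0, MonoidHom.comap_bot, q, QuotientGroup.ker_mk']
        exact hk
      | succ i =>
        obtain ⟨k, hk⟩ := hnil i
        refine ⟨k, ?_⟩
        rw [← Fin.succ_castSucc, Fin.cons_succ, Fin.cons_succ, ← Fin.succ_castSucc, Fin.cons_succ,
          Fin.cons_succ, ← Subgroup.map_le_iff_le_comap, Subgroup.map_lowerCentralSeries,
          Subgroup.map_comap_eq_self_of_surjective (QuotientGroup.mk'_surjective N)]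
        exact hk

theorem fittingChain : ∀ (m : ℕ) (G : Type u) [Group G] [Finite G], Group.IsSolvable G →
    ∀ σ : MulAut G, σ ^ 2 ^ (m + 2) = 1 → (∀ g : G, σ g = g → g = 1) → HasChain G (2 * m + 2) := by
  classical
  intro m
  induction m with
  | zero =>
    intro G _ _ hG σ hσ hfpf
    exact hasChain_two (S3794.result hG σ (by simpa using hσ) hfpf)
  | succ m ih =>
    intro G _ _ hG σ hσ hfpf
    haveI := hG
    let A := Subgroup.zpowers σ
    haveI : IsMulCommutative A := inferInstance
    let _ : CommGroup A := { (inferInstance : Group A) with mul_comm := fun a b => mul_comm' a b }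
    let _ : Fintype A := Fintype.ofFinite A
    have h2 : Nat.Prime 2 := Nat.prime_two
    haveI := Fact.mk h2
    obtain ⟨e, -, hord⟩ := (Nat.dvd_prime_pow h2).1 (orderOf_dvd_of_pow_eq_one hσ)
    have hcard : Nat.card A = 2 ^ e := (Nat.card_zpowers σ).trans hord
    let s : A := ⟨σ, Subgroup.mem_zpowers σ⟩
    have hgen : ∀ a, a ∈ Subgroup.zpowers s := fun a => by
      obtain ⟨i, hi⟩ := a.2
      exact ⟨i, Subtype.ext hi⟩
    have hfix : Coprime.fixedBy A.subtype = ⊥ := by
      rw [Subgroup.eq_bot_iff_forall]
      exact fun x hx => hfpf x (hx s)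
    have hcop : (Nat.card A).Coprime (Nat.card G) := by
      rw [hcard]
      refine Nat.Coprime.pow_left _ (h2.coprime_iff_not_dvd.2 fun hd => ?_)
      have hfixed : MulAction.fixedPoints A G = {1} := by
        ext x
        exact ⟨fun hx => hfpf x (hx s), fun hx a => by
          rw [Set.mem_singleton_iff.1 hx]; exact map_one (a : MulAut G)⟩
      have h := (IsPGroup.of_card hcard).card_modEq_card_fixedPoints G
      rw [hfixed, show Nat.card ({1} : Set G) = 1 by simp] at h
      have := (h.symm.trans (Nat.modEq_zero_iff_dvd.2 hd))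
      exact h2.not_dvd_one (Nat.modEq_zero_iff_dvd.1 this)
    set N := FittingHeight.fitTwo G with hN
    have hNinv : ∀ a, ∀ x ∈ N, A.subtype a x ∈ N := by
      intro a x hx
      have : Subgroup.map (A.subtype a : G →* G) N ≤ N := by
        haveI : (Subgroup.map (A.subtype a : G →* G) N).Normal :=
          Subgroup.Normal.map inferInstance _ (A.subtype a).surjective
        obtain ⟨k, hk⟩ := FittingHeight.exists_lowerCentralSeries_le (G := G)
        refine FittingHeight.le_fitTwo (k := k) ?_
        rw [hN, ← Subgroup.map_lowerCentralSeries]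
        refine le_trans (Subgroup.map_mono hk) ?_
        rintro _ ⟨y, hy, rfl⟩
        haveI := Components.fittingSubgroup_characteristic G
        exact FittingHeight.apply_mem_of_characteristic A.subtype a hy
      exact this (Subgroup.mem_map_of_mem _ hx)
    let ψ := FittingHeight.quotAct A.subtype N hNinv
    have hψ : ψ s ^ 2 ^ (m + 2) = 1 := by
      rw [← map_pow]
      refine MulEquiv.ext fun x => ?_
      induction x using QuotientGroup.induction_on with | H g => ?_
      rw [FittingHeight.quotAct_mk, MulAut.one_apply]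
      refine (QuotientGroup.eq.2 ?_).symm
      by_cases he : e ≤ m + 2
      · have : s ^ 2 ^ (m + 2) = 1 := orderOf_dvd_iff_pow_eq_one.1 (by
          rw [orderOf_eq_card_of_forall_mem_zpowers hgen, hcard]; exact pow_dvd_pow 2 he)
        rw [this, map_one, MulAut.one_apply, inv_mul_cancel]
        exact one_mem N
      · have he' : e = m + 3 := by
          have := (Nat.pow_dvd_pow_iff_le_right (by norm_num : 1 < 2)).1
            (hord ▸ orderOf_dvd_of_pow_eq_one hσ)
          omega
        subst he'
        exact FittingHeight.mem_fitTwo_of_twoPower (e := m + 3) (by omega) hcard hgen A.subtype hcop hfix g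
    have hψfix : ∀ x : G ⧸ N, ψ s x = x → x = 1 := by
      intro x hx
      have hb := FittingHeight.fixedBy_quotAct A.subtype N hNinv hcop
        (Group.isSolvable_of_comm fun a b => mul_comm a b) hfix
      have hmem : x ∈ Coprime.fixedBy ψ := fun a => by
        obtain ⟨i, rfl⟩ := hgen a
        have hs : ψ s ∈ MulAction.stabilizer (MulAut (G ⧸ N)) x := hx
        have := zpow_mem hs i
        rw [← map_zpow] at this
        exact this
      rw [hb] at hmem
      exact Subgroup.mem_bot.1 hmem
    haveI := Components.fittingSubgroup_normal G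
    have hMN : fittingSubgroup G ≤ N := fun x hx => by
      rw [hN, FittingHeight.mem_fitTwo, (QuotientGroup.eq_one_iff x).2 hx]
      exact one_mem _
    exact (ih (G ⧸ N) inferInstance (ψ s) hψ hψfix).prepend hMN
      (Components.fittingSubgroup_isNilpotent G) FittingHeight.exists_lowerCentralSeries_le

/-- Gross's Theorem: let G be a finite solvable group with an automorphism σ of order 2^n, n > 1, fixing only the identity. Then G has Fitting height at most 2n − 2: G has Fitting height at most m when there is a chain of normal subgroups 1 = F₀ ≤ F₁ ≤ ⋯ ≤ F_m = G with each F_{i+1}/F_i nilpotent. -/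
theorem result {G : Type*} [Group G] [Finite G] (hG : Group.IsSolvable G) (σ : MulAut G) (n : ℕ) (hn : 1 < n) (hσ : orderOf σ = 2 ^ n) (hfpf : ∀ g : G, σ g = g → g = 1) : ∃ F : Fin ((2 * n - 2) + 1) → Subgroup G, F 0 = ⊥ ∧ F (Fin.last (2 * n - 2)) = ⊤ ∧ Monotone F ∧ (∀ i, (F i).Normal) ∧ ∀ i : Fin (2 * n - 2), ∃ k : ℕ, (F i.succ).lowerCentralSeries k ≤ F i.castSucc := by
  obtain ⟨m, rfl⟩ : ∃ m, n = m + 2 := ⟨n - 2, by omega⟩
  have h := fittingChain m G hG σ (by rw [← hσ]; exact pow_orderOf_eq_one σ) hfpf
  rw [show 2 * (m + 2) - 2 = 2 * m + 2 by omega]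
  exact h

end Cfsg.Agent.S3795
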