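import Cfsg.Statements.S3796
import Cfsg.Agent.Lib.FittingHeight.Ward

set_option autoImplicit false
open Cfsg

namespace Cfsg.Agent.S3796

/-- Ward's Theorem: let G be a finite solvable group and A an elementary abelian group of automorphisms of G of order p² (p a prime) with no non-identity common fixed point. Then G has Fitting height at most 2: G has Fitting height at most m when there is a chain of normal subgroups 1 = F₀ ≤ F₁ ≤ ⋯ ≤ F_m = G with each F_{i+1}/F_i nilpotent. -/
theorem result {G : Type*} [Group G] [Finite G] (hG : Group.IsSolvable G) {p : ℕ} (hp : p.Prime) (A : Subgroup (MulAut G)) (hA : Cfsg.IsElementaryAbelian p A) (hcard : Nat.card A = p ^ 2) (hfpf : ∀ g : G, (∀ a ∈ A, a g = g) → g = 1) : ∃ F : Fin (2 + 1) → Subgroup G, F 0 = ⊥ ∧ F (Fin.last 2) = ⊤ ∧ Monotone F ∧ (∀ i, (F i).Normal) ∧ ∀ i : Fin 2, ∃ k : ℕ, (F i.succ).lowerCentralSeries k ≤ F i.castSucc := by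
  classical
  obtain ⟨hA1, hA2⟩ := hA
  have hcomm : ∀ a b : A, a * b = b * a := fun a b => mul_comm' a b
  let _ : CommGroup A := { (inferInstance : Group A) with mul_comm := hcomm }
  let _ : Fintype A := Fintype.ofFinite A
  have hexp : ∀ a : A, a ^ p = 1 := fun a => Subtype.ext (hA2 a a.2)
  have hpF := Fact.mk hp
  have hAp : IsPGroup p A := IsPGroup.of_card hcard
  have hfix : Coprime.fixedBy A.subtype = ⊥ := by
    rw [Subgroup.eq_bot_iff_forall]
    exact fun x hx => hfpf x fun a ha => hx ⟨a, ha⟩
  have hcop : (Nat.card A).Coprime (Nat.card G) := by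
    rw [hcard]
    refine Nat.Coprime.pow_left 2 (hp.coprime_iff_not_dvd.2 fun hd => ?_)
    have hfixed : MulAction.fixedPoints A G = {1} := by
      ext x
      exact ⟨fun hx => hfpf x fun a ha => hx ⟨a, ha⟩, fun hx a => by
        rw [Set.mem_singleton_iff.1 hx]; exact map_one (a : MulAut G)⟩
    have h := hAp.card_modEq_card_fixedPoints G
    rw [hfixed, show Nat.card ({1} : Set G) = 1 by simp] at h
    have := (h.symm.trans (Nat.modEq_zero_iff_dvd.2 hd))
    exact hp.not_dvd_one (Nat.modEq_zero_iff_dvd.1 this)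
  obtain ⟨n, -, hn⟩ := FittingHeight.hasHeight_of_core (c := fun _ => True)
    (Group.isSolvable_of_comm (G := A) fun a b => mul_comm a b) ⟨0, trivial⟩
    (fun _ _ _ _ => trivial) (FittingHeight.coreProp_ward hp hcard hexp) A.subtype hcop hfix
  have hFn := Components.fittingSubgroup_normal G
  obtain ⟨m, hm⟩ := Subgroup.nilpotent_iff_lowerCentralSeries.1
    (Components.fittingSubgroup_isNilpotent G)
  refine ⟨![⊥, fittingSubgroup G, ⊤], rfl, rfl, ?_, ?_, ?_⟩
  · refine Fin.monotone_iff_le_succ.2 fun i => ?_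
    fin_cases i
    · exact bot_le
    · exact le_top
  · intro i
    fin_cases i
    · exact inferInstanceAs (⊥ : Subgroup G).Normal
    · exact hFn
    · exact inferInstanceAs (⊤ : Subgroup G).Normal
  · intro i
    fin_cases i
    · refine ⟨m, le_of_eq ?_⟩
      show (fittingSubgroup G).lowerCentralSeries m = ⊥
      rw [← Subgroup.top_subtype_lowerCentralSeries, hm, Subgroup.map_bot]
    · exact ⟨n, hn⟩

end Cfsg.Agent.S3796
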