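import Cfsg.Statements.S3797
import Cfsg.Agent.Lib.TwoLength.Core


set_option autoImplicit false
open Cfsg

namespace Cfsg.Agent.S3797

open scoped Pointwise

open Subgroup in
/-- A finite abelian 2-group whose automorphism group is transitive on involutions is homocyclic. -/
theorem homocyclic {A : Type*} [CommGroup A] [Finite A] (hA : IsPGroup 2 A)
    (htr : ∀ x y : A, x ≠ 1 → x ^ 2 = 1 → y ≠ 1 → y ^ 2 = 1 → ∃ a : MulAut A, a x = y) :
    ∃ m r : ℕ, Nonempty (A ≃* (Fin r → Multiplicative (ZMod (2 ^ m)))) := by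
  classical
  obtain ⟨ι, _, n, hn, ⟨e⟩⟩ := CommGroup.equiv_prod_multiplicative_zmod_of_finite A
  let g : ι → ((i : ι) → Multiplicative (ZMod (n i))) := fun i =>
    Pi.mulSingle i (Multiplicative.ofAdd 1)
  have hg : ∀ i, orderOf (g i) = n i := fun i => by
    show orderOf (MonoidHom.mulSingle (fun i => Multiplicative (ZMod (n i))) i
      (Multiplicative.ofAdd (1 : ZMod (n i)))) = n i
    rw [orderOf_injective _ (fun a b h => by simpa using congrFun h i), orderOf_ofAdd_eq_addOrderOf, ZMod.addOrderOf_one]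
  have hpow : ∀ i, ∃ k, n i = 2 ^ (k + 1) := by
    intro i
    obtain ⟨k, hk⟩ := IsPGroup.iff_orderOf.mp hA (e.symm (g i))
    rw [MulEquiv.orderOf_eq, hg] at hk
    rcases k with _ | k
    · have := hn i; simp [hk] at this
    · exact ⟨k, hk⟩
  choose k hk using hpow
  have hmax : ∀ i, k i = Finset.univ.sup k := by
    intro i
    obtain ⟨j, -, hj⟩ := Finset.exists_mem_eq_sup (Finset.univ (α := ι)) ⟨i, Finset.mem_univ i⟩ k
    refine le_antisymm (Finset.le_sup (Finset.mem_univ i)) (not_lt.mp fun hlt => ?_)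
    rw [hj] at hlt
    have hinv : ∀ l, e.symm (g l ^ 2 ^ k l) ≠ 1 ∧ e.symm (g l ^ 2 ^ k l) ^ 2 = 1 := by
      intro l
      refine ⟨fun h => ?_, ?_⟩
      · rw [map_eq_one_iff _ e.symm.injective] at h
        have := orderOf_dvd_of_pow_eq_one h
        rw [hg, hk, Nat.pow_dvd_pow_iff_le_right (by omega)] at this
        omega
      · rw [← map_pow, ← pow_mul, ← pow_succ, ← hk, ← hg, pow_orderOf_eq_one, map_one]
    obtain ⟨a, ha⟩ := htr _ _ (hinv j).1 (hinv j).2 (hinv i).1 (hinv i).2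
    rw [map_pow, map_pow] at ha
    have h1 := congrArg (fun x => e x i) ha
    simp only [map_pow, e.apply_symm_apply, Pi.pow_apply] at h1
    have h2 : g i ^ 2 ^ k i = 1 := by
      rw [show g i ^ 2 ^ k i = MonoidHom.mulSingle (fun i => Multiplicative (ZMod (n i))) i
        ((g i i) ^ 2 ^ k i) by rw [map_pow]; simp [g]]
      rw [← h1, orderOf_dvd_iff_pow_eq_one.mp ?_, map_one]
      refine (_root_.orderOf_dvd_natCard _).trans ?_
      rw [Nat.card_congr Multiplicative.toAdd, Nat.card_zmod, hk]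
      exact pow_dvd_pow 2 hlt
    have := orderOf_dvd_of_pow_eq_one h2
    rw [hg, hk, Nat.pow_dvd_pow_iff_le_right (by omega)] at this
    omega
  refine ⟨Finset.univ.sup k + 1, Fintype.card ι, ⟨e.trans ((MulEquiv.piCongrRight fun i =>
    (ZMod.ringEquivCongr (show n i = 2 ^ (Finset.univ.sup k + 1) by rw [hk, hmax])).toAddEquiv.toMultiplicative).trans
    (MulEquiv.arrowCongr (Fintype.equivFin ι) (MulEquiv.refl _)))⟩⟩


/-- Let G be a finite solvable group of even order whose Sylow 2-subgroups contain more than one involution, and suppose all involutions of G are conjugate. Then G has 2-length at most 1, and a Sylow 2-subgroup S of G is either homocyclic (a direct product of cyclic groups of one common order) or a non-abelian 2-group with more than one involution admitting a solvable group of automorphisms transitive on its involutions. -/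
theorem result {G : Type*} [Group G] [Finite G] (hG : Group.IsSolvable G) (heven : Even (Nat.card G)) (S : Sylow 2 G) (htwo : ∃ x y : G, x ∈ (S : Subgroup G) ∧ y ∈ (S : Subgroup G) ∧ x ≠ y ∧ x ≠ 1 ∧ x ^ 2 = 1 ∧ y ≠ 1 ∧ y ^ 2 = 1) (hconj : ∀ x y : G, x ≠ 1 → x ^ 2 = 1 → y ≠ 1 → y ^ 2 = 1 → IsConj x y) : Cfsg.PLengthLE 2 1 G ∧ ((∃ m r : ℕ, Nonempty (↥(S : Subgroup G) ≃* (Fin r → Multiplicative (ZMod (2 ^ m))))) ∨ (¬ IsMulCommutative (S : Subgroup G) ∧ ∃ Y : Subgroup (MulAut ↥(S : Subgroup G)), Group.IsSolvable Y ∧ ∀ x y : ↥(S : Subgroup G), x ≠ 1 → x ^ 2 = 1 → y ≠ 1 → y ^ 2 = 1 → ∃ a ∈ Y, a x = y)) := by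
  classical
  haveI := hG
  obtain ⟨s, hs⟩ := S.isPGroup'.exists_card_eq
  obtain ⟨x₀, y₀, hxS, hyS, hxy, hx1, hx2, hy1, hy2⟩ := htwo
  -- two commuting involutions
  have hcomm : ∃ x y : G, x ≠ 1 ∧ y ≠ 1 ∧ x ≠ y ∧ x ^ 2 = 1 ∧ y ^ 2 = 1 ∧ Commute x y := by
    haveI : Nontrivial (S : Subgroup G) := ⟨⟨⟨x₀, hxS⟩, 1, fun h => hx1 (congrArg Subtype.val h)⟩⟩
    haveI := S.isPGroup'.center_nontrivial
    obtain ⟨c, hc, hcc⟩ := (S.isPGroup'.to_subgroup (Subgroup.center (S : Subgroup G))).nontrivial_iff_card.mp inferInstance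
    obtain ⟨z, hz⟩ := exists_prime_orderOf_dvd_card' (G := Subgroup.center (S : Subgroup G)) 2
      (by rw [hcc]; exact dvd_pow_self 2 (by omega))
    have hzo : orderOf ((z : ↥(S : Subgroup G)) : G) = 2 := by rwa [orderOf_submonoid, orderOf_submonoid]
    set w := ((z : ↥(S : Subgroup G)) : G) with hw
    have hw1 : w ≠ 1 := fun h => by rw [h, orderOf_one] at hzo; omega
    have hw2 : w ^ 2 = 1 := hzo ▸ pow_orderOf_eq_one w
    have hwc : ∀ u ∈ (S : Subgroup G), Commute w u := fun u hu =>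
      (congrArg Subtype.val (Subgroup.mem_center_iff.mp z.2 ⟨u, hu⟩)).symm
    by_cases h : w = x₀
    · exact ⟨w, y₀, hw1, hy1, h ▸ hxy, hw2, hy2, hwc _ hyS⟩
    · exact ⟨w, x₀, hw1, hx1, h, hw2, hx2, hwc _ hxS⟩
  have hlen : PLengthLE 2 1 G := TwoLength.pLengthLE_one_of_conj hconj hcomm
  refine ⟨hlen, ?_⟩
  set O := pPrimeCore 2 G with hO
  set U2 := (upperPSeries 2 G 2).1 with hU2
  haveI hU2n : U2.Normal := (upperPSeries 2 G 2).2
  have hOU : O ≤ U2 := by
    rw [hU2, PCore.upperPSeries_two]; exact PCore.pPrimeCore_le_pPrimePCore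
  obtain ⟨e, he⟩ : ∃ e, O.relIndex U2 = 2 ^ e := by
    rw [hU2, PCore.upperPSeries_two]; exact PCore.relIndex_pPrimePCore
  have hU2i : U2.index.Coprime 2 := by
    have h := PCore.relIndex_upperPSeries_of_even (p := 2) (G := G) (n := 2) even_two
    rwa [show (upperPSeries 2 G (2 + 1)).1 = ⊤ from hlen, Subgroup.relIndex_top_right] at h
  have hSU : (S : Subgroup G) ≤ U2 := by
    rw [← Subgroup.relIndex_eq_one]
    refine Nat.eq_one_of_dvd_coprimes ((hU2i.pow_right s).symm) ?_ ?_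
    · exact hs ▸ Subgroup.relIndex_dvd_card U2 S
    · exact Subgroup.relIndex_dvd_index_of_normal _ _
  have hOc : (Nat.card O).Coprime 2 := PCore.coprime_card_pPrimeCore
  have hSO : (S : Subgroup G) ⊓ O = ⊥ := Coprime.disjoint_of_coprime_card (by
    rw [hs]; exact (hOc.pow_right s).symm)
  have hsup : (S : Subgroup G) ⊔ O = U2 := by
    refine Subgroup.eq_of_le_of_card_ge (sup_le hSU hOU) ?_
    have h1 := TwoLength.card_sup_of_le_normalizer (A := O) (B := (S : Subgroup G))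
      (by rw [Subgroup.normalizer_eq_top]; exact le_top)
    rw [inf_comm, hSO, Subgroup.card_bot, mul_one, sup_comm] at h1
    rw [h1, hs]
    have h2 := Subgroup.card_mul_index (O.subgroupOf U2)
    rw [Nat.card_congr (Subgroup.subgroupOfEquivOfLe hOU).toEquiv,
      show (O.subgroupOf U2).index = 2 ^ e from he] at h2
    rw [← h2]
    refine Nat.mul_le_mul_left _ (Nat.le_of_dvd (Nat.two_pow_pos s) ?_)
    rw [← hs, S.card_eq_multiplicity, ← Nat.Prime.pow_dvd_iff_dvd_ordProj Nat.prime_two Nat.card_pos.ne']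
    exact (Dvd.intro_left _ h2).trans (Subgroup.card_subgroup_dvd_card U2)
  have htr : ∀ x y : ↥(S : Subgroup G), x ≠ 1 → x ^ 2 = 1 → y ≠ 1 → y ^ 2 = 1 →
      ∃ a ∈ (S : Subgroup G).normalizerMonoidHom.range, a x = y := by
    intro x y hx1 hx2 hy1 hy2
    obtain ⟨g, hg⟩ := isConj_iff.mp (hconj (x : G) y (fun h => hx1 (Subtype.ext h))
      (congrArg Subtype.val hx2) (fun h => hy1 (Subtype.ext h)) (congrArg Subtype.val hy2))
    have hle : MulAut.conj g • (S : Subgroup G) ≤ (S : Subgroup G) ⊔ O := by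
      rw [hsup]
      intro a ha
      obtain ⟨q, hq, rfl⟩ := ha
      exact hU2n.conj_mem q (hSU hq) g
    obtain ⟨o, ho, hoS⟩ := Coprime.exists_conj_eq_of_le_sup (N := O) (H := (S : Subgroup G))
      (K := MulAut.conj g • (S : Subgroup G)) (by rw [Subgroup.normalizer_eq_top]; exact le_top) hle
      (Coprime.card_conj_smul g _) (by rw [hs]; exact (hOc.pow_right s).symm) (Or.inl inferInstance)
    have h : MulAut.conj (o⁻¹ * g) • (S : Subgroup G) = S := by
      rw [← Coprime.conj_smul_smul, ← hoS, Coprime.conj_smul_smul, inv_mul_cancel, map_one, one_smul]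
    have hmem : o⁻¹ * g ∈ Subgroup.normalizer ((S : Subgroup G) : Set G) := by
      refine Subgroup.mem_normalizer_iff''.mpr fun a => ?_
      conv_lhs => rw [← h]
      rw [Coprime.mem_conj_smul_iff]
    refine ⟨_, ⟨⟨o⁻¹ * g, hmem⟩, rfl⟩, Subtype.ext ?_⟩
    show o⁻¹ * g * (x : G) * (o⁻¹ * g)⁻¹ = y
    have hx' : o⁻¹ * g * (x : G) * (o⁻¹ * g)⁻¹ ∈ (S : Subgroup G) :=
      (Subgroup.mem_normalizer_iff.mp hmem _).mp x.2
    have hmemO : o⁻¹ * g * (x : G) * (o⁻¹ * g)⁻¹ * (y : G)⁻¹ ∈ O := by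
      rw [show o⁻¹ * g * (x : G) * (o⁻¹ * g)⁻¹ * (y : G)⁻¹
        = o⁻¹ * ((g * (x : G) * g⁻¹) * o * (y : G)⁻¹) by group, hg]
      exact mul_mem (inv_mem ho) ((PCore.pPrimeCore_normal (p := 2) (G := G)).conj_mem o ho _)
    have hboth : o⁻¹ * g * (x : G) * (o⁻¹ * g)⁻¹ * (y : G)⁻¹ ∈ (S : Subgroup G) ⊓ O :=
      Subgroup.mem_inf.mpr ⟨mul_mem hx' ((S : Subgroup G).inv_mem y.2), hmemO⟩
    rw [hSO, Subgroup.mem_bot] at hboth
    exact mul_inv_eq_one.mp hboth
  by_cases hc : IsMulCommutative (S : Subgroup G)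
  · left
    letI : CommGroup ↥(S : Subgroup G) := { (inferInstance : Group ↥(S : Subgroup G)) with mul_comm := hc.is_comm.comm }
    exact homocyclic S.isPGroup' fun x y h1 h2 h3 h4 => (htr x y h1 h2 h3 h4).imp fun a h => h.2
  · exact Or.inr ⟨hc, (S : Subgroup G).normalizerMonoidHom.range,
      Group.isSolvable_of_surjective (MonoidHom.rangeRestrict_surjective _), htr⟩


end Cfsg.Agent.S3797
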