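import Cfsg.Statements.S3798
import Cfsg.Agent.Lib.PCore.PLength
import Cfsg.Agent.Lib.PCore.HallHigman
import Cfsg.Agent.Lib.Coprime.OmegaOne


set_option autoImplicit false
open Cfsg

namespace Cfsg.Agent.S3798

open Cfsg Subgroup Cfsg.Agent
open scoped Pointwise

universe u

theorem core {G : Type u} [Group G] [Finite G] {p : ℕ} [hp' : Fact p.Prime] (hp : p ≠ 2)
    (hdvd : p ∣ Nat.card G) (hG : Cfsg.IsPSolvable p G) (hbot : pPrimeCore p G = ⊥)
    (htrans : ∀ U V : Subgroup G, Nat.card U = p → Nat.card V = p →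
      ∃ a : MulAut G, U.map a.toMonoidHom = V) : Cfsg.PLengthLE p 1 G := by
  set M := pCore p G with hM
  have hMp : IsPGroup p M := PCore.isPGroup_pCore
  have hcM : centralizer (M : Set G) ≤ M := PCore.centralizer_pCore_le hG hbot
  haveI : Nontrivial G := Finite.one_lt_card_iff_nontrivial.mp
    (lt_of_lt_of_le hp'.out.one_lt (Nat.le_of_dvd Nat.card_pos hdvd))
  have hMne : M ≠ ⊥ := (PCore.pCore_ne_bot_or_pPrimeCore_ne_bot hG).resolve_right (not_not.mpr hbot)
  haveI : Nontrivial M := (nontrivial_iff_ne_bot M).mpr hMne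
  -- automorphisms preserve `Z(M)`
  set Z : Subgroup G := M ⊓ centralizer (M : Set G) with hZ
  haveI hZc : Z.Characteristic := inferInstance
  obtain ⟨v, hvZ, hv⟩ : ∃ v ∈ Z, orderOf v = p := by
    haveI := hMp.center_nontrivial
    have hcp : IsPGroup p (center M) := hMp.to_subgroup _
    obtain ⟨k, hk, hkc⟩ := hcp.nontrivial_iff_card.mp inferInstance
    obtain ⟨z, hz⟩ := exists_prime_orderOf_dvd_card' (G := center M) p
      (by rw [hkc]; exact dvd_pow_self p (by omega))
    refine ⟨((z : M) : G), ⟨(z : M).2, mem_centralizer_iff.mpr fun m hm => ?_⟩, ?_⟩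
    · exact congrArg Subtype.val (mem_center_iff.mp z.2 ⟨m, hm⟩)
    · rwa [orderOf_submonoid, orderOf_submonoid]
  have hall : ∀ x : G, x ^ p = 1 → x ∈ Z := by
    intro x hx
    by_cases h1 : x = 1
    · rw [h1]; exact one_mem Z
    obtain ⟨a, ha⟩ := htrans (zpowers v) (zpowers x) (by rw [Nat.card_zpowers, hv])
      (by rw [Nat.card_zpowers, orderOf_eq_prime hx h1])
    have hx' : x ∈ (zpowers v).map a.toMonoidHom := ha ▸ mem_zpowers x
    obtain ⟨w, hw, rfl⟩ := hx'
    have hwZ : w ∈ Z := (zpowers_le.mpr hvZ) hw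
    exact (Subgroup.characteristic_iff_map_le.mp hZc a) ⟨w, hwZ, rfl⟩
  suffices hi : M.index.Coprime p by
    refine PCore.pLengthLE_succ_of_isPGroup_ker (k := 0) (QuotientGroup.mk' M)
      (QuotientGroup.mk'_surjective M) (QuotientGroup.ker_mk' M).le ?_
    exact PCore.pLengthLE_zero_iff.mpr hi
  by_cases hK0 : pPrimeCore p (G ⧸ M) = ⊥
  · have hsub : Subsingleton (G ⧸ M) := by
      by_contra hns
      haveI : Nontrivial (G ⧸ M) := not_subsingleton_iff_nontrivial.mp hns
      rcases PCore.pCore_ne_bot_or_pPrimeCore_ne_bot (PCore.isPSolvable_quotient hG M) with h | h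
      · exact h PCore.pCore_quotient_self_eq_bot
      · exact h hK0
    have : M.index = 1 := Nat.card_eq_one_iff_unique.mpr ⟨hsub, inferInstance⟩
    rw [this]; exact Nat.coprime_one_left p
  set K := (pPrimeCore p (G ⧸ M)).comap (QuotientGroup.mk' M) with hK
  haveI : M.Characteristic := PCore.pCore_characteristic
  haveI hKc : K.Characteristic := PCore.comap_mk'_characteristic M _
  have hMK : M ≤ K := fun m hm => by
    rw [hK, mem_comap]
    have : QuotientGroup.mk' M m = 1 := (QuotientGroup.eq_one_iff m).mpr hm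
    rw [this]; exact one_mem _
  have hrel : (M.relIndex K).Coprime p := by
    rw [hK, PCore.relIndex_comap_mk']
    exact PCore.coprime_card_pPrimeCore
  obtain ⟨k, hk⟩ := hMp.exists_card_eq
  have hcardMK : Nat.card (M.subgroupOf K) = Nat.card M :=
    Nat.card_congr (subgroupOfEquivOfLe hMK).toEquiv
  obtain ⟨L, hL⟩ := exists_right_complement'_of_coprime (N := M.subgroupOf K)
    (by rw [hcardMK, hk]; exact Nat.Coprime.pow_left k hrel.symm)
  set Q := L.map K.subtype with hQ
  have hQcard : Nat.card Q = M.relIndex K := by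
    rw [hQ, card_map_of_injective K.subtype_injective, ← hL.symm.index_eq_card]
    rfl
  have hQK : Q ≤ K := map_subtype_le L
  have hKMQ : K = Q ⊔ M := by
    refine le_antisymm (fun x hx => ?_) (sup_le hQK hMK)
    have h2 : (⟨x, hx⟩ : K) ∈ L ⊔ M.subgroupOf K := by
      rw [sup_comm, hL.sup_eq_top]; trivial
    have h3 := mem_map_of_mem K.subtype h2
    rw [Subgroup.map_sup] at h3
    exact (sup_le_sup le_rfl (map_comap_le K.subtype M)) h3
  have hQne : Q ≠ ⊥ := by
    intro h
    apply hK0
    rw [eq_bot_iff]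
    intro y hy
    obtain ⟨x, rfl⟩ := QuotientGroup.mk'_surjective M y
    have hx : x ∈ K := hy
    rw [hKMQ, h, bot_sup_eq] at hx
    exact mem_bot.mpr ((QuotientGroup.eq_one_iff x).mpr hx)
  have hQc : (Nat.card Q).Coprime p := hQcard ▸ hrel
  have hQM : (Nat.card Q).Coprime (Nat.card M) := by
    rw [hk]; exact hQc.pow_right k
  haveI : Group.IsNilpotent M := hMp.isNilpotent
  -- Frattini argument
  have hfr : ∀ g : G, QuotientGroup.mk' M g ∈ (normalizer (Q : Set G)).map (QuotientGroup.mk' M) := by
    intro g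
    have hle : MulAut.conj g • Q ≤ Q ⊔ M := by
      rw [← hKMQ]
      intro x hx
      obtain ⟨q, hq, rfl⟩ := hx
      exact (normal_of_characteristic K).conj_mem q (hQK hq) g
    obtain ⟨n, hn, hnQ⟩ := Coprime.exists_conj_eq_of_le_sup (N := M) (H := Q)
      (K := MulAut.conj g • Q) (by rw [normalizer_eq_top]; exact le_top) hle
      (Coprime.card_conj_smul g Q) hQM (Or.inl inferInstance)
    refine ⟨n⁻¹ * g, ?_, by simp [(QuotientGroup.eq_one_iff n).mpr hn]⟩
    have h : MulAut.conj (n⁻¹ * g) • Q = Q := by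
      rw [← Coprime.conj_smul_smul, ← hnQ, Coprime.conj_smul_smul, inv_mul_cancel, map_one, one_smul]
    refine mem_normalizer_iff''.mpr fun a => ?_
    conv_lhs => rw [← h]
    rw [Coprime.mem_conj_smul_iff]
  -- no element of order `p` is centralised by `K`
  have hW : ∀ x : G, x ^ p = 1 → x ∈ centralizer (K : Set G) → x = 1 := by
    intro x hx hxK
    by_contra h1
    apply hQne
    have hQC : Q ≤ centralizer (M : Set G) := by
      refine Coprime.le_centralizer_of_fix_pow_eq_one hp M Q hMp
        (by rw [normalizer_eq_top]; exact le_top) hQc ?_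
      intro y hy hyp q hq
      rw [mem_centralizer_singleton_iff]
      by_cases hy1 : y = 1
      · simp [hy1]
      obtain ⟨a, ha⟩ := htrans (zpowers x) (zpowers y)
        (by rw [Nat.card_zpowers, orderOf_eq_prime hx h1])
        (by rw [Nat.card_zpowers, orderOf_eq_prime hyp hy1])
      have hy' : y ∈ (zpowers x).map a.toMonoidHom := ha ▸ mem_zpowers y
      obtain ⟨w, hw, rfl⟩ := hy'
      have hwC : w ∈ centralizer (K : Set G) := (zpowers_le.mpr hxK) hw
      have := (Subgroup.characteristic_iff_map_le.mp inferInstance a) ⟨w, hwC, rfl⟩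
      exact mem_centralizer_iff.mp this q (hQK hq)
    rw [eq_bot_iff]
    intro q hq
    exact disjoint_def.mp ((disjoint_iff.mpr (Coprime.disjoint_of_coprime_card hQM))) hq (hcM (hQC hq))
  have hN : ¬ p ∣ Nat.card (normalizer (Q : Set G)) := by
    intro h
    obtain ⟨x, hx⟩ := exists_prime_orderOf_dvd_card' (G := normalizer (Q : Set G)) p h
    have hxo : orderOf (x : G) = p := by rwa [orderOf_submonoid]
    have hxp : (x : G) ^ p = 1 := by rw [← hxo]; exact pow_orderOf_eq_one _
    have hxZ := hall _ hxp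
    have hxQ : ∀ q ∈ Q, q * (x : G) = (x : G) * q := by
      intro q hq
      have h1 : (x : G) * q * (x : G)⁻¹ * q⁻¹ ∈ Q :=
        mul_mem ((mem_normalizer_iff.mp x.2 q).mp hq) (inv_mem hq)
      have h2 : (x : G) * q * (x : G)⁻¹ * q⁻¹ ∈ M := by
        have := (inferInstance : M.Normal).conj_mem _ (inv_mem hxZ.1) q
        have := mul_mem hxZ.1 this
        simpa [mul_assoc] using this
      have := disjoint_def.mp ((disjoint_iff.mpr (Coprime.disjoint_of_coprime_card hQM))) h1 h2
      have h3 : (x : G) * q * (x : G)⁻¹ = q := mul_inv_eq_one.mp this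
      exact (mul_inv_eq_iff_eq_mul.mp h3).symm
    have hxK : (x : G) ∈ centralizer (K : Set G) := by
      have hle : K ≤ centralizer ({(x : G)} : Set G) := by
        rw [hKMQ]
        refine sup_le (fun q hq => mem_centralizer_singleton_iff.mpr (hxQ q hq)) fun m hm => ?_
        exact mem_centralizer_singleton_iff.mpr (mem_centralizer_iff.mp hxZ.2 m hm)
      exact mem_centralizer_iff.mpr fun y hy => mem_centralizer_singleton_iff.mp (hle hy)
    have := hW _ hxp hxK
    rw [this, orderOf_one] at hxo
    exact hp'.out.one_lt.ne hxo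
  have hdvd' : M.index ∣ Nat.card (normalizer (Q : Set G)) := by
    have htop : (normalizer (Q : Set G)).map (QuotientGroup.mk' M) = ⊤ := by
      rw [eq_top_iff]
      intro y _
      obtain ⟨g, rfl⟩ := QuotientGroup.mk'_surjective M y
      exact hfr g
    have := card_map_dvd (normalizer (Q : Set G)) (QuotientGroup.mk' M)
    rwa [htop, card_top] at this
  exact Nat.Coprime.symm (hp'.out.coprime_iff_not_dvd.mpr fun h => hN (h.trans hdvd'))


/-- The Gaschütz–Yen Theorem: let G be a finite p-soluble group, p an odd prime dividing its order, such that the automorphism group of G permutes the subgroups of G of order p transitively. Then G has p-length at most 1. -/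
theorem result {G : Type*} [Group G] [Finite G] {p : ℕ} [Fact p.Prime] (hp : p ≠ 2) (hdvd : p ∣ Nat.card G) (hG : Cfsg.IsPSolvable p G) (htrans : ∀ U V : Subgroup G, Nat.card U = p → Nat.card V = p → ∃ a : MulAut G, U.map a.toMonoidHom = V) : Cfsg.PLengthLE p 1 G := by
  have hp' : p.Prime := Fact.out
  set N := pPrimeCore p G with hN
  set f := QuotientGroup.mk' N with hf
  have hfs : Function.Surjective f := QuotientGroup.mk'_surjective N
  refine PCore.pLengthLE_of_ker_le_pPrimeCore f hfs (QuotientGroup.ker_mk' N).le ?_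
  have hNc : (Nat.card N).Coprime p := PCore.coprime_card_pPrimeCore
  haveI : N.Characteristic := PCore.pPrimeCore_characteristic
  have hNi : Nat.card G = Nat.card (G ⧸ N) * Nat.card N :=
    Subgroup.card_eq_card_quotient_mul_card_subgroup N
  refine core hp ?_ (PCore.isPSolvable_quotient hG N) PCore.pPrimeCore_quotient_self_eq_bot ?_
  · exact (Nat.Coprime.dvd_of_dvd_mul_right hNc.symm (hNi ▸ hdvd))
  intro U V hU hV
  have lift : ∀ U : Subgroup (G ⧸ N), Nat.card U = p →
      ∃ U₀ : Subgroup G, Nat.card U₀ = p ∧ U₀.map f = U := by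
    intro U hU
    haveI := Fact.mk hp'
    have hdv : p ∣ Nat.card (U.comap f) := by
      have h2 : U ≤ f.range := by rw [MonoidHom.range_eq_top.mpr hfs]; exact le_top
      have := Subgroup.card_map_dvd (U.comap f) f
      rwa [Subgroup.map_comap_eq_self h2, hU] at this
    obtain ⟨x, hx⟩ := exists_prime_orderOf_dvd_card' p hdv
    have hxo : orderOf (x : G) = p := by rwa [Subgroup.orderOf_coe]
    refine ⟨Subgroup.zpowers (x : G), by rw [Nat.card_zpowers, hxo], ?_⟩
    have hle : (Subgroup.zpowers (x : G)).map f ≤ U :=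
      Subgroup.map_le_iff_le_comap.mpr (Subgroup.zpowers_le.mpr x.2)
    refine Subgroup.eq_of_le_of_card_ge hle (le_of_eq ?_)
    rw [hU, MonoidHom.map_zpowers, Nat.card_zpowers]
    refine (orderOf_eq_prime ?_ ?_).symm
    · have h2 : (x : G) ^ p = 1 := hxo.subst (motive := fun n => (x : G) ^ n = 1) (pow_orderOf_eq_one (x : G))
      rw [← map_pow, h2, map_one]
    · intro h1
      have hxN : (x : G) ∈ N := (QuotientGroup.eq_one_iff _).mp h1
      have := Subgroup.orderOf_dvd_natCard N hxN
      rw [hxo] at this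
      exact hp'.coprime_iff_not_dvd.mp hNc.symm this
  obtain ⟨U₀, hU₀, rfl⟩ := lift U hU
  obtain ⟨V₀, hV₀, rfl⟩ := lift V hV
  obtain ⟨a, ha⟩ := htrans U₀ V₀ hU₀ hV₀
  refine ⟨QuotientGroup.congr N N a (Subgroup.characteristic_iff_map_eq.mp inferInstance a), ?_⟩
  rw [← ha, Subgroup.map_map, Subgroup.map_map]
  congr 1


end Cfsg.Agent.S3798
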