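import Cfsg.Statements.S3800
import Mathlib.GroupTheory.Nilpotent
import Cfsg.Agent.Lib.Coprime.Sylow


set_option autoImplicit false
open Cfsg
open scoped Pointwise

namespace Cfsg.Agent.S3800

/-- Let G be a finite group, N a normal subgroup of G whose order is prime to p, and P a p-subgroup of G. Then in G/N the normalizer of the image of P is the image of N_G(P), and the centralizer of the image of P is the image of C_G(P). -/
theorem result {G : Type*} [Group G] [Finite G] {p : ℕ} [Fact p.Prime] (N : Subgroup G) [N.Normal] (hN : (Nat.card N).Coprime p) (P : Subgroup G) (hP : IsPGroup p P) : Subgroup.normalizer ((P.map (QuotientGroup.mk' N)) : Set (G ⧸ N)) = (Subgroup.normalizer (P : Set G)).map (QuotientGroup.mk' N) ∧ Subgroup.centralizer ((P.map (QuotientGroup.mk' N)) : Set (G ⧸ N)) = (Subgroup.centralizer (P : Set G)).map (QuotientGroup.mk' N) := by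
  have hPN : P ≤ Subgroup.normalizer (N : Set G) := by simp [Subgroup.normalizer_eq_top]
  have := hP.isNilpotent
  have hsolv : Group.IsSolvable P := inferInstance
  obtain ⟨k, hk⟩ := IsPGroup.iff_card.mp hP
  have hcop : (Nat.card P).Coprime (Nat.card N) := hk ▸ (hN.symm.pow_left k)
  constructor
  · refine le_antisymm (fun q hq => ?_) (Subgroup.le_normalizer_map _)
    obtain ⟨g, rfl⟩ := QuotientGroup.mk'_surjective N q
    have hle : MulAut.conj g • P ≤ P ⊔ N := by
      intro x hx
      rw [Cfsg.Agent.Coprime.mem_conj_smul_iff] at hx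
      have h1 : QuotientGroup.mk' N x ∈ P.map (QuotientGroup.mk' N) := by
        have := (Subgroup.mem_normalizer_iff.1 hq _).1 (Subgroup.mem_map_of_mem (QuotientGroup.mk' N) hx)
        simpa [mul_assoc] using this
      have h2 : x ∈ (P.map (QuotientGroup.mk' N)).comap (QuotientGroup.mk' N) := h1
      rwa [Subgroup.comap_map_eq, QuotientGroup.ker_mk'] at h2
    obtain ⟨n, hn, hnP⟩ := Cfsg.Agent.Coprime.exists_conj_eq_of_le_sup hPN hle
      (Cfsg.Agent.Coprime.card_conj_smul g P) hcop (Or.inr hsolv)
    refine ⟨n⁻¹ * g, Cfsg.Agent.Coprime.mem_normalizer_of_conj_smul_eq ?_, ?_⟩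
    · rw [← Cfsg.Agent.Coprime.conj_smul_smul, ← hnP, Cfsg.Agent.Coprime.conj_smul_smul,
        inv_mul_cancel, map_one, one_smul]
    · rw [map_mul, show QuotientGroup.mk' N n⁻¹ = 1 from (QuotientGroup.eq_one_iff n⁻¹).2 (inv_mem hn), one_mul]
  · refine le_antisymm (fun q hq => ?_) ?_
    · obtain ⟨g, rfl⟩ := QuotientGroup.mk'_surjective N q
      obtain ⟨n, hn, hc⟩ := Cfsg.Agent.Coprime.exists_mul_mem_centralizer hPN hcop (Or.inl hsolv)
        (k := g) (fun a ha => by
          refine (QuotientGroup.eq_one_iff _).1 ?_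
          have := Subgroup.mem_centralizer_iff.1 hq _ (Subgroup.mem_map_of_mem (QuotientGroup.mk' N) ha)
          simp only [QuotientGroup.mk'_apply] at this
          rw [QuotientGroup.mk_mul, QuotientGroup.mk_mul, QuotientGroup.mk_mul, QuotientGroup.mk_inv,
            QuotientGroup.mk_inv, mul_assoc (g : G ⧸ N)⁻¹, this, inv_mul_cancel_left, mul_inv_cancel])
      refine ⟨g * n, hc, ?_⟩
      rw [map_mul]
      rw [show QuotientGroup.mk' N n = 1 from (QuotientGroup.eq_one_iff n).2 hn, mul_one]
    · rintro _ ⟨c, hc, rfl⟩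
      rw [Subgroup.mem_centralizer_iff]
      rintro _ ⟨a, ha, rfl⟩
      rw [← map_mul, ← map_mul, Subgroup.mem_centralizer_iff.1 hc a ha]


end Cfsg.Agent.S3800
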