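import Cfsg.Statements.S3802
import Mathlib.GroupTheory.IsSubnormal
import Mathlib.GroupTheory.QuotientGroup.Basic


set_option autoImplicit false
open Cfsg
open scoped commutatorElement

namespace Cfsg.Agent.S3802

universe u

open Subgroup

theorem exists_minimal_normal {G : Type u} [Group G] [Finite G] (A : Subgroup G) [hA : A.Normal]
    (hne : A ≠ ⊥) :
    ∃ L ≤ A, L.Normal ∧ L ≠ ⊥ ∧ ∀ K : Subgroup G, K.Normal → K ≤ L → K = ⊥ ∨ K = L := by
  obtain ⟨L, hL⟩ := (Set.toFinite {L : Subgroup G | L.Normal ∧ L ≤ A ∧ L ≠ ⊥}).exists_minimal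
    ⟨A, hA, le_rfl, hne⟩
  refine ⟨L, hL.1.2.1, hL.1.1, hL.1.2.2, fun K hK hKL => or_iff_not_imp_left.2 fun hK0 => ?_⟩
  exact le_antisymm hKL (hL.2 ⟨hK, hKL.trans hL.1.2.1, hK0⟩ hKL)

/-- A minimal normal subgroup normalises every subnormal subgroup. -/
theorem minimal_normal_le_normalizer (n : ℕ) : ∀ (G : Type u) [Group G] [Finite G],
    Nat.card G = n → ∀ N A : Subgroup G, N.IsSubnormal → A.Normal →
      (∀ K : Subgroup G, K.Normal → K ≤ A → K = ⊥ ∨ K = A) →
      A ≤ normalizer (N : Set G) := by
  induction n using Nat.strong_induction_on with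
  | h n ih =>
  intro G _ _ hn N A hN hA hmin
  rcases hN.lt_normal with rfl | ⟨H, hH, hNH, hlt⟩
  · intro a _
    exact le_normalizer (mem_top a)
  by_cases hd : A ⊓ H = ⊥
  · intro a ha
    rw [mem_normalizer_iff]
    intro x
    have hc : ∀ h ∈ H, a * h * a⁻¹ = h := fun h hh => by
      have := commutatorElement_eq_one_iff_mul_comm.1 (mem_bot.1 (hd ▸
        commutator_le_inf A H (commutator_mem_commutator ha hh) : ⁅a, h⁆ ∈ (⊥ : Subgroup G)))
      rw [this, mul_inv_cancel_right]
    refine ⟨fun hx => (hc x (hNH hx)).symm ▸ hx, fun hx => ?_⟩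
    have h1 : x ∈ H := by simpa [mul_assoc] using hH.conj_mem _ (hNH hx) a⁻¹
    rwa [hc x h1] at hx
  · have hAH : A ≤ H := inf_eq_left.1 ((hmin (A ⊓ H) inferInstance inf_le_left).resolve_left hd)
    set M : Subgroup G := A ⊓ ⨅ g : G, normalizer ((N.map (MulAut.conj g).toMonoidHom : Subgroup G) : Set G)
      with hM
    have hMn : M.Normal := by
      refine ⟨fun m hm k => ?_⟩
      rw [hM, mem_inf, mem_iInf] at hm ⊢
      refine ⟨hA.conj_mem _ hm.1 k, fun g => ?_⟩
      have h := hm.2 (k⁻¹ * g)
      rw [mem_normalizer_iff] at h ⊢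
      intro x
      have h2 : ∀ y : G, y ∈ N.map (MulAut.conj g).toMonoidHom ↔
          k⁻¹ * y * k ∈ N.map (MulAut.conj (k⁻¹ * g)).toMonoidHom := by
        intro y
        simp only [mem_map_equiv, map_mul, MulAut.mul_def]
        simp [mul_assoc]
      rw [h2, h2, h]
      simp [mul_assoc]
    have hMne : M ≠ ⊥ := by
      have hA1 : A ≠ ⊥ := fun h => hd (by rw [h, bot_inf_eq])
      obtain ⟨L, hLA, hL, hL1, hLmin⟩ := exists_minimal_normal (A.subgroupOf H)
        (by rw [Ne, subgroupOf_eq_bot, disjoint_iff]; exact hd)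
      have hle : L.map H.subtype ≤ M := by
        refine le_inf ((map_mono hLA).trans ?_) (le_iInf fun g => ?_)
        · rw [subgroupOf_map_subtype]; exact inf_le_left
        · have hNg : (N.map (MulAut.conj g).toMonoidHom) ≤ H := by
            rintro _ ⟨y, hy, rfl⟩
            exact hH.conj_mem _ (hNH hy) g
          have hcard : Nat.card H < n := hn ▸ lt_of_le_of_ne (card_le_card_group H)
            (fun h => hlt.ne (card_eq_iff_eq_top H |>.1 h))
          have h1 := ih _ hcard H rfl _ L ((hN.map (f := (MulAut.conj g).toMonoidHom)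
            (MulAut.conj g).surjective).subgroupOf (K := H)) hL hLmin
          rintro _ ⟨l, hl, rfl⟩
          rw [mem_normalizer_iff]
          intro x
          have h2 := mem_normalizer_iff.1 (h1 hl)
          constructor
          · intro hx
            exact (h2 ⟨x, hNg hx⟩).1 hx
          · intro hx
            have hxH : x ∈ H := by
              have := mul_mem (mul_mem (inv_mem l.2) (hNg hx)) l.2
              simpa [mul_assoc] using this
            exact (h2 ⟨x, hxH⟩).2 hx
      intro hbot
      rw [hbot, le_bot_iff, map_eq_bot_iff_of_injective _ H.subtype_injective] at hle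
      exact hL1 hle
    have hMA := (hmin M hMn inf_le_left).resolve_left hMne
    intro a ha
    have := mem_iInf.1 (mem_inf.1 (hMA.symm ▸ ha : a ∈ M)).2 1
    have h1 : N.map (MulAut.conj (1 : G)).toMonoidHom = N := by
      rw [map_one]; exact Subgroup.map_id N
    rwa [h1] at this

theorem le_normalCore_of_isSubnormal (n : ℕ) : ∀ (G : Type u) [Group G] [Finite G],
    Nat.card G = n → ∀ M N : Subgroup G, IsCoatom M → N.IsSubnormal → N ≤ M →
      N ≤ M.normalCore := by
  induction n using Nat.strong_induction_on with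
  | h n ih =>
  intro G _ _ hn M N hM hN hNM
  obtain ⟨A, -, hA, hA1, hmin⟩ := exists_minimal_normal (⊤ : Subgroup G) (by
    intro h
    exact hM.1 (le_antisymm le_top (h ▸ bot_le)))
  by_cases hAM : A ≤ M
  · have hlt : Nat.card (G ⧸ A) < n := by
      rw [← hn, ← index_eq_card, ← card_mul_index A]
      exact lt_mul_of_one_lt_left (Nat.pos_of_ne_zero index_ne_zero_of_finite)
        ((one_lt_card_iff_ne_bot A).2 hA1)
    have hM' : IsCoatom (M.map (QuotientGroup.mk' A)) := by
      refine ⟨fun h => hM.1 ?_, fun K hK => ?_⟩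
      · have := congrArg (comap (QuotientGroup.mk' A)) h
        rwa [comap_map_eq, QuotientGroup.ker_mk', sup_of_le_left hAM, comap_top] at this
      · have h1 : M < K.comap (QuotientGroup.mk' A) := by
          refine lt_of_le_not_ge (map_le_iff_le_comap.1 hK.le) fun h => hK.not_ge ?_
          rw [← map_comap_eq_self_of_surjective (QuotientGroup.mk'_surjective A) K]
          exact map_mono h
        rw [← map_comap_eq_self_of_surjective (QuotientGroup.mk'_surjective A) K, hM.2 _ h1,
          map_top_of_surjective _ (QuotientGroup.mk'_surjective A)]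
    have h := ih _ hlt (G ⧸ A) rfl _ _ hM' (hN.map (QuotientGroup.mk'_surjective A))
      (map_mono hNM)
    intro x hx b
    have h1 := h (mem_map_of_mem (QuotientGroup.mk' A) hx) (QuotientGroup.mk' A b)
    rw [← map_inv, ← map_mul, ← map_mul] at h1
    have h2 : b * x * b⁻¹ ∈ (M.map (QuotientGroup.mk' A)).comap (QuotientGroup.mk' A) := h1
    rwa [comap_map_eq, QuotientGroup.ker_mk', sup_of_le_left hAM] at h2
  · have htop : M ⊔ A = ⊤ := hM.2 _ (left_lt_sup.2 hAM)
    have hAN := minimal_normal_le_normalizer n G hn N A hN hA hmin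
    intro x hx b
    have hb : b ∈ M ⊔ A := htop ▸ mem_top b
    obtain ⟨m, hm, a, ha, rfl⟩ := mem_sup_of_normal_right.1 hb
    have h1 := hNM ((mem_normalizer_iff.1 (hAN ha) x).1 hx)
    have h2 := mul_mem (mul_mem hm h1) (inv_mem hm)
    simpa [mul_assoc] using h2


/-- Let G be a finite group, M a maximal subgroup of G and N a subnormal subgroup of G contained in M. Then N is contained in every conjugate of M, that is, N lies in the core of M in G. -/
theorem result {G : Type*} [Group G] [Finite G] (M N : Subgroup G) (hM : IsCoatom M) (hN : N.IsSubnormal) (hNM : N ≤ M) :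
    N ≤ Subgroup.normalCore M := by
  exact le_normalCore_of_isSubnormal _ G rfl M N hM hN hNM


end Cfsg.Agent.S3802
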