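import Cfsg.Statements.S3803
import Cfsg.Agent.Lib.Coprime.OmegaTwo
import Cfsg.Agent.Lib.Coprime.Commutator
import Cfsg.Agent.Lib.PGroup.Basic


set_option autoImplicit false
open Cfsg

namespace Cfsg.Agent.S3803


open Subgroup

universe u
variable {X : Type u} [Group X] [Finite X]

theorem cyclic_centralized {A C : Subgroup X} (hA : Odd (Nat.card A)) (hC : IsPGroup 2 C) (hcyc : IsCyclic C)
    (hn : A ≤ normalizer (C : Set X)) : A ≤ centralizer (C : Set X) := by
  intro a ha
  haveI : Fact (Nat.Prime 2) := ⟨Nat.prime_two⟩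
  obtain ⟨k, hk⟩ := hC.exists_card_eq
  let f := C.normalizerMonoidHom.comp (Subgroup.inclusion hn)
  have h1 : orderOf (f ⟨a, ha⟩) ∣ Nat.card A := (orderOf_map_dvd f _).trans (_root_.orderOf_dvd_natCard _)
  have h2 : orderOf (f ⟨a, ha⟩) ∣ 2 ^ k := by
    refine (_root_.orderOf_dvd_natCard _).trans ?_
    rw [hcyc.card_mulAut, hk]
    rcases k with _ | k
    · simp
    · rw [Nat.totient_prime_pow_succ Nat.prime_two]
      exact ⟨2, by ring⟩
  have h3 : orderOf (f ⟨a, ha⟩) = 1 :=
    Nat.eq_one_of_dvd_coprimes ((hA.coprime_two_right).pow_right k) h1 h2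
  have h4 : Subgroup.inclusion hn ⟨a, ha⟩ ∈ (C.normalizerMonoidHom).ker := orderOf_eq_one_iff.1 h3
  rw [Subgroup.normalizerMonoidHom_ker] at h4
  exact h4

theorem le_normalizer_frattini {A P : Subgroup X} (hAP : A ≤ normalizer (P : Set X)) :
    A ≤ normalizer (((frattini P).map P.subtype : Subgroup X) : Set X) := by
  intro a ha
  refine Subgroup.mem_normalizer_fintype ?_
  rintro _ ⟨k, hk, rfl⟩
  exact ⟨Subgroup.normalizerMonoidHom P ⟨a, hAP ha⟩ k,
    Subgroup.characteristic_iff_map_le.mp (inferInstance : (frattini P).Characteristic)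
      (Subgroup.normalizerMonoidHom P ⟨a, hAP ha⟩) (Subgroup.mem_map_of_mem _ hk), rfl⟩

theorem card_lt_of_lt {H K : Subgroup X} (h : H < K) : Nat.card H < Nat.card K :=
  lt_of_le_of_ne (card_le_of_le h.le) fun e => h.ne (eq_of_le_of_card_ge h.le e.ge)

/-- All subgroups of `P` above `frattini P` of order at most `2 ^ j` are invariant. -/
theorem inv_above_frattini (A P : Subgroup X) (hP : IsPGroup 2 P) (j : ℕ) (hlt : 2 ^ j < Nat.card P)
    (hinv : ∀ E : Subgroup P, Nat.card E = 2 ^ j → A ≤ normalizer ((E.map P.subtype : Subgroup X) : Set X)) :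
    ∀ m, ∀ F : Subgroup P, frattini P ≤ F → ∀ i, Nat.card F = 2 ^ i → i + m = j →
        A ≤ normalizer ((F.map P.subtype : Subgroup X) : Set X) := by
  haveI : Fact (Nat.Prime 2) := ⟨Nat.prime_two⟩
  intro m
  induction m with
  | zero =>
    intro F _ i hi hij
    exact hinv F (by rw [hi, ← hij, add_zero])
  | succ m ihm =>
    intro F hΦF i hi hij
    have hpow : 2 ^ (i + 1) ≤ 2 ^ j := Nat.pow_le_pow_right (by norm_num) (by omega)
    have hex : ∀ H : Subgroup P, Nat.card H ≤ 2 ^ j → ∃ y, y ∉ H := by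
      intro H hH
      by_contra h
      push Not at h
      rw [show H = ⊤ from eq_top_iff.2 fun y _ => h y, card_top] at hH
      omega
    obtain ⟨y₁, hy₁⟩ := hex F (hi ▸ le_trans (Nat.pow_le_pow_right (by norm_num) (by omega)) hpow)
    have hs : ∀ y, y ∉ F → Nat.card ↥(F ⊔ zpowers y) = 2 ^ (i + 1) := fun y hy => by
      rw [Agent.PGroup.card_sup_zpowers_frattini hP hΦF hy, hi, pow_succ]
    obtain ⟨y₂, hy₂⟩ := hex (F ⊔ zpowers y₁) (hs y₁ hy₁ ▸ hpow)
    have h2 := hs y₂ fun h => hy₂ (mem_sup_left h)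
    have hinf : (F ⊔ zpowers y₁) ⊓ (F ⊔ zpowers y₂) = F := by
      refine (eq_of_le_of_card_ge (le_inf le_sup_left le_sup_left) ?_).symm
      obtain ⟨r, hr⟩ := Agent.PGroup.card_eq_pow hP ((F ⊔ zpowers y₁) ⊓ (F ⊔ zpowers y₂))
      rw [hr, hi]
      refine Nat.pow_le_pow_right (by norm_num) (Nat.le_of_lt_succ ?_)
      refine (Nat.pow_lt_pow_iff_right (a := 2) (by norm_num)).1 ?_
      rw [← hr, ← h2]
      refine lt_of_le_of_ne (card_le_of_le inf_le_right) fun h => hy₂ ?_
      have he : (F ⊔ zpowers y₁) ⊓ (F ⊔ zpowers y₂) = F ⊔ zpowers y₂ := eq_of_le_of_card_ge inf_le_right h.ge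
      exact inf_eq_right.1 he (mem_sup_right (mem_zpowers y₂))
    intro a ha
    have i1 := ihm _ (hΦF.trans le_sup_left) _ (hs y₁ hy₁) (by omega) ha
    have i2 := ihm _ (hΦF.trans le_sup_left) _ h2 (by omega) ha
    rw [← hinf, map_inf _ _ _ P.subtype_injective]
    rw [Subgroup.mem_normalizer_iff] at i1 i2 ⊢
    intro g
    simp only [Subgroup.mem_inf, ← i1 g, ← i2 g]

theorem key (A : Subgroup X) (hA : Odd (Nat.card A)) (j : ℕ) (n : ℕ) : ∀ (P : Subgroup X), Nat.card P = n →
    IsPGroup 2 P → A ≤ normalizer (P : Set X) → 1 ≤ j → 2 ^ j < Nat.card P →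
    (∀ E : Subgroup X, E ≤ P → (Nat.card E = 2 ^ j ∨ (2 ^ j = 2 ∧ Nat.card E = 4)) → A ≤ normalizer (E : Set X)) →
    A ≤ centralizer (P : Set X) := by
  induction n using Nat.strong_induction_on with
  | _ n ih =>
  intro P hn hP hAP hj hlt hinv
  haveI : Fact (Nat.Prime 2) := ⟨Nat.prime_two⟩
  obtain rfl | hj2 := hj.eq_or_lt
  · refine Agent.Coprime.le_centralizer_of_fix_pow_four_eq_one P A hP hAP hA fun x hx hx4 => ?_
    have hle : zpowers x ≤ P := zpowers_le.2 hx
    have hC : A ≤ centralizer ((zpowers x : Subgroup X) : Set X) := by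
      refine cyclic_centralized hA (hP.to_le hle) inferInstance ?_
      have hmem : orderOf x ∈ Nat.divisors 4 :=
        Nat.mem_divisors.2 ⟨orderOf_dvd_of_pow_eq_one hx4, by norm_num⟩
      rw [show Nat.divisors 4 = {1, 2, 4} by decide] at hmem
      simp only [Finset.mem_insert, Finset.mem_singleton] at hmem
      rcases hmem with h | h | h
      · rw [orderOf_eq_one_iff.1 h, zpowers_one_eq_bot]
        intro a _
        exact Subgroup.mem_normalizer_fintype (by simp)
      · exact hinv _ hle (Or.inl (by rw [Nat.card_zpowers, h, pow_one]))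
      · exact hinv _ hle (Or.inr ⟨pow_one 2, by rw [Nat.card_zpowers, h]⟩)
    exact hC.trans (centralizer_le (by simp))
  have hmap : ∀ E : Subgroup P, Nat.card ↥(E.map P.subtype) = Nat.card E := fun E =>
    card_map_of_injective P.subtype_injective
  have hinvP : ∀ E : Subgroup P, Nat.card E = 2 ^ j → A ≤ normalizer ((E.map P.subtype : Subgroup X) : Set X) :=
    fun E h => hinv _ (map_subtype_le E) (Or.inl ((hmap E).trans h))
  by_cases hA1 : ∃ E : Subgroup P, Nat.card E = 2 ^ j ∧ frattini P < E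
  · obtain ⟨E0, hE0, hE0Φ⟩ := hA1
    obtain ⟨f, hf⟩ := Agent.PGroup.card_eq_pow hP (frattini P)
    have hfj : f < j := by
      refine (Nat.pow_lt_pow_iff_right (a := 2) (by norm_num)).1 ?_
      rw [← hf, ← hE0]
      exact lt_of_le_of_ne (card_le_of_le hE0Φ.le) fun e => hE0Φ.ne (eq_of_le_of_card_ge hE0Φ.le e.ge)
    refine Agent.Coprime.le_centralizer_of_frattini hAP ?_ fun a ha k hk => ?_
    · rw [hf]; exact hA.coprime_two_right.pow_right f
    have hAΦ := le_normalizer_frattini hAP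
    by_cases hkΦ : (⟨k, hk⟩ : P) ∈ frattini P
    · exact mul_mem ((Subgroup.mem_normalizer_iff.1 (hAΦ ha) k).1 ⟨_, hkΦ, rfl⟩) (inv_mem ⟨_, hkΦ, rfl⟩)
    set F := frattini P ⊔ zpowers (⟨k, hk⟩ : P) with hFdef
    have hFc : Nat.card F = 2 ^ (f + 1) := by
      rw [hFdef, Agent.PGroup.card_sup_zpowers_frattini hP le_rfl hkΦ, hf, pow_succ]
    have hFn := inv_above_frattini A P hP j hlt hinvP (j - (f + 1)) F le_sup_left (f + 1) hFc (by omega) ha
    obtain ⟨k', hk', hkk'⟩ :=
      (Subgroup.mem_normalizer_iff.1 hFn k).1 ⟨⟨k, hk⟩, mem_sup_right (mem_zpowers _), rfl⟩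
    have hk'Φ : k' ∉ frattini P := fun h => hkΦ (by
      obtain ⟨w, hw, hwk⟩ := (Subgroup.mem_normalizer_iff.1 (hAΦ ha) k).2 ⟨k', h, hkk'⟩
      rwa [show (⟨k, hk⟩ : P) = w from Subtype.ext hwk.symm])
    have hidx : (frattini P).relIndex F = 2 := by
      have h := card_mul_index ((frattini P).subgroupOf F)
      rw [Nat.card_congr (subgroupOfEquivOfLe (show frattini P ≤ F from le_sup_left)).toEquiv, hf, hFc, pow_succ] at h
      exact Nat.eq_of_mul_eq_mul_left (by positivity) h
    have h5 := (mul_mem_iff_of_index_two hidx (a := (⟨k', hk'⟩ : F))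
      (b := (⟨⟨k, hk⟩, mem_sup_right (mem_zpowers _)⟩ : F)⁻¹)).2 (by simp [mem_subgroupOf, hk'Φ, hkΦ])
    rw [mem_subgroupOf] at h5
    exact ⟨_, h5, by simpa using hkk'⟩
  push Not at hA1
  have hex : ∀ C : Subgroup P, Nat.card C ∣ 2 ^ j → ∃ E : Subgroup P, Nat.card E = 2 ^ j ∧ C ≤ E := by
    intro C hC
    obtain ⟨c, hc⟩ := Agent.PGroup.card_eq_pow hP C
    obtain ⟨t, ht⟩ := hP.exists_card_eq
    refine Sylow.exists_subgroup_card_pow_prime_le 2 ?_ C hc
      ((Nat.pow_dvd_pow_iff_le_right (by norm_num)).1 (hc ▸ hC))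
    rw [ht] at hlt ⊢
    exact pow_dvd_pow _ ((Nat.pow_lt_pow_iff_right (by norm_num)).1 hlt).le
  have hE : ∀ E : Subgroup P, Nat.card E = 2 ^ j → E ≠ frattini P →
      A ≤ centralizer (((E ⊔ frattini P).map P.subtype : Subgroup X) : Set X) := by
    intro E hcE hne
    have hlt' : E < E ⊔ frattini P := left_lt_sup.2 fun h => hA1 E hcE (h.lt_of_ne (Ne.symm hne))
    have hneT : E ⊔ frattini P ≠ ⊤ := fun h => by
      rw [frattini_nongenerating h, card_top] at hcE
      omega
    refine ih _ ?_ _ rfl (hP.to_le (map_subtype_le _)) ?_ hj2.le ?_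
      fun E' hE' h => hinv E' (hE'.trans (map_subtype_le _)) h
    · rw [hmap, ← hn, ← card_top (G := P)]
      exact card_lt_of_lt (lt_top_iff_ne_top.2 hneT)
    · intro a ha
      have i1 := Subgroup.mem_normalizer_iff_map_conj_eq.1 (hinvP E hcE ha)
      have i2 := Subgroup.mem_normalizer_iff_map_conj_eq.1 (le_normalizer_frattini hAP ha)
      exact Subgroup.mem_normalizer_iff_map_conj_eq.2 (by rw [Subgroup.map_sup, Subgroup.map_sup, i1, i2])
    · rw [hmap, ← hcE]; exact card_lt_of_lt hlt'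
  have hcent : ∀ E : Subgroup P, Nat.card E = 2 ^ j →
      A ≤ centralizer ((E.map P.subtype : Subgroup X) : Set X) := by
    intro E hcE
    by_cases hne : E = frattini P
    · subst hne
      by_cases hex' : ∃ E : Subgroup P, Nat.card E = 2 ^ j ∧ E ≠ frattini P
      · obtain ⟨E', h1, h2⟩ := hex'
        exact (hE E' h1 h2).trans (centralizer_le (map_mono le_sup_right))
      push Not at hex'
      obtain ⟨x, hx⟩ : ∃ x, x ∉ frattini P := by
        by_contra h
        push Not at h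
        rw [show frattini P = ⊤ from eq_top_iff.2 fun y _ => h y, card_top] at hcE
        omega
      obtain ⟨r, hr⟩ := Agent.PGroup.card_eq_pow hP (zpowers x)
      have hjr : j ≤ r := by
        by_contra h
        obtain ⟨E, h1, h2⟩ := hex (zpowers x) (hr ▸ pow_dvd_pow _ (by omega))
        exact hx (hex' E h1 ▸ h2 (mem_zpowers x))
      rw [Nat.card_zpowers] at hr
      have hy : orderOf (x ^ 2 ^ (r - j)) = 2 ^ j := by
        rw [orderOf_pow_of_dvd (by positivity) (hr ▸ pow_dvd_pow _ (by omega)), hr,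
          Nat.pow_div (by omega) (by norm_num), Nat.sub_sub_self hjr]
      have hΦc : frattini P = zpowers (x ^ 2 ^ (r - j)) :=
        (hex' _ (by rw [Nat.card_zpowers, hy])).symm
      refine cyclic_centralized hA (hP.to_le (map_subtype_le _)) ?_ (hinvP _ hcE)
      rw [hΦc, MonoidHom.map_zpowers]
      infer_instance
    · exact (hE E hcE hne).trans (centralizer_le (map_mono le_sup_left))
  refine Agent.Coprime.le_centralizer_of_fix_pow_four_eq_one P A hP hAP hA fun x hx hx4 => ?_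
  obtain ⟨E, h1, h2⟩ := hex (zpowers (⟨x, hx⟩ : P)) (by
    rw [Nat.card_zpowers, ← Subgroup.orderOf_coe]
    refine (orderOf_dvd_of_pow_eq_one hx4).trans ?_
    exact pow_dvd_pow 2 (show 2 ≤ j by omega))
  intro a ha
  exact Subgroup.mem_centralizer_singleton_iff.2
    (Subgroup.mem_centralizer_iff.1 (hcent E h1 ha) x ⟨⟨x, hx⟩, h2 (mem_zpowers _), rfl⟩).symm


/-- Let P be a 2-subgroup and A a subgroup of odd order of a finite group, with A normalizing P. Let D ≤ P with 1 < |D| < |P|. If every subgroup of P of order |D|, and also every subgroup of P of order 4 in case |D| = 2, is normalized by A, then A centralizes P. -/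
theorem result {X : Type*} [Group X] [Finite X] (P A D : Subgroup X) (hP : IsPGroup 2 P) (hA : Odd (Nat.card A))
    (hAP : A ≤ Subgroup.normalizer (P : Set X)) (hDP : D ≤ P) (hD1 : 1 < Nat.card D) (hD2 : Nat.card D < Nat.card P)
    (hinv : ∀ E : Subgroup X, E ≤ P → (Nat.card E = Nat.card D ∨ (Nat.card D = 2 ∧ Nat.card E = 4)) → A ≤ Subgroup.normalizer (E : Set X)) :
    A ≤ Subgroup.centralizer (P : Set X) := by
  haveI : Fact (Nat.Prime 2) := ⟨Nat.prime_two⟩
  obtain ⟨j, hj⟩ := (hP.to_le hDP).exists_card_eq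
  rw [hj] at hD1 hD2 hinv
  refine key A hA j _ P rfl hP hAP ?_ hD2 hinv
  rcases j with _ | j
  · simp at hD1
  · omega

end Cfsg.Agent.S3803
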