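import Cfsg.Statements.S3804
import Mathlib.GroupTheory.Index
import Mathlib.Analysis.SpecialFunctions.Pow.Real


set_option autoImplicit false
open Cfsg

namespace Cfsg.Agent.S3804

/-- `|A||B| ≤ |A ⊔ B||A ⊓ B|`, with equality only if `A ⊔ B = AB`. -/
theorem card_sup_inequality {X : Type*} [Group X] [Finite X] (A B : Subgroup X) :
    Nat.card A * Nat.card B ≤ Nat.card ↥(A ⊔ B) * Nat.card ↥(A ⊓ B) ∧
    (Nat.card A * Nat.card B = Nat.card ↥(A ⊔ B) * Nat.card ↥(A ⊓ B) →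
      ∀ x ∈ A ⊔ B, ∃ a ∈ A, ∃ b ∈ B, x = a * b) := by
  have hA : Nat.card ↥(A ⊓ B) * B.relIndex A = Nat.card A := by
    rw [← Subgroup.inf_relIndex_left, ← Subgroup.relIndex_bot_left,
      Subgroup.relIndex_mul_relIndex _ _ _ bot_le inf_le_left, Subgroup.relIndex_bot_left]
  have hS : Nat.card B * B.relIndex (A ⊔ B) = Nat.card ↥(A ⊔ B) := by
    rw [← Subgroup.relIndex_bot_left, Subgroup.relIndex_mul_relIndex _ _ _ bot_le le_sup_right,
      Subgroup.relIndex_bot_left]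
  have hne : B.relIndex (A ⊔ B) ≠ 0 := Subgroup.index_ne_zero_of_finite
  have hle : B.relIndex A ≤ B.relIndex (A ⊔ B) := Subgroup.relIndex_le_of_le_right le_sup_left hne
  constructor
  · rw [← hA, ← hS]
    calc _ = Nat.card ↥(A ⊓ B) * Nat.card B * B.relIndex A := by ring
      _ ≤ Nat.card ↥(A ⊓ B) * Nat.card B * B.relIndex (A ⊔ B) := Nat.mul_le_mul_left _ hle
      _ = _ := by ring
  · intro h x hx
    rw [← hA, ← hS] at h
    have heq : B.relIndex A = B.relIndex (A ⊔ B) := by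
      refine Nat.eq_of_mul_eq_mul_left (n := Nat.card ↥(A ⊓ B) * Nat.card B)
        (Nat.mul_pos Nat.card_pos Nat.card_pos) ?_
      linarith
    let e := Subgroup.quotientSubgroupOfEmbeddingOfLE B (le_sup_left : A ≤ A ⊔ B)
    have hsurj : Function.Surjective e :=
      (Function.Embedding.injective e).bijective_of_nat_card_le heq.ge |>.2
    obtain ⟨a, ha⟩ := hsurj (QuotientGroup.mk ⟨x, hx⟩)
    induction a using QuotientGroup.induction_on with
    | _ a =>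
    refine ⟨a, a.2, (a : X)⁻¹ * x, ?_, by rw [mul_inv_cancel_left]⟩
    rw [Subgroup.quotientSubgroupOfEmbeddingOfLE_apply_mk, QuotientGroup.eq] at ha
    exact ha


/-- Let G and H be subgroups of a finite group with G normalizing H, fix a real number α > 0, and for a subgroup A of G put m(A) = |A|^α · |C_H(A)|. Let A and B be nontrivial subgroups of G at which m attains its maximum over all nontrivial subgroups of G, and assume that A ∩ B ≠ 1 or that this maximum is at least |H|. Then AB = BA is a subgroup at which m is again maximal, C_H(A ∩ B) = C_H(A) C_H(B), and if A ∩ B ≠ 1 then m is maximal at A ∩ B as well. -/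
theorem result {X : Type*} [Group X] [Finite X] (G H : Subgroup X) (hGH : G ≤ Subgroup.normalizer (H : Set X)) (α : ℝ) (hα : 0 < α)
    (A B : Subgroup X) (hA : A ≤ G) (hB : B ≤ G) (hA1 : A ≠ ⊥) (hB1 : B ≠ ⊥)
    (hAmax : ∀ A' : Subgroup X, A' ≤ G → A' ≠ ⊥ → (fun A : Subgroup X => ((Nat.card A : ℝ) ^ α) * (Nat.card ↥(H ⊓ Subgroup.centralizer (A : Set X)) : ℝ)) A' ≤ (fun A : Subgroup X => ((Nat.card A : ℝ) ^ α) * (Nat.card ↥(H ⊓ Subgroup.centralizer (A : Set X)) : ℝ)) A)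
    (hBmax : ∀ A' : Subgroup X, A' ≤ G → A' ≠ ⊥ → (fun A : Subgroup X => ((Nat.card A : ℝ) ^ α) * (Nat.card ↥(H ⊓ Subgroup.centralizer (A : Set X)) : ℝ)) A' ≤ (fun A : Subgroup X => ((Nat.card A : ℝ) ^ α) * (Nat.card ↥(H ⊓ Subgroup.centralizer (A : Set X)) : ℝ)) B)
    (hcase : A ⊓ B ≠ ⊥ ∨ (Nat.card H : ℝ) ≤ (fun A : Subgroup X => ((Nat.card A : ℝ) ^ α) * (Nat.card ↥(H ⊓ Subgroup.centralizer (A : Set X)) : ℝ)) A) :
    (∀ a ∈ A, ∀ b ∈ B, ∃ b' ∈ B, ∃ a' ∈ A, a * b = b' * a') ∧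
    (∀ A' : Subgroup X, A' ≤ G → A' ≠ ⊥ → (fun A : Subgroup X => ((Nat.card A : ℝ) ^ α) * (Nat.card ↥(H ⊓ Subgroup.centralizer (A : Set X)) : ℝ)) A' ≤ (fun A : Subgroup X => ((Nat.card A : ℝ) ^ α) * (Nat.card ↥(H ⊓ Subgroup.centralizer (A : Set X)) : ℝ)) (A ⊔ B)) ∧
    (∀ h ∈ H ⊓ Subgroup.centralizer ((A ⊓ B : Subgroup X) : Set X), ∃ u ∈ H ⊓ Subgroup.centralizer (A : Set X), ∃ v ∈ H ⊓ Subgroup.centralizer (B : Set X), h = u * v) ∧
    (A ⊓ B ≠ ⊥ → ∀ A' : Subgroup X, A' ≤ G → A' ≠ ⊥ → (fun A : Subgroup X => ((Nat.card A : ℝ) ^ α) * (Nat.card ↥(H ⊓ Subgroup.centralizer (A : Set X)) : ℝ)) A' ≤ (fun A : Subgroup X => ((Nat.card A : ℝ) ^ α) * (Nat.card ↥(H ⊓ Subgroup.centralizer (A : Set X)) : ℝ)) (A ⊓ B)) := by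
  simp only at hAmax hBmax hcase ⊢
  set m : Subgroup X → ℝ := fun A' => ((Nat.card A' : ℝ) ^ α) *
    (Nat.card ↥(H ⊓ Subgroup.centralizer (A' : Set X)) : ℝ) with hm
  set CA := H ⊓ Subgroup.centralizer (A : Set X) with hCA
  set CB := H ⊓ Subgroup.centralizer (B : Set X) with hCB
  set CI := H ⊓ Subgroup.centralizer ((A ⊓ B : Subgroup X) : Set X) with hCI
  have hMeq : m A = m B := le_antisymm (hBmax A hA hA1) (hAmax B hB hB1)
  have hpos : ∀ A' : Subgroup X, 0 < m A' := fun A' =>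
    mul_pos (Real.rpow_pos_of_pos (by exact_mod_cast Nat.card_pos) α) (by exact_mod_cast Nat.card_pos)
  have hne : A ⊔ B ≠ ⊥ := ne_bot_of_le_ne_bot hA1 le_sup_left
  have hup : m (A ⊔ B) ≤ m A := hAmax _ (sup_le hA hB) hne
  have hlow : m (A ⊓ B) ≤ m A := by
    rcases eq_or_ne (A ⊓ B) ⊥ with h | h
    · rcases hcase with h' | h'
      · exact absurd h h'
      · refine le_trans ?_ h'
        simp only [hm, h]
        rw [Subgroup.card_bot, Nat.cast_one, Real.one_rpow, one_mul]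
        exact_mod_cast Subgroup.card_le_of_le inf_le_left
    · exact hAmax _ (inf_le_left.trans hA) h
  have hCsup : H ⊓ Subgroup.centralizer ((A ⊔ B : Subgroup X) : Set X) = CA ⊓ CB := by
    ext x
    simp only [hCA, hCB, Subgroup.mem_inf]
    constructor
    · exact fun h => ⟨⟨h.1, Subgroup.centralizer_le (SetLike.coe_subset_coe.2 le_sup_left) h.2⟩,
        ⟨h.1, Subgroup.centralizer_le (SetLike.coe_subset_coe.2 le_sup_right) h.2⟩⟩
    · rintro ⟨⟨hx, h1⟩, ⟨-, h2⟩⟩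
      refine ⟨hx, Subgroup.mem_centralizer_iff.2 fun g hg => ?_⟩
      have h3 : A ⊔ B ≤ Subgroup.centralizer {x} := sup_le
        (fun a ha => Subgroup.mem_centralizer_singleton_iff.2 (Subgroup.mem_centralizer_iff.1 h1 a ha))
        (fun b hb => Subgroup.mem_centralizer_singleton_iff.2 (Subgroup.mem_centralizer_iff.1 h2 b hb))
      exact Subgroup.mem_centralizer_singleton_iff.1 (h3 hg)
  have hCsub : CA ⊔ CB ≤ CI := sup_le (inf_le_inf_left _ (Subgroup.centralizer_le inf_le_left))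
    (inf_le_inf_left _ (Subgroup.centralizer_le inf_le_right))
  obtain ⟨hi1, he1⟩ := card_sup_inequality A B
  obtain ⟨hi2, he2⟩ := card_sup_inequality CA CB
  have hi3 : Nat.card CA * Nat.card CB ≤ Nat.card CI * Nat.card ↥(CA ⊓ CB) :=
    hi2.trans (Nat.mul_le_mul_right _ (Subgroup.card_le_of_le hCsub))
  have hmul : ∀ U V : Subgroup X, m U * m V = ((Nat.card U * Nat.card V : ℕ) : ℝ) ^ α *
      ((Nat.card ↥(H ⊓ Subgroup.centralizer (U : Set X)) * Nat.card ↥(H ⊓ Subgroup.centralizer (V : Set X)) : ℕ) : ℝ) := by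
    intro U V
    simp only [hm, Nat.cast_mul, Real.mul_rpow (Nat.cast_nonneg _) (Nat.cast_nonneg _)]
    ring
  have hAB := hmul A B
  have hSI := hmul (A ⊔ B) (A ⊓ B)
  rw [hCsup, mul_comm (Nat.card ↥(CA ⊓ CB))] at hSI
  rw [← hCA, ← hCB] at hAB
  rw [← hCI] at hSI
  have hge : m A * m B ≤ m (A ⊔ B) * m (A ⊓ B) := by
    rw [hAB, hSI]
    exact mul_le_mul (Real.rpow_le_rpow (Nat.cast_nonneg _) (by exact_mod_cast hi1) hα.le)
      (by exact_mod_cast hi3) (Nat.cast_nonneg _) (by positivity)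
  have hS : m (A ⊔ B) = m A := by
    refine le_antisymm hup (le_of_mul_le_mul_right ?_ (hpos (A ⊓ B)))
    calc m A * m (A ⊓ B) ≤ m A * m B := mul_le_mul_of_nonneg_left (hMeq ▸ hlow) (hpos A).le
      _ ≤ _ := hge
  have hI : m (A ⊓ B) = m A := by
    refine le_antisymm hlow ?_
    rw [hS, ← hMeq] at hge
    exact le_of_mul_le_mul_left hge (hpos A)
  have heq : m A * m B = m (A ⊔ B) * m (A ⊓ B) := by rw [hS, hI, ← hMeq]
  rw [hAB, hSI] at heq
  have e1 : Nat.card A * Nat.card B = Nat.card ↥(A ⊔ B) * Nat.card ↥(A ⊓ B) := by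
    refine le_antisymm hi1 (le_of_not_gt fun hlt => ?_)
    have : ((Nat.card A * Nat.card B : ℕ) : ℝ) ^ α <
        ((Nat.card ↥(A ⊔ B) * Nat.card ↥(A ⊓ B) : ℕ) : ℝ) ^ α :=
      Real.rpow_lt_rpow (Nat.cast_nonneg _) (by exact_mod_cast hlt) hα
    have h2 := mul_lt_mul this (Nat.cast_le (α := ℝ).2 hi3)
      (by exact_mod_cast Nat.mul_pos Nat.card_pos Nat.card_pos) (by positivity)
    exact h2.ne heq
  have e2 : Nat.card CA * Nat.card CB = Nat.card CI * Nat.card ↥(CA ⊓ CB) := by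
    rw [e1] at heq
    exact_mod_cast mul_left_cancel₀ (ne_of_gt (Real.rpow_pos_of_pos
      (by exact_mod_cast Nat.mul_pos Nat.card_pos Nat.card_pos) α)) heq
  refine ⟨fun a ha b hb => ?_, fun A' h1 h2 => (hAmax A' h1 h2).trans hS.ge, fun h hh => ?_,
    fun _ A' h1 h2 => (hAmax A' h1 h2).trans hI.ge⟩
  · obtain ⟨a', ha', b', hb', h⟩ := he1 e1 _ (inv_mem (Subgroup.mul_mem_sup ha hb))
    refine ⟨b'⁻¹, inv_mem hb', a'⁻¹, inv_mem ha', ?_⟩
    rw [← mul_inv_rev, ← h, inv_inv]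
  · have e3 : Nat.card CA * Nat.card CB = Nat.card ↥(CA ⊔ CB) * Nat.card ↥(CA ⊓ CB) :=
      le_antisymm hi2 (e2 ▸ Nat.mul_le_mul_right _ (Subgroup.card_le_of_le hCsub))
    have h4 : CA ⊔ CB = CI := Subgroup.eq_of_le_of_card_ge hCsub
      (Nat.le_of_mul_le_mul_right (le_of_eq (e2.symm.trans e3)) Nat.card_pos)
    exact he2 e3 h (h4 ▸ hh)


end Cfsg.Agent.S3804
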