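import Cfsg.Statements.S3806
import Cfsg.Agent.Lib.Pearl.Layers
import Cfsg.Agent.S4225
import Cfsg.Agent.S4209
import Cfsg.Agent.Lib.Coprime.Basic

set_option autoImplicit false
set_option linter.style.haveILetI false
open Cfsg

namespace Cfsg.Agent.S3806

open scoped commutatorElement

section Cover

variable {G : Type*} [Group G] [Finite G] {p : ℕ} [hp : Fact p.Prime]

/-- A `p`-group is not covered by `p` proper subgroups. -/
theorem exists_not_mem (hG : IsPGroup p G) {ι : Type*} (s : Finset ι) (K : ι → Subgroup G)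
    (hs : s.card ≤ p) (hK : ∀ i ∈ s, K i ≠ ⊤) (h1 : Nat.card G ≠ 1) : ∃ x, ∀ i ∈ s, x ∉ K i := by
  classical
  by_contra hcon
  push Not at hcon
  haveI : Fintype G := Fintype.ofFinite G
  obtain ⟨n, hn⟩ := IsPGroup.iff_card.1 hG
  obtain ⟨m, rfl⟩ : ∃ m, n = m + 1 := Nat.exists_eq_succ_of_ne_zero fun h => h1 (by rw [hn, h, pow_zero])
  have hKc : ∀ i ∈ s, Nat.card (K i) ≤ p ^ m := fun i hi => by
    obtain ⟨j, hj⟩ := IsPGroup.iff_card.1 (hG.to_subgroup (K i))
    rw [hj]
    refine Nat.pow_le_pow_right hp.out.pos (Nat.lt_succ_iff.1 ?_)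
    have hlt : Nat.card (K i) < Nat.card G :=
      lt_of_le_of_ne (Subgroup.card_le_card_group _) fun h => hK i hi ((K i).eq_top_of_card_eq h)
    rw [hn, hj] at hlt
    exact (Nat.pow_lt_pow_iff_right hp.out.one_lt).1 hlt
  have hcov : (Finset.univ : Finset G).erase 1 ⊆
      s.biUnion fun i => ((Finset.univ : Finset G).filter fun x => x ∈ K i).erase 1 := fun x hx => by
    obtain ⟨i, hi, hxi⟩ := hcon x
    exact Finset.mem_biUnion.2 ⟨i, hi, Finset.mem_erase.2
      ⟨Finset.ne_of_mem_erase hx, Finset.mem_filter.2 ⟨Finset.mem_univ _, hxi⟩⟩⟩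
  have h := (Finset.card_le_card hcov).trans Finset.card_biUnion_le
  rw [Finset.card_erase_of_mem (Finset.mem_univ _), Finset.card_univ, ← Nat.card_eq_fintype_card,
    hn] at h
  have h' : ∀ i ∈ s, (((Finset.univ : Finset G).filter fun x => x ∈ K i).erase 1).card ≤ p ^ m - 1 := by
    intro i hi
    have hmem : (1 : G) ∈ (Finset.univ : Finset G).filter fun x => x ∈ K i :=
      Finset.mem_filter.2 ⟨Finset.mem_univ _, one_mem _⟩
    rw [Finset.card_erase_of_mem hmem]
    refine Nat.sub_le_sub_right ?_ 1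
    rw [← Fintype.card_subtype]
    exact (Nat.card_eq_fintype_card (α := {x // x ∈ K i})).symm.le.trans (hKc i hi)
  have hle : p ^ (m + 1) - 1 ≤ p * (p ^ m - 1) := by
    refine h.trans ((Finset.sum_le_sum h').trans ?_)
    rw [Finset.sum_const, smul_eq_mul]
    exact Nat.mul_le_mul_right _ hs
  rw [Nat.mul_sub, mul_one, pow_succ, mul_comm (p ^ m) p] at hle
  have hge : p ≤ p * p ^ m := Nat.le_mul_of_pos_right _ (pow_pos hp.out.pos _)
  have := hp.out.one_lt
  omega

end Cover

theorem hockey {R : Type*} [Ring R] (v : R) (n : ℕ) :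
    ∑ i ∈ Finset.range n, (v + 1) ^ i = ∑ l ∈ Finset.range n, (n.choose (l + 1) : R) * v ^ l := by
  induction n with
  | zero => simp
  | succ n ih =>
    have h1 : (v + 1) ^ n = ∑ l ∈ Finset.range (n + 1), (n.choose l : R) * v ^ l := by
      rw [(Commute.one_right v).add_pow]
      refine Finset.sum_congr rfl fun l _ => ?_
      rw [one_pow, mul_one]
      exact ((Nat.cast_commute (n.choose l) (v ^ l)).eq).symm
    have h2 : ∑ l ∈ Finset.range n, (n.choose (l + 1) : R) * v ^ l =
        ∑ l ∈ Finset.range (n + 1), (n.choose (l + 1) : R) * v ^ l := by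
      rw [Finset.sum_range_succ, Nat.choose_eq_zero_of_lt (Nat.lt_succ_self n), Nat.cast_zero,
        zero_mul, add_zero]
    rw [Finset.sum_range_succ, ih, h1, h2, ← Finset.sum_add_distrib]
    refine Finset.sum_congr rfl fun l _ => ?_
    rw [Nat.choose_succ_succ', Nat.cast_add, add_mul, add_comm]

section MaxClass

variable {G : Type*} [Group G] [Finite G] {p : ℕ} [hp : Fact p.Prime] {n : ℕ}

local notation "γ" => Subgroup.lowerCentralSeries (⊤ : Subgroup G)

/-- The elements centralising the layer `γ i / γ (i + 2)`. -/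
def layerCent (G : Type*) [Group G] (i : ℕ) : Subgroup G where
  carrier := {x | ∀ y ∈ Subgroup.lowerCentralSeries (⊤ : Subgroup G) i,
    ⁅y, x⁆ ∈ Subgroup.lowerCentralSeries (⊤ : Subgroup G) (i + 2)}
  one_mem' := fun y _ => by rw [commutatorElement_one_right]; exact one_mem _
  mul_mem' := fun {a b} ha hb y hy => by
    have h : ⁅y, a * b⁆ = ⁅y, a⁆ * (a * ⁅y, b⁆ * a⁻¹) := by simp only [commutatorElement_def]; group
    rw [h]
    exact mul_mem (ha y hy) (Subgroup.Normal.conj_mem inferInstance _ (hb y hy) a)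
  inv_mem' := fun {a} ha y hy => by
    have h : ⁅y, a⁻¹⁆ = a⁻¹ * ⁅y, a⁆⁻¹ * a⁻¹⁻¹ := by simp only [commutatorElement_def]; group
    rw [h]
    exact Subgroup.Normal.conj_mem inferInstance _ (inv_mem (ha y hy)) _

theorem index_succ (hn : 3 ≤ n) (hG : Nat.card G = p ^ n) (hcl : γ (n - 2) ≠ ⊥) {i : ℕ} (hi : 1 ≤ i)
    (hin : i + 2 ≤ n) {u : G} (hu : u ∈ γ i) (hu' : u ∉ γ (i + 1)) :
    γ (i + 1) ⊔ Subgroup.zpowers u = γ i := by
  refine Subgroup.eq_of_le_of_card_ge
    (sup_le (Subgroup.lowerCentralSeries_antitone (⊤ : Subgroup G) (Nat.le_succ i))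
      (Subgroup.zpowers_le.2 hu)) ?_
  rw [Agent.Pearl.card_lcs hn hG hcl hi]
  refine le_trans ?_ (Agent.PGroup.mul_card_le_card (IsPGroup.of_card hG)
    (left_lt_sup.mpr fun h => hu' (h (Subgroup.mem_zpowers u))))
  rw [Agent.Pearl.card_lcs hn hG hcl (by omega : 1 ≤ i + 1), ← pow_succ']
  exact le_of_eq (congrArg _ (by omega))

theorem layerCent_ne_top (hn : 3 ≤ n) (hG : Nat.card G = p ^ n) (hcl : γ (n - 2) ≠ ⊥) {i : ℕ}
    (hin : i + 3 ≤ n) : layerCent G i ≠ ⊤ := by
  intro h
  have hle : γ (i + 1) ≤ γ (i + 2) := by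
    rw [Subgroup.lowerCentralSeries_succ (⊤ : Subgroup G) i, Subgroup.commutator_le]
    exact fun y hy x _ => (h ▸ Subgroup.mem_top x : x ∈ layerCent G i) y hy
  have := Subgroup.card_le_of_le hle
  rw [Agent.Pearl.card_lcs hn hG hcl (by omega : 1 ≤ i + 1),
    Agent.Pearl.card_lcs hn hG hcl (by omega : 1 ≤ i + 2)] at this
  have := (Nat.pow_le_pow_iff_right hp.out.one_lt).1 this
  omega

theorem layer (hn : 3 ≤ n) (hG : Nat.card G = p ^ n) (hcl : γ (n - 2) ≠ ⊥) {i : ℕ} (hi : 1 ≤ i)
    (hin : i + 3 ≤ n) {x : G} (hx : x ∉ layerCent G i) {u : G} (hu : u ∈ γ i) (hu' : u ∉ γ (i + 1)) :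
    ⁅u, x⁆ ∉ γ (i + 2) := by
  intro hcon
  refine hx fun y hy => ?_
  rw [← index_succ hn hG hcl hi (by omega) hu hu'] at hy
  let D : Subgroup G :=
    { carrier := {y | y ∈ γ i ∧ ⁅y, x⁆ ∈ γ (i + 2)}
      one_mem' := ⟨one_mem _, by rw [commutatorElement_one_left]; exact one_mem _⟩
      mul_mem' := fun {a b} ha hb => ⟨mul_mem ha.1 hb.1, by
        have h : ⁅a * b, x⁆ = a * ⁅b, x⁆ * a⁻¹ * ⁅a, x⁆ := by simp only [commutatorElement_def]; group
        rw [h]
        exact mul_mem (Subgroup.Normal.conj_mem inferInstance _ hb.2 a) ha.2⟩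
      inv_mem' := fun {a} ha => ⟨inv_mem ha.1, by
        have h : ⁅a⁻¹, x⁆ = a⁻¹ * ⁅a, x⁆⁻¹ * a⁻¹⁻¹ := by simp only [commutatorElement_def]; group
        rw [h]
        exact Subgroup.Normal.conj_mem inferInstance _ (inv_mem ha.2) _⟩ }
  have hle : γ (i + 1) ⊔ Subgroup.zpowers u ≤ D := by
    refine sup_le (fun z hz => ⟨Subgroup.lowerCentralSeries_antitone (⊤ : Subgroup G) (Nat.le_succ i) hz, ?_⟩)
      (Subgroup.zpowers_le.2 ⟨hu, hcon⟩)
    rw [Subgroup.lowerCentralSeries_succ (⊤ : Subgroup G) (i + 1)]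
    exact Subgroup.commutator_mem_commutator hz (Subgroup.mem_top x)
  exact (hle hy).2

/-- If `x` avoids the layer centralisers from `i₀` on and `[u, x] = 1`, then `u ∈ γ i₀` is central. -/
theorem mem_of_commute (hn : 3 ≤ n) (hG : Nat.card G = p ^ n) (hcl : γ (n - 2) ≠ ⊥) {i₀ j : ℕ}
    (hi₀ : 1 ≤ i₀) (hj : j + 2 ≤ n) {x u : G} (hx : ∀ i, i₀ ≤ i → i < j → x ∉ layerCent G i)
    (hu : u ∈ γ i₀) (hcomm : u * x = x * u) : i₀ ≤ j → u ∈ γ j := by
  intro hle
  induction j, hle using Nat.le_induction with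
  | base => exact hu
  | succ j hij ih =>
    have huj := ih (by omega) fun i h1 h2 => hx i h1 (by omega)
    by_contra hnot
    refine layer hn hG hcl (by omega) (by omega) (hx j hij (Nat.lt_succ_self j)) huj hnot ?_
    rw [commutatorElement_eq_one_iff_mul_comm.2 hcomm]
    exact one_mem _

/-- The first layers have exponent `p`. -/
theorem pow_mem_lcs (hn : 3 ≤ n) (hG : Nat.card G = p ^ n) (hcl : γ (n - 2) ≠ ⊥) :
    ∀ j, 1 ≤ j → j + 2 ≤ n → j + 2 ≤ p → ∀ x : G, x ^ p ∈ γ j := by
  intro j hj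
  induction j, hj using Nat.le_induction with
  | base =>
    intro _ _ x
    rw [Subgroup.top_lowerCentralSeries_one,
      ← Agent.PGroup.frattini_eq_commutator_of_index_sq (IsPGroup.of_card hG) ?_ ?_]
    · exact Agent.PGroup.pow_mem_frattini (IsPGroup.of_card hG) x
    · exact Agent.PGroup.not_cyclic_of_lcs_ne_bot (i := n - 2) (by omega) hcl
    · exact Agent.PGroup.index_commutator_of_maximal hn hG (Agent.Pearl.class_eq hn hG hcl)
  | succ j hj1 ih =>
    intro hjn hjp
    set N := γ (j + 1) with hN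
    have hQp : IsPGroup p (G ⧸ N) := (IsPGroup.of_card hG).to_quotient N
    have hQcl : (⊤ : Subgroup (G ⧸ N)).lowerCentralSeries (p - 1) = ⊥ := by
      rw [← Subgroup.map_top_of_surjective _ (QuotientGroup.mk'_surjective N),
        ← Subgroup.map_lowerCentralSeries, Subgroup.map_eq_bot_iff, QuotientGroup.ker_mk']
      exact Subgroup.lowerCentralSeries_antitone (⊤ : Subgroup G) (by omega)
    have hreg := Agent.S4209.result hQp hQcl
    set D := (Agent.S4225.omega hreg 1).comap (QuotientGroup.mk' N) with hD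
    have hmemD : ∀ x : G, x ∈ D ↔ x ^ p ∈ N := fun x => by
      rw [hD, Subgroup.mem_comap]
      change (QuotientGroup.mk' N x) ^ p ^ 1 = 1 ↔ _
      rw [pow_one, ← map_pow]
      exact QuotientGroup.eq_one_iff _
    have hgen : ∀ x : G, x ∉ layerCent G j → x ∈ D := fun x hx => by
      rw [hmemD]
      refine mem_of_commute hn hG hcl hj1 (by omega) (fun i h1 h2 => ?_)
        (ih (by omega) (by omega) x) (Commute.pow_self x p).eq (Nat.le_succ j)
      rwa [show i = j by omega]
    intro x
    rw [← hmemD]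
    by_contra hxD
    haveI : Fintype G := Fintype.ofFinite G
    obtain ⟨y, hy⟩ := exists_not_mem (IsPGroup.of_card hG) (Finset.univ : Finset Bool)
      (fun b => if b then D else layerCent G j) (by
        rw [Finset.card_univ, Fintype.card_bool]; exact hp.out.two_le) (fun b _ => by
        cases b
        · exact layerCent_ne_top hn hG hcl (by omega)
        · exact fun h => hxD (by simp only [if_true] at h; rw [h]; exact Subgroup.mem_top x))
      (by rw [hG]; exact (Nat.one_lt_pow (by omega) hp.out.one_lt).ne')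
    exact hy true (Finset.mem_univ _) (hgen y (hy false (Finset.mem_univ _)))

end MaxClass

section Core

variable {G : Type*} [Group G] [Finite G] {p : ℕ} [hp : Fact p.Prime]

local notation "γ" => Subgroup.lowerCentralSeries (⊤ : Subgroup G)

theorem mul_pow_conj (a s : G) (j : ℕ) :
    (a * s) ^ j = ((List.range j).map fun i => s ^ i * a * (s ^ i)⁻¹).prod * s ^ j := by
  induction j with
  | zero => simp
  | succ j ih =>
    rw [pow_succ, ih, List.range_succ, List.map_append, List.prod_append, List.map_singleton,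
      List.prod_singleton, pow_succ]
    group

/-- A group of maximal class of order `p ^ (2k+1)`, `2 ≤ k ≤ p - 2`, has an elementary abelian
subgroup of order `p ^ (k+1)`. -/
theorem exists_elementary (k : ℕ) (hk : 2 ≤ k) (hkp : k + 2 ≤ p) (hG : Nat.card G = p ^ (2 * k + 1))
    (hcl : γ (2 * k - 1) ≠ ⊥) :
    ∃ A : Subgroup G, IsMulCommutative A ∧ (∀ a ∈ A, a ^ p = 1) ∧ Nat.card A = p ^ (k + 1) := by
  classical
  have hn : 3 ≤ 2 * k + 1 := by omega
  have hcl' : γ (2 * k + 1 - 2) ≠ ⊥ := by rwa [show 2 * k + 1 - 2 = 2 * k - 1 by omega]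
  have hbot : ∀ i, 2 * k ≤ i → γ i = ⊥ := fun i hi =>
    Agent.Pearl.lcs_high hn hG (by omega)
  set A := γ (k - 1) with hA
  have hAc : ∀ a ∈ A, ∀ b ∈ A, a * b = b * a := by
    obtain ⟨u, hu, hu'⟩ : ∃ u ∈ A, u ∉ γ k := by
      by_contra h; push Not at h
      have := Subgroup.card_le_of_le (show A ≤ γ k from h)
      rw [Agent.Pearl.card_lcs hn hG hcl' (by omega : 1 ≤ k - 1),
        Agent.Pearl.card_lcs hn hG hcl' (by omega : 1 ≤ k)] at this
      have := (Nat.pow_le_pow_iff_right hp.out.one_lt).1 this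
      omega
    have hsup : γ (k - 1 + 1) ⊔ Subgroup.zpowers u = γ (k - 1) :=
      index_succ hn hG hcl' (by omega) (by omega) hu (by rwa [show k - 1 + 1 = k by omega])
    rw [show k - 1 + 1 = k by omega] at hsup
    have hcomm : ∀ a ∈ A, ∀ b ∈ γ k, a * b = b * a := fun a ha b hb => by
      rw [← commutatorElement_eq_one_iff_mul_comm, ← Subgroup.mem_bot, ← hbot (2 * k) le_rfl]
      exact Subgroup.lowerCentralSeries_antitone (⊤ : Subgroup G) (by omega : 2 * k ≤ k - 1 + k + 1)
        (Agent.S4209.lcs_comm _ _ (Subgroup.commutator_mem_commutator ha hb))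
    have hAle : A ≤ Subgroup.centralizer (A : Set G) := by
      rw [hA, ← hsup]
      refine sup_le (fun b hb a ha => ?_) (Subgroup.zpowers_le.2 fun a ha => ?_)
      · exact hcomm a (by rw [hA, ← hsup]; exact ha) b hb
      · have hle : γ k ⊔ Subgroup.zpowers u ≤ Subgroup.centralizer {u} := by
          refine sup_le (fun b hb => ?_) (Subgroup.zpowers_le.2 ?_)
          · exact Subgroup.mem_centralizer_singleton_iff.2 (hcomm u hu b hb).symm
          · exact Subgroup.mem_centralizer_singleton_iff.2 rfl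
        exact Subgroup.mem_centralizer_singleton_iff.1 (hle ha)
    exact fun a ha b hb => hAle hb a ha
  obtain ⟨s, hs⟩ := exists_not_mem (IsPGroup.of_card hG) (Finset.Icc (k - 2) (2 * k - 2))
    (layerCent G) (by rw [Nat.card_Icc]; omega)
    (fun i hi => layerCent_ne_top hn hG hcl' (by rw [Finset.mem_Icc] at hi; omega))
    (by rw [hG]; exact (Nat.one_lt_pow (by omega) hp.out.one_lt).ne')
  -- `s ^ p` is central
  have hsp : ∀ g : G, g * s ^ p * g⁻¹ = s ^ p := by
    have hmem : s ^ p ∈ γ (2 * k - 1) := by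
      rcases Nat.lt_or_ge k 3 with h3 | h3
      · refine mem_of_commute hn hG hcl' le_rfl (by omega) (fun i h1 h2 => ?_)
          (pow_mem_lcs hn hG hcl' 1 le_rfl (by omega) (by omega) s) (Commute.pow_self s p).eq (by omega)
        exact hs i (Finset.mem_Icc.2 ⟨by omega, by omega⟩)
      · refine mem_of_commute hn hG hcl' (i₀ := k - 2) (by omega) (by omega) (fun i h1 h2 => ?_)
          (pow_mem_lcs hn hG hcl' (k - 2) (by omega) (by omega) (by omega) s)
          (Commute.pow_self s p).eq (by omega)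
        exact hs i (Finset.mem_Icc.2 ⟨by omega, by omega⟩)
    intro g
    have h1 : ⁅s ^ p, g⁆ ∈ γ (2 * k) := by
      have h2 := Subgroup.commutator_mem_commutator hmem (Subgroup.mem_top g)
      rw [← Subgroup.lowerCentralSeries_succ] at h2
      rwa [show 2 * k - 1 + 1 = 2 * k by omega] at h2
    rw [hbot (2 * k) le_rfl, Subgroup.mem_bot, commutatorElement_eq_one_iff_mul_comm] at h1
    rw [← h1, mul_inv_cancel_right]
  -- every element of `γ j`, `k - 1 ≤ j`, is a commutator with `s`
  have hsurj : ∀ (d j : ℕ), k - 1 ≤ j → j + d = 2 * k → ∀ a ∈ γ j,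
      ∃ g ∈ γ (j - 1), g * s * g⁻¹ = a * s := by
    intro d
    induction d with
    | zero =>
      intro j _ hjd a ha
      rw [hbot j (by omega), Subgroup.mem_bot] at ha
      exact ⟨1, one_mem _, by rw [ha]; group⟩
    | succ d ih =>
      intro j hj hjd a ha
      have hj1 : j - 1 + 1 = j := by omega
      -- a commutator generating `γ j` modulo `γ (j + 1)`
      obtain ⟨g₁, hg₁, hg₁'⟩ : ∃ g ∈ γ (j - 1), ⁅g, s⁆ ∉ γ (j + 1) := by
        by_contra h; push Not at h
        refine hs (j - 1) (Finset.mem_Icc.2 ⟨by omega, by omega⟩) fun y hy => ?_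
        rw [show j - 1 + 2 = j + 1 by omega]
        exact h y hy
      have hc : ⁅g₁, s⁆ ∈ γ j := by
        have h2 := Subgroup.commutator_mem_commutator hg₁ (Subgroup.mem_top s)
        rw [← Subgroup.lowerCentralSeries_succ, hj1] at h2
        exact h2
      have hgen := index_succ hn hG hcl' (by omega : 1 ≤ j) (by omega) hc hg₁'
      have hmod : ∀ (g : G), g ∈ γ (j - 1) → ∀ e ∈ γ (j + 1),
          ∃ g' ∈ γ (j - 1), g' * s * g'⁻¹ = e * ⁅g, s⁆ * s := by
        intro g hg e he
        obtain ⟨g', hg', he'⟩ := ih (j + 1) (by omega) (by omega) (g⁻¹ * e * g)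
          (by simpa using Subgroup.Normal.conj_mem inferInstance e he g⁻¹)
        refine ⟨g * g', mul_mem hg (Subgroup.lowerCentralSeries_antitone (⊤ : Subgroup G)
          (by omega) hg'), ?_⟩
        rw [_root_.mul_inv_rev, show g * g' * s * (g'⁻¹ * g⁻¹) = g * (g' * s * g'⁻¹) * g⁻¹ by group, he',
          commutatorElement_def]
        group
      -- the set of achieved elements
      rw [← hgen] at ha
      obtain ⟨e, he, w, hw, rfl⟩ := (Agent.Coprime.mem_sup_iff_of_le_normalizer'
        (H := Subgroup.zpowers ⁅g₁, s⁆) (N := γ (j + 1))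
        (fun x _ => by rw [Subgroup.normalizer_eq_top]; trivial)).1 (by rw [sup_comm]; exact ha)
      obtain ⟨t, rfl⟩ := Subgroup.mem_zpowers_iff.1 hw
      have hpow : ∃ e' ∈ γ (j + 1), ⁅g₁, s⁆ ^ t = e' * ⁅g₁ ^ t, s⁆ := by
        let π := QuotientGroup.mk' (γ (j + 1))
        have hcen : ∀ q : G ⧸ γ (j + 1), Commute (π ⁅g₁, s⁆) q := fun q => by
          obtain ⟨q, rfl⟩ := QuotientGroup.mk'_surjective _ q
          rw [Commute, SemiconjBy, ← commutatorElement_eq_one_iff_mul_comm, ← map_commutatorElement,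
            QuotientGroup.mk'_apply, QuotientGroup.eq_one_iff, Subgroup.lowerCentralSeries_succ]
          exact Subgroup.commutator_mem_commutator hc (Subgroup.mem_top q)
        have hconj : π s * π g₁ * (π s)⁻¹ = (π ⁅g₁, s⁆)⁻¹ * π g₁ := by
          rw [← map_inv, ← map_mul, ← map_mul, ← map_inv, ← map_mul]
          congr 1
          simp only [commutatorElement_def]; group
        have h1 : ⁅π g₁ ^ t, π s⁆ = π ⁅g₁, s⁆ ^ t := by
          have h2 : π s * π g₁ ^ t * (π s)⁻¹ = (π ⁅g₁, s⁆)⁻¹ ^ t * π g₁ ^ t := by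
            rw [← conj_zpow, hconj, ((hcen _).inv_left).mul_zpow]
          rw [commutatorElement_def, show π g₁ ^ t * π s * (π g₁ ^ t)⁻¹ * (π s)⁻¹ =
            π g₁ ^ t * (π s * π g₁ ^ t * (π s)⁻¹)⁻¹ by group, h2]
          rw [inv_zpow]
          group
        refine ⟨⁅g₁, s⁆ ^ t * ⁅g₁ ^ t, s⁆⁻¹, (QuotientGroup.eq_one_iff _).1 ?_, by group⟩
        change π (⁅g₁, s⁆ ^ t * ⁅g₁ ^ t, s⁆⁻¹) = 1
        simp only [map_mul, map_inv, map_zpow, map_commutatorElement] at h1 ⊢
        rw [h1, mul_inv_cancel]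
      obtain ⟨e', he', hw'⟩ := hpow
      obtain ⟨g', hg', hgs⟩ := hmod (g₁ ^ t) (zpow_mem hg₁ t) (e * e') (mul_mem he he')
      exact ⟨g', hg', by rw [hgs, hw']; group⟩
  -- the norm vanishes on `A`
  letI : CommGroup ↥A := { (inferInstance : Group ↥A) with
    mul_comm := fun a b => Subtype.ext (hAc a a.2 b b.2) }
  let c : AddMonoid.End (Additive ↥A) := MonoidHom.toAdditive (MulAut.conjNormal s : MulAut ↥A).toMonoidHom
  have hcapp : ∀ a : Additive ↥A, ((Additive.toMul (c a) : ↥A) : G) = s * (Additive.toMul a : ↥A) * s⁻¹ :=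
    fun a => MulAut.conjNormal_apply s _
  have hcpow : ∀ (i : ℕ) (a : Additive ↥A),
      ((Additive.toMul ((c ^ i) a) : ↥A) : G) = s ^ i * (Additive.toMul a : ↥A) * (s ^ i)⁻¹ := by
    intro i
    induction i with
    | zero => intro a; simp
    | succ i ih =>
      intro a
      rw [pow_succ', AddMonoid.End.coe_mul, Function.comp_apply, hcapp, ih, pow_succ']
      group
  set v := c - 1 with hv
  have hnorm : ∀ a : Additive ↥A, ∑ i ∈ Finset.range p, (c ^ i) a = 0 := by
    intro a
    have hlist : ∀ j : ℕ, ((Additive.toMul (∑ i ∈ Finset.range j, (c ^ i) a) : ↥A) : G) =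
        ((List.range j).map fun i => s ^ i * (Additive.toMul a : ↥A) * (s ^ i)⁻¹).prod := by
      intro j
      induction j with
      | zero => simp
      | succ j ih =>
        rw [Finset.sum_range_succ, toMul_add, Subgroup.coe_mul, ih, hcpow, List.range_succ,
          List.map_append, List.prod_append, List.map_singleton, List.prod_singleton]
    obtain ⟨g, -, hg⟩ := hsurj (k + 1) (k - 1) le_rfl (by omega) _ (Additive.toMul a).2
    have h1 : (((Additive.toMul a : ↥A) : G) * s) ^ p = s ^ p := by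
      rw [← hg, conj_pow, hsp]
    rw [mul_pow_conj, mul_eq_right] at h1
    refine Additive.toMul.injective (Subtype.ext ?_)
    rw [hlist, h1]
    rfl
  have hdrop : ∀ (i : ℕ) (a : Additive ↥A) (j : ℕ), ((Additive.toMul a : ↥A) : G) ∈ γ j →
      ((Additive.toMul ((v ^ i) a) : ↥A) : G) ∈ γ (j + i) := by
    intro i
    induction i with
    | zero => intro a j h; simpa using h
    | succ i ih =>
      intro a j h
      rw [pow_succ', AddMonoid.End.coe_mul, Function.comp_apply]
      set b := (v ^ i) a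
      have hb := ih a j h
      have hvb : v b = c b - b := rfl
      rw [hvb, toMul_sub, Subgroup.coe_div, hcapp, div_eq_mul_inv, ← add_assoc,
        Subgroup.lowerCentralSeries_succ, Subgroup.commutator_comm]
      exact Subgroup.commutator_mem_commutator (Subgroup.mem_top s) hb
  have hexp : ∀ (d j : ℕ), k - 1 ≤ j → j + d = 2 * k → ∀ a : Additive ↥A,
      ((Additive.toMul a : ↥A) : G) ∈ γ j → p • a = 0 := by
    intro d
    induction d with
    | zero =>
      intro j _ hjd a ha
      rw [hbot j (by omega), Subgroup.mem_bot] at ha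
      rw [show a = 0 from Additive.toMul.injective (Subtype.ext ha), smul_zero]
    | succ d ih =>
      intro j hj hjd a ha
      have h0 := hnorm a
      have h0' : (∑ i ∈ Finset.range p, c ^ i) a = 0 := by
        rw [← h0]
        exact AddMonoidHom.finsetSum_apply (fun i => (c ^ i : Additive ↥A →+ Additive ↥A)) _ a
      rw [show c = v + 1 by rw [hv, sub_add_cancel], hockey] at h0'
      have h0'' : ∑ l ∈ Finset.range p, ((p.choose (l + 1) : AddMonoid.End (Additive ↥A)) * v ^ l) a = 0 := by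
        rw [← h0']
        exact (AddMonoidHom.finsetSum_apply
          (fun l => ((p.choose (l + 1) : AddMonoid.End (Additive ↥A)) * v ^ l : Additive ↥A →+ Additive ↥A)) _ a).symm
      clear h0
      rename' h0'' => h0
      rw [Finset.sum_eq_single_of_mem 0 (Finset.mem_range.2 hp.out.pos) fun l hl hl0 => ?_] at h0
      · simpa using h0
      · rw [Finset.mem_range] at hl
        rw [AddMonoid.End.coe_mul, Function.comp_apply, AddMonoid.End.natCast_apply]
        have hmem := hdrop l a j ha
        rcases Nat.lt_or_ge (l + 1) p with hlp | hlp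
        · obtain ⟨q, hq⟩ := hp.out.dvd_choose_self (k := l + 1) (by omega) hlp
          rw [hq, mul_comm, mul_nsmul']
          have hz : p • (v ^ l) a = 0 :=
            ih (j + 1) (by omega) (by omega) _
              (Subgroup.lowerCentralSeries_antitone (⊤ : Subgroup G) (by omega) hmem)
          rw [hz, nsmul_zero]
        · rw [hbot (j + l) (by omega), Subgroup.mem_bot] at hmem
          rw [show (v ^ l) a = 0 from Additive.toMul.injective (Subtype.ext hmem), smul_zero]
  refine ⟨A, Agent.PGroup.isMulCommutative_of_forall hAc, fun a ha => ?_, ?_⟩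
  · have h := hexp (k + 1) (k - 1) le_rfl (by omega) (Additive.ofMul ⟨a, ha⟩) ha
    exact congrArg (fun z => ((Additive.toMul z : ↥A) : G)) h
  · rw [hA, Agent.Pearl.card_lcs hn hG hcl' (by omega : 1 ≤ k - 1)]
    exact congrArg _ (by omega)

end Core

/-- A quotient of a subgroup inherits the rank bound. -/
theorem pRankLE_map {S T : Type*} [Group S] [Group T] {p k : ℕ} (h : Cfsg.SectionalPRankLE p k S)
    (f : S →* T) (hf : Function.Surjective f) : Cfsg.PRankLE p k T := by
  intro A hA hAe
  set H := A.comap f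
  let g : H →* A := (f.comp H.subtype).codRestrict A fun x => x.2
  have hg : Function.Surjective g := fun a => by
    obtain ⟨x, hx⟩ := hf a
    exact ⟨⟨x, show f x ∈ A by rw [hx]; exact a.2⟩, Subtype.ext hx⟩
  let e := QuotientGroup.quotientKerEquivOfSurjective g hg
  have hc : IsMulCommutative (⊤ : Subgroup (H ⧸ g.ker)) :=
    Agent.PGroup.isMulCommutative_of_forall fun a _ b _ => e.injective (by
      rw [map_mul, map_mul]; exact @mul_comm' _ _ hA (e a) (e b))
  have he : ∀ a ∈ (⊤ : Subgroup (H ⧸ g.ker)), a ^ p = 1 := fun a _ => e.injective (by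
    rw [map_pow, map_one]
    exact Subtype.ext (hAe _ (e a).2))
  have := h H g.ker ⊤ hc he
  rwa [Subgroup.card_top, Nat.card_congr e.toEquiv] at this

/-- Let p be a prime and S a finite p-group of order pⁿ (n ≥ 2) of maximal nilpotency class n − 1 whose sectional p-rank is exactly k (every section has p-rank at most k, and some section has p-rank k). If p ≥ k + 2 then the order of S is at most p^(2k). -/
theorem result {S : Type*} [Group S] [Finite S] (p : ℕ) [Fact p.Prime] (hS : IsPGroup p S) [Group.IsNilpotent S]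
    (n : ℕ) (hn : 2 ≤ n) (hcard : Nat.card S = p ^ n) (hmax : Group.nilpotencyClass S = n - 1)
    (k : ℕ) (hk : 1 ≤ k) (hsr : Cfsg.SectionalPRankLE p k S ∧ ¬ Cfsg.SectionalPRankLE p (k - 1) S)
    (hpk : k + 2 ≤ p) : Nat.card S ≤ p ^ (2 * k) := by
  classical
  have hp := (Fact.out : p.Prime)
  rw [hcard]
  refine Nat.pow_le_pow_right hp.pos ?_
  by_contra hlt
  push Not at hlt
  have hcl : (⊤ : Subgroup S).lowerCentralSeries (n - 2) ≠ ⊥ :=
    Agent.PGroup.lcs_ne_bot_of_maximal (by omega) hcard hmax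
  have hn3 : 3 ≤ n := by omega
  rcases Nat.lt_or_ge k 2 with hk1 | hk2
  · -- `S / S'` is elementary of order `p ^ 2`
    have hnc : ¬ IsCyclic S := Agent.PGroup.not_cyclic_of_lcs_ne_bot (i := n - 2) (by omega) hcl
    have hidx : (commutator S).index = p ^ 2 :=
      Agent.PGroup.index_commutator_of_maximal hn3 hcard hmax
    have hr := pRankLE_map hsr.1 (QuotientGroup.mk' (commutator S)) (QuotientGroup.mk'_surjective _)
    have h := hr ⊤ (Agent.PGroup.isMulCommutative_of_forall fun a _ b _ => by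
      obtain ⟨a, rfl⟩ := QuotientGroup.mk'_surjective _ a
      obtain ⟨b, rfl⟩ := QuotientGroup.mk'_surjective _ b
      rw [← commutatorElement_eq_one_iff_mul_comm, ← map_commutatorElement]
      exact (QuotientGroup.eq_one_iff _).2
        (Subgroup.commutator_mem_commutator (Subgroup.mem_top a) (Subgroup.mem_top b))) fun a _ => by
      obtain ⟨a, rfl⟩ := QuotientGroup.mk'_surjective _ a
      rw [← map_pow]
      refine (QuotientGroup.eq_one_iff _).2 ?_
      rw [← Agent.PGroup.frattini_eq_commutator_of_index_sq hS hnc hidx]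
      exact Agent.PGroup.pow_mem_frattini hS a
    rw [Subgroup.card_top, ← Subgroup.index_eq_card, hidx] at h
    have := (Nat.pow_le_pow_iff_right hp.one_lt).1 h
    omega
  · set N := (⊤ : Subgroup S).lowerCentralSeries (2 * k) with hN
    have hT : Nat.card (S ⧸ N) = p ^ (2 * k + 1) := by
      have h1 := Subgroup.card_eq_card_quotient_mul_card_subgroup N
      rw [hcard, hN, Agent.Pearl.card_lcs hn3 hcard hcl (by omega),
        show p ^ n = p ^ (2 * k + 1) * p ^ (n - 1 - 2 * k) by rw [← pow_add]; congr 1; omega] at h1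
      exact (Nat.eq_of_mul_eq_mul_right (pow_pos hp.pos _) h1).symm
    have hTcl : (⊤ : Subgroup (S ⧸ N)).lowerCentralSeries (2 * k - 1) ≠ ⊥ := by
      rw [← Subgroup.map_top_of_surjective _ (QuotientGroup.mk'_surjective N),
        ← Subgroup.map_lowerCentralSeries, Ne, Subgroup.map_eq_bot_iff, QuotientGroup.ker_mk']
      intro h
      have h1 := Subgroup.card_le_of_le h
      rw [hN, Agent.Pearl.card_lcs hn3 hcard hcl (by omega : 1 ≤ 2 * k),
        Agent.Pearl.card_lcs hn3 hcard hcl (by omega : 1 ≤ 2 * k - 1)] at h1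
      have := (Nat.pow_le_pow_iff_right hp.one_lt).1 h1
      omega
    obtain ⟨A, hA, hAe, hAc⟩ := exists_elementary k hk2 hpk hT hTcl
    have := pRankLE_map hsr.1 (QuotientGroup.mk' N) (QuotientGroup.mk'_surjective N) A hA hAe
    rw [hAc] at this
    have := (Nat.pow_le_pow_iff_right hp.one_lt).1 this
    omega

end Cfsg.Agent.S3806
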