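import Cfsg.Statements.S3807
import Mathlib.GroupTheory.SpecificGroups.Cyclic
import Cfsg.Agent.Lib.PGroup.Class2
import Cfsg.Agent.Lib.PGroup.Basic


set_option autoImplicit false
open Cfsg
open scoped commutatorElement

namespace Cfsg.Agent.S3807

open Subgroup

universe u

theorem card_prime_subgroups {Q : Type u} [Group Q] [Finite Q] {p : ℕ} [Fact p.Prime]
    (hQ : Nat.card Q = p ^ 2) (hexp : ∀ q : Q, q ^ p = 1) :
    Nat.card {K : Subgroup Q // Nat.card K = p} = p + 1 := by
  have hp := (Fact.out : p.Prime)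
  let e : (Σ K : {K : Subgroup Q // Nat.card K = p}, {x : K.1 // x ≠ 1}) ≃ {q : Q // q ≠ 1} :=
    Equiv.ofBijective (fun t => ⟨(t.2.1 : Q), fun h => t.2.2 (Subtype.ext h)⟩) ⟨?_, ?_⟩
  rotate_left
  · have key : ∀ (K : {K : Subgroup Q // Nat.card K = p}) (q : Q), q ∈ K.1 → q ≠ 1 →
        K.1 = zpowers q := by
      intro K q hq hq1
      refine (eq_of_le_of_card_ge (zpowers_le.2 hq) ?_).symm
      rw [Nat.card_zpowers, orderOf_eq_prime (hexp q) hq1, K.2]
    rintro ⟨K, ⟨x, hx⟩, hx1⟩ ⟨K', ⟨x', hx'⟩, hx1'⟩ h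
    have hxx : x = x' := congrArg Subtype.val h
    subst hxx
    have hne : x ≠ 1 := fun e => hx1 (Subtype.ext e)
    have : K = K' := Subtype.ext ((key K x hx hne).trans (key K' x hx' hne).symm)
    subst this
    rfl
  · rintro ⟨q, hq⟩
    exact ⟨⟨⟨zpowers q, by rw [Nat.card_zpowers, orderOf_eq_prime (hexp q) hq]⟩,
      ⟨⟨q, mem_zpowers q⟩, fun h => hq (congrArg Subtype.val h)⟩⟩, rfl⟩
  classical
  have := Fintype.ofFinite Q
  have := Fintype.ofFinite {K : Subgroup Q // Nat.card K = p}
  have hne : ∀ (X : Type u) [Group X] [Finite X], Nat.card {x : X // x ≠ 1} = Nat.card X - 1 := by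
    intro X _ _
    have h := Nat.card_congr (Equiv.sumCompl (fun a : X => a = 1))
    rw [Nat.card_sum, Nat.card_unique] at h
    show Nat.card {a : X // ¬ a = 1} = _
    omega
  have h := Nat.card_congr e
  rw [Nat.card_sigma, hne, hQ, Finset.sum_congr rfl (fun K _ => (hne K.1).trans (by rw [K.2])),
    Finset.sum_const, Finset.card_univ, ← Nat.card_eq_fintype_card, smul_eq_mul] at h
  obtain ⟨a, rfl⟩ : ∃ a, p = a + 2 := ⟨p - 2, by have := hp.two_le; omega⟩
  have h' : Nat.card {K : Subgroup Q // Nat.card K = a + 2} * (a + 1) = (a + 3) * (a + 1) := by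
    rw [show a + 2 - 1 = a + 1 by omega] at h
    rw [h]
    have : (a + 3) * (a + 1) + 1 = (a + 2) ^ 2 := by ring
    omega
  exact Nat.eq_of_mul_eq_mul_right (by omega) h'


/-- Let S be a non-abelian finite p-group with an abelian subgroup A of index p. Then [S : Z(S)] = p·#[S,S], and either [S,S] has order p, S/Z(S) is elementary abelian of order p², and S has exactly p + 1 abelian subgroups of index p; or [S,S] has order at least p² and A is the only abelian subgroup of index p in S. -/
theorem result {S : Type*} [Group S] [Finite S] (p : ℕ) [Fact p.Prime] (hS : IsPGroup p S) (hna : ¬ IsMulCommutative S)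
    (A : Subgroup S) (hA : IsMulCommutative ↥A) (hAi : A.index = p) :
    (Subgroup.center S).index = p * Nat.card (commutator S) ∧
      ((Nat.card (commutator S) = p ∧ Cfsg.IsElementaryAbelian p (⊤ : Subgroup (S ⧸ Subgroup.center S)) ∧
          Nat.card (S ⧸ Subgroup.center S) = p ^ 2 ∧
          Nat.card {B : Subgroup S // IsMulCommutative ↥B ∧ B.index = p} = p + 1) ∨
        (p ^ 2 ≤ Nat.card (commutator S) ∧ ∀ B : Subgroup S, IsMulCommutative ↥B → B.index = p → B = A)) := by
  have hp := (Fact.out : p.Prime)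
  have hAn : A.Normal := Cfsg.Agent.PGroup.normal_of_index_eq hS hAi
  have hAc : ∀ a ∈ A, ∀ b ∈ A, a * b = b * a := fun a ha b hb =>
    congrArg Subtype.val (hA.is_comm.comm ⟨a, ha⟩ ⟨b, hb⟩)
  obtain ⟨x, hx⟩ : ∃ x, x ∉ A := by
    by_contra h
    push Not at h
    exact hna ⟨⟨fun a b => hAc a (h a) b (h b)⟩⟩
  have htop : A ⊔ Subgroup.zpowers x = ⊤ :=
    (Cfsg.Agent.PGroup.isCoatom_of_index_eq hAi).2 _
      (left_lt_sup.2 fun h => hx (h (Subgroup.mem_zpowers x)))
  have hgen : ∀ M : Subgroup S, A ≤ M → x ∈ M → M = ⊤ := fun M h1 h2 =>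
    top_le_iff.1 (htop ▸ sup_le h1 (Subgroup.zpowers_le.2 h2))
  have hmemA : ∀ a ∈ A, ⁅a, x⁆ ∈ A := fun a ha => by
    rw [commutatorElement_def, mul_assoc, mul_assoc]
    exact mul_mem ha (by simpa [mul_assoc] using hAn.conj_mem _ (inv_mem ha) x)
  let θ : A →* A := MonoidHom.mk' (fun a => ⟨⁅(a : S), x⁆, hmemA a a.2⟩) fun a b => Subtype.ext (by
    show ⁅(a : S) * b, x⁆ = ⁅(a : S), x⁆ * ⁅(b : S), x⁆
    rw [commutatorElement_mul_left_eq_conj_mul, hAc _ a.2 _ (hmemA b b.2), mul_inv_cancel_right,
      hAc _ (hmemA b b.2) _ (hmemA a a.2)])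
  have hcen : ∀ z : S, z ∈ Subgroup.center S ↔ ∃ h : z ∈ A, θ ⟨z, h⟩ = 1 := by
    intro z
    constructor
    · intro hz
      have hzA : z ∈ A := by
        by_contra hzA
        apply hna
        have htop' : Subgroup.centralizer (A : Set S) = ⊤ := by
          refine (Cfsg.Agent.PGroup.isCoatom_of_index_eq hAi).2 _ (lt_of_le_of_ne ?_ ?_)
          · exact fun a ha => Subgroup.mem_centralizer_iff.2 fun b hb => hAc b hb a ha
          · intro h
            exact hzA (h ▸ Subgroup.mem_centralizer_iff.2 fun b _ => Subgroup.mem_center_iff.1 hz b)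
        have hAZ : A ≤ Subgroup.center S := fun a ha => Subgroup.mem_center_iff.2 fun g =>
          ((Subgroup.mem_centralizer_iff.1 (htop' ▸ Subgroup.mem_top g)) a ha).symm
        refine ⟨⟨fun a b => ?_⟩⟩
        have hc : Subgroup.centralizer {x} = ⊤ := hgen _ (fun a ha => Subgroup.mem_centralizer_singleton_iff.2
          (Subgroup.mem_center_iff.1 (hAZ ha) x).symm) (Subgroup.mem_centralizer_singleton_iff.2 rfl)
        have hxZ : x ∈ Subgroup.center S := Subgroup.mem_center_iff.2 fun g =>
          Subgroup.mem_centralizer_singleton_iff.1 (hc ▸ Subgroup.mem_top g)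
        exact (Subgroup.mem_center_iff.1 ((hgen _ hAZ hxZ) ▸ Subgroup.mem_top b) a)
      exact ⟨hzA, Subtype.ext (commutatorElement_eq_one_iff_mul_comm.2 (Subgroup.mem_center_iff.1 hz x).symm)⟩
    · rintro ⟨hzA, hz⟩
      have h1 : z * x = x * z := commutatorElement_eq_one_iff_mul_comm.1 (congrArg Subtype.val hz)
      refine Subgroup.mem_center_iff.2 fun g => ?_
      have hg : g ∈ Subgroup.centralizer {z} := by
        rw [hgen (Subgroup.centralizer {z}) (fun a ha => Subgroup.mem_centralizer_singleton_iff.2 (hAc a ha z hzA))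
          (Subgroup.mem_centralizer_singleton_iff.2 h1.symm)]
        exact Subgroup.mem_top g
      exact Subgroup.mem_centralizer_singleton_iff.1 hg
  have hcomm : commutator S = θ.range.map A.subtype := by
    set R := θ.range.map A.subtype with hR
    refine le_antisymm ?_ ?_
    · have hRA : R ≤ A := Subgroup.map_subtype_le _
      have hxR : ∀ r ∈ R, x * r * x⁻¹ ∈ R := by
        rintro _ ⟨_, ⟨a, rfl⟩, rfl⟩
        refine ⟨_, ⟨⟨x * a * x⁻¹, hAn.conj_mem _ a.2 x⟩, rfl⟩, ?_⟩
        show ⁅x * (a : S) * x⁻¹, x⁆ = x * ⁅(a : S), x⁆ * x⁻¹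
        rw [conjugate_commutatorElement, mul_inv_cancel_right]
      have hRn : R.Normal := by
        refine Subgroup.normalizer_eq_top_iff.1 (hgen _ (fun a ha => ?_) ?_)
        · exact Subgroup.mem_normalizer_fintype fun r hr => by
            rwa [hAc a ha r (hRA hr), mul_inv_cancel_right]
        · exact Subgroup.mem_normalizer_fintype hxR
      let π := QuotientGroup.mk' R
      have hax : ∀ a ∈ A, π a * π x = π x * π a := fun a ha =>
        commutatorElement_eq_one_iff_mul_comm.1 (by
          rw [← map_commutatorElement]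
          exact (QuotientGroup.eq_one_iff _).2 ⟨_, ⟨⟨a, ha⟩, rfl⟩, rfl⟩)
      have hab : ∀ g h : S, π g * π h = π h * π g := by
        have hA' : ∀ a ∈ A, ∀ g : S, π a * π g = π g * π a := by
          intro a ha g
          have : g ∈ (Subgroup.centralizer {π a}).comap π := by
            rw [hgen ((Subgroup.centralizer {π a}).comap π)
              (fun b hb => Subgroup.mem_centralizer_singleton_iff.2 (by rw [← map_mul, ← map_mul, hAc b hb a ha]))
              (Subgroup.mem_centralizer_singleton_iff.2 (hax a ha).symm)]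
            exact Subgroup.mem_top g
          exact (Subgroup.mem_centralizer_singleton_iff.1 this).symm
        intro g h
        have : g ∈ (Subgroup.centralizer {π h}).comap π := by
          rw [hgen ((Subgroup.centralizer {π h}).comap π)
            (fun b hb => Subgroup.mem_centralizer_singleton_iff.2 (hA' b hb h))
            (Subgroup.mem_centralizer_singleton_iff.2 ?_)]
          · exact Subgroup.mem_top g
          · have : h ∈ (Subgroup.centralizer {π x}).comap π := by
              rw [hgen ((Subgroup.centralizer {π x}).comap π)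
                (fun b hb => Subgroup.mem_centralizer_singleton_iff.2 (hA' b hb x))
                (Subgroup.mem_centralizer_singleton_iff.2 rfl)]
              exact Subgroup.mem_top h
            exact (Subgroup.mem_centralizer_singleton_iff.1 this).symm
        exact Subgroup.mem_centralizer_singleton_iff.1 this
      rw [_root_.commutator_def, Subgroup.commutator_le]
      intro a _ b _
      refine (QuotientGroup.eq_one_iff _).1 ?_
      show π ⁅a, b⁆ = 1
      rw [map_commutatorElement, commutatorElement_eq_one_iff_mul_comm]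
      exact hab a b
    · rintro _ ⟨_, ⟨a, rfl⟩, rfl⟩
      exact Subgroup.commutator_mem_commutator (Subgroup.mem_top _) (Subgroup.mem_top _)
  have hZA : Subgroup.center S ≤ A := fun z hz => ((hcen z).1 hz).1
  have hZ : (Subgroup.center S).subgroupOf A = θ.ker := by
    ext a
    rw [Subgroup.mem_subgroupOf, hcen, MonoidHom.mem_ker]
    exact ⟨fun ⟨_, h⟩ => h, fun h => ⟨a.2, h⟩⟩
  have hidx : (Subgroup.center S).index = p * Nat.card (commutator S) := by
    rw [← Subgroup.relIndex_mul_index hZA, hAi, mul_comm, Subgroup.relIndex, hZ, Subgroup.index_ker,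
      hcomm, Subgroup.card_map_of_injective A.subtype_injective]
  refine ⟨hidx, ?_⟩
  obtain ⟨k, hk⟩ := Cfsg.Agent.PGroup.card_eq_pow hS (commutator S)
  have hk0 : k ≠ 0 := by
    rintro rfl
    exact hna ((commutator_eq_bot_iff S).1 (Subgroup.card_eq_one.1 (by rw [hk, pow_zero])))
  have hQcard : Nat.card (S ⧸ Subgroup.center S) = p * Nat.card (commutator S) := by
    rw [← Subgroup.index_eq_card, hidx]
  rcases Nat.lt_or_ge k 2 with hk2 | hk2
  · have hk1 : k = 1 := by omega
    rw [hk1, pow_one] at hk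
    rw [hk, ← pow_two] at hQcard
    left
    have hQab : IsMulCommutative (S ⧸ Subgroup.center S) :=
      ⟨⟨fun a b => IsPGroup.commutative_of_card_eq_prime_sq hQcard a b⟩⟩
    have hexpQ : ∀ q : S ⧸ Subgroup.center S, q ^ p = 1 := by
      intro q
      obtain ⟨s, rfl⟩ := QuotientGroup.mk'_surjective _ q
      obtain ⟨a, ha, y, hy, rfl⟩ := Subgroup.mem_sup_of_normal_left.1 (htop ▸ Subgroup.mem_top s)
      obtain ⟨i, rfl⟩ := Subgroup.mem_zpowers_iff.1 hy
      rw [map_mul, Commute.mul_pow (hQab.is_comm.comm _ _)]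
      have h1 : QuotientGroup.mk' (Subgroup.center S) a ^ p = 1 := by
        rw [← map_pow]
        refine (QuotientGroup.eq_one_iff _).2 ((hcen _).2 ⟨pow_mem ha p, ?_⟩)
        have h' : θ ((⟨a, ha⟩ : A) ^ p) = 1 := by
          rw [map_pow]
          refine Subtype.ext ?_
          have hmem : ((θ ⟨a, ha⟩ : A) : S) ∈ commutator S := hcomm ▸ ⟨_, ⟨⟨a, ha⟩, rfl⟩, rfl⟩
          have := pow_card_eq_one' (x := (⟨_, hmem⟩ : commutator S))
          rw [hk] at this
          simpa [Subtype.ext_iff] using this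
        exact h'
      have h2 : QuotientGroup.mk' (Subgroup.center S) x ^ p = 1 := by
        rw [← map_pow]
        refine (QuotientGroup.eq_one_iff _).2 ((hcen _).2 ⟨Cfsg.Agent.PGroup.pow_mem_of_index_eq A hAi x, ?_⟩)
        exact Subtype.ext (commutatorElement_eq_one_iff_mul_comm.2 (pow_mul_comm' x p))
      rw [h1, one_mul, map_zpow, ← zpow_natCast, ← zpow_mul, mul_comm, zpow_mul, zpow_natCast, h2, one_zpow]
    refine ⟨hk, ⟨⟨⟨fun a b => Subtype.ext (hQab.is_comm.comm _ _)⟩⟩, fun q _ => hexpQ q⟩, hQcard, ?_⟩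
    rw [← card_prime_subgroups hQcard hexpQ]
    have hZle : ∀ B : Subgroup S, IsMulCommutative ↥B → B.index = p → Subgroup.center S ≤ B := by
      intro B hB hBi z hz
      by_contra hzB
      have hB' : B ≤ Subgroup.centralizer (B : Set S) := fun a ha => Subgroup.mem_centralizer_iff.2
        fun b hb => congrArg Subtype.val (hB.is_comm.comm ⟨b, hb⟩ ⟨a, ha⟩)
      have htop' : Subgroup.centralizer (B : Set S) = ⊤ :=
        (Cfsg.Agent.PGroup.isCoatom_of_index_eq hBi).2 _ (lt_of_le_of_ne hB' fun h =>
          hzB (h ▸ Subgroup.mem_centralizer_iff.2 fun b _ => Subgroup.mem_center_iff.1 hz b))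
      have hBZ : B ≤ Subgroup.center S := fun b hb => Subgroup.mem_center_iff.2 fun g =>
        ((Subgroup.mem_centralizer_iff.1 (htop' ▸ Subgroup.mem_top g)) b hb).symm
      have h1 := Subgroup.index_dvd_of_le hBZ
      rw [hidx, hBi, hk] at h1
      have := Nat.le_of_dvd hp.pos h1
      nlinarith [hp.two_le]
    refine Nat.card_congr
      { toFun := fun B => ⟨B.1.map (QuotientGroup.mk' _), ?_⟩
        invFun := fun K => ⟨K.1.comap (QuotientGroup.mk' _), ?_, ?_⟩
        left_inv := fun B => Subtype.ext (by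
          show (B.1.map _).comap _ = B.1
          rw [Subgroup.comap_map_eq, QuotientGroup.ker_mk', sup_of_le_left (hZle _ B.2.1 B.2.2)])
        right_inv := fun K => Subtype.ext
          (Subgroup.map_comap_eq_self_of_surjective (QuotientGroup.mk'_surjective _) _) }
    · have h1 := Subgroup.card_mul_index (B.1.map (QuotientGroup.mk' (Subgroup.center S)))
      rw [Subgroup.index_map_eq _ (QuotientGroup.mk'_surjective _)
        (by rw [QuotientGroup.ker_mk']; exact hZle _ B.2.1 B.2.2), B.2.2, hQcard, pow_two] at h1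
      exact Nat.eq_of_mul_eq_mul_right hp.pos h1
    · let f := (QuotientGroup.mk' (Subgroup.center S)).subgroupComap K.1
      have hcyc : IsCyclic K.1 := isCyclic_of_prime_card K.2
      refine ⟨⟨fun a b => commutative_of_cyclic_center_quotient f (fun c hc => ?_) a b⟩⟩
      have hc' : (c : S) ∈ Subgroup.center S :=
        (QuotientGroup.eq_one_iff _).1 (congrArg Subtype.val hc)
      exact Subgroup.mem_center_iff.2 fun d => Subtype.ext (Subgroup.mem_center_iff.1 hc' d)
    · rw [Subgroup.index_comap_of_surjective _ (QuotientGroup.mk'_surjective _)]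
      have h1 := Subgroup.card_mul_index K.1
      rw [K.2, hQcard, pow_two] at h1
      exact Nat.eq_of_mul_eq_mul_left hp.pos h1
  · right
    refine ⟨hk ▸ Nat.pow_le_pow_right hp.pos hk2, fun B hB hBi => ?_⟩
    by_contra hne
    have hBA : ¬ B ≤ A := fun h => hne (Subgroup.eq_of_le_of_card_ge h (by
      have h1 := Subgroup.card_mul_index B
      have h2 := Subgroup.card_mul_index A
      rw [hBi] at h1; rw [hAi] at h2
      exact (Nat.eq_of_mul_eq_mul_right hp.pos (h1.trans h2.symm)).ge))
    have hjoin : A ⊔ B = ⊤ :=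
      (Cfsg.Agent.PGroup.isCoatom_of_index_eq hAi).2 _ (left_lt_sup.2 hBA)
    have hle : A ⊓ B ≤ Subgroup.center S := by
      rintro z ⟨hzA, hzB⟩
      refine Subgroup.mem_center_iff.2 fun g => ?_
      have hc : A ⊔ B ≤ Subgroup.centralizer {z} := sup_le
        (fun a ha => Subgroup.mem_centralizer_singleton_iff.2 (hAc a ha z hzA))
        (fun b hb => Subgroup.mem_centralizer_singleton_iff.2
          (congrArg Subtype.val (hB.is_comm.comm ⟨b, hb⟩ ⟨z, hzB⟩)))
      exact Subgroup.mem_centralizer_singleton_iff.1 (hc (hjoin ▸ Subgroup.mem_top g))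
    have h1 := (Subgroup.index_dvd_of_le hle)
    rw [hidx, hk] at h1
    have h2 := Subgroup.index_inf_le (H := A) (K := B)
    rw [hAi, hBi] at h2
    have h3 := Nat.le_of_dvd (Nat.pos_of_ne_zero Subgroup.index_ne_zero_of_finite) h1
    have : p ^ 2 ≤ p ^ k := Nat.pow_le_pow_right hp.pos hk2
    nlinarith [hp.two_le]


end Cfsg.Agent.S3807
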