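import Cfsg.Statements.S3808
import Cfsg.Agent.Lib.PGroup.Basic


set_option autoImplicit false
open Cfsg

namespace Cfsg.Agent.S3808

/-- Let S be a finite p-group with an extraspecial subgroup Q of index p. Then either Z(S) = Z(Q), or S = Q·Z(S) and Z(S) has order p². -/
theorem result {S : Type*} [Group S] [Finite S] (p : ℕ) [Fact p.Prime] (hS : IsPGroup p S) (Q : Subgroup S) (hQ : Cfsg.IsExtraspecial p ↥Q) (hQi : Q.index = p) :
    Subgroup.center S = (Subgroup.center ↥Q).map Q.subtype ∨
      (Q ⊔ Subgroup.center S = ⊤ ∧ Nat.card (Subgroup.center S) = p ^ 2) := by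
  have hQn : Q.Normal := Cfsg.Agent.PGroup.normal_of_index_eq hS hQi
  have hcard : Nat.card ((Subgroup.center ↥Q).map Q.subtype : Subgroup S) = p := by
    rw [Subgroup.card_map_of_injective Q.subtype_injective]
    exact hQ.2
  have hne : Q ≠ ⊥ := by
    intro h
    subst h
    have := hQ.2
    rw [Nat.card_unique] at this
    exact (Fact.out : p.Prime).ne_one this.symm
  have hle : Q ⊓ Subgroup.center S ≤ (Subgroup.center ↥Q).map Q.subtype := by
    rintro x ⟨hxQ, hxZ⟩
    exact ⟨⟨x, hxQ⟩, Subgroup.mem_center_iff.2 fun q => Subtype.ext (Subgroup.mem_center_iff.1 hxZ q), rfl⟩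
  have heq : Q ⊓ Subgroup.center S = (Subgroup.center ↥Q).map Q.subtype := by
    refine Subgroup.eq_of_le_of_card_ge hle ?_
    rw [hcard]
    have := Cfsg.Agent.PGroup.inf_center_ne_bot hS Q hne
    obtain ⟨k, hk⟩ := Cfsg.Agent.PGroup.card_eq_pow hS (Q ⊓ Subgroup.center S)
    rcases k with _ | k
    · exact absurd (Subgroup.card_eq_one.1 (by simpa using hk)) this
    · rw [hk]; exact Nat.le_self_pow (by omega) p
  by_cases hZ : Subgroup.center S ≤ Q
  · left
    rw [← heq, inf_eq_right.2 hZ]
  · right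
    have htop : Q ⊔ Subgroup.center S = ⊤ :=
      (Cfsg.Agent.PGroup.isCoatom_of_index_eq hQi).2 _ (left_lt_sup.2 hZ)
    refine ⟨htop, ?_⟩
    have h1 : Q.relIndex (Subgroup.center S) = Q.relIndex (Q ⊔ Subgroup.center S) :=
      (Subgroup.relIndex_sup_left (H := Subgroup.center S) (K := Q)).symm.trans (by rw [sup_comm])
    rw [htop, Subgroup.relIndex_top_right, hQi, ← Subgroup.inf_relIndex_right] at h1
    rw [← Subgroup.card_mul_index ((Q ⊓ Subgroup.center S).subgroupOf (Subgroup.center S))]
    rw [show ((Q ⊓ Subgroup.center S).subgroupOf (Subgroup.center S)).index =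
      (Q ⊓ Subgroup.center S).relIndex (Subgroup.center S) from rfl, h1,
      Nat.card_congr (Subgroup.subgroupOfEquivOfLe (inf_le_right : Q ⊓ Subgroup.center S ≤ _)).toEquiv,
      heq, hcard, pow_two]


end Cfsg.Agent.S3808
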