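import Cfsg.Statements.S3809
import Mathlib.GroupTheory.Solvable
import Cfsg.Agent.Lib.PGroup.Extraspecial


set_option autoImplicit false
open Cfsg
open scoped commutatorElement

namespace Cfsg.Agent.S3809

/-- Let S be a finite p-group with an extraspecial subgroup of index p. Then S has order p^(2+2n) for some n ≥ 1, derived length at most 3, and exponent dividing p³. -/
theorem result {S : Type*} [Group S] [Finite S] (p : ℕ) [Fact p.Prime] (hS : IsPGroup p S) (Q : Subgroup S) (hQ : Cfsg.IsExtraspecial p ↥Q) (hQi : Q.index = p) :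
    (∃ n : ℕ, 1 ≤ n ∧ Nat.card S = p ^ (2 + 2 * n)) ∧ derivedSeries S 3 = ⊥ ∧ ∀ x : S, x ^ (p ^ 3) = 1 := by
  have hQn : Q.Normal := Cfsg.Agent.PGroup.normal_of_index_eq hS hQi
  obtain ⟨n, hn, hcard, -⟩ := Cfsg.Agent.PGroup.extraspecial_card hQ
  have hpow : ∀ x : S, x ^ p ∈ Q := fun x => Cfsg.Agent.PGroup.pow_mem_of_index_eq Q hQi x
  refine ⟨⟨n, hn, ?_⟩, ?_, fun x => ?_⟩
  · rw [← Subgroup.card_mul_index Q, hQi, hcard, ← pow_succ]
    congr 1
    omega
  · have h1 : derivedSeries S 1 ≤ Q := by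
      rw [derivedSeries_one]
      exact Cfsg.Agent.PGroup.commutator_le_of_index_eq Q hQi
    have h2 : derivedSeries S 2 ≤ (Subgroup.center ↥Q).map Q.subtype := by
      refine (Subgroup.commutator_mono h1 h1).trans (Subgroup.commutator_le.2 fun a ha b hb => ?_)
      exact ⟨⁅(⟨a, ha⟩ : ↥Q), ⟨b, hb⟩⁆,
        Cfsg.Agent.PGroup.special_commutator_mem_center hQ.1 _ _, rfl⟩
    rw [derivedSeries_succ, eq_bot_iff]
    refine (Subgroup.commutator_mono h2 h2).trans (Subgroup.commutator_le.2 fun a ha b hb => ?_)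
    obtain ⟨a', ha', rfl⟩ := ha
    obtain ⟨b', -, rfl⟩ := hb
    rw [Subgroup.mem_bot, commutatorElement_eq_one_iff_mul_comm]
    exact congrArg Subtype.val (Subgroup.mem_center_iff.1 ha' b').symm
  · have h1 := Cfsg.Agent.PGroup.special_center_pow hQ.1
      (Cfsg.Agent.PGroup.special_pow_mem_center hQ.1 (⟨x ^ p, hpow x⟩ : ↥Q))
    have h2 := congrArg Subtype.val h1
    simp only [SubmonoidClass.coe_pow, OneMemClass.coe_one] at h2
    rwa [← pow_mul, ← pow_mul, show p * (p * p) = p ^ 3 by ring] at h2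


end Cfsg.Agent.S3809
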