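import Cfsg.Statements.S3810
import Mathlib.GroupTheory.SpecificGroups.Cyclic
import Cfsg.Agent.Lib.PGroup.Extraspecial


set_option autoImplicit false
open Cfsg
open scoped commutatorElement

namespace Cfsg.Agent.S3810

/-- Let S be a finite p-group with an extraspecial subgroup of index p. Then S has an abelian subgroup of index p if and only if S has order p⁴. -/
theorem result {S : Type*} [Group S] [Finite S] (p : ℕ) [Fact p.Prime] (hS : IsPGroup p S) (Q : Subgroup S) (hQ : Cfsg.IsExtraspecial p ↥Q) (hQi : Q.index = p) :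
    (∃ A : Subgroup S, IsMulCommutative ↥A ∧ A.index = p) ↔ Nat.card S = p ^ 4 := by
  have hp := (Fact.out : p.Prime)
  have hQn : Q.Normal := Cfsg.Agent.PGroup.normal_of_index_eq hS hQi
  obtain ⟨n, hn, hcard, -⟩ := Cfsg.Agent.PGroup.extraspecial_card hQ
  have hScard : Nat.card S = p ^ (2 * n + 2) := by
    rw [← Subgroup.card_mul_index Q, hQi, hcard, ← pow_succ]
  constructor
  · rintro ⟨A, hA, hAi⟩
    have hA' : IsMulCommutative ↥(A.subgroupOf Q) :=
      ⟨⟨fun a b => Subtype.ext (Subtype.ext (congrArg Subtype.val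
        (hA.is_comm.comm ⟨((a : ↥Q) : S), a.2⟩ ⟨((b : ↥Q) : S), b.2⟩) :))⟩⟩
    have h1 := Cfsg.Agent.PGroup.extraspecial_abelian_card_le hQ hA'
    have h2 : (A.subgroupOf Q).index ≤ p := by
      rw [← hAi, show (A.subgroupOf Q).index = A.relIndex Q from rfl]
      exact Nat.le_of_dvd (Nat.pos_of_ne_zero Subgroup.index_ne_zero_of_finite)
        (by have := Cfsg.Agent.PGroup.normal_of_index_eq hS hAi; exact Subgroup.relIndex_dvd_index_of_normal A Q)
    have h3 := Subgroup.card_mul_index (A.subgroupOf Q)
    rw [hcard] at h1 h3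
    have h4 : p ^ (2 * n + 1) ≤ Nat.card ↥(A.subgroupOf Q) * p := by
      rw [← h3]; exact Nat.mul_le_mul_left _ h2
    have h5 : p ^ (2 * (2 * n + 1)) ≤ p ^ (2 * n + 4) := by
      rw [mul_comm 2, pow_mul]
      calc (p ^ (2 * n + 1)) ^ 2 ≤ (Nat.card ↥(A.subgroupOf Q) * p) ^ 2 := Nat.pow_le_pow_left h4 2
        _ = Nat.card ↥(A.subgroupOf Q) ^ 2 * p ^ 2 := mul_pow _ _ _
        _ ≤ p * p ^ (2 * n + 1) * p ^ 2 := Nat.mul_le_mul_right _ h1
        _ = p ^ (2 * n + 4) := by ring
    have h6 := (Nat.pow_le_pow_iff_right hp.one_lt).1 h5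
    have : n = 1 := by omega
    rw [hScard, this]
  · intro h4
    have hn1 : n = 1 := by
      rw [hScard] at h4
      have := Nat.pow_right_injective hp.two_le h4
      omega
    subst hn1
    set Z : Subgroup S := (Subgroup.center ↥Q).map Q.subtype with hZdef
    have hZn : Z.Normal := inferInstance
    have hZc : Nat.card Z = p := by
      rw [hZdef, Subgroup.card_map_of_injective Q.subtype_injective]
      exact hQ.2
    have hZle : Z ≤ Subgroup.center S := Cfsg.Agent.PGroup.le_center_of_card_eq hS Z hZc
    obtain ⟨N, hNn, hZN, hNQ, hNc⟩ := Cfsg.Agent.PGroup.exists_normal_card_between hS Z Q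
      (Subgroup.map_subtype_le _) 2 (by rw [hZc]; exact Nat.le_self_pow two_ne_zero p) (by rw [hcard]; exact Nat.pow_le_pow_right hp.pos (by omega))
    obtain ⟨x, hxN, hxZ⟩ : ∃ x ∈ N, x ∉ Z := by
      by_contra hcon
      push Not at hcon
      have := Subgroup.card_le_of_le (hcon : N ≤ Z)
      rw [hNc, hZc] at this
      nlinarith [hp.two_le]
    have hcomm : ∀ s : S, ⁅s, x⁆ ∈ Z := by
      have h1 : ⁅(⊤ : Subgroup S), N⁆ ≤ Z := by
        have h2 : Nat.card (N.map (QuotientGroup.mk' Z)) = p := by
          rw [← Subgroup.relIndex_ker (QuotientGroup.mk' Z) (K := N), QuotientGroup.ker_mk']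
          have := Subgroup.card_mul_index (Z.subgroupOf N)
          rw [Nat.card_congr (Subgroup.subgroupOfEquivOfLe hZN).toEquiv, hZc, hNc, pow_two] at this
          exact Nat.eq_of_mul_eq_mul_left hp.pos this
        have : (N.map (QuotientGroup.mk' Z)).Normal := hNn.map _ (QuotientGroup.mk'_surjective Z)
        have h3 := Cfsg.Agent.PGroup.le_center_of_card_eq (hS.to_quotient Z) _ h2
        rw [Subgroup.commutator_le]
        intro s _ m hm
        rw [← QuotientGroup.ker_mk' Z, MonoidHom.mem_ker, map_commutatorElement,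
          commutatorElement_eq_one_iff_mul_comm]
        exact Subgroup.mem_center_iff.1 (h3 (Subgroup.mem_map_of_mem _ hm)) _
      exact fun s => h1 (Subgroup.commutator_mem_commutator (Subgroup.mem_top s) hxN)
    let f : S →* ↥Z := MonoidHom.mk' (fun s => ⟨⁅s, x⁆, hcomm s⟩) fun a b => Subtype.ext
      (Cfsg.Agent.PGroup.commutator_mul_left (hZle (hcomm b)))
    let C : Subgroup S := Subgroup.centralizer {x}
    have hCker : f.ker = C := by
      ext s
      rw [MonoidHom.mem_ker, Subgroup.mem_centralizer_singleton_iff, ← commutatorElement_eq_one_iff_mul_comm]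
      exact Subtype.ext_iff
    have hCi : C.index ≤ p := by
      rw [← hCker, Subgroup.index_ker, ← hZc]
      exact Subgroup.card_le_card_group _
    have hxC : ∀ c ∈ C, ∀ m ∈ N, c * m = m * c := by
      intro c hc m hm
      have hNle : N ≤ Subgroup.centralizer {c} := by
        have h1 : Z ⊔ Subgroup.zpowers x = N := by
          refine Subgroup.eq_of_le_of_card_ge (sup_le hZN (Subgroup.zpowers_le.2 hxN)) ?_
          have hlt : Z < Z ⊔ Subgroup.zpowers x := by
            rw [left_lt_sup]; exact fun h => hxZ (h (Subgroup.mem_zpowers x))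
          have := Cfsg.Agent.PGroup.mul_card_le_card hS hlt
          rw [hZc] at this
          rwa [hNc, pow_two]
        rw [← h1]
        refine sup_le (fun z hz => ?_) (Subgroup.zpowers_le.2 ?_)
        · rw [Subgroup.mem_centralizer_singleton_iff]
          exact (Subgroup.mem_center_iff.1 (hZle hz) c).symm
        · rw [Subgroup.mem_centralizer_singleton_iff]
          exact (Subgroup.mem_centralizer_singleton_iff.1 hc).symm
      exact (Subgroup.mem_centralizer_singleton_iff.1 (hNle hm)).symm
    have hCne : C ≠ ⊤ := by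
      intro htop
      apply hxZ
      refine ⟨⟨x, hNQ hxN⟩, Subgroup.mem_center_iff.2 fun q => Subtype.ext ?_, rfl⟩
      have : (q : S) ∈ C := htop ▸ Subgroup.mem_top _
      exact Subgroup.mem_centralizer_singleton_iff.1 this
    have hCp : C.index = p := by
      refine le_antisymm hCi ?_
      obtain ⟨k, hk⟩ := Cfsg.Agent.PGroup.index_eq_pow hS C
      rcases k with _ | k
      · exact absurd (Subgroup.index_eq_one.1 (by simpa using hk)) hCne
      · rw [hk]; exact Nat.le_self_pow (by omega) p
    have hCcard : Nat.card C = p ^ 3 := by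
      have := Subgroup.card_mul_index C
      rw [hCp, hScard] at this
      exact Nat.eq_of_mul_eq_mul_right hp.pos (by rw [this]; ring)
    have hNC : N ≤ C := by
      intro m hm
      rw [Subgroup.mem_centralizer_singleton_iff]
      have h1 : x ∈ C := Subgroup.mem_centralizer_singleton_iff.2 rfl
      exact (hxC x h1 m hm).symm
    have hzen : N.subgroupOf C ≤ Subgroup.center C := fun m hm => Subgroup.mem_center_iff.2
      fun c => Subtype.ext (hxC c c.2 m hm)
    have hq : Nat.card (↥C ⧸ N.subgroupOf C) = p := by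
      have := Subgroup.card_mul_index (N.subgroupOf C)
      rw [Nat.card_congr (Subgroup.subgroupOfEquivOfLe hNC).toEquiv, hNc, hCcard, pow_succ _ 2] at this
      exact Nat.eq_of_mul_eq_mul_left (pow_pos hp.pos 2) this
    have hcyc : IsCyclic (↥C ⧸ N.subgroupOf C) := isCyclic_of_prime_card hq
    refine ⟨C, ⟨⟨fun a b => ?_⟩⟩, hCp⟩
    exact commutative_of_cyclic_center_quotient (QuotientGroup.mk' (N.subgroupOf C))
      (by rw [QuotientGroup.ker_mk']; exact hzen) a b


end Cfsg.Agent.S3810
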