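import Cfsg.Statements.S3811
import Mathlib.GroupTheory.Nilpotent
import Cfsg.Agent.Lib.PGroup.Basic
import Cfsg.Agent.S3807


set_option autoImplicit false
open Cfsg

namespace Cfsg.Agent.S3811


open Subgroup
open scoped commutatorElement

universe u

structure Soft (p : ℕ) {P : Type u} [Group P] (E : Subgroup P) : Prop where
  comm : ∀ a ∈ E, ∀ b ∈ E, a * b = b * a
  cent : centralizer (E : Set P) ≤ E
  step : (normalizer (E : Set P)).index * p = E.index
  big : p ^ 2 ≤ E.index

structure Tower (p : ℕ) {P : Type u} [Group P] (E : Subgroup P) : Prop where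
  chain : ∀ K L : Subgroup P, E ≤ K → E ≤ L → K ≤ L ∨ L ≤ K
  step : ∀ K : Subgroup P, E ≤ K → K ≠ ⊤ → (normalizer (K : Set P)).index * p = K.index
  cls : ∀ (i : ℕ) (K : Subgroup P), E ≤ K → K ≠ ⊤ → K.index * p ^ i = E.index →
    K.lowerCentralSeries (i + 1) = ⊥

variable {p : ℕ} [Fact p.Prime]

theorem eq_of_between {P : Type u} [Group P] [Finite P] {H L M : Subgroup P} (h1 : H < L) (h2 : L ≤ M)
    (h : M.index * p = H.index) : L = M := by
  have hH : H.relIndex M = p := by
    have h' := relIndex_mul_index (h1.le.trans h2)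
    rw [← h, mul_comm _ p] at h'
    exact Nat.eq_of_mul_eq_mul_right (Nat.pos_of_ne_zero index_ne_zero_of_finite) h'
  have hd := relIndex_mul_relIndex H L M h1.le h2
  rw [hH] at hd
  rcases (Nat.dvd_prime (Fact.out : p.Prime)).1 ⟨_, hd.symm⟩ with e | e
  · exact absurd (relIndex_eq_one.1 e) (not_le_of_gt h1)
  · rw [e] at hd
    exact le_antisymm h2 (relIndex_eq_one.1 (by
      nlinarith [(Fact.out : p.Prime).pos, hd]))

theorem normalizer_le_of_lt {P : Type u} [Group P] [Finite P] (hP : IsPGroup p P) {E K : Subgroup P}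
    (hE : Soft p E) (h : E < K) : normalizer (E : Set P) ≤ K := by
  have hK : IsPGroup p K := hP.to_subgroup K
  haveI : Fact p.Prime := inferInstance
  have hlt : E < normalizer (E : Set P) ⊓ K := by
    refine lt_of_le_of_ne (le_inf le_normalizer h.le) fun e => ?_
    have h' : E.subgroupOf K < ⊤ := lt_top_iff_ne_top.2 fun t => not_le_of_gt h (subgroupOf_eq_top.1 t)
    refine (not_le_of_gt (Cfsg.Agent.PGroup.lt_normalizer hK h'.ne)) fun k hk => ?_
    have hk' : (k : P) ∈ normalizer (E : Set P) := by
      refine Subgroup.mem_normalizer_fintype fun x hx => ?_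
      have := (Subgroup.mem_normalizer_iff.1 hk ⟨x, h.le hx⟩).1 hx
      exact this
    show (k : P) ∈ E
    rw [e]
    exact ⟨hk', k.2⟩
  exact (eq_of_between hlt inf_le_left hE.step) ▸ inf_le_right

theorem index_comap' {P Q : Type u} [Group P] [Group Q] (π : P →* Q) (hπ : Function.Surjective π)
    (K : Subgroup Q) : (K.comap π).index = K.index := index_comap_of_surjective K hπ

/-- `|N'| = p` and `N` has index `p` in its normalizer, for `N` the normalizer of a soft subgroup. -/
theorem normalizer_facts {P : Type u} [Group P] [Finite P] (hP : IsPGroup p P) {E : Subgroup P}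
    (hE : Soft p E) :
    Nat.card ↥⁅normalizer (E : Set P), normalizer (E : Set P)⁆ = p ∧
      (normalizer ((normalizer (E : Set P) : Subgroup P) : Set P)).index * p = (normalizer (E : Set P)).index := by
  classical
  have hp := (Fact.out : p.Prime)
  set N := normalizer (E : Set P) with hNdef
  set N2 := normalizer (N : Set P) with hN2
  have hEN : E ≤ N := le_normalizer
  have hne : N ≠ ⊤ := by
    intro e
    have : N.index * p = E.index := hE.step
    rw [e, index_top, one_mul] at this
    have := hE.big
    rw [← ‹p = E.index›] at this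
    nlinarith [hp.two_le]
  have hlt : N < N2 := Cfsg.Agent.PGroup.lt_normalizer hP hne
  have hidx : (E.subgroupOf N).index = p := by
    have h := relIndex_mul_index hEN
    rw [← hE.step, mul_comm _ p] at h
    exact Nat.eq_of_mul_eq_mul_right (Nat.pos_of_ne_zero index_ne_zero_of_finite) h
  have hab : IsMulCommutative ↥(E.subgroupOf N) :=
    ⟨⟨fun a b => Subtype.ext (Subtype.ext (hE.comm _ a.2 _ b.2))⟩⟩
  have hna : ¬ IsMulCommutative N := by
    intro hc
    have h1 : N ≤ E := fun n hn => hE.cent (mem_centralizer_iff.2 fun e he =>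
      congrArg Subtype.val (hc.is_comm.comm ⟨e, hEN he⟩ ⟨n, hn⟩))
    rw [subgroupOf_eq_top.2 h1, index_top] at hidx
    exact hp.ne_one hidx.symm
  have h07 := Cfsg.Agent.S3807.result p (hP.to_subgroup N) hna (E.subgroupOf N) hab hidx
  -- conjugates of `E` under `N2`
  have hcg : ∀ g : P, ∀ u ∈ E.map (MulAut.conj g).toMonoidHom, ∀ v ∈ E.map (MulAut.conj g).toMonoidHom,
      u * v = v * u := by
    rintro g _ ⟨x, hx, rfl⟩ _ ⟨y, hy, rfl⟩
    rw [← map_mul, ← map_mul, hE.comm x hx y hy]
  obtain ⟨conjE, hconjE⟩ : ∃ f : N2 → {B : Subgroup N // IsMulCommutative ↥B ∧ B.index = p},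
      ∀ g x, x ∈ (f g).1 ↔ (x : P) ∈ E.map (MulAut.conj (g : P)).toMonoidHom := by
    refine ⟨fun g => ⟨((E.map (MulAut.conj (g : P)).toMonoidHom)).subgroupOf N, by
      exact ⟨⟨fun a b => Subtype.ext (Subtype.ext (hcg (g : P) _ (mem_subgroupOf.1 a.2) _ (mem_subgroupOf.1 b.2)))⟩⟩, by
      have hle : E.map (MulAut.conj (g : P)).toMonoidHom ≤ N := by
        rintro _ ⟨x, hx, rfl⟩
        exact (Subgroup.mem_normalizer_iff.1 g.2 x).1 (hEN hx)
      have h := relIndex_mul_index hle
      rw [index_map_of_bijective (MulEquiv.bijective _),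
        ← hE.step, mul_comm _ p] at h
      exact Nat.eq_of_mul_eq_mul_right (Nat.pos_of_ne_zero index_ne_zero_of_finite) h⟩, fun g x => Iff.rfl⟩
  have hconj : ∀ g h : N2, conjE g = conjE h → g⁻¹ * h ∈ N.subgroupOf N2 := by
    intro g h e
    have hgN : ∀ k : N2, ∀ x ∈ E, (k : P) * x * (k : P)⁻¹ ∈ N := fun k x hx =>
      (Subgroup.mem_normalizer_iff.1 k.2 x).1 (hEN hx)
    refine Subgroup.mem_normalizer_fintype fun x hx => ?_
    have h1 : (⟨_, hgN h x hx⟩ : N) ∈ (conjE h).1 := (hconjE _ _).2 ⟨x, hx, rfl⟩
    rw [← e] at h1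
    obtain ⟨y, hy, hyx⟩ := (hconjE _ _).1 h1
    change (g : P) * y * (g : P)⁻¹ = (h : P) * x * (h : P)⁻¹ at hyx
    show ((g⁻¹ * h : N2) : P) * x * ((g⁻¹ * h : N2) : P)⁻¹ ∈ E
    rw [coe_mul, coe_inv, show ((g : P)⁻¹ * h) * x * ((g : P)⁻¹ * h)⁻¹ = (g : P)⁻¹ * ((h : P) * x * (h : P)⁻¹) * g by group,
      ← hyx, show (g : P)⁻¹ * ((g : P) * y * (g : P)⁻¹) * g = y by group]
    exact hy
  rcases h07.2 with ⟨hc, -, -, hcount⟩ | ⟨-, huniq⟩
  · refine ⟨?_, ?_⟩
    · rw [← N.map_subtype_commutator, card_map_of_injective N.subtype_injective, hc]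
    · have h1 : N.relIndex N2 ≤ p + 1 := by
        rw [← hcount]
        refine Nat.card_le_card_of_injective (fun q : N2 ⧸ N.subgroupOf N2 => conjE q.out) fun a b e => ?_
        rw [← QuotientGroup.out_eq' a, ← QuotientGroup.out_eq' b]
        exact QuotientGroup.eq.2 (hconj _ _ e)
      obtain ⟨k, hk⟩ := Cfsg.Agent.PGroup.index_eq_pow (hP.to_subgroup N2) (N.subgroupOf N2)
      have hk1 : k = 1 := by
        rcases k with _ | _ | k
        · exact absurd (relIndex_eq_one.1 hk) (not_le_of_gt hlt)
        · rfl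
        · exfalso
          change N.relIndex N2 = p ^ (k + 1 + 1) at hk
          have : p ^ 2 ≤ p ^ (k + 1 + 1) := Nat.pow_le_pow_right hp.pos (by omega)
          nlinarith [hp.two_le]
      rw [← relIndex_mul_index hlt.le, show N.relIndex N2 = p by rw [← pow_one p, ← hk1]; exact hk]
      ring
  · exfalso
    obtain ⟨g, hg, hgN⟩ := SetLike.exists_of_lt hlt
    have h1 : conjE ⟨g, hg⟩ = conjE 1 :=
      Subtype.ext ((huniq _ (conjE ⟨g, hg⟩).2.1 (conjE ⟨g, hg⟩).2.2).trans
        (huniq _ (conjE 1).2.1 (conjE 1).2.2).symm)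
    have h2 := hconj 1 ⟨g, hg⟩ h1.symm
    rw [inv_one, one_mul] at h2
    exact hgN h2

theorem lcs_one_eq_bot {P : Type u} [Group P] {E : Subgroup P} (h : ∀ a ∈ E, ∀ b ∈ E, a * b = b * a) :
    E.lowerCentralSeries 1 = ⊥ := by
  rw [Subgroup.lowerCentralSeries_succ, Subgroup.lowerCentralSeries_zero, eq_bot_iff, commutator_le]
  exact fun a ha b hb => mem_bot.2 (commutatorElement_eq_one_iff_mul_comm.2 (h a ha b hb))

/-- Transfer of a tower from a quotient by a central subgroup. -/
theorem tower_all : ∀ (n : ℕ) (P : Type u) [Group P] [Finite P], Nat.card P = n → IsPGroup p P →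
    ∀ E : Subgroup P, Soft p E → Tower p E := by
  have hp := (Fact.out : p.Prime)
  intro n
  induction n using Nat.strong_induction_on with
  | _ n ih =>
  intro P _ _ hn hP E hE
  set N := normalizer (E : Set P) with hNdef
  obtain ⟨hN', hN2⟩ := normalizer_facts hP hE
  have hEN : E ≤ N := le_normalizer
  have hge : ∀ K : Subgroup P, E ≤ K → K = E ∨ N ≤ K := fun K hK =>
    hK.eq_or_lt.imp Eq.symm (normalizer_le_of_lt hP hE)
  have hNi : p ≤ N.index := by
    refine Nat.le_of_mul_le_mul_right ?_ hp.pos
    rw [hE.step, ← pow_two]; exact hE.big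
  haveI : Nontrivial P := by
    refine not_subsingleton_iff_nontrivial.1 fun h => ?_
    have : N.index = 1 := by rw [show N = ⊤ from Subsingleton.elim _ _, index_top]
    have := hp.two_le
    omega
  obtain ⟨z, -, hzc, hzo⟩ := Cfsg.Agent.PGroup.exists_orderOf_eq_mem_center hP ⊤ top_ne_bot
  set Z := zpowers z with hZdef
  have hZc : Z ≤ center P := zpowers_le.2 hzc
  have hZn : Z.Normal := ⟨fun x hx g => by rw [mem_center_iff.1 (hZc hx) g, mul_inv_cancel_right]; exact hx⟩
  have hzE : Z ≤ E := hZc.trans ((center_le_centralizer _).trans hE.cent)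
  let π := QuotientGroup.mk' Z
  have hπ : Function.Surjective π := QuotientGroup.mk'_surjective Z
  have hker : π.ker = Z := QuotientGroup.ker_mk' Z
  have hQ : IsPGroup p (P ⧸ Z) := hP.to_quotient Z
  have hQn : Nat.card (P ⧸ Z) < n := by
    rw [← hn, card_eq_card_quotient_mul_card_subgroup Z, Nat.card_zpowers, hzo]
    exact lt_mul_of_one_lt_right Nat.card_pos hp.one_lt
  have hcm : ∀ K : Subgroup P, Z ≤ K → (K.map π).comap π = K := fun K h => by
    rw [comap_map_eq, hker, sup_eq_left.2 h]
  have himap : ∀ K : Subgroup P, Z ≤ K → (K.map π).index = K.index := fun K h =>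
    index_map_eq _ hπ (hker.le.trans h)
  have hnmap : ∀ K : Subgroup P, Z ≤ K →
      (normalizer ((K.map π : Subgroup (P ⧸ Z)) : Set (P ⧸ Z))).index = (normalizer (K : Set P)).index := by
    intro K h
    rw [← index_comap' π hπ, comap_normalizer_eq_of_surjective _ hπ, hcm K h]
  have hmem : ∀ (K : Subgroup P), Z ≤ K → ∀ g, π g ∈ K.map π → g ∈ K := fun K h g hg => by
    rw [← hcm K h]; exact hg
  have htop : ∀ K : Subgroup P, Z ≤ K → K ≠ ⊤ → K.map π ≠ ⊤ := fun K h h1 e => h1 (by
    rw [← hcm K h, e, comap_top])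
  have hlcs : ∀ (K : Subgroup P) (i : ℕ), (K.map π).lowerCentralSeries i = ⊥ →
      K.lowerCentralSeries i ≤ Z := fun K i h => by
    rw [← Subgroup.map_lowerCentralSeries, Subgroup.map_eq_bot_iff, hker] at h; exact h
  have hbase : ∀ i, E.index * p ^ i = E.index → i = 0 := fun i h => by
    by_contra h0
    have h1 : 1 < p ^ i := Nat.one_lt_pow h0 hp.one_lt
    nlinarith [Nat.pos_of_ne_zero (index_ne_zero_of_finite : E.index ≠ 0)]
  have hclsE : ∀ i, E.index * p ^ i = E.index → E.lowerCentralSeries (i + 1) = ⊥ := fun i h => by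
    rw [hbase i h]; exact lcs_one_eq_bot hE.comm
  have hcast : ∀ (i : ℕ) (K : Subgroup P), K.index * p ^ (i + 1) = E.index → K.index * p ^ i = N.index := fun i K h => by
    refine Nat.eq_of_mul_eq_mul_right hp.pos ?_
    rw [mul_assoc, ← pow_succ, h, hE.step]
  by_cases hzN : ⁅N, N⁆ = Z
  · -- `N / Z` is soft in `P / Z`, or `N` is maximal
    have hi0 : ∀ i (K : Subgroup P), N ≤ K → K.index * p ^ i = E.index → ∃ j, i = j + 1 := by
      intro i K hK h
      refine ⟨i - 1, ?_⟩
      rcases i with _ | i
      · exfalso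
        have h1 := Nat.le_of_dvd (Nat.pos_of_ne_zero index_ne_zero_of_finite) (index_dvd_of_le hK)
        rw [pow_zero, mul_one] at h
        rw [h, ← hE.step] at h1
        have := hp.two_le
        nlinarith [Nat.pos_of_ne_zero (index_ne_zero_of_finite : N.index ≠ 0)]
      · rfl
    obtain ⟨t, ht⟩ := Cfsg.Agent.PGroup.index_eq_pow hP N
    rcases Nat.lt_or_ge t 2 with ht2 | ht2
    · -- `N` is maximal
      have ht1 : t = 1 := by
        rcases t with _ | _ | t
        · have := hp.two_le; rw [pow_zero] at ht; omega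
        · rfl
        · omega
      rw [ht1, pow_one] at ht
      have hco := Cfsg.Agent.PGroup.isCoatom_of_index_eq ht
      have hall : ∀ K : Subgroup P, E ≤ K → K = E ∨ K = N ∨ K = ⊤ := fun K hK =>
        (hge K hK).imp_right fun h => h.eq_or_lt.elim (fun e => Or.inl e.symm) fun h' => Or.inr (hco.2 _ h')
      refine ⟨fun K L hK hL => ?_, fun K hK hne => ?_, fun i K hK hne hi => ?_⟩
      · rcases hall K hK with rfl | rfl | rfl <;> rcases hall L hL with rfl | rfl | rfl
        all_goals first | exact Or.inl le_rfl | exact Or.inl hEN | exact Or.inr hEN | exact Or.inl le_top | exact Or.inr le_top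
      · rcases hall K hK with rfl | rfl | rfl
        · exact hE.step
        · exact hN2
        · exact absurd rfl hne
      · rcases hall K hK with rfl | rfl | rfl
        · exact hclsE i hi
        · obtain ⟨j, rfl⟩ := hi0 i _ le_rfl hi
          refine eq_bot_iff.2 ((Subgroup.lowerCentralSeries_antitone _ (show 2 ≤ j + 1 + 1 by omega)).trans ?_)
          rw [Subgroup.lowerCentralSeries_succ, Subgroup.lowerCentralSeries_succ, Subgroup.lowerCentralSeries_zero, hzN,
            le_bot_iff, commutator_eq_bot_iff_le_centralizer]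
          exact hZc.trans (center_le_centralizer _)
        · exact absurd rfl hne
    have hZN : Z ≤ N := hzE.trans hEN
    have hsoft : Soft p (N.map π) := by
      refine ⟨?_, ?_, ?_, ?_⟩
      · rintro _ ⟨a, ha, rfl⟩ _ ⟨b, hb, rfl⟩
        rw [← commutatorElement_eq_one_iff_mul_comm, ← map_commutatorElement, ← MonoidHom.mem_ker, hker, ← hzN]
        exact commutator_mem_commutator ha hb
      · intro gq hg
        obtain ⟨g, rfl⟩ := hπ gq
        refine mem_map_of_mem π (Subgroup.mem_normalizer_fintype fun e he => ?_)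
        have h1 : π ⁅g, e⁆ = 1 := by
          rw [map_commutatorElement, commutatorElement_eq_one_iff_mul_comm]
          exact (mem_centralizer_iff.1 hg _ (mem_map_of_mem π (hEN he))).symm
        rw [← MonoidHom.mem_ker, hker, commutatorElement_def] at h1
        simpa using E.mul_mem (hzE h1) he
      · rw [himap N hZN, hnmap N hZN]; exact hN2
      · rw [himap N hZN, ht]; exact Nat.pow_le_pow_right hp.pos ht2
    have T := ih _ hQn (P ⧸ Z) rfl hQ _ hsoft
    refine ⟨fun K L hK hL => ?_, fun K hK hne => ?_, fun i K hK hne hi => ?_⟩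
    · rcases hge K hK with rfl | hK'
      · exact Or.inl hL
      rcases hge L hL with rfl | hL'
      · exact Or.inr hK
      refine (T.chain _ _ (map_mono hK') (map_mono hL')).imp (fun h => ?_) (fun h => ?_)
      · exact fun g hg => hmem L (hzE.trans hL) g (h (mem_map_of_mem π hg))
      · exact fun g hg => hmem K (hzE.trans hK) g (h (mem_map_of_mem π hg))
    · rcases hge K hK with rfl | hK'
      · exact hE.step
      rw [← hnmap K (hzE.trans hK), ← himap K (hzE.trans hK)]
      exact T.step _ (map_mono hK') (htop K (hzE.trans hK) hne)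
    · rcases hge K hK with rfl | hK'
      · exact hclsE i hi
      obtain ⟨j, rfl⟩ := hi0 i K hK' hi
      have h1 := hlcs K (j + 1) (T.cls j _ (map_mono hK') (htop K (hzE.trans hK) hne)
        (by rw [himap K (hzE.trans hK), himap N hZN]; exact hcast j K hi))
      rw [Subgroup.lowerCentralSeries_succ, commutator_eq_bot_iff_le_centralizer]
      exact h1.trans (hZc.trans (center_le_centralizer _))
  -- otherwise `E / Z` is soft in `P / Z`
  have hdisj : ∀ x ∈ ⁅N, N⁆, x ∈ Z → x = 1 := by
    intro x hx hxz
    by_contra hx1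
    refine hzN (eq_of_le_of_card_ge ?_ ?_)
    · have hzx : zpowers x = ⁅N, N⁆ := by
        refine eq_of_le_of_card_ge (zpowers_le.2 hx) ?_
        rw [hN', Nat.card_zpowers]
        exact Nat.le_of_eq (orderOf_eq_prime (by
          obtain ⟨k, hk⟩ := mem_zpowers_iff.1 hxz
          rw [← hk, ← zpow_natCast, ← zpow_mul, mul_comm, zpow_mul, zpow_natCast, ← hzo, pow_orderOf_eq_one, one_zpow]) hx1).symm
      exact hzx ▸ zpowers_le.2 hxz
    · rw [hN', Nat.card_zpowers, hzo]
  have hmemE : ∀ g : P, (∀ e ∈ E, ⁅g, e⁆ ∈ Z) → g ∈ E := by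
    intro g hg
    have hgN : g ∈ N := Subgroup.mem_normalizer_fintype fun e he => by
      have h1 := hg e he
      rw [commutatorElement_def] at h1
      simpa using E.mul_mem (hzE h1) he
    exact hE.cent (mem_centralizer_iff.2 fun e he => (commutatorElement_eq_one_iff_mul_comm.1
      (hdisj _ (commutator_mem_commutator hgN (hEN he)) (hg e he))).symm)
  have hsoft : Soft p (E.map π) := by
    refine ⟨?_, ?_, ?_, ?_⟩
    · rintro _ ⟨a, ha, rfl⟩ _ ⟨b, hb, rfl⟩
      rw [← map_mul, ← map_mul, hE.comm a ha b hb]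
    · intro gq hg
      obtain ⟨g, rfl⟩ := hπ gq
      refine mem_map_of_mem π (hmemE g fun e he => ?_)
      rw [← hker, MonoidHom.mem_ker, map_commutatorElement, commutatorElement_eq_one_iff_mul_comm]
      exact (mem_centralizer_iff.1 hg _ (mem_map_of_mem π he)).symm
    · rw [himap E hzE, hnmap E hzE]; exact hE.step
    · rw [himap E hzE]; exact hE.big
  have T := ih _ hQn (P ⧸ Z) rfl hQ _ hsoft
  have hchain : ∀ K L : Subgroup P, E ≤ K → E ≤ L → K ≤ L ∨ L ≤ K := fun K L hK hL =>
    (T.chain _ _ (map_mono hK) (map_mono hL)).imp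
      (fun h g hg => hmem L (hzE.trans hL) g (h (mem_map_of_mem π hg)))
      (fun h g hg => hmem K (hzE.trans hK) g (h (mem_map_of_mem π hg)))
  have hstep : ∀ K : Subgroup P, E ≤ K → K ≠ ⊤ → (normalizer (K : Set P)).index * p = K.index := fun K hK hne => by
    rw [← hnmap K (hzE.trans hK), ← himap K (hzE.trans hK)]
    exact T.step _ (map_mono hK) (htop K (hzE.trans hK) hne)
  refine ⟨hchain, hstep, fun i K hK hne hi => ?_⟩
  rcases hge K hK with rfl | hNK
  · exact hclsE i hi
  set M := normalizer (K : Set P) with hMdef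
  have hKM : K < M := Cfsg.Agent.PGroup.lt_normalizer hP hne
  by_cases hM : M = ⊤
  · -- `K` is maximal
    have h1 := hlcs K (i + 1) (T.cls i _ (map_mono hK) (htop K (hzE.trans hK) hne)
      (by rw [himap K (hzE.trans hK), himap E hzE]; exact hi))
    have hgE : K.lowerCentralSeries i ≤ E := fun u hu => hmemE u fun e he =>
      h1 (by rw [Subgroup.lowerCentralSeries_succ]; exact commutator_mem_commutator hu (hK he))
    obtain ⟨y, -, hy⟩ := SetLike.exists_of_lt (lt_top_iff_ne_top.2 hne)
    have hKy : K.map (MulAut.conj y).toMonoidHom = K :=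
      Subgroup.mem_normalizer_iff_map_conj_eq.1 (show y ∈ M by rw [hM]; exact mem_top y)
    set S := E ⊔ E.map (MulAut.conj y).toMonoidHom with hS
    have hSK : S ≤ K := sup_le hK (hKy ▸ map_mono hK)
    have hSeq : S = K := by
      by_contra hSne
      have hS' : E ≤ S.comap (MulAut.conj y).toMonoidHom :=
        map_le_iff_le_comap.1 le_sup_right
      have hc : Nat.card ↥(S.comap (MulAut.conj y).toMonoidHom) = Nat.card S :=
        Nat.card_congr (((MulAut.conj y).toEquiv).subtypeEquiv fun _ => Iff.rfl)
      have heq : S.comap (MulAut.conj y).toMonoidHom = S := by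
        rcases hchain S _ le_sup_left hS' with h | h
        · exact (eq_of_le_of_card_ge h hc.le).symm
        · exact eq_of_le_of_card_ge h hc.ge
      have hyS : y ∈ normalizer (S : Set P) :=
        Subgroup.mem_normalizer_fintype fun x hx => by rw [← heq] at hx; exact hx
      have hSK' : S < K := lt_of_le_of_ne hSK hSne
      rcases hchain (normalizer (S : Set P)) K (le_sup_left.trans le_normalizer) hK with h | h
      · exact hy (h hyS)
      · rw [← eq_of_between hSK' h (hstep S le_sup_left hSK'.ne_top)] at hyS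
        exact hy hyS
    have hgy : (K.lowerCentralSeries i).map (MulAut.conj y).toMonoidHom = K.lowerCentralSeries i := by
      rw [Subgroup.map_lowerCentralSeries, hKy]
    rw [Subgroup.lowerCentralSeries_succ, commutator_eq_bot_iff_le_centralizer]
    intro u hu
    rw [← hSeq]
    refine mem_centralizer_iff.2 ?_
    have hS2 : S ≤ centralizer {u} := by
      refine sup_le (fun e he => mem_centralizer_singleton_iff.2 (hE.comm e he u (hgE hu))) ?_
      rintro _ ⟨e, he, rfl⟩
      obtain ⟨v, hv, rfl⟩ := (hgy.symm ▸ hu : u ∈ _)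
      exact mem_centralizer_singleton_iff.2 (by rw [← map_mul, ← map_mul, hE.comm e he v (hgE hv)])
    exact fun s hs => mem_centralizer_singleton_iff.1 (hS2 hs)
  · -- induction inside `M`
    have hEM : E ≤ M := hK.trans hKM.le
    have hMn : Nat.card M < n := hn ▸ lt_of_le_of_ne (card_le_card_group M) fun h => hM (eq_top_of_card_eq M h)
    have hrel : ∀ H : Subgroup P, H ≤ M → (H.subgroupOf M).index * M.index = H.index := fun H h =>
      relIndex_mul_index h
    have hMi : 0 < M.index := Nat.pos_of_ne_zero index_ne_zero_of_finite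
    have hNM : N ≤ M := hNK.trans hKM.le
    have hnorm : normalizer ((E.subgroupOf M : Subgroup M) : Set M) = N.subgroupOf M := by
      ext g
      constructor
      · intro hg
        refine Subgroup.mem_normalizer_fintype fun x hx => ?_
        exact (Subgroup.mem_normalizer_iff.1 hg ⟨x, hEM hx⟩).1 hx
      · intro hg
        exact Subgroup.mem_normalizer_iff.2 fun x => Subgroup.mem_normalizer_iff.1 hg (x : P)
    have hKi : p ≤ (K.subgroupOf M).index := by
      obtain ⟨t, ht⟩ := Cfsg.Agent.PGroup.index_eq_pow (hP.to_subgroup M) (K.subgroupOf M)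
      rw [ht]
      rcases t with _ | t
      · exact absurd (relIndex_eq_one.1 ht) (not_le_of_gt hKM)
      · exact Nat.le_self_pow (by omega) p
    have hsM : Soft p (E.subgroupOf M) := by
      refine ⟨fun a ha b hb => Subtype.ext (hE.comm _ ha _ hb), ?_, ?_, ?_⟩
      · intro g hg
        exact hE.cent (mem_centralizer_iff.2 fun e he =>
          congrArg Subtype.val (mem_centralizer_iff.1 hg ⟨e, hEM he⟩ he))
      · rw [hnorm]
        refine Nat.eq_of_mul_eq_mul_right hMi ?_
        rw [mul_right_comm, hrel N hNM, hrel E hEM, hE.step]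
      · refine Nat.le_of_mul_le_mul_right ?_ hMi
        rw [hrel E hEM]
        have h1 : N.relIndex K * K.index = N.index := relIndex_mul_index hNK
        have h2 := hrel K hKM.le
        have h3 : 0 < N.relIndex K := Nat.pos_of_ne_zero (fun h => by
          rw [h, zero_mul] at h1; exact index_ne_zero_of_finite h1.symm)
        calc p ^ 2 * M.index = p * M.index * p := by ring
          _ ≤ (K.subgroupOf M).index * M.index * p := by gcongr
          _ = K.index * p := by rw [h2]
          _ ≤ N.index * p := by rw [← h1]; gcongr; exact Nat.le_mul_of_pos_left _ h3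
          _ = E.index := hE.step
    have hne' : K.subgroupOf M ≠ ⊤ := fun h => not_le_of_gt hKM (subgroupOf_eq_top.1 h)
    have h := (ih _ hMn M rfl (hP.to_subgroup M) _ hsM).cls i (K.subgroupOf M) (fun x hx => hK hx) hne'
      (Nat.eq_of_mul_eq_mul_right hMi (by rw [mul_right_comm, hrel K hKM.le, hrel E hEM]; exact hi))
    have h' := congrArg (Subgroup.map M.subtype) h
    rwa [Subgroup.map_lowerCentralSeries, map_subgroupOf_eq_of_le hKM.le, Subgroup.map_bot] at h'

theorem index_le_of_lcs {P : Type u} [Group P] [Finite P] {E : Subgroup P} (hE : Soft p E) (hT : Tower p E)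
    {K : Subgroup P} (hK : E ≤ K) {c : ℕ} (hc : K.lowerCentralSeries (c + 1) = ⊥) :
    E.index ≤ K.index * p ^ c := by
  have key : ∀ j, j ≤ c → E.index ≤ (E ⊔ K.lowerCentralSeries (c - j)).index * p ^ j := by
    intro j
    induction j with
    | zero =>
      intro _
      have h1 : K.lowerCentralSeries c ≤ E := by
        rw [Subgroup.lowerCentralSeries_succ, commutator_eq_bot_iff_le_centralizer] at hc
        exact hc.trans ((centralizer_le (SetLike.coe_subset_coe.2 hK)).trans hE.cent)
      rw [Nat.sub_zero, sup_eq_left.2 h1, pow_zero, mul_one]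
    | succ j ihj =>
      intro hj
      have hcj : c - j = c - (j + 1) + 1 := by omega
      set S := E ⊔ K.lowerCentralSeries (c - j) with hS
      have hSK : S ≤ K := sup_le hK (Subgroup.lowerCentralSeries_le_self _ _)
      have hle : E ⊔ K.lowerCentralSeries (c - (j + 1)) ≤ normalizer (S : Set P) := by
        refine sup_le (le_sup_left.trans le_normalizer) ?_
        rw [le_normalizer_iff_commutator_le_right]
        refine le_trans ?_ (le_sup_right (a := E))
        rw [hcj, Subgroup.lowerCentralSeries_succ]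
        exact commutator_mono le_rfl hSK
      refine (ihj (by omega)).trans ?_
      rw [pow_succ' p j, ← mul_assoc]
      refine Nat.mul_le_mul_right _ ?_
      have hd := Nat.le_of_dvd (Nat.pos_of_ne_zero index_ne_zero_of_finite) (index_dvd_of_le hle)
      rcases eq_or_ne S ⊤ with e | e
      · rw [e, index_top]
        exact Nat.mul_pos (Nat.pos_of_ne_zero index_ne_zero_of_finite) (Fact.out : p.Prime).pos
      · rw [← hT.step S le_sup_left e]
        exact Nat.mul_le_mul_right _ hd
  have h := key c le_rfl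
  rwa [Nat.sub_self, Subgroup.lowerCentralSeries_zero, sup_eq_right.2 hK] at h


/-- Let P be a finite p-group and E an abelian subgroup of P that contains its centralizer, has index p in its normalizer, and has index at least p² in P. Then the subgroups of P containing E are totally ordered by inclusion, each proper one has index p in its normalizer (so they form the normalizer tower of E, with all steps of index p), and the i-th member of the tower above E has nilpotency class i + 1 whenever it is a proper subgroup of P. -/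
theorem result {P : Type*} [Group P] [Finite P] (p : ℕ) [Fact p.Prime] (hP : IsPGroup p P)
    (E : Subgroup P) (hEab : IsMulCommutative ↥E) (hC : Subgroup.centralizer (E : Set P) ≤ E)
    (hN : (E.subgroupOf (Subgroup.normalizer (E : Set P))).index = p) (hidx : p ^ 2 ≤ E.index) :
    (∀ K L : Subgroup P, E ≤ K → E ≤ L → K ≤ L ∨ L ≤ K) ∧
      (∀ K : Subgroup P, E ≤ K → K ≠ ⊤ → (K.subgroupOf (Subgroup.normalizer (K : Set P))).index = p) ∧
      ∀ (i : ℕ) (K : Subgroup P) [Group.IsNilpotent ↥K], E ≤ K → K ≠ ⊤ → K.index * p ^ i = E.index →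
        Group.nilpotencyClass ↥K = i + 1 := by
  have hp := (Fact.out : p.Prime)
  have hmul : ∀ H : Subgroup P, (H.subgroupOf (Subgroup.normalizer (H : Set P))).index = p ↔
      (Subgroup.normalizer (H : Set P)).index * p = H.index := by
    intro H
    have h := Subgroup.relIndex_mul_index (Subgroup.le_normalizer (H := H))
    constructor
    · intro h1
      rw [← h, show H.relIndex (Subgroup.normalizer (H : Set P)) = p from h1, mul_comm]
    · intro h1
      rw [← h, mul_comm] at h1
      exact (Nat.eq_of_mul_eq_mul_right (Nat.pos_of_ne_zero Subgroup.index_ne_zero_of_finite) h1).symm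
  have hE : Soft p E := ⟨fun a ha b hb => congrArg Subtype.val (hEab.is_comm.comm ⟨a, ha⟩ ⟨b, hb⟩), hC,
    (hmul E).1 hN, hidx⟩
  have hT := tower_all _ P rfl hP E hE
  refine ⟨hT.chain, fun K hK hne => (hmul K).2 (hT.step K hK hne), ?_⟩
  intro i K hKnil hK hne hi
  have hub := hT.cls i K hK hne hi
  have hiff : ∀ m, Group.nilpotencyClass K ≤ m ↔ K.lowerCentralSeries m = ⊥ := fun m => by
    rw [← Subgroup.lowerCentralSeries_eq_bot_iff_nilpotencyClass_le, ← Subgroup.top_subtype_lowerCentralSeries K,
      Subgroup.map_eq_bot_iff_of_injective _ K.subtype_injective]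
  refine le_antisymm ((hiff _).2 hub) ?_
  by_contra hlt
  push Not at hlt
  have h1 := (hiff i).1 (by omega)
  rcases i with _ | i
  · have hEb : E = ⊥ := eq_bot_iff.2 (h1 ▸ hK)
    have : (⊤ : Subgroup P) ≤ E := fun g _ => hC (Subgroup.mem_centralizer_iff.2 fun e he => by
      rw [hEb] at he
      rw [Subgroup.mem_bot.1 he, one_mul, mul_one])
    rw [top_le_iff.1 this, Subgroup.index_top] at hidx
    have := hp.two_le
    nlinarith
  · have h2 := index_le_of_lcs hE hT hK h1
    rw [← hi, pow_succ, ← mul_assoc] at h2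
    have hpos : 0 < K.index * p ^ i := Nat.mul_pos (Nat.pos_of_ne_zero Subgroup.index_ne_zero_of_finite) (pow_pos hp.pos _)
    nlinarith [hp.two_le]

end Cfsg.Agent.S3811
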