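import Cfsg.Statements.S3815
import Mathlib.GroupTheory.Perm.Cycle.Type
import Cfsg.Agent.Lib.PCore.Basic


set_option autoImplicit false
open Cfsg

namespace Cfsg.Agent.S3815

/-- The elements whose left translation preserves the set of `p'`-elements. -/
theorem translators_coprime {G : Type*} [Group G] [Finite G] {p : ℕ} [Fact p.Prime] :
    ∃ T : Subgroup G, T.Normal ∧ (Nat.card T).Coprime p ∧
      ∀ x : G, (∀ g : G, (orderOf g).Coprime p → (orderOf (x * g)).Coprime p) → x ∈ T := by
  classical
  let M : Submonoid G :=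
    { carrier := {x | ∀ g : G, (orderOf g).Coprime p → (orderOf (x * g)).Coprime p}
      one_mem' := fun g hg => by simpa using hg
      mul_mem' := fun {a b} ha hb g hg => by rw [mul_assoc]; exact ha _ (hb g hg) }
  let T : Subgroup G :=
    { M with
      inv_mem' := fun {x} hx => by
        change x⁻¹ ∈ M
        rw [inv_eq_of_mul_eq_one_left (a := x ^ (orderOf x - 1))]
        · exact pow_mem hx _
        · rw [← pow_succ, Nat.sub_add_cancel (orderOf_pos x), pow_orderOf_eq_one] }
  refine ⟨T, ⟨fun n hn g => ?_⟩, ?_, fun x hx => hx⟩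
  · intro a ha
    have h1 : orderOf (g⁻¹ * a * g) = orderOf a := by
      simpa [MulAut.conj] using MulEquiv.orderOf_eq (MulAut.conj g⁻¹) a
    have h2 := hn (g⁻¹ * a * g) (h1 ▸ ha)
    have h3 : g * n * g⁻¹ * a = g * (n * (g⁻¹ * a * g)) * g⁻¹ := by group
    rw [h3, ← MulAut.conj_apply, MulEquiv.orderOf_eq]
    exact h2
  · rw [Nat.coprime_comm, (Fact.out : p.Prime).coprime_iff_not_dvd]
    intro hdvd
    obtain ⟨x, hx⟩ := exists_prime_orderOf_dvd_card' (G := T) p hdvd
    have h1 := x.2 1 (by simp)
    rw [mul_one, Subgroup.orderOf_coe, hx, Nat.coprime_self] at h1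
    exact (Fact.out : p.Prime).one_lt.ne' h1


/-- Let G be a finite group, p a prime and d ∈ G an element of order prime to p. If dg has order prime to p for every element g ∈ G of order prime to p, then d ∈ O_{p'}(G). -/
theorem result {G : Type*} [Group G] [Finite G] {p : ℕ} [Fact p.Prime]
    (d : G) (hd : (orderOf d).Coprime p)
    (h : ∀ g : G, (orderOf g).Coprime p → (orderOf (d * g)).Coprime p) :
    d ∈ Cfsg.pPrimeCore p G := by
  obtain ⟨T, hTn, hTc, hT⟩ := translators_coprime (G := G) (p := p)
  exact Cfsg.Agent.PCore.le_pPrimeCore (hN := hTn) hTc (hT d h)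


end Cfsg.Agent.S3815
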