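import Cfsg.Statements.S3818
import Cfsg.Agent.Lib.FixedDim.General


set_option autoImplicit false
open Cfsg

namespace Cfsg.Agent.S3818

/-- Let G be a finite solvable group and P a subgroup of G of prime order p > 3 whose conjugates generate G. Let V be a faithful irreducible representation of G over a field of positive characteristic, finite-dimensional. Then the subspace of V fixed by P has dimension less than half the dimension of V. -/
theorem result {G : Type*} [Group G] [Finite G] [Group.IsSolvable G]
    {p : ℕ} [Fact p.Prime] (hp : 3 < p) (P : Subgroup G) (hP : Nat.card P = p) (hgen : Subgroup.normalClosure (P : Set G) = ⊤)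
    {k : Type*} [Field k] (ℓ : ℕ) [Fact ℓ.Prime] [CharP k ℓ]
    {V : Type*} [AddCommGroup V] [Module k V] [FiniteDimensional k V]
    (ρ : Representation k G V) [ρ.IsIrreducible] (hfaith : Function.Injective ρ) :
    2 * Module.finrank k ↥(⨅ g : ↥P, LinearMap.ker (ρ (g : G) - LinearMap.id)) < Module.finrank k V := by
  classical
  obtain ⟨x, hx⟩ := exists_prime_orderOf_dvd_card' (G := P) p (by rw [hP])
  have hxo : orderOf (x : G) = p := by rwa [orderOf_submonoid]
  have hPx : P = Subgroup.zpowers (x : G) := by
    refine (Subgroup.eq_of_le_of_card_ge (Subgroup.zpowers_le.mpr x.2) ?_).symm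
    rw [Nat.card_zpowers, hxo, hP]
  have hgen' : Subgroup.normalClosure ({(x : G)} : Set G) = ⊤ := by
    rw [← top_le_iff, ← hgen]
    refine Subgroup.normalClosure_le_normal fun a ha => ?_
    rw [hPx] at ha
    exact Subgroup.zpowers_le.mpr (Subgroup.subset_normalClosure (Set.mem_singleton (x : G))) (by simpa using ha)
  have hirr : FixedDim.NoInvariant ρ := fun U hU => by
    rcases eq_bot_or_eq_top (⟨U, fun g v hv => hU g v hv⟩ : Subrepresentation ρ) with h | h
    · exact Or.inl (congrArg Subrepresentation.toSubmodule h)
    · exact Or.inr (congrArg Subrepresentation.toSubmodule h)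
  haveI : Nontrivial V := by
    by_contra hV
    rw [not_nontrivial_iff_subsingleton] at hV
    have h1 : (⊥ : Subrepresentation ρ) = ⊤ := Subrepresentation.toSubmodule_injective (Subsingleton.elim _ _)
    exact bot_ne_top h1
  refine lt_of_le_of_lt (Nat.mul_le_mul_left 2 (Submodule.finrank_mono ?_))
    (FixedDim.two_finrank_fixed_lt hp hxo hgen' ρ hfaith hirr)
  exact iInf_le (fun g : P => LinearMap.ker (ρ (g : G) - LinearMap.id)) x


end Cfsg.Agent.S3818
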