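import Cfsg.Statements.S3819
import Cfsg.Agent.Lib.PCore.Constrained
import Cfsg.Agent.Lib.PCore.PSolvable
import Cfsg.Agent.Lib.Coprime.Commutator
import Cfsg.Agent.Lib.Components.GenFitting
import Cfsg.Agent.Lib.Components.PActionAux

set_option autoImplicit false
open Cfsg

namespace Cfsg.Agent.S3819

open Subgroup

section

variable {H : Type*} [Group H] [Finite H] {q : ℕ} [Fact q.Prime]

/-- Balance in a `q`-solvable group. -/
theorem le_pPrimeCore_of_centralizer (hH : IsPSolvable q H) {z : H}
    (hz : IsPGroup q ↥(zpowers z)) {N : Subgroup H} (hN : N ≤ centralizer (zpowers z : Set H))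
    (hnorm : centralizer (zpowers z : Set H) ≤ normalizer (N : Set H))
    (hcop : (Nat.card N).Coprime q) : N ≤ pPrimeCore q H := by
  haveI := Coprime.normal_subgroupOf_of_le_normalizer hnorm
  have h1 := map_mono (f := (centralizer (zpowers z : Set H)).subtype)
    (PCore.le_pPrimeCore (p := q) (N := N.subgroupOf (centralizer (zpowers z : Set H)))
      (by rwa [Coprime.card_subgroupOf hN]))
  rw [map_subgroupOf_eq_of_le hN,
    PCore.map_pPrimeCore_centralizer (PCore.isPConstrained_of_isPSolvable hH) hz] at h1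
  exact h1.trans inf_le_left

/-- A normal `q`-solvable `M`, a `q`-element `z` and a `q'`-subgroup `K ≤ C(z)` normalised by
`C(z)`: then `K ∩ M ≤ O_{q'}(H)`. -/
theorem inf_le_core (M : Subgroup H) [hMn : M.Normal] (hM : IsPSolvable q M) {z : H}
    (hz : IsPGroup q ↥(zpowers z)) {K : Subgroup H} (hKq : (Nat.card K).Coprime q)
    (hKc : K ≤ centralizer ({z} : Set H))
    (hKn : centralizer ({z} : Set H) ≤ normalizer (K : Set H)) :
    K ⊓ M ≤ pPrimeCore q H := by
  set W := zpowers z ⊔ M with hW
  have hMW : M ≤ W := le_sup_right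
  have hzW : z ∈ W := mem_sup_left (mem_zpowers z)
  haveI : (M.subgroupOf W).Normal := Coprime.normal_subgroupOf_of_le_normalizer
    ((normalizer_eq_top (H := M)).ge.trans' le_top)
  have hWs : IsPSolvable q W := by
    refine PCore.isPSolvable_of_isPGroup_quotient (M.subgroupOf W)
      ((PCore.isPSolvable_congr (subgroupOfEquivOfLe hMW)).mpr hM) ?_
    obtain ⟨k, hk⟩ := hz.exists_card_eq
    have h : Nat.card (W ⧸ M.subgroupOf W) ∣ q ^ k := by
      rw [← index_eq_card, ← hk]
      show M.relIndex W ∣ _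
      rw [hW, relIndex_sup_right]
      exact relIndex_dvd_card _ _
    obtain ⟨i, -, hi⟩ := (Nat.dvd_prime_pow Fact.out).mp h
    exact IsPGroup.of_card hi
  set N := (K ⊓ M).subgroupOf W with hNdef
  have hzW' : IsPGroup q ↥(zpowers (⟨z, hzW⟩ : W)) := by
    refine hz.of_injective (((W.subtype).comp (zpowers (⟨z, hzW⟩ : W)).subtype).codRestrict
      (zpowers z) ?_) ?_
    · rintro ⟨w, hw⟩
      obtain ⟨i, rfl⟩ := mem_zpowers_iff.mp hw
      exact mem_zpowers_iff.mpr ⟨i, by simp⟩
    · intro a b hab
      exact Subtype.ext (Subtype.ext (congrArg Subtype.val hab :))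
  have hcz : ∀ w : W, w ∈ centralizer (zpowers (⟨z, hzW⟩ : W) : Set W) →
      (w : H) ∈ centralizer ({z} : Set H) := by
    intro w hw
    rw [mem_centralizer_singleton_iff]
    exact (congrArg Subtype.val (hw _ (mem_zpowers _))).symm
  have hNc : N ≤ centralizer (zpowers (⟨z, hzW⟩ : W) : Set W) := by
    rw [zpowers_eq_closure, centralizer_closure]
    intro w hw
    rw [mem_centralizer_singleton_iff]
    exact Subtype.ext (mem_centralizer_singleton_iff.mp (hKc hw.1))
  have hNn : centralizer (zpowers (⟨z, hzW⟩ : W) : Set W) ≤ normalizer (N : Set W) := by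
    intro w hw
    have h1 := mem_normalizer_iff.mp (hKn (hcz w hw))
    have h2 := mem_normalizer_iff.mp ((normalizer_eq_top (H := M)).ge (mem_top (w : H)))
    refine mem_normalizer_iff.mpr fun x => ?_
    show (x : H) ∈ K ⊓ M ↔ ((w * x * w⁻¹ : W) : H) ∈ K ⊓ M
    exact and_congr (h1 _) (h2 _)
  have hNcop : (Nat.card N).Coprime q := by
    rw [Coprime.card_subgroupOf (inf_le_right.trans hMW)]
    exact hKq.coprime_dvd_left (card_dvd_of_le inf_le_left)
  have hN1 := le_pPrimeCore_of_centralizer hWs hzW' hNc hNn hNcop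
  haveI : (((pPrimeCore q W).map W.subtype ⊓ M).subgroupOf M).Normal :=
    Coprime.normal_subgroupOf_of_le_normalizer
      ((le_inf (hMW.trans (le_normalizer.trans
          (Components.normalizer_le_normalizer_map_of_characteristic W _)))
        le_normalizer).trans inf_normalizer_le_normalizer_inf)
  have h3 : ((pPrimeCore q W).map W.subtype ⊓ M).subgroupOf M ≤ pPrimeCore q M := by
    refine PCore.le_pPrimeCore ?_
    rw [Coprime.card_subgroupOf inf_le_right]
    exact PCore.coprime_card_pPrimeCore.coprime_dvd_left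
      ((card_dvd_of_le inf_le_left).trans (card_map_dvd _ _))
  intro x hx
  have h4 : x ∈ (pPrimeCore q M).map M.subtype :=
    ⟨⟨x, hx.2⟩, h3 ⟨⟨⟨x, hMW hx.2⟩, hN1 hx, rfl⟩, hx.2⟩, rfl⟩
  rw [PCore.map_pPrimeCore_subtype_of_normal] at h4
  exact h4.1

end

/-- Let G be a finite group with Sylow p-subgroup P and H = O_{p'}(G), and suppose G = PH and the commutator subgroup [H, P] is solvable. Let q be a prime and z an element of q-power order of C_H(P). Then (O_{q'}(C_H(z)) ∩ O_{q'}(C_H(P))) · [O_{q'}(C_H(z)), P] ≤ O_{q'}(H). -/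
theorem result {G : Type*} [Group G] [Finite G] {p : ℕ} [Fact p.Prime]
    (P : Sylow p G) (hPH : Cfsg.pPrimeCore p G ⊔ (P : Subgroup G) = ⊤)
    (hsol : Group.IsSolvable ↥⁅Cfsg.pPrimeCore p G, (P : Subgroup G)⁆)
    {q : ℕ} [Fact q.Prime] (z : G) (hzH : z ∈ Cfsg.pPrimeCore p G) (hzP : z ∈ Subgroup.centralizer ((P : Subgroup G) : Set G))
    (hz : ∃ k : ℕ, orderOf z = q ^ k) :
    ((Cfsg.pPrimeCore q ↥(Cfsg.pPrimeCore p G ⊓ Subgroup.centralizer ({z} : Set G))).map
        (Cfsg.pPrimeCore p G ⊓ Subgroup.centralizer ({z} : Set G)).subtype ⊓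
      (Cfsg.pPrimeCore q ↥(Cfsg.pPrimeCore p G ⊓ Subgroup.centralizer ((P : Subgroup G) : Set G))).map
        (Cfsg.pPrimeCore p G ⊓ Subgroup.centralizer ((P : Subgroup G) : Set G)).subtype) ⊔
    ⁅(Cfsg.pPrimeCore q ↥(Cfsg.pPrimeCore p G ⊓ Subgroup.centralizer ({z} : Set G))).map
        (Cfsg.pPrimeCore p G ⊓ Subgroup.centralizer ({z} : Set G)).subtype, (P : Subgroup G)⁆ ≤
    (Cfsg.pPrimeCore q ↥(Cfsg.pPrimeCore p G)).map (Cfsg.pPrimeCore p G).subtype := by
  set H := Cfsg.pPrimeCore p G with hH
  have hcop : (Nat.card (P : Subgroup G)).Coprime (Nat.card H) := by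
    obtain ⟨k, hk⟩ := P.2.exists_card_eq
    rw [hk]
    exact Nat.Coprime.pow_left k PCore.coprime_card_pPrimeCore.symm
  haveI : Group.IsNilpotent ↥(P : Subgroup G) := P.2.isNilpotent
  have hPH' : (P : Subgroup G) ≤ normalizer (H : Set G) := (normalizer_eq_top (H := H)).ge.trans' le_top
  set X := ⁅H, (P : Subgroup G)⁆ with hX
  have hXH : X ≤ H := Coprime.commutator_le_left_of_le_normalizer hPH'
  haveI hXn : X.Normal := by
    rw [← normalizer_eq_top_iff, eq_top_iff, ← hPH]
    exact sup_le (normalizer_commutator_ge_left H _) (normalizer_commutator_ge_right H _)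
  have hsup := Coprime.commutator_sup_centralizer (A := (P : Subgroup G)) (K := H) hPH' hcop
    (Or.inl inferInstance)
  set CP := H ⊓ centralizer ((P : Subgroup G) : Set G) with hCP
  set CZ := H ⊓ centralizer ({z} : Set G) with hCZ
  set L := (pPrimeCore q CP).map CP.subtype with hL
  set K := (pPrimeCore q CZ).map CZ.subtype with hK
  have hLH : L ≤ H := (map_subtype_le _).trans inf_le_left
  have hLn : CP ≤ normalizer (L : Set G) :=
    le_normalizer.trans (Components.normalizer_le_normalizer_map_of_characteristic CP _)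
  set M := L ⊔ X with hMdef
  have hMH : M ≤ H := sup_le hLH hXH
  have hXM : X ≤ M := le_sup_right
  have hMn : H ≤ normalizer (M : Set G) := by
    conv_lhs => rw [← hsup]
    refine sup_le (hXM.trans le_normalizer) ?_
    exact (le_inf hLn ((normalizer_eq_top (H := X)).ge.trans' le_top)).trans
      (Components.inf_normalizer_le_normalizer_sup' L X)
  haveI : (M.subgroupOf H).Normal := Coprime.normal_subgroupOf_of_le_normalizer hMn
  have hMs : IsPSolvable q M := by
    haveI : (X.subgroupOf M).Normal := Coprime.normal_subgroupOf_of_le_normalizer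
      ((normalizer_eq_top (H := X)).ge.trans' le_top)
    haveI : Group.IsSolvable ↥X := hsol
    refine PCore.isPSolvable_of_normal (X.subgroupOf M)
      ((PCore.isPSolvable_congr (subgroupOfEquivOfLe hXM)).mpr PCore.isPSolvable_of_isSolvable)
      (PCore.isPSolvable_of_coprime ?_)
    refine (PCore.coprime_card_pPrimeCore (p := q) (G := CP)).coprime_dvd_left ?_
    rw [← index_eq_card]
    show X.relIndex M ∣ _
    rw [hMdef, relIndex_sup_right]
    exact (relIndex_dvd_card _ _).trans (card_map_dvd _ _)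
  have hKCZ : K ≤ CZ := map_subtype_le _
  have hKH : K ≤ H := hKCZ.trans inf_le_left
  have hzq : IsPGroup q ↥(zpowers (⟨z, hzH⟩ : H)) := by
    obtain ⟨k, hk⟩ := hz
    refine IsPGroup.of_card (n := k) ?_
    rw [Nat.card_zpowers, ← hk, orderOf_mk]
  have key : K ⊓ M ≤ (pPrimeCore q H).map H.subtype := by
    intro x hx
    refine ⟨⟨x, hKH hx.1⟩, inf_le_core (M.subgroupOf H)
      ((PCore.isPSolvable_congr (subgroupOfEquivOfLe hMH)).mpr hMs) hzq
      (K := K.subgroupOf H) ?_ ?_ ?_ ⟨hx.1, hx.2⟩, rfl⟩
    · rw [Coprime.card_subgroupOf hKH]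
      exact PCore.coprime_card_pPrimeCore.coprime_dvd_left (card_map_dvd _ _)
    · intro y hy
      rw [mem_centralizer_singleton_iff]
      exact Subtype.ext (mem_centralizer_singleton_iff.mp (hKCZ hy).2)
    · intro y hy
      rw [mem_centralizer_singleton_iff] at hy
      have hy' : (y : G) ∈ CZ :=
        ⟨y.2, mem_centralizer_singleton_iff.mpr (congrArg Subtype.val hy)⟩
      exact mem_normalizer_iff.mpr fun w => mem_normalizer_iff.mp
        ((le_normalizer.trans (Components.normalizer_le_normalizer_map_of_characteristic CZ _)) hy') w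
  refine le_trans (sup_le ?_ ?_) key
  · exact inf_le_inf le_rfl le_sup_left
  · refine le_inf (Coprime.commutator_le_left_of_le_normalizer ?_)
      ((commutator_mono hKH le_rfl).trans hXM)
    refine le_trans ?_ (Components.normalizer_le_normalizer_map_of_characteristic CZ _)
    have hPz : (P : Subgroup G) ≤ centralizer ({z} : Set G) := fun a ha =>
      mem_centralizer_singleton_iff.mpr (hzP a ha)
    exact (le_inf hPH' (hPz.trans le_normalizer)).trans inf_normalizer_le_normalizer_inf

end Cfsg.Agent.S3819
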