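import Cfsg.Statements.S3820
import Mathlib.Algebra.Group.Subgroup.Basic


set_option autoImplicit false
open Cfsg

namespace Cfsg.Agent.S3820

theorem map_conj_map {G : Type*} [Group G] (H : Subgroup G) (a b : G) :
    (H.map (MulAut.conj a).toMonoidHom).map (MulAut.conj b).toMonoidHom =
      H.map (MulAut.conj (b * a)).toMonoidHom := by
  rw [Subgroup.map_map]
  congr 1
  ext x
  simp [mul_assoc]


/-- Call a subgroup H of G pronormal if H and gHg⁻¹ are conjugate inside ⟨H, gHg⁻¹⟩ for every g ∈ G. Let S ≤ H ≤ G be subgroups of a finite group with S pronormal in G (for instance S a Sylow subgroup). Then H is pronormal in G if and only if H and gHg⁻¹ are conjugate inside ⟨H, gHg⁻¹⟩ for every g ∈ N_G(S). In particular H is pronormal whenever N_G(S) ≤ H. -/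
theorem result {G : Type*} [Group G] [Finite G] (S H : Subgroup G) (hSH : S ≤ H)
    (hS : Cfsg.IsPronormal S) :
    Cfsg.IsPronormal H ↔
      ∀ g ∈ Subgroup.normalizer (S : Set G), ∃ w ∈ H ⊔ H.map (MulAut.conj g).toMonoidHom,
        H.map (MulAut.conj g).toMonoidHom = H.map (MulAut.conj w).toMonoidHom := by
  refine ⟨fun h g _ => h g, fun h g => ?_⟩
  obtain ⟨x, hx, hxS⟩ := hS g
  have hK : S ⊔ S.map (MulAut.conj g).toMonoidHom ≤ H ⊔ H.map (MulAut.conj g).toMonoidHom :=
    sup_le_sup hSH (Subgroup.map_mono hSH)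
  have hxK := hK hx
  have hn : x⁻¹ * g ∈ Subgroup.normalizer (S : Set G) := by
    have h1 : S.map (MulAut.conj (x⁻¹ * g)).toMonoidHom = S := by
      rw [← map_conj_map, hxS, map_conj_map, inv_mul_cancel, map_one]
      exact Subgroup.map_id S
    rw [Subgroup.mem_normalizer_iff]
    intro a
    conv_rhs => rw [← h1]
    exact ⟨fun ha => ⟨a, ha, rfl⟩, fun ⟨b, hb, hba⟩ => by
      rwa [← (MulAut.conj (x⁻¹ * g)).injective hba]⟩
  obtain ⟨w, hw, hwH⟩ := h _ hn
  have hgn : H.map (MulAut.conj g).toMonoidHom =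
      (H.map (MulAut.conj (x⁻¹ * g)).toMonoidHom).map (MulAut.conj x).toMonoidHom := by
    rw [map_conj_map, mul_inv_cancel_left]
  have hle : H ⊔ H.map (MulAut.conj (x⁻¹ * g)).toMonoidHom ≤
      H ⊔ H.map (MulAut.conj g).toMonoidHom := by
    refine sup_le le_sup_left ?_
    rintro _ ⟨a, ha, rfl⟩
    have h2 : g * a * g⁻¹ ∈ H ⊔ H.map (MulAut.conj g).toMonoidHom :=
      Subgroup.mem_sup_right ⟨a, ha, rfl⟩
    have h3 := mul_mem (mul_mem (inv_mem hxK) h2) hxK
    simpa [mul_assoc] using h3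
  exact ⟨x * w, mul_mem hxK (hle hw), by rw [hgn, hwH, map_conj_map]⟩


end Cfsg.Agent.S3820
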