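import Cfsg.Statements.S3821
import Mathlib.Algebra.Group.Subgroup.Basic


set_option autoImplicit false
open Cfsg

namespace Cfsg.Agent.S3821

theorem map_conj_map {G : Type*} [Group G] (H : Subgroup G) (a b : G) :
    (H.map (MulAut.conj a).toMonoidHom).map (MulAut.conj b).toMonoidHom =
      H.map (MulAut.conj (b * a)).toMonoidHom := by
  rw [Subgroup.map_map]
  congr 1
  ext x
  simp [mul_assoc]

theorem map_conj_subgroupOf {G : Type*} [Group G] {A H : Subgroup G} (hHA : H ≤ A) (a : A) :
    ((H.subgroupOf A).map (MulAut.conj a).toMonoidHom).map A.subtype =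
      H.map (MulAut.conj (a : G)).toMonoidHom := by
  conv_rhs => rw [← Subgroup.map_subgroupOf_eq_of_le hHA]
  rw [Subgroup.map_map, Subgroup.map_map]
  congr 1


/-- Let A be a normal subgroup of the finite group G and H a subgroup of A. Then H is pronormal in G (H and gHg⁻¹ conjugate inside ⟨H, gHg⁻¹⟩ for every g ∈ G) if and only if H is pronormal in A and G = A · N_G(H). -/
theorem result {G : Type*} [Group G] [Finite G] (A H : Subgroup G) [A.Normal] (hHA : H ≤ A) :
    Cfsg.IsPronormal H ↔ (Cfsg.IsPronormal (H.subgroupOf A) ∧ A ⊔ Subgroup.normalizer (H : Set G) = ⊤) := by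
  have hinA : ∀ g : G, H.map (MulAut.conj g).toMonoidHom ≤ A := by
    rintro g _ ⟨a, ha, rfl⟩
    exact Subgroup.Normal.conj_mem inferInstance a (hHA ha) g
  have hinj := Subgroup.map_injective A.subtype_injective
  constructor
  · intro h
    refine ⟨fun a => ?_, ?_⟩
    · obtain ⟨x, hx, hxH⟩ := h a
      have hxA : x ∈ A := sup_le hHA (hinA a) hx
      refine ⟨⟨x, hxA⟩, ?_, hinj ?_⟩
      · have h1 : x ∈ (H.subgroupOf A ⊔ (H.subgroupOf A).map (MulAut.conj a).toMonoidHom).map A.subtype := by
          rwa [Subgroup.map_sup, Subgroup.map_subgroupOf_eq_of_le hHA, map_conj_subgroupOf hHA]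
        obtain ⟨⟨y, hy⟩, hy1, rfl⟩ := h1
        exact hy1
      · rw [map_conj_subgroupOf hHA, map_conj_subgroupOf hHA]
        exact hxH
    · rw [eq_top_iff]
      intro g _
      obtain ⟨x, hx, hxH⟩ := h g
      have hxA : x ∈ A := sup_le hHA (hinA g) hx
      have hn : x⁻¹ * g ∈ Subgroup.normalizer (H : Set G) := by
        have h1 : H.map (MulAut.conj (x⁻¹ * g)).toMonoidHom = H := by
          rw [← map_conj_map, hxH, map_conj_map, inv_mul_cancel, map_one]
          exact Subgroup.map_id H
        rw [Subgroup.mem_normalizer_iff]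
        intro a
        conv_rhs => rw [← h1]
        exact ⟨fun ha => ⟨a, ha, rfl⟩, fun ⟨b, hb, hba⟩ => by
          rwa [← (MulAut.conj (x⁻¹ * g)).injective hba]⟩
      have := Subgroup.mul_mem_sup hxA hn
      rwa [mul_inv_cancel_left] at this
  · rintro ⟨h, htop⟩ g
    have hg : g ∈ A ⊔ Subgroup.normalizer (H : Set G) := htop ▸ Subgroup.mem_top g
    obtain ⟨a, ha, n, hn, rfl⟩ := Subgroup.mem_sup_of_normal_left.1 hg
    have hHn : H.map (MulAut.conj n).toMonoidHom = H := by
      ext b
      constructor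
      · rintro ⟨c, hc, rfl⟩
        exact (Subgroup.mem_normalizer_iff.1 hn c).1 hc
      · intro hb
        refine ⟨n⁻¹ * b * n, (Subgroup.mem_normalizer_iff.1 hn _).2 (by simpa [mul_assoc] using hb), ?_⟩
        simp [mul_assoc]
    have hgn : H.map (MulAut.conj (a * n)).toMonoidHom = H.map (MulAut.conj a).toMonoidHom := by
      rw [← map_conj_map, hHn]
    rw [hgn]
    obtain ⟨x, hx, hxH⟩ := h ⟨a, ha⟩
    refine ⟨x, ?_, ?_⟩
    · have h1 := Subgroup.mem_map_of_mem A.subtype hx
      rwa [Subgroup.map_sup, Subgroup.map_subgroupOf_eq_of_le hHA, map_conj_subgroupOf hHA] at h1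
    · have h1 := congrArg (Subgroup.map A.subtype) hxH
      rwa [map_conj_subgroupOf hHA, map_conj_subgroupOf hHA] at h1


end Cfsg.Agent.S3821
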