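import Cfsg.Statements.S3822
import Cfsg.Agent.Lib.FixedDim.MaximalPair
import Cfsg.Agent.Lib.PCore.Basic


set_option autoImplicit false
open Cfsg

namespace Cfsg.Agent.S3822

set_option maxHeartbeats 1000000 in
/-- Let G be a finite group and P a subgroup of prime order p > 3. Consider the solvable subgroups A of G of the form A = ⟨P, aPa⁻¹⟩ for some a ∈ A, and let A be maximal under inclusion among them. Then for every nilpotent subgroup V of G normalized by A, the subgroup F(A)V generated by the Fitting subgroup of A and V is nilpotent. -/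
theorem result {G : Type*} [Group G] [Finite G]
    {p : ℕ} [Fact p.Prime] (hp : 3 < p) (P : Subgroup G) (hP : Nat.card P = p) (A : Subgroup G)
    (hA : Group.IsSolvable ↥A ∧ ∃ a ∈ A, A = P ⊔ P.map (MulAut.conj a).toMonoidHom)
    (hmax : ∀ B : Subgroup G, A ≤ B → Group.IsSolvable ↥B → (∃ b ∈ B, B = P ⊔ P.map (MulAut.conj b).toMonoidHom) → B = A)
    (V : Subgroup G) (hV : Group.IsNilpotent ↥V) (hAV : A ≤ Subgroup.normalizer (V : Set G)) :
    Group.IsNilpotent ↥((Cfsg.fittingSubgroup ↥A).map A.subtype ⊔ V) := by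
  classical
  obtain ⟨hAs, a, ha, hgen⟩ := hA
  let H : (Nat.card G).primeFactors → Subgroup G := fun r =>
    (Cfsg.pCore (r : ℕ) A).map A.subtype ⊔ (Cfsg.pCore (r : ℕ) V).map V.subtype
  have hfact : ∀ r : (Nat.card G).primeFactors, Fact (Nat.Prime (r : ℕ)) :=
    fun r => ⟨Nat.prime_of_mem_primeFactors r.2⟩
  have hnorm : ∀ r : ℕ, A ≤ Subgroup.normalizer (((Cfsg.pCore r V).map V.subtype : Subgroup G) : Set G) :=
    fun r => FixedDim.le_normalizer_map_char hAV _
  have hHp : ∀ r : (Nat.card G).primeFactors, IsPGroup (r : ℕ) (H r) := fun r =>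
    IsPGroup.to_sup_of_normal_right' ((Components.isPGroup_pCore' (r : ℕ)).map _)
      ((Components.isPGroup_pCore' (r : ℕ)).map _) ((Subgroup.map_subtype_le _).trans (hnorm r))
  haveI hnil : ∀ r, Group.IsNilpotent (H r) := fun r => (hHp r).isNilpotent
  have hin : ∀ (X : Subgroup G) (r s : (Nat.card G).primeFactors), r ≠ s →
      (Cfsg.pCore (r : ℕ) X).map X.subtype ≤
        Subgroup.centralizer (((Cfsg.pCore (s : ℕ) X).map X.subtype : Subgroup G) : Set G) := by
    intro X r s hrs
    rintro _ ⟨x, hx, rfl⟩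
    refine Subgroup.mem_centralizer_iff.mpr ?_
    rintro _ ⟨y, hy, rfl⟩
    exact congrArg Subtype.val (Subgroup.commute_of_normal_of_disjoint _ _ (Components.pCore_normal' _)
      (Components.pCore_normal' _) (IsPGroup.disjoint_of_ne _ _ (fun e => hrs (Subtype.ext e).symm) _ _
        (Components.isPGroup_pCore' _) (Components.isPGroup_pCore' _)) y x hy hx).eq
  have hcross : ∀ r s : (Nat.card G).primeFactors, r ≠ s → (Cfsg.pCore (r : ℕ) A).map A.subtype ≤
      Subgroup.centralizer (((Cfsg.pCore (s : ℕ) V).map V.subtype : Subgroup G) : Set G) := fun r s hrs =>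
    FixedDim.le_centralizer_of_maximal hp hP hAs ha hgen hmax (fun e => hrs (Subtype.ext e).symm)
      ((Components.isPGroup_pCore' _).map _) (hnorm _)
  have hle : ∀ r s : (Nat.card G).primeFactors, r ≠ s → H r ≤ Subgroup.centralizer (H s : Set G) := by
    intro r s hrs
    refine sup_le ?_ ?_ <;> rw [Subgroup.le_centralizer_iff] <;> refine sup_le ?_ ?_
    · exact Subgroup.le_centralizer_iff.mp (hin A r s hrs)
    · exact Subgroup.le_centralizer_iff.mp (hcross r s hrs)
    · exact hcross s r hrs.symm
    · exact Subgroup.le_centralizer_iff.mp (hin V r s hrs)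
  have hcomm : Pairwise fun i j => ∀ x y : G, x ∈ H i → y ∈ H j → Commute x y := fun i j hij x y hx hy =>
    (Subgroup.mem_centralizer_iff.mp (hle i j hij hx) y hy).symm
  have hr := Subgroup.noncommPiCoprod_range (H := H) (hcomm := hcomm)
  have hsup : Group.IsNilpotent ↥(⨆ r, H r) := by
    rw [← hr]
    exact Group.nilpotent_of_surjective _ (MonoidHom.rangeRestrict_surjective _)
  have hsub : (Cfsg.fittingSubgroup ↥A).map A.subtype ⊔ V ≤ ⨆ r, H r := by
    have key : ∀ (X : Subgroup G) (r : (Nat.card X).primeFactors), (r : ℕ) ∈ (Nat.card G).primeFactors :=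
      fun X r => Nat.mem_primeFactors.mpr ⟨Nat.prime_of_mem_primeFactors r.2,
        (Nat.dvd_of_mem_primeFactors r.2).trans X.card_subgroup_dvd_card, Nat.card_pos.ne'⟩
    refine sup_le ?_ ?_
    · rw [Components.fittingSubgroup_eq_iSup_pCore, Subgroup.map_iSup]
      exact iSup_le fun r => le_trans le_sup_left (le_iSup H ⟨r, key A r⟩)
    · have hV' : V = (Cfsg.fittingSubgroup ↥V).map V.subtype := by
        rw [Components.fittingSubgroup_eq_top_iff.mpr hV, ← MonoidHom.range_eq_map, Subgroup.range_subtype]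
      refine hV'.le.trans ?_
      rw [Components.fittingSubgroup_eq_iSup_pCore, Subgroup.map_iSup]
      exact iSup_le fun r => le_trans le_sup_right (le_iSup H ⟨r, key V r⟩)
  exact (Group.isNilpotent_congr (Subgroup.subgroupOfEquivOfLe hsub)).mp inferInstance


end Cfsg.Agent.S3822
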