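import Cfsg.Statements.S3824
import Cfsg.Agent.Lib.CharInt.Burnside


set_option autoImplicit false
open Cfsg

namespace Cfsg.Agent.S3824

universe u

theorem relIndex_dvd_index_of_normal' {G : Type u} [Group G] [Finite G] (A N : Subgroup G) [N.Normal] :
    A.relIndex N ∣ A.index := by
  have h1 : Nat.card A * A.relIndex (A ⊔ N) = Nat.card ↥(A ⊔ N) := by
    rw [← Subgroup.relIndex_bot_left A, Subgroup.relIndex_mul_relIndex _ _ _ bot_le le_sup_left,
      Subgroup.relIndex_bot_left]
  have h2 : Nat.card N * N.relIndex A = Nat.card ↥(A ⊔ N) := by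
    rw [← Subgroup.relIndex_sup_right A N, ← Subgroup.relIndex_bot_left N,
      Subgroup.relIndex_mul_relIndex _ _ _ bot_le le_sup_right, Subgroup.relIndex_bot_left]
  have h3 : Nat.card ↥(A ⊓ N) * A.relIndex N = Nat.card N := by
    rw [← Subgroup.inf_relIndex_right A N, ← Subgroup.relIndex_bot_left (A ⊓ N),
      Subgroup.relIndex_mul_relIndex _ _ _ bot_le inf_le_right, Subgroup.relIndex_bot_left]
  have h4 : Nat.card ↥(A ⊓ N) * N.relIndex A = Nat.card A := by
    rw [← Subgroup.inf_relIndex_left A N, ← Subgroup.relIndex_bot_left (A ⊓ N),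
      Subgroup.relIndex_mul_relIndex _ _ _ bot_le inf_le_left, Subgroup.relIndex_bot_left]
  have h5 : A.relIndex N = A.relIndex (A ⊔ N) := by
    refine Nat.eq_of_mul_eq_mul_left (Nat.card_pos (α := A)) ?_
    rw [h1, ← h2, ← h3]
    conv_lhs => rw [← h4]
    ring
  rw [h5]
  exact ⟨(A ⊔ N).index, (Subgroup.relIndex_mul_index le_sup_left).symm⟩

theorem isSolvable_of_abelian_two_power_index (n : ℕ) : ∀ (G : Type u) [Group G] [Finite G],
    Nat.card G = n → ∀ A : Subgroup G, IsMulCommutative A → ∀ k : ℕ, A.index = 2 ^ k →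
      Group.IsSolvable G := by
  induction n using Nat.strong_induction_on with
  | h n ih =>
  intro G _ _ hn A hA k hk
  rcases subsingleton_or_nontrivial G with hs | hnt
  · infer_instance
  by_cases hsimple : IsSimpleGroup G
  · rcases eq_or_ne A ⊥ with rfl | hA1
    · rw [Subgroup.index_bot] at hk
      exact Cfsg.Agent.CharInt.isSolvable_of_card_eq (b := 0) Nat.prime_two Nat.prime_three (by simpa using hk)
    · obtain ⟨⟨a, ha⟩, ha1⟩ := Subgroup.ne_bot_iff_exists_ne_one.1 hA1
      have hle : A ≤ Subgroup.centralizer {a} := fun x hx => Subgroup.mem_centralizer_singleton_iff.2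
        (congrArg Subtype.val (hA.is_comm.comm ⟨x, hx⟩ ⟨a, ha⟩))
      obtain ⟨j, -, hj⟩ := (Nat.dvd_prime_pow Nat.prime_two).1 (hk ▸ Subgroup.index_dvd_of_le hle)
      have hpr := Cfsg.Agent.CharInt.card_prime_of_class_prime_pow Nat.prime_two
        (fun h => ha1 (Subtype.ext h)) hj
      have := Fact.mk hpr
      have hc := isCyclic_of_prime_card (α := G) rfl
      refine Group.isSolvable_of_comm fun x y => ?_
      obtain ⟨g, hg⟩ := hc.exists_generator
      obtain ⟨i, rfl⟩ := Subgroup.mem_zpowers_iff.1 (hg x)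
      obtain ⟨j, rfl⟩ := Subgroup.mem_zpowers_iff.1 (hg y)
      rw [← zpow_add, ← zpow_add, add_comm]
  · obtain ⟨N, hN, hN1, hN2⟩ : ∃ N : Subgroup G, N.Normal ∧ N ≠ ⊥ ∧ N ≠ ⊤ := by
      by_contra hh
      push Not at hh
      exact hsimple ⟨fun N hN => (em (N = ⊥)).imp id (hh N hN)⟩
    have hmul := Subgroup.card_mul_index N
    rw [hn] at hmul
    have hN1' : 1 < Nat.card N := (Subgroup.one_lt_card_iff_ne_bot N).2 hN1
    have hN2' : 1 < N.index := Subgroup.one_lt_index_of_ne_top hN2
    obtain ⟨k1, -, h1⟩ := (Nat.dvd_prime_pow Nat.prime_two).1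
      (hk ▸ relIndex_dvd_index_of_normal' A N)
    obtain ⟨k2, -, h2⟩ := (Nat.dvd_prime_pow Nat.prime_two).1
      (hk ▸ Subgroup.index_map_dvd A (QuotientGroup.mk'_surjective N))
    have := ih (Nat.card N) (by nlinarith) N rfl (A.subgroupOf N)
      ⟨⟨fun a b => Subtype.ext (Subtype.ext (congrArg Subtype.val
        (hA.is_comm.comm ⟨((a : ↥N) : G), a.2⟩ ⟨((b : ↥N) : G), b.2⟩) :))⟩⟩ k1 h1
    have := ih N.index (by nlinarith) (G ⧸ N) (Subgroup.index_eq_card N).symm
      (A.map (QuotientGroup.mk' N)) ⟨⟨by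
        rintro ⟨_, x, hx, rfl⟩ ⟨_, y, hy, rfl⟩
        refine Subtype.ext ?_
        show QuotientGroup.mk' N x * QuotientGroup.mk' N y = _ * _
        rw [← map_mul, show x * y = y * x from congrArg Subtype.val (hA.is_comm.comm ⟨x, hx⟩ ⟨y, hy⟩),
          map_mul]⟩⟩ k2 h2
    exact Group.isSolvable_of_ker_le_range N.subtype (QuotientGroup.mk' N)
      (by rw [QuotientGroup.ker_mk', Subgroup.range_subtype])


/-- Every finite group having an abelian subgroup whose index is a power of 2 is solvable. -/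
theorem result {G : Type*} [Group G] [Finite G]
    (A : Subgroup G) (hA : IsMulCommutative A) (hidx : ∃ k : ℕ, A.index = 2 ^ k) : Group.IsSolvable G := by
  obtain ⟨k, hk⟩ := hidx
  exact isSolvable_of_abelian_two_power_index _ G rfl A hA k hk


end Cfsg.Agent.S3824
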