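import Cfsg.Statements.S3825
import Mathlib.GroupTheory.Commutator.Basic
import Mathlib.GroupTheory.FixedPointFree
import Mathlib.GroupTheory.Perm.Cycle.Type
import Mathlib.GroupTheory.SpecificGroups.Cyclic


set_option autoImplicit false
open Cfsg
open scoped commutatorElement

namespace Cfsg.Agent.S3825

/-- Let U be a subgroup of a finite group H and w an involution of H normalizing U and commuting with exactly two elements of U, the identity and y. If V is a non-cyclic elementary abelian 2-subgroup of U containing y which is normal in U and invariant under w, then V is a Sylow 2-subgroup of U, V has order 4, and U/V is abelian. -/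
theorem result {H : Type*} [Group H] [Finite H] (U : Subgroup H) (w : H) (hw : orderOf w = 2)
    (hwU : w ∈ Subgroup.normalizer (U : Set H)) (y : H) (hy : y ≠ 1) (hyU : y ∈ U)
    (hfix : ∀ u ∈ U, w * u * w⁻¹ = u ↔ (u = 1 ∨ u = y))
    (V : Subgroup H) (hVU : V ≤ U) (hVn : (V.subgroupOf U).Normal) (hVw : ∀ v ∈ V, w * v * w⁻¹ ∈ V)
    (hVe : Cfsg.IsElementaryAbelian 2 V) (hVc : ¬ IsCyclic ↥V) (hyV : y ∈ V) :
    ¬ 2 ∣ V.relIndex U ∧ Nat.card ↥V = 4 ∧ ⁅U, U⁆ ≤ V := by
  obtain ⟨hVab, hVsq⟩ := hVe
  have hinvw : w⁻¹ = w := inv_eq_of_mul_eq_one_right (by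
    have := pow_orderOf_eq_one w
    rwa [hw, pow_two] at this)
  let f : H ≃* H := MulAut.conj w
  have hff : ∀ x, f (f x) = x := fun x => by
    simp only [f, MulAut.conj_apply]
    conv_rhs => rw [← one_mul x, ← mul_one (1 * x)]
    have hw2 : w * w = 1 := by have := pow_orderOf_eq_one w; rwa [hw, pow_two] at this
    rw [hinvw, ← mul_assoc, ← mul_assoc, hw2, mul_assoc, hw2]
  have hfix' : ∀ u ∈ U, f u = u → u = 1 ∨ u = y := fun u hu h => (hfix u hu).1 h
  have hfy : f y = y := (hfix y hyU).2 (Or.inr rfl)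
  have hfV : ∀ v ∈ V, f v ∈ V := hVw
  have hfU : ∀ u ∈ U, f u ∈ U := fun u hu => (Subgroup.mem_normalizer_iff.1 hwU u).1 hu
  have hsq : ∀ v ∈ V, v * v = 1 := fun v hv => by rw [← pow_two]; exact hVsq v hv
  have hcomm : ∀ a ∈ V, ∀ b ∈ V, a * b = b * a := fun a ha b hb => by
    have := hVab.is_comm.comm ⟨a, ha⟩ ⟨b, hb⟩
    exact congrArg Subtype.val this
  have hinvV : ∀ v ∈ V, v⁻¹ = v := fun v hv => inv_eq_of_mul_eq_one_right (hsq v hv)
  -- the map `v ↦ v * f v` into `{1, y}`
  have hT : ∀ v ∈ V, v * f v = 1 ∨ v * f v = y := fun v hv => by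
    refine hfix' _ (hVU (mul_mem hv (hfV v hv))) ?_
    rw [map_mul, hff, hcomm _ (hfV v hv) _ hv]
  -- some `z` with `f z = z * y`
  have hz : ∃ z ∈ V, f z = z * y := by
    by_contra hno
    push Not at hno
    apply hVc
    refine ⟨⟨⟨y, hyV⟩, fun ⟨v, hv⟩ => ?_⟩⟩
    rcases hT v hv with h | h
    · have : f v = v := (eq_inv_of_mul_eq_one_right h).trans (hinvV v hv)
      rcases hfix' v (hVU hv) this with rfl | rfl
      · exact ⟨0, by simp; rfl⟩
      · exact ⟨1, by simp⟩
    · exfalso
      apply hno v hv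
      rw [← h, ← mul_assoc, hsq v hv, one_mul]
  obtain ⟨z, hzV, hzf⟩ := hz
  have hV4 : ∀ v ∈ V, v = 1 ∨ v = y ∨ v = z ∨ v = z * y := by
    intro v hv
    rcases hT v hv with h | h
    · have : f v = v := (eq_inv_of_mul_eq_one_right h).trans (hinvV v hv)
      rcases hfix' v (hVU hv) this with rfl | rfl
      · exact Or.inl rfl
      · exact Or.inr (Or.inl rfl)
    · have hfv : f v = v * y := by rw [← h, ← mul_assoc, hsq v hv, one_mul]
      have : f (z * v) = z * v := by
        rw [map_mul, hzf, hfv, mul_assoc z y, ← mul_assoc y v, hcomm y hyV v hv, mul_assoc v y y,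
          hsq y hyV, mul_one]
      rcases hfix' _ (hVU (mul_mem hzV hv)) this with h1 | h1
      · exact Or.inr (Or.inr (Or.inl ((eq_inv_of_mul_eq_one_right h1).trans (hinvV z hzV))))
      · exact Or.inr (Or.inr (Or.inr (by rw [← h1, ← mul_assoc, hsq z hzV, one_mul])))
  have hz1 : z ≠ 1 := by rintro rfl; rw [map_one, one_mul] at hzf; exact hy hzf.symm
  have hzy : z ≠ y := by
    rintro rfl
    rw [hfy] at hzf
    exact hy (by simpa using hzf)
  have hcard : Nat.card V = 4 := by
    have hset : (V : Set H) = {1, y, z, z * y} := by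
      ext v
      simp only [SetLike.mem_coe, Set.mem_insert_iff, Set.mem_singleton_iff]
      refine ⟨hV4 v, ?_⟩
      rintro (rfl | rfl | rfl | rfl)
      exacts [one_mem _, hyV, hzV, mul_mem hzV hyV]
    have h1 : z * y ≠ 1 := fun h => hzy ((eq_inv_of_mul_eq_one_left h).trans (hinvV y hyV))
    rw [← SetLike.coe_sort_coe, Nat.card_coe_set_eq, hset, Set.ncard_insert_of_notMem,
      Set.ncard_insert_of_notMem, Set.ncard_pair]
    · intro h; exact hy (by simpa using h.symm)
    · simp [hzy.symm, hz1]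
    · simp [hy.symm, hz1.symm, h1.symm]
  -- `w` acts without fixed points on `U / V`
  have hn := hVn
  let fU : ↥U →* ↥U := (f.toMonoidHom.comp U.subtype).codRestrict U (fun u => hfU u u.2)
  let φ : (↥U ⧸ V.subgroupOf U) →* (↥U ⧸ V.subgroupOf U) :=
    QuotientGroup.map _ _ fU (fun u hu => hfV u hu)
  have hφfix : ∀ x, φ x = x → x = 1 := by
    intro x hx
    induction x using QuotientGroup.induction_on with
    | _ u =>
    have hv : (u : H)⁻¹ * f u ∈ V := by
      have h' : ((u : ↥U) : ↥U ⧸ V.subgroupOf U) = ((fU u : ↥U) : ↥U ⧸ V.subgroupOf U) := hx.symm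
      have h'' := QuotientGroup.eq.1 h'
      exact h''
    set v := (u : H)⁻¹ * f u with hvdef
    have hfu : f u = u * v := by rw [hvdef, mul_inv_cancel_left]
    have hfv : f v = v := by
      have h1 : (u : H) = f u * f v := by
        conv_lhs => rw [← hff u, hfu]
        rw [map_mul]
      rw [hfu, mul_assoc] at h1
      have h2 : v * f v = 1 := by simpa using h1.symm
      exact (eq_inv_of_mul_eq_one_right h2).trans (hinvV v hv)
    refine (QuotientGroup.eq_one_iff u).2 ?_
    change (u : H) ∈ V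
    rcases hfix' v (hVU hv) hfv with h | h
    · rcases hfix' u u.2 (by rw [hfu, h, mul_one]) with h' | h'
      · rw [h']; exact one_mem _
      · rw [h']; exact hyV
    · have h' : f (u * z) = u * z := by
        rw [map_mul, hfu, hzf, h, mul_assoc (u : H), ← mul_assoc y, hcomm y hyV z hzV, mul_assoc z,
          hsq y hyV, mul_one]
      have hmem : (u : H) * z ∈ V := by
        rcases hfix' _ (mul_mem u.2 (hVU hzV)) h' with h'' | h''
        · rw [h'']; exact one_mem _
        · rw [h'']; exact hyV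
      simpa using mul_mem hmem (inv_mem hzV)
  have hinv : Function.Involutive φ := by
    intro x
    induction x using QuotientGroup.induction_on with
    | _ u =>
    exact congrArg _ (Subtype.ext (hff u))
  have hFPF : ∀ x, φ x = x → x = 1 := hφfix
  have hφinv : ∀ x, φ x = x⁻¹ := by
    intro x
    obtain ⟨a, rfl⟩ := MonoidHom.FixedPointFree.commutatorMap_surjective (φ := φ) hFPF x
    simp only [MonoidHom.commutatorMap_apply, div_eq_mul_inv, map_mul, map_inv, hinv a]
    simp
  have hab : ∀ a b : ↥U ⧸ V.subgroupOf U, a * b = b * a := by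
    intro a b
    have h1 : φ (a * b) = φ a * φ b := map_mul φ a b
    rw [hφinv, hφinv, hφinv, mul_inv_rev] at h1
    have := congrArg (·⁻¹) h1
    simpa using this
  refine ⟨?_, hcard, ?_⟩
  · intro h2
    change 2 ∣ Nat.card (↥U ⧸ V.subgroupOf U) at h2
    have : Fact (Nat.Prime 2) := ⟨Nat.prime_two⟩
    obtain ⟨x, hx⟩ := exists_prime_orderOf_dvd_card' 2 h2
    have hx1 : x = 1 := hφfix x (by
      rw [hφinv]
      refine inv_eq_of_mul_eq_one_right ?_
      have := pow_orderOf_eq_one x
      rwa [hx, pow_two] at this)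
    rw [hx1, orderOf_one] at hx
    exact absurd hx (by decide)
  · rw [Subgroup.commutator_le]
    intro a ha b hb
    have h1 : ⁅(⟨a, ha⟩ : ↥U), ⟨b, hb⟩⁆ ∈ V.subgroupOf U := by
      rw [← QuotientGroup.ker_mk' (V.subgroupOf U), MonoidHom.mem_ker, map_commutatorElement]
      rw [commutatorElement_eq_one_iff_mul_comm]
      exact hab _ _
    exact h1


end Cfsg.Agent.S3825
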