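import Mathlib
import Cfsg.Statements.S3835
import Cfsg.Agent.Lib.Qd.TISylow
import Cfsg.Agent.Lib.GL.Basic

set_option autoImplicit false
set_option maxHeartbeats 2000000
open Cfsg

namespace Cfsg.Agent.S3835
open Matrix

variable {p : ℕ} [Fact p.Prime]

/-- A p-group of permutations of fewer than `p²` points is abelian. -/
theorem commute_of_pgroup {α : Type*} [Fintype α] [DecidableEq α] (hα : Fintype.card α < p ^ 2)
    {Q : Subgroup (Equiv.Perm α)} (hQ : IsPGroup p Q) (a b : Q) : a * b = b * a := by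
  have hp : p.Prime := Fact.out
  apply Subtype.ext
  apply Equiv.ext
  intro t
  obtain ⟨k, hk⟩ := hQ.index (MulAction.stabilizer Q t)
  have hcard : Nat.card (MulAction.orbit Q t) = p ^ k := by
    rw [← hk, MulAction.index_stabilizer, Nat.card_coe_set_eq]
  have hle : p ^ k ≤ Fintype.card α := by
    rw [← hcard, ← Nat.card_eq_fintype_card]
    exact Nat.card_le_card_of_injective Subtype.val Subtype.val_injective
  have hk1 : k ≤ 1 := by
    by_contra h
    have := Nat.pow_le_pow_right hp.pos (show 2 ≤ k by omega)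
    omega
  let f : Q →* Equiv.Perm (MulAction.orbit Q t) := MulAction.toPermHom Q (MulAction.orbit Q t)
  have hR : IsPGroup p f.range := hQ.of_surjective f.rangeRestrict f.rangeRestrict_surjective
  obtain ⟨j, hj⟩ := (IsPGroup.iff_card).mp hR
  have hdvd : p ^ j ∣ (p ^ k).factorial := by
    rw [← hj, ← hcard, ← Nat.card_perm]
    exact Subgroup.card_subgroup_dvd_card _
  have hj1 : j ≤ 1 := by
    have h1 := (hp.pow_dvd_iff_le_factorization (Nat.factorial_ne_zero _)).mp hdvd
    rw [Nat.factorization_def _ hp] at h1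
    interval_cases k
    · simp at h1; omega
    · rw [pow_one, padicValNat_factorial (b := 2) (Nat.log_lt_of_lt_pow hp.ne_zero (by nlinarith [hp.two_le]))] at h1
      simp [Nat.div_self hp.pos] at h1
      omega
  have : IsCyclic f.range := by
    interval_cases j
    · have := (Nat.card_eq_one_iff_unique.mp (hj.trans (pow_zero p))).1
      infer_instance
    · exact isCyclic_of_prime_card (p := p) (hj.trans (pow_one p))
  obtain ⟨g, hg⟩ := this.exists_generator
  obtain ⟨i, hi⟩ := hg ⟨f a, a, rfl⟩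
  obtain ⟨l, hl⟩ := hg ⟨f b, b, rfl⟩
  have hc : Commute (f a) (f b) := by
    have hi' := congrArg Subtype.val hi
    have hl' := congrArg Subtype.val hl
    simp only [Subgroup.coe_zpow] at hi' hl'
    rw [← hi', ← hl']
    exact (Commute.refl _).zpow_zpow i l
  have := congrArg Subtype.val (Equiv.congr_fun hc.eq ⟨t, MulAction.mem_orbit_self t⟩)
  exact this

/-- The unitriangular elements. -/
def upper (p : ℕ) [Fact p.Prime] : Subgroup (Matrix.SpecialLinearGroup (Fin 3) (ZMod p)) :=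
  let S : Submonoid (Matrix.SpecialLinearGroup (Fin 3) (ZMod p)) :=
    { carrier := {M | M 0 0 = 1 ∧ M 1 1 = 1 ∧ M 2 2 = 1 ∧ M 1 0 = 0 ∧ M 2 0 = 0 ∧ M 2 1 = 0}
      one_mem' := by simp
      mul_mem' := fun {x y} hx hy => by
        obtain ⟨a0, a1, a2, a3, a4, a5⟩ := hx
        obtain ⟨b0, b1, b2, b3, b4, b5⟩ := hy
        refine ⟨?_, ?_, ?_, ?_, ?_, ?_⟩ <;>
          simp [Matrix.SpecialLinearGroup.coe_mul, Matrix.mul_apply, Fin.sum_univ_three, a0, a1, a2, a3, a4, a5, b0, b1, b2, b3, b4, b5] }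
  { S with
    inv_mem' := fun {a} ha => by
      obtain ⟨k, hk⟩ := (isOfFinOrder_of_finite a).mem_powers_iff_mem_zpowers.mpr
        (Subgroup.inv_mem _ (Subgroup.mem_zpowers a))
      exact hk ▸ S.pow_mem ha k }

theorem isPGroup_upper : IsPGroup p (upper p) := by
  rintro ⟨M, h0, h1, h2, h3, h4, h5⟩
  refine ⟨2, Subtype.ext (Matrix.SpecialLinearGroup.ext _ _ fun i j => ?_)⟩
  have hN : ((↑M : Matrix (Fin 3) (Fin 3) (ZMod p)) - 1) ^ 3 = 0 := by
    ext i j
    fin_cases i <;> fin_cases j <;>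
      simp [pow_succ, Matrix.mul_apply, Fin.sum_univ_three, h0, h1, h2, h3, h4, h5]
  have hle : 3 ≤ p ^ 2 := by nlinarith [(Fact.out : p.Prime).two_le]
  have h := pow_eq_zero_of_le hle hN
  rw [sub_pow_char_pow_of_commute p 2 (Commute.one_right _), one_pow, sub_eq_zero] at h
  show (M ^ p ^ 2 : Matrix.SpecialLinearGroup (Fin 3) (ZMod p)) i j = _
  rw [Matrix.SpecialLinearGroup.coe_pow, h]
  rfl

theorem upper_le_qd : upper p ≤ Cfsg.qd p := fun _ hM =>
  Subgroup.subset_closure ⟨hM.2.2.2.2.1, hM.2.2.2.2.2, hM.2.2.1⟩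

theorem not_commutative_upper : ∃ a b : upper p, a * b ≠ b * a := by
  refine ⟨⟨Matrix.SpecialLinearGroup.transvection (show (0 : Fin 3) ≠ 1 by decide) 1, ?_⟩,
    ⟨Matrix.SpecialLinearGroup.transvection (show (1 : Fin 3) ≠ 2 by decide) 1, ?_⟩, fun h => ?_⟩
  · refine ⟨?_, ?_, ?_, ?_, ?_, ?_⟩ <;> simp [Matrix.SpecialLinearGroup.transvection, Matrix.transvection, Matrix.single]
  · refine ⟨?_, ?_, ?_, ?_, ?_, ?_⟩ <;> simp [Matrix.SpecialLinearGroup.transvection, Matrix.transvection, Matrix.single]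
  · have h' := congrArg (fun M : Matrix.SpecialLinearGroup (Fin 3) (ZMod p) => M 0 2) (congrArg Subtype.val h)
    simp only [Subgroup.coe_mul, Matrix.SpecialLinearGroup.coe_mul] at h'
    simp [Matrix.SpecialLinearGroup.transvection, Matrix.transvection, Matrix.single, Matrix.mul_apply, Fin.sum_univ_three] at h'

theorem not_involves {n : ℕ} (hn : n < p ^ 2) : ¬ Cfsg.Involves ↥(Cfsg.qd p) ↥(alternatingGroup (Fin n)) := by
  intro h
  obtain ⟨K, φ, hφ⟩ := Qd.exists_surjective_of_involves h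
  let U := (upper p).subgroupOf (Cfsg.qd p)
  let W := U.comap φ
  have hψ : Function.Surjective (φ.subgroupComap U) := MonoidHom.subgroupComap_surjective_of_surjective _ _ hφ
  obtain ⟨S⟩ := (inferInstance : Nonempty (Sylow p W))
  have hU : IsPGroup p U := (isPGroup_upper (p := p)).comap_of_injective _ (Subgroup.subtype_injective _)
  have htop : (S : Subgroup W).map (φ.subgroupComap U) = ⊤ := by
    rw [← Subgroup.index_eq_one]
    obtain ⟨j, hj⟩ := hU.index ((S : Subgroup W).map (φ.subgroupComap U))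
    rcases Nat.eq_zero_or_pos j with rfl | hj0
    · simpa using hj
    · exact absurd ((dvd_pow_self p hj0.ne').trans (hj ▸ Subgroup.index_map_dvd _ hψ)) S.not_dvd_index
  let ρ : W →* Equiv.Perm (Fin n) := ((alternatingGroup (Fin n)).subtype.comp K.subtype).comp W.subtype
  have hinj : Function.Injective ρ := fun x y e => Subtype.ext (Subtype.ext (Subtype.ext e))
  obtain ⟨a, b, hab⟩ := not_commutative_upper (p := p)
  obtain ⟨x, hx, hxa⟩ := htop.ge (Subgroup.mem_top (⟨⟨a, upper_le_qd a.2⟩, a.2⟩ : U))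
  obtain ⟨y, hy, hyb⟩ := htop.ge (Subgroup.mem_top (⟨⟨b, upper_le_qd b.2⟩, b.2⟩ : U))
  have hc := commute_of_pgroup (p := p) (by rwa [Fintype.card_fin]) (S.2.map ρ)
    ⟨ρ x, x, hx, rfl⟩ ⟨ρ y, y, hy, rfl⟩
  have hxy : x * y = y * x := hinj (by rw [map_mul, map_mul]; exact congrArg Subtype.val hc)
  apply hab
  have := congrArg (φ.subgroupComap U) hxy
  rw [map_mul, map_mul, hxa, hyb] at this
  exact Subtype.ext (congrArg (fun u : U => ((u : Cfsg.qd p) : Matrix.SpecialLinearGroup (Fin 3) (ZMod p))) this)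

/-- The affine plane `z = 1`. -/
abbrev Pts (p : ℕ) := {w : Fin 3 → ZMod p // w 2 = 1}

noncomputable instance instFintypePts : Fintype (Pts p) := Fintype.ofFinite _

theorem card_pts : Fintype.card (Pts p) = p ^ 2 := by
  let e : Pts p ≃ (ZMod p × ZMod p) :=
    { toFun := fun w => (w.1 0, w.1 1)
      invFun := fun v => ⟨![v.1, v.2, 1], rfl⟩
      left_inv := fun w => Subtype.ext (funext fun i => by fin_cases i <;> simp [w.2])
      right_inv := fun v => by simp }
  rw [Fintype.card_congr e, Fintype.card_prod, ZMod.card, pow_two]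

theorem qd_apply_two (M : Cfsg.qd p) (w : Pts p) :
    ((↑(M : Matrix.SpecialLinearGroup (Fin 3) (ZMod p)) : Matrix (Fin 3) (Fin 3) (ZMod p)) *ᵥ w.1) 2 = 1 := by
  obtain ⟨h0, h1, h2⟩ := Qd.qd_shape _ M.2
  simp [Matrix.mulVec, dotProduct, Fin.sum_univ_three, h0, h1, h2, w.2]

/-- The action of `Qd(p)` on the affine plane. -/
noncomputable def act : Cfsg.qd p →* Equiv.Perm (Pts p) :=
  letI : MulAction (Cfsg.qd p) (Pts p) :=
    { smul := fun M w => ⟨_, qd_apply_two M w⟩
      one_smul := fun w => Subtype.ext (by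
        show (↑((1 : Cfsg.qd p) : Matrix.SpecialLinearGroup (Fin 3) (ZMod p)) : Matrix (Fin 3) (Fin 3) (ZMod p)) *ᵥ w.1 = w.1
        simp)
      mul_smul := fun a b w => Subtype.ext (by
        show (↑((a * b : Cfsg.qd p) : Matrix.SpecialLinearGroup (Fin 3) (ZMod p)) : Matrix (Fin 3) (Fin 3) (ZMod p)) *ᵥ w.1 =
          (↑(a : Matrix.SpecialLinearGroup (Fin 3) (ZMod p)) : Matrix (Fin 3) (Fin 3) (ZMod p)) *ᵥ
            ((↑(b : Matrix.SpecialLinearGroup (Fin 3) (ZMod p)) : Matrix (Fin 3) (Fin 3) (ZMod p)) *ᵥ w.1)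
        rw [Matrix.mulVec_mulVec, Subgroup.coe_mul, Matrix.SpecialLinearGroup.coe_mul]) }
  MulAction.toPermHom (Cfsg.qd p) (Pts p)

theorem act_apply (M : Cfsg.qd p) (w : Pts p) :
    (act M w).1 = (↑(M : Matrix.SpecialLinearGroup (Fin 3) (ZMod p)) : Matrix (Fin 3) (Fin 3) (ZMod p)) *ᵥ w.1 := rfl

theorem act_injective : Function.Injective (act (p := p)) := by
  rw [injective_iff_map_eq_one]
  intro M hM
  have h : ∀ a b : ZMod p, (↑(M : Matrix.SpecialLinearGroup (Fin 3) (ZMod p)) : Matrix (Fin 3) (Fin 3) (ZMod p)) *ᵥ ![a, b, 1] = ![a, b, 1] := fun a b => by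
    have := congrArg (fun σ : Equiv.Perm (Pts p) => (σ ⟨![a, b, 1], rfl⟩).1) hM
    simpa [act_apply] using this
  apply Subtype.ext
  apply Matrix.SpecialLinearGroup.ext
  intro i j
  have c0 := congrFun (h 0 0) i
  have c1 := congrFun (h 1 0) i
  have c2 := congrFun (h 0 1) i
  fin_cases i <;> fin_cases j <;>
    simp [Matrix.mulVec, dotProduct, Fin.sum_univ_three] at c0 c1 c2 ⊢ <;> simp_all

/-- The linear part. -/
def lin : Matrix.SpecialLinearGroup (Fin 2) (ZMod p) →* Cfsg.qd p where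
  toFun A := ⟨⟨!![A 0 0, A 0 1, 0; A 1 0, A 1 1, 0; 0, 0, 1], by
      have h := A.2
      rw [Matrix.det_fin_two] at h
      simp [Matrix.det_fin_three]
      linear_combination h⟩,
    Subgroup.subset_closure ⟨rfl, rfl, rfl⟩⟩
  map_one' := Subtype.ext (Matrix.SpecialLinearGroup.ext _ _ fun i j => by fin_cases i <;> fin_cases j <;> simp)
  map_mul' A B := Subtype.ext (Matrix.SpecialLinearGroup.ext _ _ fun i j => by
    have hC : (↑(A * B) : Matrix (Fin 2) (Fin 2) (ZMod p)) = (↑A : Matrix (Fin 2) (Fin 2) (ZMod p)) * (↑B : Matrix (Fin 2) (Fin 2) (ZMod p)) := rfl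
    show (!![(↑(A * B) : Matrix (Fin 2) (Fin 2) (ZMod p)) 0 0, (↑(A * B) : Matrix (Fin 2) (Fin 2) (ZMod p)) 0 1, 0;
        (↑(A * B) : Matrix (Fin 2) (Fin 2) (ZMod p)) 1 0, (↑(A * B) : Matrix (Fin 2) (Fin 2) (ZMod p)) 1 1, 0; 0, 0, 1]) i j =
      (!![A 0 0, A 0 1, 0; A 1 0, A 1 1, 0; 0, 0, 1] * !![B 0 0, B 0 1, 0; B 1 0, B 1 1, 0; 0, 0, 1]) i j
    rw [hC]
    fin_cases i <;> fin_cases j <;> simp [Matrix.mul_apply, Fin.sum_univ_two, Fin.sum_univ_three])

theorem sign_act (hp : p ≠ 2) (M : Cfsg.qd p) : Equiv.Perm.sign (act M) = 1 := by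
  classical
  have hodd : ∀ g : Cfsg.qd p, g ^ p = 1 → Equiv.Perm.sign (act g) = 1 := fun g hg => by
    have h := congrArg (fun g => Equiv.Perm.sign (act g)) hg
    simp only [map_pow, map_one] at h
    rcases Int.units_eq_one_or (Equiv.Perm.sign (act g)) with h1 | h1
    · exact h1
    · rw [h1, ((Fact.out : p.Prime).odd_of_ne_two hp).neg_one_pow] at h
      exact absurd h (by decide)
  have hlin : ∀ A, Equiv.Perm.sign (act (lin (p := p) A)) = 1 := by
    intro A
    induction A using GL.SL_induction with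
    | one => simp
    | transvec i j hij c =>
      refine hodd _ ?_
      rw [← map_pow]
      convert map_one (lin (p := p))
      have h := Qd.sl_pow_prime_eq_one (Matrix.SpecialLinearGroup.transvection hij c) (by
        rw [pow_two]
        ext a b
        simp [Matrix.SpecialLinearGroup.transvection, Matrix.transvection, Matrix.mul_apply, Matrix.single]
        fin_cases i <;> fin_cases j <;> fin_cases a <;> fin_cases b <;> simp at hij ⊢)
      rwa [pow_one] at h
    | mul A B hA hB => simp [hA, hB]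
  obtain ⟨h0, h1, h2⟩ := Qd.qd_shape _ M.2
  set m : Matrix (Fin 3) (Fin 3) (ZMod p) := (↑(M : Matrix.SpecialLinearGroup (Fin 3) (ZMod p)) : Matrix (Fin 3) (Fin 3) (ZMod p)) with hm
  have hdet : m.det = 1 := (M : Matrix.SpecialLinearGroup (Fin 3) (ZMod p)).2
  rw [Matrix.det_fin_three, h0, h1, h2] at hdet
  let A : Matrix.SpecialLinearGroup (Fin 2) (ZMod p) :=
    ⟨!![m 0 0, m 0 1; m 1 0, m 1 1], by simp [Matrix.det_fin_two]; linear_combination hdet⟩
  let T : Cfsg.qd p := ⟨⟨!![1, 0, m 0 2; 0, 1, m 1 2; 0, 0, 1], by simp [Matrix.det_fin_three]⟩,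
    Subgroup.subset_closure ⟨rfl, rfl, rfl⟩⟩
  have hMT : M = T * lin A := Subtype.ext (Matrix.SpecialLinearGroup.ext _ _ fun i j => by
    rw [← hm]
    show m i j = (!![1, 0, m 0 2; 0, 1, m 1 2; 0, 0, 1] * !![m 0 0, m 0 1, 0; m 1 0, m 1 1, 0; 0, 0, 1]) i j
    fin_cases i <;> fin_cases j <;> simp [Matrix.mul_apply, Fin.sum_univ_three, h0, h1, h2])
  rw [hMT, map_mul, map_mul, hlin, mul_one]
  refine hodd T ?_
  have h := Qd.sl_pow_prime_eq_one (T : Matrix.SpecialLinearGroup (Fin 3) (ZMod p)) (by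
    rw [pow_two]
    ext a b
    fin_cases a <;> fin_cases b <;> simp [T, Matrix.mul_apply, Fin.sum_univ_three])
  rw [pow_one] at h
  exact Subtype.ext (by rw [Subgroup.coe_pow]; exact h)

/-- Let p be an odd prime and n a natural number. The alternating group of degree n has a subgroup isomorphic to Qd(p) (the natural semidirect product of an elementary abelian group of order p² by SL₂(p)) if and only if n ≥ p²; and if n < p² then Qd(p) is not even involved in it. -/
theorem result {p : ℕ} [Fact p.Prime] (hp : p ≠ 2) (n : ℕ) : ((∃ H : Subgroup (alternatingGroup (Fin n)), Nonempty (↥H ≃* ↥(Cfsg.qd p))) ↔ p ^ 2 ≤ n) ∧ (n < p ^ 2 → ¬ Cfsg.Involves ↥(Cfsg.qd p) ↥(alternatingGroup (Fin n))) := by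
  classical
  refine ⟨⟨?_, fun h => ?_⟩, fun h => not_involves h⟩
  · rintro ⟨H, ⟨e⟩⟩
    by_contra hn
    refine not_involves (p := p) (Nat.lt_of_not_le hn) ?_
    have hb : ((⊥ : Subgroup (alternatingGroup (Fin n))).subgroupOf H).Normal := by
      rw [Subgroup.bot_subgroupOf]; infer_instance
    exact ⟨H, ⊥, hb, ⟨((QuotientGroup.quotientMulEquivOfEq (Subgroup.bot_subgroupOf H)).trans
      QuotientGroup.quotientBot).trans e⟩⟩
  · obtain ⟨f⟩ := Function.Embedding.nonempty_of_card_le (α := Pts p) (β := Fin n) (by rw [card_pts, Fintype.card_fin]; exact h)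
    let φ : Cfsg.qd p →* Equiv.Perm (Fin n) := (Equiv.Perm.viaEmbeddingHom f).comp (act (p := p))
    have hA : ∀ M, φ M ∈ alternatingGroup (Fin n) := fun M => by
      rw [Equiv.Perm.mem_alternatingGroup]
      show Equiv.Perm.sign (Equiv.Perm.viaEmbedding (act M) f) = 1
      rw [Equiv.Perm.viaEmbedding, Equiv.Perm.sign_extendDomain, sign_act hp]
    let ψ := φ.codRestrict (alternatingGroup (Fin n)) hA
    have hinj : Function.Injective ψ := fun a b e =>
      act_injective ((Equiv.Perm.viaEmbeddingHom_injective f) (congrArg Subtype.val e))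
    exact ⟨ψ.range, ⟨(MonoidHom.ofInjective hinj).symm⟩⟩

end Cfsg.Agent.S3835
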