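import Mathlib
import Cfsg.Statements.S3836
import Cfsg.Agent.Lib.PCore.Basic

set_option autoImplicit false
open Cfsg
open scoped commutatorElement

namespace Cfsg.Agent.S3836

/-- Let G be a finite group that is p-stable in the normalizer form: for every p-subgroup Q and every x ∈ N_G(Q) with [Q, x, x] = 1, the image of x in N_G(Q)/C_G(Q) lies in O_p(N_G(Q)/C_G(Q)). Then every subgroup of G is p-stable in the same sense. -/
theorem result {G : Type*} [Group G] [Finite G] {p : ℕ} [Fact p.Prime] (hst : Cfsg.IsNormalizerPStable p G) (H : Subgroup G) : Cfsg.IsNormalizerPStable p ↥H := by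
  intro P hP g hg hcomm
  let PG := P.map H.subtype
  have hgG : (g : G) ∈ Subgroup.normalizer (PG : Set G) := by
    rw [Subgroup.mem_normalizer_iff] at hg ⊢
    intro n
    constructor
    · rintro ⟨m, hm, rfl⟩
      exact ⟨g * m * g⁻¹, (hg m).mp hm, rfl⟩
    · rintro ⟨m, hm, hme⟩
      refine ⟨g⁻¹ * m * g, (hg _).mpr (by simpa [mul_assoc] using hm), ?_⟩
      change ((g : G))⁻¹ * (m : G) * (g : G) = n
      rw [show (m : G) = (g : G) * n * (g : G)⁻¹ from hme]; group
  have hcG : ⁅⁅PG, Subgroup.zpowers (g : G)⁆, Subgroup.zpowers (g : G)⁆ = ⊥ := by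
    have hz : Subgroup.zpowers (g : G) = (Subgroup.zpowers g).map H.subtype := by rw [MonoidHom.map_zpowers]; rfl
    rw [hz, ← Subgroup.map_commutator, ← Subgroup.map_commutator, hcomm, Subgroup.map_bot]
  have hkey := hst PG (hP.map H.subtype) (g : G) hgG hcG
  let NH := Subgroup.normalizer (P : Set H)
  let NG := Subgroup.normalizer (PG : Set G)
  let CH := (Subgroup.centralizer (P : Set H)).subgroupOf NH
  let CG := (Subgroup.centralizer (PG : Set G)).subgroupOf NG
  let ι : NH →* NG :=
    { toFun := fun x => ⟨((x : H) : G), by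
        have hx := Subgroup.mem_normalizer_iff.mp x.2
        rw [Subgroup.mem_normalizer_iff]
        intro n
        constructor
        · rintro ⟨m, hm, rfl⟩
          exact ⟨(x : H) * m * (x : H)⁻¹, (hx m).mp hm, rfl⟩
        · rintro ⟨m, hm, hme⟩
          refine ⟨(x : H)⁻¹ * m * (x : H), (hx _).mpr (by simpa [mul_assoc] using hm), ?_⟩
          change ((x : H) : G)⁻¹ * (m : G) * ((x : H) : G) = n
          rw [show (m : G) = ((x : H) : G) * n * ((x : H) : G)⁻¹ from hme]; group⟩
      map_one' := rfl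
      map_mul' := fun _ _ => rfl }
  have hCiff : ∀ x : NH, ι x ∈ CG ↔ x ∈ CH := by
    intro x
    constructor
    · intro hx
      rw [Subgroup.mem_subgroupOf, Subgroup.mem_centralizer_iff] at hx ⊢
      intro m hm
      exact Subtype.ext (hx _ ⟨m, hm, rfl⟩)
    · intro hx
      rw [Subgroup.mem_subgroupOf, Subgroup.mem_centralizer_iff] at hx ⊢
      rintro _ ⟨m, hm, rfl⟩
      exact congrArg Subtype.val (hx m hm)
  let φ : NH ⧸ CH →* NG ⧸ CG := QuotientGroup.map CH CG ι fun x hx => (hCiff x).mpr hx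
  have hinj : Function.Injective φ := by
    rw [injective_iff_map_eq_one]
    intro a ha
    obtain ⟨x, rfl⟩ := QuotientGroup.mk_surjective a
    exact (QuotientGroup.eq_one_iff x).mpr ((hCiff x).mp ((QuotientGroup.eq_one_iff (ι x)).mp ha))
  exact PCore.le_pCore (hN := Subgroup.Normal.comap (by unfold Cfsg.pCore; exact Subgroup.sSup_normal _ fun N hN => hN.1) φ)
    ((PCore.isPGroup_pCore (p := p) (G := NG ⧸ CG)).comap_of_injective φ hinj)
    (show φ (QuotientGroup.mk ⟨g, hg⟩) ∈ Cfsg.pCore p (NG ⧸ CG) from hkey)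

end Cfsg.Agent.S3836
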