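import Cfsg.Statements.S3838
import Cfsg.Agent.Lib.PGroup.Frattini
import Cfsg.Agent.Lib.Transfer.Tate
import Cfsg.Agent.Lib.Transfer.Frobenius

set_option autoImplicit false
open Cfsg
open scoped commutatorElement

namespace Cfsg.Agent.S3838

/-- Let G be a finite group with Sylow p-subgroup P such that N_G(P) has a normal p-complement. Then N_G(Q) has a normal p-complement for every subgroup Q with [P, P] ≤ Q ≤ Φ(P). -/
theorem result {G : Type*} [Group G] [Finite G] {p : ℕ} [Fact p.Prime] (P : Sylow p G) (hN : Cfsg.HasNormalPComplement p ↥(Subgroup.normalizer ((P : Subgroup G) : Set G))) (Q : Subgroup G) (h1 : (commutator ↥(P : Subgroup G)).map (P : Subgroup G).subtype ≤ Q) (h2 : Q ≤ (frattini ↥(P : Subgroup G)).map (P : Subgroup G).subtype) : Cfsg.HasNormalPComplement p ↥(Subgroup.normalizer (Q : Set G)) := by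
  have hQP : Q ≤ (P : Subgroup G) := h2.trans (Subgroup.map_subtype_le _)
  set H := Subgroup.normalizer (Q : Set G) with hH
  have hPH : (P : Subgroup G) ≤ H := by
    intro a ha
    have key : ∀ b ∈ (P : Subgroup G), ∀ q ∈ Q, b * q * b⁻¹ ∈ Q := by
      intro b hb q hq
      have hc : b * q * b⁻¹ * q⁻¹ ∈ Q := h1 ⟨⁅(⟨b, hb⟩ : (P : Subgroup G)), ⟨q, hQP hq⟩⁆,
        Subgroup.commutator_mem_commutator (Subgroup.mem_top _) (Subgroup.mem_top _), rfl⟩
      simpa using Q.mul_mem hc hq
    rw [Subgroup.mem_normalizer_iff]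
    intro q
    refine ⟨key a ha q, fun hq => ?_⟩
    have := key a⁻¹ ((P : Subgroup G).inv_mem ha) _ hq
    simpa [mul_assoc] using this
  let PH : Sylow p H := P.subtype hPH
  let QH : Subgroup H := Q.subgroupOf H
  have : QH.Normal := Subgroup.normal_subgroupOf_of_le_normalizer le_rfl
  let π := QuotientGroup.mk' QH
  let PB : Sylow p (H ⧸ QH) := PH.mapSurjective (QuotientGroup.mk'_surjective QH)
  have hPB : (PB : Subgroup (H ⧸ QH)) = (PH : Subgroup H).map π := Sylow.coe_mapSurjective _ _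
  have hab : ∀ a b : H, a ∈ (PH : Subgroup H) → b ∈ (PH : Subgroup H) → Commute (π a) (π b) := by
    intro a b ha hb
    rw [← commutatorElement_eq_one_iff_commute, ← map_commutatorElement, QuotientGroup.mk'_apply,
      QuotientGroup.eq_one_iff]
    exact h1 ⟨⁅(⟨a, ha⟩ : (P : Subgroup G)), ⟨b, hb⟩⁆,
      Subgroup.commutator_mem_commutator (Subgroup.mem_top _) (Subgroup.mem_top _), rfl⟩
  have hNC : Subgroup.normalizer ((PB : Subgroup (H ⧸ QH)) : Set (H ⧸ QH)) ≤
      Subgroup.centralizer ((PB : Subgroup (H ⧸ QH)) : Set (H ⧸ QH)) := by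
    intro z hz
    obtain ⟨y, rfl⟩ := QuotientGroup.mk'_surjective QH z
    have hy : (y : G) ∈ Subgroup.normalizer ((P : Subgroup G) : Set G) := by
      have hcm : ∀ n : H, π n ∈ (PB : Subgroup (H ⧸ QH)) ↔ (n : G) ∈ (P : Subgroup G) := by
        intro n
        rw [hPB]
        constructor
        · rintro ⟨a, ha, hae⟩
          rw [QuotientGroup.mk'_apply, QuotientGroup.mk'_apply, QuotientGroup.eq] at hae
          simpa using (P : Subgroup G).mul_mem (show (a : G) ∈ (P : Subgroup G) from ha) (hQP hae)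
        · exact fun hn => ⟨n, hn, rfl⟩
      have key : ∀ n ∈ (P : Subgroup G), (y : G) * n * (y : G)⁻¹ ∈ (P : Subgroup G) ∧
          (y : G)⁻¹ * n * (y : G) ∈ (P : Subgroup G) := by
        intro n hn
        have e1 := (Subgroup.mem_normalizer_iff.mp hz (π ⟨n, hPH hn⟩)).mp ((hcm _).mpr hn)
        have e2 := (Subgroup.mem_normalizer_iff.mp ((Subgroup.normalizer _).inv_mem hz) (π ⟨n, hPH hn⟩)).mp ((hcm _).mpr hn)
        rw [inv_inv] at e2
        rw [← map_inv, ← map_mul, ← map_mul, hcm] at e1 e2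
        exact ⟨e1, e2⟩
      rw [Subgroup.mem_normalizer_iff]
      intro n
      refine ⟨fun hn => (key n hn).1, fun hn => ?_⟩
      have := (key _ hn).2
      simpa [mul_assoc] using this
    rw [Subgroup.mem_centralizer_iff]
    intro w hw
    rw [hPB] at hw
    obtain ⟨a, ha, rfl⟩ := hw
    -- split `y` into its p-part and p'-part
    have hp : p.Prime := Fact.out
    obtain ⟨i, m, hm, hn⟩ := Nat.exists_eq_pow_mul_and_not_dvd (orderOf_pos y).ne' p hp.ne_one
    have hcm : Nat.Coprime (p ^ i) m := Nat.Coprime.pow_left i (hp.coprime_iff_not_dvd.mpr hm)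
    have h1' : Commute (π (y ^ m)) (π a) := by
      refine hab _ _ ?_ ha
      have hm0 : m ≠ 0 := by rintro rfl; exact hm (dvd_zero p)
      have hg : IsPGroup p ↥((P : Subgroup G) ⊔ Subgroup.zpowers ((y : G) ^ m)) := by
        refine P.2.to_sup_of_normal_left' (IsPGroup.of_card (n := i) ?_) ?_
        · rw [Nat.card_zpowers, ← Subgroup.coe_pow, Subgroup.orderOf_coe, orderOf_pow_of_dvd hm0
            (hn ▸ Dvd.intro_left _ rfl), hn, Nat.mul_div_cancel _ (Nat.pos_of_ne_zero hm0)]
        · rw [Subgroup.zpowers_le]; exact Subgroup.pow_mem _ hy m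
      have hmem : (y : G) ^ m ∈ (P : Subgroup G) := (P.3 hg le_sup_left).le (Subgroup.mem_sup_right (Subgroup.mem_zpowers _))
      exact hmem
    have h2' : Commute (π (y ^ p ^ i)) (π a) := by
      have hc := Transfer.mem_centralizer_of_hasNormalPComplement (p := p) P.2 hN
        (g := (y : G) ^ p ^ i) (Subgroup.pow_mem _ hy _) (by
          refine Nat.Coprime.coprime_dvd_left (k := m) ?_ (hp.coprime_iff_not_dvd.mpr hm).symm
          refine orderOf_dvd_of_pow_eq_one ?_
          rw [← pow_mul, ← hn, ← Subgroup.coe_pow, pow_orderOf_eq_one, Subgroup.coe_one])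
      have e : y ^ p ^ i * a = a * y ^ p ^ i := Subtype.ext (Subgroup.mem_centralizer_iff.mp hc _ ha).symm
      exact (show Commute (y ^ p ^ i) a from e).map π
    rw [map_pow] at h1' h2'
    obtain ⟨e, he1, he2⟩ := Nat.chineseRemainder hcm 1 0
    obtain ⟨f, hf1, hf2⟩ := Nat.chineseRemainder hcm 0 1
    obtain ⟨e', rfl⟩ := Nat.modEq_zero_iff_dvd.mp he2
    obtain ⟨f', rfl⟩ := Nat.modEq_zero_iff_dvd.mp hf1
    have h1e : m * e' + p ^ i * f' ≡ 1 [MOD p ^ i * m] :=
      (Nat.modEq_and_modEq_iff_modEq_mul hcm).mp ⟨by simpa using he1.add hf1, by simpa using he2.add hf2⟩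
    have hye : y ^ (m * e' + p ^ i * f') = y := by
      conv_rhs => rw [← pow_one y]
      exact pow_eq_pow_iff_modEq.mpr (hn ▸ h1e)
    have := (h1'.pow_left e').mul_left (h2'.pow_left f')
    rw [← pow_mul, ← pow_mul, ← pow_add, ← map_pow, hye] at this
    exact this.eq.symm
  have hle : (PH : Subgroup H) ⊓ Cfsg.pResidual p H ≤ (frattini (PH : Subgroup H)).map (PH : Subgroup H).subtype := by
    intro x hx
    have hxQ : π x = 1 := by
      have h3 : π x ∈ (PB : Subgroup (H ⧸ QH)) ⊓ Cfsg.pResidual p (H ⧸ QH) :=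
        ⟨hPB ▸ Subgroup.mem_map_of_mem π hx.1,
          (Transfer.map_residual_le π p) (Subgroup.mem_map_of_mem π hx.2)⟩
      rw [(Transfer.hasNormalPComplement_iff_inf_eq_bot PB).mp
        (Transfer.hasNormalPComplement_of_normalizer_le_centralizer PB hNC)] at h3
      exact Subgroup.mem_bot.mp h3
    obtain ⟨w, hw, hwe⟩ := h2 ((QuotientGroup.eq_one_iff x).mp hxQ)
    let e : (P : Subgroup G) →* (PH : Subgroup H) :=
      { toFun := fun a => ⟨⟨a, hPH a.2⟩, a.2⟩
        map_one' := rfl
        map_mul' := fun _ _ => rfl }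
    have he : Function.Surjective e := fun b => ⟨⟨((b : H) : G), b.2⟩, rfl⟩
    have := Cfsg.Agent.PGroup.map_frattini (p := p) P.2 e he
    exact ⟨e w, this ▸ Subgroup.mem_map_of_mem e hw, Subtype.ext hwe⟩
  exact Transfer.hasNormalPComplement_of_inf_pResidual_le_frattini PH hle

end Cfsg.Agent.S3838
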