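import Mathlib
import Cfsg.Statements.S3839
import Cfsg.Agent.Lib.Transfer.Frobenius
import Cfsg.Agent.Lib.PGroup.Basic
import Cfsg.Agent.Lib.Coprime.Basic

set_option autoImplicit false
open Cfsg
open scoped Pointwise

namespace Cfsg.Agent.S3839
universe u

section Step

theorem mem_normalizer_of_conj {H : Type*} [Group H] [Finite H] {A : Subgroup H} {n : H}
    (h : ∀ x ∈ A, n * x * n⁻¹ ∈ A) : n ∈ Subgroup.normalizer (A : Set H) := by
  have hle : A.map (MulAut.conj n).toMonoidHom ≤ A := by rintro _ ⟨x, hx, rfl⟩; exact h x hx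
  have heq : A.map (MulAut.conj n).toMonoidHom = A := Subgroup.eq_of_le_of_card_ge hle
    (by rw [Subgroup.card_map_of_injective (MulAut.conj n).injective])
  rw [Subgroup.mem_normalizer_iff]
  refine fun x => ⟨h x, fun hx => ?_⟩
  rw [← heq] at hx
  obtain ⟨y, hy, hyx⟩ := hx
  have : y = x := by simpa using hyx
  exact this ▸ hy

variable {G : Type u} [Group G] [Finite G] {p : ℕ} [Fact p.Prime]

/-- The hypothesis of the criterion. -/
def LocalHyp (p : ℕ) (D : Subgroup G) : Prop :=
  ∀ U : Subgroup G, U ≤ D → D ⊓ Subgroup.centralizer (U : Set G) ≤ U →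
    Cfsg.HasNormalPComplement p ↥(Subgroup.normalizer (U : Set G))

omit [Finite G] [Fact p.Prime] in
theorem mem_conj {g x : G} {D : Subgroup G} :
    x ∈ D.map (MulAut.conj g).toMonoidHom ↔ g⁻¹ * x * g ∈ D := by
  constructor
  · rintro ⟨y, hy, rfl⟩
    simpa [mul_assoc] using hy
  · exact fun h => ⟨_, h, by simp [mul_assoc]⟩

/-- Transfer of the data to another Sylow subgroup. -/
theorem exists_conj_data {S : Sylow p G} {D : Subgroup G} (hD : Cfsg.IsStronglyClosed D (S : Subgroup G))
    (hyp : LocalHyp p D) (S' : Sylow p G) :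
    ∃ D' : Subgroup G, Cfsg.IsStronglyClosed D' (S' : Subgroup G) ∧ LocalHyp p D' ∧
      (∀ d ∈ D, d ∈ (S' : Subgroup G) → d ∈ D') ∧ (D ≠ ⊥ → D' ≠ ⊥) := by
  obtain ⟨g, rfl⟩ := MulAction.exists_smul_eq G S S'
  have hS : ∀ x : G, x ∈ ((g • S : Sylow p G) : Subgroup G) ↔ g⁻¹ * x * g ∈ (S : Subgroup G) := fun x => by
    rw [Sylow.coe_subgroup_smul, Coprime.mem_conj_smul_iff]
  refine ⟨D.map (MulAut.conj g).toMonoidHom, ⟨fun x hx => (hS x).mpr (hD.1 (mem_conj.mp hx)), ?_⟩, ?_, ?_, ?_⟩
  · intro x hx h hh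
    rw [hS] at hh
    rw [mem_conj] at hx ⊢
    have := hD.2 _ hx (g⁻¹ * h * g) (by simpa [mul_assoc] using hh)
    simpa [mul_assoc] using this
  · intro U hU hC
    let f := (MulAut.conj g⁻¹ : G ≃* G)
    have hfx : ∀ x, f x = g⁻¹ * x * g := fun x => by simp [f]
    have h1 := hyp (U.map f.toMonoidHom) (by
        rintro _ ⟨x, hx, rfl⟩
        have := mem_conj.mp (hU hx)
        simpa [f] using this) (by
        intro x hx
        refine ⟨g * x * g⁻¹, hC ⟨mem_conj.mpr (by simpa [mul_assoc] using hx.1), ?_⟩, by simp [f, mul_assoc]⟩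
        show _ ∈ Subgroup.centralizer (U : Set G)
        rw [Subgroup.mem_centralizer_iff]
        intro u hu
        have := Subgroup.mem_centralizer_iff.mp hx.2 (f u) ⟨u, hu, rfl⟩
        rw [hfx] at this
        calc u * (g * x * g⁻¹) = g * (g⁻¹ * u * g * x) * g⁻¹ := by group
          _ = g * (x * (g⁻¹ * u * g)) * g⁻¹ := by rw [this]
          _ = g * x * g⁻¹ * u := by group)
    refine Transfer.hasNormalPComplement_of_injective
      ((f.toMonoidHom.comp (Subgroup.normalizer (U : Set G)).subtype).codRestrict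
        (Subgroup.normalizer ((U.map f.toMonoidHom : Subgroup G) : Set G)) ?_) ?_ h1
    · rintro ⟨x, hx⟩
      rw [← Subgroup.map_equiv_normalizer_eq U f]
      exact ⟨x, hx, rfl⟩
    · exact fun a b e => Subtype.ext (f.injective (congrArg Subtype.val e))
  · intro d hd hdS
    rw [mem_conj]
    have := hD.2 d hd g⁻¹ (by simpa using (hS d).mp hdS)
    simpa using this
  · intro hne e
    exact hne ((Subgroup.map_eq_bot_iff_of_injective _ (MulAut.conj g).injective).mp e)


/-- If `g = c n` with `c` centralising `U` and the `p'`-powers of `n` do so, then so does the `p'`-element `g`. -/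
theorem pow_trick {U : Subgroup G} {g c n : G} (hg : g ∈ Subgroup.normalizer (U : Set G))
    (hc : c ∈ Subgroup.centralizer (U : Set G)) (hn : n ∈ Subgroup.normalizer (U : Set G)) (hgcn : g = c * n)
    (hco : Nat.Coprime (orderOf g) p)
    (h : ∀ k : ℕ, Nat.Coprime (orderOf (n ^ k)) p → n ^ k ∈ Subgroup.centralizer (U : Set G)) :
    g ∈ Subgroup.centralizer (U : Set G) := by
  have hp : p.Prime := Fact.out
  obtain ⟨i, m, hm, hnm⟩ := Nat.exists_eq_pow_mul_and_not_dvd (orderOf_pos n).ne' p hp.ne_one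
  have hnC : n ^ p ^ i ∈ Subgroup.centralizer (U : Set G) := h _ (by
    refine Nat.Coprime.coprime_dvd_left (orderOf_dvd_of_pow_eq_one (n := m) ?_) (hp.coprime_iff_not_dvd.mpr hm).symm
    rw [← pow_mul, ← hnm, pow_orderOf_eq_one])
  set N := Subgroup.normalizer (U : Set G)
  let CN := (Subgroup.centralizer (U : Set G)).subgroupOf N
  have hnorm : CN.Normal := ⟨fun x hx y => by
    rw [Subgroup.mem_subgroupOf, Subgroup.mem_centralizer_iff] at hx ⊢
    intro u hu
    have h1 := hx _ ((Subgroup.mem_normalizer_iff''.mp y.2 u).mp hu)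
    push_cast
    calc u * ((y : G) * x * (y : G)⁻¹) = (y : G) * (((y : G)⁻¹ * u * y) * x) * (y : G)⁻¹ := by group
      _ = (y : G) * (x * ((y : G)⁻¹ * u * y)) * (y : G)⁻¹ := by rw [h1]
      _ = (y : G) * x * (y : G)⁻¹ * u := by group⟩
  have hmk : (QuotientGroup.mk (⟨g, hg⟩ : N) : ↥N ⧸ CN) = QuotientGroup.mk ⟨n, hn⟩ := by
    rw [show (⟨g, hg⟩ : N) = ⟨c, Subgroup.centralizer_le_normalizer _ hc⟩ * ⟨n, hn⟩ from Subtype.ext hgcn,
      QuotientGroup.mk_mul, (QuotientGroup.eq_one_iff (⟨c, Subgroup.centralizer_le_normalizer _ hc⟩ : N)).mpr hc, one_mul]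
  have hgC : (QuotientGroup.mk (⟨g, hg⟩ : N) : ↥N ⧸ CN) = 1 := by
    have h1 : (QuotientGroup.mk (⟨g, hg⟩ : N) : ↥N ⧸ CN) ^ p ^ i = 1 := by
      rw [hmk, ← QuotientGroup.mk_pow, QuotientGroup.eq_one_iff]
      exact hnC
    have h2 : (QuotientGroup.mk (⟨g, hg⟩ : N) : ↥N ⧸ CN) ^ orderOf g = 1 := by
      rw [← QuotientGroup.mk_pow, show (⟨g, hg⟩ : N) ^ orderOf g = 1 from Subtype.ext (by push_cast; exact pow_orderOf_eq_one g)]
      rfl
    exact orderOf_eq_one_iff.mp (Nat.eq_one_of_dvd_coprimes (Nat.Coprime.pow_right i hco)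
      (orderOf_dvd_of_pow_eq_one h2) (orderOf_dvd_of_pow_eq_one h1))
  exact (QuotientGroup.eq_one_iff (⟨g, hg⟩ : N)).mp hgC

/-- Frattini step: an element normalising `Q` is, modulo `C(Q)`, an element normalising `Q` and the
part of (a conjugate of) `D` centralising `Q`. -/
theorem frattini_step {S : Sylow p G} {D : Subgroup G} (hD : Cfsg.IsStronglyClosed D (S : Subgroup G))
    (hyp : LocalHyp p D) {Q : Subgroup G} (hQ : IsPGroup p Q) {g : G}
    (hg : g ∈ Subgroup.normalizer (Q : Set G)) :
    ∃ (S' : Sylow p G) (D' : Subgroup G), Q ≤ (S' : Subgroup G) ∧ Cfsg.IsStronglyClosed D' (S' : Subgroup G) ∧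
      LocalHyp p D' ∧ (∀ d ∈ D, d ∈ (S' : Subgroup G) → d ∈ D') ∧ (D ≠ ⊥ → D' ≠ ⊥) ∧
      ∃ c ∈ Subgroup.centralizer (Q : Set G), ∃ n ∈ Subgroup.normalizer (Q : Set G), g = c * n ∧
        n ∈ Subgroup.normalizer ((D' ⊓ Subgroup.centralizer (Q : Set G) : Subgroup G) : Set G) := by
  set C := Subgroup.centralizer (Q : Set G) with hC
  have hCn : ∀ n ∈ Subgroup.normalizer (Q : Set G), ∀ x ∈ C, n * x * n⁻¹ ∈ C := by
    intro n hn x hx
    rw [hC, Subgroup.mem_centralizer_iff] at hx ⊢
    intro q hq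
    have := hx _ ((Subgroup.mem_normalizer_iff''.mp hn q).mp hq)
    calc q * (n * x * n⁻¹) = n * ((n⁻¹ * q * n) * x) * n⁻¹ := by group
      _ = n * (x * (n⁻¹ * q * n)) * n⁻¹ := by rw [this]
      _ = n * x * n⁻¹ * q := by group
  obtain ⟨R⟩ := (inferInstance : Nonempty (Sylow p C))
  set R' := (R : Subgroup C).map C.subtype with hR'
  have hRC : R' ≤ C := Subgroup.map_subtype_le _
  have hp : IsPGroup p ↥(R' ⊔ Q) := by
    refine (R.2.map C.subtype).to_sup_of_normal_left' hQ fun q hq => ?_
    refine Subgroup.centralizer_le_normalizer _ ?_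
    rw [Subgroup.mem_centralizer_iff]
    exact fun r hr => (Subgroup.mem_centralizer_iff.mp (hRC hr) q hq).symm
  obtain ⟨S', hS'⟩ := hp.exists_le_sylow
  have hSC : (S' : Subgroup G) ⊓ C ≤ R' := by
    intro x hx
    have h1 : (R : Subgroup C) ≤ (S' : Subgroup G).subgroupOf C := fun r hr =>
      hS' (Subgroup.mem_sup_left ⟨r, hr, rfl⟩)
    have h2 := R.3 (S'.2.comap_of_injective _ C.subtype_injective) h1
    exact ⟨⟨x, hx.2⟩, h2 ▸ (show (⟨x, hx.2⟩ : C) ∈ (S' : Subgroup G).subgroupOf C from hx.1), rfl⟩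
  obtain ⟨D', hD', hyp', htr, hne⟩ := exists_conj_data hD hyp S'
  -- Frattini
  let R2 : Subgroup C := (R'.map (MulAut.conj g).toMonoidHom).subgroupOf C
  have hR2C : R'.map (MulAut.conj g).toMonoidHom ≤ C := by
    rintro _ ⟨r, hr, rfl⟩
    exact hCn g hg r (hRC hr)
  have hR2p : IsPGroup p R2 := ((R.2.map C.subtype).map (MulAut.conj g).toMonoidHom).comap_of_injective _ C.subtype_injective
  obtain ⟨T, hT⟩ := hR2p.exists_le_sylow
  obtain ⟨c, rfl⟩ := MulAction.exists_smul_eq C R T
  refine ⟨S', D', le_sup_right.trans hS', hD', hyp', htr, hne, c, c.2, (c : G)⁻¹ * g, ?_, by simp, ?_⟩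
  · exact Subgroup.mul_mem _ (Subgroup.inv_mem _ (Subgroup.centralizer_le_normalizer _ c.2)) hg
  · set n := (c : G)⁻¹ * g with hn
    have hnR : ∀ r ∈ R', n * r * n⁻¹ ∈ R' := by
      intro r hr
      have hm : g * r * g⁻¹ ∈ C := hR2C ⟨r, hr, rfl⟩
      have h1 : (⟨g * r * g⁻¹, hm⟩ : C) ∈ ((c • R : Sylow p C) : Subgroup C) := hT ⟨r, hr, rfl⟩
      rw [Sylow.coe_subgroup_smul, Coprime.mem_conj_smul_iff] at h1
      exact ⟨_, h1, by simp [hn, mul_assoc]⟩
    have hnN : n ∈ Subgroup.normalizer (Q : Set G) :=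
      Subgroup.mul_mem _ (Subgroup.inv_mem _ (Subgroup.centralizer_le_normalizer _ c.2)) hg
    have key : ∀ e ∈ (D' ⊓ C : Subgroup G), n * e * n⁻¹ ∈ (D' ⊓ C : Subgroup G) := by
      intro e he
      have h1 := hnR e (hSC ⟨hD'.1 he.1, he.2⟩)
      exact ⟨hD'.2 e he.1 n (hS' (Subgroup.mem_sup_left h1)), hCn n hnN e he.2⟩
    exact mem_normalizer_of_conj key

/-- A `p'`-element normalising a subgroup of `D` centralises it. -/
theorem centralize_of_le {S : Sylow p G} {D : Subgroup G} (hD : Cfsg.IsStronglyClosed D (S : Subgroup G))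
    (hyp : LocalHyp p D) {U : Subgroup G} (hU : U ≤ D) {g : G}
    (hg : g ∈ Subgroup.normalizer (U : Set G)) (hco : Nat.Coprime (orderOf g) p) :
    g ∈ Subgroup.centralizer (U : Set G) := by
  obtain ⟨S', D', hQS, hD', hyp', htr, -, c, hc, n, hn, hgcn, hnE⟩ :=
    frattini_step hD hyp (S.2.to_le (hU.trans hD.1)) hg
  set C := Subgroup.centralizer (U : Set G)
  set V := U ⊔ (D' ⊓ C)
  have hUD : U ≤ D' := fun u hu => htr u (hU hu) (hQS hu)
  have hV : V ≤ D' := sup_le hUD inf_le_left
  have hN := hyp' V hV (by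
    intro x hx
    refine Subgroup.mem_sup_right ⟨hx.1, ?_⟩
    exact Subgroup.centralizer_le (SetLike.coe_subset_coe.mpr (le_sup_left : U ≤ V)) hx.2)
  have hnV : n ∈ Subgroup.normalizer (V : Set G) := by
    refine mem_normalizer_of_conj fun x hx => ?_
    have : (MulAut.conj n).toMonoidHom x ∈ V.map (MulAut.conj n).toMonoidHom := ⟨x, hx, rfl⟩
    rw [Subgroup.map_sup] at this
    refine (sup_le_sup ?_ ?_ : _ ≤ V) this
    · rintro _ ⟨u, hu, rfl⟩; exact (Subgroup.mem_normalizer_iff.mp hn u).mp hu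
    · rintro _ ⟨u, hu, rfl⟩; exact (Subgroup.mem_normalizer_iff.mp hnE u).mp hu
  exact pow_trick hg hc hn hgcn hco fun k hk => Subgroup.centralizer_le
    (SetLike.coe_subset_coe.mpr (le_sup_left : U ≤ V))
    (Transfer.mem_centralizer_of_hasNormalPComplement (S'.2.to_le (hV.trans hD'.1)) hN (Subgroup.pow_mem _ hnV k) hk)

theorem main : ∀ (m : ℕ) (G : Type u) [Group G] [Finite G] (S : Sylow p G) (D : Subgroup G),
    Nat.card G ≤ m → Cfsg.IsStronglyClosed D (S : Subgroup G) → LocalHyp p D →
      Cfsg.HasNormalPComplement p G := by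
  intro m
  induction m with
  | zero => intro G _ _ S D h; exact absurd h (not_le_of_gt Nat.card_pos)
  | succ m ih =>
    intro G _ _ S D hm hD hyp
    by_cases hD0 : D = ⊥
    · subst hD0
      have := hyp ⊥ le_rfl inf_le_left
      refine Transfer.hasNormalPComplement_of_injective
        ((MonoidHom.id G).codRestrict (Subgroup.normalizer ((⊥ : Subgroup G) : Set G))
          (fun x => by rw [Subgroup.normalizer_eq_top_iff.mpr (inferInstance : (⊥ : Subgroup G).Normal)]; exact Subgroup.mem_top x)) ?_ this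
      exact fun a b e => congrArg Subtype.val e
    refine Transfer.hasNormalPComplement_of_centralizer S fun Q hQ g hg hco => ?_
    obtain ⟨S', D', hQS, hD', hyp', -, hne, c, hc, n, hn, hgcn, hnE⟩ := frattini_step hD hyp (S.2.to_le hQ) hg
    set E0 := D' ⊓ Subgroup.centralizer (Q : Set G) with hE0def
    set E := E0 ⊓ Subgroup.centralizer (E0 : Set G) with hE
    have hnE' : n ∈ Subgroup.normalizer (E : Set G) := by
      refine mem_normalizer_of_conj fun x hx => ⟨(Subgroup.mem_normalizer_iff.mp hnE x).mp hx.1, ?_⟩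
      intro e he
      have := hx.2 _ ((Subgroup.mem_normalizer_iff''.mp hnE e).mp he)
      calc e * (n * x * n⁻¹) = n * ((n⁻¹ * e * n) * x) * n⁻¹ := by group
        _ = n * (x * (n⁻¹ * e * n)) * n⁻¹ := by rw [this]
        _ = n * x * n⁻¹ * e := by group
    have hEab : ∀ e ∈ E, ∀ e' ∈ E, e * e' = e' * e := fun e he e' he' => he'.2 e he.1
    -- `E` meets the centre of `S'`
    have hE0 : E ≠ ⊥ := by
      have hnorm : (D'.subgroupOf (S' : Subgroup G)).Normal := ⟨fun x hx y =>
        hD'.2 x hx y ((S' : Subgroup G).mul_mem ((S' : Subgroup G).mul_mem y.2 x.2) ((S' : Subgroup G).inv_mem y.2))⟩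
      have hb : D'.subgroupOf (S' : Subgroup G) ≠ ⊥ := by
        rw [Ne, Subgroup.subgroupOf_eq_bot, disjoint_iff, inf_eq_left.mpr hD'.1]
        exact hne hD0
      obtain ⟨z, hzc, hz1⟩ := (Subgroup.bot_or_exists_ne_one _).resolve_left
        (Cfsg.Agent.PGroup.inf_center_ne_bot S'.2 _ hb)
      intro e
      have : (z : G) ∈ E := ⟨⟨hzc.1, fun q hq => congrArg Subtype.val (Subgroup.mem_center_iff.mp hzc.2 ⟨q, hQS hq⟩)⟩,
        fun q hq => congrArg Subtype.val (Subgroup.mem_center_iff.mp hzc.2 ⟨q, hD'.1 hq.1⟩)⟩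
      rw [e, Subgroup.mem_bot] at this
      exact hz1 (Subtype.ext this)
    have hED : E ≤ D' := inf_le_left.trans inf_le_left
    have hEp : IsPGroup p E := S'.2.to_le (hED.trans hD'.1)
    have hQE : Q ≤ Subgroup.centralizer (E : Set G) := fun q hq e he =>
      (Subgroup.mem_centralizer_iff.mp he.1.2 q hq).symm
    refine pow_trick hg hc hn hgcn hco fun k hk => ?_
    set h := n ^ k
    have hhE := centralize_of_le hD' hyp' hED (Subgroup.pow_mem _ hnE' k) hk
    have hhQ : h ∈ Subgroup.normalizer (Q : Set G) := Subgroup.pow_mem _ hn k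
    set K := Subgroup.centralizer (E : Set G) with hK
    by_cases hKtop : K = ⊤
    · -- `E` is central
      have : E.Normal := ⟨fun e he y => by
        have := Subgroup.mem_centralizer_iff.mp (hKtop ▸ Subgroup.mem_top y : y ∈ K) e he
        rw [← this, mul_inv_cancel_right]; exact he⟩
      let π := QuotientGroup.mk' E
      let SB : Sylow p (G ⧸ E) := S'.mapSurjective (QuotientGroup.mk'_surjective E)
      have hSB : (SB : Subgroup (G ⧸ E)) = (S' : Subgroup G).map π := Sylow.coe_mapSurjective _ _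
      have hES : E ≤ (S' : Subgroup G) := hED.trans hD'.1
      have hmem : ∀ x : G, π x ∈ (S' : Subgroup G).map π → x ∈ (S' : Subgroup G) := by
        rintro x ⟨y, hy, hyx⟩
        rw [QuotientGroup.mk'_apply, QuotientGroup.mk'_apply, QuotientGroup.eq] at hyx
        simpa using (S' : Subgroup G).mul_mem hy (hES hyx)
      have hlt : Nat.card (G ⧸ E) ≤ m := by
        have h1 := Subgroup.card_mul_index E
        have h2 : 1 < Nat.card E := Subgroup.one_lt_card_iff_ne_bot _ |>.mpr hE0
        have h3 : Nat.card (G ⧸ E) = E.index := rfl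
        have h4 : 0 < E.index := Nat.pos_of_ne_zero E.index_ne_zero_of_finite
        nlinarith
      have hQuot : Cfsg.HasNormalPComplement p (G ⧸ E) := by
        refine ih (G ⧸ E) SB (D'.map π) hlt ⟨by rw [hSB]; exact Subgroup.map_mono hD'.1, ?_⟩ ?_
        · rintro _ ⟨x, hx, rfl⟩ y hy
          obtain ⟨y, rfl⟩ := QuotientGroup.mk'_surjective E y
          rw [hSB, ← map_inv, ← map_mul, ← map_mul] at hy
          exact ⟨_, hD'.2 x hx y (hmem _ hy), by rw [map_mul, map_mul, map_inv]⟩
        · intro V hV hCV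
          have hle : V.comap π ≤ D' := by
            intro x hx
            obtain ⟨y, hy, hyx⟩ := hV hx
            rw [QuotientGroup.mk'_apply, QuotientGroup.mk'_apply, QuotientGroup.eq] at hyx
            simpa using D'.mul_mem hy (hED hyx : y⁻¹ * x ∈ D')
          have h1 := hyp' (V.comap π) hle (fun x hx => hCV ⟨Subgroup.mem_map_of_mem π hx.1, fun v hv => by
            obtain ⟨v, rfl⟩ := QuotientGroup.mk'_surjective E v
            rw [← map_mul, ← map_mul, Subgroup.mem_centralizer_iff.mp hx.2 v hv]⟩)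
          refine Transfer.hasNormalPComplement_of_surjective
            ((π.comp (Subgroup.normalizer ((V.comap π : Subgroup G) : Set G)).subtype).codRestrict
              (Subgroup.normalizer (V : Set (G ⧸ E))) ?_) ?_ h1
          · rintro ⟨x, hx⟩
            rw [← Subgroup.comap_normalizer_eq_of_surjective V (QuotientGroup.mk'_surjective E)] at hx
            exact hx
          · rintro ⟨z, hz⟩
            obtain ⟨x, rfl⟩ := QuotientGroup.mk'_surjective E z
            exact ⟨⟨x, by rw [← Subgroup.comap_normalizer_eq_of_surjective V (QuotientGroup.mk'_surjective E)]; exact hz⟩, rfl⟩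
      -- `h` is trivial on `Q` modulo `E`
      have h1 := Transfer.mem_centralizer_of_hasNormalPComplement (Q := Q.map π) ((S.2.to_le hQ).map π)
        (Transfer.HasNormalPComplement_subgroup hQuot _) (g := π h)
        (by
          refine mem_normalizer_of_conj ?_
          rintro _ ⟨q, hq, rfl⟩
          exact ⟨_, (Subgroup.mem_normalizer_iff.mp hhQ q).mp hq, by simp⟩)
        (hk.coprime_dvd_left (orderOf_map_dvd π h))
      rw [Subgroup.mem_centralizer_iff]
      intro q hq
      have h2 : π (q⁻¹ * (h * q * h⁻¹)) = 1 := by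
        simp only [map_mul, map_inv]
        rw [← Subgroup.mem_centralizer_iff.mp h1 (π q) ⟨q, hq, rfl⟩]; group
      set e := q⁻¹ * (h * q * h⁻¹)
      have he : e ∈ E := (QuotientGroup.eq_one_iff e).mp h2
      have hcomm : Commute h e := (Subgroup.mem_centralizer_iff.mp hhE e he).symm
      have hiter : ∀ i : ℕ, h ^ i * q * (h ^ i)⁻¹ = q * e ^ i := by
        intro i
        induction i with
        | zero => simp
        | succ i ihi =>
          calc h ^ (i + 1) * q * (h ^ (i + 1))⁻¹ = h * (h ^ i * q * (h ^ i)⁻¹) * h⁻¹ := by group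
            _ = h * (q * e ^ i) * h⁻¹ := by rw [ihi]
            _ = (h * q * h⁻¹) * (h * e ^ i * h⁻¹) := by group
            _ = q * e * e ^ i := by rw [(hcomm.pow_right i).eq, mul_inv_cancel_right]; simp [e]
            _ = q * e ^ (i + 1) := by rw [mul_assoc, ← pow_succ']
      have h3 : e ^ orderOf h = 1 := by
        have := hiter (orderOf h)
        rw [pow_orderOf_eq_one] at this
        simpa using this
      have h4 : e = 1 := by
        obtain ⟨j, hj⟩ := (IsPGroup.iff_orderOf).mp hEp ⟨e, he⟩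
        rw [Subgroup.orderOf_mk] at hj
        refine orderOf_eq_one_iff.mp ?_
        exact Nat.eq_one_of_dvd_coprimes (Nat.Coprime.pow_left j hk.symm) hj.dvd (orderOf_dvd_of_pow_eq_one h3)
      have := hiter 1
      rw [h4, one_pow, mul_one, pow_one] at this
      exact (mul_inv_eq_iff_eq_mul.mp this).symm
    · -- `C(E)` is smaller
      obtain ⟨T⟩ := (inferInstance : Nonempty (Sylow p K))
      obtain ⟨S2, hS2⟩ := (T.2.map K.subtype).exists_le_sylow
      obtain ⟨D2, hD2, hyp2, htr2, -⟩ := exists_conj_data hD' hyp' S2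
      have hT : ∀ x : K, (x : G) ∈ (S2 : Subgroup G) → x ∈ (T : Subgroup K) := fun x hx =>
        (T.3 (S2.2.comap_of_injective _ K.subtype_injective) (fun t ht => hS2 ⟨t, ht, rfl⟩)).le hx
      have hES : ∀ e ∈ E, e ∈ (S2 : Subgroup G) := by
        intro e he
        have heK : e ∈ K := fun e' he' => hEab e' he' e he
        obtain ⟨j, hj⟩ := (IsPGroup.iff_orderOf).mp hEp ⟨e, he⟩
        have hz : IsPGroup p ↥((T : Subgroup K) ⊔ Subgroup.zpowers (⟨e, heK⟩ : K)) := by
          refine T.2.to_sup_of_normal_left' (IsPGroup.of_card (n := j) ?_) ?_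
          · rw [Nat.card_zpowers, ← Subgroup.orderOf_coe]; rw [Subgroup.orderOf_mk] at hj; exact hj
          · rw [Subgroup.zpowers_le]
            refine Subgroup.centralizer_le_normalizer _ ?_
            rw [Subgroup.mem_centralizer_iff]
            exact fun t _ => Subtype.ext ((Subgroup.mem_centralizer_iff.mp t.2 e he).symm)
        exact hS2 ⟨_, (T.3 hz le_sup_left).le (Subgroup.mem_sup_right (Subgroup.mem_zpowers _)), rfl⟩
      have hlt : Nat.card K ≤ m := by
        have h1 : Nat.card K < Nat.card G := lt_of_le_of_ne (Subgroup.card_le_card_group K) fun e => hKtop (Subgroup.card_eq_iff_eq_top K |>.mp e)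
        omega
      have hKn : Cfsg.HasNormalPComplement p K := by
        refine ih K T (D2.subgroupOf K) hlt ⟨fun x hx => hT x (hD2.1 hx), fun x hx y hy =>
          hD2.2 x hx y (hS2 ⟨_, hy, rfl⟩)⟩ ?_
        intro V hV hCV
        have hEV : ∀ e (he : e ∈ E) (heK : e ∈ K), (⟨e, heK⟩ : K) ∈ V := fun e he heK =>
          hCV ⟨htr2 e (hED he) (hES e he), fun v _ => Subtype.ext ((Subgroup.mem_centralizer_iff.mp v.2 e he).symm)⟩
        have h1 := hyp2 (V.map K.subtype) (by rintro _ ⟨v, hv, rfl⟩; exact hV hv) (by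
          intro x hx
          have hxK : x ∈ K := fun e he => by
            have heK : e ∈ K := fun e' he' => hEab e' he' e he
            exact Subgroup.mem_centralizer_iff.mp hx.2 e ⟨⟨e, heK⟩, hEV e he heK, rfl⟩
          exact ⟨⟨x, hxK⟩, hCV ⟨hx.1, fun v hv => Subtype.ext (Subgroup.mem_centralizer_iff.mp hx.2 v ⟨v, hv, rfl⟩)⟩, rfl⟩)
        refine Transfer.hasNormalPComplement_of_injective
          ((K.subtype.comp (Subgroup.normalizer (V : Set K)).subtype).codRestrict
            (Subgroup.normalizer ((V.map K.subtype : Subgroup G) : Set G)) ?_) ?_ h1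
        · rintro ⟨x, hx⟩
          exact Subgroup.le_normalizer_map K.subtype ⟨x, hx, rfl⟩
        · intro a b e
          have h0 := congrArg Subtype.val e
          exact Subtype.ext (Subtype.ext h0)
      have h1 := Transfer.mem_centralizer_of_hasNormalPComplement (Q := Q.subgroupOf K)
        ((S.2.to_le hQ).comap_of_injective _ K.subtype_injective)
        (Transfer.HasNormalPComplement_subgroup hKn _) (g := (⟨h, hhE⟩ : K))
        (by
          refine mem_normalizer_of_conj fun q hq => ?_
          exact (Subgroup.mem_normalizer_iff.mp hhQ _).mp hq)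
        (by rwa [Subgroup.orderOf_mk])
      rw [Subgroup.mem_centralizer_iff]
      intro q hq
      exact congrArg Subtype.val (Subgroup.mem_centralizer_iff.mp h1 ⟨q, hQE hq⟩ hq)

end Step

/-- A Frobenius normal p-complement criterion relative to a strongly closed subgroup. Let G be a finite group, S a Sylow p-subgroup and D a subgroup of S strongly closed in S with respect to G. Then G has a normal p-complement if and only if N_G(U) has a normal p-complement for every subgroup U of D with C_D(U) ≤ U. -/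
theorem result {G : Type*} [Group G] [Finite G] {p : ℕ} [Fact p.Prime] (S : Sylow p G) (D : Subgroup G) (hD : Cfsg.IsStronglyClosed D (S : Subgroup G)) : Cfsg.HasNormalPComplement p G ↔ ∀ U : Subgroup G, U ≤ D → D ⊓ Subgroup.centralizer (U : Set G) ≤ U → Cfsg.HasNormalPComplement p ↥(Subgroup.normalizer (U : Set G)) := by
  constructor
  · exact fun h U _ _ => Transfer.HasNormalPComplement_subgroup h _
  · exact fun h => main (Nat.card G) G S D le_rfl hD h

end Cfsg.Agent.S3839
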