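import Mathlib
import Cfsg.Statements.S3857
import Cfsg.Agent.Lib.Frobenius.Basic
import Cfsg.Agent.Lib.Frobenius.Module
import Cfsg.Agent.Lib.Components.Fitting
import Cfsg.Agent.Lib.PGroup.UniqueOrderP
import Cfsg.Agent.Lib.Solvable.Schmidt

set_option autoImplicit false
open Cfsg

namespace Cfsg.Agent.S3857

/-- No element has order `a * b` with primes `a ∈ A`, `b ∉ A`. -/
def Sep (A : Set ℕ) (G : Type*) [Group G] : Prop :=
  ∀ g : G, ∀ a b : ℕ, a.Prime → b.Prime → a ∈ A → b ∉ A → orderOf g ≠ a * b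

/-- All prime divisors of the order lie in `A`. -/
def PiGrp (A : Set ℕ) {G : Type*} [Group G] (N : Subgroup G) : Prop :=
  ∀ r : ℕ, r.Prime → r ∣ Nat.card N → r ∈ A

theorem sep_compl {A : Set ℕ} {G : Type*} [Group G] (h : Sep A G) : Sep Aᶜ G := fun g a b ha hb haA hbA e =>
  h g b a hb ha (not_not.mp hbA) haA (e.trans (mul_comm a b))

theorem sep_quotient {A : Set ℕ} {G : Type*} [Group G] [Finite G] (h : Sep A G) (N : Subgroup G) [N.Normal] :
    Sep A (G ⧸ N) := by
  intro g a b ha hb haA hbA e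
  obtain ⟨g, rfl⟩ := QuotientGroup.mk'_surjective N g
  have hd : a * b ∣ orderOf g := e ▸ orderOf_map_dvd _ g
  refine h (g ^ (orderOf g / (a * b))) a b ha hb haA hbA ?_
  exact orderOf_pow_orderOf_div (orderOf_pos g).ne' hd

/-- Nontrivial commuting elements with orders in `A` and off `A` do not exist. -/
theorem not_commute {A : Set ℕ} {G : Type*} [Group G] [Finite G] (h : Sep A G) {X Y : Subgroup G}
    (hX : PiGrp A X) (hY : PiGrp Aᶜ Y) {x y : G} (hx : x ∈ X) (hy : y ∈ Y) (hx1 : x ≠ 1)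
    (hy1 : y ≠ 1) : ¬ Commute x y := by
  intro hc
  obtain ⟨a, ha, had⟩ := Nat.exists_prime_and_dvd (n := orderOf x) (fun e => hx1 (orderOf_eq_one_iff.mp e))
  obtain ⟨b, hb, hbd⟩ := Nat.exists_prime_and_dvd (n := orderOf y) (fun e => hy1 (orderOf_eq_one_iff.mp e))
  have haA : a ∈ A := hX a ha (had.trans (Subgroup.orderOf_dvd_natCard X hx))
  have hbA : b ∉ A := hY b hb (hbd.trans (Subgroup.orderOf_dvd_natCard Y hy))
  refine h (x ^ (orderOf x / a) * y ^ (orderOf y / b)) a b ha hb haA hbA ?_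
  rw [(hc.pow_pow _ _).orderOf_mul_eq_mul_orderOf_of_coprime, orderOf_pow_orderOf_div (orderOf_pos x).ne' had,
    orderOf_pow_orderOf_div (orderOf_pos y).ne' hbd]
  rw [orderOf_pow_orderOf_div (orderOf_pos x).ne' had, orderOf_pow_orderOf_div (orderOf_pos y).ne' hbd]
  exact (Nat.coprime_primes ha hb).mpr fun e => hbA (e ▸ haA)

theorem coprime_of_pi {A : Set ℕ} {m n : ℕ} (hm : ∀ r : ℕ, r.Prime → r ∣ m → r ∈ A)
    (hn : ∀ r : ℕ, r.Prime → r ∣ n → r ∉ A) : m.Coprime n :=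
  Nat.coprime_of_dvd fun r hr h1 h2 => hn r hr h2 (hm r hr h1)

theorem piGrp_sup {A : Set ℕ} {G : Type*} [Group G] [Finite G] {N R : Subgroup G} [N.Normal]
    (hN : PiGrp A N) (hR : PiGrp A R) : PiGrp A (N ⊔ R) := by
  intro r hr hd
  have h : Nat.card ↥(N ⊔ R) = Nat.card N * N.relIndex (N ⊔ R) :=
    by rw [← Subgroup.relIndex_bot_left, ← Subgroup.relIndex_bot_left (H := N), Subgroup.relIndex_mul_relIndex ⊥ N (N ⊔ R) bot_le le_sup_left]
  have h2 : N.relIndex (N ⊔ R) ∣ Nat.card R := by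
    rw [Subgroup.relIndex_sup_left]; exact Subgroup.relIndex_dvd_card N R
  rcases (Nat.Prime.dvd_mul hr).mp (h ▸ hd) with h' | h'
  · exact hN r hr h'
  · exact hR r hr (h'.trans h2)

theorem piGrp_bot {A : Set ℕ} {G : Type*} [Group G] : PiGrp A (⊥ : Subgroup G) := fun r hr hd =>
  absurd (Nat.dvd_one.mp (by simpa using hd)) hr.ne_one

theorem exists_max {A : Set ℕ} (G : Type*) [Group G] [Finite G] :
    ∃ H : Subgroup G, H.Normal ∧ PiGrp A H ∧ ∀ N : Subgroup G, N.Normal → PiGrp A N → N ≤ H := by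
  classical
  let S : Set (Subgroup G) := {N | N.Normal ∧ PiGrp A N}
  obtain ⟨H, hH⟩ := S.toFinite.exists_maximal ⟨⊥, inferInstance, piGrp_bot⟩
  refine ⟨H, hH.prop.1, hH.prop.2, fun N hN hNA => ?_⟩
  have := hH.prop.1
  exact le_sup_right.trans (hH.le_of_ge (y := H ⊔ N) ⟨Subgroup.sup_normal H N, piGrp_sup hH.prop.2 hNA⟩ le_sup_left)

theorem frobenius_of_fpf {G : Type*} [Group G] [Finite G] {K B : Subgroup G} [K.Normal]
    (hc : Subgroup.IsComplement' K B) (hK : K ≠ ⊥) (hB : B ≠ ⊥)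
    (hf : ∀ h ∈ B, h ≠ 1 → ∀ k ∈ K, k ≠ 1 → ¬ Commute k h) :
    Cfsg.IsFrobeniusComplement B ∧ Cfsg.frobeniusKernel B = (K : Set G) := by
  have hF : Cfsg.IsFrobeniusComplement B := by
    refine (Frobenius.isFrobeniusComplement_iff hc hK hB).mpr fun h hh h1 => ?_
    refine (Subgroup.eq_bot_iff_forall _).mpr fun k hk => ?_
    by_contra hk1
    exact hf h hh h1 k hk.1 hk1 (Subgroup.mem_centralizer_singleton_iff.mp hk.2)
  refine ⟨hF, (Set.eq_of_subset_of_ncard_le ?_ ?_ (Set.toFinite _)).symm⟩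
  · intro x hx
    by_cases hx1 : x = 1
    · exact Or.inl hx1
    refine Or.inr fun g hg => hx1 ?_
    rw [Coprime.mem_conj_smul_iff] at hg
    have : g⁻¹ * x * g = 1 := Subgroup.disjoint_def.mp hc.disjoint
      (by simpa using Subgroup.Normal.conj_mem (inferInstance : K.Normal) x hx g⁻¹) hg
    calc x = g * (g⁻¹ * x * g) * g⁻¹ := by group
      _ = 1 := by rw [this]; group
  · rw [← Nat.card_coe_set_eq, ← Nat.card_coe_set_eq, Frobenius.card_kernel hF]
    exact le_of_eq hc.index_eq_card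

theorem main {G : Type*} [Group G] [Finite G] [Group.IsSolvable G] {A : Set ℕ} (hsep : Sep A G)
    (hb : ∃ b ∉ A, b.Prime ∧ b ∣ Nat.card G) {N₀ : Subgroup G} (hN₀ : N₀.Normal) (hN₀A : PiGrp A N₀)
    (hN₀1 : N₀ ≠ ⊥) :
    (∃ C : Subgroup G, Cfsg.IsFrobeniusComplement C) ∨
    (∃ (H K : Subgroup G) (_ : H.Normal), K.Normal ∧ H < K ∧
      (∃ C : Subgroup ↥K, Cfsg.IsFrobeniusComplement C ∧ Cfsg.frobeniusKernel C = (H.subgroupOf K : Set ↥K)) ∧
      (∃ C : Subgroup (G ⧸ H), Cfsg.IsFrobeniusComplement C ∧ Cfsg.frobeniusKernel C = (K.map (QuotientGroup.mk' H) : Set (G ⧸ H)))) := by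
  obtain ⟨H, hHn, hHA, hHmax⟩ := exists_max (A := A) G
  have hH1 : H ≠ ⊥ := fun e => hN₀1 (le_bot_iff.mp (e ▸ hHmax N₀ hN₀ hN₀A))
  set π := QuotientGroup.mk' H with hπ
  have hπs : Function.Surjective π := QuotientGroup.mk'_surjective H
  have hQsep : Sep A (G ⧸ H) := sep_quotient hsep H
  have hcardc : ∀ N : Subgroup (G ⧸ H), Nat.card (N.comap π) = Nat.card H * Nat.card N := by
    intro N
    have h1 := Subgroup.card_mul_index (N.comap π)
    have h2 := Subgroup.card_mul_index N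
    have h3 := Subgroup.card_mul_index H
    rw [Subgroup.index_comap_of_surjective N hπs] at h1
    have h4 : Nat.card (G ⧸ H) = H.index := rfl
    rw [h4] at h2
    have h5 : 0 < N.index := Nat.pos_of_ne_zero N.index_ne_zero_of_finite
    refine Nat.eq_of_mul_eq_mul_right h5 ?_
    rw [h1, mul_assoc, h2, h3]
  have hnoA : ∀ N : Subgroup (G ⧸ H), N.Normal → PiGrp A N → N = ⊥ := by
    intro N hN hNA
    have hle : N.comap π ≤ H := hHmax _ inferInstance (fun r hr hd => by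
      rw [hcardc] at hd
      exact (hr.dvd_mul.mp hd).elim (hHA r hr) (hNA r hr))
    have : N.comap π = H := le_antisymm hle (fun x hx => by
      rw [Subgroup.mem_comap, hπ, QuotientGroup.mk'_apply, (QuotientGroup.eq_one_iff x).mpr hx]; exact N.one_mem)
    have h := congrArg (Subgroup.map π) this
    rw [Subgroup.map_comap_eq_self_of_surjective hπs, hπ, QuotientGroup.map_mk'_self] at h
    exact h
  have : Group.IsSolvable (G ⧸ H) := inferInstance
  obtain ⟨b, hbA, hbp, hbd⟩ := hb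
  have hbQ : b ∣ Nat.card (G ⧸ H) := by
    rw [← Subgroup.index_eq_card]
    rw [← Subgroup.card_mul_index H] at hbd
    exact (hbp.dvd_mul.mp hbd).resolve_left fun h => hbA (hHA b hbp h)
  have : Nontrivial (G ⧸ H) := Finite.one_lt_card_iff_nontrivial.mp
    (lt_of_lt_of_le hbp.one_lt (Nat.le_of_dvd Nat.card_pos hbQ))
  obtain ⟨M, hMn, hMA, hMmax⟩ := exists_max (A := Aᶜ) (G ⧸ H)
  set F := Cfsg.fittingSubgroup (G ⧸ H) with hFdef
  have hFn : F.Normal := Components.fittingSubgroup_normal _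
  have hFnil : Group.IsNilpotent F := Components.fittingSubgroup_isNilpotent _
  have hsyl : ∀ (p : ℕ) [Fact p.Prime] (P : Sylow p F), ((P : Subgroup F).map F.subtype).Normal := by
    intro p _ P
    have := Sylow.characteristic_of_normal P (Solvable.sylow_normal_of_nilpotent P)
    infer_instance
  have hFA : PiGrp Aᶜ F := by
    intro r hr hd hrA
    have := Fact.mk hr
    obtain ⟨P⟩ := (inferInstance : Nonempty (Sylow r F))
    have h1 := hnoA _ (hsyl r P) (fun s hs hsd => by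
      obtain ⟨k, hk⟩ := IsPGroup.iff_card.mp (P.2.map F.subtype)
      rw [hk] at hsd
      exact (Nat.prime_dvd_prime_iff_eq hs hr).mp (hs.dvd_of_dvd_pow hsd) ▸ hrA)
    rw [Subgroup.map_eq_bot_iff_of_injective _ F.subtype_injective] at h1
    exact P.ne_bot_of_dvd_card hd h1
  have hFM : F ≤ M := hMmax F hFn hFA
  have hM1 : M ≠ ⊥ := fun e => Components.fittingSubgroup_ne_bot (le_bot_iff.mp (e ▸ hFM))
  -- the Frobenius group `K` with kernel `H`
  set K := M.comap π with hK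
  have hHK : H ≤ K := fun x hx => by
    rw [hK, Subgroup.mem_comap, hπ, QuotientGroup.mk'_apply, (QuotientGroup.eq_one_iff x).mpr hx]; exact M.one_mem
  have hcop : Nat.Coprime (Nat.card (H.subgroupOf K)) (H.subgroupOf K).index := by
    have h1 : Nat.card (H.subgroupOf K) = Nat.card H := Nat.card_congr (Subgroup.subgroupOfEquivOfLe hHK).toEquiv
    have h2 := Subgroup.card_mul_index (H.subgroupOf K)
    rw [h1, hcardc] at h2
    rw [h1, Nat.eq_of_mul_eq_mul_left Nat.card_pos h2]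
    exact coprime_of_pi hHA hMA
  obtain ⟨B, hB⟩ := Subgroup.exists_right_complement'_of_coprime hcop
  have hBcard : Nat.card B = Nat.card M := by
    have h1 : Nat.card (H.subgroupOf K) = Nat.card H := Nat.card_congr (Subgroup.subgroupOfEquivOfLe hHK).toEquiv
    have h2 := hB.card_mul
    rw [h1, hcardc] at h2
    exact Nat.eq_of_mul_eq_mul_left Nat.card_pos h2
  have hB1 : B ≠ ⊥ := fun e => hM1 (Subgroup.card_eq_one.mp (by rw [← hBcard, e]; simp))
  have hHK1 : H.subgroupOf K ≠ ⊥ := by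
    rw [Ne, Subgroup.subgroupOf_eq_bot, disjoint_iff, inf_eq_left.mpr hHK]; exact hH1
  set B₀ := B.map K.subtype with hB₀
  have hB₀card : Nat.card B₀ = Nat.card M := by
    rw [hB₀, Subgroup.card_map_of_injective K.subtype_injective, hBcard]
  have hB₀A : PiGrp Aᶜ B₀ := fun r hr hd => hMA r hr (hB₀card ▸ hd)
  have hfH : ∀ h ∈ B₀, h ≠ 1 → ∀ k ∈ H, k ≠ 1 → ¬ Commute k h := fun h hh h1 k hk k1 =>
    not_commute hsep hHA hB₀A hk hh k1 h1
  have hFrobK : Cfsg.IsFrobeniusComplement B ∧ Cfsg.frobeniusKernel B = (H.subgroupOf K : Set ↥K) :=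
    frobenius_of_fpf hB hHK1 hB1 fun h hh h1 k hk k1 hc =>
      hfH h ⟨h, hh, rfl⟩ (fun e => h1 (Subtype.ext e)) k hk (fun e => k1 (Subtype.ext e))
        (congrArg Subtype.val hc.eq)
  by_cases hMtop : M = ⊤
  · left
    have hKtop : K = ⊤ := by rw [hK, hMtop, Subgroup.comap_top]
    have hcG : Subgroup.IsComplement' H B₀ := by
      refine Subgroup.isComplement'_of_coprime (by rw [hB₀card, ← hcardc, ← hK, hKtop, Subgroup.card_top]) ?_
      rw [hB₀card]; exact coprime_of_pi hHA hMA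
    exact ⟨B₀, (frobenius_of_fpf hcG hH1
      (fun e => hM1 (Subgroup.card_eq_one.mp (by rw [← hB₀card, e]; simp))) hfH).1⟩
  right
  -- an element of prime order in `A`
  obtain ⟨r, hr, hrA, hrd⟩ : ∃ r : ℕ, r.Prime ∧ r ∈ A ∧ r ∣ Nat.card (G ⧸ H) := by
    by_contra hne
    simp only [not_exists, not_and] at hne
    exact hMtop (top_le_iff.mp (hMmax ⊤ inferInstance fun r hr hd hrA => hne r hr hrA (Subgroup.card_top (G := G ⧸ H) ▸ hd)))
  have := Fact.mk hr
  obtain ⟨x, hx⟩ := exists_prime_orderOf_dvd_card' r hrd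
  have hxA : PiGrp A (Subgroup.zpowers x) := fun s hs hd => by
    rw [Nat.card_zpowers, hx] at hd
    exact (Nat.prime_dvd_prime_iff_eq hs hr).mp hd ▸ hrA
  -- fixed-point-free action of `F` on an abelian group
  obtain ⟨W, -, hWc, hW1, hBW, hWf⟩ := Frobenius.exists_abelian_invariant_le (A := B₀) (K := H)
    (Subgroup.normalizer_eq_top_iff.mpr hHn ▸ le_top) hH1 inferInstance
    (fun h hh h1 => (Subgroup.eq_bot_iff_forall _).mpr fun k hk => by
      by_contra k1
      exact hfH h hh h1 k hk.1 k1 (Subgroup.mem_centralizer_singleton_iff.mp hk.2))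
  have hφ := Frobenius.Fpf.isFpf_conjHom B₀ W hBW hWf
  have hmem : ∀ y : B₀, π y ∈ M := by
    rintro ⟨_, y, hy, rfl⟩; exact y.2
  let e : B₀ →* M := (π.comp B₀.subtype).codRestrict M hmem
  have he : Function.Bijective e := by
    refine (Nat.bijective_iff_injective_and_card _).mpr ⟨(injective_iff_map_eq_one e).mpr fun y hy => ?_, hB₀card⟩
    have h1 : (y : G) ∈ H := (QuotientGroup.eq_one_iff (y : G)).mp (congrArg Subtype.val hy)
    obtain ⟨z, hz, hzy⟩ := y.2
    have h2 : z ∈ H.subgroupOf K := by rw [Subgroup.mem_subgroupOf]; rw [← hzy] at h1; exact h1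
    have h3 : z = 1 := Subgroup.disjoint_def.mp hB.disjoint h2 hz
    exact Subtype.ext (by rw [← hzy, h3]; rfl)
  let j : F →* B₀ := (MulEquiv.ofBijective e he).symm.toMonoidHom.comp (Subgroup.inclusion hFM)
  have hj : Function.Injective j := (MulEquiv.ofBijective e he).symm.injective.comp (Subgroup.inclusion_injective hFM)
  have hWnt : Nontrivial W := (Subgroup.nontrivial_iff_ne_bot W).mpr hW1
  open scoped IsMulCommutative in
  have hψ : ∀ {T : Type _} [Group T] (f : T →* B₀), Function.Injective f →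
      Frobenius.Fpf.IsFpf ((Frobenius.Fpf.conjHom B₀ W hBW).comp f) := fun f hf a ha v hv =>
    hφ (f a) (fun e1 => ha (hf (e1.trans (map_one f).symm))) v hv
  have hFab : IsMulCommutative F := by
    refine Solvable.isMulCommutative_of_nilpotent_of_sylow fun p _ P => ?_
    have huniq : ∀ U V : Subgroup (P : Subgroup F), Nat.card U = p → Nat.card V = p → U = V := fun U V hU hV =>
      Frobenius.Fpf.eq_of_card_eq_prime (hψ (j.comp (P : Subgroup F).subtype) (hj.comp (P : Subgroup F).subtype_injective)) P.2 hU hV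
    rcases PGroup.cyclic_or_quaternion_of_unique P.2 huniq with hc | ⟨hp2, n, -, hn, -⟩
    · exact inferInstance
    exfalso
    subst hp2
    obtain ⟨z, hz⟩ := exists_prime_orderOf_dvd_card' 2 (hn ▸ dvd_pow_self 2 (by omega) : 2 ∣ Nat.card (P : Subgroup F))
    set z' : G ⧸ H := ((z : F) : G ⧸ H) with hz'
    have hz'o : orderOf z' = 2 := by rw [hz', Subgroup.orderOf_coe, Subgroup.orderOf_coe, hz]
    have hm : x * z' * x⁻¹ ∈ (P : Subgroup F).map F.subtype := (hsyl 2 P).conj_mem _ ⟨z, z.2, rfl⟩ x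
    obtain ⟨w, hw, hwx⟩ := hm
    have hwo : orderOf (⟨w, hw⟩ : (P : Subgroup F)) = 2 := by
      rw [← Subgroup.orderOf_coe, ← Subgroup.orderOf_coe, show ((w : F) : G ⧸ H) = x * z' * x⁻¹ from hwx]
      exact (orderOf_injective (MulAut.conj x).toMonoidHom (MulAut.conj x).injective z').trans hz'o
    have hzw := huniq (Subgroup.zpowers z) (Subgroup.zpowers ⟨w, hw⟩) (by rw [Nat.card_zpowers, hz]) (by rw [Nat.card_zpowers, hwo])
    have hwz : (⟨w, hw⟩ : (P : Subgroup F)) = z := by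
      have h1 : (⟨w, hw⟩ : (P : Subgroup F)) ∈ Subgroup.zpowers z := hzw ▸ Subgroup.mem_zpowers _
      obtain ⟨i, hi⟩ := Subgroup.mem_zpowers_iff.mp h1
      have hz2 : z ^ (2 : ℤ) = 1 := by rw [zpow_two, ← pow_two]; exact orderOf_dvd_iff_pow_eq_one.mp hz.dvd
      rcases Int.even_or_odd i with ⟨k, rfl⟩ | ⟨k, rfl⟩
      · rw [← two_mul, zpow_mul, hz2, one_zpow] at hi
        rw [← hi, orderOf_one] at hwo
        exact absurd hwo (by norm_num)
      · rw [zpow_add, zpow_one, zpow_mul, hz2, one_zpow, one_mul] at hi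
        exact hi.symm
    have hxz : x * z' * x⁻¹ = z' := by rw [← hwx, hz']; exact congrArg (fun t : (P : Subgroup F) => ((t : F) : G ⧸ H)) hwz
    refine not_commute hQsep hxA hFA (Subgroup.mem_zpowers x) (z : F).2
      (fun e1 => hr.ne_one (by rw [← hx, e1, orderOf_one])) ?_ (mul_inv_eq_iff_eq_mul.mp hxz)
    intro e1
    have : orderOf z' = 1 := by rw [hz', e1, orderOf_one]
    omega
  open scoped IsMulCommutative in
  have hFcyc : IsCyclic F := Frobenius.Fpf.isCyclic_of_comm (hψ j hj) fun a b => mul_comm a b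
  obtain ⟨g, hg⟩ := hFcyc.exists_generator
  have hact : ∀ y : G ⧸ H, ∃ i : ℤ, y * (g : G ⧸ H) * y⁻¹ = (g : G ⧸ H) ^ i := fun y => by
    obtain ⟨i, hi⟩ := Subgroup.mem_zpowers_iff.mp (hg ⟨_, hFn.conj_mem _ g.2 y⟩)
    exact ⟨i, by have h1 := congrArg Subtype.val hi; push_cast at h1; exact h1.symm⟩
  have hcomm : ∀ y z : G ⧸ H, y * z * y⁻¹ * z⁻¹ ∈ F := by
    intro y z
    refine Components.centralizer_fittingSubgroup_le (Subgroup.mem_centralizer_iff.mpr fun f hf => ?_)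
    obtain ⟨i, hi⟩ := hact y
    obtain ⟨k, hk⟩ := hact z
    have h1 : (y * z) * (g : G ⧸ H) * (y * z)⁻¹ = (z * y) * (g : G ⧸ H) * (z * y)⁻¹ := by
      have e1 : (y * z) * (g : G ⧸ H) * (y * z)⁻¹ = (g : G ⧸ H) ^ (i * k) := by
        rw [show (y * z) * (g : G ⧸ H) * (y * z)⁻¹ = y * (z * (g : G ⧸ H) * z⁻¹) * y⁻¹ by group, hk, ← conj_zpow, hi, ← zpow_mul]
      have e2 : (z * y) * (g : G ⧸ H) * (z * y)⁻¹ = (g : G ⧸ H) ^ (k * i) := by
        rw [show (z * y) * (g : G ⧸ H) * (z * y)⁻¹ = z * (y * (g : G ⧸ H) * y⁻¹) * z⁻¹ by group, hi, ← conj_zpow, hk, ← zpow_mul]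
      rw [e1, e2, mul_comm]
    have h2 : Commute (g : G ⧸ H) ((z * y)⁻¹ * (y * z)) := by
      show (g : G ⧸ H) * _ = _ * (g : G ⧸ H)
      calc (g : G ⧸ H) * ((z * y)⁻¹ * (y * z)) = (z * y)⁻¹ * ((z * y) * (g : G ⧸ H) * (z * y)⁻¹) * (y * z) := by group
        _ = (z * y)⁻¹ * ((y * z) * (g : G ⧸ H) * (y * z)⁻¹) * (y * z) := by rw [h1]
        _ = (z * y)⁻¹ * (y * z) * (g : G ⧸ H) := by group
    have h4 : Commute (g : G ⧸ H) (y * z * y⁻¹ * z⁻¹) := by
      obtain ⟨l, hl⟩ := hact (z * y)⁻¹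
      show (g : G ⧸ H) * _ = _ * (g : G ⧸ H)
      calc (g : G ⧸ H) * (y * z * y⁻¹ * z⁻¹) = (z * y) * (((z * y)⁻¹ * (g : G ⧸ H) * (z * y)⁻¹⁻¹) * ((z * y)⁻¹ * (y * z))) * (z * y)⁻¹ := by group
        _ = (z * y) * (((z * y)⁻¹ * (y * z)) * ((z * y)⁻¹ * (g : G ⧸ H) * (z * y)⁻¹⁻¹)) * (z * y)⁻¹ := by rw [hl, (h2.zpow_left l).eq]
        _ = (y * z * y⁻¹ * z⁻¹) * (g : G ⧸ H) := by group
    obtain ⟨l, hl⟩ := Subgroup.mem_zpowers_iff.mp (hg ⟨f, hf⟩)
    have hl' := congrArg Subtype.val hl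
    push_cast at hl'
    rw [← hl']
    exact (h4.zpow_left l).eq
  -- `M` is a normal Hall subgroup of `G ⧸ H`
  have hMidx : ∀ s : ℕ, s.Prime → s ∣ M.index → s ∈ A := by
    intro s hs hd
    by_contra hsA
    have := Fact.mk hs
    obtain ⟨R⟩ := (inferInstance : Nonempty (Sylow s (G ⧸ H)))
    have hn : (M ⊔ (R : Subgroup (G ⧸ H))).Normal := ⟨fun m hm y => by
      have h1 : y * m * y⁻¹ * m⁻¹ ∈ M ⊔ (R : Subgroup (G ⧸ H)) := Subgroup.mem_sup_left (hFM (hcomm y m))
      simpa using mul_mem h1 hm⟩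
    have hRA : PiGrp Aᶜ (R : Subgroup (G ⧸ H)) := fun q hq hqd => by
      obtain ⟨k, hk⟩ := IsPGroup.iff_card.mp R.2
      rw [hk] at hqd
      exact (Nat.prime_dvd_prime_iff_eq hq hs).mp (hq.dvd_of_dvd_pow hqd) ▸ hsA
    have hRM : (R : Subgroup (G ⧸ H)) ≤ M := le_sup_right.trans (hMmax _ hn (piGrp_sup hMA hRA))
    exact R.not_dvd_index (hd.trans (Subgroup.index_dvd_of_le hRM))
  have hMcop : Nat.Coprime (Nat.card M) M.index := (coprime_of_pi hMidx hMA).symm
  obtain ⟨C, hC⟩ := Subgroup.exists_right_complement'_of_coprime hMcop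
  have hCcard : Nat.card C = M.index := hC.symm.index_eq_card.symm
  have hC1 : C ≠ ⊥ := fun e1 => hMtop (Subgroup.index_eq_one.mp (by rw [← hCcard, e1]; simp))
  refine ⟨H, K, hHn, inferInstance, lt_of_le_of_ne hHK ?_, ⟨B, hFrobK⟩, C, ?_⟩
  · intro e1
    apply hM1
    have h := congrArg (Subgroup.map π) e1
    rw [hK, Subgroup.map_comap_eq_self_of_surjective hπs, hπ, QuotientGroup.map_mk'_self] at h
    exact h.symm
  · rw [hK, Subgroup.map_comap_eq_self_of_surjective hπs]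
    exact frobenius_of_fpf hC hM1 hC1 fun h hh h1 k hk k1 hc =>
      not_commute hQsep (X := C) (fun s hs hd => hMidx s hs (hCcard ▸ hd)) hMA hh hk h1 k1 hc.symm


/-- A finite solvable group whose prime graph (prime divisors of the order, two distinct primes joined when there is an element of order their product) is disconnected is a Frobenius group or a 2-Frobenius group (it has normal subgroups H < K with K a Frobenius group with kernel H and G/H a Frobenius group with kernel K/H). -/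
theorem result {G : Type*} [Group G] [Finite G] (hsol : Group.IsSolvable G)
    (hdisc : (∃ A : Set ℕ, (∃ a ∈ A, a.Prime ∧ a ∣ Nat.card G) ∧ (∃ b ∉ A, b.Prime ∧ b ∣ Nat.card G) ∧
      ∀ a ∈ A, ∀ b ∉ A, a.Prime → b.Prime → a ∣ Nat.card G → b ∣ Nat.card G → ¬ ∃ g : G, orderOf g = a * b)) :
    (∃ C : Subgroup G, Cfsg.IsFrobeniusComplement C) ∨
    (∃ (H K : Subgroup G) (_ : H.Normal), K.Normal ∧ H < K ∧
      (∃ C : Subgroup ↥K, Cfsg.IsFrobeniusComplement C ∧ Cfsg.frobeniusKernel C = (H.subgroupOf K : Set ↥K)) ∧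
      (∃ C : Subgroup (G ⧸ H), Cfsg.IsFrobeniusComplement C ∧ Cfsg.frobeniusKernel C = (K.map (QuotientGroup.mk' H) : Set (G ⧸ H)))) := by
  obtain ⟨A, ⟨a, haA, hap, had⟩, hb, hno⟩ := hdisc
  have := hsol
  have hsep : Sep A G := fun g a b ha hb' haA hbA e =>
    hno a haA b hbA ha hb' ((dvd_mul_right a b).trans (e ▸ orderOf_dvd_natCard g))
      ((dvd_mul_left b a).trans (e ▸ orderOf_dvd_natCard g)) ⟨g, e⟩
  have : Nontrivial G := Finite.one_lt_card_iff_nontrivial.mp
    (lt_of_lt_of_le hap.one_lt (Nat.le_of_dvd Nat.card_pos had))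
  obtain ⟨p, hp, hne⟩ : ∃ p : ℕ, p.Prime ∧ Cfsg.pCore p G ≠ ⊥ := by
    by_contra h
    simp only [not_exists, not_and, not_not] at h
    apply Components.fittingSubgroup_ne_bot (G := G)
    rw [Components.fittingSubgroup_eq_iSup_pCore, iSup_eq_bot]
    exact fun q => h q (Nat.prime_of_mem_primeFactors q.2)
  have := Fact.mk hp
  have hpi : ∀ B : Set ℕ, p ∈ B → PiGrp B (Cfsg.pCore p G) := fun B hB s hs hd => by
    obtain ⟨k, hk⟩ := IsPGroup.iff_card.mp (Components.isPGroup_pCore' (G := G) p)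
    rw [hk] at hd
    exact (Nat.prime_dvd_prime_iff_eq hs hp).mp (hs.dvd_of_dvd_pow hd) ▸ hB
  by_cases hpA : p ∈ A
  · exact main hsep hb (Components.pCore_normal' p) (hpi A hpA) hne
  · exact main (sep_compl hsep) ⟨a, not_not.mpr haA, hap, had⟩ (Components.pCore_normal' p) (hpi Aᶜ hpA) hne

end Cfsg.Agent.S3857
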