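import Cfsg.Statements.S3858


set_option autoImplicit false
open Cfsg

namespace Cfsg.Agent.S3858

open scoped Pointwise

/-- Let G be a finite group with a normal non-abelian simple subgroup T whose centralizer is trivial (G almost simple with socle T), r a prime and R a Sylow r-subgroup of G meeting T nontrivially. Then R lies in exactly one maximal subgroup of G if and only if G has exactly one conjugacy class of maximal subgroups whose index is prime to r. -/
theorem result {G : Type*} [Group G] [Finite G] (T : Subgroup G) [T.Normal] (hT : IsSimpleGroup T) (hna : ¬ IsMulCommutative T)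
    (hC : Subgroup.centralizer (T : Set G) = ⊥) {r : ℕ} [Fact r.Prime] (R : Sylow r G) (hR0 : (R : Subgroup G) ⊓ T ≠ ⊥) :
    (∃! M : Subgroup G, IsCoatom M ∧ (R : Subgroup G) ≤ M) ↔
      ((∃ M : Subgroup G, IsCoatom M ∧ ¬ r ∣ M.index) ∧
        ∀ M₁ M₂ : Subgroup G, IsCoatom M₁ → ¬ r ∣ M₁.index → IsCoatom M₂ → ¬ r ∣ M₂.index → ∃ g : G, M₂ = M₁.map (MulAut.conj g).toMonoidHom) := by
  have hr : r.Prime := Fact.out
  have hN : Subgroup.normalizer ((R : Subgroup G) : Set G) ≠ ⊤ := by
    intro h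
    have hn : (R : Subgroup G).Normal := Subgroup.normalizer_eq_top_iff.1 h
    have hn' : ((R : Subgroup G).subgroupOf T).Normal := hn.subgroupOf T
    rcases hT.eq_bot_or_eq_top_of_normal _ hn' with h1 | h1
    · rw [Subgroup.subgroupOf_eq_bot, disjoint_iff] at h1
      exact hR0 h1
    · have hTR : T ≤ R := Subgroup.subgroupOf_eq_top.1 h1
      have hp : IsPGroup r T := R.isPGroup'.to_le hTR
      have : Group.IsNilpotent T := hp.isNilpotent
      have := hT.comm_iff_isSolvable.2 inferInstance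
      exact hna ⟨⟨this⟩⟩
  -- index prime to `r` means containing a conjugate of `R`
  have hidx : ∀ M : Subgroup G, ¬ r ∣ M.index → ∃ g : G, ((g • R : Sylow r G) : Subgroup G) ≤ M := by
    intro M hM
    obtain ⟨S⟩ : Nonempty (Sylow r M) := Sylow.nonempty
    obtain ⟨Q, hQ⟩ := S.exists_comap_subtype_eq
    obtain ⟨g, hg⟩ := MulAction.exists_smul_eq G R Q
    refine ⟨g, ?_⟩
    rw [hg]
    have hS : ((S : Subgroup M).map M.subtype) ≤ Q := Subgroup.map_le_iff_le_comap.2 hQ.ge
    have hSi : ¬ r ∣ ((S : Subgroup M).map M.subtype).index := by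
      rw [Subgroup.index_map_subtype]
      exact hr.not_dvd_mul S.not_dvd_index hM
    let S' : Sylow r G := (S.isPGroup'.map M.subtype).toSylow hSi
    have : (Q : Subgroup G) = (S : Subgroup M).map M.subtype :=
      S'.is_maximal' Q.isPGroup' hS
    rw [this]
    exact Subgroup.map_subtype_le _
  have hidx' : ∀ M : Subgroup G, (R : Subgroup G) ≤ M → ¬ r ∣ M.index := fun M hM h =>
    R.not_dvd_index (h.trans (Subgroup.index_dvd_of_le hM))
  have hconjmap : ∀ (M : Subgroup G) (g : G),
      M.map (MulAut.conj g).toMonoidHom = MulAut.conj g • M := fun M g => rfl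
  have hcoatom : ∀ (M : Subgroup G) (g : G), IsCoatom M → IsCoatom (MulAut.conj g • M) := fun M g h =>
    (OrderIso.isCoatom_iff ((MulAut.conj g).mapSubgroup) M).2 h
  constructor
  · rintro ⟨M, ⟨hM, hRM⟩, huni⟩
    refine ⟨⟨M, hM, hidx' M hRM⟩, fun M₁ M₂ h1 i1 h2 i2 => ?_⟩
    have key : ∀ M' : Subgroup G, IsCoatom M' → ¬ r ∣ M'.index →
        ∃ g : G, M' = MulAut.conj g • M := by
      intro M' h i
      obtain ⟨g, hg⟩ := hidx M' i
      refine ⟨g, ?_⟩
      have := huni (MulAut.conj g⁻¹ • M') ⟨hcoatom _ _ h, by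
        rw [← Subgroup.pointwise_smul_le_pointwise_smul_iff (a := MulAut.conj g), smul_smul,
          ← map_mul, mul_inv_cancel, map_one, one_smul]
        rwa [Sylow.coe_subgroup_smul] at hg⟩
      rw [← this, smul_smul, ← map_mul, mul_inv_cancel, map_one, one_smul]
    obtain ⟨g1, rfl⟩ := key M₁ h1 i1
    obtain ⟨g2, rfl⟩ := key M₂ h2 i2
    refine ⟨g2 * g1⁻¹, ?_⟩
    rw [hconjmap, smul_smul, ← map_mul, inv_mul_cancel_right]
  · rintro ⟨⟨M, hM, hi⟩, hconj⟩
    obtain h | ⟨M₀, hM₀, hNM₀⟩ := eq_top_or_exists_le_coatom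
      (Subgroup.normalizer ((R : Subgroup G) : Set G))
    · exact absurd h hN
    have hRM₀ : (R : Subgroup G) ≤ M₀ := Subgroup.le_normalizer.trans hNM₀
    refine ⟨M₀, ⟨hM₀, hRM₀⟩, fun M' ⟨hM', hRM'⟩ => ?_⟩
    obtain ⟨g, hg⟩ := hconj M₀ M' hM₀ (hidx' _ hRM₀) hM' (hidx' _ hRM')
    rw [hconjmap] at hg
    -- move `g` into the normalizer of `R`
    have hgR : ((g • R : Sylow r G) : Subgroup G) ≤ M' := by
      rw [Sylow.coe_subgroup_smul, hg]
      exact Subgroup.pointwise_smul_le_pointwise_smul_iff.2 hRM₀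
    obtain ⟨m, hm⟩ := MulAction.exists_smul_eq M' ((g • R).subtype hgR) (R.subtype hRM')
    rw [Sylow.smul_subtype] at hm
    have h2 : ((m : G) * g) • R = R := by
      rw [mul_smul]; exact Sylow.subtype_injective hm
    rw [Sylow.smul_eq_iff_mem_normalizer] at h2
    have h3 : MulAut.conj ((m : G) * g) • M₀ = M₀ :=
      Subgroup.conj_smul_eq_self_of_mem (hNM₀ h2)
    rw [map_mul, mul_smul, ← hg, Subgroup.conj_smul_eq_self_of_mem m.2] at h3
    exact h3

end Cfsg.Agent.S3858
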