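import Cfsg.Statements.S3859
import Cfsg.Agent.Lib.SylowCount.Basic

set_option autoImplicit false
open Cfsg

namespace Cfsg.Agent.S3859

/-- Let G be a finite group with a normal non-abelian simple subgroup T whose centralizer is trivial (G almost simple with socle T), r a prime and R a Sylow r-subgroup of G meeting T nontrivially. If R lies in exactly one maximal subgroup of G, then G/T is an r-group. -/
theorem result {G : Type*} [Group G] [Finite G] (T : Subgroup G) [T.Normal] (hT : IsSimpleGroup T) (hna : ¬ IsMulCommutative T)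
    (hC : Subgroup.centralizer (T : Set G) = ⊥) {r : ℕ} [Fact r.Prime] (R : Sylow r G) (hR0 : (R : Subgroup G) ⊓ T ≠ ⊥)
    (huniq : ∃! M : Subgroup G, IsCoatom M ∧ (R : Subgroup G) ≤ M) : IsPGroup r (G ⧸ T) := by
  obtain ⟨M, ⟨hM, hRM⟩, huni⟩ := huniq
  have hr : r.Prime := Fact.out
  -- the normalizer of `R ⊓ T` is proper
  have hN : Subgroup.normalizer (((R : Subgroup G) ⊓ T : Subgroup G) : Set G) ≠ ⊤ := by
    intro h
    have hn : ((R : Subgroup G) ⊓ T).Normal := Subgroup.normalizer_eq_top_iff.1 h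
    have hn' : (((R : Subgroup G) ⊓ T).subgroupOf T).Normal := hn.subgroupOf T
    rcases hT.eq_bot_or_eq_top_of_normal _ hn' with h1 | h1
    · rw [Subgroup.subgroupOf_eq_bot, disjoint_iff, inf_assoc, inf_idem] at h1
      exact hR0 h1
    · have hTR : T ≤ R := (Subgroup.subgroupOf_eq_top.1 h1).trans inf_le_left
      have hp : IsPGroup r T := R.isPGroup'.to_le hTR
      have : Group.IsNilpotent T := hp.isNilpotent
      have := hT.comm_iff_isSolvable.2 inferInstance
      exact hna ⟨⟨this⟩⟩
  have hle : ∀ H : Subgroup G, H ≠ ⊤ → (R : Subgroup G) ≤ H → H ≤ M := by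
    intro H hH hRH
    obtain h | ⟨M', hM', hHM'⟩ := eq_top_or_exists_le_coatom H
    · exact absurd h hH
    · exact huni M' ⟨hM', hRH.trans hHM'⟩ ▸ hHM'
  have htop : (R : Subgroup G) ⊔ T = ⊤ := by
    by_contra h
    have hTM : T ≤ M := le_sup_right.trans (hle _ h le_sup_left)
    have hNM : Subgroup.normalizer (((R : Subgroup G) ⊓ T : Subgroup G) : Set G) ≤ M := by
      refine hle _ hN fun g hg => ?_
      rw [Subgroup.mem_normalizer_iff]
      intro x
      rw [Subgroup.mem_inf, Subgroup.mem_inf]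
      exact and_congr ⟨fun hx => mul_mem (mul_mem hg hx) (inv_mem hg),
        fun hx => by simpa [mul_assoc] using mul_mem (mul_mem (inv_mem hg) hx) hg⟩
        (Subgroup.mem_normalizer_iff.1
          ((Subgroup.normalizer_eq_top (H := T)).ge (Subgroup.mem_top g)) x)
    obtain ⟨P, hP⟩ := SylowCount.exists_sylow_inf R T
    have h2 := Sylow.normalizer_sup_eq_top P
    rw [hP, Subgroup.subgroupOf_map_subtype] at h2
    exact hM.1 (top_le_iff.1 (h2 ▸ sup_le hNM hTM))
  intro x
  induction x using QuotientGroup.induction_on with | _ g => ?_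
  obtain ⟨a, ha, b, hb, rfl⟩ := Subgroup.mem_sup_of_normal_right.1 (htop.ge (Subgroup.mem_top g))
  obtain ⟨k, hk⟩ := R.isPGroup' ⟨a, ha⟩
  refine ⟨k, ?_⟩
  have hbT : ((b : G) : G ⧸ T) = 1 := (QuotientGroup.eq_one_iff b).2 hb
  rw [QuotientGroup.mk_mul, hbT, mul_one, ← QuotientGroup.mk_pow,
    show a ^ r ^ k = 1 from congrArg Subtype.val hk]
  rfl

end Cfsg.Agent.S3859
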