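import Cfsg.Statements.S3861
import Cfsg.Agent.Lib.Coprime.Lift
import Cfsg.Agent.Lib.PCore.Basic
import Cfsg.Agent.S0200
-- import your own Cfsg.Agent.* helpers here

set_option autoImplicit false
open Cfsg

namespace Cfsg.Agent.S3861

/-- A finite group G has no non-identity element of odd order that is conjugate to its inverse if and only if the Sylow 2-subgroups of G are normal. -/
theorem result {G : Type*} [Group G] [Finite G] (P : Sylow 2 G) : (∀ x : G, x ≠ 1 → Odd (orderOf x) → ¬ IsConj x x⁻¹) ↔ (P : Subgroup G).Normal := by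
  classical
  constructor
  · intro h
    by_contra hPn
    set O := Cfsg.pCore 2 G with hO
    have hOp : IsPGroup 2 O := Cfsg.Agent.PCore.isPGroup_pCore
    have hpc : Cfsg.pCore 2 (G ⧸ O) = ⊥ := Cfsg.Agent.PCore.pCore_quotient_self_eq_bot
    have hdvd : 2 ∣ Nat.card (G ⧸ O) := by
      rw [← Subgroup.index_eq_card]
      by_contra hnd
      refine hPn ?_
      have hOP := Cfsg.Agent.PCore.pCore_le_sylow P
      have heq : O = (P : Subgroup G) := by
        by_contra hne
        have h1 := Subgroup.relIndex_mul_index hOP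
        obtain ⟨k, hk⟩ : ∃ k : ℕ, O.relIndex (P : Subgroup G) = 2 ^ k := by
          have h2 : O.relIndex (P : Subgroup G) ∣ Nat.card (P : Subgroup G) :=
            (O.subgroupOf (P : Subgroup G)).index_dvd_card
          rw [P.card_eq_multiplicity] at h2
          obtain ⟨k, -, hk⟩ := (Nat.dvd_prime_pow Nat.prime_two).1 h2
          exact ⟨k, hk⟩
        rcases Nat.eq_zero_or_pos k with rfl | hk0
        · exact hne (le_antisymm hOP (Subgroup.relIndex_eq_one.1 (by simpa using hk)))
        · exact hnd (h1 ▸ Dvd.dvd.mul_right (hk ▸ dvd_pow_self 2 hk0.ne') _)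
      rw [← heq, hO]; infer_instance
    obtain ⟨s, hs⟩ := exists_prime_orderOf_dvd_card' 2 hdvd
    obtain ⟨y, hy1, hyodd, hys⟩ :=
      Cfsg.Agent.S0200.result s hs (fun N hN hNp hsN => by
        have hN2 : N = ⊥ := Cfsg.Agent.PCore.pCore_eq_bot_iff.1 hpc N hN hNp
        rw [hN2, Subgroup.mem_bot] at hsN
        rw [hsN, orderOf_one] at hs
        omega)
    have hcop : (orderOf y).Coprime (Nat.card O) := by
      obtain ⟨k, hk⟩ := hOp.exists_card_eq
      exact hk ▸ (Nat.coprime_two_right.2 hyodd).pow_right k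
    obtain ⟨x, hxy, hxo⟩ := Cfsg.Agent.Coprime.exists_orderOf_lift O y hcop
    subst hxy
    obtain ⟨g, rfl⟩ := QuotientGroup.mk_surjective s
    have hgx : (g * x * g⁻¹ : G) * x ∈ O := by
      rw [← QuotientGroup.eq_one_iff]
      simp only [QuotientGroup.mk_mul, QuotientGroup.mk_inv, hys, inv_mul_cancel]
    have hmem : g * x * g⁻¹ ∈ Subgroup.zpowers x ⊔ O := by
      simpa using mul_mem (Subgroup.mem_sup_right hgx : _ ∈ Subgroup.zpowers x ⊔ O)
        (inv_mem (Subgroup.mem_sup_left (Subgroup.mem_zpowers x) : x ∈ Subgroup.zpowers x ⊔ O))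
    obtain ⟨u, hu, hug⟩ := Cfsg.Agent.Coprime.exists_mul_mem_normalizer_zpowers (hxo ▸ hcop) hmem
    obtain ⟨i, hi⟩ := (Subgroup.mem_normalizer_iff.1 hug x).1 (Subgroup.mem_zpowers x)
    have hinv : x ^ i = x⁻¹ := by
      have h1 : ((x ^ i : G) : G ⧸ O) = ((x⁻¹ : G) : G ⧸ O) := by
        rw [show x ^ i = u * g * x * (u * g)⁻¹ from hi]
        simp only [QuotientGroup.mk_mul, QuotientGroup.mk_inv, (QuotientGroup.eq_one_iff u).2 hu,
          one_mul, hys]
      rw [QuotientGroup.eq] at h1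
      have h2 : (x ^ i)⁻¹ * x⁻¹ ∈ Subgroup.zpowers x ⊓ O :=
        Subgroup.mem_inf.2 ⟨mul_mem (inv_mem (zpow_mem (Subgroup.mem_zpowers x) i)) (inv_mem (Subgroup.mem_zpowers x)), h1⟩
      rw [Cfsg.Agent.Coprime.disjoint_of_coprime_card (by rw [Nat.card_zpowers, hxo]; exact hcop),
        Subgroup.mem_bot, inv_mul_eq_one] at h2
      exact h2
    refine h x (fun hx => hy1 (by rw [hx, QuotientGroup.mk_one])) (hxo ▸ hyodd) ?_
    exact isConj_iff.2 ⟨u * g, by rw [← hi]; exact hinv⟩
  · intro hPn x hx hxo hconj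
    obtain ⟨g, hg⟩ := isConj_iff.1 hconj
    -- the 2-part of `g` still inverts `x`
    set e := (orderOf g).factorization 2 with he
    set m := orderOf g / 2 ^ e with hm
    have hmodd : Odd m := by
      rw [Nat.odd_iff]
      exact Nat.two_dvd_ne_zero.1 (Nat.not_dvd_ordCompl Nat.prime_two (orderOf_pos g).ne')
    have hiter : ∀ n : ℕ, g ^ n * x * (g ^ n)⁻¹ = if Odd n then x⁻¹ else x := by
      intro n
      induction n with
      | zero => simp
      | succ n ih =>
        rw [pow_succ', show g * g ^ n * x * (g * g ^ n)⁻¹ = g * (g ^ n * x * (g ^ n)⁻¹) * g⁻¹ by group, ih]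
        rcases Nat.even_or_odd n with hn | hn
        · rw [if_neg (Nat.not_odd_iff_even.2 hn), if_pos hn.add_one, hg]
        · rw [if_pos hn, if_neg (Nat.not_odd_iff_even.2 hn.add_one), ← conj_inv, hg, inv_inv]
    have h1 : g ^ m * x * (g ^ m)⁻¹ = x⁻¹ := by rw [hiter m, if_pos hmodd]
    have h2 : g ^ m ∈ (P : Subgroup G) := by
      have hp : IsPGroup 2 (Subgroup.zpowers (g ^ m)) := by
        refine IsPGroup.of_card (n := e) ?_
        rw [Nat.card_zpowers, orderOf_pow' g hmodd.pos.ne', hm,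
          Nat.gcd_eq_right (Nat.ordCompl_dvd _ 2), Nat.div_div_self (Nat.ordProj_dvd _ _) (orderOf_pos g).ne']
      obtain ⟨S, hS⟩ := hp.exists_le_sylow
      obtain ⟨c, hc⟩ := MulAction.exists_smul_eq G P S
      have h4 : S = P := by
        rw [← hc, Sylow.smul_eq_iff_mem_normalizer]
        show c ∈ Subgroup.normalizer (((P : Subgroup G)) : Set G)
        rw [Subgroup.normalizer_eq_top]
        exact Subgroup.mem_top c
      exact h4 ▸ hS (Subgroup.mem_zpowers _)
    have h5 : (g ^ m * x * (g ^ m)⁻¹) * x⁻¹ ∈ (P : Subgroup G) := by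
      rw [mul_assoc (g ^ m) x, mul_assoc (g ^ m)]
      exact mul_mem h2 (hPn.conj_mem _ (inv_mem h2) x)
    rw [h1, ← mul_inv_rev] at h5
    have h6 : orderOf (x * x) ∣ Nat.card (P : Subgroup G) := by
      rw [← orderOf_inv]; exact Subgroup.orderOf_dvd_natCard _ h5
    have h7 : orderOf (x * x) = orderOf x := by
      rw [← pow_two]; exact Nat.Coprime.orderOf_pow (Nat.coprime_two_right.2 hxo)
    rw [h7, P.card_eq_multiplicity] at h6
    exact hx (orderOf_eq_one_iff.1 (Nat.eq_one_of_dvd_coprimes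
      ((Nat.coprime_two_right.2 hxo).pow_right _) dvd_rfl h6))

end Cfsg.Agent.S3861
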