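import Cfsg.Statements.S3862
import Cfsg.Agent.Lib.Transfer.SmallFusion

set_option autoImplicit false
open Cfsg

namespace Cfsg.Agent.S3862

/-- If every 2-element of the finite group G that is conjugate to its inverse lies in the centre of G, then G has a normal 2-complement. -/
theorem result {G : Type*} [Group G] [Finite G] (h : ∀ x : G, (∃ j : ℕ, orderOf x = 2 ^ j) → IsConj x x⁻¹ → x ∈ Subgroup.center G) : Cfsg.HasNormalPComplement 2 G := by
  obtain ⟨P⟩ := (inferInstance : Nonempty (Sylow 2 G))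
  refine Transfer.hasNormalPComplement_of_small_fusion P fun a ha hsm g _ => ⟨1, one_mem _, ?_⟩
  have hreal : IsConj a a⁻¹ := by
    rcases hsm with h1 | ⟨-, -, y, hy, he⟩
    · have : a⁻¹ = a := inv_eq_iff_mul_eq_one.mpr (by rw [← pow_two]; exact h1)
      rw [this]
    · rw [isConj_iff]
      exact ⟨y⁻¹, by simpa using he⟩
  obtain ⟨j, hj⟩ := IsPGroup.iff_orderOf.mp P.2 ⟨a, ha⟩
  have hc := h a ⟨j, by rw [← hj]; exact (Subgroup.orderOf_mk a ha).symm⟩ hreal
  rw [Subgroup.mem_center_iff.mp hc g]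
  group

end Cfsg.Agent.S3862
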