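import Mathlib
import Cfsg.Statements.S3863

set_option autoImplicit false
open Cfsg

namespace Cfsg.Agent.S3863

/-- Let x be an element of the finite group G that is conjugate to its inverse. Then some 2-element conjugates x to its inverse; if the conjugacy class of x has odd size then x ^ 2 = 1; and x lies in, and is conjugate to its inverse inside, every normal subgroup of odd index. -/
theorem result {G : Type*} [Group G] [Finite G] (x : G) (hx : IsConj x x⁻¹) : (∃ t : G, (∃ j : ℕ, orderOf t = 2 ^ j) ∧ t * x * t⁻¹ = x⁻¹) ∧ (Odd (Subgroup.centralizer ({x} : Set G)).index → x ^ 2 = 1) ∧ ∀ (N : Subgroup G) [N.Normal], Odd N.index → ∃ hxN : x ∈ N, IsConj (⟨x, hxN⟩ : N) (⟨x, hxN⟩ : N)⁻¹ := by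
  obtain ⟨t, ht⟩ := isConj_iff.mp hx
  obtain ⟨i, m, hm, hn⟩ := Nat.exists_eq_pow_mul_and_not_dvd (orderOf_pos t).ne' 2 (by norm_num)
  have hpow : ∀ k : ℕ, t ^ k * x * (t ^ k)⁻¹ = if Even k then x else x⁻¹ := by
    intro k
    induction k with
    | zero => simp
    | succ k ih =>
      rw [pow_succ', mul_inv_rev, show t * t ^ k * x * ((t ^ k)⁻¹ * t⁻¹) = t * (t ^ k * x * (t ^ k)⁻¹) * t⁻¹ by group, ih]
      by_cases hk : Even k
      · rw [if_pos hk, if_neg (by simp [Nat.even_add_one, hk]), ht]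
      · rw [if_neg hk, if_pos (by simp [Nat.even_add_one, hk]), ← conj_inv, ht, inv_inv]
  have hsm : t ^ m * x * (t ^ m)⁻¹ = x⁻¹ := by
    rw [hpow, if_neg (Nat.not_even_iff_odd.mpr (Nat.odd_iff.mpr (by omega)))]
  have hs2 : (t ^ m) ^ 2 ^ i = 1 := by rw [← pow_mul, mul_comm, ← hn, pow_orderOf_eq_one]
  refine ⟨⟨t ^ m, ?_, hsm⟩, fun hodd => ?_, fun N _ hN => ?_⟩
  · obtain ⟨j, -, hj⟩ := (Nat.dvd_prime_pow Nat.prime_two).mp (orderOf_dvd_of_pow_eq_one hs2)
    exact ⟨j, hj⟩
  · classical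
    have := Fintype.ofFinite G
    let S : Finset G := Finset.univ.filter fun y => IsConj x y
    have hS : S.card = (Subgroup.centralizer ({x} : Set G)).index := by
      have he : (MulAction.stabilizer (ConjAct G) x).index = (Subgroup.centralizer ({x} : Set G)).index := by
        rw [ConjAct.stabilizer_eq_centralizer]; rfl
      rw [← he, MulAction.index_stabilizer, Set.ncard_eq_toFinset_card']
      congr 1
      ext y
      rw [Set.mem_toFinset, Finset.mem_filter, ConjAct.mem_orbit_conjAct, isConj_comm, and_iff_right (Finset.mem_univ _)]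
    by_contra hne
    have heven : Even S.card := by
      have hsum : ∑ _y ∈ S, (1 : ZMod 2) = 0 := by
        refine Finset.sum_involution (fun y _ => y⁻¹) (fun _ _ => by decide) (fun y hy _ e => hne ?_)
          (fun y hy => ?_) (fun y _ => inv_inv y)
        · obtain ⟨c, rfl⟩ := isConj_iff.mp (Finset.mem_filter.mp hy).2
          rw [conj_inv, mul_left_inj, mul_right_inj] at e
          rw [pow_two]
          exact mul_eq_one_iff_eq_inv.mpr e.symm
        · obtain ⟨c, rfl⟩ := isConj_iff.mp (Finset.mem_filter.mp hy).2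
          refine Finset.mem_filter.mpr ⟨Finset.mem_univ _, isConj_iff.mpr ⟨c * t, ?_⟩⟩
          rw [mul_inv_rev, show c * t * x * (t⁻¹ * c⁻¹) = c * (t * x * t⁻¹) * c⁻¹ by group, ht, conj_inv]
      rw [Finset.sum_const, nsmul_eq_mul, mul_one, ZMod.natCast_eq_zero_iff_even] at hsum
      exact hsum
    exact (Nat.not_odd_iff_even.mpr heven) (hS ▸ hodd)
  · have hsN : t ^ m ∈ N := by
      rw [← QuotientGroup.eq_one_iff]
      refine orderOf_eq_one_iff.mp (Nat.eq_one_of_dvd_coprimes ?_ (orderOf_dvd_of_pow_eq_one (n := 2 ^ i) ?_)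
        (orderOf_dvd_natCard _))
      · exact Nat.Coprime.pow_left i (Nat.prime_two.coprime_iff_not_dvd.mpr fun hd => Nat.not_even_iff_odd.mpr hN (even_iff_two_dvd.mpr hd))
      · rw [← QuotientGroup.mk_pow, hs2]; rfl
    have hxx : x * x ∈ N := by
      have h1 := ‹N.Normal›.conj_mem _ hsN x
      have h2 := N.mul_mem h1 (N.inv_mem hsN)
      rwa [show x * t ^ m * x⁻¹ * (t ^ m)⁻¹ = x * (t ^ m * x⁻¹ * (t ^ m)⁻¹) by group, ← conj_inv, hsm, inv_inv] at h2
    have hxN : x ∈ N := by
      obtain ⟨k, hk⟩ := hN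
      have h1 : x ^ N.index ∈ N := N.pow_index_mem x
      rw [hk, pow_succ, pow_mul, pow_two] at h1
      simpa using N.mul_mem (N.inv_mem (N.pow_mem hxx k)) h1
    exact ⟨hxN, isConj_iff.mpr ⟨⟨t ^ m, hsN⟩, Subtype.ext hsm⟩⟩

end Cfsg.Agent.S3863
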