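import Mathlib
import Cfsg.Statements.S3864
import Cfsg.Agent.Lib.Transfer.Thompson
import Cfsg.Agent.Lib.Transfer.Residual
import Cfsg.Agent.Lib.Coprime.Basic

set_option autoImplicit false
open Cfsg

namespace Cfsg.Agent.S3864

open DihedralGroup in
/-- Three explicit "parity" maps on a dihedral group of even degree. -/
def par {m : ℕ} (hm : 2 ∣ m) (a b : ZMod 2) : DihedralGroup m → ZMod 2
  | r i => a * ZMod.castHom hm (ZMod 2) i
  | sr i => a * ZMod.castHom hm (ZMod 2) i + b

open DihedralGroup in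
theorem par_mul {m : ℕ} (hm : 2 ∣ m) (a b : ZMod 2) (u v : DihedralGroup m) :
    par hm a b (u * v) = par hm a b u + par hm a b v := by
  cases u <;> cases v <;> simp only [r_mul_r, r_mul_sr, sr_mul_r, sr_mul_sr, par, map_add, map_sub] <;>
    generalize ZMod.castHom hm (ZMod 2) _ = s <;> generalize ZMod.castHom hm (ZMod 2) _ = t <;>
    revert a b s t <;> decide

section

variable {G : Type*} [Group G] [Finite G] {P : Sylow 2 G} {m : ℕ}

open DihedralGroup

/-- Transfer with respect to a parity map: an involution of the nontrivial part with no conjugate in the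
kernel lies outside a normal subgroup of index 2. -/
theorem transfer_par (e : DihedralGroup m ≃* (P : Subgroup G)) (hm : 2 ∣ m) (a b : ZMod 2) (d : DihedralGroup m)
    (hd : d * d = 1) (hpar : par hm a b d = 1)
    (hconj : ∀ c : DihedralGroup m, c * c = 1 → par hm a b c = 0 → ∀ g : G, g * (e d : G) * g⁻¹ ≠ e c) :
    ∃ M : Subgroup G, M.Normal ∧ M.index = 2 ∧ (e d : G) ∉ M := by
  let φ : DihedralGroup m →* Multiplicative (ZMod 2) :=
    MonoidHom.mk' (fun u => Multiplicative.ofAdd (par hm a b u)) fun u v => by rw [par_mul]; rfl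
  let f : (P : Subgroup G) →* Multiplicative (ZMod 2) := φ.comp e.symm.toMonoidHom
  have hf : ∀ u, f (e u) = Multiplicative.ofAdd (par hm a b u) := fun u => by simp [f, φ]
  have hidx : f.ker.index = 2 := by
    rw [Subgroup.index_ker, MonoidHom.range_eq_top.mpr ?_, Subgroup.card_top]
    · simp
    · intro q
      have hq : q = Multiplicative.ofAdd 0 ∨ q = Multiplicative.ofAdd 1 := by revert q; decide
      rcases hq with rfl | rfl
      · exact ⟨1, by rw [map_one]; rfl⟩
      · exact ⟨e d, by rw [hf, hpar]⟩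
  refine Transfer.exists_index_two_of_involution P (f.ker.map (P : Subgroup G).subtype) (Subgroup.map_subtype_le _) ?_
    (e d : G) ?_ (e d).2 ?_ ?_
  · rw [Subgroup.relIndex, show (f.ker.map (P : Subgroup G).subtype).subgroupOf (P : Subgroup G) = f.ker from
      Subgroup.comap_map_eq_self_of_injective (P : Subgroup G).subtype_injective f.ker]
    exact hidx
  · rw [sq, ← Subgroup.coe_mul, ← map_mul, hd, map_one]; rfl
  · rintro ⟨u, hu, hue⟩
    rw [show u = e d from Subtype.ext hue, SetLike.mem_coe, MonoidHom.mem_ker, hf, hpar] at hu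
    exact absurd hu (by decide)
  · rintro g ⟨u, hu, hue⟩
    obtain ⟨c, rfl⟩ := e.surjective u
    rw [SetLike.mem_coe, MonoidHom.mem_ker, hf] at hu
    refine hconj c ?_ (Multiplicative.ofAdd.injective hu) g hue.symm
    refine e.injective (Subtype.ext ?_)
    rw [map_mul, map_one, Subgroup.coe_mul, Subgroup.coe_one]
    change ((e c : (P : Subgroup G)) : G) = g * (e d : G) * g⁻¹ at hue
    rw [hue, show g * (e d : G) * g⁻¹ * (g * (e d : G) * g⁻¹) = g * ((e d * e d : (P : Subgroup G)) : G) * g⁻¹ by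
      push_cast; group, ← map_mul, hd, map_one, Subgroup.coe_one]
    group

/-- A normal subgroup with `2`-group quotient and cyclic Sylow `2`-subgroup gives a normal 2-complement. -/
theorem twoNilpotent_of_cyclic (C : Subgroup G) [hC : IsCyclic C] (L : Subgroup G) [L.Normal] (hL : ∃ k, L.index = 2 ^ k)
    (hLP : (P : Subgroup G) ⊓ L ≤ C) : Cfsg.HasNormalPComplement 2 G := by
  have := Fact.mk Nat.prime_two
  rw [Transfer.hasNormalPComplement_iff]
  have hres : Cfsg.pResidual 2 G ≤ (Cfsg.pResidual 2 L).map L.subtype := by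
    rw [Transfer.pResidual_eq_residual, Transfer.residual, Subgroup.closure_le]
    intro g hg
    have hgL : g ∈ L := by
      obtain ⟨k, hk⟩ := hL
      rw [← QuotientGroup.eq_one_iff]
      refine orderOf_eq_one_iff.mp (Nat.eq_one_of_dvd_coprimes (Nat.Coprime.pow_right k (hg : (orderOf g).Coprime 2)) (orderOf_map_dvd (QuotientGroup.mk' L) g) ?_)
      rw [← hk]; exact orderOf_dvd_natCard _
    exact ⟨⟨g, hgL⟩, Transfer.mem_residual_of_coprime (by rw [Subgroup.orderOf_mk]; exact hg), rfl⟩
  have hcL : Cfsg.HasNormalPComplement 2 L := by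
    by_cases hodd : 2 ∣ Nat.card L
    · let R : Sylow 2 L := default
      obtain ⟨S, hS⟩ := (R.2.map L.subtype).exists_le_sylow
      obtain ⟨g, rfl⟩ := MulAction.exists_smul_eq G P S
      have hcyc : IsCyclic R := by
        have hmem : ∀ u : (R : Subgroup L), g⁻¹ * (((u : L) : G)) * g ∈ C := fun u => by
          refine hLP ⟨?_, ?_⟩
          · have h := hS ⟨u, u.2, rfl⟩
            rwa [Sylow.coe_subgroup_smul, Coprime.mem_conj_smul_iff] at h
          · simpa using Subgroup.Normal.conj_mem (inferInstance : L.Normal) _ (u : L).2 g⁻¹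
        let j : (R : Subgroup L) →* C :=
          (((MulAut.conj g⁻¹).toMonoidHom.comp L.subtype).comp (R : Subgroup L).subtype).codRestrict C
            fun u => by simpa using hmem u
        refine isCyclic_of_injective j fun u v h => ?_
        exact Subtype.ext (Subtype.ext ((MulAut.conj g⁻¹).injective (congrArg Subtype.val h)))
      exact ⟨R, _, inferInstance, IsCyclic.isComplement' (P := R) ((Nat.minFac_eq_two_iff _).mpr hodd) hcyc⟩
    · exact Transfer.hasNormalPComplement_of_coprime fun h => hodd (h.trans (Subgroup.card_subgroup_dvd_card _))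
  rw [Transfer.hasNormalPComplement_iff] at hcL
  intro h
  refine hcL (h.trans ?_)
  rw [← Subgroup.card_map_of_injective L.subtype_injective]
  exact Subgroup.card_dvd_of_le hres

theorem cases_involution (d : DihedralGroup m) [NeZero m] (hm : 4 ∣ m) (hd : d * d = 1) (hd1 : d ≠ 1) :
    d = r ((m / 2 : ℕ) : ZMod m) ∨ ∃ (j : ZMod m) (i : ℕ), i < 2 ∧ d = r j * sr (i : ZMod m) * (r j)⁻¹ := by
  cases d with
  | r i =>
    left
    rw [r_mul_r, one_def, r.injEq] at hd
    congr 1
    have h2 : ((2 * i.val : ℕ) : ZMod m) = 0 := by push_cast; rw [ZMod.natCast_zmod_val, two_mul, hd]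
    rw [ZMod.natCast_eq_zero_iff] at h2
    have hlt := i.val_lt
    have hne : i.val ≠ 0 := fun e => hd1 (by rw [(ZMod.val_eq_zero i).mp e, one_def])
    obtain ⟨c, hc⟩ := h2
    obtain ⟨q, hq⟩ := hm
    have hc1 : c = 1 := by
      rcases c with _ | _ | c
      · omega
      · rfl
      · exfalso; nlinarith
    subst hc1
    rw [← ZMod.natCast_zmod_val i]
    congr 1
    omega
  | sr i =>
    right
    refine ⟨-((i.val / 2 : ℕ) : ZMod m), i.val % 2, Nat.mod_lt _ two_pos, ?_⟩
    rw [inv_r, r_mul_sr, sr_mul_r, sr.injEq]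
    conv_lhs => rw [← ZMod.natCast_zmod_val i, ← Nat.mod_add_div i.val 2]
    push_cast
    ring

end


open DihedralGroup in
/-- With two classes of involutions there is no normal subgroup of index 4. -/
theorem no_index_four {G : Type*} [Group G] [Finite G] {P : Sylow 2 G} {m : ℕ} [NeZero m] {e : DihedralGroup m ≃* (P : Subgroup G)}
    (h2 : 2 ∣ m) (h4m : 4 ∣ m) {N : Subgroup G} (hN : N.Normal)
    (h : IsConj ((e (sr 0) : (P : Subgroup G)) : G) (e (r ((m / 2 : ℕ) : ZMod m)) : G) ∨
      IsConj ((e (sr 1) : (P : Subgroup G)) : G) (e (r ((m / 2 : ℕ) : ZMod m)) : G)) : N.index ≠ 4 := by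
  intro h4
  have := Fact.mk Nat.prime_two
  have hab : ∀ a b : G, a * b * a⁻¹ * b⁻¹ ∈ N := by
    have : IsMulCommutative (G ⧸ N) := ⟨⟨IsPGroup.commutative_of_card_eq_prime_sq (p := 2) (by rw [← Subgroup.index_eq_card, h4]; rfl)⟩⟩
    intro a b
    rw [← QuotientGroup.eq_one_iff]
    simp only [QuotientGroup.mk_mul, QuotientGroup.mk_inv]
    rw [mul_comm' (a : G ⧸ N) b]
    group
  let H : Subgroup (DihedralGroup m) := N.comap ((P : Subgroup G).subtype.comp e.toMonoidHom)
  have hH : ∀ d, d ∈ H ↔ ((e d : (P : Subgroup G)) : G) ∈ N := fun d => Iff.rfl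
  have heven : ∀ i : ZMod m, r (i + i) ∈ H := by
    intro i
    have h' := hab (e (r i) : G) (e (sr 0) : G)
    rw [← InvMemClass.coe_inv, ← InvMemClass.coe_inv, ← Subgroup.coe_mul, ← Subgroup.coe_mul, ← Subgroup.coe_mul, ← map_inv, ← map_inv, ← map_mul, ← map_mul, ← map_mul, ← hH] at h'
    simpa [r_mul_sr, sr_mul_r, sr_mul_sr, inv_r, inv_sr] using h'
  have hz : r ((m / 2 : ℕ) : ZMod m) ∈ H := by
    have := heven ((m / 4 : ℕ) : ZMod m)
    convert this using 2
    rw [← Nat.cast_add]
    congr 1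
    omega
  obtain ⟨k, hk, hsr⟩ : ∃ k : ℕ, k < 2 ∧ sr (k : ZMod m) ∈ H := by
    rcases h with h | h <;> obtain ⟨g, hg⟩ := isConj_iff.mp h
    · refine ⟨0, two_pos, ?_⟩
      have := hN.conj_mem _ ((hH _).mp hz) g⁻¹
      rw [← hg] at this
      rw [hH, Nat.cast_zero]
      simpa [mul_assoc] using this
    · refine ⟨1, one_lt_two, ?_⟩
      have := hN.conj_mem _ ((hH _).mp hz) g⁻¹
      rw [← hg] at this
      rw [hH, Nat.cast_one]
      simpa [mul_assoc] using this
  -- `H` has index at most 2
  have hcover : ∀ d : DihedralGroup m, d ∈ H ∨ d * r 1 ∈ H := by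
    intro d
    have hev : ∀ i : ZMod m, i.val % 2 = 0 → r i ∈ H := fun i hi => by
      have := heven ((i.val / 2 : ℕ) : ZMod m)
      rwa [← Nat.cast_add, show i.val / 2 + i.val / 2 = i.val by omega, ZMod.natCast_zmod_val] at this
    have hodd : ∀ i : ZMod m, r i ∈ H ∨ r (i + 1) ∈ H := fun i => by
      rcases Nat.mod_two_eq_zero_or_one i.val with h' | h'
      · exact Or.inl (hev i h')
      · right
        have := heven ((i.val / 2 + 1 : ℕ) : ZMod m)
        rw [← Nat.cast_add, show i.val / 2 + 1 + (i.val / 2 + 1) = i.val + 1 by omega, Nat.cast_add, ZMod.natCast_zmod_val, Nat.cast_one] at this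
        exact this
    cases d with
    | r i => rcases hodd i with h' | h' <;> [left; right] <;> simpa [r_mul_r] using h'
    | sr i =>
      rcases hodd (i - k) with h' | h'
      · left
        have := H.mul_mem hsr h'
        simpa [sr_mul_r] using this
      · right
        have := H.mul_mem hsr h'
        rw [sr_mul_r, show (k : ZMod m) + (i - k + 1) = i + 1 by ring] at this
        simpa [sr_mul_r] using this
  -- so `G ⧸ N` has order at most 2
  have hPN : ∀ g : G, ∃ d : DihedralGroup m, g⁻¹ * ((e d : (P : Subgroup G)) : G) ∈ N := by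
    have htop : (P : Subgroup G) ⊔ N = ⊤ := by
      refine Subgroup.index_eq_one.mp (Nat.eq_one_of_dvd_coprimes ((Nat.Prime.coprime_iff_not_dvd Nat.prime_two).mpr P.not_dvd_index |>.pow_left 2)
        (by rw [show 2 ^ 2 = N.index by rw [h4]; rfl]; exact Subgroup.index_dvd_of_le le_sup_right)
        (Subgroup.index_dvd_of_le le_sup_left))
    intro g
    obtain ⟨a, ha, b, hb, rfl⟩ := Subgroup.mem_sup_of_normal_right.mp (htop ▸ Subgroup.mem_top g)
    obtain ⟨d, hd⟩ := e.surjective ⟨a, ha⟩
    refine ⟨d, ?_⟩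
    rw [hd]
    simpa using N.inv_mem hb
  have hle : Nat.card (G ⧸ N) ≤ 2 := by
    let f : Bool → G ⧸ N := fun b => if b then ((1 : G) : G ⧸ N) else (((e (r 1) : (P : Subgroup G)) : G) : G ⧸ N)⁻¹
    refine le_trans (Nat.card_le_card_of_surjective f fun q => ?_) (by simp)
    obtain ⟨g, rfl⟩ := QuotientGroup.mk_surjective q
    obtain ⟨d, hd⟩ := hPN g
    rw [← QuotientGroup.eq] at hd
    rcases hcover d with h' | h'
    · exact ⟨true, by simp [f, hd, (QuotientGroup.eq_one_iff _).mpr ((hH d).mp h')]⟩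
    · refine ⟨false, ?_⟩
      have h1 := (QuotientGroup.eq_one_iff (N := N) _).mpr ((hH _).mp h')
      rw [map_mul, Subgroup.coe_mul, QuotientGroup.mk_mul] at h1
      simp [f, hd, eq_inv_of_mul_eq_one_left h1]
  rw [← Subgroup.index_eq_card, h4] at hle
  omega

/-- Let G be a finite group whose Sylow 2-subgroups are dihedral of order 2 ^ n with n ≥ 3, and count the conjugacy classes of involutions of G. Then exactly one of the following holds: there is one class of involutions and no normal subgroup of index 2; there are two classes of involutions, a normal subgroup of index 2 and none of index 4; there are three classes of involutions and G has a normal 2-complement. -/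
theorem result {G : Type*} [Group G] [Finite G] (P : Sylow 2 G) (n : ℕ) (hn : 3 ≤ n) (hdih : Nonempty (↥(P : Subgroup G) ≃* DihedralGroup (2 ^ (n - 1)))) : (Nat.card {C : ConjClasses G // ∃ g : G, ConjClasses.mk g = C ∧ orderOf g = 2} = 1 ∧ ∀ N : Subgroup G, N.Normal → N.index ≠ 2) ∨ (Nat.card {C : ConjClasses G // ∃ g : G, ConjClasses.mk g = C ∧ orderOf g = 2} = 2 ∧ (∃ N : Subgroup G, N.Normal ∧ N.index = 2) ∧ ∀ N : Subgroup G, N.Normal → N.index ≠ 4) ∨ (Nat.card {C : ConjClasses G // ∃ g : G, ConjClasses.mk g = C ∧ orderOf g = 2} = 3 ∧ Cfsg.HasNormalPComplement 2 G) := by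
  classical
  open DihedralGroup in
  obtain ⟨e0⟩ := hdih
  set m := 2 ^ (n - 1) with hm
  set e := e0.symm
  have h4 : 4 ∣ m := by rw [hm, show n - 1 = n - 3 + 2 by omega, pow_add]; exact dvd_mul_left _ _
  have h2 : 2 ∣ m := (by norm_num : 2 ∣ 4).trans h4
  have : NeZero m := ⟨by rw [hm]; positivity⟩
  have := Fact.mk Nat.prime_two
  -- the three involutions
  let zd : DihedralGroup m := DihedralGroup.r ((m / 2 : ℕ) : ZMod m)
  let td : DihedralGroup m := DihedralGroup.sr 0
  let td' : DihedralGroup m := DihedralGroup.sr 1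
  have hm4 := Nat.le_of_dvd (NeZero.pos m) h4
  have hzd1 : zd ≠ 1 := by
    simp only [zd, DihedralGroup.one_def, ne_eq, DihedralGroup.r.injEq]
    intro h
    rw [ZMod.natCast_eq_zero_iff] at h
    have := Nat.le_of_dvd (by omega) h
    omega
  have hzd2 : zd * zd = 1 := by
    simp only [zd, DihedralGroup.r_mul_r, DihedralGroup.one_def, DihedralGroup.r.injEq]
    rw [← Nat.cast_add, ZMod.natCast_eq_zero_iff]
    exact ⟨1, by omega⟩
  have hz0 : ZMod.castHom h2 (ZMod 2) ((m / 2 : ℕ) : ZMod m) = 0 := by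
    rw [map_natCast, ZMod.natCast_eq_zero_iff]
    obtain ⟨q, hq⟩ := h4
    exact ⟨q, by omega⟩
  let z : G := e zd
  let t : G := e td
  let t' : G := e td'
  have hord : ∀ d : DihedralGroup m, d * d = 1 → d ≠ 1 → orderOf ((e d : (P : Subgroup G)) : G) = 2 := by
    intro d hd hd1
    rw [Subgroup.orderOf_coe, e.orderOf_eq]
    exact orderOf_eq_prime (by rw [sq, hd]) hd1
  have hconjP : ∀ d : DihedralGroup m, d * d = 1 → d ≠ 1 →
      IsConj z (e d : G) ∨ IsConj t (e d : G) ∨ IsConj t' (e d : G) := by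
    intro d hd hd1
    rcases cases_involution d h4 hd hd1 with rfl | ⟨j, i, hi, rfl⟩
    · exact Or.inl (IsConj.refl _)
    · interval_cases i
      · refine Or.inr (Or.inl (isConj_iff.mpr ⟨e (DihedralGroup.r j), ?_⟩))
        simp only [t, td, map_mul, map_inv, Nat.cast_zero]; rfl
      · refine Or.inr (Or.inr (isConj_iff.mpr ⟨e (DihedralGroup.r j), ?_⟩))
        simp only [t', td', map_mul, map_inv, Nat.cast_one]; rfl
  have hall : ∀ g : G, orderOf g = 2 → IsConj z g ∨ IsConj t g ∨ IsConj t' g := by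
    intro g hg
    have hz : IsPGroup 2 (Subgroup.zpowers g) := IsPGroup.of_card (n := 1) (by rw [Nat.card_zpowers, hg, pow_one])
    obtain ⟨S, hS⟩ := hz.exists_le_sylow
    obtain ⟨c, rfl⟩ := MulAction.exists_smul_eq G P S
    have hg' := hS (Subgroup.mem_zpowers g)
    rw [Sylow.coe_subgroup_smul, Coprime.mem_conj_smul_iff] at hg'
    obtain ⟨d, hd⟩ := e.surjective ⟨_, hg'⟩
    have hg2 : g * g = 1 := by rw [← sq, ← hg, pow_orderOf_eq_one]
    have hd2 : d * d = 1 := e.injective (Subtype.ext (by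
      rw [map_mul, map_one, hd, Subgroup.coe_mul, Subgroup.coe_one]
      show c⁻¹ * g * c * (c⁻¹ * g * c) = 1
      rw [show c⁻¹ * g * c * (c⁻¹ * g * c) = c⁻¹ * (g * g) * c by group, hg2]; group))
    have hd1 : d ≠ 1 := fun e1 => by
      rw [e1, map_one] at hd
      have h1 : c⁻¹ * g * c = 1 := (congrArg Subtype.val hd).symm
      have h3 : g = 1 := by
        calc g = c * (c⁻¹ * g * c) * c⁻¹ := by group
          _ = 1 := by rw [h1]; group
      rw [h3, orderOf_one] at hg
      norm_num at hg
    have hcg : IsConj (e d : G) g := isConj_iff.mpr ⟨c, by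
      rw [hd]; show c * (c⁻¹ * g * c) * c⁻¹ = g; group⟩
    rcases hconjP d hd2 hd1 with h | h | h
    · exact Or.inl (h.trans hcg)
    · exact Or.inr (Or.inl (h.trans hcg))
    · exact Or.inr (Or.inr (h.trans hcg))
  have hzo : orderOf z = 2 := hord zd hzd2 hzd1
  have hto : orderOf t = 2 := hord td (DihedralGroup.sr_mul_self _) (fun h => nomatch h)
  have hto' : orderOf t' = 2 := hord td' (DihedralGroup.sr_mul_self _) (fun h => nomatch h)
  have hset : Nat.card {C : ConjClasses G // ∃ g : G, ConjClasses.mk g = C ∧ orderOf g = 2} =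
      ({ConjClasses.mk z, ConjClasses.mk t, ConjClasses.mk t'} : Set (ConjClasses G)).ncard := by
    rw [← Nat.card_coe_set_eq]
    refine Nat.card_congr (Equiv.subtypeEquivRight fun C => ⟨?_, ?_⟩)
    · rintro ⟨g, rfl, hg⟩
      simp only [Set.mem_insert_iff, Set.mem_singleton_iff, ConjClasses.mk_eq_mk_iff_isConj]
      exact (hall g hg).imp IsConj.symm (Or.imp IsConj.symm IsConj.symm)
    · rintro (rfl | rfl | rfl)
      · exact ⟨z, rfl, hzo⟩
      · exact ⟨t, rfl, hto⟩
      · exact ⟨t', rfl, hto'⟩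
  -- transfer: the two criteria
  have hcase0 : ∀ c : DihedralGroup m, c * c = 1 → par h2 0 1 c = 0 → c = 1 ∨ c = zd := by
    intro c hc hp
    rcases eq_or_ne c 1 with h | h
    · exact Or.inl h
    rcases cases_involution c h4 hc h with h' | ⟨j, i, -, rfl⟩
    · exact Or.inr h'
    · simp [DihedralGroup.inv_r, DihedralGroup.r_mul_sr, DihedralGroup.sr_mul_r, par] at hp
  have htzM : ¬ IsConj t z → ∃ M : Subgroup G, M.Normal ∧ M.index = 2 ∧ t ∉ M := by
    intro hne
    refine transfer_par e h2 0 1 td (DihedralGroup.sr_mul_self _) (by simp [td, par]) fun c hc hp g hg => ?_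
    rcases hcase0 c hc hp with rfl | rfl
    · rw [map_one, Subgroup.coe_one, mul_inv_eq_one, mul_eq_left] at hg
      exact ne_of_apply_ne orderOf (by rw [hto, orderOf_one]; norm_num) hg
    · exact hne (isConj_iff.mpr ⟨g, hg⟩)
  have htM' : ¬ IsConj t' z → ¬ IsConj t' t → ∃ M : Subgroup G, M.Normal ∧ M.index = 2 ∧ t' ∉ M := by
    intro hne hne'
    refine transfer_par e h2 1 0 td' (DihedralGroup.sr_mul_self _) (by simp only [td', par, map_one, mul_one, add_zero]) fun c hc hp g hg => ?_
    rcases eq_or_ne c 1 with rfl | hc1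
    · rw [map_one, Subgroup.coe_one, mul_inv_eq_one, mul_eq_left] at hg
      exact ne_of_apply_ne orderOf (by rw [hto', orderOf_one]; norm_num) hg
    rcases cases_involution c h4 hc hc1 with rfl | ⟨j, i, hi, rfl⟩
    · exact hne (isConj_iff.mpr ⟨g, hg⟩)
    · rw [par_mul, par_mul, DihedralGroup.inv_r] at hp
      interval_cases i
      · refine hne' ((isConj_iff.mpr ⟨g, hg⟩ : IsConj t' _).trans (isConj_iff.mpr ⟨e (DihedralGroup.r j), ?_⟩ : IsConj t _).symm)
        simp only [t, td, map_mul, map_inv, Nat.cast_zero]; rfl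
      · simp only [par, map_neg, mul_neg, Nat.cast_one, map_one, mul_one, one_mul, add_zero] at hp
        revert hp
        generalize ZMod.castHom h2 (ZMod 2) j = s
        intro hp
        exact one_ne_zero ((add_neg_cancel_comm s 1).symm.trans hp)
  -- squares of elements of `P`
  have hmem_mul : ∀ (M : Subgroup G), M.index = 2 → ∀ a b : G, (a * b ∈ M ↔ (a ∈ M ↔ b ∈ M)) := fun M hM a b =>
    Subgroup.mul_mem_iff_of_index_two hM
  let X : Subgroup G := Subgroup.zpowers ((e (DihedralGroup.r 1) : (P : Subgroup G)) : G)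
  have hXr : ∀ i : ZMod m, ((e (DihedralGroup.r i) : (P : Subgroup G)) : G) ∈ X := fun i =>
    Subgroup.mem_zpowers_iff.mpr ⟨(i.val : ℤ), by
      rw [zpow_natCast, ← SubmonoidClass.coe_pow, ← map_pow, DihedralGroup.r_one_pow, ZMod.natCast_zmod_val]⟩
  have hcyc : IsCyclic X := inferInstance
  -- (a): `t ~ t'` forces `t ~ z` or a normal 2-complement
  have hM_even : ∀ M : Subgroup G, M.index = 2 → ∀ i : ZMod m, ((e (DihedralGroup.r (i + i)) : (P : Subgroup G)) : G) ∈ M := by
    intro M hM i
    rw [← DihedralGroup.r_mul_r, map_mul, Subgroup.coe_mul, hmem_mul M hM]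
  have hout : ∀ M : Subgroup G, M.index = 2 → ∀ k : ℕ, k < 2 → ((e (DihedralGroup.sr (k : ZMod m)) : (P : Subgroup G)) : G) ∉ M →
      ∀ i : ZMod m, i.val % 2 = k → ((e (DihedralGroup.sr i) : (P : Subgroup G)) : G) ∉ M := by
    intro M hM k hk hkM i hi hmem
    apply hkM
    have e1 : DihedralGroup.sr i = DihedralGroup.sr (k : ZMod m) * DihedralGroup.r (((i.val / 2 : ℕ) : ZMod m) + ((i.val / 2 : ℕ) : ZMod m)) := by
      rw [DihedralGroup.sr_mul_r]
      congr 1
      conv_lhs => rw [← ZMod.natCast_zmod_val i, ← Nat.mod_add_div i.val 2, hi]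
      push_cast; ring
    rw [e1, map_mul, Subgroup.coe_mul, hmem_mul M hM] at hmem
    exact hmem.mpr (hM_even M hM _)
  have hnilp : ∀ (M M' : Subgroup G), M.Normal → M'.Normal → M.index = 2 → M'.index = 2 → t ∉ M → t' ∉ M' →
      Cfsg.HasNormalPComplement 2 G := by
    intro M M' hMn hM'n hM hM' htM htM'
    refine twoNilpotent_of_cyclic (P := P) X (M ⊓ M') ?_ ?_
    · rcases Nat.eq_zero_or_pos (M.relIndex M') with h0 | h0
      · exact absurd h0 Subgroup.index_ne_zero_of_finite
      have hd : (M ⊓ M').index ∣ 4 := by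
        rw [← Subgroup.relIndex_mul_index (inf_le_right : M ⊓ M' ≤ M'), Subgroup.inf_relIndex_right, hM',
          show (4 : ℕ) = 2 * 2 from rfl]
        refine Nat.mul_dvd_mul ?_ dvd_rfl
        exact hM ▸ Subgroup.relIndex_dvd_index_of_normal M M'
      obtain ⟨k, -, hk⟩ := (Nat.dvd_prime_pow Nat.prime_two).mp (show (M ⊓ M').index ∣ 2 ^ 2 from hd)
      exact ⟨k, hk⟩
    · rintro g ⟨hgP, hgM, hgM'⟩
      obtain ⟨d, hd⟩ := e.surjective ⟨g, hgP⟩
      have hg : g = ((e d : (P : Subgroup G)) : G) := (congrArg Subtype.val hd).symm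
      subst hg
      cases d with
      | r i => exact hXr i
      | sr i =>
        exfalso
        rcases Nat.mod_two_eq_zero_or_one i.val with h | h
        · exact hout M hM 0 two_pos (by simpa [t, td] using htM) i h hgM
        · exact hout M' hM' 1 one_lt_two (by simpa [t', td'] using htM') i h hgM'
  have hnil_ne : Cfsg.HasNormalPComplement 2 G → ¬ IsConj t z ∧ ¬ IsConj t' z ∧ ¬ IsConj t' t := by
    intro h
    obtain ⟨N, hN, hc⟩ := (Transfer.hasNormalPComplement_iff_exists P).mp h
    have key : ∀ u v : DihedralGroup m, IsConj ((e u : (P : Subgroup G)) : G) (e v : G) → IsConj u v := by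
      intro u v huv
      obtain ⟨g, hg⟩ := isConj_iff.mp huv
      obtain ⟨⟨k, p⟩, hkp⟩ := hc.2 g
      obtain ⟨w, hw⟩ := e.surjective p
      refine isConj_iff.mpr ⟨w, e.injective (Subtype.ext ?_)⟩
      have hk : (k : G) * (((e (w * u * w⁻¹)) : (P : Subgroup G)) : G) * (k : G)⁻¹ = e v := by
        rw [← hg, ← hkp]
        simp only [map_mul, map_inv, hw, Subgroup.coe_mul, InvMemClass.coe_inv]
        group
      set a : G := ((e (w * u * w⁻¹) : (P : Subgroup G)) : G) with ha
      have h1 : (e v : G) * a⁻¹ = 1 := by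
        refine Subgroup.disjoint_def.mp hc.disjoint ?_ (Subgroup.mul_mem _ (e v).2 (Subgroup.inv_mem _ (e (w * u * w⁻¹)).2))
        rw [← hk]
        have := N.mul_mem k.2 (hN.conj_mem _ (N.inv_mem k.2) a)
        simpa [mul_assoc] using this
      exact (mul_inv_eq_one.mp h1).symm
    have hparC : ∀ a b : ZMod 2, ∀ u v : DihedralGroup m, IsConj u v → par h2 a b u = par h2 a b v := by
      intro a b u v huv
      obtain ⟨w, hw⟩ := isConj_iff.mp huv
      rw [← hw, par_mul, par_mul, add_right_comm, ← par_mul, mul_inv_cancel, DihedralGroup.one_def]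
      simp [par]
    refine ⟨fun h' => ?_, fun h' => ?_, fun h' => ?_⟩
    · have := hparC 0 1 _ _ (key td zd h')
      simp [td, zd, par] at this
    · have := hparC 0 1 _ _ (key td' zd h')
      simp [td', zd, par] at this
    · have := hparC 1 0 _ _ (key td' td h')
      simp only [td', td, par, map_one, map_zero, mul_one, mul_zero, add_zero] at this
      exact one_ne_zero this
  by_cases hzt : IsConj t z <;> by_cases hzt' : IsConj t' z
  · left
    have e1 : ConjClasses.mk t = ConjClasses.mk z := ConjClasses.mk_eq_mk_iff_isConj.mpr hzt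
    have e2 : ConjClasses.mk t' = ConjClasses.mk z := ConjClasses.mk_eq_mk_iff_isConj.mpr hzt'
    refine ⟨by rw [hset, e1, e2]; simp, fun N hN hN2 => ?_⟩
    have hzN : z ∈ N := by
      have hi : IsConj t z := hzt
      have hcm : ∀ {a b : G}, IsConj a b → a ∈ N → b ∈ N := fun hab ha => by
        obtain ⟨g, hg⟩ := isConj_iff.mp hab; exact hg ▸ hN.conj_mem _ ha g
      by_contra hzn
      have hsq : ((e (DihedralGroup.r (((m / 4 : ℕ) : ZMod m) + ((m / 4 : ℕ) : ZMod m))) : (P : Subgroup G)) : G) ∈ N := hM_even N hN2 _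
      apply hzn
      convert hsq using 4
      rw [← Nat.cast_add]
      congr 1
      omega
    have hcm : ∀ {a b : G}, IsConj a b → a ∈ N → b ∈ N := fun hab ha => by
      obtain ⟨g, hg⟩ := isConj_iff.mp hab; exact hg ▸ hN.conj_mem _ ha g
    have htN : t ∈ N := hcm hzt.symm hzN
    have htN' : t' ∈ N := hcm hzt'.symm hzN
    have hle : (P : Subgroup G) ≤ N := by
      intro g hg
      obtain ⟨d, hd⟩ := e.surjective ⟨g, hg⟩
      have hg' : g = ((e d : (P : Subgroup G)) : G) := (congrArg Subtype.val hd).symm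
      subst hg'
      have hr1 : ((e (DihedralGroup.r 1) : (P : Subgroup G)) : G) ∈ N := by
        have h := N.mul_mem htN htN'
        simpa [t, t', td, td', ← Subgroup.coe_mul, ← map_mul, DihedralGroup.sr_mul_sr] using h
      have hX : X ≤ N := Subgroup.zpowers_le.mpr hr1
      cases d with
      | r i => exact hX (hXr i)
      | sr i =>
        have h := N.mul_mem htN (hX (hXr i))
        simpa [t, td, ← Subgroup.coe_mul, ← map_mul, DihedralGroup.sr_mul_r] using h
    have := Subgroup.index_dvd_of_le hle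
    rw [hN2] at this
    exact P.not_dvd_index this
  all_goals right
  · -- `t ~ z`, `t' ≁ z`
    left
    have htt : ¬ IsConj t' t := fun h => hzt' (h.trans hzt)
    have e1 : ConjClasses.mk t = ConjClasses.mk z := ConjClasses.mk_eq_mk_iff_isConj.mpr hzt
    have hne : ConjClasses.mk z ≠ ConjClasses.mk t' := fun h => hzt' (ConjClasses.mk_eq_mk_iff_isConj.mp h).symm
    refine ⟨by rw [hset, e1, Set.insert_idem, Set.ncard_pair hne], ⟨_, (htM' hzt' htt).choose_spec.1, (htM' hzt' htt).choose_spec.2.1⟩, ?_⟩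
    exact fun N hN => no_index_four (e := e) h2 h4 hN (Or.inl hzt)
  · left
    have htt : ¬ IsConj t' t := fun h => hzt (h.symm.trans hzt')
    have e1 : ConjClasses.mk t' = ConjClasses.mk z := ConjClasses.mk_eq_mk_iff_isConj.mpr hzt'
    have hne : ConjClasses.mk z ≠ ConjClasses.mk t := fun h => hzt (ConjClasses.mk_eq_mk_iff_isConj.mp h).symm
    refine ⟨by rw [hset, e1, Set.pair_comm (ConjClasses.mk t), Set.insert_idem, Set.ncard_pair hne], ⟨_, (htzM hzt).choose_spec.1, (htzM hzt).choose_spec.2.1⟩, ?_⟩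
    exact fun N hN => no_index_four (e := e) h2 h4 hN (Or.inr hzt')
  · right
    obtain ⟨M, hMn, hM, htM⟩ := htzM hzt
    have hnil : Cfsg.HasNormalPComplement 2 G := by
      by_cases htt : IsConj t' t
      · refine hnilp M M hMn hMn hM hM htM fun h => htM ?_
        obtain ⟨g, hg⟩ := isConj_iff.mp htt
        exact hg ▸ hMn.conj_mem _ h g
      · obtain ⟨M', hM'n, hM', htM''⟩ := htM' hzt' htt
        exact hnilp M M' hMn hM'n hM hM' htM htM''
    obtain ⟨-, -, htt⟩ := hnil_ne hnil
    refine ⟨?_, hnil⟩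
    rw [hset, Set.ncard_eq_three]
    exact ⟨_, _, _, fun h => hzt (ConjClasses.mk_eq_mk_iff_isConj.mp h).symm,
      fun h => hzt' (ConjClasses.mk_eq_mk_iff_isConj.mp h).symm,
      fun h => htt (ConjClasses.mk_eq_mk_iff_isConj.mp h).symm, rfl⟩

end Cfsg.Agent.S3864
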