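import Cfsg.Statements.S3865
import Mathlib
import Cfsg.Agent.Lib.MaxClass.Uniform
import Cfsg.Agent.Lib.Fusion.SmallEssential
import Cfsg.Agent.Lib.Fusion.Group
import Cfsg.Agent.Lib.Transfer.Burnside
import Cfsg.Agent.Lib.Coprime.Basic

set_option autoImplicit false
open Cfsg

namespace Cfsg.Agent.S3865

open Subgroup Cfsg.Agent Cfsg.Agent.Pearl Cfsg.Agent.MaxClass Cfsg.Agent.Fusion
open scoped commutatorElement

universe u

section MaxClassFacts

variable {G : Type u} [Group G] [Finite G] {p n : ℕ} [Fact p.Prime]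
  (hn : 3 ≤ n) (hG : Nat.card G = p ^ n) (hcl : (⊤ : Subgroup G).lowerCentralSeries (n - 2) ≠ ⊥)

local notation "γ" => Subgroup.lowerCentralSeries (⊤ : Subgroup G)

include hn hG hcl

/-- An element with centraliser of order `p²` lies in no two-step centraliser. -/
theorem not_layerCent {x : G} (hC : Nat.card (centralizer ({x} : Set G)) = p ^ 2) {k : ℕ}
    (hk : 1 ≤ k) (hkn : k + 1 ≤ n - 2) : x ∉ layerCent G k := by
  have hp := (Fact.out : p.Prime)
  intro hx
  set C := centralizer ({x} : Set G) with hCdef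
  have hsame : ∀ w w' : G, w⁻¹ * w' ∈ C → ⁅w, x⁆ = ⁅w', x⁆ := by
    intro w w' h
    have h1 : w⁻¹ * w' * x = x * (w⁻¹ * w') := mem_centralizer_singleton_iff.1 h
    calc ⁅w, x⁆ = w * (x * (w⁻¹ * w')) * w'⁻¹ * x⁻¹ := by rw [commutatorElement_def]; group
      _ = w * (w⁻¹ * w' * x) * w'⁻¹ * x⁻¹ := by rw [h1]
      _ = ⁅w', x⁆ := by rw [commutatorElement_def]; group
  let f : ↥(γ k) ⧸ C.subgroupOf (γ k) → ↥(γ (k + 2)) :=
    Quotient.lift (fun w => ⟨⁅(w : G), x⁆, mem_layerCent.1 hx w w.2⟩) fun a b hab =>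
      Subtype.ext (hsame a b (mem_subgroupOf.1 (QuotientGroup.leftRel_apply.1 hab)))
  have hf : Function.Injective f := by
    intro a b
    refine Quotient.inductionOn₂ a b fun a b h => Quotient.sound (QuotientGroup.leftRel_apply.2 ?_)
    have h' : ⁅(a : G), x⁆ = ⁅(b : G), x⁆ := congrArg Subtype.val h
    refine mem_subgroupOf.2 (mem_centralizer_singleton_iff.2 ?_)
    push_cast
    calc (a : G)⁻¹ * b * x = (a : G)⁻¹ * ⁅(b : G), x⁆ * x * b := by rw [commutatorElement_def]; group
      _ = (a : G)⁻¹ * ⁅(a : G), x⁆ * x * b := by rw [h']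
      _ = x * ((a : G)⁻¹ * b) := by rw [commutatorElement_def]; group
  have h1 := Nat.card_le_card_of_injective f hf
  have hsub : Nat.card (C.subgroupOf (γ k)) ≤ p := by
    have hlt : C ⊓ γ k < C := lt_of_le_of_ne inf_le_left fun h =>
      not_mem_commutator hn hG hcl hC (Subgroup.lowerCentralSeries_antitone ⊤ hk
        (h.ge (mem_centralizer_singleton_iff.2 rfl) : x ∈ C ⊓ γ k).2)
    have h2 := PGroup.mul_card_le_card (IsPGroup.of_card hG) hlt
    rw [hC, pow_two] at h2
    rw [← inf_subgroupOf_right, Nat.card_congr (subgroupOfEquivOfLe inf_le_right).toEquiv]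
    exact Nat.le_of_mul_le_mul_left h2 hp.pos
  have h3 := (C.subgroupOf (γ k)).card_mul_index
  rw [index_eq_card, card_lcs hn hG hcl hk] at h3
  rw [card_lcs hn hG hcl (by omega : 1 ≤ k + 2)] at h1
  have h4 : p ^ (n - 1 - k) ≤ p * p ^ (n - 1 - (k + 2)) := h3 ▸ Nat.mul_le_mul hsub h1
  rw [← pow_succ'] at h4
  have := (Nat.pow_le_pow_iff_right hp.one_lt).1 h4
  omega

/-- A uniform element moves each layer onto the next. -/
theorem layer_move {x : G} (hC : Nat.card (centralizer ({x} : Set G)) = p ^ 2) {k : ℕ}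
    (hk : 1 ≤ k) (hkn : k + 1 ≤ n - 2) {w : G} (hw : w ∈ γ k) (hw' : w ∉ γ (k + 1)) :
    ⁅w, x⁆ ∈ γ (k + 1) ∧ ⁅w, x⁆ ∉ γ (k + 2) :=
  ⟨lcs_succ_mem hw x, fun h =>
    not_layerCent hn hG hcl hC hk hkn ((mem_layerCent_iff_gen hn hG hcl hk hw hw').2 h)⟩

/-- The subgroups of `γ 1` normalised by a uniform element are terms of the series. -/
theorem eq_lcs_of_invariant {x : G} (hC : Nat.card (centralizer ({x} : Set G)) = p ^ 2)
    (H : Subgroup G) (hH : H ≤ γ 1) (hx : ∀ h ∈ H, x * h * x⁻¹ ∈ H) :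
    ∃ j, 1 ≤ j ∧ j ≤ n - 1 ∧ H = γ j := by
  classical
  let j := Nat.findGreatest (fun j => H ≤ γ j) (n - 1)
  have hj1 : 1 ≤ j := Nat.le_findGreatest (by omega) hH
  have hjn : j ≤ n - 1 := Nat.findGreatest_le _
  have hHj : H ≤ γ j := Nat.findGreatest_spec (P := fun j => H ≤ γ j) (by omega : 1 ≤ n - 1) hH
  refine ⟨j, hj1, hjn, le_antisymm hHj ?_⟩
  rcases Nat.eq_or_lt_of_le hjn with h | h
  · rw [h, lcs_high hn hG le_rfl]
    exact bot_le
  obtain ⟨h₀, h₀H, h₀'⟩ := SetLike.not_le_iff_exists.1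
    (Nat.findGreatest_is_greatest (P := fun j => H ≤ γ j) (k := j + 1) (Nat.lt_succ_self _) (by omega))
  have hex : ∀ d, j + d ≤ n - 2 → ∃ w ∈ H, w ∈ γ (j + d) ∧ w ∉ γ (j + d + 1) := by
    intro d
    induction d with
    | zero => exact fun _ => ⟨h₀, h₀H, hHj h₀H, h₀'⟩
    | succ d ih =>
      intro hd
      obtain ⟨w, hwH, hw, hw'⟩ := ih (by omega)
      obtain ⟨h1, h2⟩ := layer_move hn hG hcl hC (by omega) (by omega) hw hw'
      refine ⟨⁅w, x⁆, ?_, h1, h2⟩
      have h3 := H.mul_mem hwH (hx _ (H.inv_mem hwH))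
      rw [commutatorElement_def]
      simpa [mul_assoc] using h3
  suffices hd : ∀ d l, j ≤ l → n - 1 ≤ l + d → γ l ≤ H from hd (n - 1) j le_rfl (by omega)
  intro d
  induction d with
  | zero => intro l _ hl; rw [lcs_high hn hG (by omega : n - 1 ≤ l)]; exact bot_le
  | succ d ih =>
    intro l hl hld
    by_cases hln : n - 1 ≤ l
    · exact ih l hl (by omega)
    obtain ⟨w, hwH, hw, hw'⟩ := hex (l - j) (by omega)
    rw [show j + (l - j) = l by omega] at hw hw'
    rw [← zpowers_sup_eq hn hG hcl (by omega) hw hw']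
    exact sup_le (zpowers_le.2 hwH) (ih (l + 1) (by omega) (by omega))

/-- The commutator of a layer with a subgroup containing it and a uniform element. -/
theorem commutator_layer {x : G} (hC : Nat.card (centralizer ({x} : Set G)) = p ^ 2)
    (E : Subgroup G) (hx : x ∈ E) {k : ℕ} (hk : 1 ≤ k) :
    ⁅γ k, E⁆ = γ (k + 1) := by
  have hle : ⁅γ k, E⁆ ≤ γ (k + 1) := by
    rw [Subgroup.lowerCentralSeries_succ]
    exact commutator_mono le_rfl le_top
  refine le_antisymm hle ?_
  by_cases hkn : n - 1 ≤ k + 1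
  · rw [lcs_high hn hG hkn]; exact bot_le
  obtain ⟨w, hw, hw'⟩ := exists_layer_gen hn hG hcl (by omega : k ≤ n - 2)
  obtain ⟨h1, h2⟩ := layer_move hn hG hcl hC hk (by omega) hw hw'
  obtain ⟨l, hl1, -, hl⟩ := eq_lcs_of_invariant hn hG hcl hC ⁅γ k, E⁆
    (hle.trans (Subgroup.lowerCentralSeries_antitone ⊤ (by omega))) (fun h hh => by
      have h3 : ⁅γ k, E⁆.map (MulAut.conj x).toMonoidHom ≤ ⁅γ k, E⁆ := by
        rw [map_commutator]
        refine commutator_mono ?_ ?_
        · rintro _ ⟨a, ha, rfl⟩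
          exact (inferInstance : (γ k).Normal).conj_mem a ha x
        · rintro _ ⟨a, ha, rfl⟩
          exact E.mul_mem (E.mul_mem hx ha) (E.inv_mem hx)
      exact h3 ⟨h, hh, rfl⟩)
  have h4 : ⁅w, x⁆ ∈ γ l := hl ▸ commutator_mem_commutator hw hx
  rw [hl]
  refine Subgroup.lowerCentralSeries_antitone ⊤ ?_
  by_contra hlt
  exact h2 (Subgroup.lowerCentralSeries_antitone ⊤ (by omega : k + 2 ≤ l) h4)

/-- The second two-step centraliser is the first one. -/
theorem layerCent_two (h5 : 3 ≤ n - 2) : layerCent G 2 = layerCent G 1 := by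
  have hle : layerCent G 1 ≤ layerCent G 2 := by
    intro c hc
    have hγ11 : ⁅γ 1, γ 1⁆ ≤ γ 4 := by
      obtain ⟨w, hw, hw'⟩ := exists_layer_gen hn hG hcl (by omega : 1 ≤ n - 2)
      have hgen : γ 1 = closure (insert w (γ 2 : Set G)) := by
        refine le_antisymm ?_ ((closure_le _).2 (Set.insert_subset hw
          (Subgroup.lowerCentralSeries_antitone ⊤ (by omega : 1 ≤ 2))))
        rw [← zpowers_sup_eq hn hG hcl le_rfl hw hw']
        exact sup_le (zpowers_le.2 (subset_closure (Set.mem_insert _ _)))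
          fun a ha => subset_closure (Set.mem_insert_of_mem _ ha)
      rw [hgen]
      refine commutator_closure_le _ _ _ ?_
      rintro a (rfl | ha) b (rfl | hb)
      · rw [commutatorElement_self]; exact one_mem _
      · exact lcs_comm_mem (i := 1) (j := 2) hw hb
      · exact lcs_comm_mem (i := 2) (j := 1) ha hw
      · exact Subgroup.lowerCentralSeries_antitone ⊤ (by omega) (lcs_comm_mem ha hb)
    let π := QuotientGroup.mk' (γ 4)
    have hker : ∀ H : Subgroup G, H ≤ γ 4 → H.map π = ⊥ := fun H h =>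
      (Subgroup.map_eq_bot_iff _).2 (h.trans (QuotientGroup.ker_mk' _).ge)
    have hc1 : ⁅γ 1, zpowers c⁆ ≤ γ 3 := by
      rw [commutator_le]
      intro a ha b hb
      exact mem_layerCent.1 ((zpowers_le.2 hc) hb) a ha
    have hbot : ⁅⁅γ 1, (⊤ : Subgroup G)⁆, zpowers c⁆.map π = ⊥ := by
      rw [map_commutator, map_commutator]
      refine commutator_commutator_eq_bot_of_rotate ?_ ?_
      · rw [← map_commutator, ← map_commutator]
        refine hker _ ((commutator_mono ?_ le_rfl).trans hγ11)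
        rw [top_lowerCentralSeries_one]
        exact commutator_mono le_rfl le_top
      · rw [← map_commutator, ← map_commutator]
        refine hker _ ((commutator_mono ((commutator_comm _ _).le.trans hc1) le_rfl).trans ?_)
        rw [← Subgroup.lowerCentralSeries_succ]
    refine mem_layerCent.2 fun w hw => ?_
    rw [← QuotientGroup.ker_mk' (γ 4)]
    refine (Subgroup.map_eq_bot_iff _).1 hbot (commutator_mem_commutator ?_ (mem_zpowers c))
    rwa [← Subgroup.lowerCentralSeries_succ]
  refine (Subgroup.eq_of_le_of_card_ge hle ?_).symm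
  have h1 := (layerCent G 1).card_mul_index
  have h2 := (layerCent G 2).card_mul_index
  rw [index_layerCent hn hG hcl le_rfl (by omega)] at h1
  rw [index_layerCent hn hG hcl (by omega : 1 ≤ 2) (by omega), ← h1] at h2
  exact (Nat.eq_of_mul_eq_mul_right (Fact.out : p.Prime).pos h2).le

/-- Outside any proper subgroup there is a uniform element. -/
theorem exists_uniform_not_mem (T : Subgroup G) (hT : T ≠ ⊤) :
    ∃ x ∉ T, Nat.card (centralizer ({x} : Set G)) = p ^ 2 := by
  classical
  have := Fintype.ofFinite G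
  have hp := (Fact.out : p.Prime)
  have hP := IsPGroup.of_card hG
  obtain ⟨x₀, hC₀, hx₀⟩ := exists_uniform hn hG hcl
  obtain ⟨M, hM, hTM⟩ := (eq_top_or_exists_le_coatom T).resolve_left hT
  let K : Finset ℕ := ((Finset.Icc 1 (p - 1)).erase 2).filter fun k => k + 1 ≤ n - 2
  let 𝒦 : Finset (Subgroup G) := insert M (K.image fun k => layerCent G k)
  have hKc : K.card + 1 ≤ p := by
    refine Nat.succ_le_of_lt (lt_of_le_of_lt ((Finset.card_filter_le _ _).trans (Finset.card_erase_le)) ?_)
    rw [Nat.card_Icc]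
    have := hp.two_le
    omega
  have hcard : 𝒦.card ≤ p :=
    (Finset.card_insert_le _ _).trans ((Nat.add_le_add_right Finset.card_image_le 1).trans hKc)
  have hmax : ∀ A ∈ 𝒦, A.index = p ∧ γ 1 ≤ A := by
    intro A hA
    rcases Finset.mem_insert.1 hA with rfl | hA
    · refine ⟨PGroup.index_of_isCoatom hP hM, ?_⟩
      rw [top_lowerCentralSeries_one]
      exact (PGroup.commutator_le_frattini hP).trans (frattini_le_coatom hM)
    · obtain ⟨k, hk, rfl⟩ := Finset.mem_image.1 hA
      obtain ⟨hk', hkn⟩ := Finset.mem_filter.1 hk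
      have hk1 := (Finset.mem_Icc.1 (Finset.mem_of_mem_erase hk')).1
      exact ⟨index_layerCent hn hG hcl hk1 hkn, lcs_one_le_layerCent k⟩
  obtain ⟨x, hx1, hxK⟩ : ∃ x : G, x ∉ γ 1 ∧ ∀ A ∈ 𝒦, x ∉ A := by
    by_contra hcon
    push Not at hcon
    have hsub : (Finset.univ : Finset G).erase 1 ⊆
        𝒦.biUnion fun A => ((Finset.univ : Finset G).filter (· ∈ A)).erase 1 := by
      intro g hg
      have hg1 := (Finset.mem_erase.mp hg).1
      by_cases hg' : g ∈ γ 1
      · exact Finset.mem_biUnion.mpr ⟨M, Finset.mem_insert_self _ _, Finset.mem_erase.mpr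
          ⟨hg1, Finset.mem_filter.mpr ⟨Finset.mem_univ g, (hmax M (Finset.mem_insert_self _ _)).2 hg'⟩⟩⟩
      · obtain ⟨A, hA, hgA⟩ := hcon g hg'
        exact Finset.mem_biUnion.mpr
          ⟨A, hA, Finset.mem_erase.mpr ⟨hg1, Finset.mem_filter.mpr ⟨Finset.mem_univ g, hgA⟩⟩⟩
    have h1 := (Finset.card_le_card hsub).trans
      (Finset.card_biUnion_le_card_mul _ _ (p ^ (n - 1) - 1) (fun A hA => by
        rw [Finset.card_erase_of_mem (by simp)]
        refine Nat.sub_le_sub_right (le_of_eq ?_) 1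
        rw [← Fintype.card_subtype, ← Nat.card_eq_fintype_card]
        have h := A.card_mul_index
        rw [(hmax A hA).1, hG,
          show p ^ n = p ^ (n - 1) * p by rw [← pow_succ]; congr 1; omega] at h
        exact Nat.eq_of_mul_eq_mul_right hp.pos h))
    rw [Finset.card_erase_of_mem (Finset.mem_univ 1), Finset.card_univ, ← Nat.card_eq_fintype_card,
      hG] at h1
    have h2 : 𝒦.card * (p ^ (n - 1) - 1) ≤ p * (p ^ (n - 1) - 1) := Nat.mul_le_mul_right _ hcard
    rw [show p * (p ^ (n - 1) - 1) = p ^ n - p by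
      rw [Nat.mul_sub, mul_one, ← pow_succ', show n - 1 + 1 = n by omega]] at h2
    have h3 : p ≤ p ^ n := Nat.le_self_pow (by omega) p
    have := hp.two_le
    omega
  refine ⟨x, fun h => hxK M (Finset.mem_insert_self _ _) (hTM h),
    (uniform_of_not_mem hn hG hcl hx1 ?_).1⟩
  intro k
  induction k using Nat.strong_induction_on with
  | _ k ih =>
    intro hk hkn
    by_cases hkp : k ≤ p - 1
    · by_cases hk2 : k = 2
      · subst hk2
        rw [layerCent_two hn hG hcl (by omega)]
        exact ih 1 (by omega) le_rfl (by omega)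
      · exact hxK _ (Finset.mem_insert_of_mem (Finset.mem_image_of_mem _ (Finset.mem_filter.2
          ⟨Finset.mem_erase.2 ⟨hk2, Finset.mem_Icc.2 ⟨hk, hkp⟩⟩, hkn⟩)))
    · have := hp.two_le
      have he := layerCent_periodic hn hG hcl hx₀ hC₀ (j := k - (p - 1)) (by omega) (by omega)
      rw [show k - (p - 1) + (p - 1) = k by omega] at he
      rw [he]
      exact ih _ (by omega) (by omega) (by omega)

end MaxClassFacts

section Essential

/-- A subgroup containing a uniform element outside an invariant normal subgroup is not essential. -/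
theorem not_essential {G : Type u} [Group G] [Finite G] {p n : ℕ} [Fact p.Prime] (P : Sylow p G)
    (hn : 3 ≤ n) (hP : Nat.card P = p ^ n)
    (hcl : (⊤ : Subgroup ↥(P : Subgroup G)).lowerCentralSeries (n - 2) ≠ ⊥)
    (N : Subgroup G) [N.Normal] (hN : p ^ 2 ≤ Nat.card (N.subgroupOf (P : Subgroup G)))
    (R : Subgroup G) (hR : (groupFusionSystem (P : Subgroup G)).IsEssential p R)
    {x : ↥(P : Subgroup G)} (hxR : (x : G) ∈ R) (hxN : (x : G) ∉ N)
    (hC : Nat.card (centralizer ({x} : Set ↥(P : Subgroup G))) = p ^ 2) : False := by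
  classical
  revert x
  set S : Subgroup G := (P : Subgroup G) with hSdef
  intro x hxR hxN hC
  set F := groupFusionSystem S
  have hp := (Fact.out : p.Prime)
  have hS : IsPGroup p S := P.isPGroup'
  have hF : F.IsSaturated p := groupFusionSystem_saturated P
  have hRS : R ≤ S := hR.1.1
  have hRne : R ≠ S := fun h => not_essential_self hS hF (h ▸ hR)
  set E : Subgroup ↥S := R.subgroupOf S with hE
  have hxE : x ∈ E := mem_subgroupOf.2 hxR
  have hEtop : E ≠ ⊤ := fun h => hRne (le_antisymm hRS (subgroupOf_eq_top.1 h))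
  let Γ := fun k : ℕ => (⊤ : Subgroup ↥S).lowerCentralSeries k
  have hZ : Γ (n - 2) ≤ E := by
    intro z hz
    refine mem_subgroupOf.2 (isCentric_centralizerIn_le hR.1 (mem_centralizerIn.2 ⟨z.2, fun a ha => ?_⟩))
    have h1 : ⁅z, (⟨a, hRS ha⟩ : ↥S)⁆ = 1 := by
      have h2 := lcs_succ_mem hz (⟨a, hRS ha⟩ : ↥S)
      rw [lcs_high hn hP (by omega : n - 1 ≤ n - 2 + 1), mem_bot] at h2
      exact h2
    exact (congrArg Subtype.val (commutatorElement_eq_one_iff_mul_comm.1 h1)).symm
  -- `E = ⟨x⟩ D`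
  set M := zpowers x ⊔ Γ 1 with hM
  have hx1 : x ∉ Γ 1 := not_mem_commutator hn hP hcl hC
  have hEM : E ≤ M := by
    intro g hg
    by_contra h
    refine hEtop (top_le_iff.1 ((closure_pair_eq_top hn hP hcl hx1 h).ge.trans ?_))
    exact (closure_le _).2 (Set.insert_subset hxE (Set.singleton_subset_iff.2 hg))
  have hxp : x ^ p ∈ Γ 1 := pow_prime_mem_lcs_one hn hP hcl x
  obtain ⟨j, hj1, hjn, hD⟩ := eq_lcs_of_invariant hn hP hcl hC (E ⊓ Γ 1) inf_le_right fun h hh =>
    mem_inf.2 ⟨E.mul_mem (E.mul_mem hxE (mem_inf.1 hh).1) (E.inv_mem hxE),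
      (inferInstance : (Γ 1).Normal).conj_mem h (mem_inf.1 hh).2 x⟩
  have hjn2 : j ≤ n - 2 := by
    by_contra hlt
    refine hcl (le_bot_iff.1 ?_)
    rw [← lcs_high (G := ↥S) hn hP (by omega : n - 1 ≤ j)]
    exact (le_inf hZ (Subgroup.lowerCentralSeries_antitone ⊤ (by omega : 1 ≤ n - 2))).trans hD.le
  have hjE : Γ j ≤ E := hD.ge.trans inf_le_left
  have hcomb : ∀ g ∈ M, ∃ a : ℤ, ∃ d ∈ Γ 1, g = x ^ a * d := by
    intro g hg
    obtain ⟨y, hy, d, hd, rfl⟩ := mem_sup_of_normal_right.1 hg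
    obtain ⟨a, rfl⟩ := mem_zpowers_iff.1 hy
    exact ⟨a, d, hd, rfl⟩
  have hkey : ∀ g ∈ M, g ∉ Γ 1 → ∀ H : Subgroup ↥S, Γ 1 ≤ H → g ∈ H → x ∈ H := by
    intro g hg hg1 H hH hgH
    obtain ⟨a, d, hd, rfl⟩ := hcomb g hg
    have hxa : x ^ a ∈ H := by simpa using H.mul_mem hgH (H.inv_mem (hH hd))
    have hpa : ¬ (p : ℤ) ∣ a := by
      rintro ⟨b, rfl⟩
      apply hg1
      rw [zpow_mul, zpow_natCast]
      exact (Γ 1).mul_mem ((Γ 1).zpow_mem hxp b) hd
    obtain ⟨u, v, huv⟩ := (Nat.prime_iff_prime_int.1 hp).coprime_iff_not_dvd.2 hpa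
    have : x = (x ^ p) ^ u * (x ^ a) ^ v := by
      rw [← zpow_natCast, ← zpow_mul, ← zpow_mul, ← zpow_add, mul_comm (p : ℤ) u, mul_comm a v, huv,
        zpow_one]
    rw [this]
    exact H.mul_mem (H.zpow_mem (hH hxp) u) (H.zpow_mem hxa v)
  -- `E ∩ N = γ m`
  set T := N.subgroupOf S with hT
  have hxT : x ∉ T := fun h => hxN (mem_subgroupOf.1 h)
  obtain ⟨i, hi1, hin', hi⟩ := eq_lcs_of_invariant hn hP hcl hC (T ⊓ Γ 1) inf_le_right fun h hh =>
    mem_inf.2 ⟨(inferInstance : T.Normal).conj_mem h (mem_inf.1 hh).1 x,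
      (inferInstance : (Γ 1).Normal).conj_mem h (mem_inf.1 hh).2 x⟩
  have hTE : T ⊓ E ≤ Γ 1 := by
    intro g hg
    by_contra hg1
    obtain ⟨a, d, hd, rfl⟩ := hcomb g (hEM (mem_inf.1 hg).2)
    have hpa : ¬ (p : ℤ) ∣ a := by
      rintro ⟨b, rfl⟩
      apply hg1
      rw [zpow_mul, zpow_natCast]
      exact (Γ 1).mul_mem ((Γ 1).zpow_mem hxp b) hd
    have hgen : x ∈ zpowers (x ^ a) := by
      obtain ⟨k, hk⟩ := IsPGroup.iff_orderOf.1 hS x
      obtain ⟨u, v, huv⟩ := ((Nat.prime_iff_prime_int.1 hp).coprime_iff_not_dvd.2 hpa).pow_left (m := k)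
      refine mem_zpowers_iff.2 ⟨v, ?_⟩
      have h1 : x ^ ((p : ℤ) ^ k) = 1 := by
        rw [← Nat.cast_pow, zpow_natCast, ← hk, pow_orderOf_eq_one]
      calc (x ^ a) ^ v = (x ^ ((p : ℤ) ^ k)) ^ u * (x ^ a) ^ v := by rw [h1, one_zpow, one_mul]
        _ = x := by
          rw [← zpow_mul, ← zpow_mul, ← zpow_add, mul_comm ((p : ℤ) ^ k) u, mul_comm a v, huv, zpow_one]
    have hCa : centralizer ({x ^ a} : Set ↥S) = centralizer ({x} : Set ↥S) := by
      ext c
      simp only [mem_centralizer_singleton_iff]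
      constructor
      · intro hc
        obtain ⟨v, hv⟩ := mem_zpowers_iff.1 hgen
        rw [← hv]
        exact (Commute.zpow_right (show Commute c (x ^ a) from hc) v).eq
      · exact fun hc => (Commute.zpow_right (show Commute c x from hc) a).eq
    obtain ⟨c, hc⟩ := exists_commutator_eq hn hP hcl (x := x ^ a) (by rw [hCa]; exact hC) hd
    have h1 : x ^ a ∈ T := by
      have h2 := (inferInstance : T.Normal).conj_mem _ (mem_inf.1 hg).1 c⁻¹
      rw [← hc] at h2
      simpa [mul_assoc] using h2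
    obtain ⟨v, hv⟩ := mem_zpowers_iff.1 hgen
    exact hxT (hv ▸ T.zpow_mem h1 v)
  have hin : i ≤ n - 2 ∧ (j < i → i + 1 ≤ n - 2) := by
    suffices hs : j < i → i + 1 ≤ n - 2 by
      refine ⟨?_, hs⟩
      by_contra hlt
      have := hs (by omega)
      omega
    intro hji
    -- `|T ∩ γ 1| ≥ p` unless `γ 1 ≤ T`
    by_contra hlt
    have hcard : Nat.card ↥(T ⊓ Γ 1) ≤ p := by
      rw [hi, card_lcs hn hP hcl hi1]
      exact (Nat.pow_le_pow_right hp.pos (by omega : n - 1 - i ≤ 1)).trans (pow_one p).le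
    obtain ⟨r, hr⟩ := PGroup.index_eq_pow hS T
    have hr1 : ¬ r ≤ 1 := by
      intro hr1
      have h0 : T ≠ ⊤ := fun h => hxT (h ▸ mem_top x)
      have hΓT : Γ 1 ≤ T := by
        obtain ⟨A, hA, hTA⟩ := (eq_top_or_exists_le_coatom T).resolve_left h0
        have : T = A := by
          refine eq_of_le_of_card_ge hTA ?_
          have h1 := T.card_mul_index
          have h2 := A.card_mul_index
          rw [PGroup.index_of_isCoatom hS hA, ← h1, hr] at h2
          exact Nat.le_of_mul_le_mul_right (h2.le.trans (Nat.mul_le_mul_left _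
            ((Nat.pow_le_pow_right hp.pos hr1).trans (pow_one p).le))) hp.pos
        rw [this]
        show (⊤ : Subgroup ↥S).lowerCentralSeries 1 ≤ A
        rw [top_lowerCentralSeries_one]
        exact (PGroup.commutator_le_frattini hS).trans (frattini_le_coatom hA)
      rw [inf_eq_right.2 hΓT] at hi
      have h2 := congrArg (fun H : Subgroup ↥S => Nat.card H) hi
      simp only [Γ, card_lcs hn hP hcl le_rfl, card_lcs hn hP hcl hi1] at h2
      have := Nat.pow_right_injective hp.two_le h2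
      omega
    have hTle : T = Γ (r - 1) := PGroup.normal_eq_lcs_of_maximal hn hP
      (class_eq hn hP hcl) T (by omega) hr
    rw [inf_eq_left.2 (hTle.le.trans (Subgroup.lowerCentralSeries_antitone ⊤ (by omega)))] at hcard
    have := hN.trans hcard
    nlinarith [hp.two_le]
  have hm : T ⊓ E = Γ (max i j) := by
    refine le_antisymm ?_ ?_
    · intro g hg
      rcases le_total i j with h | h
      · rw [max_eq_right h]; exact hD.le (mem_inf.2 ⟨(mem_inf.1 hg).2, hTE hg⟩)
      · rw [max_eq_left h]; exact hi.le (mem_inf.2 ⟨(mem_inf.1 hg).1, hTE hg⟩)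
    · exact le_inf ((Subgroup.lowerCentralSeries_antitone ⊤ (le_max_left i j)).trans (hi.ge.trans inf_le_left))
        ((Subgroup.lowerCentralSeries_antitone ⊤ (le_max_right i j)).trans hjE)
  -- transport to `R`
  let ι : ↥R →* ↥S := inclusion hRS
  have hι : Function.Injective ι := inclusion_injective hRS
  have hrange : ι.range = E := inclusion_range hRS
  let f : ℕ → Subgroup ↥R := fun k => (Γ k).comap ι
  have hfmap : ∀ k, j ≤ k → (f k).map ι = Γ k := fun k hk => by
    show ((Γ k).comap ι).map ι = Γ k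
    rw [Subgroup.map_comap_eq, hrange]
    exact inf_eq_right.2 ((Subgroup.lowerCentralSeries_antitone ⊤ hk).trans hjE)
  have hinvW : ∀ α ∈ F.autGroup R, ∀ r ∈ f (max i j), α r ∈ f (max i j) := by
    intro α hα r hr
    obtain ⟨g, -, hg⟩ := mem_autInducedBy_iff.1 ((group_autGroup hRS).le hα)
    show ι (α r) ∈ Γ (max i j)
    rw [← hm]
    refine mem_inf.2 ⟨mem_subgroupOf.2 ?_, mem_subgroupOf.2 (α r).2⟩
    show ((α r : R) : G) ∈ N
    rw [hg r]
    exact (inferInstance : N.Normal).conj_mem _ (mem_subgroupOf.1 (hm.ge hr : ι r ∈ T ⊓ E).1) g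
  have hstep : ∀ k, j ≤ k → f (k + 1) = ⁅f k, (⊤ : Subgroup ↥R)⁆ := fun k hk => by
    apply map_injective hι
    rw [hfmap (k + 1) (by omega), map_commutator, hfmap k hk, ← MonoidHom.range_eq_map, hrange]
    exact (commutator_layer hn hP hcl hC E hxE (by omega)).symm
  have hdown : ∀ α ∈ F.autGroup R, ∀ k, j ≤ k → (∀ r ∈ f k, α r ∈ f k) → ∀ d, ∀ r ∈ f (k + d), α r ∈ f (k + d) := by
    intro α hα k hk h0 d
    induction d with
    | zero => exact h0
    | succ d ih =>
      intro r hr
      rw [← add_assoc, hstep _ (by omega)] at hr ⊢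
      have h1 : ⁅f (k + d), (⊤ : Subgroup ↥R)⁆.map α.toMonoidHom ≤ ⁅f (k + d), (⊤ : Subgroup ↥R)⁆ := by
        rw [map_commutator]
        refine commutator_mono ?_ le_top
        rintro _ ⟨a, ha, rfl⟩
        exact ih a ha
      exact h1 ⟨r, hr, rfl⟩
  have hinvj : ∀ α ∈ F.autGroup R, ∀ r ∈ f j, α r ∈ f j := by
    intro α hα r hr
    rcases le_or_gt i j with h | h
    · have h1 := hinvW α hα r (by rwa [max_eq_right h])
      rwa [max_eq_right h] at h1
    · have hmi : max i j = i := max_eq_left h.le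
      have hi2 : i + 1 ≤ n - 2 := hin.2 h
      have hchar : ∀ e : ↥R, e ∈ f j ↔ ∀ w ∈ f i, ⁅w, e⁆ ∈ f (i + 2) := by
        intro e
        constructor
        · intro he w hw
          show ι ⁅w, e⁆ ∈ Γ (i + 2)
          rw [map_commutatorElement]
          exact mem_layerCent.1 (lcs_one_le_layerCent i
            (Subgroup.lowerCentralSeries_antitone ⊤ hj1 he)) _ hw
        · intro he
          have heL : ι e ∈ layerCent ↥S i := mem_layerCent.2 fun w hw => by
            obtain ⟨w', hw', rfl⟩ := (hfmap i h.le).ge hw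
            rw [← map_commutatorElement]
            exact he w' hw'
          have heE : ι e ∈ E := hrange.le ⟨e, rfl⟩
          show ι e ∈ Γ j
          refine hD.le (mem_inf.2 ⟨heE, ?_⟩)
          by_contra he1
          exact not_layerCent hn hP hcl hC hi1 hi2
            (hkey _ (hEM heE) he1 _ (lcs_one_le_layerCent i) heL)
      have hfi : ∀ β ∈ F.autGroup R, ∀ w ∈ f i, β w ∈ f i := fun β hβ w hw => by
        have h1 := hinvW β hβ w (by rwa [hmi])
        rwa [hmi] at h1
      refine (hchar _).2 fun w hw => ?_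
      have h1 := (hchar r).1 hr (α⁻¹ w) (hfi _ ((F.autGroup R).inv_mem hα) w hw)
      have h2 := hdown α hα i h.le (hfi α hα) 2 _ h1
      rw [map_commutatorElement, MulAut.apply_inv_self] at h2
      exact h2
  -- the chain
  have hcardf : ∀ k, j ≤ k → Nat.card (f k) = p ^ (n - 1 - k) := fun k hk => by
    rw [← card_lcs hn hP hcl (by omega : 1 ≤ k)]
    show Nat.card ↥(f k) = Nat.card ↥(Γ k)
    rw [← hfmap k hk, Nat.card_congr (equivMapOfInjective (f k) ι hι).toEquiv]
  have hf0 : f (n - 1) = ⊥ := by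
    show (Γ (n - 1)).comap ι = ⊥
    rw [show Γ (n - 1) = ⊥ from lcs_high hn hP le_rfl, MonoidHom.comap_bot]
    exact (MonoidHom.ker_eq_bot_iff _).2 hι
  let g : ℕ → Subgroup ↥R := fun t => if t ≤ n - 1 - j then f (n - 1 - t) else ⊤
  have htopcard : Nat.card ↥R ≤ p * Nat.card (f j) := by
    have h1 : E ≤ zpowers x ⊔ Γ j := by
      intro e he
      obtain ⟨a, d, hd, rfl⟩ := hcomb e (hEM he)
      have hdE : d ∈ E := by simpa using E.mul_mem (E.inv_mem (E.zpow_mem hxE a)) he
      exact mul_mem_sup (zpow_mem_zpowers x a) (hD.le (mem_inf.2 ⟨hdE, hd⟩))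
    have h2 : zpowers x ⊔ Γ j ≤ E := sup_le (zpowers_le.2 hxE) hjE
    have h3 : (Γ j).relIndex E ≤ p := by
      rw [le_antisymm h1 h2, Subgroup.relIndex_sup_right]
      refine Nat.le_of_dvd hp.pos ?_
      rw [← QuotientGroup.ker_mk' (Γ j), Subgroup.relIndex_ker, MonoidHom.map_zpowers,
        Nat.card_zpowers]
      refine orderOf_dvd_of_pow_eq_one ?_
      rw [← map_pow]
      exact (QuotientGroup.eq_one_iff _).2 (hD.le (mem_inf.2 ⟨E.pow_mem hxE p, hxp⟩))
    have h4 := relIndex_mul_relIndex ⊥ (Γ j) E bot_le hjE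
    rw [relIndex_bot_left, relIndex_bot_left] at h4
    have h5 : Nat.card E = Nat.card R := Nat.card_congr (subgroupOfEquivOfLe hRS).toEquiv
    rw [hcardf j le_rfl, ← card_lcs hn hP hcl hj1, ← h5, ← h4, mul_comm p]
    exact Nat.mul_le_mul_left _ h3
  refine SmallEss.false_of_chain hS hR g (n - j) ?_ ?_ ?_ ?_ ?_
  · show (if 0 ≤ n - 1 - j then f (n - 1 - 0) else ⊤) = ⊥
    rw [if_pos (Nat.zero_le _), Nat.sub_zero, hf0]
  · exact if_neg (by omega)
  · intro t ht
    simp only [g, if_pos (show t ≤ n - 1 - j by omega)]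
    split_ifs
    · exact comap_mono (Subgroup.lowerCentralSeries_antitone ⊤ (by omega))
    · exact le_top
  · intro t ht
    simp only [g, if_pos (show t ≤ n - 1 - j by omega)]
    split_ifs with h2
    · rw [hcardf _ (by omega), hcardf _ (by omega), ← pow_succ']
      exact Nat.pow_le_pow_right hp.pos (by omega)
    · rw [card_top, show n - 1 - t = j by omega]
      exact htopcard
  · intro t ht α hα r hr
    simp only [g] at hr ⊢
    split_ifs at hr ⊢ with h2
    · have h3 := hdown α hα j le_rfl (hinvj α hα) (n - 1 - t - j)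
      rw [show j + (n - 1 - t - j) = n - 1 - t by omega] at h3
      exact h3 r hr
    · exact mem_top _

/-- Elements with a small centraliser outside a large normal subgroup stay so under fusion. -/
theorem factorization_centralizer {G : Type u} [Group G] [Finite G] {p n : ℕ} [Fact p.Prime]
    (P : Sylow p G) (hn : 3 ≤ n) (hP : Nat.card P = p ^ n)
    (hcl : (⊤ : Subgroup ↥(P : Subgroup G)).lowerCentralSeries (n - 2) ≠ ⊥)
    (N : Subgroup G) [N.Normal] (hN : p ^ 2 ≤ Nat.card (N.subgroupOf (P : Subgroup G)))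
    {x : ↥(P : Subgroup G)} (hxN : (x : G) ∉ N)
    (hC : Nat.card (centralizer ({x} : Set ↥(P : Subgroup G))) = p ^ 2) :
    (Nat.card (centralizer ({(x : G)} : Set G))).factorization p = 2 := by
  classical
  revert x
  set S : Subgroup G := (P : Subgroup G) with hSdef
  intro x hxN hC
  set F := groupFusionSystem S
  have hp := (Fact.out : p.Prime)
  have hS : IsPGroup p S := P.isPGroup'
  have hF : F.IsSaturated p := groupFusionSystem_saturated P
  let X : Set G := {v | ∃ hv : v ∈ S, v ∉ N ∧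
    Nat.card (centralizer ({⟨v, hv⟩} : Set ↥S)) = p ^ 2}
  let C : ∀ Q : Subgroup G, (Q →* G) → Prop := fun Q φ => ∀ r : Q, (r : G) ∈ X ↔ φ r ∈ X
  have hpres : ∀ (e : ↥S ≃* ↥S) (g : G), (∀ s : ↥S, (e s : G) = g * s * g⁻¹) →
      ∀ v : ↥S, (v : G) ∈ X → (e v : G) ∈ X := by
    rintro e g hg v ⟨hv, hvN, hvC⟩
    refine ⟨(e v).2, fun h => hvN ?_, ?_⟩
    · rw [hg] at h
      have := (inferInstance : N.Normal).conj_mem _ h g⁻¹
      simpa [mul_assoc] using this
    · have h1 : (centralizer ({v} : Set ↥S)).map e.toMonoidHom = centralizer ({e v} : Set ↥S) := by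
        ext c
        constructor
        · rintro ⟨a, ha, rfl⟩
          refine mem_centralizer_singleton_iff.2 ?_
          show e a * e v = e v * e a
          rw [← map_mul, ← map_mul, mem_centralizer_singleton_iff.1 ha]
        · intro hc
          refine ⟨e.symm c, mem_centralizer_singleton_iff.2 (e.injective ?_), e.apply_symm_apply c⟩
          rw [map_mul, map_mul, e.apply_symm_apply]
          exact mem_centralizer_singleton_iff.1 hc
      show Nat.card (centralizer ({(⟨(e v : G), (e v).2⟩ : ↥S)} : Set ↥S)) = p ^ 2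
      show Nat.card (centralizer ({e v} : Set ↥S)) = p ^ 2
      rw [← h1, ← Nat.card_congr (equivMapOfInjective _ e.toMonoidHom e.injective).toEquiv]
      exact hvC
  have hconjS : ∀ g ∈ S, ∀ v : G, v ∈ S → (v ∈ X ↔ g * v * g⁻¹ ∈ X) := by
    intro g hg v hv
    constructor
    · exact hpres (MulAut.conj (⟨g, hg⟩ : ↥S)) g (fun s => rfl) ⟨v, hv⟩
    · intro h
      have h1 := hpres (MulAut.conj (⟨g, hg⟩⁻¹ : ↥S)) g⁻¹ (fun s => rfl)
        ⟨g * v * g⁻¹, S.mul_mem (S.mul_mem hg hv) (S.inv_mem hg)⟩ h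
      simpa [mul_assoc] using h1
  let F' := Fusion.subsystemOf F C (fun Q g hQ hg r => hconjS g hg r (hQ r.2))
    (fun Q Q' φ ψ _ _ hφ hψ h r => (hφ r).trans (hψ ⟨φ r, h r⟩))
    (fun Q φ ψ _ hφ _ hi y => by
      obtain ⟨_, r, rfl⟩ := y
      rw [hi r]
      exact (hφ r).symm)
  have hle : F ≤ F' := by
    refine alperin_essential hS hF F' fun R hR α hα => subset_closure ⟨?_, ?_⟩
    · exact (mem_autGroup_iff (hR.elim (fun h => h.le) fun h => h.1.1)).1 hα
    · intro r
      show (r : G) ∈ X ↔ ((α r : R) : G) ∈ X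
      rcases hR with rfl | hR
      · obtain ⟨g, -, hg⟩ := mem_autInducedBy_iff.1 ((group_autGroup le_rfl).le hα)
        obtain ⟨g', -, hg'⟩ := mem_autInducedBy_iff.1 ((group_autGroup le_rfl).le
          ((F.autGroup S).inv_mem hα))
        refine ⟨hpres α g hg r, fun h => ?_⟩
        have := hpres α⁻¹ g' hg' (α r) h
        rwa [MulAut.inv_apply_self] at this
      · have hno : ∀ r : R, (r : G) ∉ X := by
          rintro r ⟨hv, hvN, hvC⟩
          exact not_essential P hn hP hcl N hN R hR (x := ⟨r, hv⟩) r.2 hvN hvC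
        exact ⟨fun h => absurd h (hno r), fun h => absurd h (hno _)⟩
  -- the centraliser
  obtain ⟨R₀, hR₀⟩ : ∃ R₀ : Sylow p ↥(centralizer ({(x : G)} : Set G)), True := ⟨default, trivial⟩
  set CG := centralizer ({(x : G)} : Set G) with hCG
  set R := (R₀ : Subgroup CG).map CG.subtype with hR
  have hRC : R ≤ CG := map_subtype_le _
  have hxR : (x : G) ∈ R := by
    have hxC : (x : G) ∈ CG := mem_centralizer_singleton_iff.2 rfl
    have hxc : (⟨x, hxC⟩ : CG) ∈ center ↥CG := mem_center_iff.2 fun c =>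
      Subtype.ext (mem_centralizer_singleton_iff.1 c.2)
    have hxp : IsPGroup p (zpowers (⟨(x : G), hxC⟩ : CG)) := by
      rintro ⟨y, hy⟩
      obtain ⟨k, rfl⟩ := mem_zpowers_iff.1 hy
      obtain ⟨m, hm⟩ := hS x
      refine ⟨m, Subtype.ext (Subtype.ext ?_)⟩
      have hm' : (x : G) ^ p ^ m = 1 := congrArg Subtype.val hm
      push_cast
      rw [← zpow_natCast, ← zpow_mul, mul_comm, zpow_mul, zpow_natCast, hm', one_zpow]
    have hn' : (zpowers (⟨(x : G), hxC⟩ : CG)).Normal := ⟨fun y hy c => by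
      obtain ⟨k, rfl⟩ := mem_zpowers_iff.1 hy
      rw [mem_center_iff.1 (zpow_mem hxc k) c, mul_inv_cancel_right]
      exact hy⟩
    exact ⟨_, (le_sup_left.trans_eq (R₀.is_maximal' (IsPGroup.to_sup_of_normal_left hxp R₀.2)
      le_sup_right)) (mem_zpowers _), rfl⟩
  obtain ⟨g, hg⟩ := exists_conj_le P (R₀.2.map CG.subtype : IsPGroup p R)
  have hgR : ∀ r ∈ R, g * r * g⁻¹ ∈ S := fun r hr => hg ⟨r, hr, rfl⟩
  have hconj : conjHom (zpowers (x : G)) g ∈ F.Hom (zpowers (x : G)) := by
    refine conjHom_mem_groupHom (zpowers_le.2 x.2) ?_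
    rintro _ ⟨z, hz, rfl⟩
    exact hgR z (zpowers_le.2 hxR hz)
  have hy : g * (x : G) * g⁻¹ ∈ X :=
    ((hle _ hconj).2 ⟨x, mem_zpowers _⟩).1 ⟨x.2, hxN, hC⟩
  obtain ⟨hyS, -, hyC⟩ := hy
  -- `|R| ≤ p²`
  have hcard : Nat.card R ≤ p ^ 2 := by
    rw [← hyC]
    refine Nat.card_le_card_of_injective (fun r : R => (⟨⟨g * r * g⁻¹, hgR r r.2⟩,
      mem_centralizer_singleton_iff.2 (Subtype.ext ?_)⟩ :
        centralizer ({(⟨g * (x : G) * g⁻¹, hyS⟩ : ↥S)} : Set ↥S))) ?_
    · show g * r * g⁻¹ * (g * x * g⁻¹) = g * x * g⁻¹ * (g * r * g⁻¹)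
      calc g * r * g⁻¹ * (g * x * g⁻¹) = g * ((r : G) * x) * g⁻¹ := by group
        _ = g * ((x : G) * r) * g⁻¹ := by rw [mem_centralizer_singleton_iff.1 (hRC r.2)]
        _ = _ := by group
    · intro a b hab
      simp only [Subtype.mk.injEq] at hab
      exact Subtype.ext (mul_left_cancel (mul_right_cancel hab))
  have hRcard : Nat.card R = p ^ (Nat.card CG).factorization p := by
    rw [hR, ← Nat.card_congr (equivMapOfInjective _ _ CG.subtype_injective).toEquiv,
      Sylow.card_eq_multiplicity]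
  have hlow : p ^ 2 ∣ Nat.card CG := by
    rw [← hC, Nat.card_congr (equivMapOfInjective (centralizer ({x} : Set ↥S)) _ S.subtype_injective).toEquiv]
    refine Subgroup.card_dvd_of_le ?_
    rintro _ ⟨c, hc, rfl⟩
    exact mem_centralizer_singleton_iff.2 (congrArg Subtype.val (mem_centralizer_singleton_iff.1 hc))
  refine le_antisymm ?_ ((hp.pow_dvd_iff_le_factorization Nat.card_pos.ne').1 hlow)
  rw [hRcard] at hcard
  exact (Nat.pow_le_pow_iff_right hp.one_lt).1 hcard

/-- A normal subgroup meeting `P` in a central subgroup of order `p` is that subgroup. -/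
theorem small_case {G : Type u} [Group G] [Finite G] {p n : ℕ} [Fact p.Prime]
    (P : Sylow p G) (hn : 3 ≤ n) (hP : Nat.card P = p ^ n)
    (hmax : Group.nilpotencyClass ↥(P : Subgroup G) = n - 1) (hcore : Cfsg.pPrimeCore p G = ⊥)
    (hres : ∀ N : Subgroup G, N.Normal → (N.index).Coprime p → N = ⊤)
    (N : Subgroup G) [hNn : N.Normal] (hN : Nat.card (N.subgroupOf (P : Subgroup G)) < p ^ 2) :
    N ≤ center G ∧ Nat.card N ≤ p := by
  have hp := (Fact.out : p.Prime)
  set S : Subgroup G := (P : Subgroup G) with hSdef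
  have hS : IsPGroup p S := P.isPGroup'
  set T := N.subgroupOf S with hT
  obtain ⟨e, he⟩ := IsPGroup.iff_card.1 (hS.to_subgroup T)
  rw [he] at hN
  have he1 : e ≤ 1 := Nat.lt_succ_iff.1 ((Nat.pow_lt_pow_iff_right hp.one_lt).1 hN)
  -- the Sylow subgroup of `N`
  have hidx : ¬ p ∣ ((S.subgroupOf N)).index := fun h => by
    have h1 : S.relIndex N ∣ S.index := by
      have e1 := Subgroup.relIndex_mul_index (inf_le_left : S ⊓ N ≤ S)
      have e2 := Subgroup.relIndex_mul_index (inf_le_right : S ⊓ N ≤ N)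
      rw [Subgroup.inf_relIndex_left] at e1
      rw [Subgroup.inf_relIndex_right, ← e1] at e2
      obtain ⟨c, hc⟩ : N.relIndex S ∣ N.index := Subgroup.relIndex_dvd_index_of_normal N S
      rw [hc, mul_left_comm] at e2
      exact Dvd.intro c (Nat.eq_of_mul_eq_mul_left
        (Nat.pos_of_ne_zero fun h0 => Subgroup.index_ne_zero_of_finite
          (H := N) (by rw [hc, h0, zero_mul])) e2)
    exact P.not_dvd_index (h.trans h1)
  let Q : Sylow p ↥N := (IsPGroup.comap_of_injective hS N.subtype N.subtype_injective).toSylow hidx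
  have hQ : (Q : Subgroup N).map N.subtype = N ⊓ S := (subgroupOf_map_subtype S N).trans (inf_comm S N)
  have hQcard : Nat.card Q = p ^ e := by
    rw [← he, hT, ← inf_subgroupOf_left, Nat.card_congr (subgroupOfEquivOfLe inf_le_left).toEquiv,
      inf_comm S N, ← hQ, ← Nat.card_congr (equivMapOfInjective _ _ N.subtype_injective).toEquiv]
  have key : ∀ K : Subgroup ↥N, K.Normal → ¬ p ∣ Nat.card K → K = ⊥ := fun K hK hpK =>
    le_bot_iff.1 ((PCore.le_pPrimeCore (hN := hK) (hp.coprime_iff_not_dvd.2 hpK).symm).trans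
      (PCore.pPrimeCore_eq_bot_of_normal N hcore).le)
  rcases Nat.le_one_iff_eq_zero_or_eq_one.1 he1 with rfl | rfl
  · -- `p ∤ |N|`
    have hpN : ¬ p ∣ Nat.card N := by
      intro h
      obtain ⟨y, hy⟩ := exists_prime_orderOf_dvd_card' p h
      obtain ⟨R, hR⟩ := (IsPGroup.of_card (G := zpowers y) (n := 1)
        (by rw [Nat.card_zpowers, hy, pow_one])).exists_le_sylow
      obtain ⟨a, ha⟩ := MulAction.exists_smul_eq ↥N R Q
      have h1 : Nat.card R = 1 := by
        rw [Sylow.card_eq_multiplicity, ← Sylow.card_eq_multiplicity Q, hQcard, pow_zero]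
      have h2 : y ∈ (R : Subgroup N) := hR (mem_zpowers y)
      rw [Subgroup.card_eq_one.1 h1, mem_bot] at h2
      rw [h2, orderOf_one] at hy
      exact hp.one_lt.ne hy
    have h1 := key ⊤ inferInstance (by rwa [card_top])
    have hbot : N = ⊥ := by
      refine (eq_bot_iff_forall _).2 fun y hy => ?_
      have h2 : (⟨y, hy⟩ : N) ∈ (⊤ : Subgroup N) := mem_top _
      rw [h1, mem_bot] at h2
      exact congrArg Subtype.val h2
    subst hbot
    exact ⟨bot_le, by rw [card_bot]; exact hp.pos⟩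
  rw [pow_one] at hQcard he
  -- `T = Z(P)`
  haveI : Group.IsNilpotent ↥S := hS.isNilpotent
  have hTc : T ≤ center ↥S := by
    have hne := PGroup.inf_center_ne_bot hS T (fun h => by
      rw [h, card_bot] at he
      exact hp.one_lt.ne he)
    have h2 : T ⊓ center ↥S = T := eq_of_le_of_card_ge inf_le_left (by
      obtain ⟨c, hc⟩ := IsPGroup.iff_card.1 (hS.to_subgroup (T ⊓ center ↥S))
      rw [he, hc]
      refine Nat.le_self_pow (fun h0 => hne ?_) p
      rw [h0, pow_zero] at hc
      exact Subgroup.card_eq_one.1 hc)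
    exact h2.ge.trans inf_le_right
  have hTγ : T ≤ commutator ↥S := by
    have hc := PGroup.card_center_of_maximal hn hP hmax
    have h1 : T = center ↥S := eq_of_le_of_card_ge hTc (by rw [hc, he])
    rw [h1, ← top_lowerCentralSeries_one]
    have h2 : (⊤ : Subgroup ↥S).lowerCentralSeries (n - 2) ≤ center ↥S := by
      intro z hz
      refine mem_center_iff.mpr fun g => (commutatorElement_eq_one_iff_mul_comm.mp ?_).symm
      have h1 := lcs_succ_mem hz g
      rw [lcs_high hn hP (by omega : n - 1 ≤ n - 2 + 1), mem_bot] at h1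
      exact h1
    have h3 := card_lcs hn hP (PGroup.lcs_ne_bot_of_maximal hn hP hmax) (by omega : 1 ≤ n - 2)
    rw [show n - 1 - (n - 2) = 1 by omega, pow_one] at h3
    rw [← eq_of_le_of_card_ge h2 (by rw [hc, h3])]
    exact Subgroup.lowerCentralSeries_antitone ⊤ (by omega)
  set U := (Q : Subgroup N).map N.subtype with hU
  have hUS : U = N ⊓ S := hQ
  have hSU : S ≤ centralizer (U : Set G) := by
    intro s hs
    refine mem_centralizer_iff.2 fun u hu => ?_
    have huNS : u ∈ N ⊓ S := hUS.le hu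
    have h1 := mem_center_iff.1 (hTc (show (⟨u, huNS.2⟩ : ↥S) ∈ T from huNS.1)) ⟨s, hs⟩
    exact (congrArg Subtype.val h1).symm
  have hburn : normalizer ((Q : Subgroup N) : Set N) ≤ centralizer ((Q : Subgroup N) : Set N) := by
    intro t ht
    set M := normalizer (U : Set G) with hM
    have htM : (t : G) ∈ M := le_normalizer_map N.subtype ⟨t, ht, rfl⟩
    set Y := (N ⊓ M) ⊔ S with hY
    have hSM : S ≤ M := hSU.trans (centralizer_le_normalizer _)
    have hSY : S ≤ Y := le_sup_right
    let D : Subgroup ↥Y := (centralizer (U : Set G)).subgroupOf Y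
    have hDn : D.Normal := by
      refine ⟨fun d hd c => mem_subgroupOf.2 ?_⟩
      have hcM : (c : G) ∈ M := (sup_le inf_le_right hSM : Y ≤ M) c.2
      have hkn : ((centralizer (U : Set G)).subgroupOf M).Normal :=
        Subgroup.normalizerMonoidHom_ker U ▸ MonoidHom.normal_ker _
      have := hkn.conj_mem
        ⟨(d : G), (sup_le inf_le_right hSM : Y ≤ M) d.2⟩ (mem_subgroupOf.2 (mem_subgroupOf.1 hd))
        ⟨(c : G), hcM⟩
      exact mem_subgroupOf.1 this
    let P' : Sylow p ↥Y := P.subtype hSY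
    have hPD : (P' : Subgroup Y) ≤ D := fun d hd => mem_subgroupOf.2 (hSU hd)
    have htY : (t : G) ∈ Y := mem_sup_left (mem_inf.2 ⟨t.2, htM⟩)
    have htop := Sylow.normalizer_sup_eq_top' (N := D) P' hPD
    haveI := hDn
    obtain ⟨u, hu, c, hc, huc⟩ := mem_sup_of_normal_right.1 (htop.ge (mem_top (⟨t, htY⟩ : ↥Y)))
    have huS : (u : G) ∈ normalizer (S : Set G) := by
      refine mem_normalizer_iff.2 fun s => ⟨fun hs => ?_, fun hs => ?_⟩
      · exact ((mem_normalizer_iff.1 hu) ⟨s, hSY hs⟩).1 hs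
      · have hsY : s ∈ Y := by
          have h1 := Y.mul_mem (Y.mul_mem (Y.inv_mem u.2) (hSY hs)) u.2
          simpa [mul_assoc] using h1
        exact ((mem_normalizer_iff.1 hu) ⟨s, hsY⟩).2 hs
    have hsupM : S ≤ normalizer ((N ⊓ M : Subgroup G) : Set G) := by
      intro s hs
      exact Subgroup.inf_normalizer_le_normalizer_inf ⟨le_normalizer (mem_top s) |> fun _ =>
        (normalizer_eq_top_iff.2 hNn).ge (mem_top s), le_normalizer (hSM hs)⟩
    obtain ⟨m, hm, q, hq, hmq⟩ := (Cfsg.Agent.Coprime.mem_sup_iff_of_le_normalizer' hsupM).1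
      (show (u : G) ∈ S ⊔ (N ⊓ M) from sup_comm (N ⊓ M) S ▸ u.2)
    have hmN : m ∈ N := (mem_inf.1 hm).1
    have hmS : m ∈ normalizer (S : Set G) := by
      have h1 := mul_mem huS (inv_mem (le_normalizer hq : q ∈ normalizer (S : Set G)))
      rwa [← hmq, mul_inv_cancel_right] at h1
    let σ : MulAut ↥S := S.normalizerMonoidHom ⟨m, hmS⟩
    have hσ : ∀ s : ↥S, ((σ s : ↥S) : G) = m * s * m⁻¹ := fun s => rfl
    have hσT : ∀ s : ↥S, σ s * s⁻¹ ∈ T := by
      intro s
      show ((σ s * s⁻¹ : ↥S) : G) ∈ N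
      push_cast
      rw [hσ, mul_assoc m, mul_assoc m]
      exact N.mul_mem hmN (by simpa [mul_assoc] using hNn.conj_mem _ (N.inv_mem hmN) (s : G))
    have hfix : ∀ z ∈ commutator ↥S, σ z = z := by
      intro z hz
      refine (closure_le (MonoidHom.eqLocus σ.toMonoidHom (MonoidHom.id ↥S))).2 ?_
        ((commutator_eq_closure ↥S).le hz)
      rintro _ ⟨a, b, rfl⟩
      show σ ⁅a, b⁆ = ⁅a, b⁆
      have hca : ∀ c, c * (σ a * a⁻¹) = σ a * a⁻¹ * c := mem_center_iff.1 (hTc (hσT a))
      have hcb : ∀ c, c * (σ b * b⁻¹) = σ b * b⁻¹ * c := mem_center_iff.1 (hTc (hσT b))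
      rw [map_commutatorElement]
      conv_lhs => rw [show σ a = (σ a * a⁻¹) * a by group, show σ b = (σ b * b⁻¹) * b by group]
      generalize σ a * a⁻¹ = za at hca ⊢
      generalize σ b * b⁻¹ = zb at hcb ⊢
      calc ⁅za * a, zb * b⁆ = za * (a * zb) * b * a⁻¹ * za⁻¹ * b⁻¹ * zb⁻¹ := by
            rw [commutatorElement_def]; group
        _ = za * zb * (a * b * a⁻¹) * za⁻¹ * b⁻¹ * zb⁻¹ := by rw [hcb a]; group
        _ = zb * za * (a * b * a⁻¹) * za⁻¹ * b⁻¹ * zb⁻¹ := by rw [hcb za]
        _ = zb * (a * b * a⁻¹ * za) * za⁻¹ * b⁻¹ * zb⁻¹ := by rw [hca (a * b * a⁻¹)]; group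
        _ = zb * ⁅a, b⁆ * zb⁻¹ := by rw [commutatorElement_def]; group
        _ = ⁅a, b⁆ := by rw [← hcb, mul_inv_cancel_right]
    have hmC : m ∈ centralizer (U : Set G) := by
      refine mem_centralizer_iff.2 fun v hv => ?_
      have hvNS : v ∈ N ⊓ S := hUS.le hv
      have h1 := congrArg Subtype.val (hfix ⟨v, hvNS.2⟩ (hTγ (show (⟨v, hvNS.2⟩ : ↥S) ∈ T from hvNS.1)))
      rw [hσ] at h1
      exact (mul_inv_eq_iff_eq_mul.1 h1).symm
    have htC : (t : G) ∈ centralizer (U : Set G) := by
      have h1 : (t : G) = m * q * (c : G) := by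
        rw [hmq]
        exact (congrArg Subtype.val huc).symm
      rw [h1]
      exact mul_mem (mul_mem hmC (hSU hq)) (mem_subgroupOf.1 hc)
    exact mem_centralizer_iff.2 fun v hv =>
      Subtype.ext (mem_centralizer_iff.1 htC v ⟨v, hv, rfl⟩)
  obtain ⟨Q', K, hKn, hK⟩ := Transfer.hasNormalPComplement_of_normalizer_le_centralizer Q hburn
  have hKp : ¬ p ∣ Nat.card K := by
    intro h
    have h1 : (Q' : Subgroup N).index = Nat.card K := hK.index_eq_card
    exact Q'.not_dvd_index (h1 ▸ h)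
  have hK0 := key K hKn hKp
  have hNcard : Nat.card N = p := by
    rw [← hK.card_mul, hK0, card_bot, one_mul, Sylow.card_eq_multiplicity,
      ← Sylow.card_eq_multiplicity Q, hQcard]
  refine ⟨?_, hNcard.le⟩
  have hUN : U = N := eq_of_le_of_card_ge (map_subtype_le _) (by
    rw [hU, ← Nat.card_congr (equivMapOfInjective _ _ N.subtype_injective).toEquiv, hQcard, hNcard])
  have htop := hres (centralizer (N : Set G)) (Subgroup.normal_centralizer) (by
    refine (Nat.Coprime.coprime_dvd_left (index_dvd_of_le (hUN ▸ hSU)) ?_)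
    exact (hp.coprime_iff_not_dvd.2 P.not_dvd_index).symm)
  exact (centralizer_eq_top_iff_subset.1 htop)

end Essential



/-- Let G be a finite group whose Sylow p-subgroup P has order p ^ n with n ≥ 2 and nilpotency class n - 1 (maximal class), whose largest normal subgroup of order prime to p is trivial, and which has no proper normal subgroup of index prime to p. Then either some x ∈ P has a centralizer in G whose order has p-part p ^ 2, or G is quasisimple with centre of order at most p. -/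
theorem result {G : Type*} [Group G] [Finite G] (p : ℕ) [Fact p.Prime] (P : Sylow p G) (n : ℕ) (hP : Nat.card P = p ^ n) (hn : 2 ≤ n) (hmax : Group.nilpotencyClass ↥(P : Subgroup G) = n - 1) (hcore : Cfsg.pPrimeCore p G = ⊥) (hres : ∀ N : Subgroup G, N.Normal → (N.index).Coprime p → N = ⊤) : (∃ x ∈ (P : Subgroup G), (Nat.card (Subgroup.centralizer ({x} : Set G))).factorization p = 2) ∨ (Cfsg.IsQuasisimple G ∧ Nat.card (Subgroup.center G) ≤ p) := by
  classical
  have hp := (Fact.out : p.Prime)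
  by_cases h2 : n = 2
  · left
    subst h2
    refine ⟨1, Subgroup.one_mem _, ?_⟩
    rw [show Subgroup.centralizer ({(1 : G)} : Set G) = ⊤ from top_le_iff.1 fun g _ =>
      Subgroup.mem_centralizer_singleton_iff.2 (by simp), Subgroup.card_top]
    exact Nat.pow_right_injective hp.two_le ((Sylow.card_eq_multiplicity P).symm.trans hP)
  have hn3 : 3 ≤ n := by omega
  have hcl := PGroup.lcs_ne_bot_of_maximal hn3 hP hmax
  by_contra hcon
  push Not at hcon
  obtain ⟨hno, hq⟩ := hcon
  have hall : ∀ N : Subgroup G, N.Normal → N ≠ ⊤ → N ≤ Subgroup.center G ∧ Nat.card N ≤ p := by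
    intro N hN hNtop
    by_cases hbig : p ^ 2 ≤ Nat.card (N.subgroupOf (P : Subgroup G))
    · exfalso
      have hT : N.subgroupOf (P : Subgroup G) ≠ ⊤ := by
        intro h
        exact hNtop (hres N hN (Nat.Coprime.coprime_dvd_left
          (Subgroup.index_dvd_of_le (Subgroup.subgroupOf_eq_top.1 h))
          (hp.coprime_iff_not_dvd.2 P.not_dvd_index).symm))
      obtain ⟨x, hxT, hC⟩ := exists_uniform_not_mem hn3 hP hcl _ hT
      exact hno x x.2 (factorization_centralizer P hn3 hP hcl N hbig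
        (fun h => hxT (Subgroup.mem_subgroupOf.2 h)) hC)
    · exact small_case P hn3 hP hmax hcore hres N (by omega)
  have hnab : Subgroup.center G ≠ ⊤ := by
    intro h
    have hc := PGroup.card_center_of_maximal hn3 hP hmax
    have h1 : Subgroup.center ↥(P : Subgroup G) = ⊤ := top_le_iff.1 fun a _ =>
      Subgroup.mem_center_iff.2 fun b => Subtype.ext
        (Subgroup.mem_center_iff.1 (h ▸ Subgroup.mem_top (a : G)) (b : G))
    rw [h1, Subgroup.card_top, hP] at hc
    exact absurd (Nat.pow_right_injective hp.two_le (hc.trans (pow_one p).symm)) (by omega)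
  have hperf : commutator G = ⊤ := by
    by_contra hne
    obtain ⟨hle, -⟩ := hall _ inferInstance hne
    have hnil : Group.IsNilpotent G := by
      have hab : ∀ a b : G ⧸ Subgroup.center G, a * b = b * a := by
        intro a b
        obtain ⟨a, rfl⟩ := QuotientGroup.mk'_surjective _ a
        obtain ⟨b, rfl⟩ := QuotientGroup.mk'_surjective _ b
        rw [← commutatorElement_eq_one_iff_mul_comm, ← map_commutatorElement]
        exact (QuotientGroup.eq_one_iff _).2
          (hle (Subgroup.commutator_mem_commutator (Subgroup.mem_top a) (Subgroup.mem_top b)))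
      letI : CommGroup (G ⧸ Subgroup.center G) :=
        { (inferInstance : Group (G ⧸ Subgroup.center G)) with mul_comm := hab }
      exact Subgroup.isNilpotent_of_ker_le_center (QuotientGroup.mk' (Subgroup.center G))
        (QuotientGroup.ker_mk' _).le
    haveI := hnil
    have hPn : (P : Subgroup G).Normal :=
      Sylow.normal_of_normalizerCondition (Group.normalizerCondition_of_isNilpotent (G := G)) P
    by_cases hPtop : (P : Subgroup G) = ⊤
    · obtain ⟨x, -, hC⟩ := exists_uniform_not_mem hn3 hP hcl ⊥ (by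
        intro h
        have h1 := congrArg (fun H : Subgroup ↥(P : Subgroup G) => Nat.card H) h
        simp only [Subgroup.card_bot, Subgroup.card_top, hP] at h1
        have := (Nat.pow_eq_one.1 h1.symm).resolve_left hp.one_lt.ne'
        omega)
      refine hno x x.2 ?_
      have e : Nat.card (Subgroup.centralizer ({(x : G)} : Set G)) = p ^ 2 := by
        rw [← hC, Nat.card_congr (Subgroup.equivMapOfInjective
          (Subgroup.centralizer ({x} : Set ↥(P : Subgroup G))) _
          (P : Subgroup G).subtype_injective).toEquiv]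
        refine congrArg (fun H : Subgroup G => Nat.card H) (le_antisymm ?_ ?_)
        · intro c hc
          exact ⟨⟨c, hPtop.ge (Subgroup.mem_top c)⟩, Subgroup.mem_centralizer_singleton_iff.2
            (Subtype.ext (Subgroup.mem_centralizer_singleton_iff.1 hc)), rfl⟩
        · rintro _ ⟨c, hc, rfl⟩
          exact Subgroup.mem_centralizer_singleton_iff.2
            (congrArg Subtype.val (Subgroup.mem_centralizer_singleton_iff.1 hc))
      rw [e, hp.factorization_pow, Finsupp.single_eq_same]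
    · have h1 := (hall _ hPn hPtop).2
      rw [hP] at h1
      have := Nat.pow_le_pow_right hp.pos hn3
      nlinarith [hp.two_le, pow_succ p 2, pow_two p]
  refine absurd (hall _ inferInstance hnab).2 (not_le.2 (hq ⟨⟨hperf⟩, ?_⟩))
  haveI : Nontrivial (G ⧸ Subgroup.center G) := QuotientGroup.nontrivial_iff.2 hnab
  refine ⟨fun H hH => ?_⟩
  have hsur := QuotientGroup.mk'_surjective (Subgroup.center G)
  by_cases ht : H.comap (QuotientGroup.mk' (Subgroup.center G)) = ⊤
  · right
    rw [← Subgroup.map_comap_eq_self_of_surjective hsur H, ht, Subgroup.map_top_of_surjective _ hsur]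
  · left
    rw [← Subgroup.map_comap_eq_self_of_surjective hsur H, Subgroup.map_eq_bot_iff,
      QuotientGroup.ker_mk']
    exact (hall _ (hH.comap _) ht).1

end Cfsg.Agent.S3865
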