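import Cfsg.Statements.S3866
import Mathlib.GroupTheory.Index
import Mathlib.Tactic.Group

set_option autoImplicit false
open Cfsg

namespace Cfsg.Agent.S3866

/-- Let A be a commutative normal subgroup of the finite group G with G generated by A and an element x. Then a ↦ x a x⁻¹ a⁻¹ is a surjective homomorphism from A onto the commutator subgroup of G whose kernel is the centralizer of x in A; in particular the commutator subgroup has order equal to the index in A of that centralizer. -/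
theorem result {G : Type*} [Group G] [Finite G] (A : Subgroup G) [A.Normal] (hA : IsMulCommutative A) (x : G) (hgen : A ⊔ Subgroup.zpowers x = ⊤) : (∀ a ∈ A, x * a * x⁻¹ * a⁻¹ ∈ commutator G) ∧ (∀ c ∈ commutator G, ∃ a ∈ A, x * a * x⁻¹ * a⁻¹ = c) ∧ (∀ a ∈ A, ∀ b ∈ A, x * (a * b) * x⁻¹ * (a * b)⁻¹ = (x * a * x⁻¹ * a⁻¹) * (x * b * x⁻¹ * b⁻¹)) ∧ Nat.card (commutator G) * Nat.card ↥(A ⊓ Subgroup.centralizer ({x} : Set G)) = Nat.card A := by
  have hcomm : ∀ a ∈ A, ∀ b ∈ A, a * b = b * a := fun a ha b hb =>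
    congrArg Subtype.val (hA.is_comm.comm (⟨a, ha⟩ : A) ⟨b, hb⟩)
  have hfA : ∀ a ∈ A, x * a * x⁻¹ * a⁻¹ ∈ A := fun a ha =>
    mul_mem (Subgroup.Normal.conj_mem inferInstance a ha x) (inv_mem ha)
  have hmul : ∀ a ∈ A, ∀ b ∈ A, x * (a * b) * x⁻¹ * (a * b)⁻¹ =
      (x * a * x⁻¹ * a⁻¹) * (x * b * x⁻¹ * b⁻¹) := by
    intro a ha b hb
    have e := hcomm a⁻¹ (inv_mem ha) _ (hfA b hb)
    calc x * (a * b) * x⁻¹ * (a * b)⁻¹ = (x * a * x⁻¹) * ((x * b * x⁻¹ * b⁻¹) * a⁻¹) := by group
      _ = (x * a * x⁻¹) * (a⁻¹ * (x * b * x⁻¹ * b⁻¹)) := by rw [e]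
      _ = _ := by group
  have hmem : ∀ a ∈ A, x * a * x⁻¹ * a⁻¹ ∈ commutator G := fun a _ => by
    have h := Subgroup.commutator_mem_commutator (Subgroup.mem_top x) (Subgroup.mem_top a)
    rwa [commutatorElement_def] at h
  let f : A →* G :=
    { toFun := fun a => x * a * x⁻¹ * (a : G)⁻¹
      map_one' := by simp
      map_mul' := fun a b => hmul a a.2 b b.2 }
  have hfn : f.range.Normal := by
    refine Subgroup.normalizer_eq_top_iff.1 (top_le_iff.1 ?_)
    rw [← hgen, sup_le_iff, Subgroup.zpowers_le]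
    constructor
    · intro g hg
      rw [Subgroup.mem_normalizer_iff]
      intro y
      constructor
      · rintro ⟨a, rfl⟩
        exact ⟨a, by rw [hcomm g hg _ (show f a ∈ A from hfA a a.2), mul_inv_cancel_right]⟩
      · rintro ⟨a, ha⟩
        have hgy := hcomm g⁻¹ (inv_mem hg) _ (show f a ∈ A from hfA a a.2)
        refine ⟨a, ?_⟩
        calc f a = g⁻¹ * f a * g := by rw [hgy, inv_mul_cancel_right]
          _ = y := by rw [ha]; group
    · rw [Subgroup.mem_normalizer_iff]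
      intro y
      constructor
      · rintro ⟨a, rfl⟩
        refine ⟨⟨x * (a : G) * x⁻¹, Subgroup.Normal.conj_mem (H := A) inferInstance (a : G) a.2 x⟩, ?_⟩
        show x * (x * (a : G) * x⁻¹) * x⁻¹ * (x * (a : G) * x⁻¹)⁻¹ =
          x * (x * (a : G) * x⁻¹ * (a : G)⁻¹) * x⁻¹
        group
      · rintro ⟨a, ha⟩
        refine ⟨⟨x⁻¹ * a * x, by
          simpa using Subgroup.Normal.conj_mem (H := A) inferInstance a a.2 x⁻¹⟩, ?_⟩
        show x * (x⁻¹ * (a : G) * x) * x⁻¹ * (x⁻¹ * (a : G) * x)⁻¹ = y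
        have ha' : x * (a : G) * x⁻¹ * (a : G)⁻¹ = x * y * x⁻¹ := ha
        calc _ = x⁻¹ * (x * (a : G) * x⁻¹ * (a : G)⁻¹) * x := by group
          _ = y := by rw [ha']; group
  have hle : commutator G ≤ f.range := by
    have hq : ∀ u v : G, ((u : G ⧸ f.range)) * v = v * u := by
      have hAx : ∀ a ∈ A, ((a : G) : G ⧸ f.range) * (x : G) = (x : G) * (a : G) := by
        intro a ha
        refine Eq.symm ?_
        rw [← QuotientGroup.mk_mul, ← QuotientGroup.mk_mul, QuotientGroup.eq_iff_div_mem]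
        exact ⟨⟨a, ha⟩, by show x * a * x⁻¹ * a⁻¹ = x * a / (a * x); rw [div_eq_mul_inv, mul_inv_rev]; group⟩
      intro u v
      let C : G → Subgroup G := fun v =>
        (Subgroup.centralizer {((v : G) : G ⧸ f.range)}).comap (QuotientGroup.mk' f.range)
      have hC : ∀ u v, u ∈ C v ↔ ((u : G ⧸ f.range)) * v = v * u := fun u v =>
        Subgroup.mem_centralizer_singleton_iff
      have h1 : ∀ v, (v ∈ A ∨ v = x) → C v = ⊤ := by
        intro v hv
        refine top_le_iff.1 ?_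
        rw [← hgen, sup_le_iff, Subgroup.zpowers_le]
        rcases hv with hv | rfl
        · refine ⟨fun a ha => (hC a v).2 ?_, (hC x v).2 (hAx v hv).symm⟩
          rw [← QuotientGroup.mk_mul, ← QuotientGroup.mk_mul, hcomm a ha v hv]
        · exact ⟨fun a ha => (hC a v).2 (hAx a ha), (hC v v).2 rfl⟩
      have h2 : C u = ⊤ := by
        refine top_le_iff.1 ?_
        rw [← hgen, sup_le_iff, Subgroup.zpowers_le]
        exact ⟨fun a ha => (hC a u).2 ((hC u a).1 ((h1 a (Or.inl ha)).ge (Subgroup.mem_top u))).symm,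
          (hC x u).2 ((hC u x).1 ((h1 x (Or.inr rfl)).ge (Subgroup.mem_top u))).symm⟩
      exact ((hC v u).1 (h2.ge (Subgroup.mem_top v))).symm
    refine Subgroup.commutator_le.2 fun u _ v _ => ?_
    rw [← QuotientGroup.eq_one_iff, commutatorElement_def, QuotientGroup.mk_mul,
      QuotientGroup.mk_mul, QuotientGroup.mk_mul, hq u v, QuotientGroup.mk_inv,
      QuotientGroup.mk_inv, mul_inv_cancel_right, mul_inv_cancel]
  refine ⟨hmem, fun c hc => ?_, hmul, ?_⟩
  · obtain ⟨a, ha⟩ := hle hc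
    exact ⟨a, a.2, ha⟩
  · have hr : commutator G = f.range := le_antisymm hle (by
      rintro _ ⟨a, rfl⟩
      exact hmem a a.2)
    have hk : f.ker = (A ⊓ Subgroup.centralizer ({x} : Set G)).subgroupOf A := by
      ext a
      simp only [MonoidHom.mem_ker, Subgroup.mem_subgroupOf, Subgroup.mem_inf,
        Subgroup.mem_centralizer_singleton_iff, a.2, true_and]
      show x * a * x⁻¹ * (a : G)⁻¹ = 1 ↔ _
      rw [mul_inv_eq_one, mul_inv_eq_iff_eq_mul, eq_comm]
    rw [hr, ← Nat.card_congr (Subgroup.subgroupOfEquivOfLe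
        (inf_le_left : A ⊓ Subgroup.centralizer ({x} : Set G) ≤ A)).toEquiv, ← hk,
      ← Subgroup.index_ker, mul_comm, Subgroup.card_mul_index]

end Cfsg.Agent.S3866
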