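import Cfsg.Statements.S3867
import Cfsg.Agent.Lib.SylowCount.Basic
import Cfsg.Agent.Lib.Coprime.Basic

set_option autoImplicit false
open Cfsg

namespace Cfsg.Agent.S3867

/-- Let M and N be nontrivial normal subgroups of the finite group G with M ⊓ N trivial, and let p be a prime. Writing n(X) for the number of Sylow p-subgroups of a group X, one has n(G) · n(G/MN) = n(G/M) · n(G/N). -/
theorem result {G : Type*} [Group G] [Finite G] (p : ℕ) [Fact p.Prime] (M N : Subgroup G) [M.Normal] [N.Normal] (hM : M ≠ ⊥) (hN : N ≠ ⊥) (hMN : M ⊓ N = ⊥) : Nat.card (Sylow p G) * Nat.card (Sylow p (G ⧸ (M ⊔ N))) = Nat.card (Sylow p (G ⧸ M)) * Nat.card (Sylow p (G ⧸ N)) := by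
  obtain ⟨P⟩ : Nonempty (Sylow p G) := Sylow.nonempty
  set H := Subgroup.normalizer ((P : Subgroup G) : Set G) with hH
  -- the two joins meet in `P`
  have hPP : ((P : Subgroup G) ⊔ M) ⊓ ((P : Subgroup G) ⊔ N) = P := by
    refine P.is_maximal' ?_ (le_inf le_sup_left le_sup_left)
    have key : ∀ (K : Subgroup G) [K.Normal], ∀ g ∈ (P : Subgroup G) ⊔ K, ∃ k : ℕ, g ^ p ^ k ∈ K := by
      intro K _ g hg
      obtain ⟨a, ha, b, hb, rfl⟩ := Subgroup.mem_sup_of_normal_right.1 hg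
      obtain ⟨k, hk⟩ := P.isPGroup' ⟨a, ha⟩
      refine ⟨k, ?_⟩
      have hbK : ((b : G) : G ⧸ K) = 1 := (QuotientGroup.eq_one_iff b).2 hb
      rw [← QuotientGroup.eq_one_iff, QuotientGroup.mk_pow, QuotientGroup.mk_mul, hbK, mul_one,
        ← QuotientGroup.mk_pow, show a ^ p ^ k = 1 from congrArg Subtype.val hk]
      rfl
    rintro ⟨g, hg1, hg2⟩
    obtain ⟨i, hi⟩ := key M g hg1
    obtain ⟨j, hj⟩ := key N g hg2
    refine ⟨i + j, Subtype.ext ?_⟩
    show g ^ p ^ (i + j) = 1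
    rw [← Subgroup.mem_bot, ← hMN]
    exact ⟨by rw [pow_add, pow_mul]; exact pow_mem hi _,
      by rw [pow_add, mul_comm, pow_mul]; exact pow_mem hj _⟩
  have hHN : (H ⊔ N) ⊓ M = H ⊓ M := by
    refine le_antisymm (fun m hm => ⟨?_, hm.2⟩) (inf_le_inf_right _ le_sup_left)
    obtain ⟨h, hh, n, hn, hmn⟩ := Subgroup.mem_sup_of_normal_right.1 hm.1
    have hconj : ∀ y ∈ (P : Subgroup G), m * y * m⁻¹ ∈ (P : Subgroup G) := by
      intro y hy
      have h1 : m * y * m⁻¹ ∈ (P : Subgroup G) ⊔ N := by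
        have hn1 : n * y * n⁻¹ ∈ (P : Subgroup G) ⊔ N :=
          mul_mem (mul_mem (Subgroup.mem_sup_right hn) (Subgroup.mem_sup_left hy))
            (Subgroup.mem_sup_right (inv_mem hn))
        have hH' : H ≤ Subgroup.normalizer (((P : Subgroup G) ⊔ N : Subgroup G) : Set G) := by
          rw [SylowCount.normalizer_sup_normal]; exact le_sup_left
        have := (Subgroup.mem_normalizer_iff.1 (hH' hh) _).1 hn1
        rw [← hmn, show h * n * y * (h * n)⁻¹ = h * (n * y * n⁻¹) * h⁻¹ by group]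
        exact this
      have h2 : m * y * m⁻¹ ∈ (P : Subgroup G) ⊔ M :=
        mul_mem (mul_mem (Subgroup.mem_sup_right hm.2) (Subgroup.mem_sup_left hy))
          (Subgroup.mem_sup_right (inv_mem hm.2))
      exact hPP.le ⟨h2, h1⟩
    have hle : (P : Subgroup G) ≤ ((m⁻¹ • P : Sylow p G) : Subgroup G) := by
      intro y hy
      rw [Sylow.coe_subgroup_smul, Coprime.mem_conj_smul_iff, inv_inv]
      exact hconj y hy
    have he : m⁻¹ • P = P := Sylow.ext (P.is_maximal' (m⁻¹ • P).isPGroup' hle)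
    have := inv_mem (Sylow.smul_eq_iff_mem_normalizer.1 he)
    rwa [inv_inv] at this
  have hrel : (H ⊔ N).relIndex M = H.relIndex M := by
    rw [← Subgroup.inf_relIndex_right (H ⊔ N), hHN, Subgroup.inf_relIndex_right]
  have h1 : (H ⊔ N).index = H.relIndex M * (H ⊔ (M ⊔ N)).index := by
    rw [← hrel, ← SylowCount.relIndex_self_sup (H ⊔ N) M,
      show H ⊔ (M ⊔ N) = H ⊔ N ⊔ M by rw [sup_assoc, sup_comm N M]]
    exact (Subgroup.relIndex_mul_index le_sup_left).symm
  rw [SylowCount.card_sylow_eq P M, SylowCount.card_sylow_quotient P (M ⊔ N),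
    SylowCount.card_sylow_quotient P N, h1, mul_assoc]

end Cfsg.Agent.S3867
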