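import Cfsg.Statements.S3868
import Cfsg.Agent.Lib.MinimalNonClosed.Basic

set_option autoImplicit false
open Cfsg

namespace Cfsg.Agent.S3868

open Subgroup

/-- Structure of the non-simple minimal non-p-closed groups. Call a finite group p-closed when its Sylow p-subgroups are normal, and minimal non-p-closed when it is not p-closed but every proper subgroup and every proper quotient is. If such a group G is not simple, then there is a prime q ≠ p such that G has order p · q^e, where e is the multiplicative order of q modulo p, and G has a normal subgroup A of order q^e that is elementary abelian and is a minimal normal subgroup of G (so G is the semidirect product of A by a group of order p acting irreducibly). -/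
theorem result {G : Type*} [Group G] [Finite G] {p : ℕ} [Fact p.Prime]
    (hnc : ¬ Cfsg.IsPClosed p G) (hsub : ∀ H : Subgroup G, H ≠ ⊤ → Cfsg.IsPClosed p ↥H)
    (hquo : ∀ (N : Subgroup G) [N.Normal], N ≠ ⊥ → Cfsg.IsPClosed p (G ⧸ N)) (hns : ¬ IsSimpleGroup G) :
    ∃ q : ℕ, q.Prime ∧ q ≠ p ∧ Nat.card G = p * q ^ orderOf (q : ZMod p) ∧
      ∃ A : Subgroup G, A.Normal ∧ Nat.card ↥A = q ^ orderOf (q : ZMod p) ∧ Cfsg.IsElementaryAbelian q A ∧
        ∀ B : Subgroup G, B.Normal → B ≤ A → B = ⊥ ∨ B = A := by
  have : Nontrivial G := by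
    by_contra h
    rw [not_nontrivial_iff_subsingleton] at h
    exact hnc fun P => by rw [Subsingleton.elim (P : Subgroup G) ⊥]; infer_instance
  obtain ⟨M, hMn, hM1, hMtop⟩ : ∃ M : Subgroup G, M.Normal ∧ M ≠ ⊥ ∧ M ≠ ⊤ := by
    by_contra h
    push Not at h
    exact hns ⟨fun M hM => (em (M = ⊥)).imp_right (h M hM)⟩
  obtain ⟨N, hNn, hNM, hN1, hmin⟩ := Agent.Solvable.exists_minimal_normal hM1
  have hNtop : N ≠ ⊤ := fun h => hMtop (top_le_iff.1 (h ▸ hNM))
  obtain ⟨P⟩ : Nonempty (Sylow p G) := Sylow.nonempty
  have hPn : ¬ (P : Subgroup G).Normal := fun h => hnc fun R => by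
    obtain ⟨g, rfl⟩ := MulAction.exists_smul_eq G P R
    rw [Sylow.smul_eq_of_normal]; exact h
  have hcore : ∀ C : Subgroup G, C.Normal → C ≤ P → C = ⊥ := by
    intro C hC hCP
    by_contra h
    refine hPn ?_
    have hn : ((P : Subgroup G).map (QuotientGroup.mk' C)).Normal :=
      hquo C h (P.mapSurjective (QuotientGroup.mk'_surjective C))
    have := hn.comap (QuotientGroup.mk' C)
    rwa [comap_map_eq, QuotientGroup.ker_mk', sup_eq_left.2 hCP] at this
  have hpN : ¬ p ∣ Nat.card N := by
    intro hd
    obtain ⟨S⟩ : Nonempty (Sylow p N) := Sylow.nonempty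
    have hS : (S : Subgroup N).Characteristic := S.characteristic_of_normal (hsub N hNtop S)
    have hO : ((S : Subgroup N).map N.subtype).Normal := inferInstance
    have hO1 := hcore _ hO ((IsPGroup.map S.isPGroup' N.subtype).le_sylow_of_normal P)
    rw [map_eq_bot_iff_of_injective _ N.subtype_injective] at hO1
    have h1 := S.dvd_card_of_dvd_card hd
    rw [hO1, card_bot] at h1
    exact (Fact.out : p.Prime).one_lt.not_ge (Nat.le_of_dvd one_pos h1)
  have hPN : ((P : Subgroup G) ⊔ N).Normal := by
    have := (hquo N hN1 (P.mapSurjective (QuotientGroup.mk'_surjective N))).comap (QuotientGroup.mk' N)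
    rwa [Sylow.coe_mapSurjective, comap_map_eq, QuotientGroup.ker_mk'] at this
  refine Agent.MinimalNonClosed.exists_structure N hN1 hmin hpN P ?_ hPn hsub hcore
  by_contra h
  have hle : (P : Subgroup G) ⊔ N ≤ normalizer ((P : Subgroup G) : Set G) :=
    Agent.MinimalNonClosed.le_normalizer_of_isPClosed le_sup_left P.isPGroup'
      (fun h' => P.not_dvd_index (h'.trans (Dvd.intro _ (relIndex_mul_index le_sup_left)))) (hsub _ h)
  have h2 := Sylow.normalizer_sup_eq_top' P (le_sup_left : (P : Subgroup G) ≤ (P : Subgroup G) ⊔ N)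
  exact hPn (normalizer_eq_top_iff.1 (top_le_iff.1 (h2 ▸ sup_le le_rfl hle)))

end Cfsg.Agent.S3868
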