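import Cfsg.Statements.S3870
import Cfsg.Agent.Lib.SmallSimple.Basic
import Cfsg.Agent.Lib.Coprime.Basic

set_option autoImplicit false
open Cfsg

namespace Cfsg.Agent.S3870

/-- Let G be a finite simple group whose Sylow p-subgroups are not normal but such that every proper subgroup of G has a normal Sylow p-subgroup. Then any two distinct Sylow p-subgroups of G intersect trivially, and for every Sylow p-subgroup P the normalizer of every non-identity subgroup of P lies in the normalizer of P. -/
theorem result {G : Type*} [Group G] [Finite G] [IsSimpleGroup G] {p : ℕ} [Fact p.Prime]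
    (hnc : ¬ Cfsg.IsPClosed p G) (hsub : ∀ H : Subgroup G, H ≠ ⊤ → Cfsg.IsPClosed p ↥H) :
    (∀ P Q : Sylow p G, P ≠ Q → (P : Subgroup G) ⊓ (Q : Subgroup G) = ⊥) ∧
      ∀ (P : Sylow p G) (R : Subgroup G), R ≤ P → R ≠ ⊥ →
        Subgroup.normalizer (R : Set G) ≤ Subgroup.normalizer ((P : Subgroup G) : Set G) := by
  have hTI : ∀ P Q : Sylow p G, P ≠ Q → (P : Subgroup G) ⊓ (Q : Subgroup G) = ⊥ := by
    suffices H : ∀ n, ∀ P Q : Sylow p G, Nat.card G - Nat.card ((P : Subgroup G) ⊓ Q : Subgroup G) = n →
        P ≠ Q → (P : Subgroup G) ⊓ (Q : Subgroup G) = ⊥ from fun P Q h => H _ P Q rfl h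
    intro n
    induction n using Nat.strong_induction_on with
    | _ n ih =>
      intro P Q hn hne
      set D := (P : Subgroup G) ⊓ Q with hD
      by_contra hD1
      set N := Subgroup.normalizer (D : Set G) with hN
      have hNtop : N ≠ ⊤ := by
        intro h
        have hDn : D.Normal := Subgroup.normalizer_eq_top_iff.1 h
        rcases IsSimpleGroup.eq_bot_or_eq_top_of_normal D hDn with h1 | h1
        · exact hD1 h1
        · exact hne (Sylow.ext ((top_le_iff.1 (h1 ▸ inf_le_left : (⊤ : Subgroup G) ≤ P)).trans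
            (top_le_iff.1 (h1 ▸ inf_le_right : (⊤ : Subgroup G) ≤ Q)).symm))
      have hDP : D < P := lt_of_le_of_ne inf_le_left fun h => hne (Sylow.ext
        (P.is_maximal' Q.isPGroup' (h.ge.trans inf_le_right)).symm)
      have hDQ : D < Q := lt_of_le_of_ne inf_le_right fun h => hne (Sylow.ext
        (Q.is_maximal' P.isPGroup' (h.ge.trans inf_le_left)))
      obtain ⟨S⟩ : Nonempty (Sylow p N) := Sylow.nonempty
      have hSn : (S : Subgroup N).Normal := hsub N hNtop S
      obtain ⟨R, hR⟩ := S.exists_comap_subtype_eq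
      have hle : ∀ T : Sylow p G, (T : Subgroup G) ⊓ N ≤ R := by
        intro T
        have hp : IsPGroup p (((T : Subgroup G) ⊓ N).subgroupOf N) :=
          (T.isPGroup'.to_le inf_le_left).of_equiv
            (Subgroup.subgroupOfEquivOfLe (inf_le_right : (T : Subgroup G) ⊓ N ≤ N)).symm
        obtain ⟨S', hS'⟩ := hp.exists_le_sylow
        obtain ⟨g, hg⟩ := MulAction.exists_smul_eq N S S'
        have : S' = S := by
          rw [← hg]
          exact Sylow.smul_eq_iff_mem_normalizer.2
            ((Subgroup.normalizer_eq_top (H := (S : Subgroup N))).ge (Subgroup.mem_top g))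
        intro x hx
        have hx' : (⟨x, hx.2⟩ : N) ∈ (S : Subgroup N) := this ▸ hS' hx
        rw [← hR] at hx'
        exact hx'
      have hRP : R = P := by
        by_contra h
        have hlt : D < (R : Subgroup G) ⊓ P :=
          lt_of_lt_of_le (SmallSimple.lt_inf_normalizer P.isPGroup' hDP)
            (le_inf (hle P) inf_le_left)
        have hc : Nat.card D < Nat.card ((R : Subgroup G) ⊓ P : Subgroup G) :=
          lt_of_not_ge fun hc => hlt.ne (Subgroup.eq_of_le_of_card_ge hlt.le hc)
        have hle' := Subgroup.card_le_card_group ((R : Subgroup G) ⊓ P)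
        have := ih _ (by omega) R P rfl h
        exact absurd (this ▸ hlt) not_lt_bot
      have hRQ : R = Q := by
        by_contra h
        have hlt : D < (R : Subgroup G) ⊓ Q :=
          lt_of_lt_of_le (SmallSimple.lt_inf_normalizer Q.isPGroup' hDQ)
            (le_inf (hle Q) inf_le_left)
        have hc : Nat.card D < Nat.card ((R : Subgroup G) ⊓ Q : Subgroup G) :=
          lt_of_not_ge fun hc => hlt.ne (Subgroup.eq_of_le_of_card_ge hlt.le hc)
        have hle' := Subgroup.card_le_card_group ((R : Subgroup G) ⊓ Q)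
        have := ih _ (by omega) R Q rfl h
        exact absurd (this ▸ hlt) not_lt_bot
      exact hne (hRP.symm.trans hRQ)
  refine ⟨hTI, fun P R hR hR1 g hg => ?_⟩
  refine Sylow.smul_eq_iff_mem_normalizer.1 (Classical.byContradiction fun h => ?_)
  refine hR1 (eq_bot_iff.2 ((le_inf ?_ hR).trans (hTI _ _ h).le))
  intro x hx
  rw [Sylow.coe_subgroup_smul, Coprime.mem_conj_smul_iff]
  refine hR ((Subgroup.mem_normalizer_iff''.1 hg x).1 hx)

end Cfsg.Agent.S3870
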