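import Mathlib
import Cfsg.Statements.S3872
import Cfsg.Agent.S4209
import Cfsg.Agent.S4225
import Cfsg.Agent.Lib.PGroup.Basic
import Cfsg.Agent.Lib.PGroup.Frattini
import Cfsg.Agent.Lib.PGroup.UniqueOrderP

set_option autoImplicit false
open Cfsg

namespace Cfsg.Agent.S3872

/-- Say that a finite group is p-exponent closed when its elements of order dividing p form a subgroup. Let G be a finite p-group that is not p-exponent closed, but all of whose proper subgroups and proper quotients are. Then G is generated by two elements, has nilpotency class at least p, has exponent p², has cyclic center, and has order at least p^(p+1). -/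
theorem result {G : Type*} [Group G] [Finite G] {p : ℕ} [Fact p.Prime] (hG : IsPGroup p G)
    (hnc : ¬ (∃ H : Subgroup G, (H : Set G) = {g : G | g ^ p = 1})) (hsub : ∀ K : Subgroup G, K ≠ ⊤ → (∃ H : Subgroup ↥K, (H : Set ↥K) = {g : ↥K | g ^ p = 1}))
    (hquo : ∀ (N : Subgroup G) [N.Normal], N ≠ ⊥ → (∃ H : Subgroup (G ⧸ N), (H : Set (G ⧸ N)) = {g : (G ⧸ N) | g ^ p = 1})) :
    (∃ x y : G, Subgroup.closure ({x, y} : Set G) = ⊤) ∧ (⊤ : Subgroup G).lowerCentralSeries (p - 1) ≠ ⊥ ∧
      Monoid.exponent G = p ^ 2 ∧ IsCyclic ↥(Subgroup.center G) ∧ p ^ (p + 1) ≤ Nat.card G := by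
  classical
  have hp : p.Prime := Fact.out
  -- two elements of order `p` with a bad product
  obtain ⟨x, y, hx, hy, hxy⟩ : ∃ x y : G, x ^ p = 1 ∧ y ^ p = 1 ∧ (x * y) ^ p ≠ 1 := by
    by_contra hcon
    refine hnc ⟨{ carrier := {g | g ^ p = 1}
                  one_mem' := one_pow p
                  mul_mem' := fun {a b} ha hb => by
                    by_contra hab
                    exact hcon ⟨a, b, ha, hb, hab⟩
                  inv_mem' := fun {a} (ha : a ^ p = 1) => show a⁻¹ ^ p = 1 by rw [inv_pow, ha, inv_one] }, rfl⟩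
  have hgen : Subgroup.closure ({x, y} : Set G) = ⊤ := by
    by_contra hne
    obtain ⟨H, hH⟩ := hsub _ hne
    have hmem : ∀ g : ↥(Subgroup.closure ({x, y} : Set G)), g ∈ H ↔ g ^ p = 1 := fun g => by
      rw [← SetLike.mem_coe, hH]; rfl
    have hxm : (⟨x, Subgroup.subset_closure (by simp)⟩ : ↥(Subgroup.closure ({x, y} : Set G))) ∈ H :=
      (hmem _).mpr (Subtype.ext hx)
    have hym : (⟨y, Subgroup.subset_closure (by simp)⟩ : ↥(Subgroup.closure ({x, y} : Set G))) ∈ H :=
      (hmem _).mpr (Subtype.ext hy)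
    exact hxy (congrArg Subtype.val ((hmem _).mp (H.mul_mem hxm hym)))
  have hclass : (⊤ : Subgroup G).lowerCentralSeries (p - 1) ≠ ⊥ := by
    intro hcl
    apply hxy
    simpa using S4225.omega_mul (S4209.regular_of_class hG hcl) 1 ⊤ x (Subgroup.mem_top x) y (Subgroup.mem_top y)
      (by simpa using hx) (by simpa using hy)
  -- powers lie in every central subgroup of order `p`
  have hpow : ∀ z : G, z ∈ Subgroup.center G → orderOf z = p → ∀ g : G, g ^ p ∈ Subgroup.zpowers z := by
    intro z hz hzo g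
    have hn : (Subgroup.zpowers z).Normal := ⟨fun a ha b => by
      rw [Subgroup.mem_center_iff.mp ((Subgroup.zpowers_le.mpr hz) ha) b, mul_inv_cancel_right]; exact ha⟩
    have hne : Subgroup.zpowers z ≠ ⊥ := by
      rw [Ne, Subgroup.zpowers_eq_bot]; intro e; rw [e, orderOf_one] at hzo; exact hp.ne_one hzo.symm
    obtain ⟨H, hH⟩ := hquo _ hne
    have hmem : ∀ q : G ⧸ Subgroup.zpowers z, q ∈ H ↔ q ^ p = 1 := fun q => by rw [← SetLike.mem_coe, hH]; rfl
    have htop : ⊤ ≤ H.comap (QuotientGroup.mk' (Subgroup.zpowers z)) := by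
      rw [← hgen, Subgroup.closure_le]
      rintro a (rfl | rfl)
      · rw [SetLike.mem_coe, Subgroup.mem_comap, hmem, ← map_pow, hx, map_one]
      · rw [SetLike.mem_coe, Subgroup.mem_comap, hmem, ← map_pow, hy, map_one]
    have h1 := (hmem _).mp (htop (Subgroup.mem_top g))
    rw [← map_pow, QuotientGroup.mk'_apply, QuotientGroup.eq_one_iff] at h1
    exact h1
  have hne1 : Nontrivial G := ⟨⟨(x * y) ^ p, 1, hxy⟩⟩
  obtain ⟨z, hz, hzo⟩ : ∃ z : G, z ∈ Subgroup.center G ∧ orderOf z = p := by
    have := hG.center_nontrivial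
    obtain ⟨k, hk⟩ := IsPGroup.iff_card.mp (hG.to_subgroup (Subgroup.center G))
    have hk0 : k ≠ 0 := fun e => by
      have h1 : 1 < Nat.card (Subgroup.center G) := Finite.one_lt_card
      rw [hk, e, pow_zero] at h1; exact lt_irrefl _ h1
    obtain ⟨z, hz⟩ := exists_prime_orderOf_dvd_card' p (hk ▸ dvd_pow_self p hk0 : p ∣ Nat.card (Subgroup.center G))
    exact ⟨z, z.2, by rw [Subgroup.orderOf_coe, hz]⟩
  have hp2 : ∀ g : G, g ^ p ^ 2 = 1 := by
    intro g
    obtain ⟨i, hi⟩ := Subgroup.mem_zpowers_iff.mp (hpow z hz hzo g)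
    rw [sq, pow_mul, ← hi, ← zpow_natCast, ← zpow_mul, mul_comm, zpow_mul, zpow_natCast, ← hzo, pow_orderOf_eq_one, one_zpow]
  refine ⟨⟨x, y, hgen⟩, hclass, ?_, ?_, ?_⟩
  · obtain ⟨j, hj, he⟩ := (Nat.dvd_prime_pow hp).mp (Monoid.exponent_dvd_of_forall_pow_eq_one hp2)
    rcases hj.lt_or_eq with h | h
    · exfalso
      apply hxy
      rw [← orderOf_dvd_iff_pow_eq_one]
      refine (Monoid.order_dvd_exponent (x * y)).trans ?_
      rw [he]
      exact (Nat.pow_dvd_pow p (Nat.lt_succ_iff.mp h)).trans (by rw [pow_one])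
    · rw [he, h]
  · refine PGroup.isCyclic_of_unique_of_isMulCommutative (hG.to_subgroup _) (fun H K hH hK => ?_) inferInstance
    have hgo : orderOf ((x * y) ^ p) = p :=
      orderOf_eq_prime (by rw [← pow_mul, ← sq]; exact hp2 _) hxy
    have key : ∀ L : Subgroup (Subgroup.center G), Nat.card L = p →
        L.map (Subgroup.center G).subtype = Subgroup.zpowers ((x * y) ^ p) := by
      intro L hL
      obtain ⟨w, hw⟩ := exists_prime_orderOf_dvd_card' p (hL ▸ dvd_rfl : p ∣ Nat.card L)
      have hwo : orderOf ((w : Subgroup.center G) : G) = p := by rw [Subgroup.orderOf_coe, Subgroup.orderOf_coe, hw]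
      have h1 := hpow _ (w : Subgroup.center G).2 hwo (x * y)
      have h2 : Subgroup.zpowers ((w : Subgroup.center G) : G) = L.map (Subgroup.center G).subtype :=
        Subgroup.eq_of_le_of_card_ge (Subgroup.zpowers_le.mpr ⟨w, w.2, rfl⟩)
          (by rw [Subgroup.card_map_of_injective (Subgroup.subtype_injective _), Nat.card_zpowers, hwo, hL])
      rw [← h2]
      exact (Subgroup.eq_of_le_of_card_ge (Subgroup.zpowers_le.mpr h1) (by rw [Nat.card_zpowers, Nat.card_zpowers, hgo, hwo])).symm
    exact Subgroup.map_injective (Subgroup.subtype_injective _) ((key H hH).trans (key K hK).symm)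
  · set L := fun i => (⊤ : Subgroup G).lowerCentralSeries i with hLdef
    have hanti : ∀ i j, i ≤ j → L j ≤ L i := fun i j h => (⊤ : Subgroup G).lowerCentralSeries_antitone h
    have hstep : ∀ i, L i ≠ ⊥ → p * Nat.card (L (i + 1)) ≤ Nat.card (L i) := by
      intro i hi
      refine PGroup.mul_card_le_card hG (lt_of_le_of_ne (hanti i (i + 1) (Nat.le_succ i)) fun e => hi ?_)
      have hconst : ∀ k, L (i + k) = L i := by
        intro k
        induction k with
        | zero => rfl
        | succ k ih =>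
          show (⊤ : Subgroup G).lowerCentralSeries (i + k + 1) = L i
          rw [Subgroup.lowerCentralSeries_succ]
          change ⁅L (i + k), ⊤⁆ = L i
          rw [ih]
          exact e
      have := hG.isNilpotent
      obtain ⟨n, hn⟩ : ∃ n, (⊤ : Subgroup G).lowerCentralSeries n = ⊥ :=
        ⟨Group.nilpotencyClass G, Subgroup.lowerCentralSeries_eq_bot_iff_nilpotencyClass_le.mpr le_rfl⟩
      rw [← hconst n]
      exact le_bot_iff.mp (hn ▸ hanti n (i + n) (Nat.le_add_left n i))
    have hbig : ∀ k, k ≤ p - 1 → p ^ (k + 1) ≤ Nat.card (L (p - 1 - k)) := by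
      intro k
      induction k with
      | zero =>
        intro _
        obtain ⟨a, ha⟩ := PGroup.card_eq_pow hG (L (p - 1))
        have ha0 : a ≠ 0 := fun e => hclass (Subgroup.card_eq_one.mp (by rw [ha, e, pow_zero]))
        simpa [ha] using Nat.le_self_pow ha0 p
      | succ k ih =>
        intro hk
        have h1 := ih (by omega)
        have hne : L (p - 1 - (k + 1)) ≠ ⊥ := fun e => hclass (le_bot_iff.mp (e ▸ hanti _ _ (by omega)))
        have h2 := hstep _ hne
        rw [show p - 1 - (k + 1) + 1 = p - 1 - k by omega] at h2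
        calc p ^ (k + 1 + 1) = p * p ^ (k + 1) := pow_succ' p (k + 1)
          _ ≤ p * Nat.card (L (p - 1 - k)) := Nat.mul_le_mul_left _ h1
          _ ≤ _ := h2
    have h1 := hbig (p - 2) (by omega)
    have h2l := hp.two_le
    rw [show p - 1 - (p - 2) = 1 by omega, show p - 2 + 1 = p - 1 by omega] at h1
    have hidx : p ^ 2 ≤ (L 1).index := by
      obtain ⟨j, hj⟩ := hG.index (L 1)
      rw [hj]
      refine Nat.pow_le_pow_right hp.pos ?_
      by_contra hlt
      apply hxy
      have hle : L 1 ≤ frattini G := by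
        have : L 1 = commutator G := rfl
        rw [this]
        exact PGroup.commutator_le_frattini hG
      have hdvd : Nat.card (G ⧸ frattini G) ∣ p := by
        refine dvd_trans (Subgroup.index_dvd_of_le hle) ?_
        rw [hj]
        exact (Nat.pow_dvd_pow p (Nat.lt_succ_iff.mp (Nat.not_le.mp hlt))).trans (by rw [pow_one])
      have : IsCyclic (G ⧸ frattini G) := isCyclic_of_card_dvd_prime hdvd
      obtain ⟨q, hq⟩ := this.exists_generator
      obtain ⟨a, rfl⟩ := QuotientGroup.mk_surjective q
      have htop : Subgroup.zpowers a = ⊤ := by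
        refine frattini_nongenerating (top_le_iff.mp fun g _ => ?_)
        obtain ⟨i, hi⟩ := Subgroup.mem_zpowers_iff.mp (hq (g : G ⧸ frattini G))
        rw [← QuotientGroup.mk_zpow, QuotientGroup.eq] at hi
        have := Subgroup.mul_mem (Subgroup.zpowers a ⊔ frattini G)
          (Subgroup.mem_sup_left (Subgroup.zpow_mem_zpowers a i)) (Subgroup.mem_sup_right hi)
        simpa using this
      have hc : Commute x y := by
        obtain ⟨i, rfl⟩ := Subgroup.mem_zpowers_iff.mp (htop ▸ Subgroup.mem_top x)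
        obtain ⟨k, rfl⟩ := Subgroup.mem_zpowers_iff.mp (htop ▸ Subgroup.mem_top y)
        exact Commute.zpow_zpow (Commute.refl a) i k
      rw [hc.mul_pow, hx, hy, one_mul]
    calc p ^ (p + 1) = p ^ (p - 1) * p ^ 2 := by rw [← pow_add]; congr 1; omega
      _ ≤ Nat.card (L 1) * (L 1).index := Nat.mul_le_mul h1 hidx
      _ = Nat.card G := Subgroup.card_mul_index _

end Cfsg.Agent.S3872
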