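import Cfsg.Statements.S3873
import Cfsg.Agent.Lib.MinimalNonClosed.Basic

set_option autoImplicit false
open Cfsg

namespace Cfsg.Agent.S3873

open Subgroup

/-- Say that a finite group is p-exponent closed when its elements of order dividing p form a subgroup. Let G be a finite group that is not p-exponent closed, but all of whose proper subgroups and proper quotients are, and suppose G is neither simple nor a p-group. Then there is a prime q ≠ p such that G has order p · q^e, where e is the multiplicative order of q modulo p, and G has a normal elementary abelian subgroup of order q^e that is a minimal normal subgroup of G. -/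
theorem result {G : Type*} [Group G] [Finite G] {p : ℕ} [Fact p.Prime]
    (hnc : ¬ (∃ H : Subgroup G, (H : Set G) = {g : G | g ^ p = 1})) (hsub : ∀ K : Subgroup G, K ≠ ⊤ → (∃ H : Subgroup ↥K, (H : Set ↥K) = {g : ↥K | g ^ p = 1}))
    (hquo : ∀ (N : Subgroup G) [N.Normal], N ≠ ⊥ → (∃ H : Subgroup (G ⧸ N), (H : Set (G ⧸ N)) = {g : (G ⧸ N) | g ^ p = 1}))
    (hns : ¬ IsSimpleGroup G) (hnp : ¬ IsPGroup p G) :
    ∃ q : ℕ, q.Prime ∧ q ≠ p ∧ Nat.card G = p * q ^ orderOf (q : ZMod p) ∧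
      ∃ A : Subgroup G, A.Normal ∧ Nat.card ↥A = q ^ orderOf (q : ZMod p) ∧ Cfsg.IsElementaryAbelian q A ∧
        ∀ B : Subgroup G, B.Normal → B ≤ A → B = ⊥ ∨ B = A := by
  have hp : p.Prime := Fact.out
  have : Nontrivial G := by
    by_contra h
    rw [not_nontrivial_iff_subsingleton] at h
    exact hnp fun g => ⟨0, Subsingleton.elim _ _⟩
  obtain ⟨M, hMn, hM1, hMtop⟩ : ∃ M : Subgroup G, M.Normal ∧ M ≠ ⊥ ∧ M ≠ ⊤ := by
    by_contra h
    push Not at h
    exact hns ⟨fun M hM => (em (M = ⊥)).imp_right (h M hM)⟩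
  obtain ⟨N, hNn, hNM, hN1, hmin⟩ := Agent.Solvable.exists_minimal_normal hM1
  have hNtop : N ≠ ⊤ := fun h => hMtop (top_le_iff.1 (h ▸ hNM))
  have hexp : ∀ (K : Subgroup G) [K.Normal], K ≠ ⊥ → ∀ g : G, g ^ p ∈ K := by
    intro K _ hK
    obtain ⟨W, hW⟩ := hquo K hK
    by_cases h : W.comap (QuotientGroup.mk' K) = ⊤
    · intro g
      have h1 : ((g : G ⧸ K)) ∈ (W : Set (G ⧸ K)) := (h.ge (mem_top g) :)
      rw [hW, Set.mem_setOf_eq, ← QuotientGroup.mk_pow, QuotientGroup.eq_one_iff] at h1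
      exact h1
    · exfalso
      obtain ⟨L, hL⟩ := hsub _ h
      refine hnc ⟨L.map (W.comap (QuotientGroup.mk' K)).subtype, Set.ext fun g => ⟨?_, fun hg => ?_⟩⟩
      · rintro ⟨x, hx, rfl⟩
        rw [hL] at hx
        exact congrArg Subtype.val (hx : x ^ p = 1)
      · have h1 : ((g : G ⧸ K)) ∈ (W : Set (G ⧸ K)) := by
          rw [hW, Set.mem_setOf_eq, ← QuotientGroup.mk_pow, (hg : g ^ p = 1), QuotientGroup.mk_one]
        refine ⟨⟨g, h1⟩, ?_, rfl⟩
        rw [hL]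
        exact Subtype.ext (hg : g ^ p = 1)
  have hnpn : ∀ (K : Subgroup G), K.Normal → IsPGroup p K → K = ⊥ := by
    intro K hKn hK
    by_contra h
    refine hnp fun g => ?_
    obtain ⟨k, hk⟩ := hK ⟨g ^ p, hexp K h g⟩
    exact ⟨k + 1, by rw [pow_succ', pow_mul]; exact congrArg Subtype.val hk⟩
  have hpN : ¬ p ∣ Nat.card N := by
    intro hd
    obtain ⟨W, hW⟩ := hsub N hNtop
    have hWm : ∀ x : G, x ∈ W.map N.subtype ↔ x ∈ N ∧ x ^ p = 1 := fun x =>
      ⟨fun ⟨y, hy, hxy⟩ => hxy ▸ ⟨y.2, congrArg Subtype.val (hW.le hy : y ^ p = 1)⟩,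
        fun ⟨h1, h2⟩ => ⟨⟨x, h1⟩, hW.ge (Subtype.ext h2 : (⟨x, h1⟩ : N) ^ p = 1), rfl⟩⟩
    have hn : (W.map N.subtype).Normal := ⟨fun x hx g => by
      rw [hWm] at hx ⊢
      exact ⟨hNn.conj_mem x hx.1 g, by rw [conj_pow, hx.2, mul_one, mul_inv_cancel]⟩⟩
    obtain ⟨x, hx⟩ := exists_prime_orderOf_dvd_card' (G := N) p hd
    have hxW : (x : G) ∈ W.map N.subtype :=
      (hWm _).2 ⟨x.2, by rw [← hx, ← Subgroup.orderOf_coe, pow_orderOf_eq_one]⟩
    rcases hmin _ hn (map_subtype_le _) with h | h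
    · rw [h, mem_bot, OneMemClass.coe_eq_one] at hxW
      rw [hxW, orderOf_one] at hx
      exact hp.ne_one hx.symm
    · exact hN1 (hnpn N hNn fun y => ⟨1, Subtype.ext (by rw [pow_one]; exact ((hWm _).1 (h.ge y.2)).2)⟩)
  have hall : ∀ R : Subgroup G, IsPGroup p R → ∀ g ∈ R, g ^ p = 1 := by
    intro R hR g hg
    obtain ⟨j, hj⟩ := hR.exists_card_eq
    have h1 : g ^ p ∈ R ⊓ N := ⟨pow_mem hg p, hexp N hN1 g⟩
    rw [Agent.Coprime.disjoint_of_coprime_card (hj ▸ (hp.coprime_iff_not_dvd.2 hpN).pow_left j),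
      mem_bot] at h1
    exact h1
  obtain ⟨P⟩ : Nonempty (Sylow p G) := Sylow.nonempty
  refine Agent.MinimalNonClosed.exists_structure N hN1 hmin hpN P ?_ ?_ ?_
    fun C hC hCP => hnpn C hC (P.isPGroup'.to_le hCP)
  · have hq : IsPGroup p (G ⧸ N) := fun x => ⟨1, by
      obtain ⟨g, rfl⟩ := QuotientGroup.mk'_surjective N x
      rw [pow_one, ← map_pow]
      exact (QuotientGroup.eq_one_iff _).2 (hexp N hN1 g)⟩
    obtain ⟨j, hj⟩ := hq.exists_card_eq
    rw [← index_eq_one]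
    refine Nat.eq_one_of_dvd_coprimes ((hp.coprime_iff_not_dvd.2 P.not_dvd_index).pow_left j) ?_
      (index_dvd_of_le le_sup_left)
    rw [← hj, ← index_eq_card]
    exact index_dvd_of_le le_sup_right
  · intro hPn
    refine hnc ⟨P, Set.ext fun g => ⟨fun hg => hall P P.isPGroup' g hg, fun hg => ?_⟩⟩
    have hz : IsPGroup p (zpowers g) := by
      intro x
      obtain ⟨i, hi⟩ := mem_zpowers_iff.1 x.2
      refine ⟨1, Subtype.ext ?_⟩
      rw [pow_one, SubmonoidClass.coe_pow, ← hi, ← zpow_natCast, ← zpow_mul, mul_comm, zpow_mul,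
        zpow_natCast, (hg : g ^ p = 1), one_zpow, OneMemClass.coe_one]
    obtain ⟨R, hR⟩ := hz.exists_le_sylow
    obtain ⟨c, rfl⟩ := MulAction.exists_smul_eq G P R
    rw [Sylow.smul_eq_of_normal] at hR
    exact hR (mem_zpowers g)
  · intro H hH S
    obtain ⟨W, hW⟩ := hsub H hH
    have hSW : (S : Subgroup H) ≤ W := fun x hx => hW.ge (Subtype.ext
      (hall _ (S.isPGroup'.map H.subtype) x (mem_map_of_mem _ hx)) : x ^ p = 1)
    have hWp : IsPGroup p W := fun x => ⟨1, Subtype.ext (by rw [pow_one]; exact hW.le x.2)⟩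
    rw [← S.is_maximal' hWp hSW]
    exact ⟨fun x hx g => hW.ge (show (g * x * g⁻¹) ^ p = 1 by
      rw [conj_pow, (hW.le hx : x ^ p = 1), mul_one, mul_inv_cancel])⟩

end Cfsg.Agent.S3873
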