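import Cfsg.Statements.S3875
import Cfsg.Agent.Lib.LeastNonClosed.Simple
import Cfsg.Agent.Lib.PSL2.Recognition
import Cfsg.Agent.Lib.PSL2.Basic
-- import your own Cfsg.Agent.* helpers here

set_option autoImplicit false
open Cfsg

namespace Cfsg.Agent.S3875


open scoped MatrixGroups Pointwise
set_option linter.style.haveILetI false

section General

variable {H : Type*} [Group H] [Finite H] {p : ℕ} [hp : Fact p.Prime]

theorem isPClosed_of_normal (P : Sylow p H) (h : (P : Subgroup H).Normal) : IsPClosed p H := by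
  haveI := Sylow.unique_of_normal P h
  intro Q
  rw [Subsingleton.elim Q P]
  exact h

theorem mul_card_eq (P : Sylow p H) (hP : Nat.card (P : Subgroup H) = p) {K : Subgroup H}
    (hK : Nat.card K = p) : ∃ g : H, K = (g • P : Sylow p H) := by
  obtain ⟨Q, hQ⟩ := (IsPGroup.of_card (n := 1) (by rw [pow_one, hK]) : IsPGroup p K).exists_le_sylow
  obtain ⟨g, rfl⟩ := MulAction.exists_smul_eq H P Q
  refine ⟨g, Subgroup.eq_of_le_of_card_ge hQ ?_⟩
  rw [hK, Sylow.coe_subgroup_smul, ← Nat.card_congr (Subgroup.equivSMul (MulAut.conj g) (P : Subgroup H)).toEquiv, hP]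

/-- An element of order `p` normalising an `r`-subgroup in a group all of whose proper subgroups
are `p`-closed: it centralises the subgroup, or the group is large. -/
theorem centralizes_or_large (P : Sylow p H) (hP : Nat.card (P : Subgroup H) = p) {m : ℕ}
    (hleast : ∀ k : ℕ, IsPrimePow k → k % p = 1 → m ≤ k)
    (hsub : ∀ K : Subgroup H, K ≠ ⊤ → IsPClosed p K) {r : ℕ} [hr : Fact r.Prime] (hrp : r ≠ p)
    (R : Subgroup H) (hR : IsPGroup r R) (x : H) (hx : orderOf x = p)
    (hxR : x ∈ Subgroup.normalizer (R : Set H)) :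
    (∀ a ∈ R, x * a = a * x) ∨ p * m ≤ Nat.card H := by
  classical
  set X := Subgroup.zpowers x with hX
  have hXc : Nat.card X = p := by rw [hX, Nat.card_zpowers, hx]
  have hXR : X ⊓ R = ⊥ := disjoint_iff.1
    (IsPGroup.disjoint_of_ne p r hrp.symm X R (IsPGroup.of_card (n := 1) (by rw [pow_one, hXc])) hR)
  have hXN : X ≤ Subgroup.normalizer (R : Set H) := Subgroup.zpowers_le.2 hxR
  set K := X ⊔ R with hK
  by_cases hKt : K = ⊤
  · -- orbit count
    letI act : MulAction X R :=
      { smul := fun y a => ⟨(y : H) * a * (y : H)⁻¹,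
          (Subgroup.mem_normalizer_iff.1 (hXN y.2) a).1 a.2⟩
        one_smul := fun a => Subtype.ext (show (1 : H) * a * (1 : H)⁻¹ = a by simp)
        mul_smul := fun y z a => Subtype.ext
          (show ((y : H) * z) * a * ((y : H) * z)⁻¹ = (y : H) * ((z : H) * a * (z : H)⁻¹) * (y : H)⁻¹ by
            group) }
    have hmod := (IsPGroup.of_card (n := 1) (by rw [pow_one, hXc]) :
      IsPGroup p X).card_modEq_card_fixedPoints R
    set C := R ⊓ Subgroup.centralizer ({x} : Set H) with hC
    have hfix : Nat.card (MulAction.fixedPoints X R) = Nat.card C := by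
      refine Nat.card_congr
        { toFun := fun a => ⟨(a.1 : H), a.1.2, Subgroup.mem_centralizer_singleton_iff.2 ?_⟩
          invFun := fun a => ⟨⟨(a : H), a.2.1⟩, fun y => Subtype.ext ?_⟩
          left_inv := fun a => rfl
          right_inv := fun a => rfl }
      · have h := congrArg Subtype.val (a.2 ⟨x, Subgroup.mem_zpowers x⟩)
        exact (mul_inv_eq_iff_eq_mul.1 h).symm
      · show (y : H) * a * (y : H)⁻¹ = a
        obtain ⟨i, hi⟩ := Subgroup.mem_zpowers_iff.1 y.2
        have hc : Commute x (a : H) := (Subgroup.mem_centralizer_singleton_iff.1 a.2.2).symm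
        rw [← hi, (hc.zpow_left i).eq, mul_inv_cancel_right]
    rw [hfix] at hmod
    by_cases hCR : C = R
    · left
      intro a ha
      exact (Subgroup.mem_centralizer_singleton_iff.1 (hCR.ge ha).2).symm
    right
    obtain ⟨a, ha⟩ := IsPGroup.iff_card.1 hR
    obtain ⟨b, hb⟩ := IsPGroup.iff_card.1 (hR.to_le (inf_le_left : C ≤ R))
    rw [ha, hb] at hmod
    have hba : b < a := by
      by_contra h
      exact hCR (Subgroup.eq_of_le_of_card_ge inf_le_left
        (by rw [ha, hb]; exact Nat.pow_le_pow_right hr.out.pos (not_lt.1 h)))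
    obtain ⟨j, rfl⟩ := Nat.exists_eq_add_of_lt hba
    rw [show b + j + 1 = b + (j + 1) by ring, pow_add] at hmod
    have hj : r ^ (j + 1) ≡ 1 [MOD p] := by
      have hco : p.Coprime (r ^ b) :=
        Nat.Coprime.pow_right b ((Nat.coprime_primes hp.out hr.out).2 hrp.symm)
      exact Nat.ModEq.cancel_left_of_coprime hco (by rwa [mul_one])
    rw [Nat.ModEq, Nat.one_mod_eq_one.2 hp.out.ne_one] at hj
    have hm := hleast _ ((hr.out.isPrimePow).pow (Nat.succ_ne_zero j)) hj
    have hle : Nat.card X * Nat.card R ≤ Nat.card H := by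
      refine Nat.le_of_dvd Nat.card_pos (Nat.Coprime.mul_dvd_of_dvd_of_dvd ?_
        (Subgroup.card_subgroup_dvd_card _) (Subgroup.card_subgroup_dvd_card _))
      rw [hXc, ha]
      exact Nat.Coprime.pow_right _ ((Nat.coprime_primes hp.out hr.out).2 hrp.symm)
    rw [hXc, ha] at hle
    refine le_trans (Nat.mul_le_mul_left p (hm.trans ?_)) hle
    exact Nat.pow_le_pow_right hr.out.pos (by omega)
  · left
    have hcl := hsub K hKt
    obtain ⟨g, hg⟩ := mul_card_eq P hP hXc
    have hXK : ((g • P : Sylow p H) : Subgroup H) ≤ K := hg ▸ le_sup_left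
    have hn := hcl ((g • P).subtype hXK)
    rw [Sylow.coe_subtype, ← hg] at hn
    intro a ha
    have h1 : a * x * a⁻¹ ∈ X :=
      hn.conj_mem ⟨x, le_sup_left (a := X) (Subgroup.mem_zpowers x)⟩ (Subgroup.mem_zpowers x)
        ⟨a, le_sup_right (a := X) ha⟩
    have h2 : x⁻¹ * (a * x * a⁻¹) ∈ X ⊓ R := by
      refine Subgroup.mem_inf.2 ⟨mul_mem (inv_mem (Subgroup.mem_zpowers x)) h1, ?_⟩
      have h3 : x⁻¹ * a * x ∈ R := (Subgroup.mem_normalizer_iff''.1 hxR a).1 ha
      have := mul_mem h3 (inv_mem ha)
      simpa [mul_assoc] using this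
    rw [hXR, Subgroup.mem_bot, inv_mul_eq_one, eq_mul_inv_iff_mul_eq] at h2
    exact h2

end General

theorem lower_bound {p : ℕ} [hp : Fact p.Prime] (hp2 : p ≠ 2) {m : ℕ}
    (hleast : ∀ k : ℕ, IsPrimePow k → k % p = 1 → m ≤ k) :
    ∀ (c : ℕ) (H : Type) [Group H] [Finite H], Nat.card H = c → ¬ IsPClosed p H →
      min (p * m) (p * (p ^ 2 - 1) / 2) ≤ c := by
  classical
  intro c
  induction c using Nat.strong_induction_on with
  | _ c ih =>
  intro H _ _ hc hncl
  by_contra hlt
  rw [not_le] at hlt
  have hsub : ∀ K : Subgroup H, K ≠ ⊤ → IsPClosed p K := by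
    intro K hK
    by_contra h
    have hcard : Nat.card K < c := hc ▸ lt_of_le_of_ne K.card_le_card_group
      (fun e => hK (Subgroup.eq_top_of_card_eq K e))
    have := ih _ hcard K rfl h
    omega
  obtain ⟨P⟩ : Nonempty (Sylow p H) := inferInstance
  have hPn : ¬ (P : Subgroup H).Normal := fun h => hncl (isPClosed_of_normal P h)
  have hsyl : p + 1 ≤ Nat.card (Sylow p H) := by
    have hne : Nat.card (Sylow p H) ≠ 1 := by
      intro h1
      haveI : Subsingleton (Sylow p H) := (Nat.card_eq_one_iff_unique.1 h1).1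
      exact hPn P.normal_of_subsingleton
    have hmod : Nat.card (Sylow p H) % p = 1 := by
      have h : Nat.card (Sylow p H) ≡ 1 [MOD p] := card_sylow_modEq_one p H
      rwa [Nat.ModEq, Nat.one_mod_eq_one.2 hp.out.ne_one] at h
    rcases lt_trichotomy (Nat.card (Sylow p H)) p with h | h | h
    · rw [Nat.mod_eq_of_lt h] at hmod; exact absurd hmod hne
    · rw [h, Nat.mod_self] at hmod; omega
    · omega
  have hP : Nat.card (P : Subgroup H) = p := by
    obtain ⟨k, hk⟩ := IsPGroup.iff_card.1 P.isPGroup'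
    rcases Nat.lt_or_ge k 2 with hk2 | hk2
    · interval_cases k
      · exfalso
        rw [pow_zero, Subgroup.card_eq_one] at hk
        exact hPn (hk ▸ inferInstance)
      · rw [hk, pow_one]
    · exfalso
      have h1 := SmallSimple.card_sylow_mul_card_normalizer P
      have h2 : p ^ 2 ≤ Nat.card (Subgroup.normalizer ((P : Subgroup H) : Set H)) :=
        (Nat.pow_le_pow_right hp.out.pos hk2).trans
          (hk ▸ Subgroup.card_le_of_le Subgroup.le_normalizer)
      have h3 := Nat.mul_le_mul hsyl h2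
      rw [h1, hc] at h3
      have h4 : p * (p ^ 2 - 1) / 2 ≤ (p + 1) * p ^ 2 := by
        refine (Nat.div_le_self _ _).trans ?_
        have : p ^ 2 - 1 ≤ p ^ 2 := Nat.sub_le _ _
        nlinarith [Nat.mul_le_mul_left p this]
      omega
  by_cases hs : IsSimpleGroup H
  · have hG : ¬ IsMulCommutative H := fun h => hPn ⟨fun a ha g => by
      rw [mul_comm' g a, mul_inv_cancel_right]; exact ha⟩
    have := LeastNonClosed.card_ge hG hp2 P hP
    omega
  haveI : Nontrivial H := by
    by_contra h
    rw [not_nontrivial_iff_subsingleton] at h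
    exact hPn ⟨fun a ha g => by rwa [Subsingleton.elim (g * a * g⁻¹) a]⟩
  obtain ⟨N, hN, hNbot, hNtop⟩ : ∃ N : Subgroup H, N.Normal ∧ N ≠ ⊥ ∧ N ≠ ⊤ := by
    by_contra h
    push Not at h
    exact hs ⟨fun N hN => by
      by_cases hb : N = ⊥
      · exact Or.inl hb
      · exact Or.inr (h N hN hb)⟩
  have hpN : ¬ p ∣ Nat.card N := by
    intro hd
    obtain ⟨x, hx⟩ := exists_prime_orderOf_dvd_card' (G := N) p hd
    have hxc : Nat.card (Subgroup.zpowers (x : H)) = p := by
      rw [Nat.card_zpowers, Subgroup.orderOf_coe, hx]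
    obtain ⟨g, hg⟩ := mul_card_eq P hP hxc
    have hQN : ((g • P : Sylow p H) : Subgroup H) ≤ N := hg ▸ Subgroup.zpowers_le.2 x.2
    have hn := hsub N hNtop ((g • P).subtype hQN)
    haveI := Sylow.characteristic_of_normal _ hn
    have : (Subgroup.map N.subtype (((g • P).subtype hQN : Sylow p N) : Subgroup N)).Normal :=
      inferInstance
    rw [Sylow.coe_subtype, Subgroup.subgroupOf_map_subtype, inf_of_le_left hQN] at this
    exact hncl (isPClosed_of_normal _ this)
  -- the quotient by `N` is closed, so `H = P N`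
  have hquot : IsPClosed p (H ⧸ N) := by
    by_contra h
    have hcard : Nat.card (H ⧸ N) < c := by
      rw [← hc, Subgroup.card_eq_card_quotient_mul_card_subgroup N]
      exact lt_mul_of_one_lt_right Nat.card_pos ((Subgroup.one_lt_card_iff_ne_bot N).2 hNbot)
    have := ih _ hcard (H ⧸ N) rfl h
    omega
  have hsurj : Function.Surjective (QuotientGroup.mk' N) := QuotientGroup.mk'_surjective N
  have hPN : ((P : Subgroup H) ⊔ N).Normal := by
    have h := hquot (P.mapSurjective hsurj)
    rw [Sylow.coe_mapSurjective] at h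
    have h' := h.comap (QuotientGroup.mk' N)
    rwa [Subgroup.comap_map_eq, QuotientGroup.ker_mk'] at h'
  have htop : (P : Subgroup H) ⊔ N = ⊤ := by
    by_contra h
    have hn := hsub _ h (P.subtype le_sup_left)
    haveI := Sylow.characteristic_of_normal _ hn
    haveI := hPN
    have : (Subgroup.map ((P : Subgroup H) ⊔ N).subtype
        ((P.subtype le_sup_left : Sylow p ↥((P : Subgroup H) ⊔ N)) : Subgroup _)).Normal :=
      inferInstance
    rw [Sylow.coe_subtype, Subgroup.subgroupOf_map_subtype, inf_of_le_left le_sup_left] at this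
    exact hPn this
  have hidx : N.index = p := by
    have h1 := Subgroup.relIndex_sup_right (H := (P : Subgroup H)) (K := N)
    rw [htop, Subgroup.relIndex_top_right] at h1
    have h2 : N.relIndex (P : Subgroup H) ∣ p := by
      conv_rhs => rw [← hP]
      exact Subgroup.index_dvd_card _
    rw [← h1] at h2
    exact ((Nat.dvd_prime hp.out).1 h2).resolve_left fun e => hNtop (Subgroup.index_eq_one.1 e)
  set C := Subgroup.centralizer ((P : Subgroup H) : Set H) with hCdef
  apply hPn
  have hCtop : C = ⊤ := by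
    refine Subgroup.eq_top_of_le_card _ (Nat.le_of_dvd Nat.card_pos ?_)
    rw [Nat.dvd_iff_prime_pow_dvd_dvd]
    intro r k hr hrk
    haveI : Fact r.Prime := ⟨hr⟩
    by_cases hrp : r = p
    · subst hrp
      have hle : k ≤ 1 := by
        by_contra hk
        obtain ⟨K, hK⟩ := Sylow.exists_subgroup_card_pow_prime r hrk
        obtain ⟨Q, hQ⟩ := (IsPGroup.of_card hK).exists_le_sylow
        have := Subgroup.card_le_of_le hQ
        rw [hK, Sylow.card_eq_multiplicity] at this
        rw [Sylow.card_eq_multiplicity] at hP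
        rw [hP] at this
        have h2 := Nat.pow_le_pow_right hr.pos (show 2 ≤ k by omega)
        nlinarith [hr.two_le]
      refine (pow_dvd_pow r hle).trans ?_
      rw [pow_one]
      conv_lhs => rw [← hP]
      haveI : IsCyclic (P : Subgroup H) := isCyclic_of_prime_card hP
      refine Subgroup.card_dvd_of_le fun a ha b hb => ?_
      have := IsCyclic.isMulCommutative (α := (P : Subgroup H))
      exact congrArg Subtype.val (mul_comm' (⟨b, hb⟩ : (P : Subgroup H)) ⟨a, ha⟩)
    obtain ⟨R⟩ : Nonempty (Sylow r H) := inferInstance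
    have hRN : (R : Subgroup H) ≤ N := by
      intro a ha
      obtain ⟨i, hi⟩ := R.isPGroup' ⟨a, ha⟩
      have hi' : (QuotientGroup.mk' N a) ^ (r ^ i) = 1 := by
        rw [← map_pow, show a ^ (r ^ i) = 1 from congrArg Subtype.val hi, map_one]
      have hp' : (QuotientGroup.mk' N a) ^ p = 1 := by
        have : Nat.card (H ⧸ N) = p := hidx
        conv_lhs => rw [← this]
        exact pow_card_eq_one'
      have hco : (r ^ i).Coprime p := Nat.Coprime.pow_left i ((Nat.coprime_primes hr hp.out).2 hrp)
      have h1 : QuotientGroup.mk' N a = 1 := orderOf_eq_one_iff.1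
        (Nat.eq_one_of_dvd_coprimes hco (orderOf_dvd_of_pow_eq_one hi') (orderOf_dvd_of_pow_eq_one hp'))
      exact (QuotientGroup.eq_one_iff a).1 h1
    haveI := hN
    have hfr : Subgroup.normalizer ((R : Subgroup H) : Set H) ⊔ N = ⊤ :=
      Sylow.normalizer_sup_eq_top' R hRN
    have hpd : p ∣ Nat.card (Subgroup.normalizer ((R : Subgroup H) : Set H)) := by
      have h1 := Subgroup.relIndex_sup_right (H := Subgroup.normalizer ((R : Subgroup H) : Set H)) (K := N)
      rw [hfr, Subgroup.relIndex_top_right, hidx] at h1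
      rw [h1]
      exact Subgroup.index_dvd_card _
    obtain ⟨⟨x, hxN⟩, hx⟩ := exists_prime_orderOf_dvd_card' (G := Subgroup.normalizer ((R : Subgroup H) : Set H)) p hpd
    rw [Subgroup.orderOf_mk] at hx
    rcases centralizes_or_large P hP hleast hsub hrp _ R.isPGroup' x hx hxN with hcen | hbig
    swap; · omega
    obtain ⟨g, hg⟩ := mul_card_eq P hP (K := Subgroup.zpowers x) (by rw [Nat.card_zpowers, hx])
    have hle : (R : Subgroup H).map (MulAut.conj g⁻¹).toMonoidHom ≤ C := by
      rintro _ ⟨a, ha, rfl⟩ b hb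
      have hgb : g * b * g⁻¹ ∈ Subgroup.zpowers x := by
        rw [hg, Sylow.coe_subgroup_smul]
        exact Subgroup.smul_mem_pointwise_smul b (MulAut.conj g) (P : Subgroup H) hb
      obtain ⟨i, hi⟩ := Subgroup.mem_zpowers_iff.1 hgb
      have hcom : Commute (g * b * g⁻¹) a := hi ▸ (Commute.zpow_left (hcen a ha) i)
      simp only [MulEquiv.toMonoidHom_eq_coe, MonoidHom.coe_coe, MulAut.conj_apply, inv_inv]
      calc b * (g⁻¹ * a * g) = g⁻¹ * ((g * b * g⁻¹) * a) * g := by group
        _ = g⁻¹ * (a * (g * b * g⁻¹)) * g := by rw [hcom.eq]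
        _ = g⁻¹ * a * g * b := by group
    refine dvd_trans ?_ (Subgroup.card_dvd_of_le hle)
    rw [Subgroup.card_map_of_injective (MulAut.conj g⁻¹).injective, Sylow.card_eq_multiplicity]
    exact pow_dvd_pow r ((hr.pow_dvd_iff_le_factorization Nat.card_pos.ne').1 hrk)
  refine ⟨fun a ha g => ?_⟩
  have hgC : g ∈ C := hCtop ▸ Subgroup.mem_top g
  rw [← hgC a ha, mul_inv_cancel_right]
  exact ha

theorem exists_affine {p : ℕ} [hp : Fact p.Prime] {m : ℕ} (hm : IsPrimePow m) (hm1 : m % p = 1) :
    ∃ (H : Type) (_ : Group H) (_ : Finite H), Nat.card H = p * m ∧ ¬ IsPClosed p H := by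
  classical
  obtain ⟨q, a, hq, ha, rfl⟩ := hm
  haveI : Fact q.Prime := ⟨Nat.prime_iff.2 hq⟩
  let F := GaloisField q a
  haveI : Fintype F := Fintype.ofFinite F
  have hF : Nat.card F = q ^ a := GaloisField.card q a ha.ne'
  have hd : p ∣ Nat.card Fˣ := by
    rw [Nat.card_units, hF]
    exact (Nat.modEq_iff_dvd' (Nat.one_le_pow _ _ (Fact.out : q.Prime).pos)).1
      (by rw [Nat.ModEq, hm1, Nat.one_mod_eq_one.2 hp.out.ne_one])
  obtain ⟨u, hu⟩ := exists_prime_orderOf_dvd_card' (G := Fˣ) p hd
  let K := Subgroup.zpowers u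
  let φ : K →* MulAut (Multiplicative F) :=
    { toFun := fun v =>
        { toFun := fun x => Multiplicative.ofAdd (((v : Fˣ) : F) * Multiplicative.toAdd x)
          invFun := fun x => Multiplicative.ofAdd ((((v : Fˣ)⁻¹ : Fˣ) : F) * Multiplicative.toAdd x)
          left_inv := fun x => by simp [← mul_assoc]
          right_inv := fun x => by simp [← mul_assoc]
          map_mul' := fun x y => by simp [mul_add] }
      map_one' := by ext x; simp
      map_mul' := fun v w => by ext x; simp [mul_assoc] }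
  have hK : Nat.card K = p := by rw [Nat.card_zpowers, hu]
  have hcard : Nat.card (SemidirectProduct (Multiplicative F) K φ) = p * q ^ a := by
    rw [SemidirectProduct.card, hK, mul_comm]
    exact congrArg _ hF
  haveI : Finite (SemidirectProduct (Multiplicative F) K φ) :=
    Nat.finite_of_card_ne_zero (by rw [hcard]; exact mul_ne_zero hp.out.ne_zero (pow_ne_zero _ (Fact.out : q.Prime).ne_zero))
  refine ⟨_, inferInstance, inferInstance, hcard, fun hcl => ?_⟩
  set R := (SemidirectProduct.inr (φ := φ)).range with hRdef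
  have hR : IsPGroup p R := IsPGroup.of_card (n := 1) (by
    rw [pow_one, ← hK]
    exact (Nat.card_congr (MonoidHom.ofInjective SemidirectProduct.inr_injective).toEquiv).symm)
  obtain ⟨Q, hQ⟩ := hR.exists_le_sylow
  have h1 := (hcl Q).conj_mem _ (hQ ⟨⟨u, Subgroup.mem_zpowers u⟩, rfl⟩)
    (SemidirectProduct.inl (Multiplicative.ofAdd (1 : F)))
  have hQc : (Q : Subgroup (SemidirectProduct (Multiplicative F) K φ)) = R := by
    refine (Subgroup.eq_of_le_of_card_ge hQ ?_).symm
    rw [Sylow.card_eq_multiplicity, hcard,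
      show Nat.card R = p by rw [← hK]; exact (Nat.card_congr (MonoidHom.ofInjective SemidirectProduct.inr_injective).toEquiv).symm,
      Nat.factorization_mul hp.out.ne_zero (by have := (Fact.out : q.Prime).pos; positivity),
      Finsupp.add_apply, hp.out.factorization_self]
    have hnd : ¬ p ∣ q ^ a := fun h => by
      rw [Nat.mod_eq_zero_of_dvd h] at hm1 <;> omega
    rw [Nat.factorization_eq_zero_of_not_dvd hnd, add_zero, pow_one]
  rw [hQc] at h1
  obtain ⟨w, hw⟩ := h1
  have hl := congrArg SemidirectProduct.left hw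
  simp only [SemidirectProduct.left_inr, SemidirectProduct.mul_left, SemidirectProduct.left_inl,
    SemidirectProduct.right_inl, SemidirectProduct.inv_left, SemidirectProduct.mul_right,
    SemidirectProduct.right_inr, map_one, MulAut.one_apply, mul_one, one_mul, inv_one] at hl
  have h2 := congrArg Multiplicative.toAdd hl
  simp [φ] at h2
  have hu1 : (u : F) = 1 := by linear_combination h2
  rw [Units.val_eq_one] at hu1
  rw [hu1, orderOf_one] at hu
  exact hp.out.one_lt.ne hu

theorem exists_psl {p : ℕ} [hp : Fact p.Prime] (hp5 : 5 ≤ p) :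
    ∃ (H : Type) (_ : Group H) (_ : Finite H), Nat.card H = p * (p ^ 2 - 1) / 2 ∧ ¬ IsPClosed p H := by
  classical
  have h2 : (2 : ZMod p) ≠ 0 := by
    intro h
    have : p ∣ 2 := (ZMod.natCast_eq_zero_iff 2 p).1 (by exact_mod_cast h)
    have := Nat.le_of_dvd (by norm_num) this
    omega
  have hc := PSL2.Recog.card_PSL_odd (F := ZMod p) h2
  rw [ZMod.card] at hc
  haveI : IsSimpleGroup PSL(2, ZMod p) := PSL2.psl_isSimpleGroup (by rw [ZMod.card]; omega)
  refine ⟨PSL(2, ZMod p), inferInstance, inferInstance, by omega, fun hcl => ?_⟩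
  obtain ⟨Q⟩ : Nonempty (Sylow p PSL(2, ZMod p)) := inferInstance
  have hpd : p ∣ Nat.card PSL(2, ZMod p) :=
    ((Nat.coprime_primes hp.out Nat.prime_two).2 (by omega)).dvd_of_dvd_mul_left (hc ▸ dvd_mul_right p _)
  rcases (hcl Q).eq_bot_or_eq_top with h | h
  · exact Q.ne_bot_of_dvd_card hpd h
  · have h3 := congrArg (fun K : Subgroup PSL(2, ZMod p) => Nat.card K) h
    simp only [Sylow.card_eq_multiplicity, Subgroup.card_top] at h3
    have h4 : 2 ∣ Nat.card PSL(2, ZMod p) := by
      obtain ⟨b, hb⟩ := hp.out.odd_of_ne_two (by omega)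
      have he : p * (p ^ 2 - 1) = 2 * (2 * (p * (b ^ 2 + b))) := by
        rw [show p ^ 2 - 1 = 4 * (b ^ 2 + b) from Nat.sub_eq_of_eq_add (by rw [hb]; ring)]
        ring
      rw [he] at hc
      exact ⟨p * (b ^ 2 + b), Nat.eq_of_mul_eq_mul_left two_pos hc⟩
    rw [← h3] at h4
    have := (Nat.prime_dvd_prime_iff_eq Nat.prime_two hp.out).1 (Nat.prime_two.dvd_of_dvd_pow h4)
    omega


/-- Let p be an odd prime and let m be the least prime power congruent to 1 modulo p. Then the least order of a finite group whose Sylow p-subgroups are not normal is the smaller of p · m and p(p² − 1)/2: every finite group whose Sylow p-subgroups are not normal has at least that order, and some group of exactly that order has non-normal Sylow p-subgroups. -/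
theorem result (p : ℕ) [Fact p.Prime] (hp : p ≠ 2) (m : ℕ) (hm : IsPrimePow m) (hm1 : m % p = 1)
    (hleast : ∀ k : ℕ, IsPrimePow k → k % p = 1 → m ≤ k) :
    (∀ (H : Type) [Group H] [Finite H], ¬ Cfsg.IsPClosed p H → min (p * m) (p * (p ^ 2 - 1) / 2) ≤ Nat.card H) ∧
      ∃ (H : Type) (_ : Group H) (_ : Finite H), Nat.card H = min (p * m) (p * (p ^ 2 - 1) / 2) ∧ ¬ Cfsg.IsPClosed p H := by
  refine ⟨fun H _ _ h => lower_bound hp hleast _ H rfl h, ?_⟩
  by_cases hle : p * m ≤ p * (p ^ 2 - 1) / 2
  · rw [min_eq_left hle]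
    exact exists_affine hm hm1
  · rw [min_eq_right (le_of_not_ge hle)]
    refine exists_psl ?_
    by_contra hlt
    have h2 := (Fact.out : p.Prime).two_le
    have h3 : p = 3 := by
      by_contra h3
      have : p = 4 := by omega
      subst this
      exact absurd (Fact.out : Nat.Prime 4) (by norm_num)
    subst h3
    have hm4 := hleast 4 ⟨2, 2, Nat.prime_two.prime, two_pos, by norm_num⟩ (by norm_num)
    norm_num at hle
    omega

end Cfsg.Agent.S3875
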