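import Mathlib
import Cfsg.Statements.S3878

set_option autoImplicit false
open Cfsg

namespace Cfsg.Agent.S3878

open Equiv in
/-- A π-Hall subgroup contains a conjugate of every element whose order is a prime of π. -/
theorem exists_conj_mem {G : Type*} [Group G] [Finite G] {π : Set ℕ} {H : Subgroup G} (hH : Cfsg.IsPiHall π H)
    {p : ℕ} [hp : Fact p.Prime] (hpπ : p ∈ π) {x : G} (hx : orderOf x = p) : ∃ g : G, g⁻¹ * x * g ∈ H := by
  have hz : IsPGroup p (Subgroup.zpowers x) := IsPGroup.of_card (n := 1) (by rw [Nat.card_zpowers, hx, pow_one])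
  obtain ⟨c, hc⟩ := hz.nonempty_fixed_point_of_prime_not_dvd_card (G ⧸ H) (hH.2 p hp.out hpπ)
  obtain ⟨g, rfl⟩ := QuotientGroup.mk_surjective c
  refine ⟨g, ?_⟩
  have h := hc ⟨x, Subgroup.mem_zpowers x⟩
  have h' : ((x * g : G) : G ⧸ H) = (g : G ⧸ H) := h
  rw [eq_comm, QuotientGroup.eq] at h'
  rwa [mul_assoc]

/-- A symmetric group without Hall π-subgroup, `2 ∈ π`, `r < q`. -/
theorem no_hall_two {π : Set ℕ} {q r : ℕ} (hq : q.Prime) (hr : r.Prime) (h2 : 2 ∈ π) (hqπ : q ∈ π) (hrπ : r ∉ π)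
    (hrq : r < q) : ¬ Cfsg.IsEPiGroup π (Equiv.Perm (Fin q)) := by
  rintro ⟨H, hH⟩
  have := Fact.mk hq
  have := Fact.mk Nat.prime_two
  obtain ⟨x, hx⟩ := exists_prime_orderOf_dvd_card' (G := Equiv.Perm (Fin q)) q
    (by rw [Nat.card_perm, Nat.card_fin]; exact hq.dvd_factorial.mpr le_rfl)
  obtain ⟨g, hg⟩ := exists_conj_mem hH hqπ hx
  set σ := g⁻¹ * x * g
  have hσo : orderOf σ = q := by
    refine Eq.trans ?_ hx
    simpa [σ] using orderOf_injective (MulAut.conj g⁻¹).toMonoidHom (MulAut.conj g⁻¹).injective x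
  have hc : σ.IsCycle := Equiv.Perm.isCycle_of_prime_order'' (by rwa [Fintype.card_fin]) (by rw [hσo, Fintype.card_fin])
  have hs : σ.support = Finset.univ := Finset.eq_univ_of_card _ (by rw [← hc.orderOf, hσo, Fintype.card_fin])
  let τ : Equiv.Perm (Fin q) := Equiv.swap ⟨0, hq.pos⟩ ⟨1, hq.one_lt⟩
  have hτ : τ.IsSwap := ⟨_, _, by simp, rfl⟩
  obtain ⟨g', hg'⟩ := exists_conj_mem hH h2 (hτ.orderOf)
  have hτ' : (g'⁻¹ * τ * g').IsSwap := by
    rw [← Equiv.Perm.card_support_eq_two] at hτ ⊢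
    rw [← hτ, show g'⁻¹ * τ * g' = g'⁻¹ * τ * g'⁻¹⁻¹ by rw [inv_inv], Equiv.Perm.card_support_conj]
  have htop := Equiv.Perm.closure_prime_cycle_swap (by rwa [Fintype.card_fin]) hc hs hτ'
  have hHtop : H = ⊤ := top_le_iff.mp (htop ▸ (Subgroup.closure_le H).mpr (by
    rintro z (rfl | rfl)
    · exact hg
    · exact hg'))
  refine hrπ (hH.1 r hr ?_)
  rw [hHtop, Subgroup.card_top, Nat.card_perm, Nat.card_fin]
  exact hr.dvd_factorial.mpr hrq.le

/-- A symmetric group without Hall π-subgroup for π containing two odd primes `p < q` but not 2. -/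
theorem no_hall_odd {π : Set ℕ} {p q : ℕ} (hp : p.Prime) (hq : q.Prime) (h2 : 2 ∉ π) (hpπ : p ∈ π) (hqπ : q ∈ π)
    (hpq : p < q) : ¬ Cfsg.IsEPiGroup π (Equiv.Perm (Fin q)) := by
  classical
  rintro ⟨H, hH⟩
  have := Fact.mk hq
  have := Fact.mk hp
  obtain ⟨x, hx⟩ := exists_prime_orderOf_dvd_card' (G := Equiv.Perm (Fin q)) q
    (by rw [Nat.card_perm, Nat.card_fin]; exact hq.dvd_factorial.mpr le_rfl)
  obtain ⟨g, hg⟩ := exists_conj_mem hH hqπ hx
  set σ := g⁻¹ * x * g
  have hσo : orderOf σ = q := by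
    refine Eq.trans ?_ hx
    simpa [σ] using orderOf_injective (MulAut.conj g⁻¹).toMonoidHom (MulAut.conj g⁻¹).injective x
  have hc : σ.IsCycle := Equiv.Perm.isCycle_of_prime_order'' (by rwa [Fintype.card_fin]) (by rw [hσo, Fintype.card_fin])
  have hs : σ.support = Finset.univ := Finset.eq_univ_of_card _ (by rw [← hc.orderOf, hσo, Fintype.card_fin])
  have htr : MulAction.IsPretransitive H (Fin q) := ⟨fun a b => by
    obtain ⟨i, hi⟩ := hc.exists_zpow_eq (x := a) (y := b) (Equiv.Perm.mem_support.mp (hs ▸ Finset.mem_univ a))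
      (Equiv.Perm.mem_support.mp (hs ▸ Finset.mem_univ b))
    exact ⟨⟨σ ^ i, Subgroup.zpow_mem _ hg i⟩, hi⟩⟩
  have hprim : MulAction.IsPreprimitive H (Fin q) := MulAction.IsPreprimitive.of_prime_card (by rwa [Nat.card_fin])
  obtain ⟨y, hy⟩ := (Equiv.Perm.exists_with_cycleType_iff (α := Fin q) (m := {p})).mpr
    ⟨by simpa using hpq.le, fun a ha => by simpa [Multiset.mem_singleton.mp ha] using hp.two_le⟩
  have hyo : orderOf y = p := by rw [← Equiv.Perm.lcm_cycleType, hy]; simp
  obtain ⟨g', hg'⟩ := exists_conj_mem hH hpπ hyo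
  set τ := g'⁻¹ * y * g'
  have hτt : τ.cycleType = {p} := by
    rw [show τ = g'⁻¹ * y * g'⁻¹⁻¹ by rw [inv_inv], Equiv.Perm.cycleType_conj, hy]
  have hτc : τ.IsCycle := by rw [← Equiv.Perm.card_cycleType_eq_one, hτt]; rfl
  have hτs : τ.support.card = p := by rw [← Equiv.Perm.sum_cycleType, hτt]; simp
  have hcomp : ((τ.support : Set (Fin q))ᶜ).ncard = (q - p - 1) + 1 := by
    rw [Set.ncard_compl, Set.ncard_coe_finset, hτs, Nat.card_fin]
    omega
  have h2t := hprim.is_two_pretransitive hcomp (by rw [Nat.card_fin]; have := hp.two_le; omega)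
    (Equiv.Perm.isPretransitive_of_isCycle_mem hτc hg')
  -- an element exchanging two points
  let a : Fin q := ⟨0, hq.pos⟩
  let b : Fin q := ⟨1, hq.one_lt⟩
  have hab : a ≠ b := by simp [a, b]
  obtain ⟨h, ha, hb⟩ := (MulAction.is_two_pretransitive_iff (G := H) (α := Fin q)).mp h2t hab hab.symm
  refine h2 (hH.1 2 Nat.prime_two (dvd_trans ?_ (orderOf_dvd_natCard h)))
  by_contra hodd
  obtain ⟨k, hk⟩ : Odd (orderOf h) := Nat.odd_iff.mpr (Nat.two_dvd_ne_zero.mp hodd)
  have h2fix : ∀ j : ℕ, (h ^ (2 * j)) • a = a := by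
    intro j
    induction j with
    | zero => simp
    | succ j ih => rw [show 2 * (j + 1) = 2 * j + 1 + 1 by ring, pow_succ, pow_succ, mul_smul, mul_smul, ha, hb, ih]
  have := h2fix (k + 1)
  rw [show 2 * (k + 1) = orderOf h + 1 by omega, pow_succ, pow_orderOf_eq_one, one_mul, ha] at this
  exact hab this.symm

/-- The symmetric group on `r + 1` letters has no Hall subgroup avoiding exactly `r`. -/
theorem no_hall_top {π : Set ℕ} {r : ℕ} (hr : r.Prime) (hr5 : 5 ≤ r) (hrπ : r ∉ π)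
    (hsmall : ∀ s, s.Prime → s < r → s ∈ π) : ¬ Cfsg.IsEPiGroup π (Equiv.Perm (Fin (r + 1))) := by
  rintro ⟨H, hH⟩
  have hdvd : H.index ∣ r := by
    have h1 : H.index ∣ r * ((r + 1) * (r - 1).factorial) := by
      have := Subgroup.index_dvd_card H
      rwa [Nat.card_perm, Nat.card_fin, Nat.factorial_succ, ← Nat.mul_factorial_pred hr.pos.ne',
        mul_left_comm] at this
    refine (Nat.Coprime.dvd_of_dvd_mul_right (Nat.coprime_of_dvd fun s hs hd hd' => ?_) h1)
    have hsr : s ∈ π := by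
      refine hsmall s hs ?_
      rcases hs.dvd_mul.mp hd' with h | h
      · refine lt_of_le_of_ne ?_ ?_
        · rcases Nat.le_succ_iff.mp (Nat.le_of_dvd (by omega) h) with h' | h'
          · exact h'
          · exfalso
            have h2 : 2 ∣ s := h' ▸ even_iff_two_dvd.mp ((hr.odd_of_ne_two (by omega)).add_odd odd_one)
            have := (Nat.prime_dvd_prime_iff_eq Nat.prime_two hs).mp h2
            omega
        · rintro rfl
          have := (Nat.dvd_add_right dvd_rfl).mp h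
          exact hs.ne_one (Nat.dvd_one.mp this)
      · have := hs.dvd_factorial.mp h; omega
    exact hH.2 s hs hsr hd
  have hA : IsSimpleGroup (alternatingGroup (Fin (r + 1))) := alternatingGroup.isSimpleGroup (by rw [Nat.card_fin]; omega)
  set A := alternatingGroup (Fin (r + 1))
  set H' := H.subgroupOf A
  have hidx : H'.index ≤ r := by
    refine le_trans ?_ (Nat.le_of_dvd hr.pos hdvd)
    exact Nat.card_le_card_of_injective (Subgroup.quotientSubgroupOfEmbeddingOfLE H (le_top : A ≤ ⊤) |>.trans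
      ⟨fun q => Quotient.map' Subtype.val (fun a b hab => by
        rw [QuotientGroup.leftRel_apply] at hab ⊢; exact hab) q, fun u v huv => by
        induction u using QuotientGroup.induction_on
        induction v using QuotientGroup.induction_on
        have := QuotientGroup.eq.mp huv
        exact QuotientGroup.eq.mpr this⟩ : _ ↪ _) (Function.Embedding.injective _)
  have hcardA : 2 * Nat.card A = (r + 1).factorial := by
    have : Nontrivial (Fin (r + 1)) := Fin.nontrivial_iff_two_le.mpr (by omega)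
    rw [two_mul_nat_card_alternatingGroup, Nat.card_perm, Nat.card_fin]
  rcases hA.eq_bot_or_eq_top_of_normal H'.normalCore inferInstance with hb | ht
  · have hinj : Function.Injective (MulAction.toPermHom A (A ⧸ H')) := by
      rw [← MonoidHom.ker_eq_bot_iff, ← Subgroup.normalCore_eq_ker]; exact hb
    have hle := Nat.card_le_card_of_injective _ hinj
    rw [Nat.card_perm] at hle
    have : Nat.card A ≤ r.factorial := hle.trans (Nat.factorial_le hidx)
    rw [Nat.factorial_succ] at hcardA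
    nlinarith [Nat.factorial_pos r]
  · have hAH : A ≤ H := by
      intro a ha
      have : (⟨a, ha⟩ : A) ∈ H'.normalCore := ht ▸ Subgroup.mem_top _
      exact Subgroup.normalCore_le H' this
    refine hrπ (hH.1 r hr (dvd_trans ?_ (Subgroup.card_dvd_of_le hAH)))
    have h1 : r ∣ 2 * Nat.card A := hcardA ▸ hr.dvd_factorial.mpr (by omega)
    exact (hr.dvd_mul.mp h1).resolve_left fun h => by have := Nat.le_of_dvd (by norm_num) h; omega

theorem exists_not_hall {π : Set ℕ}
    (h : ¬ ((∀ p q : ℕ, p.Prime → q.Prime → p ∈ π → q ∈ π → p = q) ∨ ∀ p : ℕ, p.Prime → p ∈ π)) :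
    ∃ n : ℕ, ¬ Cfsg.IsEPiGroup π (Equiv.Perm (Fin n)) := by
  classical
  rw [not_or] at h
  simp only [not_forall, exists_prop] at h
  obtain ⟨⟨p, q, hp, hq, hpπ, hqπ, hpq⟩, hex⟩ := h
  by_cases h2 : 2 ∈ π
  · let r := Nat.find hex
    obtain ⟨hr, hrπ⟩ : r.Prime ∧ r ∉ π := Nat.find_spec hex
    by_cases hbig : ∃ s, s.Prime ∧ s ∈ π ∧ r < s
    · obtain ⟨s, hs, hsπ, hrs⟩ := hbig
      exact ⟨s, no_hall_two hs hr h2 hsπ hrπ hrs⟩
    · simp only [not_exists, not_and, not_lt] at hbig
      have hp' := lt_of_le_of_ne (hbig p hp hpπ) (fun e => hrπ (e ▸ hpπ))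
      have hq' := lt_of_le_of_ne (hbig q hq hqπ) (fun e => hrπ (e ▸ hqπ))
      have hr5 : 5 ≤ r := by
        have := hp.two_le; have := hq.two_le
        rcases Nat.lt_or_gt_of_ne hpq with h' | h'
        all_goals
          by_contra hlt
          have h4 : r = 4 := by omega
          rw [h4] at hr; norm_num at hr
      refine ⟨r + 1, no_hall_top hr hr5 hrπ fun s hs hsr => ?_⟩
      by_contra hsπ
      exact Nat.find_min hex hsr ⟨hs, hsπ⟩
  · rcases Nat.lt_or_gt_of_ne hpq with h' | h'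
    · exact ⟨q, no_hall_odd hp hq h2 hpπ hqπ h'⟩
    · exact ⟨p, no_hall_odd hq hp h2 hqπ hpπ h'⟩

theorem ePi_of_dPi {π : Set ℕ} {G : Type*} [Group G] [Finite G] (h : Cfsg.IsDPiGroup π G) : Cfsg.IsEPiGroup π G := by
  classical
  have hext : ∀ K : Subgroup G, Cfsg.IsPiSubgroup π K → ∃ M, K ≤ M ∧ Maximal (Cfsg.IsPiSubgroup π) M := fun K hK =>
    ({M : Subgroup G | Cfsg.IsPiSubgroup π M}).toFinite.exists_le_maximal hK
  obtain ⟨H, -, hH⟩ := hext ⊥ (fun p hp hd => absurd (Nat.dvd_one.mp (by simpa using hd)) hp.ne_one)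
  refine ⟨H, hH.prop, fun p hp hpπ hd => ?_⟩
  have := Fact.mk hp
  let P : Sylow p G := default
  obtain ⟨M, hPM, hM⟩ := hext P (fun r hr hrd => by
    obtain ⟨k, hk⟩ := IsPGroup.iff_card.mp P.2
    rw [hk] at hrd
    exact (Nat.prime_dvd_prime_iff_eq hr hp).mp (hr.dvd_of_dvd_pow hrd) ▸ hpπ)
  obtain ⟨g, hg⟩ := h H M hH hM
  have h1 : M.index = H.index := by
    have e1 := Subgroup.card_mul_index M
    have e2 := Subgroup.card_mul_index H
    rw [hg, Subgroup.card_map_of_injective (f := (MulAut.conj g).toMonoidHom) (MulAut.conj g).injective, ← hg] at e1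
    exact Nat.eq_of_mul_eq_mul_left Nat.card_pos (e1.trans e2.symm)
  rw [← h1] at hd
  exact P.not_dvd_index (hd.trans (Subgroup.index_dvd_of_le hPM))

theorem dPi_of_trivial {π : Set ℕ}
    (h : (∀ p q : ℕ, p.Prime → q.Prime → p ∈ π → q ∈ π → p = q) ∨ ∀ p : ℕ, p.Prime → p ∈ π)
    (G : Type) [Group G] [Finite G] : Cfsg.IsDPiGroup π G := by
  classical
  intro H K hH hK
  have hone : ∀ L : Subgroup G, L.map (MulAut.conj (1 : G)).toMonoidHom = L := fun L => by
    ext x; simp [Subgroup.mem_map]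
  rcases h with h | h
  · by_cases hex : ∃ p, p.Prime ∧ p ∈ π
    · obtain ⟨p, hp, hpπ⟩ := hex
      have := Fact.mk hp
      have hiff : ∀ L : Subgroup G, Cfsg.IsPiSubgroup π L ↔ IsPGroup p L := by
        intro L
        constructor
        · intro hL
          refine IsPGroup.of_card (n := (Nat.card L).primeFactorsList.length) ?_
          exact Nat.eq_prime_pow_of_unique_prime_dvd Nat.card_pos.ne' fun {d} hd hdd => h d p hd hp (hL d hd hdd) hpπ
        · intro hL r hr hrd
          obtain ⟨k, hk⟩ := IsPGroup.iff_card.mp hL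
          rw [hk] at hrd
          exact (Nat.prime_dvd_prime_iff_eq hr hp).mp (hr.dvd_of_dvd_pow hrd) ▸ hpπ
      let S : Sylow p G := ⟨H, (hiff H).mp hH.prop, fun hQ hle => le_antisymm (hH.le_of_ge ((hiff _).mpr hQ) hle) hle⟩
      let T : Sylow p G := ⟨K, (hiff K).mp hK.prop, fun hQ hle => le_antisymm (hK.le_of_ge ((hiff _).mpr hQ) hle) hle⟩
      obtain ⟨g, hg⟩ := MulAction.exists_smul_eq G S T
      exact ⟨g, by rw [show K = ((g • S : Sylow p G) : Subgroup G) from by rw [hg]]; rfl⟩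
    · have hbot : ∀ L : Subgroup G, Cfsg.IsPiSubgroup π L → L = ⊥ := fun L hL => Subgroup.card_eq_one.mp (by
        by_contra hne
        obtain ⟨r, hr, hrd⟩ := Nat.exists_prime_and_dvd hne
        exact hex ⟨r, hr, hL r hr hrd⟩)
      exact ⟨1, by rw [hone, hbot H hH.prop, hbot K hK.prop]⟩
  · have htop : ∀ L : Subgroup G, Maximal (Cfsg.IsPiSubgroup π) L → L = ⊤ := fun L hL =>
      top_le_iff.mp (hL.le_of_ge (fun r hr _ => h r hr) le_top)
    exact ⟨1, by rw [hone, htop H hH, htop K hK]⟩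


/-- For a set of primes π the following are equivalent: every finite group has a Hall π-subgroup; in every finite group the maximal π-subgroups are pairwise conjugate; π contains at most one prime or contains every prime. -/
theorem result (π : Set ℕ) :
    ((∀ (G : Type) [Group G] [Finite G], Cfsg.IsEPiGroup π G) ↔
      ((∀ p q : ℕ, p.Prime → q.Prime → p ∈ π → q ∈ π → p = q) ∨ ∀ p : ℕ, p.Prime → p ∈ π)) ∧
    ((∀ (G : Type) [Group G] [Finite G], Cfsg.IsDPiGroup π G) ↔
      ((∀ p q : ℕ, p.Prime → q.Prime → p ∈ π → q ∈ π → p = q) ∨ ∀ p : ℕ, p.Prime → p ∈ π)) := by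
  refine ⟨⟨fun hE => ?_, fun h G _ _ => ePi_of_dPi (dPi_of_trivial h G)⟩, ⟨fun hD => ?_, fun h G _ _ => dPi_of_trivial h G⟩⟩
  · by_contra h
    obtain ⟨n, hn⟩ := exists_not_hall h
    exact hn (hE _)
  · by_contra h
    obtain ⟨n, hn⟩ := exists_not_hall h
    exact hn (ePi_of_dPi (hD _))

end Cfsg.Agent.S3878
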