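import Cfsg.Statements.S3881
import Cfsg.Agent.Lib.PGroup.Metacyclic

set_option autoImplicit false
open Cfsg

namespace Cfsg.Agent.S3881

/-- Let p be an odd prime and G a finite metacyclic p-group (G has a cyclic normal subgroup with cyclic quotient). Suppose G is non-abelian with |G'| = p^n. Then for 1 ≤ i ≤ n the number of elements of G whose conjugacy class has exactly p^i elements is |Z(G)| · (p^(2i) − p^(2i−2)). -/
theorem result {G : Type*} [Group G] [Finite G] {p : ℕ} [Fact p.Prime] (hp : p ≠ 2) (hG : IsPGroup p G) (hmc : Cfsg.IsMetacyclic G) (n : ℕ) (hn : n ≠ 0) (hGn : Nat.card ↥(commutator G) = p ^ n) (i : ℕ) (hi : 1 ≤ i) (hin : i ≤ n) :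
    Nat.card {g : G // (Subgroup.centralizer ({g} : Set G)).index = p ^ i} =
      Nat.card ↥(Subgroup.center G) * (p ^ (2 * i) - p ^ (2 * i - 2)) := by
  obtain ⟨a, b, H⟩ := PGroup.exists_metaGen hmc
  have hcount := fun s hs => H.card_index_centralizer_le hG hp hGn s hs
  set B : ℕ → Set G := fun s => {g : G | (Subgroup.centralizer ({g} : Set G)).index ≤ p ^ s} with hB
  have hp1 := (Fact.out (p := p.Prime)).one_lt
  have heq : {g : G | (Subgroup.centralizer ({g} : Set G)).index = p ^ i} = B i \ B (i - 1) := by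
    ext g
    obtain ⟨k, hk⟩ := PGroup.index_eq_pow hG (Subgroup.centralizer ({g} : Set G))
    simp only [hB, Set.mem_setOf_eq, Set.mem_sdiff, hk, Nat.pow_le_pow_iff_right hp1,
      (Nat.pow_right_injective hp1).eq_iff]
    omega
  have hsub : B (i - 1) ⊆ B i := fun g hg =>
    le_trans hg (Nat.pow_le_pow_right (Fact.out (p := p.Prime)).pos (Nat.sub_le i 1))
  have hc : ∀ s, s ≤ n → (B s).ncard = Nat.card ↥(Subgroup.center G) * p ^ (2 * s) := fun s hs => by
    rw [← hcount s hs, ← Nat.card_coe_set_eq]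
    rfl
  calc Nat.card {g : G // (Subgroup.centralizer ({g} : Set G)).index = p ^ i}
      = ({g : G | (Subgroup.centralizer ({g} : Set G)).index = p ^ i}).ncard :=
        (Nat.card_coe_set_eq _)
    _ = (B i \ B (i - 1)).ncard := by rw [heq]
    _ = (B i).ncard - (B (i - 1)).ncard := Set.ncard_sdiff hsub (Set.toFinite _)
    _ = _ := by rw [hc i hin, hc (i - 1) (by omega), Nat.mul_sub, Nat.mul_sub_left_distrib, mul_one]

end Cfsg.Agent.S3881
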