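import Cfsg.Statements.S3883
import Cfsg.Agent.Lib.PGroup.Metacyclic

set_option autoImplicit false
open Cfsg

namespace Cfsg.Agent.S3883

/-- Let p be an odd prime and G a finite metacyclic p-group (G has a cyclic normal subgroup with cyclic quotient). Suppose G is non-abelian. Then an element g of G lies outside the Frattini subgroup if and only if its centralizer C_G(g) is abelian. -/
theorem result {G : Type*} [Group G] [Finite G] {p : ℕ} [Fact p.Prime] (hp : p ≠ 2) (hG : IsPGroup p G) (hmc : Cfsg.IsMetacyclic G) (hna : ¬ IsMulCommutative G) (g : G) :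
    g ∉ frattini G ↔ IsMulCommutative ↥(Subgroup.centralizer ({g} : Set G)) := by
  obtain ⟨a, b, H⟩ := PGroup.exists_metaGen hmc
  obtain ⟨n, hn⟩ := PGroup.card_eq_pow hG (commutator G)
  have hn1 : 1 ≤ n := by
    by_contra h0
    rw [show n = 0 by omega, pow_zero, Subgroup.card_eq_one, commutator_eq_bot_iff_center_eq_top] at hn
    exact hna ⟨⟨fun x y => (Subgroup.mem_center_iff.mp (hn ▸ Subgroup.mem_top x : x ∈ Subgroup.center G) y).symm⟩⟩
  rw [H.isMulCommutative_iff hG hp hn, H.mem_frattini_iff hG hp hn hn1,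
    ← H.index_centralizer_le_iff hG hp hn]
  obtain ⟨k, hk⟩ := PGroup.index_eq_pow hG (Subgroup.centralizer ({g} : Set G))
  have h1 := Subgroup.card_mul_index (commutator G)
  have h2 := Subgroup.card_mul_index (Subgroup.centralizer ({g} : Set G))
  rw [hn, ← h2, hk] at h1
  have hp0 := (Fact.out (p := p.Prime))
  rw [hk, Nat.pow_le_pow_iff_right hp0.one_lt]
  constructor
  · intro hlt
    refine Nat.le_of_mul_le_mul_left ?_ (Nat.pow_pos (n := n) hp0.pos)
    rw [h1, mul_comm]
    exact Nat.mul_le_mul_left _ (Nat.pow_le_pow_right hp0.pos (by omega))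
  · intro hle hk'
    have h3 : Nat.card ↥(Subgroup.centralizer ({g} : Set G)) * p ^ n ≤
        Nat.card ↥(Subgroup.centralizer ({g} : Set G)) * p ^ k := by
      rw [← h1, mul_comm (p ^ n)]
      exact Nat.mul_le_mul_right _ hle
    have := (Nat.pow_le_pow_iff_right hp0.one_lt).mp (Nat.le_of_mul_le_mul_left h3 Nat.card_pos)
    omega

end Cfsg.Agent.S3883
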