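import Cfsg.Statements.S3886
import Cfsg.Agent.Lib.PGroup.Metacyclic

set_option autoImplicit false
open Cfsg

namespace Cfsg.Agent.S3886

/-- Let p be an odd prime and G a finite metacyclic p-group (G has a cyclic normal subgroup with cyclic quotient). Then the largest value of |R| · |Z(R)| over subgroups R of G is |G : G'|², and the subgroups attaining it (the centrally large subgroups) are exactly the non-abelian subgroups together with the maximal abelian subgroups of G. -/
theorem result {G : Type*} [Group G] [Finite G] {p : ℕ} [Fact p.Prime] (hp : p ≠ 2) (hG : IsPGroup p G) (hmc : Cfsg.IsMetacyclic G) : Cfsg.maxCentralProduct G = (commutator G).index ^ 2 ∧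
    ∀ R : Subgroup G, Cfsg.IsCentrallyLarge R ↔ (¬ IsMulCommutative ↥R ∨ Maximal (fun K : Subgroup G => IsMulCommutative ↥K) R) := by
  obtain ⟨a, b, H⟩ := PGroup.exists_metaGen hmc
  obtain ⟨n, hn⟩ := PGroup.card_eq_pow hG (commutator G)
  have hr := H.isRegular hG hp
  have hc := H.isCyclic_commutator
  have hM := H.index_commutator_sq hG hp hn
  have hnab : ∀ R : Subgroup G, ¬ IsMulCommutative ↥R →
      Nat.card ↥R * Nat.card ↥(Subgroup.center ↥R) = (commutator G).index ^ 2 := fun R hR => by
    obtain ⟨hZR, hCR⟩ := H.center_le_of_not_commutative hG hp hn hR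
    rw [PGroup.card_center_subgroup, inf_eq_right.mpr hCR,
      PGroup.card_mul_card_centralizer_eq hr hc hZR, hM]
  have hab : ∀ R : Subgroup G, IsMulCommutative ↥R →
      Nat.card ↥R * Nat.card ↥(Subgroup.center ↥R) = Nat.card ↥R ^ 2 := fun R hR => by
    rw [PGroup.card_center_subgroup, inf_eq_left.mpr (PGroup.le_centralizer_of_isMulCommutative hR),
      pow_two]
  have hmax : IsGreatest {k : ℕ | ∃ R : Subgroup G, Nat.card ↥R * Nat.card ↥(Subgroup.center ↥R) = k}
      ((commutator G).index ^ 2) := by
    refine ⟨⟨⊤, ?_⟩, ?_⟩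
    · rw [PGroup.card_center_subgroup, top_inf_eq, Subgroup.coe_top, Subgroup.centralizer_univ,
        Subgroup.card_top, hM]
    · rintro k ⟨R, rfl⟩
      by_cases hR : IsMulCommutative ↥R
      · rw [hab R hR]
        exact Nat.pow_le_pow_left ((H.isMulCommutative_iff hG hp hn R).mp hR) 2
      · exact (hnab R hR).le
  have hval : Cfsg.maxCentralProduct G = (commutator G).index ^ 2 := hmax.csSup_eq
  refine ⟨hval, fun R => ?_⟩
  unfold Cfsg.IsCentrallyLarge
  rw [hval]
  by_cases hR : IsMulCommutative ↥R
  · rw [hab R hR, H.maximal_iff hG hp hn, or_iff_right (not_not.mpr hR)]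
    exact ⟨fun h => Nat.pow_left_injective two_ne_zero h, fun h => by rw [h]⟩
  · exact iff_of_true (hnab R hR) (Or.inl hR)

end Cfsg.Agent.S3886
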