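import Cfsg.Statements.S3887
import Cfsg.Agent.Lib.PGroup.Metacyclic

set_option autoImplicit false
open Cfsg

namespace Cfsg.Agent.S3887

/-- Let p be an odd prime and G a finite metacyclic p-group (G has a cyclic normal subgroup with cyclic quotient). Then a subgroup R of G maximizes |R| · |C_G(R)| over all subgroups of G if and only if R contains the center of G. -/
theorem result {G : Type*} [Group G] [Finite G] {p : ℕ} [Fact p.Prime] (hp : p ≠ 2) (hG : IsPGroup p G) (hmc : Cfsg.IsMetacyclic G) (R : Subgroup G) : Cfsg.IsCentralizerLarge R ↔ Subgroup.center G ≤ R := by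
  obtain ⟨a, b, H⟩ := PGroup.exists_metaGen hmc
  have hr := H.isRegular hG hp
  have hc := H.isCyclic_commutator
  have hmax : IsGreatest {k : ℕ | ∃ R : Subgroup G,
      Nat.card ↥R * Nat.card ↥(Subgroup.centralizer (R : Set G)) = k}
      (Nat.card G * Nat.card ↥(Subgroup.center G)) := by
    refine ⟨⟨⊤, PGroup.card_mul_card_centralizer_eq hr hc le_top⟩, ?_⟩
    rintro k ⟨R, rfl⟩
    exact PGroup.card_mul_card_centralizer_le_max hr hc R
  have hval : Cfsg.maxCentralizerProduct G = Nat.card G * Nat.card ↥(Subgroup.center G) :=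
    hmax.csSup_eq
  unfold Cfsg.IsCentralizerLarge
  rw [hval]
  exact ⟨PGroup.center_le_of_card_mul_card_eq hr hc, PGroup.card_mul_card_centralizer_eq hr hc⟩

end Cfsg.Agent.S3887
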