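import Cfsg.Statements.S3890
import Cfsg.Agent.Lib.Cover.Basic

set_option autoImplicit false
open Cfsg
open scoped Pointwise

namespace Cfsg.Agent.S3890

/-- A cover of a group is a finite set of proper subgroups whose union is the whole group; it is minimal when no cover has fewer members, and nilpotent when all its members are nilpotent. Let G be a finite group with trivial center admitting a nilpotent minimal cover 𝓐, and let P be an abelian Sylow p-subgroup of G that is not normal. Then either P is elementary abelian of order greater than p, or P is a Sylow p-subgroup of some member A of 𝓐, the normalizer N of P is a maximal subgroup of G, N meets each of its conjugates by elements outside N in a subgroup of order prime to p, and the centralizer of P equals A. -/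
theorem result {G : Type*} [Group G] [Finite G] (hZ : Subgroup.center G = ⊥) (𝓐 : Finset (Subgroup G))
    (h𝓐 : ((∀ A ∈ 𝓐, A ≠ ⊤) ∧ (∀ g : G, ∃ A ∈ 𝓐, g ∈ A)) ∧ (∀ 𝓑 : Finset (Subgroup G), (∀ A ∈ 𝓑, A ≠ ⊤) ∧ (∀ g : G, ∃ A ∈ 𝓑, g ∈ A) → 𝓐.card ≤ 𝓑.card) ∧ (∀ A ∈ 𝓐, Group.IsNilpotent ↥A)) {p : ℕ} [Fact p.Prime] (P : Sylow p G) (hab : IsMulCommutative ↥(P : Subgroup G))
    (hnn : ¬ (P : Subgroup G).Normal) :
    (Cfsg.IsElementaryAbelian p (P : Subgroup G) ∧ p < Nat.card ↥(P : Subgroup G)) ∨
    (∃ A ∈ 𝓐, (P : Subgroup G) ≤ A ∧ ¬ p ∣ ((P : Subgroup G).subgroupOf A).index ∧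
      IsCoatom (Subgroup.normalizer ((P : Subgroup G) : Set G)) ∧
      (∀ g : G, g ∉ Subgroup.normalizer ((P : Subgroup G) : Set G) →
        ¬ p ∣ Nat.card ↥(Subgroup.normalizer ((P : Subgroup G) : Set G) ⊓
          (Subgroup.normalizer ((P : Subgroup G) : Set G)).map (MulAut.conj g).toMonoidHom)) ∧
      Subgroup.centralizer ((P : Subgroup G) : Set G) = A) := by
  have hmc : Cover.IsMinNilCover 𝓐 := h𝓐
  by_cases helem : Cfsg.IsElementaryAbelian p (P : Subgroup G) ∧ p < Nat.card ↥(P : Subgroup G)
  · exact Or.inl helem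
  right
  have key : ∀ Q : Sylow p G, ∃ A ∈ 𝓐, (Q : Subgroup G) ≤ A := by
    intro Q
    obtain ⟨g, rfl⟩ := MulAction.exists_smul_eq G P Q
    have hab' := Cover.isMulCommutative_smul P hab g
    refine hmc.exists_sylow_le hZ (g • P) ?_
    by_cases he : Cfsg.IsElementaryAbelian p ((g • P : Sylow p G) : Subgroup G)
    · left
      have hcard : Nat.card ((g • P : Sylow p G) : Subgroup G) = Nat.card (P : Subgroup G) := by
        rw [Sylow.card_eq_multiplicity, Sylow.card_eq_multiplicity]
      have hle : Nat.card (P : Subgroup G) ≤ p := by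
        by_contra hlt
        refine helem ⟨⟨hab, fun a ha => ?_⟩, Nat.lt_of_not_le hlt⟩
        have := he.2 _ (Subgroup.smul_mem_pointwise_smul a (MulAut.conj g) _ ha)
        change (MulAut.conj g a) ^ p = 1 at this
        rw [← map_pow] at this
        exact (MulEquiv.map_eq_one_iff _).mp this
      obtain ⟨k, hk⟩ := (IsPGroup.iff_card).mp (g • P).2
      have hp2 := (Fact.out : p.Prime).two_le
      rcases Nat.lt_or_ge k 2 with hk2 | hk2
      · interval_cases k
        · have := (Nat.card_eq_one_iff_unique.mp (hk.trans (pow_zero p))).1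
          infer_instance
        · exact isCyclic_of_prime_card (p := p) (hk.trans (pow_one p))
      · have := Nat.pow_le_pow_right (show 1 ≤ p by omega) hk2
        nlinarith
    · exact Or.inr ⟨hab', he⟩
  obtain ⟨A, hA, hPA⟩ := key P
  obtain ⟨-, hN, hemb⟩ := hmc.normalizer_spec hZ P hab hnn key
  exact ⟨A, hA, hPA, P.not_dvd_index ∘ fun hd => hd.trans (Subgroup.relIndex_dvd_index_of_le hPA),
    hN, hemb, hmc.eq_centralizer hZ P hab hnn hA hPA⟩

end Cfsg.Agent.S3890
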