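import Cfsg.Statements.S3891
import Cfsg.Agent.Lib.Cover.Basic

set_option autoImplicit false
open Cfsg
open scoped Pointwise

namespace Cfsg.Agent.S3891

/-- A cover of a group is a finite set of proper subgroups whose union is the whole group; it is minimal when no cover has fewer members, and nilpotent when all its members are nilpotent. Let G be a finite group with trivial center admitting a nilpotent minimal cover, and let P be a non-normal Sylow p-subgroup of G that is cyclic, or abelian but not elementary abelian. Then the centralizer of P is nilpotent and the normalizer of P is the unique maximal subgroup of G containing the centralizer of P. -/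
theorem result {G : Type*} [Group G] [Finite G] (hZ : Subgroup.center G = ⊥) (𝓐 : Finset (Subgroup G))
    (h𝓐 : ((∀ A ∈ 𝓐, A ≠ ⊤) ∧ (∀ g : G, ∃ A ∈ 𝓐, g ∈ A)) ∧ (∀ 𝓑 : Finset (Subgroup G), (∀ A ∈ 𝓑, A ≠ ⊤) ∧ (∀ g : G, ∃ A ∈ 𝓑, g ∈ A) → 𝓐.card ≤ 𝓑.card) ∧ (∀ A ∈ 𝓐, Group.IsNilpotent ↥A)) {p : ℕ} [Fact p.Prime] (P : Sylow p G)
    (hP : IsCyclic ↥(P : Subgroup G) ∨ (IsMulCommutative ↥(P : Subgroup G) ∧ ¬ Cfsg.IsElementaryAbelian p (P : Subgroup G)))
    (hnn : ¬ (P : Subgroup G).Normal) :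
    Group.IsNilpotent ↥(Subgroup.centralizer ((P : Subgroup G) : Set G)) ∧
      IsCoatom (Subgroup.normalizer ((P : Subgroup G) : Set G)) ∧
      ∀ M : Subgroup G, IsCoatom M → Subgroup.centralizer ((P : Subgroup G) : Set G) ≤ M →
        M = Subgroup.normalizer ((P : Subgroup G) : Set G) := by
  have hmc : Cover.IsMinNilCover 𝓐 := h𝓐
  have hab : IsMulCommutative ↥(P : Subgroup G) := hP.elim (fun h => ⟨⟨fun a b => by
    obtain ⟨x, hx⟩ := h.exists_generator
    obtain ⟨i, rfl⟩ := hx a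
    obtain ⟨j, rfl⟩ := hx b
    exact (Commute.zpow_zpow_self x i j).eq⟩⟩) And.left
  have key : ∀ Q : Sylow p G, ∃ A ∈ 𝓐, (Q : Subgroup G) ≤ A := by
    intro Q
    obtain ⟨g, rfl⟩ := MulAction.exists_smul_eq G P Q
    refine hmc.exists_sylow_le hZ (g • P) ?_
    rcases hP with h | ⟨-, hne⟩
    · exact Or.inl ((MulEquiv.isCyclic (Subgroup.equivSMul (MulAut.conj g) (P : Subgroup G))).mp h)
    · refine Or.inr ⟨Cover.isMulCommutative_smul P hab g, fun he => hne ⟨hab, fun a ha => ?_⟩⟩
      have := he.2 _ (Subgroup.smul_mem_pointwise_smul a (MulAut.conj g) _ ha)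
      change (MulAut.conj g a) ^ p = 1 at this
      rw [← map_pow] at this
      exact (MulEquiv.map_eq_one_iff _).mp this
  obtain ⟨A, hA, hPA⟩ := key P
  have hC := hmc.eq_centralizer hZ P hab hnn hA hPA
  obtain ⟨hM, hN, -⟩ := hmc.normalizer_spec hZ P hab hnn key
  refine ⟨hC ▸ hmc.2.2 A hA, hN, fun M hMc hle => ?_⟩
  exact (hM M hMc.1 hle).lt_or_eq.resolve_left fun hlt => hN.1 (hMc.2 _ hlt)

end Cfsg.Agent.S3891
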