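import Cfsg.Statements.S3892
import Cfsg.Agent.Lib.Cover.Basic

set_option autoImplicit false
open Cfsg

namespace Cfsg.Agent.S3892
open Equiv Equiv.Perm

/-- Elements of a group of permutations containing the alternating group: no nilpotent minimal cover. -/
theorem no_cover {G : Type*} [Group G] [Finite G] {n : ℕ} (φ : G →* Equiv.Perm (Fin n))
    (hφ : Function.Injective φ) (hA : alternatingGroup (Fin n) ≤ φ.range) (h6 : 6 ≤ n) :
    ¬ ∃ 𝓐 : Finset (Subgroup G), Cover.IsMinNilCover 𝓐 := by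
  obtain ⟨q, hq, hq1, hq2⟩ := Nat.exists_prime_lt_and_le_two_mul (n / 2) (by omega)
  have hqn : q < n := by
    rcases Nat.lt_or_ge q n with h | h
    · exact h
    · exfalso
      have : 2 ∣ q := ⟨n / 2, by omega⟩
      rcases hq.eq_one_or_self_of_dvd 2 this with h' | h' <;> omega
  have hq5 : 5 ≤ q := by
    by_contra h
    have : q = 4 := by omega
    subst this
    norm_num at hq
  have := Fact.mk hq
  have hnfac : Nat.card (Equiv.Perm (Fin n)) = n.factorial := by
    rw [Nat.card_perm, Nat.card_eq_fintype_card, Fintype.card_fin]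
  have hGdvd : Nat.card G ∣ n.factorial := by
    rw [← hnfac]; exact Subgroup.card_dvd_of_injective φ hφ
  -- an element of order q
  have hqA : q ∣ Nat.card (alternatingGroup (Fin n)) := by
    have : Nontrivial (Fin n) := Fin.nontrivial_iff_two_le.mpr (by omega)
    have h1 : q ∣ 2 * Nat.card (alternatingGroup (Fin n)) := by
      rw [two_mul_nat_card_alternatingGroup, hnfac]
      exact Nat.dvd_factorial hq.pos hqn.le
    exact (Nat.Coprime.dvd_of_dvd_mul_left ((Nat.coprime_primes hq Nat.prime_two).mpr (by omega)) h1)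
  obtain ⟨⟨σ, hσA⟩, hσ⟩ := exists_prime_orderOf_dvd_card' q hqA
  rw [Subgroup.orderOf_mk] at hσ
  obtain ⟨x, hx⟩ := hA hσA
  have hox : orderOf x = q := by rw [← orderOf_injective φ hφ x, hx, hσ]
  have hsupp : σ.support.card < 2 * orderOf σ := by
    have := σ.support.card_le_univ
    rw [Fintype.card_fin] at this
    omega
  have hcyc : σ.IsCycle := Equiv.Perm.isCycle_of_prime_order (by rwa [hσ]) hsupp
  have hscard : σ.support.card = q := by rw [← hcyc.orderOf, hσ]
  obtain ⟨a, ha⟩ : σ.support.Nonempty := Finset.card_pos.mp (by omega)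
  have hpow : ∀ i j : ℕ, i < q → j < q → (σ ^ i) a = (σ ^ j) a → i = j := by
    intro i j hi hj h
    have := hcyc.pow_eq_pow_iff.mpr ⟨a, Equiv.Perm.mem_support.mp ha, h⟩
    exact pow_injOn_Iio_orderOf (by simpa [hσ] using hi) (by simpa [hσ] using hj) this
  have hmem : ∀ i : ℕ, σ ((σ ^ i) a) ≠ (σ ^ i) a := fun i => by
    rw [← Equiv.Perm.mem_support, Equiv.Perm.pow_apply_mem_support]; exact ha
  -- the 3-cycle `b ↦ c ↦ d ↦ b` with `b = σ a`
  let b := (σ ^ 1) a
  let c := (σ ^ 2) a
  let d := (σ ^ 3) a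
  have hne : ∀ i j : ℕ, i < q → j < q → i ≠ j → (σ ^ i) a ≠ (σ ^ j) a := fun i j hi hj h e => h (hpow i j hi hj e)
  have hbc : b ≠ c := hne 1 2 (by omega) (by omega) (by omega)
  have hbd : b ≠ d := hne 1 3 (by omega) (by omega) (by omega)
  have hcd : c ≠ d := hne 2 3 (by omega) (by omega) (by omega)
  let τ : Equiv.Perm (Fin n) := Equiv.swap b d * Equiv.swap b c
  have hτA : τ ∈ alternatingGroup (Fin n) := by
    simp [τ, Equiv.Perm.mem_alternatingGroup, Equiv.Perm.sign_swap hbd, Equiv.Perm.sign_swap hbc]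
  obtain ⟨g, hg⟩ := hA hτA
  have hτb : τ b = c := by simp [τ, Equiv.swap_apply_of_ne_of_ne (Ne.symm hbc) hcd]
  have hτc : τ c = d := by simp [τ]
  have hτa : τ a = a := by
    have h1 : a ≠ b := by simpa [b] using hne 0 1 (by omega) (by omega) (by omega)
    have h2 : a ≠ c := by simpa [c] using hne 0 2 (by omega) (by omega) (by omega)
    have h3 : a ≠ d := by simpa [d] using hne 0 3 (by omega) (by omega) (by omega)
    simp [τ, Equiv.swap_apply_of_ne_of_ne h1 h2, Equiv.swap_apply_of_ne_of_ne h1 h3]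
  have hτs : ∀ t, σ (τ t) ≠ τ t ↔ σ t ≠ t := by
    intro t
    by_cases hb : t = b
    · subst hb; rw [hτb]; exact iff_of_true (hmem 2) (hmem 1)
    by_cases hc : t = c
    · subst hc; rw [hτc]; exact iff_of_true (hmem 3) (hmem 2)
    by_cases hd : t = d
    · subst hd
      have : τ d = b := by simp [τ, Equiv.swap_apply_of_ne_of_ne (Ne.symm hbd) (Ne.symm hcd)]
      rw [this]; exact iff_of_true (hmem 1) (hmem 3)
    have : τ t = t := by simp [τ, Equiv.swap_apply_of_ne_of_ne hb hc, Equiv.swap_apply_of_ne_of_ne hb hd]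
    rw [this]
  let M : Subgroup G :=
    { carrier := {u | ∀ t, σ (φ u t) ≠ φ u t ↔ σ t ≠ t}
      one_mem' := fun t => by simp
      mul_mem' := fun {u v} hu hv t => by rw [map_mul, Equiv.Perm.mul_apply, hu, hv]
      inv_mem' := fun {u} hu t => by
        have := hu (φ u⁻¹ t)
        rw [← Equiv.Perm.mul_apply (φ u), ← map_mul, mul_inv_cancel, map_one, Equiv.Perm.one_apply] at this
        exact this.symm }
  have hcomm : ∀ u : G, u * x = x * u → u ∈ M := by
    intro u hu t
    have h1 : φ u (σ t) = σ (φ u t) := by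
      rw [← hx, ← Equiv.Perm.mul_apply, ← Equiv.Perm.mul_apply, ← map_mul, ← map_mul, hu]
    rw [← h1]
    exact (φ u).injective.ne_iff
  have hgM : g ∈ M := fun t => by rw [hg]; exact hτs t
  -- the Sylow q-subgroup
  have hzc : Nat.card (Subgroup.zpowers x) = q := by rw [Nat.card_zpowers, hox]
  obtain ⟨P, hP⟩ := (IsPGroup.of_card (n := 1) (p := q) (hzc.trans (pow_one q).symm)).exists_le_sylow
  have hPeq : Subgroup.zpowers x = (P : Subgroup G) := by
    refine Subgroup.eq_of_le_of_card_ge hP ?_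
    rw [hzc, P.card_eq_multiplicity]
    refine le_of_le_of_eq (Nat.pow_le_pow_right hq.pos (j := 1) ?_) (pow_one q)
    refine le_trans ((Nat.factorization_le_iff_dvd Nat.card_pos.ne' n.factorial_ne_zero).mpr hGdvd q) ?_
    rw [Nat.factorization_def _ hq, padicValNat_factorial (b := 2) (Nat.log_lt_of_lt_pow (by omega) (lt_of_lt_of_le (show n < 2 * q by omega) (by rw [pow_two]; exact Nat.mul_le_mul_right q (by omega))))]
    simp [Nat.div_eq_of_lt_le (show 1 * q ≤ n by omega) (show n < (1 + 1) * q by omega)]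
  have hab : IsMulCommutative (P : Subgroup G) := hPeq ▸ inferInstance
  have hCx : ∀ A : Subgroup G, Group.IsNilpotent A → x ∈ A → ∀ u ∈ A, u * x = x * u := fun A hA' hxA u hu =>
    Subgroup.mem_centralizer_singleton_iff.mp
      (Cover.le_centralizer_of_pElement P hab hA' hxA (k := 1) (by rw [hox, pow_one]) hu)
  refine Cover.not_exists_of_pair (x := x) (y := g * x * g⁻¹) (M := M) ?_ (fun A hA' hxA u hu => hcomm u (hCx A hA' hxA u hu))
    (fun A hA' hyA u hu => ?_) (fun A hA' hxA hyA => ?_)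
  · intro e
    obtain ⟨o, ho⟩ : ∃ o, σ o = o := by
      by_contra h
      push Not at h
      have : σ.support = Finset.univ := Finset.eq_univ_iff_forall.mpr fun t => Equiv.Perm.mem_support.mpr (h t)
      rw [this, Finset.card_univ, Fintype.card_fin] at hscard
      omega
    have hob : o ≠ b := fun e => hmem 1 (show σ b = b from e ▸ ho)
    have hoc : o ≠ c := fun e => hmem 2 (show σ c = c from e ▸ ho)
    have h3 : Equiv.swap o c * Equiv.swap o b ∈ alternatingGroup (Fin n) := by
      simp [Equiv.Perm.mem_alternatingGroup, Equiv.Perm.sign_swap hob, Equiv.Perm.sign_swap hoc]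
    obtain ⟨u, hu⟩ := hA h3
    have hu1 : σ (φ u o) ≠ φ u o ↔ σ o ≠ o := (e ▸ Subgroup.mem_top u : u ∈ M) o
    rw [hu] at hu1
    have : (Equiv.swap o c * Equiv.swap o b : Equiv.Perm (Fin n)) o = b := by
      simp [Equiv.swap_apply_of_ne_of_ne (Ne.symm hob) hbc]
    rw [this] at hu1
    exact hu1.mp (hmem 1) ho
  · have key : g⁻¹ * u * g ∈ M := by
      refine hcomm _ ?_
      have hA2 : A ≤ Subgroup.centralizer ({g * x * g⁻¹} : Set G) :=
        Cover.le_centralizer_of_pElement P hab hA' hyA (k := 1)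
          (by rw [show orderOf (g * x * g⁻¹) = orderOf x from
            orderOf_injective (MulAut.conj g).toMonoidHom (MulAut.conj g).injective x, hox, pow_one])
      have h := Subgroup.mem_centralizer_singleton_iff.mp (hA2 hu)
      calc g⁻¹ * u * g * x = g⁻¹ * (u * (g * x * g⁻¹)) * g := by group
        _ = g⁻¹ * (g * x * g⁻¹ * u) * g := by rw [h]
        _ = x * (g⁻¹ * u * g) := by group
    have := M.mul_mem (M.mul_mem hgM key) (M.inv_mem hgM)
    simpa [mul_assoc] using this
  · have hc' : Commute (g * x * g⁻¹) x := hCx A hA' hxA _ hyA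
    have hyP : g * x * g⁻¹ ∈ Subgroup.zpowers x := by
      rw [hPeq]
      have h1 := P.3 (P.2.to_sup_of_normal_left' (IsPGroup.of_card (p := q) (n := 1)
        (G := Subgroup.zpowers (g * x * g⁻¹)) (by
          rw [Nat.card_zpowers, show orderOf (g * x * g⁻¹) = orderOf x from
            orderOf_injective (MulAut.conj g).toMonoidHom (MulAut.conj g).injective x, hox, pow_one]))
        (by
          rw [Subgroup.zpowers_le, ← hPeq]
          exact Subgroup.centralizer_le_normalizer _ (Subgroup.mem_centralizer_iff.mpr fun w hw => by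
            obtain ⟨i, rfl⟩ := hw
            exact (hc'.zpow_right i).eq.symm))) le_sup_left
      exact h1 ▸ Subgroup.mem_sup_right (Subgroup.mem_zpowers _)
    obtain ⟨i, hiq, hi⟩ : ∃ i < q, x ^ i = g * x * g⁻¹ := by
      obtain ⟨i, hi⟩ := mem_powers_iff_mem_zpowers.mpr hyP
      exact ⟨i % q, Nat.mod_lt _ hq.pos, by rw [← hox, pow_mod_orderOf]; exact hi⟩
    have he : ∀ t, (σ ^ i) (τ t) = τ (σ t) := fun t => by
      rw [← hx, ← hg, ← map_pow, hi, map_mul, map_mul, map_inv]
      simp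
    have h1 := he a
    rw [hτa, show σ a = b by simp [b], hτb] at h1
    obtain rfl := hpow i 2 hiq (by omega) h1
    have h2 := he b
    rw [hτb, show σ b = c by simp [b, c, pow_succ], hτc] at h2
    have h4 : (σ ^ 4) a = (σ ^ 3) a := by
      rw [← show (σ ^ 2) c = (σ ^ 4) a by simp [c, ← Equiv.Perm.mul_apply, ← pow_add]]; exact h2
    exact hne 4 3 (by omega) (by omega) (by omega) h4

theorem mem_zpowers_of_mem_list {G : Type*} [Group G] {x : G} {k : ℕ} {g : G}
    (h : g ∈ (List.range k).map (x ^ ·)) : g ∈ Subgroup.zpowers x := by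
  obtain ⟨i, -, rfl⟩ := List.mem_map.mp h
  exact Subgroup.pow_mem _ (Subgroup.mem_zpowers x) i

theorem not_mem_zpowers_of_list {G : Type*} [Group G] {x y : G} {k : ℕ} (hk : orderOf x = k) (hk0 : 0 < k)
    (h : y ∉ (List.range k).map (x ^ ·)) : y ∉ Subgroup.zpowers x := by
  intro hy
  have : IsOfFinOrder x := orderOf_pos_iff.mp (hk ▸ hk0)
  obtain ⟨i, rfl⟩ := this.mem_powers_iff_mem_zpowers.mpr hy
  exact h (List.mem_map.mpr ⟨i % k, List.mem_range.mpr (Nat.mod_lt _ hk0), by rw [← hk]; exact pow_mod_orderOf x i⟩)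

def c123 : Equiv.Perm (Fin 4) := Equiv.swap 0 1 * Equiv.swap 1 2
def c234 : Equiv.Perm (Fin 4) := Equiv.swap 1 2 * Equiv.swap 2 3

theorem sym_four : ¬ ∃ 𝓐 : Finset (Subgroup (Equiv.Perm (Fin 4))), Cover.IsMinNilCover 𝓐 := by
  have h1 : orderOf c123 = 3 := orderOf_eq_prime (by decide) (by decide)
  have h2 : orderOf c234 = 3 := orderOf_eq_prime (by decide) (by decide)
  have e1 : ∀ g : Equiv.Perm (Fin 4), g * c123 = c123 * g → g ∈ (List.range 3).map (c123 ^ ·) := by decide
  have e2 : ∀ g : Equiv.Perm (Fin 4), g * c234 = c234 * g → g ∈ (List.range 3).map (c234 ^ ·) := by decide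
  refine Cover.not_exists_of_prime_pair Nat.prime_three Nat.prime_three h1 h2
    (fun g hg => mem_zpowers_of_mem_list (e1 g hg)) (fun g hg => mem_zpowers_of_mem_list (e2 g hg))
    (M := alternatingGroup (Fin 4)) ?_ (Equiv.Perm.mem_alternatingGroup.mpr (by decide)) (Equiv.Perm.mem_alternatingGroup.mpr (by decide)) (not_mem_zpowers_of_list h1 (by omega) (by decide))
  intro e
  have : Equiv.swap (0 : Fin 4) 1 ∈ alternatingGroup (Fin 4) := e ▸ Subgroup.mem_top _
  exact absurd (Equiv.Perm.mem_alternatingGroup.mp this) (by decide)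

def f5a : Equiv.Perm (Fin 5) := Equiv.swap 0 1 * Equiv.swap 1 2 * Equiv.swap 2 3 * Equiv.swap 3 4
def f5b : Equiv.Perm (Fin 5) := Equiv.swap 0 2 * Equiv.swap 2 1 * Equiv.swap 1 3 * Equiv.swap 3 4

theorem sym_five : ¬ ∃ 𝓐 : Finset (Subgroup (Equiv.Perm (Fin 5))), Cover.IsMinNilCover 𝓐 := by
  have := Fact.mk (by norm_num : Nat.Prime 5)
  have h1 : orderOf f5a = 5 := orderOf_eq_prime (by decide) (by decide)
  have h2 : orderOf f5b = 5 := orderOf_eq_prime (by decide) (by decide)
  have e1 : ∀ g : Equiv.Perm (Fin 5), g * f5a = f5a * g → g ∈ (List.range 5).map (f5a ^ ·) := by decide +kernel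
  have e2 : ∀ g : Equiv.Perm (Fin 5), g * f5b = f5b * g → g ∈ (List.range 5).map (f5b ^ ·) := by decide +kernel
  refine Cover.not_exists_of_prime_pair (by norm_num) (by norm_num) h1 h2
    (fun g hg => mem_zpowers_of_mem_list (e1 g hg)) (fun g hg => mem_zpowers_of_mem_list (e2 g hg))
    (M := alternatingGroup (Fin 5)) ?_ (Equiv.Perm.mem_alternatingGroup.mpr (by decide)) (Equiv.Perm.mem_alternatingGroup.mpr (by decide)) (not_mem_zpowers_of_list h1 (by omega) (by decide))
  intro e
  have : Equiv.swap (0 : Fin 5) 1 ∈ alternatingGroup (Fin 5) := e ▸ Subgroup.mem_top _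
  exact absurd (Equiv.Perm.mem_alternatingGroup.mp this) (by decide)

def a5a : alternatingGroup (Fin 5) := ⟨Equiv.swap 0 1 * Equiv.swap 1 2, Equiv.Perm.mem_alternatingGroup.mpr (by decide)⟩
def a5b : alternatingGroup (Fin 5) := ⟨Equiv.swap 1 2 * Equiv.swap 2 3, Equiv.Perm.mem_alternatingGroup.mpr (by decide)⟩

theorem alt_five : ¬ ∃ 𝓐 : Finset (Subgroup (alternatingGroup (Fin 5))), Cover.IsMinNilCover 𝓐 := by
  have h1 : orderOf a5a = 3 := orderOf_eq_prime (by decide) (by decide)
  have h2 : orderOf a5b = 3 := orderOf_eq_prime (by decide) (by decide)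
  have e1 : ∀ g : alternatingGroup (Fin 5), g * a5a = a5a * g → g ∈ (List.range 3).map (a5a ^ ·) := by decide +kernel
  have e2 : ∀ g : alternatingGroup (Fin 5), g * a5b = a5b * g → g ∈ (List.range 3).map (a5b ^ ·) := by decide +kernel
  refine Cover.not_exists_of_prime_pair Nat.prime_three Nat.prime_three h1 h2
    (fun g hg => mem_zpowers_of_mem_list (e1 g hg)) (fun g hg => mem_zpowers_of_mem_list (e2 g hg))
    (M := (MulAction.stabilizer (Equiv.Perm (Fin 5)) (4 : Fin 5)).comap (alternatingGroup (Fin 5)).subtype) ?_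
    (MulAction.mem_stabilizer_iff.mpr (by decide)) (MulAction.mem_stabilizer_iff.mpr (by decide))
    (not_mem_zpowers_of_list h1 (by omega) (by decide))
  intro e
  have : (⟨Equiv.swap 0 1 * Equiv.swap 1 4, Equiv.Perm.mem_alternatingGroup.mpr (by decide)⟩ : alternatingGroup (Fin 5)) ∈
      (MulAction.stabilizer (Equiv.Perm (Fin 5)) (4 : Fin 5)).comap (alternatingGroup (Fin 5)).subtype :=
    e ▸ Subgroup.mem_top _
  exact absurd (MulAction.mem_stabilizer_iff.mp this) (by decide)


/-- A cover of a group is a finite set of proper subgroups whose union is the whole group; it is minimal when no cover has fewer members, and nilpotent when all its members are nilpotent. The alternating groups of degree at least 5 and the symmetric groups of degree at least 4 have no nilpotent minimal cover. -/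
theorem result (n : ℕ) :
    (5 ≤ n → ¬ ∃ 𝓐 : Finset (Subgroup ↥(alternatingGroup (Fin n))), ((∀ A ∈ 𝓐, A ≠ ⊤) ∧ (∀ g : ↥(alternatingGroup (Fin n)), ∃ A ∈ 𝓐, g ∈ A)) ∧ (∀ 𝓑 : Finset (Subgroup ↥(alternatingGroup (Fin n))), (∀ A ∈ 𝓑, A ≠ ⊤) ∧ (∀ g : ↥(alternatingGroup (Fin n)), ∃ A ∈ 𝓑, g ∈ A) → 𝓐.card ≤ 𝓑.card) ∧ (∀ A ∈ 𝓐, Group.IsNilpotent ↥A)) ∧
    (4 ≤ n → ¬ ∃ 𝓐 : Finset (Subgroup (Equiv.Perm (Fin n))), ((∀ A ∈ 𝓐, A ≠ ⊤) ∧ (∀ g : (Equiv.Perm (Fin n)), ∃ A ∈ 𝓐, g ∈ A)) ∧ (∀ 𝓑 : Finset (Subgroup (Equiv.Perm (Fin n))), (∀ A ∈ 𝓑, A ≠ ⊤) ∧ (∀ g : (Equiv.Perm (Fin n)), ∃ A ∈ 𝓑, g ∈ A) → 𝓐.card ≤ 𝓑.card) ∧ (∀ A ∈ 𝓐, Group.IsNilpotent ↥A)) := by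
  constructor
  · intro hn
    change ¬ ∃ 𝓐, Cover.IsMinNilCover 𝓐
    rcases Nat.lt_or_ge n 6 with h6 | h6
    · obtain rfl : n = 5 := by omega
      exact alt_five
    · exact no_cover (alternatingGroup (Fin n)).subtype Subtype.val_injective
        (by rw [Subgroup.range_subtype]) h6
  · intro hn
    change ¬ ∃ 𝓐, Cover.IsMinNilCover 𝓐
    rcases Nat.lt_or_ge n 6 with h6 | h6
    · interval_cases n
      · exact sym_four
      · exact sym_five
    · exact no_cover (MonoidHom.id _) Function.injective_id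
        (by rw [MonoidHom.range_eq_top.mpr (Function.surjective_id)]; exact le_top) h6

end Cfsg.Agent.S3892
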