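import Cfsg.Statements.S3893
import Cfsg.Agent.Lib.Cover.Basic

set_option autoImplicit false
open Cfsg

namespace Cfsg.Agent.S3893

open Matrix

variable {F : Type*} [Field F]

/-- The matrix of an element of a subgroup of `GL₄(F)`. -/
def mat (H : Subgroup (GL (Fin 4) F)) : H →* Matrix (Fin 4) (Fin 4) F :=
  (Units.coeHom _).comp H.subtype

theorem mat_injective (H : Subgroup (GL (Fin 4) F)) : Function.Injective (mat H) :=
  fun _ _ h => Subtype.ext (Units.ext h)

theorem offdiag_of_commute {ι : Type*} [Fintype ι] [DecidableEq ι] (M : Matrix ι ι F) (v w : ι → F)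
    (h : M * diagonal v = diagonal w * M) (i j : ι) (hij : v j ≠ w i) : M i j = 0 := by
  have := congrFun (congrFun h i) j
  rw [mul_diagonal, diagonal_mul, mul_comm] at this
  by_contra hne
  exact hij (mul_right_cancel₀ hne this)

theorem rev_fun_four : ∀ f : Fin 4 → Fin 4, Function.Bijective f → (∀ i, f i.rev = (f i).rev) →
    ∀ i, f (f (f (f i))) = i := by decide +kernel

/-- Nilpotent subgroups of a symplectic matrix group in characteristic two over a diagonal regular element
are diagonal. -/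
theorem nilpotent_le_diag [Finite F] [CharP F 2] {G : Subgroup (GL (Fin 4) F)} (hG : G ≤ Cfsg.Lie.Sp4 F)
    (x : G) (v : Fin 4 → F) (hv : mat G x = diagonal v) (hinj : Function.Injective v)
    (A : Subgroup G) (hA : Group.IsNilpotent A) (hxA : x ∈ A) :
    ∀ a ∈ A, ∃ w, mat G a = diagonal w := by
  classical
  have hdiag : ∀ g : G, Commute g x → ∃ w, mat G g = diagonal w := fun g hg => ⟨fun i => mat G g i i, by
    ext i j
    by_cases hij : i = j
    · subst hij; simp
    · rw [diagonal_apply_ne _ hij]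
      refine offdiag_of_commute _ v v ?_ i j (fun e => hij (hinj e).symm)
      rw [← hv, ← map_mul, ← map_mul, hg.eq]⟩
  have hpair : ∀ (g : G) (w : Fin 4 → F), mat G g = diagonal w → ∀ i, w i * w i.rev = 1 := by
    intro g w hw i
    have h := hG g.2 (Pi.single i 1) (Pi.single i.rev 1)
    change Cfsg.Lie.altForm4 (mat G g *ᵥ _) (mat G g *ᵥ _) = _ at h
    rw [hw] at h
    fin_cases i <;> simp [Cfsg.Lie.altForm4, mulVec_diagonal, show (1 : Fin 4).rev = 2 from rfl, show (2 : Fin 4).rev = 1 from rfl, show (0 : Fin 4).rev = 3 from rfl, show (3 : Fin 4).rev = 0 from rfl] at h ⊢ <;> linear_combination h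
  -- 2-elements of `A` commuting with `x` are trivial
  have hodd : ∀ a : A, ∀ k : ℕ, orderOf a = 2 ^ k → a = 1 := by
    intro a k hk
    have hcx : Commute (a : G) x := by
      have hs : ∀ S : Sylow 2 A, ∀ s ∈ (S : Subgroup A), Commute (⟨x, hxA⟩ : A) s := by
        intro S s hs
        obtain ⟨e⟩ := ((Group.isNilpotent_of_finite_tfae (G := A)).out 0 4).mp hA
        apply e.symm.injective
        rw [map_mul, map_mul]
        funext q Q
        simp only [Pi.mul_apply]
        have := Fact.mk (Nat.prime_of_mem_primeFactors q.2)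
        have hkill : ∀ (b : A) (n : ℕ), b ^ n = 1 → Nat.Coprime q n → e.symm b q Q = 1 := by
          intro b n hn hco
          obtain ⟨j, hj⟩ := (IsPGroup.iff_orderOf).mp Q.2 (e.symm b q Q)
          refine orderOf_eq_one_iff.mp (Nat.eq_one_of_dvd_coprimes (Nat.Coprime.pow_left j hco) hj.dvd ?_)
          refine orderOf_dvd_of_pow_eq_one ?_
          have := congrArg (fun f => f q Q) (congrArg e.symm hn)
          simpa [map_pow] using this
        by_cases hq : (q : ℕ) = 2
        · rw [hkill (⟨x, hxA⟩ : A) (Nat.card F - 1) ?_ ?_]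
          · simp
          · apply Subtype.ext
            apply mat_injective
            change mat G (x ^ _) = mat G 1
            rw [map_pow, map_one, hv, diagonal_pow, ← diagonal_one]
            congr 1
            funext i
            have := Fintype.ofFinite F
            rw [Nat.card_eq_fintype_card]
            refine FiniteField.pow_card_sub_one_eq_one _ fun e => ?_
            have := hpair x v hv i
            rw [e, zero_mul] at this
            exact zero_ne_one this
          · have := Fintype.ofFinite F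
            rw [hq, Nat.card_eq_fintype_card]
            obtain ⟨n, -, hn⟩ := FiniteField.card F 2
            rw [hn]
            refine Nat.prime_two.coprime_iff_not_dvd.mpr fun hd => ?_
            have : 2 ∣ (2 : ℕ) ^ (n : ℕ) := dvd_pow_self 2 n.ne_zero
            have h1 : 1 ≤ (2 : ℕ) ^ (n : ℕ) := Nat.one_le_two_pow
            omega
        · obtain ⟨j, hj⟩ := (IsPGroup.iff_orderOf (p := 2)).mp S.2 ⟨s, hs⟩
          rw [Subgroup.orderOf_mk] at hj
          rw [hkill s (2 ^ j) (hj ▸ pow_orderOf_eq_one s)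
            (Nat.Coprime.pow_right _ ((Nat.coprime_primes (Nat.prime_of_mem_primeFactors q.2) Nat.prime_two).mpr hq))]
          simp
      have : Fact (Nat.Prime 2) := ⟨Nat.prime_two⟩
      obtain ⟨S, hS⟩ := (IsPGroup.of_card (n := k) (G := Subgroup.zpowers a) (by rw [Nat.card_zpowers, hk])).exists_le_sylow
      exact (congrArg Subtype.val (hs S a (hS (Subgroup.mem_zpowers a))).eq).symm
    obtain ⟨w, hw⟩ := hdiag _ hcx
    apply Subtype.ext
    apply mat_injective
    have h1 : (a : G) ^ 2 ^ k = 1 := by rw [← hk, ← Subgroup.coe_pow, pow_orderOf_eq_one, Subgroup.coe_one]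
    have h2 := congrArg (mat G) h1
    rw [map_pow, hw, map_one, diagonal_pow, ← diagonal_one, diagonal_eq_diagonal_iff] at h2
    rw [Subgroup.coe_one, map_one, hw, ← diagonal_one]
    congr 1
    funext i
    have hi : w i ^ 2 ^ k = 1 := h2 i
    refine sub_eq_zero.mp (eq_zero_of_pow_eq_zero (n := 2 ^ k) ?_)
    rw [sub_pow_char_pow, hi, one_pow, sub_self]
  -- `D`: the diagonal part of `A`
  let D : Subgroup A :=
    { carrier := {a | Commute (a : G) x}
      one_mem' := Commute.one_left x
      mul_mem' := fun ha hb => ha.mul_left hb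
      inv_mem' := fun ha => ha.inv_left }
  have hD : Subgroup.normalizer (D : Set A) = D := by
    refine le_antisymm (fun n hn => ?_) Subgroup.le_normalizer
    obtain ⟨w, hw⟩ := hdiag ((n * ⟨x, hxA⟩ * n⁻¹ : A) : G)
      ((Subgroup.mem_normalizer_iff.mp hn _).mp (Commute.refl x : (⟨x, hxA⟩ : A) ∈ D))
    set N := mat G (n : G)
    have hrel : N * diagonal v = diagonal w * N := by
      rw [← hv, ← hw, ← map_mul, ← map_mul]; simp
    have hinv : mat G ((n : G))⁻¹ * N = 1 ∧ N * mat G ((n : G))⁻¹ = 1 := by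
      constructor <;> rw [← map_mul] <;> simp
    have hrow : ∀ i, ∃ j, w i = v j := by
      intro i
      by_contra hno
      push Not at hno
      have : ∀ j, N i j = 0 := fun j => offdiag_of_commute N v w hrel i j (fun e => hno j e.symm)
      have h1 := congrFun (congrFun hinv.2 i) i
      simp [Matrix.mul_apply, this] at h1
    have hcol : ∀ j, ∃ i, w i = v j := by
      intro j
      by_contra hno
      push Not at hno
      have : ∀ i, N i j = 0 := fun i => offdiag_of_commute N v w hrel i j (fun e => hno i e.symm)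
      have h1 := congrFun (congrFun hinv.1 j) j
      simp [Matrix.mul_apply, this] at h1
    choose f hf using hrow
    have hsurj : Function.Surjective f := fun j => by
      obtain ⟨i, hi⟩ := hcol j
      exact ⟨i, hinj (by rw [← hf, hi])⟩
    have hrev : ∀ i : Fin 4, f i.rev = (f i).rev := fun i => hinj (by
      have h1 := hpair _ w hw i
      have h2 := hpair _ v hv (f i)
      rw [← hf]
      rw [hf i] at h1
      exact mul_left_cancel₀ (left_ne_zero_of_mul_eq_one h2) (h1.trans h2.symm))
    have hconj : ∀ u : Fin 4 → F, N * diagonal u = diagonal (u ∘ f) * N := by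
      intro u
      ext i j
      rw [mul_diagonal, diagonal_mul, Function.comp_apply]
      by_cases hji : j = f i
      · rw [hji, mul_comm]
      · rw [offdiag_of_commute N v w hrel i j (fun e => hji (hinj (e.trans (hf i)))), zero_mul, mul_zero]
    have h4 : Commute ((n : G) ^ 4) x := by
      apply mat_injective G
      rw [map_mul, map_mul, map_pow, hv]
      calc N ^ 4 * diagonal v = N * (N * (N * (N * diagonal v))) := by
            simp only [pow_succ, pow_zero, one_mul, mul_assoc]
        _ = diagonal (fun i => v (f (f (f (f i))))) * (N * (N * (N * N))) := by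
            rw [hconj v, ← mul_assoc N (diagonal _) N, hconj, mul_assoc (diagonal _) N N,
              ← mul_assoc N (diagonal _) (N * N), hconj, mul_assoc (diagonal _) N (N * N),
              ← mul_assoc N (diagonal _) (N * (N * N)), hconj, mul_assoc (diagonal _) N (N * (N * N))]
            rfl
        _ = diagonal v * N ^ 4 := by
            rw [funext fun i => congrArg v (rev_fun_four f (Finite.surjective_iff_bijective.mp hsurj) hrev i)]
            simp only [pow_succ, pow_zero, one_mul, mul_assoc]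
    have hn4 : n ^ 4 ∈ D := by show Commute ((n ^ 4 : A) : G) x; rwa [Subgroup.coe_pow]
    have hco : Nat.Coprime 4 (orderOf n) := by
      refine Nat.Coprime.pow_left 2 (Nat.prime_two.coprime_iff_not_dvd.mpr fun hd => ?_)
      obtain ⟨r, hr⟩ := hd
      have hr0 : r ≠ 0 := by rintro rfl; exact (orderOf_pos n).ne' (by simpa using hr)
      have ho : orderOf (n ^ r) = 2 ^ 1 := by
        rw [orderOf_pow_of_dvd hr0 (hr ▸ Dvd.intro_left _ rfl), hr, Nat.mul_div_cancel _ (Nat.pos_of_ne_zero hr0), pow_one]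
      rw [hodd _ 1 ho, orderOf_one] at ho
      norm_num at ho
    obtain ⟨i, hi⟩ := exists_pow_eq_self_of_coprime hco
    exact hi ▸ D.pow_mem hn4 i
  have htop := (normalizerCondition_iff_only_full_group_self_normalizing.mp Group.normalizerCondition_of_isNilpotent) D hD
  intro a ha
  exact hdiag a (show (⟨a, ha⟩ : A) ∈ D from htop ▸ Subgroup.mem_top _)

/-- `I + E₀₂ + E₁₃ + E₀₃`. -/
def upperU (F : Type*) [Field F] : Matrix (Fin 4) (Fin 4) F := !![1, 0, 1, 1; 0, 1, 0, 1; 0, 0, 1, 0; 0, 0, 0, 1]
/-- `I + E₂₀ + E₃₁ + E₃₀`. -/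
def lowerU (F : Type*) [Field F] : Matrix (Fin 4) (Fin 4) F := !![1, 0, 0, 0; 0, 1, 0, 0; 1, 0, 1, 0; 1, 1, 0, 1]

theorem exists_mem_Sz (e : ℕ) (M : Matrix (Fin 4) (Fin 4) F) (hdet : M.det ≠ 0)
    (h1 : ∀ u v, Cfsg.Lie.altForm4 (M *ᵥ u) (M *ᵥ v) = Cfsg.Lie.altForm4 u v)
    (h2 : Cfsg.Lie.star4 M = M.map (fun x => x ^ e)) :
    ∃ g : Cfsg.Lie.Sz F e, mat _ g = M :=
  ⟨⟨Matrix.GeneralLinearGroup.mkOfDetNeZero M hdet, Subgroup.subset_closure ⟨h1, h2⟩⟩, rfl⟩

/-- A cover of a group is a finite set of proper subgroups whose union is the whole group; it is minimal when no cover has fewer members, and nilpotent when all its members are nilpotent. The Suzuki groups Sz(q), q = 2^(2m+1) with m ≥ 1, have no nilpotent minimal cover. -/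
theorem result {F : Type*} [Field F] [Fintype F] (m : ℕ) (hm : 1 ≤ m) (hF : Fintype.card F = 2 ^ (2 * m + 1)) :
    ¬ ∃ 𝓐 : Finset (Subgroup ↥(Cfsg.Lie.Sz F (2 ^ (m + 1)))), ((∀ A ∈ 𝓐, A ≠ ⊤) ∧ (∀ g : ↥(Cfsg.Lie.Sz F (2 ^ (m + 1))), ∃ A ∈ 𝓐, g ∈ A)) ∧ (∀ 𝓑 : Finset (Subgroup ↥(Cfsg.Lie.Sz F (2 ^ (m + 1)))), (∀ A ∈ 𝓑, A ≠ ⊤) ∧ (∀ g : ↥(Cfsg.Lie.Sz F (2 ^ (m + 1))), ∃ A ∈ 𝓑, g ∈ A) → 𝓐.card ≤ 𝓑.card) ∧ (∀ A ∈ 𝓐, Group.IsNilpotent ↥A) := by
  classical
  change ¬ ∃ 𝓐, Cover.IsMinNilCover 𝓐
  have hchar : CharP F 2 := by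
    obtain ⟨p, hp⟩ := CharP.exists F
    obtain ⟨n, hpp, hn⟩ := FiniteField.card F p
    rw [hF] at hn
    have : p = 2 := (Nat.prime_dvd_prime_iff_eq hpp Nat.prime_two).mp
      (hpp.dvd_of_dvd_pow (hn ▸ dvd_pow_self p n.ne_zero))
    exact this ▸ hp
  have hSp : Cfsg.Lie.Sz F (2 ^ (m + 1)) ≤ Cfsg.Lie.Sp4 F := (Subgroup.closure_le _).mpr fun g hg => hg.1
  set e := 2 ^ (m + 1) with he
  set q := 2 ^ (2 * m + 1) with hq
  -- arithmetic
  have he4 : 4 ≤ e := by
    rw [he]; exact le_trans (by norm_num) (Nat.pow_le_pow_right two_pos (show 2 ≤ m + 1 by omega))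
  have hee : e * e = 2 * q := by rw [he, hq, ← pow_add, ← pow_succ']; ring_nf
  have h2e : 2 * e ≤ q := by nlinarith
  obtain ⟨s, hs⟩ := IsCyclic.exists_ofOrder_eq_natCard (α := Fˣ)
  rw [Nat.card_units, Nat.card_eq_fintype_card, hF] at hs
  have hsF : (s : F) ≠ 0 := s.ne_zero
  have hseq : ∀ i j : ℕ, i < q - 1 → j < q - 1 → (s : F) ^ i = (s : F) ^ j → i = j := fun i j hi hj h =>
    pow_injOn_Iio_orderOf (hs ▸ hi : i < orderOf s) (hs ▸ hj : j < orderOf s) (Units.ext (by simpa using h))
  have hone : (s : F) ^ (q - 1) = 1 := by rw [← hs, ← Units.val_pow_eq_pow_val, pow_orderOf_eq_one, Units.val_one]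
  have hpm : ∀ i j : ℕ, i % (q - 1) = j % (q - 1) → (s : F) ^ i = (s : F) ^ j := fun i j h => by
    rw [← Nat.mod_add_div i (q - 1), ← Nat.mod_add_div j (q - 1), pow_add, pow_add, pow_mul, pow_mul, hone,
      one_pow, one_pow, h]
  let E : Fin 4 → ℕ := ![1, e - 1, q - e, q - 2]
  let v : Fin 4 → F := fun i => (s : F) ^ E i
  have hv : Function.Injective v := by
    intro i j h
    have := hseq (E i) (E j) (by fin_cases i <;> simp [E] <;> omega) (by fin_cases j <;> simp [E] <;> omega) h
    fin_cases i <;> fin_cases j <;> simp [E] at this ⊢ <;> omega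
  have hv03 : v 0 * v 3 = 1 := by
    rw [← pow_add, ← hone]; congr 1; simp [E]; omega
  have hv12 : v 1 * v 2 = 1 := by
    rw [← pow_add, ← hone]; congr 1; simp [E]; omega
  have r1 : v 0 * v 1 = v 0 ^ e := by
    rw [← pow_add, ← pow_mul]; congr 1; simp [E]; omega
  have r2 : v 0 * v 2 = v 1 ^ e := by
    rw [← pow_add, ← pow_mul]; refine hpm _ _ ?_
    simp only [E, Matrix.cons_val]
    have : (e - 1) * e = (1 + (q - e)) + (q - 1) := by
      have : e ≤ q := by omega
      zify [show 1 ≤ e by omega, show 1 ≤ q by omega, this]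
      have : (e : ℤ) * e = 2 * q := by exact_mod_cast hee
      linear_combination this
    rw [this, Nat.add_mod_right]
  have hv0 : ∀ i, v i ≠ 0 := fun i => pow_ne_zero _ hsF
  have e3 : v 3 = (v 0)⁻¹ := eq_inv_of_mul_eq_one_right hv03
  have e2 : v 2 = (v 1)⁻¹ := eq_inv_of_mul_eq_one_right hv12
  have r3 : v 1 * v 3 = v 2 ^ e := by
    rw [e2, inv_pow, ← r2, mul_inv, e2, inv_inv, e3]; ring
  have r4 : v 2 * v 3 = v 3 ^ e := by
    rw [e3, inv_pow, ← r1, mul_inv, e2, mul_comm]
  have h2 : (2 : F) = 0 := by exact_mod_cast CharP.cast_eq_zero F 2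
  obtain ⟨x, hx⟩ := exists_mem_Sz e (Matrix.diagonal v) (by
      rw [Matrix.det_diagonal]; exact Finset.prod_ne_zero_iff.mpr fun i _ => hv0 i)
    (fun a b => by
      simp only [Cfsg.Lie.altForm4, Matrix.mulVec_diagonal]
      linear_combination (a 0 * b 3 + a 3 * b 0) * hv03 + (a 1 * b 2 + a 2 * b 1) * hv12)
    (by
      ext i j
      fin_cases i <;> fin_cases j <;>
        simp [Cfsg.Lie.star4, Cfsg.Lie.pairOf, Matrix.diagonal, r1, r2, r3, r4, zero_pow (show e ≠ 0 by omega)])
  obtain ⟨u, hu⟩ := exists_mem_Sz e (upperU F) (by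
      rw [upperU, Matrix.det_of_isUpperTriangular] <;>
        first
          | simp [Fin.prod_univ_four]
          | (intro i j hij; fin_cases i <;> fin_cases j <;> first | exact absurd hij (by decide) | simp))
    (fun a b => by
      simp only [Cfsg.Lie.altForm4, upperU, Matrix.mulVec, dotProduct, Fin.sum_univ_four, Matrix.of_apply, Matrix.cons_val]
      linear_combination (a 2 * b 3 + a 3 * b 2 + a 3 * b 3) * h2)
    (by
      ext i j
      fin_cases i <;> fin_cases j <;>
        simp [Cfsg.Lie.star4, Cfsg.Lie.pairOf, upperU, zero_pow (show e ≠ 0 by omega), CharTwo.sub_eq_add])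
  obtain ⟨l, hl⟩ := exists_mem_Sz e (lowerU F) (by
      rw [lowerU, Matrix.det_of_isLowerTriangular] <;>
        first
          | simp [Fin.prod_univ_four]
          | (intro i j hij; fin_cases i <;> fin_cases j <;> first | exact absurd hij (by decide) | simp))
    (fun a b => by
      simp only [Cfsg.Lie.altForm4, lowerU, Matrix.mulVec, dotProduct, Fin.sum_univ_four, Matrix.of_apply, Matrix.cons_val]
      linear_combination (a 0 * b 1 + a 1 * b 0 + a 0 * b 0) * h2)
    (by
      ext i j
      fin_cases i <;> fin_cases j <;>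
        simp [Cfsg.Lie.star4, Cfsg.Lie.pairOf, lowerU, zero_pow (show e ≠ 0 by omega), CharTwo.sub_eq_add])
  -- the triangular subgroup
  let T : Submonoid (Cfsg.Lie.Sz F e) :=
    { carrier := {g | ∀ i j : Fin 4, j < i → mat _ g i j = 0}
      one_mem' := fun i j h => by simp [h.ne']
      mul_mem' := fun {a b} ha hb i j h => by
        rw [map_mul, Matrix.mul_apply]
        refine Finset.sum_eq_zero fun k _ => ?_
        rcases lt_or_ge k i with hk | hk
        · rw [ha i k hk, zero_mul]
        · rw [hb k j (lt_of_lt_of_le h hk), mul_zero] }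
  let M : Subgroup (Cfsg.Lie.Sz F e) :=
    { T with
      inv_mem' := fun {a} ha => by
        obtain ⟨k, hk⟩ := (isOfFinOrder_of_finite a).mem_powers_iff_mem_zpowers.mpr
          (Subgroup.inv_mem _ (Subgroup.mem_zpowers a))
        exact hk ▸ T.pow_mem ha k }
  have hdiagM : ∀ a w, mat _ a = Matrix.diagonal w → a ∈ M := fun a w hw i j h => by
    rw [hw, Matrix.diagonal_apply_ne _ h.ne']
  have huM : u ∈ M := by
    intro i j h; rw [hu]; fin_cases i <;> fin_cases j <;> simp [upperU] at h ⊢
  have hxlem := nilpotent_le_diag hSp x v hx hv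
  refine Cover.not_exists_of_pair (x := x) (y := u * x * u⁻¹) (M := M) ?_ (fun A hA hxA a ha => ?_)
    (fun A hA hyA a ha => ?_) (fun A hA hxA hyA => ?_)
  · intro htop
    have := (htop ▸ Subgroup.mem_top l : l ∈ M) 2 0 (by decide)
    rw [hl] at this
    simp [lowerU] at this
  · obtain ⟨w, hw⟩ := hxlem A hA hxA a ha
    exact hdiagM a w hw
  · let A' := A.map (MulAut.conj u⁻¹).toMonoidHom
    have hA' : Group.IsNilpotent A' :=
      (Group.isNilpotent_congr (A.equivMapOfInjective _ (MulAut.conj u⁻¹).injective)).mp hA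
    obtain ⟨w, hw⟩ := hxlem A' hA' ⟨u * x * u⁻¹, hyA, by simp [mul_assoc]⟩ (u⁻¹ * a * u) ⟨a, ha, by simp⟩
    have := M.mul_mem (M.mul_mem huM (hdiagM _ w hw)) (M.inv_mem huM)
    simpa [mul_assoc] using this
  · obtain ⟨w, hw⟩ := hxlem A hA hxA _ hyA
    have h : mat _ u * Matrix.diagonal v = Matrix.diagonal w * mat _ u := by
      rw [← hx, ← hw, ← map_mul, ← map_mul]; simp
    rw [hu] at h
    have a0 := congrFun (congrFun h 0) 0
    have a2 := congrFun (congrFun h 0) 2
    rw [Matrix.mul_diagonal, Matrix.diagonal_mul] at a0 a2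
    simp [upperU] at a0 a2
    exact absurd (hv (a0.trans a2.symm)) (by decide)

end Cfsg.Agent.S3893
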