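import Cfsg.Statements.S3895
import Cfsg.Agent.Lib.ClassCount.TwoPart
import Cfsg.Agent.Lib.Transfer.Residual

set_option autoImplicit false
open Cfsg

namespace Cfsg.Agent.S3895

/-- Let G be a finite group with Sylow 2-subgroup P, and write k₂(G) for the number of conjugacy classes of G consisting of 2-elements (elements of 2-power order, the identity included). Then k₂(G) > |P|/2 if and only if G has a normal 2-complement and P has more than |P|/2 conjugacy classes. -/
theorem result {G : Type*} [Group G] [Finite G] (P : Sylow 2 G) :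
    Nat.card ↥(P : Subgroup G) < 2 * Nat.card {c : ConjClasses G // ∀ x ∈ c.carrier, ∃ k : ℕ, orderOf x = 2 ^ k} ↔
      Cfsg.HasNormalPComplement 2 G ∧ Nat.card ↥(P : Subgroup G) < 2 * Nat.card (ConjClasses ↥(P : Subgroup G)) := by
  classical
  let C := {c : ConjClasses G // ∀ x ∈ c.carrier, ∃ k : ℕ, orderOf x = 2 ^ k}
  let f : ConjClasses (P : Subgroup G) → C :=
    Quotient.lift (ClassCount.sylowClassMap P) fun a b (hab : IsConj a b) => Subtype.ext (by
      simp only [ClassCount.sylowClassMap]
      rw [ConjClasses.mk_eq_mk_iff_isConj]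
      exact (P : Subgroup G).subtype.map_isConj hab)
  have hf : Function.Surjective f := fun c => by
    obtain ⟨x, hx⟩ := ClassCount.sylowClassMap_surjective P c
    exact ⟨ConjClasses.mk x, hx⟩
  constructor
  · intro h
    refine ⟨ClassCount.hasNormalTwoComplement_of_many_classes P ?_,
      lt_of_lt_of_le h (Nat.mul_le_mul_left _ (Nat.card_le_card_of_surjective f hf))⟩
    rwa [ClassCount.piClassCount_singleton Nat.prime_two]
  · rintro ⟨hN, h⟩
    refine lt_of_lt_of_le h (Nat.mul_le_mul_left _ (Nat.card_le_card_of_injective f ?_))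
    intro a b hab
    obtain ⟨x, rfl⟩ := ConjClasses.exists_rep a
    obtain ⟨y, rfl⟩ := ConjClasses.exists_rep b
    have hab' : ConjClasses.mk (x : G) = ConjClasses.mk (y : G) := congrArg Subtype.val hab
    obtain ⟨g, hg⟩ := isConj_iff.mp (ConjClasses.mk_eq_mk_iff_isConj.mp hab')
    obtain ⟨Q, N, hNn, hc⟩ := hN
    -- `P` maps isomorphically onto `G ⧸ N`
    have hinj : Function.Injective ((QuotientGroup.mk' N).comp (P : Subgroup G).subtype) := by
      refine (injective_iff_map_eq_one _).mpr fun z hz => ?_
      have hzN : (z : G) ∈ N := (QuotientGroup.eq_one_iff (z : G)).mp hz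
      obtain ⟨k, hk⟩ := (IsPGroup.iff_orderOf (p := 2)).mp P.2 z
      have h1 : orderOf (z : G) ∣ Nat.card N := Subgroup.orderOf_dvd_natCard N hzN
      have h2 : Nat.Coprime (Nat.card N) 2 := by
        have h3 := Q.not_dvd_index
        rw [hc.index_eq_card] at h3
        exact (Nat.prime_two.coprime_iff_not_dvd.mpr h3).symm
      rw [Subgroup.orderOf_coe, hk] at h1
      apply orderOf_eq_one_iff.mp
      rw [hk]
      exact Nat.eq_one_of_dvd_coprimes (Nat.Coprime.pow_right k h2).symm dvd_rfl h1
    have hsurj : Function.Surjective ((QuotientGroup.mk' N).comp (P : Subgroup G).subtype) := by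
      refine (Nat.bijective_iff_injective_and_card _).mpr ⟨hinj, ?_⟩ |>.2
      rw [P.card_eq_multiplicity, ← Q.card_eq_multiplicity, ← hc.symm.index_eq_card]
      rfl
    obtain ⟨u, hu⟩ := hsurj (QuotientGroup.mk' N g)
    rw [ConjClasses.mk_eq_mk_iff_isConj, isConj_iff]
    refine ⟨u, hinj ?_⟩
    rw [map_mul, map_mul, map_inv, hu]
    show _ = QuotientGroup.mk' N (y : G)
    rw [← hg, map_mul, map_mul, map_inv]
    rfl

end Cfsg.Agent.S3895
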