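import Cfsg.Statements.S3897
import Cfsg.Agent.Lib.ClassCount.Basic

set_option autoImplicit false
open Cfsg

namespace Cfsg.Agent.S3897

/-- Let p be an odd prime and G a finite group with Sylow p-subgroup P, and write k_p(G) for the number of conjugacy classes of G consisting of p-elements (elements of p-power order, the identity included). Then k_p(G) > (p + 1)|P|/(2p) if and only if G has a normal p-complement and P is abelian. -/
theorem result {G : Type*} [Group G] [Finite G] {p : ℕ} [Fact p.Prime] (hp : p ≠ 2) (P : Sylow p G) :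
    (p + 1) * Nat.card ↥(P : Subgroup G) < 2 * p * Nat.card {c : ConjClasses G // ∀ x ∈ c.carrier, ∃ k : ℕ, orderOf x = p ^ k} ↔
      Cfsg.HasNormalPComplement p G ∧ IsMulCommutative ↥(P : Subgroup G) := by
  classical
  have hpp : p.Prime := Fact.out
  rw [← ClassCount.piClassCount_singleton hpp]
  constructor
  · intro h
    obtain ⟨hab, N, hN, hc⟩ := ClassCount.hasNormalPComplement_of_many_classes P h
    exact ⟨⟨P, N, hN, hc⟩, hab⟩
  · rintro ⟨⟨Q, N, hN, hc⟩, hab⟩
    have : IsMulCommutative (P : Subgroup G) := hab
    have hcard : Nat.card (P : Subgroup G) ≤ ClassCount.piClassCount {p} G := by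
      rw [ClassCount.piClassCount_singleton hpp]
      refine Nat.card_le_card_of_injective (ClassCount.sylowClassMap P) fun x y hxy => ?_
      have hq : ∀ a b : G ⧸ N, a * b = b * a := by
        have hsurj : Function.Surjective ((QuotientGroup.mk' N).comp (P : Subgroup G).subtype) := by
          intro z
          obtain ⟨g, rfl⟩ := QuotientGroup.mk_surjective z
          have hc' : N.IsComplement' (P : Subgroup G) := by
            refine Subgroup.isComplement'_of_coprime ?_ ?_
            · rw [P.card_eq_multiplicity, ← Q.card_eq_multiplicity]; exact hc.card_mul_card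
            · have := Q.card_coprime_index
              rw [hc.index_eq_card] at this
              rw [P.card_eq_multiplicity, ← Q.card_eq_multiplicity]
              exact this.symm
          obtain ⟨⟨n, u⟩, hnu⟩ := hc'.2 g
          refine ⟨⟨u, u.2⟩, ?_⟩
          simp only [MonoidHom.coe_comp, Function.comp_apply, Subgroup.coe_subtype, QuotientGroup.mk'_apply]
          rw [← hnu, QuotientGroup.mk_mul, (QuotientGroup.eq_one_iff (n : G)).mpr n.2, one_mul]
        intro a b
        obtain ⟨a, rfl⟩ := hsurj a
        obtain ⟨b, rfl⟩ := hsurj b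
        rw [← map_mul, ← map_mul, mul_comm' a b]
      have he : ConjClasses.mk (x : G) = ConjClasses.mk (y : G) := congrArg Subtype.val hxy
      obtain ⟨g, hg⟩ := isConj_iff.mp (ConjClasses.mk_eq_mk_iff_isConj.mp he)
      have h1 : ((x⁻¹ * y : (P : Subgroup G)) : G) ∈ N := by
        rw [← QuotientGroup.eq_one_iff, Subgroup.coe_mul, ← hg, QuotientGroup.mk_mul, QuotientGroup.mk_mul,
          QuotientGroup.mk_mul, hq (g : G ⧸ N) ((x : G) : G ⧸ N)]
        simp
      have h2 : ((x⁻¹ * y : (P : Subgroup G)) : G) = 1 := by
        obtain ⟨k, hk⟩ := (IsPGroup.iff_orderOf (p := p)).mp P.2 (x⁻¹ * y)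
        have hd1 := Subgroup.orderOf_dvd_natCard N h1
        have hcop := Q.card_coprime_index
        rw [hc.index_eq_card] at hcop
        rw [Subgroup.orderOf_coe, hk] at hd1
        obtain ⟨m, hm⟩ := (IsPGroup.iff_card (p := p)).mp Q.2
        rw [← orderOf_eq_one_iff, Subgroup.orderOf_coe, hk]
        refine Nat.eq_one_of_dvd_coprimes hcop ?_ hd1
        have := Subgroup.orderOf_dvd_natCard (P : Subgroup G) (x⁻¹ * y).2
        rw [Subgroup.orderOf_coe, hk, P.card_eq_multiplicity, ← Q.card_eq_multiplicity] at this
        exact this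
      exact eq_of_inv_mul_eq_one (Subtype.ext h2)
    have h2 := hpp.two_le
    have : 0 < Nat.card (P : Subgroup G) := Nat.card_pos
    nlinarith

end Cfsg.Agent.S3897
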