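import Mathlib
import Cfsg.Statements.S3898
import Cfsg.Agent.Lib.ClassCount.Basic
import Cfsg.Agent.Lib.ClassCount.TwoPart

set_option autoImplicit false
open Cfsg
open scoped commutatorElement

namespace Cfsg.Agent.S3898

section Odd

variable {G : Type*} [Group G] [Finite G]

/-- If `g` has odd order and its square commutes with `x`, so does `g`. -/
theorem commute_of_sq {g x : G} (hg : Odd (orderOf g)) (h : Commute (g ^ 2) x) : Commute g x := by
  obtain ⟨m, hm⟩ := hg
  have h1 : (g ^ 2) ^ (m + 1) = g := by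
    rw [← pow_mul, show 2 * (m + 1) = orderOf g + 1 by omega, pow_succ, pow_orderOf_eq_one, one_mul]
  exact h1 ▸ h.pow_left (m + 1)

/-- An odd element does not exchange two points. -/
theorem eq_of_swap {g x y : G} (hg : Odd (orderOf g)) (hxy : g * x * g⁻¹ = y) (hyx : g * y * g⁻¹ = x) : x = y := by
  have h : Commute (g ^ 2) x := by
    have h0 : g ^ 2 * x * (g ^ 2)⁻¹ = x := by
      calc g ^ 2 * x * (g ^ 2)⁻¹ = g * (g * x * g⁻¹) * g⁻¹ := by simp [sq, mul_assoc]
        _ = x := by rw [hxy, hyx]
    exact mul_inv_eq_iff_eq_mul.mp h0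
  rw [← hxy, (commute_of_sq hg h).eq, mul_inv_cancel_right]

theorem odd_orderOf_of_mem {N : Subgroup G} (hN : Odd (Nat.card N)) {g : G} (hg : g ∈ N) : Odd (orderOf g) :=
  hN.of_dvd_nat (Subgroup.orderOf_dvd_natCard N hg)

/-- For an odd prime `q` in `π`, many classes of π-elements force an abelian Sylow `q`-subgroup central
in its normaliser. -/
theorem odd_prime_step (π : Finset ℕ) (hπ : ∀ r ∈ π, r.Prime) (h2 : 2 ∈ π)
    (hk : π.prod (fun r => r ^ (Nat.card G).factorization r) < 2 * ClassCount.piClassCount π G)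
    {N : Subgroup G} [hN : N.Normal] (hNodd : Odd (Nat.card N))
    (hNidx : N.index = 2 ^ (Nat.card G).factorization 2)
    {q : ℕ} [Fact q.Prime] (hq : q ∈ π) (hq2 : q ≠ 2) (Q : Sylow q G) :
    IsMulCommutative (Q : Subgroup G) ∧
      Subgroup.normalizer ((Q : Subgroup G) : Set G) ≤ Subgroup.centralizer ((Q : Subgroup G) : Set G) := by
  classical
  have hqp : q.Prime := Fact.out
  have hq3 : 3 ≤ q := by have := hqp.two_le; omega
  let F : Set (Q : Subgroup G) := {a | ∀ b, ClassCount.sylowClassMap Q b = ClassCount.sylowClassMap Q a → b = a}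
  have hconj : ∀ (a : (Q : Subgroup G)) (b : (Q : Subgroup G)) (g : G), g * (a : G) * g⁻¹ = b →
      ClassCount.sylowClassMap Q b = ClassCount.sylowClassMap Q a := fun a b g h => by
    refine Subtype.ext ?_
    simp only [ClassCount.sylowClassMap]
    rw [ConjClasses.mk_eq_mk_iff_isConj, isConj_comm, isConj_iff]
    exact ⟨g, h⟩
  have hFfix : ∀ a ∈ F, ∀ g ∈ Subgroup.normalizer ((Q : Subgroup G) : Set G), g * (a : G) * g⁻¹ = a := by
    intro a ha g hg
    exact congrArg Subtype.val (ha ⟨_, (Subgroup.mem_normalizer_iff.mp hg _).mp a.2⟩ (hconj a _ g rfl))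
  set F' := Subgroup.closure F with hF'
  have hfix : ∀ a ∈ F', ∀ g ∈ Subgroup.normalizer ((Q : Subgroup G) : Set G), g * (a : G) * g⁻¹ = a := by
    intro a ha g hg
    induction ha using Subgroup.closure_induction with
    | mem x hx => exact hFfix x hx g hg
    | one => simp
    | mul x y _ _ hx hy =>
      rw [Subgroup.coe_mul]
      calc g * ((x : G) * y) * g⁻¹ = (g * x * g⁻¹) * (g * y * g⁻¹) := by group
        _ = _ := by rw [hx, hy]
    | inv x _ hx =>
      rw [InvMemClass.coe_inv, ← conj_inv, hx]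
  have hcen : F' ≤ Subgroup.center (Q : Subgroup G) := fun a ha =>
    Subgroup.mem_center_iff.mpr fun b => Subtype.ext (mul_inv_eq_iff_eq_mul.mp (hfix a ha b (Subgroup.le_normalizer b.2)))
  by_cases hFtop : F' = ⊤
  · refine ⟨⟨⟨fun a b => ((Subgroup.mem_center_iff.mp (hcen (hFtop ▸ Subgroup.mem_top a))) b).symm⟩⟩, fun g hg => ?_⟩
    rw [Subgroup.mem_centralizer_iff]
    intro a ha
    exact (mul_inv_eq_iff_eq_mul.mp (hfix ⟨a, ha⟩ (hFtop ▸ Subgroup.mem_top _) g hg)).symm
  exfalso
  -- `Q` lies in `N`, and so does a conjugating element when the centraliser has full 2-part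
  have hQN : (Q : Subgroup G) ≤ N := by
    intro a ha
    obtain ⟨k, hk⟩ := (IsPGroup.iff_orderOf (p := q)).mp Q.2 ⟨a, ha⟩
    rw [Subgroup.orderOf_mk] at hk
    rw [← QuotientGroup.eq_one_iff]
    refine orderOf_eq_one_iff.mp (Nat.eq_one_of_dvd_coprimes ((Nat.coprime_primes hqp Nat.prime_two).mpr hq2 |>.pow k ((Nat.card G).factorization 2)) ?_ ?_)
    · exact hk ▸ orderOf_map_dvd (QuotientGroup.mk' N) a
    · rw [← hNidx]; exact orderOf_dvd_natCard _
  set W := 2 ^ (Nat.card G).factorization 2 with hW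
  let w : G → ℕ := fun x => 2 ^ (Nat.card (Subgroup.centralizer ({x} : Set G))).factorization 2
  have hw : ∀ x : G, w x = W ∨ 2 * w x ≤ W := by
    intro x
    have hle : (Nat.card (Subgroup.centralizer ({x} : Set G))).factorization 2 ≤ (Nat.card G).factorization 2 :=
      (Nat.factorization_le_iff_dvd Nat.card_pos.ne' Nat.card_pos.ne').mpr (Subgroup.card_subgroup_dvd_card _) 2
    rcases hle.lt_or_eq with h | h
    · right
      calc 2 * w x = 2 ^ ((Nat.card (Subgroup.centralizer ({x} : Set G))).factorization 2 + 1) := by rw [pow_succ']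
        _ ≤ W := Nat.pow_le_pow_right (by norm_num) h
    · left; simp only [w, hW, h]
  have hconjN : ∀ x : G, w x = W → ∀ g : G, ∃ n ∈ N, g * x * g⁻¹ = n * x * n⁻¹ := by
    intro x hx g
    set C := Subgroup.centralizer ({x} : Set G)
    have htop : C ⊔ N = ⊤ := by
      refine Subgroup.eq_top_of_card_eq _ (Nat.dvd_antisymm (Subgroup.card_subgroup_dvd_card _) ?_)
      rw [← Subgroup.card_mul_index N, hNidx]
      refine (Nat.Coprime.pow_right _ (Nat.coprime_two_right.mpr hNodd)).mul_dvd_of_dvd_of_dvd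
        (Subgroup.card_dvd_of_le le_sup_right) ?_
      exact (show W ∣ Nat.card C from hx ▸ Nat.ordProj_dvd _ _).trans (Subgroup.card_dvd_of_le le_sup_left)
    have hg : g ∈ C ⊔ N := htop ▸ Subgroup.mem_top g
    rw [sup_comm, Subgroup.mem_sup_of_normal_left] at hg
    obtain ⟨n, hn, c, hc, rfl⟩ := hg
    refine ⟨n, hn, ?_⟩
    have hc' := Subgroup.mem_centralizer_singleton_iff.mp hc
    rw [show n * c * x * (n * c)⁻¹ = n * (c * x) * c⁻¹ * n⁻¹ by group, hc']
    group
  have hburn : ∀ a b : (Q : Subgroup G), a ∈ Subgroup.center (Q : Subgroup G) → b ∈ Subgroup.center (Q : Subgroup G) →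
      ∀ n ∈ N, n * (a : G) * n⁻¹ = b → ∃ m ∈ N, m ∈ Subgroup.normalizer ((Q : Subgroup G) : Set G) ∧ m * (a : G) * m⁻¹ = b := by
    intro a b ha hb n hn hab
    let QN : Sylow q N := Q.subtype hQN
    have hz : ∀ (c : (Q : Subgroup G)), c ∈ Subgroup.center (Q : Subgroup G) →
        (⟨c, hQN c.2⟩ : N) ∈ Subgroup.centralizer ((QN : Subgroup N) : Set N) := by
      intro c hc
      rw [Subgroup.mem_centralizer_iff]
      intro u hu
      have hu' : (u : G) ∈ (Q : Subgroup G) := hu
      exact Subtype.ext (congrArg Subtype.val (Subgroup.mem_center_iff.mp hc ⟨u, hu'⟩) : (u : G) * c = c * u)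
    have he : (⟨n, hn⟩ : N)⁻¹⁻¹ * ⟨a, hQN a.2⟩ * (⟨n, hn⟩ : N)⁻¹ = ⟨b, hQN b.2⟩ := Subtype.ext (by simpa using hab)
    obtain ⟨m, hm, hme⟩ := Sylow.conj_eq_normalizer_conj_of_mem_centralizer QN ⟨a, hQN a.2⟩ (⟨n, hn⟩ : N)⁻¹ (hz a ha)
      (he ▸ hz b hb)
    rw [he] at hme
    refine ⟨(m : G)⁻¹, inv_mem m.2, inv_mem ?_, by simpa using (congrArg Subtype.val hme).symm⟩
    rw [Subgroup.mem_normalizer_iff]
    intro c
    have h := Subgroup.mem_normalizer_iff.mp hm
    constructor
    · intro hc; exact (h ⟨c, hQN hc⟩).mp hc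
    · intro hc
      have hcN : c ∈ N := by
        have := hN.conj_mem _ (hQN hc) (m : G)⁻¹
        simpa [mul_assoc] using this
      exact (h ⟨c, hcN⟩).mpr hc
  -- the fibre of an element `a ∉ F` with full weight has at least three elements
  have hthree : ∀ a : (Q : Subgroup G), a ∉ F → w a = W →
      3 ≤ Nat.card {b : (Q : Subgroup G) // ClassCount.sylowClassMap Q b = ClassCount.sylowClassMap Q a} := by
    intro a ha hwa
    by_contra hlt
    simp only [F, Set.mem_ofPred_eq, not_forall, exists_prop] at ha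
    obtain ⟨b, hb, hba⟩ := ha
    have hfib : ∀ c : (Q : Subgroup G), ClassCount.sylowClassMap Q c = ClassCount.sylowClassMap Q a → c = a ∨ c = b := by
      intro c hc
      by_contra hne
      simp only [not_or] at hne
      apply hlt
      let v : Fin 3 → {x : (Q : Subgroup G) // ClassCount.sylowClassMap Q x = ClassCount.sylowClassMap Q a} := ![⟨a, rfl⟩, ⟨b, hb⟩, ⟨c, hc⟩]
      refine le_trans (le_of_eq (by simp)) (Nat.card_le_card_of_injective v ?_)
      intro i j hij
      have h' := congrArg (fun x => (x.1 : (Q : Subgroup G))) hij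
      fin_cases i <;> fin_cases j <;> first
        | rfl
        | exact absurd h' hba | exact absurd h'.symm hba | exact absurd h' hne.1 | exact absurd h'.symm hne.1
        | exact absurd h' hne.2 | exact absurd h'.symm hne.2
    obtain ⟨g, hg⟩ := isConj_iff.mp (ConjClasses.mk_eq_mk_iff_isConj.mp (congrArg Subtype.val hb).symm :
      IsConj (a : G) b)
    obtain ⟨n, hn, hne⟩ := hconjN a hwa g
    rw [hg] at hne
    have hcen' : ∀ c : (Q : Subgroup G), ClassCount.sylowClassMap Q c = ClassCount.sylowClassMap Q a →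
        c ∈ Subgroup.center (Q : Subgroup G) := by
      intro c hc
      rw [Subgroup.mem_center_iff]
      intro r
      have hro : Odd (orderOf (r : G)) := odd_orderOf_of_mem hNodd (hQN r.2)
      have h1 : ClassCount.sylowClassMap Q (r * c * r⁻¹) = ClassCount.sylowClassMap Q a :=
        (hconj c (r * c * r⁻¹) r rfl).trans hc
      have h2 : ClassCount.sylowClassMap Q (r * (r * c * r⁻¹) * r⁻¹) = ClassCount.sylowClassMap Q a :=
        (hconj _ (r * (r * c * r⁻¹) * r⁻¹) r rfl).trans h1
      have h4 : r * c * r⁻¹ = c := by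
        by_contra h5
        apply h5
        have h6 : r * (r * c * r⁻¹) * r⁻¹ = c := by
          rcases hfib _ hc with e | e <;> rcases hfib _ h1 with e1 | e1 <;> rcases hfib _ h2 with e2 | e2 <;>
            first
            | exact e2.trans e.symm
            | exact absurd (e1.trans e.symm) h5
            | (exfalso; apply h5; exact mul_left_cancel (mul_right_cancel (e2.trans e1.symm)))
        refine (Subtype.ext (eq_of_swap hro (x := (c : G)) (y := ((r * c * r⁻¹ : (Q : Subgroup G)) : G)) ?_ ?_)).symm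
        · simp
        · have := congrArg Subtype.val h6; simpa using this
      exact mul_inv_eq_iff_eq_mul.mp h4
    obtain ⟨m, hmN, hmQ, hmab⟩ := hburn a b (hcen' a rfl) (hcen' b hb) n hn hne.symm
    let d : (Q : Subgroup G) := ⟨m * b * m⁻¹, (Subgroup.mem_normalizer_iff.mp hmQ _).mp b.2⟩
    rcases hfib d ((hconj b d m rfl).trans hb) with h | h
    · exact hba (Subtype.ext (eq_of_swap (odd_orderOf_of_mem hNodd hmN) hmab (congrArg Subtype.val h)).symm)
    · have h' : m * (b : G) * m⁻¹ = b := congrArg Subtype.val h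
      exact hba (Subtype.ext (mul_left_cancel (mul_right_cancel (h'.trans hmab.symm))))
  -- the sum
  obtain ⟨x, hx, hsum⟩ := ClassCount.piClassCount_insert_le_sum (G := G) (q := q) (σ := π.erase q) hqp (Finset.notMem_erase q π)
  rw [Finset.insert_erase hq] at hsum
  let Cq := {c : ConjClasses G // ∀ y ∈ c.carrier, ∀ r : ℕ, r.Prime → r ∣ orderOf y → r ∈ ({q} : Finset ℕ)}
  have := Fintype.ofFinite Cq
  set rest := ((π.erase q).erase 2).prod (fun r => r ^ (Nat.card G).factorization r) with hrest
  have h2' : 2 ∈ π.erase q := Finset.mem_erase.mpr ⟨fun h => hq2 h.symm, h2⟩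
  have hB : ∀ c : Cq, ClassCount.piClassCount (π.erase q) (Subgroup.centralizer ({x c} : Set G)) ≤ w (x c) * rest := by
    intro c
    refine le_trans (ClassCount.piClassCount_le_piPart _ (fun r hr => hπ r (Finset.mem_of_mem_erase hr)) _) ?_
    rw [← Finset.mul_prod_erase _ _ h2']
    refine Nat.mul_le_mul le_rfl (Finset.prod_le_prod' fun r hr => ?_)
    exact Nat.pow_le_pow_right (hπ r (Finset.mem_of_mem_erase (Finset.mem_of_mem_erase hr))).pos
      ((Nat.factorization_le_iff_dvd Nat.card_pos.ne' Nat.card_pos.ne').mpr (Subgroup.card_subgroup_dvd_card _) r)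
  have hkW : W * Nat.card (Q : Subgroup G) < 2 * ∑ c : Cq, w (x c) := by
    have h1 : ClassCount.piClassCount π G ≤ (∑ c : Cq, w (x c)) * rest := by
      rw [Finset.sum_mul]; exact hsum.trans (Finset.sum_le_sum fun c _ => hB c)
    rw [← Finset.mul_prod_erase π _ hq, ← Finset.mul_prod_erase _ _ h2', ← Q.card_eq_multiplicity, ← hrest, ← hW] at hk
    refine Nat.lt_of_mul_lt_mul_right (a := rest) ?_
    calc W * Nat.card (Q : Subgroup G) * rest = Nat.card (Q : Subgroup G) * (W * rest) := by ring
      _ < 2 * ClassCount.piClassCount π G := hk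
      _ ≤ 2 * ((∑ c : Cq, w (x c)) * rest) := Nat.mul_le_mul_left _ h1
      _ = (2 * ∑ c : Cq, w (x c)) * rest := by ring
  -- fibres over the classes
  have hwc : ∀ (c : Cq) (a : (Q : Subgroup G)), ConjClasses.mk (a : G) = c.1 → w a = w (x c) := by
    intro c a ha
    obtain ⟨g, hg⟩ := isConj_iff.mp (ConjClasses.mk_eq_mk_iff_isConj.mp (ha.trans (hx c).symm))
    have e : Subgroup.centralizer ({x c} : Set G) = (Subgroup.centralizer ({(a : G)} : Set G)).map (MulAut.conj g).toMonoidHom := by
      ext u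
      rw [Subgroup.mem_map_equiv, Subgroup.mem_centralizer_singleton_iff, Subgroup.mem_centralizer_singleton_iff, ← hg]
      simp only [MulAut.conj_symm_apply]
      constructor
      · intro h
        calc g⁻¹ * u * g * (a : G) = g⁻¹ * (u * (g * a * g⁻¹)) * g := by group
          _ = g⁻¹ * (g * a * g⁻¹ * u) * g := by rw [h]
          _ = a * (g⁻¹ * u * g) := by group
      · intro h
        calc u * (g * a * g⁻¹) = g * (g⁻¹ * u * g * a) * g⁻¹ := by group
          _ = g * (a * (g⁻¹ * u * g)) * g⁻¹ := by rw [h]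
          _ = g * a * g⁻¹ * u := by group
    simp only [w, e, Subgroup.card_map_of_injective (f := (MulAut.conj g).toMonoidHom) (MulAut.conj g).injective]
  have := Fintype.ofFinite (Q : Subgroup G)
  let fib : Cq → Finset (Q : Subgroup G) := fun c => Finset.univ.filter fun a => ConjClasses.mk (a : G) = c.1
  have hfibsum : (∑ c : Cq, (fib c).card) ≤ Nat.card (Q : Subgroup G) ∧
      (∑ c : Cq, ((fib c).filter fun a => a ∈ F).card) ≤ Nat.card F' := by
    have hd : ∀ s : Finset (Q : Subgroup G),
        (∑ c : Cq, ((fib c).filter fun a => a ∈ s).card) ≤ s.card := by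
      intro s
      rw [← Finset.card_biUnion]
      · exact Finset.card_le_card fun a ha => by
          obtain ⟨c, -, hc⟩ := Finset.mem_biUnion.mp ha
          exact (Finset.mem_filter.mp hc).2
      · intro c _ d _ hcd
        rw [Function.onFun, Finset.disjoint_left]
        intro a h1 h2
        exact hcd (Subtype.ext ((Finset.mem_filter.mp (Finset.mem_filter.mp h1).1).2.symm.trans (Finset.mem_filter.mp (Finset.mem_filter.mp h2).1).2))
    constructor
    · simpa [Nat.card_eq_fintype_card] using hd Finset.univ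
    · have h := hd F.toFinset
      simp only [Set.mem_toFinset] at h
      refine h.trans ?_
      rw [← Nat.card_eq_card_toFinset]
      exact Nat.card_mono (Set.toFinite _) Subgroup.subset_closure
  have hne : ∀ c : Cq, ∃ a : (Q : Subgroup G), a ∈ fib c := by
    intro c
    obtain ⟨a, ha⟩ := ClassCount.sylowClassMap_surjective Q ⟨c.1, fun y hy => (ClassCount.isPiElt_singleton hqp).mp (c.2 y hy)⟩
    exact ⟨a, by simp only [fib, Finset.mem_filter, Finset.mem_univ, true_and]; exact congrArg Subtype.val ha⟩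
  have hclass : ∀ c : Cq, ∃ a ∈ fib c, w a = w (x c) ∧
      (a ∈ F → 1 ≤ ((fib c).filter fun a => a ∈ F).card ∧ 1 ≤ (fib c).card) ∧
      (a ∉ F → (2 * w (x c) ≤ W ∧ 2 ≤ (fib c).card) ∨ (w (x c) = W ∧ 3 ≤ (fib c).card)) := by
    intro c
    obtain ⟨a, ha⟩ := hne c
    have hac : ConjClasses.mk (a : G) = c.1 := (Finset.mem_filter.mp ha).2
    have hwa := hwc c a hac
    refine ⟨a, ha, hwa, fun h => ⟨Finset.card_pos.mpr ⟨a, Finset.mem_filter.mpr ⟨ha, h⟩⟩, Finset.card_pos.mpr ⟨a, ha⟩⟩, fun h => ?_⟩
    have hcard : Nat.card {b : (Q : Subgroup G) // ClassCount.sylowClassMap Q b = ClassCount.sylowClassMap Q a} ≤ (fib c).card := by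
      rw [Nat.card_eq_fintype_card, Fintype.card_subtype]
      refine Finset.card_le_card fun b hb => Finset.mem_filter.mpr ⟨Finset.mem_univ _, ?_⟩
      exact (congrArg Subtype.val (Finset.mem_filter.mp hb).2).trans hac
    rcases hw (x c) with h1 | h1
    · exact Or.inr ⟨h1, (hthree a h (hwa.trans h1)).trans hcard⟩
    · refine Or.inl ⟨h1, le_trans ?_ hcard⟩
      simp only [F, Set.mem_ofPred_eq, not_forall, exists_prop] at h
      obtain ⟨b, hb, hba⟩ := h
      have : Nontrivial {b : (Q : Subgroup G) // ClassCount.sylowClassMap Q b = ClassCount.sylowClassMap Q a} :=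
        ⟨⟨b, hb⟩, ⟨a, rfl⟩, fun e => hba (congrArg Subtype.val e)⟩
      exact Finite.one_lt_card
  have hwW : ∀ c : Cq, w (x c) ≤ W := fun c => by rcases hw (x c) with h | h <;> omega
  have hA : 3 * (∑ c : Cq, w (x c)) ≤ W * (Nat.card (Q : Subgroup G) + 2 * Nat.card F') := by
    refine le_trans (b := W * ((∑ c : Cq, (fib c).card) + 2 * ∑ c : Cq, ((fib c).filter fun a => a ∈ F).card)) ?_
      (Nat.mul_le_mul_left _ (Nat.add_le_add hfibsum.1 (Nat.mul_le_mul_left _ hfibsum.2)))
    rw [Finset.mul_sum, Finset.mul_sum, ← Finset.sum_add_distrib, Finset.mul_sum]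
    refine Finset.sum_le_sum fun c _ => ?_
    obtain ⟨a, -, -, hin, hout⟩ := hclass c
    have := hwW c
    by_cases h : a ∈ F
    · obtain ⟨h1, h2⟩ := hin h
      nlinarith
    · rcases hout h with ⟨h1, h2⟩ | ⟨h1, h2⟩ <;> nlinarith
  obtain ⟨j, hj⟩ := Q.2.index F'
  have hidx := Subgroup.card_mul_index F'
  have hj1 : j ≠ 0 := fun h => hFtop (Subgroup.index_eq_one.mp (by rw [hj, h, pow_zero]))
  by_cases hfour : 4 ≤ F'.index
  · have h4 : 4 * Nat.card F' ≤ Nat.card (Q : Subgroup G) := by rw [← hidx, mul_comm]; exact Nat.mul_le_mul_left _ hfour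
    nlinarith [Nat.mul_le_mul_left W h4]
  have hq' : q ≤ F'.index := hj ▸ Nat.le_self_pow hj1 q
  have hi3 : F'.index = 3 := by omega
  have hq3' : q = 3 := by omega
  -- now `Q` is abelian and no odd normalising element moves it
  have hab : IsMulCommutative (Q : Subgroup G) := by
    have : (F').Normal := ⟨fun a ha b => by
      rw [Subgroup.mem_center_iff.mp (hcen ha) b, mul_inv_cancel_right]; exact ha⟩
    have hcyc : IsCyclic ((Q : Subgroup G) ⧸ F') := isCyclic_of_prime_card (p := 3) (hi3 ▸ rfl : Nat.card ((Q : Subgroup G) ⧸ F') = 3)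
    exact MonoidHom.isMulCommutative_of_isCyclic_of_ker_le_center (QuotientGroup.mk' F') (by simpa using hcen)
  have hB4 : 4 * (∑ c : Cq, w (x c)) ≤ W * (Nat.card (Q : Subgroup G) + 3 * Nat.card F') := by
    refine le_trans (b := W * ((∑ c : Cq, (fib c).card) + 3 * ∑ c : Cq, ((fib c).filter fun a => a ∈ F).card)) ?_
      (Nat.mul_le_mul_left _ (Nat.add_le_add hfibsum.1 (Nat.mul_le_mul_left _ hfibsum.2)))
    rw [Finset.mul_sum, Finset.mul_sum, ← Finset.sum_add_distrib, Finset.mul_sum]
    refine Finset.sum_le_sum fun c _ => ?_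
    obtain ⟨a, ha, hwa, hin, hout⟩ := hclass c
    have := hwW c
    by_cases h : a ∈ F
    · obtain ⟨h1, h2⟩ := hin h
      nlinarith
    · rcases hout h with ⟨h1, h2⟩ | ⟨h1, -⟩
      · nlinarith
      exfalso
      simp only [F, Set.mem_ofPred_eq, not_forall, exists_prop] at h
      obtain ⟨b, hb, hba⟩ := h
      obtain ⟨g, hg⟩ := isConj_iff.mp (ConjClasses.mk_eq_mk_iff_isConj.mp (congrArg Subtype.val hb).symm :
        IsConj (a : G) b)
      obtain ⟨n, hn, hne⟩ := hconjN a (hwa.trans h1) g
      rw [hg] at hne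
      have hz : ∀ c : (Q : Subgroup G), c ∈ Subgroup.center (Q : Subgroup G) := fun c =>
        Subgroup.mem_center_iff.mpr fun d => hab.is_comm.comm d c
      obtain ⟨m, hmN, hmQ, hmab⟩ := hburn a b (hz a) (hz b) n hn hne.symm
      apply hba
      have hmo := odd_orderOf_of_mem hNodd hmN
      let a1 : (Q : Subgroup G) := ⟨m * a * m⁻¹, (Subgroup.mem_normalizer_iff.mp hmQ _).mp a.2⟩
      have hn' : F'.Normal := ⟨fun u hu v => by
        rw [Subgroup.mem_center_iff.mp (hcen hu) v, mul_inv_cancel_right]; exact hu⟩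
      let π' := QuotientGroup.mk' F'
      let a2 : (Q : Subgroup G) := ⟨m * (a1 : G) * m⁻¹, (Subgroup.mem_normalizer_iff.mp hmQ _).mp a1.2⟩
      have h2q : ∀ u v : (Q : Subgroup G), π' u = π' v → ∀ (hu : m * (u : G) * m⁻¹ ∈ (Q : Subgroup G)) (hv : m * (v : G) * m⁻¹ ∈ (Q : Subgroup G)),
          π' ⟨_, hu⟩ = π' ⟨_, hv⟩ := by
        intro u v huv hu hv
        rw [QuotientGroup.mk'_apply, QuotientGroup.mk'_apply, QuotientGroup.eq] at huv ⊢
        convert huv using 1
        refine Subtype.ext ?_
        have hf := hfix _ huv m hmQ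
        push_cast at hf ⊢
        rw [← hf]; group
      -- `u = a⁻¹ a1` lies in `F'`
      have hu : a⁻¹ * a1 ∈ F' := by
        by_contra hu
        -- iterate the exchange
        have hthree' : ∀ u : (Q : Subgroup G) ⧸ F', u ^ 3 = 1 := fun u => by
          have := pow_card_eq_one' (G := (Q : Subgroup G) ⧸ F') (x := u)
          rwa [show Nat.card ((Q : Subgroup G) ⧸ F') = 3 from hi3] at this
        have hP : π' a ≠ 1 := by
          intro e
          rw [QuotientGroup.mk'_apply, QuotientGroup.eq_one_iff] at e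
          apply hu
          have := hfix _ e m hmQ
          have e1 : a1 = a := Subtype.ext this
          rw [e1, inv_mul_cancel]; exact one_mem _
        obtain ⟨e, he, he2⟩ : ∃ e : ℕ, e < 3 ∧ π' a1 = π' a ^ e := by
          have hcy : ∀ z : (Q : Subgroup G) ⧸ F', z ∈ Subgroup.zpowers (π' a) := fun z =>
            mem_zpowers_of_prime_card (p := 3) (hi3 ▸ rfl) hP
          obtain ⟨e, he⟩ := (mem_powers_iff_mem_zpowers).mpr (hcy (π' a1))
          exact ⟨e % 3, Nat.mod_lt _ (by norm_num), by rw [← he]; exact pow_eq_pow_mod e (hthree' _)⟩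
        interval_cases e
        · rw [pow_zero, QuotientGroup.mk'_apply, QuotientGroup.eq_one_iff] at he2
          apply hP
          have := hfix _ he2 m⁻¹ (inv_mem hmQ)
          have e1 : a = a1 := Subtype.ext (by rw [← this]; simp [a1, mul_assoc])
          rw [QuotientGroup.mk'_apply, QuotientGroup.eq_one_iff, e1]; exact he2
        · rw [pow_one, eq_comm, QuotientGroup.mk'_apply, QuotientGroup.mk'_apply, QuotientGroup.eq] at he2
          exact hu he2
        · -- `m` inverts modulo `F'`, so `m ^ 2` fixes and so does `m`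
          have h1' := hfix
          have e2 : π' a2 = π' a := by
            have hsq : π' a1 = π' (a ^ 2) := by rw [map_pow]; exact he2
            have := h2q a1 (a ^ 2) hsq a2.2 ((Subgroup.mem_normalizer_iff.mp hmQ _).mp (a ^ 2).2)
            rw [show a2 = ⟨m * (a1 : G) * m⁻¹, a2.2⟩ from rfl, this,
              show (⟨m * ((a ^ 2 : (Q : Subgroup G)) : G) * m⁻¹, (Subgroup.mem_normalizer_iff.mp hmQ _).mp (a ^ 2).2⟩ : (Q : Subgroup G)) = a1 ^ 2 from
                Subtype.ext (by simp only [a1, SubmonoidClass.coe_pow, conj_pow]), map_pow, he2, ← pow_mul,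
              pow_eq_pow_mod (2 * 2) (hthree' _), pow_one]
          have hiter : ∀ (k : ℕ) (hk : m ^ (2 * k) * (a : G) * (m ^ (2 * k))⁻¹ ∈ (Q : Subgroup G)), π' ⟨_, hk⟩ = π' a := by
            intro k
            induction k with
            | zero => intro hk; exact congrArg π' (Subtype.ext (by simp))
            | succ k ih =>
              intro hk
              have hmem := (Subgroup.mem_normalizer_iff.mp (pow_mem hmQ (2 * k)) (a : G)).mp a.2
              have hmem1 := (Subgroup.mem_normalizer_iff.mp hmQ _).mp hmem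
              have i1 := h2q ⟨_, hmem⟩ a (ih hmem) hmem1 a1.2
              have i2 := h2q ⟨_, hmem1⟩ a1 i1 ((Subgroup.mem_normalizer_iff.mp hmQ _).mp hmem1) a2.2
              rw [← e2]
              convert i2 using 2
              refine Subtype.ext ?_
              simp only [show 2 * (k + 1) = (2 * k + 1) + 1 by ring, pow_succ']
              group
          obtain ⟨l, hl⟩ := hmo
          have hlast := hiter (l + 1) ((Subgroup.mem_normalizer_iff.mp (pow_mem hmQ _) (a : G)).mp a.2)
          have hm1 : m ^ (2 * (l + 1)) = m := by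
            rw [show 2 * (l + 1) = orderOf m + 1 by omega, pow_succ, pow_orderOf_eq_one, one_mul]
          rw [show (⟨_, (Subgroup.mem_normalizer_iff.mp (pow_mem hmQ (2 * (l + 1))) (a : G)).mp a.2⟩ : (Q : Subgroup G)) = a1 from
            Subtype.ext (by simp [a1, hm1])] at hlast
          exact hu (by
            rw [eq_comm, QuotientGroup.mk'_apply, QuotientGroup.mk'_apply, QuotientGroup.eq] at hlast
            exact hlast)
      -- `m` is a product of a `3`-element and a `3'`-element
      set u := a⁻¹ * a1 with hudef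
      have hit : ∀ k : ℕ, m ^ k * (a : G) * (m ^ k)⁻¹ = (a : G) * (u : G) ^ k := by
        intro k
        induction k with
        | zero => simp
        | succ k ih =>
          have hfu : m * (u : G) * m⁻¹ = u := hfix u hu m hmQ
          have hb1 : m * (a : G) * m⁻¹ = (a : G) * u := by simp [u, a1]
          calc m ^ (k + 1) * (a : G) * (m ^ (k + 1))⁻¹ = m * (m ^ k * a * (m ^ k)⁻¹) * m⁻¹ := by rw [pow_succ']; group
            _ = (m * a * m⁻¹) * (m * (u : G) * m⁻¹) ^ k := by rw [ih, conj_pow]; group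
            _ = a * (u : G) ^ (k + 1) := by rw [hfu, hb1, pow_succ', mul_assoc]
      obtain ⟨e, l, hl, hml⟩ := Nat.exists_eq_pow_mul_and_not_dvd (orderOf_pos m).ne' q hqp.ne_one
      have hmlQ : m ^ l ∈ (Q : Subgroup G) := by
        have hp : IsPGroup q (Subgroup.zpowers (m ^ l)) := by
          refine IsPGroup.of_card (n := e) ?_
          rw [Nat.card_zpowers, orderOf_pow_of_dvd (fun h0 => hl (by rw [h0]; exact dvd_zero _)) (hml ▸ dvd_mul_left _ _), hml,
            Nat.mul_div_cancel _ (Nat.pos_of_ne_zero fun h0 => hl (by rw [h0]; exact dvd_zero _))]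
        have hsup := Q.2.to_sup_of_normal_left' hp (Subgroup.zpowers_le.mpr (pow_mem hmQ l))
        exact (Q.3 hsup le_sup_left).le (Subgroup.mem_sup_right (Subgroup.mem_zpowers _))
      have hul : (u : G) ^ l = 1 := by
        have h3 := hit l
        rw [show m ^ l * (a : G) = a * m ^ l from congrArg Subtype.val (hab.is_comm.comm (⟨m ^ l, hmlQ⟩ : (Q : Subgroup G)) a),
          mul_inv_cancel_right] at h3
        simpa using h3.symm
      have hu1 : (u : G) = 1 := by
        obtain ⟨i, hi⟩ := (IsPGroup.iff_orderOf (p := q)).mp Q.2 u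
        rw [← Subgroup.orderOf_coe] at hi
        exact orderOf_eq_one_iff.mp (Nat.eq_one_of_dvd_coprimes (Nat.Coprime.pow_left i (hqp.coprime_iff_not_dvd.mpr hl))
          hi.dvd (orderOf_dvd_of_pow_eq_one hul))
      have h3 := hit 1
      rw [pow_one, pow_one, hu1, mul_one, hmab] at h3
      exact Subtype.ext h3
  have h3 : 3 * Nat.card F' ≤ Nat.card (Q : Subgroup G) := by rw [← hidx, hi3, mul_comm]
  nlinarith [Nat.mul_le_mul_left W h3]

end Odd


/-- Let π be a finite set of primes containing 2 and G a finite group. Write k_π(G) for the number of conjugacy classes of G consisting of π-elements (elements all of whose order's prime divisors lie in π) and |G|_π for the π-part of the order of G. If k_π(G) > |G|_π/2, then G has a normal π-complement (a normal subgroup of order prime to π whose index is a π-number) and an abelian Hall subgroup for the set of odd primes in π. -/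
theorem result {G : Type*} [Group G] [Finite G] (π : Finset ℕ) (hπ : ∀ r ∈ π, r.Prime) (h2 : 2 ∈ π)
    (hk : π.prod (fun r => r ^ (Nat.card G).factorization r) < 2 * Nat.card {c : ConjClasses G // ∀ x ∈ c.carrier, ∀ r : ℕ, r.Prime → r ∣ orderOf x → r ∈ π}) :
    (∃ N : Subgroup G, N.Normal ∧ (∀ r : ℕ, r.Prime → r ∣ Nat.card ↥N → r ∉ π) ∧ ∀ r : ℕ, r.Prime → r ∣ N.index → r ∈ π) ∧ ∃ H : Subgroup G, Cfsg.IsPiHall ((↑π : Set ℕ) \ {2}) H ∧ IsMulCommutative ↥H := by
  classical
  have hk' : π.prod (fun r => r ^ (Nat.card G).factorization r) < 2 * ClassCount.piClassCount π G := hk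
  -- the normal 2-complement
  let P : Sylow 2 G := default
  have h2c : Cfsg.HasNormalPComplement 2 G := by
    refine ClassCount.hasNormalTwoComplement_of_many_classes P ?_
    rw [← Finset.mul_prod_erase π _ h2, ← P.card_eq_multiplicity] at hk'
    refine Nat.lt_of_mul_lt_mul_right (a := (π.erase 2).prod (fun r => r ^ (Nat.card G).factorization r)) ?_
    rw [mul_assoc]
    exact lt_of_lt_of_le hk' (Nat.mul_le_mul_left _ (ClassCount.piClassCount_le_mul_erase hπ h2))
  obtain ⟨P2, N, hN, hc⟩ := h2c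
  have hNidx : N.index = 2 ^ (Nat.card G).factorization 2 := by rw [hc.symm.index_eq_card, P2.card_eq_multiplicity]
  have hNodd : Odd (Nat.card N) := by
    have h := P2.not_dvd_index
    rw [hc.index_eq_card] at h
    exact Nat.odd_iff.mpr (Nat.two_dvd_ne_zero.mp h)
  have key : ∀ q ∈ π.erase 2, ∃ (Q : Sylow q G) (M : Subgroup G), M.Normal ∧ M.IsComplement' (Q : Subgroup G) ∧
      IsMulCommutative (Q : Subgroup G) := by
    intro q hq
    obtain ⟨hq2, hqπ⟩ := Finset.mem_erase.mp hq
    have := Fact.mk (hπ q hqπ)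
    obtain ⟨hab, hNC⟩ := odd_prime_step π hπ h2 hk' hNodd hNidx hqπ hq2 (default : Sylow q G)
    exact ⟨_, _, inferInstance, MonoidHom.ker_transferSylow_isComplement' _ hNC, hab⟩
  choose Q M0 hM0 hcM hab using key
  have step : ∀ s : Finset ℕ, s ⊆ π.erase 2 → ∃ M : Subgroup G, M.Normal ∧ (∀ q ∈ s, ¬ q ∣ Nat.card M) ∧
      (∀ r : ℕ, r.Prime → r ∣ M.index → r ∈ s) ∧ commutator G ≤ M := by
    intro s hs
    induction s using Finset.induction with
    | empty => exact ⟨⊤, inferInstance, by simp, fun r hr hd => by simp [hr.ne_one] at hd, le_top⟩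
    | @insert q s hqs ih =>
      obtain ⟨M, hM, h1, h2', h3⟩ := ih fun x hx => hs (Finset.mem_insert_of_mem hx)
      have hqπ : q ∈ π.erase 2 := hs (Finset.mem_insert_self _ _)
      have := Fact.mk (hπ q (Finset.mem_of_mem_erase hqπ))
      have hq := hM0 q hqπ
      refine ⟨M ⊓ M0 q hqπ, inferInstance, ?_, ?_, le_inf h3 ?_⟩
      · intro t ht hd
        rcases Finset.mem_insert.mp ht with rfl | ht
        · apply (Q t hqπ).not_dvd_index
          rw [(hcM t hqπ).index_eq_card]
          exact hd.trans (Subgroup.card_dvd_of_le inf_le_right)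
        · exact h1 t ht (hd.trans (Subgroup.card_dvd_of_le inf_le_left))
      · intro r hr hd
        rw [← Subgroup.relIndex_mul_index (inf_le_left : M ⊓ M0 q hqπ ≤ M), inf_comm,
          Subgroup.inf_relIndex_right] at hd
        rcases hr.dvd_mul.mp hd with hd | hd
        · have hd2 := hd.trans (Subgroup.relIndex_dvd_index_of_normal (M0 q hqπ) M)
          rw [(hcM q hqπ).symm.index_eq_card] at hd2
          obtain ⟨k, hk2⟩ := (IsPGroup.iff_card).mp (Q q hqπ).2
          rw [hk2] at hd2
          exact Finset.mem_insert.mpr (Or.inl ((Nat.prime_dvd_prime_iff_eq hr Fact.out).mp (hr.dvd_of_dvd_pow hd2)))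
        · exact Finset.mem_insert_of_mem (h2' r hr hd)
      · rw [commutator_eq_closure, Subgroup.closure_le]
        rintro _ ⟨a, b, rfl⟩
        obtain ⟨⟨n, u⟩, rfl⟩ := (hcM q hqπ).2 a
        obtain ⟨⟨m, v⟩, rfl⟩ := (hcM q hqπ).2 b
        have := hab q hqπ
        rw [SetLike.mem_coe, ← QuotientGroup.eq_one_iff, ← QuotientGroup.mk'_apply, map_commutatorElement,
          commutatorElement_eq_one_iff_mul_comm]
        simp only [QuotientGroup.mk'_apply, QuotientGroup.mk_mul, (QuotientGroup.eq_one_iff (n : G)).mpr n.2,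
          (QuotientGroup.eq_one_iff (m : G)).mpr m.2, one_mul]
        rw [← QuotientGroup.mk_mul, ← QuotientGroup.mk_mul, ← Subgroup.coe_mul, ← Subgroup.coe_mul, mul_comm']
  obtain ⟨M', hM', hm1, hm2, hm3⟩ := step (π.erase 2) subset_rfl
  set M := M' ⊓ N with hMdef
  have hrel : ∀ r : ℕ, r.Prime → r ∣ M.relIndex N → r ∈ π.erase 2 := fun r hr hd => by
    rw [hMdef, Subgroup.inf_relIndex_right] at hd
    exact hm2 r hr (hd.trans (Subgroup.relIndex_dvd_index_of_normal M' N))
  have htwo : ∀ r : ℕ, r.Prime → r ∣ N.index → r = 2 := fun r hr hd => by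
    rw [hNidx] at hd; exact (Nat.prime_dvd_prime_iff_eq hr Nat.prime_two).mp (hr.dvd_of_dvd_pow hd)
  have hMcard : ∀ r : ℕ, r.Prime → r ∣ Nat.card M → r ∉ π := fun r hr hd hrπ => by
    rcases eq_or_ne r 2 with rfl | hr2
    · exact (Nat.not_even_iff_odd.mpr hNodd) (even_iff_two_dvd.mpr (hd.trans (Subgroup.card_dvd_of_le inf_le_right)))
    · exact hm1 r (Finset.mem_erase.mpr ⟨hr2, hrπ⟩) (hd.trans (Subgroup.card_dvd_of_le inf_le_left))
  refine ⟨⟨M, inferInstance, hMcard, fun r hr hd => ?_⟩, ?_⟩
  · rw [← Subgroup.relIndex_mul_index (inf_le_right : M ≤ N)] at hd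
    rcases hr.dvd_mul.mp hd with h | h
    · exact Finset.mem_of_mem_erase (hrel r hr h)
    · exact htwo r hr h ▸ h2
  have hcop : Nat.Coprime (Nat.card (M.subgroupOf N)) (M.subgroupOf N).index := by
    rw [Nat.card_congr (Subgroup.subgroupOfEquivOfLe (inf_le_right : M ≤ N)).toEquiv]
    exact Nat.coprime_of_dvd fun r hr ha hb => hMcard r hr ha (Finset.mem_of_mem_erase (hrel r hr hb))
  obtain ⟨H0, hH0⟩ := Subgroup.exists_right_complement'_of_coprime hcop
  set H := H0.map N.subtype with hH
  have hHcard : Nat.card H = M.relIndex N := by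
    rw [hH, Subgroup.card_map_of_injective N.subtype_injective, ← hH0.symm.index_eq_card]; rfl
  refine ⟨H, ⟨fun r hr hd => ?_, fun r hr hrπ hd => ?_⟩, ⟨⟨fun a b => ?_⟩⟩⟩
  · obtain ⟨h1, h2''⟩ := Finset.mem_erase.mp (hrel r hr (hHcard ▸ hd))
    exact ⟨h2'', h1⟩
  · have h4 : H.index = Nat.card M * N.index := by
      have e1 := Subgroup.card_mul_index H
      have e2 := Subgroup.card_mul_index N
      have e3 := hH0.card_mul_card
      rw [Nat.card_congr (Subgroup.subgroupOfEquivOfLe (inf_le_right : M ≤ N)).toEquiv,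
        ← Subgroup.card_map_of_injective N.subtype_injective, ← hH] at e3
      refine Nat.eq_of_mul_eq_mul_left (Nat.card_pos (α := H)) ?_
      rw [e1, ← e2, ← e3]; ring
    rw [h4] at hd
    rcases hr.dvd_mul.mp hd with h | h
    · exact hMcard r hr h hrπ.1
    · exact hrπ.2 (htwo r hr h)
  · have hmem : ⁅(a : G), (b : G)⁆ ∈ M' :=
      hm3 (Subgroup.commutator_mem_commutator (Subgroup.mem_top _) (Subgroup.mem_top _))
    obtain ⟨a0, ha0, ha⟩ := a.2
    obtain ⟨b0, hb0, hb⟩ := b.2
    have hd : ⁅a0, b0⁆ ∈ M.subgroupOf N ⊓ H0 := by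
      refine ⟨⟨?_, (⁅a0, b0⁆).2⟩, ?_⟩
      · show ((⁅a0, b0⁆ : N) : G) ∈ M'
        rw [← ha, ← hb] at hmem
        simpa [commutatorElement_def] using hmem
      · rw [commutatorElement_def]
        exact H0.mul_mem (H0.mul_mem (H0.mul_mem ha0 hb0) (H0.inv_mem ha0)) (H0.inv_mem hb0)
    rw [disjoint_iff.mp hH0.disjoint, Subgroup.mem_bot, commutatorElement_eq_one_iff_mul_comm] at hd
    refine Subtype.ext ?_
    show (a : G) * b = b * a
    rw [← ha, ← hb, ← map_mul, hd, map_mul]

end Cfsg.Agent.S3898
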