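import Cfsg.Statements.S3899
import Cfsg.Agent.Lib.ClassCount.Basic

set_option autoImplicit false
open Cfsg
open scoped commutatorElement

namespace Cfsg.Agent.S3899

/-- Let π be a finite non-empty set of odd primes with smallest member p and G a finite group. Write k_π(G) for the number of conjugacy classes of G consisting of π-elements (elements all of whose order's prime divisors lie in π) and |G|_π for the π-part of the order of G. If k_π(G) > (p + 1)|G|_π/(2p), then G has a normal π-complement (a normal subgroup of order prime to π whose index is a π-number) and an abelian Hall π-subgroup. -/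
theorem result {G : Type*} [Group G] [Finite G] (π : Finset ℕ) (hπ : ∀ r ∈ π, r.Prime) (h2 : 2 ∉ π) (p : ℕ) (hp : p ∈ π)
    (hmin : ∀ r ∈ π, p ≤ r) (hk : (p + 1) * π.prod (fun r => r ^ (Nat.card G).factorization r) < 2 * p * Nat.card {c : ConjClasses G // ∀ x ∈ c.carrier, ∀ r : ℕ, r.Prime → r ∣ orderOf x → r ∈ π}) :
    (∃ N : Subgroup G, N.Normal ∧ (∀ r : ℕ, r.Prime → r ∣ Nat.card ↥N → r ∉ π) ∧ ∀ r : ℕ, r.Prime → r ∣ N.index → r ∈ π) ∧ ∃ H : Subgroup G, Cfsg.IsPiHall (↑π : Set ℕ) H ∧ IsMulCommutative ↥H := by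
  classical
  have key : ∀ q ∈ π, ∃ (P : Sylow q G) (N : Subgroup G), N.Normal ∧ N.IsComplement' (P : Subgroup G) ∧
      IsMulCommutative (P : Subgroup G) := by
    intro q hq
    have := Fact.mk (hπ q hq)
    let P : Sylow q G := default
    have hb : ClassCount.piClassCount π G ≤ _ := ClassCount.piClassCount_le_mul_erase hπ hq
    have h2 : (q + 1) * Nat.card (P : Subgroup G) < 2 * q * ClassCount.piClassCount {q} G := by
      rw [← Finset.mul_prod_erase π _ hq, ← P.card_eq_multiplicity] at hk
      have h3 : (p + 1) * Nat.card (P : Subgroup G) < 2 * p * ClassCount.piClassCount {q} G := by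
        refine Nat.lt_of_mul_lt_mul_right (a := (π.erase q).prod (fun r => r ^ (Nat.card G).factorization r)) ?_
        rw [mul_assoc, mul_assoc (2 * p)]
        exact lt_of_lt_of_le hk (Nat.mul_le_mul_left _ hb)
      have hpq := hmin q hq
      have hp0 := (hπ p hp).pos
      refine Nat.lt_of_mul_lt_mul_left (a := p) ?_
      calc p * ((q + 1) * Nat.card (P : Subgroup G)) ≤ q * ((p + 1) * Nat.card (P : Subgroup G)) := by nlinarith
        _ < q * (2 * p * ClassCount.piClassCount {q} G) := Nat.mul_lt_mul_of_pos_left h3 (lt_of_lt_of_le hp0 hpq)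
        _ = p * (2 * q * ClassCount.piClassCount {q} G) := by ring
    obtain ⟨hab, N, hN, hc⟩ := ClassCount.hasNormalPComplement_of_many_classes P h2
    exact ⟨P, N, hN, hc, hab⟩
  choose P N hN hc hab using key
  have step : ∀ s : Finset ℕ, s ⊆ π → ∃ M : Subgroup G, M.Normal ∧ (∀ q ∈ s, Nat.Coprime q (Nat.card M)) ∧
      (∀ r : ℕ, r.Prime → r ∣ M.index → r ∈ s) ∧ commutator G ≤ M := by
    intro s hs
    induction s using Finset.induction with
    | empty => exact ⟨⊤, inferInstance, by simp, fun r hr hd => by simp [hr.ne_one] at hd, le_top⟩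
    | @insert q s hqs ih =>
      obtain ⟨M, hM, h1, h2, h3⟩ := ih fun x hx => hs (Finset.mem_insert_of_mem hx)
      have hqπ : q ∈ π := hs (Finset.mem_insert_self _ _)
      have := Fact.mk (hπ q hqπ)
      have hq := hN q hqπ
      refine ⟨M ⊓ N q hqπ, inferInstance, ?_, ?_, le_inf h3 ?_⟩
      · intro t ht
        rcases Finset.mem_insert.mp ht with rfl | ht
        · refine Nat.Coprime.coprime_dvd_right (Subgroup.card_dvd_of_le inf_le_right) ?_
          have h := (P t hqπ).card_coprime_index
          rw [(hc t hqπ).index_eq_card] at h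
          obtain ⟨k, hk⟩ := (IsPGroup.iff_card).mp (P t hqπ).2
          rw [hk] at h
          rcases Nat.eq_zero_or_pos k with rfl | hk0
          · exact (hπ t hqπ).coprime_iff_not_dvd.mpr fun hd => by
              have hi := (P t hqπ).not_dvd_index
              rw [(hc t hqπ).index_eq_card] at hi
              exact hi hd
          · exact (Nat.coprime_pow_left_iff hk0 _ _).mp h
        · exact (h1 t ht).coprime_dvd_right (Subgroup.card_dvd_of_le inf_le_left)
      · intro r hr hd
        rw [← Subgroup.relIndex_mul_index (inf_le_left : M ⊓ N q hqπ ≤ M), inf_comm,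
          Subgroup.inf_relIndex_right] at hd
        rcases hr.dvd_mul.mp hd with hd | hd
        · have hd2 := hd.trans (Subgroup.relIndex_dvd_index_of_normal (N q hqπ) M)
          rw [(hc q hqπ).symm.index_eq_card] at hd2
          obtain ⟨k, hk⟩ := (IsPGroup.iff_card).mp (P q hqπ).2
          rw [hk] at hd2
          exact Finset.mem_insert.mpr (Or.inl ((Nat.prime_dvd_prime_iff_eq hr (hπ q hqπ)).mp (hr.dvd_of_dvd_pow hd2)))
        · exact Finset.mem_insert_of_mem (h2 r hr hd)
      · rw [commutator_eq_closure, Subgroup.closure_le]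
        rintro _ ⟨a, b, rfl⟩
        obtain ⟨⟨n, u⟩, rfl⟩ := (hc q hqπ).2 a
        obtain ⟨⟨m, v⟩, rfl⟩ := (hc q hqπ).2 b
        have := hab q hqπ
        rw [SetLike.mem_coe, ← QuotientGroup.eq_one_iff, ← QuotientGroup.mk'_apply, map_commutatorElement,
          commutatorElement_eq_one_iff_mul_comm]
        simp only [QuotientGroup.mk'_apply, QuotientGroup.mk_mul, (QuotientGroup.eq_one_iff (n : G)).mpr n.2,
          (QuotientGroup.eq_one_iff (m : G)).mpr m.2, one_mul]
        rw [← QuotientGroup.mk_mul, ← QuotientGroup.mk_mul, ← Subgroup.coe_mul, ← Subgroup.coe_mul, mul_comm']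
  obtain ⟨M, hM, h1, h2', h3⟩ := step π subset_rfl
  have hMπ : ∀ r : ℕ, r.Prime → r ∣ Nat.card M → r ∉ π := fun r hr hd hrπ =>
    hr.ne_one (Nat.eq_one_of_dvd_coprimes (h1 r hrπ) dvd_rfl hd)
  refine ⟨⟨M, hM, hMπ, h2'⟩, ?_⟩
  obtain ⟨H, hH⟩ := Subgroup.exists_right_complement'_of_coprime (N := M)
    (Nat.coprime_of_dvd fun r hr ha hb => hMπ r hr ha (h2' r hr hb))
  refine ⟨H, ⟨fun r hr hd => ?_, fun r hr hrπ hd => ?_⟩, ⟨⟨fun a b => ?_⟩⟩⟩
  · rw [← hH.symm.index_eq_card] at hd
    exact Finset.mem_coe.mpr (h2' r hr hd)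
  · rw [hH.index_eq_card] at hd
    exact hMπ r hr hd (Finset.mem_coe.mp hrπ)
  · have hmem : ⁅(a : G), (b : G)⁆ ∈ M ⊓ H :=
      ⟨h3 (Subgroup.commutator_mem_commutator (Subgroup.mem_top _) (Subgroup.mem_top _)), (⁅a, b⁆).2⟩
    rw [(disjoint_iff.mp hH.disjoint), Subgroup.mem_bot, commutatorElement_eq_one_iff_mul_comm] at hmem
    exact Subtype.ext hmem

end Cfsg.Agent.S3899
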