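import Cfsg.Statements.S3901
import Cfsg.Agent.Lib.Transfer.Frobenius
import Cfsg.Agent.Lib.Coprime.Commutator
import Cfsg.Agent.Lib.CharInt.Burnside
import Mathlib.GroupTheory.Sylow

set_option autoImplicit false
open Cfsg

namespace Cfsg.Agent.S3901

open Subgroup

variable {G : Type*} [Group G] [Finite G]

section
variable {N : Subgroup G} (h : ∀ x : G, x ∉ N → IsPrimePow (orderOf x))

include h in
/-- Outside `N` nothing commutes with a nontrivial element of coprime order. -/
theorem eq_one_of_commute {x y : G} (hx : x ∉ N) (hc : Commute x y)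
    (hco : (orderOf x).Coprime (orderOf y)) : y = 1 := by
  by_contra hy
  have hx1 : orderOf x ≠ 1 := fun e => hx (by rw [orderOf_eq_one_iff.1 e]; exact one_mem _)
  have hy1 : orderOf y ≠ 1 := fun e => hy (orderOf_eq_one_iff.1 e)
  have hxy : x * y ∉ N := fun hm => hx (by
    have hp : (x * y) ^ orderOf y = x ^ orderOf y := by
      rw [hc.mul_pow, pow_orderOf_eq_one, mul_one]
    obtain ⟨m, hm'⟩ := exists_pow_eq_self_of_coprime (x := x) hco.symm
    rw [← hm', ← hp]
    exact pow_mem (pow_mem hm _) _)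
  have hpp := h _ hxy
  rw [hc.orderOf_mul_eq_mul_orderOf_of_coprime hco] at hpp
  rcases (isPrimePow_nat_iff _).1 hpp with ⟨l, k, hl, -, hk⟩
  obtain ⟨a, -, ha⟩ := (Nat.dvd_prime_pow hl).1 (hk ▸ dvd_mul_right (orderOf x) (orderOf y))
  obtain ⟨b, -, hb⟩ := (Nat.dvd_prime_pow hl).1 (hk ▸ dvd_mul_left (orderOf y) (orderOf x))
  rw [ha, hb] at hco
  have ha0 : a ≠ 0 := fun e => hx1 (by rw [ha, e, pow_zero])
  have hb0 : b ≠ 0 := fun e => hy1 (by rw [hb, e, pow_zero])
  rw [Nat.coprime_pow_left_iff (Nat.pos_of_ne_zero ha0),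
    Nat.coprime_pow_right_iff (Nat.pos_of_ne_zero hb0), Nat.coprime_self] at hco
  exact hl.ne_one hco

end

/-- A Frobenius group acting on `V` with both kernel and complement fixed-point-free. -/
theorem eq_bot_of_frobenius_fpf {V P : Subgroup G} [IsMulCommutative V] {x : G} {r : ℕ}
    (hr : r.Prime) (hxr : x ^ r = 1) (hxV : x ∈ normalizer (V : Set G))
    (hPV : P ≤ normalizer (V : Set G)) (hxP : x ∈ normalizer (P : Set G))
    (hCP : ∀ g ∈ P, Commute g x → g = 1)
    (hfixP : ∀ v ∈ V, (∀ g ∈ P, Commute g v) → v = 1) (hfixx : ∀ v ∈ V, Commute x v → v = 1)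
    (hcop : (Nat.card P).Coprime (Nat.card V)) : V = ⊥ := by
  classical
  letI : CommGroup V := { (inferInstance : Group V) with mul_comm := mul_comm' }
  haveI := Fintype.ofFinite P
  let φ : normalizer (V : Set G) →* MulAut V := normalizerMonoidHom V
  have hφ : ∀ (g : normalizer (V : Set G)) (v : V), ((φ g v : V) : G) = g * v * (g : G)⁻¹ :=
    fun g v => rfl
  let X : normalizer (V : Set G) := ⟨x, hxV⟩
  let e : P → normalizer (V : Set G) := fun g => ⟨g, hPV g.2⟩
  have hX : X ^ r = 1 := Subtype.ext (by simpa [X] using hxr)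
  -- norm over `P`
  have hnP : ∀ w : V, ∏ g : P, φ (e g) w = 1 := by
    intro w
    refine Subtype.ext (hfixP _ (SetLike.coe_mem _) fun a ha => ?_)
    have h1 : φ (e ⟨a, ha⟩) (∏ g : P, φ (e g) w) = ∏ g : P, φ (e g) w := by
      rw [map_prod]
      refine Fintype.prod_equiv (Equiv.mulLeft ⟨a, ha⟩) _ _ fun g => ?_
      rw [← MulAut.mul_apply, ← map_mul]
      rfl
    have h2 := congrArg Subtype.val h1
    rw [hφ] at h2
    exact mul_inv_eq_iff_eq_mul.1 h2
  -- norm over `⟨x⟩`
  have hnx : ∀ w : V, ∏ i ∈ Finset.range r, φ (X ^ i) w = 1 := by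
    intro w
    refine Subtype.ext (hfixx _ (SetLike.coe_mem _) ?_)
    have h1 : φ X (∏ i ∈ Finset.range r, φ (X ^ i) w) = ∏ i ∈ Finset.range r, φ (X ^ i) w := by
      rw [map_prod]
      have h2 : ∀ i, φ X (φ (X ^ i) w) = φ (X ^ (i + 1)) w := fun i => by
        rw [← MulAut.mul_apply, ← map_mul, pow_succ']
      simp only [h2]
      have h3 := Finset.prod_range_succ' (fun i => φ (X ^ i) w) r
      rw [Finset.prod_range_succ] at h3
      simp only [hX, pow_zero] at h3
      exact (mul_right_cancel h3).symm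
    have h2 := congrArg Subtype.val h1
    rw [hφ] at h2
    exact mul_inv_eq_iff_eq_mul.1 h2
  rw [eq_bot_iff]
  intro v hv
  have hT : ∀ g : P, ∏ i ∈ Finset.range r, φ (e g * X ^ i * (e g)⁻¹) ⟨v, hv⟩ = 1 := by
    intro g
    have := congrArg (φ (e g)) (hnx (φ (e g)⁻¹ ⟨v, hv⟩))
    rw [map_prod, map_one] at this
    simpa only [← MulAut.mul_apply, ← map_mul, mul_assoc] using this
  have hcomm : ∏ i ∈ Finset.range r, ∏ g : P, φ (e g * X ^ i * (e g)⁻¹) ⟨v, hv⟩ = 1 := by
    rw [Finset.prod_comm]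
    exact Finset.prod_eq_one fun g _ => hT g
  have hi : ∀ i ∈ Finset.range r, i ≠ 0 → ∏ g : P, φ (e g * X ^ i * (e g)⁻¹) ⟨v, hv⟩ = 1 := by
    intro i hi hi0
    have hxi : x ^ i ∈ normalizer (P : Set G) := pow_mem hxP i
    let f : P → P := fun g => ⟨g * (x ^ i * (g : G)⁻¹ * (x ^ i)⁻¹),
      mul_mem g.2 ((mem_normalizer_iff.1 hxi _).1 (inv_mem g.2))⟩
    have hf : Function.Bijective f := by
      refine Finite.injective_iff_bijective.1 fun a b hab => ?_
      have h1 : (a : G) * x ^ i * (a : G)⁻¹ = b * x ^ i * (b : G)⁻¹ := by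
        have h2 := congrArg Subtype.val hab
        simp only [f, ← mul_assoc] at h2
        exact mul_right_cancel h2
      have h2 : Commute ((b : G)⁻¹ * a) (x ^ i) := by
        show (b : G)⁻¹ * a * x ^ i = x ^ i * ((b : G)⁻¹ * a)
        calc (b : G)⁻¹ * a * x ^ i = (b : G)⁻¹ * (a * x ^ i * (a : G)⁻¹) * a := by group
          _ = _ := by rw [h1]; group
      have hcop : (orderOf x).Coprime i :=
        Nat.Coprime.coprime_dvd_left (orderOf_dvd_of_pow_eq_one hxr)
          ((hr.coprime_iff_not_dvd).2 fun hd =>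
            absurd (Nat.le_of_dvd (Nat.pos_of_ne_zero hi0) hd) (not_le.2 (Finset.mem_range.1 hi)))
      obtain ⟨m, hm⟩ := exists_pow_eq_self_of_coprime (x := x) hcop.symm
      have h3 : Commute ((b : G)⁻¹ * a) x := hm ▸ h2.pow_right m
      exact Subtype.ext (inv_mul_eq_one.1 (hCP _ (mul_mem (inv_mem b.2) a.2) h3)).symm
    rw [← hnP (φ (X ^ i) ⟨v, hv⟩)]
    refine Fintype.prod_bijective f hf _ _ fun g => ?_
    rw [← MulAut.mul_apply, ← map_mul]
    congr 2
    exact Subtype.ext (by simp [f, e, X, mul_assoc])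
  rw [Finset.prod_eq_single 0 hi
    (fun h0 => absurd (Finset.mem_range.2 hr.pos) h0)] at hcomm
  simp only [pow_zero, mul_one, mul_inv_cancel, map_one, MulAut.one_apply, Finset.prod_const,
    Finset.card_univ, ← Nat.card_eq_fintype_card] at hcomm
  have h1 : orderOf (⟨v, hv⟩ : V) ∣ Nat.card P := orderOf_dvd_of_pow_eq_one hcomm
  have h2 : orderOf (⟨v, hv⟩ : V) ∣ Nat.card V := orderOf_dvd_natCard _
  have h3 := orderOf_eq_one_iff.1 (Nat.eq_one_of_dvd_coprimes hcop h1 h2)
  exact congrArg Subtype.val h3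

theorem primePart {K : Subgroup G} {w : G} (hw : w ∈ K) {p : ℕ} [hp : Fact p.Prime] :
    ∃ m : ℕ, ¬ p ∣ m ∧ w ^ m ∈ K ∧ ∃ k, orderOf (w ^ m) = p ^ k := by
  refine ⟨ordCompl[p] (orderOf w), Nat.not_dvd_ordCompl hp.out (orderOf_pos w).ne', pow_mem hw _,
    (orderOf w).factorization p, ?_⟩
  rw [orderOf_pow, Nat.gcd_eq_right (Nat.ordCompl_dvd _ _),
    Nat.div_eq_of_eq_mul_left (Nat.pos_of_ne_zero (Nat.ne_of_gt (Nat.ordCompl_pos p (orderOf_pos w).ne')))
      (Nat.ordProj_mul_ordCompl_eq_self _ p).symm]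

theorem orderOf_eq_pow_of_mem {p : ℕ} [Fact p.Prime] {P : Subgroup G} (hP : IsPGroup p P) {g : G}
    (hg : g ∈ P) : ∃ k, orderOf g = p ^ k := by
  obtain ⟨k, hk⟩ := hP.exists_card_eq
  obtain ⟨i, -, hi⟩ := (Nat.dvd_prime_pow Fact.out).1 (hk ▸ P.orderOf_dvd_natCard hg)
  exact ⟨i, hi⟩

theorem coprime_of_pow {p r a b : ℕ} {g k : G} (hp : p.Prime) (hr : r.Prime) (hne : p ≠ r)
    (hg : orderOf g = p ^ a) (hk : orderOf k = r ^ b) : (orderOf g).Coprime (orderOf k) := by
  rw [hg, hk]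
  exact Nat.Coprime.pow a b ((Nat.coprime_primes hp hr).2 hne)

/-- No element of prime order of `G/N` normalises a nontrivial subgroup of another prime power. -/
theorem not_normalizes {N : Subgroup G} [hNn : N.Normal] (hns : ¬ Group.IsSolvable ↥N)
    (h : ∀ x : G, x ∉ N → IsPrimePow (orderOf x)) {p r : ℕ} [hp : Fact p.Prime] [hr : Fact r.Prime]
    (hpr : p ≠ r) {U : Subgroup (G ⧸ N)} (hU : IsPGroup p U) (hU1 : U ≠ ⊥) {η : G ⧸ N}
    (hη : η ∈ normalizer (U : Set (G ⧸ N))) (hor : orderOf η = r) : False := by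
  classical
  set π := QuotientGroup.mk' N with hπ
  have hker : ∀ g, π g = 1 ↔ g ∈ N := fun g => QuotientGroup.eq_one_iff g
  -- a third prime divides `|N|`
  obtain ⟨q, hq, hqN, hqp, hqr⟩ : ∃ q, q.Prime ∧ q ∣ Nat.card N ∧ q ≠ p ∧ q ≠ r := by
    by_contra hno
    push_neg at hno
    apply hns
    refine CharInt.isSolvable_of_card_eq hp.out hr.out (a := (Nat.card N).factorization p)
      (b := (Nat.card N).factorization r) ?_
    refine Nat.eq_of_factorization_eq Nat.card_pos.ne' (mul_ne_zero (pow_ne_zero _ hp.out.ne_zero)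
      (pow_ne_zero _ hr.out.ne_zero)) fun l => ?_
    rw [Nat.factorization_mul (pow_ne_zero _ hp.out.ne_zero) (pow_ne_zero _ hr.out.ne_zero),
      hp.out.factorization_pow, hr.out.factorization_pow, Finsupp.add_apply]
    by_cases hlp : l = p
    · subst hlp
      rw [Finsupp.single_eq_same, Finsupp.single_eq_of_ne hpr, add_zero]
    by_cases hlr : l = r
    · subst hlr
      rw [Finsupp.single_eq_same, Finsupp.single_eq_of_ne hlp, zero_add]
    rw [Finsupp.single_eq_of_ne hlp, Finsupp.single_eq_of_ne hlr, add_zero]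
    by_cases hl : l.Prime
    · exact Nat.factorization_eq_zero_of_not_dvd fun hd => hlr (hno l hl hd hlp)
    · exact Nat.factorization_eq_zero_of_not_prime _ hl
  haveI := Fact.mk hq
  obtain ⟨Q⟩ : Nonempty (Sylow q N) := inferInstance
  set Qm := (Q : Subgroup N).map N.subtype with hQm
  have hQp : IsPGroup q Qm := Q.2.map _
  set K := normalizer (Qm : Set G) with hK
  have hKN : K ⊔ N = ⊤ := Sylow.normalizer_sup_eq_top Q
  have hsurj : ∀ η : G ⧸ N, ∃ k ∈ K, π k = η := by
    intro η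
    obtain ⟨g, rfl⟩ := QuotientGroup.mk'_surjective N η
    have hg : g ∈ K ⊔ N := hKN ▸ mem_top g
    obtain ⟨k, hk, n, hn, rfl⟩ := mem_sup_of_normal_right.1 hg
    exact ⟨k, hk, by rw [map_mul, (hker n).2 hn, mul_one]⟩
  set J := U.comap π ⊓ K with hJ
  obtain ⟨P⟩ : Nonempty (Sylow p J) := inferInstance
  set Pm := (P : Subgroup J).map J.subtype with hPm
  have hPp : IsPGroup p Pm := P.2.map _
  have hPJ : Pm ≤ J := map_subtype_le _
  -- an element of `P` outside `N`
  obtain ⟨g₀, hg₀P, hg₀N⟩ : ∃ g ∈ Pm, g ∉ N := by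
    obtain ⟨⟨u, huU⟩, hu1'⟩ := ne_bot_iff_exists_ne_one.1 hU1
    have hu1 : u ≠ 1 := fun e => hu1' (Subtype.ext e)
    obtain ⟨w, hwK, hwu⟩ := hsurj u
    obtain ⟨m, hm, hwm, k, hk⟩ := primePart (K := J) (w := w)
      ⟨show π w ∈ U from hwu ▸ huU, hwK⟩ (p := p)
    have hwN : w ^ m ∉ N := fun hmem => by
      rw [← hker, map_pow, hwu] at hmem
      obtain ⟨l, hl⟩ := orderOf_eq_pow_of_mem hU huU
      have h1 := orderOf_dvd_of_pow_eq_one hmem
      rw [hl] at h1
      rcases l with _ | l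
      · exact hu1 (orderOf_eq_one_iff.1 hl)
      · exact hm ((dvd_pow_self p (Nat.succ_ne_zero l)).trans h1)
    have hz : IsPGroup p (zpowers (⟨w ^ m, hwm⟩ : J)) :=
      IsPGroup.of_card (n := k) (by rw [Nat.card_zpowers, orderOf_mk, hk])
    obtain ⟨S, hS⟩ := hz.exists_le_sylow
    obtain ⟨j, hj⟩ := MulAction.exists_smul_eq J S P
    refine ⟨(j : G) * w ^ m * (j : G)⁻¹, ⟨j * ⟨w ^ m, hwm⟩ * j⁻¹, ?_, rfl⟩, fun hmem => hwN ?_⟩
    · rw [← hj]
      show j * ⟨w ^ m, hwm⟩ * j⁻¹ ∈ ((j • S : Sylow p J) : Subgroup J)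
      rw [Sylow.coe_subgroup_smul]
      exact mem_map_of_mem _ (hS (mem_zpowers _))
    · have := hNn.conj_mem _ hmem (j : G)⁻¹
      simpa [mul_assoc] using this
  -- an element of order `r` outside `N` normalising `P`
  obtain ⟨y, hyP, hyK, hyN, hyU, a, hya⟩ : ∃ y, y ∈ normalizer (Pm : Set G) ∧ y ∈ K ∧ y ∉ N ∧
      π y ^ r ∈ U ∧ ∃ a, orderOf y = r ^ a := by
    obtain ⟨k, hkK, hkη⟩ := hsurj η
    have hkJ : k ∈ normalizer (J : Set G) := by
      refine inf_normalizer_le_normalizer_inf ⟨?_, le_normalizer hkK⟩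
      refine mem_normalizer_iff.2 fun g => ?_
      show π g ∈ U ↔ π (k * g * k⁻¹) ∈ U
      rw [map_mul, map_mul, map_inv, hkη]
      exact mem_normalizer_iff.1 hη _
    obtain ⟨c, hcJ, k', hk', hkk⟩ : ∃ c ∈ J, ∃ k', k' ∈ normalizer (Pm : Set G) ∧ k = c * k' := by
      let N' := J ⊔ zpowers k
      have hN' : N' ≤ normalizer (J : Set G) := sup_le le_normalizer (zpowers_le.2 hkJ)
      have hJN' : J ≤ N' := le_sup_left
      haveI : (J.subgroupOf N').Normal := Coprime.normal_subgroupOf_of_le_normalizer hN'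
      let e := (subgroupOfEquivOfLe hJN').symm
      let P' : Sylow p (J.subgroupOf N') := P.comapOfInjective e.symm.toMonoidHom e.symm.injective
        (by rw [MonoidHom.range_eq_top.2 e.symm.surjective]; exact le_top)
      have hsup := Sylow.normalizer_sup_eq_top P'
      have hk : (⟨k, mem_sup_right (mem_zpowers k)⟩ : N') ∈
          J.subgroupOf N' ⊔ normalizer (((P' : Subgroup _).map (J.subgroupOf N').subtype) : Set N') := by
        rw [sup_comm, hsup]; exact mem_top _
      obtain ⟨c, hc, k', hk', hck⟩ := mem_sup_of_normal_left.1 hk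
      refine ⟨c, hc, k', ?_, (congrArg Subtype.val hck).symm⟩
      have hmap : ((P' : Subgroup _).map (J.subgroupOf N').subtype).map N'.subtype = Pm := by
        ext g
        constructor
        · rintro ⟨_, ⟨z, hz, rfl⟩, rfl⟩
          exact ⟨e.symm z, hz, rfl⟩
        · rintro ⟨z, hz, rfl⟩
          exact ⟨_, ⟨e z, by show e.symm (e z) ∈ (P : Subgroup J); rwa [e.symm_apply_apply], rfl⟩, rfl⟩
      rw [← hmap]
      exact le_normalizer_map N'.subtype ⟨k', hk', rfl⟩
    obtain ⟨m, hm, hmem, a, ha⟩ := primePart (K := normalizer (Pm : Set G) ⊓ K) (w := k')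
      ⟨hk', by
        have : k' = c⁻¹ * k := by rw [hkk]; group
        rw [this]; exact K.mul_mem (K.inv_mem hcJ.2) hkK⟩ (p := r)
    have hη' : η = π c * π k' := by rw [← hkη, hkk, map_mul]
    have hpow : ∀ n, η ^ n * (π k' ^ n)⁻¹ ∈ U := by
      intro n
      induction n with
      | zero => simp
      | succ n ih =>
        have e : η ^ (n + 1) * (π k' ^ (n + 1))⁻¹ =
            η * (η ^ n * (π k' ^ n)⁻¹) * η⁻¹ * (η * (π k')⁻¹) := by
          rw [pow_succ' η, pow_succ (π k')]; group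
        rw [e]
        refine mul_mem ((mem_normalizer_iff.1 hη _).1 ih) ?_
        rw [hη', mul_inv_cancel_right]
        exact hcJ.1
    refine ⟨k' ^ m, hmem.1, hmem.2, fun hN => ?_, ?_, a, ha⟩
    swap
    · have h1 := hpow (m * r)
      rw [pow_mul', ← hor, pow_orderOf_eq_one, hor, one_pow, one_mul, inv_mem_iff, pow_mul] at h1
      rwa [map_pow]
    have h1 := hpow m
    rw [← map_pow π k', (hker _).2 hN, inv_one, mul_one] at h1
    obtain ⟨l, hl⟩ := orderOf_eq_pow_of_mem hU h1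
    have h2 : orderOf (η ^ m) = r := by
      rw [Nat.Coprime.orderOf_pow (by rw [hor]; exact (hr.out.coprime_iff_not_dvd).2 hm), hor]
    rw [h2] at hl
    rcases l with _ | l
    · exact hr.out.ne_one hl
    · exact hpr (((Nat.prime_dvd_prime_iff_eq hp.out hr.out).1 (hl ▸ dvd_pow_self p (Nat.succ_ne_zero l))))
  have hPcop : ∀ g ∈ Pm, ∀ w : G, (∃ b, orderOf w = r ^ b) → (orderOf g).Coprime (orderOf w) := by
    rintro g hg w ⟨b, hb⟩
    obtain ⟨l, hl⟩ := orderOf_eq_pow_of_mem hPp hg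
    exact coprime_of_pow hp.out hr.out hpr hl hb
  -- `y` has order `r`
  have hyr : y ^ r = 1 := by
    set z := y ^ r with hz
    have hzo : ∃ b, orderOf z = r ^ b := by
      obtain ⟨i, -, hi⟩ := (Nat.dvd_prime_pow hr.out).1 (hya ▸ orderOf_pow_dvd r : orderOf z ∣ r ^ a)
      exact ⟨i, hi⟩
    obtain ⟨b, hb⟩ := hzo
    have hzN : z ∈ N := by
      have h1 : π z ∈ U := by rw [hz, map_pow]; exact hyU
      obtain ⟨l, hl⟩ := orderOf_eq_pow_of_mem hU h1
      have h2 := orderOf_map_dvd π z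
      rw [hb, hl] at h2
      rw [← hker, ← orderOf_eq_one_iff, hl]
      exact Nat.eq_one_of_dvd_coprimes
        (Nat.Coprime.pow l b ((Nat.coprime_primes hp.out hr.out).2 hpr)) dvd_rfl h2
    have hA : zpowers z ≤ normalizer (Pm : Set G) := zpowers_le.2 (pow_mem hyP r)
    have hcop : (Nat.card (zpowers z)).Coprime (Nat.card Pm) := by
      obtain ⟨l, hl⟩ := hPp.exists_card_eq
      rw [Nat.card_zpowers, hb, hl]
      exact Nat.Coprime.pow b l ((Nat.coprime_primes hr.out hp.out).2 hpr.symm)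
    obtain ⟨g', hg', hg'N⟩ := Coprime.exists_mem_inf_centralizer_leftCoset (N := Pm ⊓ N)
      ((le_inf hA ((normalizer_eq_top (H := N)).ge.trans' le_top)).trans inf_normalizer_le_normalizer_inf)
      inf_le_left hcop (Or.inl inferInstance) hg₀P (fun a' ha' => by
        obtain ⟨i, rfl⟩ := mem_zpowers_iff.1 ha'
        refine ⟨?_, ?_⟩
        · rw [mul_assoc, mul_assoc]
          refine Pm.mul_mem (Pm.inv_mem hg₀P) ?_
          rw [← mul_assoc]
          exact (mem_normalizer_iff.1 (hA ha') _).1 hg₀P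
        · show g₀⁻¹ * z ^ i * g₀ * (z ^ i)⁻¹ ∈ N
          rw [← hker]
          simp [map_mul, (hker z).2 hzN])
    have hg'N' : g' ∉ N := fun hh => hg₀N (by
      have := N.mul_mem hh (N.inv_mem hg'N.2)
      simpa using this)
    exact eq_one_of_commute h hg'N' (mem_centralizer_iff.1 hg'.2 z (mem_zpowers z)).symm
      (hPcop g' hg'.1 z ⟨b, hb⟩)
  set V := Qm ⊓ centralizer (Qm : Set G) with hV
  have hVQ : V ≤ Qm := inf_le_left
  haveI : IsMulCommutative V := isMulCommutative_iff.2 fun a b =>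
    Subtype.ext (mem_centralizer_iff.1 b.2.2 _ a.2.1)
  have hKV : K ≤ normalizer (V : Set G) :=
    (le_inf le_rfl (by
      exact (normal_subgroupOf_iff_le_normalizer
        (centralizer_le_normalizer (Qm : Set G))).1 inferInstance)).trans inf_normalizer_le_normalizer_inf
  have hVq : ∀ v ∈ V, ∀ g : G, (∃ l b, l.Prime ∧ l ≠ q ∧ orderOf g = l ^ b) →
      (orderOf g).Coprime (orderOf v) := by
    rintro v hv g ⟨l, b, hl, hlq, hb⟩
    obtain ⟨c, hc⟩ := orderOf_eq_pow_of_mem hQp (hVQ hv)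
    exact coprime_of_pow hl hq hlq hb hc
  have hbot := eq_bot_of_frobenius_fpf (V := V) (P := Pm) hr.out hyr (hKV hyK)
    ((hPJ.trans inf_le_right).trans hKV) hyP
    (fun g hg hgy => eq_one_of_commute h hyN hgy.symm (hPcop g hg y ⟨a, hya⟩).symm)
    (fun v hv hall => eq_one_of_commute h hg₀N (hall _ hg₀P) (hVq v hv g₀ (by
      obtain ⟨b, hb⟩ := orderOf_eq_pow_of_mem hPp hg₀P
      exact ⟨p, b, hp.out, hqp.symm, hb⟩)))
    (fun v hv hc => eq_one_of_commute h hyN hc (hVq v hv y ⟨r, a, hr.out, hqr.symm, hya⟩))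
    (by
      obtain ⟨l, hl⟩ := hPp.exists_card_eq
      obtain ⟨c, hc⟩ := (hQp.to_le hVQ).exists_card_eq
      rw [hl, hc]
      exact Nat.Coprime.pow l c ((Nat.coprime_primes hp.out hq).2 hqp.symm))
  have hQne : Qm ≠ ⊥ := by
    rw [hQm, Ne, map_eq_bot_iff_of_injective _ N.subtype_injective]
    exact Q.ne_bot_of_dvd_card hqN
  haveI : Nontrivial Qm := (nontrivial_iff_ne_bot Qm).2 hQne
  haveI := hQp.center_nontrivial
  obtain ⟨⟨⟨c, hcQ⟩, hc⟩, hc1⟩ := exists_ne (1 : center Qm)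
  refine hc1 (Subtype.ext (Subtype.ext ?_))
  have : c ∈ V := ⟨hcQ, mem_centralizer_iff.2 fun g hg =>
    congrArg Subtype.val (mem_center_iff.1 hc ⟨g, hg⟩)⟩
  rw [hbot] at this
  exact mem_bot.1 this

/-- `G/N` has prime power order. -/
theorem isSolvable_quotient {N : Subgroup G} [N.Normal] (hns : ¬ Group.IsSolvable ↥N)
    (h : ∀ x : G, x ∉ N → IsPrimePow (orderOf x)) : Group.IsSolvable (G ⧸ N) := by
  classical
  rcases subsingleton_or_nontrivial (G ⧸ N) with hs | hs
  · infer_instance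
  obtain ⟨p, hp, hpd⟩ := Nat.exists_prime_and_dvd (Finite.one_lt_card (α := G ⧸ N)).ne'
  haveI := Fact.mk hp
  suffices hP : IsPGroup p (G ⧸ N) by
    haveI := hP.isNilpotent
    infer_instance
  obtain ⟨P⟩ : Nonempty (Sylow p (G ⧸ N)) := inferInstance
  obtain ⟨P₀, O, hOn, hO⟩ := Transfer.hasNormalPComplement_of_centralizer P (by
    intro U hU g hg hco
    by_cases hg1 : g = 1
    · rw [hg1]; exact one_mem _
    by_cases hU1 : U = ⊥
    · subst hU1; simp [mem_centralizer_iff]
    exfalso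
    obtain ⟨r, hr, hrd⟩ := Nat.exists_prime_and_dvd (fun e => hg1 (orderOf_eq_one_iff.1 e))
    haveI := Fact.mk hr
    refine not_normalizes hns h (p := p) (r := r) ?_ (P.2.to_le hU) hU1 (pow_mem hg (orderOf g / r))
      (orderOf_pow_orderOf_div (orderOf_pos g).ne' hrd)
    rintro rfl
    exact hr.ne_one (Nat.eq_one_of_dvd_coprimes hco hrd dvd_rfl))
  rcases eq_or_ne O ⊥ with rfl | hO1
  · have := isComplement'_bot_left.1 hO
    exact (this ▸ P₀.2).of_equiv topEquiv
  exfalso
  haveI := hOn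
  have hpO : ¬ p ∣ Nat.card O := by
    rw [← hO.index_eq_card]
    exact P₀.not_dvd_index
  obtain ⟨r, hr, hrd⟩ := Nat.exists_prime_and_dvd
    (fun e => hO1 (eq_bot_of_card_eq O e))
  haveI := Fact.mk hr
  obtain ⟨R⟩ : Nonempty (Sylow r O) := inferInstance
  have hsup := Sylow.normalizer_sup_eq_top R
  set M := normalizer ((((R : Subgroup O).map O.subtype : Subgroup (G ⧸ N))) : Set (G ⧸ N)) with hM
  have hdM : p ∣ Nat.card M := by
    have h1 : O.index ∣ Nat.card M := by
      have := relIndex_sup_right M O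
      rw [hsup, relIndex_top_right] at this
      rw [this]
      exact relIndex_dvd_card _ _
    refine dvd_trans ?_ h1
    rw [hO.symm.index_eq_card]
    exact P₀.dvd_card_of_dvd_card hpd
  obtain ⟨η, hη⟩ := exists_prime_orderOf_dvd_card' p hdM
  refine not_normalizes hns h (p := r) (r := p) (fun e => hpO (e ▸ hrd)) (R.2.map _) ?_ η.2
    (by rw [← hη, orderOf_coe])
  rw [Ne, map_eq_bot_iff_of_injective _ O.subtype_injective]
  exact R.ne_bot_of_dvd_card hrd


/-- Let N be a non-trivial normal subgroup of the finite group G such that every element of G outside N has prime power order. If N is not solvable, then G/N is solvable. -/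
theorem result {G : Type*} [Group G] [Finite G] (N : Subgroup G) [N.Normal] (hN : N ≠ ⊥) (hns : ¬ Group.IsSolvable ↥N)
    (h : ∀ x : G, x ∉ N → IsPrimePow (orderOf x)) : Group.IsSolvable (G ⧸ N) := isSolvable_quotient hns h

end Cfsg.Agent.S3901
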