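import Cfsg.Statements.S3903

set_option autoImplicit false
open Cfsg
open scoped Pointwise

namespace Cfsg.Agent.S3903

/-- If some Sylow subgroup of a finite group is abelian and maximal, the group is solvable. -/
theorem solvable_of_abelian_maximal_sylow {G : Type*} [Group G] [Finite G] {p : ℕ} [Fact p.Prime]
    (P : Sylow p G) (hab : IsMulCommutative (P : Subgroup G)) (hmax : IsCoatom (P : Subgroup G)) :
    Group.IsSolvable G := by
  have := hab
  by_cases hn : (P : Subgroup G).Normal
  · obtain ⟨x, -, hx⟩ := SetLike.exists_of_lt (lt_top_iff_ne_top.mpr hmax.1)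
    have hgen : (P : Subgroup G) ⊔ Subgroup.zpowers x = ⊤ :=
      hmax.2 _ (lt_of_le_of_ne le_sup_left fun e => hx (e ▸ Subgroup.mem_sup_right (Subgroup.mem_zpowers x)))
    have hcyc : IsCyclic (G ⧸ (P : Subgroup G)) := by
      refine ⟨⟨QuotientGroup.mk x, fun z => ?_⟩⟩
      obtain ⟨g, rfl⟩ := QuotientGroup.mk_surjective z
      obtain ⟨a, ha, b, hb, rfl⟩ := Subgroup.mem_sup_of_normal_left.mp (hgen ▸ Subgroup.mem_top g)
      obtain ⟨i, rfl⟩ := hb
      exact ⟨i, by simp [QuotientGroup.mk_mul, (QuotientGroup.eq_one_iff a).mpr ha]⟩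
    have h1 : Group.IsSolvable (P : Subgroup G) := Group.isSolvable_of_comm fun a b => mul_comm' a b
    have h2 : Group.IsSolvable (G ⧸ (P : Subgroup G)) := inferInstance
    exact (Group.isSolvable_iff_subgroup_quotient (P : Subgroup G)).mpr ⟨h1, h2⟩
  · have hN : Subgroup.normalizer ((P : Subgroup G) : Set G) = P := by
      rcases (Subgroup.le_normalizer (H := (P : Subgroup G))).lt_or_eq with h | h
      · exact absurd (Subgroup.normalizer_eq_top_iff.mp (hmax.2 _ h)) hn
      · exact h.symm
    have hNC : Subgroup.normalizer ((P : Subgroup G) : Set G) ≤ Subgroup.centralizer ((P : Subgroup G) : Set G) := by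
      rw [hN]; exact Subgroup.le_centralizer _
    have hK := MonoidHom.ker_transferSylow_isComplement' P hNC
    set K := (MonoidHom.transferSylow P hNC).ker
    have hKp : ¬ p ∣ Nat.card K := hK.index_eq_card ▸ P.not_dvd_index
    have hcardP : ∀ R : Subgroup G, Nat.card R = Nat.card (P : Subgroup G) → IsCoatom R := by
      intro R hR
      rw [P.card_eq_multiplicity] at hR
      have hRS := Sylow.ofCard R hR
      obtain ⟨g, hg⟩ := MulAction.exists_smul_eq G P (Sylow.ofCard R hR)
      have : R = (P : Subgroup G).map (MulAut.conj g).toMonoidHom := by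
        rw [← Sylow.coe_ofCard R hR, ← hg]; rfl
      rw [this]
      exact (MulEquiv.mapSubgroup (MulAut.conj g)).isCoatom_iff _ |>.mpr hmax
    have key : ∀ q : ℕ, q.Prime → q ∣ Nat.card K → ∃ Q : Subgroup G, Q ≤ K ∧ IsPGroup q Q ∧ Q.Normal ∧ Q ≠ ⊥ := by
      intro q hq hd
      have := Fact.mk hq
      let Q : Sylow q K := default
      have hfr := Sylow.normalizer_sup_eq_top Q
      set Q' := (Q : Subgroup K).map K.subtype
      have hQ' : IsPGroup q Q' := Q.2.map _
      have hQb : Q' ≠ ⊥ := by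
        rw [Ne, Subgroup.map_eq_bot_iff_of_injective _ K.subtype_injective]
        intro hb
        have := Q.dvd_card_of_dvd_card hd
        rw [hb, Subgroup.card_bot] at this
        exact hq.ne_one (Nat.dvd_one.mp this)
      refine ⟨Q', Subgroup.map_subtype_le _, hQ', ?_, hQb⟩
      by_contra hQn
      have hsurj : Function.Surjective ((QuotientGroup.mk' K).comp (Subgroup.normalizer (Q' : Set G)).subtype) := by
        intro z
        obtain ⟨g, rfl⟩ := QuotientGroup.mk_surjective z
        obtain ⟨a, ha, b, hb, rfl⟩ := Subgroup.mem_sup_of_normal_right.mp (hfr ▸ Subgroup.mem_top g)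
        exact ⟨⟨a, ha⟩, by simp [QuotientGroup.mk_mul, (QuotientGroup.eq_one_iff b).mpr hb]⟩
      have hdvd := Subgroup.card_dvd_of_surjective _ hsurj
      change K.index ∣ _ at hdvd
      rw [hK.symm.index_eq_card, P.card_eq_multiplicity] at hdvd
      obtain ⟨R, hR⟩ := Sylow.exists_subgroup_card_pow_prime p hdvd
      have hR' : Nat.card (R.map (Subgroup.normalizer (Q' : Set G)).subtype) = Nat.card (P : Subgroup G) := by
        rw [Subgroup.card_map_of_injective (Subgroup.subtype_injective _), hR, P.card_eq_multiplicity]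
      have hle := Subgroup.map_subtype_le R
      rcases hle.lt_or_eq with h | h
      · exact hQn (Subgroup.normalizer_eq_top_iff.mp ((hcardP _ hR').2 _ h))
      · have hdP : Nat.card Q' ∣ Nat.card (P : Subgroup G) := by
          rw [← hR', h]; exact Subgroup.card_dvd_of_le Subgroup.le_normalizer
        have hdK : Nat.card Q' ∣ Nat.card K := Subgroup.card_dvd_of_le (Subgroup.map_subtype_le _)
        refine hQb (Subgroup.card_eq_one.mp (Nat.eq_one_of_dvd_coprimes ?_ hdP hdK))
        rw [← hK.index_eq_card]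
        exact P.card_coprime_index
    have hsolK : Group.IsSolvable K := by
      by_cases h1 : Nat.card K = 1
      · have := (Nat.card_eq_one_iff_unique.mp h1).1
        exact inferInstance
      obtain ⟨q, hq, hd⟩ := Nat.exists_prime_and_dvd h1
      have := Fact.mk hq
      obtain ⟨Q, hQK, hQ, hQn, hQb⟩ := key q hq hd
      have htop : (P : Subgroup G) ⊔ Q = ⊤ := by
        refine hmax.2 _ (lt_of_le_of_ne le_sup_left fun e => hQb ?_)
        have hQP : Q ≤ (P : Subgroup G) := e ▸ le_sup_right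
        exact le_bot_iff.mp fun x hx => hK.disjoint.le_bot ⟨hQK hx, hQP hx⟩
      have hKQ : K ≤ Q := by
        intro k hk
        obtain ⟨a, ha, b, hb, rfl⟩ := Subgroup.mem_sup_of_normal_right.mp (htop ▸ Subgroup.mem_top k)
        have haK : a ∈ K := by simpa using K.mul_mem hk (K.inv_mem (hQK hb))
        have : a = 1 := Subgroup.mem_bot.mp (hK.disjoint.le_bot ⟨haK, ha⟩)
        simpa [this] using hb
      have : Group.IsNilpotent K := (hQ.to_le hKQ).isNilpotent
      exact inferInstance
    have hsolQ : Group.IsSolvable (G ⧸ K) := by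
      have : IsPGroup p (G ⧸ K) := by
        obtain ⟨n, hn⟩ := (IsPGroup.iff_card).mp P.2
        refine IsPGroup.of_card (n := n) ?_
        change K.index = _
        rw [hK.symm.index_eq_card, hn]
      have := this.isNilpotent
      exact inferInstance
    exact (Group.isSolvable_iff_subgroup_quotient K).mpr ⟨hsolK, hsolQ⟩

/-- Let N be a proper normal subgroup of the finite group G such that every element x of G outside N has prime power order and has centralizer C_G(x) a maximal subgroup of G. Then N is solvable. -/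
theorem result {G : Type*} [Group G] [Finite G] (N : Subgroup G) [N.Normal] (hN : N ≠ ⊤)
    (h : ∀ x : G, x ∉ N → IsPrimePow (orderOf x) ∧ IsCoatom (Subgroup.centralizer ({x} : Set G))) : Group.IsSolvable ↥N := by
  classical
  obtain ⟨p, hp, hpd⟩ := Nat.exists_prime_and_dvd (fun e : N.index = 1 => hN (Subgroup.index_eq_one.mp e))
  have := Fact.mk hp
  by_cases hG : IsPGroup p G
  · have := (hG.to_subgroup N).isNilpotent
    exact inferInstance
  let P : Sylow p G := default
  have hC : ∀ x, x ∉ N → (∃ k, orderOf x = p ^ k) → IsPGroup p (Subgroup.centralizer ({x} : Set G)) := by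
    rintro x hx ⟨k, hk⟩
    refine IsPGroup.of_card (n := _) (Nat.eq_prime_pow_of_unique_prime_dvd Nat.card_pos.ne' fun {q} hq hqd => ?_)
    by_contra hne
    have := Fact.mk hq
    obtain ⟨⟨w, hw⟩, how⟩ := exists_prime_orderOf_dvd_card' q hqd
    rw [Subgroup.orderOf_mk] at how
    have hcomm : Commute x w := (Subgroup.mem_centralizer_singleton_iff.mp hw).symm
    have hco : (orderOf x).Coprime (orderOf w) := by
      rw [hk, how]; exact Nat.Coprime.pow_left k ((Nat.coprime_primes hp hq).mpr (Ne.symm hne))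
    have hk0 : k ≠ 0 := fun e => hx (by
      rw [e, pow_zero, orderOf_eq_one_iff] at hk; subst hk; exact one_mem N)
    have hxw : x * w ∉ N := by
      intro hmem
      apply hx
      have h1 : x ^ q ∈ N := by
        have := N.pow_mem hmem q
        rwa [hcomm.mul_pow, ← how, pow_orderOf_eq_one, mul_one, how] at this
      have h2 : x ^ (p ^ k) ∈ N := by rw [← hk, pow_orderOf_eq_one]; exact one_mem N
      rw [← QuotientGroup.eq_one_iff] at h1 h2 ⊢
      rw [QuotientGroup.mk_pow] at h1 h2
      have e := pow_gcd_eq_one.mpr ⟨h1, h2⟩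
      rwa [Nat.Coprime.gcd_eq_one (Nat.Coprime.pow_right k ((Nat.coprime_primes hq hp).mpr hne)), pow_one] at e
    obtain ⟨r, j, hr, hj, hrj⟩ := (h (x * w) hxw).1
    rw [hcomm.orderOf_mul_eq_mul_orderOf_of_coprime hco, hk, how] at hrj
    have e1 : p = r := (Nat.prime_dvd_prime_iff_eq hp hr.nat_prime).mp
      (hp.dvd_of_dvd_pow (hrj ▸ Dvd.dvd.mul_right (dvd_pow_self p hk0) q))
    have e2 : q = r := (Nat.prime_dvd_prime_iff_eq hq hr.nat_prime).mp
      (hq.dvd_of_dvd_pow (hrj ▸ Dvd.intro_left _ rfl))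
    exact hne (e2.trans e1.symm)
  have hS : ∀ x, x ∉ N → (∃ k, orderOf x = p ^ k) →
      ∃ g : G, Subgroup.centralizer ({x} : Set G) = ((g • P : Sylow p G) : Subgroup G) := by
    intro x hx hxp
    obtain ⟨T, hT⟩ := (hC x hx hxp).exists_le_sylow
    obtain ⟨g, rfl⟩ := MulAction.exists_smul_eq G P T
    refine ⟨g, hT.lt_or_eq.resolve_left fun hlt => hG ?_⟩
    have e := (h x hx).2.2 _ hlt
    exact fun y => by
      obtain ⟨k, hk⟩ := (g • P).2 ⟨y, e ▸ Subgroup.mem_top y⟩
      exact ⟨k, congrArg Subtype.val hk⟩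
  have hPN : ¬ (P : Subgroup G) ≤ N := fun hle =>
    P.not_dvd_index (hpd.trans (Subgroup.index_dvd_of_le hle))
  obtain ⟨x0, hx0P, hx0N⟩ := SetLike.not_le_iff_exists.mp hPN
  have hPmax : IsCoatom (P : Subgroup G) := by
    have hx0 : ∃ k, orderOf x0 = p ^ k := by
      obtain ⟨k, hk⟩ := (IsPGroup.iff_orderOf).mp P.2 ⟨x0, hx0P⟩
      exact ⟨k, by rwa [Subgroup.orderOf_mk] at hk⟩
    obtain ⟨g, hg⟩ := hS x0 hx0N hx0
    have := (h x0 hx0N).2
    rw [hg, Sylow.coe_subgroup_smul] at this
    exact (MulEquiv.mapSubgroup (MulAut.conj g)).isCoatom_iff _ |>.mp this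
  by_cases hsup : N ⊔ (P : Subgroup G) = ⊤
  swap
  · have hle : N ≤ (P : Subgroup G) :=
      (le_sup_right.lt_or_eq.resolve_left fun hlt => hsup (hPmax.2 _ hlt)).symm ▸ le_sup_left
    have := (P.2.to_le hle).isNilpotent
    exact inferInstance
  suffices Group.IsSolvable G from inferInstance
  have hpel : ∀ x, x ∉ N → ∃ k, orderOf x = p ^ k := by
    intro x hx
    obtain ⟨r, j, hr, hj, hrj⟩ := (h x hx).1
    refine ⟨j, ?_⟩
    have hqn : IsPGroup p (G ⧸ N) := by
      refine P.2.of_surjective ((QuotientGroup.mk' N).comp (P : Subgroup G).subtype) fun z => ?_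
      obtain ⟨g, rfl⟩ := QuotientGroup.mk_surjective z
      obtain ⟨a, ha, b, hb, rfl⟩ := Subgroup.mem_sup_of_normal_left.mp (hsup ▸ Subgroup.mem_top g)
      exact ⟨⟨b, hb⟩, by simp [QuotientGroup.mk_mul, (QuotientGroup.eq_one_iff a).mpr ha]⟩
    obtain ⟨i, hi⟩ := (IsPGroup.iff_orderOf).mp hqn (x : G ⧸ N)
    have hd := orderOf_map_dvd (QuotientGroup.mk' N) x
    rw [QuotientGroup.mk'_apply, hi, ← hrj] at hd
    have hi0 : i ≠ 0 := fun e => hx ((QuotientGroup.eq_one_iff x).mp
      (orderOf_eq_one_iff.mp (by rw [hi, e, pow_zero])))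
    rw [← hrj, (Nat.prime_dvd_prime_iff_eq hp hr.nat_prime).mp
      (hp.dvd_of_dvd_pow ((dvd_pow_self p hi0).trans hd))]
  refine solvable_of_abelian_maximal_sylow P ?_ hPmax
  -- counting
  let Z : Set G := {z | z ∈ (P : Subgroup G) ∧ (∀ y ∈ (P : Subgroup G), Commute z y) ∧ z ∉ N}
  let D : Set G := {z | z ∈ (P : Subgroup G) ∧ z ∉ N}
  have hZD : Z ⊆ D := fun z hz => ⟨hz.1, hz.2.2⟩
  have hcover : ({z | z ∉ N} : Set G) ⊆
      Set.range fun a : (G ⧸ (P : Subgroup G)) × Z => a.1.out * (a.2 : G) * a.1.out⁻¹ := by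
    intro x hx
    obtain ⟨g, hg⟩ := hS x hx (hpel x hx)
    set t := (QuotientGroup.mk g : G ⧸ (P : Subgroup G)).out with ht
    obtain ⟨u, hu⟩ := QuotientGroup.mk_out_eq_mul (P : Subgroup G) g
    have hmem : ∀ y, y ∈ Subgroup.centralizer ({x} : Set G) ↔ g⁻¹ * y * g ∈ (P : Subgroup G) := fun y => by
      rw [hg, Sylow.coe_subgroup_smul, Subgroup.mem_pointwise_smul_iff_inv_smul_mem]
      simp [MulAut.smul_def, MulAut.inv_def]
    refine ⟨(QuotientGroup.mk g, ⟨t⁻¹ * x * t, ?_, ?_, ?_⟩), by simp [ht, mul_assoc]⟩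
    · have := (hmem x).mp (Subgroup.mem_centralizer_singleton_iff.mpr rfl)
      rw [ht, hu, show (g * u)⁻¹ * x * (g * u) = (u : G)⁻¹ * (g⁻¹ * x * g) * u by group]
      exact mul_mem (mul_mem (inv_mem u.2) this) u.2
    · intro y hy
      have hy' : t * y * t⁻¹ ∈ Subgroup.centralizer ({x} : Set G) := by
        rw [hmem, ht, hu, show g⁻¹ * (g * u * y * (g * u)⁻¹) * g = (u : G) * y * (u : G)⁻¹ by group]
        exact mul_mem (mul_mem u.2 hy) (inv_mem u.2)
      have hc := Subgroup.mem_centralizer_singleton_iff.mp hy'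
      change t⁻¹ * x * t * y = y * (t⁻¹ * x * t)
      calc t⁻¹ * x * t * y = t⁻¹ * (x * (t * y * t⁻¹)) * t := by group
        _ = t⁻¹ * ((t * y * t⁻¹) * x) * t := by rw [hc]
        _ = y * (t⁻¹ * x * t) := by group
    · exact fun hmem' => hx (by
        have := ‹N.Normal›.conj_mem _ hmem' t
        simpa [mul_assoc] using this)
  have h1 : Nat.card ({z | z ∉ N} : Set G) ≤ (P : Subgroup G).index * Nat.card Z := by
    refine le_trans (Nat.card_mono (Set.toFinite _) hcover) (le_trans (Finite.card_range_le _) ?_)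
    rw [Nat.card_prod]; rfl
  have h2 : Nat.card ({z | z ∉ N} : Set G) + Nat.card N = Nat.card G := by
    rw [add_comm, ← SetLike.coe_sort_coe, Nat.card_coe_set_eq, Nat.card_coe_set_eq,
      ← Set.ncard_add_ncard_compl (N : Set G)]
    rfl
  have h3 : Nat.card D + Nat.card ((P : Subgroup G) ⊓ N : Subgroup G) = Nat.card (P : Subgroup G) := by
    rw [← SetLike.coe_sort_coe, ← SetLike.coe_sort_coe, Nat.card_coe_set_eq, Nat.card_coe_set_eq,
      Nat.card_coe_set_eq, ← Set.ncard_union_eq (Set.disjoint_left.mpr fun z hz hz' => hz.2 hz'.2)]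
    congr 1
    ext z
    simp only [D, Set.mem_union, Set.mem_ofPred_eq, SetLike.mem_coe, Subgroup.mem_inf]
    tauto
  have h4 : Nat.card N = (P : Subgroup G).index * Nat.card ((P : Subgroup G) ⊓ N : Subgroup G) := by
    have e1 : N.index = N.relIndex (P : Subgroup G) := by
      rw [← Subgroup.relIndex_top_right, ← hsup, Subgroup.relIndex_sup_left]
    have e2 : Nat.card ((P : Subgroup G) ⊓ N : Subgroup G) * N.index = Nat.card (P : Subgroup G) := by
      rw [e1, ← Subgroup.inf_relIndex_right, inf_comm, ← Subgroup.relIndex_bot_left, ← Subgroup.relIndex_bot_left]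
      exact Subgroup.relIndex_mul_relIndex _ _ _ bot_le inf_le_right
    refine Nat.eq_of_mul_eq_mul_right (Nat.pos_of_ne_zero N.index_ne_zero_of_finite) ?_
    rw [N.card_mul_index, mul_assoc, e2, mul_comm, (P : Subgroup G).card_mul_index]
  have hG' := Subgroup.card_mul_index (P : Subgroup G)
  have hDZ : Nat.card D ≤ Nat.card Z := by
    refine Nat.le_of_mul_le_mul_left ?_ (Nat.pos_of_ne_zero (P : Subgroup G).index_ne_zero_of_finite)
    rw [← h3] at hG'
    nlinarith
  have hZD' : Z = D := Set.eq_of_subset_of_ncard_le hZD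
    (by rw [← Nat.card_coe_set_eq, ← Nat.card_coe_set_eq]; exact hDZ) (Set.toFinite _)
  have hall : ∀ a ∈ (P : Subgroup G), ∀ b ∈ (P : Subgroup G), a * b = b * a := by
    intro a ha b hb
    by_cases haN : a ∈ N
    · have hz : a * x0 ∈ Z := by
        rw [hZD']
        exact ⟨mul_mem ha hx0P, fun hm => hx0N (by simpa using N.mul_mem (N.inv_mem haN) hm)⟩
      have hx : x0 ∈ Z := by rw [hZD']; exact ⟨hx0P, hx0N⟩
      have hc1 : Commute (a * x0) b := hz.2.1 b hb
      have hc2 : Commute x0 b := hx.2.1 b hb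
      have := hc1.mul_left hc2.inv_left
      simpa [mul_assoc] using this.eq
    · have hz : a ∈ Z := by rw [hZD']; exact ⟨ha, haN⟩
      exact (hz.2.1 b hb).eq
  exact ⟨⟨fun a b => Subtype.ext (hall a a.2 b b.2)⟩⟩

end Cfsg.Agent.S3903
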