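import Mathlib
import Cfsg.Statements.S3904
import Cfsg.Agent.Lib.MaxCentralizer.Basic

set_option autoImplicit false
open Cfsg

namespace Cfsg.Agent.S3904

/-- Let G be a non-abelian finite group in which the centralizer of every non-central element is a maximal subgroup. Then G/Z(G) is either an elementary abelian p-group for some prime p, or a minimal non-abelian group (non-abelian with all proper subgroups abelian) of order p^a · q for distinct primes p, q with a normal Sylow p-subgroup. -/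
theorem result {G : Type*} [Group G] [Finite G] (hna : ¬ IsMulCommutative G)
    (h : ∀ x : G, x ∉ Subgroup.center G → IsCoatom (Subgroup.centralizer ({x} : Set G))) :
    (∃ p : ℕ, p.Prime ∧ Cfsg.IsElementaryAbelian p (⊤ : Subgroup (G ⧸ Subgroup.center G))) ∨
    (¬ IsMulCommutative (G ⧸ Subgroup.center G) ∧ (∀ H : Subgroup (G ⧸ Subgroup.center G), H ≠ ⊤ → IsMulCommutative ↥H) ∧
      ∃ p q a : ℕ, p.Prime ∧ q.Prime ∧ p ≠ q ∧ Nat.card (G ⧸ Subgroup.center G) = p ^ a * q ∧
        ∀ P : Subgroup (G ⧸ Subgroup.center G), Nat.card ↥P = p ^ a → P.Normal) := by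
  have hzc : ∀ x : G, x ∈ MaxCentralizer.zc (⊤ : Subgroup G) ↔ x ∈ Subgroup.center G := by
    intro x
    simp [MaxCentralizer.zc, Subgroup.mem_center_iff, Subgroup.mem_centralizer_iff]
  have hyp : MaxCentralizer.Hyp (⊤ : Subgroup G) := fun x _ hxZ => h x fun e => hxZ ((hzc x).mpr e)
  let f := (QuotientGroup.mk' (Subgroup.center G)).comp (⊤ : Subgroup G).subtype
  have hf : Function.Surjective f := fun q => by
    obtain ⟨g, rfl⟩ := QuotientGroup.mk_surjective q
    exact ⟨⟨g, Subgroup.mem_top g⟩, rfl⟩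
  have hker : ∀ n : (⊤ : Subgroup G), f n = 1 ↔ (n : G) ∈ MaxCentralizer.zc (⊤ : Subgroup G) := fun n => by
    rw [hzc]; exact QuotientGroup.eq_one_iff (n : G)
  rcases MaxCentralizer.quotient_structure hyp f hf hker with
    ⟨p, hp, hab, hexp⟩ | ⟨p, r, a, C, K, hp, hr, hpr, hKn, hidx, hKc, hKab, hKpow, hC, hF, hker', hirr⟩
  · exact Or.inl ⟨p, hp, hab, hexp⟩
  right
  have hnab : ¬ IsMulCommutative (G ⧸ Subgroup.center G) := by
    intro hc
    obtain ⟨g, hg⟩ := SetLike.exists_not_mem_of_ne_top C hF.2.1 rfl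
    obtain ⟨⟨c, hcC⟩, hc1⟩ := Subgroup.ne_bot_iff_exists_ne_one.mp hF.1
    exact hg (Frobenius.mem_of_commute hF hcC (fun e => hc1 (Subtype.ext e)) (hc.is_comm.comm g c))
  refine ⟨hnab, fun H hH => ?_, p, r, a, hp, hr, hpr, ?_, fun P hP => ?_⟩
  · have := Fact.mk hr
    by_cases hle : H ≤ K
    · exact ⟨⟨fun u v => Subtype.ext (congrArg Subtype.val (hKab.is_comm.comm (⟨u, hle u.2⟩ : K) ⟨v, hle v.2⟩) :)⟩⟩
    have hsup : K ⊔ H = ⊤ := by
      have hd : (K ⊔ H).index ∣ K.index := Subgroup.index_dvd_of_le le_sup_left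
      rw [hidx] at hd
      rcases (Nat.dvd_prime hr).mp hd with h1 | h1
      · exact Subgroup.index_eq_one.mp h1
      · exfalso
        apply hle
        have e : K.relIndex (K ⊔ H) = 1 := by
          have h2 := Subgroup.relIndex_mul_index (le_sup_left : K ≤ K ⊔ H)
          rw [h1, hidx] at h2
          exact Nat.eq_of_mul_eq_mul_right hr.pos (h2.trans (one_mul r).symm)
        exact le_sup_right.trans (Subgroup.relIndex_eq_one.mp e)
    have hn : (H ⊓ K).Normal := ⟨fun u hu g => by
      obtain ⟨k, hk, m, hm, rfl⟩ := Subgroup.mem_sup_of_normal_left.mp (hsup ▸ Subgroup.mem_top g)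
      have h1 : m * u * m⁻¹ ∈ H ⊓ K := ⟨H.mul_mem (H.mul_mem hm hu.1) (H.inv_mem hm), hKn.conj_mem u hu.2 m⟩
      have h2 : k * (m * u * m⁻¹) = (m * u * m⁻¹) * k :=
        congrArg Subtype.val (hKab.is_comm.comm (⟨k, hk⟩ : K) ⟨_, h1.2⟩)
      rw [show k * m * u * (k * m)⁻¹ = k * (m * u * m⁻¹) * k⁻¹ by group, h2, mul_inv_cancel_right]
      exact h1⟩
    rcases hirr rfl _ hn inf_le_right with hb | he
    · have hd : Nat.card H ∣ r := by
        have h1 : K.relIndex H = Nat.card H := by
          rw [← Subgroup.inf_relIndex_right, inf_comm, hb, Subgroup.relIndex_bot_left]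
        rw [← h1, ← hidx]
        exact Subgroup.relIndex_dvd_index_of_normal K H
      rcases (Nat.dvd_prime hr).mp hd with h1 | h1
      · have := Subgroup.card_eq_one.mp h1
        subst this
        exact ⟨⟨fun u v => Subsingleton.elim _ _⟩⟩
      · have := isCyclic_of_prime_card h1
        exact inferInstance
    · exact absurd (top_le_iff.mp (hsup ▸ sup_le (inf_eq_right.mp he) le_rfl)) hH
  · rw [← hKc, ← Subgroup.card_mul_index K, hidx]
  · have hPK : P ≤ K := by
      intro u hu
      rw [← QuotientGroup.eq_one_iff]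
      refine orderOf_eq_one_iff.mp (Nat.eq_one_of_dvd_coprimes (((Nat.coprime_primes hp hr).mpr hpr).pow a 1)
        ((orderOf_map_dvd (QuotientGroup.mk' K) u).trans (hP ▸ Subgroup.orderOf_dvd_natCard P hu)) ?_)
      rw [pow_one, ← hidx]
      exact orderOf_dvd_natCard _
    rw [Subgroup.eq_of_le_of_card_ge hPK (by rw [hP, hKc])]
    exact hKn

end Cfsg.Agent.S3904
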