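import Mathlib
import Cfsg.Statements.S3905
import Cfsg.Agent.Lib.MaxCentralizer.Basic

set_option autoImplicit false
open Cfsg

namespace Cfsg.Agent.S3905

/-- Let N be a normal subgroup of the finite group G such that for every element x of N outside the center of N the centralizer C_G(x) is a maximal subgroup of G. Then N/Z(N) is either an elementary abelian p-group for some prime p, or a Frobenius group whose kernel is an elementary abelian normal subgroup and whose complement has prime order. -/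
theorem result {G : Type*} [Group G] [Finite G] (N : Subgroup G) [N.Normal]
    (h : ∀ x : G, x ∈ N → x ∉ Subgroup.centralizer (N : Set G) → IsCoatom (Subgroup.centralizer ({x} : Set G))) :
    (∃ p : ℕ, p.Prime ∧ Cfsg.IsElementaryAbelian p (⊤ : Subgroup (↥N ⧸ Subgroup.center ↥N))) ∨
    (∃ (Q K : Subgroup (↥N ⧸ Subgroup.center ↥N)) (p : ℕ), p.Prime ∧ Cfsg.IsFrobeniusComplement Q ∧ (Nat.card ↥Q).Prime ∧
      K.Normal ∧ (K : Set (↥N ⧸ Subgroup.center ↥N)) = Cfsg.frobeniusKernel Q ∧ Cfsg.IsElementaryAbelian p K) := by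
  have hyp : MaxCentralizer.Hyp N := fun x hx hxZ => h x hx fun e => hxZ ⟨hx, e⟩
  have hker : ∀ n : N, QuotientGroup.mk' (Subgroup.center N) n = 1 ↔ (n : G) ∈ MaxCentralizer.zc N := by
    intro n
    rw [QuotientGroup.mk'_apply, QuotientGroup.eq_one_iff, Subgroup.mem_center_iff]
    refine ⟨fun e => ⟨n.2, Subgroup.mem_centralizer_iff.mpr fun m hm => congrArg Subtype.val (e ⟨m, hm⟩)⟩,
      fun e m => Subtype.ext (Subgroup.mem_centralizer_iff.mp e.2 m m.2)⟩
  rcases MaxCentralizer.quotient_structure hyp _ (QuotientGroup.mk'_surjective (Subgroup.center N)) hker with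
    ⟨p, hp, hab, hexp⟩ | ⟨p, r, a, C, K, hp, hr, -, hKn, -, -, hKab, hKpow, hC, hF, hker', -⟩
  · exact Or.inl ⟨p, hp, hab, hexp⟩
  · exact Or.inr ⟨C, K, p, hp, hF, hC ▸ hr, hKn, hker'.symm, hKab, hKpow⟩

end Cfsg.Agent.S3905
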