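import Cfsg.Statements.S3909


set_option autoImplicit false
open Cfsg

namespace Cfsg.Agent.S3909

/-- Let G be a finite group in which any two abelian subgroups of the same order are conjugate. Let M be a normal subgroup of G. If M contains an element of the same order as a ∈ G, then a ∈ M; and if M is elementary abelian of order p^t with p prime and t ≥ 2, then M is the unique Sylow p-subgroup of G. -/
theorem result {G : Type*} [Group G] [Finite G] (hB : ∀ A B : Subgroup G, IsMulCommutative ↥A → IsMulCommutative ↥B → Nat.card ↥A = Nat.card ↥B → ∃ g : G, B = A.map (MulAut.conj g).toMonoidHom) (M : Subgroup G) [M.Normal] :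
    (∀ a : G, (∃ m ∈ M, orderOf m = orderOf a) → a ∈ M) ∧
    ∀ (p t : ℕ) [Fact p.Prime], 2 ≤ t → Nat.card ↥M = p ^ t → Cfsg.IsElementaryAbelian p M → ∀ P : Sylow p G, (P : Subgroup G) = M := by
  have key : ∀ a m : G, m ∈ M → orderOf m = orderOf a → a ∈ M := by
    intro a m hm ho
    obtain ⟨g, hg⟩ := hB (Subgroup.zpowers m) (Subgroup.zpowers a) inferInstance inferInstance
      (by simpa [Nat.card_zpowers] using ho)
    have h : a ∈ (Subgroup.zpowers m).map (MulAut.conj g).toMonoidHom :=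
      hg ▸ Subgroup.mem_zpowers a
    obtain ⟨y, hy, hya⟩ := h
    rw [← hya]
    exact ‹M.Normal›.conj_mem y (Subgroup.zpowers_le.mpr hm hy) g
  refine ⟨fun a ⟨m, hm, ho⟩ => key a m hm ho, fun p t _ ht hcard hM P => ?_⟩
  have hp : p.Prime := Fact.out
  have hMP : M ≤ (P : Subgroup G) := by
    obtain ⟨Q, hQ⟩ := (IsPGroup.of_card hcard).exists_le_sylow
    obtain ⟨g, rfl⟩ := MulAction.exists_smul_eq G Q P
    intro x hx
    refine ⟨g⁻¹ * x * g, hQ ?_, ?_⟩
    · simpa using ‹M.Normal›.conj_mem x hx g⁻¹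
    · simp [mul_assoc]
  refine le_antisymm (fun x hx => ?_) hMP
  obtain ⟨k, hk⟩ := P.isPGroup' ⟨x, hx⟩
  have hxk : x ^ p ^ k = 1 := congrArg Subtype.val hk
  obtain ⟨i, -, hi⟩ := (Nat.dvd_prime_pow hp).mp (orderOf_dvd_of_pow_eq_one hxk)
  rcases i with _ | _ | i
  · rw [orderOf_eq_one_iff.mp (show orderOf x = 1 by simpa using hi)]
    exact one_mem _
  · obtain ⟨m, hm⟩ := exists_prime_orderOf_dvd_card' (G := M) p
      (hcard ▸ dvd_pow_self p (by omega))
    exact key x m m.2 (by rw [Subgroup.orderOf_coe, hm, hi, zero_add, pow_one])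
  · exfalso
    set y := x ^ p ^ i with hy
    have hyo : orderOf y = p ^ 2 := by
      rw [hy, orderOf_pow' _ (pow_ne_zero _ hp.pos.ne'), hi,
        Nat.gcd_eq_right (pow_dvd_pow p (by omega)), Nat.pow_div (by omega) hp.pos]
      congr 1
      omega
    obtain ⟨B, hBc⟩ := Sylow.exists_subgroup_card_pow_prime p (G := M) (n := 2)
      (hcard ▸ pow_dvd_pow p ht)
    set B' := B.map M.subtype
    have hB' : B' ≤ M := Subgroup.map_subtype_le B
    have hcomm : IsMulCommutative ↥B' := ⟨⟨fun a b => Subtype.ext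
      (by
        simpa using congrArg (fun z : M => (z : G)) (hM.1.is_comm.comm (⟨a, hB' a.2⟩ : M) ⟨b, hB' b.2⟩))⟩⟩
    obtain ⟨g, hg⟩ := hB B' (Subgroup.zpowers y) hcomm inferInstance (by
      rw [Nat.card_zpowers, hyo, Subgroup.card_subtype, hBc])
    have h : y ∈ B'.map (MulAut.conj g).toMonoidHom := hg ▸ Subgroup.mem_zpowers y
    obtain ⟨z, hz, hzy⟩ := h
    have hz1 : y ^ p = 1 := by
      rw [← hzy, ← map_pow, hM.2 z (hB' hz), map_one]
    have := Nat.le_of_dvd hp.pos (hyo ▸ orderOf_dvd_of_pow_eq_one hz1)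
    have := hp.two_le
    nlinarith

end Cfsg.Agent.S3909
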