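import Cfsg.Statements.S3910
import Cfsg.Agent.Lib.Subnormal.Nilpotent
import Cfsg.Agent.Lib.PGroup.SCN
import Cfsg.Agent.Lib.Abelian.Cyclic
import Mathlib

set_option autoImplicit false
open Cfsg

namespace Cfsg.Agent.S3910

/-- A finite nilpotent group in which any two abelian subgroups of the same order are conjugate is cyclic. -/
theorem result {G : Type*} [Group G] [Finite G] (hB : ∀ A B : Subgroup G, IsMulCommutative ↥A → IsMulCommutative ↥B → Nat.card ↥A = Nat.card ↥B → ∃ g : G, B = A.map (MulAut.conj g).toMonoidHom) (hnil : Group.IsNilpotent G) : IsCyclic G := by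
  have := hnil
  have hcomm : ∀ a b : G, a * b = b * a := by
    suffices htop : Subgroup.center G = ⊤ from fun a b =>
      Subgroup.mem_center_iff.mp (htop ▸ Subgroup.mem_top b) a
    refine Agent.Components.eq_top_of_forall_sylow fun p hp _ => ?_
    have := Fact.mk hp
    let P : Sylow p G := default
    refine ⟨P, ?_⟩
    -- `P` inherits the hypothesis
    have hB' : ∀ A B : Subgroup ↥(P : Subgroup G), IsMulCommutative ↥A → IsMulCommutative ↥B →
        Nat.card ↥A = Nat.card ↥B →
        ∃ g : ↥(P : Subgroup G), B = A.map (MulAut.conj g).toMonoidHom := by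
      intro A B hA hB2 hcard
      have hinj := (P : Subgroup G).subtype_injective
      obtain ⟨g, hg⟩ := hB (A.map (P : Subgroup G).subtype) (B.map (P : Subgroup G).subtype)
        (Subgroup.map_isMulCommutative A _) (Subgroup.map_isMulCommutative B _)
        (by rw [Subgroup.card_map_of_injective hinj, Subgroup.card_map_of_injective hinj, hcard])
      have hCn : (Subgroup.centralizer ((P : Subgroup G) : Set G)).Normal := inferInstance
      obtain ⟨u, hu, c, hc, huc⟩ := Subgroup.mem_sup_of_normal_right.mp
        (Agent.Subnormal.sylow_sup_centralizer P ▸ Subgroup.mem_top g)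
      refine ⟨⟨u, hu⟩, Subgroup.map_injective hinj (hg.trans ?_)⟩
      have key : ∀ z : ↥(P : Subgroup G), g * (z : G) * g⁻¹ = u * (z : G) * u⁻¹ := fun z => by
        have h1 : (z : G) * c = c * z := Subgroup.mem_centralizer_iff.mp hc z z.2
        rw [← huc, mul_inv_rev, mul_assoc u c, ← h1]
        group
      rw [Subgroup.map_map, Subgroup.map_map]
      congr 1
      ext z
      simpa using key z
    obtain ⟨A, hAn, hA, hmax⟩ := Agent.PGroup.exists_maximal_abelian_normal (G := ↥(P : Subgroup G))
    have hself := Agent.PGroup.centralizer_eq_of_maximal_abelian_normal P.2 hA hmax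
    have hfix : ∀ B : Subgroup ↥(P : Subgroup G), IsMulCommutative ↥B → Nat.card ↥B = Nat.card ↥A → B = A := by
      intro B hBc hcard
      obtain ⟨g, rfl⟩ := hB' A B hA hBc hcard.symm
      refine Subgroup.eq_of_le_of_card_ge ?_ hcard.ge
      rintro _ ⟨z, hz, rfl⟩
      exact hAn.conj_mem z hz g
    have hall : ∀ x, x ∈ A := by
      intro x
      obtain ⟨k, hk⟩ := IsPGroup.iff_orderOf.mp P.2 x
      obtain ⟨a, ha⟩ := (P.2.to_subgroup A).exists_card_eq
      rcases le_or_gt k a with hka | hka
      · obtain ⟨C, hC⟩ := Sylow.exists_subgroup_card_pow_prime (G := ↥A) p (ha ▸ pow_dvd_pow p hka)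
        have := hA
        have hCc : IsMulCommutative ↥(C.map A.subtype) := Subgroup.map_isMulCommutative C _
        obtain ⟨g, hg⟩ := hB' _ (Subgroup.zpowers x) hCc inferInstance
          (by rw [Subgroup.card_map_of_injective A.subtype_injective, hC, Nat.card_zpowers, hk])
        have hx : x ∈ Subgroup.zpowers x := Subgroup.mem_zpowers x
        rw [hg] at hx
        obtain ⟨_, ⟨z, -, rfl⟩, rfl⟩ := hx
        exact hAn.conj_mem _ z.2 g
      · have hy : Subgroup.zpowers (x ^ p ^ (k - a)) = A := by
          refine hfix _ inferInstance ?_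
          rw [Nat.card_zpowers, orderOf_pow' _ (pow_ne_zero _ hp.ne_zero), hk,
            Nat.gcd_eq_right (pow_dvd_pow p (Nat.sub_le k a)), Nat.pow_div (Nat.sub_le k a) hp.pos, ha]
          congr 1
          omega
        rw [← hself, Subgroup.mem_centralizer_iff]
        intro z hz
        rw [SetLike.mem_coe, ← hy] at hz
        obtain ⟨i, rfl⟩ := hz
        exact (((Commute.refl x).pow_left _).zpow_left i).eq
    have hPc : ∀ a ∈ (P : Subgroup G), ∀ b ∈ (P : Subgroup G), a * b = b * a := fun a ha b hb =>
      congrArg Subtype.val (Agent.PGroup.mul_comm_of_isMulCommutative hA (hall ⟨a, ha⟩) (hall ⟨b, hb⟩))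
    intro z hz
    have hle : (⊤ : Subgroup G) ≤ Subgroup.centralizer {z} := by
      rw [← Agent.Subnormal.sylow_sup_centralizer P]
      refine sup_le (fun y hy => ?_) (fun y hy => ?_)
      · exact Subgroup.mem_centralizer_singleton_iff.mpr (hPc y hy z hz)
      · exact Subgroup.mem_centralizer_singleton_iff.mpr (Subgroup.mem_centralizer_iff.mp hy z hz).symm
    exact Subgroup.mem_center_iff.mpr fun y =>
      Subgroup.mem_centralizer_singleton_iff.mp (hle (Subgroup.mem_top y))
  by_contra hcyc
  let inst : CommGroup G := { (inferInstance : Group G) with mul_comm := hcomm }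
  obtain ⟨q, b, c, hq, hb, hc, hbc⟩ := Agent.Abelian.exists_independent_of_not_isCyclic (G := G) hcyc
  obtain ⟨g, hg⟩ := hB (Subgroup.zpowers c) (Subgroup.zpowers b) inferInstance inferInstance
    (by rw [Nat.card_zpowers, Nat.card_zpowers, hb, hc])
  apply hbc
  have hbm : b ∈ Subgroup.zpowers b := Subgroup.mem_zpowers b
  rw [hg] at hbm
  obtain ⟨z, hz, rfl⟩ := hbm
  simpa [hcomm g z] using hz

end Cfsg.Agent.S3910
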