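import Cfsg.Statements.S3917
import Cfsg.Agent.Lib.Abelian.Cyclic

set_option autoImplicit false
open Cfsg

namespace Cfsg.Agent.S3917

/-- Say that a group has self-centralizing non-cyclic subgroups when every non-cyclic subgroup H satisfies C_G(H) ≤ H. A finite abelian group with self-centralizing non-cyclic subgroups is cyclic or elementary abelian of order p² for a prime p. -/
theorem result {G : Type*} [CommGroup G] [Finite G] (hX : (∀ H : Subgroup G, ¬ IsCyclic ↥H → Subgroup.centralizer (H : Set G) ≤ H)) :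
    IsCyclic G ∨ ∃ p : ℕ, p.Prime ∧ Nat.card G = p ^ 2 ∧ Monoid.exponent G = p := by
  by_cases hc : IsCyclic G
  · exact Or.inl hc
  right
  have htop : ∀ H : Subgroup G, ¬ IsCyclic ↥H → H = ⊤ := fun H hH => by
    refine top_unique (le_trans ?_ (hX H hH))
    intro x _
    exact Subgroup.mem_centralizer_iff.mpr fun h _ => mul_comm h x
  obtain ⟨p, b, c, hp, hb, hcO, hbc⟩ := Abelian.exists_independent_of_not_isCyclic hc
  have := Fact.mk hp
  set K : Subgroup G := (powMonoidHom p).ker with hK
  have hbK : b ∈ K := by simp [hK, ← hb, pow_orderOf_eq_one]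
  have hcK : c ∈ K := by simp [hK, ← hcO, pow_orderOf_eq_one]
  have hnc : ∀ H : Subgroup G, (∀ x ∈ H, x ^ p = 1) → p < Nat.card ↥H → ¬ IsCyclic ↥H := by
    intro H hH hlt hcy
    obtain ⟨u, hu⟩ := hcy.exists_generator
    have h1 : orderOf u ∣ p := orderOf_dvd_of_pow_eq_one (Subtype.ext (by simpa using hH u u.2))
    rw [orderOf_eq_card_of_forall_mem_zpowers hu] at h1
    exact absurd (Nat.le_of_dvd hp.pos h1) (by omega)
  have hlt : p < Nat.card ↥K := by
    have hle : Subgroup.zpowers c ≤ K := Subgroup.zpowers_le.mpr hcK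
    have := Subgroup.card_le_of_le hle
    rw [Nat.card_zpowers, hcO] at this
    refine lt_of_le_of_ne this fun he => hbc ?_
    rw [Subgroup.eq_of_le_of_card_ge hle (by rw [Nat.card_zpowers, hcO, ← he])]
    exact hbK
  have hKtop : K = ⊤ := htop K (hnc K (fun x hx => by simpa [hK] using hx) hlt)
  have hexp : ∀ x : G, x ^ p = 1 := fun x => by
    have : x ∈ K := hKtop ▸ Subgroup.mem_top x
    simpa [hK] using this
  obtain ⟨n, hn⟩ := IsPGroup.iff_card.mp (fun x => ⟨1, by rw [pow_one]; exact hexp x⟩ : IsPGroup p G)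
  have hn2 : 2 ≤ n := by
    by_contra! hh
    rw [hKtop, Subgroup.card_top, hn] at hlt
    have : p ^ n ≤ p ^ 1 := Nat.pow_le_pow_right hp.pos (by omega)
    rw [pow_one] at this
    omega
  obtain ⟨H, hH⟩ := Sylow.exists_subgroup_card_pow_prime p (G := G) (n := 2) (hn ▸ pow_dvd_pow p hn2)
  have hHt : H = ⊤ := htop H (hnc H (fun x _ => hexp x) (by
    rw [hH]
    exact lt_self_pow₀ hp.one_lt (by norm_num)))
  refine ⟨p, hp, by rw [← hH, hHt, Subgroup.card_top], ?_⟩
  refine ((Nat.dvd_prime hp).mp (Monoid.exponent_dvd_of_forall_pow_eq_one hexp)).resolve_left fun h1 => ?_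
  have := Monoid.exp_eq_one_iff.mp h1
  exact hc inferInstance

end Cfsg.Agent.S3917
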