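import Cfsg.Statements.S3918
import Cfsg.Agent.Lib.PGroup.UniqueOrderP
import Cfsg.Agent.Lib.PGroup.ElementaryAbelian
import Cfsg.Agent.Lib.CharInt.Central
import Mathlib

set_option autoImplicit false
open Cfsg

namespace Cfsg.Agent.S3918

universe u

theorem exists_order_p {G : Type u} [Group G] [Finite G] {p : ℕ} [Fact p.Prime] (hp : p ≠ 2)
    (hG : IsPGroup p G) {z : G} (hz : orderOf z = p) {K : Subgroup G} (hK : ¬ IsCyclic ↥K) :
    ∃ x ∈ K, orderOf x = p ∧ x ∉ Subgroup.zpowers z := by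
  by_contra hall
  push Not at hall
  have huniq : ∀ A B : Subgroup ↥K, Nat.card A = p → Nat.card B = p → A = B := by
    intro A B hA hB
    have hle : ∀ A : Subgroup ↥K, Nat.card A = p → A.map K.subtype = Subgroup.zpowers z := by
      intro A hA
      refine Subgroup.eq_of_le_of_card_ge ?_
        (by rw [Nat.card_zpowers, hz, Subgroup.card_map_of_injective K.subtype_injective, hA])
      rintro _ ⟨y, hy, rfl⟩
      by_cases hy1 : y = 1
      · subst hy1; simp
      · exact hall _ y.2 (by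
          rw [Subgroup.subtype_apply, Subgroup.orderOf_coe]
          exact orderOf_eq_prime (orderOf_dvd_iff_pow_eq_one.mp
            ((Subgroup.orderOf_dvd_natCard A hy).trans hA.dvd)) hy1)
    exact Subgroup.map_injective K.subtype_injective ((hle A hA).trans (hle B hB).symm)
  rcases PGroup.cyclic_or_quaternion_of_unique (hG.to_subgroup K) huniq with h | ⟨h, -⟩
  · exact hK h
  · exact hp h

theorem not_isCyclic_of_exp {G : Type u} [Group G] [Finite G] {p : ℕ} [Fact p.Prime] {E : Subgroup G}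
    (hexp : ∀ e ∈ E, e ^ p = 1) (hcard : Nat.card ↥E = p * p) : ¬ IsCyclic ↥E := fun hc => by
  obtain ⟨e, he⟩ := hc.exists_generator
  have h1 : orderOf e = p * p := by rw [orderOf_eq_card_of_forall_mem_zpowers he, hcard]
  have h2 : orderOf e ∣ p := orderOf_dvd_of_pow_eq_one (Subtype.ext (hexp _ e.2))
  have hp2 := (Fact.out : p.Prime).two_le
  have h3 := Nat.le_of_dvd (by omega) h2
  rw [h1] at h3
  have := Nat.mul_le_mul_right p hp2
  omega

theorem le_three {G : Type u} [Group G] [Finite G] {p n : ℕ} [hfp : Fact p.Prime] (hp : p ≠ 2)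
    (hn : Nat.card G = p ^ n) (hncyc : ¬ IsCyclic G)
    (h : ∀ H : Subgroup G, ¬ IsCyclic ↥H → Subgroup.centralizer (H : Set G) ≤ H) : n ≤ 3 := by
  by_contra hn4
  push Not at hn4
  have hG : IsPGroup p G := IsPGroup.of_card hn
  have hp' : p.Prime := hfp.out
  have htopne : (⊤ : Subgroup G) ≠ ⊥ := fun h0 => by
    have h1 : Nat.card G = 1 := by rw [← Subgroup.card_top, h0, Subgroup.card_bot]
    rw [hn] at h1
    exact (Nat.one_lt_pow (by omega) hp'.one_lt).ne' h1
  obtain ⟨z, -, hzc, hzo⟩ := PGroup.exists_orderOf_eq_mem_center hG ⊤ htopne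
  have hzn : (Subgroup.zpowers z).Normal := ⟨fun a ha g => by
    rw [Subgroup.mem_center_iff.mp (Subgroup.zpowers_le.mpr hzc ha) g, mul_inv_cancel_right]
    exact ha⟩
  have hzcomm : ∀ c ∈ Subgroup.zpowers z, ∀ g, c * g = g * c := fun c hc g =>
    (Subgroup.mem_center_iff.mp (Subgroup.zpowers_le.mpr hzc hc) g).symm
  -- the noncyclic subgroups `⟨z, w⟩`
  have hpair : ∀ w, w ^ p = 1 → w ∉ Subgroup.zpowers z →
      Nat.card ↥(Subgroup.zpowers z ⊔ Subgroup.zpowers w) = p * p ∧
      (∀ e ∈ Subgroup.zpowers z ⊔ Subgroup.zpowers w, e ^ p = 1) ∧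
      Subgroup.centralizer ({w} : Set G) ≤ Subgroup.zpowers z ⊔ Subgroup.zpowers w := by
    intro w hw hwz
    have hel := PGroup.isElementaryAbelian_sup (p := p)
      (PGroup.isElementaryAbelian_zpowers (x := z) (by rw [← hzo, pow_orderOf_eq_one]))
      (PGroup.isElementaryAbelian_zpowers (x := w) hw) (fun c hc d _ => hzcomm c hc d)
    have hcard : Nat.card ↥(Subgroup.zpowers z ⊔ Subgroup.zpowers w) = p * p := by
      rw [PGroup.card_sup_zpowers _ hwz (by rw [hw]; exact one_mem _), Nat.card_zpowers, hzo]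
    refine ⟨hcard, hel.2, fun c hc => h _ (not_isCyclic_of_exp hel.2 hcard) ?_⟩
    have hle : Subgroup.zpowers z ⊔ Subgroup.zpowers w ≤ Subgroup.centralizer ({c} : Set G) := by
      refine sup_le (fun d hd => ?_) (Subgroup.zpowers_le.mpr ?_)
      · exact Subgroup.mem_centralizer_singleton_iff.mpr (hzcomm d hd c)
      · exact Subgroup.mem_centralizer_singleton_iff.mpr
          (Subgroup.mem_centralizer_singleton_iff.mp hc).symm
    exact fun d hd => Subgroup.mem_centralizer_singleton_iff.mp (hle hd)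
  -- an element central modulo `⟨z⟩`
  have hQ : IsPGroup p (G ⧸ Subgroup.zpowers z) := hG.to_quotient _
  have hQne : (⊤ : Subgroup (G ⧸ Subgroup.zpowers z)) ≠ ⊥ := fun h0 => by
    have h1 : Nat.card (G ⧸ Subgroup.zpowers z) = 1 := by rw [← Subgroup.card_top, h0, Subgroup.card_bot]
    have h2 := (Subgroup.zpowers z).card_mul_index
    rw [Subgroup.index_eq_card, h1, mul_one, Nat.card_zpowers, hzo, hn] at h2
    have := Nat.pow_right_injective hp'.two_le ((pow_one p).trans h2)
    omega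
  obtain ⟨y', -, hy'c, hy'o⟩ := PGroup.exists_orderOf_eq_mem_center hQ ⊤ hQne
  obtain ⟨y, rfl⟩ := QuotientGroup.mk'_surjective _ y'
  have hyz : y ∉ Subgroup.zpowers z := fun hy => by
    rw [show QuotientGroup.mk' _ y = 1 from (QuotientGroup.eq_one_iff y).mpr hy, orderOf_one] at hy'o
    exact hp'.ne_one hy'o.symm
  have hypz : y ^ p ∈ Subgroup.zpowers z := by
    refine (QuotientGroup.eq_one_iff _).mp ?_
    show QuotientGroup.mk' (Subgroup.zpowers z) (y ^ p) = 1
    rw [map_pow, ← hy'o, pow_orderOf_eq_one]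
  set M := Subgroup.centralizer ({y} : Set G)
  have hMidx : M.index ≤ p := by
    rw [← CharInt.natCard_isConj y, ← hzo, ← Nat.card_zpowers]
    refine Nat.card_le_card_of_injective (fun c => (⟨c.1 * y⁻¹, ?_⟩ : ↥(Subgroup.zpowers z)))
      fun a b hab => Subtype.ext (mul_right_cancel (congrArg Subtype.val hab))
    obtain ⟨g, hg⟩ := isConj_iff.mp c.2
    refine (QuotientGroup.eq_one_iff _).mp ?_
    show QuotientGroup.mk' (Subgroup.zpowers z) (c.1 * y⁻¹) = 1
    rw [← hg, map_mul, map_mul, map_mul, map_inv, map_inv, Subgroup.mem_center_iff.mp hy'c, mul_inv_cancel_right,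
      mul_inv_cancel]
  by_cases hy1 : y ^ p = 1
  · -- the noncyclic case
    have h1 := M.card_mul_index
    obtain ⟨hc, -, hle⟩ := hpair y hy1 hyz
    have h2 : Nat.card ↥M ≤ p * p := hc ▸ Subgroup.card_le_of_le hle
    have h3 : p ^ n ≤ p ^ 3 := by
      rw [← hn, ← h1, show p ^ 3 = p * p * p by ring]
      exact Nat.mul_le_mul h2 hMidx
    have := (Nat.pow_le_pow_iff_right hp'.one_lt).mp h3
    omega
  -- now `y` has order `p ^ 2`
  have hnotc : ∀ w, w ^ p = 1 → w ∉ Subgroup.zpowers z → w ∉ M := fun w hw hwz hwM => hy1 <| by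
    obtain ⟨-, hexp, hle⟩ := hpair w hw hwz
    exact hexp y (hle (Subgroup.mem_centralizer_singleton_iff.mpr
      (Subgroup.mem_centralizer_singleton_iff.mp hwM).symm))
  have hMcyc : IsCyclic ↥M := by
    by_contra hc
    obtain ⟨w, hwM, hwo, hwz⟩ := exists_order_p hp hG hzo hc
    exact hnotc w (by rw [← hwo, pow_orderOf_eq_one]) hwz hwM
  obtain ⟨x, -, hxo, hxz⟩ := exists_order_p hp hG hzo (K := ⊤)
    (fun hc => hncyc (Subgroup.topEquiv.isCyclic.mp hc))
  have hxp : x ^ p = 1 := by rw [← hxo, pow_orderOf_eq_one]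
  have hxM := hnotc x hxp hxz
  obtain ⟨k, hk⟩ := (hG.to_subgroup M).exists_card_eq
  have hidx : M.index = p := by
    obtain ⟨j, hj⟩ := hG.index M
    rcases j with _ | _ | j
    · exact absurd (Subgroup.index_eq_one.mp (by rw [hj, pow_zero]) ▸ Subgroup.mem_top x) hxM
    · rw [hj, pow_one]
    · exfalso
      have h1 := (Nat.pow_le_pow_iff_right hp'.one_lt).mp ((hj ▸ hMidx).trans_eq (pow_one p).symm)
      omega
  have hMn : M.Normal := Subgroup.normal_of_index_eq_minFac_card (by
    rw [hidx, hn, Nat.pow_minFac (by omega), hp'.minFac_eq])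
  have hkn : k = n - 1 := by
    have h1 := M.card_mul_index
    rw [hk, hidx, hn, ← pow_succ] at h1
    have := Nat.pow_right_injective hp'.two_le h1
    omega
  obtain ⟨a, ha⟩ := hMcyc.exists_generator
  have hao : orderOf (a : G) = p ^ k := by
    rw [Subgroup.orderOf_coe, orderOf_eq_card_of_forall_mem_zpowers ha, hk]
  obtain ⟨r, hr⟩ : ∃ r : ℕ, (a : G) ^ r = x * a * x⁻¹ := by
    have h1 : (⟨x * a * x⁻¹, hMn.conj_mem _ a.2 x⟩ : ↥M) ∈ Submonoid.powers a := by
      rw [(isOfFinOrder_of_finite a).mem_powers_iff_mem_zpowers]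
      exact ha _
    obtain ⟨r, hr⟩ := h1
    exact ⟨r, congrArg Subtype.val hr⟩
  have hiter : ∀ i : ℕ, x ^ i * a * (x ^ i)⁻¹ = (a : G) ^ r ^ i := by
    intro i
    induction i with
    | zero => simp
    | succ i ih =>
      rw [show x ^ (i + 1) * (a : G) * (x ^ (i + 1))⁻¹ = x * (x ^ i * a * (x ^ i)⁻¹) * x⁻¹ by
        rw [pow_succ', mul_inv_rev]; group, ih, ← conj_pow, ← hr, ← pow_mul, ← pow_succ']
  have hmod : r ^ p ≡ 1 [MOD p ^ k] := by
    rw [← hao, ← pow_eq_pow_iff_modEq, pow_one, ← hiter p, hxp]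
    simp
  have hrp : (r : ZMod (p ^ k)) ^ p = 1 := by
    rw [← Nat.cast_pow, ← Nat.cast_one, ZMod.natCast_eq_natCast_iff]
    exact hmod
  obtain ⟨t, ht⟩ : (p : ℤ) ∣ (r : ℤ) - 1 := by
    rw [← ZMod.intCast_zmod_eq_zero_iff_dvd]
    have h1 : ((r ^ p : ℕ) : ZMod p) = ((1 : ℕ) : ZMod p) := by
      rw [ZMod.natCast_eq_natCast_iff]
      exact hmod.of_dvd (dvd_pow_self p (by omega))
    rw [Nat.cast_pow, ZMod.pow_card, Nat.cast_one] at h1
    push_cast
    rw [h1, sub_self]
  have htp : (p : ℤ) ∣ t := by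
    by_contra hh
    have h1 := ZMod.orderOf_one_add_mul_prime hp' hp t hh (k - 1)
    rw [show k - 1 + 1 = k by omega] at h1
    have hcast : (r : ZMod (p ^ k)) = 1 + p * t := by
      have h2 : ((r : ℤ) : ZMod (p ^ k)) = ((1 + p * t : ℤ) : ZMod (p ^ k)) := by
        congr 1
        linarith
      push_cast at h2
      exact h2
    have h2 : orderOf (1 + p * t : ZMod (p ^ k)) ∣ p := orderOf_dvd_of_pow_eq_one (hcast ▸ hrp)
    rw [h1] at h2
    have := Nat.le_of_dvd hp'.pos h2
    have h3 := (Nat.pow_le_pow_iff_right hp'.one_lt).mp (this.trans_eq (pow_one p).symm)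
    omega
  -- a power of `a` of order `p ^ 2` commuting with `x`
  obtain ⟨b, hb⟩ : ∃ b : G, b = (a : G) ^ p ^ (k - 2) := ⟨_, rfl⟩
  have hbo : orderOf b = p ^ 2 := by
    rw [hb, orderOf_pow' _ (pow_ne_zero _ hp'.ne_zero), hao, Nat.gcd_eq_right (pow_dvd_pow p (Nat.sub_le k 2)),
      Nat.pow_div (Nat.sub_le k 2) hp'.pos, show k - (k - 2) = 2 by omega]
  have hbx : x * b * x⁻¹ = b := by
    rw [hb, ← conj_pow, ← hr, ← pow_mul, mul_comm r, pow_mul, ← hb]
    conv_rhs => rw [← pow_one b]
    rw [pow_eq_pow_iff_modEq, hbo]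
    refine ((Nat.modEq_iff_dvd).mpr ?_).symm
    obtain ⟨u, rfl⟩ := htp
    exact ⟨u, by push_cast; linarith⟩
  obtain ⟨-, hexp, hle⟩ := hpair x hxp hxz
  have hbp := hexp b (hle (Subgroup.mem_centralizer_singleton_iff.mpr (by
    rw [mul_inv_eq_iff_eq_mul] at hbx
    exact hbx.symm)))
  have h1 := orderOf_dvd_of_pow_eq_one hbp
  rw [hbo] at h1
  have h2 := (Nat.pow_le_pow_iff_right hp'.one_lt).mp ((Nat.le_of_dvd hp'.pos h1).trans_eq (pow_one p).symm)
  omega

/-- Say that a group has self-centralizing non-cyclic subgroups when every non-cyclic subgroup H satisfies C_G(H) ≤ H. For an odd prime p, a finite non-abelian p-group has self-centralizing non-cyclic subgroups if and only if it has order p³. -/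
theorem result {G : Type*} [Group G] [Finite G] {p : ℕ} [Fact p.Prime] (hp : p ≠ 2) (hG : IsPGroup p G) (hna : ¬ IsMulCommutative G) :
    (∀ H : Subgroup G, ¬ IsCyclic ↥H → Subgroup.centralizer (H : Set G) ≤ H) ↔ Nat.card G = p ^ 3 := by
  have hp' : p.Prime := Fact.out
  obtain ⟨n, hn⟩ := IsPGroup.iff_card.mp hG
  have hncyc : ¬ IsCyclic G := fun hc => hna hc.isMulCommutative
  constructor
  · intro h
    have h3 := le_three hp hn hncyc h
    have : 3 ≤ n := by
      by_contra hlt
      rcases (show n = 2 ∨ n = 1 ∨ n = 0 by omega) with rfl | rfl | rfl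
      · exact hna (IsPGroup.isMulCommutative_of_card_eq_prime_sq hn)
      · exact hncyc (isCyclic_of_prime_card (p := p) (by rw [hn, pow_one]))
      · have := (Nat.card_eq_one_iff_unique.mp (by rw [hn, pow_zero] : Nat.card G = 1)).1
        exact hncyc inferInstance
    rw [hn, show n = 3 by omega]
  · intro hcard H hH
    obtain ⟨k, hk⟩ := (hG.to_subgroup H).exists_card_eq
    have hk3 : k ≤ 3 := (Nat.pow_dvd_pow_iff_le_right hp'.one_lt).mp
      (hk ▸ hcard ▸ Subgroup.card_subgroup_dvd_card H)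
    rcases (show k = 3 ∨ k = 2 ∨ k = 1 ∨ k = 0 by omega) with rfl | rfl | rfl | rfl
    · rw [show H = ⊤ from Subgroup.eq_top_of_card_eq H (by rw [hk, hcard])]
      exact le_top
    · have hHc : IsMulCommutative ↥H := IsPGroup.isMulCommutative_of_card_eq_prime_sq hk
      obtain ⟨j, hj⟩ := (hG.to_subgroup (Subgroup.centralizer (H : Set G))).exists_card_eq
      have hle : H ≤ Subgroup.centralizer (H : Set G) := Subgroup.le_centralizer H
      have hj3 : j ≤ 3 := (Nat.pow_dvd_pow_iff_le_right hp'.one_lt).mp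
        (hj ▸ hcard ▸ Subgroup.card_subgroup_dvd_card _)
      have hj2 : 2 ≤ j := (Nat.pow_dvd_pow_iff_le_right hp'.one_lt).mp (hj ▸ hk ▸ Subgroup.card_dvd_of_le hle)
      rcases (show j = 2 ∨ j = 3 by omega) with rfl | rfl
      · exact (Subgroup.eq_of_le_of_card_ge hle (by rw [hj, hk])).ge
      · exfalso
        have htop : Subgroup.centralizer (H : Set G) = ⊤ := Subgroup.eq_top_of_card_eq _ (by rw [hj, hcard])
        have hHz : H ≤ Subgroup.center G := Subgroup.centralizer_eq_top_iff_subset.mp htop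
        have : H.Normal := ⟨fun a ha g => by
          rw [Subgroup.mem_center_iff.mp (hHz ha) g, mul_inv_cancel_right]; exact ha⟩
        have : IsCyclic (G ⧸ H) := isCyclic_of_prime_card (p := p) (by
          have h1 := H.card_mul_index
          rw [hk, hcard, Subgroup.index_eq_card] at h1
          exact Nat.eq_of_mul_eq_mul_left (pow_pos hp'.pos 2) (h1.trans (pow_succ p 2)))
        exact hna (MonoidHom.isMulCommutative_of_isCyclic_of_ker_le_center (QuotientGroup.mk' H) (by
          rw [QuotientGroup.ker_mk']; exact hHz))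
    · exact absurd (isCyclic_of_prime_card (p := p) (by rw [hk, pow_one])) hH
    · have := (Nat.card_eq_one_iff_unique.mp (by rw [hk, pow_zero] : Nat.card ↥H = 1)).1
      exact absurd isCyclic_of_subsingleton hH

end Cfsg.Agent.S3918
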