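import Cfsg.Statements.S3919
import Cfsg.Agent.Lib.PGroup.MaximalClassTwo
import Cfsg.Agent.Lib.PGroup.UniqueOrderP

set_option autoImplicit false
open Cfsg

namespace Cfsg.Agent.S3919

/-- Say that a group has self-centralizing non-cyclic subgroups when every non-cyclic subgroup H satisfies C_G(H) ≤ H. A finite non-abelian 2-group G of order 2^n has self-centralizing non-cyclic subgroups if and only if G has nilpotency class n − 1 (that is, G is dihedral, semidihedral or generalized quaternion). -/
theorem result {G : Type*} [Group G] [Finite G] (hna : ¬ IsMulCommutative G) (n : ℕ) (hG : Nat.card G = 2 ^ n) :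
    (∀ H : Subgroup G, ¬ IsCyclic ↥H → Subgroup.centralizer (H : Set G) ≤ H) ↔ (⊤ : Subgroup G).lowerCentralSeries (n - 2) ≠ ⊥ := by
  have : Fact (Nat.Prime 2) := ⟨Nat.prime_two⟩
  have hP := IsPGroup.of_card hG
  have := hP.isNilpotent
  have hn3 : 3 ≤ n := by
    by_contra h
    apply hna
    rcases (show n = 2 ∨ n ≤ 1 by omega) with rfl | h1
    · exact IsPGroup.isMulCommutative_of_card_eq_prime_sq hG
    · have hc : IsCyclic G := PGroup.isCyclic_of_index_commutator_le hP
        ((Nat.le_of_dvd Nat.card_pos (Subgroup.index_dvd_card _)).trans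
          (hG ▸ (Nat.pow_le_pow_right (by norm_num) h1)))
      exact hc.isMulCommutative
  have hclass : (commutator G).index = 4 ↔ (⊤ : Subgroup G).lowerCentralSeries (n - 2) ≠ ⊥ := by
    constructor
    · intro h hbot
      rw [Subgroup.lowerCentralSeries_eq_bot_iff_nilpotencyClass_le,
        PGroup.class_of_commutator_index_four hn3 hG h] at hbot
      omega
    · intro h
      refine PGroup.index_commutator_of_maximal hn3 hG (le_antisymm
        (Subgroup.lowerCentralSeries_eq_bot_iff_nilpotencyClass_le.mp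
          (PGroup.lcs_eq_bot_of_card (by omega) hG)) ?_)
      by_contra hlt
      exact h (Subgroup.lowerCentralSeries_eq_bot_iff_nilpotencyClass_le.mpr (by omega))
  rw [← hclass]
  obtain ⟨m, rfl⟩ : ∃ m, n = m + 1 := ⟨n - 1, by omega⟩
  have hnt : (⊤ : Subgroup G) ≠ ⊥ := fun h => by
    have h1 : Nat.card G = 1 := by rw [← Subgroup.card_top, h, Subgroup.card_bot]
    rw [hG] at h1
    exact absurd h1 (Nat.one_lt_pow (by omega) (by norm_num)).ne'
  constructor
  · intro hsc
    obtain ⟨z, -, hzc, hzo⟩ := PGroup.exists_orderOf_eq_mem_center hP ⊤ hnt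
    by_cases hu : ∀ H K : Subgroup G, Nat.card H = 2 → Nat.card K = 2 → H = K
    · rcases PGroup.cyclic_or_quaternion_of_unique hP hu with h | ⟨-, k, -, hk, ⟨e⟩⟩
      · exact absurd h.isMulCommutative hna
      · have hkm : m = k + 1 := by
          rw [hG] at hk
          have := Nat.pow_right_injective le_rfl hk
          omega
        refine PGroup.index_commutator_eq_four_of_inverted hG hna
          (a := e.symm (QuaternionGroup.a 1)) (b := e.symm (QuaternionGroup.xa 0)) ?_ ?_
        · rw [MulEquiv.orderOf_eq, QuaternionGroup.orderOf_a_one, hkm, pow_succ']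
        · rw [← map_inv, ← map_mul, ← map_mul, ← map_inv]
          congr 1
          rw [mul_inv_eq_iff_eq_mul, eq_inv_mul_iff_mul_eq]
          simp
    · push Not at hu
      obtain ⟨H, K, hH, hK, hne⟩ := hu
      obtain ⟨x, hxo, hxz⟩ : ∃ x : G, orderOf x = 2 ∧ x ∉ Subgroup.zpowers z := by
        by_contra! hall
        have hle : ∀ L : Subgroup G, Nat.card L = 2 → L = Subgroup.zpowers z := by
          intro L hL
          refine Subgroup.eq_of_le_of_card_ge (fun y hy => ?_) (by rw [Nat.card_zpowers, hzo, hL])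
          by_cases hy1 : y = 1
          · exact hy1 ▸ one_mem _
          · exact hall y (orderOf_eq_prime
              (orderOf_dvd_iff_pow_eq_one.mp (hL ▸ Subgroup.orderOf_dvd_natCard L hy)) hy1)
        exact hne ((hle H hH).trans (hle K hK).symm)
      have hx2 : x ^ 2 = 1 := by rw [← hxo, pow_orderOf_eq_one]
      set V := Subgroup.zpowers z ⊔ Subgroup.zpowers x with hV
      have hzn : (Subgroup.zpowers z).Normal := ⟨fun a ha g => by
        rw [Subgroup.mem_center_iff.mp (Subgroup.zpowers_le.mpr hzc ha) g, mul_inv_cancel_right]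
        exact ha⟩
      have hVc : Nat.card ↥V = 4 := by
        rw [hV, PGroup.card_sup_zpowers _ hxz (by rw [hx2]; exact one_mem _), Nat.card_zpowers, hzo]
      have hVnc : ¬ IsCyclic ↥V := fun hc => by
        obtain ⟨y, hy⟩ := (Subgroup.isCyclic_iff_exists_zpowers_eq_top V).mp hc
        have hyV : y ∈ V := hy ▸ Subgroup.mem_zpowers y
        have hy2 : y ^ 2 = 1 := by
          have hel := PGroup.isElementaryAbelian_sup (p := 2)
            (PGroup.isElementaryAbelian_zpowers (x := z) (by rw [← hzo, pow_orderOf_eq_one]))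
            (PGroup.isElementaryAbelian_zpowers (x := x) hx2)
            (fun c hc d _ => (Subgroup.mem_center_iff.mp (Subgroup.zpowers_le.mpr hzc hc) d).symm)
          exact hel.2 y hyV
        have h1 := Nat.le_of_dvd two_pos (orderOf_dvd_of_pow_eq_one hy2)
        rw [← Nat.card_zpowers, hy, hVc] at h1
        omega
      refine PGroup.index_commutator_eq_four_of_centralizer hG hna x ?_
      have hxV : x ∈ V := Subgroup.mem_sup_right (Subgroup.mem_zpowers x)
      have hVeq : Subgroup.centralizer ({x} : Set G) = V := by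
        refine le_antisymm (fun c hc => hsc V hVnc ?_) (sup_le (fun c hc => ?_) ?_)
        · have hVle : V ≤ Subgroup.centralizer ({c} : Set G) := by
            refine sup_le (fun d hd => ?_) (Subgroup.zpowers_le.mpr ?_)
            · exact Subgroup.mem_centralizer_singleton_iff.mpr
                (Subgroup.mem_center_iff.mp (Subgroup.zpowers_le.mpr hzc hd) c).symm
            · exact Subgroup.mem_centralizer_singleton_iff.mpr
                (Subgroup.mem_centralizer_singleton_iff.mp hc).symm
          exact fun d hd => Subgroup.mem_centralizer_singleton_iff.mp (hVle hd)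
        · exact Subgroup.mem_centralizer_singleton_iff.mpr
            (Subgroup.mem_center_iff.mp (Subgroup.zpowers_le.mpr hzc hc) x).symm
        · exact Subgroup.zpowers_le.mpr (Subgroup.mem_centralizer_singleton_iff.mpr rfl)
      rw [hVeq, hVc]
  · intro hidx H hH c hc
    obtain ⟨a, b, ha, hb, hgen, hrel⟩ :=
      PGroup.two_group_commutator_index_four (by omega : 2 ≤ m) hG hidx
    obtain ⟨h, hhH, hhA⟩ : ∃ h ∈ H, h ∉ Subgroup.zpowers a := by
      by_contra! hle
      exact hH (isCyclic_of_injective (Subgroup.inclusion (show H ≤ Subgroup.zpowers a from hle))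
        (Subgroup.inclusion_injective _))
    obtain ⟨r, v, hr, hrv, hv⟩ := PGroup.two_group_relations hrel
    obtain ⟨i, hi | hi⟩ := PGroup.two_group_elements hG ha hb h
    · exact absurd ⟨i, hi.symm⟩ hhA
    set z := a ^ 2 ^ (m - 1) with hz
    have hA3 : ∀ j : ℤ, (a ^ j) ^ 2 = 1 → a ^ j ∈ Subgroup.zpowers z := by
      intro j h1
      rw [← zpow_natCast, ← zpow_mul, ← orderOf_dvd_iff_zpow_eq_one, ha] at h1
      obtain ⟨q, hq⟩ := h1
      refine ⟨q, ?_⟩
      show z ^ q = a ^ j
      rw [hz, ← zpow_natCast, ← zpow_mul]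
      congr 1
      rw [Nat.cast_pow, Nat.cast_ofNat] at hq ⊢
      rw [show (2 : ℤ) ^ m = 2 ^ (m - 1) * 2 by rw [← pow_succ]; congr 1; omega] at hq
      linarith
    have hA2 : ∀ j : ℤ, h * a ^ j * h⁻¹ = a ^ j → a ^ j ∈ Subgroup.zpowers z := by
      intro j hj
      have hbj : b * a ^ j * b⁻¹ = a ^ j := by
        rw [hi] at hj
        calc b * a ^ j * b⁻¹ = b * a ^ i * a ^ j * (b * a ^ i)⁻¹ := by group
          _ = a ^ j := hj
      exact hA3 j (PGroup.sq_eq_one_of_fixed ha hr hrv hv hbj)
    have hzH : z ∈ H := by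
      by_contra hzH
      have hHA : ∀ w ∈ H, w ∈ Subgroup.zpowers a → w = 1 := by
        intro w hwH hwA
        by_contra hw1
        obtain ⟨k, hk⟩ := IsPGroup.iff_orderOf.mp hP w
        have hk0 : k ≠ 0 := fun h0 => hw1 (orderOf_eq_one_iff.mp (by rw [hk, h0, pow_zero]))
        set u := w ^ 2 ^ (k - 1) with hu
        have huo : orderOf u = 2 := by
          rw [hu, orderOf_pow' w (by positivity), hk, Nat.gcd_eq_right (pow_dvd_pow 2 (by omega)),
            Nat.pow_div (by omega) (by norm_num), show k - (k - 1) = 1 by omega, pow_one]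
        obtain ⟨j, hj⟩ : u ∈ Subgroup.zpowers a := Subgroup.pow_mem _ hwA _
        simp only at hj
        have hu2 : (a ^ j) ^ 2 = 1 := by rw [hj, ← huo, pow_orderOf_eq_one]
        have huz : u ∈ Subgroup.zpowers z := hj ▸ hA3 j hu2
        have hzo : Nat.card ↥(Subgroup.zpowers z) = 2 := by
          rw [Nat.card_zpowers, hz, orderOf_pow' a (by positivity), ha,
            Nat.gcd_eq_right (pow_dvd_pow 2 (by omega)), Nat.pow_div (by omega) (by norm_num),
            show m - (m - 1) = 1 by omega, pow_one]
        have heq : Subgroup.zpowers u = Subgroup.zpowers z :=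
          Subgroup.eq_of_le_of_card_ge (Subgroup.zpowers_le.mpr huz) (by rw [hzo, Nat.card_zpowers, huo])
        exact hzH (Subgroup.zpowers_le.mpr (Subgroup.pow_mem _ hwH _) (heq ▸ Subgroup.mem_zpowers z))
      refine hH (isCyclic_iff_exists_zpowers_eq_top.mpr ⟨⟨h, hhH⟩, (Subgroup.eq_top_iff' _).mpr ?_⟩)
      rintro ⟨w, hw⟩
      have hA : (Subgroup.zpowers a).index = 2 := by
        have h := Subgroup.card_mul_index (Subgroup.zpowers a)
        rw [Nat.card_zpowers, ha, hG, pow_succ] at h
        exact Nat.eq_of_mul_eq_mul_left (Nat.pow_pos two_pos) h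
      by_cases hwA : w ∈ Subgroup.zpowers a
      · rw [show (⟨w, hw⟩ : ↥H) = 1 from Subtype.ext (hHA w hw hwA)]
        exact one_mem _
      · have h1 : h⁻¹ * w ∈ Subgroup.zpowers a := by
          rw [Subgroup.mul_mem_iff_of_index_two hA, inv_mem_iff]
          exact iff_of_false hhA hwA
        have h2 := hHA _ (mul_mem (inv_mem hhH) hw) h1
        rw [show (⟨w, hw⟩ : ↥H) = ⟨h, hhH⟩ from Subtype.ext (inv_mul_eq_one.mp h2).symm]
        exact Subgroup.mem_zpowers _
    have hch : h * c = c * h := hc h hhH
    obtain ⟨j, hj | hj⟩ := PGroup.two_group_elements hG ha hb c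
    · rw [hj] at hch ⊢
      exact Subgroup.zpowers_le.mpr hzH (hA2 j (mul_inv_eq_iff_eq_mul.mpr hch))
    · have hh1 : h⁻¹ * c = a ^ (j - i) := by
        rw [hi, hj, sub_eq_neg_add, zpow_add, zpow_neg]; group
      have hfix : h * (h⁻¹ * c) * h⁻¹ = h⁻¹ * c := by
        calc h * (h⁻¹ * c) * h⁻¹ = c * h⁻¹ := by group
          _ = h⁻¹ * (h * c) * h⁻¹ := by group
          _ = h⁻¹ * c := by rw [hch]; group
      rw [hh1] at hfix
      have hmem := Subgroup.zpowers_le.mpr hzH (hA2 _ hfix)
      rw [← hh1] at hmem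
      simpa using mul_mem hhH hmem

end Cfsg.Agent.S3919
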