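import Cfsg.Statements.S3920
import Mathlib

set_option autoImplicit false
open Cfsg

namespace Cfsg.Agent.S3920

/-- The index of an element. -/
def idx {n : ℕ} : DihedralGroup n → ZMod n
  | DihedralGroup.r i => i
  | DihedralGroup.sr i => i

/-- The dihedral subgroup over a subgroup of rotations. -/
def dih {n : ℕ} (S : AddSubgroup (ZMod n)) : Subgroup (DihedralGroup n) where
  carrier := {x | idx x ∈ S}
  one_mem' := S.zero_mem
  mul_mem' := by
    rintro (a | a) (b | b) ha hb
    · exact S.add_mem ha hb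
    · exact S.sub_mem hb ha
    · exact S.add_mem ha hb
    · exact S.sub_mem hb ha
  inv_mem' := by
    rintro (a | a) ha
    · exact S.neg_mem ha
    · exact ha

theorem sub_eq_half {n : ℕ} [NeZero n] {a : ZMod n} (h : a + a = 0) :
    a = 0 ∨ (2 ∣ n ∧ a = ((n / 2 : ℕ) : ZMod n)) := by
  have hv : ((a.val + a.val : ℕ) : ZMod n) = 0 := by
    rw [Nat.cast_add, ZMod.natCast_zmod_val, h]
  rw [ZMod.natCast_eq_zero_iff] at hv
  obtain ⟨c, hc⟩ := hv
  have hlt := a.val_lt
  have hc2 : c < 2 := by
    by_contra hh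
    have := Nat.mul_le_mul_left n (show 2 ≤ c by omega)
    omega
  interval_cases c
  · left
    rw [← ZMod.natCast_zmod_val a, show a.val = 0 by omega, Nat.cast_zero]
  · right
    refine ⟨⟨a.val, by omega⟩, ?_⟩
    rw [show n / 2 = a.val by omega, ZMod.natCast_zmod_val]


/-- Say that a group has self-centralizing non-cyclic subgroups when every non-cyclic subgroup H satisfies C_G(H) ≤ H. For n ≥ 3, the dihedral group of order 2n has self-centralizing non-cyclic subgroups if and only if n is odd or a power of 2. -/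
theorem result (n : ℕ) (hn : 3 ≤ n) : (∀ H : Subgroup (DihedralGroup n), ¬ IsCyclic ↥H → Subgroup.centralizer (H : Set (DihedralGroup n)) ≤ H) ↔ (Odd n ∨ ∃ k : ℕ, n = 2 ^ k) := by
  have : NeZero n := ⟨by omega⟩
  constructor
  · intro h
    by_contra hcon
    obtain ⟨hnodd, hnpow⟩ := not_or.mp hcon
    obtain ⟨m, hm⟩ := even_iff_two_dvd.mp (Nat.not_odd_iff_even.mp hnodd)
    obtain ⟨q, hq, hqn, hqodd⟩ : ∃ q : ℕ, q.Prime ∧ q ∣ n ∧ q ≠ 2 := by
      by_contra hh
      push Not at hh
      exact hnpow ⟨_, Nat.eq_prime_pow_of_unique_prime_dvd (by omega) fun {d} hd hdn => hh d hd hdn⟩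
    obtain ⟨e, he⟩ := hqn
    set S : AddSubgroup (ZMod n) := AddSubgroup.zmultiples (e : ZMod n) with hS
    have hq0 : ∀ a ∈ S, (q : ℕ) • a = 0 := by
      rintro _ ⟨i, rfl⟩
      show q • (i • (e : ZMod n)) = 0
      rw [smul_comm, nsmul_eq_mul, ← Nat.cast_mul, ← he, ZMod.natCast_self, smul_zero]
    have hH : ¬ IsCyclic ↥(dih S) := by
      intro hc
      have hcomm := hc.isMulCommutative.is_comm.comm
        (⟨DihedralGroup.r (e : ZMod n), AddSubgroup.mem_zmultiples _⟩ : ↥(dih S))
        ⟨DihedralGroup.sr 0, S.zero_mem⟩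
      have h1 := congrArg Subtype.val hcomm
      simp only [Subgroup.coe_mul, DihedralGroup.r_mul_sr, DihedralGroup.sr_mul_r, DihedralGroup.sr.injEq,
        zero_sub, zero_add] at h1
      have h2 : ((2 * e : ℕ) : ZMod n) = 0 := by
        rw [Nat.cast_mul, Nat.cast_two, two_mul]
        nth_rw 1 [← h1]
        exact neg_add_cancel _
      rw [ZMod.natCast_eq_zero_iff, he] at h2
      have he0 : 0 < e := Nat.pos_of_ne_zero fun h0 => by rw [h0, mul_zero] at he; omega
      exact hqodd ((Nat.prime_dvd_prime_iff_eq hq Nat.prime_two).mp (Nat.dvd_of_mul_dvd_mul_right he0 h2))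
    have hmem := h (dih S) hH (show DihedralGroup.r (m : ZMod n) ∈ Subgroup.centralizer (dih S : Set _) from ?_)
    · have h1 : ((q * m : ℕ) : ZMod n) = 0 := by rw [Nat.cast_mul, ← nsmul_eq_mul]; exact hq0 _ hmem
      rw [ZMod.natCast_eq_zero_iff, hm] at h1
      exact hqodd ((Nat.prime_dvd_prime_iff_eq Nat.prime_two hq).mp
        (Nat.dvd_of_mul_dvd_mul_right (show 0 < m by omega) h1)).symm
    · rw [Subgroup.mem_centralizer_iff]
      have hmm : (m : ZMod n) + m = 0 := by
        rw [← Nat.cast_add, show m + m = n by omega, ZMod.natCast_self]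
      rintro (a | a) -
      · simp only [DihedralGroup.r_mul_r, add_comm]
      · simp only [DihedralGroup.sr_mul_r, DihedralGroup.r_mul_sr, DihedralGroup.sr.injEq]
        rw [sub_eq_add_neg, add_right_inj]
        exact eq_neg_of_add_eq_zero_left hmm
  · intro hn' H hH c hc
    obtain ⟨j, hj⟩ : ∃ j, DihedralGroup.sr j ∈ H := by
      by_contra hh
      push Not at hh
      refine hH (isCyclic_of_injective (Subgroup.inclusion (show H ≤ Subgroup.zpowers (DihedralGroup.r (1 : ZMod n)) from ?_))
        (Subgroup.inclusion_injective _))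
      rintro (i | i) hi
      · rw [← ZMod.natCast_zmod_val i, ← DihedralGroup.r_one_pow]
        exact Subgroup.pow_mem _ (Subgroup.mem_zpowers _) _
      · exact absurd hi (hh i)
    -- the central involution lies in `H` when `n` is even
    have hz : 2 ∣ n → DihedralGroup.r ((n / 2 : ℕ) : ZMod n) ∈ H := by
      intro h2
      obtain ⟨k, hk⟩ := hn'.resolve_left (Nat.not_odd_iff_even.mpr (even_iff_two_dvd.mpr h2))
      obtain ⟨i, hi, hi0⟩ : ∃ i, DihedralGroup.r i ∈ H ∧ i ≠ 0 := by
        by_contra hh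
        push Not at hh
        refine hH (isCyclic_iff_exists_zpowers_eq_top.mpr ⟨⟨_, hj⟩, (Subgroup.eq_top_iff' _).mpr ?_⟩)
        rintro ⟨x, hx⟩
        rcases x with i | i
        · obtain rfl := hh i hx
          rw [show (⟨DihedralGroup.r 0, hx⟩ : ↥H) = 1 from Subtype.ext DihedralGroup.r_zero]
          exact one_mem _
        · have h3 := H.mul_mem hj hx
          rw [DihedralGroup.sr_mul_sr] at h3
          have h4 := sub_eq_zero.mp (hh _ h3)
          subst h4
          exact Subgroup.mem_zpowers _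
      obtain ⟨l, hl, hord⟩ := (Nat.dvd_prime_pow Nat.prime_two).mp
        (show addOrderOf i ∣ 2 ^ k by
          rw [← hk, addOrderOf_dvd_iff_nsmul_eq_zero, nsmul_eq_mul, ZMod.natCast_self, zero_mul])
      rcases l with _ | l
      · exact absurd (AddMonoid.addOrderOf_eq_one_iff.mp (by rw [hord, pow_zero])) hi0
      have hw : 2 ^ l • i + 2 ^ l • i = 0 := by
        rw [← add_nsmul, ← two_mul, ← pow_succ', ← hord]
        exact addOrderOf_nsmul_eq_zero i
      rcases sub_eq_half hw with h0 | ⟨-, h0⟩
      · have h5 := addOrderOf_dvd_iff_nsmul_eq_zero.mpr h0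
        rw [hord, Nat.pow_dvd_pow_iff_le_right one_lt_two] at h5
        omega
      · rw [← h0, nsmul_eq_mul, mul_comm, ← DihedralGroup.r_pow]
        exact H.pow_mem hi _
    rw [Subgroup.mem_centralizer_iff] at hc
    have h1 := hc _ hj
    rcases c with i | i
    · simp only [DihedralGroup.sr_mul_r, DihedralGroup.r_mul_sr, DihedralGroup.sr.injEq] at h1
      have h2 : i + i = 0 := by linear_combination h1
      rcases sub_eq_half h2 with rfl | ⟨hd, rfl⟩
      · exact H.one_mem
      · exact hz hd
    · simp only [DihedralGroup.sr_mul_sr, DihedralGroup.r.injEq] at h1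
      have h2 : (i - j) + (i - j) = 0 := by linear_combination h1
      rcases sub_eq_half h2 with h3 | ⟨hd, h3⟩
      · rw [sub_eq_zero.mp h3]; exact hj
      · rw [show DihedralGroup.sr i = DihedralGroup.sr j * DihedralGroup.r (i - j) by
          rw [DihedralGroup.sr_mul_r, add_sub_cancel]]
        exact H.mul_mem hj (h3 ▸ hz hd)

end Cfsg.Agent.S3920
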