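import Cfsg.Statements.S3927
import Cfsg.Agent.Lib.Subnormal.Engel

set_option autoImplicit false
open Cfsg
open Cfsg.Agent.Subnormal

namespace Cfsg.Agent.S3927

/-- Let G be a finite group and α an automorphism of G with [G, α] = G, that is, the elements g·α(g)⁻¹ generate G. Then for every k ≥ 1 the iterated commutators [g, α, …, α] with k entries α — the values of the k-th iterate of the map c ↦ c·α(c)⁻¹ — also generate G. -/
theorem result {G : Type*} [Group G] [Finite G] (α : MulAut G) (hG : Subgroup.closure (Set.range (fun c : G => c * (α c)⁻¹)) = ⊤) (k : ℕ) (hk : 1 ≤ k) :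
    Subgroup.closure (Set.range ((fun c : G => c * (α c)⁻¹)^[k])) = ⊤ := by
  let T := Subgroup.zpowers α
  let ψ : ↥T →* MulAut G := T.subtype
  let X := G ⋊[ψ] ↥T
  have : Finite (MulAut G) := Finite.of_injective _ MulEquiv.toEquiv_injective
  have : Finite X := Finite.of_equiv _ SemidirectProduct.equivProd.symm
  let a : X := SemidirectProduct.inr ⟨α, Subgroup.mem_zpowers α⟩
  have hf : ∀ c : G, SemidirectProduct.inl (c * (α c)⁻¹) = commOp a (SemidirectProduct.inl c : X) := by
    intro c
    ext <;> simp [commOp, a, ψ, X, T, SemidirectProduct.mul_left, SemidirectProduct.mul_right,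
      SemidirectProduct.inv_left, SemidirectProduct.inv_right]
  have hfk : ∀ (j : ℕ) (c : G), SemidirectProduct.inl ((fun c : G => c * (α c)⁻¹)^[j] c) =
      (commOp a)^[j] (SemidirectProduct.inl c : X) := by
    intro j
    induction j with
    | zero => intro c; rfl
    | succ j ih => intro c; rw [Function.iterate_succ_apply, Function.iterate_succ_apply, ih, hf]
  have hinr : ∀ N : Subgroup X, a ∈ N → ∀ t : ↥T, (SemidirectProduct.inr t : X) ∈ N := by
    intro N ha t
    obtain ⟨i, hi⟩ := t.2
    have : t = (⟨α, Subgroup.mem_zpowers α⟩ : ↥T) ^ i := Subtype.ext (by simpa using hi.symm)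
    rw [this, map_zpow]
    exact zpow_mem ha i
  have hgen : Subgroup.normalClosure {a} = (⊤ : Subgroup X) := by
    refine top_unique fun x _ => ?_
    rw [← SemidirectProduct.inl_left_mul_inr_right x]
    have haN : a ∈ Subgroup.normalClosure {a} := Subgroup.subset_normalClosure rfl
    refine mul_mem ?_ (hinr _ haN _)
    have hle : Subgroup.closure (Set.range fun c : G => c * (α c)⁻¹) ≤
        (Subgroup.normalClosure {a}).comap (SemidirectProduct.inl : G →* X) := by
      rw [Subgroup.closure_le]
      rintro _ ⟨c, rfl⟩
      rw [SetLike.mem_coe, Subgroup.mem_comap, hf]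
      exact mul_mem (Subgroup.normalClosure_normal.conj_mem a haN _) (inv_mem haN)
    exact hle (hG ▸ Subgroup.mem_top _)
  have htop := closure_iterate_eq_top a hgen k
  set H := Subgroup.closure (Set.range ((fun c : G => c * (α c)⁻¹)^[k])) with hH
  have hinv : H.map α.toMonoidHom = H := by
    refine Subgroup.eq_of_le_of_card_ge (Subgroup.map_le_iff_le_comap.mpr ?_)
      (Subgroup.card_map_of_injective α.injective).ge
    rw [hH, Subgroup.closure_le]
    rintro _ ⟨c, rfl⟩
    refine Subgroup.subset_closure ⟨α c, ?_⟩
    exact ((Function.Semiconj.iterate_right (f := α) (ga := fun c : G => c * (α c)⁻¹)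
      (gb := fun c : G => c * (α c)⁻¹) (fun c => by simp) k) c).symm
  have hαH : ∀ t : ↥T, ∀ y ∈ H, ψ t y ∈ H := by
    intro t y hy
    let S : Subgroup (MulAut G) :=
      { carrier := {β | H.map β.toMonoidHom = H}
        one_mem' := Subgroup.map_id H
        mul_mem' := fun {β γ} hβ hγ => by
          show H.map (β * γ).toMonoidHom = H
          calc H.map (β * γ).toMonoidHom = (H.map γ.toMonoidHom).map β.toMonoidHom := by
                rw [Subgroup.map_map]; rfl
            _ = H := by rw [hγ, hβ]
        inv_mem' := fun {β} hβ => by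
          show H.map β⁻¹.toMonoidHom = H
          conv_lhs => rw [← hβ, Subgroup.map_map]
          have : (β⁻¹).toMonoidHom.comp β.toMonoidHom = MonoidHom.id G :=
            MonoidHom.ext fun x => β.symm_apply_apply x
          rw [this, Subgroup.map_id] }
    have ht : (t : MulAut G) ∈ S := Subgroup.zpowers_le.mpr (show α ∈ S from hinv) t.2
    have := Subgroup.mem_map_of_mem ((t : MulAut G).toMonoidHom) hy
    rwa [show H.map (t : MulAut G).toMonoidHom = H from ht] at this
  let W : Subgroup X :=
    { carrier := {x | x.left ∈ H}
      one_mem' := by simp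
      mul_mem' := fun {x y} hx hy => by
        show (x * y).left ∈ H
        rw [SemidirectProduct.mul_left]
        exact mul_mem hx (hαH _ _ hy)
      inv_mem' := fun {x} hx => by
        show x⁻¹.left ∈ H
        rw [SemidirectProduct.inv_left]
        exact hαH _ _ (inv_mem hx) }
  refine top_unique fun g _ => ?_
  have hle : Subgroup.closure (insert a (Set.range ((commOp a)^[k]))) ≤ W := by
    rw [Subgroup.closure_le]
    rintro _ (rfl | ⟨x, rfl⟩)
    · show a.left ∈ H
      simp [a]
    · obtain ⟨j, rfl⟩ := Nat.exists_eq_add_of_le hk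
      have hcomm : commOp a x = commOp a (SemidirectProduct.inl x.left : X) := by
        conv_lhs => rw [← SemidirectProduct.inl_left_mul_inr_right x]
        obtain ⟨i, hi⟩ := x.right.2
        have hr : x.right = (⟨α, Subgroup.mem_zpowers α⟩ : ↥T) ^ i :=
          Subtype.ext (by simpa using hi.symm)
        rw [hr, map_zpow]
        show (SemidirectProduct.inl x.left * a ^ i) * a * (SemidirectProduct.inl x.left * a ^ i)⁻¹ *
          a⁻¹ = _
        simp only [commOp]
        group
      show _ ∈ H
      rw [add_comm 1 j, Function.iterate_succ_apply, hcomm, ← hf, ← hfk,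
        SemidirectProduct.left_inl]
      refine Subgroup.subset_closure ⟨x.left, ?_⟩
      rw [add_comm 1 j, Function.iterate_succ_apply]
  exact hle (htop ▸ Subgroup.mem_top (SemidirectProduct.inl g : X))

end Cfsg.Agent.S3927
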