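import Cfsg.Statements.S3949


set_option autoImplicit false
open Cfsg

namespace Cfsg.Agent.S3949

/-- Let G be a finite group and α an automorphism of G of order 2 such that the elements g·α(g)⁻¹ generate G. Let j be a positive integer such that 2^j divides the order of no element inverted by α. Then the set of values of the j-th iterate of the map c ↦ c·α(c)⁻¹ is exactly the set of elements of odd order inverted by α. -/
theorem result {G : Type*} [Group G] [Finite G] (α : MulAut G) (hα : orderOf α = 2) (hG : Subgroup.closure (Set.range (fun c : G => c * (α c)⁻¹)) = ⊤)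
    (j : ℕ) (hj : ∀ g : G, α g = g⁻¹ → ¬ 2 ^ j ∣ orderOf g) :
    Set.range ((fun c : G => c * (α c)⁻¹)^[j]) = {g : G | Odd (orderOf g) ∧ α g = g⁻¹} := by
  set f : G → G := fun c => c * (α c)⁻¹ with hf
  have hαα : ∀ c : G, α (α c) = c := fun c => by
    have h : (α * α) c = c := by
      rw [← pow_two, ← hα, pow_orderOf_eq_one]
      rfl
    exact h
  have hinv : ∀ c : G, α (f c) = (f c)⁻¹ := fun c => by simp [hf, hαα]
  have hpow : ∀ (n : ℕ) (c : G), α c = c⁻¹ → f^[n] c = c ^ 2 ^ n := by
    intro n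
    induction n with
    | zero => simp
    | succ n ih =>
      intro c hc
      rw [Function.iterate_succ_apply', ih c hc]
      show c ^ 2 ^ n * (α (c ^ 2 ^ n))⁻¹ = _
      rw [map_pow, hc, inv_pow, inv_inv, ← pow_add, pow_succ, mul_two]
  have hj0 : j ≠ 0 := fun h => hj 1 (by simp) (by simp [h])
  ext g
  constructor
  · rintro ⟨c, rfl⟩
    obtain ⟨i, rfl⟩ := Nat.exists_eq_succ_of_ne_zero hj0
    rw [Function.iterate_succ_apply, hpow i (f c) (hinv c)]
    refine ⟨?_, by rw [map_pow, hinv, inv_pow]⟩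
    have h2 := hj (f c) (hinv c)
    set d := orderOf (f c) with hd
    have hd0 : 0 < d := orderOf_pos _
    obtain ⟨a, m, hm, hdm⟩ := Nat.exists_eq_pow_mul_and_not_dvd hd0.ne' 2 (by norm_num)
    have ha : a ≤ i := by
      by_contra hh
      exact h2 (hdm ▸ Dvd.dvd.mul_right (pow_dvd_pow 2 (by omega)) m)
    have hdv : orderOf ((f c) ^ 2 ^ i) ∣ m := by
      refine orderOf_dvd_of_pow_eq_one ?_
      rw [← pow_mul, ← orderOf_dvd_iff_pow_eq_one, ← hd, hdm]
      exact mul_dvd_mul_right (pow_dvd_pow 2 ha) m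
    exact (Nat.not_even_iff_odd.mp fun h => hm h.two_dvd).of_dvd_nat hdv
  · rintro ⟨hodd, hg⟩
    obtain ⟨k, hk⟩ := exists_pow_eq_self_of_coprime (x := g) (n := 2 ^ j) ((Nat.coprime_two_left.mpr hodd).pow_left j)
    refine ⟨g ^ k, ?_⟩
    rw [hpow j _ (by rw [map_pow, hg, inv_pow]), ← pow_mul, mul_comm, pow_mul, hk]

end Cfsg.Agent.S3949
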