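import Cfsg.Statements.S3928
import Cfsg.Agent.S3927
import Cfsg.Agent.S3949
import Mathlib

set_option autoImplicit false
open Cfsg

namespace Cfsg.Agent.S3928

open scoped commutatorElement Nat

universe u

/-- A monotone bound for the derived subgroup. -/
def db (k : ℕ) : ℕ := (Finset.range (k * k + 1)).sup Subgroup.cardCommutatorBound

theorem card_commutator_le {X : Type u} [Group X] [Finite X] {k : ℕ}
    (h : (Subgroup.center X).index ≤ k) : Nat.card ↥(_root_.commutator X) ≤ db k := by
  refine (Subgroup.card_commutator_le_of_finite_commutatorSet X).trans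
    (Finset.le_sup (Finset.mem_range.mpr (Nat.lt_succ_of_le ?_)))
  have h1 : commutatorSet X ⊆ Set.range
      (fun p : (X ⧸ Subgroup.center X) × (X ⧸ Subgroup.center X) => ⁅p.1.out, p.2.out⁆) := by
    rintro _ ⟨a, b, rfl⟩
    refine ⟨(a, b), ?_⟩
    obtain ⟨z, hz⟩ := QuotientGroup.mk_out_eq_mul (Subgroup.center X) a
    obtain ⟨t, ht⟩ := QuotientGroup.mk_out_eq_mul (Subgroup.center X) b
    show ⁅(QuotientGroup.mk a : X ⧸ Subgroup.center X).out, (QuotientGroup.mk b : X ⧸ Subgroup.center X).out⁆ = _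
    rw [hz, ht, commutatorElement_def, commutatorElement_def, mul_inv_rev, mul_inv_rev]
    have hz' := fun g : X => Subgroup.mem_center_iff.mp z.2 g
    have ht' := fun g : X => Subgroup.mem_center_iff.mp t.2 g
    calc a * z * (b * t) * ((z : X)⁻¹ * a⁻¹) * ((t : X)⁻¹ * b⁻¹)
        = a * ((z : X) * (b * t)) * ((z : X)⁻¹ * a⁻¹) * ((t : X)⁻¹ * b⁻¹) := by group
      _ = a * ((b * t) * (z : X)) * ((z : X)⁻¹ * a⁻¹) * ((t : X)⁻¹ * b⁻¹) := by rw [hz']
      _ = a * b * ((t : X) * a⁻¹) * ((t : X)⁻¹ * b⁻¹) := by group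
      _ = a * b * (a⁻¹ * (t : X)) * ((t : X)⁻¹ * b⁻¹) := by rw [ht']
      _ = _ := by group
  refine (Nat.card_mono (Set.finite_range _) h1).trans ((Finite.card_range_le _).trans ?_)
  rw [Nat.card_prod, ← Subgroup.index_eq_card]
  exact Nat.mul_le_mul h h

/-- An abelian quotient is bounded by generators and their orders. -/
theorem card_abelianization_le {X : Type u} [Group X] [Finite X] (S : Finset X)
    (hS : Subgroup.closure (S : Set X) = ⊤) {E : ℕ} (hE0 : 0 < E) (hE : ∀ s ∈ S, s ^ E = 1) :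
    Nat.card (Abelianization X) ≤ E ^ S.card := by
  have hexp : ∀ g : Abelianization X, g ^ E = 1 := by
    intro g
    obtain ⟨x, rfl⟩ : ∃ x, Abelianization.of x = g := QuotientGroup.mk_surjective _
    have hle : (⊤ : Subgroup X) ≤ ((powMonoidHom E : Abelianization X →* _).comp Abelianization.of).ker := by
      rw [← hS, Subgroup.closure_le]
      intro s hs
      show (Abelianization.of s) ^ E = 1
      rw [← map_pow, hE s hs, map_one]
    exact hle (Subgroup.mem_top x)
  refine (Nat.le_of_dvd (pow_pos hE0 _) (card_dvd_exponent_pow_rank' _ hexp)).trans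
    (Nat.pow_le_pow_right hE0 ?_)
  exact (Group.rank_le_of_surjective Abelianization.of QuotientGroup.mk_surjective).trans (Group.rank_le hS)

variable {X : Type u} [Group X]

theorem index_centralizer_mul_le (x y : X) :
    (Subgroup.centralizer ({x * y} : Set X)).index ≠ 0 → (Subgroup.centralizer ({x} : Set X)).index ≠ 0 →
    (Subgroup.centralizer ({y} : Set X)).index ≠ 0 → (Subgroup.centralizer ({x * y} : Set X)).index ≤
      (Subgroup.centralizer ({x} : Set X)).index * (Subgroup.centralizer ({y} : Set X)).index := by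
  intro _ hx hy
  refine le_trans (Nat.le_of_dvd ?_ (Subgroup.index_dvd_of_le ?_)) Subgroup.index_inf_le
  · exact Nat.pos_of_ne_zero (Subgroup.index_inf_ne_zero hx hy)
  · intro g hg
    rw [Subgroup.mem_centralizer_singleton_iff]
    have h1 : g * x = x * g := Subgroup.mem_centralizer_singleton_iff.mp hg.1
    have h2 : g * y = y * g := Subgroup.mem_centralizer_singleton_iff.mp hg.2
    rw [← mul_assoc, h1, mul_assoc, h2, mul_assoc]

/-- A normal abelian subgroup of bounded index from many elements with small classes. -/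
theorem index_closure_and_class_le [Finite X] (X0 : Finset X) (h1 : (1 : X) ∈ X0)
    (hinv : ∀ x ∈ X0, x⁻¹ ∈ X0) {b : ℕ} (hb : Nat.card X ≤ b * X0.card)
    (hclass : ∀ x ∈ X0, (Subgroup.centralizer ({x} : Set X)).index ≤ b) :
    (Subgroup.closure (X0 : Set X)).index ≤ b ∧ ∀ x ∈ Subgroup.closure (X0 : Set X),
      (Subgroup.centralizer ({x} : Set X)).index ≤ b ^ (3 * b + 3) := by
  classical
  have : Fintype X := Fintype.ofFinite X
  have hX0 : 0 < X0.card := Finset.card_pos.mpr ⟨1, h1⟩
  have hb1 : 1 ≤ b := by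
    by_contra h
    have hb0 : b = 0 := by omega
    rw [hb0, zero_mul] at hb
    exact Nat.card_pos.ne' (Nat.le_zero.mp hb)
  set K := Subgroup.closure (X0 : Set X)
  have hne : ∀ x : X, (Subgroup.centralizer ({x} : Set X)).index ≠ 0 :=
    fun x => Subgroup.FiniteIndex.index_ne_zero
  let κ : X → ℕ := fun x => (Subgroup.centralizer ({x} : Set X)).index
  have hκmul : ∀ x y, κ (x * y) ≤ κ x * κ y := fun x y =>
    index_centralizer_mul_le x y (hne _) (hne x) (hne y)
  constructor
  · have h2 : X0.card ≤ Nat.card ↥K := by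
      rw [← Nat.card_eq_finsetCard]
      exact Nat.card_le_card_of_injective (fun x => (⟨x.1, Subgroup.subset_closure x.2⟩ : ↥K))
        fun a c h => Subtype.ext (congrArg (fun z : ↥K => (z : X)) h)
    refine Nat.le_of_mul_le_mul_right ?_ (Nat.card_pos (α := ↥K))
    rw [Subgroup.index_mul_card]
    exact hb.trans (Nat.mul_le_mul_left b h2)
  set good := Finset.univ.filter fun F : Finset X => (∀ i ∈ F, κ i ≤ b ^ (3 * F.card)) ∧
    (1 : X) ∈ F ∧ ∀ i ∈ F, ∀ j ∈ F, ∀ a ∈ X0, ∀ c ∈ X0, i * a = j * c → i = j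
  have hgood : {(1 : X)} ∈ good := by
    refine Finset.mem_filter.mpr ⟨Finset.mem_univ _, fun i hi => ?_, by simp, ?_⟩
    · rw [Finset.mem_singleton.mp hi, Finset.card_singleton]
      show (Subgroup.centralizer ({(1 : X)} : Set X)).index ≤ _
      rw [show Subgroup.centralizer ({(1 : X)} : Set X) = ⊤ by
        ext g; simp [Subgroup.mem_centralizer_singleton_iff], Subgroup.index_top]
      exact Nat.one_le_pow _ _ hb1
    · intro i hi j hj a _ c _ _
      rw [Finset.mem_singleton.mp hi, Finset.mem_singleton.mp hj]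
  obtain ⟨F, hF, hmax⟩ := good.exists_max_image Finset.card ⟨_, hgood⟩
  obtain ⟨-, hFκ, hF1, hFd⟩ := Finset.mem_filter.mp hF
  have hFb : F.card ≤ b := by
    refine Nat.le_of_mul_le_mul_right (le_trans ?_ (hb.trans_eq rfl)) hX0
    rw [← Finset.card_product, Nat.card_eq_fintype_card]
    refine Finset.card_le_card_of_injOn (fun q => q.1 * q.2) (fun _ _ => Finset.mem_univ _) ?_
    intro q hq r hr h
    rw [Finset.mem_coe, Finset.mem_product] at hq hr
    have h' : q.1 = r.1 := hFd _ hq.1 _ hr.1 _ hq.2 _ hr.2 h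
    refine Prod.ext h' ?_
    have h'' : q.1 * q.2 = r.1 * r.2 := h
    rw [h'] at h''
    exact mul_left_cancel h''
  let U : X → Prop := fun x => ∃ i ∈ F, ∃ u ∈ X0, ∃ v ∈ X0, x = i * u * v
  have hU1 : U 1 := ⟨1, hF1, 1, h1, 1, h1, by simp⟩
  have hUκ : ∀ x, U x → κ x ≤ b ^ (3 * F.card) * b * b := by
    rintro _ ⟨i, hi, u, hu, v, hv, rfl⟩
    exact (hκmul _ _).trans (Nat.mul_le_mul ((hκmul _ _).trans (Nat.mul_le_mul (hFκ i hi) (hclass u hu)))
      (hclass v hv))
  have hUmul : ∀ x, U x → ∀ t ∈ X0, U (x * t) := by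
    intro x hx t ht
    by_contra hnot
    have hxt : x * t ∉ F := fun h => hnot ⟨x * t, h, 1, h1, 1, h1, by simp⟩
    have hdis : ∀ j ∈ F, ∀ a ∈ X0, ∀ c ∈ X0, x * t * a ≠ j * c := by
      intro j hj a ha c hc h
      exact hnot ⟨j, hj, c, hc, a⁻¹, hinv a ha, by rw [← h, mul_inv_cancel_right]⟩
    have hins : insert (x * t) F ∈ good := by
      refine Finset.mem_filter.mpr ⟨Finset.mem_univ _, fun i hi => ?_, Finset.mem_insert_of_mem hF1, ?_⟩
      · rw [Finset.card_insert_of_notMem hxt]
        rcases Finset.mem_insert.mp hi with rfl | hi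
        · refine (hκmul _ _).trans ((Nat.mul_le_mul (hUκ x hx) (hclass t ht)).trans ?_)
          rw [show 3 * (F.card + 1) = 3 * F.card + 1 + 1 + 1 by ring, pow_succ, pow_succ, pow_succ]
        · exact (hFκ i hi).trans (Nat.pow_le_pow_right hb1 (by omega))
      · intro i hi j hj a ha c hc h
        rcases Finset.mem_insert.mp hi with rfl | hi <;> rcases Finset.mem_insert.mp hj with rfl | hj
        · rfl
        · exact absurd h (hdis j hj a ha c hc)
        · exact absurd h.symm (hdis i hi c hc a ha)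
        · exact hFd i hi j hj a ha c hc h
    have := hmax _ hins
    rw [Finset.card_insert_of_notMem hxt] at this
    omega
  intro x hx
  have hxU : U x := by
    induction hx using Subgroup.closure_induction_right with
    | one => exact hU1
    | mul_right a _ t ht ih => exact hUmul a ih t ht
    | mul_inv_cancel a _ t ht ih => exact hUmul a ih _ (hinv t ht)
  refine (hUκ x hxU).trans ?_
  rw [mul_assoc, ← pow_two, ← pow_add]
  exact Nat.pow_le_pow_right hb1 (by omega)

/-- The bound for the index of the centre. -/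
def zb (m c : ℕ) : ℕ :=
  let b := 2 * (c * c)
  let i := b * (b ^ (3 * b + 3)) ^ (b * m)
  i * (c !) ^ (i * m)

/-- An involutory automorphism with `c` fixed points, generated by `m` inverted elements of odd order. -/
theorem index_center_le [Finite X] (α : MulAut X) (hα : ∀ x, α (α x) = x) (S : Finset X) {m c : ℕ}
    (hm : S.card ≤ m) (hgen : Subgroup.closure (S : Set X) = ⊤)
    (hS : ∀ s ∈ S, Odd (orderOf s) ∧ α s = s⁻¹) (hc : Nat.card {x : X // α x = x} ≤ c) :
    (Subgroup.center X).index ≤ zb m c := by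
  classical
  have : Fintype X := Fintype.ofFinite X
  have hc0 : 0 < c := lt_of_lt_of_le
    (Nat.card_pos_iff.mpr ⟨⟨⟨1, map_one α⟩⟩, inferInstance⟩) hc
  set n := Nat.card X
  have hn : n = Fintype.card X := Nat.card_eq_fintype_card
  set I := Finset.univ.filter fun x : X => α x = x⁻¹
  -- many inverted elements
  have hI : n ≤ c * I.card := by
    let fc : X → X := fun g => g * (α g)⁻¹
    have h1 : ∀ g, fc g ∈ I := fun g => by
      simp [I, fc, hα]
    rw [hn, ← Finset.card_univ]
    refine Finset.card_le_mul_card_image_of_maps_to (fun g _ => h1 g) c fun y _ => ?_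
    rcases (Finset.univ.filter fun g => fc g = y).eq_empty_or_nonempty with h | ⟨g0, hg0⟩
    · simp [h]
    refine le_trans ?_ hc
    rw [Nat.card_eq_fintype_card, Fintype.card_subtype]
    refine Finset.card_le_card_of_injOn (fun g => g0⁻¹ * g) (fun g hg => ?_) fun a _ b _ h => mul_left_cancel h
    have hg' : g * (α g)⁻¹ = g0 * (α g0)⁻¹ := (Finset.mem_filter.mp hg).2.trans (Finset.mem_filter.mp hg0).2.symm
    refine Finset.mem_filter.mpr ⟨Finset.mem_univ _, ?_⟩
    show α (g0⁻¹ * g) = g0⁻¹ * g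
    rw [map_mul, map_inv]
    calc (α g0)⁻¹ * α g = g0⁻¹ * (g0 * (α g0)⁻¹) * α g := by group
      _ = g0⁻¹ * (g * (α g)⁻¹) * α g := by rw [hg']
      _ = g0⁻¹ * g := by group
  -- many commuting pairs
  set w : X → ℕ := fun g => Nat.card ↥(Subgroup.centralizer ({g} : Set X))
  have hII : I.card * I.card ≤ ∑ g, w g := by
    rw [← Finset.card_product, Finset.card_eq_sum_card_fiberwise (f := fun q => q.1 * q.2)
      (t := Finset.univ) (fun _ _ => Finset.mem_univ _)]
    refine Finset.sum_le_sum fun g _ => ?_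
    rcases ((I ×ˢ I).filter fun q => q.1 * q.2 = g).eq_empty_or_nonempty with h | ⟨q0, hq0⟩
    · simp [h]
    have key : ∀ q ∈ (I ×ˢ I).filter (fun q => q.1 * q.2 = g), q.1⁻¹ * g⁻¹ * q.1 = α g := by
      intro q hq
      obtain ⟨hq1, hqg⟩ := Finset.mem_filter.mp hq
      obtain ⟨ha, hb⟩ := Finset.mem_product.mp hq1
      rw [← hqg, map_mul, (Finset.mem_filter.mp ha).2, (Finset.mem_filter.mp hb).2]
      group
    rw [show w g = Fintype.card ↥(Subgroup.centralizer ({g} : Set X)) from Nat.card_eq_fintype_card,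
      ← Finset.card_univ]
    refine Finset.card_le_card_of_injOn
      (fun q => if h : q.1 * q0.1⁻¹ ∈ Subgroup.centralizer ({g} : Set X) then ⟨_, h⟩ else 1)
      (fun _ _ => Finset.mem_univ _) ?_
    have hmem : ∀ q ∈ (I ×ˢ I).filter (fun q => q.1 * q.2 = g),
        q.1 * q0.1⁻¹ ∈ Subgroup.centralizer ({g} : Set X) := by
      intro q hq
      rw [Subgroup.mem_centralizer_singleton_iff]
      have e := (key q hq).trans (key q0 hq0).symm
      have e' : g⁻¹ * (q.1 * q0.1⁻¹) = q.1 * q0.1⁻¹ * g⁻¹ := by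
        calc g⁻¹ * (q.1 * q0.1⁻¹) = q.1 * (q.1⁻¹ * g⁻¹ * q.1) * q0.1⁻¹ := by group
          _ = q.1 * (q0.1⁻¹ * g⁻¹ * q0.1) * q0.1⁻¹ := by rw [e]
          _ = _ := by group
      calc q.1 * q0.1⁻¹ * g = g * (g⁻¹ * (q.1 * q0.1⁻¹)) * g := by group
        _ = g * (q.1 * q0.1⁻¹ * g⁻¹) * g := by rw [e']
        _ = _ := by group
    intro q hq r hr h
    simp only [dif_pos (hmem q hq), dif_pos (hmem r hr), Subtype.mk.injEq] at h
    have h1 := mul_right_cancel h
    exact Prod.ext h1 (mul_left_cancel (((Finset.mem_filter.mp hq).2.trans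
      (Finset.mem_filter.mp hr).2.symm).trans (by rw [h1])))
  obtain ⟨b, hb⟩ : ∃ b, b = 2 * (c * c) := ⟨_, rfl⟩
  set X0 := Finset.univ.filter fun g => n ≤ b * w g
  have hw : ∀ g, w g ≤ n := fun g => Nat.le_of_dvd Nat.card_pos (Subgroup.card_subgroup_dvd_card _)
  have hwinv : ∀ g, w g⁻¹ = w g := fun g => by
    show Nat.card _ = Nat.card _
    rw [show Subgroup.centralizer ({g⁻¹} : Set X) = Subgroup.centralizer ({g} : Set X) by
      ext x
      rw [Subgroup.mem_centralizer_singleton_iff, Subgroup.mem_centralizer_singleton_iff]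
      exact ⟨fun h => (Commute.inv_right_iff.mp h).eq, fun h => (Commute.inv_right h).eq⟩]
  have hX0 : n ≤ b * X0.card := by
    have h2 : b * ∑ g, w g ≤ b * X0.card * n + n * n := by
      rw [← Finset.sum_filter_add_sum_filter_not Finset.univ (fun g => n ≤ b * w g), mul_add]
      refine Nat.add_le_add ?_ ?_
      · rw [mul_assoc]
        exact Nat.mul_le_mul_left b ((Finset.sum_le_card_nsmul _ _ _ (fun g _ => hw g)).trans_eq (smul_eq_mul _ _))
      · rw [Finset.mul_sum]
        refine (Finset.sum_le_card_nsmul _ _ n (fun g hg => (not_le.mp (Finset.mem_filter.mp hg).2).le)).trans ?_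
        rw [smul_eq_mul]
        exact Nat.mul_le_mul_right n ((Finset.card_le_univ _).trans_eq hn.symm)
    have h3 : 2 * (n * n) ≤ b * ∑ g, w g := by
      calc 2 * (n * n) ≤ 2 * ((c * I.card) * (c * I.card)) := Nat.mul_le_mul_left 2 (Nat.mul_le_mul hI hI)
        _ = b * (I.card * I.card) := by rw [hb]; ring
        _ ≤ _ := Nat.mul_le_mul_left b hII
    have h4 : n * n ≤ b * X0.card * n := by omega
    exact Nat.le_of_mul_le_mul_right h4 Nat.card_pos
  have h1X0 : (1 : X) ∈ X0 := by
    refine Finset.mem_filter.mpr ⟨Finset.mem_univ _, ?_⟩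
    show n ≤ b * Nat.card _
    rw [show Subgroup.centralizer ({(1 : X)} : Set X) = ⊤ by
      ext g; simp [Subgroup.mem_centralizer_singleton_iff], Subgroup.card_top]
    exact Nat.le_mul_of_pos_left _ (by rw [hb]; positivity)
  have hclass : ∀ x ∈ X0, (Subgroup.centralizer ({x} : Set X)).index ≤ b := fun x hx => by
    refine Nat.le_of_mul_le_mul_right ?_ (Nat.card_pos (α := ↥(Subgroup.centralizer ({x} : Set X))))
    rw [Subgroup.index_mul_card]
    exact (Finset.mem_filter.mp hx).2
  obtain ⟨hKidx, hKclass⟩ := index_closure_and_class_le X0 h1X0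
    (fun x hx => by simpa [X0, hwinv] using hx) hX0 hclass
  set K := Subgroup.closure (X0 : Set X)
  have hwconj : ∀ (ψ : MulAut X) g, w (ψ g) = w g := fun ψ g => by
    show Nat.card _ = Nat.card _
    refine (Nat.card_congr (Equiv.subtypeEquiv ψ.toEquiv fun x => ?_)).symm
    show x ∈ Subgroup.centralizer ({g} : Set X) ↔ ψ x ∈ Subgroup.centralizer ({ψ g} : Set X)
    rw [Subgroup.mem_centralizer_singleton_iff, Subgroup.mem_centralizer_singleton_iff, ← map_mul, ← map_mul,
      ψ.injective.eq_iff]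
  have hKinv : ∀ (ψ : MulAut X), ∀ x ∈ K, ψ x ∈ K := by
    intro ψ x hx
    have h2 : K ≤ K.comap ψ.toMonoidHom := by
      rw [Subgroup.closure_le]
      intro y hy
      refine Subgroup.subset_closure ?_
      simpa [X0, hwconj] using hy
    exact h2 hx
  set A := K ⊓ Subgroup.centralizer (K : Set X) with hA
  have hAinv : ∀ (ψ : MulAut X), ∀ x ∈ A, ψ x ∈ A := by
    intro ψ x hx
    refine ⟨hKinv ψ x hx.1, Subgroup.mem_centralizer_iff.mpr fun y hy => ?_⟩
    have h2 := Subgroup.mem_centralizer_iff.mp hx.2 (ψ.symm y) (hKinv ψ.symm y hy)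
    have h3 := congrArg ψ h2
    simpa using h3
  have hAcomm : ∀ x ∈ A, ∀ y ∈ A, x * y = y * x := fun x hx y hy =>
    Subgroup.mem_centralizer_iff.mp hy.2 x hx.1
  have hrank : Group.rank X ≤ m := (Group.rank_le hgen).trans hm
  -- the index of `A`
  obtain ⟨i, hi⟩ : ∃ i, i = b * (b ^ (3 * b + 3)) ^ (b * m) := ⟨_, rfl⟩
  have hb1 : 1 ≤ b := by have := Nat.mul_pos hc0 hc0; omega
  have hAidx : A.index ≤ i := by
    rw [hi]
    refine Subgroup.index_inf_le.trans (Nat.mul_le_mul hKidx ?_)
    obtain ⟨T, hT, hTtop⟩ := Group.rank_spec ↥K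
    have hle : (⨅ t : ↥T, Subgroup.centralizer ({((t : ↥K) : X)} : Set X)) ≤ Subgroup.centralizer (K : Set X) := by
      intro x hx
      rw [Subgroup.mem_iInf] at hx
      rw [Subgroup.mem_centralizer_iff]
      intro y hy
      have h2 : Subgroup.closure (T : Set ↥K) ≤ (Subgroup.centralizer ({x} : Set X)).subgroupOf K := by
        rw [Subgroup.closure_le]
        intro t ht
        exact Subgroup.mem_centralizer_singleton_iff.mpr
          (Subgroup.mem_centralizer_singleton_iff.mp (hx ⟨t, ht⟩)).symm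
      exact Subgroup.mem_centralizer_singleton_iff.mp (h2 (hTtop.ge (Subgroup.mem_top ⟨y, hy⟩)))
    refine (Subgroup.index_antitone hle).trans ?_
    refine (Subgroup.index_iInf_le _).trans ?_
    refine (Finset.prod_le_pow_card Finset.univ _ (b ^ (3 * b + 3)) fun t _ => hKclass ((t.1 : ↥K) : X) t.1.2).trans ?_
    refine Nat.pow_le_pow_right (Nat.one_le_pow _ _ hb1) ?_
    rw [Finset.card_univ, Fintype.card_coe, hT]
    exact (Subgroup.rank_le_index_mul_rank K).trans (Nat.mul_le_mul hKidx hrank)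
  -- `c!`-th powers in `A` are central
  have hfix : ∀ z, α z = z → z ^ c ! = 1 := by
    intro z hz
    refine orderOf_dvd_iff_pow_eq_one.mp (Nat.dvd_factorial (orderOf_pos z) (le_trans ?_ hc))
    rw [← Nat.card_zpowers]
    refine Nat.card_le_card_of_injective (fun y => (⟨(y : X), ?_⟩ : {x : X // α x = x})) fun a b h =>
      Subtype.ext (congrArg (fun z : {x : X // α x = x} => (z : X)) h)
    obtain ⟨k, hk⟩ := y.2
    rw [← hk, map_zpow, hz]
  have hinvA : ∀ a ∈ A, α (a ^ c !) = (a ^ c !)⁻¹ := by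
    intro a ha
    have h2 := hfix (a * α a) (by rw [map_mul, hα]; exact hAcomm _ (hAinv α a ha) a ha)
    rw [(show Commute a (α a) from hAcomm a ha _ (hAinv α a ha)).mul_pow, ← map_pow] at h2
    exact eq_inv_of_mul_eq_one_right h2
  have hcen : ∀ a ∈ A, a ^ c ! ∈ Subgroup.center X := by
    intro a ha
    have htop : (⊤ : Subgroup X) ≤ Subgroup.centralizer ({a ^ c !} : Set X) := by
      rw [← hgen, Subgroup.closure_le]
      intro s hs
      obtain ⟨⟨k, hk⟩, hsα⟩ := hS s hs
      have h2 := hinvA _ (hAinv (MulAut.conj s) a ha)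
      rw [MulAut.conj_apply, conj_pow, map_mul, map_mul, map_inv, hsα, hinvA a ha] at h2
      obtain ⟨y, hy⟩ : ∃ y, y = a ^ c ! := ⟨_, rfl⟩
      rw [← hy] at h2 ⊢
      have h3 : Commute (s * s) y := by
        have h4 : s⁻¹ * y⁻¹ * (s⁻¹)⁻¹ = s * y⁻¹ * s⁻¹ := by rw [h2]; group
        have h5 : s⁻¹ * y * s = s * y * s⁻¹ := by
          have := congrArg (·⁻¹) h4
          simpa [mul_assoc] using this
        show s * s * y = y * (s * s)
        calc s * s * y = s * (s * y * s⁻¹) * s := by group
          _ = s * (s⁻¹ * y * s) * s := by rw [h5]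
          _ = _ := by group
      have h6 : s = (s * s) ^ (k + 1) := by
        rw [← pow_two, ← pow_mul, show 2 * (k + 1) = orderOf s + 1 by omega, pow_succ, pow_orderOf_eq_one, one_mul]
      rw [SetLike.mem_coe, Subgroup.mem_centralizer_singleton_iff, h6]
      exact (h3.pow_left _).eq
    exact Subgroup.mem_center_iff.mpr fun g =>
      Subgroup.mem_centralizer_singleton_iff.mp (htop (Subgroup.mem_top g))
  -- the index of the centre in `A`
  set Y := (Subgroup.center X).subgroupOf A
  have hYn : Y.Normal := ⟨fun y hy g => by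
    rw [show g * y * g⁻¹ = y from Subtype.ext (by
      show (g : X) * y * (g : X)⁻¹ = y
      rw [hAcomm g g.2 y y.2, mul_inv_cancel_right])]
    exact hy⟩
  have hY : Y.index ≤ (c !) ^ (i * m) := by
    rw [Subgroup.index_eq_card]
    let _ : CommGroup (↥A ⧸ Y) :=
      { (inferInstance : Group (↥A ⧸ Y)) with
        mul_comm := fun q r => by
          induction q using QuotientGroup.induction_on with
          | _ x =>
            induction r using QuotientGroup.induction_on with
            | _ y =>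
              show QuotientGroup.mk (x * y) = QuotientGroup.mk (y * x)
              rw [show x * y = y * x from Subtype.ext (hAcomm x x.2 y y.2)] }
    have hexp : ∀ q : ↥A ⧸ Y, q ^ c ! = 1 := fun q => by
      obtain ⟨a, rfl⟩ := QuotientGroup.mk_surjective q
      rw [← QuotientGroup.mk_pow]
      exact (QuotientGroup.eq_one_iff _).mpr (hcen a a.2)
    refine (Nat.le_of_dvd (pow_pos (Nat.factorial_pos c) _) (card_dvd_exponent_pow_rank' _ hexp)).trans
      (Nat.pow_le_pow_right (Nat.factorial_pos c) ?_)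
    exact (Group.rank_le_of_surjective (QuotientGroup.mk' Y) (QuotientGroup.mk'_surjective Y)).trans
      ((Subgroup.rank_le_index_mul_rank A).trans (Nat.mul_le_mul hAidx hrank))
  calc (Subgroup.center X).index ≤ (Subgroup.center X ⊓ A).index :=
        Subgroup.index_antitone inf_le_left
    _ = Y.index * A.index := by
        rw [← Subgroup.relIndex_mul_index (inf_le_right : Subgroup.center X ⊓ A ≤ A)]
        congr 1
        exact Subgroup.inf_relIndex_right _ _
    _ ≤ (c !) ^ (i * m) * i := Nat.mul_le_mul hY hAidx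
    _ = zb m c := by rw [mul_comm, hi, hb]; rfl

/-- The bound in `S3928`. -/
def fb (m : ℕ) : ℕ := db (db (zb m (m !)) * (m !) ^ m) * (m !) ^ m


/-- There is a function f such that for every non-trivial finite group G and every automorphism α of G of order 2 with [G, α] = G (the elements g·α(g)⁻¹ generate G), the order of G is at most f(m), where m is the number of elements of odd order inverted by α. -/
theorem result : ∃ f : ℕ → ℕ, ∀ (G : Type) [Group G] [Finite G] [Nontrivial G] (α : MulAut G), orderOf α = 2 →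
    Subgroup.closure (Set.range (fun c : G => c * (α c)⁻¹)) = ⊤ →
      Nat.card G ≤ f (Nat.card {g : G // Odd (orderOf g) ∧ α g = g⁻¹}) := by
  refine ⟨fb, fun G _ _ _ α hα hG => ?_⟩
  classical
  have : Fintype G := Fintype.ofFinite G
  set S := Finset.univ.filter fun g : G => Odd (orderOf g) ∧ α g = g⁻¹ with hSdef
  have hm : Nat.card {g : G // Odd (orderOf g) ∧ α g = g⁻¹} = S.card := by
    rw [Nat.card_eq_fintype_card, Fintype.card_subtype]
  rw [hm]
  set m := S.card
  have hαα : ∀ g, α (α g) = g := fun g => by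
    rw [← MulAut.mul_apply, ← pow_two, ← hα, pow_orderOf_eq_one, MulAut.one_apply]
  have hgen : Subgroup.closure (S : Set G) = ⊤ := by
    have h1 : ∀ g : G, α g = g⁻¹ → ¬ 2 ^ Nat.card G ∣ orderOf g := fun g _ h => by
      have h2 := Nat.le_of_dvd (orderOf_pos g) h
      have h3 : orderOf g ≤ Nat.card G := Nat.le_of_dvd Nat.card_pos (orderOf_dvd_natCard g)
      have := Nat.lt_two_pow_self (n := Nat.card G)
      omega
    have h2 := S3927.result α hG (Nat.card G) Nat.card_pos
    rw [S3949.result α hα hG (Nat.card G) h1] at h2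
    rw [show (S : Set G) = {g : G | Odd (orderOf g) ∧ α g = g⁻¹} by ext; simp [S]]
    exact h2
  have hord : ∀ s ∈ S, orderOf s ≤ m := by
    intro s hs
    rw [← Nat.card_zpowers]
    show _ ≤ S.card
    rw [← Nat.card_eq_finsetCard]
    refine Nat.card_le_card_of_injective (fun y => (⟨(y : G), ?_⟩ : ↥S)) fun a b h =>
      Subtype.ext (congrArg (fun z : ↥S => (z : G)) h)
    obtain ⟨hodd, hinv⟩ := (Finset.mem_filter.mp hs).2
    obtain ⟨k, hk⟩ := y.2
    refine Finset.mem_filter.mpr ⟨Finset.mem_univ _, ?_, ?_⟩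
    · exact hodd.of_dvd_nat (orderOf_dvd_of_mem_zpowers y.2)
    · rw [← hk, map_zpow, hinv, inv_zpow]
  have hexp : ∀ s ∈ S, s ^ m ! = 1 := fun s hs =>
    orderOf_dvd_iff_pow_eq_one.mp (Nat.dvd_factorial (orderOf_pos s) (hord s hs))
  -- the central quotient
  set Z := Subgroup.center G
  have hZ : Z.map α.toMonoidHom = Z := Subgroup.characteristic_iff_map_eq.mp inferInstance α
  set β := QuotientGroup.congr Z Z α hZ
  have hβ : ∀ g : G, β (QuotientGroup.mk g) = QuotientGroup.mk (α g) := fun g => rfl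
  set T := S.image (QuotientGroup.mk' Z)
  have hT : Subgroup.closure (T : Set (G ⧸ Z)) = ⊤ := by
    rw [Finset.coe_image, ← MonoidHom.map_closure, hgen,
      Subgroup.map_top_of_surjective _ (QuotientGroup.mk'_surjective Z)]
  have hβα : ∀ q, β (β q) = q := fun q => by
    induction q using QuotientGroup.induction_on with
    | _ g => rw [hβ, hβ, hαα]
  have hTodd : ∀ t ∈ T, Odd (orderOf t) ∧ β t = t⁻¹ := by
    intro t ht
    obtain ⟨s, hs, rfl⟩ := Finset.mem_image.mp ht
    obtain ⟨hodd, hinv⟩ := (Finset.mem_filter.mp hs).2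
    exact ⟨hodd.of_dvd_nat (orderOf_map_dvd _ s), by rw [QuotientGroup.mk'_apply, hβ, hinv, QuotientGroup.mk_inv]⟩
  have hTexp : ∀ t ∈ T, t ^ m ! = 1 := by
    intro t ht
    obtain ⟨s, hs, rfl⟩ := Finset.mem_image.mp ht
    rw [← map_pow, hexp s hs, map_one]
  -- fixed points in the quotient permute `S` faithfully
  have hfixed : Nat.card {q : G ⧸ Z // β q = q} ≤ m ! := by
    have hperm : ∀ q : {q : G ⧸ Z // β q = q}, ∀ s : ↥S, q.1.out * (s : G) * q.1.out⁻¹ ∈ S := by
      intro q s
      obtain ⟨hodd, hinv⟩ := (Finset.mem_filter.mp s.2).2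
      obtain ⟨g, hg⟩ : ∃ g, g = q.1.out := ⟨_, rfl⟩
      rw [← hg]
      refine Finset.mem_filter.mpr ⟨Finset.mem_univ _, ?_, ?_⟩
      · rwa [← MulAut.conj_apply, MulEquiv.orderOf_eq]
      · have h1 : g⁻¹ * α g ∈ Z := by
          refine QuotientGroup.eq.mp ?_
          rw [← hβ, hg, QuotientGroup.out_eq' q.1]
          exact q.2.symm
        obtain ⟨z, hz, hαg⟩ : ∃ z ∈ Z, α g = g * z := ⟨_, h1, (mul_inv_cancel_left g (α g)).symm⟩
        rw [map_mul, map_mul, map_inv, hinv, hαg, mul_inv_rev]
        have hzc := Subgroup.mem_center_iff.mp hz (s : G)⁻¹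
        calc g * z * (s : G)⁻¹ * (z⁻¹ * g⁻¹) = g * (z * (s : G)⁻¹) * z⁻¹ * g⁻¹ := by group
          _ = g * ((s : G)⁻¹ * z) * z⁻¹ * g⁻¹ := by rw [hzc]
          _ = _ := by group
    have hbij : ∀ q : {q : G ⧸ Z // β q = q}, Function.Bijective fun s : ↥S => (⟨_, hperm q s⟩ : ↥S) :=
      fun q => Finite.injective_iff_bijective.mp fun a b h =>
        Subtype.ext (mul_left_cancel (mul_right_cancel (congrArg (fun z : ↥S => (z : G)) h)))
    let f : {q : G ⧸ Z // β q = q} → Equiv.Perm ↥S := fun q => Equiv.ofBijective _ (hbij q)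
    refine (Nat.card_le_card_of_injective f fun q r h => ?_).trans ?_
    · refine Subtype.ext ?_
      rw [← QuotientGroup.out_eq' q.1, ← QuotientGroup.out_eq' r.1, QuotientGroup.eq, Subgroup.mem_center_iff]
      have hle : (⊤ : Subgroup G) ≤ Subgroup.centralizer ({q.1.out⁻¹ * r.1.out} : Set G) := by
        rw [← hgen, Subgroup.closure_le]
        intro s hs
        rw [SetLike.mem_coe, Subgroup.mem_centralizer_singleton_iff]
        have h1 : q.1.out * s * q.1.out⁻¹ = r.1.out * s * r.1.out⁻¹ :=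
          congrArg (fun e : Equiv.Perm ↥S => ((e ⟨s, hs⟩ : ↥S) : G)) h
        calc s * (q.1.out⁻¹ * r.1.out) = q.1.out⁻¹ * (q.1.out * s * q.1.out⁻¹) * r.1.out := by group
          _ = q.1.out⁻¹ * (r.1.out * s * r.1.out⁻¹) * r.1.out := by rw [h1]
          _ = _ := by group
      exact fun g => Subgroup.mem_centralizer_singleton_iff.mp (hle (Subgroup.mem_top g))
    · rw [Nat.card_perm, Nat.card_eq_finsetCard]
  have hTm : T.card ≤ m := Finset.card_image_le
  have hcard : ∀ (Y : Type) [Group Y] [Finite Y] (U : Finset Y), U.card ≤ m → Subgroup.closure (U : Set Y) = ⊤ →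
      (∀ u ∈ U, u ^ m ! = 1) → ∀ k, (Subgroup.center Y).index ≤ k → Nat.card Y ≤ db k * (m !) ^ m := by
    intro Y _ _ U hU hUgen hUexp k hk
    rw [Subgroup.card_eq_card_quotient_mul_card_subgroup (_root_.commutator Y), mul_comm]
    exact Nat.mul_le_mul (card_commutator_le hk)
      ((card_abelianization_le U hUgen (Nat.factorial_pos m) hUexp).trans
        (Nat.pow_le_pow_right (Nat.factorial_pos m) hU))
  refine hcard G S le_rfl hgen hexp _ ?_
  rw [Subgroup.index_eq_card]
  exact hcard (G ⧸ Z) T hTm hT hTexp _ (index_center_le β hβα T hTm hT hTodd hfixed)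

end Cfsg.Agent.S3928
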