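import Cfsg.Statements.S3930
import Cfsg.Agent.Lib.Pyramidal.Main
import Cfsg.Agent.Lib.Pyramidal.Counterexample

set_option autoImplicit false
open Cfsg

namespace Cfsg.Agent.S3930

/-- Call a finite group m-pyramidal when it has exactly m involutions and they form a single conjugacy class. Let p be an odd prime and k ≥ 1. Then every p^k-pyramidal finite group is solvable if and only if k is odd or p^k = 9. -/
theorem result (p k : ℕ) (hp : p.Prime) (hp2 : p ≠ 2) (hk : 1 ≤ k) :
    (∀ (G : Type) [Group G] [Finite G], Nat.card {x : G // orderOf x = 2} = p ^ k →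
      (∀ x y : G, orderOf x = 2 → orderOf y = 2 → ∃ g : G, g * x * g⁻¹ = y) → Group.IsSolvable G) ↔ (Odd k ∨ p ^ k = 9) := by
  constructor
  · intro h
    by_contra hne
    obtain ⟨hodd, h9⟩ := not_or.1 hne
    obtain ⟨j, rfl⟩ := Nat.not_odd_iff_even.1 hodd
    haveI : Fact p.Prime := ⟨hp⟩
    haveI : Fact (2 < p) := ⟨lt_of_le_of_ne hp.two_le (Ne.symm hp2)⟩
    let F := GaloisField p j
    have hF : Nat.card F = p ^ j := GaloisField.card p j (by omega)
    haveI : NeZero (2 : F) := ⟨Ring.two_ne_zero (by rw [ringChar.eq F p]; exact hp2)⟩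
    classical
    letI : Fintype F := Fintype.ofFinite F
    haveI : Finite (Pyramidal.Pyr F) := Finite.of_equiv _ SemidirectProduct.equivProd.symm
    refine Pyramidal.pyr_not_solvable F ?_
      (h (Pyramidal.Pyr F) ?_ (Pyramidal.pyr_conj F))
    · rw [← Nat.card_eq_fintype_card, hF]
      have h3 : 3 ≤ p := (Fact.out : 2 < p)
      rcases (show j = 1 ∨ 2 ≤ j by omega) with rfl | hj
      · by_contra hlt
        rw [pow_one] at hlt
        have hp3 : p = 3 := by omega
        subst hp3
        exact h9 (by norm_num)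
      · calc 4 ≤ 3 ^ 2 := by norm_num
          _ ≤ p ^ 2 := Nat.pow_le_pow_left h3 2
          _ ≤ p ^ j := Nat.pow_le_pow_right hp.pos hj
    · rw [Pyramidal.pyr_card, hF, ← pow_mul, mul_two]
  · intro hk G _ _ hc h1c
    exact Pyramidal.isSolvable_pyramidal G hp hp2 hk hc h1c

end Cfsg.Agent.S3930
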