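import Cfsg.Statements.S3937
import Cfsg.Agent.Lib.Subnormal.Engel
import Cfsg.Agent.Lib.Components.Fitting
import Cfsg.Agent.Lib.Subnormal.Nilpotent

set_option autoImplicit false
open Cfsg
open Cfsg.Agent.Subnormal

namespace Cfsg.Agent.S3937

/-- Baer's characterization of the Fitting subgroup: in a finite group G, an element g lies in the Fitting subgroup if and only if g is a left Engel element, that is, for every x there is n with [x, g, g, …, g] = 1 (n entries g, [a, b] = aba⁻¹b⁻¹). -/
theorem result {G : Type*} [Group G] [Finite G] (g : G) :
    g ∈ Cfsg.fittingSubgroup G ↔ ∀ x : G, ∃ n : ℕ, (List.replicate n g).foldl (fun a b => a * b * a⁻¹ * b⁻¹) x = 1 := by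
  have hfold : ∀ (n : ℕ) (x : G),
      (List.replicate n g).foldl (fun a b => a * b * a⁻¹ * b⁻¹) x = (commOp g)^[n] x := by
    intro n
    induction n with
    | zero => intro x; rfl
    | succ n ih =>
      intro x
      rw [List.replicate_succ, List.foldl_cons, Function.iterate_succ_apply, ih]
      rfl
  simp only [hfold]
  constructor
  · intro hg x
    have hFn := Components.fittingSubgroup_normal G
    have : Group.IsNilpotent ↥(fittingSubgroup G) := Components.fittingSubgroup_isNilpotent G
    obtain ⟨n, hn⟩ := Subgroup.nilpotent_iff_lowerCentralSeries.mp this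
    have hy : commOp g x ∈ fittingSubgroup G := mul_mem (hFn.conj_mem g hg x) (inv_mem hg)
    refine ⟨n + 1, ?_⟩
    have key : ∀ j, (commOp (⟨g, hg⟩ : ↥(fittingSubgroup G)))^[j] ⟨_, hy⟩ ∈
        (⊤ : Subgroup ↥(fittingSubgroup G)).lowerCentralSeries j := by
      intro j
      induction j with
      | zero => simp
      | succ j ih =>
        rw [Function.iterate_succ_apply', Subgroup.lowerCentralSeries_succ]
        exact Subgroup.commutator_mem_commutator ih (Subgroup.mem_top _)
    have h1 := key n
    rw [hn, Subgroup.mem_bot] at h1
    have h2 := congrArg (fittingSubgroup G).subtype h1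
    rw [map_iterate_commOp, map_one] at h2
    rw [Function.iterate_succ_apply]
    exact h2
  · intro h
    have : Group.IsNilpotent ↥(Subgroup.zpowers g) := by open scoped IsMulCommutative in exact inferInstance
    exact Components.le_fittingSubgroup_of_isSubnormal (isSubnormal_zpowers_of_engel g h)
      (Subgroup.mem_zpowers g)

end Cfsg.Agent.S3937
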