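import Cfsg.Statements.S3939
import Cfsg.Agent.S3937
import Cfsg.Agent.Lib.Components.Fitting
import Cfsg.Agent.Lib.Subnormal.Nilpotent

set_option autoImplicit false
open Cfsg

namespace Cfsg.Agent.S3939

/-- In a finite group G the set of elements g such that the subgroup generated by g and x is nilpotent for every x ∈ G is exactly the hypercenter of G (the last term of the upper central series). -/
theorem result {G : Type*} [Group G] [Finite G] (g : G) :
    (∀ x : G, Group.IsNilpotent ↥(Subgroup.closure ({x, g} : Set G))) ↔ g ∈ ⨆ n : ℕ, Subgroup.upperCentralSeries G n := by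
  obtain ⟨N, hN⟩ : ∃ N, ∀ n, Subgroup.upperCentralSeries G n ≤ Subgroup.upperCentralSeries G N := by
    obtain ⟨N, hN⟩ := WellFoundedGT.monotone_chain_condition
      (⟨Subgroup.upperCentralSeries G, Subgroup.upperCentralSeries_mono G⟩ : ℕ →o Subgroup G)
    refine ⟨N, fun n => ?_⟩
    rcases le_total N n with h | h
    · exact (hN n h).ge
    · exact Subgroup.upperCentralSeries_mono G h
  have hsup : (⨆ n : ℕ, Subgroup.upperCentralSeries G n) = Subgroup.upperCentralSeries G N :=
    le_antisymm (iSup_le hN) (le_iSup (Subgroup.upperCentralSeries G) N)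
  rw [hsup]
  constructor
  · intro hU
    -- `g` is a left Engel element, hence lies in the Fitting subgroup
    have hgF : g ∈ fittingSubgroup G := by
      refine (Cfsg.Agent.S3937.result g).mpr fun x => ?_
      set H := Subgroup.closure ({x, g} : Set G) with hH
      have hxH : x ∈ H := Subgroup.subset_closure (by simp)
      have hgH : g ∈ H := Subgroup.subset_closure (by simp)
      have := hU x
      obtain ⟨n, hn⟩ := (Cfsg.Agent.S3937.result (G := ↥H) ⟨g, hgH⟩).mp (by
        have htop : (⊤ : Subgroup ↥H) ≤ fittingSubgroup ↥H :=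
          le_sSup ⟨inferInstance, (Group.isNilpotent_top).mpr this⟩
        exact htop (Subgroup.mem_top _)) ⟨x, hxH⟩
      refine ⟨n, ?_⟩
      have h2 := congrArg H.subtype hn
      rw [map_one] at h2
      rw [← h2]
      clear h2 hn
      suffices key : ∀ (l : List ↥H) (y : ↥H),
          (l.map H.subtype).foldl (fun a b => a * b * a⁻¹ * b⁻¹) (y : G) =
            H.subtype (l.foldl (fun a b => a * b * a⁻¹ * b⁻¹) y) by
        have := key (List.replicate n ⟨g, hgH⟩) ⟨x, hxH⟩
        rwa [List.map_replicate] at this
      intro l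
      induction l with
      | nil => intro y; rfl
      | cons b l ih => intro y; simp only [List.map_cons, List.foldl_cons, ← ih]; rfl
    set Z := Subgroup.upperCentralSeries G N with hZ
    have hcenter : ∀ z : G ⧸ Z, z ∈ Subgroup.center (G ⧸ Z) → z = 1 := by
      intro z hz
      induction z using QuotientGroup.induction_on with
      | _ z =>
        refine (QuotientGroup.eq_one_iff z).mpr (hN (N + 1) ?_)
        rw [Subgroup.mem_upperCentralSeries_succ_iff]
        intro y
        rw [← hZ, ← QuotientGroup.eq_one_iff]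
        simp only [commutatorElement_def, QuotientGroup.mk_mul, QuotientGroup.mk_inv]
        rw [← Subgroup.mem_center_iff.mp hz (y : G ⧸ Z)]
        group
    by_contra hgZ
    have hne : orderOf (QuotientGroup.mk' Z g) ≠ 1 := fun h =>
      hgZ ((QuotientGroup.eq_one_iff g).mp (orderOf_eq_one_iff.mp h))
    obtain ⟨p, hp, hpd⟩ := Nat.exists_prime_and_dvd hne
    have := Fact.mk hp
    set n := orderOf g with hn
    have hn0 : n ≠ 0 := (orderOf_pos g).ne'
    set m := n / p ^ n.factorization p with hm
    set u := g ^ m with hu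
    have hupow : u ^ p ^ n.factorization p = 1 := by
      rw [hu, ← pow_mul, hm, mul_comm, Nat.ordProj_mul_ordCompl_eq_self n p, hn, pow_orderOf_eq_one]
    have huZ : u ∉ Z := by
      intro h
      have h1 : (QuotientGroup.mk' Z g) ^ m = 1 := by
        rw [← map_pow]; exact (QuotientGroup.eq_one_iff u).mpr h
      exact Nat.not_dvd_ordCompl hp hn0 (hpd.trans (orderOf_dvd_of_pow_eq_one h1))
    -- `u` commutes with all elements of order prime to `p`
    have hcomm : ∀ y : G, (orderOf y).Coprime p → Commute y u := by
      intro y hy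
      have := hU y
      set H := Subgroup.closure ({y, g} : Set G)
      have hyH : y ∈ H := Subgroup.subset_closure (by simp)
      have huH : u ∈ H := pow_mem (Subgroup.subset_closure (by simp)) _
      exact congrArg Subtype.val (Subnormal.commute_of_coprime (p := p) (k := n.factorization p) (u := (⟨u, huH⟩ : ↥H)) (y := (⟨y, hyH⟩ : ↥H)) (Subtype.ext hupow) (by rw [← Subgroup.orderOf_coe]; exact hy)).eq
    -- work in `G ⧸ Z`
    set π := QuotientGroup.mk' Z
    set W : Subgroup G := pCore p G ⊓
      Subgroup.centralizer {y : G | (orderOf y).Coprime p} with hW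
    have hWn : W.Normal := by
      have h1 := Components.pCore_normal' (G := G) p
      have h2 : (Subgroup.centralizer {y : G | (orderOf y).Coprime p}).Normal := ⟨fun c hc x => by
        rw [Subgroup.mem_centralizer_iff] at hc ⊢
        intro y hy
        have hconj := hc (x⁻¹ * y * x) (by
          have h3 : x⁻¹ * y * x = (MulAut.conj x⁻¹) y := by simp
          show (orderOf (x⁻¹ * y * x)).Coprime p
          rw [h3, MulEquiv.orderOf_eq]
          exact hy)
        calc y * (x * c * x⁻¹) = x * ((x⁻¹ * y * x) * c) * x⁻¹ := by group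
          _ = x * (c * (x⁻¹ * y * x)) * x⁻¹ := by rw [hconj]
          _ = x * c * x⁻¹ * y := by group⟩
      exact inferInstanceAs (pCore p G ⊓ _).Normal
    have huW : u ∈ W := by
      refine ⟨Subnormal.mem_pCore_of_mem_fittingSubgroup (pow_mem hgF _) hupow, ?_⟩
      exact Subgroup.mem_centralizer_iff.mpr fun y hy => (hcomm y hy).eq
    set V := W.map π with hV
    have hVp : IsPGroup p ↥V :=
      ((Components.isPGroup_pCore' p).to_le inf_le_left).map _
    have hVn : V.Normal := hWn.map _ (QuotientGroup.mk'_surjective Z)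
    have huV : π u ∈ V := Subgroup.mem_map_of_mem _ huW
    have hVne : π u ≠ 1 := fun h => huZ ((QuotientGroup.eq_one_iff u).mp h)
    -- the conjugation action on `V` is that of a `p`-group
    let θ : G →* MulAut ↥V := MulAut.conjNormal.comp π
    have hθp : IsPGroup p θ.range := by
      rintro ⟨_, y, rfl⟩
      refine ⟨(orderOf y).factorization p, Subtype.ext ?_⟩
      show θ y ^ p ^ _ = 1
      rw [← map_pow]
      refine MulEquiv.ext fun v => Subtype.ext ?_
      obtain ⟨w, hw, hwv⟩ := v.2
      show π _ * (v : G ⧸ Z) * (π _)⁻¹ = v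
      rw [← hwv, ← map_mul, ← map_inv, ← map_mul]
      congr 1
      have hcp : (orderOf (y ^ p ^ (orderOf y).factorization p)).Coprime p := by
        rw [orderOf_pow' _ (pow_ne_zero _ hp.pos.ne'), Nat.gcd_eq_right (Nat.ordProj_dvd _ _)]
        exact (Nat.coprime_ordCompl hp (orderOf_pos y).ne').symm
      have := Subgroup.mem_centralizer_iff.mp hw.2 _ hcp
      rw [this, mul_inv_cancel_right]
    let act : MulAction θ.range ↥V := MulAction.compHom _ θ.range.subtype
    have hdvd : p ∣ Nat.card ↥V := by
      obtain ⟨k, hk⟩ := IsPGroup.iff_card.mp hVp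
      rcases k with _ | k
      · have hbot : V = ⊥ := Subgroup.eq_bot_of_card_eq V (by simpa using hk)
        rw [hbot, Subgroup.mem_bot] at huV
        exact absurd huV hVne
      · exact hk ▸ dvd_pow_self p (by omega)
    obtain ⟨v, hv, hv1⟩ := hθp.exists_fixed_point_of_prime_dvd_card_of_fixed_point
      ↥V hdvd (a := 1) (fun r => map_one (r : MulAut ↥V))
    refine hv1 (Subtype.ext (hcenter (v : G ⧸ Z) (Subgroup.mem_center_iff.mpr fun y => ?_)).symm)
    obtain ⟨y, rfl⟩ := QuotientGroup.mk'_surjective Z y
    have := congrArg Subtype.val (hv ⟨θ y, y, rfl⟩)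
    change π y * (v : G ⧸ Z) * (π y)⁻¹ = v at this
    exact mul_inv_eq_iff_eq_mul.mp this
  · intro hg x
    set H := Subgroup.closure ({x, g} : Set G) with hH
    have hxH : x ∈ H := Subgroup.subset_closure (by simp)
    have hgH : g ∈ H := Subgroup.subset_closure (by simp)
    have hasc : Subgroup.IsAscendingCentralSeries
        (fun i => (Subgroup.upperCentralSeries G i).subgroupOf H) := by
      refine ⟨by simp, fun y i hy z => ?_⟩
      rw [Subgroup.mem_subgroupOf] at hy ⊢
      exact Subgroup.mem_upperCentralSeries_succ_iff.mp hy z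
    have hgZ : (⟨g, hgH⟩ : ↥H) ∈ Subgroup.upperCentralSeries ↥H N :=
      Subgroup.ascending_central_series_le_upper _ hasc N hg
    rw [Subgroup.nilpotent_iff_finite_ascending_central_series]
    refine ⟨N + 1, Subgroup.upperCentralSeries ↥H,
      Subgroup.upperCentralSeries_isAscendingCentralSeries ↥H, top_unique fun y _ => ?_⟩
    set Z := Subgroup.upperCentralSeries ↥H N
    have hcyc : ∀ y : ↥H, QuotientGroup.mk' Z y ∈ Subgroup.zpowers (QuotientGroup.mk' Z ⟨x, hxH⟩) := by
      intro y
      have hy : H ≤ ((Subgroup.zpowers (QuotientGroup.mk' Z ⟨x, hxH⟩)).comap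
          (QuotientGroup.mk' Z)).map H.subtype := by
        refine (Subgroup.closure_le _).mpr ?_
        rintro z (rfl | rfl)
        · exact ⟨⟨z, hxH⟩, Subgroup.mem_zpowers _, rfl⟩
        · refine ⟨⟨z, hgH⟩, ?_, rfl⟩
          show QuotientGroup.mk' Z ⟨z, hgH⟩ ∈ Subgroup.zpowers _
          rw [show QuotientGroup.mk' Z ⟨z, hgH⟩ = 1 from (QuotientGroup.eq_one_iff _).mpr hgZ]
          exact one_mem _
      obtain ⟨y', hy', he⟩ := hy y.2
      exact H.subtype_injective he ▸ hy'
    rw [Subgroup.mem_upperCentralSeries_succ_iff]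
    intro z
    obtain ⟨i, hi⟩ := hcyc y
    obtain ⟨j, hj⟩ := hcyc z
    refine (QuotientGroup.eq_one_iff _).mp ?_
    show QuotientGroup.mk' Z _ = 1
    simp only [map_mul, map_inv, map_commutatorElement, commutatorElement_def, ← hi, ← hj]
    group

end Cfsg.Agent.S3939
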