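import Cfsg.Statements.S3941
import Mathlib

set_option autoImplicit false
open Cfsg

namespace Cfsg.Agent.S3941

theorem four : ∃ x y : ↥(alternatingGroup (Fin 4)), x ^ 3 = 1 ∧ y ^ 3 = 1 ∧ x * y ≠ 1 ∧ (x * y) ^ 2 = 1 := by
  decide

/-- `A_N` with `p ≤ N`, `N ≥ 4` has no normal Sylow `p`-subgroup, `p` odd. -/
theorem not_pClosed {N p : ℕ} [hp : Fact p.Prime] (hp2 : p ≠ 2) (hN : 4 ≤ N) (hpN : p ≤ N) :
    ¬ Cfsg.IsPClosed p ↥(alternatingGroup (Fin N)) := by
  intro hc
  have : Nontrivial (Fin N) := Fin.nontrivial_iff_two_le.mpr (by omega)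
  have hdvd : p ∣ Nat.card ↥(alternatingGroup (Fin N)) := by
    have h1 : 2 * Nat.card ↥(alternatingGroup (Fin N)) = N.factorial := by
      rw [two_mul_nat_card_alternatingGroup, Nat.card_eq_fintype_card, Fintype.card_perm, Fintype.card_fin]
    have h2 : p ∣ 2 * Nat.card ↥(alternatingGroup (Fin N)) := h1 ▸ Nat.dvd_factorial hp.out.pos hpN
    exact ((Nat.coprime_primes hp.out Nat.prime_two).mpr hp2).dvd_of_dvd_mul_left h2
  let P : Sylow p ↥(alternatingGroup (Fin N)) := default
  have hn := hc P
  obtain ⟨k, hk⟩ := P.2.exists_card_eq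
  rcases eq_or_lt_of_le hN with rfl | hN5
  · have hp3 : p = 3 := by
      have := hp.out.two_le
      rcases (show p = 3 ∨ p = 4 by omega) with h | h
      · exact h
      · exact absurd (h ▸ hp.out) (by decide)
    subst hp3
    obtain ⟨x, y, hx, hy, hne, hxy⟩ := four
    have hmem : ∀ z : ↥(alternatingGroup (Fin 4)), z ^ 3 = 1 → z ∈ (P : Subgroup _) := by
      intro z hz
      obtain ⟨j, -, hj⟩ := (Nat.dvd_prime_pow Nat.prime_three).mp
        ((orderOf_dvd_of_pow_eq_one hz).trans (by rw [pow_one] : 3 ∣ 3 ^ 1))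
      obtain ⟨Q, hQ⟩ := (IsPGroup.of_card ((Nat.card_zpowers z).trans hj)).exists_le_sylow
      have : Subsingleton (Sylow 3 ↥(alternatingGroup (Fin 4))) :=
        ⟨fun A B => by
          have hA := hc A
          exact (Sylow.unique_of_normal A hA).uniq _ |>.trans ((Sylow.unique_of_normal A hA).uniq _).symm⟩
      rw [Subsingleton.elim P Q]
      exact hQ (Subgroup.mem_zpowers z)
    have h2 : orderOf (x * y) = 2 := orderOf_eq_prime hxy hne
    have h3 : orderOf (x * y) ∣ 3 ^ k := hk ▸ Subgroup.orderOf_dvd_natCard _ (mul_mem (hmem x hx) (hmem y hy))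
    rw [h2] at h3
    exact absurd (Nat.prime_two.dvd_of_dvd_pow h3) (by norm_num)
  · have : IsSimpleGroup ↥(alternatingGroup (Fin N)) := alternatingGroup.isSimpleGroup (by simp; omega)
    rcases hn.eq_bot_or_eq_top with h | h
    · exact P.ne_bot_of_dvd_card hdvd h
    · rw [h, Subgroup.card_top] at hk
      have h1 : 2 ∣ Nat.card ↥(alternatingGroup (Fin N)) := by
        obtain ⟨t, ht⟩ := Nat.dvd_factorial (show 0 < 4 by norm_num) (show 4 ≤ N by omega)
        refine ⟨t, ?_⟩
        have h2 : 2 * Nat.card ↥(alternatingGroup (Fin N)) = N.factorial := by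
          rw [two_mul_nat_card_alternatingGroup, Nat.card_eq_fintype_card, Fintype.card_perm, Fintype.card_fin]
        omega
      rw [hk] at h1
      exact hp2 ((Nat.prime_dvd_prime_iff_eq Nat.prime_two hp.out).mp (Nat.prime_two.dvd_of_dvd_pow h1)).symm

/-- Let n ≥ 5 and p an odd prime with p ≤ n, and suppose that every proper subgroup of the alternating group of degree n whose order is divisible by p has a normal Sylow p-subgroup. Then n = p. -/
theorem result (n p : ℕ) (hn : 5 ≤ n) [Fact p.Prime] (hp : p ≠ 2) (hpn : p ≤ n)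
    (h : ∀ H : Subgroup ↥(alternatingGroup (Fin n)), H ≠ ⊤ → p ∣ Nat.card ↥H → Cfsg.IsPClosed p ↥H) : n = p := by
  by_contra hne
  obtain ⟨N, rfl⟩ : ∃ N, n = N + 1 := ⟨n - 1, by omega⟩
  set s : Finset (Fin (N + 1)) := Finset.univ.erase (Fin.last N) with hs
  have hcard : s.card = N := by rw [hs, Finset.card_erase_of_mem (Finset.mem_univ _)]; simp
  let e : ↥(alternatingGroup (Fin N)) ≃* ↥(alternatingGroup ↥s) :=
    Equiv.altCongrHom (Finset.equivFinOfCardEq hcard).symm
  let f := (alternatingGroup.ofSubtype s).comp e.toMonoidHom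
  have hf : Function.Injective f := alternatingGroup.ofSubtype_injective.comp e.injective
  have : Nontrivial (Fin N) := Fin.nontrivial_iff_two_le.mpr (by omega)
  have hdvd : p ∣ Nat.card ↥f.range := by
    rw [Nat.card_congr (MonoidHom.ofInjective hf).symm.toEquiv]
    have h1 : p ∣ 2 * Nat.card ↥(alternatingGroup (Fin N)) := by
      rw [two_mul_nat_card_alternatingGroup, Nat.card_eq_fintype_card, Fintype.card_perm, Fintype.card_fin]
      exact Nat.dvd_factorial (Fact.out : p.Prime).pos (by omega)
    exact ((Nat.coprime_primes Fact.out Nat.prime_two).mpr hp).dvd_of_dvd_mul_left h1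
  have htop : f.range ≠ ⊤ := fun htop => by
    have h1 : Nat.card ↥(alternatingGroup (Fin N)) = Nat.card ↥(alternatingGroup (Fin (N + 1))) := by
      rw [Nat.card_congr (MonoidHom.ofInjective hf).toEquiv, htop, Subgroup.card_top]
    have h2 : N.factorial = (N + 1).factorial := by
      have h4 : 2 * Nat.card ↥(alternatingGroup (Fin N)) = 2 * Nat.card ↥(alternatingGroup (Fin (N + 1))) :=
        congrArg (2 * ·) h1
      have : Nontrivial (Fin (N + 1)) := Fin.nontrivial_iff_two_le.mpr (by omega)
      rw [two_mul_nat_card_alternatingGroup, two_mul_nat_card_alternatingGroup, Nat.card_perm,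
        Nat.card_perm, Nat.card_fin, Nat.card_fin] at h4
      exact h4
    have h3 := Nat.factorial_pos N
    rw [Nat.factorial_succ, Nat.succ_mul] at h2
    have : N * N.factorial = 0 := by omega
    simp at this
    omega
  have hclosed := h f.range htop hdvd
  refine not_pClosed hp (show 4 ≤ N by omega) (by omega) fun P => ?_
  let g := (MonoidHom.ofInjective hf)
  let Q : Sylow p ↥f.range := P.mapSurjective (f := g.toMonoidHom) g.surjective
  have h1 := (hclosed Q).comap g.toMonoidHom
  rwa [show (Q : Subgroup ↥f.range).comap g.toMonoidHom = (P : Subgroup _) from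
    Subgroup.comap_map_eq_self_of_injective g.injective _] at h1

end Cfsg.Agent.S3941
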