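import Cfsg.Statements.S3947
import Cfsg.Agent.Lib.Subnormal.Zipper

set_option autoImplicit false
open Cfsg
open Cfsg.Agent.Subnormal

namespace Cfsg.Agent.S3947

/-- Let G be a finite group and A a proper subgroup of G whose normal closure is G. Let Y be the join of all proper subgroups H of G that contain A and are generated by their own conjugates of A (the normal closure of A in H is H). Then either Y = G, or A is contained in exactly one maximal subgroup of G. -/
theorem result {G : Type*} [Group G] [Finite G] (A : Subgroup G) (hA : Subgroup.normalClosure (A : Set G) = ⊤) (hAG : A ≠ ⊤) :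
    sSup {H : Subgroup G | A ≤ H ∧ H ≠ ⊤ ∧ Subgroup.normalClosure ((A.subgroupOf H : Subgroup ↥H) : Set ↥H) = ⊤} = ⊤ ∨
      ∃! M : Subgroup G, IsCoatom M ∧ A ≤ M := by
  by_cases hY : sSup (genBy A) = ⊤
  · left
    refine Eq.trans ?_ hY
    congr 1
    ext H
    simp only [genBy, Set.mem_ofPred_eq]
    refine and_congr_right fun hAH => and_congr_right fun _ => ?_
    rw [← map_subtype_normalClosure hAH]
    constructor
    · intro h
      rw [h, ← MonoidHom.range_eq_map, Subgroup.range_subtype]
    · intro h
      refine Subgroup.map_injective H.subtype_injective ?_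
      rw [h, ← MonoidHom.range_eq_map, Subgroup.range_subtype]
  · right
    obtain ⟨M, hM, hAM⟩ := (eq_top_or_exists_le_coatom A).resolve_left hAG
    exact ⟨M, ⟨hM, hAM⟩, fun Q hQ => coatom_unique_of_join hA hY Q M hQ.1 hM hQ.2 hAM⟩

end Cfsg.Agent.S3947
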