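import Cfsg.Statements.S3950
import Cfsg.Agent.Lib.Schur.TwoGen
import Cfsg.Agent.Lib.Schur.Stem
import Cfsg.Agent.Lib.Abelian.Cyclic

set_option autoImplicit false
open Cfsg
open Cfsg.Agent.Schur
open scoped commutatorElement

namespace Cfsg.Agent.S3950

/-- Two dual functionals on a finite vector space with at least `p ^ 2` elements. -/
theorem exists_dual_pair {V : Type*} [AddCommGroup V] [Finite V] (p : ℕ) [Fact p.Prime]
    [Module (ZMod p) V] [Module.Finite (ZMod p) V] (hcard : p ^ 2 ≤ Nat.card V) :
    ∃ (f g : V →+ ZMod p) (v w : V), f v = 1 ∧ f w = 0 ∧ g v = 0 ∧ g w = 1 := by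
  have h1 := FiniteField.pow_finrank_eq_natCard p V
  rw [← h1] at hcard
  have h2 : 2 ≤ Module.finrank (ZMod p) V :=
    (Nat.pow_le_pow_iff_right (Fact.out (p := p.Prime)).one_lt).mp hcard
  obtain ⟨bas⟩ : Nonempty (Module.Basis (Fin (Module.finrank (ZMod p) V)) (ZMod p) V) :=
    ⟨Module.finBasis (ZMod p) V⟩
  refine ⟨(bas.coord ⟨0, by omega⟩).toAddMonoidHom, (bas.coord ⟨1, h2⟩).toAddMonoidHom,
    bas ⟨0, by omega⟩, bas ⟨1, h2⟩, ?_, ?_, ?_, ?_⟩ <;> simp [Finsupp.single_apply]


/-- A finite abelian group has trivial Schur multiplier if and only if it is cyclic. -/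
theorem result {G : Type*} [CommGroup G] [Finite G] : Cfsg.HasCyclicSchurMultiplier G 1 ↔ IsCyclic G := by
  constructor
  · intro hG
    by_contra hnc
    obtain ⟨p, b, c, hp, hb, hc, hbc⟩ := Abelian.exists_independent_of_not_isCyclic hnc
    have := Fact.mk hp
    set P : Subgroup G := (powMonoidHom p).range with hP
    set K : Subgroup G := (powMonoidHom p).ker with hK
    have hcard : p ^ 2 ≤ P.index := by
      have h1 : Nat.card ↥K = P.index := by
        have e1 := Subgroup.card_mul_index K
        rw [hK, ← MonoidHom.comap_bot, Subgroup.index_comap, Subgroup.relIndex_bot_left,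
          ← hP] at e1
        have e2 := Subgroup.card_mul_index P
        have : 0 < Nat.card ↥P := Nat.card_pos
        rw [← e2, mul_comm (Nat.card ↥P)] at e1
        exact Nat.eq_of_mul_eq_mul_right this e1
      rw [← h1]
      have hbK : b ∈ K := by simp [hK, ← hb, pow_orderOf_eq_one]
      have hcK : c ∈ K := by simp [hK, ← hc, pow_orderOf_eq_one]
      obtain ⟨k, hk⟩ := IsPGroup.iff_card.mp (fun x => ⟨1, Subtype.ext (by
        rw [pow_one]
        exact x.2)⟩ : IsPGroup p ↥K)
      rw [hk]
      refine Nat.pow_le_pow_right hp.pos ?_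
      by_contra! hh
      have hle : Subgroup.zpowers c ≤ K := Subgroup.zpowers_le.mpr hcK
      refine hbc ?_
      rw [Subgroup.eq_of_le_of_card_ge hle (by
        rw [Nat.card_zpowers, hc, hk]
        calc p ^ k ≤ p ^ 1 := Nat.pow_le_pow_right hp.pos (by omega)
          _ = p := pow_one p)]
      exact hbK
    -- two independent functionals on `G ⧸ G ^ p`
    have hV : ∀ v : (Additive (G ⧸ P)), p • v = 0 := by
      intro v
      obtain ⟨x, rfl⟩ := Additive.ofMul.surjective v
      induction x using QuotientGroup.induction_on with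
      | _ g =>
        show Additive.ofMul ((g : G ⧸ P) ^ p) = 0
        rw [← QuotientGroup.mk_pow, (QuotientGroup.eq_one_iff (g ^ p)).mpr (show g ^ p ∈ (powMonoidHom p).range from ⟨g, rfl⟩)]
        rfl
    obtain ⟨_instMod⟩ : Nonempty (Module (ZMod p) (Additive (G ⧸ P))) := ⟨AddCommGroup.zmodModule hV⟩
    have : Finite (Additive (G ⧸ P)) := Finite.of_equiv (G ⧸ P) Additive.ofMul
    have : Module.Finite (ZMod p) (Additive (G ⧸ P)) := Module.Finite.of_finite
    obtain ⟨f0, g0, v0, w0, hfv, hfw, hgv, hgw⟩ := exists_dual_pair (V := Additive (G ⧸ P)) p (by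
      rw [Nat.card_congr Additive.toMul]; exact hcard)
    let q : Additive G →+ Additive (G ⧸ P) := MonoidHom.toAdditive (QuotientGroup.mk' P)
    let f : Additive G →+ ZMod p := f0.comp q
    let g : Additive G →+ ZMod p := g0.comp q
    let β : Additive G →+ Additive G →+ ZMod p :=
      AddMonoidHom.mk' (fun v => (AddMonoidHom.mulLeft (f v)).comp g)
        fun v w => by ext x; simp [add_mul]
    obtain ⟨v, hv⟩ := QuotientGroup.mk'_surjective P (Additive.toMul v0)
    obtain ⟨w, hw⟩ := QuotientGroup.mk'_surjective P (Additive.toMul w0)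
    have hqv : q (Additive.ofMul v) = v0 := congrArg Additive.ofMul hv
    have hqw : q (Additive.ofMul w) = w0 := congrArg Additive.ofMul hw
    have hβ : β (Additive.ofMul v) (Additive.ofMul w) - β (Additive.ofMul w) (Additive.ofMul v) = 1 := by
      simp [β, f, g, hqv, hqw, hfv, hfw, hgv, hgw]
    obtain ⟨⟨-, hzc, hcomm⟩, ⟨e⟩⟩ := BilExt.isStemExtension β (Additive.ofMul v)
      (Additive.ofMul w) (by
        rw [hβ]
        exact top_unique fun x _ => ⟨(x.val : ℤ), by simp⟩)
    let σ : BilExt β →* G :=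
      { toFun := fun x => Additive.toMul x.fst, map_one' := rfl, map_mul' := fun _ _ => rfl }
    have hker : σ.ker = (BilExt.proj β).ker := by
      ext x
      exact ⟨fun h => congrArg Multiplicative.ofAdd (congrArg Additive.ofMul h : _),
        fun h => congrArg Additive.toMul (Multiplicative.ofAdd.injective h : _)⟩
    have h1 := ker_inf_commutator_eq_bot hG σ
      (fun x => ⟨⟨Additive.ofMul x, 0⟩, rfl⟩) (hker ▸ hzc)
    rw [hker, inf_eq_left.mpr hcomm] at h1
    have := Nat.card_congr e.toEquiv
    rw [h1, Subgroup.card_bot, Nat.card_congr Multiplicative.toAdd, Nat.card_zmod] at this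
    exact hp.ne_one this.symm
  · intro hc
    refine Schur.hasCyclicSchurMultiplier_one fun Γ _ _ σ hσ => ?_
    have : IsCyclic ((⊤ : Subgroup Γ).map σ) := by infer_instance
    have h := commutator_eq_bot_of_isCyclic σ hσ.2.1 ⊤
    exact le_bot_iff.mp (hσ.2.2.trans (le_of_eq h))

end Cfsg.Agent.S3950
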