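import Cfsg.Statements.S3951
import Cfsg.Agent.Lib.Schur.TwoGen

set_option autoImplicit false
open Cfsg
open Cfsg.Agent.Schur
open scoped commutatorElement

namespace Cfsg.Agent.S3951

/-- For positive integers `m` and `n` with `n` dividing `m`, the Schur multiplier of the abelian group `ZMod m × ZMod n` (written multiplicatively) is cyclic of order `n`. In particular the elementary abelian group of order `p ^ 2` has multiplier of order `p`. -/
theorem result (m n : ℕ) [NeZero m] [NeZero n] (hnm : n ∣ m) : Cfsg.HasCyclicSchurMultiplier (Multiplicative (ZMod m × ZMod n)) n := by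
  let φ : ZMod m →+* ZMod n := ZMod.castHom hnm (ZMod n)
  let β : (ZMod m × ZMod n) →+ (ZMod m × ZMod n) →+ ZMod n :=
    AddMonoidHom.mk' (fun v => (AddMonoidHom.mulLeft (φ v.1)).comp (AddMonoidHom.snd _ _))
      fun v w => by ext x <;> simp [add_mul]
  constructor
  · refine ⟨BilExt β, inferInstance, inferInstance, BilExt.proj β,
      BilExt.isStemExtension β (1, 0) (0, 1) ?_⟩
    have h1 : β (1, 0) (0, 1) - β (0, 1) (1, 0) = 1 := by simp [β]
    rw [h1, eq_top_iff]
    intro x _
    exact ⟨(x.val : ℤ), by simp⟩
  · intro Γ _ _ σ hσ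
    obtain ⟨A, hA⟩ := hσ.1 (Multiplicative.ofAdd (1, 0))
    obtain ⟨B, hB⟩ := hσ.1 (Multiplicative.ofAdd (0, 1))
    set c := ⁅B, A⁆ with hc
    have hcz : ∀ g, g * c = c * g := fun g => Subgroup.mem_center_iff.mp (hσ.2.1 (by
      rw [MonoidHom.mem_ker, hc, map_commutatorElement, commutatorElement_eq_one_iff_mul_comm,
        mul_comm])) g
    have hgen : Subgroup.closure ({σ A, σ B} : Set (Multiplicative (ZMod m × ZMod n))) = ⊤ := by
      refine top_unique fun x _ => ?_
      have hx : x = (σ A) ^ (Multiplicative.toAdd x).1.val * (σ B) ^ (Multiplicative.toAdd x).2.val := by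
        rw [hA, hB]
        refine Multiplicative.toAdd.injective ?_
        simp [Prod.ext_iff]
      rw [hx]
      exact mul_mem (pow_mem (Subgroup.subset_closure (by simp)) _)
        (pow_mem (Subgroup.subset_closure (by simp)) _)
    have hle := commutator_le_zpowers hσ.2.1 hgen
      (show A * c * A⁻¹ ∈ Subgroup.zpowers c by
        rw [hcz A, mul_inv_cancel_right]; exact Subgroup.mem_zpowers c)
      (show B * c * B⁻¹ ∈ Subgroup.zpowers c by
        rw [hcz B, mul_inv_cancel_right]; exact Subgroup.mem_zpowers c)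
    have hcn : c ^ n = 1 := by
      have hBn : B ^ n ∈ Subgroup.center Γ := hσ.2.1 (by
        rw [MonoidHom.mem_ker, map_pow, hB]
        refine Multiplicative.toAdd.injective ?_
        simp)
      have h1 : A⁻¹ * B * A = A⁻¹ * c * A * B := by rw [hc, commutatorElement_def]; group
      have h2 : A⁻¹ * c * A = c := by rw [mul_assoc, ← hcz A, inv_mul_cancel_left]
      rw [h2] at h1
      have h3 := congrArg (· ^ n) h1
      change (A⁻¹ * B * A) ^ n = (c * B) ^ n at h3
      have h4 : (A⁻¹ * B * A) ^ n = A⁻¹ * B ^ n * A := by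
        have := conj_pow (a := A⁻¹) (b := B) (i := n)
        rwa [inv_inv] at this
      rw [h4, (show Commute c B from (hcz B).symm).mul_pow, mul_assoc,
        ← Subgroup.mem_center_iff.mp hBn A, inv_mul_cancel_left] at h3
      exact right_eq_mul.mp h3
    exact exists_surjective_zmod_of_le_zpowers _ n (hσ.2.2.trans hle) hcn

end Cfsg.Agent.S3951
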