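import Cfsg.Statements.S3952
import Cfsg.Agent.Lib.Schur.Basic
import Cfsg.Agent.Lib.Char.Orthogonality
import Cfsg.Agent.Lib.CharInt.Central
import Mathlib

set_option autoImplicit false
open Cfsg
open Cfsg.Agent.Schur

namespace Cfsg.Agent.S3952

universe u

theorem scalar_data {Γ : Type u} [Group Γ] [Finite Γ] (χ : Cfsg.IrrCharacter Γ) (Z : Subgroup Γ)
    (hZ : Z ≤ Subgroup.center Γ) :
    ∃ ω : ↥Z →* ℂ, (∀ z : ↥Z, χ.1 z = ω z * χ.1 1) ∧
      ∀ z : ↥Z, (z : Γ) ∈ _root_.commutator Γ → ω z ^ Char.degree χ = 1 := by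
  obtain ⟨n, ρ, hρ, hρχ⟩ := χ.2
  have := hρ
  have := CharInt.nontrivial_of_irreducible ρ
  have hn : Char.degree χ = n := by
    have h := Char.apply_one_eq_degree χ
    rw [← hρχ, ρ.char_one, Module.finrank_fin_fun] at h
    exact_mod_cast h.symm
  choose c hc using fun z : ↥Z => CharInt.exists_smul_one_of_mem_center ρ (hZ z.2)
  have hinj : Function.Injective fun a : ℂ => a • (1 : Module.End ℂ (Fin n → ℂ)) :=
    fun a b hab => smul_left_injective ℂ (show (1 : Module.End ℂ (Fin n → ℂ)) ≠ 0 from one_ne_zero) hab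
  refine ⟨{ toFun := c, map_one' := hinj ?_, map_mul' := fun a b => hinj ?_ }, fun z => ?_, fun z hz => ?_⟩
  · show c 1 • (1 : Module.End ℂ (Fin n → ℂ)) = (1 : ℂ) • 1
    rw [← hc, one_smul, OneMemClass.coe_one, map_one]
  · show c (a * b) • (1 : Module.End ℂ (Fin n → ℂ)) = (c a * c b) • 1
    rw [← hc, Subgroup.coe_mul, map_mul, hc, hc, smul_mul_smul_comm, one_mul]
  · show χ.1 z = c z * _
    rw [← hρχ]
    simp [Representation.character, hc]
  · show c z ^ Char.degree χ = 1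
    let D : Γ →* ℂ := (LinearMap.det : Module.End ℂ (Fin n → ℂ) →* ℂ).comp ρ
    have h1 : MonoidHom.toHomUnits D (z : Γ) = 1 :=
      MonoidHom.mem_ker.mp (Abelianization.commutator_subset_ker (MonoidHom.toHomUnits D) hz)
    have h2 : D (z : Γ) = 1 := congrArg Units.val h1
    rw [hn, ← h2]
    show _ = LinearMap.det (ρ (z : Γ))
    rw [hc, LinearMap.det_smul, map_one, mul_one, Module.finrank_fin_fun]

/-- A central character value of order `e` on the derived subgroup forces `e² ∣ |Γ : Z|`. -/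
theorem sq_dvd {Γ : Type u} [Group Γ] [Finite Γ] (Z : Subgroup Γ) (hZ : Z ≤ Subgroup.center Γ)
    (hZc : Z ≤ _root_.commutator Γ) (lam : ↥Z →* ℂˣ) (z₀ : ↥Z) :
    orderOf (lam z₀) ^ 2 ∣ Z.index := by
  classical
  have : Fintype Γ := Fintype.ofFinite Γ
  choose ω hω hωdet using fun χ : Cfsg.IrrCharacter Γ => scalar_data χ Z hZ
  set S := Finset.univ.filter fun χ : Cfsg.IrrCharacter Γ => ∀ z, ω χ z = (lam z : ℂ)
  have key : ((∑ χ ∈ S, Char.degree χ ^ 2 : ℕ) : ℂ) * (Nat.card ↥Z : ℂ) = (Nat.card Γ : ℂ) := by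
    let ν : Cfsg.IrrCharacter Γ → ↥Z →* ℂ := fun χ =>
      { toFun := fun z => ω χ z * ((lam z)⁻¹ : ℂˣ)
        map_one' := by simp
        map_mul' := fun a b => by rw [map_mul, map_mul, mul_inv, Units.val_mul]; ring }
    have hν : ∀ χ z, ν χ z = ω χ z * ((lam z)⁻¹ : ℂˣ) := fun _ _ => rfl
    have h1 : ∑ z : ↥Z, ((lam z)⁻¹ : ℂˣ) * (∑ χ : Cfsg.IrrCharacter Γ, χ.1 1 * χ.1 (z : Γ)) =
        (Nat.card Γ : ℂ) := by
      simp only [Char.sum_irr_degree_mul]
      rw [Finset.sum_eq_single (1 : ↥Z)]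
      · simp
      · intro z _ hz
        rw [if_neg fun h : (z : Γ) = 1 => hz (Subtype.ext h), mul_zero]
      · simp
    rw [← h1]
    simp only [Finset.mul_sum]
    rw [Finset.sum_comm, Nat.cast_sum, Finset.sum_mul, Finset.sum_filter]
    refine Finset.sum_congr rfl fun χ _ => ?_
    have h2 : ∀ z : ↥Z, ((lam z)⁻¹ : ℂˣ) * (χ.1 1 * χ.1 (z : Γ)) =
        ((Char.degree χ : ℂ) ^ 2) * ν χ z := fun z => by
      rw [hω, hν, Char.apply_one_eq_degree]
      ring
    simp only [h2, ← Finset.mul_sum]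
    split_ifs with h
    · have : ∀ z : ↥Z, ν χ z = 1 := fun z => by rw [hν, h z, Units.mul_inv]
      simp [this, Nat.card_eq_fintype_card]
    · have hne : ν χ ≠ 1 := fun h' => h fun z => by
        have h3 := DFunLike.congr_fun h' z
        rw [hν, MonoidHom.one_apply, Units.mul_inv_eq_one] at h3
        exact h3
      rw [sum_hom_units_eq_zero _ hne, mul_zero]
  have hnat : (∑ χ ∈ S, Char.degree χ ^ 2) * Nat.card ↥Z = Z.index * Nat.card ↥Z := by
    rw [Subgroup.index_mul_card]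
    exact_mod_cast key
  rw [← Nat.eq_of_mul_eq_mul_right Nat.card_pos hnat]
  refine Finset.dvd_sum fun χ hχ => pow_dvd_pow_of_dvd (orderOf_dvd_of_pow_eq_one (Units.ext ?_)) 2
  rw [Units.val_pow_eq_pow_val, ← (Finset.mem_filter.mp hχ).2 z₀, hωdet χ z₀ (hZc z₀.2), Units.val_one]

/-- If `A` is the Schur multiplier of the finite group `Q`, then the square of the exponent of `A` divides the order of `Q`. -/
theorem result {Q : Type*} [Group Q] [Finite Q] {A : Type*} [CommGroup A] (hA : Cfsg.HasSchurMultiplier Q A) : Monoid.exponent A ^ 2 ∣ Nat.card Q := by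
  have : Finite A := finite_of_hasSchurMultiplier hA
  obtain ⟨⟨Γ, iG, iF, σ, hσ, ⟨e⟩⟩, -⟩ := hA
  obtain ⟨a, ha⟩ := Monoid.exists_orderOf_eq_exponent (Monoid.ExponentExists.of_finite (G := A))
  set n := Monoid.exponent A
  have hn : n ≠ 0 := Monoid.exponent_ne_zero_of_finite
  obtain ⟨ζ, hζ⟩ : ∃ ζ : ℂˣ, orderOf ζ = n := by
    refine ⟨(Complex.isPrimitiveRoot_exp n hn).isUnit hn |>.unit, ?_⟩
    rw [← orderOf_units]
    exact (Complex.isPrimitiveRoot_exp n hn).eq_orderOf.symm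
  let θ : ↥(Subgroup.zpowers a) →* ℂˣ :=
    monoidHomOfForallMemZpowers (g := (⟨a, Subgroup.mem_zpowers a⟩ : ↥(Subgroup.zpowers a)))
      (fun x => by
        obtain ⟨i, hi⟩ := x.2
        exact ⟨i, Subtype.ext (by simpa using hi)⟩)
      (g' := ζ) (by rw [Subgroup.orderOf_mk, ha, hζ])
  have hdiv : ∀ k : ℕ, k ≠ 0 → Function.Surjective (fun d : ℂˣ => d ^ k) := fun k hk d => by
    obtain ⟨c, hc⟩ := IsAlgClosed.exists_pow_nat_eq (d : ℂ) (Nat.pos_of_ne_zero hk)
    have hc0 : c ≠ 0 := fun h => d.ne_zero (by rw [← hc, h, zero_pow hk])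
    exact ⟨Units.mk0 c hc0, Units.ext (by simp [hc])⟩
  obtain ⟨lam, hlam⟩ := exists_extend hdiv (Subgroup.zpowers a).subtype Subtype.val_injective θ
  have h1 : lam a = ζ :=
    (DFunLike.congr_fun hlam ⟨a, Subgroup.mem_zpowers a⟩).trans (monoidHomOfForallMemZpowers_apply_gen _ _)
  have h2 := sq_dvd σ.ker hσ.2.1 hσ.2.2 (lam.comp e.toMonoidHom) (e.symm a)
  rw [MonoidHom.comp_apply, MulEquiv.coe_toMonoidHom, MulEquiv.apply_symm_apply, h1, hζ,
    Subgroup.index_eq_card,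
    Nat.card_congr (QuotientGroup.quotientKerEquivOfSurjective σ hσ.1).toEquiv] at h2
  exact h2

end Cfsg.Agent.S3952
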