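import Cfsg.Statements.S3953
import Cfsg.Agent.Lib.Schur.Cores
import Mathlib

set_option autoImplicit false
open Cfsg
open Cfsg.Agent.Schur

namespace Cfsg.Agent.S3953

/-- Let `P` be a Sylow `p`-subgroup of the finite group `G`, let `A` be the Schur multiplier of `G` and `B` that of `P`. Then the `p`-primary component of `A` is isomorphic to a direct factor of `B`: there are subgroups `C` and `D` of `B` meeting trivially and generating `B`, with `C` isomorphic to the `p`-primary component of `A`. -/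
theorem result {G : Type*} [Group G] [Finite G] (p : ℕ) [Fact p.Prime] (P : Sylow p G) {A B : Type*} [CommGroup A] [CommGroup B] (hA : Cfsg.HasSchurMultiplier G A) (hB : Cfsg.HasSchurMultiplier P B) : ∃ C D : Subgroup B, C ⊓ D = ⊥ ∧ C ⊔ D = ⊤ ∧ Nonempty (CommGroup.primaryComponent A p ≃* C) := by
  have hp : p.Prime := Fact.out
  have : Finite A := finite_of_hasSchurMultiplier hA
  obtain ⟨eA⟩ := nonempty_equiv_mult (pres G) (pres_surjective G) hA
  obtain ⟨eB⟩ := nonempty_equiv_mult (pres ↥(P : Subgroup G)) (pres_surjective _) hB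
  obtain ⟨f, g, hfg⟩ := exists_res_cor (P : Subgroup G)
  let F : A →* B := (eB.toMonoidHom.comp f).comp eA.symm.toMonoidHom
  let H : B →* A := (eA.toMonoidHom.comp g).comp eB.symm.toMonoidHom
  have hHF : ∀ a, H (F a) = a ^ (P : Subgroup G).index := fun a => by
    show eA (g (eB.symm (eB (f (eA.symm a))))) = _
    rw [MulEquiv.symm_apply_apply, hfg, map_pow, MulEquiv.apply_symm_apply]
  obtain ⟨a, m, hm, hA'⟩ : ∃ a m, ¬ p ∣ m ∧ Nat.card A = p ^ a * m := by
    obtain ⟨a, m, hm, h⟩ := Nat.exists_eq_pow_mul_and_not_dvd (Nat.card_pos (α := A)).ne' p hp.ne_one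
    exact ⟨a, m, hm, h⟩
  have hcop : ∀ n, ¬ p ∣ n → n.Coprime (p ^ a) := fun n hn =>
    ((hp.coprime_iff_not_dvd.mpr hn).pow_left a).symm
  -- projection to the primary component
  obtain ⟨c, hc1, hc0⟩ := Nat.chineseRemainder (hcop m hm).symm 1 0
  set C0 := CommGroup.primaryComponent A p
  have hmemC : ∀ x : A, x ∈ C0 → x ^ p ^ a = 1 := by
    intro x hx
    obtain ⟨k, hk⟩ := CommGroup.mem_primaryComponent.mp hx
    obtain ⟨j, -, hj⟩ := (Nat.dvd_prime_pow hp).mp (orderOf_dvd_of_pow_eq_one hk)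
    rw [← orderOf_dvd_iff_pow_eq_one, hj]
    refine (Nat.Coprime.pow_left j (hp.coprime_iff_not_dvd.mpr hm)).dvd_of_dvd_mul_right ?_
    rw [← hA', ← hj]
    exact orderOf_dvd_natCard x
  have hproj : ∀ x : A, x ^ c ∈ C0 := fun x => by
    refine CommGroup.mem_primaryComponent.mpr ⟨a, ?_⟩
    obtain ⟨t, rfl⟩ := Nat.modEq_zero_iff_dvd.mp hc0
    rw [← pow_mul, show m * t * p ^ a = Nat.card A * t by rw [hA']; ring, pow_mul, pow_card_eq_one', one_pow]
  have hfix : ∀ x ∈ C0, x ^ c = x := fun x hx => by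
    conv_rhs => rw [← pow_one x]
    exact pow_eq_pow_iff_modEq.mpr (hc1.of_dvd (orderOf_dvd_of_pow_eq_one (hmemC x hx)))
  have hidx : ¬ p ∣ (P : Subgroup G).index := P.not_dvd_index
  let T : B →* A := (powMonoidHom c).comp H
  have hT : ∀ x ∈ C0, T (F x) = x ^ (P : Subgroup G).index := fun x hx => by
    show H (F x) ^ c = _
    rw [hHF, ← pow_mul, mul_comm, pow_mul, hfix x hx]
  have hinj : Function.Injective (F.comp C0.subtype) := by
    rw [injective_iff_map_eq_one]
    rintro ⟨x, hx⟩ h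
    have h1 : x ^ (P : Subgroup G).index = 1 := by
      rw [← hT x hx, show F x = 1 from h, map_one]
    have h2 : orderOf x ∣ 1 := by
      rw [← (hcop _ hidx).gcd_eq_one]
      exact Nat.dvd_gcd (orderOf_dvd_of_pow_eq_one h1) (orderOf_dvd_of_pow_eq_one (hmemC x hx))
    exact Subtype.ext (orderOf_eq_one_iff.mp (Nat.dvd_one.mp h2))
  refine ⟨C0.map F, T.ker, ?_, ?_, ⟨(MonoidHom.ofInjective hinj).trans (MulEquiv.subgroupCongr ?_)⟩⟩
  · refine eq_bot_iff.mpr ?_
    rintro _ ⟨⟨x, hx, rfl⟩, hk⟩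
    have h1 : x ^ (P : Subgroup G).index = 1 := (hT x hx).symm.trans hk
    have h2 : orderOf x ∣ 1 := by
      rw [← (hcop _ hidx).gcd_eq_one]
      exact Nat.dvd_gcd (orderOf_dvd_of_pow_eq_one h1) (orderOf_dvd_of_pow_eq_one (hmemC x hx))
    rw [Subgroup.mem_bot, orderOf_eq_one_iff.mp (Nat.dvd_one.mp h2), map_one]
  · refine top_unique fun b _ => ?_
    obtain ⟨e, he1, he0⟩ := Nat.chineseRemainder (hcop _ hidx).symm 1 0
    obtain ⟨d, rfl⟩ := Nat.modEq_zero_iff_dvd.mp he0
    obtain ⟨x, hx, hxb⟩ : ∃ x ∈ C0, T (F x) = T b := by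
      have hTb : T b ∈ C0 := hproj _
      refine ⟨(T b) ^ d, pow_mem hTb d, ?_⟩
      rw [hT _ (pow_mem hTb d), ← pow_mul]
      conv_rhs => rw [← pow_one (T b)]
      rw [mul_comm d]
      exact pow_eq_pow_iff_modEq.mpr (he1.of_dvd (orderOf_dvd_of_pow_eq_one (hmemC _ hTb)))
    rw [← mul_inv_cancel_left (F x) b]
    refine mul_mem (Subgroup.mem_sup_left (Subgroup.mem_map_of_mem F hx)) (Subgroup.mem_sup_right ?_)
    rw [MonoidHom.mem_ker, map_mul, map_inv, hxb, inv_mul_cancel]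
  · rw [MonoidHom.range_comp, Subgroup.range_subtype]

end Cfsg.Agent.S3953
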