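import Cfsg.Statements.S3954
import Cfsg.Agent.Lib.Schur.Basic
import Mathlib

set_option autoImplicit false
open Cfsg
open Cfsg.Agent.Schur

namespace Cfsg.Agent.S3954

/-- A quotient of a finite abelian group embeds into it. -/
theorem exists_injective_of_surjective {B K : Type*} [CommGroup B] [CommGroup K] [Finite B] (f : B →* K)
    (hf : Function.Surjective f) : ∃ g : K →* B, Function.Injective g := by
  have : Finite K := Finite.of_surjective f hf
  obtain ⟨eB⟩ := CommGroup.monoidHom_mulEquiv_of_hasEnoughRootsOfUnity B ℂ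
  obtain ⟨eK⟩ := CommGroup.monoidHom_mulEquiv_of_hasEnoughRootsOfUnity K ℂ
  let d : (K →* ℂˣ) →* (B →* ℂˣ) :=
    { toFun := fun χ => χ.comp f, map_one' := rfl, map_mul' := fun _ _ => rfl }
  have hd : Function.Injective d := fun a b hab => MonoidHom.ext fun k => by
    obtain ⟨x, rfl⟩ := hf k
    exact DFunLike.congr_fun hab x
  exact ⟨eB.toMonoidHom.comp (d.comp eK.symm.toMonoidHom), eB.injective.comp (hd.comp eK.symm.injective)⟩

/-- Let `U` be a subgroup of index `m` in the finite group `G`, let `A` be the Schur multiplier of `G` and `B` that of `U`. Then the subgroup of `m`-th powers of `A` is isomorphic to a subgroup of `B`. -/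
theorem result {G : Type*} [Group G] [Finite G] (U : Subgroup G) {A B : Type*} [CommGroup A] [CommGroup B] (hA : Cfsg.HasSchurMultiplier G A) (hB : Cfsg.HasSchurMultiplier U B) : ∃ C : Subgroup B, Nonempty ((powMonoidHom U.index : A →* A).range ≃* C) := by
  set π := pres G
  have hπ := pres_surjective G
  obtain ⟨eA⟩ := nonempty_equiv_mult π hπ hA
  have : Finite B := finite_of_hasSchurMultiplier hB
  let Δ : Subgroup (Ext π) := U.comap (extHom π)
  let τ : ↥Δ →* ↥U := ((extHom π).comp Δ.subtype).codRestrict U fun x => x.2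
  have hτ : Function.Surjective τ := fun u => by
    obtain ⟨x, hx⟩ := extHom_surjective π hπ u
    exact ⟨⟨x, show extHom π x ∈ U by rw [hx]; exact u.2⟩, Subtype.ext hx⟩
  have hτz : τ.ker ≤ Subgroup.center ↥Δ := fun x hx => Subgroup.mem_center_iff.mpr fun y =>
    Subtype.ext (Subgroup.mem_center_iff.mp (rel_le_center π (congrArg Subtype.val hx)) y)
  let : CommGroup ↥(τ.ker ⊓ _root_.commutator ↥Δ) :=
    { (τ.ker ⊓ _root_.commutator ↥Δ).toGroup with
      mul_comm := fun a b => Subtype.ext (Subgroup.mem_center_iff.mp (hτz b.2.1) (a : ↥Δ)) }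
  obtain ⟨f, hf⟩ := exists_surjective_of_central hB τ hτ hτz
  obtain ⟨g, hg⟩ := exists_injective_of_surjective f hf
  have hidx : Δ.index = U.index := Subgroup.index_comap_of_surjective _ (extHom_surjective π hπ)
  have : Δ.FiniteIndex := ⟨by rw [hidx]; exact Subgroup.FiniteIndex.index_ne_zero⟩
  -- powers of elements of the multiplier lie in the subgroup
  have hpow : ∀ x : ↥(mult π), ∃ y : ↥(τ.ker ⊓ _root_.commutator ↥Δ),
      ((y : ↥Δ) : Ext π) = (x : Ext π) ^ U.index := by
    intro x
    have hxΔ : ∀ k : ℕ, (x : Ext π) ^ k ∈ Δ := fun k => by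
      show extHom π ((x : Ext π) ^ k) ∈ U
      rw [map_pow, show extHom π (x : Ext π) = 1 from x.2.1, one_pow]
      exact U.one_mem
    refine ⟨⟨⟨(x : Ext π) ^ U.index, hxΔ _⟩, ?_, ?_⟩, rfl⟩
    · exact Subtype.ext (show extHom π ((x : Ext π) ^ U.index) = 1 by
        rw [map_pow, show extHom π (x : Ext π) = 1 from x.2.1, one_pow])
    · have hcom : ∀ k g₀, g₀⁻¹ * (x : Ext π) ^ k * g₀ ∈ Δ →
          g₀⁻¹ * (x : Ext π) ^ k * g₀ = (x : Ext π) ^ k := fun k g₀ _ => by
        rw [mul_assoc, ← Subgroup.mem_center_iff.mp (pow_mem (rel_le_center π x.2.1) k) g₀,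
          inv_mul_cancel_left]
      have h1 := MonoidHom.transfer_eq_pow (Abelianization.of (G := ↥Δ)) (x : Ext π) hcom
      have h2 : MonoidHom.transfer (Abelianization.of (G := ↥Δ)) (x : Ext π) = 1 :=
        Abelianization.commutator_subset_ker _ x.2.2
      rw [h2] at h1
      show (⟨_, hxΔ _⟩ : ↥Δ) ∈ _root_.commutator ↥Δ
      rw [← Abelianization.ker_of, MonoidHom.mem_ker, h1]
      exact congrArg _ (Subtype.ext (congrArg (fun k => (x : Ext π) ^ k) hidx.symm))
  choose y hy using hpow
  let Y : ↥(mult π) →* ↥(τ.ker ⊓ _root_.commutator ↥Δ) :=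
    { toFun := y
      map_one' := Subtype.ext (Subtype.ext (by rw [hy]; simp))
      map_mul' := fun a b => Subtype.ext (Subtype.ext (by
        rw [Subgroup.coe_mul, Subgroup.coe_mul, hy, hy, hy, Subgroup.coe_mul,
          (show Commute (a : Ext π) b from (Subgroup.mem_center_iff.mp (rel_le_center π b.2.1) _)).mul_pow])) }
  let T : A →* B := (g.comp Y).comp eA.symm.toMonoidHom
  have hker : T.ker = (powMonoidHom U.index : A →* A).ker := by
    ext a
    rw [MonoidHom.mem_ker, MonoidHom.mem_ker, powMonoidHom_apply]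
    show g (y (eA.symm a)) = 1 ↔ _
    rw [map_eq_one_iff g hg, ← map_eq_one_iff eA.symm eA.symm.injective, map_pow,
      ← (Subtype.val_injective (p := fun z => z ∈ mult π)).eq_iff, Subgroup.coe_pow, ← hy]
    constructor
    · intro h
      rw [h]
      rfl
    · intro h
      exact Subtype.ext (Subtype.ext h)
  exact ⟨T.range, ⟨(QuotientGroup.quotientKerEquivRange _).symm.trans
    ((QuotientGroup.quotientMulEquivOfEq hker.symm).trans (QuotientGroup.quotientKerEquivRange T))⟩⟩

end Cfsg.Agent.S3954
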