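import Cfsg.Statements.S3955
import Cfsg.Agent.Lib.Schur.Basic

set_option autoImplicit false
open Cfsg
open Cfsg.Agent.Schur
open scoped commutatorElement

namespace Cfsg.Agent.S3955

/-- Let `Q` be a finite group with Schur multiplier `A`, and let `σ : Γ →* Q` be a finite stem extension whose kernel is isomorphic to `A` (a Schur covering group of `Q`). Then every homomorphism `γ` from `Q` to the quotient of `GL n ℂ` by its centre lifts along `σ`: there is a homomorphism `ρ : Γ →* GL n ℂ` which, followed by the quotient map, equals `γ ∘ σ`. -/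
theorem result {Q : Type*} [Group Q] [Finite Q] {A : Type*} [CommGroup A] (hA : Cfsg.HasSchurMultiplier Q A) {Γ : Type*} [Group Γ] [Finite Γ] (σ : Γ →* Q) (hσ : Cfsg.IsStemExtension σ) (hk : Nonempty (σ.ker ≃* A)) (n : ℕ) (γ : Q →* (GL (Fin n) ℂ ⧸ Subgroup.center (GL (Fin n) ℂ))) : ∃ ρ : Γ →* GL (Fin n) ℂ, (QuotientGroup.mk' (Subgroup.center (GL (Fin n) ℂ))).comp ρ = γ.comp σ := by
  have hqc : (toExt (pres Q) hσ.1 hσ.2.1).ker ⊓ commutator (Ext (pres Q)) = ⊥ := by
    rw [eq_bot_iff, ← toExt_injOn_mult hA hσ hk]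
    rintro x ⟨hx, hxc⟩
    refine ⟨hx, ?_, hxc⟩
    show extHom (pres Q) x = 1
    rw [← comp_toExt (pres Q) hσ.1 hσ.2.1, MonoidHom.comp_apply, MonoidHom.mem_ker.mp hx, map_one]
  refine exists_lift (pres Q) (toExt (pres Q) hσ.1 hσ.2.1)
    (toExt_surjective (pres Q) hσ.1 hσ.2.1 (pres_surjective Q) hσ.2.2)
    (comp_toExt (pres Q) hσ.1 hσ.2.1) hqc
    (p := QuotientGroup.mk' (Subgroup.center (GL (Fin n) ℂ))) (QuotientGroup.mk'_surjective _)
    (QuotientGroup.ker_mk' _).le ?_ γ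
  intro m hm d hd
  rw [QuotientGroup.ker_mk', Matrix.GeneralLinearGroup.center_eq_range_scalar] at hd ⊢
  obtain ⟨c, rfl⟩ := hd
  obtain ⟨z, hz⟩ := IsAlgClosed.exists_pow_nat_eq (c : ℂ) (Nat.pos_of_ne_zero hm)
  have hz0 : z ≠ 0 := by
    rintro rfl
    rw [zero_pow hm] at hz
    exact c.ne_zero hz.symm
  exact ⟨Matrix.GeneralLinearGroup.scalar (Fin n) (Units.mk0 z hz0), ⟨_, rfl⟩, by
    rw [← map_pow]; exact congrArg _ (Units.ext (by simpa using hz))⟩

end Cfsg.Agent.S3955
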