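import Cfsg.Statements.S3956
import Cfsg.Agent.Lib.Schur.Basic
import Cfsg.Agent.Lib.Schur.Monomial

set_option autoImplicit false
universe u v
open Cfsg
open Cfsg.Agent.Schur

namespace Cfsg.Agent.S3956

/-- Let `σ : Γ →* Q` be a finite stem extension of the finite group `Q` such that every homomorphism from `Q` to the quotient of `GL n ℂ` by its centre, for every `n`, lifts along `σ` to a homomorphism `Γ →* GL n ℂ`. Then `σ` is a Schur covering group of `Q`: for every finite stem extension `τ : Δ →* Q` with `Δ` in the same universe as `Q`, the kernel of `τ` is a homomorphic image of the kernel of `σ`. -/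
theorem result {Q : Type u} [Group Q] [Finite Q] {Γ : Type v} [Group Γ] [Finite Γ] (σ : Γ →* Q) (hσ : Cfsg.IsStemExtension σ) (hlift : ∀ (n : ℕ) (γ : Q →* (GL (Fin n) ℂ ⧸ Subgroup.center (GL (Fin n) ℂ))), ∃ ρ : Γ →* GL (Fin n) ℂ, (QuotientGroup.mk' (Subgroup.center (GL (Fin n) ℂ))).comp ρ = γ.comp σ) (Δ : Type u) [Group Δ] [Finite Δ] (τ : Δ →* Q) (hτ : Cfsg.IsStemExtension τ) : ∃ π : σ.ker →* τ.ker, Function.Surjective π := by
  set π := pres Q
  set ψ := toExt π hσ.1 hσ.2.1 with hψ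
  obtain ⟨f, hf, hfval⟩ := exists_surjective_mult π hσ.1 hσ.2.1 (pres_surjective Q) hσ.2.2
  obtain ⟨g, hg, -⟩ := exists_surjective_mult π hτ.1 hτ.2.1 (pres_surjective Q) hτ.2.2
  suffices hinj : Function.Injective f from
    ⟨g.comp (MulEquiv.ofBijective f ⟨hinj, hf⟩).symm.toMonoidHom,
      hg.comp (MulEquiv.ofBijective f ⟨hinj, hf⟩).symm.surjective⟩
  rw [injective_iff_map_eq_one]
  intro m hm
  by_contra hne
  obtain ⟨C, hC, hCM, hsup⟩ := exists_complement π (rel π) le_rfl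
  have := normal_of_le_rel π hC
  obtain ⟨-, ⟨hs0, hz0, -⟩, ⟨e⟩⟩ := stem_of_complement π (pres_surjective Q) hC hCM hsup
  set σ₀ := QuotientGroup.lift C (extHom π) hC with hσ₀
  have : Finite ↥σ₀.ker := Finite.of_equiv _ e.toEquiv.symm
  let : CommGroup ↥σ₀.ker :=
    { (inferInstance : Group ↥σ₀.ker) with
      mul_comm := fun a b => Subtype.ext (Subgroup.mem_center_iff.mp (hz0 b.2) (a : Ext π ⧸ C)) }
  have hmk : (QuotientGroup.mk' C) (m : Ext π) ∈ σ₀.ker := m.2.1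
  have hne' : (⟨_, hmk⟩ : ↥σ₀.ker) ≠ 1 := fun h => hne (Subtype.ext (Subgroup.mem_bot.mp
    (hCM ▸ ⟨(QuotientGroup.eq_one_iff _).mp (congrArg Subtype.val h), m.2⟩)))
  obtain ⟨θ₀, hθ₀⟩ := CommGroup.exists_apply_ne_one_of_hasEnoughRootsOfUnity ↥σ₀.ker ℂ hne'
  obtain ⟨n, hn, M, hM⟩ := exists_monomial σ₀ hs0 hz0 θ₀
  have hMker : σ₀.ker ≤ ((QuotientGroup.mk' (Subgroup.center (GL (Fin n) ℂ))).comp M).ker := fun x hx => by
    rw [MonoidHom.mem_ker, MonoidHom.comp_apply, hM ⟨x, hx⟩, QuotientGroup.mk'_apply,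
      QuotientGroup.eq_one_iff, Matrix.GeneralLinearGroup.center_eq_range_scalar]
    exact ⟨_, rfl⟩
  obtain ⟨ρ, hρ⟩ := hlift n (MonoidHom.liftOfSurjective σ₀ hs0 ⟨_, hMker⟩)
  have hx : (m : Ext π) ∈ commutator (Ext π) := m.2.2
  have hzc : (QuotientGroup.mk' (Subgroup.center (GL (Fin n) ℂ))).ker ≤ Subgroup.center (GL (Fin n) ℂ) :=
    (QuotientGroup.ker_mk' _).le
  have heq : (ρ.comp ψ) (m : Ext π) = (M.comp (QuotientGroup.mk' C)) (m : Ext π) := by
    refine eqOn_commutator hzc ?_ hx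
    refine MonoidHom.ext fun x => ?_
    have h1 := DFunLike.congr_fun hρ (ψ x)
    simp only [MonoidHom.comp_apply] at h1 ⊢
    rw [h1]
    have h2 : σ (ψ x) = σ₀ (QuotientGroup.mk' C x) :=
      DFunLike.congr_fun (comp_toExt π hσ.1 hσ.2.1) x
    rw [h2, MonoidHom.liftOfRightInverse_comp_apply]
    rfl
  have hψm : ψ (m : Ext π) = 1 := by
    rw [hψ, ← hfval m, hm, OneMemClass.coe_one]
  rw [MonoidHom.comp_apply, hψm, map_one, MonoidHom.comp_apply] at heq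
  have h3 := hM ⟨_, hmk⟩
  rw [← heq] at h3
  have : Nonempty (Fin n) := ⟨⟨0, hn⟩⟩
  refine hθ₀ (Units.ext ?_)
  have h5 := congrArg (fun u : GL (Fin n) ℂ => (u : Matrix (Fin n) (Fin n) ℂ) ⟨0, hn⟩ ⟨0, hn⟩) h3
  simpa using h5.symm

end Cfsg.Agent.S3956
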