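import Cfsg.Statements.S3957
import Cfsg.Agent.Lib.Schur.Basic

set_option autoImplicit false
universe u v
open Cfsg
open Cfsg.Agent.Schur
open scoped commutatorElement

namespace Cfsg.Agent.S3957

/-- Let `Q` be a finite group with Schur multiplier `A` and let `τ : Δ →* Q` be a finite stem extension, `Δ` in the universe of `Q`. Then there is a finite stem extension `σ : Γ →* Q` with kernel isomorphic to `A` (a Schur covering group) and a surjective homomorphism `β : Γ →* Δ` with `τ ∘ β = σ`. -/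
theorem result {Q : Type u} [Group Q] [Finite Q] {A : Type v} [CommGroup A] (hA : Cfsg.HasSchurMultiplier Q A) {Δ : Type u} [Group Δ] [Finite Δ] (τ : Δ →* Q) (hτ : Cfsg.IsStemExtension τ) : ∃ (Γ : Type u) (_ : Group Γ) (_ : Finite Γ) (σ : Γ →* Q), Cfsg.IsStemExtension σ ∧ Nonempty (σ.ker ≃* A) ∧ ∃ β : Γ →* Δ, Function.Surjective β ∧ τ.comp β = σ := by
  set π := pres Q
  set ψ := toExt π hτ.1 hτ.2.1 with hψ
  have hK : ψ.ker ≤ rel π := fun x hx => by
    rw [MonoidHom.mem_ker, ← comp_toExt π hτ.1 hτ.2.1, MonoidHom.comp_apply, MonoidHom.mem_ker.mp hx,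
      map_one]
  obtain ⟨C, hCK, hCM, hKC⟩ := exists_complement π ψ.ker hK
  have := normal_of_le_rel π (hCK.trans hK)
  have hsup : rel π ≤ C ⊔ mult π := by
    intro x hx
    have h1 : ψ x ∈ (mult π).map ψ := by
      rw [hψ, map_mult π hτ.1 hτ.2.1 (pres_surjective Q), inf_eq_left.mpr hτ.2.2, MonoidHom.mem_ker]
      exact (DFunLike.congr_fun (comp_toExt π hτ.1 hτ.2.1) x).trans hx
    obtain ⟨m, hm, hmx⟩ := h1
    have h2 : x * m⁻¹ ∈ C ⊔ mult π := hKC (by simp [MonoidHom.mem_ker, hmx])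
    simpa using mul_mem h2 (Subgroup.mem_sup_right hm)
  obtain ⟨hfin, hstem, ⟨e⟩⟩ := stem_of_complement π (pres_surjective Q) (hCK.trans hK) hCM hsup
  obtain ⟨e'⟩ := nonempty_equiv_mult π (pres_surjective Q) hA
  refine ⟨Ext π ⧸ C, inferInstance, hfin, _, hstem, ⟨e.trans e'⟩, QuotientGroup.lift C ψ hCK, ?_, ?_⟩
  · intro y
    obtain ⟨x, rfl⟩ := toExt_surjective π hτ.1 hτ.2.1 (pres_surjective Q) hτ.2.2 y
    exact ⟨QuotientGroup.mk x, rfl⟩
  · refine MonoidHom.ext fun x => ?_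
    induction x using QuotientGroup.induction_on with
    | _ x => exact DFunLike.congr_fun (comp_toExt π hτ.1 hτ.2.1) x

end Cfsg.Agent.S3957
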