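import Cfsg.Statements.S3958
import Cfsg.Agent.Lib.Schur.Basic

set_option autoImplicit false
universe u v
open Cfsg
open Cfsg.Agent.Schur
open scoped commutatorElement

namespace Cfsg.Agent.S3958

/-- Let `σ : Γ →* Q` be a finite stem extension of the finite group `Q` with `Γ` of trivial Schur multiplier. Then `σ` is a Schur covering group of `Q`: for every finite stem extension `τ : Δ →* Q` with `Δ` in the same universe as `Q`, the kernel of `τ` is a homomorphic image of the kernel of `σ`. -/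
theorem result {Q : Type u} [Group Q] [Finite Q] {Γ : Type v} [Group Γ] [Finite Γ] (σ : Γ →* Q) (hσ : Cfsg.IsStemExtension σ) (hΓ : Cfsg.HasCyclicSchurMultiplier Γ 1) (Δ : Type u) [Group Δ] [Finite Δ] (τ : Δ →* Q) (hτ : Cfsg.IsStemExtension τ) : ∃ π : σ.ker →* τ.ker, Function.Surjective π := by
  have hfin : Finite Γ := ‹_›
  let P : Subgroup (Γ × Δ) := (σ.comp (MonoidHom.fst Γ Δ)).eqLocus (τ.comp (MonoidHom.snd Γ Δ))
  let p₁ : ↥P →* Γ := (MonoidHom.fst Γ Δ).comp P.subtype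
  let p₂ : ↥P →* Δ := (MonoidHom.snd Γ Δ).comp P.subtype
  have hp₁ : Function.Surjective p₁ := fun g => by
    obtain ⟨d, hd⟩ := hτ.1 (σ g)
    exact ⟨⟨(g, d), hd.symm⟩, rfl⟩
  have hp₂ : Function.Surjective p₂ := fun d => by
    obtain ⟨g, hg⟩ := hσ.1 (τ d)
    exact ⟨⟨(g, d), hg⟩, rfl⟩
  have hz : p₁.ker ≤ Subgroup.center ↥P := by
    rintro ⟨⟨g, d⟩, hgd⟩ hg
    have hg' : g = 1 := hg
    subst hg'
    have hd : d ∈ τ.ker := by
      have : σ 1 = τ d := hgd
      rw [map_one] at this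
      exact this.symm
    rw [Subgroup.mem_center_iff]
    rintro ⟨⟨y, c⟩, _⟩
    exact Subtype.ext (Prod.ext (by simp) (Subgroup.mem_center_iff.mp (hτ.2.1 hd) c))
  have hbot := ker_inf_commutator_eq_bot hΓ p₁ hp₁ hz
  set D := commutator ↥P
  have hinj : Function.Injective (p₁.comp D.subtype) := by
    rw [injective_iff_map_eq_one]
    intro x hx
    exact Subtype.ext (Subgroup.mem_bot.mp (hbot ▸ ⟨hx, x.2⟩))
  have hex : ∀ k : ↥σ.ker, ∃ x : ↥D, p₁ x = k := fun k => by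
    have h : (k : Γ) ∈ D.map p₁ := by
      rw [map_commutator_of_surjective hp₁]
      exact hσ.2.2 k.2
    obtain ⟨x, hx, hxk⟩ := h
    exact ⟨⟨x, hx⟩, hxk⟩
  choose f hf using hex
  have hmem : ∀ k, p₂ (f k) ∈ τ.ker := fun k => by
    have h1 : σ (p₁ (f k)) = τ (p₂ (f k)) := ((f k : ↥D) : ↥P).2
    rw [MonoidHom.mem_ker, ← h1, hf k]
    exact k.2
  refine ⟨{ toFun := fun k => ⟨p₂ (f k), hmem k⟩
            map_one' := ?_
            map_mul' := fun a b => ?_ }, fun y => ?_⟩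
  · have : f 1 = 1 := hinj (by simp [hf])
    exact Subtype.ext (by simp [this])
  · have : f (a * b) = f a * f b := hinj (by simp [hf])
    exact Subtype.ext (by simp [this])
  · have h : (y : Δ) ∈ D.map p₂ := by
      rw [map_commutator_of_surjective hp₂]
      exact hτ.2.2 y.2
    obtain ⟨x, hx, hxy⟩ := h
    have hk : p₁ x ∈ σ.ker := by
      have h1 : σ (p₁ x) = τ (p₂ x) := x.2
      rw [MonoidHom.mem_ker, h1, hxy]
      exact y.2
    refine ⟨⟨p₁ x, hk⟩, Subtype.ext ?_⟩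
    have : f ⟨p₁ x, hk⟩ = ⟨x, hx⟩ := hinj (hf _)
    show p₂ (f ⟨p₁ x, hk⟩) = (y : Δ)
    rw [this]
    exact hxy

end Cfsg.Agent.S3958
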