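import Cfsg.Statements.S3959
import Cfsg.Agent.Lib.Schur.TwoGen
import Mathlib

set_option autoImplicit false
universe u v w
open Cfsg
open Cfsg.Agent.Schur
open scoped commutatorElement TensorProduct

namespace Cfsg.Agent.S3959

/-- Let `Q₁` and `Q₂` be finite groups with Schur multipliers `A` and `B`. Then the Schur multiplier of `Q₁ × Q₂` is isomorphic to `A × B × (Q₁ᵃᵇ ⊗ Q₂ᵃᵇ)`, the last factor being the tensor product over the integers of the commutator quotients, written multiplicatively. -/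
theorem result {Q₁ : Type u} {Q₂ : Type v} [Group Q₁] [Group Q₂] [Finite Q₁] [Finite Q₂] {A B : Type w} [CommGroup A] [CommGroup B] (hA : Cfsg.HasSchurMultiplier Q₁ A) (hB : Cfsg.HasSchurMultiplier Q₂ B) : Cfsg.HasSchurMultiplier (Q₁ × Q₂) (A × B × Multiplicative (TensorProduct ℤ (Additive (Abelianization Q₁)) (Additive (Abelianization Q₂)))) := by
  obtain ⟨⟨Γ₁, iG₁, iF₁, σ₁, hσ₁, ⟨eA⟩⟩, hunivA⟩ := id hA
  obtain ⟨⟨Γ₂, iG₂, iF₂, σ₂, hσ₂, ⟨eB⟩⟩, hunivB⟩ := id hB
  let V := Additive (Abelianization Q₁) × Additive (Abelianization Q₂)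
  let T := TensorProduct ℤ (Additive (Abelianization Q₁)) (Additive (Abelianization Q₂))
  have : Finite T := by
    have : Module.Finite ℤ (Additive (Abelianization Q₁)) := Module.Finite.of_finite
    have : Module.Finite ℤ (Additive (Abelianization Q₂)) := Module.Finite.of_finite
    have : Module.Finite ℤ (TensorProduct ℤ (Additive (Abelianization Q₁)) (Additive (Abelianization Q₂))) :=
      Module.Finite.tensorProduct ℤ _ _
    refine Module.finite_of_fg_torsion T fun t => ?_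
    refine ⟨⟨(Nat.card (Additive (Abelianization Q₁)) : ℤ),
      mem_nonZeroDivisors_of_ne_zero (by exact_mod_cast Nat.card_pos.ne')⟩, ?_⟩
    show (Nat.card (Additive (Abelianization Q₁)) : ℤ) • t = 0
    induction t using TensorProduct.induction_on with
    | zero => simp
    | tmul x y => rw [TensorProduct.smul_tmul', natCast_zsmul, card_nsmul_eq_zero', TensorProduct.zero_tmul]
    | add x y hx hy => rw [smul_add, hx, hy, add_zero]
  let β : V →+ V →+ T := AddMonoidHom.mk'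
    (fun v => ((TensorProduct.mk ℤ _ _ v.1).toAddMonoidHom).comp (AddMonoidHom.snd _ _))
    (fun v w => AddMonoidHom.ext fun x => TensorProduct.add_tmul _ _ _)
  have hβ : ∀ v w : V, β v w = v.1 ⊗ₜ[ℤ] w.2 := fun _ _ => rfl
  let ab : Q₁ × Q₂ →* Multiplicative V :=
    { toFun := fun q => Multiplicative.ofAdd
        (Additive.ofMul (Abelianization.of q.1), Additive.ofMul (Abelianization.of q.2))
      map_one' := by
        show Multiplicative.ofAdd (Additive.ofMul (Abelianization.of (1 : Q₁)),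
          Additive.ofMul (Abelianization.of (1 : Q₂))) = 1
        simp only [map_one, ofMul_one]
        rfl
      map_mul' := fun a b => by
        show Multiplicative.ofAdd (Additive.ofMul (Abelianization.of (a.1 * b.1)),
          Additive.ofMul (Abelianization.of (a.2 * b.2))) = _
        simp only [map_mul, ofMul_mul]
        rfl }
  have hab : ∀ q₁ q₂, ab (q₁, q₂) = Multiplicative.ofAdd
      (Additive.ofMul (Abelianization.of q₁), Additive.ofMul (Abelianization.of q₂)) := fun _ _ => rfl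
  constructor
  · let U : Subgroup ((Γ₁ × Γ₂) × BilExt β) :=
      ((ab.comp (σ₁.prodMap σ₂)).comp (MonoidHom.fst _ _)).eqLocus ((BilExt.proj β).comp (MonoidHom.snd _ _))
    let σ : ↥U →* Q₁ × Q₂ := ((σ₁.prodMap σ₂).comp (MonoidHom.fst _ _)).comp U.subtype
    have hsurj : Function.Surjective σ := fun q => by
      obtain ⟨g, hg⟩ := hσ₁.1 q.1
      obtain ⟨h, hh⟩ := hσ₂.1 q.2
      refine ⟨⟨((g, h), ⟨Multiplicative.toAdd (ab q), 0⟩), ?_⟩, Prod.ext hg hh⟩
      show ab (σ₁ g, σ₂ h) = ab q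
      rw [hg, hh]
    let ι₁ : Γ₁ →* ↥U :=
      { toFun := fun g => ⟨((g, 1), ⟨(Additive.ofMul (Abelianization.of (σ₁ g)), 0), 0⟩), by
          show ab (σ₁ g, σ₂ 1) = _
          simp only [hab, map_one, ofMul_one]
          rfl⟩
        map_one' := Subtype.ext (Prod.ext rfl (BilExt.ext (by
          show ((Additive.ofMul (Abelianization.of (σ₁ 1)), 0) : V) = 0
          simp only [map_one, ofMul_one]
          rfl) rfl))
        map_mul' := fun a b => Subtype.ext (Prod.ext (Prod.ext rfl (mul_one 1).symm)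
          (BilExt.ext (by
            show ((_, 0) : V) = (_, 0) + (_, 0)
            simp [Prod.mk_add_mk]) (by
            show (0 : T) = 0 + 0 + β _ _
            simp [hβ]))) }
    let ι₂ : Γ₂ →* ↥U :=
      { toFun := fun g => ⟨((1, g), ⟨(0, Additive.ofMul (Abelianization.of (σ₂ g))), 0⟩), by
          show ab (σ₁ 1, σ₂ g) = _
          simp only [hab, map_one, ofMul_one]
          rfl⟩
        map_one' := Subtype.ext (Prod.ext rfl (BilExt.ext (by
          show ((0, Additive.ofMul (Abelianization.of (σ₂ 1))) : V) = 0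
          simp only [map_one, ofMul_one]
          rfl) rfl))
        map_mul' := fun a b => Subtype.ext (Prod.ext (Prod.ext (mul_one 1).symm rfl)
          (BilExt.ext (by
            show ((0, _) : V) = (0, _) + (0, _)
            simp [Prod.mk_add_mk]) (by
            show (0 : T) = 0 + 0 + β _ _
            simp [hβ]))) }
    let j : Multiplicative T →* ↥U :=
      { toFun := fun t => ⟨((1, 1), BilExt.inj β t), by
          show ab (σ₁ 1, σ₂ 1) = BilExt.proj β (BilExt.inj β t)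
          rw [map_one, map_one, show ((1 : Q₁), (1 : Q₂)) = 1 from rfl, map_one]
          exact ((BilExt.range_inj β).le ⟨t, rfl⟩).symm⟩
        map_one' := Subtype.ext (Prod.ext rfl (map_one _))
        map_mul' := fun a b => Subtype.ext (Prod.ext (by simp) (map_mul _ a b)) }
    have hc : ∀ x y, ⁅ι₁ x, ι₂ y⁆ = j (Multiplicative.ofAdd
        (Additive.ofMul (Abelianization.of (σ₁ x)) ⊗ₜ[ℤ] Additive.ofMul (Abelianization.of (σ₂ y)))) := by
      intro x y
      refine Subtype.ext (Prod.ext ?_ ?_)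
      · refine Prod.ext ?_ ?_
        · show x * 1 * x⁻¹ * (1 : Γ₁)⁻¹ = 1
          group
        · show (1 : Γ₂) * y * (1 : Γ₂)⁻¹ * y⁻¹ = 1
          group
      · show ⁅(⟨_, 0⟩ : BilExt β), ⟨_, 0⟩⁆ = BilExt.inj β _
        rw [BilExt.commutator_fst_eq]
        simp [hβ]
    have hkerA : ∀ a : ↥σ₁.ker, ι₁ a ∈ σ.ker ∧ ι₁ a ∈ commutator ↥U := fun a =>
      ⟨Prod.ext a.2 (map_one σ₂), map_commutator_le ι₁ ⟨a, hσ₁.2.2 a.2, rfl⟩⟩
    have hkerB : ∀ a : ↥σ₂.ker, ι₂ a ∈ σ.ker ∧ ι₂ a ∈ commutator ↥U := fun a =>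
      ⟨Prod.ext (map_one σ₁) a.2, map_commutator_le ι₂ ⟨a, hσ₂.2.2 a.2, rfl⟩⟩
    have hjc : ∀ t, j t ∈ commutator ↥U := by
      intro t
      obtain ⟨t, rfl⟩ := Multiplicative.ofAdd.surjective t
      induction t using TensorProduct.induction_on with
      | zero =>
        rw [show Multiplicative.ofAdd (0 : T) = 1 from rfl, map_one]
        exact one_mem _
      | tmul x y =>
        obtain ⟨q₁, hq₁⟩ : ∃ q, Abelianization.of q = Additive.toMul x := QuotientGroup.mk_surjective _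
        obtain ⟨q₂, hq₂⟩ : ∃ q, Abelianization.of q = Additive.toMul y := QuotientGroup.mk_surjective _
        obtain ⟨g, rfl⟩ := hσ₁.1 q₁
        obtain ⟨h, rfl⟩ := hσ₂.1 q₂
        have := hc g h
        rw [hq₁, hq₂] at this
        simp only [ofMul_toMul] at this
        rw [← this]
        exact Subgroup.commutator_mem_commutator (Subgroup.mem_top _) (Subgroup.mem_top _)
      | add x y hx hy =>
        rw [ofAdd_add, map_mul]
        exact mul_mem hx hy
    have hab1 : ∀ a : Γ₁, σ₁ a = 1 → (((ι₁ a : ↥U) : (Γ₁ × Γ₂) × BilExt β).2.fst : V) = 0 := fun a ha => by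
      show ((Additive.ofMul (Abelianization.of (σ₁ a)), 0) : V) = 0
      simp only [ha, map_one, ofMul_one]
      rfl
    have hab2 : ∀ a : Γ₂, σ₂ a = 1 → (((ι₂ a : ↥U) : (Γ₁ × Γ₂) × BilExt β).2.fst : V) = 0 := fun a ha => by
      show ((0, Additive.ofMul (Abelianization.of (σ₂ a))) : V) = 0
      simp only [ha, map_one, ofMul_one]
      rfl
    have hdec : ∀ u : ↥U, u ∈ σ.ker →
        ∃ (a : ↥σ₁.ker) (b : ↥σ₂.ker) (t : Multiplicative T), u = ι₁ a * ι₂ b * j t := by
      rintro ⟨⟨⟨g, h⟩, e⟩, hu⟩ hk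
      have hg : σ₁ g = 1 := congrArg Prod.fst hk
      have hh : σ₂ h = 1 := congrArg Prod.snd hk
      refine ⟨⟨g, hg⟩, ⟨h, hh⟩, Multiplicative.ofAdd e.snd, Subtype.ext (Prod.ext ?_ ?_)⟩
      · simp [ι₁, ι₂, j]
      · have he : e.fst = 0 := by
          have hu' : ab (σ₁ g, σ₂ h) = BilExt.proj β e := hu
          rw [hg, hh, show ((1 : Q₁), (1 : Q₂)) = 1 from rfl, map_one] at hu'
          exact (Multiplicative.ofAdd.injective hu').symm
        refine BilExt.ext ?_ ?_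
        · show e.fst = ((ι₁ g : ↥U) : (Γ₁ × Γ₂) × BilExt β).2.fst +
            ((ι₂ h : ↥U) : (Γ₁ × Γ₂) × BilExt β).2.fst + 0
          rw [hab1 g hg, hab2 h hh, he]
          simp
        · show e.snd = 0 + 0 + β _ _ + e.snd + β _ 0
          rw [hab1 g hg]
          simp [hab2 h hh]
    have hzent : σ.ker ≤ Subgroup.center ↥U := by
      intro u hu
      obtain ⟨a, b, t, rfl⟩ := hdec u hu
      rw [Subgroup.mem_center_iff]
      intro w
      have hA' : Commute w (ι₁ a) := by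
        refine Subtype.ext (Prod.ext (Prod.ext ?_ ?_) ?_)
        · exact Subgroup.mem_center_iff.mp (hσ₁.2.1 a.2) _
        · exact (mul_one _).trans (one_mul _).symm
        · refine BilExt.ext ?_ ?_
          · exact add_comm _ _
          · show (w : (Γ₁ × Γ₂) × BilExt β).2.snd + 0 + β _ _ = 0 + (w : (Γ₁ × Γ₂) × BilExt β).2.snd + β _ _
            rw [hab1 _ a.2]
            simp
      have hB' : Commute w (ι₂ b) := by
        refine Subtype.ext (Prod.ext (Prod.ext ?_ ?_) ?_)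
        · exact (mul_one _).trans (one_mul _).symm
        · exact Subgroup.mem_center_iff.mp (hσ₂.2.1 b.2) _
        · refine BilExt.ext ?_ ?_
          · exact add_comm _ _
          · show (w : (Γ₁ × Γ₂) × BilExt β).2.snd + 0 + β _ _ = 0 + (w : (Γ₁ × Γ₂) × BilExt β).2.snd + β _ _
            rw [hab2 _ b.2]
            simp
      have hT : Commute w (j t) := by
        refine Subtype.ext (Prod.ext ?_ ?_)
        · exact (mul_one _).trans (one_mul _).symm
        · refine BilExt.ext ?_ ?_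
          · exact add_comm _ _
          · show (w : (Γ₁ × Γ₂) × BilExt β).2.snd + Multiplicative.toAdd t + β _ 0 =
              Multiplicative.toAdd t + (w : (Γ₁ × Γ₂) × BilExt β).2.snd + β 0 _
            simp [add_comm]
      exact ((hA'.mul_right hB').mul_right hT).eq
    let Φ : A × B × Multiplicative T →* ↥σ.ker :=
      { toFun := fun x => ⟨ι₁ (eA.symm x.1) * ι₂ (eB.symm x.2.1) * j x.2.2, mul_mem
          (mul_mem (hkerA _).1 (hkerB _).1) (Prod.ext (map_one σ₁) (map_one σ₂))⟩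
        map_one' := Subtype.ext (by simp)
        map_mul' := fun x y => Subtype.ext (by
          have c1 := fun (a : ↥σ₁.ker) (g : ↥U) => Subgroup.mem_center_iff.mp (hzent (hkerA a).1) g
          have c2 := fun (a : ↥σ₂.ker) (g : ↥U) => Subgroup.mem_center_iff.mp (hzent (hkerB a).1) g
          simp only [Prod.fst_mul, Prod.snd_mul, map_mul, Subgroup.coe_mul]
          calc ι₁ (eA.symm x.1) * ι₁ (eA.symm y.1) * (ι₂ (eB.symm x.2.1) * ι₂ (eB.symm y.2.1)) *
              (j x.2.2 * j y.2.2)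
              = ι₁ (eA.symm x.1) * (ι₁ (eA.symm y.1) * ι₂ (eB.symm x.2.1)) * (ι₂ (eB.symm y.2.1) * j x.2.2) *
                  j y.2.2 := by group
            _ = ι₁ (eA.symm x.1) * (ι₂ (eB.symm x.2.1) * ι₁ (eA.symm y.1)) * (j x.2.2 * ι₂ (eB.symm y.2.1)) *
                  j y.2.2 := by rw [c1 (eA.symm y.1) (ι₂ _), c2 (eB.symm y.2.1) (j _)]
            _ = ι₁ (eA.symm x.1) * ι₂ (eB.symm x.2.1) * (ι₁ (eA.symm y.1) * j x.2.2) * ι₂ (eB.symm y.2.1) *
                  j y.2.2 := by group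
            _ = ι₁ (eA.symm x.1) * ι₂ (eB.symm x.2.1) * (j x.2.2 * ι₁ (eA.symm y.1)) * ι₂ (eB.symm y.2.1) *
                  j y.2.2 := by rw [c1 (eA.symm y.1) (j _)]
            _ = _ := by group) }
    have hΦ : Function.Bijective Φ := by
      refine ⟨(injective_iff_map_eq_one Φ).mpr fun x hx => ?_, fun u => ?_⟩
      · have h1 := congrArg (fun z : ↥σ.ker => ((z : ↥U) : (Γ₁ × Γ₂) × BilExt β)) hx
        have hg : ((eA.symm x.1 : ↥σ₁.ker) : Γ₁) = 1 := by simpa [Φ, ι₁, ι₂, j] using congrArg (fun z => z.1.1) h1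
        have hh : ((eB.symm x.2.1 : ↥σ₂.ker) : Γ₂) = 1 := by simpa [Φ, ι₁, ι₂, j] using congrArg (fun z => z.1.2) h1
        have hA1 : eA.symm x.1 = 1 := Subtype.ext hg
        have hB1 : eB.symm x.2.1 = 1 := Subtype.ext hh
        have ht : x.2.2 = 1 := by
          refine BilExt.inj_injective β ?_
          rw [map_one]
          simpa [Φ, hA1, hB1, j] using congrArg (fun z : (Γ₁ × Γ₂) × BilExt β => z.2) h1
        exact Prod.ext (eA.symm.injective (hA1.trans (map_one eA.symm).symm))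
          (Prod.ext (eB.symm.injective (hB1.trans (map_one eB.symm).symm)) ht)
      · obtain ⟨a, b, t, h⟩ := hdec u u.2
        exact ⟨(eA a, eB b, t), Subtype.ext (by simp [Φ, h])⟩
    refine ⟨↥U, inferInstance, inferInstance, σ, ⟨hsurj, hzent, ?_⟩, ⟨(MulEquiv.ofBijective Φ hΦ).symm⟩⟩
    intro u hu
    obtain ⟨a, b, t, rfl⟩ := hdec u hu
    exact mul_mem (mul_mem (hkerA a).2 (hkerB b).2) (hjc t)
  · intro Δ _ _ τ hτ
    let Δ₁ : Subgroup Δ := ((MonoidHom.snd Q₁ Q₂).comp τ).ker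
    let Δ₂ : Subgroup Δ := ((MonoidHom.fst Q₁ Q₂).comp τ).ker
    let p₁ : ↥Δ₁ →* Q₁ := ((MonoidHom.fst Q₁ Q₂).comp τ).comp Δ₁.subtype
    let p₂ : ↥Δ₂ →* Q₂ := ((MonoidHom.snd Q₁ Q₂).comp τ).comp Δ₂.subtype
    have hp₁ : Function.Surjective p₁ := fun q => by
      obtain ⟨x, hx⟩ := hτ.1 (q, 1)
      exact ⟨⟨x, show (τ x).2 = 1 by rw [hx]⟩, show (τ x).1 = q by rw [hx]⟩
    have hp₂ : Function.Surjective p₂ := fun q => by
      obtain ⟨x, hx⟩ := hτ.1 (1, q)
      exact ⟨⟨x, show (τ x).1 = 1 by rw [hx]⟩, show (τ x).2 = q by rw [hx]⟩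
    have hk₁ : ∀ x : ↥Δ₁, x ∈ p₁.ker → (x : Δ) ∈ τ.ker := fun x hx => Prod.ext hx x.2
    have hk₂ : ∀ x : ↥Δ₂, x ∈ p₂.ker → (x : Δ) ∈ τ.ker := fun x hx => Prod.ext x.2 hx
    have hz₁ : p₁.ker ≤ Subgroup.center ↥Δ₁ := fun x hx => Subgroup.mem_center_iff.mpr fun y =>
      Subtype.ext (Subgroup.mem_center_iff.mp (hτ.2.1 (hk₁ x hx)) y)
    have hz₂ : p₂.ker ≤ Subgroup.center ↥Δ₂ := fun x hx => Subgroup.mem_center_iff.mpr fun y =>
      Subtype.ext (Subgroup.mem_center_iff.mp (hτ.2.1 (hk₂ x hx)) y)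
    let : CommGroup ↥τ.ker :=
      { (inferInstance : Group ↥τ.ker) with
        mul_comm := fun a b => Subtype.ext (Subgroup.mem_center_iff.mp (hτ.2.1 b.2) (a : Δ)) }
    obtain ⟨fA, hfA⟩ := exists_surjective_of_central hA p₁ hp₁ hz₁
    obtain ⟨fB, hfB⟩ := exists_surjective_of_central hB p₂ hp₂ hz₂
    let gA : A →* ↥τ.ker := ((Δ₁.subtype.comp (p₁.ker ⊓ commutator ↥Δ₁).subtype).comp fA).codRestrict τ.ker
      fun a => hk₁ _ (fA a).2.1
    let gB : B →* ↥τ.ker := ((Δ₂.subtype.comp (p₂.ker ⊓ commutator ↥Δ₂).subtype).comp fB).codRestrict τ.ker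
      fun a => hk₂ _ (fB a).2.1
    have hcz : ∀ (x : ↥Δ₁) (y : ↥Δ₂), ⁅(x : Δ), (y : Δ)⁆ ∈ τ.ker := fun x y => by
      rw [MonoidHom.mem_ker, map_commutatorElement, commutatorElement_eq_one_iff_mul_comm]
      have h1 : (τ (x : Δ)).2 = 1 := x.2
      have h2 : (τ (y : Δ)).1 = 1 := y.2
      exact Prod.ext (by simp [h2]) (by simp [h1])
    -- the pairing
    have hbl : ∀ (x x' : ↥Δ₁) (y : ↥Δ₂), ⁅((x * x' : ↥Δ₁) : Δ), (y : Δ)⁆ = ⁅(x : Δ), (y : Δ)⁆ * ⁅(x' : Δ), (y : Δ)⁆ := by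
      intro x x' y
      have hc := fun g => Subgroup.mem_center_iff.mp (hτ.2.1 (hcz x' y)) g
      rw [Subgroup.coe_mul]
      calc ⁅(x : Δ) * x', (y : Δ)⁆ = (x : Δ) * ⁅(x' : Δ), (y : Δ)⁆ * (y * (x : Δ)⁻¹ * (y : Δ)⁻¹) := by
            simp only [commutatorElement_def]; group
        _ = ⁅(x' : Δ), (y : Δ)⁆ * (x : Δ) * (y * (x : Δ)⁻¹ * (y : Δ)⁻¹) := by rw [hc]
        _ = ⁅(x' : Δ), (y : Δ)⁆ * ⁅(x : Δ), (y : Δ)⁆ := by simp only [commutatorElement_def]; group
        _ = _ := (hc _).symm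
    have hbr : ∀ (x : ↥Δ₁) (y y' : ↥Δ₂), ⁅(x : Δ), ((y * y' : ↥Δ₂) : Δ)⁆ = ⁅(x : Δ), (y : Δ)⁆ * ⁅(x : Δ), (y' : Δ)⁆ := by
      intro x y y'
      have hc := fun g => Subgroup.mem_center_iff.mp (hτ.2.1 (hcz x y')) g
      rw [Subgroup.coe_mul]
      calc ⁅(x : Δ), (y : Δ) * y'⁆ = ⁅(x : Δ), (y : Δ)⁆ * ((y : Δ) * ⁅(x : Δ), (y' : Δ)⁆ * (y : Δ)⁻¹) := by
            simp only [commutatorElement_def]; group
        _ = _ := by rw [hc, mul_inv_cancel_right]
    have hwell : ∀ (x : ↥Δ₁) (y : ↥Δ₂), (x ∈ p₁.ker → ⁅(x : Δ), (y : Δ)⁆ = 1) ∧ (y ∈ p₂.ker → ⁅(x : Δ), (y : Δ)⁆ = 1) :=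
      fun x y => ⟨fun h => commutatorElement_eq_one_iff_mul_comm.mpr
        (Subgroup.mem_center_iff.mp (hτ.2.1 (hk₁ x h)) (y : Δ)).symm,
        fun h => commutatorElement_eq_one_iff_mul_comm.mpr
          (Subgroup.mem_center_iff.mp (hτ.2.1 (hk₂ y h)) (x : Δ))⟩
    let pr : ↥Δ₁ →* (↥Δ₂ →* ↥τ.ker) :=
      { toFun := fun x => { toFun := fun y => ⟨_, hcz x y⟩
                            map_one' := Subtype.ext (by simp)
                            map_mul' := fun y y' => Subtype.ext (hbr x y y') }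
        map_one' := MonoidHom.ext fun y => Subtype.ext (by simp)
        map_mul' := fun x x' => MonoidHom.ext fun y => Subtype.ext (hbl x x' y) }
    let pr₁ : Q₁ →* (↥Δ₂ →* ↥τ.ker) := MonoidHom.liftOfSurjective p₁ hp₁ ⟨pr, fun x hx =>
      MonoidHom.ext fun y => Subtype.ext ((hwell x y).1 hx)⟩
    have hpr₁ : ∀ x y, pr₁ (p₁ x) y = ⟨_, hcz x y⟩ := fun x y => by
      rw [show pr₁ (p₁ x) = pr x from MonoidHom.liftOfRightInverse_comp_apply _ _ _ _ x]
      rfl
    let pr₂ : Q₂ →* (Q₁ →* ↥τ.ker) := MonoidHom.liftOfSurjective p₂ hp₂ ⟨MonoidHom.flip pr₁, fun y hy =>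
      MonoidHom.ext fun q => by
        obtain ⟨x, rfl⟩ := hp₁ q
        show pr₁ (p₁ x) y = 1
        rw [hpr₁]
        exact Subtype.ext ((hwell x y).2 hy)⟩
    let b₁ : Abelianization Q₂ →* (Q₁ →* ↥τ.ker) := Abelianization.lift pr₂
    let b₂ : Abelianization Q₁ →* (Abelianization Q₂ →* ↥τ.ker) := Abelianization.lift b₁.flip
    let bb : Additive (Abelianization Q₁) →+ Additive (Abelianization Q₂) →+ Additive ↥τ.ker :=
      AddMonoidHom.mk' (fun x => MonoidHom.toAdditive (b₂ (Additive.toMul x))) fun x y => by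
        ext z; simp
    let L : T →+ Additive ↥τ.ker := TensorProduct.liftAddHom bb fun r m n => by
      simp [map_zsmul]
    let gT : Multiplicative T →* ↥τ.ker := AddMonoidHom.toMultiplicativeLeft L
    have hgT : ∀ x y, gT (Multiplicative.ofAdd (Additive.ofMul (Abelianization.of (p₁ x)) ⊗ₜ[ℤ]
        Additive.ofMul (Abelianization.of (p₂ y)))) = ⟨_, hcz x y⟩ := fun x y => by
      show b₂ (Abelianization.of (p₁ x)) (Abelianization.of (p₂ y)) = _
      simp only [b₂, b₁, Abelianization.lift_apply_of, MonoidHom.flip_apply]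
      rw [show pr₂ (p₂ y) = MonoidHom.flip pr₁ y from MonoidHom.liftOfRightInverse_comp_apply _ _ _ _ y]
      exact hpr₁ x y
    let Ψ : A × B × Multiplicative T →* ↥τ.ker := gA.coprod (gB.coprod gT)
    refine ⟨Ψ, fun k => ?_⟩
    let S : Subgroup Δ := Ψ.range.map τ.ker.subtype
    have hSc : S ≤ Subgroup.center Δ := (Subgroup.map_subtype_le _).trans hτ.2.1
    have hSn : S.Normal := ⟨fun s hs g => by
      rw [Subgroup.mem_center_iff.mp (hSc hs) g, mul_inv_cancel_right]; exact hs⟩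
    suffices hk : (k : Δ) ∈ S by
      obtain ⟨k', ⟨x, hx⟩, hk'⟩ := hk
      exact ⟨x, hx.trans (Subtype.ext hk')⟩
    have hdec : ∀ x : Δ, ∃ (u : ↥Δ₁) (w : ↥Δ₂), x = (u : Δ) * w := by
      intro x
      obtain ⟨u, hu⟩ := hp₁ (τ x).1
      have hw : (u : Δ)⁻¹ * x ∈ Δ₂ := by
        have hu' : (τ (u : Δ)).1 = (τ x).1 := hu
        show (τ ((u : Δ)⁻¹ * x)).1 = 1
        rw [map_mul, map_inv]
        simp [hu']
      exact ⟨u, ⟨_, hw⟩, (mul_inv_cancel_left _ _).symm⟩
    set π := QuotientGroup.mk' S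
    have hcomm : ∀ (u : ↥Δ₁) (w : ↥Δ₂), Commute (π.comp Δ₁.subtype u) (π.comp Δ₂.subtype w) := fun u w => by
      refine commutatorElement_eq_one_iff_commute.mp ?_
      rw [MonoidHom.comp_apply, MonoidHom.comp_apply, ← map_commutatorElement]
      refine (QuotientGroup.eq_one_iff (N := S) _).mpr (?_ : ⁅(u : Δ), (w : Δ)⁆ ∈ S)
      refine ⟨⟨_, hcz u w⟩, ⟨(1, 1, Multiplicative.ofAdd
        (Additive.ofMul (Abelianization.of (p₁ u)) ⊗ₜ[ℤ] Additive.ofMul (Abelianization.of (p₂ w)))), ?_⟩, rfl⟩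
      show gA 1 * (gB 1 * gT _) = _
      rw [map_one, map_one, one_mul, one_mul]
      exact hgT u w
    let P : ↥Δ₁ × ↥Δ₂ →* Δ ⧸ S := (π.comp Δ₁.subtype).noncommCoprod (π.comp Δ₂.subtype) hcomm
    have hP : Function.Surjective P := fun z => by
      obtain ⟨x, rfl⟩ := QuotientGroup.mk'_surjective S z
      obtain ⟨u, w, rfl⟩ := hdec x
      exact ⟨(u, w), (map_mul π _ _).symm⟩
    have h1 : π (k : Δ) ∈ (commutator (↥Δ₁ × ↥Δ₂)).map P := by
      rw [map_commutator_of_surjective hP, ← map_commutator_of_surjective (QuotientGroup.mk'_surjective S)]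
      exact Subgroup.mem_map_of_mem _ (hτ.2.2 k.2)
    obtain ⟨⟨u, w⟩, huw, hP'⟩ := h1
    have hu : u ∈ commutator ↥Δ₁ := map_commutator_le (MonoidHom.fst _ _) ⟨_, huw, rfl⟩
    have hw : w ∈ commutator ↥Δ₂ := map_commutator_le (MonoidHom.snd _ _) ⟨_, huw, rfl⟩
    have hs : ((u : Δ) * w)⁻¹ * (k : Δ) ∈ S := by
      refine (QuotientGroup.eq_one_iff _).mp ?_
      show π (((u : Δ) * w)⁻¹ * (k : Δ)) = 1
      rw [map_mul π _ (k : Δ), map_inv, ← hP', inv_mul_eq_one]
      exact map_mul π _ _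
    have hτk : τ ((u : Δ) * w) = 1 := by
      have h2 : ((u : Δ) * w)⁻¹ * (k : Δ) ∈ τ.ker := (Subgroup.map_subtype_le _ : S ≤ τ.ker) hs
      rw [MonoidHom.mem_ker, map_mul, map_inv, MonoidHom.mem_ker.mp k.2, mul_one, inv_eq_one] at h2
      exact h2
    have hu2 : (τ (u : Δ)).2 = 1 := u.2
    have hw1 : (τ (w : Δ)).1 = 1 := w.2
    rw [map_mul] at hτk
    have huk : u ∈ p₁.ker := by
      have := congrArg Prod.fst hτk
      rw [Prod.fst_mul, hw1, mul_one] at this
      exact this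
    have hwk : w ∈ p₂.ker := by
      have := congrArg Prod.snd hτk
      rw [Prod.snd_mul, hu2, one_mul] at this
      exact this
    obtain ⟨a, ha⟩ := hfA ⟨u, huk, hu⟩
    obtain ⟨b, hb⟩ := hfB ⟨w, hwk, hw⟩
    have hua : (u : Δ) ∈ S := ⟨gA a, ⟨(a, 1, 1), by simp [Ψ]⟩, by
      show ((fA a : ↥Δ₁) : Δ) = u
      rw [ha]⟩
    have hwb : (w : Δ) ∈ S := ⟨gB b, ⟨(1, b, 1), by simp [Ψ]⟩, by
      show ((fB b : ↥Δ₂) : Δ) = w
      rw [hb]⟩
    have := mul_mem (mul_mem hua hwb) hs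
    rwa [mul_inv_cancel_left] at this

end Cfsg.Agent.S3959
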