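import Cfsg.Statements.S3960
import Cfsg.Agent.Lib.Schur.Basic

set_option autoImplicit false
universe u
open Cfsg
open Cfsg.Agent.Schur
open scoped commutatorElement

namespace Cfsg.Agent.S3960

/-- A finite perfect group `Q` has a universal central extension: a finite perfect group `G` in the universe of `Q` and a surjective homomorphism `π : G →* Q` with central kernel such that for every group `X` in that universe and every surjective homomorphism `ξ : X →* Q` with central kernel there is exactly one homomorphism `η : G →* X` with `ξ ∘ η = π`. -/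
theorem result {Q : Type u} [Group Q] [Finite Q] (hQ : Group.IsPerfect Q) : ∃ (G : Type u) (_ : Group G) (_ : Finite G) (π : G →* Q), Group.IsPerfect G ∧ Function.Surjective π ∧ π.ker ≤ Subgroup.center G ∧ ∀ (X : Type u) [Group X] (ξ : X →* Q), Function.Surjective ξ → ξ.ker ≤ Subgroup.center X → ∃! η : G →* X, ξ.comp η = π := by
  set π := pres Q
  set D := commutator (Ext π) with hD
  let p : ↥D →* Q := (extHom π).comp D.subtype
  have hp : Function.Surjective p := fun q => by
    have : q ∈ D.map (extHom π) := by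
      rw [map_commutator_of_surjective (extHom_surjective π (pres_surjective Q)), hQ.commutator_eq_top]
      exact Subgroup.mem_top q
    obtain ⟨x, hx, hxq⟩ := this
    exact ⟨⟨x, hx⟩, hxq⟩
  have hperf : Group.IsPerfect ↥D := by
    rw [Subgroup.isPerfect_iff]
    refine le_antisymm (Subgroup.commutator_le_self D) ?_
    rw [hD, commutator_eq_closure, Subgroup.closure_le]
    rintro _ ⟨a, b, rfl⟩
    obtain ⟨a', ha'⟩ := hp (extHom π a)
    obtain ⟨b', hb'⟩ := hp (extHom π b)
    have ha : a * (a' : Ext π)⁻¹ ∈ Subgroup.center (Ext π) := rel_le_center π (by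
      rw [MonoidHom.mem_ker, map_mul, map_inv, ← ha']; simp [p])
    have hb : b * (b' : Ext π)⁻¹ ∈ Subgroup.center (Ext π) := rel_le_center π (by
      rw [MonoidHom.mem_ker, map_mul, map_inv, ← hb']; simp [p])
    have key : ∀ (x y z : Ext π), z ∈ Subgroup.center (Ext π) →
        ⁅z * x, y⁆ = ⁅x, y⁆ ∧ ⁅x, z * y⁆ = ⁅x, y⁆ := fun x y z hz => by
      have hz' := fun g => Subgroup.mem_center_iff.mp hz g
      constructor
      · simp only [commutatorElement_def, mul_inv_rev]
        calc z * x * y * (x⁻¹ * z⁻¹) * y⁻¹ = z * (x * y * x⁻¹) * z⁻¹ * y⁻¹ := by group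
          _ = (x * y * x⁻¹) * z * z⁻¹ * y⁻¹ := by rw [hz']
          _ = _ := by group
      · simp only [commutatorElement_def, mul_inv_rev]
        calc x * (z * y) * x⁻¹ * (y⁻¹ * z⁻¹) = (x * z) * (y * x⁻¹ * y⁻¹) * z⁻¹ := by group
          _ = (z * x) * (y * x⁻¹ * y⁻¹) * z⁻¹ := by rw [hz']
          _ = z * (x * y * x⁻¹ * y⁻¹) * z⁻¹ := by group
          _ = _ := by rw [← hz']; group
    have h1 : ⁅a, b⁆ = ⁅(a' : Ext π), (b' : Ext π)⁆ := by
      have h2 := (key (a' : Ext π) b _ ha).1
      have h3 := (key (a' : Ext π) b' _ hb).2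
      rw [inv_mul_cancel_right] at h2 h3
      rw [h2, h3]
    rw [SetLike.mem_coe, h1, ← commutator_eq_closure]
    exact Subgroup.commutator_mem_commutator a'.2 b'.2
  refine ⟨↥D, inferInstance, inferInstance, p, hperf, hp, fun x hx => ?_, fun X _ ξ hξ hz => ?_⟩
  · rw [Subgroup.mem_center_iff]
    intro y
    exact Subtype.ext (Subgroup.mem_center_iff.mp (rel_le_center π hx) y)
  · refine ⟨(toExt π hξ hz).comp D.subtype, MonoidHom.ext fun x => ?_, fun η hη => MonoidHom.ext fun x => ?_⟩
    · exact DFunLike.congr_fun (comp_toExt π hξ hz) (x : Ext π)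
    · refine eqOn_commutator hz ?_ (hperf.commutator_eq_top ▸ Subgroup.mem_top x)
      rw [hη, ← MonoidHom.comp_assoc, comp_toExt]

end Cfsg.Agent.S3960
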