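import Cfsg.Statements.S3961
import Cfsg.Agent.Lib.Schur.Basic
import Cfsg.Agent.Lib.Schur.Stem

set_option autoImplicit false
universe u v
open Cfsg
open Cfsg.Agent.Schur
open scoped commutatorElement

namespace Cfsg.Agent.S3961

/-- Let `π : G →* Q` be a surjective homomorphism with central kernel from a finite perfect group `G` (a perfect cover of `Q`). Then `π` is universal, in the sense that every surjective homomorphism `ξ : X →* Q` with central kernel from a group `X` in the universe of `G` admits a homomorphism `η : G →* X` with `ξ ∘ η = π`, if and only if `G` has trivial Schur multiplier. -/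
theorem result {G : Type u} {Q : Type v} [Group G] [Group Q] [Finite G] (hG : Group.IsPerfect G) (π : G →* Q) (hπ : Function.Surjective π) (hker : π.ker ≤ Subgroup.center G) : (∀ (X : Type u) [Group X] (ξ : X →* Q), Function.Surjective ξ → ξ.ker ≤ Subgroup.center X → ∃ η : G →* X, ξ.comp η = π) ↔ Cfsg.HasCyclicSchurMultiplier G 1 := by
  constructor
  · intro huniv
    refine Schur.hasCyclicSchurMultiplier_one fun Δ _ _ τ hτ => ?_
    have hΔ : commutator Δ = ⊤ := by
      refine top_unique fun x _ => ?_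
      have h1 : τ x ∈ (commutator Δ).map τ := by
        rw [map_commutator_of_surjective hτ.1, hG.commutator_eq_top]
        exact Subgroup.mem_top _
      obtain ⟨y, hy, hyx⟩ := h1
      have h2 : y⁻¹ * x ∈ τ.ker := by simp [MonoidHom.mem_ker, hyx]
      simpa using mul_mem hy (hτ.2.2 h2)
    have hcent : (π.comp τ).ker ≤ Subgroup.center Δ := by
      intro x hx
      have hc : ∀ y : Δ, y * x * y⁻¹ * x⁻¹ ∈ Subgroup.center Δ := fun y => hτ.2.1 (by
        have h := Subgroup.mem_center_iff.mp (hker hx) (τ y)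
        rw [MonoidHom.mem_ker, map_mul, map_mul, map_mul, map_inv, map_inv, h]
        group)
      let f : Δ →* Subgroup.center Δ :=
        { toFun := fun y => ⟨y * x * y⁻¹ * x⁻¹, hc y⟩
          map_one' := Subtype.ext (by simp)
          map_mul' := fun a b => Subtype.ext (by
            have h := Subgroup.mem_center_iff.mp (hc b) a
            simp only [Subgroup.coe_mul]
            calc a * b * x * (a * b)⁻¹ * x⁻¹ = a * (b * x * b⁻¹ * x⁻¹) * x * a⁻¹ * x⁻¹ := by group
              _ = (b * x * b⁻¹ * x⁻¹) * a * x * a⁻¹ * x⁻¹ := by rw [h]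
              _ = (b * x * b⁻¹ * x⁻¹) * (a * x * a⁻¹ * x⁻¹) := by group
              _ = (a * x * a⁻¹ * x⁻¹) * (b * x * b⁻¹ * x⁻¹) :=
                (Subgroup.mem_center_iff.mp (hc b) _).symm) }
      rw [Subgroup.mem_center_iff]
      intro y
      have hle : commutator Δ ≤ f.ker := by
        rw [commutator_eq_closure, Subgroup.closure_le]
        rintro _ ⟨a, b, rfl⟩
        simp only [SetLike.mem_coe, MonoidHom.mem_ker, map_commutatorElement]
        exact commutatorElement_eq_one_iff_mul_comm.mpr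
          (Subtype.ext (Subgroup.mem_center_iff.mp (f b).2 _))
      have h := congrArg Subtype.val (MonoidHom.mem_ker.mp (hle (hΔ ▸ Subgroup.mem_top y)))
      change y * x * y⁻¹ * x⁻¹ = 1 at h
      exact mul_inv_eq_one.mp (by rw [← h]; group)
    obtain ⟨η, hη⟩ := huniv Δ (π.comp τ) (hπ.comp hτ.1) hcent
    have hid : ∀ g : G, τ (η g) = g := fun g => by
      have h := eqOn_commutator (σ := π) hker (f := τ.comp η) (g := MonoidHom.id G)
        (by rw [← MonoidHom.comp_assoc, hη, MonoidHom.comp_id]) (x := g)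
        (hG.commutator_eq_top ▸ Subgroup.mem_top g)
      exact h
    have hsup : ∀ x : Δ, x ∈ η.range := by
      intro x
      have hle : commutator Δ ≤ η.range := by
        rw [commutator_eq_closure, Subgroup.closure_le]
        rintro _ ⟨a, b, rfl⟩
        have hca : (η (τ a))⁻¹ * a ∈ Subgroup.center Δ := hτ.2.1 (by
          simp [MonoidHom.mem_ker, hid])
        have hcb : (η (τ b))⁻¹ * b ∈ Subgroup.center Δ := hτ.2.1 (by
          simp [MonoidHom.mem_ker, hid])
        refine ⟨⁅τ a, τ b⁆, ?_⟩
        rw [map_commutatorElement]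
        obtain ⟨u, hu'⟩ : ∃ u, u = (η (τ a))⁻¹ * a := ⟨_, rfl⟩
        obtain ⟨w, hw'⟩ : ∃ w, w = (η (τ b))⁻¹ * b := ⟨_, rfl⟩
        rw [← hu'] at hca
        rw [← hw'] at hcb
        have ea : a = η (τ a) * u := by rw [hu', mul_inv_cancel_left]
        have eb : b = η (τ b) * w := by rw [hw', mul_inv_cancel_left]
        conv_rhs => rw [ea, eb]
        simp only [commutatorElement_def, mul_inv_rev]
        have hu := fun g => Subgroup.mem_center_iff.mp hca g
        have hw := fun g => Subgroup.mem_center_iff.mp hcb g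
        symm
        calc η (τ a) * u * (η (τ b) * w) * (u⁻¹ * (η (τ a))⁻¹) * (w⁻¹ * (η (τ b))⁻¹)
            = η (τ a) * (u * (η (τ b) * w)) * (u⁻¹ * (η (τ a))⁻¹) * (w⁻¹ * (η (τ b))⁻¹) := by group
          _ = η (τ a) * ((η (τ b) * w) * u) * (u⁻¹ * (η (τ a))⁻¹) * (w⁻¹ * (η (τ b))⁻¹) := by rw [hu]
          _ = η (τ a) * η (τ b) * (w * (η (τ a))⁻¹) * (w⁻¹ * (η (τ b))⁻¹) := by group
          _ = η (τ a) * η (τ b) * ((η (τ a))⁻¹ * w) * (w⁻¹ * (η (τ b))⁻¹) := by rw [hw]
          _ = _ := by group
      exact hle (hΔ ▸ Subgroup.mem_top x)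
    rw [eq_bot_iff]
    intro x hx
    obtain ⟨g, rfl⟩ := hsup x
    rw [MonoidHom.mem_ker, hid] at hx
    rw [hx, map_one]
    exact Subgroup.one_mem _
  · intro hG1 X _ ξ hξ hξz
    let P : Subgroup (G × X) := (π.comp (MonoidHom.fst G X)).eqLocus (ξ.comp (MonoidHom.snd G X))
    let p₁ : ↥P →* G := (MonoidHom.fst G X).comp P.subtype
    have hp₁ : Function.Surjective p₁ := fun g => by
      obtain ⟨d, hd⟩ := hξ (π g)
      exact ⟨⟨(g, d), hd.symm⟩, rfl⟩
    have hz : p₁.ker ≤ Subgroup.center ↥P := by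
      rintro ⟨⟨g, d⟩, hgd⟩ hg
      have hg' : g = 1 := hg
      subst hg'
      have hd : d ∈ ξ.ker := by
        have : π 1 = ξ d := hgd
        rw [map_one] at this
        exact this.symm
      rw [Subgroup.mem_center_iff]
      rintro ⟨⟨y, c⟩, _⟩
      exact Subtype.ext (Prod.ext (by simp) (Subgroup.mem_center_iff.mp (hξz hd) c))
    have hbot := ker_inf_commutator_eq_bot hG1 p₁ hp₁ hz
    set D := commutator ↥P
    have hbij : Function.Bijective (p₁.comp D.subtype) := by
      refine ⟨?_, fun g => ?_⟩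
      · rw [injective_iff_map_eq_one]
        intro x hx
        exact Subtype.ext (Subgroup.mem_bot.mp (hbot ▸ ⟨hx, x.2⟩))
      · have : g ∈ D.map p₁ := by
          rw [map_commutator_of_surjective hp₁, hG.commutator_eq_top]
          exact Subgroup.mem_top g
        obtain ⟨x, hx, hxg⟩ := this
        exact ⟨⟨x, hx⟩, hxg⟩
    let e := MulEquiv.ofBijective _ hbij
    refine ⟨((MonoidHom.snd G X).comp P.subtype).comp (D.subtype.comp e.symm.toMonoidHom),
      MonoidHom.ext fun g => ?_⟩
    have h1 : π (p₁ (e.symm g : ↥D)) = ξ (((e.symm g : ↥D) : ↥P) : G × X).2 :=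
      ((e.symm g : ↥D) : ↥P).2
    have h2 : p₁ (e.symm g : ↥D) = g := e.apply_symm_apply g
    rw [h2] at h1
    exact h1.symm

end Cfsg.Agent.S3961
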