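import Cfsg.Statements.S3962


set_option autoImplicit false
open Cfsg

namespace Cfsg.Agent.S3962

/-- Let `G` be a perfect group and `π : G →* Q` a surjective homomorphism whose kernel is central. Then `π` maps the centre of `G` onto the centre of `Q`. Taking `π` to be the map to `G ⧸ Z(G)` shows that the central quotient of a perfect group has trivial centre. -/
theorem result {G Q : Type*} [Group G] [Group Q] (hG : Group.IsPerfect G) (π : G →* Q) (hπ : Function.Surjective π) (hker : π.ker ≤ Subgroup.center G) : (Subgroup.center G).map π = Subgroup.center Q := by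
  refine le_antisymm ?_ ?_
  · rintro _ ⟨g, hg, rfl⟩
    rw [Subgroup.mem_center_iff]
    intro y
    obtain ⟨x, rfl⟩ := hπ y
    rw [← map_mul, ← map_mul, Subgroup.mem_center_iff.mp hg x]
  · intro z hz
    obtain ⟨g, rfl⟩ := hπ z
    have hc : ∀ x : G, x * g * x⁻¹ * g⁻¹ ∈ Subgroup.center G := fun x => hker (by
      rw [MonoidHom.mem_ker, map_mul, map_mul, map_mul, map_inv, map_inv,
        Subgroup.mem_center_iff.mp hz (π x)]
      group)
    let f : G →* Subgroup.center G :=
      { toFun := fun x => ⟨x * g * x⁻¹ * g⁻¹, hc x⟩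
        map_one' := Subtype.ext (by simp)
        map_mul' := fun x y => Subtype.ext (by
          have h := Subgroup.mem_center_iff.mp (hc y) x
          simp only [Subgroup.coe_mul]
          calc x * y * g * (x * y)⁻¹ * g⁻¹
              = x * (y * g * y⁻¹ * g⁻¹) * g * x⁻¹ * g⁻¹ := by group
            _ = (y * g * y⁻¹ * g⁻¹) * x * g * x⁻¹ * g⁻¹ := by rw [h]
            _ = (y * g * y⁻¹ * g⁻¹) * (x * g * x⁻¹ * g⁻¹) := by group
            _ = (x * g * x⁻¹ * g⁻¹) * (y * g * y⁻¹ * g⁻¹) :=
              (Subgroup.mem_center_iff.mp (hc x) _)) }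
    have htop : (⊤ : Subgroup G) ≤ f.ker := by
      rw [← hG.commutator_eq_top, commutator_eq_closure, Subgroup.closure_le]
      rintro _ ⟨a, b, rfl⟩
      simp only [SetLike.mem_coe, MonoidHom.mem_ker, map_commutatorElement]
      exact commutatorElement_eq_one_iff_mul_comm.mpr (Subtype.ext
        ((Subgroup.mem_center_iff.mp (f b).2 _)))
    refine ⟨g, Subgroup.mem_center_iff.mpr fun x => ?_, rfl⟩
    have h := congrArg Subtype.val (MonoidHom.mem_ker.mp (htop (Subgroup.mem_top x)))
    change x * g * x⁻¹ * g⁻¹ = 1 at h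
    exact mul_inv_eq_one.mp (by rw [← h]; group)

end Cfsg.Agent.S3962
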