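import Cfsg.Statements.S3964
import Cfsg.Agent.Lib.Schur.TwoGen
import Cfsg.Agent.Lib.Schur.Stem

set_option autoImplicit false
open Cfsg
open Cfsg.Agent.Schur
open scoped commutatorElement

namespace Cfsg.Agent.S3964

/-- For odd `n` the dihedral group of order `2 n` has trivial Schur multiplier. -/
theorem result (n : ℕ) (hn : Odd n) : Cfsg.HasCyclicSchurMultiplier (DihedralGroup n) 1 := by
  have : NeZero n := ⟨hn.pos.ne'⟩
  refine Schur.hasCyclicSchurMultiplier_one fun Γ _ _ σ hσ => ?_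
  obtain ⟨A, hA⟩ := hσ.1 (DihedralGroup.r 1)
  obtain ⟨B, hB⟩ := hσ.1 (DihedralGroup.sr 0)
  have hinv : σ B * σ A * (σ B)⁻¹ = (σ A)⁻¹ := by
    rw [hA, hB, DihedralGroup.inv_sr, DihedralGroup.inv_r, DihedralGroup.sr_mul_r,
      DihedralGroup.sr_mul_sr]
    simp
  obtain ⟨h1, h2, h3, h4⟩ := inverted_commutator hσ.2.1 hinv
  have hgen : Subgroup.closure ({σ A, σ B} : Set (DihedralGroup n)) = ⊤ := by
    refine top_unique fun x _ => ?_
    rw [hA, hB]
    have ha : ∀ i : ZMod n, DihedralGroup.r i ∈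
        Subgroup.closure ({DihedralGroup.r 1, DihedralGroup.sr 0} : Set (DihedralGroup n)) := fun i => by
      rw [← ZMod.natCast_zmod_val i, ← DihedralGroup.r_one_pow]
      exact pow_mem (Subgroup.subset_closure (by simp)) _
    cases x with
    | r i => exact ha i
    | sr i =>
      rw [show DihedralGroup.sr i = DihedralGroup.sr 0 * DihedralGroup.r i by
        rw [DihedralGroup.sr_mul_r, zero_add]]
      exact mul_mem (Subgroup.subset_closure (by simp)) (ha i)
  have hle := commutator_le_zpowers hσ.2.1 hgen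
      (show A * ⁅B, A⁆ * A⁻¹ ∈ Subgroup.zpowers ⁅B, A⁆ by rw [h1]; exact Subgroup.mem_zpowers _)
    (show B * ⁅B, A⁆ * B⁻¹ ∈ Subgroup.zpowers ⁅B, A⁆ by rw [h2]; exact Subgroup.inv_mem _ (Subgroup.mem_zpowers _))
  have hcn : ⁅B, A⁆ ^ n = 1 := by
    have hk : A ^ n ∈ σ.ker := by
      rw [MonoidHom.mem_ker, map_pow, hA, DihedralGroup.r_one_pow_n]
    have := h3 n
    rw [Subgroup.mem_center_iff.mp (hσ.2.1 hk) B, mul_inv_cancel_right] at this
    exact right_eq_mul.mp this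
  rw [eq_bot_iff]
  intro z hz
  obtain ⟨i, hi⟩ := hle (hσ.2.2 hz)
  have hi' : ⁅B, A⁆ ^ i = z := hi
  have hord : orderOf (σ ⁅B, A⁆) = n := by
    rw [h4, orderOf_inv, hA, orderOf_pow' _ two_ne_zero, DihedralGroup.orderOf_r_one,
      Nat.coprime_two_right.mpr hn, Nat.div_one]
  have hdvd : (n : ℤ) ∣ i := by
    rw [← hord, orderOf_dvd_iff_zpow_eq_one, ← map_zpow, hi']
    exact hz
  obtain ⟨j, rfl⟩ := hdvd
  rw [Subgroup.mem_bot, ← hi', zpow_mul, zpow_natCast, hcn, one_zpow]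

end Cfsg.Agent.S3964
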