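import Cfsg.Statements.S3966
import Mathlib


set_option autoImplicit false
open Cfsg
open scoped commutatorElement

namespace Cfsg.Agent.S3966

/-- For even `n ≥ 2` the dicyclic group of order `4 n` is a stem extension of the dihedral group of order `2 n` with kernel of order `2`: there is a surjective homomorphism `QuaternionGroup n →* DihedralGroup n` whose kernel is central, lies in the commutator subgroup and has two elements. Together with the order of the multiplier this exhibits the dicyclic group as a Schur covering group of the dihedral group. -/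
theorem result (n : ℕ) [NeZero n] (hn : Even n) : ∃ σ : QuaternionGroup n →* DihedralGroup n, Cfsg.IsStemExtension σ ∧ Nat.card σ.ker = 2 := by
  let φ : ZMod (2 * n) →+* ZMod n := ZMod.castHom (dvd_mul_left n 2) (ZMod n)
  let σ : QuaternionGroup n →* DihedralGroup n :=
    { toFun := fun x => match x with
        | QuaternionGroup.a i => DihedralGroup.r (φ i)
        | QuaternionGroup.xa i => DihedralGroup.sr (φ i)
      map_one' := by
        rw [QuaternionGroup.one_def]
        show DihedralGroup.r (φ 0) = 1
        rw [map_zero, DihedralGroup.r_zero]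
      map_mul' := by
        rintro (i | i) (j | j) <;>
          simp [QuaternionGroup.a_mul_a, QuaternionGroup.a_mul_xa, QuaternionGroup.xa_mul_a,
            QuaternionGroup.xa_mul_xa, DihedralGroup.r_mul_r, DihedralGroup.r_mul_sr,
            DihedralGroup.sr_mul_r, DihedralGroup.sr_mul_sr] }
  have hsurj : Function.Surjective φ := ZMod.castHom_surjective _
  have hker : ∀ x, x ∈ σ.ker ↔ x = QuaternionGroup.a 0 ∨ x = QuaternionGroup.a (n : ZMod (2 * n)) := by
    intro x
    cases x with
    | xa i =>
      simp only [reduceCtorEq, or_self, iff_false]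
      intro h
      have h' : DihedralGroup.sr (φ i) = DihedralGroup.r 0 := h
      cases h'
    | a i =>
      simp only [QuaternionGroup.a.injEq]
      constructor
      · intro h
        have h' : DihedralGroup.r (φ i) = DihedralGroup.r 0 := h
        simp only [DihedralGroup.r.injEq] at h'
        rw [← ZMod.natCast_zmod_val i, map_natCast, ZMod.natCast_eq_zero_iff] at h'
        obtain ⟨k, hk⟩ := h'
        have hlt := ZMod.val_lt i
        rw [← ZMod.natCast_zmod_val i, hk]
        have : k = 0 ∨ k = 1 := by
          rcases k with _ | _ | k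
          · exact Or.inl rfl
          · exact Or.inr rfl
          · exfalso; rw [hk] at hlt; nlinarith [Nat.pos_of_ne_zero (NeZero.ne n)]
        rcases this with rfl | rfl
        · left; simp
        · right; simp
      · rintro (rfl | rfl)
        · show DihedralGroup.r (φ 0) = DihedralGroup.r 0
          rw [map_zero]
        · show DihedralGroup.r (φ (n : ZMod (2 * n))) = DihedralGroup.r 0
          rw [map_natCast, ZMod.natCast_self]
  refine ⟨σ, ⟨fun y => ?_, fun x hx => ?_, fun x hx => ?_⟩, ?_⟩
  · cases y with
    | r i =>
      obtain ⟨j, hj⟩ := hsurj i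
      exact ⟨QuaternionGroup.a j, congrArg DihedralGroup.r hj⟩
    | sr i =>
      obtain ⟨j, hj⟩ := hsurj i
      exact ⟨QuaternionGroup.xa j, congrArg DihedralGroup.sr hj⟩
  · rw [Subgroup.mem_center_iff]
    have hnn : (n : ZMod (2 * n)) + n = 0 := by
      rw [← Nat.cast_add, ← two_mul, ZMod.natCast_self]
    rcases (hker x).mp hx with rfl | rfl
    · intro y; rw [QuaternionGroup.a_zero, mul_one, one_mul]
    · intro y
      cases y with
      | a i => rw [QuaternionGroup.a_mul_a, QuaternionGroup.a_mul_a, add_comm]
      | xa i =>
        rw [QuaternionGroup.xa_mul_a, QuaternionGroup.a_mul_xa]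
        congr 1
        rw [sub_eq_add_neg, neg_eq_of_add_eq_zero_left hnn]
  · rcases (hker x).mp hx with rfl | rfl
    · rw [QuaternionGroup.a_zero]; exact one_mem _
    · obtain ⟨k, hk⟩ := hn
      have h2 : (QuaternionGroup.a 2 : QuaternionGroup n) ∈ commutator (QuaternionGroup n) := by
        have h : ⁅(QuaternionGroup.xa 0 : QuaternionGroup n), (QuaternionGroup.a (-1) : QuaternionGroup n)⁆ = QuaternionGroup.a 2 := by
          rw [commutatorElement_def, mul_inv_eq_iff_eq_mul, mul_inv_eq_iff_eq_mul]
          simp only [QuaternionGroup.xa_mul_a, QuaternionGroup.a_mul_a, QuaternionGroup.a_mul_xa]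
          norm_num
        rw [← h]
        exact Subgroup.commutator_mem_commutator (Subgroup.mem_top _) (Subgroup.mem_top _)
      have h3 : (QuaternionGroup.a (n : ZMod (2 * n)) : QuaternionGroup n) = QuaternionGroup.a 2 ^ k := by
        rw [show (QuaternionGroup.a 2 : QuaternionGroup n) = QuaternionGroup.a 1 ^ 2 by
          rw [QuaternionGroup.a_one_pow]; norm_num, ← pow_mul, QuaternionGroup.a_one_pow]
        exact congrArg (fun j : ℕ => QuaternionGroup.a (j : ZMod (2 * n))) (by omega : n = 2 * k)
      rw [h3]
      exact pow_mem h2 k
  · have hset : (σ.ker : Set (QuaternionGroup n)) =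
        {QuaternionGroup.a 0, QuaternionGroup.a (n : ZMod (2 * n))} := Set.ext fun x => by simpa using hker x
    have hne : (QuaternionGroup.a 0 : QuaternionGroup n) ≠ QuaternionGroup.a (n : ZMod (2 * n)) := by
      intro h
      rw [QuaternionGroup.a.injEq, eq_comm, ZMod.natCast_eq_zero_iff] at h
      have := Nat.le_of_dvd (Nat.pos_of_ne_zero (NeZero.ne n)) h
      have := NeZero.ne n
      omega
    show Nat.card ↥(σ.ker : Set (QuaternionGroup n)) = 2
    rw [hset, Nat.card_coe_set_eq, Set.ncard_pair hne]

end Cfsg.Agent.S3966
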