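import Cfsg.Statements.S3965
import Cfsg.Agent.Lib.Schur.TwoGen
import Cfsg.Agent.S3966

set_option autoImplicit false
open Cfsg
open Cfsg.Agent.Schur
open scoped commutatorElement

namespace Cfsg.Agent.S3965

/-- For even `n ≥ 2` the dihedral group of order `2 n` has Schur multiplier cyclic of order `2`. -/
theorem result (n : ℕ) [NeZero n] (hn : Even n) : Cfsg.HasCyclicSchurMultiplier (DihedralGroup n) 2 := by
  obtain ⟨σ₀, hσ₀, hcard⟩ := Cfsg.Agent.S3966.result n hn
  constructor
  · refine ⟨QuaternionGroup n, inferInstance, inferInstance, σ₀, hσ₀, ?_⟩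
    have : Fact (Nat.Prime 2) := ⟨Nat.prime_two⟩
    exact ⟨mulEquivOfPrimeCardEq (p := 2) hcard (by simp)⟩
  · intro Γ _ _ σ hσ
    obtain ⟨A, hA⟩ := hσ.1 (DihedralGroup.r 1)
    obtain ⟨B, hB⟩ := hσ.1 (DihedralGroup.sr 0)
    have hinv : σ B * σ A * (σ B)⁻¹ = (σ A)⁻¹ := by
      rw [hA, hB, DihedralGroup.inv_sr, DihedralGroup.inv_r, DihedralGroup.sr_mul_r,
        DihedralGroup.sr_mul_sr]
      simp
    obtain ⟨h1, h2, h3, h4⟩ := inverted_commutator hσ.2.1 hinv
    have hgen : Subgroup.closure ({σ A, σ B} : Set (DihedralGroup n)) = ⊤ := by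
      refine top_unique fun x _ => ?_
      rw [hA, hB]
      have ha : ∀ i : ZMod n, DihedralGroup.r i ∈
          Subgroup.closure ({DihedralGroup.r 1, DihedralGroup.sr 0} : Set (DihedralGroup n)) := fun i => by
        rw [← ZMod.natCast_zmod_val i, ← DihedralGroup.r_one_pow]
        exact pow_mem (Subgroup.subset_closure (by simp)) _
      cases x with
      | r i => exact ha i
      | sr i =>
        rw [show DihedralGroup.sr i = DihedralGroup.sr 0 * DihedralGroup.r i by
          rw [DihedralGroup.sr_mul_r, zero_add]]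
        exact mul_mem (Subgroup.subset_closure (by simp)) (ha i)
    have hle := commutator_le_zpowers hσ.2.1 hgen
      (show A * ⁅B, A⁆ * A⁻¹ ∈ Subgroup.zpowers ⁅B, A⁆ by rw [h1]; exact Subgroup.mem_zpowers _)
      (show B * ⁅B, A⁆ * B⁻¹ ∈ Subgroup.zpowers ⁅B, A⁆ by rw [h2]; exact Subgroup.inv_mem _ (Subgroup.mem_zpowers _))
    have hcn : ⁅B, A⁆ ^ n = 1 := by
      have hk : A ^ n ∈ σ.ker := by
        rw [MonoidHom.mem_ker, map_pow, hA, DihedralGroup.r_one_pow_n]
      have := h3 n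
      rw [Subgroup.mem_center_iff.mp (hσ.2.1 hk) B, mul_inv_cancel_right] at this
      exact right_eq_mul.mp this
    obtain ⟨k, hk⟩ := hn
    refine exists_surjective_zmod_of_le_zpowers _ 2 (c := ⁅B, A⁆ ^ k) (fun z hz => ?_) ?_
    · obtain ⟨i, hi⟩ := hle (hσ.2.2 hz)
      have hi' : ⁅B, A⁆ ^ i = z := hi
      have hdvd : (k : ℤ) ∣ i := by
        have h5 : (σ A) ^ (2 * i) = 1 := by
          have : σ ⁅B, A⁆ ^ i = 1 := by rw [← map_zpow, hi']; exact hz
          rw [h4, inv_zpow, inv_eq_one, ← zpow_natCast (σ A) 2, ← zpow_mul] at this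
          exact this
        rw [hA, ← orderOf_dvd_iff_zpow_eq_one, DihedralGroup.orderOf_r_one, hk] at h5
        push_cast at h5
        rw [← two_mul] at h5
        exact Int.dvd_of_mul_dvd_mul_left two_ne_zero h5
      obtain ⟨j, rfl⟩ := hdvd
      exact ⟨j, by rw [← hi', zpow_mul, zpow_natCast]⟩
    · rw [← pow_mul, mul_two, ← hk, hcn]

end Cfsg.Agent.S3965
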