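import Cfsg.Statements.S3967
import Cfsg.Agent.Lib.Schur.TwoGen
import Mathlib

set_option autoImplicit false
open Cfsg

namespace Cfsg.Agent.S3967

open scoped commutatorElement
open Cfsg.Agent.Schur

/-- Numerical data of a metacyclic presentation and of its cover. -/
structure Dat where
  m : ℕ
  n : ℕ
  r : ℕ
  l : ℕ
  g : ℕ
  d : ℕ
  f : ℕ
  e : ℕ
  x : ℤ
  y : ℤ
  hn : 0 < n
  hg : 0 < g
  hf : 0 < f
  hd : 0 < d
  hm : m = d * f
  hr : r = 1 + d * e
  hxy : x * e + y * f = 1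
  hgl : g ∣ l
  hgd : g ∣ d
  hN : ∃ u : ℤ, (d : ℤ) * (∑ i ∈ Finset.range n, (r : ℤ) ^ i) = m * (g * u)

namespace Dat

variable (D : Dat)

/-- The partial geometric sum. -/
def gs (k : ℕ) : ℤ := ∑ i ∈ Finset.range k, (D.r : ℤ) ^ i

/-- The relations of the normal abelian subgroup. -/
def relHom : ℤ × ℤ →+ ℤ × ℤ where
  toFun q := (q.1 * D.m, -(q.1 * D.x) + q.2 * D.g)
  map_zero' := by simp
  map_add' a b := by
    refine Prod.ext ?_ ?_
    · show (a.1 + b.1) * (D.m : ℤ) = a.1 * D.m + b.1 * D.m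
      ring
    · show -((a.1 + b.1) * D.x) + (a.2 + b.2) * (D.g : ℤ) = (-(a.1 * D.x) + a.2 * D.g) + (-(b.1 * D.x) + b.2 * D.g)
      ring

/-- The normal abelian subgroup. -/
abbrev K := (ℤ × ℤ) ⧸ D.relHom.range

/-- The action of `b ^ k` on `ℤ × ℤ`. -/
def act0 (k : ℕ) : ℤ × ℤ →+ ℤ × ℤ where
  toFun q := ((D.r : ℤ) ^ k * q.1, q.2 + D.y * D.gs k * q.1)
  map_zero' := by simp
  map_add' a b := by
    refine Prod.ext ?_ ?_
    · show (D.r : ℤ) ^ k * (a.1 + b.1) = (D.r : ℤ) ^ k * a.1 + (D.r : ℤ) ^ k * b.1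
      ring
    · show a.2 + b.2 + D.y * D.gs k * (a.1 + b.1) =
        (a.2 + D.y * D.gs k * a.1) + (b.2 + D.y * D.gs k * b.1)
      ring

theorem act0_le (k : ℕ) : D.relHom.range ≤ (D.relHom.range).comap (D.act0 k) := by
  rintro _ ⟨⟨p, q⟩, rfl⟩
  obtain ⟨v, hv⟩ : (D.g : ℤ) ∣ D.d := by exact_mod_cast D.hgd
  refine ⟨((D.r : ℤ) ^ k * p, q + p * D.gs k * v), ?_⟩
  have h1 : ((D.r : ℤ) - 1) * D.gs k = (D.r : ℤ) ^ k - 1 := mul_geom_sum _ _
  have hrr : (D.r : ℤ) = 1 + D.d * D.e := by exact_mod_cast D.hr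
  have hmm : (D.m : ℤ) = D.d * D.f := by exact_mod_cast D.hm
  refine Prod.ext ?_ ?_
  · show (D.r : ℤ) ^ k * p * D.m = (D.r : ℤ) ^ k * (p * D.m)
    ring
  · show -((D.r : ℤ) ^ k * p * D.x) + (q + p * D.gs k * v) * D.g =
      -(p * D.x) + q * D.g + D.y * D.gs k * (p * D.m)
    linear_combination (p * D.x) * h1 + (p * D.x * (1 - 1)) * hv - p * D.gs k * hv -
      (p * D.x * D.gs k) * hrr - (p * D.gs k * D.y) * hmm - (p * D.gs k * D.d) * D.hxy

/-- The action of `b ^ k`. -/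
def act (k : ℕ) : D.K →+ D.K := QuotientAddGroup.map _ _ (D.act0 k) (D.act0_le k)

theorem act_mk (k : ℕ) (i j : ℤ) :
    D.act k (QuotientAddGroup.mk (i, j)) =
      QuotientAddGroup.mk ((D.r : ℤ) ^ k * i, j + D.y * D.gs k * i) := rfl

theorem act_act (a b : ℕ) (z : D.K) : D.act a (D.act b z) = D.act (a + b) z := by
  induction z using QuotientAddGroup.induction_on with
  | _ q =>
    obtain ⟨i, j⟩ := q
    rw [act_mk, act_mk, act_mk]
    have h : D.gs (a + b) = D.gs b + (D.r : ℤ) ^ b * D.gs a := by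
      unfold Dat.gs
      rw [add_comm a b, Finset.sum_range_add, Finset.mul_sum]
      simp only [pow_add]
    congr 1
    refine Prod.ext ?_ ?_
    · show (D.r : ℤ) ^ a * ((D.r : ℤ) ^ b * i) = (D.r : ℤ) ^ (a + b) * i
      rw [pow_add, mul_assoc]
    · show j + D.y * D.gs b * i + D.y * D.gs a * ((D.r : ℤ) ^ b * i) = j + D.y * D.gs (a + b) * i
      rw [h]; ring

theorem mk_eq_mk_of {a b : ℤ × ℤ} (p q : ℤ) (h1 : b.1 - a.1 = p * D.m)
    (h2 : b.2 - a.2 = -(p * D.x) + q * D.g) : (QuotientAddGroup.mk a : D.K) = QuotientAddGroup.mk b := by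
  rw [QuotientAddGroup.eq]
  refine ⟨(p, q), Prod.ext ?_ ?_⟩
  · show p * (D.m : ℤ) = -a.1 + b.1
    linarith
  · show -(p * D.x) + q * (D.g : ℤ) = -a.2 + b.2
    linarith

theorem act_n (z : D.K) : D.act D.n z = z := by
  induction z using QuotientAddGroup.induction_on with
  | _ q =>
    obtain ⟨i, j⟩ := q
    rw [act_mk]
    obtain ⟨u, hu⟩ := D.hN
    have h1 : ((D.r : ℤ) - 1) * D.gs D.n = (D.r : ℤ) ^ D.n - 1 := mul_geom_sum _ _
    have hu' : (D.d : ℤ) * D.gs D.n = D.m * (D.g * u) := hu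
    have hrr : (D.r : ℤ) = 1 + D.d * D.e := by exact_mod_cast D.hr
    have hmm : (D.m : ℤ) = D.d * D.f := by exact_mod_cast D.hm
    have hd0 : (D.d : ℤ) ≠ 0 := by exact_mod_cast D.hd.ne'
    have hgs : D.gs D.n = D.f * (D.g * u) := by
      refine mul_left_cancel₀ hd0 ?_
      linear_combination hu' + (D.g * u) * hmm
    refine D.mk_eq_mk_of (-(i * (D.g * u * D.e))) (-(i * u)) ?_ ?_
    · linear_combination i * h1 - i * (D.gs D.n) * hrr - i * (D.d * D.e) * hgs + i * (D.g * u * D.e) * hmm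
    · linear_combination -(D.y * i) * hgs - (i * D.g * u) * D.hxy

/-- The automorphism induced by `b`. -/
def aut : MulAut (Multiplicative D.K) :=
  AddEquiv.toMultiplicative
    { toFun := D.act 1
      invFun := D.act (D.n - 1)
      left_inv := fun z => by rw [act_act, Nat.sub_add_cancel D.hn, act_n]
      right_inv := fun z => by rw [act_act, add_comm, Nat.sub_add_cancel D.hn, act_n]
      map_add' := map_add _ }

theorem act_zero (z : D.K) : D.act 0 z = z := by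
  induction z using QuotientAddGroup.induction_on with
  | _ q =>
    obtain ⟨i, j⟩ := q
    rw [act_mk]
    simp [Dat.gs]

theorem aut_pow (k : ℕ) (z : Multiplicative D.K) :
    (D.aut ^ k) z = Multiplicative.ofAdd (D.act k (Multiplicative.toAdd z)) := by
  induction k generalizing z with
  | zero => simp [act_zero]
  | succ k ih =>
    rw [pow_succ', MulAut.mul_apply, ih, add_comm k 1, ← act_act]
    rfl

/-- The action of `ℤ`. -/
def φ : Multiplicative ℤ →* MulAut (Multiplicative D.K) := zpowersHom _ D.aut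

/-- The split extension. -/
abbrev W := Multiplicative D.K ⋊[D.φ] Multiplicative ℤ

/-- `a ^ i w ^ j` in the abelian subgroup. -/
def el (i j : ℤ) : Multiplicative D.K := Multiplicative.ofAdd (QuotientAddGroup.mk (i, j))

/-- The exponent of `b ^ n`. -/
def t : ℕ := D.f * D.l

theorem φ_natCast (k : ℕ) (z : Multiplicative D.K) :
    D.φ (Multiplicative.ofAdd (k : ℤ)) z = Multiplicative.ofAdd (D.act k (Multiplicative.toAdd z)) := by
  rw [← D.aut_pow]
  show (D.aut ^ (k : ℤ)) z = _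
  rw [zpow_natCast]

theorem aut_el (i j : ℤ) : D.aut (D.el i j) = D.el ((D.r : ℤ) * i) (j + D.y * i) := by
  have h := D.aut_pow 1 (D.el i j)
  rw [pow_one] at h
  rw [h]
  show Multiplicative.ofAdd (D.act 1 (QuotientAddGroup.mk (i, j))) = _
  rw [act_mk, pow_one, show D.gs 1 = 1 by simp [Dat.gs], mul_one]
  rfl

/-- The element killed to obtain the cover. -/
def killed : D.W := ⟨D.el (-(D.t : ℤ)) 0, Multiplicative.ofAdd (D.n : ℤ)⟩

theorem aut_killed : D.aut (D.el (-(D.t : ℤ)) 0) = D.el (-(D.t : ℤ)) 0 := by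
  rw [aut_el]
  obtain ⟨v, hv⟩ : (D.g : ℤ) ∣ D.l := by exact_mod_cast D.hgl
  have hrr : (D.r : ℤ) = 1 + D.d * D.e := by exact_mod_cast D.hr
  have hmm : (D.m : ℤ) = D.d * D.f := by exact_mod_cast D.hm
  have ht : (D.t : ℤ) = D.f * D.l := by simp [Dat.t]
  refine congrArg Multiplicative.ofAdd (D.mk_eq_mk_of ((D.l : ℤ) * D.e) v ?_ ?_)
  · show -(D.t : ℤ) - (D.r : ℤ) * -(D.t : ℤ) = (D.l : ℤ) * D.e * D.m
    linear_combination (D.t : ℤ) * hrr + (D.d * D.e : ℤ) * ht - (D.l * D.e : ℤ) * hmm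
  · show 0 - (0 + D.y * -(D.t : ℤ)) = -((D.l : ℤ) * D.e * D.x) + v * D.g
    linear_combination D.y * ht + hv + (D.l : ℤ) * D.hxy

theorem killed_mem_center : D.killed ∈ Subgroup.center D.W := by
  rw [Subgroup.mem_center_iff]
  rintro ⟨z, k⟩
  refine SemidirectProduct.ext ?_ ?_
  · show z * D.φ k (D.el (-(D.t : ℤ)) 0) = D.el (-(D.t : ℤ)) 0 * D.φ (Multiplicative.ofAdd (D.n : ℤ)) z
    rw [φ_natCast, act_n, ofAdd_toAdd, mul_comm]
    congr 1
    show (D.aut ^ Multiplicative.toAdd k) _ = _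
    have : D.aut ∈ MulAction.stabilizer (MulAut (Multiplicative D.K)) (D.el (-(D.t : ℤ)) 0) := D.aut_killed
    exact zpow_mem this _
  · exact mul_comm _ _

/-- The kernel defining the cover. -/
def N : Subgroup D.W := Subgroup.zpowers D.killed

instance normal_N : D.N.Normal := ⟨fun z hz g => by
  rw [Subgroup.mem_center_iff.mp ((Subgroup.zpowers_le.mpr D.killed_mem_center) hz) g, mul_inv_cancel_right]
  exact hz⟩

/-- The cover. -/
abbrev Cover := D.W ⧸ D.N

/-- The embedding of the abelian subgroup. -/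
def inK : Multiplicative D.K →* D.Cover := (QuotientGroup.mk' D.N).comp SemidirectProduct.inl

/-- The element over `b`. -/
def B : D.Cover := QuotientGroup.mk' D.N (SemidirectProduct.inr (Multiplicative.ofAdd 1))

theorem inK_injective : Function.Injective D.inK := by
  rw [injective_iff_map_eq_one]
  intro z hz
  obtain ⟨i, hi⟩ := (QuotientGroup.eq_one_iff _).mp hz
  have hi' : D.killed ^ i = SemidirectProduct.inl z := hi
  have h1 : SemidirectProduct.rightHom (D.killed ^ i) = (1 : Multiplicative ℤ) := by rw [hi']; rfl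
  rw [map_zpow] at h1
  have h2 : i * (D.n : ℤ) = 0 := by
    have := congrArg Multiplicative.toAdd h1
    rw [toAdd_zpow, smul_eq_mul, toAdd_one] at this
    exact this
  rcases mul_eq_zero.mp h2 with h | h
  · rw [h, zpow_zero] at hi'
    exact (congrArg SemidirectProduct.left hi').symm
  · exact absurd h (by exact_mod_cast D.hn.ne')

theorem B_conj (i j : ℤ) : D.B * D.inK (D.el i j) * D.B⁻¹ = D.inK (D.el ((D.r : ℤ) * i) (j + D.y * i)) := by
  rw [← aut_el]
  show QuotientGroup.mk' D.N _ * QuotientGroup.mk' D.N _ * (QuotientGroup.mk' D.N _)⁻¹ = _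
  rw [← map_mul, ← map_inv, ← map_mul]
  refine congrArg (QuotientGroup.mk' D.N) ?_
  rw [← map_inv, ← SemidirectProduct.inl_aut]
  show SemidirectProduct.inl ((D.aut ^ (1 : ℤ)) (D.el i j)) = _
  rw [zpow_one]

theorem B_pow_n : D.B ^ D.n = D.inK (D.el D.t 0) := by
  show QuotientGroup.mk' D.N _ ^ D.n = QuotientGroup.mk' D.N _
  rw [← map_pow, eq_comm, QuotientGroup.mk'_eq_mk']
  refine ⟨D.killed, Subgroup.mem_zpowers _, SemidirectProduct.ext ?_ ?_⟩
  · show D.el D.t 0 * D.φ 1 (D.el (-(D.t : ℤ)) 0) = _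
    rw [map_one, MulAut.one_apply, ← SemidirectProduct.inr.map_pow, SemidirectProduct.left_inr]
    show Multiplicative.ofAdd (QuotientAddGroup.mk ((D.t : ℤ) + -(D.t : ℤ), (0 : ℤ) + 0) : D.K) = 1
    rw [add_neg_cancel, add_zero]
    rfl
  · show (1 : Multiplicative ℤ) * Multiplicative.ofAdd (D.n : ℤ) = _
    rw [one_mul, ← SemidirectProduct.inr.map_pow, SemidirectProduct.right_inr, ← ofAdd_nsmul, nsmul_one]

theorem el_pow (i j : ℤ) (k : ℕ) : D.el i j ^ k = D.el (k * i) (k * j) := by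
  show Multiplicative.ofAdd (k • (QuotientAddGroup.mk (i, j) : D.K)) = _
  rw [← QuotientAddGroup.mk_nsmul]
  simp [Dat.el]

theorem el_mul (i j i' j' : ℤ) : D.el i j * D.el i' j' = D.el (i + i') (j + j') := rfl

theorem el_inv (i j : ℤ) : (D.el i j)⁻¹ = D.el (-i) (-j) := rfl

theorem el_eq_one_of_dvd {j : ℤ} (h : (D.g : ℤ) ∣ j) : D.el 0 j = 1 := by
  obtain ⟨q, rfl⟩ := h
  exact congrArg Multiplicative.ofAdd (D.mk_eq_mk_of (a := (0, (D.g : ℤ) * q)) (b := (0, 0)) 0 (-q)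
    (by simp) (by simp; ring))

theorem el_eq_one_iff {i j : ℤ} : D.el i j = 1 ↔ ∃ p q : ℤ, i = p * D.m ∧ j = -(p * D.x) + q * D.g := by
  show (QuotientAddGroup.mk (i, j) : D.K) = 0 ↔ _
  rw [QuotientAddGroup.eq_zero_iff]
  constructor
  · rintro ⟨⟨p, q⟩, h⟩
    exact ⟨p, q, (congrArg Prod.fst h).symm, (congrArg Prod.snd h).symm⟩
  · rintro ⟨p, q, h1, h2⟩
    exact ⟨(p, q), Prod.ext h1.symm h2.symm⟩

theorem finite_cover : Finite D.Cover := by
  have : Finite D.K := by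
    have hm0 : (0 : ℤ) < D.m := by
      have h : 0 < D.m := by rw [D.hm]; exact Nat.mul_pos D.hd D.hf
      exact_mod_cast h
    have hg0 : (0 : ℤ) < D.g := by exact_mod_cast D.hg
    refine Finite.of_surjective
      (fun q : ↥(Finset.Ico (0 : ℤ) D.m) × ↥(Finset.Ico (0 : ℤ) D.g) => (QuotientAddGroup.mk ((q.1 : ℤ), (q.2 : ℤ)) : D.K))
      fun z => ?_
    induction z using QuotientAddGroup.induction_on with
    | _ q =>
      obtain ⟨i, j⟩ := q
      refine ⟨(⟨i % D.m, Finset.mem_Ico.mpr ⟨Int.emod_nonneg _ hm0.ne', Int.emod_lt_of_pos _ hm0⟩⟩,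
        ⟨(j + i / D.m * D.x) % D.g, Finset.mem_Ico.mpr ⟨Int.emod_nonneg _ hg0.ne', Int.emod_lt_of_pos _ hg0⟩⟩),
        D.mk_eq_mk_of (i / D.m) ((j + i / D.m * D.x) / D.g) ?_ ?_⟩
      · show i - i % (D.m : ℤ) = i / D.m * D.m
        have := Int.mul_ediv_add_emod i D.m
        linarith
      · show j - (j + i / D.m * D.x) % (D.g : ℤ) = -(i / D.m * D.x) + (j + i / D.m * D.x) / D.g * D.g
        have := Int.mul_ediv_add_emod (j + i / D.m * D.x) D.g
        linarith
  refine Finite.of_surjective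
    (fun q : Multiplicative D.K × Fin D.n => D.inK q.1 * D.B ^ (q.2 : ℕ)) fun c => ?_
  obtain ⟨⟨z, k⟩, rfl⟩ := QuotientGroup.mk'_surjective D.N c
  obtain ⟨k, rfl⟩ := Multiplicative.ofAdd.surjective k
  have hn0 : (0 : ℤ) < D.n := by exact_mod_cast D.hn
  refine ⟨(z * D.el D.t 0 ^ (k / (D.n : ℤ)), ⟨(k % (D.n : ℤ)).toNat, by
    have := Int.emod_lt_of_pos k hn0
    have := Int.emod_nonneg k hn0.ne'
    omega⟩), ?_⟩
  have hsplit : QuotientGroup.mk' D.N (⟨z, Multiplicative.ofAdd k⟩ : D.W) = D.inK z * D.B ^ k := by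
    rw [← SemidirectProduct.inl_left_mul_inr_right (⟨z, Multiplicative.ofAdd k⟩ : D.W), map_mul]
    refine congrArg (D.inK z * ·) ?_
    show QuotientGroup.mk' D.N (SemidirectProduct.inr (Multiplicative.ofAdd k)) = QuotientGroup.mk' D.N _ ^ k
    rw [← map_zpow, ← map_zpow, ← ofAdd_zsmul]
    simp
  show D.inK (z * D.el D.t 0 ^ (k / (D.n : ℤ))) * D.B ^ (k % (D.n : ℤ)).toNat = _
  rw [hsplit, map_mul, map_zpow, ← B_pow_n, ← zpow_natCast D.B D.n, ← zpow_natCast D.B (k % (D.n : ℤ)).toNat,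
    Int.toNat_of_nonneg (Int.emod_nonneg k hn0.ne'), ← zpow_mul, mul_assoc, ← zpow_add, Int.mul_ediv_add_emod]

/-- The relations. -/
def rels : Set (FreeGroup Bool) :=
  {FreeGroup.of true ^ D.m, (FreeGroup.of false) ^ D.n * (FreeGroup.of true ^ D.t)⁻¹,
    FreeGroup.of false * FreeGroup.of true * (FreeGroup.of false)⁻¹ * (FreeGroup.of true ^ D.r)⁻¹}

/-- The presented group. -/
abbrev G := PresentedGroup D.rels

/-- The first generator. -/
abbrev ga : D.G := PresentedGroup.of true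

/-- The second generator. -/
abbrev gb : D.G := PresentedGroup.of false

theorem ga_pow : D.ga ^ D.m = 1 := by
  have h := PresentedGroup.one_of_mem (rels := D.rels) (Set.mem_insert _ _)
  rwa [map_pow] at h

theorem gb_pow : D.gb ^ D.n = D.ga ^ D.t := by
  have h := PresentedGroup.one_of_mem (rels := D.rels)
    (show (FreeGroup.of false) ^ D.n * (FreeGroup.of true ^ D.t)⁻¹ ∈ D.rels by simp [Dat.rels])
  rwa [map_mul, map_inv, map_pow, map_pow, mul_inv_eq_one] at h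

theorem gb_conj : D.gb * D.ga * D.gb⁻¹ = D.ga ^ D.r := by
  have h := PresentedGroup.one_of_mem (rels := D.rels)
    (show FreeGroup.of false * FreeGroup.of true * (FreeGroup.of false)⁻¹ * (FreeGroup.of true ^ D.r)⁻¹ ∈ D.rels by
      simp [Dat.rels])
  rwa [map_mul, map_inv, map_mul, map_mul, map_inv, map_pow, mul_inv_eq_one] at h

/-- `(i, j) ↦ a ^ i`. -/
def toG0 : Multiplicative D.K →* D.G :=
  AddMonoidHom.toMultiplicativeLeft
    (QuotientAddGroup.lift D.relHom.range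
      ((zmultiplesHom (Additive D.G) (Additive.ofMul D.ga)).comp (AddMonoidHom.fst ℤ ℤ)) (by
        rintro _ ⟨⟨p, q⟩, rfl⟩
        show (p * (D.m : ℤ)) • Additive.ofMul D.ga = 0
        rw [← ofMul_zpow, mul_comm, zpow_mul, zpow_natCast, ga_pow, one_zpow]
        rfl))

theorem toG0_el (i j : ℤ) : D.toG0 (D.el i j) = D.ga ^ i := rfl

theorem toG0_comm (k : Multiplicative ℤ) :
    D.toG0.comp (D.φ k).toMonoidHom =
      (MulAut.conj (zpowersHom D.G D.gb k)).toMonoidHom.comp D.toG0 := by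
  have h1 : ∀ z, D.toG0 (D.aut z) = D.gb * D.toG0 z * D.gb⁻¹ := by
    intro z
    obtain ⟨q, rfl⟩ := Multiplicative.ofAdd.surjective z
    induction q using QuotientAddGroup.induction_on with
    | _ q =>
      obtain ⟨i, j⟩ := q
      show D.toG0 (D.aut (D.el i j)) = _
      rw [aut_el, toG0_el, zpow_mul, zpow_natCast, ← gb_conj, conj_zpow]
      rfl
  let Sg : Subgroup (Multiplicative ℤ) :=
    { carrier := {k | ∀ z, D.toG0 (D.φ k z) = zpowersHom D.G D.gb k * D.toG0 z * (zpowersHom D.G D.gb k)⁻¹}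
      one_mem' := fun z => by simp
      mul_mem' := fun {a b} ha hb z => by rw [map_mul, MulAut.mul_apply, ha, hb, map_mul]; group
      inv_mem' := fun {a} ha z => by
        have := ha (D.φ a⁻¹ z)
        rw [← MulAut.mul_apply, ← map_mul, mul_inv_cancel, map_one, MulAut.one_apply] at this
        rw [map_inv (zpowersHom D.G D.gb), this]
        group }
  have hone : Multiplicative.ofAdd (1 : ℤ) ∈ Sg := fun z => by
    simpa [Dat.φ, zpowersHom] using h1 z
  have hk : k ∈ Sg := by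
    have := Subgroup.zpow_mem Sg hone (Multiplicative.toAdd k)
    rw [← ofAdd_zsmul, smul_eq_mul, mul_one, ofAdd_toAdd] at this
    exact this
  exact MonoidHom.ext fun z => hk z

/-- The covering map. -/
def σ : D.Cover →* D.G :=
  QuotientGroup.lift D.N (SemidirectProduct.lift D.toG0 (zpowersHom D.G D.gb) D.toG0_comm) (by
    rw [Dat.N, Subgroup.zpowers_le, MonoidHom.mem_ker]
    show D.toG0 (D.el (-(D.t : ℤ)) 0) * D.gb ^ (D.n : ℤ) = 1
    rw [toG0_el, zpow_neg, zpow_natCast, zpow_natCast, gb_pow, inv_mul_cancel])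

theorem σ_inK (i j : ℤ) : D.σ (D.inK (D.el i j)) = D.ga ^ i := by
  show SemidirectProduct.lift D.toG0 (zpowersHom D.G D.gb) D.toG0_comm (SemidirectProduct.inl (D.el i j)) = _
  rw [SemidirectProduct.lift_inl, toG0_el]

theorem σ_B : D.σ D.B = D.gb := by
  show SemidirectProduct.lift D.toG0 (zpowersHom D.G D.gb) D.toG0_comm
    (SemidirectProduct.inr (Multiplicative.ofAdd 1)) = _
  rw [SemidirectProduct.lift_inr]
  simp

theorem σ_surjective : Function.Surjective D.σ := by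
  rw [← MonoidHom.range_eq_top]
  refine top_unique ?_
  rw [← PresentedGroup.closure_range_of D.rels, Subgroup.closure_le]
  rintro _ ⟨b, rfl⟩
  cases b
  · exact ⟨D.B, D.σ_B⟩
  · exact ⟨D.inK (D.el 1 0), by rw [σ_inK, zpow_one]⟩

/-- The central element `w`. -/
def w : D.Cover := D.inK (D.el 0 1)

theorem w_mem_center : D.w ∈ Subgroup.center D.Cover := by
  rw [Subgroup.mem_center_iff]
  intro c
  obtain ⟨⟨z, k⟩, rfl⟩ := QuotientGroup.mk'_surjective D.N c
  show QuotientGroup.mk' D.N _ * QuotientGroup.mk' D.N _ = QuotientGroup.mk' D.N _ * QuotientGroup.mk' D.N _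
  rw [← map_mul, ← map_mul]
  refine congrArg _ (SemidirectProduct.ext ?_ ?_)
  · show z * D.φ k (D.el 0 1) = D.el 0 1 * D.φ 1 z
    rw [map_one, MulAut.one_apply, mul_comm]
    congr 1
    have h : D.aut ∈ MulAction.stabilizer (MulAut (Multiplicative D.K)) (D.el 0 1) := by
      show D.aut (D.el 0 1) = D.el 0 1
      rw [aut_el, mul_zero, mul_zero, add_zero]
    exact zpow_mem h _
  · exact mul_comm _ _

theorem σ_w : D.σ D.w = 1 := by rw [Dat.w, σ_inK, zpow_zero]

theorem ker_σ : D.σ.ker = Subgroup.zpowers D.w := by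
  refine le_antisymm ?_ (Subgroup.zpowers_le.mpr D.σ_w)
  have : (Subgroup.zpowers D.w).Normal := ⟨fun z hz c => by
    rw [Subgroup.mem_center_iff.mp ((Subgroup.zpowers_le.mpr D.w_mem_center) hz) c, mul_inv_cancel_right]
    exact hz⟩
  set q := QuotientGroup.mk' (Subgroup.zpowers D.w)
  have hmod : ∀ i j, q (D.inK (D.el i j)) = q (D.inK (D.el 1 0)) ^ i := by
    intro i j
    rw [← map_zpow, ← map_zpow, QuotientGroup.mk'_eq_mk']
    refine ⟨D.w ^ (-j), Subgroup.zpow_mem _ (Subgroup.mem_zpowers _) _, ?_⟩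
    rw [Dat.w, ← map_zpow, ← map_mul]
    congr 1
    show Multiplicative.ofAdd ((QuotientAddGroup.mk (i, j) : D.K) + (-j) • QuotientAddGroup.mk ((0 : ℤ), (1 : ℤ))) =
      Multiplicative.ofAdd (i • (QuotientAddGroup.mk ((1 : ℤ), (0 : ℤ)) : D.K))
    rw [← QuotientAddGroup.mk_zsmul, ← QuotientAddGroup.mk_zsmul, ← QuotientAddGroup.mk_add]
    simp
  let gens : Bool → D.Cover ⧸ Subgroup.zpowers D.w := fun b => bif b then q (D.inK (D.el 1 0)) else q D.B
  have hrel : ∀ R ∈ D.rels, FreeGroup.lift gens R = 1 := by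
    intro R hR
    simp only [Dat.rels, Set.mem_insert_iff, Set.mem_singleton_iff] at hR
    rcases hR with rfl | rfl | rfl
    · rw [map_pow, FreeGroup.lift_apply_of]
      show q (D.inK (D.el 1 0)) ^ D.m = 1
      rw [← zpow_natCast, ← hmod (D.m : ℤ) (-D.x),
        show D.el (D.m : ℤ) (-D.x) = 1 from D.el_eq_one_iff.mpr ⟨1, 0, by simp, by simp⟩, map_one, map_one]
    · rw [map_mul, map_inv, map_pow, map_pow, FreeGroup.lift_apply_of, FreeGroup.lift_apply_of]
      show q D.B ^ D.n * (q (D.inK (D.el 1 0)) ^ D.t)⁻¹ = 1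
      rw [← map_pow, B_pow_n, ← zpow_natCast, ← hmod, mul_inv_cancel]
    · rw [map_mul, map_inv, map_mul, map_mul, map_inv, map_pow, FreeGroup.lift_apply_of, FreeGroup.lift_apply_of]
      show q D.B * q (D.inK (D.el 1 0)) * (q D.B)⁻¹ * (q (D.inK (D.el 1 0)) ^ D.r)⁻¹ = 1
      rw [← map_mul, ← map_inv, ← map_mul, B_conj, mul_one, mul_one, zero_add, mul_inv_eq_one,
        ← zpow_natCast, ← hmod (D.r : ℤ) D.y]
  let ψ : D.G →* D.Cover ⧸ Subgroup.zpowers D.w := PresentedGroup.toGroup hrel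
  have hψa : ψ D.ga = q (D.inK (D.el 1 0)) := PresentedGroup.toGroup.of hrel
  have hψb : ψ D.gb = q D.B := PresentedGroup.toGroup.of hrel
  have hcomp : ψ.comp D.σ = q := by
    refine QuotientGroup.monoidHom_ext _ (SemidirectProduct.hom_ext ?_ ?_)
    · refine MonoidHom.ext fun z => ?_
      obtain ⟨v, rfl⟩ := Multiplicative.ofAdd.surjective z
      induction v using QuotientAddGroup.induction_on with
      | _ v =>
        obtain ⟨i, j⟩ := v
        show ψ (D.σ (D.inK (D.el i j))) = q (D.inK (D.el i j))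
        rw [σ_inK, map_zpow, hψa, ← hmod]
    · refine MonoidHom.ext_mint ?_
      show ψ (D.σ D.B) = q D.B
      rw [σ_B, hψb]
  intro c hc
  refine (QuotientGroup.eq_one_iff c).mp ?_
  show q c = 1
  rw [← hcomp, MonoidHom.comp_apply, MonoidHom.mem_ker.mp hc, map_one]

theorem ga_zpow_eq_one {i : ℤ} (h : D.ga ^ i = 1) : (D.m : ℤ) ∣ i := by
  have hk : D.inK (D.el i 0) ∈ D.σ.ker := by rw [MonoidHom.mem_ker, σ_inK, h]
  rw [ker_σ] at hk
  obtain ⟨k, hk⟩ := hk
  have hk' : D.inK (D.el 0 1 ^ k) = D.inK (D.el i 0) := by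
    rw [map_zpow]
    exact hk
  have h1 := D.inK_injective hk'
  have h2 : D.el i 0 * (D.el 0 1 ^ k)⁻¹ = 1 := by rw [h1, mul_inv_cancel]
  have h3 : D.el i 0 * (D.el 0 1 ^ k)⁻¹ = D.el i (-k) := by
    show Multiplicative.ofAdd ((QuotientAddGroup.mk (i, (0 : ℤ)) : D.K) + -(k • QuotientAddGroup.mk ((0 : ℤ), (1 : ℤ)))) = _
    rw [← QuotientAddGroup.mk_zsmul, ← QuotientAddGroup.mk_neg, ← QuotientAddGroup.mk_add]
    simp [Dat.el]
  rw [h3] at h2
  obtain ⟨p, q, hp, -⟩ := D.el_eq_one_iff.mp h2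
  exact ⟨p, by rw [hp, mul_comm]⟩

theorem isStemExtension_σ : Cfsg.IsStemExtension D.σ := by
  refine ⟨D.σ_surjective, ?_, ?_⟩
  · rw [ker_σ, Subgroup.zpowers_le]
    exact D.w_mem_center
  · rw [ker_σ, Subgroup.zpowers_le]
    have hc : ⁅D.B, D.inK (D.el 1 0)⁆ = D.inK (D.el ((D.d : ℤ) * D.e) D.y) := by
      rw [commutatorElement_def, B_conj, ← map_inv, ← map_mul, el_inv, el_mul,
        show (D.r : ℤ) = 1 + D.d * D.e by exact_mod_cast D.hr]
      congr 2 <;> ring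
    have h1 : ⁅D.B, D.inK (D.el 1 0)⁆ ∈ _root_.commutator D.Cover :=
      Subgroup.commutator_mem_commutator (Subgroup.mem_top _) (Subgroup.mem_top _)
    have h2 := pow_mem h1 D.f
    rw [hc, ← map_pow, el_pow] at h2
    have hmm : (D.m : ℤ) = D.d * D.f := by exact_mod_cast D.hm
    have heq : D.el ((D.f : ℤ) * (D.d * D.e)) (D.f * D.y) = D.el 0 1 :=
      congrArg Multiplicative.ofAdd (D.mk_eq_mk_of (-(D.e : ℤ)) 0
        (by show (0 : ℤ) - D.f * (D.d * D.e) = -(D.e : ℤ) * D.m; rw [hmm]; ring)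
        (by show (1 : ℤ) - D.f * D.y = -(-(D.e : ℤ) * D.x) + 0 * D.g; linear_combination -D.hxy))
    rw [heq] at h2
    exact h2

theorem nonempty_ker_equiv : Nonempty (D.σ.ker ≃* Multiplicative (ZMod D.g)) := by
  let f0 : ℤ →+ Additive D.Cover := zmultiplesHom _ (Additive.ofMul D.w)
  have h0 : f0 (D.g : ℤ) = 0 := by
    show (D.g : ℤ) • Additive.ofMul D.w = 0
    rw [← ofMul_zpow, zpow_natCast, Dat.w, ← map_pow, el_pow, mul_zero, mul_one,
      el_eq_one_of_dvd _ dvd_rfl, map_one]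
    rfl
  let F : Multiplicative (ZMod D.g) →* D.Cover := AddMonoidHom.toMultiplicativeLeft (ZMod.lift D.g ⟨f0, h0⟩)
  have hF : ∀ i : ℤ, F (Multiplicative.ofAdd (i : ZMod D.g)) = D.w ^ i := fun i => by
    show Additive.toMul (ZMod.lift D.g ⟨f0, h0⟩ (i : ZMod D.g)) = _
    rw [ZMod.lift_coe]
    rfl
  have hinj : Function.Injective F := by
    rw [injective_iff_map_eq_one]
    intro z hz
    obtain ⟨z, rfl⟩ := Multiplicative.ofAdd.surjective z
    obtain ⟨i, rfl⟩ := ZMod.intCast_surjective z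
    rw [hF, Dat.w, ← map_zpow, map_eq_one_iff _ D.inK_injective] at hz
    have h1 : D.el 0 1 ^ i = D.el 0 i := by
      show Multiplicative.ofAdd (i • (QuotientAddGroup.mk ((0 : ℤ), (1 : ℤ)) : D.K)) = _
      rw [← QuotientAddGroup.mk_zsmul]
      simp [Dat.el]
    rw [h1] at hz
    obtain ⟨p, q, hp, hq⟩ := D.el_eq_one_iff.mp hz
    have hm0 : (D.m : ℤ) ≠ 0 := by
      have : 0 < D.m := by rw [D.hm]; exact Nat.mul_pos D.hd D.hf
      exact_mod_cast this.ne'
    have hp0 : p = 0 := (mul_eq_zero.mp hp.symm).resolve_right hm0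
    rw [hp0, zero_mul, neg_zero, zero_add] at hq
    have h5 : ((i : ℤ) : ZMod D.g) = 0 := by
      rw [ZMod.intCast_zmod_eq_zero_iff_dvd, hq]
      exact dvd_mul_left _ _
    rw [h5]
    rfl
  have hrange : F.range = D.σ.ker := by
    rw [ker_σ]
    refine le_antisymm ?_ (Subgroup.zpowers_le.mpr ⟨Multiplicative.ofAdd ((1 : ℤ) : ZMod D.g), by rw [hF, zpow_one]⟩)
    rintro _ ⟨z, rfl⟩
    obtain ⟨z, rfl⟩ := Multiplicative.ofAdd.surjective z
    obtain ⟨i, rfl⟩ := ZMod.intCast_surjective z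
    rw [hF]
    exact Subgroup.zpow_mem _ (Subgroup.mem_zpowers _) _
  exact ⟨((MonoidHom.ofInjective hinj).trans (MulEquiv.subgroupCongr hrange)).symm⟩

/-- Every stem extension has kernel a quotient of `ZMod g`. -/
theorem upper (Δ : Type) [Group Δ] [Finite Δ] (τ : Δ →* D.G) (hτ : Cfsg.IsStemExtension τ)
    (hg : ∀ c : Δ, c ^ (D.f * D.d) = 1 → c ^ (∑ i ∈ Finset.range D.n, D.r ^ i) = 1 →
      c ^ D.t = 1 → (c ^ D.f) ^ D.g = 1) :
    ∃ π : Multiplicative (ZMod D.g) →* τ.ker, Function.Surjective π := by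
  have : Finite D.Cover := D.finite_cover
  have : Finite D.G := Finite.of_surjective D.σ D.σ_surjective
  obtain ⟨A, hA⟩ := hτ.1 D.ga
  obtain ⟨B', hB⟩ := hτ.1 D.gb
  have hcen := hτ.2.1
  have hgen : Subgroup.closure ({τ A, τ B'} : Set D.G) = ⊤ := by
    rw [hA, hB]
    refine top_unique ?_
    rw [← PresentedGroup.closure_range_of D.rels]
    refine Subgroup.closure_mono ?_
    rintro _ ⟨b, rfl⟩
    cases b <;> simp
  obtain ⟨z3, hz3⟩ : ∃ z, z = (A ^ D.r)⁻¹ * (B' * A * B'⁻¹) := ⟨_, rfl⟩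
  have hz3k : z3 ∈ τ.ker := by
    rw [MonoidHom.mem_ker, hz3, map_mul, map_inv, map_pow, map_mul, map_mul, map_inv, hA, hB, gb_conj,
      inv_mul_cancel]
  have hz3c : ∀ x, Commute x z3 := fun x => Subgroup.mem_center_iff.mp (hcen hz3k) x
  have hBA : B' * A * B'⁻¹ = A ^ D.r * z3 := by rw [hz3, mul_inv_cancel_left]
  obtain ⟨c, hc⟩ : ∃ c, c = ⁅B', A⁆ := ⟨_, rfl⟩
  have hcA : c = A ^ (D.d * D.e) * z3 := by
    rw [hc, commutatorElement_def, hBA, D.hr, mul_assoc, ← (hz3c A⁻¹).eq, ← mul_assoc, add_comm, pow_succ,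
      mul_inv_cancel_right]
  have hcA' : Commute A c := by
    rw [hcA]
    exact ((Commute.refl A).pow_right _).mul_right (hz3c A)
  have hBpow : ∀ k : ℕ, B' * A ^ k * B'⁻¹ = A ^ k * c ^ k := by
    intro k
    rw [← conj_pow, show B' * A * B'⁻¹ = A * c by
      rw [hBA, hcA, ← mul_assoc, ← pow_succ', D.hr, add_comm], hcA'.mul_pow]
  have hBc : B' * c * B'⁻¹ = c ^ D.r := by
    have hcomm : Commute c (c ^ (D.d * D.e)) := (Commute.refl c).pow_right _
    calc B' * c * B'⁻¹ = B' * A ^ (D.d * D.e) * B'⁻¹ * (B' * z3 * B'⁻¹) := by rw [hcA]; group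
      _ = A ^ (D.d * D.e) * c ^ (D.d * D.e) * z3 := by rw [hBpow, (hz3c B').eq, mul_inv_cancel_right]
      _ = (A ^ (D.d * D.e) * z3) * c ^ (D.d * D.e) := by
        rw [mul_assoc, (hz3c (c ^ (D.d * D.e))).eq, ← mul_assoc]
      _ = c ^ D.r := by rw [← hcA, ← pow_succ', D.hr, add_comm]
  have hle : _root_.commutator Δ ≤ Subgroup.zpowers c := by
    rw [hc] at hcA' hBc ⊢
    refine commutator_le_zpowers hcen hgen ?_ ?_
    · rw [hcA'.eq, mul_inv_cancel_right]
      exact Subgroup.mem_zpowers _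
    · rw [hBc]
      exact Subgroup.pow_mem _ (Subgroup.mem_zpowers _) _
  have hfix : ∀ k : ℕ, B' * A ^ k * B'⁻¹ = A ^ k → c ^ k = 1 := fun k hk => by
    rw [hBpow] at hk
    exact mul_eq_left.mp hk
  have hcm : c ^ (D.f * D.d) = 1 := by
    rw [mul_comm, ← D.hm]
    refine hfix _ ?_
    have : A ^ D.m ∈ τ.ker := by rw [MonoidHom.mem_ker, map_pow, hA, ga_pow]
    rw [Subgroup.mem_center_iff.mp (hcen this) B', mul_inv_cancel_right]
  obtain ⟨z2, hz2k, hz2⟩ : ∃ z ∈ τ.ker, B' ^ D.n = A ^ D.t * z :=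
    ⟨(A ^ D.t)⁻¹ * B' ^ D.n, by
      rw [MonoidHom.mem_ker, map_mul, map_inv, map_pow, map_pow, hA, hB, gb_pow, inv_mul_cancel],
      (mul_inv_cancel_left _ _).symm⟩
  have hz2c : ∀ x, Commute x z2 := fun x => Subgroup.mem_center_iff.mp (hcen hz2k) x
  have hct : c ^ D.t = 1 := by
    refine hfix _ ?_
    have h1 : A ^ D.t = B' ^ D.n * z2⁻¹ := by rw [hz2, mul_inv_cancel_right]
    have h2 : Commute B' (A ^ D.t) := h1 ▸ ((Commute.refl B').pow_right _).mul_right (hz2c B').inv_right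
    rw [h2.eq, mul_inv_cancel_right]
  have hiter : ∀ k : ℕ, B' ^ k * A * (B' ^ k)⁻¹ = A * c ^ (∑ i ∈ Finset.range k, D.r ^ i) := by
    intro k
    induction k with
    | zero => simp
    | succ k ih =>
      rw [show B' ^ (k + 1) * A * (B' ^ (k + 1))⁻¹ = B' * (B' ^ k * A * (B' ^ k)⁻¹) * B'⁻¹ by
        rw [pow_succ', mul_inv_rev]; group, ih,
        show B' * (A * c ^ (∑ i ∈ Finset.range k, D.r ^ i)) * B'⁻¹ =
          (B' * A ^ 1 * B'⁻¹) * (B' * c * B'⁻¹) ^ (∑ i ∈ Finset.range k, D.r ^ i) by rw [conj_pow, pow_one]; group,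
        hBpow, hBc, pow_one, pow_one, ← pow_mul, mul_assoc, ← pow_succ', geom_sum_succ]
  have hcN : c ^ (∑ i ∈ Finset.range D.n, D.r ^ i) = 1 := by
    have h1 := hiter D.n
    have h2 : Commute (B' ^ D.n) A := by
      rw [hz2]
      exact ((Commute.refl A).pow_left _).mul_left (hz2c A).symm
    rw [h2.eq, mul_inv_cancel_right] at h1
    exact left_eq_mul.mp h1
  refine exists_surjective_zmod_of_le_zpowers _ D.g (c := c ^ D.f) (fun z hz => ?_) (hg c hcm hcN hct)
  obtain ⟨i, hi⟩ := hle (hτ.2.2 hz)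
  have hi' : c ^ i = z := hi
  have h1 : τ c = D.ga ^ (D.d * D.e) := by
    rw [hcA, map_mul, map_pow, hA, MonoidHom.mem_ker.mp hz3k, mul_one]
  have h2 : D.ga ^ (((D.d * D.e : ℕ) : ℤ) * i) = 1 := by
    rw [zpow_mul, zpow_natCast, ← h1, ← map_zpow, hi']
    exact hz
  obtain ⟨v, hv⟩ := D.ga_zpow_eq_one h2
  have hv' : (D.e : ℤ) * i = D.f * v := by
    have hd0 : (D.d : ℤ) ≠ 0 := by exact_mod_cast D.hd.ne'
    refine mul_left_cancel₀ hd0 ?_
    rw [D.hm] at hv
    push_cast at hv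
    linarith
  refine ⟨v * D.x + i * D.y, ?_⟩
  show (c ^ D.f) ^ (v * D.x + i * D.y) = z
  rw [← hi', ← zpow_natCast c D.f, ← zpow_mul]
  congr 1
  linear_combination -D.x * hv' + i * D.hxy

end Dat

/-- Let `m, n ≥ 1`, `r ≥ 1` with `r ^ n ≡ 1 (mod m)`, and `l` a natural number; put `d = gcd(m, r - 1)`, `t = m l / d` and `h = d · gcd(m, 1 + r + ⋯ + r^(n-1)) / m`. The group presented by generators `a, b` and relations `a ^ m = 1`, `b ^ n = a ^ t`, `b a b⁻¹ = a ^ r` (a metacyclic group of order `m n`) has Schur multiplier cyclic of order `gcd(l, h)`. -/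
theorem result (m n r l : ℕ) (hm : 0 < m) (hn : 0 < n) (hr : 0 < r) (hrn : r ^ n ≡ 1 [MOD m]) : Cfsg.HasCyclicSchurMultiplier (PresentedGroup ({FreeGroup.of true ^ m, (FreeGroup.of false) ^ n * (FreeGroup.of true ^ (m * l / Nat.gcd m (r - 1)))⁻¹, FreeGroup.of false * FreeGroup.of true * (FreeGroup.of false)⁻¹ * (FreeGroup.of true ^ r)⁻¹} : Set (FreeGroup Bool))) (Nat.gcd l (Nat.gcd m (r - 1) * Nat.gcd m (∑ i ∈ Finset.range n, r ^ i) / m)) := by
  set d := Nat.gcd m (r - 1) with hd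
  have hd0 : 0 < d := Nat.gcd_pos_of_pos_left _ hm
  obtain ⟨f, hf⟩ := Nat.gcd_dvd_left m (r - 1)
  obtain ⟨e, he⟩ := Nat.gcd_dvd_right m (r - 1)
  rw [← hd] at hf he
  have hf0 : 0 < f := Nat.pos_of_ne_zero fun h => by rw [h, mul_zero] at hf; omega
  have hcop : Nat.Coprime e f := by
    refine Nat.Coprime.symm ?_
    have h1 : d * Nat.gcd f e = d := by rw [← Nat.gcd_mul_left, ← hf, ← he]
    exact (Nat.mul_eq_left hd0.ne').mp h1
  obtain ⟨x, y, hxy⟩ := (Nat.isCoprime_iff_coprime.mpr hcop : IsCoprime (e : ℤ) (f : ℤ))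
  set N := ∑ i ∈ Finset.range n, r ^ i with hN
  have hmN : m ∣ d * Nat.gcd m N := by
    rw [← Nat.gcd_mul_left]
    refine Nat.dvd_gcd (dvd_mul_left m d) ?_
    have h1 : m ∣ (r - 1) * N := by
      have h2 : (r - 1) * N = r ^ n - 1 := by
        have h3 := geom_sum_mul_of_one_le (R := ℕ) hr n
        rw [mul_comm]; exact h3
      rw [h2]
      exact (Nat.modEq_iff_dvd' (Nat.one_le_pow _ _ hr)).mp hrn.symm
    rw [hf]
    refine Nat.mul_dvd_mul_left d ?_
    rw [hf, he, mul_assoc] at h1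
    exact (Nat.Coprime.symm hcop).dvd_of_dvd_mul_left (Nat.dvd_of_mul_dvd_mul_left hd0 h1)
  obtain ⟨h, hh⟩ := hmN
  have hh0 : 0 < h := Nat.pos_of_ne_zero fun h0 => by
    rw [h0, mul_zero] at hh
    exact (Nat.mul_pos hd0 (Nat.gcd_pos_of_pos_left N hm)).ne' hh
  have hhdiv : d * Nat.gcd m N / m = h := by rw [hh, Nat.mul_div_cancel_left _ hm]
  have hhd : h ∣ d := by
    obtain ⟨k, hk⟩ := Nat.gcd_dvd_left m N
    refine ⟨k, Nat.eq_of_mul_eq_mul_left hm ?_⟩
    rw [← mul_assoc, ← hh, mul_assoc, ← hk, mul_comm]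
  have hfh : Nat.gcd m N = f * h := Nat.eq_of_mul_eq_mul_left hd0 (by rw [hh, hf, mul_assoc])
  have hg0 : 0 < Nat.gcd l h := Nat.gcd_pos_of_pos_right _ hh0
  let D : Dat :=
    { m := m, n := n, r := r, l := l, g := Nat.gcd l h, d := d, f := f, e := e, x := x, y := y
      hn := hn, hg := hg0, hf := hf0, hd := hd0, hm := hf, hr := by omega
      hxy := hxy, hgl := Nat.gcd_dvd_left _ _, hgd := (Nat.gcd_dvd_right l h).trans hhd
      hN := by
        obtain ⟨u, hu⟩ := Nat.gcd_dvd_right l h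
        obtain ⟨w, hw⟩ := Nat.gcd_dvd_right m N
        refine ⟨(u * w : ℕ), ?_⟩
        have : d * N = m * (Nat.gcd l h * (u * w)) := by
          calc d * N = d * Nat.gcd m N * w := by rw [mul_assoc, ← hw]
            _ = m * h * w := by rw [hh]
            _ = m * (Nat.gcd l h * (u * w)) := by rw [← mul_assoc (Nat.gcd l h), ← hu, mul_assoc]
        rw [hN] at this
        exact_mod_cast this }
  have ht : m * l / d = f * l := by rw [hf, mul_assoc, Nat.mul_div_cancel_left _ hd0]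
  rw [hhdiv, ht]
  show Cfsg.HasCyclicSchurMultiplier D.G D.g
  refine ⟨⟨D.Cover, inferInstance, D.finite_cover, D.σ, D.isStemExtension_σ, D.nonempty_ker_equiv⟩,
    fun Δ _ _ τ hτ => D.upper Δ τ hτ fun c hcm hcN hct => ?_⟩
  have h1 : (c ^ f) ^ h = 1 := by
    rw [← pow_mul, ← hfh]
    refine pow_gcd_eq_one.mpr ⟨?_, hcN⟩
    rw [hf, mul_comm]
    exact hcm
  have h2 : (c ^ f) ^ l = 1 := by rw [← pow_mul]; exact hct
  exact pow_gcd_eq_one.mpr ⟨h2, h1⟩

end Cfsg.Agent.S3967
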