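import Cfsg.Statements.S3968
import Mathlib
import Cfsg.Agent.Lib.CharInt.Burnside
import Cfsg.Agent.Lib.Char.PRegular
import Cfsg.Agent.Lib.Char.Linear
import Cfsg.Agent.Lib.PGroup.Basic

set_option autoImplicit false
open Cfsg

namespace Cfsg.Agent.S3968

/-- Let `p` be a prime and `G` a finite group with a faithful irreducible complex character of degree `p` (so `G` is an irreducible linear group in `p` variables). If `p ^ 2` divides the order of `G`, then the centre of `G` is nontrivial. -/
theorem result {G : Type*} [Group G] [Finite G] (p : ℕ) (hp : p.Prime) (χ : Cfsg.IrrCharacter G) (hdeg : χ.1 1 = p) (hfaith : ∀ g : G, χ.1 g = χ.1 1 → g = 1) (hdiv : p ^ 2 ∣ Nat.card G) : Subgroup.center G ≠ ⊥ := by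
  intro hZ
  classical
  have := Fact.mk hp
  have : Fintype G := Fintype.ofFinite G
  obtain ⟨P⟩ : Nonempty (Sylow p G) := inferInstance
  obtain ⟨k, hk⟩ := P.2.exists_card_eq
  have hk2 : 2 ≤ k := by
    obtain ⟨Q, hQ⟩ := Sylow.exists_subgroup_card_pow_prime p hdiv
    obtain ⟨R, hR⟩ := (IsPGroup.of_card hQ).exists_le_sylow
    have h1 := Subgroup.card_dvd_of_le hR
    rw [hQ, R.card_eq_multiplicity, ← P.card_eq_multiplicity, hk] at h1
    exact (Nat.pow_dvd_pow_iff_le_right hp.one_lt).mp h1
  have hχc : Cfsg.IsCharacter G χ.1 := CharInt.isCharacter_of_isIrr χ.2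
  obtain ⟨n, ρ, hρ, hρχ⟩ := id χ.2
  have hn : (n : ℂ) = p := by
    rw [← hdeg, ← hρχ, ρ.char_one, Module.finrank_fin_fun]
  have hn' : n = p := by exact_mod_cast hn
  have hfaith' : ∀ g, ρ g = 1 → g = 1 := fun g hg => hfaith g (by
    rw [← hρχ]; simp [Representation.character, hg])
  have hcen : ∀ g, ‖χ.1 g‖ = ‖χ.1 1‖ → g = 1 := fun g hg => by
    rw [← hρχ] at hg
    obtain ⟨c, hc⟩ := (CharInt.norm_eq_iff_scalar ρ g).1 hg
    refine Subgroup.mem_bot.mp (hZ ▸ Subgroup.mem_center_iff.2 fun x => ?_)
    refine mul_inv_eq_one.1 (hfaith' _ ?_)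
    rw [map_mul, map_mul, hc, mul_smul_comm, mul_one]
    rw [show c • ρ x = ρ (g * x) by rw [map_mul, hc, smul_mul_assoc, one_mul], ← map_mul,
      mul_inv_cancel, map_one]
  have hvan : ∀ z : ↥(P : Subgroup G), z ∈ Subgroup.center ↥(P : Subgroup G) → z ≠ 1 →
      χ.1 z = 0 := by
    intro z hz hz1
    have hle : (P : Subgroup G) ≤ Subgroup.centralizer ({(z : G)} : Set G) := fun x hx =>
      Subgroup.mem_centralizer_singleton_iff.mpr
        (congrArg Subtype.val (Subgroup.mem_center_iff.mp hz ⟨x, hx⟩))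
    have := hρ
    rcases CharInt.character_eq_zero_or_norm_eq ρ (z : G) (by
      rw [CharInt.natCard_isConj, Module.finrank_fin_fun, hn']
      exact (hp.coprime_iff_not_dvd.2 fun h => P.not_dvd_index (h.trans (Subgroup.index_dvd_of_le hle))))
      with h | h
    · rwa [← hρχ]
    · exfalso
      refine hz1 (Subtype.ext (hcen _ ?_))
      rw [← hρχ, h, ρ.char_one, Complex.norm_natCast]
  have hres : Cfsg.IsCharacter ↥(P : Subgroup G) (χ.1 ∘ (P : Subgroup G).subtype) :=
    Char.IsCharacter.comp hχc _
  by_cases hcomm : ∀ a b : ↥(P : Subgroup G), a * b = b * a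
  · obtain ⟨m, hm⟩ := Char.IsCharacter.exists_nat_classInner hres
      (Char.irr_isCharacter (Char.trivialChar ↥(P : Subgroup G)))
    rw [classInner, Finset.sum_eq_single (1 : ↥(P : Subgroup G))] at hm
    · rw [Char.trivialChar_apply, map_one, mul_one, Function.comp_apply, Subgroup.subtype_apply,
        OneMemClass.coe_one, hdeg, hk] at hm
      have h1 : (p : ℂ) = ((p ^ k * m : ℕ) : ℂ) := by
        have h0 : ((p ^ k : ℕ) : ℂ) ≠ 0 := Nat.cast_ne_zero.2 (pow_ne_zero _ hp.ne_zero)
        rw [Nat.cast_mul, ← hm, mul_inv_cancel_left₀ h0]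
      have h2 : p ^ k ∣ p ^ 1 := by
        rw [pow_one]
        exact Dvd.intro m (by exact_mod_cast h1.symm)
      have := (Nat.pow_dvd_pow_iff_le_right hp.one_lt).mp h2
      omega
    · intro g _ hg
      rw [Function.comp_apply, Subgroup.subtype_apply,
        hvan g (Subgroup.mem_center_iff.mpr fun x => hcomm x g) hg, zero_mul]
    · simp
  · have hne : _root_.commutator ↥(P : Subgroup G) ≠ ⊥ := fun h => hcomm fun a b => by
      have h1 := Subgroup.commutator_mem_commutator (Subgroup.mem_top a) (Subgroup.mem_top b)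
      rw [← commutator_def, h, Subgroup.mem_bot] at h1
      exact commutatorElement_eq_one_iff_mul_comm.mp h1
    obtain ⟨z, hz, hz1⟩ := SetLike.exists_of_lt (bot_lt_iff_ne_bot.mpr
      (PGroup.inf_center_ne_bot P.2 _ hne))
    rw [Subgroup.mem_bot] at hz1
    have h0 := hvan z (Subgroup.mem_inf.mp hz).2 hz1
    have hzc : z ∈ _root_.commutator ↥(P : Subgroup G) := (Subgroup.mem_inf.mp hz).1
    obtain ⟨m, hm, -⟩ := Char.IsCharacter.exists_decomp hres
    have happ : ∀ g : ↥(P : Subgroup G), χ.1 g = ∑ ψ, (m ψ : ℂ) * ψ.1 g := fun g => by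
      have h1 := congrFun hm g
      simpa using h1
    have hsum : p = ∑ ψ, m ψ * Char.degree ψ := by
      have h1 := happ 1
      rw [OneMemClass.coe_one, hdeg] at h1
      simp only [Char.apply_one_eq_degree] at h1
      exact_mod_cast h1
    by_cases hall : ∀ ψ, m ψ ≠ 0 → Char.degree ψ = 1
    · have hz' : χ.1 (z : G) = (p : ℂ) := by
        rw [happ, ← hdeg, ← OneMemClass.coe_one (P : Subgroup G), happ]
        refine Finset.sum_congr rfl fun ψ _ => ?_
        by_cases h : m ψ = 0
        · rw [h]; simp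
        obtain ⟨lam, hlam⟩ := Char.IsCharacter.exists_monoidHom (Char.irr_isCharacter ψ)
          (by rw [Char.apply_one_eq_degree, hall ψ h, Nat.cast_one])
        rw [← congrFun hlam z, ← congrFun hlam 1, map_one]
        have : MonoidHom.toHomUnits lam z = 1 := MonoidHom.mem_ker.mp
          (Abelianization.commutator_subset_ker (MonoidHom.toHomUnits lam) hzc)
        rw [show lam z = 1 from congrArg Units.val this]
      rw [h0] at hz'
      exact hp.ne_zero (by exact_mod_cast hz'.symm)
    · push Not at hall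
      obtain ⟨ψ, hψm, hψd⟩ := hall
      obtain ⟨j, -, hj⟩ := (Nat.dvd_prime_pow hp).mp (hk ▸ Char.degree_dvd_natCard ψ)
      have hj1 : 1 ≤ j := by
        by_contra hh
        exact hψd (by rw [hj, show j = 0 by omega, pow_zero])
      have hle : m ψ * Char.degree ψ ≤ p := by
        conv_rhs => rw [hsum]
        exact Finset.single_le_sum (f := fun φ => m φ * Char.degree φ) (fun _ _ => Nat.zero_le _) (Finset.mem_univ ψ)
      have hpd : p ≤ Char.degree ψ := by
        rw [hj]
        exact Nat.le_self_pow (by omega) p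
      have hm1 : m ψ = 1 ∧ Char.degree ψ = p := by
        have : m ψ * p ≤ p := (Nat.mul_le_mul_left _ hpd).trans hle
        have h1 : m ψ ≤ 1 := by
          by_contra hh
          have := Nat.mul_le_mul_right p (show 2 ≤ m ψ by omega)
          have := hp.pos
          omega
        have h2 : m ψ = 1 := by omega
        rw [h2, one_mul] at hle
        exact ⟨h2, by omega⟩
      obtain ⟨hm1, hd⟩ := hm1
      have hothers : ∀ φ, φ ≠ ψ → m φ = 0 := by
        intro φ hφ
        have h1 := Finset.sum_le_sum_of_subset (f := fun φ => m φ * Char.degree φ)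
          (Finset.subset_univ {ψ, φ})
        rw [← hsum, Finset.sum_pair hφ.symm, hm1, hd] at h1
        have h2 : m φ * Char.degree φ = 0 := by omega
        refine (Nat.mul_eq_zero.mp h2).resolve_right fun h => ?_
        have := Char.degree_dvd_natCard φ
        rw [h, zero_dvd_iff] at this
        exact Nat.card_pos.ne' this
      have hψz : χ.1 (z : G) = ψ.1 z := by
        rw [happ, Finset.sum_eq_single ψ (fun φ _ h => by rw [hothers φ h]; simp) (by simp), hm1]
        simp
      obtain ⟨n', σ, hσ, hσψ⟩ := ψ.2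
      obtain ⟨c, hc⟩ := CharInt.exists_smul_one_of_mem_center σ (z := z) (Subgroup.mem_inf.mp hz).2
      have hnorm : ‖σ.character z‖ = ‖σ.character 1‖ := (CharInt.norm_eq_iff_scalar σ z).2 ⟨c, hc⟩
      rw [hσψ, ← hψz, h0, norm_zero, Char.apply_one_eq_degree, hd, Complex.norm_natCast] at hnorm
      exact hp.ne_zero (by exact_mod_cast hnorm.symm)

end Cfsg.Agent.S3968
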