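import Cfsg.Statements.S3969
import Cfsg.Prelude.Def_Transfer
import Mathlib

set_option autoImplicit false
open Cfsg

namespace Cfsg.Agent.S3969

open Subgroup in
/-- Burnside's criterion in terms of the number of generators of an abelian Sylow subgroup. -/
theorem hasNormalPComplement_of_rank {G : Type*} [Group G] [Finite G] {p : ℕ} [Fact p.Prime]
    (P : Sylow p G) [IsMulCommutative (P : Subgroup G)]
    (h : ∀ q : ℕ, q.Prime → q ≠ p → q ∣ Nat.card G → ∀ i, 1 ≤ i → i ≤ Group.rank (P : Subgroup G) →
      ¬ q ∣ p ^ i - 1) : Cfsg.HasNormalPComplement p G := by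
  suffices hNC : normalizer ((P : Subgroup G) : Set G) ≤ centralizer ((P : Subgroup G) : Set G) from
    ⟨P, _, MonoidHom.normal_ker _, MonoidHom.ker_transferSylow_isComplement' P hNC⟩
  have hp : p.Prime := Fact.out
  set f := (P : Subgroup G).normalizerMonoidHom with hf
  suffices hr : Nat.card f.range = 1 by
    intro x hx
    have h1 : f ⟨x, hx⟩ = 1 := mem_bot.1 ((card_eq_one.1 hr) ▸ ⟨⟨x, hx⟩, rfl⟩)
    have h2 : (⟨x, hx⟩ : normalizer ((P : Subgroup G) : Set G)) ∈ f.ker := h1
    rw [hf, normalizerMonoidHom_ker] at h2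
    exact h2
  by_contra hne
  obtain ⟨q, hq, hqd⟩ := Nat.exists_prime_and_dvd hne
  have hPker : (P : Subgroup G).subgroupOf (normalizer ((P : Subgroup G) : Set G)) ≤ f.ker := by
    rw [hf, normalizerMonoidHom_ker]
    exact fun x hx => le_centralizer (P : Subgroup G) hx
  have hqp : q ≠ p := by
    rintro rfl
    have h1 : f.ker.index ∣ (P : Subgroup G).index :=
      ((index_dvd_of_le hPker)).trans (relIndex_dvd_index_of_le le_normalizer)
    exact P.not_dvd_index (((Subgroup.index_ker f).symm ▸ hqd).trans h1)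
  have hqG : q ∣ Nat.card G :=
    hqd.trans ((card_range_dvd f).trans (card_subgroup_dvd_card _))
  haveI := Fact.mk hq
  obtain ⟨a, ha⟩ := exists_prime_orderOf_dvd_card' q hqd
  set φ : MulAut (P : Subgroup G) := (a : MulAut (P : Subgroup G)) with hφ
  have hφq : orderOf φ = q := by rw [hφ, Subgroup.orderOf_coe, ha]
  letI : CommGroup ↥(P : Subgroup G) := { (P : Subgroup G).toGroup with mul_comm := IsMulCommutative.is_comm.comm }
  obtain ⟨k, hk⟩ := P.2.exists_card_eq
  let E : Subgroup ↥(P : Subgroup G) := (powMonoidHom p : ↥(P : Subgroup G) →* ↥(P : Subgroup G)).ker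
  have hmemE : ∀ x, x ∈ E ↔ x ^ p = 1 := fun x => Iff.rfl
  -- the size of `E`
  obtain ⟨r, hr, hrd⟩ : ∃ r, Nat.card E = p ^ r ∧ r ≤ Group.rank ↥(P : Subgroup G) := by
    obtain ⟨r, -, hr⟩ := (Nat.dvd_prime_pow hp).mp (hk ▸ card_subgroup_dvd_card E)
    refine ⟨r, hr, ?_⟩
    let R := (powMonoidHom p : ↥(P : Subgroup G) →* ↥(P : Subgroup G)).range
    have hEq : Nat.card E = Nat.card (↥(P : Subgroup G) ⧸ R) := by
      rw [← index_eq_card, ← Nat.mul_left_inj (a := Nat.card R) Nat.card_pos.ne', index_mul_card]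
      conv_rhs => rw [← card_mul_index E, index_ker]
    have hexp : ∀ g : ↥(P : Subgroup G) ⧸ R, g ^ p = 1 := fun g => by
      obtain ⟨g, rfl⟩ := QuotientGroup.mk_surjective g
      rw [← QuotientGroup.mk_pow]
      exact (QuotientGroup.eq_one_iff _).mpr ⟨g, rfl⟩
    have h1 := card_dvd_exponent_pow_rank' (↥(P : Subgroup G) ⧸ R) hexp
    rw [← hEq, hr] at h1
    exact ((Nat.pow_dvd_pow_iff_le_right hp.one_lt).mp h1).trans
      (Group.rank_le_of_surjective (QuotientGroup.mk' R) (QuotientGroup.mk'_surjective R))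
  -- fixed points of `φ` on `E`
  let A : Subgroup (MulAut (P : Subgroup G)) := zpowers φ
  have hA : IsPGroup q A := IsPGroup.of_card (n := 1) (by rw [pow_one, Nat.card_zpowers, hφq])
  let act : MulAction A E :=
    { smul := fun b e => ⟨(b : MulAut (P : Subgroup G)) e, by
        rw [hmemE, ← map_pow, (hmemE _).mp e.2, map_one]⟩
      one_smul := fun e => rfl
      mul_smul := fun b c e => rfl }
  let F : Subgroup ↥(P : Subgroup G) := E ⊓ φ.toMonoidHom.eqLocus (MonoidHom.id _)
  have hfix : Nat.card (MulAction.fixedPoints A E) = Nat.card F := by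
    refine Nat.card_congr
      { toFun := fun x => ⟨x.1.1, mem_inf.mpr ⟨x.1.2, congrArg Subtype.val (x.2 ⟨φ, mem_zpowers φ⟩)⟩⟩
        invFun := fun x => ⟨⟨x.1, (mem_inf.mp x.2).1⟩, fun b => Subtype.ext ?_⟩
        left_inv := fun x => rfl
        right_inv := fun x => rfl }
    have hb : (b : MulAut (P : Subgroup G)) ∈ MulAction.stabilizer (MulAut (P : Subgroup G)) x.1 :=
      (zpowers_le.2 (show φ ∈ MulAction.stabilizer (MulAut (P : Subgroup G)) x.1 from (mem_inf.mp x.2).2)) b.2
    exact hb
  have hmod := hA.card_modEq_card_fixedPoints E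
  obtain ⟨j, hjr, hj⟩ := (Nat.dvd_prime_pow hp).mp (hr ▸ card_dvd_of_le (show F ≤ E from inf_le_left))
  rw [hfix, hr, hj] at hmod
  have hjlt : j < r := by
    refine lt_of_le_of_ne hjr fun hjr' => ?_
    have hFE : F = E := eq_of_le_of_card_ge inf_le_left (by rw [hr, hj, hjr'])
    have hfixE : ∀ y, y ∈ E → φ y = y := fun y hy => (mem_inf.mp (hFE.symm ▸ hy)).2
    have hall : ∀ e, ∀ x : ↥(P : Subgroup G), x ^ p ^ e = 1 → φ x = x := by
      intro e
      induction e with
      | zero =>
        intro x hx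
        rw [pow_zero, pow_one] at hx
        rw [hx, map_one]
      | succ e ih =>
        intro x hx
        obtain ⟨y, hy⟩ : ∃ y, y = x⁻¹ * φ x := ⟨_, rfl⟩
        have hyE : y ^ p = 1 := by
          rw [hy, mul_pow, inv_pow, ← map_pow, ih _ (by rw [← pow_mul, ← pow_succ']; exact hx),
            inv_mul_cancel]
        have hpow : ∀ n : ℕ, (φ ^ n) x = x * y ^ n := by
          intro n
          induction n with
          | zero => simp
          | succ n ihn =>
            rw [pow_succ', MulAut.mul_apply, ihn, map_mul, map_pow, hfixE y hyE,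
              show φ x = x * y by rw [hy, mul_inv_cancel_left], mul_assoc, ← pow_succ']
        have hyq : y ^ q = 1 := by
          have := hpow q
          rw [← hφq, pow_orderOf_eq_one, MulAut.one_apply, hφq] at this
          exact mul_eq_left.mp this.symm
        have hy1 : y = 1 := by
          have hd := Nat.dvd_gcd (orderOf_dvd_of_pow_eq_one hyq) (orderOf_dvd_of_pow_eq_one hyE)
          rwa [(Nat.coprime_primes hq hp).mpr hqp, Nat.dvd_one, orderOf_eq_one_iff] at hd
        rw [hy, inv_mul_eq_one] at hy1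
        exact hy1.symm
    have h1 : φ = 1 := MulEquiv.ext fun x => hall k x (by rw [← hk]; exact pow_card_eq_one')
    rw [h1, orderOf_one] at hφq
    exact hq.one_lt.ne hφq
  refine h q hq hqp hqG (r - j) (by omega) (le_trans (Nat.sub_le _ _) hrd) ?_
  have h1 : q ∣ p ^ r - p ^ j := (Nat.modEq_iff_dvd' (Nat.pow_le_pow_right hp.pos hjr)).1 hmod.symm
  rw [show p ^ r - p ^ j = p ^ j * (p ^ (r - j) - 1) by
    rw [Nat.mul_sub_one, ← pow_add, Nat.add_sub_cancel' hjr]] at h1
  exact (Nat.Coprime.dvd_of_dvd_mul_left (Nat.Coprime.pow_right j ((Nat.coprime_primes hq hp).mpr hqp)) h1)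

/-- Let `P` be an abelian Sylow `p`-subgroup of the finite group `G`, generated by `d` elements (`d` its minimal number of generators). If the order of `G` is coprime to `(p - 1)(p ^ 2 - 1) ⋯ (p ^ d - 1)`, then `G` has a normal `p`-complement. (The classical statement needs only the largest number of cyclic factors of `P` of equal order in place of `d`; the form here follows from it.) -/
theorem result {G : Type*} [Group G] [Finite G] (p : ℕ) [Fact p.Prime] (P : Sylow p G) (hab : IsMulCommutative (P : Subgroup G)) (hcop : Nat.Coprime (Nat.card G) (∏ i ∈ Finset.Icc 1 (Group.rank (P : Subgroup G)), (p ^ i - 1))) : Cfsg.HasNormalPComplement p G := by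
  have := hab
  refine hasNormalPComplement_of_rank P fun q hq _ hqG i hi1 hid hdvd => hq.not_dvd_one ?_
  rw [← hcop.gcd_eq_one]
  exact Nat.dvd_gcd hqG (hdvd.trans (Finset.dvd_prod_of_mem _ (Finset.mem_Icc.mpr ⟨hi1, hid⟩)))

end Cfsg.Agent.S3969
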