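import Cfsg.Statements.S3970
import Cfsg.Agent.S3969
import Mathlib

set_option autoImplicit false
open Cfsg

namespace Cfsg.Agent.S3970

universe u

/-- The inductive form. -/
theorem solvable (n : ℕ) : ∀ {G : Type u} [Group G] [Finite G], Nat.card G = n →
    (∀ p : ℕ, p.Prime → p ∣ Nat.card G → (∃ q : ℕ, q.Prime ∧ q ∣ Nat.card G ∧ p < q) →
      ∀ P : Sylow p G, IsMulCommutative (P : Subgroup G) ∧ Group.rank (P : Subgroup G) ≤ 2) →
    ¬ 12 ∣ Nat.card G → Group.IsSolvable G := by
  induction n using Nat.strong_induction_on with
  | _ n ih =>
    intro G _ _ hn h h12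
    rcases eq_or_ne (Nat.card G) 1 with h1 | h1
    · have := (Nat.card_eq_one_iff_unique.mp h1).1
      infer_instance
    set p := (Nat.card G).minFac with hpdef
    have hp : p.Prime := Nat.minFac_prime h1
    have := Fact.mk hp
    by_cases hq : ∃ q : ℕ, q.Prime ∧ q ∣ Nat.card G ∧ p < q
    · obtain ⟨q, hq, hqG, hpq⟩ := hq
      obtain ⟨P⟩ : Nonempty (Sylow p G) := inferInstance
      obtain ⟨hab, hrk⟩ := h p hp (Nat.minFac_dvd _) ⟨q, hq, hqG, hpq⟩ P
      have hN : Cfsg.HasNormalPComplement p G := by
        refine S3969.hasNormalPComplement_of_rank P fun r hr hrp hrG i hi1 hid hdvd => ?_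
        have hpr : p < r := lt_of_le_of_ne (Nat.minFac_le_of_dvd hr.two_le hrG) (Ne.symm hrp)
        have hi : i = 1 ∨ i = 2 := by omega
        rcases hi with rfl | rfl
        · rw [pow_one] at hdvd
          have := Nat.le_of_dvd (by have := hp.two_le; omega) hdvd
          omega
        · rw [show p ^ 2 - 1 = (p + 1) * (p - 1) by
            simpa [sq] using (Nat.sq_sub_sq p 1)] at hdvd
          rcases hr.dvd_mul.mp hdvd with h2 | h2
          · have hle := Nat.le_of_dvd (Nat.succ_pos p) h2
            have hreq : r = p + 1 := by omega
            have hp2 : p = 2 := by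
              by_contra hne
              obtain ⟨t, ht⟩ := hp.odd_of_ne_two hne
              exact Nat.prime_def_lt'.mp hr |>.2 2 (by omega) (by have := hp.two_le; omega) ⟨t + 1, by omega⟩
            have h4 : ¬ 4 ∣ Nat.card G := fun h4 => h12 (Nat.Coprime.mul_dvd_of_dvd_of_dvd
              (by norm_num : Nat.Coprime 4 3) h4 (by rw [show 3 = r by omega]; exact hrG))
            obtain ⟨k, hk⟩ := P.2.exists_card_eq
            have hk1 : k ≤ 1 := by
              by_contra hh
              have h5 : p ^ 2 ∣ Nat.card G :=
                (pow_dvd_pow p (show 2 ≤ k by omega)).trans (hk ▸ Subgroup.card_subgroup_dvd_card (P : Subgroup G))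
              rw [hp2] at h5
              exact h4 h5
            have : IsCyclic (P : Subgroup G) := by
              interval_cases k
              · have := (Nat.card_eq_one_iff_unique.mp (by rw [hk, pow_zero])).1
                infer_instance
              · exact isCyclic_of_prime_card (p := p) (by rw [hk, pow_one])
            obtain ⟨g, hg⟩ := IsCyclic.exists_generator (α := (P : Subgroup G))
            have hr1 : Group.rank (P : Subgroup G) ≤ 1 := by
              classical
              refine (Group.rank_le (S := {g}) ?_).trans (by simp)
              rw [Finset.coe_singleton, ← Subgroup.zpowers_eq_closure]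
              exact top_unique fun x _ => hg x
            omega
          · have := Nat.le_of_dvd (by have := hp.two_le; omega) h2
            omega
      obtain ⟨P', N, hNn, hc⟩ := hN
      have hcard : Nat.card N * Nat.card (P' : Subgroup G) = Nat.card G := hc.card_mul
      obtain ⟨k, hk⟩ := P'.2.exists_card_eq
      have hk0 : k ≠ 0 := fun h0 => P'.ne_bot_of_dvd_card (Nat.minFac_dvd _)
        (Subgroup.card_eq_one.mp (by rw [hk, h0, pow_zero]))
      have hlt : Nat.card N < n := by
        rw [← hn, ← hcard]
        exact lt_mul_of_one_lt_right Nat.card_pos (hk ▸ Nat.one_lt_pow hk0 hp.one_lt)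
      have hNp : ∀ r : ℕ, r.Prime → r ∣ Nat.card N → r ≠ p := by
        rintro r hr hrN rfl
        refine P'.not_dvd_index ?_
        rwa [hc.index_eq_card]
      have hNsol : Group.IsSolvable N := by
        refine ih _ hlt rfl (fun r hr hrN hbig R => ?_) fun h' => h12 (h'.trans (Subgroup.card_subgroup_dvd_card N))
        have := Fact.mk hr
        obtain ⟨s, hs, hsN, hrs⟩ := hbig
        -- the image of a Sylow subgroup of `N` is one of `G`
        have hRG : IsPGroup r ((R : Subgroup N).map N.subtype) := R.2.map N.subtype
        obtain ⟨S, hS⟩ := hRG.exists_le_sylow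
        have hRS : (R : Subgroup N).map N.subtype = S := by
          refine Subgroup.eq_of_le_of_card_ge hS (le_of_eq ?_)
          rw [Subgroup.card_map_of_injective N.subtype_injective, R.card_eq_multiplicity,
            S.card_eq_multiplicity, ← hcard, Nat.factorization_mul Nat.card_pos.ne' Nat.card_pos.ne', hk,
            Finsupp.add_apply, Nat.factorization_pow, Finsupp.smul_apply,
            hp.factorization, Finsupp.single_eq_of_ne (hNp r hr hrN), smul_zero, add_zero]
        obtain ⟨hSab, hSrk⟩ := h r hr (hrN.trans (Subgroup.card_subgroup_dvd_card N))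
          ⟨s, hs, hsN.trans (Subgroup.card_subgroup_dvd_card N), hrs⟩ S
        let e : (R : Subgroup N) ≃* (S : Subgroup G) :=
          ((R : Subgroup N).equivMapOfInjective N.subtype N.subtype_injective).trans (MulEquiv.subgroupCongr hRS)
        refine ⟨⟨⟨fun a b => e.injective ?_⟩⟩, ?_⟩
        · rw [map_mul, map_mul]
          exact hSab.is_comm.comm _ _
        · exact (Group.rank_congr e).le.trans hSrk
      have hQ : Group.IsSolvable (G ⧸ N) := by
        have : IsPGroup p (G ⧸ N) := IsPGroup.of_card (n := k) (by
          rw [← Subgroup.index_eq_card, hc.symm.index_eq_card, hk])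
        have := this.isNilpotent
        infer_instance
      exact Group.isSolvable_of_ker_le_range N.subtype (QuotientGroup.mk' N)
        (by rw [QuotientGroup.ker_mk', Subgroup.range_subtype])
    · push Not at hq
      have hP : IsPGroup p G := by
        refine IsPGroup.of_card (n := (Nat.card G).primeFactorsList.length) ?_
        refine Nat.eq_prime_pow_of_unique_prime_dvd Nat.card_pos.ne' fun {d} hd hdG => ?_
        exact le_antisymm (hq d hd hdG) (Nat.minFac_le_of_dvd hd.two_le hdG)
      have := hP.isNilpotent
      infer_instance

/-- Let `G` be a finite group such that for every prime `p` dividing its order, other than the largest such prime, the Sylow `p`-subgroups are abelian and generated by at most two elements, and suppose `12` does not divide the order of `G`. Then `G` is solvable. In particular a group of cube-free order not divisible by `12` is solvable. -/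
theorem result {G : Type*} [Group G] [Finite G] (h : ∀ p : ℕ, p.Prime → p ∣ Nat.card G → (∃ q : ℕ, q.Prime ∧ q ∣ Nat.card G ∧ p < q) → ∀ P : Sylow p G, IsMulCommutative (P : Subgroup G) ∧ Group.rank (P : Subgroup G) ≤ 2) (h12 : ¬ 12 ∣ Nat.card G) : Group.IsSolvable G := by
  exact solvable _ rfl h h12

end Cfsg.Agent.S3970
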