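import Cfsg.Statements.S3971
import Cfsg.Agent.Lib.Transfer.Frobenius
import Cfsg.Agent.Lib.Coprime.Commutator
import Cfsg.Agent.Lib.PGroup.Frattini
import Mathlib

set_option autoImplicit false
open Cfsg

namespace Cfsg.Agent.S3971

/-- Let `G` be a finite group of order `2 ^ a * n` with `n` odd and not divisible by `3`, and suppose `G` has an element of order `2 ^ (a - 1)` (so a Sylow `2`-subgroup has a cyclic subgroup of index at most `2`). Then `G` has a normal subgroup of order `n`. -/
theorem result {G : Type*} [Group G] [Finite G] (a n : ℕ) (hG : Nat.card G = 2 ^ a * n) (hn : Odd n) (h3 : ¬ 3 ∣ n) (hx : ∃ x : G, orderOf x = 2 ^ (a - 1)) : ∃ N : Subgroup G, N.Normal ∧ Nat.card N = n := by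
  have : Fact (Nat.Prime 2) := ⟨Nat.prime_two⟩
  obtain ⟨x, hx⟩ := hx
  obtain ⟨P, hP⟩ := (IsPGroup.of_card (show Nat.card ↥(Subgroup.zpowers x) = 2 ^ (a - 1) by
    rw [Nat.card_zpowers, hx])).exists_le_sylow
  have hn2 : ¬ 2 ∣ n := fun h => (Nat.not_even_iff_odd.mpr hn) (even_iff_two_dvd.mpr h)
  obtain ⟨e, he⟩ := P.2.exists_card_eq
  have hPcard : Nat.card ↥(P : Subgroup G) = 2 ^ a := by
    have h1 := P.card_eq_multiplicity
    rw [h1, hG]
    congr 1
    rw [Nat.factorization_mul (pow_ne_zero a two_ne_zero) (fun h => hn2 (by rw [h]; exact dvd_zero 2)), Finsupp.add_apply,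
      Nat.factorization_eq_zero_of_not_dvd hn2, add_zero, Nat.factorization_pow, Finsupp.smul_apply,
      Nat.prime_two.factorization_self, smul_eq_mul, mul_one]
  obtain ⟨P', N, hNn, hc⟩ : Cfsg.HasNormalPComplement 2 G := by
    refine Agent.Transfer.hasNormalPComplement_of_centralizer P fun Q hQP g hg hco => ?_
    have hQ : IsPGroup 2 ↥Q := P.2.to_le hQP
    set Φ := frattini ↥Q
    -- `Q` is generated by two elements
    have hbound : Nat.card (↥Q ⧸ Φ) ≤ 4 := by
      classical
      set C := (Subgroup.zpowers x).subgroupOf Q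
      have hCc : IsCyclic ↥C := isCyclic_of_injective
        ((Q.subtype.comp C.subtype).codRestrict (Subgroup.zpowers x) fun c => c.2)
        (fun c d h => Subtype.ext (Subtype.ext (congrArg (fun z : ↥(Subgroup.zpowers x) => (z : G)) h)))
      obtain ⟨c, hc⟩ := (Subgroup.isCyclic_iff_exists_zpowers_eq_top C).mp hCc
      obtain ⟨t, ht⟩ : ∃ t : ↥Q, Subgroup.closure ({c, t} : Set ↥Q) = ⊤ := by
        by_cases htop : C = ⊤
        · refine ⟨c, ?_⟩
          rw [Set.pair_eq_singleton, ← Subgroup.zpowers_eq_closure, hc, htop]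
        obtain ⟨t, ht⟩ : ∃ t, t ∉ C := by
          by_contra! hh
          exact htop ((Subgroup.eq_top_iff' C).mpr hh)
        have hidx : C.index = 2 := by
          have h1 : C.index ≤ ((Subgroup.zpowers x).subgroupOf (P : Subgroup G)).index := by
            show (Subgroup.zpowers x).relIndex Q ≤ (Subgroup.zpowers x).relIndex (P : Subgroup G)
            exact Subgroup.relIndex_le_of_le_right hQP Subgroup.FiniteIndex.index_ne_zero
          have h2 : ((Subgroup.zpowers x).subgroupOf (P : Subgroup G)).index ∣ 2 := by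
            have h := Subgroup.card_mul_index ((Subgroup.zpowers x).subgroupOf (P : Subgroup G))
            rw [Nat.card_congr (Subgroup.subgroupOfEquivOfLe hP).toEquiv, Nat.card_zpowers, hx, hPcard] at h
            rcases a with _ | a
            · simp at h; simp [h]
            · rw [Nat.add_sub_cancel, pow_succ] at h
              rw [Nat.eq_of_mul_eq_mul_left (Nat.pow_pos two_pos) h]
          have h3 : C.index ≠ 0 := Subgroup.FiniteIndex.index_ne_zero
          have h4 : C.index ≠ 1 := fun h => htop (Subgroup.index_eq_one.mp h)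
          have h5 := h1.trans (Nat.le_of_dvd two_pos h2)
          omega
        refine ⟨t, top_unique fun q _ => ?_⟩
        have hle : C ≤ Subgroup.closure ({c, t} : Set ↥Q) := by
          rw [← hc, Subgroup.zpowers_le]
          exact Subgroup.subset_closure (by simp)
        have htm : t ∈ Subgroup.closure ({c, t} : Set ↥Q) := Subgroup.subset_closure (by simp)
        by_cases hq : q ∈ C
        · exact hle hq
        · have h3 : t⁻¹ * q ∈ C := by
            rw [Subgroup.mul_mem_iff_of_index_two hidx, inv_mem_iff]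
            exact iff_of_false ht hq
          rw [← mul_inv_cancel_left t q]
          exact mul_mem htm (hle h3)
      have h1 := Agent.PGroup.card_closure_sup_frattini_le hQ ({c, t} : Finset ↥Q)
      rw [Finset.coe_pair, ht, top_sup_eq, Subgroup.card_top,
        Subgroup.card_eq_card_quotient_mul_card_subgroup Φ, mul_comm] at h1
      exact (Nat.le_of_mul_le_mul_left h1 Nat.card_pos).trans
        ((Nat.pow_le_pow_right two_pos (Finset.card_le_two)).trans (by norm_num))
    have hchar : Φ.Characteristic := inferInstance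
    set A := Subgroup.zpowers g with hA
    have hAQ : A ≤ Subgroup.normalizer (Q : Set G) := Subgroup.zpowers_le.mpr hg
    have hfix : ∀ φ : MulAut ↥Q, Φ.map φ.toMonoidHom = Φ := fun φ =>
      Subgroup.characteristic_iff_map_eq.mp hchar φ
    let conj : ↥A →* MulAut ↥Q := Q.normalizerMonoidHom.comp (Subgroup.inclusion hAQ)
    let f : ↥A →* Equiv.Perm (↥Q ⧸ Φ) :=
      { toFun := fun b => (QuotientGroup.congr Φ Φ (conj b) (hfix _)).toEquiv
        map_one' := Equiv.ext fun q => by
          induction q using QuotientGroup.induction_on with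
          | _ k => show QuotientGroup.mk (conj 1 k) = _; rw [map_one]; rfl
        map_mul' := fun b c => Equiv.ext fun q => by
          induction q using QuotientGroup.induction_on with
          | _ k => show QuotientGroup.mk (conj (b * c) k) = _; rw [map_mul]; rfl }
    have hcopg : (orderOf g).Coprime 24 := by
      have h3g : ¬ 3 ∣ orderOf g := fun h => by
        have h4 := h.trans (orderOf_dvd_natCard g)
        rw [hG] at h4
        exact h3 ((Nat.Coprime.pow_right a (by norm_num : Nat.Coprime 3 2)).dvd_of_dvd_mul_left h4)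
      rw [show 24 = 2 ^ 3 * 3 by norm_num]
      exact Nat.Coprime.mul_right (hco.pow_right 3) ((Nat.prime_three.coprime_iff_not_dvd.mpr h3g).symm)
    have htrivf : ∀ b, f b = 1 := by
      intro b
      have h1 : orderOf (f b) ∣ orderOf g := by
        refine (orderOf_map_dvd f b).trans ?_
        rw [← Nat.card_zpowers g]
        exact orderOf_dvd_natCard b
      have h2 : orderOf (f b) ∣ 24 := by
        refine (orderOf_dvd_natCard (f b)).trans ?_
        rw [Nat.card_perm]
        exact (Nat.factorial_dvd_factorial hbound).trans (by norm_num [Nat.factorial])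
      exact orderOf_eq_one_iff.mp (Nat.dvd_one.mp (hcopg.gcd_eq_one ▸ Nat.dvd_gcd h1 h2))
    refine Agent.Coprime.le_centralizer_of_frattini hAQ ?_ ?_ (Subgroup.mem_zpowers g)
    · obtain ⟨j, hj⟩ := (hQ.to_subgroup Φ).exists_card_eq
      rw [hj, Nat.card_zpowers]
      exact hco.pow_right j
    · intro b hb k hk
      have h1 := DFunLike.congr_fun (htrivf ⟨b, hb⟩) (QuotientGroup.mk ⟨k, hk⟩)
      have h2 : (conj ⟨b, hb⟩ ⟨k, hk⟩) * (⟨k, hk⟩ : ↥Q)⁻¹ ∈ Φ := by
        refine (QuotientGroup.eq_one_iff _).mp ?_
        rw [QuotientGroup.mk_mul, QuotientGroup.mk_inv, mul_inv_eq_one]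
        exact h1
      exact ⟨_, h2, rfl⟩
  refine ⟨N, hNn, ?_⟩
  have h1 := hc.card_mul
  rw [P'.card_eq_multiplicity, ← P.card_eq_multiplicity, hPcard, hG, mul_comm] at h1
  exact Nat.eq_of_mul_eq_mul_left (Nat.pow_pos two_pos) h1

end Cfsg.Agent.S3971
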