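import Cfsg.Statements.S3973
import Cfsg.Agent.Lib.Schur.Rank

set_option autoImplicit false
open Cfsg
open Cfsg.Agent.Schur

namespace Cfsg.Agent.S3973

/-- If a finite group is presented by `n` generators and a finite set of `r` relators, then its Schur multiplier can be generated by `r - n` elements. In particular a finite group with a presentation having as many relators as generators has trivial Schur multiplier. -/
theorem result (n : ℕ) (rels : Finset (FreeGroup (Fin n))) [Finite (PresentedGroup (rels : Set (FreeGroup (Fin n))))] {A : Type*} [CommGroup A] [Finite A] (hA : Cfsg.HasSchurMultiplier (PresentedGroup (rels : Set (FreeGroup (Fin n)))) A) : Group.rank A ≤ rels.card - n := by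
  classical
  set π := PresentedGroup.mk (rels : Set (FreeGroup (Fin n))) with hπdef
  have hπ : Function.Surjective π := PresentedGroup.mk_surjective _
  obtain ⟨eA⟩ := nonempty_equiv_mult π hπ hA
  set S : Set (Ext π) := QuotientGroup.mk' (commRel π) '' (rels : Set (FreeGroup (Fin n))) with hS
  have hker : π.ker = Subgroup.normalClosure (rels : Set (FreeGroup (Fin n))) := by
    ext x
    exact PresentedGroup.mk_eq_one_iff
  have hrel : rel π = Subgroup.closure S := by
    have h1 : rel π = π.ker.map (QuotientGroup.mk' (commRel π)) :=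
      QuotientGroup.ker_lift (commRel π) π (commRel_le_ker π)
    rw [hker, Subgroup.map_normalClosure _ _ (QuotientGroup.mk'_surjective _), ← hS] at h1
    have : (Subgroup.closure S).Normal := by
      refine normal_of_le_rel π ?_
      rw [h1]
      exact Subgroup.closure_le_normalClosure
    rw [h1]
    exact le_antisymm (Subgroup.normalClosure_le_normal Subgroup.subset_closure)
      Subgroup.closure_le_normalClosure
  let : AddCommGroup (Additive ↥(rel π)) :=
    { (inferInstance : AddGroup (Additive ↥(rel π))) with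
      add_comm := fun a b => Subtype.ext
        (Subgroup.mem_center_iff.mp (rel_le_center π (Additive.toMul b).2)
          ((Additive.toMul a : ↥(rel π)) : Ext π)) }
  have hmem : ∀ r : ↥rels, QuotientGroup.mk' (commRel π) (r : FreeGroup (Fin n)) ∈ rel π := fun r => by
    show π (r : FreeGroup (Fin n)) = 1
    exact PresentedGroup.one_of_mem r.2
  let v : ↥rels → Additive ↥(rel π) := fun r => Additive.ofMul ⟨_, hmem r⟩
  let Φ : (↥rels → ℤ) →ₗ[ℤ] Additive ↥(rel π) := Fintype.linearCombination ℤ v
  have hΦ : ∀ x : Additive ↥(rel π), x ∈ LinearMap.range Φ := by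
    intro x
    have h1 : ((Additive.toMul x : ↥(rel π)) : Ext π) ∈ Subgroup.closure S := hrel ▸ (Additive.toMul x).2
    suffices key : ∀ (y : Ext π), y ∈ Subgroup.closure S →
        ∀ hy : y ∈ rel π, Additive.ofMul (⟨y, hy⟩ : ↥(rel π)) ∈ LinearMap.range Φ from
      key _ h1 (Additive.toMul x).2
    intro y hy
    induction hy using Subgroup.closure_induction with
    | mem y hy =>
      obtain ⟨r, hr, rfl⟩ := hy
      intro _
      refine ⟨Pi.single ⟨r, hr⟩ 1, ?_⟩
      show Fintype.linearCombination ℤ v _ = _
      simp [v]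
    | one =>
      intro _
      exact zero_mem _
    | mul a b ha hb iha ihb =>
      intro _
      exact add_mem (iha (hrel ▸ ha)) (ihb (hrel ▸ hb))
    | inv a ha iha =>
      intro _
      exact neg_mem (iha (hrel ▸ ha))
  let fl : Additive ↥(rel π) →ₗ[ℤ] (Fin n →₀ ℤ) :=
    ((toFree π).comp (MonoidHom.toAdditive (rel π).subtype)).toIntLinearMap
  let g := fl.comp Φ
  have hrange : LinearMap.range g = lattice π (rel π) := by
    refine le_antisymm ?_ ?_
    · rintro _ ⟨a, rfl⟩
      exact (mem_lattice π).mpr ⟨_, (Additive.toMul (Φ a)).2, rfl⟩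
    · intro y hy
      obtain ⟨x, hx, rfl⟩ := (mem_lattice π).mp hy
      obtain ⟨a, ha⟩ := hΦ (Additive.ofMul ⟨x, hx⟩)
      exact ⟨a, congrArg fl ha⟩
  have hfr : Module.finrank ℤ ↥(LinearMap.ker g) = rels.card - n := by
    have h1 := (LinearMap.ker g).finrank_quotient_add_finrank
    rw [(LinearMap.quotKerEquivRange g).finrank_eq, hrange, finrank_lattice π le_sup_left, Nat.card_eq_fintype_card, Fintype.card_fin,
      Module.finrank_fintype_fun_eq_card, Fintype.card_coe] at h1
    omega
  let bas := Module.finBasis ℤ ↥(LinearMap.ker g)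
  have hgen : ∀ i, ((Additive.toMul (Φ (bas i : ↥(LinearMap.ker g))) : ↥(rel π)) : Ext π) ∈ mult π := fun i =>
    Subgroup.mem_inf.mpr ⟨SetLike.coe_mem _, (toFree_eq_zero_iff π _).mp (bas i).2⟩
  set T : Finset A := Finset.univ.image fun i => eA ⟨_, hgen i⟩ with hT
  have hclosure : Subgroup.closure (T : Set A) = ⊤ := by
    refine top_unique fun y _ => ?_
    obtain ⟨m, rfl⟩ := eA.surjective y
    obtain ⟨a, ha⟩ := hΦ (Additive.ofMul ⟨(m : Ext π), m.2.1⟩)
    have hak : a ∈ LinearMap.ker g := by
      show fl (Φ a) = 0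
      rw [ha]
      exact (toFree_eq_zero_iff π _).mpr m.2.2
    -- closure property transported along the basis
    suffices key : ∀ z : ↥(LinearMap.ker g), ∀ hz : ((Additive.toMul (Φ z) : ↥(rel π)) : Ext π) ∈ mult π,
        eA ⟨_, hz⟩ ∈ Subgroup.closure (T : Set A) by
      have hm : ((Additive.toMul (Φ a) : ↥(rel π)) : Ext π) = m := by rw [ha]; rfl
      have h2 := key ⟨a, hak⟩ (hm ▸ m.2)
      convert h2 using 2
      exact Subtype.ext hm.symm
    intro z
    have hzmem : z ∈ Submodule.span ℤ (Set.range bas) := by rw [bas.span_eq]; exact Submodule.mem_top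
    induction hzmem using Submodule.span_induction with
    | mem x hx =>
      obtain ⟨i, rfl⟩ := hx
      intro _
      exact Subgroup.subset_closure (by rw [hT]; simp)
    | zero =>
      intro h
      have : (⟨_, h⟩ : ↥(mult π)) = 1 := Subtype.ext (by simp)
      rw [this, map_one]
      exact one_mem _
    | add x y _ _ ihx ihy =>
      intro h
      have hx : ((Additive.toMul (Φ x) : ↥(rel π)) : Ext π) ∈ mult π :=
        Subgroup.mem_inf.mpr ⟨SetLike.coe_mem _, (toFree_eq_zero_iff π _).mp x.2⟩
      have hy : ((Additive.toMul (Φ y) : ↥(rel π)) : Ext π) ∈ mult π :=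
        Subgroup.mem_inf.mpr ⟨SetLike.coe_mem _, (toFree_eq_zero_iff π _).mp y.2⟩
      have : (⟨_, h⟩ : ↥(mult π)) = ⟨_, hx⟩ * ⟨_, hy⟩ := Subtype.ext (by simp)
      rw [this, map_mul]
      exact mul_mem (ihx hx) (ihy hy)
    | smul k x _ ihx =>
      intro h
      have hx : ((Additive.toMul (Φ x) : ↥(rel π)) : Ext π) ∈ mult π :=
        Subgroup.mem_inf.mpr ⟨SetLike.coe_mem _, (toFree_eq_zero_iff π _).mp x.2⟩
      have : (⟨_, h⟩ : ↥(mult π)) = ⟨_, hx⟩ ^ k := Subtype.ext (by
        show ((Additive.toMul (Φ (k • (x : ↥rels → ℤ))) : ↥(rel π)) : Ext π) = _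
        rw [map_zsmul, toMul_zsmul, Subgroup.coe_zpow, SubgroupClass.coe_zpow])
      rw [this, map_zpow]
      exact zpow_mem (ihx hx) k
  refine (Group.rank_le hclosure).trans (Finset.card_image_le.trans ?_)
  rw [Finset.card_univ, Fintype.card_fin, hfr]

end Cfsg.Agent.S3973
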