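import Cfsg.Statements.S3974
import Cfsg.Agent.Lib.Schur.Rank
import Mathlib

set_option autoImplicit false
universe u v
open Cfsg
open Cfsg.Agent.Schur
open scoped commutatorElement

namespace Cfsg.Agent.S3974

variable {Q : Type u} [Group Q] [Finite Q]

/-- Any map over `Q` between stem extensions is onto. -/
theorem surjective_of_comp_eq {Γ₁ Γ₂ : Type u} [Group Γ₁] [Group Γ₂] {σ₁ : Γ₁ →* Q} {σ₂ : Γ₂ →* Q}
    (h₁ : Function.Surjective σ₁) (h₂ : Cfsg.IsStemExtension σ₂) (f : Γ₁ →* Γ₂)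
    (hf : σ₂.comp f = σ₁) : Function.Surjective f := by
  have hsup : ∀ g : Γ₂, ∃ x, (f x)⁻¹ * g ∈ σ₂.ker := fun g => by
    obtain ⟨x, hx⟩ := h₁ (σ₂ g)
    refine ⟨x, ?_⟩
    have := DFunLike.congr_fun hf x
    simp only [MonoidHom.comp_apply] at this
    rw [MonoidHom.mem_ker, map_mul, map_inv, this, hx, inv_mul_cancel]
  have hcomm : _root_.commutator Γ₂ ≤ f.range := by
    rw [commutator_eq_closure, Subgroup.closure_le]
    rintro _ ⟨a, b, rfl⟩
    obtain ⟨x, hx⟩ := hsup a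
    obtain ⟨y, hy⟩ := hsup b
    refine ⟨⁅x, y⁆, ?_⟩
    have ha : a = f x * ((f x)⁻¹ * a) := (mul_inv_cancel_left _ _).symm
    have hb : b = f y * ((f y)⁻¹ * b) := (mul_inv_cancel_left _ _).symm
    have hxc := Subgroup.mem_center_iff.mp (h₂.2.1 hx)
    have hyc := Subgroup.mem_center_iff.mp (h₂.2.1 hy)
    rw [map_commutatorElement, ha, hb]
    generalize (f x)⁻¹ * a = k at hxc
    generalize (f y)⁻¹ * b = l at hyc
    simp only [commutatorElement_def, mul_inv_rev]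
    symm
    calc f x * k * (f y * l) * (k⁻¹ * (f x)⁻¹) * (l⁻¹ * (f y)⁻¹)
        = f x * (k * (f y * l)) * (k⁻¹ * (f x)⁻¹) * (l⁻¹ * (f y)⁻¹) := by group
      _ = f x * f y * (l * (f x)⁻¹) * (l⁻¹ * (f y)⁻¹) := by rw [← hxc]; group
      _ = f x * f y * ((f x)⁻¹ * l) * (l⁻¹ * (f y)⁻¹) := by rw [hyc]
      _ = _ := by group
  intro g
  obtain ⟨x, hx⟩ := hsup g
  obtain ⟨y, hy⟩ := hcomm (h₂.2.2 hx)
  exact ⟨x * y, by rw [map_mul, hy, mul_inv_cancel_left]⟩

/-- Two covers are isomorphic over `Q` in the coprime case. -/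
theorem exists_equiv {A : Type v} [CommGroup A] (hA : Cfsg.HasSchurMultiplier Q A)
    (hcop : Nat.Coprime (Nat.card (Abelianization Q)) (Nat.card A))
    {Γ₁ Γ₂ : Type u} [Group Γ₁] [Finite Γ₁] [Group Γ₂] [Finite Γ₂] {σ₁ : Γ₁ →* Q} {σ₂ : Γ₂ →* Q}
    (h₁ : Cfsg.IsStemExtension σ₁) (h₂ : Cfsg.IsStemExtension σ₂) (k₁ : Nonempty (σ₁.ker ≃* A))
    (k₂ : Nonempty (σ₂.ker ≃* A)) : ∃ e : Γ₁ ≃* Γ₂, σ₂.comp e.toMonoidHom = σ₁ := by
  set π := pres Q
  set ψ₁ := toExt π h₁.1 h₁.2.1 with hψ₁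
  set ψ₂ := toExt π h₂.1 h₂.2.1 with hψ₂
  have hs : Function.Surjective ψ₁ := toExt_surjective π h₁.1 h₁.2.1 (pres_surjective Q) h₁.2.2
  have hσψ : ∀ x, σ₁ (ψ₁ x) = extHom π x := fun x => DFunLike.congr_fun (comp_toExt π h₁.1 h₁.2.1) x
  have hσψ₂ : ∀ x, σ₂ (ψ₂ x) = extHom π x := fun x => DFunLike.congr_fun (comp_toExt π h₂.1 h₂.2.1) x
  have hC : ψ₁.ker ≤ rel π := fun x hx => by
    rw [MonoidHom.mem_ker, ← hσψ, MonoidHom.mem_ker.mp hx, map_one]
  have hCM : ψ₁.ker ⊓ mult π = ⊥ := toExt_injOn_mult hA h₁ k₁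
  let ι : ↥ψ₁.ker →* Abelianization (Ext π) := Abelianization.of.comp ψ₁.ker.subtype
  have hι : Function.Injective ι := by
    rw [injective_iff_map_eq_one]
    intro c hc
    refine Subtype.ext (Subgroup.mem_bot.mp (hCM ▸ ?_))
    refine Subgroup.mem_inf.mpr ⟨c.2, Subgroup.mem_inf.mpr ⟨hC c.2, ?_⟩⟩
    rw [← Abelianization.ker_of]
    exact hc
  set m := Nat.card (Abelianization Q)
  have hpow : ∀ x : Abelianization (Ext π), x ^ m ∈ ι.range := by
    intro x
    obtain ⟨x, rfl⟩ : ∃ y, Abelianization.of y = x := QuotientGroup.mk_surjective _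
    rw [← map_pow]
    have hc : extHom π (x ^ m) ∈ _root_.commutator Q := by
      rw [← Abelianization.ker_of, MonoidHom.mem_ker, map_pow, map_pow]
      exact pow_card_eq_one'
    rw [← map_commutator_of_surjective (extHom_surjective π (pres_surjective Q))] at hc
    obtain ⟨e, he, hex⟩ := hc
    have hr : e⁻¹ * x ^ m ∈ rel π := by
      rw [MonoidHom.mem_ker, map_mul, map_inv, hex, inv_mul_cancel]
    have hk : ψ₁ (e⁻¹ * x ^ m) ∈ (mult π).map ψ₁ := by
      rw [map_mult π h₁.1 h₁.2.1 (pres_surjective Q), inf_eq_left.mpr h₁.2.2, MonoidHom.mem_ker, hσψ]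
      exact hr
    obtain ⟨μ, hμ, hμx⟩ := hk
    refine ⟨⟨μ⁻¹ * (e⁻¹ * x ^ m), by rw [MonoidHom.mem_ker, map_mul, map_inv, hμx, inv_mul_cancel]⟩, ?_⟩
    show Abelianization.of (μ⁻¹ * (e⁻¹ * x ^ m)) = _
    rw [map_mul, map_mul, map_inv, map_inv]
    have h1 : Abelianization.of μ = 1 := by rw [← MonoidHom.mem_ker, Abelianization.ker_of]; exact hμ.2
    have h2 : Abelianization.of e = 1 := by rw [← MonoidHom.mem_ker, Abelianization.ker_of]; exact he
    rw [h1, h2, inv_one, one_mul, one_mul]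
  let ρ : Abelianization (Ext π) →* ↥ψ₁.ker :=
    (MonoidHom.ofInjective hι).symm.toMonoidHom.comp
      ((powMonoidHom m : Abelianization (Ext π) →* Abelianization (Ext π)).codRestrict ι.range hpow)
  have hρ : ∀ c : ↥ψ₁.ker, ρ (ι c) = c ^ m := fun c => by
    refine hι ?_
    show ι ((MonoidHom.ofInjective hι).symm _) = _
    rw [← MonoidHom.ofInjective_apply hι, MulEquiv.apply_symm_apply, map_pow]
    rfl
  let : CommGroup ↥σ₂.ker :=
    { (inferInstance : Group ↥σ₂.ker) with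
      mul_comm := fun a b => Subtype.ext (Subgroup.mem_center_iff.mp (h₂.2.1 b.2) (a : Γ₂)) }
  let θ : ↥ψ₁.ker →* ↥σ₂.ker := (ψ₂.comp ψ₁.ker.subtype).codRestrict σ₂.ker fun c => by
    rw [MonoidHom.mem_ker]
    exact (hσψ₂ _).trans (hC c.2)
  obtain ⟨e₂⟩ := k₂
  have hcard : Nat.card ↥σ₂.ker = Nat.card A := Nat.card_congr e₂.toEquiv
  have hcop' : Nat.Coprime (Nat.card ↥σ₂.ker) m := by rw [hcard]; exact hcop.symm
  let χ : Ext π →* ↥σ₂.ker :=
    { toFun := fun x => (powCoprime hcop').symm (θ (ρ (Abelianization.of x)))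
      map_one' := by
        rw [map_one, map_one, map_one, Equiv.symm_apply_eq]
        exact (one_pow m).symm
      map_mul' := fun a b => by
        rw [map_mul, map_mul, map_mul, Equiv.symm_apply_eq]
        simp only [powCoprime_apply, mul_pow]
        rw [← powCoprime_apply hcop', ← powCoprime_apply hcop', Equiv.apply_symm_apply,
          Equiv.apply_symm_apply] }
  have hχ : ∀ c : ↥ψ₁.ker, χ c = θ c := fun c => by
    show (powCoprime hcop').symm (θ (ρ (ι c))) = θ c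
    rw [hρ, map_pow, ← powCoprime_apply hcop', Equiv.symm_apply_apply]
  let φ : Ext π →* Γ₂ :=
    { toFun := fun x => ψ₂ x * (χ x : Γ₂)⁻¹
      map_one' := by simp
      map_mul' := fun a b => by
        simp only [map_mul, Subgroup.coe_mul, mul_inv_rev]
        have := Subgroup.mem_center_iff.mp (inv_mem (h₂.2.1 (χ a).2)) (ψ₂ b * (χ b : Γ₂)⁻¹)
        rw [mul_assoc (ψ₂ a), mul_assoc (ψ₂ a), ← mul_assoc (ψ₂ b), this] }
  have hker : ψ₁.ker ≤ φ.ker := fun c hc => by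
    show ψ₂ c * (χ c : Γ₂)⁻¹ = 1
    rw [hχ ⟨c, hc⟩]
    exact mul_inv_cancel _
  let f : Γ₁ →* Γ₂ := MonoidHom.liftOfSurjective ψ₁ hs ⟨φ, hker⟩
  have hf : σ₂.comp f = σ₁ := by
    refine MonoidHom.ext fun g => ?_
    obtain ⟨x, rfl⟩ := hs g
    rw [MonoidHom.comp_apply, show f (ψ₁ x) = φ x from
      MonoidHom.liftOfRightInverse_comp_apply _ _ _ _ x, hσψ]
    show σ₂ (ψ₂ x * (χ x : Γ₂)⁻¹) = _
    rw [map_mul, map_inv, MonoidHom.mem_ker.mp (χ x).2, inv_one, mul_one, hσψ₂]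
  have hsurj := surjective_of_comp_eq h₁.1 h₂ f hf
  have hcardΓ : Nat.card Γ₁ = Nat.card Γ₂ := by
    obtain ⟨e₁⟩ := k₁
    rw [Subgroup.card_eq_card_quotient_mul_card_subgroup σ₁.ker,
      Subgroup.card_eq_card_quotient_mul_card_subgroup σ₂.ker,
      Nat.card_congr (QuotientGroup.quotientKerEquivOfSurjective σ₁ h₁.1).toEquiv,
      Nat.card_congr (QuotientGroup.quotientKerEquivOfSurjective σ₂ h₂.1).toEquiv, hcard,
      Nat.card_congr e₁.toEquiv]
  exact ⟨MulEquiv.ofBijective f (hsurj.bijective_of_nat_card_le hcardΓ.le), hf⟩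

/-- In the non-coprime case some homomorphism on a complement does not extend. -/
theorem exists_not_extendable {p : ℕ} [Fact p.Prime] (hQ : p ∣ Nat.card (Abelianization Q))
    (hM : p ∣ Nat.card ↥(mult (pres Q))) {C : Subgroup (Ext (pres Q))} (hC : C ≤ rel (pres Q))
    (hCM : C ⊓ mult (pres Q) = ⊥) (hsup : rel (pres Q) ≤ C ⊔ mult (pres Q)) :
    ∃ θ : ↥C →* ↥(mult (pres Q)), ∀ χ : Ext (pres Q) →* ↥(mult (pres Q)), χ.comp C.subtype ≠ θ := by
  have hp : p.Prime := Fact.out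
  -- an element which is not a `p`-th power
  obtain ⟨z, hz⟩ : ∃ z : ↥(mult (pres Q)), ∀ w, w ^ p ≠ z := by
    by_contra hh
    push Not at hh
    have hs : Function.Surjective (fun w : ↥(mult (pres Q)) => w ^ p) := hh
    obtain ⟨t, ht⟩ := exists_prime_orderOf_dvd_card' p hM
    have h1 : t ^ p = (1 : ↥(mult (pres Q))) ^ p := by rw [one_pow, ← ht, pow_orderOf_eq_one]
    have := (Finite.injective_iff_surjective.mpr hs) h1
    rw [this, orderOf_one] at ht
    exact hp.one_lt.ne ht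
  obtain ⟨q, hq⟩ := exists_prime_orderOf_dvd_card' p hQ
  obtain ⟨q₀, rfl⟩ : ∃ y, Abelianization.of y = q := QuotientGroup.mk_surjective _
  obtain ⟨x, rfl⟩ := extHom_surjective (pres Q) (pres_surjective Q) q₀
  have hxp : extHom (pres Q) (x ^ p) ∈ _root_.commutator Q := by
    rw [← Abelianization.ker_of, MonoidHom.mem_ker, map_pow, map_pow, ← hq, pow_orderOf_eq_one]
  rw [← map_commutator_of_surjective (extHom_surjective (pres Q) (pres_surjective Q))] at hxp
  obtain ⟨e, he, hex⟩ := hxp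
  have hr : e⁻¹ * x ^ p ∈ rel (pres Q) := by
    rw [MonoidHom.mem_ker, map_mul, map_inv, hex, inv_mul_cancel]
  have : (mult (pres Q)).Normal := normal_of_le_rel (pres Q) inf_le_left
  obtain ⟨c, hc, μ, hμ, hcμ⟩ := Subgroup.mem_sup_of_normal_right.mp (hsup hr)
  have hxeq : x ^ p = e * c * μ := by rw [mul_assoc, hcμ, mul_inv_cancel_left]
  let L := lattice (pres Q) C
  have hfree : Module.Free ℤ ↥L := inferInstance
  let b := Module.Free.chooseBasis ℤ ↥L
  have hlc : toFree (pres Q) (Additive.ofMul c) = p • toFree (pres Q) (Additive.ofMul x) := by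
    rw [← map_nsmul, ← ofMul_pow, hxeq, ofMul_mul, ofMul_mul, map_add, map_add,
      (toFree_eq_zero_iff (pres Q) e).mpr he, (toFree_eq_zero_iff (pres Q) μ).mpr hμ.2, zero_add, add_zero]
  let cL : ↥L := ⟨toFree (pres Q) (Additive.ofMul c), (mem_lattice (pres Q)).mpr ⟨c, hc, rfl⟩⟩
  obtain ⟨i, hi⟩ : ∃ i, ¬ (p : ℤ) ∣ b.repr cL i := by
    by_contra hh
    push Not at hh
    have hw : ∃ w : ↥L, (p : ℤ) • w = cL := by
      refine ⟨b.repr.symm ((b.repr cL).mapRange (fun k => k / (p : ℤ)) (Int.zero_ediv _)), ?_⟩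
      apply b.repr.injective
      ext j
      rw [map_smul, LinearEquiv.apply_symm_apply, Finsupp.smul_apply, Finsupp.mapRange_apply,
        smul_eq_mul, Int.mul_ediv_cancel' (hh j)]
    obtain ⟨⟨w, hw'⟩, hw⟩ := hw
    obtain ⟨y, hy, rfl⟩ := (mem_lattice (pres Q)).mp hw'
    have h1 : (p : ℤ) • toFree (pres Q) (Additive.ofMul y) = (p : ℤ) • toFree (pres Q) (Additive.ofMul x) := by
      rw [natCast_zsmul (toFree (pres Q) (Additive.ofMul x)) p, ← hlc]
      exact congrArg Subtype.val hw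
    have h2 := smul_right_injective _ (by exact_mod_cast hp.ne_zero) h1
    have h3 : y⁻¹ * x ∈ _root_.commutator (Ext (pres Q)) := by
      rw [← toFree_eq_zero_iff (pres Q), ofMul_mul, ofMul_inv, map_add, map_neg, h2, neg_add_cancel]
    have h4 : Abelianization.of (extHom (pres Q) (y⁻¹ * x)) = 1 := by
      rw [← MonoidHom.mem_ker, Abelianization.ker_of]
      exact map_commutator_le _ ⟨_, h3, rfl⟩
    rw [map_mul, map_inv, MonoidHom.mem_ker.mp (hC hy), inv_one, one_mul] at h4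
    rw [h4, orderOf_one] at hq
    exact hp.one_lt.ne hq
  let fl : Additive ↥C →+ ↥L := ((toFree (pres Q)).comp (MonoidHom.toAdditive C.subtype)).codRestrict
    L.toAddSubgroup fun a => (mem_lattice (pres Q)).mpr ⟨_, (Additive.toMul a).2, rfl⟩
  let co : Additive ↥C →+ ℤ := (b.coord i).toAddMonoidHom.comp fl
  let θ : ↥C →* ↥(mult (pres Q)) := (zpowersHom ↥(mult (pres Q)) z).comp (AddMonoidHom.toMultiplicativeRight co)
  refine ⟨θ, fun χ hχ => ?_⟩
  have h1 : χ c = z ^ (b.repr cL i) := DFunLike.congr_fun hχ ⟨c, hc⟩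
  have hkill : ∀ y ∈ _root_.commutator (Ext (pres Q)), χ y = 1 := fun y hy =>
    Abelianization.commutator_subset_ker χ hy
  have h2 : (χ x) ^ p = z ^ (b.repr cL i) := by
    rw [← map_pow, hxeq, map_mul, map_mul, hkill e he, hkill μ hμ.2, one_mul, mul_one, h1]
  obtain ⟨u', v', huv⟩ := ((Nat.prime_iff_prime_int.mp hp).coprime_iff_not_dvd).mpr hi
  refine hz (z ^ u' * χ x ^ v') ?_
  rw [mul_pow, ← zpow_natCast (z ^ u'), ← zpow_natCast (χ x ^ v'), ← zpow_mul, ← zpow_mul,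
    mul_comm v' (p : ℤ), zpow_mul (χ x), zpow_natCast (χ x) p, h2, ← zpow_mul, ← zpow_add,
    mul_comm (b.repr cL i) v', huv, zpow_one]

/-- Let `Q` be a finite group with Schur multiplier `A`. Any two Schur covering groups of `Q` (finite stem extensions `σ₁ : Γ₁ →* Q`, `σ₂ : Γ₂ →* Q` with kernels isomorphic to `A`, `Γ₁, Γ₂` in the universe of `Q`) are isomorphic over `Q` — there is a group isomorphism `e : Γ₁ ≃* Γ₂` with `σ₂ ∘ e = σ₁` — if and only if the order of the commutator quotient of `Q` is coprime to the order of `A`. In particular a finite perfect group has a unique Schur covering group up to isomorphism over it. -/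
theorem result {Q : Type u} [Group Q] [Finite Q] {A : Type v} [CommGroup A] (hA : Cfsg.HasSchurMultiplier Q A) : (∀ (Γ₁ Γ₂ : Type u) [Group Γ₁] [Finite Γ₁] [Group Γ₂] [Finite Γ₂] (σ₁ : Γ₁ →* Q) (σ₂ : Γ₂ →* Q), Cfsg.IsStemExtension σ₁ → Cfsg.IsStemExtension σ₂ → Nonempty (σ₁.ker ≃* A) → Nonempty (σ₂.ker ≃* A) → ∃ e : Γ₁ ≃* Γ₂, σ₂.comp e.toMonoidHom = σ₁) ↔ Nat.Coprime (Nat.card (Abelianization Q)) (Nat.card A) := by
  constructor
  · intro h
    by_contra hcop
    obtain ⟨p, hp, hQ, hA'⟩ := Nat.Prime.not_coprime_iff_dvd.mp hcop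
    have := Fact.mk hp
    set π := pres Q
    have hπ := pres_surjective Q
    obtain ⟨eA⟩ := nonempty_equiv_mult π hπ hA
    have hM : p ∣ Nat.card ↥(mult π) := by rwa [Nat.card_congr eA.toEquiv]
    obtain ⟨C, hC, hCM, hsup⟩ := exists_complement π (rel π) le_rfl
    obtain ⟨θ, hθ⟩ := exists_not_extendable hQ hM hC hCM hsup
    have hcm : ∀ a ∈ rel π, ∀ g, g * a = a * g := fun a ha g =>
      Subgroup.mem_center_iff.mp (rel_le_center π ha) g
    let tw : ↥C →* Ext π :=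
      { toFun := fun c => (c : Ext π) * (θ c : Ext π)
        map_one' := by simp
        map_mul' := fun a b => by
          simp only [map_mul, Subgroup.coe_mul]
          rw [mul_assoc (a : Ext π) (θ a : Ext π), ← mul_assoc (θ a : Ext π) (b : Ext π),
            ← hcm _ (θ a).2.1 (b : Ext π)]
          group }
    have hC' : tw.range ≤ rel π := by
      rintro _ ⟨c, rfl⟩
      exact mul_mem (hC c.2) (θ c).2.1
    have hCM' : tw.range ⊓ mult π = ⊥ := by
      refine eq_bot_iff.mpr ?_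
      rintro _ ⟨⟨c, rfl⟩, hm⟩
      have h' : tw c * (θ c : Ext π)⁻¹ ∈ mult π := mul_mem hm (inv_mem (θ c).2)
      rw [show tw c * (θ c : Ext π)⁻¹ = c from mul_inv_cancel_right _ _] at h'
      have : (c : Ext π) ∈ C ⊓ mult π := ⟨c.2, h'⟩
      rw [hCM, Subgroup.mem_bot] at this
      rw [Subgroup.mem_bot, show c = 1 from Subtype.ext this, map_one]
    have hsup' : rel π ≤ tw.range ⊔ mult π := by
      refine hsup.trans (sup_le (fun c hc => ?_) le_sup_right)
      rw [show c = tw ⟨c, hc⟩ * (θ ⟨c, hc⟩ : Ext π)⁻¹ from (mul_inv_cancel_right _ _).symm]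
      exact mul_mem (Subgroup.mem_sup_left ⟨_, rfl⟩) (Subgroup.mem_sup_right (inv_mem (θ ⟨c, hc⟩).2))
    have := normal_of_le_rel π hC
    have := normal_of_le_rel π hC'
    obtain ⟨hf₁, hs₁, ⟨k₁⟩⟩ := stem_of_complement π hπ hC hCM hsup
    obtain ⟨hf₂, hs₂, ⟨k₂⟩⟩ := stem_of_complement π hπ hC' hCM' hsup'
    obtain ⟨e, he⟩ := h _ _ _ _ hs₁ hs₂ ⟨k₁.trans eA⟩ ⟨k₂.trans eA⟩
    set σ₂ := QuotientGroup.lift tw.range (extHom π) hC'
    have hdiv : σ₂.comp (e.toMonoidHom.comp (QuotientGroup.mk' C)) = σ₂.comp (QuotientGroup.mk' tw.range) := by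
      rw [← MonoidHom.comp_assoc, he]
      rfl
    obtain ⟨χ, hχ⟩ := div_hom hs₂.2.1 hdiv
    let g : ↥(mult π) →* ↥σ₂.ker := ((QuotientGroup.mk' tw.range).comp (mult π).subtype).codRestrict σ₂.ker
      fun m => m.2.1
    have hg : Function.Bijective g := by
      have hgi : Function.Injective g := by
        rw [injective_iff_map_eq_one]
        intro m hm
        have h1 : (m : Ext π) ∈ tw.range := (QuotientGroup.eq_one_iff _).mp (congrArg Subtype.val hm)
        exact Subtype.ext (Subgroup.mem_bot.mp (hCM' ▸ ⟨h1, m.2⟩))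
      have : Finite ↥σ₂.ker := inferInstance
      exact ⟨hgi, (Finite.injective_iff_surjective_of_equiv k₂.symm.toEquiv).mp hgi⟩
    let g' := MulEquiv.ofBijective g hg
    refine hθ (g'.symm.toMonoidHom.comp χ) (MonoidHom.ext fun c => ?_)
    show g'.symm (χ c) = θ c
    rw [MulEquiv.symm_apply_eq]
    refine Subtype.ext ?_
    show (χ c : Ext π ⧸ tw.range) = QuotientGroup.mk' tw.range (θ c : Ext π)
    have h1 := hχ (c : Ext π)
    rw [show (e.toMonoidHom.comp (QuotientGroup.mk' C)) (c : Ext π) = 1 by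
      show e (QuotientGroup.mk' C (c : Ext π)) = 1
      rw [show QuotientGroup.mk' C (c : Ext π) = 1 from (QuotientGroup.eq_one_iff _).mpr c.2, map_one]] at h1
    rw [eq_inv_of_mul_eq_one_right h1.symm, ← map_inv]
    refine QuotientGroup.eq.mpr ?_
    rw [inv_inv]
    exact ⟨c, rfl⟩
  · intro hcop Γ₁ Γ₂ _ _ _ _ σ₁ σ₂ h₁ h₂ k₁ k₂
    exact exists_equiv hA hcop h₁ h₂ k₁ k₂

end Cfsg.Agent.S3974
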