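import Cfsg.Statements.S3977
import Mathlib

set_option autoImplicit false
open Cfsg

namespace Cfsg.Agent.S3977

universe u

theorem mul_pow_choose {G : Type u} [Group G] {x y w : G} (hw : ∀ g, Commute g w) (h : y * x = w * (x * y))
    (n : ℕ) : (x * y) ^ n = w ^ n.choose 2 * (x ^ n * y ^ n) := by
  have hy : ∀ k : ℕ, y ^ k * x = w ^ k * (x * y ^ k) := by
    intro k
    induction k with
    | zero => simp
    | succ k ih =>
      calc y ^ (k + 1) * x = y * (y ^ k * x) := by rw [pow_succ', mul_assoc]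
        _ = (y * w ^ k) * x * y ^ k := by rw [ih]; group
        _ = w ^ k * (y * x) * y ^ k := by rw [((hw y).pow_right k).eq]; group
        _ = _ := by rw [h, pow_succ', pow_succ, ← mul_assoc, ← mul_assoc, ← mul_assoc, ← mul_assoc]; group
  induction n with
  | zero => simp
  | succ n ih =>
    calc (x * y) ^ (n + 1) = (w ^ n.choose 2 * (x ^ n * y ^ n)) * (x * y) := by rw [pow_succ, ih]
      _ = w ^ n.choose 2 * x ^ n * (y ^ n * x) * y := by group
      _ = w ^ n.choose 2 * (x ^ n * w ^ n) * x * y ^ n * y := by rw [hy]; group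
      _ = w ^ n.choose 2 * (w ^ n * x ^ n) * x * y ^ n * y := by rw [((hw (x ^ n)).pow_right n).eq]
      _ = _ := by
        rw [Nat.choose_succ_succ' n 1, Nat.choose_one_right, add_comm n, pow_add, pow_succ x n,
          pow_succ y n]
        group

theorem cyclic_of_unique {p s : ℕ} [Fact p.Prime] (hs : 1 ≤ s) (h2 : p ≠ 2 ∨ 2 ≤ s) (m : ℕ) :
    ∀ {G : Type u} [Group G] [Finite G], Nat.card G = p ^ m → s < m →
      (∀ H K : Subgroup G, Nat.card H = p ^ s → Nat.card K = p ^ s → H = K) → IsCyclic G := by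
  induction m using Nat.strong_induction_on with
  | _ m ih =>
    intro G _ _ hG hsm huniq
    have hp : p.Prime := Fact.out
    obtain ⟨H, hH⟩ := Sylow.exists_subgroup_card_pow_prime p (n := s) (hG ▸ pow_dvd_pow p hsm.le)
    have hleH : ∀ c : G, c ^ p ^ s = 1 → c ∈ H := by
      intro c hc
      obtain ⟨j, hj, hjc⟩ := (Nat.dvd_prime_pow hp).mp (orderOf_dvd_of_pow_eq_one hc)
      obtain ⟨K, hK, hle⟩ := Sylow.exists_subgroup_card_pow_prime_le p (hG ▸ pow_dvd_pow p hsm.le)
        (Subgroup.zpowers c) (by rw [Nat.card_zpowers, hjc]) hj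
      rw [huniq K H hK hH] at hle
      exact hle (Subgroup.mem_zpowers c)
    obtain ⟨M, hM, hHM⟩ := Sylow.exists_subgroup_card_pow_prime_le p (n := s) (m := m - 1)
      (hG ▸ pow_dvd_pow p (Nat.sub_le m 1)) H hH (by omega)
    have hMlt : ∀ {N : Subgroup G}, Nat.card N = p ^ (m - 1) → N ≠ ⊤ := fun hN htop => by
      rw [htop, Subgroup.card_top, hG] at hN
      have := Nat.pow_right_injective hp.two_le hN
      omega
    obtain ⟨b₀, hb₀⟩ : ∃ b, b ∉ M := by
      by_contra hh
      push Not at hh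
      exact hMlt hM (top_unique fun x _ => hh x)
    obtain ⟨j, hj, hjb⟩ := (Nat.dvd_prime_pow hp).mp (hG ▸ orderOf_dvd_natCard b₀)
    rcases eq_or_lt_of_le hj with rfl | hjlt
    · exact isCyclic_of_orderOf_eq_card b₀ (by rw [hG, hjb])
    obtain ⟨M₂, hM₂, hbM₂⟩ := Sylow.exists_subgroup_card_pow_prime_le p (n := j) (m := m - 1)
      (hG ▸ pow_dvd_pow p (Nat.sub_le m 1)) (Subgroup.zpowers b₀) (by rw [Nat.card_zpowers, hjb]) (by omega)
    have hne : M₂ ≠ M := fun h => hb₀ (h ▸ hbM₂ (Subgroup.mem_zpowers b₀))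
    rcases eq_or_lt_of_le (show s ≤ m - 1 by omega) with hsm1 | hsm1
    · exact absurd (huniq M₂ M (by rw [hM₂, hsm1]) (by rw [hM, hsm1])) hne
    exfalso
    have hcyc : ∀ N : Subgroup G, Nat.card N = p ^ (m - 1) →
        ∃ a : G, orderOf a = p ^ (m - 1) ∧ N = Subgroup.zpowers a := by
      intro N hN
      have hc : IsCyclic ↥N := by
        refine ih (m - 1) (by omega) hN hsm1 fun A B hA hB => ?_
        refine Subgroup.map_injective N.subtype_injective (huniq _ _ ?_ ?_)
        · rw [Subgroup.card_map_of_injective N.subtype_injective, hA]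
        · rw [Subgroup.card_map_of_injective N.subtype_injective, hB]
      obtain ⟨a, ha⟩ := hc.exists_generator
      refine ⟨a, by rw [Subgroup.orderOf_coe, orderOf_eq_card_of_forall_mem_zpowers ha, hN], ?_⟩
      refine le_antisymm (fun x hx => ?_) ((Subgroup.zpowers_le).mpr a.2)
      obtain ⟨i, hi⟩ := ha ⟨x, hx⟩
      exact ⟨i, by simpa using congrArg Subtype.val hi⟩
    obtain ⟨a, hao, haM⟩ := hcyc M hM
    obtain ⟨b, hbo, hbM⟩ := hcyc M₂ hM₂
    have hbM' : b ∉ M := fun h => hne (Subgroup.eq_of_le_of_card_ge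
      (hbM.le.trans (Subgroup.zpowers_le.mpr h)) (hM.trans hM₂.symm).le)
    have hidx : ∀ N : Subgroup G, Nat.card N = p ^ (m - 1) → N.index = p ∧ N.Normal := by
      intro N hN
      have h1 := Subgroup.card_mul_index N
      rw [hN, hG] at h1
      have h3 : N.index = p := by
        refine Nat.eq_of_mul_eq_mul_left (pow_pos hp.pos (m - 1)) (h1.trans ?_)
        rw [← pow_succ, Nat.sub_add_cancel (show 1 ≤ m by omega)]
      refine ⟨h3, Subgroup.normal_of_index_eq_minFac_card ?_⟩
      rw [h3, hG, Nat.pow_minFac (by omega), hp.minFac_eq]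
    have hpow : ∀ N : Subgroup G, Nat.card N = p ^ (m - 1) → ∀ g : G, g ^ p ∈ N := by
      intro N hN g
      obtain ⟨h1, hn⟩ := hidx N hN
      rw [← h1]
      exact N.pow_index_mem g
    -- `b ^ p` is a power of `a ^ p`
    obtain ⟨i, hi⟩ : ∃ i : ℕ, (a ^ p) ^ i = b ^ p := by
      obtain ⟨i, hi⟩ : b ^ p ∈ Submonoid.powers a := by
        rw [(isOfFinOrder_of_finite a).mem_powers_iff_mem_zpowers, ← haM]
        exact hpow M hM b
      have hi' : a ^ i = b ^ p := hi
      obtain ⟨i', rfl⟩ : p ∣ i := by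
        by_contra hdvd
        have hcop : Nat.Coprime (orderOf a) i := by
          rw [hao]
          exact Nat.Coprime.pow_left _ (hp.coprime_iff_not_dvd.mpr hdvd)
        have h3 : orderOf (a ^ i) = orderOf (b ^ p) := by rw [hi']
        rw [Nat.Coprime.orderOf_pow hcop, orderOf_pow, hao, hbo,
          Nat.gcd_eq_right (dvd_pow_self p (show m - 1 ≠ 0 by omega))] at h3
        have := Nat.div_lt_self (pow_pos hp.pos (m - 1)) hp.one_lt
        omega
      exact ⟨i', by rw [← pow_mul, hi']⟩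
    have hgen : ∀ x ∈ M, ∀ y ∈ M, Commute x y := by
      intro x hx y hy
      rw [haM] at hx hy
      obtain ⟨u, rfl⟩ := hx
      obtain ⟨v, rfl⟩ := hy
      exact Commute.zpow_zpow_self a u v
    have hgen₂ : ∀ x ∈ M₂, ∀ y ∈ M₂, Commute x y := by
      intro x hx y hy
      rw [hbM] at hx hy
      obtain ⟨u, rfl⟩ := hx
      obtain ⟨v, rfl⟩ := hy
      exact Commute.zpow_zpow_self b u v
    have hM_n := (hidx M hM).2
    have hM₂_n := (hidx M₂ hM₂).2
    have haM' : a ∈ M := haM ▸ Subgroup.mem_zpowers a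
    have hbM₂' : b ∈ M₂ := hbM ▸ Subgroup.mem_zpowers b
    have hcent : ∀ z, z ∈ M → z ∈ M₂ → ∀ g, Commute g z := by
      intro z hz hz₂
      have htop : (⊤ : Subgroup G) ≤ Subgroup.centralizer {z} := by
        have h1 : M < M ⊔ Subgroup.zpowers b :=
          lt_of_le_of_ne le_sup_left fun h => hbM' (h ▸ Subgroup.mem_sup_right (Subgroup.mem_zpowers b))
        have h3 : M ⊔ Subgroup.zpowers b = ⊤ := by
          have h4 := Subgroup.index_strictAnti h1
          have h5 : (M ⊔ Subgroup.zpowers b).index ∣ p := (hidx M hM).1 ▸ Subgroup.index_dvd_of_le h1.le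
          rw [(hidx M hM).1] at h4
          rcases (Nat.dvd_prime hp).mp h5 with h6 | h6
          · exact Subgroup.index_eq_one.mp h6
          · omega
        rw [← h3, sup_le_iff, Subgroup.zpowers_le]
        exact ⟨fun x hx => Subgroup.mem_centralizer_singleton_iff.mpr (hgen x hx z hz).eq,
          Subgroup.mem_centralizer_singleton_iff.mpr (hgen₂ b hbM₂' z hz₂).eq⟩
      intro g
      exact Subgroup.mem_centralizer_singleton_iff.mp (htop (Subgroup.mem_top g))
    -- the commutator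
    obtain ⟨z, hz⟩ : ∃ z, z = b * a * b⁻¹ * a⁻¹ := ⟨_, rfl⟩
    have hzc : ∀ g, Commute g z := hcent z (hz ▸ mul_mem (hM_n.conj_mem a haM' b) (inv_mem haM'))
      (by rw [hz, mul_assoc b a, mul_assoc b]; exact mul_mem hbM₂' (hM₂_n.conj_mem _ (inv_mem hbM₂') a))
    have hap : ∀ g, Commute g (a ^ p) := hcent _ (pow_mem haM' p) (hpow M₂ hM₂ a)
    have hzp : z ^ p = 1 := by
      have h1 : b * a * b⁻¹ = z * a := by rw [hz, inv_mul_cancel_right]
      have h3 : b * a ^ p * b⁻¹ = z ^ p * a ^ p := by rw [← conj_pow, h1, (hzc a).symm.mul_pow]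
      rw [(hap b).eq, mul_inv_cancel_right] at h3
      exact right_eq_mul.mp h3
    -- `a ^ (-i) * b` has order dividing `p ^ s`
    have hwc : ∀ g, Commute g (z⁻¹ ^ i) := fun g => ((hzc g).inv_right).pow_right i
    have hswap : b * (a ^ i)⁻¹ = z⁻¹ ^ i * ((a ^ i)⁻¹ * b) := by
      have h1 : b * a ^ i * b⁻¹ = z ^ i * a ^ i := by
        rw [← conj_pow, show b * a * b⁻¹ = z * a by rw [hz, inv_mul_cancel_right], (hzc a).symm.mul_pow]
      have h3 : b * (a ^ i)⁻¹ * b⁻¹ = (a ^ i)⁻¹ * z⁻¹ ^ i := by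
        rw [show b * (a ^ i)⁻¹ * b⁻¹ = (b * a ^ i * b⁻¹)⁻¹ by group, h1, mul_inv_rev, inv_pow]
      rw [← mul_assoc, ← (hwc (a ^ i)⁻¹).eq, ← h3, inv_mul_cancel_right]
    have hch : p ∣ (p ^ s).choose 2 := by
      rw [Nat.choose_two_right]
      rcases hp.eq_two_or_odd' with rfl | hodd
      · have h2s : 2 ≤ s := h2.resolve_left (fun h => h rfl)
        obtain ⟨t, rfl⟩ := Nat.exists_eq_add_of_le h2s
        rw [show 2 ^ (2 + t) * (2 ^ (2 + t) - 1) = 2 * (2 * (2 ^ t * (2 ^ (2 + t) - 1))) by ring,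
          Nat.mul_div_cancel_left _ two_pos]
        exact dvd_mul_right 2 _
      · obtain ⟨t, ht⟩ : Odd (p ^ s) := hodd.pow
        rw [ht, Nat.add_sub_cancel, show (2 * t + 1) * (2 * t) = 2 * ((2 * t + 1) * t) by ring,
          Nat.mul_div_cancel_left _ two_pos, ← ht]
        exact (dvd_pow_self p (by omega)).mul_right t
    have hc : ((a ^ i)⁻¹ * b) ^ p ^ s = 1 := by
      rw [mul_pow_choose hwc hswap]
      obtain ⟨d, hd⟩ := hch
      obtain ⟨t, rfl⟩ := Nat.exists_eq_add_of_le hs
      rw [hd, ← pow_mul, mul_comm i (p * d), mul_assoc, pow_mul, inv_pow, hzp, inv_one, one_pow, one_mul,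
        inv_pow, ← pow_mul, pow_add, pow_one, pow_mul b, ← hi, ← pow_mul, ← pow_mul,
        show p * (i * p ^ t) = i * (p * p ^ t) by ring, inv_mul_cancel]
    refine hbM' ?_
    rw [← mul_inv_cancel_left (a ^ i) b]
    exact mul_mem (pow_mem haM' i) (hHM (hleH _ hc))

/-- Let `p` be a prime and `G` a group of order `p ^ m` which has exactly one subgroup of order `p ^ s`, where `1 ≤ s < m`, and where `s ≥ 2` if `p = 2`. Then `G` is cyclic. (For `p = 2` and `s = 1` the generalized quaternion groups also occur; that case is the classical criterion for a unique involution.) -/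
theorem result {G : Type*} [Group G] [Finite G] (p m s : ℕ) (hp : p.Prime) (hG : Nat.card G = p ^ m) (hs : 1 ≤ s) (hsm : s < m) (h2 : p ≠ 2 ∨ 2 ≤ s) (huniq : ∀ H K : Subgroup G, Nat.card H = p ^ s → Nat.card K = p ^ s → H = K) : IsCyclic G := by
  have := Fact.mk hp
  exact cyclic_of_unique hs h2 m hG hsm huniq

end Cfsg.Agent.S3977
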