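import Cfsg.Statements.S3978
import Cfsg.Agent.S3955
import Cfsg.Agent.S3956
import Cfsg.Agent.Lib.Schur.Stem

set_option autoImplicit false
open Cfsg
open Cfsg.Agent.Schur

namespace Cfsg.Agent.S3978

/-- A finite group `Q` has trivial Schur multiplier if and only if, for every `n`, every homomorphism from `Q` to the projective general linear group (the quotient of `GL n ℂ` by its centre) lifts to a homomorphism into `GL n ℂ`. -/
theorem result {Q : Type*} [Group Q] [Finite Q] : Cfsg.HasCyclicSchurMultiplier Q 1 ↔ ∀ (n : ℕ) (γ : Q →* (GL (Fin n) ℂ ⧸ Subgroup.center (GL (Fin n) ℂ))), ∃ ρ : Q →* GL (Fin n) ℂ, (QuotientGroup.mk' (Subgroup.center (GL (Fin n) ℂ))).comp ρ = γ := by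
  let : Subsingleton (MonoidHom.id Q).ker := ⟨fun a b => Subtype.ext (a.2.trans b.2.symm)⟩
  have hid : Cfsg.IsStemExtension (MonoidHom.id Q) := ⟨Function.surjective_id, by simp, by simp⟩
  constructor
  · intro hA n γ
    obtain ⟨ρ, hρ⟩ := Cfsg.Agent.S3955.result hA (MonoidHom.id Q) hid
      ⟨MulEquiv.ofBijective (1 : (MonoidHom.id Q).ker →* Multiplicative (ZMod 1))
        ⟨fun a b _ => Subsingleton.elim a b, fun y => ⟨1, Subsingleton.elim (α := ZMod 1) _ _⟩⟩⟩ n γ
    exact ⟨ρ, hρ.trans (MonoidHom.comp_id γ)⟩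
  · intro hlift
    refine Schur.hasCyclicSchurMultiplier_one fun Γ _ _ τ hτ => ?_
    obtain ⟨f, hf⟩ := Cfsg.Agent.S3956.result (MonoidHom.id Q) hid
      (fun n γ => by
        obtain ⟨ρ, hρ⟩ := hlift n γ
        exact ⟨ρ, hρ.trans (MonoidHom.comp_id γ).symm⟩) Γ τ hτ
    rw [eq_bot_iff]
    intro x hx
    obtain ⟨a, ha⟩ := hf ⟨x, hx⟩
    rw [Subsingleton.elim a 1, map_one] at ha
    exact Subgroup.mem_bot.mpr (congrArg Subtype.val ha).symm

end Cfsg.Agent.S3978
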