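import Cfsg.Statements.S3979
import Mathlib.GroupTheory.SpecificGroups.Cyclic

set_option autoImplicit false
open Cfsg

namespace Cfsg.Agent.S3979

/-- A finite cyclic group has trivial Schur multiplier: every finite stem extension of it is an isomorphism, said through `HasCyclicSchurMultiplier G 1`. -/
theorem result {G : Type*} [Group G] [Finite G] [IsCyclic G] : Cfsg.HasCyclicSchurMultiplier G 1 := by
  refine ⟨⟨G, inferInstance, inferInstance, MonoidHom.id G, ⟨Function.surjective_id, ?_, ?_⟩, ⟨?_⟩⟩, ?_⟩
  · rw [MonoidHom.ker_id]; exact bot_le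
  · rw [MonoidHom.ker_id]; exact bot_le
  · haveI : Subsingleton (MonoidHom.id G).ker := by
      rw [MonoidHom.ker_id]; infer_instance
    haveI : Subsingleton (Multiplicative (ZMod 1)) := inferInstanceAs (Subsingleton (ZMod 1))
    exact { toFun := fun _ => 1
            invFun := fun _ => 1
            left_inv := fun _ => Subsingleton.elim _ _
            right_inv := fun _ => Subsingleton.elim _ _
            map_mul' := fun _ _ => Subsingleton.elim _ _ }
  · intro Γ _ _ σ hσ
    obtain ⟨hs, hc, hd⟩ := hσ
    refine ⟨1, fun z => ⟨1, ?_⟩⟩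
    have hcomm : ∀ a b : Γ, a * b = b * a := fun a b =>
      commutative_of_cyclic_center_quotient σ hc a b
    have hbot : commutator Γ = ⊥ := by
      rw [commutator_eq_closure, Subgroup.closure_eq_bot_iff]
      rintro _ ⟨a, b, rfl⟩
      exact Set.mem_singleton_iff.2 (commutatorElement_eq_one_iff_mul_comm.2 (hcomm a b))
    have hz : (z : Γ) = 1 := Subgroup.mem_bot.1 (hbot ▸ hd z.2)
    rw [MonoidHom.one_apply]
    exact Subtype.ext hz.symm

end Cfsg.Agent.S3979
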