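import Cfsg.Statements.S3980
import Cfsg.Agent.S3959
import Mathlib
-- import your own Cfsg.Agent.* helpers here

set_option autoImplicit false
universe u v w
open Cfsg
open scoped TensorProduct

namespace Cfsg.Agent.S3980

/-- Let `Q₁` and `Q₂` be finite groups whose commutator quotients have coprime orders, with Schur multipliers `A` and `B`. Then the Schur multiplier of `Q₁ × Q₂` is isomorphic to `A × B`. -/
theorem result {Q₁ : Type u} {Q₂ : Type v} [Group Q₁] [Group Q₂] [Finite Q₁] [Finite Q₂] {A B : Type w} [CommGroup A] [CommGroup B] (hA : Cfsg.HasSchurMultiplier Q₁ A) (hB : Cfsg.HasSchurMultiplier Q₂ B) (hcop : Nat.Coprime (Nat.card (Abelianization Q₁)) (Nat.card (Abelianization Q₂))) : Cfsg.HasSchurMultiplier (Q₁ × Q₂) (A × B) := by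
  let T := TensorProduct ℤ (Additive (Abelianization Q₁)) (Additive (Abelianization Q₂))
  have hT : Subsingleton T := by
    refine subsingleton_of_forall_eq 0 fun t => ?_
    induction t using TensorProduct.induction_on with
    | zero => rfl
    | tmul x y =>
      obtain ⟨a, b, hab⟩ := (Nat.isCoprime_iff_coprime.mpr hcop : IsCoprime
        (Nat.card (Abelianization Q₁) : ℤ) (Nat.card (Abelianization Q₂) : ℤ))
      have hx : (Nat.card (Abelianization Q₁) : ℤ) • x = 0 := by
        rw [natCast_zsmul]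
        exact card_nsmul_eq_zero' (G := Additive (Abelianization Q₁))
      have hy : (Nat.card (Abelianization Q₂) : ℤ) • y = 0 := by
        rw [natCast_zsmul]
        exact card_nsmul_eq_zero' (G := Additive (Abelianization Q₂))
      have h1 : (Nat.card (Abelianization Q₁) : ℤ) • (x ⊗ₜ[ℤ] y) = 0 := by
        rw [TensorProduct.smul_tmul', hx, TensorProduct.zero_tmul]
      have h2 : (Nat.card (Abelianization Q₂) : ℤ) • (x ⊗ₜ[ℤ] y) = 0 := by
        rw [← TensorProduct.tmul_smul, hy, TensorProduct.tmul_zero]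
      calc x ⊗ₜ[ℤ] y = (1 : ℤ) • (x ⊗ₜ[ℤ] y) := (one_smul _ _).symm
        _ = 0 := by rw [← hab, add_smul, mul_smul, mul_smul, h1, h2, smul_zero, smul_zero, add_zero]
    | add x y hx hy => rw [hx, hy, add_zero]
  have h := S3959.result hA hB
  let e : A × B × Multiplicative T ≃* A × B :=
    { toFun := fun x => (x.1, x.2.1)
      invFun := fun x => (x.1, x.2, 1)
      left_inv := fun x => Prod.ext rfl (Prod.ext rfl (Multiplicative.toAdd.injective (hT.elim _ _)))
      right_inv := fun x => rfl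
      map_mul' := fun x y => rfl }
  obtain ⟨⟨Γ, iΓ, iF, σ, hσ, ⟨e'⟩⟩, huniv⟩ := h
  refine ⟨⟨Γ, iΓ, iF, σ, hσ, ⟨e'.trans e⟩⟩, fun Δ _ _ τ hτ => ?_⟩
  obtain ⟨f, hf⟩ := huniv Δ τ hτ
  exact ⟨f.comp e.symm.toMonoidHom, hf.comp e.symm.surjective⟩

end Cfsg.Agent.S3980
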