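import Cfsg.Statements.S3981
import Cfsg.Agent.Lib.Coprime.Sylow
-- import your own Cfsg.Agent.* helpers here

set_option autoImplicit false
open Cfsg

namespace Cfsg.Agent.S3981

/-- Let p be an odd prime, Q a p-subgroup of the finite group G and y an involution normalizing Q. Then Q is maximal among the p-subgroups of G normalized by y if and only if the image of y in N_G(Q) ⧸ Q neither inverts nor centralizes any element of order p there; the latter is phrased inside N_G(Q): for every x in N_G(Q) outside Q with x ^ p ∈ Q, neither y x y⁻¹ x nor y x y⁻¹ x⁻¹ lies in Q. -/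
theorem result {G : Type*} [Group G] [Finite G] (p : ℕ) [Fact p.Prime] (hp2 : p ≠ 2) (Q : Subgroup G) (hQ : IsPGroup p ↥Q) (y : G) (hy : orderOf y = 2) (hyQ : y ∈ Subgroup.normalizer (Q : Set G)) : (∀ R : Subgroup G, IsPGroup p ↥R → Q ≤ R → y ∈ Subgroup.normalizer (R : Set G) → R = Q) ↔ ∀ x : G, x ∈ Subgroup.normalizer (Q : Set G) → x ∉ Q → x ^ p ∈ Q → (y * x * y⁻¹ * x ∉ Q ∧ y * x * y⁻¹ * x⁻¹ ∉ Q) := by
  classical
  have hp : p.Prime := Fact.out
  have hy2 : y * y = 1 := by rw [← pow_two, ← hy]; exact pow_orderOf_eq_one y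
  constructor
  · intro hmax x hxN hxQ hxp
    by_contra hcon
    rw [not_and_or, not_not, not_not] at hcon
    have hxpel : IsPGroup p (Subgroup.zpowers x) := by
      obtain ⟨k, hk⟩ := hQ ⟨x ^ p, hxp⟩
      have h1 : x ^ p ^ (k + 1) = 1 := by
        rw [pow_succ', pow_mul]
        exact congrArg Subtype.val hk
      obtain ⟨j, -, hj⟩ := (Nat.dvd_prime_pow hp).1 (orderOf_dvd_of_pow_eq_one h1)
      exact IsPGroup.of_card (by rw [Nat.card_zpowers, hj])
    set R := Subgroup.zpowers x ⊔ Q with hR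
    have hRp : IsPGroup p R := hxpel.to_sup_of_normal_right' hQ (Subgroup.zpowers_le.2 hxN)
    have hxR : x ∈ R := Subgroup.mem_sup_left (Subgroup.mem_zpowers x)
    have hyxR : y * x * y⁻¹ ∈ R := by
      rcases hcon with h | h
      · simpa using R.mul_mem (Subgroup.mem_sup_right h : _ ∈ R) (R.inv_mem hxR)
      · simpa using R.mul_mem (Subgroup.mem_sup_right h : _ ∈ R) hxR
    have hyR : y ∈ Subgroup.normalizer (R : Set G) := by
      refine Cfsg.Agent.Coprime.mem_normalizer_of_conj_smul_eq (Subgroup.eq_of_le_of_card_ge ?_ ?_)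
      · rw [hR, Subgroup.smul_sup]
        refine sup_le ?_ ((Cfsg.Agent.Coprime.conj_smul_eq_self_of_mem hyQ).le.trans le_sup_right)
        show Subgroup.map (MulAut.conj y).toMonoidHom _ ≤ _
        rw [MonoidHom.map_zpowers]
        exact Subgroup.zpowers_le.2 hyxR
      · rw [Cfsg.Agent.Coprime.card_conj_smul]
    exact hxQ ((hmax R hRp le_sup_right hyR) ▸ hxR)
  · intro hall R hRp hQR hyR
    by_contra hne
    set W := Subgroup.normalizer (Q : Set G) with hW
    have hn : (Q.subgroupOf W).Normal := Cfsg.Agent.Coprime.normal_subgroupOf_of_le_normalizer le_rfl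
    let π := QuotientGroup.mk' (Q.subgroupOf W)
    let M : Subgroup (W ⧸ Q.subgroupOf W) := ((R ⊓ W).subgroupOf W).map π
    have hMp : IsPGroup p M := ((hRp.to_le inf_le_left).comap_subtype).map π
    have hM1 : M ≠ ⊥ := by
      intro hbot
      rw [Subgroup.map_eq_bot_iff, QuotientGroup.ker_mk'] at hbot
      have hlt : Q.subgroupOf R < ⊤ :=
        lt_top_iff_ne_top.2 fun ht => hne (le_antisymm (Subgroup.subgroupOf_eq_top.1 ht) hQR)
      have : Group.IsNilpotent R := hRp.isNilpotent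
      obtain ⟨x, hxN, hxQ⟩ := SetLike.exists_of_lt (Group.normalizerCondition_of_isNilpotent _ hlt)
      have hxn : (x : G) ∈ W := by
        refine Subgroup.mem_normalizer_iff.2 fun u => ⟨fun hu => ?_, fun hu => ?_⟩
        · exact (Subgroup.mem_normalizer_iff.1 hxN ⟨u, hQR hu⟩).1 hu
        · have h1 : ((x : G)⁻¹ * ((x : G) * u * (x : G)⁻¹) * x) ∈ Q :=
            (Subgroup.mem_normalizer_iff''.1 hxN ⟨_, hQR hu⟩).1 hu
          convert h1 using 1
          group
      exact hxQ (hbot (show (⟨x, hxn⟩ : W) ∈ (R ⊓ W).subgroupOf W from ⟨x.2, hxn⟩))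
    have := (Subgroup.nontrivial_iff_ne_bot M).2 hM1
    have hZ : Nontrivial (Subgroup.center M) := (Subgroup.nontrivial_iff_ne_bot _).2 hMp.bot_lt_center.ne'
    have hdvd : p ∣ Nat.card (Subgroup.center M) := by
      obtain ⟨n, hn0, hn⟩ := (hMp.to_subgroup (Subgroup.center M)).nontrivial_iff_card.1 hZ
      exact hn ▸ dvd_pow_self p hn0.ne'
    obtain ⟨z₀, hz₀⟩ := exists_prime_orderOf_dvd_card' p hdvd
    set z : W ⧸ Q.subgroupOf W := ((z₀ : M) : W ⧸ Q.subgroupOf W) with hz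
    have hzM : z ∈ M := (z₀ : M).2
    have hzc : ∀ u ∈ M, Commute u z := fun u hu =>
      congrArg Subtype.val (Subgroup.mem_center_iff.1 z₀.2 ⟨u, hu⟩)
    have hzo : orderOf z = p := by rw [hz, Subgroup.orderOf_coe, Subgroup.orderOf_coe, hz₀]
    set Y : W ⧸ Q.subgroupOf W := π ⟨y, hyQ⟩ with hY
    have hYM : ∀ u ∈ M, Y * u * Y⁻¹ ∈ M := by
      rintro _ ⟨⟨r, hr'⟩, hr, rfl⟩
      refine ⟨⟨y, hyQ⟩ * ⟨r, hr'⟩ * (⟨y, hyQ⟩ : W)⁻¹, ?_, by rw [hY, map_mul, map_mul, map_inv]⟩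
      exact ⟨(Subgroup.mem_normalizer_iff.1 hyR r).1 hr.1, W.mul_mem (W.mul_mem hyQ hr') (W.inv_mem hyQ)⟩
    have hYY : Y * Y = 1 := by
      rw [hY, ← map_mul, show (⟨y, hyQ⟩ : W) * ⟨y, hyQ⟩ = 1 from Subtype.ext hy2, map_one]
    have hYi : Y⁻¹ = Y := inv_eq_of_mul_eq_one_right hYY
    set w := Y * z * Y⁻¹ * z with hw
    have hcomm : Commute (Y * z * Y⁻¹) z := hzc _ (hYM z hzM)
    have key : ∃ u ∈ M, u ≠ 1 ∧ u ^ p = 1 ∧ (Y * u * Y⁻¹ * u = 1 ∨ Y * u * Y⁻¹ * u⁻¹ = 1) := by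
      by_cases hw1 : w = 1
      · refine ⟨z, hzM, fun h => hp.ne_one ?_, by rw [← hzo, pow_orderOf_eq_one], Or.inl hw1⟩
        rw [← hzo, h, orderOf_one]
      · refine ⟨w, M.mul_mem (hYM z hzM) hzM, hw1, ?_, Or.inr ?_⟩
        · rw [hw, hcomm.mul_pow, conj_pow, ← hzo, pow_orderOf_eq_one, mul_one, mul_one, mul_inv_cancel]
        · rw [mul_inv_eq_one, hw]
          calc Y * (Y * z * Y⁻¹ * z) * Y⁻¹ = (Y * Y) * z * (Y * Y)⁻¹ * (Y * z * Y⁻¹) := by group
            _ = z * (Y * z * Y⁻¹) := by rw [hYY]; group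
            _ = Y * z * Y⁻¹ * z := hcomm.eq.symm
    obtain ⟨_, ⟨⟨x, hxW⟩, hx, rfl⟩, hu1, hup, hcase⟩ := key
    have hxQ : x ∉ Q := fun h => hu1 ((QuotientGroup.eq_one_iff _).2 h)
    have hxp : x ^ p ∈ Q := by
      rw [← map_pow, QuotientGroup.mk'_apply, QuotientGroup.eq_one_iff] at hup
      exact hup
    obtain ⟨h1, h2⟩ := hall x hxW hxQ hxp
    rcases hcase with h | h <;>
      rw [hY, ← map_inv, ← map_mul, ← map_mul] at h
    · rw [← map_mul, QuotientGroup.mk'_apply, QuotientGroup.eq_one_iff] at h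
      exact h1 h
    · rw [← map_inv, ← map_mul, QuotientGroup.mk'_apply, QuotientGroup.eq_one_iff] at h
      exact h2 h

end Cfsg.Agent.S3981
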