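import Cfsg.Statements.S3982
import Cfsg.Agent.Lib.Coprime.Generation
import Cfsg.Agent.S1124
-- import your own Cfsg.Agent.* helpers here

set_option autoImplicit false
open Cfsg

namespace Cfsg.Agent.S3982

/-- Let p be an odd prime and G a finite group of even order divisible by p in which the centralizer of every non-identity p-element has odd order. If some nontrivial p-subgroup of G has a normalizer of even order, then the normalizer of every Sylow p-subgroup of G has even order. -/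
theorem result {G : Type*} [Group G] [Finite G] (p : ℕ) [Fact p.Prime] (hp2 : p ≠ 2) (hpG : p ∣ Nat.card G) (h2G : 2 ∣ Nat.card G) (hC : ∀ g : G, g ≠ 1 → (∃ k : ℕ, orderOf g = p ^ k) → Odd (Nat.card ↥(Subgroup.centralizer ({g} : Set G)))) (Q : Subgroup G) (hQ : IsPGroup p ↥Q) (hQ1 : Q ≠ ⊥) (hev : Even (Nat.card ↥(Subgroup.normalizer (Q : Set G)))) (P : Sylow p G) : Even (Nat.card ↥(Subgroup.normalizer ((P : Subgroup G) : Set G))) := by
  classical
  obtain ⟨y₀, hy₀⟩ := exists_prime_orderOf_dvd_card' 2 (even_iff_two_dvd.1 hev)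
  set y : G := y₀.1 with hy
  have hyo : orderOf y = 2 := by rw [hy, Subgroup.orderOf_coe, hy₀]
  have hp : p.Prime := Fact.out
  have hyY : Nat.card (Subgroup.zpowers y) = 2 := by rw [Nat.card_zpowers, hyo]
  have hsY : Group.IsSolvable (Subgroup.zpowers y) := Group.isSolvable_of_comm fun a b => mul_comm' a b
  -- a maximal `y`-invariant `p`-subgroup over `Q`
  obtain ⟨R, ⟨hRp, hQR, hyR⟩, hRmax⟩ := Set.Finite.exists_maximalFor (fun R : Subgroup G => Nat.card R)
    {R : Subgroup G | IsPGroup p R ∧ Q ≤ R ∧ y ∈ Subgroup.normalizer (R : Set G)} (Set.toFinite _) ⟨Q, hQ, le_rfl, y₀.2⟩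
  have hR1 : R ≠ ⊥ := fun h => hQ1 (eq_bot_iff.2 (h ▸ hQR))
  -- `y` commutes with no nontrivial `p`-element
  have hnc : ∀ g : G, g ≠ 1 → (∃ k, orderOf g = p ^ k) → ¬ Commute y g := by
    intro g hg hgp hcy
    refine Nat.not_even_iff_odd.2 (hC g hg hgp) (even_iff_two_dvd.2 ?_)
    rw [← hyo]
    exact Subgroup.orderOf_dvd_natCard _ (Subgroup.mem_centralizer_singleton_iff.2 hcy.eq)
  have hord : ∀ {S : Subgroup G}, IsPGroup p S → ∀ g ∈ S, ∃ k, orderOf g = p ^ k := by
    intro S hS g hg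
    obtain ⟨k, hk⟩ := IsPGroup.iff_orderOf.1 hS ⟨g, hg⟩
    exact ⟨k, by rwa [Subgroup.orderOf_mk] at hk⟩
  -- `y` inverts `R`
  have hRo : Odd (Nat.card R) := by
    obtain ⟨k, hk⟩ := hRp.exists_card_eq
    exact hk ▸ (hp.odd_of_ne_two hp2).pow
  have hinv : ∀ x ∈ R, y * x * y⁻¹ = x⁻¹ := by
    intro x hx
    obtain ⟨hmain, -, -⟩ := Cfsg.Agent.S1124.result y hyo R hRo
      (fun z hz => (Subgroup.mem_normalizer_iff.1 hyR z).1 hz)
    obtain ⟨⟨c, i⟩, ⟨hc, hi, hxe⟩, -⟩ := hmain x hx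
    simp only at hc hi hxe
    have hc1 : c = 1 := by
      by_contra hc1
      exact hnc c hc1 (hord hRp c hc.1) (Subgroup.mem_centralizer_singleton_iff.1 hc.2).symm
    rw [hc1, one_mul] at hxe
    subst hxe
    exact hi.2
  set N := Subgroup.normalizer (R : Set G) with hN
  set C := Subgroup.centralizer (R : Set G) with hC'
  have hCN : C ≤ N := Subgroup.centralizer_le_normalizer _
  have hyN : Subgroup.zpowers y ≤ N := Subgroup.zpowers_le.2 hyR
  have hNC : N ≤ Subgroup.normalizer (C : Set G) :=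
    Cfsg.Agent.Coprime.le_normalizer_centralizer le_rfl
  have hRC : R ≤ C := fun x hx => Subgroup.mem_centralizer_iff.2 fun z hz => by
    have h1 := hinv (z * x) (R.mul_mem hz hx)
    rw [show y * (z * x) * y⁻¹ = (y * z * y⁻¹) * (y * x * y⁻¹) by group, hinv z hz, hinv x hx,
      mul_inv_rev] at h1
    have h2 := congrArg (·⁻¹) h1
    simp only [mul_inv_rev, inv_inv] at h2
    exact h2.symm
  have hCo : Odd (Nat.card C) := by
    obtain ⟨r, hr⟩ := Subgroup.ne_bot_iff_exists_ne_one.1 hR1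
    refine Odd.of_dvd_nat (hC r.1 (fun h => hr (Subtype.ext h)) (hord hRp r.1 r.2))
      (Subgroup.card_dvd_of_le (Subgroup.centralizer_le ?_))
    simp
  have hcop : (Nat.card (Subgroup.zpowers y)).Coprime (Nat.card C) :=
    hyY ▸ Nat.coprime_two_left.2 hCo
  -- `R` is a Sylow subgroup of `C`
  obtain ⟨S, hS, hSy⟩ := Cfsg.Agent.Coprime.exists_invariant_sylow_ge (A := Subgroup.zpowers y)
    (hyN.trans hNC) hcop (Or.inl hsY) hRC hRp (Subgroup.zpowers_le.2 hyR)
  set S' := (S : Subgroup C).map C.subtype with hS'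
  have hSR : S' = R := by
    have h1 : IsPGroup p S' ∧ Q ≤ S' ∧ y ∈ Subgroup.normalizer (S' : Set G) :=
      ⟨S.2.map _, hQR.trans hS, hSy (Subgroup.mem_zpowers y)⟩
    exact (Subgroup.eq_of_le_of_card_ge hS (hRmax h1 (Subgroup.card_le_of_le hS))).symm
  -- `N = C_N(y) C`
  have hfix : ∀ n ∈ N, ∃ c ∈ C, n * c ∈ Subgroup.centralizer ((Subgroup.zpowers y : Subgroup G) : Set G) := by
    intro n hn
    refine Cfsg.Agent.Coprime.exists_mul_mem_centralizer (hyN.trans hNC) hcop (Or.inl hsY) fun b hb => ?_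
    have hconj : ∀ z, (∀ w ∈ R, z * w * z⁻¹ = w) → z ∈ C := fun z hz =>
      Subgroup.mem_centralizer_iff.2 fun w hw => (mul_inv_eq_iff_eq_mul.1 (hz w hw)).symm
    have hsq : y * y = 1 := by rw [← pow_two, ← hyo]; exact pow_orderOf_eq_one y
    have hb2 : b = 1 ∨ b = y := by
      obtain ⟨i, rfl⟩ := hb
      rcases Int.even_or_odd i with ⟨j, rfl⟩ | ⟨j, rfl⟩
      · left; show y ^ (j + j) = 1; rw [← two_mul, zpow_mul, zpow_two, hsq, one_zpow]
      · right; show y ^ (2 * j + 1) = y; rw [zpow_add_one, zpow_mul, zpow_two, hsq, one_zpow, one_mul]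
    rcases hb2 with rfl | rfl
    · simp
    · refine hconj _ fun w hw => ?_
      have e0 : y⁻¹ * w * y = w⁻¹ := by
        rw [inv_eq_of_mul_eq_one_right hsq]
        have := hinv w hw
        rwa [inv_eq_of_mul_eq_one_right hsq] at this
      have e1 : n * w⁻¹ * n⁻¹ ∈ R := (Subgroup.mem_normalizer_iff.1 hn _).1 (R.inv_mem hw)
      calc n⁻¹ * y * n * y⁻¹ * w * (n⁻¹ * y * n * y⁻¹)⁻¹
          = n⁻¹ * (y * (n * (y⁻¹ * w * y) * n⁻¹) * y⁻¹) * n := by group
        _ = n⁻¹ * (y * (n * w⁻¹ * n⁻¹) * y⁻¹) * n := by rw [e0]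
        _ = n⁻¹ * (n * w⁻¹ * n⁻¹)⁻¹ * n := by rw [hinv _ e1]
        _ = w := by group
  -- `p` does not divide `|N : R|`
  have hidx : ¬ p ∣ R.relIndex N := by
    rw [← Subgroup.relIndex_mul_relIndex R C N hRC hCN]
    refine (Nat.Prime.not_dvd_mul hp) ?_ ?_
    · have h1 : R.subgroupOf C = (S : Subgroup C) := by
        rw [← hSR, hS']
        exact Subgroup.comap_map_eq_self_of_injective C.subtype_injective _
      show ¬ p ∣ (R.subgroupOf C).index
      rw [h1]
      exact S.not_dvd_index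
    · set D := N ⊓ Subgroup.centralizer ((Subgroup.zpowers y : Subgroup G) : Set G) with hD
      have hsup : D ⊔ C = N := by
        refine le_antisymm (sup_le inf_le_left hCN) fun n hn => ?_
        obtain ⟨c, hc, hnc'⟩ := hfix n hn
        rw [show n = n * c * c⁻¹ by group]
        exact Subgroup.mul_mem_sup (Subgroup.mem_inf.2 ⟨N.mul_mem hn (hCN hc), hnc'⟩) (C.inv_mem hc)
      rw [← hsup, Cfsg.Agent.Coprime.relIndex_sup_right_of_le_normalizer (inf_le_left.trans hNC)]
      intro hd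
      have hdD : p ∣ Nat.card D := hd.trans (C.subgroupOf D).index_dvd_card
      obtain ⟨z, hz⟩ := exists_prime_orderOf_dvd_card' p hdD
      refine hnc z.1 (fun h => ?_) ⟨1, by rw [Subgroup.orderOf_coe, hz, pow_one]⟩
        (Subgroup.mem_centralizer_iff.1 z.2.2 y (Subgroup.mem_zpowers y))
      rw [orderOf_eq_one_iff.2 (Subtype.ext h)] at hz
      exact hp.ne_one hz.symm
  -- hence `R` is a Sylow subgroup
  obtain ⟨P', hP'⟩ := hRp.exists_le_sylow
  have hPR : (P' : Subgroup G) = R := by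
    by_contra hne
    have hlt : R.subgroupOf (P' : Subgroup G) < ⊤ := lt_top_iff_ne_top.2 fun ht =>
      hne (le_antisymm (Subgroup.subgroupOf_eq_top.1 ht) hP')
    have : Group.IsNilpotent (P' : Subgroup G) := P'.2.isNilpotent
    obtain ⟨x, hxN, hxR⟩ := SetLike.exists_of_lt (Group.normalizerCondition_of_isNilpotent _ hlt)
    have hxn : (x : G) ∈ N := by
      refine Subgroup.mem_normalizer_iff.2 fun u => ⟨fun hu => ?_, fun hu => ?_⟩
      · exact (Subgroup.mem_normalizer_iff.1 hxN ⟨u, hP' hu⟩).1 hu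
      · have h1 : ((x : G)⁻¹ * ((x : G) * u * (x : G)⁻¹) * x) ∈ R :=
          (Subgroup.mem_normalizer_iff''.1 hxN ⟨_, hP' hu⟩).1 hu
        convert h1 using 1
        group
    set M := (P' : Subgroup G) ⊓ N with hM
    have hRM : R ≤ M := le_inf hP' Subgroup.le_normalizer
    have h3 : R.relIndex M ∣ R.relIndex N := by
      rw [← Subgroup.relIndex_mul_relIndex R M N hRM inf_le_right]
      exact dvd_mul_right _ _
    obtain ⟨k, hk⟩ := (P'.2.to_le (inf_le_left : M ≤ _)).exists_card_eq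
    obtain ⟨j, -, hj⟩ := (Nat.dvd_prime_pow hp).1
      (hk ▸ (R.subgroupOf M).index_dvd_card : R.relIndex M ∣ p ^ k)
    rcases Nat.eq_zero_or_pos j with rfl | hj0
    · have hMR : M ≤ R := Subgroup.relIndex_eq_one.1 (by simpa using hj)
      exact hxR (hMR (Subgroup.mem_inf.2 ⟨x.2, hxn⟩))
    · exact hidx ((hj ▸ dvd_pow_self p hj0.ne').trans h3)
  obtain ⟨g, hg⟩ := MulAction.exists_smul_eq G P' P
  have hmem : g * y * g⁻¹ ∈ Subgroup.normalizer ((P : Subgroup G) : Set G) := by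
    refine Cfsg.Agent.Coprime.mem_normalizer_of_conj_smul_eq ?_
    rw [← hg, Sylow.coe_subgroup_smul, hPR, Cfsg.Agent.Coprime.conj_smul_smul,
      show g * y * g⁻¹ * g = g * y by group, ← Cfsg.Agent.Coprime.conj_smul_smul,
      Cfsg.Agent.Coprime.conj_smul_eq_self_of_mem hyR]
  refine even_iff_two_dvd.2 ?_
  have h5 := Subgroup.orderOf_dvd_natCard _ hmem
  rwa [show orderOf (g * y * g⁻¹) = 2 by
    rw [show g * y * g⁻¹ = (MulAut.conj g).toMonoidHom y from rfl,
      orderOf_injective (MulAut.conj g).toMonoidHom (MulAut.conj g).injective, hyo]] at h5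

end Cfsg.Agent.S3982
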