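import Cfsg.Statements.S3983
import Cfsg.Agent.Lib.Coprime.Basic

set_option autoImplicit false
open scoped Pointwise
open Cfsg

namespace Cfsg.Agent.S3983

open scoped Pointwise

/-- Two Sylow subgroups with a common non-trivial element are equal. -/
theorem sylow_eq_of_inf_ne_bot {G : Type*} [Group G] [Finite G] {p : ℕ} [Fact p.Prime] (P : Sylow p G)
    (hTI : ∀ g : G, g ∉ Subgroup.normalizer ((P : Subgroup G) : Set G) →
      (P : Subgroup G) ⊓ (MulAut.conj g • (P : Subgroup G)) = ⊥)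
    (R S : Sylow p G) (h : (R : Subgroup G) ⊓ S ≠ ⊥) : R = S := by
  obtain ⟨a, rfl⟩ := MulAction.exists_smul_eq G P R
  obtain ⟨b, rfl⟩ := MulAction.exists_smul_eq G P S
  by_cases hab : a⁻¹ * b ∈ Subgroup.normalizer ((P : Subgroup G) : Set G)
  · have h1 := Sylow.smul_eq_iff_mem_normalizer.2 hab
    rw [mul_smul, inv_smul_eq_iff] at h1
    exact h1.symm
  exfalso
  apply h
  have := congrArg (fun H : Subgroup G => MulAut.conj a • H) (hTI _ hab)
  simp only [Subgroup.smul_inf, Subgroup.smul_bot, smul_smul, ← map_mul, mul_inv_cancel_left] at this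
  rw [Sylow.coe_subgroup_smul, Sylow.coe_subgroup_smul]
  exact this

/-- Let P be a Sylow p-subgroup of the finite group G that meets each conjugate g P g⁻¹ with g outside N_G(P) trivially, and let U be a subgroup of G of order divisible by p. Then a Sylow p-subgroup Q of U has the same property inside U: Q meets each conjugate u Q u⁻¹ with u ∈ U outside N_U(Q) trivially. -/
theorem result {G : Type*} [Group G] [Finite G] (p : ℕ) [Fact p.Prime] (P : Sylow p G) (hTI : ∀ g : G, g ∉ Subgroup.normalizer ((P : Subgroup G) : Set G) → (P : Subgroup G) ⊓ (MulAut.conj g • (P : Subgroup G)) = ⊥) (U : Subgroup G) (hU : p ∣ Nat.card ↥U) (Q : Sylow p ↥U) : ∀ u : ↥U, u ∉ Subgroup.normalizer ((Q : Subgroup ↥U) : Set ↥U) → (Q : Subgroup ↥U) ⊓ (MulAut.conj u • (Q : Subgroup ↥U)) = ⊥ := by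
  intro u hu
  by_contra hne
  apply hu
  obtain ⟨R, hR⟩ := Q.exists_comap_subtype_eq
  obtain ⟨⟨y, hy⟩, hy1⟩ := Subgroup.ne_bot_iff_exists_ne_one.1 hne
  obtain ⟨hyQ, hyu⟩ := hy
  have hyR : (y : G) ∈ (R : Subgroup G) := by
    rw [← hR] at hyQ; exact hyQ
  have hyu' : (y : G) ∈ (((u : G) • R : Sylow p G) : Subgroup G) := by
    replace hyu : y ∈ MulAut.conj u • (Q : Subgroup U) := hyu
    rw [Coprime.mem_conj_smul_iff, ← hR] at hyu
    rw [Sylow.coe_subgroup_smul, Coprime.mem_conj_smul_iff]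
    exact hyu
  have he : R = (u : G) • R := sylow_eq_of_inf_ne_bot P hTI _ _ fun h => by
    have := (Subgroup.eq_bot_iff_forall _).1 h _ ⟨hyR, hyu'⟩
    exact hy1 (Subtype.ext (Subtype.ext this))
  have hn := Sylow.smul_eq_iff_mem_normalizer.1 he.symm
  rw [Subgroup.mem_normalizer_iff]
  intro z
  rw [← hR]
  exact Subgroup.mem_normalizer_iff.1 hn z

end Cfsg.Agent.S3983
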