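import Cfsg.Statements.S3984
import Cfsg.Agent.S3983
import Cfsg.Agent.Lib.Coprime.Basic

set_option autoImplicit false
open scoped Pointwise
open Cfsg

namespace Cfsg.Agent.S3984

open scoped Pointwise

/-- Let P be a Sylow p-subgroup of the finite group G that meets each conjugate g P g⁻¹ with g outside N_G(P) trivially, and let N be a normal subgroup of G of order prime to p. Then every Sylow p-subgroup Q of G ⧸ N meets each conjugate x Q x⁻¹ with x outside its normalizer trivially. -/
theorem result {G : Type*} [Group G] [Finite G] (p : ℕ) [Fact p.Prime] (P : Sylow p G) (hTI : ∀ g : G, g ∉ Subgroup.normalizer ((P : Subgroup G) : Set G) → (P : Subgroup G) ⊓ (MulAut.conj g • (P : Subgroup G)) = ⊥) (N : Subgroup G) [N.Normal] (hN : (Nat.card ↥N).Coprime p) (Q : Sylow p (G ⧸ N)) : ∀ x : G ⧸ N, x ∉ Subgroup.normalizer ((Q : Subgroup (G ⧸ N)) : Set (G ⧸ N)) → (Q : Subgroup (G ⧸ N)) ⊓ (MulAut.conj x • (Q : Subgroup (G ⧸ N))) = ⊥ := by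
  have hp : p.Prime := Fact.out
  intro x hx
  by_contra hne
  apply hx
  refine Sylow.smul_eq_iff_mem_normalizer.1 ?_
  set Q' := x • Q with hQ'
  set f := QuotientGroup.mk' N
  -- lifts of the two Sylow subgroups through a common non-trivial `p`-element
  set H := ((Q : Subgroup (G ⧸ N)) ⊓ (Q' : Subgroup (G ⧸ N))).comap f with hH
  obtain ⟨T⟩ : Nonempty (Sylow p H) := Sylow.nonempty
  set T' : Subgroup G := (T : Subgroup H).map H.subtype with hT'
  have hT'p : IsPGroup p T' := T.isPGroup'.map _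
  have hT'ne : T' ≠ ⊥ := by
    intro h
    have hnp : ¬ p ∣ Nat.card H := by
      intro hd
      have h1 : Nat.card T' = Nat.card T :=
        (Nat.card_congr ((T : Subgroup H).equivMapOfInjective H.subtype H.subtype_injective).toEquiv).symm
      rw [h, Subgroup.card_bot] at h1
      exact T.not_dvd_index (by
        have := Subgroup.card_mul_index (T : Subgroup H)
        rw [← h1, one_mul] at this
        rwa [this])
    apply hne
    have h2 : ((Q : Subgroup (G ⧸ N)) ⊓ (Q' : Subgroup (G ⧸ N))) = ⊥ := by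
      obtain ⟨e, he⟩ := (Q.isPGroup'.to_le
        (inf_le_left : (Q : Subgroup (G ⧸ N)) ⊓ (Q' : Subgroup (G ⧸ N)) ≤ Q)).exists_card_eq
      refine Subgroup.card_eq_one.1 ?_
      rw [he]
      by_contra h1
      apply hnp
      have hd : Nat.card ((Q : Subgroup (G ⧸ N)) ⊓ (Q' : Subgroup (G ⧸ N)) : Subgroup (G ⧸ N)) ∣ Nat.card H := by
        rw [← Subgroup.map_comap_eq_self_of_surjective (QuotientGroup.mk'_surjective N)
          ((Q : Subgroup (G ⧸ N)) ⊓ (Q' : Subgroup (G ⧸ N)))]
        exact Subgroup.card_map_dvd H f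
      refine Dvd.dvd.trans ?_ hd
      rw [he]
      exact dvd_pow_self p (by rintro rfl; exact h1 (pow_zero p))
    rw [← h2, hQ', Sylow.coe_subgroup_smul]
  have hlift : ∀ S : Sylow p (G ⧸ N), T'.map f ≤ S →
      ∃ R : Sylow p G, T' ≤ R ∧ R.mapSurjective (QuotientGroup.mk'_surjective N) = S := by
    intro S hS
    set K := (S : Subgroup (G ⧸ N)).comap f
    have hTK : T' ≤ K := Subgroup.map_le_iff_le_comap.1 hS
    obtain ⟨T1, hT1⟩ := (hT'p.of_equiv (Subgroup.subgroupOfEquivOfLe hTK).symm).exists_le_sylow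
    obtain ⟨R, hR⟩ := T1.exists_comap_subtype_eq
    refine ⟨R, fun t ht => ?_, Sylow.ext ?_⟩
    · have := hT1 (show (⟨t, hTK ht⟩ : K) ∈ T'.subgroupOf K from ht)
      rw [← hR] at this
      exact this
    · rw [Sylow.coe_mapSurjective]
      refine S.is_maximal' (R.isPGroup'.map _) ?_
      intro z hz
      -- `T1` maps onto `S`
      let g : K →* (S : Subgroup (G ⧸ N)) := (f.comp K.subtype).codRestrict _ fun k => k.2
      have hg : Function.Surjective g := by
        rintro ⟨w, hw⟩
        obtain ⟨w', rfl⟩ := QuotientGroup.mk'_surjective N w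
        exact ⟨⟨w', hw⟩, rfl⟩
      have htop : ((T1.mapSurjective hg : Sylow p (S : Subgroup (G ⧸ N))) :
          Subgroup (S : Subgroup (G ⧸ N))) = ⊤ :=
        ((T1.mapSurjective hg).is_maximal' (Q := ⊤)
          (fun y => by
            obtain ⟨k, hk⟩ := S.isPGroup' y.1
            exact ⟨k, Subtype.ext hk⟩) le_top).symm
      rw [Sylow.coe_mapSurjective] at htop
      obtain ⟨k, hk, hkz⟩ := htop.ge (Subgroup.mem_top (⟨z, hz⟩ : (S : Subgroup (G ⧸ N))))
      rw [← hR] at hk
      exact ⟨k, hk, congrArg Subtype.val hkz⟩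
  have hT'H : T'.map f ≤ (Q : Subgroup (G ⧸ N)) ⊓ (Q' : Subgroup (G ⧸ N)) :=
    Subgroup.map_le_iff_le_comap.2 (Subgroup.map_subtype_le _)
  obtain ⟨R, hTR, hR⟩ := hlift Q (hT'H.trans inf_le_left)
  obtain ⟨R', hTR', hR'⟩ := hlift Q' (hT'H.trans inf_le_right)
  have := S3983.sylow_eq_of_inf_ne_bot P hTI R R' fun h =>
    hT'ne (eq_bot_iff.2 ((le_inf hTR hTR').trans h.le))
  rw [← hR', ← this, hR]

end Cfsg.Agent.S3984
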