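import Cfsg.Statements.S3985
import Mathlib.NumberTheory.Basic
import Cfsg.Agent.S3983
import Cfsg.Agent.Lib.Coprime.Basic

set_option autoImplicit false
open scoped Pointwise
open Cfsg

namespace Cfsg.Agent.S3985

open scoped Pointwise

/-- A subgroup containing two coprime powers of an element contains the element. -/
theorem mem_of_pow_mem_of_pow_mem {G : Type*} [Group G] {H : Subgroup G} {g : G} {i j : ℕ}
    (h : i.Coprime j) (hi : g ^ i ∈ H) (hj : g ^ j ∈ H) : g ∈ H := by
  have e : (1 : ℤ) = i * i.gcdA j + j * i.gcdB j := by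
    rw [← Nat.gcd_eq_gcd_ab, h, Nat.cast_one]
  rw [← zpow_one g, e, zpow_add, zpow_mul, zpow_mul, zpow_natCast, zpow_natCast]
  exact mul_mem (zpow_mem hi _) (zpow_mem hj _)

/-- An element raising `y` to a power `≡ 1 (mod p)` has a `p`-power centralising the `p`-element `y`. -/
theorem commute_pow_of_conj_eq_zpow {G : Type*} [Group G] {p n : ℕ} {g y : G} {r : ℤ}
    (hr : g * y * g⁻¹ = y ^ r) (hy : y ^ p ^ n = 1) (hp : (p : ℤ) ∣ r - 1) :
    Commute (g ^ p ^ n) y := by
  have hit : ∀ i : ℕ, g ^ i * y * (g ^ i)⁻¹ = y ^ (r ^ i) := by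
    intro i
    induction i with
    | zero => simp
    | succ i ih =>
      rw [pow_succ' g, show g * g ^ i * y * (g * g ^ i)⁻¹ = g * (g ^ i * y * (g ^ i)⁻¹) * g⁻¹ by group,
        ih, ← conj_zpow, hr, ← zpow_mul, ← pow_succ']
  obtain ⟨c, hc⟩ := dvd_sub_pow_of_dvd_sub hp n
  rw [one_pow] at hc
  have h1 : g ^ p ^ n * y * (g ^ p ^ n)⁻¹ = y := by
    rw [hit, show r ^ p ^ n = 1 + ((p ^ n : ℕ) : ℤ) * (p * c) by
      rw [eq_add_of_sub_eq hc, add_comm, pow_succ, Nat.cast_pow, mul_assoc],
      zpow_add, zpow_one, zpow_mul, zpow_natCast, hy, one_zpow, mul_one]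
  exact mul_inv_eq_iff_eq_mul.1 h1

/-- Let P be a cyclic Sylow p-subgroup of the finite group G. Then P meets each conjugate g P g⁻¹ with g outside N_G(P) trivially if and only if P is weakly self-centralizing: C_G(x) = C_G(P) for every non-identity x ∈ P. -/
theorem result {G : Type*} [Group G] [Finite G] (p : ℕ) [Fact p.Prime] (P : Sylow p G) (hcyc : IsCyclic ↥(P : Subgroup G)) : (∀ g : G, g ∉ Subgroup.normalizer ((P : Subgroup G) : Set G) → (P : Subgroup G) ⊓ (MulAut.conj g • (P : Subgroup G)) = ⊥) ↔ ∀ x : G, x ∈ (P : Subgroup G) → x ≠ 1 → Subgroup.centralizer ({x} : Set G) = Subgroup.centralizer ((P : Subgroup G) : Set G) := by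
  have hp : p.Prime := Fact.out
  set PP := (P : Subgroup G) with hPP
  obtain ⟨y0, hy0⟩ := hcyc.exists_generator
  have hcomm : ∀ a ∈ PP, ∀ b ∈ PP, a * b = b * a := by
    intro a ha b hb
    obtain ⟨i, hi⟩ := hy0 ⟨a, ha⟩
    obtain ⟨j, hj⟩ := hy0 ⟨b, hb⟩
    rw [show a = ((y0 ^ i : PP) : G) from (congrArg Subtype.val hi).symm,
      show b = ((y0 ^ j : PP) : G) from (congrArg Subtype.val hj).symm]
    exact congrArg Subtype.val (zpow_mul_comm y0 i j)
  constructor
  · intro hTI x hx hx1
    refine le_antisymm (fun g hg => ?_) (Subgroup.centralizer_le (Set.singleton_subset_iff.2 hx))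
    rw [Subgroup.mem_centralizer_singleton_iff] at hg
    have hgN : g ∈ Subgroup.normalizer (PP : Set G) := by
      by_contra h
      have hmem : x ∈ PP ⊓ MulAut.conj g • PP := ⟨hx, by
        show x ∈ MulAut.conj g • PP
        rw [Coprime.mem_conj_smul_iff, mul_assoc, ← hg, inv_mul_cancel_left]
        exact hx⟩
      rw [hTI g h, Subgroup.mem_bot] at hmem
      exact hx1 hmem
    obtain ⟨r, hr⟩ := hy0 ⟨g * (y0 : G) * g⁻¹, (Subgroup.mem_normalizer_iff.1 hgN _).1 y0.2⟩
    have hr' : g * (y0 : G) * g⁻¹ = (y0 : G) ^ r := (congrArg Subtype.val hr).symm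
    obtain ⟨j, hj⟩ := hy0 ⟨x, hx⟩
    have hj' : (y0 : G) ^ j = x := congrArg Subtype.val hj
    have hxr : x ^ r = x := by
      conv_rhs => rw [← mul_inv_cancel_right x g, ← hg]
      rw [← hj', ← conj_zpow, hr', ← zpow_mul, ← zpow_mul, mul_comm]
    have hpr : (p : ℤ) ∣ r - 1 := by
      have h1 : x ^ (r - 1) = 1 := by rw [zpow_sub, hxr, zpow_one, mul_inv_cancel]
      have h2 : p ∣ orderOf x := by
        obtain ⟨k, hk⟩ := P.isPGroup' ⟨x, hx⟩
        obtain ⟨i, -, hi⟩ := (Nat.dvd_prime_pow hp).1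
          (orderOf_dvd_of_pow_eq_one (show x ^ p ^ k = 1 from congrArg Subtype.val hk))
        rw [hi]
        refine dvd_pow_self p ?_
        rintro rfl
        exact hx1 (orderOf_eq_one_iff.1 (by rw [hi, pow_zero]))
      exact (Int.natCast_dvd_natCast.2 h2).trans (orderOf_dvd_iff_zpow_eq_one.2 h1)
    obtain ⟨n, hn⟩ := P.isPGroup' y0
    have hgp := commute_pow_of_conj_eq_zpow hr' (congrArg Subtype.val hn) hpr
    have hC : ∀ h : G, Commute h (y0 : G) → h ∈ Subgroup.centralizer (PP : Set G) := by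
      intro h hh
      rw [Subgroup.mem_centralizer_iff]
      intro a ha
      obtain ⟨i, hi⟩ := hy0 ⟨a, ha⟩
      rw [show a = (y0 : G) ^ i from (congrArg Subtype.val hi).symm]
      exact (hh.zpow_right i).eq.symm
    obtain ⟨m, hm, hgm⟩ := Nat.exists_eq_pow_mul_and_not_dvd (orderOf_pos g).ne' p hp.ne_one
    refine mem_of_pow_mem_of_pow_mem (i := p ^ n) (j := hm) ?_ (hC _ hgp) ?_
    · exact Nat.Coprime.pow_left n (hp.coprime_iff_not_dvd.2 hgm.1)
    · -- the `p`-part lies in `P`
      have hgmP : g ^ hm ∈ PP := by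
        have hz : IsPGroup p (Subgroup.zpowers (g ^ hm)) := by
          refine IsPGroup.of_card (n := m) ?_
          rw [Nat.card_zpowers, orderOf_pow, hgm.2, Nat.gcd_mul_left_left, Nat.mul_div_cancel _
            (Nat.pos_of_ne_zero fun h => by
              rw [h, mul_zero] at hgm; exact (orderOf_pos g).ne' hgm.2)]
        have hle := P.is_maximal' (hz.to_sup_of_normal_right' P.isPGroup'
          (Subgroup.zpowers_le.2 (pow_mem hgN _))) le_sup_right
        exact hle.le (Subgroup.mem_sup_left (Subgroup.mem_zpowers _))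
      exact Subgroup.mem_centralizer_iff.2 fun a ha => hcomm a ha _ hgmP
  · intro hC g hg
    by_contra hne
    apply hg
    obtain ⟨⟨y, hy⟩, hy1⟩ := Subgroup.ne_bot_iff_exists_ne_one.1 hne
    obtain ⟨hyP, hyg⟩ := hy
    refine Sylow.smul_eq_iff_mem_normalizer.1 (Sylow.ext ?_)
    have hle : ((g • P : Sylow p G) : Subgroup G) ≤ Subgroup.normalizer (PP : Set G) := by
      intro z hz
      rw [Sylow.coe_subgroup_smul, Coprime.mem_conj_smul_iff] at hz
      replace hyg : y ∈ MulAut.conj g • PP := hyg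
      rw [Coprime.mem_conj_smul_iff] at hyg
      have hzy : z * y = y * z := by
        have := hcomm _ hz _ hyg
        calc z * y = g * ((g⁻¹ * z * g) * (g⁻¹ * y * g)) * g⁻¹ := by group
          _ = g * ((g⁻¹ * y * g) * (g⁻¹ * z * g)) * g⁻¹ := by rw [this]
          _ = y * z := by group
      have hz' : z ∈ Subgroup.centralizer (PP : Set G) := by
        rw [← hC y hyP fun h => hy1 (Subtype.ext h), Subgroup.mem_centralizer_singleton_iff]
        exact hzy
      exact Subgroup.centralizer_le_normalizer _ hz'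
    have h1 := P.is_maximal' ((g • P).isPGroup'.to_sup_of_normal_right' P.isPGroup' hle) le_sup_right
    exact ((g • P).is_maximal' P.isPGroup' (le_sup_left.trans h1.le)).symm

end Cfsg.Agent.S3985
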