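import Cfsg.Statements.S3986
import Cfsg.Agent.Lib.PrimeParts.Basic
import Cfsg.Agent.Lib.Components.Fitting
import Mathlib.GroupTheory.SchurZassenhaus

set_option autoImplicit false
open Cfsg

namespace Cfsg.Agent.S3986

/-- The factor of a Sylow direct factor decomposition contains the prime-to-`p` elements. -/
theorem mem_of_orderOf_coprime {G : Type*} [Group G] [Finite G] {p : ℕ} [Fact p.Prime]
    (P : Sylow p G) (K : Subgroup G) [K.Normal] (hs : (P : Subgroup G) ⊔ K = ⊤) {y : G}
    (hy : (orderOf y).Coprime p) : y ∈ K := by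
  have hi : K.index ∣ Nat.card (P : Subgroup G) := by
    have : K.index = K.relIndex (P : Subgroup G) := by
      rw [← Subgroup.relIndex_sup_left (P : Subgroup G) K, sup_comm, hs, Subgroup.relIndex_top_right]
    rw [this]
    exact Subgroup.index_dvd_card _
  obtain ⟨n, hn⟩ := P.isPGroup'.exists_card_eq
  have h1 : orderOf (QuotientGroup.mk' K y) ∣ p ^ n :=
    hn ▸ (K.index_eq_card ▸ orderOf_dvd_natCard (QuotientGroup.mk' K y)).trans hi
  have h2 : orderOf (QuotientGroup.mk' K y) ∣ orderOf y := orderOf_map_dvd _ _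
  exact (QuotientGroup.eq_one_iff y).1 (orderOf_eq_one_iff.1
    (Nat.eq_one_of_dvd_coprimes (hy.symm.pow_left n) h1 h2))

theorem mem_of_orderOf_pow {G : Type*} [Group G] [Finite G] {p : ℕ} [Fact p.Prime]
    (P : Sylow p G) [(P : Subgroup G).Normal] {x : G} {a : ℕ} (hx : orderOf x = p ^ a) :
    x ∈ (P : Subgroup G) := by
  obtain ⟨Q, hQ⟩ := (IsPGroup.of_card (G := Subgroup.zpowers x) (p := p) (n := a)
    (by rw [Nat.card_zpowers, hx])).exists_le_sylow
  have : Q = P := (Sylow.unique_of_normal P inferInstance).uniq Q |>.trans ((Sylow.unique_of_normal P inferInstance).uniq P).symm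
  exact this ▸ hQ (Subgroup.mem_zpowers x)

/-- Let p be a prime and G a finite group. Then some Sylow p-subgroup of G is a direct factor of G (it is normal and has a normal complement) if and only if every element of p-power order commutes with every element whose order is a power of a prime other than p. -/
theorem result {G : Type*} [Group G] [Finite G] (p : ℕ) [Fact p.Prime] : (∃ (P : Sylow p G) (K : Subgroup G), (P : Subgroup G).Normal ∧ K.Normal ∧ (P : Subgroup G) ⊓ K = ⊥ ∧ (P : Subgroup G) ⊔ K = ⊤) ↔ ∀ x y : G, (∃ a : ℕ, orderOf x = p ^ a) → (∃ q b : ℕ, q.Prime ∧ q ≠ p ∧ orderOf y = q ^ b) → x * y = y * x := by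
  constructor
  · rintro ⟨P, K, hP, hK, hinf, hsup⟩ x y ⟨a, ha⟩ ⟨q, b, hq, hqp, hb⟩
    exact Subgroup.commute_of_normal_of_disjoint _ _ hP hK (disjoint_iff.2 hinf) x y
      (mem_of_orderOf_pow P ha)
      (mem_of_orderOf_coprime P K hsup (hb ▸ ((Nat.coprime_primes hq Fact.out).2 hqp).pow_left b))
  · intro h
    have hp : p.Prime := Fact.out
    let P : Sylow p G := default
    have hPcen : ∀ (q b : ℕ), q.Prime → q ≠ p → ∀ y : G, orderOf y = q ^ b →
        y ∈ Subgroup.centralizer ((P : Subgroup G) : Set G) := by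
      intro q b hq hqp y hy
      rw [Subgroup.mem_centralizer_iff]
      intro x hx
      obtain ⟨a, ha⟩ := IsPGroup.iff_orderOf.1 P.isPGroup' ⟨x, hx⟩
      exact h x y ⟨a, by rw [← ha, Subgroup.orderOf_mk]⟩ ⟨q, b, hq, hqp, hy⟩
    have htop : Subgroup.normalizer ((P : Subgroup G) : Set G) = ⊤ := by
      refine Components.eq_top_of_forall_sylow fun q hq _ => ?_
      haveI := Fact.mk hq
      by_cases hqp : q = p
      · subst hqp
        exact ⟨P, Subgroup.le_normalizer⟩
      · refine ⟨default, fun y hy => ?_⟩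
        obtain ⟨b, hb⟩ := IsPGroup.iff_orderOf.1 (default : Sylow q G).isPGroup' ⟨y, hy⟩
        rw [← Subgroup.orderOf_coe] at hb
        have hc := hPcen q b hq hqp y hb
        refine Subgroup.mem_normalizer_iff.2 fun x => ?_
        rw [Subgroup.mem_centralizer_iff] at hc
        constructor
        · intro hx; rw [← hc x hx, mul_inv_cancel_right]; exact hx
        · intro hx
          have h2 := hc _ hx
          rw [inv_mul_cancel_right] at h2
          have h3 : y * x * y⁻¹ = x := mul_left_cancel (a := y) h2.symm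
          rwa [h3] at hx
    haveI hPn : (P : Subgroup G).Normal := Subgroup.normalizer_eq_top_iff.1 htop
    obtain ⟨K, hK⟩ := Subgroup.exists_right_complement'_of_coprime
      (P.card_coprime_index : (Nat.card (P : Subgroup G)).Coprime (P : Subgroup G).index)
    have hKp : ¬ p ∣ Nat.card K := by rw [← hK.symm.index_eq_card]; exact P.not_dvd_index
    have hKc : K ≤ Subgroup.centralizer ((P : Subgroup G) : Set G) := by
      intro y hy
      by_contra hn
      obtain ⟨q, b, z, hq, hqd, -, hz, hzn⟩ := PrimeParts.exists_part_not_mem hn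
      exact hzn (hPcen q b hq
        (fun he => hKp (he ▸ hqd.trans (Subgroup.orderOf_dvd_natCard K hy))) z hz)
    refine ⟨P, K, hPn, ⟨fun y hy g => ?_⟩, hK.disjoint.eq_bot, hK.sup_eq_top⟩
    obtain ⟨⟨x, z⟩, hxz, -⟩ := hK.existsUnique g
    simp only at hxz
    have hcz : (z : G) * y * (z : G)⁻¹ ∈ K := mul_mem (mul_mem z.2 hy) (inv_mem z.2)
    have h2 := Subgroup.mem_centralizer_iff.1 (hKc hcz) x x.2
    have : g * y * g⁻¹ = (z : G) * y * (z : G)⁻¹ := by
      rw [← hxz, mul_inv_rev]
      calc (x : G) * z * y * ((z : G)⁻¹ * (x : G)⁻¹)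
          = (x : G) * ((z : G) * y * (z : G)⁻¹) * (x : G)⁻¹ := by group
        _ = (z : G) * y * (z : G)⁻¹ := by rw [h2, mul_inv_cancel_right]
    rw [this]; exact hcz

end Cfsg.Agent.S3986
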