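import Cfsg.Statements.S3987
import Cfsg.Agent.S3986

set_option autoImplicit false
open Cfsg

namespace Cfsg.Agent.S3987

theorem mem_zpowers_mul {G : Type*} [Group G] {x y : G} (hc : Commute x y)
    (hco : (orderOf x).Coprime (orderOf y)) : x ∈ Subgroup.zpowers (x * y) := by
  have hb := Nat.gcd_eq_gcd_ab (orderOf x) (orderOf y)
  rw [hco, Nat.cast_one] at hb
  refine ⟨(orderOf y : ℤ) * Nat.gcdB (orderOf x) (orderOf y), ?_⟩
  change (x * y) ^ _ = x
  rw [hc.mul_zpow]
  nth_rw 2 [zpow_mul]
  rw [zpow_natCast y, pow_orderOf_eq_one, one_zpow, mul_one]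
  conv_rhs => rw [← zpow_one x, hb, zpow_add, zpow_mul x (orderOf x : ℤ), zpow_natCast,
    pow_orderOf_eq_one, one_zpow, one_mul]

/-- Let p be a prime and G a finite group. Then some Sylow p-subgroup of G is a direct factor of G (normal with a normal complement) if and only if for every element x of p-power order and every element y whose order is a power of a prime other than p, the conjugacy class of x y has as many elements as the product of the sizes of the classes of x and of y. -/
theorem result {G : Type*} [Group G] [Finite G] (p : ℕ) [Fact p.Prime] : (∃ (P : Sylow p G) (K : Subgroup G), (P : Subgroup G).Normal ∧ K.Normal ∧ (P : Subgroup G) ⊓ K = ⊥ ∧ (P : Subgroup G) ⊔ K = ⊤) ↔ ∀ x y : G, (∃ a : ℕ, orderOf x = p ^ a) → (∃ q b : ℕ, q.Prime ∧ q ≠ p ∧ orderOf y = q ^ b) → (Subgroup.centralizer ({x * y} : Set G)).index = (Subgroup.centralizer ({x} : Set G)).index * (Subgroup.centralizer ({y} : Set G)).index := by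
  constructor
  · rintro ⟨P, K, hP, hK, hinf, hsup⟩ x y ⟨a, ha⟩ ⟨q, b, hq, hqp, hb⟩
    have hp : p.Prime := Fact.out
    have hxP := S3986.mem_of_orderOf_pow P ha
    have hcop : (orderOf y).Coprime p := hb ▸ ((Nat.coprime_primes hq hp).2 hqp).pow_left b
    have hyK := S3986.mem_of_orderOf_coprime P K hsup hcop
    have hdis := disjoint_iff.2 hinf
    have hc : Commute x y := Subgroup.commute_of_normal_of_disjoint _ _ hP hK hdis x y hxP hyK
    have hxy : (orderOf x).Coprime (orderOf y) := ha ▸ (hcop.symm.pow_left a)
    have hx' := mem_zpowers_mul hc hxy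
    have hy' : y ∈ Subgroup.zpowers (x * y) := by
      have := mem_zpowers_mul hc.symm hxy.symm
      rwa [hc.symm.eq] at this
    set A := Subgroup.centralizer ({x} : Set G) with hA
    set B := Subgroup.centralizer ({y} : Set G) with hB
    have hAB : Subgroup.centralizer ({x * y} : Set G) = A ⊓ B := by
      ext g
      simp only [hA, hB, Subgroup.mem_inf, Subgroup.mem_centralizer_singleton_iff]
      constructor
      · intro hg
        have hg' : Commute g (x * y) := hg
        obtain ⟨i, hi⟩ := hx'
        obtain ⟨j, hj⟩ := hy'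
        simp only at hi hj
        refine ⟨?_, ?_⟩
        · rw [← hi]; exact (hg'.zpow_right i).eq
        · rw [← hj]; exact (hg'.zpow_right j).eq
      · rintro ⟨h1, h2⟩
        exact ((show Commute g x from h1).mul_right (show Commute g y from h2)).eq
    have hKA : K ≤ A := fun z hz => Subgroup.mem_centralizer_singleton_iff.2
      ((Subgroup.commute_of_normal_of_disjoint _ _ hP hK hdis x z hxP hz).symm.eq)
    have hPB : (P : Subgroup G) ≤ B := fun z hz => Subgroup.mem_centralizer_singleton_iff.2
      (Subgroup.commute_of_normal_of_disjoint _ _ hP hK hdis z y hz hyK).eq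
    have hKi : K.index ∣ Nat.card (P : Subgroup G) := by
      haveI := hK
      have : K.index = K.relIndex (P : Subgroup G) := by
        rw [← Subgroup.relIndex_sup_left (P : Subgroup G) K, sup_comm, hsup,
          Subgroup.relIndex_top_right]
      rw [this]
      exact Subgroup.index_dvd_card _
    have hco : Nat.Coprime A.index B.index :=
      Nat.Coprime.coprime_dvd_left ((Subgroup.index_dvd_of_le hKA).trans hKi)
        (Nat.Coprime.coprime_dvd_right (Subgroup.index_dvd_of_le hPB) P.card_coprime_index)
    rw [hAB]
    refine le_antisymm Subgroup.index_inf_le (Nat.le_of_dvd ?_ ?_)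
    · exact Nat.pos_of_ne_zero Subgroup.index_ne_zero_of_finite
    · exact hco.mul_dvd_of_dvd_of_dvd (Subgroup.index_dvd_of_le inf_le_left)
        (Subgroup.index_dvd_of_le inf_le_right)
  · intro h
    refine (S3986.result p).2 fun x y hx hy => ?_
    have h1 := h x y hx hy
    set A := Subgroup.centralizer ({x} : Set G) with hA
    set B := Subgroup.centralizer ({y} : Set G) with hB
    set C := Subgroup.centralizer ({x * y} : Set G) with hC
    have hle : A ⊓ B ≤ C := by
      intro g hg
      obtain ⟨h2, h3⟩ := Subgroup.mem_inf.1 hg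
      rw [hA, Subgroup.mem_centralizer_singleton_iff] at h2
      rw [hB, Subgroup.mem_centralizer_singleton_iff] at h3
      rw [hC, Subgroup.mem_centralizer_singleton_iff]
      exact ((show Commute g x from h2).mul_right (show Commute g y from h3)).eq
    have hcard : Nat.card C ≤ Nat.card (A ⊓ B : Subgroup G) := by
      have h2 : (A ⊓ B).index ≤ C.index := h1 ▸ Subgroup.index_inf_le
      have h3 := C.card_mul_index
      have h4 := (A ⊓ B).card_mul_index
      by_contra hlt
      push Not at hlt
      have h5 : 0 < (A ⊓ B).index := Nat.pos_of_ne_zero Subgroup.index_ne_zero_of_finite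
      have h6 : Nat.card (A ⊓ B : Subgroup G) * (A ⊓ B).index < Nat.card C * (A ⊓ B).index :=
        Nat.mul_lt_mul_of_pos_right hlt h5
      have h7 : Nat.card C * C.index < Nat.card C * (A ⊓ B).index := by rw [h3, ← h4]; exact h6
      exact absurd (Nat.lt_of_mul_lt_mul_left h7) (not_lt.2 h2)
    have heq : A ⊓ B = C := Subgroup.eq_of_le_of_card_ge hle hcard
    have hmem : x * y ∈ C := Subgroup.mem_centralizer_singleton_iff.2 rfl
    rw [← heq, hA, hB, Subgroup.mem_inf, Subgroup.mem_centralizer_singleton_iff] at hmem
    have := hmem.1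
    rw [mul_assoc] at this
    exact (mul_left_cancel this).symm

end Cfsg.Agent.S3987
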