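import Cfsg.Statements.S3989
import Cfsg.Agent.Lib.PrimeParts.Basic
import Cfsg.Agent.Lib.PCore.PSolvable
import Cfsg.Agent.Lib.Transfer.Frobenius
import Cfsg.Agent.Lib.Solvable.Basic

set_option autoImplicit false
open Cfsg

namespace Cfsg.Agent.S3989


/-- The hypothesis of the theorem. -/
def ClassProd (G : Type*) [Group G] (p : ℕ) : Prop :=
  ∀ x y : G, (∃ a : ℕ, orderOf x = p ^ a) → (∃ q b : ℕ, q.Prime ∧ q ≠ p ∧ orderOf y = q ^ b) →
    ∀ z : G, IsConj (x * y) z ↔ ∃ a b : G, z = a * x * a⁻¹ * (b * y * b⁻¹)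

theorem classProd_quotient {G : Type*} [Group G] [Finite G] {p : ℕ} (hp : p.Prime)
    (h : ClassProd G p) (N : Subgroup G) [N.Normal] : ClassProd (G ⧸ N) p := by
  have hf := QuotientGroup.mk'_surjective N
  rintro x y ⟨a, ha⟩ ⟨q, b, hq, hqp, hb⟩ z
  obtain ⟨x, a', rfl, ha'⟩ := PrimeParts.exists_primePow_lift _ hf hp ha
  obtain ⟨y, b', rfl, hb'⟩ := PrimeParts.exists_primePow_lift _ hf hq hb
  constructor
  · intro hc
    obtain ⟨c, hc⟩ := isConj_iff.1 hc
    obtain ⟨c, rfl⟩ := hf c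
    obtain ⟨u, v, huv⟩ := (h x y ⟨a', ha'⟩ ⟨q, b', hq, hqp, hb'⟩ (c * (x * y) * c⁻¹)).1
      (isConj_iff.2 ⟨c, rfl⟩)
    refine ⟨QuotientGroup.mk' N u, QuotientGroup.mk' N v, ?_⟩
    rw [← hc]
    simp only [← map_inv, ← map_mul, huv]
  · rintro ⟨u, v, rfl⟩
    obtain ⟨u, rfl⟩ := hf u
    obtain ⟨v, rfl⟩ := hf v
    have hc := (h x y ⟨a', ha'⟩ ⟨q, b', hq, hqp, hb'⟩ _).2 ⟨u, v, rfl⟩
    simp only [← map_inv, ← map_mul]
    exact (QuotientGroup.mk' N).map_isConj hc

/-- A minimal normal subgroup has a normal `p`-complement. -/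
theorem hasNormalPComplement_minimal {G : Type*} [Group G] [Finite G] {p : ℕ} [Fact p.Prime]
    (h : ClassProd G p) (N : Subgroup G) [N.Normal]
    (hmin : ∀ M : Subgroup G, M.Normal → M ≤ N → M = ⊥ ∨ M = N) :
    Cfsg.HasNormalPComplement p N := by
  let P : Sylow p N := default
  refine Transfer.hasNormalPComplement_of_centralizer P fun Q hQ g hg hco => ?_
  by_contra hgc
  obtain ⟨q, b, y, hq, hqd, hy, hyo, hyc⟩ := PrimeParts.exists_part_not_mem hgc
  have hqp : q ≠ p := by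
    rintro rfl
    exact Nat.Prime.not_coprime_iff_dvd.2 ⟨q, hq, hqd, dvd_rfl⟩ hco
  have hyn : y ∈ Subgroup.normalizer (Q : Set N) := Subgroup.zpowers_le.2 hg hy
  obtain ⟨c0, hc0, hne⟩ : ∃ c ∈ Q, c * y ≠ y * c := by
    simpa [Subgroup.mem_centralizer_iff] using hyc
  let cN : N := y⁻¹ * c0⁻¹ * y * c0
  have hcQ : cN ∈ Q := by
    refine mul_mem ?_ hc0
    have := (Subgroup.mem_normalizer_iff.1 (inv_mem hyn) c0⁻¹).1 (inv_mem hc0)
    simpa using this
  have hcne : cN ≠ 1 := fun h1 => hne <| by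
    have h2 : y⁻¹ * c0⁻¹ * y * c0 = 1 := h1
    calc c0 * y = c0 * y * (y⁻¹ * c0⁻¹ * y * c0) := by rw [h2, mul_one]
      _ = y * c0 := by group
  set c : G := (cN : G) with hcdef
  set Y : G := (y : G) with hYdef
  have hc : ∃ a : ℕ, orderOf c = p ^ a := by
    obtain ⟨k, hk⟩ := IsPGroup.iff_orderOf.1 (P.isPGroup'.to_le hQ) ⟨cN, hcQ⟩
    exact ⟨k, by rw [← hk, hcdef, Subgroup.orderOf_coe, ← Subgroup.orderOf_coe ⟨cN, hcQ⟩]⟩
  have hY : orderOf Y = q ^ b := by rw [hYdef, Subgroup.orderOf_coe, hyo]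
  have hconj : IsConj (c * Y) Y := by
    refine isConj_iff.2 ⟨(c0 : G) * Y, ?_⟩
    simp only [hcdef, hYdef, cN, Subgroup.coe_mul, Subgroup.coe_inv]
    group
  have hmul : ∀ a z : G, IsConj Y z → IsConj Y (a * c * a⁻¹ * z) := by
    intro a z hz
    obtain ⟨v, rfl⟩ := isConj_iff.1 hz
    exact hconj.symm.trans ((h c Y hc ⟨q, b, hq, hqp, hY⟩ _).2 ⟨a, v, rfl⟩)
  let W : Subgroup G :=
    { carrier := {w | ∀ z, IsConj Y z ↔ IsConj Y (w * z)}
      one_mem' := fun z => by rw [one_mul]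
      mul_mem' := fun {u v} hu hv z => by rw [mul_assoc]; exact (hv z).trans (hu (v * z))
      inv_mem' := fun {u} hu z => by
        have := hu (u⁻¹ * z)
        rw [mul_inv_cancel_left] at this
        exact this.symm }
  have hWmem : ∀ a : G, a * c * a⁻¹ ∈ W := by
    intro a z
    refine ⟨hmul a z, fun hz => ?_⟩
    have key : ∀ n : ℕ, IsConj Y (((a * c * a⁻¹) ^ (n + 1)) * z) := by
      intro n
      induction n with
      | zero => rwa [zero_add, pow_one]
      | succ n ih => rw [pow_succ', mul_assoc]; exact hmul a _ ih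
    have := key (orderOf (a * c * a⁻¹) - 1)
    rwa [Nat.sub_add_cancel (orderOf_pos _), pow_orderOf_eq_one, one_mul] at this
  have hWn : W.Normal := by
    refine ⟨fun w hw g z => ?_⟩
    have key : ∀ (g t : G), IsConj Y t ↔ IsConj Y (g * t * g⁻¹) := fun g t =>
      ⟨fun h => h.trans (isConj_iff.2 ⟨g, rfl⟩), fun h => h.trans (isConj_iff.2 ⟨g, rfl⟩).symm⟩
    rw [key g⁻¹ z, hw, key g]
    simp [mul_assoc]
  rcases hmin (W ⊓ N) inferInstance inf_le_right with h1 | h1
  · have : c ∈ W ⊓ N := ⟨by simpa using hWmem 1, cN.2⟩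
    rw [h1, Subgroup.mem_bot] at this
    exact hcne (Subtype.ext this)
  · have hY' : Y⁻¹ ∈ W := (h1.ge.trans inf_le_left) (inv_mem y.2)
    have := (hY' Y).1 (IsConj.refl Y)
    rw [inv_mul_cancel] at this
    have hy1 : y = 1 := Subtype.ext (isConj_one_left.1 this)
    exact hyc (hy1 ▸ one_mem _)

theorem isPSolvable_of_classProd.{u} {p : ℕ} [Fact p.Prime] : ∀ (k : ℕ) (G : Type u) [Group G]
    [Finite G], Nat.card G = k → ClassProd G p → Cfsg.IsPSolvable p G := by
  intro k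
  induction k using Nat.strong_induction_on with
  | _ k ih =>
  intro G _ _ hk h
  rcases subsingleton_or_nontrivial G with hs | hs
  · exact PCore.isPSolvable_of_subsingleton
  obtain ⟨N, hNn, -, hN1, hmin⟩ := Solvable.exists_minimal_normal (K := (⊤ : Subgroup G)) top_ne_bot
  have hlt : Nat.card (G ⧸ N) < k := by
    rw [← hk, Subgroup.card_eq_card_quotient_mul_card_subgroup N]
    exact lt_mul_of_one_lt_right Nat.card_pos (N.one_lt_card_iff_ne_bot.2 hN1)
  refine PCore.isPSolvable_of_normal N ?_ (ih _ hlt _ rfl (classProd_quotient Fact.out h N))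
  obtain ⟨P, K, hKn, hK⟩ := hasNormalPComplement_minimal h N hmin
  refine PCore.isPSolvable_of_isPGroup_quotient K
    (PCore.isPSolvable_of_coprime (Transfer.coprime_card_of_isComplement'_sylow P hK)) ?_
  obtain ⟨n, hn⟩ := P.isPGroup'.exists_card_eq
  refine IsPGroup.of_card (n := n) ?_
  rw [← Subgroup.index_eq_card, hK.symm.index_eq_card, hn]

/-- Let p be a prime and G a finite group such that for every element x of p-power order and every element y whose order is a power of a prime other than p, the conjugacy class of x y is the set of all products of a conjugate of x with a conjugate of y. Then G is p-solvable. -/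
theorem result {G : Type*} [Group G] [Finite G] (p : ℕ) [Fact p.Prime] (h : ∀ x y : G, (∃ a : ℕ, orderOf x = p ^ a) → (∃ q b : ℕ, q.Prime ∧ q ≠ p ∧ orderOf y = q ^ b) → ∀ z : G, IsConj (x * y) z ↔ ∃ a b : G, z = a * x * a⁻¹ * (b * y * b⁻¹)) : Cfsg.IsPSolvable p G :=
  isPSolvable_of_classProd _ G rfl h

end Cfsg.Agent.S3989
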