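import Cfsg.Statements.S3994
import Cfsg.Agent.S3993
import Mathlib

set_option autoImplicit false
open Cfsg

namespace Cfsg.Agent.S3994

/-- Let G be a finite group and n a positive integer. The number of elements of G whose order is divisible by n is either 0 or divisible by the largest divisor of the order of G that is coprime to n. -/
theorem result {G : Type*} [Group G] [Finite G] (n : ℕ) (hn : 0 < n) :
    Nat.card {g : G // n ∣ orderOf g} = 0 ∨
      (Nat.card G / Nat.gcd (Nat.card G) (n ^ Nat.card G)) ∣ Nat.card {g : G // n ∣ orderOf g} := by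
  classical
  right
  set N := Nat.card G with hN
  set M := N / Nat.gcd N (n ^ N) with hM
  have hMN : M ∣ N := Nat.div_dvd_of_dvd (Nat.gcd_dvd_left _ _)
  -- `M` divides the part of `N` prime to each prime divisor of `n`
  have hMq : ∀ q ∈ n.primeFactors, M ∣ N / q ^ N.factorization q := by
    intro q hq
    refine Nat.div_dvd_div_left (Nat.gcd_dvd_left _ _) (Nat.dvd_gcd (Nat.ordProj_dvd N q) ?_)
    exact (pow_dvd_pow_of_dvd (Nat.dvd_of_mem_primeFactors hq) _).trans
      (pow_dvd_pow n ((Nat.factorization_lt q Nat.card_pos.ne').le))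
  have key : ∀ S : Finset ℕ, S ⊆ n.primeFactors → ∀ d, M ∣ d → d ∣ N →
      M ∣ Nat.card {g : G // orderOf g ∣ d ∧ ∀ q ∈ S, q ^ n.factorization q ∣ orderOf g} := by
    intro S
    induction S using Finset.induction_on with
    | empty =>
      intro _ d hd hdN
      refine hd.trans ?_
      rw [Nat.card_congr (Equiv.subtypeEquivRight fun g : G => show
        (orderOf g ∣ d ∧ ∀ q ∈ (∅ : Finset ℕ), q ^ n.factorization q ∣ orderOf g) ↔ g ^ d = 1 by
          simp [orderOf_dvd_iff_pow_eq_one])]
      exact S3993.result d hdN
    | @insert q S hqS ih =>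
      intro hS d hd hdN
      have hq : q ∈ n.primeFactors := hS (Finset.mem_insert_self q S)
      have hqp := Nat.prime_of_mem_primeFactors hq
      have hS' : S ⊆ n.primeFactors := (Finset.subset_insert q S).trans hS
      set Dq := q ^ (n.factorization q - 1) * (N / q ^ N.factorization q)
      have he : 0 < n.factorization q :=
        hqp.factorization_pos_of_dvd hn.ne' (Nat.dvd_of_mem_primeFactors hq)
      have hiff : ∀ g : G, ¬ q ^ n.factorization q ∣ orderOf g ↔ orderOf g ∣ Dq := by
        intro g
        obtain ⟨i, c, hc, hg⟩ := Nat.exists_eq_pow_mul_and_not_dvd (orderOf_pos g).ne' q hqp.ne_one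
        have hcop : ∀ j, (q ^ j).Coprime c := fun j =>
          Nat.Coprime.pow_left j (hqp.coprime_iff_not_dvd.2 hc)
        have hcN : c ∣ N / q ^ N.factorization q := by
          refine (hcop (N.factorization q)).symm.dvd_of_dvd_mul_left ?_
          rw [Nat.ordProj_mul_ordCompl_eq_self]
          exact (dvd_mul_left c _).trans (hg ▸ orderOf_dvd_natCard g)
        have h2 : (q ^ i).Coprime (N / q ^ N.factorization q) :=
          Nat.Coprime.pow_left i (Nat.coprime_ordCompl hqp Nat.card_pos.ne')
        rw [hg]
        constructor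
        · intro h
          refine mul_dvd_mul (pow_dvd_pow q ?_) hcN
          by_contra hlt
          exact h ((pow_dvd_pow q (by omega : n.factorization q ≤ i)).trans (dvd_mul_right _ _))
        · intro h h'
          have h1 : q ^ n.factorization q ∣ q ^ i := (hcop _).dvd_of_dvd_mul_right h'
          have h3 : q ^ i ∣ q ^ (n.factorization q - 1) :=
            h2.dvd_of_dvd_mul_right ((dvd_mul_right _ c).trans h)
          rw [Nat.pow_dvd_pow_iff_le_right hqp.one_lt] at h1 h3
          omega
      have hgcd : M ∣ Nat.gcd d Dq := Nat.dvd_gcd hd ((hMq q hq).trans (dvd_mul_left _ _))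
      have h1 := ih hS' d hd hdN
      have h2 := ih hS' (Nat.gcd d Dq) hgcd ((Nat.gcd_dvd_left _ _).trans hdN)
      have hsum : Nat.card {g : G // orderOf g ∣ d ∧ ∀ r ∈ S, r ^ n.factorization r ∣ orderOf g} =
          Nat.card {g : G // orderOf g ∣ d ∧ ∀ r ∈ insert q S, r ^ n.factorization r ∣ orderOf g} +
          Nat.card {g : G // orderOf g ∣ Nat.gcd d Dq ∧ ∀ r ∈ S, r ^ n.factorization r ∣ orderOf g} := by
        let _ := Fintype.ofFinite G
        simp only [Nat.card_eq_fintype_card, Fintype.card_subtype]
        rw [← Finset.card_filter_add_card_filter_not (fun g : G => q ^ n.factorization q ∣ orderOf g)]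
        congr 2
        · ext g; simp only [Finset.mem_filter, Finset.mem_univ, true_and, Finset.forall_mem_insert]
          tauto
        · ext g
          simp only [Finset.mem_filter, Finset.mem_univ, true_and, Nat.dvd_gcd_iff, hiff g]
          tauto
      exact (Nat.dvd_add_left h2).1 (hsum ▸ h1)
  have h := key n.primeFactors le_rfl N hMN dvd_rfl
  rw [Nat.card_congr (Equiv.subtypeEquivRight fun g : G => show
    (orderOf g ∣ N ∧ ∀ q ∈ n.primeFactors, q ^ n.factorization q ∣ orderOf g) ↔ n ∣ orderOf g from
      ⟨fun h => by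
        rw [← Nat.factorization_le_iff_dvd hn.ne' (orderOf_pos g).ne']
        intro q
        by_cases hq : q ∈ n.primeFactors
        · exact ((Nat.prime_of_mem_primeFactors hq).pow_dvd_iff_le_factorization
            (orderOf_pos g).ne').1 (h.2 q hq)
        · rw [Finsupp.notMem_support_iff.1 (n.support_factorization ▸ hq)]
          exact Nat.zero_le _,
      fun h => ⟨orderOf_dvd_natCard g, fun q _ => (Nat.ordProj_dvd n q).trans h⟩⟩)] at h
  exact h

end Cfsg.Agent.S3994
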