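import Cfsg.Statements.S3995
import Cfsg.Agent.S3993
import Cfsg.Agent.Lib.PGroup.UniqueOrderP
import Cfsg.Agent.Lib.Coprime.Basic

set_option autoImplicit false
open Cfsg

namespace Cfsg.Agent.S3995

open Subgroup

/-- The number of elements of order `d`. -/
noncomputable def cnt (G : Type*) [Group G] (d : ℕ) : ℕ := Nat.card {g : G // orderOf g = d}

theorem card_pow_eq_sum {G : Type*} [Group G] [Finite G] {m : ℕ} (hm : m ≠ 0) :
    Nat.card {g : G // g ^ m = 1} = ∑ d ∈ m.divisors, cnt G d := by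
  classical
  let _ := Fintype.ofFinite G
  simp only [cnt, Nat.card_eq_fintype_card, Fintype.card_subtype]
  exact (sum_card_orderOf_eq_card_pow_eq_one hm).symm

theorem cnt_one {G : Type*} [Group G] [Finite G] : cnt G 1 = 1 := by
  rw [cnt, Nat.card_congr (Equiv.subtypeEquivRight fun g : G => orderOf_eq_one_iff),
    Nat.card_eq_one_iff_unique]
  exact ⟨⟨fun a b => Subtype.ext (a.2.trans b.2.symm)⟩, ⟨⟨1, rfl⟩⟩⟩

theorem cnt_quaternion_eight {j : ℕ} (hj : 2 ≤ j) :
    cnt (QuaternionGroup (2 ^ j)) 4 ≠ cnt (QuaternionGroup (2 ^ j)) 8 := by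
  classical
  obtain ⟨i, rfl⟩ := Nat.exists_eq_add_of_le hj
  set N := 2 ^ (2 + i) with hN
  have : NeZero N := ⟨by positivity⟩
  set A := zpowers (QuaternionGroup.a 1 : QuaternionGroup N)
  have hA : Nat.card A = 2 * N := by rw [Nat.card_zpowers, QuaternionGroup.orderOf_a_one]
  have h8 : cnt (QuaternionGroup N) 8 ≤ 4 := by
    let _ := Fintype.ofFinite A
    have h1 : Nat.card {z : A // orderOf z = 8} = 4 := by
      rw [Nat.card_eq_fintype_card, Fintype.card_subtype, IsCyclic.card_orderOf_eq_totient (d := 8) (by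
        rw [← Nat.card_eq_fintype_card, hA, hN, ← pow_succ']; exact pow_dvd_pow 2 (by omega : 3 ≤ 2 + i + 1))]
      rfl
    rw [← h1]
    have hmem : ∀ x : QuaternionGroup N, orderOf x = 8 → x ∈ A := by
      rintro (k | k) hx
      · exact ⟨(k.val : ℤ), by
          show (QuaternionGroup.a 1 : QuaternionGroup N) ^ (k.val : ℤ) = _
          rw [zpow_natCast, QuaternionGroup.a_one_pow, ZMod.natCast_zmod_val]⟩
      · rw [QuaternionGroup.orderOf_xa] at hx; norm_num at hx
    refine Nat.card_le_card_of_injective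
      (fun x => (⟨⟨x.1, hmem _ x.2⟩, by rw [← Subgroup.orderOf_coe]; exact x.2⟩ : {z : A // orderOf z = 8})) ?_
    intro x y hxy
    exact Subtype.ext (congrArg (fun z : {z : A // orderOf z = 8} => ((z.1 : A) : QuaternionGroup N)) hxy)
  have h4 : 2 * N ≤ cnt (QuaternionGroup N) 4 := by
    rw [← Nat.card_zmod (2 * N)]
    exact Nat.card_le_card_of_injective (fun k => (⟨QuaternionGroup.xa k, QuaternionGroup.orderOf_xa k⟩ :
      {g : QuaternionGroup N // orderOf g = 4})) fun a b h => by simpa using h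
  have : 4 ≤ N := hN ▸ le_trans (by norm_num) (Nat.pow_le_pow_right two_pos (by omega : 2 ≤ 2 + i))
  omega

/-- Let G be a finite group such that the numbers of elements of each order that occurs in G (the numbers #{g : o(g) = m}, m ranging over the element orders of G) take exactly two values, 1 and some n ≠ 1. Then either G is a p-group of exponent p and order at least 3 for some prime p, or G is the quaternion group of order 8, or G is cyclic of order 4, or G ≅ Z₂ × P for a p-group P of exponent p with p an odd prime. -/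
theorem result {G : Type*} [Group G] [Finite G] (n : ℕ) (hn : n ≠ 1) (h : ((fun m : ℕ => Nat.card {g : G // orderOf g = m}) '' Set.range (orderOf : G → ℕ)) = {1, n}) :
    (∃ p : ℕ, p.Prime ∧ IsPGroup p G ∧ 3 ≤ Nat.card G ∧ Monoid.exponent G = p) ∨
      Nonempty (G ≃* QuaternionGroup 2) ∨ (IsCyclic G ∧ Nat.card G = 4) ∨
      (∃ (p : ℕ) (P : Type) (_ : Group P) (_ : Finite P), p.Prime ∧ p ≠ 2 ∧ IsPGroup p P ∧ Monoid.exponent P = p ∧
        Nonempty (G ≃* Multiplicative (ZMod 2) × P)) := by
  classical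
  -- the possible values
  have hval : ∀ g : G, cnt G (orderOf g) = 1 ∨ cnt G (orderOf g) = n := fun g => by
    have : cnt G (orderOf g) ∈ ({1, n} : Set ℕ) := h ▸ ⟨orderOf g, Set.mem_range_self g, rfl⟩
    simpa using this
  have hval' : ∀ d, cnt G d = 0 ∨ cnt G d = 1 ∨ cnt G d = n := fun d => by
    by_cases hd : ∃ g : G, orderOf g = d
    · obtain ⟨g, rfl⟩ := hd; exact Or.inr (hval g)
    · left
      push Not at hd
      rw [cnt, Nat.card_eq_zero]
      exact Or.inl ⟨fun g => hd g.1 g.2⟩
  have hpos : ∀ g : G, 0 < cnt G (orderOf g) := fun g => by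
    have : Nonempty {x : G // orderOf x = orderOf g} := ⟨⟨g, rfl⟩⟩
    exact Nat.card_pos
  have htot : ∀ d, d.totient ∣ cnt G d := fun d =>
    S3993.totient_dvd_card (fun x : G => orderOf x = d)
      (fun x y h hy => (S3993.orderOf_eq_of_zpowers_eq h).trans hy) fun x hx => hx.symm.dvd
  have hbig : ∀ g : G, 3 ≤ orderOf g → cnt G (orderOf g) = n := fun g hg => by
    refine (hval g).resolve_left fun h1 => ?_
    have h2 := Nat.dvd_one.1 (h1 ▸ htot (orderOf g))
    rw [Nat.totient_eq_one_iff] at h2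
    omega
  have hbig' : ∀ d, 3 ≤ d → cnt G d = 0 ∨ cnt G d = n := fun d hd => by
    rcases hval' d with h0 | h1 | hn'
    · exact Or.inl h0
    · have h2 := Nat.dvd_one.1 (h1 ▸ htot d)
      rw [Nat.totient_eq_one_iff] at h2
      omega
    · exact Or.inr hn'
  have hdvd : ∀ (g : G) (d : ℕ), d ∣ orderOf g → ∃ x : G, orderOf x = d := fun g d hd =>
    ⟨g ^ (orderOf g / d), by
      rw [orderOf_pow_of_dvd (Nat.div_pos (Nat.le_of_dvd (orderOf_pos g) hd) (Nat.pos_of_dvd_of_pos hd (orderOf_pos g))).ne'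
        (Nat.div_dvd_of_dvd hd), Nat.div_div_self hd (orderOf_pos g).ne']⟩
  obtain ⟨g₀, hg₀⟩ : ∃ g : G, cnt G (orderOf g) = n := by
    obtain ⟨_, ⟨g, rfl⟩, hg⟩ : n ∈ ((fun m : ℕ => Nat.card {g : G // orderOf g = m}) ''
      Set.range (orderOf : G → ℕ)) := h ▸ Or.inr rfl
    exact ⟨g, hg⟩
  have hfrob : ∀ m, m ∣ Nat.card G → m ∣ ∑ d ∈ m.divisors, cnt G d := fun m hm => by
    rw [← card_pow_eq_sum (fun h0 => Nat.card_pos.ne' (Nat.eq_zero_of_zero_dvd (h0 ▸ hm)))]
    exact S3993.result m hm
  -- odd primes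
  have hp_facts : ∀ p, p.Prime → p ≠ 2 → p ∣ Nat.card G → cnt G p = n ∧ (n : ZMod p) = -1 := by
    intro p hp hp2 hpG
    have := Fact.mk hp
    obtain ⟨x, hx⟩ := exists_prime_orderOf_dvd_card' p hpG
    have hc : cnt G p = n := hx ▸ hbig x (by rw [hx]; have := hp.two_le; omega)
    refine ⟨hc, ?_⟩
    have h1 := hfrob p hpG
    rw [hp.sum_divisors, cnt_one, hc, ← ZMod.natCast_eq_zero_iff, Nat.cast_add, Nat.cast_one] at h1
    exact eq_neg_of_add_eq_zero_left h1
  have hcast : ∀ p d, p.Prime → p ≠ 2 → p ∣ Nat.card G → 3 ≤ d →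
      (cnt G d : ZMod p) = 0 ∨ (cnt G d : ZMod p) = -1 := fun p d hp hp2 hpG hd => by
    rcases hbig' d hd with h0 | h0
    · left; rw [h0, Nat.cast_zero]
    · right; rw [h0]; exact (hp_facts p hp hp2 hpG).2
  have hneg : ∀ p, p.Prime → p ≠ 2 → (-1 : ZMod p) ≠ 0 ∧ (-2 : ZMod p) ≠ 0 := fun p hp hp2 => by
    have := Fact.mk hp
    refine ⟨neg_ne_zero.2 one_ne_zero, neg_ne_zero.2 fun h2 => hp2 ?_⟩
    have h2' : ((2 : ℕ) : ZMod p) = 0 := by simpa using h2
    rw [ZMod.natCast_eq_zero_iff] at h2'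
    exact ((Nat.prime_dvd_prime_iff_eq hp Nat.prime_two).1 h2')
  have hone : ∀ p q, p.Prime → q.Prime → p ≠ 2 → q ≠ 2 → p ∣ Nat.card G → q ∣ Nat.card G → p = q := by
    intro p q hp hq hp2 hq2 hpG hqG
    by_contra hne
    have hcop := (Nat.coprime_primes hp hq).2 hne
    have h1 := dvd_trans (dvd_mul_right p q) (hfrob (p * q) (hcop.mul_dvd_of_dvd_of_dvd hpG hqG))
    have hset : (p * q).divisors = {1, p, q, p * q} := by
      ext d
      rw [Nat.mem_divisors]
      simp only [Finset.mem_insert, Finset.mem_singleton]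
      constructor
      · rintro ⟨hd, -⟩
        obtain ⟨a, b, ha, hb, rfl⟩ := exists_dvd_and_dvd_of_dvd_mul hd
        rcases (Nat.dvd_prime hp).1 ha with rfl | rfl <;> rcases (Nat.dvd_prime hq).1 hb with rfl | rfl <;> simp
      · rintro (rfl | rfl | rfl | rfl) <;>
          refine ⟨?_, Nat.mul_ne_zero hp.ne_zero hq.ne_zero⟩ <;>
          first | exact one_dvd _ | exact dvd_mul_right _ _ | exact dvd_mul_left _ _ | exact dvd_rfl
    have hp3 : 3 ≤ p := by have := hp.two_le; omega
    have hq3 : 3 ≤ q := by have := hq.two_le; omega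
    have hpq3 : p < p * q ∧ q < p * q := ⟨by nlinarith, by nlinarith⟩
    rw [hset, Finset.sum_insert (by simp; omega), Finset.sum_insert (by simp; omega),
      Finset.sum_insert (by simp; omega), Finset.sum_singleton, cnt_one, (hp_facts p hp hp2 hpG).1,
      (hp_facts q hq hq2 hqG).1, ← ZMod.natCast_eq_zero_iff, Nat.cast_add, Nat.cast_add,
      Nat.cast_add, Nat.cast_one, (hp_facts p hp hp2 hpG).2] at h1
    rcases hcast p (p * q) hp hp2 hpG (by omega) with hx | hx <;> rw [hx] at h1
    · exact (hneg p hp hp2).1 (by rw [← h1]; ring)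
    · exact (hneg p hp hp2).2 (by rw [← h1]; ring)
  have hsq : ∀ p, p.Prime → p ≠ 2 → ∀ g : G, ¬ p ^ 2 ∣ orderOf g := by
    intro p hp hp2 g hg
    obtain ⟨x, hx⟩ := hdvd g _ hg
    have hpG : p ∣ Nat.card G := (dvd_pow_self p two_ne_zero).trans (hx ▸ orderOf_dvd_natCard x)
    have h1 : cnt G (p ^ 2) = n := hx ▸ hbig x (by rw [hx]; have := hp.two_le; nlinarith)
    have h2 : p ∣ n := by
      rw [← h1]
      refine Dvd.dvd.trans ?_ (htot (p ^ 2))
      rw [Nat.totient_prime_pow hp two_pos, show 2 - 1 = 1 from rfl, pow_one]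
      exact dvd_mul_right _ _
    have h3 := (hp_facts p hp hp2 hpG).2
    rw [(ZMod.natCast_eq_zero_iff n p).2 h2] at h3
    exact (hneg p hp hp2).1 h3.symm
  by_cases h2G : 2 ∣ Nat.card G
  swap
  · -- odd order
    left
    have hG1 : Nat.card G ≠ 1 := fun h1 => by
      have : Subsingleton G := (Nat.card_eq_one_iff_unique.1 h1).1
      rw [Subsingleton.elim g₀ 1, orderOf_one, cnt_one] at hg₀
      exact hn hg₀.symm
    obtain ⟨p, hp, hpG⟩ := Nat.exists_prime_and_dvd hG1
    have hp2 : p ≠ 2 := fun h2 => h2G (h2 ▸ hpG)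
    have := Fact.mk hp
    have hord : ∀ g : G, orderOf g ∣ p := fun g => by
      have h1 : ∀ d, d.Prime → d ∣ orderOf g → d = p := fun d hd hdg => by
        have hdG := hdg.trans (orderOf_dvd_natCard g)
        exact hone d p hd hp (fun h2 => h2G (h2 ▸ hdG)) hp2 hdG hpG
      rw [Nat.eq_prime_pow_of_unique_prime_dvd (orderOf_pos g).ne' (fun {d} => h1 d)]
      refine (pow_dvd_pow p ?_).trans (pow_one p).dvd
      by_contra hlt
      exact hsq p hp hp2 g ((pow_dvd_pow p (by omega)).trans
        (Nat.eq_prime_pow_of_unique_prime_dvd (orderOf_pos g).ne' (fun {d} => h1 d)).symm.dvd)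
    refine ⟨p, hp, fun g => ⟨1, by rw [pow_one]; exact orderOf_dvd_iff_pow_eq_one.1 (hord g)⟩, ?_, ?_⟩
    · exact le_trans (by have := hp.two_le; omega) (Nat.le_of_dvd Nat.card_pos hpG)
    · obtain ⟨x, hx⟩ := exists_prime_orderOf_dvd_card' p hpG
      exact Nat.dvd_antisymm (Monoid.exponent_dvd_of_forall_pow_eq_one
        fun g => orderOf_dvd_iff_pow_eq_one.1 (hord g)) (hx ▸ Monoid.order_dvd_exponent x)
  have hc2 : cnt G 2 = 1 ∨ cnt G 2 = n := by
    obtain ⟨x, hx⟩ := exists_prime_orderOf_dvd_card' 2 h2G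
    exact hx ▸ hval x
  have hc2odd : 2 ∣ 1 + cnt G 2 := by
    have := hfrob 2 h2G
    rwa [Nat.prime_two.sum_divisors, cnt_one, add_comm] at this
  rcases hc2 with hc2 | hc2
  swap
  · -- exponent two
    left
    have hle : ∀ g : G, orderOf g ≤ 2 := fun g => by
      by_contra hg
      push Not at hg
      have h1 : 2 ∣ cnt G (orderOf g) := (even_iff_two_dvd.1 (Nat.totient_even hg)).trans (htot _)
      rw [hbig g (by omega), ← hc2] at h1
      omega
    have hsq2 : ∀ g : G, g ^ 2 = 1 := fun g => orderOf_dvd_iff_pow_eq_one.1 (by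
      have := hle g; have := orderOf_pos g
      rcases (by omega : orderOf g = 1 ∨ orderOf g = 2) with h1 | h1 <;> rw [h1] <;> norm_num)
    refine ⟨2, Nat.prime_two, fun g => ⟨1, by rw [pow_one]; exact hsq2 g⟩, ?_, ?_⟩
    · have h1 := card_pow_eq_sum (G := G) (m := 2) two_ne_zero
      rw [Nat.prime_two.sum_divisors, cnt_one, hc2,
        Nat.card_congr (Equiv.subtypeUnivEquiv hsq2)] at h1
      omega
    · obtain ⟨x, hx⟩ := exists_prime_orderOf_dvd_card' 2 h2G
      exact Nat.dvd_antisymm (Monoid.exponent_dvd_of_forall_pow_eq_one hsq2) (hx ▸ Monoid.order_dvd_exponent x)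
  -- a unique involution
  obtain ⟨z, hz⟩ := exists_prime_orderOf_dvd_card' (G := G) 2 h2G
  have hzu : ∀ x : G, orderOf x = 2 → x = z := fun x hx => by
    have := (Nat.card_eq_one_iff_unique.1 hc2).1
    exact congrArg Subtype.val (this.elim (⟨x, hx⟩ : {g : G // orderOf g = 2}) ⟨z, hz⟩)
  by_cases hodd : ∃ p, p.Prime ∧ p ≠ 2 ∧ p ∣ Nat.card G
  · obtain ⟨p, hp, hp2, hpG⟩ := hodd
    have := Fact.mk hp
    right; right; right
    have hp3 : 3 ≤ p := by have := hp.two_le; omega
    have h4 : ¬ 4 ∣ Nat.card G := by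
      intro h4G
      have hcop : Nat.Coprime 4 p := by
        rw [show 4 = 2 ^ 2 from rfl]
        exact ((Nat.coprime_primes Nat.prime_two hp).2 hp2.symm).pow_left 2
      have h1 := dvd_trans (dvd_mul_left p 4) (hfrob (4 * p) (hcop.mul_dvd_of_dvd_of_dvd h4G hpG))
      have hset : (4 * p).divisors = {1, 2, p, 2 * p, 4, 4 * p} := by
        ext d
        rw [Nat.mem_divisors]
        simp only [Finset.mem_insert, Finset.mem_singleton]
        constructor
        · rintro ⟨hd, -⟩
          obtain ⟨a, b, ha, hb, rfl⟩ := exists_dvd_and_dvd_of_dvd_mul hd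
          have ha' : a = 1 ∨ a = 2 ∨ a = 4 := by
            obtain ⟨i, hi, rfl⟩ := (Nat.dvd_prime_pow Nat.prime_two).1 (show a ∣ 2 ^ 2 from ha)
            interval_cases i <;> simp
          rcases ha' with rfl | rfl | rfl <;> rcases (Nat.dvd_prime hp).1 hb with rfl | rfl <;> simp
        · rintro (rfl | rfl | rfl | rfl | rfl | rfl) <;>
            refine ⟨?_, Nat.mul_ne_zero (by norm_num) hp.ne_zero⟩ <;>
            first | exact one_dvd _ | exact dvd_mul_right _ _ | exact dvd_mul_left _ _ | exact dvd_rfl |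
              exact Nat.mul_dvd_mul_right (by norm_num) _ | exact Dvd.dvd.mul_right (by norm_num) _
      have h4p : p ≠ 4 := fun h' => by rw [h'] at hp; exact absurd hp (by norm_num)
      rw [hset, Finset.sum_insert (by simp; omega), Finset.sum_insert (by simp; omega),
        Finset.sum_insert (by simp; omega), Finset.sum_insert (by simp; omega),
        Finset.sum_insert (by simp; omega), Finset.sum_singleton, cnt_one, hc2,
        (hp_facts p hp hp2 hpG).1, ← ZMod.natCast_eq_zero_iff, Nat.cast_add, Nat.cast_add,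
        Nat.cast_add, Nat.cast_add, Nat.cast_add, Nat.cast_one, (hp_facts p hp hp2 hpG).2] at h1
      have hzc : ∀ x : G, Commute z x := fun x => by
        have h' : x * z * x⁻¹ = z := hzu _ ((orderOf_injective (MulAut.conj x).toMonoidHom (MulAut.conj x).injective z).trans hz)
        exact (mul_inv_eq_iff_eq_mul.1 h').symm
      obtain ⟨x, hx⟩ := exists_prime_orderOf_dvd_card' p hpG
      have h2p : cnt G (2 * p) = n := by
        have ho : orderOf (z * x) = 2 * p := by
          rw [(hzc x).orderOf_mul_eq_mul_orderOf_of_coprime (by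
            rw [hz, hx]; exact (Nat.coprime_primes Nat.prime_two hp).2 hp2.symm), hz, hx]
        exact ho ▸ hbig (z * x) (by omega)
      have hc4 : cnt G 4 = n := by
        obtain ⟨Q⟩ : Nonempty (Sylow 2 G) := Sylow.nonempty
        have hQ : 2 ^ 2 ∣ Nat.card (Q : Subgroup G) := Q.pow_dvd_card_of_pow_dvd_card h4G
        by_cases hex : ∃ y : G, orderOf y = 4
        · obtain ⟨y, hy⟩ := hex; exact hy ▸ hbig y (by omega)
        exfalso
        have hle : (Q : Subgroup G) ≤ zpowers z := by
          intro y hy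
          obtain ⟨i, hi⟩ := IsPGroup.iff_orderOf.1 Q.isPGroup' ⟨y, hy⟩
          rw [← Subgroup.orderOf_coe] at hi
          have hi1 : i ≤ 1 := by
            by_contra hi2
            exact hex (hdvd y 4 ((show orderOf y = 2 ^ i from hi) ▸ pow_dvd_pow 2 (by omega : 2 ≤ i)))
          rcases (by omega : i = 0 ∨ i = 1) with h' | h'
          · rw [show y = 1 from orderOf_eq_one_iff.1 (hi.trans (by rw [h', pow_zero]))]; exact one_mem _
          · rw [hzu y (hi.trans (by rw [h', pow_one]))]; exact mem_zpowers z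
        have := Nat.le_of_dvd Nat.card_pos (hQ.trans (card_dvd_of_le hle))
        rw [Nat.card_zpowers, hz] at this
        omega
      rw [h2p, hc4, (hp_facts p hp hp2 hpG).2] at h1
      rcases hcast p (4 * p) hp hp2 hpG (by omega) with hx' | hx' <;> rw [hx'] at h1
      · exact (hneg p hp hp2).1 (by rw [← h1]; ring)
      · exact (hneg p hp hp2).2 (by rw [← h1]; ring)
    obtain ⟨P⟩ : Nonempty (Sylow p G) := Sylow.nonempty
    set Z := zpowers z with hZ
    have hzc : ∀ x : G, Commute z x := fun x => by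
      have h' : x * z * x⁻¹ = z := hzu _ ((orderOf_injective (MulAut.conj x).toMonoidHom (MulAut.conj x).injective z).trans hz)
      exact (mul_inv_eq_iff_eq_mul.1 h').symm
    have hexp : ∀ y ∈ (P : Subgroup G), y ^ p = 1 := fun y hy => by
      obtain ⟨i, hi⟩ := IsPGroup.iff_orderOf.1 P.isPGroup' ⟨y, hy⟩
      rw [← Subgroup.orderOf_coe] at hi
      refine orderOf_dvd_iff_pow_eq_one.1 ?_
      rw [show orderOf y = p ^ i from hi]
      refine (pow_dvd_pow p ?_).trans (pow_one p).dvd
      by_contra hlt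
      exact hsq p hp hp2 y ((pow_dvd_pow p (by omega)).trans (show orderOf y = p ^ i from hi).symm.dvd)
    have hcard : Nat.card G = 2 * Nat.card (P : Subgroup G) := by
      have hidx2 : (P : Subgroup G).index ∣ 2 := by
        rw [show 2 = 2 ^ 1 from rfl]
        obtain ⟨j, hj⟩ : ∃ j, (P : Subgroup G).index = 2 ^ j := ⟨_, Nat.eq_prime_pow_of_unique_prime_dvd
          FiniteIndex.index_ne_zero fun {d} hd hdd => by
            by_contra hd2
            exact P.not_dvd_index (hone d p hd hp hd2 hp2 (hdd.trans (index_dvd_card _)) hpG ▸ hdd)⟩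
        rw [hj]
        refine pow_dvd_pow 2 ?_
        by_contra hlt
        exact h4 (((pow_dvd_pow 2 (by omega : 2 ≤ j)).trans hj.symm.dvd).trans (index_dvd_card _))
      rcases (Nat.dvd_prime Nat.prime_two).1 hidx2 with h1 | h1
      · exfalso
        have h2 := (P : Subgroup G).card_mul_index
        rw [h1, mul_one] at h2
        obtain ⟨i, hi⟩ := P.isPGroup'.exists_card_eq
        rw [← h2, hi] at h2G
        exact hp2 ((Nat.prime_dvd_prime_iff_eq Nat.prime_two hp).1 (Nat.prime_two.dvd_of_dvd_pow h2G)).symm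
      · have h2 := (P : Subgroup G).card_mul_index
        rw [h1] at h2
        omega
    have hd : Z ⊓ (P : Subgroup G) = ⊥ := by
      obtain ⟨i, hi⟩ := P.isPGroup'.exists_card_eq
      refine Agent.Coprime.disjoint_of_coprime_card ?_
      rw [hZ, Nat.card_zpowers, hz, hi]
      exact ((Nat.coprime_primes Nat.prime_two hp).2 hp2.symm).pow_right i
    let f : Z × (P : Subgroup G) →* G := MonoidHom.noncommCoprod Z.subtype (P : Subgroup G).subtype
      fun a b => by
        obtain ⟨k, hk⟩ := mem_zpowers_iff.1 a.2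
        show Commute (a : G) b
        rw [← hk]
        exact (hzc b).zpow_left k
    have hf : Function.Bijective f := by
      refine (Nat.bijective_iff_injective_and_card _).2 ⟨fun a b hab => ?_, ?_⟩
      · exact Subgroup.mul_injective_of_disjoint (disjoint_iff.2 hd) hab
      · rw [Nat.card_prod, hZ, Nat.card_zpowers, hz, hcard]
    let e₁ : Multiplicative (ZMod 2) ≃* Z := mulEquivOfPrimeCardEq (p := 2) (by simp) (by rw [hZ, Nat.card_zpowers, hz])
    obtain ⟨k, ⟨e₂⟩⟩ := Finite.exists_equiv_fin (P : Subgroup G)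
    let e₄ : {_x : Fin k // True} ≃ (P : Subgroup G) := (Equiv.subtypeUnivEquiv fun _ => trivial).trans e₂.symm
    let _ : Group {_x : Fin k // True} := e₄.group
    let e₃ : {_x : Fin k // True} ≃* (P : Subgroup G) := e₄.mulEquiv
    refine ⟨p, {_x : Fin k // True}, inferInstance, inferInstance, hp, hp2, P.isPGroup'.of_equiv e₃.symm, ?_, ?_⟩
    · rw [Monoid.exponent_eq_of_mulEquiv e₃]
      obtain ⟨y, hy⟩ := exists_prime_orderOf_dvd_card' (G := (P : Subgroup G)) p (P.dvd_card_of_dvd_card hpG)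
      exact Nat.dvd_antisymm (Monoid.exponent_dvd_of_forall_pow_eq_one
        fun y => Subtype.ext (hexp y y.2)) (hy.symm.dvd.trans (Monoid.order_dvd_exponent y))
    · exact ⟨(MulEquiv.ofBijective f hf).symm.trans (MulEquiv.prodCongr e₁.symm e₃.symm)⟩
  -- a 2-group with a unique involution
  push Not at hodd
  have h2grp : IsPGroup 2 G := IsPGroup.of_card (Nat.eq_prime_pow_of_unique_prime_dvd Nat.card_pos.ne'
    fun {d} hd hdd => by by_contra h'; exact hodd d hd h' hdd)
  have huniq : ∀ H K : Subgroup G, Nat.card H = 2 → Nat.card K = 2 → H = K := by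
    have : ∀ H : Subgroup G, Nat.card H = 2 → H = zpowers z := fun H hH => by
      obtain ⟨x, hx⟩ := exists_prime_orderOf_dvd_card' (G := H) 2 (by rw [hH])
      rw [← Subgroup.orderOf_coe] at hx
      refine (eq_of_le_of_card_ge (zpowers_le.2 ?_) (by rw [hH, Nat.card_zpowers, hz])).symm
      exact hzu _ hx ▸ x.2
    exact fun H K hH hK => (this H hH).trans (this K hK).symm
  rcases Agent.PGroup.cyclic_or_quaternion_of_unique h2grp huniq with hcyc | ⟨-, j, hj, -, ⟨e⟩⟩
  · right; right; left
    refine ⟨hcyc, ?_⟩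
    obtain ⟨k, hk⟩ := h2grp.exists_card_eq
    have hgen : ∀ d, d ∣ Nat.card G → cnt G d = d.totient := fun d hd => by
      let _ := Fintype.ofFinite G
      rw [cnt, Nat.card_eq_fintype_card, Fintype.card_subtype]
      exact IsCyclic.card_orderOf_eq_totient (by rwa [← Nat.card_eq_fintype_card])
    have hk2 : k ≤ 2 := by
      by_contra hk3
      obtain ⟨x, hx⟩ : ∃ x : G, orderOf x = Nat.card G := isCyclic_iff_exists_orderOf_eq_natCard.1 hcyc
      have h4 : 4 ∣ Nat.card G := hk ▸ (show 4 = 2 ^ 2 from rfl) ▸ pow_dvd_pow 2 (by omega)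
      have h8 : 8 ∣ Nat.card G := hk ▸ (show 8 = 2 ^ 3 from rfl) ▸ pow_dvd_pow 2 (by omega)
      obtain ⟨x4, hx4⟩ := hdvd x 4 (hx.symm ▸ h4)
      obtain ⟨x8, hx8⟩ := hdvd x 8 (hx.symm ▸ h8)
      have e4 := hbig x4 (by omega)
      have e8 := hbig x8 (by omega)
      rw [hx4, hgen 4 h4] at e4
      rw [hx8, hgen 8 h8] at e8
      rw [show Nat.totient 4 = 2 from rfl] at e4
      rw [show Nat.totient 8 = 4 from rfl] at e8
      omega
    interval_cases k
    · rw [hk] at h2G; norm_num at h2G
    · exfalso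
      refine hn ?_
      have h1 : orderOf g₀ ∣ 2 := by rw [pow_one] at hk; exact hk ▸ orderOf_dvd_natCard g₀
      rcases (Nat.dvd_prime Nat.prime_two).1 h1 with h' | h' <;> rw [h'] at hg₀
      · rw [← hg₀, cnt_one]
      · rw [← hg₀, hc2]
    · exact hk
  · right; left
    rcases (by omega : j = 1 ∨ 2 ≤ j) with rfl | hj2
    · exact ⟨e⟩
    · exfalso
      have hcongr : ∀ d, cnt G d = cnt (QuaternionGroup (2 ^ j)) d := fun d =>
        Nat.card_congr (e.toEquiv.subtypeEquiv fun g => by
          rw [show orderOf (e.toEquiv g) = orderOf g from orderOf_injective e.toMonoidHom e.injective g])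
      have : NeZero (2 ^ j) := ⟨by positivity⟩
      have h8 : ∃ x : G, orderOf x = 8 := by
        obtain ⟨x, hx⟩ : ∃ x : G, orderOf x = 2 * 2 ^ j := ⟨e.symm (QuaternionGroup.a 1),
          (orderOf_injective e.symm.toMonoidHom e.symm.injective _).trans QuaternionGroup.orderOf_a_one⟩
        refine hdvd x 8 ?_
        rw [hx, ← pow_succ', show 8 = 2 ^ 3 from rfl]
        exact pow_dvd_pow 2 (by omega)
      have h4 : ∃ x : G, orderOf x = 4 := ⟨e.symm (QuaternionGroup.xa 0),
        (orderOf_injective e.symm.toMonoidHom e.symm.injective _).trans (QuaternionGroup.orderOf_xa 0)⟩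
      obtain ⟨x8, hx8⟩ := h8
      obtain ⟨x4, hx4⟩ := h4
      have e4 := hbig x4 (by omega)
      have e8 := hbig x8 (by omega)
      rw [hx4, hcongr] at e4
      rw [hx8, hcongr] at e8
      exact cnt_quaternion_eight hj2 (e4.trans e8.symm)

end Cfsg.Agent.S3995
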