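import Cfsg.Statements.S3996
import Cfsg.Agent.Lib.OrderCounts.ThreeValues
import Cfsg.Agent.Lib.CyclicSylow.Basic
import Cfsg.Agent.Lib.DihedralSylow.Subgroups
-- import your own Cfsg.Agent.* helpers here

set_option autoImplicit false
open Cfsg

namespace Cfsg.Agent.S3996

open Subgroup OrderCounts

theorem isSolvable_of_subset {G : Type*} [Group G] [Finite G] {p q : ℕ} (hp : p.Prime) (hq : q.Prime)
    (h : ∀ r : ℕ, r.Prime → r ∣ Nat.card G → r = p ∨ r = q) : Group.IsSolvable G := by
  obtain ⟨a, b, hab⟩ := exists_pow_mul_pow Nat.card_pos.ne' hp h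
  exact CharInt.isSolvable_of_card_eq hp hq hab

/-- A finite group in which the numbers of elements of each order that occurs (the numbers #{g : o(g) = m}, m ranging over the element orders) take exactly three different values is solvable. -/
theorem result {G : Type*} [Group G] [Finite G] (h : (((fun m : ℕ => Nat.card {g : G // orderOf g = m}) '' Set.range (orderOf : G → ℕ))).ncard = 3) : Group.IsSolvable G := by
  classical
  have h' : (((fun m : ℕ => num G m) '' Set.range (orderOf : G → ℕ))).ncard = 3 := h
  by_cases h1 : ∃ p q : ℕ, p.Prime ∧ q.Prime ∧ p ≠ 2 ∧ q ≠ 2 ∧ p ≠ q ∧ p ∣ Nat.card G ∧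
      q ∣ Nat.card G
  · obtain ⟨p, q, hp, hq, hp2, hq2, hpq, hpG, hqG⟩ := h1
    have honly : ∀ r : ℕ, r.Prime → r ∣ Nat.card G → r = 2 ∨ r = p ∨ r = q := by
      intro r hr hrG
      by_contra hc
      push Not at hc
      exact not_three_odd h' hp hq hr hp2 hq2 hc.1 hpq (Ne.symm hc.2.1) (Ne.symm hc.2.2) hpG hqG hrG
    by_cases h2 : 2 ∣ Nat.card G
    · -- Sylow `2`-subgroup of order `2`
      have h4 := not_four_dvd h' hp hq hp2 hq2 hpq hpG hqG
      haveI : Fact (Nat.Prime 2) := ⟨Nat.prime_two⟩
      let S : Sylow 2 G := default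
      obtain ⟨k, hk⟩ := IsPGroup.iff_card.1 S.2
      have hk1 : k ≤ 1 := by
        by_contra hk1
        exact h4 ((pow_dvd_pow 2 (show 2 ≤ k by omega)).trans (hk ▸ card_subgroup_dvd_card _))
      haveI hcyc : IsCyclic (S : Subgroup G) := by
        rcases (by omega : k = 0 ∨ k = 1) with rfl | rfl
        · haveI : Subsingleton (S : Subgroup G) :=
            (Nat.card_eq_one_iff_unique.1 (by rw [hk, pow_zero])).1
          infer_instance
        · exact isCyclic_of_prime_card (p := 2) (by rw [hk, pow_one])
      have hn := Transfer.hasNormalPComplement_of_normalizer_le_centralizer S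
        (CyclicSylow.normalizer_le_centralizer_of S hcyc fun b hb hb2 =>
          DihedralSylow.mem_centralizer_of_isCyclic (S : Subgroup G) S.2 hb
            (Nat.odd_iff.2 (Nat.two_dvd_ne_zero.1 hb2)))
      set K := Cfsg.pResidual 2 G
      haveI : K.Normal := Transfer.pResidual_normal 2
      have hK : Group.IsSolvable K := isSolvable_of_subset hp hq fun r hr hrK => by
        rcases honly r hr (hrK.trans (card_subgroup_dvd_card K)) with rfl | e
        · exact absurd hrK (Transfer.hasNormalPComplement_iff.1 hn)
        · exact e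
      haveI := (Transfer.isPGroup_quotient_pResidual (G := G) 2).isNilpotent
      have : Group.IsSolvable (G ⧸ K) := inferInstance
      exact Group.isSolvable_of_ker_le_range K.subtype (QuotientGroup.mk' K) (by simp)
    · exact isSolvable_of_subset hp hq fun r hr hrG => by
        rcases honly r hr hrG with rfl | e
        · exact absurd hrG h2
        · exact e
  · by_cases h3 : ∃ p : ℕ, p.Prime ∧ p ≠ 2 ∧ p ∣ Nat.card G
    · obtain ⟨p, hp, hp2, hpG⟩ := h3
      refine isSolvable_of_subset Nat.prime_two hp fun r hr hrG => ?_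
      by_contra hc
      push Not at hc
      exact h1 ⟨p, r, hp, hr, hp2, hc.1, Ne.symm hc.2, hpG, hrG⟩
    · refine isSolvable_of_subset Nat.prime_two Nat.prime_two fun r hr hrG => Or.inl ?_
      by_contra hc
      exact h3 ⟨r, hr, hc, hrG⟩

end Cfsg.Agent.S3996
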