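import Cfsg.Statements.S3997
import Mathlib.GroupTheory.Nilpotent

set_option autoImplicit false
open Cfsg

namespace Cfsg.Agent.S3997

/-- In a group with normal Sylow `p`-subgroup the solutions of `x ^ |P| = 1` form `P`. -/
theorem mem_iff_pow {G : Type*} [Group G] [Finite G] {p : ℕ} [Fact p.Prime] (P : Sylow p G)
    (hP : (P : Subgroup G).Normal) (x : G) : x ∈ (P : Subgroup G) ↔ x ^ Nat.card P = 1 := by
  refine ⟨fun h => orderOf_dvd_iff_pow_eq_one.1 (Subgroup.orderOf_dvd_natCard _ h), fun h => ?_⟩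
  obtain ⟨n, hn⟩ := P.isPGroup'.exists_card_eq
  have hz : IsPGroup p (Subgroup.zpowers x) := by
    obtain ⟨l, -, hl⟩ := (Nat.dvd_prime_pow (Fact.out : p.Prime)).1
      (hn ▸ orderOf_dvd_of_pow_eq_one h)
    exact IsPGroup.of_card (n := l) (by rw [Nat.card_zpowers, hl])
  obtain ⟨Q, hQ⟩ := hz.exists_le_sylow
  have : Q = P := (Sylow.unique_of_normal P hP).uniq Q |>.trans ((Sylow.unique_of_normal P hP).uniq P).symm
  exact this ▸ hQ (Subgroup.mem_zpowers x)

/-- Let G and H be finite groups with the same order type: for every m they have the same number of elements of order m. If G is nilpotent then so is H. -/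
theorem result {G H : Type*} [Group G] [Finite G] [Group H] [Finite H] (hT : (∀ m : ℕ, Nat.card {g : G // orderOf g = m} = Nat.card {h : H // orderOf h = m})) (hG : Group.IsNilpotent G) :
    Group.IsNilpotent H := by
  classical
  have e' : ∀ m : ℕ, Nonempty ({g : G // orderOf g = m} ≃ {h : H // orderOf h = m}) := fun m =>
    Finite.card_eq.1 (hT m)
  let e : G ≃ H := Equiv.ofFiberEquiv fun m => (e' m).some
  have he : ∀ g, orderOf (e g) = orderOf g := fun g => Equiv.ofFiberEquiv_map _ g
  have hn := (Group.isNilpotent_of_finite_tfae (G := G)).out 0 3 rfl rfl |>.1 hG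
  refine (Group.isNilpotent_of_finite_tfae (G := H)).out 0 3 rfl rfl |>.2 fun p hp P => ?_
  let Q : Sylow p G := default
  have hcard : Nat.card P = Nat.card Q := by
    rw [P.card_eq_multiplicity, Q.card_eq_multiplicity, Nat.card_congr e]
  let T : Set H := {y | y ^ Nat.card P = 1}
  have hT' : T.ncard = Nat.card P := by
    conv_rhs => rw [hcard]
    rw [← Nat.card_coe_set_eq]
    refine Nat.card_congr (e.subtypeEquiv fun g => ?_).symm
    show g ∈ (Q : Subgroup G) ↔ e g ^ Nat.card P = 1
    rw [mem_iff_pow Q (hn p hp Q), hcard, ← orderOf_dvd_iff_pow_eq_one, ← orderOf_dvd_iff_pow_eq_one,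
      he]
  have hsub : ((P : Subgroup H) : Set H) ⊆ T := fun y hy =>
    orderOf_dvd_iff_pow_eq_one.1 (Subgroup.orderOf_dvd_natCard _ hy)
  have heq : ((P : Subgroup H) : Set H) = T :=
    Set.eq_of_subset_of_ncard_le hsub (by rw [hT', ← Nat.card_coe_set_eq]; exact le_rfl)
  refine ⟨fun y hy g => ?_⟩
  have h1 : y ∈ T := heq ▸ hy
  have h2 : g * y * g⁻¹ ∈ T := by
    show _ ^ _ = 1
    rw [conj_pow, show y ^ Nat.card P = 1 from h1, mul_one, mul_inv_cancel]
  exact (Set.ext_iff.1 heq _).2 h2

end Cfsg.Agent.S3997
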