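import Cfsg.Statements.S3998
import Mathlib.GroupTheory.SchurZassenhaus
import Mathlib.GroupTheory.SpecificGroups.Cyclic
-- import your own Cfsg.Agent.* helpers here

set_option autoImplicit false
open Cfsg

namespace Cfsg.Agent.S3998


/-- Every prime divisor of the order of `g` is at least `t`. -/
def BigOrder {G : Type*} [Monoid G] (t : ℕ) (g : G) : Prop :=
  ∀ q : ℕ, q.Prime → q ∣ orderOf g → t ≤ q

theorem bigOrder_conj {G : Type*} [Group G] {t : ℕ} {g : G} (h : BigOrder t g) (x : G) :
    BigOrder t (x * g * x⁻¹) := by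
  intro q hq hd
  have he : orderOf (x * g * x⁻¹) = orderOf g := by
    rw [← MulAut.conj_apply]; exact MulEquiv.orderOf_eq _ g
  exact h q hq (he ▸ hd)

theorem normal_of_bigOrder {G : Type*} [Group G] {t : ℕ} {N : Subgroup G}
    (hN : ∀ g, g ∈ N ↔ BigOrder t g) : N.Normal :=
  ⟨fun n hn x => (hN _).2 (bigOrder_conj ((hN _).1 hn) x)⟩

theorem bigOrder_of_card {G : Type*} [Group G] {t : ℕ} {N : Subgroup G}
    (hN : ∀ q : ℕ, q.Prime → q ∣ Nat.card N → t ≤ q) {g : G} (hg : g ∈ N) : BigOrder t g :=
  fun q hq hd => hN q hq (hd.trans (Subgroup.orderOf_dvd_natCard N hg))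

/-- Cauchy: the primes dividing a subgroup of elements of big order are big. -/
theorem card_primes_of_bigOrder {G : Type*} [Group G] [Finite G] {t : ℕ} {N : Subgroup G}
    (hN : ∀ g ∈ N, BigOrder t g) : ∀ q : ℕ, q.Prime → q ∣ Nat.card N → t ≤ q := by
  intro q hq hd
  haveI := Fact.mk hq
  obtain ⟨x, hx⟩ := exists_prime_orderOf_dvd_card' q hd
  refine hN x x.2 q hq ?_
  rw [Subgroup.orderOf_coe, hx]

theorem index_primes_of_bigOrder {G : Type*} [Group G] [Finite G] {t : ℕ} {N : Subgroup G}
    (hN : ∀ g, g ∈ N ↔ BigOrder t g) : ∀ q : ℕ, q.Prime → q ∣ N.index → q < t := by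
  intro q hq hd
  by_contra hlt
  haveI := Fact.mk hq
  let P : Sylow q G := default
  have hle : (P : Subgroup G) ≤ N := fun g hg => (hN g).2 (by
    obtain ⟨k, hk⟩ := IsPGroup.iff_orderOf.1 P.isPGroup' ⟨g, hg⟩
    rw [← Subgroup.orderOf_coe] at hk
    intro r hr hrd
    rw [hk] at hrd
    have := (Nat.prime_dvd_prime_iff_eq hr hq).1 (hr.dvd_of_dvd_pow hrd)
    omega)
  exact P.not_dvd_index (hd.trans (Subgroup.index_dvd_of_le hle))

/-- A supersolvable group with more than one element has a normal subgroup of prime order. -/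
theorem exists_prime_normal {G : Type*} [Group G] [Finite G] [Nontrivial G]
    (hG : Cfsg.IsSupersolvable G) :
    ∃ R : Subgroup G, R.Normal ∧ (Nat.card R).Prime := by
  obtain ⟨n, H, h0, hn, hnorm, hstep⟩ := hG
  have key : ∀ i : Fin (n + 1), H i = ⊥ ∨ ∃ g : G, g ≠ 1 ∧ (Subgroup.zpowers g).Normal := by
    intro i
    induction i using Fin.induction with
    | zero => exact Or.inl h0
    | succ i ih =>
      rcases ih with ih | ih
      · obtain ⟨g, hg⟩ := hstep i
        rw [ih, bot_sup_eq] at hg
        by_cases hg1 : g = 1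
        · exact Or.inl (by rw [hg, hg1, Subgroup.zpowers_one_eq_bot])
        · exact Or.inr ⟨g, hg1, hg ▸ hnorm i.succ⟩
      · exact Or.inr ih
  rcases key (Fin.last n) with h | ⟨g, hg1, hgn⟩
  · rw [hn] at h; exact absurd h top_ne_bot
  · obtain ⟨r, hr, hrd⟩ := Nat.exists_prime_and_dvd (mt orderOf_eq_one_iff.1 hg1)
    refine ⟨Subgroup.zpowers (g ^ (orderOf g / r)), ⟨fun y hy x => ?_⟩, ?_⟩
    · obtain ⟨k, rfl⟩ := hy
      obtain ⟨j, hj⟩ := hgn.conj_mem g (Subgroup.mem_zpowers g) x
      simp only at hj ⊢
      refine ⟨j * k, ?_⟩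
      simp only
      rw [← conj_zpow, ← conj_pow, ← hj]
      simp only [← zpow_natCast, ← zpow_mul]
      congr 1; ring
    · rw [Nat.card_zpowers, orderOf_pow, Nat.gcd_eq_right (Nat.div_dvd_of_dvd hrd),
        Nat.div_div_self hrd (orderOf_pos g).ne']
      exact hr

theorem isSupersolvable_quotient {G : Type*} [Group G] (N : Subgroup G) [N.Normal]
    (hG : Cfsg.IsSupersolvable G) : Cfsg.IsSupersolvable (G ⧸ N) := by
  obtain ⟨n, H, h0, hn, hnorm, hstep⟩ := hG
  refine ⟨n, fun i => (H i).map (QuotientGroup.mk' N), by simp [h0], ?_,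
    fun i => (hnorm i).map _ (QuotientGroup.mk'_surjective N), fun i => ?_⟩
  · simp only [hn]; exact Subgroup.map_top_of_surjective _ (QuotientGroup.mk'_surjective N)
  · obtain ⟨g, hg⟩ := hstep i
    refine ⟨QuotientGroup.mk' N g, ?_⟩
    simp only [hg, Subgroup.map_sup, MonoidHom.map_zpowers]

/-- In a finite supersolvable group the elements all of whose prime divisors are at least `t`
form a subgroup. -/
theorem exists_bigOrder_subgroup.{u} : ∀ (k : ℕ) (G : Type u) [Group G] [Finite G],
    Nat.card G = k → Cfsg.IsSupersolvable G → ∀ t : ℕ, ∃ N : Subgroup G, ∀ g, g ∈ N ↔ BigOrder t g := by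
  intro k
  induction k using Nat.strong_induction_on with
  | _ k ih =>
  intro G _ _ hk hG t
  rcases subsingleton_or_nontrivial G with hs | hs
  · refine ⟨⊤, fun g => iff_of_true (Subgroup.mem_top g) fun q hq hd => ?_⟩
    rw [Subsingleton.elim g 1, orderOf_one] at hd
    exact absurd (Nat.dvd_one.1 hd) hq.ne_one
  obtain ⟨R, hRn, hRp⟩ := exists_prime_normal hG
  have hlt : Nat.card (G ⧸ R) < k := by
    rw [← hk, Subgroup.card_eq_card_quotient_mul_card_subgroup R]
    exact lt_mul_of_one_lt_right Nat.card_pos hRp.one_lt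
  obtain ⟨Nb, hNb⟩ := ih _ hlt (G ⧸ R) rfl (isSupersolvable_quotient R hG) t
  let f : G →* G ⧸ R := QuotientGroup.mk' R
  let K : Subgroup G := Nb.comap f
  have hK : ∀ g, BigOrder t g → g ∈ K := fun g hg =>
    (hNb _).2 fun q hq hd => hg q hq (hd.trans (orderOf_map_dvd f g))
  by_cases hr : t ≤ Nat.card R
  · refine ⟨K, fun g => ⟨fun hg q hq hd => ?_, hK g⟩⟩
    have h1 : g ^ orderOf (f g) ∈ R := by
      rw [← QuotientGroup.eq_one_iff]
      exact (map_pow f g _).trans (pow_orderOf_eq_one (f g))
    have h2 : g ^ (orderOf (f g) * Nat.card R) = 1 := by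
      rw [pow_mul]; exact orderOf_dvd_iff_pow_eq_one.1 (Subgroup.orderOf_dvd_natCard R h1)
    rcases hq.dvd_mul.1 (hd.trans (orderOf_dvd_of_pow_eq_one h2)) with h | h
    · exact (hNb _).1 hg q hq h
    · exact ((Nat.prime_dvd_prime_iff_eq hq hRp).1 h) ▸ hr
  · push Not at hr
    haveI : Fact (Nat.card R).Prime := ⟨hRp⟩
    have hRK : R ≤ K := fun x hx => by
      change f x ∈ Nb
      rw [show f x = 1 from (QuotientGroup.eq_one_iff x).2 hx]; exact Nb.one_mem
    have hnb : ∀ q : ℕ, q.Prime → q ∣ Nat.card Nb → t ≤ q :=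
      card_primes_of_bigOrder fun g hg => (hNb g).1 hg
    have hcopn : Nat.Coprime (Nat.card R - 1) (Nat.card Nb) := by
      refine Nat.coprime_of_dvd fun q hq hd1 hd2 => ?_
      have h1 : 0 < Nat.card R - 1 := by have := hRp.two_le; omega
      have := hnb q hq hd2
      have := Nat.le_of_dvd h1 hd1
      omega
    have hcen : ∀ g ∈ K, ∀ x ∈ R, g * x = x * g := by
      intro g hg x hx
      let α : MulAut R := MulAut.conjNormal g
      have h1 : orderOf α ∣ Nat.card R - 1 := by
        haveI : IsCyclic R := isCyclic_of_prime_card rfl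
        have : Nat.card (MulAut R) = Nat.card R - 1 := by
          rw [IsCyclic.card_mulAut, Nat.totient_prime hRp]
        exact this ▸ orderOf_dvd_natCard α
      have h2 : orderOf α ∣ Nat.card Nb := by
        refine orderOf_dvd_of_pow_eq_one ?_
        haveI : IsCyclic R := isCyclic_of_prime_card rfl
        have hmem : g ^ Nat.card Nb ∈ R := by
          rw [← QuotientGroup.eq_one_iff]
          exact (map_pow f g _).trans
            (orderOf_dvd_iff_pow_eq_one.1 (Subgroup.orderOf_dvd_natCard Nb hg))
        ext y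
        show (((MulAut.conjNormal g : MulAut R) ^ Nat.card Nb) y : G) = (y : G)
        rw [← map_pow, MulAut.conjNormal_apply]
        have hc : (⟨_, hmem⟩ : R) * y = y * ⟨_, hmem⟩ :=
          IsMulCommutative.is_comm.comm _ _
        have hc' : g ^ Nat.card Nb * (y : G) = y * g ^ Nat.card Nb := congrArg Subtype.val hc
        rw [hc', mul_inv_cancel_right]
      have h3 : α = 1 := orderOf_eq_one_iff.1 (Nat.eq_one_of_dvd_coprimes hcopn h1 h2)
      have h4 : g * x * g⁻¹ = x := by
        have := congrArg (fun β : MulAut R => (β ⟨x, hx⟩ : G)) h3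
        simpa [α] using this
      calc g * x = g * x * g⁻¹ * g := by group
        _ = x * g := by rw [h4]
    let RK : Subgroup K := R.subgroupOf K
    have hcardRK : Nat.card RK = Nat.card R := Nat.card_congr (Subgroup.subgroupOfEquivOfLe hRK).toEquiv
    have hidx : RK.index = Nat.card Nb := by
      have h1 : Nat.card RK * RK.index = Nat.card K := RK.card_mul_index
      have h2 : Nat.card K = Nat.card R * Nat.card Nb := by
        have h3 := Subgroup.index_comap_of_surjective Nb (f := f) (QuotientGroup.mk'_surjective R)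
        have h4 : Nat.card K * K.index = Nat.card G := K.card_mul_index
        have h5 : Nat.card Nb * Nb.index = Nat.card (G ⧸ R) := Nb.card_mul_index
        have h6 := Subgroup.card_eq_card_quotient_mul_card_subgroup R
        have h7 : Nb.index ≠ 0 := Subgroup.index_ne_zero_of_finite
        apply Nat.eq_of_mul_eq_mul_right (Nat.pos_of_ne_zero h7)
        rw [mul_assoc, h5]
        have : K.index = Nb.index := h3
        rw [← this, h4, h6, mul_comm]
      rw [hcardRK, h2] at h1
      exact Nat.eq_of_mul_eq_mul_left hRp.pos h1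
    have hcop : Nat.Coprime (Nat.card RK) RK.index := by
      rw [hcardRK, hidx]
      refine (hRp.coprime_iff_not_dvd).2 fun hd => ?_
      have := hnb _ hRp hd
      omega
    obtain ⟨C, hC⟩ := hcop |> Subgroup.exists_right_complement'_of_coprime
    have hCn : C.Normal := by
      refine ⟨fun c hc g => ?_⟩
      obtain ⟨⟨z, d⟩, hzd, -⟩ := hC.existsUnique g
      simp only at hzd
      have hz : ∀ y : K, (z : K) * y = y * z := fun y => Subtype.ext (hcen _ y.2 _ z.2).symm
      have : g * c * g⁻¹ = (d : K) * c * (d : K)⁻¹ := by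
        rw [← hzd, mul_inv_rev, show (z : K) * d * c * ((d : K)⁻¹ * (z : K)⁻¹)
          = (z : K) * ((d : K) * c * (d : K)⁻¹) * (z : K)⁻¹ by group, hz, mul_inv_cancel_right]
      rw [this]
      exact C.mul_mem (C.mul_mem d.2 hc) (C.inv_mem d.2)
    have hCidx : C.index = Nat.card R := by rw [← hcardRK]; exact (Subgroup.IsComplement'.index_eq_card hC)
    have hCcard : Nat.card C = Nat.card Nb := by
      rw [← hidx]; exact (Subgroup.IsComplement'.index_eq_card hC.symm).symm
    refine ⟨C.map K.subtype, fun g => ⟨fun hg => ?_, fun hg => ?_⟩⟩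
    · refine bigOrder_of_card (fun q hq hd => hnb q hq ?_) hg
      rw [Subgroup.card_map_of_injective K.subtype_injective, hCcard] at hd
      exact hd
    · refine ⟨⟨g, hK g hg⟩, ?_, rfl⟩
      let g' : K := ⟨g, hK g hg⟩
      have h1 : orderOf (QuotientGroup.mk' C g') ∣ Nat.card R := hCidx ▸ orderOf_dvd_natCard _
      have h2 : orderOf (QuotientGroup.mk' C g') ∣ orderOf g' := orderOf_map_dvd _ g'
      rcases (Nat.dvd_prime hRp).1 h1 with h | h
      · exact (QuotientGroup.eq_one_iff g').1 (orderOf_eq_one_iff.1 h)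
      · exfalso
        rw [h, ← Subgroup.orderOf_coe] at h2
        have := hg _ hRp h2
        omega

theorem card_mul_relIndex {G : Type*} [Group G] {K L : Subgroup G} (h : K ≤ L) :
    Nat.card K * K.relIndex L = Nat.card L := by
  rw [Subgroup.relIndex, ← Nat.card_congr (Subgroup.subgroupOfEquivOfLe h).toEquiv]
  exact (K.subgroupOf L).card_mul_index

open scoped Classical in
/-- The key step: the property passes to a group with the same order type. -/
theorem exists_solvable_bigOrder {G H : Type*} [Group G] [Finite G] [Group H] [Finite H]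
    (e : G ≃ H) (he : ∀ g, orderOf (e g) = orderOf g)
    (t₀ : ℕ) (hG : ∀ t : ℕ, t₀ ≤ t → ∃ N : Subgroup G, ∀ g, g ∈ N ↔ BigOrder t g) :
    ∀ j t : ℕ, t₀ ≤ t → Nat.card H < t + j →
      ∃ M : Subgroup H, (∀ h, h ∈ M ↔ BigOrder t h) ∧ Group.IsSolvable M := by
  intro j
  induction j with
  | zero =>
    intro t _ ht
    refine ⟨⊥, fun h => ⟨fun hh q hq hd => ?_, fun hh => ?_⟩, inferInstance⟩
    · rw [Subgroup.mem_bot.1 hh, orderOf_one] at hd
      exact absurd (Nat.dvd_one.1 hd) hq.ne_one
    · rw [Subgroup.mem_bot]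
      by_contra hne
      obtain ⟨q, hq, hqd⟩ := Nat.exists_prime_and_dvd (mt orderOf_eq_one_iff.1 hne)
      have h1 := hh q hq hqd
      have h2 := Nat.le_of_dvd Nat.card_pos (hqd.trans (orderOf_dvd_natCard h))
      omega
  | succ j ih =>
    intro t ht0 ht
    obtain ⟨M, hM, hMs⟩ := ih (t + 1) (by omega) (by omega)
    by_cases hp : t.Prime
    swap
    · refine ⟨M, fun h => (hM h).trans ⟨fun a q hq hd => (a q hq hd).trans' (Nat.le_succ t),
        fun a q hq hd => ?_⟩, hMs⟩
      have := a q hq hd
      have : q ≠ t := fun c => hp (c ▸ hq)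
      omega
    haveI hfp : Fact t.Prime := ⟨hp⟩
    haveI := normal_of_bigOrder hM
    haveI := hMs
    let P : Sylow t H := default
    obtain ⟨N, hN⟩ := hG t ht0
    let S : Subgroup H := (P : Subgroup H) ⊔ M
    have hMc := card_primes_of_bigOrder fun h hh => (hM h).1 hh
    have hMi := index_primes_of_bigOrder hM
    have hScard : Nat.card S ∣ Nat.card (P : Subgroup H) * Nat.card M := by
      have h1 : Nat.card M * M.relIndex S = Nat.card S := card_mul_relIndex le_sup_right
      have h2 : M.relIndex S = M.relIndex (P : Subgroup H) := by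
        rw [show S = M ⊔ (P : Subgroup H) from sup_comm _ _]
        exact Subgroup.relIndex_sup_left (P : Subgroup H) M
      rw [← h1, h2, mul_comm]
      exact Nat.mul_dvd_mul_right (Subgroup.index_dvd_card _) _
    have hSp : ∀ q : ℕ, q.Prime → q ∣ Nat.card S → t ≤ q := by
      intro q hq hd
      rcases hq.dvd_mul.1 (hd.trans hScard) with h | h
      · obtain ⟨n, hn⟩ := P.isPGroup'.exists_card_eq
        rw [hn] at h
        exact ((Nat.prime_dvd_prime_iff_eq hq hp).1 (hq.dvd_of_dvd_pow h)).ge
      · exact (hMc q hq h).trans' (Nat.le_succ t)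
    have hSi : ∀ q : ℕ, q.Prime → q ∣ S.index → q < t := by
      intro q hq hd
      have h1 : q < t + 1 := hMi q hq (hd.trans (Subgroup.index_dvd_of_le le_sup_right))
      have h2 : q ≠ t := fun c =>
        P.not_dvd_index (by
          have h3 : q ∣ (P : Subgroup H).index := hd.trans (Subgroup.index_dvd_of_le le_sup_left)
          rwa [c] at h3)
      omega
    have hcop : Nat.Coprime (Nat.card N) S.index :=
      Nat.coprime_of_dvd fun q hq h1 h2 => absurd (hSi q hq h2)
        (not_lt.2 (card_primes_of_bigOrder (fun g hg => (hN g).1 hg) q hq h1))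
    have hdvd : Nat.card N ∣ Nat.card S := by
      refine hcop.dvd_of_dvd_mul_right ?_
      rw [S.card_mul_index, ← Nat.card_congr e]
      exact N.card_subgroup_dvd_card
    let T : Set H := {h | BigOrder t h}
    have hsub : (S : Set H) ⊆ T := fun h hh => bigOrder_of_card hSp hh
    have hT' : T.ncard = Nat.card N := by
      rw [← Nat.card_coe_set_eq]
      refine Nat.card_congr (e.subtypeEquiv fun g => ?_).symm
      show g ∈ N ↔ BigOrder t (e g)
      rw [hN, BigOrder, BigOrder, he]
    have hle : T.ncard ≤ (S : Set H).ncard := by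
      rw [hT', ← Nat.card_coe_set_eq]
      exact Nat.le_of_dvd Nat.card_pos hdvd
    have heq : (S : Set H) = T := Set.eq_of_subset_of_ncard_le hsub hle
    refine ⟨S, fun h => Set.ext_iff.1 heq h, ?_⟩
    let f : S →* H ⧸ M := (QuotientGroup.mk' M).comp S.subtype
    have hr : Group.IsSolvable f.range := by
      have h1 : f.range = (P : Subgroup H).map (QuotientGroup.mk' M) := by
        rw [MonoidHom.range_comp, Subgroup.range_subtype, Subgroup.map_sup,
          QuotientGroup.map_mk'_self, sup_bot_eq]
      rw [h1]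
      haveI := (P.isPGroup'.map (QuotientGroup.mk' M)).isNilpotent
      infer_instance
    haveI := hr
    have hle' : f.rangeRestrict.ker ≤ (Subgroup.inclusion (le_sup_right : M ≤ S)).range := by
      intro x hx
      rw [MonoidHom.ker_rangeRestrict, MonoidHom.mem_ker] at hx
      exact ⟨⟨(x : H), (QuotientGroup.eq_one_iff (x : H)).1 hx⟩, Subtype.ext rfl⟩
    exact Group.isSolvable_of_ker_le_range (Subgroup.inclusion (le_sup_right : M ≤ S))
      f.rangeRestrict hle'

/-- Let G and H be finite groups with the same order type (for every m the same number of elements of order m). If G is supersolvable then H is solvable. -/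
theorem result {G H : Type*} [Group G] [Finite G] [Group H] [Finite H] (hT : (∀ m : ℕ, Nat.card {g : G // orderOf g = m} = Nat.card {h : H // orderOf h = m})) (hG : Cfsg.IsSupersolvable G) :
    Group.IsSolvable H := by
  classical
  have e' : ∀ m : ℕ, Nonempty ({g : G // orderOf g = m} ≃ {h : H // orderOf h = m}) := fun m =>
    Finite.card_eq.1 (hT m)
  let e : G ≃ H := Equiv.ofFiberEquiv fun m => (e' m).some
  have he : ∀ g, orderOf (e g) = orderOf g := fun g => Equiv.ofFiberEquiv_map _ g
  obtain ⟨M, hM, hMs⟩ := exists_solvable_bigOrder e he 0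
    (fun t _ => exists_bigOrder_subgroup _ G rfl hG t) (Nat.card H + 1) 0 le_rfl (by omega)
  have htop : M = ⊤ := top_le_iff.1 fun h _ => (hM h).2 fun q _ _ => Nat.zero_le q
  haveI : Group.IsSolvable (⊤ : Subgroup H) := htop ▸ hMs
  exact Group.isSolvable_of_surjective (f := Subgroup.topEquiv.toMonoidHom)
    Subgroup.topEquiv.surjective

end Cfsg.Agent.S3998
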