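import Cfsg.Statements.S3999
import Cfsg.Agent.S3997
import Cfsg.Agent.S3998
import Cfsg.Agent.S0042
import Cfsg.Agent.Lib.PrimeParts.Basic
import Cfsg.Agent.Lib.CharInt.FrobeniusKernel
import Cfsg.Agent.Lib.CharInt.Burnside
import Cfsg.Agent.Lib.Coprime.Generation
import Cfsg.Agent.Lib.Components.Fitting
import Cfsg.Agent.Lib.PGroup.UniqueOrderP
import Cfsg.Agent.Lib.Solvable.Basic
import Cfsg.Agent.Lib.PCore.Basic

set_option autoImplicit false
open Cfsg

namespace Cfsg.Agent.S3999


open scoped Pointwise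

/-- Every `p`-subgroup is cyclic for odd `p` and every 2-subgroup is 2-generated. -/
def SmallSylows (C : Type*) [Group C] : Prop :=
  (∀ p : ℕ, p.Prime → p ≠ 2 → ∀ P : Subgroup C, IsPGroup p P → IsCyclic P) ∧
    ∀ P : Subgroup C, IsPGroup 2 P → ∃ a b : C, P = Subgroup.closure {a, b}

theorem exists_pgroup_map_eq {C D : Type*} [Group C] [Finite C] [Group D] (f : C →* D)
    (hf : Function.Surjective f) {p : ℕ} [Fact p.Prime] {Q : Subgroup D} (hQ : IsPGroup p Q) :
    ∃ P : Subgroup C, IsPGroup p P ∧ P.map f = Q := by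
  haveI := Finite.of_surjective f hf
  set K := Q.comap f with hK
  let S : Sylow p K := default
  refine ⟨(S : Subgroup K).map K.subtype, S.isPGroup'.map _, le_antisymm ?_ ?_⟩
  · rintro _ ⟨x, hx, rfl⟩
    exact Subgroup.map_subtype_le (S : Subgroup K) hx
  · let g : K →* Q := (f.comp K.subtype).codRestrict Q fun x => x.2
    have hg : Function.Surjective g := fun y => by
      obtain ⟨x, hx⟩ := hf y
      exact ⟨⟨x, show f x ∈ Q from hx ▸ y.2⟩, Subtype.ext hx⟩
    have htop : (S : Subgroup K).map g = ⊤ := by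
      rw [← Sylow.coe_mapSurjective hg]
      exact (Sylow.is_maximal' (S.mapSurjective hg) (IsPGroup.of_equiv hQ Subgroup.topEquiv.symm)
        le_top).symm
    intro y hy
    obtain ⟨x, hx, hxy⟩ := (htop ▸ Subgroup.mem_top (⟨y, hy⟩ : Q) : _ ∈ (S : Subgroup K).map g)
    exact ⟨x, ⟨x, hx, rfl⟩, congrArg Subtype.val hxy⟩

theorem smallSylows_quotient {C D : Type*} [Group C] [Finite C] [Group D] (h : SmallSylows C)
    (f : C →* D) (hf : Function.Surjective f) : SmallSylows D := by
  refine ⟨fun p hp hp2 Q hQ => ?_, fun Q hQ => ?_⟩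
  · haveI := Fact.mk hp
    obtain ⟨P, hP, rfl⟩ := exists_pgroup_map_eq f hf hQ
    haveI := h.1 p hp hp2 P hP
    exact isCyclic_of_surjective (f.subgroupMap P) (f.subgroupMap_surjective P)
  · haveI : Fact (Nat.Prime 2) := ⟨Nat.prime_two⟩
    obtain ⟨P, hP, rfl⟩ := exists_pgroup_map_eq f hf hQ
    obtain ⟨a, b, rfl⟩ := h.2 P hP
    exact ⟨f a, f b, by rw [MonoidHom.map_closure, Set.image_pair]⟩

/-- A solvable group with small Sylow subgroups has normal Hall subgroups for the primes `≥ t`. -/
theorem exists_bigOrder_of_small.{u} : ∀ (k : ℕ) (C : Type u) [Group C] [Finite C],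
    Nat.card C = k → Group.IsSolvable C → SmallSylows C → ∀ t : ℕ, 5 ≤ t →
      ∃ N : Subgroup C, ∀ g, g ∈ N ↔ S3998.BigOrder t g := by
  intro k
  induction k using Nat.strong_induction_on with
  | _ k ih =>
  intro C _ _ hk hsol hsm t ht
  rcases subsingleton_or_nontrivial C with hs | hs
  · refine ⟨⊤, fun g => iff_of_true (Subgroup.mem_top g) fun q hq hd => ?_⟩
    rw [Subsingleton.elim g 1, orderOf_one] at hd
    exact absurd (Nat.dvd_one.1 hd) hq.ne_one
  obtain ⟨R, hRn, -, hR1, hmin⟩ := Solvable.exists_minimal_normal (K := (⊤ : Subgroup C)) top_ne_bot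
  haveI := hsol
  haveI hRc : IsMulCommutative R := Solvable.isMulCommutative_of_minimal inferInstance hR1 hmin
  obtain ⟨r, hr, hexp, hRp⟩ := Solvable.exists_prime_of_minimal hR1 hmin
  haveI := Fact.mk hr
  obtain ⟨e, he⟩ := hRp.exists_card_eq
  have hf := QuotientGroup.mk'_surjective R
  let f : C →* C ⧸ R := QuotientGroup.mk' R
  have hlt : Nat.card (C ⧸ R) < k := by
    rw [← hk, Subgroup.card_eq_card_quotient_mul_card_subgroup R]
    exact lt_mul_of_one_lt_right Nat.card_pos (R.one_lt_card_iff_ne_bot.2 hR1)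
  obtain ⟨Nb, hNb⟩ := ih _ hlt (C ⧸ R) rfl inferInstance (smallSylows_quotient hsm f hf) t ht
  let K : Subgroup C := Nb.comap f
  have hK : ∀ g, S3998.BigOrder t g → g ∈ K := fun g hg =>
    (hNb _).2 fun q hq hd => hg q hq (hd.trans (orderOf_map_dvd f g))
  by_cases hrt : t ≤ r
  · refine ⟨K, fun g => ⟨fun hg q hq hd => ?_, hK g⟩⟩
    have h1 : g ^ orderOf (f g) ∈ R := by
      rw [← QuotientGroup.eq_one_iff]
      exact (map_pow f g _).trans (pow_orderOf_eq_one (f g))
    have h2 : g ^ (orderOf (f g) * r) = 1 := by rw [pow_mul]; exact hexp _ h1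
    rcases hq.dvd_mul.1 (hd.trans (orderOf_dvd_of_pow_eq_one h2)) with h | h
    · exact (hNb _).1 hg q hq h
    · exact ((Nat.prime_dvd_prime_iff_eq hq hr).1 h) ▸ hrt
  push Not at hrt
  have hRK : R ≤ K := fun x hx => by
    change f x ∈ Nb
    rw [show f x = 1 from (QuotientGroup.eq_one_iff x).2 hx]; exact Nb.one_mem
  have hnb : ∀ q : ℕ, q.Prime → q ∣ Nat.card Nb → t ≤ q :=
    S3998.card_primes_of_bigOrder fun g hg => (hNb g).1 hg
  obtain ⟨K0, hK0, hK0small⟩ : ∃ K0 : ℕ, (∀ α : MulAut R, orderOf α ∣ K0) ∧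
      ∀ q : ℕ, q.Prime → q ∣ K0 → q < t := by
    by_cases hr2 : r = 2
    · subst hr2
      obtain ⟨a, b, hab⟩ := hsm.2 R hRp
      have haR : a ∈ R := hab ▸ Subgroup.subset_closure (Set.mem_insert _ _)
      have hbR : b ∈ R := hab ▸ Subgroup.subset_closure (Set.mem_insert_of_mem _ rfl)
      have hcab : Commute a b := congrArg Subtype.val (hRc.is_comm.comm ⟨a, haR⟩ ⟨b, hbR⟩)
      have hnorm : Subgroup.zpowers a ≤ Subgroup.normalizer ((Subgroup.zpowers b : Subgroup C) : Set C) := by
        rw [Subgroup.zpowers_le, Subgroup.mem_normalizer_iff]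
        intro x
        constructor
        · rintro ⟨i, rfl⟩
          refine ⟨i, ?_⟩
          simp only
          rw [(hcab.zpow_right i).eq, mul_inv_cancel_right]
        · rintro ⟨i, hi⟩
          simp only at hi
          refine ⟨i, ?_⟩
          simp only
          calc b ^ i = a⁻¹ * (b ^ i * a) := by
                rw [← (hcab.zpow_right i).eq, inv_mul_cancel_left]
            _ = x := by rw [hi, inv_mul_cancel_right, inv_mul_cancel_left]
      have hcard : Nat.card R ≤ 4 := by
        have hsurj : Function.Surjective (fun w : Subgroup.zpowers a × Subgroup.zpowers b =>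
            (⟨(w.1 : C) * w.2, mul_mem ((Subgroup.zpowers_le.2 haR) w.1.2)
              ((Subgroup.zpowers_le.2 hbR) w.2.2)⟩ : R)) := by
          rintro ⟨x, hx⟩
          have hx' : x ∈ Subgroup.zpowers a ⊔ Subgroup.zpowers b := by
            rw [hab, Set.insert_eq, Subgroup.closure_union, ← Subgroup.zpowers_eq_closure,
              ← Subgroup.zpowers_eq_closure] at hx
            exact hx
          obtain ⟨u, hu, v, hv, rfl⟩ := (Coprime.mem_sup_iff_of_le_normalizer hnorm).1 hx'
          exact ⟨⟨⟨u, hu⟩, ⟨v, hv⟩⟩, rfl⟩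
        refine (Nat.card_le_card_of_surjective _ hsurj).trans ?_
        rw [Nat.card_prod, Nat.card_zpowers, Nat.card_zpowers]
        exact Nat.mul_le_mul (Nat.le_of_dvd two_pos (orderOf_dvd_of_pow_eq_one (hexp a haR)))
          (Nat.le_of_dvd two_pos (orderOf_dvd_of_pow_eq_one (hexp b hbR)))
      refine ⟨24, fun α => ?_, fun q hq hd => ?_⟩
      · let φ : MulAut R →* Equiv.Perm R :=
          { toFun := fun β => β.toEquiv
            map_one' := rfl
            map_mul' := fun _ _ => rfl }
        have hinj : Function.Injective φ := fun β γ h => MulEquiv.ext fun x => Equiv.congr_fun h x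
        rw [← orderOf_injective φ hinj α]
        refine (orderOf_dvd_natCard _).trans ?_
        classical
        haveI := Fintype.ofFinite R
        rw [Nat.card_eq_fintype_card, Fintype.card_perm, ← Nat.card_eq_fintype_card]
        exact (Nat.factorial_dvd_factorial hcard).trans (by decide)
      · have h24 : q ∣ 2 ^ 3 * 3 := hd
        rcases hq.dvd_mul.1 h24 with h | h
        · have := Nat.le_of_dvd (by norm_num) (hq.dvd_of_dvd_pow h); omega
        · have := Nat.le_of_dvd (by norm_num) h; omega
    · haveI : IsCyclic R := hsm.1 r hr hr2 R hRp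
      have hcard : Nat.card R = r := by
        obtain ⟨g, hg⟩ := IsCyclic.exists_ofOrder_eq_natCard (α := R)
        have h1 : Nat.card R ∣ r := hg ▸ orderOf_dvd_of_pow_eq_one (Subtype.ext (hexp g g.2))
        rcases (Nat.dvd_prime hr).1 h1 with h2 | h2
        · exact absurd (Subgroup.card_eq_one.1 h2) hR1
        · exact h2
      refine ⟨r - 1, fun α => ?_, fun q hq hd => ?_⟩
      · have : Nat.card (MulAut R) = r - 1 := by
          rw [IsCyclic.card_mulAut, hcard, Nat.totient_prime hr]
        exact this ▸ orderOf_dvd_natCard α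
      · have h1 : 0 < r - 1 := by have := hr.two_le; omega
        have := Nat.le_of_dvd h1 hd
        omega
  have hcen : ∀ g ∈ K, ∀ x ∈ R, g * x = x * g := by
    intro g hg x hx
    let α : MulAut R := MulAut.conjNormal g
    have h2 : orderOf α ∣ Nat.card Nb := by
      refine orderOf_dvd_of_pow_eq_one ?_
      have hmem : g ^ Nat.card Nb ∈ R := by
        rw [← QuotientGroup.eq_one_iff]
        exact (map_pow f g _).trans
          (orderOf_dvd_iff_pow_eq_one.1 (Subgroup.orderOf_dvd_natCard Nb hg))
      ext y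
      show (((MulAut.conjNormal g : MulAut R) ^ Nat.card Nb) y : C) = (y : C)
      rw [← map_pow, MulAut.conjNormal_apply]
      have hc : (⟨_, hmem⟩ : R) * y = y * ⟨_, hmem⟩ := hRc.is_comm.comm _ _
      have hc' : g ^ Nat.card Nb * (y : C) = y * g ^ Nat.card Nb := congrArg Subtype.val hc
      rw [hc', mul_inv_cancel_right]
    have h3 : α = 1 := orderOf_eq_one_iff.1 (Nat.eq_one_of_dvd_coprimes
      (Nat.coprime_of_dvd fun q hq a b => absurd (hK0small q hq a) (not_lt.2 (hnb q hq b)))
      (hK0 α) h2)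
    have h4 : g * x * g⁻¹ = x := by
      have := congrArg (fun β : MulAut R => (β ⟨x, hx⟩ : C)) h3
      simpa [α] using this
    calc g * x = g * x * g⁻¹ * g := by group
      _ = x * g := by rw [h4]
  let RK : Subgroup K := R.subgroupOf K
  have hcardRK : Nat.card RK = r ^ e := by
    rw [Nat.card_congr (Subgroup.subgroupOfEquivOfLe hRK).toEquiv, he]
  have hidx : RK.index = Nat.card Nb := by
    have h1 : Nat.card RK * RK.index = Nat.card K := RK.card_mul_index
    have h2 : Nat.card K = r ^ e * Nat.card Nb := by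
      have h3 : K.index = Nb.index := Subgroup.index_comap_of_surjective Nb (f := f) hf
      have h5 : Nat.card Nb * Nb.index = Nat.card (C ⧸ R) := Nb.card_mul_index
      apply Nat.eq_of_mul_eq_mul_right (Nat.pos_of_ne_zero (Subgroup.index_ne_zero_of_finite (H := Nb)))
      rw [mul_assoc, h5, ← h3, K.card_mul_index, Subgroup.card_eq_card_quotient_mul_card_subgroup R,
        he, mul_comm]
    rw [hcardRK, h2] at h1
    exact Nat.eq_of_mul_eq_mul_left (pow_pos hr.pos e) h1
  have hcop : Nat.Coprime (Nat.card RK) RK.index := by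
    rw [hcardRK, hidx]
    refine ((hr.coprime_iff_not_dvd).2 fun hd => ?_).pow_left e
    have := hnb r hr hd
    omega
  obtain ⟨D, hD⟩ := hcop |> Subgroup.exists_right_complement'_of_coprime
  have hDn : D.Normal := by
    refine ⟨fun c hc g => ?_⟩
    obtain ⟨⟨z, d⟩, hzd, -⟩ := hD.existsUnique g
    simp only at hzd
    have hz : ∀ y : K, (z : K) * y = y * z := fun y => Subtype.ext (hcen _ y.2 _ z.2).symm
    have : g * c * g⁻¹ = (d : K) * c * (d : K)⁻¹ := by
      rw [← hzd, mul_inv_rev, show (z : K) * d * c * ((d : K)⁻¹ * (z : K)⁻¹)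
        = (z : K) * ((d : K) * c * (d : K)⁻¹) * (z : K)⁻¹ by group, hz, mul_inv_cancel_right]
    rw [this]
    exact D.mul_mem (D.mul_mem d.2 hc) (D.inv_mem d.2)
  have hDidx : D.index = r ^ e := by rw [← hcardRK]; exact Subgroup.IsComplement'.index_eq_card hD
  have hDcard : Nat.card D = Nat.card Nb := by
    rw [← hidx]; exact (Subgroup.IsComplement'.index_eq_card hD.symm).symm
  refine ⟨D.map K.subtype, fun g => ⟨fun hg => ?_, fun hg => ?_⟩⟩
  · refine S3998.bigOrder_of_card (fun q hq hd => hnb q hq ?_) hg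
    rwa [Subgroup.card_map_of_injective K.subtype_injective, hDcard] at hd
  · refine ⟨⟨g, hK g hg⟩, ?_, rfl⟩
    let g' : K := ⟨g, hK g hg⟩
    have h1 : orderOf (QuotientGroup.mk' D g') ∣ r ^ e := hDidx ▸ orderOf_dvd_natCard _
    have h2 : orderOf (QuotientGroup.mk' D g') ∣ orderOf g := by
      have := orderOf_map_dvd (QuotientGroup.mk' D) g'
      rwa [← Subgroup.orderOf_coe] at this
    refine (QuotientGroup.eq_one_iff g').1 (orderOf_eq_one_iff.1 ?_)
    obtain ⟨i, -, hi⟩ := (Nat.dvd_prime_pow hr).1 h1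
    rcases Nat.eq_zero_or_pos i with rfl | hi0
    · exact hi.trans (pow_zero r)
    · exfalso
      have := hg r hr (((dvd_pow_self r hi0.ne').trans hi.symm.dvd).trans h2)
      omega

/-- The data of a Frobenius group with nilpotent kernel. -/
theorem kernel_data {F : Type*} [Group F] [Finite F] {C : Subgroup F}
    (hC : Cfsg.IsFrobeniusComplement C) :
    ∃ N : Subgroup F, N.Normal ∧ Group.IsNilpotent N ∧ N.IsComplement' C ∧ 1 < Nat.card N ∧
      1 < Nat.card C ∧ (Nat.card N).Coprime (Nat.card C) ∧
      (N : Set F) = Cfsg.frobeniusKernel C := by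
  obtain ⟨N, hN, hn, hc⟩ := CharInt.exists_frobeniusKernel hC
  obtain ⟨N', hN', -, hnil⟩ := S0042.result C hC
  have : N' = N := SetLike.ext' (hN'.trans hN.symm)
  subst this
  have h1 : C.index = Nat.card N' := hc.index_eq_card
  have h2 : 1 < Nat.card C := C.one_lt_card_iff_ne_bot.2 hC.1
  refine ⟨N', hn, hnil, hc, ?_, h2, ?_, hN⟩
  · rw [← h1]
    have := Subgroup.index_ne_zero_of_finite (H := C)
    have : C.index ≠ 1 := fun h => hC.2.1 (Subgroup.index_eq_one.1 h)
    omega
  · have hm := Frobenius.index_mod_card hC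
    rw [h1, Nat.one_mod_eq_one.2 (ne_of_gt h2)] at hm
    rw [← Nat.div_add_mod (Nat.card N') (Nat.card C), hm, Nat.coprime_mul_left_add_left]
    exact Nat.coprime_one_left _

/-- Elements of order dividing the kernel order lie in the kernel. -/
theorem mem_of_orderOf_dvd {F : Type*} [Group F] [Finite F] {C N : Subgroup F} [N.Normal]
    (hc : N.IsComplement' C) (hco : (Nat.card N).Coprime (Nat.card C)) {x : F} :
    x ∈ N ↔ orderOf x ∣ Nat.card N := by
  refine ⟨fun h => Subgroup.orderOf_dvd_natCard N h, fun h => ?_⟩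
  have h1 : orderOf (QuotientGroup.mk' N x) ∣ Nat.card C := by
    rw [← hc.symm.index_eq_card, Subgroup.index_eq_card]; exact orderOf_dvd_natCard _
  exact (QuotientGroup.eq_one_iff x).1 (orderOf_eq_one_iff.1
    (Nat.eq_one_of_dvd_coprimes hco ((orderOf_map_dvd (QuotientGroup.mk' N) x).trans h) h1))

/-- No element of a Frobenius group has mixed order. -/
theorem orderOf_cases {F : Type*} [Group F] [Finite F] {C : Subgroup F}
    {N : Subgroup F} (hk : (N : Set F) = Cfsg.frobeniusKernel C) (x : F) :
    orderOf x ∣ Nat.card N ∨ orderOf x ∣ Nat.card C := by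
  by_cases hx : x ∈ N
  · exact Or.inl (Subgroup.orderOf_dvd_natCard N hx)
  · refine Or.inr ?_
    have hx' : x ∉ Cfsg.frobeniusKernel C := by rw [← hk]; exact hx
    simp only [Cfsg.frobeniusKernel, Set.mem_ofPred_eq, not_or, not_forall, not_not] at hx'
    obtain ⟨-, g, hg⟩ := hx'
    exact (Subgroup.orderOf_dvd_natCard _ hg).trans (dvd_of_eq (Coprime.card_conj_smul g C))

/-- The number of elements of a given order in a complement. -/
theorem card_order_complement {F : Type*} [Group F] [Finite F] {C N : Subgroup F}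
    (hC : Cfsg.IsFrobeniusComplement C) (hk : (N : Set F) = Cfsg.frobeniusKernel C)
    (hco : (Nat.card N).Coprime (Nat.card C)) {d : ℕ} (hd1 : d ≠ 1) (hd : d ∣ Nat.card C) :
    Nat.card {g : F // orderOf g = d} = C.index * Nat.card {h : C // orderOf h = d} := by
  have ho : ∀ a x : F, orderOf (a * x * a⁻¹) = orderOf x := fun a x => by
    rw [← MulAut.conj_apply]; exact MulEquiv.orderOf_eq _ x
  rw [Subgroup.index_eq_card, ← Nat.card_prod]
  refine (Nat.card_congr (Equiv.ofBijective (fun w : (F ⧸ C) × {h : C // orderOf h = d} =>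
    (⟨w.1.out * (w.2.1 : F) * w.1.out⁻¹, by rw [ho, Subgroup.orderOf_coe, w.2.2]⟩ :
      {g : F // orderOf g = d})) ⟨?_, ?_⟩)).symm
  · rintro ⟨q, ⟨h, hh⟩, hh1⟩ ⟨q', ⟨h', hh'⟩, hh1'⟩ he
    have he' : q.out * h * q.out⁻¹ = q'.out * h' * q'.out⁻¹ := congrArg Subtype.val he
    have hne : h ≠ 1 := fun e => hd1 (by
      subst e
      rw [← hh1, ← Subgroup.orderOf_coe, orderOf_one])
    have hm : q.out⁻¹ * q'.out ∈ C := by
      refine Frobenius.mem_of_inter hC hh hne ?_
      convert hh' using 1
      have : h = q.out⁻¹ * (q'.out * h' * q'.out⁻¹) * q.out := by rw [← he']; group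
      rw [this]
      group
    have hq : q = q' := by
      rw [← QuotientGroup.out_eq' q, ← QuotientGroup.out_eq' q']
      exact QuotientGroup.eq.2 hm
    subst hq
    simp only [mul_left_inj, mul_right_inj] at he'
    subst he'
    rfl
  · rintro ⟨x, hx⟩
    have hx' : x ∉ Cfsg.frobeniusKernel C := by
      rw [← hk]
      intro hxN
      exact hd1 (hx ▸ Nat.eq_one_of_dvd_coprimes hco
        (Subgroup.orderOf_dvd_natCard N hxN) (hx ▸ hd))
    simp only [Cfsg.frobeniusKernel, Set.mem_ofPred_eq, not_or, not_forall, not_not] at hx'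
    obtain ⟨-, g, hg⟩ := hx'
    rw [Coprime.mem_conj_smul_iff] at hg
    obtain ⟨k, hk'⟩ := QuotientGroup.mk_out_eq_mul C g
    refine ⟨((g : F ⧸ C), ⟨⟨(k : F)⁻¹ * (g⁻¹ * x * g) * k,
      mul_mem (mul_mem (inv_mem k.2) hg) k.2⟩, ?_⟩), Subtype.ext ?_⟩
    · rw [← Subgroup.orderOf_coe]
      change orderOf ((k : F)⁻¹ * (g⁻¹ * x * g) * k) = d
      rw [show ((k : F)⁻¹ * (g⁻¹ * x * g) * k) =
        (k : F)⁻¹ * (g⁻¹ * x * g) * ((k : F)⁻¹)⁻¹ by rw [inv_inv], ho,
        show g⁻¹ * x * g = g⁻¹ * x * g⁻¹⁻¹ by rw [inv_inv], ho, hx]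
    · show (g : F ⧸ C).out * _ * (g : F ⧸ C).out⁻¹ = x
      rw [hk']
      group

/-- Frobenius complements with nilpotent kernel have small Sylow subgroups. -/
theorem smallSylows_complement {F : Type*} [Group F] [Finite F] {C : Subgroup F}
    (hC : Cfsg.IsFrobeniusComplement C) : SmallSylows C := by
  obtain ⟨N, hNn, hnil, hc, hN1, -, hco, -⟩ := kernel_data hC
  haveI := hNn
  haveI := hnil
  set V := (Subgroup.center N).map N.subtype with hV
  haveI : Nontrivial N := Finite.one_lt_card_iff_nontrivial.1 hN1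
  have hV1 : V ≠ ⊥ := by
    rw [hV, Ne, Subgroup.map_eq_bot_iff_of_injective _ N.subtype_injective]
    exact Group.IsNilpotent.center_ne_bot N
  haveI hVn : V.Normal := by rw [hV]; infer_instance
  haveI hVc : IsMulCommutative V := ⟨⟨fun a b => Subtype.ext (by
    obtain ⟨x, hx, hxa⟩ := a.2
    obtain ⟨y, hy, hyb⟩ := b.2
    have h := congrArg Subtype.val (Subgroup.mem_center_iff.1 hy x)
    show (a : F) * b = b * a
    rw [← hxa, ← hyb]; exact h)⟩⟩
  have key : ∀ (p : ℕ), p.Prime → ∀ h z : F, h ∈ C → z ∈ C → Commute h z → orderOf h = p →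
      orderOf z = p → Subgroup.zpowers h = Subgroup.zpowers z := by
    intro p hp h z hh hz hhz hoh hoz
    by_contra hne
    set A := Subgroup.closure ({h, z} : Set F) with hA
    have hAC : A ≤ C := (Subgroup.closure_le _).2 (by rintro x (rfl | rfl) <;> assumption)
    haveI hAc : IsMulCommutative A := Subgroup.isMulCommutative_closure (by
      rintro x (rfl | rfl) y (rfl | rfl)
      · rfl
      · exact hhz.eq
      · exact hhz.symm.eq
      · rfl)
    have hpow : ∀ a ∈ A, a ^ p = 1 := by
      intro a ha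
      induction ha using Subgroup.closure_induction with
      | mem x hx =>
        rcases hx with rfl | rfl
        · rw [← hoh]; exact pow_orderOf_eq_one _
        · rw [← hoz]; exact pow_orderOf_eq_one _
      | one => exact one_pow _
      | mul x y hx hy ihx ihy =>
        have hcxy : Commute x y := congrArg Subtype.val
          (hAc.is_comm.comm (⟨x, hx⟩ : A) ⟨y, hy⟩)
        rw [hcxy.mul_pow, ihx, ihy, one_mul]
      | inv x _ ihx => rw [inv_pow, ihx, inv_one]
    obtain ⟨a, ha, ha1, hfix⟩ := Coprime.exists_inf_centralizer_ne_bot (A := A) (B₀ := ⊥) (V := V)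
      bot_le bot_le
      (fun a ha heq => hne (by
        rw [bot_sup_eq] at heq
        have hle : Nat.card A ≤ p := by
          rw [← heq, Nat.card_zpowers]
          exact Nat.le_of_dvd hp.pos (orderOf_dvd_of_pow_eq_one (hpow a ha))
        have h1 : Subgroup.zpowers h = A := Subgroup.eq_of_le_of_card_ge
          (Subgroup.zpowers_le.2 (Subgroup.subset_closure (Set.mem_insert _ _)))
          (by rw [Nat.card_zpowers, hoh]; exact hle)
        have h2 : Subgroup.zpowers z = A := Subgroup.eq_of_le_of_card_ge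
          (Subgroup.zpowers_le.2 (Subgroup.subset_closure (Set.mem_insert_of_mem _ rfl)))
          (by rw [Nat.card_zpowers, hoz]; exact hle)
        rw [h1, h2]))
      (by rw [Subgroup.normalizer_eq_top]; exact le_top)
      ((hco.symm.coprime_dvd_left (Subgroup.card_dvd_of_le hAC)).coprime_dvd_right
        (Subgroup.card_dvd_of_le (Subgroup.map_subtype_le _)))
      hV1
    obtain ⟨⟨v, hv⟩, hv1⟩ := Subgroup.ne_bot_iff_exists_ne_one.1 hfix
    have hvC : v ∈ C := Frobenius.mem_of_commute hC (hAC ha)
      (fun e => ha1 (Subgroup.mem_bot.2 e)) (Subgroup.mem_centralizer_singleton_iff.1 hv.2)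
    exact hv1 (Subtype.ext (Subgroup.mem_bot.1
      (hc.disjoint.le_bot ⟨Subgroup.map_subtype_le _ hv.1, hvC⟩)))
  have huniq : ∀ p : ℕ, p.Prime → ∀ P : Subgroup C, IsPGroup p P →
      ∀ H K : Subgroup P, Nat.card H = p → Nat.card K = p → H = K := by
    intro p hp P hP H K hH hK
    haveI := Fact.mk hp
    haveI : Nontrivial P := by
      obtain ⟨x, hx⟩ := exists_prime_orderOf_dvd_card' p (dvd_of_eq hH.symm)
      refine ⟨⟨(x : P), 1, fun e => hp.ne_one ?_⟩⟩
      rw [← hx, ← Subgroup.orderOf_coe, e, orderOf_one]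
    obtain ⟨z, -, hzZ, hzo⟩ : ∃ z, z ∈ (⊤ : Subgroup P) ∧ z ∈ Subgroup.center P ∧ orderOf z = p := by
      haveI := hP.center_nontrivial
      obtain ⟨n, hn⟩ := (hP.to_subgroup (Subgroup.center P)).exists_card_eq
      have hn0 : n ≠ 0 := fun h0 => by
        have := Finite.one_lt_card (α := Subgroup.center P)
        rw [hn, h0, pow_zero] at this
        omega
      obtain ⟨z, hz⟩ := exists_prime_orderOf_dvd_card' p (hn ▸ dvd_pow_self p hn0)
      exact ⟨z, Subgroup.mem_top _, z.2, by rw [Subgroup.orderOf_coe, hz]⟩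
    have : ∀ L : Subgroup P, Nat.card L = p → L = Subgroup.zpowers z := by
      intro L hL
      obtain ⟨x, hx⟩ := exists_prime_orderOf_dvd_card' p (dvd_of_eq hL.symm)
      have hx' : orderOf (x : P) = p := by rw [Subgroup.orderOf_coe, hx]
      have hLx : Subgroup.zpowers (x : P) = L := Subgroup.eq_of_le_of_card_ge
        (Subgroup.zpowers_le.2 x.2) (by rw [hL, Nat.card_zpowers, hx'])
      have hcomm : Commute (((x : P) : C) : F) (((z : P) : C) : F) :=
        congrArg (fun w : P => ((w : C) : F)) (Subgroup.mem_center_iff.1 hzZ x)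
      have h := key p hp _ _ ((x : P) : C).2 ((z : P) : C).2 hcomm
        (by rw [Subgroup.orderOf_coe, Subgroup.orderOf_coe, hx'])
        (by rw [Subgroup.orderOf_coe, Subgroup.orderOf_coe, hzo])
      rw [← hLx]
      apply Subgroup.map_injective (f := C.subtype.comp P.subtype)
        (C.subtype_injective.comp P.subtype_injective)
      rw [MonoidHom.map_zpowers, MonoidHom.map_zpowers]
      exact h
    rw [this H hH, this K hK]
  refine ⟨fun p hp hp2 P hP => ?_, fun P hP => ?_⟩
  · haveI := Fact.mk hp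
    rcases PGroup.cyclic_or_quaternion_of_unique hP (huniq p hp P hP) with h | ⟨h2, -⟩
    · exact h
    · exact absurd h2 hp2
  · haveI : Fact (Nat.Prime 2) := ⟨Nat.prime_two⟩
    obtain ⟨a, b, hab⟩ : ∃ a b : P, Subgroup.closure ({a, b} : Set P) = ⊤ := by
      rcases PGroup.cyclic_or_quaternion_of_unique hP (huniq 2 Nat.prime_two P hP) with
        h | ⟨-, n, -, -, ⟨e⟩⟩
      · obtain ⟨a, ha⟩ := isCyclic_iff_exists_zpowers_eq_top.1 h
        refine ⟨a, a, ?_⟩
        rw [Set.pair_eq_singleton, ← Subgroup.zpowers_eq_closure, ha]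
      · refine ⟨e.symm (QuaternionGroup.a 1), e.symm (QuaternionGroup.xa 0),
          top_le_iff.1 fun g _ => ?_⟩
        obtain ⟨w, rfl⟩ := e.symm.surjective g
        have h1 : e.symm (QuaternionGroup.a 1) ∈ Subgroup.closure
            ({e.symm (QuaternionGroup.a 1), e.symm (QuaternionGroup.xa 0)} : Set P) :=
          Subgroup.subset_closure (Set.mem_insert _ _)
        have h2 : e.symm (QuaternionGroup.xa 0) ∈ Subgroup.closure
            ({e.symm (QuaternionGroup.a 1), e.symm (QuaternionGroup.xa 0)} : Set P) :=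
          Subgroup.subset_closure (Set.mem_insert_of_mem _ rfl)
        haveI : NeZero (2 ^ n) := ⟨by positivity⟩
        cases w with
        | a i =>
          have : QuaternionGroup.a i = (QuaternionGroup.a 1 : QuaternionGroup (2 ^ n)) ^ i.val := by
            rw [QuaternionGroup.a_one_pow, ZMod.natCast_zmod_val]
          rw [this, map_pow]; exact pow_mem h1 _
        | xa i =>
          have : QuaternionGroup.xa i = (QuaternionGroup.xa 0 : QuaternionGroup (2 ^ n)) *
              (QuaternionGroup.a 1) ^ i.val := by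
            rw [QuaternionGroup.a_one_pow, ZMod.natCast_zmod_val, QuaternionGroup.xa_mul_a, zero_add]
          rw [this, map_mul, map_pow]; exact mul_mem h2 (pow_mem h1 _)
    refine ⟨(a : C), (b : C), ?_⟩
    have := congrArg (Subgroup.map P.subtype) hab
    rw [MonoidHom.map_closure, Set.image_pair, ← MonoidHom.range_eq_map, Subgroup.range_subtype] at this
    exact this.symm

/-- Solvability of a complement passes to a group of the same order type. -/
theorem isSolvable_of_small {C D : Type*} [Group C] [Finite C] [Group D] [Finite D]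
    (hs : SmallSylows C) (hsol : Group.IsSolvable C) (e : C ≃ D)
    (he : ∀ g, orderOf (e g) = orderOf g) : Group.IsSolvable D := by
  obtain ⟨M, hM, hMs⟩ := S3998.exists_solvable_bigOrder e he 5
    (exists_bigOrder_of_small _ C rfl hsol hs) (Nat.card D + 1) 5 le_rfl (by omega)
  haveI := S3998.normal_of_bigOrder hM
  haveI := hMs
  have hsmall : ∀ q : ℕ, q.Prime → q ∣ M.index → q = 2 ∨ q = 3 := by
    intro q hq hd
    have h1 := S3998.index_primes_of_bigOrder hM q hq hd
    have h2 := hq.two_le
    have h4 : q ≠ 4 := by rintro rfl; exact absurd hq (by norm_num)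
    omega
  have hQ : Group.IsSolvable (D ⧸ M) := by
    have h0 : M.index ≠ 0 := Subgroup.index_ne_zero_of_finite
    have hrest := Nat.eq_prime_pow_of_unique_prime_dvd (p := 3)
      (n := M.index / 2 ^ M.index.factorization 2)
      (Nat.ordCompl_pos 2 h0).ne' (fun {q} hq hd => by
        rcases hsmall q hq (hd.trans (Nat.ordCompl_dvd _ _)) with rfl | rfl
        · exact absurd hd (Nat.not_dvd_ordCompl Nat.prime_two h0)
        · rfl)
    refine CharInt.isSolvable_of_card_eq (p := 2) (q := 3) (a := M.index.factorization 2)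
      (b := (M.index / 2 ^ M.index.factorization 2).primeFactorsList.length)
      Nat.prime_two Nat.prime_three ?_
    rw [← hrest, Nat.ordProj_mul_ordCompl_eq_self, Subgroup.index_eq_card]
  haveI := hQ
  exact Group.isSolvable_of_ker_le_range M.subtype (QuotientGroup.mk' M)
    (by rw [QuotientGroup.ker_mk', Subgroup.range_subtype])

theorem orderOf_eq_iff_of_natCard_eq {α β : Type*} [Group α] [Finite α] [Group β] [Finite β]
    (h : ∀ m : ℕ, Nat.card {g : α // orderOf g = m} = Nat.card {h : β // orderOf h = m}) :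
    ∃ e : α ≃ β, ∀ g, orderOf (e g) = orderOf g :=
  ⟨Equiv.ofFiberEquiv fun m => (Finite.card_eq.1 (h m)).some, fun g => Equiv.ofFiberEquiv_map _ g⟩

theorem isSolvable_iff_complement {F : Type*} [Group F] {N C : Subgroup F} [N.Normal]
    [hN : Group.IsSolvable N] (hc : N.IsComplement' C) :
    Group.IsSolvable F ↔ Group.IsSolvable C := by
  refine ⟨fun h => inferInstance, fun h => ?_⟩
  haveI := h
  haveI : Group.IsSolvable (F ⧸ N) := Group.isSolvable_of_surjective
    (f := (hc.symm.QuotientMulEquiv).symm.toMonoidHom) (MulEquiv.surjective _)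
  exact Group.isSolvable_of_ker_le_range N.subtype (QuotientGroup.mk' N)
    (by rw [QuotientGroup.ker_mk', Subgroup.range_subtype])

/-- Let F be a finite Frobenius group (it has a Frobenius complement) and G a finite group with the same order type as F (for every m the same number of elements of order m). Then G is a Frobenius group; moreover G is solvable if and only if F is. -/
theorem result {F G : Type*} [Group F] [Finite F] [Group G] [Finite G] (hF : (∃ C : Subgroup F, Cfsg.IsFrobeniusComplement C)) (hT : (∀ m : ℕ, Nat.card {g : F // orderOf g = m} = Nat.card {h : G // orderOf h = m})) :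
    (∃ C : Subgroup G, Cfsg.IsFrobeniusComplement C) ∧ (Group.IsSolvable G ↔ Group.IsSolvable F) := by
  classical
  obtain ⟨C, hC⟩ := hF
  obtain ⟨N, hNn, hnil, hc, hN1, hC1, hco, hk⟩ := kernel_data hC
  haveI := hNn
  haveI := hnil
  obtain ⟨e, he⟩ := orderOf_eq_iff_of_natCard_eq hT
  set n := Nat.card N with hn
  set m := Nat.card C with hm
  have hFcard : Nat.card F = n * m := hc.card_mul.symm
  have hGcard : Nat.card G = n * m := by rw [← Nat.card_congr e, hFcard]
  have hsyl : ∀ q : ℕ, (hq : q.Prime) → q ∣ n → ∀ P : Sylow q G, (P : Subgroup G).Normal := by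
    intro q hq hqn P
    haveI := Fact.mk hq
    let S : Sylow q N := default
    haveI : (S : Subgroup N).Characteristic := S.characteristic_of_normal inferInstance
    have hidx : ¬ q ∣ ((S : Subgroup N).map N.subtype).index := by
      rw [Subgroup.index_map_subtype, hc.symm.index_eq_card]
      intro hd
      rcases hq.dvd_mul.1 hd with h | h
      · exact S.not_dvd_index h
      · exact hq.not_dvd_one (hco.gcd_eq_one ▸ Nat.dvd_gcd hqn h)
    let Q : Sylow q F := (S.isPGroup'.map N.subtype).toSylow hidx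
    have hQn : (Q : Subgroup F).Normal := ConjAct.normal_of_characteristic_of_normal
    have hcard : Nat.card P = Nat.card Q := by
      rw [P.card_eq_multiplicity, Q.card_eq_multiplicity, Nat.card_congr e]
    let T : Set G := {y | y ^ Nat.card P = 1}
    have hT' : T.ncard = Nat.card P := by
      conv_rhs => rw [hcard]
      rw [← Nat.card_coe_set_eq]
      refine Nat.card_congr (e.subtypeEquiv fun g => ?_).symm
      show g ∈ (Q : Subgroup F) ↔ e g ^ Nat.card P = 1
      rw [S3997.mem_iff_pow Q hQn, hcard, ← orderOf_dvd_iff_pow_eq_one,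
        ← orderOf_dvd_iff_pow_eq_one, he]
    have hsub : ((P : Subgroup G) : Set G) ⊆ T := fun y hy =>
      orderOf_dvd_iff_pow_eq_one.1 (Subgroup.orderOf_dvd_natCard _ hy)
    have heq : ((P : Subgroup G) : Set G) = T :=
      Set.eq_of_subset_of_ncard_le hsub (by rw [hT', ← Nat.card_coe_set_eq]; exact le_rfl)
    refine ⟨fun y hy g => ?_⟩
    have h1 : y ∈ T := heq ▸ hy
    have h2 : g * y * g⁻¹ ∈ T := by
      show _ ^ _ = 1
      rw [conj_pow, show y ^ Nat.card P = 1 from h1, mul_one, mul_inv_cancel]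
    exact (Set.ext_iff.1 heq _).2 h2
  set M := n.primeFactors.sup (fun q => Cfsg.pCore q G) with hM
  haveI hMn : M.Normal := by
    rw [hM]
    exact Finset.sup_induction (p := fun K : Subgroup G => K.Normal) inferInstance
      (fun A hA B hB => haveI := hA; haveI := hB; inferInstance) (fun q _ => Components.pCore_normal' q)
  have hMp : Nat.Coprime (Nat.card M) m := by
    refine (Finset.sup_induction (p := fun K : Subgroup G => K.Normal ∧ (Nat.card K).Coprime m)
      (s := n.primeFactors) (f := fun q => Cfsg.pCore q G) ⟨inferInstance, ?_⟩ ?_ ?_).2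
    · rw [Subgroup.card_bot]; exact Nat.coprime_one_left m
    · intro A hA B hB
      haveI := hA.1
      haveI := hB.1
      exact ⟨inferInstance, Nat.Coprime.coprime_dvd_left (PCore.card_sup_dvd A B) (hA.2.mul_left hB.2)⟩
    · intro q hq
      obtain ⟨hqp, hqn, -⟩ := Nat.mem_primeFactors.1 hq
      refine ⟨Components.pCore_normal' q, ?_⟩
      haveI := Fact.mk hqp
      obtain ⟨i, hi⟩ := PCore.exists_card_pCore (p := q) (G := G)
      rw [hi]
      exact ((hco.coprime_dvd_left hqn)).pow_left i
  have hMF : M ≤ Cfsg.fittingSubgroup G := Finset.sup_le fun q hq =>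
    Components.pCore_le_fittingSubgroup (Nat.prime_of_mem_primeFactors hq)
  haveI hMsol : Group.IsSolvable M :=
    Coprime.isSolvable_of_le hMF (inferInstance : Group.IsSolvable (Cfsg.fittingSubgroup G))
  have hMmem : ∀ g : G, orderOf g ∣ n → g ∈ M := by
    intro g hg
    by_contra hgM
    obtain ⟨q, b, y, hq, hqd, -, hy, hyM⟩ := PrimeParts.exists_part_not_mem hgM
    haveI := Fact.mk hq
    have hqn := hqd.trans hg
    obtain ⟨P, hP⟩ := (IsPGroup.of_card (G := Subgroup.zpowers y) (p := q) (n := b)
      (by rw [Nat.card_zpowers, hy])).exists_le_sylow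
    haveI := hsyl q hq hqn P
    exact hyM (Finset.le_sup (f := fun q => Cfsg.pCore q G)
      (Nat.mem_primeFactors.2 ⟨hq, hqn, Nat.card_pos.ne'⟩)
      (PCore.le_pCore P.isPGroup' (hP (Subgroup.mem_zpowers y))))
  have hMcard : Nat.card M = n := by
    refine Nat.dvd_antisymm (hMp.dvd_of_dvd_mul_right (hGcard ▸ M.card_subgroup_dvd_card)) ?_
    have h1 : n ≤ Nat.card M := by
      rw [hn]
      exact Nat.card_le_card_of_injective
        (fun x : N => (⟨e x, hMmem _ (by rw [he]; exact Subgroup.orderOf_dvd_natCard N x.2)⟩ : M))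
        (fun x y hxy => Subtype.ext (e.injective (congrArg Subtype.val hxy)))
    have h2 : Nat.card M ∣ n := hMp.dvd_of_dvd_mul_right (hGcard ▸ M.card_subgroup_dvd_card)
    exact dvd_of_eq (le_antisymm h1 (Nat.le_of_dvd Nat.card_pos h2))
  have hMidx : M.index = m := by
    have := M.card_mul_index
    rw [hMcard, hGcard] at this
    exact Nat.eq_of_mul_eq_mul_left Nat.card_pos this
  obtain ⟨D, hD⟩ := Subgroup.exists_right_complement'_of_coprime (N := M)
    (by rw [hMcard, hMidx]; exact hco)
  have hDcard : Nat.card D = m := by rw [← hMidx]; exact hD.symm.index_eq_card.symm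
  have hfpf : ∀ h ∈ D, h ≠ 1 → M ⊓ Subgroup.centralizer {h} = ⊥ := by
    intro h hh h1
    refine (Subgroup.eq_bot_iff_forall _).2 fun k hk' => ?_
    by_contra hk1
    have hcm : Commute k h := Subgroup.mem_centralizer_singleton_iff.1 hk'.2
    have hok : orderOf k ∣ n := hMcard ▸ Subgroup.orderOf_dvd_natCard M hk'.1
    have hoh : orderOf h ∣ m := hDcard ▸ Subgroup.orderOf_dvd_natCard D hh
    have hprod := hcm.orderOf_mul_eq_mul_orderOf_of_coprime
      ((hco.coprime_dvd_left hok).coprime_dvd_right hoh)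
    have := orderOf_cases hk (e.symm (k * h))
    rw [← he (e.symm (k * h)), e.apply_symm_apply, hprod, ← hn, ← hm] at this
    rcases this with h2 | h2
    · exact h1 (orderOf_eq_one_iff.1 (Nat.eq_one_of_dvd_coprimes hco
        ((dvd_mul_left _ _).trans h2) hoh))
    · exact hk1 (orderOf_eq_one_iff.1 (Nat.eq_one_of_dvd_coprimes hco
        hok ((dvd_mul_right _ _).trans h2)))
  have hM1 : M ≠ ⊥ := M.one_lt_card_iff_ne_bot.1 (by rw [hMcard]; exact hN1)
  have hD1 : D ≠ ⊥ := D.one_lt_card_iff_ne_bot.1 (by rw [hDcard]; exact hC1)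
  have hDF := (Frobenius.isFrobeniusComplement_iff hD hM1 hD1).2 hfpf
  refine ⟨⟨D, hDF⟩, ?_⟩
  obtain ⟨N', -, -, hc', -, -, hco', hk'⟩ := kernel_data hDF
  have hidx : D.index = C.index := by
    rw [hc.index_eq_card, hD.index_eq_card, hMcard, hn]
  have hTD : ∀ d : ℕ, Nat.card {g : C // orderOf g = d} = Nat.card {h : D // orderOf h = d} := by
    intro d
    by_cases hd : d ∣ m
    · by_cases hd1 : d = 1
      · subst hd1
        simp only [orderOf_eq_one_iff]
        rw [Nat.card_unique, Nat.card_unique]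
      · have h1 := card_order_complement hC hk hco hd1 hd
        have h2 := card_order_complement hDF hk' hco' hd1 (hDcard ▸ hd)
        rw [hidx, ← hT d, h1] at h2
        exact Nat.eq_of_mul_eq_mul_left (Nat.pos_of_ne_zero Subgroup.index_ne_zero_of_finite) h2
    · rw [Nat.card_eq_zero.2 (Or.inl ⟨fun g : {g : C // orderOf g = d} =>
          hd (g.2 ▸ orderOf_dvd_natCard g.1)⟩),
        Nat.card_eq_zero.2 (Or.inl ⟨fun g : {g : D // orderOf g = d} =>
          hd (g.2 ▸ hDcard ▸ orderOf_dvd_natCard g.1)⟩)]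
  obtain ⟨u, hu⟩ := orderOf_eq_iff_of_natCard_eq hTD
  rw [isSolvable_iff_complement hD, isSolvable_iff_complement hc]
  exact ⟨fun h => isSolvable_of_small (smallSylows_complement hDF) h u.symm
      (fun g => by rw [← hu, u.apply_symm_apply]),
    fun h => isSolvable_of_small (smallSylows_complement hC) h u hu⟩

end Cfsg.Agent.S3999
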