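import Cfsg.Statements.S4001
import Cfsg.Agent.S0035
import Cfsg.Agent.S0040
import Cfsg.Agent.S0041
import Cfsg.Agent.S0042
import Cfsg.Agent.Lib.Frobenius.Basic
import Cfsg.Agent.Lib.FittingHeight.FpfCommute
import Cfsg.Agent.Lib.Solvable.Basic
import Mathlib.GroupTheory.SpecificGroups.ZGroup
import Mathlib.GroupTheory.SpecificGroups.Quaternion

set_option autoImplicit false
open Cfsg

namespace Cfsg.Agent.S4001

open Subgroup
open scoped Pointwise

universe u

/-- The Frobenius data: complement, fixed-point-freeness, nilpotent kernel. -/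
theorem frobenius_data {F : Type*} [Group F] [Finite F] {C : Subgroup F} {N : Subgroup F} [N.Normal]
    (hC : Cfsg.IsFrobeniusComplement C) (hN : Cfsg.frobeniusKernel C = (N : Set F)) :
    IsComplement' N C ∧ N ≠ ⊥ ∧ (∀ c ∈ C, c ≠ 1 → N ⊓ centralizer {c} = ⊥) ∧ Group.IsNilpotent N ∧
      (Nat.card C).Coprime (Nat.card N) ∧ C.index = Nat.card N := by
  obtain ⟨N', hN', -, hc⟩ := S0035.result C hC
  obtain rfl : N' = N := SetLike.coe_injective (hN'.trans hN)
  have hne : N' ≠ ⊥ := by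
    rintro rfl
    exact hC.2.1 (Subgroup.isComplement'_bot_left.mp hc)
  obtain ⟨N'', hN'', -, hnil⟩ := S0042.result C hC
  obtain rfl : N'' = N' := SetLike.coe_injective (hN''.trans hN)
  have hidx : C.index = Nat.card N'' := hc.index_eq_card
  refine ⟨hc, hne, (Frobenius.isFrobeniusComplement_iff hc hne hC.1).mp hC, hnil, ?_, hidx⟩
  have hmod := Frobenius.index_mod_card hC
  rw [hidx] at hmod
  rw [Nat.coprime_comm, Nat.coprime_iff_gcd_eq_one]
  have h1 : Nat.gcd (Nat.card N'') (Nat.card C) = Nat.gcd 1 (Nat.card C) :=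
    Nat.ModEq.gcd_eq (hmod : Nat.card N'' ≡ 1 [MOD Nat.card C])
  rwa [Nat.gcd_one_left] at h1

/-- A lift of an element whose image has order `n` has a power of order `n`. -/
theorem exists_orderOf_of_map {G Q : Type*} [Group G] [Finite G] [Group Q] (f : G →* Q) (g : G) {n : ℕ}
    (h : n ∣ orderOf (f g)) : ∃ x : G, orderOf x = n :=
  ⟨g ^ (orderOf g / n), orderOf_pow_orderOf_div (orderOf_pos g).ne' (h.trans (orderOf_map_dvd f g))⟩

/-- In a nilpotent group, two primes dividing the order give an element of order their product. -/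
theorem exists_orderOf_mul_of_isNilpotent {F : Type*} [Group F] [Finite F] [hF : Group.IsNilpotent F]
    {p q : ℕ} (hp : p.Prime) (hq : q.Prime) (hpq : p ≠ q) (h1 : p ∣ Nat.card F) (h2 : q ∣ Nat.card F) :
    ∃ x : F, orderOf x = p * q := by
  haveI := Fact.mk hp
  haveI := Fact.mk hq
  obtain ⟨x, hx⟩ := exists_prime_orderOf_dvd_card' p h1
  obtain ⟨y, hy⟩ := exists_prime_orderOf_dvd_card' q h2
  obtain ⟨P, hP⟩ := (IsPGroup.of_card (p := p) (n := 1) (G := zpowers x)
    (by rw [Nat.card_zpowers, hx, pow_one])).exists_le_sylow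
  obtain ⟨Q, hQ⟩ := (IsPGroup.of_card (p := q) (n := 1) (G := zpowers y)
    (by rw [Nat.card_zpowers, hy, pow_one])).exists_le_sylow
  have hn := ((Group.isNilpotent_of_finite_tfae (G := F)).out 0 3).mp hF
  have hc : Commute x y := Subgroup.commute_of_normal_of_disjoint _ _ (hn p inferInstance P)
    (hn q inferInstance Q) (IsPGroup.disjoint_of_ne p q hpq _ _ P.2 Q.2) x y (hP (mem_zpowers x))
    (hQ (mem_zpowers y))
  exact ⟨x * y, by
    rw [hc.orderOf_mul_eq_mul_orderOf_of_coprime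
      (by rw [hx, hy]; exact (Nat.coprime_primes hp hq).mpr hpq), hx, hy]⟩

/-- A normal abelian `q`-subgroup centralised by the nilpotent normal subgroup `H`. -/
theorem exists_central_qgroup {G : Type*} [Group G] [Finite G] (H : Subgroup G) [H.Normal]
    [hH : Group.IsNilpotent H] {q : ℕ} [Fact q.Prime] (hq : q ∣ Nat.card H) :
    ∃ V : Subgroup G, V.Normal ∧ V ≤ H ∧ V ≠ ⊥ ∧ IsPGroup q V ∧ IsMulCommutative V ∧
      ∀ h ∈ H, ∀ v ∈ V, h * v = v * h := by
  have hconj : ∀ g v : G, (∀ h ∈ H, h * v = v * h) → ∀ h ∈ H, h * (g * v * g⁻¹) = g * v * g⁻¹ * h := by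
    intro g v hv h hh
    have h' := hv _ (Normal.conj_mem ‹_› h hh g⁻¹)
    rw [inv_inv] at h'
    calc h * (g * v * g⁻¹) = g * (g⁻¹ * h * g * v) * g⁻¹ := by group
      _ = g * v * g⁻¹ * h := by rw [h']; group
  let V : Subgroup G :=
    { carrier := {v | v ∈ H ∧ (∀ h ∈ H, h * v = v * h) ∧ ∃ k : ℕ, v ^ q ^ k = 1}
      one_mem' := ⟨one_mem _, fun h _ => by simp, 0, by simp⟩
      mul_mem' := by
        rintro a b ⟨ha, hac, i, hi⟩ ⟨hb, hbc, j, hj⟩
        refine ⟨mul_mem ha hb, fun h hh => by rw [← mul_assoc, hac h hh, mul_assoc, hbc h hh, mul_assoc],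
          i + j, ?_⟩
        rw [Commute.mul_pow (hbc a ha), pow_add, pow_mul, hi, one_pow, one_mul, mul_comm, pow_mul, hj,
          one_pow]
      inv_mem' := by
        rintro a ⟨ha, hac, i, hi⟩
        exact ⟨inv_mem ha, fun h hh => (Commute.inv_right (show Commute h a from hac h hh)).eq, i, by
          rw [inv_pow, hi, inv_one]⟩ }
  refine ⟨V, ⟨?_⟩, fun v hv => hv.1, ?_, ?_, ⟨⟨fun a b => Subtype.ext (b.2.2.1 a a.2.1)⟩⟩,
    fun h hh v hv => hv.2.1 h hh⟩
  · rintro v ⟨hv, hvc, i, hi⟩ g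
    exact ⟨Normal.conj_mem ‹_› v hv g, hconj g v hvc, i, by rw [conj_pow, hi, mul_one, mul_inv_cancel]⟩
  · obtain ⟨Q⟩ := (inferInstance : Nonempty (Sylow q H))
    have hn := ((Group.isNilpotent_of_finite_tfae (G := H)).out 0 3).mp hH
    have := hn q inferInstance Q
    obtain ⟨⟨z, hz⟩, hz1⟩ := ne_bot_iff_exists_ne_one.mp
      (Solvable.inf_center_ne_bot (Q.ne_bot_of_dvd_card hq))
    obtain ⟨k, hk⟩ := Q.2 ⟨z, (mem_inf.mp hz).1⟩
    intro hbot
    have hzV : (z : G) ∈ V := ⟨z.2, fun h hh =>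
      congrArg Subtype.val (mem_center_iff.mp (mem_inf.mp hz).2 ⟨h, hh⟩), k,
      congrArg (fun w : (Q : Subgroup H) => ((w : H) : G)) hk⟩
    rw [hbot, mem_bot] at hzV
    exact hz1 (Subtype.ext (Subtype.ext hzV))
  · rintro ⟨v, hv, hvc, i, hi⟩
    exact ⟨i, Subtype.ext hi⟩

theorem two_frobenius {G : Type u} [Group G] [Finite G] (H K : Subgroup G) [H.Normal] [K.Normal]
    (hlt : H < K)
    (hK : ∃ C : Subgroup ↥K, Cfsg.IsFrobeniusComplement C ∧
      Cfsg.frobeniusKernel C = (H.subgroupOf K : Set ↥K))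
    (hGH : ∃ C : Subgroup (G ⧸ H), Cfsg.IsFrobeniusComplement C ∧
      Cfsg.frobeniusKernel C = (K.map (QuotientGroup.mk' H) : Set (G ⧸ H))) :
    Group.IsSolvable G ∧ Odd (Nat.card (↥K ⧸ H.subgroupOf K)) ∧
      Nat.Coprime (Nat.card (↥K ⧸ H.subgroupOf K)) (Nat.card ↥H * Nat.card (G ⧸ K)) ∧ IsCyclic (G ⧸ K) ∧
      ∀ p q : ℕ, p.Prime → q.Prime → p ≠ q → p ∣ Nat.card G → q ∣ Nat.card G →
        ((∃ g : G, orderOf g = p * q) ↔ (p ∣ Nat.card (↥K ⧸ H.subgroupOf K) ↔ q ∣ Nat.card (↥K ⧸ H.subgroupOf K))) := by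
  classical
  obtain ⟨C, hC, hCk⟩ := hK
  obtain ⟨D, hD, hDk⟩ := hGH
  obtain ⟨hc, hne, hfC, hnilH', hcopC, -⟩ := frobenius_data hC hCk
  obtain ⟨hc', hne', hfD, hnilK', hcopD, -⟩ := frobenius_data hD hDk
  set π := QuotientGroup.mk' H with hπ
  set Kb := K.map π with hKb
  haveI := hnilH'
  haveI hnilH : Group.IsNilpotent H :=
    (Group.isNilpotent_congr (subgroupOfEquivOfLe hlt.le)).mp hnilH'
  haveI := hnilK'
  -- `C` is isomorphic to `K/H`
  let g : C →* Kb :=
    ((π.comp K.subtype).comp C.subtype).codRestrict Kb fun c => mem_map_of_mem π (c : K).2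
  have hg : Function.Bijective g := by
    constructor
    · rw [injective_iff_map_eq_one]
      intro c hc1
      have hcH : ((c : K) : G) ∈ H := (QuotientGroup.eq_one_iff _).mp (congrArg Subtype.val hc1)
      exact Subtype.ext (disjoint_def.mp hc.disjoint (mem_subgroupOf.mpr hcH) c.2)
    · rintro ⟨_, x, hx, rfl⟩
      obtain ⟨⟨⟨a, ha⟩, b⟩, e⟩ := hc.surjective ⟨x, hx⟩
      refine ⟨b, Subtype.ext ?_⟩
      show π ((b : K) : G) = π x
      have e' : (a : G) * ((b : K) : G) = x := congrArg Subtype.val e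
      rw [← e', map_mul, show π (a : G) = 1 from (QuotientGroup.eq_one_iff _).mpr (mem_subgroupOf.mp ha), one_mul]
  let eC : C ≃* Kb := MulEquiv.ofBijective g hg
  have hm : Nat.card (↥K ⧸ H.subgroupOf K) = Nat.card C := hc.symm.index_eq_card
  haveI hnilC : Group.IsNilpotent C := (Group.isNilpotent_congr eC.symm).mp hnilK'
  obtain ⟨⟨h₀, hh₀⟩, hh₀1⟩ := ne_bot_iff_exists_ne_one.mp hne
  have hh₀1' : h₀ ≠ 1 := fun e => hh₀1 (Subtype.ext e)
  -- an element of `Kb` commuting with a nontrivial element of `D` is trivial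
  have hcomD : ∀ k ∈ Kb, ∀ d ∈ D, d ≠ 1 → Commute k d → k = 1 := fun k hk d hd hd1 hkd =>
    disjoint_def.mp hc'.disjoint hk (Frobenius.mem_of_commute hD hd hd1 hkd)
  obtain ⟨⟨d₀, hd₀⟩, hd₀1⟩ := ne_bot_iff_exists_ne_one.mp hD.1
  have hd₀1' : d₀ ≠ 1 := fun e => hd₀1 (Subtype.ext e)
  -- `C` has odd order
  have hodd : Odd (Nat.card C) := by
    by_contra hev
    haveI : Fact (Nat.Prime 2) := ⟨Nat.prime_two⟩
    obtain ⟨t, ht⟩ := exists_prime_orderOf_dvd_card' (G := C) 2
      ((Nat.not_odd_iff_even.mp hev).two_dvd)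
    have huniq : ∀ s : C, orderOf s = 2 → s = t := by
      have key : ∀ s : C, orderOf s = 2 → ∀ x ∈ H.subgroupOf K, (s : K) * x * (s : K) = x⁻¹ := by
        intro s hs x hx
        refine (Frobenius.even_complement_kernel hC s.2 ?_ ?_).1 x ?_
        · intro e
          rw [show s = 1 from Subtype.ext e, orderOf_one] at hs
          norm_num at hs
        · have := pow_orderOf_eq_one s
          rw [hs, pow_two] at this
          exact congrArg Subtype.val this
        · rw [hCk]; exact hx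
      intro s hs
      by_contra hne2
      have hs2 : s * s = 1 := by have := pow_orderOf_eq_one s; rwa [hs, pow_two] at this
      have ht2 : t * t = 1 := by have := pow_orderOf_eq_one t; rwa [ht, pow_two] at this
      have hs2' : (s : K) * s = 1 := congrArg Subtype.val hs2
      have ht2' : (t : K) * t = 1 := congrArg Subtype.val ht2
      have hst : s * t ≠ 1 := fun e => hne2 (by
        have := congrArg (· * t) e
        simpa [mul_assoc, ht2] using this)
      have hmem : h₀ ∈ H.subgroupOf K ⊓ centralizer {((s * t : C) : K)} := by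
        refine ⟨hh₀, mem_centralizer_singleton_iff.mpr ?_⟩
        have e1 := key t ht h₀ hh₀
        have e2 := key s hs _ (inv_mem hh₀)
        rw [inv_inv] at e2
        have e3 : ((s * t : C) : K) * h₀ * ((t : K) * (s : K)) = h₀ := by
          rw [Subgroup.coe_mul, show (s : K) * t * h₀ * ((t : K) * s) = s * (t * h₀ * t) * s by group, e1, e2]
        calc h₀ * ((s * t : C) : K)
            = ((s * t : C) : K) * h₀ * ((t : K) * (s : K)) * ((s * t : C) : K) := by rw [e3]
          _ = ((s * t : C) : K) * h₀ * ((t : K) * ((s : K) * s) * t) := by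
            rw [Subgroup.coe_mul]; group
          _ = ((s * t : C) : K) * h₀ := by rw [hs2', mul_one, ht2', mul_one]
      rw [hfC _ (s * t).2 (fun e => hst (Subtype.ext e)), mem_bot] at hmem
      exact hh₀1' hmem
    have hk1 : (eC t : G ⧸ H) ≠ 1 := fun e => by
      rw [show t = 1 from eC.injective (by rw [map_one]; exact Subtype.ext e), orderOf_one] at ht
      norm_num at ht
    refine hk1 (hcomD _ (eC t).2 d₀ hd₀ hd₀1' ?_)
    let k' : Kb := ⟨d₀ * (eC t : G ⧸ H) * d₀⁻¹, Normal.conj_mem inferInstance _ (eC t).2 d₀⟩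
    have hk' : k' = eC t := by
      rw [← huniq (eC.symm k') ?_, MulEquiv.apply_symm_apply]
      rw [MulEquiv.orderOf_eq, ← Subgroup.orderOf_coe]
      show orderOf (d₀ * (eC t : G ⧸ H) * d₀⁻¹) = 2
      rw [← MulAut.conj_apply, MulEquiv.orderOf_eq, Subgroup.orderOf_coe, MulEquiv.orderOf_eq, ht]
    have := congrArg Subtype.val hk'
    exact (mul_inv_eq_iff_eq_mul.mp this).symm
  -- `C` is cyclic
  haveI hCz : IsZGroup C := ⟨fun p hp P => by
    haveI := Fact.mk hp
    rcases S0040.result (H.subgroupOf K) C hc hne hfC p P with h | ⟨n, ⟨e⟩⟩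
    · exact h
    · exfalso
      have h2 : 2 ∣ Nat.card C := by
        refine dvd_trans ?_ (Subgroup.card_subgroup_dvd_card (P : Subgroup C))
        rw [Nat.card_congr e.toEquiv, Nat.card_eq_fintype_card, QuaternionGroup.card]
        exact Dvd.dvd.mul_right (by norm_num) _
      exact (Nat.not_even_iff_odd.mpr hodd) (even_iff_two_dvd.mpr h2)⟩
  haveI hCc : IsCyclic C := inferInstance
  -- `D` is cyclic
  obtain ⟨k₁, hk₁⟩ := (isCyclic_of_surjective eC.toMonoidHom eC.surjective).exists_generator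
  have hKbne : (k₁ : G ⧸ H) ≠ 1 := fun e => hne' ((Subgroup.eq_bot_iff_forall _).mpr fun x hx => by
    obtain ⟨i, hi⟩ := hk₁ ⟨x, hx⟩
    have := congrArg Subtype.val hi
    simp only [Subgroup.coe_zpow, e, one_zpow] at this
    exact this.symm)
  have hDab : IsMulCommutative D := by
    refine ⟨⟨fun a b => Subtype.ext ?_⟩⟩
    have key : ∀ d : G ⧸ H, ∃ i : ℤ, d * k₁ * d⁻¹ = (k₁ : G ⧸ H) ^ i := fun d => by
      obtain ⟨i, hi⟩ := hk₁ ⟨d * k₁ * d⁻¹, Normal.conj_mem inferInstance _ k₁.2 d⟩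
      exact ⟨i, (congrArg Subtype.val hi).symm.trans (Subgroup.coe_zpow _ _ _)⟩
    obtain ⟨i, hi⟩ := key a
    obtain ⟨j, hj⟩ := key b
    have e1 : ((a : G ⧸ H) * b) * k₁ * ((a : G ⧸ H) * b)⁻¹ = ((b : G ⧸ H) * a) * k₁ * ((b : G ⧸ H) * a)⁻¹ :=
      calc ((a : G ⧸ H) * b) * k₁ * ((a : G ⧸ H) * b)⁻¹
          = (a : G ⧸ H) * (b * k₁ * (b : G ⧸ H)⁻¹) * (a : G ⧸ H)⁻¹ := by group
        _ = (k₁ : G ⧸ H) ^ (i * j) := by rw [hj, ← conj_zpow, hi, ← _root_.zpow_mul]
        _ = (b : G ⧸ H) * (a * k₁ * (a : G ⧸ H)⁻¹) * (b : G ⧸ H)⁻¹ := by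
          rw [hi, ← conj_zpow, hj, ← _root_.zpow_mul, mul_comm]
        _ = _ := by group
    set x := ((b : G ⧸ H) * a)⁻¹ * ((a : G ⧸ H) * b) with hx
    have hxc : Commute (k₁ : G ⧸ H) x := by
      have e2 := congrArg (fun w => ((b : G ⧸ H) * a)⁻¹ * w * ((a : G ⧸ H) * b)) e1
      simp only [hx, Commute, SemiconjBy] at *
      calc (k₁ : G ⧸ H) * (((b : G ⧸ H) * a)⁻¹ * ((a : G ⧸ H) * b))
          = ((b : G ⧸ H) * a)⁻¹ * ((b : G ⧸ H) * a * k₁ * ((b : G ⧸ H) * a)⁻¹) * ((a : G ⧸ H) * b) := by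
            group
        _ = ((b : G ⧸ H) * a)⁻¹ * ((a : G ⧸ H) * b * k₁ * ((a : G ⧸ H) * b)⁻¹) * ((a : G ⧸ H) * b) :=
            e2.symm
        _ = _ := by group
    by_contra hne3
    have hxD : x ∈ D := mul_mem (inv_mem (mul_mem b.2 a.2)) (mul_mem a.2 b.2)
    refine hKbne (hcomD _ k₁.2 x hxD (fun e => hne3 ?_) hxc)
    rw [hx, inv_mul_eq_one] at e
    simpa using e.symm
  haveI := hDab
  haveI : IsCyclic Kb := isCyclic_of_surjective eC.toMonoidHom eC.surjective
  haveI : IsMulCommutative Kb := IsCyclic.isMulCommutative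
  haveI hDc : IsCyclic D := S0041.result D Kb hne'
    (fun d _ => by rw [normalizer_eq_top (H := Kb)]; exact mem_top d) hfD (Or.inl hDab)
  -- `G/K` is the image of `D`
  let f : G ⧸ H →* G ⧸ K := QuotientGroup.map H K (MonoidHom.id G) (fun x hx => hlt.le hx)
  have hf : ∀ x : G, f (π x) = (x : G ⧸ K) := fun x => rfl
  have hfK : ∀ k ∈ Kb, f k = 1 := by
    rintro _ ⟨x, hx, rfl⟩
    rw [hf]; exact (QuotientGroup.eq_one_iff x).mpr hx
  have hfD : Function.Surjective (f.comp D.subtype) := by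
    intro y
    obtain ⟨x, rfl⟩ := QuotientGroup.mk_surjective y
    obtain ⟨⟨⟨a, ha⟩, b⟩, e⟩ := hc'.surjective (π x)
    refine ⟨b, ?_⟩
    have e' : a * (b : G ⧸ H) = π x := e
    rw [MonoidHom.comp_apply, Subgroup.coe_subtype, ← hf, ← e', map_mul, hfK a ha, one_mul]
  haveI hQc : IsCyclic (G ⧸ K) := isCyclic_of_surjective _ hfD
  have hd : Nat.card (G ⧸ K) = Nat.card D := by
    rw [← hc'.symm.index_eq_card, index_map_eq]
    · rfl
    · exact QuotientGroup.mk'_surjective H
    · rw [QuotientGroup.ker_mk']; exact hlt.le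
  -- solvability
  haveI hsolK : Group.IsSolvable K := by
    haveI : Group.IsSolvable Kb :=
      Group.isSolvable_of_comm fun a b => mul_comm' a b
    refine Group.isSolvable_of_ker_le_range (H.subgroupOf K).subtype
      ((π.comp K.subtype).codRestrict Kb fun k => mem_map_of_mem π k.2) ?_
    intro x hx
    rw [Subgroup.range_subtype]
    exact mem_subgroupOf.mpr ((QuotientGroup.eq_one_iff (x : G)).mp (congrArg Subtype.val hx))
  haveI hsolQ : Group.IsSolvable (G ⧸ K) := by
    haveI : IsMulCommutative (G ⧸ K) := IsCyclic.isMulCommutative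
    exact Group.isSolvable_of_comm fun a b => mul_comm' a b
  have hsol : Group.IsSolvable G :=
    Group.isSolvable_of_ker_le_range K.subtype (QuotientGroup.mk' K) (by simp)
  rw [hm]
  have hH : Nat.card (H.subgroupOf K) = Nat.card H :=
    Nat.card_congr (subgroupOfEquivOfLe hlt.le).toEquiv
  rw [hH] at hcopC
  have hKbc : Nat.card Kb = Nat.card C := (Nat.card_congr eC.toEquiv).symm
  rw [hKbc, ← hd] at hcopD
  have hcop : (Nat.card C).Coprime (Nat.card H * Nat.card (G ⧸ K)) :=
    Nat.Coprime.mul_right hcopC hcopD.symm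
  refine ⟨hsol, hodd, hcop, hQc, ?_⟩
  intro p q hp hq hpq hpG hqG
  have hcardG : Nat.card G = Nat.card H * Nat.card C * Nat.card (G ⧸ K) := by
    have h1 : Nat.card K = Nat.card C * Nat.card H := by
      rw [card_eq_card_quotient_mul_card_subgroup (H.subgroupOf K), hm, hH]
    rw [card_eq_card_quotient_mul_card_subgroup K, h1]; ring
  -- no edge between the two parts
  have hno : ∀ {p q : ℕ}, p.Prime → q.Prime → p ≠ q → p ∣ Nat.card C → ¬ q ∣ Nat.card C →
      ∀ x : G, orderOf x ≠ p * q := by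
    intro p q hp hq hpq hpC hqC z hz
    have ox : orderOf (z ^ q) = p := by
      rw [orderOf_pow' _ hq.ne_zero, hz, Nat.gcd_eq_right (dvd_mul_left q p),
        Nat.mul_div_cancel _ hq.pos]
    have oy : orderOf (z ^ p) = q := by
      rw [orderOf_pow' _ hp.ne_zero, hz, Nat.gcd_eq_right (dvd_mul_right p q),
        Nat.mul_div_cancel_left _ hp.pos]
    have hcomm : Commute (z ^ q) (z ^ p) := Commute.pow_pow_self z q p
    set x := z ^ q
    set y := z ^ p
    have hx1 : x ≠ 1 := fun e => hp.ne_one (by rw [← ox, e, orderOf_one])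
    have hy1 : y ≠ 1 := fun e => hq.ne_one (by rw [← oy, e, orderOf_one])
    have hpH : ¬ p ∣ Nat.card H := fun h =>
      hp.ne_one (Nat.eq_one_of_dvd_coprimes hcop hpC (dvd_mul_of_dvd_left h _))
    have hpD : ¬ p ∣ Nat.card (G ⧸ K) := fun h =>
      hp.ne_one (Nat.eq_one_of_dvd_coprimes hcop hpC (dvd_mul_of_dvd_right h _))
    have hxK : x ∈ K := by
      rw [← QuotientGroup.eq_one_iff, ← orderOf_eq_one_iff]
      have h1 := orderOf_map_dvd (QuotientGroup.mk' K) x
      rw [ox] at h1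
      rcases (Nat.dvd_prime hp).mp h1 with h | h
      · exact h
      · exact absurd (h ▸ orderOf_dvd_natCard (QuotientGroup.mk' K x)) hpD
    have hxH : x ∉ H := fun h => hpH (by
      rw [← ox]; simpa using orderOf_dvd_natCard (⟨x, h⟩ : H))
    by_cases hyK : y ∈ K
    · have hx' : (⟨x, hxK⟩ : K) ∉ Cfsg.frobeniusKernel C := by
        rw [hCk]; exact fun h => hxH (mem_subgroupOf.mp h)
      rw [Frobenius.mem_kernel_iff (fun e => hx1 (congrArg Subtype.val e))] at hx'
      push Not at hx'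
      obtain ⟨a, ha⟩ := hx'
      have hy' : a⁻¹ * ⟨y, hyK⟩ * a ∈ C := by
        refine Frobenius.mem_of_commute hC ha ?_ ?_
        · intro e
          apply hx1
          have := congrArg Subtype.val (show (⟨x, hxK⟩ : K) = 1 by
            have e' := congrArg (fun w => a * w * a⁻¹) e
            simpa [mul_assoc] using e')
          exact this
        · have hc0 : Commute (⟨y, hyK⟩ : K) ⟨x, hxK⟩ := Subtype.ext hcomm.symm.eq
          exact hc0.map (MulAut.conj a⁻¹).toMonoidHom |> fun h => by simpa [MulAut.conj_apply] using h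
      apply hqC
      have h1 := orderOf_dvd_natCard (⟨_, hy'⟩ : C)
      rwa [Subgroup.orderOf_mk, show a⁻¹ * ⟨y, hyK⟩ * a = MulAut.conj a⁻¹ ⟨y, hyK⟩ by simp,
        MulEquiv.orderOf_eq, Subgroup.orderOf_mk, oy] at h1
    · have hxb : π x ∈ Kb := mem_map_of_mem π hxK
      have hxb1 : π x ≠ 1 := fun e => hxH ((QuotientGroup.eq_one_iff x).mp e)
      have hyb : π y ∉ Cfsg.frobeniusKernel D := by
        rw [hDk]
        rintro ⟨w, hw, e⟩
        apply hyK
        have h1 : w⁻¹ * y ∈ H := QuotientGroup.eq.mp e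
        simpa using mul_mem hw (hlt.le h1)
      have hyb1 : π y ≠ 1 := fun e => hyK (hlt.le ((QuotientGroup.eq_one_iff y).mp e))
      rw [Frobenius.mem_kernel_iff hyb1] at hyb
      push Not at hyb
      obtain ⟨a, ha⟩ := hyb
      have h1 : a⁻¹ * π x * a = 1 := by
        refine hcomD _ ?_ _ ha ?_ ?_
        · simpa using Normal.conj_mem (inferInstance : Kb.Normal) _ hxb a⁻¹
        · intro e
          apply hyb1
          have e' := congrArg (fun w => a * w * a⁻¹) e
          simpa [mul_assoc] using e'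
        · exact (hcomm.map π).map (MulAut.conj a⁻¹).toMonoidHom |> fun h => by
            simpa [MulAut.conj_apply] using h
      apply hxb1
      have e' := congrArg (fun w => a * w * a⁻¹) h1
      simpa [mul_assoc] using e'
  -- edges from `G/K` into `H`
  have hedge : ∀ {p q : ℕ}, p.Prime → q.Prime → p ≠ q → ¬ q ∣ Nat.card C →
      p ∣ Nat.card (G ⧸ K) → q ∣ Nat.card H → ∃ x : G, orderOf x = p * q := by
    intro p q hp hq hpq hqC hpd hqH
    haveI := Fact.mk hp
    haveI := Fact.mk hq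
    obtain ⟨V, hVn, hVH, hV1, hVq, hVc, hVcen⟩ := exists_central_qgroup H hqH
    open scoped IsMulCommutative in
    let ψ₀ : G →* MulAut V :=
      V.normalizerMonoidHom.comp ((MonoidHom.id G).codRestrict _ fun x => by
        rw [normalizer_eq_top (H := V)]; exact mem_top x)
    have hψ₀ : ∀ (x : G) (v : V), ((ψ₀ x v : V) : G) = x * v * x⁻¹ := fun x v => rfl
    have hker : H ≤ ψ₀.ker := fun h hh => MulEquiv.ext fun v => Subtype.ext (by
      rw [hψ₀, MulAut.one_apply, hVcen h hh v v.2, mul_inv_cancel_right])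
    let ψ : G ⧸ H →* MulAut V := QuotientGroup.lift H ψ₀ hker
    have hψ : ∀ (x : G) (v : V), ((ψ (π x) v : V) : G) = x * v * x⁻¹ := fun x v => rfl
    rw [hd] at hpd
    obtain ⟨⟨yb, hyb⟩, hord⟩ := exists_prime_orderOf_dvd_card' (G := D) p hpd
    rw [Subgroup.orderOf_mk] at hord
    obtain ⟨y, rfl⟩ := QuotientGroup.mk'_surjective H yb
    by_cases hfix : ∀ v : V, ψ (π y) v = v → v = 1
    · exfalso
      have hy1 : π y ≠ 1 := fun e => hp.ne_one (by rw [← hord, e, orderOf_one])
      obtain ⟨k, hk⟩ := hVq.exists_card_eq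
      open scoped IsMulCommutative in
      have h1 := FittingHeight.hom_eq_one_of_fpf ψ hp (a := π y)
        (by rw [← hord]; exact pow_orderOf_eq_one _) (S := Kb)
        (fun s hs => Normal.conj_mem inferInstance _ hs _)
        (fun s hs e => hcomD s hs _ hyb hy1 (mul_inv_eq_iff_eq_mul.mp e).symm) hfix
        (by rw [hk, hKbc]; exact ((hq.coprime_iff_not_dvd.mpr hqC).symm.pow_right k))
      obtain ⟨⟨c, hcC⟩, hc1⟩ := ne_bot_iff_exists_ne_one.mp hC.1
      obtain ⟨⟨v, hv⟩, hv1⟩ := ne_bot_iff_exists_ne_one.mp hV1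
      have h2 := congrArg Subtype.val
        (DFunLike.congr_fun (h1 (π (c : G)) (mem_map_of_mem π c.2)) (⟨v, hv⟩ : V))
      rw [hψ, MulAut.one_apply] at h2
      have hmem : (⟨v, hlt.le (hVH hv)⟩ : K) ∈ H.subgroupOf K ⊓ centralizer {c} :=
        ⟨mem_subgroupOf.mpr (hVH hv), mem_centralizer_singleton_iff.mpr
          (Subtype.ext (mul_inv_eq_iff_eq_mul.mp h2).symm)⟩
      rw [hfC c hcC (fun e => hc1 (Subtype.ext e)), mem_bot] at hmem
      exact hv1 (Subtype.ext (show v = 1 from congrArg Subtype.val hmem))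
    · push Not at hfix
      obtain ⟨v, hv, hv1⟩ := hfix
      have hv' := congrArg Subtype.val hv
      rw [hψ] at hv'
      have hcomm : Commute y (v : G) := mul_inv_eq_iff_eq_mul.mp hv'
      obtain ⟨i, hi⟩ := IsPGroup.iff_orderOf.mp hVq v
      have hi0 : i ≠ 0 := fun e => hv1 (orderOf_eq_one_iff.mp (by rw [hi, e, pow_zero]))
      have hvo : q ∣ orderOf (v : G) := by rw [Subgroup.orderOf_coe, hi]; exact dvd_pow_self q hi0
      have hyo : p ∣ orderOf y := hord ▸ orderOf_map_dvd π y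
      have o1 := orderOf_pow_orderOf_div (orderOf_pos y).ne' hyo
      have o2 := orderOf_pow_orderOf_div (orderOf_pos (v : G)).ne' hvo
      exact ⟨_, by rw [(hcomm.pow_pow _ _).orderOf_mul_eq_mul_orderOf_of_coprime
        (by rw [o1, o2]; exact (Nat.coprime_primes hp hq).mpr hpq), o1, o2]⟩
  constructor
  · rintro ⟨z, hz⟩
    by_cases hpC : p ∣ Nat.card C <;> by_cases hqC : q ∣ Nat.card C
    · simp [hpC, hqC]
    · exact absurd hz (hno hp hq hpq hpC hqC z)
    · exact absurd (hz.trans (mul_comm p q)) (hno hq hp hpq.symm hqC hpC z)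
    · simp [hpC, hqC]
  · intro hiff
    by_cases hpC : p ∣ Nat.card C
    · obtain ⟨c, hc⟩ := exists_orderOf_mul_of_isNilpotent hp hq hpq hpC (hiff.mp hpC)
      exact ⟨((c : K) : G), by rw [Subgroup.orderOf_coe, Subgroup.orderOf_coe, hc]⟩
    · have hqC : ¬ q ∣ Nat.card C := fun h => hpC (hiff.mpr h)
      have hd' : ∀ {r : ℕ}, r.Prime → r ∣ Nat.card G → ¬ r ∣ Nat.card C →
          r ∣ Nat.card H ∨ r ∣ Nat.card (G ⧸ K) := fun hr h hn => by
        rw [hcardG] at h
        rcases hr.dvd_mul.mp h with h | h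
        · exact (hr.dvd_mul.mp h).elim Or.inl (absurd · hn)
        · exact Or.inr h
      rcases hd' hp hpG hpC with hpH | hpd <;> rcases hd' hq hqG hqC with hqH | hqd
      · obtain ⟨c, hc⟩ := exists_orderOf_mul_of_isNilpotent hp hq hpq hpH hqH
        exact ⟨(c : G), by rw [Subgroup.orderOf_coe, hc]⟩
      · obtain ⟨x, hx⟩ := hedge hq hp hpq.symm hpC hqd hpH
        exact ⟨x, hx.trans (mul_comm q p)⟩
      · exact hedge hp hq hpq hqC hpd hqH
      · obtain ⟨c, hc⟩ := hQc.exists_generator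
        obtain ⟨x, rfl⟩ := QuotientGroup.mk_surjective c
        refine exists_orderOf_of_map (QuotientGroup.mk' K) x ?_
        rw [QuotientGroup.mk'_apply, orderOf_eq_card_of_forall_mem_zpowers hc]
        exact ((Nat.coprime_primes hp hq).mpr hpq).mul_dvd_of_dvd_of_dvd hpd hqd

/-- Let G be a 2-Frobenius group: it has normal subgroups H < K with K a Frobenius group with kernel H and G/H a Frobenius group with kernel K/H. Then G is solvable; K/H has odd order coprime to the order of H and to the order of G/K (it is the image of an odd-order Hall subgroup); G/K is cyclic; and the prime graph of G has exactly two connected components, both complete: for distinct primes p, q dividing the order of G, G has an element of order pq exactly when p and q either both divide the order of K/H or both do not. -/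
theorem result {G : Type*} [Group G] [Finite G] (H K : Subgroup G) [H.Normal] [K.Normal] (hlt : H < K)
    (hK : ∃ C : Subgroup ↥K, Cfsg.IsFrobeniusComplement C ∧ Cfsg.frobeniusKernel C = (H.subgroupOf K : Set ↥K))
    (hGH : ∃ C : Subgroup (G ⧸ H), Cfsg.IsFrobeniusComplement C ∧ Cfsg.frobeniusKernel C = (K.map (QuotientGroup.mk' H) : Set (G ⧸ H))) :
    Group.IsSolvable G ∧ Odd (Nat.card (↥K ⧸ H.subgroupOf K)) ∧
      Nat.Coprime (Nat.card (↥K ⧸ H.subgroupOf K)) (Nat.card ↥H * Nat.card (G ⧸ K)) ∧ IsCyclic (G ⧸ K) ∧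
      ∀ p q : ℕ, p.Prime → q.Prime → p ≠ q → p ∣ Nat.card G → q ∣ Nat.card G →
        ((∃ g : G, orderOf g = p * q) ↔ (p ∣ Nat.card (↥K ⧸ H.subgroupOf K) ↔ q ∣ Nat.card (↥K ⧸ H.subgroupOf K))) := by
  exact two_frobenius H K hlt hK hGH

end Cfsg.Agent.S4001
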