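import Cfsg.Statements.S4002
import Cfsg.Agent.Lib.NT.TwoPrimes
import Cfsg.Agent.Lib.PrimeGraph.ThreePrimes

set_option autoImplicit false
open Cfsg

namespace Cfsg.Agent.S4002

open Agent.PrimeGraph

/-- If the set of element orders of a finite group G is {1, 2, …, n} with n ≥ 7, then G is not solvable. -/
theorem result {G : Type*} [Group G] [Finite G] (n : ℕ) (hn : 7 ≤ n) (h : Set.range (orderOf : G → ℕ) = {k : ℕ | 1 ≤ k ∧ k ≤ n}) : ¬ Group.IsSolvable G := by
  intro hsol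
  have hord : ∀ k, 1 ≤ k → k ≤ n → ∃ x : G, orderOf x = k := fun k h1 h2 => h.ge ⟨h1, h2⟩
  have hdvd : ∀ k, 1 ≤ k → k ≤ n → k ∣ Nat.card G := fun k h1 h2 => by
    obtain ⟨x, rfl⟩ := hord k h1 h2; exact orderOf_dvd_natCard x
  have hna : ∀ a b, n < a * b → NonAdj G a b := fun a b hab x hx => by
    have h1 : orderOf x ∈ {k : ℕ | 1 ≤ k ∧ k ≤ n} := h ▸ Set.mem_range_self x
    have h2 : orderOf x ≤ n := h1.2
    omega
  obtain ⟨p, q, r, hp, hq, hr, hrp, hpq, hqn, h1, h2⟩ : ∃ p q r : ℕ, p.Prime ∧ q.Prime ∧ r.Prime ∧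
      r < p ∧ p < q ∧ q ≤ n ∧ n < r * p ∧ n < p * q := by
    by_cases h11 : 11 ≤ n
    · obtain ⟨p, q, hp, hq, h1, h2, h3⟩ := Agent.NT.exists_two_primes_half h11
      have hp3 : 3 ≤ p := by omega
      exact ⟨p, q, 2, hp, hq, Nat.prime_two, by omega, h2, h3, h1,
        by nlinarith [Nat.mul_le_mul_left p (show 2 ≤ q by omega)]⟩
    · exact ⟨5, 7, 3, by norm_num, by norm_num, by norm_num, by norm_num, by norm_num, by omega,
        by omega, by omega⟩
  exact three_primes hp hq hr hpq.ne hrp.ne' (by omega)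
    (hdvd p hp.pos (by omega)) (hdvd q hq.pos hqn) (hdvd r hr.pos (by omega))
    (hna _ _ h2) (hna _ _ (by rwa [mul_comm]))
    (hna _ _ (lt_of_lt_of_le h1 (by rw [mul_comm q r]; exact Nat.mul_le_mul_left r hpq.le)))

end Cfsg.Agent.S4002
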