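import Cfsg.Statements.S4003
import Cfsg.Agent.S3993
import Cfsg.Agent.Lib.Coprime.Basic
import Cfsg.Agent.Lib.PGroup.Basic
import Cfsg.Agent.Lib.PGroup.Class2
import Cfsg.Agent.Lib.PGroup.NormalElementary
import Cfsg.Agent.Lib.PGroup.UniqueOrderP
import Cfsg.Agent.Lib.PGroup.ElementaryAbelian

set_option autoImplicit false
open Cfsg

namespace Cfsg.Agent.S4003

open Subgroup
open scoped Pointwise commutatorElement Classical

/-- A non-cyclic `p`-group, `p` odd, has a normal elementary abelian subgroup of order `p²`. -/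
theorem exists_normal_square {P : Type*} [Group P] [Finite P] {p : ℕ} [Fact p.Prime] (hp2 : p ≠ 2)
    (hP : IsPGroup p P) (hnc : ¬ IsCyclic P) :
    ∃ E : Subgroup P, E.Normal ∧ Nat.card E = p ^ 2 ∧ IsElementaryAbelian p E := by
  have hp : p.Prime := Fact.out
  obtain ⟨A, hA⟩ := Set.Finite.exists_maximal
    (s := {A : Subgroup P | A.Normal ∧ IsElementaryAbelian p A}) (Set.toFinite _)
    ⟨⊥, inferInstance, Agent.PGroup.isElementaryAbelian_of_forall
      (fun a ha b hb => by rw [mem_bot.1 ha, mem_bot.1 hb]) fun a ha => by rw [mem_bot.1 ha, one_pow]⟩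
  have hAn := hA.1.1
  obtain ⟨k, hk⟩ := Agent.PGroup.card_eq_pow hP A
  by_cases h2 : 2 ≤ k
  · obtain ⟨L, hLn, -, hLA, hLc⟩ := Agent.PGroup.exists_normal_card_between hP (⊥ : Subgroup P) A
      bot_le 2 (by rw [card_bot]; exact Nat.one_le_pow _ _ hp.pos)
      (by rw [hk]; exact Nat.pow_le_pow_right hp.pos h2)
    refine ⟨L, hLn, hLc, Agent.PGroup.isElementaryAbelian_of_forall (fun a ha b hb => ?_)
      fun a ha => hA.1.2.2 a (hLA ha)⟩
    have := hA.1.2.1
    exact congrArg Subtype.val (mul_comm' (⟨a, hLA ha⟩ : A) ⟨b, hLA hb⟩)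
  · exfalso
    have hAc : A ≤ center P := by
      rcases (by omega : k = 0 ∨ k = 1) with h | h
      · rw [card_eq_one.1 (hk.trans (by rw [h, pow_zero]))]; exact bot_le
      · exact Agent.PGroup.le_center_of_card_eq hP A (hk.trans (by rw [h, pow_one]))
    have hall : ∀ x : P, x ^ p = 1 → x ∈ A := fun x hx =>
      Agent.PGroup.mem_of_centralizer_of_maximal_normal hp2 hP hA.1.2
        (fun F hF hFe hAF => le_antisymm (hA.2 ⟨hF, hFe⟩ hAF) hAF)
        (mem_centralizer_iff.2 fun a ha => ((mem_center_iff.1 (hAc ha)) x).symm) hx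
    have hsub : ∀ H : Subgroup P, Nat.card H = p → H = A := fun H hH => by
      refine eq_of_le_of_card_ge (fun x hx => hall x ?_) ?_
      · exact congrArg Subtype.val (hH ▸ pow_card_eq_one' (x := (⟨x, hx⟩ : H)))
      · rw [hH, hk]
        exact le_of_le_of_eq (Nat.pow_le_pow_right hp.pos (by omega : k ≤ 1)) (pow_one p)
    rcases Agent.PGroup.cyclic_or_quaternion_of_unique hP
      (fun H K hH hK => (hsub H hH).trans (hsub K hK).symm) with h | h
    · exact hnc h
    · exact hp2 h.1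

/-- In a non-cyclic `p`-group, `p` odd, the elements of order `p ^ s`, `s > 1`, number a multiple
of `p ^ s`. -/
theorem dvd_card_of_pGroup {P : Type*} [Group P] [Finite P] {p : ℕ} [Fact p.Prime] (hp2 : p ≠ 2)
    (hP : IsPGroup p P) (hnc : ¬ IsCyclic P) {s : ℕ} (hs : 1 < s) :
    p ^ s ∣ Nat.card {x : P // orderOf x = p ^ s} := by
  have hp : p.Prime := Fact.out
  obtain ⟨E, hEn, hEc, hEe⟩ := exists_normal_square hp2 hP hnc
  have hcentral : ∀ u : P, ∀ e ∈ E, ⁅e, u⁆ ∈ center P ∧ ⁅e, u⁆ ∈ E := by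
    intro u e he
    have hmem : ⁅e, u⁆ ∈ ⁅E, (⊤ : Subgroup P)⁆ := commutator_mem_commutator he (mem_top u)
    have hEne : E ≠ ⊥ := fun h => by
      rw [h, card_bot] at hEc
      exact absurd hEc (Nat.one_lt_pow two_ne_zero hp.one_lt).ne
    have hlt := Agent.PGroup.commutator_top_lt hP E hEne
    refine ⟨?_, hlt.le hmem⟩
    have hn : (⁅E, (⊤ : Subgroup P)⁆ : Subgroup P).Normal := inferInstance
    obtain ⟨k, hk⟩ := Agent.PGroup.card_eq_pow hP (⁅E, (⊤ : Subgroup P)⁆)
    have hk2 : k < 2 := by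
      have h1 : Nat.card (⁅E, (⊤ : Subgroup P)⁆ : Subgroup P) < Nat.card E :=
        lt_of_not_ge fun h => hlt.ne (eq_of_le_of_card_ge hlt.le h)
      rw [hk, hEc] at h1
      exact (Nat.pow_lt_pow_iff_right hp.one_lt).1 h1
    rcases (by omega : k = 0 ∨ k = 1) with h | h
    · rw [card_eq_one.1 (hk.trans (by rw [h, pow_zero])), mem_bot] at hmem
      rw [hmem]; exact one_mem _
    · exact Agent.PGroup.le_center_of_card_eq hP _ (hk.trans (by rw [h, pow_one])) hmem
  have hpow : ∀ u : P, ∀ e ∈ E, (u * e) ^ p = u ^ p := by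
    intro u e he
    obtain ⟨h1, h2⟩ := hcentral u e he
    obtain ⟨j, hj⟩ := hp.dvd_choose_self two_ne_zero (lt_of_le_of_ne hp.two_le (Ne.symm hp2))
    rw [Agent.PGroup.mul_pow_of_central h1, hEe.2 e he, hj, pow_mul, hEe.2 _ h2, one_pow, mul_one,
      mul_one]
  have hiff : ∀ x y : P, zpowers (y : P ⧸ E) = zpowers (x : P ⧸ E) → orderOf x = p ^ s →
      orderOf y = p ^ s := by
    intro x y h hx
    obtain ⟨i, hi⟩ := mem_zpowers_iff.1 (h.le (mem_zpowers (y : P ⧸ E)))
    rw [← QuotientGroup.mk_zpow, QuotientGroup.eq] at hi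
    obtain ⟨j, hj⟩ := mem_zpowers_iff.1 (h.ge (mem_zpowers (x : P ⧸ E)))
    rw [← QuotientGroup.mk_zpow, QuotientGroup.eq] at hj
    have hy : y ^ p = (x ^ i) ^ p := by
      rw [← hpow (x ^ i) _ hi, mul_inv_cancel_left]
    have hx' : x ^ p = (y ^ j) ^ p := by
      rw [← hpow (y ^ j) _ hj, mul_inv_cancel_left]
    obtain ⟨s', rfl⟩ := Nat.exists_eq_add_of_lt hs
    have hxp : x ^ p ^ (1 + s' + 1) = 1 := hx ▸ pow_orderOf_eq_one x
    have hxp' : ¬ x ^ p ^ (1 + s') = 1 := fun h' => by
      have h1 := orderOf_dvd_of_pow_eq_one h'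
      rw [hx, Nat.pow_dvd_pow_iff_le_right hp.one_lt] at h1
      omega
    have hz : ∀ (z : P) (k : ℤ) (N : ℕ), z ^ N = 1 → (z ^ k) ^ N = 1 := fun z k N h0 => by
      rw [← zpow_natCast, ← zpow_mul, mul_comm, zpow_mul, zpow_natCast, h0, one_zpow]
    refine orderOf_eq_prime_pow (fun h' => hxp' ?_) ?_
    · have h'' := hz y j _ h'
      rw [add_comm, pow_succ', pow_mul] at h''
      rw [add_comm, pow_succ', pow_mul, hx']
      exact h''
    · have h'' := hz x i _ hxp
      rw [pow_succ', pow_mul] at h''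
      rw [pow_succ', pow_mul, hy]
      exact h''
  refine S3993.dvd_card_of_forall_fiber
    (fun x : {x : P // orderOf x = p ^ s} => zpowers ((x : P) : P ⧸ E)) _ fun a => ?_
  have e : {x : {x : P // orderOf x = p ^ s} // zpowers ((x : P) : P ⧸ E) = zpowers ((a : P) : P ⧸ E)} ≃
      ↥(QuotientGroup.mk (s := E) ⁻¹' {q : P ⧸ E | zpowers q = zpowers ((a : P) : P ⧸ E)}) :=
    { toFun := fun x => ⟨x.1.1, x.2⟩
      invFun := fun x => ⟨⟨x.1, hiff a.1 x.1 x.2 a.2⟩, x.2⟩
      left_inv := fun x => rfl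
      right_inv := fun x => rfl }
  rw [Nat.card_congr e, QuotientGroup.card_preimage_mk, hEc]
  rw [show Nat.card {q : P ⧸ E | zpowers q = zpowers ((a : P) : P ⧸ E)} =
    (orderOf ((a : P) : P ⧸ E)).totient from S3993.card_generators _]
  have hda : orderOf ((a : P) : P ⧸ E) ∣ p ^ s :=
    (orderOf_map_dvd (QuotientGroup.mk' E) (a : P)).trans a.2.dvd
  obtain ⟨t, -, ht⟩ := (Nat.dvd_prime_pow hp).1 hda
  have hst : s ≤ t + 1 := by
    rw [← Nat.pow_dvd_pow_iff_le_right hp.one_lt, ← a.2, pow_succ]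
    refine orderOf_dvd_of_pow_eq_one ?_
    rw [pow_mul]
    refine hEe.2 _ ((QuotientGroup.eq_one_iff _).1 ?_)
    rw [QuotientGroup.mk_pow, ← ht, pow_orderOf_eq_one]
  rw [ht, Nat.totient_prime_pow hp (by omega : 0 < t), ← mul_assoc, ← pow_add]
  exact (pow_dvd_pow p (by omega)).trans (dvd_mul_right _ _)

/-- The elements of order `p ^ s` outside a Sylow `p`-subgroup number a multiple of `p ^ s`. -/
theorem dvd_card_outside {H : Type*} [Group H] [Finite H] {p : ℕ} [Fact p.Prime] (S : Sylow p H)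
    {s : ℕ} (hs : 0 < s) :
    p ^ s ∣ Nat.card {x : H // orderOf x = p ^ s ∧ x ∉ (S : Subgroup H)} := by
  have hp : p.Prime := Fact.out
  let _ : MulAction (S : Subgroup H) (Subgroup H) :=
    MulAction.compHom (Subgroup H) ((MulAut.conj : H →* MulAut H).comp (S : Subgroup H).subtype)
  have hsmul : ∀ (c : (S : Subgroup H)) (K : Subgroup H), c • K = MulAut.conj (c : H) • K :=
    fun c K => rfl
  refine S3993.dvd_card_of_forall_fiber
    (fun x : {x : H // orderOf x = p ^ s ∧ x ∉ (S : Subgroup H)} =>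
      MulAction.orbit (S : Subgroup H) (zpowers (x : H))) _ fun a => ?_
  set O := MulAction.orbit (S : Subgroup H) (zpowers (a : H)) with hO
  have hord : ∀ x : H, zpowers x ∈ O → orderOf x = p ^ s ∧ x ∉ (S : Subgroup H) := by
    intro x hx
    obtain ⟨c, hc⟩ := hx
    replace hc : MulAut.conj (c : H) • zpowers (a : H) = zpowers x := hc
    refine ⟨?_, fun hxS => a.2.2 ?_⟩
    · rw [← Nat.card_zpowers, ← hc, Agent.Coprime.card_conj_smul, Nat.card_zpowers, a.2.1]
    · have h1 : (c : H) * a * (c : H)⁻¹ ∈ zpowers x := by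
        rw [← hc, Agent.Coprime.mem_conj_smul_iff]
        simp [mul_assoc]
      have h2 := mul_mem (mul_mem (inv_mem c.2) ((zpowers_le.2 hxS) h1)) c.2
      simpa [mul_assoc] using h2
  have e : {x : {x : H // orderOf x = p ^ s ∧ x ∉ (S : Subgroup H)} //
      MulAction.orbit (S : Subgroup H) (zpowers (x : H)) = O} ≃
      Σ K : O, {x : H // zpowers x = (K : Subgroup H)} :=
    { toFun := fun x => ⟨⟨zpowers x.1.1, MulAction.orbit_eq_iff.1 x.2⟩, ⟨x.1.1, rfl⟩⟩
      invFun := fun y =>
        have hy : zpowers y.2.1 ∈ O := by rw [y.2.2]; exact y.1.2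
        ⟨⟨y.2.1, hord _ hy⟩, MulAction.orbit_eq_iff.2 hy⟩
      left_inv := fun x => rfl
      right_inv := by rintro ⟨⟨K, hK⟩, ⟨x, (rfl : zpowers x = K)⟩⟩; rfl }
  let _ := Fintype.ofFinite O
  have hgen : ∀ K : O, Nat.card {x : H // zpowers x = (K : Subgroup H)} = (p ^ s).totient := by
    rintro ⟨K, c, rfl⟩
    obtain ⟨x, hx⟩ : ∃ x : H, zpowers x = c • zpowers (a : H) :=
      ⟨(c : H) * a * (c : H)⁻¹, by
        rw [hsmul]
        exact (MonoidHom.map_zpowers (MulAut.conj (c : H)).toMonoidHom (a : H)).symm⟩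
    show Nat.card {y : H // zpowers y = c • zpowers (a : H)} = _
    rw [← hx, S3993.card_generators, (hord x (hx ▸ MulAction.mem_orbit _ c)).1]
  rw [Nat.card_congr e, Nat.card_sigma, Finset.sum_congr rfl fun K _ => hgen K, Finset.sum_const,
    Finset.card_univ, ← Nat.card_eq_fintype_card, smul_eq_mul]
  obtain ⟨i, hi⟩ := S.isPGroup'.card_orbit (zpowers (a : H))
  have hi0 : i ≠ 0 := by
    intro h
    rw [h, pow_zero] at hi
    have hfix : (S : Subgroup H) ≤ normalizer (zpowers (a : H) : Set H) := by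
      intro c hc
      have hsub : Subsingleton (MulAction.orbit (S : Subgroup H) (zpowers (a : H))) :=
        (Nat.card_eq_one_iff_unique.1 hi).1
      have h1 : (⟨c, hc⟩ : (S : Subgroup H)) • zpowers (a : H) = zpowers (a : H) :=
        congrArg Subtype.val (hsub.elim ⟨_, MulAction.mem_orbit _ (⟨c, hc⟩ : (S : Subgroup H))⟩
          ⟨_, MulAction.mem_orbit_self _⟩)
      rw [hsmul] at h1
      refine mem_normalizer_iff.2 fun y => ⟨fun hy => ?_, fun hy => ?_⟩
      · rw [← h1, Agent.Coprime.mem_conj_smul_iff]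
        simpa [mul_assoc] using hy
      · rw [← h1, Agent.Coprime.mem_conj_smul_iff] at hy
        simpa [mul_assoc] using hy
    have hp' : IsPGroup p ((S : Subgroup H) ⊔ zpowers (a : H) : Subgroup H) :=
      S.isPGroup'.to_sup_of_normal_right'
        (IsPGroup.of_card (n := s) (by rw [Nat.card_zpowers, a.2.1])) hfix
    exact a.2.2 ((S.is_maximal' hp' le_sup_left).le ((le_sup_right : zpowers (a : H) ≤ (S : Subgroup H) ⊔ zpowers (a : H)) (mem_zpowers (a : H))))
  rw [hi, Nat.totient_prime_pow hp hs, ← mul_assoc, ← pow_add]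
  exact (pow_dvd_pow p (by omega)).trans (dvd_mul_right _ _)

/-- The case `m = 1`. -/
theorem dvd_card_prime_pow {H : Type*} [Group H] [Finite H] {p : ℕ} [Fact p.Prime] (hp2 : p ≠ 2)
    (S : Sylow p H) (hS : ¬ IsCyclic (S : Subgroup H)) {s : ℕ} (hs : 1 < s) :
    p ^ s ∣ Nat.card {x : H // orderOf x = p ^ s} := by
  rw [Nat.card_congr (Equiv.sumCompl fun x : {x : H // orderOf x = p ^ s} => (x : H) ∈ (S : Subgroup H)).symm,
    Nat.card_sum]
  refine dvd_add ?_ ?_
  · rw [Nat.card_congr (β := {x : (S : Subgroup H) // orderOf x = p ^ s})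
      { toFun := fun x => ⟨⟨x.1.1, x.2⟩, by rw [← Subgroup.orderOf_coe]; exact x.1.2⟩
        invFun := fun x => ⟨⟨x.1.1, by rw [Subgroup.orderOf_coe]; exact x.2⟩, x.1.2⟩
        left_inv := fun x => rfl
        right_inv := fun x => rfl }]
    exact dvd_card_of_pGroup hp2 S.isPGroup' hS hs
  · rw [Nat.card_congr (β := {x : H // orderOf x = p ^ s ∧ x ∉ (S : Subgroup H)})
      { toFun := fun x => ⟨x.1.1, x.1.2, x.2⟩
        invFun := fun x => ⟨⟨x.1, x.2.1⟩, x.2.2⟩
        left_inv := fun x => rfl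
        right_inv := fun x => rfl }]
    exact dvd_card_outside S (by omega)

/-- Let G be a finite group, p an odd prime dividing the order of G whose Sylow p-subgroups are not cyclic, and n = p^s·m with s > 1 and m coprime to p. Then the number of elements of G of order n is a multiple of p^s. -/
theorem result {G : Type*} [Group G] [Finite G] (p : ℕ) [Fact p.Prime] (hodd : p ≠ 2) (hpG : p ∣ Nat.card G)
    (P : Sylow p G) (hP : ¬ IsCyclic ↥(P : Subgroup G)) (s m : ℕ) (hs : 1 < s) (hm : Nat.Coprime p m) :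
    p ^ s ∣ Nat.card {g : G // orderOf g = p ^ s * m} := by
  have hp : p.Prime := Fact.out
  have hm0 : 0 < m := Nat.pos_of_ne_zero fun h => by
    rw [h, Nat.coprime_zero_right] at hm; exact hp.ne_one hm
  obtain ⟨e, f, hse, hNf, he1, hf1⟩ := S3993.exists_split_exponents
    ((hm.pow_left s).symm : m.Coprime (p ^ s))
  have hpair : ∀ a b : G, orderOf a = m → Commute a b → orderOf b = p ^ s →
      orderOf (a * b) = p ^ s * m := fun a b ha hab hb => by
    rw [hab.orderOf_mul_eq_mul_orderOf_of_coprime (by rw [ha, hb]; exact (hm.pow_left s).symm), ha, hb,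
      mul_comm]
  have hsplit : ∀ g : G, orderOf g = p ^ s * m →
      g ^ e * g ^ f = g ∧ orderOf (g ^ e) = m ∧ orderOf (g ^ f) = p ^ s := by
    intro g hg
    have h0 : g ^ e * g ^ f = g := by
      rw [← pow_add]
      conv_rhs => rw [← pow_one g]
      refine pow_eq_pow_iff_modEq.2 ?_
      rw [hg, mul_comm]
      refine (Nat.modEq_and_modEq_iff_modEq_mul ((hm.pow_left s).symm)).1 ⟨?_, ?_⟩
      · simpa using he1.add (Nat.modEq_zero_iff_dvd.2 hNf)
      · simpa using (Nat.modEq_zero_iff_dvd.2 hse).add hf1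
    have hda : orderOf (g ^ e) ∣ m := orderOf_dvd_of_pow_eq_one (by
      rw [← pow_mul, ← orderOf_dvd_iff_pow_eq_one, hg]; exact Nat.mul_dvd_mul_right hse m)
    have hdb : orderOf (g ^ f) ∣ p ^ s := orderOf_dvd_of_pow_eq_one (by
      rw [← pow_mul, ← orderOf_dvd_iff_pow_eq_one, hg, mul_comm f]; exact Nat.mul_dvd_mul_left _ hNf)
    have hd : p ^ s * m ∣ orderOf (g ^ e) * orderOf (g ^ f) := by
      conv_lhs => rw [← hg, ← h0]
      exact (Commute.pow_pow_self g e f).orderOf_mul_dvd_mul_orderOf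
    refine ⟨h0, Nat.dvd_antisymm hda ?_, Nat.dvd_antisymm hdb ?_⟩
    · exact ((hm.pow_left s).symm.coprime_dvd_right hdb).dvd_of_dvd_mul_right
        ((dvd_mul_left m _).trans hd)
    · exact ((hm.pow_left s).coprime_dvd_right hda).dvd_of_dvd_mul_left
        ((dvd_mul_right _ m).trans hd)
  rw [Nat.card_congr (β := Σ a : {a : G // orderOf a = m},
      {b : G // Commute a.1 b ∧ orderOf b = p ^ s})
    { toFun := fun g => ⟨⟨g.1 ^ e, (hsplit g.1 g.2).2.1⟩,
        ⟨g.1 ^ f, Commute.pow_pow_self g.1 e f, (hsplit g.1 g.2).2.2⟩⟩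
      invFun := fun y => ⟨y.1.1 * y.2.1, hpair _ _ y.1.2 y.2.2.1 y.2.2.2⟩
      left_inv := fun g => Subtype.ext (hsplit g.1 g.2).1
      right_inv := by
        rintro ⟨⟨a, ha⟩, ⟨b, hab, hb⟩⟩
        refine Sigma.subtype_ext (Subtype.ext ?_) ?_
        · show (a * b) ^ e = a
          rw [hab.mul_pow, orderOf_dvd_iff_pow_eq_one.1 (show orderOf b ∣ e by rw [hb]; exact hse), mul_one]
          conv_rhs => rw [← pow_one a]
          exact pow_eq_pow_iff_modEq.2 (ha.symm ▸ he1)
        · show (a * b) ^ f = b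
          rw [hab.mul_pow, orderOf_dvd_iff_pow_eq_one.1 (show orderOf a ∣ f by rw [ha]; exact hNf), one_mul]
          conv_rhs => rw [← pow_one b]
          exact pow_eq_pow_iff_modEq.2 (hb.symm ▸ hf1) }]
  refine S3993.dvd_card_sigma_of_class (fun a => orderOf a = m)
    (fun a => {b : G // Commute a b ∧ orderOf b = p ^ s}) ?_ ?_ (p ^ s) ?_
  · intro a x hax ha
    obtain ⟨c, rfl⟩ := isConj_iff.1 hax
    rw [← ha]
    exact orderOf_injective (MulAut.conj c).toMonoidHom (MulAut.conj c).injective a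
  · intro a x hax
    exact S3993.card_centralizing_conj (fun b => orderOf b = p ^ s) (fun c b hb => by
      rw [← hb]; exact orderOf_injective (MulAut.conj c).toMonoidHom (MulAut.conj c).injective b) hax
  intro a ha
  set C := centralizer ({a} : Set G) with hC
  have hinner : Nat.card {b : G // Commute a b ∧ orderOf b = p ^ s} =
      Nat.card {b : C // orderOf b = p ^ s} :=
    Nat.card_congr
      { toFun := fun b => ⟨⟨b.1, mem_centralizer_singleton_iff.2 b.2.1.eq.symm⟩, by
          rw [← Subgroup.orderOf_coe]; exact b.2.2⟩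
        invFun := fun b => ⟨b.1.1, (mem_centralizer_singleton_iff.1 b.1.2).symm, by
          rw [Subgroup.orderOf_coe]; exact b.2⟩
        left_inv := fun b => rfl
        right_inv := fun b => rfl }
  rw [hinner]
  by_cases hd : p ∣ Nat.card {x : G // IsConj a x}
  · obtain ⟨t, rfl⟩ := Nat.exists_eq_add_of_lt hs
    rw [pow_succ']
    refine mul_dvd_mul hd (Dvd.dvd.trans (b := (p ^ (1 + t + 1)).totient) ?_
      (S3993.totient_dvd_card _ (fun x y h hy => (S3993.orderOf_eq_of_zpowers_eq h).trans hy)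
        fun x hx => by rw [hx, pow_succ']))
    rw [Nat.totient_prime_pow hp (by omega), show 1 + t + 1 - 1 = 1 + t by omega]
    exact dvd_mul_right _ _
  · have : Nonempty {x : G // IsConj a x} := ⟨⟨a, IsConj.refl a⟩⟩
    obtain ⟨S⟩ : Nonempty (Sylow p C) := Sylow.nonempty
    set S' := (S : Subgroup C).map C.subtype with hS'
    have hS'c : Nat.card S' = Nat.card (S : Subgroup C) := card_map_of_injective C.subtype_injective
    have hfull : Nat.card S' = p ^ (Nat.card G).factorization p := by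
      rw [hS'c, S.card_eq_multiplicity, ← S3993.card_isConj_mul a,
        Nat.factorization_mul (Nat.card_pos (α := {x : G // IsConj a x})).ne' Nat.card_pos.ne',
        Finsupp.add_apply, Nat.factorization_eq_zero_of_not_dvd hd, zero_add]
    let Q : Sylow p G := Sylow.ofCard S' hfull
    refine dvd_mul_of_dvd_right (dvd_card_prime_pow hodd S (fun hcyc => hP ?_) hs) _
    have h1 : IsCyclic S' :=
      (MulEquiv.isCyclic (equivMapOfInjective (S : Subgroup C) C.subtype C.subtype_injective)).1 hcyc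
    exact (MulEquiv.isCyclic (Q.equiv P)).1 h1

end Cfsg.Agent.S4003
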