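import Cfsg.Statements.S4004
import Cfsg.Agent.Lib.OrderCounts.ThreeValues
import Cfsg.Agent.Lib.CyclicSylow.Basic
import Mathlib.GroupTheory.GroupAction.ConjAct
-- import your own Cfsg.Agent.* helpers here

set_option autoImplicit false
open Cfsg

namespace Cfsg.Agent.S4004

open Subgroup OrderCounts
open scoped IsMulCommutative Pointwise

section Module

variable {G : Type*} [Group G] [Finite G]

omit [Finite G] in
theorem conj_pow_prod (V : Subgroup G) [V.Normal] [IsMulCommutative V] (v : V) (w : G) (n : ℕ) :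
    ((v : G) * w) ^ n =
      ((∏ j ∈ Finset.range n, MulAut.conjNormal (w ^ j) v : V) : G) * w ^ n := by
  induction n with
  | zero => simp
  | succ n ih =>
    rw [pow_succ, ih, Finset.prod_range_succ, Subgroup.coe_mul, MulAut.conjNormal_apply, pow_succ]
    group

omit [Finite G] in
/-- A fixed-point-free element: the product of the conjugates over its cyclic group is trivial. -/
theorem prod_zpowers_eq_one (V : Subgroup G) [V.Normal] [IsMulCommutative V] (y : G)
    [Fintype (zpowers y)] (hfix : ∀ v : V, Commute y (v : G) → v = 1) (v : V) :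
    ∏ g : zpowers y, MulAut.conjNormal (g : G) v = 1 := by
  refine hfix _ ?_
  set S := ∏ g : zpowers y, MulAut.conjNormal (g : G) v with hS
  have h1 : MulAut.conjNormal y S = S := by
    rw [hS, map_prod]
    refine Fintype.prod_equiv (Equiv.mulLeft ⟨y, mem_zpowers y⟩) _ _ fun g => ?_
    rw [Equiv.coe_mulLeft, Subgroup.coe_mul, map_mul, MulAut.mul_apply]
  have h2 := congrArg Subtype.val h1
  rw [MulAut.conjNormal_apply] at h2
  exact mul_inv_eq_iff_eq_mul.1 h2

/-- Partition argument: no nontrivial module for such a configuration. -/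
theorem eq_one_of_partition (V : Subgroup G) [V.Normal] [IsMulCommutative V] {r s : ℕ}
    (_hr : r.Prime) (hs : s.Prime) {y x : G} (hy : orderOf y = r) (hxy : x * y * x⁻¹ ∈ zpowers y)
    (hord : ∀ k : ℕ, orderOf (y ^ k * x) = s)
    (hfix : ∀ v : V, Commute y (v : G) → v = 1)
    (hprod : ∀ (k : ℕ) (v : V), ∏ j ∈ Finset.range s, MulAut.conjNormal ((y ^ k * x) ^ j) v = 1)
    (v : V) : v ^ r = 1 := by
  classical
  haveI : Fintype (zpowers y) := Fintype.ofFinite _
  have hnorm : ∀ j : ℕ, ∀ a ∈ zpowers y, x ^ j * a * (x ^ j)⁻¹ ∈ zpowers y := by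
    intro j
    induction j with
    | zero => intro a ha; simpa using ha
    | succ j ih =>
      intro a ha
      rw [pow_succ, show x ^ j * x * a * (x ^ j * x)⁻¹ = x ^ j * (x * a * x⁻¹) * (x ^ j)⁻¹ by group]
      refine ih _ ?_
      obtain ⟨i, rfl⟩ := mem_zpowers_iff.1 ha
      rw [← conj_zpow]
      exact zpow_mem hxy i
  have hmem : ∀ k j : ℕ, (y ^ k * x) ^ j * (x ^ j)⁻¹ ∈ zpowers y := by
    intro k j
    induction j with
    | zero => simp
    | succ j ih =>
      rw [show (y ^ k * x) ^ (j + 1) * (x ^ (j + 1))⁻¹ =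
        ((y ^ k * x) ^ j * (x ^ j)⁻¹) * (x ^ j * y ^ k * (x ^ j)⁻¹) by
          rw [pow_succ, pow_succ]; group]
      exact mul_mem ih (hnorm j _ (pow_mem (mem_zpowers y) k))
  have hinner : ∀ j ∈ Finset.Ico 1 s,
      ∏ k : Fin r, MulAut.conjNormal ((y ^ (k : ℕ) * x) ^ j) v = 1 := by
    intro j hj
    rw [Finset.mem_Ico] at hj
    let e : Fin r → zpowers y := fun k => ⟨(y ^ (k : ℕ) * x) ^ j * (x ^ j)⁻¹, hmem _ _⟩
    have hinj : Function.Injective e := by
      intro k l h
      have h1 : (y ^ (k : ℕ) * x) ^ j = (y ^ (l : ℕ) * x) ^ j :=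
        mul_right_cancel (congrArg Subtype.val h)
      have hcop : j.Coprime s := (Nat.coprime_comm).1
        (hs.coprime_iff_not_dvd.2 fun hd => by have := Nat.le_of_dvd (by omega) hd; omega)
      obtain ⟨m, -, hm⟩ := Nat.exists_mul_mod_eq_one_of_coprime hcop hs.one_lt
      have hback : ∀ i : ℕ, ((y ^ i * x) ^ j) ^ m = y ^ i * x := fun i => by
        rw [← pow_mul, ← pow_mod_orderOf, hord i, hm, pow_one]
      have h2 : y ^ (k : ℕ) * x = y ^ (l : ℕ) * x := by rw [← hback, h1, hback]
      exact Fin.ext (pow_injOn_Iio_orderOf (by simp [hy]) (by simp [hy]) (mul_right_cancel h2))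
    have hbij : Function.Bijective e := hinj.bijective_of_nat_card_le
      (by rw [Nat.card_zpowers, hy, Nat.card_fin])
    have h0 := prod_zpowers_eq_one V y hfix (MulAut.conjNormal (x ^ j) v)
    refine Eq.trans ?_ h0
    refine Fintype.prod_equiv (Equiv.ofBijective e hbij) _ _ fun k => ?_
    show MulAut.conjNormal ((y ^ (k : ℕ) * x) ^ j) v =
      MulAut.conjNormal ((y ^ (k : ℕ) * x) ^ j * (x ^ j)⁻¹) (MulAut.conjNormal (x ^ j) v)
    rw [← MulAut.mul_apply, ← map_mul, inv_mul_cancel_right]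
  have htot : ∏ k : Fin r, ∏ j ∈ Finset.range s, MulAut.conjNormal ((y ^ (k : ℕ) * x) ^ j) v = 1 :=
    Finset.prod_eq_one fun k _ => hprod k v
  rw [Finset.prod_comm, Finset.range_eq_Ico,
    ← Finset.insert_Ico_add_one_left_eq_Ico hs.pos, Finset.prod_insert (by simp),
    zero_add, Finset.prod_eq_one hinner, mul_one] at htot
  simpa using htot

end Module

variable {G : Type*} [Group G] [Finite G]

theorem commute_empty {p q : ℕ} (hp : p.Prime) (hq : q.Prime) (hpq : p ≠ q)
    (h : num G (p * q) = 0) {x y : G} (hx : orderOf x = p) (hy : orderOf y = q) :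
    ¬ Commute x y := fun hc => by
  refine num_ne_zero_iff.2 ⟨x * y, ?_⟩ h
  rw [hc.orderOf_mul_eq_mul_orderOf_of_coprime (by rw [hx, hy]; exact (Nat.coprime_primes hp hq).2 hpq),
    hx, hy]

/-- Both counts equal is impossible for two primes. -/
theorem not_same_two {u v : ℕ} (h : Two G u v) (hu : 1 < u) {p q : ℕ} (hp : p.Prime) (hq : q.Prime)
    (hp2 : p ≠ 2) (hq2 : q ≠ 2) (hpq : p ≠ q)
    (honly : ∀ r : ℕ, r.Prime → r ∣ Nat.card G → r = p ∨ r = q)
    (hpG : p ∣ Nat.card G) (hqG : q ∣ Nat.card G) (hpu : num G p = u) (hqu : num G q = u) :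
    False := by
  obtain ⟨hpqv, hv⟩ := pair h hp hq hp2 hpq hpG hqG hpu hqu
  obtain ⟨-, hv'⟩ := pair h hq hp hq2 hpq.symm hqG hpG hqu hpu
  have hdvd : Nat.card G ∣ 1 + u := by
    refine (Nat.dvd_iff_prime_pow_dvd_dvd _ _).2 fun r k hr hrk => ?_
    rcases Nat.eq_zero_or_pos k with rfl | hk0
    · rw [pow_zero]; exact one_dvd _
    rcases honly r hr ((dvd_pow_self r hk0.ne').trans hrk) with rfl | rfl
    · exact prime_pow_dvd h hp hp2 hpu hv k hrk
    · exact prime_pow_dvd h hq hq2 hqu hv' k hrk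
  have hle := Nat.le_of_dvd (by omega) hdvd
  have hsum := sum_le (G := G) (n := p * q) (Nat.mul_ne_zero hp.ne_zero hq.ne_zero)
  rw [sum_two hp hq hpq, hpu, hqu] at hsum
  omega

/-- No element of order `p ^ 2`. -/
theorem num_sq {u v : ℕ} (h : Two G u v) {p q : ℕ} (hp : p.Prime) (hq : q.Prime)
    (hq2 : q ≠ 2) (hpq : p ≠ q) (hqG : q ∣ Nat.card G) (hpu : num G p = u) (hqv : num G q = v) :
    num G (p ^ 2) = 0 := by
  by_contra hne
  obtain ⟨g, hg⟩ := num_ne_zero_iff.1 hne
  have hp2G : p ^ 2 ∣ Nat.card G := hg ▸ orderOf_dvd_natCard g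
  have hpG : p ∣ Nat.card G := (dvd_pow_self p two_ne_zero).trans hp2G
  have h2 := cong_prime hp hpG
  rw [hpu] at h2
  have hdiv : ∀ m, p ∣ m.totient → (num G m : ZMod p) = 0 := fun m hm =>
    (ZMod.natCast_eq_zero_iff _ _).2 (hm.trans (totient_dvd_num m))
  have hv0 : num G (p ^ 2) = v := by
    rcases h (p ^ 2) (by have := hp.two_le; nlinarith) with e | e | e
    · exact absurd e hne
    · exfalso
      have h3 := hdiv (p ^ 2) (by rw [Nat.totient_prime_pow hp two_pos, show 2 - 1 = 1 from rfl, pow_one]; exact dvd_mul_right p _)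
      rw [e, h2, neg_eq_zero] at h3
      exact one_ne_zero' hp h3
    · exact e
  have hqp : ¬ q ∣ p ^ 2 := fun hd =>
    hpq ((Nat.prime_dvd_prime_iff_eq hq hp).1 (hq.dvd_of_dvd_pow hd)).symm
  have hd : q * p ^ 2 ∣ Nat.card G :=
    (Nat.Coprime.pow_right 2 ((Nat.coprime_primes hq hp).2 hpq.symm)).mul_dvd_of_dvd_of_dvd hqG hp2G
  have hs := (dvd_mul_right q (p ^ 2)).trans (dvd_sum hd)
  rw [sum_divisors_prime_mul hq hqp, Nat.sum_divisors_prime_pow hp,
    Nat.sum_divisors_prime_pow hp, ← ZMod.natCast_eq_zero_iff] at hs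
  simp only [Finset.sum_range_succ, Finset.sum_range_zero, zero_add, pow_zero, pow_one, mul_one,
    num_one, hpu, hqv, hv0] at hs
  push_cast at hs
  have h1 := cong_two hq hp hpq.symm hqG hpG
  have h4 := cong_prime hq hqG
  rw [hqv] at h1 h4
  rw [hpu] at h1
  have hN : (num G (q * p ^ 2) : ZMod q) = 1 := by linear_combination hs - h1 - h4
  rcases h (q * p ^ 2) (by have := hp.two_le; have := hq.two_le; nlinarith) with e | e | e <;>
    rw [e] at hN
  · exact one_ne_zero' hq (by push_cast at hN; linear_combination -hN)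
  · have h3 := hdiv (q * p ^ 2) (by
      rw [Nat.totient_mul (Nat.Coprime.pow_right 2 ((Nat.coprime_primes hq hp).2 hpq.symm)),
        Nat.totient_prime_pow hp two_pos, show 2 - 1 = 1 from rfl, pow_one]
      exact dvd_mul_of_dvd_right (dvd_mul_right p _) _)
    rw [e, h2, neg_eq_zero] at h3
    exact one_ne_zero' hp h3
  · exact two_ne_zero' hq hq2 (by rw [h4] at hN; linear_combination -hN)

/-- The number of elements of order `p q` is not `v`, the number of elements of order `q`. -/
theorem num_pair_ne {p q : ℕ} (hp : p.Prime) (hq : q.Prime) (hp2 : p ≠ 2)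
    (_hq2 : q ≠ 2) (hpq : p ≠ q) (hpG : p ∣ Nat.card G) (hqG : q ∣ Nat.card G) :
    num G (p * q) ≠ num G q := by
  intro he
  haveI : Fact q.Prime := ⟨hq⟩
  haveI : Fact p.Prime := ⟨hp⟩
  set u := num G p with hu
  set v := num G q with hv
  have h1 := cong_two hp hq hpq hpG hqG
  have h2 := cong_two hq hp hpq.symm hqG hpG
  have h3 := cong_prime hp hpG
  have h4 := cong_prime hq hqG
  rw [mul_comm q p] at h2
  rw [he, ← hu, ← hv] at h1 h2
  rw [← hu] at h3
  rw [← hv] at h4
  have hu1 : (u : ZMod q) = 1 := by linear_combination h2 - 2 * h4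
  -- every element of order `q` commutes with an element of order `p`
  have hcomm : ∀ y : {y : G // orderOf y = q}, ∃ x : G, orderOf x = p ∧ Commute (y : G) x := by
    intro y
    let α := {x : G // orderOf x = p}
    let act : MulAction (zpowers (y : G)) α :=
      { smul := fun g x => ⟨(g : G) * x.1 * (g : G)⁻¹, by rw [← MulAut.conj_apply, MulEquiv.orderOf_eq]; exact x.2⟩
        one_smul := fun x => Subtype.ext (show (1 : G) * x.1 * (1 : G)⁻¹ = x.1 by group)
        mul_smul := fun g k x => Subtype.ext (show (g : G) * k * x.1 * ((g : G) * k)⁻¹ =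
          g * (k * x.1 * (k : G)⁻¹) * (g : G)⁻¹ by group) }
    letI := act
    have hP : IsPGroup q (zpowers (y : G)) :=
      CyclicSylow.isPGroup_zpowers_of_orderOf (k := 1) (by rw [y.2, pow_one])
    have hmod := hP.card_modEq_card_fixedPoints α
    have hne : Nat.card (MulAction.fixedPoints (zpowers (y : G)) α) ≠ 0 := by
      intro e
      rw [e, ← ZMod.natCast_eq_natCast_iff, Nat.cast_zero] at hmod
      exact one_ne_zero' hq (hu1.symm.trans hmod)
    obtain ⟨⟨⟨x, hx⟩, hfix⟩⟩ := (Nat.card_ne_zero.1 hne).1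
    refine ⟨x, hx, mul_inv_eq_iff_eq_mul.1 ?_⟩
    exact congrArg Subtype.val (hfix ⟨y, mem_zpowers (y : G)⟩)
  choose f hfo hfc using hcomm
  have hle : Nat.card (Bool × {y : G // orderOf y = q}) ≤ Nat.card {g : G // orderOf g = p * q} := by
    refine Nat.card_le_card_of_injective (fun w => ⟨(if w.1 then f w.2 else (f w.2)⁻¹) * w.2, ?_⟩) ?_
    · rcases w with ⟨_ | _, y⟩
      · rw [if_neg (by simp), ((hfc y).inv_right).symm.orderOf_mul_eq_mul_orderOf_of_coprime
          (by rw [orderOf_inv, hfo, y.2]; exact (Nat.coprime_primes hp hq).2 hpq), orderOf_inv, hfo, y.2]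
      · rw [if_pos rfl, (hfc y).symm.orderOf_mul_eq_mul_orderOf_of_coprime
          (by rw [hfo, y.2]; exact (Nat.coprime_primes hp hq).2 hpq), hfo, y.2]
    · rintro ⟨a, y⟩ ⟨b, y'⟩ e
      have e' : (if a then f y else (f y)⁻¹) * (y : G) = (if b then f y' else (f y')⁻¹) * (y' : G) :=
        congrArg Subtype.val e
      have hpw : ∀ (c : Bool) (z : {y : G // orderOf y = q}),
          ((if c then f z else (f z)⁻¹) * (z : G)) ^ p = (z : G) ^ p := by
        intro c z
        have h0 : f z ^ p = 1 := by rw [← hfo z, pow_orderOf_eq_one]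
        cases c
        · rw [if_neg (by simp), ((hfc z).inv_right).symm.mul_pow, inv_pow, h0, inv_one, one_mul]
        · rw [if_pos rfl, (hfc z).symm.mul_pow, h0, one_mul]
      have hy : (y : G) ^ p = (y' : G) ^ p := by rw [← hpw a, e', hpw b]
      obtain ⟨m, -, hm⟩ := Nat.exists_mul_mod_eq_one_of_coprime ((Nat.coprime_primes hp hq).2 hpq) hq.one_lt
      have hback : ∀ z : {y : G // orderOf y = q}, ((z : G) ^ p) ^ m = z := fun z => by
        rw [← pow_mul, ← pow_mod_orderOf, z.2, hm, pow_one]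
      obtain rfl : y = y' := Subtype.ext (by rw [← hback y, hy, hback y'])
      have e2 := mul_right_cancel e'
      have hne : f y ≠ (f y)⁻¹ := fun h => hp2 ((Nat.prime_dvd_prime_iff_eq hp Nat.prime_two).1
        (hfo y ▸ orderOf_dvd_of_pow_eq_one (by rw [pow_two]; nth_rewrite 2 [h]; rw [mul_inv_cancel])))
      cases a <;> cases b <;> simp_all
  rw [Nat.card_prod, Nat.card_eq_fintype_card (α := Bool), Fintype.card_bool] at hle
  have hv0 : v ≠ 0 := num_prime_ne_zero hq hqG
  change 2 * v ≤ num G (p * q) at hle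
  omega

/-- The Frobenius structure, given a normal `p`-subgroup. -/
theorem exists_complement {p q : ℕ} [Fact p.Prime] [Fact q.Prime] (hpq : p ≠ q)
    (hpG : p ∣ Nat.card G) (hqG : q ∣ Nat.card G)
    (hord : ∀ g : G, orderOf g = 1 ∨ orderOf g = p ∨ orderOf g = q)
    (M : Subgroup G) [M.Normal] (hM : IsPGroup p M) (hM1 : M ≠ ⊥)
    :
    ∃ C : Subgroup G, Cfsg.IsFrobeniusComplement C ∧ (Nat.card C).Prime := by
  classical
  have hp : p.Prime := Fact.out
  have hq : q.Prime := Fact.out
  have hno : num G (p * q) = 0 := by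
    by_contra hne
    obtain ⟨g, hg⟩ := num_ne_zero_iff.1 hne
    have h2 := hp.two_le
    have h3 := hq.two_le
    rcases hord g with e | e | e <;> rw [hg] at e <;> nlinarith
  haveI : Nontrivial M := (nontrivial_iff_ne_bot M).2 hM1
  haveI := hM.center_nontrivial
  set V := (center M).map M.subtype with hV
  haveI : V.Normal := ConjAct.normal_of_characteristic_of_normal
  haveI : IsMulCommutative V := ⟨⟨fun a b => by
    obtain ⟨a', ha', ea⟩ := a.2
    obtain ⟨b', hb', eb⟩ := b.2
    refine Subtype.ext ?_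
    show (a : G) * b = b * a
    rw [← ea, ← eb, ← map_mul, ← map_mul, mem_center_iff.1 hb' a']⟩⟩
  have hVp : IsPGroup p V := (hM.to_subgroup _).map _
  obtain ⟨v₀, hv₀⟩ : ∃ v : V, v ≠ 1 := by
    obtain ⟨c, hc⟩ := exists_ne (1 : center M)
    exact ⟨⟨((c : M) : G), (c : M), c.2, rfl⟩, fun e => hc (by
      have h' : ((c : M) : G) = 1 := congrArg Subtype.val e
      exact Subtype.ext (Subtype.ext h'))⟩
  have hVord : ∀ v : V, v ≠ 1 → orderOf (v : G) = p := by
    intro v hv
    rcases hord (v : G) with e | e | e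
    · exact absurd (orderOf_eq_one_iff.1 e) fun e' => hv (Subtype.ext e')
    · exact e
    · exact absurd (CyclicSylow.eq_one_of_not_dvd_orderOf hVp v.2
        (by rw [e]; exact fun h => hpq ((Nat.prime_dvd_prime_iff_eq hp hq).1 h)))
        fun e' => hv (Subtype.ext e')
  have hfix : ∀ y : G, orderOf y = q → ∀ v : V, Commute y (v : G) → v = 1 := fun y hy v hc =>
    by_contra fun hv => commute_empty hp hq hpq hno (hVord v hv) hy hc.symm
  have hr1 : ∀ {r : ℕ}, r = q → v₀ ^ r ≠ 1 := by
    rintro r rfl he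
    refine hv₀ (Subtype.ext (orderOf_eq_one_iff.1 ?_))
    have h1 := orderOf_dvd_of_pow_eq_one (congrArg Subtype.val he : (v₀ : G) ^ r = 1)
    rw [hVord v₀ hv₀] at h1
    exact absurd ((Nat.prime_dvd_prime_iff_eq hp hq).1 h1) hpq
  let Q : Sylow q G := default
  haveI : Nontrivial (Q : Subgroup G) := (nontrivial_iff_ne_bot _).2 (Q.ne_bot_of_dvd_card hqG)
  haveI := Q.2.center_nontrivial
  obtain ⟨⟨⟨y, hyQ⟩, hyc⟩, hy1⟩ := exists_ne (1 : center (Q : Subgroup G))
  have hQord : ∀ g ∈ (Q : Subgroup G), g ≠ 1 → orderOf g = q := by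
    intro g hg hg1
    rcases hord g with e | e | e
    · exact absurd (orderOf_eq_one_iff.1 e) hg1
    · exact absurd (CyclicSylow.eq_one_of_not_dvd_orderOf Q.2 hg
        (by rw [e]; exact fun h => hpq ((Nat.prime_dvd_prime_iff_eq hq hp).1 h).symm)) hg1
    · exact e
  have hyne : y ≠ 1 := fun e => hy1 (Subtype.ext (Subtype.ext e))
  have hyo := hQord y hyQ hyne
  have hyc' : ∀ g ∈ (Q : Subgroup G), Commute g y := fun g hg =>
    congrArg Subtype.val (mem_center_iff.1 hyc ⟨g, hg⟩)
  -- `Q = ⟨y⟩`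
  have hQy : (Q : Subgroup G) = zpowers y := by
    refine le_antisymm (fun x hx => ?_) (zpowers_le.2 hyQ)
    by_contra hxy
    have hmem : ∀ k : ℕ, y ^ k * x ∈ (Q : Subgroup G) ∧ y ^ k * x ≠ 1 := fun k =>
      ⟨mul_mem (pow_mem hyQ k) hx, fun e => hxy (by
        rw [eq_inv_of_mul_eq_one_right e]; exact inv_mem (pow_mem (mem_zpowers y) k))⟩
    refine hr1 rfl (eq_one_of_partition V hq hq hyo ?_ (fun k => hQord _ (hmem k).1 (hmem k).2)
      (hfix y hyo) (fun k v => hfix _ (hQord _ (hmem k).1 (hmem k).2) _ ?_) v₀)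
    · rw [(hyc' x hx).eq, mul_inv_cancel_right]
      exact mem_zpowers y
    · set w := y ^ k * x
      set S := ∏ j ∈ Finset.range q, MulAut.conjNormal (w ^ j) v with hS
      have hwq : w ^ q = 1 := by
        rw [← hQord w (hmem k).1 (hmem k).2, pow_orderOf_eq_one]
      have h1 : MulAut.conjNormal w S = S := by
        rw [hS, map_prod]
        have hstep : ∀ j, MulAut.conjNormal w (MulAut.conjNormal (w ^ j) v) =
            MulAut.conjNormal (w ^ (j + 1)) v := fun j => by
          rw [← MulAut.mul_apply, ← map_mul, ← pow_succ']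
        rw [Finset.prod_congr rfl fun j _ => hstep j]
        obtain ⟨q', hq'⟩ := Nat.exists_eq_succ_of_ne_zero hq.ne_zero
        rw [hq', Finset.prod_range_succ, Finset.prod_range_succ' (fun j => MulAut.conjNormal (w ^ j) v)]
        congr 1
        rw [pow_zero, map_one, MulAut.one_apply, show q' + 1 = q by omega, hwq, map_one,
          MulAut.one_apply]
      have h2 := congrArg Subtype.val h1
      rw [MulAut.conjNormal_apply] at h2
      exact mul_inv_eq_iff_eq_mul.1 h2
  -- `N(Q) = Q`
  have hNQ : ∀ g ∈ normalizer ((Q : Subgroup G) : Set G), g ∈ (Q : Subgroup G) := by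
    intro g hg
    rcases hord g with e | e | e
    · rw [orderOf_eq_one_iff.1 e]; exact one_mem _
    · exfalso
      have hgQ : g ∉ (Q : Subgroup G) := fun h' => by
        rcases eq_or_ne g 1 with h1 | h1
        · rw [h1, orderOf_one] at e; exact hp.ne_one e.symm
        · exact hpq (e.symm.trans (hQord g h' h1))
      have hko : ∀ k : ℕ, orderOf (y ^ k * g) = p := by
        intro k
        have hnot : y ^ k * g ∉ (Q : Subgroup G) := fun h' =>
          hgQ (((Q : Subgroup G).mul_mem_cancel_left (pow_mem hyQ k)).1 h')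
        rcases hord (y ^ k * g) with e' | e' | e'
        · exact absurd (by rw [orderOf_eq_one_iff.1 e']; exact one_mem _) hnot
        · exact e'
        · refine absurd (CyclicSylow.mem_sylow_of_mem_normalizer Q
            (mul_mem (le_normalizer (pow_mem hyQ k)) hg) ?_) hnot
          exact CyclicSylow.isPGroup_zpowers_of_orderOf (k := 1) (by rw [e', pow_one])
      refine hr1 rfl (eq_one_of_partition V hq hp hyo ?_ hko (hfix y hyo) (fun k v => ?_) v₀)
      · have := (mem_normalizer_iff.1 hg y).1 hyQ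
        rwa [hQy] at this
      · set w := y ^ k * g
        have hsup : IsPGroup p ↥(V ⊔ zpowers w) := IsPGroup.to_sup_of_normal_left hVp
          (CyclicSylow.isPGroup_zpowers_of_orderOf (k := 1) (by rw [hko k, pow_one]))
        have hpow : ((v : G) * w) ^ p = 1 := by
          have hmem := mul_mem (mem_sup_left (T := zpowers w) v.2) (mem_sup_right (S := V) (mem_zpowers w))
          rcases hord ((v : G) * w) with e' | e' | e'
          · rw [orderOf_eq_one_iff.1 e', one_pow]
          · rw [← e', pow_orderOf_eq_one]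
          · rw [CyclicSylow.eq_one_of_not_dvd_orderOf hsup hmem
              (by rw [e']; exact fun h => hpq ((Nat.prime_dvd_prime_iff_eq hp hq).1 h)), one_pow]
        rw [conj_pow_prod, show w ^ p = 1 by rw [← hko k, pow_orderOf_eq_one], mul_one] at hpow
        exact Subtype.ext hpow
    · exact CyclicSylow.mem_sylow_of_mem_normalizer Q hg
        (CyclicSylow.isPGroup_zpowers_of_orderOf (k := 1) (by rw [e, pow_one]))
  have hQcard : Nat.card (Q : Subgroup G) = q := by rw [hQy, Nat.card_zpowers, hyo]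
  refine ⟨Q, ⟨Q.ne_bot_of_dvd_card hqG, fun e => ?_, fun g hg => ?_⟩, by rw [hQcard]; exact hq⟩
  · rw [e, card_top] at hQcard
    rw [hQcard] at hpG
    exact hpq ((Nat.prime_dvd_prime_iff_eq hp hq).1 hpG)
  · rw [eq_bot_iff_forall]
    rintro a ⟨ha1, ha2⟩
    by_contra hane
    apply hg
    apply hNQ
    have hgen : ∀ c ∈ (Q : Subgroup G), c ∈ zpowers a := fun c hc => by
      have e := eq_of_le_of_card_ge (zpowers_le.2 ha1)
        (by rw [hQcard, Nat.card_zpowers, hQord a ha1 hane])
      rw [e]; exact hc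
    have hle : (Q : Subgroup G) ≤ MulAut.conj g • (Q : Subgroup G) := fun c hc =>
      zpowers_le.2 ha2 (hgen c hc)
    have heq := eq_of_le_of_card_ge hle
      (by rw [Coprime.card_conj_smul])
    rw [mem_normalizer_iff]
    intro c
    constructor
    · intro hc
      have := Subgroup.smul_mem_pointwise_smul c (MulAut.conj g) (Q : Subgroup G) hc
      rw [← heq] at this
      exact this
    · intro hc
      have hc' : g * c * g⁻¹ ∈ MulAut.conj g • (Q : Subgroup G) := heq ▸ hc
      rw [Coprime.mem_conj_smul_iff] at hc'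
      rwa [show g⁻¹ * (g * c * g⁻¹) * g = c by group] at hc'

/-- Two primes: no other element orders. -/
theorem orders {u v : ℕ} (h : Two G u v) (_huv : u ≠ v) {p q : ℕ} (hp : p.Prime) (hq : q.Prime)
    (hp2 : p ≠ 2) (hq2 : q ≠ 2) (hpq : p ≠ q) (hpG : p ∣ Nat.card G) (hqG : q ∣ Nat.card G)
    (honly : ∀ r : ℕ, r.Prime → r ∣ Nat.card G → r = p ∨ r = q)
    (hpu : num G p = u) (hqv : num G q = v) (g : G) :
    orderOf g = 1 ∨ orderOf g = p ∨ orderOf g = q := by
  have hno : num G (p * q) = 0 := by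
    rcases h (p * q) (lt_mul_primes hp hq) with e | e | e
    · exact e
    · exact absurd (by rw [mul_comm, e, hpu] : num G (q * p) = num G p)
        (num_pair_ne hq hp hq2 hp2 hpq.symm hqG hpG)
    · exact absurd (e.trans hqv.symm) (num_pair_ne hp hq hp2 hq2 hpq hpG hqG)
  have hps := num_sq h hp hq hq2 hpq hqG hpu hqv
  have hqs := num_sq h.symm hq hp hp2 hpq.symm hpG hqv hpu
  have hsq : ∀ r : ℕ, num G r = 0 → ¬ r ∣ orderOf g := by
    intro r hr hd
    obtain ⟨c, hc⟩ := hd
    refine num_ne_zero_iff.2 ⟨g ^ c, ?_⟩ hr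
    have hc0 : 0 < c := by
      rcases Nat.eq_zero_or_pos c with rfl | hh
      · exact absurd (by rw [hc, mul_zero]) (orderOf_pos g).ne'
      · exact hh
    rw [orderOf_pow, hc, Nat.gcd_eq_right (dvd_mul_left c r), Nat.mul_div_cancel _ hc0]
  obtain ⟨a, b, hab⟩ := exists_pow_mul_pow (orderOf_pos g).ne' hp
    fun r hr hrd => honly r hr (hrd.trans (orderOf_dvd_natCard g))
  have ha : a ≤ 1 := by
    by_contra ha
    exact hsq _ hps (hab ▸ (pow_dvd_pow p (show 2 ≤ a by omega)).mul_right _)
  have hb : b ≤ 1 := by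
    by_contra hb
    exact hsq _ hqs (hab ▸ (pow_dvd_pow q (show 2 ≤ b by omega)).mul_left _)
  rcases (by omega : a = 0 ∨ a = 1) with rfl | rfl <;> rcases (by omega : b = 0 ∨ b = 1) with rfl | rfl
  · exact Or.inl (by rw [hab]; simp)
  · exact Or.inr (Or.inr (by rw [hab]; simp))
  · exact Or.inr (Or.inl (by rw [hab]; simp))
  · exact absurd (by rw [hab]; simp) (hsq _ hno)

/-- Let G be a finite group of odd order in which the numbers of elements of each order that occurs (the numbers #{g : o(g) = m}, m ranging over the element orders of G) take exactly three different values. Then the order of G has at most two prime divisors; and if it has exactly two, then every Sylow subgroup of G for a prime dividing its order has prime exponent, G is a Frobenius group, and some Frobenius complement of G has prime order. -/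
theorem result {G : Type*} [Group G] [Finite G] (hodd : Odd (Nat.card G)) (h : (((fun m : ℕ => Nat.card {g : G // orderOf g = m}) '' Set.range (orderOf : G → ℕ))).ncard = 3) :
    (Nat.card G).primeFactors.card ≤ 2 ∧
      ((Nat.card G).primeFactors.card = 2 →
        (∀ (p : ℕ) [Fact p.Prime] (P : Sylow p G), p ∣ Nat.card G → Monoid.exponent ↥(P : Subgroup G) = p) ∧
        ∃ C : Subgroup G, Cfsg.IsFrobeniusComplement C ∧ (Nat.card ↥C).Prime) := by
  classical
  have h' : (((fun m : ℕ => num G m) '' Set.range (orderOf : G → ℕ))).ncard = 3 := h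
  have hne2 : ∀ r : ℕ, r ∣ Nat.card G → r ≠ 2 := fun r hr e =>
    Nat.not_even_iff_odd.2 hodd (even_iff_two_dvd.2 (e ▸ hr))
  refine ⟨?_, fun h2 => ?_⟩
  · by_contra hc
    obtain ⟨p, q, r, hp, hq, hr, hpq, hpr, hqr⟩ := Finset.two_lt_card_iff.1 (not_le.1 hc)
    rw [Nat.mem_primeFactors] at hp hq hr
    exact not_three_odd h' hp.1 hq.1 hr.1 (hne2 _ hp.2.1) (hne2 _ hq.2.1) (hne2 _ hr.2.1) hpq hpr
      hqr hp.2.1 hq.2.1 hr.2.1
  obtain ⟨p, q, hpq, hpf⟩ := Finset.card_eq_two.1 h2
  have hp' : p ∈ (Nat.card G).primeFactors := by rw [hpf]; exact Finset.mem_insert_self p {q}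
  have hq' : q ∈ (Nat.card G).primeFactors := by
    rw [hpf]; exact Finset.mem_insert_of_mem (Finset.mem_singleton_self q)
  rw [Nat.mem_primeFactors] at hp' hq'
  have honly : ∀ r : ℕ, r.Prime → r ∣ Nat.card G → r = p ∨ r = q := fun r hr hrG => by
    have : r ∈ (Nat.card G).primeFactors := Nat.mem_primeFactors.2 ⟨hr, hrG, Nat.card_pos.ne'⟩
    rw [hpf] at this
    simpa using this
  have hp2 := hne2 p hp'.2.1
  have hq2 := hne2 q hq'.2.1
  obtain ⟨u, v, huv, htwo, -, hu1, hv1⟩ := exists_two h'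
  have hord : ∀ g : G, orderOf g = 1 ∨ orderOf g = p ∨ orderOf g = q := by
    intro g
    rcases htwo.prime hp'.1 hp2 hp'.2.1 with ep | ep <;>
      rcases htwo.prime hq'.1 hq2 hq'.2.1 with eq | eq
    · exact (not_same_two htwo hu1 hp'.1 hq'.1 hp2 hq2 hpq honly hp'.2.1 hq'.2.1 ep eq).elim
    · exact orders htwo huv hp'.1 hq'.1 hp2 hq2 hpq hp'.2.1 hq'.2.1 honly ep eq g
    · exact orders htwo.symm huv.symm hp'.1 hq'.1 hp2 hq2 hpq hp'.2.1 hq'.2.1 honly ep eq g
    · exact (not_same_two htwo.symm hv1 hp'.1 hq'.1 hp2 hq2 hpq honly hp'.2.1 hq'.2.1 ep eq).elim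
  constructor
  · intro r hr P hrG
    haveI : Nontrivial (P : Subgroup G) := (nontrivial_iff_ne_bot _).2 (P.ne_bot_of_dvd_card hrG)
    refine (Monoid.exponent_eq_prime_iff hr.out).2 fun g hg => ?_
    obtain ⟨k, hk⟩ := IsPGroup.iff_orderOf.1 P.2 g
    rcases hord (g : G) with e | e | e <;> rw [Subgroup.orderOf_coe] at e
    · exact absurd (orderOf_eq_one_iff.1 e) hg
    · rw [hk] at e ⊢
      have hk0 : k ≠ 0 := by rintro rfl; rw [pow_zero] at e; exact hp'.1.ne_one e.symm
      have := (Nat.Prime.pow_eq_iff hp'.1).1 e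
      rw [this.2, pow_one]
    · rw [hk] at e ⊢
      have hk0 : k ≠ 0 := by rintro rfl; rw [pow_zero] at e; exact hq'.1.ne_one e.symm
      have := (Nat.Prime.pow_eq_iff hq'.1).1 e
      rw [this.2, pow_one]
  · obtain ⟨a, b, hab⟩ := exists_pow_mul_pow Nat.card_pos.ne' hp'.1 honly
    haveI : Group.IsSolvable G := CharInt.isSolvable_of_card_eq hp'.1 hq'.1 hab
    haveI : Nontrivial G := Finite.one_lt_card_iff_nontrivial.1
      (lt_of_lt_of_le hp'.1.one_lt (Nat.le_of_dvd Nat.card_pos hp'.2.1))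
    obtain ⟨r, M, hr, hMn, hM1, hM⟩ := Coprime.exists_normal_isPGroup (G := G)
    haveI := hMn
    haveI : Fact r.Prime := ⟨hr⟩
    have hrG : r ∣ Nat.card G := by
      obtain ⟨k, hk⟩ := IsPGroup.iff_card.1 hM
      refine ((dvd_pow_self r fun e => hM1 (eq_bot_of_card_eq _ (by rw [hk, e, pow_zero]))).trans
        (hk ▸ card_subgroup_dvd_card M))
    haveI : Fact p.Prime := ⟨hp'.1⟩
    haveI : Fact q.Prime := ⟨hq'.1⟩
    rcases honly r hr hrG with rfl | rfl
    · exact exists_complement hpq hp'.2.1 hq'.2.1 hord M hM hM1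
    · exact exists_complement hpq.symm hq'.2.1 hp'.2.1
        (fun g => (hord g).imp_right Or.symm) M hM hM1

end Cfsg.Agent.S4004
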