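import Cfsg.Statements.S4005
import Cfsg.Agent.Lib.CharInt.Burnside
import Cfsg.Agent.Lib.Solvable.Basic
import Cfsg.Agent.Lib.PCore.Basic
import Cfsg.Agent.Lib.Frobenius.FixedPointFree
import Cfsg.Agent.Lib.PGroup.ElementaryAbelian

set_option autoImplicit false
open Cfsg

namespace Cfsg.Agent.S4005

open Subgroup
open scoped IsMulCommutative

/-- If all non-trivial elements have order `p` or `q` and a non-trivial abelian normal `p`-subgroup exists,
the Sylow `p`-subgroups have index `q`. -/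
theorem sylow_index {G : Type*} [Group G] [Finite G] {p q : ℕ} [Fact p.Prime] [Fact q.Prime]
    (hpq : p ≠ q) (hord : ∀ g : G, g ≠ 1 → orderOf g = p ∨ orderOf g = q) (hqG : q ∣ Nat.card G)
    (V : Subgroup G) [V.Normal] (hV1 : V ≠ ⊥) (hVc : IsMulCommutative V) (hVp : IsPGroup p V)
    (P : Sylow p G) : (P : Subgroup G).index = q := by
  have hp : p.Prime := Fact.out
  have hq : q.Prime := Fact.out
  obtain ⟨Q⟩ : Nonempty (Sylow q G) := Sylow.nonempty
  have hexp : ∀ {r : ℕ}, r.Prime → ∀ (R : Subgroup G), IsPGroup r R → ∀ x ∈ R, x ≠ 1 → orderOf x = r := by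
    intro r hr R hR x hx hx1
    have := Fact.mk hr
    obtain ⟨i, hi⟩ := IsPGroup.iff_orderOf.1 hR ⟨x, hx⟩
    rw [← Subgroup.orderOf_coe] at hi
    have hd : r ∣ orderOf x := hi ▸ dvd_pow_self r fun h0 => hx1 (orderOf_eq_one_iff.1 (hi.trans (by rw [h0, pow_zero])))
    rcases hord x hx1 with h | h
    · rw [h] at hd ⊢; exact ((Nat.prime_dvd_prime_iff_eq hr hp).1 hd).symm
    · rw [h] at hd ⊢; exact ((Nat.prime_dvd_prime_iff_eq hr hq).1 hd).symm
  have : Nontrivial V := (nontrivial_iff_ne_bot V).2 hV1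
  have hfpf : ∀ h ∈ (Q : Subgroup G), h ≠ 1 → V ⊓ centralizer ({h} : Set G) = ⊥ := by
    intro h hh h1
    rw [eq_bot_iff]
    intro w hw
    rw [mem_bot]
    by_contra hw1
    have ho := (mem_centralizer_singleton_iff.1 hw.2).symm
    have hoh := hexp hq _ Q.isPGroup' h hh h1
    have how := hexp hp _ hVp w hw.1 hw1
    have hmul : orderOf (h * w) = q * p := by
      rw [(show Commute h w from ho).orderOf_mul_eq_mul_orderOf_of_coprime
        (by rw [hoh, how]; exact (Nat.coprime_primes hq hp).2 hpq.symm), hoh, how]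
    have hne : h * w ≠ 1 := fun h0 => by
      rw [h0, orderOf_one] at hmul
      exact hq.ne_one (Nat.eq_one_of_mul_eq_one_right hmul.symm)
    have := hp.one_lt; have := hq.one_lt
    rcases hord _ hne with h' | h' <;> rw [hmul] at h' <;> nlinarith
  obtain ⟨z, hz⟩ := exists_prime_orderOf_dvd_card' (G := (Q : Subgroup G)) q (Q.dvd_card_of_dvd_card hqG)
  have hQc : Nat.card (Q : Subgroup G) = q := by
    have htop : zpowers z = ⊤ := by
      rw [eq_top_iff']
      intro x
      by_cases hx : x = 1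
      · rw [hx]; exact one_mem _
      have hxo : orderOf x = q := by
        rw [← Subgroup.orderOf_coe]
        exact hexp hq _ Q.isPGroup' x x.2 fun h => hx (Subtype.ext h)
      have h2 := Agent.Frobenius.Fpf.eq_of_card_eq_prime
        (Agent.Frobenius.Fpf.isFpf_conjHom (Q : Subgroup G) V le_normalizer_of_normal hfpf) Q.isPGroup'
        (by rw [Nat.card_zpowers, hxo] : Nat.card (zpowers x) = q)
        (by rw [Nat.card_zpowers, hz] : Nat.card (zpowers z) = q)
      exact h2 ▸ mem_zpowers x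
    rw [← card_top (G := (Q : Subgroup G)), ← htop, Nat.card_zpowers, hz]
  have hG : ∀ r, r.Prime → r ∣ Nat.card G → r = p ∨ r = q := by
    intro r hr hrG
    have := Fact.mk hr
    obtain ⟨x, hx⟩ := exists_prime_orderOf_dvd_card' r hrG
    rcases hord x (fun h => hr.ne_one (by rw [← hx, h, orderOf_one])) with h | h
    · exact Or.inl (hx.symm.trans h)
    · exact Or.inr (hx.symm.trans h)
  have hpi := P.not_dvd_index
  obtain ⟨j, hj⟩ : ∃ j, (P : Subgroup G).index = q ^ j := ⟨_, Nat.eq_prime_pow_of_unique_prime_dvd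
    FiniteIndex.index_ne_zero fun {d} hd hdd =>
      (hG d hd (hdd.trans (index_dvd_card _))).resolve_left fun h => hpi (h ▸ hdd)⟩
  have hdvd : (P : Subgroup G).index ∣ q := by
    rw [← hQc, hj]
    exact Q.pow_dvd_card_of_pow_dvd_card (hj ▸ index_dvd_card _)
  rcases (Nat.dvd_prime hq).1 hdvd with h | h
  · exfalso
    have := Nat.card_congr (Equiv.refl G)
    rw [index_eq_one] at h
    have hp' : IsPGroup p G := (h ▸ P.isPGroup' : IsPGroup p (⊤ : Subgroup G)).of_equiv topEquiv
    obtain ⟨i, hi⟩ := hp'.exists_card_eq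
    exact hpq ((Nat.prime_dvd_prime_iff_eq hq hp).1 (hq.dvd_of_dvd_pow (hi ▸ hqG))).symm
  · exact h

/-- A finite group whose set of element orders is exactly {1, 2, 3} has either a normal elementary abelian 3-subgroup of index 2 or a normal elementary abelian 2-subgroup of index 3. -/
theorem result {G : Type*} [Group G] [Finite G] (h : Set.range (orderOf : G → ℕ) = {k : ℕ | 1 ≤ k ∧ k ≤ 3}) :
    (∃ N : Subgroup G, N.Normal ∧ Cfsg.IsElementaryAbelian 3 N ∧ N.index = 2) ∨
      (∃ N : Subgroup G, N.Normal ∧ Cfsg.IsElementaryAbelian 2 N ∧ N.index = 3) := by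
  have h2 : Fact (Nat.Prime 2) := ⟨Nat.prime_two⟩
  have h3 : Fact (Nat.Prime 3) := ⟨Nat.prime_three⟩
  have hord : ∀ g : G, g ≠ 1 → orderOf g = 2 ∨ orderOf g = 3 := by
    intro g hg
    have h1 : orderOf g ∈ {k : ℕ | 1 ≤ k ∧ k ≤ 3} := h ▸ Set.mem_range_self g
    have h2 : orderOf g ≠ 1 := fun h' => hg (orderOf_eq_one_iff.1 h')
    have h3 : 1 ≤ orderOf g ∧ orderOf g ≤ 3 := h1
    omega
  obtain ⟨t, ht⟩ : ∃ t : G, orderOf t = 2 := h.ge ⟨by norm_num, by norm_num⟩
  obtain ⟨u, hu⟩ : ∃ u : G, orderOf u = 3 := h.ge ⟨by norm_num, le_rfl⟩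
  have h2G : 2 ∣ Nat.card G := ht ▸ orderOf_dvd_natCard t
  have h3G : 3 ∣ Nat.card G := hu ▸ orderOf_dvd_natCard u
  have hsol : Group.IsSolvable G := by
    refine Agent.CharInt.isSolvable_of_card_eq (p := 2) (q := 3) (a := (Nat.card G).factorization 2)
      (b := (Nat.card G).factorization 3) Nat.prime_two Nat.prime_three ?_
    refine Nat.eq_of_factorization_eq Nat.card_pos.ne' (by positivity) fun r => ?_
    rw [Nat.factorization_mul (by positivity) (by positivity), Nat.prime_two.factorization_pow,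
      Nat.prime_three.factorization_pow, Finsupp.add_apply, Finsupp.single_apply, Finsupp.single_apply]
    by_cases hr2 : 2 = r
    · subst hr2; simp
    by_cases hr3 : 3 = r
    · subst hr3; simp
    rw [if_neg hr2, if_neg hr3, add_zero]
    by_contra h0
    have hr : r.Prime := Nat.prime_of_mem_primeFactors (Finsupp.mem_support_iff.2 h0)
    have hrG : r ∣ Nat.card G := Nat.dvd_of_mem_primeFactors (Finsupp.mem_support_iff.2 h0)
    have := Fact.mk hr
    obtain ⟨x, hx⟩ := exists_prime_orderOf_dvd_card' r hrG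
    rcases hord x (fun h => hr.ne_one (by rw [← hx, h, orderOf_one])) with h' | h' <;> omega
  have hexp : ∀ {r : ℕ}, (r = 2 ∨ r = 3) → ∀ (R : Subgroup G), IsPGroup r R → ∀ x ∈ R, x ^ r = 1 := by
    intro r hr R hR x hx
    have hr' : r.Prime := by rcases hr with rfl | rfl <;> norm_num
    have := Fact.mk hr'
    by_cases hx1 : x = 1
    · rw [hx1, one_pow]
    obtain ⟨i, hi⟩ := IsPGroup.iff_orderOf.1 hR ⟨x, hx⟩
    rw [← Subgroup.orderOf_coe] at hi
    rcases hord x hx1 with h' | h' <;> rw [h'] at hi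
    · have : r = 2 := (Nat.prime_dvd_prime_iff_eq hr' Nat.prime_two).1 (hi ▸ dvd_pow_self r (fun h0 => by rw [h0, pow_zero] at hi; omega))
      rw [this, ← h', pow_orderOf_eq_one]
    · have : r = 3 := (Nat.prime_dvd_prime_iff_eq hr' Nat.prime_three).1 (hi ▸ dvd_pow_self r (fun h0 => by rw [h0, pow_zero] at hi; omega))
      rw [this, ← h', pow_orderOf_eq_one]
  have hno6 : ∀ x y : G, orderOf x = 2 → orderOf y = 3 → ¬ Commute x y := by
    intro x y hx hy hc
    have h6 := hc.orderOf_mul_eq_mul_orderOf_of_coprime (by rw [hx, hy]; norm_num)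
    rw [hx, hy] at h6
    rcases hord (x * y) (fun h0 => by rw [h0, orderOf_one] at h6; omega) with h' | h' <;> omega
  have : Nontrivial G := ⟨⟨t, 1, fun h0 => by rw [h0, orderOf_one] at ht; omega⟩⟩
  obtain ⟨V, r, hVn, -, hV1, -, hVc, hr, hVr⟩ :=
    Agent.Solvable.exists_abelian_minimal_normal (K := (⊤ : Subgroup G)) inferInstance top_ne_bot
  have := Fact.mk hr
  obtain ⟨v, hv⟩ := exists_prime_orderOf_dvd_card' (G := V) r (by
    obtain ⟨e, he⟩ := hVr.exists_card_eq
    rw [he]
    exact dvd_pow_self r fun h0 => hV1 (card_eq_one.1 (he.trans (by rw [h0, pow_zero]))))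
  rw [← Subgroup.orderOf_coe] at hv
  rcases hord v (fun h0 => hr.ne_one (by rw [← hv, h0, orderOf_one])) with h' | h' <;>
    rw [h'] at hv <;> subst hv
  · right
    obtain ⟨P⟩ : Nonempty (Sylow 2 G) := Sylow.nonempty
    have hidx := sylow_index (p := 2) (q := 3) (by norm_num) hord h3G V hV1 hVc hVr P
    have hcomm : ∀ a ∈ (P : Subgroup G), ∀ b ∈ (P : Subgroup G), a * b = b * a := by
      intro a ha b hb
      have h1 : ∀ c ∈ (P : Subgroup G), c * c = 1 := fun c hc => by
        rw [← pow_two]; exact hexp (Or.inl rfl) _ P.isPGroup' c hc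
      have := h1 _ (mul_mem ha hb)
      calc a * b = a * ((a * b) * (a * b)) * b := by rw [this, mul_one]
        _ = (a * a) * b * a * (b * b) := by group
        _ = b * a := by rw [h1 a ha, h1 b hb, one_mul, mul_one]
    set O := pCore 2 G with hO
    have : O.Normal := pCore_normal 2 G
    have hOp : IsPGroup 2 O := Agent.PCore.isPGroup_pCore
    have hOP : O ≤ P := hOp.le_sylow_of_normal P
    have hO1 : O ≠ ⊥ := fun h0 => hV1 (le_bot_iff.1 (h0 ▸ Agent.PCore.le_pCore hVr))
    have hCp : IsPGroup 2 (centralizer (O : Set G)) := by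
      refine IsPGroup.iff_orderOf.2 fun y => ?_
      by_cases hy : (y : G) = 1
      · exact ⟨0, by rw [← Subgroup.orderOf_coe, hy, orderOf_one, pow_zero]⟩
      rcases hord y hy with h'' | h''
      · exact ⟨1, by rw [← Subgroup.orderOf_coe, h'', pow_one]⟩
      · exfalso
        obtain ⟨z, hz, hz1⟩ := (Subgroup.ne_bot_iff_exists_ne_one.1 hO1 |> fun ⟨z, hz⟩ =>
          (⟨z.1, z.2, fun h0 => hz (Subtype.ext h0)⟩ : ∃ z : G, z ∈ O ∧ z ≠ 1))
        have hz2 : orderOf z = 2 := orderOf_eq_prime (hexp (Or.inl rfl) _ hOp z hz) hz1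
        exact hno6 z y hz2 h'' (mem_centralizer_iff.1 y.2 z hz)
    have hPO : (P : Subgroup G) ≤ O := fun a ha => Agent.PCore.le_pCore hCp
      (mem_centralizer_iff.2 fun b hb => hcomm b (hOP hb) a ha)
    refine ⟨P, ?_, Agent.PGroup.isElementaryAbelian_of_forall hcomm (hexp (Or.inl rfl) _ P.isPGroup'), hidx⟩
    rw [le_antisymm hPO hOP]
    infer_instance
  · left
    obtain ⟨P⟩ : Nonempty (Sylow 3 G) := Sylow.nonempty
    have hidx := sylow_index (p := 3) (q := 2) (by norm_num) (fun g hg => (hord g hg).symm) h2G V hV1 hVc hVr P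
    have hPn : (P : Subgroup G).Normal := normal_of_index_eq_two hidx
    refine ⟨P, hPn, Agent.PGroup.isElementaryAbelian_of_forall ?_ (hexp (Or.inr rfl) _ P.isPGroup'), hidx⟩
    set φ := ((MulAut.conjNormal t : MulAut (P : Subgroup G))).toMonoidHom
    have hfp : MonoidHom.FixedPointFree φ := by
      intro x hx
      by_contra hx1
      have hx' : t * (x : G) * t⁻¹ = x := congrArg Subtype.val hx
      exact hno6 t x ht (orderOf_eq_prime (hexp (Or.inr rfl) _ P.isPGroup' x x.2) fun h0 => hx1 (Subtype.ext h0))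
        (mul_inv_eq_iff_eq_mul.1 hx')
    have hinv : Function.Involutive φ := fun x => Subtype.ext (by
      have h1 : t * t = 1 := by rw [← pow_two, ← ht, pow_orderOf_eq_one]
      show t * (t * (x : G) * t⁻¹) * t⁻¹ = x
      rw [show t * (t * (x : G) * t⁻¹) * t⁻¹ = (t * t) * x * (t * t)⁻¹ by group, h1]
      group)
    exact fun a ha b hb => congrArg Subtype.val
      (hfp.commute_all_of_involutive hinv ⟨a, ha⟩ ⟨b, hb⟩).eq

end Cfsg.Agent.S4005
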