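import Cfsg.Statements.S4006
import Cfsg.Agent.Lib.Spectrum1234.FpfThree
import Cfsg.Agent.Lib.CharInt.Burnside
import Cfsg.Agent.Lib.PCore.Basic
import Cfsg.Agent.Lib.PCore.PSolvable
import Cfsg.Agent.Lib.PGroup.UniqueOrderP
import Cfsg.Agent.Lib.Frobenius.FixedPointFree
import Mathlib.GroupTheory.FixedPointFree
import Cfsg.Agent.Lib.Coprime.Basic
-- import your own Cfsg.Agent.* helpers here

set_option autoImplicit false
open Cfsg

namespace Cfsg.Agent.S4006

open Subgroup
open scoped commutatorElement IsMulCommutative Pointwise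

universe u

/-- A nonabelian-type group of order `6` given by generators is `S₃`. -/
theorem equiv_perm_three {H : Type u} [Group H] [Finite H] (hcard : Nat.card H = 6) {σ s : H}
    (hσ : orderOf σ = 3) (hs : orderOf s = 2) (hconj : s * σ * s⁻¹ = σ⁻¹) :
    Nonempty (H ≃* Equiv.Perm (Fin 3)) := by
  classical
  haveI : Fact (Nat.Prime 2) := ⟨Nat.prime_two⟩
  set T := zpowers s
  have hT : Nat.card T = 2 := by rw [Nat.card_zpowers, hs]
  have hidx : T.index = 3 := by
    have := T.card_mul_index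
    rw [hT, hcard] at this
    omega
  have hσT : σ ∉ T := fun h => by
    have := orderOf_dvd_natCard _ h
    rw [hσ, hT] at this
    omega
  have hker : (MulAction.toPermHom H (H ⧸ T)).ker = ⊥ := by
    rw [← Subgroup.normalCore_eq_ker]
    by_contra hne
    have hle := normalCore_le T
    have heq : T.normalCore = T := by
      refine eq_of_le_of_card_ge hle ?_
      rw [hT]
      exact (Subgroup.one_lt_card_iff_ne_bot _).2 hne
    haveI : T.Normal := heq ▸ normalCore_normal T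
    have h1 : σ * s * σ⁻¹ ∈ T := Normal.conj_mem inferInstance s (mem_zpowers s) σ
    have h2 : (σ * s * σ⁻¹) * s⁻¹ ∈ T := mul_mem h1 (inv_mem (mem_zpowers s))
    have h3 : σ * s * σ⁻¹ * s⁻¹ = σ * (s * σ * s⁻¹)⁻¹ := by group
    rw [h3, hconj, inv_inv] at h2
    have h4 : orderOf (σ * σ) ∣ 2 := hT ▸ orderOf_dvd_natCard _ h2
    have h5 : (σ * σ) ^ 2 = 1 := orderOf_dvd_iff_pow_eq_one.1 h4
    have h6 : σ ^ 4 = 1 := by rw [← h5, ← pow_two, ← pow_mul]
    have h7 := orderOf_dvd_of_pow_eq_one h6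
    rw [hσ] at h7
    omega
  have hinj : Function.Injective (MulAction.toPermHom H (H ⧸ T)) := (MonoidHom.ker_eq_bot_iff _).1 hker
  have hc : Nat.card (Equiv.Perm (H ⧸ T)) = 6 := by
    rw [Nat.card_perm, ← Subgroup.index_eq_card, hidx]; rfl
  have hbij : Function.Bijective (MulAction.toPermHom H (H ⧸ T)) :=
    ((Nat.bijective_iff_injective_and_card _).2 ⟨hinj, hcard.trans hc.symm⟩)
  exact ⟨(MulEquiv.ofBijective _ hbij).trans
    (Finite.equivFinOfCardEq (by rw [← Subgroup.index_eq_card, hidx])).permCongrHom⟩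

variable {G : Type u} [Group G] [Finite G]

/-- The hypothesis on element orders. -/
def Spec4 (G : Type u) [Group G] : Prop :=
  (∀ g : G, orderOf g = 1 ∨ orderOf g = 2 ∨ orderOf g = 3 ∨ orderOf g = 4) ∧
    (∃ g : G, orderOf g = 3) ∧ ∃ g : G, orderOf g = 4

theorem no_commuting (h : Spec4 G) {a b : G} (hab : Commute a b) (ha : orderOf a = 3)
    (hb : orderOf b = 2 ∨ orderOf b = 4) : False := by
  have hc : Nat.Coprime (orderOf a) (orderOf b) := by
    rcases hb with e | e <;> rw [ha, e] <;> norm_num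
  have := hab.orderOf_mul_eq_mul_orderOf_of_coprime hc
  rcases h.1 (a * b) with e | e | e | e <;> rcases hb with e' | e' <;> rw [e, ha, e'] at this <;> omega

theorem eq_one_of_commute_three_two (h : Spec4 G) {a b : G} (hab : Commute a b) (ha : a ^ 3 = 1)
    (ha1 : a ≠ 1) {k : ℕ} (hb : b ^ 2 ^ k = 1) : b = 1 := by
  haveI : Fact (Nat.Prime 3) := ⟨Nat.prime_three⟩
  have h3 := orderOf_eq_prime ha ha1
  have h2 := orderOf_dvd_of_pow_eq_one hb
  rcases h.1 b with e | e | e | e
  · exact orderOf_eq_one_iff.1 e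
  · exact (no_commuting h hab h3 (Or.inl e)).elim
  · rw [e] at h2
    exact absurd (Nat.prime_three.dvd_of_dvd_pow h2) (by norm_num)
  · exact (no_commuting h hab h3 (Or.inr e)).elim

/-- An element of order `6` in a quotient lifts. -/
theorem no_six_quotient (h : Spec4 G) (N : Subgroup G) [N.Normal] {a b : G ⧸ N} (hab : Commute a b)
    (ha : orderOf a = 3) (hb : orderOf b = 2) : False := by
  have hc : Nat.Coprime (orderOf a) (orderOf b) := by rw [ha, hb]; norm_num
  have h6 := hab.orderOf_mul_eq_mul_orderOf_of_coprime hc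
  rw [ha, hb] at h6
  obtain ⟨g, hg⟩ := QuotientGroup.mk'_surjective N (a * b)
  have h7 : 6 ∣ orderOf g := by
    rw [← hg] at h6
    have h8 := orderOf_map_dvd (QuotientGroup.mk' N) g
    rwa [h6] at h8
  rcases h.1 g with e | e | e | e <;> rw [e] at h7 <;> omega

theorem isSolvable (h : Spec4 G) : Group.IsSolvable G ∧ ∀ r : ℕ, r.Prime → r ∣ Nat.card G → r = 2 ∨ r = 3 := by
  have key : ∀ r : ℕ, r.Prime → r ∣ Nat.card G → r = 2 ∨ r = 3 := by
    intro r hr hd
    haveI : Fact r.Prime := ⟨hr⟩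
    obtain ⟨x, hx⟩ := exists_prime_orderOf_dvd_card' r hd
    rcases h.1 x with e | e | e | e <;> rw [hx] at e
    · exact absurd e hr.ne_one
    · exact Or.inl e
    · exact Or.inr e
    · exact absurd (e ▸ hr) (by norm_num)
  refine ⟨CharInt.isSolvable_of_card_eq (p := 2) (q := 3) (a := (Nat.card G).factorization 2)
    (b := (Nat.card G).factorization 3) Nat.prime_two Nat.prime_three ?_, key⟩
  refine Nat.eq_of_factorization_eq Nat.card_pos.ne' (by positivity) fun r => ?_
  rw [Nat.factorization_mul (by positivity) (by positivity), Finsupp.add_apply,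
    Nat.prime_two.factorization_pow, Nat.prime_three.factorization_pow]
  by_cases hr2 : r = 2
  · subst hr2; simp
  by_cases hr3 : r = 3
  · subst hr3; simp
  simp only [Finsupp.single_eq_of_ne hr2, Finsupp.single_eq_of_ne hr3, add_zero]
  by_cases hr : r.Prime
  · refine Nat.factorization_eq_zero_of_not_dvd fun hd => ?_
    rcases key r hr hd with e | e
    · exact hr2 e
    · exact hr3 e
  · exact Nat.factorization_eq_zero_of_not_prime _ hr

theorem pow_two_pow_of_isPGroup {H : Subgroup G} (hH : IsPGroup 2 H) {x : G} (hx : x ∈ H) :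
    ∃ k : ℕ, x ^ 2 ^ k = 1 := by
  obtain ⟨k, hk⟩ := hH ⟨x, hx⟩
  exact ⟨k, congrArg Subtype.val hk⟩

theorem pow_three_of_isPGroup (h : Spec4 G) {H : Subgroup G} (hH : IsPGroup 3 H) {x : G} (hx : x ∈ H) :
    x ^ 3 = 1 := by
  obtain ⟨k, hk⟩ := hH ⟨x, hx⟩
  have h1 := orderOf_dvd_of_pow_eq_one (congrArg Subtype.val hk : x ^ 3 ^ k = 1)
  rcases h.1 x with e | e | e | e
  · rw [orderOf_eq_one_iff.1 e, one_pow]
  · rw [e] at h1; exact absurd (Nat.prime_two.dvd_of_dvd_pow h1) (by norm_num)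
  · rw [← e]; exact pow_orderOf_eq_one x
  · rw [e] at h1
    exact absurd (Nat.prime_two.dvd_of_dvd_pow ((show 2 ∣ 4 by norm_num).trans h1)) (by norm_num)

theorem isPGroup_of_forall_not_dvd {H : Type*} [Group H] [Finite H] {q : ℕ} [Fact q.Prime]
    (h : ∀ r : ℕ, r.Prime → r ∣ Nat.card H → r = q) : IsPGroup q H :=
  IsPGroup.of_card (Nat.eq_prime_pow_of_unique_prime_dvd Nat.card_pos.ne' fun {r} hr hd => h r hr hd)

/-- The case of a nontrivial normal `3`-subgroup, the largest one. -/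
theorem three_case (h : Spec4 G) (hne : Cfsg.pCore 3 G ≠ ⊥) :
    Cfsg.IsElementaryAbelian 3 (Cfsg.pCore 3 G) ∧
      ((IsCyclic (G ⧸ Cfsg.pCore 3 G) ∧ (Cfsg.pCore 3 G).index = 4) ∨
        Nonempty (G ⧸ Cfsg.pCore 3 G ≃* QuaternionGroup 2)) := by
  classical
  haveI : Fact (Nat.Prime 2) := ⟨Nat.prime_two⟩
  haveI : Fact (Nat.Prime 3) := ⟨Nat.prime_three⟩
  set N := Cfsg.pCore 3 G with hN
  have hNp : IsPGroup 3 N := PCore.isPGroup_pCore
  have hN3 : ∀ x ∈ N, x ^ 3 = 1 := fun x hx => pow_three_of_isPGroup h hNp hx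
  have hNn : ∀ x ∈ N, ∀ g : G, g * x * g⁻¹ ∈ N := fun x hx g => Normal.conj_mem inferInstance x hx g
  obtain ⟨a, haN, ha1⟩ := N.bot_or_exists_ne_one.resolve_left hne
  -- an involution inverts `N`
  have hinv : ∀ t : G, orderOf t = 2 → ∀ x ∈ N, t * x * t⁻¹ = x⁻¹ := by
    intro t ht x hx
    have htt : t * t = 1 := by rw [← pow_two, ← ht, pow_orderOf_eq_one]
    let φ : N →* N :=
      { toFun := fun y => ⟨t * y * t⁻¹, hNn y y.2 t⟩
        map_one' := Subtype.ext (by simp)
        map_mul' := fun u v => Subtype.ext (by simp [mul_assoc]) }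
    have hff : MonoidHom.FixedPointFree φ := fun y hy => by
      by_contra hy1
      have hc : Commute (y : G) t :=
        (mul_inv_eq_iff_eq_mul.1 (congrArg Subtype.val hy : t * (y : G) * t⁻¹ = y)).symm
      exact no_commuting h hc
        (orderOf_eq_prime (hN3 _ y.2) fun e => hy1 (Subtype.ext e)) (Or.inl ht)
    have hinvol : Function.Involutive φ := fun y => Subtype.ext (by
      show t * (t * y * t⁻¹) * t⁻¹ = (y : G)
      calc t * (t * y * t⁻¹) * t⁻¹ = (t * t) * y * (t * t)⁻¹ := by group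
        _ = y := by rw [htt, one_mul, inv_one, mul_one])
    exact congrArg Subtype.val (congrFun (hff.coe_eq_inv_of_involutive hinvol) ⟨x, hx⟩)
  obtain ⟨g4, hg4⟩ := h.2.2
  set t := g4 * g4 with ht'
  have ht : orderOf t = 2 := by
    rw [ht', ← pow_two, orderOf_pow' _ (by norm_num), hg4]; norm_num
  have ht1 : t * t = 1 := by rw [← pow_two, ← ht, pow_orderOf_eq_one]
  have hcomm : ∀ x ∈ N, ∀ y ∈ N, x * y = y * x := by
    intro x hx y hy
    have h1 := hinv t ht (x * y) (mul_mem hx hy)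
    rw [show t * (x * y) * t⁻¹ = t * x * t⁻¹ * (t * y * t⁻¹) by group, hinv t ht x hx,
      hinv t ht y hy, mul_inv_rev] at h1
    have h2 := congrArg (·⁻¹) h1
    simpa using h2.symm
  refine ⟨⟨⟨⟨fun x y => Subtype.ext (hcomm x x.2 y y.2)⟩⟩, hN3⟩, ?_⟩
  -- `C(N)` lies in `N`
  have hCN : centralizer (N : Set G) ≤ N := by
    refine PCore.le_pCore (isPGroup_of_forall_not_dvd fun r hr hd => ?_)
    rcases (isSolvable h).2 r hr (hd.trans (card_subgroup_dvd_card _)) with e | e
    · subst e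
      obtain ⟨⟨z, hz⟩, hzo⟩ := exists_prime_orderOf_dvd_card' (G := centralizer (N : Set G)) 2 hd
      rw [Subgroup.orderOf_mk] at hzo
      exact absurd (no_commuting h (mem_centralizer_iff.1 hz a haN)
        (orderOf_eq_prime (hN3 a haN) ha1) (Or.inl hzo)) id
    · exact e
  set C := centralizer ({t} : Set G)
  have hfac : ∀ g : G, ∃ n ∈ N, n * g ∈ C := by
    intro g
    set d := g * t * g⁻¹ * t⁻¹
    have hd : d ∈ N := by
      refine hCN (mem_centralizer_iff.2 fun y hy => ?_)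
      have h1 : t⁻¹ * y * t = y⁻¹ := by
        have := hinv t ht y hy
        rwa [inv_eq_of_mul_eq_one_right ht1] at this ⊢
      have h2 : g * t * g⁻¹ * y⁻¹ * (g * t * g⁻¹)⁻¹ = y :=  by
        have ho : orderOf (g * t * g⁻¹) = 2 := by
          rw [← ht, ← MulAut.conj_apply]; exact MulEquiv.orderOf_eq _ t
        rw [hinv _ ho _ (inv_mem hy), inv_inv]
      have h3 : d * y * d⁻¹ = y := by
        calc d * y * d⁻¹ = g * t * g⁻¹ * (t⁻¹ * y * t) * (g * t * g⁻¹)⁻¹ := by simp [d, mul_assoc]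
          _ = y := by rw [h1, h2]
      exact (mul_inv_eq_iff_eq_mul.1 h3).symm
    refine ⟨d, hd, mem_centralizer_singleton_iff.2 ?_⟩
    -- `d` conjugates `g t g⁻¹` to `t`
    have hdd : t * d * t⁻¹ = d⁻¹ := hinv t ht d hd
    have h3 : d ^ 3 = 1 := hN3 d hd
    have h4 : d * (d * t) * d⁻¹ = t := by
      calc d * (d * t) * d⁻¹ = d * d * (t * d⁻¹ * t⁻¹) * t := by group
        _ = d * d * d * t := by
          rw [show t * d⁻¹ * t⁻¹ = (t * d * t⁻¹)⁻¹ by group, hdd, inv_inv]
        _ = t := by rw [← pow_three', h3, one_mul]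
    calc d * g * t = d * (d * t) * d⁻¹ * (d * g) := by simp only [d]; group
      _ = t * (d * g) := by rw [h4]
  have hC3 : ∀ c ∈ C, c ^ 3 = 1 → c = 1 := fun c hc hc3 => by
    by_contra hc1
    exact no_commuting h (mem_centralizer_singleton_iff.1 hc) (orderOf_eq_prime hc3 hc1) (Or.inl ht)
  set f := (QuotientGroup.mk' N).comp C.subtype with hf
  have hfsurj : Function.Surjective f := by
    intro x
    obtain ⟨g, rfl⟩ := QuotientGroup.mk'_surjective N x
    obtain ⟨n, hn, hng⟩ := hfac g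
    refine ⟨⟨n * g, hng⟩, ?_⟩
    show QuotientGroup.mk' N (n * g) = _
    rw [map_mul, show QuotientGroup.mk' N n = 1 from (QuotientGroup.eq_one_iff n).2 hn, one_mul]
  have hfinj : Function.Injective f := by
    rw [← MonoidHom.ker_eq_bot_iff, Subgroup.eq_bot_iff_forall]
    intro c hc
    exact Subtype.ext (hC3 c c.2 (hN3 _ ((QuotientGroup.eq_one_iff (c : G)).1 hc)))
  have hCp : IsPGroup 2 C := isPGroup_of_forall_not_dvd fun r hr hd => by
    rcases (isSolvable h).2 r hr (hd.trans (card_subgroup_dvd_card _)) with e | e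
    · exact e
    · subst e
      obtain ⟨⟨z, hz⟩, hzo⟩ := exists_prime_orderOf_dvd_card' (G := C) 3 hd
      rw [Subgroup.orderOf_mk] at hzo
      exact absurd (hC3 z hz (by rw [← hzo, pow_orderOf_eq_one])) fun e => by
        rw [e, orderOf_one] at hzo; omega
  have huniq : ∀ H K : Subgroup C, Nat.card H = 2 → Nat.card K = 2 → H = K := by
    have key : ∀ i j : C, orderOf i = 2 → orderOf j = 2 → i = j := by
      intro i j hi hj
      rw [← Subgroup.orderOf_coe] at hi hj
      have h1 : ((i * j : C) : G) * a = a * ((i * j : C) : G) := by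
        have e1 := hinv _ hi a⁻¹ (inv_mem haN)
        have e2 := hinv _ hj a haN
        rw [inv_inv] at e1
        rw [Subgroup.coe_mul]
        calc (i : G) * j * a = (i : G) * ((j : G) * a * (j : G)⁻¹) * j := by group
          _ = ((i : G) * a⁻¹ * (i : G)⁻¹) * ((i : G) * j) := by rw [e2]; group
          _ = a * ((i : G) * j) := by rw [e1]
      obtain ⟨k, hk⟩ := pow_two_pow_of_isPGroup hCp (i * j : C).2
      have h2 := eq_one_of_commute_three_two h (Commute.symm h1) (hN3 a haN) ha1 hk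
      have h3 : i * j = 1 := Subtype.ext h2
      rw [eq_inv_of_mul_eq_one_left h3]
      refine inv_eq_of_mul_eq_one_right (Subtype.ext ?_)
      rw [Subgroup.coe_mul, Subgroup.coe_one, ← pow_two, ← hj, pow_orderOf_eq_one]
    intro H K hH hK
    obtain ⟨i, hi⟩ := exists_prime_orderOf_dvd_card' (G := H) 2 (hH ▸ dvd_rfl)
    obtain ⟨j, hj⟩ := exists_prime_orderOf_dvd_card' (G := K) 2 (hK ▸ dvd_rfl)
    rw [← Subgroup.orderOf_coe] at hi hj
    have e := key _ _ hi hj
    have hHi : H = zpowers (i : C) :=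
      (eq_of_le_of_card_ge (zpowers_le.2 i.2) (by rw [Nat.card_zpowers, hi, hH])).symm
    have hKj : K = zpowers (j : C) :=
      (eq_of_le_of_card_ge (zpowers_le.2 j.2) (by rw [Nat.card_zpowers, hj, hK])).symm
    rw [hHi, hKj, e]
  have hC4 : ∀ c : C, orderOf c ≤ 4 := fun c => by
    rw [← Subgroup.orderOf_coe]
    rcases h.1 (c : G) with e | e | e | e <;> rw [e] <;> norm_num
  let eC : C ≃* G ⧸ N := MulEquiv.ofBijective f ⟨hfinj, hfsurj⟩
  rcases PGroup.cyclic_or_quaternion_of_unique hCp huniq with hcyc | ⟨-, n, hn1, -, ⟨e⟩⟩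
  · haveI := hcyc
    refine Or.inl ⟨isCyclic_of_surjective eC.toMonoidHom eC.surjective, ?_⟩
    obtain ⟨c, hc⟩ := IsCyclic.exists_generator (α := C)
    have hcc := orderOf_eq_card_of_forall_mem_zpowers hc
    have hgC : g4 ∈ C := mem_centralizer_singleton_iff.2 (by rw [ht', mul_assoc])
    have h1 : 4 ∣ Nat.card C := by rw [← hg4]; exact orderOf_dvd_natCard _ hgC
    have h2 := hC4 c
    rw [hcc] at h2
    rw [Subgroup.index_eq_card, ← Nat.card_congr eC.toEquiv]
    exact le_antisymm h2 (Nat.le_of_dvd Nat.card_pos h1)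
  · refine Or.inr ?_
    have hn : n = 1 := by
      by_contra hn'
      haveI : NeZero (2 ^ n) := ⟨by positivity⟩
      have h1 := hC4 (e.symm (QuaternionGroup.a 1))
      rw [MulEquiv.orderOf_eq, QuaternionGroup.orderOf_a_one] at h1
      have : 2 ^ 2 ≤ 2 ^ n := Nat.pow_le_pow_right (by norm_num) (by omega)
      omega
    subst hn
    exact ⟨eC.symm.trans e⟩

/-- The case without normal `3`-subgroups. -/
theorem two_case (h : Spec4 G) (h3 : Cfsg.pCore 3 G = ⊥) :
    (IsPGroup 2 ↥(Cfsg.pCore 2 G) ∧ Monoid.exponent ↥(Cfsg.pCore 2 G) = 4 ∧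
        Group.nilpotencyClass ↥(Cfsg.pCore 2 G) ≤ 2 ∧ (Cfsg.pCore 2 G).index = 3) ∨
      (Cfsg.IsElementaryAbelian 2 (Cfsg.pCore 2 G) ∧
        Nonempty (G ⧸ Cfsg.pCore 2 G ≃* Equiv.Perm (Fin 3))) := by
  classical
  haveI : Fact (Nat.Prime 2) := ⟨Nat.prime_two⟩
  haveI : Fact (Nat.Prime 3) := ⟨Nat.prime_three⟩
  obtain ⟨hsol, hprimes⟩ := isSolvable h
  set N := Cfsg.pCore 2 G with hNdef
  have hNp : IsPGroup 2 N := PCore.isPGroup_pCore
  have pow3 : ∀ (K : Subgroup G), (∀ r : ℕ, r.Prime → r ∣ Nat.card K → r ≠ 2) → IsPGroup 3 K :=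
    fun K hK => isPGroup_of_forall_not_dvd fun r hr hd =>
      (hprimes r hr (hd.trans (card_subgroup_dvd_card _))).resolve_left (hK r hr hd)
  have hNne : N ≠ ⊥ := by
    haveI : Nontrivial G := by
      obtain ⟨g, hg⟩ := h.2.1
      exact nontrivial_of_ne g 1 fun e => by rw [e, orderOf_one] at hg; omega
    rcases PCore.pCore_ne_bot_or_pPrimeCore_ne_bot
      (PCore.isPSolvable_of_isSolvable (G := G) (p := 2)) with e | e
    · exact e
    · refine absurd (le_bot_iff.1 (h3 ▸ PCore.le_pCore (pow3 _ ?_))) e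
      intro r _ hd hr2
      subst hr2
      exact PCore.not_dvd_card_pPrimeCore hd
  obtain ⟨w, hwN, hw1⟩ := N.bot_or_exists_ne_one.resolve_left hNne
  have hfix : ∀ σ : G, orderOf σ = 3 → ∀ x ∈ N, σ * x * σ⁻¹ = x → x = 1 := by
    intro σ hσ x hx he
    obtain ⟨k, hk⟩ := pow_two_pow_of_isPGroup hNp hx
    exact eq_one_of_commute_three_two h (mul_inv_eq_iff_eq_mul.1 he) (by rw [← hσ, pow_orderOf_eq_one])
      (fun e => by rw [e, orderOf_one] at hσ; omega) hk
  -- a Sylow 3-subgroup has order 3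
  obtain ⟨R⟩ : Nonempty (Sylow 3 G) := inferInstance
  have hR : Nat.card (R : Subgroup G) = 3 := by
    haveI : Nontrivial N := (nontrivial_iff_ne_bot N).2 hNne
    haveI := hNp.center_nontrivial
    set W := (center N).map N.subtype with hW
    haveI : IsMulCommutative W := ⟨⟨fun u v => Subtype.ext (by
      obtain ⟨u', hu', hue⟩ := u.2
      obtain ⟨v', hv', hve⟩ := v.2
      show (u : G) * v = v * u
      rw [← hue, ← hve, ← map_mul, ← map_mul, mem_center_iff.1 hu' v'])⟩⟩
    haveI : Nontrivial W := (nontrivial_iff_ne_bot W).2 fun e => by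
      rw [hW, map_eq_bot_iff_of_injective _ N.subtype_injective] at e
      exact (nontrivial_iff_ne_bot _).1 ‹Nontrivial (center N)› e
    have hnorm : (R : Subgroup G) ≤ normalizer (W : Set G) := by
      rw [Subgroup.normalizer_eq_top]; exact le_top
    have hφ : Frobenius.Fpf.IsFpf (V := W) (Frobenius.Fpf.conjHom (R : Subgroup G) W hnorm) := by
      refine Frobenius.Fpf.isFpf_conjHom _ _ _ fun r hr hr1 => (Subgroup.eq_bot_iff_forall _).2 fun x hx => ?_
      refine hfix r (orderOf_eq_prime (pow_three_of_isPGroup h R.2 hr) hr1) x (map_subtype_le _ hx.1) ?_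
      rw [← mem_centralizer_singleton_iff.1 hx.2, mul_inv_cancel_right]
    obtain ⟨g3, hg3⟩ := h.2.1
    have h3R : 3 ∣ Nat.card (R : Subgroup G) := by
      rw [R.card_eq_multiplicity]
      exact dvd_pow_self 3 (Nat.Prime.factorization_pos_of_dvd Nat.prime_three Nat.card_pos.ne'
        (hg3 ▸ orderOf_dvd_natCard g3)).ne'
    haveI : Nontrivial (R : Subgroup G) := Finite.one_lt_card_iff_nontrivial.1
      (lt_of_lt_of_le (by norm_num) (Nat.le_of_dvd Nat.card_pos h3R))
    haveI := R.2.center_nontrivial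
    obtain ⟨⟨z, hz⟩, hz1⟩ := exists_ne (1 : center (R : Subgroup G))
    have hz3 : z ^ 3 = 1 := Subtype.ext (pow_three_of_isPGroup h R.2 z.2)
    have hz1' : z ≠ 1 := fun e => hz1 (Subtype.ext e)
    have hall : ∀ b, b ∈ zpowers z := fun b => Frobenius.Fpf.mem_zpowers_of_commute hφ hz3 hz1'
      (Subtype.ext (pow_three_of_isPGroup h R.2 b.2)) (mem_center_iff.1 hz b).symm
    rw [← orderOf_eq_card_of_forall_mem_zpowers hall]
    exact orderOf_eq_prime hz3 hz1'
  obtain ⟨⟨σ, hσR⟩, hσ'⟩ := exists_prime_orderOf_dvd_card' (G := (R : Subgroup G)) 3 (by rw [hR])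
  have hσ : orderOf σ = 3 := by rwa [Subgroup.orderOf_mk] at hσ'
  have hRσ : (R : Subgroup G) = zpowers σ :=
    (eq_of_le_of_card_ge (zpowers_le.2 hσR) (by rw [Nat.card_zpowers, hσ, hR])).symm
  -- the quotient
  set Q := G ⧸ N
  set π := QuotientGroup.mk' N with hπ
  have hNσ : σ ∉ N := fun e => by
    obtain ⟨k, hk⟩ := IsPGroup.iff_card.1 hNp
    have := orderOf_dvd_natCard _ e
    rw [hσ, hk] at this
    exact absurd (Nat.prime_three.dvd_of_dvd_pow this) (by norm_num)
  have hσπ : orderOf (π σ) = 3 := by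
    refine orderOf_eq_prime (by rw [← map_pow, ← hσ, pow_orderOf_eq_one, map_one]) fun e => hNσ ?_
    exact (QuotientGroup.eq_one_iff σ).1 e
  have hQ2 : Cfsg.pCore 2 Q = ⊥ := PCore.pCore_quotient_self_eq_bot
  haveI : Nontrivial Q := nontrivial_of_ne (π σ) 1 fun e => by rw [e, orderOf_one] at hσπ; omega
  haveI : Group.IsSolvable Q := inferInstance
  have hQprimes : ∀ r : ℕ, r.Prime → r ∣ Nat.card Q → r = 2 ∨ r = 3 := fun r hr hd =>
    hprimes r hr (hd.trans (Subgroup.card_quotient_dvd_card N))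
  set O := Cfsg.pPrimeCore 2 Q
  have hOne : O ≠ ⊥ :=
    (PCore.pCore_ne_bot_or_pPrimeCore_ne_bot
      (PCore.isPSolvable_of_isSolvable (G := Q) (p := 2))).resolve_left (fun e => e hQ2)
  have hO3 : IsPGroup 3 O := isPGroup_of_forall_not_dvd fun r hr hd =>
    (hQprimes r hr (hd.trans (card_subgroup_dvd_card _))).resolve_left fun e => by
      subst e; exact PCore.not_dvd_card_pPrimeCore hd
  set R' := R.mapSurjective (f := π) (QuotientGroup.mk'_surjective N)
  have hR' : (R' : Subgroup Q) = zpowers (π σ) := by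
    show (R : Subgroup G).map π = _
    rw [hRσ, MonoidHom.map_zpowers]
  have hOeq : O = zpowers (π σ) := by
    obtain ⟨S, hS⟩ := hO3.exists_le_sylow
    obtain ⟨g, hg⟩ := MulAction.exists_smul_eq Q S R'
    have hle : O ≤ zpowers (π σ) := by
      intro x hx
      rw [← hR', ← hg]
      have h1 : g⁻¹ * x * g⁻¹⁻¹ ∈ O := Normal.conj_mem inferInstance x hx g⁻¹
      exact ⟨_, hS h1, by simp [mul_assoc]⟩
    refine eq_of_le_of_card_ge hle ?_
    rw [Nat.card_zpowers, hσπ]
    obtain ⟨j, hj⟩ := IsPGroup.iff_card.1 hO3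
    rw [hj]
    refine Nat.le_self_pow (fun e => hOne (eq_bot_of_card_eq _ ?_)) 3
    rw [hj, e, pow_zero]
  have hcentQ : ∀ x : Q, x * π σ * x⁻¹ = π σ → x ∈ zpowers (π σ) := by
    intro x hx
    set C := centralizer (O : Set Q)
    have hxC : x ∈ C := by
      rw [mem_centralizer_iff]
      intro y hy
      obtain ⟨i, rfl⟩ := (hOeq ▸ hy : y ∈ zpowers (π σ))
      have hc : Commute x (π σ) := mul_inv_eq_iff_eq_mul.1 hx
      exact (hc.zpow_right i).eq.symm
    rw [← hOeq]
    refine PCore.le_pPrimeCore (N := C) ?_ hxC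
    refine Nat.Coprime.symm (Nat.prime_two.coprime_iff_not_dvd.2 fun hd => ?_)
    obtain ⟨⟨z, hz⟩, hzo⟩ := exists_prime_orderOf_dvd_card' (G := C) 2 hd
    rw [Subgroup.orderOf_mk] at hzo
    exact no_six_quotient h N (mem_centralizer_iff.1 hz (π σ) (hOeq ▸ mem_zpowers (π σ))) hσπ hzo
  have hconjQ : ∀ x : Q, x * π σ * x⁻¹ = π σ ∨ x * π σ * x⁻¹ = (π σ)⁻¹ := by
    intro x
    haveI : O.Normal := inferInstance
    have h1 : x * π σ * x⁻¹ ∈ zpowers (π σ) := hOeq ▸ Normal.conj_mem inferInstance _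
      (hOeq ▸ mem_zpowers (π σ)) x
    obtain ⟨i, hi⟩ := h1
    simp only at hi
    have h2 := zpow_mod_orderOf (π σ) i
    rw [hσπ] at h2
    have h5 : i % (3 : ℤ) = 0 ∨ i % (3 : ℤ) = 1 ∨ i % (3 : ℤ) = 2 := by omega
    rcases h5 with e | e | e <;> rw [Nat.cast_ofNat, e] at h2 <;> rw [← h2] at hi
    · exfalso
      rw [zpow_zero, eq_comm, mul_inv_eq_one, mul_eq_left] at hi
      rw [hi, orderOf_one] at hσπ
      omega
    · left; rw [← hi, zpow_one]
    · right
      rw [← hi]
      refine eq_inv_of_mul_eq_one_left ?_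
      rw [← zpow_add_one, show (2 : ℤ) + 1 = (3 : ℕ) by norm_num, zpow_natCast, ← hσπ, pow_orderOf_eq_one]
  let act : MulAut N :=
    { toFun := fun x => ⟨σ * x * σ⁻¹, Normal.conj_mem inferInstance _ x.2 σ⟩
      invFun := fun x => ⟨σ⁻¹ * x * σ, by simpa using Normal.conj_mem inferInstance _ x.2 σ⁻¹⟩
      left_inv := fun x => Subtype.ext (by simp [mul_assoc])
      right_inv := fun x => Subtype.ext (by simp [mul_assoc])
      map_mul' := fun x y => Subtype.ext (by simp [mul_assoc]) }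
  have hσ3 : σ * σ * σ = 1 := by
    have := pow_orderOf_eq_one σ
    rwa [hσ, pow_three'] at this
  have hact3 : ∀ x, act (act (act x)) = x := fun x => Subtype.ext (by
    show σ * (σ * (σ * x * σ⁻¹) * σ⁻¹) * σ⁻¹ = (x : G)
    calc σ * (σ * (σ * x * σ⁻¹) * σ⁻¹) * σ⁻¹ = σ * σ * σ * x * (σ * σ * σ)⁻¹ := by group
      _ = x := by rw [hσ3, one_mul, inv_one, mul_one])
  have hactfpf : ∀ x, act x = x → x = 1 := fun x hx =>
    Subtype.ext (hfix σ hσ x x.2 (congrArg Subtype.val hx))
  obtain ⟨hnorm3, hconjN, hcommσ⟩ := Spectrum1234.conj_commute_of_fpf_three act hact3 hactfpf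
  have hclass : ∀ x y z : N, ⁅z, ⁅x, y⁆⁆ = 1 := fun x y z => by
    have h1 := Spectrum1234.pow_three_of_conj_commute hconjN x y z
    obtain ⟨k, hk⟩ := hNp ⁅z, ⁅x, y⁆⁆
    exact orderOf_eq_one_iff.1 (Nat.eq_one_of_dvd_coprimes
      (Nat.Coprime.pow_right k (by norm_num : Nat.Coprime 3 2))
      (orderOf_dvd_of_pow_eq_one h1) (orderOf_dvd_of_pow_eq_one hk))
  have hexp : ∀ x : N, x ^ 4 = 1 := fun x => Subtype.ext (by
    rw [Subgroup.coe_pow, Subgroup.coe_one]
    obtain ⟨k, hk⟩ := pow_two_pow_of_isPGroup hNp x.2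
    rcases h.1 (x : G) with e | e | e | e
    · rw [orderOf_eq_one_iff.1 e, one_pow]
    · exact orderOf_dvd_iff_pow_eq_one.1 (by rw [e]; norm_num)
    · have h1 := orderOf_dvd_of_pow_eq_one hk
      rw [e] at h1
      exact absurd (Nat.prime_three.dvd_of_dvd_pow h1) (by norm_num)
    · rw [← e]; exact pow_orderOf_eq_one (x : G))
  by_cases hall : ∀ x : Q, x * π σ * x⁻¹ = π σ
  · left
    have hidx : N.index = 3 := by
      rw [N.index_eq_card, ← hσπ]
      exact (orderOf_eq_card_of_forall_mem_zpowers fun x => hcentQ x (hall x)).symm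
    refine ⟨hNp, ?_, ?_, hidx⟩
    · obtain ⟨g, hg⟩ := h.2.2
      have hgN : g ∈ N := by
        refine (QuotientGroup.eq_one_iff g).1 (orderOf_eq_one_iff.1 ?_)
        refine Nat.eq_one_of_dvd_coprimes (by norm_num : Nat.Coprime 4 3) (hg ▸ orderOf_map_dvd π g) ?_
        exact hidx ▸ N.index_eq_card ▸ orderOf_dvd_natCard _
      refine Nat.dvd_antisymm (Monoid.exponent_dvd_of_forall_pow_eq_one hexp) ?_
      rw [← hg, ← Subgroup.orderOf_mk g hgN]
      exact Monoid.order_dvd_exponent _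
    · haveI : Group.IsNilpotent N := hNp.isNilpotent
      refine Subgroup.upperCentralSeries_eq_top_iff_nilpotencyClass_le.1 (eq_top_iff.2 fun x _ => ?_)
      refine Subgroup.mem_upperCentralSeries_succ_iff.2 fun y => ?_
      rw [Subgroup.upperCentralSeries_one, mem_center_iff]
      exact fun z => commutatorElement_eq_one_iff_mul_comm.1 (hclass x y z)
  right
  push Not at hall
  obtain ⟨x₀, hx₀⟩ := hall
  have hidx : N.index = 6 := by
    have hN : (zpowers (π σ)).index = 2 := by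
      rw [Subgroup.index_eq_two_iff]
      refine ⟨x₀, fun b => ?_⟩
      have hnm : ∀ y, y * π σ * y⁻¹ = (π σ)⁻¹ → y ∉ zpowers (π σ) := by
        rintro y hy ⟨i, rfl⟩
        simp only at hy
        rw [(Commute.zpow_left (Commute.refl (π σ)) i).eq, mul_inv_cancel_right] at hy
        have h2 := orderOf_dvd_of_pow_eq_one (n := 2) (x := π σ) (by
          rw [pow_two]; exact mul_eq_one_iff_eq_inv.2 hy)
        rw [hσπ] at h2
        omega
      have hx₀' := (hconjQ x₀).resolve_left hx₀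
      rcases hconjQ b with hb | hb
      · refine Or.inr ⟨hcentQ b hb, hnm _ ?_⟩
        rw [show b * x₀ * π σ * (b * x₀)⁻¹ = b * (x₀ * π σ * x₀⁻¹) * b⁻¹ by group, hx₀',
          show b * (π σ)⁻¹ * b⁻¹ = (b * π σ * b⁻¹)⁻¹ by group, hb]
      · refine Or.inl ⟨hcentQ _ ?_, hnm b hb⟩
        rw [show b * x₀ * π σ * (b * x₀)⁻¹ = b * (x₀ * π σ * x₀⁻¹) * b⁻¹ by group, hx₀',
          show b * (π σ)⁻¹ * b⁻¹ = (b * π σ * b⁻¹)⁻¹ by group, hb, inv_inv]
    rw [N.index_eq_card, ← (zpowers (π σ)).card_mul_index, Nat.card_zpowers, hσπ, hN]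
  -- an involution inverting `σ`
  obtain ⟨g₀, hg₀⟩ := QuotientGroup.mk'_surjective N x₀
  set M := zpowers σ ⊔ N
  have hx₀' := (hconjQ x₀).resolve_left hx₀
  have hMpre : g₀ * σ * g₀⁻¹ ∈ M := by
    have h1 : π (g₀ * σ * g₀⁻¹) = π σ⁻¹ := by
      rw [map_mul, map_mul, map_inv, map_inv, hπ, hg₀]; exact hx₀'
    have h2 : σ * (g₀ * σ * g₀⁻¹) ∈ N := by
      refine (QuotientGroup.eq_one_iff _).1 ?_
      show π (σ * (g₀ * σ * g₀⁻¹)) = 1
      rw [map_mul, h1, map_inv, mul_inv_cancel]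
    have h3 := mul_mem (inv_mem (mem_sup_left (T := N) (mem_zpowers σ))) (mem_sup_right (S := zpowers σ) h2)
    rwa [inv_mul_cancel_left] at h3
  have hMc : Nat.card M = 3 * Nat.card N := by
    rw [Coprime.card_sup_of_le_normalizer (by rw [Subgroup.normalizer_eq_top]; exact le_top)
      (inf_eq_bot_of_coprime (by
        obtain ⟨k, hk⟩ := IsPGroup.iff_card.1 hNp
        rw [Nat.card_zpowers, hσ, hk]
        exact Nat.Coprime.pow_right k (by norm_num))), Nat.card_zpowers, hσ]
  obtain ⟨n, hnN, hn⟩ : ∃ n ∈ N, MulAut.conj n • zpowers σ = zpowers (g₀ * σ * g₀⁻¹) := by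
    refine Coprime.exists_conj_eq_of_le_sup (by rw [Subgroup.normalizer_eq_top]; exact le_top)
      (zpowers_le.2 hMpre) ?_ ?_ (Or.inl inferInstance)
    · rw [Nat.card_zpowers, Nat.card_zpowers, hσ, ← MulAut.conj_apply, MulEquiv.orderOf_eq, hσ]
    · obtain ⟨k, hk⟩ := IsPGroup.iff_card.1 hNp
      rw [Nat.card_zpowers, hσ, hk]
      exact Nat.Coprime.pow_right k (by norm_num)
  set s₀ := n⁻¹ * g₀
  have hs₀π : π s₀ = x₀ := by
    show π (n⁻¹ * g₀) = x₀
    rw [map_mul, map_inv, show π n = 1 from (QuotientGroup.eq_one_iff n).2 hnN, inv_one, one_mul, hπ, hg₀]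
  have hs₀ : s₀ * σ * s₀⁻¹ = σ⁻¹ := by
    have h1 : s₀ * σ * s₀⁻¹ ∈ zpowers σ := by
      have h2 : g₀ * σ * g₀⁻¹ ∈ MulAut.conj n • zpowers σ := hn ▸ mem_zpowers _
      obtain ⟨y, hy, hye⟩ := h2
      have hye' : n * y * n⁻¹ = g₀ * σ * g₀⁻¹ := hye
      have : s₀ * σ * s₀⁻¹ = y := by
        show n⁻¹ * g₀ * σ * (n⁻¹ * g₀)⁻¹ = y
        calc n⁻¹ * g₀ * σ * (n⁻¹ * g₀)⁻¹ = n⁻¹ * (g₀ * σ * g₀⁻¹) * n := by group
          _ = y := by rw [← hye']; group
      rw [this]; exact hy
    obtain ⟨i, hi⟩ := h1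
    simp only at hi
    have h5 : π σ ^ (i + 1) = 1 := by
      rw [zpow_add_one, ← map_zpow, hi, map_mul, map_mul, map_inv, hs₀π, hx₀', inv_mul_cancel]
    rw [← orderOf_dvd_iff_zpow_eq_one, hσπ] at h5
    have h6 : σ ^ (i + 1) = 1 := by rw [← orderOf_dvd_iff_zpow_eq_one, hσ]; exact h5
    rw [zpow_add_one, hi] at h6
    exact eq_inv_of_mul_eq_one_left h6
  have hs₀2 : s₀ ∈ normalizer ((zpowers σ : Subgroup G) : Set G) := by
    rw [mem_normalizer_iff]
    have e : ∀ i : ℤ, s₀ * σ ^ i * s₀⁻¹ = σ ^ (-i) := fun i => by rw [← conj_zpow, hs₀, inv_zpow']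
    intro y
    constructor
    · rintro ⟨i, rfl⟩; exact ⟨-i, (e i).symm⟩
    · rintro ⟨i, hi⟩
      simp only at hi
      refine ⟨-i, ?_⟩
      simp only
      have e' := e (-i)
      rw [neg_neg, hi] at e'
      exact mul_left_cancel (mul_right_cancel e')
  have hs₀sq : s₀ * s₀ = 1 := by
    have h1 : s₀ * s₀ * σ * (s₀ * s₀)⁻¹ = σ := by
      calc s₀ * s₀ * σ * (s₀ * s₀)⁻¹ = s₀ * (s₀ * σ * s₀⁻¹) * s₀⁻¹ := by group
        _ = (s₀ * σ * s₀⁻¹)⁻¹ := by
          conv_lhs => rw [hs₀]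
          group
        _ = σ := by rw [hs₀, inv_inv]
    have hc : Commute σ (s₀ * s₀) := (mul_inv_eq_iff_eq_mul.1 h1).symm
    rcases h.1 s₀ with e | e | e | e
    · rw [orderOf_eq_one_iff.1 e, one_mul]
    · rw [← pow_two, ← e, pow_orderOf_eq_one]
    · exfalso
      have hp : s₀ ^ 3 = 1 := by rw [← e, pow_orderOf_eq_one]
      have h4 : s₀ * s₀ * s₀ * σ * (s₀ * s₀ * s₀)⁻¹ = σ⁻¹ := by
        calc s₀ * s₀ * s₀ * σ * (s₀ * s₀ * s₀)⁻¹
            = s₀ * (s₀ * s₀ * σ * (s₀ * s₀)⁻¹) * s₀⁻¹ := by group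
          _ = σ⁻¹ := by rw [h1, hs₀]
      rw [← pow_three', hp, one_mul, inv_one, mul_one] at h4
      have h2 := orderOf_dvd_of_pow_eq_one (n := 2) (x := σ) (by
        rw [pow_two]; exact mul_eq_one_iff_eq_inv.2 h4)
      rw [hσ] at h2
      omega
    · exact (no_commuting h hc hσ (Or.inl (by rw [← pow_two, orderOf_pow' _ (by norm_num), e]; norm_num))).elim
  have hs₀o : orderOf s₀ = 2 := orderOf_eq_prime (by rw [pow_two]; exact hs₀sq) fun e => by
    rw [e, one_mul, inv_one, mul_one] at hs₀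
    have h2 := orderOf_dvd_of_pow_eq_one (n := 2) (x := σ) (by
      rw [pow_two]; exact mul_eq_one_iff_eq_inv.2 hs₀)
    rw [hσ] at h2
    omega
  -- the quotient is `S₃`
  have hsπ : orderOf (π s₀) = 2 := by
    refine orderOf_eq_prime (by rw [pow_two, ← map_mul, hs₀sq, map_one]) fun e => hx₀ ?_
    rw [← hs₀π, e, one_mul, inv_one, mul_one]
  refine ⟨?_, equiv_perm_three (N.index_eq_card ▸ hidx) hσπ hsπ (by rw [hs₀π]; exact hx₀')⟩
  -- the action of `s₀`
  let F : N → N := fun x => ⟨s₀ * x * s₀⁻¹, Normal.conj_mem inferInstance _ x.2 s₀⟩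
  have hFmul : ∀ x y, F (x * y) = F x * F y := fun x y => Subtype.ext (by simp [F, mul_assoc])
  have hsinv : s₀⁻¹ = s₀ := inv_eq_of_mul_eq_one_right hs₀sq
  have hT : ∀ x : N, (x * F x) * (x * F x) = 1 := by
    intro x
    apply Subtype.ext
    have h1 : ((x * F x : N) : G) = ((x : G) * s₀) * ((x : G) * s₀) := by
      show (x : G) * (s₀ * x * s₀⁻¹) = _
      rw [hsinv]; group
    rw [Subgroup.coe_mul, h1, Subgroup.coe_one]
    set y := (x : G) * s₀
    rcases h.1 y with e | e | e | e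
    · rw [orderOf_eq_one_iff.1 e]; simp
    · rw [← pow_two y, ← e, pow_orderOf_eq_one, one_mul]
    · exfalso
      have h5 := orderOf_map_dvd π y
      rw [e, map_mul, show π (x : G) = 1 from (QuotientGroup.eq_one_iff _).2 x.2, one_mul, hsπ] at h5
      omega
    · rw [show y * y * (y * y) = y ^ 4 by simp [pow_succ, mul_assoc], ← e, pow_orderOf_eq_one]
  -- squares of central elements
  have hact_apply : ∀ x : N, (act x : G) = σ * x * σ⁻¹ := fun _ => rfl
  have hswap : ∀ x : N, F (act x) = act (act (F x)) := fun x => Subtype.ext (by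
    show s₀ * (σ * x * σ⁻¹) * s₀⁻¹ = σ * (σ * (s₀ * x * s₀⁻¹) * σ⁻¹) * σ⁻¹
    have e1 : s₀ * σ = σ * σ * s₀ := by
      rw [mul_inv_eq_iff_eq_mul.1 hs₀, eq_inv_of_mul_eq_one_left hσ3]
    calc s₀ * (σ * x * σ⁻¹) * s₀⁻¹ = (s₀ * σ) * x * (s₀ * σ)⁻¹ := by group
      _ = σ * σ * s₀ * x * (σ * σ * s₀)⁻¹ := by rw [e1]
      _ = σ * (σ * (s₀ * x * s₀⁻¹) * σ⁻¹) * σ⁻¹ := by group)
  have hz2 : ∀ z : N, (∀ y, y * z = z * y) → z * z = 1 := by
    intro z hz
    have hw : (z * z) * (z * z) = 1 := by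
      have := hexp z
      rw [show z * z * (z * z) = z ^ 4 by simp [pow_succ, mul_assoc]]; exact this
    have hfixF : ∀ z : N, (∀ y, y * z = z * y) → F (z * z) = z * z := by
      intro z hz
      have h1 := hT z
      rw [show z * F z * (z * F z) = z * (F z * z) * F z by group, hz (F z),
        show z * (z * F z) * F z = (z * z) * (F z * F z) by group, ← hFmul] at h1
      rw [eq_inv_of_mul_eq_one_right h1]
      refine inv_eq_of_mul_eq_one_right ?_
      have := hexp z
      rw [show z * z * (z * z) = z ^ 4 by simp [pow_succ, mul_assoc]]; exact this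
    have h2 := hfixF (act z) (fun y => by
      obtain ⟨y, rfl⟩ := act.surjective y
      rw [← map_mul, ← map_mul, hz y])
    rw [← map_mul, hswap, hfixF z hz] at h2
    exact hactfpf _ (act.injective h2)
  have hcen : ∀ x y w : N, w * ⁅x, y⁆ = ⁅x, y⁆ * w := fun x y w =>
    commutatorElement_eq_one_iff_mul_comm.1 (hclass x y w)
  -- products `x (x^s)` commute
  have hTT : ∀ x y : N, Commute (x * F x) (y * F y) := by
    intro x y
    set z := ⁅(F x)⁻¹ * y⁻¹, (F x)⁆
    set c := ⁅y, F x⁆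
    have e : (x * y) * F (x * y) = c * ((x * F x) * (y * F y)) := by
      rw [hFmul]
      calc x * y * (F x * F y) = x * ⁅y, F x⁆ * (F x * y * F y) := by
            rw [commutatorElement_def]; group
        _ = c * ((x * F x) * (y * F y)) := by rw [hcen y (F x) x]; simp only [c, mul_assoc]
    have h1 := hT (x * y)
    rw [e] at h1
    set U := (x * F x) * (y * F y)
    have hc2 : c * c = 1 := hz2 c (fun w => hcen y (F x) w)
    rw [show c * U * (c * U) = c * (U * c) * U by group, hcen y (F x) U,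
      show c * (c * U) * U = (c * c) * (U * U) by group, hc2, one_mul] at h1
    have h5 : x * F x * (y * F y) = (x * F x * (y * F y))⁻¹ := eq_inv_of_mul_eq_one_left h1
    rwa [mul_inv_rev, inv_eq_of_mul_eq_one_right (hT x), inv_eq_of_mul_eq_one_right (hT y)] at h5
  -- `act` fixes the mixed commutators
  have hmix : ∀ x y : N, Commute (x * F x) (act (y * F y)) := by
    intro x y
    set a := x * F x
    set b := y * F y
    have hab : Commute a b := hTT x y
    have hlin : ⁅a, act b⁆ * ⁅b, act a⁆ = 1 := by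
      have h1 := (hcommσ (a * b)).eq
      rw [map_mul] at h1
      have h2 : ⁅a * b, act a * act b⁆ = 1 := commutatorElement_eq_one_iff_mul_comm.2 h1
      have exl : ∀ p q r : N, ⁅p * q, r⁆ = ⁅p, r⁆ * ⁅q, r⁆ := fun p q r => by
        calc ⁅p * q, r⁆ = p * ⁅q, r⁆ * r * p⁻¹ * r⁻¹ := by
              simp only [commutatorElement_def]; group
          _ = ⁅q, r⁆ * ⁅p, r⁆ := by rw [hcen q r p, commutatorElement_def p r]; group
          _ = ⁅p, r⁆ * ⁅q, r⁆ := (hcen q r _).symm
      have exr : ∀ p q r : N, ⁅p, q * r⁆ = ⁅p, q⁆ * ⁅p, r⁆ := fun p q r => by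
        calc ⁅p, q * r⁆ = ⁅p, q⁆ * (q * ⁅p, r⁆ * q⁻¹) := by
              simp only [commutatorElement_def]; group
          _ = ⁅p, q⁆ * ⁅p, r⁆ := by rw [hcen p r q, mul_inv_cancel_right]
      rw [exl, exr, exr, commutatorElement_eq_one_iff_mul_comm.2 (hcommσ a).eq,
        commutatorElement_eq_one_iff_mul_comm.2 (hcommσ b).eq, one_mul, mul_one] at h2
      exact h2
    have hsig : act ⁅a, act b⁆ = ⁅a, act b⁆ := by
      have h1 : act (act b) = (b * act b)⁻¹ := eq_inv_of_mul_eq_one_right (hnorm3 b)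
      rw [map_commutatorElement, h1, mul_inv_rev]
      have h2 : Commute (act a) (act b)⁻¹ := by
        refine Commute.inv_right ?_
        have := hab.eq
        show act a * act b = act b * act a
        rw [← map_mul, ← map_mul, this]
      have h3 : ⁅act a, (act b)⁻¹ * b⁻¹⁆ = ⁅act a, b⁻¹⁆ := by
        calc ⁅act a, (act b)⁻¹ * b⁻¹⁆ = ⁅act a, (act b)⁻¹⁆ * ((act b)⁻¹ * ⁅act a, b⁻¹⁆ * (act b)) := by
              simp only [commutatorElement_def]; group
          _ = ⁅act a, b⁻¹⁆ := by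
              rw [commutatorElement_eq_one_iff_mul_comm.2 h2.eq, hcen (act a) b⁻¹ (act b)⁻¹,
                one_mul, inv_mul_cancel_right]
      rw [h3, inv_eq_of_mul_eq_one_right (hT y)]
      rw [eq_inv_of_mul_eq_one_left hlin, commutatorElement_inv]
    exact commutatorElement_eq_one_iff_mul_comm.1 (hactfpf _ hsig)
  -- every element is a product
  have hdecomp : ∀ x : N, ∃ (u v z : N), (∀ y, y * z = z * y) ∧
      x = (u * F u) * act (v * F v) * z := by
    intro x
    refine ⟨act (act x), x, _, ?_, (mul_inv_cancel_left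
      (act (act x) * F (act (act x)) * act (x * F x)) x).symm⟩
    -- modulo the centre the product is `x`
    set ρ := QuotientGroup.mk' (center N)
    have hab : ∀ p q : N, ρ p * ρ q = ρ q * ρ p := fun p q => by
      rw [← map_mul, ← map_mul]
      refine QuotientGroup.eq.2 (mem_center_iff.2 fun w => ?_)
      rw [show (p * q)⁻¹ * (q * p) = ⁅q⁻¹, p⁻¹⁆ by rw [commutatorElement_def]; group]
      exact hcen _ _ w
    have hsqc : ∀ p : N, ρ p * ρ p = 1 := fun p => by
      rw [← map_mul]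
      refine (QuotientGroup.eq_one_iff _).2 (mem_center_iff.2 fun w => ?_)
      have hcw : ⁅p, w⁆ * ⁅p, w⁆ = 1 := hz2 _ (hcen p w)
      refine (commutatorElement_eq_one_iff_mul_comm.1 ?_).symm
      calc ⁅p * p, w⁆ = p * ⁅p, w⁆ * w * p⁻¹ * w⁻¹ := by simp only [commutatorElement_def]; group
        _ = ⁅p, w⁆ * ⁅p, w⁆ := by rw [hcen p w p]; simp only [commutatorElement_def]; group
        _ = 1 := hcw
    have hgoal : ρ (act (act x) * F (act (act x)) * act (x * F x)) = ρ x := by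
      have hF2 : F (act (act x)) = act (F x) := by
        rw [hswap, hswap, hact3]
      have hn := congrArg ρ (hnorm3 x)
      rw [map_mul, map_mul, map_one] at hn
      rw [hF2, map_mul act, map_mul, map_mul, map_mul]
      have h1 : ρ (act (act x)) = ρ x * ρ (act x) := by
        calc ρ (act (act x)) = (ρ x * ρ (act x))⁻¹ := eq_inv_of_mul_eq_one_right hn
          _ = ρ x * ρ (act x) := by
            rw [mul_inv_rev, inv_eq_of_mul_eq_one_right (hsqc x),
              inv_eq_of_mul_eq_one_right (hsqc (act x)), hab]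
      rw [h1, mul_assoc (ρ x * ρ (act x)), ← mul_assoc (ρ (act (F x))), hab (act (F x)) (act x),
        mul_assoc (ρ (act x)) (ρ (act (F x))), hsqc, mul_one, mul_assoc, hsqc, mul_one]
    intro w
    refine mem_center_iff.1 ?_ w
    exact QuotientGroup.eq.1 hgoal
  have hTc : ∀ u v u' v' : N, Commute ((u * F u) * act (v * F v)) ((u' * F u') * act (v' * F v')) := by
    intro u v u' v'
    have haa : Commute (act (v * F v)) (act (v' * F v')) := by
      show _ * _ = _ * _
      rw [← map_mul, ← map_mul, (hTT v v').eq]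
    exact ((hTT u u').mul_left (hmix u' v).symm).mul_right ((hmix u v').mul_left haa)
  have hNcomm : ∀ x y : N, x * y = y * x := by
    intro x y
    obtain ⟨u, v, z, hz, rfl⟩ := hdecomp x
    obtain ⟨u', v', z', hz', rfl⟩ := hdecomp y
    exact ((hTc u v u' v').mul_right (hz' _)).mul_left (hz _).symm
  refine ⟨⟨⟨fun x y => hNcomm x y⟩⟩, fun x hx => ?_⟩
  have := hz2 ⟨x, hx⟩ fun y => hNcomm y _
  rw [pow_two]
  exact congrArg Subtype.val this


/-- A finite group whose set of element orders is exactly {1, 2, 3, 4} has a normal subgroup N such that either N is a 2-group of exponent 4 and nilpotency class at most 2 with G/N of order 3, or N is an elementary abelian 2-group with G/N isomorphic to the symmetric group of degree 3, or N is an elementary abelian 3-group with G/N cyclic of order 4 or quaternion of order 8. -/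
theorem result {G : Type*} [Group G] [Finite G] (h : Set.range (orderOf : G → ℕ) = {k : ℕ | 1 ≤ k ∧ k ≤ 4}) :
    ∃ (N : Subgroup G) (_ : N.Normal),
      (IsPGroup 2 ↥N ∧ Monoid.exponent ↥N = 4 ∧ Group.nilpotencyClass ↥N ≤ 2 ∧ N.index = 3) ∨
      (Cfsg.IsElementaryAbelian 2 N ∧ Nonempty (G ⧸ N ≃* Equiv.Perm (Fin 3))) ∨
      (Cfsg.IsElementaryAbelian 3 N ∧ ((IsCyclic (G ⧸ N) ∧ N.index = 4) ∨ Nonempty (G ⧸ N ≃* QuaternionGroup 2))) := by
  have hsp : Spec4 G := by
    refine ⟨fun g => ?_, ?_, ?_⟩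
    · have : orderOf g ∈ Set.range (orderOf : G → ℕ) := ⟨g, rfl⟩
      rw [h] at this
      obtain ⟨h1, h2⟩ := this
      omega
    · exact (h ▸ (⟨by norm_num, by norm_num⟩ : 1 ≤ 3 ∧ 3 ≤ 4) : 3 ∈ Set.range (orderOf : G → ℕ))
    · exact (h ▸ (⟨by norm_num, by norm_num⟩ : 1 ≤ 4 ∧ 4 ≤ 4) : 4 ∈ Set.range (orderOf : G → ℕ))
  by_cases h3 : Cfsg.pCore 3 G = ⊥
  · refine ⟨Cfsg.pCore 2 G, inferInstance, ?_⟩
    rcases two_case hsp h3 with h1 | h1
    · exact Or.inl h1
    · exact Or.inr (Or.inl h1)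
  · exact ⟨Cfsg.pCore 3 G, inferInstance, Or.inr (Or.inr (three_case hsp h3))⟩

end Cfsg.Agent.S4006
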