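import Cfsg.Statements.S4009
import Cfsg.Agent.Lib.DerivedLength.OrderBound
-- import your own Cfsg.Agent.* helpers here

set_option autoImplicit false
open Cfsg

namespace Cfsg.Agent.S4009

/-- Let P be a finite p-group of order p^n whose derived length is exactly k + 1 (the k-th derived subgroup is nontrivial and the (k+1)-st is trivial). Then n ≥ 2^k + 2k − 2. -/
theorem result {P : Type*} [Group P] [Finite P] (p : ℕ) [Fact p.Prime] (n k : ℕ) (hcard : Nat.card P = p ^ n) (hk : derivedSeries P k ≠ ⊥) (hk' : derivedSeries P (k + 1) = ⊥) : 2 ^ k + 2 * k ≤ n + 2 := by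
  open DerivedLength.OrderBound in
  have hG : IsPGroup p P := IsPGroup.of_card hcard
  open DerivedLength.OrderBound in
  have hd : der k (⊤ : Subgroup P) ≠ ⊥ := by
    rw [← derivedSeries_zero P, der_derivedSeries, zero_add]
    exact hk
  open DerivedLength.OrderBound in
  have h := (order_bound hG k 0 ⊤ inferInstance (by rw [Subgroup.lowerCentralSeries_zero]) hd).1
  rw [Subgroup.card_top, hcard, ← pow_succ'] at h
  have h' := (Nat.pow_le_pow_iff_right (Fact.out : p.Prime).one_lt).1 h
  have h2 : 1 ≤ 2 ^ k := Nat.one_le_two_pow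
  simp only [DerivedLength.OrderBound.expo, zero_add, mul_one] at h'
  omega

end Cfsg.Agent.S4009
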