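import Cfsg.Statements.S4010
import Cfsg.Agent.Lib.DerivedLength.LinearPGroup
import Mathlib.FieldTheory.IsAlgClosed.AlgebraicClosure
import Mathlib.LinearAlgebra.Matrix.ToLin
-- import your own Cfsg.Agent.* helpers here

set_option autoImplicit false
open Cfsg

namespace Cfsg.Agent.S4010

/-- Let F be a field, n ≥ 1, and P a finite p-group (p a prime) admitting an injective homomorphism into the general linear group of degree n over F. Then the derived length of P is at most ⌊log₂ n⌋ + 1: that term of the derived series of P is trivial. -/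
theorem result {P : Type*} [Group P] [Finite P] (p : ℕ) [Fact p.Prime] (hP : IsPGroup p P) (F : Type*) [Field F] (n : ℕ) (hn : 1 ≤ n) (ρ : P →* Matrix.GeneralLinearGroup (Fin n) F) (hρ : Function.Injective ρ) : derivedSeries P (Nat.log 2 n + 1) = ⊥ := by
  let K := AlgebraicClosure F
  let φ : P →* Module.End K (Fin n → K) :=
    (((Matrix.toLinAlgEquiv' : Matrix (Fin n) (Fin n) K ≃ₐ[K] _).toAlgHom.toMonoidHom.comp
      (algebraMap F K).mapMatrix.toMonoidHom).comp (Units.coeHom _)).comp ρ
  rw [Subgroup.eq_bot_iff_forall]
  intro g hg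
  have h1 : φ g = 1 := DerivedLength.derivedSeries_acts_trivially (Nat.log 2 n) n P hP (Fin n → K)
    (by simp) (Nat.lt_pow_succ_log_self one_lt_two n) φ g hg
  apply hρ
  rw [map_one]
  apply Units.ext
  apply Matrix.map_injective (algebraMap F K).injective
  apply (Matrix.toLinAlgEquiv' : Matrix (Fin n) (Fin n) K ≃ₐ[K] _).injective
  refine h1.trans ?_
  simp

end Cfsg.Agent.S4010
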