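import Cfsg.Statements.S4013
import Cfsg.Agent.Lib.PrimeParts.Basic
import Mathlib.Tactic.Ring

set_option autoImplicit false
open Cfsg

namespace Cfsg.Agent.S4013

/-- Let G be a finite p-group (p prime) and N < M normal subgroups of G such that for some g ∈ M ∖ N the conjugacy class of g is exactly M ∖ N. Then p = 2 and N has index 2 in M. -/
theorem result {G : Type*} [Group G] [Finite G] (p : ℕ) [Fact p.Prime] (hG : IsPGroup p G) (N M : Subgroup G) [N.Normal] [M.Normal] (hNM : N < M) (g : G) (hgM : g ∈ M) (hgN : g ∉ N) (hcl : {h : G | IsConj g h} = (M : Set G) \ (N : Set G)) : p = 2 ∧ N.relIndex M = 2 := by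
  have hp : p.Prime := Fact.out
  obtain ⟨a, ha⟩ := (hG.to_subgroup N).exists_card_eq
  obtain ⟨c, hc⟩ := (hG.to_subgroup M).exists_card_eq
  obtain ⟨d, hd⟩ : ∃ d, (Subgroup.centralizer ({g} : Set G)).index = p ^ d := hG.index _
  have hclass : (ConjClasses.mk g).carrier = (M : Set G) \ (N : Set G) := by
    ext x
    rw [← hcl, ConjClasses.mem_carrier_iff_mk_eq, ConjClasses.mk_eq_mk_iff_isConj]
    exact isConj_comm
  have hn : (p ^ d : ℕ) + Nat.card N = Nat.card M := by
    rw [← hd, ← PrimeParts.ncard_carrier, hclass,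
      show Nat.card N = (N : Set G).ncard from Nat.card_coe_set_eq _,
      show Nat.card M = (M : Set G).ncard from Nat.card_coe_set_eq _]
    exact Set.ncard_sdiff_add_ncard_of_subset hNM.le
  have hlt : a < c := by
    have h1 : Nat.card N < Nat.card M := by
      have : 0 < p ^ d := pow_pos hp.pos d
      omega
    rw [ha, hc] at h1
    exact (Nat.pow_lt_pow_iff_right hp.one_lt).1 h1
  rw [ha, hc] at hn
  obtain ⟨b, rfl⟩ : ∃ b, c = a + (b + 1) := ⟨c - a - 1, by omega⟩
  have hb : p ^ (b + 1) - 1 = 1 := by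
    have h3 : 1 ≤ p ^ (b + 1) := Nat.one_le_pow _ _ hp.pos
    have hfac : p ^ d = p ^ a * (p ^ (b + 1) - 1) := by
      rw [Nat.mul_sub, mul_one, ← pow_add]
      omega
    have hdvd : (p ^ (b + 1) - 1) ∣ p ^ d := hfac ▸ dvd_mul_left _ _
    obtain ⟨l, -, hl⟩ := (Nat.dvd_prime_pow hp).1 hdvd
    cases l with
    | zero => rw [hl, pow_zero]
    | succ l =>
      exfalso
      have h4 : p ∣ p ^ (b + 1) - 1 := hl ▸ dvd_pow_self p (Nat.succ_ne_zero l)
      have h5 : p ∣ p ^ (b + 1) := dvd_pow_self p (Nat.succ_ne_zero b)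
      have h6 : p ∣ 1 := by
        have := Nat.dvd_sub h5 h4
        rwa [Nat.sub_sub_self h3] at this
      exact hp.not_dvd_one h6
  have h2 : p ^ (b + 1) = 2 := by omega
  have hp2 : p = 2 := (Nat.prime_dvd_prime_iff_eq hp Nat.prime_two).1
    (h2 ▸ dvd_pow_self p (Nat.succ_ne_zero b))
  refine ⟨hp2, ?_⟩
  have h3 : Nat.card N * N.relIndex M = Nat.card M := by
    rw [Subgroup.relIndex, ← Nat.card_congr (Subgroup.subgroupOfEquivOfLe hNM.le).toEquiv]
    exact (N.subgroupOf M).card_mul_index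
  rw [ha, hc, pow_add, h2] at h3
  exact Nat.eq_of_mul_eq_mul_left (pow_pos hp.pos a) h3

end Cfsg.Agent.S4013
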