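import Cfsg.Statements.S4014
import Mathlib.GroupTheory.RegularWreathProduct
import Mathlib.GroupTheory.Solvable
import Mathlib.GroupTheory.Nilpotent
import Mathlib.GroupTheory.Sylow
import Mathlib.GroupTheory.Perm.ViaEmbedding
-- import your own Cfsg.Agent.* helpers here

set_option autoImplicit false
open Cfsg

namespace Cfsg.Agent.S4014

open Subgroup
open scoped commutatorElement

theorem derivedSeries_succ_le {G : Type*} [Group G] {M : Subgroup G} (hM : commutator G ≤ M) :
    ∀ i : ℕ, derivedSeries G (i + 1) ≤ (derivedSeries M i).map M.subtype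
  | 0 => by rw [derivedSeries_one, derivedSeries_zero, ← MonoidHom.range_eq_map, range_subtype]; exact hM
  | i + 1 => by
      rw [derivedSeries_succ G (i + 1), derivedSeries_succ M i, map_commutator]
      exact commutator_mono (derivedSeries_succ_le hM i) (derivedSeries_succ_le hM i)

/-- A subgroup of index at most `p ^ j` in a finite `p`-group contains the `j`-th derived subgroup. -/
theorem derivedSeries_le_of_index {p : ℕ} [hp : Fact p.Prime] :
    ∀ (j : ℕ) (P : Type) [Group P] [Finite P], IsPGroup p P → ∀ H : Subgroup P, H.index ∣ p ^ j →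
      derivedSeries P j ≤ H := by
  intro j
  induction j with
  | zero =>
    intro P _ _ _ H hH
    rw [pow_zero, Nat.dvd_one, index_eq_one] at hH
    rw [hH]; exact le_top
  | succ j ih =>
    intro P _ _ hP H hH
    by_cases htop : H = ⊤
    · rw [htop]; exact le_top
    obtain ⟨M, hM, hHM⟩ := (eq_top_or_exists_le_coatom H).resolve_left htop
    haveI : Group.IsNilpotent P := hP.isNilpotent
    haveI : M.Normal := Group.normalizerCondition_of_isNilpotent.normal_of_coatom M hM
    haveI hsimple : IsSimpleGroup (P ⧸ M) := by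
      haveI : Nontrivial (P ⧸ M) := QuotientGroup.nontrivial_iff.2 hM.1
      refine ⟨fun K hK => ?_⟩
      have hle : M ≤ K.comap (QuotientGroup.mk' M) := fun x hx => by
        show QuotientGroup.mk' M x ∈ K
        rw [show QuotientGroup.mk' M x = 1 from (QuotientGroup.eq_one_iff x).2 hx]
        exact K.one_mem
      have e := map_comap_eq_self_of_surjective (QuotientGroup.mk'_surjective M) K
      rcases hM.le_iff.1 hle with h | h
      · right; rw [← e, h, map_top_of_surjective _ (QuotientGroup.mk'_surjective M)]
      · left; rw [← e, h, QuotientGroup.map_mk'_self]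
    haveI : Group.IsNilpotent (P ⧸ M) := (hP.to_quotient M).isNilpotent
    have hcomm : ∀ a b : P ⧸ M, a * b = b * a :=
      IsSimpleGroup.comm_iff_isSolvable.2 inferInstance
    have hcle : commutator P ≤ M := by
      rw [_root_.commutator_def, commutator_le]
      intro a _ b _
      refine (QuotientGroup.eq_one_iff _).1 ?_
      show QuotientGroup.mk' M ⁅a, b⁆ = 1
      rw [map_commutatorElement, commutatorElement_eq_one_iff_mul_comm]
      exact hcomm _ _
    refine (derivedSeries_succ_le hcle j).trans ?_
    refine (map_mono (ih M (hP.to_subgroup M) (H.subgroupOf M) ?_)).trans ?_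
    · have h1 : H.relIndex M * M.index = H.index := relIndex_mul_index hHM
      have h2 : p ∣ M.index := by
        obtain ⟨n, hn⟩ := hP.index M
        rw [hn]
        refine dvd_pow_self p fun h0 => hM.1 (index_eq_one.1 ?_)
        rw [hn, h0, pow_zero]
      rw [← h1] at hH
      have h3 : H.relIndex M * p ∣ p ^ j * p := by
        rw [← pow_succ]
        exact (Nat.mul_dvd_mul_left _ h2).trans hH
      exact Nat.dvd_of_mul_dvd_mul_right hp.out.pos h3
    · exact (map_comap_le _ _)

theorem derivedSeries_perm_eq_bot {p n : ℕ} [hp : Fact p.Prime] (P : Subgroup (Equiv.Perm (Fin n)))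
    (hP : IsPGroup p P) : derivedSeries P (Nat.log p n) = ⊥ := by
  rw [Subgroup.eq_bot_iff_forall]
  intro g hg
  refine Subtype.ext (Equiv.ext fun ω => ?_)
  have hle : derivedSeries P (Nat.log p n) ≤ MulAction.stabilizer P ω := by
    refine derivedSeries_le_of_index _ _ hP _ ?_
    obtain ⟨k, hk⟩ := hP.index (MulAction.stabilizer P ω)
    rw [hk]
    refine pow_dvd_pow p (Nat.le_log_of_pow_le hp.out.one_lt ?_)
    rw [← hk, MulAction.index_stabilizer]
    exact (Nat.card_le_card_of_injective _ Subtype.val_injective).trans (Nat.card_fin n).le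
  exact MulAction.mem_stabilizer_iff.1 (hle hg)

theorem derivedSeries_wreath_ne_bot {D Q : Type} [Group D] [Group Q] [Nontrivial Q]
    (hQ : ∀ a b : Q, a * b = b * a) {i : ℕ} (hD : derivedSeries D i ≠ ⊥) :
    derivedSeries (RegularWreathProduct D Q) (i + 1) ≠ ⊥ := by
  classical
  have hright : ∀ x ∈ commutator (RegularWreathProduct D Q), x.right = 1 := by
    have hle : commutator (RegularWreathProduct D Q) ≤ (RegularWreathProduct.rightHom : (RegularWreathProduct D Q) →* Q).ker := by
      rw [_root_.commutator_def, commutator_le]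
      intro a _ b _
      rw [MonoidHom.mem_ker, map_commutatorElement, commutatorElement_eq_one_iff_mul_comm]
      exact hQ _ _
    exact fun x hx => hle hx
  let π : commutator (RegularWreathProduct D Q) →* D :=
    { toFun := fun x => (x : (RegularWreathProduct D Q)).left 1
      map_one' := rfl
      map_mul' := fun a b => by
        show (a : (RegularWreathProduct D Q)).left 1 * (b : (RegularWreathProduct D Q)).left ((a : (RegularWreathProduct D Q)).right⁻¹ * 1) = _
        rw [hright a a.2, inv_one, one_mul] }
  have hπ : Function.Surjective π := by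
    intro d
    obtain ⟨q, hq⟩ := exists_ne (1 : Q)
    let a : (RegularWreathProduct D Q) := ⟨Pi.mulSingle 1 d, 1⟩
    let b : (RegularWreathProduct D Q) := ⟨1, q⟩
    refine ⟨⟨⁅a, b⁆, commutator_mem_commutator (mem_top a) (mem_top b)⟩, ?_⟩
    show (a * b * a⁻¹ * b⁻¹).left 1 = d
    simp [RegularWreathProduct.mul_def, RegularWreathProduct.inv_left, RegularWreathProduct.inv_right, a, b, hq, Ne.symm hq]
  intro h
  refine hD ?_
  rw [← map_derivedSeries_eq hπ i]
  have hsucc : ∀ l : ℕ, (derivedSeries (commutator (RegularWreathProduct D Q)) l).map (commutator (RegularWreathProduct D Q)).subtype ≤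
      derivedSeries (RegularWreathProduct D Q) (l + 1) := by
    intro l
    induction l with
    | zero => rw [derivedSeries_zero, derivedSeries_one, ← MonoidHom.range_eq_map, range_subtype]
    | succ l ihl =>
      rw [derivedSeries_succ _ l, derivedSeries_succ (RegularWreathProduct D Q) (l + 1), map_commutator]
      exact commutator_mono ihl ihl
  have h1 := hsucc i
  rw [h, le_bot_iff, Subgroup.map_eq_bot_iff_of_injective _ (Subgroup.subtype_injective _)] at h1
  rw [h1, Subgroup.map_bot]

theorem derivedSeries_iterated_ne_bot (C : Type) [Group C] [Nontrivial C]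
    (hC : ∀ a b : C, a * b = b * a) :
    ∀ i : ℕ, derivedSeries (IteratedWreathProduct C (i + 1)) i ≠ ⊥
  | 0 => by
      rw [derivedSeries_zero]
      intro h
      obtain ⟨c, hc⟩ := exists_ne (1 : C)
      have h1 : (⟨1, c⟩ : RegularWreathProduct (IteratedWreathProduct C 0) C) = 1 := by
        have := mem_top (G := IteratedWreathProduct C 1)
          (⟨1, c⟩ : RegularWreathProduct (IteratedWreathProduct C 0) C)
        rw [h] at this
        exact mem_bot.1 this
      exact hc (congrArg RegularWreathProduct.right h1)
  | i + 1 => derivedSeries_wreath_ne_bot hC (derivedSeries_iterated_ne_bot C hC i)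


/-- Let p be a prime, n ≥ 1, and P a Sylow p-subgroup of the symmetric group on n letters. Then the derived length of P is exactly k = ⌊log_p n⌋ (the largest k with p^k ≤ n): the k-th derived subgroup of P is trivial and, when k ≥ 1, the (k−1)-st is not. -/
theorem result (p : ℕ) [Fact p.Prime] (n : ℕ) (hn : 1 ≤ n) (P : Sylow p (Equiv.Perm (Fin n))) : derivedSeries ↥(P : Subgroup (Equiv.Perm (Fin n))) (Nat.log p n) = ⊥ ∧ (1 ≤ Nat.log p n → derivedSeries ↥(P : Subgroup (Equiv.Perm (Fin n))) (Nat.log p n - 1) ≠ ⊥) := by
  refine ⟨derivedSeries_perm_eq_bot _ P.2, fun hk hbot => ?_⟩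
  have hp : p.Prime := Fact.out
  obtain ⟨i, hi⟩ : ∃ i, Nat.log p n = i + 1 := ⟨Nat.log p n - 1, by omega⟩
  let C := Multiplicative (ZMod p)
  haveI : NeZero p := ⟨hp.ne_zero⟩
  haveI : Fact (1 < p) := ⟨hp.one_lt⟩
  haveI : Nontrivial C := inferInstanceAs (Nontrivial (ZMod p))
  haveI : Finite C := inferInstanceAs (Finite (ZMod p))
  have hCcard : Nat.card C = p :=
    (Nat.card_congr Multiplicative.toAdd).trans (Nat.card_zmod p)
  have hle : p ^ (i + 1) ≤ n := hi ▸ Nat.pow_log_le_self p (by omega)
  let e : (Fin (i + 1) → C) ↪ Fin n :=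
    (Finite.equivFinOfCardEq (by rw [Nat.card_fun, Nat.card_fin, hCcard])).toEmbedding.trans
      (Fin.castLEEmb hle)
  let f : IteratedWreathProduct C (i + 1) →* Equiv.Perm (Fin n) :=
    (Equiv.Perm.viaEmbeddingHom e).comp (iteratedWreathToPermHom C (i + 1))
  have hf : Function.Injective f := by
    show Function.Injective (Equiv.Perm.viaEmbeddingHom e ∘ iteratedWreathToPermHom C (i + 1))
    exact (Equiv.Perm.viaEmbeddingHom_injective e).comp (iteratedWreathToPermHomInj C (i + 1))
  have hW : IsPGroup p f.range := by
    refine IsPGroup.of_card (n := ∑ l ∈ Finset.range (i + 1), p ^ l) ?_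
    rw [← Nat.card_congr (MonoidHom.ofInjective hf).toEquiv, IteratedWreathProduct.card, hCcard]
  obtain ⟨S, hS⟩ := hW.exists_le_sylow
  refine derivedSeries_iterated_ne_bot C (fun a b => mul_comm a b) i ?_
  let φ : IteratedWreathProduct C (i + 1) →* (P : Subgroup (Equiv.Perm (Fin n))) :=
    (S.equiv P).toMonoidHom.comp (f.codRestrict _ fun x => hS ⟨x, rfl⟩)
  have hφ : Function.Injective φ :=
    (S.equiv P).injective.comp (MonoidHom.injective_codRestrict _ _ _ |>.2 hf)
  have hbot' : derivedSeries (P : Subgroup (Equiv.Perm (Fin n))) i = ⊥ := by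
    rw [show i = Nat.log p n - 1 by omega]; exact hbot
  refine (Subgroup.map_eq_bot_iff_of_injective _ hφ).1 (le_bot_iff.1 ?_)
  exact (map_derivedSeries_le_derivedSeries φ _).trans hbot'.le

end Cfsg.Agent.S4014
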