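import Cfsg.Statements.S4015
import Cfsg.Agent.Lib.DerivedLength.PBase
import Cfsg.Agent.S4014
import Mathlib.LinearAlgebra.Matrix.GeneralLinearGroup.Card
-- import your own Cfsg.Agent.* helpers here

set_option autoImplicit false
open Cfsg

namespace Cfsg.Agent.S4015

open Cfsg.Agent.DerivedLength Cfsg.Agent.S4417

universe u

/-- Upper bound, for every `p`-subgroup. -/
theorem upper {F : Type u} [Field F] [Fintype F] (q : ℕ) (hF : Fintype.card F = q) (p : ℕ)
    [Fact p.Prime] (hpq : ¬ p ∣ q) (n e : ℕ) (he : e = orderOf (q : ZMod p))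
    (P : Subgroup (GL (Fin n) F)) (hP : IsPGroup p P) :
    derivedSeries ↥P (Nat.log p (n / e) + 1) = ⊥ := by
  classical
  have hq : (q : ZMod p) ≠ 0 := fun h => hpq ((CharP.cast_eq_zero_iff (ZMod p) p q).1 h)
  have hqF : (q : F) = 0 := by rw [← hF]; exact FiniteField.cast_card_eq_zero F
  let K := AlgebraicClosure F
  let σ : K ≃+* K := (FiniteField.frobeniusAlgEquivOfAlgebraic F K).toRingEquiv
  have hσ : ∀ x, σ x = x ^ q := fun x => by rw [← hF]; rfl
  let M : P → Matrix (Fin n) (Fin n) K := fun g =>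
    ((g : GL (Fin n) F) : Matrix (Fin n) (Fin n) F).map (algebraMap F K)
  let ρ : P →* Module.End K (Fin n → K) :=
    (((Matrix.toLinAlgEquiv' : Matrix (Fin n) (Fin n) K ≃ₐ[K] _).toAlgHom.toMonoidHom.comp
      (algebraMap F K).mapMatrix.toMonoidHom).comp (Units.coeHom _)).comp P.subtype
  have hρapp : ∀ g v i, ρ g v i = ∑ j, M g i j * v j := fun g v i => rfl
  have hρ : ∀ g (v : Fin n → K), ρ g (fun i => σ (v i)) = fun i => σ (ρ g v i) := by
    intro g v
    funext i
    rw [hρapp, hρapp, map_sum]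
    refine Finset.sum_congr rfl fun j _ => ?_
    rw [map_mul]
    congr 1
    exact ((FiniteField.frobeniusAlgEquivOfAlgebraic F K).commutes _).symm
  set e' := orderOf (q : ZMod p)
  have he0 : 0 < e := by
    rw [he]
    exact orderOf_pos_iff.2 (isOfFinOrder_iff_pow_eq_one.2
      ⟨p - 1, by have := (Fact.out : p.Prime).two_le; omega, ZMod.pow_card_sub_one_eq_one hq⟩)
  have hcard : (Nat.card P : K) ≠ 0 := by
    obtain ⟨j, hj⟩ := IsPGroup.iff_card.1 hP
    rw [hj, Nat.cast_pow]
    refine pow_ne_zero _ fun h => ?_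
    haveI : ExpChar F (ringChar F) := ExpChar.prime (CharP.char_is_prime F _)
    have hpF : ((p : ℕ) : F) = 0 := (algebraMap F K).injective (by rw [map_natCast, h, map_zero])
    obtain ⟨m, hm1, hm2⟩ := FiniteField.card F (ringChar F)
    have hd : ringChar F ∣ p := (ringChar.spec F p).1 hpF
    have heq := ((Nat.prime_dvd_prime_iff_eq hm1 Fact.out).1 hd)
    exact hpq (hF ▸ hm2 ▸ heq ▸ dvd_pow_self _ m.ne_zero)
  rw [Subgroup.eq_bot_iff_forall]
  intro g hg
  suffices h : ∀ (d : ℕ) (X : Submodule K (Fin n → K)), Module.finrank K X = d → Invariant ρ X →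
      ∀ x ∈ X, ρ g x = x by
    have h1 : ρ g = 1 := LinearMap.ext fun x => h _ ⊤ rfl (fun _ _ _ => trivial) x trivial
    refine Subtype.ext ?_
    apply Units.ext
    apply Matrix.map_injective (algebraMap F K).injective
    apply (Matrix.toLinAlgEquiv' : Matrix (Fin n) (Fin n) K ≃ₐ[K] _).injective
    refine h1.trans ?_
    simp
  intro d
  induction d using Nat.strong_induction_on with
  | _ d ih =>
  intro X hXd hX x hx
  by_cases hirr : ∀ W : Submodule K X, Invariant (subAct ρ hX) W → W = ⊥ ∨ W = ⊤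
  · by_cases hnt : ∃ c, subAct ρ hX c ≠ 1
    · have hdim := finrank_mul_le hP hq σ hσ ρ hρ hX hirr hnt
      have hlt : Module.finrank K X < p ^ (Nat.log p (n / e) + 1) := by
        refine lt_of_le_of_lt ?_ (Nat.lt_pow_succ_log_self (Fact.out : p.Prime).one_lt _)
        rw [Nat.le_div_iff_mul_le he0, mul_comm, he]
        exact hdim
      have hpK : (p : K) ≠ 0 := fun h0 => by
        obtain ⟨j, hj⟩ := IsPGroup.iff_card.1 hP
        rcases Nat.eq_zero_or_pos j with rfl | hj0
        · obtain ⟨c, hc⟩ := hnt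
          refine hc ?_
          haveI : Subsingleton P := (Nat.card_eq_one_iff_unique.1 (by rw [hj, pow_zero])).1
          rw [Subsingleton.elim c 1, map_one]
        · exact hcard (by rw [hj, Nat.cast_pow, h0, zero_pow hj0.ne'])
      have h1 := derivedSeries_acts_trivially_base hpK (Nat.log p (n / e) + 1) _ P hP X rfl hlt
        (subAct ρ hX) g hg
      exact congrArg Subtype.val (LinearMap.congr_fun h1 ⟨x, hx⟩)
    · push Not at hnt
      exact congrArg Subtype.val (LinearMap.congr_fun (hnt g) ⟨x, hx⟩)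
  · simp only [not_forall, not_or] at hirr
    obtain ⟨W, hW, hWb, hWt⟩ := hirr
    obtain ⟨U, hU, hWU⟩ := exists_invariant_compl (subAct ρ hX) hW hcard
    have hinv : ∀ Y : Submodule K X, Invariant (subAct ρ hX) Y → Invariant ρ (Y.map X.subtype) := by
      rintro Y hY c _ ⟨y, hy, rfl⟩
      exact ⟨subAct ρ hX c y, hY c y hy, rfl⟩
    have hfr : ∀ Y : Submodule K X, Module.finrank K (Y.map X.subtype) = Module.finrank K Y :=
      fun Y => (Submodule.equivMapOfInjective X.subtype X.injective_subtype Y).finrank_eq.symm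
    have hdim := Submodule.finrank_add_eq_of_isCompl hWU
    have hWpos : 0 < Module.finrank K W := Nat.pos_of_ne_zero fun h0 =>
      hWb (Submodule.finrank_eq_zero.1 h0)
    have hUpos : 0 < Module.finrank K U := Nat.pos_of_ne_zero fun h0 => hWt (by
      have e : U = ⊥ := Submodule.finrank_eq_zero.1 h0
      subst e
      exact eq_top_of_isCompl_bot hWU)
    have hx' : (⟨x, hx⟩ : X) ∈ W ⊔ U := by rw [hWU.sup_eq_top]; trivial
    obtain ⟨y, hy, w, hw, hyw⟩ := Submodule.mem_sup.1 hx'
    have e1 := ih _ (by omega) _ (hfr W) (hinv W hW) _ ⟨y, hy, rfl⟩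
    have e2 := ih _ (by omega) _ (hfr U) (hinv U hU) _ ⟨w, hw, rfl⟩
    have e3 : x = (y : Fin n → K) + w := (congrArg Subtype.val hyw).symm
    rw [e3, map_add]
    exact congrArg₂ (· + ·) e1 e2

/-- One step: a monomial matrix representation of a regular wreath product. -/
theorem wreath_step {F : Type u} [Field F] {D Q : Type} [Group D] [Group Q] [Fintype Q]
    {ι : Type} [Fintype ι] [DecidableEq ι] [DecidableEq Q] (f : D →* Matrix ι ι F)
    (hf : Function.Injective f) [Nonempty ι] :
    ∃ g : RegularWreathProduct D Q →* Matrix (Q × ι) (Q × ι) F, Function.Injective g := by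
  let A : RegularWreathProduct D Q → Matrix (Q × ι) (Q × ι) F := fun x =>
    Matrix.of fun a b => if b.1 = x.right⁻¹ * a.1 then f (x.left a.1) a.2 b.2 else 0
  have hmul : ∀ x y, A (x * y) = A x * A y := by
    intro x y
    ext ⟨i, j⟩ ⟨i', j'⟩
    rw [Matrix.mul_apply, Fintype.sum_prod_type, Finset.sum_eq_single (x.right⁻¹ * i)
      (fun b _ hb => Finset.sum_eq_zero fun c _ => by simp [A, hb])
      (fun h => absurd (Finset.mem_univ _) h)]
    simp only [A, Matrix.of_apply, RegularWreathProduct.mul_right, RegularWreathProduct.mul_left,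
      mul_inv_rev, mul_assoc, if_true]
    by_cases hc : i' = y.right⁻¹ * (x.right⁻¹ * i)
    · simp only [if_pos hc, map_mul, Matrix.mul_apply, Pi.mul_apply]
    · simp only [if_neg hc, mul_zero, Finset.sum_const_zero]
  have hone : A 1 = 1 := by
    ext ⟨i, j⟩ ⟨i', j'⟩
    simp only [A, Matrix.of_apply, RegularWreathProduct.one_right, RegularWreathProduct.one_left,
      Pi.one_apply, map_one, inv_one, one_mul, Matrix.one_apply, Prod.mk.injEq]
    by_cases h1 : i = i' <;> simp [h1, eq_comm]
  refine ⟨{ toFun := A, map_one' := hone, map_mul' := hmul }, ?_⟩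
  intro x y h
  have h' : ∀ a b, A x a b = A y a b := fun a b => congrFun (congrFun h a) b
  have hne : ∀ d : D, ∃ j j', f d j j' ≠ 0 := by
    intro d
    by_contra hc
    push Not at hc
    have e : f d = 0 := Matrix.ext fun j j' => hc j j'
    have h1 : f d * f d⁻¹ = 1 := by rw [← map_mul, mul_inv_cancel, map_one]
    rw [e, zero_mul] at h1
    obtain ⟨j⟩ := ‹Nonempty ι›
    have := congrFun (congrFun h1 j) j
    simp at this
  have hr : x.right = y.right := by
    by_contra hr
    obtain ⟨j, j', hj⟩ := hne (x.left 1)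
    have := h' (1, j) (x.right⁻¹, j')
    simp [A, hj, hr] at this
  refine RegularWreathProduct.ext (funext fun i => hf (Matrix.ext fun j j' => ?_)) hr
  have := h' (i, j) (x.right⁻¹ * i, j')
  simpa [A, hr] using this

/-- Iterated wreath products of a cyclic group of order `p` in dimension `e p ^ k`. -/
theorem exists_matrix {F : Type u} [Field F] {C : Type} [Group C] [Finite C] {e : ℕ} [NeZero e]
    (f₀ : C →* Matrix (Fin e) (Fin e) F) (hf₀ : Function.Injective f₀) :
    ∀ k : ℕ, ∃ (ι : Type) (_ : Fintype ι) (_ : DecidableEq ι) (_ : Nonempty ι),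
      Fintype.card ι = e * Nat.card C ^ k ∧
      ∃ g : IteratedWreathProduct C (k + 1) →* Matrix ι ι F, Function.Injective g
  | 0 => by
      refine ⟨Fin e, inferInstance, inferInstance, inferInstance, by simp,
        f₀.comp RegularWreathProduct.rightHom, hf₀.comp ?_⟩
      intro x y h
      exact RegularWreathProduct.ext (funext fun _ => rfl) h
  | k + 1 => by
      obtain ⟨ι, hι, hd, hne, hcard, g, hg⟩ := exists_matrix f₀ hf₀ k
      classical
      haveI := Fintype.ofFinite C
      obtain ⟨g', hg'⟩ := wreath_step (Q := C) g hg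
      refine ⟨C × ι, inferInstance, inferInstance, inferInstance, ?_, g', hg'⟩
      rw [Fintype.card_prod, hcard, ← Nat.card_eq_fintype_card, pow_succ]
      ring

/-- Extend by the identity. -/
theorem exists_extend {F : Type u} [Field F] {D : Type} [Group D] {ι : Type} [Fintype ι]
    [DecidableEq ι] (g : D →* Matrix ι ι F) (hg : Function.Injective g) {n : ℕ}
    (hn : Fintype.card ι ≤ n) : ∃ h : D →* GL (Fin n) F, Function.Injective h := by
  obtain ⟨κ, _, _, ⟨eqv⟩⟩ : ∃ (κ : Type) (_ : Fintype κ) (_ : DecidableEq κ),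
      Nonempty (ι ⊕ κ ≃ Fin n) := by
    refine ⟨Fin (n - Fintype.card ι), inferInstance, inferInstance, ⟨Fintype.equivFinOfCardEq ?_⟩⟩
    rw [Fintype.card_sum, Fintype.card_fin]
    omega
  let h₁ : D →* Matrix (Fin n) (Fin n) F :=
    { toFun := fun d => (Matrix.fromBlocks (g d) 0 0 (1 : Matrix κ κ F)).submatrix eqv.symm eqv.symm
      map_one' := by rw [map_one, Matrix.fromBlocks_one, Matrix.submatrix_one_equiv]
      map_mul' := fun a b => by
        rw [Matrix.submatrix_mul_equiv, Matrix.fromBlocks_multiply, map_mul]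
        simp }
  refine ⟨h₁.toHomUnits, fun a b hab => hg ?_⟩
  have h2 : h₁ a = h₁ b := congrArg Units.val hab
  ext i j
  have := congrFun (congrFun h2 (eqv (Sum.inl i))) (eqv (Sum.inl j))
  simpa [h₁] using this

/-- Let p be an odd prime, F a finite field with q elements where p does not divide q, and e the multiplicative order of q modulo p. Let n ≥ e and write w = ⌊n/e⌋ and k = ⌊log_p w⌋. Then a Sylow p-subgroup of GL(n, F) has derived length exactly k + 1: its (k+1)-st derived subgroup is trivial and its k-th is not. -/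
theorem result (p : ℕ) [Fact p.Prime] (hp : p ≠ 2) (F : Type*) [Field F] [Fintype F] (q : ℕ) (hq : Fintype.card F = q) (hpq : ¬ p ∣ q) (n : ℕ) (hn : orderOf (q : ZMod p) ≤ n) (P : Sylow p (Matrix.GeneralLinearGroup (Fin n) F)) : derivedSeries ↥(P : Subgroup (Matrix.GeneralLinearGroup (Fin n) F)) (Nat.log p (n / orderOf (q : ZMod p)) + 1) = ⊥ ∧ derivedSeries ↥(P : Subgroup (Matrix.GeneralLinearGroup (Fin n) F)) (Nat.log p (n / orderOf (q : ZMod p))) ≠ ⊥ := by
  classical
  have hp' : p.Prime := Fact.out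
  refine ⟨upper q hq p hpq n _ rfl _ P.2, fun hbot => ?_⟩
  set e := orderOf (q : ZMod p) with he
  set k := Nat.log p (n / e) with hk
  have hqz : (q : ZMod p) ≠ 0 := fun h => hpq ((CharP.cast_eq_zero_iff (ZMod p) p q).1 h)
  have he0 : 0 < e := orderOf_pos_iff.2 (isOfFinOrder_iff_pow_eq_one.2
    ⟨p - 1, by have := hp'.two_le; omega, ZMod.pow_card_sub_one_eq_one hqz⟩)
  haveI : NeZero e := ⟨he0.ne'⟩
  have hdvd : p ∣ Nat.card (GL (Fin e) F) := by
    rw [Matrix.card_GL_field]
    refine (Dvd.dvd.trans ?_ (Finset.dvd_prod_of_mem _ (Finset.mem_univ (⟨0, he0⟩ : Fin e))))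
    rw [hq]
    show p ∣ q ^ e - q ^ 0
    rw [pow_zero, ← ZMod.natCast_eq_zero_iff,
      Nat.cast_sub (Nat.one_le_pow _ _ (hq ▸ Fintype.card_pos)), Nat.cast_pow, Nat.cast_one, he,
      pow_orderOf_eq_one, sub_self]
  obtain ⟨g, hg⟩ := exists_prime_orderOf_dvd_card' (G := GL (Fin e) F) p hdvd
  let C := Multiplicative (ZMod p)
  haveI : NeZero p := ⟨hp'.ne_zero⟩
  haveI : Fact (1 < p) := ⟨hp'.one_lt⟩
  haveI : Nontrivial C := inferInstanceAs (Nontrivial (ZMod p))
  haveI : Finite C := inferInstanceAs (Finite (ZMod p))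
  have hCcard : Nat.card C = p :=
    (Nat.card_congr Multiplicative.toAdd).trans (Nat.card_zmod p)
  let f₀ : C →* Matrix (Fin e) (Fin e) F := (Units.coeHom _).comp
    { toFun := fun c => g ^ (Multiplicative.toAdd c).val
      map_one' := by simp
      map_mul' := fun a b => by
        rw [toAdd_mul, ZMod.val_add, ← pow_add]
        exact (congrArg (fun t => g ^ (((Multiplicative.toAdd a).val + (Multiplicative.toAdd b).val) % t)) hg).symm.trans
          (pow_mod_orderOf g _) }
  have hf₀ : Function.Injective f₀ := by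
    intro a b h
    have h1 : g ^ (Multiplicative.toAdd a).val = g ^ (Multiplicative.toAdd b).val := Units.ext h
    exact Multiplicative.toAdd.injective (ZMod.val_injective p
      (pow_injOn_Iio_orderOf ((ZMod.val_lt _).trans_eq hg.symm) ((ZMod.val_lt _).trans_eq hg.symm) h1))
  obtain ⟨ι, _, _, _, hcard, gι, hgι⟩ := exists_matrix f₀ hf₀ k
  have hle : Fintype.card ι ≤ n := by
    rw [hcard, hCcard, hk, mul_comm]
    refine (Nat.le_div_iff_mul_le he0).1 (Nat.pow_log_le_self p ?_)
    exact (Nat.div_pos hn he0).ne'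
  obtain ⟨f, hf⟩ := exists_extend gι hgι hle
  have hW : IsPGroup p f.range := by
    refine IsPGroup.of_card (n := ∑ l ∈ Finset.range (k + 1), p ^ l) ?_
    rw [← Nat.card_congr (MonoidHom.ofInjective hf).toEquiv, IteratedWreathProduct.card, hCcard]
  obtain ⟨S, hS⟩ := hW.exists_le_sylow
  refine S4014.derivedSeries_iterated_ne_bot C (fun a b => mul_comm a b) k ?_
  let φ : IteratedWreathProduct C (k + 1) →* (P : Subgroup (GL (Fin n) F)) :=
    (S.equiv P).toMonoidHom.comp (f.codRestrict _ fun x => hS ⟨x, rfl⟩)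
  have hφ : Function.Injective φ :=
    (S.equiv P).injective.comp (MonoidHom.injective_codRestrict _ _ _ |>.2 hf)
  refine (Subgroup.map_eq_bot_iff_of_injective _ hφ).1 (le_bot_iff.1 ?_)
  exact (map_derivedSeries_le_derivedSeries φ _).trans hbot.le

end Cfsg.Agent.S4015
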