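import Cfsg.Statements.S4022
import Cfsg.Agent.Lib.IsoSubgroups.Basic
import Cfsg.Agent.Lib.Solvable.Basic
import Cfsg.Agent.Lib.Coprime.Basic
-- import your own Cfsg.Agent.* helpers here

set_option autoImplicit false
open Cfsg

namespace Cfsg.Agent.S4022

open Subgroup

universe u

/-- `K` is conjugate to `H`. -/
def ConjTo {G : Type u} [Group G] (H K : Subgroup G) : Prop :=
  ∃ g : G, K = H.map (MulAut.conj g).toMonoidHom

theorem ConjTo.trans {G : Type u} [Group G] {H K L : Subgroup G} (h₁ : ConjTo H K) (h₂ : ConjTo K L) :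
    ConjTo H L := by
  obtain ⟨a, rfl⟩ := h₁
  obtain ⟨b, rfl⟩ := h₂
  refine ⟨b * a, ?_⟩
  rw [map_map]
  congr 1
  ext x
  simp [mul_assoc]

theorem ConjTo.symm {G : Type u} [Group G] {H K : Subgroup G} (h₁ : ConjTo H K) : ConjTo K H := by
  obtain ⟨a, rfl⟩ := h₁
  refine ⟨a⁻¹, ?_⟩
  rw [map_map]
  conv_lhs => rw [← map_id H]
  congr 1
  ext x
  simp [mul_assoc]

/-- Any two `p`-subgroups of the same order are conjugate, for every prime `p`. -/
def HasD (G : Type u) [Group G] : Prop :=
  ∀ p : ℕ, p.Prime → ∀ H K : Subgroup G, IsPGroup p H → IsPGroup p K →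
    Nat.card H = Nat.card K → ConjTo H K

/-- All Sylow subgroups are cyclic, except possibly for the prime `r`. -/
def CycExc (r : ℕ) (G : Type u) [Group G] : Prop :=
  ∀ p : ℕ, p.Prime → p ≠ r → ∀ P : Sylow p G, IsCyclic P

theorem eq_of_card_eq_of_isCyclic {G : Type u} [Group G] [Finite G] {S H K : Subgroup G}
    [IsCyclic S] (hH : H ≤ S) (hK : K ≤ S) (hc : Nat.card H = Nat.card K) : H = K := by
  classical
  haveI := Fintype.ofFinite S
  have key : ∀ L : Subgroup G, L ≤ S → Nat.card L = Nat.card H →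
      (Finset.univ.filter fun a : S => (a : G) ∈ L) =
        Finset.univ.filter fun a : S => a ^ Nat.card H = 1 := by
    intro L hL hLc
    refine Finset.eq_of_subset_of_card_le (fun a ha => ?_) ?_
    · simp only [Finset.mem_filter, Finset.mem_univ, true_and] at ha ⊢
      rw [← orderOf_dvd_iff_pow_eq_one, ← hLc, ← Subgroup.orderOf_coe]
      exact orderOf_dvd_natCard _ ha
    · refine le_trans (IsCyclic.card_pow_eq_one_le (α := S) Nat.card_pos) (le_of_eq ?_)
      rw [← hLc, ← Fintype.card_subtype, ← Nat.card_eq_fintype_card]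
      exact Nat.card_congr
        { toFun := fun x => ⟨⟨x.1, hL x.2⟩, x.2⟩
          invFun := fun x => ⟨x.1.1, x.2⟩
          left_inv := fun _ => rfl
          right_inv := fun _ => rfl }
  ext x
  have h1 := (key H hH rfl).trans (key K hK hc.symm).symm
  constructor
  · intro hx
    have h2 := Finset.ext_iff.1 h1 ⟨x, hH hx⟩
    simp only [Finset.mem_filter, Finset.mem_univ, true_and] at h2
    exact h2.1 hx
  · intro hx
    have h2 := Finset.ext_iff.1 h1 ⟨x, hK hx⟩
    simp only [Finset.mem_filter, Finset.mem_univ, true_and] at h2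
    exact h2.2 hx

theorem hasD_of_cyclic {G : Type u} [Group G] [Finite G]
    (h : ∀ p : ℕ, p.Prime → ∀ P : Sylow p G, IsCyclic P) : HasD G := by
  intro p hp H K hH hK hc
  haveI : Fact p.Prime := ⟨hp⟩
  obtain ⟨S, hS⟩ := hH.exists_le_sylow
  obtain ⟨T, hT⟩ := hK.exists_le_sylow
  obtain ⟨g, hg⟩ := MulAction.exists_smul_eq G S T
  haveI := h p hp T
  refine ⟨g, eq_of_card_eq_of_isCyclic hT ?_ ?_⟩
  · rw [← hg, map_le_iff_le_comap]
    intro x hx
    exact Subgroup.smul_mem_pointwise_smul x (MulAut.conj g) (S : Subgroup G) (hS hx)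
  · rw [card_map_of_injective (MulAut.conj g).injective, hc]

theorem hasD_quotient {G : Type u} [Group G] [Finite G] (h : HasD G) (N : Subgroup G) [N.Normal] :
    HasD (G ⧸ N) := by
  intro p hp X Y hX hY hc
  haveI : Fact p.Prime := ⟨hp⟩
  set π := QuotientGroup.mk' N
  have hsurj : Function.Surjective π := QuotientGroup.mk'_surjective N
  have lift : ∀ Z : Subgroup (G ⧸ N), IsPGroup p Z → ∃ Z' : Subgroup G, IsPGroup p Z' ∧
      Z'.map π = Z ∧ Nat.card Z' = p ^ (Nat.card Z * Nat.card N).factorization p := by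
    intro Z hZ
    set M := Z.comap π with hM
    have hNM : N ≤ M := fun x hx => by
      show π x ∈ Z
      rw [show π x = 1 from (QuotientGroup.eq_one_iff x).2 hx]; exact Z.one_mem
    have hMZ : M.map π = Z := map_comap_eq_self_of_surjective hsurj Z
    have hcard : Nat.card M = Nat.card Z * Nat.card N := by
      have h1 : Z.index * Nat.card M = Z.index * (Nat.card Z * Nat.card N) := by
        calc Z.index * Nat.card M = M.index * Nat.card M := by rw [hM, index_comap_of_surjective _ hsurj]
          _ = N.index * Nat.card N := by rw [M.index_mul_card, N.index_mul_card]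
          _ = Z.index * Nat.card Z * Nat.card N := by rw [Z.index_mul_card, ← N.index_eq_card]
          _ = _ := by ring
      exact Nat.eq_of_mul_eq_mul_left (Nat.pos_of_ne_zero index_ne_zero_of_finite) h1
    obtain ⟨Q⟩ : Nonempty (Sylow p M) := inferInstance
    refine ⟨(Q : Subgroup M).map M.subtype, Q.2.map _, ?_, ?_⟩
    · have h1 := (Q.mapSurjective (f := π.subgroupMap M) (π.subgroupMap_surjective M))
      have h2 : ((Q : Subgroup M).map (π.subgroupMap M)) = ⊤ := by
        have hp' : IsPGroup p (M.map π) := by rw [hMZ]; exact hZ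
        exact ((Q.mapSurjective (f := π.subgroupMap M) (π.subgroupMap_surjective M)).is_maximal'
          (hp'.of_equiv Subgroup.topEquiv.symm) le_top).symm
      have h3 := congrArg (map (M.map π).subtype) h2
      rw [← MonoidHom.range_eq_map, range_subtype, map_map] at h3
      rw [map_map]
      exact (h3.trans hMZ : _)
    · rw [card_map_of_injective M.subtype_injective, Q.card_eq_multiplicity, hcard]
  obtain ⟨X', hX', hXe, hXc⟩ := lift X hX
  obtain ⟨Y', hY', hYe, hYc⟩ := lift Y hY
  obtain ⟨g, hg⟩ := h p hp X' Y' hX' hY' (by rw [hXc, hYc, hc])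
  refine ⟨π g, ?_⟩
  rw [← hYe, hg, ← hXe, map_map, map_map]
  congr 1

theorem cycExc_quotient {G : Type u} [Group G] [Finite G] {r : ℕ} (h : CycExc r G)
    (N : Subgroup G) [N.Normal] : CycExc r (G ⧸ N) := by
  intro p hp hpr P
  haveI : Fact p.Prime := ⟨hp⟩
  obtain ⟨Q, hQ⟩ := Sylow.mapSurjective_surjective (QuotientGroup.mk'_surjective N) p P
  haveI := h p hp hpr Q
  rw [← hQ]
  exact isCyclic_of_surjective _ ((QuotientGroup.mk' N).subgroupMap_surjective (Q : Subgroup G))

theorem card_le_two_of_sq : ∀ H : Subgroup (QuaternionGroup 2), (∀ x ∈ H, x ^ 2 = 1) → Nat.card H ≤ 2 := by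
  intro H hH
  classical
  have h1 : Nat.card H ≤ Nat.card {x : QuaternionGroup 2 // x ^ 2 = 1} :=
    Nat.card_le_card_of_injective (fun x => ⟨x.1, hH x.1 x.2⟩) fun a b h => Subtype.ext (by simpa using h)
  refine h1.trans ?_
  rw [Nat.card_eq_fintype_card]
  decide

theorem conj_aux : ∀ (n : ℕ) (G : Type u) [Group G] [Finite G] [Group.IsSolvable G], Nat.card G ≤ n →
    HasD G → ∀ r : ℕ, CycExc r G → ∀ H K : Subgroup G, Nat.card H = Nat.card K → ConjTo H K := by
  intro n
  induction n with
  | zero => intro G _ _ _ h; exact absurd h (by have := Nat.card_pos (α := G); omega)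
  | succ n ih =>
  intro G _ _ _ hle hD r hcyc H K hHK
  classical
  rcases subsingleton_or_nontrivial G with hss | hnt
  · exact ⟨1, Subsingleton.elim _ _⟩
  obtain ⟨N, hN, -, hNne, hmin⟩ := Solvable.exists_minimal_normal (K := (⊤ : Subgroup G)) top_ne_bot
  haveI := hN
  haveI := Solvable.isMulCommutative_of_minimal inferInstance hNne hmin
  obtain ⟨q, hq, hexp, hNq⟩ := Solvable.exists_prime_of_minimal hNne hmin
  haveI : Fact q.Prime := ⟨hq⟩
  set π := QuotientGroup.mk' N with hπ
  have hsurj : Function.Surjective π := QuotientGroup.mk'_surjective N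
  have hlt : Nat.card (G ⧸ N) ≤ n := by
    have h1 : Nat.card (G ⧸ N) < Nat.card G := by
      rw [← N.index_eq_card, ← N.card_mul_index]
      exact lt_mul_of_one_lt_left (Nat.pos_of_ne_zero index_ne_zero_of_finite)
        ((Subgroup.one_lt_card_iff_ne_bot N).2 hNne)
    omega
  have cardSup : ∀ L : Subgroup G, Nat.card (L.map π) * Nat.card (L ⊓ N : Subgroup G) = Nat.card L := by
    intro L
    have h1 := ((π.subgroupMap L).ker).card_mul_index
    rw [index_ker, MonoidHom.range_eq_top.2 (π.subgroupMap_surjective L), card_top] at h1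
    have h2 : Nat.card (π.subgroupMap L).ker = Nat.card (L ⊓ N : Subgroup G) := by
      rw [← card_map_of_injective L.subtype_injective]
      congr 2
      ext x
      constructor
      · rintro ⟨y, hy, rfl⟩
        exact ⟨y.2, (QuotientGroup.eq_one_iff (y : G)).1 (congrArg Subtype.val (MonoidHom.mem_ker.1 hy))⟩
      · rintro ⟨hxL, hxN⟩
        exact ⟨⟨x, hxL⟩, MonoidHom.mem_ker.2 (Subtype.ext ((QuotientGroup.eq_one_iff x).2 hxN)), rfl⟩
    rw [h2] at h1
    rw [mul_comm]
    exact h1
  -- reduce to `H ⊔ N = K ⊔ N`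
  have reduce : Nat.card (H ⊓ N : Subgroup G) = Nat.card (K ⊓ N : Subgroup G) →
      ∃ H', ConjTo H H' ∧ H' ⊔ N = K ⊔ N := by
    intro hc
    have h1 : Nat.card (H.map π) = Nat.card (K.map π) := by
      have e1 := cardSup H
      have e2 := cardSup K
      rw [← hc] at e2
      rw [hHK] at e1
      exact Nat.eq_of_mul_eq_mul_right Nat.card_pos (e1.trans e2.symm)
    obtain ⟨g, hg⟩ := ih (G ⧸ N) hlt (hasD_quotient hD N) r (cycExc_quotient hcyc N) _ _ h1
    obtain ⟨a, rfl⟩ := hsurj g
    refine ⟨H.map (MulAut.conj a).toMonoidHom, ⟨a, rfl⟩, ?_⟩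
    have h2 : (H.map (MulAut.conj a).toMonoidHom).map π = K.map π := by
      rw [hg, map_map, map_map]
      congr 1
    have h3 := congrArg (comap π) h2
    rwa [comap_map_eq, comap_map_eq, hπ, QuotientGroup.ker_mk'] at h3
  by_cases hqH : q ∣ Nat.card H
  swap
  · -- coprime case
    have hcop : ∀ L : Subgroup G, Nat.card L = Nat.card H → L ⊓ N = ⊥ := fun L hL => by
      obtain ⟨k, hk⟩ := IsPGroup.iff_card.1 hNq
      refine Subgroup.card_eq_one.1 (Nat.eq_one_of_dvd_coprimes ?_ (card_dvd_of_le inf_le_left)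
        (hk ▸ card_dvd_of_le inf_le_right))
      rw [hL]
      exact ((hq.coprime_iff_not_dvd.2 hqH).symm).pow_right k
    obtain ⟨H', hH', hsup⟩ := reduce (by rw [hcop H rfl, hcop K hHK.symm])
    have hc' : Nat.card H' = Nat.card H := by
      obtain ⟨a, rfl⟩ := hH'
      exact card_map_of_injective (MulAut.conj a).injective
    obtain ⟨g, -, hg⟩ := Coprime.exists_conj_eq_of_le_sup (N := N) (H := H') (K := K)
      (by rw [Subgroup.normalizer_eq_top]; exact le_top) (hsup ▸ le_sup_left)
      (by rw [hc', hHK])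
      (by
        obtain ⟨k, hk⟩ := IsPGroup.iff_card.1 hNq
        rw [hc', hk]; exact ((hq.coprime_iff_not_dvd.2 hqH).symm).pow_right k)
      (Or.inl inferInstance)
    exact hH'.trans ⟨g, hg.symm.trans rfl⟩
  by_cases hNHK : N ≤ H ∧ N ≤ K
  · obtain ⟨H', hH', hsup⟩ := reduce (by rw [inf_eq_right.2 hNHK.1, inf_eq_right.2 hNHK.2])
    have hle : N ≤ H' := by
      obtain ⟨a, rfl⟩ := hH'
      intro x hx
      exact ⟨a⁻¹ * x * a⁻¹⁻¹, hNHK.1 (hN.conj_mem x hx a⁻¹), by simp [mul_assoc]⟩
    rw [sup_eq_left.2 hle, sup_eq_left.2 hNHK.2] at hsup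
    exact hsup ▸ hH'
  -- the Sylow `q`-subgroup is `N`
  obtain ⟨P, hNP⟩ := hNq.exists_le_sylow
  obtain ⟨⟨a, ha⟩, ha1⟩ := Subgroup.ne_bot_iff_exists_ne_one.1 hNne
  have hao : orderOf a = q := orderOf_eq_prime (hexp a ha) fun e => ha1 (Subtype.ext e)
  have hordN : ∀ x : G, orderOf x = q → x ∈ N := by
    intro x hx
    obtain ⟨g, hg⟩ := hD q hq (zpowers a) (zpowers x)
      (IsPGroup.of_card (n := 1) (by rw [Nat.card_zpowers, hao, pow_one]))
      (IsPGroup.of_card (n := 1) (by rw [Nat.card_zpowers, hx, pow_one]))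
      (by rw [Nat.card_zpowers, Nat.card_zpowers, hao, hx])
    obtain ⟨w, hw, hwx⟩ := hg ▸ mem_zpowers x
    rw [← hwx]
    exact hN.conj_mem w (zpowers_le.2 ha hw) g
  have hsmall : Nat.card N ≤ q → False := by
    intro hle
    have hall : ∀ L : Subgroup G, Nat.card L = Nat.card H → N ≤ L := by
      intro L hL
      obtain ⟨⟨x, hxL⟩, hx⟩ := exists_prime_orderOf_dvd_card' (G := L) q (hL ▸ hqH)
      rw [Subgroup.orderOf_mk] at hx
      have h1 : zpowers x = N := eq_of_le_of_card_ge (zpowers_le.2 (hordN x hx))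
        (by rw [Nat.card_zpowers, hx]; exact hle)
      rw [← h1]
      exact zpowers_le.2 hxL
    exact hNHK ⟨hall H rfl, hall K hHK.symm⟩
  have hiso : ∀ A B : Subgroup (P : Subgroup G), Nat.card A = Nat.card B → Nonempty (A ≃* B) := by
    intro A B hAB
    have hinj : Function.Injective (P : Subgroup G).subtype := Subgroup.subtype_injective _
    obtain ⟨g, hg⟩ := hD q hq (A.map (P : Subgroup G).subtype) (B.map (P : Subgroup G).subtype)
      ((P.2.to_subgroup A).map _) ((P.2.to_subgroup B).map _)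
      (by rw [card_map_of_injective hinj, card_map_of_injective hinj, hAB])
    exact ⟨(A.equivMapOfInjective _ hinj).trans (((A.map (P : Subgroup G).subtype).equivMapOfInjective
      _ (MulAut.conj g).injective).trans ((MulEquiv.subgroupCongr hg.symm).trans
        (B.equivMapOfInjective _ hinj).symm))⟩
  have hPN : (P : Subgroup G) ≤ N := by
    rcases IsoSubgroups.main P.2 hiso with h | ⟨-, he⟩ | ⟨rfl, ⟨e⟩⟩ | ⟨-, hc, -, he⟩
    · refine (hsmall ?_).elim
      haveI := h
      haveI : IsCyclic (N.subgroupOf (P : Subgroup G)) := inferInstance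
      haveI : IsCyclic N := isCyclic_of_surjective (subgroupOfEquivOfLe hNP).toMonoidHom
        (subgroupOfEquivOfLe hNP).surjective
      obtain ⟨x, hx⟩ := IsCyclic.exists_generator (α := N)
      rw [← orderOf_eq_card_of_forall_mem_zpowers hx]
      refine Nat.le_of_dvd hq.pos (orderOf_dvd_of_pow_eq_one (Subtype.ext ?_))
      exact hexp x x.2
    · intro x hx
      by_cases hx1 : x = 1
      · rw [hx1]; exact N.one_mem
      · exact hordN x (orderOf_eq_prime (congrArg Subtype.val (he ⟨x, hx⟩)) hx1)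
    · refine (hsmall ?_).elim
      rw [← Nat.card_congr (subgroupOfEquivOfLe hNP).toEquiv,
        ← card_map_of_injective (f := e.toMonoidHom) e.injective]
      refine card_le_two_of_sq _ ?_
      rintro _ ⟨y, hy, rfl⟩
      rw [← map_pow, show y ^ 2 = 1 from Subtype.ext (hexp (y : G) hy), map_one]
    · intro x hx
      by_cases hx1 : x = 1
      · rw [hx1]; exact N.one_mem
      · refine hordN x (orderOf_eq_prime ?_ hx1)
        have h1 := Monoid.pow_exponent_eq_one (G := (P : Subgroup G)) ⟨x, hx⟩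
        rw [he] at h1
        exact congrArg Subtype.val h1
  have hPeq : (P : Subgroup G) = N := le_antisymm hPN hNP
  have hNidx : ¬ q ∣ N.index := hPeq ▸ P.not_dvd_index
  have hmapcop : ∀ L : Subgroup G, (Nat.card (L.map π)).Coprime q := fun L => by
    refine (hq.coprime_iff_not_dvd.2 fun h => hNidx ?_).symm
    rw [N.index_eq_card]
    exact h.trans (L.map π).card_subgroup_dvd_card
  have hinter : ∀ L : Subgroup G,
      Nat.card (L ⊓ N : Subgroup G) = q ^ (Nat.card L).factorization q := by
    intro L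
    obtain ⟨j, hj⟩ := IsPGroup.iff_card.1 (hNq.to_le (inf_le_right : L ⊓ N ≤ N))
    rw [hj]
    congr 1
    rw [← cardSup L, hj, Nat.factorization_mul Nat.card_pos.ne' (pow_ne_zero _ hq.ne_zero),
      Finsupp.add_apply, Nat.factorization_eq_zero_of_not_dvd
        ((hq.coprime_iff_not_dvd).1 (hmapcop L).symm), zero_add, hq.factorization_pow,
      Finsupp.single_eq_same]
  -- align the intersections with `N`
  obtain ⟨g, hg⟩ := hD q hq (H ⊓ N) (K ⊓ N) (hNq.to_le inf_le_right) (hNq.to_le inf_le_right)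
    (by rw [hinter, hinter, hHK])
  set H₁ := H.map (MulAut.conj g).toMonoidHom with hH₁
  have hc1 : Nat.card H₁ = Nat.card H := card_map_of_injective (MulAut.conj g).injective
  set W := K ⊓ N with hW
  have hW1 : H₁ ⊓ N = W := by
    have hNmap : N.map (MulAut.conj g).toMonoidHom = N := by
      ext x
      constructor
      · rintro ⟨y, hy, rfl⟩
        exact hN.conj_mem y hy g
      · intro hx
        exact ⟨g⁻¹ * x * g⁻¹⁻¹, hN.conj_mem x hx g⁻¹, by simp [mul_assoc]⟩
    rw [hg, hH₁, map_inf _ _ _ (MulAut.conj g).injective, hNmap]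
  set M := normalizer (W : Set G) with hM
  have hnormW : ∀ L : Subgroup G, L ⊓ N = W → L ≤ M := fun L hL x hx => by
    rw [hM, mem_normalizer_iff]
    intro y
    rw [← hL]
    refine ⟨fun h => ⟨L.mul_mem (L.mul_mem hx h.1) (L.inv_mem hx), hN.conj_mem y h.2 x⟩, fun h => ⟨?_, ?_⟩⟩
    · have := L.mul_mem (L.mul_mem (L.inv_mem hx) h.1) hx
      simpa [mul_assoc] using this
    · have := hN.conj_mem _ h.2 x⁻¹
      simpa [mul_assoc] using this
  have hNM : N ≤ M := fun x hx => by
    rw [hM, mem_normalizer_iff]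
    intro y
    have hfix : ∀ y ∈ N, x * y * x⁻¹ = y := fun y hy => by
      have : x * y = y * x := congrArg Subtype.val
        (IsMulCommutative.is_comm.comm (⟨x, hx⟩ : N) ⟨y, hy⟩)
      rw [this, mul_inv_cancel_right]
    constructor
    · intro hy; rw [hfix y hy.2]; exact hy
    · intro hy
      have h1 : y ∈ N := by
        have := hN.conj_mem _ hy.2 x⁻¹
        simpa [mul_assoc] using this
      rwa [hfix y h1] at hy
  -- all Sylow subgroups of the image of `M` are cyclic
  have hMcyc : ∀ p : ℕ, p.Prime → ∀ R : Sylow p (M.map π), IsCyclic R := by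
    intro p hp R
    haveI : Fact p.Prime := ⟨hp⟩
    have hR : IsPGroup p ((R : Subgroup (M.map π)).map (M.map π).subtype) := R.2.map _
    haveI : IsCyclic ((R : Subgroup (M.map π)).map (M.map π).subtype) := by
      by_cases hpq : p = q
      · obtain ⟨k, hk⟩ := IsPGroup.iff_card.1 hR
        have hk0 : k = 0 := by
          by_contra hk0
          refine hNidx ?_
          rw [N.index_eq_card]
          have h1 := ((R : Subgroup (M.map π)).map (M.map π).subtype).card_subgroup_dvd_card
          rw [hk] at h1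
          exact hpq ▸ (dvd_pow_self p hk0).trans h1
        rw [hk0, pow_zero] at hk
        rw [Subgroup.card_eq_one.1 hk]
        infer_instance
      · obtain ⟨R', hR'⟩ := hR.exists_le_sylow
        haveI : IsCyclic R' := by
          by_cases hpr : p = r
          · have hqr : q ≠ r := fun e => hpq (hpr.trans e.symm)
            haveI := hcyc q hq hqr P
            refine (hsmall ?_).elim
            haveI : IsCyclic N := hPeq ▸ ‹IsCyclic (P : Subgroup G)›
            obtain ⟨x, hx⟩ := IsCyclic.exists_generator (α := N)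
            rw [← orderOf_eq_card_of_forall_mem_zpowers hx]
            exact Nat.le_of_dvd hq.pos (orderOf_dvd_of_pow_eq_one (Subtype.ext (hexp x x.2)))
          · exact cycExc_quotient hcyc N p hp hpr R'
        exact isCyclic_of_surjective (subgroupOfEquivOfLe hR').toMonoidHom
          (subgroupOfEquivOfLe hR').surjective
    exact isCyclic_of_surjective ((R : Subgroup (M.map π)).equivMapOfInjective _
      (M.map π).subtype_injective).symm.toMonoidHom (MulEquiv.surjective _)
  have hsub : ∀ L : Subgroup G, L ⊓ N = W → L.map π ≤ M.map π := fun L hL => map_mono (hnormW L hL)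
  obtain ⟨m', hm'⟩ := ih (M.map π) ((card_le_card_group _).trans hlt) (hasD_of_cyclic hMcyc) 0
    (fun p hp _ => hMcyc p hp) ((H₁.map π).subgroupOf (M.map π)) ((K.map π).subgroupOf (M.map π))
    (by
      rw [Nat.card_congr (subgroupOfEquivOfLe (hsub H₁ hW1)).toEquiv,
        Nat.card_congr (subgroupOfEquivOfLe (hsub K rfl)).toEquiv]
      have e1 := cardSup H₁
      have e2 := cardSup K
      rw [hW1] at e1
      rw [← hW] at e2
      rw [hc1, hHK] at e1
      exact Nat.eq_of_mul_eq_mul_right Nat.card_pos (e1.trans e2.symm))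
  obtain ⟨⟨_, m, hm, rfl⟩, rfl⟩ : ∃ z : M.map π, z = m' := ⟨m', rfl⟩
  set H₂ := H₁.map (MulAut.conj m).toMonoidHom with hH₂
  have hc2 : Nat.card H₂ = Nat.card H₁ := card_map_of_injective (MulAut.conj m).injective
  have hW2 : H₂ ⊓ N = W := by
    ext x
    constructor
    · rintro ⟨⟨y, hy, rfl⟩, hxN⟩
      have hyN : y ∈ N := by
        have h1 : m⁻¹ * (m * y * m⁻¹) * m⁻¹⁻¹ ∈ N := hN.conj_mem _ hxN m⁻¹
        simpa [mul_assoc] using h1
      exact (mem_normalizer_iff.1 hm y).1 (hW1 ▸ ⟨hy, hyN⟩ : y ∈ W)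
    · intro hx
      refine ⟨⟨m⁻¹ * x * m, ?_, by simp [mul_assoc]⟩, hx.2⟩
      have h1 : m⁻¹ * x * m ∈ W := by
        have := (mem_normalizer_iff.1 (inv_mem hm) x).1 hx
        rwa [inv_inv] at this
      exact (hW1.symm ▸ h1 : m⁻¹ * x * m ∈ H₁ ⊓ N).1
  have hsup : H₂ ⊔ N = K ⊔ N := by
    have h1 : H₂.map π = K.map π := by
      have h2 := congrArg (map (M.map π).subtype) hm'
      rw [map_subgroupOf_eq_of_le (hsub K rfl), map_map] at h2
      have e : (M.map π).subtype.comp (MulAut.conj (⟨π m, mem_map_of_mem π hm⟩ : M.map π)).toMonoidHom =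
          ((MulAut.conj (π m)).toMonoidHom).comp (M.map π).subtype := by
        ext x; rfl
      erw [e, ← map_map, map_subgroupOf_eq_of_le (hsub H₁ hW1)] at h2
      rw [h2, hH₂, Subgroup.map_map H₁, Subgroup.map_map H₁]
      exact congrArg (fun f => map f H₁) (MonoidHom.ext fun y => rfl)
    have h3 := congrArg (comap π) h1
    rwa [comap_map_eq, comap_map_eq, hπ, QuotientGroup.ker_mk'] at h3
  -- complements of `W`
  have compl : ∀ L : Subgroup G, Nat.card L = Nat.card H → L ⊓ N = W →
      ∃ J : Subgroup G, J ≤ L ∧ W ⊔ J = L ∧ (Nat.card J).Coprime q ∧ Nat.card W * Nat.card J = Nat.card L := by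
    intro L hLc hLW
    have hWL : W ≤ L := hLW ▸ inf_le_left
    haveI : (W.subgroupOf L).Normal := ⟨fun x hx y => by
      rw [mem_subgroupOf] at hx ⊢
      have h1 := (mem_normalizer_iff.1 (hnormW L hLW y.2) _).1 hx
      exact h1⟩
    have hidx : (W.subgroupOf L).index = Nat.card (L.map π) := by
      have h1 := (W.subgroupOf L).card_mul_index
      rw [Nat.card_congr (subgroupOfEquivOfLe hWL).toEquiv] at h1
      have h2 := cardSup L
      rw [hLW, mul_comm] at h2
      exact Nat.eq_of_mul_eq_mul_left Nat.card_pos (h1.trans h2.symm)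
    obtain ⟨J, hJ⟩ := exists_right_complement'_of_coprime (N := W.subgroupOf L) (by
      rw [Nat.card_congr (subgroupOfEquivOfLe hWL).toEquiv, hidx]
      obtain ⟨j, hj⟩ := IsPGroup.iff_card.1 (hNq.to_le (inf_le_right : W ≤ N))
      rw [hj]
      exact ((hmapcop L).pow_right j).symm)
    have hJc : Nat.card J = (W.subgroupOf L).index := by
      have h1 := hJ.card_mul_card
      rw [← (W.subgroupOf L).card_mul_index] at h1
      exact Nat.eq_of_mul_eq_mul_left Nat.card_pos h1
    refine ⟨J.map L.subtype, map_subtype_le _, ?_, ?_, ?_⟩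
    · rw [← map_subgroupOf_eq_of_le hWL, ← Subgroup.map_sup, hJ.sup_eq_top, ← MonoidHom.range_eq_map,
        range_subtype]
    · rw [card_map_of_injective L.subtype_injective, hJc, hidx]; exact hmapcop L
    · rw [card_map_of_injective L.subtype_injective, hJc,
        ← Nat.card_congr (subgroupOfEquivOfLe hWL).toEquiv, card_mul_index]
  obtain ⟨J₂, hJ₂le, hJ₂, hJ₂q, hJ₂c⟩ := compl H₂ (hc2.trans hc1) hW2
  obtain ⟨J, hJle, hJ, hJq, hJc⟩ := compl K hHK.symm rfl
  have hJeq : Nat.card J = Nat.card J₂ := by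
    refine Nat.eq_of_mul_eq_mul_left (Nat.card_pos (α := W)) ?_
    rw [hJc, hJ₂c, hc2, hc1, hHK]
  obtain ⟨x, hxN, hx⟩ := Coprime.exists_conj_eq_of_le_sup (N := N) (H := J₂) (K := J)
    (by rw [Subgroup.normalizer_eq_top]; exact le_top)
    (by
      refine hJle.trans ((le_sup_left : K ≤ K ⊔ N).trans ?_)
      rw [← hsup, ← hJ₂]
      exact sup_le (sup_le ((inf_le_right : W ≤ N).trans le_sup_right) le_sup_left) le_sup_right)
    hJeq
    (by
      obtain ⟨k, hk⟩ := IsPGroup.iff_card.1 hNq
      rw [hk]; exact hJ₂q.pow_right k)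
    (Or.inl inferInstance)
  have hWx : W.map (MulAut.conj x).toMonoidHom = W := by
    have hfix : ∀ y ∈ W, x * y * x⁻¹ = y := fun y hy => by
      have : x * y = y * x := congrArg Subtype.val
        (IsMulCommutative.is_comm.comm (⟨x, hxN⟩ : N) ⟨y, hy.2⟩)
      rw [this, mul_inv_cancel_right]
    ext y
    constructor
    · rintro ⟨z, hz, rfl⟩
      show x * z * x⁻¹ ∈ W
      rw [hfix z hz]; exact hz
    · intro hy
      exact ⟨y, hy, hfix y hy⟩
  have hfinal : K = H₂.map (MulAut.conj x).toMonoidHom := by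
    rw [← hJ₂, Subgroup.map_sup, hWx, ← hJ]
    exact congrArg (W ⊔ ·) hx.symm
  exact (ConjTo.trans ⟨g, rfl⟩ ⟨m, rfl⟩).trans ⟨x, hfinal⟩


/-- Let G be a finite solvable group in which, for every prime p, any two p-subgroups of the same order are conjugate, and suppose the Sylow p-subgroups of G are cyclic for all primes p with at most one exception. Then any two subgroups of G of the same order are conjugate. -/
theorem result {G : Type*} [Group G] [Finite G]
    [Group.IsSolvable G] (hD : ∀ p : ℕ, p.Prime → ∀ H K : Subgroup G, IsPGroup p H → IsPGroup p K → Nat.card H = Nat.card K →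
      ∃ g : G, K = H.map (MulAut.conj g).toMonoidHom)
    (r : ℕ) (hcyc : ∀ p : ℕ, p.Prime → p ≠ r → ∀ P : Sylow p G, IsCyclic P) :
    ∀ H K : Subgroup G, Nat.card H = Nat.card K → ∃ g : G, K = H.map (MulAut.conj g).toMonoidHom := by
  exact fun H K h => conj_aux _ G le_rfl hD r hcyc H K h

end Cfsg.Agent.S4022
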