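import Cfsg.Statements.S4024
import Cfsg.Agent.Lib.IsoSubgroups.Basic
import Cfsg.Agent.Lib.PCore.Basic
import Cfsg.Agent.Lib.PCore.PSolvable
-- import your own Cfsg.Agent.* helpers here

set_option autoImplicit false
open Cfsg Subgroup

namespace Cfsg.Agent.S4024

/-- Let p be an odd prime and G a finite group in which any two p-subgroups of the same order are conjugate, with Sylow p-subgroup P. If H is a normal p-solvable subgroup of G whose order is divisible by p, then P is abelian, and either P ≤ H or P is cyclic. -/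
theorem result {G : Type*} [Group G] [Finite G]
    {p : ℕ} [Fact p.Prime] (hp : p ≠ 2) (hC : ∀ H K : Subgroup G, IsPGroup p H → IsPGroup p K → Nat.card H = Nat.card K →
      ∃ g : G, K = H.map (MulAut.conj g).toMonoidHom) (P : Sylow p G)
    (H : Subgroup G) [H.Normal] (hsolv : Cfsg.IsPSolvable p H) (hdiv : p ∣ Nat.card H) :
    IsMulCommutative P ∧ ((P : Subgroup G) ≤ H ∨ IsCyclic P) := by
  classical
  haveI hp' : p.Prime := Fact.out
  have hiso : ∀ H K : Subgroup (P : Subgroup G), Nat.card H = Nat.card K → Nonempty (H ≃* K) := by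
    intro H K hHK
    have hinj : Function.Injective (P : Subgroup G).subtype := Subgroup.subtype_injective _
    obtain ⟨g, hg⟩ := hC (H.map (P : Subgroup G).subtype) (K.map (P : Subgroup G).subtype)
      ((P.2.to_subgroup H).map _) ((P.2.to_subgroup K).map _)
      (by rw [card_map_of_injective hinj, card_map_of_injective hinj, hHK])
    exact ⟨(H.equivMapOfInjective _ hinj).trans (((H.map (P : Subgroup G).subtype).equivMapOfInjective
      _ (MulAut.conj g).injective).trans ((MulEquiv.subgroupCongr hg.symm).trans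
        (K.equivMapOfInjective _ hinj).symm))⟩
  set R := Cfsg.pPrimeCore p G with hR
  set π := QuotientGroup.mk' R with hπ
  have hRcop : (Nat.card R).Coprime p := PCore.coprime_card_pPrimeCore
  have hP1 : ∀ y ∈ (P : Subgroup G), y ∈ R → y = 1 := fun y hy hyR => by
    obtain ⟨k, hk⟩ := IsPGroup.iff_card.1 P.2
    exact orderOf_eq_one_iff.1 (Nat.eq_one_of_dvd_coprimes (hRcop.pow_right k)
      (orderOf_dvd_natCard _ hyR) (hk ▸ orderOf_dvd_natCard _ hy))
  haveI : (H.map π).Normal := Normal.map inferInstance π (QuotientGroup.mk'_surjective R)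
  obtain ⟨h₀, hh₀⟩ := exists_prime_orderOf_dvd_card' (G := H) p hdiv
  haveI : Nontrivial (H.map π) := by
    rw [nontrivial_iff_ne_bot, Ne, Subgroup.map_eq_bot_iff, hπ, QuotientGroup.ker_mk']
    intro hle
    have h1 : p ∣ Nat.card R := by
      rw [← hh₀, ← Subgroup.orderOf_coe]; exact orderOf_dvd_natCard _ (hle h₀.2)
    exact hp'.ne_one (Nat.eq_one_of_dvd_coprimes hRcop h1 dvd_rfl)
  have hps : Cfsg.IsPSolvable p (H.map π) :=
    PCore.isPSolvable_of_surjective (π.subgroupMap H) (π.subgroupMap_surjective H) hsolv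
  have hcore : Cfsg.pCore p (H.map π) ≠ ⊥ := by
    refine (PCore.pCore_ne_bot_or_pPrimeCore_ne_bot hps).resolve_right fun h => h ?_
    have h1 : (Cfsg.pPrimeCore p (H.map π)).map (H.map π).subtype ≤ Cfsg.pPrimeCore p (G ⧸ R) :=
      PCore.le_pPrimeCore
        (by rw [card_map_of_injective (Subgroup.subtype_injective _)]
            exact PCore.coprime_card_pPrimeCore)
    replace h1 := h1.trans (PCore.pPrimeCore_quotient_self_eq_bot (G := G) (p := p)).le
    rw [le_bot_iff,
      map_eq_bot_iff_of_injective _ (Subgroup.subtype_injective _)] at h1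
    exact h1
  set U := (Cfsg.pCore p (H.map π)).map (H.map π).subtype with hU
  haveI hUn : U.Normal := PCore.map_pCore_subtype_normal (H.map π)
  have hUp : IsPGroup p U := PCore.isPGroup_pCore.map _
  have hUne : U ≠ ⊥ := fun e =>
    hcore ((map_eq_bot_iff_of_injective _ (Subgroup.subtype_injective _)).1 e)
  have hUP : U ≤ (P : Subgroup G).map π := by
    have h1 := PCore.le_pCore (p := p) hUp
    exact h1.trans (PCore.pCore_le_sylow (P.mapSurjective (f := π) (QuotientGroup.mk'_surjective R)))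
  -- the exponent-`p` case
  have key : (∀ y ∈ (P : Subgroup G), y ^ p = 1) →
      (P : Subgroup G) ≤ H ∧ (P : Subgroup G).map π ≤ U := by
    intro hexp
    obtain ⟨v, hv, hv1⟩ := U.bot_or_exists_ne_one.resolve_left hUne
    obtain ⟨x, hxP, rfl⟩ := hUP hv
    have hx1 : x ≠ 1 := fun e => hv1 (by rw [e, map_one])
    have hmem : ∀ y ∈ (P : Subgroup G), π y ∈ U := by
      intro y hy
      by_cases hy1 : y = 1
      · rw [hy1, map_one]; exact U.one_mem
      obtain ⟨g, hg⟩ := hC (zpowers x) (zpowers y)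
        (IsPGroup.of_card (n := 1) (by rw [Nat.card_zpowers, orderOf_eq_prime (hexp x hxP) hx1, pow_one]))
        (IsPGroup.of_card (n := 1) (by rw [Nat.card_zpowers, orderOf_eq_prime (hexp y hy) hy1, pow_one]))
        (by rw [Nat.card_zpowers, Nat.card_zpowers, orderOf_eq_prime (hexp x hxP) hx1,
          orderOf_eq_prime (hexp y hy) hy1])
      obtain ⟨w, ⟨k, rfl⟩, hwy⟩ := hg ▸ mem_zpowers y
      rw [← hwy]
      show π (g * x ^ k * g⁻¹) ∈ U
      rw [map_mul, map_mul, map_inv, map_zpow]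
      exact hUn.conj_mem _ (zpow_mem hv k) _
    refine ⟨fun y hy => ?_, map_le_iff_le_comap.2 hmem⟩
    obtain ⟨h, hh, hhy⟩ := map_subtype_le _ (hmem y hy)
    have hr : h⁻¹ * y ∈ R := QuotientGroup.eq.1 hhy
    have e : QuotientGroup.mk' H (h⁻¹ * y) = QuotientGroup.mk' H y := by
      rw [map_mul, map_inv, show QuotientGroup.mk' H h = 1 from (QuotientGroup.eq_one_iff h).2 hh,
        inv_one, one_mul]
    obtain ⟨k, hk⟩ := IsPGroup.iff_card.1 P.2
    have h1 : orderOf (QuotientGroup.mk' H y) ∣ p ^ k :=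
      (orderOf_map_dvd _ y).trans (hk ▸ orderOf_dvd_natCard _ hy)
    have h2 : orderOf (QuotientGroup.mk' H y) ∣ Nat.card R := by
      rw [← e]; exact (orderOf_map_dvd _ _).trans (orderOf_dvd_natCard _ hr)
    exact (QuotientGroup.eq_one_iff y).1
      (orderOf_eq_one_iff.1 (Nat.eq_one_of_dvd_coprimes (hRcop.pow_right k) h2 h1))
  rcases IsoSubgroups.main P.2 hiso with h | ⟨hc, he⟩ | ⟨h2, -⟩ | ⟨-, hc, hcard, he⟩
  · exact ⟨IsCyclic.isMulCommutative, Or.inr h⟩
  · exact ⟨⟨⟨hc⟩⟩, Or.inl (key fun y hy => congrArg Subtype.val (he ⟨y, hy⟩)).1⟩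
  · exact absurd h2 hp
  -- the extraspecial case is impossible
  exfalso
  have hexp : ∀ y ∈ (P : Subgroup G), y ^ p = 1 := fun y hy => by
    have h1 := Monoid.pow_exponent_eq_one (G := (P : Subgroup G)) ⟨y, hy⟩
    rw [he] at h1
    exact congrArg Subtype.val h1
  obtain ⟨-, hPU⟩ := key hexp
  have hUeq : (P : Subgroup G).map π = U := le_antisymm hPU hUP
  haveI : Nontrivial (P : Subgroup G) := by
    refine Finite.one_lt_card_iff_nontrivial.1 ?_
    rw [hcard]; exact Nat.one_lt_pow (by norm_num) hp'.one_lt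
  haveI := P.2.center_nontrivial
  obtain ⟨⟨⟨z, hzP⟩, hzc⟩, hz1⟩ := exists_ne (1 : center (P : Subgroup G))
  have hz1' : z ≠ 1 := fun e => hz1 (Subtype.ext (Subtype.ext e))
  obtain ⟨⟨w, hwP⟩, hw⟩ : ∃ w : (P : Subgroup G), w ∉ center (P : Subgroup G) := by
    by_contra h
    push Not at h
    exact hc fun a b => mem_center_iff.1 (h b) a
  have hw1 : w ≠ 1 := fun e => hw (by
    rw [show (⟨w, hwP⟩ : (P : Subgroup G)) = 1 from Subtype.ext e]; exact one_mem _)
  obtain ⟨g, hg⟩ := hC (zpowers z) (zpowers w)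
    (IsPGroup.of_card (n := 1) (by rw [Nat.card_zpowers, orderOf_eq_prime (hexp z hzP) hz1', pow_one]))
    (IsPGroup.of_card (n := 1) (by rw [Nat.card_zpowers, orderOf_eq_prime (hexp w hwP) hw1, pow_one]))
    (by rw [Nat.card_zpowers, Nat.card_zpowers, orderOf_eq_prime (hexp z hzP) hz1',
      orderOf_eq_prime (hexp w hwP) hw1])
  obtain ⟨_, ⟨k, rfl⟩, hwk⟩ := hg ▸ mem_zpowers w
  have hwk' : π g * π z ^ k * (π g)⁻¹ = π w := by
    rw [← map_zpow, ← map_inv, ← map_mul, ← map_mul]
    exact congrArg π hwk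
  refine hw (mem_center_iff.2 fun y => Subtype.ext ?_)
  have hy2 : (π g)⁻¹ * π (y : G) * π g ∈ U := by
    have := hUn.conj_mem _ (hPU (mem_map_of_mem π y.2)) (π g)⁻¹
    rwa [inv_inv] at this
  rw [← hUeq] at hy2
  obtain ⟨y', hy', hy'e⟩ := hy2
  have hcy : Commute (π y') (π z) := by
    have : y' * z = z * y' := congrArg Subtype.val (mem_center_iff.1 hzc ⟨y', hy'⟩)
    show π y' * π z = π z * π y'
    rw [← map_mul, ← map_mul, this]
  have hcomm : π (y : G) * π w = π w * π (y : G) := by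
    rw [← hwk', show π (y : G) = π g * π y' * (π g)⁻¹ by rw [hy'e]; group,
      show π g * π y' * (π g)⁻¹ * (π g * π z ^ k * (π g)⁻¹) = π g * (π y' * π z ^ k) * (π g)⁻¹ by group,
      (hcy.zpow_right k).eq]
    group
  show (y : G) * w = w * (y : G)
  rw [← map_mul, ← map_mul] at hcomm
  have hr := QuotientGroup.eq.1 hcomm
  have h1 := hP1 _ (mul_mem (inv_mem (mul_mem y.2 hwP)) (mul_mem hwP y.2)) hr
  exact inv_mul_eq_one.1 h1

end Cfsg.Agent.S4024
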