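import Cfsg.Statements.S4028
import Cfsg.Agent.S3985
import Cfsg.Agent.Lib.Coprime.Basic
import Mathlib.Tactic.Ring

set_option autoImplicit false
open Cfsg

namespace Cfsg.Agent.S4028

/-- Let G be a finite group with Sylow 2-subgroup P. Then N_G(⟨x⟩) = C_G(x) holds for every 2-element x of G if and only if N_P(⟨y⟩) = C_P(y) holds for every y ∈ P (computed inside P). -/
theorem result {G : Type*} [Group G] [Finite G] (P : Sylow 2 G) :
    (∀ x : G, (∀ r : ℕ, r.Prime → r ∣ orderOf x → r = 2) →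
      Subgroup.normalizer ((Subgroup.zpowers x : Subgroup G) : Set G) ≤ Subgroup.centralizer {x}) ↔
    (∀ y : ↥(P : Subgroup G), Subgroup.normalizer ((Subgroup.zpowers y : Subgroup ↥(P : Subgroup G)) : Set ↥(P : Subgroup G)) ≤
        Subgroup.centralizer {y}) := by
  have h2 : Nat.Prime 2 := Nat.prime_two
  constructor
  · intro h y g hg
    rw [Subgroup.mem_centralizer_singleton_iff]
    have hy : ∀ r : ℕ, r.Prime → r ∣ orderOf (y : G) → r = 2 := by
      intro r hr hd
      obtain ⟨k, hk⟩ := P.isPGroup' y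
      exact (Nat.prime_dvd_prime_iff_eq hr h2).1 (hr.dvd_of_dvd_pow
        (hd.trans (orderOf_dvd_of_pow_eq_one (congrArg Subtype.val hk))))
    have hgn : (g : G) ∈ Subgroup.normalizer ((Subgroup.zpowers (y : G) : Subgroup G) : Set G) := by
      have hmap : (Subgroup.zpowers y).map (P : Subgroup G).subtype = Subgroup.zpowers (y : G) :=
        MonoidHom.map_zpowers _ _
      rw [← hmap]
      exact Subgroup.le_normalizer_map _ (Subgroup.mem_map_of_mem _ hg)
    have := h (y : G) hy hgn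
    rw [Subgroup.mem_centralizer_singleton_iff] at this
    exact Subtype.ext this
  · intro h x hx g hg
    rw [Subgroup.mem_centralizer_singleton_iff]
    obtain ⟨n, hn⟩ : ∃ n, orderOf x = 2 ^ n := ⟨_, Nat.eq_prime_pow_of_unique_prime_dvd
      (orderOf_pos x).ne' fun {d} hd hdx => hx d hd hdx⟩
    by_cases hx1 : x = 1
    · rw [hx1, mul_one, one_mul]
    obtain ⟨r, hr⟩ : g * x * g⁻¹ ∈ Subgroup.zpowers x :=
      (Subgroup.mem_normalizer_iff.1 hg x).1 (Subgroup.mem_zpowers x)
    have hr2 : (2 : ℤ) ∣ r - 1 := by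
      by_contra hodd
      obtain ⟨c, rfl⟩ : (2 : ℤ) ∣ r := by omega
      obtain ⟨n', rfl⟩ : ∃ n', n = n' + 1 := ⟨n - 1, (Nat.sub_add_cancel (Nat.pos_of_ne_zero
        fun h => hx1 (orderOf_eq_one_iff.1 (by rw [hn, h, pow_zero])))).symm⟩
      have h1 : (g * x * g⁻¹) ^ 2 ^ n' = 1 := by
        rw [show g * x * g⁻¹ = x ^ (2 * c) from hr.symm, ← zpow_natCast, ← zpow_mul]
        rw [show (2 * c) * ((2 ^ n' : ℕ) : ℤ) = ((2 ^ (n' + 1) : ℕ) : ℤ) * c by push_cast; ring,
          zpow_mul, zpow_natCast, ← hn, pow_orderOf_eq_one, one_zpow]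
      rw [conj_pow, conj_eq_one_iff] at h1
      have := orderOf_dvd_of_pow_eq_one h1
      rw [hn, Nat.pow_dvd_pow_iff_le_right (by norm_num)] at this
      omega
    have hg2 := S3985.commute_pow_of_conj_eq_zpow (p := 2) (n := n) hr.symm
      (by rw [← hn, pow_orderOf_eq_one]) hr2
    obtain ⟨m, hm, hgm⟩ := Nat.exists_eq_pow_mul_and_not_dvd (orderOf_pos g).ne' 2 (by norm_num)
    suffices hc : Commute (g ^ hm) x by
      have : g ∈ Subgroup.centralizer {x} :=
        S3985.mem_of_pow_mem_of_pow_mem (i := 2 ^ n) (j := hm)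
          (Nat.Coprime.pow_left n (h2.coprime_iff_not_dvd.2 hgm.1))
          (Subgroup.mem_centralizer_singleton_iff.2 hg2.eq)
          (Subgroup.mem_centralizer_singleton_iff.2 hc.eq)
      exact Subgroup.mem_centralizer_singleton_iff.1 this
    -- `x` and the `2`-part of `g` lie in a conjugate of `P`
    have hz : IsPGroup 2 (Subgroup.zpowers (g ^ hm)) := by
      refine IsPGroup.of_card (n := m) ?_
      rw [Nat.card_zpowers, orderOf_pow, hgm.2, Nat.gcd_mul_left_left, Nat.mul_div_cancel _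
        (Nat.pos_of_ne_zero fun h => by
          rw [h, mul_zero] at hgm; exact (orderOf_pos g).ne' hgm.2)]
    have hzx : IsPGroup 2 (Subgroup.zpowers x) :=
      IsPGroup.of_card (n := n) (by rw [Nat.card_zpowers, hn])
    obtain ⟨Q, hQ⟩ := (hz.to_sup_of_normal_right' hzx
      (Subgroup.zpowers_le.2 (pow_mem hg _))).exists_le_sylow
    obtain ⟨a, rfl⟩ := MulAction.exists_smul_eq G P Q
    have hmem : ∀ u, u ∈ ((a • P : Sylow 2 G) : Subgroup G) → a⁻¹ * u * a ∈ (P : Subgroup G) := by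
      intro u hu
      rwa [Sylow.coe_subgroup_smul, Coprime.mem_conj_smul_iff] at hu
    let y : (P : Subgroup G) := ⟨_, hmem x (hQ (Subgroup.mem_sup_right (Subgroup.mem_zpowers x)))⟩
    let z : (P : Subgroup G) :=
      ⟨_, hmem _ (hQ (Subgroup.mem_sup_left (Subgroup.mem_zpowers (g ^ hm))))⟩
    have hzy : z ∈ Subgroup.normalizer ((Subgroup.zpowers y : Subgroup (P : Subgroup G)) : Set (P : Subgroup G)) := by
      have hN := pow_mem hg hm
      rw [Subgroup.mem_normalizer_iff] at hN ⊢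
      intro w
      have hw : ∀ u : (P : Subgroup G), u ∈ Subgroup.zpowers y ↔
          a * (u : G) * a⁻¹ ∈ Subgroup.zpowers x := by
        intro u
        simp only [Subgroup.mem_zpowers_iff]
        refine exists_congr fun i => ?_
        rw [Subtype.ext_iff, Subgroup.coe_zpow]
        show (a⁻¹ * x * a) ^ i = (u : G) ↔ _
        have e : (a⁻¹ * x * a) ^ i = a⁻¹ * x ^ i * a := by
          simpa using (conj_zpow (a := a⁻¹) (b := x) (i := i))
        rw [e]
        constructor
        · intro hh; rw [← hh]; group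
        · intro hh; rw [hh]; group
      rw [hw, hw, hN (a * (w : G) * a⁻¹)]
      show _ ↔ a * (a⁻¹ * g ^ hm * a * (w : G) * (a⁻¹ * g ^ hm * a)⁻¹) * a⁻¹ ∈ _
      rw [show a * (a⁻¹ * g ^ hm * a * (w : G) * (a⁻¹ * g ^ hm * a)⁻¹) * a⁻¹ =
        g ^ hm * (a * (w : G) * a⁻¹) * (g ^ hm)⁻¹ by group]
    have := congrArg Subtype.val (Subgroup.mem_centralizer_singleton_iff.1 (h y hzy))
    show g ^ hm * x = x * g ^ hm
    have e : a⁻¹ * g ^ hm * a * (a⁻¹ * x * a) = a⁻¹ * x * a * (a⁻¹ * g ^ hm * a) := this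
    calc g ^ hm * x = a * (a⁻¹ * g ^ hm * a * (a⁻¹ * x * a)) * a⁻¹ := by group
      _ = a * (a⁻¹ * x * a * (a⁻¹ * g ^ hm * a)) * a⁻¹ := by rw [e]
      _ = x * g ^ hm := by group

end Cfsg.Agent.S4028
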