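import Cfsg.Statements.S4029
import Cfsg.Agent.Lib.Char.BrauerPermChar
import Cfsg.Agent.Lib.Char.Linear
import Cfsg.Agent.Lib.PGroup.Frattini

set_option autoImplicit false
open Cfsg

namespace Cfsg.Agent.S4029

theorem map_top_lowerCentralSeries_one {P : Type*} [Group P] (N : Subgroup P) [N.Normal] :
    (commutator P).map (QuotientGroup.mk' N) = commutator (P ⧸ N) := by
  rw [commutator_def, commutator_def, Subgroup.map_commutator,
    Subgroup.map_top_of_surjective _ (QuotientGroup.mk'_surjective N)]

/-- Let P be a finite 2-group in which N_P(⟨y⟩) = C_P(y) for every y ∈ P. If s is the number of conjugacy classes of involutions of P, then #(P/Φ(P)) ≤ s + 1; in particular the subgroup generated by the involutions of P has order at least #(P/Φ(P)). -/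
theorem result {P : Type*} [Group P] [Finite P] (hP : IsPGroup 2 P)
    (hirr : ∀ y : P, Subgroup.normalizer ((Subgroup.zpowers y : Subgroup P) : Set P) ≤ Subgroup.centralizer {y}) :
    Nat.card (P ⧸ frattini P) ≤ Nat.card {c : ConjClasses P // ∃ y : P, ConjClasses.mk y = c ∧ orderOf y = 2} + 1 ∧
    Nat.card (P ⧸ frattini P) ≤ Nat.card (Subgroup.closure {y : P | orderOf y = 2}) := by
  classical
  have : Fact (Nat.Prime 2) := ⟨Nat.prime_two⟩
  let _ := Fintype.ofFinite P
  set I := {c : ConjClasses P // ∃ y : P, ConjClasses.mk y = c ∧ orderOf y = 2}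
  have : Finite (ConjClasses P) := Finite.of_surjective _ ConjClasses.mk_surjective
  have : Finite I := Subtype.finite
  -- involution classes inside the subgroup generated by involutions
  have h2 : Nat.card I + 1 ≤ Nat.card (Subgroup.closure {y : P | orderOf y = 2}) := by
    rw [← Finite.card_option]
    let f : Option I → Subgroup.closure {y : P | orderOf y = 2} := fun o =>
      o.elim 1 (fun c => ⟨c.2.choose, Subgroup.subset_closure c.2.choose_spec.2⟩)
    refine Nat.card_le_card_of_injective f ?_
    intro a b h
    have h' := congrArg Subtype.val h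
    match a, b with
    | none, none => rfl
    | none, some c =>
      exfalso
      have := c.2.choose_spec.2
      rw [← show (1 : P) = c.2.choose from h', orderOf_one] at this
      norm_num at this
    | some c, none =>
      exfalso
      have := c.2.choose_spec.2
      rw [show c.2.choose = (1 : P) from h', orderOf_one] at this
      norm_num at this
    | some c, some d =>
      have h'' : c.2.choose = d.2.choose := h'
      exact congrArg some (Subtype.ext (by rw [← c.2.choose_spec.1, h'', d.2.choose_spec.1]))
  suffices h1 : Nat.card (P ⧸ frattini P) ≤ Nat.card I + 1 from ⟨h1, h1.trans h2⟩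
  -- real classes
  have hreal : Nat.card {c : ConjClasses P // Char.classInvPerm c = c} ≤ Nat.card I + 1 := by
    rw [← Finite.card_option]
    have hcl : ∀ c : {c : ConjClasses P // Char.classInvPerm c = c},
        c.1 = ConjClasses.mk 1 ∨ ∃ y : P, ConjClasses.mk y = c.1 ∧ orderOf y = 2 := by
      rintro ⟨c, hc⟩
      obtain ⟨x, rfl⟩ := ConjClasses.mk_surjective c
      rw [Char.classInvPerm_mk, ConjClasses.mk_eq_mk_iff_isConj] at hc
      obtain ⟨g, hg⟩ := isConj_iff.1 hc.symm
      have hgN : g ∈ Subgroup.normalizer ((Subgroup.zpowers x : Subgroup P) : Set P) := by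
        rw [Subgroup.mem_normalizer_iff]
        intro h
        constructor
        · rintro ⟨i, rfl⟩
          exact ⟨-i, by show x ^ (-i) = g * x ^ i * g⁻¹; rw [← conj_zpow, hg, inv_zpow, zpow_neg]⟩
        · rintro ⟨i, hi⟩
          refine ⟨-i, mul_left_cancel (a := g) (mul_right_cancel (b := g⁻¹) ?_)⟩
          show g * x ^ (-i) * g⁻¹ = g * h * g⁻¹
          rw [← show x ^ i = g * h * g⁻¹ from hi, ← conj_zpow, hg, inv_zpow, zpow_neg, inv_inv]
      have hc2 := Subgroup.mem_centralizer_singleton_iff.1 (hirr x hgN)
      rw [hc2, mul_inv_cancel_right] at hg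
      by_cases hx : x = 1
      · exact Or.inl (congrArg ConjClasses.mk hx)
      · refine Or.inr ⟨x, rfl, orderOf_eq_prime ?_ hx⟩
        rw [sq]
        nth_rw 2 [hg]
        exact mul_inv_cancel x
    let f : {c : ConjClasses P // Char.classInvPerm c = c} → Option I := fun c =>
      if h : ∃ y : P, ConjClasses.mk y = c.1 ∧ orderOf y = 2 then some ⟨c.1, h⟩ else none
    refine Nat.card_le_card_of_injective f ?_
    intro a b h
    simp only [f] at h
    by_cases ha : ∃ y : P, ConjClasses.mk y = a.1 ∧ orderOf y = 2
    · by_cases hb : ∃ y : P, ConjClasses.mk y = b.1 ∧ orderOf y = 2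
      · rw [dif_pos ha, dif_pos hb] at h
        exact Subtype.ext (congrArg Subtype.val (Option.some_injective _ h) :)
      · rw [dif_pos ha, dif_neg hb] at h
        exact absurd h (Option.some_ne_none _)
    · by_cases hb : ∃ y : P, ConjClasses.mk y = b.1 ∧ orderOf y = 2
      · rw [dif_neg ha, dif_pos hb] at h
        exact absurd h.symm (Option.some_ne_none _)
      · exact Subtype.ext (((hcl a).resolve_right ha).trans ((hcl b).resolve_right hb).symm)
  rw [← Char.card_fixed_irr_eq_card_fixed_classes (Char.conjPerm (G := P)) Char.classInvPerm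
    Char.classValue_conjPerm] at hreal
  refine le_trans ?_ hreal
  -- the characters of the Frattini quotient are real
  have hcomm : commutator (P ⧸ frattini P) = ⊥ := by
    rw [← map_top_lowerCentralSeries_one (frattini P), Subgroup.map_eq_bot_iff, QuotientGroup.ker_mk']
    exact PGroup.commutator_le_frattini hP
  have hq : Nat.card (P ⧸ frattini P →* ℂ) = Nat.card (P ⧸ frattini P) := by
    rw [Char.card_monoidHom_complex, hcomm, Subgroup.index_bot]
  rw [← hq]
  refine Nat.card_le_card_of_injective
    (fun lam => ⟨Char.linIrr (lam.comp (QuotientGroup.mk' (frattini P))), ?_⟩) ?_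
  · refine Subtype.ext (funext fun x => ?_)
    rw [Char.conjPerm_apply, Char.conjIrr_apply]
    show (starRingEnd ℂ) (lam (x : P ⧸ frattini P)) = lam (x : P ⧸ frattini P)
    have hsq : lam (x : P ⧸ frattini P) ^ 2 = 1 := by
      rw [← map_pow, ← QuotientGroup.mk_pow,
        (QuotientGroup.eq_one_iff _).2 (PGroup.pow_mem_frattini hP x), map_one]
    rcases sq_eq_one_iff.1 hsq with h | h <;> rw [h] <;> simp
  · intro a b h
    exact MonoidHom.cancel_right (QuotientGroup.mk'_surjective _) |>.1
      (Char.linIrr_injective (congrArg Subtype.val h))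

end Cfsg.Agent.S4029
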