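import Cfsg.Statements.S4032
import Cfsg.Agent.Lib.Coprime.Lift
-- import your own Cfsg.Agent.* helpers here

set_option autoImplicit false
open Cfsg

namespace Cfsg.Agent.S4032

/-- Let π be a set of primes and G a finite group in which N_G(⟨x⟩) = C_G(x) for every π-element x. If N is a normal subgroup of G whose order is divisible by no prime of π, then G/N has the same property: N_{G/N}(⟨y⟩) = C_{G/N}(y) for every π-element y of G/N. -/
theorem result {G : Type*} [Group G] [Finite G] (π : Set ℕ)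
    (hirr : ∀ x : G, (∀ r : ℕ, r.Prime → r ∣ orderOf x → r ∈ π) →
      Subgroup.normalizer ((Subgroup.zpowers x : Subgroup G) : Set G) ≤ Subgroup.centralizer {x})
    (N : Subgroup G) [N.Normal] (hN : ∀ r : ℕ, r.Prime → r ∣ Nat.card N → r ∉ π) :
    ∀ y : G ⧸ N, (∀ r : ℕ, r.Prime → r ∣ orderOf y → r ∈ π) →
      Subgroup.normalizer ((Subgroup.zpowers y : Subgroup (G ⧸ N)) : Set (G ⧸ N)) ≤ Subgroup.centralizer {y} := by
  intro y hy g hg
  have hcop : (orderOf y).Coprime (Nat.card N) := by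
    refine Nat.coprime_of_dvd fun r hr h1 h2 => ?_
    exact hN r hr h2 (hy r hr h1)
  obtain ⟨x, hxy, hxo⟩ := Cfsg.Agent.Coprime.exists_orderOf_lift N y hcop
  obtain ⟨g, rfl⟩ := QuotientGroup.mk_surjective g
  subst hxy
  have hmem : g * x * g⁻¹ ∈ Subgroup.zpowers x ⊔ N := by
    obtain ⟨i, hi⟩ := (Subgroup.mem_normalizer_iff.1 hg (x : G ⧸ N)).1 (Subgroup.mem_zpowers _)
    simp only [← QuotientGroup.mk_zpow, ← QuotientGroup.mk_mul, ← QuotientGroup.mk_inv] at hi
    rw [QuotientGroup.eq] at hi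
    simpa using mul_mem (Subgroup.mem_sup_left (zpow_mem (Subgroup.mem_zpowers x) i) :
      x ^ i ∈ Subgroup.zpowers x ⊔ N) (Subgroup.mem_sup_right hi)
  obtain ⟨u, hu, hug⟩ := Cfsg.Agent.Coprime.exists_mul_mem_normalizer_zpowers (hxo ▸ hcop) hmem
  have h1 := Subgroup.mem_centralizer_singleton_iff.1 (hirr x (hxo ▸ hy) hug)
  rw [Subgroup.mem_centralizer_singleton_iff]
  have h2 := congrArg (QuotientGroup.mk' N) h1
  simpa [(QuotientGroup.eq_one_iff u).2 hu] using h2

end Cfsg.Agent.S4032
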