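import Cfsg.Statements.S4036
-- import your own Cfsg.Agent.* helpers here

set_option autoImplicit false
open Cfsg

namespace Cfsg.Agent.S4036

/-- Let P be a finite abelian p-group and K a group of automorphisms of P (a subgroup of Aut P) whose order is divisible by p. If all non-identity elements of K have the same fixed-point subgroup on P, then K has no non-trivial normal subgroup of order prime to p. -/
theorem result {P : Type*} [CommGroup P] [Finite P] {p : ℕ}
    [Fact p.Prime] (hP : IsPGroup p P) (K : Subgroup (MulAut P)) (hK : p ∣ Nat.card K)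
    (hfix : ∀ x y : MulAut P, x ∈ K → y ∈ K → x ≠ 1 → y ≠ 1 → ∀ v : P, x v = v ↔ y v = v) :
    ∀ N : Subgroup ↥K, N.Normal → ¬ p ∣ Nat.card N → N = ⊥ := by
  classical
  intro N hN hNp
  obtain ⟨x, hx⟩ := exists_prime_orderOf_dvd_card' p hK
  have := Fintype.ofFinite N
  by_contra hne
  obtain ⟨n₀, hn₀⟩ := Subgroup.ne_bot_iff_exists_ne_one.1 hne
  have hx1 : (x : MulAut P) ≠ 1 := fun h => by
    rw [orderOf_eq_one_iff.2 (Subtype.ext h)] at hx
    exact (Fact.out : p.Prime).ne_one hx.symm
  have hn₀1 : ((n₀ : K) : MulAut P) ≠ 1 := fun h => hn₀ (Subtype.ext (Subtype.ext h))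
  -- the norm map of `N`
  let θ : P →* P := MonoidHom.mk' (fun v => ∏ n : N, ((n : K) : MulAut P) v) fun a b => by
    simp [Finset.prod_mul_distrib]
  have hθn : ∀ (n : N) (v : P), θ (((n : K) : MulAut P) v) = θ v := fun n v =>
    Fintype.prod_equiv (Equiv.mulRight n) _ _ fun m => rfl
  have hθg : ∀ (g : K) (v : P), θ ((g : MulAut P) v) = (g : MulAut P) (θ v) := fun g v => by
    simp only [θ, MonoidHom.mk'_apply, map_prod]
    refine Fintype.prod_equiv
      ((MulAut.conjNormal (g⁻¹) : MulAut N).toEquiv) _ _ fun n => ?_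
    show _ = (g : MulAut P) (((g⁻¹ * (n : K) * g⁻¹⁻¹ : K) : MulAut P) v)
    show _ = ((g * (g⁻¹ * (n : K) * g⁻¹⁻¹) : K) : MulAut P) v
    rw [inv_inv, ← mul_assoc, ← mul_assoc, mul_inv_cancel, one_mul]
    rfl
  have hθx : ∀ v, θ ((x : MulAut P) v) = (x : MulAut P) (θ v) := hθg x
  have hcopN : ∀ v : P, v ^ Nat.card N = 1 → v = 1 := by
    intro v hv
    obtain ⟨k, hk⟩ := hP v
    refine orderOf_eq_one_iff.1 (Nat.eq_one_of_dvd_coprimes
      ((((Fact.out : p.Prime).coprime_iff_not_dvd).2 hNp).pow_left k)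
      (orderOf_dvd_of_pow_eq_one hk) (orderOf_dvd_of_pow_eq_one hv))
  have hfixN : ∀ v, (x : MulAut P) v = v → θ v = v ^ Nat.card N := fun v hv => by
    have h1 : ∀ n : N, ((n : K) : MulAut P) v = v := fun n => by
      by_cases hn : ((n : K) : MulAut P) = 1
      · rw [hn]; rfl
      · exact (hfix _ _ x.2 (n : K).2 hx1 hn v).1 hv
    simp [θ, h1, Nat.card_eq_fintype_card]
  -- the kernel of the norm map is trivial
  have hker : θ.ker = ⊥ := by
    by_contra hW
    have hWp : IsPGroup p θ.ker := hP.to_subgroup _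
    have hzp : IsPGroup p (Subgroup.zpowers x) := IsPGroup.of_card (n := 1) (by rw [Nat.card_zpowers, hx, pow_one])
    let act : MulAction (Subgroup.zpowers x) θ.ker :=
      { smul := fun z w => ⟨((z : K) : MulAut P) w.1, by
          rw [MonoidHom.mem_ker, hθg, (show θ w.1 = 1 from w.2), map_one]⟩
        one_smul := fun w => Subtype.ext rfl
        mul_smul := fun _ _ w => Subtype.ext rfl }
    have hdvd : p ∣ Nat.card θ.ker := by
      have := (Subgroup.nontrivial_iff_ne_bot θ.ker).2 hW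
      obtain ⟨n, hn0, hn⟩ := hWp.nontrivial_iff_card.1 this
      exact hn ▸ dvd_pow_self p hn0.ne'
    obtain ⟨w, hw, hw1⟩ := hzp.exists_fixed_point_of_prime_dvd_card_of_fixed_point θ.ker hdvd
      (a := 1) (fun z => Subtype.ext (map_one _))
    have hwx : (x : MulAut P) w.1 = w.1 := congrArg Subtype.val (hw ⟨x, Subgroup.mem_zpowers x⟩)
    have h2 := hfixN _ hwx
    rw [show θ w.1 = 1 from w.2] at h2
    exact hw1 (Subtype.ext (hcopN _ h2.symm)).symm
  refine hn₀1 (MulEquiv.ext fun v => ?_)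
  exact (MonoidHom.ker_eq_bot_iff θ).1 hker (hθn n₀ v)

end Cfsg.Agent.S4036
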