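import Cfsg.Statements.S4039
import Cfsg.Agent.Lib.NilpotentMaximal.Basic
-- import your own Cfsg.Agent.* helpers here

set_option autoImplicit false
open Cfsg

namespace Cfsg.Agent.S4039

open Subgroup

universe u

theorem isSolvable_aux : ∀ (n : ℕ) (G : Type u) [Group G] [Finite G], Nat.card G ≤ n →
    ∀ M : Subgroup G, IsCoatom M → Group.IsNilpotent M →
      (∀ x ∈ M, ∀ y ∈ M, ∀ z ∈ M, Commute (x * y * x⁻¹ * y⁻¹) z) → Group.IsSolvable G := by
  intro n
  induction n with
  | zero => intro G _ _ h; exact absurd h (by have := Nat.card_pos (α := G); omega)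
  | succ n ih =>
    intro G _ _ hle M hmax hnil hcl
    by_cases hcore : M.normalCore = ⊥
    · exact NilpotentMaximal.isSolvable_of_complements hmax hnil fun p hp hpM =>
        haveI : Fact p.Prime := ⟨hp⟩
        NilpotentMaximal.hasNormalPComplement_class_two hmax hnil hcore hcl hpM
    · refine NilpotentMaximal.isSolvable_of_quotient hnil hmax fun hn hc => ?_
      refine ih (G ⧸ M.normalCore) ?_ _ hc hn ?_
      · have h1 : Nat.card (G ⧸ M.normalCore) < Nat.card G := by
          rw [← Subgroup.index_eq_card, ← M.normalCore.card_mul_index]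
          exact lt_mul_of_one_lt_left (Nat.pos_of_ne_zero index_ne_zero_of_finite)
            ((Subgroup.one_lt_card_iff_ne_bot _).2 hcore)
        omega
      · rintro _ ⟨x, hx, rfl⟩ _ ⟨y, hy, rfl⟩ _ ⟨z, hz, rfl⟩
        simpa using (hcl x hx y hy z hz).map (QuotientGroup.mk' M.normalCore)


/-- A finite group possessing a maximal subgroup that is nilpotent of class at most 2 is solvable. -/
theorem result {G : Type*} [Group G] [Finite G]
    (M : Subgroup G) (hmax : IsCoatom M) (hnil : Group.IsNilpotent M) (hcl : Group.nilpotencyClass ↥M ≤ 2) :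
    Group.IsSolvable G := by
  haveI := hnil
  refine isSolvable_aux _ G le_rfl M hmax hnil fun x hx y hy z hz => ?_
  have h2 : Subgroup.upperCentralSeries (↥M) 2 = ⊤ :=
    Subgroup.upperCentralSeries_eq_top_iff_nilpotencyClass_le.2 hcl
  have h1 := Subgroup.mem_upperCentralSeries_succ_iff.1
    (h2 ▸ mem_top (⟨x, hx⟩ : M) : (⟨x, hx⟩ : M) ∈ Subgroup.upperCentralSeries (↥M) (1 + 1)) ⟨y, hy⟩
  rw [Subgroup.upperCentralSeries_one, mem_center_iff] at h1
  have h3 := congrArg Subtype.val (h1 ⟨z, hz⟩)
  exact h3.symm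

end Cfsg.Agent.S4039
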