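import Cfsg.Statements.S4040
import Cfsg.Agent.Lib.PComplement.GlaubermanThompson
import Cfsg.Agent.Lib.Coprime.Sylow
import Cfsg.Agent.Lib.Transfer.Residual
import Cfsg.Agent.Lib.Solvable.Schmidt
-- import your own Cfsg.Agent.* helpers here

set_option autoImplicit false
open Cfsg

namespace Cfsg.Agent.S4040

open Subgroup

universe u

theorem isSolvable_of_coreFree {G : Type u} [Group G] [Finite G] (M : Subgroup G) (hmax : IsCoatom M)
    (hnil : Group.IsNilpotent M) (hodd : Odd (Nat.card M)) (hcore : M.normalCore = ⊥) :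
    Group.IsSolvable G := by
  classical
  haveI := hnil
  have hcore' : ∀ R : Subgroup G, R.Normal → R ≤ M → R = ⊥ := fun R hR hle => by
    haveI := hR
    exact le_bot_iff.1 (hcore ▸ (normal_le_normalCore.2 hle))
  have hmaxN : ∀ R : Subgroup G, R ≤ M → R ≠ ⊥ → M ≤ normalizer (R : Set G) →
      normalizer (R : Set G) = M := fun R hle hne hn =>
    (hmax.le_iff.1 hn).resolve_left fun e => hne (hcore' R (normalizer_eq_top_iff.1 e) hle)
  have hcompl : ∀ p : ℕ, p.Prime → p ∣ Nat.card M → Cfsg.HasNormalPComplement p G := by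
    intro p hp hpM
    haveI : Fact p.Prime := ⟨hp⟩
    have hp2 : p ≠ 2 := fun e => by
      subst e
      exact Nat.not_even_iff_odd.2 hodd (even_iff_two_dvd.2 hpM)
    let P₀ : Sylow p M := default
    haveI : (P₀ : Subgroup M).Normal :=
      P₀.normal_of_normalizerCondition Group.normalizerCondition_of_isNilpotent
    set P := (P₀ : Subgroup M).map M.subtype with hP
    have hPM : P ≤ M := map_subtype_le _
    have hPp : IsPGroup p P := P₀.2.map _
    have hPne : P ≠ ⊥ := fun e => by
      have h1 := P₀.ne_bot_of_dvd_card hpM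
      exact h1 (map_injective M.subtype_injective (by rw [Subgroup.map_bot]; exact e))
    have hMN : M ≤ normalizer (P : Set G) := by
      intro m hm
      rw [mem_normalizer_iff]
      have key : ∀ n ∈ M, ∀ x ∈ P, n * x * n⁻¹ ∈ P := by
        rintro n hn _ ⟨x, hx, rfl⟩
        exact ⟨⟨n, hn⟩ * x * ⟨n, hn⟩⁻¹, Normal.conj_mem inferInstance x hx ⟨n, hn⟩, rfl⟩
      refine fun x => ⟨key m hm x, fun h => ?_⟩
      have h1 := key _ (inv_mem hm) _ h
      rwa [show m⁻¹ * (m * x * m⁻¹) * m⁻¹⁻¹ = x by group] at h1
    have hNP : normalizer (P : Set G) = M := hmaxN P hPM hPne hMN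
    obtain ⟨Q, hPQ⟩ := hPp.exists_le_sylow
    haveI : Group.IsNilpotent (Q : Subgroup G) := Q.2.isNilpotent
    have hQP : (Q : Subgroup G) ≤ P := by
      by_contra hlt
      have hne : P.subgroupOf (Q : Subgroup G) < ⊤ :=
        lt_top_iff_ne_top.2 fun e => hlt (subgroupOf_eq_top.1 e)
      obtain ⟨x, hxn, hx⟩ := SetLike.exists_of_lt (Group.normalizerCondition_of_isNilpotent _ hne)
      have hxN : (x : G) ∈ normalizer (P : Set G) := by
        rw [mem_normalizer_iff]
        intro y
        constructor
        · intro hy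
          exact (mem_normalizer_iff.1 hxn ⟨y, hPQ hy⟩).1 hy
        · intro hy
          have hyQ : y ∈ (Q : Subgroup G) := by
            have h1 := mul_mem (mul_mem (inv_mem x.2) (hPQ hy)) x.2
            simpa [mul_assoc] using h1
          exact (mem_normalizer_iff.1 hxn ⟨y, hyQ⟩).2 hy
      have hle : P ⊔ zpowers (x : G) ≤ M :=
        sup_le hPM (zpowers_le.2 (hNP ▸ hxN))
      have hpg : IsPGroup p (P ⊔ zpowers (x : G) : Subgroup G) :=
        Q.2.to_le (sup_le hPQ (zpowers_le.2 x.2))
      have h2 := P₀.is_maximal' (Q := (P ⊔ zpowers (x : G)).subgroupOf M)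
        (hpg.comap_of_injective _ M.subtype_injective)
        (map_le_iff_le_comap.1 le_sup_left)
      have h3 : P ⊔ zpowers (x : G) = P :=
        ((map_subgroupOf_eq_of_le hle).symm.trans (congrArg (map M.subtype) h2)).trans hP.symm
      exact hx (mem_subgroupOf.2 (h3 ▸ (le_sup_right : zpowers (x : G) ≤ _) (mem_zpowers _)))
    have hQeq : (Q : Subgroup G) = P := le_antisymm hQP hPQ
    refine PComplement.zjAComplement hp2 Q ?_
    rw [hQeq]
    set J := Cfsg.thompsonSubgroupAOf P with hJ
    have hJne : J ≠ ⊥ := by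
      haveI : Nontrivial P := (nontrivial_iff_ne_bot P).2 hPne
      have h1 := (PComplement.isCharPFunctor_jA (p := p)).1 P hPp ‹_›
      intro e
      refine h1 (map_injective P.subtype_injective ?_)
      rw [Subgroup.map_bot]
      exact e
    have hJP : J ≤ P := PGroup.thompsonSubgroupAOf_le P
    have hWne : Cfsg.centerThompsonAOf P ≠ ⊥ := PComplement.zOf_ne_bot (hPp.to_le hJP) hJne
    have hW : normalizer (Cfsg.centerThompsonAOf P : Set G) = M := by
      refine hmaxN _ (inf_le_left.trans (hJP.trans hPM)) hWne ?_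
      exact hMN.trans ((PGroup.normalizer_le_normalizer_thompsonAOf P).trans
        (PComplement.normalizer_le_normalizer_zOf _))
    rw [hW]
    exact Solvable.hasNormalPComplement_of_isNilpotent p
  set S := (Nat.card M).primeFactors
  set K : Subgroup G := ⨅ p : S, Cfsg.pResidual p.1 G with hKdef
  haveI hK : ∀ p : S, (Cfsg.pResidual p.1 G).Normal := fun p => Transfer.pResidual_normal p.1
  haveI : K.Normal := normal_iInf_normal hK
  have hcopK : (Nat.card M).Coprime (Nat.card K) := by
    refine Nat.coprime_of_dvd fun p hp hpM hpK => ?_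
    haveI : Fact p.Prime := ⟨hp⟩
    obtain ⟨x, hx⟩ := exists_prime_orderOf_dvd_card' (G := K) p hpK
    have hxr : (x : G) ∈ Cfsg.pResidual p G :=
      (mem_iInf.1 x.2) ⟨p, Nat.mem_primeFactors.2 ⟨hp, hpM, Nat.card_pos.ne'⟩⟩
    have h1 := (Transfer.mem_pResidual_iff (hcompl p hp hpM) _).1 hxr
    rw [Subgroup.orderOf_coe, hx, Nat.coprime_self] at h1
    exact hp.ne_one h1
  have hKM : ∀ x, x ∈ K → x ∈ M → x = 1 := fun x hxK hxM =>
    orderOf_eq_one_iff.1 (Nat.eq_one_of_dvd_coprimes hcopK
      (orderOf_dvd_natCard _ hxM) (orderOf_dvd_natCard _ hxK))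
  have hKsol : Group.IsSolvable K := by
    by_cases hKbot : K = ⊥
    · rw [hKbot]; infer_instance
    obtain ⟨r, hr, hrK⟩ := Nat.exists_prime_and_dvd (fun h => hKbot (card_eq_one.1 h) : Nat.card K ≠ 1)
    haveI : Fact r.Prime := ⟨hr⟩
    have hMK : M ≤ normalizer (K : Set G) := by rw [Subgroup.normalizer_eq_top]; exact le_top
    haveI : Group.IsSolvable M := inferInstance
    obtain ⟨R, hR⟩ := Coprime.exists_invariant_sylow hMK hcopK (Or.inl inferInstance) r
    set R' := (R : Subgroup K).map K.subtype with hR'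
    have hR'K : R' ≤ K := map_subtype_le _
    have hR'ne : R' ≠ ⊥ := fun e =>
      R.ne_bot_of_dvd_card hrK (map_injective K.subtype_injective (by rw [Subgroup.map_bot]; exact e))
    have htop : M ⊔ R' = ⊤ := (hmax.le_iff.1 le_sup_left).resolve_right fun e =>
      hR'ne ((Subgroup.eq_bot_iff_forall _).2 fun x hx => hKM x (hR'K hx) (e ▸ mem_sup_right hx))
    have hKR : K ≤ R' := fun k hk => by
      have h1 : k ∈ ((M ⊔ R' : Subgroup G) : Set G) := by rw [htop]; trivial
      rw [Subgroup.coe_mul_of_left_le_normalizer_right M R' hR] at h1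
      obtain ⟨m, hm, x, hx, rfl⟩ := h1
      have h2 : m ∈ K := (mul_mem_cancel_right (hR'K hx)).1 hk
      rw [hKM m h2 hm]
      simpa using hx
    have : IsPGroup r K := (R.2.map K.subtype).to_le hKR
    haveI := this.isNilpotent
    infer_instance
  have hQsol : Group.IsSolvable (G ⧸ K) := by
    have hker : ((MonoidHom.pi fun p : S => QuotientGroup.mk' (Cfsg.pResidual p.1 G))).ker = K := by
      ext x
      simp [MonoidHom.mem_ker, funext_iff, hKdef, mem_iInf, QuotientGroup.eq_one_iff]
    have : ∀ p : S, Group.IsNilpotent (G ⧸ Cfsg.pResidual p.1 G) := fun p => by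
      haveI : Fact p.1.Prime := ⟨Nat.prime_of_mem_primeFactors p.2⟩
      exact (Transfer.isPGroup_quotient_pResidual (G := G) p.1).isNilpotent
    haveI : Group.IsSolvable ((p : S) → G ⧸ Cfsg.pResidual p.1 G) := inferInstance
    exact Group.isSolvable_of_isSolvable_injective
      (f := QuotientGroup.lift K (MonoidHom.pi fun p : S => QuotientGroup.mk' (Cfsg.pResidual p.1 G)) hker.ge)
      ((MonoidHom.ker_eq_bot_iff _).1 (by rw [QuotientGroup.ker_lift, hker, QuotientGroup.map_mk'_self]))
  exact Group.isSolvable_of_ker_le_range K.subtype (QuotientGroup.mk' K) (by simp)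

theorem isSolvable_aux : ∀ (n : ℕ) (G : Type u) [Group G] [Finite G], Nat.card G ≤ n →
    ∀ M : Subgroup G, IsCoatom M → Group.IsNilpotent M → Odd (Nat.card M) → Group.IsSolvable G := by
  intro n
  induction n with
  | zero => intro G _ _ h; exact absurd h (by have := Nat.card_pos (α := G); omega)
  | succ n ih =>
    intro G _ _ hle M hmax hnil hodd
    by_cases hcore : M.normalCore = ⊥
    · exact isSolvable_of_coreFree M hmax hnil hodd hcore
    set N := M.normalCore
    haveI := hnil
    haveI : Group.IsNilpotent N :=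
      Group.nilpotent_of_mulEquiv (subgroupOfEquivOfLe (normalCore_le M))
    have hlt : Nat.card (G ⧸ N) < Nat.card G := by
      rw [← Subgroup.index_eq_card, ← N.card_mul_index]
      exact lt_mul_of_one_lt_left (Nat.pos_of_ne_zero index_ne_zero_of_finite)
        ((Subgroup.one_lt_card_iff_ne_bot N).2 hcore)
    have hker : (QuotientGroup.mk' N).ker ≤ M := by
      rw [QuotientGroup.ker_mk']; exact normalCore_le M
    have hcoat : IsCoatom (M.map (QuotientGroup.mk' N)) := by
      refine ⟨fun e => hmax.1 ?_, fun B hB => ?_⟩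
      · rw [← comap_map_eq_self hker, e, comap_top]
      · have h1 : M < B.comap (QuotientGroup.mk' N) := by
          refine lt_of_le_of_ne (map_le_iff_le_comap.1 hB.le) fun e => hB.ne ?_
          exact (congrArg (map (QuotientGroup.mk' N)) e).trans
            (map_comap_eq_self_of_surjective (QuotientGroup.mk'_surjective N) B)
        rw [← map_comap_eq_self_of_surjective (QuotientGroup.mk'_surjective N) B, hmax.2 _ h1,
          map_top_of_surjective _ (QuotientGroup.mk'_surjective N)]
    have hQ := ih (G ⧸ N) (by omega) _ hcoat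
      (Group.nilpotent_of_surjective ((QuotientGroup.mk' N).subgroupMap M)
        (MonoidHom.subgroupMap_surjective _ _))
      (hodd.of_dvd_nat (card_map_dvd _ _))
    exact Group.isSolvable_of_ker_le_range N.subtype (QuotientGroup.mk' N) (by simp)


/-- A finite group possessing a maximal subgroup that is nilpotent of odd order is solvable. -/
theorem result {G : Type*} [Group G] [Finite G]
    (M : Subgroup G) (hmax : IsCoatom M) (hnil : Group.IsNilpotent M) (hodd : Odd (Nat.card M)) :
    Group.IsSolvable G := by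
  exact isSolvable_aux _ G le_rfl M hmax hnil hodd

end Cfsg.Agent.S4040
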