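import Cfsg.Statements.S4043
import Cfsg.Agent.Lib.Coprime.Basic
import Cfsg.Agent.Lib.PGroup.Basic
import Cfsg.Agent.Lib.Transfer.Residual

set_option autoImplicit false
open Cfsg
open scoped Pointwise

namespace Cfsg.Agent.S4043

/-- Two normal subgroups of order prime to `p` and `p`-power index coincide. -/
theorem le_of_coprime_index {Q : Type*} [Group Q] [Finite Q] {p : ℕ} {B C : Subgroup Q} [B.Normal]
    (hB : ∃ n, B.index ∣ p ^ n) (hC : (Nat.card C).Coprime p) : C ≤ B := by
  intro c hc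
  obtain ⟨n, hn⟩ := hB
  exact (QuotientGroup.eq_one_iff c).1 (orderOf_eq_one_iff.1 (Nat.eq_one_of_dvd_coprimes
    (hC.pow_right n)
    ((orderOf_map_dvd (QuotientGroup.mk' B) c).trans (Subgroup.orderOf_dvd_natCard C hc))
    ((orderOf_dvd_natCard _).trans ((B.index_eq_card).symm ▸ hn))))

/-- A complement with normal `p`-complement `K` and trivial fixed points is the full normaliser
of `K` up to `N`. -/
theorem inf_normalizer_eq_bot {G : Type*} [Group G] [Finite G] {p : ℕ} [Fact p.Prime]
    {N A : Subgroup G} [N.Normal] (hN : IsPGroup p N) (hA : A.IsComplement' N)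
    {K : Subgroup A} [K.Normal] (P : Sylow p A) (hK : K.IsComplement' (P : Subgroup A))
    (hC : ∀ n : G, n ∈ N → (∀ a : G, a ∈ A → a * n * a⁻¹ = n) → n = 1) :
    N ⊓ Subgroup.normalizer ((K.map A.subtype : Subgroup G) : Set G) = ⊥ := by
  set K0 := K.map A.subtype
  set X := N ⊓ Subgroup.normalizer (K0 : Set G) with hX
  have hAK : A ≤ Subgroup.normalizer (K0 : Set G) := by
    have hle : K0 ≤ A := Subgroup.map_subtype_le K
    refine (Subgroup.normal_subgroupOf_iff_le_normalizer hle).1 ?_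
    rw [show K0.subgroupOf A = K from Subgroup.comap_map_eq_self_of_injective A.subtype_injective K]
    infer_instance
  have hfix : ∀ n ∈ X, ∀ k ∈ K0, k * n * k⁻¹ = n := by
    intro n hn k hk
    have h1 : n * k * n⁻¹ * k⁻¹ ∈ K0 :=
      mul_mem ((Subgroup.mem_normalizer_iff.1 hn.2 k).1 hk) (inv_mem hk)
    have h2 : n * k * n⁻¹ * k⁻¹ ∈ N := by
      have := N.mul_mem hn.1 ((inferInstance : N.Normal).conj_mem n⁻¹ (inv_mem hn.1) k)
      simpa [mul_assoc] using this
    have h3 : n * k * n⁻¹ * k⁻¹ = 1 :=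
      Subgroup.mem_bot.1 (hA.disjoint.le_bot ⟨Subgroup.map_subtype_le K h1, h2⟩)
    rw [mul_inv_eq_one, mul_inv_eq_iff_eq_mul] at h3
    rw [← h3, mul_inv_cancel_right]
  by_contra hne
  set P0 := (P : Subgroup A).map A.subtype with hP0
  set R := X ⊔ P0
  have hXn : P0 ≤ Subgroup.normalizer (X : Set G) := by
    intro g hg
    have hga := hAK (Subgroup.map_subtype_le (P : Subgroup A) hg)
    refine Subgroup.mem_normalizer_iff.2 fun n => ?_
    have h4 := (inferInstance : N.Normal)
    constructor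
    · exact fun hn => Subgroup.mem_inf.2 ⟨h4.conj_mem n hn.1 g, Subgroup.mul_mem _ (Subgroup.mul_mem _ hga (Subgroup.mem_inf.1 hn).2) (Subgroup.inv_mem _ hga)⟩
    · intro hn
      refine ⟨?_, ?_⟩
      · have := h4.conj_mem _ hn.1 g⁻¹; simpa [mul_assoc] using this
      · have := mul_mem (mul_mem (inv_mem hga) hn.2) hga; simpa [mul_assoc] using this
  have hR : IsPGroup p R := (hN.to_le inf_le_left).to_sup_of_normal_left'
    (P.isPGroup'.map A.subtype) hXn
  haveI : (X.subgroupOf R).Normal :=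
    (Subgroup.normal_subgroupOf_iff_le_normalizer le_sup_left).2 (sup_le Subgroup.le_normalizer hXn)
  have hXR : X.subgroupOf R ≠ ⊥ := fun h => hne (by
    have := Subgroup.subgroupOf_eq_bot.1 h
    exact disjoint_self.1 (this.mono_right le_sup_left))
  obtain ⟨z, hz, hz1⟩ :=
    (Subgroup.ne_bot_iff_exists_ne_one).1 (PGroup.inf_center_ne_bot hR _ hXR) |>.elim
      fun w hw => (⟨w.1, w.2, fun h => hw (Subtype.ext h)⟩ :
        ∃ z ∈ X.subgroupOf R ⊓ Subgroup.center R, z ≠ 1)
  refine hz1 (Subtype.ext (hC (z : G) hz.1.1 fun a ha => ?_))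
  obtain ⟨⟨k, x⟩, hkx, -⟩ := hK.existsUnique ⟨a, ha⟩
  simp only at hkx
  have hka : a = ((k : A) : G) * ((x : A) : G) := congrArg Subtype.val hkx.symm
  have hxR : ((x : A) : G) ∈ R := Subgroup.mem_sup_right ⟨x, x.2, rfl⟩
  have hxz : ((x : A) : G) * z * ((x : A) : G)⁻¹ = z := by
    have := congrArg Subtype.val (Subgroup.mem_center_iff.1 hz.2 ⟨_, hxR⟩)
    simp only [Subgroup.coe_mul] at this
    rw [this, mul_inv_cancel_right]
  have hkz := hfix (z : G) hz.1 _ ⟨k, k.2, rfl⟩
  rw [hka]
  calc ((k : A) : G) * ((x : A) : G) * z * (((k : A) : G) * ((x : A) : G))⁻¹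
      = ((k : A) : G) * (((x : A) : G) * z * ((x : A) : G)⁻¹) * ((k : A) : G)⁻¹ := by group
    _ = z := by rw [hxz]; exact hkz

/-- Let G be a finite group that is the semidirect product of a normal p-subgroup N by a subgroup A, and also of N by a subgroup A₁, where p is a prime and A and A₁ both have normal p-complements. If C_N(A) = C_N(A₁) = 1, then A₁ is conjugate to A by an element of N. -/
theorem result {G : Type*} [Group G] [Finite G] {p : ℕ}
    [Fact p.Prime] (N : Subgroup G) [N.Normal] (hN : IsPGroup p N) (A A₁ : Subgroup G)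
    (hA : A.IsComplement' N) (hA₁ : A₁.IsComplement' N)
    (hAp : Cfsg.HasNormalPComplement p A) (hA₁p : Cfsg.HasNormalPComplement p A₁)
    (hC : ∀ n : G, n ∈ N → (∀ a : G, a ∈ A → a * n * a⁻¹ = n) → n = 1)
    (hC₁ : ∀ n : G, n ∈ N → (∀ a : G, a ∈ A₁ → a * n * a⁻¹ = n) → n = 1) :
    ∃ n : G, n ∈ N ∧ A₁ = A.map (MulAut.conj n).toMonoidHom := by
  obtain ⟨P, K, hKn, hK⟩ := hAp
  obtain ⟨P₁, K₁, hK₁n, hK₁⟩ := hA₁p
  set K0 := K.map A.subtype with hK0
  set K1 := K₁.map A₁.subtype with hK1
  let f := QuotientGroup.mk' N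
  have hsur : ∀ {B : Subgroup G}, B.IsComplement' N → Function.Surjective (f.comp B.subtype) := by
    intro B hB q
    obtain ⟨g, rfl⟩ := QuotientGroup.mk'_surjective N q
    obtain ⟨⟨b, n⟩, hbn, -⟩ := hB.existsUnique g
    refine ⟨b, ?_⟩
    simp only at hbn
    change f (b : G) = f g
    rw [← hbn, map_mul, show f (n : G) = 1 from (QuotientGroup.eq_one_iff _).2 n.2, mul_one]
  have hcard : ∀ {B : Subgroup G}, B.IsComplement' N → ∀ L : Subgroup B,
      Nat.card ((L.map B.subtype).map f) = Nat.card L := by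
    intro B hB L
    rw [Subgroup.map_map]
    refine Subgroup.card_map_of_injective ((injective_iff_map_eq_one _).2 fun b hb => ?_)
    exact Subtype.ext (Subgroup.mem_bot.1
      (hB.disjoint.le_bot ⟨b.2, (QuotientGroup.eq_one_iff _).1 hb⟩))
  have hcopA := Transfer.coprime_card_of_isComplement'_sylow P hK
  have hcopA₁ := Transfer.coprime_card_of_isComplement'_sylow P₁ hK₁
  have hidxA : ∀ {B : Subgroup G}, B.IsComplement' N → ∀ (L : Subgroup B) (S : Sylow p B),
      L.IsComplement' (S : Subgroup B) → ∃ n, ((L.map B.subtype).map f).index ∣ p ^ n := by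
    intro B hB L S hL
    obtain ⟨n, hn⟩ := S.isPGroup'.exists_card_eq
    refine ⟨n, ?_⟩
    rw [← hn, ← hL.symm.index_eq_card, Subgroup.map_map]
    exact Subgroup.index_map_dvd _ (hsur hB)
  haveI : ((K0).map f).Normal := by
    rw [hK0, Subgroup.map_map]
    exact hKn.map _ (hsur hA)
  haveI : ((K1).map f).Normal := by
    rw [hK1, Subgroup.map_map]
    exact hK₁n.map _ (hsur hA₁)
  have heqf : K1.map f = K0.map f := le_antisymm
    (le_of_coprime_index (hidxA hA K P hK) (by rw [hK1, hcard hA₁]; exact hcopA₁))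
    (le_of_coprime_index (hidxA hA₁ K₁ P₁ hK₁) (by rw [hK0, hcard hA]; exact hcopA))
  have hc0 : Nat.card K0 = Nat.card K := Subgroup.card_map_of_injective A.subtype_injective
  have hc1 : Nat.card K1 = Nat.card K0 := by
    rw [hc0, ← hcard hA K, ← hK0, ← heqf, hK1, hcard hA₁,
      Subgroup.card_map_of_injective A₁.subtype_injective]
  have hle : K1 ≤ K0 ⊔ N := by
    have := Subgroup.map_le_iff_le_comap.1 heqf.le
    rwa [Subgroup.comap_map_eq, QuotientGroup.ker_mk'] at this
  haveI := hN.isNilpotent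
  obtain ⟨n, hn⟩ := hN.exists_card_eq
  obtain ⟨g, hg, hgK⟩ := Coprime.exists_conj_eq_of_le_sup
    (by rw [Subgroup.normalizer_eq_top]; exact le_top) hle hc1
    (by rw [hc0, hn]; exact hcopA.pow_right n) (Or.inl inferInstance)
  haveI := hK₁n
  have hbot := inf_normalizer_eq_bot hN hA₁ P₁ hK₁ hC₁
  rw [← hK1] at hbot
  refine ⟨g, hg, ?_⟩
  set A' := A.map (MulAut.conj g).toMonoidHom with hA'
  have hnorm : ∀ (B : Subgroup G) (L : Subgroup B), L.Normal →
      B ≤ Subgroup.normalizer ((L.map B.subtype : Subgroup G) : Set G) := by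
    intro B L hL
    refine (Subgroup.normal_subgroupOf_iff_le_normalizer (Subgroup.map_subtype_le L)).1 ?_
    rwa [show (L.map B.subtype).subgroupOf B = L from
      Subgroup.comap_map_eq_self_of_injective B.subtype_injective L]
  have hA'le : A' ≤ A₁ := by
    rintro _ ⟨a, ha, rfl⟩
    have hga : MulAut.conj g a ∈ Subgroup.normalizer (K1 : Set G) := by
      have := hnorm A K hKn ha
      rw [Subgroup.mem_normalizer_iff] at this ⊢
      intro x
      rw [← hgK, Subgroup.mem_pointwise_smul_iff_inv_smul_mem,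
        Subgroup.mem_pointwise_smul_iff_inv_smul_mem, MulAut.smul_def, MulAut.smul_def,
        ← hK0] at *
      rw [this]
      simp [mul_assoc]
    obtain ⟨⟨b, m⟩, hbm, -⟩ := hA₁.existsUnique (MulAut.conj g a)
    simp only at hbm
    have hb : (b : G) ∈ Subgroup.normalizer (K1 : Set G) := hnorm A₁ K₁ hK₁n b.2
    have hm : (m : G) ∈ Subgroup.normalizer (K1 : Set G) := by
      have := mul_mem (inv_mem hb) hga
      rwa [← hbm, inv_mul_cancel_left] at this
    have hm1 : (m : G) = 1 := Subgroup.mem_bot.1 (hbot.le ⟨m.2, hm⟩)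
    show MulAut.conj g a ∈ A₁
    rw [← hbm, hm1, mul_one]; exact b.2
  have hcardA : Nat.card A' = Nat.card A := Subgroup.card_map_of_injective (MulEquiv.injective _)
  refine (Subgroup.eq_of_le_of_card_ge hA'le ?_).symm
  rw [hcardA]
  have h1 : N.index = Nat.card A := hA.index_eq_card
  have h2 : N.index = Nat.card A₁ := hA₁.index_eq_card
  exact (h2.symm.trans h1).le

end Cfsg.Agent.S4043
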