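import Cfsg.Statements.S4049
import Cfsg.Agent.Lib.PrimeParts.OddInverted

set_option autoImplicit false
open Cfsg

namespace Cfsg.Agent.S4049

/-- Let G be a finite group such that N_G(H)/C_G(H) has odd order for every nontrivial subgroup H of odd order. Then the Sylow 2-subgroups of G are normal. -/
theorem result {G : Type*} [Group G] [Finite G]
    (hhom : ∀ H : Subgroup G, H ≠ ⊥ → ¬ 2 ∣ Nat.card ↥H →
        ¬ 2 ∣ (Subgroup.centralizer (H : Set G)).relIndex (Subgroup.normalizer (H : Set G))) (P : Sylow 2 G) :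
    (P : Subgroup G).Normal := by
  refine PrimeParts.sylow_two_normal_of_twoCentralizesOdd _ G rfl (fun x t hx ht htn => ?_) P
  obtain ⟨k, hk⟩ := ht
  rcases eq_or_ne x 1 with rfl | hx1
  · rw [mul_one, one_mul]
  have h := hhom (Subgroup.zpowers x) (Subgroup.zpowers_ne_bot.2 hx1)
    (by rw [Nat.card_zpowers]; exact fun hd => (Nat.not_even_iff_odd.2 hx) (even_iff_two_dvd.2 hd))
  set N := Subgroup.normalizer ((Subgroup.zpowers x : Subgroup G) : Set G) with hN
  set C := Subgroup.centralizer ((Subgroup.zpowers x : Subgroup G) : Set G) with hC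
  haveI : (C.subgroupOf N).Normal := by
    refine ⟨fun c hc g => ?_⟩
    rw [Subgroup.mem_subgroupOf] at hc ⊢
    refine Subgroup.mem_centralizer_iff.2 fun y hy => ?_
    have hy' : (g : G)⁻¹ * y * g ∈ Subgroup.zpowers x := by
      have := (Subgroup.mem_normalizer_iff.1 (N.inv_mem g.2) y).1 hy
      simpa using this
    have := Subgroup.mem_centralizer_iff.1 hc _ hy'
    simp only [Subgroup.coe_mul, InvMemClass.coe_inv]
    calc y * ((g : G) * c * (g : G)⁻¹)
        = (g : G) * (((g : G)⁻¹ * y * g) * c) * (g : G)⁻¹ := by group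
      _ = (g : G) * ((c : G) * ((g : G)⁻¹ * y * g)) * (g : G)⁻¹ := by rw [this]
      _ = (g : G) * c * (g : G)⁻¹ * y := by group
  let f := QuotientGroup.mk' (C.subgroupOf N)
  have h1 : orderOf (f ⟨t, htn⟩) ∣ 2 ^ k := by
    rw [← hk]
    exact (orderOf_map_dvd f _).trans (by rw [Subgroup.orderOf_mk])
  have h2 : orderOf (f ⟨t, htn⟩) ∣ C.relIndex N := orderOf_dvd_natCard _
  have h3 : orderOf (f ⟨t, htn⟩) = 1 :=
    Nat.eq_one_of_dvd_coprimes (((Nat.prime_two).coprime_iff_not_dvd.2 h).pow_left k) h1 h2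
  have h4 : t ∈ C :=
    Subgroup.mem_subgroupOf.1 ((QuotientGroup.eq_one_iff (N := C.subgroupOf N) (⟨t, htn⟩ : ↥N)).1
      (orderOf_eq_one_iff.1 h3))
  exact (Subgroup.mem_centralizer_iff.1 h4 x (Subgroup.mem_zpowers x)).symm

end Cfsg.Agent.S4049
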