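import Cfsg.Statements.S4050
import Cfsg.Agent.Lib.Coprime.Sylow

set_option autoImplicit false
open Cfsg

namespace Cfsg.Agent.S4050

open Subgroup

/-- all prime divisors of `n` lie in `π` -/
def IsPiNum (π : Set ℕ) (n : ℕ) : Prop := ∀ q : ℕ, q.Prime → q ∣ n → q ∈ π

/-- all prime divisors of `n` lie outside `π` -/
def IsPiNum' (π : Set ℕ) (n : ℕ) : Prop := ∀ q : ℕ, q.Prime → q ∣ n → q ∉ π

variable {G : Type*} [Group G]

/-- `π`-elements normalising an `r`-subgroup, `r ∉ π`, centralise it. -/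
def CentralisesR (π : Set ℕ) (G : Type*) [Group G] : Prop :=
  ∀ q r : ℕ, q.Prime → r.Prime → q ∈ π → r ∉ π → ∀ H : Subgroup G, IsPGroup r H →
    ∀ y ∈ normalizer (H : Set G), ∀ i : ℕ, y ^ q ^ i = 1 → y ∈ centralizer (H : Set G)

theorem exists_qpart [Finite G] {q : ℕ} (hq : q.Prime) (t : G) :
    ∃ k a : ℕ, (t ^ k) ^ q ^ a = 1 ∧
      ∀ {Q : Type*} [Group Q] (f : G →* Q) (i : ℕ), f t ^ q ^ i = 1 → f t ^ k = f t := by
  obtain ⟨a, m, hm, ht⟩ := Nat.exists_eq_pow_mul_and_not_dvd (orderOf_pos t).ne' q hq.ne_one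
  obtain ⟨k, hk1, hk0⟩ := Nat.chineseRemainder ((hq.coprime_iff_not_dvd.2 hm).pow_left a) 1 0
  refine ⟨k, a, ?_, fun f i hi => ?_⟩
  · rw [← pow_mul, ← orderOf_dvd_iff_pow_eq_one, ht, mul_comm]
    exact Nat.mul_dvd_mul_right (Nat.modEq_zero_iff_dvd.1 hk0) _
  · obtain ⟨b, -, hb⟩ := (Nat.dvd_prime_pow hq).1 (orderOf_dvd_of_pow_eq_one hi)
    have h1 : orderOf (f t) ∣ q ^ a := by
      have h2 := ht ▸ orderOf_map_dvd f t
      rw [hb] at h2 ⊢
      exact ((hq.coprime_iff_not_dvd.2 hm).pow_left b).dvd_of_dvd_mul_right h2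
    conv_rhs => rw [← pow_one (f t)]
    exact pow_eq_pow_iff_modEq.2 (hk1.of_dvd h1)

/-- The property passes to quotients. -/
theorem CentralisesR.quotient [Finite G] {π : Set ℕ} (hP : CentralisesR π G) (M : Subgroup G)
    [M.Normal] : CentralisesR π (G ⧸ M) := by
  intro q r hq hr hqπ hrπ H hH y hy i hyi
  have := Fact.mk hr
  set X := H.comap (QuotientGroup.mk' M) with hX
  obtain ⟨R⟩ : Nonempty (Sylow r X) := Sylow.nonempty
  set R' := (R : Subgroup X).map X.subtype with hR'
  set ψ := (QuotientGroup.mk' M).subgroupComap H with hψdef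
  have hψ : Function.Surjective ψ :=
    MonoidHom.subgroupComap_surjective_of_surjective _ H (QuotientGroup.mk'_surjective M)
  have htop : ∀ h ∈ H, ∃ u ∈ R', (u : G ⧸ M) = h := by
    intro h hh
    have h1 : ((R.mapSurjective hψ : Sylow r H) : Subgroup H) = ⊤ :=
      ((R.mapSurjective hψ).is_maximal' (hH.to_subgroup ⊤) le_top).symm
    obtain ⟨u, hu, huh⟩ := h1.ge (mem_top (⟨h, hh⟩ : H))
    exact ⟨u, mem_map_of_mem _ hu, congrArg Subtype.val huh⟩
  obtain ⟨g, rfl⟩ := QuotientGroup.mk'_surjective M y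
  have hg : g ∈ normalizer (X : Set G) := by
    rw [mem_normalizer_iff]
    intro x
    rw [hX, mem_comap, mem_comap, map_mul, map_mul, map_inv]
    exact mem_normalizer_iff.1 hy _
  obtain ⟨k, hk, hka⟩ := Agent.Coprime.exists_mem_conj_sylow_eq R hg
  have hn : k⁻¹ * g ∈ normalizer (R' : Set G) := by
    refine Agent.Coprime.mem_normalizer_of_conj_smul_eq ?_
    rw [← Agent.Coprime.conj_smul_smul, ← hka, Agent.Coprime.conj_smul_smul, inv_mul_cancel,
      map_one, one_smul]
  obtain ⟨u, hu, huk⟩ := htop _ hk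
  set t := u * (k⁻¹ * g) with ht
  have htn : t ∈ normalizer (R' : Set G) := mul_mem (le_normalizer hu) hn
  have htg : QuotientGroup.mk' M t = QuotientGroup.mk' M g := by
    rw [ht, map_mul, map_mul, map_inv, show QuotientGroup.mk' M u = QuotientGroup.mk' M k from huk,
      mul_inv_cancel_left]
  obtain ⟨j, a, hja, hjf⟩ := exists_qpart hq t
  have hc := hP q r hq hr hqπ hrπ R' (R.isPGroup'.map _) (t ^ j) (pow_mem htn j) a hja
  have hy' := hjf (QuotientGroup.mk' M) i (htg ▸ hyi)
  rw [← map_pow, htg] at hy'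
  rw [← hy', mem_centralizer_iff]
  intro h hh
  obtain ⟨v, hv, rfl⟩ := htop h hh
  show QuotientGroup.mk' M v * _ = _ * QuotientGroup.mk' M v
  rw [← map_mul, ← map_mul, mem_centralizer_iff.1 hc v hv]

/-- A `π`-subgroup normalising a normal `π'`-subgroup centralises it. -/
theorem CentralisesR.le_centralizer [Finite G] {π : Set ℕ} (hP : CentralisesR π G) (N : Subgroup G)
    [N.Normal] (hN : IsPiNum' π (Nat.card N)) (L : Subgroup G) (hL : IsPiNum π (Nat.card L)) :
    L ≤ centralizer (N : Set G) := by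
  suffices h : (centralizer (N : Set G)).subgroupOf L = ⊤ by
    intro x hx
    exact (h.ge (mem_top (⟨x, hx⟩ : L)) :)
  refine eq_top_of_le_card _ (Nat.le_of_dvd Nat.card_pos ?_)
  rw [Nat.dvd_iff_prime_pow_dvd_dvd]
  intro q j hq hj
  rcases j with _ | j
  · simp
  have hqπ : q ∈ π := hL q hq ((dvd_pow_self q j.succ_ne_zero).trans hj)
  have := Fact.mk hq
  obtain ⟨S⟩ : Nonempty (Sylow q L) := Sylow.nonempty
  refine (S.pow_dvd_card_of_pow_dvd_card hj).trans (card_dvd_of_le ?_)
  intro y hy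
  show (y : G) ∈ centralizer (N : Set G)
  set A := zpowers (y : G) with hA
  have hAN : A ≤ normalizer (N : Set G) := le_normalizer_of_normal
  obtain ⟨i, hi⟩ := S.isPGroup' ⟨y, hy⟩
  have hyi : (y : G) ^ q ^ i = 1 := congrArg (fun z : (S : Subgroup L) => ((z : L) : G)) hi
  have hcop : (Nat.card A).Coprime (Nat.card N) := by
    refine Nat.coprime_of_dvd fun r hr h1 h2 => hN r hr h2 ?_
    rw [hA, Nat.card_zpowers] at h1
    rw [(Nat.prime_dvd_prime_iff_eq hr hq).1
      (hr.dvd_of_dvd_pow (h1.trans (orderOf_dvd_of_pow_eq_one hyi)))]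
    exact hqπ
  have hfull : N ⊓ centralizer ({(y : G)} : Set G) = N := by
    refine eq_of_le_of_card_ge inf_le_left (Nat.le_of_dvd Nat.card_pos ?_)
    rw [Nat.dvd_iff_prime_pow_dvd_dvd]
    intro r l hr hl
    rcases l with _ | l
    · simp
    have := Fact.mk hr
    obtain ⟨R, hR⟩ := Agent.Coprime.exists_invariant_sylow hAN hcop (Or.inl inferInstance) r
    set R' := (R : Subgroup N).map N.subtype with hR'
    have hc := hP q r hq hr hqπ (hN r hr ((dvd_pow_self r l.succ_ne_zero).trans hl)) R'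
      (R.isPGroup'.map _) y (hR (mem_zpowers _)) i hyi
    have hle : R' ≤ N ⊓ centralizer ({(y : G)} : Set G) := fun x hx =>
      ⟨map_subtype_le _ hx, mem_centralizer_singleton_iff.2 (mem_centralizer_iff.1 hc x hx)⟩
    refine Nat.dvd_trans ?_ (card_dvd_of_le hle)
    rw [hR', card_map_of_injective N.subtype_injective]
    exact R.pow_dvd_card_of_pow_dvd_card hl
  rw [mem_centralizer_iff]
  exact fun x hx => mem_centralizer_singleton_iff.1 (hfull.ge hx).2

/-- Normal `π`-Hall subgroup of the quotient, by climbing a `π`-separating series. -/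
theorem exists_hall [Finite G] {π : Set ℕ} (hP : CentralisesR π G)
    (hQ : ∀ M : Subgroup G, M.Normal → M ≠ ⊤ → ∃ M' : Subgroup G, M'.Normal ∧ M < M' ∧
      (IsPiNum π (M.relIndex M') ∨ IsPiNum' π (M.relIndex M')))
    (M : Subgroup G) [M.Normal] :
    ∃ K : Subgroup G, K.Normal ∧ M ≤ K ∧ IsPiNum π (M.relIndex K) ∧ IsPiNum' π K.index := by
  induction hn : M.index using Nat.strong_induction_on generalizing M with
  | _ n ih =>
    by_cases hM : M = ⊤
    · exact ⟨⊤, inferInstance, le_top, fun q hq h => absurd h (by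
          rw [relIndex_top_right, hM, index_top]; exact hq.not_dvd_one),
        fun q hq h => absurd h (by rw [index_top]; exact hq.not_dvd_one)⟩
    obtain ⟨M', hM'n, hlt, hM'⟩ := hQ M inferInstance hM
    obtain ⟨K', hK'n, hle, hK'1, hK'2⟩ := ih M'.index (hn ▸ index_strictAnti hlt) M' rfl
    rcases hM' with hπ1 | hπ2
    · refine ⟨K', hK'n, hlt.le.trans hle, fun q hq h => ?_, hK'2⟩
      rw [← relIndex_mul_relIndex M M' K' hlt.le hle] at h
      exact (hq.dvd_mul.1 h).elim (hπ1 q hq) (hK'1 q hq)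
    set f := QuotientGroup.mk' M with hf
    have hN : Nat.card (M'.map f) = M.relIndex M' := by
      rw [← relIndex_bot_left, ← Subgroup.map_eq_bot_iff M |>.2 (QuotientGroup.ker_mk' M).ge,
        relIndex_map_map, QuotientGroup.ker_mk', sup_idem, sup_eq_left.2 hlt.le]
    have hK : Nat.card (K'.map f) = M.relIndex K' := by
      rw [← relIndex_bot_left, ← Subgroup.map_eq_bot_iff M |>.2 (QuotientGroup.ker_mk' M).ge,
        relIndex_map_map, QuotientGroup.ker_mk', sup_idem, sup_eq_left.2 (hlt.le.trans hle)]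
    set N := M'.map f with hNdef
    set W := K'.map f with hWdef
    have hNn : N.Normal := hM'n.map f (QuotientGroup.mk'_surjective M)
    have hWn : W.Normal := hK'n.map f (QuotientGroup.mk'_surjective M)
    have hNW : N ≤ W := map_mono hle
    have hidx : (N.subgroupOf W).index = M'.relIndex K' := by
      refine Nat.eq_of_mul_eq_mul_left (Nat.card_pos (α := N.subgroupOf W)) ?_
      rw [card_mul_index, hK, Nat.card_congr (subgroupOfEquivOfLe hNW).toEquiv, hN,
        relIndex_mul_relIndex M M' K' hlt.le hle]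
    have hcN : Nat.card (N.subgroupOf W) = M.relIndex M' :=
      (Nat.card_congr (subgroupOfEquivOfLe hNW).toEquiv).trans hN
    have hcop : (Nat.card (N.subgroupOf W)).Coprime (N.subgroupOf W).index := by
      rw [hidx, hcN]
      exact Nat.coprime_of_dvd fun r hr h1 h2 => hπ2 r hr h1 (hK'1 r hr h2)
    obtain ⟨L₀, hL₀⟩ := exists_right_complement'_of_coprime hcop
    set L := L₀.map W.subtype with hLdef
    have hcL : Nat.card L = M'.relIndex K' := by
      rw [hLdef, card_map_of_injective W.subtype_injective, ← hidx]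
      refine Nat.eq_of_mul_eq_mul_left (Nat.card_pos (α := N.subgroupOf W)) ?_
      rw [hL₀.card_mul_card, card_mul_index]
    have hLC : L ≤ centralizer (N : Set (G ⧸ M)) :=
      (hP.quotient M).le_centralizer N (fun r hr h => hπ2 r hr (hN ▸ h)) L
        (fun r hr h => hK'1 r hr (hcL ▸ h))
    have hchar : ∀ x : G ⧸ M, x ∈ L ↔ x ∈ W ∧ x ^ Nat.card L = 1 := by
      refine fun x => ⟨fun hx => ⟨map_subtype_le _ hx,
        congrArg Subtype.val (pow_card_eq_one' (x := (⟨x, hx⟩ : L)))⟩, fun ⟨hxW, hx⟩ => ?_⟩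
      obtain ⟨⟨a, b⟩, hab, -⟩ := hL₀.existsUnique (⟨x, hxW⟩ : W)
      have hxab : x = ((a : W) : G ⧸ M) * ((b : W) : G ⧸ M) := congrArg Subtype.val hab.symm
      have hbL : ((b : W) : G ⧸ M) ∈ L := mem_map_of_mem _ b.2
      have haN : ((a : W) : G ⧸ M) ∈ N := a.2
      have hcomm : Commute ((a : W) : G ⧸ M) ((b : W) : G ⧸ M) :=
        mem_centralizer_iff.1 (hLC hbL) _ haN
      have hb1 : ((b : W) : G ⧸ M) ^ Nat.card L = 1 :=
        congrArg Subtype.val (pow_card_eq_one' (x := (⟨_, hbL⟩ : L)))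
      rw [hxab, hcomm.mul_pow, hb1, mul_one] at hx
      have h1 : ((a : W) : G ⧸ M) = 1 := orderOf_eq_one_iff.1 (Nat.eq_one_of_dvd_coprimes
        (Nat.coprime_of_dvd fun r hr h1 h2 => hπ2 r hr (hN ▸ h1) (hK'1 r hr (hcL ▸ h2)))
        (orderOf_dvd_natCard N haN) (orderOf_dvd_of_pow_eq_one hx))
      rw [hxab, h1, one_mul]
      exact hbL
    have hLn : L.Normal := ⟨fun x hx g => by
      rw [hchar] at hx ⊢
      exact ⟨hWn.conj_mem x hx.1 g, by rw [conj_pow, hx.2, mul_one, mul_inv_cancel]⟩⟩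
    have hcomap : (L.comap f).map f = L := map_comap_eq_self_of_surjective (QuotientGroup.mk'_surjective M) L
    have hML : M ≤ L.comap f := (QuotientGroup.ker_mk' M).ge.trans (ker_le_comap f L)
    refine ⟨L.comap f, hLn.comap f, hML, fun r hr h => ?_, fun r hr h => ?_⟩
    · refine hK'1 r hr ?_
      have h1 : M.relIndex (L.comap f) = Nat.card L := by
        conv_rhs => rw [← hcomap, ← relIndex_bot_left,
          ← Subgroup.map_eq_bot_iff M |>.2 (QuotientGroup.ker_mk' M).ge,
          relIndex_map_map, QuotientGroup.ker_mk', sup_idem, sup_eq_left.2 hML]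
      rwa [h1, hcL] at h
    · rw [index_comap_of_surjective _ (QuotientGroup.mk'_surjective M)] at h
      have h1 : L.index = M.relIndex M' * K'.index := by
        refine Nat.eq_of_mul_eq_mul_left (Nat.card_pos (α := L)) ?_
        rw [card_mul_index, hcL, ← mul_assoc, mul_comm (M'.relIndex K'),
          relIndex_mul_relIndex M M' K' hlt.le hle, relIndex_mul_index (hlt.le.trans hle), index_eq_card]
      rw [h1] at h
      exact (hr.dvd_mul.1 h).elim (hπ2 r hr) (hK'2 r hr)

/-- Let π be a set of primes and G a finite group. The π-elements of G (elements whose order is divisible only by primes of π) form a subgroup if and only if G is π-separable (it has a chain of normal subgroups from 1 to G with each successive index divisible only by primes in π or only by primes outside π) and N_G(H)/C_G(H) is a π'-group for every nontrivial π'-subgroup H of G. -/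
theorem result {G : Type*} [Group G] [Finite G] (π : Set ℕ)
    (hπ : ∀ p ∈ π, p.Prime) :
    (∃ K : Subgroup G, ∀ x : G, x ∈ K ↔ ∀ p : ℕ, p.Prime → p ∣ orderOf x → p ∈ π) ↔
    ((∃ (n : ℕ) (H : Fin (n + 1) → Subgroup G), H 0 = ⊥ ∧ H (Fin.last n) = ⊤ ∧ Monotone H ∧ (∀ i, (H i).Normal) ∧
      ∀ i : Fin n, (∀ q : ℕ, q.Prime → q ∣ (H i.castSucc).relIndex (H i.succ) → q ∈ π) ∨
        (∀ q : ℕ, q.Prime → q ∣ (H i.castSucc).relIndex (H i.succ) → q ∉ π)) ∧
     (∀ H : Subgroup G, H ≠ ⊥ → (∀ p : ℕ, p.Prime → p ∣ Nat.card ↥H → p ∉ π) →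
        ∀ p : ℕ, p.Prime → p ∣ (Subgroup.centralizer (H : Set G)).relIndex (Subgroup.normalizer (H : Set G)) → p ∉ π)) := by
  constructor
  · rintro ⟨K, hK⟩
    have hKn : K.Normal := ⟨fun x hx g => (hK _).2 (by
      rw [show orderOf (g * x * g⁻¹) = orderOf x from
        orderOf_injective (MulAut.conj g).toMonoidHom (MulAut.conj g).injective x]
      exact (hK x).1 hx)⟩
    have hcard : IsPiNum π (Nat.card K) := fun q hq h => by
      have := Fact.mk hq
      obtain ⟨x, hx⟩ := exists_prime_orderOf_dvd_card' q h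
      exact (hK x).1 x.2 q hq (by rw [Subgroup.orderOf_coe, hx])
    have hidx : IsPiNum' π K.index := fun q hq h hqπ => by
      have := Fact.mk hq
      obtain ⟨S⟩ : Nonempty (Sylow q G) := Sylow.nonempty
      refine S.not_dvd_index (h.trans (index_dvd_of_le fun x hx => (hK x).2 fun p hp hpd => ?_))
      obtain ⟨i, hi⟩ := S.isPGroup' ⟨x, hx⟩
      have h1 : orderOf x ∣ q ^ i := orderOf_dvd_of_pow_eq_one (congrArg Subtype.val hi)
      rwa [(Nat.prime_dvd_prime_iff_eq hp hq).1 (hp.dvd_of_dvd_pow (hpd.trans h1))]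
    refine ⟨⟨2, ![⊥, K, ⊤], rfl, rfl, ?_, ?_, ?_⟩, ?_⟩
    · refine Fin.monotone_iff_le_succ.2 fun i => ?_
      fin_cases i
      · exact bot_le
      · exact le_top
    · intro i
      fin_cases i
      · exact (inferInstance : (⊥ : Subgroup G).Normal)
      · exact hKn
      · exact (inferInstance : (⊤ : Subgroup G).Normal)
    · intro i
      fin_cases i
      · exact Or.inl fun q hq h => hcard q hq (by simpa using h)
      · exact Or.inr fun q hq h => hidx q hq (by simpa using h)
    intro H _ hH p hp hpd hpπ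
    have := Fact.mk hp
    obtain ⟨S⟩ : Nonempty (Sylow p (normalizer (H : Set G))) := Sylow.nonempty
    refine S.not_dvd_index (hpd.trans (index_dvd_of_le fun x hx => ?_))
    show (x : G) ∈ centralizer (H : Set G)
    have hxK : (x : G) ∈ K := (hK _).2 fun r hr hrd => by
      obtain ⟨i, hi⟩ := S.isPGroup' ⟨x, hx⟩
      have h1 : orderOf (x : G) ∣ p ^ i :=
        orderOf_dvd_of_pow_eq_one (congrArg (fun z : (S : Subgroup (normalizer (H : Set G))) => ((z : _) : G)) hi)
      rwa [(Nat.prime_dvd_prime_iff_eq hr hp).1 (hr.dvd_of_dvd_pow (hrd.trans h1))]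
    have hKH : K ⊓ H = ⊥ := Agent.Coprime.disjoint_of_coprime_card
      (Nat.coprime_of_dvd fun r hr h1 h2 => hH r hr h2 (hcard r hr h1))
    rw [mem_centralizer_iff]
    intro h hh
    have h1 : (x : G) * h * (x : G)⁻¹ * h⁻¹ ∈ K ⊓ H :=
      ⟨by rw [show (x : G) * h * (x : G)⁻¹ * h⁻¹ = x * (h * (x : G)⁻¹ * h⁻¹) by group]
          exact K.mul_mem hxK (hKn.conj_mem _ (K.inv_mem hxK) h),
        H.mul_mem ((mem_normalizer_iff.1 x.2 h).1 hh) (H.inv_mem hh)⟩
    rw [hKH, mem_bot] at h1
    exact (mul_inv_eq_iff_eq_mul.1 (mul_inv_eq_one.1 h1)).symm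
  · rintro ⟨⟨m, H, h0, hlast, hmono, hn, hstep⟩, hN⟩
    have hP : CentralisesR π G := by
      intro q r hq hr hqπ hrπ R hR y hy i hyi
      by_cases hR1 : R = ⊥
      · subst hR1
        rw [mem_centralizer_iff]
        intro h hh
        rw [show h = 1 from hh, one_mul, mul_one]
      set C := (centralizer (R : Set G)).subgroupOf (normalizer (R : Set G)) with hC
      have hCn : C.Normal := ⟨fun c hc n => by
        show (n : G) * c * (n : G)⁻¹ ∈ centralizer (R : Set G)
        rw [mem_centralizer_iff]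
        intro h hh
        have h1 : (n : G)⁻¹ * h * n * c = (c : G) * ((n : G)⁻¹ * h * n) :=
          mem_centralizer_iff.1 (hc : (c : G) ∈ centralizer (R : Set G)) _
            ((mem_normalizer_iff''.1 n.2 h).1 hh)
        calc h * ((n : G) * c * (n : G)⁻¹) = n * ((n : G)⁻¹ * h * n * c) * (n : G)⁻¹ := by group
          _ = n * (c * ((n : G)⁻¹ * h * n)) * (n : G)⁻¹ := by rw [h1]
          _ = n * c * (n : G)⁻¹ * h := by group⟩
      have hindex : ¬ q ∣ C.index := fun hd => hN R hR1 (fun p hp hpd => by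
        have := Fact.mk hr
        obtain ⟨j, hj⟩ := hR.exists_card_eq
        rwa [(Nat.prime_dvd_prime_iff_eq hp hr).1 (hp.dvd_of_dvd_pow (hj ▸ hpd))]) q hq hd hqπ
      have h1 : ((⟨y, hy⟩ : normalizer (R : Set G)) : _ ⧸ C) = 1 := orderOf_eq_one_iff.1
        (Nat.eq_one_of_dvd_coprimes ((hq.coprime_iff_not_dvd.2 hindex).pow_left i)
          (orderOf_dvd_of_pow_eq_one (by
            rw [← QuotientGroup.mk_pow, show (⟨y, hy⟩ : normalizer (R : Set G)) ^ q ^ i = 1 from
              Subtype.ext hyi, QuotientGroup.mk_one]))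
          (index_eq_card C ▸ orderOf_dvd_natCard _))
      exact ((QuotientGroup.eq_one_iff (⟨y, hy⟩ : normalizer (R : Set G))).1 h1 :)
    have hQ : ∀ M : Subgroup G, M.Normal → M ≠ ⊤ → ∃ M' : Subgroup G, M'.Normal ∧ M < M' ∧
        (IsPiNum π (M.relIndex M') ∨ IsPiNum' π (M.relIndex M')) := by
      intro M hM hMtop
      obtain ⟨i, hi1, hi2⟩ : ∃ i : Fin m, H i.castSucc ≤ M ∧ ¬ H i.succ ≤ M := by
        by_contra hcon
        push Not at hcon
        refine hMtop (top_le_iff.1 (hlast ▸ ?_))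
        have : ∀ j : Fin (m + 1), H j ≤ M := fun j => by
          induction j using Fin.induction with
          | zero => rw [h0]; exact bot_le
          | succ j ih => exact hcon j ih
        exact this _
      have := hn i.succ
      refine ⟨M ⊔ H i.succ, inferInstance, lt_of_le_of_ne le_sup_left fun h => hi2 (h.ge.trans' le_sup_right), ?_⟩
      rw [relIndex_sup_left]
      exact (hstep i).imp (fun h q hq hd => h q hq (hd.trans (relIndex_dvd_of_le_left _ hi1)))
        (fun h q hq hd => h q hq (hd.trans (relIndex_dvd_of_le_left _ hi1)))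
    obtain ⟨K, hKn, -, hK1, hK2⟩ := exists_hall hP hQ ⊥
    rw [relIndex_bot_left] at hK1
    refine ⟨K, fun x => ⟨fun hx p hp hpd => hK1 p hp (hpd.trans (orderOf_dvd_natCard K hx)), fun hx => ?_⟩⟩
    have h1 : (x : G ⧸ K) = 1 := orderOf_eq_one_iff.1 (Nat.eq_one_of_dvd_coprimes
      (Nat.coprime_of_dvd fun r hr h1 h2 => hK2 r hr h2 (hx r hr h1))
      (orderOf_map_dvd (QuotientGroup.mk' K) x) (index_eq_card K ▸ orderOf_dvd_natCard _))
    exact (QuotientGroup.eq_one_iff _).1 h1

end Cfsg.Agent.S4050
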