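import Cfsg.Statements.S4051
import Mathlib
import Cfsg.Agent.Lib.PrimeParts.Basic
-- import your own Cfsg.Agent.* helpers here

set_option autoImplicit false
open Cfsg

namespace Cfsg.Agent.S4051

open Subgroup

/-- `g` is a `π`-element. -/
def PiEl (π : Set ℕ) {G : Type*} [Group G] (g : G) : Prop :=
  ∀ p : ℕ, p.Prime → p ∣ orderOf g → p ∈ π

theorem PiEl.of_dvd {π : Set ℕ} {G H : Type*} [Group G] [Group H] {g : G} {h : H}
    (hg : PiEl π g) (hd : orderOf h ∣ orderOf g) : PiEl π h :=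
  fun p hp hpd => hg p hp (hpd.trans hd)

theorem PiEl.map {π : Set ℕ} {G H : Type*} [Group G] [Group H] (f : G →* H) {g : G}
    (hg : PiEl π g) : PiEl π (f g) :=
  hg.of_dvd (orderOf_map_dvd f g)

/-- If `K / L` is a `π'`-group inside `G / L` and all prime power `π`-elements centralise it, the
`π`-elements of the quotient form a subgroup. -/
theorem quotient_step {π : Set ℕ} {X : Type*} [Group X] [Finite X] (N : Subgroup X) [N.Normal]
    (hN : ∀ p : ℕ, p.Prime → p ∣ Nat.card N → p ∉ π)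
    (hquot : ∀ x y : X ⧸ N, PiEl π x → PiEl π y → PiEl π (x * y))
    (hcent : ∀ (t : X) (p b : ℕ), p.Prime → p ∈ π → orderOf t = p ^ b → t ∈ centralizer (N : Set X))
    (x y : X) (hx : PiEl π x) (hy : PiEl π y) : PiEl π (x * y) := by
  classical
  have hall : ∀ g : X, PiEl π g → g ∈ centralizer (N : Set X) := by
    intro g hg
    by_contra hgc
    obtain ⟨q, b, e, hq, hqg, -, heo, hec⟩ := Cfsg.Agent.PrimeParts.exists_part_not_mem hgc
    exact hec (hcent e q b hq (hg q hq hqg) heo)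
  -- the subgroup generated by the `π`-elements
  set W := closure {g : X | PiEl π g} with hW
  have hWN : W ≤ centralizer (N : Set X) := (closure_le _).2 hall
  set Z := N.subgroupOf W with hZ
  have hZc : ∀ z ∈ Z, ∀ w : W, w * z = z * w := fun z hz w =>
    Subtype.ext (mem_centralizer_iff.1 (hWN w.2) (z : X) hz).symm
  haveI hZn : Z.Normal := ⟨fun z hz w => by rw [hZc z hz w, mul_inv_cancel_right]; exact hz⟩
  let f : W →* X ⧸ N := (QuotientGroup.mk' N).comp W.subtype
  have hf : f.ker = Z := by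
    ext w
    simp [f, hZ, MonoidHom.mem_ker, mem_subgroupOf]
  have hrange : ∀ q ∈ f.range, PiEl π q := by
    rintro _ ⟨⟨w, hw⟩, rfl⟩
    show PiEl π (QuotientGroup.mk' N w)
    induction hw using closure_induction with
    | mem v hv => exact hv.map _
    | one => intro p hp hd; rw [map_one, orderOf_one, Nat.dvd_one] at hd; exact absurd hd hp.ne_one
    | mul a b _ _ ha hb => rw [map_mul]; exact hquot _ _ ha hb
    | inv a _ ha => rw [map_inv]; exact ha.of_dvd (dvd_of_eq (orderOf_inv _))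
  have hidx : ∀ p : ℕ, p.Prime → p ∣ Z.index → p ∈ π := by
    intro p hp hd
    rw [← hf, index_ker] at hd
    haveI : Fact p.Prime := ⟨hp⟩
    obtain ⟨q, hq⟩ := exists_prime_orderOf_dvd_card' p hd
    refine hrange q q.2 p hp ?_
    rw [orderOf_coe, hq]
  have hZcard : Nat.card Z ∣ Nat.card N := by
    rw [hZ, ← inf_subgroupOf_left, Nat.card_congr (subgroupOfEquivOfLe (inf_le_left : W ⊓ N ≤ W)).toEquiv]
    exact card_dvd_of_le inf_le_right
  have hco : (Nat.card Z).Coprime Z.index := Nat.coprime_of_dvd fun p hp h1 h2 =>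
    hN p hp (h1.trans hZcard) (hidx p hp h2)
  obtain ⟨H, hH⟩ := exists_right_complement'_of_coprime hco
  have key : ∀ g : X, PiEl π g → ∃ h : W, h ∈ H ∧ (h : X) = g := by
    intro g hg
    have hgW : g ∈ W := subset_closure hg
    obtain ⟨⟨⟨z, hz⟩, ⟨h, hh⟩⟩, e⟩ := hH.2 (⟨g, hgW⟩ : W)
    change z * h = (⟨g, hgW⟩ : W) at e
    have hc : Commute z h := (hZc z hz h).symm
    have h1 : (z * h) ^ orderOf g = 1 := by
      rw [e]
      exact Subtype.ext (pow_orderOf_eq_one g)
    rw [hc.mul_pow] at h1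
    have hzH : z ^ orderOf g ∈ H := by
      rw [eq_inv_of_mul_eq_one_left h1]
      exact inv_mem (pow_mem hh _)
    have h2 : z ^ orderOf g = 1 := by
      have h := hH.disjoint.le_bot (mem_inf.2 ⟨pow_mem hz _, hzH⟩)
      rwa [mem_bot] at h
    have hz1 : z = 1 := by
      refine orderOf_eq_one_iff.1 ?_
      by_contra hne
      obtain ⟨p, hp, hpd⟩ := Nat.exists_prime_and_dvd hne
      exact hN p hp ((hpd.trans (orderOf_dvd_natCard Z hz)).trans hZcard)
        (hg p hp (hpd.trans (orderOf_dvd_of_pow_eq_one h2)))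
    rw [hz1, one_mul] at e
    exact ⟨h, hh, congrArg Subtype.val e⟩
  obtain ⟨h, hh, rfl⟩ := key x hx
  obtain ⟨k, hk, rfl⟩ := key y hy
  intro p hp hpd
  refine hidx p hp ?_
  rw [hH.symm.index_eq_card]
  rw [← Subgroup.coe_mul, orderOf_coe] at hpd
  exact hpd.trans (orderOf_dvd_natCard H (mul_mem hh hk))

theorem main {G : Type*} [Group G] [Finite G] (π : Set ℕ)
    (hhom : ∀ H : Subgroup G, H ≠ ⊥ → (∀ p : ℕ, p.Prime → p ∣ Nat.card ↥H → p ∉ π) →
      ∀ p : ℕ, p.Prime → p ∣ (centralizer (H : Set G)).relIndex (normalizer (H : Set G)) → p ∉ π)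
    (K : Subgroup G) [K.Normal]
    (hK : ∃ L : Subgroup ↥K, ∀ x : ↥K, x ∈ L ↔ PiEl π x)
    (hQ : ∃ L : Subgroup (G ⧸ K), ∀ x : G ⧸ K, x ∈ L ↔ PiEl π x) :
    ∃ M : Subgroup G, ∀ x : G, x ∈ M ↔ PiEl π x := by
  classical
  obtain ⟨L₀, hL₀⟩ := hK
  obtain ⟨L₂, hL₂⟩ := hQ
  set L := L₀.map K.subtype with hL
  have hLK : L ≤ K := map_subtype_le _
  have hLmem : ∀ g : G, g ∈ L ↔ g ∈ K ∧ PiEl π g := by
    intro g
    constructor
    · rintro ⟨k, hk, rfl⟩
      exact ⟨k.2, ((hL₀ k).1 hk).of_dvd (dvd_of_eq (orderOf_coe k))⟩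
    · rintro ⟨hgK, hg⟩
      exact ⟨⟨g, hgK⟩, (hL₀ _).2 (hg.of_dvd (dvd_of_eq (orderOf_mk g hgK))), rfl⟩
  haveI hLn : L.Normal := ⟨fun g hg a => by
    rw [hLmem] at hg ⊢
    exact ⟨(inferInstance : K.Normal).conj_mem g hg.1 a,
      hg.2.of_dvd (dvd_of_eq (MulEquiv.orderOf_eq (MulAut.conj a) g))⟩⟩
  set f := QuotientGroup.mk' L with hf
  have hfs : Function.Surjective f := QuotientGroup.mk'_surjective L
  set N := K.map f with hN
  haveI hNn : N.Normal := Subgroup.Normal.map inferInstance f hfs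
  have hNp : ∀ p : ℕ, p.Prime → p ∣ Nat.card N → p ∉ π := by
    intro p hp hd hpπ
    haveI : Fact p.Prime := ⟨hp⟩
    obtain ⟨⟨w, hw⟩, hwo⟩ := exists_prime_orderOf_dvd_card' p hd
    rw [orderOf_mk] at hwo
    obtain ⟨k, hk, rfl⟩ := hw
    obtain ⟨a, m, hm, hbm⟩ := Nat.exists_eq_pow_mul_and_not_dvd (orderOf_pos k).ne' p hp.ne_one
    have hmem : k ^ m ∈ L := by
      rw [hLmem]
      refine ⟨pow_mem hk _, fun q hq hqd => ?_⟩
      have h1 : orderOf (k ^ m) ∣ p ^ a :=
        orderOf_dvd_of_pow_eq_one (by rw [← pow_mul, mul_comm, ← hbm, pow_orderOf_eq_one])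
      rw [(Nat.prime_dvd_prime_iff_eq hq hp).1 (hq.dvd_of_dvd_pow (hqd.trans h1))]
      exact hpπ
    have h2 : f k ^ m = 1 := by rw [← map_pow]; exact (QuotientGroup.eq_one_iff _).2 hmem
    exact hm (hwo ▸ orderOf_dvd_of_pow_eq_one h2)
  have hquot : ∀ x y : (G ⧸ L) ⧸ N, PiEl π x → PiEl π y → PiEl π (x * y) := by
    intro x y hx hy
    let e : (G ⧸ L) ⧸ N ≃* G ⧸ K := QuotientGroup.quotientQuotientEquivQuotient L K hLK
    have h := (hL₂ _).1 (mul_mem ((hL₂ _).2 (hx.map e.toMonoidHom)) ((hL₂ _).2 (hy.map e.toMonoidHom)))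
    rw [← map_mul] at h
    exact h.of_dvd (dvd_of_eq (MulEquiv.orderOf_eq e _).symm)
  have hcent : ∀ (t : G ⧸ L) (p b : ℕ), p.Prime → p ∈ π → orderOf t = p ^ b →
      t ∈ centralizer (N : Set (G ⧸ L)) := by
    intro t p b hp hpπ hto
    haveI : Fact p.Prime := ⟨hp⟩
    have hpN : (Nat.card N).Coprime p := ((hp.coprime_iff_not_dvd.2 fun h => hNp p hp h hpπ)).symm
    set C := N ⊓ centralizer ({t} : Set (G ⧸ L)) with hC
    suffices hdvd : ∀ q k : ℕ, q.Prime → q ^ k ∣ Nat.card N → q ^ k ∣ Nat.card C by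
      have heq : C = N := eq_of_le_of_card_ge inf_le_left (Nat.le_of_dvd Nat.card_pos
        ((Nat.dvd_iff_prime_pow_dvd_dvd _ _).2 fun q k hq h => hdvd q k hq h))
      exact mem_centralizer_iff.2 fun v hv =>
        mem_centralizer_singleton_iff.1 (mem_inf.1 (heq.symm ▸ hv : v ∈ C)).2
    intro q k hq hqk
    rcases Nat.eq_zero_or_pos k with rfl | hk
    · simp
    haveI : Fact q.Prime := ⟨hq⟩
    have hqN : q ∣ Nat.card N := (dvd_pow_self q hk.ne').trans hqk
    have hqπ := hNp q hq hqN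
    obtain ⟨Q⟩ := (inferInstance : Nonempty (Sylow q K))
    set Q' := (Q : Subgroup K).map K.subtype with hQ'
    have hQcard : Nat.card Q' = Nat.card (Q : Subgroup K) := card_map_of_injective K.subtype_injective
    obtain ⟨a, ha⟩ := IsPGroup.iff_card.1 Q.2
    have hNK : Nat.card N ∣ Nat.card K := Subgroup.card_map_dvd K f
    have hqa : q ^ k ∣ q ^ a := by
      rw [← ha]
      exact Q.pow_dvd_card_of_pow_dvd_card (hqk.trans hNK)
    -- lift `t` and use the Frattini argument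
    obtain ⟨t₀, c, ht₀, ht₀o⟩ := Cfsg.Agent.PrimeParts.exists_primePow_lift f hfs hp hto
    obtain ⟨s, hs, k₀, hk₀, hsk⟩ : ∃ s ∈ normalizer (Q' : Set G), ∃ k₀ ∈ K, t₀ = s * k₀ := by
      have h : t₀ ∈ normalizer (Q' : Set G) ⊔ K := by
        rw [hQ', Sylow.normalizer_sup_eq_top]; exact mem_top _
      rw [← SetLike.mem_coe, mul_normal] at h
      obtain ⟨s, hs, k₀, hk₀, e⟩ := h
      exact ⟨s, hs, k₀, hk₀, e.symm⟩
    -- replace `s` by a `p`-element
    obtain ⟨a', m, hm, hbm⟩ := Nat.exists_eq_pow_mul_and_not_dvd (orderOf_pos s).ne' p hp.ne_one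
    have hmk : ((t₀ : G ⧸ K)) = (s : G ⧸ K) := by
      rw [hsk, QuotientGroup.mk_mul, (QuotientGroup.eq_one_iff k₀).2 hk₀, mul_one]
    have hcop : m.Coprime (orderOf (s : G ⧸ K)) := by
      refine Nat.Coprime.coprime_dvd_right (m := p ^ c) ?_ ((hp.coprime_iff_not_dvd.2 hm).symm.pow_right c)
      rw [← hmk, ← ht₀o]
      exact orderOf_map_dvd (QuotientGroup.mk' K) t₀
    obtain ⟨e, he⟩ := exists_pow_eq_self_of_coprime hcop
    set s' := (s ^ m) ^ e with hs'
    have hs'K : (s' : G ⧸ K) = (t₀ : G ⧸ K) := by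
      rw [hs', QuotientGroup.mk_pow, QuotientGroup.mk_pow, he, hmk]
    have hs'p : orderOf s' ∣ p ^ a' := orderOf_dvd_of_pow_eq_one (by
      rw [hs', ← pow_mul, ← pow_mul, mul_comm e, ← mul_assoc, mul_comm m, ← hbm, pow_mul,
        pow_orderOf_eq_one, one_pow])
    have hs'N : s' ∈ normalizer (Q' : Set G) := pow_mem (pow_mem hs m) e
    have hs'C : s' ∈ centralizer (Q' : Set G) := by
      by_cases hbot : Q' = ⊥
      · rw [hbot]
        exact mem_centralizer_iff.2 fun v hv => by rw [mem_bot.1 hv, one_mul, mul_one]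
      have hQp : ∀ r : ℕ, r.Prime → r ∣ Nat.card Q' → r ∉ π := fun r hr hd => by
        rw [hQcard, ha] at hd
        rw [(Nat.prime_dvd_prime_iff_eq hr hq).1 (hr.dvd_of_dvd_pow hd)]
        exact hqπ
      have h1 := hhom Q' hbot hQp p hp
      haveI : ((centralizer (Q' : Set G)).subgroupOf (normalizer (Q' : Set G))).Normal := inferInstance
      have h2 : ((⟨s', hs'N⟩ : normalizer (Q' : Set G)) :
          normalizer (Q' : Set G) ⧸ (centralizer (Q' : Set G)).subgroupOf (normalizer (Q' : Set G))) = 1 := by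
        obtain ⟨i, -, hi⟩ := (Nat.dvd_prime_pow hp).1 ((orderOf_map_dvd
          (QuotientGroup.mk' ((centralizer (Q' : Set G)).subgroupOf (normalizer (Q' : Set G))))
          ⟨s', hs'N⟩).trans ((orderOf_mk s' hs'N).dvd.trans hs'p))
        refine orderOf_eq_one_iff.1 ?_
        rcases Nat.eq_zero_or_pos i with rfl | hi0
        · rw [pow_zero] at hi; exact hi
        · refine absurd hpπ (h1 ((dvd_pow_self p hi0.ne').trans ?_))
          rw [← hi]
          exact _root_.orderOf_dvd_natCard _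
      exact (QuotientGroup.eq_one_iff (⟨s', hs'N⟩ : normalizer (Q' : Set G))).1 h2
    -- in `G / L` both generate Sylow `p`-subgroups of `⟨t⟩N`
    set s₁ := f s' with hs₁
    have hst : t⁻¹ * s₁ ∈ N := by
      rw [← ht₀, hs₁, ← map_inv, ← map_mul]
      exact mem_map_of_mem f (QuotientGroup.eq.1 hs'K.symm)
    set U := N ⊔ zpowers t with hU
    have htU : t ∈ U := mem_sup_right (mem_zpowers t)
    have hsU : s₁ ∈ U := by
      rw [show s₁ = t * (t⁻¹ * s₁) by group]
      exact mul_mem htU (mem_sup_left hst)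
    have hUcard : ∀ u : G ⧸ L, u ∈ U → (∃ i, orderOf u = p ^ i) → N ⊔ zpowers u = U →
        ¬ p ∣ ((zpowers u).subgroupOf U).index := by
      intro u hu ⟨i, hi⟩ hNu h
      have h2 : ((zpowers u).subgroupOf U).index ∣ Nat.card N := by
        rw [← hNu]
        have h3 := card_mul_index ((zpowers u).subgroupOf (N ⊔ zpowers u))
        rw [Nat.card_congr (subgroupOfEquivOfLe le_sup_right).toEquiv,
          ← card_mul_index (N.subgroupOf (N ⊔ zpowers u)),
          Nat.card_congr (subgroupOfEquivOfLe le_sup_left).toEquiv,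
          show (N.subgroupOf (N ⊔ zpowers u)).index = N.relIndex (zpowers u) from relIndex_sup_left (zpowers u) N] at h3
        have h4 : N.relIndex (zpowers u) ∣ Nat.card (zpowers u) := index_dvd_card _
        refine Nat.dvd_of_mul_dvd_mul_left Nat.card_pos (h3.dvd.trans ?_)
        rw [mul_comm]
        exact mul_dvd_mul_right h4 _
      exact hp.ne_one (Nat.eq_one_of_dvd_coprimes hpN (h.trans h2) dvd_rfl)
    have hNs : N ⊔ zpowers s₁ = U := by
      refine le_antisymm (sup_le le_sup_left (zpowers_le.2 hsU)) (sup_le le_sup_left (zpowers_le.2 ?_))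
      rw [show t = s₁ * (t⁻¹ * s₁)⁻¹ by group]
      exact mul_mem (mem_sup_right (mem_zpowers _)) (mem_sup_left (inv_mem hst))
    obtain ⟨i₁, -, hi₁⟩ := (Nat.dvd_prime_pow hp).1 ((orderOf_map_dvd f s').trans hs'p)
    have hP1 : IsPGroup p ((zpowers t).subgroupOf U) :=
      IsPGroup.of_card (n := b) (by
        rw [Nat.card_congr (subgroupOfEquivOfLe (zpowers_le.2 htU)).toEquiv, Nat.card_zpowers, hto])
    have hP2 : IsPGroup p ((zpowers s₁).subgroupOf U) :=
      IsPGroup.of_card (n := i₁) (by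
        rw [Nat.card_congr (subgroupOfEquivOfLe (zpowers_le.2 hsU)).toEquiv, Nat.card_zpowers, hs₁, hi₁])
    set T1 := hP1.toSylow (hUcard t htU ⟨b, hto⟩ rfl) with hT1
    set T2 := hP2.toSylow (hUcard s₁ hsU ⟨i₁, by rw [hs₁, hi₁]⟩ hNs) with hT2
    obtain ⟨u, hu⟩ := MulAction.exists_smul_eq U T2 T1
    -- `C_N(t)` contains a conjugate of the image of `Q`
    have htu : ∃ j : ℤ, (u : G ⧸ L) * s₁ ^ j * (u : G ⧸ L)⁻¹ = t := by
      have h : (⟨t, htU⟩ : U) ∈ ((u • T2 : Sylow p U) : Subgroup U) := by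
        rw [hu]
        show t ∈ zpowers t
        exact mem_zpowers t
      rw [Sylow.coe_subgroup_smul] at h
      obtain ⟨w, hw, e⟩ := h
      obtain ⟨j, hj⟩ := mem_zpowers_iff.1 (show (w : G ⧸ L) ∈ zpowers s₁ from hw)
      refine ⟨j, ?_⟩
      rw [hj]
      exact congrArg Subtype.val e
    obtain ⟨j, hj⟩ := htu
    have hle : (Q'.map f).map (MulAut.conj (u : G ⧸ L)).toMonoidHom ≤ C := by
      rintro _ ⟨_, ⟨v, hv, rfl⟩, rfl⟩
      refine mem_inf.2 ⟨hNn.conj_mem _ (mem_map_of_mem f (map_subtype_le _ hv)) _, ?_⟩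
      have hc : Commute (f v) s₁ := by
        show f v * f s' = f s' * f v
        rw [← map_mul, ← map_mul, mem_centralizer_iff.1 hs'C v hv]
      rw [mem_centralizer_singleton_iff, ← hj]
      show (u : G ⧸ L) * f v * (u : G ⧸ L)⁻¹ * _ = _ * ((u : G ⧸ L) * f v * (u : G ⧸ L)⁻¹)
      calc (u : G ⧸ L) * f v * (u : G ⧸ L)⁻¹ * ((u : G ⧸ L) * s₁ ^ j * (u : G ⧸ L)⁻¹)
          = (u : G ⧸ L) * (f v * s₁ ^ j) * (u : G ⧸ L)⁻¹ := by group
        _ = _ := by rw [(hc.zpow_right j).eq]; group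
    refine dvd_trans ?_ (card_dvd_of_le hle)
    rw [card_map_of_injective (MulEquiv.injective _)]
    have hinj : Nat.card (Q'.map f) = Nat.card Q' := by
      refine Nat.card_congr (Equiv.ofBijective (fun v : Q' => (⟨f v, mem_map_of_mem f v.2⟩ : Q'.map f))
        ⟨fun v w e => ?_, fun ⟨w, v, hv, e⟩ => ⟨⟨v, hv⟩, Subtype.ext e⟩⟩).symm
      have h : ((v⁻¹ * w : Q') : G) ∈ L := QuotientGroup.eq.1 (congrArg Subtype.val e)
      refine inv_mul_eq_one.1 (orderOf_eq_one_iff.1 ?_)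
      by_contra hne
      obtain ⟨r, hr, hrd⟩ := Nat.exists_prime_and_dvd hne
      have h5 : r ∣ q ^ a := by rw [← ha, ← hQcard]; exact hrd.trans (_root_.orderOf_dvd_natCard _)
      rw [← orderOf_coe] at hrd
      exact hqπ ((Nat.prime_dvd_prime_iff_eq hr hq).1 (hr.dvd_of_dvd_pow h5) ▸ ((hLmem _).1 h).2 r hr hrd)
    rw [hinj, hQcard, ha]
    exact hqa
  have hmul : ∀ x y : G, PiEl π x → PiEl π y → PiEl π (x * y) := by
    intro x y hx hy p hp hpd
    have h := quotient_step N hNp hquot hcent (f x) (f y) (hx.map f) (hy.map f)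
    rw [← map_mul] at h
    by_contra hpπ
    haveI : Fact p.Prime := ⟨hp⟩
    obtain ⟨c, hc⟩ := hpd
    set e := (x * y) ^ c with he
    have heo : orderOf e = p := by
      rw [he, orderOf_pow, hc, Nat.gcd_eq_right (dvd_mul_left _ _),
        Nat.mul_div_cancel _ (Nat.pos_of_ne_zero fun h0 => (orderOf_pos (x * y)).ne' (by rw [hc, h0, mul_zero]))]
    have heL : e ∈ L := by
      rw [← QuotientGroup.eq_one_iff]
      refine orderOf_eq_one_iff.1 ?_
      rcases (Nat.dvd_prime hp).1 ((orderOf_map_dvd f e).trans heo.dvd) with h1 | h1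
      · exact h1
      · refine absurd (h p hp ?_) hpπ
        rw [← h1, he, map_pow]
        exact orderOf_pow_dvd _
    exact hpπ (((hLmem _).1 heL).2 p hp heo.symm.dvd)
  exact ⟨{ carrier := {g | PiEl π g}
           one_mem' := fun p hp hd => absurd (Nat.dvd_one.1 (orderOf_one (G := G) ▸ hd)) hp.ne_one
           mul_mem' := fun {a b} ha hb => hmul a b ha hb
           inv_mem' := fun {a} ha => ha.of_dvd (dvd_of_eq (orderOf_inv a)) }, fun _ => Iff.rfl⟩


/-- Let π be a set of primes and G a finite group such that N_G(H)/C_G(H) is a π'-group for every nontrivial π'-subgroup H of G. If K is a normal subgroup of G such that the π-elements of K form a subgroup and the π-elements of G/K form a subgroup, then the π-elements of G form a subgroup. -/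
theorem result {G : Type*} [Group G] [Finite G] (π : Set ℕ)
    (hπ : ∀ p ∈ π, p.Prime) (hhom : (∀ H : Subgroup G, H ≠ ⊥ → (∀ p : ℕ, p.Prime → p ∣ Nat.card ↥H → p ∉ π) →
        ∀ p : ℕ, p.Prime → p ∣ (Subgroup.centralizer (H : Set G)).relIndex (Subgroup.normalizer (H : Set G)) → p ∉ π))
    (K : Subgroup G) [K.Normal]
    (hK : ∃ L : Subgroup ↥K, ∀ x : ↥K, x ∈ L ↔ ∀ p : ℕ, p.Prime → p ∣ orderOf x → p ∈ π)
    (hQ : ∃ L : Subgroup (G ⧸ K), ∀ x : G ⧸ K, x ∈ L ↔ ∀ p : ℕ, p.Prime → p ∣ orderOf x → p ∈ π) :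
    (∃ K : Subgroup G, ∀ x : G, x ∈ K ↔ ∀ p : ℕ, p.Prime → p ∣ orderOf x → p ∈ π) := by
  exact main π hhom K hK hQ

end Cfsg.Agent.S4051
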