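import Cfsg.Statements.S4056
import Cfsg.Agent.Lib.PGroup.Frattini
import Cfsg.Agent.Lib.PGroup.Class2
import Cfsg.Agent.Lib.PGroup.ElementaryAbelian

open scoped commutatorElement

set_option autoImplicit false
open Cfsg

namespace Cfsg.Agent.S4056

/-- In a finite 2-group of nilpotency class at most 2 and exponent dividing 4, the Frattini subgroup lies in the centre and is elementary abelian. -/
theorem result {P : Type*} [Group P] [Finite P] (hP : IsPGroup 2 P)
    (hcl : Group.nilpotencyClass P ≤ 2) (hexp : Monoid.exponent P ∣ 4) :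
    frattini P ≤ Subgroup.center P ∧ Cfsg.IsElementaryAbelian 2 (frattini P) := by
  have : Fact (Nat.Prime 2) := ⟨Nat.prime_two⟩
  have := hP.isNilpotent
  have hc : commutator P ≤ Subgroup.center P := by
    rw [PGroup.class_two_iff, ← Subgroup.top_lowerCentralSeries_one]
    exact Subgroup.lowerCentralSeries_eq_bot_iff_nilpotencyClass_le.mpr hcl
  have h4 : ∀ x : P, x ^ 4 = 1 := fun x =>
    orderOf_dvd_iff_pow_eq_one.mp ((Monoid.order_dvd_exponent x).trans hexp)
  have hcc : ∀ x y : P, ⁅y, x⁆ ^ 2 = 1 := fun x y => by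
    have h := PGroup.mul_pow_of_central (PGroup.mem_center_of_class_two hc y x) 4
    rw [h4, h4, h4, show Nat.choose 4 2 = 4 + 2 by rfl, pow_add, h4, one_mul, one_mul, one_mul] at h
    exact h.symm
  have hsq : ∀ x : P, x ^ 2 ∈ Subgroup.center P := fun x => Subgroup.mem_center_iff.mpr fun y => by
    rw [eq_comm, ← commutatorElement_eq_one_iff_mul_comm,
      PGroup.commutator_pow_left (PGroup.mem_center_of_class_two hc x y), hcc]
  have hel : IsElementaryAbelian 2 (omegaOne 2 (Subgroup.center P)) :=
    PGroup.isElementaryAbelian_omegaOne inferInstance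
  have hle : frattini P ≤ omegaOne 2 (Subgroup.center P) := by
    refine PGroup.frattini_le (p := 2) ?_ fun x =>
      PGroup.mem_omegaOne_of_pow_eq_one (hsq x) (by rw [← pow_mul]; exact h4 x)
    rw [commutator_def, Subgroup.commutator_le]
    exact fun x _ y _ =>
      PGroup.mem_omegaOne_of_pow_eq_one (PGroup.mem_center_of_class_two hc x y) (hcc y x)
  exact ⟨hle.trans (PGroup.omegaOne_le _), PGroup.isElementaryAbelian_mono hel hle⟩

end Cfsg.Agent.S4056
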