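import Cfsg.Statements.S4057
import Cfsg.Agent.Lib.PGroup.NormalElementary
import Cfsg.Agent.Lib.PGroup.UnitriangularRank
import Cfsg.Agent.Lib.PGroup.PowerFibres
import Mathlib.LinearAlgebra.Matrix.ToLin

set_option autoImplicit false
open Cfsg

namespace Cfsg.Agent.S4057

open scoped commutatorElement

variable {P : Type*} [Group P] {p : ℕ} [Fact p.Prime]

/-- A flag of a normal subgroup, each step central modulo the previous one. -/
theorem exists_flag [Finite P] (hP : IsPGroup p P) (E : Subgroup P) [E.Normal] {n : ℕ}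
    (hn : Nat.card E = p ^ n) :
    ∀ m ≤ n, ∃ e : Fin m → P, (Subgroup.closure (Set.range e)).Normal ∧
      Subgroup.closure (Set.range e) ≤ E ∧ Nat.card (Subgroup.closure (Set.range e)) = p ^ m ∧
      ∀ x : P, ∀ j, x * e j * x⁻¹ * (e j)⁻¹ ∈ Subgroup.closure (e '' {i | i < j}) := by
  intro m hm
  induction m with
  | zero =>
    refine ⟨Fin.elim0, ?_, ?_, ?_, fun x j => j.elim0⟩ <;> simp
  | succ m ih =>
    obtain ⟨e, heN, heE, hec, hest⟩ := ih (by omega)
    have hlt : Subgroup.closure (Set.range e) < E := lt_of_le_of_ne heE fun h => by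
      rw [h, hn] at hec
      exact absurd (Nat.pow_right_injective (Fact.out : p.Prime).two_le hec) (by omega)
    obtain ⟨L, hL, hFL, hLE, hLc⟩ := PGroup.exists_normal_step hP _ E hlt
    obtain ⟨w, hwL, hwF⟩ := SetLike.exists_of_lt hFL
    have hrange : Subgroup.closure (Set.range (Fin.snoc e w : Fin (m + 1) → P)) =
        Subgroup.closure (Set.range e) ⊔ Subgroup.zpowers w := by
      rw [show Set.range (Fin.snoc e w : Fin (m + 1) → P) = Set.range e ∪ {w} by
        rw [Fin.range_snoc, Set.insert_eq, Set.union_comm], Subgroup.closure_union,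
        Subgroup.zpowers_eq_closure]
    have hsup : Subgroup.closure (Set.range e) ⊔ Subgroup.zpowers w = L :=
      Subgroup.eq_of_le_of_card_ge (sup_le hFL.le (Subgroup.zpowers_le.2 hwL))
        (by rw [hLc, mul_comm]; exact PGroup.mul_card_le_card hP (left_lt_sup.2 fun h => hwF (h (Subgroup.mem_zpowers w))))
    have hLm : Nat.card L = p ^ (m + 1) := by rw [hLc, hec, pow_succ]
    have hcen : ∀ x : P, x * w * x⁻¹ * w⁻¹ ∈ Subgroup.closure (Set.range e) := by
      set π := QuotientGroup.mk' (Subgroup.closure (Set.range e))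
      have hn' : (L.map π).Normal := hL.map π (QuotientGroup.mk'_surjective _)
      have hcard : Nat.card (L.map π) = p := by
        have h1 : Nat.card (L.map π) = (Subgroup.closure (Set.range e)).relIndex L := by
          rw [← Subgroup.relIndex_ker, QuotientGroup.ker_mk']
        have h2 := Subgroup.relIndex_mul_relIndex ⊥ _ L bot_le hFL.le
        rw [Subgroup.relIndex_bot_left, Subgroup.relIndex_bot_left, hec, hLm, pow_succ] at h2
        rw [h1]
        exact Nat.eq_of_mul_eq_mul_left (pow_pos (Fact.out : p.Prime).pos m) h2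
      have hc := PGroup.le_center_of_card_eq (hP.to_quotient _) (L.map π) hcard
      intro x
      rw [← QuotientGroup.eq_one_iff, ← commutatorElement_def]
      show π ⁅x, w⁆ = 1
      rw [map_commutatorElement, commutatorElement_eq_one_iff_mul_comm]
      exact Subgroup.mem_center_iff.1 (hc ⟨w, hwL, rfl⟩) (π x)
    refine ⟨Fin.snoc e w, ?_, ?_, ?_, fun x j => ?_⟩
    · rw [hrange, hsup]; exact hL
    · rw [hrange, hsup]; exact hLE
    · rw [hrange, hsup, hLm]
    · induction j using Fin.lastCases with
      | last =>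
        rw [Fin.snoc_last]
        refine Subgroup.closure_mono ?_ (hcen x)
        rintro _ ⟨i, rfl⟩
        exact ⟨i.castSucc, Fin.castSucc_lt_last i, Fin.snoc_castSucc (α := fun _ => P) w e i⟩
      | cast j =>
        rw [Fin.snoc_castSucc]
        refine Subgroup.closure_mono ?_ (hest x j)
        rintro _ ⟨i, hi, rfl⟩
        exact ⟨i.castSucc, Fin.castSucc_lt_castSucc_iff.2 hi, Fin.snoc_castSucc (α := fun _ => P) w e i⟩

/-- The action on an elementary abelian normal subgroup in a flag basis. -/
theorem exists_matrices [Finite P] (hP : IsPGroup p P) (E : Subgroup P) [hEn : E.Normal]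
    (hE : IsElementaryAbelian p E) {n : ℕ} (hn : Nat.card E = p ^ n) :
    ∃ M : P →* Matrix (Fin n) (Fin n) (ZMod p),
      (∀ x i j, j ≤ i → M x i j = if i = j then 1 else 0) ∧
      ∀ x y, M x = M y → y⁻¹ * x ∈ Subgroup.centralizer (E : Set P) := by
  classical
  obtain ⟨e, -, heE, hec, hest⟩ := exists_flag hP E hn n le_rfl
  have hEq : Subgroup.closure (Set.range e) = E :=
    Subgroup.eq_of_le_of_card_ge heE (by rw [hec, hn])
  have hmc : ∀ a b : E, a * b = b * a := fun a b =>
    Subtype.ext (PGroup.mul_comm_of_elementaryAbelian hE a.2 b.2)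
  let iC : CommGroup E := { (inferInstance : Group E) with mul_comm := hmc }
  have hexp : ∀ a : Additive E, p • a = 0 := fun a =>
    Additive.toMul.injective (Subtype.ext (by simpa using hE.2 _ (Additive.toMul a).2))
  have iM : Module (ZMod p) (Additive E) := AddCommGroup.zmodModule hexp
  let v : Fin n → Additive E := fun i =>
    Additive.ofMul ⟨e i, hEq.le (Subgroup.subset_closure ⟨i, rfl⟩)⟩
  -- spans of subsets of the basis
  have hspan : ∀ (s : Set (Fin n)) (g : P), g ∈ Subgroup.closure (e '' s) → ∀ hgE : g ∈ E,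
      (Additive.ofMul (⟨g, hgE⟩ : E)) ∈ (Submodule.span (ZMod p) (v '' s) : Submodule (ZMod p) (Additive E)) := by
    intro s g hg
    induction hg using Subgroup.closure_induction with
    | mem g hg =>
      obtain ⟨i, hi, rfl⟩ := hg
      exact fun _ => Submodule.subset_span ⟨i, hi, rfl⟩
    | one => exact fun _ => Submodule.zero_mem _
    | mul a b ha hb iha ihb =>
      intro hab
      have haE : a ∈ E := hEq.le (Subgroup.closure_mono (Set.image_subset_range _ _) ha)
      have hbE : b ∈ E := hEq.le (Subgroup.closure_mono (Set.image_subset_range _ _) hb)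
      exact Submodule.add_mem _ (iha haE) (ihb hbE)
    | inv a ha iha =>
      intro haE
      exact Submodule.neg_mem _ (iha (inv_mem_iff.1 haE))
  have htop : ⊤ ≤ Submodule.span (ZMod p) (Set.range v) := by
    intro a _
    rw [← Set.image_univ]
    exact hspan Set.univ (Additive.toMul a : E) (by rw [Set.image_univ, hEq]; exact (Additive.toMul a).2)
      (Additive.toMul a).2
  have hcard : Fintype.card (Fin n) = Module.finrank (ZMod p) (Additive E) := by
    have h1 : Nat.card (Additive E) = p ^ n := hn
    rw [Module.natCard_eq_pow_finrank (K := ZMod p), Nat.card_zmod] at h1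
    rw [Fintype.card_fin, Nat.pow_right_injective (Fact.out : p.Prime).two_le h1]
  let b : Module.Basis (Fin n) (ZMod p) (Additive E) :=
    Module.Basis.mk (linearIndependent_of_top_le_span_of_card_eq_finrank htop hcard) htop
  have hb : ∀ i, b i = v i := fun i => Module.Basis.mk_apply _ _ i
  let f : P → Additive E →ₗ[ZMod p] Additive E := fun x =>
    ((MulAut.conjNormal (H := E) x).toMonoidHom.toAdditive).toZModLinearMap p
  have hf : ∀ x (a : E), f x (Additive.ofMul a) = Additive.ofMul (MulAut.conjNormal x a) := fun x a => rfl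
  let M : P →* Matrix (Fin n) (Fin n) (ZMod p) :=
    { toFun := fun x => LinearMap.toMatrix b b (f x)
      map_one' := by
        have h : f 1 = LinearMap.id := LinearMap.ext fun a => by
          obtain ⟨a, rfl⟩ := Additive.ofMul.surjective a
          rw [hf, map_one]; rfl
        rw [h, LinearMap.toMatrix_id]
      map_mul' := fun x y => by
        have h : f (x * y) = (f x).comp (f y) := LinearMap.ext fun a => by
          obtain ⟨a, rfl⟩ := Additive.ofMul.surjective a
          rw [LinearMap.comp_apply, hf, hf, hf, map_mul]; rfl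
        rw [h, LinearMap.toMatrix_comp b b b] }
  refine ⟨M, fun x i j hij => ?_, fun x y hxy => ?_⟩
  · show LinearMap.toMatrix b b (f x) i j = _
    rw [LinearMap.toMatrix_apply, hb]
    have hd : x * e j * x⁻¹ * (e j)⁻¹ ∈ E :=
      hEq.le (Subgroup.closure_mono (Set.image_subset_range _ _) (hest x j))
    have hsplit : f x (v j) = Additive.ofMul (⟨_, hd⟩ : E) + v j := by
      rw [hf]
      refine congrArg Additive.ofMul (Subtype.ext ?_)
      simp [MulAut.conjNormal_apply, v]
    have hzero : b.repr (Additive.ofMul (⟨_, hd⟩ : E)) i = 0 := by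
      refine Finsupp.notMem_support_iff.1 fun h => ?_
      have hm := hspan {k | k < j} _ (hest x j) hd
      rw [show v '' {k | k < j} = b '' {k | k < j} from (Set.image_congr fun k _ => hb k).symm] at hm
      exact (not_lt.2 hij) (b.mem_span_image.1 hm h)
    rw [hsplit, map_add, Finsupp.add_apply, hzero, zero_add, ← hb, b.repr_self, Finsupp.single_apply]
    simp only [eq_comm]
  · have h : f x = f y := (LinearMap.toMatrix b b).injective hxy
    refine Subgroup.mem_centralizer_iff.2 fun a ha => ?_
    have h1 := LinearMap.congr_fun h (Additive.ofMul (⟨a, ha⟩ : E))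
    rw [hf, hf] at h1
    have h2 : x * a * x⁻¹ = y * a * y⁻¹ := by
      simpa [MulAut.conjNormal_apply] using congrArg Subtype.val (Additive.ofMul.injective h1)
    calc a * (y⁻¹ * x) = y⁻¹ * (y * a * y⁻¹) * x := by group
      _ = y⁻¹ * (x * a * x⁻¹) * x := by rw [h2]
      _ = y⁻¹ * x * a := by group

/-- An elementary abelian group generated by `k` elements has order at most `p ^ k`. -/
theorem card_le_of_generated [Finite P] {E : Subgroup P} (hE : IsElementaryAbelian p E) (S : Finset P)
    (hS : Subgroup.closure (S : Set P) = E) : Nat.card E ≤ p ^ S.card := by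
  classical
  induction S using Finset.induction_on generalizing E with
  | empty => simp [← hS]
  | insert a S ha ih =>
    have hEeq : Subgroup.closure (S : Set P) ⊔ Subgroup.zpowers a = E := by
      rw [← hS, Finset.coe_insert, Set.insert_eq, Subgroup.closure_union, Subgroup.zpowers_eq_closure,
        sup_comm]
    have hle : Subgroup.closure (S : Set P) ≤ E := hEeq ▸ le_sup_left
    have haE : a ∈ E := hEeq ▸ Subgroup.mem_sup_right (Subgroup.mem_zpowers a)
    have hS' := PGroup.isElementaryAbelian_mono hE hle
    have h1 := ih hS' rfl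
    have hn : Nat.card (Subgroup.zpowers a) ≤ p := by
      rw [Nat.card_zpowers]
      exact Nat.le_of_dvd (Fact.out : p.Prime).pos (orderOf_dvd_of_pow_eq_one (hE.2 a haE))
    have hnorm : Subgroup.zpowers a ≤ Subgroup.normalizer (Subgroup.closure (S : Set P) : Set P) :=
      Subgroup.zpowers_le.2 (Subgroup.mem_normalizer_iff.2 fun g => by
        constructor <;> intro hg
        · rw [PGroup.mul_comm_of_elementaryAbelian hE haE (hle hg), mul_inv_cancel_right]; exact hg
        · have hgE : g ∈ E := by
            simpa [mul_assoc] using mul_mem (mul_mem (inv_mem haE) (hle hg)) haE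
          rwa [PGroup.mul_comm_of_elementaryAbelian hE haE hgE, mul_inv_cancel_right] at hg)
    have h2 : Nat.card (Subgroup.closure (S : Set P) ⊔ Subgroup.zpowers a : Subgroup P) ≤
        Nat.card (Subgroup.closure (S : Set P)) * Nat.card (Subgroup.zpowers a) := by
      rw [← SetLike.coe_sort_coe, Subgroup.coe_mul_of_right_le_normalizer_left _ _ hnorm]
      exact Set.natCard_mul_le
    rw [← hEeq, Finset.card_insert_of_notMem ha, pow_succ]
    exact h2.trans (Nat.mul_le_mul h1 hn)

/-- Let p be an odd prime and P a finite p-group in which every normal abelian subgroup can be generated by k elements. Then every subgroup of P can be generated by at most ⌊k(k+4)/4⌋ elements. -/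
theorem result {P : Type*} [Group P] [Finite P] {p : ℕ} [Fact p.Prime]
    (hp : p ≠ 2) (hP : IsPGroup p P) (k : ℕ)
    (hab : ∀ A : Subgroup P, A.Normal → IsMulCommutative A → ∃ S : Finset P, S.card ≤ k ∧ Subgroup.closure (S : Set P) = A) :
    ∀ H : Subgroup P, ∃ S : Finset P, S.card ≤ k * (k + 4) / 4 ∧ Subgroup.closure (S : Set P) = H := by
  classical
  intro H
  obtain ⟨E, ⟨hEn, hE⟩, hmax⟩ := (Set.toFinite {E : Subgroup P | E.Normal ∧ IsElementaryAbelian p E}).exists_maximal
    ⟨⊥, inferInstance, PGroup.isElementaryAbelian_bot⟩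
  obtain ⟨S₀, hS₀k, hS₀⟩ := hab E hEn hE.1
  obtain ⟨n, hn⟩ := (hP.to_subgroup E).exists_card_eq
  have hnk : n ≤ k := by
    have h := card_le_of_generated hE S₀ hS₀
    rw [hn, Nat.pow_le_pow_iff_right (Fact.out : p.Prime).one_lt] at h
    exact h.trans hS₀k
  obtain ⟨M, hM, hker⟩ := exists_matrices hP E hE hn
  obtain ⟨S, hS, hgen⟩ := PGroup.UniRank.exists_generators (M.comp H.subtype) fun x i j h => hM x i j h
  -- the part centralising `E`
  set K := H ⊓ Subgroup.centralizer (E : Set P) with hK
  have hKz : ∀ z : K, z ^ p = 1 → z ∈ Subgroup.center K := by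
    intro z hz
    have hzE : (z : P) ∈ E := PGroup.mem_of_centralizer_of_maximal_normal hp hP hE
      (fun F hF hF' hle => le_antisymm (hmax ⟨hF, hF'⟩ hle) hle) z.2.2
      (by exact_mod_cast congrArg Subtype.val hz)
    exact Subgroup.mem_center_iff.2 fun w => Subtype.ext (Subgroup.mem_centralizer_iff.1 w.2.2 _ hzE).symm
  have hidx : (frattini K).index ≤ p ^ k := by
    refine (PGroup.frattini_index_le hp (hP.to_subgroup K) hKz).trans (le_trans ?_ (Nat.pow_le_pow_right (Fact.out : p.Prime).pos hnk))
    rw [← hn]
    refine Nat.card_le_card_of_injective (fun z => (⟨(z.1 : P), ?_⟩ : E)) fun a b h =>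
      Subtype.ext (Subtype.ext (congrArg Subtype.val h :))
    exact PGroup.mem_of_centralizer_of_maximal_normal hp hP hE
      (fun F hF hF' hle => le_antisymm (hmax ⟨hF, hF'⟩ hle) hle) z.1.2.2
      (by exact_mod_cast congrArg Subtype.val z.2)
  have := Fintype.ofFinite K
  obtain ⟨T, -, hTe, hTc⟩ := PGroup.exists_basis (hP.to_subgroup K) (Finset.univ : Finset K)
  have hTtop : Subgroup.closure (T : Set K) = ⊤ := by
    refine PGroup.closure_eq_top_of_sup_frattini ?_
    rw [hTe, Finset.coe_univ, Subgroup.closure_univ, top_sup_eq]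
  have hTk : T.card ≤ k := by
    rw [hTtop, top_sup_eq, Subgroup.card_top, ← (frattini K).card_mul_index] at hTc
    have := Nat.eq_of_mul_eq_mul_left Nat.card_pos hTc
    rw [this, Nat.pow_le_pow_iff_right (Fact.out : p.Prime).one_lt] at hidx
    exact hidx
  refine ⟨S.image Subtype.val ∪ T.image Subtype.val, ?_, le_antisymm ?_ fun x hx => ?_⟩
  · refine (Finset.card_union_le _ _).trans ((Nat.add_le_add Finset.card_image_le Finset.card_image_le).trans ?_)
    have h1 : n * n ≤ k * k := Nat.mul_le_mul hnk hnk
    rw [mul_add, Nat.add_mul_div_right _ _ (by norm_num : 0 < 4)]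
    have h2 : S.card ≤ k * k / 4 := by
      rw [Nat.le_div_iff_mul_le (by norm_num : 0 < 4)]
      linarith
    omega
  · rw [Subgroup.closure_le]
    intro x hx
    simp only [Finset.coe_union, Finset.coe_image, Set.mem_union, Set.mem_image] at hx
    rcases hx with ⟨y, -, rfl⟩ | ⟨y, -, rfl⟩
    exacts [y.2, y.2.1]
  obtain ⟨y, hy, hxy⟩ := hgen ⟨x, hx⟩
  have hk' : (y : P)⁻¹ * x ∈ K := Subgroup.mem_inf.2 ⟨H.mul_mem (H.inv_mem y.2) hx, hker x y hxy⟩
  have h1 : (⟨_, hk'⟩ : K) ∈ Subgroup.closure (T : Set K) := hTtop ▸ Subgroup.mem_top _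
  have h2 := Subgroup.mem_map_of_mem H.subtype hy
  have h3 := Subgroup.mem_map_of_mem K.subtype h1
  rw [MonoidHom.map_closure] at h2 h3
  rw [← mul_inv_cancel_left (y : P) x]
  refine mul_mem (Subgroup.closure_mono ?_ h2) (Subgroup.closure_mono ?_ h3)
  · simp
  · simp

end Cfsg.Agent.S4057
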