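-- S4058: twisting real irreducible characters by linear characters of order two.
import Cfsg.Statements.S4058
import Cfsg.Agent.Lib.Char.RealChar
import Cfsg.Agent.Lib.Char.Twist
import Cfsg.Agent.Lib.CharInt.Basic
import Cfsg.Agent.Lib.PGroup.Frattini
import Mathlib.GroupTheory.FiniteAbelian.Duality
import Mathlib.RingTheory.IntegralClosure.IntegrallyClosed
import Mathlib.RingTheory.RootsOfUnity.AlgebraicallyClosed

set_option autoImplicit false
set_option linter.style.haveILetI false
open Cfsg

namespace Cfsg.Agent.S4058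

open Cfsg.Agent.Char
open scoped ComplexConjugate commutatorElement

universe u

variable {G : Type u} [Group G]

theorem degree_dvd_card_sq [Fintype G] (χ : IrrCharacter G) :
    (degree χ : ℤ) ∣ (Nat.card G : ℤ) ^ 2 := by
  classical
  obtain ⟨d, ρ, hirr, hχ⟩ := χ.2
  haveI := hirr
  haveI := nontrivial_of_isIrreducible ρ
  have hd : (degree χ : ℂ) = d := by
    rw [← apply_one_eq_degree, ← hχ, Representation.char_one, Module.finrank_fin_fun]
  have hd' : degree χ = d := by exact_mod_cast hd
  have hd0 : (d : ℂ) ≠ 0 := by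
    rw [← hd]; exact Nat.cast_ne_zero.2 (degree_pos χ).ne'
  haveI : Module.Finite ℤ (MonoidAlgebra ℤ G) :=
    Module.Finite.of_basis (MonoidAlgebra.basis G ℤ)
  let φ : MonoidAlgebra ℤ G →ₐ[ℤ] Module.End ℂ (Fin d → ℂ) := MonoidAlgebra.lift ℤ _ G ρ
  have hint : ∀ g : G, IsIntegral ℤ ((Nat.card G : ℂ) * χ.1 g / d) := fun g => by
    set a : ℂ := (Nat.card G : ℂ) * χ.1 g / d with ha
    have hT : (∑ n : G, ρ n * ρ g * ρ n⁻¹) = algebraMap ℂ (Module.End ℂ (Fin d → ℂ)) a := by
      have h := congrArg (fun T => (d : ℂ)⁻¹ • T) (sum_conj_endo_eq_trace ρ (ρ g))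
      simp only [smul_smul, inv_mul_cancel₀ hd0, one_smul] at h
      rw [h, Algebra.algebraMap_eq_smul_one, ha, ← hχ]
      congr 1
      rw [Representation.character]
      ring
    have h1 : IsIntegral ℤ (φ (∑ n : G, MonoidAlgebra.single (n * g * n⁻¹) (1 : ℤ))) :=
      IsIntegral.map φ (Algebra.IsIntegral.isIntegral _)
    have h2 : φ (∑ n : G, MonoidAlgebra.single (n * g * n⁻¹) (1 : ℤ)) =
        algebraMap ℂ (Module.End ℂ (Fin d → ℂ)) a := by
      rw [map_sum, ← hT]
      exact Finset.sum_congr rfl fun n _ => by simp [φ, map_mul]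
    rw [h2] at h1
    exact (isIntegral_algebraMap_iff (FaithfulSMul.algebraMap_injective ℂ _)).1 h1
  have hsum : IsIntegral ℤ (∑ g : G, ((Nat.card G : ℂ) * χ.1 g / d) * conj (χ.1 g)) := by
    refine IsIntegral.sum _ fun g _ => (hint g).mul ?_
    rw [← CharInt.char_inv (irr_isCharacter χ) g]
    exact CharInt.isIntegral_char (irr_isCharacter χ) _
  have heq : ∑ g : G, ((Nat.card G : ℂ) * χ.1 g / d) * conj (χ.1 g) =
      algebraMap ℚ ℂ (((Nat.card G : ℚ) ^ 2) / d) := by
    have h := classInner_irr_self χ.2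
    rw [classInner, inv_mul_eq_one₀ card_ne_zero] at h
    simp only [map_div₀, map_pow, map_natCast]
    rw [Finset.sum_congr rfl fun g _ => show (Nat.card G : ℂ) * χ.1 g / d * conj (χ.1 g)
      = (Nat.card G : ℂ) / d * (χ.1 g * conj (χ.1 g)) by ring, ← Finset.mul_sum, ← h]
    ring
  rw [heq] at hsum
  obtain ⟨z, hz⟩ := IsIntegrallyClosed.isIntegral_iff.1
    ((isIntegral_algebraMap_iff (algebraMap ℚ ℂ).injective).1 hsum)
  have hdQ : (d : ℚ) ≠ 0 := by exact_mod_cast hd0
  rw [eq_div_iff hdQ, eq_intCast] at hz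
  refine ⟨z, ?_⟩
  rw [hd', mul_comm]
  exact_mod_cast hz.symm

theorem exists_int_fsIndicator [Fintype G] (χ : IrrCharacter G) :
    ∃ z : ℤ, fsIndicator χ.1 = z := by
  by_cases h : ∀ g, (χ.1 g).im = 0
  · rcases fsIndicator_of_real χ h with e | e
    · exact ⟨1, by simp [e]⟩
    · exact ⟨-1, by simp [e]⟩
  · exact ⟨0, by simp [fsIndicator_of_not_real χ h]⟩

theorem dvd_sum_of_orbits {L X : Type*} [Group L] [MulAction L X] [Fintype X]
    (f : X → ℤ) (hf : ∀ (l : L) (x : X), f (l • x) = f x) (m : ℤ)
    (h : ∀ x : X, m ∣ (Nat.card (MulAction.orbit L x) : ℤ) * f x) : m ∣ ∑ x, f x := by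
  classical
  let q : X → MulAction.orbitRel.Quotient L X := Quotient.mk''
  rw [← Finset.sum_fiberwise_of_maps_to (s := Finset.univ) (t := Finset.univ.image q) (g := q)
    (fun x hx => Finset.mem_image_of_mem q hx)]
  refine Finset.dvd_sum fun ω hω => ?_
  obtain ⟨x, -, rfl⟩ := Finset.mem_image.1 hω
  have hfib : ∀ y, q y = q x ↔ y ∈ MulAction.orbit L x := fun y => Quotient.eq''
  have hc : ∀ y ∈ Finset.univ.filter (fun y => q y = q x), f y = f x := fun y hy => by
    obtain ⟨l, rfl⟩ := (hfib y).1 (Finset.mem_filter.1 hy).2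
    exact hf l x
  rw [Finset.sum_congr rfl hc, Finset.sum_const, nsmul_eq_mul]
  have : Nat.card (MulAction.orbit L x) = (Finset.univ.filter (fun y => q y = q x)).card := by
    rw [Nat.card_eq_fintype_card, Fintype.card_of_subtype]
    exact fun y => by simp [hfib y]
  rw [← this]
  exact h x

theorem card_dual {A : Type*} [CommGroup A] [Finite A] : Nat.card (A →* ℂˣ) = Nat.card A :=
  CommGroup.card_monoidHom_of_hasEnoughRootsOfUnity A ℂ

abbrev Dual (G : Type u) [Group G] := G ⧸ frattini G →* ℂˣ

/-- The linear character of `G` attached to an element of the dual of `G ⧸ Φ(G)`. -/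
def lin (l : Dual G) : G →* ℂ :=
  ((Units.coeHom ℂ).comp l).comp (QuotientGroup.mk' (frattini G))

theorem lin_mul (l m : Dual G) (g : G) : lin (l * m) g = lin l g * lin m g := rfl

theorem lin_one (g : G) : lin (1 : Dual G) g = 1 := rfl

theorem lin_injective {l m : Dual G} (h : ∀ g, lin l g = lin m g) : l = m := by
  refine MonoidHom.ext fun a => ?_
  obtain ⟨g, rfl⟩ := QuotientGroup.mk'_surjective _ a
  exact Units.ext (h g)

variable [Fintype G]

theorem lin_sq (hG : IsPGroup 2 G) (l : Dual G) (g : G) : lin l g * lin l g = 1 := by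
  haveI : Fact (Nat.Prime 2) := ⟨Nat.prime_two⟩
  rw [← map_mul]
  have h2 : g * g ∈ frattini G := by simpa [sq] using PGroup.pow_mem_frattini hG g
  show ((l (QuotientGroup.mk' (frattini G) (g * g)) : ℂˣ) : ℂ) = 1
  rw [QuotientGroup.mk'_apply, (QuotientGroup.eq_one_iff _).2 h2, map_one, Units.val_one]

theorem conj_lin (hG : IsPGroup 2 G) (l : Dual G) (g : G) : conj (lin l g) = lin l g := by
  rcases mul_self_eq_one_iff.1 (lin_sq hG l g) with h | h <;> simp [h]

theorem isIrr_lin_mul (hG : IsPGroup 2 G) (l : Dual G) (χ : IrrCharacter G) :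
    IsIrrCharacter G (fun g => lin l g * χ.1 g) := by
  refine isIrrCharacter_iff.2 ⟨IsCharacter.mul
    (IsIrrCharacter.isCharacter (isIrrCharacter_of_monoidHom (lin l))) (irr_isCharacter χ), ?_⟩
  refine Eq.trans ?_ (classInner_irr_self χ.2)
  simp only [classInner]
  congr 1
  refine Finset.sum_congr rfl fun g _ => ?_
  rw [map_mul, conj_lin hG, mul_mul_mul_comm, lin_sq hG, one_mul]

/-- Twisting by linear characters of order at most two. -/
@[reducible] noncomputable def twistAction (hG : IsPGroup 2 G) :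
    MulAction (Dual G) (IrrCharacter G) where
  smul l χ := ⟨_, isIrr_lin_mul hG l χ⟩
  one_smul χ := Subtype.ext (funext fun g => by
    show lin 1 g * χ.1 g = χ.1 g
    rw [lin_one, one_mul])
  mul_smul l m χ := Subtype.ext (funext fun g => by
    show lin (l * m) g * χ.1 g = lin l g * (lin m g * χ.1 g)
    rw [lin_mul, mul_assoc])

theorem card_dual_frattini (hG : IsPGroup 2 G) : Nat.card (Dual G) = Nat.card (G ⧸ frattini G) := by
  haveI : Fact (Nat.Prime 2) := ⟨Nat.prime_two⟩
  letI : CommGroup (G ⧸ frattini G) :=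
    { (inferInstance : Group (G ⧸ frattini G)) with
      mul_comm := fun a b => by
        obtain ⟨x, rfl⟩ := QuotientGroup.mk'_surjective _ a
        obtain ⟨y, rfl⟩ := QuotientGroup.mk'_surjective _ b
        simp only [QuotientGroup.mk'_apply, ← QuotientGroup.mk_mul]
        refine QuotientGroup.eq.2 (PGroup.commutator_le_frattini hG ?_)
        have : (x * y)⁻¹ * (y * x) = ⁅y⁻¹, x⁻¹⁆ := by rw [commutatorElement_def]; group
        rw [this]
        exact Subgroup.commutator_mem_commutator (Subgroup.mem_top _) (Subgroup.mem_top _) }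
  exact card_dual

theorem main (hG : IsPGroup 2 G) (k : ℕ) (hgen : 2 ^ (2 * k + 1) ≤ Nat.card (G ⧸ frattini G)) :
    2 ^ (k + 1) ∣ Nat.card {u : G // u * u = 1} := by
  classical
  haveI : Fact (Nat.Prime 2) := ⟨Nat.prime_two⟩
  letI := twistAction hG
  choose ν hν using exists_int_fsIndicator (G := G)
  have hsum : (Nat.card {u : G // u * u = 1} : ℤ) = ∑ χ, ν χ * (degree χ : ℤ) := by
    have h := sqRootCount_eq_sum (G := G) 1
    simp only [sqRootCount, hν, apply_one_eq_degree] at h
    exact_mod_cast h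
  have key : (2 ^ (k + 1) : ℤ) ∣ ∑ χ, ν χ * (degree χ : ℤ) := by
    refine dvd_sum_of_orbits (L := Dual G) _ (fun l χ => ?_) _ fun χ => ?_
    · have h1 : degree (l • χ) = degree χ := by
        have : ((degree (l • χ) : ℕ) : ℂ) = degree χ := by
          rw [← apply_one_eq_degree, ← apply_one_eq_degree]
          show lin l 1 * χ.1 1 = _
          rw [map_one, one_mul]
        exact_mod_cast this
      have h2 : ν (l • χ) = ν χ := by
        have : ((ν (l • χ) : ℤ) : ℂ) = ν χ := by
          rw [← hν, ← hν, fsIndicator_eq_sum, fsIndicator_eq_sum]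
          congr 1
          refine Finset.sum_congr rfl fun g _ => ?_
          show lin l (g * g) * χ.1 (g * g) = _
          rw [map_mul, lin_sq hG, one_mul]
        exact_mod_cast this
      rw [h1, h2]
    obtain ⟨n, hn⟩ := IsPGroup.iff_card.1 hG
    obtain ⟨a, -, ha⟩ : ∃ a ≤ n * 2, degree χ = 2 ^ a := by
      refine (Nat.dvd_prime_pow Nat.prime_two).1 ?_
      have h := degree_dvd_card_sq χ
      rw [hn, ← Nat.cast_pow, Int.natCast_dvd_natCast, ← pow_mul] at h
      exact h
    haveI hfin : Finite (Dual G) :=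
      Nat.finite_of_card_ne_zero (by rw [card_dual_frattini hG]; exact Nat.card_pos.ne')
    obtain ⟨d, hd⟩ : ∃ d, Nat.card (Dual G) = 2 ^ d := by
      rw [card_dual_frattini hG]; exact IsPGroup.iff_card.1 (hG.to_quotient _)
    have hd2 : 2 * k + 1 ≤ d := by
      rw [← card_dual_frattini hG, hd] at hgen
      exact (Nat.pow_le_pow_iff_right one_lt_two).1 hgen
    have horb : Nat.card (MulAction.orbit (Dual G) χ) *
        Nat.card (MulAction.stabilizer (Dual G) χ) = 2 ^ d := by
      rw [← Nat.card_prod, ← hd]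
      exact Nat.card_congr (MulAction.orbitProdStabilizerEquivGroup (Dual G) χ)
    obtain ⟨t, -, ht⟩ := (Nat.dvd_prime_pow Nat.prime_two).1 (Dvd.intro _ horb)
    have hS : Nat.card (MulAction.stabilizer (Dual G) χ) ≤ degree χ * degree χ := by
      haveI := Fintype.ofFinite (MulAction.stabilizer (Dual G) χ)
      have hc : IsCharacter G (fun g => χ.1 g * conj (χ.1 g)) :=
        IsCharacter.mul (irr_isCharacter χ) (IsCharacter.conj (irr_isCharacter χ))
      obtain ⟨m, hm, hm'⟩ := IsCharacter.exists_decomp hc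
      let e : MulAction.stabilizer (Dual G) χ → IrrCharacter G :=
        fun l => ⟨_, isIrrCharacter_of_monoidHom (lin l.1)⟩
      have he : Function.Injective e := fun l l' h =>
        Subtype.ext (lin_injective fun g => congrFun (congrArg Subtype.val h) g)
      have hme : ∀ l, m (e l) = 1 := fun l => by
        have h1 : (m (e l) : ℂ) = 1 := by
          rw [← hm']
          refine Eq.trans ?_ (classInner_irr_self χ.2)
          simp only [classInner]
          congr 1
          refine Finset.sum_congr rfl fun g _ => ?_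
          have hl : lin l.1 g * χ.1 g = χ.1 g := congrFun (congrArg Subtype.val l.2) g
          show χ.1 g * conj (χ.1 g) * conj (lin l.1 g) = _
          rw [conj_lin hG]
          conv_rhs => rw [← hl]
          rw [map_mul, conj_lin hG]
          have hl2 := lin_sq hG l.1 g
          calc χ.1 g * conj (χ.1 g) * lin l.1 g
              = lin l.1 g * χ.1 g * conj (χ.1 g) := by ring
            _ = χ.1 g * conj (χ.1 g) := by rw [hl]
            _ = lin l.1 g * lin l.1 g * (χ.1 g * conj (χ.1 g)) := by rw [hl2, one_mul]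
            _ = _ := by ring
        exact_mod_cast h1
      have h3 : degree χ * degree χ = ∑ ψ, m ψ * degree ψ := by
        have h := congrFun hm 1
        simp only [Finset.sum_apply, Pi.smul_apply, smul_eq_mul, apply_one_eq_degree,
          map_natCast] at h
        exact_mod_cast h
      calc Nat.card (MulAction.stabilizer (Dual G) χ)
          = ∑ _ψ ∈ Finset.univ.image e, 1 := by
            rw [← Finset.card_eq_sum_ones, Finset.card_image_of_injective _ he, Finset.card_univ,
              Nat.card_eq_fintype_card]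
        _ ≤ ∑ ψ ∈ Finset.univ.image e, m ψ * degree ψ := by
            refine Finset.sum_le_sum fun ψ hψ => ?_
            obtain ⟨l, -, rfl⟩ := Finset.mem_image.1 hψ
            rw [hme, one_mul]; exact degree_pos _
        _ ≤ ∑ ψ, m ψ * degree ψ :=
            Finset.sum_le_sum_of_subset (Finset.subset_univ _)
        _ = _ := h3.symm
    have hle : k + 1 ≤ t + a := by
      rw [ht] at horb
      have h1 : 2 ^ d ≤ 2 ^ (t + (a + a)) := by
        rw [← horb, pow_add, pow_add]
        rw [ha] at hS
        exact Nat.mul_le_mul_left _ hS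
      have := (Nat.pow_le_pow_iff_right one_lt_two).1 h1
      omega
    rw [ht, ha]
    push_cast
    calc (2 : ℤ) ^ (k + 1) ∣ 2 ^ (t + a) := pow_dvd_pow _ hle
      _ ∣ 2 ^ t * (ν χ * 2 ^ a) := ⟨ν χ, by rw [pow_add]; ring⟩
  rw [← hsum] at key
  exact_mod_cast key

/-- Let G be a finite 2-group with #(G/Φ(G)) ≥ 2^(2k+1). Then the number of elements x of G with x² = 1 is divisible by 2^(k+1). -/
theorem result {G : Type*} [Group G] [Finite G] (hG : IsPGroup 2 G) (k : ℕ)
    (hgen : 2 ^ (2 * k + 1) ≤ Nat.card (G ⧸ frattini G)) :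
    2 ^ (k + 1) ∣ Nat.card {x : G // x ^ 2 = 1} := by
  classical
  haveI := Fintype.ofFinite G
  rw [Nat.card_congr (Equiv.subtypeEquivRight (p := fun x : G => x ^ 2 = 1)
    (q := fun x : G => x * x = 1) fun x => by rw [sq])]
  exact main hG k hgen

end Cfsg.Agent.S4058
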