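import Cfsg.Statements.S4059
import Cfsg.Agent.Lib.Ambivalent.RealCentral

set_option autoImplicit false
open Cfsg

namespace Cfsg.Agent.S4059

/-- Let G be a finite group in which every element is conjugate to its inverse. Then: every non-identity element commuting with all elements of some Sylow 2-subgroup is an involution; the centre of G is an elementary abelian 2-group; the commutator quotient G/G' is an elementary abelian 2-group; and G is generated by its 2-elements. -/
theorem result {G : Type*} [Group G] [Finite G] (hamb : ∀ x : G, IsConj x x⁻¹) :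
    (∀ (S : Sylow 2 G) (x : G), x ∈ Subgroup.centralizer ((S : Subgroup G) : Set G) → x ≠ 1 → orderOf x = 2) ∧
    (∀ z : G, z ∈ Subgroup.center G → z ^ 2 = 1) ∧
    (∀ x : G, x ^ 2 ∈ commutator G) ∧
    Subgroup.closure {x : G | ∃ k : ℕ, orderOf x = 2 ^ k} = ⊤ := by
  have h1 : ∀ (S : Sylow 2 G) (x : G), x ∈ Subgroup.centralizer ((S : Subgroup G) : Set G) → x ≠ 1 → orderOf x = 2 :=
    fun S x hx hne => orderOf_eq_prime (RealCentral.sq_eq_one (hamb x) S hx) hne
  have hsq : ∀ x : G, x ^ 2 ∈ commutator G := by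
    intro x
    obtain ⟨g, hg⟩ := isConj_iff.mp (hamb x)
    have e : x ^ 2 = (g * x * g⁻¹ * x⁻¹)⁻¹ := by rw [hg, mul_inv_rev, inv_inv, pow_two]
    rw [e, commutator_def]
    exact inv_mem (Subgroup.commutator_mem_commutator (Subgroup.mem_top g) (Subgroup.mem_top x))
  refine ⟨h1, fun z hz => ?_, hsq, ?_⟩
  · obtain ⟨S⟩ := (inferInstance : Nonempty (Sylow 2 G))
    exact RealCentral.sq_eq_one (hamb z) S
      (Subgroup.mem_centralizer_iff.mpr fun s _ => Subgroup.mem_center_iff.mp hz s)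
  · set T := Subgroup.closure {x : G | ∃ k : ℕ, orderOf x = 2 ^ k} with hT
    have hsub : ∀ x : G, (∃ k : ℕ, orderOf x = 2 ^ k) → x ∈ T := fun x hx => Subgroup.subset_closure hx
    have hTn : T.Normal := ⟨fun t ht g => by
      have hle : T.map (MulAut.conj g).toMonoidHom ≤ T := by
        conv_lhs => rw [hT, MonoidHom.map_closure]
        rw [Subgroup.closure_le]
        rintro _ ⟨u, ⟨k, hk⟩, rfl⟩
        exact hsub _ ⟨k, by
          rw [← hk]; exact orderOf_injective (MulAut.conj g).toMonoidHom (MulAut.conj g).injective u⟩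
      exact hle (Subgroup.mem_map_of_mem _ ht)⟩
    have hodd : ¬ 2 ∣ T.index := by
      obtain ⟨S⟩ := (inferInstance : Nonempty (Sylow 2 G))
      have hS : (S : Subgroup G) ≤ T := fun s hs => by
        obtain ⟨k, hk⟩ := IsPGroup.iff_orderOf.mp S.2 ⟨s, hs⟩
        exact hsub s ⟨k, by rw [← hk, Subgroup.orderOf_mk]⟩
      exact fun h => S.not_dvd_index (h.trans (Subgroup.index_dvd_of_le hS))
    rw [Subgroup.eq_top_iff']
    intro x
    obtain ⟨g, hg⟩ := isConj_iff.mp (hamb x)
    obtain ⟨a, m, hm, hgm⟩ := Nat.exists_eq_pow_mul_and_not_dvd (orderOf_pos g).ne' 2 (by norm_num)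
    obtain ⟨j, rfl⟩ : ∃ j, m = 2 * j + 1 := ⟨m / 2, by omega⟩
    have h2 : g ^ (2 * j + 1) ∈ T := hsub _ ⟨a, by
      rw [orderOf_pow' _ (by omega), hgm,
        Nat.gcd_eq_right (Dvd.intro_left _ rfl), Nat.mul_div_cancel _ (by omega)]⟩
    have hx2 : x ^ 2 ∈ T := by
      have h3 := mul_mem h2 (hTn.conj_mem _ (inv_mem h2) x)
      have e : g ^ (2 * j + 1) * (x * (g ^ (2 * j + 1))⁻¹ * x⁻¹) = (x ^ 2)⁻¹ := by
        rw [← mul_assoc, ← mul_assoc, RealCentral.conj_pow_odd hg, pow_two, mul_inv_rev]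
      rw [e] at h3
      exact inv_mem_iff.mp h3
    obtain ⟨i, hi⟩ : ∃ i, T.index = 2 * i + 1 := ⟨T.index / 2, by omega⟩
    have hxi : x ^ T.index ∈ T := Subgroup.pow_index_mem T x
    rw [hi, pow_succ, pow_mul] at hxi
    exact (Subgroup.mul_mem_cancel_left T (pow_mem hx2 i)).mp hxi

end Cfsg.Agent.S4059
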