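import Cfsg.Statements.S4060
import Cfsg.Agent.Lib.Ambivalent.RealCentral
import Mathlib.GroupTheory.Solvable

set_option autoImplicit false
open Cfsg

namespace Cfsg.Agent.S4060

universe u

theorem aux : ∀ (n : ℕ) {G : Type u} [Group G] [Finite G] [Group.IsSolvable G] (S : Sylow 2 G) (x : G),
    x ≠ 1 → Odd (orderOf x) → x ∈ Subgroup.normalizer ((S : Subgroup G) : Set G) →
    Nat.card G = n → ¬ IsConj x x⁻¹ := by
  intro n
  induction n using Nat.strong_induction_on with
  | _ n ih =>
    intro G _ _ _ S x hx hodd hnorm hn hreal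
    have : Nontrivial G := ⟨x, 1, hx⟩
    obtain ⟨A, hAn, hAc, hA1⟩ : ∃ A : Subgroup G, A.Normal ∧ ⁅A, A⁆ = ⊥ ∧ A ≠ ⊥ := by
      classical
      obtain ⟨d, hd⟩ := (Group.isSolvable_def G).mp inferInstance
      have hex : ∃ d, derivedSeries G d = ⊥ := ⟨d, hd⟩
      have h0 : Nat.find hex ≠ 0 := fun h => by
        have := Nat.find_spec hex
        rw [h, derivedSeries_zero] at this
        exact top_ne_bot this
      refine ⟨derivedSeries G (Nat.find hex - 1), inferInstance, ?_, Nat.find_min hex (by omega)⟩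
      rw [← derivedSeries_succ, show Nat.find hex - 1 + 1 = Nat.find hex by omega]
      exact Nat.find_spec hex
    by_cases hxA : x ∈ A
    · have hxS : x ∈ Subgroup.centralizer ((S : Subgroup G) : Set G) := by
        refine Subgroup.mem_centralizer_iff.mpr fun s hs => ?_
        have hcomm : Commute (s * x * s⁻¹) x⁻¹ :=
          (Subgroup.mem_centralizer_iff.mp
            ((Subgroup.commutator_eq_bot_iff_le_centralizer.mp hAc) (inv_mem hxA)) _ (hAn.conj_mem x hxA s))
        have h1 : (s * x * s⁻¹ * x⁻¹) ^ orderOf x = 1 := by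
          rw [hcomm.mul_pow, conj_pow, inv_pow, pow_orderOf_eq_one, inv_one, mul_one, mul_one, mul_inv_cancel]
        have h2 : s * x * s⁻¹ * x⁻¹ ∈ (S : Subgroup G) := by
          rw [show s * x * s⁻¹ * x⁻¹ = s * (x * s⁻¹ * x⁻¹) by group]
          exact mul_mem hs ((Subgroup.mem_normalizer_iff.mp hnorm _).mp (inv_mem hs))
        obtain ⟨k, hk⟩ := IsPGroup.iff_orderOf.mp S.2 ⟨_, h2⟩
        have h3 : s * x * s⁻¹ * x⁻¹ = 1 := by
          rw [← orderOf_eq_one_iff]
          rw [Subgroup.orderOf_mk] at hk
          exact Nat.eq_one_of_dvd_coprimes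
            ((Nat.coprime_two_left.mpr hodd).pow_left k) hk.dvd (orderOf_dvd_of_pow_eq_one h1)
        rw [← commutatorElement_def] at h3
        exact commutatorElement_eq_one_iff_commute.mp h3
      have h4 := RealCentral.sq_eq_one hreal S hxS
      have h5 := Nat.eq_one_of_dvd_coprimes (Nat.coprime_two_left.mpr hodd)
        (orderOf_dvd_of_pow_eq_one h4) dvd_rfl
      exact hx (orderOf_eq_one_iff.mp h5)
    · have hlt : Nat.card (G ⧸ A) < n := by
        rw [← hn, Subgroup.card_eq_card_quotient_mul_card_subgroup A]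
        exact lt_mul_of_one_lt_right Nat.card_pos ((Subgroup.one_lt_card_iff_ne_bot A).2 hA1)
      let f := QuotientGroup.mk' A
      refine ih _ hlt (S.mapSurjective (f := f) (QuotientGroup.mk'_surjective A)) (f x) ?_ ?_ ?_ rfl ?_
      · exact fun h => hxA ((QuotientGroup.eq_one_iff x).mp h)
      · exact Odd.of_dvd_nat hodd (orderOf_map_dvd f x)
      · exact Subgroup.le_normalizer_map f (Subgroup.mem_map_of_mem f hnorm)
      · rw [← map_inv]; exact f.map_isConj hreal

/-- Let G be a finite solvable group with Sylow 2-subgroup S, and let x ≠ 1 be an element of odd order normalizing S. Then x is not conjugate to its inverse in G. -/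
theorem result {G : Type*} [Group G] [Finite G] [Group.IsSolvable G]
    (S : Sylow 2 G) (x : G) (hx : x ≠ 1) (hodd : Odd (orderOf x))
    (hnorm : x ∈ Subgroup.normalizer ((S : Subgroup G) : Set G)) : ¬ IsConj x x⁻¹ := by
  exact aux (Nat.card G) S x hx hodd hnorm rfl

end Cfsg.Agent.S4060
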