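-- S4062
import Cfsg.Statements.S4062
import Cfsg.Agent.Lib.Ambivalent.Solvable

set_option autoImplicit false
set_option linter.style.haveILetI false
open Cfsg

namespace Cfsg.Agent.S4062

open Cfsg.Agent

universe u

variable {G : Type u} [Group G] [Finite G]

theorem quaternion_false [Group.IsSolvable G] (h : ∀ x y : G, orderOf x = orderOf y → IsConj x y)
    (S : Sylow 2 G) {n : ℕ} (hn : 1 ≤ n) (e : (S : Subgroup G) ≃* QuaternionGroup (2 ^ n)) : False := by
  haveI : NeZero (2 ^ n) := ⟨by positivity⟩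
  haveI : Fact (Nat.Prime 2) := ⟨Nat.prime_two⟩
  let π := QuotientGroup.mk' (oddCore G)
  have hπ : Function.Surjective π := QuotientGroup.mk'_surjective _
  have hamb : ∀ x : G ⧸ oddCore G, IsConj x x⁻¹ := Ambivalent.amb_map π hπ fun x => h x x⁻¹ (orderOf_inv x).symm
  let f : QuaternionGroup (2 ^ n) →* G ⧸ oddCore G :=
    π.comp ((S : Subgroup G).subtype.comp e.symm.toMonoidHom)
  have hinj : Function.Injective f := by
    refine (injective_iff_map_eq_one _).2 fun x hx => e.symm.injective ?_
    rw [map_one]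
    refine Subtype.ext ?_
    have h1 : ((e.symm x : S) : G) ∈ oddCore G := (QuotientGroup.eq_one_iff _).1 hx
    exact Subgroup.mem_bot.1 ((PCore.disjoint_of_isPGroup_of_coprime S.isPGroup'
      (PCore.coprime_card_pPrimeCore (G := G) (p := 2))).le_bot ⟨(e.symm x).2, h1⟩)
  -- elements of order 4 of the quotient are conjugate
  have h4 : ∀ a b : G ⧸ oddCore G, orderOf a = 4 → orderOf b = 4 → IsConj a b := fun a b ha hb => by
    obtain ⟨a', rfl, ha'⟩ := Ambivalent.exists_lift PCore.odd_card_oddCore a (k := 2) (by norm_num) (by simpa using ha)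
    obtain ⟨b', rfl, hb'⟩ := Ambivalent.exists_lift PCore.odd_card_oddCore b (k := 2) (by norm_num) (by simpa using hb)
    exact π.map_isConj (h a' b' (ha'.trans hb'.symm))
  set R := Cfsg.pCore 2 (G ⧸ oddCore G)
  haveI hRn : R.Normal := inferInstance
  have hR : IsPGroup 2 R := PCore.isPGroup_pCore
  have hx4 : ∀ i, orderOf (f (QuaternionGroup.xa i)) = 4 := fun i => by
    rw [orderOf_injective f hinj, QuaternionGroup.orderOf_xa]
  -- `R` contains an element of order 4
  obtain ⟨r, hr, hr4⟩ : ∃ r ∈ R, orderOf r = 4 := by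
    by_contra hcon
    push Not at hcon
    have hsmall : ∀ x ∈ R, x ≠ 1 → orderOf x = 2 := fun x hx hx1 => by
      obtain ⟨k, hk⟩ := IsPGroup.iff_orderOf.1 hR ⟨x, hx⟩
      rw [Subgroup.orderOf_mk] at hk
      rcases k with _ | _ | k
      · exact absurd (orderOf_eq_one_iff.1 (by simpa using hk)) hx1
      · simpa using hk
      · exfalso
        refine hcon _ (pow_mem hx (2 ^ k)) ?_
        rw [orderOf_pow, hk, Nat.gcd_eq_right (pow_dvd_pow 2 (by omega)), Nat.pow_div (by omega) (by norm_num),
          show k + 1 + 1 - k = 2 by omega]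
    have huniq := Ambivalent.unique_involution (G := G ⧸ oddCore G) hamb (fun a b ha hb => by
      obtain ⟨a', rfl, ha'⟩ := Ambivalent.exists_lift PCore.odd_card_oddCore a (k := 1) (by norm_num) (by simpa using ha)
      obtain ⟨b', rfl, hb'⟩ := Ambivalent.exists_lift PCore.odd_card_oddCore b (k := 1) (by norm_num) (by simpa using hb)
      exact π.map_isConj (h a' b' (ha'.trans hb'.symm))) PCore.pPrimeCore_quotient_self_eq_bot
    have hall := PCore.centralizer_pCore_le (p := 2) (G := G ⧸ oddCore G) (PCore.isPSolvable_of_isSolvable)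
      PCore.pPrimeCore_quotient_self_eq_bot
    have hmem : f (QuaternionGroup.xa 0) ∈ R := hall (Subgroup.mem_centralizer_iff.2 fun y hy => by
      rcases eq_or_ne y 1 with rfl | hy1
      · simp
      · have h2 := hsmall y hy hy1
        have h3 : f (QuaternionGroup.xa 0) * y * (f (QuaternionGroup.xa 0))⁻¹ = y := huniq _ _
          ((orderOf_injective (MulAut.conj (f (QuaternionGroup.xa 0))).toMonoidHom (MulAut.conj _).injective y).trans h2) h2
        exact (mul_inv_eq_iff_eq_mul.1 h3).symm)
    exact hcon _ hmem (hx4 0)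
  have hxR : ∀ i, f (QuaternionGroup.xa i) ∈ R := fun i => by
    obtain ⟨g, hg⟩ := isConj_iff.1 (h4 r _ hr4 (hx4 i))
    exact hg ▸ hRn.conj_mem r hr g
  have hle : f.range ≤ R := by
    rintro _ ⟨q, rfl⟩
    rcases q with i | i
    · have e2 : (QuaternionGroup.a i : QuaternionGroup (2 ^ n)) =
          QuaternionGroup.xa 0 * QuaternionGroup.xa (i - ((2 ^ n : ℕ) : ZMod (2 * 2 ^ n))) := by
        simp [QuaternionGroup.xa_mul_xa]
      rw [e2, map_mul]
      exact mul_mem (hxR _) (hxR _)
    · exact hxR i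
  -- `R` is a Sylow subgroup, hence everything
  have hindex : Odd R.index := by
    have hS : Odd f.range.index := by
      have h1 : f.range = (S : Subgroup G).map π := by
        ext y
        constructor
        · rintro ⟨q, rfl⟩
          exact ⟨_, (e.symm q).2, rfl⟩
        · rintro ⟨x, hx, rfl⟩
          exact ⟨e ⟨x, hx⟩, by simp [f]⟩
      rw [h1]
      exact Odd.of_dvd_nat (Nat.odd_iff.2 (Nat.two_dvd_ne_zero.1 S.not_dvd_index))
        (Subgroup.index_map_dvd _ hπ)
    exact Odd.of_dvd_nat hS (Subgroup.index_dvd_of_le hle)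
  haveI : Subsingleton ((G ⧸ oddCore G) ⧸ R) := Ambivalent.subsingleton_of_odd
    (Ambivalent.amb_map (QuotientGroup.mk' R) (QuotientGroup.mk'_surjective R) hamb) hindex
  have hsurj : Function.Surjective f := by
    intro y
    have hyR : y ∈ R := (QuotientGroup.eq_one_iff y).1 (Subsingleton.elim _ _)
    have hcard : Nat.card R ≤ Nat.card f.range := by
      obtain ⟨T, hT⟩ := hR.exists_le_sylow
      have h1 : f.range.index ≠ 0 := Subgroup.FiniteIndex.index_ne_zero
      have h2 := f.range.card_mul_index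
      have h3 : Nat.card R ∣ Nat.card f.range := by
        obtain ⟨k, hk⟩ := IsPGroup.iff_card.1 hR
        have ho : Odd f.range.index := by
          have h1 : f.range = (S : Subgroup G).map π := by
            ext y
            constructor
            · rintro ⟨q, rfl⟩
              exact ⟨_, (e.symm q).2, rfl⟩
            · rintro ⟨x, hx, rfl⟩
              exact ⟨e ⟨x, hx⟩, by simp [f]⟩
          rw [h1]
          exact Odd.of_dvd_nat (Nat.odd_iff.2 (Nat.two_dvd_ne_zero.1 S.not_dvd_index))
            (Subgroup.index_map_dvd _ hπ)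
        refine Nat.Coprime.dvd_of_dvd_mul_right ?_ (h2 ▸ R.card_subgroup_dvd_card)
        rw [hk]
        exact (Nat.coprime_two_left.2 ho).pow_left _
      exact Nat.le_of_dvd Nat.card_pos h3
    rw [← Subgroup.eq_of_le_of_card_ge hle hcard] at hyR
    exact hyR
  -- two elements of order 4 in different cosets of the cyclic subgroup
  have hi : orderOf (QuaternionGroup.a ((2 ^ (n - 1) : ℕ) : ZMod (2 * 2 ^ n)) : QuaternionGroup (2 ^ n)) = 4 := by
    obtain ⟨m, rfl⟩ := Nat.exists_eq_succ_of_ne_zero (show n ≠ 0 by omega)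
    rw [QuaternionGroup.orderOf_a, show m.succ - 1 = m from rfl, ZMod.val_natCast, Nat.mod_eq_of_lt
      (by rw [pow_succ]; have := Nat.one_le_two_pow (n := m); omega),
      show 2 * 2 ^ (m + 1) = 2 ^ m * 4 by ring, Nat.gcd_eq_right (dvd_mul_right _ _),
      Nat.mul_div_cancel_left _ (by positivity)]
  obtain ⟨g, hg⟩ := isConj_iff.1 (h4 _ _ (by rw [orderOf_injective f hinj]; exact hi) (hx4 0))
  obtain ⟨q, rfl⟩ := hsurj g
  rw [← map_mul, ← map_inv, ← map_mul] at hg
  have := hinj hg
  rw [mul_inv_eq_iff_eq_mul] at this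
  rcases q with j | j <;> simp at this

/-- A finite solvable group in which any two elements of the same order are conjugate has order 1 or 2 or is isomorphic to the symmetric group of degree 3. -/
theorem result {G : Type*} [Group G] [Finite G] [Group.IsSolvable G]
    (h : ∀ x y : G, orderOf x = orderOf y → IsConj x y) :
    Nat.card G = 1 ∨ Nat.card G = 2 ∨ Nonempty (G ≃* Equiv.Perm (Fin 3)) := by
  classical
  have hamb : ∀ x : G, IsConj x x⁻¹ := fun x => h x x⁻¹ (orderOf_inv x).symm
  by_cases heven : 2 ∣ Nat.card G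
  swap
  · haveI := Cfsg.Agent.Ambivalent.subsingleton_of_odd hamb (Nat.odd_iff.2 (by omega))
    exact Or.inl Nat.card_unique
  haveI : Fact (Nat.Prime 2) := ⟨Nat.prime_two⟩
  let S : Sylow 2 G := default
  have h2 : Nat.card (S : Subgroup G) = 2 := by
    rcases Cfsg.Agent.Ambivalent.sylow_two hamb (fun s t hs ht => h s t (hs.trans ht.symm)) S with hc | ⟨n, hn, ⟨e⟩⟩
    · exact Cfsg.Agent.Ambivalent.card_two_of_cyclic hamb heven S hc
    · exact (quaternion_false h S hn e).elim
  obtain ⟨hcomp, -, hinv⟩ := Cfsg.Agent.Ambivalent.structure_of_card_two hamb S h2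
  obtain ⟨t, ht, ht1⟩ := (S : Subgroup G).bot_or_exists_ne_one.resolve_left fun e => by
    rw [e, Subgroup.card_bot] at h2; omega
  set O := oddCore G
  have hcomm : ∀ x ∈ O, ∀ y ∈ O, x * y = y * x := fun x hx y hy => by
    have h1 := hinv t ht ht1 _ (mul_mem hx hy)
    have h2 := hinv t ht ht1 x hx
    have h3 := hinv t ht ht1 y hy
    have : x⁻¹ * y⁻¹ = (x * y)⁻¹ := by rw [← h1, ← h2, ← h3]; group
    rw [mul_inv_rev] at this
    calc x * y = (y⁻¹ * x⁻¹)⁻¹ := by group
      _ = y * x := by rw [← this]; group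
  have hpair : ∀ x ∈ O, ∀ y ∈ O, orderOf x = orderOf y → y = x ∨ y = x⁻¹ := by
    intro x hx y hy hxy
    obtain ⟨g, rfl⟩ := isConj_iff.1 (h x y hxy)
    obtain ⟨⟨s, k⟩, rfl, -⟩ := hcomp.existsUnique g
    show (s : G) * k * x * ((s : G) * k)⁻¹ = x ∨ (s : G) * k * x * ((s : G) * k)⁻¹ = x⁻¹
    have hk : (k : G) * x * (k : G)⁻¹ = x := by rw [hcomm _ k.2 x hx, mul_inv_cancel_right]
    by_cases hs : (s : G) = 1
    · left; simp [hs, hk]
    · right
      calc (s : G) * k * x * ((s : G) * k)⁻¹ = s * (k * x * (k : G)⁻¹) * (s : G)⁻¹ := by group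
        _ = x⁻¹ := by rw [hk]; exact hinv _ s.2 hs x hx
  have hodd : ∀ x ∈ O, Odd (orderOf x) := fun x hx =>
    Odd.of_dvd_nat Cfsg.Agent.PCore.odd_card_oddCore (Subgroup.orderOf_dvd_natCard _ hx)
  have hthree : ∀ x ∈ O, x ≠ 1 → orderOf x = 3 := fun x hx hx1 => by
    refine orderOf_eq_prime ?_ hx1
    rcases hpair x hx (x ^ 2) (pow_mem hx 2)
      (Nat.Coprime.orderOf_pow (Nat.coprime_two_right.2 (hodd x hx))).symm with e | e
    · exact absurd (by rwa [pow_two, mul_eq_left] at e) hx1
    · rw [pow_succ, e, inv_mul_cancel]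
  have hG : Nat.card G = 2 * Nat.card O := by rw [← h2, hcomp.card_mul]
  rcases O.bot_or_exists_ne_one with hb | ⟨x, hx, hx1⟩
  · right; left
    rw [hG, hb, Subgroup.card_bot]
  right; right
  have hO : Nat.card O = 3 := by
    have hz : O = Subgroup.zpowers x := by
      refine le_antisymm (fun y hy => ?_) (Subgroup.zpowers_le.2 hx)
      rcases eq_or_ne y 1 with rfl | hy1
      · exact one_mem _
      rcases hpair x hx y hy ((hthree x hx hx1).trans (hthree y hy hy1).symm) with e | e <;> rw [e]
      · exact Subgroup.mem_zpowers x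
      · exact inv_mem (Subgroup.mem_zpowers x)
    rw [hz, Nat.card_zpowers, hthree x hx hx1]
  have hidx : (S : Subgroup G).index = 3 := by rw [hcomp.symm.index_eq_card, hO]
  let f := MulAction.toPermHom G (G ⧸ (S : Subgroup G))
  have hker : Function.Injective f := by
    rw [← MonoidHom.ker_eq_bot_iff, ← Subgroup.normalCore_eq_ker]
    refine (Subgroup.eq_bot_iff_forall _).2 fun y hy => ?_
    by_contra hy1
    have hyS : y ∈ (S : Subgroup G) := (S : Subgroup G).normalCore_le hy
    have h3 : x * y * x⁻¹ ∈ (S : Subgroup G) :=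
      (S : Subgroup G).normalCore_le ((S : Subgroup G).normalCore_normal.conj_mem y hy x)
    have h4 : y * x * y⁻¹ = x⁻¹ := hinv y hyS hy1 x hx
    have h5 : x ^ 2 ∈ (S : Subgroup G) := by
      have := mul_mem h3 (inv_mem hyS)
      convert this using 1
      calc x ^ 2 = x * (y * x * y⁻¹)⁻¹ := by rw [h4, inv_inv, pow_two]
        _ = _ := by group
    have h6 : x ^ 2 ∈ (⊥ : Subgroup G) := hcomp.disjoint.le_bot ⟨h5, pow_mem hx 2⟩
    have h7 := orderOf_dvd_of_pow_eq_one (Subgroup.mem_bot.1 h6)
    rw [hthree x hx hx1] at h7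
    norm_num at h7
  haveI := Fintype.ofFinite (G ⧸ (S : Subgroup G))
  have hq : Fintype.card (G ⧸ (S : Subgroup G)) = 3 := by rw [← Nat.card_eq_fintype_card]; exact hidx
  have hbij : Function.Bijective f := (Nat.bijective_iff_injective_and_card f).2 ⟨hker, by
    rw [hG, hO, Nat.card_eq_fintype_card, Fintype.card_perm, hq]; rfl⟩
  exact ⟨(MulEquiv.ofBijective f hbij).trans (Equiv.permCongrHom (Fintype.equivFinOfCardEq hq))⟩

end Cfsg.Agent.S4062
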