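-- S4065
import Cfsg.Statements.S4065
import Mathlib.LinearAlgebra.Matrix.SpecialLinearGroup
import Mathlib.FieldTheory.Finite.GaloisField

set_option autoImplicit false
set_option linter.style.haveILetI false
open Cfsg

namespace Cfsg.Agent.S4065


open Matrix

theorem isTISubset_centralizer_of_transitive {G : Type*} [Group G]
    (hT : ∀ a b y : G, y ≠ 1 → Commute a y → Commute b y → Commute a b) (x : G) :
    Cfsg.IsTISubset (Subgroup.centralizer ({x} : Set G) : Set G) := by
  intro g hg y hy hgy
  by_contra hy1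
  by_cases hx : x = 1
  · exact hg (Subgroup.le_normalizer (by simp [hx, Subgroup.mem_centralizer_singleton_iff]))
  rw [SetLike.mem_coe, Subgroup.mem_centralizer_singleton_iff] at hy hgy
  have key : ∀ w : G, w ≠ 1 → Commute w x → ∀ z : G, Commute z x ↔ Commute z w := fun w hw hwx z =>
    ⟨fun h => hT z w x hx h hwx, fun h => hT z x w hw h hwx.symm⟩
  have h2 : g * y * g⁻¹ ≠ 1 := fun h => hy1 (by simpa using h)
  have h4 : ∀ z, Commute (g * z * g⁻¹) (g * y * g⁻¹) ↔ Commute z y := fun z =>
    ⟨fun h => by simpa [mul_assoc] using h.map (MulAut.conj g⁻¹).toMonoidHom,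
     fun h => by simpa using h.map (MulAut.conj g).toMonoidHom⟩
  refine hg (Subgroup.mem_normalizer_iff.2 fun z => ?_)
  simp only [SetLike.mem_coe, Subgroup.mem_centralizer_singleton_iff]
  change Commute z x ↔ Commute (g * z * g⁻¹) x
  rw [key y hy1 hy z, key (g * y * g⁻¹) h2 hgy (g * z * g⁻¹), h4]

variable {K : Type*} [Field K]

theorem matrix_commute (a b y : Matrix (Fin 2) (Fin 2) K)
    (hy : ¬(y 0 1 = 0 ∧ y 1 0 = 0 ∧ y 1 1 = y 0 0)) (ha : a * y = y * a) (hb : b * y = y * b) :
    a * b = b * a := by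
  have ha00 := congrFun (congrFun ha 0) 0
  have ha01 := congrFun (congrFun ha 0) 1
  have ha10 := congrFun (congrFun ha 1) 0
  have hb00 := congrFun (congrFun hb 0) 0
  have hb01 := congrFun (congrFun hb 0) 1
  have hb10 := congrFun (congrFun hb 1) 0
  simp only [Matrix.mul_apply, Fin.sum_univ_two] at ha00 ha01 ha10 hb00 hb01 hb10
  set s := y 1 1 - y 0 0 with hs
  set sa := a 1 1 - a 0 0 with hsa
  set sb := b 1 1 - b 0 0 with hsb
  have u1 : a 0 1 * y 1 0 = a 1 0 * y 0 1 := by linear_combination ha00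
  have u2 : a 0 1 * s = y 0 1 * sa := by rw [hs, hsa]; linear_combination ha01
  have u3 : a 1 0 * s = y 1 0 * sa := by rw [hs, hsa]; linear_combination -ha10
  have v1 : b 0 1 * y 1 0 = b 1 0 * y 0 1 := by linear_combination hb00
  have v2 : b 0 1 * s = y 0 1 * sb := by rw [hs, hsb]; linear_combination hb01
  have v3 : b 1 0 * s = y 1 0 * sb := by rw [hs, hsb]; linear_combination -hb10
  have w : a 0 1 * b 1 0 = b 0 1 * a 1 0 ∧ a 0 1 * sb = b 0 1 * sa ∧ a 1 0 * sb = b 1 0 * sa := by
    rcases not_and_or.1 hy with h | h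
    · have w2 : a 0 1 * sb = b 0 1 * sa := mul_right_cancel₀ h (by
        linear_combination -(a 0 1) * v2 + (b 0 1) * u2)
      exact ⟨mul_right_cancel₀ h (by linear_combination -(a 0 1) * v1 + (b 0 1) * u1), w2,
        mul_right_cancel₀ h (by linear_combination -sb * u1 + sa * v1 + (y 1 0) * w2)⟩
    · rcases not_and_or.1 h with h | h
      · have w3 : a 1 0 * sb = b 1 0 * sa := mul_right_cancel₀ h (by
          linear_combination -(a 1 0) * v3 + (b 1 0) * u3)
        exact ⟨mul_right_cancel₀ h (by linear_combination (b 1 0) * u1 - (a 1 0) * v1),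
          mul_right_cancel₀ h (by linear_combination sb * u1 - sa * v1 + (y 0 1) * w3), w3⟩
      · have h : s ≠ 0 := sub_ne_zero.2 h
        have w3 : a 1 0 * sb = b 1 0 * sa := mul_right_cancel₀ h (by
          linear_combination sb * u3 - sa * v3)
        exact ⟨mul_right_cancel₀ h (by linear_combination (b 1 0) * u2 - (a 1 0) * v2 - (y 0 1) * w3),
          mul_right_cancel₀ h (by linear_combination sb * u2 - sa * v2), w3⟩
  obtain ⟨w1, w2, w3⟩ := w
  rw [hsa, hsb] at w2 w3
  ext i j
  fin_cases i <;> fin_cases j <;> simp [Matrix.mul_apply, Fin.sum_univ_two]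
  · linear_combination w1
  · linear_combination w2
  · linear_combination -w3
  · linear_combination -w1

variable [CharP K 2]

theorem sl_commute (a b y : SpecialLinearGroup (Fin 2) K) (hy : y ≠ 1) (ha : Commute a y)
    (hb : Commute b y) : Commute a b := by
  refine Subtype.ext (matrix_commute a.1 b.1 y.1 ?_ (congrArg Subtype.val ha) (congrArg Subtype.val hb))
  rintro ⟨h01, h10, h11⟩
  apply hy
  have hd := y.2
  rw [Matrix.det_fin_two, h01, h10, h11, mul_zero, sub_zero] at hd
  have h2 : (2 : K) = 0 := CharTwo.two_eq_zero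
  have h00 : y.1 0 0 = 1 := by
    have : (y.1 0 0 - 1) * (y.1 0 0 - 1) = 0 := by linear_combination hd + (1 - y.1 0 0) * h2
    exact sub_eq_zero.1 (mul_self_eq_zero.1 this)
  refine Subtype.ext ?_
  ext i j
  fin_cases i <;> fin_cases j <;> simp [h01, h10, h11, h00]

theorem center_eq_bot : Subgroup.center (SpecialLinearGroup (Fin 2) K) = ⊥ := by
  refine eq_bot_iff.2 fun z hz => Subgroup.mem_bot.2 ?_
  by_contra hz1
  have hc := fun g => (Subgroup.mem_center_iff.1 hz g)
  let u : SpecialLinearGroup (Fin 2) K := ⟨!![1, 1; 0, 1], by simp [Matrix.det_fin_two]⟩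
  let v : SpecialLinearGroup (Fin 2) K := ⟨!![1, 0; 1, 1], by simp [Matrix.det_fin_two]⟩
  have h := congrArg (fun g : SpecialLinearGroup (Fin 2) K => g.1 0 0)
    (sl_commute u v z hz1 (hc u) (hc v))
  change (u.1 * v.1) 0 0 = (v.1 * u.1) 0 0 at h
  rw [Matrix.mul_apply, Matrix.mul_apply, Fin.sum_univ_two, Fin.sum_univ_two] at h
  simp [u, v] at h

/-- Let F be a finite field with 2ⁿ elements, n ≥ 2. In PSL₂(F) the centralizer of every element meets each of its conjugates by elements outside its normalizer trivially. -/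
theorem result (n : ℕ) (hn : 2 ≤ n)
    (x : Matrix.ProjectiveSpecialLinearGroup (Fin 2) (GaloisField 2 n)) :
    Cfsg.IsTISubset (Subgroup.centralizer ({x} : Set (Matrix.ProjectiveSpecialLinearGroup (Fin 2) (GaloisField 2 n))) :
      Set (Matrix.ProjectiveSpecialLinearGroup (Fin 2) (GaloisField 2 n))) := by
  haveI : CharP (GaloisField 2 n) 2 := inferInstance
  refine isTISubset_centralizer_of_transitive ?_ x
  intro a b y hy ha hb
  obtain ⟨a, rfl⟩ := QuotientGroup.mk'_surjective _ a
  obtain ⟨b, rfl⟩ := QuotientGroup.mk'_surjective _ b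
  obtain ⟨y, rfl⟩ := QuotientGroup.mk'_surjective _ y
  have hinj : Function.Injective (QuotientGroup.mk' (Subgroup.center
      (Matrix.SpecialLinearGroup (Fin 2) (GaloisField 2 n)))) := by
    rw [← MonoidHom.ker_eq_bot_iff, QuotientGroup.ker_mk', center_eq_bot]
  refine (sl_commute a b y (fun h => hy ?_) (hinj ?_) (hinj ?_)).map _
  · rw [h, map_one]
  · rw [map_mul, map_mul]; exact ha
  · rw [map_mul, map_mul]; exact hb

end Cfsg.Agent.S4065
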