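import Cfsg.Statements.S4066
import Cfsg.Agent.Lib.Components.Fitting

set_option autoImplicit false
open Cfsg

namespace Cfsg.Agent.S4066

open Subgroup

theorem le_normalizer_of_mem {G : Type*} [Group G]
    (hTI : ∀ x : G, Cfsg.IsTISubset (centralizer ({x} : Set G) : Set G))
    {x y : G} (hy : y ∈ centralizer ({x} : Set G)) (hy1 : y ≠ 1) :
    centralizer ({y} : Set G) ≤ normalizer (centralizer ({x} : Set G) : Set G) := by
  intro g hg
  by_contra h
  refine hy1 (hTI x g h y hy ?_)
  rw [mem_centralizer_singleton_iff.mp hg, mul_inv_cancel_right]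
  exact hy

theorem isNilpotent_centralizer {G : Type*} [Group G] [Finite G]
    (hTI : ∀ x : G, Cfsg.IsTISubset (centralizer ({x} : Set G) : Set G)) {z : G} (hz : z ≠ 1) :
    Group.IsNilpotent ↥(centralizer ({z} : Set G)) := by
  set K := centralizer ({z} : Set G) with hK
  rw [← Components.fittingSubgroup_eq_top_iff, eq_top_iff']
  intro x
  let A := normalClosure ({x} : Set K)
  have hn : ∀ u : K, ∀ g : K, ∀ v : K, Commute u v → Commute u (g * v * g⁻¹) := by
    intro u g v huv
    have hzu : z ∈ centralizer ({(u : G)} : Set G) :=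
      mem_centralizer_singleton_iff.mpr (mem_centralizer_singleton_iff.mp u.2).symm
    have h1 := mem_normalizer_iff.mp (le_normalizer_of_mem hTI hzu hz g.2) (v : G)
    have hv : (v : G) ∈ centralizer ({(u : G)} : Set G) :=
      mem_centralizer_singleton_iff.mpr (congrArg Subtype.val huv.symm.eq)
    exact Subtype.ext (mem_centralizer_singleton_iff.mp (h1.mp hv)).symm
  have hA : ⁅A, A⁆ = ⊥ := by
    rw [commutator_eq_bot_iff_le_centralizer]
    show closure (Group.conjugatesOfSet ({x} : Set K)) ≤
      centralizer (closure (Group.conjugatesOfSet ({x} : Set K)) : Set K)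
    rw [centralizer_closure, closure_le]
    intro a ha
    refine mem_centralizer_iff.mpr fun b hb => ?_
    rw [Group.mem_conjugatesOfSet_iff] at ha hb
    obtain ⟨u, hu, ha⟩ := ha
    obtain ⟨v, hv, hb⟩ := hb
    rw [Set.mem_singleton_iff.mp hu] at ha
    rw [Set.mem_singleton_iff.mp hv] at hb
    obtain ⟨c, rfl⟩ := isConj_iff.mp ha
    obtain ⟨d, rfl⟩ := isConj_iff.mp hb
    exact (hn _ d _ (hn _ c _ (Commute.refl x)).symm).symm.eq
  have : Group.IsNilpotent A := Components.isNilpotent_of_commutator_commutator (by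
    rw [hA, commutator_bot_left])
  exact Components.le_fittingSubgroup normalClosure_normal (subset_normalClosure (Set.mem_singleton x))

theorem aux {G : Type*} [Group G] [Finite G]
    (hTI : ∀ x : G, Cfsg.IsTISubset (centralizer ({x} : Set G) : Set G))
    {p : ℕ} [Fact p.Prime] (P Q : Sylow p G) (hPQ : P ≠ Q) :
    (P : Subgroup G) ⊓ (Q : Subgroup G) = ⊥ := by
  by_contra hne
  obtain ⟨d, hd, hd1⟩ := (ne_bot_iff_exists_ne_one.mp hne) |> fun ⟨⟨d, hd⟩, h⟩ => (⟨d, hd, fun e => h (Subtype.ext e)⟩ : ∃ d ∈ (P : Subgroup G) ⊓ Q, d ≠ 1)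
  have hcen : ∀ R : Sylow p G, d ∈ (R : Subgroup G) →
      ∃ z ∈ (R : Subgroup G), z ≠ 1 ∧ (R : Subgroup G) ≤ centralizer ({z} : Set G) := by
    intro R hR
    have : Nontrivial (R : Subgroup G) := ⟨⟨d, hR⟩, 1, fun h => hd1 (congrArg Subtype.val h)⟩
    have := R.2.center_nontrivial
    obtain ⟨⟨z, hzc⟩, hz1⟩ := exists_ne (1 : Subgroup.center (R : Subgroup G))
    refine ⟨z, z.2, fun h => hz1 (Subtype.ext (Subtype.ext h)), fun r hr => ?_⟩
    exact mem_centralizer_singleton_iff.mpr (congrArg Subtype.val (mem_center_iff.mp hzc ⟨r, hr⟩))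
  obtain ⟨z, hzP, hz1, hPz⟩ := hcen P hd.1
  obtain ⟨z', hzQ, hz'1, hQz⟩ := hcen Q hd.2
  set C := centralizer ({z} : Set G) with hC
  -- `P` contains every `p`-subgroup of `N(C(z))`
  have hmax : ∀ R : Subgroup G, IsPGroup p R → R ≤ normalizer ((P : Subgroup G) : Set G) → R ≤ P :=
    fun R hR hRN => le_sup_left.trans (P.3 (IsPGroup.to_sup_of_normal_right' hR P.2 hRN) le_sup_right).le
  have hCP : C ≤ normalizer ((P : Subgroup G) : Set G) := by
    have := isNilpotent_centralizer hTI hz1
    have hnor : ((P : Subgroup G).subgroupOf C).Normal := by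
      have hn := ((Group.isNilpotent_of_finite_tfae (G := C)).out 0 3).mp this
      have := hn p inferInstance (P.subtype hPz)
      simpa using this
    exact le_normalizer_of_normal_subgroupOf hPz
  have hN : normalizer (C : Set G) ≤ normalizer ((P : Subgroup G) : Set G) := by
    intro g hg
    rw [mem_normalizer_iff_map_conj_eq]
    have hp : IsPGroup p ((P : Subgroup G).map (MulAut.conj g).toMonoidHom) := P.2.map _
    refine eq_of_le_of_card_ge (hmax _ hp (le_trans ?_ hCP)) ?_
    · rintro _ ⟨y, hy, rfl⟩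
      exact (mem_normalizer_iff.mp hg y).mp (hPz hy)
    · exact (card_map_of_injective (MulAut.conj g).injective).ge
  have hdz : d ∈ C := hPz hd.1
  have hz'd : z' ∈ centralizer ({d} : Set G) :=
    mem_centralizer_singleton_iff.mpr (mem_centralizer_singleton_iff.mp (hQz hd.2)).symm
  have hz'P : z' ∈ (P : Subgroup G) := by
    refine hmax (zpowers z') ?_ ?_ (mem_zpowers z')
    · exact Q.2.to_le (zpowers_le.mpr hzQ)
    · exact zpowers_le.mpr (hN (le_normalizer_of_mem hTI hdz hd1 hz'd))
  exact hPQ (Sylow.ext (Q.3 P.2 (hmax _ Q.2 (((hQz).trans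
    (le_normalizer_of_mem hTI (hPz hz'P) hz'1)).trans hN))))

/-- Let G be a finite group in which the centralizer of every element meets each of its conjugates by elements outside its normalizer trivially. Then any two distinct Sylow p-subgroups of G, for any prime p, intersect trivially. -/
theorem result {G : Type*} [Group G] [Finite G] (hTI : ∀ x : G, Cfsg.IsTISubset (Subgroup.centralizer ({x} : Set G) : Set G))
    {p : ℕ} [Fact p.Prime] (P Q : Sylow p G) (hPQ : P ≠ Q) : (P : Subgroup G) ⊓ (Q : Subgroup G) = ⊥ := by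
  exact aux hTI P Q hPQ

end Cfsg.Agent.S4066
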