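import Cfsg.Statements.S4067
import Mathlib
import Cfsg.Agent.Lib.PGroup.Basic

set_option autoImplicit false
open Cfsg

namespace Cfsg.Agent.S4067

open scoped commutatorElement
open Subgroup

variable {G : Type*} [Group G] [Finite G]

local notation "orb" => MulAction.orbit (MulAut G)

theorem index_centralizer_le (g : G) : (centralizer ({g} : Set G)).index ≤ Nat.card (orb g) := by
  let f : G ⧸ centralizer ({g} : Set G) → orb g := fun q => ⟨MulAut.conj q.out g, ⟨_, rfl⟩⟩
  have hf : Function.Injective f := by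
    intro a b hab
    have h : a.out * g * a.out⁻¹ = b.out * g * b.out⁻¹ := by simpa [f] using congrArg Subtype.val hab
    rw [← QuotientGroup.out_eq' a, ← QuotientGroup.out_eq' b, QuotientGroup.eq, mem_centralizer_singleton_iff]
    calc a.out⁻¹ * b.out * g = a.out⁻¹ * (b.out * g * b.out⁻¹) * b.out := by group
      _ = a.out⁻¹ * (a.out * g * a.out⁻¹) * b.out := by rw [h]
      _ = g * (a.out⁻¹ * b.out) := by group
  rw [index_eq_card]
  exact Nat.card_le_card_of_injective f hf

theorem minFac_le_orbit {g : G} (hg : g ∉ center G) : (Nat.card G).minFac ≤ Nat.card (orb g) := by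
  refine le_trans (Nat.minFac_le_of_dvd ?_ (index_dvd_card _)) (index_centralizer_le g)
  have h1 : (centralizer ({g} : Set G)).index ≠ 1 := fun h => hg (mem_center_iff.2 fun a =>
    mem_centralizer_singleton_iff.1 ((index_eq_one.1 h).ge (mem_top a)))
  have h0 : (centralizer ({g} : Set G)).index ≠ 0 := index_ne_zero_of_finite
  omega

/-- The weighted count of orbits. -/
theorem orbit_count {p m : ℕ} (hp : 0 < p) (hpm : p ≤ m) (M : Subgroup G) (hZM : center G ≤ M)
    (h1 : ∀ g : G, g ∉ center G → p ≤ Nat.card (orb g)) (h2 : ∀ g : G, g ∉ M → m ≤ Nat.card (orb g)) :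
    p * m * Nat.card (MulAction.orbitRel.Quotient (MulAut G) G) + p * Nat.card M + m * Nat.card (center G) ≤
      p * m * Nat.card (center G) + m * Nat.card M + p * Nat.card G := by
  classical
  haveI := Fintype.ofFinite G
  let O := MulAction.orbitRel.Quotient (MulAut G) G
  haveI := Fintype.ofFinite O
  let c : G → ℕ := fun g => if g ∈ center G then p * m else if g ∈ M then m else p
  let π : G → O := Quotient.mk''
  have hsum : ∀ ω : O, p * m ≤ ∑ g with π g = ω, c g := by
    intro ω
    induction ω using Quotient.inductionOn' with | _ a => ?_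
    set s := Finset.univ.filter (fun g => π g = Quotient.mk'' a) with hs
    have hmem : ∀ g, g ∈ s ↔ g ∈ orb a := fun g => by
      simp only [hs, Finset.mem_filter, Finset.mem_univ, true_and]
      exact Quotient.eq''.trans Iff.rfl
    have hcard : ∀ g ∈ s, s.card = Nat.card (orb g) := fun g hg => by
      rw [MulAction.orbit_eq_iff.2 ((hmem g).1 hg), ← Nat.card_eq_finsetCard]
      exact Nat.card_congr (Equiv.subtypeEquivRight hmem)
    by_cases hz : ∃ g ∈ s, g ∈ center G
    · obtain ⟨g, hg, hgz⟩ := hz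
      exact le_trans (by simp [c, hgz]) (Finset.single_le_sum (f := c) (fun _ _ => Nat.zero_le _) hg)
    push Not at hz
    by_cases hM : ∃ g ∈ s, g ∉ M
    · obtain ⟨g, hg, hgM⟩ := hM
      calc p * m ≤ p * s.card := Nat.mul_le_mul_left p (hcard g hg ▸ h2 g hgM)
        _ = ∑ _x ∈ s, p := by rw [Finset.sum_const, smul_eq_mul, mul_comm]
        _ ≤ ∑ x ∈ s, c x := Finset.sum_le_sum fun x hx => by
            simp only [c, if_neg (hz x hx)]; split <;> omega
    · push Not at hM
      have ha : a ∈ s := (hmem a).2 (MulAction.mem_orbit_self a)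
      calc p * m ≤ s.card * m := Nat.mul_le_mul_right m (hcard a ha ▸ h1 a (hz a ha))
        _ = ∑ _x ∈ s, m := by rw [Finset.sum_const, smul_eq_mul]
        _ ≤ ∑ x ∈ s, c x := Finset.sum_le_sum fun x hx => by simp [c, hz x hx, hM x hx]
  have hle : p * m * Nat.card O ≤ ∑ g, c g := by
    calc p * m * Nat.card O = ∑ _ω : O, p * m := by
          rw [Finset.sum_const, Finset.card_univ, ← Nat.card_eq_fintype_card, smul_eq_mul, mul_comm]
      _ ≤ ∑ ω : O, ∑ g with π g = ω, c g := Finset.sum_le_sum fun ω _ => hsum ω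
      _ = ∑ g, c g := Finset.sum_fiberwise _ π c
  have hc : ∀ g, c g + (if g ∈ center G then m else 0) + (if g ∈ M then p else 0) =
      p + (if g ∈ center G then p * m else 0) + (if g ∈ M then m else 0) := fun g => by
    by_cases hgz : g ∈ center G
    · simp [c, hgz, hZM hgz]; ring
    · by_cases hgM : g ∈ M <;> simp [c, hgz, hgM, add_comm]
  have hcnt : ∀ (H : Subgroup G) [DecidablePred (· ∈ H)] (q : ℕ),
      ∑ g : G, (if g ∈ H then q else 0) = Nat.card H * q := fun H _ q => by
    rw [Finset.sum_ite, Finset.sum_const_zero, add_zero, Finset.sum_const, smul_eq_mul, Nat.card_eq_fintype_card,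
      Fintype.card_subtype]
  have htot := Finset.sum_congr (rfl : (Finset.univ : Finset G) = _) fun g _ => hc g
  simp only [Finset.sum_add_distrib, hcnt, Finset.sum_const, Finset.card_univ, ← Nat.card_eq_fintype_card,
    smul_eq_mul] at htot
  show p * m * Nat.card O + _ + _ ≤ _
  nlinarith

theorem arith {n p m z M k O : ℕ} (hp : 2 ≤ p) (hpm : p < m) (hk : n = k * z) (hM : p * M ≤ n)
    (hbig : p * m + p * k ≤ m * k) (h : p * m * O + p * M + m * z ≤ p * m * z + m * M + p * n) :
    O * p ≤ n := by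
  obtain ⟨d, rfl⟩ : ∃ d, m = p + d := ⟨m - p, by omega⟩
  obtain ⟨e, rfl⟩ : ∃ e, p = 1 + e := ⟨p - 1, by omega⟩
  have h1 : (1 + e) * (1 + e + d) ≤ d * k := by nlinarith
  have h1' : (1 + e) * (1 + e + d) * z * e ≤ d * n * e := by
    rw [hk, ← mul_assoc]
    exact Nat.mul_le_mul_right e (Nat.mul_le_mul_right z h1)
  have h2 : (1 + e) * ((1 + e + d) * (O * (1 + e))) ≤ (1 + e) * ((1 + e + d) * n) := by
    nlinarith [Nat.mul_le_mul_left d hM, h1', Nat.mul_le_mul_left (1 + e) h]
  exact Nat.le_of_mul_le_mul_left (Nat.le_of_mul_le_mul_left h2 (by omega)) (by omega)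

theorem big_sq {p k : ℕ} (hp : 2 ≤ p) (hk : p ^ 2 ≤ k) : p * p ^ 2 + p * k ≤ p ^ 2 * k := by
  calc p * p ^ 2 + p * k ≤ p * k + p * k := by gcongr
    _ = 2 * (p * k) := by ring
    _ ≤ p * (p * k) := Nat.mul_le_mul_right _ hp
    _ = p ^ 2 * k := by ring

theorem bound {p : ℕ} (hp : p.Prime) (hmin : p = (Nat.card G).minFac) {m : ℕ} (hpm : p < m) (M : Subgroup G)
    (hMne : M ≠ ⊤) (hZM : center G ≤ M) (h2 : ∀ g : G, g ∉ M → m ≤ Nat.card (orb g))
    (hbig : p * m + p * (center G).index ≤ m * (center G).index) :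
    Nat.card (MulAction.orbitRel.Quotient (MulAut G) G) * p ≤ Nat.card G := by
  have hMp : p * Nat.card M ≤ Nat.card G := by
    conv_rhs => rw [← card_mul_index M, mul_comm]
    refine Nat.mul_le_mul_right _ (hmin ▸ Nat.minFac_le_of_dvd ?_ (index_dvd_card M))
    have h1 : M.index ≠ 1 := fun h => hMne (index_eq_one.1 h)
    have h0 : M.index ≠ 0 := index_ne_zero_of_finite
    omega
  exact arith hp.two_le hpm (index_mul_card (center G)).symm hMp hbig
    (orbit_count hp.pos hpm.le M hZM (fun g hg => hmin ▸ minFac_le_orbit hg) h2)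

theorem sq_le_orbit {p : ℕ} [Fact p.Prime] (α : MulAut G) {a g c v : G} (hac : ⁅a, g⁆ = c) (hcc : c ∈ center G)
    (hc : c ^ p = 1) (hc1 : c ≠ 1) (hαc : α c = c) (hαv : α v = v) (hαg : α g = g * v) (hv : v ∉ zpowers c)
    (hvp : v ^ p ∈ zpowers c) : p ^ 2 ≤ Nat.card (orb g) := by
  have hn : (zpowers c).Normal := ⟨fun w hw x => by
    rw [mem_center_iff.1 (zpowers_le.2 hcc hw) x, mul_inv_cancel_right]; exact hw⟩
  have hconj : ∀ j : ℕ, a ^ j * g * (a ^ j)⁻¹ = c ^ j * g := by
    intro j
    induction j with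
    | zero => simp
    | succ j ih =>
      rw [pow_succ', mul_inv_rev, show a * a ^ j * g * ((a ^ j)⁻¹ * a⁻¹) = a * (a ^ j * g * (a ^ j)⁻¹) * a⁻¹ by group,
        ih, ← mul_assoc, mem_center_iff.1 (pow_mem hcc j) a, pow_succ, mul_assoc (c ^ j) c, ← hac]
      simp only [commutatorElement_def]
      group
  have hit : ∀ i j : ℕ, (α ^ i) (c ^ j * g) = c ^ j * g * v ^ i := by
    intro i j
    induction i with
    | zero => simp
    | succ i ih =>
      rw [pow_succ', MulAut.mul_apply, ih, map_mul, map_mul, map_pow, map_pow, hαc, hαv, hαg, pow_succ']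
      simp only [mul_assoc]
  have hmem : ∀ u ∈ zpowers c ⊔ zpowers v, g * u ∈ orb g := by
    intro u hu
    obtain ⟨w, hw, w', hw', rfl⟩ := mem_sup_of_normal_left.1 hu
    obtain ⟨j, rfl⟩ := (isOfFinOrder_of_finite _).mem_powers_iff_mem_zpowers.2 hw
    obtain ⟨i, rfl⟩ := (isOfFinOrder_of_finite _).mem_powers_iff_mem_zpowers.2 hw'
    refine ⟨α ^ i * MulAut.conj (a ^ j), ?_⟩
    show (α ^ i) (a ^ j * g * (a ^ j)⁻¹) = g * (c ^ j * v ^ i)
    rw [hconj, hit, ← mul_assoc g, mem_center_iff.1 (pow_mem hcc j) g]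
  calc p ^ 2 = Nat.card ↥(zpowers c ⊔ zpowers v) := by
        rw [PGroup.card_sup_zpowers (p := p) _ hv hvp, Nat.card_zpowers, orderOf_eq_prime hc hc1, sq]
    _ ≤ Nat.card (orb g) := Nat.card_le_card_of_injective (fun u => ⟨g * u, hmem u u.2⟩) fun u u' h =>
        Subtype.ext (mul_left_cancel (congrArg Subtype.val h))

section Class2

variable (hcl : ∀ a b : G, ⁅a, b⁆ ∈ center G)

include hcl
omit [Finite G]

theorem comm_mul_left (a b c : G) : ⁅a * b, c⁆ = ⁅a, c⁆ * ⁅b, c⁆ := by
  rw [commutatorElement_mul_left_eq_conj_mul, mem_center_iff.1 (hcl b c) a, mul_inv_cancel_right,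
    mem_center_iff.1 (hcl b c) _]

theorem comm_mul_right (a b c : G) : ⁅a, b * c⁆ = ⁅a, b⁆ * ⁅a, c⁆ := by
  rw [commutatorElement_mul_right_eq_mul_conj, mul_assoc _ b, mem_center_iff.1 (hcl a c) b, mul_assoc,
    mul_inv_cancel_right]

theorem comm_pow_left (a c : G) (i : ℕ) : ⁅a ^ i, c⁆ = ⁅a, c⁆ ^ i := by
  induction i with
  | zero => simp
  | succ i ih => rw [pow_succ, comm_mul_left hcl, ih, pow_succ]

theorem comm_pow_right (a c : G) (i : ℕ) : ⁅a, c ^ i⁆ = ⁅a, c⁆ ^ i := by
  induction i with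
  | zero => simp
  | succ i ih => rw [pow_succ, comm_mul_right hcl, ih, pow_succ]

theorem mul_pow_class2 (a b : G) (n : ℕ) : (a * b) ^ n = a ^ n * b ^ n * ⁅b, a⁆ ^ (n.choose 2) := by
  induction n with
  | zero => simp
  | succ n ih =>
    have hb : b ^ n * a = ⁅b, a⁆ ^ n * (a * b ^ n) := by
      rw [← comm_pow_left hcl, commutatorElement_def]; group
    have hc : ∀ k w, ⁅b, a⁆ ^ k * w = w * ⁅b, a⁆ ^ k := fun k w => (mem_center_iff.1 (pow_mem (hcl b a) k) w).symm
    calc (a * b) ^ (n + 1) = a ^ n * b ^ n * (⁅b, a⁆ ^ n.choose 2 * (a * b)) := by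
          rw [pow_succ, ih, mul_assoc]
      _ = a ^ n * (b ^ n * a) * (b * ⁅b, a⁆ ^ n.choose 2) := by rw [hc]; simp only [mul_assoc]
      _ = _ := by
          rw [hb, hc n (a * b ^ n)]
          simp only [mul_assoc]
          rw [← mul_assoc (⁅b, a⁆ ^ n) b, hc n b, mul_assoc b (⁅b, a⁆ ^ n), ← pow_add, ← mul_assoc (b ^ n) b,
            ← pow_succ, ← mul_assoc (a ^ n) a, ← pow_succ, Nat.choose_succ_succ, Nat.choose_one_right]

end Class2

/-- A transvection-like automorphism: `g ↦ g * x ^ e(g)` corrected, where `⁅g, x⁆ = d ^ e(g)`. -/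
theorem exists_transvection {p : ℕ} [hp : Fact p.Prime] (hcl : ∀ a b : G, ⁅a, b⁆ ∈ center G) {x d : G}
    (hd : d ^ p = 1) (hd1 : d ≠ 1) (hdc : d ∈ center G) (hx : ∀ g : G, ⁅g, x⁆ ∈ zpowers d)
    (hxp : x ^ p = d ^ (p.choose 2)) :
    ∃ α : MulAut G, (∀ g, ⁅g, x⁆ = 1 → α g = g) ∧ ∀ g, ⁅g, x⁆ ≠ 1 →
      ∃ v, α g = g * v ∧ α v = v ∧ v ^ p ∈ zpowers d ∧ (x ∉ center G → v ∉ zpowers d) := by
  choose e he using fun g => (isOfFinOrder_of_finite _).mem_powers_iff_mem_zpowers.2 (hx g)
  have he' : ∀ g, d ^ e g = ⁅g, x⁆ := he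
  let ψ : ℕ → G := fun i => x ^ i * (d ^ (i.choose 2))⁻¹
  have hdC : ∀ (i : ℕ) (w : G), Commute w (d ^ i)⁻¹ := fun i w => mem_center_iff.1 (inv_mem (pow_mem hdc i)) w
  have hadd : ∀ i j : ℕ, ψ (i + j) = ψ i * ψ j * (d ^ (i * j))⁻¹ := by
    intro i j
    have hch : (i + j).choose 2 = i.choose 2 + j.choose 2 + i * j := by
      rw [Nat.add_choose_eq, Finset.Nat.sum_antidiagonal_eq_sum_range_succ (fun a b => i.choose a * j.choose b)]
      simp [Finset.sum_range_succ]
      ring
    simp only [ψ]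
    rw [hch, pow_add, pow_add (a := d), pow_add (a := d), mul_inv_rev, mul_inv_rev, mul_assoc (x ^ i) ((d ^ i.choose 2)⁻¹),
      ← mul_assoc ((d ^ i.choose 2)⁻¹) (x ^ j), ← (hdC (i.choose 2) (x ^ j)).eq]
    simp only [mul_assoc]
    congr 2
    rw [← mul_inv_rev, ← mul_inv_rev, ← mul_inv_rev, ← mul_inv_rev, ← pow_add, ← pow_add, ← pow_add, ← pow_add]
    congr 2
    ring
  have hper : ∀ i, ψ (i + p) = ψ i := fun i => by
    rw [hadd, show i * p = p * i by ring, pow_mul, hd, one_pow, inv_one, mul_one]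
    simp only [ψ, hxp, mul_inv_cancel, mul_one]
  have hmod : ∀ i, ψ i = ψ (i % p) := fun i => by
    conv_lhs => rw [← Nat.mod_add_div i p]
    induction i / p with
    | zero => simp
    | succ k ih => rw [Nat.mul_succ, ← add_assoc, hper, ih]
  have hed : ∀ i j : ℕ, d ^ i = d ^ j → ψ i = ψ j := fun i j h => by
    rw [pow_eq_pow_iff_modEq, orderOf_eq_prime hd hd1] at h
    rw [hmod i, hmod j, show i % p = j % p from h]
  have hxh : ∀ (i : ℕ) (w : G), x ^ i * w = (d ^ (e w * i))⁻¹ * (w * x ^ i) := fun i w => by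
    rw [pow_mul, he', ← comm_pow_right hcl, commutatorElement_def]
    group
  have hψh : ∀ (i : ℕ) (w : G), ψ i * w = (d ^ (e w * i))⁻¹ * (w * ψ i) := fun i w => by
    simp only [ψ]
    rw [mul_assoc, ← (hdC _ w).eq, ← mul_assoc, hxh, mul_assoc, mul_assoc]
  have heq : ∀ a b, ψ (e (a * b)) = ψ (e a + e b) := fun a b => hed _ _ (by
    rw [pow_add, he', he', he', comm_mul_left hcl])
  let f : G →* G := MonoidHom.mk' (fun g => g * ψ (e g)) fun a b => by
    rw [heq, hadd, show a * ψ (e a) * (b * ψ (e b)) = a * (ψ (e a) * b) * ψ (e b) by simp only [mul_assoc], hψh (e a) b,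
      mul_comm (e b) (e a)]
    simp only [mul_assoc]
    congr 1
    rw [← (hdC (e a * e b) (b * (ψ (e a) * ψ (e b)))).eq]
    simp only [mul_assoc]
  have hψ0 : ψ 0 = 1 := by simp [ψ]
  have hfix : ∀ g, ⁅g, x⁆ = 1 → f g = g := fun g hg => by
    show g * ψ (e g) = g
    rw [hed (e g) 0 (by rw [he', hg, pow_zero]), hψ0, mul_one]
  have hψx : ∀ i, ⁅ψ i, x⁆ = 1 := fun i => by
    simp only [ψ]
    rw [comm_mul_left hcl, commutatorElement_eq_one_iff_mul_comm.2 ((Commute.refl x).pow_left i).eq, one_mul,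
      commutatorElement_eq_one_iff_mul_comm]
    exact (mem_center_iff.1 (inv_mem (pow_mem hdc _)) x).symm
  have hinj : Function.Injective f := (injective_iff_map_eq_one f).2 fun g hg => by
    have h1 : g * ψ (e g) = 1 := hg
    have h2 : ⁅g, x⁆ = 1 := by
      have h3 := comm_mul_left hcl g (ψ (e g)) x
      rwa [h1, hψx, mul_one, commutatorElement_one_left, eq_comm] at h3
    rwa [hfix g h2] at hg
  refine ⟨MulEquiv.ofBijective f (Finite.injective_iff_bijective.1 hinj), hfix,
    fun g hg => ⟨ψ (e g), rfl, hfix _ (hψx _), ?_, fun hxZ hm => ?_⟩⟩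
  · simp only [ψ]
    rw [(hdC _ (x ^ e g)).mul_pow, ← pow_mul, mul_comm (e g) p, pow_mul, hxp]
    exact mul_mem (pow_mem (pow_mem (mem_zpowers d) _) _) (pow_mem (inv_mem (pow_mem (mem_zpowers d) _)) _)
  · have hndvd : ¬ p ∣ e g := fun hdvd => hg (by
      obtain ⟨q, hq⟩ := hdvd
      rw [← he', hq, pow_mul, hd, one_pow])
    have h1 : x ^ e g ∈ center G := by
      have := mul_mem hm (pow_mem (mem_zpowers d) ((e g).choose 2))
      rw [inv_mul_cancel_right] at this
      exact zpowers_le.2 hdc this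
    have h2 : x ^ p ∈ center G := hxp ▸ pow_mem hdc _
    obtain ⟨l, -, hl⟩ := Nat.exists_mul_mod_eq_one_of_coprime (k := p) (n := e g)
      ((hp.out.coprime_iff_not_dvd.2 hndvd).symm) hp.out.one_lt
    refine hxZ ?_
    have := pow_mem h1 l
    rw [← pow_mul, ← Nat.mod_add_div (e g * l) p, hl, pow_add, pow_one, pow_mul] at this
    have h3 := mul_mem this (inv_mem (pow_mem h2 (e g * l / p)))
    rwa [mul_inv_cancel_right] at h3

/-- The case of class two with elementary central quotient. -/
theorem class_two {p : ℕ} [hp : Fact p.Prime] (hmin : p = (Nat.card G).minFac) (hcl : ∀ a b : G, ⁅a, b⁆ ∈ center G)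
    (hexp : ∀ a b : G, ⁅a, b⁆ ^ p = 1) (hna : ∃ a b : G, ⁅a, b⁆ ≠ 1) (hk : p ^ 2 ≤ (center G).index) :
    Nat.card (MulAction.orbitRel.Quotient (MulAut G) G) * p ≤ Nat.card G := by
  have hpow : ∀ g : G, g ^ p ∈ center G := fun g => mem_center_iff.2 fun a => by
    rw [← commutatorElement_eq_one_iff_mul_comm, comm_pow_right hcl, hexp]
  have hbig := big_sq hp.out.two_le hk
  have hlt : p < p ^ 2 := by
    have := hp.out.two_le
    nlinarith
  by_cases hA : ∃ z ∈ center G, z ^ p = 1 ∧ z ≠ 1 ∧ ∃ a b : G, ⁅a, b⁆ ∉ zpowers z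
  · obtain ⟨z, hzc, hzp, hz1, a₀, b₀, hab⟩ := hA
    let Zz : Subgroup G :=
      { carrier := {g | ∀ w, ⁅g, w⁆ ∈ zpowers z}
        one_mem' := fun w => by rw [commutatorElement_one_left]; exact one_mem _
        mul_mem' := fun {u u'} hu hu' w => by rw [comm_mul_left hcl]; exact mul_mem (hu w) (hu' w)
        inv_mem' := fun {u} hu w => by
          have h := comm_mul_left hcl u u⁻¹ w
          rw [mul_inv_cancel, commutatorElement_one_left] at h
          rw [eq_inv_of_mul_eq_one_right h.symm]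
          exact inv_mem (hu w) }
    have hZz : Zz ≠ ⊤ := fun h => hab (h.ge (mem_top a₀) b₀)
    obtain ⟨M, hM, hZM⟩ := (eq_top_or_exists_le_coatom Zz).resolve_left hZz
    have hZ : center G ≤ M := le_trans (show center G ≤ Zz from fun g hg w => by
      rw [commutatorElement_eq_one_iff_mul_comm.2 (mem_center_iff.1 hg w).symm]; exact one_mem _) hZM
    have hMn : M.Normal := Normal.of_commutator_le G (by
      rw [commutator_eq_closure, closure_le]
      rintro _ ⟨a, b, rfl⟩
      exact hZ (hcl a b))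
    obtain ⟨y, -, hy⟩ := SetLike.exists_of_lt (lt_top_iff_ne_top.2 hM.1)
    have hMc : Nat.card G = Nat.card M * p := by
      have h := PGroup.card_sup_zpowers (p := p) M hy (hZ (hpow y))
      rwa [hM.2 _ (left_lt_sup.2 fun h' => hy (h' (mem_zpowers y))), card_top] at h
    have hidx : Nat.card (G ⧸ M) = p := by
      rw [card_eq_card_quotient_mul_card_subgroup M, mul_comm] at hMc
      exact Nat.eq_of_mul_eq_mul_left Nat.card_pos hMc
    have hzord : Nat.card (zpowers z) = p := by rw [Nat.card_zpowers, orderOf_eq_prime hzp hz1]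
    let φ : G →* zpowers z := (mulEquivOfPrimeCardEq hidx hzord).toMonoidHom.comp (QuotientGroup.mk' M)
    have hφker : ∀ g, φ g = 1 ↔ g ∈ M := fun g => by simp [φ]
    have hφc : ∀ g, (φ g : G) ∈ center G := fun g => zpowers_le.2 hzc (φ g).2
    let f : G →* G := MonoidHom.mk' (fun g => g * φ g) fun u w => by
      rw [map_mul, Subgroup.coe_mul, mul_assoc u (φ u : G), ← mul_assoc (φ u : G) w,
        ← mem_center_iff.1 (hφc u) w]
      simp only [mul_assoc]
    have hfix : ∀ g ∈ M, f g = g := fun g hg => by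
      show g * (φ g : G) = g
      rw [(hφker g).2 hg, OneMemClass.coe_one, mul_one]
    have hinj : Function.Injective f := (injective_iff_map_eq_one f).2 fun g hg => by
      have h1 : g * (φ g : G) = 1 := hg
      have h2 : g ∈ M := by rw [eq_inv_of_mul_eq_one_left h1]; exact inv_mem (hZ (hφc g))
      rwa [hfix g h2] at hg
    let α : MulAut G := MulEquiv.ofBijective f (Finite.injective_iff_bijective.1 hinj)
    refine bound hp.out hmin hlt M hM.1 hZ (fun g hg => ?_) hbig
    obtain ⟨w, hw⟩ : ∃ w, ⁅g, w⁆ ∉ zpowers z := by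
      by_contra h
      push Not at h
      exact hg (hZM h)
    have hw' : ⁅w, g⁆ ∉ zpowers z := fun h => hw (by rw [← commutatorElement_inv]; exact inv_mem h)
    have hvp : (φ g : G) ^ p = 1 := by
      rw [← Subgroup.coe_pow, ← hzord, pow_card_eq_one', OneMemClass.coe_one]
    refine sq_le_orbit α (a := w) rfl (hcl w g) (hexp w g) (fun h => hw' (h ▸ one_mem _)) (hfix _ (hZ (hcl w g)))
      (hfix _ (hZ (hφc g))) rfl (fun hmem => hw' ?_) (by rw [hvp]; exact one_mem _)
    -- two lines of order `p`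
    have hv1 : (φ g : G) ≠ 1 := fun h => hg ((hφker g).1 (Subtype.ext h))
    have e1 : zpowers (φ g : G) = zpowers ⁅w, g⁆ := eq_of_le_of_card_ge (zpowers_le.2 hmem) (by
      rw [Nat.card_zpowers, Nat.card_zpowers, orderOf_eq_prime hvp hv1,
        orderOf_eq_prime (hexp w g) (fun h => hw' (h ▸ one_mem _))])
    exact zpowers_le.2 (φ g).2 (e1.ge (mem_zpowers _))
  push Not at hA
  obtain ⟨a, b, hab⟩ := hna
  set c := ⁅b, a⁆ with hc
  have hc1 : c ≠ 1 := fun h => hab (by rw [← commutatorElement_inv, ← hc, h, inv_one])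
  have hall : ∀ u w : G, ⁅u, w⁆ ∈ zpowers c := hA c (hcl b a) (hexp b a) hc1
  -- the `p`-th power map of the centre has a kernel of order `p`
  let π : center G →* center G := MonoidHom.mk' (fun w => w ^ p) fun u w =>
    (show Commute u w from Subtype.ext (mem_center_iff.1 w.2 u)).mul_pow p
  have hker : π.ker ≤ (zpowers c).subgroupOf (center G) := fun w hw => by
    rw [mem_subgroupOf]
    by_cases hw1 : (w : G) = 1
    · rw [hw1]; exact one_mem _
    have hwp : (w : G) ^ p = 1 := congrArg Subtype.val (show w ^ p = 1 from hw)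
    have e1 : zpowers c = zpowers (w : G) := eq_of_le_of_card_ge
      (zpowers_le.2 (hA w w.2 hwp hw1 b a)) (by
        rw [Nat.card_zpowers, Nat.card_zpowers, orderOf_eq_prime hwp hw1, orderOf_eq_prime (hexp b a) hc1])
    exact e1.ge (mem_zpowers _)
  have hidx : π.range.index ≤ p := by
    have h1 := card_mul_index π.ker
    rw [index_ker, ← card_mul_index π.range, mul_comm] at h1
    have h2 : π.range.index = Nat.card π.ker := (Nat.eq_of_mul_eq_mul_left Nat.card_pos h1).symm
    rw [h2]
    refine le_trans (Nat.le_of_dvd Nat.card_pos (card_dvd_of_le hker)) ?_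
    rw [Nat.card_congr (subgroupOfEquivOfLe (zpowers_le.2 (hcl b a))).toEquiv, Nat.card_zpowers,
      orderOf_eq_prime (hexp b a) hc1]
  let Q := center G ⧸ π.range
  have hQ : Nat.card Q ≤ p := hidx
  let sh : G → Q := fun g => ((⟨g ^ p, hpow g⟩ : center G) : Q)
  -- the target coset and an element in it
  set t : Q := ((⟨c ^ (p.choose 2), pow_mem (hcl b a) _⟩ : center G) : Q) with ht
  have hsq : ∀ u w : G, sh (u * w) = sh u * sh w * ((⟨⁅w, u⁆ ^ (p.choose 2), pow_mem (hcl w u) _⟩ : center G) : Q) :=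
    fun u w => congrArg (QuotientGroup.mk' π.range) (Subtype.ext (mul_pow_class2 hcl u w p))
  obtain ⟨x₀, hx₀, hx₀Z⟩ : ∃ x₀, sh x₀ = t ∧ x₀ ∉ center G := by
    have haZ : a ∉ center G := fun h => hab (commutatorElement_eq_one_iff_mul_comm.2 (mem_center_iff.1 h b).symm)
    have hbZ : b ∉ center G := fun h => hab (commutatorElement_eq_one_iff_mul_comm.2 (mem_center_iff.1 h a))
    by_cases h1 : sh a = t
    · exact ⟨a, h1, haZ⟩
    by_cases hp2 : p = 2
    · by_cases h2 : sh b = t
      · exact ⟨b, h2, hbZ⟩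
      refine ⟨a * b, ?_, fun h => hab ?_⟩
      · have hQ2 : Nat.card Q ≤ 2 := hp2 ▸ hQ
        have heq : sh a = sh b := by
          by_contra hne
          haveI := Fintype.ofFinite Q
          classical
          have h3 := Finset.card_le_univ ({sh a, sh b, t} : Finset Q)
          rw [Finset.card_insert_of_notMem (by simp [hne, h1]), Finset.card_pair h2,
            ← Nat.card_eq_fintype_card] at h3
          omega
        rw [hsq, heq, show sh b * sh b = 1 from ?_, one_mul]
        refine (QuotientGroup.eq_one_iff _).2 ?_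
        exact ⟨⟨b ^ p, hpow b⟩, by subst hp2; exact sq _⟩
      · have := comm_mul_left hcl a b b
        rwa [commutatorElement_eq_one_iff_mul_comm.2 (mem_center_iff.1 h b).symm, commutatorElement_self, mul_one,
          eq_comm] at this
    · -- `p` odd: the target is `1`
      have hdvd : p ∣ p.choose 2 := hp.out.dvd_choose_self (by norm_num)
        (by have := hp.out.two_le; omega)
      have hone : ∀ u w : G, ((⟨⁅u, w⁆ ^ (p.choose 2), pow_mem (hcl u w) _⟩ : center G) : Q) = 1 := fun u w => by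
        obtain ⟨q, hq⟩ := hdvd
        rw [show (⟨⁅u, w⁆ ^ (p.choose 2), pow_mem (hcl u w) _⟩ : center G) = 1 from
          Subtype.ext (show ⁅u, w⁆ ^ (p.choose 2) = 1 by rw [hq, pow_mul, hexp, one_pow]), QuotientGroup.mk_one]
      have ht1 : t = 1 := hone b a
      have hshp : ∀ i : ℕ, sh (a ^ i) = sh a ^ i := fun i => by
        show _ = ((⟨a ^ p, hpow a⟩ : center G) : Q) ^ i
        rw [← QuotientGroup.mk_pow]
        refine congrArg _ (Subtype.ext ?_)
        show (a ^ i) ^ p = (a ^ p) ^ i
        rw [← pow_mul, ← pow_mul, mul_comm]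
      obtain ⟨i, hi⟩ : ∃ i : ℕ, sh a ^ i = (sh b)⁻¹ := by
        have hord : orderOf (sh a) = p := by
          refine orderOf_eq_prime ((QuotientGroup.eq_one_iff _).2 ⟨⟨a ^ p, hpow a⟩, rfl⟩) (ht1 ▸ h1)
        have htop : zpowers (sh a) = ⊤ := eq_top_of_card_eq _ (le_antisymm (Subgroup.card_le_card_group _)
          (by rw [Nat.card_zpowers, hord]; exact hQ))
        exact (isOfFinOrder_of_finite _).mem_powers_iff_mem_zpowers.2 (htop ▸ mem_top _)
      refine ⟨b * a ^ i, ?_, fun h => hab ?_⟩
      · rw [hsq, hshp, hi, mul_inv_cancel, one_mul, hone, ht1]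
      · have := comm_mul_right hcl a b (a ^ i)
        rwa [commutatorElement_eq_one_iff_mul_comm.2 (mem_center_iff.1 h a), comm_pow_right hcl,
          commutatorElement_self, one_pow, mul_one, eq_comm] at this
  obtain ⟨⟨w, hw⟩, hwe⟩ := QuotientGroup.eq.1 hx₀
  set x := x₀ * w with hx
  have hxZ : x ∉ center G := fun h => hx₀Z (by simpa [hx] using mul_mem h (inv_mem hw))
  have hxp : x ^ p = c ^ (p.choose 2) := by
    have h := congrArg Subtype.val hwe
    rw [hx, (show Commute x₀ w from mem_center_iff.1 hw x₀).mul_pow]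
    simp only [π, MonoidHom.mk'_apply, Subgroup.coe_pow, Subgroup.coe_mul, Subgroup.coe_inv] at h
    rw [h, mul_inv_cancel_left]
  obtain ⟨α, hfix, hmove⟩ := exists_transvection hcl (hexp b a) hc1 (hcl b a) (fun g => hall g x) hxp
  have hM : centralizer ({x} : Set G) ≠ ⊤ := fun h => hxZ (mem_center_iff.2 fun g =>
    mem_centralizer_singleton_iff.1 (h.ge (mem_top g)))
  refine bound hp.out hmin hlt _ hM (Subgroup.center_le_centralizer _) (fun g hg => ?_) hbig
  have hgx : ⁅g, x⁆ ≠ 1 := fun h => hg (mem_centralizer_singleton_iff.2 (commutatorElement_eq_one_iff_mul_comm.1 h))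
  obtain ⟨v, hv, hvv, hvp, hvn⟩ := hmove g hgx
  have hxg : ⁅x, g⁆ ≠ 1 := fun h => hgx (by rw [← commutatorElement_inv, h, inv_one])
  have e1 : zpowers ⁅x, g⁆ = zpowers c := eq_of_le_of_card_ge (zpowers_le.2 (hall x g)) (by
    rw [Nat.card_zpowers, Nat.card_zpowers, orderOf_eq_prime (hexp x g) hxg, orderOf_eq_prime (hexp b a) hc1])
  exact sq_le_orbit α (a := x) rfl (hcl x g) (hexp x g) hxg
    (hfix _ (commutatorElement_eq_one_iff_mul_comm.2 (mem_center_iff.1 (hcl x g) x).symm))
    hvv hv (e1 ▸ hvn hxZ) (e1 ▸ hvp)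

theorem main (hna : ¬ IsMulCommutative G) :
    Nat.card (MulAction.orbitRel.Quotient (MulAut G) G) * (Nat.card G).minFac ≤ Nat.card G := by
  set p := (Nat.card G).minFac with hpdef
  obtain ⟨a, b, hab⟩ : ∃ a b : G, a * b ≠ b * a := by
    by_contra h
    push Not at h
    exact hna ⟨⟨h⟩⟩
  have hn1 : Nat.card G ≠ 1 := fun h => hab (by
    haveI := (Nat.card_eq_one_iff_unique.1 h).1
    exact Subsingleton.elim _ _)
  have hp : p.Prime := Nat.minFac_prime hn1
  haveI := Fact.mk hp
  set k := (center G).index with hk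
  have hk1 : k ≠ 1 := fun h => hab ((mem_center_iff.1 ((index_eq_one.1 h).ge (mem_top b)) a))
  have hkp : ¬ k.Prime := fun h => hna (by
    haveI : Fact k.Prime := ⟨h⟩
    haveI : IsCyclic (G ⧸ center G) := isCyclic_of_prime_card (index_eq_card _).symm
    exact ⟨⟨commutative_of_cyclic_center_quotient (QuotientGroup.mk' (center G)) (QuotientGroup.ker_mk' _).le⟩⟩)
  have hk0 : k ≠ 0 := index_ne_zero_of_finite
  have hprimes : ∀ d, d ∣ k → d ≠ 1 → p ≤ d := fun d hd hd1 =>
    Nat.minFac_le_of_dvd (by have : d ≠ 0 := fun h => hk0 (by simpa [h] using hd); omega)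
      (hd.trans (index_dvd_card _))
  have hkk : ∀ q, q.Prime → q ∣ k → q * p ≤ k := fun q hq hd => by
    obtain ⟨r, hr⟩ := hd
    refine hr ▸ Nat.mul_le_mul_left q (hprimes r ⟨q, by rw [hr, mul_comm]⟩ fun h => hkp ?_)
    rw [hr, h, mul_one]; exact hq
  have hksq : p ^ 2 ≤ k := by
    rw [sq]
    exact le_trans (Nat.mul_le_mul_right p (hprimes _ (Nat.minFac_dvd k) (Nat.minFac_prime hk1).ne_one))
      (hkk _ (Nat.minFac_prime hk1) (Nat.minFac_dvd k))
  let B : Set G := {g | (centralizer ({g} : Set G)).index ≤ p}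
  have hBZ : ∀ g ∈ center G, g ∈ B := fun g hg => by
    have : centralizer ({g} : Set G) = ⊤ := top_le_iff.1 fun w _ =>
      mem_centralizer_singleton_iff.2 (mem_center_iff.1 hg w)
    show (centralizer ({g} : Set G)).index ≤ p
    rw [this, index_top]
    exact hp.one_le
  by_cases hB : closure B = ⊤
  · -- generated by elements with classes of size at most `p`
    have hCn : ∀ g ∈ B, (centralizer ({g} : Set G)).Normal ∧
        ∀ w, w ^ p ∈ centralizer ({g} : Set G) := by
      intro g hg
      by_cases hgZ : g ∈ center G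
      · have : centralizer ({g} : Set G) = ⊤ := top_le_iff.1 fun w _ =>
          mem_centralizer_singleton_iff.2 (mem_center_iff.1 hgZ w)
        rw [this]
        exact ⟨inferInstance, fun _ => mem_top _⟩
      have h1 : (centralizer ({g} : Set G)).index ≠ 1 := fun h => hgZ (mem_center_iff.2 fun w =>
        mem_centralizer_singleton_iff.1 ((index_eq_one.1 h).ge (mem_top w)))
      have h0 : (centralizer ({g} : Set G)).index ≠ 0 := index_ne_zero_of_finite
      have hi : (centralizer ({g} : Set G)).index = p :=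
        le_antisymm hg (Nat.minFac_le_of_dvd (by omega) (index_dvd_card _))
      haveI hn := normal_of_index_eq_minFac_card hi
      exact ⟨hn, fun w => hi ▸ pow_index_mem _ w⟩
    have hcl : ∀ u w : G, ⁅u, w⁆ ∈ center G := fun u w => by
      have hle : closure B ≤ centralizer ({⁅u, w⁆} : Set G) := by
        refine (closure_le _).2 fun g hg => ?_
        obtain ⟨hn, -⟩ := hCn g hg
        by_cases hgZ : g ∈ center G
        · exact mem_centralizer_singleton_iff.2 (mem_center_iff.1 hgZ _).symm
        have h1 : (centralizer ({g} : Set G)).index ≠ 1 := fun h => hgZ (mem_center_iff.2 fun w =>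
          mem_centralizer_singleton_iff.1 ((index_eq_one.1 h).ge (mem_top w)))
        have h0 : (centralizer ({g} : Set G)).index ≠ 0 := index_ne_zero_of_finite
        haveI : IsCyclic (G ⧸ centralizer ({g} : Set G)) := isCyclic_of_prime_card (p := p) (by
          rw [← index_eq_card]
          exact le_antisymm hg (Nat.minFac_le_of_dvd (by omega) (index_dvd_card _)))
        have h2 : ⁅u, w⁆ ∈ centralizer ({g} : Set G) := by
          rw [← QuotientGroup.eq_one_iff, ← QuotientGroup.mk'_apply, map_commutatorElement,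
            commutatorElement_eq_one_iff_mul_comm]
          exact (IsCyclic.isMulCommutative (α := G ⧸ centralizer ({g} : Set G))).is_comm.comm _ _
        exact mem_centralizer_singleton_iff.2 (mem_centralizer_singleton_iff.1 h2).symm
      rw [hB] at hle
      exact mem_center_iff.2 fun g => mem_centralizer_singleton_iff.1 (hle (mem_top g))
    have hexp : ∀ u w : G, ⁅u, w⁆ ^ p = 1 := fun u w => by
      let H : Subgroup G :=
        { carrier := {g | ⁅g, w⁆ ^ p = 1}
          one_mem' := by show ⁅(1 : G), w⁆ ^ p = 1; rw [commutatorElement_one_left, one_pow]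
          mul_mem' := fun {v v'} hv hv' => by
            show ⁅v * v', w⁆ ^ p = 1
            rw [comm_mul_left hcl, (show Commute ⁅v, w⁆ ⁅v', w⁆ from mem_center_iff.1 (hcl v' w) _).mul_pow]
            rw [show ⁅v, w⁆ ^ p = 1 from hv, show ⁅v', w⁆ ^ p = 1 from hv', mul_one]
          inv_mem' := fun {v} hv => by
            show ⁅v⁻¹, w⁆ ^ p = 1
            have h := comm_mul_left hcl v v⁻¹ w
            rw [mul_inv_cancel, commutatorElement_one_left] at h
            rw [eq_inv_of_mul_eq_one_right h.symm, inv_pow, show ⁅v, w⁆ ^ p = 1 from hv, inv_one] }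
      have hle : closure B ≤ H := (closure_le _).2 fun g hg => by
        show ⁅g, w⁆ ^ p = 1
        rw [← comm_pow_right hcl, commutatorElement_eq_one_iff_mul_comm]
        exact (mem_centralizer_singleton_iff.1 ((hCn g hg).2 w)).symm
      exact (hB ▸ hle) (mem_top u)
    exact class_two rfl hcl hexp ⟨a, b, fun h => hab (commutatorElement_eq_one_iff_mul_comm.1 h)⟩ hksq
  · have hlow : ∀ g, g ∉ closure B → p + 1 ≤ (centralizer ({g} : Set G)).index := fun g hg =>
      Nat.lt_of_not_le fun h => hg (subset_closure h)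
    by_cases hq : ∃ q, q.Prime ∧ q ∣ k ∧ q ≠ p
    · obtain ⟨q, hq, hqk, hqp⟩ := hq
      refine bound hp rfl (m := p + 1) (by omega) (closure B) hB (fun g hg => subset_closure (hBZ g hg))
        (fun g hg => (hlow g hg).trans (index_centralizer_le g)) ?_
      have h1 : p + 1 ≤ q := by
        have := hprimes q hqk hq.ne_one
        omega
      have h2 := (Nat.mul_le_mul_right p h1).trans (hkk q hq hqk)
      nlinarith
    · push Not at hq
      refine bound hp rfl (m := p ^ 2) (by have := hp.two_le; nlinarith) (closure B) hB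
        (fun g hg => subset_closure (hBZ g hg)) (fun g hg => le_trans ?_ (index_centralizer_le g)) ?_
      · have hd : (centralizer ({g} : Set G)).index ∣ k := index_dvd_of_le (center_le_centralizer _)
        have hlo := hlow g hg
        have hne : (centralizer ({g} : Set G)).index ≠ 1 := by have := hp.two_le; omega
        obtain ⟨r, hr⟩ : p ∣ (centralizer ({g} : Set G)).index :=
          hq _ (Nat.minFac_prime hne) ((Nat.minFac_dvd _).trans hd) ▸ Nat.minFac_dvd _
        rw [hr, sq]
        refine Nat.mul_le_mul_left p (hprimes r ((Dvd.intro_left p hr.symm).trans hd) fun h => ?_)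
        rw [hr, h, mul_one] at hlo
        omega
      · exact big_sq hp.two_le hksq

/-- Let G be a finite non-abelian group and p the least prime dividing its order. Then the automorphism group of G has at most #G/p orbits on G. -/
theorem result {G : Type*} [Group G] [Finite G] (hna : ¬ IsMulCommutative G) :
    Nat.card (MulAction.orbitRel.Quotient (MulAut G) G) ≤ Nat.card G / (Nat.card G).minFac := by
  rw [Nat.le_div_iff_mul_le (Nat.minFac_pos _)]
  exact main hna

end Cfsg.Agent.S4067
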