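import Cfsg.Statements.S4070
import Cfsg.Agent.Lib.StabilizerLength.Odd
-- import your own Cfsg.Agent.* helpers here

set_option autoImplicit false
open Cfsg

namespace Cfsg.Agent.S4070

/-- Let G be a finite solvable group acting faithfully by additive automorphisms on a finite vector space V over the field with p elements, completely reducibly (every G-invariant subspace has a G-invariant complement). Then some vector v ∈ V has stabilizer C_G(v) of derived length at most 9; and if both #G and p are odd, some vector has abelian stabilizer. -/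
theorem result {G V : Type*} [Group G] [Finite G] [Group.IsSolvable G]
    {p : ℕ} [Fact p.Prime] [AddCommGroup V] [Module (ZMod p) V] [Finite V] [DistribMulAction G V] [FaithfulSMul G V]
    (hcr : ∀ W : Submodule (ZMod p) V, (∀ (g : G) (w : V), w ∈ W → g • w ∈ W) →
      ∃ W' : Submodule (ZMod p) V, (∀ (g : G) (w : V), w ∈ W' → g • w ∈ W') ∧ IsCompl W W') :
    (∃ v : V, derivedSeries ↥(MulAction.stabilizer G v) 9 = ⊥) ∧
    (Odd (Nat.card G) → p ≠ 2 → ∃ v : V, IsMulCommutative ↥(MulAction.stabilizer G v)) := by
  have hcr' : Cfsg.Agent.OddBaseTwo.IsCR G V := fun U hU => by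
    obtain ⟨W', hW', hc⟩ := hcr (AddSubgroup.toZModSubmodule p U) fun g w hw => hU g w hw
    refine ⟨W'.toAddSubgroup, fun g w hw => hW' g w hw, ?_, ?_⟩
    · rw [eq_bot_iff]
      intro x hx
      exact (Submodule.mem_bot (R := ZMod p)).1 (hc.inf_eq_bot.le (show x ∈ AddSubgroup.toZModSubmodule p U ⊓ W' from hx))
    · rw [eq_top_iff]
      intro x _
      obtain ⟨a, ha, b, hb, rfl⟩ := Submodule.mem_sup.1 (hc.sup_eq_top.ge (Submodule.mem_top (x := x)))
      exact AddSubgroup.add_mem _ (AddSubgroup.mem_sup_left ha) (AddSubgroup.mem_sup_right hb)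
  refine ⟨Cfsg.Agent.StabilizerLength.exists_dl_nine inferInstance hcr', fun hodd hp => ?_⟩
  refine Cfsg.Agent.StabilizerLength.exists_abelian_stabilizer inferInstance hodd ?_ hcr'
  rw [Module.natCard_eq_pow_finrank (K := ZMod p), Nat.card_zmod]
  exact ((Fact.out : p.Prime).odd_of_ne_two hp).pow

end Cfsg.Agent.S4070
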