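import Cfsg.Statements.S4071
import Cfsg.Agent.Lib.SelfNormNonabelian.Basic
import Cfsg.Agent.Lib.SelfNormNonabelian.Solvable
-- import your own Cfsg.Agent.* helpers here

set_option autoImplicit false
open Cfsg

namespace Cfsg.Agent.S4071

open Subgroup
open scoped Pointwise
open scoped commutatorElement
open Cfsg.Agent.SelfNormNonabelian

theorem forward {G : Type*} [Group G] [Finite G] [Group.IsSolvable G] (hnn : ¬ Group.IsNilpotent G)
    (hS : SelfNorm G) :
    ∃ (x : G) (A : Subgroup G) (p : ℕ), p.Prime ∧ A.Normal ∧ IsMulCommutative A ∧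
      (∃ k : ℕ, orderOf x = p ^ k) ∧
      ¬ p ∣ Nat.card A ∧ (Subgroup.zpowers x).IsComplement' A ∧ x ^ p ∈ Subgroup.center G ∧
      ∀ a : G, a ∈ A → a ≠ 1 → x * a * x⁻¹ ≠ a := by
  haveI : Nontrivial G := not_subsingleton_iff_nontrivial.1 fun h => hnn inferInstance
  obtain ⟨M, hMn, hMidx, hMco⟩ := exists_maximal_normal (G := G)
  set p := M.index with hpdef
  haveI : Fact p.Prime := ⟨hMidx⟩
  have hp : p.Prime := hMidx
  have hMne : M ≠ ⊤ := hMco.1
  have hM : IsMulCommutative M := normal_abelian hS hMn hMne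
  have hpdvd : p ∣ Nat.card G := index_dvd_card M
  set s := (Nat.card G).factorization p with hsdef
  set r := Nat.card G / p ^ s with hrdef
  have hsr : p ^ s * r = Nat.card G := Nat.ordProj_mul_ordCompl_eq_self _ _
  have hpr : ¬ p ∣ r := Nat.not_dvd_ordCompl hp Nat.card_pos.ne'
  have hcop : Nat.Coprime (p ^ s) r := (hp.coprime_iff_not_dvd.2 hpr).pow_left _
  have powmem : ∀ n : ℕ, ∀ g : G, ∀ m ∈ M, m ^ n = 1 → (g * m * g⁻¹) ^ n = 1 := by
    intro n g m _ h
    rw [conj_pow, h, mul_one, mul_inv_cancel]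
  let part : ℕ → Subgroup G := fun n =>
    { carrier := {m | m ∈ M ∧ m ^ n = 1}
      one_mem' := ⟨one_mem _, one_pow _⟩
      mul_mem' := fun {a b} ha hb => ⟨mul_mem ha.1 hb.1, by
        rw [(show Commute a b from comm_of_mem hM ha.1 hb.1).mul_pow, ha.2, hb.2, one_mul]⟩
      inv_mem' := fun {a} ha => ⟨inv_mem ha.1, by rw [inv_pow, ha.2, inv_one]⟩ }
  have partn : ∀ n, (part n).Normal := fun n =>
    ⟨fun m hm g => ⟨hMn.conj_mem m hm.1 g, powmem n g m hm.1 hm.2⟩⟩
  set A := part r with hAdef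
  set Q := part (p ^ s) with hQdef
  have hAn : A.Normal := partn r
  haveI hQn : Q.Normal := partn _
  have hAM : A ≤ M := fun m hm => hm.1
  have hA : IsMulCommutative A := isMulCommutative_of_le hAM hM
  have hpA : ¬ p ∣ Nat.card A := by
    intro h
    obtain ⟨a, ha⟩ := exists_prime_orderOf_dvd_card' p h
    refine hpr ?_
    rw [← ha, ← orderOf_coe]
    exact orderOf_dvd_of_pow_eq_one a.2.2
  have hQP : IsPGroup p Q := fun m => ⟨s, Subtype.ext m.2.2⟩
  have hsplit : ∀ m ∈ M, ∃ q ∈ Q, ∃ a ∈ A, m = q * a := by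
    intro m hm
    obtain ⟨u, v, huv⟩ : ∃ u v : ℤ, u * (r : ℤ) + v * ((p : ℤ) ^ s) = 1 := by
      have h := Nat.gcd_eq_gcd_ab r (p ^ s)
      rw [Nat.Coprime.gcd_eq_one hcop.symm, Nat.cast_one, Nat.cast_pow] at h
      exact ⟨Nat.gcdA r (p ^ s), Nat.gcdB r (p ^ s), by linarith [h]⟩
    have hcard : m ^ Nat.card G = 1 := pow_card_eq_one'
    have hq1 : m ^ r ∈ Q := ⟨pow_mem hm _, by rw [← pow_mul, mul_comm, hsr, hcard]⟩
    have hq2 : m ^ p ^ s ∈ A := ⟨pow_mem hm _, by rw [← pow_mul, hsr, hcard]⟩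
    refine ⟨(m ^ r) ^ u, zpow_mem hq1 _, (m ^ p ^ s) ^ v, zpow_mem hq2 _, ?_⟩
    · rw [← zpow_natCast m r, ← zpow_natCast m (p ^ s), ← zpow_mul, ← zpow_mul, ← zpow_add,
        Nat.cast_pow, mul_comm (r : ℤ), mul_comm ((p : ℤ) ^ s), huv, zpow_one]
  -- a `p`-element outside `M`
  obtain ⟨g, hg⟩ : ∃ g, g ∉ M := by
    by_contra h
    push Not at h
    exact hMne (eq_top_iff.2 fun x _ => h x)
  have hquot : ∀ g : G, g ^ p ∈ M := fun g => by
    rw [hpdef, index_eq_card, ← QuotientGroup.eq_one_iff, QuotientGroup.mk_pow]; exact pow_card_eq_one'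
  set x := g ^ r with hxdef
  have hxM : x ∉ M := by
    intro hx
    refine hg ?_
    have h1 : (g : G ⧸ M) ^ r = 1 := by
      rw [← QuotientGroup.mk_pow, QuotientGroup.eq_one_iff]; exact hx
    have h2 : (g : G ⧸ M) ^ p = 1 := by
      rw [← QuotientGroup.mk_pow, QuotientGroup.eq_one_iff]; exact hquot g
    exact (QuotientGroup.eq_one_iff g).1
      (orderOf_eq_one_iff.1 (Nat.eq_one_of_dvd_coprimes (hp.coprime_iff_not_dvd.2 hpr)
        (orderOf_dvd_of_pow_eq_one h2) (orderOf_dvd_of_pow_eq_one h1)))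
  have hxps : x ^ p ^ s = 1 := by rw [hxdef, ← pow_mul, mul_comm, hsr, pow_card_eq_one']
  have hgen : ∀ S : Subgroup G, M ≤ S → x ∈ S → S = ⊤ := fun S hMS hxS =>
    hMco.2 S (lt_of_le_of_ne hMS fun h => hxM (h ▸ hxS))
  have hxpZ : x ^ p ∈ center G := by
    have h : centralizer ({x ^ p} : Set G) = ⊤ := hgen _
      (fun m hm => mem_centralizer_singleton_iff.2 (comm_of_mem hM hm (hquot x)))
      (mem_centralizer_singleton_iff.2 ((Commute.refl x).pow_right p).eq)
    rw [mem_center_iff]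
    exact fun y => mem_centralizer_singleton_iff.1 (h.symm ▸ mem_top y)
  -- `⟨x⟩Q` is a `p`-group
  have hxP : IsPGroup p (zpowers x) := fun y => by
    obtain ⟨i, hi⟩ := mem_zpowers_iff.1 y.2
    exact ⟨s, Subtype.ext (by
      rw [coe_pow, coe_one, ← hi, ← zpow_natCast, ← zpow_mul, mul_comm, zpow_mul, zpow_natCast,
        hxps, one_zpow])⟩
  set P := zpowers x ⊔ Q with hPdef
  have hP : IsPGroup p P := hxP.to_sup_of_normal_right hQP
  have htop : ∀ g : G, g ∈ zpowers x ⊔ Q ⊔ A := by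
    have h : zpowers x ⊔ Q ⊔ A = ⊤ := hgen _ (fun m hm => by
      obtain ⟨q, hq, a, ha, rfl⟩ := hsplit m hm
      exact mul_mem (mem_sup_left (mem_sup_right hq)) (mem_sup_right ha))
      (mem_sup_left (mem_sup_left (mem_zpowers x)))
    exact fun g => h.symm ▸ mem_top g
  have hxA : x ∈ normalizer (A : Set G) := by
    rw [normalizer_eq_top_iff.2 hAn]; exact mem_top x
  have hordx : orderOf x ∣ p ^ s := orderOf_dvd_of_pow_eq_one hxps
  obtain ⟨k, -, hk⟩ := (Nat.dvd_prime_pow hp).1 hordx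
  have hco : (orderOf x).Coprime (Nat.card A) := by
    rw [hk]; exact (hp.coprime_iff_not_dvd.2 hpA).pow_left _
  -- `x` does not centralise `A`
  obtain ⟨a₀, ha₀, hne⟩ : ∃ a ∈ A, ⁅x, a⁆ ≠ 1 := by
    by_contra h
    push Not at h
    refine hnn ?_
    have hAZ : A ≤ center G := by
      intro a ha
      have ht : centralizer ({a} : Set G) = ⊤ := hgen _
        (fun m hm => mem_centralizer_singleton_iff.2 (comm_of_mem hM hm (hAM ha)))
        (mem_centralizer_singleton_iff.2 (commutatorElement_eq_one_iff_mul_comm.1 (h a ha)))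
      exact mem_center_iff.2 fun y => mem_centralizer_singleton_iff.1 (ht.symm ▸ mem_top y)
    have hq : IsPGroup p (G ⧸ center G) := by
      refine hP.of_surjective ((QuotientGroup.mk' (center G)).comp P.subtype) ?_
      intro y
      obtain ⟨y, rfl⟩ := QuotientGroup.mk_surjective y
      obtain ⟨u, hu, a, ha, rfl⟩ : ∃ u ∈ P, ∃ a ∈ A, u * a = y := by
        have h := htop y
        haveI := hAn
        rw [← SetLike.mem_coe, mul_normal] at h
        exact h
      refine ⟨⟨u, hu⟩, ?_⟩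
      show (u : G ⧸ center G) = ((u * a : G) : G ⧸ center G)
      rw [QuotientGroup.mk_mul, (QuotientGroup.eq_one_iff a).2 (hAZ ha), mul_one]
    haveI := hq.isNilpotent
    exact Group.of_quotient_center_nilpotent inferInstance
  set D := commRange A hA x hxA with hDdef
  set H := zpowers x ⊔ D with hHdef
  have hH : normalizer (H : Set G) = H :=
    hS H (not_isMulCommutative_sup hA hxA hco ha₀ hne)
  have hDA : D ≤ A := commRange_le hA hxA
  have hDn : ∀ y : G, y ∈ normalizer (D : Set G) := by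
    have h : normalizer (D : Set G) = ⊤ := hgen _ (fun m hm => mem_normalizer_iff.2 fun d => by
      constructor
      · intro hd
        rw [comm_of_mem hM hm (hAM (hDA hd)), mul_inv_cancel_right]; exact hd
      · intro hd
        have e := comm_of_mem hM hm (hAM (hDA hd))
        have : d = m * d * m⁻¹ := by
          have e2 : m * d * m⁻¹ * m = m * (m * d * m⁻¹) := e.symm
          rw [inv_mul_cancel_right] at e2
          exact mul_left_cancel e2
        rw [this]; exact hd) (conj_mem_commRange hA hxA)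
    exact fun y => h.symm ▸ mem_top y
  have hinter : ∀ y ∈ P, y ∈ H → y ∈ zpowers x := by
    intro y hy hyH
    obtain ⟨i, d, hd, rfl⟩ := exists_of_mem_sup hA hxA hyH
    have hdP : d ∈ P :=
      ((zpowers x ⊔ Q).mul_mem_cancel_left (mem_sup_left (zpow_mem (mem_zpowers x) i))).1 hy
    obtain ⟨j, hj⟩ := hP.exists_orderOf_eq_pow ⟨d, hdP⟩ |>.imp fun j h => h
    have hd1 : d = 1 := orderOf_eq_one_iff.1 (Nat.eq_one_of_dvd_coprimes
      ((hp.coprime_iff_not_dvd.2 hpA).pow_left j)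
      (by rw [← hj, orderOf_mk]) (by rw [← orderOf_mk d (hDA hd)]; exact orderOf_dvd_natCard _))
    rw [hd1, mul_one]
    exact zpow_mem (mem_zpowers x) i
  have hPx : P ≤ zpowers x := by
    by_contra hnle
    have hlt : zpowers x < P := lt_of_le_not_ge le_sup_left hnle
    obtain ⟨n, hnP, hn, hnx⟩ := exists_mem_normalizer hP hlt
    refine hnx (hinter n hnP ?_)
    rw [← hH]
    have h1 := hDn n
    exact mem_normalizer_sup' hn h1
  refine ⟨x, A, p, hp, hAn, hA, ⟨k, hk⟩, hpA, ?_, hxpZ, ?_⟩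
  · refine isComplement'_of_disjoint_and_mul_eq_univ ?_ ?_
    · exact disjoint_iff.2 (inf_eq_bot' (by rw [Nat.card_zpowers]; exact hco))
    · haveI := hAn
      rw [← mul_normal]
      refine Set.eq_univ_of_forall fun y => ?_
      exact sup_le_sup_right hPx A (htop y)
  · intro a ha hane hfix
    have hxa : x * a = a * x := by
      conv_rhs => rw [← hfix, inv_mul_cancel_right]
    -- `C_A(x)` normalises `H`, so lies in `[A,x]`
    have haH : a ∈ H := by
      rw [← hH]
      have h1 := hDn a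
      have hn : a ∈ normalizer (zpowers x : Set G) := by
        refine mem_normalizer_iff.2 fun y => ⟨fun hy => ?_, fun hy => ?_⟩
        · obtain ⟨i, rfl⟩ := mem_zpowers_iff.1 hy
          rw [((show Commute a x from hxa.symm).zpow_right i).eq, mul_inv_cancel_right]; exact hy
        · obtain ⟨i, hi⟩ := mem_zpowers_iff.1 hy
          refine mem_zpowers_iff.2 ⟨i, ?_⟩
          calc x ^ i = a⁻¹ * (a * x ^ i) := by group
            _ = a⁻¹ * (x ^ i * a) := by rw [((show Commute a x from hxa.symm).zpow_right i).eq]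
            _ = y := by rw [hi]; group
      exact mem_normalizer_sup' hn h1
    obtain ⟨i, d, hd, e⟩ := exists_of_mem_sup hA hxA haH
    have hi : x ^ i ∈ zpowers x ⊓ A := mem_inf.2 ⟨zpow_mem (mem_zpowers x) i, by
      rw [show x ^ i = a * d⁻¹ by rw [e, mul_inv_cancel_right]]
      exact mul_mem ha (inv_mem (hDA hd))⟩
    rw [inf_eq_bot' (by rw [Nat.card_zpowers]; exact hco), mem_bot] at hi
    rw [hi, one_mul] at e
    subst e
    obtain ⟨b, -, hb⟩ := hd
    exact hane (eq_one_of_comm_fixed hco ha hxa hb)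

theorem backward {G : Type*} [Group G] [Finite G] (x : G) (A : Subgroup G) (p : ℕ) (hp : p.Prime)
    (hAn : A.Normal) (hA : IsMulCommutative A) (k : ℕ) (hk : orderOf x = p ^ k)
    (hpA : ¬ p ∣ Nat.card A) (hcompl : (Subgroup.zpowers x).IsComplement' A)
    (hxp : x ^ p ∈ Subgroup.center G) (hfpf : ∀ a : G, a ∈ A → a ≠ 1 → x * a * x⁻¹ ≠ a)
    (H : Subgroup G) (hH : ¬ IsMulCommutative H) : normalizer (H : Set G) = H := by
  haveI := hAn
  have hdec : ∀ g : G, ∃ i : ℤ, ∃ a ∈ A, g = x ^ i * a := by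
    intro g
    have h : g ∈ ((zpowers x : Set G) * (A : Set G)) := by
      rw [hcompl.mul_eq]; trivial
    obtain ⟨u, hu, a, ha, rfl⟩ := h
    obtain ⟨i, rfl⟩ := mem_zpowers_iff.1 hu
    exact ⟨i, a, ha, rfl⟩
  -- some element of `H` lies outside `⟨x^p⟩A`
  obtain ⟨h, hhH, i, a₀, ha₀, he, hi⟩ : ∃ h ∈ H, ∃ i : ℤ, ∃ a ∈ A, h = x ^ i * a ∧ ¬ (p : ℤ) ∣ i := by
    by_contra hcon
    push Not at hcon
    refine hH ⟨⟨fun u v => Subtype.ext ?_⟩⟩
    obtain ⟨i, a, ha, hu⟩ := hdec u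
    obtain ⟨j, b, hb, hv⟩ := hdec v
    obtain ⟨i', rfl⟩ := hcon u u.2 i a ha hu
    obtain ⟨j', rfl⟩ := hcon v v.2 j b hb hv
    have hc : ∀ l : ℤ, x ^ ((p : ℤ) * l) ∈ center G := fun l => by
      rw [zpow_mul, zpow_natCast]; exact zpow_mem hxp l
    show (u : G) * v = v * u
    rw [hu, hv]
    have c1 := mem_center_iff.1 (hc i')
    have c2 := mem_center_iff.1 (hc j')
    calc x ^ ((p : ℤ) * i') * a * (x ^ ((p : ℤ) * j') * b)
        = x ^ ((p : ℤ) * j') * (x ^ ((p : ℤ) * i') * a) * b := by rw [← mul_assoc, c2]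
      _ = x ^ ((p : ℤ) * j') * x ^ ((p : ℤ) * i') * (b * a) := by
          rw [comm_of_mem hA hb ha]; group
      _ = x ^ ((p : ℤ) * j') * (b * x ^ ((p : ℤ) * i')) * a := by rw [c1 b]; group
      _ = _ := by group
  set r := Nat.card A with hrdef
  have hmk : ((h : G) : G ⧸ A) = (x : G ⧸ A) ^ i := by
    rw [he, QuotientGroup.mk_mul, (QuotientGroup.eq_one_iff a₀).2 ha₀, mul_one,
      QuotientGroup.mk_zpow]
  obtain ⟨w, z, hwz⟩ : ∃ w z : ℤ, i * r * w + (orderOf x : ℤ) * z = 1 := by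
    have hc : IsCoprime (i * r) ((p : ℤ) ^ k) := by
      refine IsCoprime.pow_right ?_
      refine IsCoprime.mul_left ((Nat.prime_iff_prime_int.1 hp).irreducible.coprime_iff_not_dvd.2 hi).symm ?_
      exact ((Nat.prime_iff_prime_int.1 hp).irreducible.coprime_iff_not_dvd.2
        (by exact_mod_cast hpA)).symm
    obtain ⟨w, z, hwz⟩ := hc
    exact ⟨w, z, by rw [hk]; push_cast; linarith [hwz]⟩
  -- an element of `H` congruent to `x`
  set y := (h ^ r) ^ w with hydef
  have hyH : y ∈ H := zpow_mem (pow_mem hhH r) w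
  have hyx : ((y : G) : G ⧸ A) = (x : G ⧸ A) := by
    rw [hydef, QuotientGroup.mk_zpow, QuotientGroup.mk_pow, hmk, ← zpow_natCast, ← zpow_mul,
      ← zpow_mul, show i * ((r : ℤ) * w) = 1 + (orderOf x : ℤ) * (-z) by linarith [hwz],
      zpow_add, zpow_one, zpow_mul, zpow_natCast, ← QuotientGroup.mk_pow, pow_orderOf_eq_one,
      QuotientGroup.mk_one, one_zpow, mul_one]
  have hya : x⁻¹ * y ∈ A := QuotientGroup.eq.1 hyx.symm
  have hfix : ∀ a ∈ A, y * a = a * y → a = 1 := by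
    intro a ha e
    by_contra hne
    refine hfpf a ha hne ?_
    have e1 := comm_of_mem hA hya ha
    calc x * a * x⁻¹ = x * (a * (x⁻¹ * y)) * y⁻¹ := by group
      _ = x * ((x⁻¹ * y) * a) * y⁻¹ := by rw [e1]
      _ = y * a * y⁻¹ := by group
      _ = a := by rw [e, mul_inv_cancel_right]
  refine le_antisymm (fun n hn => ?_) le_normalizer
  obtain ⟨j, a, ha, hj⟩ : ∃ j : ℤ, ∃ a ∈ A, n = y ^ j * a := by
    obtain ⟨j, a, ha, rfl⟩ := hdec n
    refine ⟨j, (y ^ j)⁻¹ * (x ^ j * a), ?_, by group⟩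
    rw [← mul_assoc]
    refine mul_mem ?_ ha
    rw [← QuotientGroup.eq, QuotientGroup.mk_zpow A y j, QuotientGroup.mk_zpow A x j, hyx]
  have haN : a ∈ normalizer (H : Set G) := by
    rw [show a = (y ^ j)⁻¹ * n by rw [hj]; group]
    exact mul_mem (inv_mem (zpow_mem (le_normalizer hyH) j)) hn
  -- `a ↦ [y,a]` is injective on `A` and on `A ∩ H`
  let f : ↥(A ⊓ H) → ↥(A ⊓ H) := fun b => ⟨⁅y, (b : G)⁆,
    mem_inf.2 ⟨mul_mem (hAn.conj_mem _ (mem_inf.1 b.2).1 y) (inv_mem (mem_inf.1 b.2).1),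
      mul_mem (mul_mem (mul_mem hyH (mem_inf.1 b.2).2) (inv_mem hyH)) (inv_mem (mem_inf.1 b.2).2)⟩⟩
  have hinj : ∀ u ∈ A, ∀ v ∈ A, ⁅y, u⁆ = ⁅y, v⁆ → u = v := by
    intro u hu v hv e
    rw [← inv_mul_eq_one]
    refine hfix _ (mul_mem (inv_mem hu) hv) ?_
    rw [commutatorElement_def, commutatorElement_def] at e
    have c1 := comm_of_mem hA (hAn.conj_mem _ hv y) (inv_mem hv)
    have c2 := comm_of_mem hA (hAn.conj_mem _ hu y) (inv_mem hu)
    have e2 : y * (u⁻¹ * v) * y⁻¹ = u⁻¹ * v := by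
      calc y * (u⁻¹ * v) * y⁻¹ = (y * u * y⁻¹)⁻¹ * (y * v * y⁻¹ * v⁻¹) * v := by group
        _ = (y * u * y⁻¹)⁻¹ * (y * u * y⁻¹ * u⁻¹) * v := by rw [e]
        _ = u⁻¹ * v := by group
    conv_rhs => rw [← e2, inv_mul_cancel_right]
  have hfs : Function.Surjective f := Finite.injective_iff_surjective.1 fun u v e =>
    Subtype.ext (hinj _ u.2.1 _ v.2.1 (congrArg Subtype.val e))
  have hc : ⁅y, a⁆ ∈ A ⊓ H := mem_inf.2 ⟨mul_mem (hAn.conj_mem _ ha y) (inv_mem ha), by
    rw [commutatorElement_def, show y * a * y⁻¹ * a⁻¹ = y * (a * y⁻¹ * a⁻¹) by group]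
    exact mul_mem hyH ((mem_normalizer_iff.1 haN _).1 (inv_mem hyH))⟩
  obtain ⟨b, hb⟩ := hfs ⟨_, hc⟩
  have := hinj _ b.2.1 _ ha (congrArg Subtype.val hb)
  rw [hj, ← this]
  exact mul_mem (zpow_mem hyH j) b.2.2


/-- Let G be a finite solvable non-nilpotent group. Every non-abelian subgroup of G is self-normalizing if and only if G is a semidirect product ⟨x⟩ ⋉ A in which ⟨x⟩ is a p-group for some prime p, A is a normal abelian subgroup of order prime to p, x^p is central in G, and x acts fixed-point-freely on A (no non-identity element of A commutes with x). -/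
theorem result {G : Type*} [Group G] [Finite G]
    [Group.IsSolvable G] (hnn : ¬ Group.IsNilpotent G) :
    (∀ H : Subgroup G, ¬ IsMulCommutative H → Subgroup.normalizer (H : Set G) = H) ↔
    ∃ (x : G) (A : Subgroup G) (p : ℕ), p.Prime ∧ A.Normal ∧ IsMulCommutative A ∧ (∃ k : ℕ, orderOf x = p ^ k) ∧
      ¬ p ∣ Nat.card A ∧ (Subgroup.zpowers x).IsComplement' A ∧ x ^ p ∈ Subgroup.center G ∧
      ∀ a : G, a ∈ A → a ≠ 1 → x * a * x⁻¹ ≠ a := by
  constructor
  · intro hS
    exact forward hnn hS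
  · rintro ⟨x, A, p, hp, hAn, hA, ⟨k, hk⟩, hpA, hcompl, hxp, hfpf⟩ H hH
    exact backward x A p hp hAn hA k hk hpA hcompl hxp hfpf H hH

end Cfsg.Agent.S4071
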