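import Cfsg.Statements.S4073
import Cfsg.Agent.Lib.SelfNormNonabelian.SimpleMain
import Cfsg.Agent.Lib.PSL2.MinimalSimple

set_option autoImplicit false
open Cfsg

namespace Cfsg.Agent.S4073

open Subgroup SelfNormNonabelian PSL2
open scoped MatrixGroups

theorem selfNorm_of_equiv {G H : Type*} [Group G] [Group H] (e : G ≃* H) (h : SelfNorm H) :
    SelfNorm G := by
  intro K hK
  have h1 : ¬ IsMulCommutative ↥(K.map e.toMonoidHom) := fun hc => hK ⟨⟨fun a b => Subtype.ext
    (e.injective (by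
      rw [Subgroup.coe_mul, Subgroup.coe_mul, map_mul, map_mul]
      exact comm_of_mem hc (mem_map_of_mem e.toMonoidHom a.2) (mem_map_of_mem e.toMonoidHom b.2)))⟩⟩
  refine map_injective (f := e.toMonoidHom) e.injective ?_
  exact (map_equiv_normalizer_eq K e).trans (h _ h1)

variable {F : Type*} [Field F] [Fintype F]

theorem center_eq_bot_of_two (h2 : (2 : F) = 0) : Subgroup.center SL(2, F) = ⊥ := by
  rw [← Subgroup.card_eq_one, PSL2.card_center]
  obtain ⟨k, hk⟩ := PSL2.even_card_iff.2 h2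
  have := PSL2.one_lt_q (F := F)
  rw [Nat.gcd_rec, show (Fintype.card F - 1) % 2 = 1 by omega]
  rfl

theorem notMem_center (h2 : (2 : F) = 0) {g : SL(2, F)} (hg : g ≠ 1) :
    g ∉ Subgroup.center SL(2, F) := by
  rw [center_eq_bot_of_two h2, Subgroup.mem_bot]; exact hg

theorem selfNorm_sl (h2 : (2 : F) = 0) (h4 : 4 ≤ Fintype.card F)
    (hp : (Fintype.card F - 1).Prime) [IsSimpleGroup SL(2, F)]
    (hsolv : ∀ H : Subgroup SL(2, F), H ≠ ⊤ → Group.IsSolvable H) : SelfNorm SL(2, F) := by
  refine selfNorm_of_ca (fun g hg => ⟨⟨fun a b => Subtype.ext ?_⟩⟩) (fun g hg => ?_) hsolv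
  · by_cases hb : (b : SL(2, F)) = 1
    · show (a : SL(2, F)) * b = b * a
      rw [hb, mul_one, one_mul]
    · have h1 := cent_eq_cent (notMem_center h2 hg) (notMem_center h2 hb) (mem_cent.1 b.2)
      have h3 : (a : SL(2, F)) ∈ cent (b : SL(2, F)) := h1 ▸ a.2
      exact mem_cent.1 h3
  · change (cent g).relIndex (normalizer (cent g : Set SL(2, F))) |>.Prime
    have hmul := relIndex_mul_relIndex ⊥ (cent g) (normalizer (cent g : Set SL(2, F))) bot_le
      (cent_le_normalizer g)
    rw [relIndex_bot_left, relIndex_bot_left] at hmul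
    have hpos : 0 < Nat.card (cent g) := Nat.card_pos
    by_cases hg4 : tr g ^ 2 = 4
    · obtain ⟨k, hk⟩ := parabolic_of_tr (notMem_center h2 hg) hg4
      have hN : normalizer (cent g : Set SL(2, F)) = (borel F).map (MulAut.conj k).toMonoidHom := by
        rw [hk, ← normalizer_pmUnip]
        exact (map_equiv_normalizer_eq (pmUnip F) (MulAut.conj k)).symm
      have hcN : Nat.card (normalizer (cent g : Set SL(2, F))) =
          (Fintype.card F - 1) * Fintype.card F := by
        rw [hN, card_map_of_injective (MulAut.conj k).injective, card_borel']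
      have hcg : Nat.card (cent g) = Fintype.card F := by
        rw [hk, card_map_of_injective (MulAut.conj k).injective, ← card_unip' (F := F)]
        congr 2
        ext x
        rw [mem_pmUnip]
        refine ⟨fun h => h.elim id fun h => ?_, Or.inl⟩
        rwa [PSL2.neg_eq_neg_one_mul, neg_one_eq_one_iff.2 h2, one_mul] at h
      rw [hcN, hcg, mul_comm (Fintype.card F - 1)] at hmul
      rwa [Nat.eq_of_mul_eq_mul_left (by omega) hmul]
    · rw [card_normalizer_cent hg4, mul_comm 2] at hmul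
      rw [Nat.eq_of_mul_eq_mul_left hpos hmul]
      exact Nat.prime_two

/-- The elements of the Borel subgroup with diagonal entry a root of unity of order `r`. -/
def borelPart (F : Type*) [Field F] (r : ℕ) : Subgroup SL(2, F) where
  carrier := {g | g 1 0 = 0 ∧ g 0 0 ^ r = 1}
  one_mem' := by simp
  mul_mem' {g h} hg hh := by
    simp only [Set.mem_ofPred_eq] at *
    refine ⟨by rw [mul10, hg.1, hh.1]; ring, ?_⟩
    rw [mul00, hh.1, mul_zero, add_zero, mul_pow, hg.2, hh.2, one_mul]
  inv_mem' {g} hg := by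
    simp only [Set.mem_ofPred_eq] at *
    refine ⟨by rw [inv10, hg.1, neg_zero], ?_⟩
    have h := det_eq g
    rw [hg.1, mul_zero, sub_zero] at h
    rw [inv00]
    calc g 1 1 ^ r = (g 0 0 ^ r) * g 1 1 ^ r := by rw [hg.2, one_mul]
      _ = 1 := by rw [← mul_pow, h, one_pow]

theorem borel_le_normalizer (r : ℕ) : borel F ≤ normalizer (borelPart F r : Set SL(2, F)) := by
  have key : ∀ k ∈ borel F, ∀ g ∈ borelPart F r, k * g * k⁻¹ ∈ borelPart F r := by
    intro k hk g hg
    rw [mem_borel] at hk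
    refine ⟨?_, ?_⟩
    · rw [mul10, mul10, mul11, inv10, hk, hg.1]; ring
    · have h := det_eq k
      rw [hk, mul_zero, sub_zero] at h
      rw [mul00, mul00, mul01, inv00, inv10, hk, hg.1]
      rw [show (k 0 0 * g 0 0 + k 0 1 * 0) * k 1 1 + (k 0 0 * g 0 1 + k 0 1 * g 1 1) * -0 =
        (k 0 0 * k 1 1) * g 0 0 by ring, h, one_mul]
      exact hg.2
  intro k hk
  rw [mem_normalizer_iff]
  intro g
  refine ⟨key k hk g, fun h => ?_⟩
  have h1 := key k⁻¹ (inv_mem hk) _ h
  rwa [show k⁻¹ * (k * g * k⁻¹) * k⁻¹⁻¹ = g by group] at h1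

theorem prime_of_selfNorm (h2 : (2 : F) = 0) (h4 : 4 ≤ Fintype.card F)
    (hS : SelfNorm SL(2, F)) : (Fintype.card F - 1).Prime := by
  classical
  obtain ⟨r, hr, hrd⟩ := Nat.exists_prime_and_dvd (show Fintype.card F - 1 ≠ 1 by omega)
  haveI := Fact.mk hr
  have hU : Nat.card Fˣ = Fintype.card F - 1 := by
    rw [GL.card_units_field, ← Nat.card_eq_fintype_card]
  obtain ⟨a, ha⟩ := exists_prime_orderOf_dvd_card' (G := Fˣ) r (by rw [hU]; exact hrd)
  obtain ⟨c, hc⟩ := IsCyclic.exists_generator (α := Fˣ)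
  have hodd : r ≠ 2 := fun e => by
    obtain ⟨k, hk⟩ := PSL2.even_card_iff.2 h2
    rw [e] at hrd
    omega
  have ha2 : (a : F) ^ 2 ≠ 1 := fun e => by
    have h1 : a ^ 2 = 1 := Units.ext (by simpa using e)
    have h2' := Nat.le_of_dvd two_pos (ha ▸ orderOf_dvd_of_pow_eq_one h1)
    have := hr.two_le
    omega
  have hna : ¬ IsMulCommutative (borelPart F r) := by
    intro h
    have hu : uu (1 : F) ∈ borelPart F r := ⟨by simp, by simp⟩
    have hd : dd a ∈ borelPart F r := ⟨by simp, by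
      have h1 : (a : F) ^ r = 1 := by rw [← Units.val_pow_eq_pow_val, ← ha, pow_orderOf_eq_one]; rfl
      simpa using h1⟩
    have h1 := congrArg (fun x : SL(2, F) => x 0 1) (comm_of_mem h hu hd)
    simp [mul01] at h1
    refine ha2 ?_
    rw [pow_two]
    nth_rewrite 2 [← h1]
    exact mul_inv_cancel₀ (Units.ne_zero a)
  have hB : dd c ∈ borelPart F r := hS _ hna ▸ borel_le_normalizer r (mem_borel.2 (by simp))
  have hcr : c ^ r = 1 := Units.ext (by simpa using hB.2)
  have h1 : Nat.card Fˣ ∣ r := orderOf_eq_card_of_forall_mem_zpowers hc ▸ orderOf_dvd_of_pow_eq_one hcr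
  rw [hU] at h1
  rw [Nat.dvd_antisymm h1 hrd]
  exact hr

theorem mk_bijective (h2 : (2 : F) = 0) :
    Function.Bijective (PSL2.mk : SL(2, F) →* PSL(2, F)) := by
  refine ⟨fun x y hxy => ?_, mk_surjective⟩
  rcases mk_eq_mk.1 hxy with h | h
  · exact h
  · rw [h, PSL2.neg_eq_neg_one_mul, neg_one_eq_one_iff.2 h2, one_mul]

/-- Let G be a finite non-abelian simple group. Every non-abelian subgroup of G is self-normalizing if and only if G is isomorphic to PSL₂(2ⁿ) for some n ≥ 2 with 2ⁿ − 1 prime (this includes the alternating group of degree 5 as PSL₂(4)). -/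
theorem result {G : Type*} [Group G] [Finite G] [IsSimpleGroup G]
    (hna : ¬ IsMulCommutative G) :
    (∀ H : Subgroup G, ¬ IsMulCommutative H → Subgroup.normalizer (H : Set G) = H) ↔
    ∃ n : ℕ, 2 ≤ n ∧ (2 ^ n - 1).Prime ∧ Nonempty (G ≃* Matrix.ProjectiveSpecialLinearGroup (Fin 2) (GaloisField 2 n)) := by
  classical
  constructor
  · intro hS
    obtain ⟨m, F, iF, iFt, hm, hq, ⟨e⟩⟩ := exists_psl hna hS
    have h4 : 4 ≤ Fintype.card F := hq ▸ Nat.pow_le_pow_right two_pos hm
    have h2 : (2 : F) = 0 :=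
      PSL2.even_card_iff.1 (hq ▸ even_iff_two_dvd.2 (dvd_pow_self 2 (by omega)))
    let φ : SL(2, F) ≃* G := (MulEquiv.ofBijective PSL2.mk (mk_bijective h2)).trans e.symm
    have hp := prime_of_selfNorm h2 h4 (selfNorm_of_equiv φ hS)
    rw [hq] at hp
    haveI := Fintype.ofFinite (GaloisField 2 m)
    refine ⟨m, hm, hp, ⟨e.trans (pslCongr (FiniteField.ringEquivOfCardEq ?_))⟩⟩
    rw [hq, ← Nat.card_eq_fintype_card, GaloisField.card 2 m (by omega)]
  · rintro ⟨n, hn, hp, ⟨e⟩⟩
    haveI := Fintype.ofFinite (GaloisField 2 n)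
    have hq : Fintype.card (GaloisField 2 n) = 2 ^ n := by
      rw [← Nat.card_eq_fintype_card, GaloisField.card 2 n (by omega)]
    have h4 : 4 ≤ Fintype.card (GaloisField 2 n) := hq ▸ Nat.pow_le_pow_right two_pos hn
    have h2 : (2 : GaloisField 2 n) = 0 :=
      PSL2.even_card_iff.1 (hq ▸ even_iff_two_dvd.2 (dvd_pow_self 2 (by omega)))
    let φ : G ≃* SL(2, GaloisField 2 n) :=
      e.trans (MulEquiv.ofBijective PSL2.mk (mk_bijective h2)).symm
    haveI : IsSimpleGroup SL(2, GaloisField 2 n) := MulEquiv.isSimpleGroup φ.symm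
    have hmin : Cfsg.IsMinimalSimple (Matrix.ProjectiveSpecialLinearGroup (Fin 2) (GaloisField 2 n)) :=
      isMinimalSimple_iff.2 (Or.inl ⟨n, (Nat.prime_of_pow_sub_one_prime (by omega) hp).2, hq⟩)
    refine selfNorm_of_equiv φ (selfNorm_sl h2 h4 (hq ▸ hp) fun H hH => ?_)
    have hmap : H.map PSL2.mk ≠ (⊤ : Subgroup (Matrix.ProjectiveSpecialLinearGroup (Fin 2) (GaloisField 2 n))) :=
      fun h => hH (map_injective (mk_bijective h2).1 (h.trans (map_top_of_surjective _ mk_surjective).symm))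
    haveI := hmin.2.2 _ hmap
    exact Group.isSolvable_of_isSolvable_injective
      (f := (Subgroup.equivMapOfInjective H PSL2.mk (mk_bijective h2).1).toMonoidHom)
      (Subgroup.equivMapOfInjective H PSL2.mk (mk_bijective h2).1).injective

end Cfsg.Agent.S4073
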