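import Cfsg.Statements.S4074
import Mathlib.Tactic.LinearCombination

set_option autoImplicit false
open Cfsg

namespace Cfsg.Agent.S4074

/-- For n > 2, every non-abelian subgroup of the dihedral group of order 2n is self-normalizing if and only if n = 4 or n is odd. -/
theorem result (n : ℕ) (hn : 2 < n) :
    (∀ H : Subgroup (DihedralGroup n), ¬ IsMulCommutative H → Subgroup.normalizer (H : Set (DihedralGroup n)) = H) ↔
    (n = 4 ∨ Odd n) := by
  haveI : NeZero n := ⟨by omega⟩
  constructor
  · intro h
    by_contra hc
    push Not at hc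
    obtain ⟨hn4, hodd⟩ := hc
    obtain ⟨m, rfl⟩ := (Nat.not_odd_iff_even.mp hodd).two_dvd
    let φ : ZMod (2 * m) →+* ZMod 2 := ZMod.castHom (Dvd.intro m rfl) (ZMod 2)
    let c : DihedralGroup (2 * m) → ZMod 2 := fun g => match g with
      | DihedralGroup.r i => φ i
      | DihedralGroup.sr i => φ i
    have hc' : ∀ a b, c (a * b) = c a + c b := by
      rintro (i | i) (j | j) <;> simp [c, sub_eq_add_neg, ZMod.neg_eq_self_mod_two, add_comm]
    let H : Subgroup (DihedralGroup (2 * m)) :=
      (MonoidHom.mk' (fun g => Multiplicative.ofAdd (c g)) fun a b => by simp [hc', ofAdd_add]).ker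
    have hmem : ∀ g, g ∈ H ↔ c g = 0 := fun g => by simp [H, MonoidHom.mem_ker]
    have hab : ¬ IsMulCommutative H := fun hab => by
      have e := congrArg Subtype.val (mul_comm' (M := H) ⟨DihedralGroup.r 2, (hmem _).mpr (show φ 2 = 0 by
          rw [map_ofNat]; exact ZMod.natCast_self 2)⟩
        ⟨DihedralGroup.sr 0, (hmem _).mpr (map_zero φ)⟩)
      simp only [Subgroup.coe_mul, DihedralGroup.r_mul_sr, DihedralGroup.sr_mul_r,
        DihedralGroup.sr.injEq] at e
      have h4 : ((4 : ℕ) : ZMod (2 * m)) = 0 := by push_cast; linear_combination (-1 : ZMod (2 * m)) * e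
      have h5 := Nat.le_of_dvd (by norm_num) ((ZMod.natCast_eq_zero_iff _ _).mp h4)
      have h6 := (ZMod.natCast_eq_zero_iff _ _).mp h4
      have hm : m = 1 ∨ m = 2 := by omega
      omega
    have hN : Subgroup.normalizer (H : Set (DihedralGroup (2 * m))) = ⊤ :=
      Subgroup.normalizer_eq_top H
    have h1 : DihedralGroup.r (1 : ZMod (2 * m)) ∈ H := by rw [← h H hab, hN]; exact Subgroup.mem_top _
    rw [hmem] at h1
    exact one_ne_zero ((map_one φ).symm.trans h1)
  · intro h H hH
    rcases h with rfl | hodd
    · by_cases htop : H = ⊤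
      · rw [htop]; exact Subgroup.normalizer_eq_top _
      exfalso
      apply hH
      have h8 : Nat.card (DihedralGroup 4) = 8 := DihedralGroup.nat_card
      obtain ⟨i, hi, hci⟩ := (Nat.dvd_prime_pow Nat.prime_two).mp
        (show Nat.card H ∣ 2 ^ 3 by have := Subgroup.card_subgroup_dvd_card H; rw [h8] at this; exact this)
      have hi2 : i ≠ 3 := fun h3 => htop (Subgroup.eq_top_of_card_eq H (by rw [hci, h3, h8]; norm_num))
      haveI : Fact (Nat.Prime 2) := ⟨Nat.prime_two⟩
      interval_cases i
      · have : Subsingleton H := (Nat.card_eq_one_iff_unique.mp (by simpa using hci)).1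
        exact ⟨⟨fun a b => Subsingleton.elim _ _⟩⟩
      · have := isCyclic_of_prime_card (α := H) (p := 2) (by simpa using hci)
        exact IsCyclic.isMulCommutative
      · exact ⟨⟨(IsPGroup.commutative_of_card_eq_prime_sq (p := 2) (by simpa using hci))⟩⟩
      · exact absurd rfl hi2
    · obtain ⟨a, ha⟩ : ∃ a, DihedralGroup.sr a ∈ H := by
        by_contra hne
        push Not at hne
        refine hH ⟨⟨?_⟩⟩
        rintro ⟨x | x, hx⟩ ⟨y | y, hy⟩
        · exact Subtype.ext (by simp [add_comm])
        · exact absurd hy (hne y)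
        · exact absurd hx (hne x)
        · exact absurd hx (hne x)
      refine le_antisymm ?_ Subgroup.le_normalizer
      have hr : ∀ j, DihedralGroup.r j ∈ Subgroup.normalizer (H : Set (DihedralGroup n)) →
          DihedralGroup.r j ∈ H := by
        intro j hj
        have h1 := mul_mem ((Subgroup.mem_normalizer_iff.mp hj _).mp ha) ha
        simp only [DihedralGroup.inv_r, DihedralGroup.r_mul_sr, DihedralGroup.sr_mul_r,
          DihedralGroup.sr_mul_sr] at h1
        obtain ⟨k, hk⟩ := hodd
        have h2 := pow_mem h1 (k + 1)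
        rw [DihedralGroup.r_pow] at h2
        have h3 : ((2 * k + 1 : ℕ) : ZMod n) = 0 := by rw [← hk]; exact ZMod.natCast_self n
        push_cast at h2 h3
        convert h2 using 2
        linear_combination -j * h3
      rintro (j | b) hg
      · exact hr j hg
      · have h1 := mul_mem hg (Subgroup.le_normalizer ha)
        rw [DihedralGroup.sr_mul_sr] at h1
        have h2 := mul_mem (hr _ h1) (inv_mem ha)
        rwa [DihedralGroup.inv_sr, DihedralGroup.r_mul_sr, sub_sub_cancel] at h2

end Cfsg.Agent.S4074
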