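import Cfsg.Statements.S4075
import Mathlib.GroupTheory.Nilpotent
import Mathlib.GroupTheory.Sylow

set_option autoImplicit false
open Cfsg

namespace Cfsg.Agent.S4075

/-- Let G be a finite nilpotent group. Every non-abelian subgroup of G is self-normalizing if and only if G is abelian or G is a minimal non-abelian p-group for some prime p (non-abelian of prime-power order with every proper subgroup abelian). -/
theorem result {G : Type*} [Group G] [Finite G]
    [Group.IsNilpotent G] :
    (∀ H : Subgroup G, ¬ IsMulCommutative H → Subgroup.normalizer (H : Set G) = H) ↔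
    (IsMulCommutative G ∨ (IsPrimePow (Nat.card G) ∧ ¬ IsMulCommutative G ∧ ∀ H : Subgroup G, H ≠ ⊤ → IsMulCommutative H)) := by
  constructor
  · intro h
    by_cases hab : IsMulCommutative G
    · exact Or.inl hab
    refine Or.inr ⟨?_, hab, ?_⟩
    rotate_left
    · intro H hH
      by_contra hc
      exact (Group.normalizerCondition_of_isNilpotent H hH.lt_top).ne (h H hc).symm
    · by_contra hpp
      apply hab
      have hpair : ∀ H : Subgroup G, H ≠ ⊤ → IsMulCommutative H := by
        intro H hH
        by_contra hc
        exact (Group.normalizerCondition_of_isNilpotent H hH.lt_top).ne (h H hc).symm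
      have hsyl : ∀ (q : ℕ) [Fact q.Prime] (Q : Sylow q G), (Q : Subgroup G).Normal :=
        by
          have hn := ((Group.isNilpotent_of_finite_tfae (G := G)).out 0 3).mp (inferInstance : Group.IsNilpotent G)
          exact fun q hq Q => hn q hq Q
      have e := (Sylow.directProductOfNormal (G := G) fun {q hq Q} => @hsyl q hq Q).symm
      have hcomm : ∀ a b : ((q : (Nat.card G).primeFactors) → (P : Sylow q G) → (P : Subgroup G)),
          a * b = b * a := by
        intro a b
        funext q P
        haveI : Fact (q : ℕ).Prime := ⟨Nat.prime_of_mem_primeFactors q.2⟩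
        have hP : (P : Subgroup G) ≠ ⊤ := fun htop => by
          obtain ⟨k, hk⟩ := IsPGroup.iff_card.mp P.2
          rw [htop, Subgroup.card_top] at hk
          have hk0 : k ≠ 0 := fun h0 => hab (by
            have : Subsingleton G := (Nat.card_eq_one_iff_unique.mp (by rw [hk, h0, pow_zero])).1
            exact ⟨⟨fun a b => Subsingleton.elim _ _⟩⟩)
          exact hpp (isPrimePow_nat_iff _ |>.mpr ⟨q, k, Fact.out, Nat.pos_of_ne_zero hk0, hk.symm⟩)
        have := hpair _ hP
        exact mul_comm' _ _
      exact ⟨⟨fun a b => e.injective (by rw [map_mul, map_mul, hcomm])⟩⟩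
  · rintro (hab | ⟨-, -, hmin⟩) H hH
    · exact absurd ⟨⟨fun a b => Subtype.ext (mul_comm' (M := G) (a : G) b)⟩⟩ hH
    · have : H = ⊤ := by by_contra hne; exact hH (hmin H hne)
      rw [this]; exact Subgroup.normalizer_eq_top _

end Cfsg.Agent.S4075
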