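import Cfsg.Statements.S4079
import Cfsg.Agent.S0112
import Cfsg.Agent.S4225
import Cfsg.Agent.Lib.PGroup.Metacyclic
import Cfsg.Agent.Lib.PGroup.MetacyclicCoset
import Cfsg.Agent.Lib.PGroup.UniqueOrderP
import Cfsg.Agent.Lib.PGroup.Regular
import Cfsg.Agent.Lib.Fusion.MetacyclicOmega
import Cfsg.Agent.Lib.MaxClass.Uniform
import Cfsg.Agent.Lib.Pearl.SelfCentralizing
import Mathlib.Tactic.Group

set_option autoImplicit false
open Cfsg

namespace Cfsg.Agent.S4079

open scoped commutatorElement

section Omega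

variable {L : Type*} [Group L] [Finite L] {p : ℕ} [Fact p.Prime]

theorem not_isCyclic (hL : IsPGroup p L) (hne : Nat.card L ≠ 1)
    (hnc : ∀ C : Subgroup L, IsCyclic C → C.index ≠ p) : ¬ IsCyclic L := fun h => by
  have hbt : (⊥ : Subgroup L) ≠ ⊤ := fun e => hne (by rw [← Subgroup.card_top, ← e, Subgroup.card_bot])
  obtain ⟨M, hM, -⟩ := (eq_top_or_exists_le_coatom (⊥ : Subgroup L)).resolve_left hbt
  exact hnc M (isCyclic_of_injective M.subtype M.subtype_injective) (PGroup.index_of_isCoatom hL hM)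

/-- In a metacyclic group without cyclic maximal subgroup: `Ω₁` is a subgroup of order `p²` consisting
of `p`-th powers. -/
theorem exists_omega (hp : p ≠ 2) (hL : IsPGroup p L) (hmc : Cfsg.IsMetacyclic L) (hne : Nat.card L ≠ 1)
    (hnc : ∀ C : Subgroup L, IsCyclic C → C.index ≠ p) :
    ∃ W : Subgroup L, (∀ x, x ∈ W ↔ x ^ p = 1) ∧ W.Normal ∧ Nat.card W = p ^ 2 ∧
      (∀ v ∈ W, ∀ w ∈ W, v * w = w * v) ∧ (∀ v ∈ W, ∃ x, x ^ p = v) ∧
      ∀ u w : L, u ^ p ∈ W → w ^ p ∈ W → (u * w) ^ p = u ^ p * w ^ p ∧ Commute (u ^ p) w := by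
  have hp' := (Fact.out : p.Prime)
  obtain ⟨g, b, H⟩ := PGroup.exists_metaGen hmc
  obtain ⟨C, hC, hCc, hQc⟩ := hmc
  have := hC
  have := hCc
  have := hQc
  have hr := H.isRegular hL hp
  let W : Subgroup L :=
    { carrier := {x | x ^ p = 1}
      one_mem' := one_pow _
      mul_mem' := fun {x y} hx hy => by
        show (x * y) ^ p = 1
        rw [(show Commute x y from Fusion.commute_of_pow_eq_one hL hp (C := C) hx hy).mul_pow, hx, hy, one_mul]
      inv_mem' := fun {x} hx => by show x⁻¹ ^ p = 1; rw [inv_pow, hx, inv_one] }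
  have hW : ∀ x, x ∈ W ↔ x ^ p = 1 := fun _ => Iff.rfl
  have hWn : W.Normal := ⟨fun x hx c => by
    rw [hW] at hx ⊢; rw [conj_pow, hx, mul_one, mul_inv_cancel]⟩
  have hcomm : ∀ v ∈ W, ∀ w ∈ W, v * w = w * v := fun v hv w hw =>
    Fusion.commute_of_pow_eq_one hL hp (C := C) hv hw
  have hle : Nat.card W ≤ p ^ 2 := Fusion.card_le_sq_of_exponent W (fun x hx => hx) (C := C)
  have hncyc := not_isCyclic hL hne hnc
  have hgt : ¬ Nat.card W ≤ p := fun hle1 => by
    have huniq : ∀ A B : Subgroup L, Nat.card A = p → Nat.card B = p → A = B := by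
      have key : ∀ A : Subgroup L, Nat.card A = p → A = W := fun A hA => by
        refine Subgroup.eq_of_le_of_card_ge (fun x hx => ?_) (by rw [hA]; exact hle1)
        have h : orderOf (⟨x, hx⟩ : A) ∣ p := hA ▸ orderOf_dvd_natCard _
        rw [hW]
        exact congrArg Subtype.val (orderOf_dvd_iff_pow_eq_one.1 h)
      exact fun A B hA hB => (key A hA).trans (key B hB).symm
    rcases PGroup.cyclic_or_quaternion_of_unique hL huniq with h | h
    · exact hncyc h
    · exact hp h.1
  have hWcard : Nat.card W = p ^ 2 := by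
    obtain ⟨k, hk⟩ := (hL.to_subgroup W).exists_card_eq
    rw [hk] at hle hgt ⊢
    have h1 := (Nat.pow_le_pow_iff_right hp'.one_lt).1 hle
    have h2 : ¬ k ≤ 1 := fun h => hgt ((Nat.pow_le_pow_right hp'.pos h).trans (pow_one p).le)
    rw [show k = 2 by omega]
  -- `Ω₁ ≤ Φ`
  have hWΦ : W ≤ frattini L := by
    intro v hv
    by_contra hvΦ
    have hlt1 : frattini L < frattini L ⊔ Subgroup.zpowers v :=
      left_lt_sup.2 fun h => hvΦ (h (Subgroup.mem_zpowers v))
    have hM : frattini L ⊔ Subgroup.zpowers v ≠ ⊤ := fun h => hncyc (isCyclic_iff_exists_zpowers_eq_top.2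
      ⟨v, frattini_nongenerating (by rw [sup_comm]; exact h)⟩)
    obtain ⟨y, -, hy⟩ := SetLike.exists_of_lt (lt_top_iff_ne_top.2 hM)
    have hlt2 : frattini L ⊔ Subgroup.zpowers v < frattini L ⊔ Subgroup.zpowers v ⊔ Subgroup.zpowers y :=
      left_lt_sup.2 fun h => hy (h (Subgroup.mem_zpowers y))
    have htop : frattini L ⊔ Subgroup.zpowers v ⊔ Subgroup.zpowers y = ⊤ := by
      refine Subgroup.eq_of_le_of_card_ge le_top ?_
      have h1 := PGroup.mul_card_le_card hL hlt1
      have h2 := PGroup.mul_card_le_card hL hlt2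
      rw [Subgroup.card_top, ← (frattini L).card_mul_index]
      refine le_trans (Nat.mul_le_mul_left _ (H.index_frattini_le hL)) ?_
      rw [pow_two, mul_comm, mul_assoc]
      exact (Nat.mul_le_mul_left p h1).trans h2
    have hgen : Subgroup.zpowers y ⊔ W = ⊤ := by
      refine frattini_nongenerating (top_le_iff.1 ?_)
      rw [← htop]
      exact sup_le (sup_le le_sup_right ((Subgroup.zpowers_le.2 (Subgroup.mem_sup_right hv)).trans le_sup_left))
        (le_sup_left.trans le_sup_left)
    have hy1 : y ≠ 1 := fun h => hy (h ▸ one_mem _)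
    -- the intersection has order `p`
    have hI : Nat.card ↥(W ⊓ Subgroup.zpowers y : Subgroup L) = p := by
      have hd : Nat.card ↥(W ⊓ Subgroup.zpowers y : Subgroup L) ∣ p := by
        have : IsCyclic ↥(W ⊓ Subgroup.zpowers y : Subgroup L) :=
          isCyclic_of_injective (Subgroup.inclusion inf_le_right) (Subgroup.inclusion_injective _)
        rw [← IsCyclic.exponent_eq_card]
        exact Monoid.exponent_dvd_of_forall_pow_eq_one fun x => Subtype.ext x.2.1
      refine ((Nat.dvd_prime hp').1 hd).resolve_left fun h1 => ?_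
      obtain ⟨k, hk⟩ := IsPGroup.iff_orderOf.1 hL y
      have hk0 : k ≠ 0 := fun h => hy1 (orderOf_eq_one_iff.1 (by rw [hk, h, pow_zero]))
      have hmem : y ^ p ^ (k - 1) ∈ W ⊓ Subgroup.zpowers y := by
        refine ⟨?_, Subgroup.pow_mem _ (Subgroup.mem_zpowers y) _⟩
        show (y ^ p ^ (k - 1)) ^ p = 1
        rw [← pow_mul, ← pow_succ, show k - 1 + 1 = k by omega, ← hk, pow_orderOf_eq_one]
      have h1' : y ^ p ^ (k - 1) = 1 := by
        have := Subgroup.card_eq_one.1 h1 ▸ hmem
        exact Subgroup.mem_bot.1 this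
      have := Nat.le_of_dvd (pow_pos hp'.pos _) (hk ▸ orderOf_dvd_of_pow_eq_one h1')
      have := (Nat.pow_le_pow_iff_right hp'.one_lt).1 this
      omega
    refine hnc (Subgroup.zpowers y) inferInstance ?_
    have h1 := W.card_mul_index
    have h2 := Subgroup.relIndex_mul_relIndex ⊥ (W ⊓ Subgroup.zpowers y) (Subgroup.zpowers y) bot_le inf_le_right
    rw [Subgroup.relIndex_bot_left, Subgroup.relIndex_bot_left, hI, Subgroup.inf_relIndex_right] at h2
    have h3 : W.relIndex (Subgroup.zpowers y) = W.index := by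
      rw [← Subgroup.relIndex_sup_right, hgen, Subgroup.relIndex_top_right]
    rw [h3] at h2
    have h4 := (Subgroup.zpowers y).card_mul_index
    rw [← h1, hWcard, ← h2, pow_two] at h4
    have h5 : p * W.index * (Subgroup.zpowers y).index = p * W.index * p := by rw [h4]; ring
    exact Nat.eq_of_mul_eq_mul_left (Nat.mul_pos hp'.pos (Nat.pos_of_ne_zero Subgroup.index_ne_zero_of_finite)) h5
  have hroot : ∀ v ∈ W, ∃ x, x ^ p = v := by
    intro v hv
    have hle' : frattini L ≤ powerClosure p 1 (⊤ : Subgroup L) := by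
      refine PGroup.frattini_le (p := p) ?_ fun x => ?_
      · refine (H.commutator_le_pow hL hp).trans (Subgroup.zpowers_le.2 ?_)
        exact Subgroup.subset_closure ⟨g, Subgroup.mem_top g, by rw [pow_one]⟩
      · exact Subgroup.subset_closure ⟨x, Subgroup.mem_top x, by rw [pow_one]⟩
    obtain ⟨x, -, hx⟩ := PGroup.exists_eq_pow_of_mem_powerClosure hL (fun a b => hr.2 a b 1) ⊤ v (hle' (hWΦ hv))
    exact ⟨x, by rw [hx, pow_one]⟩
  refine ⟨W, hW, hWn, hWcard, hcomm, hroot, fun u w hu hw => ?_⟩
  -- `u, w` commute modulo `Ω₁`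
  have hcw : ⁅u, w⁆ ∈ W := by
    have : (C.map (QuotientGroup.mk' W)).Normal := hC.map _ (QuotientGroup.mk'_surjective W)
    have : IsCyclic ↥(C.map (QuotientGroup.mk' W)) :=
      isCyclic_of_surjective ((QuotientGroup.mk' W).subgroupMap C) ((QuotientGroup.mk' W).subgroupMap_surjective C)
    have : IsCyclic ((L ⧸ W) ⧸ C.map (QuotientGroup.mk' W)) := by
      refine isCyclic_of_surjective (QuotientGroup.map C (C.map (QuotientGroup.mk' W)) (QuotientGroup.mk' W)
        (Subgroup.le_comap_map _ _)) fun z => ?_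
      obtain ⟨z, rfl⟩ := QuotientGroup.mk'_surjective _ z
      obtain ⟨z, rfl⟩ := QuotientGroup.mk'_surjective _ z
      exact ⟨QuotientGroup.mk z, rfl⟩
    have h := Fusion.commute_of_pow_eq_one (hL.to_quotient W) hp (C := C.map (QuotientGroup.mk' W))
      (x := QuotientGroup.mk' W u) (y := QuotientGroup.mk' W w)
      (by rw [← map_pow]; exact (QuotientGroup.eq_one_iff _).2 hu)
      (by rw [← map_pow]; exact (QuotientGroup.eq_one_iff _).2 hw)
    refine (QuotientGroup.eq_one_iff _).1 ?_
    show QuotientGroup.mk' W ⁅u, w⁆ = 1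
    rw [map_commutatorElement, commutatorElement_eq_one_iff_mul_comm]
    exact h
  have hc1 : (u⁻¹ * w⁻¹ * u * w) ^ p ^ 1 = 1 := by
    rw [pow_one, ← hW]
    have h := hWn.conj_mem _ hcw (w * u)⁻¹
    rwa [show (w * u)⁻¹ * ⁅u, w⁆ * (w * u)⁻¹⁻¹ = u⁻¹ * w⁻¹ * u * w by
      simp only [commutatorElement_def]; group] at h
  refine ⟨by simpa using S4225.mul_pow_of_omega hr (k := 1) hc1, ?_⟩
  have h := PGroup.commute_pow_iff hr u w 1
  rw [pow_one] at h
  exact h.2 ((hW _).1 hcw)

end Omega

section Main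

variable {L : Type*} [Group L] [Finite L] {p : ℕ} [Fact p.Prime]

omit [Finite L] in
theorem inl_normal {A : Type*} [Group A] (φ : A →* MulAut L) (W : Subgroup L) [W.Normal]
    (hinv : ∀ g, ∀ v ∈ W, φ g v ∈ W) : (W.map (SemidirectProduct.inl (φ := φ))).Normal := by
  refine ⟨fun x hx c => ?_⟩
  obtain ⟨v, hv, rfl⟩ := hx
  refine ⟨c.left * φ c.right v * c.left⁻¹, ‹W.Normal›.conj_mem _ (hinv _ _ hv) _, ?_⟩
  conv_rhs => rw [← SemidirectProduct.inl_left_mul_inr_right c]
  simp only [map_mul, SemidirectProduct.inl_aut, map_inv]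
  group

/-- An automorphism of order `p` acts quadratically on a normal invariant group of order `p²`. -/
theorem fix_commutator {a : MulAut L} (ha : orderOf a = p) {m : ℕ} (hm : Nat.card L = p ^ m) (W : Subgroup L)
    [W.Normal] (hinv : ∀ g : MulAut L, ∀ v ∈ W, g v ∈ W) (hW : Nat.card W = p ^ 2) {v : L} (hv : v ∈ W) :
    a (a v * v⁻¹) = a v * v⁻¹ := by
  set φ := (Subgroup.zpowers a).subtype
  set G := SemidirectProduct L ↥(Subgroup.zpowers a) φ
  have : Finite G := Finite.of_equiv _ SemidirectProduct.equivProd.symm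
  have hG : Nat.card G = p ^ (m + 1) := by
    rw [Nat.card_congr SemidirectProduct.equivProd, Nat.card_prod, Nat.card_zpowers, ha, hm, pow_succ]
  have hP := IsPGroup.of_card hG
  set E := W.map (SemidirectProduct.inl (φ := φ))
  have : E.Normal := inl_normal φ W fun g v hv => hinv _ v hv
  have hEc : Nat.card E = p ^ 2 := by
    rw [Subgroup.card_map_of_injective SemidirectProduct.inl_injective, hW]
  have hEne : E ≠ ⊥ := fun h => by
    rw [h, Subgroup.card_bot] at hEc
    have := Nat.one_lt_pow (n := 2) two_ne_zero (Fact.out : p.Prime).one_lt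
    omega
  set N := ⁅E, (⊤ : Subgroup G)⁆
  have : N.Normal := Subgroup.commutator_normal E ⊤
  have hlt : N < E := PGroup.commutator_top_lt hP E hEne
  have hNc : N ≤ Subgroup.center G := by
    have h := PGroup.mul_card_le_card hP hlt
    rw [hEc, pow_two] at h
    have h1 := Nat.le_of_mul_le_mul_left h (Fact.out : p.Prime).pos
    obtain ⟨k, hk⟩ := (hP.to_subgroup N).exists_card_eq
    rcases Nat.eq_zero_or_pos k with h0 | h0
    · rw [h0, pow_zero, Subgroup.card_eq_one] at hk
      rw [hk]; exact bot_le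
    · refine PGroup.le_center_of_card_eq hP N (le_antisymm h1 ?_)
      rw [hk]
      exact Nat.le_self_pow (by omega) p
  set s : G := SemidirectProduct.inr ⟨a, Subgroup.mem_zpowers a⟩ with hs
  have hconj : ∀ w : L, s * SemidirectProduct.inl w * s⁻¹ = (SemidirectProduct.inl (a w) : G) := fun w =>
    by rw [hs, ← map_inv]; exact (SemidirectProduct.inl_aut (φ := φ) ⟨a, Subgroup.mem_zpowers a⟩ w).symm
  have hmem : (SemidirectProduct.inl (a v * v⁻¹) : G) ∈ N := by
    rw [map_mul, ← hconj v, map_inv, ← commutatorElement_def, ← commutatorElement_inv]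
    exact inv_mem (Subgroup.commutator_mem_commutator ⟨v, hv, rfl⟩ (Subgroup.mem_top s))
  have h := Subgroup.mem_center_iff.1 (hNc hmem) s
  refine SemidirectProduct.inl_injective (φ := φ) ?_
  rw [← hconj, h, mul_inv_cancel_right]

/-- The orbit product for a three-step unipotent `a`. -/
theorem pow_apply_eq {a : MulAut L} {x d e f : L} (hx : a x = x * d) (hd : a d = d * e) (he : a e = e * f)
    (hf : a f = f) (hde : Commute d e) (hdf : Commute d f) (hef : Commute e f) (n : ℕ) :
    (a ^ n) x = x * (d ^ n * e ^ n.choose 2 * f ^ n.choose 3) := by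
  induction n with
  | zero => simp
  | succ n ih =>
    rw [pow_succ', MulAut.mul_apply, ih, map_mul, map_mul, map_mul, map_pow, map_pow, map_pow, hx, hd, he, hf,
      hde.mul_pow, hef.mul_pow, Nat.choose_succ_succ' n 1, Nat.choose_one_right,
      Nat.choose_succ_succ' n 2, pow_succ' d, pow_add e, pow_add f]
    simp only [mul_assoc]

/-- A moved element of order `p` forces `p = 3` and that the fixed points have order `p`. -/
theorem three_of_moves (hp : p ≠ 2) (hL : IsPGroup p L) {a : MulAut L} (ha : orderOf a = p) {m : ℕ}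
    (hm : Nat.card L = p ^ m) (W : Subgroup L) [W.Normal] (hW : ∀ x, x ∈ W ↔ x ^ p = 1)
    (hWcard : Nat.card W = p ^ 2) (hcomm : ∀ v ∈ W, ∀ w ∈ W, v * w = w * v) (hroot : ∀ v ∈ W, ∃ x, x ^ p = v)
    (hpow : ∀ u w : L, u ^ p ∈ W → w ^ p ∈ W → (u * w) ^ p = u ^ p * w ^ p ∧ Commute (u ^ p) w)
    {v : L} (hv : v ∈ W) (hmove : a v ≠ v) :
    p = 3 ∧ ∀ c : L, a c = c → c ^ (p * p) = 1 → c ^ p = 1 := by
  have hp' := (Fact.out : p.Prime)
  have hinv : ∀ g : MulAut L, ∀ w ∈ W, g w ∈ W := fun g w hw => by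
    rw [hW] at hw ⊢; rw [← map_pow, hw, map_one]
  have hfix : ∀ w ∈ W, a (w⁻¹ * a w) = w⁻¹ * a w := fun w hw => by
    rw [hcomm _ (inv_mem hw) _ (hinv a w hw)]
    exact fix_commutator ha hm W hinv hWcard hw
  obtain ⟨x, hx⟩ := hroot v hv
  have hxp : x ^ p ∈ W := by rw [hx]; exact hv
  have haxp : a x ^ p ∈ W := by rw [← map_pow]; exact hinv a _ hxp
  set d := x⁻¹ * a x with hd
  have hdp : d ^ p = v⁻¹ * a v := by
    rw [hd, (hpow x⁻¹ (a x) (by rw [inv_pow]; exact inv_mem hxp) haxp).1, inv_pow, hx, ← map_pow, hx]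
  have hdW : d ^ p ∈ W := hdp ▸ mul_mem (inv_mem hv) (hinv a v hv)
  have hdne : d ^ p ≠ 1 := fun h => hmove (by
    rw [hdp, inv_mul_eq_one] at h; exact h.symm)
  set e := d⁻¹ * a d with he
  have heW : e ∈ W := by
    rw [hW, he, (hpow d⁻¹ (a d) (by rw [inv_pow]; exact inv_mem hdW) (by rw [← map_pow]; exact hinv a _ hdW)).1,
      inv_pow, ← map_pow, hdp, hfix v hv, inv_mul_cancel]
  -- `d` commutes with `Ω₁`
  have hdc : ∀ w ∈ W, Commute d w := fun w hw => by
    obtain ⟨u, hu⟩ := hroot w hw
    have := (hpow u d (by rw [hu]; exact hw) hdW).2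
    rw [hu] at this
    exact this.symm
  set f := e⁻¹ * a e with hf
  have hfW : f ∈ W := mul_mem (inv_mem heW) (hinv a e heW)
  have hap : (a ^ p) x = x := by rw [← ha, pow_orderOf_eq_one]; rfl
  rw [pow_apply_eq (d := d) (e := e) (f := f) (by rw [hd, mul_inv_cancel_left]) (by rw [he, mul_inv_cancel_left])
    (by rw [hf, mul_inv_cancel_left]) (hfix e heW) (hdc e heW) (hdc f hfW) (hcomm e heW f hfW)] at hap
  have he2 : e ^ p.choose 2 = 1 := by
    obtain ⟨k, hk⟩ := hp'.dvd_choose_self two_ne_zero (lt_of_le_of_ne hp'.two_le (Ne.symm hp))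
    rw [hk, pow_mul, (hW e).1 heW, one_pow]
  have hprod : d ^ p * f ^ p.choose 3 = 1 := by
    have := mul_eq_left.1 hap
    rwa [he2, mul_one] at this
  have h3 : p = 3 := by
    by_contra h3
    have h4 : 3 < p := by have := hp'.two_le; omega
    obtain ⟨k, hk⟩ := hp'.dvd_choose_self (by norm_num : 3 ≠ 0) h4
    rw [hk, pow_mul, (hW f).1 hfW, one_pow, mul_one] at hprod
    exact hdne hprod
  refine ⟨h3, fun c hc hc2 => ?_⟩
  by_contra hc1
  -- the fixed line of `Ω₁`
  have hcW : c ^ p ∈ W := by rw [hW, ← pow_mul]; exact hc2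
  set F := W ⊓
    { carrier := {w | a w = w}
      one_mem' := map_one a
      mul_mem' := fun {y z} (hy : a y = y) (hz : a z = z) => show a (y * z) = y * z by rw [map_mul, hy, hz]
      inv_mem' := fun {y} (hy : a y = y) => show a y⁻¹ = y⁻¹ by rw [map_inv, hy] } with hF
  have hFlt : F < W := lt_of_le_of_ne inf_le_left fun h => hmove (Subgroup.mem_inf.1 (h ▸ hv : v ∈ F)).2
  have hFc : Nat.card F ≤ p := by
    have h := PGroup.mul_card_le_card hL hFlt
    rw [hWcard, pow_two] at h
    exact Nat.le_of_mul_le_mul_left h hp'.pos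
  have hcF : c ^ p ∈ F := ⟨hcW, show a (c ^ p) = c ^ p by rw [map_pow, hc]⟩
  have hdF : d ^ p ∈ F := ⟨hdW, by show a (d ^ p) = d ^ p; rw [hdp]; exact hfix v hv⟩
  have hzF : Subgroup.zpowers (c ^ p) = F := by
    refine Subgroup.eq_of_le_of_card_ge (Subgroup.zpowers_le.2 hcF) ?_
    rw [Nat.card_zpowers, orderOf_eq_prime ((hW _).1 hcW) hc1]
    exact hFc
  obtain ⟨i, hi⟩ := Subgroup.mem_zpowers_iff.1 (hzF.ge hdF)
  have hci : ((c ^ i)⁻¹) ^ p ∈ W := by
    rw [inv_pow, ← zpow_natCast, ← zpow_mul, mul_comm, zpow_mul, zpow_natCast]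
    exact inv_mem (W.zpow_mem hcW i)
  set w := (c ^ i)⁻¹ * d with hw
  have hwW : w ∈ W := by
    rw [hW, hw, (hpow _ d hci hdW).1, inv_pow, ← hi, ← zpow_natCast, ← zpow_mul, mul_comm i, zpow_mul,
      zpow_natCast, inv_mul_cancel]
  have hgen : ∀ q r : L, a q = q → r⁻¹ * a r = (q⁻¹ * r)⁻¹ * a (q⁻¹ * r) := fun q r hq => by
    rw [map_mul, map_inv, hq]
    group
  have hew : e = w⁻¹ * a w := hgen (c ^ i) d (by rw [map_zpow, hc])
  have hef : f = 1 := by
    rw [hf, hew, hfix w hwW, inv_mul_cancel]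
  rw [hef, one_pow, mul_one] at hprod
  exact hdne hprod

end Main

/-- A 3-group of maximal class of order at least `3^5`: an element outside `γ 1` centralising the
last two-step layer has order at least 9. -/
theorem pow_three_ne_one {G : Type*} [Group G] [Finite G] [Fact (Nat.Prime 3)] {n : ℕ} (hn : 5 ≤ n)
    (hG : Nat.card G = 3 ^ n) (hcl : (⊤ : Subgroup G).lowerCentralSeries (n - 2) ≠ ⊥) {s : G}
    (hs1 : s ∉ (⊤ : Subgroup G).lowerCentralSeries 1) (hsD : s ∈ MaxClass.layerCent G (n - 3)) :
    s ^ 3 ≠ 1 := by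
  have hn3 : 3 ≤ n := by omega
  obtain ⟨x, hC, hx⟩ := MaxClass.exists_uniform hn3 hG hcl
  have hx1 := Pearl.not_mem_commutator hn3 hG hcl hC
  -- all two-step centralisers agree
  have hD : ∀ k, 1 ≤ k → k + 1 ≤ n - 2 → MaxClass.layerCent G k = MaxClass.layerCent G 1 := by
    intro k
    induction k using Nat.strong_induction_on with
    | _ k ih =>
      intro hk hkn
      by_cases h1 : k = 1
      · rw [h1]
      by_cases h2 : k = 2
      · subst h2
        exact (MaxClass.layerCent_one_eq_two hn3 hG hcl (by omega)).symm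
      have h := MaxClass.layerCent_periodic hn3 hG hcl hx hC (j := k - 2) (by omega) (by omega)
      rw [show k - 2 + (3 - 1) = k by omega] at h
      rw [h]
      exact ih (k - 2) (by omega) (by omega) (by omega)
  rw [hD (n - 3) (by omega) (by omega)] at hsD
  have hxD : ∀ k, 1 ≤ k → k + 1 ≤ n - 2 → x ∉ MaxClass.layerCent G k := by
    intro k hk hkn h
    obtain ⟨w, hw, hw'⟩ := MaxClass.exists_layer_gen hn3 hG hcl (i := k) (by omega)
    exact Pearl.layer_commutator hn3 hG hcl hC hk hkn hw hw' (MaxClass.mem_layerCent.1 h w hw)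
  have hxD1 := hxD 1 le_rfl (by omega)
  have hsx : s ∉ Subgroup.zpowers x ⊔ (⊤ : Subgroup G).lowerCentralSeries 1 := fun h => by
    obtain ⟨y, hy, c, hc, hyc⟩ := Subgroup.mem_sup_of_normal_right.1 h
    obtain ⟨i, rfl⟩ := Subgroup.mem_zpowers_iff.1 hy
    have hcD := MaxClass.lcs_one_le_layerCent 1 hc
    have hxi : x ^ i ∈ MaxClass.layerCent G 1 := by
      have := mul_mem hsD (inv_mem hcD)
      rwa [← hyc, mul_inv_cancel_right] at this
    have h3 : x ^ (3 : ℕ) ∈ MaxClass.layerCent G 1 :=
      MaxClass.lcs_one_le_layerCent 1 (MaxClass.pow_prime_mem_lcs_one hn3 hG hcl x)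
    by_cases h : (3 : ℤ) ∣ i
    · obtain ⟨l, rfl⟩ := h
      refine hs1 ?_
      rw [← hyc, zpow_mul]
      refine mul_mem (Subgroup.zpow_mem _ ?_ l) hc
      rw [show x ^ (3 : ℤ) = x ^ (3 : ℕ) by norm_cast]
      exact MaxClass.pow_prime_mem_lcs_one hn3 hG hcl x
    · obtain ⟨u, v, huv⟩ := (Nat.prime_iff_prime_int.1 Nat.prime_three).coprime_iff_not_dvd.2 h
      refine hxD1 ?_
      rw [← zpow_one x, ← huv, zpow_add, mul_comm u, zpow_mul, mul_comm v, zpow_mul]
      refine mul_mem (Subgroup.zpow_mem _ ?_ u) (Subgroup.zpow_mem _ hxi v)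
      rw [show x ^ ((3 : ℕ) : ℤ) = x ^ (3 : ℕ) from zpow_natCast x 3]
      exact h3
  intro hs3
  -- `s x` is uniform too
  have hsx1 : s * x ∉ (⊤ : Subgroup G).lowerCentralSeries 1 := fun h => hxD1 (by
    have := mul_mem (inv_mem hsD) (MaxClass.lcs_one_le_layerCent 1 h)
    rwa [inv_mul_cancel_left] at this)
  have hsxc : (s * x) ^ 3 ∈ Subgroup.center G :=
    (MaxClass.uniform_of_not_mem hn3 hG hcl hsx1 fun k hk hkn h => hxD k hk hkn (by
      have := mul_mem (inv_mem (hD k hk hkn ▸ hsD : s ∈ MaxClass.layerCent G k)) h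
      rwa [inv_mul_cancel_left] at this)).2
  -- the centre lies in `γ 3`
  have hz : ∀ z ∈ Subgroup.center G, z ∈ (⊤ : Subgroup G).lowerCentralSeries 3 := by
    have heq : (⊤ : Subgroup G).lowerCentralSeries (n - 2) = Subgroup.center G := by
      refine Subgroup.eq_of_le_of_card_ge (fun z hz => Subgroup.mem_center_iff.2 fun g =>
        (commutatorElement_eq_one_iff_mul_comm.1 ?_).symm) ?_
      · have h1 := Pearl.lcs_succ_mem hz g
        rw [Pearl.lcs_high hn3 hG (by omega : n - 1 ≤ n - 2 + 1), Subgroup.mem_bot] at h1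
        exact h1
      · rw [PGroup.card_center_of_maximal hn3 hG (Pearl.class_eq hn3 hG hcl),
          Pearl.card_lcs hn3 hG hcl (by omega : 1 ≤ n - 2), show n - 1 - (n - 2) = 1 by omega, pow_one]
    intro z hz
    rw [← heq] at hz
    exact Subgroup.lowerCentralSeries_antitone (⊤ : Subgroup G) (by omega : 3 ≤ n - 2) hz
  set u := ⁅x, s⁆ with hu
  have hu1 : u ∈ (⊤ : Subgroup G).lowerCentralSeries 1 := Pearl.lcs_succ_mem (i := 0) (Subgroup.mem_top x) s
  have hu2 : u ∉ (⊤ : Subgroup G).lowerCentralSeries 2 := by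
    intro h
    refine (MaxClass.lcs_succ_lt hn3 hG hcl (i := 1) (by omega)).not_ge ?_
    have htop := MaxClass.closure_pair_eq_top hn3 hG hcl hx1 hsx
    suffices h2 : ⁅Subgroup.closure ({x, s} : Set G), Subgroup.closure ({x, s} : Set G)⁆ ≤
        (⊤ : Subgroup G).lowerCentralSeries (1 + 1) by
      rw [htop] at h2
      rw [Subgroup.top_lowerCentralSeries_one, commutator_def]
      exact h2
    refine Pearl.commutator_closure_le _ _ _ ?_
    rintro a (rfl | rfl) b (rfl | rfl)
    · rw [commutatorElement_self]; exact one_mem _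
    · exact h
    · rw [← commutatorElement_inv]; exact inv_mem h
    · rw [commutatorElement_self]; exact one_mem _
  set π := QuotientGroup.mk' ((⊤ : Subgroup G).lowerCentralSeries 3)
  have h1 : ∀ g ∈ (⊤ : Subgroup G).lowerCentralSeries 3, π g = 1 := fun g hg => (QuotientGroup.eq_one_iff _).2 hg
  set v := ⁅x, u⁆ with hv
  have hvne : π v ≠ 1 := by
    intro h
    refine Pearl.layer_commutator hn3 hG hcl hC le_rfl (by omega) hu1 hu2 ?_
    rw [← commutatorElement_inv, ← hv]
    exact inv_mem ((QuotientGroup.eq_one_iff _).1 h)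
  have hvc : ∀ g, Commute (π v) (π g) := fun g => by
    show _ = _
    rw [← commutatorElement_eq_one_iff_mul_comm, ← map_commutatorElement]
    refine h1 _ (Pearl.lcs_succ_mem ?_ g)
    rw [hv, ← commutatorElement_inv]
    exact inv_mem (Pearl.lcs_succ_mem hu1 x)
  have hus : Commute (π u) (π s) := by
    show _ = _
    rw [← commutatorElement_eq_one_iff_mul_comm, ← map_commutatorElement]
    exact h1 _ (MaxClass.mem_layerCent.1 hsD u hu1)
  have hu3 : π u ^ 3 = 1 := by
    rw [← map_pow]
    exact h1 _ (MaxClass.pow_mem_shift hn3 hG hcl hx hC n 1 le_rfl (by omega) u hu1)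
  have hx3 : π x ^ 3 = 1 := by rw [← map_pow]; exact h1 _ (hz _ hx)
  have hexp : (π s * π x) ^ 3 = π s ^ 3 * π u ^ 3 * π v * π x ^ 3 := by
    have gen : ∀ A B : G, π A * π B = π ⁅A, B⁆ * π B * π A := fun A B => by
      rw [← map_mul, ← map_mul, ← map_mul, commutatorElement_def]; congr 1; group
    have e1 : π x * π s = π u * π s * π x := gen x s
    have e2 : π x * π u = π v * π u * π x := gen x u
    calc (π s * π x) ^ 3 = π s * (π x * π s) * (π x * π s) * π x := by simp only [pow_succ, pow_zero]; group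
      _ = π s * π u * π s * ((π x * π u) * (π s * π x) * π x) := by rw [e1]; group
      _ = π s * π u * π s * π v * π u * (π x * π s) * π x * π x := by rw [e2]; group
      _ = π s * π u * π s * π v * π u * π u * π s * π x ^ 3 := by rw [e1]; simp only [pow_succ, pow_zero]; group
      _ = π s ^ 3 * π u ^ 3 * π v * π x ^ 3 := by
        congr 1
        have a1 := hus.eq
        have a2 := (hvc s).eq
        have a3 := (hvc u).eq
        calc π s * π u * π s * π v * π u * π u * π s
            = π s * (π u * π s) * (π v * (π u * π u * π s)) := by group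
          _ = π s * (π s * π u) * ((π u * π u * π s) * π v) := by
            rw [a1, (((hvc u).mul_right (hvc u)).mul_right (hvc s)).eq]
          _ = π s * π s * (π u * π u * π u * π s) * π v := by group
          _ = π s * π s * (π s * (π u * π u * π u)) * π v := by rw [((hus.mul_left hus).mul_left hus).eq]
          _ = π s ^ 3 * π u ^ 3 * π v := by simp only [pow_succ, pow_zero]; group
  have h2 : (π s * π x) ^ 3 = 1 := by rw [← map_mul, ← map_pow]; exact h1 _ (hz _ hsxc)
  rw [h2, ← map_pow, hs3, map_one, hu3, hx3, one_mul, one_mul, mul_one] at hexp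
  exact hvne hexp.symm

/-- Let p be an odd prime and L a finite metacyclic p-group with no cyclic subgroup of index p, and let a be an automorphism of L of order p. Then a moves some element of order p of L if and only if p = 3 and the semidirect product L ⋊ ⟨a⟩ (of order 3·#L) has maximal class, i.e. nilpotency class m where #L = 3^m. -/
theorem result {L : Type*} [Group L] [Finite L] {p : ℕ} [Fact p.Prime]
    (hp : p ≠ 2) (hL : IsPGroup p L) (hmc : Cfsg.IsMetacyclic L) (hnc : ∀ C : Subgroup L, IsCyclic C → C.index ≠ p)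
    (a : MulAut L) (ha : orderOf a = p) (m : ℕ) (hm : Nat.card L = p ^ m) :
    (∃ x : L, orderOf x = p ∧ a x ≠ x) ↔
    (p = 3 ∧ Group.nilpotencyClass (SemidirectProduct L ↥(Subgroup.zpowers a) (Subgroup.zpowers a).subtype) = m) := by
  have hp' := (Fact.out : p.Prime)
  have hne : Nat.card L ≠ 1 := fun h => by
    have := (Nat.card_eq_one_iff_unique.1 h).1
    have : a = 1 := MulEquiv.ext fun x => Subsingleton.elim _ _
    rw [this, orderOf_one] at ha
    exact hp'.ne_one ha.symm
  obtain ⟨W, hW, hWn, hWcard, hcomm, hroot, hpow⟩ := exists_omega hp hL hmc hne hnc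
  have := hWn
  set φ := (Subgroup.zpowers a).subtype
  have : Finite (SemidirectProduct L ↥(Subgroup.zpowers a) φ) := Finite.of_equiv _ SemidirectProduct.equivProd.symm
  have hG : Nat.card (SemidirectProduct L ↥(Subgroup.zpowers a) φ) = p ^ (m + 1) := by
    rw [Nat.card_congr SemidirectProduct.equivProd, Nat.card_prod, Nat.card_zpowers, ha, hm, pow_succ]
  let a' : ↥(Subgroup.zpowers a) := ⟨a, Subgroup.mem_zpowers a⟩
  constructor
  · rintro ⟨v, hv, hmove⟩
    obtain ⟨h3, hfix⟩ := three_of_moves hp hL ha hm W hW hWcard hcomm hroot hpow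
      ((hW v).2 (hv ▸ pow_orderOf_eq_one v)) hmove
    refine ⟨h3, ?_⟩
    -- the fixed points have order `p`
    let Fx : Subgroup L :=
      { carrier := {w | a w = w}
        one_mem' := map_one a
        mul_mem' := fun {y z} (hy : a y = y) (hz : a z = z) => show a (y * z) = y * z by rw [map_mul, hy, hz]
        inv_mem' := fun {y} (hy : a y = y) => show a y⁻¹ = y⁻¹ by rw [map_inv, hy] }
    have hFW : Fx ≤ W := by
      intro c (hc : a c = c)
      obtain ⟨k, hk⟩ := hL c
      suffices h : ∀ k, ∀ c, a c = c → c ^ p ^ k = 1 → c ^ p = 1 from (hW c).2 (h k c hc hk)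
      intro k
      induction k with
      | zero => intro c _ h; rw [pow_zero, pow_one] at h; rw [h, one_pow]
      | succ k ih =>
        intro c hc h
        refine hfix c hc ?_
        rw [pow_mul]
        exact ih (c ^ p) (by rw [map_pow, hc]) (by rw [← pow_mul, ← pow_succ']; exact h)
    have hFc : Nat.card Fx = p := by
      have hlt : Fx < W := lt_of_le_of_ne hFW fun h => hmove (h.ge ((hW v).2 (hv ▸ pow_orderOf_eq_one v)) : v ∈ Fx)
      have h := PGroup.mul_card_le_card hL hlt
      rw [hWcard, pow_two] at h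
      have h1 := Nat.le_of_mul_le_mul_left h hp'.pos
      have hvW : v ∈ W := (hW v).2 (hv ▸ pow_orderOf_eq_one v)
      have hmem : a v * v⁻¹ ∈ Fx := fix_commutator ha hm W
        (fun g w hw => by rw [hW] at hw ⊢; rw [← map_pow, hw, map_one]) hWcard hvW
      obtain ⟨k, hk⟩ := (hL.to_subgroup Fx).exists_card_eq
      refine le_antisymm h1 ?_
      rw [hk]
      refine Nat.le_self_pow (fun h0 => hmove ?_) p
      rw [h0, pow_zero, Subgroup.card_eq_one] at hk
      rw [hk, Subgroup.mem_bot, mul_inv_eq_one] at hmem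
      exact hmem
    set A := Subgroup.centralizer ({SemidirectProduct.inr a'} : Set (SemidirectProduct L ↥(Subgroup.zpowers a) φ))
    have hmemA : ∀ g, g ∈ A ↔ a g.left = g.left := by
      intro g
      rw [Subgroup.mem_centralizer_singleton_iff]
      constructor
      · intro h
        have h1 := congrArg SemidirectProduct.left h
        simpa [φ, a'] using h1.symm
      · intro h
        refine SemidirectProduct.ext ?_ ?_
        · simpa [φ, a'] using h.symm
        · obtain ⟨i, hi⟩ := Subgroup.mem_zpowers_iff.1 g.right.2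
          rw [SemidirectProduct.mul_right, SemidirectProduct.mul_right, SemidirectProduct.right_inr]
          exact Subtype.ext (by
            show (g.right : MulAut L) * a = a * (g.right : MulAut L)
            rw [← hi]; exact (Commute.zpow_self a i).eq)
    have hA : Nat.card A = p ^ 2 := by
      let f : A ≃ Fx × ↥(Subgroup.zpowers a) :=
        { toFun := fun g => (⟨g.1.left, (hmemA g.1).1 g.2⟩, g.1.right)
          invFun := fun q => ⟨⟨q.1.1, q.2⟩, (hmemA _).2 q.1.2⟩
          left_inv := fun g => rfl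
          right_inv := fun q => rfl }
      rw [Nat.card_congr f, Nat.card_prod, hFc, Nat.card_zpowers, ha, pow_two]
    have hCA : Subgroup.centralizer (A : Set (SemidirectProduct L ↥(Subgroup.zpowers a) φ)) = A := by
      refine le_antisymm ?_ fun g hg => Subgroup.mem_centralizer_iff.2 fun b hb => Pearl.comm_of_card_sq A hA b hb g hg
      refine fun g hg => Subgroup.mem_centralizer_singleton_iff.2 (Subgroup.mem_centralizer_iff.1 hg _ ?_).symm
      exact Subgroup.mem_centralizer_singleton_iff.2 rfl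
    rw [S0112.result (m + 1) hG A hA hCA, Nat.add_sub_cancel]
  · rintro ⟨rfl, hclass⟩
    by_contra hno
    push Not at hno
    have hfixW : ∀ w ∈ W, a w = w := by
      intro w hw
      by_cases h1 : w = 1
      · rw [h1, map_one]
      · exact hno w (orderOf_eq_prime ((hW w).1 hw) h1)
    -- `|L| ≥ 3^4`
    obtain ⟨w, hwW, hw1⟩ : ∃ w ∈ W, w ≠ 1 := by
      by_contra h
      push Not at h
      have : W = ⊥ := (Subgroup.eq_bot_iff_forall _).2 h
      rw [this, Subgroup.card_bot] at hWcard
      norm_num at hWcard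
    obtain ⟨x, hx⟩ := hroot w hwW
    have hx9 : orderOf x = 3 ^ 2 := by
      refine orderOf_eq_prime_pow (by rw [pow_one, hx]; exact hw1) ?_
      rw [pow_two, pow_mul, hx]
      exact (hW w).1 hwW
    have hm4 : 4 ≤ m := by
      have h := orderOf_dvd_natCard x
      rw [hx9, hm] at h
      have h2 := (Nat.pow_dvd_pow_iff_le_right (by norm_num : 1 < 3)).1 h
      by_contra h4
      have hix := (Subgroup.zpowers x).card_mul_index
      rw [Nat.card_zpowers, hx9, hm] at hix
      rcases (show m = 2 ∨ m = 3 by omega) with rfl | rfl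
      · refine not_isCyclic hL hne hnc (isCyclic_of_orderOf_eq_card x ?_)
        rw [hx9, hm]
      · refine hnc (Subgroup.zpowers x) inferInstance ?_
        omega
    have hn : 5 ≤ m + 1 := by omega
    have hcl := PGroup.lcs_ne_bot_of_maximal (by omega : 3 ≤ m + 1) hG (by rw [hclass]; omega)
    set s : SemidirectProduct L ↥(Subgroup.zpowers a) φ := SemidirectProduct.inr a'
    have hs1 : s ∉ (⊤ : Subgroup (SemidirectProduct L ↥(Subgroup.zpowers a) φ)).lowerCentralSeries 1 := by
      intro h
      rw [Subgroup.top_lowerCentralSeries_one] at h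
      have hker : commutator (SemidirectProduct L ↥(Subgroup.zpowers a) φ) ≤
          (SemidirectProduct.rightHom (φ := φ)).ker := by
        rw [commutator_def, Subgroup.commutator_le]
        intro g _ g' _
        rw [MonoidHom.mem_ker, map_commutatorElement, commutatorElement_eq_one_iff_mul_comm]
        exact mul_comm' _ _
      have h1 : a' = 1 := by simpa [s] using hker h
      have h2 : a = 1 := congrArg Subtype.val h1
      rw [h2, orderOf_one] at ha
      norm_num at ha
    -- `Ω₁` is the last two-step layer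
    set E := W.map (SemidirectProduct.inl (φ := φ))
    have : E.Normal := inl_normal φ W fun g v hv => by rw [hW] at hv ⊢; rw [← map_pow, hv, map_one]
    have hE : E = (⊤ : Subgroup (SemidirectProduct L ↥(Subgroup.zpowers a) φ)).lowerCentralSeries (m + 1 - 3) := by
      have hEc : Nat.card E = 3 ^ 2 := by rw [Subgroup.card_map_of_injective SemidirectProduct.inl_injective, hWcard]
      have h := E.card_mul_index
      rw [hEc, hG, show (3 : ℕ) ^ (m + 1) = 3 ^ 2 * 3 ^ (m - 1) by rw [← pow_add]; congr 1; omega] at h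
      have h' := PGroup.normal_eq_lcs_of_maximal (by omega : 3 ≤ m + 1) hG (by rw [hclass]; omega) E
        (r := m - 1) (by omega) (Nat.eq_of_mul_eq_mul_left (by norm_num) h)
      rw [h', show m - 1 - 1 = m + 1 - 3 by omega]
    have hsD : s ∈ MaxClass.layerCent (SemidirectProduct L ↥(Subgroup.zpowers a) φ) (m + 1 - 3) := by
      refine MaxClass.mem_layerCent.2 fun g hg => ?_
      rw [← hE] at hg
      obtain ⟨w', hw', rfl⟩ := hg
      have h1 : (SemidirectProduct.inl (φ a' w') : SemidirectProduct L ↥(Subgroup.zpowers a) φ) =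
          s * SemidirectProduct.inl w' * s⁻¹ := by
        rw [show s⁻¹ = SemidirectProduct.inr a'⁻¹ from (map_inv SemidirectProduct.inr a').symm]
        exact SemidirectProduct.inl_aut (φ := φ) a' w'
      rw [show φ a' w' = w' from hfixW w' hw', eq_mul_inv_iff_mul_eq] at h1
      rw [commutatorElement_eq_one_iff_mul_comm.2 h1]
      exact one_mem _
    refine pow_three_ne_one hn hG hcl hs1 hsD ?_
    rw [show s = SemidirectProduct.inr a' from rfl, ← map_pow]
    rw [show a' ^ 3 = 1 from Subtype.ext (by show a ^ 3 = 1; rw [← ha, pow_orderOf_eq_one]), map_one]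

end Cfsg.Agent.S4079
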