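import Cfsg.Statements.S4080
import Mathlib.LinearAlgebra.Matrix.Charpoly.Coeff
import Mathlib.LinearAlgebra.Matrix.Determinant.Basic
import Mathlib.GroupTheory.OrderOfElement

set_option autoImplicit false
open Cfsg

namespace Cfsg.Agent.S4080

open Matrix

theorem sq_eq_zero_of_pow {K : Type*} [Field K] (N : Matrix (Fin 2) (Fin 2) K) {k : ℕ}
    (h : N ^ (k + 1) = 0) : N * N = 0 := by
  have hdet : N.det = 0 := by
    have := congrArg Matrix.det h
    rw [Matrix.det_pow, Matrix.det_zero] at this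
    exact eq_zero_of_pow_eq_zero this
  rw [Matrix.det_fin_two] at hdet
  have hsq : N * N = (N 0 0 + N 1 1) • N := by
    ext i j
    fin_cases i <;> fin_cases j <;>
      simp [Matrix.mul_apply, Fin.sum_univ_two] <;> first | linear_combination hdet | linear_combination -hdet | ring1
  have hpow : ∀ j : ℕ, N ^ (j + 1) = (N 0 0 + N 1 1) ^ j • N := by
    intro j
    induction j with
    | zero => simp
    | succ j ih => rw [pow_succ, ih, Matrix.smul_mul, hsq, smul_smul, ← pow_succ]
  rw [hpow] at h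
  rcases smul_eq_zero.mp h with h0 | h0
  · rw [hsq, eq_zero_of_pow_eq_zero h0, zero_smul]
  · rw [h0, zero_mul]

theorem one_add_pow_expand {S : Type*} [Semiring S] (N : S) (h4 : N * N * (N * N) = 0) : ∀ k : ℕ,
    (1 + N) ^ k = 1 + k • N + k.choose 2 • (N * N) + k.choose 3 • (N * N * N) := by
  intro k
  induction k with
  | zero => simp
  | succ k ih =>
    rw [pow_succ, ih, Nat.choose_succ_succ' k 2, Nat.choose_succ_succ' k 1, Nat.choose_one_right]
    simp only [mul_add, mul_one, add_mul, smul_mul_assoc, one_mul, add_smul, one_smul, mul_assoc] at h4 ⊢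
    rw [h4, smul_zero, add_zero]
    abel

theorem aux {p : ℕ} [Fact p.Prime] (hp : 3 < p)
    (a : MulAut (Multiplicative (ZMod (p ^ 2) × ZMod (p ^ 2)))) (ha : orderOf a = p)
    (x : Multiplicative (ZMod (p ^ 2) × ZMod (p ^ 2))) (hx : orderOf x = p) : a x = x := by
  have hpp : p.Prime := Fact.out
  haveI : NeZero (p ^ 2) := ⟨pow_ne_zero _ hpp.ne_zero⟩
  let A : ZMod (p ^ 2) × ZMod (p ^ 2) →+ ZMod (p ^ 2) × ZMod (p ^ 2) :=
    { toFun := fun v => Multiplicative.toAdd (a (Multiplicative.ofAdd v))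
      map_zero' := by simp
      map_add' := fun u v => by simp [ofAdd_add, map_mul] }
  have hA : ∀ (z : ZMod (p ^ 2)) (v : ZMod (p ^ 2) × ZMod (p ^ 2)), A (z • v) = z • A v :=
    fun z v => ZMod.map_smul A z v
  let N : Matrix (Fin 2) (Fin 2) (ZMod (p ^ 2)) :=
    !![(A (1, 0)).1 - 1, (A (0, 1)).1; (A (1, 0)).2, (A (0, 1)).2 - 1]
  let e : ZMod (p ^ 2) × ZMod (p ^ 2) → Fin 2 → ZMod (p ^ 2) := fun v => ![v.1, v.2]
  have he : ∀ v, e (A v) = (1 + N) *ᵥ e v := by
    intro v
    have hv : v = v.1 • ((1 : ZMod (p ^ 2)), (0 : ZMod (p ^ 2))) + v.2 • ((0 : ZMod (p ^ 2)), (1 : ZMod (p ^ 2))) := by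
      simp
    have h1 : A v = v.1 • A (1, 0) + v.2 • A (0, 1) := by
      conv_lhs => rw [hv]
      rw [map_add, hA, hA]
    funext i
    fin_cases i <;>
      simp [e, N, h1, Matrix.mulVec, dotProduct, Fin.sum_univ_two, Matrix.one_apply] <;> ring
  have hpw : ∀ (k : ℕ) v, e (Multiplicative.toAdd ((a ^ k) (Multiplicative.ofAdd v))) = (1 + N) ^ k *ᵥ e v := by
    intro k
    induction k with
    | zero => intro v; simp
    | succ k ih =>
      intro v
      rw [pow_succ' a, MulAut.mul_apply, pow_succ' (1 + N), ← Matrix.mulVec_mulVec, ← ih, ← he]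
      rfl
  have hone : (1 + N) ^ p = 1 := by
    have hpa : a ^ p = 1 := by have h := pow_orderOf_eq_one a; rwa [ha] at h
    ext i j
    have h := congrFun (hpw p (if j = 0 then (1, 0) else (0, 1))) i
    rw [hpa] at h
    fin_cases i <;> fin_cases j <;>
      simp [e, Matrix.mulVec, dotProduct, Fin.sum_univ_two] at h ⊢ <;> exact h.symm
  let f : ZMod (p ^ 2) →+* ZMod p := ZMod.castHom (dvd_pow_self p two_ne_zero) (ZMod p)
  have hNbar : f.mapMatrix N * f.mapMatrix N = 0 := by
    refine sq_eq_zero_of_pow _ (k := p - 1) ?_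
    rw [Nat.sub_add_cancel hpp.pos]
    have h := congrArg f.mapMatrix hone
    rw [map_pow, map_add, map_one] at h
    haveI : CharP (Matrix (Fin 2) (Fin 2) (ZMod p)) p := Matrix.charP p
    rw [add_pow_char_of_commute p (Commute.one_left _), one_pow] at h
    simpa using h
  have hker : ∀ z, f z = 0 → ∃ w, z = (p : ZMod (p ^ 2)) * w := by
    intro z hz
    have h : ((z.val : ℕ) : ZMod p) = 0 := by rw [← hz, ← map_natCast f z.val, ZMod.natCast_zmod_val]
    obtain ⟨t, ht⟩ := (ZMod.natCast_eq_zero_iff _ _).mp h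
    exact ⟨t, by rw [← ZMod.natCast_zmod_val z, ht, Nat.cast_mul]⟩
  have hB : ∀ i j, ∃ w, (N * N) i j = (p : ZMod (p ^ 2)) * w := fun i j => hker _ (by
    have := congrFun (congrFun hNbar i) j
    rw [← map_mul] at this
    simpa using this)
  choose B hB using hB
  have hNN : N * N = (p : ZMod (p ^ 2)) • Matrix.of B := by ext i j; simp [hB]
  have hp2 : (p : ZMod (p ^ 2)) * (p : ZMod (p ^ 2)) = 0 := by
    rw [← Nat.cast_mul, ← pow_two]; exact ZMod.natCast_self _
  have h4 : N * N * (N * N) = 0 := by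
    rw [hNN, Matrix.smul_mul, Matrix.mul_smul, smul_smul, hp2, zero_smul]
  have hpN : (p : ZMod (p ^ 2)) • N = 0 := by
    have h := one_add_pow_expand N h4 p
    rw [hone] at h
    have hz : ∀ k, 0 < k → k < p → ∀ M : Matrix (Fin 2) (Fin 2) (ZMod (p ^ 2)),
        p.choose k • (N * N * M) = 0 := by
      intro k hk hkp M
      obtain ⟨t, ht⟩ := hpp.dvd_choose_self hk.ne' hkp
      rw [ht, mul_comm, mul_smul, ← Nat.cast_smul_eq_nsmul (ZMod (p ^ 2)) p, hNN, Matrix.smul_mul, smul_smul,
        hp2, zero_smul, smul_zero]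
    have hz2 := hz 2 (by norm_num) (by omega) 1
    rw [mul_one] at hz2
    rw [hz2, hz 3 (by norm_num) hp N, add_zero, add_zero] at h
    rw [Nat.cast_smul_eq_nsmul]
    exact left_eq_add.mp h
  have hx' : x ^ p = 1 := by have h := pow_orderOf_eq_one x; rwa [hx] at h
  have hxv : ∀ z : ZMod (p ^ 2), (p : ZMod (p ^ 2)) * z = 0 → ∃ w, z = (p : ZMod (p ^ 2)) * w := by
    intro z hz
    rw [← ZMod.natCast_zmod_val z, ← Nat.cast_mul, ZMod.natCast_eq_zero_iff] at hz
    obtain ⟨t, ht⟩ := Nat.dvd_of_mul_dvd_mul_left hpp.pos ((dvd_of_eq (pow_two p).symm).trans hz)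
    exact ⟨t, by rw [← ZMod.natCast_zmod_val z, ht, Nat.cast_mul]⟩
  have hxa := congrArg Multiplicative.toAdd hx'
  rw [toAdd_pow, toAdd_one, Prod.ext_iff] at hxa
  simp only [Prod.smul_fst, Prod.smul_snd, nsmul_eq_mul] at hxa
  obtain ⟨w1, hw1⟩ := hxv _ hxa.1
  obtain ⟨w2, hw2⟩ := hxv _ hxa.2
  have h0 : N *ᵥ e (Multiplicative.toAdd x) = 0 := by
    have : e (Multiplicative.toAdd x) = (p : ZMod (p ^ 2)) • ![w1, w2] := by
      funext i; fin_cases i <;> simp [e, hw1, hw2]
    rw [this, Matrix.mulVec_smul, ← Matrix.smul_mulVec, hpN, Matrix.zero_mulVec]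
  have h1 := he (Multiplicative.toAdd x)
  rw [Matrix.add_mulVec, Matrix.one_mulVec, h0, add_zero] at h1
  have h2 : A (Multiplicative.toAdd x) = Multiplicative.toAdd x := by
    have e0 := congrFun h1 0
    have e1 := congrFun h1 1
    simp [e] at e0 e1
    exact Prod.ext e0 e1
  exact Multiplicative.toAdd.injective h2

/-- Let p > 3 be a prime and L the direct product of two cyclic groups of order p². Every automorphism of L of order p fixes every element of order p of L. -/
theorem result {p : ℕ} [Fact p.Prime] (hp : 3 < p)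
    (a : MulAut (Multiplicative (ZMod (p ^ 2) × ZMod (p ^ 2)))) (ha : orderOf a = p)
    (x : Multiplicative (ZMod (p ^ 2) × ZMod (p ^ 2))) (hx : orderOf x = p) : a x = x := by
  exact aux hp a ha x hx

end Cfsg.Agent.S4080
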