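-- S4081
import Cfsg.Statements.S4081
import Cfsg.Agent.Lib.ThreeOrbits.Linear
import Cfsg.Agent.Lib.CharInt.Burnside
import Mathlib.GroupTheory.Sylow
import Mathlib.GroupTheory.Solvable

set_option autoImplicit false
set_option linter.style.haveILetI false
open Cfsg

namespace Cfsg.Agent.S4081


open scoped IsMulCommutative
open Cfsg.Agent.ThreeOrbits

universe u

variable {G : Type u} [Group G]

theorem mk_eq_mk {g h : G} :
    (Quotient.mk'' g : MulAction.orbitRel.Quotient (MulAut G) G) = Quotient.mk'' h ↔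
      ∃ σ : MulAut G, σ h = g := by
  rw [Quotient.eq'']
  exact Iff.rfl

theorem orderOf_aut (σ : MulAut G) (g : G) : orderOf (σ g) = orderOf g :=
  orderOf_injective σ.toMonoidHom σ.injective g

/-- The module structure of an elementary abelian group written additively. -/
@[reducible] def zmodMod {p : ℕ} {A : Subgroup G} [IsMulCommutative A] (h : ∀ a ∈ A, a ^ p = 1) :
    Module (ZMod p) (Additive A) :=
  AddCommGroup.zmodModule fun u => by
    apply Additive.toMul.injective
    rw [toMul_nsmul, toMul_zero]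
    exact Subtype.ext (h _ (Additive.toMul u).2)

section Op

variable {p : ℕ} (A : Subgroup G) [A.Normal] [IsMulCommutative A] [Module (ZMod p) (Additive A)]

/-- Conjugation by `x`, as an operator on `A`. -/
def conjOp (x : G) : Module.End (ZMod p) (Additive A) :=
  AddMonoidHom.toZModLinearMap p
    (MonoidHom.toAdditive ((MulAut.conjNormal x : A ≃* A).toMonoidHom))

theorem conjOp_apply (x : G) (u : Additive A) :
    conjOp (p := p) A x u = Additive.ofMul ((MulAut.conjNormal x : A ≃* A) (Additive.toMul u)) :=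
  rfl

theorem coe_conjOp (x : G) (u : Additive A) :
    ((Additive.toMul (conjOp (p := p) A x u) : A) : G) = x * (Additive.toMul u : A) * x⁻¹ :=
  MulAut.conjNormal_apply ..

theorem conjOp_mul (x y : G) : conjOp (p := p) A (x * y) = conjOp A x * conjOp A y := by
  refine LinearMap.ext fun u => ?_
  apply Additive.toMul.injective
  refine Subtype.ext ?_
  rw [Module.End.mul_apply, coe_conjOp, coe_conjOp, coe_conjOp]
  group

theorem conjOp_one : conjOp (p := p) A (1 : G) = 1 := by
  refine LinearMap.ext fun u => ?_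
  apply Additive.toMul.injective
  exact Subtype.ext (by rw [coe_conjOp, one_mul, inv_one, mul_one]; rfl)

theorem conjOp_pow (x : G) (n : ℕ) : conjOp (p := p) A (x ^ n) = conjOp A x ^ n := by
  induction n with
  | zero => simpa using conjOp_one A
  | succ n ih => rw [pow_succ, pow_succ, conjOp_mul, ih]

theorem conjOp_pow_eq_one {x : G} {q : ℕ} (hx : x ^ q = 1) : conjOp (p := p) A x ^ q = 1 := by
  rw [← conjOp_pow, hx, conjOp_one]

theorem conjOp_fix {x : G} (h : ∀ a : A, a ≠ 1 → x * (a : G) * x⁻¹ ≠ (a : G)) (u : Additive A)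
    (hu : conjOp (p := p) A x u = u) : u = 0 := by
  by_contra h0
  refine h (Additive.toMul u) (fun e => h0 (Additive.toMul.injective (by rw [e, toMul_zero]))) ?_
  rw [← coe_conjOp (p := p), hu]

end Op

/-- The data of `G = A ⋊ ⟨x⟩`. -/
structure IsSplit (A : Subgroup G) (x : G) (q : ℕ) : Prop where
  pow_q : x ^ q = 1
  dec : ∀ g : G, ∃ (a : A) (m : ℕ), g = (a : G) * x ^ m
  uniq : ∀ m : ℕ, x ^ m ∈ A → q ∣ m

variable {A : Subgroup G} {x : G} {q : ℕ}

theorem IsSplit.eq_of_eq (h : IsSplit A x q) (hq : 0 < q) {a b : A} {m l : ℕ}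
    (he : (a : G) * x ^ m = b * x ^ l) : a = b ∧ m ≡ l [MOD q] := by
  have h1 : x ^ (m + l * (q - 1)) ∈ A := by
    have e : (a : G)⁻¹ * b = x ^ (m + l * (q - 1)) := by
      have e2 : x ^ l * x ^ (l * (q - 1)) = 1 := by
        rw [← pow_add, show l + l * (q - 1) = q * l by
          cases q with
          | zero => omega
          | succ k => simp; ring, pow_mul, h.pow_q, one_pow]
      calc (a : G)⁻¹ * b = (a : G)⁻¹ * (b * x ^ l) * x ^ (l * (q - 1)) := by
            rw [mul_assoc, mul_assoc, e2, mul_one]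
        _ = x ^ (m + l * (q - 1)) := by rw [← he, inv_mul_cancel_left, pow_add]
    rw [← e]
    exact A.mul_mem (A.inv_mem a.2) b.2
  have hm : m ≡ l [MOD q] := by
    have h2 := Nat.modEq_zero_iff_dvd.2 (h.uniq _ h1)
    have h3 : m + l * (q - 1) + l ≡ 0 + l [MOD q] := h2.add_right l
    rw [zero_add, add_assoc, show l * (q - 1) + l = q * l by
      cases q with
      | zero => omega
      | succ k => simp; ring] at h3
    exact (Nat.ModEq.symm (by
      simpa [Nat.ModEq, Nat.add_mul_mod_self_left] using Nat.ModEq.refl (n := q) m)).trans h3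
  refine ⟨Subtype.ext ?_, hm⟩
  have : x ^ m = x ^ l := by rw [pow_eq_pow_mod m h.pow_q, pow_eq_pow_mod l h.pow_q, hm]
  rw [this] at he
  exact mul_right_cancel he

section Extend

variable [Finite G] [A.Normal] [IsMulCommutative A] {p : ℕ} [Module (ZMod p) (Additive A)]

theorem IsSplit.exists_aut [Fact q.Prime] (h : IsSplit A x q) (T : Additive A ≃+ Additive A) (n : ℕ)
    (hn : ¬ q ∣ n) (hT : ∀ u, T (conjOp (p := p) A x u) = (conjOp (p := p) A x ^ n) (T u)) :
    ∃ σ : MulAut G, (∀ a : A, σ (a : G) = (Additive.toMul (T (Additive.ofMul a)) : A)) ∧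
      σ x = x ^ n := by
  classical
  have hq := (Fact.out (p := q.Prime))
  let t : A → A := fun a => Additive.toMul (T (Additive.ofMul a))
  have t_one : t 1 = 1 := by simp [t]
  have t_mul : ∀ a b, t (a * b) = t a * t b := fun a b => by simp [t]
  have hTm : ∀ m u, T ((conjOp (p := p) A x ^ m) u) = (conjOp (p := p) A x ^ (n * m)) (T u) := by
    intro m
    induction m with
    | zero => intro u; simp
    | succ m ih =>
      intro u
      rw [pow_succ, Module.End.mul_apply, ih, hT, ← Module.End.mul_apply, ← pow_add, Nat.mul_succ]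
  have t_conj : ∀ (m : ℕ) (b : A), ((t ((MulAut.conjNormal (x ^ m) : A ≃* A) b) : A) : G) =
      x ^ (n * m) * (t b : G) * (x ^ (n * m))⁻¹ := by
    intro m b
    show ((Additive.toMul (T (conjOp (p := p) A (x ^ m) (Additive.ofMul b))) : A) : G) = _
    rw [conjOp_pow, hTm, ← conjOp_pow, coe_conjOp]
  choose af mf hdec using h.dec
  let f : G → G := fun g => (t (af g) : G) * x ^ (n * mf g)
  have hf : ∀ (a : A) (m : ℕ), f ((a : G) * x ^ m) = (t a : G) * x ^ (n * m) := by
    intro a m
    obtain ⟨e1, e2⟩ := h.eq_of_eq hq.pos (hdec ((a : G) * x ^ m)).symm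
    show (t (af _) : G) * x ^ (n * mf _) = _
    rw [e1, pow_eq_pow_mod (n * mf _) h.pow_q, pow_eq_pow_mod (n * m) h.pow_q, e2.mul_left n]
  have hfmul : ∀ g k, f (g * k) = f g * f k := by
    intro g k
    obtain ⟨a, m, rfl⟩ := h.dec g
    obtain ⟨b, l, rfl⟩ := h.dec k
    have e : (a : G) * x ^ m * ((b : G) * x ^ l) =
        ((a * (MulAut.conjNormal (x ^ m) : A ≃* A) b : A) : G) * x ^ (m + l) := by
      rw [Subgroup.coe_mul, MulAut.conjNormal_apply, pow_add]
      group
    rw [e, hf, hf, hf, t_mul, Subgroup.coe_mul, t_conj, mul_add, pow_add]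
    group
  let φ : G →* G := MonoidHom.mk' f hfmul
  have hinj : Function.Injective φ := by
    rw [injective_iff_map_eq_one]
    intro g hg
    obtain ⟨a, m, rfl⟩ := h.dec g
    have h1 : (t a : G) * x ^ (n * m) = ((1 : A) : G) * x ^ 0 := by
      have hg' : f ((a : G) * x ^ m) = 1 := hg
      rw [← hf a m, hg']; simp
    obtain ⟨e1, e2⟩ := h.eq_of_eq hq.pos h1
    have hm : q ∣ m := (hq.dvd_mul.1 (Nat.modEq_zero_iff_dvd.1 e2)).resolve_left hn
    obtain ⟨c, rfl⟩ := hm
    have ha : a = 1 := by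
      refine Additive.ofMul.injective (T.injective (Additive.toMul.injective ?_))
      show t a = t 1
      rw [e1, t_one]
    rw [ha, pow_mul, h.pow_q, one_pow, OneMemClass.coe_one, one_mul]
  refine ⟨MulEquiv.ofBijective φ (Finite.injective_iff_bijective.1 hinj), fun a => ?_, ?_⟩
  · show f a = _
    rw [show (a : G) = (a : G) * x ^ 0 by simp, hf, Nat.mul_zero, pow_zero, mul_one]
  · show f x = _
    rw [show x = ((1 : A) : G) * x ^ 1 by simp, hf, t_one]
    simp

end Extend

theorem exists_other_prime [Finite G] (hnpp : ¬ IsPrimePow (Nat.card G)) (hnt : Nat.card G ≠ 1) :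
    ∃ a b : G, (orderOf a).Prime ∧ (orderOf b).Prime ∧ orderOf a ≠ orderOf b := by
  obtain ⟨p, hp, hpd⟩ := Nat.exists_prime_and_dvd hnt
  have : ∃ r : ℕ, r.Prime ∧ r ∣ Nat.card G ∧ r ≠ p := by
    by_contra hcon
    push Not at hcon
    refine hnpp ((isPrimePow_nat_iff _).2 ⟨p, (Nat.card G).factorization p, hp,
      hp.factorization_pos_of_dvd Nat.card_pos.ne' hpd, ?_⟩)
    exact (Nat.eq_pow_of_factorization_eq_single Nat.card_pos.ne' (Finsupp.ext fun r => by
      by_cases hr : r = p
      · subst hr; simp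
      · rw [Finsupp.single_eq_of_ne hr]
        by_contra h0
        exact hr (hcon r (Nat.prime_of_mem_primeFactors (Finsupp.mem_support_iff.2 h0))
          (Nat.dvd_of_mem_primeFactors (Finsupp.mem_support_iff.2 h0))))).symm
  obtain ⟨r, hr, hrd, hrp⟩ := this
  haveI := Fact.mk hp
  haveI := Fact.mk hr
  obtain ⟨a, ha⟩ := exists_prime_orderOf_dvd_card' p hpd
  obtain ⟨b, hb⟩ := exists_prime_orderOf_dvd_card' r hrd
  exact ⟨a, b, ha ▸ hp, hb ▸ hr, by rw [ha, hb]; exact hrp.symm⟩

/-- With three orbits, an order is a prime and determines the orbit. -/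
theorem three_orbits_structure [Finite G]
    (h3 : Nat.card (MulAction.orbitRel.Quotient (MulAut G) G) = 3) {a b : G}
    (ha : (orderOf a).Prime) (hb : (orderOf b).Prime) (hab : orderOf a ≠ orderOf b) (g : G) (hg : g ≠ 1) :
    (∃ σ : MulAut G, σ a = g) ∨ ∃ σ : MulAut G, σ b = g := by
  let f : Fin 3 → MulAction.orbitRel.Quotient (MulAut G) G :=
    fun i => Quotient.mk'' (![1, a, b] i)
  have ha1 : a ≠ 1 := fun e => by rw [e, orderOf_one] at ha; exact Nat.not_prime_one ha
  have hb1 : b ≠ 1 := fun e => by rw [e, orderOf_one] at hb; exact Nat.not_prime_one hb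
  have hinj : Function.Injective f := by
    intro i j h
    obtain ⟨σ, hσ⟩ := mk_eq_mk.1 h
    have h2 : orderOf (![1, a, b] i) = orderOf (![1, a, b] j) := by rw [← hσ, orderOf_aut]
    fin_cases i <;> fin_cases j <;> first
      | rfl
      | (simp [orderOf_eq_one_iff, ha.ne_one, hb.ne_one, hab, ha.ne_one.symm, hb.ne_one.symm, hab.symm] at h2)
      | exact absurd (orderOf_eq_one_iff.1 h2.symm) ha1
      | exact absurd (orderOf_eq_one_iff.1 h2) hb1
  have hbij : Function.Bijective f := (Nat.bijective_iff_injective_and_card f).2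
    ⟨hinj, by rw [h3, Nat.card_fin]⟩
  obtain ⟨i, hi⟩ := hbij.2 (Quotient.mk'' g)
  obtain ⟨σ, hσ⟩ := mk_eq_mk.1 hi.symm
  fin_cases i
  · exact absurd (by simpa using hσ.symm) hg
  · exact Or.inl ⟨σ, hσ⟩
  · exact Or.inr ⟨σ, hσ⟩

theorem exists_char_comm [Finite G] [Nontrivial G] [Group.IsSolvable G] :
    ∃ A : Subgroup G, A ≠ ⊥ ∧ A.Characteristic ∧ IsMulCommutative A := by
  classical
  have hex : ∃ n, derivedSeries G n = ⊥ := Group.IsSolvable.solvable
  obtain ⟨k, hk⟩ : ∃ k, Nat.find hex = k + 1 := Nat.exists_eq_succ_of_ne_zero fun h => by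
    have := Nat.find_spec hex
    rw [h, derivedSeries_zero] at this
    exact top_ne_bot this
  refine ⟨derivedSeries G k, Nat.find_min hex (by omega), inferInstance, ⟨⟨fun a b => ?_⟩⟩⟩
  have h := Nat.find_spec hex
  rw [hk, derivedSeries_succ, Subgroup.commutator_eq_bot_iff_le_centralizer] at h
  exact Subtype.ext (Subgroup.mem_centralizer_iff.1 (h b.2) a a.2)

/-- No commuting pair of independent elements of order `q` acts freely on `A ≠ 1`. -/
theorem no_free_pair [Finite G] {p : ℕ} [Fact p.Prime] [Fact q.Prime] (hpq : p ≠ q) {A : Subgroup G}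
    [A.Normal] [IsMulCommutative A] [Module (ZMod p) (Additive A)] (hA : A ≠ ⊥) {z w : G}
    (hzw : Commute z w) (hz : z ^ q = 1) (hw : w ^ q = 1) (hzfix : ∀ a : A, a ≠ 1 → z * (a : G) * z⁻¹ ≠ (a : G))
    (hfix : ∀ i : ℕ, ∀ a : A, a ≠ 1 → z ^ i * w * (a : G) * (z ^ i * w)⁻¹ ≠ (a : G)) : False := by
  classical
  set Z := conjOp (p := p) A z with hZd
  set W := conjOp (p := p) A w with hWd
  have hZ : Z ^ q = 1 := conjOp_pow_eq_one A hz
  have hW : W ^ q = 1 := conjOp_pow_eq_one A hw
  have hc : Commute Z W := by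
    show Z * W = W * Z
    rw [← conjOp_mul, ← conjOp_mul, hzw.eq]
  have h0 : ∀ i : ZMod q, ∑ j : ZMod q, powZ Z (j * i) * powZ W j = 0 := by
    intro i
    have hpw : (Z ^ i.val * W) ^ q = 1 := by
      rw [(hc.pow_left _).mul_pow, ← pow_mul, mul_comm, pow_mul, hZ, one_pow, hW, one_mul]
    rw [← sum_powZ hpw fun u hu => conjOp_fix A (hfix i.val) u (by
      rw [conjOp_mul, conjOp_pow]; exact hu)]
    refine Finset.sum_congr rfl fun j _ => ?_
    rw [powZ, powZ, powZ, (hc.pow_left _).mul_pow, ← pow_mul, pow_eq_powZ hZ (i.val * j.val),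
      Nat.cast_mul, ZMod.natCast_zmod_val, ZMod.natCast_zmod_val, mul_comm i j]
    rfl
  have hsum : (q : Module.End (ZMod p) (Additive A)) = 0 := by
    have h := Finset.sum_eq_zero (s := (Finset.univ : Finset (ZMod q))) fun i _ => h0 i
    rw [Finset.sum_comm, Finset.sum_eq_single (0 : ZMod q)] at h
    · simpa [powZ] using h
    · intro j _ hj
      rw [← Finset.sum_mul, Finset.sum_congr rfl fun i _ => by rw [mul_comm j i],
        sum_powZ_mul hZ (fun u hu => conjOp_fix A hzfix u hu), if_neg hj, zero_mul]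
    · simp
  haveI := (Subgroup.nontrivial_iff_ne_bot A).2 hA
  obtain ⟨a, ha⟩ := exists_ne (1 : A)
  have h := congrArg (fun f : Module.End (ZMod p) (Additive A) => f (Additive.ofMul a)) hsum
  simp only [Module.End.natCast_apply, LinearMap.zero_apply] at h
  rw [← Nat.cast_smul_eq_nsmul (ZMod p), smul_eq_zero, ZMod.natCast_eq_zero_iff] at h
  exact hpq ((Nat.prime_dvd_prime_iff_eq (Fact.out (p := p.Prime)) (Fact.out (p := q.Prime))).1
    (h.resolve_right fun e => ha (Additive.ofMul.injective e)))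

theorem not_commute {p : ℕ} [Fact p.Prime] [Fact q.Prime] (hpq : p ≠ q)
    (hord : ∀ g : G, g ≠ 1 → orderOf g = p ∨ orderOf g = q) {a b : G} (ha : orderOf a = p)
    (hb : orderOf b = q) : ¬ Commute a b := fun h => by
  have h2 := h.orderOf_mul_eq_mul_orderOf_of_coprime (by
    rw [ha, hb]; exact (Nat.coprime_primes (Fact.out) (Fact.out)).2 hpq)
  rw [ha, hb] at h2
  have hp := (Fact.out (p := p.Prime)).two_le
  have hq := (Fact.out (p := q.Prime)).two_le
  rcases hord (a * b) (fun e => by rw [e, orderOf_one] at h2; nlinarith) with e | e <;>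
    (rw [e] at h2; nlinarith)

theorem forward [Finite G] {p : ℕ} [hp : Fact p.Prime] [hq : Fact q.Prime] (hpq : p ≠ q)
    {a₀ b₀ : G} (ha : orderOf a₀ = p) (hb : orderOf b₀ = q)
    (horb : ∀ g : G, g ≠ 1 → (∃ σ : MulAut G, σ a₀ = g) ∨ ∃ σ : MulAut G, σ b₀ = g)
    (A : Subgroup G) [A.Characteristic] [IsMulCommutative A] (hA : A ≠ ⊥) (ha₀ : a₀ ∈ A) :
    ∃ n : ℕ, 1 ≤ n ∧ Nat.card G = p ^ n * q ∧
      (∀ P : Sylow p G, (P : Subgroup G).Normal ∧ Cfsg.IsElementaryAbelian p (P : Subgroup G)) ∧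
      orderOf (p : ZMod q) = q - 1 ∧
      ∀ x y : G, orderOf x = q → orderOf y = p → x * y * x⁻¹ ≠ y := by
  classical
  have hord : ∀ g : G, g ≠ 1 → orderOf g = p ∨ orderOf g = q := fun g hg => by
    rcases horb g hg with ⟨σ, rfl⟩ | ⟨σ, rfl⟩ <;> simp [orderOf_aut, ha, hb]
  have hinv : ∀ (σ : MulAut G) (g : G), g ∈ A → σ g ∈ A := fun σ g hg => by
    have := Subgroup.Characteristic.fixed (inferInstance : A.Characteristic) σ
    rw [← this] at hg; exact hg
  have hpA : ∀ g : G, orderOf g = p → g ∈ A := fun g hg => by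
    rcases horb g (fun e => by rw [e, orderOf_one] at hg; exact hp.out.ne_one hg.symm) with ⟨σ, rfl⟩ | ⟨σ, rfl⟩
    · exact hinv σ _ ha₀
    · rw [orderOf_aut, hb] at hg; exact absurd hg.symm hpq
  have hAp : ∀ g ∈ A, g ≠ 1 → orderOf g = p := fun g hg h1 => (hord g h1).resolve_right fun h =>
    not_commute hpq hord ha h (congrArg Subtype.val (mul_comm' (⟨a₀, ha₀⟩ : A) ⟨g, hg⟩))
  have hexp : ∀ g ∈ A, g ^ p = 1 := fun g hg => by
    by_cases h1 : g = 1
    · simp [h1]
    · rw [← hAp g hg h1, pow_orderOf_eq_one]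
  have hfix : ∀ x y : G, orderOf x = q → orderOf y = p → x * y * x⁻¹ ≠ y := fun x y hx hy h =>
    not_commute hpq hord hy hx (mul_inv_eq_iff_eq_mul.1 h).symm
  have hpow : ∀ g : G, g ∉ A → g ^ q = 1 := fun g hg => by
    rcases hord g (fun e => hg (e ▸ A.one_mem)) with h | h
    · exact absurd (hpA g h) hg
    · rw [← h, pow_orderOf_eq_one]
  have hAP : IsPGroup p A := fun g => ⟨1, Subtype.ext (by simpa using hexp g g.2)⟩
  suffices H : ∀ [Module (ZMod p) (Additive A)], ∃ n : ℕ, 1 ≤ n ∧ Nat.card G = p ^ n * q ∧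
      (∀ P : Sylow p G, (P : Subgroup G).Normal ∧ Cfsg.IsElementaryAbelian p (P : Subgroup G)) ∧
      orderOf (p : ZMod q) = q - 1 ∧
      ∀ x y : G, orderOf x = q → orderOf y = p → x * y * x⁻¹ ≠ y by
    exact @H (zmodMod hexp)
  intro _inst
  let Q : Sylow q G := default
  obtain ⟨e, he⟩ := IsPGroup.iff_card.1 Q.isPGroup'
  have hQord : ∀ g ∈ (Q : Subgroup G), g ≠ 1 → orderOf g = q := fun g hg h1 => by
    refine (hord g h1).resolve_left fun h => ?_
    obtain ⟨k, hk⟩ := IsPGroup.iff_orderOf.1 Q.isPGroup' ⟨g, hg⟩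
    rw [Subgroup.orderOf_mk, h] at hk
    exact hpq ((Nat.prime_dvd_prime_iff_eq hp.out hq.out).1 (hp.out.dvd_of_dvd_pow (dvd_of_eq hk)))
  have hqd : q ∣ Nat.card G := hb ▸ orderOf_dvd_natCard b₀
  have he1 : e = 1 := by
    have he0 : e ≠ 0 := fun h0 => Q.ne_bot_of_dvd_card hqd (Subgroup.card_eq_one.1 (by
      rw [he, h0, pow_zero]))
    by_contra hne
    haveI : Nontrivial (Q : Subgroup G) := (Subgroup.nontrivial_iff_ne_bot _).2 (Q.ne_bot_of_dvd_card hqd)
    haveI := Q.isPGroup'.center_nontrivial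
    obtain ⟨z, hz⟩ := exists_ne (1 : Subgroup.center (Q : Subgroup G))
    have hz1 : ((z : (Q : Subgroup G)) : G) ≠ 1 := fun h => hz (Subtype.ext (Subtype.ext h))
    have hzo := hQord _ (z : (Q : Subgroup G)).2 hz1
    obtain ⟨w, hw⟩ : ∃ w : (Q : Subgroup G), w ∉ Subgroup.zpowers (z : (Q : Subgroup G)) := by
      by_contra h
      push Not at h
      have h2 : Nat.card (Q : Subgroup G) = q := by
        rw [← Subgroup.card_top, ← (Subgroup.eq_top_iff' _).2 h, Nat.card_zpowers,
          ← Subgroup.orderOf_coe, hzo]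
      rw [he] at h2
      exact hne (Nat.pow_right_injective hq.out.two_le (by show q ^ e = q ^ 1; rw [pow_one]; exact h2))
    refine no_free_pair (q := q) hpq hA (z := ((z : (Q : Subgroup G)) : G)) (w := (w : G)) ?_ ?_ ?_ ?_ ?_
    · exact congrArg Subtype.val ((Subgroup.mem_center_iff.1 z.2 w).symm)
    · have h := pow_orderOf_eq_one ((z : (Q : Subgroup G)) : G)
      rwa [hzo] at h
    · have h := pow_orderOf_eq_one (w : G)
      rwa [hQord w w.2 fun h => hw (by rw [show w = 1 from Subtype.ext h]; exact one_mem _)] at h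
    · exact fun a ha => hfix _ _ hzo (hAp a a.2 fun h => ha (Subtype.ext h))
    · refine fun i a ha => hfix _ _ (hQord _ (mul_mem (pow_mem (z : (Q : Subgroup G)).2 i) w.2) fun h => hw ?_)
        (hAp a a.2 fun h => ha (Subtype.ext h))
      have h2 : (z : (Q : Subgroup G)) ^ i * w = 1 := Subtype.ext h
      rw [eq_inv_of_mul_eq_one_right h2]
      exact inv_mem (pow_mem (Subgroup.mem_zpowers _) i)
  let P : Sylow p G := default
  have hPA : ∀ P : Sylow p G, (P : Subgroup G) = A := fun P => by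
    have h1 : (P : Subgroup G) ≤ A := fun g hg => by
      by_cases h : g = 1
      · exact h ▸ A.one_mem
      · refine hpA g ((hord g h).resolve_right fun hgq => ?_)
        obtain ⟨k, hk⟩ := IsPGroup.iff_orderOf.1 P.isPGroup' ⟨g, hg⟩
        rw [Subgroup.orderOf_mk, hgq] at hk
        exact hpq ((Nat.prime_dvd_prime_iff_eq hq.out hp.out).1 (hq.out.dvd_of_dvd_pow (dvd_of_eq hk))).symm
    exact (P.is_maximal' hAP h1).symm
  obtain ⟨n, hn⟩ := IsPGroup.iff_card.1 hAP
  have hn1 : 1 ≤ n := Nat.one_le_iff_ne_zero.2 fun h0 => hA (Subgroup.card_eq_one.1 (by rw [hn, h0, pow_zero]))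
  have hcard : Nat.card G = p ^ n * q := by
    refine (Nat.eq_iff_prime_padicValNat_eq _ _ Nat.card_pos.ne' (mul_ne_zero (pow_ne_zero _ hp.out.ne_zero) hq.out.ne_zero)).2 fun r hr => ?_
    haveI := Fact.mk hr
    rw [← Nat.factorization_def _ hr, ← Nat.factorization_def _ hr,
      Nat.factorization_mul (pow_ne_zero _ hp.out.ne_zero) hq.out.ne_zero, Finsupp.add_apply,
      hp.out.factorization_pow, hq.out.factorization]
    by_cases hrp : r = p
    · subst hrp
      rw [Finsupp.single_eq_same, Finsupp.single_eq_of_ne hpq, add_zero]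
      have := P.card_eq_multiplicity
      rw [hPA P, hn] at this
      exact (Nat.pow_right_injective hr.two_le this).symm
    · rw [Finsupp.single_eq_of_ne hrp, zero_add]
      by_cases hrq : r = q
      · subst hrq
        rw [Finsupp.single_eq_same]
        have := Q.card_eq_multiplicity
        rw [he, he1] at this
        exact (Nat.pow_right_injective hr.two_le this).symm
      · rw [Finsupp.single_eq_of_ne hrq]
        refine Nat.factorization_eq_zero_of_not_dvd fun hd => ?_
        obtain ⟨g, hg⟩ := exists_prime_orderOf_dvd_card' r hd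
        rcases hord g (fun e => by rw [e, orderOf_one] at hg; exact hr.ne_one hg.symm) with h | h
        · exact hrp (hg.symm.trans h)
        · exact hrq (hg.symm.trans h)
  refine ⟨n, hn1, hcard, fun P => by rw [hPA P]; exact ⟨inferInstance, inferInstance, hexp⟩, ?_, hfix⟩
  haveI : Nontrivial (Additive A) := by
    haveI := (Subgroup.nontrivial_iff_ne_bot A).2 hA
    infer_instance
  have hsplit : IsSplit A b₀ q := by
    have huniq : ∀ m : ℕ, b₀ ^ m ∈ A → q ∣ m := fun m hm => by
      rw [← hb, orderOf_dvd_iff_pow_eq_one]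
      by_contra h1
      have h2 := hAp _ hm h1
      have h3 : orderOf (b₀ ^ m) ∣ q := hb ▸ orderOf_pow_dvd m
      rw [h2] at h3
      exact hpq ((Nat.prime_dvd_prime_iff_eq hp.out hq.out).1 h3)
    refine ⟨by rw [← hb, pow_orderOf_eq_one], fun g => ?_, huniq⟩
    have hidx : A.index = q := by
      have := A.card_mul_index
      rw [hn, hcard] at this
      exact Nat.eq_of_mul_eq_mul_left (pow_pos hp.out.pos n) this
    have hbA : (QuotientGroup.mk' A b₀) ≠ 1 := fun h => hq.out.ne_one (Nat.dvd_one.1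
      (huniq 1 (by rw [pow_one]; exact (QuotientGroup.eq_one_iff _).1 h)))
    obtain ⟨m, hm⟩ := (Submonoid.mem_powers_iff (QuotientGroup.mk' A g) (QuotientGroup.mk' A b₀)).1
      (mem_powers_of_prime_card (p := q) hidx hbA)
    refine ⟨⟨g * (b₀ ^ m)⁻¹, (QuotientGroup.eq_one_iff _).1 ?_⟩, m, by simp⟩
    rw [QuotientGroup.mk_mul, QuotientGroup.mk_inv, QuotientGroup.mk_pow]
    simp only [QuotientGroup.mk'_apply] at hm
    rw [hm, mul_inv_cancel]
  refine orderOf_eq_of_transitive (C := conjOp (p := p) A b₀) hpq (conjOp_pow_eq_one A hsplit.pow_q)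
    (fun u hu => conjOp_fix A (fun a ha => hfix _ _ hb (hAp a a.2 fun h => ha (Subtype.ext h))) u hu) ?_ ?_
  all_goals
    have restrict : ∀ σ : MulAut G, ∃ T : Additive A →+ Additive A, Function.Surjective T ∧
        (∀ a : A, ((Additive.toMul (T (Additive.ofMul a)) : A) : G) = σ a) ∧
        ∀ (c : A) (m : ℕ), σ b₀ = (c : G) * b₀ ^ m → ∀ u : Additive A, T (conjOp (p := p) A b₀ u) =
          (conjOp (p := p) A b₀ ^ m) (T u) := fun σ => by
      let t : A →* A := (σ.toMonoidHom.comp A.subtype).codRestrict A fun a => hinv σ _ a.2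
      refine ⟨MonoidHom.toAdditive t, ?_, fun a => rfl, fun c m hc u => ?_⟩
      · intro u
        refine ⟨Additive.ofMul ⟨σ.symm ((Additive.toMul u : A) : G), hinv σ.symm _ (Additive.toMul u).2⟩, ?_⟩
        exact Additive.toMul.injective (Subtype.ext (σ.apply_symm_apply _))
      · apply Additive.toMul.injective
        refine Subtype.ext ?_
        rw [← conjOp_pow, coe_conjOp]
        show σ ((Additive.toMul (conjOp (p := p) A b₀ u) : A) : G) = _ * σ ((Additive.toMul u : A) : G) * _
        rw [coe_conjOp, map_mul, map_mul, map_inv, hc]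
        set v := σ ((Additive.toMul u : A) : G) with hv
        have hvA : v ∈ A := hinv σ _ (Additive.toMul u).2
        have hvA' : b₀ ^ m * v * (b₀ ^ m)⁻¹ ∈ A := (inferInstance : A.Normal).conj_mem _ hvA _
        have hcomm : (c : G) * (b₀ ^ m * v * (b₀ ^ m)⁻¹) = b₀ ^ m * v * (b₀ ^ m)⁻¹ * c :=
          congrArg Subtype.val (mul_comm' c ⟨_, hvA'⟩)
        calc (c : G) * b₀ ^ m * v * ((c : G) * b₀ ^ m)⁻¹
            = (c : G) * (b₀ ^ m * v * (b₀ ^ m)⁻¹) * (c : G)⁻¹ := by group
          _ = _ := by rw [hcomm, mul_inv_cancel_right]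
  · intro v w hv hw
    have hor : ∀ u : Additive A, u ≠ 0 → orderOf ((Additive.toMul u : A) : G) = p := fun u hu =>
      hAp _ (Additive.toMul u).2 fun e => hu (Additive.toMul.injective (Subtype.ext e))
    have hto : ∀ g : G, orderOf g = p → ∃ σ : MulAut G, σ a₀ = g := fun g hg => by
      rcases horb g (fun e => by rw [e, orderOf_one] at hg; exact hp.out.ne_one hg.symm) with h | ⟨σ, rfl⟩
      · exact h
      · rw [orderOf_aut, hb] at hg; exact absurd hg.symm hpq
    obtain ⟨σ₁, h₁⟩ := hto _ (hor v hv)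
    obtain ⟨σ₂, h₂⟩ := hto _ (hor w hw)
    obtain ⟨T, -, hT, hTc⟩ := restrict (σ₂ * σ₁⁻¹)
    obtain ⟨c, m, hc⟩ := hsplit.dec ((σ₂ * σ₁⁻¹) b₀)
    refine ⟨T, m, fun h0 => ?_, ?_, hTc c m hc⟩
    · obtain ⟨d, rfl⟩ := (ZMod.natCast_eq_zero_iff _ _).1 h0
      rw [pow_mul, hsplit.pow_q, one_pow, mul_one] at hc
      have : orderOf ((σ₂ * σ₁⁻¹) b₀) = p := by
        refine hAp _ (hc ▸ c.2) fun e => ?_
        have h2 := orderOf_aut (σ₂ * σ₁⁻¹) b₀
        rw [e, orderOf_one, hb] at h2
        exact hq.out.ne_one h2.symm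
      rw [orderOf_aut, hb] at this
      exact hpq this.symm
    · apply Additive.toMul.injective
      refine Subtype.ext ?_
      have := hT (Additive.toMul v)
      rw [ofMul_toMul] at this
      rw [this, MulAut.mul_apply, ← h₁, MulAut.inv_apply, MulEquiv.symm_apply_apply, h₂]
  · intro b hb0
    have hbo : orderOf (b₀ ^ b.val) = q := by
      refine orderOf_eq_prime (by rw [← pow_mul, mul_comm, pow_mul, hsplit.pow_q, one_pow]) fun h => hb0 ?_
      rw [← orderOf_dvd_iff_pow_eq_one, hb] at h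
      rw [← ZMod.natCast_zmod_val b, (ZMod.natCast_eq_zero_iff _ _).2 h]
    obtain ⟨σ, hσ⟩ : ∃ σ : MulAut G, σ b₀ = b₀ ^ b.val := by
      rcases horb (b₀ ^ b.val) (fun e => by rw [e, orderOf_one] at hbo; exact hq.out.ne_one hbo.symm) with ⟨σ, h⟩ | h
      · rw [← h, orderOf_aut, ha] at hbo; exact absurd hbo hpq
      · exact h
    obtain ⟨T, hTs, -, hTc⟩ := restrict σ
    exact ⟨T, hTs, hTc 1 b.val (by simp [hσ])⟩

theorem backward [Finite G] {p n : ℕ} [hp : Fact p.Prime] [hq : Fact q.Prime] (hpq : p ≠ q) (hn : 1 ≤ n)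
    (hcard : Nat.card G = p ^ n * q)
    (hP : ∀ P : Sylow p G, (P : Subgroup G).Normal ∧ Cfsg.IsElementaryAbelian p (P : Subgroup G))
    (hord : orderOf (p : ZMod q) = q - 1)
    (hfix : ∀ x y : G, orderOf x = q → orderOf y = p → x * y * x⁻¹ ≠ y) :
    Nat.card (MulAction.orbitRel.Quotient (MulAut G) G) = 3 := by
  classical
  let P : Sylow p G := default
  set A : Subgroup G := (P : Subgroup G) with hAdef
  obtain ⟨hAn, hAc, hexp⟩ := hP P
  haveI : A.Normal := hAn
  haveI : IsMulCommutative A := hAc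
  obtain ⟨x, hx⟩ := exists_prime_orderOf_dvd_card' (G := G) q (hcard ▸ dvd_mul_left _ _)
  have hxq : x ^ q = 1 := by rw [← hx, pow_orderOf_eq_one]
  have hAp : ∀ g ∈ A, g ≠ 1 → orderOf g = p := fun g hg h1 => orderOf_eq_prime (hexp g hg) h1
  have huniq : ∀ m : ℕ, x ^ m ∈ A → q ∣ m := fun m hm => by
    rw [← hx, orderOf_dvd_iff_pow_eq_one]
    by_contra h1
    have h3 : orderOf (x ^ m) ∣ q := hx ▸ orderOf_pow_dvd m
    rw [hAp _ hm h1] at h3
    exact hpq ((Nat.prime_dvd_prime_iff_eq hp.out hq.out).1 h3)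
  have hAcard : Nat.card A = p ^ n := by
    rw [hAdef, P.card_eq_multiplicity, hcard,
      Nat.factorization_mul (pow_ne_zero _ hp.out.ne_zero) hq.out.ne_zero, Finsupp.add_apply,
      hp.out.factorization_pow, hq.out.factorization, Finsupp.single_eq_same,
      Finsupp.single_eq_of_ne hpq, add_zero]
  have hidx : A.index = q := by
    have := A.card_mul_index
    rw [hAcard, hcard] at this
    exact Nat.eq_of_mul_eq_mul_left (pow_pos hp.out.pos n) this
  have hsplit : IsSplit A x q := by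
    refine ⟨hxq, fun g => ?_, huniq⟩
    have hbA : (QuotientGroup.mk' A x) ≠ 1 := fun h => hq.out.ne_one (Nat.dvd_one.1
      (huniq 1 (by rw [pow_one]; exact (QuotientGroup.eq_one_iff _).1 h)))
    obtain ⟨m, hm⟩ := (Submonoid.mem_powers_iff (QuotientGroup.mk' A g) (QuotientGroup.mk' A x)).1
      (mem_powers_of_prime_card (p := q) hidx hbA)
    refine ⟨⟨g * (x ^ m)⁻¹, (QuotientGroup.eq_one_iff _).1 ?_⟩, m, by simp⟩
    rw [QuotientGroup.mk_mul, QuotientGroup.mk_inv, QuotientGroup.mk_pow]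
    simp only [QuotientGroup.mk'_apply] at hm
    rw [hm, mul_inv_cancel]
  letI := zmodMod hexp
  have hfixA : ∀ m : ℕ, ¬ q ∣ m → ∀ a : A, a ≠ 1 → x ^ m * (a : G) * (x ^ m)⁻¹ ≠ (a : G) :=
    fun m hm a ha => hfix _ _ (orderOf_eq_prime (by rw [← pow_mul, mul_comm, pow_mul, hxq, one_pow])
      fun h => hm (hx ▸ orderOf_dvd_of_pow_eq_one h)) (hAp a a.2 fun h => ha (Subtype.ext h))
  obtain ⟨hlin, Tp, hTp⟩ := exists_maps (C := conjOp (p := p) A x) hpq (conjOp_pow_eq_one A hxq)
    (fun u hu => conjOp_fix A (by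
      have := hfixA 1 (fun h => hq.out.ne_one (Nat.dvd_one.1 h))
      simpa using this) u hu) hord
  haveI hAnt : Nontrivial A := Finite.one_lt_card_iff_nontrivial.1 (by
    rw [hAcard]; exact Nat.one_lt_pow (by omega) hp.out.one_lt)
  obtain ⟨y, hy⟩ := exists_ne (1 : A)
  let f : Fin 3 → MulAction.orbitRel.Quotient (MulAut G) G :=
    fun i => Quotient.mk'' (![1, (y : G), x] i)
  have hyp : orderOf (y : G) = p := hAp y y.2 fun h => hy (Subtype.ext h)
  have hinj : Function.Injective f := by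
    intro i j h
    obtain ⟨σ, hσ⟩ := mk_eq_mk.1 h
    have h2 : orderOf (![1, (y : G), x] i) = orderOf (![1, (y : G), x] j) := by rw [← hσ, orderOf_aut]
    have e1 := hp.out.ne_one
    have e2 := hq.out.ne_one
    fin_cases i <;> fin_cases j <;> simp [hx, hyp] at h2 ⊢ <;> omega
  have hsurj : Function.Surjective f := by
    intro o
    obtain ⟨g, rfl⟩ := Quotient.mk''_surjective o
    obtain ⟨a, m, rfl⟩ := hsplit.dec g
    by_cases hm : q ∣ m
    · obtain ⟨d, rfl⟩ := hm
      rw [pow_mul, hxq, one_pow, mul_one]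
      by_cases ha : a = 1
      · exact ⟨0, by simp [f, ha]⟩
      · obtain ⟨T, hT, hTc⟩ := hlin (Additive.ofMul a) (Additive.ofMul y)
          (fun h => ha (Additive.ofMul.injective h)) (fun h => hy (Additive.ofMul.injective h))
        obtain ⟨σ, hσ, -⟩ := hsplit.exists_aut T 1 (fun h => hq.out.ne_one (Nat.dvd_one.1 h))
          (fun u => by rw [pow_one]; exact hTc u)
        exact ⟨1, mk_eq_mk.2 ⟨σ, by rw [hσ, hT]; rfl⟩⟩
    · refine ⟨2, (mk_eq_mk.2 ?_).symm⟩
      have hall : (Finset.range (q - 1)).image (fun k : ℕ => (p : ZMod q) ^ k) =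
          Finset.univ.erase (0 : ZMod q) := by
        refine Finset.eq_of_subset_of_card_le (fun z hz => ?_) ?_
        · obtain ⟨k, -, rfl⟩ := Finset.mem_image.1 hz
          exact Finset.mem_erase.2 ⟨pow_ne_zero _ (p_ne_zero hpq), Finset.mem_univ _⟩
        · rw [Finset.card_image_of_injOn]
          · simp [Finset.card_erase_of_mem, ZMod.card]
          · intro i hi j hj h
            rw [Finset.coe_range] at hi hj
            exact pow_injOn_Iio_orderOf (by rw [hord]; exact hi) (by rw [hord]; exact hj) h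
      have hm0 : (m : ZMod q) ∈ (Finset.range (q - 1)).image (fun k : ℕ => (p : ZMod q) ^ k) := by
        rw [hall]
        exact Finset.mem_erase.2 ⟨fun h => hm ((ZMod.natCast_eq_zero_iff _ _).1 h), Finset.mem_univ _⟩
      obtain ⟨k, -, hk⟩ := Finset.mem_image.1 hm0
      have hxm : x ^ m = x ^ (p ^ k) := by
        rw [pow_eq_pow_mod m hxq, pow_eq_pow_mod (p ^ k) hxq]
        congr 1
        exact (ZMod.natCast_eq_natCast_iff' _ _ _).1 (by rw [Nat.cast_pow]; exact hk.symm)
      obtain ⟨σp, -, hσp⟩ := hsplit.exists_aut Tp p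
        (fun h => hpq ((Nat.prime_dvd_prime_iff_eq hq.out hp.out).1 h).symm) hTp
      have hiter : ∀ k : ℕ, (σp ^ k) x = x ^ (p ^ k) := by
        intro k
        induction k with
        | zero => simp
        | succ k ih => rw [pow_succ, MulAut.mul_apply, hσp, map_pow, ih, ← pow_mul, ← pow_succ]
      obtain ⟨b, hb⟩ := (Finite.injective_iff_surjective (f := fun b : A =>
          b * ((MulAut.conjNormal (x ^ m) : A ≃* A) b)⁻¹)).1 (fun b b' h => by
        simp only at h
        have h2 : (MulAut.conjNormal (x ^ m) : A ≃* A) (b'⁻¹ * b) = b'⁻¹ * b := by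
          set K := b * ((MulAut.conjNormal (x ^ m) : A ≃* A) b)⁻¹ with hK
          have e1 : (MulAut.conjNormal (x ^ m) : A ≃* A) b = K⁻¹ * b := by rw [hK]; group
          have e2 : (MulAut.conjNormal (x ^ m) : A ≃* A) b' = K⁻¹ * b' := by rw [h]; group
          rw [map_mul, map_inv, e1, e2]; group
        by_contra hne
        exact hfixA m hm (b'⁻¹ * b) (fun e => hne (inv_mul_eq_one.1 e).symm) (by
          rw [← MulAut.conjNormal_apply, h2])) a
      refine ⟨MulAut.conj (b : G) * σp ^ k, ?_⟩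
      show (MulAut.conj (b : G) * σp ^ k) x = _
      rw [MulAut.mul_apply, hiter, ← hxm, MulAut.conj_apply, ← hb, Subgroup.coe_mul, Subgroup.coe_inv,
        MulAut.conjNormal_apply]
      group
  rw [← Nat.card_congr (Equiv.ofBijective f ⟨hinj, hsurj⟩), Nat.card_fin]

/-- Let G be a finite group whose order is not a prime power. Then the automorphism group of G has exactly three orbits on G if and only if there are distinct primes p, q with #G = pⁿ·q (n ≥ 1) such that G has a normal elementary abelian Sylow p-subgroup P, p is a primitive root modulo q (the multiplicative order of p mod q is q − 1), and every element of order q of G acts on P without non-identity fixed points. -/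
theorem result {G : Type*} [Group G] [Finite G] (hnpp : ¬ IsPrimePow (Nat.card G)) (hnt : Nat.card G ≠ 1) :
    Nat.card (MulAction.orbitRel.Quotient (MulAut G) G) = 3 ↔
    ∃ (p q n : ℕ) (_ : Fact p.Prime) (_ : Fact q.Prime), p ≠ q ∧ 1 ≤ n ∧ Nat.card G = p ^ n * q ∧
      (∀ P : Sylow p G, (P : Subgroup G).Normal ∧ Cfsg.IsElementaryAbelian p (P : Subgroup G)) ∧
      orderOf (p : ZMod q) = q - 1 ∧
      ∀ x y : G, orderOf x = q → orderOf y = p → x * y * x⁻¹ ≠ y := by
  constructor
  · intro h3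
    obtain ⟨a, b, ha, hb, hab⟩ := exists_other_prime hnpp hnt
    have horb := three_orbits_structure h3 ha hb hab
    haveI : Fact (orderOf a).Prime := ⟨ha⟩
    haveI : Fact (orderOf b).Prime := ⟨hb⟩
    haveI : Nontrivial G := ⟨⟨a, 1, fun e => ha.ne_one (by rw [e, orderOf_one])⟩⟩
    obtain ⟨i, m, hm, hcard⟩ := Nat.exists_eq_pow_mul_and_not_dvd (Nat.card_pos (α := G)).ne' _ ha.ne_one
    have hm0 : m ≠ 0 := fun e => hm (e ▸ dvd_zero _)
    obtain ⟨j, hj⟩ : ∃ j, m = orderOf b ^ j := ⟨_, Nat.eq_prime_pow_of_unique_prime_dvd hm0 fun {r} hr hrd => by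
      haveI := Fact.mk hr
      obtain ⟨g, hg⟩ := exists_prime_orderOf_dvd_card' (G := G) r (hcard ▸ hrd.mul_left _)
      rcases horb g (fun e => by rw [e, orderOf_one] at hg; exact hr.ne_one hg.symm) with ⟨σ, rfl⟩ | ⟨σ, rfl⟩
      · rw [orderOf_aut] at hg; exact absurd (hg ▸ hrd) hm
      · rw [orderOf_aut] at hg; exact hg.symm⟩
    haveI : Group.IsSolvable G := CharInt.isSolvable_of_card_eq ha hb (hcard.trans (by rw [hj]))
    obtain ⟨A, hA, hAc, hAm⟩ := exists_char_comm (G := G)
    haveI := hAc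
    haveI := hAm
    obtain ⟨g, hg, hg1⟩ := A.bot_or_exists_ne_one.resolve_left hA
    have hinv : ∀ (σ : MulAut G) (z : G), σ z ∈ A → z ∈ A := fun σ z hz => by
      rw [← Subgroup.Characteristic.fixed hAc σ]; exact hz
    rcases horb g hg1 with ⟨σ, rfl⟩ | ⟨σ, rfl⟩
    · obtain ⟨n, h⟩ := forward hab rfl rfl horb A hA (hinv σ a hg)
      exact ⟨orderOf a, orderOf b, n, inferInstance, inferInstance, hab, h⟩
    · obtain ⟨n, h⟩ := forward hab.symm rfl rfl (fun z hz => (horb z hz).symm) A hA (hinv σ b hg)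
      exact ⟨orderOf b, orderOf a, n, inferInstance, inferInstance, hab.symm, h⟩
  · rintro ⟨p, q, n, hp, hq, hpq, hn, hcard, hP, hord, hfix⟩
    exact backward hpq hn hcard hP hord hfix

end Cfsg.Agent.S4081
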