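import Cfsg.Statements.S4082
import Cfsg.Agent.Lib.PByCyclic.Basic

set_option autoImplicit false
set_option linter.style.haveILetI false
open Cfsg

namespace Cfsg.Agent.S4082

open Subgroup DihedralGroup

/-- The property "cyclic or dihedral of order `2 p ^ n`". -/
def Good (p : ℕ) (H : Type*) [Group H] : Prop :=
  IsCyclic H ∨ ∃ n : ℕ, Nonempty (H ≃* DihedralGroup (p ^ n))

theorem Good.of_equiv {p : ℕ} {H K : Type*} [Group H] [Group K] (h : Good p H) (e : H ≃* K) :
    Good p K := by
  rcases h with h | ⟨n, ⟨f⟩⟩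
  · exact Or.inl (e.isCyclic.mp h)
  · exact Or.inr ⟨n, ⟨e.symm.trans f⟩⟩

/-- An element of odd order of `DihedralGroup m` is a rotation, and any element not commuting
with a rotation is an involution inverting it. -/
theorem dihedral_aux {m : ℕ} {q x : DihedralGroup m} (hq : Odd (orderOf q))
    (hx : x * q ≠ q * x) : orderOf x = 2 ∧ x * q * x⁻¹ = q⁻¹ := by
  rcases q with a | a
  · rcases x with b | b
    · exact absurd (by simp [add_comm]) hx
    · refine ⟨orderOf_sr b, ?_⟩
      simp
  · rw [orderOf_sr] at hq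
    exact absurd hq (by decide)

theorem key {G : Type*} [Group G] [Finite G] {p : ℕ} [Fact p.Prime]
    (h : ∀ H : Subgroup G, PByCyclic.IsPByCyclic p H → Good p H) (hp : p ≠ 2)
    {S : Subgroup G} (hS : IsPGroup p S) {x q : G} (hx : x ∈ normalizer (S : Set G)) (hq : q ∈ S)
    (hne : x * q ≠ q * x) : orderOf x = 2 ∧ x * q * x⁻¹ = q⁻¹ := by
  set H := S ⊔ zpowers x
  have hxH : x ∈ H := mem_sup_right (mem_zpowers x)
  have hqH : q ∈ H := mem_sup_left hq
  rcases h H (PByCyclic.isPByCyclic_sup_zpowers hS hx) with hc | ⟨n, ⟨e⟩⟩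
  · letI := hc.commGroup
    exact absurd (congrArg Subtype.val (mul_comm (⟨x, hxH⟩ : ↥H) ⟨q, hqH⟩)) hne
  · have hodd : Odd (orderOf (e ⟨q, hqH⟩)) := by
      rw [e.orderOf_eq, orderOf_mk]
      obtain ⟨k, hk⟩ := hS.exists_orderOf_eq_pow ⟨q, hq⟩
      rw [orderOf_mk] at hk
      rw [hk]
      exact ((Fact.out : p.Prime).odd_of_ne_two hp).pow
    obtain ⟨h1, h2⟩ := dihedral_aux hodd (x := e ⟨x, hxH⟩) fun he => hne (by
      rw [← map_mul, ← map_mul] at he
      exact congrArg Subtype.val (e.injective he))
    refine ⟨by rwa [e.orderOf_eq, orderOf_mk] at h1, ?_⟩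
    rw [← map_inv, ← map_mul, ← map_inv, ← map_mul] at h2
    exact congrArg Subtype.val (e.injective h2)

/-- An element of order `p` in a nontrivial `p`-group. -/
theorem exists_order_p {G : Type*} [Group G] [Finite G] {p : ℕ} [Fact p.Prime] {S : Subgroup G}
    (hS : IsPGroup p S) (h : S ≠ ⊥) : ∃ Q : Subgroup G, Q ≤ S ∧ Nat.card Q = p := by
  obtain ⟨k, hk⟩ := IsPGroup.iff_card.1 hS
  rcases k with _ | k
  · exact absurd (eq_bot_of_card_eq S (by simpa using hk)) h
  · obtain ⟨x, hx⟩ := exists_prime_orderOf_dvd_card' (G := S) p (hk ▸ dvd_pow_self p (by omega))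
    exact ⟨zpowers (x : G), zpowers_le.2 x.2, by rw [Nat.card_zpowers, orderOf_coe, hx]⟩

/-- Let p be an odd prime and G a finite group with Sylow p-subgroup P. Say that G has restricted p-by-cyclic subgroups when every subgroup H of G whose Sylow p-subgroup is normal in H with cyclic quotient is itself cyclic or dihedral of order 2pⁿ for some n. Then G has restricted p-by-cyclic subgroups if and only if P is cyclic and one of the following holds: (1) N_G(P) = C_G(P); or (2) N_G(P)/C_G(P) has order 2 and, for the subgroup Q of order p of P, the centralizer C_G(Q) is abelian and every element of N_G(Q) outside C_G(Q) is an involution inverting every element of C_G(Q). -/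
theorem result {G : Type*} [Group G] [Finite G] {p : ℕ}
    [Fact p.Prime] (hp : p ≠ 2) (P : Sylow p G) :
    (∀ H : Subgroup G, (∀ S : Sylow p ↥H, (S : Subgroup ↥H).Normal) →
        (∀ (S : Sylow p ↥H) [(S : Subgroup ↥H).Normal], IsCyclic (↥H ⧸ (S : Subgroup ↥H))) →
        IsCyclic H ∨ (∃ n : ℕ, Nonempty (H ≃* DihedralGroup (p ^ n)))) ↔
    (IsCyclic P ∧
      (Subgroup.normalizer ((P : Subgroup G) : Set G) = Subgroup.centralizer ((P : Subgroup G) : Set G) ∨
       ((Subgroup.centralizer ((P : Subgroup G) : Set G)).relIndex (Subgroup.normalizer ((P : Subgroup G) : Set G)) = 2 ∧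
        ∀ Q : Subgroup G, Q ≤ P → Nat.card Q = p →
          IsMulCommutative ↥(Subgroup.centralizer (Q : Set G)) ∧
          ∀ x : G, x ∈ Subgroup.normalizer (Q : Set G) → x ∉ Subgroup.centralizer (Q : Set G) →
            orderOf x = 2 ∧ ∀ c : G, c ∈ Subgroup.centralizer (Q : Set G) → x * c * x⁻¹ = c⁻¹))) := by
  classical
  have hpP : p.Prime := Fact.out
  constructor
  · intro h
    have h' : ∀ H : Subgroup G, PByCyclic.IsPByCyclic p H → Good p H := fun H hH => h H hH.1 hH.2
    have hcyc : IsCyclic P := by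
      have hP := PByCyclic.isPByCyclic_sup_zpowers (y := (1 : G)) P.2 (one_mem _)
      rw [zpowers_one_eq_bot, sup_bot_eq] at hP
      rcases h' _ hP with hc | ⟨n, ⟨e⟩⟩
      · exact hc
      · exfalso
        obtain ⟨k, hk⟩ := IsPGroup.iff_card.1 P.2
        rw [Nat.card_congr e.toEquiv, DihedralGroup.nat_card] at hk
        exact hp ((Nat.prime_dvd_prime_iff_eq Nat.prime_two hpP).1
          (Nat.prime_two.dvd_of_dvd_pow (Dvd.intro _ hk))).symm
    obtain ⟨⟨g₀, hg₀⟩, hgen⟩ := hcyc.exists_generator
    refine ⟨hcyc, ?_⟩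
    by_cases hNC : normalizer ((P : Subgroup G) : Set G) = centralizer ((P : Subgroup G) : Set G)
    · exact Or.inl hNC
    right
    -- elements outside the centralizer invert the generator
    have hcent : ∀ u : G, u * g₀ = g₀ * u → u ∈ centralizer ((P : Subgroup G) : Set G) := by
      intro u hu
      rw [mem_centralizer_iff]
      intro y hy
      obtain ⟨j, hj⟩ := mem_zpowers_iff.1 (hgen ⟨y, hy⟩)
      rw [show y = g₀ ^ j from (congrArg Subtype.val hj).symm]
      exact ((show Commute u g₀ from hu).zpow_right j).eq.symm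
    have hinv : ∀ x ∈ normalizer ((P : Subgroup G) : Set G),
        x ∉ centralizer ((P : Subgroup G) : Set G) → orderOf x = 2 ∧ x * g₀ * x⁻¹ = g₀⁻¹ :=
      fun x hx hxC => key h' hp P.2 hx hg₀ fun he => hxC (hcent x he)
    obtain ⟨x₀, hx₀, hx₀C⟩ : ∃ x ∈ normalizer ((P : Subgroup G) : Set G),
        x ∉ centralizer ((P : Subgroup G) : Set G) := by
      by_contra! hall
      exact hNC (le_antisymm hall (centralizer_le_normalizer _))
    constructor
    · rw [relIndex, index_eq_two_iff]
      refine ⟨⟨x₀, hx₀⟩, fun b => ?_⟩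
      simp only [mem_subgroupOf, Subgroup.coe_mul]
      by_cases hb : (b : G) ∈ centralizer ((P : Subgroup G) : Set G)
      · right
        refine ⟨hb, fun h2 => hx₀C ?_⟩
        have := mul_mem (inv_mem hb) h2
        rwa [inv_mul_cancel_left] at this
      · left
        refine ⟨hcent _ ?_, hb⟩
        have e1 := (hinv _ b.2 hb).2
        have e2 := (hinv _ hx₀ hx₀C).2
        have e1' : (b : G) * g₀⁻¹ * (b : G)⁻¹ = g₀ := by
          rw [← conj_inv, e1, inv_inv]
        rw [← mul_inv_eq_iff_eq_mul]
        calc (b : G) * x₀ * g₀ * ((b : G) * x₀)⁻¹ = (b : G) * (x₀ * g₀ * x₀⁻¹) * (b : G)⁻¹ := by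
              group
          _ = g₀ := by rw [e2, e1']
    · intro Q hQP hQ
      have hQp : IsPGroup p Q := IsPGroup.of_card (n := 1) (by rw [hQ, pow_one])
      have hcase : ∀ x : G, x ∈ normalizer (Q : Set G) → x ∉ centralizer (Q : Set G) →
          orderOf x = 2 := by
        intro x hx hxC
        rw [mem_centralizer_iff] at hxC
        push Not at hxC
        obtain ⟨q, hq, hne⟩ := hxC
        exact (key h' hp hQp hx hq (Ne.symm hne)).1
      -- `x₀` inverts `P`, hence `Q`
      have hinvQ : ∀ q ∈ Q, x₀ * q * x₀⁻¹ = q⁻¹ := by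
        intro q hq
        obtain ⟨j, hj⟩ := mem_zpowers_iff.1 (hgen ⟨q, hQP hq⟩)
        rw [show q = g₀ ^ j from (congrArg Subtype.val hj).symm, ← conj_zpow,
          (hinv x₀ hx₀ hx₀C).2, inv_zpow]
      have hx₀Q : x₀ ∈ normalizer (Q : Set G) := by
        refine mem_normalizer_iff.2 fun q => ⟨fun hq => hinvQ q hq ▸ inv_mem hq, fun hq => ?_⟩
        have h1 := hinvQ _ hq
        have h2 : x₀ * q * x₀⁻¹ = x₀ * (x₀ * q * x₀⁻¹)⁻¹ * x₀⁻¹ := by
          rw [← conj_inv, h1, inv_inv]
        have h3 := (mul_left_cancel (mul_right_cancel h2))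
        exact h3 ▸ inv_mem hq
      have hx₀CQ : x₀ ∉ centralizer (Q : Set G) := by
        intro hc
        obtain ⟨q, hq, hq1⟩ : ∃ q ∈ Q, q ≠ 1 := by
          by_contra! hall
          rw [(eq_bot_iff_forall Q).2 hall, card_bot] at hQ
          exact hpP.ne_one hQ.symm
        have h1 := hinvQ q hq
        rw [← (mem_centralizer_iff.1 hc q hq), mul_inv_cancel_right, eq_inv_iff_mul_eq_one,
          ← pow_two] at h1
        obtain ⟨k, hk⟩ := hQp.exists_orderOf_eq_pow ⟨q, hq⟩
        rw [orderOf_mk] at hk
        refine hq1 (orderOf_eq_one_iff.1 (Nat.eq_one_of_dvd_coprimes ?_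
          (orderOf_dvd_of_pow_eq_one h1) hk.dvd))
        exact ((Nat.coprime_primes Nat.prime_two hpP).2 (Ne.symm hp)).pow_right k
      -- every element of the coset is an involution, so `x₀` inverts the centralizer
      have hinvC : ∀ c ∈ centralizer (Q : Set G), ∀ x ∈ normalizer (Q : Set G),
          x ∉ centralizer (Q : Set G) → x * c * x⁻¹ = c⁻¹ := by
        intro c hc x hx hxC
        have h1 := hcase x hx hxC
        have h2 := hcase (x * c) (mul_mem hx (centralizer_le_normalizer _ hc)) fun h2 =>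
          hxC (by have := mul_mem h2 (inv_mem hc); rwa [mul_inv_cancel_right] at this)
        have h1' : x⁻¹ = x := inv_eq_of_mul_eq_one_right (by
          have := pow_orderOf_eq_one x; rwa [h1, pow_two] at this)
        have h2' : x * c * (x * c) = 1 := by
          have := pow_orderOf_eq_one (x * c); rwa [h2, pow_two] at this
        rw [h1']
        exact eq_inv_of_mul_eq_one_left (by rw [mul_assoc _ x c]; exact h2')
      refine ⟨⟨⟨fun a b => Subtype.ext ?_⟩⟩, fun x hx hxC => ⟨hcase x hx hxC,
        fun c hc => hinvC c hc x hx hxC⟩⟩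
      have ha := hinvC _ a.2 x₀ hx₀Q hx₀CQ
      have hb := hinvC _ b.2 x₀ hx₀Q hx₀CQ
      have hab := hinvC _ (mul_mem a.2 b.2) x₀ hx₀Q hx₀CQ
      have h3 : x₀ * ((a : G) * b) * x₀⁻¹ = x₀ * a * x₀⁻¹ * (x₀ * b * x₀⁻¹) := by group
      rw [hab, ha, hb, ← mul_inv_rev] at h3
      exact inv_injective h3
  · rintro ⟨hcyc, hcase⟩ H hn hc
    obtain ⟨S, y, rfl, hS, hyN, hyo⟩ :=
      PByCyclic.exists_gen (H := H) ⟨hn, hc⟩
    -- move `S` into `P`
    suffices hmain : ∀ (S : Subgroup G) (y : G), S ≤ (P : Subgroup G) →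
        y ∈ normalizer (S : Set G) → (orderOf y).Coprime p → Good p ↥(S ⊔ zpowers y) by
      obtain ⟨R, hR⟩ := hS.exists_le_sylow
      obtain ⟨g, hg⟩ := MulAction.exists_smul_eq G R P
      have hle : S.map (MulAut.conj g).toMonoidHom ≤ (P : Subgroup G) := by
        rw [← hg]
        exact Subgroup.map_mono hR
      have hy' : MulAut.conj g y ∈ normalizer ((S.map (MulAut.conj g).toMonoidHom : Subgroup G) :
          Set G) := le_normalizer_map _ (mem_map_of_mem _ hyN)
      have h1 := hmain _ (MulAut.conj g y) hle hy' (by rw [MulEquiv.orderOf_eq]; exact hyo)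
      have he : S.map (MulAut.conj g).toMonoidHom ⊔ zpowers (MulAut.conj g y) =
          (S ⊔ zpowers y).map (MulAut.conj g).toMonoidHom := by
        rw [Subgroup.map_sup, MonoidHom.map_zpowers]; rfl
      rw [he] at h1
      obtain ⟨e⟩ := PByCyclic.nonempty_conj_equiv (S ⊔ zpowers y) g
      exact h1.of_equiv e.symm
    clear hS hyN hyo hn hc
    intro S y hSP hyN hyo
    haveI := hcyc
    haveI : IsCyclic S := isCyclic_of_le hSP
    obtain ⟨s, hs⟩ := IsCyclic.exists_generator (α := S)
    have hSz : S = zpowers (s : G) := by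
      refine le_antisymm (fun x hx => ?_) (zpowers_le.2 s.2)
      obtain ⟨j, hj⟩ := mem_zpowers_iff.1 (hs ⟨x, hx⟩)
      exact ⟨j, congrArg Subtype.val hj⟩
    have hsP : IsPGroup p S := P.2.to_le hSP
    obtain ⟨k, hk⟩ := hsP.exists_orderOf_eq_pow s
    rw [← orderOf_coe] at hk
    have hcommute : Commute (s : G) y → Good p ↥(S ⊔ zpowers y) := fun hcm =>
      Or.inl (hSz ▸ PByCyclic.isCyclic_sup_zpowers hcm (hk ▸ hyo.symm.pow_left k))
    by_cases hS1 : S = ⊥
    · refine hcommute ?_
      have : (s : G) = 1 := by rw [← mem_bot, ← hS1]; exact s.2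
      rw [this]; exact Commute.one_left y
    obtain ⟨Q, hQS, hQ⟩ := exists_order_p hsP hS1
    rcases hcase with hNC | ⟨-, hQall⟩
    · -- Burnside
      obtain ⟨R, K, hKn, hKR⟩ :=
        Transfer.hasNormalPComplement_of_normalizer_le_centralizer P hNC.le
      refine hcommute ?_
      have hyK : y ∈ K := by
        rw [← QuotientGroup.eq_one_iff, ← orderOf_eq_one_iff]
        obtain ⟨j, hj⟩ := IsPGroup.iff_card.1 R.2
        refine Nat.eq_one_of_dvd_coprimes (hyo.pow_right j)
          (orderOf_map_dvd (QuotientGroup.mk' K) y) ?_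
        rw [← hj, ← hKR.symm.index_eq_card, index_eq_card]
        exact orderOf_dvd_natCard _
      have h1 : y * s * y⁻¹ * (s : G)⁻¹ ∈ S :=
        mul_mem ((mem_normalizer_iff.1 hyN _).1 s.2) (inv_mem s.2)
      have h2 : y * s * y⁻¹ * (s : G)⁻¹ ∈ K := by
        have := mul_mem hyK (hKn.conj_mem _ (inv_mem hyK) (s : G))
        simpa [mul_assoc] using this
      obtain ⟨i, hi⟩ := hsP.exists_orderOf_eq_pow ⟨_, h1⟩
      rw [orderOf_mk] at hi
      have hKc : (Nat.card K).Coprime (p ^ i) := by
        rw [← hKR.index_eq_card]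
        exact ((hpP.coprime_iff_not_dvd.2 R.not_dvd_index).symm).pow_right i
      have h3 : y * s * y⁻¹ * (s : G)⁻¹ = 1 := orderOf_eq_one_iff.1
        (Nat.eq_one_of_dvd_coprimes hKc (Subgroup.orderOf_dvd_natCard K h2) hi.dvd)
      rw [mul_inv_eq_one, mul_inv_eq_iff_eq_mul] at h3
      exact h3.symm
    · obtain ⟨hab, hout⟩ := hQall Q (hQS.trans hSP) hQ
      have hsC : (s : G) ∈ centralizer (Q : Set G) := mem_centralizer_iff.2 fun q hq => by
        letI := IsCyclic.commGroup (α := S)
        exact congrArg Subtype.val (mul_comm (⟨q, hQS hq⟩ : S) s)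
      by_cases hyC : y ∈ centralizer (Q : Set G)
      · exact hcommute (congrArg Subtype.val (hab.is_comm.comm ⟨_, hsC⟩ ⟨y, hyC⟩))
      · have hyQ : y ∈ normalizer (Q : Set G) := by
          -- `Q` is the set of elements of `S` killed by `p`
          haveI := Fintype.ofFinite S
          have hmem : ∀ x ∈ S, x ^ p = 1 → x ∈ Q := by
            intro x hx hxp
            have hsub : (Finset.univ.filter fun u : S => (u : G) ∈ Q) ⊆
                Finset.univ.filter fun u : S => u ^ p = 1 := by
              intro u hu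
              simp only [Finset.mem_filter, Finset.mem_univ, true_and] at hu ⊢
              refine Subtype.ext ?_
              have h3 := pow_card_eq_one' (G := Q) (x := ⟨u, hu⟩)
              rw [hQ] at h3
              exact congrArg (fun z : Q => (z : G)) h3
            have hle : (Finset.univ.filter fun u : S => u ^ p = 1).card ≤
                (Finset.univ.filter fun u : S => (u : G) ∈ Q).card := by
              refine (IsCyclic.card_pow_eq_one_le hpP.pos).trans (le_of_eq ?_)
              rw [← Fintype.card_subtype, ← Nat.card_eq_fintype_card]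
              exact (hQ.symm.trans (Nat.card_congr (subgroupOfEquivOfLe hQS).toEquiv).symm)
            have heq := Finset.eq_of_subset_of_card_le hsub hle
            have : (⟨x, hx⟩ : S) ∈ Finset.univ.filter fun u : S => u ^ p = 1 := by
              simp only [Finset.mem_filter, Finset.mem_univ, true_and]
              exact Subtype.ext (by rw [SubmonoidClass.coe_pow, OneMemClass.coe_one]; exact hxp)
            rw [← heq] at this
            simpa using this
          refine mem_normalizer_iff.2 fun q => ⟨fun hq => ?_, fun hq => ?_⟩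
          · refine hmem _ ((mem_normalizer_iff.1 hyN q).1 (hQS hq)) ?_
            have h3 := pow_card_eq_one' (G := Q) (x := ⟨q, hq⟩)
            rw [hQ] at h3
            rw [conj_pow, show q ^ p = 1 from congrArg Subtype.val h3]
            simp
          · refine hmem _ ((mem_normalizer_iff.1 hyN q).2 (hQS hq)) ?_
            have h3 := pow_card_eq_one' (G := Q) (x := ⟨_, hq⟩)
            rw [hQ] at h3
            have h4 : (y * q * y⁻¹) ^ p = 1 := congrArg Subtype.val h3
            rw [conj_pow, mul_inv_eq_one, mul_eq_left] at h4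
            exact h4
        obtain ⟨hy2, hinv⟩ := hout y hyQ hyC
        have hyy : y * y = 1 := by have := pow_orderOf_eq_one y; rwa [hy2, pow_two] at this
        have hys : y ∉ zpowers (s : G) := fun hmem => hyC (zpowers_le.2 hsC hmem)
        obtain ⟨e⟩ := PByCyclic.dihedral_of_inverting hyy hys (hinv _ hsC)
        right
        refine ⟨k, ?_⟩
        rw [← hk]
        exact ⟨(MulEquiv.subgroupCongr (congrArg (· ⊔ zpowers y) hSz)).trans e⟩

end Cfsg.Agent.S4082
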