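import Cfsg.Statements.S4083
import Cfsg.Agent.Lib.PByCyclic.Basic
import Cfsg.Agent.Lib.DihedralSylow.Subgroups

set_option autoImplicit false
set_option linter.style.haveILetI false
open Cfsg

namespace Cfsg.Agent.S4083

open Subgroup

/-- The property "cyclic, dihedral 2-group or `A₄`". -/
def Good (H : Type*) [Group H] : Prop :=
  IsCyclic H ∨ (∃ n : ℕ, Nonempty (H ≃* DihedralGroup (2 ^ n))) ∨
    Nonempty (H ≃* alternatingGroup (Fin 4))

theorem Good.of_equiv {H K : Type*} [Group H] [Group K] (h : Good H) (e : H ≃* K) : Good K := by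
  rcases h with h | ⟨n, ⟨f⟩⟩ | ⟨⟨f⟩⟩
  · exact Or.inl (e.isCyclic.mp h)
  · exact Or.inr (Or.inl ⟨n, ⟨e.symm.trans f⟩⟩)
  · exact Or.inr (Or.inr ⟨e.symm.trans f⟩)

/-- An abelian good group has order at most 4 or is cyclic. -/
theorem card_le_of_comm {H : Type*} [Group H] [Finite H] (h : Good H)
    (hc : ∀ a b : H, a * b = b * a) : IsCyclic H ∨ Nat.card H ≤ 4 := by
  rcases h with h | ⟨n, ⟨e⟩⟩ | ⟨⟨e⟩⟩
  · exact Or.inl h
  · right
    rw [Nat.card_congr e.toEquiv, DihedralGroup.nat_card]
    by_contra hgt
    have h1 := congrArg e (hc (e.symm (DihedralGroup.r 1)) (e.symm (DihedralGroup.sr 0)))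
    simp only [map_mul, MulEquiv.apply_symm_apply, DihedralGroup.r_mul_sr, DihedralGroup.sr_mul_r,
      DihedralGroup.sr.injEq] at h1
    have h2 : ((2 : ℕ) : ZMod (2 ^ n)) = 0 := by
      push_cast
      linear_combination -h1
    rw [ZMod.natCast_eq_zero_iff] at h2
    have := Nat.le_of_dvd two_pos h2
    omega
  · exfalso
    have h1 : ∀ a b : alternatingGroup (Fin 4), a * b = b * a := fun a b => by
      have := congrArg e (hc (e.symm a) (e.symm b))
      simpa using this
    revert h1
    decide

/-- A four-group extended by an element of order 3 not centralizing it is `A₄`. -/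
theorem altFour_of_extension {G : Type*} [Group G] [Finite G] {K : Subgroup G}
    (hK : Nat.card K = 4) {y : G} (hy : orderOf y = 3) (hyK : y ∈ normalizer (K : Set G))
    (hyC : y ∉ centralizer (K : Set G)) :
    Nonempty (↥(K ⊔ zpowers y) ≃* alternatingGroup (Fin 4)) := by
  classical
  set H := K ⊔ zpowers y
  set y' : ↥H := ⟨y, mem_sup_right (mem_zpowers y)⟩
  have hy' : orderOf y' = 3 := by rw [orderOf_mk, hy]
  haveI hKn : (K.subgroupOf H).Normal :=
    normal_subgroupOf_of_le_normalizer (sup_le le_normalizer (zpowers_le.2 hyK))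
  have hsup : K.subgroupOf H ⊔ zpowers y' = ⊤ := by
    refine map_injective H.subtype_injective ?_
    rw [Subgroup.map_sup, MonoidHom.map_zpowers, subgroupOf_map_subtype, inf_eq_left.2 le_sup_left,
      ← MonoidHom.range_eq_map, range_subtype]
    rfl
  have hKcard : Nat.card (K.subgroupOf H) = 4 := by
    rw [Nat.card_congr (subgroupOfEquivOfLe le_sup_left).toEquiv, hK]
  have hidx : (K.subgroupOf H).index = 3 := by
    have h1 : (K.subgroupOf H).index ∣ 3 := by
      rw [← relIndex_top_right, ← hsup, relIndex_sup_left, ← hy', ← Nat.card_zpowers y']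
      exact index_dvd_card _
    rcases (Nat.dvd_prime Nat.prime_three).1 h1 with h | h
    · exfalso
      rw [index_eq_one] at h
      have hyKmem : y ∈ K := (h.symm ▸ mem_top y' : y' ∈ K.subgroupOf H)
      have h2 := Subgroup.orderOf_dvd_natCard K hyKmem
      rw [hy, hK] at h2
      omega
    · exact h
  have hHcard : Nat.card ↥H = 12 := by rw [← (K.subgroupOf H).card_mul_index, hKcard, hidx]
  have hZidx : (zpowers y').index = 4 := by
    have := (zpowers y').card_mul_index
    rw [Nat.card_zpowers, hy', hHcard] at this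
    omega
  have hcore : (zpowers y').normalCore = ⊥ := by
    have h1 : Nat.card (zpowers y').normalCore ∣ 3 := by
      rw [← hy', ← Nat.card_zpowers y']
      exact card_dvd_of_le (normalCore_le _)
    rcases (Nat.dvd_prime Nat.prime_three).1 h1 with h | h
    · exact eq_bot_of_card_eq _ h
    · exfalso
      have he : (zpowers y').normalCore = zpowers y' :=
        eq_of_le_of_card_ge (normalCore_le _) (by rw [h, Nat.card_zpowers, hy'])
      have hn : (zpowers y').Normal := he ▸ normalCore_normal _
      have hdisj : Disjoint (zpowers y') (K.subgroupOf H) := disjoint_of_coprime_natCard (by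
        rw [Nat.card_zpowers, hy', hKcard]; decide)
      refine hyC (mem_centralizer_iff.2 fun k hk => ?_)
      exact (congrArg Subtype.val (commute_of_normal_of_disjoint _ _ hn hKn hdisj y'
        ⟨k, mem_sup_left hk⟩ (mem_zpowers _) hk).eq).symm
  haveI : Fintype (↥H ⧸ zpowers y') := Fintype.ofFinite _
  obtain ⟨σ⟩ : Nonempty ((↥H ⧸ zpowers y') ≃ Fin 4) := by
    refine ⟨(Finite.equivFinOfCardEq ?_)⟩
    rw [← index_eq_card, hZidx]
  set f : ↥H →* Equiv.Perm (Fin 4) :=
    σ.permCongrHom.toMonoidHom.comp (MulAction.toPermHom ↥H (↥H ⧸ zpowers y'))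
  have hf : Function.Injective f := by
    refine σ.permCongrHom.injective.comp ?_
    rw [← MonoidHom.ker_eq_bot_iff, ← normalCore_eq_ker, hcore]
  have hfidx : f.range.index = 2 := by
    have h1 := f.range.card_mul_index
    rw [Nat.card_congr (MonoidHom.ofInjective hf).symm.toEquiv, hHcard, Nat.card_perm,
      Nat.card_eq_fintype_card, Fintype.card_fin] at h1
    simp [Nat.factorial] at h1
    omega
  exact ⟨(MonoidHom.ofInjective hf).trans
    (MulEquiv.subgroupCongr (Equiv.Perm.eq_alternatingGroup_of_index_eq_two hfidx))⟩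

/-- Let G be a finite group with Sylow 2-subgroup P. Every subgroup H of G whose Sylow 2-subgroup is normal in H with cyclic quotient is cyclic, dihedral of 2-power order, or isomorphic to the alternating group of degree 4, if and only if either P is cyclic, or P is dihedral (of order at least 4) and every elementary abelian subgroup K of order 4 of P satisfies C_G(K) = K. -/
theorem result {G : Type*} [Group G] [Finite G] (P : Sylow 2 G) :
    (∀ H : Subgroup G, (∀ S : Sylow 2 ↥H, (S : Subgroup ↥H).Normal) →
        (∀ (S : Sylow 2 ↥H) [(S : Subgroup ↥H).Normal], IsCyclic (↥H ⧸ (S : Subgroup ↥H))) →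
        IsCyclic H ∨ (∃ n : ℕ, Nonempty (H ≃* DihedralGroup (2 ^ n))) ∨ Nonempty (H ≃* alternatingGroup (Fin 4))) ↔
    (IsCyclic P ∨
      ((∃ n : ℕ, 1 ≤ n ∧ Nonempty ((P : Subgroup G) ≃* DihedralGroup (2 ^ n))) ∧
        ∀ K : Subgroup G, K ≤ P → Nat.card K = 4 → (∀ k ∈ K, k ^ 2 = 1) → Subgroup.centralizer (K : Set G) = K)) := by
  classical
  constructor
  · intro h
    have h' : ∀ H : Subgroup G, PByCyclic.IsPByCyclic 2 H → Good H := fun H hH => h H hH.1 hH.2
    have hP := PByCyclic.isPByCyclic_sup_zpowers (y := (1 : G)) P.2 (one_mem _)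
    rw [zpowers_one_eq_bot, sup_bot_eq] at hP
    obtain ⟨k, hk⟩ := IsPGroup.iff_card.1 P.2
    rcases h' _ hP with hc | ⟨n, ⟨e⟩⟩ | ⟨⟨e⟩⟩
    · exact Or.inl hc
    · rcases Nat.eq_zero_or_pos n with rfl | hn
      · left
        haveI : Fact (Nat.Prime 2) := ⟨Nat.prime_two⟩
        refine isCyclic_of_prime_card (p := 2) ?_
        rw [Nat.card_congr e.toEquiv, DihedralGroup.nat_card]
        norm_num
      · refine Or.inr ⟨⟨n, hn, ⟨e⟩⟩, fun K hKP hK hK2 => ?_⟩
        have hKc : ∀ a ∈ K, ∀ b ∈ K, a * b = b * a := fun a ha b hb => by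
          have h1 := hK2 _ (mul_mem ha hb)
          have h2 := hK2 a ha
          have h3 := hK2 b hb
          rw [pow_two] at h1 h2 h3
          calc a * b = (a * b)⁻¹ := (inv_eq_of_mul_eq_one_right h1).symm
            _ = b⁻¹ * a⁻¹ := mul_inv_rev a b
            _ = b * a := by rw [inv_eq_of_mul_eq_one_right h2, inv_eq_of_mul_eq_one_right h3]
        refine le_antisymm (fun c hc => ?_) fun a ha => mem_centralizer_iff.2 fun b hb => hKc b hb a ha
        set H := K ⊔ zpowers c
        have hgood := h' H (PByCyclic.isPByCyclic_sup_zpowers (P.2.to_le hKP)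
          (centralizer_le_normalizer _ hc))
        haveI hHc : IsMulCommutative H := by
          have : H ≤ centralizer (K : Set G) :=
            sup_le (fun a ha => mem_centralizer_iff.2 fun b hb => hKc b hb a ha) (zpowers_le.2 hc)
          have hHgen : H = closure ((K : Set G) ∪ {c}) := by
            rw [Subgroup.closure_union, closure_eq, ← zpowers_eq_closure]
          rw [hHgen]
          refine isMulCommutative_closure ?_
          rintro a (ha | rfl) b (hb | rfl)
          · exact hKc a ha b hb
          · exact mem_centralizer_iff.1 hc a ha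
          · exact (mem_centralizer_iff.1 hc b hb).symm
          · rfl
        rcases card_le_of_comm hgood (fun a b => hHc.is_comm.comm a b) with hcyc | hle
        · exfalso
          haveI := hcyc
          haveI : IsCyclic K := isCyclic_of_le (le_sup_left : K ≤ H)
          obtain ⟨g, hg⟩ := IsCyclic.exists_generator (α := K)
          have h1 : orderOf g ∣ 2 := orderOf_dvd_of_pow_eq_one (Subtype.ext (by
            rw [SubmonoidClass.coe_pow, OneMemClass.coe_one]; exact hK2 g g.2))
          rw [orderOf_eq_card_of_forall_mem_zpowers hg, hK] at h1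
          omega
        · have heq : K = H := eq_of_le_of_card_ge le_sup_left (by omega)
          exact heq ▸ mem_sup_right (mem_zpowers c)
    · exfalso
      rw [Nat.card_congr e.toEquiv, nat_card_alternatingGroup, Nat.card_eq_fintype_card,
        Fintype.card_fin] at hk
      simp [Nat.factorial] at hk
      have h1 : 3 ∣ 2 ^ k := ⟨4, by omega⟩
      exact absurd ((Nat.prime_dvd_prime_iff_eq Nat.prime_three Nat.prime_two).1
        (Nat.prime_three.dvd_of_dvd_pow h1)) (by norm_num)
  · intro hcase H hn hc
    obtain ⟨S, y, rfl, hS, hyN, hyo⟩ := PByCyclic.exists_gen (H := H) ⟨hn, hc⟩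
    suffices hmain : ∀ (S : Subgroup G) (y : G), S ≤ (P : Subgroup G) →
        y ∈ normalizer (S : Set G) → (orderOf y).Coprime 2 → Good ↥(S ⊔ zpowers y) by
      obtain ⟨R, hR⟩ := hS.exists_le_sylow
      obtain ⟨g, hg⟩ := MulAction.exists_smul_eq G R P
      have hle : S.map (MulAut.conj g).toMonoidHom ≤ (P : Subgroup G) := by
        rw [← hg]
        exact Subgroup.map_mono hR
      have hy' : MulAut.conj g y ∈ normalizer ((S.map (MulAut.conj g).toMonoidHom : Subgroup G) :
          Set G) := le_normalizer_map _ (mem_map_of_mem _ hyN)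
      have h1 := hmain _ (MulAut.conj g y) hle hy' (by rw [MulEquiv.orderOf_eq]; exact hyo)
      have he : S.map (MulAut.conj g).toMonoidHom ⊔ zpowers (MulAut.conj g y) =
          (S ⊔ zpowers y).map (MulAut.conj g).toMonoidHom := by
        rw [Subgroup.map_sup, MonoidHom.map_zpowers]; rfl
      rw [he] at h1
      obtain ⟨e⟩ := PByCyclic.nonempty_conj_equiv (S ⊔ zpowers y) g
      exact h1.of_equiv e.symm
    clear hS hyN hyo hn hc
    intro S y hSP hyN hyo
    have hodd : Odd (orderOf y) := Nat.coprime_two_right.1 hyo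
    have hS : IsPGroup 2 S := P.2.to_le hSP
    have hcyclic : IsCyclic S → Good ↥(S ⊔ zpowers y) := by
      intro _
      obtain ⟨s, hs⟩ := IsCyclic.exists_generator (α := S)
      have hSz : S = zpowers (s : G) := by
        refine le_antisymm (fun x hx => ?_) (zpowers_le.2 s.2)
        obtain ⟨j, hj⟩ := mem_zpowers_iff.1 (hs ⟨x, hx⟩)
        exact ⟨j, congrArg Subtype.val hj⟩
      obtain ⟨k, hk⟩ := hS.exists_orderOf_eq_pow s
      rw [← orderOf_coe] at hk
      have hcm : Commute (s : G) y := mem_centralizer_iff.1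
        (DihedralSylow.mem_centralizer_of_isCyclic S hS hyN hodd) s s.2
      exact Or.inl (hSz ▸ PByCyclic.isCyclic_sup_zpowers hcm (hk ▸ hyo.symm.pow_left k))
    rcases hcase with hPc | ⟨⟨n, hn, ⟨e⟩⟩, hfour⟩
    · haveI := hPc
      exact hcyclic (isCyclic_of_le hSP)
    haveI : NeZero (2 ^ n) := ⟨by positivity⟩
    obtain ⟨φ, hφ⟩ := DihedralSylow.exists_embeds e
    have hm : 2 ∣ 2 ^ n := dvd_pow_self 2 (by omega)
    -- four-subgroups of `P` are self-centralizing
    have hself : ∀ K : Subgroup G, K ≤ (P : Subgroup G) → IsKleinFour K →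
        centralizer (K : Set G) = K := fun K hKP hK =>
      hfour K hKP hK.card_four fun k hk => by
        have := Monoid.pow_exponent_eq_one (⟨k, hk⟩ : K)
        rw [hK.exponent_two] at this
        exact congrArg Subtype.val this
    rcases hφ.subgroup_cases rfl hm S hSP with hc | ⟨i, rfl⟩ | ⟨x, t, k, hgen⟩
    · exact hcyclic hc
    · have hK := hφ.isKleinFour_map hm i
      set K := (DihedralSylow.four hm i).map φ
      have hC := hself K hSP hK
      have hy3 : orderOf y ∣ 3 := by
        have h24 : (K.normalizerMonoidHom ⟨y, hyN⟩) ^ 24 = 1 := by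
          let f : MulAut K →* Equiv.Perm K :=
            { toFun := fun a => a.toEquiv, map_one' := rfl, map_mul' := fun _ _ => rfl }
          have hf : Function.Injective f := fun a b h => MulEquiv.ext fun z => Equiv.congr_fun h z
          apply hf
          rw [map_pow, map_one]
          have := pow_card_eq_one' (G := Equiv.Perm K) (x := f (K.normalizerMonoidHom ⟨y, hyN⟩))
          rwa [Nat.card_perm, hK.card_four, show Nat.factorial 4 = 24 from rfl] at this
        rw [← map_pow, ← MonoidHom.mem_ker, normalizerMonoidHom_ker, mem_subgroupOf] at h24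
        have h1 : y ^ 24 ∈ K := hC ▸ h24
        have h2 := pow_card_eq_one' (G := K) (x := ⟨_, h1⟩)
        rw [hK.card_four] at h2
        have h3 : (y ^ 24) ^ 4 = 1 := congrArg Subtype.val h2
        rw [← pow_mul] at h3
        have h4 := orderOf_dvd_of_pow_eq_one h3
        rw [show 24 * 4 = 3 * 2 ^ 5 by norm_num] at h4
        exact (hyo.pow_right 5).dvd_of_dvd_mul_right h4
      rcases (Nat.dvd_prime Nat.prime_three).1 hy3 with h1 | h3
      · rw [orderOf_eq_one_iff] at h1
        subst h1
        rw [zpowers_one_eq_bot, sup_bot_eq]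
        right; left
        refine ⟨1, ?_⟩
        haveI := hK
        haveI : IsKleinFour (DihedralGroup (2 ^ 1)) := by rw [pow_one]; infer_instance
        exact IsKleinFour.nonempty_mulEquiv
      · refine Or.inr (Or.inr (altFour_of_extension hK.card_four h3 hyN fun hmem => ?_))
        rw [hC] at hmem
        have h2 := Subgroup.orderOf_dvd_natCard K hmem
        rw [h3, hK.card_four] at h2
        omega
    · -- dihedral of order at least 8: `y` centralizes it
      have hcent : ∀ s ∈ S, y * s * y⁻¹ = s :=
        hgen.centralizes_of_odd (g := y) (fun z hz => (mem_normalizer_iff.mp hyN z).mp hz)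
          hodd (fun z _ => by rw [pow_orderOf_eq_one]; group)
      -- a four-subgroup of `S`
      set z := x ^ 2 ^ (k - 1)
      have hk2 := hgen.two_le
      have hz2 : orderOf z = 2 := by
        rw [orderOf_pow' _ (by positivity), hgen.order, Nat.gcd_eq_right (pow_dvd_pow 2 (by omega)),
          Nat.pow_div (by omega) two_pos, show k - (k - 1) = 1 by omega, pow_one]
      have hzz : z * z = 1 := by have := pow_orderOf_eq_one z; rwa [hz2, pow_two] at this
      have hti : t⁻¹ = t := inv_eq_of_mul_eq_one_right hgen.ht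
      have htz : t * z * t⁻¹ = z⁻¹ := by rw [← conj_pow, hgen.inv, inv_pow]
      have hne : t ∉ zpowers z := fun hmem => hgen.t_not_mem (by
        exact (zpowers_le.2 (pow_mem (mem_zpowers x) _)) hmem)
      obtain ⟨eK⟩ := PByCyclic.dihedral_of_inverting hgen.ht hne htz
      rw [hz2] at eK
      set K := zpowers z ⊔ zpowers t
      have hKS : K ≤ S := sup_le (zpowers_le.2 (pow_mem hgen.x_mem _)) (zpowers_le.2 hgen.t_mem)
      have hKk : IsKleinFour K := by
        refine ⟨by rw [Nat.card_congr eK.toEquiv, DihedralGroup.nat_card],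
          by rw [Monoid.exponent_eq_of_mulEquiv eK]; exact DihedralGroup.exponent.trans (by simp)⟩
      have hyK : y ∈ K := by
        rw [← hself K (hKS.trans hSP) hKk]
        refine mem_centralizer_iff.2 fun s hs => ?_
        exact (mul_inv_eq_iff_eq_mul.1 (hcent s (hKS hs))).symm
      have hy1 : y = 1 := by
        have h2 := pow_card_eq_one' (G := K) (x := ⟨y, hyK⟩)
        rw [hKk.card_four] at h2
        have h3 : y ^ 4 = 1 := congrArg Subtype.val h2
        exact orderOf_eq_one_iff.1 (Nat.eq_one_of_dvd_coprimes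
          (show (orderOf y).Coprime (2 ^ 2) from hyo.pow_right 2) dvd_rfl (orderOf_dvd_of_pow_eq_one h3))
      subst hy1
      rw [zpowers_one_eq_bot, sup_bot_eq]
      right; left
      obtain ⟨eS⟩ := PByCyclic.dihedral_of_inverting hgen.ht hgen.t_not_mem hgen.inv
      rw [hgen.order] at eS
      exact ⟨k, ⟨(MulEquiv.subgroupCongr hgen.gen).trans eS⟩⟩

end Cfsg.Agent.S4083
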