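import Cfsg.Statements.S4084
import Mathlib.GroupTheory.Perm.Cycle.Type
import Mathlib.GroupTheory.Coset.Card
import Mathlib.GroupTheory.SpecificGroups.Cyclic

set_option autoImplicit false
open Cfsg

namespace Cfsg.Agent.S4084

theorem transfer {G H : Type*} [Group G] [Finite G] [Group H] [Finite H] (e : G ≃ H)
    (he : ∀ x y : G, Commute x y ↔ Commute (e x) (e y))
    {p q : ℕ} (hp : p.Prime) (hq : q.Prime) (hpq : p ≠ q) (h : ∃ g : G, orderOf g = p * q) :
    ∃ y : H, orderOf y = p * q := by
  obtain ⟨g, hg⟩ := h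
  let P : Subgroup G → Prop := fun A => ∀ x ∈ A, ∀ y ∈ A, Commute x y
  haveI : Finite (Subgroup G) := Finite.of_injective ((↑) : Subgroup G → Set G) SetLike.coe_injective
  obtain ⟨A, hgA, hA⟩ := Finite.exists_le_maximal (α := Subgroup G) (p := P) (a := Subgroup.zpowers g) (by
    intro x hx y hy
    obtain ⟨i, rfl⟩ := hx
    obtain ⟨j, rfl⟩ := hy
    exact (Commute.refl g).zpow_zpow i j)
  let B : Subgroup H := Subgroup.closure (e '' (A : Set G))
  have hB : ∀ x ∈ B, ∀ y ∈ B, Commute x y := by
    have hle : B ≤ Subgroup.centralizer (B : Set H) := by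
      rw [Subgroup.centralizer_closure, Subgroup.closure_le]
      rintro _ ⟨a, ha, rfl⟩
      exact Subgroup.mem_centralizer_iff.mpr (by
        rintro _ ⟨b, hb, rfl⟩
        exact ((he _ _).mp (hA.1 b hb a ha)).eq)
    exact fun x hx y hy => (Subgroup.mem_centralizer_iff.mp (hle hy) x hx)
  let C : Subgroup G := Subgroup.closure (e ⁻¹' (B : Set H))
  have hC : P C := by
    have hle : C ≤ Subgroup.centralizer (C : Set G) := by
      rw [Subgroup.centralizer_closure, Subgroup.closure_le]
      intro a ha
      exact Subgroup.mem_centralizer_iff.mpr fun b hb => ((he b a).mpr (hB _ hb _ ha)).eq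
    exact fun x hx y hy => (Subgroup.mem_centralizer_iff.mp (hle hy) x hx)
  have hAC : A ≤ C := fun a ha => Subgroup.subset_closure (Subgroup.subset_closure ⟨a, ha, rfl⟩)
  have hCA : C ≤ A := hA.2 hC hAC
  have hcard : Nat.card A = Nat.card B := by
    refine Nat.card_congr ((e.image (A : Set G)).trans (Equiv.setCongr (Set.Subset.antisymm Subgroup.subset_closure ?_)))
    intro b hb
    exact ⟨e.symm b, hCA (Subgroup.subset_closure (by simpa using hb)), e.apply_symm_apply b⟩
  have hdvd : p * q ∣ Nat.card B := by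
    rw [← hcard, ← hg, ← Nat.card_zpowers]
    exact Subgroup.card_dvd_of_le hgA
  haveI := Fact.mk hp
  haveI := Fact.mk hq
  obtain ⟨x, hx⟩ := exists_prime_orderOf_dvd_card' (G := B) p ((dvd_mul_right p q).trans hdvd)
  obtain ⟨y, hy⟩ := exists_prime_orderOf_dvd_card' (G := B) q ((dvd_mul_left q p).trans hdvd)
  refine ⟨((x * y : B) : H), ?_⟩
  rw [Subgroup.orderOf_coe,
    Commute.orderOf_mul_eq_mul_orderOf_of_coprime (x := x) (y := y) (Subtype.ext (hB _ x.2 _ y.2).eq)
      (by rw [hx, hy]; exact (Nat.coprime_primes hp hq).mpr hpq), hx, hy]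

/-- Let G and H be finite groups whose commuting graphs are isomorphic: there is a bijection e : G → H with x, y commuting exactly when e(x), e(y) commute. Then G and H have the same prime graph: for distinct primes p, q, G has an element of order pq if and only if H does (and #G = #H, so the prime divisors agree). -/
theorem result {G H : Type*} [Group G] [Finite G] [Group H] [Finite H] (e : G ≃ H)
    (he : ∀ x y : G, Commute x y ↔ Commute (e x) (e y))
    {p q : ℕ} (hp : p.Prime) (hq : q.Prime) (hpq : p ≠ q) :
    (∃ g : G, orderOf g = p * q) ↔ (∃ h : H, orderOf h = p * q) := by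
  exact ⟨transfer e he hp hq hpq, transfer e.symm (fun x y => by rw [he]; simp) hp hq hpq⟩

end Cfsg.Agent.S4084
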