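import Cfsg.Statements.S4085
import Mathlib.GroupTheory.SpecificGroups.Cyclic
import Mathlib.Data.Nat.Totient

set_option autoImplicit false
open Cfsg

/-!
Groups with isomorphic power graphs have the same prime graph.

The closed neighbourhood of a generator `v` of a maximal cyclic subgroup of order `n` is that
subgroup, so it induces the power graph of `ℤ/n`.  If `n` has two prime divisors, the image `v'`
of `v` is again maximal: otherwise two non-adjacent maximal vertices above `v'` would give two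
twin classes of size at least `φ n` outside the dominating vertices, and in the power graph of
`ℤ/n` there is at most one such class (the elements of order `n / 2`).
-/

namespace Cfsg.Agent.S4085

section

variable {G : Type*} [Group G]

/-- Adjacency (or equality) in the power graph. -/
def PAdj (x y : G) : Prop := x ∈ Subgroup.zpowers y ∨ y ∈ Subgroup.zpowers x

/-- `v` generates a maximal cyclic subgroup. -/
def PTop (v : G) : Prop := ∀ y : G, v ∈ Subgroup.zpowers y → y ∈ Subgroup.zpowers v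

/-- `n` has at least two prime divisors. -/
def TwoPrimes (n : ℕ) : Prop := ∃ r t : ℕ, r.Prime ∧ t.Prime ∧ r ≠ t ∧ r ∣ n ∧ t ∣ n

theorem padj_comm {x y : G} : PAdj x y ↔ PAdj y x := or_comm

theorem mem_trans' {x y z : G} (h1 : x ∈ Subgroup.zpowers y) (h2 : y ∈ Subgroup.zpowers z) :
    x ∈ Subgroup.zpowers z :=
  Subgroup.zpowers_le.mpr h2 h1

theorem padj_top {v : G} (hv : PTop v) (z : G) : PAdj v z ↔ z ∈ Subgroup.zpowers v :=
  ⟨fun h => h.elim (hv z) id, fun h => Or.inr h⟩

theorem twins_nat {U d d' : ℕ} (hU : U ≠ 0) (h2 : TwoPrimes U) (hdd : d ∣ d') (hd'U : d' ∣ U)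
    (hne : d' ≠ U)
    (h : ∀ e, e ∣ U → ((e ∣ d ∨ d ∣ e) ↔ (e ∣ d' ∨ d' ∣ e))) : d = d' := by
  by_contra hd
  have hd'0 : d' ≠ 0 := fun hz => hU (by simpa [hz] using hd'U)
  have hd0 : d ≠ 0 := fun hz => hd'0 (by simpa [hz] using hdd)
  obtain ⟨a, ha⟩ := hdd
  obtain ⟨b, hb⟩ := hd'U
  have ha1 : a ≠ 1 := fun h1 => hd (by rw [ha, h1, mul_one])
  have hb1 : b ≠ 1 := fun h1 => hne (by rw [hb, h1, mul_one])
  obtain ⟨r, hr, hra⟩ := Nat.exists_prime_and_dvd ha1
  obtain ⟨s, hs, hsb⟩ := Nat.exists_prime_and_dvd hb1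
  have hd's : d' * s ∣ U := by rw [hb]; exact mul_dvd_mul_left _ hsb
  have hdr : d * r ∣ d' := by rw [ha]; exact mul_dvd_mul_left _ hra
  -- any prime step above `d` below `d'` uses the same prime as any step above `d'`
  have key : ∀ r' s' : ℕ, r'.Prime → s'.Prime → d * r' ∣ d' → d' * s' ∣ U → r' = s' := by
    intro r' s' hr' hs' h1 h2'
    by_contra hrs
    set K := U.factorization s' with hK
    have hKU : s' ^ K ∣ U := Nat.ordProj_dvd U s'
    have hnot : ¬ s' ^ K ∣ d' := by
      intro hd2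
      exact Nat.pow_succ_factorization_not_dvd hU hs'
        ((pow_succ s' K) ▸ (mul_dvd_mul_right hd2 s').trans h2')
    set e := Nat.lcm d (s' ^ K) with he
    have heU : e ∣ U := Nat.lcm_dvd ((dvd_mul_right d r').trans (h1.trans (hb ▸ dvd_mul_right _ _)))
      hKU
    rcases (h e heU).mp (Or.inr (Nat.dvd_lcm_left _ _)) with h3 | h3
    · exact hnot ((Nat.dvd_lcm_right _ _).trans h3)
    · have h4 : d * r' ∣ d * s' ^ K := (h1.trans h3).trans (Nat.lcm_dvd_mul _ _)
      have h5 : r' ∣ s' ^ K := Nat.dvd_of_mul_dvd_mul_left (Nat.pos_of_ne_zero hd0) h4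
      exact hrs ((Nat.prime_dvd_prime_iff_eq hr' hs').mp (hr'.dvd_of_dvd_pow h5))
  have hrs : r = s := key r s hr hs hdr hd's
  obtain ⟨t, ht, htr, htU⟩ : ∃ t : ℕ, t.Prime ∧ t ≠ r ∧ t ∣ U := by
    obtain ⟨p₁, p₂, h1, h2', hne', hd1, hd2⟩ := h2
    rcases eq_or_ne p₁ r with rfl | h'
    · exact ⟨p₂, h2', hne'.symm, hd2⟩
    · exact ⟨p₁, h1, h', hd1⟩
  have htd' : t ∣ d' := by
    by_contra hnd
    have hco : Nat.Coprime d' t := ((ht.coprime_iff_not_dvd).mpr hnd).symm
    have h6 : d' * t ∣ U := hco.mul_dvd_of_dvd_of_dvd (hb ▸ dvd_mul_right _ _) htU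
    exact htr (key r t hr ht hdr h6).symm
  obtain ⟨c, hc⟩ := htd'
  have hcd : c ∣ d' := hc ▸ dvd_mul_left c t
  rcases (h c (hcd.trans (hb ▸ dvd_mul_right _ _))).mpr (Or.inl hcd) with h7 | h7
  · -- `c ∣ d`, so the quotient `a` divides `t`
    have h8 : d * r ∣ d * t := by
      refine hdr.trans ?_
      rw [hc, mul_comm d t]
      exact mul_dvd_mul_left t h7
    exact htr ((Nat.prime_dvd_prime_iff_eq hr ht).mp
      (Nat.dvd_of_mul_dvd_mul_left (Nat.pos_of_ne_zero hd0) h8)).symm
  · have h8 : d * t ∣ d' := by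
      rw [hc, mul_comm d t]
      exact mul_dvd_mul_left t h7
    exact htr (by rw [key t s ht hs h8 hd's, hrs])

theorem totient_big {d n : ℕ} (hn : n ≠ 0) (hdn : d ∣ n) (hne : d ≠ n)
    (hle : n.totient ≤ d.totient) : n = 2 * d := by
  obtain ⟨k, rfl⟩ := hdn
  have hd : 0 < d := Nat.pos_of_ne_zero (left_ne_zero_of_mul hn)
  have hk : 0 < k := Nat.pos_of_ne_zero (right_ne_zero_of_mul hn)
  have hg : 0 < d.gcd k := Nat.gcd_pos_of_pos_left k hd
  have h1 := Nat.totient_gcd_mul_totient_mul d k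
  have h2 : d.totient * k.totient * d.gcd k ≤ d.totient * 1 * d.gcd k := by
    calc d.totient * k.totient * d.gcd k = (d.gcd k).totient * (d * k).totient := h1.symm
      _ ≤ d.gcd k * d.totient := Nat.mul_le_mul (Nat.totient_le _) hle
      _ = d.totient * 1 * d.gcd k := by ring
  have h3 : k.totient ≤ 1 :=
    Nat.le_of_mul_le_mul_left (Nat.le_of_mul_le_mul_right h2 hg) (Nat.totient_pos.mpr hd)
  have h4 : k.totient = 1 := le_antisymm h3 (Nat.totient_pos.mpr hk)
  rcases Nat.totient_eq_one_iff.mp h4 with rfl | rfl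
  · exact absurd (mul_one d).symm hne
  · ring

variable [Finite G]

theorem mem_zpowers_iff_dvd {u a b : G} (ha : a ∈ Subgroup.zpowers u)
    (hb : b ∈ Subgroup.zpowers u) :
    a ∈ Subgroup.zpowers b ↔ orderOf a ∣ orderOf b := by
  refine ⟨orderOf_dvd_of_mem_zpowers, fun h => ?_⟩
  classical
  haveI := Fintype.ofFinite (Subgroup.zpowers u)
  set C := Subgroup.zpowers u
  set B : C := ⟨b, hb⟩
  set A : C := ⟨a, ha⟩
  set S := Finset.univ.filter (fun x : C => x ^ orderOf b = 1)
  set T := Finset.univ.filter (fun x : C => x ∈ Subgroup.zpowers B)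
  have hTS : T ⊆ S := by
    intro x hx
    simp only [T, S, Finset.mem_filter, Finset.mem_univ, true_and] at hx ⊢
    rw [← Subgroup.orderOf_mk b hb, ← orderOf_dvd_iff_pow_eq_one]
    exact orderOf_dvd_of_mem_zpowers hx
  have hT : T.card = orderOf b := by
    rw [← Subgroup.orderOf_mk b hb, ← Nat.card_zpowers, Nat.card_eq_fintype_card,
      Fintype.card_subtype]
  have hS : S.card ≤ orderOf b := IsCyclic.card_pow_eq_one_le (orderOf_pos b)
  have hA : A ∈ S := by
    simp only [S, Finset.mem_filter, Finset.mem_univ, true_and]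
    rw [← orderOf_dvd_iff_pow_eq_one, Subgroup.orderOf_mk]
    exact h
  have hAT : A ∈ T := by rw [Finset.eq_of_subset_of_card_le hTS (hT ▸ hS)]; exact hA
  simp only [T, Finset.mem_filter, Finset.mem_univ, true_and] at hAT
  obtain ⟨i, hi⟩ := Subgroup.mem_zpowers_iff.mp hAT
  exact Subgroup.mem_zpowers_iff.mpr ⟨i, by simpa [A, B] using congrArg Subtype.val hi⟩

theorem padj_iff_dvd {u a b : G} (ha : a ∈ Subgroup.zpowers u) (hb : b ∈ Subgroup.zpowers u) :
    PAdj a b ↔ (orderOf a ∣ orderOf b ∨ orderOf b ∣ orderOf a) :=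
  or_congr (mem_zpowers_iff_dvd ha hb) (mem_zpowers_iff_dvd hb ha)

theorem exists_orderOf_eq {u : G} {d : ℕ} (hd : d ∣ orderOf u) :
    ∃ x ∈ Subgroup.zpowers u, orderOf x = d := by
  refine ⟨u ^ (orderOf u / d), Subgroup.npow_mem_zpowers u _, ?_⟩
  rw [orderOf_pow, Nat.gcd_eq_right (Nat.div_dvd_of_dvd hd),
    Nat.div_div_self hd (orderOf_pos u).ne']

theorem twins_orderOf {u a b : G} (h2 : TwoPrimes (orderOf u))
    (ha : a ∈ Subgroup.zpowers u) (hb : b ∈ Subgroup.zpowers u)
    (ha' : orderOf a ≠ orderOf u) (hb' : orderOf b ≠ orderOf u)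
    (h : ∀ z ∈ Subgroup.zpowers u, (PAdj a z ↔ PAdj b z)) : orderOf a = orderOf b := by
  have hab : PAdj a b := (h b hb).mpr (Or.inl (Subgroup.mem_zpowers b))
  have hU := (orderOf_pos u).ne'
  have key : ∀ e, e ∣ orderOf u →
      ((e ∣ orderOf a ∨ orderOf a ∣ e) ↔ (e ∣ orderOf b ∨ orderOf b ∣ e)) := by
    intro e he
    obtain ⟨z, hz, rfl⟩ := exists_orderOf_eq he
    rw [or_comm, ← padj_iff_dvd ha hz, or_comm, ← padj_iff_dvd hb hz]
    exact h z hz
  rcases (padj_iff_dvd ha hb).mp hab with hd | hd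
  · exact twins_nat hU h2 hd (orderOf_dvd_of_mem_zpowers hb) hb' key
  · exact (twins_nat hU h2 hd (orderOf_dvd_of_mem_zpowers ha) ha'
      (fun e he => (key e he).symm)).symm

theorem dominant_cyclic {u a : G} (h2 : TwoPrimes (orderOf u)) (ha : a ∈ Subgroup.zpowers u)
    (h : ∀ z ∈ Subgroup.zpowers u, PAdj a z) : a = 1 ∨ orderOf a = orderOf u := by
  by_cases hgen : orderOf a = orderOf u
  · exact Or.inr hgen
  left
  have h1 : orderOf (1 : G) ≠ orderOf u := by
    rw [orderOf_one]
    obtain ⟨r, _, hr, _, _, hru, _⟩ := h2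
    intro h1
    exact hr.ne_one (Nat.dvd_one.mp (h1 ▸ hru))
  have := twins_orderOf h2 ha (one_mem _) hgen h1
    (fun z hz => iff_of_true (h z hz) (Or.inl (one_mem _)))
  exact orderOf_eq_one_iff.mp (this.trans orderOf_one)

theorem ncard_gen (u : G) {d : ℕ} (hd : d ∣ orderOf u) :
    {x : G | x ∈ Subgroup.zpowers u ∧ orderOf x = d}.ncard = d.totient := by
  classical
  haveI := Fintype.ofFinite (Subgroup.zpowers u)
  have h1 : {x : G | x ∈ Subgroup.zpowers u ∧ orderOf x = d} =
      Subtype.val '' ((Finset.univ.filter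
        (fun a : Subgroup.zpowers u => orderOf a = d) : Finset _) : Set (Subgroup.zpowers u)) := by
    ext x
    simp only [Set.mem_setOf_eq, Set.mem_image, Finset.coe_filter, Finset.mem_univ, true_and]
    constructor
    · rintro ⟨hx, ho⟩
      exact ⟨⟨x, hx⟩, by rwa [Subgroup.orderOf_mk], rfl⟩
    · rintro ⟨⟨y, hy⟩, ho, rfl⟩
      exact ⟨hy, by rwa [Subgroup.orderOf_mk] at ho⟩
  rw [h1, Set.ncard_image_of_injective _ Subtype.val_injective, Set.ncard_coe_finset]
  exact IsCyclic.card_orderOf_eq_totient (by rwa [← Nat.card_eq_fintype_card, Nat.card_zpowers])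

theorem zpowers_eq_of_orderOf_eq {u y : G} (hy : y ∈ Subgroup.zpowers u)
    (h : orderOf y = orderOf u) : Subgroup.zpowers y = Subgroup.zpowers u :=
  Subgroup.eq_of_le_of_card_ge (Subgroup.zpowers_le.mpr hy)
    (by rw [Nat.card_zpowers, Nat.card_zpowers, h])

theorem exists_top (y : G) : ∃ w, y ∈ Subgroup.zpowers w ∧ PTop w := by
  classical
  haveI := Fintype.ofFinite G
  obtain ⟨w, hw', hmax'⟩ := Finset.exists_max_image
    (Finset.univ.filter fun w : G => y ∈ Subgroup.zpowers w) orderOf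
    ⟨y, Finset.mem_filter.mpr ⟨Finset.mem_univ _, Subgroup.mem_zpowers y⟩⟩
  have hw : y ∈ Subgroup.zpowers w := (Finset.mem_filter.mp hw').2
  have hmax : ∀ z, y ∈ Subgroup.zpowers z → orderOf z ≤ orderOf w := fun z hz =>
    hmax' z (Finset.mem_filter.mpr ⟨Finset.mem_univ _, hz⟩)
  refine ⟨w, hw, fun z hz => ?_⟩
  have hyz : y ∈ Subgroup.zpowers z := mem_trans' hw hz
  have h1 : orderOf w = orderOf z :=
    le_antisymm (Nat.le_of_dvd (orderOf_pos z) (orderOf_dvd_of_mem_zpowers hz)) (hmax z hyz)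
  rw [zpowers_eq_of_orderOf_eq hz h1]
  exact Subgroup.mem_zpowers z

theorem top_of_gen {u y : G} (hu : PTop u) (hy : y ∈ Subgroup.zpowers u)
    (h : orderOf y = orderOf u) : PTop y := by
  intro z hz
  have he := zpowers_eq_of_orderOf_eq hy h
  rw [he]
  exact hu z (mem_trans' (he ▸ Subgroup.mem_zpowers u) hz)

variable {H : Type*} [Group H] [Finite H]

theorem exists_pq_of_iso (f : G ≃ H) (hf : ∀ x y : G, PAdj x y ↔ PAdj (f x) (f y))
    {p q : ℕ} (hp : p.Prime) (hq : q.Prime) (hpq : p ≠ q) (hex : ∃ g : G, orderOf g = p * q) :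
    ∃ h : H, orderOf h = p * q := by
  classical
  -- we may assume that the identity is mapped to the identity
  set e : G ≃ H := f.trans (Equiv.swap (f 1) 1) with he_def
  have huniv : ∀ z : H, PAdj (f 1) z := by
    intro z
    obtain ⟨x, rfl⟩ := f.surjective z
    exact (hf 1 x).mp (Or.inl (one_mem _))
  have huniv1 : ∀ z : H, PAdj 1 z := fun z => Or.inl (one_mem _)
  have hswap : ∀ a b : H, PAdj (Equiv.swap (f 1) 1 a) (Equiv.swap (f 1) 1 b) ↔ PAdj a b := by
    intro a b
    by_cases ha : a = f 1 ∨ a = 1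
    · rcases ha with rfl | rfl
      · rw [Equiv.swap_apply_left]; exact iff_of_true (huniv1 _) (huniv _)
      · rw [Equiv.swap_apply_right]; exact iff_of_true (huniv _) (huniv1 _)
    · push Not at ha
      rw [Equiv.swap_apply_of_ne_of_ne ha.1 ha.2]
      by_cases hb : b = f 1 ∨ b = 1
      · rcases hb with rfl | rfl
        · rw [Equiv.swap_apply_left]
          exact iff_of_true (padj_comm.mp (huniv1 _)) (padj_comm.mp (huniv _))
        · rw [Equiv.swap_apply_right]
          exact iff_of_true (padj_comm.mp (huniv _)) (padj_comm.mp (huniv1 _))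
      · push Not at hb
        rw [Equiv.swap_apply_of_ne_of_ne hb.1 hb.2]
  have he : ∀ x y : G, PAdj x y ↔ PAdj (e x) (e y) := fun x y =>
    (hf x y).trans (hswap (f x) (f y)).symm
  have he1 : e 1 = 1 := by simp [he_def]
  -- a maximal cyclic subgroup of order divisible by `p * q`
  obtain ⟨g, hg⟩ := hex
  obtain ⟨v, hgv, hv⟩ := exists_top g
  have hpqv : p * q ∣ orderOf v := hg ▸ orderOf_dvd_of_mem_zpowers hgv
  have h2v : TwoPrimes (orderOf v) :=
    ⟨p, q, hp, hq, hpq, (dvd_mul_right p q).trans hpqv, (dvd_mul_left q p).trans hpqv⟩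
  set v' := e v with hv'_def
  have hS : ∀ z : H, PAdj v' z ↔ e.symm z ∈ Subgroup.zpowers v := by
    intro z
    rw [← padj_top hv, he, e.apply_symm_apply]
  -- it suffices that `v'` is maximal
  by_cases hv' : PTop v'
  · have hcard : orderOf v' = orderOf v := by
      rw [← Nat.card_zpowers, ← Nat.card_zpowers]
      refine Nat.card_congr (e.subtypeEquiv (fun x => ?_)).symm
      rw [← padj_top hv', ← padj_top hv]
      exact he v x
    obtain ⟨x, -, hx⟩ := exists_orderOf_eq (u := v') (d := p * q) (hcard ▸ hpqv)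
    exact ⟨x, hx⟩
  exfalso
  set n := orderOf v
  -- dominating vertices of the neighbourhood of `v'`
  have hdom : ∀ y : H, PAdj v' y → y ≠ 1 → (∀ z, PAdj v' z → PAdj y z) →
      orderOf (e.symm y) = n := by
    intro y hy hy1 hyd
    have hyv := (hS y).mp hy
    rcases dominant_cyclic h2v hyv (fun z hz => by
      rw [he, e.apply_symm_apply]
      exact hyd (e z) ((hS _).mpr (by rwa [e.symm_apply_apply]))) with h1 | h1
    · exact absurd (by rw [← e.apply_symm_apply y, h1, he1]) hy1
    · exact h1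
  have hgenN : ∀ y : H, e.symm y ∈ Subgroup.zpowers v → orderOf (e.symm y) = n →
      ∀ z, PAdj y z ↔ PAdj v' z := by
    intro y hy ho z
    have := he (e.symm y) (e.symm z)
    rw [e.apply_symm_apply, e.apply_symm_apply] at this
    rw [← this, padj_top (top_of_gen hv hy ho), zpowers_eq_of_orderOf_eq hy ho, hS]
  have hR : ∀ y : H, PAdj v' y → y ≠ 1 → (∀ z, PAdj v' z → PAdj y z) →
      ∀ z, PAdj y z ↔ PAdj v' z :=
    fun y hy hy1 hyd => hgenN y ((hS y).mp hy) (hdom y hy hy1 hyd)
  have hv1 : v' ≠ 1 := by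
    intro h1
    have h3 : v = 1 := e.injective (h1.trans he1.symm)
    have h4 : g = 1 := by simpa [h3] using hgv
    rw [h4, orderOf_one] at hg
    exact hp.ne_one (Nat.dvd_one.mp (hg ▸ dvd_mul_right p q))
  set D := {y : H | PAdj v' y ∧ y ≠ 1 ∧ ∀ z, PAdj v' z → PAdj y z} with hD_def
  have hD : D.ncard = n.totient := by
    have h1 : D = e '' {x : G | x ∈ Subgroup.zpowers v ∧ orderOf x = n} := by
      ext y
      constructor
      · rintro ⟨hy, hy1, hyd⟩
        exact ⟨e.symm y, ⟨(hS y).mp hy, hdom y hy hy1 hyd⟩, e.apply_symm_apply y⟩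
      · rintro ⟨x, ⟨hx, ho⟩, rfl⟩
        have hx' : e.symm (e x) ∈ Subgroup.zpowers v := by rwa [e.symm_apply_apply]
        have ho' : orderOf (e.symm (e x)) = n := by rwa [e.symm_apply_apply]
        refine ⟨(hS _).mpr hx', ?_, fun z hz => (hgenN _ hx' ho' z).mpr hz⟩
        intro h1
        have : x = 1 := e.injective (h1.trans he1.symm)
        rw [this, orderOf_one] at ho
        obtain ⟨r, _, hr, _, _, hrn, _⟩ := h2v
        exact hr.ne_one (Nat.dvd_one.mp (ho ▸ hrn))
    rw [h1, Set.ncard_image_of_injective _ e.injective, ncard_gen v dvd_rfl]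
  -- a large twin class of non-dominating vertices sits in order `n / 2`
  have hTW : ∀ (a : H) (T : Set H), PAdj v' a → (∃ z, PAdj v' z ∧ ¬ PAdj a z) →
      (∀ y ∈ T, PAdj v' y ∧ ∀ z, PAdj v' z → (PAdj y z ↔ PAdj a z)) →
      n.totient ≤ T.ncard → n = 2 * orderOf (e.symm a) := by
    intro a T ha ⟨z₀, hz₀, hnot⟩ hT hle
    set d := orderOf (e.symm a)
    have hnd : ∀ y : H, PAdj v' y → ¬ PAdj y z₀ → orderOf (e.symm y) ≠ n := fun y hy hny ho =>
      hny ((hgenN y ((hS y).mp hy) ho z₀).mpr hz₀)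
    have hsub : e.symm '' T ⊆ {x : G | x ∈ Subgroup.zpowers v ∧ orderOf x = d} := by
      rintro _ ⟨y, hy, rfl⟩
      obtain ⟨hy', hytw⟩ := hT y hy
      refine ⟨(hS y).mp hy', twins_orderOf h2v ((hS y).mp hy') ((hS a).mp ha)
        (hnd y hy' (fun h => hnot ((hytw z₀ hz₀).mp h))) (hnd a ha hnot) (fun z hz => ?_)⟩
      have hz' : PAdj v' (e z) := (hS _).mpr (by rwa [e.symm_apply_apply])
      rw [he, he (e.symm a), e.apply_symm_apply, e.apply_symm_apply]
      exact hytw _ hz'
    have h1 := Set.ncard_le_ncard hsub (Set.toFinite _)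
    rw [Set.ncard_image_of_injective _ e.symm.injective,
      ncard_gen v (orderOf_dvd_of_mem_zpowers ((hS a).mp ha))] at h1
    exact totient_big (orderOf_pos v).ne' (orderOf_dvd_of_mem_zpowers ((hS a).mp ha))
      (hnd a ha hnot) (hle.trans h1)
  -- the maximal vertices above `v'`
  obtain ⟨y₀, hy₀, hy₀'⟩ : ∃ y, v' ∈ Subgroup.zpowers y ∧ y ∉ Subgroup.zpowers v' := by
    simpa [PTop] using hv'
  obtain ⟨u, hyu, hu⟩ := exists_top y₀
  have hvu : v' ∈ Subgroup.zpowers u := mem_trans' hy₀ hyu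
  have huv : u ∉ Subgroup.zpowers v' := fun h => hy₀' (mem_trans' hyu h)
  have hbig : ∀ w : H, PTop w → v' ∈ Subgroup.zpowers w → w ∉ Subgroup.zpowers v' →
      (∃ z, PAdj v' z ∧ ¬ PAdj w z) → n = 2 * orderOf (e.symm w) := by
    intro w hw hvw hwv hnd
    have hwS : PAdj v' w := Or.inl hvw
    refine hTW w {y : H | y ∈ Subgroup.zpowers w ∧ orderOf y = orderOf w} hwS hnd ?_ ?_
    · rintro y ⟨hy, ho⟩
      have hz := zpowers_eq_of_orderOf_eq hy ho
      refine ⟨Or.inl (hz ▸ hvw), fun z _ => ?_⟩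
      rw [padj_top (top_of_gen hw hy ho), padj_top hw, hz]
    rw [ncard_gen w dvd_rfl, ← hD]
    -- the dominating vertices lie in `zpowers w` below the generators
    have hDw : ∀ y ∈ D, y ∈ Subgroup.zpowers w ∧ orderOf y ≠ orderOf w ∧
        ∀ z, PAdj y z ↔ PAdj v' z := by
      rintro y ⟨hy, hy1, hyd⟩
      have hyw : y ∈ Subgroup.zpowers w := (padj_top hw y).mp (padj_comm.mp (hyd w hwS))
      refine ⟨hyw, fun ho => ?_, hR y hy hy1 hyd⟩
      obtain ⟨z, hz, hnz⟩ := hnd
      apply hnz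
      have := (padj_top (top_of_gen hw hyw ho) z).mp (hyd z hz)
      rw [zpowers_eq_of_orderOf_eq hyw ho] at this
      exact (padj_top hw z).mpr this
    have hvne : orderOf v' ≠ orderOf w := fun ho =>
      hwv (by rw [zpowers_eq_of_orderOf_eq hvw ho]; exact Subgroup.mem_zpowers w)
    by_cases h2w : TwoPrimes (orderOf w)
    · have hsub : D ⊆ {x : H | x ∈ Subgroup.zpowers w ∧ orderOf x = orderOf v'} := fun y hy =>
        ⟨(hDw y hy).1, twins_orderOf h2w (hDw y hy).1 hvw (hDw y hy).2.1 hvne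
          (fun z _ => (hDw y hy).2.2 z)⟩
      refine (Set.ncard_le_ncard hsub (Set.toFinite _)).trans ?_
      rw [ncard_gen w (orderOf_dvd_of_mem_zpowers hvw)]
      exact Nat.le_of_dvd (Nat.totient_pos.mpr (orderOf_pos w))
        (Nat.totient_dvd_of_dvd (orderOf_dvd_of_mem_zpowers hvw))
    · have hW1 : orderOf w ≠ 1 := fun h1 => hwv (by
        rw [orderOf_eq_one_iff.mp h1]; exact one_mem _)
      obtain ⟨r, hr, hrw⟩ := Nat.exists_prime_and_dvd hW1
      have hpow : orderOf w = r ^ (orderOf w).primeFactorsList.length :=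
        Nat.eq_prime_pow_of_unique_prime_dvd (orderOf_pos w).ne' fun {d} hd hdw => by
          by_contra hdr
          exact h2w ⟨d, r, hd, hr, hdr, hdw, hrw⟩
      set a := (orderOf w).primeFactorsList.length
      have ha : 0 < a := Nat.pos_of_ne_zero fun h0 => hW1 (by rw [hpow, h0, pow_zero])
      have hphi : orderOf w ≤ 2 * (orderOf w).totient := by
        obtain ⟨b, hb⟩ := Nat.exists_eq_add_of_le ha
        rw [hpow, Nat.totient_prime_pow hr ha, hb, show 0 + 1 + b = b + 1 by ring,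
          Nat.add_sub_cancel, pow_succ]
        calc r ^ b * r ≤ r ^ b * (2 * (r - 1)) :=
              Nat.mul_le_mul_left _ (by have := hr.two_le; omega)
          _ = 2 * (r ^ b * (r - 1)) := by ring
      have hsub : D ∪ {x : H | x ∈ Subgroup.zpowers w ∧ orderOf x = orderOf w} ⊆
          (Subgroup.zpowers w : Set H) := by
        rintro y (hy | hy)
        · exact (hDw y hy).1
        · exact hy.1
      have hdis : Disjoint D {x : H | x ∈ Subgroup.zpowers w ∧ orderOf x = orderOf w} :=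
        Set.disjoint_left.mpr fun y hy hy' => (hDw y hy).2.1 hy'.2
      have h1 := Set.ncard_le_ncard hsub (Set.toFinite _)
      rw [Set.ncard_union_eq hdis, ncard_gen w dvd_rfl] at h1
      rw [show (Subgroup.zpowers w : Set H).ncard = orderOf w from Nat.card_zpowers w] at h1
      omega
  have hundom : ∃ z, PAdj v' z ∧ ¬ PAdj u z := by
    by_contra hcon
    push Not at hcon
    have hu1 : u ≠ 1 := fun h => huv (h ▸ one_mem _)
    have hN := hR u (Or.inl hvu) hu1 hcon
    by_cases h2u : TwoPrimes (orderOf u)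
    · rcases dominant_cyclic h2u hvu
        (fun z hz => (hN z).mp ((padj_top hu z).mpr hz)) with h1 | h1
      · exact hv1 h1
      · exact huv (by rw [zpowers_eq_of_orderOf_eq hvu h1]; exact Subgroup.mem_zpowers u)
    · -- the neighbourhood would be complete
      obtain ⟨r, hr, hru⟩ := Nat.exists_prime_and_dvd (fun h1 => hu1 (orderOf_eq_one_iff.mp h1))
      have hpow : orderOf u = r ^ (orderOf u).primeFactorsList.length :=
        Nat.eq_prime_pow_of_unique_prime_dvd (orderOf_pos u).ne' fun {d} hd hdu => by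
          by_contra hdr
          exact h2u ⟨d, r, hd, hr, hdr, hdu, hru⟩
      obtain ⟨x, hx, hxo⟩ := exists_orderOf_eq (u := v) (d := p) ((dvd_mul_right p q).trans hpqv)
      obtain ⟨y, hy, hyo⟩ := exists_orderOf_eq (u := v) (d := q) ((dvd_mul_left q p).trans hpqv)
      have hx' : e x ∈ Subgroup.zpowers u :=
        (padj_top hu _).mp ((hN _).mpr ((hS _).mpr (by rwa [e.symm_apply_apply])))
      have hy' : e y ∈ Subgroup.zpowers u :=
        (padj_top hu _).mp ((hN _).mpr ((hS _).mpr (by rwa [e.symm_apply_apply])))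
      have hadj : PAdj (e x) (e y) := by
        rw [padj_iff_dvd hx' hy']
        obtain ⟨i, -, hi⟩ := (Nat.dvd_prime_pow hr).mp (hpow ▸ orderOf_dvd_of_mem_zpowers hx')
        obtain ⟨j, -, hj⟩ := (Nat.dvd_prime_pow hr).mp (hpow ▸ orderOf_dvd_of_mem_zpowers hy')
        rw [hi, hj]
        exact (le_total i j).imp (pow_dvd_pow r) (pow_dvd_pow r)
      rw [← he, padj_iff_dvd hx hy, hxo, hyo] at hadj
      rcases hadj with h | h
      · exact hpq ((Nat.prime_dvd_prime_iff_eq hp hq).mp h)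
      · exact hpq ((Nat.prime_dvd_prime_iff_eq hq hp).mp h).symm
  obtain ⟨z, hz, hnz⟩ := hundom
  have hzu : z ∉ Subgroup.zpowers u := fun h => hnz ((padj_top hu z).mpr h)
  have hvz : v' ∈ Subgroup.zpowers z := hz.elim id fun h => absurd (mem_trans' h hvu) hzu
  obtain ⟨w, hzw, hw⟩ := exists_top z
  have hvw : v' ∈ Subgroup.zpowers w := mem_trans' hvz hzw
  have huw : ¬ PAdj u w := fun h => hzu (mem_trans' hzw ((padj_top hu w).mp h))
  have hwv : w ∉ Subgroup.zpowers v' := fun h => huw (Or.inr (mem_trans' h hvu))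
  have h1 := hbig u hu hvu huv ⟨w, Or.inl hvw, huw⟩
  have h2 := hbig w hw hvw hwv ⟨u, Or.inl hvu, fun h => huw (padj_comm.mp h)⟩
  apply huw
  have h3 : PAdj (e.symm u) (e.symm w) :=
    (padj_iff_dvd ((hS u).mp (Or.inl hvu)) ((hS w).mp (Or.inl hvw))).mpr (Or.inl (by
      rw [show orderOf (e.symm u) = orderOf (e.symm w) by omega]))
  rw [he, e.apply_symm_apply, e.apply_symm_apply] at h3
  exact h3

end

/-- Let G and H be finite groups whose power graphs are isomorphic: there is a bijection e : G → H such that, for all x, y, one of x, y is a power of the other exactly when one of e(x), e(y) is a power of the other. Then G and H have the same prime graph: for distinct primes p, q, G has an element of order pq if and only if H does. -/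
theorem result {G H : Type*} [Group G] [Finite G] [Group H] [Finite H] (e : G ≃ H)
    (he : ∀ x y : G, (x ∈ Subgroup.zpowers y ∨ y ∈ Subgroup.zpowers x) ↔
      (e x ∈ Subgroup.zpowers (e y) ∨ e y ∈ Subgroup.zpowers (e x)))
    {p q : ℕ} (hp : p.Prime) (hq : q.Prime) (hpq : p ≠ q) :
    (∃ g : G, orderOf g = p * q) ↔ (∃ h : H, orderOf h = p * q) := by
  refine ⟨exists_pq_of_iso e he hp hq hpq, exists_pq_of_iso e.symm (fun x y => ?_) hp hq hpq⟩
  have := he (e.symm x) (e.symm y)
  rw [e.apply_symm_apply, e.apply_symm_apply] at this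
  exact this.symm

end Cfsg.Agent.S4085
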