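import Cfsg.Statements.S4086
import Mathlib.GroupTheory.SpecificGroups.Cyclic
import Mathlib.Data.Nat.Factorization.PrimePow

set_option autoImplicit false
open Cfsg

namespace Cfsg.Agent.S4086

/-- For a finite group G the following are equivalent: every non-identity element has prime-power order; whenever two elements generate a cyclic subgroup, one of them is a power of the other (the enhanced power graph of G coincides with its power graph). -/
theorem result {G : Type*} [Group G] [Finite G] :
    (∀ g : G, g ≠ 1 → IsPrimePow (orderOf g)) ↔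
    (∀ x y : G, IsCyclic ↥(Subgroup.closure ({x, y} : Set G)) → (x ∈ Subgroup.zpowers y ∨ y ∈ Subgroup.zpowers x)) := by
  constructor
  · intro h x y hcyc
    set K := Subgroup.closure ({x, y} : Set G)
    obtain ⟨c, hc⟩ := IsCyclic.exists_generator (α := K)
    have hz : ∀ w ∈ K, w ∈ Subgroup.zpowers (c : G) := fun w hw => by
      obtain ⟨i, hi⟩ := hc ⟨w, hw⟩
      exact ⟨i, congrArg Subtype.val hi⟩
    have hgen : ∀ w ∈ K, ∃ d, d ∣ orderOf (c : G) ∧ Subgroup.zpowers w = Subgroup.zpowers ((c : G) ^ d) := by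
      intro w hw
      obtain ⟨a, rfl⟩ := Submonoid.mem_powers_iff _ _ |>.mp
        ((isOfFinOrder_of_finite (c : G)).mem_powers_iff_mem_zpowers.mpr (hz w hw))
      refine ⟨a.gcd (orderOf (c : G)), Nat.gcd_dvd_right _ _, le_antisymm ?_ ?_⟩
      · obtain ⟨t, ht⟩ := Nat.gcd_dvd_left a (orderOf (c : G))
        rw [Subgroup.zpowers_le]
        refine ⟨t, ?_⟩
        show ((c : G) ^ a.gcd (orderOf (c : G))) ^ (t : ℤ) = _
        rw [zpow_natCast, ← pow_mul, ← ht]
      · rw [Subgroup.zpowers_le]
        refine ⟨Nat.gcdA a (orderOf (c : G)), ?_⟩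
        show ((c : G) ^ a) ^ (Nat.gcdA a (orderOf (c : G))) = _
        rw [← zpow_natCast (c : G) (a.gcd _), Nat.gcd_eq_gcd_ab, zpow_add, zpow_mul, zpow_mul,
          zpow_natCast, zpow_natCast, pow_orderOf_eq_one, one_zpow, mul_one]
    have hx : x ∈ K := Subgroup.subset_closure (by simp)
    have hy : y ∈ K := Subgroup.subset_closure (by simp)
    by_cases h1 : (c : G) = 1
    · left
      have := hz x hx
      rw [h1, Subgroup.zpowers_one_eq_bot, Subgroup.mem_bot] at this
      rw [this]; exact one_mem _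
    obtain ⟨q, k, hq, -, hqk⟩ := h (c : G) h1
    rw [← hqk] at hgen
    obtain ⟨d, hd, ed⟩ := hgen x hx
    obtain ⟨d', hd', ed'⟩ := hgen y hy
    obtain ⟨i, -, rfl⟩ := (Nat.dvd_prime_pow hq.nat_prime).mp hd
    obtain ⟨j, -, rfl⟩ := (Nat.dvd_prime_pow hq.nat_prime).mp hd'
    rcases le_total i j with hij | hij
    · right
      rw [ed, ← Subgroup.zpowers_le, ed', Subgroup.zpowers_le, ← Nat.sub_add_cancel hij, pow_add,
        mul_comm, pow_mul]
      exact pow_mem (Subgroup.mem_zpowers _) _
    · left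
      rw [ed', ← Subgroup.zpowers_le, ed, Subgroup.zpowers_le, ← Nat.sub_add_cancel hij, pow_add,
        mul_comm, pow_mul]
      exact pow_mem (Subgroup.mem_zpowers _) _
  · intro h g hg
    by_contra hpp
    obtain ⟨r, hr, hrg⟩ := Nat.exists_prime_and_dvd (fun e => hg (orderOf_eq_one_iff.mp e))
    obtain ⟨s, hs, hsg, hne⟩ : ∃ s, s.Prime ∧ s ∣ orderOf g ∧ s ≠ r := by
      by_contra hno
      push Not at hno
      apply hpp
      refine (isPrimePow_iff_unique_prime_dvd).mpr ⟨r, ⟨hr, hrg⟩, fun s ⟨hs, hsg⟩ => hno s hs hsg⟩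
    have hx := orderOf_pow_orderOf_div (orderOf_pos g).ne' hrg
    have hy := orderOf_pow_orderOf_div (orderOf_pos g).ne' hsg
    rcases h (g ^ (orderOf g / r)) (g ^ (orderOf g / s))
      (Subgroup.isCyclic_of_le (H' := Subgroup.zpowers g) ((Subgroup.closure_le _).mpr
        (Set.insert_subset_iff.mpr ⟨pow_mem (Subgroup.mem_zpowers g) _,
          Set.singleton_subset_iff.mpr (pow_mem (Subgroup.mem_zpowers g) _)⟩))) with h' | h'
    · have := orderOf_dvd_of_mem_zpowers h'
      rw [hx, hy] at this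
      exact hne ((Nat.prime_dvd_prime_iff_eq hr hs).mp this).symm
    · have := orderOf_dvd_of_mem_zpowers h'
      rw [hx, hy] at this
      exact hne ((Nat.prime_dvd_prime_iff_eq hs hr).mp this)

end Cfsg.Agent.S4086
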