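-- S4089
import Cfsg.Statements.S4089
import Cfsg.Agent.Lib.PCore.Basic
import Cfsg.Agent.Lib.Components.Subnormal
import Mathlib.GroupTheory.Nilpotent
import Mathlib.GroupTheory.Sylow

set_option autoImplicit false
set_option linter.style.haveILetI false
open Cfsg

namespace Cfsg.Agent.S4089


open Subgroup

variable {G : Type*} [Group G] [Finite G]

theorem isSubnormal_of_isNilpotent [Group.IsNilpotent G] (H : Subgroup G) : H.IsSubnormal := by
  induction H using WellFoundedGT.induction with
  | _ H ih =>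
    rcases eq_or_ne H ⊤ with rfl | h
    · exact IsSubnormal.top
    · exact IsSubnormal.step H _ le_normalizer
        (ih _ (Group.normalizerCondition_of_isNilpotent H h.lt_top)) normal_in_normalizer

theorem pCore_map_le_of_isSubnormal (p : ℕ) {K : Subgroup G} (hK : K.IsSubnormal) :
    (pCore p K).map K.subtype ≤ pCore p G := by
  induction hK with
  | top => exact PCore.map_pCore_le _ (fun x => ⟨⟨x, mem_top _⟩, rfl⟩)
  | step H K hle hK hN ih =>
    have hC := Components.map_char_normal_subgroupOf hle hN (pCore p H)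
    have hle' : (pCore p H).map H.subtype ≤ K := (map_subtype_le _).trans hle
    have hp : IsPGroup p (((pCore p H).map H.subtype).subgroupOf K) :=
      (PCore.isPGroup_equiv_iff (subgroupOfEquivOfLe hle')).2 (PCore.isPGroup_pCore.map H.subtype)
    rw [← map_subgroupOf_eq_of_le hle']
    exact (map_mono (PCore.le_pCore (hN := hC) hp)).trans ih

theorem le_pCore_of_isSubnormal (p : ℕ) {H : Subgroup G} (hH : H.IsSubnormal) (hp : IsPGroup p H) :
    H ≤ pCore p G := by
  refine le_trans ?_ (pCore_map_le_of_isSubnormal p hH)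
  rw [PCore.pCore_eq_top_of_isPGroup hp, ← MonoidHom.range_eq_map, range_subtype]

/-- `H` is subnormal in `⟨H, g⟩` iff `g` normalises some `p`-subgroup above `H`. -/
theorem subnormal_iff (p : ℕ) [Fact p.Prime] {H : Subgroup G} (hH : IsPGroup p H) (g : G) :
    (H.subgroupOf (H ⊔ zpowers g)).IsSubnormal ↔
      ∃ R : Subgroup G, IsPGroup p R ∧ H ≤ R ∧ g ∈ normalizer (R : Set G) := by
  constructor
  · intro h
    refine ⟨(pCore p ↥(H ⊔ zpowers g)).map (H ⊔ zpowers g).subtype,
      PCore.isPGroup_pCore.map _, ?_, ?_⟩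
    · have hp : IsPGroup p (H.subgroupOf (H ⊔ zpowers g)) :=
        (PCore.isPGroup_equiv_iff (subgroupOfEquivOfLe le_sup_left)).2 hH
      have := map_mono (f := (H ⊔ zpowers g).subtype) (le_pCore_of_isSubnormal p h hp)
      rwa [map_subgroupOf_eq_of_le le_sup_left] at this
    · exact Components.normalizer_le_normalizer_map_of_characteristic (H ⊔ zpowers g) _
        (le_normalizer ((le_sup_right : zpowers g ≤ _) (mem_zpowers g)))
  · rintro ⟨R, hR, hHR, hg⟩
    have hK : H ⊔ zpowers g ≤ normalizer (R : Set G) :=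
      sup_le (hHR.trans le_normalizer) (zpowers_le.2 hg)
    set K := H ⊔ zpowers g
    haveI hn : (R.subgroupOf K).Normal := normal_subgroupOf_of_le_normalizer hK
    haveI : Group.IsNilpotent (R.subgroupOf K) :=
      (hR.comap_of_injective K.subtype K.subtype_injective).isNilpotent
    have hle : H.subgroupOf K ≤ R.subgroupOf K := fun x hx => hHR hx
    have h2 := Components.isSubnormal_map_subtype hn.isSubnormal
      (isSubnormal_of_isNilpotent ((H.subgroupOf K).subgroupOf (R.subgroupOf K)))
    rwa [map_subgroupOf_eq_of_le hle] at h2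

theorem exists_radical (p : ℕ) [Fact p.Prime] {R : Subgroup G} (hR : IsPGroup p R) :
    ∃ S : Subgroup G, R ≤ S ∧ normalizer (R : Set G) ≤ normalizer (S : Set G) ∧ IsPGroup p S ∧
      (pCore p (normalizer (S : Set G))).map (normalizer (S : Set G)).subtype = S := by
  induction R using WellFoundedGT.induction with
  | _ R ih =>
    let R' := (pCore p (normalizer (R : Set G))).map (normalizer (R : Set G)).subtype
    have hR' : IsPGroup p R' := PCore.isPGroup_pCore.map _
    have hle : R ≤ R' := by
      have hn : (R.subgroupOf (normalizer (R : Set G))).Normal := normal_in_normalizer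
      have := map_mono (f := (normalizer (R : Set G)).subtype) (PCore.le_pCore (hN := hn)
        ((PCore.isPGroup_equiv_iff (subgroupOfEquivOfLe (le_normalizer (H := R)))).2 hR))
      rwa [map_subgroupOf_eq_of_le le_normalizer] at this
    have hN : normalizer (R : Set G) ≤ normalizer (R' : Set G) :=
      le_normalizer.trans (Components.normalizer_le_normalizer_map_of_characteristic _ _)
    rcases eq_or_lt_of_le hle with h | h
    · exact ⟨R, le_rfl, le_rfl, hR, h.symm⟩
    · obtain ⟨S, h1, h2, h3, h4⟩ := ih R' h hR'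
      exact ⟨S, hle.trans h1, hN.trans h2, h3, h4⟩

/-- Let G be a finite group, p a prime and H a p-subgroup of G. Then the set of elements g of G such that H is subnormal in the subgroup generated by H and g is the union of the normalizers N_G(R) over the subgroups R of G containing H with R = O_p(N_G(R)); and this set does not change when H is replaced by the intersection of all Sylow p-subgroups of G containing H. -/
theorem result {G : Type*} [Group G] [Finite G] (p : ℕ) [Fact p.Prime]
    (H : Subgroup G) (hH : IsPGroup p H) :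
    {g : G | ((H).subgroupOf (H ⊔ Subgroup.zpowers g)).IsSubnormal} =
      {g : G | ∃ R : Subgroup G, H ≤ R ∧ (Cfsg.pCore p (Subgroup.normalizer (R : Set G))).map (Subgroup.normalizer (R : Set G)).subtype = R ∧ g ∈ Subgroup.normalizer (R : Set G)} ∧
    ∀ g : G, (((H).subgroupOf (H ⊔ Subgroup.zpowers g)).IsSubnormal ↔
      (((sInf {K : Subgroup G | ∃ Q : Sylow p G, H ≤ (Q : Subgroup G) ∧ K = (Q : Subgroup G)})).subgroupOf ((sInf {K : Subgroup G | ∃ Q : Sylow p G, H ≤ (Q : Subgroup G) ∧ K = (Q : Subgroup G)}) ⊔ Subgroup.zpowers g)).IsSubnormal) := by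
  constructor
  · ext g
    rw [Set.mem_setOf_eq, Set.mem_setOf_eq, subnormal_iff p hH]
    constructor
    · rintro ⟨R, hR, hHR, hg⟩
      obtain ⟨S, h1, h2, -, h4⟩ := exists_radical p hR
      exact ⟨S, hHR.trans h1, h4, h2 hg⟩
    · rintro ⟨R, hHR, hR, hg⟩
      exact ⟨R, hR ▸ PCore.isPGroup_pCore.map _, hHR, hg⟩
  · intro g
    set I := sInf {K : Subgroup G | ∃ Q : Sylow p G, H ≤ (Q : Subgroup G) ∧ K = (Q : Subgroup G)}
    have hHI : H ≤ I := le_sInf fun K ⟨Q, hQ, hK⟩ => hK ▸ hQ
    obtain ⟨Q₀, hQ₀⟩ := hH.exists_le_sylow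
    have hI : IsPGroup p I := Q₀.isPGroup'.to_le (sInf_le ⟨Q₀, hQ₀, rfl⟩)
    rw [subnormal_iff p hH, subnormal_iff p hI]
    constructor
    · rintro ⟨R, hR, hHR, hg⟩
      let J := sInf {K : Subgroup G | ∃ Q : Sylow p G, R ≤ (Q : Subgroup G) ∧ K = (Q : Subgroup G)}
      obtain ⟨Q₁, hQ₁⟩ := hR.exists_le_sylow
      refine ⟨J, Q₁.isPGroup'.to_le (sInf_le ⟨Q₁, hQ₁, rfl⟩),
        le_sInf fun K ⟨Q, hQ, hK⟩ => sInf_le ⟨Q, hHR.trans hQ, hK⟩, ?_⟩
      have key : ∀ a ∈ Subgroup.normalizer (R : Set G), ∀ x ∈ J, a * x * a⁻¹ ∈ J := by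
        intro a ha x hx
        rw [Subgroup.mem_sInf]
        rintro K ⟨Q, hQ, rfl⟩
        have h : x ∈ ((a⁻¹ • Q : Sylow p G) : Subgroup G) := by
          refine (Subgroup.mem_sInf.1 hx) _ ⟨a⁻¹ • Q, ?_, rfl⟩
          intro r hr
          rw [Sylow.coe_subgroup_smul, Subgroup.mem_pointwise_smul_iff_inv_smul_mem, ← map_inv, inv_inv]
          simpa using hQ ((Subgroup.mem_normalizer_iff.1 ha r).1 hr)
        rw [Sylow.coe_subgroup_smul, Subgroup.mem_pointwise_smul_iff_inv_smul_mem, ← map_inv, inv_inv] at h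
        simpa using h
      refine Subgroup.mem_normalizer_iff.2 fun x => ⟨key g hg x, fun hx => ?_⟩
      simpa [mul_assoc] using key g⁻¹ (Subgroup.inv_mem _ hg) _ hx
    · rintro ⟨R, hR, hIR, hg⟩
      exact ⟨R, hR, hHI.trans hIR, hg⟩

end Cfsg.Agent.S4089
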