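import Cfsg.Statements.S4088
import Cfsg.Agent.S4089
import Cfsg.Agent.Lib.Subnormalizer.Count

set_option autoImplicit false
open Cfsg

namespace Cfsg.Agent.S4088

open Subnormalizer Finset in
open scoped Classical in
/-- The elements moving a fixed subgroup to a member of a class are counted class by class. -/
theorem card_conj_mem {G : Type*} [Group G] [Finite G] (H : Subgroup G) (s : Subgroup G → Prop) :
    Nat.card {g : G // s (H.map (MulAut.conj g).toMonoidHom)} =
      Nat.card {K : Subgroup G // s K ∧ ∃ g : G, K = H.map (MulAut.conj g).toMonoidHom} *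
        Nat.card (Subgroup.normalizer (H : Set G)) := by
  have := Fintype.ofFinite G
  have := Fintype.ofFinite (Subgroup G)
  rw [Nat.card_eq_fintype_card, Nat.card_eq_fintype_card, Nat.card_eq_fintype_card,
    Fintype.card_subtype, Fintype.card_subtype, Fintype.card_subtype]
  have hfib : ∀ g ∈ univ.filter (fun g : G => s (H.map (MulAut.conj g).toMonoidHom)),
      H.map (MulAut.conj g).toMonoidHom ∈ univ.filter
        (fun K : Subgroup G => s K ∧ ∃ g : G, K = H.map (MulAut.conj g).toMonoidHom) :=
    fun g hg => mem_filter.2 ⟨mem_univ _, (mem_filter.1 hg).2, g, rfl⟩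
  rw [Finset.card_eq_sum_card_fiberwise hfib]
  refine Finset.sum_const_nat fun K hK => ?_
  rw [← Fintype.card_subtype, Fintype.card_subtype]
  obtain ⟨hsK, g₀, rfl⟩ := (mem_filter.1 hK).2
  refine Finset.card_bij' (fun g _ => g₀⁻¹ * g) (fun y _ => g₀ * y) ?_ ?_ ?_ ?_
  · intro g hg
    simp only [mem_filter, mem_univ, true_and] at hg
    refine mem_filter.2 ⟨mem_univ _, map_conj_eq_self.1 ?_⟩
    rw [← Blocks.map_conj_map_conj, hg.2, Blocks.map_conj_map_conj, inv_mul_cancel,
      Blocks.map_conj_one]
  · intro y hy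
    simp only [mem_filter, mem_univ, true_and] at hy ⊢
    rw [← Blocks.map_conj_map_conj, map_conj_eq_self.2 hy]
    exact ⟨hsK, rfl⟩
  · intro g _; simp
  · intro y _; simp

/-- Let G be a finite group, p a prime dividing the order of G, H a p-subgroup of G and P a Sylow p-subgroup of G. Call the subnormalizer of H the set of elements g of G such that H is subnormal in the subgroup generated by H and g. Then the number of elements of the subnormalizer of H equals the number of Sylow p-subgroups of G containing H times the order of N_G(P), and also equals the number of conjugates of H contained in P times the order of N_G(H). -/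
theorem result {G : Type*} [Group G] [Finite G] (p : ℕ) [Fact p.Prime]
    (hp : p ∣ Nat.card G) (H : Subgroup G) (hH : IsPGroup p H) (P : Sylow p G) :
    Nat.card {g : G // ((H).subgroupOf (H ⊔ Subgroup.zpowers g)).IsSubnormal} =
        Nat.card {Q : Sylow p G // H ≤ (Q : Subgroup G)} * Nat.card (Subgroup.normalizer ((P : Subgroup G) : Set G)) ∧
    Nat.card {g : G // ((H).subgroupOf (H ⊔ Subgroup.zpowers g)).IsSubnormal} =
        Nat.card {K : Subgroup G // K ≤ (P : Subgroup G) ∧ ∃ g : G, K = H.map (MulAut.conj g).toMonoidHom} *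
          Nat.card (Subgroup.normalizer (H : Set G)) := by
  classical
  have := Fintype.ofFinite G
  have := Fintype.ofFinite (Subgroup G)
  have hS : ∀ Q : Subgroup G, Blocks.SylIn p ⊤ Q ↔ ∃ S : Sylow p G, Q = (S : Subgroup G) := by
    intro Q
    refine ⟨fun h => ⟨Sylow.ofCard Q (by simpa [Subgroup.card_top] using h.2), rfl⟩, ?_⟩
    rintro ⟨S, rfl⟩
    exact ⟨le_top, by rw [Subgroup.card_top]; exact S.card_eq_multiplicity⟩
  have hP : Blocks.SylIn p (⊤ : Subgroup G) (P : Subgroup G) := (hS _).2 ⟨P, rfl⟩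
  have hnorm : ∀ Q : Subgroup G, Blocks.SylIn p ⊤ Q →
      Subnormalizer.normCount ⊤ Q = (Nat.card (Subgroup.normalizer ((P : Subgroup G) : Set G)) : ℤ) := by
    intro Q hQ
    obtain ⟨x, -, rfl⟩ := hQ.exists_map_conj_eq hP
    rw [Subnormalizer.normCount, Finset.sum_boole, ← Fintype.card_subtype,
      ← Nat.card_eq_fintype_card]
    congr 1
    refine Nat.card_congr ((MulAut.conj x).toEquiv.subtypeEquiv fun g => ?_).symm
    rw [← Subnormalizer.map_conj_eq_self, ← Subnormalizer.map_conj_eq_self]
    simp only [Subgroup.mem_top, true_and]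
    change _ ↔ Subgroup.map (MulAut.conj (x * g * x⁻¹)).toMonoidHom _ = _
    rw [Blocks.map_conj_map_conj, inv_mul_cancel_right, ← Blocks.map_conj_map_conj]
    exact ⟨fun h => by rw [h], fun h =>
      Subgroup.map_injective (MulAut.conj x).injective h⟩
  have h1 : Nat.card {g : G // ((H).subgroupOf (H ⊔ Subgroup.zpowers g)).IsSubnormal} =
      Nat.card {Q : Sylow p G // H ≤ (Q : Subgroup G)} *
        Nat.card (Subgroup.normalizer ((P : Subgroup G) : Set G)) := by
    have h := Subnormalizer.reach_eq_sylow H hH ⊤ le_top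
    rw [Subnormalizer.sylSum, Subnormalizer.reachCount, Finset.sum_boole,
      ← Finset.sum_filter, Finset.sum_congr rfl (fun Q hQ => hnorm Q (Finset.mem_filter.1 hQ).2.1),
      Finset.sum_const, nsmul_eq_mul, ← Nat.cast_mul, Nat.cast_inj] at h
    have e1 : Nat.card {g : G // ((H).subgroupOf (H ⊔ Subgroup.zpowers g)).IsSubnormal} =
        (Finset.univ.filter fun g : G => g ∈ (⊤ : Subgroup G) ∧
          Subnormalizer.Reach p ⊤ H g).card := by
      rw [← Fintype.card_subtype, ← Nat.card_eq_fintype_card]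
      refine Nat.card_congr (Equiv.subtypeEquivRight fun g => ?_)
      rw [S4089.subnormal_iff p hH g]
      simp [Subnormalizer.Reach]
    have e2 : Nat.card {Q : Sylow p G // H ≤ (Q : Subgroup G)} =
        (Finset.univ.filter fun Q : Subgroup G => Blocks.SylIn p ⊤ Q ∧ H ≤ Q).card := by
      rw [← Fintype.card_subtype, ← Nat.card_eq_fintype_card]
      refine Nat.card_eq_of_bijective (fun Q => ⟨Q.1, (hS _).2 ⟨Q.1, rfl⟩, Q.2⟩) ⟨?_, ?_⟩
      · intro a b hab
        exact Subtype.ext (Sylow.ext (congrArg Subtype.val hab))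
      · rintro ⟨Q, hQ, hHQ⟩
        obtain ⟨S, rfl⟩ := (hS Q).1 hQ
        exact ⟨⟨S, hHQ⟩, rfl⟩
    rw [e1, e2, ← h]
  refine ⟨h1, ?_⟩
  rw [h1, ← card_conj_mem H fun K => K ≤ (P : Subgroup G)]
  have h2 := card_conj_mem (P : Subgroup G) fun K => H ≤ K
  have e : Nat.card {K : Subgroup G // H ≤ K ∧
      ∃ g : G, K = (P : Subgroup G).map (MulAut.conj g).toMonoidHom} =
      Nat.card {Q : Sylow p G // H ≤ (Q : Subgroup G)} := by
    have hex : ∀ Q : Sylow p G,
        ∃ g : G, (Q : Subgroup G) = (P : Subgroup G).map (MulAut.conj g).toMonoidHom := by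
      intro Q
      obtain ⟨x, -, hx⟩ := ((hS _).2 ⟨Q, rfl⟩).exists_map_conj_eq hP
      exact ⟨x, hx.symm⟩
    refine (Nat.card_eq_of_bijective
      (fun Q : {Q : Sylow p G // H ≤ (Q : Subgroup G)} =>
        (⟨(Q.1 : Subgroup G), Q.2, hex Q.1⟩ : {K : Subgroup G // H ≤ K ∧
          ∃ g : G, K = (P : Subgroup G).map (MulAut.conj g).toMonoidHom})) ⟨?_, ?_⟩).symm
    · intro a b hab
      exact Subtype.ext (Sylow.ext (congrArg Subtype.val hab))
    · rintro ⟨K, hK, g, rfl⟩
      have hSK : Blocks.SylIn p ⊤ ((P : Subgroup G).map (MulAut.conj g).toMonoidHom) := by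
        have := hP.map_conj g
        rwa [Subgroup.map_top_of_surjective _ (MulAut.conj g).surjective] at this
      obtain ⟨S, hS'⟩ := (hS _).1 hSK
      exact ⟨⟨S, hS' ▸ hK⟩, Subtype.ext hS'.symm⟩
  rw [← e, ← h2]
  refine Nat.card_congr ((Equiv.inv G).subtypeEquiv fun g => ?_)
  rw [Equiv.inv_apply]
  constructor
  · intro h
    have := Subgroup.map_mono (f := (MulAut.conj g⁻¹).toMonoidHom) h
    rwa [Blocks.map_conj_map_conj, inv_mul_cancel, Blocks.map_conj_one] at this
  · intro h
    have := Subgroup.map_mono (f := (MulAut.conj g).toMonoidHom) h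
    rwa [Blocks.map_conj_map_conj, mul_inv_cancel, Blocks.map_conj_one] at this

end Cfsg.Agent.S4088
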