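import Cfsg.Statements.S4090
import Mathlib
import Cfsg.Agent.Lib.LocalStructure.PClosed
import Cfsg.Agent.Lib.PRed.Basic
import Cfsg.Agent.Lib.SelfNormNonabelian.Solvable
-- import your own Cfsg.Agent.* helpers here

set_option autoImplicit false
open scoped BigOperators
open Cfsg

namespace Cfsg.Agent.S4090

open Subgroup
open scoped Pointwise

variable {G : Type*} [Group G] [Finite G] {p : ℕ} [hp : Fact p.Prime]

/-- `g` normalises a subgroup over `M` and `H` that is a `p`-group modulo `M`. -/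
def Good (p : ℕ) (H M : Subgroup G) (g : G) : Prop :=
  ∃ Q : Subgroup G, M ≤ Q ∧ H ≤ Q ∧ (∃ k : ℕ, M.relIndex Q = p ^ k) ∧ g ∈ normalizer (Q : Set G)

/-- Subnormality of a `p`-subgroup in `⟨H, g⟩`. -/
theorem good_iff (H : Subgroup G) (hH : IsPGroup p H) (g : G) :
    (H.subgroupOf (H ⊔ zpowers g)).IsSubnormal ↔ Good p H ⊥ g := by
  set K := H ⊔ zpowers g with hK
  have hHK : H ≤ K := le_sup_left
  constructor
  · intro h
    have hHp : IsPGroup p (H.subgroupOf K) := hH.comap_of_injective _ (Subgroup.subtype_injective _)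
    refine ⟨(pCore p K).map K.subtype, bot_le, fun v hv => ?_, ?_, ?_⟩
    · exact ⟨⟨v, hHK hv⟩, Cfsg.Agent.LocalStructure.le_pCore_of_isSubnormal h hHp hv, rfl⟩
    · obtain ⟨k, hk⟩ := IsPGroup.iff_card.1 ((Cfsg.Agent.LocalStructure.isPGroup_pCore (G := ↥K) p).map K.subtype)
      exact ⟨k, by rw [relIndex_bot_left, hk]⟩
    · have hn := Cfsg.Agent.LocalStructure.pCore_normal p ↥K
      exact le_normalizer_map K.subtype
        ⟨⟨g, le_sup_right (a := H) (mem_zpowers g)⟩, by rw [normalizer_eq_top_iff.2 hn]; exact mem_top _, rfl⟩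
  · rintro ⟨Q, -, hHQ, ⟨k, hk⟩, hg⟩
    rw [relIndex_bot_left] at hk
    have hQ : IsPGroup p Q := IsPGroup.of_card hk
    have hKN : K ≤ normalizer (Q : Set G) := sup_le (hHQ.trans le_normalizer) (zpowers_le.2 hg)
    haveI : (Q.subgroupOf K).Normal := ⟨fun v hv w => by
      show (w : G) * (v : G) * (w : G)⁻¹ ∈ Q
      exact (mem_normalizer_iff.1 (hKN w.2) _).1 hv⟩
    have hQp : IsPGroup p (Q.subgroupOf K) := hQ.comap_of_injective _ (Subgroup.subtype_injective _)
    exact IsSubnormal.trans (fun v hv => hHQ hv)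
      (Cfsg.Agent.PRed.isSubnormal_of_isPGroup hQp _) (Normal.isSubnormal inferInstance)

theorem isPGroup_relIndex {M Q : Subgroup G} [M.Normal] (k : ℕ) (hk : M.relIndex Q = p ^ k) :
    ∀ v ∈ Q, v ^ p ^ k ∈ M := by
  intro v hv
  rw [← hk]
  have h : ((⟨v, hv⟩ : Q) ^ (M.subgroupOf Q).index) ∈ M.subgroupOf Q := by
    rw [index_eq_card, ← QuotientGroup.eq_one_iff, QuotientGroup.mk_pow]
    exact pow_card_eq_one'
  exact h

theorem exists_pow_of_dvd {m a : ℕ} (h : m ∣ p ^ a) : ∃ k, m = p ^ k := by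
  obtain ⟨k, -, hk⟩ := (Nat.dvd_prime_pow hp.out).1 h
  exact ⟨k, hk⟩

/-- A `p`-factor does not change the count. -/
theorem good_step_p (H : Subgroup G) {M M' : Subgroup G} [M.Normal] [M'.Normal] (hMM : M ≤ M')
    {m : ℕ} (hm : M.relIndex M' = p ^ m) (g : G) : Good p H M g ↔ Good p H M' g := by
  constructor
  · rintro ⟨Q, hMQ, hHQ, ⟨k, hk⟩, hg⟩
    refine ⟨Q ⊔ M', le_sup_right, hHQ.trans le_sup_left, ?_, ?_⟩
    · rw [relIndex_sup_right]
      exact exists_pow_of_dvd ((relIndex_dvd_of_le_left Q hMM).trans hk.dvd)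
    · exact Cfsg.Agent.SelfNormNonabelian.mem_normalizer_sup' hg
        (by rw [normalizer_eq_top_iff.2 (inferInstance : M'.Normal)]; exact mem_top g)
  · rintro ⟨Q, hMQ, hHQ, ⟨k, hk⟩, hg⟩
    exact ⟨Q, hMM.trans hMQ, hHQ, ⟨m + k, by rw [← relIndex_mul_relIndex _ _ _ hMM hMQ, hm, hk, pow_add]⟩, hg⟩

theorem card_coe_of_relIndex {M Q : Subgroup G} (h : M ≤ Q) :
    Nat.card Q = Nat.card M * M.relIndex Q := by
  rw [← card_mul_index (M.subgroupOf Q), Nat.card_congr (subgroupOfEquivOfLe h).toEquiv]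
  rfl

/-- The centraliser of `H` on `M' / M`. -/
def cFactor (H M M' : Subgroup G) [M.Normal] : Subgroup G :=
  M' ⊓ (centralizer (((H.map (QuotientGroup.mk' M)) : Subgroup (G ⧸ M)) : Set (G ⧸ M))).comap
    (QuotientGroup.mk' M)

theorem mem_cFactor {H M M' : Subgroup G} [M.Normal] {u : G} :
    u ∈ cFactor H M M' ↔ u ∈ M' ∧ ∀ h ∈ H, h * u * h⁻¹ * u⁻¹ ∈ M := by
  unfold cFactor
  rw [mem_inf, mem_comap, mem_centralizer_iff]
  refine and_congr_right fun _ => ⟨fun hc h hh => ?_, fun hc v hv => ?_⟩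
  · rw [← QuotientGroup.eq_one_iff, QuotientGroup.mk_mul, QuotientGroup.mk_mul, QuotientGroup.mk_mul,
      QuotientGroup.mk_inv, QuotientGroup.mk_inv]
    have e := hc _ (mem_map_of_mem (QuotientGroup.mk' M) hh)
    simp only [QuotientGroup.mk'_apply] at e
    rw [e, mul_inv_cancel_right, mul_inv_cancel]
  · obtain ⟨h, hh, rfl⟩ := hv
    have e := (QuotientGroup.eq_one_iff _).2 (hc h hh)
    rw [QuotientGroup.mk_mul, QuotientGroup.mk_mul, QuotientGroup.mk_mul,
      QuotientGroup.mk_inv, QuotientGroup.mk_inv, mul_inv_eq_one, mul_inv_eq_iff_eq_mul] at e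
    exact e

theorem exists_sylow_sub {Y : Subgroup G} {H : Subgroup G} (hH : IsPGroup p H) (hHY : H ≤ Y) :
    ∃ R : Subgroup G, H ≤ R ∧ R ≤ Y ∧ IsPGroup p R ∧ ¬ p ∣ R.relIndex Y := by
  obtain ⟨S, hS⟩ := (hH.comap_of_injective Y.subtype Y.subtype_injective).exists_le_sylow
  refine ⟨(S : Subgroup Y).map Y.subtype, fun v hv => ⟨⟨v, hHY hv⟩, hS hv, rfl⟩, map_subtype_le _,
    S.2.map _, ?_⟩
  show ¬ p ∣ (((S : Subgroup Y).map Y.subtype).subgroupOf Y).index
  rw [show ((S : Subgroup Y).map Y.subtype).subgroupOf Y = (S : Subgroup Y) from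
    comap_map_eq_self_of_injective Y.subtype_injective _]
  exact S.not_dvd_index

/-- A `p'`-factor: in each coset the count is `|C|`. -/
theorem card_coset (H : Subgroup G) (hH : IsPGroup p H) {M M' : Subgroup G} [M.Normal] [M'.Normal]
    (hMM : M ≤ M') (he : (M.relIndex M').Coprime p) {g : G} (hg : Good p H M' g) :
    Nat.card {v : G // Good p H M v ∧ (v : G ⧸ M') = (g : G ⧸ M')} = Nat.card (cFactor H M M') := by
  classical
  obtain ⟨Y, ⟨hMY, hHY, ⟨kY, hkY⟩, hgY⟩, hmin⟩ := (Set.toFinite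
    {Q : Subgroup G | M' ≤ Q ∧ H ≤ Q ∧ (∃ k : ℕ, M'.relIndex Q = p ^ k) ∧ g ∈ normalizer (Q : Set G)}).exists_minimal hg
  have hnM : ∀ v : G, v ∈ normalizer (M : Set G) := fun v =>
    (normalizer_eq_top_iff.2 (inferInstance : M.Normal)).symm ▸ mem_top v
  have hnM' : ∀ v : G, v ∈ normalizer (M' : Set G) := fun v =>
    (normalizer_eq_top_iff.2 (inferInstance : M'.Normal)).symm ▸ mem_top v
  have hcoset : ∀ v : G, (v : G ⧸ M') = (g : G ⧸ M') → v ∈ normalizer (Y : Set G) := by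
    intro v hv
    rw [show v = g * (g⁻¹ * v) by group]
    exact mul_mem hgY (le_normalizer (hMY (QuotientGroup.eq.1 hv.symm)))
  -- candidates
  have hcard : ∀ Q : Subgroup G, M ≤ Q → Q ≤ Y → (∃ k, M.relIndex Q = p ^ k) →
      Q ⊓ M' = M ∧ Nat.card Q ≤ Nat.card M * p ^ kY := by
    intro Q hMQ hQY ⟨k, hk⟩
    have hinf : Q ⊓ M' = M := by
      refine le_antisymm ?_ (le_inf hMQ hMM)
      refine relIndex_eq_one.1 (Nat.eq_one_of_dvd_coprimes (he.pow_right k) ?_ ?_)
      · rw [← relIndex_mul_relIndex _ _ _ (le_inf hMQ hMM) (inf_le_right : Q ⊓ M' ≤ M')]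
        exact dvd_mul_right _ _
      · rw [← hk, ← relIndex_mul_relIndex _ _ _ (le_inf hMQ hMM) (inf_le_left : Q ⊓ M' ≤ Q)]
        exact dvd_mul_right _ _
    refine ⟨hinf, ?_⟩
    rw [card_coe_of_relIndex hMQ]
    refine Nat.mul_le_mul_left _ ?_
    calc M.relIndex Q = M'.relIndex Q := by rw [← hinf, inf_relIndex_left]
      _ ≤ M'.relIndex Y := relIndex_le_of_le_right hQY index_ne_zero_of_finite
      _ = p ^ kY := hkY
  have hwit : ∀ v : G, Good p H M v → (v : G ⧸ M') = (g : G ⧸ M') →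
      ∃ Q : Subgroup G, M ≤ Q ∧ Q ≤ Y ∧ H ≤ Q ∧ (∃ k, M.relIndex Q = p ^ k) ∧
        v ∈ normalizer (Q : Set G) := by
    intro v ⟨Q, h1, h2, ⟨k, hk⟩, h4⟩ hv
    refine ⟨Q ⊓ Y, le_inf h1 (hMM.trans hMY), inf_le_right, le_inf h2 hHY, exists_pow_of_dvd (a := k) ?_, ?_⟩
    · rw [← hk, ← relIndex_mul_relIndex _ _ _ (le_inf h1 (hMM.trans hMY)) (inf_le_left : Q ⊓ Y ≤ Q)]
      exact dvd_mul_right _ _
    · have h5 := hcoset v hv
      rw [mem_normalizer_iff] at h4 h5 ⊢
      exact fun w => by rw [mem_inf, mem_inf, h4 w, h5 w]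
  have hfull : ∀ v : G, (v : G ⧸ M') = (g : G ⧸ M') → ∀ Q : Subgroup G, M ≤ Q → Q ≤ Y → H ≤ Q →
      (∃ k, M.relIndex Q = p ^ k) → v ∈ normalizer (Q : Set G) → Nat.card Q = Nat.card M * p ^ kY := by
    intro v hv Q hMQ hQY hHQ hQp hvQ
    obtain ⟨hinf, hle⟩ := hcard Q hMQ hQY hQp
    obtain ⟨k, hk⟩ := hQp
    have hgn : g ∈ normalizer ((Q ⊔ M' : Subgroup G) : Set G) := by
      rw [show g = v * (v⁻¹ * g) by group]
      exact mul_mem (Cfsg.Agent.SelfNormNonabelian.mem_normalizer_sup' hvQ (hnM' v))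
        (le_normalizer (mem_sup_right (QuotientGroup.eq.1 hv)))
    have hYle : Y ≤ Q ⊔ M' := by
      refine hmin (y := Q ⊔ M') ⟨le_sup_right, hHQ.trans le_sup_left, ?_, hgn⟩ (sup_le hQY hMY)
      rw [relIndex_sup_right]
      exact exists_pow_of_dvd ((relIndex_dvd_of_le_left Q hMM).trans hk.dvd)
    have heq : Q ⊔ M' = Y := le_antisymm (sup_le hQY hMY) hYle
    rw [card_coe_of_relIndex hMQ, ← hkY, ← heq, relIndex_sup_right]
    congr 1
    conv_lhs => rw [← hinf]
    exact inf_relIndex_left _ _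
  -- a reference candidate
  obtain ⟨R, hHR, hRY, hRp, hRidx⟩ := exists_sylow_sub hH hHY
  set Q₀ := M ⊔ R with hQ₀
  have hMQ₀ : M ≤ Q₀ := le_sup_left
  have hHQ₀ : H ≤ Q₀ := hHR.trans le_sup_right
  have hQ₀Y : Q₀ ≤ Y := sup_le (hMM.trans hMY) hRY
  have hQ₀p : ∃ k, M.relIndex Q₀ = p ^ k := by
    obtain ⟨r, hr⟩ := IsPGroup.iff_card.1 hRp
    refine exists_pow_of_dvd (a := r) ?_
    rw [hQ₀, relIndex_sup_left, ← hr]
    exact index_dvd_card _
  have hsupY : Q₀ ⊔ M' = Y := by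
    refine le_antisymm (sup_le hQ₀Y hMY) (relIndex_eq_one.1 (Nat.eq_one_of_dvd_coprimes
      (((Nat.Prime.coprime_iff_not_dvd hp.out).2 hRidx).symm.pow_right kY) ?_ ?_))
    · exact relIndex_dvd_of_le_left Y (le_sup_right.trans le_sup_left)
    · rw [← hkY]
      exact relIndex_dvd_of_le_left Y le_sup_right
  have hcard₀ : Nat.card Q₀ = Nat.card M * p ^ kY := by
    rw [card_coe_of_relIndex hMQ₀, ← hkY, ← hsupY, relIndex_sup_right]
    congr 1
    conv_lhs => rw [← (hcard Q₀ hMQ₀ hQ₀Y hQ₀p).1]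
    exact inf_relIndex_left _ _
  -- candidates are conjugate under `M'`
  have hconj : ∀ Q : Subgroup G, M ≤ Q → Q ≤ Y → Nat.card Q = Nat.card M * p ^ kY →
      ∃ u ∈ M', Q = Q₀.map (MulAut.conj u).toMonoidHom := by
    intro Q hMQ hQY hQc
    obtain ⟨S, -, hSQ, hSp, hSidx⟩ := exists_sylow_sub (p := p) (H := ⊥) (Y := Q) IsPGroup.of_bot bot_le
    have hSY : ¬ p ∣ S.relIndex Y := by
      rw [← relIndex_mul_relIndex _ _ _ hSQ hQY]
      intro hd
      rcases hp.out.dvd_mul.1 hd with h | h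
      · exact hSidx h
      · have h1 := card_coe_of_relIndex hQY
        rw [card_coe_of_relIndex hMY, card_coe_of_relIndex hMM, hQc, hkY, mul_right_comm] at h1
        have h2 : Q.relIndex Y = M.relIndex M' :=
          (Nat.eq_of_mul_eq_mul_left (mul_pos Nat.card_pos (pow_pos hp.out.pos kY)) h1).symm
        rw [h2] at h
        exact hp.out.ne_one (Nat.eq_one_of_dvd_coprimes he h dvd_rfl)
    have hRS := hRp.comap_of_injective Y.subtype Y.subtype_injective
    have hSS := hSp.comap_of_injective Y.subtype Y.subtype_injective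
    obtain ⟨y, hy⟩ := MulAction.exists_smul_eq Y (hRS.toSylow hRidx) (hSS.toSylow hSY)
    have hSle : S ≤ (Q₀.map (MulAut.conj (y : G)).toMonoidHom) := by
      intro v hv
      have h : (⟨v, hQY (hSQ hv)⟩ : Y) ∈
          ((y • hRS.toSylow hRidx : Sylow p Y) : Subgroup Y) := by rw [hy]; exact hv
      rw [Sylow.coe_subgroup_smul] at h
      obtain ⟨w, hw, e⟩ := h
      exact ⟨(w : G), mem_sup_right (show (w : G) ∈ R from hw), congrArg Subtype.val e⟩
    obtain ⟨u, hu, q, hq, hyq⟩ : ∃ u ∈ M', ∃ q ∈ Q₀, (y : G) = u * q := by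
      have h : (y : G) ∈ Q₀ ⊔ M' := (SetLike.ext_iff.1 hsupY _).2 y.2
      rw [sup_comm, ← SetLike.mem_coe, normal_mul] at h
      obtain ⟨u, hu, q, hq, e⟩ := h
      exact ⟨u, hu, q, hq, e.symm⟩
    have hMS : M ⊔ S = Q := by
      refine le_antisymm (sup_le hMQ hSQ) (relIndex_eq_one.1 ?_)
      refine Nat.eq_one_of_dvd_coprimes (((Nat.Prime.coprime_iff_not_dvd hp.out).2 hSidx).symm.pow_right kY)
        (relIndex_dvd_of_le_left Q le_sup_right) ?_
      have h1 := card_coe_of_relIndex hMQ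
      rw [hQc] at h1
      rw [Nat.eq_of_mul_eq_mul_left Nat.card_pos h1]
      exact relIndex_dvd_of_le_left Q le_sup_left
    have hq' : Q₀.map (MulAut.conj q).toMonoidHom = Q₀ :=
      Cfsg.Agent.LocalStructure.map_conj_eq_self (le_normalizer hq)
    rw [hyq, Cfsg.Agent.LocalStructure.map_conj_mul, hq'] at hSle
    refine ⟨u, hu, eq_of_le_of_card_ge ?_ ?_⟩
    · rw [← hMS]
      refine sup_le (fun v hv => ?_) hSle
      exact ⟨u⁻¹ * v * u, hMQ₀ (by
        have := (inferInstance : M.Normal).conj_mem v hv u⁻¹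
        rwa [inv_inv] at this), by
        show u * (u⁻¹ * v * u) * u⁻¹ = v
        group⟩
    · rw [Cfsg.Agent.LocalStructure.card_map_conj, hcard₀, hQc]
  -- `g₀` in the coset normalises `Q₀`
  have hgQY : Q₀.map (MulAut.conj g).toMonoidHom ≤ Y := by
    rintro _ ⟨v, hv, rfl⟩
    exact (mem_normalizer_iff.1 hgY v).1 (hQ₀Y hv)
  have hMmap : ∀ u : G, M ≤ Q₀.map (MulAut.conj u).toMonoidHom := by
    intro u v hv
    exact ⟨u⁻¹ * v * u, hMQ₀ (by
      have := (inferInstance : M.Normal).conj_mem v hv u⁻¹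
      rwa [inv_inv] at this), by show u * (u⁻¹ * v * u) * u⁻¹ = v; group⟩
  obtain ⟨u₀, hu₀, hg₀⟩ := hconj _ (hMmap g) hgQY
    (by rw [Cfsg.Agent.LocalStructure.card_map_conj, hcard₀])
  set g₀ := u₀⁻¹ * g with hg₀def
  have hg₀N : g₀ ∈ normalizer (Q₀ : Set G) := by
    refine Cfsg.Agent.LocalStructure.mem_normalizer_of_map_conj ?_
    rw [hg₀def, Cfsg.Agent.LocalStructure.map_conj_mul, hg₀, ← Cfsg.Agent.LocalStructure.map_conj_mul,
      inv_mul_cancel, Cfsg.Agent.LocalStructure.map_conj_one]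
  have hg₀c : (g₀ : G ⧸ M') = (g : G ⧸ M') := by
    rw [hg₀def, QuotientGroup.mk_mul, QuotientGroup.mk_inv, (QuotientGroup.eq_one_iff u₀).2 hu₀,
      inv_one, one_mul]
  set C := cFactor H M M' with hCdef
  set D := C ⊓ normalizer (Q₀ : Set G) with hDdef
  have hHu : ∀ u ∈ M', (H ≤ Q₀.map (MulAut.conj u).toMonoidHom ↔ u ∈ C) := by
    intro u hu
    rw [mem_cFactor]
    constructor
    · intro hle
      refine ⟨hu, fun h hh => ?_⟩
      obtain ⟨q, hq, e⟩ := hle (inv_mem hh)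
      change u * q * u⁻¹ = h⁻¹ at e
      have hq' : h * q ∈ M := by
        rw [← (hcard Q₀ hMQ₀ hQ₀Y hQ₀p).1]
        refine mem_inf.2 ⟨mul_mem (hHQ₀ hh) hq, ?_⟩
        rw [show h * q = (h * u⁻¹ * h⁻¹) * u by
          rw [show q = u⁻¹ * (u * q * u⁻¹) * u by group, e]; group]
        exact mul_mem ((inferInstance : M'.Normal).conj_mem _ (inv_mem hu) h) hu
      have h1 : (h * u * h⁻¹ * u⁻¹)⁻¹ = u * (h * q) * u⁻¹ := by
        rw [show q = u⁻¹ * (u * q * u⁻¹) * u by group, e]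
        group
      rw [← inv_mem_iff, h1]
      exact (inferInstance : M.Normal).conj_mem _ hq' u
    · intro hc h hh
      refine ⟨u⁻¹ * h * u, ?_, by show u * (u⁻¹ * h * u) * u⁻¹ = h; group⟩
      rw [SetLike.mem_coe, show u⁻¹ * h * u = (u⁻¹ * (h * u * h⁻¹ * u⁻¹) * u⁻¹⁻¹) * h by group]
      exact mul_mem (hMQ₀ ((inferInstance : M.Normal).conj_mem _ (hc.2 h hh) u⁻¹)) (hHQ₀ hh)
  have hDM : ∀ v ∈ M', v ∈ normalizer (Q₀ : Set G) → v ∈ D := fun v hv hvn =>
    mem_inf.2 ⟨(hHu v hv).1 (by rw [Cfsg.Agent.LocalStructure.map_conj_eq_self hvn]; exact hHQ₀), hvn⟩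
  let Φ : (↥C ⧸ D.subgroupOf C) × ↥D → {v : G // Good p H M v ∧ (v : G ⧸ M') = (g : G ⧸ M')} := fun qv =>
    ⟨((qv.1.out : C) : G) * (g₀ * (qv.2 : G)) * ((qv.1.out : C) : G)⁻¹, by
      have hr := (qv.1.out : C).2
      have hrM : ((qv.1.out : C) : G) ∈ M' := (mem_cFactor.1 hr).1
      refine ⟨⟨Q₀.map (MulAut.conj ((qv.1.out : C) : G)).toMonoidHom, ?_, (hHu _ hrM).2 hr, ?_, ?_⟩, ?_⟩
      · intro v hv
        exact ⟨((qv.1.out : C) : G)⁻¹ * v * ((qv.1.out : C) : G), hMQ₀ (by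
          have := (inferInstance : M.Normal).conj_mem v hv ((qv.1.out : C) : G)⁻¹
          rwa [inv_inv] at this), by
          show ((qv.1.out : C) : G) * (((qv.1.out : C) : G)⁻¹ * v * ((qv.1.out : C) : G)) *
            ((qv.1.out : C) : G)⁻¹ = v
          group⟩
      · have hle : M ≤ Q₀.map (MulAut.conj ((qv.1.out : C) : G)).toMonoidHom := by
          intro v hv
          exact ⟨((qv.1.out : C) : G)⁻¹ * v * ((qv.1.out : C) : G), hMQ₀ (by
            have := (inferInstance : M.Normal).conj_mem v hv ((qv.1.out : C) : G)⁻¹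
            rwa [inv_inv] at this), by
            show ((qv.1.out : C) : G) * (((qv.1.out : C) : G)⁻¹ * v * ((qv.1.out : C) : G)) *
              ((qv.1.out : C) : G)⁻¹ = v
            group⟩
        refine ⟨kY, Nat.eq_of_mul_eq_mul_left (Nat.card_pos (α := M)) ?_⟩
        rw [← card_coe_of_relIndex hle, Cfsg.Agent.LocalStructure.card_map_conj, hcard₀]
      · refine Cfsg.Agent.LocalStructure.mem_normalizer_of_map_conj ?_
        have hn : g₀ * (qv.2 : G) ∈ normalizer (Q₀ : Set G) := mul_mem hg₀N (mem_inf.1 qv.2.2).2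
        rw [← Cfsg.Agent.LocalStructure.map_conj_mul, inv_mul_cancel_right,
          Cfsg.Agent.LocalStructure.map_conj_mul, Cfsg.Agent.LocalStructure.map_conj_eq_self hn]
      · rw [QuotientGroup.mk_mul, QuotientGroup.mk_mul, QuotientGroup.mk_mul, QuotientGroup.mk_inv,
          (QuotientGroup.eq_one_iff _).2 hrM, (QuotientGroup.eq_one_iff _).2
            (mem_cFactor.1 (mem_inf.1 qv.2.2).1).1, hg₀c]
        group⟩
  have hΦ : Function.Bijective Φ := by
    constructor
    · rintro ⟨q, v⟩ ⟨q', v'⟩ e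
      have e' : ((q.out : C) : G) * (g₀ * (v : G)) * ((q.out : C) : G)⁻¹ =
          ((q'.out : C) : G) * (g₀ * (v' : G)) * ((q'.out : C) : G)⁻¹ := congrArg Subtype.val e
      -- both normalise a witness; witnesses inside `Y` are unique
      have key : ∀ (x : C) (w : D), (x : G) * (g₀ * (w : G)) * (x : G)⁻¹ ∈
          normalizer (Q₀.map (MulAut.conj (x : G)).toMonoidHom : Set G) := by
        intro x w
        refine Cfsg.Agent.LocalStructure.mem_normalizer_of_map_conj ?_
        have hn : g₀ * (w : G) ∈ normalizer (Q₀ : Set G) := mul_mem hg₀N (mem_inf.1 w.2).2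
        rw [← Cfsg.Agent.LocalStructure.map_conj_mul, inv_mul_cancel_right,
          Cfsg.Agent.LocalStructure.map_conj_mul, Cfsg.Agent.LocalStructure.map_conj_eq_self hn]
      have hA : ∀ x : C, M ≤ Q₀.map (MulAut.conj (x : G)).toMonoidHom ∧
          Q₀.map (MulAut.conj (x : G)).toMonoidHom ≤ Y ∧ H ≤ Q₀.map (MulAut.conj (x : G)).toMonoidHom := by
        intro x
        have hxM := (mem_cFactor.1 x.2).1
        refine ⟨fun w hw => ⟨(x : G)⁻¹ * w * (x : G), hMQ₀ (by
          have := (inferInstance : M.Normal).conj_mem w hw (x : G)⁻¹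
          rwa [inv_inv] at this), by show (x : G) * ((x : G)⁻¹ * w * (x : G)) * (x : G)⁻¹ = w; group⟩,
          ?_, (hHu _ hxM).2 x.2⟩
        rintro _ ⟨w, hw, rfl⟩
        exact mul_mem (mul_mem (hMY hxM) (hQ₀Y hw)) (inv_mem (hMY hxM))
      set A := Q₀.map (MulAut.conj ((q.out : C) : G)).toMonoidHom with hAdef
      set B := Q₀.map (MulAut.conj ((q'.out : C) : G)).toMonoidHom with hBdef
      set x₁ := ((q.out : C) : G) * (g₀ * (v : G)) * ((q.out : C) : G)⁻¹ with hx₁
      have hxc : (x₁ : G ⧸ M') = (g : G ⧸ M') := (Φ (q, v)).2.2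
      have hAp : ∀ x : C, ∃ k, M.relIndex (Q₀.map (MulAut.conj (x : G)).toMonoidHom) = p ^ k := fun x =>
        ⟨kY, Nat.eq_of_mul_eq_mul_left (Nat.card_pos (α := M)) (by
          rw [← card_coe_of_relIndex (hA x).1, Cfsg.Agent.LocalStructure.card_map_conj, hcard₀])⟩
      have hAB : Nat.card ↥(A ⊓ B) = Nat.card M * p ^ kY := by
        refine hfull x₁ hxc (A ⊓ B) (le_inf (hA q.out).1 (hA q'.out).1)
          (inf_le_left.trans (hA q.out).2.1) (le_inf (hA q.out).2.2 (hA q'.out).2.2) ?_ ?_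
        · obtain ⟨k, hk⟩ := hAp q.out
          refine exists_pow_of_dvd (a := k) ?_
          rw [← hk, ← relIndex_mul_relIndex _ _ _ (le_inf (hA q.out).1 (hA q'.out).1) (inf_le_left : A ⊓ B ≤ A)]
          exact dvd_mul_right _ _
        · have h1 := key q.out v
          have h2 : x₁ ∈ normalizer (B : Set G) := by rw [e']; exact key q'.out v'
          rw [mem_normalizer_iff] at h1 h2 ⊢
          exact fun w => by rw [mem_inf, mem_inf, h1 w, h2 w]
      have hAeqB : A = B := by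
        have h1 : A ⊓ B = A := eq_of_le_of_card_ge inf_le_left (by
          rw [hAB, hAdef, Cfsg.Agent.LocalStructure.card_map_conj, hcard₀])
        have h2 : A ⊓ B = B := eq_of_le_of_card_ge inf_le_right (by
          rw [hAB, hBdef, Cfsg.Agent.LocalStructure.card_map_conj, hcard₀])
        exact h1.symm.trans h2
      have hn : ((q.out : C) : G)⁻¹ * ((q'.out : C) : G) ∈ normalizer (Q₀ : Set G) := by
        refine Cfsg.Agent.LocalStructure.mem_normalizer_of_map_conj ?_
        rw [Cfsg.Agent.LocalStructure.map_conj_mul, ← hBdef, ← hAeqB, hAdef,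
          ← Cfsg.Agent.LocalStructure.map_conj_mul, inv_mul_cancel,
          Cfsg.Agent.LocalStructure.map_conj_one]
      have hqq : q = q' := by
        rw [← QuotientGroup.out_eq' q, ← QuotientGroup.out_eq' q', QuotientGroup.eq]
        exact mem_inf.2 ⟨mul_mem (inv_mem (q.out : C).2) (q'.out : C).2, hn⟩
      subst hqq
      exact Prod.ext rfl (Subtype.ext (mul_left_cancel (mul_left_cancel (mul_right_cancel e'))))
    · rintro ⟨w, hw, hwc⟩
      obtain ⟨Q, hMQ, hQY, hHQ, hQp, hwQ⟩ := hwit w hw hwc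
      obtain ⟨u, hu, hQu⟩ := hconj Q hMQ hQY (hfull w hwc Q hMQ hQY hHQ hQp hwQ)
      have huC : u ∈ C := (hHu u hu).1 (hQu ▸ hHQ)
      set q := ((⟨u, huC⟩ : C) : ↥C ⧸ D.subgroupOf C) with hq
      set r := ((q.out : C) : G) with hr
      have hrM : r ∈ M' := (mem_cFactor.1 (q.out : C).2).1
      have hd : r⁻¹ * u ∈ D := (QuotientGroup.eq (s := D.subgroupOf C)).1 (QuotientGroup.out_eq' q)
      have hQr : Q = Q₀.map (MulAut.conj r).toMonoidHom := by
        rw [hQu, show u = r * (r⁻¹ * u) by group, Cfsg.Agent.LocalStructure.map_conj_mul,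
          Cfsg.Agent.LocalStructure.map_conj_eq_self (mem_inf.1 hd).2]
      have hv : g₀⁻¹ * (r⁻¹ * w * r) ∈ D := by
        refine hDM _ (QuotientGroup.eq.1 ?_) (mul_mem (inv_mem hg₀N) ?_)
        · rw [hg₀c, QuotientGroup.mk_mul, QuotientGroup.mk_mul, QuotientGroup.mk_inv,
            (QuotientGroup.eq_one_iff r).2 hrM, hwc]
          group
        · refine Cfsg.Agent.LocalStructure.mem_normalizer_of_map_conj ?_
          rw [Cfsg.Agent.LocalStructure.map_conj_mul, ← hQr, Cfsg.Agent.LocalStructure.map_conj_mul,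
            Cfsg.Agent.LocalStructure.map_conj_eq_self hwQ, hQr, ← Cfsg.Agent.LocalStructure.map_conj_mul,
            inv_mul_cancel, Cfsg.Agent.LocalStructure.map_conj_one]
      refine ⟨(q, ⟨_, hv⟩), Subtype.ext ?_⟩
      show r * (g₀ * (g₀⁻¹ * (r⁻¹ * w * r))) * r⁻¹ = w
      group
  rw [← Nat.card_eq_of_bijective Φ hΦ, Nat.card_prod, mul_comm]
  rw [← card_mul_index (D.subgroupOf C), index_eq_card,
    Nat.card_congr (subgroupOfEquivOfLe (inf_le_left : D ≤ C)).toEquiv]

/-- A `p'`-factor multiplies the count by `|C| / |M'|`. -/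
theorem good_step_p' (H : Subgroup G) (hH : IsPGroup p H) {M M' : Subgroup G} [M.Normal] [M'.Normal]
    (hMM : M ≤ M') (he : (M.relIndex M').Coprime p) :
    Nat.card {v : G // Good p H M v} * Nat.card M' =
      Nat.card {v : G // Good p H M' v} * Nat.card (cFactor H M M') := by
  classical
  have hsub : ∀ v, Good p H M v → Good p H M' v := by
    rintro v ⟨Q, hMQ, hHQ, ⟨k, hk⟩, hv⟩
    refine ⟨Q ⊔ M', le_sup_right, hHQ.trans le_sup_left, ?_, ?_⟩
    · rw [relIndex_sup_right]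
      exact exists_pow_of_dvd ((relIndex_dvd_of_le_left Q hMM).trans hk.dvd)
    · exact Cfsg.Agent.SelfNormNonabelian.mem_normalizer_sup' hv
        (by rw [normalizer_eq_top_iff.2 (inferInstance : M'.Normal)]; exact mem_top v)
  have hunion : ∀ v w : G, (v : G ⧸ M') = (w : G ⧸ M') → Good p H M' w → Good p H M' v := by
    rintro v w e ⟨Q, hMQ, hHQ, hk, hw⟩
    refine ⟨Q, hMQ, hHQ, hk, ?_⟩
    rw [show v = w * (w⁻¹ * v) by group]
    exact mul_mem hw (le_normalizer (hMQ (QuotientGroup.eq.1 e.symm)))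
  let B := {c : G ⧸ M' // ∃ v : G, Good p H M' v ∧ (v : G ⧸ M') = c}
  let e1 : {v : G // Good p H M v} ≃ Σ c : B, {v : G // Good p H M v ∧ (v : G ⧸ M') = c.1} :=
    { toFun := fun v => ⟨⟨(v.1 : G ⧸ M'), v.1, hsub _ v.2, rfl⟩, v.1, v.2, rfl⟩
      invFun := fun s => ⟨s.2.1, s.2.2.1⟩
      left_inv := fun v => rfl
      right_inv := by
        rintro ⟨⟨c, hc⟩, ⟨v, hv, hvc⟩⟩
        exact Sigma.subtype_ext (Subtype.ext hvc) rfl }
  let e2 : {v : G // Good p H M' v} ≃ Σ c : B, {v : G // (v : G ⧸ M') = c.1} :=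
    { toFun := fun v => ⟨⟨(v.1 : G ⧸ M'), v.1, v.2, rfl⟩, v.1, rfl⟩
      invFun := fun s => ⟨s.2.1, by
        obtain ⟨⟨c, w, hw, hwc⟩, v, hv⟩ := s
        exact hunion v w (hv.trans hwc.symm) hw⟩
      left_inv := fun v => rfl
      right_inv := by
        rintro ⟨⟨c, hc⟩, ⟨v, hvc⟩⟩
        exact Sigma.subtype_ext (Subtype.ext hvc) rfl }
  have c1 : ∀ c : B, Nat.card {v : G // Good p H M v ∧ (v : G ⧸ M') = c.1} = Nat.card (cFactor H M M') := by
    rintro ⟨c, g, hg, rfl⟩
    exact card_coset H hH hMM he hg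
  have c2 : ∀ c : B, Nat.card {v : G // (v : G ⧸ M') = c.1} = Nat.card M' := by
    rintro ⟨c, g, hg, rfl⟩
    exact Nat.card_congr
      { toFun := fun v => ⟨g⁻¹ * v.1, QuotientGroup.eq.1 v.2.symm⟩
        invFun := fun w => ⟨g * w.1, (QuotientGroup.eq.2 (by simpa using w.2)).symm⟩
        left_inv := fun v => Subtype.ext (mul_inv_cancel_left g v.1)
        right_inv := fun w => Subtype.ext (inv_mul_cancel_left g w.1) }
  letI : Fintype B := Fintype.ofFinite B
  rw [Nat.card_congr e1, Nat.card_congr e2, Nat.card_sigma, Nat.card_sigma,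
    Finset.sum_congr rfl (fun c _ => c1 c), Finset.sum_congr rfl (fun c _ => c2 c),
    Finset.sum_const, Finset.sum_const, smul_eq_mul, smul_eq_mul]
  ring

theorem telescope : ∀ {n : ℕ} (a : Fin (n + 1) → ℕ) (x y : Fin n → ℕ),
    (∀ i, a i.castSucc * x i = a i.succ * y i) → a 0 * ∏ i, x i = a (Fin.last n) * ∏ i, y i := by
  intro n
  induction n with
  | zero => intro a x y _; simp
  | succ n ih =>
    intro a x y h
    have h1 := ih (fun i => a i.succ) (fun i => x i.succ) (fun i => y i.succ) fun i => by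
      have h2 := h i.succ
      rwa [Fin.castSucc_succ] at h2
    rw [Fin.prod_univ_succ, Fin.prod_univ_succ, ← mul_assoc]
    have h0 := h 0
    rw [Fin.castSucc_zero] at h0
    rw [h0, mul_assoc, mul_left_comm, mul_comm (y 0)]
    have h1' : a (Fin.succ 0) * ∏ i : Fin n, x i.succ = a (Fin.last (n + 1)) * ∏ i : Fin n, y i.succ := by
      simpa [Fin.succ_last] using h1
    rw [h1']
    ring

theorem main (H : Subgroup G) (hH : IsPGroup p H) (P : Sylow p G)
    (n : ℕ) (M : Fin (n + 1) → Subgroup G) (h0 : M 0 = ⊥) (hn : M (Fin.last n) = ⊤) (hmono : Monotone M)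
    (hnormal : ∀ i, (M i).Normal)
    (hfac : ∀ i : Fin n, (∃ m : ℕ, (M i.castSucc).relIndex (M i.succ) = p ^ m) ∨
      ((M i.castSucc).relIndex (M i.succ)).Coprime p) :
    Nat.card {g : G // ((H).subgroupOf (H ⊔ Subgroup.zpowers g)).IsSubnormal} =
      Nat.card (P : Subgroup G) *
        ∏ i : Fin n, (if ((M i.castSucc).relIndex (M i.succ)).Coprime p then
          Nat.card {u : G // u ∈ M i.succ ∧ ∀ h ∈ H, h * u * h⁻¹ * u⁻¹ ∈ M i.castSucc} / Nat.card (M i.castSucc)
          else 1) := by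
  classical
  haveI := hnormal
  let a : Fin (n + 1) → ℕ := fun i => Nat.card {v : G // Good p H (M i) v}
  let r : Fin n → ℕ := fun i => (M i.castSucc).relIndex (M i.succ)
  let x : Fin n → ℕ := fun i => if (r i).Coprime p then r i else 1
  let b : Fin n → ℕ := fun i => if (r i).Coprime p then 1 else r i
  let f : Fin n → ℕ := fun i => if (r i).Coprime p then
    Nat.card {u : G // u ∈ M i.succ ∧ ∀ h ∈ H, h * u * h⁻¹ * u⁻¹ ∈ M i.castSucc} / Nat.card (M i.castSucc)
    else 1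
  have hle : ∀ i : Fin n, M i.castSucc ≤ M i.succ := fun i => hmono Fin.castSucc_lt_succ.le
  have hstep : ∀ i : Fin n, a i.castSucc * x i = a i.succ * f i := by
    intro i
    by_cases hc : (r i).Coprime p
    · simp only [x, f, if_pos hc]
      have h1 := good_step_p' H hH (hle i) hc
      have hcf : Nat.card {u : G // u ∈ M i.succ ∧ ∀ h ∈ H, h * u * h⁻¹ * u⁻¹ ∈ M i.castSucc} =
          Nat.card (cFactor H (M i.castSucc) (M i.succ)) :=
        Nat.card_congr (Equiv.subtypeEquivRight fun u => mem_cFactor.symm)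
      have hMC : M i.castSucc ≤ cFactor H (M i.castSucc) (M i.succ) := fun u hu =>
        mem_cFactor.2 ⟨hle i hu, fun h _ => mul_mem ((hnormal _).conj_mem u hu h) (inv_mem hu)⟩
      rw [hcf, card_coe_of_relIndex hMC, Nat.mul_div_cancel_left _ Nat.card_pos]
      rw [card_coe_of_relIndex (hle i), card_coe_of_relIndex hMC] at h1
      refine Nat.eq_of_mul_eq_mul_left (Nat.card_pos (α := M i.castSucc)) ?_
      calc _ = a i.castSucc * (Nat.card (M i.castSucc) * r i) := by ring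
        _ = a i.succ * (Nat.card (M i.castSucc) * _) := h1
        _ = _ := by ring
    · simp only [x, f, if_neg hc, mul_one]
      obtain ⟨m, hm⟩ := (hfac i).resolve_right hc
      exact Nat.card_congr (Equiv.subtypeEquivRight fun v => good_step_p H (hle i) hm v)
  have h1 := telescope a x f hstep
  have h2 := telescope (fun i => Nat.card (M i)) r (fun _ => 1) fun i => by
    rw [mul_one]; exact (card_coe_of_relIndex (hle i)).symm
  rw [Finset.prod_const_one, mul_one, h0, card_bot, one_mul, hn, card_top] at h2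
  have hr : ∏ i, r i = (∏ i, x i) * ∏ i, b i := by
    rw [← Finset.prod_mul_distrib]
    exact Finset.prod_congr rfl fun i _ => by simp only [x, b]; split <;> simp
  have hxco : (∏ i, x i).Coprime p := Nat.Coprime.prod_left fun i _ => by
    by_cases hc : (r i).Coprime p
    · simp only [x, if_pos hc]; exact hc
    · simp only [x, if_neg hc]; exact Nat.coprime_one_left p
  obtain ⟨s, hs⟩ : ∃ s, ∏ i, b i = p ^ s := by
    refine Finset.prod_induction b (fun m => ∃ s, m = p ^ s) ?_ ⟨0, (pow_zero p).symm⟩ fun i _ => ?_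
    · rintro _ _ ⟨s, rfl⟩ ⟨t, rfl⟩; exact ⟨s + t, (pow_add p s t).symm⟩
    · by_cases hc : (r i).Coprime p
      · exact ⟨0, by simp only [b, if_pos hc, pow_zero]⟩
      · obtain ⟨m, hm⟩ := (hfac i).resolve_right hc
        exact ⟨m, by simp only [b, if_neg hc]; exact hm⟩
  have hP : Nat.card (P : Subgroup G) = ∏ i, b i := by
    rw [P.card_eq_multiplicity, ← h2, hr, hs, Nat.factorization_mul]
    · rw [Finsupp.add_apply, Nat.factorization_eq_zero_of_not_dvd
        (fun hd => hp.out.ne_one (Nat.eq_one_of_dvd_coprimes hxco hd dvd_rfl)), zero_add,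
        hp.out.factorization_pow, Finsupp.single_eq_same]
    · intro h0'
      rw [h0', Nat.coprime_zero_left] at hxco
      exact hp.out.ne_one hxco
    · exact (pow_pos hp.out.pos s).ne'
  have htop : a (Fin.last n) = Nat.card G := by
    refine Nat.card_congr ((Equiv.subtypeUnivEquiv fun v => ?_))
    exact ⟨⊤, hn.le, le_top, ⟨0, by rw [hn, relIndex_self, pow_zero]⟩, le_normalizer (mem_top v)⟩
  have ha0 : a 0 = Nat.card {g : G // ((H).subgroupOf (H ⊔ Subgroup.zpowers g)).IsSubnormal} :=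
    Nat.card_congr (Equiv.subtypeEquivRight fun v => by rw [h0]; exact (good_iff H hH v).symm)
  rw [htop, ← h2, hr, ha0] at h1
  refine Nat.eq_of_mul_eq_mul_right (m := ∏ i, x i) (Nat.pos_of_ne_zero fun h0' => ?_) ?_
  · rw [h0', Nat.coprime_zero_left] at hxco
    exact hp.out.ne_one hxco
  · rw [h1, hP]
    simp only [f, r]
    ring


/-- Let G be a finite p-solvable group, H a p-subgroup of G and P a Sylow p-subgroup, and fix a chain of normal subgroups 1 = M₀ ≤ M₁ ≤ ⋯ ≤ Mₙ = G of G each of whose factors is a p-group or a p'-group. Then the number of elements g of G such that H is subnormal in the subgroup generated by H and g equals the order of P times the product, over the factors Mᵢ₊₁/Mᵢ of order prime to p, of the order of the centralizer of H in Mᵢ₊₁/Mᵢ (counted as the number of u ∈ Mᵢ₊₁ with [h, u] ∈ Mᵢ for all h ∈ H, divided by the order of Mᵢ). -/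
theorem result {G : Type*} [Group G] [Finite G] (p : ℕ) [Fact p.Prime]
    (hG : Cfsg.IsPSolvable p G) (H : Subgroup G) (hH : IsPGroup p H) (P : Sylow p G)
    (n : ℕ) (M : Fin (n + 1) → Subgroup G) (h0 : M 0 = ⊥) (hn : M (Fin.last n) = ⊤) (hmono : Monotone M)
    (hnormal : ∀ i, (M i).Normal)
    (hfac : ∀ i : Fin n, (∃ m : ℕ, (M i.castSucc).relIndex (M i.succ) = p ^ m) ∨ ((M i.castSucc).relIndex (M i.succ)).Coprime p) :
    Nat.card {g : G // ((H).subgroupOf (H ⊔ Subgroup.zpowers g)).IsSubnormal} =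
      Nat.card (P : Subgroup G) *
        ∏ i : Fin n, (if ((M i.castSucc).relIndex (M i.succ)).Coprime p then
          Nat.card {u : G // u ∈ M i.succ ∧ ∀ h ∈ H, h * u * h⁻¹ * u⁻¹ ∈ M i.castSucc} / Nat.card (M i.castSucc)
          else 1) := by
  exact main H hH P n M h0 hn hmono hnormal hfac

end Cfsg.Agent.S4090
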