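import Cfsg.Statements.S4092
import Mathlib.GroupTheory.Sylow

set_option autoImplicit false
open Cfsg

namespace Cfsg.Agent.S4092

/-- Let G be a finite group, p a prime and P a Sylow p-subgroup of G that is not normal in G. Then G has at least p·#P elements of p-power order (the identity included). -/
theorem result {G : Type*} [Group G] [Finite G] (p : ℕ) [Fact p.Prime]
    (P : Sylow p G) (hP : ¬ (P : Subgroup G).Normal) :
    p * Nat.card (P : Subgroup G) ≤ Nat.card {g : G // ∃ k : ℕ, orderOf g = p ^ k} := by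
  classical
  haveI : Fintype (Sylow p G) := Fintype.ofFinite _
  let S := (Finset.univ : Finset (Sylow p G × Sylow p G)).filter fun t => t.1 ≠ t.2
  have hS : S.Nonempty := by
    by_contra hne
    apply hP
    haveI : Subsingleton (Sylow p G) := ⟨fun a b => by
      by_contra hab
      exact hne ⟨(a, b), by simp [S, hab]⟩⟩
    exact P.normal_of_subsingleton
  obtain ⟨⟨Q, R⟩, hQR, hmax⟩ := Finset.exists_max_image S
    (fun t => Nat.card ↥((t.1 : Subgroup G) ⊓ (t.2 : Subgroup G))) hS
  simp [S] at hQR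
  set D := (Q : Subgroup G) ⊓ (R : Subgroup G)
  have hmax' : ∀ A B : Sylow p G, A ≠ B → D ≤ (A : Subgroup G) ⊓ (B : Subgroup G) →
      (A : Subgroup G) ⊓ (B : Subgroup G) = D := fun A B hAB hle =>
    (Subgroup.eq_of_le_of_card_ge hle (hmax (A, B) (by simp [S, hAB]))).symm
  set M := Subgroup.normalizer (D : Set G)
  have hDQ : D ≠ (Q : Subgroup G) := fun h => hQR (Sylow.ext (Q.3 R.2 (h ▸ inf_le_right))).symm
  have hDR : D ≠ (R : Subgroup G) := fun h => hQR (Sylow.ext (R.3 Q.2 (h ▸ inf_le_left)))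
  -- every Sylow subgroup containing a proper piece of `Q` over `D` normalising `D`
  have hgrow : ∀ A : Sylow p G, D ≤ (A : Subgroup G) → D ≠ (A : Subgroup G) →
      ∃ y ∈ (A : Subgroup G), y ∈ M ∧ y ∉ D := by
    intro A hle hne
    have := A.2.isNilpotent
    have hlt : D.subgroupOf (A : Subgroup G) < ⊤ := lt_top_iff_ne_top.mpr fun h =>
      hne (le_antisymm hle (Subgroup.subgroupOf_eq_top.mp h))
    obtain ⟨y, hyN, hyD⟩ := SetLike.exists_of_lt (Group.normalizerCondition_of_isNilpotent _ hlt)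
    refine ⟨y, y.2, Subgroup.mem_normalizer_iff.mpr fun d => ?_, fun h => hyD (Subgroup.mem_subgroupOf.mpr h)⟩
    have hiff := Subgroup.mem_normalizer_iff.mp hyN
    constructor
    · exact fun hd => Subgroup.mem_subgroupOf.mp ((hiff ⟨d, hle hd⟩).mp (Subgroup.mem_subgroupOf.mpr hd))
    · intro hd
      have hdA : d ∈ (A : Subgroup G) := by
        have h1 := mul_mem (mul_mem (inv_mem y.2) (hle hd)) y.2
        rwa [show (y : G)⁻¹ * ((y : G) * d * (y : G)⁻¹) * y = d by group] at h1
      exact Subgroup.mem_subgroupOf.mp ((hiff ⟨d, hdA⟩).mpr (Subgroup.mem_subgroupOf.mpr hd))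
  have hext : ∀ T : Sylow p M, ∃ A : Sylow p G, (T : Subgroup M).map M.subtype ≤ A :=
    fun T => (T.2.map _).exists_le_sylow
  choose ext hext using hext
  have hDM : D ≤ M := Subgroup.le_normalizer
  haveI : (D.subgroupOf M).Normal := Subgroup.normal_in_normalizer
  have hDp : IsPGroup p (D.subgroupOf M) := (Q.2.to_le (inf_le_left : D ≤ _)).comap_subtype
  have hDT : ∀ T : Sylow p M, D.subgroupOf M ≤ (T : Subgroup M) := fun T =>
    le_sup_right.trans (T.3 (IsPGroup.to_sup_of_normal_right T.2 hDp) le_sup_left).le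
  have hDA : ∀ T, D ≤ (ext T : Subgroup G) := fun T d hd =>
    hext T ⟨⟨d, hDM hd⟩, hDT T (Subgroup.mem_subgroupOf.mpr hd), rfl⟩
  have hinj : Function.Injective ext := fun T T' h => by
    have hple : ((ext T : Subgroup G).subgroupOf M) = (T : Subgroup M) :=
      T.3 (ext T).2.comap_subtype (fun t ht => hext T ⟨t, ht, rfl⟩)
    have hple' : ((ext T' : Subgroup G).subgroupOf M) = (T' : Subgroup M) :=
      T'.3 (ext T').2.comap_subtype (fun t ht => hext T' ⟨t, ht, rfl⟩)
    exact Sylow.ext (by rw [← hple, ← hple', h])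
  have hcardM : p + 1 ≤ Nat.card (Sylow p M) := by
    have hmod := card_sylow_modEq_one p M
    have hne : Nat.card (Sylow p M) ≠ 1 := fun h1 => by
      obtain ⟨hsub, -⟩ := Nat.card_eq_one_iff_unique.mp h1
      obtain ⟨T₀⟩ := (inferInstance : Nonempty (Sylow p M))
      have hkey : ∀ A : Sylow p G, D ≤ (A : Subgroup G) → D ≠ (A : Subgroup G) → ext T₀ = A := by
        intro A hle hne
        by_contra hA
        obtain ⟨y, hyA, hyM, hyD⟩ := hgrow A hle hne
        obtain ⟨T, hT⟩ := (A.2.comap_subtype (K := M)).exists_le_sylow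
        rw [hsub.elim T T₀] at hT
        exact hyD (hmax' (ext T₀) A hA (le_inf (hDA T₀) hle) ▸
          ⟨hext T₀ ⟨⟨y, hyM⟩, hT (Subgroup.mem_subgroupOf.mpr hyA), rfl⟩, hyA⟩)
      exact hQR ((hkey Q inf_le_left hDQ).symm.trans (hkey R inf_le_right hDR))
    have hpos : 0 < Nat.card (Sylow p M) := Nat.card_pos
    rw [Nat.ModEq, Nat.one_mod_eq_one.mpr (Fact.out : p.Prime).ne_one] at hmod
    by_contra hlt
    rcases Nat.lt_or_ge (Nat.card (Sylow p M)) p with h | h
    · rw [Nat.mod_eq_of_lt h] at hmod; exact hne hmod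
    · rw [show Nat.card (Sylow p M) = p by omega, Nat.mod_self] at hmod; omega
  -- the union of these Sylow subgroups
  haveI : Fintype (Sylow p M) := Fintype.ofFinite _
  haveI : Fintype G := Fintype.ofFinite _
  let F : Sylow p M → Finset G := fun T => Finset.univ.filter fun x => x ∈ (ext T : Subgroup G) ∧ x ∉ D
  have hdisj : ∀ T ∈ (Finset.univ : Finset (Sylow p M)), ∀ T' ∈ (Finset.univ : Finset (Sylow p M)),
      T ≠ T' → Disjoint (F T) (F T') := by
    intro T _ T' _ hne
    rw [Finset.disjoint_left]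
    intro x hx hx'
    simp only [F, Finset.mem_filter, Finset.mem_univ, true_and] at hx hx'
    exact hx.2 (hmax' _ _ (hinj.ne hne) (le_inf (hDA T) (hDA T')) ▸ ⟨hx.1, hx'.1⟩)
  let DF : Finset G := Finset.univ.filter fun x => x ∈ D
  have hDFc : DF.card = Nat.card D := by
    rw [Nat.card_eq_fintype_card, Fintype.card_subtype]
  have hFc : ∀ T, (F T).card + DF.card = Nat.card (P : Subgroup G) := by
    intro T
    rw [← Finset.card_union_of_disjoint, Sylow.card_eq_multiplicity P, ← Sylow.card_eq_multiplicity (ext T),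
      Nat.card_eq_fintype_card, Fintype.card_subtype]
    · congr 1
      ext x
      simp only [F, DF, Finset.mem_union, Finset.mem_filter, Finset.mem_univ, true_and]
      constructor
      · rintro (⟨h, -⟩ | h)
        · exact h
        · exact hDA T h
      · intro h
        by_cases hx : x ∈ D
        · exact Or.inr hx
        · exact Or.inl ⟨h, hx⟩
    · rw [Finset.disjoint_left]
      intro x hx hx'
      simp only [F, DF, Finset.mem_filter, Finset.mem_univ, true_and] at hx hx'
      exact hx.2 hx'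
  have hDlt : p * DF.card ≤ Nat.card (P : Subgroup G) := by
    rw [hDFc, Sylow.card_eq_multiplicity P, ← Sylow.card_eq_multiplicity Q]
    obtain ⟨k, hk⟩ := Subgroup.card_dvd_of_le (inf_le_left : D ≤ (Q : Subgroup G))
    obtain ⟨i, hi, rfl⟩ := (Nat.dvd_prime_pow Fact.out).mp (Dvd.intro_left _ ((hk.symm).trans
      (Sylow.card_eq_multiplicity Q)) : k ∣ p ^ _)
    rw [hk, mul_comm p]
    refine Nat.mul_le_mul_left _ (Nat.le_self_pow (fun h0 => hDQ ?_) p)
    exact Subgroup.eq_of_le_of_card_ge inf_le_left (by rw [hk, h0, pow_zero, mul_one])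
  let U : Finset G := DF ∪ Finset.univ.biUnion F
  have hU : Nat.card {g : G // ∃ k : ℕ, orderOf g = p ^ k} ≥ U.card := by
    rw [Nat.card_eq_fintype_card, Fintype.card_subtype]
    refine Finset.card_le_card fun x hx => ?_
    rw [Finset.mem_filter]
    refine ⟨Finset.mem_univ _, ?_⟩
    obtain ⟨A, hA⟩ : ∃ A : Sylow p G, x ∈ (A : Subgroup G) := by
      simp only [U, DF, F, Finset.mem_union, Finset.mem_biUnion, Finset.mem_filter, Finset.mem_univ,
        true_and] at hx
      rcases hx with hx | ⟨T, hx, -⟩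
      · exact ⟨Q, hx.1⟩
      · exact ⟨_, hx⟩
    obtain ⟨k, hk⟩ := IsPGroup.iff_orderOf.mp A.2 ⟨x, hA⟩
    exact ⟨k, by rw [← hk, Subgroup.orderOf_mk]⟩
  have hUc : U.card = DF.card + Nat.card (Sylow p M) * (Nat.card (P : Subgroup G) - DF.card) := by
    rw [Finset.card_union_of_disjoint, Finset.card_biUnion hdisj,
      Finset.sum_congr rfl (fun T _ => Nat.eq_sub_of_add_eq (hFc T)), Finset.sum_const, smul_eq_mul,
      Finset.card_univ, Nat.card_eq_fintype_card (α := Sylow p M)]
    rw [Finset.disjoint_left]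
    intro x hx hx'
    simp only [F, DF, Finset.mem_biUnion, Finset.mem_filter, Finset.mem_univ, true_and] at hx hx'
    obtain ⟨T, -, h⟩ := hx'
    exact h hx
  have hmul := Nat.mul_le_mul_right (Nat.card (P : Subgroup G) - DF.card) hcardM
  generalize Nat.card (P : Subgroup G) = a at *
  generalize DF.card = d at *
  have hp1 : 1 ≤ p := (Fact.out : p.Prime).one_lt.le
  have hda : d ≤ a := le_trans (Nat.le_mul_of_pos_left d hp1) hDlt
  obtain ⟨c, rfl⟩ := Nat.exists_eq_add_of_le hda
  rw [Nat.add_sub_cancel_left] at hmul hUc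
  nlinarith

end Cfsg.Agent.S4092
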