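import Cfsg.Statements.S4093
import Mathlib.GroupTheory.Complement

set_option autoImplicit false
open scoped BigOperators
open Cfsg

namespace Cfsg.Agent.S4093

/-- Let G be a finite group with a normal subgroup N complementing a Sylow p-subgroup P (a normal p-complement). Then the number of elements of G of p-power order equals the sum over x ∈ P of the index of C_N(x) in N. -/
theorem result {G : Type*} [Group G] [Finite G] (p : ℕ) [Fact p.Prime]
    (P : Sylow p G) (N : Subgroup G) [N.Normal] (hNP : N.IsComplement' (P : Subgroup G)) :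
    Nat.card {g : G // ∃ k : ℕ, orderOf g = p ^ k} =
      ∑ᶠ x : (P : Subgroup G), Nat.card N / Nat.card ↥(N ⊓ Subgroup.centralizer ({(x : G)} : Set G)) := by
  classical
  haveI : Fintype (P : Subgroup G) := Fintype.ofFinite _
  have hdis : ∀ z : G, z ∈ N → z ∈ (P : Subgroup G) → z = 1 := fun z hz hz' =>
    Subgroup.disjoint_def.mp hNP.disjoint hz hz'
  have hdec : ∀ g : G, ∃! x : (P : Subgroup G), g * (x : G)⁻¹ ∈ N := by
    intro g
    obtain ⟨⟨⟨m, hm⟩, y⟩, hy⟩ := (hNP.existsUnique g).exists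
    refine ⟨y, ?_, fun z hz => ?_⟩
    · have e : m * (y : G) = g := hy
      show g * (y : G)⁻¹ ∈ N
      rw [← e]
      simpa using hm
    · have h1 : g * (y : G)⁻¹ ∈ N := by
        have e : m * (y : G) = g := hy
        rw [← e]
        simpa using hm
      have h2 : (z : G) * (y : G)⁻¹ ∈ N := by
        have h3 := mul_mem (inv_mem hz) h1
        have e : (g * (z : G)⁻¹)⁻¹ * (g * (y : G)⁻¹) = (z : G) * (y : G)⁻¹ := by group
        exact e ▸ h3
      exact Subtype.ext (mul_inv_eq_one.mp (hdis _ h2 (mul_mem z.2 (inv_mem y.2))))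
  choose π hπ hπu using hdec
  let T : ↥(P : Subgroup G) → Set G := fun x =>
    Set.range fun n : N => (n : G) * (x : G) * (n : G)⁻¹
  have hπT : ∀ x : (P : Subgroup G), ∀ g ∈ T x, π g = x := by
    rintro x _ ⟨n, rfl⟩
    refine (hπu _ x ?_).symm
    have h1 : (x : G) * (n : G)⁻¹ * (x : G)⁻¹ ∈ N :=
      Subgroup.Normal.conj_mem inferInstance _ (inv_mem n.2) _
    have h2 := mul_mem n.2 h1
    show (n : G) * (x : G) * (n : G)⁻¹ * (x : G)⁻¹ ∈ N
    simpa [mul_assoc] using h2
  have hset : {g : G | ∃ k : ℕ, orderOf g = p ^ k} = ⋃ x, T x := by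
    ext g
    constructor
    · rintro ⟨k, hk⟩
      have hp : IsPGroup p (Subgroup.zpowers g) := IsPGroup.of_card (n := k) (by
        rw [Nat.card_zpowers, hk])
      obtain ⟨Q, hQ⟩ := hp.exists_le_sylow
      obtain ⟨h, rfl⟩ := MulAction.exists_smul_eq G P Q
      obtain ⟨⟨⟨m, hm⟩, y⟩, hy⟩ := (hNP.existsUnique h).exists
      have e : m * (y : G) = h := hy
      obtain ⟨z, hz, hzg⟩ := hQ (Subgroup.mem_zpowers g)
      refine Set.mem_iUnion.mpr ⟨⟨(y : G) * z * (y : G)⁻¹, mul_mem (mul_mem y.2 hz) (inv_mem y.2)⟩,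
        ⟨m, hm⟩, ?_⟩
      have hzg' : h * z * h⁻¹ = g := hzg
      rw [← hzg', ← e]
      group
    · intro hg
      obtain ⟨x, n, rfl⟩ := Set.mem_iUnion.mp hg
      obtain ⟨k, hk⟩ := IsPGroup.iff_orderOf.mp P.2 x
      refine ⟨k, ?_⟩
      have h1 := orderOf_injective (MulAut.conj (n : G)).toMonoidHom (MulAut.conj (n : G)).injective x
      rw [Subgroup.orderOf_coe] at h1
      exact h1.trans hk
  have hT : ∀ x : (P : Subgroup G),
      Nat.card (T x) = Nat.card N / Nat.card ↥(N ⊓ Subgroup.centralizer ({(x : G)} : Set G)) := by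
    intro x
    set C := (Subgroup.centralizer ({(x : G)} : Set G)).subgroupOf N
    have hC : Nat.card C = Nat.card ↥(N ⊓ Subgroup.centralizer ({(x : G)} : Set G)) := by
      have h1 := Subgroup.card_map_of_injective (K := C) (f := N.subtype) N.subtype_injective
      rw [Subgroup.subgroupOf_map_subtype, inf_comm] at h1
      exact h1.symm
    have hmem : ∀ a b : N, a⁻¹ * b ∈ C ↔
        (a : G) * (x : G) * (a : G)⁻¹ = (b : G) * (x : G) * (b : G)⁻¹ := by
      intro a b
      show (a : G)⁻¹ * (b : G) ∈ Subgroup.centralizer ({(x : G)} : Set G) ↔ _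
      rw [Subgroup.mem_centralizer_singleton_iff]
      constructor
      · intro h
        calc (a : G) * (x : G) * (a : G)⁻¹
            = (a : G) * ((x : G) * ((a : G)⁻¹ * (b : G))) * (b : G)⁻¹ := by group
          _ = (a : G) * (((a : G)⁻¹ * (b : G)) * (x : G)) * (b : G)⁻¹ := by rw [h]
          _ = _ := by group
      · intro h
        calc (a : G)⁻¹ * (b : G) * (x : G)
            = (a : G)⁻¹ * ((b : G) * (x : G) * (b : G)⁻¹) * (b : G) := by group
          _ = (a : G)⁻¹ * ((a : G) * (x : G) * (a : G)⁻¹) * (b : G) := by rw [h]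
          _ = _ := by group
    let e : N ⧸ C → T x := Quotient.lift (fun n : N => ⟨(n : G) * (x : G) * (n : G)⁻¹, n, rfl⟩)
      (fun a b h => Subtype.ext ((hmem a b).mp (QuotientGroup.leftRel_apply.mp h)))
    have he : Function.Bijective e := by
      constructor
      · intro a b h
        induction a using QuotientGroup.induction_on with
        | _ a =>
          induction b using QuotientGroup.induction_on with
          | _ b => exact QuotientGroup.eq.mpr ((hmem a b).mpr (congrArg Subtype.val h))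
      · rintro ⟨_, n, rfl⟩
        exact ⟨QuotientGroup.mk n, rfl⟩
    rw [← Nat.card_eq_of_bijective e he, ← hC, Subgroup.card_eq_card_quotient_mul_card_subgroup C,
      Nat.mul_div_cancel _ Nat.card_pos]
  rw [finsum_eq_sum_of_fintype, ← Finset.sum_congr rfl (fun x _ => hT x), ← Nat.card_sigma]
  symm
  let f : (Σ x, T x) → {g : G // ∃ k : ℕ, orderOf g = p ^ k} := fun s =>
    ⟨s.2.1, hset.symm.le (Set.mem_iUnion.mpr ⟨s.1, s.2.2⟩)⟩
  refine Nat.card_eq_of_bijective f ⟨?_, ?_⟩
  · rintro ⟨x, g, hg⟩ ⟨x', g', hg'⟩ h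
    have h1 : g = g' := congrArg Subtype.val h
    subst h1
    obtain rfl : x = x' := (hπT x g hg).symm.trans (hπT x' g hg')
    rfl
  · rintro ⟨g, hg⟩
    obtain ⟨x, hx⟩ := Set.mem_iUnion.mp (hset.le hg)
    exact ⟨⟨x, g, hx⟩, rfl⟩

end Cfsg.Agent.S4093
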