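import Cfsg.Statements.S4097
import Cfsg.Agent.S0042
import Cfsg.Agent.Lib.Frobenius.Basic

/-!
Induction on the order.  A normal solvable subgroup `N ≠ 1` gives a normal solvable `AN` by induction
in `G ⧸ N`, and then `A` commutes with everything (`AN⟨g⟩` is solvable).  Without such `N`, every proper
subgroup containing `A` lies in `M = C(A)`; this makes `M` a Frobenius complement, whose kernel is a
nilpotent normal subgroup.
-/

set_option autoImplicit false
open Cfsg

namespace Cfsg.Agent.S4097

open Subgroup
open scoped Pointwise

universe u

/-- A product of a solvable normal subgroup and a solvable subgroup is solvable. -/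
theorem isSolvable_sup_normal {G : Type u} [Group G] (N H : Subgroup G) [N.Normal]
    (hN : Group.IsSolvable N) (hH : Group.IsSolvable H) : Group.IsSolvable ↥(H ⊔ N) := by
  have : Group.IsSolvable N := hN
  have : Group.IsSolvable H := hH
  let f : ↥(H ⊔ N) →* G ⧸ N := (QuotientGroup.mk' N).comp (H ⊔ N).subtype
  have hrange : f.range = H.map (QuotientGroup.mk' N) := by
    rw [MonoidHom.range_comp, range_subtype, Subgroup.map_sup, QuotientGroup.map_mk'_self, sup_bot_eq]
  have : Group.IsSolvable ↥(H.map (QuotientGroup.mk' N)) :=
    Group.isSolvable_of_surjective ((QuotientGroup.mk' N).subgroupMap_surjective H)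
  have hr : Group.IsSolvable f.range := by
    rw [hrange]; infer_instance
  refine Group.isSolvable_of_ker_le_range (Subgroup.inclusion (le_sup_right : N ≤ H ⊔ N))
    f.rangeRestrict ?_
  intro x hx
  have h1 : (QuotientGroup.mk' N) (x : G) = 1 := congrArg Subtype.val hx
  rw [QuotientGroup.mk'_apply, QuotientGroup.eq_one_iff] at h1
  exact ⟨⟨x, h1⟩, Subtype.ext rfl⟩

/-- `A` is central in every solvable subgroup containing it. -/
def CentralInSolvable {G : Type u} [Group G] (A : Subgroup G) : Prop :=
  ∀ S : Subgroup G, A ≤ S → Group.IsSolvable S → ∀ a ∈ A, ∀ s ∈ S, a * s = s * a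

theorem aux : ∀ (n : ℕ) (G : Type u) [Group G] [Finite G] (A : Subgroup G), Nat.card G = n →
    Group.IsSolvable A → CentralInSolvable A → A ≤ center G := by
  intro n
  induction n using Nat.strong_induction_on with
  | _ n ih =>
    intro G _ _ A hn hA hc
    subst hn
    by_cases hrad : ∃ N : Subgroup G, N.Normal ∧ N ≠ ⊥ ∧ Group.IsSolvable N
    · obtain ⟨N, hN, hN1, hNs⟩ := hrad
      have hlt : Nat.card (G ⧸ N) < Nat.card G := by
        have h1 := N.card_eq_card_quotient_mul_card_subgroup
        have h2 : 1 < Nat.card N := N.one_lt_card_iff_ne_bot.2 hN1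
        have h3 : 0 < Nat.card (G ⧸ N) := Nat.card_pos
        rw [h1]
        exact lt_mul_of_one_lt_right h3 h2
      set π := QuotientGroup.mk' N with hπ
      have hAq : Group.IsSolvable ↥(A.map π) :=
        have : Group.IsSolvable A := hA
        Group.isSolvable_of_surjective (π.subgroupMap_surjective A)
      have hq := ih _ hlt (G ⧸ N) (A.map π) rfl hAq (by
        rintro S hAS hS _ ⟨a, ha, rfl⟩ s hs
        obtain ⟨s, rfl⟩ := QuotientGroup.mk'_surjective N s
        have hpre : Group.IsSolvable ↥(S.comap π) := by
          have : Group.IsSolvable N := hNs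
          have : Group.IsSolvable S := hS
          have hle : N ≤ S.comap π := by
            intro x hx
            show π x ∈ S
            rw [hπ, QuotientGroup.mk'_apply, (QuotientGroup.eq_one_iff x).2 hx]
            exact one_mem _
          refine Group.isSolvable_of_ker_le_range (Subgroup.inclusion hle) (π.subgroupComap S) ?_
          intro x hx
          have h1 : π (x : G) = 1 := congrArg Subtype.val hx
          replace h1 : (x : G) ∈ N := (QuotientGroup.eq_one_iff (x : G)).1 h1
          exact ⟨⟨x, h1⟩, Subtype.ext rfl⟩
        have e := hc (S.comap π) (Subgroup.map_le_iff_le_comap.1 hAS) hpre a ha s hs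
        rw [← map_mul, ← map_mul, e])
      -- `R = AN` is normal and solvable
      have hR : (A ⊔ N).Normal := by
        have h0 : A ⊔ N = (A.map π).comap π := by
          rw [hπ, Subgroup.comap_map_eq, QuotientGroup.ker_mk']
        have h1 : (A.map π).Normal := ⟨fun x hx g => by
          have := mem_center_iff.1 (hq hx) g
          rw [this, mul_inv_cancel_right]; exact hx⟩
        rw [h0]; exact h1.comap π
      intro a ha
      rw [mem_center_iff]
      intro g
      have hs : Group.IsSolvable ↥(zpowers g ⊔ (A ⊔ N)) :=
        isSolvable_sup_normal (A ⊔ N) (zpowers g) (isSolvable_sup_normal N A hNs hA) inferInstance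
      exact (hc _ (le_sup_of_le_right le_sup_left) hs a ha g (mem_sup_left (mem_zpowers g))).symm
    push Not at hrad
    by_contra hcen
    have hA1 : A ≠ ⊥ := fun e => hcen (by rw [e]; exact bot_le)
    set M := centralizer (A : Set G) with hM
    have hMtop : M ≠ ⊤ := fun e => hcen (centralizer_eq_top_iff_subset.1 e)
    have hAM : A ≤ M := fun a ha =>
      mem_centralizer_iff.2 fun b hb => hc A le_rfl hA b hb a ha
    have hover : ∀ H : Subgroup G, A ≤ H → H ≠ ⊤ → H ≤ M := by
      intro H hAH hH
      have hlt : Nat.card H < Nat.card G := lt_of_le_of_ne (card_le_card_group H)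
        fun e => hH (eq_top_of_card_eq H e)
      have hAs : Group.IsSolvable ↥(A.subgroupOf H) :=
        have : Group.IsSolvable A := hA
        Group.isSolvable_of_surjective (Subgroup.subgroupOfEquivOfLe hAH).symm.surjective
          (f := (Subgroup.subgroupOfEquivOfLe hAH).symm.toMonoidHom)
      have hcH : CentralInSolvable (A.subgroupOf H) := by
        intro S hAS hS a ha s hs
        have : Group.IsSolvable ↥(S.map H.subtype) :=
          have : Group.IsSolvable S := hS
          Group.isSolvable_of_surjective (H.subtype.subgroupMap_surjective S)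
        refine Subtype.ext (hc (S.map H.subtype) (fun x hx => ?_) this a ha s ⟨s, hs, rfl⟩)
        exact ⟨⟨x, hAH hx⟩, hAS hx, rfl⟩
      have hHc := ih _ hlt H (A.subgroupOf H) rfl hAs hcH
      intro x hx
      refine mem_centralizer_iff.2 fun a ha => ?_
      have := mem_center_iff.1 (hHc (show (⟨a, hAH ha⟩ : H) ∈ A.subgroupOf H from ha)) ⟨x, hx⟩
      exact (congrArg Subtype.val this).symm
    have hfrob : IsFrobeniusComplement M := by
      refine ⟨fun e => hA1 (by rw [eq_bot_iff, ← e]; exact hAM), hMtop, fun g hg => ?_⟩
      rw [eq_bot_iff]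
      rintro u ⟨hu1, hu2⟩
      rw [mem_bot]
      by_contra hu
      apply hg
      obtain ⟨m, hm, hmu⟩ := hu2
      simp only [MulDistribMulAction.toMonoidEnd_apply, MulDistribMulAction.toMonoidHom_apply,
        MulAut.smul_def, MulAut.conj_apply] at hmu
      -- `C(u) ≤ M`
      have hCu : centralizer ({u} : Set G) ≠ ⊤ := by
        intro e
        have huz : zpowers u ≤ center G := zpowers_le.2 (by
          simpa using centralizer_eq_top_iff_subset.1 e)
        have hn : (zpowers u).Normal := ⟨fun x hx y => by
          rw [mem_center_iff.1 (huz hx) y, mul_inv_cancel_right]; exact hx⟩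
        exact hrad (zpowers u) hn (by simpa using hu) inferInstance
      have hle : centralizer ({u} : Set G) ≤ M := hover _ (fun a ha =>
        mem_centralizer_singleton_iff.2 (mem_centralizer_iff.1 hu1 a ha)) hCu
      -- `A ≤ M^(g⁻¹)`
      have hgA : A ≤ M.map (MulAut.conj g⁻¹).toMonoidHom := by
        intro a ha
        refine ⟨g * a * g⁻¹, hle (mem_centralizer_singleton_iff.2 ?_), by simp [mul_assoc]⟩
        have h1 : a * m = m * a := mem_centralizer_iff.1 hm a ha
        subst hmu
        calc g * a * g⁻¹ * (g * m * g⁻¹) = g * (a * m) * g⁻¹ := by group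
          _ = g * (m * a) * g⁻¹ := by rw [h1]
          _ = g * m * g⁻¹ * (g * a * g⁻¹) := by group
      have hinj : Function.Injective ⇑(MulAut.conj g⁻¹).toMonoidHom := (MulAut.conj g⁻¹).injective
      have hne : M.map (MulAut.conj g⁻¹).toMonoidHom ≠ ⊤ := fun e => hMtop (eq_top_of_card_eq M (by
        rw [← card_map_of_injective hinj, e, card_top]))
      have heq : M.map (MulAut.conj g⁻¹).toMonoidHom = M := eq_of_le_of_card_ge (hover _ hgA hne)
        (card_map_of_injective hinj).ge
      have hgN : g⁻¹ ∈ normalizer (M : Set G) := by
        rw [mem_normalizer_iff]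
        intro x
        constructor
        · intro hx
          rw [← heq]
          exact ⟨x, hx, rfl⟩
        · intro hx
          rw [← heq] at hx
          obtain ⟨y, hy, hyx⟩ := hx
          have : y = x := by simpa using hyx
          rwa [← this]
      have hNne : normalizer (M : Set G) ≠ ⊤ := by
        intro e
        have hMn : M.Normal := normalizer_eq_top_iff.1 e
        set Z := (center M).map M.subtype with hZ
        have hZn : Z.Normal := inferInstance
        refine hrad Z hZn ?_ ?_
        · intro e'
          apply hA1
          rw [eq_bot_iff, ← e']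
          exact fun a ha => ⟨⟨a, hAM ha⟩, mem_center_iff.2 fun b =>
            Subtype.ext (mem_centralizer_iff.1 b.2 a ha).symm, rfl⟩
        · have : Group.IsSolvable ↥(center M) :=
            Group.isSolvable_of_comm fun a b => Subtype.ext (mem_center_iff.1 b.2 a.1)
          exact Group.isSolvable_of_surjective (M.subtype.subgroupMap_surjective (center M))
      exact inv_mem_iff.1 (hover _ (hAM.trans le_normalizer) hNne hgN)
    obtain ⟨K, hK, hKn, hKnil⟩ := S0042.result M hfrob
    have hKs : Group.IsSolvable K := by
      have : Group.IsNilpotent K := hKnil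
      infer_instance
    have hK1 : K ≠ ⊥ := by
      intro e
      have h1 : Nat.card ↥(frobeniusKernel M) = M.index := Frobenius.card_kernel hfrob
      rw [← hK, e] at h1
      exact hMtop (index_eq_one.1 (h1.symm.trans (by simp)))
    exact hrad K hKn hK1 hKs

/-- Let A be a solvable subgroup of a finite group G such that A lies in the centre of every solvable subgroup of G containing A. Then A lies in the centre of G. -/
theorem result {G : Type*} [Group G] [Finite G]
    (A : Subgroup G) (hA : Group.IsSolvable A)
    (hc : ∀ S : Subgroup G, A ≤ S → Group.IsSolvable S → ∀ a ∈ A, ∀ s ∈ S, a * s = s * a) : A ≤ Subgroup.center G :=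
  aux _ G A rfl hA hc

end Cfsg.Agent.S4097
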