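-- S4106
import Cfsg.Statements.S4106
import Cfsg.Agent.Lib.ClassCount.Basic

set_option autoImplicit false
set_option linter.style.haveILetI false
open Cfsg

namespace Cfsg.Agent.S4106



/-- Let G be a finite group, π a set of primes and m the π-part of the order of G. Then the number of conjugacy classes of G consisting of π-elements (elements whose order is divisible only by primes in π) is at most m. -/
theorem result {G : Type*} [Group G] [Finite G]
    (π : Set ℕ) (hπ : ∀ q ∈ π, q.Prime)
    (m : ℕ) (hm : m ∣ Nat.card G) (hmπ : ∀ q : ℕ, q.Prime → q ∣ m → q ∈ π)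
    (hm' : ∀ q ∈ π, ¬ q ∣ Nat.card G / m) :
    Nat.card {C : ConjClasses G // ∀ q : ℕ, q.Prime → (∃ g : G, ConjClasses.mk g = C ∧ q ∣ orderOf g) → q ∈ π} ≤ m := by
  classical
  set σ := (Nat.card G).primeFactors.filter (· ∈ π) with hσdef
  have hσ : ∀ r ∈ σ, r.Prime := fun r hr => Nat.prime_of_mem_primeFactors (Finset.mem_filter.1 hr).1
  refine le_trans (le_trans ?_ (ClassCount.piClassCount_le_piPart σ hσ G)) (Nat.le_of_dvd
    (Nat.pos_of_dvd_of_pos hm Nat.card_pos) ?_)
  · refine (Nat.card_congr (Equiv.subtypeEquivRight fun C => ?_)).le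
    constructor
    · intro h x hx r hr hd
      refine Finset.mem_filter.2 ⟨Nat.mem_primeFactors.2 ⟨hr, hd.trans (orderOf_dvd_natCard x),
        Nat.card_pos.ne'⟩, h r hr ⟨x, ConjClasses.mem_carrier_iff_mk_eq.1 hx, hd⟩⟩
    · rintro h q hq ⟨g, hg, hd⟩
      exact (Finset.mem_filter.1 (h g (ConjClasses.mem_carrier_iff_mk_eq.2 hg) q hq hd)).2
  · refine Finset.prod_dvd_of_isRelPrime (fun r hr s hs hne => ?_) fun r hr => ?_
    · exact Nat.coprime_iff_isRelPrime.1
        (Nat.Coprime.pow _ _ ((Nat.coprime_primes (hσ r hr) (hσ s hs)).2 hne))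
    · have hc : Nat.Coprime (r ^ (Nat.card G).factorization r) (Nat.card G / m) :=
        Nat.Coprime.pow_left _ ((hσ r hr).coprime_iff_not_dvd.2 (hm' r (Finset.mem_filter.1 hr).2))
      refine hc.dvd_of_dvd_mul_right ?_
      rw [Nat.mul_div_cancel' hm]
      exact Nat.ordProj_dvd _ _

end Cfsg.Agent.S4106
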