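-- S4107
import Cfsg.Statements.S4107
import Cfsg.Agent.Lib.Components.Fitting
import Cfsg.Agent.Lib.PCore.Basic
import Mathlib.GroupTheory.Nilpotent

set_option autoImplicit false
set_option linter.style.haveILetI false
open Cfsg

namespace Cfsg.Agent.S4107


open Subgroup

variable {G : Type*} [Group G] [Finite G]

theorem exists_prime_power_mem {K N : Subgroup G} (h : ¬ K ≤ N) :
    ∃ x ∈ K, x ∉ N ∧ ∃ p k : ℕ, p.Prime ∧ orderOf x = p ^ k := by
  by_contra hcon
  push_neg at hcon
  refine h (subgroupOf_eq_top.mp (Components.eq_top_of_forall_sylow fun p hp _ => ?_))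
  haveI := Fact.mk hp
  refine ⟨default, fun y hy => ?_⟩
  obtain ⟨k, hk⟩ := IsPGroup.iff_orderOf.1 ((default : Sylow p K).isPGroup') ⟨y, hy⟩
  by_contra hyN
  refine hcon y.1 y.2 hyN p k hp ?_
  rw [Subgroup.orderOf_coe]
  rwa [Subgroup.orderOf_mk] at hk

theorem mem_pCore_of_mem_fitting {x : G} {p k : ℕ} (hp : p.Prime) (hx : x ∈ fittingSubgroup G)
    (hk : orderOf x = p ^ k) : x ∈ pCore p G := by
  haveI := Fact.mk hp
  haveI := Components.fittingSubgroup_isNilpotent G
  let P : Sylow p (fittingSubgroup G) := default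
  haveI : (P : Subgroup (fittingSubgroup G)).Normal := inferInstance
  haveI hc : (P : Subgroup (fittingSubgroup G)).Characteristic := P.characteristic_of_normal inferInstance
  have hP : P.1.map (fittingSubgroup G).subtype ≤ pCore p G :=
    PCore.le_pCore (hN := ConjAct.normal_of_characteristic_of_normal) (P.isPGroup'.map _)
  have hxp : IsPGroup p (zpowers (⟨x, hx⟩ : fittingSubgroup G)) :=
    IsPGroup.of_card (n := k) (by rw [Nat.card_zpowers, Subgroup.orderOf_mk, hk])
  obtain ⟨Q, hQ⟩ := hxp.exists_le_sylow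
  haveI := Sylow.unique_of_normal P inferInstance
  exact hP ⟨⟨x, hx⟩, Subsingleton.elim Q P ▸ hQ (mem_zpowers _), rfl⟩

/-- The key step: a prime power element of `F(G)` outside `N` forces `N` to be a group for that prime. -/
theorem isPGroup_of_outside (N : Subgroup G) [N.Normal]
    (heq : ∀ x : G, x ∉ N → ∀ n ∈ N, orderOf (x * n) = orderOf x) {x : G} {p k : ℕ} (hp : p.Prime)
    (hxF : x ∈ fittingSubgroup G) (hxN : x ∉ N) (hk : orderOf x = p ^ k) : IsPGroup p N := by
  haveI := Fact.mk hp
  intro n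
  have hx := mem_pCore_of_mem_fitting hp hxF hk
  let π := QuotientGroup.mk' (pCore p G)
  have h1 : (n : G) ^ (p ^ k) ∈ pCore p G := by
    have h2 : π ((x * n) ^ (p ^ k)) = 1 := by
      rw [← hk, ← heq x hxN n n.2, pow_orderOf_eq_one, map_one]
    rw [map_pow, map_mul, show π x = 1 from (QuotientGroup.eq_one_iff x).2 hx, one_mul, ← map_pow] at h2
    exact (QuotientGroup.eq_one_iff _).1 h2
  obtain ⟨j, hj⟩ := (PCore.isPGroup_pCore (G := G) (p := p)) ⟨_, h1⟩
  refine ⟨k + j, Subtype.ext ?_⟩
  have := congrArg Subtype.val hj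
  simp only [SubmonoidClass.coe_pow, OneMemClass.coe_one] at this ⊢
  rw [pow_add, pow_mul]; exact this

/-- Let G be a finite group and N a proper non-trivial normal subgroup such that for every x outside N all elements of the coset xN have the same order as x. Then N ≤ F(G) or F(G) ≤ N, where F(G) is the Fitting subgroup; and if N is properly contained in F(G) then F(G) has prime-power order. -/
theorem result {G : Type*} [Group G] [Finite G] (N : Subgroup G) [N.Normal] (hN1 : N ≠ ⊥) (hN2 : N ≠ ⊤)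
    (heq : ∀ x : G, x ∉ N → ∀ n ∈ N, orderOf (x * n) = orderOf x) :
    (N ≤ Cfsg.fittingSubgroup G ∨ Cfsg.fittingSubgroup G ≤ N) ∧
    (N < Cfsg.fittingSubgroup G → IsPrimePow (Nat.card (Cfsg.fittingSubgroup G))) := by
  constructor
  · by_cases hFN : Cfsg.fittingSubgroup G ≤ N
    · exact Or.inr hFN
    · obtain ⟨x, hxF, hxN, p, k, hp, hk⟩ := exists_prime_power_mem hFN
      haveI := (isPGroup_of_outside N heq hp hxF hxN hk)
      exact Or.inl ((PCore.le_pCore (hN := inferInstance) this).trans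
        (Components.pCore_le_fittingSubgroup hp))
  · intro hlt
    obtain ⟨x, hxF, hxN, p, k, hp, hk⟩ := exists_prime_power_mem (not_le_of_gt hlt)
    have hN := isPGroup_of_outside N heq hp hxF hxN hk
    haveI := Fact.mk hp
    have hFp : ∀ y ∈ Cfsg.fittingSubgroup G, ∀ r j : ℕ, r.Prime → orderOf y = r ^ j → r ≠ p → y = 1 := by
      intro y hy r j hr hj hrp
      haveI := Fact.mk hr
      by_cases hyN : y ∈ N
      · obtain ⟨i, hi⟩ := IsPGroup.iff_orderOf.1 hN ⟨y, hyN⟩
        rw [Subgroup.orderOf_mk, hj] at hi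
        rw [← orderOf_eq_one_iff, hj]
        exact Nat.Coprime.eq_one_of_dvd
          (Nat.Coprime.pow j i ((Nat.coprime_primes hr hp).2 hrp)) (dvd_of_eq hi)
      · exact absurd (eq_bot_iff.2 (PCore.eq_bot_of_isPGroup_of_coprime
          (isPGroup_of_outside N heq hr hy hyN hj)
          (by
            obtain ⟨i, hi⟩ := IsPGroup.iff_card.1 hN
            rw [hi]; exact Nat.Coprime.pow_left i ((Nat.coprime_primes hp hr).2 (Ne.symm hrp)))).le) hN1
    have hF : IsPGroup p (Cfsg.fittingSubgroup G) := by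
      obtain ⟨y, hy, hyP, r, j, hr, hj⟩ | h : (∃ y ∈ Cfsg.fittingSubgroup G, y ∉ Cfsg.pCore p G ∧
          ∃ r j : ℕ, r.Prime ∧ orderOf y = r ^ j) ∨ Cfsg.fittingSubgroup G ≤ Cfsg.pCore p G := by
        by_cases h : Cfsg.fittingSubgroup G ≤ Cfsg.pCore p G
        · exact Or.inr h
        · exact Or.inl (exists_prime_power_mem h)
      · by_cases hrp : r = p
        · exact absurd (mem_pCore_of_mem_fitting hp hy (hrp ▸ hj)) hyP
        · exact absurd (hFp y hy r j hr hj hrp ▸ one_mem _) hyP
      · exact PCore.isPGroup_pCore.to_le h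
    obtain ⟨j, hj⟩ := IsPGroup.iff_card.1 hF
    rw [hj]
    refine (hp.isPrimePow).pow ?_
    rintro rfl
    rw [pow_zero, Subgroup.card_eq_one] at hj
    exact hxN (by rw [hj, Subgroup.mem_bot] at hxF; exact hxF ▸ one_mem N)

end Cfsg.Agent.S4107
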