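import Cfsg.Statements.S4108
import Cfsg.Agent.Lib.Frobenius.Basic
-- import your own Cfsg.Agent.* helpers here

set_option autoImplicit false
open Cfsg

namespace Cfsg.Agent.S4108

/-- Let G be a finite group, p a prime and N a proper non-trivial normal p-subgroup such that for every x outside N all elements of the coset xN have the same order as x. Then every non-trivial subgroup H of G of order prime to p acts fixed-point-freely on N: NH is a Frobenius group with complement H and kernel N. -/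
theorem result {G : Type*} [Group G] [Finite G] (N : Subgroup G) [N.Normal] (hN1 : N ≠ ⊥) (hN2 : N ≠ ⊤)
    (heq : ∀ x : G, x ∉ N → ∀ n ∈ N, orderOf (x * n) = orderOf x)
    (p : ℕ) [Fact p.Prime] (hNp : IsPGroup p N) :
    ∀ H : Subgroup G, H ≠ ⊥ → (Nat.card H).Coprime p →
      Cfsg.IsFrobeniusComplement (H.subgroupOf (N ⊔ H)) ∧ Cfsg.frobeniusKernel (H.subgroupOf (N ⊔ H)) = (N.subgroupOf (N ⊔ H) : Set ↥(N ⊔ H)) := by
  intro H hH hcop
  set L := N ⊔ H
  set K := N.subgroupOf L with hKdef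
  set C := H.subgroupOf L with hCdef
  haveI : K.Normal := Subgroup.normal_subgroupOf
  obtain ⟨k, hk⟩ := IsPGroup.iff_card.1 hNp
  have hNH : (Nat.card N).Coprime (Nat.card H) := hk ▸ (hcop.symm.pow_left k)
  have hdisj : N ⊓ H = ⊥ := Subgroup.inf_eq_bot_of_coprime hNH
  have hc : Subgroup.IsComplement' K C := by
    refine Subgroup.isComplement'_of_disjoint_and_mul_eq_univ ?_ ?_
    · rw [Subgroup.disjoint_def]
      intro x hxK hxC
      exact Subtype.ext (Subgroup.mem_bot.1 (hdisj.le (Subgroup.mem_inf.2 ⟨hxK, hxC⟩)))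
    · rw [← Subgroup.normal_mul, hKdef, hCdef, ← Subgroup.subgroupOf_sup le_sup_left le_sup_right,
        Subgroup.subgroupOf_self, Subgroup.coe_top]
  have hK1 : K ≠ ⊥ := fun h => hN1 ((Subgroup.subgroupOf_eq_bot.1 h).eq_bot_of_le le_sup_left)
  have hC1 : C ≠ ⊥ := fun h => hH ((Subgroup.subgroupOf_eq_bot.1 h).eq_bot_of_le le_sup_right)
  have hF : Cfsg.IsFrobeniusComplement C := by
    refine (Cfsg.Agent.Frobenius.isFrobeniusComplement_iff hc hK1 hC1).2 fun h hh h1 => ?_
    refine (Subgroup.eq_bot_iff_forall _).2 fun n hn => ?_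
    obtain ⟨hnK, hnC⟩ := Subgroup.mem_inf.1 hn
    have hcomm : Commute (h : G) (n : G) :=
      congrArg Subtype.val (Subgroup.mem_centralizer_iff.1 hnC h rfl)
    have hhN : (h : G) ∉ N := fun hm => h1 (Subtype.ext
      (Subgroup.mem_bot.1 (hdisj.le (Subgroup.mem_inf.2 ⟨hm, hh⟩))))
    have hco : (orderOf (h : G)).Coprime (orderOf (n : G)) :=
      (hNH.symm.coprime_dvd_left (H.orderOf_dvd_natCard hh)).coprime_dvd_right
        (N.orderOf_dvd_natCard hnK)
    have e : orderOf ((h : G) * (n : G)) = orderOf (h : G) := heq _ hhN _ hnK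
    rw [hcomm.orderOf_mul_eq_mul_orderOf_of_coprime hco] at e
    have h2 : orderOf (n : G) = 1 := Nat.eq_of_mul_eq_mul_left (orderOf_pos _) (e.trans (mul_one _).symm)
    exact Subtype.ext (orderOf_eq_one_iff.1 h2)
  refine ⟨hF, ?_⟩
  have hsub : (K : Set L) ⊆ Cfsg.frobeniusKernel C := by
    intro x hx
    refine or_iff_not_imp_left.2 fun hx1 g hg => hx1 ?_
    rw [Cfsg.Agent.Coprime.mem_conj_smul_iff] at hg
    have hgK : g⁻¹ * x * g ∈ K := by
      simpa using (inferInstance : K.Normal).conj_mem x hx g⁻¹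
    have h0 := Subgroup.disjoint_def.1 hc.disjoint hgK hg
    simpa [mul_assoc, inv_mul_eq_one, eq_comm] using congrArg (fun t => g * t * g⁻¹) h0
  refine (Set.eq_of_subset_of_ncard_le hsub ?_).symm
  rw [← Nat.card_coe_set_eq, ← Nat.card_coe_set_eq, Cfsg.Agent.Frobenius.card_kernel hF,
    hc.index_eq_card]
  exact le_rfl


end Cfsg.Agent.S4108
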