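import Cfsg.Statements.S4112
import Mathlib.GroupTheory.SchurZassenhaus
import Mathlib.GroupTheory.Sylow

set_option autoImplicit false
open Cfsg

namespace Cfsg.Agent.S4112

theorem exists_center_of_normal {R : Type*} [Group R] [Finite R] {p : ℕ} [Fact p.Prime]
    (hR : IsPGroup p R) (W : Subgroup R) [W.Normal] (hW : W ≠ ⊥) :
    ∃ z ∈ W, z ∈ Subgroup.center R ∧ z ≠ 1 := by
  obtain ⟨k, hk⟩ := IsPGroup.iff_card.mp (hR.to_subgroup W)
  have hk0 : k ≠ 0 := fun h0 => hW (Subgroup.eq_bot_of_card_eq W (by rw [hk, h0, pow_zero]))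
  let act : MulAction (ConjAct R) W := inferInstance
  have hR' : IsPGroup p (ConjAct R) := hR.of_equiv ConjAct.toConjAct
  obtain ⟨z, hz, hz1⟩ := hR'.exists_fixed_point_of_prime_dvd_card_of_fixed_point W
    (hk ▸ dvd_pow_self p hk0) (a := 1) (MulAction.mem_fixedPoints.mpr fun g => smul_one g)
  refine ⟨z, z.2, Subgroup.mem_center_iff.mpr fun g => ?_, fun e => hz1 (Subtype.ext e.symm)⟩
  have h1 := congrArg Subtype.val (MulAction.mem_fixedPoints.mp hz (ConjAct.toConjAct g))
  rw [ConjAct.Subgroup.val_conj_smul, ConjAct.smul_def, ConjAct.ofConjAct_toConjAct] at h1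
  exact (mul_inv_eq_iff_eq_mul.mp h1)

theorem exists_supplement {G : Type*} [Group G] [Finite G] (N M : Subgroup G) [N.Normal] [M.Normal]
    (hMN : M ≤ N) (hco : N.index.Coprime (Nat.card M)) :
    ∃ H : Subgroup G, H ⊔ N = ⊤ ∧ H ⊓ M = ⊥ := by
  classical
  obtain ⟨n, hn, hmin⟩ : ∃ n, (∃ H : Subgroup G, H ⊔ N = ⊤ ∧ Nat.card H = n) ∧
      ∀ k < n, ¬ ∃ H : Subgroup G, H ⊔ N = ⊤ ∧ Nat.card H = k := by
    have hex : ∃ n, ∃ H : Subgroup G, H ⊔ N = ⊤ ∧ Nat.card H = n := ⟨_, ⊤, top_sup_eq _, rfl⟩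
    exact ⟨Nat.find hex, Nat.find_spec hex, fun k hk => Nat.find_min hex hk⟩
  obtain ⟨H, hH, hHn⟩ := hn
  have hminH : ∀ K : Subgroup H, K ⊔ N.subgroupOf H = ⊤ → K = ⊤ := by
    intro K hK
    refine Subgroup.eq_top_of_le_card K ?_
    by_contra hlt
    refine hmin _ (lt_of_lt_of_eq (not_le.mp hlt) hHn) ⟨K.map H.subtype, ?_,
      Subgroup.card_map_of_injective H.subtype_injective⟩
    refine top_le_iff.mp (hH.ge.trans (sup_le ?_ le_sup_right))
    conv_lhs => rw [← Subgroup.range_subtype H, MonoidHom.range_eq_map, ← hK, Subgroup.map_sup]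
    exact sup_le_sup_left (Subgroup.map_comap_le _ _) _
  refine ⟨H, hH, ?_⟩
  by_contra hne
  obtain ⟨p, hp, hpd⟩ := Nat.exists_prime_and_dvd (n := Nat.card ↥(H ⊓ M))
    (fun e => hne (Subgroup.eq_bot_of_card_eq _ e))
  haveI : Fact p.Prime := ⟨hp⟩
  have hpM : p ∣ Nat.card M := hpd.trans (Subgroup.card_dvd_of_le inf_le_right)
  have hpi : ¬ p ∣ N.index := fun h => hp.ne_one (Nat.eq_one_of_dvd_coprimes hco h hpM)
  set D := N.subgroupOf H
  have hDi : D.index = N.index := by
    rw [← Subgroup.relIndex_top_right N, ← hH, Subgroup.relIndex_sup_right]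
    rfl
  obtain ⟨P⟩ := (inferInstance : Nonempty (Sylow p D))
  set Q : Subgroup H := (P : Subgroup D).map D.subtype
  have hQn : Q.Normal := Subgroup.normalizer_eq_top_iff.mp
    (hminH _ (Sylow.normalizer_sup_eq_top P))
  have hQc : (Nat.card Q).Coprime Q.index := by
    obtain ⟨k, hk⟩ := IsPGroup.iff_card.mp P.2
    rw [Subgroup.card_map_of_injective D.subtype_injective, hk, Subgroup.index_map_subtype, hDi]
    exact (hp.coprime_iff_not_dvd.mpr (fun h => (hp.dvd_mul.mp h).elim P.not_dvd_index hpi)).pow_left k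
  obtain ⟨K, hK⟩ := Subgroup.exists_right_complement'_of_coprime hQc
  have hKtop : K = ⊤ := hminH K (top_le_iff.mp (hK.sup_eq_top.ge.trans
    (sup_le (le_sup_of_le_right (Subgroup.map_subtype_le _)) le_sup_left)))
  rw [hKtop] at hK
  have hQbot : Q = ⊥ := Subgroup.isComplement'_top_right.mp hK
  have h1 : p ∣ Nat.card D := by
    refine hpd.trans ?_
    rw [Nat.card_congr (Subgroup.subgroupOfEquivOfLe (inf_le_left : H ⊓ M ≤ H)).toEquiv.symm]
    exact Subgroup.card_dvd_of_le fun x hx => hMN (Subgroup.mem_subgroupOf.mp hx).2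
  have h2 : p ∣ Nat.card Q := by
    rw [Subgroup.card_map_of_injective D.subtype_injective]
    exact P.dvd_card_of_dvd_card h1
  rw [hQbot, Subgroup.card_bot] at h2
  exact hp.ne_one (Nat.dvd_one.mp h2)

/-- Let G be a finite group and M ≤ N non-trivial proper normal subgroups such that for every g outside N the conjugacy class of g is a union of cosets of M (equivalently gm is conjugate to g for every m ∈ M). Then (1) and (2) below are equivalent, and they imply (3): (1) every g outside N acts fixed-point-freely on M, that is C_G(x) ≤ N for every x ∈ M, x ≠ 1; (2) the index of N in G is coprime to the order of M; (3) there is a subgroup H of G with HN = G and H ∩ M = 1. -/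
theorem result {G : Type*} [Group G] [Finite G] (N M : Subgroup G) [N.Normal] [M.Normal] (hMN : M ≤ N) (hM1 : M ≠ ⊥) (hN2 : N ≠ ⊤)
    (hcam : ∀ g : G, g ∉ N → ∀ m ∈ M, ∃ x : G, x * g * x⁻¹ = g * m) :
    ((∀ x ∈ M, x ≠ 1 → Subgroup.centralizer ({x} : Set G) ≤ N) ↔ N.index.Coprime (Nat.card M)) ∧
    ((∀ x ∈ M, x ≠ 1 → Subgroup.centralizer ({x} : Set G) ≤ N) → ∃ H : Subgroup G, H ⊔ N = ⊤ ∧ H ⊓ M = ⊥) := by
  have h21 : N.index.Coprime (Nat.card M) → ∀ x ∈ M, x ≠ 1 → Subgroup.centralizer ({x} : Set G) ≤ N := by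
    intro hco x hx hx1
    suffices ∀ n, ∀ g ∈ Subgroup.centralizer ({x} : Set G), orderOf g = n → g ∈ N from
      fun g hg => this _ g hg rfl
    intro n
    induction n using Nat.strong_induction_on with
    | _ n ih =>
      intro g hg hn
      by_contra hgN
      have hg1 : g ≠ 1 := fun h => hgN (h ▸ one_mem _)
      obtain ⟨r, hr, hrg⟩ := Nat.exists_prime_and_dvd (fun e => hg1 (orderOf_eq_one_iff.mp e))
      have hsmall : ∀ s : ℕ, s.Prime → s ∣ orderOf g → g ^ s ∈ N := by
        intro s hs hsg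
        refine ih _ ?_ _ (pow_mem hg s) rfl
        rw [← hn, orderOf_pow' _ hs.ne_zero, Nat.gcd_eq_right hsg]
        exact Nat.div_lt_self (orderOf_pos g) hs.one_lt
      have hgcd : ∀ a b : ℕ, g ^ a ∈ N → g ^ b ∈ N → a.Coprime b → g ∈ N := by
        intro a b ha hb hab
        have : g ^ ((a.gcd b : ℕ) : ℤ) ∈ N := by
          rw [Nat.gcd_eq_gcd_ab, zpow_add, zpow_mul, zpow_mul, zpow_natCast, zpow_natCast]
          exact mul_mem (zpow_mem ha _) (zpow_mem hb _)
        rwa [hab.gcd_eq_one, Nat.cast_one, zpow_one] at this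
      have honly : ∀ s : ℕ, s.Prime → s ∣ orderOf g → s = r := fun s hs hsg => by
        by_contra hne
        exact hgN (hgcd s r (hsmall s hs hsg) (hsmall r hr hrg) ((Nat.coprime_primes hs hr).mpr hne))
      have hrI : r ∣ N.index := by
        by_contra hri
        exact hgN (hgcd r _ (hsmall r hr hrg) (Subgroup.pow_index_mem N g)
          (hr.coprime_iff_not_dvd.mpr hri))
      have hrM : ¬ r ∣ Nat.card M := fun h => hr.ne_one (Nat.eq_one_of_dvd_coprimes hco hrI h)
      have hox : orderOf x ∣ Nat.card M := by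
        have := orderOf_dvd_natCard (⟨x, hx⟩ : M)
        rwa [Subgroup.orderOf_mk] at this
      have hcop : (orderOf g).Coprime (orderOf x) := Nat.coprime_of_dvd fun s hs hsg hsx =>
        hrM (honly s hs hsg ▸ hsx.trans hox)
      have hmul : orderOf (g * x) = orderOf g * orderOf x :=
        Commute.orderOf_mul_eq_mul_orderOf_of_coprime (Subgroup.mem_centralizer_singleton_iff.mp hg) hcop
      obtain ⟨c, hc⟩ := hcam g hgN x hx
      have : orderOf (g * x) = orderOf g := by
        rw [← hc]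
        exact orderOf_injective (MulAut.conj c).toMonoidHom (MulAut.conj c).injective g
      rw [hmul] at this
      exact hx1 (orderOf_eq_one_iff.mp (Nat.eq_of_mul_eq_mul_left (orderOf_pos g)
        (this.trans (mul_one _).symm)))
  have h12 : (∀ x ∈ M, x ≠ 1 → Subgroup.centralizer ({x} : Set G) ≤ N) → N.index.Coprime (Nat.card M) := by
    intro h
    refine Nat.coprime_of_dvd fun p hp hpi hpM => ?_
    haveI : Fact p.Prime := ⟨hp⟩
    obtain ⟨P⟩ := (inferInstance : Nonempty (Sylow p G))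
    obtain ⟨y, hy⟩ := exists_prime_orderOf_dvd_card' (G := M) p hpM
    obtain ⟨R, hR⟩ := (IsPGroup.of_card (p := p) (n := 1) (G := Subgroup.zpowers (y : G)) (by
      rw [Nat.card_zpowers, Subgroup.orderOf_coe, hy, pow_one])).exists_le_sylow
    have hyR : (y : G) ∈ (R : Subgroup G) := hR (Subgroup.mem_zpowers _)
    have hy1 : (y : G) ≠ 1 := fun h => hp.ne_one (by rw [← hy, ← Subgroup.orderOf_coe, h, orderOf_one])
    set W := M.subgroupOf (R : Subgroup G)
    have hW : W ≠ ⊥ := fun hW => hy1 (congrArg Subtype.val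
      (Subgroup.mem_bot.mp (show (⟨y, hyR⟩ : (R : Subgroup G)) ∈ (⊥ : Subgroup (R : Subgroup G)) by
        rw [← hW]; exact Subgroup.mem_subgroupOf.mpr y.2)))
    obtain ⟨z, hz, hzc, hz1⟩ := exists_center_of_normal R.2 W hW
    have hzle : (R : Subgroup G) ≤ N := fun g hg => h (z : G) (Subgroup.mem_subgroupOf.mp hz)
      (fun e => hz1 (Subtype.ext e)) (Subgroup.mem_centralizer_singleton_iff.mpr
        (congrArg Subtype.val (Subgroup.mem_center_iff.mp hzc ⟨g, hg⟩)))
    exact R.not_dvd_index (hpi.trans (Subgroup.index_dvd_of_le hzle))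
  refine ⟨⟨h12, h21⟩, fun h => ?_⟩
  exact exists_supplement N M hMN (h12 h)

end Cfsg.Agent.S4112
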