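-- S4113
import Cfsg.Statements.S4113
import Mathlib.GroupTheory.Index

set_option autoImplicit false
set_option linter.style.haveILetI false
open Cfsg

namespace Cfsg.Agent.S4113



/-- Let G be a finite group, M ≤ N non-trivial proper normal subgroups, and H a subgroup with HM = G and H ∩ M = 1. Then every element of G outside N acts fixed-point-freely on M (C_G(x) ≤ N for every x ∈ M, x ≠ 1) if and only if H ∩ gHg⁻¹ ≤ H ∩ N for every g outside H, with H proper and non-trivial and H ∩ N proper in H. -/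
theorem result {G : Type*} [Group G] [Finite G] (N M : Subgroup G) [N.Normal] [M.Normal] (hMN : M ≤ N) (hM1 : M ≠ ⊥) (hN2 : N ≠ ⊤)
    (H : Subgroup G) (hHM : H ⊔ M = ⊤) (hHM' : H ⊓ M = ⊥) :
    (∀ x ∈ M, x ≠ 1 → Subgroup.centralizer ({x} : Set G) ≤ N) ↔
      (H ≠ ⊥ ∧ H ≠ ⊤ ∧ H ⊓ N < H ∧ ∀ g : G, g ∉ H → H ⊓ H.map (MulAut.conj g).toMonoidHom ≤ N) := by
    classical
  have hsup : ∀ g : G, ∃ h ∈ H, ∃ m ∈ M, g = h * m := fun g => by
    obtain ⟨h, hh, m, hm, he⟩ := Subgroup.mem_sup_of_normal_right.1 (hHM ▸ Subgroup.mem_top g :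
      g ∈ H ⊔ M)
    exact ⟨h, hh, m, hm, he.symm⟩
  have huniq : ∀ x : G, x ∈ H → x ∈ M → x = 1 := fun x h1 h2 => by
    have : x ∈ H ⊓ M := ⟨h1, h2⟩
    rwa [hHM', Subgroup.mem_bot] at this
  have hconj : ∀ g k : G, k ∈ H.map (MulAut.conj g).toMonoidHom ↔ g⁻¹ * k * g ∈ H := fun g k => by
    constructor
    · rintro ⟨a, ha, rfl⟩; simpa [mul_assoc] using ha
    · exact fun h => ⟨g⁻¹ * k * g, h, by simp [mul_assoc]⟩
  constructor
  · intro hfp
    refine ⟨?_, ?_, lt_of_le_of_ne inf_le_left ?_, ?_⟩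
    · rintro rfl
      exact hN2 (top_le_iff.1 (by rw [← hHM, bot_sup_eq]; exact hMN))
    · rintro rfl
      exact hM1 (by simpa using hHM')
    · intro h
      exact hN2 (top_le_iff.1 (hHM ▸ sup_le (inf_eq_left.1 h) hMN))
    · intro g hg k hk
      obtain ⟨h, hh, m, hm, rfl⟩ := hsup g
      have hkH : k ∈ H := hk.1
      have ha := (hconj _ k).1 hk.2
      set a := (h * m)⁻¹ * k * (h * m) with hadef
      have ha' : h⁻¹ * k * h ∈ H := H.mul_mem (H.mul_mem (H.inv_mem hh) hkH) hh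
      have heq : h⁻¹ * k * h = m * a * m⁻¹ := by rw [hadef]; group
      have h1 : m * a * m⁻¹ * a⁻¹ = 1 := by
        refine huniq _ (heq ▸ H.mul_mem ha' (H.inv_mem ha)) ?_
        rw [mul_assoc, mul_assoc]
        exact M.mul_mem hm (by simpa [mul_assoc] using ‹M.Normal›.conj_mem _ (M.inv_mem hm) a)
      have hm1 : m ≠ 1 := fun hm1 => hg (by rw [hm1, mul_one]; exact hh)
      have haN : a ∈ N := hfp m hm hm1 (Subgroup.mem_centralizer_singleton_iff.2
        (mul_inv_eq_iff_eq_mul.1 (mul_inv_eq_one.1 h1)).symm)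
      have : k = (h * m) * a * (h * m)⁻¹ := by rw [hadef]; group
      rw [this]
      exact ‹N.Normal›.conj_mem _ haN _
  · rintro ⟨-, -, -, htr⟩ x hxM hx1
    intro g hg
    by_contra hgN
    choose hh hhH mm hmM hdec using hsup
    let T := {y : G // y ∉ N}
    have hhN : ∀ y : T, hh y.1 ∉ N := fun y h => y.2 (by
      rw [hdec y.1]; exact N.mul_mem h (hMN (hmM y.1)))
    let φ : T → T := fun y => ⟨mm y.1 * hh y.1 * (mm y.1)⁻¹, fun h => hhN y (by
      simpa [mul_assoc] using ‹N.Normal›.conj_mem _ h (mm y.1)⁻¹)⟩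
    have hφ : Function.Injective φ := by
      intro y z hyz
      have he : mm y.1 * hh y.1 * (mm y.1)⁻¹ = mm z.1 * hh z.1 * (mm z.1)⁻¹ :=
        congrArg Subtype.val hyz
      set u := (mm z.1)⁻¹ * mm y.1 with hu
      have hue : u * hh y.1 * u⁻¹ = hh z.1 :=
        calc u * hh y.1 * u⁻¹ = (mm z.1)⁻¹ * (mm y.1 * hh y.1 * (mm y.1)⁻¹) * mm z.1 := by
              rw [hu]; group
          _ = hh z.1 := by rw [he]; group
      by_cases hu1 : u = 1
      · have hm : mm y.1 = mm z.1 := (inv_mul_eq_one.1 hu1).symm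
        rw [hu1, one_mul, inv_one, mul_one] at hue
        exact Subtype.ext (by rw [hdec y.1, hdec z.1, hm, hue])
      · have huH : u ∉ H := fun h => hu1 (huniq u h (M.mul_mem (M.inv_mem (hmM _)) (hmM _)))
        exact absurd (htr u huH ⟨hhH z.1, (hconj _ _).2 (by
          rw [← hue]; simpa [mul_assoc] using hhH y.1)⟩) (hhN z)
    obtain ⟨y, hy⟩ := (Finite.injective_iff_surjective.1 hφ) ⟨g, hgN⟩
    have he : mm y.1 * hh y.1 * (mm y.1)⁻¹ = g := congrArg Subtype.val hy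
    set m := mm y.1
    set h := hh y.1
    set x' := m⁻¹ * x * m with hx'
    have hx'M : x' ∈ M := by simpa [hx'] using ‹M.Normal›.conj_mem x hxM m⁻¹
    have hx'1 : x' ≠ 1 := fun e => hx1 (by
      calc x = m * x' * m⁻¹ := by rw [hx']; group
        _ = 1 := by rw [e]; group)
    have hx'H : x' ∉ H := fun hc => hx'1 (huniq _ hc hx'M)
    have hgx : g * x = x * g := Subgroup.mem_centralizer_singleton_iff.1 hg
    have hc : x'⁻¹ * h * x' = h := by
      calc x'⁻¹ * h * x' = m⁻¹ * (x⁻¹ * (g * x)) * m := by rw [hx', ← he]; group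
        _ = h := by rw [hgx, ← he]; group
    exact hhN y (htr x' hx'H ⟨hhH y.1, (hconj _ _).2 (by rw [hc]; exact hhH y.1)⟩)

end Cfsg.Agent.S4113
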