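-- S4116
import Cfsg.Statements.S4116
import Mathlib.GroupTheory.Sylow
import Mathlib.GroupTheory.QuotientGroup.Basic

set_option autoImplicit false
set_option linter.style.haveILetI false
open Cfsg

namespace Cfsg.Agent.S4116


open Subgroup

variable {G : Type*} [Group G] [Finite G]

theorem mem_conj_iff (H : Subgroup G) (g x : G) :
    x ∈ H.map (MulAut.conj g).toMonoidHom ↔ g⁻¹ * x * g ∈ H := by
  constructor
  · rintro ⟨a, ha, rfl⟩; simpa [mul_assoc] using ha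
  · exact fun h => ⟨g⁻¹ * x * g, h, by simp [mul_assoc]⟩

/-- An element of `N(H)` whose order involves only primes of `|H|` lies in the Hall subgroup `H`. -/
theorem mem_of_normalizer (H : Subgroup G) (hHall : (Nat.card H).Coprime H.index) {x : G}
    (hx : x ∈ normalizer (H : Set G)) (hπ : ∀ q : ℕ, q.Prime → q ∣ orderOf x → q ∣ Nat.card H) :
    x ∈ H := by
  let N := normalizer (H : Set G)
  haveI : (H.subgroupOf N).Normal := normal_in_normalizer
  have h1 : orderOf (QuotientGroup.mk' (H.subgroupOf N) ⟨x, hx⟩) ∣ orderOf x := by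
    have := orderOf_map_dvd (QuotientGroup.mk' (H.subgroupOf N)) ⟨x, hx⟩
    rwa [Subgroup.orderOf_mk] at this
  have h2 : orderOf (QuotientGroup.mk' (H.subgroupOf N) ⟨x, hx⟩) ∣ H.index :=
    (_root_.orderOf_dvd_natCard _).trans (by
      show (H.subgroupOf N).index ∣ H.index
      exact relIndex_dvd_index_of_le le_normalizer)
  have hco : (orderOf x).Coprime H.index := Nat.coprime_of_dvd fun q hq hqx hqi =>
    hq.ne_one (Nat.Coprime.eq_one_of_dvd
      ((hHall.coprime_dvd_left (hπ q hq hqx))) hqi)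
  have h3 := Nat.eq_one_of_dvd_coprimes hco h1 h2
  have h4 := orderOf_eq_one_iff.1 h3
  rw [QuotientGroup.mk'_apply, QuotientGroup.eq_one_iff] at h4
  exact h4

/-- Trace of a conjugate of a TI Hall subgroup on a subgroup `K` with primes among those of `H`. -/
theorem mem_of_meet (H : Subgroup G) (hHall : (Nat.card H).Coprime H.index)
    (hTI : Cfsg.IsTISubset (H : Set G)) {g k y : G} (hy1 : y ≠ 1) (hy : g⁻¹ * y * g ∈ H)
    (hky : g⁻¹ * (k * y * k⁻¹) * g ∈ H)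
    (hπ : ∀ q : ℕ, q.Prime → q ∣ orderOf k → q ∣ Nat.card H) : g⁻¹ * k * g ∈ H := by
  refine mem_of_normalizer H hHall ?_ fun q hq hd => hπ q hq ?_
  · by_contra hn
    have h := hTI _ hn _ hy (by
      show g⁻¹ * k * g * (g⁻¹ * y * g) * (g⁻¹ * k * g)⁻¹ ∈ H
      rw [show g⁻¹ * k * g * (g⁻¹ * y * g) * (g⁻¹ * k * g)⁻¹ = g⁻¹ * (k * y * k⁻¹) * g by group]
      exact hky)
    exact hy1 (by simpa [mul_assoc, inv_mul_eq_one] using h)
  · rwa [show g⁻¹ * k * g = (MulAut.conj g⁻¹).toMonoidHom k by simp,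
      orderOf_injective _ (MulAut.conj g⁻¹).injective] at hd

/-- Conjugates of `H` meeting nontrivially coincide. -/
theorem conj_eq_of_meet (H : Subgroup G) (hTI : Cfsg.IsTISubset (H : Set G)) {a b y : G}
    (hy1 : y ≠ 1) (ha : a⁻¹ * y * a ∈ H) (hb : b⁻¹ * y * b ∈ H) :
    ∀ x, a⁻¹ * x * a ∈ H ↔ b⁻¹ * x * b ∈ H := by
  have hn : b⁻¹ * a ∈ normalizer (H : Set G) := by
    by_contra hn
    have h := hTI _ hn _ ha (by
      show b⁻¹ * a * (a⁻¹ * y * a) * (b⁻¹ * a)⁻¹ ∈ H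
      rw [show b⁻¹ * a * (a⁻¹ * y * a) * (b⁻¹ * a)⁻¹ = b⁻¹ * y * b by group]
      exact hb)
    exact hy1 (by simpa [mul_assoc, inv_mul_eq_one] using h)
  intro x
  have h := Subgroup.mem_normalizer_iff.1 hn (a⁻¹ * x * a)
  rwa [show b⁻¹ * a * (a⁻¹ * x * a) * (b⁻¹ * a)⁻¹ = b⁻¹ * x * b by group] at h

theorem exists_conj_of_isPGroup (H : Subgroup G) (hHall : (Nat.card H).Coprime H.index)
    {q : ℕ} [hq : Fact q.Prime] {R : Subgroup G} (hR : IsPGroup q R) (hqH : q ∣ Nat.card H) :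
    ∃ g : G, ∀ r ∈ R, g⁻¹ * r * g ∈ H := by
  obtain ⟨S, hS⟩ := hR.exists_le_sylow
  obtain ⟨T⟩ : Nonempty (Sylow q H) := inferInstance
  let T' : Sylow q G := Sylow.ofCard (T.1.map H.subtype) (by
    rw [card_map_of_injective H.subtype_injective, T.card_eq_multiplicity, ← H.card_mul_index,
      Nat.factorization_mul Nat.card_pos.ne' H.index_ne_zero_of_finite, Finsupp.add_apply,
      Nat.factorization_eq_zero_of_not_dvd (n := H.index) (fun h =>
        hq.out.ne_one (Nat.Coprime.eq_one_of_dvd (hHall.coprime_dvd_left hqH) h)), add_zero])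
  obtain ⟨g, hg⟩ := MulAction.exists_smul_eq G T' S
  refine ⟨g, fun r hr => ?_⟩
  have h := hS hr
  rw [← hg, Sylow.coe_subgroup_smul, mem_pointwise_smul_iff_inv_smul_mem] at h
  obtain ⟨t, -, ht⟩ := h
  have : (t : G) = g⁻¹ * r * g := ht.trans (by simp [← map_inv])
  exact this ▸ t.2

/-- Counting: two self-normalising TI subgroups with no conjugates meeting overfill the group. -/
theorem false_of_two {K : Type*} [Group K] [Finite K] (L₁ L₂ : Subgroup K) (h1 : L₁ ≠ ⊥) (h2 : L₂ ≠ ⊥)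
    (d1 : ∀ k y : K, y ≠ 1 → y ∈ L₁ → k * y * k⁻¹ ∈ L₁ → k ∈ L₁)
    (d2 : ∀ k y : K, y ≠ 1 → y ∈ L₂ → k * y * k⁻¹ ∈ L₂ → k ∈ L₂)
    (d12 : ∀ k y : K, y ≠ 1 → y ∈ L₁ → k * y * k⁻¹ ∉ L₂) : False := by
  classical
  let T := ((K ⧸ L₁) × {l : L₁ // l ≠ 1}) ⊕ ((K ⧸ L₂) × {l : L₂ // l ≠ 1})
  let φ : T → {y : K // y ≠ 1} := Sum.elim
    (fun p => ⟨p.1.out * (p.2.1 : K) * p.1.out⁻¹, fun h => p.2.2 (Subtype.ext (by simpa using h))⟩)
    (fun p => ⟨p.1.out * (p.2.1 : K) * p.1.out⁻¹, fun h => p.2.2 (Subtype.ext (by simpa using h))⟩)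
  have inj : ∀ (L : Subgroup K), (∀ k y : K, y ≠ 1 → y ∈ L → k * y * k⁻¹ ∈ L → k ∈ L) →
      ∀ (c c' : K ⧸ L) (l l' : {l : L // l ≠ 1}),
        c.out * (l.1 : K) * c.out⁻¹ = c'.out * (l'.1 : K) * c'.out⁻¹ → (c, l) = (c', l') := by
    intro L d c c' l l' h
    have hm : c'.out⁻¹ * c.out ∈ L := d _ (l.1 : K) (fun e => l.2 (Subtype.ext e)) l.1.2 (by
      rw [show c'.out⁻¹ * c.out * (l.1 : K) * (c'.out⁻¹ * c.out)⁻¹
        = c'.out⁻¹ * (c.out * (l.1 : K) * c.out⁻¹) * c'.out by group, h]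
      simp [mul_assoc])
    have hc : c = c' := by
      rw [← QuotientGroup.out_eq' c, ← QuotientGroup.out_eq' c']
      exact (QuotientGroup.eq.2 hm).symm
    subst hc
    exact Prod.ext rfl (Subtype.ext (Subtype.ext (by simpa using h)))
  have x12 : ∀ (c : K ⧸ L₁) (l : {l : L₁ // l ≠ 1}) (c' : K ⧸ L₂) (l' : {l : L₂ // l ≠ 1}),
      c.out * (l.1 : K) * c.out⁻¹ ≠ c'.out * (l'.1 : K) * c'.out⁻¹ := by
    intro c l c' l' h
    refine d12 (c'.out⁻¹ * c.out) (l.1 : K) (fun e => l.2 (Subtype.ext e)) l.1.2 ?_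
    rw [show c'.out⁻¹ * c.out * (l.1 : K) * (c'.out⁻¹ * c.out)⁻¹
      = c'.out⁻¹ * (c.out * (l.1 : K) * c.out⁻¹) * c'.out by group, h]
    simp [mul_assoc]
  have hφ : Function.Injective φ := by
    rintro (⟨c, l⟩ | ⟨c, l⟩) (⟨c', l'⟩ | ⟨c', l'⟩) h
    · exact congrArg Sum.inl (inj L₁ d1 _ _ _ _ (congrArg Subtype.val h))
    · exact absurd (congrArg Subtype.val h) (x12 c l c' l')
    · exact absurd (congrArg Subtype.val h).symm (x12 c' l' c l)
    · exact congrArg Sum.inr (inj L₂ d2 _ _ _ _ (congrArg Subtype.val h))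
  have hle := Nat.card_le_card_of_injective φ hφ
  have hne : ∀ (α : Type _) [Group α] [Finite α], Nat.card {a : α // a ≠ 1} = Nat.card α - 1 := by
    intro α _ _
    haveI := Fintype.ofFinite α
    rw [Nat.card_eq_fintype_card, Fintype.card_subtype_compl, Fintype.card_subtype_eq,
      Nat.card_eq_fintype_card]
  rw [Nat.card_sum, Nat.card_prod, Nat.card_prod, hne, hne, hne] at hle
  have e1 := L₁.card_mul_index
  have e2 := L₂.card_mul_index
  simp only [Subgroup.index] at e1 e2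
  have a1 : 2 ≤ Nat.card L₁ := by
    have := Nat.card_pos (α := L₁)
    have h : Nat.card L₁ ≠ 1 := fun e => h1 (Subgroup.card_eq_one.1 e)
    omega
  have a2 : 2 ≤ Nat.card L₂ := by
    have := Nat.card_pos (α := L₂)
    have h : Nat.card L₂ ≠ 1 := fun e => h2 (Subgroup.card_eq_one.1 e)
    omega
  have hK := Nat.card_pos (α := K)
  rw [Nat.mul_sub_one, Nat.mul_sub_one, mul_comm (Nat.card (K ⧸ L₁)), mul_comm (Nat.card (K ⧸ L₂)),
    e1, e2] at hle
  have b1 : 2 * Nat.card (K ⧸ L₁) ≤ Nat.card K := e1 ▸ Nat.mul_le_mul_right _ a1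
  have b2 : 2 * Nat.card (K ⧸ L₂) ≤ Nat.card K := e2 ▸ Nat.mul_le_mul_right _ a2
  omega

/-- Let G be a finite group with a subgroup H whose order is coprime to its index (a Hall subgroup) and which meets each of its conjugates by elements outside N_G(H) trivially. Then every subgroup of G whose order is divisible only by primes dividing the order of H lies in a conjugate of H. -/
theorem result {G : Type*} [Group G] [Finite G] (H : Subgroup G)
    (hHall : (Nat.card H).Coprime H.index) (hTI : Cfsg.IsTISubset (H : Set G))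
    (K : Subgroup G) (hK : ∀ q : ℕ, q.Prime → q ∣ Nat.card K → q ∣ Nat.card H) :
    ∃ g : G, K ≤ H.map (MulAut.conj g).toMonoidHom := by
  classical
  by_contra hcon
  push Not at hcon
  have hπ : ∀ k ∈ K, ∀ q : ℕ, q.Prime → q ∣ orderOf k → q ∣ Nat.card H := fun k hk q hq hd =>
    hK q hq (hd.trans (Subgroup.orderOf_mk (H := K) k hk ▸ orderOf_dvd_natCard _))
  let L : G → Subgroup ↥K := fun g => (H.map (MulAut.conj g).toMonoidHom).comap K.subtype
  have hL : ∀ (g : G) (k : ↥K), k ∈ L g ↔ g⁻¹ * (k : G) * g ∈ H := fun g k => mem_conj_iff H g k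
  have hLd : ∀ (g : G) (k y : ↥K), y ≠ 1 → y ∈ L g → k * y * k⁻¹ ∈ L g → k ∈ L g := by
    intro g k y hy1 hy hky
    rw [hL] at hy hky ⊢
    exact mem_of_meet H hHall hTI (fun e => hy1 (Subtype.ext e)) hy (by simpa using hky)
      (hπ _ k.2)
  have hsyl : ∀ q : ℕ, q.Prime → q ∣ Nat.card ↥K → ∃ (R : Sylow q ↥K) (g : G), (R : Subgroup ↥K) ≤ L g := by
    intro q hq hd
    haveI := Fact.mk hq
    let R : Sylow q ↥K := default
    obtain ⟨g, hg⟩ := exists_conj_of_isPGroup H hHall (R.isPGroup'.map K.subtype) (hK q hq hd)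
    exact ⟨R, g, fun r hr => (hL g r).2 (hg _ ⟨r, hr, rfl⟩)⟩
  have hne : Nat.card ↥K ≠ 1 := fun h => hcon 1 (by
    rw [Subgroup.eq_bot_of_card_eq K h]; exact bot_le)
  obtain ⟨q, hq, hqd⟩ := Nat.exists_prime_and_dvd hne
  obtain ⟨R₁, g, hR₁⟩ := hsyl q hq hqd
  haveI := Fact.mk hq
  have hbot : ∀ {r : ℕ} [Fact r.Prime] (R : Sylow r ↥K) (g : G), r ∣ Nat.card ↥K →
      (R : Subgroup ↥K) ≤ L g → L g ≠ ⊥ := fun R g hd hR h =>
    R.ne_bot_of_dvd_card hd (le_bot_iff.1 (h ▸ hR))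
  have htop : ∀ a : G, L a ≠ ⊤ := fun a h => hcon a fun x hx => by
    have : (⟨x, hx⟩ : ↥K) ∈ L a := h ▸ Subgroup.mem_top _
    exact this
  by_cases hall : ∀ r : ℕ, r.Prime → r ∣ Nat.card ↥K → ∃ R : Sylow r ↥K, (R : Subgroup ↥K) ≤ L g
  · refine htop g (Subgroup.eq_top_of_card_eq _ (Nat.dvd_antisymm (L g).card_subgroup_dvd_card
      ((Nat.dvd_iff_prime_pow_dvd_dvd (Nat.card ↥(L g)) (Nat.card ↥K)).mpr fun r i hr hi => ?_)))
    rcases Nat.eq_zero_or_pos i with rfl | hi0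
    · simp
    haveI := Fact.mk hr
    obtain ⟨R, hR⟩ := hall r hr ((dvd_pow_self r hi0.ne').trans hi)
    refine dvd_trans ?_ (Subgroup.card_dvd_of_le hR)
    rw [R.card_eq_multiplicity]
    exact Nat.pow_dvd_pow r ((hr.pow_dvd_iff_le_factorization Nat.card_pos.ne').mp hi)
  push Not at hall
  obtain ⟨r, hr, hrd, hR⟩ := hall
  haveI := Fact.mk hr
  obtain ⟨R₂, b, hR₂⟩ := hsyl r hr hrd
  refine false_of_two (L g) (L b) (hbot R₁ g hqd hR₁) (hbot R₂ b hrd hR₂) (hLd g) (hLd b) ?_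
  intro k y hy1 hy hky
  rw [hL] at hy hky
  have heq : ∀ x : G, g⁻¹ * x * g ∈ H ↔ ((k : G)⁻¹ * b)⁻¹ * x * ((k : G)⁻¹ * b) ∈ H := by
    refine conj_eq_of_meet H hTI (fun e => hy1 (Subtype.ext e)) hy ?_
    simpa [mul_assoc] using hky
  refine hR (k⁻¹ • R₂) fun x hx => ?_
  rw [Sylow.coe_subgroup_smul, Subgroup.mem_pointwise_smul_iff_inv_smul_mem, ← map_inv, inv_inv] at hx
  have := (hL b _).1 (hR₂ hx)
  rw [hL, heq]
  simpa [mul_assoc] using this

end Cfsg.Agent.S4116
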