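import Cfsg.Statements.S4115
import Cfsg.Agent.Lib.Coprime.TIHall
import Cfsg.Agent.Lib.Coprime.Quotient
import Cfsg.Agent.Lib.Coprime.Commutator
import Cfsg.Agent.Lib.Coprime.Sylow
import Cfsg.Agent.S0877
import Cfsg.Agent.S4116
import Cfsg.Agent.S0039

set_option autoImplicit false
open Cfsg Subgroup
open scoped Pointwise

namespace Cfsg.Agent.S4115

universe u

theorem exists_forward {G : Type u} [Group G] [Finite G] (H : Subgroup G)
    (hTI : Cfsg.IsTISubset (H : Set G))
    (hHall : (Nat.card H).Coprime (H.subgroupOf (normalizer (H : Set G))).index)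
    (K : Subgroup (normalizer (H : Set G))) (hKn : K.Normal)
    (hKc : K.IsComplement' (H.subgroupOf (normalizer (H : Set G)))) :
    ∃ N : Subgroup G, N.Normal ∧ N.IsComplement' H := by
  have hH := TIHall.coprime_index hTI hHall
  have hfus : ∀ x ∈ H, ∀ y ∈ H, IsConj x y → ∃ h ∈ H, h * x * h⁻¹ = y := by
    intro x hx y hy hxy
    obtain ⟨g, rfl⟩ := isConj_iff.1 hxy
    rcases eq_or_ne x 1 with rfl | hx1
    · exact ⟨1, one_mem H, by simp⟩
    have hg : g ∈ normalizer (H : Set G) := by
      by_contra hg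
      exact hx1 (hTI g hg x hx hy)
    obtain ⟨⟨k, h⟩, hkh⟩ := hKc.2 ⟨g, hg⟩
    have hkh' : ((k : normalizer (H : Set G)) : G) * ((h : normalizer (H : Set G)) : G) = g :=
      congrArg Subtype.val hkh
    have hhH : ((h : normalizer (H : Set G)) : G) ∈ H := h.2
    refine ⟨_, hhH, ?_⟩
    set hg' := ((h : normalizer (H : Set G)) : G)
    set kg := ((k : normalizer (H : Set G)) : G)
    set x' : normalizer (H : Set G) := ⟨hg' * x * hg'⁻¹,
      le_normalizer (mul_mem (mul_mem hhH hx) (inv_mem hhH))⟩
    have hx'H : x' ∈ H.subgroupOf (normalizer (H : Set G)) :=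
      (mul_mem (mul_mem hhH hx) (inv_mem hhH) : hg' * x * hg'⁻¹ ∈ H)
    have h1 : (k : normalizer (H : Set G)) * x' * (k : normalizer (H : Set G))⁻¹ * x'⁻¹ ∈
        K ⊓ H.subgroupOf (normalizer (H : Set G)) := by
      refine mem_inf.2 ⟨?_, ?_⟩
      · have := K.mul_mem k.2 (hKn.conj_mem _ (K.inv_mem k.2) x')
        simpa [mul_assoc] using this
      · refine mul_mem ?_ (inv_mem hx'H)
        show kg * (hg' * x * hg'⁻¹) * kg⁻¹ ∈ H
        have e : kg * (hg' * x * hg'⁻¹) * kg⁻¹ = g * x * g⁻¹ := by rw [← hkh']; group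
        exact e ▸ hy
    rw [hKc.disjoint.eq_bot, mem_bot, mul_inv_eq_one] at h1
    have h2 : kg * (hg' * x * hg'⁻¹) * kg⁻¹ = hg' * x * hg'⁻¹ := congrArg Subtype.val h1
    rw [← h2, ← hkh']
    group
  obtain ⟨N, hNn, hsup, hinf⟩ := S0877.result H hH hfus fun E p _ _ hE => by
    obtain ⟨g, hg⟩ := S4116.result H hH hTI E fun q _ hq => hq.trans hE
    refine ⟨g⁻¹, ?_⟩
    rintro _ ⟨x, hx, rfl⟩
    obtain ⟨y, hy, hyx⟩ := hg hx
    have : g * y * g⁻¹ = x := hyx
    show g⁻¹ * x * g⁻¹⁻¹ ∈ H
    rw [← this]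
    have e : g⁻¹ * (g * y * g⁻¹) * g⁻¹⁻¹ = y := by group
    rwa [e]
  exact ⟨N, hNn, isComplement'_of_disjoint_and_mul_eq_univ (disjoint_iff.2 hinf)
    (by rw [← normal_mul N H, hsup]; rfl)⟩

/-- A fixed-point-free section gives a Frobenius group. -/
theorem exists_frobenius {S : Type u} [Group S] [Finite S] (R H : Subgroup S) [R.Normal]
    [Group.IsNilpotent R] (hR : R ≠ ⊥) (hH : H ≠ ⊥) (hcop : (Nat.card H).Coprime (Nat.card R))
    (hsup : R ⊔ H = ⊤) (hcomm : ⁅R, H⁆ = R)
    (hfix : ∀ h ∈ H, h ≠ 1 → R ⊓ centralizer ({h} : Set S) ≤ centralizer (H : Set S)) :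
    ∃ (F : Type u) (_ : Group F) (_ : Finite F) (C : Subgroup F),
      Cfsg.IsFrobeniusComplement C ∧ Nonempty (H ≃* C) := by
  set W : Subgroup S := ⁅R, R⁆ with hW
  have hWn : W.Normal := inferInstance
  have hWR : W ≤ R := commutator_le_self R
  set f := QuotientGroup.mk' W with hf
  have hsolv : Group.IsSolvable R := inferInstance
  have hWlt : W < R := by
    refine lt_of_le_of_ne hWR fun h => ?_
    have : Nontrivial R := (nontrivial_iff_ne_bot R).2 hR
    have h1 := Group.IsSolvable.commutator_lt_top_of_nontrivial (G := R)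
    refine h1.ne (map_injective R.subtype_injective ?_)
    rw [← MonoidHom.range_eq_map, range_subtype, commutator_def, map_commutator,
      ← MonoidHom.range_eq_map, range_subtype]
    exact h
  have hinj : Function.Injective (f.comp H.subtype) := by
    rw [← MonoidHom.ker_eq_bot_iff, eq_bot_iff]
    intro h hh
    have h1 : (h : S) ∈ W := (QuotientGroup.eq_one_iff (N := W) (h : S)).1 hh
    have h2 : (h : S) ∈ R ⊓ H := ⟨hWR h1, h.2⟩
    rw [Coprime.disjoint_of_coprime_card hcop.symm, mem_bot] at h2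
    exact mem_bot.2 (Subtype.ext h2)
  set V := R.map f with hV
  set C := H.map f with hC
  have eC : H ≃* C := MulEquiv.ofBijective (f.subgroupMap H)
    ⟨fun a b hab => hinj (congrArg Subtype.val hab), f.subgroupMap_surjective H⟩
  have hcopVC : (Nat.card C).Coprime (Nat.card V) :=
    (hcop.coprime_dvd_left (card_map_dvd H f)).coprime_dvd_right (card_map_dvd R f)
  have hsupF : V ⊔ C = ⊤ := by
    rw [hV, hC, ← Subgroup.map_sup, hsup, map_top_of_surjective _ (QuotientGroup.mk'_surjective W)]
  have hVn : V.Normal := Subgroup.Normal.map inferInstance _ (QuotientGroup.mk'_surjective W)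
  have hcompl : IsComplement' V C := isComplement'_of_disjoint_and_mul_eq_univ
    (disjoint_iff.2 (Coprime.disjoint_of_coprime_card hcopVC.symm))
    (by rw [← normal_mul V C, hsupF]; rfl)
  have hVne : V ≠ ⊥ := by
    rw [hV, Ne, Subgroup.map_eq_bot_iff, hf, QuotientGroup.ker_mk']
    exact fun h => hWlt.not_ge h
  have : IsMulCommutative V := by
    refine ⟨⟨fun a b => Subtype.ext ?_⟩⟩
    obtain ⟨_, x, hx, rfl⟩ := a
    obtain ⟨_, y, hy, rfl⟩ := b
    show f x * f y = f y * f x
    rw [← map_mul, ← map_mul]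
    refine (QuotientGroup.eq (s := W)).2 ?_
    have := commutator_mem_commutator (R.inv_mem hy) (R.inv_mem hx)
    rw [commutatorElement_def] at this
    simpa [mul_assoc] using this
  have hVC : ⁅V, C⁆ = V := by rw [hV, hC, ← map_commutator, hcomm]
  have hnormC : C ≤ normalizer (V : Set (S ⧸ W)) := by
    rw [normalizer_eq_top]; exact le_top
  have h0 := Coprime.inf_centralizer_inf_commutator_eq_bot hnormC hcopVC
  rw [hVC, inf_eq_left.2 (inf_le_left : V ⊓ centralizer (C : Set (S ⧸ W)) ≤ V)] at h0
  refine ⟨S ⧸ W, inferInstance, inferInstance, C, (S0039.result V C hcompl hVne ?_).2 ?_, ⟨eC⟩⟩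
  · rw [hC, Ne]
    intro h
    refine hH ((eq_bot_iff_forall H).2 fun x hx => ?_)
    have : f x = 1 := by
      rw [← mem_bot, ← h]; exact mem_map_of_mem f hx
    exact congrArg Subtype.val (hinj (a₁ := ⟨x, hx⟩) (a₂ := 1) (by simpa using this))
  · rintro _ ⟨h, hh, rfl⟩ hne
    have hh1 : h ≠ 1 := fun e => hne (by rw [e, map_one])
    rw [eq_bot_iff, ← h0]
    intro v hv
    refine mem_inf.2 ⟨hv.1, ?_⟩
    have h1 := Coprime.map_inf_centralizer f (A := zpowers h) (K := R)
      (by rw [normalizer_eq_top]; exact le_top)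
      (hcop.coprime_dvd_left (card_dvd_of_le (zpowers_le.2 hh)))
      (Or.inl inferInstance)
    have h2 : v ∈ R.map f ⊓ centralizer ((((zpowers h).map f) : Subgroup (S ⧸ W)) : Set (S ⧸ W)) := by
      refine mem_inf.2 ⟨hv.1, ?_⟩
      rw [MonoidHom.map_zpowers]
      rw [mem_centralizer_iff]
      rintro _ ⟨k, rfl⟩
      exact (Commute.zpow_left (show Commute (f h) v from
        (mem_centralizer_singleton_iff.1 hv.2).symm) k).eq
    rw [← h1] at h2
    obtain ⟨r, hr, rfl⟩ := h2
    have hr' : r ∈ centralizer (H : Set S) := hfix h hh hh1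
      ⟨hr.1, mem_centralizer_singleton_iff.2 ((mem_centralizer_iff.1 hr.2 h (mem_zpowers h)).symm)⟩
    rw [mem_centralizer_iff]
    rintro _ ⟨a, ha, rfl⟩
    rw [← map_mul, ← map_mul, mem_centralizer_iff.1 hr' a ha]

theorem exists_second {G : Type u} [Group G] [Finite G] (H M : Subgroup G) [M.Normal]
    (hTI : Cfsg.IsTISubset (H : Set G)) (hH : (Nat.card H).Coprime H.index)
    (hc : M.IsComplement' H) (hnn : ¬ H.Normal) :
    ∃ (F : Type u) (_ : Group F) (_ : Finite F) (C : Subgroup F),
      Cfsg.IsFrobeniusComplement C ∧ Nonempty (H ≃* C) := by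
  have hHne : H ≠ ⊥ := TIHall.ne_bot hnn
  have hMidx : M.index = Nat.card H := hc.symm.index_eq_card
  have hcop : (Nat.card M).Coprime (Nat.card H) := hc.index_eq_card ▸ hH.symm
  have hcM : M ⊓ normalizer (H : Set G) ≤ centralizer (H : Set G) :=
    TIHall.inf_normalizer_le_centralizer hcop
  -- every Sylow subgroup of `M` has a conjugate normalised by `H`
  have hinv : ∀ (q : ℕ) (_ : Fact q.Prime), ∃ P : Sylow q M,
      H ≤ normalizer (((P : Subgroup M).map M.subtype : Subgroup G) : Set G) := by
    intro q _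
    obtain ⟨P⟩ : Nonempty (Sylow q M) := inferInstance
    have hfr := Sylow.normalizer_sup_eq_top P
    set P' := (P : Subgroup M).map M.subtype with hP'
    set T := normalizer (P' : Set G) with hT
    have hT' : (M.subgroupOf T).index = Nat.card H := by
      have h0 : T ≤ normalizer (M : Set G) := by rw [normalizer_eq_top]; exact le_top
      show M.relIndex T = _
      rw [← relIndex_sup_left, sup_comm, hfr, relIndex_top_right, hMidx]
    obtain ⟨B, hB⟩ := exists_left_complement'_of_coprime (N := M.subgroupOf T) (by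
      rw [hT']
      exact hcop.coprime_dvd_left (by
        rw [← card_map_of_injective T.subtype_injective]
        exact card_dvd_of_le (by rw [subgroupOf_map_subtype]; exact inf_le_left)))
    have hBc : Nat.card (B.map T.subtype) = Nat.card H := by
      rw [card_map_of_injective T.subtype_injective, ← hB.index_eq_card, hT']
    obtain ⟨g, hg⟩ := S4116.result H hH hTI (B.map T.subtype) fun r _ hr => hBc ▸ hr
    have heq := eq_of_le_of_card_ge hg (by
      rw [card_map_of_injective (MulAut.conj g).injective, hBc])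
    obtain ⟨⟨m, hm⟩, hmh⟩ := hc.2 g
    have hmh' : (m : G) * (hm : G) = g := hmh
    refine ⟨m⁻¹ • P, fun x hx => ?_⟩
    rw [Sylow.coe_subgroup_smul, Coprime.map_conj_smul, M.coe_subtype, ← hP']
    refine Coprime.mem_normalizer_of_conj_smul_eq ?_
    have hy : (hm : G)⁻¹ * x * hm ∈ H := mul_mem (mul_mem (inv_mem hm.2) hx) hm.2
    have hgy : g * ((hm : G)⁻¹ * x * hm) * g⁻¹ ∈ T :=
      map_subtype_le B (heq ▸ ⟨_, hy, rfl⟩)
    have h2 := Coprime.conj_smul_eq_self_of_mem (H := P') hgy
    rw [Subgroup.coe_inv, Coprime.conj_smul_smul,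
      show x * (m : G)⁻¹ = (m : G)⁻¹ * (g * ((hm : G)⁻¹ * x * hm) * g⁻¹) by rw [← hmh']; group,
      ← Coprime.conj_smul_smul, h2]
  -- one of them is not centralised
  obtain ⟨q, hqf, P, hP, hnc⟩ : ∃ (q : ℕ) (_ : Fact q.Prime) (P : Sylow q M),
      H ≤ normalizer (((P : Subgroup M).map M.subtype : Subgroup G) : Set G) ∧
      ¬ H ≤ centralizer (((P : Subgroup M).map M.subtype : Subgroup G) : Set G) := by
    by_contra hno
    push Not at hno
    refine hnn (normalizer_eq_top_iff.1 (top_unique ?_))
    have hMC : M ≤ centralizer (H : Set G) := by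
      rw [← inf_eq_left]
      refine eq_of_le_of_card_ge inf_le_left (Nat.le_of_dvd Nat.card_pos ?_)
      refine (Nat.dvd_iff_prime_pow_dvd_dvd _ _).2 fun q k hq hd => ?_
      have := Fact.mk hq
      obtain ⟨P, hP⟩ := hinv q this
      have h1 := card_dvd_of_le (le_inf (map_subtype_le (P : Subgroup M))
        (le_centralizer_iff.1 (hno q this P hP)))
      rw [card_map_of_injective M.subtype_injective] at h1
      exact (P.pow_dvd_card_of_pow_dvd_card hd).trans h1
    rw [← hc.sup_eq_top]
    exact sup_le (hMC.trans (centralizer_le_normalizer _)) le_normalizer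
  set P' := (P : Subgroup M).map M.subtype with hP'
  have hP'M : P' ≤ M := map_subtype_le _
  have hP'p : IsPGroup q P' := P.2.map _
  have hP'cop : (Nat.card H).Coprime (Nat.card P') :=
    hcop.symm.coprime_dvd_right (card_dvd_of_le hP'M)
  have := hP'p.isNilpotent
  have hsol : Group.IsSolvable H ∨ Group.IsSolvable P' := Or.inr inferInstance
  set R := ⁅P', H⁆ with hR
  have hRP : R ≤ P' := Coprime.commutator_le_left_of_le_normalizer hP
  have hRH : H ≤ normalizer (R : Set G) := normalizer_commutator_ge_right P' H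
  have hRR : ⁅R, H⁆ = R := Coprime.commutator_commutator_eq hP hP'cop hsol
  have hRne : R ≠ ⊥ := fun h => hnc (Coprime.le_centralizer_iff_commutator_eq_bot.2 h)
  set S := R ⊔ H with hS
  have : (R.subgroupOf S).Normal := Coprime.normal_subgroupOf_of_le_normalizer (H := R) (P := S)
    (sup_le le_normalizer hRH)
  have : Group.IsNilpotent (R.subgroupOf S) := by
    have := (hP'p.to_le hRP).isNilpotent
    exact Group.nilpotent_of_mulEquiv (subgroupOfEquivOfLe (le_sup_left : R ≤ S)).symm
  obtain ⟨F, i1, i2, C, hC, ⟨e⟩⟩ := exists_frobenius (R.subgroupOf S) (H.subgroupOf S)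
    (fun h => hRne (by
      rw [← map_subgroupOf_eq_of_le (le_sup_left : R ≤ S), h, Subgroup.map_bot]))
    (fun h => hHne (by
      rw [← map_subgroupOf_eq_of_le (le_sup_right : H ≤ S), h, Subgroup.map_bot]))
    (by rw [Coprime.card_subgroupOf le_sup_left, Coprime.card_subgroupOf le_sup_right]
        exact hP'cop.coprime_dvd_right (card_dvd_of_le hRP))
    (map_injective S.subtype_injective (by
      rw [Subgroup.map_sup, map_subgroupOf_eq_of_le le_sup_left, map_subgroupOf_eq_of_le le_sup_right,
        ← MonoidHom.range_eq_map, range_subtype]))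
    (map_injective S.subtype_injective (by
      rw [map_commutator, map_subgroupOf_eq_of_le le_sup_left, map_subgroupOf_eq_of_le le_sup_right,
        hRR]))
    (fun h hh hh1 r hr => by
      have h1 : (r : G) ∈ M ⊓ normalizer (H : Set G) := mem_inf.2 ⟨hP'M (hRP hr.1),
        TIHall.mem_normalizer_of_commute hTI (hh : (h : G) ∈ H) (fun e => hh1 (Subtype.ext e))
          (congrArg Subtype.val (mem_centralizer_singleton_iff.1 hr.2))⟩
      refine mem_centralizer_iff.2 fun a ha => Subtype.ext ?_
      exact mem_centralizer_iff.1 (hcM h1) a ha)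
  exact ⟨F, i1, i2, C, hC, ⟨(subgroupOfEquivOfLe (le_sup_right : H ≤ S)).symm.trans e⟩⟩

/-- Let G be a finite group and H a subgroup that meets each of its conjugates by elements outside N_G(H) trivially and whose order is coprime to its index in N_G(H). Then H has a normal complement in N_G(H) if and only if H has a normal complement in G. Moreover, if H is not normal in G and has a normal complement in N_G(H), then H is isomorphic to a Frobenius complement of some finite Frobenius group. -/
theorem result {G : Type u} [Group G] [Finite G] (H : Subgroup G)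
    (hTI : Cfsg.IsTISubset (H : Set G)) (hHall : (Nat.card H).Coprime (H.subgroupOf (Subgroup.normalizer (H : Set G))).index) :
    ((∃ K : Subgroup (Subgroup.normalizer (H : Set G)), K.Normal ∧ K.IsComplement' (H.subgroupOf (Subgroup.normalizer (H : Set G)))) ↔
      (∃ N : Subgroup G, N.Normal ∧ N.IsComplement' H)) ∧
    (¬ H.Normal → (∃ K : Subgroup (Subgroup.normalizer (H : Set G)), K.Normal ∧ K.IsComplement' (H.subgroupOf (Subgroup.normalizer (H : Set G)))) →
      ∃ (F : Type u) (_ : Group F) (_ : Finite F) (C : Subgroup F), Cfsg.IsFrobeniusComplement C ∧ Nonempty (H ≃* C)) := by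
  refine ⟨⟨fun ⟨K, h1, h2⟩ => exists_forward H hTI hHall K h1 h2, ?_⟩, ?_⟩
  · rintro ⟨N, hN, hc⟩
    refine ⟨N.subgroupOf _, inferInstance, isComplement'_of_disjoint_and_mul_eq_univ ?_ ?_⟩
    · rw [disjoint_iff, eq_bot_iff]
      intro x hx
      have : (x : G) ∈ N ⊓ H := ⟨hx.1, hx.2⟩
      rw [hc.disjoint.eq_bot, mem_bot] at this
      exact mem_bot.2 (Subtype.ext this)
    · refine Set.eq_univ_of_forall fun g => ?_
      obtain ⟨⟨n, h⟩, hnh⟩ := hc.2 (g : G)
      have hnh' : (n : G) * (h : G) = g := hnh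
      have hn : (n : G) ∈ normalizer (H : Set G) := by
        rw [eq_mul_inv_of_mul_eq hnh']
        exact mul_mem g.2 (inv_mem (le_normalizer h.2))
      exact ⟨⟨n, hn⟩, n.2, ⟨h, le_normalizer h.2⟩, h.2, Subtype.ext hnh'⟩
  · rintro hnn ⟨K, h1, h2⟩
    obtain ⟨M, hM, hc⟩ := exists_forward H hTI hHall K h1 h2
    exact exists_second H M hTI (TIHall.coprime_index hTI hHall) hc hnn

end Cfsg.Agent.S4115
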