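import Cfsg.Statements.S4117
import Cfsg.Agent.Lib.Coprime.Action
-- import your own Cfsg.Agent.* helpers here

set_option autoImplicit false
open Cfsg
open scoped Pointwise

namespace Cfsg.Agent.S4117

theorem eq_of_card_eq {W : Type*} [Group W] [Finite W] [IsCyclic W] {S T : Subgroup W}
    (h : Nat.card S = Nat.card T) : S = T := by
  classical
  have := Fintype.ofFinite W
  have hsub : ∀ U : Subgroup W, Nat.card U = Nat.card S →
      (Finset.univ.filter fun x => x ∈ U) = Finset.univ.filter fun x : W => x ^ Nat.card S = 1 := by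
    intro U hU
    refine Finset.eq_of_subset_of_card_le (fun x hx => ?_) ?_
    · simp only [Finset.mem_filter, Finset.mem_univ, true_and] at hx ⊢
      rw [← hU]
      exact orderOf_dvd_iff_pow_eq_one.1 (Subgroup.orderOf_dvd_natCard _ hx)
    · refine (IsCyclic.card_pow_eq_one_le Nat.card_pos).trans ?_
      rw [← hU, Nat.card_eq_fintype_card, Fintype.card_subtype]
  ext x
  have := Finset.ext_iff.1 ((hsub S rfl).trans (hsub T h.symm).symm) x
  simpa using this

/-- Let A be a finite group acting on the finite group G by automorphisms with the orders of A and G coprime, and suppose every Sylow subgroup of G is cyclic. Then the fixed-point subgroup C_G(A) is a Hall subgroup of G (its order is coprime to its index), the subgroup [G, A] generated by the elements g⁻¹·a(g) is cyclic and normal with [G, A] ∩ C_G(A) = 1 and [G, A]·C_G(A) = G. -/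
theorem result {G A : Type*} [Group G] [Finite G] [Group A] [Finite A]
    [MulDistribMulAction A G] (hcop : (Nat.card A).Coprime (Nat.card G))
    (hcyc : ∀ (p : ℕ) [Fact p.Prime] (P : Sylow p G), IsCyclic (P : Subgroup G)) :
    (Nat.card (MulAction.fixedPoints A G : Set G)).Coprime (Nat.card G / Nat.card (MulAction.fixedPoints A G : Set G)) ∧
    IsCyclic (Subgroup.closure {y : G | ∃ (a : A) (g : G), y = g⁻¹ * a • g}) ∧
    (Subgroup.closure {y : G | ∃ (a : A) (g : G), y = g⁻¹ * a • g}).Normal ∧
    (Subgroup.closure {y : G | ∃ (a : A) (g : G), y = g⁻¹ * a • g} : Set G) ∩ MulAction.fixedPoints A G = {1} ∧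
    Subgroup.closure {y : G | ∃ (a : A) (g : G), y = g⁻¹ * a • g} ⊔ Subgroup.closure (MulAction.fixedPoints A G) = ⊤ := by
  classical
  have := Fintype.ofFinite A
  have hZ : IsZGroup G := ⟨fun p hp P => by
    have : Fact p.Prime := ⟨hp⟩
    exact hcyc p P⟩
  set S : Set G := {y : G | ∃ (a : A) (g : G), y = g⁻¹ * a • g} with hS
  set K := Subgroup.closure S with hK
  set φ : A →* MulAut G := MulDistribMulAction.toMulAut A G
  set D := commutator G with hD
  -- `[G, A]` centralises the derived subgroup
  set E := Subgroup.centralizer (D : Set G) with hE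
  have hKE : K ≤ E := by
    rw [hK, Subgroup.closure_le]
    rintro _ ⟨a, g, rfl⟩
    rw [SetLike.mem_coe, hE, Subgroup.mem_centralizer_iff]
    intro d hd
    have hDc : IsCyclic D := IsZGroup.isCyclic_commutator G
    have hmap : ∀ σ : G ≃* G, ∀ x ∈ D, σ x ∈ D := fun σ x hx => by
      have h := (inferInstance : (commutator G).Characteristic).fixed σ
      rw [← hD] at h
      rw [← h] at hx
      exact hx
    let α : D →* D := ((φ a).toMonoidHom.comp D.subtype).codRestrict D fun x => hmap (φ a) x x.2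
    let γ : D →* D := ((MulAut.conj g).toMonoidHom.comp D.subtype).codRestrict D
      fun x => hmap (MulAut.conj g) x x.2
    obtain ⟨j, hj⟩ := MonoidHom.map_cyclic α
    obtain ⟨k, hk⟩ := MonoidHom.map_cyclic γ
    have hd' : a⁻¹ • d ∈ D := hmap (φ a⁻¹) d hd
    set e : D := ⟨a⁻¹ • d, hd'⟩
    have h1 : a • (g * (e : G) * g⁻¹) = (α (γ e) : G) := rfl
    have h2 : g * d * g⁻¹ = (γ (α e) : G) := by
      show g * d * g⁻¹ = g * (a • (a⁻¹ • d)) * g⁻¹
      rw [smul_inv_smul]
    have h3 : α (γ e) = γ (α e) := by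
      rw [hj, hk, hj, hk, ← zpow_mul, ← zpow_mul, mul_comm]
    rw [h3, ← h2, smul_mul', smul_mul', smul_inv_smul, smul_inv'] at h1
    -- `h1 : a•g * d * (a•g)⁻¹ = g * d * g⁻¹`
    calc d * (g⁻¹ * a • g) = g⁻¹ * (g * d * g⁻¹) * a • g := by group
      _ = g⁻¹ * (a • g * d * (a • g)⁻¹) * a • g := by rw [h1]
      _ = g⁻¹ * a • g * d := by group
  have hEn : Group.IsNilpotent E := by
    rw [Subgroup.isNilpotent_iff_lowerCentralSeries]
    refine ⟨2, ?_⟩
    show ⁅⁅E, E⁆, E⁆ = ⊥
    rw [Subgroup.commutator_eq_bot_iff_le_centralizer]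
    exact (Subgroup.commutator_mono le_top le_top).trans (Subgroup.le_centralizer_iff.1 le_rfl)
  have hEc : IsCyclic E := inferInstance
  have hKc : IsCyclic K := Subgroup.isCyclic_of_le hKE
  have hKn : K.Normal := ⟨fun x hx h => by
    have key : ∀ y ∈ S, h * y * h⁻¹ ∈ K := by
      rintro _ ⟨a, g, rfl⟩
      have : h * (g⁻¹ * a • g) * h⁻¹ =
          ((g * h⁻¹)⁻¹ * a • (g * h⁻¹)) * ((h⁻¹)⁻¹ * a • h⁻¹)⁻¹ := by
        rw [smul_mul', smul_inv']
        group
      rw [this]
      exact mul_mem (Subgroup.subset_closure ⟨a, _, rfl⟩)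
        (inv_mem (Subgroup.subset_closure ⟨a, _, rfl⟩))
    have : K ≤ K.comap (MulAut.conj h).toMonoidHom := (Subgroup.closure_le _).2 key
    exact this hx⟩
  have hinv : ∀ (a : A), ∀ x ∈ K, φ a x ∈ K := by
    intro a x hx
    have : K ≤ K.comap (φ a).toMonoidHom := by
      refine (Subgroup.closure_le _).2 ?_
      rintro _ ⟨b, g, rfl⟩
      show a • (g⁻¹ * b • g) ∈ K
      have : a • (g⁻¹ * b • g) = (g⁻¹ * a • g)⁻¹ * (g⁻¹ * (a * b) • g) := by
        rw [smul_mul', smul_inv', mul_smul]
        group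
      rw [this]
      exact mul_mem (inv_mem (Subgroup.subset_closure ⟨a, _, rfl⟩))
        (Subgroup.subset_closure ⟨_, _, rfl⟩)
    exact this hx
  set C := Coprime.fixedBy φ with hC
  have hCeq : (C : Set G) = MulAction.fixedPoints A G := rfl
  have hcopK : (Nat.card A).Coprime (Nat.card K) :=
    hcop.coprime_dvd_right (Subgroup.card_subgroup_dvd_card K)
  have hKcomm : ∀ x y : K, x * y = y * x := fun x y => mul_comm' x y
  have hdec : ∀ g : G, ∃ n ∈ K, g * n ∈ C := fun g =>
    Coprime.exists_fixed_mul_mem_hom φ hinv hcopK (Or.inr (Group.isSolvable_of_comm hKcomm))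
      fun a => Subgroup.subset_closure ⟨a, g, rfl⟩
  -- averaging
  have hint : ∀ x ∈ K, x ∈ C → x = 1 := by
    intro x hx hxC
    let _ : CommGroup K := { mul_comm := hKcomm }
    let act : A → K → K := fun a y => ⟨φ a y, hinv a y y.2⟩
    have act_mul : ∀ a y z, act a (y * z) = act a y * act a z := fun a y z =>
      Subtype.ext (map_mul (φ a) (y : G) z)
    have act_one : ∀ a, act a 1 = 1 := fun a => Subtype.ext (map_one (φ a))
    let θ : K →* K :=
      { toFun := fun y => ∏ a, act a y
        map_one' := Finset.prod_eq_one fun a _ => act_one a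
        map_mul' := fun y z => by
          rw [← Finset.prod_mul_distrib]
          exact Finset.prod_congr rfl fun a _ => act_mul a y z }
    have hθ : ∀ b y, θ (act b y) = θ y := fun b y =>
      Fintype.prod_equiv (Equiv.mulRight b) _ _ fun a => Subtype.ext (by
        show φ a (φ b y) = φ (a * b) y
        rw [map_mul, MulAut.mul_apply])
    have hker : ∀ y : K, θ y = 1 := by
      suffices h : K ≤ θ.ker.map K.subtype by
        intro y
        obtain ⟨y', hy', he⟩ := h y.2
        rw [← show y' = y from Subtype.ext he]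
        exact hy'
      refine (Subgroup.closure_le _).2 ?_
      rintro _ ⟨a, g, rfl⟩
      obtain ⟨n, hn, hgn⟩ := hdec g
      refine ⟨⟨n, hn⟩ * (act a ⟨n, hn⟩)⁻¹, ?_, ?_⟩
      · show θ _ = 1
        rw [map_mul, map_inv, hθ, mul_inv_cancel]
      · show n * (φ a n)⁻¹ = g⁻¹ * a • g
        have h := hgn a
        rw [map_mul] at h
        show _ = g⁻¹ * φ a g
        rw [eq_inv_mul_iff_mul_eq, ← mul_assoc, ← h, mul_inv_cancel_right]
    have h1 : θ ⟨x, hx⟩ = ⟨x, hx⟩ ^ Nat.card A := by
      show ∏ a, act a ⟨x, hx⟩ = _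
      rw [Finset.prod_congr rfl (g := fun _ => (⟨x, hx⟩ : K)) fun a _ => Subtype.ext (hxC a),
        Finset.prod_const, Finset.card_univ, Nat.card_eq_fintype_card]
    rw [hker] at h1
    exact congrArg Subtype.val (orderOf_eq_one_iff.1 (Nat.eq_one_of_dvd_coprimes hcopK
      (orderOf_dvd_of_pow_eq_one h1.symm) (orderOf_dvd_natCard _)))
  have hinf : K ⊓ C = ⊥ :=
    (Subgroup.eq_bot_iff_forall _).2 fun x hx => hint x hx.1 hx.2
  have hsup : K ⊔ C = ⊤ := top_unique fun g _ => by
    obtain ⟨n, hn, hgn⟩ := hdec g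
    rw [show g = g * n * n⁻¹ by group]
    exact mul_mem (Subgroup.mem_sup_right hgn) (Subgroup.mem_sup_left (inv_mem hn))
  have hcard : Nat.card K * Nat.card C = Nat.card G := by
    have h := Coprime.card_sup_of_le_normalizer (H := C) (N := K)
      (by rw [Subgroup.normalizer_eq_top]; exact le_top) (by rw [inf_comm, hinf])
    rw [sup_comm, hsup, Subgroup.card_top] at h
    rw [h, mul_comm]
  have hhall : (Nat.card C).Coprime (Nat.card K) := by
    rw [Nat.coprime_iff_gcd_eq_one]
    by_contra hne
    obtain ⟨p, hp, hpd⟩ := Nat.exists_prime_and_dvd hne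
    have : Fact p.Prime := ⟨hp⟩
    obtain ⟨x, hx⟩ := exists_prime_orderOf_dvd_card' (G := C) p (hpd.trans (Nat.gcd_dvd_left _ _))
    obtain ⟨y, hy⟩ := exists_prime_orderOf_dvd_card' (G := K) p (hpd.trans (Nat.gcd_dvd_right _ _))
    rw [← Subgroup.orderOf_coe] at hx hy
    have hW : IsPGroup p (Subgroup.zpowers (x : G) ⊔ Subgroup.zpowers (y : G) : Subgroup G) := by
      refine (IsPGroup.of_card (n := 1) (by rw [Nat.card_zpowers, hx, pow_one])).to_sup_of_normal_right'
        (IsPGroup.of_card (n := 1) (by rw [Nat.card_zpowers, hy, pow_one])) ?_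
      intro g hg
      -- the subgroup of order `p` of the cyclic normal subgroup `K` is normal
      refine Coprime.mem_normalizer_of_conj_smul_eq ?_
      have hle : Subgroup.zpowers (y : G) ≤ K := Subgroup.zpowers_le.2 y.2
      have hle' : MulAut.conj g • Subgroup.zpowers (y : G) ≤ K := fun z hz => by
        rw [Coprime.mem_conj_smul_iff] at hz
        simpa [mul_assoc] using hKn.conj_mem _ (hle hz) g
      refine Eq.trans (Subgroup.map_subgroupOf_eq_of_le hle').symm
        (Eq.trans ?_ (Subgroup.map_subgroupOf_eq_of_le hle))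
      congr 1
      refine eq_of_card_eq ?_
      rw [Coprime.card_subgroupOf hle, Coprime.card_subgroupOf hle', Coprime.card_conj_smul]
    obtain ⟨P, hP⟩ := hW.exists_le_sylow
    have := hcyc p P
    have heq : (Subgroup.zpowers (x : G)).subgroupOf (P : Subgroup G) =
        (Subgroup.zpowers (y : G)).subgroupOf (P : Subgroup G) := by
      refine eq_of_card_eq ?_
      rw [Coprime.card_subgroupOf (le_sup_left.trans hP),
        Coprime.card_subgroupOf (le_sup_right.trans hP), Nat.card_zpowers, Nat.card_zpowers, hx, hy]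
    rw [Subgroup.subgroupOf_inj, inf_eq_left.2 (le_sup_left.trans hP),
      inf_eq_left.2 (le_sup_right.trans hP)] at heq
    have hxK : (x : G) ∈ K := Subgroup.zpowers_le.2 y.2 (heq ▸ Subgroup.mem_zpowers (x : G))
    rw [hint _ hxK x.2, orderOf_one] at hx
    exact hp.one_lt.ne hx
  refine ⟨?_, hKc, hKn, ?_, ?_⟩
  · have : Nat.card (MulAction.fixedPoints A G : Set G) = Nat.card C := rfl
    rw [this, ← hcard, Nat.mul_div_cancel _ Nat.card_pos]
    exact hhall
  · rw [← hCeq]
    exact (congrArg SetLike.coe hinf).trans (by simp)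
  · rw [← hCeq, Subgroup.closure_eq, hsup]

end Cfsg.Agent.S4117
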