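-- S4118
import Cfsg.Statements.S4118
import Cfsg.Agent.S4116
import Cfsg.Agent.Lib.Frobenius.ComplementSL25
import Cfsg.Agent.Lib.Frobenius.Construct
import Cfsg.Agent.Lib.Coprime.Basic

set_option autoImplicit false
set_option linter.style.haveILetI false
open Cfsg

namespace Cfsg.Agent.S4118


open Subgroup

section Helpers

variable {G : Type*} [Group G] [Finite G] {H : Subgroup G}

theorem normalizer_le (hTI : Cfsg.IsTISubset (H : Set G)) {X : Subgroup G} (hXH : X ≤ H) (hX : X ≠ ⊥) :
    normalizer (X : Set G) ≤ normalizer (H : Set G) := by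
  intro g hg
  by_contra hn
  refine hX ((Subgroup.eq_bot_iff_forall _).2 fun x hx => hTI g hn x (hXH hx) ?_)
  exact hXH ((mem_normalizer_iff.1 hg x).1 hx)

theorem coprime_index (hTI : Cfsg.IsTISubset (H : Set G))
    (hHall : (Nat.card H).Coprime (H.subgroupOf (normalizer (H : Set G))).index) :
    (Nat.card H).Coprime H.index := by
  refine Nat.coprime_of_dvd fun q hq hqH hqi => ?_
  haveI := Fact.mk hq
  obtain ⟨R⟩ := (inferInstance : Nonempty (Sylow q H))
  set R' := (R : Subgroup H).map H.subtype with hR'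
  have hcard : Nat.card R' = q ^ (Nat.card H).factorization q := by
    rw [hR', card_map_of_injective H.subtype_injective, R.card_eq_multiplicity]
  have hpos : 0 < (Nat.card H).factorization q := hq.factorization_pos_of_dvd Nat.card_pos.ne' hqH
  have hne : R' ≠ ⊥ := fun e => by
    rw [e, card_bot] at hcard
    have := Nat.one_lt_pow hpos.ne' hq.one_lt
    omega
  have hdvd : q ^ ((Nat.card H).factorization q + 1) ∣ Nat.card G := by
    rw [← H.card_mul_index, pow_succ]
    exact mul_dvd_mul (Nat.ordProj_dvd _ _) hqi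
  have h1 : q ^ ((Nat.card H).factorization q + 1) ∣ Nat.card (normalizer (H : Set G)) :=
    (Sylow.prime_pow_dvd_card_normalizer hdvd hcard).trans
      (card_dvd_of_le (normalizer_le hTI (map_subtype_le _) hne))
  rw [← (H.subgroupOf (normalizer (H : Set G))).card_mul_index,
    Nat.card_congr (subgroupOfEquivOfLe le_normalizer).toEquiv] at h1
  exact Nat.pow_succ_factorization_not_dvd Nat.card_pos.ne' hq
    ((Nat.Coprime.dvd_of_dvd_mul_right ((hHall.coprime_dvd_left hqH).pow_left _) h1))

variable {O : Subgroup G}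
  (hO : O = sSup {K : Subgroup G | K.Normal ∧ (Nat.card K).Coprime (Nat.card H)})
include hO

theorem core_props : O.Normal ∧ (Nat.card O).Coprime (Nat.card H) ∧
    ∀ K : Subgroup G, K.Normal → (Nat.card K).Coprime (Nat.card H) → K ≤ O := by
  obtain ⟨M, hM⟩ := (Set.toFinite {K : Subgroup G | K.Normal ∧
    (Nat.card K).Coprime (Nat.card H)}).exists_maximal ⟨⊥, by simp [Subgroup.normal_bot]⟩
  obtain ⟨⟨hMn, hMc⟩, hmax⟩ := hM
  haveI := hMn
  have hle : ∀ K : Subgroup G, K.Normal → (Nat.card K).Coprime (Nat.card H) → K ≤ M := by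
    intro K hK hKc
    haveI := hK
    have h1 : Nat.card (K ⊔ M : Subgroup G) = Nat.card M * M.relIndex K := by
      rw [← (M.subgroupOf (K ⊔ M)).card_mul_index,
        Nat.card_congr (subgroupOfEquivOfLe le_sup_right).toEquiv, ← relIndex, relIndex_sup_right]
    have h2 : (K ⊔ M : Subgroup G).Normal ∧ (Nat.card (K ⊔ M : Subgroup G)).Coprime (Nat.card H) :=
      ⟨inferInstance, by rw [h1]; exact hMc.mul_left (hKc.coprime_dvd_left (relIndex_dvd_card M K))⟩
    exact le_sup_left.trans (hmax h2 le_sup_right)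
  have hOM : O = M := by
    rw [hO]
    exact le_antisymm (sSup_le fun K hK => hle K hK.1 hK.2) (le_sSup ⟨hMn, hMc⟩)
  subst hOM
  exact ⟨hMn, hMc, hle⟩

theorem disjoint_core : H ⊓ O = ⊥ :=
  inf_eq_bot_of_coprime (core_props hO).2.1.symm

variable (hTI : Cfsg.IsTISubset (H : Set G))
include hTI

theorem sup_normalizer_eq_top (hH : H ≠ ⊥) (hHallG : (Nat.card H).Coprime H.index)
    (hsep : ∃ (n : ℕ) (M : Fin (n + 1) → Subgroup G), M 0 = ⊥ ∧ M (Fin.last n) = ⊤ ∧ Monotone M ∧
      (∀ i, (M i).Normal) ∧ ∀ i : Fin n,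
        (∀ q : ℕ, q.Prime → q ∣ (M i.castSucc).relIndex (M i.succ) → q ∣ Nat.card H) ∨
        ((M i.castSucc).relIndex (M i.succ)).Coprime (Nat.card H)) :
    O ⊔ normalizer (H : Set G) = ⊤ := by
  obtain ⟨hOn, hOc, hOmax⟩ := core_props hO
  haveI := hOn
  obtain ⟨n, M, h0, hlast, -, hMn, hstep⟩ := hsep
  obtain ⟨i, hi, hi'⟩ : ∃ i : Fin n, M i.castSucc ≤ O ∧ ¬ M i.succ ≤ O := by
    by_contra hcon
    push Not at hcon
    have hall : ∀ i : Fin (n + 1), M i ≤ O := by
      intro i
      induction i using Fin.induction with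
      | zero => rw [h0]; exact bot_le
      | succ i ih => exact hcon i ih
    have hOt : O = ⊤ := top_unique (hlast ▸ hall (Fin.last n))
    exact hH (by simpa [hOt] using disjoint_core hO)
  haveI := hMn i.succ
  set T := M i.succ ⊔ O with hT
  have hcardT : Nat.card T = Nat.card O * O.relIndex (M i.succ) := by
    rw [← (O.subgroupOf T).card_mul_index, Nat.card_congr (subgroupOfEquivOfLe le_sup_right).toEquiv,
      ← relIndex, hT, relIndex_sup_right]
  have hdvd : O.relIndex (M i.succ) ∣ (M i.castSucc).relIndex (M i.succ) :=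
    relIndex_dvd_of_le_left _ hi
  have hπ : ∀ q : ℕ, q.Prime → q ∣ O.relIndex (M i.succ) → q ∣ Nat.card H := by
    rcases hstep i with h | h
    · exact fun q hq hd => h q hq (hd.trans hdvd)
    · exact absurd (le_sup_left.trans (hOmax T inferInstance
        (by rw [hcardT]; exact hOc.mul_left (h.coprime_dvd_left hdvd)))) hi'
  -- `H ⊓ T` is a Hall subgroup of `T`
  have hrel : H.relIndex T ∣ H.index := by
    have e1 := (T.subgroupOf (H ⊔ T)).card_mul_index
    have e2 := (T.subgroupOf H).card_mul_index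
    have e3 := (H.subgroupOf (H ⊔ T)).card_mul_index
    have e4 := (H.subgroupOf T).card_mul_index
    rw [Nat.card_congr (subgroupOfEquivOfLe le_sup_right).toEquiv, ← relIndex, relIndex_sup_right] at e1
    rw [Nat.card_congr (subgroupOfEquivOfLe le_sup_left).toEquiv, ← relIndex] at e3
    rw [← relIndex, ← inf_subgroupOf_right,
      Nat.card_congr (subgroupOfEquivOfLe inf_le_right).toEquiv] at e2 e4
    rw [inf_comm T H] at e2
    have hpos : 0 < Nat.card (H ⊓ T : Subgroup G) * T.relIndex H := by rw [e2]; exact Nat.card_pos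
    have : H.relIndex T = H.relIndex (H ⊔ T) := by
      refine Nat.eq_of_mul_eq_mul_left hpos ?_
      conv_rhs => rw [e2, e3, ← e1, ← e4]
      ring
    rw [this]
    exact relIndex_dvd_index_of_le le_sup_left
  obtain ⟨q, hq, hqd⟩ : ∃ q, Nat.Prime q ∧ q ∣ O.relIndex (M i.succ) :=
    Nat.exists_prime_and_dvd fun h => hi' (relIndex_eq_one.1 h)
  haveI := Fact.mk hq
  have hqH := hπ q hq hqd
  have hnot : ¬ q ∣ H.relIndex T := fun hd => hq.ne_one (Nat.Coprime.eq_one_of_dvd
    (hHallG.coprime_dvd_left hqH) (hd.trans hrel))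
  have hdT : q ∣ Nat.card (H.subgroupOf T) := by
    have h : q ∣ Nat.card (H.subgroupOf T) * H.relIndex T := by
      rw [relIndex, (H.subgroupOf T).card_mul_index, hcardT]
      exact hqd.mul_left _
    exact (hq.dvd_mul.1 h).resolve_right hnot
  obtain ⟨R⟩ := (inferInstance : Nonempty (Sylow q (H.subgroupOf T)))
  let R₁ : Subgroup T := (R : Subgroup (H.subgroupOf T)).map (H.subgroupOf T).subtype
  let RT : Sylow q T := Sylow.ofCard R₁ (by
    rw [card_map_of_injective (H.subgroupOf T).subtype_injective, R.card_eq_multiplicity,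
      ← (H.subgroupOf T).card_mul_index, Nat.factorization_mul Nat.card_pos.ne'
        index_ne_zero_of_finite, Finsupp.add_apply,
      Nat.factorization_eq_zero_of_not_dvd (n := (H.subgroupOf T).index) hnot, add_zero])
  have hne : ((RT : Subgroup T).map T.subtype : Subgroup G) ≠ ⊥ := fun e => by
    have h1 := RT.ne_bot_of_dvd_card (hdT.trans (card_subgroup_dvd_card _))
    exact h1 ((map_eq_bot_iff_of_injective _ T.subtype_injective).1 e)
  have hRH : ((RT : Subgroup T).map T.subtype : Subgroup G) ≤ H := by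
    rintro _ ⟨t, ⟨r, -, rfl⟩, rfl⟩
    exact r.2
  have hfr := Sylow.normalizer_sup_eq_top RT
  -- `T = (H ⊓ T) ⊔ O`
  have hTle : T ≤ (H ⊓ T) ⊔ O := by
    have hle : (H ⊓ T) ⊔ O ≤ T := sup_le inf_le_right le_sup_right
    have d1 : ((H ⊓ T) ⊔ O).relIndex T ∣ H.relIndex T :=
      (relIndex_dvd_of_le_left _ le_sup_left).trans (by rw [inf_relIndex_right])
    have d2 : ((H ⊓ T) ⊔ O).relIndex T ∣ O.relIndex (M i.succ) :=
      (relIndex_dvd_of_le_left _ le_sup_right).trans (by rw [hT, relIndex_sup_right])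
    refine relIndex_eq_one.1 ?_
    by_contra hne1
    obtain ⟨r, hr, hrd⟩ := Nat.exists_prime_and_dvd hne1
    exact hr.ne_one (Nat.Coprime.eq_one_of_dvd
      (hHallG.coprime_dvd_left (hπ r hr (hrd.trans d2))) ((hrd.trans d1).trans hrel))
  refine top_unique (hfr.symm.le.trans (sup_le ?_ (hTle.trans (sup_le ?_ le_sup_left))))
  · exact (normalizer_le hTI hRH hne).trans le_sup_right
  · exact (inf_le_left.trans le_normalizer).trans le_sup_right

theorem mem_centralizer_of_commute {x h : G} (hx : x ∈ O) (hh : h ∈ H) (hh1 : h ≠ 1)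
    (hc : x * h = h * x) : x ∈ centralizer (H : Set G) := by
  haveI := (core_props hO).1
  have hxN : x ∈ normalizer (H : Set G) := by
    by_contra hn
    exact hh1 (hTI x hn h hh (by rw [hc, mul_inv_cancel_right]; exact hh))
  rw [mem_centralizer_iff]
  intro a ha
  have h1 : x * a * x⁻¹ * a⁻¹ ∈ H ⊓ O := by
    refine mem_inf.2 ⟨mul_mem ((mem_normalizer_iff.1 hxN a).1 ha) (inv_mem ha), ?_⟩
    have := mul_mem hx ((inferInstance : O.Normal).conj_mem _ (inv_mem hx) a)
    simpa [mul_assoc] using this
  rw [disjoint_core hO, mem_bot, mul_inv_eq_one, mul_inv_eq_iff_eq_mul] at h1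
  exact h1.symm

omit hTI in
theorem exists_invariant_sylow (hTI : Cfsg.IsTISubset (H : Set G))
    (hHallG : (Nat.card H).Coprime H.index) (r : ℕ) [Fact r.Prime] :
    ∃ P : Subgroup G, P ≤ O ∧ IsPGroup r P ∧ Nat.card P = r ^ (Nat.card O).factorization r ∧
      H ≤ normalizer (P : Set G) := by
  obtain ⟨hOn, hOc, -⟩ := core_props hO
  haveI := hOn
  obtain ⟨P₀⟩ := (inferInstance : Nonempty (Sylow r O))
  set P' := (P₀ : Subgroup O).map O.subtype with hP'
  set X := normalizer (P' : Set G) ⊓ (H ⊔ O) with hX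
  have hXO : X ⊔ O = H ⊔ O := by
    refine le_antisymm (sup_le inf_le_right le_sup_right) (sup_le (fun a ha => ?_) le_sup_right)
    have : a ∈ normalizer (P' : Set G) ⊔ O := by rw [Sylow.normalizer_sup_eq_top P₀]; exact mem_top a
    obtain ⟨m, hm, o, ho, rfl⟩ := mem_sup_of_normal_right.1 this
    refine mul_mem (mem_sup_left ⟨hm, ?_⟩) (mem_sup_right ho)
    have h := mul_mem (mem_sup_left ha : m * o ∈ H ⊔ O) (inv_mem (mem_sup_right ho : o ∈ H ⊔ O))
    simpa using h
  have hidx : (O.subgroupOf X).index = Nat.card H := by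
    rw [← relIndex, ← relIndex_sup_right (H := X) (K := O), hXO, relIndex_sup_right,
      ← inf_relIndex_left, disjoint_core hO, relIndex_bot_left]
  have hco : (Nat.card (O.subgroupOf X)).Coprime (O.subgroupOf X).index := by
    rw [hidx]
    refine hOc.coprime_dvd_left ?_
    rw [← inf_subgroupOf_right, Nat.card_congr (subgroupOfEquivOfLe inf_le_right).toEquiv]
    exact card_dvd_of_le inf_le_left
  obtain ⟨U, hU⟩ := exists_right_complement'_of_coprime hco
  have hUc : Nat.card (U.map X.subtype) = Nat.card H := by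
    rw [card_map_of_injective X.subtype_injective, ← hidx, hU.symm.index_eq_card]
  obtain ⟨g, hg⟩ := Cfsg.Agent.S4116.result H hHallG hTI (U.map X.subtype) fun q _ hd => hUc ▸ hd
  have heq : U.map X.subtype = H.map (MulAut.conj g).toMonoidHom :=
    eq_of_le_of_card_ge hg (by rw [hUc, card_map_of_injective (MulAut.conj g).injective])
  refine ⟨P'.map (MulAut.conj g⁻¹).toMonoidHom, ?_, (P₀.2.map _).map _, ?_, ?_⟩
  · rintro _ ⟨p, hp, rfl⟩
    simpa using hOn.conj_mem _ (map_subtype_le _ hp) g⁻¹
  · rw [card_map_of_injective (MulAut.conj g⁻¹).injective, hP',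
      card_map_of_injective O.subtype_injective, P₀.card_eq_multiplicity]
  · intro a ha
    have hm : g * a * g⁻¹ ∈ normalizer (P' : Set G) := by
      have : g * a * g⁻¹ ∈ U.map X.subtype := heq ▸ ⟨a, ha, by simp⟩
      obtain ⟨u, -, hu⟩ := this
      exact hu ▸ u.2.1
    rw [mem_normalizer_iff] at hm ⊢
    intro x
    rw [mem_map_equiv, mem_map_equiv, hm]
    simp [mul_assoc]

theorem exists_complement (hH : H ≠ ⊥) (hnn : ¬ H.Normal) (hHallG : (Nat.card H).Coprime H.index)
    (htop : O ⊔ normalizer (H : Set G) = ⊤) :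
    ∃ (L : Type) (_ : Group L) (_ : Finite L) (H' : Subgroup L),
      Cfsg.IsFrobeniusComplement H' ∧ Nonempty (H ≃* H') := by
  obtain ⟨hOn, hOc, -⟩ := core_props hO
  haveI := hOn
  obtain ⟨r, hr, P, hPO, hPr, -, hHP, hPD⟩ : ∃ r, r.Prime ∧ ∃ P : Subgroup G, P ≤ O ∧ IsPGroup r P ∧
      Nat.card P = r ^ (Nat.card O).factorization r ∧ H ≤ normalizer (P : Set G) ∧
      ¬ P ≤ O ⊓ centralizer (H : Set G) := by
    by_contra hcon
    push Not at hcon
    have hd : Nat.card O ∣ Nat.card (O ⊓ centralizer (H : Set G) : Subgroup G) := by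
      refine (Nat.dvd_iff_prime_pow_dvd_dvd _ _).2 fun r j hr hj => ?_
      haveI := Fact.mk hr
      obtain ⟨P, hPO, hPr, hPc, hHP⟩ := exists_invariant_sylow hO hTI hHallG r
      refine dvd_trans ?_ (card_dvd_of_le (hcon r hr P hPO hPr hPc hHP))
      rw [hPc]
      exact Nat.pow_dvd_pow r ((hr.pow_dvd_iff_le_factorization Nat.card_pos.ne').1 hj)
    have hle : O ≤ normalizer (H : Set G) :=
      (eq_of_le_of_card_ge inf_le_left (Nat.le_of_dvd Nat.card_pos hd)).ge.trans
        (inf_le_right.trans (centralizer_le_normalizer (H : Set G)))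
    exact hnn (normalizer_eq_top_iff.1 (by rwa [sup_eq_right.2 hle] at htop))
  haveI := Fact.mk hr
  haveI : Group.IsNilpotent P := hPr.isNilpotent
  set E := P ⊓ centralizer (H : Set G) with hE
  have hEP : E.subgroupOf P ≠ ⊤ := fun e => hPD (le_inf hPO (le_trans (fun x hx => by
    have : (⟨x, hx⟩ : P) ∈ E.subgroupOf P := e ▸ mem_top _
    exact this.2) le_rfl))
  set W := normalizer (E : Set G) ⊓ P with hW
  have hEW : E ≤ W := le_inf le_normalizer inf_le_left
  have hEWne : E.subgroupOf W ≠ ⊤ := by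
    intro e
    have hlt := Group.normalizerCondition_of_isNilpotent (G := P) (E.subgroupOf P)
      (lt_top_iff_ne_top.2 hEP)
    refine hlt.not_ge fun x hx => ?_
    have hxW : (x : G) ∈ W := by
      refine ⟨?_, x.2⟩
      show (x : G) ∈ normalizer (E : Set G)
      rw [mem_normalizer_iff]
      intro y
      have hxy := mem_normalizer_iff.1 hx
      constructor
      · intro hy
        exact (hxy ⟨y, hy.1⟩).1 hy
      · intro hy
        have hyP : y ∈ P := by
          have := mul_mem (mul_mem (inv_mem x.2) hy.1) x.2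
          simpa [mul_assoc] using this
        exact (hxy ⟨y, hyP⟩).2 hy
    exact (e ▸ mem_top (⟨x, hxW⟩ : W) : (⟨x, hxW⟩ : W) ∈ E.subgroupOf W)
  haveI : (E.subgroupOf W).Normal := by
    refine ⟨fun e he w => ?_⟩
    exact (mem_normalizer_iff.1 w.2.1 (e : G)).1 he
  have hfixE : ∀ a ∈ H, ∀ e ∈ E, a * e * a⁻¹ = e := fun a ha e he => by
    rw [mem_centralizer_iff.1 he.2 a ha, mul_inv_cancel_right]
  have hHE : H ≤ normalizer (E : Set G) := by
    intro a ha
    rw [mem_normalizer_iff]
    intro y
    refine ⟨fun hy => by rw [hfixE a ha y hy]; exact hy, fun hy => ?_⟩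
    have := hfixE a⁻¹ (inv_mem ha) _ hy
    rw [show a⁻¹ * (a * y * a⁻¹) * a⁻¹⁻¹ = y by group] at this
    exact this ▸ hy
  have hHW : H ≤ normalizer (W : Set G) := by
    intro a ha
    rw [mem_normalizer_iff]
    intro y
    show (y ∈ normalizer (E : Set G) ∧ y ∈ P) ↔ (a * y * a⁻¹ ∈ normalizer (E : Set G) ∧ a * y * a⁻¹ ∈ P)
    rw [← mem_normalizer_iff.1 (hHP ha) y]
    refine and_congr_left fun _ => ⟨fun hy => mul_mem (mul_mem (hHE ha) hy) (inv_mem (hHE ha)),
      fun hy => ?_⟩
    have := mul_mem (mul_mem (inv_mem (hHE ha)) hy) (hHE ha)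
    simpa [mul_assoc] using this
  let act : H →* MulAut W := W.normalizerMonoidHom.comp (inclusion hHW)
  have hact : ∀ (a : H) (w : W), ((act a w : W) : G) = a * w * (a : G)⁻¹ := fun a w => rfl
  have hmap : ∀ a : H, (E.subgroupOf W).map (act a).toMonoidHom = E.subgroupOf W := by
    intro a
    ext w
    constructor
    · rintro ⟨v, hv, rfl⟩
      show (a : G) * v * (a : G)⁻¹ ∈ E
      rw [hfixE a a.2 v hv]; exact hv
    · intro hw
      exact ⟨w, hw, Subtype.ext (hfixE a a.2 w hw)⟩
  let φ : H →* MulAut (W ⧸ E.subgroupOf W) :=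
    { toFun := fun a => QuotientGroup.congr (E.subgroupOf W) (E.subgroupOf W) (act a) (hmap a)
      map_one' := MulEquiv.ext fun q => by
        induction q using QuotientGroup.induction_on
        exact congrArg QuotientGroup.mk (by rw [map_one]; rfl)
      map_mul' := fun a b => MulEquiv.ext fun q => by
        induction q using QuotientGroup.induction_on
        exact congrArg QuotientGroup.mk (by rw [map_mul]; rfl) }
  haveI : Nontrivial (W ⧸ E.subgroupOf W) := QuotientGroup.nontrivial_iff.2 hEWne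
  haveI : Nontrivial H := (nontrivial_iff_ne_bot H).2 hH
  obtain ⟨L, i₁, i₂, H', h1, h2, -⟩ := Frobenius.exists_complement_of_fpf φ fun a ha v hv => by
    induction v using QuotientGroup.induction_on with
    | H w =>
    have ha' : (a : G) ≠ 1 := fun e => ha (Subtype.ext e)
    have hzn : zpowers (a : G) ≤ normalizer (E : Set G) := (zpowers_le.2 a.2).trans hHE
    have hsol : Group.IsSolvable E := by
      haveI : Group.IsNilpotent E := (hPr.to_le inf_le_left).isNilpotent
      infer_instance
    have hcop : (Nat.card (zpowers (a : G))).Coprime (Nat.card E) :=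
      ((hOc.symm.coprime_dvd_left (card_dvd_of_le (zpowers_le.2 a.2))).coprime_dvd_right
        (card_dvd_of_le ((inf_le_left : E ≤ P).trans hPO)))
    obtain ⟨e, he, hwe⟩ := Coprime.exists_mul_mem_centralizer hzn hcop (Or.inr hsol) (k := (w : G))
      fun b hb => by
        obtain ⟨m, rfl⟩ := hb
        have hm : QuotientGroup.congr (E.subgroupOf W) (E.subgroupOf W) (act (a ^ m)) (hmap _)
            (QuotientGroup.mk w) = QuotientGroup.mk w := by
          have : φ a ^ m = φ (a ^ m) := (map_zpow φ a m).symm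
          show φ (a ^ m) (QuotientGroup.mk w) = _
          rw [← this]
          have hs : φ a ∈ MulAction.stabilizer (MulAut (W ⧸ E.subgroupOf W)) (QuotientGroup.mk w : W ⧸ E.subgroupOf W) := hv
          exact zpow_mem hs m
        have hmem' := QuotientGroup.eq.1 hm.symm
        have hmem'' : (w : G)⁻¹ * ((a : G) ^ m * w * ((a : G) ^ m)⁻¹) ∈ E := hmem'
        simpa [mul_assoc] using hmem''
    have hP' : (w : G) * e ∈ P := mul_mem w.2.2 he.1
    have hC : (w : G) * e ∈ centralizer (H : Set G) := mem_centralizer_of_commute hO hTI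
      (hPO hP') a.2 ha' (mem_centralizer_iff.1 hwe _ (mem_zpowers _)).symm
    have hwE : (w : G) ∈ E := by
      have := mul_mem (show (w : G) * e ∈ E from ⟨hP', hC⟩) (inv_mem he)
      simpa using this
    exact (QuotientGroup.eq_one_iff w).2 hwE
  exact ⟨L, i₁, i₂, H', h1, h2⟩

theorem isSolvable_centralizer (hHallG : (Nat.card H).Coprime H.index)
    (htop : O ⊔ normalizer (H : Set G) = ⊤) (hOs : Group.IsSolvable O) (hHs : Group.IsSolvable H) :
    Group.IsSolvable (centralizer (H : Set G)) := by
  obtain ⟨hOn, hOc, hOmax⟩ := core_props hO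
  haveI := hOn
  set C := centralizer (H : Set G) with hC
  set Z := H.subgroupOf C
  have hcen : ∀ z ∈ Z, ∀ c : C, z * c = c * z := fun z hz c =>
    Subtype.ext (mem_centralizer_iff.1 c.2 _ hz)
  haveI : Z.Normal := ⟨fun z hz c => by
    rw [← hcen z hz c, mul_assoc, mul_inv_cancel, mul_one]; exact hz⟩
  have hcardZ : Nat.card Z ∣ Nat.card H := by
    show Nat.card (H.subgroupOf C) ∣ _
    rw [← inf_subgroupOf_right, Nat.card_congr (subgroupOfEquivOfLe inf_le_right).toEquiv]
    exact card_dvd_of_le inf_le_left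
  have hCN : C ≤ normalizer (H : Set G) := centralizer_le_normalizer (H : Set G)
  have hidx : (Nat.card H).Coprime Z.index := by
    have h1 : Z.index ∣ H.relIndex (normalizer (H : Set G)) := by
      show H.relIndex C ∣ _
      haveI : (H.subgroupOf (normalizer (H : Set G))).Normal := normal_in_normalizer
      rw [← relIndex_subgroupOf hCN]
      exact relIndex_dvd_index_of_normal _ _
    exact hHallG.coprime_dvd_right (h1.trans (relIndex_dvd_index_of_le le_normalizer))
  obtain ⟨K, hK⟩ := exists_right_complement'_of_coprime (hidx.coprime_dvd_left hcardZ)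
  have hKc : (Nat.card K).Coprime (Nat.card H) := by
    rw [← hK.symm.index_eq_card]; exact hidx.symm
  have hdec : ∀ c : C, ∃ z ∈ Z, ∃ j ∈ K, z * j = c := fun c => by
    obtain ⟨⟨⟨z, hz⟩, ⟨j, hj⟩⟩, e⟩ := hK.surjective c
    exact ⟨z, hz, j, hj, e⟩
  have hmemK : ∀ c : C, (orderOf c).Coprime (Nat.card H) → c ∈ K := by
    intro c hc
    obtain ⟨z, hz, j, hj, rfl⟩ := hdec c
    have hcm : Commute z j := hcen z hz j
    have hz' : (z : C) ^ (orderOf (z * j)) = 1 := by
      have h := pow_orderOf_eq_one (z * j)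
      rw [hcm.mul_pow] at h
      have h1 : z ^ orderOf (z * j) = (j ^ orderOf (z * j))⁻¹ := eq_inv_of_mul_eq_one_left h
      refine disjoint_def.1 hK.disjoint (pow_mem hz _) ?_
      rw [h1]; exact inv_mem (pow_mem hj _)
    have hzH : orderOf z ∣ Nat.card H :=
      (Subgroup.orderOf_mk (H := Z) z hz ▸ orderOf_dvd_natCard (⟨z, hz⟩ : Z)).trans hcardZ
    have := Nat.eq_one_of_dvd_coprimes hc (orderOf_dvd_of_pow_eq_one hz') hzH
    rw [orderOf_eq_one_iff.1 this, one_mul]
    exact hj
  set K' := K.map C.subtype with hK'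
  have hK'N : normalizer (H : Set G) ≤ normalizer (K' : Set G) := by
    have key : ∀ g ∈ normalizer (H : Set G), ∀ y ∈ K', g * y * g⁻¹ ∈ K' := by
      rintro g hg _ ⟨y, hy, rfl⟩
      have hgy : g * (y : G) * g⁻¹ ∈ C := by
        show g * (y : G) * g⁻¹ ∈ centralizer (H : Set G)
        rw [mem_centralizer_iff]
        intro h hh
        have hh' : g⁻¹ * h * g ∈ H :=
          (mem_normalizer_iff.1 (inv_mem hg) h).1 hh |> fun e => by simpa using e
        have := mem_centralizer_iff.1 y.2 _ hh'
        calc h * (g * y * g⁻¹) = g * (g⁻¹ * h * g * y) * g⁻¹ := by group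
          _ = g * (y * (g⁻¹ * h * g)) * g⁻¹ := by rw [this]
          _ = g * y * g⁻¹ * h := by group
      refine ⟨⟨_, hgy⟩, hmemK _ ?_, rfl⟩
      rw [← orderOf_coe]
      show (orderOf (g * (y : G) * g⁻¹)).Coprime _
      rw [← MulAut.conj_apply, MulEquiv.orderOf_eq, orderOf_coe]
      exact hKc.coprime_dvd_left (Subgroup.orderOf_mk (H := K) y hy ▸ orderOf_dvd_natCard _)
    intro g hg
    rw [mem_normalizer_iff]
    refine fun y => ⟨key g hg y, fun hy => ?_⟩
    have := key g⁻¹ (inv_mem hg) _ hy
    simpa [mul_assoc] using this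
  have hKO : K' ≤ O := by
    have hn : (K' ⊔ O).Normal := by
      refine ⟨fun x hx g => ?_⟩
      have hN : g ∈ normalizer ((K' ⊔ O : Subgroup G) : Set G) := by
        have h1 : O ⊔ normalizer (H : Set G) ≤ normalizer ((K' ⊔ O : Subgroup G) : Set G) := by
          refine sup_le (le_sup_right.trans le_normalizer) fun n hn => ?_
          refine Subgroup.mem_normalizer_iff_map_conj_eq.2 ?_
          rw [Subgroup.map_sup, Subgroup.mem_normalizer_iff_map_conj_eq.1 (hK'N hn)]
          congr 1
          exact normalizer_eq_top_iff.2 hOn |> fun e => Subgroup.mem_normalizer_iff_map_conj_eq.1 (e ▸ mem_top n)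
        exact h1 (htop ▸ mem_top g)
      exact (mem_normalizer_iff.1 hN x).1 hx
    refine le_sup_left.trans (hOmax _ hn ?_)
    rw [← (O.subgroupOf (K' ⊔ O)).card_mul_index,
      Nat.card_congr (subgroupOfEquivOfLe le_sup_right).toEquiv, ← relIndex, relIndex_sup_right]
    refine hOc.mul_left (Nat.Coprime.coprime_dvd_left (relIndex_dvd_card O K') ?_)
    rwa [hK', card_map_of_injective C.subtype_injective]
  have hCle : C ≤ (H ⊓ C) ⊔ O := by
    intro c hc
    obtain ⟨z, hz, j, hj, e⟩ := hdec ⟨c, hc⟩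
    rw [show c = (z : G) * j from (congrArg Subtype.val e).symm]
    exact mul_mem (mem_sup_left ⟨hz, z.2⟩) (mem_sup_right (hKO ⟨j, hj, rfl⟩))
  set T := (H ⊓ C) ⊔ O
  haveI := hOs
  haveI := hHs
  haveI : Group.IsSolvable (O.subgroupOf T) :=
    Group.isSolvable_of_isSolvable_injective (f := (subgroupOfEquivOfLe (le_sup_right : O ≤ T)).toMonoidHom)
      (MulEquiv.injective _)
  haveI : Group.IsSolvable (H ⊓ C : Subgroup G) :=
    Group.isSolvable_of_isSolvable_injective (f := inclusion (inf_le_left : H ⊓ C ≤ H))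
      (inclusion_injective _)
  haveI : Group.IsSolvable (T ⧸ O.subgroupOf T) := by
    refine Group.isSolvable_of_surjective
      (f := (QuotientGroup.mk' (O.subgroupOf T)).comp (inclusion (le_sup_left : H ⊓ C ≤ T))) ?_
    intro q
    obtain ⟨t, rfl⟩ := QuotientGroup.mk'_surjective _ q
    obtain ⟨m, hm, o, ho, e⟩ := mem_sup_of_normal_right.1 t.2
    refine ⟨⟨m, hm⟩, QuotientGroup.eq.2 ?_⟩
    show m⁻¹ * (t : G) ∈ O
    rw [← e, inv_mul_cancel_left]; exact ho
  haveI : Group.IsSolvable T :=
    Group.isSolvable_of_ker_le_range (O.subgroupOf T).subtype (QuotientGroup.mk' (O.subgroupOf T)) (by simp)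
  exact Group.isSolvable_of_isSolvable_injective (f := inclusion hCle) (inclusion_injective _)

end Helpers

/-- Let G be a finite group and H a non-normal subgroup meeting each of its conjugates by elements outside N_G(H) trivially, with the order of H coprime to its index in N_G(H); let π be the set of primes dividing the order of H and suppose G is π-separable (it has a chain of normal subgroups from 1 to G each of whose factors has order divisible only by primes in π or coprime to the order of H). Let O be the largest normal subgroup of G of order coprime to the order of H. Then G = O·N_G(H), O·H is normal in G, and G is solvable if and only if O is solvable and H has no subgroup isomorphic to SL₂(5). -/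
theorem result {G : Type*} [Group G] [Finite G] (H : Subgroup G)
    (hTI : Cfsg.IsTISubset (H : Set G)) (hnn : ¬ H.Normal)
    (hHall : (Nat.card H).Coprime (H.subgroupOf (Subgroup.normalizer (H : Set G))).index)
    (hsep : ∃ (n : ℕ) (M : Fin (n + 1) → Subgroup G), M 0 = ⊥ ∧ M (Fin.last n) = ⊤ ∧ Monotone M ∧ (∀ i, (M i).Normal) ∧
      ∀ i : Fin n, (∀ q : ℕ, q.Prime → q ∣ (M i.castSucc).relIndex (M i.succ) → q ∣ Nat.card H) ∨
        ((M i.castSucc).relIndex (M i.succ)).Coprime (Nat.card H))
    (O : Subgroup G) (hO : O = sSup {K : Subgroup G | K.Normal ∧ (Nat.card K).Coprime (Nat.card H)}) :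
    O ⊔ Subgroup.normalizer (H : Set G) = ⊤ ∧ (O ⊔ H).Normal ∧
    (Group.IsSolvable G ↔ Group.IsSolvable O ∧
      ∀ K : Subgroup G, K ≤ H → ¬ Nonempty (K ≃* Matrix.SpecialLinearGroup (Fin 2) (ZMod 5))) := by
  classical
  have hH : H ≠ ⊥ := fun e => hnn (by rw [e]; infer_instance)
  have hHallG := coprime_index hTI hHall
  obtain ⟨hOn, hOc, hOmax⟩ := core_props hO
  haveI := hOn
  have htop := sup_normalizer_eq_top hO hTI hH hHallG hsep
  have hFC := exists_complement hO hTI hH hnn hHallG htop
  refine ⟨htop, ⟨fun x hx g => ?_⟩, ⟨fun hG => ?_, fun ⟨hOs, hno⟩ => ?_⟩⟩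
  · have h1 : O ⊔ Subgroup.normalizer (H : Set G) ≤
        Subgroup.normalizer ((O ⊔ H : Subgroup G) : Set G) := by
      refine sup_le (le_sup_left.trans Subgroup.le_normalizer) fun n hn => ?_
      refine Subgroup.mem_normalizer_iff_map_conj_eq.2 ?_
      rw [Subgroup.map_sup, Subgroup.mem_normalizer_iff_map_conj_eq.1 hn]
      congr 1
      exact Subgroup.normalizer_eq_top_iff.2 hOn |> fun e =>
        Subgroup.mem_normalizer_iff_map_conj_eq.1 (e ▸ Subgroup.mem_top n)
    exact (Subgroup.mem_normalizer_iff.1 (h1 (htop ▸ Subgroup.mem_top g)) x).1 hx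
  · haveI := hG
    refine ⟨inferInstance, fun K hK ⟨e⟩ => SL25.not_isSolvable_SL25 ?_⟩
    exact Group.isSolvable_of_surjective (f := e.toMonoidHom) e.surjective
  · haveI := hOs
    have hHs : Group.IsSolvable H := by
      by_contra hns
      obtain ⟨K, ⟨e⟩⟩ := SL25.exists_SL25_of_complement hFC hns
      exact hno (K.map H.subtype) (Subgroup.map_subtype_le K)
        ⟨(Subgroup.equivMapOfInjective K H.subtype H.subtype_injective).symm.trans e⟩
    haveI := hHs
    haveI := SolvableAut.isSolvable_mulAut (SL25.thin_of_complement hFC)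
    have hC := isSolvable_centralizer hO hTI hHallG htop hOs hHs
    haveI := hC
    set N := Subgroup.normalizer (H : Set G) with hN
    haveI : Group.IsSolvable ((Subgroup.centralizer (H : Set G)).subgroupOf N) :=
      Group.isSolvable_of_isSolvable_injective
        (f := (Subgroup.subgroupOfEquivOfLe (Subgroup.centralizer_le_normalizer (H : Set G))).toMonoidHom)
        (MulEquiv.injective _)
    haveI : Group.IsSolvable N := Group.isSolvable_of_ker_le_range
      ((Subgroup.centralizer (H : Set G)).subgroupOf N).subtype H.normalizerMonoidHom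
      (by rw [Subgroup.normalizerMonoidHom_ker, Subgroup.range_subtype])
    haveI : Group.IsSolvable (G ⧸ O) := by
      refine Group.isSolvable_of_surjective (f := (QuotientGroup.mk' O).comp N.subtype) fun q => ?_
      obtain ⟨g, rfl⟩ := QuotientGroup.mk'_surjective O q
      obtain ⟨o, ho, m, hm, rfl⟩ := Subgroup.mem_sup_of_normal_left.1 (htop ▸ Subgroup.mem_top g)
      refine ⟨⟨m, hm⟩, ?_⟩
      show QuotientGroup.mk' O m = QuotientGroup.mk' O (o * m)
      rw [map_mul, show QuotientGroup.mk' O o = 1 from (QuotientGroup.eq_one_iff o).2 ho, one_mul]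
    exact Group.isSolvable_of_ker_le_range O.subtype (QuotientGroup.mk' O) (by simp)

end Cfsg.Agent.S4118
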