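import Cfsg.Statements.S4364
import Cfsg.Agent.Lib.CharInt.Kazarin
import Cfsg.Agent.Lib.PCore.Basic
import Cfsg.Agent.Lib.Components.PAction
import Cfsg.Agent.Lib.SylowCount.Basic

set_option autoImplicit false
open Cfsg

namespace Cfsg.Agent.S4364

universe u in
/-- When `O_p(G) = 1`, the conjugates of an element with `p`-power class commute. -/
theorem commute_conjugates {G : Type u} [Group G] [Finite G] (p : ℕ) [Fact p.Prime]
    (hcore : Cfsg.pCore p G = ⊥) (x : G)
    (hx : ∃ a : ℕ, (Subgroup.centralizer ({x} : Set G)).index = p ^ a) (g h : G) :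
    g * x * g⁻¹ * (h * x * h⁻¹) = h * x * h⁻¹ * (g * x * g⁻¹) := by
  set M := Subgroup.normalClosure ({x} : Set G) with hM
  haveI : Group.IsSolvable M :=
    CharInt.isSolvable_normalClosure_of_class_prime_pow (Nat.card G) le_rfl x Fact.out hx
  set F := Cfsg.fittingSubgroup G with hF
  haveI hFn : F.Normal := Subgroup.sSup_normal _ fun _ h => h.1
  have hFC : F ≤ Subgroup.centralizer ({x} : Set G) := by
    obtain ⟨a, ha⟩ := hx
    refine Subgroup.relIndex_eq_one.1 (Nat.eq_one_of_dvd_coprimes
      (Nat.Coprime.pow_right a (Components.coprime_card_fittingSubgroup hcore))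
      (Subgroup.index_dvd_card _) (ha ▸ ?_))
    rw [← SylowCount.relIndex_self_sup (Subgroup.centralizer ({x} : Set G)) F]
    exact ⟨_, (Subgroup.relIndex_mul_index le_sup_left).symm⟩
  have hMF : M ≤ Subgroup.centralizer (F : Set G) := by
    refine Subgroup.normalClosure_le_normal ?_
    rintro _ rfl
    rw [SetLike.mem_coe, Subgroup.mem_centralizer_iff]
    intro f hf
    exact Subgroup.mem_centralizer_singleton_iff.1 (hFC hf)
  have hMle : ∀ m ∈ M, m ∈ F := by
    intro m hm
    have h1 : (⟨m, hm⟩ : M) ∈ Subgroup.centralizer (Cfsg.fittingSubgroup M : Set M) := by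
      rw [Subgroup.mem_centralizer_iff]
      intro f hf
      rw [SetLike.mem_coe, Components.fittingSubgroup_subgroupOf_of_normal, Subgroup.mem_subgroupOf] at hf
      exact Subtype.ext (Subgroup.mem_centralizer_iff.1 (hMF hm) f hf)
    have h2 := Components.centralizer_fittingSubgroup_le h1
    rwa [Components.fittingSubgroup_subgroupOf_of_normal, Subgroup.mem_subgroupOf] at h2
  have hmem : ∀ c : G, c * x * c⁻¹ ∈ M := fun c =>
    (Subgroup.normalClosure_normal (s := ({x} : Set G))).conj_mem x (Subgroup.subset_normalClosure rfl) c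
  exact Subgroup.mem_centralizer_iff.1 (hMF (hmem h)) _ (hMle _ (hmem g))


/-- Let G be a finite group, p a prime and x an element whose conjugacy class has p-power size. Then for any two conjugates y and z of x, the commutator y z y⁻¹ z⁻¹ lies in O_p(G), the largest normal p-subgroup of G. -/
theorem result {G : Type*} [Group G] [Finite G] (p : ℕ) [Fact p.Prime]
    (x : G) (hx : ∃ a : ℕ, (Subgroup.centralizer ({x} : Set G)).index = p ^ a) (g h : G) :
    (g * x * g⁻¹) * (h * x * h⁻¹) * (g * x * g⁻¹)⁻¹ * (h * x * h⁻¹)⁻¹ ∈ Cfsg.pCore p G := by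
  obtain ⟨a, ha⟩ := hx
  rw [← QuotientGroup.eq_one_iff]
  set π := QuotientGroup.mk' (Cfsg.pCore p G)
  have hcore : Cfsg.pCore p (G ⧸ Cfsg.pCore p G) = ⊥ := PCore.pCore_quotient_self_eq_bot
  have hx' : ∃ b, (Subgroup.centralizer ({π x} : Set (G ⧸ Cfsg.pCore p G))).index = p ^ b := by
    have hle : (Subgroup.centralizer ({x} : Set G)).map π ≤ Subgroup.centralizer ({π x} : Set (G ⧸ Cfsg.pCore p G)) := by
      rintro _ ⟨u, hu, rfl⟩
      rw [SetLike.mem_coe, Subgroup.mem_centralizer_singleton_iff] at hu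
      rw [Subgroup.mem_centralizer_singleton_iff, ← map_mul, hu, map_mul]
    obtain ⟨b, -, hb⟩ := (Nat.dvd_prime_pow Fact.out).1 (ha ▸ (Subgroup.index_dvd_of_le hle).trans
      (Subgroup.index_map_dvd _ (QuotientGroup.mk'_surjective _)))
    exact ⟨b, hb⟩
  have key := commute_conjugates p hcore (π x) hx' (π g) (π h)
  show π _ = 1
  rw [map_mul, map_mul, map_mul, map_inv, map_inv, map_mul, map_mul, map_mul, map_mul, map_inv, map_inv,
    key]
  group

end Cfsg.Agent.S4364
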