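import Cfsg.Statements.S4125
import Cfsg.Agent.S4364
import Cfsg.Agent.Lib.LinRep.PPowerOrbits
import Cfsg.Agent.Lib.Transfer.CentralizerCount
import Cfsg.Agent.Lib.Transfer.Central
import Cfsg.Agent.Lib.Transfer.Burnside
import Cfsg.Agent.Lib.ClassCount.ConjIndex
import Cfsg.Agent.Lib.Coprime.Basic
import Cfsg.Agent.Lib.PCore.Basic

set_option autoImplicit false
open Cfsg

namespace Cfsg.Agent.S4125

open scoped commutatorElement

section Helpers

variable {G : Type*} [Group G] [Finite G] {q : ℕ} [Fact q.Prime]

omit [Finite G] [Fact q.Prime] in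
theorem isPGroup_zpowers {x : G} (hx : ∃ k : ℕ, orderOf x = q ^ k) :
    IsPGroup q (Subgroup.zpowers x) := by
  obtain ⟨k, hk⟩ := hx
  exact IsPGroup.of_card (n := k) (by rw [Nat.card_zpowers, hk])

omit [Finite G] in
theorem exists_orderOf_eq {H : Subgroup G} (hH : IsPGroup q H) {x : G} (hx : x ∈ H) :
    ∃ k : ℕ, orderOf x = q ^ k := by
  obtain ⟨k, hk⟩ := IsPGroup.iff_orderOf.1 hH ⟨x, hx⟩
  exact ⟨k, by rw [← hk, Subgroup.orderOf_mk]⟩

omit [Finite G] [Fact q.Prime] in
/-- A `q`-element centralising a Sylow `q`-subgroup lies in it. -/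
theorem mem_sylow_of_le_centralizer (R : Sylow q G) {x : G} (hx : ∃ k : ℕ, orderOf x = q ^ k)
    (h : (R : Subgroup G) ≤ Subgroup.centralizer ({x} : Set G)) : x ∈ (R : Subgroup G) := by
  have hle : Subgroup.zpowers x ≤ Subgroup.normalizer ((R : Subgroup G) : Set G) := by
    refine Subgroup.zpowers_le.2 (Subgroup.centralizer_le_normalizer _ (Subgroup.mem_centralizer_iff.2 ?_))
    intro r hr
    exact Subgroup.mem_centralizer_singleton_iff.1 (h hr)
  have hsup : IsPGroup q ((R : Subgroup G) ⊔ Subgroup.zpowers x : Subgroup G) :=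
    IsPGroup.to_sup_of_normal_left' R.2 (isPGroup_zpowers hx) hle
  exact (R.3 hsup le_sup_left) ▸ Subgroup.mem_sup_right (Subgroup.mem_zpowers x)

/-- A `q`-element whose class size is prime to `q` centralises `O_q(G)`. -/
theorem commute_pCore {x : G} (h : ¬ q ∣ (Subgroup.centralizer ({x} : Set G)).index) {y : G}
    (hy : y ∈ Cfsg.pCore q G) : y * x = x * y := by
  obtain ⟨R, hR⟩ := Transfer.exists_sylow_le_centralizer x h
  exact Subgroup.mem_centralizer_singleton_iff.1 (hR (PCore.pCore_le_sylow R hy))

/-- Wielandt: a `q`-element whose class size is a power of `q` lies in `O_q(G)`. -/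
theorem mem_pCore_of_index {x : G} (hx : ∃ k : ℕ, orderOf x = q ^ k) {a : ℕ}
    (ha : (Subgroup.centralizer ({x} : Set G)).index = q ^ a) : x ∈ Cfsg.pCore q G := by
  obtain ⟨R, hR⟩ := (isPGroup_zpowers hx).exists_le_sylow
  have hle : Subgroup.normalClosure ({x} : Set G) ≤ (R : Subgroup G) := by
    refine (Subgroup.closure_le _).2 ?_
    intro y hy
    obtain ⟨z, hz, hzy⟩ := Group.mem_conjugatesOfSet_iff.1 hy
    obtain rfl := Set.mem_singleton_iff.1 hz
    obtain ⟨g, rfl⟩ := isConj_iff.1 hzy
    obtain ⟨r, hr, c, hc, rfl⟩ := Solvable.exists_mul_of_coprime_index (H := (R : Subgroup G))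
      (K := Subgroup.centralizer ({z} : Set G)) (by
        rw [ha]
        exact (((Fact.out : q.Prime).coprime_iff_not_dvd.2 R.not_dvd_index).pow_left a).symm) g
    rw [show r * c * z * (r * c)⁻¹ = r * (c * z) * c⁻¹ * r⁻¹ by group,
      Subgroup.mem_centralizer_singleton_iff.1 hc,
      show r * (z * c) * c⁻¹ * r⁻¹ = r * z * r⁻¹ by group]
    exact mul_mem (mul_mem hr (hR (Subgroup.mem_zpowers z))) (inv_mem hr)
  exact PCore.le_pCore (R.2.to_le hle) (Subgroup.subset_normalClosure rfl)

omit [Finite G] in
theorem index_centralizer_conj (x g : G) :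
    (Subgroup.centralizer ({g * x * g⁻¹} : Set G)).index =
      (Subgroup.centralizer ({x} : Set G)).index := by
  rw [← Subgroup.relIndex_top_right, ClassCount.relIndex_centralizer_singleton,
    ← Subgroup.relIndex_top_right, ClassCount.relIndex_centralizer_singleton]
  congr 1
  ext y
  simp only [Set.mem_image, Subgroup.coe_top, Set.mem_univ, true_and]
  constructor
  · rintro ⟨h, rfl⟩
    exact ⟨h * g, by group⟩
  · rintro ⟨h, rfl⟩
    exact ⟨h * g⁻¹, by group⟩

/-- The prime of the class size is the same for commuting `q`-elements. -/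
theorem false_of_two_primes {x y : G} {p s a b c : ℕ} [Fact p.Prime] (hpq : p ≠ q)
    (hs : s.Prime) (hps : p ≠ s) (hb0 : b ≠ 0) (_hxy : Commute x y)
    (hy : ∃ k : ℕ, orderOf y = q ^ k) (ha : (Subgroup.centralizer ({x} : Set G)).index = p ^ a)
    (hb : (Subgroup.centralizer ({y} : Set G)).index = s ^ b)
    (hc : (Subgroup.centralizer ({x * y} : Set G)).index = p ^ c) : False := by
  classical
  have hp := Fact.out (p := p.Prime)
  set X := Subgroup.centralizer ({x} : Set G) with hX
  set Y := Subgroup.centralizer ({y} : Set G) with hY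
  have hcop : X.index.Coprime Y.index := by
    rw [ha, hb]
    exact ((Nat.coprime_primes hp hs).2 hps).pow a b
  have hinf : X ⊓ Y ≤ Subgroup.centralizer ({x * y} : Set G) := by
    intro g hg
    have h1 : g * x = x * g := Subgroup.mem_centralizer_singleton_iff.1 hg.1
    have h2 : g * y = y * g := Subgroup.mem_centralizer_singleton_iff.1 hg.2
    rw [Subgroup.mem_centralizer_singleton_iff, ← mul_assoc, h1, mul_assoc, h2, mul_assoc]
  have hdvd : p ^ c ∣ p ^ a * s ^ b := by
    rw [← hc, ← ha, ← hb, ← Solvable.index_mul_of_coprime hcop]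
    exact Subgroup.index_dvd_of_le hinf
  have hca : p ^ c ≤ p ^ a := Nat.le_of_dvd (pow_pos hp.pos _)
    ((((Nat.coprime_primes hp hs).2 hps).pow c b).dvd_of_dvd_mul_right hdvd)
  let S : G → Set G := fun u => (fun h : G => h * u * h⁻¹) '' Set.univ
  have hScard : ∀ u, (S u).ncard = (Subgroup.centralizer ({u} : Set G)).index := fun u => by
    rw [← Subgroup.relIndex_top_right, ClassCount.relIndex_centralizer_singleton,
      Subgroup.coe_top]
  have hprod : ∀ u ∈ S x, ∀ v ∈ S y, u * v ∈ S (x * y) := by
    rintro _ ⟨g, -, rfl⟩ _ ⟨h, -, rfl⟩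
    obtain ⟨v, hv, u, hu, huv⟩ := Solvable.exists_mul_of_coprime_index hcop.symm (h⁻¹ * g)
    refine ⟨h * v, trivial, ?_⟩
    have hu' : u * x = x * u := Subgroup.mem_centralizer_singleton_iff.1 hu
    have hv' : v * y = y * v := Subgroup.mem_centralizer_singleton_iff.1 hv
    have hg : g = h * v * u := by rw [mul_assoc, ← huv, mul_inv_cancel_left]
    show h * v * (x * y) * (h * v)⁻¹ = g * x * g⁻¹ * (h * y * h⁻¹)
    rw [hg, show h * v * u * x * (h * v * u)⁻¹ = h * v * (u * x) * (u⁻¹ * (v⁻¹ * h⁻¹)) by group,
      hu', show h * y * h⁻¹ = h * (v * y * v⁻¹) * h⁻¹ by rw [hv', mul_inv_cancel_right]]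
    group
  have heq : ∀ v ∈ S y, (fun u => u * v) '' S x = S (x * y) := by
    intro v hv
    refine Set.eq_of_subset_of_ncard_le (fun w ⟨u, hu, huw⟩ => huw ▸ hprod u hu v hv) ?_
      (Set.toFinite _)
    rw [Set.ncard_image_of_injective _ (mul_left_injective v), hScard, hScard, hc, ha]
    exact hca
  -- the translations preserving the class of `x`
  let W : Subgroup G :=
    { carrier := {w | ∀ u, u * w ∈ S x ↔ u ∈ S x}
      one_mem' := fun u => by rw [mul_one]
      mul_mem' := fun {w w'} h1 h2 u => by rw [← mul_assoc, h2, h1]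
      inv_mem' := fun {w} h1 u => by rw [← h1 (u * w⁻¹), inv_mul_cancel_right] }
  have hWn : W.Normal := ⟨fun w hw g u => by
    have hS : ∀ u, g⁻¹ * u * g ∈ S x ↔ u ∈ S x := by
      intro u
      constructor
      · rintro ⟨h, -, hh⟩
        have hh' : h * x * h⁻¹ = g⁻¹ * u * g := hh
        refine ⟨g * h, trivial, ?_⟩
        show g * h * x * (g * h)⁻¹ = u
        rw [show g * h * x * (g * h)⁻¹ = g * (h * x * h⁻¹) * g⁻¹ by group, hh']
        group
      · rintro ⟨h, -, rfl⟩
        exact ⟨g⁻¹ * h, trivial, by group⟩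
    rw [← hS, ← hS u, show g⁻¹ * (u * (g * w * g⁻¹)) * g = g⁻¹ * u * g * w by group]
    exact hw _⟩
  have hWdvd : Nat.card W ∣ p ^ a := by
    rw [← ha, hX, ← hScard, ← Nat.card_coe_set_eq]
    have hpre : (QuotientGroup.mk : G → G ⧸ W) ⁻¹' ((QuotientGroup.mk : G → G ⧸ W) '' S x) = S x := by
      refine subset_antisymm ?_ (Set.subset_preimage_image _ _)
      rintro u ⟨u', hu', he⟩
      have hw : u'⁻¹ * u ∈ W := QuotientGroup.eq.1 he
      exact mul_inv_cancel_left u' u ▸ (hw u').2 hu'
    rw [← hpre, Nat.card_congr (QuotientGroup.preimageMkEquivSubgroupProdSet W _), Nat.card_prod]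
    exact dvd_mul_right _ _
  have hWp : IsPGroup p W := by
    obtain ⟨j, -, hj⟩ := (Nat.dvd_prime_pow hp).1 hWdvd
    exact IsPGroup.of_card hj
  have hWY : W ≤ Y := by
    refine Subgroup.relIndex_eq_one.1 (Nat.eq_one_of_dvd_coprimes
      (((Nat.coprime_primes hp hs).2 hps).pow a b) ((Subgroup.index_dvd_card _).trans hWdvd)
      (?_ : Y.relIndex W ∣ s ^ b))
    rw [← hb]
    refine ⟨(W ⊔ Y).index, ?_⟩
    have h1 := Subgroup.relIndex_mul_index (inf_le_right : Y ⊓ W ≤ W)
    have h2 := Subgroup.relIndex_mul_index (inf_le_left : Y ⊓ W ≤ Y)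
    have h3 := Subgroup.relIndex_mul_index (le_sup_left : W ≤ W ⊔ Y)
    rw [Subgroup.inf_relIndex_right] at h1
    rw [Subgroup.inf_relIndex_left] at h2
    rw [Subgroup.relIndex_sup_left] at h3
    refine Nat.eq_of_mul_eq_mul_left (Nat.pos_of_ne_zero
      (left_ne_zero_of_mul (h3.trans_ne Subgroup.index_ne_zero_of_finite))) ?_
    rw [h2, ← h1, ← h3]
    ring
  obtain ⟨g, hg⟩ : ∃ g, g * y * g⁻¹ ≠ y := by
    by_contra! hall
    have htop : Y = ⊤ := eq_top_iff.2 fun g _ =>
      Subgroup.mem_centralizer_singleton_iff.2 (mul_inv_eq_iff_eq_mul.1 (hall g))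
    rw [htop, Subgroup.index_top] at hb
    exact hb0 (((Nat.pow_eq_one (n := b)).1 hb.symm).resolve_left hs.ne_one)
  set y' := g * y * g⁻¹ with hy'
  set w := y' * y⁻¹ with hw
  have hwW : w ∈ W := by
    have hy'S : y' ∈ S y := ⟨g, trivial, rfl⟩
    have hyS : y ∈ S y := ⟨1, trivial, by group⟩
    intro u
    constructor
    · intro hu
      have h2 : u * w * y ∈ (fun u => u * y') '' S x := by
        rw [heq y' hy'S, ← heq y hyS]
        exact ⟨u * w, hu, rfl⟩
      obtain ⟨v, hv, hv'⟩ := h2
      rw [hw, ← mul_assoc, inv_mul_cancel_right] at hv'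
      exact mul_right_cancel hv' ▸ hv
    · intro hu
      have h2 : u * y' ∈ (fun u => u * y) '' S x := by
        rw [heq y hyS, ← heq y' hy'S]
        exact ⟨u, hu, rfl⟩
      obtain ⟨v, hv, hv'⟩ := h2
      have hv2 : v = u * w := by
        rw [hw, ← mul_assoc, eq_mul_inv_iff_mul_eq]
        exact hv'
      exact hv2 ▸ hv
  have hcomm : Commute y' y⁻¹ := by
    have h1 : w * y = y * w := Subgroup.mem_centralizer_singleton_iff.1 (hWY hwW)
    rw [hw, inv_mul_cancel_right] at h1
    refine (show Commute y' y from ?_).inv_right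
    rw [commute_iff_eq]
    calc y' * y = (y * (y' * y⁻¹)) * y := by rw [← h1]
      _ = y * y' := by group
  obtain ⟨k, hk⟩ := hy
  have hy'o : orderOf y' = q ^ k := by
    rw [← hk]
    exact orderOf_injective (MulAut.conj g).toMonoidHom (MulAut.conj g).injective y
  have hwq : orderOf w ∣ q ^ k :=
    hcomm.orderOf_mul_dvd_lcm.trans
      (Nat.lcm_dvd (hy'o ▸ dvd_rfl) (by rw [orderOf_inv, hk]))
  obtain ⟨j, hj⟩ := exists_orderOf_eq hWp hwW
  have hw1 : orderOf w = 1 := Nat.eq_one_of_dvd_coprimes
    (((Nat.coprime_primes hp (Fact.out : q.Prime)).2 hpq).pow j k) (hj ▸ dvd_rfl) hwq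
  rw [orderOf_eq_one_iff, hw, mul_inv_eq_one] at hw1
  exact hg hw1

omit [Finite G] [Fact q.Prime] in
/-- An automorphism of order prime to `q` of an abelian `q`-group fixing the elements of order
`q` is trivial. -/
theorem apply_eq_self_of_fix_omega {A : Type*} [CommGroup A] (hA : IsPGroup q A) (α : MulAut A)
    {N : ℕ} (hN : α ^ N = 1) (hcop : N.Coprime q) (h : ∀ x : A, x ^ q = 1 → α x = x) (x : A) :
    α x = x := by
  obtain ⟨n, hn⟩ := hA x
  induction n generalizing x with
  | zero =>
    have hx : x = 1 := by simpa using hn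
    rw [hx, map_one]
  | succ n ih =>
    have hxq : α (x ^ q) = x ^ q := ih (x ^ q) (by rw [← pow_mul, ← pow_succ', hn])
    set c := α x * x⁻¹ with hc
    have hcq : c ^ q = 1 := by
      rw [hc, mul_pow, ← map_pow, hxq, inv_pow, mul_inv_cancel]
    have hαc := h c hcq
    have hiter : ∀ i : ℕ, (α ^ i) x = c ^ i * x := by
      intro i
      induction i with
      | zero => simp
      | succ i ihi =>
        rw [pow_succ', MulAut.mul_apply, ihi, map_mul, map_pow, hαc, pow_succ, mul_assoc,
          hc, inv_mul_cancel_right]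
    have h1 := hiter N
    rw [hN, MulAut.one_apply] at h1
    have hcN : c ^ N = 1 := mul_eq_right.1 h1.symm
    have hc1 : c = 1 := orderOf_eq_one_iff.1 (Nat.eq_one_of_dvd_coprimes hcop
      (orderOf_dvd_of_pow_eq_one hcN) (orderOf_dvd_of_pow_eq_one hcq))
    rwa [hc, mul_inv_eq_one] at hc1

theorem subsingleton_of_normal (R : Sylow q G)
    (h : (R : Subgroup G).Normal) : Subsingleton (Sylow q G) := by
  have := Sylow.unique_of_normal R h
  infer_instance

end Helpers

/-- The elements of order dividing `q`, written additively. -/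
def omegaAdd (q : ℕ) (A : Type*) [CommGroup A] : AddSubgroup (Additive A) where
  carrier := {x | q • x = 0}
  zero_mem' := nsmul_zero q
  add_mem' := fun {x y} hx hy => by
    show q • (x + y) = 0
    rw [nsmul_add, hx, hy, add_zero]
  neg_mem' := fun {x} hx => by
    show q • -x = 0
    rw [neg_nsmul, hx, neg_zero]

instance omegaAddModule (q : ℕ) (A : Type*) [CommGroup A] : Module (ZMod q) (omegaAdd q A) :=
  AddCommGroup.zmodModule fun x => Subtype.ext x.2

/-- A `q'`-group acting faithfully on an abelian `q`-group with all orbit sizes powers of a prime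
is solvable. -/
theorem isSolvable_of_mulAut {A K : Type*} [CommGroup A] [Finite A] [Group K] [Finite K]
    {q p : ℕ} [Fact q.Prime] [Fact p.Prime] (hA : IsPGroup q A) (φ : K →* MulAut A)
    (hφ : Function.Injective φ) (hcop : (Nat.card K).Coprime q)
    (horb : ∀ a : A, ∃ S : Subgroup K, (∀ k ∈ S, φ k a = a) ∧ ∃ j, S.index = p ^ j) :
    Group.IsSolvable K := by
  let act : K → ((omegaAdd q A) →ₗ[ZMod q] (omegaAdd q A)) := fun k => AddMonoidHom.toZModLinearMap q
    ({ toFun := fun x => ⟨Additive.ofMul (φ k (Additive.toMul (x : Additive A))), by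
        have hx : (Additive.toMul (x : Additive A)) ^ q = 1 := congrArg Additive.toMul x.2
        show q • Additive.ofMul (φ k (Additive.toMul (x : Additive A))) = 0
        rw [← ofMul_pow, ← map_pow, hx, map_one, ofMul_one]⟩
       map_zero' := Subtype.ext (by simp)
       map_add' := fun x y => Subtype.ext (by simp) } : (omegaAdd q A) →+ (omegaAdd q A))
  have hact : ∀ (k : K) (x : (omegaAdd q A)), ((act k x : (omegaAdd q A)) : Additive A) =
      Additive.ofMul (φ k (Additive.toMul (x : Additive A))) := fun k x => rfl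
  have hone : act 1 = 1 := LinearMap.ext fun x => Subtype.ext (by
    rw [hact, map_one, MulAut.one_apply]; rfl)
  have hmul : ∀ k k', act (k * k') = act k * act k' := fun k k' =>
    LinearMap.ext fun x => Subtype.ext (by
      rw [Module.End.mul_apply, hact, hact, hact, map_mul, MulAut.mul_apply]; rfl)
  let ρ : Representation (ZMod q) K (omegaAdd q A) :=
    { toFun := act
      map_one' := hone
      map_mul' := hmul }
  refine LinRep.PPowerOrbits.isSolvable_of_pPow (p := p) hcop ρ ?_ ?_
  · have hker : ∀ k, ρ k = 1 → k = 1 := by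
      intro k hk
      refine hφ ?_
      rw [map_one]
      refine MulEquiv.ext fun x => ?_
      refine apply_eq_self_of_fix_omega hA (φ k) (N := Nat.card K)
        (by rw [← map_pow, pow_card_eq_one', map_one]) hcop (fun y hy => ?_) x
      have hmem : Additive.ofMul y ∈ (omegaAdd q A) := by
        show q • Additive.ofMul y = 0
        rw [← ofMul_pow, hy, ofMul_one]
      have := congrArg (fun z : (omegaAdd q A) => Additive.toMul (z : Additive A))
        (LinearMap.congr_fun hk ⟨Additive.ofMul y, hmem⟩)
      simpa [ρ, act] using this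
    intro k k' hkk
    refine inv_mul_eq_one.1 (hker (k⁻¹ * k') ?_)
    rw [map_mul, ← hkk, ← map_mul, inv_mul_cancel, map_one]
  · intro v
    obtain ⟨S, hS, j, hj⟩ := horb (Additive.toMul (v : Additive A))
    have hle : S ≤ OrbitSpan.stab ρ v := fun k hk => by
      rw [OrbitSpan.mem_stab]
      exact Subtype.ext (by simpa [ρ, act] using congrArg Additive.ofMul (hS k hk))
    obtain ⟨i, -, hi⟩ :=
      (Nat.dvd_prime_pow (Fact.out : p.Prime)).1 (hj ▸ Subgroup.index_dvd_of_le hle)
    exact ⟨i, hi⟩



/-- Let G be a finite group and q a prime dividing its order such that every element of q-power order has a conjugacy class of prime-power size. Then G is q-solvable of q-length 1: there are normal subgroups K ≤ L of G with K of order prime to q, L/K a q-group and L of index prime to q. Moreover there is a prime p such that every element of q-power order has a class of p-power size (one prime serving for all of them), and for a Sylow q-subgroup Q: if p = q then Q is normal with a normal complement (a direct factor), while if p ≠ q then Q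 is abelian, the product of Q with the largest normal p-subgroup O_p(G) is normal in G, and G/O_{q'}(G) is solvable, where O_{q'}(G) is the largest normal subgroup of order prime to q. -/
theorem result {G : Type*} [Group G] [Finite G] (q : ℕ) [Fact q.Prime] (hq : q ∣ Nat.card G)
    (hBaer : ∀ x : G, (∃ k : ℕ, orderOf x = q ^ k) → ∃ (r : ℕ) (a : ℕ), r.Prime ∧ (Subgroup.centralizer ({x} : Set G)).index = r ^ a) (Q : Sylow q G) :
    (∃ K L : Subgroup G, K.Normal ∧ L.Normal ∧ K ≤ L ∧ (Nat.card K).Coprime q ∧ (∃ m : ℕ, K.relIndex L = q ^ m) ∧ L.index.Coprime q) ∧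
    ∃ p : ℕ, p.Prime ∧ (∀ x : G, (∃ k : ℕ, orderOf x = q ^ k) → ∃ a : ℕ, (Subgroup.centralizer ({x} : Set G)).index = p ^ a) ∧
      (p = q → (Q : Subgroup G).Normal ∧ ∃ N : Subgroup G, N.Normal ∧ N.IsComplement' (Q : Subgroup G)) ∧
      (p ≠ q → IsMulCommutative (Q : Subgroup G) ∧ (Cfsg.pCore p G ⊔ (Q : Subgroup G)).Normal ∧
        ∀ _h : (Cfsg.pPrimeCore q G).Normal, Group.IsSolvable (G ⧸ Cfsg.pPrimeCore q G)) := by
  classical
  have hqp := Fact.out (p := q.Prime)
  have hQcop : (Nat.card (Q : Subgroup G)).Coprime (Q : Subgroup G).index := Q.card_coprime_index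
  have hQindex : (Q : Subgroup G).index.Coprime q :=
    (hqp.coprime_iff_not_dvd.2 Q.not_dvd_index).symm
  -- the conclusion when `p = q`
  have assemble : (Q : Subgroup G).Normal → ∀ N : Subgroup G, N.Normal →
      N.IsComplement' (Q : Subgroup G) →
      (∀ x : G, (∃ k : ℕ, orderOf x = q ^ k) →
        ∃ a : ℕ, (Subgroup.centralizer ({x} : Set G)).index = q ^ a) →
      (∃ K L : Subgroup G, K.Normal ∧ L.Normal ∧ K ≤ L ∧ (Nat.card K).Coprime q ∧
        (∃ m : ℕ, K.relIndex L = q ^ m) ∧ L.index.Coprime q) ∧
      ∃ p : ℕ, p.Prime ∧ (∀ x : G, (∃ k : ℕ, orderOf x = q ^ k) →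
          ∃ a : ℕ, (Subgroup.centralizer ({x} : Set G)).index = p ^ a) ∧
        (p = q → (Q : Subgroup G).Normal ∧
          ∃ N : Subgroup G, N.Normal ∧ N.IsComplement' (Q : Subgroup G)) ∧
        (p ≠ q → IsMulCommutative (Q : Subgroup G) ∧ (Cfsg.pCore p G ⊔ (Q : Subgroup G)).Normal ∧
          ∀ _h : (Cfsg.pPrimeCore q G).Normal, Group.IsSolvable (G ⧸ Cfsg.pPrimeCore q G)) := by
    intro hQn N hN hcomp hcls
    obtain ⟨m, hm⟩ := Q.2.exists_card_eq
    refine ⟨⟨N, ⊤, hN, inferInstance, le_top, ?_, ⟨m, ?_⟩, by rw [Subgroup.index_top]; exact Nat.coprime_one_left q⟩,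
      q, hqp, hcls, fun _ => ⟨hQn, N, hN, hcomp⟩, fun h => absurd rfl h⟩
    · rw [← hcomp.index_eq_card]
      exact hQindex
    · rw [Subgroup.relIndex_top_right, hcomp.symm.index_eq_card, hm]
  have hQel : ∀ x ∈ (Q : Subgroup G), ∃ k : ℕ, orderOf x = q ^ k := fun x hx =>
    exists_orderOf_eq Q.2 hx
  have hnormQ : (Q : Subgroup G).Normal → ∀ x : G, (∃ k : ℕ, orderOf x = q ^ k) →
      x ∈ (Q : Subgroup G) := by
    intro hQn x hx
    obtain ⟨R, hR⟩ := (isPGroup_zpowers hx).exists_le_sylow
    have := subsingleton_of_normal Q hQn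
    rw [Subsingleton.elim Q R]
    exact hR (Subgroup.mem_zpowers x)
  by_cases hI : ∃ y a, (∃ k : ℕ, orderOf y = q ^ k) ∧ a ≠ 0 ∧
      (Subgroup.centralizer ({y} : Set G)).index = q ^ a
  · -- a noncentral `q`-element with `q`-power class
    obtain ⟨y0, a0, hy0, ha0, hi0⟩ := hI
    have hy0O : y0 ∈ Cfsg.pCore q G := mem_pCore_of_index hy0 hi0
    have hq0 : q ∣ (Subgroup.centralizer ({y0} : Set G)).index := hi0 ▸ dvd_pow_self q ha0
    have hcase : ∀ x, (∃ k : ℕ, orderOf x = q ^ k) →
        ¬ q ∣ (Subgroup.centralizer ({x} : Set G)).index →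
        x ∈ Subgroup.centralizer (Cfsg.pCore q G : Set G) := fun x _ h =>
      Subgroup.mem_centralizer_iff.2 fun y hy => commute_pCore h hy
    have hpow : ∀ x, (∃ k : ℕ, orderOf x = q ^ k) →
        q ∣ (Subgroup.centralizer ({x} : Set G)).index →
        ∃ a, (Subgroup.centralizer ({x} : Set G)).index = q ^ a := by
      intro x hx hd
      obtain ⟨r, a, hr, hra⟩ := hBaer x hx
      rw [hra] at hd
      obtain rfl := (Nat.prime_dvd_prime_iff_eq hqp hr).1 (hqp.dvd_of_dvd_pow hd)
      exact ⟨a, hra⟩
    have hsplit : ∀ x ∈ (Q : Subgroup G), x ∈ Cfsg.pCore q G ∨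
        x ∈ Subgroup.centralizer (Cfsg.pCore q G : Set G) := by
      intro x hx
      by_cases hd : q ∣ (Subgroup.centralizer ({x} : Set G)).index
      · obtain ⟨a, ha⟩ := hpow x (hQel x hx) hd
        exact Or.inl (mem_pCore_of_index (hQel x hx) ha)
      · exact Or.inr (hcase x (hQel x hx) hd)
    have hQO : (Q : Subgroup G) = Cfsg.pCore q G := by
      refine le_antisymm ?_ (PCore.pCore_le_sylow Q)
      by_contra hne
      obtain ⟨u, huQ, huO⟩ := SetLike.not_le_iff_exists.1 hne
      have huC := (hsplit u huQ).resolve_left huO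
      have hQC : (Q : Subgroup G) ≤ Subgroup.centralizer (Cfsg.pCore q G : Set G) := by
        intro v hv
        rcases hsplit v hv with hvO | hvC
        · rcases hsplit (u * v) (mul_mem huQ hv) with h | h
          · exact absurd ((Subgroup.mul_mem_cancel_right _ hvO).1 h) huO
          · exact (Subgroup.mul_mem_cancel_left _ huC).1 h
        · exact hvC
      exact Q.not_dvd_index (hq0.trans (Subgroup.index_dvd_of_le fun v hv =>
        Subgroup.mem_centralizer_singleton_iff.2
          (Subgroup.mem_centralizer_iff.1 (hQC hv) y0 hy0O).symm))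
    have hQn : (Q : Subgroup G).Normal := hQO ▸ Subgroup.sSup_normal _ fun _ h => h.1
    obtain ⟨K, hK⟩ := Subgroup.exists_right_complement'_of_coprime hQcop
    have hKcard : Nat.card K = (Q : Subgroup G).index := hK.symm.index_eq_card.symm
    -- every element of `Q` is central in `Q` or is conjugate into `C(K)`
    set D : Subgroup (Q : Subgroup G) :=
      (Subgroup.centralizer (K : Set G)).subgroupOf (Q : Subgroup G) with hD
    have hcover : ∀ x : (Q : Subgroup G), x ∈ Subgroup.center (Q : Subgroup G) ∨
        ∃ y : (Q : Subgroup G), y⁻¹ * x * y ∈ D := by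
      intro x
      by_cases hd : q ∣ (Subgroup.centralizer ({(x : G)} : Set G)).index
      · right
        obtain ⟨a, ha⟩ := hpow x (hQel x x.2) hd
        set C := Subgroup.centralizer ({(x : G)} : Set G) with hC
        have hN0 : ((Q : Subgroup G).subgroupOf C).index = (Q : Subgroup G).index := by
          have htop : (Q : Subgroup G) ⊔ C = ⊤ := eq_top_iff.2 fun g _ => by
            obtain ⟨u, hu, v, hv, rfl⟩ := Solvable.exists_mul_of_coprime_index
              (H := (Q : Subgroup G)) (K := C) (by rw [ha]; exact hQindex.pow_right a) g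
            exact Subgroup.mul_mem_sup hu hv
          show (Q : Subgroup G).relIndex C = _
          rw [← Subgroup.relIndex_sup_left, htop, Subgroup.relIndex_top_right]
        obtain ⟨K0, hK0⟩ := Subgroup.exists_right_complement'_of_coprime
          (N := (Q : Subgroup G).subgroupOf C) (by
            rw [hN0]
            exact hQcop.coprime_dvd_left
              (Subgroup.card_comap_dvd_of_injective _ C.subtype C.subtype_injective))
        have hK'card : Nat.card (K0.map C.subtype) = (Q : Subgroup G).index := by
          rw [Subgroup.card_map_of_injective C.subtype_injective, ← hK0.symm.index_eq_card, hN0]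
        have hK' : Subgroup.IsComplement' (Q : Subgroup G) (K0.map C.subtype) :=
          Subgroup.isComplement'_of_coprime
            (by rw [hK'card, Subgroup.card_mul_index]) (by rw [hK'card]; exact hQcop)
        have hsol : Group.IsSolvable (Q : Subgroup G) ∨ Group.IsSolvable (G ⧸ (Q : Subgroup G)) := by
          have := Q.2.isNilpotent
          exact Or.inl inferInstance
        obtain ⟨g, hg, hgK⟩ := Coprime.exists_conj_eq_of_isComplement' hQcop hsol hK hK'
        refine ⟨⟨g, hg⟩, Subgroup.mem_subgroupOf.2 (Subgroup.mem_centralizer_iff.2 fun k hk => ?_)⟩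
        have hmem : MulAut.conj g • k ∈ K0.map C.subtype :=
          hgK ▸ Subgroup.smul_mem_pointwise_smul k _ _ hk
        have h1 : MulAut.conj g • k * (x : G) = (x : G) * MulAut.conj g • k :=
          Subgroup.mem_centralizer_singleton_iff.1 (Subgroup.map_subtype_le _ hmem)
        rw [show MulAut.conj g • k = g * k * g⁻¹ from rfl] at h1
        show k * (g⁻¹ * (x : G) * g) = g⁻¹ * (x : G) * g * k
        calc k * (g⁻¹ * (x : G) * g) = g⁻¹ * (g * k * g⁻¹ * (x : G)) * g := by group
          _ = g⁻¹ * ((x : G) * (g * k * g⁻¹)) * g := by rw [h1]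
          _ = _ := by group
      · left
        obtain ⟨R, hR⟩ := Transfer.exists_sylow_le_centralizer _ hd
        have := subsingleton_of_normal Q hQn
        rw [Subsingleton.elim R Q] at hR
        exact Subgroup.mem_center_iff.2 fun y =>
          Subtype.ext (Subgroup.mem_centralizer_singleton_iff.1 (hR y.2))
    have hZD : Subgroup.center (Q : Subgroup G) ⊔ D = ⊤ := by
      by_contra hne
      obtain ⟨M, hM, hle⟩ := (eq_top_or_exists_le_coatom _).resolve_left hne
      have hMn : M.Normal := PGroup.normal_of_isCoatom Q.2 hM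
      refine hM.1 (eq_top_iff.2 fun x _ => ?_)
      rcases hcover x with h | ⟨y, hy⟩
      · exact hle (Subgroup.mem_sup_left h)
      · have := hMn.conj_mem _ (hle (Subgroup.mem_sup_right hy)) y
        simpa [mul_assoc] using this
    have hDconj : ∀ y, ∀ d ∈ D, y * d * y⁻¹ ∈ D := by
      intro y d hd
      obtain ⟨c, hc, e, he, rfl⟩ := Subgroup.mem_sup_of_normal_left.1 (hZD ▸ Subgroup.mem_top y :
        y ∈ Subgroup.center (Q : Subgroup G) ⊔ D)
      rw [show c * e * d * (c * e)⁻¹ = c * (e * d * e⁻¹) * c⁻¹ by group,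
        ← Subgroup.mem_center_iff.1 hc (e * d * e⁻¹), mul_inv_cancel_right]
      exact mul_mem (mul_mem he hd) (inv_mem he)
    have hcover' : ∀ x : (Q : Subgroup G), x ∈ Subgroup.center (Q : Subgroup G) ∨ x ∈ D := by
      intro x
      rcases hcover x with h | ⟨y, hy⟩
      · exact Or.inl h
      · right
        have := hDconj y _ hy
        simpa [mul_assoc] using this
    have hQK : (Q : Subgroup G) ≤ Subgroup.centralizer (K : Set G) := by
      by_contra hne
      obtain ⟨u, huQ, huC⟩ := SetLike.not_le_iff_exists.1 hne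
      have huD : (⟨u, huQ⟩ : (Q : Subgroup G)) ∉ D := fun h => huC (Subgroup.mem_subgroupOf.1 h)
      have huZ := (hcover' ⟨u, huQ⟩).resolve_right huD
      have hall : ∀ v : (Q : Subgroup G), v ∈ Subgroup.center (Q : Subgroup G) := by
        intro v
        rcases hcover' v with h | h
        · exact h
        · rcases hcover' (⟨u, huQ⟩ * v) with h' | h'
          · exact (Subgroup.mul_mem_cancel_left _ huZ).1 h'
          · exact absurd ((Subgroup.mul_mem_cancel_right _ h).1 h') huD
      have hy0Q : y0 ∈ (Q : Subgroup G) := hQO ▸ hy0O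
      exact Q.not_dvd_index (hq0.trans (Subgroup.index_dvd_of_le fun v hv =>
        Subgroup.mem_centralizer_singleton_iff.2
          (congrArg Subtype.val (Subgroup.mem_center_iff.1 (hall ⟨y0, hy0Q⟩) ⟨v, hv⟩))))
    have hKn : K.Normal := by
      refine Subgroup.normalizer_eq_top_iff.1 (top_le_iff.1 ?_)
      rw [← hK.sup_eq_top]
      exact sup_le (hQK.trans (Subgroup.centralizer_le_normalizer _)) Subgroup.le_normalizer
    refine assemble hQn K hKn hK.symm fun x hx => ?_
    have hKC : K ≤ Subgroup.centralizer ({x} : Set G) := fun k hk =>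
      Subgroup.mem_centralizer_singleton_iff.2
        (Subgroup.mem_centralizer_iff.1 (hQK (hnormQ hQn x hx)) k hk)
    obtain ⟨m, hm⟩ := Q.2.exists_card_eq
    have hd : (Subgroup.centralizer ({x} : Set G)).index ∣ q ^ m := by
      rw [← hm, ← hK.index_eq_card]
      exact Subgroup.index_dvd_of_le hKC
    obtain ⟨i, -, hi⟩ := (Nat.dvd_prime_pow hqp).1 hd
    exact ⟨i, hi⟩
  · -- all classes of `q`-elements have size prime to `q`
    have hndvd : ∀ x, (∃ k : ℕ, orderOf x = q ^ k) →
        ¬ q ∣ (Subgroup.centralizer ({x} : Set G)).index := by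
      intro x hx hd
      obtain ⟨r, a, hr, hra⟩ := hBaer x hx
      rw [hra] at hd
      obtain rfl := (Nat.prime_dvd_prime_iff_eq hqp hr).1 (hqp.dvd_of_dvd_pow hd)
      refine hI ⟨x, a, hx, fun ha => ?_, hra⟩
      rw [ha, pow_zero] at hd
      exact hqp.not_dvd_one hd
    by_cases hcen : ∀ x, (∃ k : ℕ, orderOf x = q ^ k) →
        (Subgroup.centralizer ({x} : Set G)).index = 1
    · have hQZ : ∀ x ∈ (Q : Subgroup G), ∀ g : G, g * x = x * g := fun x hx g =>
        Subgroup.mem_centralizer_singleton_iff.1
          ((Subgroup.index_eq_one.1 (hcen x (hQel x hx))) ▸ Subgroup.mem_top g)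
      have hQn : (Q : Subgroup G).Normal :=
        ⟨fun x hx g => by rwa [hQZ x hx g, mul_inv_cancel_right]⟩
      obtain ⟨R, N, hN, hcomp⟩ := Transfer.hasNormalPComplement_of_normalizer_le_centralizer Q
        fun g _ => Subgroup.mem_centralizer_iff.2 fun x hx => (hQZ x hx g).symm
      have := subsingleton_of_normal Q hQn
      rw [Subsingleton.elim R Q] at hcomp
      exact assemble hQn N hN hcomp fun x hx => ⟨0, by rw [pow_zero, hcen x hx]⟩
    · push Not at hcen
      obtain ⟨x0, hx0, hx0i⟩ := hcen
      obtain ⟨p, a, hp, ha⟩ := hBaer x0 hx0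
      have ha0 : a ≠ 0 := fun h => hx0i (by rw [ha, h, pow_zero])
      have hpq : p ≠ q := fun h => hndvd x0 hx0 (by rw [ha, ← h]; exact dvd_pow_self p ha0)
      have : Fact p.Prime := ⟨hp⟩
      -- a single prime serves
      have hall : ∀ y : G, (∃ k : ℕ, orderOf y = q ^ k) →
          ∃ b : ℕ, (Subgroup.centralizer ({y} : Set G)).index = p ^ b := by
        intro y hy
        obtain ⟨s, b, hs, hb⟩ := hBaer y hy
        by_cases hb0 : b = 0
        · exact ⟨0, by rw [hb, hb0, pow_zero, pow_zero]⟩
        by_cases hsp : s = p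
        · exact ⟨b, hsp ▸ hb⟩
        exfalso
        have hsq : s ≠ q := fun h => hndvd y hy (by rw [hb, ← h]; exact dvd_pow_self s hb0)
        obtain ⟨R1, hR1⟩ := Transfer.exists_sylow_le_centralizer x0 (hndvd x0 hx0)
        obtain ⟨R2, hR2⟩ := Transfer.exists_sylow_le_centralizer y (hndvd y hy)
        obtain ⟨g, hg⟩ := MulAction.exists_smul_eq G R2 R1
        set y' := g * y * g⁻¹ with hy'
        have hy'q : ∃ k : ℕ, orderOf y' = q ^ k := by
          obtain ⟨k, hk⟩ := hy
          exact ⟨k, hk ▸ orderOf_injective (MulAut.conj g).toMonoidHom (MulAut.conj g).injective y⟩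
        have hy'i : (Subgroup.centralizer ({y'} : Set G)).index = s ^ b := by
          rw [hy', index_centralizer_conj, hb]
        have hx0R := mem_sylow_of_le_centralizer R1 hx0 hR1
        have hy'R : (R1 : Subgroup G) ≤ Subgroup.centralizer ({y'} : Set G) := by
          intro r hr
          rw [← hg, Sylow.coe_subgroup_smul] at hr
          obtain ⟨r2, hr2, rfl⟩ := (Subgroup.mem_smul_pointwise_iff_exists _ _ _).1 hr
          rw [Subgroup.mem_centralizer_singleton_iff, MulAut.smul_def, MulAut.conj_apply, hy']
          have h1 : r2 * y = y * r2 := Subgroup.mem_centralizer_singleton_iff.1 (hR2 hr2)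
          calc g * r2 * g⁻¹ * (g * y * g⁻¹) = g * (r2 * y) * g⁻¹ := by group
            _ = g * (y * r2) * g⁻¹ := by rw [h1]
            _ = g * y * g⁻¹ * (g * r2 * g⁻¹) := by group
        have hy'mem := mem_sylow_of_le_centralizer R1 hy'q hy'R
        have hcm : Commute x0 y' := Subgroup.mem_centralizer_singleton_iff.1 (hy'R hx0R)
        clear_value y'
        obtain ⟨t, c, ht, hc⟩ := hBaer (x0 * y') (exists_orderOf_eq R1.2 (mul_mem hx0R hy'mem))
        have hps : p ≠ s := Ne.symm hsp
        have hcop : (Subgroup.centralizer ({x0} : Set G)).index.Coprime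
            (Subgroup.centralizer ({y'} : Set G)).index := by
          rw [ha, hy'i]
          exact ((Nat.coprime_primes hp hs).2 hps).pow a b
        rcases Nat.eq_zero_or_pos c with hc0 | hc0
        · rw [hc0, pow_zero, Subgroup.index_eq_one] at hc
          have heq : Subgroup.centralizer ({x0} : Set G) = Subgroup.centralizer ({y'} : Set G) := by
            ext g'
            have h1 : g' * (x0 * y') = x0 * y' * g' :=
              Subgroup.mem_centralizer_singleton_iff.1 (hc ▸ Subgroup.mem_top g')
            rw [Subgroup.mem_centralizer_singleton_iff, Subgroup.mem_centralizer_singleton_iff]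
            constructor
            · intro h2
              rw [← mul_assoc, h2, mul_assoc, mul_assoc] at h1
              exact mul_left_cancel h1
            · intro h2
              rw [mul_assoc x0 y' g', ← h2, ← mul_assoc, ← mul_assoc] at h1
              exact mul_right_cancel h1
          rw [← heq, ha] at hy'i
          have hd : p ∣ s ^ b := hy'i ▸ dvd_pow_self p ha0
          exact hps ((Nat.prime_dvd_prime_iff_eq hp hs).1 (hp.dvd_of_dvd_pow hd))
        · have hdvd : t ∣ p ^ a * s ^ b := by
            refine (dvd_pow_self t hc0.ne').trans ?_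
            rw [← hc, ← ha, ← hy'i, ← Solvable.index_mul_of_coprime hcop]
            refine Subgroup.index_dvd_of_le ?_
            intro g' hg'
            have h1 : g' * x0 = x0 * g' := Subgroup.mem_centralizer_singleton_iff.1 hg'.1
            have h2 : g' * y' = y' * g' := Subgroup.mem_centralizer_singleton_iff.1 hg'.2
            rw [Subgroup.mem_centralizer_singleton_iff, ← mul_assoc, h1, mul_assoc, h2, mul_assoc]
          rcases ht.dvd_mul.1 hdvd with h | h
          · obtain rfl := (Nat.prime_dvd_prime_iff_eq ht hp).1 (ht.dvd_of_dvd_pow h)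
            exact false_of_two_primes hpq hs hps hb0 hcm hy'q ha hy'i hc
          · obtain rfl := (Nat.prime_dvd_prime_iff_eq ht hs).1 (ht.dvd_of_dvd_pow h)
            have : Fact t.Prime := ⟨hs⟩
            rw [hcm.eq] at hc
            exact false_of_two_primes hsq hp hsp ha0 hcm.symm hx0 hy'i ha hc
      -- pass to `G ⧸ O_p(G)`
      set O := Cfsg.pCore p G with hO
      have hOn : O.Normal := Subgroup.sSup_normal _ fun _ h => h.1
      obtain ⟨o, ho⟩ := PCore.exists_card_pCore (p := p) (G := G)
      have hOcard : (Nat.card O).Coprime q := by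
        rw [ho]
        exact ((Nat.coprime_primes hp hqp).2 hpq).pow_left o
      have hdisj : ∀ x ∈ (Q : Subgroup G), x ∈ O → x = 1 := fun x h1 h2 => by
        have h3 : (Nat.card (Q : Subgroup G)).Coprime (Nat.card O) := by
          obtain ⟨m, hm⟩ := Q.2.exists_card_eq
          rw [hm]
          exact hOcard.symm.pow_left m
        exact Subgroup.mem_bot.1
          ((Subgroup.disjoint_of_coprime_natCard h3).eq_bot ▸ Subgroup.mem_inf.2 ⟨h1, h2⟩)
      set π := QuotientGroup.mk' O with hπ
      have hπs : Function.Surjective π := QuotientGroup.mk'_surjective O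
      have hbar : ∀ x ∈ (Q : Subgroup G), π x ∈ Cfsg.pCore q (G ⧸ O) := by
        intro x hx
        have hclass : ∃ b : ℕ,
            (Subgroup.centralizer ({π x} : Set (G ⧸ O))).index = p ^ b := by
          obtain ⟨b, hb⟩ := hall x (hQel x hx)
          have hle : (Subgroup.centralizer ({x} : Set G)).map π ≤
              Subgroup.centralizer ({π x} : Set (G ⧸ O)) := by
            rintro _ ⟨u, hu, rfl⟩
            rw [SetLike.mem_coe, Subgroup.mem_centralizer_singleton_iff] at hu
            rw [Subgroup.mem_centralizer_singleton_iff, ← map_mul, hu, map_mul]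
          obtain ⟨j, -, hj⟩ := (Nat.dvd_prime_pow hp).1 (hb ▸ (Subgroup.index_dvd_of_le hle).trans
            (Subgroup.index_map_dvd _ hπs))
          exact ⟨j, hj⟩
        have hcm : ∀ u ∈ Group.conjugatesOfSet ({π x} : Set (G ⧸ O)),
            ∀ v ∈ Group.conjugatesOfSet ({π x} : Set (G ⧸ O)), u * v = v * u := by
          intro u hu v hv
          obtain ⟨u', hu', huc⟩ := Group.mem_conjugatesOfSet_iff.1 hu
          obtain ⟨v', hv', hvc⟩ := Group.mem_conjugatesOfSet_iff.1 hv
          obtain rfl := Set.mem_singleton_iff.1 hu'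
          obtain rfl := Set.mem_singleton_iff.1 hv'
          obtain ⟨g, rfl⟩ := isConj_iff.1 huc
          obtain ⟨h, rfl⟩ := isConj_iff.1 hvc
          exact S4364.commute_conjugates p PCore.pCore_quotient_self_eq_bot (π x) hclass g h
        have hcomm := Subgroup.isMulCommutative_closure hcm
        refine PCore.le_pCore (N := Subgroup.normalClosure ({π x} : Set (G ⧸ O))) ?_
          (Subgroup.subset_normalClosure rfl)
        intro u
        obtain ⟨k, hk⟩ := hQel x hx
        refine ⟨k, Subtype.ext ?_⟩
        have hu : ∀ w ∈ Subgroup.closure (Group.conjugatesOfSet ({π x} : Set (G ⧸ O))),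
            w ^ q ^ k = 1 := by
          intro w hw
          induction hw using Subgroup.closure_induction with
          | mem v hv =>
            obtain ⟨v', hv', hvc⟩ := Group.mem_conjugatesOfSet_iff.1 hv
            obtain rfl := Set.mem_singleton_iff.1 hv'
            obtain ⟨h, rfl⟩ := isConj_iff.1 hvc
            rw [conj_pow, ← map_pow, ← hk, pow_orderOf_eq_one, map_one, mul_one, mul_inv_cancel]
          | one => exact one_pow _
          | mul v v' hv hv' h1 h2 =>
            rw [Commute.mul_pow (congrArg Subtype.val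
              (hcomm.is_comm.comm ⟨v, hv⟩ ⟨v', hv'⟩)), h1, h2, one_mul]
          | inv v _ h1 => rw [inv_pow, h1, inv_one]
        rw [SubmonoidClass.coe_pow]
        exact hu u u.2
      set Qb := (Q : Subgroup G).map π with hQb
      have hQbeq : Qb = Cfsg.pCore q (G ⧸ O) := by
        refine le_antisymm (fun w ⟨x, hx, hxw⟩ => hxw ▸ hbar x hx) ?_
        have := PCore.pCore_le_sylow (Q.mapSurjective hπs)
        rwa [Sylow.coe_mapSurjective] at this
      have hQbn : Qb.Normal := hQbeq ▸ Subgroup.sSup_normal _ fun _ h => h.1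
      have hQab : ∀ x ∈ (Q : Subgroup G), ∀ y ∈ (Q : Subgroup G), x * y = y * x := by
        intro x hx y hy
        obtain ⟨R, hR⟩ := Transfer.exists_sylow_le_centralizer x (hndvd x (hQel x hx))
        have hsub := subsingleton_of_normal (Q.mapSurjective hπs)
          (by rwa [Sylow.coe_mapSurjective])
        have hmem : π y ∈ (R : Subgroup G).map π := by
          rw [← Sylow.coe_mapSurjective hπs R, Subsingleton.elim (R.mapSurjective hπs)
            (Q.mapSurjective hπs), Sylow.coe_mapSurjective]
          exact Subgroup.mem_map_of_mem π hy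
        obtain ⟨r, hr, hry⟩ := hmem
        have hπeq : π (x * y * (y * x)⁻¹) = 1 := by
          rw [map_mul, map_inv, map_mul, map_mul, ← hry, ← map_mul, ← map_mul,
            Subgroup.mem_centralizer_singleton_iff.1 (hR hr), mul_inv_cancel]
        exact mul_inv_eq_one.1 (hdisj _ (mul_mem (mul_mem hx hy) (inv_mem (mul_mem hy hx)))
          (by rwa [hπ, QuotientGroup.mk'_apply, QuotientGroup.eq_one_iff] at hπeq))
      have hL : (O ⊔ (Q : Subgroup G)).Normal := by
        have h := hQbn.comap π
        rwa [hQb, Subgroup.comap_map_eq, hπ, QuotientGroup.ker_mk', sup_comm] at h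
      have hLindex : (O ⊔ (Q : Subgroup G)).index ∣ (Q : Subgroup G).index :=
        Subgroup.index_dvd_of_le le_sup_right
      refine ⟨⟨O, O ⊔ (Q : Subgroup G), hOn, hL, le_sup_left, hOcard, ?_,
        hQindex.coprime_dvd_left hLindex⟩, p, hp, hall, fun h => absurd h hpq, fun _ => ⟨⟨⟨?_⟩⟩, hL, ?_⟩⟩
      · obtain ⟨m, hm⟩ := Q.2.exists_card_eq
        rw [Subgroup.relIndex_sup_left]
        obtain ⟨i, -, hi⟩ := (Nat.dvd_prime_pow hqp).1
          (hm ▸ Subgroup.index_dvd_card (O.subgroupOf (Q : Subgroup G)))
        exact ⟨i, hi⟩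
      · rintro ⟨x, hx⟩ ⟨y, hy⟩
        exact Subtype.ext (hQab x hx y hy)
      · intro hEn
        set E := Cfsg.pPrimeCore q G with hE
        have hQbab : IsMulCommutative Qb := ⟨⟨by
          rintro ⟨_, x, hx, rfl⟩ ⟨_, y, hy, rfl⟩
          exact Subtype.ext (by
            show π x * π y = π y * π x
            rw [← map_mul, hQab x hx y hy, map_mul])⟩⟩
        open scoped IsMulCommutative in
        have hsolK : Group.IsSolvable (G ⧸ ((MulAut.conjNormal (H := Qb)).comp π).ker) := by
          set φ := (MulAut.conjNormal (H := Qb)).comp π with hφ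
          refine isSolvable_of_mulAut (q := q) (p := p) (A := Qb) (Q.2.map π)
            (QuotientGroup.kerLift φ) (QuotientGroup.kerLift_injective φ) ?_ ?_
          · rw [← Subgroup.index_eq_card]
            refine hQindex.coprime_dvd_left (Subgroup.index_dvd_of_le fun x hx => ?_)
            refine MonoidHom.mem_ker.2 (MulEquiv.ext fun w => Subtype.ext ?_)
            obtain ⟨_, y, hy, rfl⟩ := w
            show π x * π y * (π x)⁻¹ = π y
            rw [← map_mul, hQab x hx y hy, map_mul, mul_inv_cancel_right]
          · rintro ⟨_, y, hy, rfl⟩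
            obtain ⟨b, hb⟩ := hall y (hQel y hy)
            refine ⟨(Subgroup.centralizer ({y} : Set G)).map (QuotientGroup.mk' φ.ker), ?_, ?_⟩
            · rintro _ ⟨g, hg, rfl⟩
              apply Subtype.ext
              show π g * π y * (π g)⁻¹ = π y
              rw [← map_mul, Subgroup.mem_centralizer_singleton_iff.1 hg, map_mul,
                mul_inv_cancel_right]
            · obtain ⟨j, -, hj⟩ := (Nat.dvd_prime_pow hp).1
                (hb ▸ Subgroup.index_map_dvd _ (QuotientGroup.mk'_surjective φ.ker))
              exact ⟨j, hj⟩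
        set Kr := ((MulAut.conjNormal (H := Qb)).comp π).ker with hKr
        -- `E` centralises `Q̄`
        have hEKr : E ≤ Kr := by
          intro e he
          refine MonoidHom.mem_ker.2 (MulEquiv.ext fun w => Subtype.ext ?_)
          obtain ⟨_, y, hy, rfl⟩ := w
          show π e * π y * (π e)⁻¹ = π y
          have hEbn : (E.map π).Normal := hEn.map π hπs
          have hd : Disjoint (E.map π) Qb := by
            refine Subgroup.disjoint_of_coprime_natCard ?_
            obtain ⟨m, hm⟩ := (Q.2.map π).exists_card_eq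
            rw [hQb, hm]
            exact ((PCore.coprime_card_pPrimeCore (p := q) (G := G)).coprime_dvd_left
              (Subgroup.card_map_dvd E π)).pow_right m
          rw [PCore.commute_of_normal_of_disjoint hEbn hQbn hd (Subgroup.mem_map_of_mem π he)
            (Subgroup.mem_map_of_mem π hy), mul_inv_cancel_right]
        -- `Kr / E` is abelian
        have hcommKr : ∀ x ∈ Kr, ∀ y ∈ Kr, ⁅x, y⁆ ∈ E := by
          set C := Subgroup.centralizer (Qb : Set (G ⧸ O)) with hCdef
          have hKrC : ∀ x ∈ Kr, π x ∈ C := by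
            intro x hx
            refine Subgroup.mem_centralizer_iff.2 fun w hw => ?_
            have h1 := congrArg Subtype.val (MulEquiv.congr_fun (MonoidHom.mem_ker.1 hx) ⟨w, hw⟩)
            have h2 : π x * w * (π x)⁻¹ = w := h1
            exact (mul_inv_eq_iff_eq_mul.1 h2).symm
          have hQbC : Qb ≤ C := fun w hw => Subgroup.mem_centralizer_iff.2 fun v hv =>
            congrArg Subtype.val (hQbab.is_comm.comm ⟨v, hv⟩ ⟨w, hw⟩)
          have hCn : C.Normal := inferInstance
          -- the derived subgroup of `C` has order prime to `q`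
          have hq' : (Nat.card (commutator C)).Coprime q := by
            rw [Nat.coprime_comm, hqp.coprime_iff_not_dvd]
            intro hd
            obtain ⟨w, hw⟩ := exists_prime_orderOf_dvd_card' (G := commutator C) q hd
            have hwQ : ((w : C) : G ⧸ O) ∈ Qb := by
              rw [hQbeq]
              obtain ⟨R, hR⟩ := (isPGroup_zpowers (q := q) (x := ((w : C) : G ⧸ O))
                ⟨1, by rw [Subgroup.orderOf_coe, Subgroup.orderOf_coe, hw, pow_one]⟩).exists_le_sylow
              have hsub := subsingleton_of_normal (Q.mapSurjective hπs)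
                (by rwa [Sylow.coe_mapSurjective])
              rw [← hQbeq, hQb, ← Sylow.coe_mapSurjective hπs Q,
                Subsingleton.elim (Q.mapSurjective hπs) R]
              exact hR (Subgroup.mem_zpowers _)
            have hcentC : (w : C) ∈ Subgroup.center C := Subgroup.mem_center_iff.2 fun v =>
              Subtype.ext ((Subgroup.mem_centralizer_iff.1 v.2 _ hwQ).symm)
            have : IsMulCommutative (Qb.subgroupOf C) := inferInstance
            have hind : ¬ q ∣ (Qb.subgroupOf C).index := fun h =>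
              (Q.mapSurjective hπs).not_dvd_index (h.trans (by
                rw [Sylow.coe_mapSurjective]
                exact Subgroup.relIndex_dvd_index_of_le hQbC))
            have h1 := Transfer.pow_index_eq_one_of_central_commutator (Qb.subgroupOf C) hcentC w.2
            have h2 := orderOf_dvd_of_pow_eq_one h1
            rw [Subgroup.orderOf_coe, hw] at h2
            exact hind h2
          set D := (commutator C).map C.subtype with hDdef
          have hDn : D.Normal := by
            rw [hDdef, Subgroup.map_subtype_commutator]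
            exact Subgroup.commutator_normal C C
          have hDcop : (Nat.card (D.comap π)).Coprime q := by
            refine Nat.Coprime.coprime_dvd_left (PCore.card_comap_dvd π D) ?_
            refine Nat.Coprime.mul_left ?_ ?_
            · rwa [QuotientGroup.ker_mk']
            · rw [hDdef, Subgroup.card_map_of_injective C.subtype_injective]
              exact hq'
          have hDn' : (D.comap π).Normal := hDn.comap π
          intro x hx y hy
          refine PCore.le_pPrimeCore hDcop (Subgroup.mem_comap.2 ?_)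
          rw [map_commutatorElement, hDdef, Subgroup.map_subtype_commutator]
          exact Subgroup.commutator_mem_commutator (hKrC x hx) (hKrC y hy)
        have hKrn : Kr.Normal := MonoidHom.normal_ker _
        let f : G ⧸ E →* G ⧸ Kr := QuotientGroup.map E Kr (MonoidHom.id G) hEKr
        have hfker : Group.IsSolvable f.ker := by
          refine Group.isSolvable_of_comm fun a b => ?_
          obtain ⟨a, ha⟩ := a
          obtain ⟨b, hb⟩ := b
          induction a using QuotientGroup.induction_on with
          | _ a =>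
            induction b using QuotientGroup.induction_on with
            | _ b =>
              have ha' : a ∈ Kr := (QuotientGroup.eq_one_iff a).1 (MonoidHom.mem_ker.1 ha)
              have hb' : b ∈ Kr := (QuotientGroup.eq_one_iff b).1 (MonoidHom.mem_ker.1 hb)
              apply Subtype.ext
              show ((a : G ⧸ E)) * b = b * a
              rw [← commutatorElement_eq_one_iff_mul_comm, ← QuotientGroup.mk'_apply,
                ← QuotientGroup.mk'_apply (N := E) b, ← map_commutatorElement,
                QuotientGroup.mk'_apply, QuotientGroup.eq_one_iff]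
              exact hcommKr a ha' b hb'
        exact Group.isSolvable_of_ker_le_range f.ker.subtype f (by rw [Subgroup.range_subtype])

end Cfsg.Agent.S4125
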