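import Cfsg.Statements.S4127
import Cfsg.Agent.Lib.Transfer.CentralizerCount
import Cfsg.Agent.Lib.SylowCount.Basic

set_option autoImplicit false
open Cfsg

namespace Cfsg.Agent.S4127

/-- A union of conjugates of a proper subgroup is proper: if every element normalizes some Sylow
subgroup, the Sylow subgroup is normal. -/
theorem normal_of_forall_exists_mem_normalizer {H : Type*} [Group H] [Finite H] {p : ℕ}
    [Fact p.Prime] (S : Sylow p H)
    (hcov : ∀ h : H, ∃ Q : Sylow p H, h ∈ Subgroup.normalizer (Q : Set H)) :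
    (S : Subgroup H).Normal := by
  classical
  haveI : Fintype (Sylow p H) := Fintype.ofFinite _
  set N := Subgroup.normalizer (S : Set H) with hN
  have hcard : ∀ Q : Sylow p H,
      ((Subgroup.normalizer (Q : Set H) : Set H) \ {1}).ncard = Nat.card N - 1 := by
    intro Q
    rw [Set.ncard_diff_singleton_of_mem (one_mem _)]
    congr 1
    have h1 := Subgroup.card_mul_index N
    have h2 := Subgroup.card_mul_index (Subgroup.normalizer (Q : Set H))
    rw [hN, ← S.card_eq_index_normalizer] at h1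
    rw [← Q.card_eq_index_normalizer] at h2
    rw [← Nat.card_coe_set_eq]
    exact Nat.eq_of_mul_eq_mul_right Nat.card_pos (h2.trans h1.symm)
  have hcover : (Set.univ : Set H) ⊆ insert (1 : H)
      (⋃ Q : Sylow p H, ((Subgroup.normalizer (Q : Set H) : Set H) \ {1})) := by
    intro h _
    by_cases h1 : h = 1
    · exact Or.inl h1
    obtain ⟨Q, hQ⟩ := hcov h
    exact Or.inr (Set.mem_iUnion.mpr ⟨Q, hQ, h1⟩)
  have hle : Nat.card H ≤ 1 + Nat.card (Sylow p H) * (Nat.card N - 1) := by
    rw [← Set.ncard_univ]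
    refine (Set.ncard_le_ncard hcover (Set.toFinite _)).trans ((Set.ncard_insert_le _ _).trans ?_)
    rw [add_comm]
    refine Nat.add_le_add_left ((Set.ncard_iUnion_le_of_fintype _).trans ?_) _
    simp [hcard]
  have hmul : Nat.card N * Nat.card (Sylow p H) = Nat.card H := by
    rw [S.card_eq_index_normalizer, Subgroup.card_mul_index]
  obtain ⟨c, hc⟩ : ∃ c, Nat.card N = c + 1 := ⟨Nat.card N - 1, by have := Nat.card_pos (α := N); omega⟩
  rw [hc, Nat.add_sub_cancel] at hle
  rw [hc] at hmul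
  have hn : Nat.card (Sylow p H) ≤ 1 := by nlinarith
  haveI : Subsingleton (Sylow p H) := Finite.card_le_one_iff_subsingleton.mp hn
  exact S.normal_of_subsingleton

/-- A group in which every `p'`-element has `p'`-index has a normal Sylow `p`-subgroup. -/
theorem normal_sylow_of_regular_index {H : Type*} [Group H] [Finite H] (p : ℕ) [Fact p.Prime]
    (S : Sylow p H)
    (hreg : ∀ y : H, ¬ p ∣ orderOf y → ¬ p ∣ (Subgroup.centralizer ({y} : Set H)).index) :
    (S : Subgroup H).Normal := by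
  refine normal_of_forall_exists_mem_normalizer S fun h => ?_
  have hp : p.Prime := Fact.out
  set n := orderOf h with hn
  have hn0 : 0 < n := orderOf_pos h
  obtain ⟨e, r, hr, her⟩ := Nat.exists_eq_pow_mul_and_not_dvd hn0.ne' p hp.ne_one
  -- `y` is the `p'`-part and `z` the `p`-part
  have hco : Nat.Coprime (p ^ e) r := Nat.Coprime.pow_left e ((Nat.Prime.coprime_iff_not_dvd hp).mpr hr)
  set y := h ^ (p ^ e) with hy
  set z := h ^ r with hz
  have hy' : ¬ p ∣ orderOf y := by
    intro hd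
    refine hr (hd.trans (orderOf_dvd_of_pow_eq_one ?_))
    rw [hy, ← pow_mul, ← her, hn, pow_orderOf_eq_one]
  have hzord : z ^ (p ^ e) = 1 := by rw [hz, ← pow_mul, mul_comm, ← her, hn, pow_orderOf_eq_one]
  set D := Subgroup.centralizer ({y} : Set H) with hD
  have hzD : z ∈ D := Subgroup.mem_centralizer_singleton_iff.mpr (Commute.pow_pow_self h r (p ^ e))
  obtain ⟨Q, hQ⟩ := Transfer.exists_sylow_le_centralizer y (hreg y hy')
  have hzp : IsPGroup p (Subgroup.zpowers (⟨z, hzD⟩ : D)) := by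
    obtain ⟨j, -, hj⟩ := (Nat.dvd_prime_pow hp).mp (orderOf_dvd_of_pow_eq_one hzord)
    exact IsPGroup.of_card (n := j) (by rw [Nat.card_zpowers, Subgroup.orderOf_mk, hj])
  obtain ⟨T, hT⟩ := hzp.exists_le_sylow
  obtain ⟨g, hg⟩ := MulAction.exists_smul_eq D (Q.subtype hQ) T
  refine ⟨(g : H) • Q, ?_⟩
  have hQ' : ((g : H) • Q : Sylow p H) ≤ D := Sylow.smul_le hQ g
  have hzQ : z ∈ (((g : H) • Q : Sylow p H) : Subgroup H) := by
    have hmem : (⟨z, hzD⟩ : D) ∈ ((g • Q.subtype hQ : Sylow p D) : Subgroup D) := by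
      rw [hg]; exact hT (Subgroup.mem_zpowers _)
    rw [Sylow.smul_subtype hQ g, Sylow.coe_subtype, Subgroup.mem_subgroupOf] at hmem
    exact hmem
  have hzN := Subgroup.le_normalizer hzQ
  have hyN : y ∈ Subgroup.normalizer (((g : H) • Q : Sylow p H) : Set H) := by
    refine Subgroup.centralizer_le_normalizer _ ?_
    rw [Subgroup.mem_centralizer_iff]
    intro q hq
    exact Subgroup.mem_centralizer_singleton_iff.mp (hQ' hq)
  obtain ⟨u, v, huv⟩ : ∃ u v : ℤ, u * (p ^ e : ℕ) + v * r = 1 :=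
    Nat.isCoprime_iff_coprime.mpr hco
  have : h = y ^ u * z ^ v := by
    rw [hy, hz, ← zpow_natCast, ← zpow_natCast, ← zpow_mul, ← zpow_mul, ← zpow_add,
      mul_comm (((p ^ e : ℕ)) : ℤ) u, mul_comm (r : ℤ) v, huv, zpow_one]
  rw [this]
  exact mul_mem (Subgroup.zpow_mem _ hyN u) (Subgroup.zpow_mem _ hzN v)

/-- In the centraliser of a `p`-element with maximal `p`-power index, `p'`-elements have
`p'`-index. -/
theorem not_dvd_index_of_commute {G : Type*} [Group G] [Finite G] (p : ℕ) [Fact p.Prime] (a : ℕ)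
    (hmax : ∀ y : G, ¬ p ^ (a + 1) ∣ (Subgroup.centralizer ({y} : Set G)).index)
    (x : G) (hxord : ∃ k : ℕ, orderOf x = p ^ k)
    (hxidx : (Subgroup.centralizer ({x} : Set G)).index = p ^ a)
    (y : Subgroup.centralizer ({x} : Set G)) (hy : ¬ p ∣ orderOf y) :
    ¬ p ∣ (Subgroup.centralizer ({y} : Set (Subgroup.centralizer ({x} : Set G)))).index := by
  intro hdvd
  obtain ⟨e, he⟩ := hxord
  have hco : (orderOf x).Coprime (orderOf (y : G)) := by
    rw [he, Subgroup.orderOf_coe]
    exact Nat.Coprime.pow_left e ((Nat.Prime.coprime_iff_not_dvd Fact.out).mpr hy)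
  have hxy : Commute x (y : G) := (Subgroup.mem_centralizer_singleton_iff.mp y.2).symm
  set z := x * (y : G) with hz
  obtain ⟨u, v, huv⟩ : ∃ u v : ℤ, u * (orderOf x : ℤ) + v * (orderOf (y : G) : ℤ) = 1 :=
    Nat.isCoprime_iff_coprime.mpr hco
  have hle : Subgroup.centralizer ({z} : Set G) ≤
      Subgroup.centralizer ({x} : Set G) ⊓ Subgroup.centralizer ({(y : G)} : Set G) := by
    intro g hg
    have hgz : Commute g z := Subgroup.mem_centralizer_singleton_iff.mp hg
    have h1 : z ^ (v * (orderOf (y : G) : ℤ)) = x := by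
      have hy1 : (y : G) ^ (v * (orderOf (y : G) : ℤ)) = 1 := by
        rw [mul_comm, zpow_mul, zpow_natCast, pow_orderOf_eq_one, one_zpow]
      have hx1 : x ^ (v * (orderOf (y : G) : ℤ)) = x := by
        have : v * (orderOf (y : G) : ℤ) = (orderOf x : ℤ) * (-u) + 1 := by linarith
        rw [this, zpow_add, zpow_mul, zpow_natCast, pow_orderOf_eq_one, one_zpow, one_mul, zpow_one]
      rw [hz, hxy.mul_zpow, hy1, hx1, mul_one]
    have hgx : Commute g x := h1 ▸ hgz.zpow_right _
    refine ⟨Subgroup.mem_centralizer_singleton_iff.mpr hgx, Subgroup.mem_centralizer_singleton_iff.mpr ?_⟩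
    have h2 : (y : G) = x⁻¹ * z := by rw [hz]; group
    rw [h2]
    exact (hgx.inv_right.mul_right hgz)
  refine hmax z ?_
  refine dvd_trans ?_ (Subgroup.index_dvd_of_le hle)
  rw [← Subgroup.relIndex_mul_index inf_le_left, Subgroup.inf_relIndex_left, hxidx, pow_succ']
  refine Nat.mul_dvd_mul ?_ dvd_rfl
  have : (Subgroup.centralizer ({(y : G)} : Set G)).subgroupOf (Subgroup.centralizer ({x} : Set G)) =
      Subgroup.centralizer ({y} : Set (Subgroup.centralizer ({x} : Set G))) := by
    ext w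
    rw [Subgroup.mem_subgroupOf, Subgroup.mem_centralizer_singleton_iff,
      Subgroup.mem_centralizer_singleton_iff, Subtype.ext_iff]
    simp
  rw [Subgroup.relIndex, this]
  exact hdvd

/-- `A × B` lemma: a `p'`-set `K` acting on a normal `p`-subgroup `M` centralises it once it
centralises `C_M(C_M(K))`. -/
theorem le_centralizer_of_centralizer_le {G : Type*} [Group G] [Finite G] {p : ℕ} [Fact p.Prime]
    {M : Subgroup G} (hMp : IsPGroup p M) (K : Subgroup G) (hMn : M.Normal)
    (hK : ∀ k ∈ K, ¬ p ∣ orderOf k)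
    (h : ∀ m ∈ M, (∀ d ∈ M, (∀ k ∈ K, k * d = d * k) → d * m = m * d) → ∀ k ∈ K, k * m = m * k) :
    M ≤ Subgroup.centralizer (K : Set G) := by
  by_contra hnot
  set D := M ⊓ Subgroup.centralizer (K : Set G) with hD
  have hlt : D.subgroupOf M < ⊤ := by
    rw [lt_top_iff_ne_top, Ne, Subgroup.subgroupOf_eq_top]
    exact fun hle => hnot (hle.trans inf_le_right)
  haveI : Group.IsNilpotent M := hMp.isNilpotent
  obtain ⟨n, hnN, hnD⟩ := SetLike.exists_of_lt (Group.normalizerCondition_of_isNilpotent _ hlt)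
  refine hnD (Subgroup.mem_subgroupOf.mpr ⟨n.2, ?_⟩)
  show (n : G) ∈ Subgroup.centralizer (K : Set G)
  rw [Subgroup.mem_centralizer_iff]
  intro k hk
  set z := (n : G)⁻¹ * (k * n * k⁻¹) with hz
  have hzM : z ∈ M := mul_mem (inv_mem n.2) (hMn.conj_mem _ n.2 k)
  have hzc : ∀ d ∈ M, (∀ k' ∈ K, k' * d = d * k') → d * z = z * d := by
    intro d hd hdK
    have hdK' : ∀ k' ∈ K, k' * ((n : G) * d * (n : G)⁻¹) = (n : G) * d * (n : G)⁻¹ * k' := by
      have hd' : (⟨d, hd⟩ : M) ∈ D.subgroupOf M :=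
        Subgroup.mem_subgroupOf.mpr ⟨hd, Subgroup.mem_centralizer_iff.mpr hdK⟩
      have := ((Subgroup.mem_normalizer_iff.mp hnN) _).mp hd'
      exact Subgroup.mem_centralizer_iff.mp (Subgroup.mem_subgroupOf.mp this).2
    have h1 : k * n * k⁻¹ * d * (k * n * k⁻¹)⁻¹ = (n : G) * d * (n : G)⁻¹ := by
      have hkd : k⁻¹ * d * k = d := by rw [mul_assoc, ← hdK k hk]; group
      calc k * n * k⁻¹ * d * (k * n * k⁻¹)⁻¹ = k * (n * (k⁻¹ * d * k) * (n : G)⁻¹) * k⁻¹ := by group
        _ = k * (n * d * (n : G)⁻¹) * k⁻¹ := by rw [hkd]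
        _ = n * d * (n : G)⁻¹ * k * k⁻¹ := by rw [hdK' k hk]
        _ = _ := by group
    have h2 : z * d * z⁻¹ = d := by
      calc z * d * z⁻¹ = (n : G)⁻¹ * (k * n * k⁻¹ * d * (k * n * k⁻¹)⁻¹) * n := by rw [hz]; group
        _ = (n : G)⁻¹ * ((n : G) * d * (n : G)⁻¹) * n := by rw [h1]
        _ = d := by group
    calc d * z = z * d * z⁻¹ * z := by rw [h2]
      _ = z * d := by group
  have hzK := h z hzM hzc k hk
  have hkn : k * n * k⁻¹ = (n : G) * z := by rw [hz]; group
  have hpow : ∀ j : ℕ, k ^ j * n * (k ^ j)⁻¹ = (n : G) * z ^ j := by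
    intro j
    induction j with
    | zero => simp
    | succ j ih =>
      have hc : k * z ^ j * k⁻¹ = z ^ j := by
        rw [(show Commute k z from hzK).pow_right j |>.eq]
        group
      calc k ^ (j + 1) * n * (k ^ (j + 1))⁻¹ = k * (k ^ j * n * (k ^ j)⁻¹) * k⁻¹ := by
            rw [pow_succ']; group
        _ = k * ((n : G) * z ^ j) * k⁻¹ := by rw [ih]
        _ = k * n * k⁻¹ * (k * z ^ j * k⁻¹) := by group
        _ = (n : G) * z * z ^ j := by rw [hkn, hc]
        _ = _ := by rw [pow_succ', mul_assoc]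
  have hz1 : z = 1 := by
    have h3 := hpow (orderOf k)
    rw [pow_orderOf_eq_one] at h3
    simp only [one_mul, inv_one, mul_one] at h3
    have hzk : z ^ orderOf k = 1 := (mul_left_cancel ((mul_one (n : G)).trans h3)).symm
    obtain ⟨j, hj⟩ := IsPGroup.iff_orderOf.mp hMp ⟨z, hzM⟩
    rw [Subgroup.orderOf_mk] at hj
    have hco : Nat.Coprime (p ^ j) (orderOf k) :=
      Nat.Coprime.pow_left j ((Nat.Prime.coprime_iff_not_dvd Fact.out).mpr (hK k hk))
    have := Nat.eq_one_of_dvd_coprimes hco hj.dvd (orderOf_dvd_of_pow_eq_one hzk)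
    exact orderOf_eq_one_iff.mp this
  rw [hz1, mul_one] at hkn
  calc k * n = k * n * k⁻¹ * k := by group
    _ = n * k := by rw [hkn]


/-- Let G be a finite group, p a prime and p^a the largest power of p dividing the size of any conjugacy class of G. If some element of p-power order has a conjugacy class of size exactly p^a, then G has a normal p-complement. -/
theorem result {G : Type*} [Group G] [Finite G] (p : ℕ) [Fact p.Prime]
    (a : ℕ) (hmax : ∀ y : G, ¬ p ^ (a + 1) ∣ (Subgroup.centralizer ({y} : Set G)).index)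
    (hx : ∃ x : G, (∃ k : ℕ, orderOf x = p ^ k) ∧ (Subgroup.centralizer ({x} : Set G)).index = p ^ a) :
    Cfsg.HasNormalPComplement p G := by
  classical
  obtain ⟨x, hxord, hxidx⟩ := hx
  set C := Subgroup.centralizer ({x} : Set G) with hCdef
  have hxC : x ∈ C := Subgroup.mem_centralizer_singleton_iff.mpr rfl
  obtain ⟨S⟩ := (Sylow.nonempty : Nonempty (Sylow p C))
  haveI hSn : (S : Subgroup C).Normal := normal_sylow_of_regular_index p S (by
    intro y hy
    exact not_dvd_index_of_commute p a hmax x hxord hxidx y hy)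
  -- a complement of `S` in `C`
  obtain ⟨K0, hK0⟩ := Subgroup.exists_right_complement'_of_coprime S.card_coprime_index
  have hK0card : Nat.card K0 = (S : Subgroup C).index := hK0.symm.index_eq_card.symm
  have hK0p : ∀ k ∈ K0, ¬ p ∣ orderOf k := by
    intro k hk hdvd
    have h1 : orderOf k ∣ Nat.card K0 := by
      have := orderOf_dvd_natCard (⟨k, hk⟩ : K0)
      rwa [Subgroup.orderOf_mk] at this
    rw [hK0card] at h1
    exact S.not_dvd_index (hdvd.trans h1)
  have hcomm : ∀ s ∈ (S : Subgroup C), ∀ k ∈ K0, s * k = k * s := by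
    intro s hs k hk
    have hk' : ¬ p ∣ (Subgroup.centralizer ({k} : Set C)).index :=
      not_dvd_index_of_commute p a hmax x hxord hxidx k (hK0p k hk)
    obtain ⟨Q, hQ⟩ := Transfer.exists_sylow_le_centralizer k hk'
    haveI := Sylow.unique_of_normal S hSn
    rw [Subsingleton.elim S Q] at hs
    exact Subgroup.mem_centralizer_singleton_iff.mp (hQ hs)
  have hprime_mem : ∀ y : C, ¬ p ∣ orderOf y → y ∈ K0 := by
    intro y hy
    obtain ⟨⟨⟨s, hs⟩, ⟨k, hk⟩⟩, rfl⟩ := hK0.2 y
    obtain ⟨e, he⟩ := IsPGroup.iff_orderOf.mp S.2 ⟨s, hs⟩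
    rw [Subgroup.orderOf_mk] at he
    have hco : (orderOf s).Coprime (orderOf k) := by
      rw [he]
      exact Nat.Coprime.pow_left e ((Nat.Prime.coprime_iff_not_dvd Fact.out).mpr (hK0p k hk))
    dsimp only at hy ⊢
    rw [(show Commute s k from hcomm s hs k hk).orderOf_mul_eq_mul_orderOf_of_coprime hco, he] at hy
    have he0 : e = 0 := by
      by_contra h0
      exact hy ((dvd_pow_self p h0).mul_right _)
    rw [he0, pow_zero, orderOf_eq_one_iff] at he
    simpa [he] using hk
  -- push to `G`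
  set SG := (S : Subgroup C).map C.subtype with hSG
  set K := K0.map C.subtype with hK
  have hKC : K ≤ C := Subgroup.map_subtype_le _
  obtain ⟨P, hSP⟩ := (S.2.map C.subtype : IsPGroup p SG).exists_le_sylow
  have hcardK : Nat.card K = (S : Subgroup C).index := by
    rw [hK, Subgroup.card_map_of_injective C.subtype_injective, hK0card]
  have hcardG : Nat.card (S : Subgroup C) * p ^ a * (S : Subgroup C).index = Nat.card G := by
    rw [mul_assoc, mul_comm (p ^ a), ← mul_assoc, Subgroup.card_mul_index, ← hxidx, Subgroup.card_mul_index]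
  have hcoSp : (S : Subgroup C).index.Coprime p :=
    ((Nat.Prime.coprime_iff_not_dvd Fact.out).mpr S.not_dvd_index).symm
  have hcardP : Nat.card (P : Subgroup G) = Nat.card (S : Subgroup C) * p ^ a := by
    obtain ⟨b, hb⟩ := IsPGroup.iff_card.mp P.2
    obtain ⟨s, hs⟩ := IsPGroup.iff_card.mp S.2
    have hPdvd : Nat.card (P : Subgroup G) ∣ Nat.card (S : Subgroup C) * p ^ a := by
      refine Nat.Coprime.dvd_of_dvd_mul_right (k := Nat.card (P : Subgroup G)) (n := (S : Subgroup C).index) ?_ ?_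
      · rw [hb]; exact Nat.Coprime.pow_left b hcoSp.symm
      · rw [hcardG]; exact Subgroup.card_subgroup_dvd_card _
    refine Nat.dvd_antisymm hPdvd ?_
    rw [hs, ← pow_add] at hcardG ⊢
    exact P.pow_dvd_card_of_pow_dvd_card ⟨_, hcardG.symm⟩
  have hKP : K.IsComplement' (P : Subgroup G) := by
    refine Subgroup.isComplement'_of_coprime ?_ ?_
    · rw [hcardK, hcardP, mul_comm, hcardG]
    · rw [hcardK]
      obtain ⟨b, hb⟩ := IsPGroup.iff_card.mp P.2
      rw [hb]
      exact Nat.Coprime.pow_right b hcoSp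
  have hKS : ∀ k ∈ K, ∀ s ∈ SG, k * s = s * k := by
    rintro _ ⟨k, hk, rfl⟩ _ ⟨s, hs, rfl⟩
    exact congrArg Subtype.val (hcomm s hs k hk).symm
  set M := Subgroup.normalClosure (SG : Set G) with hM
  have hMP : M ≤ (P : Subgroup G) := by
    rw [hM, Subgroup.normalClosure, Subgroup.closure_le]
    intro y hy
    obtain ⟨s, hs, hsy⟩ := Group.mem_conjugatesOfSet_iff.mp hy
    obtain ⟨g, hg⟩ := isConj_iff.mp hsy
    obtain ⟨⟨⟨q, hq⟩, ⟨k, hk⟩⟩, hqk⟩ := hKP.symm.2 g
    subst hqk
    rw [← hg]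
    have h1 : k * s * k⁻¹ = s := by rw [hKS k hk s hs]; group
    have h2 : q * k * s * (q * k)⁻¹ = q * s * q⁻¹ := by
      calc q * k * s * (q * k)⁻¹ = q * (k * s * k⁻¹) * q⁻¹ := by group
        _ = _ := by rw [h1]
    show q * k * s * (q * k)⁻¹ ∈ (P : Subgroup G)
    rw [h2]
    exact mul_mem (mul_mem hq (hSP hs)) (inv_mem hq)
  have hMp : IsPGroup p M := P.2.to_le hMP
  have hxS : x ∈ SG := by
    refine ⟨⟨x, hxC⟩, ?_, rfl⟩
    obtain ⟨e, he⟩ := hxord
    have hz : IsPGroup p (Subgroup.zpowers (⟨x, hxC⟩ : C)) :=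
      IsPGroup.of_card (n := e) (by rw [Nat.card_zpowers, Subgroup.orderOf_mk, he])
    obtain ⟨Q, hQ⟩ := hz.exists_le_sylow
    haveI := Sylow.unique_of_normal S hSn
    rw [Subsingleton.elim S Q]
    exact hQ (Subgroup.mem_zpowers _)
  have hMC : ∀ m ∈ M, m ∈ C → m ∈ SG := by
    intro m hm hmC
    refine ⟨⟨m, hmC⟩, ?_, rfl⟩
    obtain ⟨e, he⟩ := IsPGroup.iff_orderOf.mp hMp ⟨m, hm⟩
    rw [Subgroup.orderOf_mk] at he
    have hz : IsPGroup p (Subgroup.zpowers (⟨m, hmC⟩ : C)) :=
      IsPGroup.of_card (n := e) (by rw [Nat.card_zpowers, Subgroup.orderOf_mk, he])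
    obtain ⟨Q, hQ⟩ := hz.exists_le_sylow
    haveI := Sylow.unique_of_normal S hSn
    rw [Subsingleton.elim S Q]
    exact hQ (Subgroup.mem_zpowers _)
  have hSM : SG ≤ M := Subgroup.subset_normalClosure
  have hMK : M ≤ Subgroup.centralizer (K : Set G) := by
    refine le_centralizer_of_centralizer_le hMp K Subgroup.normalClosure_normal
      (fun k hk hd => ?_) ?_
    · obtain ⟨k0, hk0, rfl⟩ := hk
      exact hK0p k0 hk0 (by rwa [Subgroup.coe_subtype, Subgroup.orderOf_coe] at hd)
    · intro m hm hmc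
      have hmC : m ∈ C := by
        refine Subgroup.mem_centralizer_singleton_iff.mpr ?_
        exact (hmc x (hSM hxS) (fun k hk => hKS k hk x hxS)).symm
      intro k hk
      exact hKS k hk m (hMC m hm hmC)
  have hKn : K.Normal := by
    refine ⟨fun k hk g => ?_⟩
    haveI : (Subgroup.centralizer (M : Set G)).Normal := inferInstance
    have h1 : k ∈ Subgroup.centralizer (M : Set G) := by
      rw [Subgroup.mem_centralizer_iff]
      intro m hm
      exact (Subgroup.mem_centralizer_iff.mp (hMK hm) k hk).symm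
    have h2 := ‹(Subgroup.centralizer (M : Set G)).Normal›.conj_mem k h1 g
    have h3 : g * k * g⁻¹ ∈ C :=
      Subgroup.mem_centralizer_singleton_iff.mpr
        (Subgroup.mem_centralizer_iff.mp h2 x (hSM hxS)).symm
    refine ⟨⟨_, h3⟩, hprime_mem _ ?_, rfl⟩
    obtain ⟨k0, hk0, rfl⟩ := hk
    rw [← Subgroup.orderOf_coe]
    show ¬ p ∣ orderOf (g * (k0 : G) * g⁻¹)
    have : orderOf (g * (k0 : G) * g⁻¹) = orderOf (k0 : G) :=
      orderOf_injective (MulAut.conj g).toMonoidHom (MulAut.conj g).injective (k0 : G)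
    rw [this, Subgroup.orderOf_coe]
    exact hK0p k0 hk0
  exact ⟨P, K, hKn, hKP⟩

end Cfsg.Agent.S4127
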