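import Cfsg.Statements.S4138
import Cfsg.Agent.Lib.ClassSize.CoprimeTop
-- import your own Cfsg.Agent.* helpers here

set_option autoImplicit false
open Cfsg

namespace Cfsg.Agent.S4138

open Subgroup Cfsg.Agent.ClassSize.CoprimeTop
open scoped Pointwise

theorem mem_conj {G : Type*} [Group G] {H : Subgroup G} {g v : G} :
    v ∈ MulAut.conj g • H ↔ g⁻¹ * v * g ∈ H := by
  rw [mem_pointwise_smul_iff_inv_smul_mem, ← map_inv, MulAut.smul_def, MulAut.conj_apply, inv_inv]

theorem main {G : Type*} [Group G] [Finite G] (m n : ℕ) (hmn : n < m) (hn : 1 < n)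
    (hcop : m.Coprime n) (htop : ∀ z : G, cl z ≤ m) (hsecond : ∀ z : G, cl z < m → cl z ≤ n)
    (x y : G) (hx : cl x = n) (hy : cl y = m) :
    IsMulCommutative (cent x) ∧ IsMulCommutative (cent y) ∧
    Cfsg.IsFrobeniusComplement ((cent y).map (QuotientGroup.mk' (center G))) ∧
    Cfsg.frobeniusKernel ((cent y).map (QuotientGroup.mk' (center G))) =
      ((cent x).map (QuotientGroup.mk' (center G)) : Set (G ⧸ center G)) := by
  obtain ⟨x', S, hx'⟩ := exists_setup hmn hn hcop htop hsecond hx hy
  rw [← hx']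
  set f := QuotientGroup.mk' (center G) with hf
  have hfs : Function.Surjective f := QuotientGroup.mk'_surjective _
  have hker : ∀ {H : Subgroup G}, center G ≤ H → ∀ v : G, f v ∈ H.map f → v ∈ H := by
    intro H hH v hv
    have h : v ∈ (H.map f).comap f := hv
    rwa [comap_map_eq, QuotientGroup.ker_mk', sup_eq_left.2 hH] at h
  refine ⟨⟨⟨fun a b => Subtype.ext (S.abelian_C a a.2 b b.2)⟩⟩,
    ⟨⟨fun a b => Subtype.ext (S.abelian_D hy a a.2 b b.2)⟩⟩, ⟨?_, ?_, ?_⟩, ?_⟩
  · intro h
    have hle : cent y ≤ center G := fun v hv => by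
      have h1 : f v ∈ (cent y).map f := mem_map_of_mem f hv
      rw [h, mem_bot] at h1
      exact (QuotientGroup.eq_one_iff v).1 h1
    exact hn.ne (by rw [← S.relIndex_center hy, relIndex_eq_one.2 hle])
  · intro h
    refine S.cl_pos' hy (eq_top_iff.2 fun v _ => ?_)
    exact hker (center_le_cent y) v (h.symm ▸ mem_top _)
  · intro g hg
    obtain ⟨g, rfl⟩ := hfs g
    rw [eq_bot_iff]
    intro w hw
    obtain ⟨⟨d, hd, rfl⟩, hw2⟩ := mem_inf.1 hw
    rw [mem_conj, ← map_inv, ← map_mul, ← map_mul] at hw2
    rw [mem_bot]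
    refine (QuotientGroup.eq_one_iff d).2 ?_
    by_contra hdZ
    exact hg (mem_map_of_mem f (S.mem_of_conj hy hd hdZ (hker (center_le_cent y) _ hw2)))
  · ext w
    obtain ⟨u, rfl⟩ := hfs w
    constructor
    · intro h
      by_contra hu
      have huC : u ∉ cent x' := fun h' => hu (mem_map_of_mem f h')
      obtain ⟨k, hk⟩ := S.exists_conj_of_notMem hy huC
      rcases h with h | h
      · exact hu (h.symm ▸ one_mem _)
      · refine h (f k) ?_
        rw [mem_conj, ← map_inv, ← map_mul, ← map_mul]
        exact mem_map_of_mem f hk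
    · intro hu
      have huC : u ∈ cent x' := hker (center_le_cent x') u hu
      by_cases h1 : f u = 1
      · exact Or.inl h1
      refine Or.inr fun g hg => h1 ?_
      obtain ⟨g, rfl⟩ := hfs g
      rw [mem_conj, ← map_inv, ← map_mul, ← map_mul] at hg
      have h2 : g⁻¹ * u * g ∈ cent x' := by
        have := S.main_C.1.conj_mem u huC g⁻¹
        rwa [inv_inv] at this
      have h3 : g⁻¹ * u * g ∈ center G :=
        S.inf_eq_center hy ▸ mem_inf.2 ⟨hker (center_le_cent y) _ hg, h2⟩
      refine (QuotientGroup.eq_one_iff u).2 ?_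
      have h4 := (inferInstance : (center G).Normal).conj_mem _ h3 g
      rwa [show g * (g⁻¹ * u * g) * g⁻¹ = u by group] at h4


/-- Let G be a finite group whose two largest conjugacy class sizes m > n > 1 are coprime, and let x, y ∈ G have classes of sizes n and m respectively. Then C_G(x) and C_G(y) are abelian, and G/Z(G) is a Frobenius group with kernel C_G(x)/Z(G) and complement C_G(y)/Z(G). -/
theorem result {G : Type*} [Group G] [Finite G] (m n : ℕ) (hmn : n < m) (hn : 1 < n)
    (hcop : m.Coprime n) (htop : ∀ z : G, (Subgroup.centralizer ({z} : Set G)).index ≤ m) (hsecond : ∀ z : G, (Subgroup.centralizer ({z} : Set G)).index < m → (Subgroup.centralizer ({z} : Set G)).index ≤ n)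
    (x y : G) (hx : (Subgroup.centralizer ({x} : Set G)).index = n) (hy : (Subgroup.centralizer ({y} : Set G)).index = m) :
    IsMulCommutative (Subgroup.centralizer ({x} : Set G)) ∧ IsMulCommutative (Subgroup.centralizer ({y} : Set G)) ∧
    Cfsg.IsFrobeniusComplement ((Subgroup.centralizer ({y} : Set G)).map (QuotientGroup.mk' (Subgroup.center G))) ∧
    Cfsg.frobeniusKernel ((Subgroup.centralizer ({y} : Set G)).map (QuotientGroup.mk' (Subgroup.center G))) =
      ((Subgroup.centralizer ({x} : Set G)).map (QuotientGroup.mk' (Subgroup.center G)) : Set (G ⧸ Subgroup.center G)) := by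
  exact main m n hmn hn hcop htop hsecond x y hx hy

end Cfsg.Agent.S4138
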