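import Cfsg.Statements.S4139
import Mathlib
-- import your own Cfsg.Agent.* helpers here

set_option autoImplicit false
open Cfsg

namespace Cfsg.Agent.S4139

open Subgroup
open scoped commutatorElement Pointwise

/-- The elements whose class has size prime to `p`. -/
def classPrimeTo (p : ℕ) (G : Type*) [Group G] : Set G :=
  {x | ¬ p ∣ Nat.card (ConjClasses.mk x).carrier}

theorem card_carrier_eq_index {G : Type*} [Group G] [Finite G] (x : G) :
    Nat.card (ConjClasses.mk x).carrier = (centralizer ({x} : Set G)).index := by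
  have h1 := MulAction.index_stabilizer (ConjAct G) x
  have h2 : (MulAction.stabilizer (ConjAct G) x).index = (centralizer ({x} : Set G)).index := by
    rw [ConjAct.stabilizer_eq_centralizer]; rfl
  rw [← h2, h1, ConjAct.orbit_eq_carrier_conjClasses, ← Nat.card_coe_set_eq]

theorem mem_center_iff_card {K : Type*} [Group K] [Finite K] (y : K) :
    y ∈ center K ↔ Nat.card (ConjClasses.mk y).carrier = 1 := by
  rw [card_carrier_eq_index, index_eq_one, centralizer_eq_top_iff_subset, Set.singleton_subset_iff]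
  rfl

theorem exists_equiv_carrier {G H : Type*} [Group G] [Finite G] [Group H] [Finite H]
    (h : ∀ k : ℕ, Nat.card {C : ConjClasses G // Nat.card C.carrier = k} =
      Nat.card {C : ConjClasses H // Nat.card C.carrier = k}) :
    ∃ φ : G ≃ H, ∀ x, Nat.card (ConjClasses.mk (φ x)).carrier = Nat.card (ConjClasses.mk x).carrier := by
  have : ∀ k, Nonempty ({C : ConjClasses G // Nat.card C.carrier = k} ≃
      {C : ConjClasses H // Nat.card C.carrier = k}) := fun k => Finite.card_eq.mp (h k)
  let ek := fun k => (this k).some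
  let e : ConjClasses G ≃ ConjClasses H := Equiv.ofFiberEquiv ek
  have he : ∀ C, Nat.card (e C).carrier = Nat.card C.carrier := Equiv.ofFiberEquiv_map ek
  have hf : ∀ C : ConjClasses G, Nonempty ({x : G // ConjClasses.mk x = C} ≃
      {y : H // ConjClasses.mk y = e C}) := fun C => by
    refine Finite.card_eq.mp ?_
    have hG : Nat.card {x : G // ConjClasses.mk x = C} = Nat.card C.carrier :=
      Nat.card_congr (Equiv.subtypeEquivRight fun x => ConjClasses.mem_carrier_iff_mk_eq.symm)
    have hH : Nat.card {y : H // ConjClasses.mk y = e C} = Nat.card (e C).carrier :=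
      Nat.card_congr (Equiv.subtypeEquivRight fun x => ConjClasses.mem_carrier_iff_mk_eq.symm)
    rw [hG, hH, he]
  let ef := fun C => (hf C).some
  let φ : G ≃ H := (Equiv.sigmaFiberEquiv ConjClasses.mk).symm.trans
    ((Equiv.sigmaCongr e ef).trans (Equiv.sigmaFiberEquiv ConjClasses.mk))
  refine ⟨φ, fun x => ?_⟩
  have hx : ConjClasses.mk (φ x) = e (ConjClasses.mk x) := ((ef _) ⟨x, rfl⟩).2
  rw [hx, he]

theorem mem_classPrimeTo_iff {p : ℕ} [Fact p.Prime] {G : Type*} [Group G] [Finite G] {x : G} :
    x ∈ classPrimeTo p G ↔ ∃ P : Sylow p G, x ∈ centralizer ((P : Subgroup G) : Set G) := by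
  show ¬ p ∣ _ ↔ _
  rw [card_carrier_eq_index]
  constructor
  · intro h
    obtain ⟨Q⟩ := (inferInstance : Nonempty (Sylow p ↥(centralizer ({x} : Set G))))
    obtain ⟨P, hP⟩ := (Q.2.map (centralizer ({x} : Set G)).subtype).exists_le_sylow
    have hco : ¬ p ∣ ((Q : Subgroup _).map (centralizer ({x} : Set G)).subtype).index := by
      rw [index_map_subtype]
      exact fun hd => (Fact.out : p.Prime).dvd_mul.mp hd |>.elim Q.not_dvd_index h
    have heq : ((Q : Subgroup _).map (centralizer ({x} : Set G)).subtype) = (P : Subgroup G) := by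
      refine le_antisymm hP ((relIndex_eq_one).mp ?_)
      obtain ⟨k, hk⟩ := IsPGroup.iff_card.mp P.2
      obtain ⟨j, -, hj⟩ := (Nat.dvd_prime_pow Fact.out).mp (hk ▸ relIndex_dvd_card
        ((Q : Subgroup _).map (centralizer ({x} : Set G)).subtype) (P : Subgroup G))
      rcases j with - | j
      · simpa using hj
      · refine absurd ?_ hco
        exact (Dvd.intro_left _ (pow_succ p j).symm).trans (hj ▸ relIndex_dvd_index_of_le hP)
    refine ⟨P, mem_centralizer_iff.mpr fun y hy => ?_⟩
    rw [← heq] at hy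
    obtain ⟨c, -, rfl⟩ := hy
    exact mem_centralizer_singleton_iff.mp c.2
  · rintro ⟨P, hP⟩ hd
    refine P.not_dvd_index (hd.trans (index_dvd_of_le fun y hy => ?_))
    exact mem_centralizer_singleton_iff.mpr (mem_centralizer_iff.mp hP y hy)

/-- The central `p`-elements. -/
theorem card_center_inf {p : ℕ} [Fact p.Prime] {G : Type*} [Group G] [Finite G] (P : Sylow p G) :
    Nat.card ↥(center G ⊓ (P : Subgroup G)) = p ^ (Nat.card (center G)).factorization p := by
  obtain ⟨Q⟩ := (inferInstance : Nonempty (Sylow p ↥(center G)))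
  obtain ⟨R, hR⟩ := (Q.2.map (center G).subtype).exists_le_sylow
  have hQP : ((Q : Subgroup _).map (center G).subtype) ≤ (P : Subgroup G) := by
    obtain ⟨g, rfl⟩ := MulAction.exists_smul_eq G R P
    intro z hz
    rw [Sylow.coe_subgroup_smul]
    refine ⟨z, hR hz, ?_⟩
    show g * z * g⁻¹ = z
    rw [mem_center_iff.mp (map_subtype_le _ hz) g, mul_inv_cancel_right]
  rw [← Q.card_eq_multiplicity]
  have heq : ((P : Subgroup G).subgroupOf (center G)) = Q :=
    Q.3 (P.2.comap_subtype) (map_le_iff_le_comap.mp hQP)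
  rw [← heq, ← inf_subgroupOf_left, Nat.card_congr (subgroupOfEquivOfLe inf_le_left).toEquiv]

/-- The count in a nilpotent group. -/
theorem card_classPrimeTo_nilpotent {p : ℕ} [Fact p.Prime] {H : Type*} [Group H] [Finite H]
    [hH : Group.IsNilpotent H] (P : Sylow p H) :
    Nat.card (classPrimeTo p H) =
      p ^ (Nat.card (center H)).factorization p * (P : Subgroup H).index := by
  have hall := ((Group.isNilpotent_of_finite_tfae (G := H)).out 0 3 :
      Group.IsNilpotent H ↔ ∀ (r : ℕ) (_ : Fact r.Prime) (R : Sylow r H), (R : Subgroup H).Normal).mp hH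
  have hPn : (P : Subgroup H).Normal := hall p inferInstance P
  have := P.unique_of_normal hPn
  set C := centralizer ((P : Subgroup H) : Set H) with hC
  have hS : classPrimeTo p H = (C : Set H) := by
    ext x
    rw [mem_classPrimeTo_iff]
    exact ⟨fun ⟨Q, hQ⟩ => by rw [Subsingleton.elim Q P] at hQ; exact hQ, fun h => ⟨P, h⟩⟩
  have htop : C ⊔ (P : Subgroup H) = ⊤ := by
    rw [← index_eq_one]
    by_contra hne
    obtain ⟨q, hq, hqd⟩ := Nat.exists_prime_and_dvd hne
    have := Fact.mk hq
    obtain ⟨R⟩ := (inferInstance : Nonempty (Sylow q H))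
    refine R.not_dvd_index (hqd.trans (index_dvd_of_le ?_))
    by_cases hqp : q = p
    · subst hqp
      rw [Subsingleton.elim R P]; exact le_sup_right
    · refine le_trans (fun x hx => mem_centralizer_iff.mpr fun y hy => ?_) le_sup_left
      exact commute_of_normal_of_disjoint _ _ hPn (hall q inferInstance R)
        (IsPGroup.disjoint_of_ne p q (Ne.symm hqp) _ _ P.2 R.2) y x hy hx
  have hinf : (P : Subgroup H) ⊓ C = center H ⊓ (P : Subgroup H) := by
    refine le_antisymm (fun z hz => ⟨?_, hz.1⟩) fun z hz =>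
      ⟨hz.2, mem_centralizer_iff.mpr fun y _ => mem_center_iff.mp hz.1 y⟩
    have hle : C ⊔ (P : Subgroup H) ≤ centralizer ({z} : Set H) :=
      sup_le (fun c hc => mem_centralizer_singleton_iff.mpr (mem_centralizer_iff.mp hc z hz.1).symm)
        fun y hy => mem_centralizer_singleton_iff.mpr (mem_centralizer_iff.mp hz.2 y hy)
    exact mem_center_iff.mpr fun y => mem_centralizer_singleton_iff.mp (hle (htop ▸ mem_top y))
  rw [hS, ← card_center_inf P, ← hinf]
  show Nat.card C = _
  have h1 : (P : Subgroup H).relIndex (C ⊔ (P : Subgroup H)) = (P : Subgroup H).relIndex C :=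
    relIndex_sup_right C (P : Subgroup H)
  rw [htop, relIndex_top_right] at h1
  rw [h1, ← inf_relIndex_right (P : Subgroup H) C]
  exact ((relIndex_bot_left C).symm.trans
    (relIndex_mul_relIndex ⊥ ((P : Subgroup H) ⊓ C) C bot_le inf_le_right).symm).trans
    (by rw [relIndex_bot_left])

theorem normal_sylow {p : ℕ} [Fact p.Prime] {G : Type*} [Group G] [Finite G] (P : Sylow p G)
    (hcount : Nat.card (classPrimeTo p G) =
      p ^ (Nat.card (center G)).factorization p * (P : Subgroup G).index) :
    (P : Subgroup G).Normal := by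
  classical
  have hp : p.Prime := Fact.out
  set Z := center G ⊓ (P : Subgroup G) with hZ
  rw [← card_center_inf P, ← hZ] at hcount
  haveI hZn : Z.Normal := ⟨fun z hz g => by
    rw [mem_center_iff.mp hz.1 g, mul_inv_cancel_right]; exact hz⟩
  set S := classPrimeTo p G with hS
  set π := QuotientGroup.mk' Z with hπ
  have hSZ : ∀ x, ∀ z ∈ Z, x ∈ S → x * z ∈ S := fun x z hz hx => by
    rw [hS, mem_classPrimeTo_iff] at hx ⊢
    obtain ⟨Q, hQ⟩ := hx
    exact ⟨Q, mul_mem hQ (mem_centralizer_iff.mpr fun y _ => mem_center_iff.mp hz.1 y)⟩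
  have hSconj : ∀ g x, x ∈ S → g * x * g⁻¹ ∈ S := fun g x hx => by
    show ¬ p ∣ _
    rwa [ConjClasses.mk_eq_mk_iff_isConj.mpr (isConj_iff.mpr ⟨g, rfl⟩ : IsConj x (g * x * g⁻¹)).symm]
  set T := π '' S with hT
  have hpre : π ⁻¹' T = S := by
    refine Set.Subset.antisymm ?_ (Set.subset_preimage_image _ _)
    rintro x ⟨y, hy, hxy⟩
    have := hSZ y _ (QuotientGroup.eq.mp hxy) hy
    simpa using this
  have hST : Nat.card S = Nat.card Z * Nat.card T := by
    rw [← Nat.card_prod]
    refine Nat.card_congr ((Equiv.setCongr hpre.symm).trans ?_)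
    exact QuotientGroup.preimageMkEquivSubgroupProdSet Z T
  have hTcard : Nat.card T = (P : Subgroup G).index :=
    Nat.eq_of_mul_eq_mul_left Nat.card_pos (hST.symm.trans hcount)
  -- `P` acts on `T`
  let act : MulAction ↥(P : Subgroup G) T :=
    { smul := fun g t => ⟨π g * t.1 * (π g)⁻¹, by
        obtain ⟨x, hx, hxt⟩ := t.2
        exact ⟨_, hSconj g x hx, by rw [map_mul, map_mul, map_inv, hxt]⟩⟩
      one_smul := fun t => Subtype.ext (by
        show π ((1 : ↥(P : Subgroup G)) : G) * t.1 * (π ((1 : ↥(P : Subgroup G)) : G))⁻¹ = t.1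
        simp)
      mul_smul := fun g g' t => Subtype.ext (by
        show π ((g * g' : ↥(P : Subgroup G)) : G) * t.1 * (π ((g * g' : ↥(P : Subgroup G)) : G))⁻¹ =
          π g * (π g' * t.1 * (π g')⁻¹) * (π g)⁻¹
        simp [mul_assoc]) }
  set C := centralizer ((P : Subgroup G) : Set G) with hC
  have hZC : Z ≤ C := fun z hz => mem_centralizer_iff.mpr fun y _ => mem_center_iff.mp hz.1 y
  have hCS : ∀ x ∈ C, x ∈ S := fun x hx => mem_classPrimeTo_iff.mpr ⟨P, hx⟩
  have hfix : Nat.card (MulAction.fixedPoints ↥(P : Subgroup G) T) = Nat.card (C.map π) := by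
    refine Nat.card_congr
      { toFun := fun t => ⟨t.1.1, ?_⟩
        invFun := fun c => ⟨⟨c.1, ?_⟩, ?_⟩
        left_inv := fun t => rfl
        right_inv := fun c => rfl }
    · obtain ⟨x, hx, hxt⟩ := t.1.2
      refine ⟨x, ?_, hxt⟩
      -- `g ↦ [g, x]` on the elements fixing `x` modulo `Z`
      have hmem : ∀ g ∈ (P : Subgroup G), g * x * g⁻¹ * x⁻¹ ∈ Z := fun g hg => by
        have h := congrArg Subtype.val (MulAction.mem_fixedPoints.mp t.2 ⟨g, hg⟩)
        change π g * t.1.1 * (π g)⁻¹ = t.1.1 at h
        rw [← hxt, ← map_inv, ← map_mul, ← map_mul] at h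
        rw [← QuotientGroup.eq_one_iff]
        show π (g * x * g⁻¹ * x⁻¹) = 1
        rw [map_mul, h, ← map_mul, mul_inv_cancel, map_one]
      set N := (centralizer ({π x} : Set (G ⧸ Z))).comap π with hN
      have hPN : (P : Subgroup G) ≤ N := fun g hg => by
        rw [hN, mem_comap, mem_centralizer_singleton_iff, ← map_mul, ← map_mul]
        have := (QuotientGroup.eq_one_iff _).mpr (hmem g hg)
        change π (g * x * g⁻¹ * x⁻¹) = 1 at this
        calc π (g * x) = π (g * x * g⁻¹ * x⁻¹) * π (x * g) := by rw [← map_mul]; congr 1; group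
          _ = π (x * g) := by rw [this, one_mul]
      have hNmem : ∀ g ∈ N, g * x * g⁻¹ * x⁻¹ ∈ Z := fun g hg => by
        rw [hN, mem_comap, mem_centralizer_singleton_iff, ← map_mul, ← map_mul] at hg
        rw [← QuotientGroup.eq_one_iff]
        show π (g * x * g⁻¹ * x⁻¹) = 1
        rw [map_mul, map_mul, hg, ← map_mul, ← map_mul]
        simp [mul_assoc]
      let θ : N →* Z :=
        { toFun := fun g => ⟨(g : G) * x * (g : G)⁻¹ * x⁻¹, hNmem g g.2⟩
          map_one' := Subtype.ext (by simp)
          map_mul' := fun g g' => Subtype.ext (by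
            have hc := mem_center_iff.mp (hNmem g' g'.2).1 (g : G)
            show (g : G) * g' * x * ((g : G) * g')⁻¹ * x⁻¹ = _
            calc (g : G) * g' * x * ((g : G) * g')⁻¹ * x⁻¹
                = ((g : G) * ((g' : G) * x * (g' : G)⁻¹ * x⁻¹)) * (x * (g : G)⁻¹ * x⁻¹) := by group
              _ = ((g' : G) * x * (g' : G)⁻¹ * x⁻¹) * ((g : G) * x * (g : G)⁻¹ * x⁻¹) := by
                  rw [hc]; group
              _ = _ := (mem_center_iff.mp (hNmem g g.2).1 _)) }
      have hker : θ.ker = (centralizer ({x} : Set G)).subgroupOf N := by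
        ext g
        rw [MonoidHom.mem_ker, mem_subgroupOf, mem_centralizer_singleton_iff, Subtype.ext_iff]
        show (g : G) * x * (g : G)⁻¹ * x⁻¹ = 1 ↔ _
        rw [mul_inv_eq_one, mul_inv_eq_iff_eq_mul]
      have hxC : centralizer ({x} : Set G) ≤ N := fun g hg => by
        rw [hN, mem_comap, mem_centralizer_singleton_iff, ← map_mul, ← map_mul,
          mem_centralizer_singleton_iff.mp hg]
      have hrel : (centralizer ({x} : Set G)).relIndex N = 1 := by
        obtain ⟨k, hk⟩ := IsPGroup.iff_card.mp (P.2.to_le (inf_le_right : Z ≤ (P : Subgroup G)))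
        have h1 : θ.ker.index ∣ p ^ k := by
          rw [index_ker, ← hk]; exact card_subgroup_dvd_card _
        rw [hker] at h1
        obtain ⟨j, -, hj⟩ := (Nat.dvd_prime_pow hp).mp h1
        rcases j with - | j
        · simpa using hj
        · exfalso
          have hx' : ¬ p ∣ (centralizer ({x} : Set G)).index := by
            rw [← card_carrier_eq_index]; exact hx
          exact hx' ((Dvd.intro_left _ (pow_succ p j).symm).trans
            (hj ▸ relIndex_dvd_index_of_le hxC))
      exact mem_centralizer_iff.mpr fun g hg =>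
        mem_centralizer_singleton_iff.mp (relIndex_eq_one.mp hrel (hPN hg))
    · obtain ⟨x, hx, hxc⟩ := c.2
      exact ⟨x, hCS x hx, hxc⟩
    · refine MulAction.mem_fixedPoints.mpr fun g => Subtype.ext ?_
      obtain ⟨x, hx, hxc⟩ := c.2
      show π g * c.1 * (π g)⁻¹ = c.1
      rw [← hxc, ← map_inv, ← map_mul, ← map_mul, mem_centralizer_iff.mp hx g g.2, mul_inv_cancel_right]
  have hmod := @IsPGroup.card_modEq_card_fixedPoints p _ _ P.2 _ T act _
  rw [hfix, hTcard] at hmod
  -- the centre of `P` is central in `G`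
  have hCcard : Nat.card (C.map π) = Z.relIndex C := by
    rw [← relIndex_ker, hπ, QuotientGroup.ker_mk']
  have hinf : (P : Subgroup G) ⊓ C = Z := by
    refine le_antisymm ?_ (le_inf inf_le_right hZC)
    by_contra hle
    have hne : Z.relIndex ((P : Subgroup G) ⊓ C) ≠ 1 := fun h => hle (relIndex_eq_one.mp h)
    obtain ⟨k, hk⟩ := IsPGroup.iff_card.mp (P.2.to_le (inf_le_left : (P : Subgroup G) ⊓ C ≤ P))
    obtain ⟨j, -, hj⟩ := (Nat.dvd_prime_pow hp).mp (hk ▸ relIndex_dvd_card Z ((P : Subgroup G) ⊓ C))
    rcases j with - | j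
    · exact hne (by simpa using hj)
    · have hd : p ∣ Z.relIndex C := by
        rw [← relIndex_mul_relIndex Z ((P : Subgroup G) ⊓ C) C (le_inf inf_le_right hZC) inf_le_right, hj]
        exact Dvd.dvd.mul_right (Dvd.intro_left _ (pow_succ p j).symm) _
      rw [hCcard] at hmod
      exact P.not_dvd_index ((Nat.ModEq.dvd_iff hmod (dvd_refl p)).mpr hd)
  -- counting
  have hCle : ∀ Q : Sylow p G, Nat.card (centralizer ((Q : Subgroup G) : Set G)) ≤
      Nat.card Z * (P : Subgroup G).relIndex (normalizer ((P : Subgroup G) : Set G)) := fun Q => by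
    obtain ⟨g, rfl⟩ := MulAction.exists_smul_eq G P Q
    have hCN : C ≤ normalizer ((P : Subgroup G) : Set G) := centralizer_le_normalizer _
    have h1 : Nat.card C ≤ Nat.card Z * (P : Subgroup G).relIndex (normalizer ((P : Subgroup G) : Set G)) := by
      rw [← relIndex_bot_left C, ← relIndex_mul_relIndex ⊥ Z C bot_le hZC, relIndex_bot_left, ← hinf,
        inf_relIndex_right]
      exact Nat.mul_le_mul_left _ (relIndex_le_of_le_right hCN index_ne_zero_of_finite)
    refine le_trans (le_of_eq ?_) h1
    refine (Nat.card_congr (Equiv.subtypeEquiv (MulAut.conj g).toEquiv fun x => ?_)).symm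
    rw [mem_centralizer_iff, mem_centralizer_iff]
    constructor
    · rintro h _ ⟨y, hy, rfl⟩
      exact congrArg (MulAut.conj g) (h y hy) |> fun e => by simpa using e
    · intro h y hy
      have := h (MulAut.conj g y) ⟨y, hy, rfl⟩
      apply (MulAut.conj g).injective
      simpa using this
  set m := (P : Subgroup G).relIndex (normalizer ((P : Subgroup G) : Set G)) with hm
  have hsub : S ⊆ (Z : Set G) ∪ ⋃ Q : Sylow p G, ((centralizer ((Q : Subgroup G) : Set G) : Set G) \ Z) := by
    intro x hx
    by_cases hxZ : x ∈ Z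
    · exact Or.inl hxZ
    · obtain ⟨Q, hQ⟩ := mem_classPrimeTo_iff.mp hx
      exact Or.inr (Set.mem_iUnion.mpr ⟨Q, hQ, hxZ⟩)
  have := Fintype.ofFinite (Sylow p G)
  have hle : Nat.card S ≤ Nat.card Z + Nat.card (Sylow p G) * (Nat.card Z * m - Nat.card Z) := by
    rw [Nat.card_coe_set_eq]
    refine (Set.ncard_le_ncard hsub (Set.toFinite _)).trans ((Set.ncard_union_le _ _).trans ?_)
    refine Nat.add_le_add (le_of_eq (Nat.card_coe_set_eq _).symm) ?_
    refine (Set.ncard_iUnion_le_of_fintype _).trans ?_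
    rw [Nat.card_eq_fintype_card (α := Sylow p G), ← Finset.card_univ, ← smul_eq_mul]
    refine Finset.sum_le_card_nsmul _ _ _ fun Q _ => ?_
    rw [Set.ncard_sdiff (fun z hz => mem_centralizer_iff.mpr fun y _ => mem_center_iff.mp hz.1 y)
      (Set.toFinite _)]
    exact Nat.sub_le_sub_right (hCle Q) _
  have hN : Nat.card (Sylow p G) * m = (P : Subgroup G).index := by
    rw [P.card_eq_index_normalizer, mul_comm, hm]
    exact relIndex_mul_index le_normalizer
  rw [hcount, ← hN] at hle
  have hm1 : 1 ≤ m := Nat.one_le_iff_ne_zero.mpr index_ne_zero_of_finite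
  have hz1 : 1 ≤ Nat.card Z := Nat.card_pos
  have hn1 : Nat.card (Sylow p G) = 1 := by
    have hnp : 1 ≤ Nat.card (Sylow p G) := Nat.card_pos
    obtain ⟨m', hm'⟩ : ∃ m', m = m' + 1 := ⟨m - 1, by omega⟩
    rw [hm', Nat.mul_add (Nat.card Z), Nat.mul_one, Nat.add_sub_cancel] at hle
    have h2 : Nat.card Z * Nat.card (Sylow p G) ≤ Nat.card Z := by nlinarith
    exact le_antisymm (Nat.le_of_mul_le_mul_left (by simpa using h2) hz1) hnp
  have : Subsingleton (Sylow p G) := (Nat.card_eq_one_iff_unique.mp hn1).1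
  exact P.normal_of_subsingleton

/-- Let G and H be finite groups such that for every natural number k, G and H have the same number of conjugacy classes of size k. If H is nilpotent then G is nilpotent. -/
theorem result {G H : Type*} [Group G] [Finite G] [Group H] [Finite H]
    (hH : Group.IsNilpotent H)
    (h : ∀ k : ℕ, Nat.card {C : ConjClasses G // Nat.card C.carrier = k} = Nat.card {C : ConjClasses H // Nat.card C.carrier = k}) :
    Group.IsNilpotent G := by
  obtain ⟨φ, hφ⟩ := exists_equiv_carrier h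
  refine ((Group.isNilpotent_of_finite_tfae (G := G)).out 0 3 :
      Group.IsNilpotent G ↔ ∀ (r : ℕ) (_ : Fact r.Prime) (R : Sylow r G), (R : Subgroup G).Normal).mpr ?_
  intro p _ P
  obtain ⟨P'⟩ := (inferInstance : Nonempty (Sylow p H))
  refine normal_sylow P ?_
  have hcardG : Nat.card G = Nat.card H := Nat.card_congr φ
  have hS : Nat.card (classPrimeTo p G) = Nat.card (classPrimeTo p H) :=
    Nat.card_congr (Equiv.subtypeEquiv φ fun x => by
      show ¬ p ∣ _ ↔ ¬ p ∣ _
      rw [hφ])
  have hZ : Nat.card (center G) = Nat.card (center H) :=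
    Nat.card_congr (Equiv.subtypeEquiv φ fun x => by rw [mem_center_iff_card, mem_center_iff_card, hφ])
  have hidx : (P : Subgroup G).index = (P' : Subgroup H).index := by
    refine Nat.eq_of_mul_eq_mul_left (Nat.card_pos (α := (P : Subgroup G))) ?_
    rw [Subgroup.card_mul_index]
    conv_rhs => rw [P.card_eq_multiplicity, hcardG, ← P'.card_eq_multiplicity, Subgroup.card_mul_index]
    exact hcardG
  rw [hS, card_classPrimeTo_nilpotent P', hZ, hidx]

end Cfsg.Agent.S4139
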