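import Cfsg.Statements.S4142
import Cfsg.Agent.Lib.ClassCount.ConjIndex

set_option autoImplicit false
open Cfsg

namespace Cfsg.Agent.S4142

/-- Let G be a finite group and N a normal subgroup. Then the conjugacy class of every element g outside N is a union of cosets of N (gn is conjugate to g for all n ∈ N) if and only if for every g outside N the centralizer of g in G has the same order as the centralizer of gN in G/N. -/
theorem result {G : Type*} [Group G] [Finite G] (N : Subgroup G) [N.Normal] :
    (∀ g : G, g ∉ N → ∀ n ∈ N, ∃ x : G, x * g * x⁻¹ = g * n) ↔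
      ∀ g : G, g ∉ N → Nat.card (Subgroup.centralizer ({g} : Set G)) =
        Nat.card (Subgroup.centralizer ({(QuotientGroup.mk g : G ⧸ N)} : Set (G ⧸ N))) := by
  have key : ∀ g : G, (∀ n ∈ N, ∃ x : G, x * g * x⁻¹ = g * n) ↔
      Nat.card (Subgroup.centralizer ({g} : Set G)) =
        Nat.card (Subgroup.centralizer ({(QuotientGroup.mk g : G ⧸ N)} : Set (G ⧸ N))) := by
    intro g
    set D := (Subgroup.centralizer ({(QuotientGroup.mk g : G ⧸ N)} : Set (G ⧸ N))).comap
      (QuotientGroup.mk' N) with hD
    have memD : ∀ x, x ∈ D ↔ g⁻¹ * (x * g * x⁻¹) ∈ N := by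
      intro x
      rw [hD, Subgroup.mem_comap, Subgroup.mem_centralizer_singleton_iff, QuotientGroup.mk'_apply,
        ← QuotientGroup.mk_mul, ← QuotientGroup.mk_mul, QuotientGroup.eq]
      constructor <;> intro h
      · have h' := ‹N.Normal›.conj_mem _ (inv_mem h) x
        convert h' using 1
        group
      · have h' := ‹N.Normal›.conj_mem _ (inv_mem h) x⁻¹
        convert h' using 1
        group
    have hle : Subgroup.centralizer ({g} : Set G) ≤ D := by
      intro x hx
      rw [memD, Subgroup.mem_centralizer_singleton_iff.mp hx]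
      simp
    have hcardD : Nat.card D =
        Nat.card N * Nat.card (Subgroup.centralizer ({(QuotientGroup.mk g : G ⧸ N)} : Set (G ⧸ N))) := by
      have hND : N ≤ D := fun n hn => by
        rw [hD, Subgroup.mem_comap, QuotientGroup.mk'_apply, (QuotientGroup.eq_one_iff n).mpr hn]
        exact one_mem _
      have h1 := Subgroup.card_mul_index N
      have h2 := Subgroup.card_mul_index (Subgroup.centralizer ({(QuotientGroup.mk g : G ⧸ N)} : Set (G ⧸ N)))
      have h3 := Subgroup.card_mul_index D
      have h4 : D.index = (Subgroup.centralizer ({(QuotientGroup.mk g : G ⧸ N)} : Set (G ⧸ N))).index :=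
        Subgroup.index_comap_of_surjective _ (QuotientGroup.mk'_surjective N)
      rw [h4] at h3
      have h5 : Nat.card (G ⧸ N) = N.index := rfl
      apply Nat.eq_of_mul_eq_mul_right (Nat.pos_of_ne_zero
        (Subgroup.index_ne_zero_of_finite (H := Subgroup.centralizer ({(QuotientGroup.mk g : G ⧸ N)} : Set (G ⧸ N)))))
      rw [h3, mul_assoc, h2, h5, h1]
    have hr := ClassCount.relIndex_centralizer_singleton D g
    have hmul : Nat.card (Subgroup.centralizer ({g} : Set G)) *
        (Subgroup.centralizer ({g} : Set G)).relIndex D = Nat.card D := by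
      have := Subgroup.relIndex_mul_relIndex ⊥ (Subgroup.centralizer ({g} : Set G)) D bot_le hle
      simpa using this
    have hsub : (fun h : G => h * g * h⁻¹) '' (D : Set G) ⊆ (fun n => g * n) '' (N : Set G) := by
      rintro _ ⟨x, hx, rfl⟩
      exact ⟨_, (memD x).mp hx, by group⟩
    have hcardgN : ((fun n => g * n) '' (N : Set G)).ncard = Nat.card N := by
      rw [Set.ncard_image_of_injective _ (mul_right_injective g), ← Nat.card_coe_set_eq]
      rfl
    constructor
    · intro h
      have heq : (fun h : G => h * g * h⁻¹) '' (D : Set G) = (fun n => g * n) '' (N : Set G) := by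
        refine hsub.antisymm ?_
        rintro _ ⟨n, hn, rfl⟩
        obtain ⟨x, hx⟩ := h n hn
        refine ⟨x, (memD x).mpr ?_, hx⟩
        rw [hx]
        simpa using hn
      rw [hr, heq, hcardgN, hcardD, mul_comm] at hmul
      exact Nat.eq_of_mul_eq_mul_left Nat.card_pos hmul
    · intro h n hn
      rw [hcardD, hr, ← h, mul_comm (Nat.card N)] at hmul
      have h6 := Nat.eq_of_mul_eq_mul_left Nat.card_pos hmul
      have heq := Set.eq_of_subset_of_ncard_le hsub (by rw [h6, hcardgN]) (Set.toFinite _)
      have : g * n ∈ (fun h : G => h * g * h⁻¹) '' (D : Set G) := heq ▸ ⟨n, hn, rfl⟩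
      obtain ⟨x, -, hx⟩ := this
      exact ⟨x, hx⟩
  exact ⟨fun h g hg => (key g).mp (h g hg), fun h g hg => (key g).mpr (h g hg)⟩

end Cfsg.Agent.S4142
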