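import Cfsg.Statements.S4140
import Cfsg.Agent.S4112
import Cfsg.Agent.S4142
import Cfsg.Agent.Lib.OneNonlinear.Basic
import Cfsg.Agent.Lib.PGroup.UniqueOrderP
import Cfsg.Agent.Lib.Schur.Stem
import Cfsg.Agent.Lib.Subnormal.Nilpotent
import Cfsg.Agent.Lib.PComplement.FixedPointFree
import Cfsg.Agent.Lib.Coprime.Action
import Cfsg.Agent.Lib.OneNonlinear.PowerFixed
-- import your own Cfsg.Agent.* helpers here

set_option autoImplicit false
open Cfsg

namespace Cfsg.Agent.S4140

open Subgroup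
open scoped commutatorElement

set_option linter.style.haveILetI false

/-- The fixed-point-free trick: a `p`-element fixing a coset of `L` modulo which it is compared
fixes an element of the coset. -/
theorem exists_fixed_in_coset {G : Type*} [Group G] [Finite G] {p : ℕ} [Fact p.Prime] (L : Subgroup G)
    [L.Normal] (hL : (Nat.card L).Coprime p) {x m : G} (hx : ∃ k, x ^ p ^ k = 1)
    (hm : ⁅x, m⁆ ∈ L) : ∃ l ∈ L, x * (l * m) = (l * m) * x := by
  classical
  obtain ⟨k, hk⟩ := hx
  let S : Set G := {y | y * m⁻¹ ∈ L}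
  let H := zpowers (ConjAct.toConjAct x)
  have hS : ∀ h : H, ∀ y ∈ S, (h : ConjAct G) • y ∈ S := by
    rintro ⟨_, i, rfl⟩ y hy
    have hx1 : ∀ y ∈ S, x * y * x⁻¹ ∈ S := fun y hy => by
      show x * y * x⁻¹ * m⁻¹ ∈ L
      rw [show x * y * x⁻¹ * m⁻¹ = (x * (y * m⁻¹) * x⁻¹) * ⁅x, m⁆ by
        rw [commutatorElement_def]; group]
      exact mul_mem ((inferInstance : L.Normal).conj_mem _ hy x) hm
    show (ConjAct.toConjAct x ^ i) • y ∈ S
    rw [← map_zpow, ConjAct.toConjAct_smul]
    obtain ⟨j, hj⟩ : ∃ j : ℕ, x ^ i = x ^ j :=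
      (mem_powers_iff_mem_zpowers.2 (zpow_mem (mem_zpowers x) i)).imp fun j h => h.symm
    rw [hj]
    clear hj
    induction j with
    | zero => simpa using hy
    | succ j ih =>
      have := hx1 _ ih
      rw [pow_succ', mul_inv_rev]
      simpa [mul_assoc] using this
  letI : MulAction H S :=
    { smul := fun h y => ⟨(h : ConjAct G) • (y : G), hS h y y.2⟩
      one_smul := fun y => Subtype.ext (one_smul _ _)
      mul_smul := fun a b y => Subtype.ext (mul_smul (a : ConjAct G) b (y : G)) }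
  have hp : IsPGroup p H := fun h => ⟨k, by
    obtain ⟨i, hi⟩ := mem_zpowers_iff.1 h.2
    refine Subtype.ext ?_
    show (h : ConjAct G) ^ p ^ k = 1
    rw [← hi, ← zpow_natCast, ← zpow_mul, mul_comm, zpow_mul, zpow_natCast, ← map_pow, hk, map_one,
      one_zpow]⟩
  have hcard : Nat.card S = Nat.card L := Nat.card_congr
    { toFun := fun y => ⟨(y : G) * m⁻¹, y.2⟩
      invFun := fun l => ⟨(l : G) * m, by show (l : G) * m * m⁻¹ ∈ L; simp⟩
      left_inv := fun y => Subtype.ext (by simp)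
      right_inv := fun l => Subtype.ext (by simp) }
  obtain ⟨⟨y, hy⟩, hfix⟩ := hp.nonempty_fixed_point_of_prime_not_dvd_card S (by
    rw [hcard]
    exact (Fact.out : p.Prime).coprime_iff_not_dvd.1 hL.symm)
  refine ⟨y * m⁻¹, hy, ?_⟩
  have h : (ConjAct.toConjAct x) • y = y := congrArg Subtype.val (hfix ⟨_, mem_zpowers _⟩)
  rw [ConjAct.toConjAct_smul, mul_inv_eq_iff_eq_mul] at h
  rw [inv_mul_cancel_right]
  exact h

/-- A Sylow intersection inside `P'` below a cyclic or quaternion quotient is trivial. -/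
theorem eq_bot_of_quaternion_quotient {P : Type*} [Group P] [Finite P] (hP : IsPGroup 2 P)
    (T : Subgroup P) [T.Normal] (hT : T ≤ commutator P) {n : ℕ}
    (e : P ⧸ T ≃* QuaternionGroup (2 ^ n)) : T = ⊥ := by
  haveI : Fact (Nat.Prime 2) := ⟨Nat.prime_two⟩
  by_contra hne
  obtain ⟨j, hj⟩ := (hP.to_subgroup T).exists_card_eq
  have hj0 : j ≠ 0 := fun h => hne (card_eq_one.1 (by rw [hj, h, pow_zero]))
  obtain ⟨T₀, hT₀n, -, hT₀T, hT₀⟩ := PGroup.exists_normal_card_between hP ⊥ T bot_le (j - 1)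
    (by simp [Nat.one_le_pow]) (hj ▸ Nat.pow_le_pow_right (by norm_num) (Nat.sub_le j 1))
  haveI := hT₀n
  set ρ := QuotientGroup.mk' T₀
  let σ : P ⧸ T₀ →* P ⧸ T := QuotientGroup.map T₀ T (MonoidHom.id P) (fun x hx => hT₀T hx)
  have hσρ : ∀ x, σ (ρ x) = QuotientGroup.mk' T x := fun x => rfl
  have hker : σ.ker = T.map ρ := by
    ext u
    obtain ⟨x, rfl⟩ := QuotientGroup.mk'_surjective T₀ u
    rw [MonoidHom.mem_ker, hσρ]
    refine ⟨fun h => mem_map_of_mem ρ ((QuotientGroup.eq_one_iff x).1 h), ?_⟩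
    rintro ⟨t, ht, h⟩
    rw [← hσρ x, ← h, hσρ]
    exact (QuotientGroup.eq_one_iff t).2 ht
  have hkc : Nat.card σ.ker = 2 := by
    have h1 := Nat.card_congr (QuotientGroup.quotientKerEquivRange (ρ.domRestrict T)).toEquiv
    rw [MonoidHom.domRestrict_range, MonoidHom.ker_domRestrict, QuotientGroup.ker_mk'] at h1
    rw [hker, ← h1]
    have h2 := Subgroup.card_eq_card_quotient_mul_card_subgroup (T₀.subgroupOf T)
    rw [Nat.card_congr (subgroupOfEquivOfLe hT₀T).toEquiv, hT₀, hj] at h2
    refine Nat.eq_of_mul_eq_mul_right (pow_pos (by norm_num : 0 < 2) (j - 1)) ?_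
    rw [← h2, ← pow_succ', Nat.sub_add_cancel (Nat.one_le_iff_ne_zero.2 hj0)]
  have hz : σ.ker ≤ center (P ⧸ T₀) := PGroup.le_center_of_card_eq (hP.to_quotient T₀) _ hkc
  set A := (zpowers (QuaternionGroup.a (n := 2 ^ n) 1)).map e.symm.toMonoidHom
  haveI : IsCyclic A := isCyclic_of_surjective
    (e.symm.toMonoidHom.subgroupMap (zpowers (QuaternionGroup.a (n := 2 ^ n) 1)))
    (MonoidHom.subgroupMap_surjective _ _)
  have hsurj : (⊤ : Subgroup (P ⧸ T₀)).map σ = ⊤ :=
    map_top_of_surjective σ fun u => by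
      obtain ⟨x, rfl⟩ := QuotientGroup.mk'_surjective T u
      exact ⟨ρ x, rfl⟩
  haveI : NeZero (2 ^ n) := ⟨pow_ne_zero _ two_ne_zero⟩
  have hAmem : ∀ u, u ∈ A ↔ ∃ i, e u = QuaternionGroup.a i := by
    intro u
    constructor
    · rintro ⟨w, hw, rfl⟩
      obtain ⟨i, rfl⟩ := mem_powers_iff_mem_zpowers.2 hw
      exact ⟨(i : ZMod (2 * 2 ^ n)), by simp⟩
    · rintro ⟨i, hi⟩
      refine ⟨QuaternionGroup.a i, ⟨(i.val : ℤ), ?_⟩, ?_⟩
      · show QuaternionGroup.a 1 ^ _ = QuaternionGroup.a i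
        rw [zpow_natCast, QuaternionGroup.a_one_pow, ZMod.natCast_zmod_val]
      · rw [← hi]; exact e.symm_apply_apply u
  have hinv : (QuaternionGroup.xa (0 : ZMod (2 * 2 ^ n)))⁻¹ =
      QuaternionGroup.xa (((2 ^ n : ℕ) : ZMod (2 * 2 ^ n)) + 0) := rfl
  have hbot := Schur.commutator_inf_ker_eq_bot_of_quaternion σ hz ⊤ A (hsurj ▸ le_top)
    (b := e.symm (QuaternionGroup.xa 0)) (hsurj ▸ mem_top _)
    (fun u hu => by
      obtain ⟨i, hi⟩ := (hAmem u).1 hu
      rw [hAmem]
      exact ⟨_, by rw [map_mul, map_mul, map_inv, e.apply_symm_apply, hi, QuaternionGroup.xa_mul_a,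
        hinv, QuaternionGroup.xa_mul_xa]⟩)
    (by rw [hAmem]; exact ⟨_, by simp; rfl⟩)
    (fun u _ => by
      rcases hu : e u with i | i
      · exact Or.inl ((hAmem u).2 ⟨i, hu⟩)
      · refine Or.inr ((hAmem _).2
          ⟨((2 ^ n : ℕ) : ZMod (2 * 2 ^ n)) + (((2 ^ n : ℕ) : ZMod (2 * 2 ^ n)) + 0) - i, ?_⟩)
        rw [map_mul, map_inv, e.apply_symm_apply, hu, hinv, QuaternionGroup.xa_mul_xa])
    (fun u hu hcu => by
      obtain ⟨i, hi⟩ := (hAmem u).1 hu
      have h := congrArg e hcu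
      rw [map_mul, map_mul, e.apply_symm_apply, hi, QuaternionGroup.xa_mul_a,
        QuaternionGroup.a_mul_xa, zero_add, zero_sub] at h
      have h2 : i + i = 0 := by
        have := QuaternionGroup.xa.inj h
        linear_combination this
      -- `2 i = 0` in `ZMod (2 * 2 ^ n)`
      have hdvd : ((2 ^ n : ℕ) : ℤ) ∣ (i.val : ℤ) := by
        have h3 : ((i.val + i.val : ℕ) : ZMod (2 * 2 ^ n)) = 0 := by simp [h2]
        rw [ZMod.natCast_eq_zero_iff] at h3
        exact_mod_cast (Nat.mul_dvd_mul_iff_left two_pos).1 (by rwa [← two_mul] at h3)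
      have hlt := i.val_lt
      obtain ⟨c, hc⟩ := Int.natCast_dvd_natCast.1 hdvd
      have hc2 : c < 2 := by
        by_contra hc2
        push Not at hc2
        have := Nat.mul_le_mul_left (2 ^ n) hc2
        omega
      interval_cases c
      · refine Or.inl (e.injective ?_)
        rw [hi, map_one, show i = 0 from (ZMod.val_eq_zero i).1 (by omega)]
        rfl
      · refine Or.inr (e.injective ?_)
        rw [hi, map_mul, e.apply_symm_apply, QuaternionGroup.xa_mul_xa]
        congr 1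
        rw [sub_zero, add_zero, ← ZMod.natCast_zmod_val i, hc, mul_one])
  have hle : σ.ker ≤ ⁅(⊤ : Subgroup (P ⧸ T₀)), (⊤ : Subgroup (P ⧸ T₀))⁆ := by
    rw [hker, ← map_top_of_surjective ρ (QuotientGroup.mk'_surjective T₀), ← map_commutator]
    exact Subgroup.map_mono hT
  rw [eq_bot_iff] at hbot
  have := card_le_of_le ((le_inf hle le_rfl).trans hbot)
  rw [hkc, card_bot] at this
  omega

/-- Let G be a finite group and N a proper non-trivial normal subgroup such that for every g outside N the conjugacy class of g is a union of cosets of N (equivalently gn is conjugate to g for every n ∈ N). Then either every element of G outside N acts fixed-point-freely on N (C_G(x) ≤ N for all x ∈ N, x ≠ 1, so G is a Frobenius group with kernel N), or N has prime-power order, or G/N has prime-power order. -/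
theorem result {G : Type*} [Group G] [Finite G] (N : Subgroup G) [N.Normal] (hN1 : N ≠ ⊥) (hN2 : N ≠ ⊤)
    (hcam : ∀ g : G, g ∉ N → ∀ n ∈ N, ∃ x : G, x * g * x⁻¹ = g * n) :
    (∀ x ∈ N, x ≠ 1 → Subgroup.centralizer ({x} : Set G) ≤ N) ∨ IsPrimePow (Nat.card N) ∨ IsPrimePow N.index := by
  classical
  by_cases hcop : N.index.Coprime (Nat.card N)
  · exact Or.inl ((Cfsg.Agent.S4112.result N N le_rfl hN1 hN2 hcam).1.2 hcop)
  refine Or.inr (or_iff_not_imp_left.2 fun hNpow => ?_)
  by_contra hIpow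
  obtain ⟨p, hp, hpd⟩ := Nat.exists_prime_and_dvd hcop
  haveI : Fact p.Prime := ⟨hp⟩
  obtain ⟨P⟩ : Nonempty (Sylow p G) := inferInstance
  set T := N ⊓ (P : Subgroup G) with hTdef
  -- the complement and the focal condition, at a prime dividing both orders
  have hcompl : ∀ (q : ℕ) [Fact q.Prime] (S : Sylow q G), q ∣ N.index → q ∣ Nat.card N →
      (N.subgroupOf (S : Subgroup G) ≤ _root_.commutator (S : Subgroup G) ∧
        N.subgroupOf (S : Subgroup G) ≠ ⊥ ∧ ¬ (S : Subgroup G) ≤ N) ∧
      ∃ M : Subgroup G, M.Normal ∧ M ≤ N ∧ (Nat.card M).Coprime q ∧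
        ∃ k, Nat.card N = Nat.card M * q ^ k := by
    intro q hq S hqI hqN
    have hSN : ¬ (S : Subgroup G) ≤ N := fun h =>
      S.not_dvd_index (hqI.trans (index_dvd_of_le h))
    set Ts := N.subgroupOf (S : Subgroup G) with hTs
    -- the `q`-part of the index
    have hrel : Ts.index * Nat.card Ts = Nat.card (S : Subgroup G) := by
      rw [mul_comm]; exact Ts.card_mul_index
    have hTsne : Ts ≠ ⊥ := by
      intro h
      have h1 : (S : Subgroup G).relIndex N = Nat.card N := by
        rw [hTs, subgroupOf_eq_bot, disjoint_iff] at h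
        rw [← inf_relIndex_right, inf_comm, h, relIndex_bot_left]
      have h2 : q ∣ (S : Subgroup G).index :=
        hqN.trans (h1 ▸ PrimeParts.relIndex_dvd_index_of_normal' (S : Subgroup G) N)
      exact S.not_dvd_index h2
    -- an element of `S` outside `N`, central modulo `N`
    haveI : Nontrivial ((S : Subgroup G) ⧸ Ts) := by
      obtain ⟨x, hx, hxN⟩ := SetLike.not_le_iff_exists.1 hSN
      exact ⟨⟨QuotientGroup.mk ⟨x, hx⟩, 1, fun h => hxN ((QuotientGroup.eq_one_iff _).1 h :)⟩⟩
    haveI := (S.2.to_quotient Ts).center_nontrivial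
    obtain ⟨⟨z, hz⟩, hz1⟩ := exists_ne (1 : center ((S : Subgroup G) ⧸ Ts))
    obtain ⟨x, rfl⟩ := QuotientGroup.mk'_surjective Ts z
    have hxN : (x : G) ∉ N := fun h => hz1 (Subtype.ext ((QuotientGroup.eq_one_iff x).2 (show x ∈ N.subgroupOf _ from h)))
    have hder : Ts ≤ _root_.commutator (S : Subgroup G) := by
      intro t ht
      have hsub : ∀ s ∈ (S : Subgroup G), (x : G)⁻¹ * (s * x * s⁻¹) ∈ (S : Subgroup G) ⊓ N := by
        intro s hs
        have h := mem_center_iff.1 hz (QuotientGroup.mk' Ts ⟨s, hs⟩)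
        rw [← map_mul, ← map_mul, eq_comm, QuotientGroup.mk'_eq_mk'] at h
        obtain ⟨u, hu, he⟩ := h
        have he' : (x : G) * s * u = s * x := congrArg Subtype.val he
        refine mem_inf.2 ⟨mul_mem (inv_mem x.2) (mul_mem (mul_mem hs x.2) (inv_mem hs)), ?_⟩
        rw [← he', show (x : G)⁻¹ * (x * s * u * s⁻¹) = s * u * s⁻¹ by group]
        exact (inferInstance : N.Normal).conj_mem _ hu s
      have hcard : Nat.card ↥((S : Subgroup G) ⊓ centralizer ({(x : G)} : Set G)) *
          Nat.card ↥((S : Subgroup G) ⊓ N) ≤ Nat.card (S : Subgroup G) := by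
        have e : Nat.card ↥((S : Subgroup G) ⊓ N) = Nat.card Ts := by
          rw [hTs, ← inf_subgroupOf_left]
          exact (Nat.card_congr (subgroupOfEquivOfLe inf_le_left).toEquiv).symm
        rw [e, ← hrel]
        refine Nat.mul_le_mul_right _ ?_
        obtain ⟨a, ha⟩ := (S.2.to_le (inf_le_left
          (b := centralizer ({(x : G)} : Set G)))).exists_card_eq
        rw [ha]
        have h1 : q ^ a ∣ N.index := by
          rw [← ha]
          refine (card_dvd_of_le inf_le_right).trans ?_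
          rw [(Cfsg.Agent.S4142.result N).1 hcam x hxN]
          exact card_subgroup_dvd_card _
        obtain ⟨b, hb⟩ : ∃ b, Ts.index = q ^ b := S.2.index Ts
        have h2 : N.index ∣ (S : Subgroup G).index * Ts.index := by
          rw [show Ts.index = N.relIndex (S : Subgroup G) from rfl, mul_comm,
            ← inf_relIndex_right N (S : Subgroup G), relIndex_mul_index inf_le_right]
          exact index_dvd_of_le inf_le_left
        rw [hb]
        refine Nat.le_of_dvd (pow_pos hq.out.pos _) ?_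
        have h3 := h1.trans h2
        rw [hb] at h3
        exact ((hq.out.coprime_iff_not_dvd.2 S.not_dvd_index).pow_left a).dvd_of_dvd_mul_left h3
      obtain ⟨s, hs, he⟩ := OneNonlinear.exists_conj_eq_mul (S : Subgroup G) ((S : Subgroup G) ⊓ N)
        (x : G) hsub hcard (mem_inf.2 ⟨t.2, ht⟩ : (t : G) ∈ (S : Subgroup G) ⊓ N)
      have e' : t = ⁅x⁻¹, (⟨s, hs⟩ : (S : Subgroup G))⁆ := by
        apply Subtype.ext
        show (t : G) = (x : G)⁻¹ * s * (x : G)⁻¹⁻¹ * s⁻¹
        rw [inv_inv, mul_assoc, mul_assoc, ← mul_assoc s, he, inv_mul_cancel_left]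
      rw [e']
      exact commutator_mem_commutator (mem_top _) (mem_top _)
    refine ⟨⟨hder, hTsne, hSN⟩, OneNonlinear.exists_complement N
      (Transfer.hasNormalPComplement_normal_of_le_frattini S N fun t ht => ?_)⟩
    exact ⟨⟨t, ht.2⟩, PGroup.commutator_le_frattini S.2 (hder (show _ ∈ Ts from ht.1)), rfl⟩
  have hpI : p ∣ N.index := hpd.trans (Nat.gcd_dvd_left _ _)
  have hpN : p ∣ Nat.card N := hpd.trans (Nat.gcd_dvd_right _ _)
  obtain ⟨⟨hder, hTne, hPN⟩, M, hMn, hMN, hMcop, k, hk⟩ := hcompl p P hpI hpN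
  set Ts := N.subgroupOf (P : Subgroup G)
  have hk0 : 0 < k := by
    rcases Nat.eq_zero_or_pos k with rfl | h
    · exfalso
      rw [pow_zero, mul_one] at hk
      rw [hk] at hpN
      exact (hp.coprime_iff_not_dvd.1 hMcop.symm) hpN
    · exact h
  have hM1 : Nat.card M ≠ 1 := fun h => hNpow (by
    rw [hk, h, one_mul]; exact hp.isPrimePow.pow hk0.ne')
  -- another prime dividing the index
  obtain ⟨r, hr, hrI, hrp⟩ : ∃ r, r.Prime ∧ r ∣ N.index ∧ r ≠ p := by
    by_contra h
    push Not at h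
    have h1 := Nat.eq_prime_pow_of_unique_prime_dvd FiniteIndex.index_ne_zero
      (fun {d} hd hdI => h d hd hdI)
    refine hIpow (h1 ▸ hp.isPrimePow.pow ?_)
    intro h0
    rw [h0, pow_zero, index_eq_one] at h1
    exact hN2 h1
  haveI : Fact r.Prime := ⟨hr⟩
  -- `T` centralises `M` modulo a smaller normal subgroup
  obtain ⟨L, hLn, hLM, hLcop, m₀, hm₀, hm₀L, hTL⟩ : ∃ L : Subgroup G, L.Normal ∧ L ≤ M ∧
      (Nat.card L).Coprime p ∧ ∃ m₀ ∈ M, m₀ ∉ L ∧
      ∀ t ∈ (P : Subgroup G), t ∈ N → ∀ m ∈ M, ⁅t, m⁆ ∈ L := by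
    obtain ⟨m₀, hm₀, hm₀1⟩ : ∃ m ∈ M, m ≠ 1 := by
      by_contra h
      push Not at h
      exact hM1 (card_eq_one.2 (eq_bot_iff.2 fun m hm => mem_bot.2 (h m hm)))
    by_cases hrN : r ∣ Nat.card N
    · obtain ⟨R⟩ : Nonempty (Sylow r G) := inferInstance
      obtain ⟨-, Mr, hMrn, hMrN, hMrcop, l, hl⟩ := hcompl r R hrI hrN
      haveI := hMrn
      haveI := hMn
      have hl0 : 0 < l := by
        rcases Nat.eq_zero_or_pos l with rfl | h
        · exfalso
          rw [pow_zero, mul_one] at hl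
          rw [hl] at hrN
          exact (hr.coprime_iff_not_dvd.1 hMrcop.symm) hrN
        · exact h
      have hMr : ¬ M ≤ Mr := by
        intro h
        have h1 : r ∣ Nat.card M := by
          have : r ∣ Nat.card M * p ^ k := hk ▸ hl ▸ dvd_mul_of_dvd_right (dvd_pow_self r hl0.ne') _
          exact ((Nat.coprime_primes hr hp).2 hrp).pow_right k |>.dvd_of_dvd_mul_right this
        exact hr.coprime_iff_not_dvd.1 hMrcop.symm (h1.trans (card_dvd_of_le h))
      obtain ⟨m, hm, hmr⟩ := SetLike.not_le_iff_exists.1 hMr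
      refine ⟨M ⊓ Mr, inferInstance, inf_le_left,
        hMcop.coprime_dvd_left (card_dvd_of_le inf_le_left), m, hm, fun h => hmr h.2, ?_⟩
      intro t ht htN m hm
      have htMr : t ∈ Mr := by
        haveI : (Mr.subgroupOf N).Normal := inferInstance
        have h1 : QuotientGroup.mk' (Mr.subgroupOf N) ⟨t, htN⟩ = 1 := by
          rw [← orderOf_eq_one_iff]
          obtain ⟨i, hi⟩ := P.2 ⟨t, ht⟩
          have hi' : (⟨t, htN⟩ : N) ^ p ^ i = 1 :=
            Subtype.ext (show t ^ p ^ i = 1 from congrArg Subtype.val hi :)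
          refine Nat.eq_one_of_dvd_coprimes
            ((((Nat.coprime_primes hp hr).2 hrp.symm).pow_left i).pow_right l)
            ((orderOf_map_dvd (QuotientGroup.mk' (Mr.subgroupOf N)) ⟨t, htN⟩).trans
              (orderOf_dvd_of_pow_eq_one hi')) ?_
          have h2 := Subgroup.card_eq_card_quotient_mul_card_subgroup (Mr.subgroupOf N)
          rw [Nat.card_congr (subgroupOfEquivOfLe hMrN).toEquiv, hl, mul_comm (Nat.card Mr)] at h2
          rw [Nat.eq_of_mul_eq_mul_right Nat.card_pos h2]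
          exact orderOf_dvd_natCard _
        exact ((QuotientGroup.eq_one_iff _).1 h1 :)
      refine mem_inf.2 ⟨?_, ?_⟩
      · rw [commutatorElement_def]
        exact mul_mem (hMn.conj_mem m hm t) (inv_mem hm)
      · rw [commutatorElement_def, mul_assoc, mul_assoc, ← mul_assoc m]
        exact mul_mem htMr (hMrn.conj_mem _ (inv_mem htMr) m)
    · -- an element of order `r` acts without fixed points on `N`
      obtain ⟨g, hg⟩ := exists_prime_orderOf_dvd_card' (G := G) r
        (hrI.trans (index_dvd_card N))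
      have hgN : g ∉ N := fun h => hrN (hg ▸ (by
        have := orderOf_dvd_natCard (⟨g, h⟩ : N)
        rwa [orderOf_mk] at this))
      let σ : MulAut N := MulAut.conjNormal g
      have hσ : σ ^ r = 1 := by rw [← map_pow, ← hg, pow_orderOf_eq_one, map_one]
      have hfpf : ∀ n : N, σ n = n → n = 1 := by
        intro n hn
        have hcm : Commute g (n : G) := by
          have h := congrArg Subtype.val hn
          rw [MulAut.conjNormal_apply, mul_inv_eq_iff_eq_mul] at h
          exact h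
        obtain ⟨c, hc⟩ := hcam g hgN n n.2
        have h1 : (g * n) ^ r = 1 := by
          rw [← hc, conj_pow, ← hg, pow_orderOf_eq_one, mul_one, mul_inv_cancel]
        rw [hcm.mul_pow, ← hg, pow_orderOf_eq_one, one_mul, hg] at h1
        apply Subtype.ext
        rw [OneMemClass.coe_one, ← orderOf_eq_one_iff]
        exact Nat.eq_one_of_dvd_coprimes (hr.coprime_iff_not_dvd.2 hrN) (orderOf_dvd_of_pow_eq_one h1)
          (orderOf_coe n ▸ orderOf_dvd_natCard n)
      haveI := PComplement.isNilpotent_of_fpf (p := r) N σ hσ hfpf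
      refine ⟨⊥, inferInstance, bot_le, by simp, m₀, hm₀, fun h => hm₀1 (mem_bot.1 h), ?_⟩
      intro t ht htN m hm
      obtain ⟨i, hi⟩ := P.2 ⟨t, ht⟩
      have h := Subnormal.commute_of_coprime (G := N) (p := p) (k := i) (u := ⟨t, htN⟩)
        (y := ⟨m, hMN hm⟩) (Subtype.ext (show t ^ p ^ i = 1 from congrArg Subtype.val hi :)) (by
          rw [orderOf_mk]
          refine hMcop.coprime_dvd_left ?_
          have := orderOf_dvd_natCard (⟨m, hm⟩ : M)
          rwa [orderOf_mk] at this)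
      rw [mem_bot, commutatorElement_eq_one_iff_commute]
      exact (congrArg Subtype.val h.symm.eq :)
  haveI := hLn
  haveI := hMn
  -- elements of `P` outside `N` fix nothing on `M / L`
  have hfix : ∀ x ∈ (P : Subgroup G), x ∉ N → ∀ m ∈ M, ⁅x, m⁆ ∈ L → m ∈ L := by
    intro x hx hxN m hm hxm
    obtain ⟨i, hi⟩ := P.2 ⟨x, hx⟩
    have hi' : x ^ p ^ i = 1 := congrArg Subtype.val hi
    obtain ⟨l, hl, hc⟩ := exists_fixed_in_coset L hLcop ⟨i, hi'⟩ hxm
    have hy : l * m ∈ M := mul_mem (hLM hl) hm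
    obtain ⟨c, hc'⟩ := hcam x hxN (l * m) (hMN hy)
    have h1 : (x * (l * m)) ^ p ^ i = 1 := by
      rw [← hc', conj_pow, hi', mul_one, mul_inv_cancel]
    rw [(show Commute x (l * m) from hc).mul_pow, hi', one_mul] at h1
    have h2 : l * m = 1 := by
      rw [← orderOf_eq_one_iff]
      refine Nat.eq_one_of_dvd_coprimes (hMcop.pow_right i) ?_ (orderOf_dvd_of_pow_eq_one h1)
      have := orderOf_dvd_natCard (⟨l * m, hy⟩ : M)
      rwa [orderOf_mk] at this
    rw [eq_inv_of_mul_eq_one_right h2]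
    exact inv_mem hl
  -- the action of `P / T` on `M / L`
  set W := M.map (QuotientGroup.mk' L)
  haveI : W.Normal := Normal.map inferInstance _ (QuotientGroup.mk'_surjective L)
  let ψ : (P : Subgroup G) →* MulAut W :=
    MulAut.conjNormal.comp ((QuotientGroup.mk' L).comp (P : Subgroup G).subtype)
  have hψ : ∀ (x : (P : Subgroup G)) (w : W) (m : G), QuotientGroup.mk' L m = w →
      (ψ x w = w ↔ ⁅(x : G), m⁆ ∈ L) := by
    intro x w m hm
    rw [Subtype.ext_iff]
    show QuotientGroup.mk' L x * (w : G ⧸ L) * (QuotientGroup.mk' L x)⁻¹ = w ↔ _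
    rw [← hm, mul_inv_eq_iff_eq_mul, ← commutatorElement_eq_one_iff_mul_comm,
      ← map_commutatorElement]
    exact QuotientGroup.eq_one_iff _
  have hker : Ts ≤ ψ.ker := fun t ht => MulEquiv.ext fun w => by
    obtain ⟨m, hm, he⟩ := w.2
    exact (hψ t w m he).2 (hTL t t.2 ht m hm)
  let ψ' : (P : Subgroup G) ⧸ Ts →* MulAut W := QuotientGroup.lift Ts ψ hker
  have hψ' : ∀ u : (P : Subgroup G) ⧸ Ts, u ≠ 1 → ∀ w : W, ψ' u w = w → w = 1 := by
    intro u hu w hw
    obtain ⟨x, rfl⟩ := QuotientGroup.mk'_surjective Ts u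
    obtain ⟨m, hm, he⟩ := w.2
    have hxN : (x : G) ∉ N := fun h => hu ((QuotientGroup.eq_one_iff x).2 (show x ∈ N.subgroupOf _ from h))
    refine Subtype.ext ?_
    show (w : G ⧸ L) = 1
    rw [← he]
    exact (QuotientGroup.eq_one_iff m).2 (hfix x x.2 hxN m hm ((hψ x w m he).1 hw))
  let w₀ : W := ⟨QuotientGroup.mk' L m₀, mem_map_of_mem _ hm₀⟩
  have hw₀ : w₀ ≠ 1 := fun h =>
    hm₀L ((QuotientGroup.eq_one_iff m₀).1 (congrArg Subtype.val h :))
  -- there is only one subgroup of order `p`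
  have hQ : IsPGroup p ((P : Subgroup G) ⧸ Ts) := P.2.to_quotient Ts
  haveI : Nontrivial ((P : Subgroup G) ⧸ Ts) := by
    obtain ⟨x, hx, hxN⟩ := SetLike.not_le_iff_exists.1 hPN
    exact ⟨⟨QuotientGroup.mk ⟨x, hx⟩, 1, fun h => hxN ((QuotientGroup.eq_one_iff _).1 h :)⟩⟩
  haveI := hQ.center_nontrivial
  obtain ⟨a, ha⟩ := (hQ.to_subgroup (center _)).exists_card_eq
  obtain ⟨⟨z, hzc⟩, hz⟩ := exists_prime_orderOf_dvd_card' (G := center ((P : Subgroup G) ⧸ Ts)) p (by
    rcases Nat.eq_zero_or_pos a with rfl | h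
    · exact absurd (ha.trans (pow_zero p)) (Finite.one_lt_card.ne')
    · rw [ha]; exact dvd_pow_self p h.ne')
  rw [orderOf_mk] at hz
  have huniq : ∀ y : (P : Subgroup G) ⧸ Ts, orderOf y = p → y ∈ zpowers z := by
    intro y hy
    by_contra hyz
    set E := closure ({z, y} : Set ((P : Subgroup G) ⧸ Ts))
    have hzy : y * z = z * y := mem_center_iff.1 hzc y
    have hE : E ≤ centralizer ({z, y} : Set _) := by
      refine (closure_le _).2 ?_
      rintro u (rfl | rfl) <;> rw [SetLike.mem_coe, mem_centralizer_iff] <;>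
        rintro v (rfl | rfl) <;> first | rfl | exact hzy | exact hzy.symm
    have hEc : ∀ u ∈ E, ∀ v ∈ E, Commute u v := by
      intro u hu v hv
      have h1 : E ≤ centralizer (E : Set _) := (closure_le _).2 fun w hw =>
        mem_centralizer_iff.2 fun v hv => ((mem_centralizer_iff.1 (hE hv)) w hw).symm
      exact (mem_centralizer_iff.1 (h1 hv) u hu)
    letI : CommGroup E :=
      { (inferInstance : Group E) with
        mul_comm := fun u v => Subtype.ext (hEc u u.2 v v.2).eq }
    have hexp : ∀ u ∈ E, u ^ p = 1 := by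
      intro u hu
      induction hu using closure_induction with
      | mem u hu =>
        rcases hu with rfl | rfl
        · exact orderOf_dvd_iff_pow_eq_one.1 hz.dvd
        · exact orderOf_dvd_iff_pow_eq_one.1 hy.dvd
      | one => exact one_pow p
      | mul u v hu hv iu iv => rw [(hEc u hu v hv).mul_pow, iu, iv, one_mul]
      | inv u _ iu => rw [inv_pow, iu, inv_one]
    have hnc : ¬ IsCyclic E := OneNonlinear.not_isCyclic_of_exponent (p := p)
      (fun u => Subtype.ext (hexp u u.2 :))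
      (a := ⟨z, subset_closure (Or.inl rfl)⟩) (b := ⟨y, subset_closure (Or.inr rfl)⟩)
      (fun h => by
        have : z = 1 := congrArg Subtype.val h
        rw [this, orderOf_one] at hz
        exact hp.ne_one hz.symm)
      (fun h => by
        obtain ⟨j, hj⟩ := mem_zpowers_iff.1 h
        exact hyz ⟨j, congrArg Subtype.val hj⟩)
    have hcopE : (Nat.card E).Coprime (Nat.card W) := by
      obtain ⟨b, hb⟩ := (hQ.to_subgroup E).exists_card_eq
      rw [hb]
      exact ((hMcop.coprime_dvd_left (card_map_dvd _ _)).symm).pow_left b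
    have hS := Coprime.eq_top_of_forall_fixedBy_le (ψ'.comp E.subtype) hnc hcopE (S := ⊥)
      fun u hu w hw => by
        rw [hψ' u (fun h => hu (Subtype.ext h)) w hw]; exact one_mem _
    exact hw₀ (mem_bot.1 (hS ▸ mem_top w₀))
  have huniq' : ∀ H : Subgroup ((P : Subgroup G) ⧸ Ts), Nat.card H = p → H = zpowers z := by
    intro H hH
    refine eq_of_le_of_card_ge (fun y hy => ?_) (by rw [Nat.card_zpowers, hz, hH])
    rcases eq_or_ne y 1 with rfl | hy1
    · exact one_mem _
    · refine huniq y (orderOf_eq_prime ?_ hy1)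
      have h := pow_card_eq_one' (x := (⟨y, hy⟩ : H))
      rw [hH] at h
      exact congrArg Subtype.val h
  rcases PGroup.cyclic_or_quaternion_of_unique hQ
    (fun H K hH hK => (huniq' H hH).trans (huniq' K hK).symm) with hc | ⟨rfl, n, hn, -, ⟨e⟩⟩
  · -- cyclic quotient
    obtain ⟨u, hu⟩ := IsCyclic.exists_generator (α := (P : Subgroup G) ⧸ Ts)
    obtain ⟨x, rfl⟩ := QuotientGroup.mk'_surjective Ts u
    have htop : zpowers x = (⊤ : Subgroup (P : Subgroup G)) := frattini_nongenerating (eq_top_iff.2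
      fun v _ => by
        obtain ⟨j, hj⟩ := mem_zpowers_iff.1 (hu (QuotientGroup.mk' Ts v))
        rw [← map_zpow, QuotientGroup.mk'_eq_mk'] at hj
        obtain ⟨t, ht, rfl⟩ := hj
        exact mul_mem (mem_sup_left (zpow_mem (mem_zpowers x) j))
          (mem_sup_right (PGroup.commutator_le_frattini P.2 (hder ht))))
    refine hTne (le_bot_iff.1 (hder.trans (Subgroup.commutator_le.2 fun a _ b _ => ?_)))
    obtain ⟨i, rfl⟩ := mem_zpowers_iff.1 (htop ▸ mem_top a : a ∈ zpowers x)
    obtain ⟨j, rfl⟩ := mem_zpowers_iff.1 (htop ▸ mem_top b : b ∈ zpowers x)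
    exact mem_bot.2 (commutatorElement_eq_one_iff_mul_comm.2 (zpow_mul_comm x i j))
  · exact hTne (eq_bot_of_quaternion_quotient P.2 Ts hder e)

end Cfsg.Agent.S4140
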