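import Cfsg.Statements.S4141
import Cfsg.Agent.S0205
import Cfsg.Agent.S4140
import Cfsg.Agent.Lib.Camina.NoFreeModule

set_option autoImplicit false
open Cfsg

namespace Cfsg.Agent.S4141

open Subgroup
open scoped commutatorElement

set_option linter.style.haveILetI false

/-- At a prime dividing both orders: `N ∩ S ≤ S'` and `N` has a normal complement. -/
theorem exists_complement {G : Type*} [Group G] [Finite G] (N : Subgroup G) [N.Normal]
    (hcam : ∀ g : G, g ∉ N → ∀ n ∈ N, ∃ x : G, x * g * x⁻¹ = g * n)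
    (q : ℕ) [hq : Fact q.Prime] (S : Sylow q G) (hqI : q ∣ N.index) (hqN : q ∣ Nat.card N) :
    (N.subgroupOf (S : Subgroup G) ≤ _root_.commutator (S : Subgroup G) ∧
        N.subgroupOf (S : Subgroup G) ≠ ⊥ ∧ ¬ (S : Subgroup G) ≤ N) ∧
      ∃ M : Subgroup G, M.Normal ∧ M ≤ N ∧ (Nat.card M).Coprime q ∧
        ∃ k, Nat.card N = Nat.card M * q ^ k := by
  classical
  have hSN : ¬ (S : Subgroup G) ≤ N := fun h =>
    S.not_dvd_index (hqI.trans (index_dvd_of_le h))
  set Ts := N.subgroupOf (S : Subgroup G) with hTs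
  -- the `q`-part of the index
  have hrel : Ts.index * Nat.card Ts = Nat.card (S : Subgroup G) := by
    rw [mul_comm]; exact Ts.card_mul_index
  have hTsne : Ts ≠ ⊥ := by
    intro h
    have h1 : (S : Subgroup G).relIndex N = Nat.card N := by
      rw [hTs, subgroupOf_eq_bot, disjoint_iff] at h
      rw [← inf_relIndex_right, inf_comm, h, relIndex_bot_left]
    have h2 : q ∣ (S : Subgroup G).index :=
      hqN.trans (h1 ▸ PrimeParts.relIndex_dvd_index_of_normal' (S : Subgroup G) N)
    exact S.not_dvd_index h2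
  -- an element of `S` outside `N`, central modulo `N`
  haveI : Nontrivial ((S : Subgroup G) ⧸ Ts) := by
    obtain ⟨x, hx, hxN⟩ := SetLike.not_le_iff_exists.1 hSN
    exact ⟨⟨QuotientGroup.mk ⟨x, hx⟩, 1, fun h => hxN ((QuotientGroup.eq_one_iff _).1 h :)⟩⟩
  haveI := (S.2.to_quotient Ts).center_nontrivial
  obtain ⟨⟨z, hz⟩, hz1⟩ := exists_ne (1 : center ((S : Subgroup G) ⧸ Ts))
  obtain ⟨x, rfl⟩ := QuotientGroup.mk'_surjective Ts z
  have hxN : (x : G) ∉ N := fun h => hz1 (Subtype.ext ((QuotientGroup.eq_one_iff x).2 (show x ∈ N.subgroupOf _ from h)))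
  have hder : Ts ≤ _root_.commutator (S : Subgroup G) := by
    intro t ht
    have hsub : ∀ s ∈ (S : Subgroup G), (x : G)⁻¹ * (s * x * s⁻¹) ∈ (S : Subgroup G) ⊓ N := by
      intro s hs
      have h := mem_center_iff.1 hz (QuotientGroup.mk' Ts ⟨s, hs⟩)
      rw [← map_mul, ← map_mul, eq_comm, QuotientGroup.mk'_eq_mk'] at h
      obtain ⟨u, hu, he⟩ := h
      have he' : (x : G) * s * u = s * x := congrArg Subtype.val he
      refine mem_inf.2 ⟨mul_mem (inv_mem x.2) (mul_mem (mul_mem hs x.2) (inv_mem hs)), ?_⟩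
      rw [← he', show (x : G)⁻¹ * (x * s * u * s⁻¹) = s * u * s⁻¹ by group]
      exact (inferInstance : N.Normal).conj_mem _ hu s
    have hcard : Nat.card ↥((S : Subgroup G) ⊓ centralizer ({(x : G)} : Set G)) *
        Nat.card ↥((S : Subgroup G) ⊓ N) ≤ Nat.card (S : Subgroup G) := by
      have e : Nat.card ↥((S : Subgroup G) ⊓ N) = Nat.card Ts := by
        rw [hTs, ← inf_subgroupOf_left]
        exact (Nat.card_congr (subgroupOfEquivOfLe inf_le_left).toEquiv).symm
      rw [e, ← hrel]
      refine Nat.mul_le_mul_right _ ?_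
      obtain ⟨a, ha⟩ := (S.2.to_le (inf_le_left
        (b := centralizer ({(x : G)} : Set G)))).exists_card_eq
      rw [ha]
      have h1 : q ^ a ∣ N.index := by
        rw [← ha]
        refine (card_dvd_of_le inf_le_right).trans ?_
        rw [(Cfsg.Agent.S4142.result N).1 hcam x hxN]
        exact card_subgroup_dvd_card _
      obtain ⟨b, hb⟩ : ∃ b, Ts.index = q ^ b := S.2.index Ts
      have h2 : N.index ∣ (S : Subgroup G).index * Ts.index := by
        rw [show Ts.index = N.relIndex (S : Subgroup G) from rfl, mul_comm,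
          ← inf_relIndex_right N (S : Subgroup G), relIndex_mul_index inf_le_right]
        exact index_dvd_of_le inf_le_left
      rw [hb]
      refine Nat.le_of_dvd (pow_pos hq.out.pos _) ?_
      have h3 := h1.trans h2
      rw [hb] at h3
      exact ((hq.out.coprime_iff_not_dvd.2 S.not_dvd_index).pow_left a).dvd_of_dvd_mul_left h3
    obtain ⟨s, hs, he⟩ := OneNonlinear.exists_conj_eq_mul (S : Subgroup G) ((S : Subgroup G) ⊓ N)
      (x : G) hsub hcard (mem_inf.2 ⟨t.2, ht⟩ : (t : G) ∈ (S : Subgroup G) ⊓ N)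
    have e' : t = ⁅x⁻¹, (⟨s, hs⟩ : (S : Subgroup G))⁆ := by
      apply Subtype.ext
      show (t : G) = (x : G)⁻¹ * s * (x : G)⁻¹⁻¹ * s⁻¹
      rw [inv_inv, mul_assoc, mul_assoc, ← mul_assoc s, he, inv_mul_cancel_left]
    rw [e']
    exact commutator_mem_commutator (mem_top _) (mem_top _)
  refine ⟨⟨hder, hTsne, hSN⟩, OneNonlinear.exists_complement N
    (Transfer.hasNormalPComplement_normal_of_le_frattini S N fun t ht => ?_)⟩
  exact ⟨⟨t, ht.2⟩, PGroup.commutator_le_frattini S.2 (hder (show _ ∈ Ts from ht.1)), rfl⟩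

/-- An element of prime order acting without fixed points makes `N` soluble. -/
theorem isSolvable_of_fpf {G : Type*} [Group G] [Finite G] (N : Subgroup G) [N.Normal] {r : ℕ}
    [Fact r.Prime] {g : G} (hg : orderOf g = r) (hfpf : ∀ n ∈ N, Commute g n → n = 1) :
    Group.IsSolvable N := by
  let σ : MulAut N := MulAut.conjNormal g
  have hσ : σ ^ r = 1 := by rw [← map_pow, ← hg, pow_orderOf_eq_one, map_one]
  haveI := PComplement.isNilpotent_of_fpf (p := r) N σ hσ fun n hn => Subtype.ext (hfpf n n.2 (by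
    have h := congrArg Subtype.val hn
    rw [MulAut.conjNormal_apply, mul_inv_eq_iff_eq_mul] at h
    exact h))
  infer_instance

/-- An elementary abelian group with operators, as a matrix representation. -/
theorem exists_matrix_rep {A P : Type*} [CommGroup A] [Finite A] [Nontrivial A] [Group P] {q : ℕ}
    [Fact q.Prime] (hA : ∀ x : A, x ^ q = 1) (f : P → A →* A) (h1 : ∀ x, f 1 x = x)
    (hmul : ∀ s t x, f (s * t) x = f s (f t x)) :
    ∃ (n : ℕ) (r : P →* Matrix (Fin n) (Fin n) (ZMod q)), 0 < n ∧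
      ∀ s, (∀ x, f s x = x → x = 1) → ∀ v : Fin n → ZMod q, Matrix.mulVec (r s) v = v → v = 0 := by
  letI : Module (ZMod q) (Additive A) :=
    AddCommGroup.zmodModule (n := q) fun v => Additive.toMul.injective (hA v.toMul)
  let ρ : P →* Module.End (ZMod q) (Additive A) :=
    { toFun := fun s => AddMonoidHom.toZModLinearMap q (MonoidHom.toAdditive (f s))
      map_one' := LinearMap.ext fun v => Additive.toMul.injective (h1 v.toMul)
      map_mul' := fun s t => LinearMap.ext fun v => Additive.toMul.injective (hmul s t v.toMul) }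
  haveI : Module.Finite (ZMod q) (Additive A) := Module.Finite.of_finite
  let b := Module.finBasis (ZMod q) (Additive A)
  refine ⟨_, (LinearMap.toMatrixAlgEquiv b).toAlgHom.toRingHom.toMonoidHom.comp ρ,
    Module.finrank_pos, fun s hs v hv => ?_⟩
  set w := b.equivFun.symm v
  have hw : b.equivFun w = v := LinearEquiv.apply_symm_apply _ _
  have h2 : ρ s w = w := by
    apply b.equivFun.injective
    have := LinearMap.toMatrix_mulVec_repr b b (ρ s) w
    simp only [← Module.Basis.equivFun_apply, hw] at this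
    exact (this.symm.trans hv).trans hw.symm
  have h3 : w = 0 := Additive.toMul.injective (hs w.toMul (congrArg Additive.toMul h2))
  rw [← hw, h3, map_zero]

/-- The `p`-odd case: the complement is trivial. -/
theorem complement_eq_bot {G : Type*} [Group G] [Finite G] (N : Subgroup G) [N.Normal]
    (hcam : ∀ g : G, g ∉ N → ∀ n ∈ N, ∃ x : G, x * g * x⁻¹ = g * n)
    {p : ℕ} [hp : Fact p.Prime] (hp2 : p ≠ 2) (P : Sylow p G)
    (hder : N.subgroupOf (P : Subgroup G) ≤ _root_.commutator (P : Subgroup G))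
    (hTne : N.subgroupOf (P : Subgroup G) ≠ ⊥) (hPN : ¬ (P : Subgroup G) ≤ N)
    (M : Subgroup G) [M.Normal] (hMN : M ≤ N) (hMcop : (Nat.card M).Coprime p)
    (hMidx : ∃ e, M.index = p ^ e) : M = ⊥ := by
  classical
  by_contra hM
  obtain ⟨q, hq, hqM⟩ := Nat.exists_prime_and_dvd (fun h : Nat.card M = 1 => hM (card_eq_one.1 h))
  haveI : Fact q.Prime := ⟨hq⟩
  have hqp : q ≠ p := fun h => hp.out.coprime_iff_not_dvd.1 hMcop.symm (h ▸ hqM)
  -- `G = M P`
  obtain ⟨e, he⟩ := hMidx
  obtain ⟨a, ha⟩ := P.2.exists_card_eq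
  have hMP : IsComplement' M (P : Subgroup G) := by
    refine isComplement'_of_coprime ?_ (by rw [ha]; exact hMcop.pow_right a)
    have h := (P : Subgroup G).card_mul_index
    have hPi := P.not_dvd_index
    have hgc : Nat.card M * p ^ e = Nat.card G := by rw [← he, M.card_mul_index]
    have hae : a = e := by
      have h1 := congrArg (fun x => x.factorization p) (hgc.trans h.symm)
      simp only [ha] at h1
      rwa [Nat.factorization_mul_apply_of_coprime (hMcop.pow_right e),
        Nat.factorization_mul_apply_of_coprime ((hp.out.coprime_iff_not_dvd.2 hPi).pow_left a),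
        Nat.factorization_eq_zero_of_not_dvd (hp.out.coprime_iff_not_dvd.1 hMcop.symm),
        Nat.factorization_eq_zero_of_not_dvd hPi, hp.out.factorization_pow, hp.out.factorization_pow,
        Finsupp.single_eq_same, Finsupp.single_eq_same, zero_add, add_zero, eq_comm] at h1
    rw [ha, hae, hgc]
  -- the invariant Sylow subgroup
  let φ : (P : Subgroup G) →* MulAut M := MulAut.conjNormal.comp (P : Subgroup G).subtype
  have hφ : ∀ (s : (P : Subgroup G)) (m : M), ((φ s m : M) : G) = s * m * (s : G)⁻¹ :=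
    fun s m => MulAut.conjNormal_apply (s : G) m
  haveI := P.2.isNilpotent
  obtain ⟨Q, hQ⟩ := Coprime.exists_invariant_sylow_hom φ (by rw [ha]; exact (hMcop.pow_right a).symm)
    (Or.inl inferInstance) q
  have hQne : (Q : Subgroup M) ≠ ⊥ := fun h => Q.not_dvd_index (by rw [h, index_bot]; exact hqM)
  haveI : Nontrivial (Q : Subgroup M) := (nontrivial_iff_ne_bot _).2 hQne
  haveI := Q.2.center_nontrivial
  let V : Subgroup M :=
    { carrier := {v | v ∈ (Q : Subgroup M) ∧ (∀ y ∈ (Q : Subgroup M), Commute y v) ∧ v ^ q = 1}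
      one_mem' := ⟨one_mem _, fun y _ => Commute.one_right y, one_pow q⟩
      mul_mem' := fun {v w} hv hw => ⟨mul_mem hv.1 hw.1,
        fun y hy => (hv.2.1 y hy).mul_right (hw.2.1 y hy),
        by rw [(hw.2.1 v hv.1).mul_pow, hv.2.2, hw.2.2, one_mul]⟩
      inv_mem' := fun {v} hv => ⟨inv_mem hv.1, fun y hy => (hv.2.1 y hy).inv_right,
        by rw [inv_pow, hv.2.2, inv_one]⟩ }
  have hVinv : ∀ (s : (P : Subgroup G)), ∀ v ∈ V, φ s v ∈ V := by
    intro s v hv
    refine ⟨hQ s v hv.1, fun y hy => ?_, by rw [← map_pow, hv.2.2, map_one]⟩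
    have h := (hv.2.1 _ (hQ s⁻¹ y hy)).map (φ s)
    rwa [← MulAut.mul_apply, ← map_mul, mul_inv_cancel, map_one, MulAut.one_apply] at h
  haveI : Nontrivial V := by
    obtain ⟨z, hz⟩ := exists_prime_orderOf_dvd_card' (G := center (Q : Subgroup M)) q (by
      obtain ⟨i, hi⟩ := (Q.2.to_subgroup (center (Q : Subgroup M))).exists_card_eq
      rcases Nat.eq_zero_or_pos i with rfl | h
      · exact absurd (hi.trans (pow_zero q)) Finite.one_lt_card.ne'
      · rw [hi]; exact dvd_pow_self q h.ne')
    refine ⟨⟨((z : (Q : Subgroup M)) : M), (z : (Q : Subgroup M)).2,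
      fun y hy => (congrArg Subtype.val (mem_center_iff.1 z.2 ⟨y, hy⟩) :), ?_⟩, 1, fun h => ?_⟩
    · have := pow_orderOf_eq_one z
      rw [hz] at this
      exact (congrArg (fun w : center (Q : Subgroup M) => ((w : (Q : Subgroup M)) : M)) this :)
    · have : z = 1 := Subtype.ext (Subtype.ext (congrArg Subtype.val h :))
      rw [this, orderOf_one] at hz
      exact hq.ne_one hz.symm
  letI : CommGroup V :=
    { (inferInstance : Group V) with
      mul_comm := fun v w => Subtype.ext (w.2.2.1 v v.2.1).eq }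
  let ρ₀ : ↥(P : Subgroup G) → V →* V := fun s =>
    MonoidHom.mk' (fun v : V => (⟨φ s v, hVinv s v v.2⟩ : V))
      fun v w => Subtype.ext (map_mul (φ s) (v : M) (w : M))
  obtain ⟨n, r, hn, hr⟩ := exists_matrix_rep (A := V) (q := q)
    (fun v => Subtype.ext v.2.2.2) ρ₀
    (fun v => Subtype.ext (show φ 1 (v : M) = v by rw [map_one]; rfl))
    (fun s t v => Subtype.ext (show φ (s * t) (v : M) = φ s (φ t (v : M)) by rw [map_mul]; rfl))
  -- elements of `P` outside `N` fix nothing
  have hfree : ∀ s : (P : Subgroup G), (s : G) ∉ N → ∀ v : V, ρ₀ s v = v → v = 1 := by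
    intro s hs v hv
    obtain ⟨i, hi⟩ := P.2 s
    have hi' : (s : G) ^ p ^ i = 1 := congrArg Subtype.val hi
    set m : G := ((v : M) : G) with hm
    have hcm : Commute (s : G) m := by
      have h1 : φ s (v : M) = v := congrArg Subtype.val hv
      have h2 := congrArg Subtype.val h1
      rw [hφ, mul_inv_eq_iff_eq_mul] at h2
      exact h2
    obtain ⟨c, hc⟩ := hcam s hs m (hMN (v : M).2)
    have h1 : ((s : G) * m) ^ p ^ i = 1 := by
      rw [← hc, conj_pow, hi', mul_one, mul_inv_cancel]
    rw [hcm.mul_pow, hi', one_mul] at h1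
    have h2 : m = 1 := by
      rw [← orderOf_eq_one_iff]
      exact Nat.eq_one_of_dvd_coprimes (hMcop.pow_right i)
        (orderOf_coe (v : M) ▸ orderOf_dvd_natCard _) (orderOf_dvd_of_pow_eq_one h1)
    exact Subtype.ext (Subtype.ext h2)
  set Ts := N.subgroupOf (P : Subgroup G)
  refine Camina.false_of_free hp2 P.2 Ts (fun h => hPN (subgroupOf_eq_top.1 h)) ?_ ?_ hqp
    hn r fun y hy => hr y (hfree y fun h => hy (show y ∈ N.subgroupOf _ from h))
  · intro hc
    obtain ⟨u, hu⟩ := IsCyclic.exists_generator (α := (P : Subgroup G) ⧸ Ts)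
    obtain ⟨x, rfl⟩ := QuotientGroup.mk'_surjective Ts u
    have htop : zpowers x = (⊤ : Subgroup (P : Subgroup G)) := frattini_nongenerating (eq_top_iff.2
      fun v _ => by
        obtain ⟨j, hj⟩ := mem_zpowers_iff.1 (hu (QuotientGroup.mk' Ts v))
        rw [← map_zpow, QuotientGroup.mk'_eq_mk'] at hj
        obtain ⟨t, ht, rfl⟩ := hj
        exact mul_mem (mem_sup_left (zpow_mem (mem_zpowers x) j))
          (mem_sup_right (PGroup.commutator_le_frattini P.2 (hder ht))))
    refine hTne (le_bot_iff.1 (hder.trans (Subgroup.commutator_le.2 fun a _ b _ => ?_)))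
    obtain ⟨i, rfl⟩ := mem_zpowers_iff.1 (htop ▸ mem_top a : a ∈ zpowers x)
    obtain ⟨j, rfl⟩ := mem_zpowers_iff.1 (htop ▸ mem_top b : b ∈ zpowers x)
    exact mem_bot.2 (commutatorElement_eq_one_iff_mul_comm.2 (zpow_mul_comm x i j))
  · intro x hx t ht
    obtain ⟨c, hc⟩ := hcam x hx t ht
    obtain ⟨⟨⟨m, hm⟩, s⟩, rfl⟩ := hMP.2 c
    refine ⟨s, Subtype.ext ?_⟩
    show (s : G) * x * (s : G)⁻¹ = x * t
    have hsx : (s : G) * x * (s : G)⁻¹ ∈ (P : Subgroup G) := (s * x * s⁻¹).2
    have hxt : (x : G) * t ∈ (P : Subgroup G) := (x * t).2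
    refine eq_of_mul_inv_eq_one (disjoint_def.1 hMP.disjoint ?_ (mul_mem hsx (inv_mem hxt)))
    rw [← hc, show (s : G) * x * (s : G)⁻¹ * ((m * s) * x * (m * s)⁻¹)⁻¹ =
      ((s : G) * x * (s : G)⁻¹) * m * ((s : G) * x * (s : G)⁻¹)⁻¹ * m⁻¹ by group]
    exact mul_mem ((inferInstance : M.Normal).conj_mem m hm _) (inv_mem hm)

/-- Let G be a finite group and N a proper non-trivial normal subgroup such that for every g outside N the conjugacy class of g is a union of cosets of N. Then N is solvable, and if G/N is solvable then G is solvable. -/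
theorem result {G : Type*} [Group G] [Finite G] (N : Subgroup G) [N.Normal] (hN1 : N ≠ ⊥) (hN2 : N ≠ ⊤)
    (hcam : ∀ g : G, g ∉ N → ∀ n ∈ N, ∃ x : G, x * g * x⁻¹ = g * n) :
    (Group.IsSolvable (G ⧸ N) → Group.IsSolvable G) ∧ Group.IsSolvable N := by
  classical
  have key : Group.IsSolvable N := by
    rcases Cfsg.Agent.S4140.result N hN1 hN2 hcam with hfro | hNp | hIp
    · obtain ⟨g, hg⟩ : ∃ g, g ∉ N := by
        by_contra h
        push Not at h
        exact hN2 (eq_top_iff.2 fun g _ => h g)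
      obtain ⟨r, hr, hrd⟩ := Nat.exists_prime_and_dvd (n := orderOf g)
        (fun h => hg (orderOf_eq_one_iff.1 h ▸ one_mem N))
      haveI : Fact r.Prime := ⟨hr⟩
      obtain ⟨i, hi⟩ := hrd
      have hri : orderOf (g ^ i) = r := by
        have hi0 : i ≠ 0 := fun h => (orderOf_pos g).ne' (by rw [hi, h, mul_zero])
        rw [orderOf_pow_of_dvd hi0 (hi ▸ dvd_mul_left i r), hi, Nat.mul_div_cancel _ (Nat.pos_of_ne_zero hi0)]
      have hgi : g ^ i ∉ N := fun h => hg (hfro _ h
        (fun h1 => hr.ne_one (by rw [← hri, h1, orderOf_one]))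
        (mem_centralizer_singleton_iff.2 ((Commute.refl g).pow_right i).eq))
      exact isSolvable_of_fpf N hri fun n hn hcm => by
        by_contra h1
        exact hgi (hfro n hn h1 (mem_centralizer_singleton_iff.2 hcm.eq))
    · obtain ⟨p, k, hp, -, hk⟩ := (isPrimePow_nat_iff _).1 hNp
      haveI : Fact p.Prime := ⟨hp⟩
      haveI := (IsPGroup.of_card hk.symm : IsPGroup p N).isNilpotent
      infer_instance
    · obtain ⟨p, a, hp, ha0, ha⟩ := (isPrimePow_nat_iff _).1 hIp
      haveI : Fact p.Prime := ⟨hp⟩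
      have hpI : p ∣ N.index := ha ▸ dvd_pow_self p ha0.ne'
      by_cases hpN : p ∣ Nat.card N
      · obtain ⟨P⟩ : Nonempty (Sylow p G) := inferInstance
        obtain ⟨⟨hder, hTne, hPN⟩, M, hMn, hMN, hMcop, k, hk⟩ := exists_complement N hcam p P hpI hpN
        haveI := hMn
        have hMsol : Group.IsSolvable M := by
          rcases eq_or_ne p 2 with rfl | hp2
          · exact Cfsg.Agent.S0205.result (Nat.coprime_two_right.1 hMcop)
          · have hMidx : M.index = p ^ (k + a) := by
              refine Nat.eq_of_mul_eq_mul_left (Nat.card_pos (α := M)) ?_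
              rw [M.card_mul_index, ← N.card_mul_index, hk, ← ha, pow_add, mul_assoc]
            rw [complement_eq_bot N hcam hp2 P hder hTne hPN M hMN hMcop ⟨_, hMidx⟩]
            infer_instance
        haveI : Group.IsSolvable (M.subgroupOf N) :=
          Group.isSolvable_of_surjective (f := (subgroupOfEquivOfLe hMN).symm.toMonoidHom)
            (subgroupOfEquivOfLe hMN).symm.surjective
        have hq : Nat.card (N ⧸ M.subgroupOf N) = p ^ k := by
          refine Nat.eq_of_mul_eq_mul_right (Nat.card_pos (α := M)) ?_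
          have h := Subgroup.card_eq_card_quotient_mul_card_subgroup (M.subgroupOf N)
          rw [Nat.card_congr (subgroupOfEquivOfLe hMN).toEquiv, hk] at h
          rw [← h, mul_comm]
        haveI := (IsPGroup.of_card hq).isNilpotent
        exact Group.isSolvable_of_ker_le_range (M.subgroupOf N).subtype
          (QuotientGroup.mk' (M.subgroupOf N)) (by simp)
      · obtain ⟨g, hg⟩ := exists_prime_orderOf_dvd_card' (G := G) p
          (hpI.trans (index_dvd_card N))
        have hgN : g ∉ N := fun h => hpN (hg ▸ (by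
          have := orderOf_dvd_natCard (⟨g, h⟩ : N)
          rwa [orderOf_mk] at this))
        refine isSolvable_of_fpf N hg fun n hn hcm => ?_
        obtain ⟨c, hc⟩ := hcam g hgN n hn
        have h1 : (g * n) ^ p = 1 := by
          rw [← hc, conj_pow, ← hg, pow_orderOf_eq_one, mul_one, mul_inv_cancel]
        rw [hcm.mul_pow, ← hg, pow_orderOf_eq_one, one_mul, hg] at h1
        rw [← orderOf_eq_one_iff]
        exact Nat.eq_one_of_dvd_coprimes (hp.coprime_iff_not_dvd.2 hpN) (orderOf_dvd_of_pow_eq_one h1)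
          (orderOf_mk n hn ▸ orderOf_dvd_natCard (⟨n, hn⟩ : N))
  refine ⟨fun hq => ?_, key⟩
  haveI := key
  haveI := hq
  exact Group.isSolvable_of_ker_le_range N.subtype (QuotientGroup.mk' N) (by simp)

end Cfsg.Agent.S4141
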