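import Cfsg.Statements.S4144
import Cfsg.Agent.Lib.MaxClass.Exponent

set_option autoImplicit false
open Cfsg

namespace Cfsg.Agent.S4144

open Subgroup

variable {G : Type*} [Group G] [Finite G] {p n : ℕ} [Fact p.Prime]

local notation "γ" => Subgroup.lowerCentralSeries (⊤ : Subgroup G)

/-- Below `γ 1` the `p`-th power map loses at most `p^(p-1)`. -/
theorem card_inf_le (hn : 3 ≤ n) (hG : Nat.card G = p ^ n) (hcl : γ (n - 2) ≠ ⊥) (K : Subgroup G) :
    ∀ d i, 1 ≤ i → n - 1 ≤ i + d → Nat.card ↥(K ⊓ γ i) ≤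
      p ^ min (p - 1) (n - 1 - i) *
        Nat.card ↥(closure {y : G | ∃ h ∈ K, y = h ^ p} ⊓ γ (i + (p - 1))) := by
  have hp := (Fact.out : p.Prime)
  have hp2 := hp.two_le
  obtain ⟨x, hC, hx⟩ := MaxClass.exists_uniform hn hG hcl
  have hP := IsPGroup.of_card hG
  intro d
  induction d with
  | zero =>
    intro i _ hin
    rw [Pearl.lcs_high hn hG (by omega : n - 1 ≤ i), inf_bot_eq, card_bot]
    exact Nat.one_le_iff_ne_zero.mpr (mul_ne_zero (pow_ne_zero _ hp.ne_zero) Nat.card_pos.ne')
  | succ d ih =>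
    intro i hi hin
    have h1 := ih (i + 1) (by omega) (by omega)
    set U := closure {y : G | ∃ h ∈ K, y = h ^ p} with hU
    have hmono : Nat.card ↥(U ⊓ γ (i + 1 + (p - 1))) ≤ Nat.card ↥(U ⊓ γ (i + (p - 1))) :=
      card_le_of_le (inf_le_inf le_rfl (Subgroup.lowerCentralSeries_antitone (⊤ : Subgroup G) (by omega)))
    by_cases hsame : K ⊓ γ i ≤ γ (i + 1)
    · refine (card_le_of_le (le_inf inf_le_left hsame)).trans (h1.trans ?_)
      exact Nat.mul_le_mul (Nat.pow_le_pow_right hp.pos (by omega)) hmono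
    obtain ⟨a, ha, ha'⟩ := SetLike.not_le_iff_exists.mp hsame
    obtain ⟨haK, hai⟩ := mem_inf.mp ha
    have hin2 : i ≤ n - 2 := by
      by_contra hlt
      refine ha' ?_
      rw [Pearl.lcs_high hn hG (by omega : n - 1 ≤ i), mem_bot] at hai
      rw [hai]; exact one_mem _
    have hstep : Nat.card ↥(K ⊓ γ i) ≤ p * Nat.card ↥(K ⊓ γ (i + 1)) := by
      have h := relIndex_mul_relIndex ⊥ (K ⊓ γ (i + 1)) (K ⊓ γ i) bot_le
        (inf_le_inf le_rfl (Subgroup.lowerCentralSeries_antitone (⊤ : Subgroup G) (Nat.le_succ i)))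
      rw [relIndex_bot_left, relIndex_bot_left] at h
      have h2 := relIndex_mul_relIndex ⊥ (γ (i + 1)) (γ i) bot_le
        (Subgroup.lowerCentralSeries_antitone (⊤ : Subgroup G) (Nat.le_succ i))
      rw [relIndex_bot_left, relIndex_bot_left, Pearl.card_lcs hn hG hcl hi, Pearl.card_lcs hn hG hcl (by omega),
        show n - 1 - i = n - 1 - (i + 1) + 1 by omega, pow_succ] at h2
      rw [← h, mul_comm]
      refine Nat.mul_le_mul_right _ ?_
      have h3 : (K ⊓ γ (i + 1)).relIndex (K ⊓ γ i) = (γ (i + 1)).relIndex (K ⊓ γ i) := by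
        rw [show K ⊓ γ (i + 1) = γ (i + 1) ⊓ (K ⊓ γ i) from le_antisymm
          (le_inf inf_le_right (inf_le_inf le_rfl (Subgroup.lowerCentralSeries_antitone (⊤ : Subgroup G) (Nat.le_succ i))))
          (le_inf (inf_le_right.trans inf_le_left) inf_le_left), inf_relIndex_right]
      rw [h3, ← Nat.eq_of_mul_eq_mul_left (pow_pos hp.pos _) h2]
      exact Subgroup.relIndex_le_of_le_right inf_le_right Subgroup.index_ne_zero_of_finite
    refine hstep.trans ((Nat.mul_le_mul_left p h1).trans ?_)
    by_cases hcase : i + (p - 1) ≤ n - 2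
    · rw [show min (p - 1) (n - 1 - i) = p - 1 by omega, show min (p - 1) (n - 1 - (i + 1)) = p - 1 by omega,
        mul_left_comm]
      refine Nat.mul_le_mul_left _ (PGroup.mul_card_le_card hP (lt_of_le_not_ge ?_ fun h => ?_))
      · exact inf_le_inf le_rfl (Subgroup.lowerCentralSeries_antitone (⊤ : Subgroup G) (by omega))
      · have h1' : a ^ p ∈ γ (i + (p - 1)) := by
          rw [show i + (p - 1) = i + p - 1 by omega]
          exact MaxClass.pow_mem_shift hn hG hcl hx hC n i hi (by omega) a hai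
        have h2' := (mem_inf.mp (h (mem_inf.mpr ⟨subset_closure ⟨a, haK, rfl⟩, h1'⟩))).2
        rw [show i + 1 + (p - 1) = i + p by omega] at h2'
        exact MaxClass.pow_not_mem_shift hn hG hcl hx hC hi (by omega) hai ha' h2'
    · rw [show min (p - 1) (n - 1 - i) = min (p - 1) (n - 1 - (i + 1)) + 1 by omega, pow_succ',
        ← mul_assoc]
      exact Nat.mul_le_mul_left _ hmono

/-- Let X be a finite p-group of order p^n, n ≥ 2, of nilpotency class n − 1 (maximal class), and H any subgroup of X. Then the index in H of the subgroup generated by the p-th powers of elements of H is at most p^p. -/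
theorem result {X : Type*} [Group X] [Finite X] {p : ℕ} [Fact p.Prime] (n : ℕ) (hn : 2 ≤ n) (hX : Nat.card X = p ^ n)
    (hmax : Group.nilpotencyClass X = n - 1) (H : Subgroup X) :
    (Subgroup.closure {y : X | ∃ h ∈ H, y = h ^ p}).relIndex H ≤ p ^ p := by
  have : Finite X := Nat.finite_of_card_ne_zero (by rw [hX]; exact pow_ne_zero _ (Fact.out : p.Prime).ne_zero)
  have hp := (Fact.out : p.Prime)
  have hp2 := hp.two_le
  set U := Subgroup.closure {y : X | ∃ h ∈ H, y = h ^ p} with hU
  have hUH : U ≤ H := (Subgroup.closure_le _).mpr fun y ⟨h, hh, e⟩ => e ▸ H.pow_mem hh p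
  have hcard := relIndex_mul_relIndex ⊥ U H bot_le hUH
  rw [relIndex_bot_left, relIndex_bot_left] at hcard
  suffices h : Nat.card H ≤ p ^ p * Nat.card U by
    rw [← hcard, mul_comm] at h
    exact Nat.le_of_mul_le_mul_right h Nat.card_pos
  by_cases hnp : n ≤ p
  · refine (Subgroup.card_le_card_group H).trans ?_
    rw [hX]
    exact le_trans (Nat.pow_le_pow_right hp.pos hnp) (Nat.le_mul_of_pos_right _ Nat.card_pos)
  have hn3 : 3 ≤ n := by omega
  have hcl : (⊤ : Subgroup X).lowerCentralSeries (n - 2) ≠ ⊥ := PGroup.lcs_ne_bot_of_maximal hn3 hX hmax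
  have hP := IsPGroup.of_card hX
  rcases eq_or_ne H ⊤ with rfl | hH
  · -- the whole group
    obtain ⟨g, hg⟩ := MaxClass.exists_pow_not_mem hn3 hX hcl (by omega)
    have hlt : (⊤ : Subgroup X).lowerCentralSeries p < U := by
      refine lt_of_le_not_ge ?_ fun h => hg (h (Subgroup.subset_closure ⟨g, Subgroup.mem_top g, rfl⟩))
      have h := card_inf_le hn3 hX hcl ⊤ n 1 le_rfl (by omega)
      rw [top_inf_eq, Pearl.card_lcs hn3 hX hcl le_rfl, show min (p - 1) (n - 1 - 1) = p - 1 by omega,
        show 1 + (p - 1) = p by omega,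
        show p ^ (n - 1 - 1) = p ^ (p - 1) * p ^ (n - 1 - p) by rw [← pow_add]; congr 1; omega] at h
      have h' := Nat.le_of_mul_le_mul_left h (pow_pos hp.pos _)
      rw [← Pearl.card_lcs hn3 hX hcl (by omega : 1 ≤ p)] at h'
      exact (Subgroup.eq_of_le_of_card_ge inf_le_right h').ge.trans inf_le_left
    have h := PGroup.mul_card_le_card hP hlt
    rw [Pearl.card_lcs hn3 hX hcl (by omega : 1 ≤ p)] at h
    rw [Subgroup.card_top, hX]
    refine le_trans (le_of_eq ?_) (Nat.mul_le_mul_left _ h)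
    rw [← pow_succ', ← pow_add]
    congr 1
    omega
  -- a proper subgroup
  obtain ⟨M, hM, hHM⟩ := (eq_top_or_exists_le_coatom H).resolve_left hH
  have hγM : (⊤ : Subgroup X).lowerCentralSeries 1 ≤ M := by
    rw [Subgroup.top_lowerCentralSeries_one]
    exact (PGroup.commutator_le_frattini hP).trans (frattini_le_coatom hM)
  set γ1 := (⊤ : Subgroup X).lowerCentralSeries 1 with hγ1
  have hrel : γ1.relIndex H ≤ p := by
    refine (Subgroup.relIndex_le_of_le_right hHM Subgroup.index_ne_zero_of_finite).trans (le_of_eq ?_)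
    have h1 := Subgroup.relIndex_mul_index hγM
    rw [PGroup.index_of_isCoatom hP hM, hγ1, Subgroup.top_lowerCentralSeries_one,
      PGroup.index_commutator_of_maximal hn3 hX hmax, pow_two] at h1
    rw [hγ1, Subgroup.top_lowerCentralSeries_one]
    exact Nat.eq_of_mul_eq_mul_right hp.pos h1
  have hsplit := relIndex_mul_relIndex ⊥ (H ⊓ γ1) H bot_le inf_le_left
  rw [relIndex_bot_left, relIndex_bot_left, inf_relIndex_left] at hsplit
  have h := card_inf_le hn3 hX hcl H n 1 le_rfl (by omega)
  rw [show min (p - 1) (n - 1 - 1) = p - 1 by omega, ← hU, ← hγ1] at h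
  rw [← hsplit, mul_comm]
  refine (Nat.mul_le_mul hrel (h.trans (Nat.mul_le_mul_left _ (Subgroup.card_le_of_le inf_le_left)))).trans
    (le_of_eq ?_)
  rw [← mul_assoc, ← pow_succ', show p - 1 + 1 = p by omega]

end Cfsg.Agent.S4144
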