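import Cfsg.Statements.S4145
import Cfsg.Agent.Lib.PCore.PSolvable
import Cfsg.Agent.Lib.SylowCount.Basic
import Cfsg.Agent.Lib.Transfer.Burnside

set_option autoImplicit false
open Cfsg

namespace Cfsg.Agent.S4145

/-- If `y ^ p ^ e ∈ K` and the `p`-elements among the powers of `y` lie in `K`, then `y ∈ K`. -/
theorem mem_of_pow_mem_of_p_part {G : Type*} [Group G] [Finite G] {p : ℕ} [Fact p.Prime]
    {K : Subgroup G} (y : G) {e : ℕ} (h : y ^ (p ^ e) ∈ K)
    (h' : ∀ z ∈ Subgroup.zpowers y, (∃ j, orderOf z = p ^ j) → z ∈ K) : y ∈ K := by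
  have hp : p.Prime := Fact.out
  obtain ⟨f, r, hr, hfr⟩ := Nat.exists_eq_pow_mul_and_not_dvd (orderOf_pos y).ne' p hp.ne_one
  have hz : y ^ r ∈ K := by
    refine h' _ (Subgroup.npow_mem_zpowers y r) ?_
    have hd : orderOf (y ^ r) ∣ p ^ f :=
      orderOf_dvd_of_pow_eq_one (by rw [← pow_mul, mul_comm, ← hfr, pow_orderOf_eq_one])
    obtain ⟨j, -, hj⟩ := (Nat.dvd_prime_pow hp).mp hd
    exact ⟨j, hj⟩
  have hco : Nat.Coprime (p ^ e) r := Nat.Coprime.pow_left e ((Nat.Prime.coprime_iff_not_dvd hp).mpr hr)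
  obtain ⟨s, t, hst⟩ : ∃ s t : ℤ, s * (p ^ e : ℕ) + t * r = 1 := Nat.isCoprime_iff_coprime.mpr hco
  have hy : y = (y ^ (p ^ e)) ^ s * (y ^ r) ^ t := by
    rw [← zpow_natCast, ← zpow_natCast, ← zpow_mul, ← zpow_mul, ← zpow_add,
      mul_comm (((p ^ e : ℕ)) : ℤ) s, mul_comm (r : ℤ) t, hst, zpow_one]
  rw [hy]
  exact mul_mem (Subgroup.zpow_mem _ h s) (Subgroup.zpow_mem _ hz t)

/-- An element normalizing a cyclic `p`-group `⟨u⟩` that is trivial on a nontrivial subgroup or
on a nontrivial quotient acts as a `p`-element. -/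
theorem commute_pow_of_trivial {G : Type*} [Group G] [Finite G] {p : ℕ} [Fact p.Prime] {u g : G}
    {P P0 : Subgroup G} {e : ℕ} (he : orderOf u = p ^ e)
    (hg : g ∈ Subgroup.normalizer (P : Set G)) (huP : u ∈ P) (hu : Subgroup.zpowers u = P)
    (h : (∃ w ∈ Subgroup.zpowers u, w ≠ 1 ∧ g * w = w * g) ∨ (g * u * g⁻¹ * u⁻¹ ∈ P0 ∧ u ∉ P0)) :
    Commute (g ^ (p ^ e)) u := by
  have hp : p.Prime := Fact.out
  obtain ⟨k, hk⟩ := Subgroup.mem_zpowers_iff.mp (hu.symm ▸ (Subgroup.mem_normalizer_iff.mp hg u).mp huP)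
  have hconj : ∀ i : ℤ, g * u ^ i * g⁻¹ = u ^ (k * i) := fun i => by
    rw [← conj_zpow, ← hk, ← zpow_mul]
  have hdiv : (p : ℤ) ∣ k - 1 := by
    by_contra hnd
    have hco : IsCoprime ((p : ℤ) ^ e) (k - 1) :=
      ((Nat.prime_iff_prime_int.mp hp).coprime_iff_not_dvd.mpr hnd).pow_left
    rcases h with ⟨w, hw, hw1, hcomm⟩ | ⟨hP0, huP0⟩
    · obtain ⟨i, rfl⟩ := Subgroup.mem_zpowers_iff.mp hw
      refine hw1 (orderOf_dvd_iff_zpow_eq_one.mp ?_)
      rw [he, Nat.cast_pow]
      refine hco.dvd_of_dvd_mul_left ?_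
      have h1 : u ^ (k * i) = u ^ i := by rw [← hconj, hcomm]; group
      have h2 : u ^ ((k - 1) * i) = 1 := by rw [sub_mul, one_mul, zpow_sub, h1, mul_inv_cancel]
      have h3 := orderOf_dvd_iff_zpow_eq_one.mpr h2
      rwa [he, Nat.cast_pow] at h3
    · obtain ⟨s, t, hst⟩ := hco
      refine huP0 ?_
      have h1 : u ^ (k - 1) ∈ P0 := by
        rw [zpow_sub, hk, zpow_one]; exact hP0
      have h2 : u = (u ^ (k - 1)) ^ t := by
        have h3 : (u ^ ((p : ℤ) ^ e)) = 1 := by
          rw [← Nat.cast_pow, zpow_natCast, ← he, pow_orderOf_eq_one]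
        calc u = u ^ (s * (p : ℤ) ^ e + t * (k - 1)) := by rw [hst, zpow_one]
          _ = (u ^ ((p : ℤ) ^ e)) ^ s * (u ^ (k - 1)) ^ t := by
              rw [zpow_add, ← zpow_mul, ← zpow_mul, mul_comm s, mul_comm t]
          _ = _ := by rw [h3, one_zpow, one_mul]
      rw [h2]
      exact Subgroup.zpow_mem _ h1 t
  have hpow : ∀ j : ℕ, g ^ j * u * (g ^ j)⁻¹ = u ^ (k ^ j) := by
    intro j
    induction j with
    | zero => simp
    | succ j ih =>
      calc g ^ (j + 1) * u * (g ^ (j + 1))⁻¹ = g * (g ^ j * u * (g ^ j)⁻¹) * g⁻¹ := by rw [pow_succ']; group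
        _ = _ := by rw [ih, hconj, pow_succ']
  have h1 : (p : ℤ) ^ (e + 1) ∣ k ^ p ^ e - 1 := by
    have := dvd_sub_pow_of_dvd_sub hdiv e
    rwa [one_pow] at this
  have h2 : u ^ (k ^ p ^ e - 1) = 1 := by
    refine orderOf_dvd_iff_zpow_eq_one.mp ?_
    rw [he, Nat.cast_pow]
    exact (pow_dvd_pow _ (Nat.le_succ e)).trans h1
  have h3 : g ^ (p ^ e) * u * (g ^ (p ^ e))⁻¹ = u := by
    rw [hpow, show k ^ p ^ e = (k ^ p ^ e - 1) + 1 by ring, zpow_add, h2, one_mul, zpow_one]
  exact mul_inv_eq_iff_eq_mul.mp h3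


/-- Let G be a finite group with a cyclic Sylow p-subgroup and H a normal subgroup such that p divides both the order of H and the index of H. Then H has a normal p-complement and G is p-solvable. -/
theorem result {G : Type*} [Group G] [Finite G] (p : ℕ) [Fact p.Prime]
    (P : Sylow p G) (hP : IsCyclic (P : Subgroup G)) (H : Subgroup G) [H.Normal] (h1 : p ∣ Nat.card H) (h2 : p ∣ H.index) :
    Cfsg.HasNormalPComplement p H ∧ Cfsg.IsPSolvable p G := by
  classical
  have hp : p.Prime := Fact.out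
  obtain ⟨R, hR⟩ := SylowCount.exists_sylow_inf P H
  set P0 := (P : Subgroup G) ⊓ H with hP0
  have hmapR : (R : Subgroup H).map H.subtype = P0 := by
    rw [hR, Subgroup.subgroupOf_map_subtype]
  obtain ⟨u, hu⟩ := (Subgroup.isCyclic_iff_exists_zpowers_eq_top (P : Subgroup G)).mp hP
  obtain ⟨e, he⟩ := IsPGroup.iff_card.mp P.2
  rw [← hu, Nat.card_zpowers] at he
  have hP0u : P0 ≤ Subgroup.zpowers u := hu ▸ inf_le_left
  have hP0ne : P0 ≠ ⊥ := by
    intro h
    rw [← hmapR, Subgroup.map_eq_bot_iff_of_injective _ H.subtype_injective] at h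
    exact R.ne_bot_of_dvd_card h1 h
  have hPH : ¬ (P : Subgroup G) ≤ H := fun h =>
    P.not_dvd_index (h2.trans (Subgroup.index_dvd_of_le h))
  have huP : u ∈ (P : Subgroup G) := hu ▸ Subgroup.mem_zpowers u
  set C := Subgroup.centralizer (P0 : Set G) with hC
  have hPC : (P : Subgroup G) ≤ C := by
    intro y hy
    rw [hC, Subgroup.mem_centralizer_iff]
    intro w hw
    obtain ⟨i, rfl⟩ := Subgroup.mem_zpowers_iff.mp (hP0u hw)
    obtain ⟨j, rfl⟩ := Subgroup.mem_zpowers_iff.mp (hu.symm ▸ hy)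
    exact ((Commute.refl u).zpow_zpow i j).eq
  -- `p`-elements normalizing `P` lie in `P`
  have hnormP : ∀ z ∈ Subgroup.normalizer (P : Set G), (∃ j, orderOf z = p ^ j) → z ∈ (P : Subgroup G) := by
    intro z hz ⟨j, hj⟩
    have hzp : IsPGroup p (Subgroup.zpowers z) := IsPGroup.of_card (n := j) (by rw [Nat.card_zpowers, hj])
    have hmem : z ∈ Subgroup.zpowers z ⊓ Subgroup.normalizer (P : Set G) := ⟨Subgroup.mem_zpowers z, hz⟩
    rw [IsPGroup.inf_normalizer_sylow hzp P] at hmem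
    exact hmem.2
  -- in `C`, the normalizer of `P` centralizes `P`
  have hNC : ∀ y ∈ C, y ∈ Subgroup.normalizer (P : Set G) → y ∈ Subgroup.centralizer (P : Set G) := by
    intro y hyC hyN
    refine mem_of_pow_mem_of_p_part (p := p) y (e := e) ?_ (fun z hz hzp => ?_)
    · rw [Subgroup.mem_centralizer_iff]
      intro w hw
      obtain ⟨i, rfl⟩ := Subgroup.mem_zpowers_iff.mp (hu.symm ▸ (show w ∈ (P : Subgroup G) from hw))
      refine ((Commute.zpow_right (?_ : Commute (y ^ (p ^ e)) u) i)).eq.symm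
      obtain ⟨w0, hw0, hw0'⟩ := (Subgroup.bot_or_exists_ne_one P0).resolve_left hP0ne
      refine commute_pow_of_trivial (P0 := P0) he hyN huP hu (Or.inl ⟨w0, hP0u hw0, hw0', ?_⟩)
      exact (Subgroup.mem_centralizer_iff.mp hyC w0 hw0).symm
    · have hzN : z ∈ Subgroup.normalizer (P : Set G) := (Subgroup.zpowers_le.mpr hyN) hz
      have hzP := hu.symm ▸ hnormP z hzN hzp
      rw [Subgroup.mem_centralizer_iff]
      intro w hw
      obtain ⟨i, rfl⟩ := Subgroup.mem_zpowers_iff.mp (hu.symm ▸ (show w ∈ (P : Subgroup G) from hw))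
      obtain ⟨j, rfl⟩ := Subgroup.mem_zpowers_iff.mp hzP
      exact ((Commute.refl u).zpow_zpow i j).eq
  -- `C` has a normal `p`-complement
  set PC : Sylow p C := P.subtype hPC with hPCdef
  have hPCcoe : (PC : Subgroup C) = (P : Subgroup G).subgroupOf C := Sylow.coe_subtype P hPC
  have hNPC : Subgroup.normalizer (PC : Set C) ≤ Subgroup.centralizer (PC : Set C) := by
    intro y hy
    have hy' : (y : G) ∈ Subgroup.normalizer (P : Set G) := by
      show (y : G) ∈ Subgroup.normalizer ((P : Subgroup G) : Set G)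
      rw [Subgroup.mem_normalizer_iff]
      intro w
      have hiff := Subgroup.mem_normalizer_iff.mp
        (show y ∈ Subgroup.normalizer ((PC : Subgroup C) : Set C) from hy)
      constructor
      · intro hw
        have h3 := (hiff ⟨w, hPC hw⟩).mp (hPCcoe ▸ Subgroup.mem_subgroupOf.mpr hw)
        exact Subgroup.mem_subgroupOf.mp (hPCcoe ▸ h3)
      · intro hw
        have hwC : w ∈ C := by
          have := mul_mem (mul_mem (inv_mem y.2) (hPC hw)) y.2
          simpa [mul_assoc] using this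
        have h3 := (hiff ⟨w, hwC⟩).mpr (hPCcoe ▸ Subgroup.mem_subgroupOf.mpr hw)
        exact Subgroup.mem_subgroupOf.mp (hPCcoe ▸ h3)
    rw [Subgroup.mem_centralizer_iff]
    intro w hw
    apply Subtype.ext
    exact Subgroup.mem_centralizer_iff.mp (hNC y y.2 hy') w (Subgroup.mem_subgroupOf.mp (hPCcoe ▸ hw))
  have hKC := MonoidHom.ker_transferSylow_isComplement' PC hNPC
  set KC := (MonoidHom.transferSylow PC hNPC).ker with hKCdef
  -- `H` has a normal `p`-complement
  have hH : Cfsg.HasNormalPComplement p H := by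
    refine Transfer.hasNormalPComplement_of_normalizer_le_centralizer R fun y hy => ?_
    have hyN0 : ∀ w, w ∈ P0 ↔ (y : G) * w * (y : G)⁻¹ ∈ P0 := by
      intro w
      have hiff := Subgroup.mem_normalizer_iff.mp
        (show y ∈ Subgroup.normalizer ((R : Subgroup H) : Set H) from hy)
      constructor
      · intro hw
        have h3 := (hiff ⟨w, (Subgroup.mem_inf.mp hw).2⟩).mp (hR ▸ Subgroup.mem_subgroupOf.mpr hw.1)
        exact Subgroup.mem_inf.mpr ⟨Subgroup.mem_subgroupOf.mp (hR ▸ h3),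
          mul_mem (mul_mem y.2 (Subgroup.mem_inf.mp hw).2) (inv_mem y.2)⟩
      · intro hw
        have hwH : w ∈ H := by
          have := mul_mem (mul_mem (inv_mem y.2) (Subgroup.mem_inf.mp hw).2) y.2
          simpa [mul_assoc] using this
        have h3 := (hiff ⟨w, hwH⟩).mpr (hR ▸ Subgroup.mem_subgroupOf.mpr hw.1)
        exact ⟨Subgroup.mem_subgroupOf.mp (hR ▸ h3), hwH⟩
    have hyNC : ∀ g, g ∈ C → (y : G) * g * (y : G)⁻¹ ∈ C := by
      intro g hg
      rw [hC, Subgroup.mem_centralizer_iff]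
      intro w hw
      have hw' : (y : G)⁻¹ * w * y ∈ P0 := by
        rw [hyN0]; simpa [mul_assoc] using hw
      have := Subgroup.mem_centralizer_iff.mp hg _ hw'
      calc w * ((y : G) * g * (y : G)⁻¹) = y * ((y : G)⁻¹ * w * y * g) * (y : G)⁻¹ := by group
        _ = y * (g * ((y : G)⁻¹ * w * y)) * (y : G)⁻¹ := by rw [this]
        _ = _ := by group
    have hpow : ((y : G)) ^ (p ^ e) ∈ C := by
      have hQ : (((y : G) • P : Sylow p G) : Subgroup G) ≤ C := by
        intro w hw
        rw [Sylow.coe_subgroup_smul, Subgroup.mem_pointwise_smul_iff_inv_smul_mem] at hw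
        have := hyNC _ (hPC hw)
        simpa [mul_assoc] using this
      obtain ⟨c, hc⟩ := MulAction.exists_smul_eq C (((y : G) • P : Sylow p G).subtype hQ) PC
      rw [Sylow.smul_subtype hQ c, hPCdef] at hc
      have hc' : ((c : G) * y) • P = P := by
        rw [mul_smul]
        exact Sylow.subtype_injective hc
      obtain ⟨⟨p1, k⟩, hck⟩ := hKC.symm.2 c
      have hp1 : ((p1 : C) : G) ∈ (P : Subgroup G) := Subgroup.mem_subgroupOf.mp (hPCcoe ▸ p1.2)
      set n := ((k : C) : G) * y with hn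
      have hcy : (c : G) * y ∈ Subgroup.normalizer (P : Set G) := Sylow.smul_eq_iff_mem_normalizer.mp hc'
      have hnN : n ∈ Subgroup.normalizer (P : Set G) := by
        have : n = ((p1 : C) : G)⁻¹ * ((c : G) * y) := by
          rw [hn, ← hck]
          simp [mul_assoc]
        rw [this]
        exact mul_mem (Subgroup.le_normalizer (inv_mem hp1)) hcy
      have hwP : n * u * n⁻¹ * u⁻¹ ∈ (P : Subgroup G) :=
        mul_mem ((Subgroup.mem_normalizer_iff.mp hnN u).mp huP) (inv_mem huP)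
      -- modulo `H` this is a `p'`-element
      set kw : C := (k : C) * ((⟨u, hPC huP⟩ : C) * (k : C)⁻¹ * (⟨u, hPC huP⟩ : C)⁻¹) with hkw
      have hkwK : kw ∈ KC :=
        mul_mem k.2 ((inferInstance : KC.Normal).conj_mem _ (inv_mem k.2) _)
      have hmk : ((n * u * n⁻¹ * u⁻¹ : G) : G ⧸ H) = ((kw : G) : G ⧸ H) := by
        have hy1 : ((y : G) : G ⧸ H) = 1 := (QuotientGroup.eq_one_iff _).mpr y.2
        simp [hn, hkw, QuotientGroup.mk_mul, QuotientGroup.mk_inv, hy1, mul_assoc]
      have hwH : n * u * n⁻¹ * u⁻¹ ∈ H := by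
        rw [← QuotientGroup.eq_one_iff, ← orderOf_eq_one_iff]
        obtain ⟨j, hj⟩ := IsPGroup.iff_orderOf.mp P.2 ⟨_, hwP⟩
        rw [Subgroup.orderOf_mk] at hj
        have d1 : orderOf ((n * u * n⁻¹ * u⁻¹ : G) : G ⧸ H) ∣ p ^ j :=
          hj ▸ orderOf_map_dvd (QuotientGroup.mk' H) _
        have d2 : orderOf ((n * u * n⁻¹ * u⁻¹ : G) : G ⧸ H) ∣ (PC : Subgroup C).index := by
          rw [hmk]
          refine (orderOf_map_dvd (QuotientGroup.mk' H) _).trans ?_
          rw [Subgroup.orderOf_coe, hKC.index_eq_card]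
          have := orderOf_dvd_natCard (⟨kw, hkwK⟩ : KC)
          rwa [Subgroup.orderOf_mk] at this
        exact Nat.eq_one_of_dvd_coprimes
          (Nat.Coprime.pow_left j ((Nat.Prime.coprime_iff_not_dvd hp).mpr PC.not_dvd_index)) d1 d2
      have hnu := commute_pow_of_trivial (P0 := P0) he hnN huP hu
        (Or.inr ⟨⟨hwP, hwH⟩, fun h => hPH fun w hw => by
          obtain ⟨i, rfl⟩ := Subgroup.mem_zpowers_iff.mp (hu.symm ▸ hw)
          exact Subgroup.zpow_mem _ h.2 i⟩)
      have hnC : n ^ (p ^ e) ∈ C := by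
        rw [hC, Subgroup.mem_centralizer_iff]
        intro w hw
        obtain ⟨i, rfl⟩ := Subgroup.mem_zpowers_iff.mp (hP0u hw)
        exact (hnu.zpow_right i).eq.symm
      have hdiff : ∀ j : ℕ, n ^ j * ((y : G) ^ j)⁻¹ ∈ C := by
        intro j
        induction j with
        | zero => simp [one_mem]
        | succ j ih =>
          have h3 : n ^ (j + 1) * ((y : G) ^ (j + 1))⁻¹ =
              ((k : C) : G) * ((y : G) * (n ^ j * ((y : G) ^ j)⁻¹) * (y : G)⁻¹) := by
            rw [pow_succ', pow_succ', hn]; group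
          rw [h3]
          exact mul_mem (k : C).2 (hyNC _ ih)
      have h4 := mul_mem (inv_mem (hdiff (p ^ e))) hnC
      simpa [mul_assoc] using h4
    rw [Subgroup.mem_centralizer_iff]
    intro w hw
    apply Subtype.ext
    have hyC : (y : G) ∈ C := by
      refine mem_of_pow_mem_of_p_part (y : G) hpow fun z hz ⟨j, hj⟩ => ?_
      obtain ⟨i, rfl⟩ := Subgroup.mem_zpowers_iff.mp hz
      have hzp : IsPGroup p (Subgroup.zpowers (y ^ i : H)) := IsPGroup.of_card (n := j) (by
        rw [Nat.card_zpowers, ← Subgroup.orderOf_coe, Subgroup.coe_zpow, hj])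
      have hmem : (y ^ i : H) ∈ Subgroup.zpowers (y ^ i : H) ⊓ Subgroup.normalizer (R : Set H) :=
        ⟨Subgroup.mem_zpowers _, Subgroup.zpow_mem _ hy i⟩
      rw [IsPGroup.inf_normalizer_sylow hzp R] at hmem
      have hzR := Subgroup.mem_subgroupOf.mp (hR ▸ hmem.2)
      exact hPC hzR
    exact Subgroup.mem_centralizer_iff.mp hyC w ⟨Subgroup.mem_subgroupOf.mp (hR ▸ hw), w.2⟩
  refine ⟨hH, ?_⟩
  -- `p`-solvability
  obtain ⟨S, N0, hN0, hcomp⟩ := hH
  haveI := hN0
  have hHsol : Cfsg.IsPSolvable p H := by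
    refine PCore.isPSolvable_of_isPGroup_quotient N0 (PCore.isPSolvable_of_coprime ?_) ?_
    · rw [← hcomp.index_eq_card]
      exact ((Nat.Prime.coprime_iff_not_dvd hp).mpr S.not_dvd_index).symm
    · obtain ⟨s, hs⟩ := IsPGroup.iff_card.mp S.2
      exact IsPGroup.of_card (n := s) (by rw [← Subgroup.index_eq_card, hcomp.symm.index_eq_card, hs])
  set T := Subgroup.normalizer (P0 : Set G) with hT
  have hfr : T ⊔ H = ⊤ := by
    rw [hT, ← hmapR]
    exact Sylow.normalizer_sup_eq_top R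
  have hCT : C ≤ T := Subgroup.centralizer_le_normalizer _
  haveI : (C.subgroupOf T).Normal := by
    refine ⟨fun g hg t => ?_⟩
    rw [Subgroup.mem_subgroupOf] at hg ⊢
    rw [hC, Subgroup.mem_centralizer_iff]
    intro w hw
    have hw' : (t : G)⁻¹ * w * t ∈ P0 := by
      rw [Subgroup.mem_normalizer_iff.mp t.2]; simpa [mul_assoc] using hw
    have := Subgroup.mem_centralizer_iff.mp hg _ hw'
    simp only [Subgroup.coe_mul, Subgroup.coe_inv]
    calc w * ((t : G) * g * (t : G)⁻¹) = t * ((t : G)⁻¹ * w * t * g) * (t : G)⁻¹ := by group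
      _ = t * ((g : G) * ((t : G)⁻¹ * w * t)) * (t : G)⁻¹ := by rw [this]
      _ = _ := by group
  have hCsol : Cfsg.IsPSolvable p C := by
    refine PCore.isPSolvable_of_isPGroup_quotient KC (PCore.isPSolvable_of_coprime ?_) ?_
    · rw [← hKC.index_eq_card]
      exact ((Nat.Prime.coprime_iff_not_dvd hp).mpr PC.not_dvd_index).symm
    · obtain ⟨s, hs⟩ := IsPGroup.iff_card.mp PC.2
      exact IsPGroup.of_card (n := s) (by rw [← Subgroup.index_eq_card, hKC.symm.index_eq_card, hs])
  have hTsol : Cfsg.IsPSolvable p T := by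
    refine PCore.isPSolvable_of_normal (C.subgroupOf T)
      ((PCore.isPSolvable_congr (Subgroup.subgroupOfEquivOfLe hCT)).mpr hCsol) ?_
    haveI : Group.IsSolvable (T ⧸ C.subgroupOf T) := by
      refine Group.isSolvable_of_comm fun a b => ?_
      induction a using QuotientGroup.induction_on with
      | _ a => induction b using QuotientGroup.induction_on with
        | _ b =>
          rw [← QuotientGroup.mk_mul, ← QuotientGroup.mk_mul, QuotientGroup.eq, Subgroup.mem_subgroupOf,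
            hC, Subgroup.mem_centralizer_iff]
          intro w hw
          obtain ⟨d, hd⟩ := (Subgroup.isCyclic_of_le (inf_le_left : P0 ≤ (P : Subgroup G))).exists_generator
          have hact : ∀ t : T, ∃ i : ℤ, ∀ v ∈ P0, (t : G) * v * (t : G)⁻¹ = v ^ i := by
            intro t
            obtain ⟨i, hi⟩ := Subgroup.mem_zpowers_iff.mp
              (hd ⟨_, (Subgroup.mem_normalizer_iff.mp t.2 _).mp d.2⟩)
            refine ⟨i, fun v hv => ?_⟩
            obtain ⟨j, hj⟩ := Subgroup.mem_zpowers_iff.mp (hd ⟨v, hv⟩)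
            have hi' : (d : G) ^ i = (t : G) * d * (t : G)⁻¹ := congrArg Subtype.val hi
            have hj' : (d : G) ^ j = v := congrArg Subtype.val hj
            rw [← hj', ← conj_zpow, ← hi', ← zpow_mul, ← zpow_mul, mul_comm]
          obtain ⟨i, hi⟩ := hact a
          obtain ⟨j, hj⟩ := hact b
          have hb : ∀ v ∈ P0, (b : G) * v * (b : G)⁻¹ ∈ P0 := fun v hv => (Subgroup.mem_normalizer_iff.mp b.2 v).mp hv
          have ha : ∀ v ∈ P0, (a : G) * v * (a : G)⁻¹ ∈ P0 := fun v hv => (Subgroup.mem_normalizer_iff.mp a.2 v).mp hv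
          have h5 : ((a : G) * b) * w * ((a : G) * b)⁻¹ = ((b : G) * a) * w * ((b : G) * a)⁻¹ := by
            calc ((a : G) * b) * w * ((a : G) * b)⁻¹ = a * ((b : G) * w * (b : G)⁻¹) * (a : G)⁻¹ := by group
              _ = ((b : G) * w * (b : G)⁻¹) ^ i := hi _ (hb w hw)
              _ = (w ^ j) ^ i := by rw [hj w hw]
              _ = ((a : G) * w * (a : G)⁻¹) ^ j := by rw [hi w hw, ← zpow_mul, ← zpow_mul, mul_comm]
              _ = b * ((a : G) * w * (a : G)⁻¹) * (b : G)⁻¹ := (hj _ (ha w hw)).symm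
              _ = _ := by group
          simp only [Subgroup.coe_mul, Subgroup.coe_inv]
          calc w * (((a : G) * b)⁻¹ * ((b : G) * a))
              = ((a : G) * b)⁻¹ * (((a : G) * b) * w * ((a : G) * b)⁻¹) * ((b : G) * a) := by group
            _ = ((a : G) * b)⁻¹ * (((b : G) * a) * w * ((b : G) * a)⁻¹) * ((b : G) * a) := by rw [h5]
            _ = _ := by group
    exact PCore.isPSolvable_of_isSolvable
  refine PCore.isPSolvable_of_normal H hHsol ?_
  refine PCore.isPSolvable_of_surjective ((QuotientGroup.mk' H).comp T.subtype) ?_ hTsol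
  intro q
  obtain ⟨g, rfl⟩ := QuotientGroup.mk'_surjective H q
  obtain ⟨t, ht, h, hh, rfl⟩ := Subgroup.mem_sup_of_normal_right.mp (hfr.symm ▸ Subgroup.mem_top g)
  refine ⟨⟨t, ht⟩, ?_⟩
  show ((t : G) : G ⧸ H) = ((t * h : G) : G ⧸ H)
  rw [QuotientGroup.mk_mul, (QuotientGroup.eq_one_iff h).mpr hh, mul_one]

end Cfsg.Agent.S4145
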