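import Cfsg.Statements.S4149
import Cfsg.Agent.Lib.Transfer.CentralizerCount

set_option autoImplicit false
open Cfsg

namespace Cfsg.Agent.S4149

/-- Let G be a finite group that has a normal p-complement for at most one prime p dividing its order, and let σ be a natural number such that every conjugacy class size of G has at most σ distinct prime divisors. Then the number of primes dividing at least one conjugacy class size of G is at most 2σ. -/
theorem result {G : Type*} [Group G] [Finite G] (σ : ℕ)
    (hσ : ∀ x : G, ((Subgroup.centralizer ({x} : Set G)).index).primeFactors.card ≤ σ)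
    (hnil : ∀ p q : ℕ, p.Prime → q.Prime → p ∣ Nat.card G → q ∣ Nat.card G →
      Cfsg.HasNormalPComplement p G → Cfsg.HasNormalPComplement q G → p = q) :
    Nat.card {p : ℕ | p.Prime ∧ ∃ x : G, p ∣ (Subgroup.centralizer ({x} : Set G)).index} ≤ 2 * σ := by
  classical
  haveI : Fintype G := Fintype.ofFinite G
  set S : Set ℕ := {p : ℕ | p.Prime ∧ ∃ x : G, p ∣ (Subgroup.centralizer ({x} : Set G)).index}
  have hSfin : S.Finite := (Set.finite_le_nat (Nat.card G)).subset fun p hp => by
    obtain ⟨x, hx⟩ := hp.2
    exact Nat.le_of_dvd Nat.card_pos (hx.trans (Subgroup.index_dvd_card _))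
  set T := hSfin.toFinset with hT
  have hk : Nat.card S = T.card := Nat.card_eq_card_finite_toFinset hSfin
  rw [hk]
  by_contra hcon
  push_neg at hcon
  -- at most one prime of `T` gives a normal complement
  set E := T.filter fun p => Cfsg.HasNormalPComplement p G
  have hE : E.card ≤ 1 := Finset.card_le_one.mpr fun p hp q hq => by
    simp only [E, Finset.mem_filter, hT, Set.Finite.mem_toFinset] at hp hq
    obtain ⟨⟨hp1, x, hx⟩, hp2⟩ := hp
    obtain ⟨⟨hq1, y, hy⟩, hq2⟩ := hq
    exact hnil p q hp1 hq1 (hx.trans (Subgroup.index_dvd_card _))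
      (hy.trans (Subgroup.index_dvd_card _)) hp2 hq2
  -- double counting
  have hsum : ∀ x : G, T.card ≤ (T.filter fun p => x ∈ Transfer.classSizeCoprimeSet p G).card + σ := by
    intro x
    have hsplit := Finset.card_filter_add_card_filter_not (s := T)
      (fun p => x ∈ Transfer.classSizeCoprimeSet p G)
    have hle : (T.filter fun p => ¬ x ∈ Transfer.classSizeCoprimeSet p G).card ≤ σ := by
      refine le_trans (Finset.card_le_card fun p hp => ?_) (hσ x)
      simp only [Finset.mem_filter, hT, Set.Finite.mem_toFinset, Transfer.classSizeCoprimeSet,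
        Set.mem_ofPred_eq, not_not] at hp
      exact Nat.mem_primeFactors.mpr ⟨hp.1.1, hp.2, Subgroup.index_ne_zero_of_finite⟩
    omega
  have hdc : ∑ x : G, (T.filter fun p => x ∈ Transfer.classSizeCoprimeSet p G).card
      = ∑ p ∈ T, Nat.card (Transfer.classSizeCoprimeSet p G) := by
    simp only [Finset.card_filter]
    rw [Finset.sum_comm]
    refine Finset.sum_congr rfl fun p _ => ?_
    rw [← Finset.card_filter, Nat.card_eq_fintype_card, Fintype.card_subtype]
  have hlow : T.card * Nat.card G ≤
      ∑ p ∈ T, Nat.card (Transfer.classSizeCoprimeSet p G) + σ * Nat.card G := by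
    rw [← hdc]
    have := Finset.sum_le_sum (s := (Finset.univ : Finset G)) fun x _ => hsum x
    simp only [Finset.sum_add_distrib, Finset.sum_const, Finset.card_univ, smul_eq_mul] at this
    rw [Nat.card_eq_fintype_card]
    nlinarith
  have hup : ∀ p ∈ T, 2 * Nat.card (Transfer.classSizeCoprimeSet p G) ≤
      Nat.card G + if Cfsg.HasNormalPComplement p G then Nat.card G else 0 := by
    intro p hp
    have hp1 : p.Prime := ((Set.Finite.mem_toFinset hSfin).mp hp).1
    haveI : Fact p.Prime := ⟨hp1⟩
    split_ifs with hP
    · have : Nat.card (Transfer.classSizeCoprimeSet p G) ≤ Nat.card G :=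
        Nat.card_le_card_of_injective Subtype.val Subtype.val_injective
      omega
    · simpa using Transfer.two_mul_card_le (G := G) hP
  have hup' := Finset.sum_le_sum hup
  rw [← Finset.mul_sum, Finset.sum_add_distrib, Finset.sum_const, smul_eq_mul, ← Finset.sum_filter,
    Finset.sum_const, smul_eq_mul] at hup'
  have hG : 0 < Nat.card G := Nat.card_pos
  -- some prime's set is not everything
  by_cases hσ0 : σ = 0
  · subst hσ0
    have hpos : 0 < T.card := by omega
    obtain ⟨p, hp⟩ := Finset.card_pos.mp hpos
    obtain ⟨hp1, x, hx⟩ := (Set.Finite.mem_toFinset hSfin).mp hp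
    have := hσ x
    have hmem : p ∈ ((Subgroup.centralizer ({x} : Set G)).index).primeFactors :=
      Nat.mem_primeFactors.mpr ⟨hp1, hx, Subgroup.index_ne_zero_of_finite⟩
    have := Finset.card_pos.mpr ⟨p, hmem⟩
    omega
  have hE' := Nat.mul_le_mul_right (Nat.card G) hE
  have hcon' : (2 * σ + 1) * Nat.card G ≤ T.card * Nat.card G := Nat.mul_le_mul_right _ hcon
  have hkey : T.card * Nat.card G ≤ (2 * σ + 1) * Nat.card G := by linarith
  -- equality case: the identity is counted in full
  have hone : (T.filter fun p => (1 : G) ∈ Transfer.classSizeCoprimeSet p G) = T := by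
    refine Finset.filter_true_of_mem fun p hp => ?_
    haveI : Fact p.Prime := ⟨((Set.Finite.mem_toFinset hSfin).mp hp).1⟩
    exact Transfer.one_mem_classSizeCoprimeSet
  have hstrict : T.card * Nat.card G <
      ∑ p ∈ T, Nat.card (Transfer.classSizeCoprimeSet p G) + σ * Nat.card G := by
    rw [← hdc]
    have := Finset.sum_lt_sum (s := (Finset.univ : Finset G))
      (f := fun _ => T.card)
      (g := fun x => (T.filter fun p => x ∈ Transfer.classSizeCoprimeSet p G).card + σ)
      (fun x _ => hsum x) ⟨1, Finset.mem_univ _, by simp only [hone]; omega⟩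
    simp only [Finset.sum_add_distrib, Finset.sum_const, Finset.card_univ, smul_eq_mul] at this
    rw [Nat.card_eq_fintype_card]
    nlinarith
  nlinarith

end Cfsg.Agent.S4149
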