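-- S4150
import Cfsg.Statements.S4150
import Cfsg.Agent.Lib.TwoCycles.Thirteen
import Cfsg.Agent.Lib.TwoPrimes.Bound

set_option autoImplicit false
set_option linter.style.haveILetI false
open Cfsg

namespace Cfsg.Agent.S4150

open Equiv Equiv.Perm MulAction Cfsg.Agent

/-- The group theoretic condition on the primes. -/
def Good (m p q : ℕ) : Prop :=
  ∀ (β : Type) [Fintype β] [DecidableEq β] (G : Subgroup (Perm β)) (x y : Perm β),
    Fintype.card β ≤ m → q ≤ Fintype.card β → x.support.card ≤ Fintype.card β →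
    G ≤ alternatingGroup β → IsPretransitive G β → IsPreprimitive G β → x ∈ G → y ∈ G →
    orderOf x = p → y.IsCycle → y.support.card = q →
    alternatingGroup β ≤ G ∨ Nonempty (G ≃* alternatingGroup (Fin 5))

/-- The primes are far apart. -/
theorem good_of_far {m p q : ℕ} (hp : p.Prime) (hm : m < 2 * p) (h : p + 3 ≤ q) : Good m p q := by
  intro β _ _ G x y hcm hqc hxc _ _ hG hx _ hxo _ _
  obtain ⟨k, hk1, hk⟩ := TwoCycles.card_support_of_prime hp hxo
  obtain rfl : k = 1 := by nlinarith
  exact Or.inl (Cfsg.Agent.Perm.alternatingGroup_le_of_prime_cycle G hG hp (by omega)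
    (isCycle_of_prime_order (by rw [hxo]; exact hp) (by omega)) (by omega) hx)

theorem good_small {m : ℕ} (h5 : 5 ≤ m) (h16 : m ≤ 16) :
    ∃ p q : ℕ, p.Prime ∧ q.Prime ∧ m ≤ 2 * p ∧ p < q ∧ q ≤ m ∧ Good m p q := by
  have jordan : ∀ {β : Type} [Fintype β] [DecidableEq β] {G : Subgroup (Perm β)} {g : Perm β} {r : ℕ},
      r.Prime → IsPreprimitive G β → g ∈ G → g.IsCycle → g.support.card = r →
      r + 3 ≤ Fintype.card β → alternatingGroup β ≤ G := fun hr hG hg hc hs hn =>
    Cfsg.Agent.Perm.alternatingGroup_le_of_prime_cycle _ hG hr hn hc hs hg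
  rcases (show m ≤ 6 ∨ (7 ≤ m ∧ m ≤ 10) ∨ (11 ≤ m ∧ m ≤ 14) ∨ (15 ≤ m ∧ m ≤ 16) by omega) with h | h | h | h
  · refine ⟨3, 5, by norm_num, by norm_num, by omega, by norm_num, by omega, ?_⟩
    intro β _ _ G x y hcm hqc hxc hA ht hG hx hy hxo hyc hys
    obtain ⟨k, hk1, hk⟩ := TwoCycles.card_support_of_prime (by norm_num : Nat.Prime 3) hxo
    rcases (show k = 1 ∨ (k = 2 ∧ Fintype.card β = 6) by omega) with rfl | ⟨rfl, hn⟩
    · exact Or.inl (Cfsg.Agent.Perm.alternatingGroup_le_of_support_le_three G hG hx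
        (fun e => by rw [e, orderOf_one] at hxo; norm_num at hxo) (by omega))
    · haveI := ht
      exact TwoCycles.degree_six G hA hn hy hyc hys
  · refine ⟨5, 7, by norm_num, by norm_num, by omega, by norm_num, by omega, ?_⟩
    intro β _ _ G x y hcm hqc hxc hA ht hG hx hy hxo hyc hys
    left
    obtain ⟨k, hk1, hk⟩ := TwoCycles.card_support_of_prime (by norm_num : Nat.Prime 5) hxo
    rcases (show k = 1 ∨ (k = 2 ∧ Fintype.card β = 10) by omega) with rfl | ⟨rfl, hn⟩
    · have hxcy := isCycle_of_prime_order (σ := x) (by rw [hxo]; norm_num) (by omega)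
      rcases (show Fintype.card β = 7 ∨ 8 ≤ Fintype.card β by omega) with hn | hn
      · exact TwoCycles.degree_seven G hA hG hn hx hxcy (by omega)
      · exact jordan (r := 5) (by norm_num) hG hx hxcy (by omega) (by omega)
    · exact jordan (r := 7) (by norm_num) hG hy hyc hys (by omega)
  · refine ⟨7, 11, by norm_num, by norm_num, by omega, by norm_num, by omega, ?_⟩
    intro β _ _ G x y hcm hqc hxc hA ht hG hx hy hxo hyc hys
    left
    obtain ⟨k, hk1, hk⟩ := TwoCycles.card_support_of_prime (by norm_num : Nat.Prime 7) hxo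
    rcases (show k = 1 ∨ (k = 2 ∧ Fintype.card β = 14) by omega) with rfl | ⟨rfl, hn⟩
    · exact jordan (r := 7) (by norm_num) hG hx
        (isCycle_of_prime_order (σ := x) (by rw [hxo]; norm_num) (by omega)) (by omega) (by omega)
    · exact jordan (r := 11) (by norm_num) hG hy hyc hys (by omega)
  · refine ⟨11, 13, by norm_num, by norm_num, by omega, by norm_num, by omega, ?_⟩
    intro β _ _ G x y hcm hqc hxc hA ht hG hx hy hxo hyc hys
    left
    obtain ⟨k, hk1, hk⟩ := TwoCycles.card_support_of_prime (by norm_num : Nat.Prime 11) hxo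
    obtain rfl : k = 1 := by omega
    have hxcy := isCycle_of_prime_order (σ := x) (by rw [hxo]; norm_num) (by omega)
    rcases (show Fintype.card β = 13 ∨ 14 ≤ Fintype.card β by omega) with hn | hn
    · exact TwoCycles.degree_thirteen G hA hG hn hx hxcy (by omega)
    · exact jordan (r := 11) (by norm_num) hG hx hxcy (by omega) (by omega)

/-- Restriction to the union of the supports. -/
theorem generated {m p q : ℕ} (hm5 : 5 ≤ m) (hp : p.Prime) (hq : q.Prime) (hm2 : m ≤ 2 * p) (hpq : p < q)
    (hgood : Good m p q) (x y : alternatingGroup (Fin m)) (hx : orderOf x = p) (hy : orderOf y = q) :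
    ∃ d : ℕ, 5 ≤ d ∧ Nonempty (Subgroup.closure ({x, y} : Set (alternatingGroup (Fin m))) ≃*
      alternatingGroup (Fin d)) := by
  classical
  set X : Perm (Fin m) := (x : Perm (Fin m)) with hX
  set Y : Perm (Fin m) := (y : Perm (Fin m)) with hY
  have hxo : orderOf X = p := by rw [hX, Subgroup.orderOf_coe, hx]
  have hyo : orderOf Y = q := by rw [hY, Subgroup.orderOf_coe, hy]
  let Ω : Finset (Fin m) := X.support ∪ Y.support
  set K := Subgroup.closure ({x, y} : Set (alternatingGroup (Fin m)))
  have hsupp : ∀ k ∈ K, (k : Perm (Fin m)).support ⊆ Ω := by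
    intro k hk
    induction hk using Subgroup.closure_induction with
    | mem u hu =>
      rcases hu with rfl | rfl
      · exact Finset.subset_union_left
      · exact Finset.subset_union_right
    | one => simp
    | mul u v _ _ hu hv => exact (support_mul_le _ _).trans (Finset.union_subset hu hv)
    | inv u _ hu => simpa using hu
  have hinv : ∀ k : K, ∀ z : Fin m, ((k : alternatingGroup (Fin m)) : Perm (Fin m)) z ∈ Ω ↔ z ∈ Ω := by
    intro k z
    by_cases hz : z ∈ ((k : alternatingGroup (Fin m)) : Perm (Fin m)).support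
    · exact ⟨fun _ => hsupp _ k.2 hz, fun _ => hsupp _ k.2 (apply_mem_support.2 hz)⟩
    · rw [notMem_support.1 hz]
  let φ : K →* Perm {z // z ∈ Ω} :=
    { toFun := fun k => ((k : alternatingGroup (Fin m)) : Perm (Fin m)).subtypePerm (hinv k)
      map_one' := by ext; simp
      map_mul' := fun k l => by ext z; rfl }
  have hφapply : ∀ (k : K) (z : {z // z ∈ Ω}),
      ((φ k z : {z // z ∈ Ω}) : Fin m) = ((k : alternatingGroup (Fin m)) : Perm (Fin m)) z := fun _ _ => rfl
  have hφ : Function.Injective φ := by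
    refine (injective_iff_map_eq_one _).2 fun k hk => Subtype.ext (Subtype.ext (Equiv.ext fun z => ?_))
    by_cases hz : z ∈ Ω
    · exact (hφapply k ⟨z, hz⟩).symm.trans (by rw [hk]; rfl)
    · exact notMem_support.1 fun h => hz (hsupp _ k.2 h)
  have hcard : ∀ k : K, (φ k).support.card = ((k : alternatingGroup (Fin m)) : Perm (Fin m)).support.card := by
    intro k
    rw [← Finset.card_map (Function.Embedding.subtype _)]
    congr 1
    ext z
    simp only [Finset.mem_map, mem_support, Function.Embedding.coe_subtype]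
    constructor
    · rintro ⟨w, hw, rfl⟩
      exact fun h => hw (Subtype.ext h)
    · intro hz
      exact ⟨⟨z, hsupp _ k.2 (mem_support.2 hz)⟩, fun h => hz (congrArg Subtype.val h), rfl⟩
  set G := φ.range
  let xK : K := ⟨x, Subgroup.subset_closure (by simp)⟩
  let yK : K := ⟨y, Subgroup.subset_closure (by simp)⟩
  have hcm : Fintype.card {z // z ∈ Ω} ≤ m := by
    have := Fintype.card_subtype_le fun z => z ∈ Ω
    rwa [Fintype.card_fin] at this
  have hA : G ≤ alternatingGroup {z // z ∈ Ω} := by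
    rintro _ ⟨k, rfl⟩
    rw [mem_alternatingGroup]
    show sign (((k : alternatingGroup (Fin m)) : Perm (Fin m)).subtypePerm (hinv k)) = 1
    convert! (sign_subtypePerm ((k : alternatingGroup (Fin m)) : Perm (Fin m)) (hinv k) fun z hz =>
      hsupp _ k.2 (mem_support.2 hz)).trans (mem_alternatingGroup.1 (k : alternatingGroup (Fin m)).2)
  obtain ⟨l, hl1, hl⟩ := TwoCycles.card_support_of_prime hq hyo
  have hYm : Y.support.card ≤ m := by
    have := Y.support.card_le_univ; rwa [Fintype.card_fin] at this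
  obtain rfl : l = 1 := by nlinarith
  rw [one_mul] at hl
  have hYc : Y.IsCycle := isCycle_of_prime_order (by rw [hyo]; exact hq) (by omega)
  have hyc : (φ yK).IsCycle := isCycle_of_prime_order
    (by rw [orderOf_injective φ hφ, Subgroup.orderOf_mk, hy]; exact hq)
    (by rw [orderOf_injective φ hφ, Subgroup.orderOf_mk, hy, hcard]; show Y.support.card < 2 * q; omega)
  have hys : (φ yK).support.card = q := by rw [hcard]; exact hl
  have hYd : q ≤ Fintype.card {z // z ∈ Ω} := by
    rw [Fintype.card_coe, ← hl]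
    exact Finset.card_le_card Finset.subset_union_right
  obtain ⟨o, ho⟩ := hYc.nonempty_support
  have hreach : ∀ z : {z // z ∈ Ω}, ∃ g : G, g • (⟨o, Finset.mem_union_right _ ho⟩ : {z // z ∈ Ω}) = z := by
    have hyz : ∀ z : {z // z ∈ Ω}, (z : Fin m) ∈ Y.support →
        ∃ g : G, g • (⟨o, Finset.mem_union_right _ ho⟩ : {z // z ∈ Ω}) = z := by
      intro z hz
      obtain ⟨i, hi⟩ := hYc.exists_zpow_eq (mem_support.1 ho) (mem_support.1 hz)
      refine ⟨⟨φ (yK ^ i), yK ^ i, rfl⟩, Subtype.ext ?_⟩
      show ((yK ^ i : K) : alternatingGroup (Fin m)).1 o = z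
      simpa [yK, hY] using hi
    intro z
    by_cases hz : (z : Fin m) ∈ Y.support
    · exact hyz z hz
    have hzX : X z ≠ z := mem_support.1 ((Finset.mem_union.1 z.2).resolve_right hz)
    obtain ⟨i, hi⟩ : ∃ i : Fin p, (X ^ (i.val : ℤ)) z ∈ Y.support := by
      by_contra hcon
      push Not at hcon
      have hinj : Function.Injective fun i : Fin p => (X ^ (i.val : ℤ)) (z : Fin m) := by
        intro i j h
        have h1 : (X ^ ((i.val : ℤ) - j.val)) (z : Fin m) = z := by
          have h' := congrArg (⇑(X ^ (-(j.val : ℤ)))) h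
          simp only [← mul_apply, ← zpow_add] at h'
          rwa [neg_add_cancel, zpow_zero, one_apply, neg_add_eq_sub] at h'
        obtain ⟨c, hc⟩ := (TwoCycles.zpow_apply_eq_iff_dvd hp (hxo ▸ pow_orderOf_eq_one X) hzX _).1 h1
        have hi := i.2
        have hj := j.2
        refine Fin.ext ?_
        rcases eq_or_ne c 0 with rfl | hc0
        · omega
        · exfalso
          have : (p : ℤ) ≤ |(p : ℤ) * c| := by
            rw [abs_mul, Nat.abs_cast]
            exact le_mul_of_one_le_right (by positivity) (Int.one_le_abs hc0)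
          rw [← hc] at this
          rcases abs_cases ((i.val : ℤ) - j.val) with ⟨e, -⟩ | ⟨e, -⟩ <;> omega
      have h1 := Finset.card_le_card (show Finset.univ.image (fun i : Fin p => (X ^ (i.val : ℤ)) (z : Fin m)) ⊆ Y.supportᶜ by
        intro w hw
        obtain ⟨i, -, rfl⟩ := Finset.mem_image.1 hw
        exact Finset.mem_compl.2 (hcon i))
      rw [Finset.card_image_of_injective _ hinj, Finset.card_univ, Fintype.card_fin, Finset.card_compl,
        Fintype.card_fin, hl] at h1
      omega
    obtain ⟨g, hg⟩ := hyz ⟨_, Finset.mem_union_right _ hi⟩ hi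
    refine ⟨⟨φ (xK ^ (i.val : ℤ)), _, rfl⟩⁻¹ * g, ?_⟩
    rw [mul_smul, hg, inv_smul_eq_iff]
    refine Subtype.ext ?_
    show (X ^ (i.val : ℤ)) (z : Fin m) = ((xK ^ (i.val : ℤ) : K) : alternatingGroup (Fin m)).1 z
    simp [xK, hX]
  haveI ht : IsPretransitive G {z // z ∈ Ω} := by
    refine ⟨fun u v => ?_⟩
    obtain ⟨g, hg⟩ := hreach u
    obtain ⟨h, hh⟩ := hreach v
    exact ⟨h * g⁻¹, by rw [mul_smul, ← hg, inv_smul_smul, hh]⟩
  have hprim := TwoCycles.isPreprimitive_of_cycle G hq ⟨yK, rfl⟩ hyc hys (by omega)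
  have e : K ≃* G := MonoidHom.ofInjective hφ
  rcases hgood _ G (φ xK) (φ yK) hcm hYd (Finset.card_le_univ _) hA ht hprim ⟨xK, rfl⟩ ⟨yK, rfl⟩
    (by rw [orderOf_injective φ hφ, Subgroup.orderOf_mk, hx]) hyc hys with h | ⟨⟨f⟩⟩
  · refine ⟨Fintype.card {z // z ∈ Ω}, ?_, ⟨(e.trans (MulEquiv.subgroupCongr (le_antisymm hA h))).trans
      (Equiv.altCongrHom (Fintype.equivFin _))⟩⟩
    have := hp.two_le
    have h4 : q ≠ 4 := fun h => absurd (h ▸ hq) (by norm_num)
    have h3 : q ≠ 3 := fun h => by
      have : m ≤ 4 := by omega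
      omega
    omega
  · exact ⟨5, le_rfl, ⟨e.trans f⟩⟩

/-- Let m ≥ 5. Then there are primes p < q with m/2 ≤ p and q ≤ m such that any two elements x, y of the alternating group of degree m with x of order p and y of order q generate a subgroup isomorphic to an alternating group of some degree d ≥ 5. -/
theorem result (m : ℕ) (hm : 5 ≤ m) :
    ∃ p q : ℕ, p.Prime ∧ q.Prime ∧ m ≤ 2 * p ∧ p < q ∧ q ≤ m ∧
      ∀ x y : alternatingGroup (Fin m), orderOf x = p → orderOf y = q →
        ∃ d : ℕ, 5 ≤ d ∧ Nonempty (Subgroup.closure ({x, y} : Set (alternatingGroup (Fin m))) ≃* alternatingGroup (Fin d)) := by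
  by_cases h16 : m ≤ 16
  · obtain ⟨p, q, hp, hq, h1, h2, h3, hg⟩ := good_small hm h16
    exact ⟨p, q, hp, hq, h1, h2, h3, fun x y hx hy => generated hm hp hq h1 h2 hg x y hx hy⟩
  · obtain ⟨p, q, hp, hq, h1, h2, h3⟩ := Cfsg.Agent.TwoPrimes.exists_pair (m := m) (by omega)
    exact ⟨p, q, hp, hq, h1.le, by omega, h3,
      fun x y hx hy => generated hm hp hq h1.le (by omega) (good_of_far hp h1 h2) x y hx hy⟩

end Cfsg.Agent.S4150
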