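import Cfsg.Statements.S4151
import Cfsg.Agent.Lib.Coprime.TIHall
import Cfsg.Agent.S4117
-- import your own Cfsg.Agent.* helpers here

set_option autoImplicit false
open Cfsg Subgroup
open scoped Pointwise

namespace Cfsg.Agent.S4151

/-- Let G be a finite group and H a non-normal subgroup meeting each of its conjugates by elements outside N_G(H) trivially, with the order of H coprime to its index in N_G(H), such that G is π-separable for π the set of primes dividing the order of H (G has a chain of normal subgroups from 1 to G each of whose factors has order divisible only by primes dividing the order of H or coprime to it). Suppose a Sylow 2-subgroup of H is abelian and Q is a complement of H in N_G(H). Then C_H(Q), the subgroup of elements of H commuting with Q, has order coprime to its index in G and has a normal complement in G. -/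
theorem result {G : Type*} [Group G] [Finite G] (H : Subgroup G)
    (hTI : Cfsg.IsTISubset (H : Set G)) (hnn : ¬ H.Normal)
    (hHall : (Nat.card H).Coprime (H.subgroupOf (Subgroup.normalizer (H : Set G))).index)
    (hsep : ∃ (n : ℕ) (M : Fin (n + 1) → Subgroup G), M 0 = ⊥ ∧ M (Fin.last n) = ⊤ ∧ Monotone M ∧ (∀ i, (M i).Normal) ∧
      ∀ i : Fin n, (∀ q : ℕ, q.Prime → q ∣ (M i.castSucc).relIndex (M i.succ) → q ∣ Nat.card H) ∨
        ((M i.castSucc).relIndex (M i.succ)).Coprime (Nat.card H))
    (h2 : ∀ P : Sylow 2 H, IsMulCommutative (P : Subgroup H))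
    (Q : Subgroup G) (hQ : Q ≤ Subgroup.normalizer (H : Set G)) (hQH : Q ⊓ H = ⊥) (hQH' : Q ⊔ H = Subgroup.normalizer (H : Set G)) :
    (Nat.card ↥(H ⊓ Subgroup.centralizer (Q : Set G))).Coprime (H ⊓ Subgroup.centralizer (Q : Set G)).index ∧
    ∃ N : Subgroup G, N.Normal ∧ N.IsComplement' (H ⊓ Subgroup.centralizer (Q : Set G)) := by
  classical
  obtain ⟨hOn, hO⟩ := TIHall.exists_coprimeCore (G := G) H
  set O := sSup {K : Subgroup G | K.Normal ∧ (Nat.card K).Coprime (Nat.card H)} with hOdef
  have htop : O ⊔ normalizer (H : Set G) = ⊤ :=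
    TIHall.sup_normalizer_eq_top hTI hnn hHall hsep hO fun K h1 h2 => le_sSup ⟨h1, h2⟩
  -- the coprime action of `Q` on `H`
  have hmem : ∀ q ∈ Q, ∀ h ∈ H, q * h * q⁻¹ ∈ H := fun q hq h hh =>
    (mem_normalizer_iff.1 (hQ hq) h).1 hh
  let _ : MulDistribMulAction Q H :=
    { smul := fun q h => ⟨(q : G) * h * (q : G)⁻¹, hmem q q.2 h h.2⟩
      one_smul := fun h => Subtype.ext (by show ((1 : Q) : G) * h * _ = h; simp)
      mul_smul := fun q r h => Subtype.ext (by
        show ((q * r : Q) : G) * h * ((q * r : Q) : G)⁻¹ = (q : G) * ((r : G) * h * (r : G)⁻¹) * (q : G)⁻¹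
        simp [mul_assoc])
      smul_mul := fun q a b => Subtype.ext (by
        show (q : G) * (a * b : G) * (q : G)⁻¹ = (q : G) * a * (q : G)⁻¹ * ((q : G) * b * (q : G)⁻¹)
        group)
      smul_one := fun q => Subtype.ext (by show (q : G) * ((1 : H) : G) * _ = 1; simp) }
  have hcard : Nat.card (normalizer (H : Set G) : Subgroup G) = Nat.card Q * Nat.card H := by
    rw [← hQH', Coprime.card_sup_of_le_normalizer hQ hQH]
  have hcop : (Nat.card Q).Coprime (Nat.card H) := by
    have h1 := (H.subgroupOf (normalizer (H : Set G))).card_mul_index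
    rw [Coprime.card_subgroupOf le_normalizer, hcard, mul_comm (Nat.card Q)] at h1
    rw [← Nat.eq_of_mul_eq_mul_left Nat.card_pos h1]
    exact hHall.symm
  have hcyc : ∀ (p : ℕ) [Fact p.Prime] (P : Sylow p H), IsCyclic (P : Subgroup H) := by
    intro p hp P
    rcases TIHall.sylow_cyclic_or_quaternion hTI hnn hO htop P with h | ⟨rfl, -⟩
    · exact h
    · have := h2 P
      have := TIHall.isCyclic_of_comm hTI hnn hO htop
        (A := (P : Subgroup H).map H.subtype) (map_subtype_le _)
      exact ((P : Subgroup H).equivMapOfInjective _ (subtype_injective H)).isCyclic.2 this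
  obtain ⟨hHallC, -, hDn, hDC, hDsup⟩ := S4117.result hcop hcyc
  set D₀ := Subgroup.closure {y : H | ∃ (a : Q) (g : H), y = g⁻¹ * a • g} with hD₀
  set C := H ⊓ centralizer (Q : Set G) with hC
  have hfix : (MulAction.fixedPoints Q H : Set H) = (C.subgroupOf H : Set H) := by
    ext x
    simp only [MulAction.mem_fixedPoints, SetLike.mem_coe, mem_subgroupOf, hC, mem_inf,
      mem_centralizer_iff]
    constructor
    · intro h
      refine ⟨x.2, fun q hq => ?_⟩
      have := congrArg Subtype.val (h ⟨q, hq⟩)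
      change q * x * q⁻¹ = x at this
      exact mul_inv_eq_iff_eq_mul.1 this
    · intro h q
      apply Subtype.ext
      show (q : G) * x * (q : G)⁻¹ = x
      rw [h.2 q q.2, mul_inv_cancel_right]
  rw [hfix] at hHallC hDC hDsup
  rw [Subgroup.closure_eq] at hDsup
  have hCcard : Nat.card (C.subgroupOf H : Set H) = Nat.card C :=
    Coprime.card_subgroupOf inf_le_left
  rw [hCcard] at hHallC
  set D := D₀.map H.subtype with hD
  have hDH : D ≤ H := map_subtype_le _
  have hQD : Q ≤ normalizer (D : Set G) := by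
    intro q hq
    refine Coprime.mem_normalizer_of_conj_smul_eq ?_
    refine Subgroup.eq_of_le_of_card_ge ?_ (Coprime.card_conj_smul _ _).ge
    intro x hx
    rw [Coprime.mem_conj_smul_iff] at hx
    obtain ⟨d, hd, hdx⟩ := hx
    have hd' : (⟨q, hq⟩ : Q) • d ∈ D₀ := by
      refine Subgroup.closure_induction (p := fun y _ => (⟨q, hq⟩ : Q) • y ∈ D₀) ?_ ?_ ?_ ?_ hd
      · rintro _ ⟨a, g, rfl⟩
        have : (⟨q, hq⟩ : Q) • (g⁻¹ * a • g) =
            (g⁻¹ * (⟨q, hq⟩ : Q) • g)⁻¹ * (g⁻¹ * ((⟨q, hq⟩ : Q) * a) • g) := by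
          rw [smul_mul', smul_inv', mul_smul]
          group
        rw [this]
        exact mul_mem (inv_mem (Subgroup.subset_closure ⟨_, _, rfl⟩))
          (Subgroup.subset_closure ⟨_, _, rfl⟩)
      · rw [smul_one]; exact one_mem _
      · intro a b _ _ ha hb; rw [smul_mul']; exact mul_mem ha hb
      · intro a _ ha; rw [smul_inv']; exact inv_mem ha
    refine ⟨_, hd', ?_⟩
    show q * (d : G) * q⁻¹ = x
    change (d : G) = q⁻¹ * x * q at hdx
    rw [hdx]; group
  have hHD : H ≤ normalizer (D : Set G) := by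
    rw [← normal_subgroupOf_iff_le_normalizer hDH, hD, subgroupOf,
      comap_map_eq_self_of_injective (subtype_injective H)]
    exact hDn
  set N := O ⊔ (Q ⊔ D) with hN
  have hHdec : D ⊔ C = H := by
    rw [hD, ← map_subgroupOf_eq_of_le (show C ≤ H from inf_le_left), ← Subgroup.map_sup, hDsup,
      ← MonoidHom.range_eq_map, range_subtype]
  have hDC' : D ⊓ C = ⊥ := by
    rw [eq_bot_iff_forall]
    intro x hx
    obtain ⟨d, hd, rfl⟩ := (mem_inf.1 hx).1
    have : d ∈ (D₀ : Set H) ∩ (C.subgroupOf H : Set H) := ⟨hd, (mem_inf.1 hx).2⟩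
    rw [hDC, Set.mem_singleton_iff] at this
    rw [this, map_one]
  have hO' : ∀ g : G, g ∈ normalizer (O : Set G) := fun g => by rw [normalizer_eq_top]; trivial
  have hconjQ : ∀ h ∈ H, ∀ q ∈ Q, h * q * h⁻¹ ∈ Q ⊔ D := by
    intro h hh q hq
    have e : h * q * h⁻¹ = (h * (q * h⁻¹ * q⁻¹)) * q := by group
    rw [e]
    refine mul_mem (mem_sup_right ⟨⟨h, hh⟩ * ((⟨q, hq⟩ : Q) • (⟨h, hh⟩ : H)⁻¹), ?_, ?_⟩)
      (mem_sup_left hq)
    · exact Subgroup.subset_closure ⟨⟨q, hq⟩, (⟨h, hh⟩ : H)⁻¹, by rw [inv_inv]⟩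
    · show h * (q * h⁻¹ * q⁻¹) = _
      rfl
  have hNn : N.Normal := by
    rw [← normalizer_eq_top_iff, eq_top_iff, ← htop, ← hQH']
    refine sup_le (le_sup_left.trans le_normalizer)
      (sup_le ((le_sup_left.trans le_sup_right).trans le_normalizer) fun h hh => ?_)
    refine Coprime.mem_normalizer_of_conj_smul_eq ?_
    refine Subgroup.eq_of_le_of_card_ge ?_ (Coprime.card_conj_smul _ _).ge
    rw [hN, smul_sup, smul_sup, Coprime.conj_smul_eq_self_of_mem (hO' h),
      Coprime.conj_smul_eq_self_of_mem (hHD hh)]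
    refine sup_le le_sup_left (sup_le ?_ (le_sup_of_le_right le_sup_right))
    intro x hx
    rw [Coprime.mem_conj_smul_iff] at hx
    refine mem_sup_right ?_
    have := hconjQ h hh _ hx
    simpa [mul_assoc] using this
  have hcopC : (Nat.card N).Coprime (Nat.card C) := by
    have hdvd : Nat.card (Q ⊔ D : Subgroup G) = Nat.card Q * Nat.card D :=
      Coprime.card_sup_of_le_normalizer hQD
        (eq_bot_iff.2 ((inf_le_inf_left Q hDH).trans hQH.le))
    refine Nat.Coprime.coprime_dvd_left (PCore.card_sup_dvd O (Q ⊔ D)) ?_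
    rw [hdvd]
    refine Nat.Coprime.mul_left (hO.coprime_dvd_right (card_dvd_of_le inf_le_left))
      (Nat.Coprime.mul_left (hcop.coprime_dvd_right (card_dvd_of_le inf_le_left)) ?_)
    refine hHallC.symm.coprime_dvd_left (dvd_of_eq ?_)
    have := Coprime.card_sup_of_le_normalizer (H := C) (N := D) (inf_le_left.trans hHD)
      (by rw [inf_comm, hDC'])
    rw [sup_comm, hHdec] at this
    rw [this, Nat.mul_div_cancel_left _ Nat.card_pos]
  have hNC : N ⊓ C = ⊥ := Coprime.disjoint_of_coprime_card hcopC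
  have hNCtop : N ⊔ C = ⊤ := by
    refine top_unique (htop.ge.trans (sup_le (le_sup_left.trans le_sup_left) (hQH'.ge.trans
      (sup_le ((le_sup_left.trans le_sup_right).trans le_sup_left) ?_))))
    rw [← hHdec]
    exact sup_le ((le_sup_right.trans le_sup_right).trans le_sup_left) le_sup_right
  have hcompl : N.IsComplement' C := by
    refine isComplement'_of_card_mul_and_disjoint ?_ (disjoint_iff.2 hNC)
    have := Coprime.card_sup_of_le_normalizer (H := C) (N := N)
      (by rw [normalizer_eq_top]; exact le_top) (by rw [inf_comm, hNC])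
    rw [sup_comm, hNCtop, card_top] at this
    rw [this, mul_comm]
  refine ⟨?_, N, hNn, hcompl⟩
  rw [hcompl.index_eq_card]
  exact hcopC.symm

end Cfsg.Agent.S4151
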