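import Cfsg.Statements.S4152

set_option autoImplicit false
open Cfsg

namespace Cfsg.Agent.S4152

section

variable {G : Type*} [Group G]

/-- All prime divisors of the order lie in `π`. -/
def Q (π : Set ℕ) (g : G) : Prop := ∀ q : ℕ, q.Prime → q ∣ orderOf g → q ∈ π

lemma q_conj {π : Set ℕ} {g : G} (t : G) : Q π (t * g * t⁻¹) ↔ Q π g := by
  have h : orderOf (t * g * t⁻¹) = orderOf g :=
    orderOf_injective (MulAut.conj t).toMonoidHom (MulAut.conj t).injective g
  simp only [Q, h]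

/-- `π`-classes times the order of the group = commuting pairs with first a `π`-element. -/
lemma card_pairs (π : Set ℕ) :
    Nat.card {p : G × G // Q π p.1 ∧ Commute p.1 p.2} =
      Nat.card {C : ConjClasses G // ∀ q : ℕ, q.Prime →
        (∃ g : G, ConjClasses.mk g = C ∧ q ∣ orderOf g) → q ∈ π} * Nat.card G := by
  rw [← Nat.card_prod]
  choose r hr using fun C : ConjClasses G => ConjClasses.exists_rep C
  have hc : ∀ g : G, ∃ t : G, t * r (ConjClasses.mk g) * t⁻¹ = g := fun g =>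
    isConj_iff.mp (ConjClasses.mk_eq_mk_iff_isConj.mp (hr (ConjClasses.mk g)))
  choose t ht using hc
  refine Nat.card_eq_of_bijective (fun p => (⟨ConjClasses.mk p.1.1, ?_⟩, p.1.2 * t p.1.1)) ⟨?_, ?_⟩
  · rintro q hq ⟨g, hg, hd⟩
    obtain ⟨s, hs⟩ := isConj_iff.mp (ConjClasses.mk_eq_mk_iff_isConj.mp hg)
    exact (q_conj s).mp (hs ▸ p.2.1) q hq hd
  · rintro ⟨⟨g, h⟩, hQ, hgh⟩ ⟨⟨g', h'⟩, hQ', hgh'⟩ he
    simp only [Prod.mk.injEq, Subtype.mk.injEq] at he
    obtain ⟨h1, h2⟩ := he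
    have e : ∀ (g h : G), Commute g h → h * t g * r (ConjClasses.mk g) * (h * t g)⁻¹ = g := by
      intro g h hgh
      calc h * t g * r (ConjClasses.mk g) * (h * t g)⁻¹
          = h * (t g * r (ConjClasses.mk g) * (t g)⁻¹) * h⁻¹ := by group
        _ = g := by rw [ht]; exact mul_inv_eq_of_eq_mul hgh.eq.symm
    have hg : g = g' := by
      rw [← e g h hgh, ← e g' h' hgh', h1, h2]
    subst hg
    simp only [mul_left_inj] at h2
    subst h2
    rfl
  · rintro ⟨⟨C, hC⟩, u⟩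
    have hQ : Q π (r C) := fun q hq hd => hC q hq ⟨r C, hr C, hd⟩
    have hmk : ConjClasses.mk (u * r C * u⁻¹) = C := by
      refine Eq.trans ?_ (hr C)
      exact (ConjClasses.mk_eq_mk_iff_isConj.mpr (isConj_iff.mpr ⟨u, rfl⟩)).symm
    set g := u * r C * u⁻¹ with hgdef
    refine ⟨⟨(g, u * (t g)⁻¹), (q_conj u).mpr hQ, ?_⟩, ?_⟩
    · have h1 : t g * r C * (t g)⁻¹ = g := by
        have := ht g; rwa [hmk] at this
      show g * (u * (t g)⁻¹) = u * (t g)⁻¹ * g
      calc g * (u * (t g)⁻¹) = u * r C * (t g)⁻¹ := by rw [hgdef]; group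
        _ = u * (t g)⁻¹ * (t g * r C * (t g)⁻¹) := by group
        _ = _ := by rw [h1]
    · refine Prod.ext (Subtype.ext hmk) ?_
      simp

variable [Finite G]

lemma exists_parts (π : Set ℕ) (n : G) : ∃ a b : G, a ∈ Subgroup.zpowers n ∧
    b ∈ Subgroup.zpowers n ∧ a * b = n ∧ Q π a ∧
      ∀ q : ℕ, q.Prime → q ∣ orderOf b → q ∉ π := by
  classical
  set N := orderOf n
  set A := ∏ q ∈ N.primeFactors.filter (· ∈ π), q ^ N.factorization q with hA
  set B := ∏ q ∈ N.primeFactors.filter (· ∉ π), q ^ N.factorization q with hB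
  have hN : A * B = N := by
    rw [hA, hB, Finset.prod_filter_mul_prod_filter_not]
    exact Nat.prod_factorization_pow_eq_self (orderOf_pos n).ne'
  have hcop : A.gcd B = 1 := by
    refine Nat.Coprime.prod_left fun q hq => Nat.Coprime.prod_right fun q' hq' => ?_
    rw [Finset.mem_filter] at hq hq'
    refine (Nat.coprime_primes (Nat.prime_of_mem_primeFactors hq.1)
      (Nat.prime_of_mem_primeFactors hq'.1)).mpr ?_ |>.pow _ _
    rintro rfl
    exact hq'.2 hq.2
  have hbez := Nat.gcd_eq_gcd_ab A B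
  rw [hcop, Nat.cast_one] at hbez
  have hdvd : ∀ {a : G} {m : ℕ} {s : Finset ℕ}, a ^ m = 1 → m = ∏ q ∈ s, q ^ N.factorization q →
      (∀ q ∈ s, q.Prime) → ∀ q : ℕ, q.Prime → q ∣ orderOf a → q ∈ s := by
    intro a m s h hm hs q hq hd
    have := hd.trans (orderOf_dvd_of_pow_eq_one h)
    rw [hm, (hq.prime).dvd_finsetProd_iff] at this
    obtain ⟨q', hq', hd'⟩ := this
    rwa [(Nat.prime_dvd_prime_iff_eq hq (hs q' hq')).mp (hq.dvd_of_dvd_pow hd')]
  refine ⟨n ^ ((B : ℤ) * Nat.gcdB A B), n ^ ((A : ℤ) * Nat.gcdA A B),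
    Subgroup.zpow_mem_zpowers _ _, Subgroup.zpow_mem_zpowers _ _, ?_, ?_, ?_⟩
  · rw [← zpow_add, add_comm, ← hbez, zpow_one]
  · intro q hq hd
    refine (Finset.mem_filter.mp (hdvd (m := A) ?_ hA
      (fun q h => Nat.prime_of_mem_primeFactors (Finset.mem_filter.mp h).1) q hq hd)).2
    rw [← zpow_natCast, ← zpow_mul, mul_right_comm, mul_comm (B : ℤ) A, zpow_mul,
      ← Nat.cast_mul, hN, zpow_natCast, pow_orderOf_eq_one, one_zpow]
  · intro q hq hd
    refine (Finset.mem_filter.mp (hdvd (m := B) ?_ hB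
      (fun q h => Nat.prime_of_mem_primeFactors (Finset.mem_filter.mp h).1) q hq hd)).2
    rw [← zpow_natCast, ← zpow_mul, mul_right_comm, zpow_mul, ← Nat.cast_mul, hN, zpow_natCast,
      pow_orderOf_eq_one, one_zpow]

omit [Finite G] in
lemma parts_unique {π : Set ℕ} {y b y' b' : G} (hy : Q π y) (hy' : Q π y')
    (hb : ∀ q : ℕ, q.Prime → q ∣ orderOf b → q ∉ π)
    (hb' : ∀ q : ℕ, q.Prime → q ∣ orderOf b' → q ∉ π)
    (hc : Commute y b) (hc' : Commute y' b') (he : y * b = y' * b') : y = y' ∧ b = b' := by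
  have key : ∀ {y b : G}, Q π y → (∀ q : ℕ, q.Prime → q ∣ orderOf b → q ∉ π) → Commute y b →
      y ∈ Subgroup.zpowers (y * b) ∧ b ∈ Subgroup.zpowers (y * b) := by
    intro y b hy hb hc
    have hcop : (orderOf b).Coprime (orderOf y) :=
      Nat.coprime_of_dvd fun q hq h1 h2 => hb q hq h1 (hy q hq h2)
    obtain ⟨k, hk⟩ := exists_pow_eq_self_of_coprime hcop
    have h1 : (y * b) ^ orderOf b = y ^ orderOf b := by
      rw [hc.mul_pow, pow_orderOf_eq_one, mul_one]
    have hmem : y ∈ Subgroup.zpowers (y * b) := by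
      rw [← h1] at hk
      have h2 := pow_mem (pow_mem (Subgroup.mem_zpowers (y * b)) (orderOf b)) k
      rwa [hk] at h2
    refine ⟨hmem, ?_⟩
    simpa using mul_mem (inv_mem hmem) (Subgroup.mem_zpowers (y * b))
  obtain ⟨hy1, hb1⟩ := key hy hb hc
  obtain ⟨hy2, hb2⟩ := key hy' hb' hc'
  rw [← he] at hy2 hb2
  have hcomm : ∀ {u v : G}, u ∈ Subgroup.zpowers (y * b) → v ∈ Subgroup.zpowers (y * b) →
      Commute u v := by
    rintro u v ⟨i, rfl⟩ ⟨j, rfl⟩
    exact (Commute.refl (y * b)).zpow_zpow i j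
  have hz : y'⁻¹ * y = b' * b⁻¹ := by
    rw [eq_mul_inv_iff_mul_eq, mul_assoc, he, inv_mul_cancel_left]
  have h1 : y'⁻¹ * y = 1 := by
    rw [← orderOf_eq_one_iff]
    by_contra hne
    obtain ⟨q, hq, hd⟩ := Nat.exists_prime_and_dvd hne
    have hin : q ∈ π := by
      have := hd.trans ((hcomm (inv_mem hy2) hy1).orderOf_mul_dvd_mul_orderOf)
      rw [orderOf_inv] at this
      rcases hq.dvd_mul.mp this with h | h
      · exact hy' q hq h
      · exact hy q hq h
    rw [hz] at hd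
    have := hd.trans ((hcomm hb2 (inv_mem hb1)).orderOf_mul_dvd_mul_orderOf)
    rw [orderOf_inv] at this
    rcases hq.dvd_mul.mp this with h | h
    · exact hb' q hq h hin
    · exact hb q hq h hin
  have hyy : y' = y := inv_mul_eq_one.mp h1
  exact ⟨hyy.symm, mul_left_cancel (hyy ▸ he)⟩

end

/-- An element of the coset `c` commuting with `g`, if there is one. -/
noncomputable def pick {G : Type*} [Group G] (N : Subgroup G) (c : G ⧸ N) (g : G) : G :=
  Classical.epsilon fun h => (h : G ⧸ N) = c ∧ Commute g h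

lemma pick_spec {G : Type*} [Group G] (N : Subgroup G) {c : G ⧸ N} {g : G}
    (h : ∃ h : G, (h : G ⧸ N) = c ∧ Commute g h) :
    ((pick N c g : G) : G ⧸ N) = c ∧ Commute g (pick N c g) :=
  Classical.epsilon_spec h

/-- The fibre of the commuting pairs over a pair of cosets. -/
lemma fibre_le {G : Type*} [Group G] [Finite G] (N : Subgroup G) [N.Normal] (π : Set ℕ)
    (c d : G ⧸ N) :
    Nat.card {p : G × G // (Q π p.1 ∧ Commute p.1 p.2) ∧ (p.1 : G ⧸ N) = c ∧ (p.2 : G ⧸ N) = d} ≤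
      Nat.card {p : N × N // Q π p.1 ∧ Commute p.1 p.2} := by
  choose a b ha hb hab hqa hqb using exists_parts (G := G) π
  have step : ∀ {g h : G}, Q π g → Commute g h → (g : G ⧸ N) = c → (h : G ⧸ N) = d →
      ((pick N d g)⁻¹ * h ∈ N) ∧ Commute g ((pick N d g)⁻¹ * h) := by
    intro g h _ hgh _ hd
    obtain ⟨h1, h2⟩ := pick_spec N ⟨h, hd, hgh⟩
    exact ⟨QuotientGroup.eq.mp (h1.trans hd.symm), h2.inv_right.mul_right hgh⟩
  let nf : G × G → G := fun p => (pick N d p.1)⁻¹ * p.2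
  have memN : ∀ p : {p : G × G //
      (Q π p.1 ∧ Commute p.1 p.2) ∧ (p.1 : G ⧸ N) = c ∧ (p.2 : G ⧸ N) = d},
      a (nf p.1) ∈ N ∧ (pick N c (a (nf p.1)))⁻¹ * (p.1.1 * b (nf p.1)) ∈ N ∧
      Commute (a (nf p.1)) ((pick N c (a (nf p.1)))⁻¹ * (p.1.1 * b (nf p.1))) ∧
      Commute p.1.1 (b (nf p.1)) := by
    rintro ⟨⟨g, h⟩, ⟨hQ, hgh⟩, hc, hd⟩
    obtain ⟨hn, hcn⟩ := step hQ hgh hc hd
    have hga : ∀ u ∈ Subgroup.zpowers ((pick N d g)⁻¹ * h), Commute g u := by
      rintro u ⟨i, rfl⟩; exact hcn.zpow_right i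
    have haN : a (nf (g, h)) ∈ N := Subgroup.zpowers_le.mpr hn (ha _)
    have hbN : b (nf (g, h)) ∈ N := Subgroup.zpowers_le.mpr hn (hb _)
    have hab' : Commute (a (nf (g, h))) (b (nf (g, h))) := by
      obtain ⟨i, hi⟩ := ha (nf (g, h))
      obtain ⟨j, hj⟩ := hb (nf (g, h))
      rw [← hi, ← hj]
      exact (Commute.refl _).zpow_zpow i j
    have hgb : ((g * b (nf (g, h)) : G) : G ⧸ N) = c := by
      rw [QuotientGroup.mk_mul, (QuotientGroup.eq_one_iff _).mpr hbN, mul_one, hc]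
    have hcy : Commute (a (nf (g, h))) (g * b (nf (g, h))) :=
      ((hga _ (ha _)).symm).mul_right hab'
    obtain ⟨h1, h2⟩ := pick_spec N ⟨_, hgb, hcy⟩
    exact ⟨haN, QuotientGroup.eq.mp (h1.trans hgb.symm), h2.inv_right.mul_right hcy, hga _ (hb _)⟩
  refine Nat.card_le_card_of_injective (fun p => ⟨(⟨_, (memN p).1⟩, ⟨_, (memN p).2.1⟩), ?_, ?_⟩) ?_
  · intro q hq hd
    simp only [Subgroup.orderOf_mk] at hd
    exact hqa _ q hq hd
  · exact Subtype.ext (memN p).2.2.1
  · intro p p' he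
    simp only [Subtype.mk.injEq, Prod.mk.injEq] at he
    obtain ⟨hA, hY⟩ := he
    rw [hA, mul_left_cancel_iff] at hY
    obtain ⟨hg, hB⟩ := parts_unique p.2.1.1 p'.2.1.1 (hqb _) (hqb _)
      (memN p).2.2.2 (memN p').2.2.2 hY
    have hn : nf p.1 = nf p'.1 := by rw [← hab (nf p.1), ← hab (nf p'.1), hA, hB]
    simp only [nf, hg, mul_left_cancel_iff] at hn
    exact Subtype.ext (Prod.ext hg hn)

end Cfsg.Agent.S4152

namespace Cfsg.Agent.S4152

/-- Let G be a finite group, N a normal subgroup and π a set of primes. Then the number of conjugacy classes of π-elements of G (elements whose order is divisible only by primes in π) is at most the number of conjugacy classes of π-elements of N (under conjugation by N) times the number of conjugacy classes of π-elements of G/N. -/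
theorem result {G : Type*} [Group G] [Finite G] (N : Subgroup G) [N.Normal] (π : Set ℕ) :
    Nat.card {C : ConjClasses G // ∀ q : ℕ, q.Prime → (∃ g : G, ConjClasses.mk g = C ∧ q ∣ orderOf g) → q ∈ π} ≤ Nat.card {C : ConjClasses N // ∀ q : ℕ, q.Prime → (∃ g : N, ConjClasses.mk g = C ∧ q ∣ orderOf g) → q ∈ π} * Nat.card {C : ConjClasses (G ⧸ N) // ∀ q : ℕ, q.Prime → (∃ g : (G ⧸ N), ConjClasses.mk g = C ∧ q ∣ orderOf g) → q ∈ π} := by
  classical
  have := Fintype.ofFinite G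
  refine Nat.le_of_mul_le_mul_right (c := Nat.card G) ?_ Nat.card_pos
  have hm := N.card_eq_card_quotient_mul_card_subgroup
  rw [← card_pairs]
  refine le_trans ?_ (le_of_eq (b := _) (a := Nat.card {p : N × N // Q π p.1 ∧ Commute p.1 p.2} *
    Nat.card {p : (G ⧸ N) × (G ⧸ N) // Q π p.1 ∧ Commute p.1 p.2}) ?_)
  swap
  · rw [card_pairs, card_pairs, hm]; ring
  let f : {p : G × G // Q π p.1 ∧ Commute p.1 p.2} →
      {p : (G ⧸ N) × (G ⧸ N) // Q π p.1 ∧ Commute p.1 p.2} := fun p =>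
    ⟨((p.1.1 : G ⧸ N), (p.1.2 : G ⧸ N)),
      fun q hq hd => p.2.1 q hq (hd.trans (orderOf_map_dvd (QuotientGroup.mk' N) _)),
      p.2.2.map (QuotientGroup.mk' N)⟩
  rw [Nat.card_eq_fintype_card (α := {p : G × G // Q π p.1 ∧ Commute p.1 p.2}),
    Nat.card_eq_fintype_card (α := {p : (G ⧸ N) × (G ⧸ N) // Q π p.1 ∧ Commute p.1 p.2})]
  rw [← Finset.card_univ, ← Finset.card_univ]
  refine Finset.card_le_mul_card_image_of_maps_to (f := f) (fun _ _ => Finset.mem_univ _) _ ?_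
  intro y _
  refine le_trans ?_ (fibre_le N π y.1.1 y.1.2)
  rw [← Fintype.card_subtype, ← Nat.card_eq_fintype_card]
  refine Nat.card_le_card_of_injective (fun p => ⟨p.1.1, p.1.2, ?_, ?_⟩) ?_
  · exact congrArg (fun z => z.1.1) p.2
  · exact congrArg (fun z => z.1.2) p.2
  · intro p p' he
    exact Subtype.ext (Subtype.ext (congrArg (fun z => z.1) he))

end Cfsg.Agent.S4152
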