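import Cfsg.Statements.S4153
-- (no helpers)

set_option autoImplicit false
open Cfsg

namespace Cfsg.Agent.S4153

/-- Let G be a finite group, p a prime, N a normal subgroup, P a Sylow p-subgroup of G and P̄ a Sylow p-subgroup of G/N. Count the elements of p-power order, the identity included. Then (number of such elements of G/N)/#P̄ ≤ (number of such elements of G)/#P, stated as a cross-multiplied inequality, with equality when N is central. -/
theorem result {G : Type*} [Group G] [Finite G] (p : ℕ) [Fact p.Prime] (N : Subgroup G) [N.Normal]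
    (P : Sylow p G) (Pbar : Sylow p (G ⧸ N)) :
    Nat.card {g : (G ⧸ N) // ∃ k : ℕ, orderOf g = p ^ k} * Nat.card (P : Subgroup G) ≤ Nat.card {g : G // ∃ k : ℕ, orderOf g = p ^ k} * Nat.card (Pbar : Subgroup (G ⧸ N)) ∧
    (N ≤ Subgroup.center G → Nat.card {g : (G ⧸ N) // ∃ k : ℕ, orderOf g = p ^ k} * Nat.card (P : Subgroup G) = Nat.card {g : G // ∃ k : ℕ, orderOf g = p ^ k} * Nat.card (Pbar : Subgroup (G ⧸ N))) := by
  classical
  have memSyl : ∀ {H : Type _} [Group H] [Finite H] (g : H),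
      (∃ k, orderOf g = p ^ k) → ∃ R : Sylow p H, g ∈ (R : Subgroup H) := by
    intro H _ _ g hg
    obtain ⟨k, hk⟩ := hg
    have hz : IsPGroup p (Subgroup.zpowers g) :=
      IsPGroup.of_card (n := k) (by rw [Nat.card_zpowers, hk])
    obtain ⟨R, hR⟩ := hz.exists_le_sylow
    exact ⟨R, hR (Subgroup.mem_zpowers g)⟩
  have ofSyl : ∀ (R : Sylow p G) (g : G), g ∈ (R : Subgroup G) → ∃ k, orderOf g = p ^ k := by
    intro R g hg
    obtain ⟨k, hk⟩ := IsPGroup.iff_orderOf.mp R.2 ⟨g, hg⟩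
    exact ⟨k, by rwa [Subgroup.orderOf_mk] at hk⟩
  have hlift : ∀ c : {g : (G ⧸ N) // ∃ k : ℕ, orderOf g = p ^ k},
      ∃ (R : Sylow p G) (x : G), x ∈ (R : Subgroup G) ∧ ((x : G) : G ⧸ N) = c.1 := by
    intro c
    obtain ⟨Rb, hRb⟩ := memSyl c.1 c.2
    obtain ⟨R, hR⟩ := Sylow.mapSurjective_surjective (QuotientGroup.mk'_surjective N) p Rb
    rw [← hR, Sylow.coe_mapSurjective] at hRb
    obtain ⟨x, hx, hxc⟩ := hRb
    exact ⟨R, x, hx, hxc⟩
  choose R x hxR hxc using hlift
  have hcard : ∀ S : Sylow p G, Nat.card (Pbar : Subgroup (G ⧸ N)) *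
      Nat.card ↥((S : Subgroup G) ⊓ N) = Nat.card (P : Subgroup G) := by
    intro S
    have h1 : Nat.card (Pbar : Subgroup (G ⧸ N)) =
        Nat.card ↥((S : Subgroup G).map (QuotientGroup.mk' N)) := by
      rw [← Sylow.coe_mapSurjective (QuotientGroup.mk'_surjective N) S, Sylow.card_eq_multiplicity,
        Sylow.card_eq_multiplicity]
    have h2 : Nat.card ↥((S : Subgroup G).map (QuotientGroup.mk' N)) = N.relIndex S := by
      rw [← Subgroup.relIndex_bot_left, ← Subgroup.relIndex_comap, MonoidHom.comap_bot,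
        QuotientGroup.ker_mk']
    rw [h1, h2, P.card_eq_multiplicity, ← S.card_eq_multiplicity, mul_comm]
    have := Subgroup.relIndex_mul_relIndex ⊥ ((S : Subgroup G) ⊓ N) (S : Subgroup G) bot_le inf_le_left
    simpa [Subgroup.inf_relIndex_left] using this
  have hpel : ∀ c, ∀ n ∈ ((R c : Subgroup G) ⊓ N), ∃ k, orderOf (x c * n) = p ^ k :=
    fun c n hn => ofSyl (R c) _ (mul_mem (hxR c) hn.1)
  let f : (Σ c, ↥((R c : Subgroup G) ⊓ N)) → {g : G // ∃ k : ℕ, orderOf g = p ^ k} :=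
    fun cn => ⟨x cn.1 * cn.2.1, hpel cn.1 cn.2.1 cn.2.2⟩
  have hf : Function.Injective f := by
    rintro ⟨c, n⟩ ⟨d, m⟩ h
    have h' : x c * (n : G) = x d * (m : G) := congrArg Subtype.val h
    have hcd : c = d := by
      apply Subtype.ext
      have := congrArg (fun y : G => (y : G ⧸ N)) h'
      simpa [QuotientGroup.mk_mul, (QuotientGroup.eq_one_iff _).mpr n.2.2,
        (QuotientGroup.eq_one_iff _).mpr m.2.2, hxc] using this
    subst hcd
    simp only [mul_right_inj] at h'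
    rw [Subtype.ext h']
  have key : (Nat.card (Σ c, ↥((R c : Subgroup G) ⊓ N))) * Nat.card (Pbar : Subgroup (G ⧸ N)) =
      Nat.card {g : (G ⧸ N) // ∃ k : ℕ, orderOf g = p ^ k} * Nat.card (P : Subgroup G) := by
    haveI := Fintype.ofFinite {g : (G ⧸ N) // ∃ k : ℕ, orderOf g = p ^ k}
    rw [Nat.card_sigma, Finset.sum_mul]
    simp_rw [mul_comm _ (Nat.card (Pbar : Subgroup (G ⧸ N))), hcard]
    simp
  refine ⟨?_, fun hN => ?_⟩
  · rw [← key]
    exact Nat.mul_le_mul_right _ (Nat.card_le_card_of_injective f hf)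
  · rw [← key]
    refine congrArg (· * _) (Nat.card_eq_of_bijective f ⟨hf, ?_⟩)
    rintro ⟨g, k, hk⟩
    have hgb : ∃ j : ℕ, orderOf (g : G ⧸ N) = p ^ j := by
      have := orderOf_map_dvd (QuotientGroup.mk' N) g
      rw [hk] at this
      obtain ⟨j, -, hj⟩ := (Nat.dvd_prime_pow (Fact.out : p.Prime)).mp this
      exact ⟨j, hj⟩
    set c : {g : (G ⧸ N) // ∃ k : ℕ, orderOf g = p ^ k} := ⟨(g : G ⧸ N), hgb⟩ with hc
    have hn : (x c)⁻¹ * g ∈ N := QuotientGroup.eq.mp (hxc c)
    have hcomm : Commute (x c)⁻¹ g := by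
      have h1 := Subgroup.mem_center_iff.mp (hN hn) (x c)
      have h2 : x c * g = g * x c := by
        calc x c * g = x c * (x c * ((x c)⁻¹ * g)) := by group
          _ = x c * (((x c)⁻¹ * g) * x c) := by rw [h1]
          _ = _ := by group
      exact Commute.inv_left h2
    obtain ⟨i, hi⟩ := ofSyl (R c) (x c)⁻¹ (inv_mem (hxR c))
    have hord : (x c)⁻¹ * g ∈ (R c : Subgroup G) := by
      have hd : orderOf ((x c)⁻¹ * g) ∣ p ^ (i + k) := by
        rw [pow_add, ← hi, ← hk]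
        exact (hcomm.orderOf_mul_dvd_lcm).trans (Nat.lcm_dvd_mul _ _)
      obtain ⟨j, -, hj⟩ := (Nat.dvd_prime_pow (Fact.out : p.Prime)).mp hd
      have hz : IsPGroup p (Subgroup.zpowers ((x c)⁻¹ * g)) :=
        IsPGroup.of_card (n := j) (by rw [Nat.card_zpowers, hj])
      haveI : (Subgroup.zpowers ((x c)⁻¹ * g)).Normal :=
        ⟨fun a ha b => by
          have : a ∈ Subgroup.center G :=
            (Subgroup.zpowers_le.mpr (hN hn)) ha
          rw [Subgroup.mem_center_iff.mp this b]; simpa using ha⟩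
      exact hz.le_sylow_of_normal (R c) (Subgroup.mem_zpowers _)
    refine ⟨⟨c, ⟨(x c)⁻¹ * g, hord, hn⟩⟩, ?_⟩
    apply Subtype.ext
    show x c * ((x c)⁻¹ * g) = g
    group

end Cfsg.Agent.S4153
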