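import Cfsg.Statements.S4154
-- (no helpers)

set_option autoImplicit false
open Cfsg

namespace Cfsg.Agent.S4154

/-- Let G be a finite group and α an automorphism of G such that every element of G is the product of an element fixed by α and an element of the form g⁻¹α(g). If N is a normal α-invariant subgroup, then the automorphism ᾱ induced on G/N has the same property, and every coset fixed by ᾱ contains an element fixed by α (so the fixed points of ᾱ are the images of the fixed points of α). -/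
theorem result {G : Type*} [Group G] [Finite G] (α : MulAut G)
    (hccp : ∀ x : G, ∃ c g : G, α c = c ∧ x = c * (g⁻¹ * α g))
    (N : Subgroup G) [N.Normal] (hN : ∀ n ∈ N, α n ∈ N) :
    (∀ x : G, ∃ c g : G, c⁻¹ * α c ∈ N ∧ x⁻¹ * (c * (g⁻¹ * α g)) ∈ N) ∧
    (∀ x : G, x⁻¹ * α x ∈ N → ∃ c : G, α c = c ∧ c⁻¹ * x ∈ N) := by
  refine ⟨fun x => ?_, ?_⟩
  · obtain ⟨c, g, hc, hx⟩ := hccp x
    refine ⟨c, g, ?_, ?_⟩
    · rw [hc]; simp
    · rw [← hx]; simp
  let C : Subgroup G := MonoidHom.eqLocus α.toMonoidHom (MonoidHom.id G)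
  let C' : Subgroup G := MonoidHom.eqLocus ((QuotientGroup.mk' N).comp α.toMonoidHom) (QuotientGroup.mk' N)
  have hC' : ∀ x, x ∈ C' ↔ x⁻¹ * α x ∈ N := by
    intro x
    show ((α x : G) : G ⧸ N) = (x : G ⧸ N) ↔ _
    rw [eq_comm, QuotientGroup.eq]
  have hle : C.map (QuotientGroup.mk' N) ≤ C'.map (QuotientGroup.mk' N) := by
    refine Subgroup.map_mono fun x hx => (hC' x).mpr ?_
    have hx' : α x = x := hx
    simp [hx']
  let f : ↥(C.map (QuotientGroup.mk' N)) × (G ⧸ C') → G ⧸ N := fun kh =>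
    Quotient.liftOn' kh.2 (fun h => (kh.1 : G ⧸ N) * ((h * α h⁻¹ : G) : G ⧸ N)) (by
      intro a b hab
      rw [QuotientGroup.leftRel_apply] at hab
      have hd : (((a⁻¹ * b : G)) : G ⧸ N) = ((α (a⁻¹ * b) : G) : G ⧸ N) := by
        rw [QuotientGroup.eq]; exact (hC' _).mp hab
      congr 1
      simp only [map_mul, map_inv, QuotientGroup.mk_mul, QuotientGroup.mk_inv] at hd ⊢
      calc (a : G ⧸ N) * ((α a : G) : G ⧸ N)⁻¹
          = (a : G ⧸ N) * (((α a : G) : G ⧸ N)⁻¹ * ((α b : G) : G ⧸ N)) * ((α b : G) : G ⧸ N)⁻¹ := by group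
        _ = (a : G ⧸ N) * ((a : G ⧸ N)⁻¹ * (b : G ⧸ N)) * ((α b : G) : G ⧸ N)⁻¹ := by rw [hd]
        _ = _ := by group)
  have hsurj : Function.Surjective f := by
    intro y
    obtain ⟨x, rfl⟩ := QuotientGroup.mk_surjective y
    obtain ⟨c, g, hc, hx⟩ := hccp x
    refine ⟨(⟨(c : G ⧸ N), c, hc, rfl⟩, ((g⁻¹ : G) : G ⧸ C')), ?_⟩
    show (c : G ⧸ N) * ((g⁻¹ * α g⁻¹⁻¹ : G) : G ⧸ N) = (x : G ⧸ N)
    rw [inv_inv, hx]
    simp
  have hcard := Nat.card_le_card_of_surjective f hsurj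
  rw [Nat.card_prod] at hcard
  have hNC' : N ≤ C' := fun n hn => (hC' n).mpr (mul_mem (inv_mem hn) (hN n hn))
  have hidx : Nat.card (C'.map (QuotientGroup.mk' N)) * Nat.card (G ⧸ C') = Nat.card (G ⧸ N) := by
    have := Subgroup.card_mul_index (C'.map (QuotientGroup.mk' N))
    rwa [Subgroup.index_map_eq _ (QuotientGroup.mk'_surjective N) (by simpa using hNC')] at this
  rw [← hidx] at hcard
  have heq := Subgroup.eq_of_le_of_card_ge hle (Nat.le_of_mul_le_mul_right hcard Nat.card_pos)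
  intro x hx
  have : (x : G ⧸ N) ∈ C.map (QuotientGroup.mk' N) := heq ▸ ⟨x, (hC' x).mpr hx, rfl⟩
  obtain ⟨c, hc, hcx⟩ := this
  exact ⟨c, hc, QuotientGroup.eq.mp hcx⟩

end Cfsg.Agent.S4154
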