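import Cfsg.Statements.S4155
import Cfsg.Agent.Lib.PGroup.UniqueOrderP
import Cfsg.Agent.Lib.Components.Fitting
import Cfsg.Agent.Lib.Frobenius.FixedPointFree
import Cfsg.Agent.Lib.Solvable.Basic

set_option autoImplicit false
open Cfsg

namespace Cfsg.Agent.S4155

variable {G : Type*} [Group G]

/-- Elements of `Z(N)` with trivial `r`-th power. -/
def centralOmega (N : Subgroup G) (r : ℕ) : Subgroup G where
  carrier := {z | z ∈ N ∧ (∀ n ∈ N, Commute z n) ∧ z ^ r = 1}
  one_mem' := ⟨one_mem _, fun n _ => Commute.one_left n, one_pow r⟩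
  mul_mem' := fun {a b} ha hb => ⟨mul_mem ha.1 hb.1, fun n hn => (ha.2.1 n hn).mul_left (hb.2.1 n hn),
    by rw [(ha.2.1 b hb.1).mul_pow, ha.2.2, hb.2.2, one_mul]⟩
  inv_mem' := fun {a} ha => ⟨inv_mem ha.1, fun n hn => (ha.2.1 n hn).inv_left,
    by rw [inv_pow, ha.2.2, inv_one]⟩

theorem centralOmega_normal {N : Subgroup G} [hN : N.Normal] (r : ℕ) :
    (centralOmega N r).Normal := by
  refine ⟨fun z hz g => ⟨hN.conj_mem z hz.1 g, fun n hn => ?_, by rw [conj_pow, hz.2.2]; group⟩⟩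
  have h := hz.2.1 (g⁻¹ * n * g) (by simpa using hN.conj_mem n hn g⁻¹)
  have h2 := h.map (MulAut.conj g).toMonoidHom
  simpa [mul_assoc] using h2

theorem exists_mem_centralOmega [Finite G] {N : Subgroup G} (hnil : Group.IsNilpotent N) {r : ℕ}
    [hr : Fact r.Prime] (hd : r ∣ Nat.card N) : ∃ v ∈ centralOmega N r, orderOf v = r := by
  let P : Sylow r N := default
  have hP : (P : Subgroup N) ≠ ⊥ := P.ne_bot_of_dvd_card hd
  have h := Solvable.inf_center_ne_bot hP
  have hpg : IsPGroup r ↥((P : Subgroup N) ⊓ Subgroup.center N) := P.isPGroup'.to_le inf_le_left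
  obtain ⟨k, hk⟩ := hpg.exists_card_eq
  have hk0 : k ≠ 0 := fun hk0 => h (Subgroup.card_eq_one.mp (by rw [hk, hk0, pow_zero]))
  obtain ⟨y, hy⟩ := exists_prime_orderOf_dvd_card' (G := ↥((P : Subgroup N) ⊓ Subgroup.center N)) r
    (hk ▸ dvd_pow_self r hk0)
  refine ⟨((y : N) : G), ⟨(y : N).2, fun n hn => ?_, ?_⟩, ?_⟩
  · exact (congrArg Subtype.val (Subgroup.mem_center_iff.1 y.2.2 ⟨n, hn⟩)).symm
  · have h1 := pow_orderOf_eq_one y
    rw [hy] at h1
    exact congrArg (fun t : ↥((P : Subgroup N) ⊓ Subgroup.center N) => ((t : N) : G)) h1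
  · rw [Subgroup.orderOf_coe, Subgroup.orderOf_coe, hy]

theorem exists_prime_dvd_ne [Finite G] {N : Subgroup G} (hN1 : N ≠ ⊥)
    (hnpp : ¬ IsPrimePow (Nat.card N)) (q : ℕ) (hq : q.Prime) :
    ∃ r : ℕ, r.Prime ∧ r ∣ Nat.card N ∧ r ≠ q := by
  by_contra h
  push_neg at h
  have h1 := Nat.eq_prime_pow_of_unique_prime_dvd (p := q) Nat.card_pos.ne' (fun {d} hd hdd => h d hd hdd)
  refine hnpp (h1 ▸ hq.isPrimePow.pow ?_)
  intro h0
  rw [h0, pow_zero] at h1
  exact hN1 (Subgroup.card_eq_one.mp h1)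

/-- A `q`-element outside `N` fixes no element of order `r ≠ q` of `N`. -/
theorem eq_one_of_commute [Finite G] {N : Subgroup G}
    (heq : ∀ x : G, x ∉ N → ∀ n ∈ N, orderOf (x * n) = orderOf x)
    {q r : ℕ} (hq : q.Prime) (hr : r.Prime) (hqr : r ≠ q) {x v : G} (hx : x ∉ N)
    {k : ℕ} (hxk : orderOf x = q ^ k) (hv : v ∈ N) (hvr : v ^ r = 1) (hc : Commute x v) :
    v = 1 := by
  have hd : orderOf v ∣ r := orderOf_dvd_of_pow_eq_one hvr
  have hco : (orderOf x).Coprime (orderOf v) := by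
    refine Nat.Coprime.coprime_dvd_right hd ?_
    rw [hxk]
    exact Nat.Coprime.pow_left k ((Nat.coprime_primes hq hr).2 (Ne.symm hqr))
  have h := heq x hx v hv
  rw [hc.orderOf_mul_eq_mul_orderOf_of_coprime hco] at h
  have h2 : orderOf v = 1 := by
    have hpos : 0 < orderOf x := orderOf_pos x
    exact Nat.eq_of_mul_eq_mul_left hpos (h.trans (mul_one _).symm)
  exact orderOf_eq_one_iff.1 h2


/-- Let G be a finite group and N a proper non-trivial normal nilpotent subgroup whose order is not a prime power, such that for every x outside N all elements of the coset xN have the same order as x. Then N is the Fitting subgroup of G, and for every prime q every Sylow q-subgroup of G/N is cyclic or generalized quaternion. -/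
theorem result {G : Type*} [Group G] [Finite G] (N : Subgroup G) [N.Normal] (hN1 : N ≠ ⊥) (hN2 : N ≠ ⊤)
    (heq : ∀ x : G, x ∉ N → ∀ n ∈ N, orderOf (x * n) = orderOf x)
    (hnil : Group.IsNilpotent N) (hnpp : ¬ IsPrimePow (Nat.card N)) :
    N = Cfsg.fittingSubgroup G ∧
    ∀ (q : ℕ) [Fact q.Prime] (Q : Sylow q (G ⧸ N)), IsCyclic (Q : Subgroup (G ⧸ N)) ∨ ∃ n : ℕ, Nonempty ((Q : Subgroup (G ⧸ N)) ≃* QuaternionGroup (2 ^ n)) := by
  have hfit : N = Cfsg.fittingSubgroup G := by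
    refine le_antisymm (le_sSup ⟨inferInstance, hnil⟩) ?_
    rw [Components.fittingSubgroup_eq_iSup_pCore]
    refine iSup_le fun p => ?_
    by_contra hnle
    obtain ⟨x, hx, hxN⟩ := Set.not_subset.1 hnle
    have hp : (p : ℕ).Prime := Nat.prime_of_mem_primeFactors p.2
    have := Fact.mk hp
    obtain ⟨r, hr, hrd, hrp⟩ := exists_prime_dvd_ne hN1 hnpp p hp
    have := Fact.mk hr
    obtain ⟨v, hv, hvo⟩ := exists_mem_centralOmega hnil hrd
    obtain ⟨k, hk⟩ := IsPGroup.iff_orderOf.mp (Components.isPGroup_pCore' (G := G) (p : ℕ)) ⟨x, hx⟩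
    rw [Subgroup.orderOf_mk] at hk
    have hc : Commute x v := by
      have hn1 : (pCore (p : ℕ) G).Normal := Components.pCore_normal' (p : ℕ)
      have hn2 : (centralOmega N r).Normal := centralOmega_normal r
      refine Subgroup.commute_of_normal_of_disjoint (pCore (p : ℕ) G) (centralOmega N r) hn1 hn2 ?_
        x v hx hv
      refine IsPGroup.disjoint_of_ne (p : ℕ) r (Ne.symm hrp) _ _ (Components.isPGroup_pCore' _) ?_
      exact fun z => ⟨1, Subtype.ext (by rw [pow_one]; exact z.2.2.2)⟩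
    exact hr.ne_one (by
      rw [← hvo, eq_one_of_commute heq hp hr hrp hxN hk hv.1 hv.2.2 hc, orderOf_one])
  refine ⟨hfit, fun q hq Q => ?_⟩
  obtain ⟨r, hr, hrd, hrp⟩ := exists_prime_dvd_ne hN1 hnpp q hq.out
  have := Fact.mk hr
  obtain ⟨v, hv, hvo⟩ := exists_mem_centralOmega hnil hrd
  set V := centralOmega N r
  have hVn : V.Normal := centralOmega_normal r
  have hVc : IsMulCommutative V := ⟨⟨fun a b => Subtype.ext (a.2.2.1 b b.2.1).eq⟩⟩
  have : Nontrivial V := ⟨⟨v, hv⟩, 1, fun h => hr.ne_one (by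
    rw [← hvo, show v = 1 from congrArg Subtype.val h, orderOf_one])⟩
  let ψ : G →* MulAut V := MulAut.conjNormal
  have hker : N ≤ ψ.ker := fun n hn => MulEquiv.ext fun w => Subtype.ext (by
    show n * (w : G) * n⁻¹ = w
    rw [(w.2.2.1 n hn).symm.eq, mul_inv_cancel_right])
  let φ : (Q : Subgroup (G ⧸ N)) →* MulAut V := (QuotientGroup.lift N ψ hker).comp (Q : Subgroup (G ⧸ N)).subtype
  let _ : CommGroup V := { (inferInstance : Group V) with mul_comm := hVc.is_comm.comm }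
  have hfpf : Frobenius.Fpf.IsFpf φ := by
    intro a ha w hw
    obtain ⟨x, hx⟩ := QuotientGroup.mk_surjective (a : G ⧸ N)
    obtain ⟨j, hj⟩ := IsPGroup.iff_orderOf.mp Q.isPGroup' a
    have hj0 : j ≠ 0 := fun h0 => ha (orderOf_eq_one_iff.1 (by rw [hj, h0, pow_zero]))
    obtain ⟨i, m, hm, hxo⟩ := Nat.exists_eq_pow_mul_and_not_dvd (orderOf_pos x).ne' q hq.out.ne_one
    have hm0 : m ≠ 0 := fun h0 => hm (h0 ▸ dvd_zero q)
    have hxm : x ^ m ∉ N := fun hmem => by
      rw [← QuotientGroup.eq_one_iff, QuotientGroup.mk_pow, hx, ← Subgroup.coe_pow,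
        OneMemClass.coe_eq_one, ← orderOf_dvd_iff_pow_eq_one, hj] at hmem
      exact hm ((dvd_pow_self q hj0).trans hmem)
    have hxmo : orderOf (x ^ m) = q ^ i := by
      rw [orderOf_pow_of_dvd hm0 (hxo ▸ dvd_mul_left m _), hxo, Nat.mul_div_cancel _ (Nat.pos_of_ne_zero hm0)]
    have hc : Commute x (w : G) := by
      have h1 : φ a w = ψ x w := by
        show QuotientGroup.lift N ψ hker (a : G ⧸ N) w = _
        rw [← hx]; rfl
      rw [h1] at hw
      have h2 : x * (w : G) * x⁻¹ = w := congrArg Subtype.val hw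
      exact mul_inv_eq_iff_eq_mul.1 h2
    exact Subtype.ext (eq_one_of_commute heq hq.out hr hrp hxm hxmo w.2.1 w.2.2.2 (hc.pow_left m))
  have huniq : ∀ H K : Subgroup (Q : Subgroup (G ⧸ N)), Nat.card H = q → Nat.card K = q → H = K :=
    fun H K hH hK => Frobenius.Fpf.eq_of_card_eq_prime hfpf Q.isPGroup' hH hK
  rcases PGroup.cyclic_or_quaternion_of_unique Q.isPGroup' huniq with h | ⟨-, n, -, -, hn⟩
  · exact Or.inl h
  · exact Or.inr ⟨n, hn⟩

end Cfsg.Agent.S4155
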