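import Cfsg.Statements.S4156
-- (no helpers)

set_option autoImplicit false
open Cfsg

namespace Cfsg.Agent.S4156

/-- Let n ≥ 5 and F a finite field. Then the projective special linear group PSL_n(F) contains a subgroup isomorphic to the alternating group of degree n + 1. -/
theorem result (n : ℕ) (hn : 5 ≤ n) (F : Type*) [Field F] [Finite F] :
    ∃ f : alternatingGroup (Fin (n + 1)) →* Matrix.ProjectiveSpecialLinearGroup (Fin n) F, Function.Injective f := by
  classical
  haveI : IsSimpleGroup (alternatingGroup (Fin (n + 1))) := alternatingGroup.isSimpleGroup (by simp; omega)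
  set A := alternatingGroup (Fin (n + 1))
  -- a homomorphism with commutative image is trivial
  have hcomm : ∀ {M : Type _} [Group M] (φ : A →* M), (∀ x y, φ x * φ y = φ y * φ x) → ∀ x, φ x = 1 := by
    intro M _ φ hφ x
    rcases IsSimpleGroup.eq_bot_or_eq_top_of_normal φ.ker inferInstance with h | h
    · exfalso
      rw [MonoidHom.ker_eq_bot_iff] at h
      have hA : ∀ x y : A, x * y = y * x := fun x y => h (by rw [map_mul, map_mul, hφ])
      have hc := alternatingGroup.center_eq_bot (α := Fin (n + 1)) (by simp; omega)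
      have htop : Subgroup.center A = ⊤ := eq_top_iff.mpr fun x _ => Subgroup.mem_center_iff.mpr fun y => hA y x
      exact bot_ne_top (hc.symm.trans htop)
    · exact MonoidHom.mem_ker.mp (h ▸ Subgroup.mem_top x)
  -- the deleted permutation module
  let ev : (Fin (n + 1) → F) →ₗ[F] F :=
    { toFun := fun v => ∑ i, v i
      map_add' := fun u v => by simp [Finset.sum_add_distrib]
      map_smul' := fun c v => by simp [Finset.mul_sum] }
  have hsurj : Function.Surjective ev := fun c => ⟨Pi.single 0 c, by
    show ∑ i, (Pi.single 0 c : Fin (n + 1) → F) i = c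
    simp⟩
  have hdim : Module.finrank F (LinearMap.ker ev) = n := by
    have h1 := ev.finrank_range_add_finrank_ker
    rw [LinearMap.range_eq_top.mpr hsurj, finrank_top, Module.finrank_self, Module.finrank_fin_fun] at h1
    omega
  let act : A →* Module.End F (LinearMap.ker ev) :=
    { toFun := fun σ =>
        { toFun := fun v => ⟨fun i => (v : Fin (n + 1) → F) ((σ : Equiv.Perm (Fin (n + 1)))⁻¹ i), by
            rw [LinearMap.mem_ker]
            show ∑ i, (v : Fin (n + 1) → F) ((σ : Equiv.Perm (Fin (n + 1)))⁻¹ i) = 0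
            rw [Equiv.sum_comp ((σ : Equiv.Perm (Fin (n + 1)))⁻¹) (fun i => (v : Fin (n + 1) → F) i)]
            exact LinearMap.mem_ker.mp v.2⟩
          map_add' := fun u v => rfl
          map_smul' := fun c v => rfl }
      map_one' := rfl
      map_mul' := fun σ τ => rfl }
  let b := (Module.finBasis F (LinearMap.ker ev)).reindex (finCongr hdim)
  let M : A →* Matrix (Fin n) (Fin n) F :=
    ((LinearMap.toMatrixAlgEquiv b).toMonoidHom).comp act
  have hdet : ∀ x, (M x).det = 1 := by
    intro x
    let d : A →* Fˣ := (Units.map (Matrix.detMonoidHom (n := Fin n) (R := F))).comp M.toHomUnits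
    have hd := hcomm d (fun x y => mul_comm _ _) x
    exact congrArg Units.val hd
  let f : A →* Matrix.SpecialLinearGroup (Fin n) F :=
    { toFun := fun x => ⟨M x, hdet x⟩
      map_one' := Subtype.ext (map_one M)
      map_mul' := fun x y => Subtype.ext (map_mul M x y) }
  -- the action is faithful: a 3-cycle moves `e 0 - e 1`
  have hfaith : ∃ x, f x ≠ 1 := by
    set i0 : Fin (n + 1) := ⟨0, by omega⟩
    set i1 : Fin (n + 1) := ⟨1, by omega⟩
    set i2 : Fin (n + 1) := ⟨2, by omega⟩
    have h01 : i0 ≠ i1 := by simp [i0, i1]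
    have h02 : i0 ≠ i2 := by simp [i0, i2]
    have h12 : i1 ≠ i2 := by simp [i1, i2]
    refine ⟨⟨Equiv.swap i0 i1 * Equiv.swap i0 i2,
      (Equiv.Perm.isThreeCycle_swap_mul_swap_same h01 h02 h12).mem_alternatingGroup⟩, fun hc => ?_⟩
    set σ : A := ⟨Equiv.swap i0 i1 * Equiv.swap i0 i2,
      (Equiv.Perm.isThreeCycle_swap_mul_swap_same h01 h02 h12).mem_alternatingGroup⟩
    have h1 : act σ = 1 := by
      apply (LinearMap.toMatrixAlgEquiv b).injective
      rw [map_one]
      exact congrArg Subtype.val hc
    let v : LinearMap.ker ev := ⟨Pi.single i0 1 - Pi.single i1 1, by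
      rw [LinearMap.mem_ker]
      show ∑ i, ((Pi.single i0 1 - Pi.single i1 1 : Fin (n + 1) → F) i) = 0
      simp [Finset.sum_sub_distrib]⟩
    have hσ : (σ : Equiv.Perm (Fin (n + 1))) i0 = i2 := by
      show Equiv.swap i0 i1 (Equiv.swap i0 i2 i0) = i2
      rw [Equiv.swap_apply_left, Equiv.swap_apply_of_ne_of_ne h02.symm h12.symm]
    have hσ' : (σ : Equiv.Perm (Fin (n + 1)))⁻¹ i2 = i0 := by
      rw [Equiv.Perm.inv_eq_iff_eq, hσ]
    have h2 := congrArg (fun (e : Module.End F (LinearMap.ker ev)) => (e v : Fin (n + 1) → F) i2) h1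
    simp only [Module.End.one_apply] at h2
    have h3 : (v : Fin (n + 1) → F) ((σ : Equiv.Perm (Fin (n + 1)))⁻¹ i2) = (v : Fin (n + 1) → F) i2 := h2
    rw [hσ'] at h3
    simp [v, h01, h02.symm, h12.symm] at h3
  let g : A →* Matrix.ProjectiveSpecialLinearGroup (Fin n) F :=
    (QuotientGroup.mk' (Subgroup.center (Matrix.SpecialLinearGroup (Fin n) F))).comp f
  refine ⟨g, ?_⟩
  rcases IsSimpleGroup.eq_bot_or_eq_top_of_normal g.ker inferInstance with h | h
  · exact (MonoidHom.ker_eq_bot_iff g).mp h
  · exfalso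
    obtain ⟨x, hx⟩ := hfaith
    refine hx (hcomm f (fun a b => ?_) x)
    have ha : f a ∈ Subgroup.center (Matrix.SpecialLinearGroup (Fin n) F) := by
      have := MonoidHom.mem_ker.mp (h ▸ Subgroup.mem_top a : a ∈ g.ker)
      exact (QuotientGroup.eq_one_iff _).mp this
    exact (Subgroup.mem_center_iff.mp ha (f b)).symm

end Cfsg.Agent.S4156
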