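import Cfsg.Statements.S4157
import Cfsg.Agent.Lib.PGroup.Kulakoff
-- import your own Cfsg.Agent.* helpers here

set_option autoImplicit false
open Cfsg

namespace Cfsg.Agent.S4157

/-- Let G be a finite p-group of order p^m that is not cyclic and, when p = 2, not of maximal class (nilpotency class m − 1). Then for every 1 ≤ k < m the number of subgroups of G of order p^k is congruent to 1 + p modulo p². -/
theorem result {G : Type*} [Group G] [Finite G] {p : ℕ} [Fact p.Prime] (m : ℕ)
    (hG : Nat.card G = p ^ m) (hnc : ¬ IsCyclic G) (h2 : p = 2 → Group.nilpotencyClass G ≠ m - 1)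
    (k : ℕ) (hk1 : 1 ≤ k) (hk2 : k < m) :
    Nat.card {H : Subgroup G // Nat.card H = p ^ k} ≡ 1 + p [MOD p ^ 2] := by
  classical
  have hsq : (p : ZMod (p ^ 2)) ^ 2 = 0 := by rw [← Nat.cast_pow, ZMod.natCast_self]
  rw [← ZMod.natCast_eq_natCast_iff]
  show (Cfsg.Agent.PGroup.numSub p k G : ZMod (p ^ 2)) = _
  rw [Cfsg.Agent.PGroup.numSub_zmod m G hG k hk1 hk2, if_neg]
  · push_cast; ring
  · rintro (hc | ⟨hp2, hidx, hle⟩)
    · exact hnc hc
    · subst hp2
      rw [hG] at hle
      have hm := (Nat.pow_le_pow_iff_right (by norm_num : 1 < 2)).mp hle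
      exact h2 rfl (Cfsg.Agent.PGroup.class_of_commutator_index_four (by omega) hG hidx)

end Cfsg.Agent.S4157
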