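import Cfsg.Statements.S4160
import Cfsg.Agent.Lib.Transfer.CentralizerCount

set_option autoImplicit false
open Cfsg

namespace Cfsg.Agent.S4160

/-- Let G be a finite group and p ≠ q primes each dividing the size of some conjugacy class of G, such that no conjugacy class size is divisible by pq. Then G has a normal p-complement or a normal q-complement. -/
theorem result {G : Type*} [Group G] [Finite G] (p q : ℕ) (hp : p.Prime) (hq : q.Prime) (hpq : p ≠ q)
    (hp' : ∃ x : G, p ∣ (Subgroup.centralizer ({x} : Set G)).index) (hq' : ∃ x : G, q ∣ (Subgroup.centralizer ({x} : Set G)).index) (h : ∀ x : G, ¬ p * q ∣ (Subgroup.centralizer ({x} : Set G)).index) :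
    Cfsg.HasNormalPComplement p G ∨ Cfsg.HasNormalPComplement q G := by
  haveI : Fact p.Prime := ⟨hp⟩
  haveI : Fact q.Prime := ⟨hq⟩
  by_contra hcon
  push_neg at hcon
  have h1 := Transfer.two_mul_card_le (G := G) hcon.1
  have h2 := Transfer.two_mul_card_le (G := G) hcon.2
  have hu : Transfer.classSizeCoprimeSet p G ∪ Transfer.classSizeCoprimeSet q G = Set.univ := by
    refine Set.eq_univ_of_forall fun x => ?_
    by_contra hx
    simp only [Transfer.classSizeCoprimeSet, Set.mem_union, Set.mem_ofPred_eq, not_or, not_not] at hx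
    exact h x (Nat.Coprime.mul_dvd_of_dvd_of_dvd ((Nat.coprime_primes hp hq).mpr hpq) hx.1 hx.2)
  have h3 := Set.ncard_union_add_ncard_inter (Transfer.classSizeCoprimeSet p G) (Transfer.classSizeCoprimeSet q G)
  have h4 : 0 < (Transfer.classSizeCoprimeSet p G ∩ Transfer.classSizeCoprimeSet q G).ncard :=
    (Set.ncard_pos (Set.toFinite _)).mpr
      ⟨1, Transfer.one_mem_classSizeCoprimeSet, Transfer.one_mem_classSizeCoprimeSet⟩
  rw [hu, Set.ncard_univ] at h3
  rw [Nat.card_coe_set_eq] at h1 h2
  omega

end Cfsg.Agent.S4160
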