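import Cfsg.Statements.S4163
import Cfsg.Agent.Lib.ClassCount.ConjIndex
import Cfsg.Agent.Lib.SylowCount.Basic

set_option autoImplicit false
open Cfsg

namespace Cfsg.Agent.S4163

open scoped commutatorElement in
/-- Isaacs: the subgroup generated by the elements with the smallest classes has its triple
commutators in the centre. -/
theorem commutator_commutator_mem_center {G : Type*} [Group G] [Finite G]
    (A : Subgroup G) [A.Normal] (hA : IsMulCommutative A)
    (hCA : Subgroup.centralizer (A : Set G) = A) (m : ℕ)
    (hmin : ∀ x : G, 1 < (Subgroup.centralizer ({x} : Set G)).index →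
      m ≤ (Subgroup.centralizer ({x} : Set G)).index) :
    ∀ x ∈ Subgroup.closure {x : G | (Subgroup.centralizer ({x} : Set G)).index = 1 ∨ (Subgroup.centralizer ({x} : Set G)).index = m},
    ∀ y ∈ Subgroup.closure {x : G | (Subgroup.centralizer ({x} : Set G)).index = 1 ∨ (Subgroup.centralizer ({x} : Set G)).index = m},
    ∀ z ∈ Subgroup.closure {x : G | (Subgroup.centralizer ({x} : Set G)).index = 1 ∨ (Subgroup.centralizer ({x} : Set G)).index = m},
      ⁅⁅x, y⁆, z⁆ ∈ Subgroup.center G := by
  set S := {x : G | (Subgroup.centralizer ({x} : Set G)).index = 1 ∨ (Subgroup.centralizer ({x} : Set G)).index = m}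
  set M := Subgroup.closure S
  set Z := Subgroup.center G
  have hAc : ∀ a ∈ A, ∀ b ∈ A, a * b = b * a := fun a ha b hb =>
    congrArg Subtype.val (hA.is_comm.comm (⟨a, ha⟩ : A) ⟨b, hb⟩)
  have step : ∀ x ∈ S, ∀ a ∈ A, ⁅a, x⁆ ∈ Z := by
    intro x hx a ha
    rcases hx with hx | hx
    · have hxc : x ∈ Subgroup.center G := by
        rw [Subgroup.index_eq_one] at hx
        rw [Subgroup.mem_center_iff]
        intro g
        exact Subgroup.mem_centralizer_singleton_iff.mp (hx ▸ Subgroup.mem_top g)
      rw [commutatorElement_eq_one_iff_mul_comm.mpr (Subgroup.mem_center_iff.mp hxc a)]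
      exact one_mem _
    by_contra hu
    set u := ⁅a, x⁆ with hu'
    have huA : u ∈ A := by
      rw [hu', commutatorElement_def, mul_assoc, mul_assoc, ← mul_assoc x a⁻¹ x⁻¹]
      exact mul_mem ha (‹A.Normal›.conj_mem _ (inv_mem ha) x)
    have hu1 : 1 < (Subgroup.centralizer ({u} : Set G)).index := by
      have h0 : (Subgroup.centralizer ({u} : Set G)).index ≠ 0 := Subgroup.index_ne_zero_of_finite
      have h1 : (Subgroup.centralizer ({u} : Set G)).index ≠ 1 := by
        intro h1
        apply hu
        rw [Subgroup.index_eq_one] at h1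
        rw [Subgroup.mem_center_iff]
        intro g
        exact Subgroup.mem_centralizer_singleton_iff.mp (h1 ▸ Subgroup.mem_top g)
      omega
    have hmu := hmin u hu1
    set C := Subgroup.centralizer ({x} : Set G) with hC
    set H := C ⊔ A with hH
    set I := (fun h : G => h * x * h⁻¹ * x⁻¹) '' (A : Set G) with hI
    have hIcard : C.relIndex H = I.ncard := by
      rw [hH, SylowCount.relIndex_self_sup, hC, ClassCount.relIndex_centralizer_singleton, hI,
        ← Set.ncard_image_of_injective _ (mul_left_injective x⁻¹), Set.image_image]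
    have hsub : (fun h : G => h * u * h⁻¹) '' (H : Set G) ⊆ I \ {1} := by
      rintro _ ⟨h, hh, rfl⟩
      refine ⟨?_, ?_⟩
      · obtain ⟨c, hc, b, hb, rfl⟩ := Subgroup.mem_sup_of_normal_right.mp hh
        refine ⟨c * a * c⁻¹, ‹A.Normal›.conj_mem a ha c, ?_⟩
        have hbu : b * u * b⁻¹ = u := by rw [hAc b hb u huA]; group
        have hcx : c⁻¹ * x * c = x := by
          rw [mul_assoc, ← Subgroup.mem_centralizer_singleton_iff.mp hc]
          group
        have hcx' : c * x⁻¹ * c⁻¹ = x⁻¹ := by
          calc c * x⁻¹ * c⁻¹ = c * (c⁻¹ * x * c)⁻¹ * c⁻¹ := by rw [hcx]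
            _ = _ := by group
        symm
        calc c * b * u * (c * b)⁻¹ = c * (b * u * b⁻¹) * c⁻¹ := by group
          _ = c * u * c⁻¹ := by rw [hbu]
          _ = c * a * x * a⁻¹ * x⁻¹ * c⁻¹ := by rw [hu', commutatorElement_def]; group
          _ = c * a * (c⁻¹ * x * c) * a⁻¹ * (c⁻¹ * (c * x⁻¹ * c⁻¹)) := by rw [hcx]; group
          _ = _ := by rw [hcx']; group
      · intro h1
        have h2 : u = h⁻¹ * (h * u * h⁻¹) * h := by group
        dsimp only at h1
        rw [Set.mem_singleton_iff] at h1
        rw [h1] at h2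
        apply hu
        rw [h2]
        simp
    have h1 : (Subgroup.centralizer ({u} : Set G)).index ≤
        (Subgroup.centralizer ({u} : Set G)).relIndex H * H.index := by
      rw [← Subgroup.inf_relIndex_right, Subgroup.relIndex_mul_index inf_le_right]
      exact Nat.le_of_dvd (Nat.pos_of_ne_zero Subgroup.index_ne_zero_of_finite)
        (Subgroup.index_dvd_of_le inf_le_left)
    have h2 : (Subgroup.centralizer ({u} : Set G)).relIndex H < I.ncard := by
      rw [ClassCount.relIndex_centralizer_singleton]
      refine lt_of_le_of_lt (Set.ncard_le_ncard hsub (Set.toFinite _)) ?_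
      refine Set.ncard_diff_singleton_lt_of_mem ?_ (Set.toFinite _)
      exact ⟨1, one_mem A, by simp⟩
    have h3 : C.relIndex H * H.index = m := by
      rw [Subgroup.relIndex_mul_index le_sup_left, hC, hx]
    have h4 : 0 < H.index := Nat.pos_of_ne_zero Subgroup.index_ne_zero_of_finite
    nlinarith
  have hMA : ⁅A, M⁆ ≤ Z := by
    rw [Subgroup.commutator_le]
    intro a ha
    have : M ≤ (Subgroup.centralizer ({(a : G ⧸ Z)} : Set (G ⧸ Z))).comap (QuotientGroup.mk' Z) := by
      rw [Subgroup.closure_le]
      intro x hx
      rw [SetLike.mem_coe, Subgroup.mem_comap, Subgroup.mem_centralizer_singleton_iff]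
      have h := (QuotientGroup.eq_one_iff _).mpr (step x hx a ha)
      rw [commutatorElement_def] at h
      simp only [QuotientGroup.mk_mul, QuotientGroup.mk_inv] at h
      rw [← commutatorElement_def, commutatorElement_eq_one_iff_mul_comm] at h
      exact h.symm
    intro x hx
    have h := this hx
    rw [Subgroup.mem_comap, Subgroup.mem_centralizer_singleton_iff] at h
    rw [← QuotientGroup.eq_one_iff, commutatorElement_def]
    simp only [QuotientGroup.mk_mul, QuotientGroup.mk_inv]
    rw [← commutatorElement_def, commutatorElement_eq_one_iff_mul_comm]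
    exact h.symm
  have hZ0 : ∀ H : Subgroup G, H ≤ Z → ∀ K : Subgroup G, ⁅H, K⁆ = ⊥ := by
    intro H hH K
    rw [eq_bot_iff, Subgroup.commutator_le]
    intro h hh k _
    rw [Subgroup.mem_bot, commutatorElement_eq_one_iff_mul_comm]
    exact (Subgroup.mem_center_iff.mp (hH hh) k).symm
  have h3 : ⁅⁅M, M⁆, A⁆ = ⊥ :=
    Subgroup.commutator_commutator_eq_bot_of_rotate
      (hZ0 _ ((Subgroup.commutator_comm M A).trans_le hMA) M) (hZ0 _ hMA M)
  intro x hx y hy z hz
  have hxy : ⁅x, y⁆ ∈ A := by
    rw [← hCA]
    rw [Subgroup.mem_centralizer_iff]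
    intro a ha
    have := Subgroup.commutator_mem_commutator (Subgroup.commutator_mem_commutator hx hy) ha
    rw [h3, Subgroup.mem_bot, commutatorElement_eq_one_iff_mul_comm] at this
    exact this.symm
  exact hMA (Subgroup.commutator_mem_commutator hxy hz)


/-- Let G be a finite group with a normal abelian subgroup A satisfying C_G(A) = A. Suppose some conjugacy class of G has size greater than 1, let m be the smallest such size, and let M be the subgroup generated by the elements whose class has size 1 or m. Then M is nilpotent of class at most 3. -/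
theorem result {G : Type*} [Group G] [Finite G]
    (A : Subgroup G) [A.Normal] (hA : IsMulCommutative A) (hCA : Subgroup.centralizer (A : Set G) = A)
    (m : ℕ) (hm1 : 1 < m) (hm : ∃ x : G, (Subgroup.centralizer ({x} : Set G)).index = m) (hmin : ∀ x : G, 1 < (Subgroup.centralizer ({x} : Set G)).index → m ≤ (Subgroup.centralizer ({x} : Set G)).index) :
    Subgroup.upperCentralSeries ↥(Subgroup.closure {x : G | (Subgroup.centralizer ({x} : Set G)).index = 1 ∨ (Subgroup.centralizer ({x} : Set G)).index = m}) 3 = ⊤ := by
  have key := commutator_commutator_mem_center A hA hCA m hmin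
  set M := Subgroup.closure {x : G | (Subgroup.centralizer ({x} : Set G)).index = 1 ∨ (Subgroup.centralizer ({x} : Set G)).index = m}
  refine eq_top_iff.mpr fun x _ => ?_
  rw [Subgroup.mem_upperCentralSeries_succ_iff]
  intro y
  rw [Subgroup.mem_upperCentralSeries_succ_iff]
  intro z
  rw [Subgroup.upperCentralSeries_one, Subgroup.mem_center_iff]
  intro w
  apply Subtype.ext
  exact Subgroup.mem_center_iff.mp (key x x.2 y y.2 z z.2) w

end Cfsg.Agent.S4163
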