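import Cfsg.Statements.S4168
-- (no helpers)

set_option autoImplicit false
open Cfsg

namespace Cfsg.Agent.S4168

/-- Let L be a finite quasisimple group (perfect with L/Z(L) simple). Then every prime dividing the order of the centre Z(L) also divides the order of L/Z(L). -/
theorem result {L : Type*} [Group L] [Finite L] (hL : Cfsg.IsQuasisimple L)
    (p : ℕ) (hp : p.Prime) (hdiv : p ∣ Nat.card (Subgroup.center L)) : p ∣ (Subgroup.center L).index := by
  haveI : Fact p.Prime := ⟨hp⟩
  by_contra hndvd
  obtain ⟨R⟩ := (Sylow.nonempty : Nonempty (Sylow p (Subgroup.center L)))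
  have hR : IsPGroup p ((R : Subgroup (Subgroup.center L)).map (Subgroup.center L).subtype) := R.2.map _
  have hi : ¬ p ∣ ((R : Subgroup (Subgroup.center L)).map (Subgroup.center L).subtype).index := by
    rw [Subgroup.index_map_subtype]
    exact Nat.Prime.not_dvd_mul hp R.not_dvd_index hndvd
  set P : Sylow p L := hR.toSylow hi with hPdef
  have hPZ : (P : Subgroup L) ≤ Subgroup.center L := by
    rw [hPdef, IsPGroup.toSylow_coe]; exact Subgroup.map_subtype_le _
  have hc : Subgroup.normalizer (P : Set L) ≤ Subgroup.centralizer (P : Set L) := by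
    intro g _
    rw [Subgroup.mem_centralizer_iff]
    intro y hy
    exact (Subgroup.mem_center_iff.mp (hPZ hy) g).symm
  have hker := MonoidHom.ker_transferSylow_isComplement' P hc
  have hcomm : ∀ a b : (P : Subgroup L), a * b = b * a := fun a b =>
    Subtype.ext (Subgroup.mem_center_iff.mp (hPZ b.2) a)
  have hperf : commutator L = ⊤ := hL.1.commutator_eq_top
  have hle : commutator L ≤ (MonoidHom.transferSylow P hc).ker := by
    rw [commutator_def, Subgroup.commutator_le]
    intro a _ b _
    rw [MonoidHom.mem_ker, map_commutatorElement, commutatorElement_eq_one_iff_mul_comm]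
    exact hcomm _ _
  rw [hperf, top_le_iff] at hle
  rw [hle, Subgroup.isComplement'_top_left] at hker
  have hbot : (P : Subgroup L) = ⊥ := hker
  have hdvd : p ∣ Nat.card L := hdiv.trans (Subgroup.card_subgroup_dvd_card _)
  have := P.ne_bot_of_dvd_card hdvd
  exact this hbot

end Cfsg.Agent.S4168
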