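import Cfsg.Statements.S4169
import Cfsg.Agent.S4163
import Cfsg.Agent.Lib.PGroup.SCN

set_option autoImplicit false
open Cfsg

namespace Cfsg.Agent.S4169

/-- Let P be a finite p-group whose conjugacy classes have exactly two sizes (1 and one other value). Then P has nilpotency class at most 3. -/
theorem result {P : Type*} [Group P] [Finite P] {p : ℕ} [Fact p.Prime] (hP : IsPGroup p P)
    (m : ℕ) (hm : 1 < m) (h : ∀ x : P, (Subgroup.centralizer ({x} : Set P)).index = 1 ∨ (Subgroup.centralizer ({x} : Set P)).index = m) :
    upperCentralSeries P 3 = ⊤ := by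
  obtain ⟨A, hAn, hAc, hAmax⟩ := PGroup.exists_maximal_abelian_normal (G := P)
  haveI := hAn
  have hCA := PGroup.centralizer_eq_of_maximal_abelian_normal hP hAc hAmax
  have key := S4163.commutator_commutator_mem_center A hAc hCA m fun x hx => by
    rcases h x with h1 | h1 <;> omega
  have hM : Subgroup.closure {x : P | (Subgroup.centralizer ({x} : Set P)).index = 1 ∨ (Subgroup.centralizer ({x} : Set P)).index = m} = ⊤ :=
    top_unique fun x _ => Subgroup.subset_closure (h x)
  rw [hM] at key
  show Subgroup.upperCentralSeries P 3 = ⊤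
  refine eq_top_iff.mpr fun x _ => ?_
  rw [Subgroup.mem_upperCentralSeries_succ_iff]
  intro y
  rw [Subgroup.mem_upperCentralSeries_succ_iff]
  intro z
  rw [Subgroup.upperCentralSeries_one]
  exact key x trivial y trivial z trivial

end Cfsg.Agent.S4169
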