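import Cfsg.Statements.S4172
import Cfsg.Agent.Lib.Components.Inf
import Cfsg.Agent.Lib.Transfer.Tate
import Cfsg.Agent.Lib.Coprime.TIHall
import Cfsg.Agent.Lib.Coprime.Gaschutz
import Cfsg.Agent.Lib.Solvable.Basic
import Cfsg.Agent.Lib.PGroup.Frattini
import Cfsg.Agent.Lib.Components.PComponentQuot
-- import your own Cfsg.Agent.* helpers here

set_option autoImplicit false
open Cfsg

namespace Cfsg.Agent.S4172

open Cfsg.Agent.Components Subgroup
open scoped commutatorElement

variable {G : Type*} [Group G] [Finite G] {p : ℕ} [Fact p.Prime]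

/-- A subgroup normalised by the two-generated `P` and not inside `Φ(P)` has cyclic quotient. -/
theorem exists_gen (P : Sylow p G) (hgen : (frattini ↥(P : Subgroup G)).index = p ^ 2)
    {X : Subgroup G} (hn : (P : Subgroup G) ≤ normalizer (X : Set G))
    (hX : ¬ X ⊓ (P : Subgroup G) ≤ (frattini ↥(P : Subgroup G)).map (P : Subgroup G).subtype) :
    ∃ c ∈ (P : Subgroup G), (P : Subgroup G) ≤ (X ⊓ (P : Subgroup G)) ⊔ zpowers c ∧
      ⁅(P : Subgroup G), (P : Subgroup G)⁆ ≤ X := by
  have hp : p.Prime := Fact.out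
  set P' := (P : Subgroup G)
  set Φ := frattini ↥P' with hΦ
  set X' := X.subgroupOf P' with hX'
  have : X'.Normal := normal_subgroupOf_of_le_normalizer hn
  have hXn : ¬ X' ≤ Φ := fun h => hX fun x hx => ⟨⟨x, hx.2⟩, h (mem_subgroupOf.mpr hx.1), rfl⟩
  have hlt : Φ < X' ⊔ Φ := right_lt_sup.mpr hXn
  have hdvd : (X' ⊔ Φ).index ∣ p := by
    have h1 := relIndex_mul_index hlt.le
    rw [hgen] at h1
    obtain ⟨i, hi, he⟩ := (Nat.dvd_prime_pow hp).mp (Dvd.intro_left _ h1 : (X' ⊔ Φ).index ∣ p ^ 2)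
    rcases Nat.lt_or_ge i 2 with hi2 | hi2
    · rw [he]
      exact (pow_dvd_pow p (show i ≤ 1 by omega)).trans (by rw [pow_one])
    · exfalso
      rw [he, show i = 2 by omega, Nat.mul_eq_right (pow_ne_zero _ hp.ne_zero)] at h1
      exact hlt.not_ge (relIndex_eq_one.mp h1)
  obtain ⟨c, hc⟩ : ∃ c : P', X' ⊔ zpowers c = ⊤ := by
    rcases (Nat.dvd_prime hp).mp hdvd with h | h
    · exact ⟨1, by rw [zpowers_one_eq_bot, sup_bot_eq]; exact frattini_nongenerating (index_eq_one.mp h)⟩
    · obtain ⟨c, -, hc⟩ := SetLike.exists_of_lt (lt_top_iff_ne_top.mpr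
        (fun e => hp.ne_one (h.symm.trans (index_eq_one.mpr e))) : X' ⊔ Φ < ⊤)
      refine ⟨c, frattini_nongenerating (by_contra fun hne => hc ?_)⟩
      have hle : X' ⊔ Φ ≤ X' ⊔ zpowers c ⊔ Φ :=
        sup_le (le_sup_left.trans le_sup_left) le_sup_right
      have h1 := relIndex_mul_index hle
      rw [h] at h1
      rcases (Nat.dvd_prime hp).mp (Dvd.intro_left _ h1) with h2 | h2
      · exact absurd (index_eq_one.mp h2) hne
      · rw [h2, Nat.mul_eq_right hp.ne_zero] at h1
        exact relIndex_eq_one.mp h1 (mem_sup_left (mem_sup_right (mem_zpowers c)))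
  refine ⟨c, c.2, ?_, ?_⟩
  · intro x hx
    have h1 : (⟨x, hx⟩ : P') ∈ X' ⊔ zpowers c := hc ▸ mem_top _
    have h2 := mem_map_of_mem P'.subtype h1
    rw [Subgroup.map_sup, MonoidHom.map_zpowers, subgroupOf_map_subtype] at h2
    exact h2
  · have hg : ∀ y : P' ⧸ X', y ∈ zpowers (QuotientGroup.mk' X' c) := by
      intro y
      have h1 : (X' ⊔ zpowers c).map (QuotientGroup.mk' X') = ⊤ := by
        rw [hc, map_top_of_surjective _ (QuotientGroup.mk'_surjective X')]
      rw [Subgroup.map_sup, QuotientGroup.map_mk'_self, bot_sup_eq, MonoidHom.map_zpowers] at h1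
      rw [h1]; exact mem_top y
    refine commutator_le.mpr fun a ha b hb => ?_
    have h1 : ⁅(⟨a, ha⟩ : P'), ⟨b, hb⟩⁆ ∈ X' := by
      rw [← QuotientGroup.eq_one_iff, ← QuotientGroup.mk'_apply, map_commutatorElement,
        commutatorElement_eq_one_iff_mul_comm]
      obtain ⟨i, hi⟩ := mem_zpowers_iff.mp (hg (QuotientGroup.mk' X' ⟨a, ha⟩))
      obtain ⟨j, hj⟩ := mem_zpowers_iff.mp (hg (QuotientGroup.mk' X' ⟨b, hb⟩))
      rw [← hi, ← hj]
      exact (Commute.refl _).zpow_zpow i j
    simpa [hX', mem_subgroupOf, commutatorElement_def] using h1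

/-- A subnormal group with a normal `p`-complement is a `p`-group when `O_{p'} = 1`. -/
theorem isPGroup_of_complement (hcore : Cfsg.pPrimeCore p G = ⊥) {K : Subgroup G}
    (hK : K.IsSubnormal) (h : Cfsg.HasNormalPComplement p K) : IsPGroup p K := by
  obtain ⟨Q, D, hDn, hD⟩ := h
  have hcop : (Nat.card D).Coprime p := by
    have h1 : ¬ p ∣ (Q : Subgroup K).index := Q.not_dvd_index
    rw [Subgroup.IsComplement'.index_eq_card hD] at h1
    exact ((Fact.out : p.Prime).coprime_iff_not_dvd.mpr h1).symm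
  have hDb : D.map K.subtype = ⊥ := le_bot_iff.mp (hcore ▸ le_pPrimeCore_of_isSubnormal
    (isSubnormal_map_subtype hK hDn.isSubnormal)
    (by rwa [card_map_of_injective K.subtype_injective]))
  rw [map_eq_bot_iff_of_injective _ K.subtype_injective] at hDb
  subst hDb
  rw [Subgroup.isComplement'_bot_left] at hD
  have := Q.isPGroup'
  rw [hD] at this
  exact this.of_equiv topEquiv

/-- `Φ` of a subgroup of `P` is inside `Φ(P)`. -/
theorem map_frattini_le_sylow (P : Sylow p G) {S : Subgroup G} (hS : S ≤ P) :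
    (frattini ↥S).map S.subtype ≤
      (frattini ↥(P : Subgroup G)).map (P : Subgroup G).subtype := by
  let e := (subgroupOfEquivOfLe hS).symm
  have h1 : (frattini ↥S).map e.toMonoidHom ≤ frattini ↥(S.subgroupOf P) :=
    map_le_iff_le_comap.mpr (frattini_le_comap_frattini_of_surjective e.surjective)
  refine le_trans ?_ (map_mono
    ((map_mono h1).trans (Cfsg.Agent.PGroup.map_frattini_le P.isPGroup' (S.subgroupOf P))))
  rw [map_map, map_map]
  exact le_of_eq rfl

/-- Central elements of a perfect normal subgroup in `P` lie in `Φ(P)`. -/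
theorem le_frattini_of_central (P : Sylow p G) {E N : Subgroup G} [E.Normal]
    (hE : ⁅E, E⁆ = E) (hNE : N ≤ E) (hNP : N ≤ P) (hc : N ≤ centralizer (E : Set G)) :
    N ≤ (frattini ↥(P : Subgroup G)).map (P : Subgroup G).subtype := by
  set S := (P : Subgroup G) ⊓ E with hSdef
  refine le_trans ?_ (map_frattini_le_sylow P (inf_le_left : S ≤ P))
  have hSp : IsPGroup p S := P.isPGroup'.to_le inf_le_left
  set SE := S.subgroupOf E with hSE
  let e : SE ≃* S := subgroupOfEquivOfLe inf_le_right
  let θ : SE →* S ⧸ frattini ↥S := (QuotientGroup.mk' _).comp e.toMonoidHom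
  let _ : CommGroup (S ⧸ frattini ↥S) :=
    { (inferInstance : Group (S ⧸ frattini ↥S)) with
      mul_comm := by
        intro a b
        obtain ⟨a, rfl⟩ := QuotientGroup.mk'_surjective _ a
        obtain ⟨b, rfl⟩ := QuotientGroup.mk'_surjective _ b
        rw [← commutatorElement_eq_one_iff_mul_comm, ← map_commutatorElement,
          QuotientGroup.mk'_apply, QuotientGroup.eq_one_iff]
        exact Cfsg.Agent.PGroup.commutator_le_frattini hSp
          (commutator_mem_commutator (mem_top a) (mem_top b)) }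
  intro x hx
  have hxS : x ∈ S := ⟨hNP hx, hNE hx⟩
  set xE : E := ⟨x, hNE hx⟩
  have hz : xE ∈ center E :=
    mem_center_iff.mpr fun y => Subtype.ext (mem_centralizer_iff.mp (hc hx) y y.2)
  have key : ∀ (k : ℕ) (g₀ : E), g₀⁻¹ * xE ^ k * g₀ ∈ SE → g₀⁻¹ * xE ^ k * g₀ = xE ^ k := by
    intro k g₀ _
    rw [mem_center_iff.1 (pow_mem hz k) g₀⁻¹, inv_mul_cancel_right]
  have h1 := MonoidHom.transfer_eq_pow θ xE key
  have h2 : MonoidHom.transfer θ xE = 1 := by
    refine Abelianization.commutator_subset_ker _ ?_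
    rw [(isPerfect_iff.mpr hE).commutator_eq_top]
    exact mem_top _
  rw [h2] at h1
  have hidx : ¬ p ∣ SE.index := by
    intro hd
    have h3 : SE.index = (P : Subgroup G).relIndex E := by
      rw [hSE, hSdef, inf_subgroupOf_right]
      rfl
    rw [h3] at hd
    exact P.not_dvd_index (hd.trans (Cfsg.Agent.TIHall.relIndex_dvd_index _ E))
  have h4 : (⟨x, hxS⟩ : S) ^ SE.index ∈ frattini ↥S := by
    rw [← QuotientGroup.eq_one_iff]
    refine Eq.trans ?_ h1.symm
    exact congrArg (QuotientGroup.mk' (frattini ↥S)) (Subtype.ext rfl)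
  refine ⟨⟨x, hxS⟩, ?_, rfl⟩
  obtain ⟨k, hk⟩ := hSp ⟨x, hxS⟩
  obtain ⟨a, b, hab⟩ : IsCoprime ((p ^ k : ℕ) : ℤ) (SE.index : ℤ) :=
    Int.isCoprime_iff_nat_coprime.mpr
      (by simpa using ((Fact.out : p.Prime).coprime_iff_not_dvd.mpr hidx).pow_left k)
  rw [show (⟨x, hxS⟩ : S) =
      ((⟨x, hxS⟩ : S) ^ (p ^ k)) ^ a * ((⟨x, hxS⟩ : S) ^ SE.index) ^ b by
    rw [← zpow_natCast, ← zpow_natCast _ SE.index, ← zpow_mul, ← zpow_mul, ← zpow_add,
      mul_comm _ a, mul_comm _ b, hab, zpow_one], hk, one_zpow, one_mul]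
  exact Subgroup.zpow_mem _ h4 b

/-- Let p be a prime and G a finite group with a non-commutative Sylow p-subgroup P whose Frattini subgroup has index p² in P (P is generated by two elements). Suppose G has no nontrivial normal subgroup of order prime to p and the Frattini subgroup of P contains no nontrivial normal subgroup of G. Then the generalized Fitting subgroup F*(G) is the unique minimal normal subgroup of G, the image of P in G/F*(G) is cyclic, and if F*(G) is not commutative then P permutes the components of G transitively by conjugation. -/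
theorem result {G : Type*} [Group G] [Finite G] (p : ℕ) [Fact p.Prime] (P : Sylow p G) (hna : ¬ IsMulCommutative (P : Subgroup G)) (hgen : (frattini ↥(P : Subgroup G)).index = p ^ 2) (hcore : Cfsg.pPrimeCore p G = ⊥) (hfrat : ((frattini ↥(P : Subgroup G)).map (P : Subgroup G).subtype).normalCore = ⊥) [hFn : (Cfsg.generalizedFittingSubgroup G).Normal] :
    (Cfsg.generalizedFittingSubgroup G ≠ ⊥ ∧ ∀ K : Subgroup G, K.Normal → K ≠ ⊥ → Cfsg.generalizedFittingSubgroup G ≤ K) ∧
      IsCyclic ↥((P : Subgroup G).map (QuotientGroup.mk' (Cfsg.generalizedFittingSubgroup G))) ∧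
      (¬ IsMulCommutative (Cfsg.generalizedFittingSubgroup G) → ∀ K L : Subgroup G, Cfsg.IsComponent K → Cfsg.IsComponent L → ∃ x ∈ (P : Subgroup G), L = K.map (MulAut.conj x).toMonoidHom) := by
  have hp' : p.Prime := Fact.out
  set Φ := (frattini ↥(P : Subgroup G)).map (P : Subgroup G).subtype with hΦ
  have hbot : ∀ K : Subgroup G, K.Normal → K ≤ Φ → K = ⊥ := fun K hK h =>
    le_bot_iff.mp (hfrat ▸ Subgroup.normal_le_normalCore.mpr h)
  -- nontrivial normal subgroups leave `Φ(P)`
  have hout : ∀ K : Subgroup G, K.Normal → K ≠ ⊥ → ¬ K ⊓ (P : Subgroup G) ≤ Φ := by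
    intro K hK h0 hle
    have hKp : IsPGroup p K := isPGroup_of_complement hcore hK.isSubnormal
      (Cfsg.Agent.Transfer.hasNormalPComplement_normal_of_le_frattini P K hle)
    exact h0 (hbot K hK ((le_inf le_rfl (hKp.le_sylow_of_normal P)).trans hle))
  have hgenK : ∀ K : Subgroup G, K.Normal → K ≠ ⊥ → ∃ c ∈ (P : Subgroup G),
      (P : Subgroup G) ≤ (K ⊓ (P : Subgroup G)) ⊔ zpowers c ∧
      ⁅(P : Subgroup G), (P : Subgroup G)⁆ ≤ K := fun K hK h0 =>
    exists_gen P hgen (le_top.trans_eq (normalizer_eq_top K).symm) (hout K hK h0)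
  have hPab : ⁅(P : Subgroup G), (P : Subgroup G)⁆ ≠ ⊥ := fun h =>
    hna (commutator_self_eq_bot_iff.mp h)
  set F := Cfsg.generalizedFittingSubgroup G with hF
  have hnt : Nontrivial G := by
    by_contra h
    rw [not_nontrivial_iff_subsingleton] at h
    exact hna ⟨⟨fun a b => Subsingleton.elim _ _⟩⟩
  have hF0 : F ≠ ⊥ := generalizedFittingSubgroup_ne_bot
  obtain ⟨N, hNn, hNF, hN0, hmin⟩ := Cfsg.Agent.Solvable.exists_minimal_normal hF0
  have huniq : ∀ K : Subgroup G, K.Normal → K ≠ ⊥ → N ≤ K := by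
    intro K hK h0
    rcases hmin (N ⊓ K) inferInstance inf_le_left with h | h
    · exfalso
      obtain ⟨_, _, _, h1⟩ := hgenK N hNn hN0
      obtain ⟨_, _, _, h2⟩ := hgenK K hK h0
      exact hPab (le_bot_iff.mp (h ▸ le_inf h1 h2))
    · exact inf_eq_left.mp h
  -- the case of a nontrivial `O_p`
  have hU : Cfsg.pCore p G ≠ ⊥ → F ≤ N ∧ IsMulCommutative N := by
    intro hU0
    set U := Cfsg.pCore p G with hUdef
    have hUn : U.Normal := pCore_normal' p
    have hUp : IsPGroup p U := isPGroup_pCore' p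
    have hUP : U ≤ P := hUp.le_sylow_of_normal P
    have hNU : N ≤ U := huniq U hUn hU0
    have hΦU : frattini ↥U = ⊥ := (map_eq_bot_iff_of_injective _ U.subtype_injective).mp
      (hbot _ ConjAct.normal_of_characteristic_of_normal (map_frattini_le_sylow P hUP))
    obtain ⟨hUab, hUp1⟩ := (Cfsg.Agent.PGroup.frattini_eq_bot_iff hUp).mp hΦU
    have hUc : ∀ a ∈ U, ∀ b ∈ U, a * b = b * a := fun a ha b hb =>
      congrArg Subtype.val (mul_comm' (⟨a, ha⟩ : U) ⟨b, hb⟩)
    have hNab : IsMulCommutative N :=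
      ⟨⟨fun a b => Subtype.ext (hUc a (hNU a.2) b (hNU b.2))⟩⟩
    have hE : Cfsg.layer G = ⊥ := by
      by_contra h0
      refine hN0 (hbot N hNn (le_frattini_of_central P commutator_layer_self
        (huniq _ inferInstance h0) (hNU.trans hUP) ?_))
      exact ((hNU.trans (pCore_le_fittingSubgroup hp')).trans
        (le_centralizer_of_commutator_eq_bot (commutator_eq_bot_symm
          commutator_layer_fittingSubgroup)))
    have hFU : F = U := by
      rw [hF, Cfsg.generalizedFittingSubgroup, hE, bot_sup_eq, fittingSubgroup_eq_pCore hcore]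
    refine ⟨?_, hNab⟩
    rw [hFU]
    by_contra hnot
    obtain ⟨u, hu, huN⟩ := SetLike.not_le_iff_exists.mp hnot
    obtain ⟨c, hcP, hPc, -⟩ := hgenK N hNn hN0
    have hU' : ∀ v ∈ U, ∃ n ∈ N, ∃ w ∈ U ⊓ zpowers c, v = n * w := by
      intro v hv
      have h1 := hPc (hUP hv)
      have hcN : zpowers c ≤ normalizer ((N ⊓ (P : Subgroup G) : Subgroup G) : Set G) :=
        (zpowers_le.mpr hcP).trans ((le_inf (le_top.trans_eq (normalizer_eq_top N).symm)
          le_normalizer).trans inf_normalizer_le_normalizer_inf)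
      rw [← SetLike.mem_coe, coe_mul_of_right_le_normalizer_left _ _ hcN] at h1
      obtain ⟨n, hn, w, hw, rfl⟩ := h1
      exact ⟨n, hn.1, w, ⟨(U.mul_mem_cancel_left (hNU hn.1)).mp hv, hw⟩, rfl⟩
    obtain ⟨n, hn, w, hw, rfl⟩ := hU' u hu
    have hwN : w ∉ N := fun h => huN (N.mul_mem hn h)
    have hA : (U ⊓ zpowers c) ⊓ N = ⊥ := by
      have hcyc : IsCyclic ↥(U ⊓ zpowers c) :=
        isCyclic_of_surjective (subgroupOfEquivOfLe (inf_le_right : U ⊓ zpowers c ≤ _)).toMonoidHom
          (MulEquiv.surjective _)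
      have hexp : Monoid.exponent ↥(U ⊓ zpowers c) ∣ p :=
        Monoid.exponent_dvd_of_forall_pow_eq_one fun y => Subtype.ext (by
          simpa using congrArg Subtype.val (hUp1 ⟨y, y.2.1⟩))
      rw [IsCyclic.exponent_eq_card] at hexp
      by_contra hne
      have hcard : Nat.card ↥((U ⊓ zpowers c) ⊓ N) = Nat.card ↥(U ⊓ zpowers c) := by
        rcases (Nat.dvd_prime hp').mp ((card_dvd_of_le inf_le_left).trans hexp) with h | h
        · exact absurd (card_eq_one.mp h) hne
        · exact Nat.dvd_antisymm (card_dvd_of_le inf_le_left) (h ▸ hexp)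
      exact hwN ((Subgroup.eq_of_le_of_card_ge inf_le_left hcard.ge).ge hw).2
    have hsplit : zpowers c ⊓ N = ⊥ := le_bot_iff.mp
      (hA ▸ le_inf (le_inf (inf_le_right.trans hNU) inf_le_left) inf_le_right)
    have hNP : N ≤ (P : Subgroup G) := hNU.trans hUP
    have hKA : N ⊔ zpowers c = (P : Subgroup G) := le_antisymm
      (sup_le hNP (zpowers_le.mpr hcP)) (hPc.trans (sup_le_sup_right inf_le_left _))
    have hcop : (Nat.card N).Coprime (P : Subgroup G).index := by
      obtain ⟨k, hk⟩ := (hUp.to_le hNU).exists_card_eq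
      rw [hk]
      exact (hp'.coprime_iff_not_dvd.mpr P.not_dvd_index).pow_left k
    obtain ⟨H, hH⟩ := Cfsg.Agent.Coprime.exists_complement_of_gaschutz N (P : Subgroup G) hNP hcop
      (zpowers c) (zpowers_le.mpr hcP) hsplit hKA
    have hW : (H ⊓ U).Normal := by
      rw [← normalizer_eq_top_iff, eq_top_iff, ← hH.sup_eq_top]
      refine sup_le ?_ ((le_inf le_normalizer (le_top.trans_eq (normalizer_eq_top U).symm)).trans
        inf_normalizer_le_normalizer_inf)
      refine le_trans ?_ (centralizer_le_normalizer _)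
      exact fun n hn => mem_centralizer_iff.mpr fun y hy => hUc y hy.2 n (hNU hn)
    rcases eq_or_ne (H ⊓ U) ⊥ with h | h
    · have h1 : w ∈ (N ⊔ H : Subgroup G) := hH.sup_eq_top ▸ mem_top w
      rw [mem_sup_of_normal_left] at h1
      obtain ⟨n', hn', y, hy, rfl⟩ := h1
      have h2 : y ∈ H ⊓ U := ⟨hy, (U.mul_mem_cancel_left (hNU hn')).mp hw.1⟩
      rw [h, mem_bot] at h2
      exact hwN (by simpa [h2] using hn')
    · exact hN0 (le_bot_iff.mp (le_trans
        (le_inf le_rfl ((huniq _ hW h).trans inf_le_left)) hH.disjoint.le_bot))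
  -- `F*(G) = N`
  have hFN : F = N := by
    refine le_antisymm ?_ hNF
    by_cases hU0 : Cfsg.pCore p G = ⊥
    swap
    · exact (hU hU0).1
    have hFb : Cfsg.fittingSubgroup G = ⊥ := (fittingSubgroup_eq_pCore hcore).trans hU0
    rw [hF, Cfsg.generalizedFittingSubgroup, hFb, sup_bot_eq]
    refine sSup_le fun K hK => (IsComponent.le_or_commutator_eq_bot_of_normal hK N).elim id fun h => ?_
    exfalso
    have hC : N ≤ centralizer (N : Set G) := by
      refine le_centralizer_iff.mp (huniq _ inferInstance fun hb => ?_)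
      exact IsComponent.ne_bot hK (le_bot_iff.mp (hb ▸ le_centralizer_of_commutator_eq_bot h))
    refine hN0 (le_bot_iff.mp (hFb ▸ ?_))
    exact (le_inf le_rfl hC).trans (inf_centralizer_le_fittingSubgroup hNn.isSubnormal)
  refine ⟨⟨hF0, fun K hK h0 => hFN.le.trans (huniq K hK h0)⟩, ?_, ?_⟩
  · obtain ⟨c, hcP, hPc, -⟩ := hgenK F hFn hF0
    have h1 : (P : Subgroup G).map (QuotientGroup.mk' F) ≤ zpowers (QuotientGroup.mk' F c) := by
      refine (map_mono hPc).trans ?_
      rw [Subgroup.map_sup, MonoidHom.map_zpowers]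
      refine sup_le ((map_mono inf_le_left).trans ?_) le_rfl
      rw [QuotientGroup.map_mk'_self]
      exact bot_le
    exact isCyclic_of_surjective (subgroupOfEquivOfLe h1).toMonoidHom (MulEquiv.surjective _)
  · intro hnc K L hK hL
    have hFb : Cfsg.fittingSubgroup G = ⊥ := by
      by_contra h0
      rw [fittingSubgroup_eq_pCore hcore] at h0
      exact hnc (by rw [show Cfsg.generalizedFittingSubgroup G = N from hFN]; exact (hU h0).2)
    by_contra hnot
    push Not at hnot
    set S := {M : Subgroup G | IsComponent M ∧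
      ∃ x ∈ (P : Subgroup G), M = K.map (MulAut.conj x).toMonoidHom} with hS
    set X := sSup S with hXdef
    set Y := sSup {M : Subgroup G | IsComponent M ∧ M ∉ S} with hYdef
    have hKX : K ≤ X := le_sSup ⟨hK, 1, one_mem _, by
      ext a
      exact ⟨fun h => ⟨a, h, by simp⟩, by rintro ⟨b, hb, rfl⟩; simpa using hb⟩⟩
    have hLY : L ≤ Y := le_sSup ⟨hL, fun h => hnot _ h.2.choose_spec.1 h.2.choose_spec.2⟩
    have hconj : ∀ x y : G, ∀ M : Subgroup G,
        (M.map (MulAut.conj y).toMonoidHom).map (MulAut.conj x).toMonoidHom =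
          M.map (MulAut.conj (x * y)).toMonoidHom := fun x y M => by
      rw [map_map]; congr 1; ext a; simp [mul_assoc]
    have hone : ∀ M : Subgroup G, M.map (MulAut.conj (1 : G)).toMonoidHom = M := fun M => by
      ext a
      exact ⟨by rintro ⟨b, hb, rfl⟩; simpa using hb, fun h => ⟨a, h, by simp⟩⟩
    have hnormS : ∀ T : Set (Subgroup G), (∀ x ∈ (P : Subgroup G), ∀ M ∈ T,
        M.map (MulAut.conj x).toMonoidHom ∈ T) →
        (P : Subgroup G) ≤ normalizer ((sSup T : Subgroup G) : Set G) := by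
      intro T hT x hx
      have hle : ∀ y ∈ (P : Subgroup G), ∀ a ∈ sSup T, y * a * y⁻¹ ∈ sSup T := by
        intro y hy a ha
        have : sSup T ≤ (sSup T).comap (MulAut.conj y).toMonoidHom :=
          sSup_le fun M hM => map_le_iff_le_comap.mp (le_sSup (hT y hy M hM))
        exact this ha
      exact mem_normalizer_iff.mpr fun a => ⟨hle x hx a, fun h => by
        simpa [mul_assoc] using hle x⁻¹ (inv_mem hx) _ h⟩
    have hnX : (P : Subgroup G) ≤ normalizer (X : Set G) := hnormS S fun x hx M hM => by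
      obtain ⟨y, hy, rfl⟩ := hM.2
      exact ⟨IsComponent.conj hM.1 x, x * y, mul_mem hx hy, hconj x y K⟩
    have hnY : (P : Subgroup G) ≤ normalizer (Y : Set G) := hnormS _ fun x hx M hM => by
      refine ⟨IsComponent.conj hM.1 x, fun h => hM.2 ?_⟩
      obtain ⟨y, hy, he⟩ := h.2
      refine ⟨hM.1, x⁻¹ * y, mul_mem (inv_mem hx) hy, ?_⟩
      rw [← hconj x⁻¹ y K, ← he, hconj, inv_mul_cancel, hone]
    have hXY : ⁅X, Y⁆ = ⊥ := commutator_sSup_eq_bot fun M hM =>
      commutator_eq_bot_symm (commutator_sSup_eq_bot fun M' hM' =>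
        IsComponent.commutator_eq_bot hM.1 hM'.1 fun e => hM.2 (e ▸ hM'))
    have hXYb : X ⊓ Y = ⊥ := by
      have hle : X ⊔ Y = F := by
        rw [hF, Cfsg.generalizedFittingSubgroup, hFb, sup_bot_eq]
        refine le_antisymm (sup_le (sSup_le fun M hM => IsComponent.le_layer hM.1)
          (sSup_le fun M hM => IsComponent.le_layer hM.1)) (sSup_le fun M hM => ?_)
        by_cases h : M ∈ S
        · exact le_sup_of_le_left (le_sSup h)
        · exact le_sup_of_le_right (le_sSup ⟨hM, h⟩)
      refine le_bot_iff.mp (hFb ▸ le_trans (le_inf (inf_le_left.trans (le_sup_left.trans hle.le)) ?_)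
        (inf_centralizer_le_fittingSubgroup hFn.isSubnormal))
      rw [← commutator_eq_bot_iff_le_centralizer, ← hle]
      exact commutator_sup_eq_bot
        (le_bot_iff.mp ((commutator_mono inf_le_right le_rfl).trans_eq (commutator_eq_bot_symm hXY)))
        (le_bot_iff.mp ((commutator_mono inf_le_left le_rfl).trans_eq hXY))
    -- both `X` and `Y` leave `Φ(P)`
    have hoff : ∀ (T : Set (Subgroup G)) (M : Subgroup G), (∀ A ∈ T, IsComponent A) → M ∈ T →
        (P : Subgroup G) ≤ normalizer ((sSup T : Subgroup G) : Set G) →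
        ¬ sSup T ⊓ (P : Subgroup G) ≤ Φ := by
      intro T M hT hM hn hle
      set Z := sSup T
      set H := normalizer (Z : Set G)
      have hZH : Z ≤ H := le_normalizer
      have : (Z.subgroupOf H).Normal := normal_in_normalizer
      have hcompl : Cfsg.HasNormalPComplement p (Z.subgroupOf H) := by
        refine Cfsg.Agent.Transfer.hasNormalPComplement_normal_of_le_frattini (P.subtype hn) _ ?_
        rintro x ⟨hxZ, hxP⟩
        obtain ⟨y, hy, hyx⟩ := hle ⟨hxZ, hxP⟩
        let e : (P : Subgroup G) ≃* (P.subtype hn : Subgroup H) :=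
          (Subgroup.subgroupOfEquivOfLe hn).symm
        exact ⟨e y, frattini_le_comap_frattini_of_surjective (φ := e.toMonoidHom) e.surjective hy,
          Subtype.ext hyx⟩
      let ι : M →* Z.subgroupOf H := ((subgroupOfEquivOfLe hZH).symm.toMonoidHom).comp
        (Subgroup.inclusion (le_sSup hM : M ≤ Z))
      have hMc : Cfsg.HasNormalPComplement p M :=
        Cfsg.Agent.Transfer.hasNormalPComplement_of_injective ι
          (fun a b h => inclusion_injective (le_sSup hM : M ≤ Z)
            ((subgroupOfEquivOfLe hZH).symm.injective h)) hcompl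
      have := (isPGroup_of_complement hcore (hT M hM).1 hMc).isNilpotent
      exact IsComponent.not_isSolvable (hT M hM) inferInstance
    obtain ⟨_, _, _, h1⟩ := exists_gen P hgen hnX (hoff S K (fun A hA => hA.1)
      ⟨hK, 1, one_mem _, (hone K).symm⟩ hnX)
    obtain ⟨_, _, _, h2⟩ := exists_gen P hgen hnY (hoff _ L (fun A hA => hA.1)
      ⟨hL, fun h => hnot _ h.2.choose_spec.1 h.2.choose_spec.2⟩ hnY)
    exact hPab (le_bot_iff.mp (hXYb ▸ le_inf h1 h2))

end Cfsg.Agent.S4172
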