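import Cfsg.Statements.S4176
import Cfsg.Agent.Lib.OrbitSpan.Basic
import Cfsg.Agent.Lib.PCore.PSolvable
import Cfsg.Agent.Lib.SylowCount.Basic

set_option autoImplicit false
open Cfsg

namespace Cfsg.Agent.S4176

open OrbitSpan in
/-- For `p`-soluble `H`, invariants are multiples of the sum of a spanning orbit of a vector
fixed by a Sylow `p`-subgroup. -/
theorem invariants_mem_span {k V H : Type*} [Field k] (p : ℕ) [Fact p.Prime] [CharP k p]
    [AddCommGroup V] [Module k V] [Group H] [Finite H] (hsol : Cfsg.IsPSolvable p H)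
    (ρ : Representation k H V) (a : V)
    (hfix : ∃ P : Sylow p H, ∀ x : H, x ∈ (P : Subgroup H) → ρ x a = a)
    (hspan : Submodule.span k {u : V | ∃ h : H, ρ h a = u} = ⊤) (v : V) (hv : ∀ h, ρ h v = v) :
    v ∈ Submodule.span k {orbitSum ρ a} := by
  classical
  obtain ⟨P, hP⟩ := hfix
  obtain ⟨n, M, hM0, hMn, hmono, hnorm, hstep⟩ := hsol
  letI := Fintype.ofFinite (H ⧸ stab ρ a)
  set T : V →ₗ[k] V := ∑ q : H ⧸ stab ρ a, ρ q.out with hT
  have hTap : ∀ w, T w = ∑ q : H ⧸ stab ρ a, ρ q.out w := fun w => by
    simp [hT, LinearMap.coe_sum]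
  have main : ∀ i : Fin (n + 1), ∃ c : V, (∀ x ∈ stab ρ a, ρ x c = c) ∧
      (∀ d ∈ M i, ρ d c = c) ∧ v ∈ Submodule.span k (Set.range fun h => ρ h c) ∧
      T c = orbitSum ρ a := by
    intro i
    induction i using Fin.induction with
    | zero =>
      refine ⟨a, fun x hx => hx, fun d hd => ?_, ?_, ?_⟩
      · rw [hM0, Subgroup.mem_bot] at hd
        simp [hd]
      · have : (Set.range fun h => ρ h a) = {u : V | ∃ h : H, ρ h a = u} := rfl
        rw [this, hspan]; trivial
      · rw [hTap, orbitSum]
        refine Finset.sum_congr rfl fun q _ => ?_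
        rw [← cosetVec_mk, QuotientGroup.out_eq']
    | succ i ih =>
      obtain ⟨c, hA, hMc, hvc, hTc⟩ := ih
      set L := M i.castSucc
      set M' := M i.succ
      haveI := hnorm i.castSucc
      haveI := hnorm i.succ
      have hLM : L ≤ M' := hmono (Fin.castSucc_lt_succ).le
      rcases hstep i with ⟨e, he⟩ | hco
      · refine ⟨c, hA, fun d hd => ?_, hvc, hTc⟩
        have hsub : (stab ρ c).relIndex M' = 1 := by
          have h1 : (stab ρ c).relIndex M' ∣ p ^ e :=
            he ▸ Subgroup.relIndex_dvd_of_le_left _ (fun x hx => hMc x hx)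
          have h2 : (stab ρ c).relIndex M' ∣ (P : Subgroup H).index :=
            (Subgroup.relIndex_dvd_of_le_left _ (fun x hx => hA x (hP x hx))).trans
              (SylowCount.relIndex_self_sup (P : Subgroup H) M' ▸
                ⟨_, (Subgroup.relIndex_mul_index le_sup_left).symm⟩)
          have h3 : Nat.Coprime (p ^ e) (P : Subgroup H).index :=
            Nat.Coprime.pow_left e ((Nat.Prime.coprime_iff_not_dvd Fact.out).mpr P.not_dvd_index)
          exact Nat.eq_one_of_dvd_coprimes h3 h1 h2
        exact Subgroup.relIndex_eq_one.mp hsub hd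
      · have hr : (L.relIndex M' : k) ≠ 0 := by
          rw [Ne, CharP.cast_eq_zero_iff k p]
          exact (Nat.Prime.coprime_iff_not_dvd Fact.out).mp hco.symm
        letI := Fintype.ofFinite (M' ⧸ L.subgroupOf M')
        set E : V →ₗ[k] V := ∑ q : M' ⧸ L.subgroupOf M', ρ (q.out : H) with hE
        have hEap : ∀ w, E w = ∑ q : M' ⧸ L.subgroupOf M', ρ (q.out : H) w := fun w => by
          simp [hE, LinearMap.coe_sum]
        have hrep : ∀ w, (∀ d ∈ L, ρ d w = w) → ∀ x : M',
            ρ (((x : M' ⧸ L.subgroupOf M').out : M') : H) w = ρ (x : H) w := by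
          intro w hw x
          rw [apply_eq_iff, mem_stab]
          exact hw _ (Subgroup.mem_subgroupOf.mp (QuotientGroup.eq.mp (QuotientGroup.out_eq' _)))
        have hcomm : ∀ w, (∀ d ∈ L, ρ d w = w) → ∀ h : H, E (ρ h w) = ρ h (E w) := by
          intro w hw h
          have hw' : ∀ d ∈ L, ρ d (ρ h w) = ρ h w := fun d hd => by
            have h1 : h⁻¹ * d * h ∈ L := by
              simpa using ‹L.Normal›.conj_mem d hd h⁻¹
            calc ρ d (ρ h w) = ρ (h * (h⁻¹ * d * h)) w := by
                  rw [← Module.End.mul_apply, ← map_mul]; simp [mul_assoc]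
              _ = ρ h w := by rw [map_mul, Module.End.mul_apply, hw _ h1]
          rw [hEap, hEap, map_sum]
          symm
          refine Fintype.sum_equiv (Quotient.congr (MulAut.conjNormal h : MulAut M').toEquiv ?_) _ _ fun q => ?_
          · intro x y
            simp only [QuotientGroup.leftRel_apply, MulEquiv.toEquiv_eq_coe, MulEquiv.coe_toEquiv,
              Subgroup.mem_subgroupOf, Subgroup.coe_mul, Subgroup.coe_inv, MulAut.conjNormal_apply]
            have hid : (h * (x : H) * h⁻¹)⁻¹ * (h * (y : H) * h⁻¹) = h * ((x : H)⁻¹ * y) * h⁻¹ := by group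
            rw [hid]
            refine ⟨fun hxy => ‹L.Normal›.conj_mem _ hxy h, fun hxy => ?_⟩
            have := ‹L.Normal›.conj_mem _ hxy h⁻¹
            simpa [mul_assoc] using this
          · induction q using QuotientGroup.induction_on with
            | _ x =>
              rw [hrep w hw]
              show ρ h (ρ (x : H) w) =
                ρ ((((MulAut.conjNormal h x : M') : M' ⧸ L.subgroupOf M').out : M') : H) (ρ h w)
              rw [hrep _ hw', MulAut.conjNormal_apply, ← Module.End.mul_apply, ← map_mul,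
                ← Module.End.mul_apply, ← map_mul]
              simp
        have hEM : ∀ w, (∀ d ∈ L, ρ d w = w) → ∀ d ∈ M', ρ d (E w) = E w := by
          intro w hw d hd
          rw [hEap, map_sum]
          refine Fintype.sum_equiv (MulAction.toPerm (⟨d, hd⟩ : M')) _ _ fun q => ?_
          induction q using QuotientGroup.induction_on with
          | _ x =>
            show ρ d (ρ (((x : M' ⧸ L.subgroupOf M').out : M') : H) w) =
              ρ ((((⟨d, hd⟩ * x : M') : M' ⧸ L.subgroupOf M').out : M') : H) w
            rw [hrep w hw, hrep w hw, ← Module.End.mul_apply, ← map_mul]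
            rfl
        have hEfix : ∀ w, (∀ h, ρ h w = w) → E w = (L.relIndex M' : k) • w := by
          intro w hw
          simp only [hEap, hw, Finset.sum_const, Finset.card_univ, Nat.cast_smul_eq_nsmul,
            Subgroup.relIndex, Subgroup.index, Nat.card_eq_fintype_card]
        refine ⟨(L.relIndex M' : k)⁻¹ • E c, fun x hx => ?_, fun d hd => ?_, ?_, ?_⟩
        · rw [map_smul, ← hcomm c hMc x, hA x hx]
        · rw [map_smul, hEM c hMc d hd]
        · have h1 := Submodule.apply_mem_span_image_of_mem_span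
            ((L.relIndex M' : k)⁻¹ • E) hvc
          rw [LinearMap.smul_apply, hEfix v hv, inv_smul_smul₀ hr] at h1
          refine Submodule.span_mono ?_ h1
          rintro _ ⟨_, ⟨h, rfl⟩, rfl⟩
          exact ⟨h, by simp [hcomm c hMc h]⟩
        · have h1 : T (E c) = E (T c) := by
            rw [hTap, hTap, map_sum]
            exact Finset.sum_congr rfl fun q _ => (hcomm c hMc _).symm
          rw [map_smul, h1, hTc, hEfix _ (apply_orbitSum ρ a), inv_smul_smul₀ hr]
  obtain ⟨c, -, hMc, hvc, hTc⟩ := main (Fin.last n)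
  have hc : ∀ h, ρ h c = c := fun h => hMc h (hMn ▸ Subgroup.mem_top h)
  have hm : ((stab ρ a).index : k) ≠ 0 := by
    rw [Ne, CharP.cast_eq_zero_iff k p]
    exact fun hd => P.not_dvd_index (hd.trans (Subgroup.index_dvd_of_le fun x hx => hP x hx))
  have h2 : orbitSum ρ a = ((stab ρ a).index : k) • c := by
    rw [← hTc, hTap]
    simp only [hc, Finset.sum_const, Finset.card_univ, Nat.cast_smul_eq_nsmul, Subgroup.index,
      Nat.card_eq_fintype_card]
  have hc' : c ∈ Submodule.span k {orbitSum ρ a} :=
    Submodule.mem_span_singleton.mpr ⟨((stab ρ a).index : k)⁻¹, by rw [h2, inv_smul_smul₀ hm]⟩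
  refine (Submodule.span_le.mpr ?_) hvc
  rintro _ ⟨h, rfl⟩
  show ρ h c ∈ _
  rw [hc]
  exact hc'


/-- Let k be a field of prime characteristic p, H a finite p-soluble group and ρ a k-linear representation of H on V. Let a be a vector that is fixed by some Sylow p-subgroup of H and whose H-orbit spans V. Then the space of H-fixed vectors has dimension at most 1, and every vector b whose H-orbit has size coprime to the size of the orbit of a is fixed by H. -/
theorem result {k V H : Type*} [Field k] (p : ℕ) [Fact p.Prime] [CharP k p] [AddCommGroup V] [Module k V]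
    [Group H] [Finite H] (hsol : Cfsg.IsPSolvable p H) (ρ : Representation k H V) (a : V)
    (hfix : ∃ P : Sylow p H, ∀ x : H, x ∈ (P : Subgroup H) → ρ x a = a)
    (hspan : Submodule.span k {u : V | ∃ h : H, ρ h a = u} = ⊤) :
    Module.finrank k ρ.invariants ≤ 1 ∧
    ∀ b : V, (Nat.card {u : V | ∃ h : H, ρ h a = u}).Coprime (Nat.card {u : V | ∃ h : H, ρ h b = u}) → ∀ h : H, ρ h b = b := by
  refine OrbitSpan.finrank_invariants_le_one_and_fixed ρ a
    (fun v hv => invariants_mem_span p hsol ρ a hfix hspan v hv) fun b hcop v hv => ?_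
  have htr := OrbitSpan.transitive_of_coprime ρ a b hcop
  set B := OrbitSpan.stab ρ b with hB
  rw [← OrbitSpan.orbitSum_comp ρ a B htr]
  set ρ' : Representation k B V := MonoidHom.comp ρ B.subtype
  have hfix' : ∃ S : Sylow p B, ∀ x : B, x ∈ (S : Subgroup B) → ρ' x a = a := by
    obtain ⟨P, hP⟩ := hfix
    have hm : ¬ p ∣ (OrbitSpan.stab ρ' a).index := by
      rw [← OrbitSpan.card_orbit, OrbitSpan.orbit_comp ρ a B htr, OrbitSpan.card_orbit]
      exact fun hd => P.not_dvd_index (hd.trans (Subgroup.index_dvd_of_le (fun x hx => hP x hx)))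
    obtain ⟨S⟩ := (Sylow.nonempty : Nonempty (Sylow p (OrbitSpan.stab ρ' a)))
    have hi : ¬ p ∣ ((S : Subgroup (OrbitSpan.stab ρ' a)).map (OrbitSpan.stab ρ' a).subtype).index := by
      rw [Subgroup.index_map_subtype]
      exact Nat.Prime.not_dvd_mul Fact.out S.not_dvd_index hm
    refine ⟨(S.2.map _).toSylow hi, fun x hx => ?_⟩
    exact Subgroup.map_subtype_le _ hx
  refine invariants_mem_span p (PCore.isPSolvable_subgroup hsol B) ρ' a hfix' ?_ v fun β => hv β β.2
  rwa [OrbitSpan.orbit_comp ρ a B htr]

end Cfsg.Agent.S4176
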