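import Cfsg.Statements.S4177
import Cfsg.Agent.Lib.OrbitSpan.Basic

set_option autoImplicit false
open Cfsg

namespace Cfsg.Agent.S4177

open OrbitSpan in
/-- When `|H|` is invertible in `k`, invariants are multiples of the sum of a spanning orbit. -/
theorem invariants_mem_span {k V H : Type*} [Field k] [AddCommGroup V] [Module k V] [Group H]
    [Finite H] (hchar : ¬ ringChar k ∣ Nat.card H) (ρ : Representation k H V) (a : V)
    (hspan : Submodule.span k {u : V | ∃ h : H, ρ h a = u} = ⊤) (v : V) (hv : ∀ h, ρ h v = v) :
    v ∈ Submodule.span k {orbitSum ρ a} := by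
  classical
  letI := Fintype.ofFinite H
  have hne : ∀ n : ℕ, n ∣ Nat.card H → (n : k) ≠ 0 := fun n hn h0 =>
    hchar (((ringChar.spec k n).mp h0).trans hn)
  set s : V →ₗ[k] V := ∑ h : H, ρ h with hs
  have hsa : ∀ g : H, s (ρ g a) = s a := by
    intro g
    simp only [hs, LinearMap.coe_sum, Finset.sum_apply]
    refine Fintype.sum_equiv (Equiv.mulRight g) _ _ fun h => ?_
    simp [map_mul]
  have hfix : ∀ w : V, (∀ h, ρ h w = w) → s w = (Nat.card H : k) • w := by
    intro w hw
    simp only [hs, LinearMap.coe_sum, Finset.sum_apply, hw, Finset.sum_const, Finset.card_univ,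
      Nat.card_eq_fintype_card, Nat.cast_smul_eq_nsmul]
  have hmem : ∀ w : V, s w ∈ Submodule.span k {s a} := by
    intro w
    have hw : w ∈ Submodule.span k {u : V | ∃ h : H, ρ h a = u} := hspan ▸ trivial
    refine (Submodule.span_le.mpr ?_ hw : w ∈ (Submodule.span k {s a}).comap s)
    rintro _ ⟨h, rfl⟩
    rw [SetLike.mem_coe, Submodule.mem_comap, hsa]
    exact Submodule.mem_span_singleton_self _
  have hu : s (orbitSum ρ a) = ((stab ρ a).index : k) • s a := by
    letI := Fintype.ofFinite (H ⧸ stab ρ a)
    rw [orbitSum, map_sum]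
    have : ∀ q, s (cosetVec ρ a q) = s a := by
      intro q
      induction q using QuotientGroup.induction_on with
      | _ g => exact hsa g
    simp only [this, Finset.sum_const, Finset.card_univ, Nat.cast_smul_eq_nsmul]
    rw [Subgroup.index, Nat.card_eq_fintype_card]
  have hsa_mem : s a ∈ Submodule.span k {orbitSum ρ a} := by
    refine Submodule.mem_span_singleton.mpr
      ⟨((stab ρ a).index : k)⁻¹ * (Nat.card H : k), ?_⟩
    rw [mul_smul, ← hfix _ (apply_orbitSum ρ a), hu, inv_smul_smul₀]
    exact hne _ (Subgroup.index_dvd_card _)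
  have h1 : (Nat.card H : k) • v ∈ Submodule.span k {orbitSum ρ a} := by
    rw [← hfix v hv]
    exact (Submodule.span_le.mpr (Set.singleton_subset_iff.mpr hsa_mem)) (hmem v)
  exact (Submodule.smul_mem_iff _ (hne _ dvd_rfl)).mp h1


/-- Let k be a field whose characteristic does not divide the order of the finite group H (for instance a field of characteristic zero), and ρ a k-linear representation of H on V. Let a be a vector whose H-orbit spans V. Then the space of H-fixed vectors has dimension at most 1, and every vector b whose H-orbit has size coprime to the size of the orbit of a is fixed by H. -/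
theorem result {k V H : Type*} [Field k] [AddCommGroup V] [Module k V] [Group H] [Finite H]
    (hchar : ¬ ringChar k ∣ Nat.card H) (ρ : Representation k H V) (a : V)
    (hspan : Submodule.span k {u : V | ∃ h : H, ρ h a = u} = ⊤) :
    Module.finrank k ρ.invariants ≤ 1 ∧
    ∀ b : V, (Nat.card {u : V | ∃ h : H, ρ h a = u}).Coprime (Nat.card {u : V | ∃ h : H, ρ h b = u}) → ∀ h : H, ρ h b = b := by
  refine OrbitSpan.finrank_invariants_le_one_and_fixed ρ a
    (fun v hv => invariants_mem_span hchar ρ a hspan v hv) fun b hcop v hv => ?_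
  have htr := OrbitSpan.transitive_of_coprime ρ a b hcop
  set B := OrbitSpan.stab ρ b
  rw [← OrbitSpan.orbitSum_comp ρ a B htr]
  refine invariants_mem_span (fun h => hchar (h.trans (Subgroup.card_subgroup_dvd_card B)))
    (MonoidHom.comp ρ B.subtype) a ?_ v fun β => hv β β.2
  rwa [OrbitSpan.orbit_comp ρ a B htr]

end Cfsg.Agent.S4177
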