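import Cfsg.Statements.S4178
-- (no helpers)

set_option autoImplicit false
open Cfsg

namespace Cfsg.Agent.S4178

/-- Let F be a finite field with q elements, V a non-zero finite-dimensional F-space of dimension d, H a group of invertible linear maps of V, and R the subgroup of H generated by the elements of H that fix some non-zero vector (have eigenvalue 1). Then the index of R in H is at most q^d − 1; and if H leaves invariant some proper non-zero subspace, the index is at most q^(d/2) − 1. -/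
theorem result {F V : Type*} [Field F] [Fintype F] [AddCommGroup V] [Module F V] [FiniteDimensional F V] [Nontrivial V]
    (H : Subgroup (V ≃ₗ[F] V)) :
    (Subgroup.closure {h : ↥H | ∃ v : V, v ≠ 0 ∧ (h : V ≃ₗ[F] V) v = v}).index ≤ Fintype.card F ^ Module.finrank F V - 1 ∧
    ((∃ W : Submodule F V, W ≠ ⊥ ∧ W ≠ ⊤ ∧ ∀ h ∈ H, ∀ w ∈ W, h w ∈ W) →
      ((Subgroup.closure {h : ↥H | ∃ v : V, v ≠ 0 ∧ (h : V ≃ₗ[F] V) v = v}).index : ℝ) ≤ Real.sqrt ((Fintype.card F : ℝ) ^ Module.finrank F V) - 1) := by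
  classical
  haveI : Finite V := Module.finite_of_finite F
  haveI : Finite (V ≃ₗ[F] V) := Finite.of_injective (fun e => (e : V → V)) DFunLike.coe_injective
  have hfinQ : ∀ W : Submodule F V, Finite (V ⧸ W) := fun W =>
    Finite.of_surjective _ (Submodule.mkQ_surjective W)
  set R := Subgroup.closure {h : ↥H | ∃ v : V, v ≠ 0 ∧ (h : V ≃ₗ[F] V) v = v}
  have happ : ∀ (g h : ↥H) (v : V), ((g * h : ↥H) : V ≃ₗ[F] V) v = (g : V ≃ₗ[F] V) ((h : V ≃ₗ[F] V) v) :=
    fun g h v => rfl
  have happi : ∀ (g : ↥H) (v : V), ((g⁻¹ : ↥H) : V ≃ₗ[F] V) ((g : V ≃ₗ[F] V) v) = v := by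
    intro g v
    rw [← happ, inv_mul_cancel]
    rfl
  have hsemi : ∀ (g h : ↥H) (v : V), v ≠ 0 → (g : V ≃ₗ[F] V) v = (h : V ≃ₗ[F] V) v → g⁻¹ * h ∈ R := by
    intro g h v hv e
    refine Subgroup.subset_closure ⟨v, hv, ?_⟩
    rw [happ, ← e, happi]
  have hV : Nat.card V = Fintype.card F ^ Module.finrank F V := by
    rw [Module.natCard_eq_pow_finrank (K := F), Nat.card_eq_fintype_card]
  -- an orbit map on the cosets of `R`
  have hbound : ∀ (X : Type _) [Finite X] (f : ↥H → X) (x0 : X), (∀ h, f h ≠ x0) →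
      (∀ g h, f g = f h → g⁻¹ * h ∈ R) → R.index + 1 ≤ Nat.card X := by
    intro X _ f x0 hne hinj
    haveI := Fintype.ofFinite X
    have hlt : Nat.card (↥H ⧸ R) < Nat.card X := by
      haveI := Fintype.ofFinite (↥H ⧸ R)
      rw [Nat.card_eq_fintype_card, Nat.card_eq_fintype_card]
      refine Fintype.card_lt_of_injective_of_notMem (fun q => f q.out) (b := x0) ?_ ?_
      · intro q r e
        rw [← q.out_eq', ← r.out_eq']
        exact QuotientGroup.eq.mpr (hinj _ _ e)
      · rintro ⟨q, hq⟩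
        exact hne _ hq
    exact hlt
  obtain ⟨v0, hv0⟩ := exists_ne (0 : V)
  refine ⟨?_, ?_⟩
  · have := hbound V (fun h => (h : V ≃ₗ[F] V) v0) 0
      (fun h => by simpa using hv0) (fun g h e => hsemi g h v0 hv0 e)
    omega
  rintro ⟨W, hW0, hW1, hWinv⟩
  by_cases htriv : R.index ≤ 1
  · have h2 : (2 : ℝ) ^ 2 ≤ (2 : ℝ) ^ 2 := le_rfl
    have hV4 : 4 ≤ Nat.card V := by
      haveI : Nontrivial W := Submodule.nontrivial_iff_ne_bot.mpr hW0
      haveI := hfinQ W
      haveI : Nontrivial (V ⧸ W) := Submodule.Quotient.nontrivial_iff.mpr hW1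
      have hWq := W.card_eq_card_quotient_mul_card
      have h1 : 2 ≤ Nat.card W := Finite.one_lt_card
      have h2 : 2 ≤ Nat.card (V ⧸ W) := Finite.one_lt_card
      nlinarith
    have : (2 : ℝ) ≤ Real.sqrt ((Fintype.card F : ℝ) ^ Module.finrank F V) := by
      apply Real.le_sqrt_of_sq_le
      rw [← Nat.cast_pow, ← hV]
      exact_mod_cast hV4
    have : (R.index : ℝ) ≤ 1 := by exact_mod_cast htriv
    linarith
  obtain ⟨w0, hw0W, hw0⟩ := Submodule.exists_mem_ne_zero_of_ne_bot hW0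
  have hW' : R.index + 1 ≤ Nat.card W :=
    hbound W (fun h => ⟨(h : V ≃ₗ[F] V) w0, hWinv _ h.2 _ hw0W⟩) 0
      (fun h e => by
        have := congrArg Subtype.val e
        simp [hw0] at this)
      (fun g h e => hsemi g h w0 hw0 (congrArg Subtype.val e))
  obtain ⟨v1, hv1⟩ : ∃ v1, v1 ∉ W := by
    by_contra hall
    push Not at hall
    exact hW1 (eq_top_iff.mpr fun v _ => hall v)
  haveI := hfinQ W
  have hQ' : R.index + 1 ≤ Nat.card (V ⧸ W) := by
    refine hbound (V ⧸ W) (fun h => Submodule.Quotient.mk ((h : V ≃ₗ[F] V) v1)) 0 ?_ ?_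
    · intro h e
      rw [Submodule.Quotient.mk_eq_zero] at e
      have := hWinv _ (h⁻¹).2 _ e
      rw [happi] at this
      exact hv1 this
    · intro g h e
      rw [Submodule.Quotient.eq] at e
      set u := g⁻¹ * h
      have he : (u : V ≃ₗ[F] V) v1 - v1 ∈ W := by
        have := hWinv _ (g⁻¹).2 _ e
        rw [map_sub, happi, ← happ] at this
        have h2 := W.neg_mem this
        rwa [neg_sub] at h2
      by_cases hfix : ∃ w ∈ W, w ≠ 0 ∧ (u : V ≃ₗ[F] V) w = w
      · obtain ⟨w, -, hw, e'⟩ := hfix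
        exact Subgroup.subset_closure ⟨w, hw, e'⟩
      push Not at hfix
      let d : W → W := fun w => ⟨(u : V ≃ₗ[F] V) w - w, W.sub_mem (hWinv _ u.2 _ w.2) w.2⟩
      have hd : Function.Injective d := by
        intro a b hab
        have h' := congrArg Subtype.val hab
        simp only [d] at h'
        by_contra hne
        refine hfix ((a : V) - b) (W.sub_mem a.2 b.2) (sub_ne_zero.mpr fun hh => hne (Subtype.ext hh)) ?_
        rw [map_sub]
        exact sub_eq_sub_iff_sub_eq_sub.mp h'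
      obtain ⟨w, hw⟩ := (Finite.injective_iff_surjective.mp hd) ⟨_, he⟩
      have h' : (u : V ≃ₗ[F] V) w - w = (u : V ≃ₗ[F] V) v1 - v1 := congrArg Subtype.val hw
      refine Subgroup.subset_closure ⟨v1 - w, sub_ne_zero.mpr fun hh => hv1 (hh ▸ w.2), ?_⟩
      rw [map_sub]
      exact sub_eq_sub_iff_sub_eq_sub.mp h'.symm
  have hmul : (R.index + 1) ^ 2 ≤ Fintype.card F ^ Module.finrank F V := by
    rw [← hV, W.card_eq_card_quotient_mul_card, sq]
    have := Nat.mul_le_mul hW' hQ'
    nlinarith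
  have hreal : ((R.index : ℝ) + 1) ^ 2 ≤ (Fintype.card F : ℝ) ^ Module.finrank F V := by
    exact_mod_cast hmul
  have := Real.le_sqrt_of_sq_le hreal
  linarith

end Cfsg.Agent.S4178
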