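import Cfsg.Statements.S4181
import Cfsg.Agent.Lib.SylowFixed.Bound

set_option autoImplicit false
open Cfsg

namespace Cfsg.Agent.S4181

open MulAction Cfsg.Agent.SylowFixed

/-- Counting pairs of a Sylow subgroup and a coset it fixes. -/
theorem count {G : Type*} [Group G] [Finite G] {p : ℕ} [Fact p.Prime] (H : Subgroup G)
    (P : Sylow p G) (hP : (P : Subgroup G) ≤ H) :
    Nat.card (Sylow p G) * fxN p G (G ⧸ H) = Nat.card (G ⧸ H) * Nat.card (Sylow p ↥H) := by
  classical
  have : Fintype (Sylow p G) := Fintype.ofFinite _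
  have : Fintype (G ⧸ H) := Fintype.ofFinite _
  have hbase : ∀ C : G ⧸ H, Nat.card {Q : Sylow p G // (Q : Subgroup G) ≤ stabilizer G C} =
      Nat.card (Sylow p ↥H) := by
    intro C
    obtain ⟨g, hg⟩ := exists_smul_eq G ((1 : G) : G ⧸ H) C
    have hiff : ∀ Q : Sylow p G, (Q : Subgroup G) ≤ H ↔
        ((g • Q : Sylow p G) : Subgroup G) ≤ stabilizer G C := by
      intro Q
      rw [← hg, stabilizer_smul_eq_stabilizer_map_conj, base_stabilizer, Sylow.coe_subgroup_smul]
      exact (Subgroup.map_le_map_iff_of_injective (MulAut.conj g).injective).symm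
    rw [← Nat.card_congr (Equiv.subtypeEquiv (MulAction.toPerm g) hiff)]
    refine Nat.card_eq_of_bijective (fun Q => Q.1.subtype Q.2) ⟨?_, ?_⟩
    · rintro ⟨Q, hQ⟩ ⟨Q', hQ'⟩ h
      exact Subtype.ext (Sylow.subtype_injective h)
    · intro R
      obtain ⟨Q, hQ⟩ := exists_sylow_lift P hP R
      refine ⟨⟨Q, fun x hx => (hQ x hx).1⟩, ?_⟩
      refine Sylow.ext (Subgroup.eq_of_le_of_card_ge (fun x hx => (hQ x.1 hx).2) ?_)
      rw [Sylow.card_eq_multiplicity, Sylow.card_eq_multiplicity]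
  have e : (Σ Q : Sylow p G, {C : G ⧸ H // (Q : Subgroup G) ≤ stabilizer G C}) ≃
      Σ C : G ⧸ H, {Q : Sylow p G // (Q : Subgroup G) ≤ stabilizer G C} :=
    ⟨fun z => ⟨z.2.1, z.1, z.2.2⟩, fun z => ⟨z.2.1, z.1, z.2.2⟩, fun _ => rfl, fun _ => rfl⟩
  have h := Nat.card_congr e
  rw [Nat.card_sigma, Nat.card_sigma] at h
  have hfix : ∀ Q : Sylow p G,
      Nat.card {C : G ⧸ H // (Q : Subgroup G) ≤ stabilizer G C} = fxN p G (G ⧸ H) := by
    intro Q
    rw [fxN_eq (G ⧸ H) Q]
    exact Nat.card_congr (Equiv.subtypeEquivRight fun C =>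
      ⟨fun h y => mem_stabilizer_iff.1 (h y.2), fun h y hy => mem_stabilizer_iff.2 (h ⟨y, hy⟩)⟩)
  simp only [hfix, hbase, Finset.sum_const, Finset.card_univ, smul_eq_mul,
    ← Nat.card_eq_fintype_card] at h
  exact h

/-- Let p be a prime and G a finite group generated by its elements of p-power order, and let H be a proper subgroup of G containing a Sylow p-subgroup of G. Then 2p − 1 times the number of Sylow p-subgroups of H is at most p − 1 times the number of Sylow p-subgroups of G. -/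
theorem result {G : Type*} [Group G] [Finite G] (p : ℕ) [Fact p.Prime] (hgen : Subgroup.closure {g : G | ∃ k : ℕ, orderOf g = p ^ k} = ⊤)
    (H : Subgroup G) (hH : H ≠ ⊤) (P : Sylow p G) (hP : (P : Subgroup G) ≤ H) :
    (2 * p - 1) * Nat.card (Sylow p ↥H) ≤ (p - 1) * Nat.card (Sylow p G) := by
  have hp := (Fact.out : p.Prime).two_le
  have h1 : (2 * p - 1) * fxN p G (G ⧸ H) ≤ (p - 1) * Nat.card (G ⧸ H) := by
    have h := dfct_nonneg (p := p) hgen hH
    rw [dfct] at h
    zify [show 1 ≤ p by omega, show 1 ≤ 2 * p by omega]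
    linarith
  refine Nat.le_of_mul_le_mul_left ?_ (Nat.card_pos (α := G ⧸ H))
  calc Nat.card (G ⧸ H) * ((2 * p - 1) * Nat.card (Sylow p ↥H))
      = (2 * p - 1) * fxN p G (G ⧸ H) * Nat.card (Sylow p G) := by
        rw [mul_left_comm, ← count H P hP, mul_assoc, mul_comm (Nat.card (Sylow p G))]
    _ ≤ (p - 1) * Nat.card (G ⧸ H) * Nat.card (Sylow p G) := Nat.mul_le_mul_right _ h1
    _ = _ := by ring

end Cfsg.Agent.S4181
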