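import Cfsg.Statements.S4182
-- import your own Cfsg.Agent.* helpers here

set_option autoImplicit false
open Cfsg

namespace Cfsg.Agent.S4182

universe u v

open scoped Pointwise
open Finset

variable {G : Type u} [Group G]

/-- The elements of prime power order. -/
def pel (p : ℕ) (G : Type u) [Group G] : Set G := {g | ∃ k : ℕ, orderOf g = p ^ k}

theorem pel_conj {p : ℕ} {x : G} (hx : x ∈ pel p G) (h : G) : h * x * h⁻¹ ∈ pel p G := by
  obtain ⟨k, hk⟩ := hx
  exact ⟨k, by rw [← hk]; exact (MulEquiv.orderOf_eq (MulAut.conj h) x)⟩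

theorem mem_pel {p : ℕ} [Fact p.Prime] {S : Subgroup G} (hS : IsPGroup p S) {x : G} (hx : x ∈ S) :
    x ∈ pel p G := by
  obtain ⟨k, hk⟩ := IsPGroup.iff_orderOf.1 hS ⟨x, hx⟩
  exact ⟨k, by rw [← hk, Subgroup.orderOf_mk]⟩

/-- A finite group whose order is a power of `p` is not a union of at most `p` proper subgroups. -/
theorem exists_eq_top [Finite G] {p : ℕ} [Fact p.Prime] (hG : IsPGroup p G) {ι : Type v}
    (t : Finset ι) (ht : t.card ≤ p) (K : ι → Subgroup G) (hcov : ∀ g, ∃ i ∈ t, g ∈ K i) :
    ∃ i ∈ t, K i = ⊤ := by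
  classical
  have : Fintype G := Fintype.ofFinite G
  by_contra h
  push Not at h
  obtain ⟨i₀, hi₀, -⟩ := hcov 1
  set A : ι → Finset G := fun i => univ.filter fun g => g ∈ K i with hA
  have hcard : ∀ i ∈ t, p * (A i).card ≤ Fintype.card G := by
    intro i hi
    have h1 : (A i).card = Nat.card (K i) := by
      rw [Nat.card_eq_fintype_card, Fintype.card_subtype]
    rw [h1, ← Nat.card_eq_fintype_card, ← (K i).index_mul_card]
    refine Nat.mul_le_mul_right _ ?_
    obtain ⟨k, hk⟩ := hG.index (K i)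
    rcases k with _ | k
    · exact absurd (Subgroup.index_eq_one.1 hk) (h i hi)
    · rw [hk]
      exact Nat.le_self_pow (Nat.succ_ne_zero k) p
  have hsub : (univ : Finset G).erase 1 ⊆ t.biUnion fun i => (A i).erase 1 := by
    intro g hg
    obtain ⟨i, hi, hgi⟩ := hcov g
    exact mem_biUnion.2 ⟨i, hi, mem_erase.2 ⟨(mem_erase.1 hg).1, by simp [hA, hgi]⟩⟩
  have h1 := (card_le_card hsub).trans card_biUnion_le
  rw [card_erase_of_mem (mem_univ _), card_univ] at h1
  have h2 : ∀ i ∈ t, p * ((A i).erase 1).card ≤ Fintype.card G - p := by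
    intro i hi
    rw [card_erase_of_mem (by simp [hA, one_mem]), Nat.mul_sub, mul_one]
    have := hcard i hi
    omega
  have h3 : p * (Fintype.card G - 1) ≤ p * (Fintype.card G - p) := by
    refine (Nat.mul_le_mul_left p h1).trans ?_
    rw [mul_sum]
    refine (sum_le_sum h2).trans ?_
    rw [sum_const, smul_eq_mul]
    exact Nat.mul_le_mul_right _ ht
  have hp := (Fact.out : p.Prime).two_le
  have h4 := Nat.le_of_mul_le_mul_left h3 (by omega)
  have h5 : 2 ≤ Fintype.card G := by
    by_contra hlt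
    have : Subsingleton G := Fintype.card_le_one_iff_subsingleton.1 (by omega)
    exact h i₀ hi₀ (Subgroup.eq_top_iff' _ |>.2 fun g => Subsingleton.elim (1 : G) g ▸ one_mem _)
  omega

/-- The theorem, by induction on the order. -/
theorem main (p : ℕ) [Fact p.Prime] : ∀ (n : ℕ) (G : Type u) [Group G] [Finite G],
    Nat.card G = n → Subgroup.closure (pel p G) = ⊤ → ∀ (ι : Type v) (t : Finset ι)
    (K : ι → Subgroup G), (∀ i ∈ t, K i ≠ ⊤) → (∀ g ∈ pel p G, ∃ i ∈ t, g ∈ K i) →
    p < t.card := by
  intro n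
  induction n using Nat.strong_induction_on with
  | _ n ih => ?_
  intro G _ _ hn hgen ι t₀ K hK₀ hcov₀
  classical
  by_contra hle₀
  push Not at hle₀
  have : Fintype (Sylow p G) := Fintype.ofFinite _
  obtain ⟨t, hsub, hcov, hmin⟩ : ∃ t, t ⊆ t₀ ∧ (∀ g ∈ pel p G, ∃ i ∈ t, g ∈ K i) ∧
      ∀ s, s ⊂ t → ∃ g ∈ pel p G, ∀ i ∈ s, g ∉ K i := by
    obtain ⟨t, ht, htmin⟩ := exists_min_image
      (t₀.powerset.filter fun t => ∀ g ∈ pel p G, ∃ i ∈ t, g ∈ K i) card ⟨t₀, by simpa using hcov₀⟩
    simp only [mem_filter, mem_powerset] at ht htmin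
    refine ⟨t, ht.1, ht.2, fun s hs => ?_⟩
    by_contra hne
    push Not at hne
    exact absurd (htmin s ⟨hs.1.trans ht.1, hne⟩) (not_le.2 (card_lt_card hs))
  have hle : t.card ≤ p := (card_le_card hsub).trans hle₀
  have hK : ∀ i ∈ t, K i ≠ ⊤ := fun i hi => hK₀ i (hsub hi)
  have hin : ∀ S : Subgroup G, IsPGroup p S → ∃ i ∈ t, S ≤ K i := by
    intro S hS
    obtain ⟨i, hi, h⟩ := exists_eq_top hS t hle (fun i => (K i).subgroupOf S)
      fun g => hcov g (mem_pel hS g.2)
    exact ⟨i, hi, Subgroup.subgroupOf_eq_top.1 h⟩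
  have hF : ∀ i ∈ t, (p + 1) * (univ.filter fun S : Sylow p G => (S : Subgroup G) ≤ K i).card ≤
      Fintype.card (Sylow p G) := by
    intro i hi
    obtain ⟨x, hx, hxo⟩ := hmin _ (erase_ssubset hi)
    have hxi : x ∈ K i := by
      obtain ⟨j, hj, hxj⟩ := hcov x hx
      by_cases hji : j = i
      · exact hji ▸ hxj
      · exact absurd hxj (hxo j (mem_erase.2 ⟨hji, hj⟩))
    -- a `p`-element generating a proper subgroup with `x` lies in `K i`
    have hkey : ∀ y ∈ pel p G, Subgroup.closure {x, y} ≠ ⊤ → y ∈ K i := by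
      intro y hy hW
      set W := Subgroup.closure ({x, y} : Set G) with hWd
      have hxW : x ∈ W := Subgroup.subset_closure (by simp)
      have hyW : y ∈ W := Subgroup.subset_closure (by simp)
      by_contra hyi
      have hlt : Nat.card W < n := by
        rw [← hn]
        refine lt_of_le_of_ne (Nat.le_of_dvd Nat.card_pos W.card_subgroup_dvd_card) fun e => hW ?_
        exact Subgroup.eq_top_of_card_eq _ e
      have hgenW : Subgroup.closure (pel p W) = ⊤ := by
        rw [eq_top_iff, ← Subgroup.map_le_map_iff_of_injective W.subtype_injective,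
          ← MonoidHom.range_eq_map, Subgroup.range_subtype, MonoidHom.map_closure, hWd,
          Subgroup.closure_le]
        rintro z (rfl | rfl)
        · obtain ⟨k, hk⟩ := hx
          exact Subgroup.subset_closure ⟨⟨z, hxW⟩, ⟨k, by rw [← hk, Subgroup.orderOf_mk]⟩, rfl⟩
        · obtain ⟨k, hk⟩ := hy
          exact Subgroup.subset_closure ⟨⟨z, hyW⟩, ⟨k, by rw [← hk, Subgroup.orderOf_mk]⟩, rfl⟩
      refine absurd (ih _ hlt W rfl hgenW ι t (fun j => (K j).subgroupOf W) ?_ ?_) (not_lt.2 hle)
      · intro j hj h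
        have h' := Subgroup.subgroupOf_eq_top.1 h
        by_cases hji : j = i
        · exact hyi (hji ▸ h' hyW)
        · exact hxo j (mem_erase.2 ⟨hji, hj⟩) (h' hxW)
      · rintro g ⟨k, hk⟩
        obtain ⟨j, hj, hgj⟩ := hcov g ⟨k, by rw [← hk, Subgroup.orderOf_coe]⟩
        exact ⟨j, hj, hgj⟩
    set L := Subgroup.closure (pel p G ∩ K i) with hL
    have hLK : L ≤ K i := (Subgroup.closure_le _).2 Set.inter_subset_right
    have hLle : ∀ S : Subgroup G, IsPGroup p S → S ≤ K i → S ≤ L := fun S hS h s hs =>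
      Subgroup.subset_closure ⟨mem_pel hS hs, h hs⟩
    have hconj : ∀ h : G, h⁻¹ * x * h ∈ L → h ∈ Subgroup.normalizer (L : Set G) := by
      intro h hh
      have hle' : L.map (MulAut.conj h).toMonoidHom ≤ L := by
        conv_lhs => rw [hL, MonoidHom.map_closure]
        refine (Subgroup.closure_le _).2 ?_
        rintro _ ⟨l, ⟨hl, hlK⟩, rfl⟩
        show h * l * h⁻¹ ∈ L
        refine Subgroup.subset_closure ⟨pel_conj hl h, hkey _ (pel_conj hl h) fun htop => ?_⟩
        refine hK i hi (top_le_iff.1 (le_trans ?_ hLK))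
        have h2 : Subgroup.closure ({x, h * l * h⁻¹} : Set G) ≤
            L.map (MulAut.conj h).toMonoidHom := by
          refine (Subgroup.closure_le _).2 ?_
          rintro z (rfl | rfl)
          · exact ⟨h⁻¹ * z * h, hh, by simp [mul_assoc]⟩
          · exact ⟨l, Subgroup.subset_closure ⟨hl, hlK⟩, by simp⟩
        rw [htop] at h2
        intro g _
        obtain ⟨l', hl', e⟩ := h2 (Subgroup.mem_top (h * g * h⁻¹))
        have : l' = g := (MulAut.conj h).injective e
        exact this ▸ hl'
      have heq : L.map (MulAut.conj h).toMonoidHom = L := Subgroup.eq_of_le_of_card_ge hle'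
        (Subgroup.card_map_of_injective (MulAut.conj h).injective).ge
      rw [Subgroup.mem_normalizer_iff]
      intro l
      constructor
      · exact fun hl => hle' ⟨l, hl, rfl⟩
      · intro hl
        rw [← heq] at hl
        obtain ⟨l', hl', e⟩ := hl
        exact (MulAut.conj h).injective e ▸ hl'
    set N := Subgroup.normalizer (L : Set G) with hN
    obtain ⟨S₀, hS₀⟩ := (show IsPGroup p (Subgroup.zpowers x) by
      obtain ⟨k, hk⟩ := hx
      exact IsPGroup.of_card (n := k) (by rw [Nat.card_zpowers, hk])).exists_le_sylow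
    have hxS : x ∈ (S₀ : Subgroup G) := hS₀ (Subgroup.mem_zpowers x)
    have hS₀L : (S₀ : Subgroup G) ≤ L := by
      obtain ⟨j, hj, hSj⟩ := hin S₀ S₀.isPGroup'
      refine hLle _ S₀.isPGroup' ?_
      by_cases hji : j = i
      · exact hji ▸ hSj
      · exact absurd (hSj hxS) (hxo j (mem_erase.2 ⟨hji, hj⟩))
    have hLN : L ≤ N := Subgroup.le_normalizer
    -- every `p`-subgroup of `N` lies in `L`
    have hNp : ∀ S : Subgroup G, IsPGroup p S → S ≤ N → S ≤ L := by
      intro S hS hSN
      obtain ⟨Q, hQ⟩ := (hS.comap_of_injective N.subtype N.subtype_injective).exists_le_sylow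
      obtain ⟨g, hg⟩ := MulAction.exists_smul_eq N (S₀.subtype (hS₀L.trans hLN)) Q
      intro s hs
      have h1 : (⟨s, hSN hs⟩ : N) ∈ (Q : Subgroup N) := hQ hs
      rw [← hg, Sylow.coe_subgroup_smul] at h1
      obtain ⟨s₀, hs₀, e⟩ := h1
      have h2 := (Subgroup.mem_normalizer_iff.1 g.2 (s₀ : G)).1 (hS₀L hs₀)
      have e' : (g : G) * s₀ * (g : G)⁻¹ = s := congrArg Subtype.val e
      rwa [e'] at h2
    have hidx : p + 1 ≤ N.index := by
      have hmod := S₀.isPGroup'.card_modEq_card_fixedPoints (G ⧸ N)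
      have hfix : MulAction.fixedPoints (S₀ : Subgroup G) (G ⧸ N) = {((1 : G) : G ⧸ N)} := by
        ext q
        obtain ⟨g, rfl⟩ := QuotientGroup.mk_surjective q
        constructor
        · intro hq
          have hle2 : (S₀ : Subgroup G).map (MulAut.conj g⁻¹).toMonoidHom ≤ N := by
            rintro _ ⟨s, hs, rfl⟩
            have h := hq ⟨s, hs⟩
            rw [show ((⟨s, hs⟩ : (S₀ : Subgroup G)) • (g : G ⧸ N)) = ((s * g : G) : G ⧸ N) from rfl,
              QuotientGroup.eq] at h
            have := inv_mem h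
            simpa [mul_assoc] using this
          have h1 := hconj g (hNp _ (S₀.isPGroup'.map _) hle2 ⟨x, hxS, by simp⟩)
          exact Set.mem_singleton_iff.2 (QuotientGroup.eq.2 (by rw [mul_one]; exact inv_mem h1))
        · intro hq s
          rw [Set.mem_singleton_iff] at hq
          rw [hq, show (s • ((1 : G) : G ⧸ N)) = (((s : G) * 1 : G) : G ⧸ N) from rfl]
          exact QuotientGroup.eq.2 (by simpa using hLN (hS₀L s.2))
      rw [hfix, Nat.card_unique (α := ↥({((1 : G) : G ⧸ N)} : Set _))] at hmod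
      change N.index ≡ 1 [MOD p] at hmod
      have hne : N.index ≠ 1 := by
        intro h1
        refine hK i hi (top_le_iff.1 (le_trans ?_ hLK))
        rw [← hgen, Subgroup.closure_le]
        intro g hg
        obtain ⟨k, hk⟩ := hg
        exact hNp (Subgroup.zpowers g) (IsPGroup.of_card (n := k) (by rw [Nat.card_zpowers, hk]))
          (by rw [Subgroup.index_eq_one.1 h1]; exact le_top) (Subgroup.mem_zpowers g)
      have hpos : N.index ≠ 0 := Subgroup.index_ne_zero_of_finite
      by_contra hlt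
      have hp := (Fact.out : p.Prime).two_le
      rcases Nat.lt_or_ge N.index p with h | h
      · rw [Nat.ModEq, Nat.mod_eq_of_lt h, Nat.mod_eq_of_lt (by omega)] at hmod
        exact hne hmod
      · rw [Nat.ModEq, show N.index = p by omega, Nat.mod_self, Nat.mod_eq_of_lt (by omega)] at hmod
        omega
    set F := univ.filter fun S : Sylow p G => (S : Subgroup G) ≤ K i with hFd
    refine le_trans (Nat.mul_le_mul_right _ hidx) ?_
    have hmem : ∀ S : F, ((S : Sylow p G) : Subgroup G) ≤ L := fun S =>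
      hLle _ (S : Sylow p G).isPGroup' (mem_filter.1 S.2).2
    have hexl : ∀ S : F, ∃ l ∈ L, l • S₀ = (S : Sylow p G) := by
      intro S
      obtain ⟨l, hl⟩ := MulAction.exists_smul_eq L (S₀.subtype hS₀L) ((S : Sylow p G).subtype (hmem S))
      rw [Sylow.smul_subtype] at hl
      exact ⟨l, l.2, Sylow.subtype_injective hl⟩
    have hinj : Function.Injective (fun q : (G ⧸ N) × F => q.1.out • (q.2 : Sylow p G)) := by
      rintro ⟨q, S⟩ ⟨q', S'⟩ (h : q.out • (S : Sylow p G) = q'.out • (S' : Sylow p G))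
      obtain ⟨l, hl, hS⟩ := hexl S
      obtain ⟨l', hl', hS'⟩ := hexl S'
      have h1 : ((q'.out * l')⁻¹ * (q.out * l)) • S₀ = S₀ := by
        rw [mul_smul, inv_smul_eq_iff, mul_smul, mul_smul, hS, hS', h]
      set k := (q'.out * l')⁻¹ * (q.out * l) with hk
      have hkN : k ∈ N := by
        apply hconj
        have h2 := Subgroup.mem_normalizer_iff.1 (Sylow.smul_eq_iff_mem_normalizer.1 h1) (k⁻¹ * x * k)
        exact hS₀L (h2.2 (by simpa [mul_assoc] using hxS))
      have hqq : q'.out⁻¹ * q.out ∈ N := by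
        have : q'.out⁻¹ * q.out = l' * k * l⁻¹ := by rw [hk]; group
        rw [this]
        exact mul_mem (mul_mem (hLN hl') hkN) (inv_mem (hLN hl))
      obtain rfl : q' = q := by
        rw [← QuotientGroup.out_eq' q', ← QuotientGroup.out_eq' q]
        exact QuotientGroup.eq.2 hqq
      exact Prod.ext rfl (Subtype.ext (smul_left_cancel _ h))
    have h := Nat.card_le_card_of_injective _ hinj
    rwa [Nat.card_prod, Nat.card_eq_fintype_card (α := F), Fintype.card_coe,
      Nat.card_eq_fintype_card (α := Sylow p G)] at h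
  have hall : (univ : Finset (Sylow p G)) ⊆
      t.biUnion fun i => univ.filter fun S : Sylow p G => (S : Subgroup G) ≤ K i := by
    intro S _
    obtain ⟨i, hi, h⟩ := hin S S.isPGroup'
    exact mem_biUnion.2 ⟨i, hi, by simp [h]⟩
  have h1 := (card_le_card hall).trans card_biUnion_le
  rw [card_univ] at h1
  have h2 : (p + 1) * Fintype.card (Sylow p G) ≤ p * Fintype.card (Sylow p G) := by
    refine (Nat.mul_le_mul_left _ h1).trans ?_
    rw [mul_sum]
    refine (sum_le_sum hF).trans ?_
    rw [sum_const, smul_eq_mul]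
    exact Nat.mul_le_mul_right _ hle
  have hpos : 0 < Fintype.card (Sylow p G) := Fintype.card_pos
  rw [add_one_mul] at h2
  omega

/-- Let p be a prime and G a finite group generated by its p-elements. If a finite family of proper subgroups of G covers the set of p-elements of G (every element of p-power order lies in one of them), then the family has at least p + 1 members. -/
theorem result {G : Type*} [Group G] [Finite G] (p : ℕ) [Fact p.Prime] (hgen : Subgroup.closure {g : G | ∃ k : ℕ, orderOf g = p ^ k} = ⊤)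
    {ι : Type*} [Fintype ι] (K : ι → Subgroup G) (hK : ∀ i, K i ≠ ⊤)
    (hcov : ∀ g : G, (∃ k : ℕ, orderOf g = p ^ k) → ∃ i, g ∈ K i) :
    p + 1 ≤ Fintype.card ι := by
  exact main p _ G rfl hgen ι Finset.univ K (fun i _ => hK i)
    fun g hg => (hcov g hg).imp fun i hi => ⟨Finset.mem_univ i, hi⟩

end Cfsg.Agent.S4182
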