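import Cfsg.Statements.S4184
import Cfsg.Agent.Lib.ClassSize.OneSize

set_option autoImplicit false
open Cfsg

namespace Cfsg.Agent.S4184

open Subgroup

/-- The index of the centralizer of an element. -/
private noncomputable def size {X : Type*} [Group X] (g : X) : ℕ :=
  (centralizer ({g} : Set X)).index

private theorem card_mul_size {X : Type*} [Group X] (g : X) :
    Nat.card ↥(centralizer ({g} : Set X)) * size g = Nat.card X :=
  card_mul_index _

private theorem mem_cen {X : Type*} [Group X] {g x : X} :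
    x ∈ centralizer ({g} : Set X) ↔ x * g = g * x :=
  mem_centralizer_singleton_iff

/-- A centralizer whose index is not full at `p` has order divisible by `p`. -/
private theorem dvd_card_of_not_full {X : Type*} [Group X] [Finite X] {p e : ℕ} (hp : p.Prime)
    (he : p ^ e ∣ Nat.card X) {g : X} (h : ¬ p ^ e ∣ size g) :
    p ∣ Nat.card ↥(centralizer ({g} : Set X)) := by
  by_contra hp'
  exact h (((hp.coprime_iff_not_dvd.mpr hp').pow_left e).dvd_of_dvd_mul_left
    (by rw [card_mul_size]; exact he))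

private theorem card_eq {G M : Type*} [Group G] [Finite G] [Group M] [Finite M]
    (hZG : center G = ⊥) (hZM : center M = ⊥)
    (h : Set.range (size (X := G)) = Set.range (size (X := M)))
    (A : Set ℕ) (hA : ∃ a ∈ A, a.Prime ∧ a ∣ Nat.card M) (hB : ∃ b ∉ A, b.Prime ∧ b ∣ Nat.card M)
    (hdisc : ∀ a ∈ A, ∀ b ∉ A, a.Prime → b.Prime → a ∣ Nat.card M → b ∣ Nat.card M →
      ¬ ∃ x : M, orderOf x = a * b) :
    Nat.card G = Nat.card M := by
  classical
  set e : ℕ → ℕ := fun p => (Nat.card M).factorization p with he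
  have hed : ∀ p, p ^ e p ∣ Nat.card M := fun p => Nat.ordProj_dvd _ p
  have hepos : ∀ p, p.Prime → p ∣ Nat.card M → 0 < e p := fun p hp hd =>
    hp.factorization_pos_of_dvd Nat.card_pos.ne' hd
  -- opposite primes
  have hno : ∀ a b : ℕ, a.Prime → b.Prime → a ∣ Nat.card M → b ∣ Nat.card M → ¬ (a ∈ A ↔ b ∈ A) →
      ∀ x y : M, x * y = y * x → orderOf x = a → orderOf y = b → False := by
    intro a b ha hb had hbd hne x y hxy hx hy
    have hab : a ≠ b := fun h => hne (by rw [h])
    have ho : orderOf (x * y) = a * b := by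
      rw [(show Commute x y from hxy).orderOf_mul_eq_mul_orderOf_of_coprime
        (by rw [hx, hy]; exact (Nat.coprime_primes ha hb).mpr hab), hx, hy]
    by_cases haA : a ∈ A
    · exact hdisc a haA b (fun hbA => hne (iff_of_true haA hbA)) ha hb had hbd ⟨_, ho⟩
    · have hbA : b ∈ A := by
        by_contra hbA
        exact hne (iff_of_false haA hbA)
      exact hdisc b hbA a haA hb ha hbd had ⟨_, by rw [ho, mul_comm]⟩
  have hopp : ∀ p, ∃ q, q.Prime ∧ q ∣ Nat.card M ∧ ¬ (p ∈ A ↔ q ∈ A) := by
    intro p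
    obtain ⟨a, haA, ha, had⟩ := hA
    obtain ⟨b, hbA, hb, hbd⟩ := hB
    by_cases hp : p ∈ A
    · exact ⟨b, hb, hbd, fun h => hbA (h.mp hp)⟩
    · exact ⟨a, ha, had, fun h => hp (h.mpr haA)⟩
  -- the class sizes of `M`
  have hL : ∀ w : M, w ≠ 1 → ∀ p q, p.Prime → q.Prime → p ∣ Nat.card M → q ∣ Nat.card M →
      ¬ (p ∈ A ↔ q ∈ A) → ¬ p ^ e p ∣ size w → q ^ e q ∣ size w := by
    intro w hw p q hp hq hpd hqd hne hnp
    by_contra hnq
    have hw1 : orderOf w ≠ 1 := fun h => hw (orderOf_eq_one_iff.mp h)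
    obtain ⟨r, hr, hrw⟩ := Nat.exists_prime_and_dvd hw1
    have hrd : r ∣ Nat.card M := hrw.trans (orderOf_dvd_natCard w)
    obtain ⟨j, hj⟩ := hrw
    have hwr : orderOf (w ^ j) = r := by
      have hj0 : j ≠ 0 := fun h => (orderOf_pos w).ne' (by rw [hj, h, mul_zero])
      rw [orderOf_pow_of_dvd hj0 (Dvd.intro_left r hj.symm), hj,
        Nat.mul_div_cancel _ (Nat.pos_of_ne_zero hj0)]
    have hkey : ∀ t, t.Prime → t ∣ Nat.card M → ¬ t ^ e t ∣ size w → (t ∈ A ↔ r ∈ A) := by
      intro t ht htd hnt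
      by_contra hne'
      haveI := Fact.mk ht
      obtain ⟨x, hx⟩ := exists_prime_orderOf_dvd_card' t
        (dvd_card_of_not_full ht (hed t) hnt)
      exact hno t r ht hr htd hrd hne' (x : M) (w ^ j)
        ((show Commute (x : M) w from mem_cen.mp x.2).pow_right j).eq
        (by rw [orderOf_coe, hx]) hwr
    exact hne ((hkey p hp hpd hnp).trans (hkey q hq hqd hnq).symm)
  have hK : ∀ w : M, ¬ ∀ t, t.Prime → t ∣ Nat.card M → t ^ e t ∣ size w := by
    intro w hall
    have hdvd : Nat.card M ∣ size w := by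
      rw [← Nat.factorization_prime_le_iff_dvd Nat.card_pos.ne'
        (by rw [size]; exact index_ne_zero_of_finite)]
      intro t ht
      by_cases htd : t ∣ Nat.card M
      · exact (ht.pow_dvd_iff_le_factorization (by rw [size]; exact index_ne_zero_of_finite)).mp
          (hall t ht htd)
      · rw [Nat.factorization_eq_zero_of_not_dvd htd]; exact Nat.zero_le _
    have h1 := card_mul_size w
    have h2 := Nat.le_of_dvd (Nat.pos_of_ne_zero (by rw [size]; exact index_ne_zero_of_finite)) hdvd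
    have hw : w ∈ centralizer ({w} : Set M) := mem_cen.mpr rfl
    have hc1 : Nat.card ↥(centralizer ({w} : Set M)) = 1 := by
      refine le_antisymm ?_ Nat.card_pos
      by_contra hlt
      have := Nat.mul_le_mul_right (size w) (show 2 ≤ Nat.card ↥(centralizer ({w} : Set M)) by omega)
      have := Nat.card_pos (α := M)
      omega
    rw [card_eq_one] at hc1
    rw [hc1, mem_bot] at hw
    obtain ⟨a, -, ha, had⟩ := hA
    have h3 := (pow_dvd_pow a (hepos a ha had)).trans (hall a ha had)
    rw [hw, size, show centralizer ({(1 : M)} : Set M) = ⊤ from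
      eq_top_iff.mpr fun x _ => mem_cen.mpr (by rw [mul_one, one_mul]), index_top,
      Nat.dvd_one] at h3
    exact ha.one_lt.ne' (by simpa using h3)
  -- transfer to `G`
  have hmem : ∀ g : G, ∃ w : M, size w = size g ∧ (g ≠ 1 → w ≠ 1) := by
    intro g
    obtain ⟨w, hw⟩ : size g ∈ Set.range (size (X := M)) := h ▸ Set.mem_range_self g
    refine ⟨w, hw, fun hg hw1 => hg ?_⟩
    have htop : size g = 1 := by
      rw [← hw, hw1, size, show centralizer ({(1 : M)} : Set M) = ⊤ from
        eq_top_iff.mpr fun x _ => mem_cen.mpr (by rw [mul_one, one_mul]), index_top]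
    have hgc : g ∈ center G := mem_center_iff.mpr fun x =>
      mem_cen.mp ((index_eq_one.mp htop).symm ▸ mem_top x)
    rwa [hZG, mem_bot] at hgc
  have hsize : ∀ g : G, size g ∣ Nat.card M := fun g => by
    obtain ⟨w, hw, -⟩ := hmem g
    exact hw ▸ Dvd.intro_left _ (card_mul_size w)
  have hKG : ∀ g : G, ¬ ∀ t, t.Prime → t ∣ Nat.card M → t ^ e t ∣ size g := fun g hall => by
    obtain ⟨w, hw, -⟩ := hmem g
    exact hK w fun t ht htd => hw ▸ hall t ht htd
  have hLG : ∀ g : G, g ≠ 1 → ∀ p q, p.Prime → q.Prime → p ∣ Nat.card M → q ∣ Nat.card M →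
      ¬ (p ∈ A ↔ q ∈ A) → ¬ p ^ e p ∣ size g → q ^ e q ∣ size g := fun g hg p q hp hq hpd hqd hne hnp => by
    obtain ⟨w, hw, hw1⟩ := hmem g
    rw [← hw] at hnp ⊢
    exact hL w (hw1 hg) p q hp hq hpd hqd hne hnp
  -- `|M|` divides `|G|`
  have hMG : Nat.card M ∣ Nat.card G := by
    rw [← Nat.factorization_prime_le_iff_dvd Nat.card_pos.ne' Nat.card_pos.ne']
    intro p hp
    by_cases hpd : p ∣ Nat.card M
    swap
    · rw [Nat.factorization_eq_zero_of_not_dvd hpd]; exact Nat.zero_le _
    refine (hp.pow_dvd_iff_le_factorization Nat.card_pos.ne').mp ?_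
    obtain ⟨q, hq, hqd, hne⟩ := hopp p
    haveI := Fact.mk hq
    obtain ⟨w, hw⟩ := exists_prime_orderOf_dvd_card' q hqd
    have hw1 : w ≠ 1 := fun h => hq.ne_one (by rw [← hw, h, orderOf_one])
    obtain ⟨g, hg⟩ : size w ∈ Set.range (size (X := G)) := h.symm ▸ Set.mem_range_self w
    refine dvd_trans ?_ (Dvd.intro_left _ (card_mul_size g))
    rw [hg]
    refine hL w hw1 q p hq hp hqd hpd (fun h => hne h.symm) fun hfull => ?_
    have h1 := mul_dvd_mul (hw ▸ Nat.card_zpowers w ▸
      card_dvd_of_le (zpowers_le.mpr (mem_cen.mpr rfl) : zpowers w ≤ centralizer ({w} : Set M)) :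
        q ∣ Nat.card ↥(centralizer ({w} : Set M))) hfull
    rw [card_mul_size, ← pow_succ'] at h1
    have := (hq.pow_dvd_iff_le_factorization Nat.card_pos.ne').mp h1
    simp only [he] at this
    omega
  -- `|G|` divides `|M|`
  refine Nat.dvd_antisymm ?_ hMG
  rw [← Nat.factorization_prime_le_iff_dvd Nat.card_pos.ne' Nat.card_pos.ne']
  intro p hp
  haveI := Fact.mk hp
  by_contra hgt
  push_neg at hgt
  set n := (Nat.card G).factorization p with hn
  have hnd : p ^ n ∣ Nat.card G := Nat.ordProj_dvd _ p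
  -- every centralizer has order divisible by `p`
  have hpC : ∀ g : G, p ∣ Nat.card ↥(centralizer ({g} : Set G)) := by
    intro g
    refine dvd_card_of_not_full hp hnd fun hfull => ?_
    have := (hp.pow_dvd_iff_le_factorization Nat.card_pos.ne').mp (hfull.trans (hsize g))
    omega
  have hnz : ∀ {t : ℕ}, t.Prime → ∀ {H : Subgroup G}, IsPGroup t ↥H → Nontrivial ↥H →
      ∃ z ∈ H, z ≠ 1 ∧ H ≤ centralizer ({z} : Set G) := by
    intro t ht H hH hHn
    haveI := Fact.mk ht
    obtain ⟨⟨z, hz⟩, hz1⟩ := @exists_ne _ hH.center_nontrivial (1 : ↥(center ↥H))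
    refine ⟨z, z.2, fun h => hz1 (Subtype.ext (Subtype.ext h)), fun x hx => mem_cen.mpr ?_⟩
    exact congrArg Subtype.val (mem_center_iff.mp hz ⟨x, hx⟩)
  have hpG : p ∣ Nat.card G := (dvd_pow_self p (by omega : n ≠ 0)).trans hnd
  by_cases hpd : p ∣ Nat.card M
  swap
  · -- primes not dividing `|M|`
    obtain ⟨P⟩ : Nonempty (Sylow p G) := inferInstance
    have hPn : Nontrivial ↥(P : Subgroup G) := by
      rw [← Finite.one_lt_card_iff_nontrivial, P.card_eq_multiplicity, ← hn]
      exact Nat.one_lt_pow (by omega) hp.one_lt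
    have hcent : centralizer ((P : Subgroup G) : Set G) = ⊤ := by
      refine ClassSize.OneSize.eq_top_of_forall_conj fun g => ?_
      have hfull : ¬ p ∣ size g := fun hd => hpd (hd.trans (hsize g))
      obtain ⟨Q⟩ : Nonempty (Sylow p ↥(centralizer ({g} : Set G))) := inferInstance
      have hQ : p ^ n ∣ Nat.card ↥((Q : Subgroup ↥(centralizer ({g} : Set G))).map
          (centralizer ({g} : Set G)).subtype) := by
        rw [card_map_of_injective (subtype_injective _), Q.card_eq_multiplicity]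
        refine Nat.pow_dvd_pow p ?_
        refine (hp.pow_dvd_iff_le_factorization Nat.card_pos.ne').mp ?_
        exact ((hp.coprime_iff_not_dvd.mpr hfull).pow_left n).dvd_of_dvd_mul_right
          (by rw [card_mul_size]; exact hnd)
      obtain ⟨k, hk⟩ : ∃ k : G, ∀ x ∈ (P : Subgroup G), k * x * k⁻¹ ∈ centralizer ({g} : Set G) := by
        obtain ⟨P', hP'⟩ := (Q.isPGroup'.map (centralizer ({g} : Set G)).subtype).exists_le_sylow
        obtain ⟨k, hk⟩ := MulAction.exists_smul_eq G P P'
        refine ⟨k, fun x hx => map_subtype_le _ ((eq_of_le_of_card_ge hP' ?_).ge ?_)⟩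
        · rw [P'.card_eq_multiplicity, ← hn]
          exact Nat.le_of_dvd Nat.card_pos hQ
        · rw [← hk, Sylow.coe_subgroup_smul]
          exact smul_mem_pointwise_smul x (MulAut.conj k) _ hx
      refine ⟨k, fun x hx => ?_⟩
      have h1 := mem_cen.mp (hk x hx)
      calc x * (k⁻¹ * g * k) = k⁻¹ * (k * x * k⁻¹ * g) * k := by group
        _ = k⁻¹ * g * k * x := by rw [h1]; group
    obtain ⟨z, hz, hz1, -⟩ := hnz hp P.isPGroup' hPn
    have hzc : z ∈ center G := mem_center_iff.mpr fun x =>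
      ((mem_centralizer_iff.mp (hcent.symm ▸ mem_top x)) z hz).symm
    rw [hZG, mem_bot] at hzc
    exact hz1 hzc
  -- a prime opposite to `p` and a central element of its Sylow subgroup
  have hepp : 0 < e p := hepos p hp hpd
  obtain ⟨q, hq, hqd, hne⟩ := hopp p
  have hside : ∀ t, ¬ (p ∈ A ↔ t ∈ A) ∨ ¬ (q ∈ A ↔ t ∈ A) := fun t => by
    by_cases ht : (p ∈ A ↔ t ∈ A)
    · exact Or.inr fun h => hne (ht.trans h.symm)
    · exact Or.inl ht
  haveI := Fact.mk hq
  have hfrom : ∀ t, t.Prime → t ∣ Nat.card M → ∀ {P : Sylow t G},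
      ∀ z : G, (P : Subgroup G) ≤ centralizer ({z} : Set G) → ¬ t ^ e t ∣ size z := by
    intro t ht htd P z hz hfull
    haveI := Fact.mk ht
    have h1 : t ∣ (P : Subgroup G).index :=
      ((dvd_pow_self t (hepos t ht htd).ne').trans hfull).trans (index_dvd_of_le hz)
    exact P.not_dvd_index h1
  obtain ⟨Q⟩ : Nonempty (Sylow q G) := inferInstance
  have hQn : Nontrivial ↥(Q : Subgroup G) := by
    rw [← Finite.one_lt_card_iff_nontrivial, Q.card_eq_multiplicity]
    exact Nat.one_lt_pow (hq.factorization_pos_of_dvd Nat.card_pos.ne' (hqd.trans hMG)).ne'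
      hq.one_lt
  obtain ⟨z₀, hz₀Q, hz₀1, hz₀C⟩ := hnz hq Q.isPGroup' hQn
  obtain ⟨i, hi⟩ := Q.isPGroup'.exists_card_eq
  -- an element of order `q` among the powers of `z₀`
  obtain ⟨z, hzq, hzC⟩ : ∃ z : G, orderOf z = q ∧ (Q : Subgroup G) ≤ centralizer ({z} : Set G) := by
    have hd : q ∣ Nat.card ↥(zpowers z₀) := by
      obtain ⟨j, -, hj⟩ := (Nat.dvd_prime_pow hq).mp (hi ▸ card_dvd_of_le (zpowers_le.mpr hz₀Q))
      rw [hj]
      refine dvd_pow_self q fun hj0 => hz₀1 ?_
      rw [hj0, pow_zero, Nat.card_zpowers] at hj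
      exact orderOf_eq_one_iff.mp hj
    obtain ⟨z, hz⟩ := exists_prime_orderOf_dvd_card' q hd
    refine ⟨z, by rw [orderOf_coe, hz], fun x hx => ?_⟩
    obtain ⟨m, hm⟩ := z.2
    refine mem_cen.mpr ?_
    rw [← hm]
    exact ((show Commute x z₀ from mem_cen.mp (hz₀C hx)).zpow_right m).eq
  have hz1 : z ≠ 1 := fun h => hq.ne_one (by rw [← hzq, h, orderOf_one])
  have hznq := hfrom q hq hqd z hzC
  have hzopp : ∀ t, t.Prime → t ∣ Nat.card M → ¬ (q ∈ A ↔ t ∈ A) → t ^ e t ∣ size z :=
    fun t ht htd hne' => hLG z hz1 q t hq ht hqd htd hne' hznq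
  have hzp := hzopp p hp hpd (fun h => hne h.symm)
  -- coprime products
  have hprod : ∀ x : G, x * z = z * x → IsPGroup p ↥(zpowers x) →
      ¬ ∀ t, t.Prime → t ∣ Nat.card M → ¬ (p ∈ A ↔ t ∈ A) → t ^ e t ∣ size x := by
    intro x hxz hxp hall
    have hle : centralizer ({x * z} : Set G) ≤
        centralizer ({x} : Set G) ⊓ centralizer ({z} : Set G) := by
      obtain ⟨j, hj⟩ := hxp ⟨x, mem_zpowers x⟩
      have hco : (p ^ j).Coprime q :=
        ((Nat.coprime_primes hp hq).mpr fun h => hne (by rw [h])).pow_left j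
      have hxj : x ^ (p ^ j) = 1 := congrArg Subtype.val hj
      intro c hc
      have hcc : Commute c (x * z) := mem_cen.mp hc
      have h1 : Commute c (z ^ (p ^ j)) := by
        have h2 := hcc.pow_right (p ^ j)
        rwa [(show Commute x z from hxz).mul_pow, hxj, one_mul] at h2
      obtain ⟨m, hm⟩ : ∃ m, (z ^ (p ^ j)) ^ m = z :=
        exists_pow_eq_self_of_coprime (by rw [hzq]; exact hco)
      have h3 : Commute c z := hm ▸ h1.pow_right m
      have h4 : Commute c x := by
        have h5 := hcc.mul_right h3.inv_right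
        rwa [mul_inv_cancel_right] at h5
      exact mem_inf.mpr ⟨mem_cen.mpr h4.eq, mem_cen.mpr h3.eq⟩
    refine hKG (x * z) fun t ht htd => ?_
    rcases hside t with hs | hs
    · exact (hall t ht htd hs).trans (index_dvd_of_le (hle.trans inf_le_left))
    · exact (hzopp t ht htd hs).trans (index_dvd_of_le (hle.trans inf_le_right))
  -- a Sylow `p`-subgroup of the centralizer of `z`
  obtain ⟨R⟩ : Nonempty (Sylow p ↥(centralizer ({z} : Set G))) := inferInstance
  set S := (R : Subgroup ↥(centralizer ({z} : Set G))).map (centralizer ({z} : Set G)).subtype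
    with hS
  have hScard : Nat.card ↥S =
      p ^ (Nat.card ↥(centralizer ({z} : Set G))).factorization p := by
    rw [hS, card_map_of_injective (subtype_injective _), R.card_eq_multiplicity]
  have hSp : IsPGroup p ↥S := R.isPGroup'.map _
  have hSn : Nontrivial ↥S := by
    rw [← Finite.one_lt_card_iff_nontrivial, hScard]
    exact Nat.one_lt_pow (hp.factorization_pos_of_dvd Nat.card_pos.ne' (hpC z)).ne' hp.one_lt
  obtain ⟨x, hxS, hx1, hxC⟩ := hnz hp hSp hSn
  have hxz : x * z = z * x := mem_cen.mp (map_subtype_le _ hxS)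
  have hxp : p ^ e p ∣ size x := by
    by_contra hnp
    exact hprod x hxz (hSp.to_le (zpowers_le.mpr hxS)) fun t ht htd hne' =>
      hLG x hx1 p t hp ht hpd htd hne' hnp
  -- equal `p`-parts of the two centralizers
  have hpart : ∀ g : G, p ^ e p ∣ size g →
      (Nat.card ↥(centralizer ({g} : Set G))).factorization p + e p = n := by
    intro g hg
    have h1 := congrArg (fun m => m.factorization p) (card_mul_size g)
    simp only [Nat.factorization_mul Nat.card_pos.ne' (show size g ≠ 0 from index_ne_zero_of_finite),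
      Finsupp.add_apply] at h1
    have h2 : (size g).factorization p = e p := le_antisymm
      ((Nat.factorization_le_iff_dvd (show size g ≠ 0 from index_ne_zero_of_finite)
        Nat.card_pos.ne').mpr (hsize g) p)
      ((hp.pow_dvd_iff_le_factorization (show size g ≠ 0 from index_ne_zero_of_finite)).mp hg)
    rw [h2] at h1
    exact h1
  obtain ⟨P', hP'⟩ := hSp.exists_le_sylow
  have hP'n : Nontrivial ↥(P' : Subgroup G) := by
    rw [← Finite.one_lt_card_iff_nontrivial]
    exact lt_of_lt_of_le Finite.one_lt_card (card_le_of_le hP')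
  obtain ⟨z', hz'P, hz'1, hz'C⟩ := hnz hp P'.isPGroup' hP'n
  have hz'x : S ⊔ zpowers z' ≤ centralizer ({x} : Set G) :=
    sup_le hxC (zpowers_le.mpr (mem_cen.mpr (mem_cen.mp (hz'C (hP' hxS))).symm))
  have hcard : Nat.card ↥(S ⊔ zpowers z') ≤ Nat.card ↥S := by
    obtain ⟨k, hk⟩ := (P'.isPGroup'.to_le (sup_le hP' (zpowers_le.mpr hz'P))).exists_card_eq
    rw [hk, hScard]
    refine Nat.pow_le_pow_right hp.pos ?_
    have h1 := (hp.pow_dvd_iff_le_factorization Nat.card_pos.ne').mp
      (hk ▸ card_dvd_of_le hz'x)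
    have h2 := hpart x hxp
    have h3 := hpart z hzp
    omega
  have hz'S : z' ∈ S := by
    rw [eq_of_le_of_card_ge (le_sup_left (a := S) (b := zpowers z')) hcard]
    exact mem_sup_right (mem_zpowers z')
  exact hprod z' (mem_cen.mp (map_subtype_le _ hz'S)) (P'.isPGroup'.to_le (zpowers_le.mpr hz'P))
    fun t ht htd hne' => hLG z' hz'1 p t hp ht hpd htd hne' (hfrom p hp hpd z' hz'C)

/-- Let G and M be finite groups with trivial centres and the same set of conjugacy class sizes, and suppose the prime graph of M is disconnected: the prime divisors of #M split into two non-empty parts such that M has no element of order pq with p in one part and q in the other. Then #G = #M. -/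
theorem result {G M : Type*}
    [Group G] [Finite G] [Group M] [Finite M] (hZG : Subgroup.center G = ⊥) (hZM : Subgroup.center M = ⊥)
    (h : Set.range (fun g : G => (Subgroup.centralizer ({g} : Set G)).index) = Set.range (fun g : M => (Subgroup.centralizer ({g} : Set M)).index))
    (hdisc : ∃ A : Set ℕ, (∃ a ∈ A, a.Prime ∧ a ∣ Nat.card M) ∧ (∃ b ∉ A, b.Prime ∧ b ∣ Nat.card M) ∧
      ∀ a ∈ A, ∀ b ∉ A, a.Prime → b.Prime → a ∣ Nat.card M → b ∣ Nat.card M → ¬ ∃ x : M, orderOf x = a * b) :
    Nat.card G = Nat.card M := by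
  obtain ⟨A, hA, hB, hd⟩ := hdisc
  exact card_eq hZG hZM h A hA hB hd

end Cfsg.Agent.S4184
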