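import Cfsg.Statements.S4186
-- (no helpers)

set_option autoImplicit false
open Cfsg

namespace Cfsg.Agent.S4186

/-- Let T and X be subgroups of a group with T a finite 2-group normalizing X but not centralizing it. Then some element of T inverts some non-identity element of X under conjugation. -/
theorem result {G : Type*} [Group G] (T X : Subgroup G) [Finite ↥T] (hT : IsPGroup 2 ↥T) (hTN : T ≤ Subgroup.normalizer (X : Set G)) (hTC : ¬ T ≤ Subgroup.centralizer (X : Set G)) : ∃ t ∈ T, ∃ x ∈ X, x ≠ 1 ∧ t * x * t⁻¹ = x⁻¹ := by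
  classical
  obtain ⟨t, htT, htC⟩ := SetLike.not_le_iff_exists.mp hTC
  obtain ⟨k, hk⟩ := hT ⟨t, htT⟩
  have hk' : t ^ (2 ^ k) = 1 := by
    have := congrArg Subtype.val hk
    simpa using this
  have hex : ∃ j : ℕ, t ^ (2 ^ j) ∈ Subgroup.centralizer (X : Set G) := ⟨k, by rw [hk']; exact one_mem _⟩
  obtain ⟨j, hj1, hj2⟩ : ∃ j, Nat.find hex = j + 1 ∧ t ^ (2 ^ j) ∉ Subgroup.centralizer (X : Set G) := by
    rcases h0 : Nat.find hex with _ | j
    · have := Nat.find_spec hex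
      rw [h0, pow_zero, pow_one] at this
      exact absurd this htC
    · exact ⟨j, rfl, Nat.find_min hex (by omega)⟩
  have hs2 := Nat.find_spec hex
  rw [hj1, pow_succ, pow_mul, sq] at hs2
  generalize hs : t ^ (2 ^ j) = s at hj2 hs2
  have hsT : s ∈ T := hs ▸ pow_mem htT _
  rw [Subgroup.mem_centralizer_iff] at hj2 hs2
  push Not at hj2
  obtain ⟨x, hx, hne⟩ := hj2
  have hxX : x ∈ X := hx
  have hconj : s * x * s⁻¹ ∈ X := (Subgroup.mem_normalizer_iff.mp (hTN hsT) x).mp hxX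
  refine ⟨s, hsT, x⁻¹ * (s * x * s⁻¹), mul_mem (inv_mem hxX) hconj, ?_, ?_⟩
  · intro h
    apply hne
    have h1 : s * x * s⁻¹ = x := (inv_mul_eq_one.mp h).symm
    calc x * s = s * x * s⁻¹ * s := by rw [h1]
      _ = s * x := by group
  · have h2 : s * s * x * (s * s)⁻¹ = x := by rw [← hs2 x hx]; group
    calc s * (x⁻¹ * (s * x * s⁻¹)) * s⁻¹ = (s * x * s⁻¹)⁻¹ * (s * s * x * (s * s)⁻¹) := by group
      _ = (s * x * s⁻¹)⁻¹ * x := by rw [h2]
      _ = _ := by group

end Cfsg.Agent.S4186
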