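import Cfsg.Statements.S4187
import Cfsg.Agent.Lib.RealGraph.Main

set_option autoImplicit false
open Cfsg

namespace Cfsg.Agent.S4187

/-- Let G be a finite group. Call an element real when it is conjugate to its inverse, and consider the graph whose vertices are the primes dividing the size of some conjugacy class of real elements, two distinct primes being adjacent when their product divides such a class size. If this graph is disconnected — its vertex set splits into two non-empty parts such that no real class size is divisible by a prime from each part — then G is solvable. -/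
theorem result {G : Type*} [Group G] [Finite G] (π₁ π₂ : Set ℕ) (h₁ : π₁.Nonempty) (h₂ : π₂.Nonempty) (hcover : ∀ q : ℕ, q.Prime → (∃ n ∈ {n : ℕ | ∃ x : G, IsConj x x⁻¹ ∧ (Subgroup.centralizer ({x} : Set G)).index = n}, q ∣ n) → q ∈ π₁ ∨ q ∈ π₂) (hsub : ∀ q ∈ π₁ ∪ π₂, q.Prime ∧ ∃ n ∈ {n : ℕ | ∃ x : G, IsConj x x⁻¹ ∧ (Subgroup.centralizer ({x} : Set G)).index = n}, q ∣ n) (hdisj : Disjoint π₁ π₂) (hnoedge : ∀ a ∈ π₁, ∀ b ∈ π₂, ∀ n ∈ {n : ℕ | ∃ x : G, IsConj x x⁻¹ ∧ (Subgroup.centralizer ({x} : Set G)).index = n}, ¬ (a ∣ n ∧ b ∣ n)) : Group.IsSolvable G := by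
  have hex : ∀ π π' : Set ℕ, Disjoint π π' → π.Nonempty →
      (∀ q ∈ π, q.Prime ∧ ∃ n ∈ {n : ℕ | ∃ x : G, IsConj x x⁻¹ ∧ (Subgroup.centralizer ({x} : Set G)).index = n}, q ∣ n) →
      (∀ g : G, IsConj g g⁻¹ → RealGraph.OneSided π (RealGraph.csize g) ∨ RealGraph.OneSided π' (RealGraph.csize g)) →
      ∃ g : G, IsConj g g⁻¹ ∧ RealGraph.csize g ≠ 1 ∧ RealGraph.OneSided π (RealGraph.csize g) := by
    intro π π' hd hne hs hside
    obtain ⟨q, hq⟩ := hne
    obtain ⟨hqp, n, ⟨g, hg, rfl⟩, hqn⟩ := hs q hq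
    refine ⟨g, hg, fun h => hqp.ne_one (Nat.dvd_one.mp ((h : _ = 1) ▸ hqn)), ?_⟩
    exact (hside g hg).resolve_right fun h => Set.disjoint_left.mp hd hq (h q hqp hqn)
  have hside : ∀ g : G, IsConj g g⁻¹ →
      RealGraph.OneSided π₁ (RealGraph.csize g) ∨ RealGraph.OneSided π₂ (RealGraph.csize g) := by
    intro g hg
    by_contra hc
    push Not at hc
    obtain ⟨h1, h2⟩ := hc
    simp only [RealGraph.OneSided, not_forall] at h1 h2
    obtain ⟨p, hp, hpn, hp1⟩ := h1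
    obtain ⟨q, hq, hqn, hq2⟩ := h2
    have hp2 := (hcover p hp ⟨_, ⟨g, hg, rfl⟩, hpn⟩).resolve_left hp1
    have hq1 := (hcover q hq ⟨_, ⟨g, hg, rfl⟩, hqn⟩).resolve_right hq2
    exact hnoedge q hq1 p hp2 _ ⟨g, hg, rfl⟩ ⟨hqn, hpn⟩
  exact RealGraph.Split.isSolvable ⟨hdisj, hside,
    hex π₁ π₂ hdisj h₁ (fun q hq => hsub q (Or.inl hq)) hside,
    hex π₂ π₁ hdisj.symm h₂ (fun q hq => hsub q (Or.inr hq)) fun g hg => (hside g hg).symm⟩

end Cfsg.Agent.S4187
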