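import Cfsg.Statements.S4188
import Cfsg.Agent.Lib.PGroup.Frattini
import Cfsg.Agent.Lib.PGroup.SCN
import Cfsg.Agent.Lib.PGroup.UniqueOrderP
-- import your own Cfsg.Agent.* helpers here

set_option autoImplicit false
open Cfsg

namespace Cfsg.Agent.S4188

section Helpers

variable {H : Type*} [Group H] [Finite H]

theorem index_frattini_le_card : (frattini H).index ≤ Nat.card H :=
  Nat.le_of_dvd Nat.card_pos (Subgroup.index_dvd_card _)

theorem index_frattini_le_mul (hH : IsPGroup 2 H) (M : Subgroup H) [M.Normal] :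
    (frattini H).index ≤ (frattini (H ⧸ M)).index * (frattini ↥M).index := by
  have h1 := Subgroup.relIndex_mul_index (le_sup_left : frattini H ≤ frattini H ⊔ M)
  have h2 : (frattini H ⊔ M).index = (frattini (H ⧸ M)).index := by
    have hc := Subgroup.comap_map_eq (QuotientGroup.mk' M) (frattini H)
    rw [QuotientGroup.ker_mk', PGroup.map_frattini hH _ (QuotientGroup.mk'_surjective M)] at hc
    rw [← hc, Subgroup.index_comap_of_surjective _ (QuotientGroup.mk'_surjective M)]
  have : (frattini H).Normal := Subgroup.Normal.of_commutator_le H (PGroup.commutator_le_frattini hH)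
  have h3 : (frattini H).relIndex (frattini H ⊔ M) = (frattini H).relIndex M := by
    rw [Subgroup.relIndex_sup_left]
  have h4 : (frattini H).relIndex M ≤ (frattini ↥M).index :=
    Nat.le_of_dvd (Nat.pos_of_ne_zero Subgroup.index_ne_zero_of_finite)
      (Subgroup.index_dvd_of_le (Subgroup.map_le_iff_le_comap.1 (PGroup.map_frattini_le hH M)))
  rw [← h1, h2, h3, Nat.mul_comm]
  exact Nat.mul_le_mul le_rfl h4

theorem index_frattini_ne_card (hH : IsPGroup 2 H) (hab : ¬ IsMulCommutative H) :
    (frattini H).index ≠ Nat.card H := fun h => hab ((PGroup.frattini_eq_bot_iff hH).1 (by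
  refine Subgroup.card_eq_one.1 ?_
  have h1 := Subgroup.card_mul_index (frattini H)
  rw [h] at h1
  exact Nat.eq_of_mul_eq_mul_right Nat.card_pos (h1.trans (one_mul _).symm))).1

theorem index_frattini_le_two (hH : IsPGroup 2 H) [IsCyclic H] : (frattini H).index ≤ 2 := by
  obtain ⟨a, ha⟩ := IsCyclic.exists_generator (α := H)
  have hle : Subgroup.zpowers (a ^ 2) ≤ frattini H :=
    Subgroup.zpowers_le.2 (PGroup.pow_mem_frattini hH a)
  refine (Nat.le_of_dvd (Nat.pos_of_ne_zero Subgroup.index_ne_zero_of_finite)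
    (Subgroup.index_dvd_of_le hle)).trans (Nat.le_of_dvd two_pos ?_)
  have h1 := Subgroup.card_mul_index (Subgroup.zpowers (a ^ 2))
  rw [Nat.card_zpowers, orderOf_pow, ← orderOf_eq_card_of_forall_mem_zpowers ha] at h1
  have h2 := Nat.gcd_dvd_left (orderOf a) 2
  have h3 := Nat.gcd_dvd_right (orderOf a) 2
  have h4 : (Subgroup.zpowers (a ^ 2)).index = Nat.gcd (orderOf a) 2 := by
    refine Nat.eq_of_mul_eq_mul_left (Nat.div_pos (Nat.le_of_dvd (orderOf_pos a) h2)
      (Nat.gcd_pos_of_pos_right _ two_pos)) ?_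
    rw [h1, Nat.div_mul_cancel h2]
  rw [h4]; exact h3

theorem card_sq_eq_one_le (k : ℕ) : Nat.card {u : (ZMod (2 ^ k))ˣ // u ^ 2 = 1} ≤ 4 := by
  classical
  let h : ZMod (2 ^ k) := ((2 ^ (k - 1) : ℕ) : ZMod (2 ^ k))
  have hf : ∀ u : {u : (ZMod (2 ^ k))ˣ // u ^ 2 = 1},
      ((u : (ZMod (2 ^ k))ˣ) : ZMod (2 ^ k)) ∈ ({1, -1, 1 + h, -1 + h} : Finset (ZMod (2 ^ k))) := by
    rintro ⟨u, hu⟩
    rcases Nat.eq_zero_or_pos k with hk | hk
    · subst hk
      have : Subsingleton (ZMod (2 ^ 0)) := (ZMod.subsingleton_iff).2 rfl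
      simp [Subsingleton.elim ((u : (ZMod (2 ^ 0))ˣ) : ZMod (2 ^ 0)) 1]
    obtain ⟨j, rfl⟩ : ∃ j, k = j + 1 := ⟨k - 1, by omega⟩
    obtain ⟨m, hm⟩ := ZMod.intCast_surjective (u : ZMod (2 ^ (j + 1)))
    have hsq : ((2 : ℤ) ^ (j + 1)) ∣ (m - 1) * (m + 1) := by
      have h2 : (((m - 1) * (m + 1) : ℤ) : ZMod (2 ^ (j + 1))) = 0 := by
        push_cast
        rw [hm]
        have := congrArg Units.val hu
        simp only [Units.val_pow_eq_pow_val, Units.val_one] at this
        linear_combination this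
      simpa using (ZMod.intCast_zmod_eq_zero_iff_dvd _ _).1 h2
    have hodd : Odd m := by
      have h2 : (2 : ℤ) ∣ (m - 1) * (m + 1) := (dvd_pow_self 2 (Nat.succ_ne_zero j)).trans hsq
      rcases Int.even_or_odd m with he | ho
      · exfalso
        obtain ⟨t, rfl⟩ := he
        rcases Int.prime_two.dvd_mul.1 h2 with h3 | h3 <;> omega
      · exact ho
    obtain ⟨t, rfl⟩ := hodd
    have h4 : (2 : ℤ) ^ j ∣ 2 * t * (t + 1) := by
      have : (2 : ℤ) * 2 ^ j ∣ 2 * (2 * t * (t + 1)) := by
        rw [← pow_succ']; convert hsq using 1; ring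
      exact Int.dvd_of_mul_dvd_mul_left two_ne_zero this
    have hdiv : ∀ c : ℤ, (2 : ℤ) ^ j ∣ c → ((c : ZMod (2 ^ (j + 1))) = 0 ∨ (c : ZMod (2 ^ (j + 1))) = h) := by
      rintro c ⟨d, rfl⟩
      have h0 : (2 : ZMod (2 ^ (j + 1))) ^ (j + 1) = 0 := by
        have := ZMod.natCast_self (2 ^ (j + 1))
        exact_mod_cast this
      rcases Int.even_or_odd d with ⟨e, rfl⟩ | ⟨e, rfl⟩
      · left
        push_cast
        linear_combination (e : ZMod (2 ^ (j + 1))) * h0
      · right
        simp only [h, Nat.add_sub_cancel]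
        push_cast
        linear_combination (e : ZMod (2 ^ (j + 1))) * h0
    have hcase : (2 : ℤ) ^ j ∣ 2 * t ∨ (2 : ℤ) ^ j ∣ 2 * (t + 1) := by
      rcases Int.even_or_odd t with ht | ht
      · left
        refine (IsCoprime.dvd_of_dvd_mul_right ?_ h4)
        obtain ⟨e, rfl⟩ := ht
        exact IsCoprime.pow_left ⟨-e, 1, by ring⟩
      · right
        refine (IsCoprime.dvd_of_dvd_mul_right (z := t) ?_ (by rwa [mul_right_comm]))
        obtain ⟨e, rfl⟩ := ht
        exact IsCoprime.pow_left ⟨-e, 1, by ring⟩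
    simp only [Finset.mem_insert, Finset.mem_singleton]
    rw [← hm]
    push_cast
    rcases hcase with hc | hc <;> rcases hdiv _ hc with h5 | h5 <;> push_cast at h5
    · left; linear_combination h5
    · right; right; left; linear_combination h5
    · right; left; linear_combination h5
    · right; right; right; linear_combination h5
  calc Nat.card {u : (ZMod (2 ^ k))ˣ // u ^ 2 = 1}
      ≤ Nat.card ↥({1, -1, 1 + h, -1 + h} : Finset (ZMod (2 ^ k))) :=
        Nat.card_le_card_of_injective (fun u => ⟨_, hf u⟩) fun u v huv =>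
          Subtype.ext (Units.ext (congrArg Subtype.val huv))
    _ ≤ 4 := by
        rw [Nat.card_eq_finsetCard]
        exact Finset.card_le_four

/-- `(H ⧸ A)` embeds in the automorphisms of a cyclic `A`. -/
theorem index_frattini_quotient_le (hH : IsPGroup 2 H) (A : Subgroup H) [A.Normal] [IsCyclic A]
    (hA : Subgroup.centralizer (A : Set H) ≤ A) :
    (frattini (H ⧸ A)).index ≤ 4 ∧
      (∀ k, Nat.card A = 2 ^ (k + 1) → Nat.card (H ⧸ A) ∣ 2 ^ k) ∧
      ∀ a : H, Subgroup.zpowers a = A → orderOf a = 8 → (∀ x : H, x * a * x⁻¹ ≠ a ^ 5) →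
        Nat.card (H ⧸ A) ≤ 2 := by
  classical
  let c : H →* MulAut A := MulAut.conjNormal
  have hker : c.ker = A := by
    refine le_antisymm (fun x hx => hA ?_) fun x hx => ?_
    · intro y hy
      have := congrArg Subtype.val (DFunLike.congr_fun (show c x = 1 from hx) ⟨y, hy⟩)
      simp only [c, MulAut.conjNormal_apply, MulAut.one_apply] at this
      exact (mul_inv_eq_iff_eq_mul.1 this).symm
    · have hab := (IsCyclic.commGroup (α := A))
      refine MulEquiv.ext fun y => Subtype.ext ?_
      have h := congrArg Subtype.val (IsMulCommutative.is_comm.comm (⟨x, hx⟩ : A) y)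
      simp only [c, MulAut.conjNormal_apply, MulAut.one_apply, Subgroup.coe_mul] at h ⊢
      rw [h, mul_inv_cancel_right]
  let cq : H ⧸ A →* MulAut A := QuotientGroup.lift A c hker.ge
  have hinj : Function.Injective cq := by
    rw [← MonoidHom.ker_eq_bot_iff, QuotientGroup.ker_lift, hker, QuotientGroup.map_mk'_self]
  obtain ⟨k, hk⟩ := PGroup.card_eq_pow hH A
  let g : H ⧸ A →* (ZMod (Nat.card A))ˣ :=
    (IsCyclic.mulAutMulEquiv A).toMonoidHom.comp cq
  have hg : Function.Injective g := (IsCyclic.mulAutMulEquiv A).injective.comp hinj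
  have hcomm : ∀ x y : H ⧸ A, x * y = y * x := fun x y => hg (by rw [map_mul, map_mul, mul_comm])
  have hQ : IsPGroup 2 (H ⧸ A) := hH.to_quotient A
  refine ⟨?_, ?_, ?_⟩
  · let sq : H ⧸ A →* H ⧸ A :=
      { toFun := fun x => x ^ 2
        map_one' := one_pow 2
        map_mul' := fun x y => (show Commute x y from hcomm x y).mul_pow 2 }
    have h1 : sq.range ≤ frattini (H ⧸ A) := by
      rintro _ ⟨x, rfl⟩
      exact PGroup.pow_mem_frattini hQ x
    refine (Nat.le_of_dvd (Nat.pos_of_ne_zero Subgroup.index_ne_zero_of_finite)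
      (Subgroup.index_dvd_of_le h1)).trans ?_
    have h2 : sq.range.index = Nat.card sq.ker := by
      have h3 := Subgroup.card_mul_index sq.range
      have h4 := Subgroup.card_mul_index sq.ker
      rw [Subgroup.index_ker] at h4
      exact Nat.eq_of_mul_eq_mul_left (Nat.card_pos (α := sq.range))
        (h3.trans (by rw [← h4, mul_comm]))
    rw [h2]
    have h5 : Nat.card sq.ker ≤ Nat.card {u : (ZMod (Nat.card A))ˣ // u ^ 2 = 1} :=
      Nat.card_le_card_of_injective
        (fun x => ⟨g x, by rw [← map_pow, show (x : H ⧸ A) ^ 2 = 1 from x.2, map_one]⟩)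
        fun x y hxy => Subtype.ext (hg (congrArg Subtype.val hxy))
    rw [hk] at h5
    exact h5.trans (card_sq_eq_one_le k)
  · intro j hj
    have := Subgroup.card_dvd_of_injective cq hinj
    rwa [IsCyclic.card_mulAut, hj, Nat.totient_prime_pow_succ Nat.prime_two, Nat.add_one_sub_one,
      mul_one] at this
  · intro a ha hord hne
    have hcardA : Nat.card A = 8 := by rw [← ha, Nat.card_zpowers, hord]
    have h4 : Nat.card (MulAut A) = 4 := by rw [IsCyclic.card_mulAut, hcardA]; decide
    have hdvd := Subgroup.card_dvd_of_injective cq hinj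
    rw [h4] at hdvd
    have hlt : Nat.card (H ⧸ A) ≠ 4 := by
      intro h
      have hcard : Nat.card (MulAut A) ≤ Nat.card (H ⧸ A) := by rw [h, h4]
      have hbij : Function.Bijective cq :=
        (Nat.bijective_iff_injective_and_card cq).2 ⟨hinj, by rw [h, h4]⟩
      have hco : (Nat.card A).Coprime 5 := by rw [hcardA]; decide
      have hab := IsCyclic.commGroup (α := A)
      let σ : MulAut A := MulEquiv.mk' (powCoprime hco) fun u v => by
        simp only [powCoprime_apply]
        exact (show Commute u v from IsCyclic.isMulCommutative.is_comm.comm u v).mul_pow 5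
      obtain ⟨q, hq⟩ := hbij.2 σ
      obtain ⟨x, rfl⟩ := QuotientGroup.mk_surjective q
      have := congrArg Subtype.val (DFunLike.congr_fun hq ⟨a, ha ▸ Subgroup.mem_zpowers a⟩)
      simp only [cq, c, QuotientGroup.lift_mk, MulAut.conjNormal_apply] at this
      exact hne x (this.trans rfl)
    have hle := Nat.le_of_dvd (by norm_num) hdvd
    rcases Nat.lt_or_ge (Nat.card (H ⧸ A)) 3 with h3 | h3
    · omega
    · exfalso
      have h3' : Nat.card (H ⧸ A) = 3 := by omega
      rw [h3'] at hdvd
      norm_num at hdvd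

end Helpers

universe u v

/-- A faithful action on a group of order `3` is the action of a group of order at most `2`. -/
theorem card_le_two_of_card_three {W : Type u} [AddCommGroup W] [Finite W] (hW : Nat.card W = 3)
    {M : Type v} [Group M] [Finite M] (hM : IsPGroup 2 M) (φ : M →* AddMonoid.End W)
    (hφ : Function.Injective φ) : Nat.card M ≤ 2 := by
  have : Fact (Nat.Prime 3) := ⟨Nat.prime_three⟩
  have : IsAddCyclic W := isAddCyclic_of_prime_card hW
  obtain ⟨w, hw⟩ := IsAddCyclic.exists_generator (α := W)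
  have hle : Nat.card M ≤ Nat.card W := Nat.card_le_card_of_injective (fun m => φ m w) fun m n h =>
    hφ (DFunLike.ext _ _ fun x => by
      obtain ⟨i, rfl⟩ := AddSubgroup.mem_zmultiples_iff.1 (hw x)
      rw [map_zsmul, map_zsmul]
      exact congrArg (i • ·) h)
  obtain ⟨k, hk⟩ := IsPGroup.iff_card.1 hM
  rw [hW, hk] at hle
  rw [hk]
  rcases k with _ | _ | k
  · norm_num
  · norm_num
  · rw [pow_succ, pow_succ] at hle
    have : 1 ≤ 2 ^ k := Nat.one_le_two_pow
    omega

/-- The bound that is proved by induction. -/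
def Bd (v i : ℕ) : Prop := (v = 3 ∧ i ≤ 2) ∨ 2 * i ≤ v

theorem restrict_inj {V : Type u} [AddCommGroup V] [Finite V] (hodd : Odd (Nat.card V))
    {H : Type v} [Group H] (hH : IsPGroup 2 H) (φ : H →* AddMonoid.End V)
    (hφ : Function.Injective φ) (W : AddSubgroup V) (x : H) (hW : ∀ w ∈ W, φ x w = w)
    (hq : ∀ v, φ x v - v ∈ W) : x = 1 := by
  obtain ⟨k, hk⟩ := hH x
  refine hφ (DFunLike.ext _ _ fun v => ?_)
  have hn : ∀ n : ℕ, φ (x ^ n) v = v + n • (φ x v - v) := by
    intro n
    induction n with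
    | zero => simp
    | succ n ih =>
      rw [pow_succ', map_mul, AddMonoid.End.coe_mul, Function.comp_apply, ih, map_add, map_nsmul,
        hW _ (hq v), succ_nsmul]
      abel
  have h := hn (2 ^ k)
  rw [hk, map_one, AddMonoid.End.coe_one, id_eq, left_eq_add] at h
  have hcop : (2 ^ k).Coprime (Nat.card V) :=
    Nat.Coprime.pow_left k ((Nat.coprime_two_left).2 hodd)
  have hcop : (Nat.card V).Coprime (2 ^ k) := hcop.symm
  have h2 : φ x v - v = 0 :=
    (nsmulCoprime hcop).injective (by simp only [nsmulCoprime_apply, h, nsmul_zero])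
  rw [map_one, AddMonoid.End.coe_one, id_eq]
  exact sub_eq_zero.1 h2

set_option maxHeartbeats 400000 in
/-- An invariant proper subgroup. -/
theorem split {V : Type u} [AddCommGroup V] [Finite V] (hodd : Odd (Nat.card V))
    (IH : ∀ (W : Type u) [AddCommGroup W] [Finite W], Nat.card W < Nat.card V → Odd (Nat.card W) →
      1 < Nat.card W → ∀ (K : Type v) [Group K] [Finite K], IsPGroup 2 K →
        ∀ ψ : K →* AddMonoid.End W, Function.Injective ψ → Bd (Nat.card W) (frattini K).index)
    {H : Type v} [Group H] [Finite H] (hH : IsPGroup 2 H) (φ : H →* AddMonoid.End V)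
    (hφ : Function.Injective φ) (W : AddSubgroup V) (hWb : W ≠ ⊥) (hWt : W ≠ ⊤)
    (hinv : ∀ x, ∀ w ∈ W, φ x w ∈ W) :
    ∃ i j, (frattini H).index ≤ i * j ∧ Bd (Nat.card W) i ∧ Bd W.index j ∧
      (Nat.card W = 3 → W.index = 3 → Nat.card H ≤ 4) := by
  let r : H →* AddMonoid.End W :=
    { toFun := fun x => ((φ x).comp W.subtype).codRestrict W fun w => hinv x w w.2
      map_one' := AddMonoidHom.ext fun w => Subtype.ext (by
        show φ 1 (w : V) = w
        rw [map_one]; rfl)
      map_mul' := fun x y => AddMonoidHom.ext fun w => Subtype.ext (by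
        show φ (x * y) (w : V) = φ x (φ y w)
        rw [map_mul]; rfl) }
  have hr : ∀ x (w : W), ((r x w : W) : V) = φ x w := fun _ _ => rfl
  let K := r.toHomUnits.ker
  let rq : H ⧸ K →* AddMonoid.End W := (Units.coeHom _).comp (QuotientGroup.kerLift r.toHomUnits)
  have hrq : Function.Injective rq := Units.val_injective.comp (QuotientGroup.kerLift_injective _)
  let s : K →* AddMonoid.End (V ⧸ W) :=
    { toFun := fun x => QuotientAddGroup.map W W (φ x) (fun w hw => hinv x w hw)
      map_one' := AddMonoidHom.ext fun q => QuotientAddGroup.induction_on q fun v => by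
        show ((φ ((1 : K) : H) v : V) : V ⧸ W) = (v : V ⧸ W)
        rw [Subgroup.coe_one, map_one]; rfl
      map_mul' := fun x y => AddMonoidHom.ext fun q => QuotientAddGroup.induction_on q fun v => by
        show ((φ ((x * y : K) : H) v : V) : V ⧸ W) = ((φ (x : H) (φ (y : H) v) : V) : V ⧸ W)
        rw [Subgroup.coe_mul, map_mul]; rfl }
  have hs : Function.Injective s := by
    rw [injective_iff_map_eq_one]
    intro x hx
    refine Subtype.ext (restrict_inj hodd hH φ hφ W x (fun w hw => ?_) fun v => ?_)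
    · have := DFunLike.congr_fun (show r x = 1 from congrArg Units.val (MonoidHom.mem_ker.1 x.2)) ⟨w, hw⟩
      exact congrArg Subtype.val this
    · have := DFunLike.congr_fun hx (QuotientAddGroup.mk v)
      simp only [s, MonoidHom.coe_mk, OneHom.coe_mk, AddMonoid.End.coe_one, id_eq] at this
      exact QuotientAddGroup.eq_iff_sub_mem.1 this
  have hmul := W.card_mul_index
  have hW1 : 1 < Nat.card W := W.one_lt_card_iff_ne_bot.2 hWb
  have hI1 : 1 < W.index := W.one_lt_index_of_ne_top hWt
  have hWlt : Nat.card W < Nat.card V := by nlinarith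
  have hIlt : Nat.card (V ⧸ W) < Nat.card V := by rw [← AddSubgroup.index_eq_card]; nlinarith
  have hWo : Odd (Nat.card W) := Odd.of_dvd_nat hodd ⟨_, hmul.symm⟩
  have hIo : Odd (Nat.card (V ⧸ W)) := Odd.of_dvd_nat hodd (AddSubgroup.card_quotient_dvd_card W)
  refine ⟨_, _, index_frattini_le_mul hH K,
    IH W hWlt hWo hW1 (H ⧸ K) (hH.to_quotient K) rq hrq,
    by rw [AddSubgroup.index_eq_card]
       exact IH (V ⧸ W) hIlt hIo (by rwa [← AddSubgroup.index_eq_card]) K (hH.to_subgroup K) s hs,
    fun h3 h3' => ?_⟩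
  have h1 := card_le_two_of_card_three h3 (hH.to_quotient K) rq hrq
  have h2 := card_le_two_of_card_three (by rw [← AddSubgroup.index_eq_card, h3'])
    (hH.to_subgroup K) s hs
  rw [← Subgroup.card_mul_index K, Subgroup.index_eq_card]
  exact (Nat.mul_le_mul h2 h1).trans (by norm_num)

set_option maxHeartbeats 1000000 in
theorem bound : ∀ (n : ℕ) (V : Type u) [AddCommGroup V] [Finite V], Nat.card V = n → Odd (Nat.card V) →
    1 < Nat.card V → ∀ (H : Type v) [Group H] [Finite H], IsPGroup 2 H →
      ∀ φ : H →* AddMonoid.End V, Function.Injective φ → Bd (Nat.card V) (frattini H).index := by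
  intro n
  induction n using Nat.strong_induction_on with
  | _ n ih =>
  intro V _ _ hn hodd hV1 H _ _ hH φ hφ
  classical
  have IH : ∀ (W : Type u) [AddCommGroup W] [Finite W], Nat.card W < Nat.card V → Odd (Nat.card W) →
      1 < Nat.card W → ∀ (K : Type v) [Group K] [Finite K], IsPGroup 2 K →
        ∀ ψ : K →* AddMonoid.End W, Function.Injective ψ → Bd (Nat.card W) (frattini K).index :=
    fun W _ _ h ho h1 K _ _ hK ψ hψ => ih _ (hn ▸ h) W rfl ho h1 K hK ψ hψ
  have hV3 : 3 ≤ Nat.card V := by obtain ⟨t, ht⟩ := hodd; omega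
  have happ : ∀ x y : H, ∀ v, φ (x * y) v = φ x (φ y v) := fun x y v => by rw [map_mul]; rfl
  have hone : ∀ v, φ 1 v = v := fun v => by rw [map_one]; rfl
  by_cases hred : ∃ W : AddSubgroup V, W ≠ ⊥ ∧ W ≠ ⊤ ∧ ∀ x, ∀ w ∈ W, φ x w ∈ W
  · obtain ⟨W, hb, ht, hinv⟩ := hred
    obtain ⟨i, j, hij, hi, hj, -⟩ := split hodd IH hH φ hφ W hb ht hinv
    have hmul := W.card_mul_index
    have hW1 : 1 < Nat.card W := W.one_lt_card_iff_ne_bot.2 hb
    have hI1 : 1 < W.index := W.one_lt_index_of_ne_top ht
    refine Or.inr ?_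
    rcases hi with ⟨h1, h1'⟩ | h1 <;> rcases hj with ⟨h2, h2'⟩ | h2 <;> rw [← hmul]
    · rw [h1, h2]; nlinarith
    · rw [h1]; nlinarith
    · rw [h2]; nlinarith
    · nlinarith
  push Not at hred
  -- irreducible action
  have hirr : ∀ W : AddSubgroup V, (∀ x, ∀ w ∈ W, φ x w ∈ W) → W = ⊥ ∨ W = ⊤ := fun W h => by
    by_contra hc
    push Not at hc
    obtain ⟨x, w, hw, hxw⟩ := hred W hc.1 hc.2
    exact hxw (h x w hw)
  rcases subsingleton_or_nontrivial H with hs | hs
  · have h1 : Nat.card H = 1 := Nat.card_eq_one_iff_unique.2 ⟨hs, inferInstance⟩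
    have := index_frattini_le_card (H := H)
    exact Or.inr (by omega)
  have hinj2 : ∀ v : V, v + v = 0 → v = 0 := fun v hv =>
    (nsmulCoprime ((Nat.coprime_two_left).2 hodd).symm).injective (by simp [two_nsmul, hv])
  have hhalf : ∀ v : V, ∃ w, w + w = v := fun v => by
    obtain ⟨w, hw⟩ := (nsmulCoprime ((Nat.coprime_two_left).2 hodd).symm).surjective v
    exact ⟨w, by rwa [nsmulCoprime_apply, two_nsmul] at hw⟩
  -- the fixed subgroup
  let Fix : H → AddSubgroup V := fun x =>
    { carrier := {v | φ x v = v}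
      zero_mem' := map_zero (φ x)
      add_mem' := fun {a b} ha hb => by
        simp only [Set.mem_setOf_eq] at ha hb ⊢
        rw [map_add, ha, hb]
      neg_mem' := fun {a} ha => by
        simp only [Set.mem_setOf_eq] at ha ⊢
        rw [map_neg, ha] }
  have hFix : ∀ x v, v ∈ Fix x ↔ φ x v = v := fun _ _ => Iff.rfl
  have hFconj : ∀ x e v, v ∈ Fix e → φ x v ∈ Fix (x * e * x⁻¹) := fun x e v hv => by
    rw [hFix, ← happ, inv_mul_cancel_right, happ, (hFix e v).1 hv]
  have hFbot : ∀ e : H, e ^ 2 = 1 → Fix e = ⊥ → ∀ v, φ e v = -v := fun e he hb v => by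
    have : φ e v + v ∈ Fix e := by
      rw [hFix, map_add, ← happ, ← pow_two, he, hone, add_comm]
    rw [hb, AddSubgroup.mem_bot] at this
    exact eq_neg_of_add_eq_zero_left this
  have hFtop : ∀ e : H, Fix e = ⊤ → e = 1 := fun e he => hφ (DFunLike.ext _ _ fun v => by
    rw [hone]; exact (hFix e v).1 (he ▸ AddSubgroup.mem_top v))
  obtain ⟨z, -, hzc, hzo⟩ := PGroup.exists_orderOf_eq_mem_center hH (⊤ : Subgroup H) top_ne_bot
  have hz1 : z ≠ 1 := fun h => by rw [h, orderOf_one] at hzo; norm_num at hzo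
  have hz2 : z ^ 2 = 1 := by rw [← hzo]; exact pow_orderOf_eq_one z
  have hzneg : ∀ v, φ z v = -v := by
    refine hFbot z hz2 ((hirr _ fun x w hw => ?_).resolve_right fun h => hz1 (hFtop z h))
    have := hFconj x z w hw
    rwa [(Subgroup.mem_center_iff.1 hzc x), mul_inv_cancel_right] at this
  have hze : ∀ e v, φ (z * e) v = -φ e v := fun e v => by rw [happ, hzneg]
  obtain ⟨A, hAn, hAc, hAmax⟩ := PGroup.exists_maximal_abelian_normal (G := H)
  have hAself := PGroup.centralizer_eq_of_maximal_abelian_normal hH hAc hAmax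
  have hzA : z ∈ A := by
    rw [← hAself]
    exact fun y _ => Subgroup.mem_center_iff.1 hzc y
  by_cases hE : ∃ e ∈ A, e ^ 2 = 1 ∧ e ≠ 1 ∧ e ≠ z
  · -- two blocks
    obtain ⟨e₀, he₀A, he₀2, he₀1, he₀z⟩ := hE
    let E1 : Subgroup H :=
      { carrier := {x | x ∈ A ∧ x ^ 2 = 1}
        one_mem' := ⟨one_mem A, one_pow 2⟩
        mul_mem' := fun {a b} ha hb => ⟨mul_mem ha.1 hb.1, by
          rw [(show Commute a b from PGroup.mul_comm_of_isMulCommutative hAc ha.1 hb.1).mul_pow, ha.2, hb.2,
            mul_one]⟩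
        inv_mem' := fun {a} ha => ⟨inv_mem ha.1, by rw [inv_pow, ha.2, inv_one]⟩ }
    have hE1n : E1.Normal := ⟨fun x hx y => ⟨hAn.conj_mem x hx.1 y, by
      rw [conj_pow, hx.2, mul_one, mul_inv_cancel]⟩⟩
    have hZn : (Subgroup.zpowers z).Normal := ⟨fun x hx y => by
      obtain ⟨i, rfl⟩ := hx
      rw [(Subgroup.mem_center_iff.1 (Subgroup.zpow_mem _ hzc i) y), mul_inv_cancel_right]
      exact ⟨i, rfl⟩⟩
    have hZle : Subgroup.zpowers z ≤ E1 := Subgroup.zpowers_le.2 ⟨hzA, hz2⟩
    have hmemZ : ∀ x, x ∈ Subgroup.zpowers z → x = 1 ∨ x = z := fun x hx => by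
      obtain ⟨i, rfl⟩ := hx
      rcases Int.even_or_odd i with ⟨t, rfl⟩ | ⟨t, rfl⟩
      · left; show z ^ (t + t) = 1
        rw [← two_mul, zpow_mul]; norm_cast; simp [hz2]
      · right; show z ^ (2 * t + 1) = z
        rw [zpow_add, zpow_mul]; norm_cast; simp [hz2]
    have hlt : Subgroup.zpowers z < E1 := lt_of_le_not_ge hZle fun h => by
      rcases hmemZ e₀ (h ⟨he₀A, he₀2⟩) with h' | h'
      · exact he₀1 h'
      · exact he₀z h'
    obtain ⟨L, hLn, hZL, hLE, hLc⟩ := PGroup.exists_normal_step hH (Subgroup.zpowers z) E1 hlt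
    obtain ⟨e, heL, heZ⟩ := SetLike.exists_of_lt hZL
    have he2 : e ^ 2 = 1 := (hLE heL).2
    have he1 : e ≠ 1 := fun h => heZ (h ▸ one_mem _)
    have hez : e ≠ z := fun h => heZ (h ▸ Subgroup.mem_zpowers z)
    have hLmem : ∀ x ∈ L, x ∈ Subgroup.zpowers z ∨ x = e ∨ x = z * e := by
      intro x hx
      have hcardL : Nat.card L = 4 := by
        rw [hLc, Nat.card_zpowers, hzo]
      by_contra hne
      push Not at hne
      obtain ⟨hx0, hx1, hx2⟩ := hne
      have h5 : ({1, z, e, z * e, x} : Finset H).card = 5 := by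
        have hze1 : z * e ≠ 1 := fun h => hez (by
          rw [eq_inv_of_mul_eq_one_right h, inv_eq_iff_mul_eq_one, ← pow_two, hz2])
        have hxe : x ≠ 1 := fun h => hx0 (h ▸ one_mem _)
        have hxz : x ≠ z := fun h => hx0 (h ▸ Subgroup.mem_zpowers z)
        rw [Finset.card_insert_of_notMem, Finset.card_insert_of_notMem, Finset.card_insert_of_notMem,
          Finset.card_pair (Ne.symm hx2)]
        · simp [hx1.symm, hz1]
        · simp [hez.symm, hxz.symm, he1, hz1]
        · simp [hz1.symm, he1.symm, hze1.symm, hxe.symm]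
      have h6 : ({1, z, e, z * e, x} : Finset H).card ≤ Nat.card L := by
        rw [← Nat.card_eq_finsetCard]
        refine Nat.card_le_card_of_injective (fun y => ⟨y.1, ?_⟩) fun a b h => Subtype.ext (by
          simpa using congrArg Subtype.val h)
        have hy := y.2
        simp only [Finset.mem_insert, Finset.mem_singleton] at hy
        rcases hy with h | h | h | h | h <;> rw [h]
        · exact one_mem L
        · exact hZL.le (Subgroup.mem_zpowers z)
        · exact heL
        · exact mul_mem (hZL.le (Subgroup.mem_zpowers z)) heL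
        · exact hx
      omega
    have hconj : ∀ x : H, x * e * x⁻¹ = e ∨ x * e * x⁻¹ = z * e := fun x =>
      (hLmem _ (hLn.conj_mem e heL x)).resolve_left fun h => heZ (by
        have := hZn.conj_mem _ h x⁻¹
        simpa [mul_assoc] using this)
    let M : Subgroup H := Subgroup.centralizer {e}
    have hM : ∀ x, x ∈ M ↔ x * e * x⁻¹ = e := fun x => by
      rw [Subgroup.mem_centralizer_singleton_iff, mul_inv_eq_iff_eq_mul]
    let W := Fix e
    have hWb : W ≠ ⊥ := fun h => hez (hφ (DFunLike.ext _ _ fun v => by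
      rw [hFbot e he2 h, hzneg]))
    have hWt : W ≠ ⊤ := fun h => he1 (hFtop e h)
    obtain ⟨h, hh⟩ : ∃ h, h ∉ M := by
      by_contra hall
      push Not at hall
      rcases hirr W (fun x w hw => by
        have := hFconj x e w hw
        rwa [(hM x).1 (hall x)] at this) with h | h
      · exact hWb h
      · exact hWt h
    have hMn : M.Normal := ⟨fun x hx y => by
      rw [hM] at hx ⊢
      rcases hconj y⁻¹ with h1 | h1
      · calc y * x * y⁻¹ * e * (y * x * y⁻¹)⁻¹ = y * (x * (y⁻¹ * e * y⁻¹⁻¹) * x⁻¹) * y⁻¹ := by group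
          _ = y * (y⁻¹ * e * y⁻¹⁻¹) * y⁻¹ := by rw [h1, hx]
          _ = e := by group
      · have hzx : x * (z * e) * x⁻¹ = z * e := by
          rw [← mul_assoc, (Subgroup.mem_center_iff.1 hzc x)]
          simp only [mul_assoc] at hx ⊢
          rw [hx]
        calc y * x * y⁻¹ * e * (y * x * y⁻¹)⁻¹ = y * (x * (y⁻¹ * e * y⁻¹⁻¹) * x⁻¹) * y⁻¹ := by group
          _ = y * (y⁻¹ * e * y⁻¹⁻¹) * y⁻¹ := by rw [h1, hzx]
          _ = e := by group⟩
    have hMidx : M.index = 2 := Subgroup.index_eq_two_iff.2 ⟨h, fun b => by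
      have hhe : h * e * h⁻¹ = z * e := (hconj h).resolve_left fun h' => hh ((hM h).2 h')
      have hbh : b * h * e * (b * h)⁻¹ = z * (b * e * b⁻¹) := by
        calc b * h * e * (b * h)⁻¹ = b * (h * e * h⁻¹) * b⁻¹ := by group
          _ = z * (b * e * b⁻¹) := by
              rw [hhe, ← mul_assoc b z e, Subgroup.mem_center_iff.1 hzc b, mul_assoc, mul_assoc,
                mul_assoc]
      by_cases hb : b ∈ M
      · refine Or.inr ⟨hb, fun hbh' => hh ?_⟩
        simpa using mul_mem (inv_mem hb) hbh'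
      · refine Or.inl ⟨(hM _).2 ?_, hb⟩
        rw [hbh, (hconj b).resolve_left fun h' => hb ((hM b).2 h'), ← mul_assoc, ← pow_two, hz2, one_mul]⟩
    let ψ : M →* AddMonoid.End V := φ.comp M.subtype
    have hψ : Function.Injective ψ := hφ.comp M.subtype_injective
    obtain ⟨i, j, hij, hi, hj, h34⟩ := split hodd IH (hH.to_subgroup M) ψ hψ W hWb hWt
      (fun x w hw => by
        have := hFconj x e w hw
        rwa [(hM x).1 x.2] at this)
    -- `|V : W| = |W|`
    have hsame : W.index = Nat.card W := by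
      let f : V →+ V := (show V →+ V from φ e) + AddMonoidHom.id V
      have hfr : f.range = W := by
        ext v
        constructor
        · rintro ⟨u, rfl⟩
          rw [hFix]
          show φ e (φ e u + u) = φ e u + u
          rw [map_add, ← happ, ← pow_two, he2, hone, add_comm]
        · intro hv
          obtain ⟨w, hw⟩ := hhalf v
          have hwv : φ e w = w := sub_eq_zero.1 (hinj2 _ (by
            have := (hFix e v).1 hv
            rw [← hw, map_add] at this
            rw [sub_add_sub_comm, this, sub_self]))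
          exact ⟨w, by show φ e w + w = v; rw [hwv, hw]⟩
      have hhe : h * e * h⁻¹ = z * e := (hconj h).resolve_left fun h' => hh ((hM h).2 h')
      have hker : ∀ v, v ∈ f.ker ↔ v ∈ Fix (z * e) := fun v => by
        rw [AddMonoidHom.mem_ker, hFix, hze, neg_eq_iff_add_eq_zero]
        rfl
      have hbij : Nat.card W = Nat.card f.ker := Nat.card_congr
        { toFun := fun w => ⟨φ h w, (hker _).2 (hhe ▸ hFconj h e w w.2)⟩
          invFun := fun u => ⟨φ h⁻¹ u, by
            have h1 := hFconj h⁻¹ (z * e) u ((hker _).1 u.2)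
            have h2 : h⁻¹ * (z * e) * h⁻¹⁻¹ = e := by rw [← hhe]; group
            rwa [h2] at h1⟩
          left_inv := fun w => Subtype.ext (by simp [← happ, hone])
          right_inv := fun u => Subtype.ext (by simp [← happ, hone]) }
      have h1 := f.ker.card_mul_index
      rw [AddSubgroup.index_ker, hfr, ← hbij] at h1
      exact Nat.eq_of_mul_eq_mul_left Nat.card_pos (W.card_mul_index.trans h1.symm)
    have hle : (frattini H).index ≤ 2 * (i * j) := by
      refine (index_frattini_le_mul hH M).trans (Nat.mul_le_mul ?_ hij)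
      refine (index_frattini_le_card).trans ?_
      rw [← Subgroup.index_eq_card, hMidx]
    have hmul := W.card_mul_index
    rw [hsame] at hmul hj h34
    refine Or.inr ?_
    by_cases h3 : Nat.card W = 3
    · have h4 := h34 h3 h3
      have h8 : Nat.card H ≤ 8 := by rw [← Subgroup.card_mul_index M, hMidx]; omega
      have hne : (frattini H).index ≠ Nat.card H := index_frattini_ne_card hH fun hc =>
        hh ((hM h).2 (by rw [hc.is_comm.comm h e, mul_inv_cancel_right]))
      obtain ⟨s, hs'⟩ := hH.index (frattini H)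
      have hs8 := index_frattini_le_card (H := H)
      have hlt8 : 2 ^ s < 8 := by omega
      have : s < 3 := (Nat.pow_lt_pow_iff_right (by norm_num : 1 < 2)).1 (show 2 ^ s < 2 ^ 3 by norm_num; exact hlt8)
      have : 2 ^ s ≤ 4 := by interval_cases s <;> norm_num
      rw [h3] at hmul
      omega
    · have hi' := hi.resolve_left fun h' => h3 h'.1
      have hj' := hj.resolve_left fun h' => h3 h'.1
      rw [← hmul]
      calc 2 * (frattini H).index ≤ 2 * (2 * (i * j)) := Nat.mul_le_mul le_rfl hle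
        _ = (2 * i) * (2 * j) := by ring
        _ ≤ Nat.card W * Nat.card W := Nat.mul_le_mul hi' hj'
  -- cyclic `A`
  push Not at hE
  have hAcyc : IsCyclic A := by
    refine PGroup.isCyclic_of_unique_of_isMulCommutative (hH.to_subgroup A) (fun B C hB hC => ?_) hAc
    have key : ∀ B : Subgroup A, Nat.card B = 2 → B = Subgroup.zpowers ⟨z, hzA⟩ := by
      intro B hB
      refine (Subgroup.eq_of_le_of_card_ge ?_ ?_).symm
      · obtain ⟨b, hb⟩ := exists_prime_orderOf_dvd_card' 2 (hB.symm.dvd : 2 ∣ Nat.card B)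
        have hb' : orderOf ((b : A) : H) = 2 := by rw [Subgroup.orderOf_coe, Subgroup.orderOf_coe, hb]
        have := hE _ b.1.2 (hb' ▸ pow_orderOf_eq_one _) (fun h => by
          rw [h, orderOf_one] at hb'; norm_num at hb')
        rw [Subgroup.zpowers_le]
        rw [show (⟨z, hzA⟩ : A) = (b : A) from Subtype.ext this.symm]
        exact b.2
      · rw [Nat.card_zpowers, Subgroup.orderOf_mk, hzo, hB]
    rw [key B hB, key C hC]
  obtain ⟨hQ4, hQdvd, hQ2⟩ := index_frattini_quotient_le hH A hAself.le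
  have hA2 := index_frattini_le_two (hH.to_subgroup A)
  have h8 : (frattini H).index ≤ 8 :=
    (index_frattini_le_mul hH A).trans (Nat.mul_le_mul hQ4 hA2)
  by_cases hbig : 16 ≤ Nat.card V
  · exact Or.inr (by omega)
  by_cases hp : (Nat.card V).Prime
  · have : Fact (Nat.card V).Prime := ⟨hp⟩
    have : IsAddCyclic V := isAddCyclic_of_prime_card rfl
    obtain ⟨w, hw⟩ := IsAddCyclic.exists_generator (α := V)
    have hcomm : ∀ x y : H, x * y = y * x := fun x y => hφ (DFunLike.ext _ _ fun v => by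
      obtain ⟨i, hi⟩ := AddSubgroup.mem_zmultiples_iff.1 (hw (φ x w))
      obtain ⟨j, hj⟩ := AddSubgroup.mem_zmultiples_iff.1 (hw (φ y w))
      obtain ⟨k, rfl⟩ := AddSubgroup.mem_zmultiples_iff.1 (hw v)
      simp only [happ, map_zsmul, ← hj, ← hi, smul_smul]
      congr 1; ring)
    have hAt : A = ⊤ := top_unique fun x _ => hAself ▸ fun y _ => hcomm y x
    have h2 : (frattini H).index ≤ 2 := by
      refine (index_frattini_le_mul hH A).trans ?_
      have h1 : (frattini (H ⧸ A)).index ≤ 1 := index_frattini_le_card.trans (by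
        rw [← Subgroup.index_eq_card, hAt, Subgroup.index_top])
      exact (Nat.mul_le_mul h1 hA2).trans (by norm_num)
    by_cases h3 : Nat.card V = 3
    · exact Or.inl ⟨h3, h2⟩
    · exact Or.inr (by obtain ⟨t, ht⟩ := hodd; omega)
  -- `|V| = 9`
  have hexp : ∀ p : ℕ, p ∣ Nat.card V → p.Prime → ∀ v : V, p • v = 0 := by
    intro p hpd hpp v
    have : Fact p.Prime := ⟨hpp⟩
    let T : AddSubgroup V := (nsmulAddMonoidHom p : V →+ V).ker
    rcases hirr T (fun x w hw => by
      show p • φ x w = 0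
      rw [← map_nsmul, show p • w = 0 from hw, map_zero]) with hT | hT
    · obtain ⟨u, hu⟩ := exists_prime_addOrderOf_dvd_card' p hpd
      have : u ∈ T := show p • u = 0 by rw [← hu]; exact addOrderOf_nsmul_eq_zero u
      rw [hT, AddSubgroup.mem_bot] at this
      rw [this, addOrderOf_zero] at hu
      exact absurd hu.symm hpp.ne_one
    · exact show v ∈ T from hT ▸ AddSubgroup.mem_top v
  have h9 : Nat.card V = 9 := by
    have hlt : Nat.card V < 16 := by omega
    have h15 : Nat.card V ≠ 15 := fun h => by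
      have : Fact (Nat.Prime 5) := ⟨by norm_num⟩
      obtain ⟨u, hu⟩ := exists_prime_addOrderOf_dvd_card' (G := V) 5 (by rw [h]; norm_num)
      have := addOrderOf_dvd_of_nsmul_eq_zero (hexp 3 (by rw [h]; norm_num) Nat.prime_three u)
      rw [hu] at this
      norm_num at this
    obtain ⟨t, ht⟩ := hodd
    rcases (by omega : Nat.card V = 3 ∨ Nat.card V = 5 ∨ Nat.card V = 7 ∨ Nat.card V = 9 ∨
      Nat.card V = 11 ∨ Nat.card V = 13 ∨ Nat.card V = 15) with h | h | h | h | h | h | h
    · exact absurd (h ▸ Nat.prime_three) hp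
    · exact absurd (h ▸ (by norm_num : Nat.Prime 5)) hp
    · exact absurd (h ▸ (by norm_num : Nat.Prime 7)) hp
    · exact h
    · exact absurd (h ▸ (by norm_num : Nat.Prime 11)) hp
    · exact absurd (h ▸ (by norm_num : Nat.Prime 13)) hp
    · exact absurd h h15
  refine Or.inr ?_
  rw [h9]
  obtain ⟨a', ha'⟩ := IsCyclic.exists_generator (α := A)
  have haA : Subgroup.zpowers (a' : H) = A := by
    refine le_antisymm (Subgroup.zpowers_le.2 a'.2) fun x hx => ?_
    obtain ⟨i, hi⟩ := ha' ⟨x, hx⟩
    exact ⟨i, congrArg Subtype.val hi⟩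
  obtain ⟨a, rfl⟩ : ∃ a : H, a = a' := ⟨_, rfl⟩
  obtain ⟨k, hk⟩ := IsPGroup.iff_orderOf.1 hH (a' : H)
  have hfree : ∀ x ∈ A, ∀ v, φ x v = v → v ≠ 0 → x = 1 := by
    intro x hx v hv hv0
    by_contra hx1
    obtain ⟨s, hs'⟩ := IsPGroup.iff_orderOf.1 hH x
    rcases s with _ | s
    · exact hx1 (orderOf_eq_one_iff.1 (by simpa using hs'))
    have hy : orderOf (x ^ 2 ^ s) = 2 := by
      rw [orderOf_pow_of_dvd (pow_ne_zero _ two_ne_zero) (hs' ▸ pow_dvd_pow 2 (Nat.le_succ s)), hs',
        Nat.pow_div (Nat.le_succ s) two_pos]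
      simp
    have hyz : x ^ 2 ^ s = z := hE _ (pow_mem hx _) (by have := pow_orderOf_eq_one (x ^ 2 ^ s); rwa [hy] at this) fun h => by
      rw [h, orderOf_one] at hy; norm_num at hy
    have hfix : ∀ n : ℕ, φ (x ^ n) v = v := fun n => by
      induction n with
      | zero => simp [hone]
      | succ n ih => rw [pow_succ, happ, hv, ih]
    have := hfix (2 ^ s)
    rw [hyz, hzneg] at this
    exact hv0 (hinj2 v (by rw [← neg_eq_iff_add_eq_zero]; exact this))
  have hV0 : ∃ v : V, v ≠ 0 := by
    have : Nontrivial V := Finite.one_lt_card_iff_nontrivial.1 hV1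
    exact exists_ne 0
  obtain ⟨v₀, hv₀⟩ := hV0
  have hk3 : k ≤ 3 := by
    have hlt : Nat.card A < Nat.card V := by
      have hinjA : Function.Injective (fun x : A => φ (x : H) v₀) := fun x y hxy => by
        refine Subtype.ext (inv_mul_eq_one.1 (hfree _ (mul_mem (inv_mem y.2) x.2) v₀ ?_ hv₀)).symm
        rw [happ, show φ (x : H) v₀ = φ (y : H) v₀ from hxy, ← happ, inv_mul_cancel, hone]
      refine lt_of_le_of_ne (Nat.card_le_card_of_injective _ hinjA) fun hc => ?_
      obtain ⟨x, hx⟩ := ((Nat.bijective_iff_injective_and_card _).2 ⟨hinjA, hc⟩).2 0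
      apply hv₀
      rw [← hone v₀, ← inv_mul_cancel (x : H), happ, show φ (x : H) v₀ = 0 from hx, map_zero]
    rw [← haA, Nat.card_zpowers, hk, h9] at hlt
    by_contra hc
    have : 2 ^ 4 ≤ 2 ^ k := Nat.pow_le_pow_right two_pos (by omega)
    omega
  have hfin : Nat.card (H ⧸ A) ≤ 2 → 2 * (frattini H).index ≤ 9 := fun h => by
    have := (index_frattini_le_mul hH A).trans (Nat.mul_le_mul (index_frattini_le_card.trans h) hA2)
    omega
  refine hfin ?_
  rcases k with _ | j
  · -- `A` is trivial, impossible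
    rw [pow_zero] at hk
    exact absurd (show z = 1 by
      have := orderOf_eq_one_iff.1 hk
      rw [← haA, this, Subgroup.zpowers_one_eq_bot] at hzA
      exact hzA) hz1
  have hcardA : Nat.card A = 2 ^ (j + 1) := by rw [← haA, Nat.card_zpowers, hk]
  rcases Nat.lt_or_ge j 2 with hj | hj
  · exact (Nat.le_of_dvd (by positivity) (hQdvd j hcardA)).trans (by
      interval_cases j <;> norm_num)
  have hj2 : j = 2 := by omega
  subst hj2
  refine hQ2 a' haA (by rw [hk]; norm_num) fun x hx => ?_
  have ha4 : (a' : H) ^ 4 = z := hE _ (pow_mem a'.2 4)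
    (by rw [← pow_mul]; exact orderOf_dvd_iff_pow_eq_one.1 (by rw [hk]; norm_num))
    (fun h => by
      have := orderOf_dvd_of_pow_eq_one h
      rw [hk] at this
      norm_num at this)
  -- coordinates in the basis `v₀, a v₀`
  let T := φ (a' : H)
  have hT2 : ∀ v, T (T v) = φ ((a' : H) ^ 2) v := fun v => by rw [pow_two, happ]
  have h3 : ∀ v : V, (3 : ℤ) • v = 0 := fun v => by
    have := hexp 3 (by rw [h9]; norm_num) Nat.prime_three v
    rw [← natCast_zsmul] at this
    exact this
  let S : AddSubgroup V := AddSubgroup.zmultiples v₀ ⊔ AddSubgroup.zmultiples (T v₀)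
  have hS : S = ⊤ := by
    have hlt : AddSubgroup.zmultiples v₀ < S := lt_of_le_not_ge le_sup_left fun h => by
      obtain ⟨i, hi⟩ := AddSubgroup.mem_zmultiples_iff.1
        (h (AddSubgroup.mem_sup_right (AddSubgroup.mem_zmultiples (T v₀))))
      have : i % 3 = 0 ∨ i % 3 = 1 ∨ i % 3 = 2 := by omega
      have hmod : i • v₀ = (i % 3) • v₀ := by
        conv_lhs => rw [← Int.mul_ediv_add_emod i 3, add_smul, mul_smul, h3, zero_add]
      rcases this with h0 | h0 | h0
      · rw [hmod, h0, zero_smul] at hi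
        apply hv₀
        rw [← hone v₀, ← inv_mul_cancel (a' : H), happ]
        change φ (a' : H)⁻¹ (T v₀) = 0
        rw [← hi, map_zero]
      · rw [hmod, h0, one_smul] at hi
        have := hfree _ a'.2 v₀ hi.symm hv₀
        rw [this, orderOf_one] at hk; norm_num at hk
      · rw [hmod, h0] at hi
        have h2 : T (T v₀) = v₀ := by
          rw [← hi, map_zsmul, ← hi, smul_smul]
          have := h3 v₀
          calc ((2 : ℤ) * 2) • v₀ = (3 : ℤ) • v₀ + v₀ := by
                rw [show ((2 : ℤ) * 2) = 3 + 1 from rfl, add_smul, one_smul]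
            _ = v₀ := by rw [this, zero_add]
        have := hfree _ (pow_mem a'.2 2) v₀ (by rw [← hT2]; exact h2) hv₀
        have h4 := orderOf_dvd_of_pow_eq_one this
        rw [hk] at h4; norm_num at h4
    refine AddSubgroup.eq_top_of_card_eq _ ?_
    have h1 : 3 ≤ Nat.card (AddSubgroup.zmultiples v₀) := by
      rw [Nat.card_zmultiples]
      have : Fact (Nat.Prime 3) := ⟨Nat.prime_three⟩
      exact le_of_eq (addOrderOf_eq_prime (by
        have := h3 v₀; rwa [← natCast_zsmul]) hv₀).symm
    have hd := AddSubgroup.card_dvd_of_le hlt.le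
    have hlt' : Nat.card (AddSubgroup.zmultiples v₀) < Nat.card S := by
      by_contra hc
      exact hlt.ne (SetLike.coe_injective (Set.eq_of_subset_of_ncard_le hlt.le
        (by simpa [← Nat.card_coe_set_eq] using not_lt.1 hc)))
    have hdS := S.card_addSubgroup_dvd_card
    rw [h9] at hdS ⊢
    have := Nat.le_of_dvd (by norm_num) hdS
    interval_cases hc : Nat.card S <;> norm_num at hdS <;> omega
  obtain ⟨i', hi', j', hj', hij⟩ : ∃ p, p ∈ AddSubgroup.zmultiples v₀ ∧ ∃ q,
      q ∈ AddSubgroup.zmultiples (T v₀) ∧ p + q = T (T v₀) := by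
    obtain ⟨p, hp', q, hq, hpq⟩ := AddSubgroup.mem_sup.1 (hS ▸ AddSubgroup.mem_top (T (T v₀)) : _ ∈ S)
    exact ⟨p, hp', q, hq, hpq⟩
  obtain ⟨i, rfl⟩ := AddSubgroup.mem_zmultiples_iff.1 hi'
  obtain ⟨j, rfl⟩ := AddSubgroup.mem_zmultiples_iff.1 hj'
  have hgen : ∀ v, T (T v) = i • v + j • T v := by
    intro v
    obtain ⟨p, hp', q, hq, rfl⟩ := AddSubgroup.mem_sup.1 (hS ▸ AddSubgroup.mem_top v : _ ∈ S)
    obtain ⟨c, rfl⟩ := AddSubgroup.mem_zmultiples_iff.1 hp'
    obtain ⟨d, rfl⟩ := AddSubgroup.mem_zmultiples_iff.1 hq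
    simp only [map_add, map_zsmul, ← hij]
    module
  have ha5 : ∀ v, φ x (T v) = -T (φ x v) := fun v => by
    have h5 : x * (a' : H) * x⁻¹ = z * a' := by rw [hx, ← ha4]; group
    rw [← happ, ← hze, ← happ, ← h5]
    group
  have hj0 : ∀ v, j • T v = 0 := by
    intro v
    apply hinj2
    have h1 : φ x (T (T (φ x⁻¹ v))) = T (T v) := by
      rw [ha5, ha5, map_neg, neg_neg, ← happ x, mul_inv_cancel, hone]
    rw [hgen (φ x⁻¹ v), map_add, map_zsmul, map_zsmul, ha5, ← happ, mul_inv_cancel, hone, hgen v,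
      add_right_inj, zsmul_neg] at h1
    calc j • T v + j • T v = j • T v + -(j • T v) := by rw [h1]
      _ = 0 := add_neg_cancel _
  have h4fix : φ ((a' : H) ^ 4) v₀ = v₀ := by
    rw [show (a' : H) ^ 4 = a' ^ 2 * a' ^ 2 by group, happ, ← hT2, ← hT2, hgen v₀, hj0, add_zero,
      map_zsmul, map_zsmul, hgen v₀, hj0, add_zero, smul_smul]
    have hi0 : i % 3 ≠ 0 := fun h0 => by
      have h2 : T (T v₀) = 0 := by
        rw [hgen v₀, hj0, add_zero]
        conv_lhs => rw [← Int.mul_ediv_add_emod i 3, h0, add_zero, mul_smul, h3]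
      rw [hT2] at h2
      apply hv₀
      rw [← hone v₀, ← inv_mul_cancel ((a' : H) ^ 2), happ, h2, map_zero]
    have h1 : i * i % 3 = 1 := by
      have : i % 3 = 1 ∨ i % 3 = 2 := by omega
      rw [Int.mul_emod]
      rcases this with h | h <;> rw [h] <;> rfl
    conv_lhs => rw [← Int.mul_ediv_add_emod (i * i) 3, h1, add_smul, mul_smul, h3, zero_add, one_smul]
  rw [ha4, hzneg] at h4fix
  exact hv₀ (hinj2 v₀ (by rw [← neg_eq_iff_add_eq_zero]; exact h4fix))

/-- Let G be a finite group that is the semidirect product of a normal abelian subgroup N of odd order by a 2-subgroup P, and suppose N is the unique minimal normal subgroup of G. Then the index of the Frattini subgroup of P in P is at most #N − 1. -/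
theorem result {G : Type*} [Group G] [Finite G] (N P : Subgroup G) (hN : N.Normal) (hNab : IsMulCommutative ↥N) (hNodd : Odd (Nat.card ↥N)) (hP : IsPGroup 2 ↥P) (hdisj : N ⊓ P = ⊥) (hprod : N ⊔ P = ⊤) (hmin : N ≠ ⊥ ∧ ∀ M : Subgroup G, M.Normal → M ≠ ⊥ → N ≤ M) : (frattini ↥P).index ≤ Nat.card ↥N - 1 := by
  classical
  let _ : CommGroup ↥N := { (inferInstance : Group ↥N) with mul_comm := hNab.is_comm.comm }
  let φ : ↥P →* AddMonoid.End (Additive ↥N) :=
    { toFun := fun x => MonoidHom.toAdditive (MulAut.conjNormal (H := N) (x : G)).toMonoidHom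
      map_one' := by
        apply AddMonoidHom.ext
        intro n
        show Additive.ofMul (MulAut.conjNormal ((1 : ↥P) : G) n.toMul) = n
        simp
      map_mul' := fun x y => by
        apply AddMonoidHom.ext
        intro n
        show Additive.ofMul (MulAut.conjNormal ((x * y : ↥P) : G) n.toMul) =
          Additive.ofMul (MulAut.conjNormal (x : G) (MulAut.conjNormal (y : G) n.toMul))
        simp }
  have hφ : Function.Injective φ := by
    have hC : Subgroup.centralizer (N : Set G) ⊓ P = ⊥ := by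
      by_contra hne
      have hn : (Subgroup.centralizer (N : Set G) ⊓ P).Normal := by
        refine ⟨fun c hc g => ?_⟩
        have hCn : (Subgroup.centralizer (N : Set G)).Normal := Subgroup.normal_centralizer
        obtain ⟨n, hn', q, hq, rfl⟩ : ∃ n ∈ N, ∃ q ∈ P, n * q = g := by
          rw [← Subgroup.mem_sup_of_normal_left, hprod]
          exact Subgroup.mem_top g
        refine ⟨hCn.conj_mem c hc.1 _, ?_⟩
        have h1 : q * c * q⁻¹ ∈ Subgroup.centralizer (N : Set G) := hCn.conj_mem c hc.1 q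
        have h2 := h1 n hn'
        rw [show n * q * c * (n * q)⁻¹ = n * (q * c * q⁻¹) * n⁻¹ by group, h2, mul_inv_cancel_right]
        exact P.mul_mem (P.mul_mem hq hc.2) (P.inv_mem hq)
      refine hmin.1 (le_bot_iff.1 (hdisj ▸ le_inf le_rfl ((hmin.2 _ hn hne).trans inf_le_right)))
    rw [injective_iff_map_eq_one]
    intro x hx
    have hx' : (x : G) ∈ Subgroup.centralizer (N : Set G) ⊓ P := ⟨fun n hn' => by
      have h1 := congrArg (fun u => (u.toMul : G)) (DFunLike.congr_fun hx (Additive.ofMul ⟨n, hn'⟩))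
      change (x : G) * n * (x : G)⁻¹ = n at h1
      exact (mul_inv_eq_iff_eq_mul.1 h1).symm, x.2⟩
    rw [hC, Subgroup.mem_bot] at hx'
    exact Subtype.ext hx'
  have hN1 : 1 < Nat.card (Additive ↥N) := (Subgroup.one_lt_card_iff_ne_bot N).2 hmin.1
  have hB := bound _ (Additive ↥N) rfl hNodd hN1 ↥P hP φ hφ
  change (frattini ↥P).index ≤ Nat.card (Additive ↥N) - 1
  obtain ⟨t, ht⟩ : Odd (Nat.card (Additive ↥N)) := hNodd
  rcases hB with ⟨h3, h⟩ | h <;> omega

end Cfsg.Agent.S4188
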