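import Cfsg.Statements.S4189
import Cfsg.Agent.Lib.PGroup.Basic
import Cfsg.Agent.Lib.PGroup.Frattini

set_option autoImplicit false
open Cfsg
open scoped commutatorElement

namespace Cfsg.Agent.S4189

theorem map_commutator_eq_self {P : Type*} [Group P] (α : MulAut P) :
    (commutator P).map α.toMonoidHom = commutator P := by
  rw [commutator_def, Subgroup.map_commutator,
    Subgroup.map_top_of_surjective α.toMonoidHom α.surjective]

/-- A commutator in a normal subgroup puts the derived group of a pair there. -/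
theorem commutator_closure_pair_le {P : Type*} [Group P] (a b : P) (W : Subgroup P) [W.Normal]
    (h : ⁅a, b⁆ ∈ W) : ⁅Subgroup.closure ({a, b} : Set P), Subgroup.closure ({a, b} : Set P)⁆ ≤ W := by
  have hab : (a : P ⧸ W) * b = b * a := by
    rw [← QuotientGroup.eq_one_iff] at h
    rw [← commutatorElement_eq_one_iff_mul_comm]
    simpa [commutatorElement_def] using h
  have hgen : ∀ x ∈ Subgroup.closure ({a, b} : Set P), ∀ y ∈ Subgroup.closure ({a, b} : Set P),
      Commute (x : P ⧸ W) (y : P ⧸ W) := by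
    intro x hx y hy
    induction hx, hy using Subgroup.closure_induction₂ with
    | mem x y hx hy =>
      rcases hx with rfl | rfl <;> rcases hy with rfl | rfl
      · exact Commute.refl _
      · exact hab
      · exact hab.symm
      · exact Commute.refl _
    | one_left x _ => rw [QuotientGroup.mk_one]; exact Commute.one_left _
    | one_right x _ => rw [QuotientGroup.mk_one]; exact Commute.one_right _
    | mul_left x y z _ _ _ h1 h2 => rw [QuotientGroup.mk_mul]; exact h1.mul_left h2
    | mul_right y z x _ _ _ h1 h2 => rw [QuotientGroup.mk_mul]; exact h1.mul_right h2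
    | inv_left x y _ _ h1 => rw [QuotientGroup.mk_inv]; exact h1.inv_left
    | inv_right x y _ _ h1 => rw [QuotientGroup.mk_inv]; exact h1.inv_right
  rw [Subgroup.commutator_le]
  intro x hx y hy
  rw [← QuotientGroup.eq_one_iff]
  show QuotientGroup.mk' W ⁅x, y⁆ = 1
  rw [map_commutatorElement, commutatorElement_eq_one_iff_mul_comm]
  exact hgen x hx y hy

/-- A non-2-group of automorphisms contains an element of odd prime order. -/
theorem exists_odd_prime_aut {M : Type*} [Group M] [Finite M] (h : ¬ IsPGroup 2 (MulAut M)) :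
    ∃ (α : MulAut M) (q : ℕ), q.Prime ∧ q ≠ 2 ∧ α ^ q = 1 ∧ α ≠ 1 := by
  haveI : Finite (MulAut M) := Finite.of_injective (fun e : MulAut M => (e : M → M)) DFunLike.coe_injective
  haveI : Fact (Nat.Prime 2) := ⟨Nat.prime_two⟩
  by_contra hh
  push Not at hh
  apply h
  rw [IsPGroup.iff_card]
  refine ⟨_, Nat.eq_prime_pow_of_unique_prime_dvd Nat.card_pos.ne' ?_⟩
  intro q hq hdvd
  by_contra h2
  haveI : Fact q.Prime := ⟨hq⟩
  obtain ⟨α, hα⟩ := exists_prime_orderOf_dvd_card' q hdvd
  have h1 := hh α q hq h2 (hα ▸ pow_orderOf_eq_one α)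
  rw [h1, orderOf_one] at hα
  exact hq.one_lt.ne hα

/-- An automorphism of odd prime order of a 2-group fixing every coset of the derived group is
trivial. -/
theorem eq_one_of_fix_quotient {P : Type*} [Group P] [Finite P] {q : ℕ} (hq : q.Prime) (hq2 : q ≠ 2)
    (hP : IsPGroup 2 P) (α : MulAut P) (hαq : α ^ q = 1)
    (hfix : ∀ x : P, ((α x : P) : P ⧸ commutator P) = (x : P ⧸ commutator P)) : α = 1 := by
  haveI : Fact q.Prime := ⟨hq⟩
  haveI : Fact (Nat.Prime 2) := ⟨Nat.prime_two⟩
  set F := MonoidHom.eqLocus α.toMonoidHom (MonoidHom.id P) with hF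
  have hsup : F ⊔ commutator P = ⊤ := by
    rw [eq_top_iff]
    intro x _
    -- act on the coset of `x`
    let S := {y : P // (y : P ⧸ commutator P) = (x : P ⧸ commutator P)}
    letI : MulAction (Subgroup.zpowers α) S :=
      { smul := fun g y => ⟨(g : MulAut P) y.1, by
          obtain ⟨i, hi⟩ := Subgroup.mem_zpowers_iff.mp g.2
          rw [← hi]
          have hstep : ∀ n : ℕ, ((((α ^ n : MulAut P)) y.1 : P) : P ⧸ commutator P) = (x : P ⧸ commutator P) := by
            intro n
            induction n with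
            | zero => exact y.2
            | succ n ih => rw [pow_succ']; exact (hfix _).trans ih
          have hmod : α ^ i = α ^ ((i % (q : ℤ)).toNat) := by
            have hq0 : (0 : ℤ) ≤ i % (q : ℤ) := Int.emod_nonneg _ (by exact_mod_cast hq.ne_zero)
            conv_lhs => rw [← Int.emod_add_mul_ediv i (q : ℤ)]
            rw [zpow_add, zpow_mul, zpow_natCast, hαq, one_zpow, mul_one, ← zpow_natCast,
              Int.toNat_of_nonneg hq0]
          rw [hmod]
          exact hstep _⟩
        one_smul := fun y => rfl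
        mul_smul := fun g h y => rfl }
    have hG : IsPGroup q (Subgroup.zpowers α) := by
      obtain ⟨j, -, hj⟩ := (Nat.dvd_prime_pow hq).mp
        (show orderOf α ∣ q ^ 1 by rw [pow_one]; exact orderOf_dvd_of_pow_eq_one hαq)
      exact IsPGroup.of_card (n := j) (by rw [Nat.card_zpowers, hj])
    have hcard : ¬ q ∣ Nat.card S := by
      have he : Nat.card S = Nat.card (commutator P) := Nat.card_congr
        { toFun := fun y => ⟨x⁻¹ * y.1, QuotientGroup.eq.mp y.2.symm⟩
          invFun := fun d => ⟨x * d.1, by simp [QuotientGroup.eq]⟩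
          left_inv := fun y => by simp
          right_inv := fun d => by simp }
      rw [he]
      obtain ⟨k, hk⟩ := IsPGroup.iff_card.mp (hP.to_subgroup (commutator P))
      rw [hk]
      intro hd
      exact hq2 ((Nat.prime_dvd_prime_iff_eq hq Nat.prime_two).mp (hq.dvd_of_dvd_pow hd))
    obtain ⟨y, hy⟩ := hG.nonempty_fixed_point_of_prime_not_dvd_card S hcard
    have hyF : y.1 ∈ F := congrArg Subtype.val (hy ⟨α, Subgroup.mem_zpowers α⟩)
    rw [show x = y.1 * (y.1⁻¹ * x) by group]
    exact mul_mem (Subgroup.mem_sup_left hyF) (Subgroup.mem_sup_right (QuotientGroup.eq.mp y.2))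
  have hF1 : F = ⊤ := by
    rw [← Subgroup.closure_eq F]
    refine PGroup.closure_eq_top_of_sup_frattini ?_
    rw [Subgroup.closure_eq]
    exact top_le_iff.mp (hsup.ge.trans (sup_le_sup_left (PGroup.commutator_le_frattini hP) _))
  ext x
  exact (hF1 ▸ Subgroup.mem_top x : x ∈ F)

/-- A group of order 8 with the relations of `Q₈`. -/
noncomputable def quaternionEquiv {P : Type*} [Group P] [Finite P] (a b : P) (ha : orderOf a = 4)
    (hb : b * b = a * a) (hrel : b⁻¹ * a * b = a⁻¹) (hgen : Subgroup.closure ({a, b} : Set P) = ⊤)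
    (hcard : Nat.card P = 2 * 4) : QuaternionGroup 2 ≃* P :=
  let f : QuaternionGroup 2 → P
    | .a i => a ^ i.val
    | .xa i => b * a ^ i.val
  have hadd : ∀ i j : ZMod (2 * 2), a ^ (i + j).val = a ^ i.val * a ^ j.val := fun i j => by
    have h4 : orderOf a = 2 * 2 := ha
    rw [ZMod.val_add, ← pow_add]
    conv_rhs => rw [← pow_mod_orderOf, h4]
  have hsub : ∀ i j : ZMod (2 * 2), a ^ (j - i).val = (a ^ i.val)⁻¹ * a ^ j.val := fun i j => by
    rw [eq_inv_mul_iff_mul_eq, ← hadd, add_sub_cancel]
  have hswap : ∀ n : ℕ, a ^ n * b = b * (a ^ n)⁻¹ := fun n => by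
    have h1 : b⁻¹ * a ^ n * b = (a ^ n)⁻¹ := by
      have := (conj_pow (i := n) (a := b⁻¹) (b := a)).symm
      rw [inv_inv] at this
      rw [this, hrel, inv_pow]
    calc a ^ n * b = b * (b⁻¹ * a ^ n * b) := by group
      _ = _ := by rw [h1]
  have htwo : a ^ ((2 : ℕ) : ZMod (2 * 2)).val = a * a := by
    rw [show ((2 : ℕ) : ZMod (2 * 2)).val = 2 from rfl, pow_two]
  let φ : QuaternionGroup 2 →* P := MonoidHom.mk' f fun x y => by
    rcases x with i | i <;> rcases y with j | j
    · exact hadd i j
    · show b * a ^ (j - i).val = a ^ i.val * (b * a ^ j.val)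
      rw [hsub, ← mul_assoc (a ^ i.val), hswap, mul_assoc]
    · show b * a ^ (i + j).val = b * a ^ i.val * a ^ j.val
      rw [hadd, mul_assoc]
    · show a ^ (((2 : ℕ) : ZMod (2 * 2)) + j - i).val = b * a ^ i.val * (b * a ^ j.val)
      rw [hsub, hadd, htwo, ← hb]
      have hc : (a ^ i.val)⁻¹ * (b * b) = b * b * (a ^ i.val)⁻¹ := by
        rw [hb]
        exact ((Commute.pow_self a i.val).inv_left.mul_right (Commute.pow_self a i.val).inv_left).eq
      calc (a ^ i.val)⁻¹ * (b * b * a ^ j.val) = ((a ^ i.val)⁻¹ * (b * b)) * a ^ j.val := by group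
        _ = b * b * (a ^ i.val)⁻¹ * a ^ j.val := by rw [hc]
        _ = b * (b * (a ^ i.val)⁻¹) * a ^ j.val := by group
        _ = b * (a ^ i.val * b) * a ^ j.val := by rw [hswap]
        _ = _ := by group
  have hsurj : Function.Surjective φ := by
    rw [← MonoidHom.range_eq_top, eq_top_iff, ← hgen, Subgroup.closure_le]
    rintro x (rfl | rfl)
    · exact ⟨.a 1, by show x ^ (1 : ZMod (2 * 2)).val = x; exact pow_one x⟩
    · exact ⟨.xa 0, by show x * a ^ (0 : ZMod (2 * 2)).val = x; simp⟩
  MulEquiv.ofBijective φ ((Nat.bijective_iff_surjective_and_card φ).mpr ⟨hsurj, by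
    rw [hcard, Nat.card_eq_fintype_card, QuaternionGroup.card]⟩)


/-- Let P be a finite non-abelian 2-group whose commutator subgroup has index 4 and whose automorphism group is not a 2-group (some automorphism has order that is not a power of 2). Then P is isomorphic to the quaternion group of order 8. -/
theorem result {P : Type*} [Group P] [Finite P] (hP : IsPGroup 2 P) (hna : ¬ IsMulCommutative P) (h4 : (commutator P).index = 4) (haut : ¬ IsPGroup 2 (MulAut P)) : Nonempty (P ≃* QuaternionGroup 2) := by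
  classical
  haveI : Fact (Nat.Prime 2) := ⟨Nat.prime_two⟩
  obtain ⟨α, q, hq, hq2, hαq, hα1⟩ := exists_odd_prime_aut haut
  set D := commutator P with hD
  have hDα : ∀ x ∈ D, α x ∈ D := fun x hx => by
    have := Subgroup.mem_map_of_mem α.toMonoidHom hx
    rwa [map_commutator_eq_self α] at this
  have hgen : ∀ S : Set P, Subgroup.closure S ⊔ D = ⊤ → Subgroup.closure S = ⊤ := fun S hS =>
    PGroup.closure_eq_top_of_sup_frattini
      (top_le_iff.mp (hS.ge.trans (sup_le_sup_left (PGroup.commutator_le_frattini hP) _)))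
  have hcyc : ∀ x : P, Subgroup.zpowers x ⊔ D ≠ ⊤ := by
    intro x hx
    rw [Subgroup.zpowers_eq_closure] at hx
    have h := hgen _ hx
    rw [← Subgroup.zpowers_eq_closure] at h
    refine hna ⟨⟨fun a b => ?_⟩⟩
    obtain ⟨i, rfl⟩ := Subgroup.mem_zpowers_iff.mp (h ▸ Subgroup.mem_top a : a ∈ Subgroup.zpowers x)
    obtain ⟨j, rfl⟩ := Subgroup.mem_zpowers_iff.mp (h ▸ Subgroup.mem_top b : b ∈ Subgroup.zpowers x)
    exact ((Commute.refl x).zpow_zpow i j).eq
  have hcardQ : Nat.card (P ⧸ D) = 4 := h4
  -- squares lie in `D`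
  have hsq : ∀ x : P, x ^ 2 ∈ D := by
    intro x
    rw [← QuotientGroup.eq_one_iff, QuotientGroup.mk_pow, ← orderOf_dvd_iff_pow_eq_one]
    have hd : orderOf (x : P ⧸ D) ∣ 2 ^ 2 := by
      have := orderOf_dvd_natCard (x : P ⧸ D)
      rw [hcardQ] at this
      norm_num
      exact this
    obtain ⟨i, hi, hi'⟩ := (Nat.dvd_prime_pow Nat.prime_two).mp hd
    rcases Nat.lt_or_ge i 2 with h | h
    · rw [hi']; exact pow_dvd_pow 2 (show i ≤ 1 by omega)
    exfalso
    apply hcyc x
    rw [eq_top_iff]
    intro g _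
    have htop : Subgroup.zpowers (x : P ⧸ D) = ⊤ :=
      Subgroup.eq_top_of_card_eq _ (by rw [Nat.card_zpowers, hi', show i = 2 by omega, hcardQ]; norm_num)
    obtain ⟨j, hj⟩ := Subgroup.mem_zpowers_iff.mp (htop ▸ Subgroup.mem_top (g : P ⧸ D))
    rw [← QuotientGroup.mk_zpow, QuotientGroup.eq] at hj
    rw [show g = x ^ j * ((x ^ j)⁻¹ * g) by group]
    exact mul_mem (Subgroup.mem_sup_left ⟨j, rfl⟩) (Subgroup.mem_sup_right hj)
  -- `α` fixes no non-trivial coset
  let αb : P ⧸ D → P ⧸ D := Quotient.map' α fun x y h => by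
    rw [QuotientGroup.leftRel_apply] at h ⊢
    rw [← map_inv, ← map_mul]
    exact hDα _ h
  have hαb : ∀ x : P, αb x = ((α x : P) : P ⧸ D) := fun x => rfl
  have hαbmul : ∀ u v, αb (u * v) = αb u * αb v := by
    intro u v
    induction u using QuotientGroup.induction_on with
    | _ u => induction v using QuotientGroup.induction_on with
      | _ v => rw [← QuotientGroup.mk_mul, hαb, map_mul, QuotientGroup.mk_mul, hαb, hαb]
  have hqiter : ∀ x : P, (αb^[q]) x = (x : P ⧸ D) := by
    intro x
    have : ∀ j, (αb^[j]) x = (((α ^ j) x : P) : P ⧸ D) := by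
      intro j
      induction j with
      | zero => rfl
      | succ j ih => rw [Function.iterate_succ_apply', ih, hαb, pow_succ']; rfl
    rw [this, hαq]; rfl
  have hnofix : ∃ x : P, ((α x : P) : P ⧸ D) ≠ (x : P ⧸ D) := by
    by_contra hall
    push Not at hall
    exact hα1 (eq_one_of_fix_quotient hq hq2 hP α hαq hall)
  obtain ⟨a, ha⟩ := hnofix
  set b := α a with hb
  have haD : (a : P ⧸ D) ≠ 1 := fun h => ha (by
    have h' := congrArg αb h
    have h1 : αb 1 = 1 := by
      show αb ((1 : P) : P ⧸ D) = ((1 : P) : P ⧸ D)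
      rw [hαb, map_one]
    rw [hαb, h1] at h'
    rw [h', h])
  have hcases : ∀ v : P ⧸ D, v = 1 ∨ v = (a : P ⧸ D) ∨ v = (b : P ⧸ D) ∨ v = (a : P ⧸ D) * (b : P ⧸ D) := by
    haveI := Fintype.ofFinite (P ⧸ D)
    have hbD : (b : P ⧸ D) ≠ 1 := fun h => haD (by
      have : ∀ j, (αb^[j]) (1 : P ⧸ D) = 1 := by
        intro j
        induction j with
        | zero => rfl
        | succ j ih =>
          rw [Function.iterate_succ_apply', ih]
          show αb ((1 : P) : P ⧸ D) = ((1 : P) : P ⧸ D)
          rw [hαb, map_one]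
      have h2 := hqiter a
      obtain ⟨j, rfl⟩ : ∃ j, q = j + 1 := ⟨q - 1, by have := hq.pos; omega⟩
      rw [Function.iterate_succ_apply, hαb, ← hb, h, this] at h2
      exact h2.symm)
    have hab1 : (a : P ⧸ D) * (b : P ⧸ D) ≠ 1 := fun h => ha (by
      have h2 : (a : P ⧸ D) * (a : P ⧸ D) = 1 := by
        rw [← QuotientGroup.mk_mul, ← sq]; exact (QuotientGroup.eq_one_iff _).mpr (hsq a)
      exact mul_left_cancel (h.trans h2.symm))
    have hne1 : (a : P ⧸ D) * (b : P ⧸ D) ≠ (a : P ⧸ D) := fun h => hbD (by simpa using h)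
    have hne2 : (a : P ⧸ D) * (b : P ⧸ D) ≠ (b : P ⧸ D) := fun h => haD (by simpa using h)
    have hcard : ({1, (a : P ⧸ D), (b : P ⧸ D), (a : P ⧸ D) * (b : P ⧸ D)} : Finset (P ⧸ D)).card = 4 := by
      rw [Finset.card_insert_of_notMem, Finset.card_insert_of_notMem, Finset.card_pair hne2.symm]
      · simp [ha.symm, hne1.symm]
      · simp [haD.symm, hbD.symm, hab1.symm]
    have huniv := Finset.eq_univ_of_card _ (hcard.trans (by rw [← hcardQ, Nat.card_eq_fintype_card]))
    intro v
    have hv : v ∈ ({1, (a : P ⧸ D), (b : P ⧸ D), (a : P ⧸ D) * (b : P ⧸ D)} : Finset (P ⧸ D)) :=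
      huniv ▸ Finset.mem_univ v
    simpa using hv
  -- `a` and `b` generate `P`
  have hclos : Subgroup.closure ({a, b} : Set P) = ⊤ := by
    refine hgen _ (eq_top_iff.mpr fun g _ => ?_)
    have hag : a ∈ Subgroup.closure ({a, b} : Set P) := Subgroup.subset_closure (by simp)
    have hbg : b ∈ Subgroup.closure ({a, b} : Set P) := Subgroup.subset_closure (by simp)
    have key : ∀ w ∈ Subgroup.closure ({a, b} : Set P), (g : P ⧸ D) = (w : P ⧸ D) →
        g ∈ Subgroup.closure ({a, b} : Set P) ⊔ D := by
      intro w hw h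
      rw [show g = w * (w⁻¹ * g) by group]
      exact mul_mem (Subgroup.mem_sup_left hw) (Subgroup.mem_sup_right (QuotientGroup.eq.mp h.symm))
    rcases hcases g with h | h | h | h
    · exact key 1 (one_mem _) h
    · exact key a hag h
    · exact key b hbg h
    · exact key (a * b) (mul_mem hag hbg) (by rw [h, QuotientGroup.mk_mul])
  set L3 := ⁅D, (⊤ : Subgroup P)⁆ with hL3
  haveI hL3n : L3.Normal := Subgroup.commutator_normal D ⊤
  have hDne : D ≠ ⊥ := fun h => hna ⟨⟨fun x y => by
    have := Subgroup.commutator_mem_commutator (Subgroup.mem_top x) (Subgroup.mem_top y)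
    rw [← commutator_def, ← hD, h, Subgroup.mem_bot, commutatorElement_eq_one_iff_mul_comm] at this
    exact this⟩⟩
  have hlt := PGroup.commutator_top_lt hP D hDne
  have hα3 : ∀ x ∈ L3, α x ∈ L3 := fun x hx => by
    have := Subgroup.mem_map_of_mem α.toMonoidHom hx
    rwa [hL3, Subgroup.map_commutator, map_commutator_eq_self α,
      Subgroup.map_top_of_surjective α.toMonoidHom α.surjective] at this
  -- modulo `L3`: `D` is central
  have hc3 : ∀ d ∈ D, ∀ x : P, (d : P ⧸ L3) * (x : P ⧸ L3) = (x : P ⧸ L3) * (d : P ⧸ L3) := by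
    intro d hd x
    have := Subgroup.commutator_mem_commutator hd (Subgroup.mem_top x)
    rw [← hL3, ← QuotientGroup.eq_one_iff] at this
    rw [← commutatorElement_eq_one_iff_mul_comm]
    simpa [commutatorElement_def] using this
  set A := (a : P ⧸ L3) with hAdef
  set B := (b : P ⧸ L3) with hBdef
  have hA2c : ∀ x : P, ((a ^ 2 : P) : P ⧸ L3) * x = x * ((a ^ 2 : P) : P ⧸ L3) := hc3 _ (hsq a)
  set c := ⁅a, b⁆ with hcdef
  have hcD : c ∈ D := Subgroup.commutator_mem_commutator (Subgroup.mem_top a) (Subgroup.mem_top b)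
  -- the image of `D` is generated by that of `c`, an element of order 2
  have hCA : (c : P ⧸ L3) = A * B * A⁻¹ * B⁻¹ := by
    simp [hcdef, commutatorElement_def, hAdef, hBdef]
  have hC2 : (c : P ⧸ L3) * (c : P ⧸ L3) = 1 := by
    have h1 : A * A * B = B * (A * A) := by simpa [hAdef, hBdef, sq] using hA2c b
    have h2 := hc3 c hcD a
    rw [← hAdef] at h2
    calc (c : P ⧸ L3) * (c : P ⧸ L3) = (c : P ⧸ L3) * (A * B * A⁻¹ * B⁻¹) := by rw [← hCA]
      _ = (c : P ⧸ L3) * A * (B * A⁻¹ * B⁻¹) := by group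
      _ = A * (c : P ⧸ L3) * (B * A⁻¹ * B⁻¹) := by rw [h2]
      _ = A * A * B * (A * A)⁻¹ * B⁻¹ := by rw [hCA]; group
      _ = 1 := by rw [h1]; group
  have hDgen : ∀ d ∈ D, (d : P ⧸ L3) = 1 ∨ (d : P ⧸ L3) = (c : P ⧸ L3) := by
    set W := (Subgroup.zpowers (c : P ⧸ L3)).comap (QuotientGroup.mk' L3) with hW
    have hWn : W.Normal := by
      refine ⟨fun w hw g => ?_⟩
      obtain ⟨i, hi⟩ := Subgroup.mem_zpowers_iff.mp (Subgroup.mem_comap.mp hw)
      refine Subgroup.mem_comap.mpr ⟨i, ?_⟩
      simp only [QuotientGroup.mk'_apply, QuotientGroup.mk_mul, QuotientGroup.mk_inv] at hi ⊢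
      rw [← hi]
      have : Commute (c : P ⧸ L3) (g : P ⧸ L3) := hc3 c hcD g
      rw [← (this.zpow_left i).eq]
      group
    have hDW : D ≤ W := by
      rw [hD, commutator_def, ← hclos]
      refine commutator_closure_pair_le a b W ?_
      exact Subgroup.mem_comap.mpr (Subgroup.mem_zpowers _)
    intro d hd
    obtain ⟨i, hi⟩ := Subgroup.mem_zpowers_iff.mp (Subgroup.mem_comap.mp (hDW hd))
    rw [QuotientGroup.mk'_apply] at hi
    rw [← hi]
    rcases Int.even_or_odd' i with ⟨j, rfl | rfl⟩
    · left; rw [zpow_mul, show ((c : P ⧸ L3)) ^ (2 : ℤ) = 1 by rw [zpow_two, hC2], one_zpow]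
    · right
      rw [zpow_add, zpow_mul, show ((c : P ⧸ L3)) ^ (2 : ℤ) = 1 by rw [zpow_two, hC2], one_zpow, one_mul, zpow_one]
  have hc1 : (c : P ⧸ L3) ≠ 1 := fun h => hlt.not_ge fun d hd => by
    rcases hDgen d hd with h' | h'
    · exact (QuotientGroup.eq_one_iff d).mp h'
    · exact (QuotientGroup.eq_one_iff d).mp (h'.trans h)
  -- the square of `a` is `c`
  have hαL : ∀ x y : P, (x : P ⧸ L3) = (y : P ⧸ L3) → ((α x : P) : P ⧸ L3) = ((α y : P) : P ⧸ L3) := by
    intro x y h
    rw [QuotientGroup.eq] at h ⊢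
    rw [← map_inv, ← map_mul]
    exact hα3 _ h
  have hA2 : A * A = (c : P ⧸ L3) := by
    rcases hDgen (a ^ 2) (hsq a) with h | h
    swap
    · simpa [hAdef, sq] using h
    exfalso
    have h1 : A * A = 1 := by simpa [hAdef, sq] using h
    have step : ∀ x : P, (x : P ⧸ L3) * (x : P ⧸ L3) = 1 →
        ((α x : P) : P ⧸ L3) * ((α x : P) : P ⧸ L3) = 1 := by
      intro x hx
      have := hαL (x * x) 1 (by simpa using hx)
      simpa using this
    have hB : B * B = 1 := step a h1
    -- `α b` lies in the coset of `a * b`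
    have hbα : ∀ d : P, ((d : P) : P ⧸ D) = (a : P ⧸ D) * (b : P ⧸ D) →
        (d : P ⧸ L3) * (d : P ⧸ L3) = (c : P ⧸ L3) := by
      intro d hd
      rw [← QuotientGroup.mk_mul] at hd
      have hz := QuotientGroup.eq.mp hd.symm
      set z := (a * b)⁻¹ * d with hzdef
      have hd' : (d : P ⧸ L3) = A * B * (z : P ⧸ L3) := by
        rw [hAdef, hBdef, ← QuotientGroup.mk_mul, ← QuotientGroup.mk_mul, hzdef]; group
      have hz2 : (z : P ⧸ L3) * (z : P ⧸ L3) = 1 := by
        rcases hDgen z hz with h | h <;> rw [h] <;> simp [hC2]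
      have hzc := hc3 z hz
      rw [hd', hCA]
      have hzab : (z : P ⧸ L3) * (A * B) = A * B * (z : P ⧸ L3) := by
        have := hzc (a * b)
        simpa only [QuotientGroup.mk_mul, ← hAdef, ← hBdef] using this
      generalize (z : P ⧸ L3) = Y at hz2 hzab ⊢
      calc A * B * Y * (A * B * Y) = A * B * (Y * (A * B)) * Y := by group
        _ = A * B * (A * B * Y) * Y := by rw [hzab]
        _ = A * B * A * B * (Y * Y) := by group
        _ = A * B * A * B := by rw [hz2, mul_one]
        _ = A * B * A⁻¹ * B⁻¹ := by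
            rw [inv_eq_of_mul_eq_one_right h1, inv_eq_of_mul_eq_one_right hB]
    have hαb' : ((α b : P) : P ⧸ D) = (a : P ⧸ D) * (b : P ⧸ D) := by
      have hab : ((b : P) : P ⧸ D) = αb a := by rw [hαb]
      rcases hcases (α b : P) with h | h | h | h
      · exfalso
        have h2 : (αb^[q]) a = 1 := by
          obtain ⟨j, rfl⟩ : ∃ j, q = j + 2 := ⟨q - 2, by have := hq.two_le; omega⟩
          rw [Function.iterate_succ_apply, Function.iterate_succ_apply, hαb, ← hb, hαb, h]
          clear * - hαb
          induction j with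
          | zero => rfl
          | succ j ih =>
            rw [Function.iterate_succ_apply', ih]
            show αb ((1 : P) : P ⧸ D) = ((1 : P) : P ⧸ D)
            rw [hαb, map_one]
        exact haD ((hqiter a).symm.trans h2)
      · exfalso
        have hiter : ∀ j, (αb^[2 * j + 1]) a = (b : P ⧸ D) := by
          intro j
          induction j with
          | zero => simp [hαb, hb]
          | succ j ih =>
            rw [show 2 * (j + 1) + 1 = (2 * j + 1) + 1 + 1 by ring, Function.iterate_succ_apply',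
              Function.iterate_succ_apply', ih, hαb, h, hαb]
        obtain ⟨j, hj⟩ := hq.odd_of_ne_two hq2
        have := hiter j
        rw [← hj, hqiter] at this
        exact ha this.symm
      · exfalso
        have hfix : ∀ j, 1 ≤ j → (αb^[j]) a = (b : P ⧸ D) := by
          intro j hj
          induction j, hj using Nat.le_induction with
          | base => simp [hαb, hb]
          | succ j _ ih => rw [Function.iterate_succ_apply', ih, hαb, h]
        exact ha ((hfix q hq.pos).symm.trans (hqiter a))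
      · exact h
    exact hc1 ((hbα _ hαb').symm.trans (step b hB))
  have hB2 : B * B = (c : P ⧸ L3) := by
    have h1 : (((a * a : P)) : P ⧸ L3) = (c : P ⧸ L3) := by simpa [hAdef] using hA2
    have h2 := hαL _ _ h1
    rw [map_mul, QuotientGroup.mk_mul, ← hb, ← hBdef] at h2
    rcases hDgen (α c) (hDα c hcD) with h | h
    · exfalso
      apply hc1
      have h3 : ∀ j, 1 ≤ j → (((α ^ j) c : P) : P ⧸ L3) = 1 := by
        intro j hj
        induction j, hj using Nat.le_induction with
        | base => simpa using h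
        | succ j _ ih =>
          rw [pow_succ']
          show ((α ((α ^ j) c) : P) : P ⧸ L3) = 1
          have := hαL _ 1 (ih.trans (QuotientGroup.mk_one _).symm)
          simpa using this
      simpa [hαq] using h3 q hq.pos
    · exact h2.trans h
  -- so `L3` is trivial
  have hL3bot : L3 = ⊥ := by
    by_contra hne
    refine (PGroup.commutator_top_lt hP L3 hne).not_ge ?_
    set L4 := ⁅L3, (⊤ : Subgroup P)⁆ with hL4
    haveI : L4.Normal := Subgroup.commutator_normal L3 ⊤
    set Z4 := (Subgroup.center (P ⧸ L4)).comap (QuotientGroup.mk' L4) with hZ4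
    have h3Z : L3 ≤ Z4 := fun x hx => Subgroup.mem_comap.mpr (Subgroup.mem_center_iff.mpr fun g => by
      obtain ⟨g, rfl⟩ := QuotientGroup.mk_surjective g
      have := Subgroup.commutator_mem_commutator hx (Subgroup.mem_top g)
      rw [← hL4, ← QuotientGroup.eq_one_iff] at this
      symm
      rw [← commutatorElement_eq_one_iff_mul_comm]
      simpa [commutatorElement_def] using this)
    have haa : a ^ 2 ∈ Z4 := by
      rw [hZ4, Subgroup.mem_comap, Subgroup.mem_center_iff]
      have hab : ((b ^ 2)⁻¹ * a ^ 2) ∈ L3 := by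
        rw [← QuotientGroup.eq, sq, sq, QuotientGroup.mk_mul, QuotientGroup.mk_mul, ← hAdef, ← hBdef, hA2, hB2]
      have hcen := Subgroup.mem_center_iff.mp (Subgroup.mem_comap.mp (h3Z hab))
      have hgenQ : ∀ g : P, g ∈ (Subgroup.centralizer ({QuotientGroup.mk' L4 (a ^ 2)} : Set (P ⧸ L4))).comap (QuotientGroup.mk' L4) := by
        intro g
        have hle : Subgroup.closure ({a, b} : Set P) ≤
            (Subgroup.centralizer ({QuotientGroup.mk' L4 (a ^ 2)} : Set (P ⧸ L4))).comap (QuotientGroup.mk' L4) := by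
          rw [Subgroup.closure_le]
          rintro x (rfl | rfl)
          · rw [SetLike.mem_coe, Subgroup.mem_comap, Subgroup.mem_centralizer_singleton_iff, map_pow]
            exact ((Commute.refl _).pow_right 2).eq
          · rw [SetLike.mem_coe, Subgroup.mem_comap, Subgroup.mem_centralizer_singleton_iff]
            have hsplit : QuotientGroup.mk' L4 (a ^ 2) =
                QuotientGroup.mk' L4 b ^ 2 * QuotientGroup.mk' L4 ((b ^ 2)⁻¹ * a ^ 2) := by
              rw [← map_pow, ← map_mul]; simp
            rw [hsplit]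
            exact ((Commute.refl _).pow_right 2).mul_right (hcen _)
        exact hle (hclos ▸ Subgroup.mem_top g)
      intro g
      obtain ⟨g, rfl⟩ := QuotientGroup.mk'_surjective L4 g
      exact Subgroup.mem_centralizer_singleton_iff.mp (Subgroup.mem_comap.mp (hgenQ g))
    have hDZ : D ≤ Z4 := by
      intro d hd
      rcases hDgen d hd with h | h
      · exact h3Z ((QuotientGroup.eq_one_iff d).mp h)
      · rw [← hA2, hAdef, ← QuotientGroup.mk_mul, QuotientGroup.eq] at h
        have h5 : (a * a)⁻¹ * d ∈ L3 := by simpa [mul_assoc] using inv_mem h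
        rw [show d = a ^ 2 * ((a * a)⁻¹ * d) by rw [sq]; group]
        exact mul_mem haa (h3Z h5)
    rw [hL3, Subgroup.commutator_le]
    intro d hd x _
    rw [← QuotientGroup.eq_one_iff]
    have := Subgroup.mem_center_iff.mp (Subgroup.mem_comap.mp (hDZ hd)) (QuotientGroup.mk' L4 x)
    show QuotientGroup.mk' L4 ⁅d, x⁆ = 1
    rw [map_commutatorElement, commutatorElement_eq_one_iff_mul_comm]
    exact this.symm
  have hinj : ∀ x y : P, (x : P ⧸ L3) = (y : P ⧸ L3) → x = y := by
    intro x y h
    have := QuotientGroup.eq.mp h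
    rw [hL3bot, Subgroup.mem_bot] at this
    exact inv_mul_eq_one.mp this
  have ea : a * a = c := hinj _ _ (by simpa [hAdef] using hA2)
  have eb : b * b = c := hinj _ _ (by simpa [hBdef] using hB2)
  have ec : c * c = 1 := hinj _ _ (by simpa using hC2)
  have ec1 : c ≠ 1 := fun h => hc1 (by rw [h]; rfl)
  have hrel : b⁻¹ * a * b = a⁻¹ := by
    have hca : c * a = a * c := hinj _ _ (by simpa using hc3 c hcD a)
    have h1 : c = a * b * a⁻¹ * b⁻¹ := rfl
    have hcb : c * b = b * c := hinj _ _ (by simpa using hc3 c hcD b)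
    calc b⁻¹ * a * b = b⁻¹ * (a * b * a⁻¹ * b⁻¹) * b * a := by group
      _ = b⁻¹ * (c * b) * a := by rw [← h1]; group
      _ = c * a := by rw [hcb]; group
      _ = a⁻¹ * (a * c * a) := by group
      _ = a⁻¹ * (c * (a * a)) := by rw [← hca]; group
      _ = a⁻¹ := by rw [ea, ec, mul_one]
  have hD2 : Nat.card D = 2 := by
    have hset : (D : Set P) = {1, c} := by
      ext d
      constructor
      · intro hd
        rcases hDgen d hd with h | h
        · exact Or.inl (hinj _ _ (by simpa using h))
        · exact Or.inr (hinj _ _ h)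
      · rintro (rfl | rfl)
        · exact one_mem D
        · exact hcD
    rw [← SetLike.coe_sort_coe, Nat.card_coe_set_eq, hset, Set.ncard_pair (Ne.symm ec1)]
  refine ⟨(quaternionEquiv a b ?_ (by rw [eb, ea]) hrel hclos ?_).symm⟩
  · show orderOf a = 4
    exact orderOf_eq_prime_pow (p := 2) (n := 1)
      (by rw [pow_one, pow_two, ea]; exact ec1)
      (by rw [show (2 : ℕ) ^ 2 = 2 * 2 by norm_num, pow_mul, pow_two, pow_two, ea, ec])
  · rw [← Subgroup.card_mul_index D, hD2, h4]

end Cfsg.Agent.S4189
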