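import Cfsg.Statements.S4190
import Cfsg.Agent.Lib.ClassBound.Main
import Mathlib.Analysis.SpecialFunctions.Log.Base

set_option autoImplicit false
open Cfsg

namespace Cfsg.Agent.S4190

/-- Let G be a finite solvable group and p a prime dividing the index of the Fitting subgroup of G. Then the number of conjugacy classes of G is at least p/(3·log₂ p). -/
theorem result {G : Type*} [Group G] [Finite G] (hG : Group.IsSolvable G) (p : ℕ) [Fact p.Prime] (hp : p ∣ (Cfsg.fittingSubgroup G).index) : (p : ℝ) / (3 * Real.logb 2 p) ≤ Nat.card (ConjClasses G) := by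
  classical
  have hp0 : p.Prime := Fact.out
  have hk2 : 2 ≤ Nat.card (ConjClasses G) := by
    have : Nontrivial G := by
      by_contra h
      rw [not_nontrivial_iff_subsingleton] at h
      have h1 : (Cfsg.fittingSubgroup G).index = 1 :=
        Subgroup.index_eq_one.2 (Subsingleton.elim _ _)
      rw [h1] at hp
      exact hp0.ne_one (Nat.dvd_one.1 hp)
    obtain ⟨g, hg⟩ := exists_ne (1 : G)
    have : Nontrivial (ConjClasses G) :=
      ⟨⟨ConjClasses.mk g, ConjClasses.mk 1, fun h =>
        hg (isConj_one_left.1 (ConjClasses.mk_eq_mk_iff_isConj.1 h))⟩⟩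
    exact Finite.one_lt_card
  set c := Nat.log 2 (p ^ 3)
  have hne : p ^ 3 ≠ 0 := pow_ne_zero _ hp0.ne_zero
  have hpc : p ^ 3 < 2 ^ (c + 1) := Nat.lt_pow_succ_log_self one_lt_two _
  have hck : p ≤ c * Nat.card (ConjClasses G) := by
    by_cases h : 2 * c < p
    · haveI := hG
      exact ClassBound.class_bound hp h hpc
    · calc p ≤ 2 * c := not_lt.1 h
        _ = c * 2 := mul_comm _ _
        _ ≤ c * Nat.card (ConjClasses G) := Nat.mul_le_mul_left c hk2
  have hlog : (c : ℝ) ≤ 3 * Real.logb 2 p := by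
    have h1 : ((2 : ℝ)) ^ (c : ℝ) ≤ (p : ℝ) ^ 3 := by
      rw [Real.rpow_natCast]
      exact_mod_cast Nat.pow_log_le_self 2 hne
    have h2 := (Real.le_logb_iff_rpow_le one_lt_two (by have := hp0.pos; positivity)).2 h1
    rw [Real.logb_pow] at h2
    simpa using h2
  have hpos : 0 < 3 * Real.logb 2 p :=
    mul_pos three_pos (Real.logb_pos one_lt_two (by exact_mod_cast hp0.one_lt))
  rw [div_le_iff₀ hpos]
  calc (p : ℝ) ≤ ((c * Nat.card (ConjClasses G) : ℕ) : ℝ) := by exact_mod_cast hck
    _ = (c : ℝ) * Nat.card (ConjClasses G) := Nat.cast_mul _ _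
    _ ≤ 3 * Real.logb 2 p * Nat.card (ConjClasses G) :=
        mul_le_mul_of_nonneg_right hlog (Nat.cast_nonneg _)
    _ = _ := mul_comm _ _

end Cfsg.Agent.S4190
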