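import Cfsg.Statements.S4192
import Cfsg.Agent.Lib.RealGraph.Structure

set_option autoImplicit false
open Cfsg

namespace Cfsg.Agent.S4192

/-- Let G be a finite group; call an element real when it is conjugate to its inverse, and say that the real-class-size graph of a group is disconnected when the primes dividing its real class sizes split into two non-empty disjoint parts with no real class size divisible by a prime from each part. If the real-class-size graph of G is disconnected, then some real class size of G is even, and either the Sylow 2-subgroups of G are normal, or the subgroup K generated by the 2-elements of G (the smallest normal subgroup of odd index) again has a disconnected real-class-size graph and every real class size of K is odd or a power of 2. -/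
theorem result {G : Type*} [Group G] [Finite G] (h : (∃ π₁ π₂ : Set ℕ, π₁.Nonempty ∧ π₂.Nonempty ∧ Disjoint π₁ π₂ ∧ (∀ q ∈ π₁ ∪ π₂, q.Prime ∧ ∃ n ∈ {n : ℕ | ∃ x : G, IsConj x x⁻¹ ∧ (Subgroup.centralizer ({x} : Set G)).index = n}, q ∣ n) ∧ (∀ q : ℕ, q.Prime → (∃ n ∈ {n : ℕ | ∃ x : G, IsConj x x⁻¹ ∧ (Subgroup.centralizer ({x} : Set G)).index = n}, q ∣ n) → q ∈ π₁ ∨ q ∈ π₂) ∧ ∀ a ∈ π₁, ∀ b ∈ π₂, ∀ n ∈ {n : ℕ | ∃ x : G, IsConj x x⁻¹ ∧ (Subgroup.centralizer ({x} : Set G)).index = n}, ¬ (a ∣ n ∧ b ∣ n))) : (∃ n ∈ {n : ℕ | ∃ x : G, IsConj x x⁻¹ ∧ (Subgroup.centralizer ({x} : Set G)).index = n}, 2 ∣ n) ∧ ((∀ P : Sylow 2 G, (P : Subgroup G).Normal) ∨ ((∃ π₁ π₂ : Set ℕ, π₁.Nonempty ∧ π₂.Nonempty ∧ Disjoint π₁ π₂ ∧ (∀ q ∈ π₁ ∪ π₂, q.Prime ∧ ∃ n ∈ {n : ℕ | ∃ x : ↥(Subgroup.closure {g : G | ∃ k : ℕ, orderOf g = 2 ^ k}), IsConj x x⁻¹ ∧ (Subgroup.centralizer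 ({x} : Set ↥(Subgroup.closure {g : G | ∃ k : ℕ, orderOf g = 2 ^ k}))).index = n}, q ∣ n) ∧ (∀ q : ℕ, q.Prime → (∃ n ∈ {n : ℕ | ∃ x : ↥(Subgroup.closure {g : G | ∃ k : ℕ, orderOf g = 2 ^ k}), IsConj x x⁻¹ ∧ (Subgroup.centralizer ({x} : Set ↥(Subgroup.closure {g : G | ∃ k : ℕ, orderOf g = 2 ^ k}))).index = n}, q ∣ n) → q ∈ π₁ ∨ q ∈ π₂) ∧ ∀ a ∈ π₁, ∀ b ∈ π₂, ∀ n ∈ {n : ℕ | ∃ x : ↥(Subgroup.closure {g : G | ∃ k : ℕ, orderOf g = 2 ^ k}), IsConj x x⁻¹ ∧ (Subgroup.centralizer ({x} : Set ↥(Subgroup.closure {g : G | ∃ k : ℕ, orderOf g = 2 ^ k}))).index = n}, ¬ (a ∣ n ∧ b ∣ n)) ∧ ∀ n ∈ {n : ℕ | ∃ x : ↥(Subgroup.closure {g : G | ∃ k : ℕ, orderOf g = 2 ^ k}), IsConj x x⁻¹ ∧ (Subgroup.centralizer ({x} : Set ↥(Subgroup.closure {g : G | ∃ k : ℕ, orderOf g = 2 ^ k}))).index = n}, Odd n ∨ ∃ j : ℕ, n = 2 ^ j)) := by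
  obtain ⟨π₁, π₂, h₁, h₂, hdisj, hsub, hcover, hnoedge⟩ := h
  have hside : ∀ g : G, IsConj g g⁻¹ →
      RealGraph.OneSided π₁ (RealGraph.csize g) ∨ RealGraph.OneSided π₂ (RealGraph.csize g) := by
    intro g hg
    by_contra hc
    push Not at hc
    obtain ⟨h1, h2⟩ := hc
    simp only [RealGraph.OneSided, not_forall] at h1 h2
    obtain ⟨p, hp, hpn, hp1⟩ := h1
    obtain ⟨q, hq, hqn, hq2⟩ := h2
    have hp2 := (hcover p hp ⟨_, ⟨g, hg, rfl⟩, hpn⟩).resolve_left hp1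
    have hq1 := (hcover q hq ⟨_, ⟨g, hg, rfl⟩, hqn⟩).resolve_right hq2
    exact hnoedge q hq1 p hp2 _ ⟨g, hg, rfl⟩ ⟨hqn, hpn⟩
  have hex : ∀ π π' : Set ℕ, Disjoint π π' → π.Nonempty → π ⊆ π₁ ∪ π₂ →
      (∀ g : G, IsConj g g⁻¹ → RealGraph.OneSided π (RealGraph.csize g) ∨ RealGraph.OneSided π' (RealGraph.csize g)) →
      ∃ g : G, IsConj g g⁻¹ ∧ RealGraph.csize g ≠ 1 ∧ RealGraph.OneSided π (RealGraph.csize g) := by
    intro π π' hd hne hs hside'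
    obtain ⟨q, hq⟩ := hne
    obtain ⟨hqp, n, ⟨g, hg, rfl⟩, hqn⟩ := hsub q (hs hq)
    refine ⟨g, hg, fun h => hqp.ne_one (Nat.dvd_one.mp ((h : _ = 1) ▸ hqn)), ?_⟩
    exact (hside' g hg).resolve_right fun h => Set.disjoint_left.mp hd hq (h q hqp hqn)
  have S : RealGraph.Split G π₁ π₂ := ⟨hdisj, hside,
    hex π₁ π₂ hdisj h₁ Set.subset_union_left hside,
    hex π₂ π₁ hdisj.symm h₂ Set.subset_union_right fun g hg => (hside g hg).symm⟩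
  refine ⟨?_, ?_⟩
  · obtain ⟨g, hg, hg2⟩ := S.exists_even
    exact ⟨_, ⟨g, hg, rfl⟩, hg2⟩
  by_cases hno : RealGraph.NoRealOdd G
  · exact Or.inl fun P => RealGraph.sylow_normal_of_noRealOdd hno P
  obtain ⟨x, hx, -⟩ := RealGraph.exists_realPP hno
  obtain ⟨ρ₁, ρ₂, R, hρ2, hρ⟩ : ∃ ρ₁ ρ₂, RealGraph.Split G ρ₁ ρ₂ ∧ 2 ∈ ρ₁ ∧ ρ₂ ⊆ π₁ ∪ π₂ := by
    rcases S.two_mem hx.1 hx.odd hx.2.1 with h | h
    · exact ⟨_, _, S, h, Set.subset_union_right⟩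
    · exact ⟨_, _, S.symm, h, Set.subset_union_left⟩
  obtain ⟨⟨a, ha, ha2⟩, ⟨b, hb, hb1, hb2⟩, hpow⟩ := R.structure_part hρ2 hno
    (fun q hq => (hsub q (hρ hq)).1) _ rfl
  refine Or.inr ⟨⟨{2}, {q : ℕ | q.Prime ∧ ∃ n ∈ {n : ℕ | ∃ y : ↥(Subgroup.closure {g : G | ∃ k : ℕ, orderOf g = 2 ^ k}), IsConj y y⁻¹ ∧ (Subgroup.centralizer ({y} : Set ↥(Subgroup.closure {g : G | ∃ k : ℕ, orderOf g = 2 ^ k}))).index = n}, ¬ 2 ∣ n ∧ q ∣ n}, ⟨2, rfl⟩, ?_, ?_, ?_, ?_, ?_⟩, ?_⟩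
  · obtain ⟨q, hq, hqd⟩ := Nat.exists_prime_and_dvd hb1
    exact ⟨q, hq, _, ⟨b, hb, rfl⟩, hb2, hqd⟩
  · rw [Set.disjoint_left]
    rintro q (rfl : q = 2) ⟨-, n, -, h2n, hqn⟩
    exact h2n hqn
  · rintro q ((rfl : q = 2) | ⟨hq, n, hn, -, hqn⟩)
    · exact ⟨Nat.prime_two, _, ⟨a, ha, rfl⟩, ha2⟩
    · exact ⟨hq, n, hn, hqn⟩
  · rintro q hq ⟨n, ⟨y, hy, rfl⟩, hqn⟩
    by_cases h2n : 2 ∣ RealGraph.csize y
    · obtain ⟨j, hj⟩ := hpow y hy h2n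
      exact Or.inl ((Nat.prime_dvd_prime_iff_eq hq Nat.prime_two).mp
        (hq.dvd_of_dvd_pow (hj ▸ hqn : q ∣ 2 ^ j)))
    · exact Or.inr ⟨hq, _, ⟨y, hy, rfl⟩, h2n, hqn⟩
  · rintro p (rfl : p = 2) q ⟨hq, m, -, h2m, hqm⟩ n ⟨y, hy, rfl⟩ ⟨h2n, hqn⟩
    obtain ⟨j, hj⟩ := hpow y hy h2n
    have : q = 2 := (Nat.prime_dvd_prime_iff_eq hq Nat.prime_two).mp
      (hq.dvd_of_dvd_pow (hj ▸ hqn : q ∣ 2 ^ j))
    exact h2m (this ▸ hqm)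
  · rintro n ⟨y, hy, rfl⟩
    by_cases h2n : 2 ∣ RealGraph.csize y
    · exact Or.inr (hpow y hy h2n)
    · exact Or.inl (Nat.not_even_iff_odd.mp fun he => h2n (even_iff_two_dvd.mp he))

end Cfsg.Agent.S4192
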