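import Cfsg.Statements.S4193
import Cfsg.Agent.Lib.RealTwoPart.Main
import Cfsg.Agent.S0205
-- import your own Cfsg.Agent.* helpers here

set_option autoImplicit false
open Cfsg

namespace Cfsg.Agent.S4193

/-- Let G be a finite group in which the conjugacy classes of all non-central real elements (elements conjugate to their inverses) have sizes with the same 2-part, and suppose G has a Sylow 2-subgroup S such that every element of S that is conjugate in S to its inverse lies in the centre of S. Then G is solvable and the subgroup generated by the 2-elements of G (the smallest normal subgroup of odd index) has a normal 2-complement. -/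
theorem result {G : Type*} [Group G] [Finite G] (a : ℕ) (h : ∀ x : G, IsConj x x⁻¹ → x ∉ Subgroup.center G → ((Subgroup.centralizer ({x} : Set G)).index).factorization 2 = a) (S : Sylow 2 G) (hS : ∀ s : ↥(S : Subgroup G), IsConj s s⁻¹ → s ∈ Subgroup.center ↥(S : Subgroup G)) : Group.IsSolvable G ∧ Cfsg.HasNormalPComplement 2 ↥(Subgroup.closure {g : G | ∃ k : ℕ, orderOf g = 2 ^ k}) := by
  by_cases hinv : ∀ i : G, i ^ 2 = 1 → i ∈ Subgroup.center G
  · have hc := RealTwoPart.complement_of_central_involutions S hS hinv
    refine ⟨?_, Transfer.HasNormalPComplement_subgroup hc _⟩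
    obtain ⟨P, N, hN, hNP⟩ := hc
    have hodd : Odd (Nat.card N) := by
      rw [← hNP.index_eq_card, ← Nat.not_even_iff_odd, even_iff_two_dvd]
      exact P.not_dvd_index
    haveI := hN
    haveI : Group.IsSolvable N := S0205.result hodd
    haveI : Group.IsSolvable (P : Subgroup G) := by
      haveI := P.2.isNilpotent
      infer_instance
    haveI : Group.IsSolvable (G ⧸ N) :=
      Group.isSolvable_of_surjective (f := (hNP.symm.QuotientMulEquiv).symm.toMonoidHom)
        (hNP.symm.QuotientMulEquiv).symm.surjective
    exact (Group.isSolvable_iff_subgroup_quotient N).mpr ⟨inferInstance, inferInstance⟩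
  · push Not at hinv
    obtain ⟨i, hi, hic⟩ := hinv
    have hiP : IsPGroup 2 (Subgroup.zpowers i) :=
      IsPGroup.of_card_dvd_pow (n := 1) (by
        rw [Nat.card_zpowers, pow_one]; exact orderOf_dvd_of_pow_eq_one hi)
    obtain ⟨T, hT⟩ := hiP.exists_le_sylow
    obtain ⟨g, hg⟩ := MulAction.exists_smul_eq G T S
    set u := g * i * g⁻¹ with hu
    have huS : u ∈ (S : Subgroup G) := by
      rw [← hg, Sylow.coe_subgroup_smul]
      exact ⟨i, hT (Subgroup.mem_zpowers i), rfl⟩
    have hu2 : u * u = 1 := by
      rw [hu, show g * i * g⁻¹ * (g * i * g⁻¹) = g * i ^ 2 * g⁻¹ by rw [pow_two]; group, hi]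
      group
    have huinv : u⁻¹ = u := inv_eq_of_mul_eq_one_right hu2
    have hucen : u ∉ Subgroup.center G := by
      intro h
      apply hic
      have e : g⁻¹ * u * g = i := by rw [hu]; group
      have : g⁻¹ * u * g = u := by
        rw [Subgroup.mem_center_iff.mp h g⁻¹, inv_mul_cancel_right]
      rw [← e, this]; exact h
    have hSC : (S : Subgroup G) ≤ Subgroup.centralizer ({u} : Set G) := by
      intro s hs
      have hc := Subgroup.mem_center_iff.mp (hS ⟨u, huS⟩
        (isConj_iff.mpr ⟨1, Subtype.ext (by simp [huinv])⟩)) ⟨s, hs⟩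
      exact Subgroup.mem_centralizer_singleton_iff.mpr (congrArg Subtype.val hc)
    have ha : a = 0 := by
      rw [← h u (by rw [huinv]) hucen]
      exact Nat.factorization_eq_zero_of_not_dvd fun hd =>
        S.not_dvd_index (hd.trans (Subgroup.index_dvd_of_le hSC))
    have hno : ∀ x : G, IsConj x x⁻¹ → Odd (orderOf x) → x = 1 := by
      intro x hx hxo
      refine RealTwoPart.eq_one_of_odd_index hx hxo fun hd => ?_
      by_cases hxc : x ∈ Subgroup.center G
      · obtain ⟨t, ht⟩ := isConj_iff.mp hx
        have he : x = x⁻¹ := by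
          rw [← ht, Subgroup.mem_center_iff.mp hxc t, mul_inv_cancel_right]
        have hx2 : x ^ 2 = 1 := by rw [pow_two]; exact mul_eq_one_iff_eq_inv.mpr he
        rcases (Nat.dvd_prime Nat.prime_two).mp (orderOf_dvd_of_pow_eq_one hx2) with h1 | h1
        · rw [orderOf_eq_one_iff.mp h1] at hd
          have hc1 : Subgroup.centralizer ({(1 : G)} : Set G) = ⊤ :=
            eq_top_iff.mpr fun y _ => Subgroup.mem_centralizer_singleton_iff.mpr (by simp)
          rw [hc1, Subgroup.index_top] at hd
          norm_num at hd
        · rw [h1] at hxo; exact absurd hxo (by decide)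
      · have h0 := h x hx hxc
        rw [ha] at h0
        exact absurd (Nat.Prime.factorization_pos_of_dvd Nat.prime_two
          Subgroup.index_ne_zero_of_finite hd) (by omega)
    obtain ⟨K, hKn, hK, hKi⟩ := RealTwoPart.exists_normal_two_subgroup hno
    refine ⟨?_, ?_⟩
    · haveI : Group.IsSolvable K := by
        haveI := hK.isNilpotent
        infer_instance
      haveI : Group.IsSolvable (G ⧸ K) := S0205.result (by
        rw [← Subgroup.index_eq_card, ← Nat.not_even_iff_odd, even_iff_two_dvd]
        exact hKi)
      exact (Group.isSolvable_iff_subgroup_quotient K).mpr ⟨inferInstance, inferInstance⟩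
    · set E := Subgroup.closure {g : G | ∃ k : ℕ, orderOf g = 2 ^ k}
      have hE : E ≤ K := by
        rw [Subgroup.closure_le]
        rintro y ⟨k, hk⟩
        have h1 : orderOf (QuotientGroup.mk' K y) ∣ 2 ^ k := hk ▸ orderOf_map_dvd _ y
        have h2 : orderOf (QuotientGroup.mk' K y) ∣ K.index :=
          K.index_eq_card ▸ orderOf_dvd_natCard _
        have h3 : Nat.Coprime (2 ^ k) K.index :=
          ((Nat.prime_two.coprime_iff_not_dvd).mpr hKi).pow_left k
        exact (QuotientGroup.eq_one_iff y).mp
          (orderOf_eq_one_iff.mp (Nat.eq_one_of_dvd_coprimes h3 h1 h2))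
      have hEp : IsPGroup 2 E := hK.to_le hE
      obtain ⟨P, hP⟩ := (hEp.comap_subtype (K := E)).exists_le_sylow
      have hPtop : (P : Subgroup E) = ⊤ := top_le_iff.mp (by
        rw [Subgroup.comap_subtype, Subgroup.subgroupOf_self] at hP; exact hP)
      exact ⟨P, ⊥, inferInstance, hPtop ▸ Subgroup.isComplement'_bot_top⟩

end Cfsg.Agent.S4193
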