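import Cfsg.Statements.S4195
-- import your own Cfsg.Agent.* helpers here

set_option autoImplicit false
open Cfsg
open scoped Pointwise

namespace Cfsg.Agent.S4195

section helpers

variable {G : Type*} [Group G] [Finite G]

theorem order_two (x : G) (hx : x ≠ 1) (P : Sylow 2 G)
    (hP : (P : Subgroup G) ≤ Subgroup.centralizer ({x} : Set G)) (hreal : IsConj x x⁻¹) : orderOf x = 2 := by
  obtain ⟨g, hg⟩ := isConj_iff.1 hreal
  -- powers of g alternate
  have hpow : ∀ n : ℕ, (Even n → g ^ n * x * (g ^ n)⁻¹ = x) ∧ (¬ Even n → g ^ n * x * (g ^ n)⁻¹ = x⁻¹) := by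
    intro n
    induction n with
    | zero => simp
    | succ n ih =>
      have e : g ^ (n + 1) * x * (g ^ (n + 1))⁻¹ = g * (g ^ n * x * (g ^ n)⁻¹) * g⁻¹ := by
        rw [pow_succ']; group
      rw [Nat.even_add_one, not_not, e]
      constructor
      · intro h
        rw [ih.2 h]
        calc g * x⁻¹ * g⁻¹ = (g * x * g⁻¹)⁻¹ := by group
          _ = x := by rw [hg, inv_inv]
      · intro h
        rw [ih.1 h, hg]
  -- the 2-part of g inverts x
  obtain ⟨a, m, hm2, hnm⟩ := Nat.exists_eq_pow_mul_and_not_dvd (orderOf_pos g).ne' 2 (by norm_num)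
  have hodd : ¬ Even m := fun h => hm2 (even_iff_two_dvd.1 h)
  have hinv := (hpow m).2 hodd
  have hh : (g ^ m) ^ 2 ^ a = 1 := by rw [← pow_mul, mul_comm, ← hnm, pow_orderOf_eq_one]
  -- C = C(x) is normalised by g ^ m; consider C ⊔ ⟨g ^ m⟩
  set C := Subgroup.centralizer ({x} : Set G) with hC
  by_contra hne
  have hnotC : g ^ m ∉ C := by
    intro h
    rw [hC, Subgroup.mem_centralizer_singleton_iff] at h
    rw [h, mul_inv_cancel_right] at hinv
    exact hne (orderOf_eq_prime (by rw [pow_two]; nth_rewrite 2 [hinv]; exact mul_inv_cancel x) hx)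
  have hN : g ^ m ∈ Subgroup.normalizer (C : Set G) := by
    rw [Subgroup.mem_normalizer_iff]
    intro b
    simp only [hC, Subgroup.mem_centralizer_singleton_iff]
    have hx' : x = g ^ m * x⁻¹ * (g ^ m)⁻¹ := by
      calc x = (g ^ m * x * (g ^ m)⁻¹)⁻¹ := by rw [hinv, inv_inv]
        _ = _ := by group
    constructor
    · intro hb
      have hb' : Commute b x := hb
      conv_lhs => rw [hx']
      conv_rhs => rw [hx']
      calc g ^ m * b * (g ^ m)⁻¹ * (g ^ m * x⁻¹ * (g ^ m)⁻¹) = g ^ m * (b * x⁻¹) * (g ^ m)⁻¹ := by group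
        _ = g ^ m * (x⁻¹ * b) * (g ^ m)⁻¹ := by rw [hb'.inv_right.eq]
        _ = _ := by group
    · intro hb
      have hb' : Commute (g ^ m * b * (g ^ m)⁻¹) x := hb
      have h2 := hb'.inv_right.eq
      rw [← hinv] at h2
      have h3 : g ^ m * (b * x) * (g ^ m)⁻¹ = g ^ m * (x * b) * (g ^ m)⁻¹ := by
        calc g ^ m * (b * x) * (g ^ m)⁻¹
            = g ^ m * b * (g ^ m)⁻¹ * (g ^ m * x * (g ^ m)⁻¹) := by group
          _ = g ^ m * x * (g ^ m)⁻¹ * (g ^ m * b * (g ^ m)⁻¹) := h2
          _ = _ := by group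
      exact mul_left_cancel (mul_right_cancel h3)
  -- a 2-subgroup containing P and g^m exists: P' = Sylow 2 of C, C normal in C⊔<g^m>
  set H := C ⊔ Subgroup.zpowers (g ^ m) with hH
  have hHN : H ≤ Subgroup.normalizer (C : Set G) :=
    sup_le Subgroup.le_normalizer (Subgroup.zpowers_le.2 hN)
  have : (C.subgroupOf H).Normal := Subgroup.normal_subgroupOf_iff_le_normalizer le_sup_left |>.2 hHN
  have hlt : C.relIndex H ≠ 1 := by
    rw [Ne, Subgroup.relIndex_eq_one]
    exact fun h => hnotC (h (Subgroup.mem_sup_right (Subgroup.mem_zpowers _)))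
  have hdvd : C.relIndex H ∣ 2 ^ a := by
    have e : C.relIndex H = (C.subgroupOf H).index := rfl
    rw [e, Subgroup.index_eq_card]
    have hgen : ∀ q : H ⧸ C.subgroupOf H, q ∈ Subgroup.zpowers (QuotientGroup.mk (⟨g ^ m, Subgroup.mem_sup_right (Subgroup.mem_zpowers _)⟩ : H) : H ⧸ C.subgroupOf H) := by
      intro q
      obtain ⟨⟨y, hy⟩, rfl⟩ := QuotientGroup.mk_surjective q
      have hy' : y ∈ (C : Set G) * (Subgroup.zpowers (g ^ m) : Set G) := by
        rw [← Subgroup.coe_mul_of_right_le_normalizer_left C _ (Subgroup.zpowers_le.2 hN)]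
        exact hy
      obtain ⟨c, hc, z, hz, rfl⟩ := hy'
      obtain ⟨i, rfl⟩ := Subgroup.mem_zpowers_iff.1 hz
      refine Subgroup.mem_zpowers_iff.2 ⟨i, ?_⟩
      rw [← QuotientGroup.mk_zpow, QuotientGroup.eq, Subgroup.mem_subgroupOf]
      simp only [Subgroup.coe_mul, Subgroup.coe_inv, SubgroupClass.coe_zpow]
      have := (Subgroup.mem_normalizer_iff.1 (inv_mem (Subgroup.zpow_mem _ hN i)) c).1 hc
      simpa [mul_assoc] using this
    rw [← orderOf_eq_card_of_forall_mem_zpowers hgen]
    apply orderOf_dvd_of_pow_eq_one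
    rw [← QuotientGroup.mk_pow, QuotientGroup.eq_one_iff, Subgroup.mem_subgroupOf]
    simp [hh]
  obtain ⟨i, -, hi⟩ := (Nat.dvd_prime_pow Nat.prime_two).1 hdvd
  have h2 : 2 ∣ C.relIndex H := by
    rw [hi]
    refine dvd_pow_self 2 ?_
    rintro rfl
    exact hlt (by rw [hi, pow_zero])
  exact P.not_dvd_index ((h2.trans (Subgroup.relIndex_dvd_index_of_le le_sup_left)).trans (Subgroup.index_dvd_of_le hP))

end helpers

/-- Let x be a non-identity element of a finite group G whose centralizer contains a Sylow 2-subgroup of G. If x is conjugate to its inverse, then x has order 2. -/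
theorem result {G : Type*} [Group G] [Finite G] (x : G) (hx : x ≠ 1) (P : Sylow 2 G) (hP : (P : Subgroup G) ≤ Subgroup.centralizer ({x} : Set G)) (hreal : IsConj x x⁻¹) : orderOf x = 2 := by
  exact order_two x hx P hP hreal

end Cfsg.Agent.S4195
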