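import Cfsg.Statements.S4196
import Cfsg.Agent.S4195

set_option autoImplicit false
open Cfsg

namespace Cfsg.Agent.S4196

/-- A finite group G has elementary abelian Sylow 2-subgroups (commutative with every element squaring to the identity) if and only if every 2-element of G has a Sylow 2-subgroup in its centralizer and is conjugate to its inverse. -/
theorem result {G : Type*} [Group G] [Finite G] (P : Sylow 2 G) :
    (IsMulCommutative (P : Subgroup G) ∧ ∀ x ∈ (P : Subgroup G), x ^ 2 = 1) ↔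
      ∀ x : G, (∃ k : ℕ, orderOf x = 2 ^ k) → (∃ Q : Sylow 2 G, (Q : Subgroup G) ≤ Subgroup.centralizer ({x} : Set G)) ∧ IsConj x x⁻¹ := by
  constructor
  · rintro ⟨hc, h2⟩ x ⟨k, hk⟩
    have hx : IsPGroup 2 (Subgroup.zpowers x) :=
      IsPGroup.of_card (n := k) (by rw [Nat.card_zpowers, hk])
    obtain ⟨Q, hQ⟩ := hx.exists_le_sylow
    obtain ⟨g, hg⟩ := MulAction.exists_smul_eq G P Q
    have hconj : ∀ z ∈ (Q : Subgroup G), ∃ w ∈ (P : Subgroup G), z = g * w * g⁻¹ := by
      intro z hz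
      rw [← hg] at hz
      obtain ⟨w, hw, rfl⟩ := hz
      exact ⟨w, hw, rfl⟩
    obtain ⟨w, hw, rfl⟩ := hconj _ (hQ (Subgroup.mem_zpowers x))
    refine ⟨⟨Q, fun z hz => ?_⟩, ?_⟩
    · obtain ⟨v, hv, rfl⟩ := hconj z hz
      rw [Subgroup.mem_centralizer_singleton_iff]
      have := congrArg Subtype.val (mul_comm' (⟨v, hv⟩ : (P : Subgroup G)) ⟨w, hw⟩)
      simp only [Subgroup.coe_mul] at this
      calc g * v * g⁻¹ * (g * w * g⁻¹) = g * (v * w) * g⁻¹ := by group
        _ = g * (w * v) * g⁻¹ := by rw [this]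
        _ = _ := by group
    · have : (g * w * g⁻¹)⁻¹ = g * w * g⁻¹ := by
        rw [inv_eq_iff_mul_eq_one]
        calc g * w * g⁻¹ * (g * w * g⁻¹) = g * w ^ 2 * g⁻¹ := by rw [pow_two]; group
          _ = 1 := by rw [h2 w hw]; group
      rw [this]
  · intro h
    have key : ∀ x ∈ (P : Subgroup G), x ^ 2 = 1 := by
      intro x hx
      obtain ⟨k, hk⟩ := P.isPGroup' ⟨x, hx⟩
      have hk' : x ^ 2 ^ k = 1 := by simpa [Subtype.ext_iff] using hk
      obtain ⟨i, -, hi⟩ := (Nat.dvd_prime_pow Nat.prime_two).1 (orderOf_dvd_of_pow_eq_one hk')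
      obtain ⟨⟨Q, hQ⟩, hreal⟩ := h x ⟨i, hi⟩
      by_cases hx1 : x = 1
      · simp [hx1]
      rw [← S4195.order_two x hx1 Q hQ hreal, pow_orderOf_eq_one]
    refine ⟨⟨⟨fun a b => ?_⟩⟩, key⟩
    have inv : ∀ z : (P : Subgroup G), z⁻¹ = z := fun z => by
      rw [inv_eq_iff_mul_eq_one, ← pow_two]
      exact Subtype.ext (key z z.2)
    calc a * b = (a * b)⁻¹ := (inv _).symm
      _ = b * a := by rw [mul_inv_rev, inv, inv]

end Cfsg.Agent.S4196
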