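import Cfsg.Statements.S4198
import Mathlib

set_option autoImplicit false
open Cfsg

namespace Cfsg.Agent.S4198

section helpers

open Equiv

variable {n : ℕ}

/-! ### the partition number -/

theorem partition_succ_le (n : ℕ) (hn : 1 ≤ n) :
    Fintype.card (Nat.Partition (n + 1)) ≤ 2 * Fintype.card (Nat.Partition n) := by
  classical
  rw [two_mul, ← Fintype.card_sum]
  have hne : ∀ q : Nat.Partition (n + 1), q.parts.toFinset.Nonempty := by
    intro q
    obtain ⟨a, ha⟩ := Multiset.exists_mem_of_ne_zero (fun h => by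
      have h1 := q.parts_sum
      rw [h, Multiset.sum_zero] at h1
      exact Nat.succ_ne_zero n h1.symm : q.parts ≠ 0)
    exact ⟨a, Multiset.mem_toFinset.2 ha⟩
  let m : Nat.Partition (n + 1) → ℕ := fun q => q.parts.toFinset.min' (hne q)
  have hm : ∀ q, m q ∈ q.parts := fun q => Multiset.mem_toFinset.1 (Finset.min'_mem _ (hne q))
  have hml : ∀ q, ∀ a ∈ q.parts, m q ≤ a := fun q a ha => Finset.min'_le _ a (Multiset.mem_toFinset.2 ha)
  have h1sum : ∀ q : Nat.Partition (n + 1), 1 ∈ q.parts → (q.parts.erase 1).sum = n := by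
    intro q h
    have := q.parts_sum
    rw [← Multiset.cons_erase h, Multiset.sum_cons] at this
    omega
  have h2sum : ∀ q : Nat.Partition (n + 1), 1 ∉ q.parts →
      2 ≤ m q ∧ ((m q - 1) ::ₘ q.parts.erase (m q)).sum = n := by
    intro q h
    have h0 := q.parts_pos (hm q)
    have h1 : m q ≠ 1 := fun h1 => h (by have h2 := hm q; rwa [h1] at h2)
    have := q.parts_sum
    rw [← Multiset.cons_erase (hm q), Multiset.sum_cons] at this
    rw [Multiset.sum_cons]
    omega
  let f : Nat.Partition (n + 1) → Nat.Partition n ⊕ Nat.Partition n := fun q =>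
    if h : 1 ∈ q.parts then
      Sum.inl ⟨q.parts.erase 1, fun {i} hi => q.parts_pos (Multiset.mem_of_mem_erase hi), h1sum q h⟩
    else
      Sum.inr ⟨(m q - 1) ::ₘ q.parts.erase (m q), fun {i} hi => by
        rcases Multiset.mem_cons.1 hi with rfl | hi
        · have := (h2sum q h).1; omega
        · exact q.parts_pos (Multiset.mem_of_mem_erase hi), (h2sum q h).2⟩
  refine Fintype.card_le_of_injective f ?_
  intro a b hab
  by_cases ha : 1 ∈ a.parts <;> by_cases hb : 1 ∈ b.parts
  · simp only [f, dif_pos ha, dif_pos hb] at hab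
    have := congrArg Nat.Partition.parts (Sum.inl.inj hab)
    have h' : a.parts.erase 1 = b.parts.erase 1 := this
    apply Nat.Partition.ext
    rw [← Multiset.cons_erase ha, ← Multiset.cons_erase hb, h']
  · simp only [f, dif_pos ha, dif_neg hb] at hab
    exact absurd hab Sum.inl_ne_inr
  · simp only [f, dif_neg ha, dif_pos hb] at hab
    exact absurd hab Sum.inr_ne_inl
  · simp only [f, dif_neg ha, dif_neg hb] at hab
    have h := congrArg Nat.Partition.parts (Sum.inr.inj hab)
    have h' : (m a - 1) ::ₘ a.parts.erase (m a) = (m b - 1) ::ₘ b.parts.erase (m b) := h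
    have hma := (h2sum a ha).1
    have hmb := (h2sum b hb).1
    have e1 : m b - 1 ∈ (m a - 1) ::ₘ a.parts.erase (m a) := h' ▸ Multiset.mem_cons_self _ _
    have e2 : m a - 1 ∈ (m b - 1) ::ₘ b.parts.erase (m b) := h'.symm ▸ Multiset.mem_cons_self _ _
    have he : m a = m b := by
      rcases Multiset.mem_cons.1 e1 with e1 | e1
      · omega
      · rcases Multiset.mem_cons.1 e2 with e2 | e2
        · omega
        · have := hml a _ (Multiset.mem_of_mem_erase e1)
          have := hml b _ (Multiset.mem_of_mem_erase e2)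
          omega
    apply Nat.Partition.ext
    rw [he, Multiset.cons_inj_right] at h'
    rw [← Multiset.cons_erase (hm a), ← Multiset.cons_erase (hm b), he, h']

theorem partition_five : Fintype.card (Nat.Partition 5) ≤ 2 ^ (5 - 2) := by
  classical
  have hle : ∀ (q : Nat.Partition 5), ∀ a ∈ q.parts, a ∈ Finset.range 6 := fun q a ha =>
    Finset.mem_range.2 (Nat.lt_succ_of_le (q.le_of_mem_parts ha))
  have hsum : ∀ q : Nat.Partition 5, q.parts.count 1 + q.parts.count 2 * 2 + q.parts.count 3 * 3 +
      q.parts.count 4 * 4 + q.parts.count 5 * 5 = 5 := by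
    intro q
    have h := Finset.sum_multiset_count_of_subset q.parts (Finset.range 6)
      (fun a ha => hle q a (Multiset.mem_toFinset.1 ha))
    rw [q.parts_sum] at h
    simp [Finset.sum_range_succ] at h
    omega
  let T : Finset (ℕ × ℕ × ℕ × ℕ) :=
    {(0, 0, 0, 0), (1, 0, 0, 0), (2, 0, 0, 0), (0, 1, 0, 0), (1, 1, 0, 0), (0, 0, 1, 0), (0, 0, 0, 1)}
  let e : Nat.Partition 5 → ℕ × ℕ × ℕ × ℕ := fun q =>
    (q.parts.count 2, q.parts.count 3, q.parts.count 4, q.parts.count 5)
  have h1 : (Finset.univ.image e) ⊆ T := by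
    intro v hv
    obtain ⟨q, -, rfl⟩ := Finset.mem_image.1 hv
    have := hsum q
    simp only [T, e, Finset.mem_insert, Finset.mem_singleton, Prod.mk.injEq]
    omega
  have h2 : Function.Injective e := by
    intro a b h
    simp only [e, Prod.mk.injEq] at h
    apply Nat.Partition.ext
    ext i
    have ha := hsum a
    have hb := hsum b
    by_cases hi : i ∈ Finset.range 6
    · rw [Finset.mem_range] at hi
      interval_cases i
      · rw [Multiset.count_eq_zero.2 (fun h => lt_irrefl 0 (a.parts_pos h)),
          Multiset.count_eq_zero.2 (fun h => lt_irrefl 0 (b.parts_pos h))]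
      all_goals omega
    · rw [Multiset.count_eq_zero.2 (fun h => hi (hle a i h)), Multiset.count_eq_zero.2 (fun h => hi (hle b i h))]
  have h3 := Finset.card_le_card h1
  rw [Finset.card_image_of_injective _ h2, Finset.card_univ] at h3
  refine h3.trans ?_
  decide

theorem partition_le (n : ℕ) (hn : 5 ≤ n) : Fintype.card (Nat.Partition n) ≤ 2 ^ (n - 2) := by
  induction n, hn using Nat.le_induction with
  | base => exact partition_five
  | succ n hn ih =>
    refine (partition_succ_le n (by omega)).trans ?_
    rw [show n + 1 - 2 = n - 2 + 1 by omega, pow_succ, mul_comm]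
    exact Nat.mul_le_mul_right 2 ih

theorem conjClasses_perm_le (n : ℕ) (hn : 5 ≤ n) : Nat.card (ConjClasses (Perm (Fin n))) ≤ 2 ^ (n - 2) := by
  let f : ConjClasses (Perm (Fin n)) → Nat.Partition (Fintype.card (Fin n)) :=
    Quotient.lift (fun σ => σ.partition) fun σ τ h => Perm.partition_eq_of_isConj.1 h
  have hf : Function.Injective f := by
    intro a b
    refine Quotient.inductionOn₂ a b fun σ τ h => Quotient.sound (Perm.partition_eq_of_isConj.2 h)
  refine (Nat.card_le_card_of_injective f hf).trans ?_
  rw [Nat.card_eq_fintype_card, Fintype.card_fin]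
  exact partition_le n hn

/-! ### even classes versus all classes -/

theorem conjClasses_alternating_lt (n : ℕ) (hn : 5 ≤ n) :
    Nat.card (ConjClasses (alternatingGroup (Fin n))) < Nat.card (ConjClasses (Perm (Fin n))) := by
  classical
  let A := alternatingGroup (Fin n)
  let π : ConjClasses A → ConjClasses (Perm (Fin n)) := ConjClasses.map (alternatingGroup (Fin n)).subtype
  -- the shifted cycle type
  let top : Multiset ℕ → ℕ := fun m => m.toFinset.sup id
  let shift : Multiset ℕ → Multiset ℕ := fun m => (top m - 1) ::ₘ m.erase (top m)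
  have split_facts : ∀ g : Perm (Fin n), Subgroup.centralizer {g} ≤ alternatingGroup (Fin n) →
      top g.cycleType ∈ g.cycleType ∧ 3 ≤ top g.cycleType ∧ (∀ c ∈ g.cycleType, Odd c) := by
    intro g hg
    obtain ⟨hodd, hsum, -⟩ := Perm.centralizer_le_alternating_iff.1 hg
    rw [Fintype.card_fin] at hsum
    have hne : g.cycleType.toFinset.Nonempty := by
      obtain ⟨a, ha⟩ := Multiset.exists_mem_of_ne_zero (fun h => by
        rw [h, Multiset.sum_zero] at hsum; omega : g.cycleType ≠ 0)
      exact ⟨a, Multiset.mem_toFinset.2 ha⟩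
    obtain ⟨a, ha, he⟩ := Finset.exists_mem_eq_sup _ hne id
    have hmem : top g.cycleType ∈ g.cycleType := by
      show g.cycleType.toFinset.sup id ∈ _
      rw [he]
      exact Multiset.mem_toFinset.1 ha
    refine ⟨hmem, ?_, hodd⟩
    have h2 := Perm.two_le_of_mem_cycleType hmem
    obtain ⟨k, hk⟩ := hodd _ hmem
    omega
  have hex : ∀ g : Perm (Fin n), Subgroup.centralizer {g} ≤ alternatingGroup (Fin n) →
      ∃ h : Perm (Fin n), h.cycleType = shift g.cycleType := by
    intro g hg
    obtain ⟨hmem, h3, -⟩ := split_facts g hg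
    rw [Perm.exists_with_cycleType_iff]
    refine ⟨?_, ?_⟩
    · have hle : g.cycleType.sum ≤ n := by
        rw [Perm.sum_cycleType]
        exact (Finset.card_le_univ _).trans (le_of_eq (Fintype.card_fin n))
      rw [← Multiset.cons_erase hmem, Multiset.sum_cons] at hle
      simp only [shift, Multiset.sum_cons, Fintype.card_fin]
      omega
    · intro a ha
      rcases Multiset.mem_cons.1 ha with rfl | ha
      · omega
      · exact Perm.two_le_of_mem_cycleType (Multiset.mem_of_mem_erase ha)
  let F : Perm (Fin n) → ConjClasses (Perm (Fin n)) := fun g =>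
    if hg : Subgroup.centralizer {g} ≤ alternatingGroup (Fin n) then ConjClasses.mk (hex g hg).choose
    else ConjClasses.mk g
  have hF : ∀ g h, Subgroup.centralizer {g} ≤ alternatingGroup (Fin n) → F g = ConjClasses.mk h →
      h.cycleType = shift g.cycleType := by
    intro g h hg he
    simp only [F, dif_pos hg] at he
    rw [← (hex g hg).choose_spec]
    exact (Perm.isConj_iff_cycleType_eq.1 (ConjClasses.mk_eq_mk_iff_isConj.1 he)).symm
  -- the shifted class is odd
  have hFodd : ∀ g h, g ∈ alternatingGroup (Fin n) → Subgroup.centralizer {g} ≤ alternatingGroup (Fin n) →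
      F g = ConjClasses.mk h → h ∉ alternatingGroup (Fin n) := by
    intro g h hgA hg he hA
    obtain ⟨hmem, h3, -⟩ := split_facts g hg
    rw [Perm.mem_alternatingGroup, Perm.sign_of_cycleType] at hgA hA
    rw [hF g h hg he] at hA
    have e : g.cycleType.sum + Multiset.card g.cycleType =
        (shift g.cycleType).sum + Multiset.card (shift g.cycleType) + 1 := by
      conv_lhs => rw [← Multiset.cons_erase hmem]
      simp only [shift, Multiset.sum_cons, Multiset.card_cons]
      omega
    rw [e, pow_succ, hA, one_mul] at hgA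
    exact absurd hgA (by decide)
  -- chosen representative for each class
  have hrep : ∀ s : ConjClasses (Perm (Fin n)), ∃ c : ConjClasses A, (∃ c', π c' = s) → π c = s := by
    intro s
    by_cases h : ∃ c', π c' = s
    · obtain ⟨c', hc'⟩ := h
      exact ⟨c', fun _ => hc'⟩
    · exact ⟨ConjClasses.mk 1, fun h' => absurd h' h⟩
  choose rep hrep using hrep
  have key : ∀ c : ConjClasses A, c ≠ rep (π c) → ∀ a : A, ConjClasses.mk a = c →
      Subgroup.centralizer {(a : Perm (Fin n))} ≤ alternatingGroup (Fin n) := by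
    intro c hc a ha u hu
    rw [Subgroup.mem_centralizer_singleton_iff] at hu
    by_contra hodd
    obtain ⟨b, hb⟩ := ConjClasses.mk_surjective (rep (π c))
    have hπ := hrep (π c) ⟨c, rfl⟩
    rw [← hb, ← ha] at hπ
    obtain ⟨t, ht⟩ := isConj_iff.1 (ConjClasses.mk_eq_mk_iff_isConj.1 hπ)
    simp only [Subgroup.subtype_apply] at ht
    apply hc
    rw [← hb, ← ha]
    refine ConjClasses.mk_eq_mk_iff_isConj.2 (IsConj.symm ?_)
    by_cases htA : t ∈ alternatingGroup (Fin n)
    · exact isConj_iff.2 ⟨⟨t, htA⟩, Subtype.ext ht⟩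
    · have hmem : u * t ∈ alternatingGroup (Fin n) := by
        rw [Perm.mem_alternatingGroup] at hodd htA ⊢
        rw [map_mul, (Int.units_eq_one_or _).resolve_left hodd, (Int.units_eq_one_or _).resolve_left htA]
        rfl
      refine isConj_iff.2 ⟨⟨u * t, hmem⟩, Subtype.ext ?_⟩
      show u * t * (b : Perm (Fin n)) * (u * t)⁻¹ = a
      calc u * t * (b : Perm (Fin n)) * (u * t)⁻¹ = u * (t * b * t⁻¹) * u⁻¹ := by group
        _ = a := by rw [ht, hu, mul_inv_cancel_right]
  -- two non-chosen classes over the same class coincide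
  have uniq : ∀ c d : ConjClasses A, π c = π d → c ≠ rep (π c) → d ≠ rep (π d) → c = d := by
    intro c d hcd hc hd
    obtain ⟨a, rfl⟩ := ConjClasses.mk_surjective c
    obtain ⟨b, rfl⟩ := ConjClasses.mk_surjective d
    obtain ⟨r, hr⟩ := ConjClasses.mk_surjective (rep (π (ConjClasses.mk a)))
    have hπ := hrep (π (ConjClasses.mk a)) ⟨_, rfl⟩
    rw [← hr] at hπ
    obtain ⟨t, ht⟩ := isConj_iff.1 (ConjClasses.mk_eq_mk_iff_isConj.1 hπ)
    obtain ⟨t', ht'⟩ := isConj_iff.1 (ConjClasses.mk_eq_mk_iff_isConj.1 (hπ.trans hcd))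
    simp only [Subgroup.subtype_apply] at ht ht'
    have htA : t ∉ alternatingGroup (Fin n) := fun h => by
      apply hc
      rw [← hr]
      exact ConjClasses.mk_eq_mk_iff_isConj.2 (IsConj.symm (isConj_iff.2 ⟨⟨t, h⟩, Subtype.ext ht⟩))
    have ht'A : t' ∉ alternatingGroup (Fin n) := fun h => by
      apply hd
      rw [← hcd, ← hr]
      exact ConjClasses.mk_eq_mk_iff_isConj.2 (IsConj.symm (isConj_iff.2 ⟨⟨t', h⟩, Subtype.ext ht'⟩))
    have hmem : t' * t⁻¹ ∈ alternatingGroup (Fin n) := by
      rw [Perm.mem_alternatingGroup] at htA ht'A ⊢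
      rw [map_mul, map_inv, (Int.units_eq_one_or _).resolve_left htA, (Int.units_eq_one_or _).resolve_left ht'A]
      rfl
    refine ConjClasses.mk_eq_mk_iff_isConj.2 (isConj_iff.2 ⟨⟨t' * t⁻¹, hmem⟩, Subtype.ext ?_⟩)
    show t' * t⁻¹ * (a : Perm (Fin n)) * (t' * t⁻¹)⁻¹ = b
    rw [← ht, ← ht']
    group
  let ψ : ConjClasses A → ConjClasses (Perm (Fin n)) := fun c =>
    if c = rep (π c) then π c else F ((Quotient.out c : A) : Perm (Fin n))
  have hout : ∀ c : ConjClasses A, ConjClasses.mk (Quotient.out c) = c := fun c => Quotient.out_eq c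
  have hπout : ∀ c : ConjClasses A, π c = ConjClasses.mk ((Quotient.out c : A) : Perm (Fin n)) := fun c => by
    conv_lhs => rw [← hout c]
    rfl
  have hinj : Function.Injective ψ := by
    intro c d h
    by_cases hc : c = rep (π c) <;> by_cases hd : d = rep (π d)
    · simp only [ψ, if_pos hc, if_pos hd] at h
      rw [hc, hd, h]
    · simp only [ψ, if_pos hc, if_neg hd] at h
      rw [hπout c] at h
      exact absurd (Quotient.out c).2
        (hFodd _ _ (Quotient.out d).2 (key d hd _ (hout d)) h.symm)
    · simp only [ψ, if_neg hc, if_pos hd] at h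
      rw [hπout d] at h
      exact absurd (Quotient.out d).2
        (hFodd _ _ (Quotient.out c).2 (key c hc _ (hout c)) h)
    · simp only [ψ, if_neg hc, if_neg hd] at h
      refine uniq c d ?_ hc hd
      obtain ⟨u, hu⟩ := ConjClasses.mk_surjective (F ((Quotient.out c : A) : Perm (Fin n)))
      have hsc := key c hc _ (hout c)
      have hsd := key d hd _ (hout d)
      have e1 := hF _ u hsc hu.symm
      have e2 := hF _ u hsd (h.symm.trans hu.symm)
      obtain ⟨hm1, h31, ho1⟩ := split_facts _ hsc
      obtain ⟨hm2, h32, ho2⟩ := split_facts _ hsd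
      rw [hπout c, hπout d, ConjClasses.mk_eq_mk_iff_isConj, Perm.isConj_iff_cycleType_eq]
      generalize ((Quotient.out c : A) : Perm (Fin n)).cycleType = mc at e1 hm1 h31 ho1
      generalize ((Quotient.out d : A) : Perm (Fin n)).cycleType = md at e2 hm2 h32 ho2
      have e : shift mc = shift md := e1.symm.trans e2
      simp only [shift] at e
      have hmem : top mc - 1 ∈ (top md - 1) ::ₘ md.erase (top md) := e ▸ Multiset.mem_cons_self _ _
      rcases Multiset.mem_cons.1 hmem with he | he
      · have htop : top mc = top md := by omega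
        rw [htop, Multiset.cons_inj_right] at e
        rw [← Multiset.cons_erase hm1, ← Multiset.cons_erase hm2, htop, e]
      · obtain ⟨k, hk⟩ := ho2 _ (Multiset.mem_of_mem_erase he)
        obtain ⟨j, hj⟩ := ho1 _ hm1
        omega
  have hns : ¬ Function.Surjective ψ := by
    intro hs
    let σ : Perm (Fin n) := Equiv.swap ⟨0, by omega⟩ ⟨1, by omega⟩
    obtain ⟨c, hc⟩ := hs (ConjClasses.mk σ)
    have hσ : σ.cycleType = {2} := Perm.IsSwap.isCycle ⟨_, _, by simp, rfl⟩ |>.cycleType.trans (by
      rw [Perm.card_support_eq_two.2 ⟨_, _, by simp, rfl⟩])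
    by_cases h : c = rep (π c)
    · simp only [ψ, if_pos h] at hc
      rw [hπout c, ConjClasses.mk_eq_mk_iff_isConj, Perm.isConj_iff_cycleType_eq] at hc
      have hA := (Quotient.out c).2
      rw [Perm.mem_alternatingGroup, Perm.sign_of_cycleType, hc, hσ] at hA
      exact absurd hA (by decide)
    · simp only [ψ, if_neg h] at hc
      have hsc := key c h _ (hout c)
      have e := hF _ σ hsc hc
      rw [hσ] at e
      obtain ⟨hm, h3, ho⟩ := split_facts _ hsc
      obtain ⟨-, hsum, -⟩ := Perm.centralizer_le_alternating_iff.1 hsc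
      rw [Fintype.card_fin] at hsum
      have e' : (top ((Quotient.out c : A) : Perm (Fin n)).cycleType - 1) ::ₘ
          ((Quotient.out c : A) : Perm (Fin n)).cycleType.erase
            (top ((Quotient.out c : A) : Perm (Fin n)).cycleType) = {2} := e.symm
      have hs1 := congrArg Multiset.sum e'
      rw [← Multiset.cons_erase hm] at hsum
      simp only [Multiset.sum_cons, Multiset.sum_singleton] at hs1 hsum
      omega
  by_contra hcon
  push Not at hcon
  exact hns (hinj.bijective_of_nat_card_le hcon).2

end helpers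

/-- For n ≥ 5 the alternating group of degree n has strictly fewer conjugacy classes than the symmetric group of degree n, and the symmetric group of degree n (whose classes correspond to the partitions of n) has at most 2^(n−2) conjugacy classes. -/
theorem result (n : ℕ) (hn : 5 ≤ n) : Nat.card (ConjClasses (alternatingGroup (Fin n))) < Nat.card (ConjClasses (Equiv.Perm (Fin n))) ∧ Nat.card (ConjClasses (Equiv.Perm (Fin n))) ≤ 2 ^ (n - 2) := by
  exact ⟨conjClasses_alternating_lt n hn, conjClasses_perm_le n hn⟩

end Cfsg.Agent.S4198
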