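import Cfsg.Statements.S4200
import Mathlib
-- import your own Cfsg.Agent.* helpers here

set_option autoImplicit false
open Cfsg

namespace Cfsg.Agent.S4200

section helpers

variable {X : Type*} [Group X]

theorem sum_card_centralizer [Fintype X] :
    ∑ x : X, Nat.card (Subgroup.centralizer ({x} : Set X)) = Nat.card (ConjClasses X) * Nat.card X := by
  rw [← card_comm_eq_card_conjClasses_mul_card, ← Nat.card_sigma]
  refine Nat.card_congr ((Equiv.sigmaCongrRight fun x => Equiv.subtypeEquivRight fun y => ?_).trans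
    (Equiv.subtypeProdEquivSigmaSubtype fun x y : X => Commute x y).symm)
  rw [Subgroup.mem_centralizer_singleton_iff]
  exact eq_comm

theorem sum_card_centralizer_sub [Fintype X] (Y : Subgroup X) [Fintype Y] :
    ∑ y : Y, Nat.card (Y ⊓ Subgroup.centralizer ({(y : X)} : Set X) : Subgroup X) =
      Nat.card (ConjClasses Y) * Nat.card Y := by
  rw [← sum_card_centralizer]
  refine Finset.sum_congr rfl fun y _ => Nat.card_congr ?_
  refine
    { toFun := fun z => ⟨⟨z, z.2.1⟩, ?_⟩
      invFun := fun z => ⟨((z : Y) : X), (z : Y).2, ?_⟩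
      left_inv := fun z => rfl
      right_inv := fun z => rfl }
  · rw [Subgroup.mem_centralizer_singleton_iff]
    exact Subtype.ext (Subgroup.mem_centralizer_singleton_iff.1 z.2.2)
  · show _ ∈ Subgroup.centralizer _
    rw [Subgroup.mem_centralizer_singleton_iff]
    exact congrArg Subtype.val (Subgroup.mem_centralizer_singleton_iff.1 z.2)

theorem card_le_index_mul [Finite X] (Y C : Subgroup X) :
    Nat.card C ≤ Y.index * Nat.card (Y ⊓ C : Subgroup X) ∧
    (Nat.card C = Y.index * Nat.card (Y ⊓ C : Subgroup X) → ∀ a : X, ∃ c ∈ C, c⁻¹ * a ∈ Y) := by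
  have h := Subgroup.relIndex_mul_relIndex ⊥ (Y ⊓ C) C bot_le inf_le_right
  rw [Subgroup.relIndex_bot_left, Subgroup.relIndex_bot_left, Subgroup.inf_relIndex_right] at h
  let f : C ⧸ Y.subgroupOf C → X ⧸ Y :=
    Quotient.map' Subtype.val fun a b hab => by
      rw [QuotientGroup.leftRel_apply] at hab ⊢
      exact hab
  have hf : Function.Injective f := by
    intro a b
    refine Quotient.inductionOn₂' a b fun a b hab => ?_
    simp only [f, Quotient.map'_mk''] at hab
    have hab' := QuotientGroup.leftRel_apply.1 (Quotient.exact' hab)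
    exact Quotient.sound' (QuotientGroup.leftRel_apply.2 hab')
  have hle : Y.relIndex C ≤ Y.index := Nat.card_le_card_of_injective f hf
  refine ⟨?_, fun heq a => ?_⟩
  · rw [← h, mul_comm]
    exact Nat.mul_le_mul_right _ hle
  · have he : Y.relIndex C = Y.index := by
      rw [← h, mul_comm Y.index] at heq
      exact Nat.eq_of_mul_eq_mul_left Nat.card_pos heq
    obtain ⟨q, hq⟩ := (hf.bijective_of_nat_card_le he.ge).2 (QuotientGroup.mk a)
    induction q using QuotientGroup.induction_on with
    | H c => exact ⟨c, c.2, QuotientGroup.leftRel_apply.1 (Quotient.exact' hq)⟩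

theorem bounds [Finite X] (Y : Subgroup X) : Nat.card (ConjClasses Y) ≤ Y.index * Nat.card (ConjClasses X) ∧
    Nat.card (ConjClasses X) ≤ Y.index * Nat.card (ConjClasses Y) ∧
    (¬ Y.Normal → Nat.card (ConjClasses X) < Y.index * Nat.card (ConjClasses Y)) := by
  have := Fintype.ofFinite X
  have := Fintype.ofFinite Y
  have hY := sum_card_centralizer_sub Y
  have hX := sum_card_centralizer (X := X)
  have hm := Y.index_mul_card
  have hpos : 0 < Nat.card Y := Nat.card_pos
  have hswap : ∑ x : X, Nat.card (Y ⊓ Subgroup.centralizer ({x} : Set X) : Subgroup X) =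
      ∑ y : Y, Nat.card (Subgroup.centralizer ({(y : X)} : Set X)) := by
    rw [← Nat.card_sigma, ← Nat.card_sigma]
    refine Nat.card_congr
      { toFun := fun p => ⟨⟨p.2, p.2.2.1⟩, p.1, ?_⟩
        invFun := fun p => ⟨p.2, p.1, p.1.2, ?_⟩
        left_inv := fun p => rfl
        right_inv := fun p => rfl }
    · rw [Subgroup.mem_centralizer_singleton_iff]
      exact (Subgroup.mem_centralizer_singleton_iff.1 p.2.2.2).symm
    · show _ ∈ Subgroup.centralizer _
      rw [Subgroup.mem_centralizer_singleton_iff]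
      exact (Subgroup.mem_centralizer_singleton_iff.1 p.2.2).symm
  have hA : ∑ x : X, Nat.card (Subgroup.centralizer ({x} : Set X)) ≤
      Y.index * ∑ y : Y, Nat.card (Subgroup.centralizer ({(y : X)} : Set X)) := by
    rw [← hswap, Finset.mul_sum]
    exact Finset.sum_le_sum fun x _ => (card_le_index_mul Y _).1
  have hB : ∑ y : Y, Nat.card (Subgroup.centralizer ({(y : X)} : Set X)) ≤
      Nat.card (ConjClasses Y) * Nat.card X := by
    rw [← hm, mul_left_comm, ← hY, Finset.mul_sum]
    exact Finset.sum_le_sum fun y _ => (card_le_index_mul Y _).1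
  refine ⟨?_, ?_, fun hn => ?_⟩
  · refine Nat.le_of_mul_le_mul_right ?_ hpos
    calc Nat.card (ConjClasses Y) * Nat.card Y
        = ∑ y : Y, Nat.card (Y ⊓ Subgroup.centralizer ({(y : X)} : Set X) : Subgroup X) := hY.symm
      _ ≤ ∑ y : Y, Nat.card (Subgroup.centralizer ({(y : X)} : Set X)) :=
          Finset.sum_le_sum fun y _ => Nat.le_of_dvd Nat.card_pos (Subgroup.card_dvd_of_le inf_le_right)
      _ ≤ ∑ x : X, Nat.card (Subgroup.centralizer ({x} : Set X)) := by
          rw [← Finset.sum_subtype (Set.toFinset (Y : Set X)) (fun x => by simp)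
            (fun x => Nat.card (Subgroup.centralizer ({x} : Set X)))]
          exact Finset.sum_le_sum_of_subset (Finset.subset_univ _)
      _ = Y.index * Nat.card (ConjClasses X) * Nat.card Y := by rw [hX, ← hm]; ring
  · refine Nat.le_of_mul_le_mul_right ?_ (Nat.card_pos (α := X))
    rw [← hX, mul_assoc]
    exact hA.trans (Nat.mul_le_mul_left _ hB)
  · refine Nat.lt_of_mul_lt_mul_right (a := Nat.card X) ?_
    rw [← hX, mul_assoc]
    refine hA.trans_lt (Nat.mul_lt_mul_of_pos_left ?_ (Nat.pos_of_ne_zero Subgroup.index_ne_zero_of_finite))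
    rw [← hm, mul_left_comm, ← hY, Finset.mul_sum]
    refine Finset.sum_lt_sum (fun y _ => (card_le_index_mul Y _).1) ?_
    by_contra hall
    push Not at hall
    apply hn
    refine ⟨fun y hy a => ?_⟩
    obtain ⟨hle, hfull⟩ := card_le_index_mul Y (Subgroup.centralizer ({((⟨y, hy⟩ : Y) : X)} : Set X))
    obtain ⟨c, hc, hca⟩ := hfull (le_antisymm hle (hall _ (Finset.mem_univ _))) a⁻¹
    have hcy : c * y = y * c := Subgroup.mem_centralizer_singleton_iff.1 hc
    have e : a * y * a⁻¹ = (c⁻¹ * a⁻¹)⁻¹ * y * (c⁻¹ * a⁻¹) := by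
      calc a * y * a⁻¹ = a * (y * c) * (c⁻¹ * a⁻¹) := by group
        _ = a * (c * y) * (c⁻¹ * a⁻¹) := by rw [hcy]
        _ = _ := by group
    rw [e]
    exact Y.mul_mem (Y.mul_mem (Y.inv_mem hca) hy) hca

end helpers

/-- Let Y be a subgroup of the finite group X, of index m. Then the numbers of conjugacy classes satisfy k(Y) ≤ m·k(X) and k(X) ≤ m·k(Y), and the second inequality is strict unless Y is normal in X. -/
theorem result {X : Type*} [Group X] [Finite X] (Y : Subgroup X) : Nat.card (ConjClasses Y) ≤ Y.index * Nat.card (ConjClasses X) ∧ Nat.card (ConjClasses X) ≤ Y.index * Nat.card (ConjClasses Y) ∧ (¬ Y.Normal → Nat.card (ConjClasses X) < Y.index * Nat.card (ConjClasses Y)) := by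
  exact bounds Y

end Cfsg.Agent.S4200
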