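import Cfsg.Statements.S4201
import Mathlib
-- import your own Cfsg.Agent.* helpers here

set_option autoImplicit false
open Cfsg

namespace Cfsg.Agent.S4201

section helpers

variable {X : Type*} [Group X]

theorem sum_card_centralizer [Fintype X] :
    ∑ x : X, Nat.card (Subgroup.centralizer ({x} : Set X)) = Nat.card (ConjClasses X) * Nat.card X := by
  rw [← card_comm_eq_card_conjClasses_mul_card, ← Nat.card_sigma]
  refine Nat.card_congr ((Equiv.sigmaCongrRight fun x => Equiv.subtypeEquivRight fun y => ?_).trans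
    (Equiv.subtypeProdEquivSigmaSubtype fun x y : X => Commute x y).symm)
  rw [Subgroup.mem_centralizer_singleton_iff]
  exact eq_comm

theorem le_mul [Finite X] (N : Subgroup X) [N.Normal] :
    Nat.card (ConjClasses X) ≤ Nat.card (ConjClasses N) * Nat.card (ConjClasses (X ⧸ N)) := by
  classical
  have := Fintype.ofFinite X
  have := Fintype.ofFinite N
  have := Fintype.ofFinite (X ⧸ N)
  have hN := sum_card_centralizer (X := N)
  have hQ := sum_card_centralizer (X := X ⧸ N)
  -- one element
  have h1 : ∀ x : X, Nat.card (Subgroup.centralizer ({x} : Set X)) ≤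
      Nat.card {n : N // Commute (n : X) x} *
        Nat.card (Subgroup.centralizer ({(x : X ⧸ N)} : Set (X ⧸ N))) := by
    intro x
    let f : Subgroup.centralizer ({x} : Set X) →* X ⧸ N :=
      (QuotientGroup.mk' N).comp (Subgroup.subtype _)
    rw [Subgroup.card_eq_card_quotient_mul_card_subgroup f.ker, mul_comm]
    refine Nat.mul_le_mul ?_ ?_
    · refine Nat.card_le_card_of_injective (fun z => ⟨⟨((z : Subgroup.centralizer ({x} : Set X)) : X),
        (QuotientGroup.eq_one_iff _).1 z.2⟩, Subgroup.mem_centralizer_singleton_iff.1 z.1.2⟩) ?_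
      intro a b hab
      exact Subtype.ext (Subtype.ext (congrArg (fun z : {n : N // Commute (n : X) x} => ((z : N) : X)) hab :))
    · rw [Nat.card_congr (QuotientGroup.quotientKerEquivRange f).toEquiv]
      refine Nat.le_of_dvd Nat.card_pos (Subgroup.card_dvd_of_le ?_)
      rintro _ ⟨z, rfl⟩
      rw [Subgroup.mem_centralizer_singleton_iff]
      exact congrArg (QuotientGroup.mk (s := N)) (Subgroup.mem_centralizer_singleton_iff.1 z.2)
  -- one coset
  have h2 : ∀ q : X ⧸ N, ∑ x ∈ (Finset.univ : Finset X).filter (fun x : X => (x : X ⧸ N) = q), Nat.card {n : N // Commute (n : X) x} ≤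
      Nat.card (ConjClasses N) * Nat.card N := by
    intro q
    rw [← hN, ← Finset.sum_coe_sort, ← Nat.card_sigma, ← Nat.card_sigma]
    let g : N → X := fun n => if h : ∃ c : X, (c : X ⧸ N) = q ∧ Commute (n : X) c then h.choose else 1
    have hg : ∀ (n : N) (c : X), (c : X ⧸ N) = q → Commute (n : X) c →
        ((g n : X) : X ⧸ N) = q ∧ Commute (n : X) (g n) := by
      intro n c hc hcn
      have h : ∃ c : X, (c : X ⧸ N) = q ∧ Commute (n : X) c := ⟨c, hc, hcn⟩
      simp only [g, dif_pos h]
      exact h.choose_spec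
    refine Nat.card_le_card_of_injective (fun p => ⟨p.2.1, ⟨(⟨(g p.2.1)⁻¹ * (p.1 : X), ?_⟩ : N), ?_⟩⟩) ?_
    · have hp := (Finset.mem_filter.1 p.1.2).2
      rw [← QuotientGroup.eq]
      exact ((hg p.2.1 p.1 hp p.2.2).1).trans hp.symm
    · have hp := (Finset.mem_filter.1 p.1.2).2
      rw [Subgroup.mem_centralizer_singleton_iff]
      exact Subtype.ext (((hg p.2.1 p.1 hp p.2.2).2.inv_right.mul_right p.2.2).symm.eq)
    · rintro ⟨⟨a, ha⟩, n, hn⟩ ⟨⟨b, hb⟩, m, hm⟩ hab
      simp only [Sigma.mk.injEq] at hab
      obtain ⟨rfl, hab⟩ := hab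
      have := eq_of_heq hab
      simp only [Subtype.mk.injEq, mul_right_inj] at this
      subst this
      rfl
  refine Nat.le_of_mul_le_mul_right ?_ (Nat.card_pos (α := X))
  rw [← sum_card_centralizer, ← Finset.sum_fiberwise Finset.univ (fun x : X => (x : X ⧸ N))]
  calc ∑ q : X ⧸ N, ∑ x ∈ (Finset.univ : Finset X).filter (fun x : X => (x : X ⧸ N) = q), Nat.card (Subgroup.centralizer ({x} : Set X))
      ≤ ∑ q : X ⧸ N, (Nat.card (ConjClasses N) * Nat.card N) *
          Nat.card (Subgroup.centralizer ({q} : Set (X ⧸ N))) := by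
        refine Finset.sum_le_sum fun q _ => ?_
        refine le_trans ?_ (Nat.mul_le_mul_right _ (h2 q))
        rw [Finset.sum_mul]
        refine Finset.sum_le_sum fun x hx => ?_
        rw [← (Finset.mem_filter.1 hx).2]
        exact h1 x
    _ = _ := by
        rw [← Finset.mul_sum, hQ, Subgroup.card_eq_card_quotient_mul_card_subgroup N]
        ring

end helpers

/-- If N is a normal subgroup of the finite group X then k(X) ≤ k(N)·k(X ⧸ N), where k denotes the number of conjugacy classes. -/
theorem result {X : Type*} [Group X] [Finite X] (N : Subgroup X) [N.Normal] : Nat.card (ConjClasses X) ≤ Nat.card (ConjClasses N) * Nat.card (ConjClasses (X ⧸ N)) := by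
  exact le_mul N

end Cfsg.Agent.S4201
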