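import Cfsg.Statements.S4207
import Mathlib
import Cfsg.Agent.Lib.PGroup.Frattini

set_option autoImplicit false
open Cfsg

namespace Cfsg.Agent.S4207

section helpers

variable {P : Type*} [Group P] [Finite P]

theorem card_dvd_of_free {A X : Type*} [Group A] [MulAction A X] [Finite A] [Finite X]
    (hfree : ∀ x : X, MulAction.stabilizer A x = ⊥) : Nat.card A ∣ Nat.card X := by
  classical
  have := Fintype.ofFinite (MulAction.orbitRel.Quotient A X)
  rw [Nat.card_congr (MulAction.selfEquivSigmaOrbits A X), Nat.card_sigma]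
  refine Finset.dvd_sum fun ω _ => ?_
  rw [← Subgroup.index_bot, ← hfree ω.out, MulAction.index_stabilizer]
  rfl

/-- tuples independent modulo the Frattini subgroup -/
def Indep (p : ℕ) (i : ℕ) (t : Fin i → P) : Prop :=
  Nat.card ↥(Subgroup.closure (Set.range t) ⊔ frattini P) = Nat.card ↥(frattini P) * p ^ i

variable {p : ℕ} [Fact p.Prime]

theorem snoc_eq {i : ℕ} (t : Fin i → P) (x : P) :
    Subgroup.closure (Set.range (Fin.snoc t x : Fin (i + 1) → P)) ⊔ frattini P =
      (Subgroup.closure (Set.range t) ⊔ frattini P) ⊔ Subgroup.zpowers x := by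
  rw [Fin.range_snoc, Set.insert_eq, Subgroup.closure_union, ← Subgroup.zpowers_eq_closure]
  ac_rfl

theorem range_card_le (hP : IsPGroup p P) {i : ℕ} (t : Fin i → P) :
    Nat.card ↥(Subgroup.closure (Set.range t) ⊔ frattini P) ≤ Nat.card ↥(frattini P) * p ^ i := by
  classical
  have h := PGroup.card_closure_sup_frattini_le hP (Finset.univ.image t)
  rw [Finset.coe_image, Finset.coe_univ, Set.image_univ] at h
  refine h.trans (Nat.mul_le_mul_left _ (Nat.pow_le_pow_right (Fact.out (p := p.Prime)).pos ?_))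
  exact Finset.card_image_le.trans (by simp)

theorem indep_snoc (hP : IsPGroup p P) {i : ℕ} (t : Fin i → P) (x : P) :
    Indep p (i + 1) (Fin.snoc t x : Fin (i + 1) → P) ↔
      Indep p i t ∧ x ∉ Subgroup.closure (Set.range t) ⊔ frattini P := by
  unfold Indep
  rw [snoc_eq]
  have hpp := (Fact.out (p := p.Prime)).one_lt
  by_cases hx : x ∈ Subgroup.closure (Set.range t) ⊔ frattini P
  · rw [sup_eq_left.2 (Subgroup.zpowers_le.2 hx)]
    refine ⟨fun h => ?_, fun h => absurd hx h.2⟩
    have := range_card_le hP t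
    rw [h, pow_succ, ← mul_assoc] at this
    have hpos : 0 < Nat.card ↥(frattini P) * p ^ i := Nat.mul_pos Nat.card_pos (pow_pos (by omega) _)
    exact absurd this (not_le.2 (lt_mul_of_one_lt_right hpos hpp))
  · rw [PGroup.card_sup_zpowers_frattini hP le_sup_right hx, pow_succ, ← mul_assoc]
    exact ⟨fun h => ⟨Nat.eq_of_mul_eq_mul_right (by omega) h, hx⟩, fun h => by rw [h.1]⟩

theorem card_indep (hP : IsPGroup p P) : ∀ i : ℕ, Nat.card {t : Fin i → P // Indep p i t} =
    ∏ j ∈ Finset.range i, (Nat.card P - Nat.card ↥(frattini P) * p ^ j) := by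
  intro i
  induction i with
  | zero =>
    rw [Finset.range_zero, Finset.prod_empty, Nat.card_eq_one_iff_unique]
    refine ⟨⟨fun a b => Subtype.ext (Subsingleton.elim _ _)⟩, ⟨⟨Fin.elim0, ?_⟩⟩⟩
    unfold Indep
    simp
  | succ i ih =>
    have := Fintype.ofFinite {t : Fin i → P // Indep p i t}
    have e : {t : Fin (i + 1) → P // Indep p (i + 1) t} ≃
        Σ t : {t : Fin i → P // Indep p i t},
          ((Subgroup.closure (Set.range t.1) ⊔ frattini P : Subgroup P) : Set P)ᶜ.Elem :=
      { toFun := fun t =>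
          have h := (indep_snoc hP (Fin.init t.1) (t.1 (Fin.last i))).1 (by rw [Fin.snoc_init_self]; exact t.2)
          ⟨⟨Fin.init t.1, h.1⟩, ⟨t.1 (Fin.last i), h.2⟩⟩
        invFun := fun q => ⟨Fin.snoc q.1.1 q.2.1, (indep_snoc hP _ _).2 ⟨q.1.2, q.2.2⟩⟩
        left_inv := fun t => Subtype.ext (Fin.snoc_init_self _)
        right_inv := fun q => by
          obtain ⟨⟨t, ht⟩, x, hx⟩ := q
          have h1 : Fin.init (Fin.snoc t x : Fin (i + 1) → P) = t := Fin.init_snoc _ _
          have h2 : (Fin.snoc t x : Fin (i + 1) → P) (Fin.last i) = x := Fin.snoc_last _ _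
          refine Sigma.subtype_ext ?_ ?_
          · exact Subtype.ext h1
          · exact h2 }
    rw [Nat.card_congr e, Nat.card_sigma, Finset.prod_range_succ, ← ih, Nat.card_eq_fintype_card,
      ← Finset.card_univ, ← smul_eq_mul, ← Finset.sum_const]
    refine Finset.sum_congr rfl fun t _ => ?_
    rw [Nat.card_coe_set_eq, Set.ncard_compl]
    congr 1
    exact t.2

variable {n r : ℕ}

theorem card_frattini (hP : Nat.card P = p ^ n) (hr : (frattini P).index = p ^ r) :
    r ≤ n ∧ Nat.card ↥(frattini P) = p ^ (n - r) := by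
  have h := (frattini P).index_mul_card
  rw [hr, hP] at h
  have hle : r ≤ n := (Nat.pow_dvd_pow_iff_le_right (Fact.out (p := p.Prime)).one_lt).1 (Dvd.intro _ h)
  refine ⟨hle, ?_⟩
  refine Nat.eq_of_mul_eq_mul_left (pow_pos (Fact.out (p := p.Prime)).pos r) ?_
  rw [h, ← pow_add]
  congr 1
  omega

theorem indep_generates (hP : Nat.card P = p ^ n) (hr : (frattini P).index = p ^ r) (t : Fin r → P)
    (ht : Indep p r t) : Subgroup.closure (Set.range t) = ⊤ := by
  obtain ⟨hle, hΦ⟩ := card_frattini hP hr
  apply PGroup.closure_eq_top_of_sup_frattini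
  apply Subgroup.eq_top_of_card_eq
  rw [ht, hP, hΦ, ← pow_add]
  congr 1
  omega

theorem card_indep_eq (hP : Nat.card P = p ^ n) (hr : (frattini P).index = p ^ r) :
    Nat.card {t : Fin r → P // Indep p r t} =
      p ^ (r * (n - r)) * ∏ i ∈ Finset.range r, (p ^ r - p ^ i) := by
  obtain ⟨hle, hΦ⟩ := card_frattini hP hr
  rw [card_indep (IsPGroup.of_card hP), hP, hΦ, mul_comm r, pow_mul]
  have e : (p ^ (n - r)) ^ r = ∏ _i ∈ Finset.range r, p ^ (n - r) := by
    rw [Finset.prod_const, Finset.card_range]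
  rw [e, ← Finset.prod_mul_distrib]
  refine Finset.prod_congr rfl fun i _ => ?_
  rw [Nat.mul_sub, ← pow_add, ← pow_add]
  congr 2
  omega

theorem aut_eq_one_of_fix {t : Fin r → P} (hgen : Subgroup.closure (Set.range t) = ⊤) {α : MulAut P}
    (h : ∀ i, α (t i) = t i) : α = 1 := by
  have : α.toMonoidHom = MonoidHom.id P := MonoidHom.eq_of_eqOn_dense hgen (by
    rintro _ ⟨i, rfl⟩
    exact h i)
  exact MulEquiv.ext fun x => DFunLike.congr_fun this x

omit [Finite P] [Fact p.Prime] in
theorem indep_map (α : MulAut P) (t : Fin r → P) (ht : Indep p r t) : Indep p r (fun i => α (t i)) := by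
  have hΦ : (frattini P).map α.toMonoidHom = frattini P :=
    Subgroup.characteristic_iff_map_eq.1 inferInstance α
  have e : Subgroup.closure (Set.range fun i => α (t i)) ⊔ frattini P =
      (Subgroup.closure (Set.range t) ⊔ frattini P).map α.toMonoidHom := by
    rw [Subgroup.map_sup, MonoidHom.map_closure, hΦ, ← Set.range_comp]
    rfl
  unfold Indep
  rw [e, Subgroup.card_map_of_injective (fun a b h => α.injective h)]
  exact ht

theorem burnside_aut (hP : Nat.card P = p ^ n) (hr : (frattini P).index = p ^ r)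
    (A : Subgroup (MulAut P)) (hA : ∀ α ∈ A, ∀ x : P, α x * x⁻¹ ∈ frattini P) :
    Nat.card A ∣ p ^ (r * (n - r)) := by
  obtain ⟨hle, hΦ⟩ := card_frattini hP hr
  have hne : Nat.card {t : Fin r → P // Indep p r t} ≠ 0 := by
    rw [card_indep_eq hP hr, mul_ne_zero_iff]
    refine ⟨pow_ne_zero _ (Fact.out (p := p.Prime)).ne_zero, Finset.prod_ne_zero_iff.2 fun i hi => ?_⟩
    exact Nat.sub_ne_zero_of_lt (Nat.pow_lt_pow_right (Fact.out (p := p.Prime)).one_lt (Finset.mem_range.1 hi))
  obtain ⟨b, hb⟩ := (Nat.card_ne_zero.1 hne).1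
  let X := {t : Fin r → P // ∀ i, t i * (b i)⁻¹ ∈ frattini P}
  letI act : MulAction A X :=
    { smul := fun α t => ⟨fun i => (α : MulAut P) (t.1 i), fun i => by
        have := (frattini P).mul_mem (hA α α.2 (t.1 i)) (t.2 i)
        simpa [mul_assoc] using this⟩
      one_smul := fun t => rfl
      mul_smul := fun α β t => rfl }
  have hcard : Nat.card X = p ^ (r * (n - r)) := by
    let e : X ≃ (Fin r → ↥(frattini P)) :=
      { toFun := fun t i => ⟨t.1 i * (b i)⁻¹, t.2 i⟩
        invFun := fun f => ⟨fun i => f i * b i, fun i => by simp⟩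
        left_inv := fun t => Subtype.ext (funext fun i => by simp)
        right_inv := fun f => funext fun i => Subtype.ext (by simp) }
    rw [Nat.card_congr e, Nat.card_fun, hΦ, Nat.card_fin, ← pow_mul, mul_comm]
  rw [← hcard]
  refine card_dvd_of_free fun t => ?_
  rw [Subgroup.eq_bot_iff_forall]
  intro α hα
  have hgen : Subgroup.closure (Set.range t.1) = ⊤ := by
    apply indep_generates hP hr
    unfold Indep at hb ⊢
    rw [← hb]
    congr 2
    refine le_antisymm (sup_le ((Subgroup.closure_le _).2 ?_) le_sup_right)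
      (sup_le ((Subgroup.closure_le _).2 ?_) le_sup_right)
    · rintro _ ⟨i, rfl⟩
      have := Subgroup.mul_mem _ (Subgroup.mem_sup_right (S := Subgroup.closure (Set.range b)) (t.2 i))
        (Subgroup.mem_sup_left (T := frattini P) (Subgroup.subset_closure ⟨i, rfl⟩))
      simpa [mul_assoc] using this
    · rintro _ ⟨i, rfl⟩
      have := Subgroup.mul_mem _ (Subgroup.inv_mem _ (Subgroup.mem_sup_right (S := Subgroup.closure (Set.range t.1)) (t.2 i)))
        (Subgroup.mem_sup_left (T := frattini P) (Subgroup.subset_closure ⟨i, rfl⟩))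
      simpa [mul_assoc] using this
  exact Subtype.ext (aut_eq_one_of_fix hgen fun i => congrFun (congrArg Subtype.val hα) i)

end helpers

/-- Let `P` be a group of order `p^n` whose Frattini subgroup has index `p^r`. Then any group of automorphisms of `P` each of which induces the identity on the Frattini quotient has order dividing `p^(r(n-r))`; in particular it is a `p`-group. -/
theorem result {P : Type*} [Group P] [Finite P] {p n r : ℕ} [Fact p.Prime] (hP : Nat.card P = p ^ n) (hr : (frattini P).index = p ^ r) (A : Subgroup (MulAut P)) (hA : ∀ α ∈ A, ∀ x : P, α x * x⁻¹ ∈ frattini P) : Nat.card A ∣ p ^ (r * (n - r)) := by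
  exact burnside_aut hP hr A hA

end Cfsg.Agent.S4207
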