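import Cfsg.Statements.S4208
import Mathlib
import Cfsg.Agent.S4207

set_option autoImplicit false
open Cfsg

namespace Cfsg.Agent.S4208

section helpers

variable {P : Type*} [Group P] [Finite P] {p n r : ℕ} [Fact p.Prime]

theorem card_aut_dvd (hP : Nat.card P = p ^ n) (hr : (frattini P).index = p ^ r) :
    Nat.card (MulAut P) ∣ p ^ (r * (n - r)) * ∏ i ∈ Finset.range r, (p ^ r - p ^ i) := by
  rw [← S4207.card_indep_eq hP hr]
  letI act : MulAction (MulAut P) {t : Fin r → P // S4207.Indep p r t} :=
    { smul := fun α t => ⟨fun i => α (t.1 i), S4207.indep_map α t.1 t.2⟩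
      one_smul := fun t => rfl
      mul_smul := fun α β t => rfl }
  refine S4207.card_dvd_of_free fun t => ?_
  rw [Subgroup.eq_bot_iff_forall]
  intro α hα
  exact S4207.aut_eq_one_of_fix (S4207.indep_generates hP hr t.1 t.2) fun i =>
    congrFun (congrArg Subtype.val hα) i

end helpers

/-- Let `P` be a group of order `p^n` whose Frattini subgroup has index `p^r`. Then the order of the automorphism group of `P` divides `p^(r(n-r)) · (p^r - 1)(p^r - p) ⋯ (p^r - p^(r-1))`. -/
theorem result {P : Type*} [Group P] [Finite P] {p n r : ℕ} [Fact p.Prime] (hP : Nat.card P = p ^ n) (hr : (frattini P).index = p ^ r) : Nat.card (MulAut P) ∣ p ^ (r * (n - r)) * ∏ i ∈ Finset.range r, (p ^ r - p ^ i) := by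
  exact card_aut_dvd hP hr

end Cfsg.Agent.S4208
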