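import Cfsg.Statements.S4213
import Mathlib
import Cfsg.Agent.S4212
-- import your own Cfsg.Agent.* helpers here

set_option autoImplicit false
open Cfsg

namespace Cfsg.Agent.S4213

open Subgroup

universe u

theorem frobenius_one {G : Type u} [Group G] [Finite G] (r : ℕ) (hr : r ∣ Nat.card G) :
    r ∣ Nat.card {x : G // x ^ r = 1} := by
  have := Cfsg.Agent.S4212.central_roots_dvd (1 : G) (by simp) r
  rwa [Nat.gcd_eq_left hr] at this

theorem exists_normal_exp_prime {G : Type u} [Group G] [Finite G] [Nontrivial G] [Group.IsSolvable G] :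
    ∃ (M : Subgroup G) (p k : ℕ), p.Prime ∧ M.Normal ∧ Nat.card M = p ^ k ∧ k ≠ 0 ∧ ∀ a ∈ M, a ^ p = 1 := by
  classical
  have hex : ∃ k, derivedSeries G k = ⊥ := Group.IsSolvable.solvable
  obtain ⟨k, hk⟩ : ∃ k, Nat.find hex = k + 1 := by
    refine Nat.exists_eq_succ_of_ne_zero fun h0 => ?_
    have h := Nat.find_spec hex
    rw [h0, derivedSeries_zero] at h
    exact absurd h (top_ne_bot)
  set D := derivedSeries G k with hD
  have hDc : ∀ a ∈ D, ∀ b ∈ D, a * b = b * a := by
    intro a ha b hb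
    have h := Nat.find_spec hex
    rw [hk, derivedSeries_succ] at h
    exact commutatorElement_eq_one_iff_mul_comm.1 (mem_bot.1 (h ▸ commutator_mem_commutator ha hb))
  have hDb : D ≠ ⊥ := fun h => absurd (Nat.find_min' hex h) (by omega)
  have : D.Normal := derivedSeries_normal G k
  obtain ⟨p, hp, hpd⟩ := Nat.exists_prime_and_dvd (show Nat.card D ≠ 1 from fun h => hDb (card_eq_one.1 h))
  have := Fact.mk hp
  let M : Subgroup G :=
    { carrier := {a | a ∈ D ∧ a ^ p = 1}
      one_mem' := ⟨one_mem _, one_pow _⟩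
      mul_mem' := by
        rintro a b ⟨ha, ha'⟩ ⟨hb, hb'⟩
        exact ⟨mul_mem ha hb, by rw [(show Commute a b from hDc a ha b hb).mul_pow, ha', hb', one_mul]⟩
      inv_mem' := by
        rintro a ⟨ha, ha'⟩
        exact ⟨inv_mem ha, by rw [inv_pow, ha', inv_one]⟩ }
  have hM : IsPGroup p M := fun a => ⟨1, Subtype.ext (by simpa using a.2.2)⟩
  obtain ⟨j, hj⟩ := hM.exists_card_eq
  refine ⟨M, p, j, hp, ⟨fun a ha g => ⟨Normal.conj_mem inferInstance a ha.1 g, by
    rw [conj_pow, ha.2, mul_one, mul_inv_cancel]⟩⟩, hj, ?_, fun a ha => ha.2⟩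
  rintro rfl
  obtain ⟨a, ha⟩ := exists_prime_orderOf_dvd_card' p hpd
  have hmem : (a : G) ∈ M := ⟨a.2, by
    rw [← orderOf_dvd_iff_pow_eq_one, Subgroup.orderOf_coe, ha]⟩
  rw [pow_zero, card_eq_one] at hj
  rw [hj, mem_bot, ← orderOf_eq_one_iff, Subgroup.orderOf_coe, ha] at hmem
  exact hp.ne_one hmem

theorem aux : ∀ N : ℕ, ∀ (G : Type u) [Group G] [Finite G], Group.IsSolvable G → Nat.card G = N →
    ∀ n : ℕ, n ∣ Nat.card G → Nat.card {x : G // x ^ n = 1} = n →
      ∃ H : Subgroup G, H.Normal ∧ (H : Set G) = {x : G | x ^ n = 1} := by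
  intro N
  induction N using Nat.strong_induction_on with
  | _ N ih =>
  intro G _ _ _ hN n hn hcount
  rcases subsingleton_or_nontrivial G with hs | hs
  · exact ⟨⊤, inferInstance, Set.ext fun x => by simp [Subsingleton.elim x 1]⟩
  obtain ⟨M, p, k, hp, hMn, hMk, hk, hMp⟩ := exists_normal_exp_prime (G := G)
  have := Fact.mk hp
  have hn0 : 0 < n := Nat.pos_of_dvd_of_pos hn Nat.card_pos
  set π := QuotientGroup.mk' M with hπ
  have hcard : Nat.card G = Nat.card (G ⧸ M) * p ^ k := by
    rw [Subgroup.card_eq_card_quotient_mul_card_subgroup M, hMk]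
  have hlt : Nat.card (G ⧸ M) < N := by
    rw [← hN, hcard]
    exact lt_mul_of_one_lt_right Nat.card_pos (Nat.one_lt_pow hk hp.one_lt)
  have hsolQ : Group.IsSolvable (G ⧸ M) :=
    Group.isSolvable_of_surjective (QuotientGroup.mk'_surjective M)
  have hpre : ∀ R : Subgroup (G ⧸ M), Nat.card (R.comap π) = Nat.card R * p ^ k := by
    intro R
    have h1 : (R.comap π).index = R.index := index_comap_of_surjective _ (QuotientGroup.mk'_surjective M)
    have h2 := (R.comap π).card_mul_index
    rw [h1, hcard, ← R.card_mul_index] at h2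
    refine Nat.eq_of_mul_eq_mul_right (Nat.pos_of_ne_zero R.index_ne_zero_of_finite) ?_
    rw [h2]; ring
  have hpreset : ∀ r : ℕ, Nat.card {x : G // (π x) ^ r = 1} =
      Nat.card {y : G ⧸ M // y ^ r = 1} * p ^ k := by
    intro r
    rw [← hMk, ← Nat.card_prod]
    refine Nat.card_congr (Equiv.trans ?_ (Equiv.prodComm _ _))
    exact (QuotientGroup.preimageMkEquivSubgroupProdSet M {y : G ⧸ M | y ^ r = 1})
  have hSpos : ∀ r : ℕ, 0 < Nat.card {y : G ⧸ M // y ^ r = 1} := fun r =>
    Nat.card_pos_iff.2 ⟨⟨⟨1, one_pow r⟩⟩, inferInstance⟩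
  by_cases hpn : p ∣ n
  · set e := min k (n.factorization p) with he
    set r := n / p ^ e with hr
    have hen : p ^ e ∣ n := (hp.pow_dvd_iff_le_factorization hn0.ne').2 (min_le_right _ _)
    have hnr : r * p ^ e = n := Nat.div_mul_cancel hen
    have hr0 : r ≠ 0 := fun h => by rw [h, zero_mul] at hnr; omega
    have he1 : 1 ≤ e := le_min (Nat.one_le_iff_ne_zero.2 hk) ((hp.dvd_iff_one_le_factorization hn0.ne').1 hpn)
    have hrd : r ∣ Nat.card (G ⧸ M) := by
      rw [← Nat.factorization_le_iff_dvd hr0 Nat.card_pos.ne']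
      intro q
      have h1 := (Nat.factorization_le_iff_dvd hn0.ne' Nat.card_pos.ne').2 hn q
      rw [hcard, Nat.factorization_mul Nat.card_pos.ne' (pow_ne_zero _ hp.ne_zero), hp.factorization_pow,
        Finsupp.add_apply] at h1
      rw [hr, Nat.factorization_div hen, hp.factorization_pow, Finsupp.tsub_apply]
      by_cases hq : q = p
      · subst hq
        rw [Finsupp.single_eq_same] at h1 ⊢
        omega
      · rw [Finsupp.single_eq_of_ne (by omega)] at h1 ⊢
        omega
    have hsub : ∀ x : G, (π x) ^ r = 1 → x ^ n = 1 := by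
      intro x hx
      rw [← map_pow, hπ, QuotientGroup.mk'_apply, QuotientGroup.eq_one_iff] at hx
      rw [← hnr, ← Nat.sub_add_cancel he1, pow_succ', ← mul_assoc, pow_mul, pow_mul, hMp _ hx, one_pow]
    obtain ⟨t, ht⟩ := frobenius_one r hrd
    have ht0 : 0 < t := pos_of_mul_pos_right (ht ▸ hSpos r) (Nat.zero_le r)
    have hle : Nat.card {x : G // (π x) ^ r = 1} ≤ n :=
      le_of_le_of_eq (Nat.card_le_card_of_injective (fun x => (⟨x.1, hsub x.1 x.2⟩ : {x : G // x ^ n = 1}))
        fun a b h => by simpa [Subtype.ext_iff] using h) hcount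
    rw [hpreset, ht] at hle
    have hek : e ≤ k := min_le_left _ _
    have hchain : r * p ^ e ≤ r * t * p ^ k :=
      Nat.mul_le_mul (Nat.le_mul_of_pos_right r ht0) (Nat.pow_le_pow_right hp.pos hek)
    have heq : r * t * p ^ k = r * p ^ e := le_antisymm (hle.trans hnr.ge) hchain
    have htek : t * p ^ k = p ^ e := by
      refine Nat.eq_of_mul_eq_mul_left (Nat.pos_of_ne_zero hr0) ?_
      rw [← mul_assoc, heq]
    have ht1 : t = 1 := by
      have h1 : t * p ^ k ≤ 1 * p ^ k := by
        rw [htek, one_mul]; exact Nat.pow_le_pow_right hp.pos hek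
      have := Nat.le_of_mul_le_mul_right h1 (pow_pos hp.pos k)
      omega
    obtain ⟨R, hRn, hR⟩ := ih _ hlt (G ⧸ M) hsolQ rfl r hrd (by rw [ht, ht1, mul_one])
    refine ⟨R.comap π, hRn.comap π, ?_⟩
    refine Set.eq_of_subset_of_ncard_le (fun x hx => ?_) ?_ (Set.toFinite _)
    · have : π x ∈ (R : Set (G ⧸ M)) := hx
      rw [hR] at this
      exact hsub x this
    · rw [← Nat.card_coe_set_eq, ← Nat.card_coe_set_eq]
      refine le_of_eq ?_
      show Nat.card {x : G // x ^ n = 1} = Nat.card (R.comap π)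
      rw [hpre, hcount]
      have : Nat.card R = r := by
        have h1 : Nat.card R = Nat.card {y : G ⧸ M // y ^ r = 1} := by
          show Nat.card (R : Set (G ⧸ M)) = _
          rw [hR]; rfl
        rw [h1, ht, ht1, mul_one]
      rw [this, ← hnr, ← htek, ht1, one_mul]
  · have hco : n.Coprime (p ^ k) := ((hp.coprime_iff_not_dvd.2 hpn).pow_left k).symm
    have hnd : n ∣ Nat.card (G ⧸ M) := hco.dvd_of_dvd_mul_right (hcard ▸ hn)
    obtain ⟨t, ht⟩ := frobenius_one n hnd
    have ht0 : 0 < t := pos_of_mul_pos_right (ht ▸ hSpos n) (Nat.zero_le n)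
    obtain ⟨e, he1, he0⟩ := Nat.chineseRemainder hco 1 0
    have hlift : Function.Surjective (fun x : {x : G // x ^ n = 1} =>
        (⟨π x.1, by rw [← map_pow, x.2, map_one]⟩ : {y : G ⧸ M // y ^ n = 1})) := by
      rintro ⟨y, hy⟩
      obtain ⟨x, rfl⟩ := QuotientGroup.mk'_surjective M y
      have hxn : x ^ n ∈ M := by
        rw [← map_pow, QuotientGroup.mk'_apply, QuotientGroup.eq_one_iff] at hy
        exact hy
      obtain ⟨c, hc⟩ := Nat.modEq_zero_iff_dvd.1 he0
      refine ⟨⟨x ^ e, ?_⟩, Subtype.ext ?_⟩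
      · have h1 : (x ^ n) ^ p ^ k = 1 := by
          rw [← hMk]
          exact congrArg Subtype.val (pow_card_eq_one' (x := (⟨_, hxn⟩ : M)))
        rw [← pow_mul, hc, mul_comm, ← mul_assoc, pow_mul, pow_mul, h1, one_pow]
      · show π (x ^ e) = π x
        rw [map_pow]
        conv_rhs => rw [← pow_one (π x)]
        exact pow_eq_pow_iff_modEq.2 (he1.of_dvd (orderOf_dvd_of_pow_eq_one hy))
    have hle := Nat.card_le_card_of_surjective _ hlift
    rw [hcount, ht] at hle
    have ht1 : t = 1 := by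
      have := Nat.le_of_mul_le_mul_left (hle.trans (mul_one n).ge) hn0
      omega
    obtain ⟨R, hRn, hR⟩ := ih _ hlt (G ⧸ M) hsolQ rfl n hnd (by rw [ht, ht1, mul_one])
    set K := R.comap π with hK
    have hMK : M ≤ K := fun a ha => by
      rw [hK, Subgroup.mem_comap, hπ, QuotientGroup.mk'_apply, (QuotientGroup.eq_one_iff a).2 ha]
      exact one_mem _
    have hRc : Nat.card R = n := by
      have h1 : Nat.card R = Nat.card {y : G ⧸ M // y ^ n = 1} := by
        show Nat.card (R : Set (G ⧸ M)) = _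
        rw [hR]; rfl
      rw [h1, ht, ht1, mul_one]
    have hMsub : Nat.card (M.subgroupOf K) = p ^ k := by
      rw [Nat.card_congr (subgroupOfEquivOfLe hMK).toEquiv, hMk]
    have hidx : (M.subgroupOf K).index = n := by
      have h2 := (M.subgroupOf K).card_mul_index
      rw [hMsub, hK, hpre, hRc, mul_comm n] at h2
      exact Nat.eq_of_mul_eq_mul_left (pow_pos hp.pos k) h2
    obtain ⟨L, hL⟩ := exists_right_complement'_of_coprime (N := M.subgroupOf K)
      (by rw [hMsub, hidx]; exact hco.symm)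
    have hLc : Nat.card L = n := by rw [← hidx, hL.symm.index_eq_card]
    have hset : ((L.map K.subtype : Subgroup G) : Set G) = {x : G | x ^ n = 1} := by
      refine Set.eq_of_subset_of_ncard_le ?_ ?_ (Set.toFinite _)
      · rintro _ ⟨a, ha, rfl⟩
        have h1 : (⟨a, ha⟩ : L) ^ n = 1 := by rw [← hLc]; exact pow_card_eq_one'
        have h2 : a ^ n = 1 := congrArg Subtype.val h1
        show (K.subtype a) ^ n = 1
        rw [← map_pow, h2, map_one]
      · rw [← Nat.card_coe_set_eq, ← Nat.card_coe_set_eq]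
        refine le_of_eq ?_
        show Nat.card {x : G // x ^ n = 1} = Nat.card (L.map K.subtype : Subgroup G)
        rw [card_map_of_injective K.subtype_injective, hcount, hLc]
    refine ⟨L.map K.subtype, ⟨fun a ha g => ?_⟩, hset⟩
    have h1 : a ∈ ((L.map K.subtype : Subgroup G) : Set G) := ha
    rw [hset] at h1
    show g * a * g⁻¹ ∈ ((L.map K.subtype : Subgroup G) : Set G)
    rw [hset, Set.mem_setOf_eq, conj_pow, show a ^ n = 1 from h1, mul_one, mul_inv_cancel]


/-- If `G` is a finite solvable group and `n` divides the order of `G` and exactly `n` elements `x` of `G` satisfy `x^n = 1`, then these elements form a normal subgroup. -/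
theorem result {G : Type*} [Group G] [Finite G] [Group.IsSolvable G] (n : ℕ) (hn : n ∣ Nat.card G) (hcount : Nat.card {x : G // x ^ n = 1} = n) : ∃ H : Subgroup G, H.Normal ∧ (H : Set G) = {x : G | x ^ n = 1} := by
  exact aux _ G inferInstance rfl n hn hcount

end Cfsg.Agent.S4213
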