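import Cfsg.Statements.S4214
import Mathlib
import Cfsg.Agent.Lib.Solvable.Hall
import Cfsg.Agent.Lib.Coprime.Sylow
import Cfsg.Agent.Lib.Solvable.Basic
import Cfsg.Agent.Lib.SylowCount.Basic
import Cfsg.Agent.Lib.PSL2.Partition

set_option autoImplicit false
open Cfsg

namespace Cfsg.Agent.S4214

universe u

open Subgroup
open scoped Pointwise

section NoFix

variable {H : Type*} [Group H] [Finite H] [Group.IsSolvable H]

/-- The fixed points of an action by automorphisms. -/
def fixSub {V : Type*} [Group V] (φ : H →* MulAut V) : Subgroup V where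
  carrier := {v | ∀ h, φ h v = v}
  one_mem' h := map_one _
  mul_mem' {x y} hx hy h := by rw [map_mul, hx h, hy h]
  inv_mem' {x} hx h := by rw [map_inv, hx h]

omit [Finite H] [Group.IsSolvable H] in
theorem map_eq_of_le {V : Type*} [Group V] (φ : H →* MulAut V) {W : Subgroup V}
    (hW : ∀ (h : H), ∀ v ∈ W, φ h v ∈ W) (h : H) : W.map (φ h).toMonoidHom = W := by
  refine le_antisymm ?_ fun v hv => ⟨φ h⁻¹ v, hW _ v hv, ?_⟩
  · rintro _ ⟨v, hv, rfl⟩
    exact hW h v hv
  · show φ h (φ h⁻¹ v) = v
    rw [← MulAut.mul_apply, ← map_mul, mul_inv_cancel, map_one, MulAut.one_apply]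

/-- The induced action on the quotient by an invariant subgroup. -/
def quotAct {V : Type*} [CommGroup V] (φ : H →* MulAut V) (W : Subgroup V)
    (hW : ∀ (h : H), ∀ v ∈ W, φ h v ∈ W) : H →* MulAut (V ⧸ W) where
  toFun h := QuotientGroup.congr W W (φ h) (map_eq_of_le φ hW h)
  map_one' := by
    ext x
    induction x using QuotientGroup.induction_on with
    | H v => simp [QuotientGroup.congr_mk]
  map_mul' a b := by
    ext x
    induction x using QuotientGroup.induction_on with
    | H v =>
      show ((φ (a * b) v : V) : V ⧸ W) = ((φ a (φ b v) : V) : V ⧸ W)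
      rw [map_mul]
      rfl

omit [Group.IsSolvable H] in
theorem quotAct_noFix {V : Type*} [CommGroup V] [Finite V] (φ : H →* MulAut V)
    (hcop : (Nat.card H).Coprime (Nat.card V)) (W : Subgroup V)
    (hW : ∀ (h : H), ∀ v ∈ W, φ h v ∈ W) (hfix : fixSub φ ≤ W) :
    fixSub (quotAct φ W hW) = ⊥ := by
  classical
  have := Fintype.ofFinite H
  refine (Subgroup.eq_bot_iff_forall _).2 fun x hx => ?_
  induction x using QuotientGroup.induction_on with
  | H v =>
    set y : V := ∏ h : H, φ h v with hy
    have hyF : y ∈ fixSub φ := fun k => by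
      rw [hy, map_prod]
      exact Fintype.prod_equiv (Equiv.mulLeft k) _ _ fun h => by simp
    have h1 : (y : V ⧸ W) = (v : V ⧸ W) ^ Nat.card H := by
      rw [hy, ← QuotientGroup.mk'_apply, map_prod, Nat.card_eq_fintype_card, ← Finset.card_univ]
      refine (Finset.prod_congr rfl fun h _ => ?_).trans (Finset.prod_const _)
      exact hx h
    rw [(QuotientGroup.eq_one_iff y).2 (hfix hyF)] at h1
    have hc : (orderOf (v : V ⧸ W)) ∣ Nat.card V :=
      (_root_.orderOf_dvd_natCard (v : V ⧸ W)).trans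
        ((dvd_of_eq W.index_eq_card.symm).trans W.index_dvd_card)
    exact orderOf_eq_one_iff.1
      (Nat.eq_one_of_dvd_coprimes hcop (orderOf_dvd_of_pow_eq_one h1.symm) hc)

/-- An irreducible coprime module of a solvable group without fixed points has order `≡ 1`
modulo some prime dividing the order of the group. -/
theorem modEq_of_irreducible {V : Type*} [CommGroup V] [Finite V] (φ : H →* MulAut V)
    (W : Subgroup V) (hW : ∀ (h : H), ∀ v ∈ W, φ h v ∈ W) (hW1 : W ≠ ⊥)
    (hfix : fixSub φ = ⊥)
    (hirr : ∀ U : Subgroup V, U ≤ W → (∀ (h : H), ∀ v ∈ U, φ h v ∈ U) → U = ⊥ ∨ U = W) :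
    ∃ p : ℕ, p.Prime ∧ p ∣ Nat.card H ∧ Nat.card W ≡ 1 [MOD p] := by
  letI : MulAction H W :=
    { smul := fun h v => ⟨φ h v, hW h v v.2⟩
      one_smul := fun v => Subtype.ext (by
        show φ 1 (v : V) = v
        simp)
      mul_smul := fun a b v => Subtype.ext (by
        show φ (a * b) (v : V) = φ a (φ b (v : V))
        simp) }
  set π := MulAction.toPermHom H W with hπ
  have hX : (⊤ : Subgroup π.range) ≠ ⊥ := by
    intro htb
    refine hW1 (le_bot_iff.1 (hfix ▸ fun v hv h => ?_))
    have h1 : π.rangeRestrict h ∈ (⊥ : Subgroup π.range) := htb ▸ mem_top _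
    have h2 : π h ⟨v, hv⟩ = ⟨v, hv⟩ := by
      have h3 : π h = 1 := congrArg Subtype.val (mem_bot.1 h1)
      rw [h3, Equiv.Perm.one_apply]
    exact congrArg Subtype.val h2
  have hsol : Group.IsSolvable π.range :=
    Group.isSolvable_of_surjective π.rangeRestrict_surjective
  have hsolT : Group.IsSolvable (⊤ : Subgroup π.range) :=
    Group.isSolvable_of_isSolvable_injective (f := (⊤ : Subgroup π.range).subtype)
      (Subgroup.subtype_injective _)
  obtain ⟨A, p, hAn, -, hA1, -, -, hp, hpA⟩ :=
    Cfsg.Agent.Solvable.exists_abelian_minimal_normal hsolT hX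
  have := Fact.mk hp
  have hpH : p ∣ Nat.card H := by
    have hA1' : Nat.card A ≠ 1 := fun h => hA1 (Subgroup.card_eq_one.1 h)
    obtain ⟨k, hk⟩ := IsPGroup.iff_card.1 hpA
    have hk0 : k ≠ 0 := fun h0 => hA1' (by rw [hk, h0, pow_zero])
    exact ((dvd_pow_self p hk0).trans (hk ▸ A.card_subgroup_dvd_card)).trans
      (Subgroup.card_range_dvd π)
  refine ⟨p, hp, hpH, ?_⟩
  have hs : ∀ (a : A) (v : W), a • v = ((a : π.range) : Equiv.Perm W) v := fun _ _ => rfl
  let U : Subgroup V :=
    { carrier := {v | ∃ hv : v ∈ W, ∀ a : A, a • (⟨v, hv⟩ : W) = ⟨v, hv⟩}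
      one_mem' := ⟨one_mem _, fun a => by
        obtain ⟨h, hh⟩ := (a : π.range).2
        rw [hs, ← hh]
        exact Subtype.ext (map_one (φ h))⟩
      mul_mem' := fun {x y} hx hy => by
        obtain ⟨hx, hx'⟩ := hx
        obtain ⟨hy, hy'⟩ := hy
        refine ⟨mul_mem hx hy, fun a => ?_⟩
        obtain ⟨h, hh⟩ := (a : π.range).2
        have h1 := congrArg Subtype.val (hx' a)
        have h2 := congrArg Subtype.val (hy' a)
        rw [hs, ← hh] at h1 h2 ⊢
        refine Subtype.ext ?_
        show φ h (x * y) = x * y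
        rw [map_mul]
        exact congrArg₂ (· * ·) h1 h2
      inv_mem' := fun {x} hx => by
        obtain ⟨hx, hx'⟩ := hx
        refine ⟨inv_mem hx, fun a => ?_⟩
        obtain ⟨h, hh⟩ := (a : π.range).2
        have h1 := congrArg Subtype.val (hx' a)
        rw [hs, ← hh] at h1 ⊢
        refine Subtype.ext ?_
        show φ h x⁻¹ = x⁻¹
        rw [map_inv]
        exact congrArg (·⁻¹) h1 }
  have hUW : U ≤ W := fun v hv => hv.1
  have hUinv : ∀ (h : H), ∀ v ∈ U, φ h v ∈ U := by
    rintro h v ⟨hv, hfv⟩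
    refine ⟨hW h v hv, fun a => ?_⟩
    set g : π.range := π.rangeRestrict h
    have hb := hfv ⟨g⁻¹ * a * g, by simpa using hAn.conj_mem _ a.2 g⁻¹⟩
    rw [hs] at hb ⊢
    have h1 : (⟨φ h v, hW h v hv⟩ : W) = (g : Equiv.Perm W) ⟨v, hv⟩ := rfl
    rw [h1]
    simp only [Subgroup.coe_mul, InvMemClass.coe_inv, Equiv.Perm.mul_apply] at hb
    exact Equiv.Perm.inv_eq_iff_eq.1 hb |>.trans rfl
  rcases hirr U hUW hUinv with hU | hU
  · refine (hpA.card_modEq_card_fixedPoints W).trans ?_
    have h1 : Nat.card (MulAction.fixedPoints A W) = 1 := by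
      refine Nat.card_eq_one_iff_unique.2
        ⟨⟨fun x y => ?_⟩, ⟨⟨1, fun a => ?_⟩⟩⟩
      · have hb : ∀ z : MulAction.fixedPoints A W, ((z : W) : V) = 1 := fun z => by
          have hz : ((z : W) : V) ∈ U := ⟨(z : W).2, fun a => z.2 a⟩
          rwa [hU, mem_bot] at hz
        exact Subtype.ext (Subtype.ext ((hb x).trans (hb y).symm))
      · obtain ⟨h, hh⟩ := (a : π.range).2
        rw [hs, ← hh]
        exact Subtype.ext (map_one (φ h))
    rw [h1]
  · refine absurd ((Subgroup.eq_bot_iff_forall _).2 fun a ha => ?_) hA1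
    refine Subtype.ext (Equiv.ext fun w => ?_)
    have hw : (w : V) ∈ U := hU.symm ▸ w.2
    exact hw.2 ⟨a, ha⟩

/-- A coprime module of a solvable group without fixed points: its order splits into factors
`≡ 1` modulo primes dividing the order of the group. -/
theorem exists_factors : ∀ (n : ℕ) (V : Type u) [CommGroup V] [Finite V] (φ : H →* MulAut V),
    Nat.card V = n → (Nat.card H).Coprime (Nat.card V) → fixSub φ = ⊥ →
    ∃ l : List ℕ, l.prod = n ∧ ∀ x ∈ l, x ∣ n ∧
      ∃ p : ℕ, p.Prime ∧ p ∣ Nat.card H ∧ x ≡ 1 [MOD p] := by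
  intro n
  induction n using Nat.strong_induction_on with
  | _ n ih =>
    intro V _ _ φ hn hcop hfix
    by_cases h1 : Nat.card V = 1
    · exact ⟨[], by simp [← hn, h1], by simp⟩
    obtain ⟨W, hW⟩ := Set.Finite.exists_minimal
      (s := {W : Subgroup V | W ≠ ⊥ ∧ ∀ (h : H), ∀ v ∈ W, φ h v ∈ W}) (Set.toFinite _)
      ⟨⊤, fun h => h1 (by rw [← Subgroup.card_top, h, Subgroup.card_bot]), fun _ _ _ => mem_top _⟩
    obtain ⟨p, hp, hpH, hpW⟩ := modEq_of_irreducible φ W hW.1.2 hW.1.1 hfix fun U hUW hU => by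
      by_cases hU1 : U = ⊥
      · exact Or.inl hU1
      · exact Or.inr (le_antisymm hUW (hW.2 ⟨hU1, hU⟩ hUW))
    have hq : Nat.card (V ⧸ W) * Nat.card W = n :=
      hn ▸ (W.card_eq_card_quotient_mul_card_subgroup).symm
    have hlt : Nat.card (V ⧸ W) < n := by
      rw [← hq]
      exact lt_mul_of_one_lt_right Nat.card_pos ((Subgroup.one_lt_card_iff_ne_bot W).2 hW.1.1)
    obtain ⟨l, hl, hl'⟩ := ih _ hlt (V ⧸ W) (quotAct φ W hW.1.2) rfl
      (hcop.coprime_dvd_right (hn.symm ▸ hq ▸ dvd_mul_right _ _))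
      (quotAct_noFix φ hcop W hW.1.2 (hfix.le.trans bot_le))
    refine ⟨Nat.card W :: l, by rw [List.prod_cons, hl, mul_comm, hq], fun x hx => ?_⟩
    rcases List.mem_cons.1 hx with rfl | hx
    · exact ⟨hq ▸ dvd_mul_left _ _, p, hp, hpH, hpW⟩
    · exact ⟨(hl' x hx).1.trans (hq ▸ dvd_mul_right _ _), (hl' x hx).2⟩

/-- The index of the fixed points of a coprime action of a solvable group on an abelian group. -/
theorem exists_factors_index {V : Type u} [CommGroup V] [Finite V] (φ : H →* MulAut V)
    (hcop : (Nat.card H).Coprime (Nat.card V)) :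
    ∃ l : List ℕ, l.prod = (fixSub φ).index ∧ ∀ x ∈ l, x ∣ (fixSub φ).index ∧
      ∃ p : ℕ, p.Prime ∧ p ∣ Nat.card H ∧ x ≡ 1 [MOD p] := by
  have hinv : ∀ (h : H), ∀ v ∈ fixSub φ, φ h v ∈ fixSub φ := fun h v hv => by
    rw [hv h]; exact hv
  exact exists_factors _ _ (quotAct φ _ hinv) (fixSub φ).index_eq_card.symm
    (hcop.coprime_dvd_right ((dvd_of_eq (fixSub φ).index_eq_card.symm).trans (fixSub φ).index_dvd_card))
    (quotAct_noFix φ hcop _ hinv le_rfl)

end NoFix

/-- The conditions on the factors. -/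
def IsFactor (G : Type*) [Group G] (m x : ℕ) : Prop :=
  (∃ q e : ℕ, q.Prime ∧ x = q ^ e) ∧ (∃ K L : Subgroup G, K.Normal ∧ L.Normal ∧ K < L ∧
    (∀ M : Subgroup G, M.Normal → K ≤ M → M ≤ L → M = K ∨ M = L) ∧ x ∣ K.relIndex L) ∧
    (∃ q : ℕ, q.Prime ∧ q ∣ m ∧ x ≡ 1 [MOD q])

theorem IsFactor.of_quotient {G : Type*} [Group G] {N : Subgroup G} [N.Normal] {m m' x : ℕ}
    (hm : m' ∣ m) (h : IsFactor (G ⧸ N) m' x) : IsFactor G m x := by
  obtain ⟨h1, ⟨K, L, hK, hL, hKL, hmin, hd⟩, q, hq, hqm, hx⟩ := h
  have hs := QuotientGroup.mk'_surjective N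
  refine ⟨h1, ⟨K.comap (QuotientGroup.mk' N), L.comap (QuotientGroup.mk' N), hK.comap _,
    hL.comap _, (Subgroup.comap_lt_comap_of_surjective hs).2 hKL, ?_, ?_⟩, q, hq,
    hqm.trans hm, hx⟩
  · intro M hM hKM hML
    have hNM : N ≤ M := (QuotientGroup.le_comap_mk' N K).trans hKM
    have hMe : (M.map (QuotientGroup.mk' N)).comap (QuotientGroup.mk' N) = M := by
      rw [comap_map_eq, QuotientGroup.ker_mk', sup_of_le_left hNM]
    rcases hmin _ (hM.map _ hs)
        ((map_comap_eq_self_of_surjective hs K).ge.trans (map_mono hKM)) (map_le_iff_le_comap.2 hML) with h | h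
    · exact Or.inl (by rw [← hMe, h])
    · exact Or.inr (by rw [← hMe, h])
  · rwa [relIndex_comap, map_comap_eq_self_of_surjective hs]

/-- The number of subgroups of order `m` is the index of the normalizer of any of them. -/
theorem count_eq_index {G : Type*} [Group G] [Finite G] [Group.IsSolvable G] {m n : ℕ}
    (hG : Nat.card G = m * n) (hmn : m.Coprime n) {H : Subgroup G} (hH : Nat.card H = m) :
    Nat.card {K : Subgroup G // Nat.card K = m} = (normalizer (H : Set G)).index := by
  rw [← Cfsg.Agent.PSL2.Part.Partition.card_conjugates H]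
  refine Nat.card_congr (Equiv.subtypeEquivRight fun K => ⟨fun hK => ?_, ?_⟩)
  · obtain ⟨g, hg⟩ := Cfsg.Agent.Solvable.exists_conj_eq_hall hG hmn hH hK
    exact ⟨g, hg⟩
  · rintro ⟨g, rfl⟩
    rw [Cfsg.Agent.PSL2.Part.Partition.card_map_conj, hH]

theorem exists_hall_factors : ∀ (k : ℕ) (G : Type u) [Group G] [Finite G] [Group.IsSolvable G],
    Nat.card G = k → ∀ m n : ℕ, Nat.card G = m * n → m.Coprime n →
    ∃ l : List ℕ, l.prod = Nat.card {H : Subgroup G // Nat.card H = m} ∧
      ∀ x ∈ l, IsFactor G m x := by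
  intro k
  induction k using Nat.strong_induction_on with
  | _ k ih =>
    intro G _ _ _ hk m n hG hmn
    rcases subsingleton_or_nontrivial G with hsub | hnt
    · refine ⟨[], ?_, by simp⟩
      obtain ⟨H, hH⟩ := Cfsg.Agent.Solvable.exists_hall hG hmn
      rw [count_eq_index hG hmn hH, List.prod_nil, eq_comm, Subgroup.index_eq_one]
      exact Subsingleton.elim _ _
    obtain ⟨M, q, hMn, -, hM1, hmin, hMc, hq, hqM⟩ :=
      Cfsg.Agent.Solvable.exists_abelian_minimal_normal
        (Group.isSolvable_of_isSolvable_injective (f := (⊤ : Subgroup G).subtype)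
          (Subgroup.subtype_injective _)) (top_ne_bot : (⊤ : Subgroup G) ≠ ⊥)
    have := Fact.mk hq
    obtain ⟨e, he⟩ := hqM.exists_card_eq
    set f := QuotientGroup.mk' M with hf
    have hGM : Nat.card (G ⧸ M) * q ^ e = m * n := by
      rw [← he, Cfsg.Agent.Solvable.card_quotient_mul_card, hG]
    have hlt : Nat.card (G ⧸ M) < k := by
      rw [← hk, ← Cfsg.Agent.Solvable.card_quotient_mul_card M]
      exact lt_mul_of_one_lt_right Nat.card_pos ((Subgroup.one_lt_card_iff_ne_bot M).2 hM1)
    by_cases hqm : q ∣ m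
    · have hqn : (q ^ e).Coprime n :=
        Nat.Coprime.pow_left e (Nat.Coprime.coprime_dvd_left hqm hmn)
      obtain ⟨m', hm'⟩ := hqn.dvd_of_dvd_mul_right (hGM ▸ dvd_mul_left _ _)
      have hqG : Nat.card (G ⧸ M) = m' * n := by
        refine Nat.eq_of_mul_eq_mul_right (pow_pos hq.pos e) ?_
        rw [hGM, hm']
        ring
      have hm'd : m' ∣ m := ⟨q ^ e, by rw [hm']; ring⟩
      obtain ⟨l, hl, hl'⟩ := ih _ hlt (G ⧸ M) rfl m' n hqG (hmn.coprime_dvd_left hm'd)
      refine ⟨l, hl.trans ?_, fun x hx => (hl' x hx).of_quotient hm'd⟩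
      have hMle : ∀ K : Subgroup G, Nat.card K = m → M ≤ K := by
        intro K hK
        have hcop : (Nat.card (K ⊔ M : Subgroup G)).Coprime n := by
          rw [Cfsg.Agent.Solvable.card_sup_normal, he]
          exact hqn.mul_left ((hK ▸ hmn).coprime_dvd_left (card_map_dvd _ _))
        have hdm : Nat.card (K ⊔ M : Subgroup G) ∣ m :=
          hcop.dvd_of_dvd_mul_right (hG ▸ card_subgroup_dvd_card _)
        exact le_sup_right.trans (eq_of_le_of_card_ge le_sup_left
          (by rw [hK]; exact Nat.le_of_dvd (hK ▸ Nat.card_pos) hdm)).ge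
      refine Nat.card_congr
        { toFun := fun L => ⟨(L : Subgroup (G ⧸ M)).comap f, by
            rw [hf, Cfsg.Agent.Solvable.card_comap_quotient, L.2, he, hm']⟩
          invFun := fun K => ⟨(K : Subgroup G).map f, by
            have h := Cfsg.Agent.Solvable.card_sup_normal M (K : Subgroup G)
            rw [sup_of_le_left (hMle _ K.2), K.2, he] at h
            refine Nat.eq_of_mul_eq_mul_left (pow_pos hq.pos e) ?_
            rw [← h, hm']⟩
          left_inv := fun L => Subtype.ext
            (map_comap_eq_self_of_surjective (QuotientGroup.mk'_surjective M) _)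
          right_inv := fun K => Subtype.ext (by
            show ((K : Subgroup G).map f).comap f = K
            rw [comap_map_eq, hf, QuotientGroup.ker_mk', sup_of_le_left (hMle _ K.2)]) }
    · have hqm' : (q ^ e).Coprime m := Nat.Coprime.pow_left e (hq.coprime_iff_not_dvd.2 hqm)
      obtain ⟨n', hn'⟩ := hqm'.dvd_of_dvd_mul_left (hGM ▸ dvd_mul_left _ _)
      have hqG : Nat.card (G ⧸ M) = m * n' := by
        refine Nat.eq_of_mul_eq_mul_right (pow_pos hq.pos e) ?_
        rw [hGM, hn']
        ring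
      have hn'c : m.Coprime n' := hmn.coprime_dvd_right ⟨q ^ e, by rw [hn']; ring⟩
      obtain ⟨l, hl, hl'⟩ := ih _ hlt (G ⧸ M) rfl m n' hqG hn'c
      obtain ⟨H, hH⟩ := Cfsg.Agent.Solvable.exists_hall hG hmn
      have hcop : (Nat.card H).Coprime (Nat.card M) := by rw [hH, he]; exact hqm'.symm
      have hHd : H ⊓ M = ⊥ := Cfsg.Agent.Coprime.disjoint_of_coprime_card hcop
      have hMN : H ≤ normalizer (M : Set G) := by rw [normalizer_eq_top]; exact le_top
      have hHf : Nat.card (H.map f) = m := by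
        refine Nat.eq_of_mul_eq_mul_left (pow_pos hq.pos e) ?_
        rw [← he, ← Cfsg.Agent.Solvable.card_sup_normal,
          Cfsg.Agent.Coprime.card_sup_of_le_normalizer hMN hHd, hH, he, mul_comm]
      set NH := normalizer (H : Set G) with hNH
      -- Frattini argument
      have hfr : normalizer (((H.map f).comap f : Subgroup G) : Set G) = NH ⊔ M := by
        have hcm : (H.map f).comap f = H ⊔ M := by rw [comap_map_eq, hf, QuotientGroup.ker_mk']
        rw [hcm]
        apply le_antisymm
        · intro g hg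
          have hB : MulAut.conj g • H ≤ H ⊔ M := by
            conv_rhs => rw [← Cfsg.Agent.Coprime.conj_smul_eq_self_of_mem hg]
            exact Subgroup.pointwise_smul_le_pointwise_smul_iff.2 le_sup_left
          obtain ⟨x, hx, hxB⟩ := Cfsg.Agent.Coprime.exists_le_conj_of_le_sup hMN hB hcop
            (by rwa [Cfsg.Agent.Coprime.card_conj_smul]) (Or.inl inferInstance)
          have heq : MulAut.conj g • H = MulAut.conj x • H := eq_of_le_of_card_ge hxB
            (by rw [Cfsg.Agent.Coprime.card_conj_smul, Cfsg.Agent.Coprime.card_conj_smul])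
          have hgx : x⁻¹ * g ∈ NH := by
            refine Cfsg.Agent.Coprime.mem_normalizer_of_conj_smul_eq ?_
            rw [← Cfsg.Agent.Coprime.conj_smul_smul, heq, Cfsg.Agent.Coprime.conj_smul_smul,
              inv_mul_cancel, map_one, one_smul]
          rw [← mul_inv_cancel_left x g]
          exact mul_mem (mem_sup_right hx) (mem_sup_left hgx)
        · refine sup_le ?_ (le_sup_right.trans le_normalizer)
          intro g hg
          refine Cfsg.Agent.Coprime.mem_normalizer_of_conj_smul_eq ?_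
          rw [Subgroup.smul_sup, Cfsg.Agent.Coprime.conj_smul_eq_self_of_mem hg,
            Cfsg.Agent.Coprime.conj_smul_eq_self_of_mem
              (show g ∈ normalizer (M : Set G) by rw [normalizer_eq_top]; exact mem_top g)]
      have hnc : NH.relIndex M = (centralizer (H : Set G)).relIndex M := by
        rw [← inf_relIndex_right NH M, ← inf_relIndex_right (centralizer _) M]
        congr 1
        refine le_antisymm (fun x hx => ⟨mem_centralizer_iff.mpr fun y hy => ?_, hx.2⟩)
          (inf_le_inf_right M (centralizer_le_normalizer _))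
        have h1 : x * y * x⁻¹ * y⁻¹ ∈ H ⊓ M := by
          refine mem_inf.mpr ⟨mul_mem ((mem_normalizer_iff.mp hx.1 y).mp hy) (inv_mem hy), ?_⟩
          have h2 : x * (y * x⁻¹ * y⁻¹) ∈ M := mul_mem hx.2 (hMn.conj_mem _ (inv_mem hx.2) y)
          rwa [← mul_assoc, ← mul_assoc] at h2
        rw [hHd, mem_bot, mul_inv_eq_one, mul_inv_eq_iff_eq_mul] at h1
        exact h1.symm
      have hcount : Nat.card {K : Subgroup G // Nat.card K = m} =
          Nat.card {L : Subgroup (G ⧸ M) // Nat.card L = m} *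
            (centralizer (H : Set G)).relIndex M := by
        rw [count_eq_index hG hmn hH, count_eq_index hqG hn'c hHf,
          ← index_comap_of_surjective _ (QuotientGroup.mk'_surjective M),
          comap_normalizer_eq_of_surjective _ (QuotientGroup.mk'_surjective M), ← hf, hfr,
          ← hnc, ← Cfsg.Agent.SylowCount.relIndex_self_sup NH M, mul_comm,
          relIndex_mul_index le_sup_left]
      letI : CommGroup M := { (inferInstance : Group M) with mul_comm := mul_comm' }
      set φ : H →* MulAut M := MulAut.conjNormal.comp H.subtype with hφ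
      have hF : fixSub φ = (centralizer (H : Set G)).subgroupOf M := by
        ext v
        rw [mem_subgroupOf, mem_centralizer_iff]
        constructor
        · intro hv h hh
          have h1 := congrArg Subtype.val (hv ⟨h, hh⟩)
          simp only [hφ, MonoidHom.comp_apply, MulAut.conjNormal_apply, Subgroup.coe_subtype] at h1
          exact mul_inv_eq_iff_eq_mul.1 h1
        · intro hv h
          refine Subtype.ext ?_
          simp only [hφ, MonoidHom.comp_apply, MulAut.conjNormal_apply, Subgroup.coe_subtype]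
          rw [hv h h.2, mul_inv_cancel_right]
      obtain ⟨l', hl2, hl2'⟩ := exists_factors_index φ hcop
      rw [hF] at hl2 hl2'
      refine ⟨l ++ l', ?_, fun x hx => ?_⟩
      · rw [List.prod_append, hl, hl2, hcount]
        rfl
      · rcases List.mem_append.1 hx with hx | hx
        · exact (hl' x hx).of_quotient dvd_rfl
        · obtain ⟨hxd, p, hp, hpH, hx1⟩ := hl2' x hx
          have hxe : x ∣ q ^ e := he ▸ hxd.trans (Subgroup.index_dvd_card _)
          obtain ⟨i, -, rfl⟩ := (Nat.dvd_prime_pow hq).1 hxe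
          exact ⟨⟨q, i, hq, rfl⟩, ⟨⊥, M, inferInstance, hMn, bot_lt_iff_ne_bot.2 hM1,
            fun M' hM' _ hle => hmin M' hM' hle, by rw [relIndex_bot_left, he]; exact hxe⟩,
            p, hp, hH ▸ hpH, hx1⟩


/-- Let `G` be a finite solvable group of order `mn` with `gcd(m, n) = 1`. Then the number of subgroups of order `m` is a product of natural numbers each of which is a power of a prime, divides the order of some chief factor of `G` (a quotient `L/K` of normal subgroups `K < L` of `G` with no normal subgroup of `G` strictly between them), and is congruent to `1` modulo some prime divisor of `m`. -/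
theorem result {G : Type*} [Group G] [Finite G] [Group.IsSolvable G] (m n : ℕ) (hG : Nat.card G = m * n) (hmn : Nat.Coprime m n) : ∃ (k : ℕ) (f : Fin k → ℕ), Nat.card {H : Subgroup G // Nat.card H = m} = ∏ i, f i ∧ ∀ i, (∃ q e : ℕ, q.Prime ∧ f i = q ^ e) ∧ (∃ K L : Subgroup G, K.Normal ∧ L.Normal ∧ K < L ∧ (∀ M : Subgroup G, M.Normal → K ≤ M → M ≤ L → M = K ∨ M = L) ∧ f i ∣ K.relIndex L) ∧ (∃ q : ℕ, q.Prime ∧ q ∣ m ∧ f i ≡ 1 [MOD q]) := by
  obtain ⟨l, hl, hl'⟩ := exists_hall_factors _ G rfl m n hG hmn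
  refine ⟨l.length, fun i => l[i], ?_, fun i => hl' _ (List.getElem_mem _)⟩
  rw [← hl, ← List.prod_ofFn]
  exact congrArg List.prod List.ofFn_getElem.symm

end Cfsg.Agent.S4214
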