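import Cfsg.Statements.S4216
import Mathlib
-- import your own Cfsg.Agent.* helpers here

set_option autoImplicit false
open Cfsg

namespace Cfsg.Agent.S4216

open Subgroup MulAction

theorem prod_lift {G A B : Type*} [Group G] [CommGroup A] [CommGroup B] (f : G →* A) (g : G →* B)
    {ι : Type*} (s : Finset ι) (a : ι → G) :
    ∃ b : G, f b = ∏ i ∈ s, f (a i) ∧ g b = ∏ i ∈ s, g (a i) := by
  classical
  induction s using Finset.induction_on with
  | empty => exact ⟨1, by simp, by simp⟩
  | @insert i s hi ih =>
    obtain ⟨b, hb, hb'⟩ := ih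
    exact ⟨a i * b, by rw [map_mul, hb, Finset.prod_insert hi], by rw [map_mul, hb', Finset.prod_insert hi]⟩

/-- The transfer into an abelian quotient of a Sylow subgroup that kills `P ∩ N(P)'` and all
`P ∩ P'^z` detects `P ∩ G'`. -/
theorem mem_ker_of_mem_commutator {G : Type*} [Group G] [Finite G] {p : ℕ} [Fact p.Prime]
    (P : Sylow p G) {A : Type*} [CommGroup A] (φ : (P : Subgroup G) →* A)
    (hN : ∀ z : (P : Subgroup G), (z : G) ∈ ⁅normalizer ((P : Subgroup G) : Set G),
      normalizer ((P : Subgroup G) : Set G)⁆ → φ z = 1)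
    (hC : ∀ (t : G) (z : (P : Subgroup G)), t * z * t⁻¹ ∈ ⁅(P : Subgroup G), (P : Subgroup G)⁆ → φ z = 1) :
    ∀ n : ℕ, ∀ x : (P : Subgroup G), orderOf x = n → (x : G) ∈ commutator G → φ x = 1 := by
  classical
  intro n
  induction n using Nat.strong_induction_on with
  | _ n ih =>
  intro x hn hxG
  by_cases hx1 : x = 1
  · rw [hx1, map_one]
  let _ : Fintype (G ⧸ (P : Subgroup G)) := Fintype.ofFinite _
  let _ : Fintype (Quotient (orbitRel (zpowers (x : G)) (G ⧸ (P : Subgroup G)))) := Fintype.ofFinite _
  let _ : Fintype (Quotient (orbitRel (P : Subgroup G) (G ⧸ (P : Subgroup G)))) := Fintype.ofFinite _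
  let mkx : G ⧸ (P : Subgroup G) → Quotient (orbitRel (zpowers (x : G)) (G ⧸ (P : Subgroup G))) :=
    Quotient.mk''
  let mkP : G ⧸ (P : Subgroup G) → Quotient (orbitRel (P : Subgroup G) (G ⧸ (P : Subgroup G))) :=
    Quotient.mk''
  have hle : ∀ y y', mkx y = mkx y' → mkP y = mkP y' := by
    intro y y' h
    obtain ⟨k, hk⟩ := (orbitRel_apply.1 (Quotient.exact' h) : y ∈ orbit (zpowers (x : G)) y')
    exact Quotient.sound' (orbitRel_apply.2 ⟨⟨_, zpowers_le.2 x.2 k.2⟩, hk⟩)
  let F : Quotient (orbitRel (zpowers (x : G)) (G ⧸ (P : Subgroup G))) →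
      Quotient (orbitRel (P : Subgroup G) (G ⧸ (P : Subgroup G))) := fun q => mkP q.out
  have hFmk : ∀ y, F (mkx y) = mkP y := fun y => hle _ _ (Quotient.out_eq' (mkx y))
  set cf := Finset.univ.filter fun y : G ⧸ (P : Subgroup G) => y ∈ fixedPoints (P : Subgroup G) _ with hcf
  have hV : MonoidHom.transfer φ (x : G) = φ x ^ cf.card := by
    rw [MonoidHom.transfer_eq_prod_quotient_orbitRel_zpowers_quot,
      ← Finset.prod_fiberwise (g := F)]
    have key : ∀ O, (∏ q ∈ Finset.univ.filter (fun q => F q = O),
        φ ⟨q.out.out⁻¹ * (x : G) ^ Function.minimalPeriod ((x : G) • ·) q.out * q.out.out,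
          QuotientGroup.out_conj_pow_minimalPeriod_mem _ (x : G) q.out⟩) =
        if O.out ∈ fixedPoints (P : Subgroup G) (G ⧸ (P : Subgroup G)) then φ x else 1 := by
      intro O
      set t := O.out.out with ht
      let r : Quotient (orbitRel (zpowers (x : G)) (G ⧸ (P : Subgroup G))) → ℕ :=
        fun q => Function.minimalPeriod ((x : G) • ·) q.out
      let ι := {q // q ∈ Finset.univ.filter (fun q => F q = O)}
      have hrep : ∀ q : ι, ∃ s : (P : Subgroup G), ∃ h : (P : Subgroup G),
          q.1.out.out = (s : G) * t * h := by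
        intro q
        have h1 : mkP q.1.out = mkP O.out :=
          ((Finset.mem_filter.1 q.2).2).trans (Quotient.out_eq' O).symm
        obtain ⟨s, hs⟩ := (orbitRel_apply.1 (Quotient.exact' h1) :
          q.1.out ∈ orbit (P : Subgroup G) O.out)
        have hs' : (((s : G) * t : G) : G ⧸ (P : Subgroup G)) = q.1.out := by
          rw [← hs, ht]
          conv_rhs => rw [← QuotientGroup.out_eq' O.out]
          rfl
        refine ⟨s, ⟨((s : G) * t)⁻¹ * q.1.out.out,
          QuotientGroup.eq.1 (hs'.trans (QuotientGroup.out_eq' _).symm)⟩, ?_⟩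
        exact (mul_inv_cancel_left _ _).symm
      choose s h hsh using hrep
      let Q : Subgroup G := (P : Subgroup G) ⊓ (P : Subgroup G).map (MulAut.conj t).toMonoidHom
      have hQ : ∀ a : Q, t⁻¹ * (a : G) * t ∈ (P : Subgroup G) := by
        intro a
        obtain ⟨b, hb, e⟩ := (mem_inf.1 a.2).2
        rw [← e]
        have hb2 : b ∈ (P : Subgroup G) := hb
        simpa [mul_assoc] using hb2
      let ψ : Q →* A := φ.comp
        { toFun := fun a => ⟨t⁻¹ * (a : G) * t, hQ a⟩
          map_one' := Subtype.ext (by simp)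
          map_mul' := fun a b => Subtype.ext (by
            show t⁻¹ * ((a : G) * b) * t = t⁻¹ * a * t * (t⁻¹ * b * t)
            group) }
      let π : Q →* Abelianization (P : Subgroup G) :=
        Abelianization.of.comp (inclusion inf_le_left)
      have hπψ : ∀ a b : Q, π a = π b → ψ a = ψ b := by
        intro a b hab
        have h1 : ((⟨a, (mem_inf.1 a.2).1⟩ : (P : Subgroup G))⁻¹ *
            ⟨b, (mem_inf.1 b.2).1⟩ : (P : Subgroup G)) ∈ commutator (P : Subgroup G) :=
          (QuotientGroup.eq (s := commutator (P : Subgroup G))).1 hab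
        have h2 : (a : G)⁻¹ * b ∈ ⁅(P : Subgroup G), (P : Subgroup G)⁆ := by
          rw [← map_subtype_commutator]
          exact ⟨_, h1, rfl⟩
        have h3 : ψ (a⁻¹ * b) = 1 := hC t _ (by
          show t * (t⁻¹ * ((a : G)⁻¹ * b) * t) * t⁻¹ ∈ _
          convert h2 using 1
          group)
        rw [map_mul, map_inv] at h3
        exact inv_mul_eq_one.1 h3
      have hterm : ∀ q : ι, ∃ a : Q, (a : G) = (s q : G)⁻¹ * (x : G) ^ r q * s q ∧
          φ ⟨q.1.out.out⁻¹ * (x : G) ^ r q * q.1.out.out,
            QuotientGroup.out_conj_pow_minimalPeriod_mem _ (x : G) _⟩ = ψ a := by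
        intro q
        have haP : (s q : G)⁻¹ * (x : G) ^ r q * s q ∈ (P : Subgroup G) :=
          mul_mem (mul_mem (inv_mem (s q).2) (pow_mem x.2 _)) (s q).2
        have h0 := QuotientGroup.out_conj_pow_minimalPeriod_mem (P : Subgroup G) (x : G) q.1.out
        have hat : t⁻¹ * ((s q : G)⁻¹ * (x : G) ^ r q * s q) * t ∈ (P : Subgroup G) := by
          have h1 := mul_mem (mul_mem (h q).2 h0) (inv_mem (h q).2)
          convert h1 using 1
          rw [hsh]
          simp only [r]
          group
        refine ⟨⟨_, mem_inf.2 ⟨haP, _, hat, by simp [mul_assoc]⟩⟩, rfl, ?_⟩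
        have e : (⟨q.1.out.out⁻¹ * (x : G) ^ r q * q.1.out.out, h0⟩ :
            (P : Subgroup G)) = (h q)⁻¹ * ⟨_, hat⟩ * h q := by
          apply Subtype.ext
          simp only [Subgroup.coe_mul, Subgroup.coe_inv]
          rw [hsh]
          group
        rw [show φ ⟨_, _⟩ = _ from congrArg φ e, map_mul, map_mul, map_inv, mul_comm (φ (h q))⁻¹,
          inv_mul_cancel_right]
        rfl
      choose a haG haφ using hterm
      rw [← Finset.prod_coe_sort]
      rw [Finset.prod_congr rfl fun q _ => haφ q]
      obtain ⟨b, hb, hb'⟩ := prod_lift π ψ Finset.univ a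
      rw [Finset.prod_congr (s₂ := (Finset.univ : Finset ι)) (by ext q; simp) fun q _ => rfl, ← hb']
      -- the size of the orbit
      set m := Nat.card (orbit (P : Subgroup G) O.out) with hm
      have hsum : ∑ q : ι, r q = m := by
        refine (Finset.sum_subtype (Finset.univ.filter fun q => F q = O) (fun q => Iff.rfl) r).symm.trans ?_
        rw [hm]
        have horb : Nat.card (orbit (P : Subgroup G) O.out) =
            (Finset.univ.filter fun y => mkP y = O).card := by
          rw [Nat.card_eq_fintype_card, ← Set.toFinset_card]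
          congr 1
          ext y
          rw [Set.mem_toFinset, Finset.mem_filter, and_iff_right (Finset.mem_univ y)]
          conv_rhs => rw [← Quotient.out_eq' O]
          exact ⟨fun hy => Quotient.sound' (orbitRel_apply.2 hy),
            fun hy => orbitRel_apply.1 (Quotient.exact' hy)⟩
        rw [horb, Finset.card_eq_sum_card_fiberwise (f := mkx)
          (t := Finset.univ.filter fun q => F q = O)]
        · refine Finset.sum_congr rfl fun q hq => ?_
          show Function.minimalPeriod _ _ = _
          rw [minimalPeriod_eq_card, ← Set.toFinset_card]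
          congr 1
          ext y
          rw [Set.mem_toFinset, Finset.mem_filter, Finset.mem_filter,
            and_iff_right (Finset.mem_univ y)]
          constructor
          · intro hy
            have he : mkx y = q := (Quotient.sound' (orbitRel_apply.2 hy)).trans (Quotient.out_eq' q)
            exact ⟨by rw [← hFmk, he]; exact (Finset.mem_filter.1 hq).2, he⟩
          · rintro ⟨-, hy⟩
            exact orbitRel_apply.1 (Quotient.exact' (hy.trans (Quotient.out_eq' q).symm))
        · intro y hy
          simp only [Finset.coe_filter, Finset.mem_univ, true_and, Set.mem_setOf_eq] at hy ⊢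
          rw [hFmk, hy]
      have hxm : t⁻¹ * (x : G) ^ m * t ∈ (P : Subgroup G) := by
        obtain ⟨k, hk⟩ := (show IsPGroup p (P : Subgroup G) from P.2).card_orbit O.out
        have h0 : Function.minimalPeriod ((x : G) • ·) O.out ∣ m := by
          have h1 : IsPGroup p (zpowers (x : G)) := P.2.to_le (zpowers_le.2 x.2)
          obtain ⟨j, hj⟩ := h1.card_orbit O.out
          have h2 : Nat.card (orbit (zpowers (x : G)) O.out) ≤ m := Nat.card_mono (Set.toFinite _)
            (fun y ⟨g, hg⟩ => ⟨⟨g, zpowers_le.2 x.2 g.2⟩, hg⟩)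
          rw [hm, hk] at h2 ⊢
          rw [minimalPeriod_eq_card, ← Nat.card_eq_fintype_card]
          refine (dvd_of_eq hj).trans ?_
          rw [hj] at h2
          exact pow_dvd_pow p ((Nat.pow_le_pow_iff_right (Fact.out (p := p.Prime)).one_lt).1 h2)
        obtain ⟨c, hc⟩ := h0
        have h1 := pow_mem (QuotientGroup.out_conj_pow_minimalPeriod_mem (P : Subgroup G) (x : G) O.out) c
        convert h1 using 1
        have hcp : ∀ (d : G) (i : ℕ), (t⁻¹ * d * t) ^ i = t⁻¹ * d ^ i * t := fun d i => by
          simpa using conj_pow (a := t⁻¹) (b := d) (i := i)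
        rw [← ht, hcp, hc, pow_mul]
      have hb2 : π b = π ⟨(x : G) ^ m, mem_inf.2 ⟨pow_mem x.2 _, _, hxm, by simp [mul_assoc]⟩⟩ := by
        have hπa : ∀ q, π (a q) = Abelianization.of x ^ r q := by
          intro q
          have e : (inclusion inf_le_left (a q) : (P : Subgroup G)) = (s q)⁻¹ * x ^ r q * s q :=
            Subtype.ext (haG q)
          show Abelianization.of (inclusion inf_le_left (a q)) = _
          rw [e, map_mul, map_mul, map_inv, map_pow, mul_comm (Abelianization.of (s q))⁻¹,
            inv_mul_cancel_right]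
        rw [hb, Finset.prod_congr rfl fun q _ => hπa q, Finset.prod_pow_eq_pow_sum, hsum, ← map_pow]
        rfl
      rw [hπψ _ _ hb2]
      obtain ⟨k, hk⟩ := (show IsPGroup p (P : Subgroup G) from P.2).card_orbit O.out
      rw [← hm] at hk
      split_ifs with hfix
      · have hm1 : m = 1 := by
          rw [hm]
          have := mem_fixedPoints_iff_card_orbit_eq_one.1 hfix
          rw [Nat.card_eq_fintype_card]; exact this
        have htN : t⁻¹ ∈ normalizer ((P : Subgroup G) : Set G) := by
          refine inv_mem (mem_normalizer_iff''.2 fun y => ?_)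
          have hone : ∀ z : (P : Subgroup G), t⁻¹ * (z : G) * t ∈ (P : Subgroup G) := fun z => by
            have h1 := hfix z
            rw [← QuotientGroup.out_eq' O.out] at h1
            have h2 := QuotientGroup.eq.1 h1
            have h3 := inv_mem h2
            rw [mul_inv_rev, inv_inv] at h3
            simpa [← ht, mul_assoc] using h3
          constructor
          · exact fun hy => hone ⟨y, hy⟩
          · intro hy
            have hsurj : Function.Surjective (fun z : (P : Subgroup G) =>
                (⟨t⁻¹ * z * t, hone z⟩ : (P : Subgroup G))) :=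
              Finite.injective_iff_surjective.1 fun u v huv => Subtype.ext (by simpa using congrArg Subtype.val huv)
            obtain ⟨z, hz⟩ := hsurj ⟨_, hy⟩
            have : (z : G) = y := by simpa using congrArg Subtype.val hz
            exact this ▸ z.2
        have h1 : t⁻¹ * (x : G) * t * (x : G)⁻¹ ∈ ⁅normalizer ((P : Subgroup G) : Set G),
            normalizer ((P : Subgroup G) : Set G)⁆ := by
          have := commutator_mem_commutator htN (le_normalizer x.2)
          rwa [commutatorElement_def, inv_inv] at this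
        have hxt : t⁻¹ * (x : G) * t ∈ (P : Subgroup G) := by simpa [hm1] using hxm
        have h2 : φ (⟨_, hxt⟩ * x⁻¹) = 1 := hN _ h1
        rw [map_mul, map_inv, mul_inv_eq_one] at h2
        rw [← h2]
        exact congrArg φ (Subtype.ext (by simp [hm1]))
      · have hk0 : k ≠ 0 := by
          rintro rfl
          rw [pow_zero] at hk
          exact hfix (mem_fixedPoints_iff_card_orbit_eq_one.2 (by rw [← Nat.card_eq_fintype_card]; exact hk))
        refine ih _ ?_ ⟨_, hxm⟩ rfl ?_
        · rw [← hn, ← Subgroup.orderOf_coe, ← Subgroup.orderOf_coe]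
          show orderOf (t⁻¹ * (x : G) ^ m * t) < _
          have e : t⁻¹ * (x : G) ^ m * t = (MulAut.conj t⁻¹).toMonoidHom ((x : G) ^ m) := by simp
          rw [e, orderOf_injective _ (MulAut.conj t⁻¹).injective]
          obtain ⟨j, hj⟩ := IsPGroup.iff_orderOf.1 P.2 x
          rw [← Subgroup.orderOf_coe] at hj
          have hj0 : j ≠ 0 := by
            rintro rfl
            exact hx1 (Subtype.ext (orderOf_eq_one_iff.1 (hj.trans (pow_zero p))))
          rw [hk, orderOf_pow, hj]
          refine Nat.div_lt_self (pow_pos (Fact.out (p := p.Prime)).pos _) ?_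
          exact lt_of_lt_of_le (Fact.out (p := p.Prime)).one_lt (Nat.le_of_dvd (Nat.gcd_pos_of_pos_left _
            (pow_pos (Fact.out (p := p.Prime)).pos _)) (Nat.dvd_gcd (dvd_pow_self p hj0) (dvd_pow_self p hk0)))
        · have := Normal.conj_mem (inferInstance : (commutator G).Normal) _ (pow_mem hxG m) t⁻¹
          rwa [inv_inv] at this
    rw [Finset.prod_congr rfl fun O _ => key O, ← Finset.prod_filter, Finset.prod_const]
    congr 1
    refine (Finset.card_bij (fun y _ => mkP y) ?_ ?_ ?_).symm
    · intro y hy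
      rw [hcf, Finset.mem_filter] at hy
      refine Finset.mem_filter.2 ⟨Finset.mem_univ _, ?_⟩
      obtain ⟨g, hg⟩ := (orbitRel_apply.1 (Quotient.exact' (Quotient.out_eq' (mkP y))) :
        (mkP y).out ∈ orbit (P : Subgroup G) y)
      rw [← hg]
      show g • y ∈ fixedPoints (P : Subgroup G) _
      rw [show g • y = y from hy.2 g]
      exact hy.2
    · intro y hy y' hy' he
      rw [hcf, Finset.mem_filter] at hy hy'
      obtain ⟨g, hg⟩ := (orbitRel_apply.1 (Quotient.exact' he) : y ∈ orbit (P : Subgroup G) y')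
      rw [← hg]; show g • y' = y'; exact hy'.2 g
    · intro O hO
      exact ⟨O.out, Finset.mem_filter.2 ⟨Finset.mem_univ _, (Finset.mem_filter.1 hO).2⟩, Quotient.out_eq' O⟩
  have h1 : MonoidHom.transfer φ (x : G) = 1 := Abelianization.commutator_subset_ker _ hxG
  rw [hV] at h1
  have hc : ¬ p ∣ cf.card := by
    intro hd
    apply P.not_dvd_index
    rw [index_eq_card]
    refine ((show IsPGroup p (P : Subgroup G) from P.2).card_modEq_card_fixedPoints
      (G ⧸ (P : Subgroup G))).dvd_iff dvd_rfl |>.2 ?_
    rwa [Nat.card_eq_fintype_card, ← Set.toFinset_card,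
      show (fixedPoints (P : Subgroup G) (G ⧸ (P : Subgroup G))).toFinset = cf by ext y; simp [hcf]]
  obtain ⟨j, hj⟩ := IsPGroup.iff_orderOf.1 P.2 x
  have hd : orderOf (φ x) ∣ Nat.gcd (p ^ j) cf.card :=
    Nat.dvd_gcd (hj ▸ orderOf_map_dvd φ x) (orderOf_dvd_of_pow_eq_one h1)
  rw [((Fact.out (p := p.Prime)).coprime_iff_not_dvd.2 hc).pow_left j] at hd
  exact orderOf_eq_one_iff.1 (Nat.dvd_one.1 hd)


/-- Grün's first Theorem: if `P` is a Sylow `p`-subgroup of the finite group `G`, then `P ∩ G'` is the subgroup generated by `P ∩ N_G(P)'` together with the subgroups `P ∩ z P' z⁻¹` for all `z ∈ G`, where `'` denotes the derived subgroup and `N_G(P)` the normalizer of `P`. -/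
theorem result {G : Type*} [Group G] [Finite G] {p : ℕ} [Fact p.Prime] (P : Sylow p G) : (P : Subgroup G) ⊓ commutator G = ((P : Subgroup G) ⊓ ⁅Subgroup.normalizer ((P : Subgroup G) : Set G), Subgroup.normalizer ((P : Subgroup G) : Set G)⁆) ⊔ ⨆ z : G, (P : Subgroup G) ⊓ (⁅(P : Subgroup G), (P : Subgroup G)⁆).map (MulAut.conj z).toMonoidHom := by
  set N := Subgroup.normalizer ((P : Subgroup G) : Set G) with hNdef
  set D := ((P : Subgroup G) ⊓ ⁅N, N⁆) ⊔
    ⨆ z : G, (P : Subgroup G) ⊓ (⁅(P : Subgroup G), (P : Subgroup G)⁆).map (MulAut.conj z).toMonoidHom with hD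
  refine le_antisymm ?_ (sup_le (inf_le_inf_left _ (Subgroup.commutator_mono le_top le_top))
    (iSup_le fun z => inf_le_inf_left _ ?_))
  swap
  · rintro _ ⟨a, ha, rfl⟩
    have ha' : a ∈ commutator G := Subgroup.commutator_mono le_top le_top ha
    exact Subgroup.Normal.conj_mem inferInstance a ha' z
  intro x hx
  obtain ⟨hxP, hxG⟩ := Subgroup.mem_inf.1 hx
  set E : Subgroup (Abelianization (P : Subgroup G)) :=
    (D.subgroupOf (P : Subgroup G)).map Abelianization.of with hE
  let φ : (P : Subgroup G) →* Abelianization (P : Subgroup G) ⧸ E :=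
    (QuotientGroup.mk' E).comp Abelianization.of
  have hmem : ∀ z : (P : Subgroup G), (z : G) ∈ D → φ z = 1 := fun z hz =>
    (QuotientGroup.eq_one_iff _).2 (Subgroup.mem_map_of_mem _ (Subgroup.mem_subgroupOf.2 hz))
  have h := mem_ker_of_mem_commutator P φ
    (fun z hz => hmem z (Subgroup.mem_sup_left (Subgroup.mem_inf.2 ⟨z.2, hz⟩)))
    (fun t z hz => hmem z (Subgroup.mem_sup_right (Subgroup.mem_iSup_of_mem t⁻¹
      (Subgroup.mem_inf.2 ⟨z.2, _, hz, by simp [mul_assoc]⟩)))) _ ⟨x, hxP⟩ rfl hxG
  have h2 : Abelianization.of (⟨x, hxP⟩ : (P : Subgroup G)) ∈ E :=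
    (QuotientGroup.eq_one_iff _).1 h
  obtain ⟨y, hy, hyx⟩ := h2
  have h3 : ((y : G)⁻¹ * x) ∈ ⁅(P : Subgroup G), (P : Subgroup G)⁆ := by
    rw [← Subgroup.map_subtype_commutator]
    refine ⟨y⁻¹ * ⟨x, hxP⟩, ?_, rfl⟩
    show y⁻¹ * ⟨x, hxP⟩ ∈ commutator (P : Subgroup G)
    rw [← Abelianization.ker_of, MonoidHom.mem_ker, map_mul, map_inv, hyx, inv_mul_cancel]
  have h4 : (y : G)⁻¹ * x ∈ D := Subgroup.mem_sup_right (Subgroup.mem_iSup_of_mem (1 : G)
    (Subgroup.mem_inf.2 ⟨Subgroup.commutator_le_self _ h3, _, h3, by simp⟩))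
  have := D.mul_mem (Subgroup.mem_subgroupOf.1 hy) h4
  rwa [mul_inv_cancel_left] at this

end Cfsg.Agent.S4216
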