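import Cfsg.Statements.S4217
import Mathlib
import Cfsg.Agent.Lib.Coprime.Gaschutz
-- import your own Cfsg.Agent.* helpers here

set_option autoImplicit false
open Cfsg

namespace Cfsg.Agent.S4217

open Subgroup

/-- The elements of the abelian subgroup `A` killed by `m`. -/
def tor {G : Type*} [Group G] (A : Subgroup G) [IsMulCommutative A] (m : ℕ) : Subgroup G where
  carrier := {a | a ∈ A ∧ a ^ m = 1}
  one_mem' := ⟨A.one_mem, one_pow m⟩
  mul_mem' := by
    rintro a b ⟨ha, ha'⟩ ⟨hb, hb'⟩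
    refine ⟨mul_mem ha hb, ?_⟩
    have hc : Commute a b :=
      congrArg Subtype.val ((inferInstance : IsMulCommutative A).is_comm.comm ⟨a, ha⟩ ⟨b, hb⟩)
    rw [hc.mul_pow, ha', hb', one_mul]
  inv_mem' := by
    rintro a ⟨ha, ha'⟩
    exact ⟨inv_mem ha, by rw [inv_pow, ha', inv_one]⟩

theorem mem_tor {G : Type*} [Group G] {A : Subgroup G} [IsMulCommutative A] {m : ℕ} {a : G} :
    a ∈ tor A m ↔ a ∈ A ∧ a ^ m = 1 := Iff.rfl

theorem tor_normal {G : Type*} [Group G] (A : Subgroup G) [A.Normal] [IsMulCommutative A] (m : ℕ) :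
    (tor A m).Normal :=
  ⟨fun a ha g => mem_tor.2 ⟨Normal.conj_mem inferInstance a (mem_tor.1 ha).1 g, by
    rw [conj_pow, (mem_tor.1 ha).2, mul_one, mul_inv_cancel]⟩⟩

/-- The step for one prime. -/
theorem exists_sub_complement {G : Type*} [Group G] [Finite G] (A : Subgroup G) [A.Normal]
    [IsMulCommutative A]
    (h : ∀ p : ℕ, p.Prime → p ∣ A.index → ∃ (S : Sylow p (G ⧸ A)) (K : Subgroup G),
      K ⊓ A = ⊥ ∧ K ⊔ A = (S : Subgroup (G ⧸ A)).comap (QuotientGroup.mk' A))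
    (p : ℕ) [hp : Fact p.Prime] :
    ∃ L : Subgroup G, L.index ≤ p ^ (Nat.card A).factorization p ∧
      ∀ a ∈ L, a ∈ A → ¬ p ∣ orderOf a := by
  classical
  set e := (Nat.card A).factorization p with he
  set m := Nat.card A / p ^ e with hm
  have hem : Nat.card A = p ^ e * m := (Nat.ordProj_mul_ordCompl_eq_self _ p).symm
  have hpm : ¬ p ∣ m := Nat.not_dvd_ordCompl hp.out Nat.card_pos.ne'
  have hco : (p ^ e).Coprime m := (hp.out.coprime_iff_not_dvd.2 hpm).pow_left e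
  set P := tor A (p ^ e) with hP
  set R := tor A m with hR
  have : P.Normal := tor_normal A _
  have : R.Normal := tor_normal A _
  have hPA : P ≤ A := fun a ha => (mem_tor.1 ha).1
  have hRA : R ≤ A := fun a ha => (mem_tor.1 ha).1
  have : IsMulCommutative P := ⟨⟨fun a b => Subtype.ext (by
    simpa using congrArg Subtype.val
      ((inferInstance : IsMulCommutative A).is_comm.comm ⟨a, hPA a.2⟩ ⟨b, hPA b.2⟩))⟩⟩
  have hsplit : A ≤ P ⊔ R := by
    intro a ha
    have hc : a ^ (p ^ e * m) = 1 := by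
      rw [← hem]
      exact congrArg Subtype.val (pow_card_eq_one' (x := (⟨a, ha⟩ : A)))
    obtain ⟨s, t, hst⟩ := Int.isCoprime_iff_gcd_eq_one.2 (show Int.gcd (p ^ e : ℕ) (m : ℕ) = 1 from hco)
    have : a = (a ^ m) ^ t * (a ^ p ^ e) ^ s := by
      rw [← zpow_natCast a, ← zpow_natCast a, ← zpow_mul, ← zpow_mul, ← zpow_add]
      conv_lhs => rw [← zpow_one a]
      congr 1
      linarith
    rw [this]
    refine mul_mem (mem_sup_left (zpow_mem (mem_tor.2 ⟨pow_mem ha _, ?_⟩) _))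
      (mem_sup_right (zpow_mem (mem_tor.2 ⟨pow_mem ha _, ?_⟩) _))
    · rw [← pow_mul, mul_comm, hc]
    · rw [← pow_mul, hc]
  obtain ⟨K, U, hKA, hsup, hcop⟩ : ∃ K U : Subgroup G, K ⊓ A = ⊥ ∧ K ⊔ A = U ∧ ¬ p ∣ U.index := by
    by_cases hd : p ∣ A.index
    · obtain ⟨S, K, hK, hS⟩ := h p hp.out hd
      refine ⟨K, _, hK, hS, ?_⟩
      rw [index_comap_of_surjective _ (QuotientGroup.mk'_surjective A)]
      exact S.not_dvd_index
    · exact ⟨⊥, A, bot_inf_eq A, bot_sup_eq A, hd⟩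
  have hKR : ∀ x ∈ K ⊔ R, x ∈ A → x ∈ R := by
    intro x hx hxA
    obtain ⟨k, hk, r, hr, rfl⟩ := mem_sup_of_normal_right.1 hx
    have hk' : k ∈ K ⊓ A := ⟨hk, (A.mul_mem_cancel_right (hRA hr)).1 hxA⟩
    rw [hKA, mem_bot] at hk'
    rwa [hk', one_mul]
  have hcardP : (Nat.card P).Coprime U.index := by
    refine Nat.coprime_of_dvd fun r hr hrP hrU => ?_
    have := Fact.mk hr
    obtain ⟨g, hg⟩ := exists_prime_orderOf_dvd_card' r hrP
    have hd : r ∣ p ^ e := hg ▸ orderOf_dvd_of_pow_eq_one (Subtype.ext (by simpa using (mem_tor.1 g.2).2))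
    exact hcop (((Nat.prime_dvd_prime_iff_eq hr hp.out).1 (hr.dvd_of_dvd_pow hd)) ▸ hrU)
  obtain ⟨L, hL⟩ := Coprime.exists_complement_of_gaschutz P U (hPA.trans (hsup ▸ le_sup_right)) hcardP
    (K ⊔ R) (hsup ▸ sup_le_sup_left hRA K) (by
      rw [eq_bot_iff]
      rintro x ⟨hx, hxP⟩
      rw [mem_bot]
      have h1 : orderOf x ∣ Nat.gcd (p ^ e) m := Nat.dvd_gcd
        (orderOf_dvd_of_pow_eq_one (mem_tor.1 hxP).2)
        (orderOf_dvd_of_pow_eq_one (mem_tor.1 (hKR x hx (hPA hxP))).2)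
      rw [hco.gcd_eq_one] at h1
      exact orderOf_eq_one_iff.1 (Nat.dvd_one.1 h1)) (by
      refine le_antisymm (sup_le (hPA.trans (hsup ▸ le_sup_right))
        (hsup ▸ sup_le_sup_left hRA K)) ?_
      rw [← hsup]
      exact sup_le (le_trans le_sup_left le_sup_right)
        (hsplit.trans (sup_le_sup le_rfl le_sup_right)))
  refine ⟨L, ?_, fun a haL haA hd => ?_⟩
  · rw [hL.index_eq_card]
    obtain ⟨j, hj⟩ := (show IsPGroup p P from fun a => ⟨e, Subtype.ext
      (by simpa using (mem_tor.1 a.2).2)⟩).exists_card_eq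
    rw [hj]
    exact Nat.pow_le_pow_right hp.out.pos
      ((hp.out.pow_dvd_iff_le_factorization Nat.card_pos.ne').1 (hj ▸ card_dvd_of_le hPA))
  · have hb : a ^ (orderOf a / p) ∈ P ⊓ L := by
      refine ⟨mem_tor.2 ⟨pow_mem haA _, ?_⟩, pow_mem haL _⟩
      obtain ⟨c, hc⟩ := hd
      rw [← orderOf_dvd_iff_pow_eq_one, hc, Nat.mul_div_cancel_left _ hp.out.pos]
      have h0 : c ≠ 0 := by rintro rfl; exact (orderOf_pos a).ne' (by rw [hc, mul_zero])
      rw [orderOf_pow_of_dvd h0 ⟨p, by rw [hc, mul_comm]⟩, hc, Nat.mul_div_cancel _ (Nat.pos_of_ne_zero h0)]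
      refine dvd_pow_self p fun he0 => ?_
      have : p ∣ Nat.card A := by
        have h1 : orderOf a ∣ Nat.card A := orderOf_dvd_natCard _ haA
        exact ((Dvd.intro c rfl).trans (hc ▸ dvd_rfl)).trans h1
      exact hpm (by rwa [hem, he0, pow_zero, one_mul] at this)
    rw [hL.disjoint.eq_bot, mem_bot, orderOf_dvd_iff_pow_eq_one.symm] at hb
    have := Nat.le_of_dvd (Nat.div_pos (Nat.le_of_dvd (orderOf_pos a) hd) hp.out.pos) hb
    exact absurd this (not_le.2 (Nat.div_lt_self (orderOf_pos a) hp.out.one_lt))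

theorem gaschutz_aux {G : Type*} [Group G] [Finite G] (A : Subgroup G) [A.Normal] [IsMulCommutative A]
    (h : ∀ p : ℕ, p.Prime → p ∣ A.index → ∃ (S : Sylow p (G ⧸ A)) (K : Subgroup G),
      K ⊓ A = ⊥ ∧ K ⊔ A = (S : Subgroup (G ⧸ A)).comap (QuotientGroup.mk' A)) :
    ∃ K : Subgroup G, K.IsComplement' A := by
  classical
  let s := (Nat.card A).primeFactors
  choose L hL hLA using fun p : s => @exists_sub_complement G _ _ A _ _ h p ⟨Nat.prime_of_mem_primeFactors p.2⟩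
  refine ⟨⨅ p, L p, ?_⟩
  have hdisj : (⨅ p, L p) ⊓ A = ⊥ := by
    rw [eq_bot_iff]
    rintro a ⟨ha, haA⟩
    rw [mem_bot]
    by_contra h1
    obtain ⟨r, hr, hrd⟩ := Nat.exists_prime_and_dvd (mt orderOf_eq_one_iff.1 h1)
    have hmem : r ∈ s := Nat.mem_primeFactors.2
      ⟨hr, hrd.trans (orderOf_dvd_natCard _ haA), Nat.card_pos.ne'⟩
    exact hLA ⟨r, hmem⟩ a (mem_iInf.1 ha _) haA hrd
  have hidx : (⨅ p, L p).index ≤ Nat.card A := by
    refine (index_iInf_le L).trans ((Finset.prod_le_prod' fun p _ => hL p).trans (le_of_eq ?_))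
    rw [Finset.prod_coe_sort s fun p => p ^ (Nat.card A).factorization p]
    exact (Nat.prod_primeFactors_pow_factorization Nat.card_pos.ne').symm
  refine isComplement'_of_card_mul_and_disjoint ?_ (disjoint_iff.2 hdisj)
  have hle : Nat.card ↥(⨅ p, L p) * Nat.card A ≤ Nat.card G := by
    rw [← A.card_mul_index, mul_comm]
    refine Nat.mul_le_mul_left _ ?_
    rw [index_eq_card]
    refine Nat.card_le_card_of_injective (fun k => QuotientGroup.mk' A (k : G)) fun a b hab => ?_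
    have : (a : G)⁻¹ * b ∈ (⨅ p, L p) ⊓ A :=
      mem_inf.2 ⟨mul_mem (inv_mem a.2) b.2, QuotientGroup.eq.1 hab⟩
    rw [hdisj, mem_bot] at this
    exact Subtype.ext (inv_mul_eq_one.1 this)
  refine le_antisymm hle ?_
  rw [← (⨅ p, L p).card_mul_index]
  exact Nat.mul_le_mul_left _ hidx


/-- Let `A` be an abelian normal subgroup of the finite group `G`. Then `A` has a complement in `G` if and only if, for every prime `p` dividing the index of `A`, there are a Sylow `p`-subgroup `S` of `G/A` and a subgroup `K` of `G` with `K ∩ A = 1` and `KA` equal to the preimage of `S` (that is, `A` has a complement in the preimage of a Sylow `p`-subgroup of `G/A`). -/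
theorem result {G : Type*} [Group G] [Finite G] (A : Subgroup G) [A.Normal] (hA : IsMulCommutative A) : (∃ K : Subgroup G, K.IsComplement' A) ↔ ∀ p : ℕ, p.Prime → p ∣ A.index → ∃ (S : Sylow p (G ⧸ A)) (K : Subgroup G), K ⊓ A = ⊥ ∧ K ⊔ A = (S : Subgroup (G ⧸ A)).comap (QuotientGroup.mk' A) := by
  have := hA
  refine ⟨?_, gaschutz_aux A⟩
  rintro ⟨K, hK⟩ p hp -
  obtain ⟨S⟩ := (inferInstance : Nonempty (Sylow p (G ⧸ A)))
  set U := (S : Subgroup (G ⧸ A)).comap (QuotientGroup.mk' A) with hU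
  have hAU : A ≤ U := fun a ha => by
    rw [hU, Subgroup.mem_comap, QuotientGroup.mk'_apply, (QuotientGroup.eq_one_iff a).2 ha]
    exact one_mem _
  refine ⟨S, K ⊓ U, ?_, le_antisymm (sup_le inf_le_right hAU) fun x hx => ?_⟩
  · rw [eq_bot_iff]
    rintro a ⟨⟨ha, -⟩, haA⟩
    exact hK.disjoint.eq_bot ▸ (⟨ha, haA⟩ : a ∈ K ⊓ A)
  · obtain ⟨⟨⟨k, hk⟩, ⟨a, ha⟩⟩, rfl⟩ := hK.2 x
    exact Subgroup.mul_mem_sup (Subgroup.mem_inf.2 ⟨hk, (U.mul_mem_cancel_right (hAU ha)).1 hx⟩) ha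

end Cfsg.Agent.S4217
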