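import Cfsg.Statements.S4218
import Cfsg.Agent.Lib.PCore.Faithful

set_option autoImplicit false
open Cfsg

namespace Cfsg.Agent.S4218

/-- Let `G` be a finite `p`-solvable group, `N₀ = O_{p'}(G)`, `P₁ = O_{p',p}(G)`, and let `F ≤ P₁` be the preimage of the Frattini subgroup of `P₁/N₀`. Then an element `g` of `G` induces the identity on `P₁/F` by conjugation (that is, `g x g⁻¹ x⁻¹ ∈ F` for all `x ∈ P₁`) if and only if `g ∈ P₁`: the group `G/P₁` acts faithfully on `P₁/F`. -/
theorem result {G : Type*} [Group G] [Finite G] {p : ℕ} [Fact p.Prime] (hG : Cfsg.IsPSolvable p G) (g : G) : (∀ x ∈ Cfsg.pPrimePCore p G, g * x * g⁻¹ * x⁻¹ ∈ ((frattini (↥(Cfsg.pPrimePCore p G) ⧸ (Cfsg.pPrimeCore p G).subgroupOf (Cfsg.pPrimePCore p G))).comap (QuotientGroup.mk' ((Cfsg.pPrimeCore p G).subgroupOf (Cfsg.pPrimePCore p G)))).map (Cfsg.pPrimePCore p G).subtype) ↔ g ∈ Cfsg.pPrimePCore p G := by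
  set P₁ := pPrimePCore p G with hP1
  set N := pPrimeCore p G with hN
  haveI hNn : N.Normal := PCore.pPrimeCore_normal
  set π := QuotientGroup.mk' N with hπ
  set O := pCore p (G ⧸ N) with hO
  -- `e : P₁ / N ≃ O`
  let f : P₁ →* O := (π.comp P₁.subtype).codRestrict O fun x => x.2
  have hf : Function.Surjective f := by
    rintro ⟨y, hy⟩
    obtain ⟨x, rfl⟩ := QuotientGroup.mk'_surjective N y
    exact ⟨⟨x, hy⟩, rfl⟩
  have hker : N.subgroupOf P₁ = f.ker := by
    ext x
    rw [MonoidHom.mem_ker, Subgroup.mem_subgroupOf, ← Subtype.val_inj]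
    exact (QuotientGroup.eq_one_iff _).symm
  let e : ↥P₁ ⧸ N.subgroupOf P₁ ≃* O :=
    (QuotientGroup.quotientMulEquivOfEq hker).trans (QuotientGroup.quotientKerEquivOfSurjective f hf)
  have he : ∀ x : P₁, e (QuotientGroup.mk' _ x) = f x := fun x => rfl
  have hQ : IsPGroup p (↥P₁ ⧸ N.subgroupOf P₁) := PCore.isPGroup_pCore.of_equiv e.symm
  have hΦ : (frattini (↥P₁ ⧸ N.subgroupOf P₁)).map e.toMonoidHom = frattini O :=
    PGroup.map_frattini hQ _ e.surjective
  have key : ∀ y : G, y ∈ ((frattini (↥P₁ ⧸ N.subgroupOf P₁)).comap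
      (QuotientGroup.mk' (N.subgroupOf P₁))).map P₁.subtype ↔
      π y ∈ (frattini O).map O.subtype := by
    intro y
    constructor
    · rintro ⟨x, hx, rfl⟩
      exact ⟨f x, hΦ ▸ ⟨_, hx, he x⟩, rfl⟩
    · rintro ⟨w, hw, hwy⟩
      have hy : y ∈ P₁ := by
        show π y ∈ O
        rw [← hwy]
        exact w.2
      rw [← hΦ] at hw
      obtain ⟨v, hv, hvw⟩ := hw
      refine ⟨⟨y, hy⟩, ?_, rfl⟩
      have h1 : e (QuotientGroup.mk' _ ⟨y, hy⟩) = e v := (he _).trans
        (Subtype.ext (hwy.symm.trans (congrArg Subtype.val hvw.symm)))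
      show QuotientGroup.mk' _ _ ∈ frattini _
      rw [e.injective h1]
      exact hv
  have hcp := PCore.centralizer_pCore_le (PCore.isPSolvable_quotient hG N)
    PCore.pPrimeCore_quotient_self_eq_bot
  show _ ↔ π g ∈ O
  rw [← PCore.mem_pCore_iff_frattini hcp]
  constructor
  · intro h y hy
    obtain ⟨x, rfl⟩ := QuotientGroup.mk'_surjective N y
    have := (key _).mp (h x hy)
    simpa only [map_mul, map_inv] using this
  · intro h x hx
    rw [key]
    simpa only [map_mul, map_inv] using h (π x) hx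

end Cfsg.Agent.S4218
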