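import Cfsg.Statements.S4221
import Cfsg.Agent.Lib.Perm.FourTransOdd
import Cfsg.Agent.Lib.Perm.SharplyFour
import Cfsg.Agent.Lib.Perm.Jordan

set_option autoImplicit false
open Cfsg

namespace Cfsg.Agent.S4221

open MulAction Finset

/-- An even double transposition fixes four points once the degree is at least 8. -/
theorem not_alternating_le {α : Type*} [Fintype α] [DecidableEq α] {G : Subgroup (Equiv.Perm α)}
    (S : Perm.FourOdd G α) (h8 : 8 ≤ Fintype.card α) : ¬ alternatingGroup α ≤ G := by
  intro hA
  let e := (Fintype.equivFin α).symm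
  let v : Fin 8 → α := fun i => e (Fin.castLE h8 i)
  have hv : Function.Injective v := e.injective.comp (Fin.castLE_injective h8)
  set s := Equiv.swap (v 0) (v 1) * Equiv.swap (v 2) (v 3) with hs
  have hfix : ∀ i : Fin 8, 4 ≤ (i : ℕ) → s (v i) = v i := by
    intro i hi
    rw [hs, Equiv.Perm.mul_apply, Equiv.swap_apply_of_ne_of_ne (hv.ne ?_) (hv.ne ?_),
      Equiv.swap_apply_of_ne_of_ne (hv.ne ?_) (hv.ne ?_)]
    all_goals
      intro h
      rw [h] at hi
      simp at hi
  have hne : s ≠ 1 := by
    intro h
    have h' := congrArg (fun f : Equiv.Perm α => f (v 0)) h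
    rw [hs] at h'
    simp [Equiv.Perm.mul_apply, Equiv.swap_apply_of_ne_of_ne (hv.ne (show (0 : Fin 8) ≠ 2 by decide))
      (hv.ne (show (0 : Fin 8) ≠ 3 by decide)), hv.eq_iff] at h'
  have hsq : s * s = 1 := by
    refine Equiv.ext fun t => ?_
    simp only [hs, Equiv.Perm.mul_apply, Equiv.Perm.one_apply, Equiv.swap_apply_def]
    split_ifs <;> simp_all [hv.eq_iff]
  have hmem : s ∈ G := hA (by
    rw [Equiv.Perm.mem_alternatingGroup, hs, map_mul, Equiv.Perm.sign_swap (hv.ne (by decide)),
      Equiv.Perm.sign_swap (hv.ne (by decide))]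
    decide)
  have := S.odd ⟨s, hmem⟩ (v 4) (v 5) (v 6) (v 7) (hv.ne (by decide)) (hv.ne (by decide))
    (hv.ne (by decide)) (hv.ne (by decide)) (hv.ne (by decide)) (hv.ne (by decide))
    (hfix 4 (by decide)) (hfix 5 (by decide)) (hfix 6 (by decide)) (hfix 7 (by decide))
  rw [Subgroup.orderOf_mk, orderOf_eq_prime (p := 2) (by rw [pow_two]; exact hsq) hne] at this
  exact absurd this (by decide)

/-- Let `G` be a `4`-fold transitive permutation group on a finite set of `n` points in which the pointwise stabilizer of some four distinct points has odd order. Then `n = 4` or `n = 5` with `G` the full symmetric group, or `n = 6` or `n = 7` with `G` the alternating group, or `n = 11` and `G` has order `7920`. -/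
theorem result {α : Type*} [Fintype α] [DecidableEq α] (G : Subgroup (Equiv.Perm α)) (hG : MulAction.IsMultiplyPretransitive G α 4) (x : Fin 4 ↪ α) (hodd : Odd (Nat.card (MulAction.stabilizer G x))) : ((Fintype.card α = 4 ∨ Fintype.card α = 5) ∧ G = ⊤) ∨ ((Fintype.card α = 6 ∨ Fintype.card α = 7) ∧ G = alternatingGroup α) ∨ (Fintype.card α = 11 ∧ Nat.card G = 7920) := by
  classical
  haveI := hG
  have hn4 : 4 ≤ Fintype.card α := by
    simpa using Fintype.card_le_of_embedding x
  have horb : (Fintype.card α).descFactorial 4 * Nat.card (stabilizer G x) = Nat.card G := by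
    have h := Perm.card_eq_descFactorial_mul (G := G) x
    rw [Nat.card_eq_fintype_card (α := α)] at h
    exact h
  have hstab : ∀ y : Fin 4 ↪ α, Nat.card (stabilizer G y) = Nat.card (stabilizer G x) := fun y => by
    obtain ⟨g, hg⟩ := hG.exists_smul_eq y x
    exact Nat.card_congr (MulAction.stabilizerEquivStabilizer hg.symm).toEquiv
  have S : Perm.FourOdd G α := ⟨hG, fun g a b c d hab hac had hbc hbd hcd ha hb hc hd => by
    let y : Fin 4 ↪ α := ⟨![a, b, c, d], by
      intro i j
      fin_cases i <;> fin_cases j <;>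
        simp [hab, hac, had, hbc, hbd, hcd, hab.symm, hac.symm, had.symm, hbc.symm, hbd.symm,
          hcd.symm]⟩
    have hg : g ∈ stabilizer G y := Function.Embedding.ext fun i => by fin_cases i <;> assumption
    exact hodd.of_dvd_nat (hstab y ▸ Subgroup.orderOf_dvd_natCard _ hg)⟩
  have hsharp : Nat.card (stabilizer G x) = 1 → ∀ y : Fin 4 ↪ α, stabilizer G y = ⊥ := fun h y =>
    Subgroup.card_eq_one.1 ((hstab y).trans h)
  by_cases h5 : Fintype.card α ≤ 5
  · refine Or.inl ⟨by omega, Equiv.Perm.eq_top_of_isMultiplyPretransitive ?_⟩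
    exact isMultiplyPretransitive_of_le (n := 4) (by rw [Nat.card_eq_fintype_card]; omega)
      (by rw [Nat.card_eq_fintype_card]; omega)
  by_cases h9 : Fintype.card α ≤ 9
  · -- degrees 6 to 9
    by_cases h1 : Nat.card (stabilizer G x) = 1
    · have h := Perm.card_of_sharply_four (G := G) (α := α)
        (by rw [Nat.card_eq_fintype_card]; omega) hG (hsharp h1)
      rw [Nat.card_eq_fintype_card] at h
      have h6 : Fintype.card α = 6 := by omega
      rw [h1, h6, mul_one, show Nat.descFactorial 6 4 = 360 from by decide] at horb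
      refine Or.inr (Or.inl ⟨Or.inl h6, Equiv.Perm.eq_alternatingGroup_of_index_eq_two ?_⟩)
      have hi := G.card_mul_index
      rw [← horb, Nat.card_perm, Nat.card_eq_fintype_card, h6,
        show Nat.factorial 6 = 720 from rfl] at hi
      omega
    obtain ⟨g, hg, hg1⟩ := (stabilizer G x).bot_or_exists_ne_one.resolve_left
      fun h => h1 (by rw [h, Subgroup.card_bot])
    have hfix : ∀ i, (g : Equiv.Perm α) (x i) = x i := fun i =>
      congrArg (fun f : Fin 4 ↪ α => f i) hg
    have hsupp : (g : Equiv.Perm α).support.card ≤ Fintype.card α - 4 := by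
      have hsub : (g : Equiv.Perm α).support ⊆ (univ.map x)ᶜ := by
        intro t ht
        rw [mem_compl]
        intro h
        obtain ⟨i, -, rfl⟩ := mem_map.1 h
        exact Equiv.Perm.mem_support.1 ht (hfix i)
      refine (card_le_card hsub).trans (le_of_eq ?_)
      rw [card_compl, card_map, card_univ, Fintype.card_fin]
    have hA := (Perm.alternatingGroup_le_of_small_support G (k := 4) (by norm_num) hn4 hG g.2
      (fun h => hg1 (Subtype.ext h)) (by omega)).2
    by_cases h8 : 8 ≤ Fintype.card α
    · exact absurd hA (not_alternating_le S h8)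
    by_cases htop : G = ⊤
    · -- a transposition would fix four points
      exfalso
      obtain ⟨u, -, w, -, huw⟩ := one_lt_card.1 (show 1 < ((univ.map x)ᶜ : Finset α).card by
        rw [card_compl, card_map, card_univ, Fintype.card_fin]; omega)
      obtain ⟨F, hF, hFc⟩ := exists_subset_card_eq (s := ({u, w} : Finset α)ᶜ) (n := 4) (by
        rw [card_compl, card_pair huw]; omega)
      obtain ⟨a, b, c, d, hab, hac, had, hbc, hbd, hcd, rfl⟩ := card_eq_four.1 hFc
      simp only [insert_subset_iff, singleton_subset_iff, mem_compl, mem_insert, mem_singleton,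
        not_or] at hF
      have := S.odd ⟨Equiv.swap u w, htop ▸ Subgroup.mem_top _⟩ a b c d hab hac had hbc hbd hcd
        (Equiv.swap_apply_of_ne_of_ne hF.1.1 hF.1.2)
        (Equiv.swap_apply_of_ne_of_ne hF.2.1.1 hF.2.1.2)
        (Equiv.swap_apply_of_ne_of_ne hF.2.2.1.1 hF.2.2.1.2)
        (Equiv.swap_apply_of_ne_of_ne hF.2.2.2.1 hF.2.2.2.2)
      rw [Subgroup.orderOf_mk, Equiv.Perm.IsSwap.orderOf ⟨u, w, huw, rfl⟩] at this
      exact absurd this (by decide)
    refine Or.inr (Or.inl ⟨by omega, Equiv.Perm.eq_alternatingGroup_of_index_eq_two ?_⟩)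
    have hle : G.index ∣ (alternatingGroup α).index := Subgroup.index_dvd_of_le hA
    have : Nontrivial α := Fintype.one_lt_card_iff_nontrivial.1 (by omega)
    rw [alternatingGroup.index_eq_two] at hle
    rcases (Nat.dvd_prime Nat.prime_two).1 hle with h | h
    · exact absurd (Subgroup.index_eq_one.1 h) htop
    · exact h
  rcases Nat.even_or_odd (Fintype.card α) with hn | hn
  · -- even degree: three-point stabilisers have odd order too
    exfalso
    refine Perm.OddThree.false (G := G) (α := α) ⟨hG, fun g a b c hab hac hbc ha hb hc => ?_⟩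
      (by omega)
    rw [← Nat.not_even_iff_odd, even_iff_two_dvd]
    intro h2
    set z := g ^ (orderOf g / 2) with hz
    have hz2 : orderOf z = 2 := orderOf_pow_orderOf_div (orderOf_pos g).ne' h2
    have hzfix : ∀ t : α, g • t = t → z • t = t := fun t ht => (stabilizer G t).pow_mem ht _
    obtain ⟨d, hd, hd'⟩ := exists_mem_notMem_of_card_lt_card (s := ({a, b, c} : Finset α))
      (t := univ.filter fun t => z • t = t) (by
        have h3 : ({a, b, c} : Finset α).card = 3 := by simp [hab, hac, hbc]
        have hle : ({a, b, c} : Finset α) ⊆ univ.filter fun t => z • t = t := by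
          intro t ht
          simp only [mem_insert, mem_singleton] at ht
          rcases ht with rfl | rfl | rfl <;> simp [hzfix, ha, hb, hc]
        have hp := Perm.Zass.card_fixed_parity (Ω := α) (Perm.Zass.sq_eq_one_of_order hz2)
        have hle' := card_le_card hle
        have he := hp.2 hn
        rw [Nat.even_iff] at he
        omega)
    simp only [mem_filter, mem_univ, true_and, mem_insert, mem_singleton, not_or] at hd hd'
    have := S.odd z a b c d hab hac (Ne.symm hd'.1) hbc (Ne.symm hd'.2.1) (Ne.symm hd'.2.2)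
      (hzfix a ha) (hzfix b hb) (hzfix c hc) hd
    rw [hz2] at this
    exact absurd this (by decide)
  -- odd degree at least 11
  have h11 : 11 ≤ Fintype.card α := by
    rcases hn with ⟨k, hk⟩
    omega
  obtain ⟨hcard, hquad⟩ := S.eleven hn h11 fun g s hs hg => by
    by_contra hg1
    refine not_alternating_le S (by omega) (Perm.alternatingGroup_le_of_support_le_three G ?_ g.2
      (fun h => hg1 (Subtype.ext h)) ((card_le_card ?_).trans hs))
    · exact isPreprimitive_of_is_two_pretransitive
        (isMultiplyPretransitive_of_le (n := 4) (by norm_num)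
          (by rw [Nat.card_eq_fintype_card]; omega))
    · intro t ht
      by_contra hts
      exact Equiv.Perm.mem_support.1 ht (hg t hts)
  refine Or.inr (Or.inr ⟨hcard, ?_⟩)
  have hne : ∀ i j : Fin 4, i ≠ j → x i ≠ x j := fun i j h => x.injective.ne h
  have hbot : stabilizer G x = ⊥ := by
    refine (Subgroup.eq_bot_iff_forall _).2 fun g hg => ?_
    have := hquad (hne 0 1 (by decide)) (hne 0 2 (by decide)) (hne 0 3 (by decide))
      (hne 1 2 (by decide)) (hne 1 3 (by decide)) (hne 2 3 (by decide))
    refine (Subgroup.eq_bot_iff_forall _).1 this g (Perm.mem_quad.2 ?_)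
    exact ⟨congrArg (fun f : Fin 4 ↪ α => f 0) hg, congrArg (fun f : Fin 4 ↪ α => f 1) hg,
      congrArg (fun f : Fin 4 ↪ α => f 2) hg, congrArg (fun f : Fin 4 ↪ α => f 3) hg⟩
  rw [hbot, Subgroup.card_bot, mul_one, hcard] at horb
  rw [← horb]
  rfl

end Cfsg.Agent.S4221
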