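import Cfsg.Statements.S4222
-- import your own Cfsg.Agent.* helpers here

set_option autoImplicit false
open Cfsg

namespace Cfsg.Agent.S4222

/-- If a normal subgroup `N` of a finite group is complete (its centre is trivial and every automorphism of `N` is inner), then the group is the internal direct product of `N` and the centralizer of `N`: the centralizer is a complement to `N`. -/
theorem result {T : Type*} [Group T] [Finite T] (N : Subgroup T) [N.Normal] (hz : Subgroup.center ↥N = ⊥) (ha : Function.Surjective (MulAut.conj : ↥N →* MulAut ↥N)) : (Subgroup.centralizer (N : Set T)).IsComplement' N := by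
  refine Subgroup.isComplement'_of_disjoint_and_mul_eq_univ ?_ ?_
  · rw [Subgroup.disjoint_def]
    intro x hx hxN
    have : (⟨x, hxN⟩ : ↥N) ∈ Subgroup.center ↥N := by
      rw [Subgroup.mem_center_iff]
      exact fun y => Subtype.ext (Subgroup.mem_centralizer_iff.1 hx y y.2)
    rw [hz, Subgroup.mem_bot] at this
    exact congrArg Subtype.val this
  · refine Set.eq_univ_of_forall fun t => ?_
    obtain ⟨m, hm⟩ := ha (MulAut.conjNormal t)
    refine ⟨t * (m : T)⁻¹, ?_, m, m.2, by simp⟩
    rw [SetLike.mem_coe, Subgroup.mem_centralizer_iff]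
    intro y hy
    have hc := congrArg (fun (α : MulAut ↥N) => ((α ((m⁻¹ : ↥N) * ⟨y, hy⟩ * m)) : T)) hm
    simp only [MulAut.conj_apply, MulAut.conjNormal_apply, Subgroup.coe_mul, Subgroup.coe_inv] at hc
    have e : y = t * ((m : T)⁻¹ * y * m) * t⁻¹ := by
      refine Eq.trans ?_ hc
      group
    calc y * (t * (m : T)⁻¹) = t * ((m : T)⁻¹ * y * m) * t⁻¹ * (t * (m : T)⁻¹) := by rw [← e]
      _ = _ := by group

end Cfsg.Agent.S4222
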