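import Cfsg.Statements.S4223
import Mathlib
-- import your own Cfsg.Agent.* helpers here

set_option autoImplicit false
open Cfsg

namespace Cfsg.Agent.S4223

open Subgroup

universe u v

/-- A group is indecomposable. -/
def Indec (A : Type*) [Group A] : Prop :=
  ∀ H K : Subgroup A, H.Normal → K.Normal → H ⊓ K = ⊥ → H ⊔ K = ⊤ → H = ⊥ ∨ K = ⊥

/-- A normal endomorphism commutes with every inner automorphism. -/
def NormalEnd {A : Type*} [Group A] (g : A →* A) : Prop :=
  ∀ a x : A, g (a * x * a⁻¹) = a * g x * a⁻¹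

theorem normalEnd_iterate {A : Type*} [Group A] {g : A →* A} (hg : NormalEnd g) :
    ∀ n : ℕ, ∀ a x : A, g^[n] (a * x * a⁻¹) = a * g^[n] x * a⁻¹
  | 0, _, _ => rfl
  | n + 1, a, x => by
    rw [Function.iterate_succ_apply', normalEnd_iterate hg n a x, hg, ← Function.iterate_succ_apply' g n x]

/-- Fitting's lemma. -/
theorem fitting {A : Type*} [Group A] [Finite A] (hA : Indec A) {g : A →* A} (hg : NormalEnd g) :
    Function.Bijective g ∨ ∃ n : ℕ, ∀ x, g^[n] x = 1 := by
  obtain ⟨i, j, hij, he⟩ : ∃ i j : ℕ, i < j ∧ g^[i] = g^[j] := by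
    obtain ⟨a, b, hab, he⟩ := Finite.exists_ne_map_eq_of_infinite fun n : ℕ => g^[n]
    rcases lt_or_gt_of_ne hab with h | h
    exacts [⟨a, b, h, he⟩, ⟨b, a, h, he.symm⟩]
  obtain ⟨k, rfl⟩ := Nat.exists_eq_add_of_le hij.le
  have hk : 0 < k := by omega
  have hper : ∀ t x, i ≤ x → g^[x + t * k] = g^[x] := by
    intro t
    induction t with
    | zero => simp
    | succ t ih =>
      intro x hx
      have h1 : g^[x + k] = g^[x] := by
        obtain ⟨d, rfl⟩ := Nat.exists_eq_add_of_le hx
        rw [(by ring : i + d + k = d + (i + k)), Function.iterate_add, ← he, ← Function.iterate_add,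
          Nat.add_comm]
      rw [(by ring : x + (t + 1) * k = x + k + t * k), ih (x + k) (by omega), h1]
  set n := (i + 1) * k with hn
  have hin : i ≤ n := le_trans (Nat.le_succ i) (Nat.le_mul_of_pos_right _ hk)
  have hnn : g^[n + n] = g^[n] := hper (i + 1) n hin
  let ε : A →* A :=
    { toFun := g^[n]
      map_one' := iterate_map_one g n
      map_mul' := iterate_map_mul g n }
  have hεε : ∀ x, ε (ε x) = ε x := fun x => by
    show g^[n] (g^[n] x) = g^[n] x
    rw [← Function.iterate_add_apply, hnn]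
  have hker : ε.ker ⊓ ε.range = ⊥ := by
    rw [eq_bot_iff]
    rintro y ⟨hy, x, rfl⟩
    rw [mem_bot, ← hεε x]
    exact hy
  have hsup : ε.ker ⊔ ε.range = ⊤ := by
    rw [eq_top_iff]
    intro x _
    have : x = x * (ε x)⁻¹ * ε x := by group
    rw [this]
    exact mul_mem (mem_sup_left (by rw [MonoidHom.mem_ker, map_mul, map_inv, hεε, mul_inv_cancel]))
      (mem_sup_right ⟨x, rfl⟩)
  have hrn : ε.range.Normal := ⟨by
    rintro _ ⟨x, rfl⟩ a
    exact ⟨a * x * a⁻¹, normalEnd_iterate hg n a x⟩⟩
  rcases hA _ _ inferInstance hrn hker hsup with h | h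
  · left
    refine Finite.injective_iff_bijective.1 ((injective_iff_map_eq_one g).2 fun x hx => ?_)
    have : x ∈ ε.ker := by
      show g^[n] x = 1
      obtain ⟨r, hr⟩ : ∃ r, n = r + 1 := ⟨n - 1, (Nat.succ_pred_eq_of_pos (Nat.mul_pos i.succ_pos hk)).symm⟩
      rw [hr, Function.iterate_succ_apply, hx, iterate_map_one]
    rwa [h, mem_bot] at this
  · exact Or.inr ⟨n, fun x => mem_bot.1 (h ▸ (⟨x, rfl⟩ : ε x ∈ ε.range))⟩

theorem bijective_or_of_mul {A : Type*} [Group A] [Finite A] (hA : Indec A) {g h f : A →* A}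
    (hg : NormalEnd g) (hh : NormalEnd h) (hf : NormalEnd f) (hfb : Function.Bijective f)
    (hsum : ∀ x, g x * h x = f x) : Function.Bijective g ∨ Function.Bijective h := by
  let E : A ≃* A := MulEquiv.ofBijective f hfb
  have hE : ∀ a x : A, E.symm (a * x * a⁻¹) = a * E.symm x * a⁻¹ := fun a x => E.injective (by
    rw [E.apply_symm_apply]
    show _ = f _
    rw [hf]
    exact congrArg (fun z => a * z * a⁻¹) (E.apply_symm_apply x).symm)
  let g' : A →* A := E.symm.toMonoidHom.comp g
  have hg' : NormalEnd g' := fun a x => by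
    show E.symm (g (a * x * a⁻¹)) = _
    rw [hg, hE]; rfl
  rcases fitting hA hg' with hb | ⟨n, hn⟩
  · left
    have := E.bijective.comp hb
    convert this using 1
    funext x
    exact (E.apply_symm_apply (g x)).symm
  · right
    refine Finite.injective_iff_bijective.1 ((injective_iff_map_eq_one h).2 fun x hx => ?_)
    have h1 : g' x = x := E.injective ((E.apply_symm_apply (g x)).trans
      (by rw [← mul_one (g x), ← hx, hsum]; rfl))
    have h2 := hn x
    rwa [Function.iterate_fixed h1 n] at h2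

/-- Inclusion of a complement of one factor. -/
def extend {n : ℕ} {B : Fin (n + 1) → Type*} [∀ j, Group (B j)] (j : Fin (n + 1)) :
    ((k : Fin n) → B (j.succAbove k)) →* ((k : Fin (n + 1)) → B k) where
  toFun y := Fin.insertNth j 1 y
  map_one' := by
    funext k
    refine Fin.succAboveCases j ?_ (fun k => ?_) k <;> simp
  map_mul' a b := by
    funext k
    refine Fin.succAboveCases j ?_ (fun k => ?_) k <;> simp

/-- Projection away from one factor. -/
def restrict {n : ℕ} {B : Fin (n + 1) → Type*} [∀ j, Group (B j)] (j : Fin (n + 1)) :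
    ((k : Fin (n + 1)) → B k) →* ((k : Fin n) → B (j.succAbove k)) where
  toFun z k := z (j.succAbove k)
  map_one' := rfl
  map_mul' _ _ := rfl

theorem extend_same {n : ℕ} {B : Fin (n + 1) → Type*} [∀ j, Group (B j)] (j : Fin (n + 1))
    (y : (k : Fin n) → B (j.succAbove k)) : extend j y j = 1 :=
  Fin.insertNth_apply_same (α := B) j 1 y

theorem extend_above {n : ℕ} {B : Fin (n + 1) → Type*} [∀ j, Group (B j)] (j : Fin (n + 1))
    (y : (k : Fin n) → B (j.succAbove k)) (k : Fin n) : extend j y (j.succAbove k) = y k :=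
  Fin.insertNth_apply_succAbove (α := B) j 1 y k

/-- The first factor is isomorphic to one of the others, through the projection. -/
theorem exists_factor {m n : ℕ} {A : Fin (m + 1) → Type u} {B : Fin n → Type v} [∀ i, Group (A i)]
    [∀ j, Group (B j)] [∀ i, Finite (A i)] (hA : Nontrivial (A 0) ∧ Indec (A 0))
    (hB : ∀ j, Indec (B j)) (e : ((i : Fin (m + 1)) → A i) ≃* ((j : Fin n) → B j)) :
    ∃ j, Function.Bijective fun x : A 0 => e (MonoidHom.mulSingle A 0 x) j := by
  classical
  let mask : Finset (Fin n) → ((j : Fin n) → B j) →* ((j : Fin n) → B j) := fun S =>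
    { toFun := fun z k => if k ∈ S then z k else 1
      map_one' := by funext k; simp
      map_mul' := fun a b => by funext k; by_cases h : k ∈ S <;> simp [h] }
  let F : Finset (Fin n) → A 0 →* A 0 := fun S =>
    (Pi.evalMonoidHom A 0).comp (e.symm.toMonoidHom.comp ((mask S).comp
      (e.toMonoidHom.comp (MonoidHom.mulSingle A 0))))
  have hFn : ∀ S, NormalEnd (F S) := by
    intro S a x
    have h1 : mask S (e (MonoidHom.mulSingle A 0 (a * x * a⁻¹))) =
        e (MonoidHom.mulSingle A 0 a) * mask S (e (MonoidHom.mulSingle A 0 x)) *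
          (e (MonoidHom.mulSingle A 0 a))⁻¹ := by
      rw [map_mul, map_mul, map_inv, map_mul, map_mul, map_inv]
      funext k
      by_cases h : k ∈ S <;> simp [mask, h]
    show (e.symm (mask S (e (MonoidHom.mulSingle A 0 (a * x * a⁻¹))))) 0 = _
    rw [h1, map_mul, map_mul, map_inv, e.symm_apply_apply]
    simp [F]
  have hex : ∀ S : Finset (Fin n), Function.Bijective (F S) → ∃ j ∈ S, Function.Bijective (F {j}) := by
    intro S
    induction S using Finset.induction_on with
    | empty =>
      intro hb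
      obtain ⟨x, hx⟩ := @exists_ne (A 0) hA.1 1
      have h1 : ∀ y, F ∅ y = 1 := fun y => by
        show e.symm (mask ∅ (e (MonoidHom.mulSingle A 0 y))) 0 = 1
        rw [show mask ∅ (e (MonoidHom.mulSingle A 0 y)) = 1 by funext k; simp [mask], map_one]
        rfl
      exact absurd (hb.1 ((h1 x).trans (h1 1).symm)) hx
    | @insert j S hj ih =>
      intro hb
      have hsum : ∀ x, F {j} x * F S x = F (insert j S) x := by
        intro x
        show e.symm _ 0 * e.symm _ 0 = e.symm _ 0
        rw [← Pi.mul_apply, ← map_mul]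
        refine congrFun (congrArg e.symm ?_) 0
        funext k
        by_cases hk : k = j
        · subst hk; simp [mask, hj]
        · simp [mask, hk]
      rcases bijective_or_of_mul hA.2 (hFn _) (hFn _) (hFn _) hb hsum with h | h
      · exact ⟨j, Finset.mem_insert_self j S, h⟩
      · obtain ⟨k, hk, hk'⟩ := ih h
        exact ⟨k, Finset.mem_insert_of_mem hk, hk'⟩
  have huniv : Function.Bijective (F Finset.univ) := by
    have : ∀ x, F Finset.univ x = x := by
      intro x
      show e.symm (mask Finset.univ (e (MonoidHom.mulSingle A 0 x))) 0 = x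
      rw [show mask Finset.univ (e (MonoidHom.mulSingle A 0 x)) = e (MonoidHom.mulSingle A 0 x) by
        funext k; simp [mask], e.symm_apply_apply]
      simp
    rw [show ⇑(F Finset.univ) = id from funext this]
    exact Function.bijective_id
  obtain ⟨j, -, hj⟩ := hex _ huniv
  refine ⟨j, ?_⟩
  let α : A 0 →* B j := (Pi.evalMonoidHom B j).comp (e.toMonoidHom.comp (MonoidHom.mulSingle A 0))
  let β : B j →* A 0 := (Pi.evalMonoidHom A 0).comp (e.symm.toMonoidHom.comp (MonoidHom.mulSingle B j))
  have hβα : ∀ x, β (α x) = F {j} x := by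
    intro x
    show e.symm _ 0 = e.symm _ 0
    refine congrFun (congrArg e.symm ?_) 0
    funext k
    by_cases hk : k = j
    · subst hk; simp [mask, α]
    · simp [mask, α, hk]
  have hinj : Function.Injective α := fun x y h => hj.1 (by rw [← hβα, ← hβα, h])
  have hrn : α.range.Normal := ⟨by
    rintro _ ⟨x, rfl⟩ b
    set c := e.symm (MonoidHom.mulSingle B j b) with hc
    refine ⟨c 0 * x * (c 0)⁻¹, ?_⟩
    have h1 : MonoidHom.mulSingle A 0 (c 0 * x * (c 0)⁻¹) = c * MonoidHom.mulSingle A 0 x * c⁻¹ := by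
      funext i
      by_cases hi : i = 0
      · subst hi; simp
      · simp [hi]
    show e (MonoidHom.mulSingle A 0 (c 0 * x * (c 0)⁻¹)) j = b * α x * b⁻¹
    rw [h1, map_mul, map_mul, map_inv, hc, e.apply_symm_apply]
    simp [α]⟩
  have hinf : α.range ⊓ β.ker = ⊥ := by
    rw [eq_bot_iff]
    rintro _ ⟨⟨x, rfl⟩, hx⟩
    have : x = 1 := hj.1 (by rw [← hβα, map_one]; exact hx)
    rw [this, map_one]; exact one_mem _
  have hsup : α.range ⊔ β.ker = ⊤ := by
    rw [eq_top_iff]
    intro b _
    obtain ⟨x, hx⟩ := hj.2 (β b)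
    have : b = α x * ((α x)⁻¹ * b) := (mul_inv_cancel_left _ _).symm
    rw [this]
    exact mul_mem (mem_sup_left ⟨x, rfl⟩) (mem_sup_right (by
      rw [MonoidHom.mem_ker, map_mul, map_inv, hβα, hx, inv_mul_cancel]))
  rcases hB j _ _ hrn inferInstance hinf hsup with h | h
  · obtain ⟨x, hx⟩ := @exists_ne (A 0) hA.1 1
    exact absurd (hinj ((mem_bot.1 (h ▸ (⟨x, rfl⟩ : α x ∈ α.range))).trans (map_one α).symm)) hx
  · rw [h, sup_bot_eq] at hsup
    exact ⟨hinj, MonoidHom.range_eq_top.1 hsup⟩

/-- Cancelling a factor matched by the projection. -/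
theorem cancel {m n : ℕ} {A : Fin (m + 1) → Type u} {B : Fin (n + 1) → Type v} [∀ i, Group (A i)]
    [∀ j, Group (B j)] (e : ((i : Fin (m + 1)) → A i) ≃* ((j : Fin (n + 1)) → B j)) (j : Fin (n + 1))
    (hb : Function.Bijective fun x : A 0 => e (MonoidHom.mulSingle A 0 x) j) :
    Nonempty (((i : Fin m) → A ((0 : Fin (m + 1)).succAbove i)) ≃* ((k : Fin n) → B (j.succAbove k))) := by
  let α : A 0 →* B j := (Pi.evalMonoidHom B j).comp (e.toMonoidHom.comp (MonoidHom.mulSingle A 0))
  let α' : A 0 ≃* B j := MulEquiv.ofBijective α hb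
  let δ : ((k : Fin (n + 1)) → B k) →* ((k : Fin (n + 1)) → B k) :=
    e.toMonoidHom.comp ((MonoidHom.mulSingle A 0).comp (α'.symm.toMonoidHom.comp (Pi.evalMonoidHom B j)))
  have hδj : ∀ z, δ z j = z j := fun z => α'.apply_symm_apply (z j)
  have hδe : ∀ a, δ (e (MonoidHom.mulSingle A 0 a)) = e (MonoidHom.mulSingle A 0 a) := fun a =>
    congrArg (fun t => e (MonoidHom.mulSingle A 0 t)) (α'.symm_apply_apply a)
  have hδr : δ.range.Normal := ⟨by
    rintro _ ⟨z, rfl⟩ b
    set c := e.symm b with hc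
    set a := α'.symm (z j) with ha
    refine ⟨e (MonoidHom.mulSingle A 0 (c 0 * a * (c 0)⁻¹)), ?_⟩
    rw [hδe]
    have h1 : MonoidHom.mulSingle A 0 (c 0 * a * (c 0)⁻¹) = c * MonoidHom.mulSingle A 0 a * c⁻¹ := by
      funext i
      by_cases hi : i = 0
      · subst hi; simp
      · simp [hi]
    rw [h1, map_mul, map_mul, map_inv, hc, e.apply_symm_apply]
    rfl⟩
  have hδδ : ∀ z, δ (δ z) = δ z := fun z => hδe _
  have hcomm : ∀ x y, Commute (δ x) ((δ y)⁻¹ * y) := fun x y =>
    commute_of_normal_of_disjoint δ.range δ.ker hδr inferInstance (by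
      rw [disjoint_iff, eq_bot_iff]
      rintro _ ⟨⟨z, rfl⟩, hz⟩
      rw [mem_bot, ← hδδ z]; exact hz) _ _ ⟨x, rfl⟩
      (by rw [MonoidHom.mem_ker, map_mul, map_inv, hδδ, inv_mul_cancel])
  let φ : ((k : Fin (n + 1)) → B k) →* ((k : Fin (n + 1)) → B k) :=
    { toFun := fun z => (δ z)⁻¹ * z
      map_one' := by simp
      map_mul' := fun x y => by
        show (δ (x * y))⁻¹ * (x * y) = (δ x)⁻¹ * x * ((δ y)⁻¹ * y)
        have h := ((hcomm y x).inv_left).eq
        rw [map_mul, mul_inv_rev]
        calc (δ y)⁻¹ * (δ x)⁻¹ * (x * y) = ((δ y)⁻¹ * ((δ x)⁻¹ * x)) * y := by group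
          _ = (((δ x)⁻¹ * x) * (δ y)⁻¹) * y := by rw [h]
          _ = _ := by group }
  let ψ := (restrict j).comp (φ.comp (e.toMonoidHom.comp (extend (B := A) 0)))
  refine ⟨MulEquiv.ofBijective ψ ⟨(injective_iff_map_eq_one ψ).2 fun x hx => ?_, fun y => ?_⟩⟩
  · set z := e (extend (B := A) 0 x) with hz
    have h1 : φ z = 1 := by
      funext k
      refine Fin.succAboveCases j ?_ (fun k => ?_) k
      · show (δ z j)⁻¹ * z j = 1
        rw [hδj, inv_mul_cancel]
      · exact congrFun hx k
    have h2 : δ z = z := inv_mul_eq_one.1 h1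
    have h3 : extend (B := A) 0 x = MonoidHom.mulSingle A 0 (α'.symm (z j)) := e.injective h2.symm
    funext i
    have h4 := congrFun h3 ((0 : Fin (m + 1)).succAbove i)
    rw [extend_above] at h4
    rw [h4]
    simp [Pi.mulSingle_eq_of_ne]
    rfl
  · set c := e.symm (extend (B := B) j y) with hc
    refine ⟨restrict (B := A) 0 c, ?_⟩
    have h1 : extend (B := A) 0 (restrict (B := A) 0 c) = (MonoidHom.mulSingle A 0 (c 0))⁻¹ * c := by
      funext i
      refine Fin.succAboveCases 0 ?_ (fun i => ?_) i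
      · rw [extend_same]; simp
      · rw [extend_above]; simp [restrict]; rfl
    show restrict j (φ (e (extend (B := A) 0 (restrict (B := A) 0 c)))) = y
    rw [h1, map_mul, map_inv, map_mul φ, map_inv φ, hc, e.apply_symm_apply]
    have h2 : ∀ a, φ (e (MonoidHom.mulSingle A 0 a)) = 1 := fun a => by
      show (δ _)⁻¹ * _ = 1
      rw [hδe, inv_mul_cancel]
    rw [h2, inv_one, one_mul]
    funext k
    show (δ _ (j.succAbove k))⁻¹ * _ = y k
    have h3 : δ (extend (B := B) j y) = 1 := by
      show e (MonoidHom.mulSingle A 0 (α'.symm (extend (B := B) j y j))) = 1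
      rw [extend_same]; simp
    rw [h3]
    simp [extend_above]

theorem krull_schmidt : ∀ (m : ℕ) {n : ℕ} {A : Fin m → Type u} {B : Fin n → Type v} [∀ i, Group (A i)]
    [∀ j, Group (B j)] [∀ i, Finite (A i)], (∀ i, Nontrivial (A i) ∧ Indec (A i)) →
    (∀ j, Nontrivial (B j) ∧ Indec (B j)) → (((i : Fin m) → A i) ≃* ((j : Fin n) → B j)) →
    ∃ σ : Fin m ≃ Fin n, ∀ i, Nonempty (A i ≃* B (σ i)) := by
  intro m
  induction m with
  | zero =>
    intro n A B _ _ _ _ hB e
    obtain rfl : n = 0 := by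
      by_contra hn
      let j : Fin n := ⟨0, Nat.pos_of_ne_zero hn⟩
      obtain ⟨b, hb⟩ := @exists_ne (B j) (hB j).1 1
      apply hb
      have : Pi.mulSingle j b = (1 : (k : Fin n) → B k) := e.symm.injective (Subsingleton.elim _ _)
      simpa using congrFun this j
    exact ⟨Equiv.refl _, fun i => i.elim0⟩
  | succ m ih =>
    intro n A B _ _ _ hA hB e
    obtain ⟨j, hj⟩ := exists_factor (hA 0) (fun j => (hB j).2) e
    obtain ⟨n, rfl⟩ := Nat.exists_eq_succ_of_ne_zero (show n ≠ 0 by rintro rfl; exact j.elim0)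
    obtain ⟨e'⟩ := cancel e j hj
    obtain ⟨τ, hτ⟩ := ih (A := fun i => A ((0 : Fin (m + 1)).succAbove i))
      (B := fun k => B (j.succAbove k)) (fun i => hA _) (fun k => hB _) e'
    refine ⟨(finSuccEquiv' 0).trans ((Equiv.optionCongr τ).trans (finSuccEquiv' j).symm), fun i => ?_⟩
    refine Fin.succAboveCases 0 ?_ (fun i => ?_) i
    · rw [show ((finSuccEquiv' 0).trans ((Equiv.optionCongr τ).trans (finSuccEquiv' j).symm)) 0 = j by simp]
      exact ⟨MulEquiv.ofBijective
        ((Pi.evalMonoidHom B j).comp (e.toMonoidHom.comp (MonoidHom.mulSingle A 0))) hj⟩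
    · rw [show ((finSuccEquiv' 0).trans ((Equiv.optionCongr τ).trans (finSuccEquiv' j).symm))
          ((0 : Fin (m + 1)).succAbove i) = j.succAbove (τ i) by
        rw [Equiv.trans_apply, finSuccEquiv'_succAbove]; simp]
      exact hτ i


/-- If a finite group is isomorphic both to a direct product of `m` directly indecomposable nontrivial groups and to a direct product of `n` such groups (a group is directly indecomposable when it is not the internal direct product of two nontrivial normal subgroups), then `m = n` and the factors are isomorphic in pairs after a suitable matching. -/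
theorem result {m n : ℕ} {A : Fin m → Type*} {B : Fin n → Type*} [∀ i, Group (A i)] [∀ j, Group (B j)] [∀ i, Finite (A i)] [∀ j, Finite (B j)] (hA : ∀ i, Nontrivial (A i) ∧ ∀ H K : Subgroup (A i), H.Normal → K.Normal → H ⊓ K = ⊥ → H ⊔ K = ⊤ → H = ⊥ ∨ K = ⊥) (hB : ∀ j, Nontrivial (B j) ∧ ∀ H K : Subgroup (B j), H.Normal → K.Normal → H ⊓ K = ⊥ → H ⊔ K = ⊤ → H = ⊥ ∨ K = ⊥) (e : ((i : Fin m) → A i) ≃* ((j : Fin n) → B j)) : ∃ σ : Fin m ≃ Fin n, ∀ i, Nonempty (A i ≃* B (σ i)) := by
  exact krull_schmidt m hA hB e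

end Cfsg.Agent.S4223
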