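import Cfsg.Statements.S4226
import Mathlib
import Cfsg.Agent.Lib.Transfer.HallWielandt
-- import your own Cfsg.Agent.* helpers here

set_option autoImplicit false
open Cfsg

namespace Cfsg.Agent.S4226

/-- Let `P` be a Sylow `p`-subgroup of the finite group `G` with nilpotency class less than `p` (the term of index `p - 1` of the lower central series of `P`, indexed from `0`, is trivial), and let `N` be its normalizer. Then `O^p(N) = O^p(G) ∩ N`, where `O^p` denotes the subgroup generated by the elements of order prime to `p`; so the largest `p`-factor groups of `G` and of `N` are isomorphic. -/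
theorem result {G : Type*} [Group G] [Finite G] {p : ℕ} [Fact p.Prime] (P : Sylow p G) (hcl : (P : Subgroup G).lowerCentralSeries (p - 1) = ⊥) : Cfsg.pResidualOf p (Subgroup.normalizer ((P : Subgroup G) : Set G)) = Cfsg.pResidual p G ⊓ Subgroup.normalizer ((P : Subgroup G) : Set G) := by
  rcases Cfsg.Agent.Transfer.step_or_control P (Cfsg.Agent.Transfer.isWeaklyClosed_self (P : Subgroup G)) with
    ⟨⟨st⟩⟩ | ⟨h1, -⟩
  · have hmem : ∀ k, st.D^[k] st.y ∈ (P : Subgroup G).lowerCentralSeries k := by
      intro k
      induction k with
      | zero => simpa using st.T_le (st.le_T st.y_mem)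
      | succ k ih =>
        rw [Function.iterate_succ_apply', Subgroup.lowerCentralSeries_succ]
        have h2 := Subgroup.commutator_mem_commutator (inv_mem ih) (inv_mem st.z_mem)
        rwa [commutatorElement_def, inv_inv, inv_inv] at h2
    refine absurd ?_ st.chi_bracket
    have h3 := hmem (p - 1)
    rw [hcl, Subgroup.mem_bot] at h3
    rw [h3]
    exact st.addOn.map_one
  · exact h1

end Cfsg.Agent.S4226
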