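import Cfsg.Statements.S4227
import Mathlib
import Cfsg.Agent.S0144
import Cfsg.Agent.Lib.PCore.HallHigman
import Cfsg.Agent.Lib.Coprime.Commutator
import Cfsg.Agent.Lib.PGroup.Frattini

set_option autoImplicit false
open Cfsg
open scoped commutatorElement

namespace Cfsg.Agent.S4227

section helpers

open Cfsg.Agent

theorem isSolvable_of_exp_six {G : Type*} [Group G] [Finite G] (h : ∀ x : G, x ^ 6 = 1) :
    Group.IsSolvable G := by
  have hpr : ∀ d : ℕ, d.Prime → d ∣ Nat.card G → d = 2 ∨ d = 3 := by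
    intro d hd hdv
    have := Fact.mk hd
    obtain ⟨x, hx⟩ := exists_prime_orderOf_dvd_card' d hdv
    have h6 : d ∣ 2 * 3 := hx ▸ orderOf_dvd_of_pow_eq_one (h x)
    rcases hd.dvd_mul.1 h6 with h2 | h3
    · exact Or.inl ((Nat.prime_dvd_prime_iff_eq hd Nat.prime_two).1 h2)
    · exact Or.inr ((Nat.prime_dvd_prime_iff_eq hd Nat.prime_three).1 h3)
  obtain ⟨a, m, hm2, hnm⟩ := Nat.exists_eq_pow_mul_and_not_dvd (Nat.card_pos (α := G)).ne' 2 (by norm_num)
  have hm : m ≠ 0 := fun h => hm2 (h ▸ dvd_zero 2)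
  have hm3 := Nat.eq_prime_pow_of_unique_prime_dvd (p := 3) hm fun {d} hd hdm =>
    (hpr d hd (hnm ▸ hdm.trans (Dvd.intro_left _ rfl))).resolve_left fun h => hm2 (h ▸ hdm)
  exact S0144.result 2 3 a m.primeFactorsList.length Nat.prime_two Nat.prime_three (by rw [hnm, ← hm3])

theorem pLength_of_not_dvd {G : Type*} [Group G] [Finite G] (p : ℕ) [Fact p.Prime]
    (h : ¬ p ∣ (Cfsg.pCore p (G ⧸ Cfsg.pPrimeCore p G)).index) : Cfsg.PLengthLE p 1 G := by
  have hidx : ¬ p ∣ (Cfsg.upperPSeries p G 2).1.index := by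
    rw [PCore.upperPSeries_two, Cfsg.pPrimePCore,
      Subgroup.index_comap_of_surjective _ (QuotientGroup.mk'_surjective _)]
    exact h
  show (Cfsg.upperPSeries p G (2 + 1)).1 = ⊤
  rw [PCore.upperPSeries_succ_of_even even_two]
  have htop : Cfsg.pPrimeCore p (G ⧸ (Cfsg.upperPSeries p G 2).1) = ⊤ := by
    rw [eq_top_iff]
    refine le_sSup ⟨Subgroup.normal_top, ?_⟩
    rw [Subgroup.card_top, ← Subgroup.index_eq_card]
    exact ((Fact.out (p := p.Prime)).coprime_iff_not_dvd.2 hidx).symm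
  rw [htop, Subgroup.comap_top]

theorem two_case {H : Type*} [Group H] [Finite H] [Fact (Nat.Prime 2)] (h : ∀ x : H, x ^ 6 = 1)
    (hpc : Cfsg.pPrimeCore 2 H = ⊥) : ¬ 2 ∣ (Cfsg.pCore 2 H).index := by
  have := isSolvable_of_exp_six h
  have hR : IsPGroup 2 (Cfsg.pCore 2 H) := PCore.isPGroup_pCore
  have hC := PCore.centralizer_pCore_le_of_isSolvable (p := 2) hpc
  obtain ⟨P, hP⟩ := hR.exists_le_sylow
  have hinv : ∀ a : (P : Subgroup H), a⁻¹ = a := by
    intro a
    obtain ⟨k, hk⟩ := P.isPGroup' a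
    have h1 : orderOf a ∣ 2 := by
      have hd : orderOf a ∣ 2 * 3 := orderOf_dvd_of_pow_eq_one (Subtype.ext (by simpa using h a))
      refine Nat.Coprime.dvd_of_dvd_mul_right ?_ hd
      exact Nat.Coprime.coprime_dvd_left (orderOf_dvd_of_pow_eq_one hk) ((by norm_num : Nat.Coprime 2 3).pow_left k)
    rw [inv_eq_iff_mul_eq_one, ← pow_two]
    exact orderOf_dvd_iff_pow_eq_one.1 h1
  have hPc : (P : Subgroup H) ≤ Cfsg.pCore 2 H := by
    refine le_trans ?_ hC
    intro a ha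
    rw [Subgroup.mem_centralizer_iff]
    intro r hr
    have e : (⟨r, hP hr⟩ : (P : Subgroup H)) * ⟨a, ha⟩ = ⟨a, ha⟩ * ⟨r, hP hr⟩ := by
      conv_lhs => rw [← hinv (⟨r, hP hr⟩ * ⟨a, ha⟩), mul_inv_rev, hinv, hinv]
    exact congrArg Subtype.val e
  exact fun hd => P.not_dvd_index (hd.trans (Subgroup.index_dvd_of_le hPc))

/-- the averaging argument over `A₄` -/
theorem a4_trivial {V : Type*} [CommGroup V] (hV : ∀ v : V, v ^ 3 = 1) (X A B C : MulAut V)
    (hA : A * A = 1) (hBdef : B = X * A * X⁻¹) (hCdef : C = A * B) (hAB : A * B = B * A)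
    (hC : X * B * X⁻¹ = C)
    (hnorm : ∀ Y ∈ [X, X * A, X * B, X * C], ∀ v, v * Y v * Y (Y v) = 1) :
    A = 1 := by
  have hB : B * B = 1 := by
    rw [hBdef]
    calc X * A * X⁻¹ * (X * A * X⁻¹) = X * (A * A) * X⁻¹ := by group
      _ = 1 := by rw [hA, mul_one, mul_inv_cancel]
  have hXA : X * A = B * X := by rw [hBdef]; group
  have hXB : X * B = C * X := by rw [← hC]; group
  have hXC : X * C = A * X := by
    calc X * C = (X * A) * B := by rw [hCdef, mul_assoc]
      _ = B * (X * B) := by rw [hXA, mul_assoc]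
      _ = (B * A) * (B * X) := by rw [hXB, hCdef]; group
      _ = (A * B) * (B * X) := by rw [← hAB]
      _ = A * (B * B) * X := by group
      _ = A * X := by rw [hB, mul_one]
  have hXX : ∀ D E : MulAut V, X * E = D * X → X * D * (X * D) = X * X * (E * D) := by
    intro D E hDE
    calc X * D * (X * D) = X * (D * X) * D := by group
      _ = X * (X * E) * D := by rw [hDE]
      _ = X * X * (E * D) := by group
  have hCA : C * A = B := by
    calc C * A = A * (B * A) := by rw [hCdef, mul_assoc]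
      _ = A * (A * B) := by rw [← hAB]
      _ = B := by rw [← mul_assoc, hA, one_mul]
  have hAB' : A * B = C := hCdef.symm
  have hBC : B * C = A := by
    calc B * C = (B * A) * B := by rw [hCdef, mul_assoc]
      _ = (A * B) * B := by rw [← hAB]
      _ = A := by rw [mul_assoc, hB, mul_one]
  have sq1 : (X * A) * (X * A) = X * X * B := by rw [hXX A C hXC, hCA]
  have sq2 : (X * B) * (X * B) = X * X * C := by rw [hXX B A hXA, hAB']
  have sq3 : (X * C) * (X * C) = X * X * A := by rw [hXX C B hXB, hBC]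
  refine MulEquiv.ext fun v => ?_
  have key : ∀ w, w * A w * B w * C w = w := by
    intro w
    have n0 := hnorm X (by simp) w
    have n1 := hnorm (X * A) (by simp) w
    have n2 := hnorm (X * B) (by simp) w
    have n3 := hnorm (X * C) (by simp) w
    have n1' : w * (X * A) w * ((X * A) * (X * A)) w = 1 := n1
    have n2' : w * (X * B) w * ((X * B) * (X * B)) w = 1 := n2
    have n3' : w * (X * C) w * ((X * C) * (X * C)) w = 1 := n3
    rw [sq1] at n1'
    rw [sq2] at n2'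
    rw [sq3] at n3'
    clear n1 n2 n3
    rename' n1' => n1, n2' => n2, n3' => n3
    simp only [MulAut.mul_apply] at n1 n2 n3
    set S := w * A w * B w * C w with hS
    have nS := hnorm X (by simp) S
    have e : X S = X w * X (A w) * X (B w) * X (C w) := by rw [hS, map_mul, map_mul, map_mul]
    have e2 : X (X S) = X (X w) * X (X (A w)) * X (X (B w)) * X (X (C w)) := by
      rw [e, map_mul, map_mul, map_mul]
    have tot : w ^ 4 * (X S * X (X S)) = 1 := by
      have := congrArg₂ (· * ·) (congrArg₂ (· * ·) n0 n1) (congrArg₂ (· * ·) n2 n3)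
      simp only [one_mul] at this
      rw [← this, e2, e, pow_succ, pow_succ, pow_two]
      ac_rfl
    have h4 : w ^ 4 = w := by rw [pow_succ, hV, one_mul]
    rw [h4] at tot
    rw [mul_assoc] at nS
    exact mul_right_cancel (nS.trans tot.symm)
  have h1 : A v * B v * C v = 1 := by
    have := key v
    rw [mul_assoc v, mul_assoc v] at this
    exact mul_eq_left.1 this
  have h2 : v * C v * B v = 1 := by
    have := congrArg A h1
    rw [map_mul, map_mul, map_one, ← MulAut.mul_apply, ← MulAut.mul_apply, ← MulAut.mul_apply, hA] at this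
    rw [hAB', hCdef, ← mul_assoc, hA, one_mul] at this
    rw [hCdef]
    exact this
  show A v = v
  rw [mul_assoc, mul_comm (B v)] at h1
  rw [mul_assoc] at h2
  exact mul_right_cancel (h1.trans h2.symm)

theorem three_case {H : Type*} [Group H] [Finite H] [Fact (Nat.Prime 3)] [Fact (Nat.Prime 2)]
    (h : ∀ x : H, x ^ 6 = 1) (hpc : Cfsg.pPrimeCore 3 H = ⊥) : ¬ 3 ∣ (Cfsg.pCore 3 H).index := by
  intro hd
  have := isSolvable_of_exp_six h
  set R := Cfsg.pCore 3 H with hRdef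
  have hR : IsPGroup 3 R := PCore.isPGroup_pCore
  have hRn : R.Normal := by rw [hRdef]; exact Subgroup.sSup_normal _ fun _ hN => hN.1
  let π := QuotientGroup.mk' R
  have hB6 : ∀ b : H ⧸ R, b ^ 6 = 1 := fun b => by
    obtain ⟨g, rfl⟩ := QuotientGroup.mk'_surjective R b
    rw [← map_pow, h, map_one]
  have hsB : Group.IsSolvable (H ⧸ R) := isSolvable_of_exp_six hB6
  have hO3 : Cfsg.pCore 3 (H ⧸ R) = ⊥ := PCore.pCore_quotient_self_eq_bot
  have hpc2 : Cfsg.pPrimeCore 2 (H ⧸ R) = ⊥ := by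
    rw [eq_bot_iff, ← hO3]
    refine sSup_le fun N hN => le_sSup ⟨hN.1, ?_⟩
    intro a
    refine ⟨1, Subtype.ext ?_⟩
    have h2 : orderOf (a : H ⧸ R) ∣ 3 := by
      refine Nat.Coprime.dvd_of_dvd_mul_left ?_ (orderOf_dvd_of_pow_eq_one (hB6 a) : _ ∣ 2 * 3)
      exact hN.2.coprime_dvd_left (N.orderOf_dvd_natCard a.2)
    simpa using orderOf_dvd_iff_pow_eq_one.1 h2
  have hCB := PCore.centralizer_pCore_le_of_isSolvable (p := 2) hpc2
  have hE : IsPGroup 2 (Cfsg.pCore 2 (H ⧸ R)) := PCore.isPGroup_pCore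
  rw [Subgroup.index_eq_card] at hd
  obtain ⟨x, hx⟩ := exists_prime_orderOf_dvd_card' 3 hd
  have hxE : x ∉ Cfsg.pCore 2 (H ⧸ R) := by
    intro hxE
    obtain ⟨k, hk⟩ := hE ⟨x, hxE⟩
    have h1 : orderOf x ∣ 2 ^ k := orderOf_dvd_of_pow_eq_one (by simpa [Subtype.ext_iff] using hk)
    rw [hx] at h1
    exact absurd ((Nat.prime_dvd_prime_iff_eq Nat.prime_three Nat.prime_two).1 (Nat.prime_three.dvd_of_dvd_pow h1))
      (by norm_num)
  obtain ⟨e, he, hne⟩ : ∃ e ∈ Cfsg.pCore 2 (H ⧸ R), e * x ≠ x * e := by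
    by_contra hc
    push Not at hc
    exact hxE (hCB (Subgroup.mem_centralizer_iff.2 fun e he => hc e he))
  set E := Cfsg.pCore 2 (H ⧸ R) with hEdef
  have hEn : E.Normal := by rw [hEdef]; exact Subgroup.sSup_normal _ fun _ hN => hN.1
  have hEinv : ∀ u ∈ E, u⁻¹ = u := by
    intro u hu
    obtain ⟨k, hk⟩ := hE ⟨u, hu⟩
    have h1 : orderOf u ∣ 2 := by
      refine Nat.Coprime.dvd_of_dvd_mul_right ?_ (orderOf_dvd_of_pow_eq_one (hB6 u) : _ ∣ 2 * 3)
      exact Nat.Coprime.coprime_dvd_left (orderOf_dvd_of_pow_eq_one (by simpa [Subtype.ext_iff] using hk))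
        ((by norm_num : Nat.Coprime 2 3).pow_left k)
    rw [inv_eq_iff_mul_eq_one, ← pow_two]
    exact orderOf_dvd_iff_pow_eq_one.1 h1
  have hEcomm : ∀ u ∈ E, ∀ w ∈ E, u * w = w * u := fun u hu w hw => by
    rw [← hEinv (u * w) (E.mul_mem hu hw), mul_inv_rev, hEinv u hu, hEinv w hw]
  have hEsq : ∀ u ∈ E, u * u = 1 := fun u hu => by
    nth_rewrite 1 [← hEinv u hu]
    exact inv_mul_cancel u
  -- a := [x, e]
  set e1 := x * e * x⁻¹ with he1def
  have he1 : e1 ∈ E := hEn.conj_mem e he x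
  set e2 := x * e1 * x⁻¹ with he2def
  have he2 : e2 ∈ E := hEn.conj_mem e1 he1 x
  set a := e * e1 with hadef
  have haE : a ∈ E := E.mul_mem he he1
  have hxa : x * a * x⁻¹ = e1 * e2 := by rw [hadef, he2def, he1def]; group
  have hx3 : x ^ 3 = 1 := hx ▸ pow_orderOf_eq_one x
  have hxe2 : x * e2 * x⁻¹ = e := by
    calc x * e2 * x⁻¹ = x ^ 3 * e * (x ^ 3)⁻¹ := by
          rw [he2def, he1def]; simp only [pow_succ, pow_zero, one_mul]; group
      _ = e := by rw [hx3]; group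
  have hb : x * a * x⁻¹ ∈ E := hEn.conj_mem a haE x
  have hc : a * (x * a * x⁻¹) = x * (x * a * x⁻¹) * x⁻¹ := by
    have e' : x * (x * a * x⁻¹) * x⁻¹ = e2 * e := by
      calc x * (x * a * x⁻¹) * x⁻¹ = x * (e1 * e2) * x⁻¹ := by rw [hxa]
        _ = (x * e1 * x⁻¹) * (x * e2 * x⁻¹) := by group
        _ = e2 * e := by rw [hxe2]
    rw [e', hxa, hadef, mul_assoc e e1, ← mul_assoc e1 e1, hEsq e1 he1, one_mul, hEcomm e he e2 he2]
  have ha1 : a ≠ 1 := by
    intro h1
    apply hne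
    have h2 : e1 = e := by
      have := eq_inv_of_mul_eq_one_right h1
      rw [this, hEinv e he]
    calc e * x = e1 * x := by rw [h2]
      _ = x * e := by rw [he1def]; group
  -- V = R / Φ(R)
  set Φ := (frattini R).map R.subtype with hΦdef
  have hΦn : Φ.Normal := ConjAct.normal_of_characteristic_of_normal
  let κ := QuotientGroup.mk' Φ
  let V := R.map κ
  have hVn : V.Normal := hRn.map κ (QuotientGroup.mk'_surjective Φ)
  have hV3 : ∀ r ∈ R, r ^ 3 = 1 := by
    intro r hr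
    obtain ⟨k, hk⟩ := hR ⟨r, hr⟩
    have h1 : orderOf r ∣ 3 := by
      refine Nat.Coprime.dvd_of_dvd_mul_left ?_ (orderOf_dvd_of_pow_eq_one (h r) : _ ∣ 2 * 3)
      exact Nat.Coprime.coprime_dvd_left (orderOf_dvd_of_pow_eq_one (by simpa [Subtype.ext_iff] using hk))
        ((by norm_num : Nat.Coprime 3 2).pow_left k)
    exact orderOf_dvd_iff_pow_eq_one.1 h1
  have hVc : ∀ u ∈ V, ∀ w ∈ V, u * w = w * u := by
    rintro _ ⟨u, hu, rfl⟩ _ ⟨w, hw, rfl⟩
    rw [← map_mul, ← map_mul]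
    refine QuotientGroup.eq.2 ?_
    refine ⟨(⟨u, hu⟩ * ⟨w, hw⟩ : R)⁻¹ * (⟨w, hw⟩ * ⟨u, hu⟩), ?_, by simp⟩
    refine PGroup.commutator_le_frattini hR ?_
    have hmem := Subgroup.commutator_mem_commutator (Subgroup.mem_top (⟨w, hw⟩ : R)⁻¹) (Subgroup.mem_top (⟨u, hu⟩ : R)⁻¹)
    rw [commutatorElement_def, inv_inv, inv_inv] at hmem
    have key : ∀ U W : R, (U * W)⁻¹ * (W * U) = W⁻¹ * U⁻¹ * W * U := fun U W => by group
    rw [key]
    exact hmem
  letI : CommGroup V :=
    { (inferInstance : Group V) with mul_comm := fun u w => Subtype.ext (hVc u u.2 w w.2) }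
  let ρ : H →* MulAut V := MulAut.conjNormal.comp κ
  have hρapply : ∀ (g : H) (v : V), ((ρ g v : V) : H ⧸ Φ) = κ g * v * (κ g)⁻¹ := fun g v => rfl
  have hker : R ≤ ρ.ker := by
    intro r hr
    rw [MonoidHom.mem_ker]
    refine MulEquiv.ext fun v => Subtype.ext ?_
    rw [hρapply, hVc _ (Subgroup.mem_map_of_mem κ hr) _ v.2, mul_inv_cancel_right]
    rfl
  let σ : H ⧸ R →* MulAut V := QuotientGroup.lift R ρ hker
  have hnormB : ∀ y : H ⧸ R, y ^ 3 = 1 → ∀ v : V, v * σ y v * σ y (σ y v) = 1 := by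
    intro y hy v
    obtain ⟨g, rfl⟩ := QuotientGroup.mk'_surjective R y
    obtain ⟨_, r, hr, rfl⟩ := v
    apply Subtype.ext
    show κ r * (κ g * κ r * (κ g)⁻¹) * (κ g * (κ g * κ r * (κ g)⁻¹) * (κ g)⁻¹) = 1
    have hg3 : ∀ t : H, π t ^ 3 = 1 → t ^ 3 = 1 := by
      intro t ht
      have htR : t ^ 3 ∈ R := by
        rw [← QuotientGroup.eq_one_iff, QuotientGroup.mk_pow]
        exact ht
      have e1 := hV3 _ htR
      have e2 : (t ^ 3) ^ 2 = 1 := by rw [← pow_mul]; exact h t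
      calc t ^ 3 = (t ^ 3) ^ 3 * ((t ^ 3) ^ 2)⁻¹ := by group
        _ = 1 := by rw [e1, e2, inv_one, mul_one]
    have hrg : (r * g) ^ 3 = 1 := by
      refine hg3 _ ?_
      have : π r = 1 := (QuotientGroup.eq_one_iff r).2 hr
      rw [map_mul, this, one_mul]
      exact hy
    have hg : g ^ 3 = 1 := hg3 g hy
    have : κ (r * (g * r * g⁻¹) * (g * (g * r * g⁻¹) * g⁻¹)) = 1 := by
      have e : r * (g * r * g⁻¹) * (g * (g * r * g⁻¹) * g⁻¹) = (r * g) ^ 3 * (g ^ 3)⁻¹ := by
        simp only [pow_succ, pow_zero, one_mul]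
        group
      rw [e, hrg, hg, inv_one, one_mul, map_one]
    simpa [map_mul, map_inv] using this
  have hσ : σ a = 1 := by
    refine a4_trivial (V := V) ?_ (σ x) (σ a) (σ x * σ a * (σ x)⁻¹) (σ a * (σ x * σ a * (σ x)⁻¹)) ?_ rfl rfl ?_ ?_ ?_
    · rintro ⟨_, r, hr, rfl⟩
      exact Subtype.ext (by simp only [SubmonoidClass.coe_pow, ← map_pow, hV3 r hr, map_one]; rfl)
    · rw [← map_mul, hEsq a haE, map_one]
    · simp only [← map_mul, ← map_inv]
      rw [hEcomm a haE _ hb]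
    · simp only [← map_mul, ← map_inv]
      rw [hc]
    · intro Y hY v
      simp only [← map_mul, ← map_inv, List.mem_cons, List.not_mem_nil, or_false] at hY
      have cube : ∀ u ∈ E, ((x * u) ^ 3) = 1 ↔ (x * u * x⁻¹) * (x * (x * u * x⁻¹) * x⁻¹) * u = 1 := by
        intro u _
        have e : (x * u) ^ 3 = (x * u * x⁻¹) * (x * (x * u * x⁻¹) * x⁻¹) * (x ^ 3 * u) := by
          simp only [pow_succ, pow_zero, one_mul]
          group
        rw [e, hx3, one_mul]
      have hca : ((x * a * x⁻¹) * (x * (x * a * x⁻¹) * x⁻¹)) * a = 1 := by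
        rw [← hc, hEcomm (x * a * x⁻¹) hb _ (E.mul_mem haE hb), mul_assoc a (x * a * x⁻¹) (x * a * x⁻¹),
          hEsq _ hb, mul_one, hEsq a haE]
      have hcb : ∀ u, u ∈ E → ((x * u * x⁻¹) * (x * (x * u * x⁻¹) * x⁻¹)) * u = 1 →
          ((x * (x * u * x⁻¹) * x⁻¹) * (x * (x * (x * u * x⁻¹) * x⁻¹) * x⁻¹)) * (x * u * x⁻¹) = 1 := by
        intro u hu hu1
        calc ((x * (x * u * x⁻¹) * x⁻¹) * (x * (x * (x * u * x⁻¹) * x⁻¹) * x⁻¹)) * (x * u * x⁻¹)
            = x * (((x * u * x⁻¹) * (x * (x * u * x⁻¹) * x⁻¹)) * u) * x⁻¹ := by group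
          _ = 1 := by rw [hu1, mul_one, mul_inv_cancel]
      rcases hY with rfl | rfl | rfl | rfl
      · exact hnormB x hx3 v
      · exact hnormB _ ((cube a haE).2 hca) v
      · exact hnormB _ ((cube _ hb).2 (hcb a haE hca)) v
      · refine hnormB _ ((cube _ (E.mul_mem haE hb)).2 ?_) v
        rw [hc]
        exact hcb _ hb (hcb a haE hca)
  -- the kernel of σ is trivial
  have hK : ∀ g : H, ρ g = 1 → (orderOf g).Coprime 3 → g ∈ R := by
    intro g hg hgo
    refine PCore.centralizer_pCore_le_of_isSolvable (p := 3) hpc ?_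
    refine Coprime.le_centralizer_of_frattini (A := Subgroup.zpowers g) (K := R)
      (by rw [Subgroup.normalizer_eq_top]; exact le_top) ?_ ?_ (Subgroup.mem_zpowers g)
    · obtain ⟨k, hk⟩ := (hR.to_subgroup (frattini R)).exists_card_eq
      rw [Nat.card_zpowers, hk]
      exact hgo.pow_right k
    · intro b hb r hr
      obtain ⟨i, rfl⟩ := Subgroup.mem_zpowers_iff.1 hb
      have hgi : ρ (g ^ i) = 1 := by rw [map_zpow, hg, one_zpow]
      have h1 := congrArg (fun (f : MulAut V) => ((f ⟨κ r, Subgroup.mem_map_of_mem κ hr⟩ : V) : H ⧸ Φ)) hgi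
      simp only [hρapply, MulAut.one_apply] at h1
      rw [← hΦdef, ← QuotientGroup.eq_one_iff]
      show κ (g ^ i * r * (g ^ i)⁻¹ * r⁻¹) = 1
      rw [map_mul, map_mul, map_mul, map_inv, map_inv, h1, mul_inv_cancel]
  obtain ⟨g, hga⟩ := QuotientGroup.mk'_surjective R a
  obtain ⟨k, hk⟩ := hE ⟨a, haE⟩
  have hg3 : orderOf (g ^ 3) ∣ 2 := orderOf_dvd_of_pow_eq_one (by rw [← pow_mul]; exact h g)
  have hmem := hK (g ^ 3) (by
    have : ρ g = 1 := by
      have := hσ
      rw [← hga] at this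
      exact this
    rw [map_pow, this, one_pow]) ((by norm_num : Nat.Coprime 2 3).coprime_dvd_left hg3)
  apply ha1
  have h3 : a ^ 3 = 1 := by
    rw [← hga, ← map_pow]
    exact (QuotientGroup.eq_one_iff _).2 hmem
  have h2 := hEsq a haE
  rw [pow_succ, pow_two, h2, one_mul] at h3
  exact h3

end helpers

/-- A finite group in which every element has order dividing `6` has `2`-length at most `1` and `3`-length at most `1`. -/
theorem result {G : Type*} [Group G] [Finite G] (h : ∀ x : G, x ^ 6 = 1) : Cfsg.PLengthLE 2 1 G ∧ Cfsg.PLengthLE 3 1 G := by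
  have : Fact (Nat.Prime 2) := ⟨Nat.prime_two⟩
  have : Fact (Nat.Prime 3) := ⟨Nat.prime_three⟩
  have hq : ∀ (p : ℕ) (x : G ⧸ Cfsg.pPrimeCore p G), x ^ 6 = 1 := fun p x => by
    obtain ⟨g, rfl⟩ := QuotientGroup.mk_surjective x
    rw [← QuotientGroup.mk_pow, h, QuotientGroup.mk_one]
  exact ⟨pLength_of_not_dvd 2 (two_case (hq 2) PCore.pPrimeCore_quotient_self_eq_bot),
    pLength_of_not_dvd 3 (three_case (hq 3) PCore.pPrimeCore_quotient_self_eq_bot)⟩

end Cfsg.Agent.S4227
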