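import Cfsg.Statements.S4230
import Mathlib

set_option autoImplicit false
open Cfsg

namespace Cfsg.Agent.S4230

section helpers

open Polynomial

theorem dvd_cyclotomic_iff (p q f : ℕ) (hp : p.Prime) (hpq : ¬ p ∣ q) :
    ((p : ℤ) ∣ (cyclotomic f ℤ).eval (q : ℤ)) ↔ ∃ j : ℕ, f = orderOf (q : ZMod p) * p ^ j := by
  have := Fact.mk hp
  have hq : (q : ZMod p) ≠ 0 := fun h => hpq ((ZMod.natCast_eq_zero_iff _ _).1 h)
  have he : orderOf (q : ZMod p) ∣ p - 1 := ZMod.orderOf_dvd_card_sub_one hq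
  have hep : ¬ p ∣ orderOf (q : ZMod p) := fun h => by
    have := Nat.le_of_dvd (Nat.sub_pos_of_lt hp.one_lt) (h.trans he)
    have := hp.pos
    omega
  have hroot : ((p : ℤ) ∣ (cyclotomic f ℤ).eval (q : ℤ)) ↔ IsRoot (cyclotomic f (ZMod p)) (q : ZMod p) := by
    rw [← ZMod.intCast_zmod_eq_zero_iff_dvd, IsRoot.def]
    have : (((cyclotomic f ℤ).eval (q : ℤ) : ℤ) : ZMod p) = (cyclotomic f (ZMod p)).eval (q : ZMod p) := by
      rw [← map_cyclotomic_int f (ZMod p), eval_map, eval₂_at_natCast, eq_intCast]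
    rw [this]
  rw [hroot]
  rcases eq_or_ne f 0 with rfl | hf
  · simp only [cyclotomic_zero, IsRoot.def, eval_one, one_ne_zero, false_iff, not_exists]
    intro j h
    have h1 : 0 < orderOf (q : ZMod p) := by
      rcases Nat.eq_zero_or_pos (orderOf (q : ZMod p)) with h0 | h0
      · exact absurd (h0 ▸ dvd_zero p) hep
      · exact h0
    exact (Nat.mul_pos h1 (pow_pos hp.pos j)).ne' h.symm
  obtain ⟨k, m, hm, rfl⟩ := Nat.exists_eq_pow_mul_and_not_dvd hf p hp.ne_one
  have : NeZero (m : ZMod p) := ⟨fun h => hm ((ZMod.natCast_eq_zero_iff _ _).1 h)⟩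
  have key : IsRoot (cyclotomic (p ^ k * m) (ZMod p)) (q : ZMod p) ↔ m = orderOf (q : ZMod p) := by
    rcases Nat.eq_zero_or_pos k with rfl | hk
    · rw [pow_zero, one_mul, isRoot_cyclotomic_iff, IsPrimitiveRoot.iff_orderOf, eq_comm]
    · rw [cyclotomic_mul_prime_pow_eq (ZMod p) hm hk, IsRoot.def, eval_pow, pow_eq_zero_iff,
        ← IsRoot.def, isRoot_cyclotomic_iff, IsPrimitiveRoot.iff_orderOf, eq_comm]
      have h2 : p ^ (k - 1) < p ^ k := Nat.pow_lt_pow_right hp.one_lt (by omega)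
      omega
  rw [key]
  constructor
  · intro h
    exact ⟨k, by rw [← h, mul_comm]⟩
  · rintro ⟨j, hj⟩
    have h1 : m ∣ orderOf (q : ZMod p) := by
      refine Nat.Coprime.dvd_of_dvd_mul_right ?_ (hj ▸ Dvd.intro_left _ rfl)
      exact ((hp.coprime_iff_not_dvd.2 hm).pow_left j).symm
    have h2 : orderOf (q : ZMod p) ∣ m := by
      refine Nat.Coprime.dvd_of_dvd_mul_left ?_ (hj.symm ▸ Dvd.intro _ rfl : orderOf (q : ZMod p) ∣ p ^ k * m)
      exact ((hp.coprime_iff_not_dvd.2 hep).pow_left k).symm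
    exact Nat.dvd_antisymm h1 h2

end helpers

/-- Let p be an odd prime, q a natural number not divisible by p, and e the multiplicative order of q modulo p. For a natural number f, p divides the value at q of the f-th cyclotomic polynomial if and only if f = e·p^j for some j ≥ 0. -/
theorem result (p q f : ℕ) (hp : p.Prime) (hp2 : p ≠ 2) (hpq : ¬ p ∣ q) :
    ((p : ℤ) ∣ (Polynomial.cyclotomic f ℤ).eval (q : ℤ)) ↔ ∃ j : ℕ, f = orderOf (q : ZMod p) * p ^ j := by
  exact dvd_cyclotomic_iff p q f hp hpq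

end Cfsg.Agent.S4230
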