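import Cfsg.Statements.S4234
import Cfsg.Agent.Lib.PSL2.MaximalOdd
import Cfsg.Agent.Lib.PSL2.DicksonOrders
import Cfsg.Agent.S0799
-- import your own Cfsg.Agent.* helpers here

set_option autoImplicit false
open Cfsg

namespace Cfsg.Agent.S4234

open Matrix
open scoped MatrixGroups commutatorElement
open PSL2

theorem le_normalizer_of_conj {G : Type*} [Group G] {H C : Subgroup G}
    (h : ∀ c ∈ C, ∀ x ∈ H, c * x * c⁻¹ ∈ H) : C ≤ Subgroup.normalizer (H : Set G) := fun c hc => by
  rw [Subgroup.mem_normalizer_iff]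
  intro x
  refine ⟨h c hc x, fun hx => ?_⟩
  have := h c⁻¹ (C.inv_mem hc) _ hx
  rwa [show c⁻¹ * (c * x * c⁻¹) * c⁻¹⁻¹ = x by group] at this

theorem le_normalizer_of_index {G : Type*} [Group G] [Finite G] {H C : Subgroup G} (hle : H ≤ C)
    (hc : Nat.card C = 2 * Nat.card H) : C ≤ Subgroup.normalizer (H : Set G) := by
  have hn : (H.subgroupOf C).Normal := by
    refine Subgroup.normal_of_index_eq_two ?_
    have h := (H.subgroupOf C).index_mul_card
    rw [Nat.card_congr (Subgroup.subgroupOfEquivOfLe hle).toEquiv, hc] at h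
    exact Nat.eq_of_mul_eq_mul_right Nat.card_pos h
  refine le_normalizer_of_conj fun c hc x hx => ?_
  have := hn.conj_mem ⟨x, hle hx⟩ (Subgroup.mem_subgroupOf.2 hx) ⟨c, hc⟩
  exact this

variable {F : Type*} [Field F] [Fintype F]

theorem card_of_isCoatom (hq : Fintype.card F = 13) [Fact (Nat.Prime 13)] [CharP F 13]
    {C : Subgroup PSL(2, F)} (hC : IsCoatom C) :
    Nat.card C = 78 ∨ Nat.card C = 14 ∨ Nat.card C = 12 := by
  have hodd : Odd (Fintype.card F) := by rw [hq]; decide
  rcases Maximal.classify_odd 13 hodd (by omega) hC (S0799.result rfl 13 C) with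
    h | ⟨-, k, hk, ⟨e⟩⟩ | ⟨-, -, k, hk, ⟨e⟩⟩ | ⟨L, _, _, hl, -⟩ | ⟨L, _, _, r, hr, -, hl, -⟩ |
      ⟨h10, -, -⟩ | ⟨-, -, -, ⟨e⟩⟩ | ⟨-, h8, -⟩
  · rw [hq] at h; omega
  · rw [Nat.card_congr e.toEquiv, DihedralGroup.nat_card]; omega
  · rw [Nat.card_congr e.toEquiv, DihedralGroup.nat_card]; omega
  · have := Nat.Prime.eq_one_of_pow (x := Fintype.card L) (n := 2) (by rw [← hl, hq]; norm_num)
    omega
  · have := Nat.Prime.eq_one_of_pow (x := Fintype.card L) (n := r) (by rw [← hl, hq]; norm_num)
    exact absurd this hr.one_lt.ne'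
  · rw [hq] at h10; omega
  · rw [Nat.card_congr e.toEquiv, nat_card_alternatingGroup, Nat.card_fin]; decide
  · omega

theorem orderOf_mem (hq : Fintype.card F = 13) [Fact (Nat.Prime 13)] [CharP F 13] (x : PSL(2, F)) :
    orderOf x ∣ 13 ∨ orderOf x ∣ 6 ∨ orderOf x ∣ 7 := by
  have := psl_orderOf_dvd 13 x
  rw [hq] at this
  exact this

/-- An element of order 3 gives twelve normalising elements. -/
theorem twelve_of_three (hq : Fintype.card F = 13) [Fact (Nat.Prime 13)] [CharP F 13]
    {H : Subgroup PSL(2, F)} {x : PSL(2, F)} (hx : x ∈ H) (ho : orderOf x = 3)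
    (hh : Nat.card H = 3 ∨ Nat.card H = 6) :
    12 ∣ Nat.card (Subgroup.normalizer (H : Set PSL(2, F))) := by
  obtain ⟨g, rfl⟩ := mk_surjective x
  have h4 := Maximal.tr_sq_ne_four_of_orderOf 13 (g := g)
    (fun e => by rw [e, orderOf_one] at ho; omega) (by rw [ho]; norm_num)
  set W := (Subgroup.normalizer (cent g : Set SL(2, F))).map mk with hWdef
  have hT : Nat.card ((cent g).map mk) = 6 := by
    have h3 : 3 ∣ Nat.card ((cent g).map mk) :=
      ho ▸ Subgroup.orderOf_dvd_natCard _ (Subgroup.mem_map_of_mem mk (mem_cent.2 (Commute.refl g)))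
    rcases Maximal.card_torus_psl h4 with e | e <;>
      rw [hq, show Nat.gcd 2 (13 - 1) = 2 from rfl] at e <;> omega
  have hW : Nat.card W = 12 := by rw [hWdef, Maximal.card_normalizer_torus_psl h4, hT]
  rw [← hW]
  refine Subgroup.card_dvd_of_le ?_
  rcases hh with hh | hh
  · have hH : Subgroup.zpowers (mk g) = H := Subgroup.eq_of_le_of_card_ge (Subgroup.zpowers_le.2 hx)
      (by rw [Nat.card_zpowers, ho, hh])
    refine le_normalizer_of_conj ?_
    rintro _ ⟨s, hs, rfl⟩ y hy
    rw [← hH] at hy ⊢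
    obtain ⟨i, rfl⟩ := hy
    show mk s * mk g ^ i * (mk s)⁻¹ ∈ _
    rw [← conj_zpow, ← map_inv, ← map_mul, ← map_mul]
    rcases (mem_normalizer_cent h4).1 hs with h | h <;> rw [h]
    · exact zpow_mem (Subgroup.mem_zpowers _) i
    · rw [map_inv]; exact zpow_mem (inv_mem (Subgroup.mem_zpowers _)) i
  · refine le_normalizer_of_index ?_ (by rw [hW, hh])
    have hle : Subgroup.zpowers (mk g) ≤ H := Subgroup.zpowers_le.2 hx
    have hN : ((Subgroup.zpowers (mk g)).subgroupOf H).Normal := Subgroup.normal_of_index_eq_two (by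
      have h := ((Subgroup.zpowers (mk g)).subgroupOf H).index_mul_card
      rw [Nat.card_congr (Subgroup.subgroupOfEquivOfLe hle).toEquiv, Nat.card_zpowers, ho, hh] at h
      omega)
    intro y hy
    exact Maximal.mem_normalizer_of_zpowers h4
      (hN.conj_mem ⟨mk g, hx⟩ (Subgroup.mem_subgroupOf.2 (Subgroup.mem_zpowers _)) ⟨y, hy⟩)

theorem borel_le_normalizer (hq : Fintype.card F = 13) [Fact (Nat.Prime 13)] [CharP F 13]
    {H C : Subgroup PSL(2, F)} (hle : H ≤ C) (hC : Nat.card C = 78) (h13 : 13 ∣ Nat.card H) :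
    C ≤ Subgroup.normalizer (H : Set PSL(2, F)) := by
  obtain ⟨x, hx⟩ := exists_prime_orderOf_dvd_card' (G := H) 13 h13
  have hx' : orderOf (x : PSL(2, F)) = 13 := by rw [Subgroup.orderOf_coe, hx]
  have hcard : Nat.card PSL(2, F) = 1092 := by
    have := Maximal.two_mul_card_PSL' (F := F) (by rw [hq]; decide)
    rw [hq] at this
    omega
  have hf : Nat.factorization 1092 13 = 1 := by
    rw [show (1092 : ℕ) = 13 * 84 from rfl, Nat.factorization_mul (by norm_num) (by norm_num),
      Finsupp.add_apply, Nat.Prime.factorization_self (by norm_num),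
      Nat.factorization_eq_zero_of_not_dvd (by norm_num)]
  let P : Sylow 13 PSL(2, F) := Sylow.ofCard (Subgroup.zpowers (x : PSL(2, F)))
    (by rw [Nat.card_zpowers, hx', hcard, hf, pow_one])
  have hP : (P : Subgroup PSL(2, F)) = Subgroup.zpowers (x : PSL(2, F)) := rfl
  have hPH : (P : Subgroup PSL(2, F)) ≤ H := hP ▸ Subgroup.zpowers_le.2 x.2
  -- the subgroup of order 13 is normal in `C`
  have hf' : (Nat.card C).factorization 13 = 1 := by
    rw [hC, show (78 : ℕ) = 13 * 6 from rfl, Nat.factorization_mul (by norm_num) (by norm_num),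
      Finsupp.add_apply, Nat.Prime.factorization_self (by norm_num),
      Nat.factorization_eq_zero_of_not_dvd (by norm_num)]
  let P' : Sylow 13 C := Sylow.ofCard ((P : Subgroup PSL(2, F)).subgroupOf C) (by
    rw [Nat.card_congr (Subgroup.subgroupOfEquivOfLe (hPH.trans hle)).toEquiv, hP, Nat.card_zpowers,
      hx', hf', pow_one])
  have h1 : Nat.card (Sylow 13 C) = 1 := by
    have hidx : (P' : Subgroup C).index = 6 := by
      have h := (P' : Subgroup C).index_mul_card
      rw [P'.card_eq_multiplicity, hf', hC] at h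
      omega
    have hd := P'.card_dvd_index
    rw [hidx] at hd
    have hle6 := Nat.le_of_dvd (by norm_num) hd
    have hm : Nat.card (Sylow 13 C) % 13 = 1 := card_sylow_modEq_one 13 C
    omega
  have : Subsingleton (Sylow 13 C) := (Nat.card_eq_one_iff_unique.1 h1).1
  have hPn : (P' : Subgroup C).Normal := Sylow.normal_of_subsingleton P'
  have hCN : C ≤ Subgroup.normalizer ((P : Subgroup PSL(2, F)) : Set PSL(2, F)) :=
    le_normalizer_of_conj fun c hc z hz =>
      hPn.conj_mem ⟨z, hle (hPH hz)⟩ (Subgroup.mem_subgroupOf.2 hz) ⟨c, hc⟩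
  have hCeq : C = Subgroup.normalizer ((P : Subgroup PSL(2, F)) : Set PSL(2, F)) := by
    refine Subgroup.eq_of_le_of_card_ge hCN ?_
    have := card_normalizer_sylow (F := F) 13 P
    rw [hq, show Nat.gcd 2 (13 - 1) = 2 from rfl] at this
    omega
  obtain ⟨g, hg⟩ := MulAction.exists_smul_eq PSL(2, F) P (unipSylowPSL F 13)
  have hPU : (P : Subgroup PSL(2, F)).map (MulAut.conj g).toMonoidHom = (unip F).map mk := by
    rw [← coe_unipSylowPSL 13, ← hg]; rfl
  have hB : ∀ c ∈ C, MulAut.conj g c ∈ (borel F).map mk := fun c hc => by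
    rw [hCeq] at hc
    rw [← normalizer_unip_map, ← hPU, ← Subgroup.map_equiv_normalizer_eq]
    exact Subgroup.mem_map_of_mem _ hc
  refine le_normalizer_of_conj fun c hc z hz => ?_
  obtain ⟨u, hu, hu'⟩ := hB c hc
  obtain ⟨v, hv, hv'⟩ := hB z (hle hz)
  have hmem : ⁅u, v⁆ ∈ unip F := by
    rw [mem_unip_iff_entries]
    have ha0 := mem_borel.1 hu
    have hb0 := mem_borel.1 hv
    have hda := det_eq u
    have hdb := det_eq v
    rw [ha0, mul_zero, sub_zero] at hda
    rw [hb0, mul_zero, sub_zero] at hdb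
    refine ⟨(borel F).mul_mem ((borel F).mul_mem ((borel F).mul_mem hu hv) ((borel F).inv_mem hu))
      ((borel F).inv_mem hv), ?_⟩
    rw [commutatorElement_def]
    simp only [mul00, mul01, inv00, inv01, inv10, inv11, ha0, hb0]
    linear_combination (v 0 0 * v 1 1) * hda + hdb
  have h3 := Subgroup.mem_map_of_mem mk hmem
  rw [map_commutatorElement, hu', hv', ← map_commutatorElement, ← hPU] at h3
  obtain ⟨w, hw, hw'⟩ := h3
  have h4 : ⁅c, z⁆ ∈ H := (MulAut.conj g).injective hw' ▸ hPH hw
  have := H.mul_mem h4 hz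
  rwa [commutatorElement_def, inv_mul_cancel_right] at this

/-- In `PSL(2, 13)` the normaliser of a proper non-trivial subgroup is maximal. -/
theorem key (hq : Fintype.card F = 13) {H : Subgroup PSL(2, F)} (hb : H ≠ ⊥) (ht : H ≠ ⊤) :
    IsCoatom (Subgroup.normalizer (H : Set PSL(2, F))) := by
  have : Fact (Nat.Prime 13) := ⟨by norm_num⟩
  have : CharP F 13 := Maximal.charP_of_card_pow 13 (i := 1) (by rw [hq, pow_one])
  have h2 : (2 : F) ≠ 0 := odd_card_iff.1 (by rw [hq]; decide)
  have := psl_isSimpleGroup (F := F) (by omega)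
  have hN : Subgroup.normalizer (H : Set PSL(2, F)) ≠ ⊤ := fun e =>
    (IsSimpleGroup.eq_bot_or_eq_top_of_normal H (Subgroup.normalizer_eq_top_iff.1 e)).elim hb ht
  obtain ⟨C, hC, hNC⟩ := (eq_top_or_exists_le_coatom _).resolve_left hN
  suffices hd : Nat.card C ∣ Nat.card (Subgroup.normalizer (H : Set PSL(2, F))) by
    rwa [Subgroup.eq_of_le_of_card_ge hNC (Nat.le_of_dvd Nat.card_pos hd)]
  have hle : H ≤ C := Subgroup.le_normalizer.trans hNC
  have hNd := Subgroup.card_dvd_of_le hNC
  have hHd := Subgroup.card_dvd_of_le hle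
  have h1 : Nat.card H ≠ 1 := fun e => hb (Subgroup.eq_bot_of_card_eq _ e)
  have hcC := card_of_isCoatom hq hC
  have big : Nat.card C = 2 * Nat.card H ∨ Nat.card C = Nat.card H →
      Nat.card C ∣ Nat.card (Subgroup.normalizer (H : Set PSL(2, F))) := by
    rintro (h | h)
    · exact Subgroup.card_dvd_of_le (le_normalizer_of_index hle h)
    · rw [h]; exact Subgroup.card_dvd_of_le Subgroup.le_normalizer
  have twelve : 12 ∣ Nat.card (Subgroup.normalizer (H : Set PSL(2, F))) →
      Nat.card C ∣ Nat.card (Subgroup.normalizer (H : Set PSL(2, F))) := by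
    intro h
    have := h.trans hNd
    rcases hcC with e | e | e <;> rw [e] at this ⊢ <;> first | exact h | omega
  have h12 : Nat.card H = 2 → 12 ∣ Nat.card (Subgroup.normalizer (H : Set PSL(2, F))) := by
    intro h
    obtain ⟨x, hx, hx1⟩ := H.bot_or_exists_ne_one.resolve_left hb
    have ho : orderOf x = 2 := by
      have := Subgroup.orderOf_dvd_natCard _ hx
      rw [h] at this
      exact ((Nat.dvd_prime Nat.prime_two).1 this).resolve_left fun e => hx1 (orderOf_eq_one_iff.1 e)
    have hH : Subgroup.zpowers x = H := Subgroup.eq_of_le_of_card_ge (Subgroup.zpowers_le.2 hx)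
      (by rw [Nat.card_zpowers, ho, h])
    have hc := (card_centralizer_involution h2 ho).1 (by rw [hq])
    rw [hq] at hc
    norm_num at hc
    rw [← hc]
    refine Subgroup.card_dvd_of_le (le_normalizer_of_conj fun w hw v hv => ?_)
    rw [← hH] at hv ⊢
    obtain ⟨i, rfl⟩ := hv
    have hcw : Commute w x := Subgroup.mem_centralizer_singleton_iff.1 hw
    show w * x ^ i * w⁻¹ ∈ _
    rw [(hcw.zpow_right i).eq, mul_inv_cancel_right]
    exact ⟨i, rfl⟩
  have h36 : Nat.card H = 3 ∨ Nat.card H = 6 →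
      12 ∣ Nat.card (Subgroup.normalizer (H : Set PSL(2, F))) := by
    intro h
    have : Fact (Nat.Prime 3) := ⟨Nat.prime_three⟩
    obtain ⟨x, hx⟩ := exists_prime_orderOf_dvd_card' (G := H) 3 (by
      rcases h with h | h <;> rw [h]; norm_num)
    exact twelve_of_three hq x.2 (by rw [Subgroup.orderOf_coe, hx]) h
  have h44 : Nat.card H = 4 → 12 ∣ Nat.card (Subgroup.normalizer (H : Set PSL(2, F))) := by
    intro h
    have hexp : ∀ v ∈ H, v ≠ 1 → orderOf v = 2 := fun v hv hv1 => by
      have hd4 := Subgroup.orderOf_dvd_natCard _ hv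
      rw [h] at hd4
      have h1' : orderOf v ≠ 1 := fun e => hv1 (orderOf_eq_one_iff.1 e)
      have hle4 := Nat.le_of_dvd (by norm_num) hd4
      have := orderOf_mem hq v
      have := orderOf_pos v
      interval_cases (orderOf v) <;> omega
    obtain ⟨x, hx, hx1⟩ := H.bot_or_exists_ne_one.resolve_left hb
    have hV : IsKleinFour H := IsKleinFour.mk h (by
      refine Nat.dvd_antisymm ?_ ?_
      · refine Monoid.exponent_dvd_of_forall_pow_eq_one fun a => Subtype.ext ?_
        rw [Subgroup.coe_pow, Subgroup.coe_one]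
        by_cases ha : (a : PSL(2, F)) = 1
        · rw [ha, one_pow]
        · exact orderOf_dvd_iff_pow_eq_one.1 (hexp _ a.2 ha).dvd
      · have := Monoid.order_dvd_exponent (⟨x, hx⟩ : H)
        rwa [Subgroup.orderOf_mk, hexp x hx hx1] at this)
    obtain ⟨y, hy, hy1, hyx⟩ := exists_mem_ne (V := H) hV x
    obtain ⟨g, hgx, hg0, -⟩ := exists_tr_eq_zero (hexp x hx hx1)
    have hsq : ∀ a ∈ H, a⁻¹ = a := fun a ha => by
      by_cases ha1 : a = 1
      · simp [ha1]
      · exact inv_eq_of_mul_eq_one_right (by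
          rw [← pow_two]; exact orderOf_dvd_iff_pow_eq_one.1 (hexp a ha ha1).dvd)
    have hxy : x * y = y * x := by
      have := hsq _ (H.mul_mem hx hy)
      rw [_root_.mul_inv_rev, hsq x hx, hsq y hy] at this
      exact this.symm
    subst hgx
    have hpair : IsInvPair (mk g) y := ⟨hexp _ hx hx1, hexp y hy hy1, hxy, hyx.symm⟩
    obtain ⟨w, hw, hwy⟩ := exists_lift h2 hg0 hpair
    subst hwy
    obtain ⟨ρ, hρ, e1, e2, e3⟩ := exists_rot_psl hw
    have hK : klein _ _ hw.isInvPair = H := by
      refine Subgroup.eq_of_le_of_card_ge (fun a ha => ?_) (by rw [card_klein, h])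
      rcases mem_klein.1 ha with rfl | rfl | rfl | rfl
      exacts [H.one_mem, hx, hy, H.mul_mem hx hy]
    have hρN : ρ ∈ Subgroup.normalizer (H : Set PSL(2, F)) := by
      refine le_normalizer_of_conj (H := H) (C := Subgroup.zpowers ρ) ?_ (Subgroup.mem_zpowers ρ)
      intro c hc
      have hstep : ∀ v ∈ H, ρ * v * ρ⁻¹ ∈ H := fun v hv => by
        rw [← hK] at hv ⊢
        rcases mem_klein.1 hv with rfl | rfl | rfl | rfl
        · simp
        · rw [e1]; exact mem_klein.2 (Or.inr (Or.inr (Or.inl rfl)))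
        · rw [e2]; exact mem_klein.2 (Or.inr (Or.inr (Or.inr rfl)))
        · rw [e3]; exact mem_klein.2 (Or.inr (Or.inl rfl))
      obtain ⟨i, hi⟩ := (Submonoid.mem_powers_iff _ _).1 (mem_powers_iff_mem_zpowers.2 hc)
      subst hi
      clear hc
      induction i with
      | zero => intro v hv; simpa using hv
      | succ i ih =>
        intro v hv
        rw [pow_succ, show ρ ^ i * ρ * v * (ρ ^ i * ρ)⁻¹ = ρ ^ i * (ρ * v * ρ⁻¹) * (ρ ^ i)⁻¹ by group]
        exact ih _ (hstep v hv)
    have d3 : 3 ∣ Nat.card (Subgroup.normalizer (H : Set PSL(2, F))) :=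
      hρ ▸ Subgroup.orderOf_dvd_natCard _ hρN
    have d4 : 4 ∣ Nat.card (Subgroup.normalizer (H : Set PSL(2, F))) :=
      h ▸ Subgroup.card_dvd_of_le Subgroup.le_normalizer
    omega
  rcases hcC with hc | hc | hc
  · have hd : Nat.card H ∈ Nat.divisors 78 := Nat.mem_divisors.2 ⟨hc ▸ hHd, by norm_num⟩
    rw [show Nat.divisors 78 = {1, 2, 3, 6, 13, 26, 39, 78} by decide] at hd
    simp only [Finset.mem_insert, Finset.mem_singleton] at hd
    rcases hd with h | h | h | h | h | h | h | h
    · exact absurd h h1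
    · exact twelve (h12 h)
    · exact twelve (h36 (Or.inl h))
    · exact twelve (h36 (Or.inr h))
    · exact Subgroup.card_dvd_of_le (borel_le_normalizer hq hle hc (by rw [h]))
    · exact Subgroup.card_dvd_of_le (borel_le_normalizer hq hle hc (by rw [h]; norm_num))
    · exact big (Or.inl (by omega))
    · exact big (Or.inr (by omega))
  · have hd : Nat.card H ∈ Nat.divisors 14 := Nat.mem_divisors.2 ⟨hc ▸ hHd, by norm_num⟩
    rw [show Nat.divisors 14 = {1, 2, 7, 14} by decide] at hd
    simp only [Finset.mem_insert, Finset.mem_singleton] at hd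
    rcases hd with h | h | h | h
    · exact absurd h h1
    · exact twelve (h12 h)
    · exact big (Or.inl (by omega))
    · exact big (Or.inr (by omega))
  · have hd : Nat.card H ∈ Nat.divisors 12 := Nat.mem_divisors.2 ⟨hc ▸ hHd, by norm_num⟩
    rw [show Nat.divisors 12 = {1, 2, 3, 4, 6, 12} by decide] at hd
    simp only [Finset.mem_insert, Finset.mem_singleton] at hd
    rcases hd with h | h | h | h | h | h
    · exact absurd h h1
    · exact twelve (h12 h)
    · exact twelve (h36 (Or.inl h))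
    · exact twelve (h44 h)
    · exact twelve (h36 (Or.inr h))
    · exact big (Or.inr (by omega))

theorem key_iso {G : Type*} [Group G] (hq : Fintype.card F = 13) (e : G ≃* PSL(2, F)) {H : Subgroup G}
    (hH : ¬ H.Normal) : IsCoatom (Subgroup.normalizer (H : Set G)) := by
  refine ((e.mapSubgroup).isCoatom_iff _).1 ?_
  show IsCoatom ((Subgroup.normalizer (H : Set G)).map e.toMonoidHom)
  rw [Subgroup.map_equiv_normalizer_eq]
  have hH' : ¬ (H.map e.toMonoidHom).Normal := fun h => hH (by
    rw [← Subgroup.comap_map_eq_self_of_injective (f := e.toMonoidHom) e.injective H]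
    exact h.comap _)
  refine key hq (fun h => hH' ?_) (fun h => hH' ?_) <;> rw [h] <;> infer_instance

theorem key_sl {G : Type*} [Group G] (hq : Fintype.card F = 13) (e : G ≃* SL(2, F)) {H : Subgroup G}
    (hH : ¬ H.Normal) : IsCoatom (Subgroup.normalizer (H : Set G)) := by
  have h2 : (2 : F) ≠ 0 := odd_card_iff.1 (by rw [hq]; decide)
  suffices h : ∀ K : Subgroup SL(2, F), ¬ K.Normal →
      IsCoatom (Subgroup.normalizer (K : Set SL(2, F))) by
    refine ((e.mapSubgroup).isCoatom_iff _).1 ?_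
    show IsCoatom ((Subgroup.normalizer (H : Set G)).map e.toMonoidHom)
    rw [Subgroup.map_equiv_normalizer_eq]
    refine h _ fun h' => hH ?_
    rw [← Subgroup.comap_map_eq_self_of_injective (f := e.toMonoidHom) e.injective H]
    exact h'.comap _
  intro K hK
  set Q := (K.map mk).comap (mk : SL(2, F) →* PSL(2, F)) with hQ
  have hmem : ∀ g, g ∈ Q ↔ g ∈ K ∨ -g ∈ K := by
    intro g
    constructor
    · rintro ⟨k, hk, hkg⟩
      rcases mk_eq_mk.1 hkg with rfl | rfl
      · exact Or.inl hk
      · exact Or.inr hk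
    · rintro (h | h)
      · exact Subgroup.mem_map_of_mem mk h
      · show mk g ∈ K.map mk
        rw [← mk_neg g]; exact Subgroup.mem_map_of_mem mk h
  have hNQ : Subgroup.normalizer (Q : Set SL(2, F)) ≤ Subgroup.normalizer (K : Set SL(2, F)) := by
    refine le_normalizer_of_conj fun w hw x hx => ?_
    have hwQ := fun y hy => (hmem _).1 ((Subgroup.mem_normalizer_iff.1 hw y).1 ((hmem y).2 (Or.inl hy)))
    by_cases hm1 : (-1 : SL(2, F)) ∈ K
    · rcases hwQ x hx with h | h
      · exact h
      · have := K.mul_mem hm1 h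
        rwa [← PSL2.neg_eq_neg_one_mul, neg_neg] at this
    · -- `K` has odd order, so consists of squares
      have hodd : Odd (Nat.card K) := by
        by_contra heven
        rw [Nat.not_odd_iff_even] at heven
        have : Fact (Nat.Prime 2) := ⟨Nat.prime_two⟩
        obtain ⟨i, hi⟩ := exists_prime_orderOf_dvd_card' (G := K) 2 heven.two_dvd
        rw [← Subgroup.orderOf_coe] at hi
        exact hm1 (eq_neg_one_of_orderOf_eq_two h2 hi ▸ i.2)
      obtain ⟨j, hj⟩ := hodd
      have hxx : x = x ^ (j + 1) * x ^ (j + 1) := by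
        rw [← pow_add, show j + 1 + (j + 1) = Nat.card K + 1 by omega, pow_succ,
          orderOf_dvd_iff_pow_eq_one.1 (Subgroup.orderOf_dvd_natCard K hx), one_mul]
      rw [hxx, show w * (x ^ (j + 1) * x ^ (j + 1)) * w⁻¹ =
        w * x ^ (j + 1) * w⁻¹ * (w * x ^ (j + 1) * w⁻¹) by group]
      rcases hwQ _ (K.pow_mem hx (j + 1)) with h | h
      · exact K.mul_mem h h
      · have := K.mul_mem h h
        rwa [neg_mul_neg] at this
  have hNeq : Subgroup.normalizer (K : Set SL(2, F)) = Subgroup.normalizer (Q : Set SL(2, F)) := by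
    refine le_antisymm ?_ hNQ
    refine le_normalizer_of_conj fun w hw x hx => ?_
    show mk (w * x * w⁻¹) ∈ K.map mk
    obtain ⟨k, hk, hkx⟩ := hx
    exact ⟨w * k * w⁻¹, (Subgroup.mem_normalizer_iff.1 hw k).1 hk,
      by rw [map_mul, map_mul, hkx, ← map_mul, ← map_mul]⟩
  rw [hNeq, hQ, ← Subgroup.comap_normalizer_eq_of_surjective _ mk_surjective]
  refine Subgroup.isCoatom_comap_of_surjective mk_surjective ?_
  have hn : ¬ (K.map mk).Normal := fun hn => hK (by
    rw [← Subgroup.normalizer_eq_top_iff, hNeq, Subgroup.normalizer_eq_top_iff]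
    exact hn.comap _)
  refine key hq (fun h => hn ?_) (fun h => hn ?_) <;> rw [h] <;> infer_instance

theorem coatom_prod {K S : Type*} [Group K] [CommGroup S] [Finite K] [Finite S]
    (hco : (Nat.card K).Coprime (Nat.card S))
    (hk : ∀ H : Subgroup K, ¬ H.Normal → IsCoatom (Subgroup.normalizer (H : Set K)))
    (H : Subgroup (K × S)) (hH : ¬ H.Normal) :
    IsCoatom (Subgroup.normalizer (H : Set (K × S))) := by
  obtain ⟨n, hn1, hn2⟩ := Nat.chineseRemainder hco 1 0
  have hfst : ∀ z ∈ H, ((z.1, 1) : K × S) ∈ H := fun z hz => by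
    have e : z ^ n = (z.1, 1) := by
      refine Prod.ext ?_ ?_
      · show z.1 ^ n = z.1
        conv_rhs => rw [← pow_one z.1]
        rw [pow_eq_pow_iff_modEq]
        exact hn1.of_dvd (orderOf_dvd_natCard _)
      · show z.2 ^ n = 1
        exact orderOf_dvd_iff_pow_eq_one.1
          ((orderOf_dvd_natCard _).trans (Nat.modEq_zero_iff_dvd.1 hn2))
    exact e ▸ H.pow_mem hz n
  have heq : ∀ z, z ∈ H ↔ z.1 ∈ H.map (MonoidHom.fst K S) ∧ z.2 ∈ H.map (MonoidHom.snd K S) := by
    intro z
    refine ⟨fun hz => ⟨⟨z, hz, rfl⟩, ⟨z, hz, rfl⟩⟩, ?_⟩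
    rintro ⟨⟨u, hu, hu'⟩, ⟨v, hv, hv'⟩⟩
    have h := H.mul_mem (hfst u hu) (H.mul_mem (H.inv_mem (hfst v hv)) hv)
    have hu'' : u.1 = z.1 := hu'
    have hv'' : v.2 = z.2 := hv'
    convert h
    exact Prod.ext (by simp [hu'']) (by simp [hv''])
  have hN : Subgroup.normalizer (H : Set (K × S)) =
      (Subgroup.normalizer ((H.map (MonoidHom.fst K S) : Subgroup K) : Set K)).comap
        (MonoidHom.fst K S) := by
    ext w
    simp only [Subgroup.mem_comap, Subgroup.mem_normalizer_iff, MonoidHom.coe_fst]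
    constructor
    · intro h a
      have ha := h (a, 1)
      rw [heq, heq] at ha
      have h1 : (1 : S) ∈ H.map (MonoidHom.snd K S) := one_mem _
      simp only [Prod.fst_mul, Prod.snd_mul, Prod.fst_inv, Prod.snd_inv, mul_one, mul_inv_cancel,
        h1, and_true] at ha
      exact ha
    · intro h z
      rw [heq, heq, h z.1]
      simp only [Prod.fst_mul, Prod.snd_mul, Prod.fst_inv, Prod.snd_inv, mul_inv_cancel_comm]
  rw [hN]
  refine Subgroup.isCoatom_comap_of_surjective Prod.fst_surjective (hk _ fun hn => hH ⟨?_⟩)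
  intro z hz w
  rw [heq] at hz ⊢
  refine ⟨hn.conj_mem _ hz.1 w.1, ?_⟩
  simpa [mul_inv_cancel_comm] using hz.2

/-- Let K be isomorphic to PSL(2, 13) or to SL(2, 13) and let S be a finite abelian group of order coprime to the order of K. Then in the direct product K × S every subgroup that is not normal has a normalizer that is a maximal subgroup. -/
theorem result {K S : Type*} [Group K] [CommGroup S] [Finite K] [Finite S]
    (hK : Nonempty (K ≃* Matrix.ProjectiveSpecialLinearGroup (Fin 2) (ZMod 13)) ∨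
      Nonempty (K ≃* Matrix.SpecialLinearGroup (Fin 2) (ZMod 13)))
    (hKS : (Nat.card K).Coprime (Nat.card S)) (H : Subgroup (K × S)) (hH : ¬ H.Normal) :
    IsCoatom (Subgroup.normalizer (H : Set (K × S))) := by
  have : Fact (Nat.Prime 13) := ⟨by norm_num⟩
  refine coatom_prod hKS (fun L hL => ?_) H hH
  rcases hK with ⟨⟨e⟩⟩ | ⟨⟨e⟩⟩
  · exact key_iso (ZMod.card 13) e hL
  · exact key_sl (ZMod.card 13) e hL

end Cfsg.Agent.S4234
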