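import Cfsg.Statements.S4236
import Mathlib
import Cfsg.Agent.Lib.SylowCount.Hall
import Cfsg.Agent.Lib.SmallSimple.Tools
import Cfsg.Agent.Lib.PGroup.Basic

set_option autoImplicit false
open Cfsg

namespace Cfsg.Agent.S4236

/-
Reduce to a simple group by M. Hall's factorisation. In a simple group with 35 Sylow 17-subgroups, the
normalizer of one of them is a (2, 17)-group, the Sylow 17-subgroup has order 17 and is self-centralizing,
so a Sylow 2-subgroup is cyclic and Burnside's theorem applies.
-/

universe u

open Subgroup MulAction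

/-- A prime-to-`17` element acting on a transitive abelian orbit of length 17 like a translation acts
trivially. -/
theorem fix_of_translation {X : Type*} {G : Type*} [Group G] [MulAction G X] [Finite G]
    {P : Subgroup G} {a : X} (hcard : (stabilizer P a).index = 17)
    [(stabilizer P a).Normal] {g : G}
    (hcomm : ∀ t ∈ P, (g * t * g⁻¹ * t⁻¹) • a = a) (hnorm : ∀ t ∈ P, g * t * g⁻¹ ∈ P)
    {m : ℕ} (hm : g ^ m = 1) (hm17 : Nat.Coprime m 17) (hga : g • a ∈ orbit P a) :
    ∀ b ∈ orbit P a, g • b = b := by
  obtain ⟨⟨s, hs⟩, hsa⟩ := hga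
  change s • a = g • a at hsa
  have htr : ∀ t : P, (g * t * g⁻¹ * (t : G)⁻¹) • ((t : G) • a) = (t : G) • a := fun t => by
    set k : P := ⟨g * t * g⁻¹ * (t : G)⁻¹, mul_mem (hnorm t t.2) (inv_mem t.2)⟩ with hk
    have hka : k ∈ stabilizer P a := hcomm t t.2
    have := (inferInstance : (stabilizer P a).Normal).conj_mem k hka t⁻¹
    rw [mem_stabilizer_iff, inv_inv, mul_smul, mul_smul, inv_smul_eq_iff] at this
    exact this
  have hmove : ∀ t : P, g • ((t : G) • a) = ((t : G) * s) • a := fun t => by
    have h1 : (g * t * g⁻¹ * (t : G)⁻¹) • ((t : G) • s • a) = ((t : G) * s) • a := by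
      have := htr (t * ⟨s, hs⟩)
      have hk2 := htr t
      set k : P := ⟨g * t * g⁻¹ * (t : G)⁻¹, mul_mem (hnorm t t.2) (inv_mem t.2)⟩ with hk
      have hka : (t * ⟨s, hs⟩)⁻¹ * k * (t * ⟨s, hs⟩) ∈ stabilizer P a := by
        have := (inferInstance : (stabilizer P a).Normal).conj_mem k (hcomm t t.2) (t * ⟨s, hs⟩)⁻¹
        rwa [inv_inv] at this
      rw [mem_stabilizer_iff, mul_smul, mul_smul, inv_smul_eq_iff] at hka
      rw [← mul_smul (t : G) s a]
      exact hka
    rw [← h1, hsa]
    simp only [mul_smul, inv_smul_smul]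
  have hpow : ∀ k : ℕ, g ^ k • a = s ^ k • a := fun k => by
    induction k with
    | zero => simp
    | succ k ih =>
      rw [pow_succ' g, mul_smul, ih, pow_succ]
      exact hmove ⟨s ^ k, pow_mem hs k⟩
  have hfix : s • a = a := by
    set S := stabilizer P a
    have h1 : (⟨s, hs⟩ : P) ^ m ∈ S := by
      show (s ^ m) • a = a
      rw [← hpow, hm, one_smul]
    have h2 : ((⟨s, hs⟩ : P) : P ⧸ S) = 1 := by
      refine orderOf_eq_one_iff.1 (Nat.eq_one_of_dvd_coprimes hm17
        (orderOf_dvd_of_pow_eq_one ?_) ?_)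
      · rw [← QuotientGroup.mk_pow, QuotientGroup.eq_one_iff]; exact h1
      · rw [← hcard, Subgroup.index_eq_card]; exact _root_.orderOf_dvd_natCard _
    exact (QuotientGroup.eq_one_iff _).1 h2
  rintro b ⟨t, rfl⟩
  show g • ((t : G) • a) = (t : G) • a
  rw [hmove, mul_smul, hfix]

/-- An element of `P`'s normalizer of odd order acts on an orbit of length 17 trivially modulo
the kernel. -/
theorem commutator_fix_of_odd {X : Type*} {G : Type*} [Group G] [MulAction G X] [Finite G]
    {P : Subgroup G} {a : X} (hcard : (stabilizer P a).index = 17)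
    [(stabilizer P a).Normal] {g : G} (hnorm : ∀ t ∈ P, g * t * g⁻¹ ∈ P)
    (hstab : ∀ t ∈ P, t • a = a → (g * t * g⁻¹) • a = a)
    {m : ℕ} (hm : g ^ m = 1) (hm16 : Nat.Coprime m 16) :
    ∀ t ∈ P, (g * t * g⁻¹ * t⁻¹) • a = a := by
  haveI : Fact (Nat.Prime 17) := ⟨by norm_num⟩
  set S := stabilizer P a with hS
  have hq : Nat.card (P ⧸ S) = 17 := by rw [← Subgroup.index_eq_card, hcard]
  obtain ⟨q, hq'⟩ := (isCyclic_of_prime_card hq).exists_generator
  let c : P →* P := MonoidHom.mk' (fun t => ⟨g * t * g⁻¹, hnorm t t.2⟩)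
    fun x y => Subtype.ext (by simp [mul_assoc])
  have hcS : S ≤ S.comap c := fun t ht => hstab t t.2 ht
  let cq : P ⧸ S →* P ⧸ S := QuotientGroup.map S S c hcS
  obtain ⟨r, hr⟩ := mem_zpowers_iff.1 (hq' (cq q))
  have hall : ∀ x : P ⧸ S, cq x = x ^ r := fun x => by
    obtain ⟨i, rfl⟩ := mem_zpowers_iff.1 (hq' x)
    rw [map_zpow, ← hr, ← zpow_mul, ← zpow_mul, mul_comm]
  have hiter : ∀ (k : ℕ) (t : P) (h : g ^ k * t * (g ^ k)⁻¹ ∈ P),
      ((⟨g ^ k * t * (g ^ k)⁻¹, h⟩ : P) : P ⧸ S) = (t : P ⧸ S) ^ (r ^ k) := by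
    intro k
    induction k with
    | zero => intro t h; simp
    | succ k ih =>
      intro t h
      have h' : g ^ k * t * (g ^ k)⁻¹ ∈ P := by
        clear ih h
        induction k with
        | zero => simp
        | succ k ih =>
          have := hnorm _ ih
          convert this using 1
          rw [pow_succ']; group
      have e : (⟨g ^ (k + 1) * t * (g ^ (k + 1))⁻¹, h⟩ : P) = c ⟨g ^ k * t * (g ^ k)⁻¹, h'⟩ :=
        Subtype.ext (by
          show g ^ (k + 1) * t * (g ^ (k + 1))⁻¹ = g * (g ^ k * t * (g ^ k)⁻¹) * g⁻¹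
          rw [pow_succ']; group)
      rw [e]
      show cq ((⟨g ^ k * t * (g ^ k)⁻¹, h'⟩ : P) : P ⧸ S) = _
      rw [hall, ih, ← zpow_mul, ← pow_succ]
  have hq1 : orderOf q = 17 := by
    rw [orderOf_eq_card_of_forall_mem_zpowers hq', hq]
  have hr1 : ((r : ℤ) : ZMod 17) ^ m = 1 := by
    obtain ⟨t, rfl⟩ := QuotientGroup.mk_surjective q
    have h1 := hiter m t (by simp [hm])
    have h2 : (⟨g ^ m * t * (g ^ m)⁻¹, by simp [hm]⟩ : P) = t := Subtype.ext (by simp [hm])
    rw [h2] at h1
    have h3 : (t : P ⧸ S) ^ (r ^ m - 1) = 1 := by rw [zpow_sub, zpow_one, ← h1, mul_inv_cancel]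
    rw [← orderOf_dvd_iff_zpow_eq_one, hq1] at h3
    have h4 := (ZMod.intCast_eq_intCast_iff_dvd_sub 1 (r ^ m) 17).2 h3
    push_cast at h4
    exact h4.symm
  have hr2 : ((r : ℤ) : ZMod 17) = 1 := by
    have hne : ((r : ℤ) : ZMod 17) ≠ 0 := fun h => by
      rcases Nat.eq_zero_or_pos m with h0 | h0
      · rw [h0, Nat.coprime_zero_left] at hm16
        norm_num at hm16
      · rw [h, zero_pow h0.ne'] at hr1
        exact zero_ne_one hr1
    exact orderOf_eq_one_iff.1 (Nat.eq_one_of_dvd_coprimes hm16 (orderOf_dvd_of_pow_eq_one hr1)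
      (orderOf_dvd_of_pow_eq_one (ZMod.pow_card_sub_one_eq_one hne)))
  intro t ht
  have h5 : cq ((⟨t, ht⟩ : P) : P ⧸ S) = ((⟨t, ht⟩ : P) : P ⧸ S) := by
    rw [hall]
    have hdvd : ((17 : ℕ) : ℤ) ∣ r - 1 :=
      (ZMod.intCast_eq_intCast_iff_dvd_sub 1 r 17).1 (by push_cast; exact hr2.symm)
    have h6 : ((⟨t, ht⟩ : P) : P ⧸ S) ^ (r - 1) = 1 := by
      obtain ⟨j, hj⟩ := hdvd
      rw [hj, zpow_mul, zpow_natCast, ← hq, pow_card_eq_one', one_zpow]
    rwa [zpow_sub, zpow_one, mul_inv_eq_one] at h6
  have h7 : (c ⟨t, ht⟩ * (⟨t, ht⟩ : P)⁻¹ : P) ∈ S := by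
    rw [← QuotientGroup.eq_one_iff, QuotientGroup.mk_mul, QuotientGroup.mk_inv]
    show cq ((⟨t, ht⟩ : P) : P ⧸ S) * _ = 1
    rw [h5, mul_inv_cancel]
  exact h7

/-- No simple group has exactly 35 Sylow 17-subgroups. -/
theorem no_simple {G : Type u} [Group G] [Finite G] [IsSimpleGroup G] :
    Nat.card (Sylow 17 G) ≠ 35 := by
  intro hn
  classical
  haveI hp : Fact (Nat.Prime 17) := ⟨by norm_num⟩
  haveI : Fintype (Sylow 17 G) := Fintype.ofFinite _
  have hG : ¬ IsMulCommutative G := fun hc => by
    haveI : Subsingleton (Sylow 17 G) := ⟨fun A B => by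
      haveI : (A : Subgroup G).Normal := ⟨fun x hx g => by
        rwa [mul_comm' g x, mul_inv_cancel_right]⟩
      obtain ⟨g, rfl⟩ := MulAction.exists_smul_eq G A B
      exact (Sylow.smul_eq_of_normal).symm⟩
    rw [Nat.card_of_subsingleton (default : Sylow 17 G)] at hn
    norm_num at hn
  obtain ⟨P⟩ : Nonempty (Sylow 17 G) := inferInstance
  -- the permutation representation on the Sylow subgroups
  set f := MulAction.toPermHom G (Sylow 17 G) with hf
  have hinj : Function.Injective f := by
    refine SmallSimple.injective_of_simple f ?_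
    by_contra hall
    push Not at hall
    haveI : Subsingleton (Sylow 17 G) := ⟨fun A B => by
      obtain ⟨g, rfl⟩ := MulAction.exists_smul_eq G A B
      exact (DFunLike.congr_fun (hall g) A).symm⟩
    rw [Nat.card_of_subsingleton (default : Sylow 17 G)] at hn
    norm_num at hn
  have hfaith : ∀ g : G, (∀ Q : Sylow 17 G, g • Q = Q) → g = 1 := fun g h =>
    hinj (by rw [map_one]; exact Equiv.ext h)
  have halt : ∀ g : G, Equiv.Perm.sign (f g) = 1 := fun g =>
    Equiv.Perm.mem_alternatingGroup.1 (SmallSimple.mem_alternating_of_simple hG f g)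
  obtain ⟨n, hPn⟩ := IsPGroup.iff_card.1 P.2
  -- the orbits of `P`
  have hmemP : ∀ (x : G) (Q : Sylow 17 G), x ∈ (P : Subgroup G) → x • Q = Q → x ∈ Q :=
    fun x Q hx h => SmallSimple.mem_of_smul_sylow_eq hx h
  have hfixP : ∀ x ∈ (P : Subgroup G), x • P = P := fun x hx =>
    SmallSimple.smul_sylow_eq_iff.2 (le_normalizer hx)
  have horb : ∀ Q : Sylow 17 G, Q ≠ P →
      (stabilizer (P : Subgroup G) Q).index = 17 ∧
        Nat.card (orbit (P : Subgroup G) Q) = 17 := by
    intro Q hQ
    have hidx : (stabilizer (P : Subgroup G) Q).index = Nat.card (orbit (P : Subgroup G) Q) := by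
      rw [index_stabilizer, Nat.card_coe_set_eq]
    obtain ⟨i, hi, hi'⟩ := (Nat.dvd_prime_pow hp.out).1
      (hPn ▸ (stabilizer (P : Subgroup G) Q).index_dvd_card)
    rcases i with _ | _ | i
    · exfalso
      rw [pow_zero, index_eq_one] at hi'
      refine hQ (Sylow.ext ?_).symm
      refine eq_of_le_of_card_ge (fun x hx => hmemP x Q hx ?_) ?_
      · exact (hi' ▸ mem_top (⟨x, hx⟩ : (P : Subgroup G)) :
          (⟨x, hx⟩ : (P : Subgroup G)) ∈ stabilizer (P : Subgroup G) Q)
      · rw [P.card_eq_multiplicity, Q.card_eq_multiplicity]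
    · exact ⟨by rw [hi', pow_one], by rw [← hidx, hi', pow_one]⟩
    · exfalso
      have h1 : Nat.card (orbit (P : Subgroup G) Q) ≤ 35 := hn ▸
        Nat.card_le_card_of_injective _ Subtype.val_injective
      rw [← hidx, hi'] at h1
      have : 17 ^ 2 ≤ 17 ^ (i + 1 + 1) := Nat.pow_le_pow_right (by norm_num) (by omega)
      omega
  obtain ⟨A, hA⟩ : ∃ Q : Sylow 17 G, Q ≠ P := by
    by_contra h
    push Not at h
    haveI : Subsingleton (Sylow 17 G) := ⟨fun a b => (h a).trans (h b).symm⟩
    rw [Nat.card_of_subsingleton P] at hn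
    norm_num at hn
  set OA : Finset (Sylow 17 G) := Finset.univ.filter fun Q => Q ∈ orbit (P : Subgroup G) A
  have hOA : ∀ Q, Q ∈ OA ↔ Q ∈ orbit (P : Subgroup G) A := fun Q => by simp [OA]
  have hcardOA : OA.card = 17 := by
    refine Eq.trans ?_ (horb A hA).2
    rw [Nat.card_eq_fintype_card]
    exact (Fintype.card_ofFinset OA hOA).symm.trans (Fintype.card_congr (Equiv.setCongr (by ext; simp)))
  have hPA : P ∉ orbit (P : Subgroup G) A := by
    rintro ⟨t, ht⟩
    refine hA ?_
    have h1 : (t : G) • A = P := ht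
    exact smul_left_cancel (t : G) (h1.trans (hfixP t t.2).symm)
  obtain ⟨B, hB⟩ : ∃ Q, Q ∉ insert P OA := by
    by_contra h
    push Not at h
    have h1 : (Finset.univ : Finset (Sylow 17 G)) ⊆ insert P OA := fun Q _ => h Q
    have h2 := (Finset.card_le_card h1).trans (Finset.card_insert_le _ _)
    rw [Finset.card_univ, ← Nat.card_eq_fintype_card, hn, hcardOA] at h2
    norm_num at h2
  rw [Finset.mem_insert, not_or, hOA] at hB
  obtain ⟨hBP, hBA⟩ := hB
  set OB : Finset (Sylow 17 G) := Finset.univ.filter fun Q => Q ∈ orbit (P : Subgroup G) B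
  have hOB : ∀ Q, Q ∈ OB ↔ Q ∈ orbit (P : Subgroup G) B := fun Q => by simp [OB]
  have hcardOB : OB.card = 17 := by
    refine Eq.trans ?_ (horb B hBP).2
    rw [Nat.card_eq_fintype_card]
    exact (Fintype.card_ofFinset OB hOB).symm.trans (Fintype.card_congr (Equiv.setCongr (by ext; simp)))
  have hPB : P ∉ orbit (P : Subgroup G) B := by
    rintro ⟨t, ht⟩
    refine hBP ?_
    have h1 : (t : G) • B = P := ht
    exact smul_left_cancel (t : G) (h1.trans (hfixP t t.2).symm)
  have hdisj : Disjoint OA OB := Finset.disjoint_left.2 fun Q h1 h2 => by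
    rw [hOA] at h1; rw [hOB] at h2
    exact hBA ((orbit_eq_iff.2 h1).symm.trans (orbit_eq_iff.2 h2) ▸ mem_orbit_self B)
  have hcover : ∀ Q : Sylow 17 G, Q = P ∨ Q ∈ orbit (P : Subgroup G) A ∨
      Q ∈ orbit (P : Subgroup G) B := by
    intro Q
    have h1 : (insert P (OA ∪ OB)).card = 35 := by
      rw [Finset.card_insert_of_notMem, Finset.card_union_of_disjoint hdisj, hcardOA, hcardOB]
      simp [OA, OB, hPA, hPB]
    have h2 : insert P (OA ∪ OB) = Finset.univ :=
      Finset.eq_univ_of_card _ (by rw [h1, ← Nat.card_eq_fintype_card, hn])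
    have := h2.ge (Finset.mem_univ Q)
    simpa [OA, OB] using this
  -- abelian
  have hPle : n ≤ 2 := by
    set φ : (P : Subgroup G) →* ((P : Subgroup G) ⧸ (stabilizer (P : Subgroup G) A).normalCore) ×
        ((P : Subgroup G) ⧸ (stabilizer (P : Subgroup G) B).normalCore) :=
      (QuotientGroup.mk' _).prod (QuotientGroup.mk' _)
    have hn17 : ∀ Q : Sylow 17 G, Q ≠ P → (stabilizer (P : Subgroup G) Q).Normal := fun Q hQ =>
      PGroup.normal_of_index_eq P.2 (horb Q hQ).1
    haveI := hn17 A hA
    haveI := hn17 B hBP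
    have hinj' : Function.Injective φ := by
      rw [← MonoidHom.ker_eq_bot_iff, Subgroup.eq_bot_iff_forall]
      intro t ht
      have ht1 : t ∈ stabilizer (P : Subgroup G) A := by
        have := (QuotientGroup.eq_one_iff t).1 (congrArg Prod.fst ht)
        rwa [normalCore_eq_self] at this
      have ht2 : t ∈ stabilizer (P : Subgroup G) B := by
        have := (QuotientGroup.eq_one_iff t).1 (congrArg Prod.snd ht)
        rwa [normalCore_eq_self] at this
      refine Subtype.ext (hfaith _ fun Q => ?_)
      rcases hcover Q with rfl | ⟨u, rfl⟩ | ⟨u, rfl⟩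
      · exact hfixP _ t.2
      · have := ‹(stabilizer (P : Subgroup G) A).Normal›.conj_mem t ht1 u⁻¹
        rw [inv_inv, mem_stabilizer_iff, mul_smul, mul_smul, inv_smul_eq_iff] at this
        exact this
      · have := ‹(stabilizer (P : Subgroup G) B).Normal›.conj_mem t ht2 u⁻¹
        rw [inv_inv, mem_stabilizer_iff, mul_smul, mul_smul, inv_smul_eq_iff] at this
        exact this
    have h1 := Nat.card_le_card_of_injective φ hinj'
    rw [Nat.card_prod, ← index_eq_card, ← index_eq_card, normalCore_eq_self, normalCore_eq_self,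
      (horb A hA).1, (horb B hBP).1, hPn] at h1
    exact (Nat.pow_le_pow_iff_right (by norm_num : 1 < 17)).1 (h1.trans (by norm_num : 17 * 17 ≤ 17 ^ 2))
  have hPc : ∀ x ∈ (P : Subgroup G), ∀ y ∈ (P : Subgroup G), x * y = y * x := by
    have hc : ∀ a b : (P : Subgroup G), a * b = b * a := by
      interval_cases n
      · intro a b
        have := (Nat.card_eq_one_iff_unique.1 (hPn.trans (pow_zero 17))).1
        exact Subsingleton.elim _ _
      · haveI := isCyclic_of_prime_card (hPn.trans (pow_one 17))
        intro a b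
        exact (IsCyclic.commGroup : CommGroup (P : Subgroup G)).mul_comm a b
      · exact IsPGroup.commutative_of_card_eq_prime_sq hPn
    exact fun x hx y hy => congrArg Subtype.val (hc ⟨x, hx⟩ ⟨y, hy⟩)
  have hStN : ∀ Q : Sylow 17 G, (stabilizer (P : Subgroup G) Q).Normal := fun Q =>
    ⟨fun x hx g => by
      have : g * x * g⁻¹ = x := Subtype.ext (by
        show (g : G) * x * (g : G)⁻¹ = x
        rw [hPc g g.2 x x.2, mul_inv_cancel_right])
      rwa [this]⟩
  have hNsmul : ∀ g ∈ normalizer ((P : Subgroup G) : Set G), ∀ (Q : Sylow 17 G),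
      ∀ R ∈ orbit (P : Subgroup G) Q, g • R ∈ orbit (P : Subgroup G) (g • Q) := by
    rintro g hg Q _ ⟨t, rfl⟩
    refine ⟨⟨g * t * g⁻¹, (mem_normalizer_iff.1 hg _).1 t.2⟩, ?_⟩
    show (g * t * g⁻¹) • g • Q = g • ((t : G) • Q)
    rw [← mul_smul, inv_mul_cancel_right, mul_smul]
  have hNP : ∀ g ∈ normalizer ((P : Subgroup G) : Set G), g • P = P := fun g hg =>
    SmallSimple.smul_sylow_eq_iff.2 hg
  have hgne : ∀ g ∈ normalizer ((P : Subgroup G) : Set G), ∀ Q, Q ≠ P → g • Q ≠ P := by
    intro g hg Q hQ h
    rw [← hNP g hg] at h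
    exact hQ (smul_left_cancel _ h)
  -- elements of odd order prime to 17 in the normalizer are trivial
  have hodd : ∀ g ∈ normalizer ((P : Subgroup G) : Set G), ∀ m : ℕ, g ^ m = 1 → Odd m →
      Nat.Coprime m 17 → g = 1 := by
    intro g hg m hm hm2 hm17
    have hm16 : Nat.Coprime m 16 := by
      rw [show (16 : ℕ) = 2 ^ 4 by norm_num]
      exact (Nat.coprime_two_right.2 hm2).pow_right 4
    have key : ∀ Q : Sylow 17 G, Q ≠ P → g • Q ∈ orbit (P : Subgroup G) Q → g • Q = Q := by
      intro Q hQ hmem
      haveI := hStN Q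
      have hstab : ∀ t ∈ (P : Subgroup G), t • Q = Q → (g * t * g⁻¹) • Q = Q := by
        intro t ht htQ
        obtain ⟨u, hu⟩ := hmem
        change (u : G) • Q = g • Q at hu
        have hgt : g * t * g⁻¹ ∈ (P : Subgroup G) := (mem_normalizer_iff.1 hg t).1 ht
        have h1 : (g * t * g⁻¹) • ((u : G) • Q) = (u : G) • Q := by
          rw [hu, ← mul_smul, inv_mul_cancel_right, mul_smul, htQ]
        rw [← mul_smul, hPc _ hgt u u.2, mul_smul] at h1
        exact smul_left_cancel _ h1
      have hcomm := commutator_fix_of_odd (horb Q hQ).1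
        (fun t ht => (mem_normalizer_iff.1 hg t).1 ht) hstab hm hm16
      exact fix_of_translation (horb Q hQ).1 hcomm (fun t ht => (mem_normalizer_iff.1 hg t).1 ht)
        hm hm17 hmem Q (mem_orbit_self Q)
    have hpres : ∀ Q : Sylow 17 G, Q ≠ P → g • Q ∈ orbit (P : Subgroup G) Q := by
      intro Q hQ
      by_contra hne
      have hiter : ∀ k : ℕ, (Even k → g ^ k • Q ∈ orbit (P : Subgroup G) Q) ∧
          (Odd k → g ^ k • Q ∈ orbit (P : Subgroup G) (g • Q)) := by
        intro k
        induction k with
        | zero => exact ⟨fun _ => by simp [mem_orbit_self], fun h => absurd h (by simp)⟩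
        | succ k ih =>
          refine ⟨fun h => ?_, fun h => ?_⟩
          · have hk : Odd k := by
              rcases Nat.even_or_odd k with h' | h'
              · exact absurd h'.add_one (Nat.not_odd_iff_even.2 h)
              · exact h'
            have h1 := hNsmul g hg _ _ (ih.2 hk)
            rw [← mul_smul g (g ^ k), ← pow_succ'] at h1
            have h2 : g • g • Q ∈ orbit (P : Subgroup G) Q := by
              rcases hcover Q with h' | h' | h'
              · exact absurd h' hQ
              all_goals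
                rcases hcover (g • g • Q) with h'' | h'' | h''
                · exact absurd h'' (hgne g hg _ (hgne g hg _ hQ))
                all_goals
                  first
                    | (rw [orbit_eq_iff.2 h']; exact h'')
                    | (exfalso
                       have h4 : g • g • Q ∈ orbit (P : Subgroup G) (g • Q) := by
                         rcases hcover (g • Q) with e | e | e
                         · exact absurd e (hgne g hg _ hQ)
                         all_goals
                           first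
                             | (rw [orbit_eq_iff.2 e]; exact h'')
                             | (exact absurd (by rw [orbit_eq_iff.2 h']; exact e) hne)
                       have h5 := hNsmul g⁻¹ (inv_mem hg) _ _ h4
                       rw [inv_smul_smul, inv_smul_smul] at h5
                       exact hne h5)
            exact orbit_eq_iff.2 h2 ▸ h1
          · have hk : Even k := by
              rcases Nat.even_or_odd k with h' | h'
              · exact h'
              · exact absurd h'.add_one (Nat.not_even_iff_odd.2 h)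
            have h1 := hNsmul g hg _ _ (ih.1 hk)
            rwa [← mul_smul, ← pow_succ'] at h1
      have := (hiter m).2 hm2
      rw [hm, one_smul] at this
      exact hne (orbit_eq_iff.2 this ▸ mem_orbit_self (g • Q))
    refine hfaith g fun Q => ?_
    rcases eq_or_ne Q P with rfl | hQ
    · exact hNP g hg
    · exact key Q hQ (hpres Q hQ)
  -- the order of the group
  have hG35 : Nat.card G = 35 * Nat.card (normalizer ((P : Subgroup G) : Set G)) := by
    rw [← P.card_eq_index_normalizer.symm.trans hn]
    exact (index_mul_card _).symm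
  have hprimes : ∀ q : ℕ, q.Prime → q ∣ Nat.card (normalizer ((P : Subgroup G) : Set G)) →
      q = 2 ∨ q = 17 := by
    intro q hq hqd
    by_contra hne
    push Not at hne
    haveI := Fact.mk hq
    obtain ⟨g, hg⟩ := exists_prime_orderOf_dvd_card' q hqd
    rw [← Subgroup.orderOf_coe] at hg
    have h1 := hodd g g.2 q (hg ▸ pow_orderOf_eq_one _) (hq.odd_of_ne_two hne.1)
      ((Nat.coprime_primes hq hp.out).2 hne.2)
    rw [h1, orderOf_one] at hg
    exact hq.ne_one hg.symm
  have h3 : ¬ 3 ∣ Nat.card G := by
    rw [hG35, Nat.prime_three.dvd_mul]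
    rintro (h | h)
    · norm_num at h
    · rcases hprimes 3 Nat.prime_three h with h' | h' <;> norm_num at h'
  -- `P` has order 17
  have hP17 : Nat.card (P : Subgroup G) = 17 := by
    have hn0 : n ≠ 0 := fun h0 => by
      have h1 : (P : Subgroup G) = ⊥ := card_eq_one.1 (by rw [hPn, h0, pow_zero])
      have h2 := (horb A hA).1
      rw [show (stabilizer (P : Subgroup G) A) = ⊤ from eq_top_iff.2 fun x _ => by
        have : (x : G) = 1 := by simpa [h1] using x.2
        rw [mem_stabilizer_iff]; show (x : G) • A = A; rw [this, one_smul], index_top] at h2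
      norm_num at h2
    by_contra hne
    have hn2 : n = 2 := by
      rcases Nat.lt_or_ge n 2 with h | h
      · exfalso; apply hne; rw [hPn, show n = 1 by omega, pow_one]
      · omega
    -- an element fixing one orbit pointwise
    have hS1 : stabilizer (P : Subgroup G) A ≠ ⊥ := fun h => by
      have := (horb A hA).1
      rw [h, index_bot, hPn, hn2] at this
      norm_num at this
    obtain ⟨⟨x, hxP⟩, hxA, hx1⟩ := (Subgroup.bot_or_exists_ne_one _).resolve_left hS1
    rw [mem_stabilizer_iff] at hxA
    change x • A = A at hxA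
    have hxfixA : ∀ Q ∈ orbit (P : Subgroup G) A, x • Q = Q := by
      rintro _ ⟨t, rfl⟩
      show x • (t : G) • A = (t : G) • A
      rw [← mul_smul, hPc x hxP t t.2, mul_smul, hxA]
    have hxB : ∀ Q ∈ orbit (P : Subgroup G) B, x • Q ≠ Q := by
      rintro _ ⟨t, rfl⟩ hfx
      apply hx1
      refine Subtype.ext (hfaith x fun Q => ?_)
      rcases hcover Q with rfl | h | ⟨u, rfl⟩
      · exact hfixP x hxP
      · exact hxfixA Q h
      · change x • (u : G) • B = (u : G) • B
        change x • (t : G) • B = (t : G) • B at hfx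
        rw [← mul_smul, hPc x hxP t t.2, mul_smul] at hfx
        rw [← mul_smul, hPc x hxP u u.2, mul_smul, smul_left_cancel _ hfx]
    have hcard18 : Nat.card {Q : Sylow 17 G // x ∈ Q} = 18 := by
      rw [Nat.card_eq_fintype_card, Fintype.card_subtype]
      have : (Finset.univ.filter fun Q : Sylow 17 G => x ∈ Q) = insert P OA := by
        ext Q
        rw [Finset.mem_filter, Finset.mem_insert, hOA]
        constructor
        · rintro ⟨-, hxQ⟩
          rcases hcover Q with h | h | h
          · exact Or.inl h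
          · exact Or.inr h
          · exact absurd (SmallSimple.smul_sylow_eq_iff.2 (le_normalizer hxQ)) (hxB Q h)
        · rintro (rfl | h)
          · exact ⟨Finset.mem_univ _, hxP⟩
          · exact ⟨Finset.mem_univ _, hmemP x Q hxP (hxfixA Q h)⟩
      rw [this, Finset.card_insert_of_notMem (by simp [OA, hPA]), hcardOA]
    set C := centralizer ({x} : Set G) with hC
    have hQC : ∀ Q : Sylow 17 G, x ∈ Q → (Q : Subgroup G) ≤ C := by
      intro Q hxQ y hy
      obtain ⟨g, rfl⟩ := MulAction.exists_smul_eq G P Q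
      rw [Sylow.coe_subgroup_smul, mem_smul_pointwise_iff_exists] at hy
      have hxQ' : x ∈ ((g • P : Sylow 17 G) : Subgroup G) := hxQ
      rw [Sylow.coe_subgroup_smul, mem_smul_pointwise_iff_exists] at hxQ'
      obtain ⟨y', hy', rfl⟩ := hy
      obtain ⟨x', hx', rfl⟩ := hxQ'
      rw [mem_centralizer_singleton_iff, ← smul_mul', ← smul_mul', hPc y' hy' x' hx']
    have hn18 : Nat.card (Sylow 17 C) = 18 := by
      rw [← hcard18]
      refine (Nat.card_eq_of_bijective
        (fun Q : {Q : Sylow 17 G // x ∈ Q} => (Q.1.subtype (hQC Q.1 Q.2) : Sylow 17 C))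
        ⟨fun a b hab => Subtype.ext (Sylow.subtype_injective hab), fun R => ?_⟩).symm
      obtain ⟨c, hc⟩ := MulAction.exists_smul_eq C (P.subtype (hQC P hxP)) R
      rw [Sylow.smul_subtype] at hc
      refine ⟨⟨c • P, ?_⟩, hc⟩
      show x ∈ ((((c : G)) • P : Sylow 17 G) : Subgroup G)
      rw [Sylow.coe_subgroup_smul, mem_smul_pointwise_iff_exists]
      refine ⟨x, hxP, ?_⟩
      show (c : G) * x * (c : G)⁻¹ = x
      rw [mem_centralizer_singleton_iff.1 c.2, mul_inv_cancel_right]
    apply h3
    have h9 : 18 ∣ Nat.card C := by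
      rw [← hn18]
      obtain ⟨R⟩ : Nonempty (Sylow 17 C) := inferInstance
      exact R.card_dvd_index.trans (index_dvd_card _)
    exact ((by norm_num : 3 ∣ 18).trans h9).trans C.card_subgroup_dvd_card
  -- the centralizer of `P`
  have hcent : ∀ g ∈ centralizer ((P : Subgroup G) : Set G), orderOf g = 2 → False := by
    intro g hg hg2
    have hgN : g ∈ normalizer ((P : Subgroup G) : Set G) := centralizer_le_normalizer _ hg
    have hcm : ∀ t ∈ (P : Subgroup G), g * t * g⁻¹ = t := fun t ht => by
      rw [← mem_centralizer_iff.1 hg t ht, mul_inv_cancel_right]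
    have hmove : ∀ Q : Sylow 17 G, Q ≠ P → g • Q = Q ∨ g • Q ∉ orbit (P : Subgroup G) Q := by
      intro Q hQ
      by_cases hmem : g • Q ∈ orbit (P : Subgroup G) Q
      · haveI := hStN Q
        exact Or.inl (fix_of_translation (horb Q hQ).1
          (fun t ht => by rw [hcm t ht, mul_inv_cancel, one_smul])
          (fun t ht => by rw [hcm t ht]; exact ht) (hg2 ▸ pow_orderOf_eq_one g) (by norm_num) hmem
          Q (mem_orbit_self Q))
      · exact Or.inr hmem
    have hgg : ∀ Q : Sylow 17 G, g • g • Q = Q := fun Q => by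
      rw [← mul_smul, ← sq, ← hg2, pow_orderOf_eq_one, one_smul]
    have hcommOrb : ∀ Q : Sylow 17 G, g • Q = Q → ∀ R ∈ orbit (P : Subgroup G) Q, g • R = R := by
      rintro Q hQ _ ⟨t, rfl⟩
      show g • (t : G) • Q = (t : G) • Q
      rw [← mul_smul, ← mem_centralizer_iff.1 hg t t.2, mul_smul, hQ]
    have hsupp : (f g).support = OA ∪ OB ∨ ∀ Q : Sylow 17 G, g • Q = Q := by
      rcases hmove A hA with hAfix | hAmove
      · right
        intro Q
        rcases hcover Q with rfl | h | h
        · exact hNP g hgN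
        · exact hcommOrb A hAfix Q h
        · rcases hmove B hBP with hBfix | hBmove
          · exact hcommOrb B hBfix Q h
          · exfalso
            rcases hcover (g • B) with e | e | e
            · exact hgne g hgN B hBP e
            · have h1 := hcommOrb A hAfix _ e
              rw [hgg] at h1
              exact hBA (h1 ▸ e)
            · exact hBmove e
      · left
        ext Q
        rw [Equiv.Perm.mem_support, Finset.mem_union, hOA, hOB]
        show g • Q ≠ Q ↔ _
        constructor
        · intro h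
          rcases hcover Q with rfl | h' | h'
          · exact absurd (hNP g hgN) h
          · exact Or.inl h'
          · exact Or.inr h'
        · rintro (h | h) hfx
          · refine hAmove ?_
            have h1 := hcommOrb Q hfx A (orbit_eq_iff.2 h ▸ mem_orbit_self A)
            rw [h1]; exact mem_orbit_self A
          · have hgA : g • A ∈ orbit (P : Subgroup G) B := by
              rcases hcover (g • A) with e | e | e
              · exact absurd e (hgne g hgN A hA)
              · exact absurd e hAmove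
              · exact e
            have h1 := hcommOrb Q hfx (g • A) (orbit_eq_iff.2 h ▸ hgA)
            rw [hgg] at h1
            exact hAmove (h1 ▸ mem_orbit_self A)
    rcases hsupp with hsupp | hall
    · have h1 : (f g) ^ 2 = 1 := by rw [← map_pow, ← hg2, pow_orderOf_eq_one, map_one]
      have hsign := halt g
      rw [Equiv.Perm.sign_of_cycleType] at hsign
      have hct : ∀ i ∈ (f g).cycleType, i = 2 := fun i hi => by
        have h2 := (Equiv.Perm.dvd_of_mem_cycleType hi).trans (orderOf_dvd_of_pow_eq_one h1)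
        have h3 := Equiv.Perm.two_le_of_mem_cycleType hi
        exact le_antisymm (Nat.le_of_dvd two_pos h2) h3
      have hsum := Equiv.Perm.sum_cycleType (f g)
      rw [hsupp, Finset.card_union_of_disjoint hdisj, hcardOA, hcardOB] at hsum
      rw [Multiset.eq_replicate_card.2 hct, Multiset.sum_replicate] at hsum
      have hc17 : Multiset.card (f g).cycleType = 17 := by rw [smul_eq_mul] at hsum; omega
      rw [Equiv.Perm.sum_cycleType, hsupp, Finset.card_union_of_disjoint hdisj, hcardOA,
        hcardOB, hc17] at hsign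
      exact absurd hsign (by decide)
    · rw [hfaith g hall, orderOf_one] at hg2
      norm_num at hg2
  have hCP : centralizer ((P : Subgroup G) : Set G) = (P : Subgroup G) := by
    have hle : (P : Subgroup G) ≤ centralizer ((P : Subgroup G) : Set G) := fun x hx =>
      mem_centralizer_iff.2 fun y hy => hPc y hy x hx
    refine (eq_of_le_of_card_ge hle ?_).symm
    obtain ⟨c, hc⟩ := card_dvd_of_le hle
    rcases eq_or_ne c 1 with rfl | hc1
    · rw [hc, mul_one]
    exfalso
    obtain ⟨q, hq, hqc⟩ := Nat.exists_prime_and_dvd hc1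
    haveI := Fact.mk hq
    have hqC : q ∣ Nat.card (centralizer ((P : Subgroup G) : Set G)) := hc ▸ hqc.mul_left _
    rcases hprimes q hq (hqC.trans (card_dvd_of_le (centralizer_le_normalizer _))) with rfl | rfl
    · obtain ⟨g, hg⟩ := exists_prime_orderOf_dvd_card' 2 hqC
      exact hcent g g.2 (by rw [Subgroup.orderOf_coe, hg])
    · apply P.not_dvd_index
      have h1 : (P : Subgroup G).relIndex (centralizer ((P : Subgroup G) : Set G)) = c := by
        have h2 := relIndex_mul_relIndex (H := (⊥ : Subgroup G)) (K := (P : Subgroup G))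
          (L := centralizer ((P : Subgroup G) : Set G)) bot_le hle
        rw [relIndex_bot_left, relIndex_bot_left, hc] at h2
        exact Nat.eq_of_mul_eq_mul_left Nat.card_pos h2
      exact hqc.trans (h1 ▸ relIndex_dvd_index_of_le hle)
  -- the normalizer modulo `P` is cyclic of 2-power order
  set N := normalizer ((P : Subgroup G) : Set G) with hNdef
  set ρ : N →* MulAut (P : Subgroup G) := (P : Subgroup G).normalizerMonoidHom
  haveI hPcyc : IsCyclic (P : Subgroup G) := isCyclic_of_prime_card hP17
  haveI : IsCyclic (MulAut (P : Subgroup G)) := by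
    haveI : Fact (Nat.card (P : Subgroup G)).Prime := ⟨by rw [hP17]; norm_num⟩
    exact isCyclic_of_surjective
      (IsCyclic.mulAutMulEquiv (P : Subgroup G)).symm.toMonoidHom (MulEquiv.surjective _)
  obtain ⟨T⟩ : Nonempty (Sylow 2 N) := inferInstance
  have hTinj : Function.Injective (ρ.comp (T : Subgroup N).subtype) := by
    rw [← MonoidHom.ker_eq_bot_iff, Subgroup.eq_bot_iff_forall]
    intro t ht
    have ht' : ((t : N) : G) ∈ centralizer ((P : Subgroup G) : Set G) := by
      rw [mem_centralizer_iff]
      intro y hy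
      have h1 := congrArg Subtype.val (DFunLike.congr_fun ht (⟨y, hy⟩ : (P : Subgroup G)))
      have h2 : ((t : N) : G) * y * ((t : N) : G)⁻¹ = y := h1
      exact (mul_inv_eq_iff_eq_mul.1 h2).symm
    rw [hCP] at ht'
    obtain ⟨i, hi⟩ := T.2.exists_card_eq (G := (T : Subgroup N))
    have h1 : orderOf ((t : N) : G) ∣ 2 ^ i := by
      rw [Subgroup.orderOf_coe, Subgroup.orderOf_coe, ← hi]
      exact _root_.orderOf_dvd_natCard t
    have h2 : orderOf ((t : N) : G) ∣ 17 := hP17 ▸ Subgroup.orderOf_dvd_natCard _ ht'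
    have h3 := orderOf_eq_one_iff.1 (Nat.eq_one_of_dvd_coprimes
      (Nat.Coprime.pow_left i (by norm_num : Nat.Coprime 2 17)) h1 h2)
    exact Subtype.ext (Subtype.ext h3)
  have hTcyc : IsCyclic (T : Subgroup N) := isCyclic_of_injective _ hTinj
  by_cases h2 : 2 ∣ Nat.card G
  · obtain ⟨T', hT'⟩ := ((T.2.map N.subtype)).exists_le_sylow
    have hTeq : (T : Subgroup N).map N.subtype = (T' : Subgroup G) := by
      refine eq_of_le_of_card_ge hT' ?_
      rw [card_map_of_injective N.subtype_injective, T.card_eq_multiplicity, T'.card_eq_multiplicity,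
        hG35, Nat.factorization_mul (by norm_num) Nat.card_pos.ne', Finsupp.add_apply,
        Nat.factorization_eq_zero_of_not_dvd (by norm_num : ¬ 2 ∣ 35), zero_add]
    haveI hT'cyc : IsCyclic (T' : Subgroup G) :=
      hTeq ▸ isCyclic_of_surjective ((T : Subgroup N).equivMapOfInjective N.subtype
        N.subtype_injective).toMonoidHom (MulEquiv.surjective _)
    refine SmallSimple.not_hasNormalPComplement hG h2
      (Transfer.hasNormalPComplement_of_normalizer_le_centralizer T' ?_)
    exact IsCyclic.normalizer_le_centralizer ((Nat.minFac_eq_two_iff _).2 h2) hT'cyc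
  · refine SmallSimple.not_hasNormalPComplement hG
      ((dvd_of_eq hP17.symm).trans (card_subgroup_dvd_card _))
      (Transfer.hasNormalPComplement_of_normalizer_le_centralizer P ?_)
    have hk : (P : Subgroup G).relIndex N = 1 := by
      by_contra hne
      obtain ⟨q, hq, hqd⟩ := Nat.exists_prime_and_dvd hne
      have hqN : q ∣ Nat.card N := hqd.trans (index_dvd_card _)
      rcases hprimes q hq hqN with rfl | rfl
      · exact h2 (hqN.trans (card_subgroup_dvd_card _))
      · exact P.not_dvd_index (hqd.trans (relIndex_dvd_index_of_le le_normalizer))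
    intro g hg
    exact hCP.ge (relIndex_eq_one.1 hk hg)


/-- No finite group has exactly 35 Sylow 17-subgroups. -/
theorem result {G : Type*} [Group G] [Finite G] : Nat.card (Sylow 17 G) ≠ 35 := by
  intro hn
  haveI : Fact (Nat.Prime 17) := ⟨by norm_num⟩
  obtain ⟨l, hl, hl'⟩ := Cfsg.Agent.SylowCount.exists_sylow_factorisation (G := G) 17
  rw [hn] at hl
  have h1 : ∀ m ∈ l, m = 1 := by
    intro m hm
    have hdvd : m ∣ 35 := hl ▸ List.dvd_prod hm
    have hle := Nat.le_of_dvd (by norm_num) hdvd
    rcases hl' m hm with ⟨hpp, hmod⟩ | ⟨S, _, _, hS, rfl⟩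
    · have h35 : ¬ IsPrimePow 35 := fun h => by
        obtain ⟨q, k, hq, -, hqk⟩ := (isPrimePow_nat_iff 35).1 h
        have h5 := (Nat.prime_dvd_prime_iff_eq (by norm_num : Nat.Prime 5) hq).1
          ((by norm_num : Nat.Prime 5).dvd_of_dvd_pow (hqk ▸ (by norm_num : 5 ∣ 35)))
        have h7 := (Nat.prime_dvd_prime_iff_eq (by norm_num : Nat.Prime 7) hq).1
          ((by norm_num : Nat.Prime 7).dvd_of_dvd_pow (hqk ▸ (by norm_num : 7 ∣ 35)))
        omega
      rcases eq_or_ne m 35 with rfl | hne
      · exact absurd hpp h35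
      · clear hpp
        interval_cases m <;> revert hdvd hmod hne <;> decide
    · have hmod := card_sylow_modEq_one 17 S
      have hne := @no_simple S _ _ hS
      generalize Nat.card (Sylow 17 S) = m at hdvd hle hmod hne
      interval_cases m <;> revert hdvd hmod hne <;> decide
  rw [List.prod_eq_one h1] at hl
  norm_num at hl

end Cfsg.Agent.S4236
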