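import Cfsg.Statements.S4237
import Cfsg.Agent.Lib.PGroup.KulakoffSylow
-- import your own Cfsg.Agent.* helpers here

set_option autoImplicit false
open Cfsg

namespace Cfsg.Agent.S4237

/-- Let G be a finite group, p a prime and a a natural number such that p^(a+1) divides the order of G. Then the number of subgroups of G of order p^a is congruent to 1 or to 1 + p modulo p². -/
theorem result {G : Type*} [Group G] [Finite G] (p a : ℕ) (hp : p.Prime) (hdvd : p ^ (a + 1) ∣ Nat.card G) :
    Nat.card {H : Subgroup G // Nat.card H = p ^ a} ≡ 1 [MOD p ^ 2] ∨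
      Nat.card {H : Subgroup G // Nat.card H = p ^ a} ≡ 1 + p [MOD p ^ 2] := by
  classical
  have : Fact p.Prime := ⟨hp⟩
  rw [← ZMod.natCast_eq_natCast_iff, ← ZMod.natCast_eq_natCast_iff]
  obtain ⟨P⟩ : Nonempty (Sylow p G) := inferInstance
  set n := (Nat.card G).factorization p with hn
  have hP : Nat.card ↥(P : Subgroup G) = p ^ n := P.card_eq_multiplicity
  have han : a < n := (hp.pow_dvd_iff_le_factorization Nat.card_pos.ne').mp hdvd
  have := Fintype.ofFinite (Subgroup G)
  have hsplit : Nat.card {H : Subgroup G // Nat.card ↥H = p ^ a} =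
      Nat.card {H : Subgroup G // Nat.card ↥H = p ^ a ∧ H ≤ (P : Subgroup G)} +
        Nat.card {H : Subgroup G // Nat.card ↥H = p ^ a ∧ ¬ H ≤ (P : Subgroup G)} := by
    rw [Nat.card_eq_fintype_card, Fintype.card_subtype, Nat.card_eq_fintype_card, Fintype.card_subtype,
      Nat.card_eq_fintype_card, Fintype.card_subtype,
      ← Finset.card_filter_add_card_filter_not
        (s := Finset.univ.filter (fun H : Subgroup G => Nat.card ↥H = p ^ a))
        (fun H => H ≤ (P : Subgroup G)), Finset.filter_filter, Finset.filter_filter]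
  rw [hsplit, Nat.cast_add, Cfsg.Agent.PGroup.card_not_le_sylow P hP han, add_zero,
    Cfsg.Agent.PGroup.numSub_subgroup]
  rcases Nat.eq_zero_or_pos a with ha | ha
  · left
    subst ha
    congr 1
    have : Unique {H : Subgroup ↥(P : Subgroup G) // Nat.card ↥H = p ^ 0} :=
      { default := ⟨⊥, by simp⟩
        uniq := fun H => Subtype.ext (Subgroup.eq_bot_of_card_eq _ (by rw [H.2, pow_zero])) }
    exact Nat.card_unique
  rw [Cfsg.Agent.PGroup.numSub_zmod n ↥(P : Subgroup G) hP a ha han]
  split_ifs
  · left; simp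
  · right; push_cast; ring

end Cfsg.Agent.S4237
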