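import Cfsg.Statements.S4238
import Mathlib
import Cfsg.Agent.Lib.Transfer.Frobenius

set_option autoImplicit false
open Cfsg
open scoped Pointwise commutatorElement

namespace Cfsg.Agent.S4238

section helpers

theorem exists_max_order {K : Type*} [Group K] [Finite K] {p : ℕ} [Fact p.Prime] (h : IsPGroup p K) :
    ∃ k : K, orderOf k = Monoid.exponent K := by
  obtain ⟨k, hk⟩ := Finite.exists_max (fun x : K => orderOf x)
  refine ⟨k, Nat.dvd_antisymm (Monoid.order_dvd_exponent k) ?_⟩
  rw [Monoid.exponent_dvd_iff_forall_pow_eq_one]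
  intro x
  obtain ⟨i, hi⟩ := IsPGroup.iff_orderOf.1 h x
  obtain ⟨j, hj⟩ := IsPGroup.iff_orderOf.1 h k
  apply orderOf_dvd_iff_pow_eq_one.1
  rw [hi, hj]
  exact Nat.pow_dvd_pow p ((Nat.pow_le_pow_iff_right (Fact.out (p := p.Prime)).one_lt).1 (hi ▸ hj ▸ hk x))

theorem isPGroup_of_nilp {K : Type*} [Group K] [Finite K] {p : ℕ} [Fact p.Prime]
    (h : Cfsg.HasNormalPComplement p K) (h1 : Cfsg.pPrimeCore p K = ⊥) : IsPGroup p K := by
  have hle : Cfsg.pResidual p K ≤ Cfsg.pPrimeCore p K :=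
    le_sSup ⟨Transfer.pResidual_normal p,
      ((Fact.out (p := p.Prime)).coprime_iff_not_dvd.2 (Transfer.hasNormalPComplement_iff.1 h)).symm⟩
  obtain ⟨n, hn⟩ := Transfer.index_pResidual_eq_pow (G := K) p
  rw [h1, le_bot_iff] at hle
  rw [hle, Subgroup.index_bot] at hn
  exact IsPGroup.of_card hn

/-- stability: `g` fixing `c = g u g⁻¹ u⁻¹` forces `c = 1` for coprime orders -/
theorem stable {G : Type*} [Group G] {g u c : G} (hgu : g * u * g⁻¹ = c * u) (hgc : g * c = c * g)
    (hcop : (orderOf g).Coprime (orderOf c)) : c = 1 := by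
  have key : ∀ m : ℕ, g ^ m * u * (g ^ m)⁻¹ = c ^ m * u := by
    intro m
    induction m with
    | zero => simp
    | succ m ih =>
      calc g ^ (m + 1) * u * (g ^ (m + 1))⁻¹ = g * (g ^ m * u * (g ^ m)⁻¹) * g⁻¹ := by
            rw [pow_succ']; group
        _ = g * (c ^ m * u) * g⁻¹ := by rw [ih]
        _ = (g * c ^ m * g⁻¹) * (g * u * g⁻¹) := by group
        _ = c ^ m * (c * u) := by rw [(show Commute g c from hgc).pow_right m, mul_inv_cancel_right, hgu]
        _ = c ^ (m + 1) * u := by rw [pow_succ, mul_assoc]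
  have := key (orderOf g)
  rw [pow_orderOf_eq_one] at this
  simp only [one_mul, inv_one, mul_one] at this
  have h1 : c ^ orderOf g = 1 := mul_right_cancel (this.symm.trans (one_mul u).symm)
  exact orderOf_eq_one_iff.1 (Nat.Coprime.eq_one_of_dvd hcop.symm (orderOf_dvd_of_pow_eq_one h1))

/-- a group `V⟨g⟩`, `g` of prime order acting without fixed points, is a bad section -/
theorem bad {K : Type*} [Group K] [Finite K] {p q : ℕ} [Fact p.Prime] (hq : q.Prime) (hqp : q ≠ p)
    (V : Subgroup K) [V.Normal] (hV : IsPGroup p V) (hVc : ∀ a ∈ V, ∀ b ∈ V, a * b = b * a)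
    (hVne : V ≠ ⊥) (g : K) (hgq : g ^ q = 1) (hgen : V ⊔ Subgroup.zpowers g = ⊤)
    (hfix : ∀ v ∈ V, g * v = v * g → v = 1) :
    Cfsg.pPrimeCore p K = ⊥ ∧ ¬ ∃ k : K, orderOf k = Monoid.exponent K := by
  have hp : p.Prime := Fact.out
  have hg1 : g ≠ 1 := fun h => hVne ((Subgroup.eq_bot_iff_forall V).2 fun v hv => hfix v hv (by rw [h, one_mul, mul_one]))
  have hgord : orderOf g = q := by
    have := Fact.mk hq
    exact orderOf_eq_prime hgq hg1
  -- an element outside V centralizing v ∈ V forces g to centralize it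
  have key : ∀ z : K, z ∉ V → ∀ v ∈ V, z * v = v * z → g * v = v * g := by
    intro z hz v hv hc
    obtain ⟨a, ha, b, hb, hab⟩ := Subgroup.mem_sup_of_normal_left.1 (hgen ▸ Subgroup.mem_top z)
    obtain ⟨i, rfl⟩ := Subgroup.mem_zpowers_iff.1 hb
    have hbv : Commute (g ^ i) v := by
      have hav : Commute a v := hVc a ha v hv
      have hzv : Commute z v := hc
      have e : g ^ i = a⁻¹ * z := by rw [← hab, inv_mul_cancel_left]
      rw [e]
      exact hav.inv_left.mul_left hzv
    have hiq : ¬ (q : ℤ) ∣ i := by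
      rintro ⟨j, rfl⟩
      rw [zpow_mul, zpow_natCast, hgq, one_zpow, mul_one] at hab
      exact hz (hab ▸ ha)
    obtain ⟨s, t, hst⟩ : IsCoprime i (q : ℤ) :=
      ((Nat.prime_iff_prime_int.1 hq).coprime_iff_not_dvd.2 hiq).symm
    have : g = (g ^ i) ^ s := by
      conv_lhs => rw [← zpow_one g, ← hst, zpow_add, mul_comm t, zpow_mul g (q : ℤ), zpow_natCast, hgq, one_zpow, mul_one, mul_comm, zpow_mul]
    rw [this]
    exact (hbv.zpow_left s).eq
  constructor
  · rw [eq_bot_iff]
    refine sSup_le ?_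
    rintro D ⟨hDn, hDp⟩ d hd
    rw [Subgroup.mem_bot]
    have hdisj : ∀ x ∈ D, x ∈ V → x = 1 := fun x hxD hxV => by
      obtain ⟨k, hk⟩ := hV ⟨x, hxV⟩
      have hk' : x ^ p ^ k = 1 := by simpa [Subtype.ext_iff] using hk
      exact orderOf_eq_one_iff.1 (Nat.Coprime.eq_one_of_dvd
        ((hDp.pow_right k).symm.coprime_dvd_left (orderOf_dvd_of_pow_eq_one hk')) (D.orderOf_dvd_natCard hxD))
    by_contra hd1
    obtain ⟨v, hv, hv1⟩ : ∃ v ∈ V, v ≠ 1 := by
      by_contra h
      push Not at h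
      exact hVne ((Subgroup.eq_bot_iff_forall V).2 h)
    refine hv1 (hfix v hv (key d (fun h => hd1 (hdisj d hd h)) v hv ?_))
    exact (Subgroup.commute_of_normal_of_disjoint D V hDn inferInstance
      (Subgroup.disjoint_def.2 fun {x} a b => hdisj x a b) d v hd hv).eq
  · rintro ⟨k, hk⟩
    obtain ⟨v, hv, hvp⟩ : ∃ v ∈ V, orderOf v = p := by
      rcases hV.card_eq_or_dvd with h | h
      · exact absurd (Subgroup.eq_bot_of_card_eq V h) hVne
      · obtain ⟨v, hv⟩ := exists_prime_orderOf_dvd_card' p h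
        exact ⟨v, v.2, by rw [Subgroup.orderOf_coe, hv]⟩
    have hpe : p ∣ orderOf k := hk ▸ hvp ▸ Monoid.order_dvd_exponent v
    have hqe : q ∣ orderOf k := hk ▸ hgord ▸ Monoid.order_dvd_exponent g
    have ho : 0 < orderOf k := orderOf_pos k
    set y := k ^ (orderOf k / p)
    set z := k ^ (orderOf k / q)
    have hy : orderOf y = p := orderOf_pow_orderOf_div ho.ne' hpe
    have hz : orderOf z = q := orderOf_pow_orderOf_div ho.ne' hqe
    have hyV : y ∈ V := by
      by_contra hyV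
      obtain ⟨a, ha, b, hb, hab⟩ := Subgroup.mem_sup_of_normal_left.1 (hgen ▸ Subgroup.mem_top y)
      obtain ⟨i, rfl⟩ := Subgroup.mem_zpowers_iff.1 hb
      have hb1 : (QuotientGroup.mk' V y) = (QuotientGroup.mk' V g) ^ i := by
        rw [← hab, map_mul, map_zpow, QuotientGroup.mk'_apply, QuotientGroup.mk'_apply,
          (QuotientGroup.eq_one_iff a).2 ha, one_mul]
      apply hyV
      rw [← QuotientGroup.eq_one_iff, ← orderOf_eq_one_iff]
      refine Nat.Coprime.eq_one_of_dvd ((Nat.coprime_primes hp hq).2 (Ne.symm hqp) |>.coprime_dvd_left ?_) ?_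
      · exact (orderOf_map_dvd (QuotientGroup.mk' V) y).trans hy.dvd
      · apply orderOf_dvd_of_pow_eq_one
        show (QuotientGroup.mk' V y) ^ q = 1
        rw [hb1, ← zpow_natCast, ← zpow_mul, mul_comm, zpow_mul, zpow_natCast, ← map_pow, hgq, map_one, one_zpow]
    have hzV : z ∉ V := by
      intro hzV
      obtain ⟨j, hj⟩ := hV ⟨z, hzV⟩
      have hj' : z ^ p ^ j = 1 := by simpa [Subtype.ext_iff] using hj
      have h1 : q ∣ p ^ j := hz ▸ orderOf_dvd_of_pow_eq_one hj'
      exact hqp ((Nat.prime_dvd_prime_iff_eq hq hp).1 (hq.dvd_of_dvd_pow h1))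
    have hy1 := hfix y hyV (key z hzV y hyV ((Commute.refl k).pow_pow _ _).eq)
    rw [hy1, orderOf_one] at hy
    exact hp.ne_one hy.symm

theorem nilp_of_sections {G : Type*} [Group G] [Finite G] (p : ℕ) [Fact p.Prime]
    (hsec : ∀ (H : Subgroup G) (N : Subgroup H) [N.Normal], Cfsg.pPrimeCore p (H ⧸ N) = ⊥ →
        ∃ k : H ⧸ N, orderOf k = Monoid.exponent (H ⧸ N)) : Cfsg.HasNormalPComplement p G := by
  classical
  let P : Sylow p G := default
  refine Transfer.hasNormalPComplement_of_centralizer P fun Q hQP g₀ hg₀ hco₀ => ?_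
  by_contra hbad
  -- a minimal pair
  let Bad : G → Subgroup G → Prop := fun g U => IsPGroup p U ∧ g ∈ Subgroup.normalizer (U : Set G) ∧
    (orderOf g).Coprime p ∧ g ∉ Subgroup.centralizer (U : Set G)
  obtain ⟨g, ⟨U₀, hU₀⟩, hgmin⟩ : ∃ g, (∃ U, Bad g U) ∧ ∀ g', (∃ U, Bad g' U) → orderOf g ≤ orderOf g' :=
    (Set.toFinite {g | ∃ U, Bad g U}).exists_minimalFor (fun g => orderOf g) _
      ⟨g₀, Q, P.isPGroup'.to_le hQP, hg₀, hco₀, hbad⟩ |>.imp fun g hg =>
        ⟨hg.1, fun g' hg' => (le_total (orderOf g) (orderOf g')).elim id fun h => hg.2 hg' h⟩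
  obtain ⟨U, hU, hUmin⟩ := wellFounded_lt.has_min {U : Subgroup G | Bad g U} ⟨U₀, hU₀⟩
  obtain ⟨hUp, hgN, hgp, hgC⟩ := hU
  have hg1 : g ≠ 1 := fun h => hgC (h ▸ Subgroup.one_mem _)
  obtain ⟨q, hq, hqg⟩ := Nat.exists_prime_and_dvd (fun h => hg1 (orderOf_eq_one_iff.1 h) : orderOf g ≠ 1)
  have hqp : q ≠ p := by
    rintro rfl
    exact hq.ne_one ((Nat.gcd_eq_left dvd_rfl).symm.trans (hgp.coprime_dvd_left hqg))
  have hgqC : g ^ q ∈ Subgroup.centralizer (U : Set G) := by
    by_contra hc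
    have h1 := hgmin (g ^ q) ⟨U, hUp, pow_mem hgN q,
      hgp.coprime_dvd_left (orderOf_pow_dvd q), hc⟩
    rw [orderOf_pow' g hq.ne_zero, Nat.gcd_eq_right hqg] at h1
    exact absurd (Nat.div_lt_self (orderOf_pos g) hq.one_lt) (not_lt.2 h1)
  have hconjU : ∀ u ∈ U, g * u * g⁻¹ ∈ U := fun u hu => (Subgroup.mem_normalizer_iff.1 hgN u).1 hu
  -- proper invariant subgroups are centralised
  have hprop : ∀ W : Subgroup G, W < U → (∀ w ∈ W, g * w * g⁻¹ ∈ W) → ∀ w ∈ W, g * w = w * g := by
    intro W hW hinv w hw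
    by_contra hc
    refine hUmin W ⟨hUp.to_le hW.le, ?_, hgp, fun h => hc ?_⟩ hW
    · rw [Subgroup.mem_normalizer_iff]
      have hmap : W.map (MulAut.conj g).toMonoidHom = W :=
        Subgroup.eq_of_le_of_card_ge (by rintro _ ⟨a, ha, rfl⟩; exact hinv a ha)
          (Subgroup.card_map_of_injective (MulAut.conj g).injective).ge
      intro a
      refine ⟨hinv a, fun ha => ?_⟩
      rw [← hmap] at ha
      obtain ⟨b, hb, hbe⟩ := ha
      rwa [← (MulAut.conj g).injective hbe]
    · exact (Subgroup.mem_centralizer_iff.1 h w hw).symm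
  -- U' < U
  set U' := ⁅U, U⁆ with hU'
  have hUne : U ≠ ⊥ := fun h => hgC (by rw [h]; simp [Subgroup.mem_centralizer_iff])
  have hU'lt : U' < U := by
    refine lt_of_le_of_ne U.commutator_le_self fun h => ?_
    have := hUp.isNilpotent
    obtain ⟨n, hn⟩ := Subgroup.isNilpotent_iff_lowerCentralSeries U |>.1 this
    have key : ∀ m, U.lowerCentralSeries m = U := by
      intro m
      induction m with
      | zero => rfl
      | succ m ih => rw [Subgroup.lowerCentralSeries_succ, ih]; exact h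
    exact hUne ((key n).symm.trans hn)
  have hU'inv : ∀ w ∈ U', g * w * g⁻¹ ∈ U' := by
    have : U' ≤ U'.comap (MulAut.conj g).toMonoidHom := by
      rw [hU', Subgroup.commutator_le]
      intro a ha b hb
      rw [Subgroup.mem_comap, map_commutatorElement]
      exact Subgroup.commutator_mem_commutator (hconjU a ha) (hconjU b hb)
    exact fun w hw => this hw
  have hUcomm : ∀ a ∈ U, ∀ b ∈ U, a⁻¹ * b⁻¹ * a * b ∈ U' := fun a ha b hb => by
    have h := Subgroup.commutator_mem_commutator (U.inv_mem ha) (U.inv_mem hb)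
    rwa [commutatorElement_def, inv_inv, inv_inv] at h
  have hU'n : (U'.subgroupOf U).Normal := by
    rw [Subgroup.normal_subgroupOf_iff_le_normalizer hU'lt.le]
    exact Subgroup.normalizer_commutator_ge_left U U
  -- u ↦ g u g⁻¹ u⁻¹ modulo U'
  let ψ : U →* U ⧸ U'.subgroupOf U :=
    { toFun := fun u => QuotientGroup.mk (⟨g * u * g⁻¹ * (u : G)⁻¹, U.mul_mem (hconjU u u.2) (U.inv_mem u.2)⟩ : U)
      map_one' := by
        rw [QuotientGroup.eq_one_iff, Subgroup.mem_subgroupOf]
        simp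
      map_mul' := fun a b => by
        rw [← QuotientGroup.mk_mul, QuotientGroup.eq, Subgroup.mem_subgroupOf]
        simp only [Subgroup.coe_mul, Subgroup.coe_inv]
        -- commutator of a⁻¹-part and b-part
        have hX : g * (b : G) * g⁻¹ * (b : G)⁻¹ ∈ U := U.mul_mem (hconjU b b.2) (U.inv_mem b.2)
        have e : (g * ((a : G) * b) * g⁻¹ * ((a : G) * b)⁻¹)⁻¹ *
            (g * a * g⁻¹ * (a : G)⁻¹ * (g * b * g⁻¹ * (b : G)⁻¹)) =
            (a : G) * (g * b * g⁻¹ * (b : G)⁻¹)⁻¹ * (a : G)⁻¹ * (g * b * g⁻¹ * (b : G)⁻¹) := by group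
        rw [e]
        have h2 := hUcomm _ (U.inv_mem a.2) _ hX
        rw [inv_inv] at h2
        exact h2 }
  have hψsurj : Function.Surjective ψ := by
    rw [← MonoidHom.range_eq_top]
    by_contra hne
    let W := (ψ.range.comap (QuotientGroup.mk' (U'.subgroupOf U))).map U.subtype
    have hWlt : W < U := by
      refine lt_of_le_of_ne (Subgroup.map_subtype_le _) fun h => hne ?_
      rw [eq_top_iff]
      intro t _
      obtain ⟨u, rfl⟩ := QuotientGroup.mk_surjective t
      obtain ⟨w, hw, hwu⟩ : (u : G) ∈ W := h.symm ▸ u.2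
      rwa [← Subtype.ext hwu]
    have hcW : ∀ u : U, g * u * g⁻¹ * (u : G)⁻¹ ∈ W := fun u =>
      ⟨_, (⟨u, rfl⟩ : _ ∈ ψ.range), rfl⟩
    have hinv : ∀ w ∈ W, g * w * g⁻¹ ∈ W := by
      intro w hw
      obtain ⟨u, hu, rfl⟩ := hw
      have : g * (u : G) * g⁻¹ = g * u * g⁻¹ * (u : G)⁻¹ * u := by group
      rw [Subgroup.coe_subtype, this]
      exact W.mul_mem (hcW u) ⟨u, hu, rfl⟩
    apply hgC
    rw [Subgroup.mem_centralizer_iff]
    intro u hu
    have hc := hprop W hWlt hinv _ (hcW ⟨u, hu⟩)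
    obtain ⟨k, hk⟩ := hUp ⟨_, hWlt.le (hcW ⟨u, hu⟩)⟩
    have hk' : (g * u * g⁻¹ * u⁻¹) ^ p ^ k = 1 := by simpa [Subtype.ext_iff] using hk
    have h1 := stable (g := g) (u := u) (c := g * u * g⁻¹ * u⁻¹) (by group) hc
      ((hgp.pow_right k).coprime_dvd_right (orderOf_dvd_of_pow_eq_one hk'))
    calc u * g = 1 * u * g := by rw [one_mul]
      _ = g * u * g⁻¹ * u⁻¹ * u * g := by rw [h1]
      _ = g * u := by group
  have hker : ∀ u : U, g * u * g⁻¹ * (u : G)⁻¹ ∈ U' → (u : G) ∈ U' := by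
    have hle : U'.subgroupOf U ≤ ψ.ker := by
      intro u hu
      apply (QuotientGroup.eq_one_iff _).2
      rw [Subgroup.mem_subgroupOf] at hu ⊢
      exact U'.mul_mem (hU'inv _ hu) (U'.inv_mem hu)
    have hidx : ψ.ker.index = (U'.subgroupOf U).index := by
      rw [Subgroup.index_ker, MonoidHom.range_eq_top.2 hψsurj, Subgroup.card_top, Subgroup.index_eq_card]
    have heq : U'.subgroupOf U = ψ.ker := by
      refine le_antisymm hle ?_
      rw [← Subgroup.relIndex_eq_one]
      have h1 := Subgroup.relIndex_mul_index hle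
      rw [hidx] at h1
      exact Nat.eq_of_mul_eq_mul_right (Nat.pos_of_ne_zero Subgroup.index_ne_zero_of_finite) (h1.trans (one_mul _).symm)
    intro u hu
    have : u ∈ ψ.ker := (QuotientGroup.eq_one_iff _).2 (Subgroup.mem_subgroupOf.2 hu)
    rw [← heq, Subgroup.mem_subgroupOf] at this
    exact this
  -- the section
  set H := U ⊔ Subgroup.zpowers g with hH
  have hUH : U ≤ H := le_sup_left
  have hgH : g ∈ H := Subgroup.mem_sup_right (Subgroup.mem_zpowers g)
  have hHN : H ≤ Subgroup.normalizer (U : Set G) := sup_le Subgroup.le_normalizer (Subgroup.zpowers_le.2 hgN)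
  have hcq : ∀ u ∈ U, u * g ^ q = g ^ q * u := fun u hu => Subgroup.mem_centralizer_iff.1 hgqC u hu
  set T := U' ⊔ Subgroup.zpowers (g ^ q) with hT
  have hTH : T ≤ H := sup_le (hU'lt.le.trans hUH) (Subgroup.zpowers_le.2 (H.pow_mem hgH q))
  have hTn : (T.subgroupOf H).Normal := by
    rw [Subgroup.normal_subgroupOf_iff_le_normalizer hTH]
    have mk : ∀ x : G, (∀ t ∈ T, x * t * x⁻¹ ∈ T) → x ∈ Subgroup.normalizer (T : Set G) := by
      intro x hx
      rw [Subgroup.mem_normalizer_iff]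
      have hmap : T.map (MulAut.conj x).toMonoidHom = T :=
        Subgroup.eq_of_le_of_card_ge (by rintro _ ⟨a, ha, rfl⟩; exact hx a ha)
          (Subgroup.card_map_of_injective (MulAut.conj x).injective).ge
      intro a
      refine ⟨hx a, fun ha => ?_⟩
      rw [← hmap] at ha
      obtain ⟨b, hb, hbe⟩ := ha
      rwa [← (MulAut.conj x).injective hbe]
    refine sup_le (fun u hu => mk u ?_) (Subgroup.zpowers_le.2 (mk g ?_))
    · have : T ≤ T.comap (MulAut.conj u).toMonoidHom := by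
        refine sup_le (fun w hw => Subgroup.mem_sup_left ?_) (Subgroup.zpowers_le.2 (Subgroup.mem_sup_right ?_))
        · exact (Subgroup.mem_normalizer_iff.1 (Subgroup.normalizer_commutator_ge_left U U hu) w).1 hw
        · show u * g ^ q * u⁻¹ ∈ _
          rw [hcq u hu, mul_inv_cancel_right]
          exact Subgroup.mem_zpowers _
      exact fun t ht => this ht
    · have : T ≤ T.comap (MulAut.conj g).toMonoidHom := by
        refine sup_le (fun w hw => Subgroup.mem_sup_left (hU'inv w hw)) (Subgroup.zpowers_le.2 (Subgroup.mem_sup_right ?_))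
        show g * g ^ q * g⁻¹ ∈ _
        rw [((Commute.refl g).pow_right q).eq, mul_inv_cancel_right]
        exact Subgroup.mem_zpowers _
      exact fun t ht => this ht
  have hTU : ∀ x ∈ T, x ∈ U → x ∈ U' := by
    intro x hxT hxU
    have hle : Subgroup.zpowers (g ^ q) ≤ Subgroup.normalizer (U' : Set G) := by
      rw [Subgroup.zpowers_le, Subgroup.mem_normalizer_iff]
      intro w
      constructor
      · intro hw
        rw [← hcq w (hU'lt.le hw), mul_inv_cancel_right]
        exact hw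
      · intro hw
        have h1 : g ^ q * w * (g ^ q)⁻¹ ∈ U := hU'lt.le hw
        have h2 := hcq _ h1
        have : g ^ q * w * (g ^ q)⁻¹ = w := by
          have := congrArg (fun z => (g ^ q)⁻¹ * z) h2
          simp only [inv_mul_cancel_left] at this
          rw [← this]
          group
        rwa [this] at hw
    have hx' : x ∈ (U' : Set G) * (Subgroup.zpowers (g ^ q) : Set G) := by
      rw [← Subgroup.coe_mul_of_right_le_normalizer_left U' _ hle]
      exact hxT
    obtain ⟨a, ha, z, hz, rfl⟩ := hx'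
    have hzU : z ∈ U := by
      have := U.mul_mem (U.inv_mem (hU'lt.le ha)) hxU
      rwa [inv_mul_cancel_left] at this
    have hz1 : z = 1 := by
      obtain ⟨k, hk⟩ := hUp ⟨z, hzU⟩
      have hk' : z ^ p ^ k = 1 := by simpa [Subtype.ext_iff] using hk
      refine orderOf_eq_one_iff.1 (Nat.Coprime.eq_one_of_dvd ((hgp.pow_right k).symm.coprime_dvd_left
        (orderOf_dvd_of_pow_eq_one hk')) ?_)
      exact (orderOf_dvd_of_mem_zpowers hz).trans (orderOf_pow_dvd q)
    simpa [hz1] using ha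
  set N := T.subgroupOf H with hN
  let π : H →* H ⧸ N := QuotientGroup.mk' N
  have hUn : (U.subgroupOf H).Normal := (Subgroup.normal_subgroupOf_iff_le_normalizer hUH).2 hHN
  let V : Subgroup (H ⧸ N) := (U.subgroupOf H).map π
  have hVn : V.Normal := hUn.map π (QuotientGroup.mk'_surjective N)
  have hπ : ∀ a b : H, (a : G)⁻¹ * b ∈ T → π a = π b := fun a b h =>
    QuotientGroup.eq.2 (Subgroup.mem_subgroupOf.2 (by simpa using h))
  have hπ' : ∀ a b : H, π a = π b → (a : G)⁻¹ * b ∈ T := fun a b h => by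
    have := Subgroup.mem_subgroupOf.1 (QuotientGroup.eq.1 h)
    simpa using this
  have hb := bad (K := H ⧸ N) (p := p) hq hqp V
    ((hUp.of_equiv (Subgroup.subgroupOfEquivOfLe hUH).symm).map π) ?_ ?_ (π ⟨g, hgH⟩) ?_ ?_ ?_
  · exact hb.2 (hsec H N hb.1)
  · rintro _ ⟨a, ha, rfl⟩ _ ⟨b, hb, rfl⟩
    rw [← map_mul, ← map_mul]
    apply hπ
    simp only [Subgroup.coe_mul]
    have := hUcomm _ (Subgroup.mem_subgroupOf.1 hb) _ (Subgroup.mem_subgroupOf.1 ha)
    refine Subgroup.mem_sup_left ?_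
    simpa [mul_assoc] using this
  · intro h
    obtain ⟨u, hu, hun⟩ := SetLike.exists_of_lt hU'lt
    have : π ⟨u, hUH hu⟩ ∈ V := Subgroup.mem_map_of_mem π hu
    rw [h, Subgroup.mem_bot, ← map_one π] at this
    exact hun (hTU u (by simpa using hπ' 1 ⟨u, hUH hu⟩ this.symm) hu)
  · rw [← map_pow, ← map_one π]
    exact (hπ 1 _ (by simpa using Subgroup.mem_sup_right (Subgroup.mem_zpowers (g ^ q)))).symm
  · rw [eq_top_iff]
    intro t _
    obtain ⟨⟨x, hx⟩, rfl⟩ := QuotientGroup.mk'_surjective N t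
    have hx' : x ∈ (U : Set G) * (Subgroup.zpowers g : Set G) := by
      rw [← Subgroup.coe_mul_of_right_le_normalizer_left U _ (Subgroup.zpowers_le.2 hgN)]
      exact hx
    obtain ⟨a, ha, z, hz, rfl⟩ := hx'
    obtain ⟨i, rfl⟩ := Subgroup.mem_zpowers_iff.1 hz
    have e : (⟨a * g ^ i, hx⟩ : H) = ⟨a, hUH ha⟩ * ⟨g, hgH⟩ ^ i := Subtype.ext (by simp)
    rw [e, map_mul, map_zpow]
    exact Subgroup.mul_mem _ (Subgroup.mem_sup_left (Subgroup.mem_map_of_mem π ha))
      (Subgroup.mem_sup_right (Subgroup.zpow_mem _ (Subgroup.mem_zpowers _) i))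
  · rintro _ ⟨⟨u, huH⟩, hu, rfl⟩ hc
    rw [← map_mul, ← map_mul] at hc
    have hu' : u ∈ U := Subgroup.mem_subgroupOf.1 hu
    have h1 : (u : G)⁻¹ * (g * u * g⁻¹) ∈ U' := by
      have h0 := hπ' _ _ hc.symm
      simp only [Subgroup.coe_mul, mul_inv_rev] at h0
      have hgTn : g ∈ Subgroup.normalizer (T : Set G) :=
        (Subgroup.normal_subgroupOf_iff_le_normalizer hTH).1 hTn hgH
      have h2 := (Subgroup.mem_normalizer_iff.1 hgTn _).1 h0
      refine hTU _ ?_ (U.mul_mem (U.inv_mem hu') (hconjU u hu'))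
      simpa [mul_assoc] using h2
    have h2 : g * u * g⁻¹ * u⁻¹ ∈ U' := by
      have := (Subgroup.mem_normalizer_iff.1 (Subgroup.normalizer_commutator_ge_left U U hu') _).1 h1
      simpa [mul_assoc] using this
    rw [← map_one π]
    exact (hπ 1 _ (by simpa using Subgroup.mem_sup_left (hker ⟨u, hu'⟩ h2))).symm

end helpers

/-- Let G be a finite group and p a prime. Then G has a normal p-complement if and only if every section K = H/N of G (N a normal subgroup of a subgroup H) whose largest normal subgroup of order prime to p is trivial contains an element whose order equals the exponent of K. -/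
theorem result {G : Type*} [Group G] [Finite G] (p : ℕ) [Fact p.Prime] :
    Cfsg.HasNormalPComplement p G ↔
      ∀ (H : Subgroup G) (N : Subgroup H) [N.Normal], Cfsg.pPrimeCore p (H ⧸ N) = ⊥ →
        ∃ k : H ⧸ N, orderOf k = Monoid.exponent (H ⧸ N) := by
  refine ⟨fun h H N _ h1 => ?_, nilp_of_sections p⟩
  exact exists_max_order (isPGroup_of_nilp
    (Transfer.hasNormalPComplement_quotient (Transfer.HasNormalPComplement_subgroup h H) N) h1)

end Cfsg.Agent.S4238
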