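import Cfsg.Statements.S4242
import Mathlib
import Cfsg.Agent.S4263
import Cfsg.Agent.Lib.Transfer.Frobenius
import Cfsg.Agent.Lib.Subnormal.Nilpotent

set_option autoImplicit false
open Cfsg
open scoped Pointwise

namespace Cfsg.Agent.S4242

section helpers

variable {G : Type*} [Group G] [Finite G]

theorem nilpotent_of_le {H M : Subgroup G} (hle : H ≤ M) (h : Group.IsNilpotent M) : Group.IsNilpotent H := by
  have : Group.IsNilpotent (H.subgroupOf M) := Subgroup.isNilpotent _
  exact Group.nilpotent_of_mulEquiv (Subgroup.subgroupOfEquivOfLe hle)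

theorem commute_of_nilpotent {p : ℕ} [Fact p.Prime] {M : Subgroup G} (h : Group.IsNilpotent M)
    {u y : G} (hu : u ∈ M) (hy : y ∈ M) {k : ℕ} (huk : u ^ p ^ k = 1) (hyp : (orderOf y).Coprime p) :
    y * u = u * y := by
  have := Subnormal.commute_of_coprime (u := (⟨u, hu⟩ : M)) (y := ⟨y, hy⟩) (k := k) (p := p)
    (Subtype.ext (by simpa using huk)) (by rwa [← Subgroup.orderOf_coe])
  exact congrArg Subtype.val this.eq

variable {p : ℕ}

theorem backward (hp : p.Prime)
    (h : Group.IsNilpotent G ∨ Cfsg.IsMinimalNonNilpotent G ∨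
        ∃ Z K : Subgroup G, Z.Normal ∧ K.Normal ∧ Z ⊓ K = ⊥ ∧ Z ⊔ K = ⊤ ∧ Nat.card Z = p ∧
          Cfsg.IsMinimalNonNilpotent K ∧ ¬ p ∣ Nat.card K)
    (M : Subgroup G) (hM : IsCoatom M) (hpM : p ∣ Nat.card M) : Group.IsNilpotent M := by
  rcases h with h | h | ⟨Z, K, hZn, hKn, hZK, hsup, hZc, hKm, hpK⟩
  · exact Subgroup.isNilpotent M
  · exact h.2 M hM.1
  have := Fact.mk hp
  obtain ⟨z, hz⟩ := exists_prime_orderOf_dvd_card' p hpM
  have hcomm : ∀ a ∈ Z, ∀ b ∈ K, a * b = b * a := fun a ha b hb =>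
    (Subgroup.commute_of_normal_of_disjoint Z K hZn hKn (disjoint_iff.2 hZK) a b ha hb).eq
  have hdec : ∀ g : G, ∃ a ∈ Z, ∃ b ∈ K, g = a * b := fun g => by
    obtain ⟨a, ha, b, hb, hab⟩ := Subgroup.mem_sup_of_normal_left.1 (hsup ▸ Subgroup.mem_top g)
    exact ⟨a, ha, b, hb, hab.symm⟩
  have hzZ : (z : G) ∈ Z ∧ (z : G) ≠ 1 := by
    obtain ⟨a, ha, b, hb, hab⟩ := hdec z
    have hzp : (z : G) ^ p = 1 := by
      have h1 := congrArg Subtype.val (pow_orderOf_eq_one z)
      rw [hz] at h1
      simpa using h1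
    have hap : a ^ p = 1 := by
      rw [← hZc]
      exact congrArg Subtype.val (pow_card_eq_one' (x := (⟨a, ha⟩ : Z)))
    have hbp : b ^ p = 1 := by
      rw [hab, (show Commute a b from hcomm a ha b hb).mul_pow, hap, one_mul] at hzp
      exact hzp
    have hb1 : b = 1 := by
      rw [← orderOf_eq_one_iff]
      exact Nat.Coprime.eq_one_of_dvd ((hp.coprime_iff_not_dvd.2 hpK).coprime_dvd_left
        (orderOf_dvd_of_pow_eq_one hbp)) (K.orderOf_dvd_natCard hb)
    refine ⟨by rw [hab, hb1, mul_one]; exact ha, fun h1 => ?_⟩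
    have : orderOf z = 1 := orderOf_eq_one_iff.2 (Subtype.ext h1)
    exact hp.ne_one (hz.symm.trans this)
  have hZM : Z ≤ M := by
    have hle : Subgroup.zpowers (z : G) ≤ Z := Subgroup.zpowers_le.2 hzZ.1
    have heq : Subgroup.zpowers (z : G) = Z := Subgroup.eq_of_le_of_card_ge hle (by
      rw [Nat.card_zpowers, Subgroup.orderOf_coe, hz, hZc])
    rw [← heq]
    exact Subgroup.zpowers_le.2 z.2
  have hne : (M.subgroupOf K) ≠ ⊤ := by
    intro h
    rw [Subgroup.subgroupOf_eq_top] at h
    exact hM.1 (top_le_iff.1 (hsup ▸ sup_le hZM h))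
  have hnil := hKm.2 _ hne
  have hcyc : IsCyclic Z := isCyclic_of_prime_card hZc
  have : Group.IsNilpotent Z := by
    let _ : CommGroup Z := IsCyclic.commGroup
    exact CommGroup.isNilpotent
  let f : Z × (M.subgroupOf K) →* M :=
    { toFun := fun q => ⟨(q.1 : G) * ((q.2 : K) : G), M.mul_mem (hZM q.1.2) q.2.2⟩
      map_one' := by simp
      map_mul' := fun q r => by
        apply Subtype.ext
        simp only [Prod.fst_mul, Prod.snd_mul, Subgroup.coe_mul]
        rw [mul_assoc, mul_assoc, ← mul_assoc ((q.2 : K) : G), ← hcomm r.1 r.1.2 ((q.2 : K) : G) (q.2 : K).2,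
          mul_assoc] }
  refine Group.nilpotent_of_surjective f fun m => ?_
  obtain ⟨a, ha, b, hb, hab⟩ := hdec m
  have hbM : b ∈ M := by
    have : b = a⁻¹ * (m : G) := by rw [hab, inv_mul_cancel_left]
    rw [this]
    exact M.mul_mem (M.inv_mem (hZM ha)) m.2
  exact ⟨(⟨a, ha⟩, ⟨⟨b, hb⟩, hbM⟩), Subtype.ext hab.symm⟩

theorem forward (hp : p.Prime) (hpG : p ∣ Nat.card G)
    (hyp : ∀ M : Subgroup G, IsCoatom M → p ∣ Nat.card M → Group.IsNilpotent M) :
    Group.IsNilpotent G ∨ Cfsg.IsMinimalNonNilpotent G ∨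
        ∃ Z K : Subgroup G, Z.Normal ∧ K.Normal ∧ Z ⊓ K = ⊥ ∧ Z ⊔ K = ⊤ ∧ Nat.card Z = p ∧
          Cfsg.IsMinimalNonNilpotent K ∧ ¬ p ∣ Nat.card K := by
  have := Fact.mk hp
  by_cases hnil : Group.IsNilpotent G
  · exact Or.inl hnil
  by_cases hmin : Cfsg.IsMinimalNonNilpotent G
  · exact Or.inr (Or.inl hmin)
  refine Or.inr (Or.inr ?_)
  -- proper subgroups of order divisible by p are nilpotent
  have hsub : ∀ X : Subgroup G, X ≠ ⊤ → p ∣ Nat.card X → Group.IsNilpotent X := by
    intro X hX hpX
    obtain ⟨M, hM, hle⟩ := (eq_top_or_exists_le_coatom X).resolve_left hX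
    exact nilpotent_of_le hle (hyp M hM (hpX.trans (Subgroup.card_dvd_of_le hle)))
  obtain ⟨H, hHt, hHn⟩ : ∃ H : Subgroup G, H ≠ ⊤ ∧ ¬ Group.IsNilpotent H := by
    by_contra hc
    push Not at hc
    exact hmin ⟨hnil, hc⟩
  have hpH : ¬ p ∣ Nat.card H := fun h => hHn (hsub H hHt h)
  have hHfree : ∀ x ∈ H, (orderOf x).Coprime p := fun x hx =>
    ((hp.coprime_iff_not_dvd.2 hpH).symm).coprime_dvd_left (H.orderOf_dvd_natCard hx)
  by_cases hQ : ∃ Q : Subgroup G, Q.Normal ∧ IsPGroup p Q ∧ Q ≠ ⊥
  · obtain ⟨Q, hQn, hQp, hQb⟩ := hQ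
    have hpQ : p ∣ Nat.card Q := by
      rcases hQp.card_eq_or_dvd with h | h
      · exact absurd (Subgroup.eq_bot_of_card_eq Q h) hQb
      · exact h
    have hHQ : H ⊔ Q = ⊤ := by
      by_contra h
      exact hHn (nilpotent_of_le le_sup_left (hsub _ h (hpQ.trans (Subgroup.card_dvd_of_le le_sup_right))))
    have hdisj : H ⊓ Q = ⊥ := by
      rw [← Subgroup.card_eq_one]
      obtain ⟨k, hk⟩ := (hQp.to_le (inf_le_right : H ⊓ Q ≤ Q)).exists_card_eq
      rcases eq_or_ne k 0 with rfl | hk0
      · simpa using hk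
      · exact absurd ((dvd_pow_self p hk0).trans (hk ▸ Subgroup.card_dvd_of_le (inf_le_left : H ⊓ Q ≤ H))) hpH
    -- H centralises Q
    have hcomm : ∀ x ∈ H, ∀ q ∈ Q, x * q = q * x := by
      intro x hx q hq
      obtain ⟨k, hk⟩ := hQp ⟨q, hq⟩
      refine commute_of_nilpotent (M := Subgroup.zpowers x ⊔ Q) (hsub _ ?_ (hpQ.trans (Subgroup.card_dvd_of_le le_sup_right)))
        (Subgroup.mem_sup_right hq) (Subgroup.mem_sup_left (Subgroup.mem_zpowers x)) (k := k) (p := p)
        (by simpa [Subtype.ext_iff] using hk) (hHfree x hx)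
      intro htop
      apply hHn
      have hle : H ≤ Subgroup.zpowers x := by
        intro y hy
        obtain ⟨a, ha, b, hb, hab⟩ := Subgroup.mem_sup_of_normal_right.1 (htop ▸ Subgroup.mem_top y)
        have hb1 : b ∈ H ⊓ Q := by
          refine ⟨?_, hb⟩
          have : b = a⁻¹ * y := by rw [← hab, inv_mul_cancel_left]
          rw [this]
          exact H.mul_mem (H.inv_mem (Subgroup.zpowers_le.2 hx ha)) hy
        rw [hdisj, Subgroup.mem_bot] at hb1
        rw [← hab, hb1, mul_one]
        exact ha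
      refine nilpotent_of_le hle ?_
      let _ : CommGroup (Subgroup.zpowers x) := IsCyclic.commGroup
      exact CommGroup.isNilpotent
    have hnormal : ∀ X : Subgroup G, H ≤ Subgroup.normalizer (X : Set G) →
        Q ≤ Subgroup.normalizer (X : Set G) → X.Normal := fun X h1 h2 =>
      Subgroup.normalizer_eq_top_iff.1 (top_le_iff.1 (hHQ ▸ sup_le h1 h2))
    have hcent : ∀ (X : Subgroup G) (g : G), (∀ x ∈ X, g * x = x * g) → g ∈ Subgroup.normalizer (X : Set G) := by
      intro X g hg
      rw [Subgroup.mem_normalizer_iff]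
      intro b
      constructor
      · intro hb
        rwa [hg b hb, mul_inv_cancel_right]
      · intro hb
        have h1 := hg _ hb
        have h2 : g * b * g⁻¹ = b := by
          have := congrArg (fun t => g⁻¹ * t) h1
          simp only [inv_mul_cancel_left] at this
          rw [this]
          group
        rwa [h2] at hb
    have hHnorm : H.Normal := hnormal H Subgroup.le_normalizer fun q hq => hcent H q fun x hx => (hcomm x hx q hq).symm
    obtain ⟨z, hz⟩ := exists_prime_orderOf_dvd_card' p hpQ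
    set Z := Subgroup.zpowers (z : G) with hZ
    have hZQ : Z ≤ Q := Subgroup.zpowers_le.2 z.2
    have hZc : Nat.card Z = p := by rw [hZ, Nat.card_zpowers, Subgroup.orderOf_coe, hz]
    have hHZ : H ⊔ Z = ⊤ := by
      by_contra h
      exact hHn (nilpotent_of_le le_sup_left (hsub _ h ((dvd_of_eq hZc.symm).trans (Subgroup.card_dvd_of_le le_sup_right))))
    have hZnorm : Z.Normal := by
      refine Subgroup.normalizer_eq_top_iff.1 (top_le_iff.1 (hHZ ▸ sup_le (fun g hg => hcent Z g
        fun x hx => hcomm g hg x (hZQ hx)) Subgroup.le_normalizer))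
    refine ⟨Z, H, hZnorm, hHnorm, ?_, by rw [sup_comm, hHZ], hZc, ⟨hHn, fun H₀ hH₀ => ?_⟩, hpH⟩
    · rw [eq_bot_iff, ← hdisj]
      exact fun a ha => ⟨ha.2, hZQ ha.1⟩
    · have hne : H₀.map H.subtype ⊔ Q ≠ ⊤ := by
        intro htop
        apply hH₀
        rw [eq_top_iff]
        intro y _
        obtain ⟨a, ha, b, hb, hab⟩ := Subgroup.mem_sup_of_normal_right.1 (htop ▸ Subgroup.mem_top (y : G))
        obtain ⟨a', ha', rfl⟩ := ha
        have hb1 : b ∈ H ⊓ Q := by
          refine ⟨?_, hb⟩
          have : b = (a' : G)⁻¹ * (y : G) := by rw [← hab]; simp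
          rw [this]
          exact H.mul_mem (H.inv_mem a'.2) y.2
        rw [hdisj, Subgroup.mem_bot] at hb1
        rw [hb1, mul_one] at hab
        rwa [← Subtype.ext hab]
      have := nilpotent_of_le le_sup_left (hsub _ hne (hpQ.trans (Subgroup.card_dvd_of_le le_sup_right)))
      exact Group.nilpotent_of_mulEquiv (H₀.equivMapOfInjective H.subtype H.subtype_injective).symm
  · push Not at hQ
    exfalso
    -- Frobenius: G has a normal p-complement
    let P : Sylow p G := default
    have hfrob : Cfsg.HasNormalPComplement p G := by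
      refine Transfer.hasNormalPComplement_of_centralizer P fun Q hQP g hg hco => ?_
      have hQp : IsPGroup p Q := P.isPGroup'.to_le hQP
      rw [Subgroup.mem_centralizer_iff]
      intro q hq
      by_cases hQb : Q = ⊥
      · rw [SetLike.mem_coe, hQb, Subgroup.mem_bot] at hq
        simp [hq]
      have hne : Subgroup.normalizer (Q : Set G) ≠ ⊤ := fun h =>
        hQb (hQ Q (Subgroup.normalizer_eq_top_iff.1 h) hQp)
      have hpN : p ∣ Nat.card (Subgroup.normalizer (Q : Set G)) :=
        ((hQp.card_eq_or_dvd).resolve_left fun h => hQb (Subgroup.eq_bot_of_card_eq Q h)).trans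
          (Subgroup.card_dvd_of_le Subgroup.le_normalizer)
      obtain ⟨k, hk⟩ := hQp ⟨q, hq⟩
      exact (commute_of_nilpotent (hsub _ hne hpN) (Subgroup.le_normalizer hq) hg (k := k) (p := p)
        (by simpa [Subtype.ext_iff] using hk) hco).symm
    set K := Cfsg.pResidual p G with hK
    have hKn : K.Normal := Transfer.pResidual_normal p
    have hKp : ¬ p ∣ Nat.card K := Transfer.hasNormalPComplement_iff.1 hfrob
    have hHK : H ≤ K := fun x hx => (Transfer.mem_pResidual_iff hfrob x).2 (hHfree x hx)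
    have hKnot : ¬ Group.IsNilpotent K := fun h => hHn (nilpotent_of_le hHK h)
    have hKP := Transfer.isComplement'_pResidual P hKp
    have hPne : (P : Subgroup G) ≠ ⊥ := P.ne_bot_of_dvd_card hpG
    refine hPne (hQ (P : Subgroup G) ?_ P.isPGroup')
    have hKC : K ≤ Subgroup.centralizer ((P : Subgroup G) : Set G) := by
      rw [← Subgroup.subgroupOf_eq_top]
      apply Components.eq_top_of_forall_sylow
      intro r hr _
      have := Fact.mk hr
      let R : Sylow r K := default
      set R' := (R : Subgroup K).map K.subtype with hR'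
      set N := Subgroup.normalizer (R' : Set G) with hN
      have hidx : ¬ p ∣ N.index := by
        have hrel : N.relIndex K = N.index := by
          rw [← S4263.relIndex_sup_of_normal N K, Sylow.normalizer_sup_eq_top R, Subgroup.relIndex_top_right]
        intro h
        exact hKp ((hrel ▸ h).trans (N.subgroupOf K).index_dvd_card)
      let S₀ : Sylow p N := default
      set S' := (S₀ : Subgroup N).map N.subtype with hS'
      have hcardS : Nat.card S' = Nat.card (P : Subgroup G) := by
        rw [hS', Subgroup.card_map_of_injective N.subtype_injective, S₀.card_eq_multiplicity,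
          P.card_eq_multiplicity, ← N.index_mul_card,
          Nat.factorization_mul Subgroup.index_ne_zero_of_finite Nat.card_pos.ne', Finsupp.add_apply,
          Nat.factorization_eq_zero_of_not_dvd hidx, zero_add]
      obtain ⟨Ps, hPs⟩ := (S₀.isPGroup'.map N.subtype).exists_le_sylow
      obtain ⟨g, hg⟩ := MulAction.exists_smul_eq G Ps P
      have hPsS : (Ps : Subgroup G) = S' := (Subgroup.eq_of_le_of_card_ge hPs (by
        rw [hcardS, P.card_eq_multiplicity, Ps.card_eq_multiplicity])).symm
      have hne : S' ⊔ R' ≠ ⊤ := by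
        intro htop
        have hR'n : R'.Normal := by
          rw [← Subgroup.normalizer_eq_top_iff, eq_top_iff, ← htop]
          exact sup_le (Subgroup.map_subtype_le _) Subgroup.le_normalizer
        have hKR : K ≤ R' := by
          intro k hk
          obtain ⟨s, hs, r', hr', hsr⟩ := Subgroup.mem_sup_of_normal_right.1 (htop ▸ Subgroup.mem_top k)
          have hsK : s ∈ K := by
            have : s = k * r'⁻¹ := by rw [← hsr, mul_inv_cancel_right]
            rw [this]
            exact K.mul_mem hk (K.inv_mem (Subgroup.map_subtype_le _ hr'))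
          obtain ⟨j, hj⟩ := (S₀.isPGroup'.map N.subtype) ⟨s, hs⟩
          have hs1 : s = 1 := by
            rw [← orderOf_eq_one_iff]
            exact Nat.Coprime.eq_one_of_dvd (((hp.coprime_iff_not_dvd.2 hKp).pow_left j).coprime_dvd_left
              (orderOf_dvd_of_pow_eq_one (by simpa [Subtype.ext_iff] using hj))) (K.orderOf_dvd_natCard hsK)
          rw [← hsr, hs1, one_mul]
          exact hr'
        exact hKnot (nilpotent_of_le hKR ((R.isPGroup'.map K.subtype).isNilpotent))
      have hpS : p ∣ Nat.card (S' ⊔ R' : Subgroup G) :=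
        ((P.isPGroup'.card_eq_or_dvd).resolve_left fun h => hPne (Subgroup.eq_bot_of_card_eq _ h)).trans
          (hcardS ▸ Subgroup.card_dvd_of_le le_sup_left)
      refine ⟨(MulAut.conjNormal g : MulAut K) • R, fun a ha => ?_⟩
      obtain ⟨b, hb, rfl⟩ := ha
      rw [Subgroup.mem_subgroupOf, Subgroup.mem_centralizer_iff]
      intro c hc
      rw [← hg] at hc
      obtain ⟨c', hc', rfl⟩ := hc
      obtain ⟨j, hj⟩ := Ps.isPGroup' ⟨c', hc'⟩
      have hbR : (b : G) ∈ R' := ⟨b, hb, rfl⟩
      have hcb := commute_of_nilpotent (hsub _ hne hpS) (Subgroup.mem_sup_left (hPsS ▸ hc' : c' ∈ S'))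
        (Subgroup.mem_sup_right hbR) (k := j) (p := p) (by simpa [Subtype.ext_iff] using hj)
        ((hp.coprime_iff_not_dvd.2 hKp).symm.coprime_dvd_left (K.orderOf_dvd_natCard b.2))
      show g * c' * g⁻¹ * (g * b * g⁻¹) = g * b * g⁻¹ * (g * c' * g⁻¹)
      calc g * c' * g⁻¹ * (g * b * g⁻¹) = g * (c' * b) * g⁻¹ := by group
        _ = g * (b * c') * g⁻¹ := by rw [hcb]
        _ = _ := by group
    rw [← Subgroup.normalizer_eq_top_iff, eq_top_iff, ← hKP.sup_eq_top]
    exact sup_le (hKC.trans (Subgroup.centralizer_le_normalizer _)) Subgroup.le_normalizer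

end helpers

/-- Let G be a finite group and p a prime dividing its order. Every maximal subgroup of G of order divisible by p is nilpotent if and only if G is nilpotent, or G is a minimal non-nilpotent group, or G is the internal direct product of a normal subgroup of order p and a normal minimal non-nilpotent subgroup of order prime to p. -/
theorem result {G : Type*} [Group G] [Finite G] (p : ℕ) (hp : p.Prime) (hpG : p ∣ Nat.card G) :
    (∀ M : Subgroup G, IsCoatom M → p ∣ Nat.card M → Group.IsNilpotent M) ↔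
      (Group.IsNilpotent G ∨ Cfsg.IsMinimalNonNilpotent G ∨
        ∃ Z K : Subgroup G, Z.Normal ∧ K.Normal ∧ Z ⊓ K = ⊥ ∧ Z ⊔ K = ⊤ ∧ Nat.card Z = p ∧
          Cfsg.IsMinimalNonNilpotent K ∧ ¬ p ∣ Nat.card K) := by
  exact ⟨forward hp hpG, fun h M hM hpM => backward hp h M hM hpM⟩

end Cfsg.Agent.S4242
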