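import Cfsg.Statements.S4244
import Cfsg.Agent.S4263

set_option autoImplicit false
open Cfsg

namespace Cfsg.Agent.S4244

section helpers

variable {G : Type*} [Group G] [Finite G]

theorem relIndex_dvd (H : Subgroup G) (hH : H.IsSubnormal) (K : Subgroup G) :
    (H ⊓ K).relIndex H ∣ K.index := by
  induction hH with
  | top => simp
  | step H L hle _ hn ih =>
    refine dvd_trans ?_ ih
    rw [Subgroup.inf_relIndex_left, Subgroup.inf_relIndex_left,
      ← Subgroup.relIndex_subgroupOf hle]
    have := hn
    rw [← S4263.relIndex_sup_of_normal (K.subgroupOf L) (H.subgroupOf L)]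
    exact Subgroup.relIndex_dvd_index_of_le le_sup_left

end helpers

/-- Let H be a subnormal subgroup of a finite group G. Then for every subgroup K of G the index of H ∩ K in H divides the index of K in G. -/
theorem result {G : Type*} [Group G] [Finite G] (H : Subgroup G) (hH : H.IsSubnormal) (K : Subgroup G) :
    (H ⊓ K).relIndex H ∣ K.index := by
  exact relIndex_dvd H hH K

end Cfsg.Agent.S4244
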