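import Cfsg.Statements.S4245
import Cfsg.Agent.S4263
import Cfsg.Agent.S0143

set_option autoImplicit false
set_option maxHeartbeats 400000
open Cfsg

namespace Cfsg.Agent.S4245

section helpers

/-- Burnside's class-size criterion, as a hypothesis shape -/
def BurnsideClass.{u} : Prop :=
  ∀ {G : Type u} [Group G] [Finite G] [IsSimpleGroup G] (p k : ℕ) (_ : p.Prime) (g : G) (_ : g ≠ 1)
    (_ : (Subgroup.centralizer ({g} : Set G)).index = p ^ k), (Nat.card G).Prime

/-- cyclic normal subgroup with cyclic quotient of 2-power order -/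
def Good (M : Type*) [Group M] : Prop :=
  ∃ (B : Subgroup M) (_ : B.Normal), IsCyclic B ∧ IsCyclic (M ⧸ B) ∧ ∃ r, Nat.card (M ⧸ B) = 2 ^ r

theorem good_of_injective {M M' : Type*} [Group M] [Group M'] (f : M →* M') (hf : Function.Injective f)
    (h : Good M') : Good M := by
  obtain ⟨B, hBn, hBc, hQc, r, hr⟩ := h
  have hn : (B.comap f).Normal := hBn.comap f
  refine ⟨B.comap f, hn, ?_, ?_, ?_⟩
  · exact isCyclic_of_injective (f.subgroupComap B) (fun a b hab => Subtype.ext (hf (congrArg Subtype.val hab)))
  all_goals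
    let g : M ⧸ B.comap f →* M' ⧸ B := QuotientGroup.map _ _ f le_rfl
    have hg : Function.Injective g := by
      rw [← MonoidHom.ker_eq_bot_iff, eq_bot_iff]
      intro a ha
      obtain ⟨a, rfl⟩ := QuotientGroup.mk'_surjective _ a
      rw [MonoidHom.mem_ker] at ha
      rw [Subgroup.mem_bot]
      exact (QuotientGroup.eq_one_iff a).2 ((QuotientGroup.eq_one_iff (f a)).1 ha)
  · exact isCyclic_of_injective g hg
  · have : Finite (M' ⧸ B) := Nat.finite_of_card_ne_zero (by rw [hr]; exact pow_ne_zero _ (by norm_num))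
    obtain ⟨i, -, hi⟩ := (Nat.dvd_prime_pow Nat.prime_two).1 (hr ▸ Subgroup.card_dvd_of_injective g hg)
    exact ⟨i, hi⟩

theorem good_of_surjective {M M' : Type*} [Group M] [Group M'] (f : M →* M') (hf : Function.Surjective f)
    (h : Good M) : Good M' := by
  obtain ⟨B, hBn, hBc, hQc, r, hr⟩ := h
  have hn : (B.map f).Normal := hBn.map f hf
  refine ⟨B.map f, hn, ?_, ?_, ?_⟩
  · exact isCyclic_of_surjective (f.subgroupMap B) (f.subgroupMap_surjective B)
  all_goals
    let g : M ⧸ B →* M' ⧸ B.map f := QuotientGroup.map _ _ f (Subgroup.le_comap_map f B)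
    have hg : Function.Surjective g := by
      intro a
      obtain ⟨a, rfl⟩ := QuotientGroup.mk'_surjective _ a
      obtain ⟨b, rfl⟩ := hf a
      exact ⟨QuotientGroup.mk b, rfl⟩
  · exact isCyclic_of_surjective g hg
  · obtain ⟨i, -, hi⟩ := (Nat.dvd_prime_pow Nat.prime_two).1 (hr ▸ Subgroup.card_dvd_of_surjective g hg)
    exact ⟨i, hi⟩

theorem simple_case.{u} (hB : BurnsideClass.{u}) {G : Type u} [Group G] [Finite G] [IsSimpleGroup G]
    (A : Subgroup G) (p s : ℕ) (hp : p.Prime) (hA : A.index = p ^ s) (hg : Good A) :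
    Group.IsSolvable G := by
  have hprime : (Nat.card G).Prime → Group.IsSolvable G := fun h => by
    have := Fact.mk h
    have : IsCyclic G := isCyclic_of_prime_card rfl
    exact Group.isSolvable_of_comm fun a b => mul_comm' a b
  have hclass : ∀ a : A, a ≠ 1 → ∀ q k : ℕ, q.Prime →
      (Subgroup.centralizer ({(a : G)} : Set G)).index ∣ q ^ k → Group.IsSolvable G := by
    intro a ha q k hq hd
    obtain ⟨i, -, hi⟩ := (Nat.dvd_prime_pow hq).1 hd
    exact hprime (hB q i hq (a : G) (fun h => ha (Subtype.ext h)) hi)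
  obtain ⟨B, hBn, hBc, hQc, r, hr⟩ := hg
  by_cases hAbot : Nat.card A = 1
  · have : Fact p.Prime := ⟨hp⟩
    have hG : IsPGroup p G := IsPGroup.of_card (n := s) (by rw [← A.index_mul_card, hAbot, mul_one, hA])
    have := hG.isNilpotent
    infer_instance
  by_cases hz : ∃ a : A, a ≠ 1 ∧ ∀ b : A, a * b = b * a
  · obtain ⟨a, ha, hc⟩ := hz
    refine hclass a ha p s hp (hA ▸ Subgroup.index_dvd_of_le fun b hb => ?_)
    rw [Subgroup.mem_centralizer_singleton_iff]
    exact (congrArg Subtype.val (hc ⟨b, hb⟩)).symm
  push Not at hz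
  -- B has odd order
  have hBodd : ¬ 2 ∣ Nat.card B := by
    intro h2
    have : Fact (Nat.Prime 2) := ⟨Nat.prime_two⟩
    obtain ⟨t, ht⟩ := exists_prime_orderOf_dvd_card' 2 h2
    obtain ⟨b, hb⟩ := hz (t : A) (fun h => by
      rw [show t = 1 from Subtype.ext h, orderOf_one] at ht; omega)
    apply hb
    let c : B := ⟨b * (t : A) * b⁻¹, hBn.conj_mem _ t.2 b⟩
    have hc : orderOf c = 2 := by
      rw [← Subgroup.orderOf_coe] at ht ⊢
      show orderOf (b * (t : A) * b⁻¹) = 2
      rw [← ht]
      exact orderOf_injective (MulAut.conj b).toMonoidHom (MulAut.conj b).injective _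
    have hct : c = t := by
      classical
      have := Fintype.ofFinite B
      by_contra hne
      have h3 : ({1, t, c} : Finset B).card = 3 := by
        rw [Finset.card_eq_three]
        refine ⟨1, t, c, ?_, ?_, Ne.symm hne, rfl⟩
        · intro h; rw [← h, orderOf_one] at ht; omega
        · intro h; rw [← h, orderOf_one] at hc; omega
      have hle := IsCyclic.card_pow_eq_one_le (α := B) two_pos
      have hsub : ({1, t, c} : Finset B) ⊆ Finset.univ.filter fun u : B => u ^ 2 = 1 := by
        intro u hu
        simp only [Finset.mem_insert, Finset.mem_singleton] at hu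
        simp only [Finset.mem_filter, Finset.mem_univ, true_and]
        rcases hu with rfl | rfl | rfl
        · exact one_pow 2
        · rw [← ht, pow_orderOf_eq_one]
        · rw [← hc, pow_orderOf_eq_one]
      have := (Finset.card_le_card hsub).trans hle
      omega
    have := congrArg Subtype.val hct
    simp only [c] at this
    exact (mul_inv_eq_iff_eq_mul.1 this).symm
  have hrne : r ≠ 0 := by
    rintro rfl
    obtain ⟨a, ha⟩ : ∃ a : A, a ≠ 1 := by
      by_contra hc
      push Not at hc
      exact hAbot (Nat.card_eq_one_iff_unique.2 ⟨⟨fun a b => (hc a).trans (hc b).symm⟩, ⟨1⟩⟩)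
    have hBtop : B = ⊤ := Subgroup.index_eq_one.1 (by rw [Subgroup.index_eq_card, hr, pow_zero])
    obtain ⟨b, hb⟩ := hz a ha
    have e := mul_comm' (⟨a, hBtop ▸ Subgroup.mem_top a⟩ : B) ⟨b, hBtop ▸ Subgroup.mem_top b⟩
    exact hb (congrArg Subtype.val e)
  rcases eq_or_ne p 2 with rfl | hp2
  · obtain ⟨b, hb⟩ : ∃ b : B, b ≠ 1 := by
      by_contra hc
      push Not at hc
      have hBbot : B = ⊥ := (Subgroup.eq_bot_iff_forall B).2 fun x hx => congrArg Subtype.val (hc ⟨x, hx⟩)
      have : IsCyclic A := by
        subst hBbot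
        exact isCyclic_of_injective (QuotientGroup.quotientBot (G := A)).symm.toMonoidHom
          (QuotientGroup.quotientBot (G := A)).symm.injective
      obtain ⟨a, ha⟩ : ∃ a : A, a ≠ 1 := by
        by_contra hc'
        push Not at hc'
        exact hAbot (Nat.card_eq_one_iff_unique.2 ⟨⟨fun a b => (hc' a).trans (hc' b).symm⟩, ⟨1⟩⟩)
      obtain ⟨x, hx⟩ := hz a ha
      exact hx (mul_comm' a x)
    refine hclass (b : A) (fun h => hb (Subtype.ext h)) 2 (r + s) Nat.prime_two ?_
    refine (Subgroup.index_dvd_of_le (H := B.map A.subtype) ?_).trans ?_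
    · rintro _ ⟨x, hx, rfl⟩
      rw [Subgroup.mem_centralizer_singleton_iff]
      exact congrArg (fun z : B => ((z : A) : G)) (mul_comm' (⟨x, hx⟩ : B) b)
    · rw [Subgroup.index_map_of_injective _ A.subtype_injective, Subgroup.range_subtype, hA,
        Subgroup.index_eq_card, hr, pow_add]
  · -- cyclic Sylow 2-subgroup
    have : Fact (Nat.Prime 2) := ⟨Nat.prime_two⟩
    have h2A : 2 ∣ Nat.card A := by
      refine (dvd_pow_self 2 hrne).trans ?_
      rw [← hr]
      exact Subgroup.card_quotient_dvd_card B
    let P₀ : Sylow 2 A := default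
    set Pm := (P₀ : Subgroup A).map A.subtype with hPm
    obtain ⟨P, hle⟩ := (P₀.isPGroup'.map A.subtype).exists_le_sylow
    have hPeq : (P : Subgroup G) = Pm := by
      refine (Subgroup.eq_of_le_of_card_ge hle ?_).symm
      obtain ⟨i, hi⟩ := IsPGroup.iff_card.1 P.isPGroup'
      have hd : Nat.card (P : Subgroup G) ∣ Nat.card A := by
        have := (P : Subgroup G).card_subgroup_dvd_card
        rw [← A.index_mul_card, hA] at this
        rw [hi] at this ⊢
        exact Nat.Coprime.dvd_of_dvd_mul_left
          (((Nat.coprime_primes Nat.prime_two hp).2 (Ne.symm hp2)).pow _ _) this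
      have hd2 : Nat.card (P : Subgroup G) ∣ Nat.card (P₀ : Subgroup A) := by
        rw [P₀.card_eq_multiplicity, hi]
        exact Nat.pow_dvd_pow 2 ((Nat.Prime.pow_dvd_iff_le_factorization Nat.prime_two Nat.card_pos.ne').1 (hi ▸ hd))
      rw [Subgroup.card_map_of_injective A.subtype_injective]
      exact Nat.le_of_dvd Nat.card_pos hd2
    have hcycP : IsCyclic (P : Subgroup G) := by
      have hc0 : IsCyclic (P₀ : Subgroup A) := by
        refine isCyclic_of_injective ((QuotientGroup.mk' B).comp (P₀ : Subgroup A).subtype) ?_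
        rw [← MonoidHom.ker_eq_bot_iff, Subgroup.eq_bot_iff_forall]
        intro x hx
        have hxB : (x : A) ∈ B := (QuotientGroup.eq_one_iff _).1 hx
        obtain ⟨k, hk⟩ := P₀.isPGroup' x
        have h1 : orderOf (x : A) ∣ 2 ^ k := orderOf_dvd_of_pow_eq_one (by exact_mod_cast congrArg Subtype.val hk)
        have h2 : orderOf (x : A) ∣ Nat.card B := Subgroup.orderOf_dvd_natCard B hxB
        have := Nat.Coprime.eq_one_of_dvd
          ((((Nat.prime_two.coprime_iff_not_dvd).2 hBodd).pow_left k).coprime_dvd_left h1) h2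
        exact Subtype.ext (orderOf_eq_one_iff.1 this)
      rw [hPeq]
      exact isCyclic_of_surjective (A.subtype.subgroupMap (P₀ : Subgroup A)) (A.subtype.subgroupMap_surjective _)
    have h2G : 2 ∣ Nat.card G := h2A.trans A.card_subgroup_dvd_card
    have hmin : (Nat.card G).minFac = 2 := Nat.minFac_eq_two_iff _ |>.2 h2G
    have hnc := hcycP.normalizer_le_centralizer hmin
    have hcompl := MonoidHom.ker_transferSylow_isComplement' P hnc
    rcases (MonoidHom.normal_ker (MonoidHom.transferSylow P hnc)).eq_bot_or_eq_top with h | h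
    · have htop : (P : Subgroup G) = ⊤ := by
        rw [h] at hcompl
        exact Subgroup.isComplement'_bot_left.1 hcompl
      have := P.isPGroup'.isNilpotent
      have : Group.IsSolvable (P : Subgroup G) := inferInstance
      exact Group.isSolvable_of_surjective (f := (P : Subgroup G).subtype) fun x => ⟨⟨x, htop ▸ Subgroup.mem_top x⟩, rfl⟩
    · exact absurd h2G (h ▸ MonoidHom.not_dvd_card_ker_transferSylow P hnc |> fun hh => by
        simpa [Subgroup.card_top] using hh)

theorem main.{u} (hB : BurnsideClass.{u}) :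
    ∀ (n : ℕ) {G : Type u} [Group G] [Finite G], Nat.card G = n → ∀ (A : Subgroup G) (p s : ℕ),
      p.Prime → A.index = p ^ s → Good A → Group.IsSolvable G := by
  intro n
  induction n using Nat.strong_induction_on with
  | _ n ih =>
    intro G _ _ hn A p s hp hA hg
    rcases subsingleton_or_nontrivial G with hs | hs
    · exact Group.isSolvable_of_comm fun a b => Subsingleton.elim _ _
    by_cases hsimp : IsSimpleGroup G
    · exact simple_case hB A p s hp hA hg
    obtain ⟨N, hNn, hN1, hN2⟩ : ∃ N : Subgroup G, N.Normal ∧ N ≠ ⊥ ∧ N ≠ ⊤ := by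
      by_contra hc
      push Not at hc
      exact hsimp ⟨fun N hN => or_iff_not_imp_left.2 (hc N hN)⟩
    have hNlt : Nat.card N < n := by
      rw [← hn]
      exact lt_of_le_of_ne (Subgroup.card_le_card_group N) (fun h => hN2 (Subgroup.eq_top_of_card_eq N h))
    have hQlt : Nat.card (G ⧸ N) < n := by
      rw [← hn, Subgroup.card_eq_card_quotient_mul_card_subgroup N]
      refine lt_mul_of_one_lt_right Nat.card_pos ?_
      rcases (Nat.one_le_iff_ne_zero.2 (Nat.card_pos (α := N)).ne').eq_or_lt with h | h
      · exact absurd (Subgroup.eq_bot_of_card_eq N h.symm) hN1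
      · exact h
    have hsN : Group.IsSolvable N := by
      have hd : (A.subgroupOf N).index ∣ p ^ s := by
        rw [← hA]
        show A.relIndex N ∣ A.index
        rw [← S4263.relIndex_sup_of_normal A N]
        exact Subgroup.relIndex_dvd_index_of_le le_sup_left
      obtain ⟨i, -, hi⟩ := (Nat.dvd_prime_pow hp).1 hd
      refine ih _ hNlt rfl (A.subgroupOf N) p i hp hi (good_of_injective (M' := A)
        ((N.subtype.comp (A.subgroupOf N).subtype).codRestrict A fun x => x.2) ?_ hg)
      intro a b hab
      exact Subtype.ext (Subtype.ext (congrArg Subtype.val hab :))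
    have hsQ : Group.IsSolvable (G ⧸ N) := by
      have hd : (A.map (QuotientGroup.mk' N)).index ∣ p ^ s :=
        hA ▸ Subgroup.index_map_dvd A (QuotientGroup.mk'_surjective N)
      obtain ⟨i, -, hi⟩ := (Nat.dvd_prime_pow hp).1 hd
      exact ih _ hQlt rfl _ p i hp hi
        (good_of_surjective _ ((QuotientGroup.mk' N).subgroupMap_surjective A) hg)
    exact Group.isSolvable_of_ker_le_range N.subtype (QuotientGroup.mk' N)
      (by rw [QuotientGroup.ker_mk', Subgroup.range_subtype])

end helpers

/-- Let G be a finite group with a subgroup A of prime-power index. Suppose A has a normal cyclic subgroup B such that A/B is cyclic of order a power of 2. Then G is solvable. -/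
theorem result {G : Type*} [Group G] [Finite G] (A : Subgroup G) (p s : ℕ) (hp : p.Prime) (hA : A.index = p ^ s)
    (B : Subgroup A) [B.Normal] (hB : IsCyclic B) (hAB : IsCyclic (A ⧸ B)) (r : ℕ) (hr : Nat.card (A ⧸ B) = 2 ^ r) :
    Group.IsSolvable G := by
  exact main (fun p k hp g hg hc => S0143.result p k hp g hg hc) _ rfl A p s hp hA ⟨B, inferInstance, hB, hAB, r, hr⟩

end Cfsg.Agent.S4245
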