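import Cfsg.Statements.S4248
import Cfsg.Agent.Lib.GroupPartition.Linear
import Cfsg.Agent.Lib.GroupPartition.Suzuki
import Cfsg.Agent.Lib.GroupPartition.Reduce
import Cfsg.Agent.Lib.GroupPartition.Simple
import Cfsg.Agent.Lib.PSL2.SmallIso
import Cfsg.Agent.Lib.Sz.Lie

set_option autoImplicit false
open Cfsg

namespace Cfsg.Agent.S4248

/-- Let G be a finite group admitting a nontrivial partition: a family of at least two nontrivial subgroups such that every non-identity element of G lies in exactly one member. Then G is isomorphic to the symmetric group of degree 4; or, for some prime p, the Hughes subgroup generated by the elements g with g^p ≠ 1 is proper (G a p-group or a group of Hughes–Thompson type); or G is a Frobenius group; or G is isomorphic to PSL(2, q) with q ≥ 4, to PGL(2, q) with q ≥ 5 odd, or to a Suzuki group. -/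
theorem result {G : Type*} [Group G] [Finite G] (S : Set (Subgroup G)) (hS2 : ∃ H ∈ S, ∃ K ∈ S, H ≠ K)
    (hS1 : ∀ H ∈ S, H ≠ ⊥) (hpart : ∀ g : G, g ≠ 1 → ∃! H : Subgroup G, H ∈ S ∧ g ∈ H) :
    Nonempty (G ≃* Equiv.Perm (Fin 4)) ∨
    (∃ p : ℕ, p.Prime ∧ Subgroup.closure {g : G | g ^ p ≠ 1} ≠ ⊤) ∨
    (∃ H : Subgroup G, Cfsg.IsFrobeniusComplement H) ∨
    (∃ (F : Type) (_ : Field F) (_ : Fintype F), 4 ≤ Fintype.card F ∧
        Nonempty (G ≃* Matrix.ProjectiveSpecialLinearGroup (Fin 2) F)) ∨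
    (∃ (F : Type) (_ : Field F) (_ : Fintype F), 5 ≤ Fintype.card F ∧ Odd (Fintype.card F) ∧
        Nonempty (G ≃* (GL (Fin 2) F ⧸ Subgroup.center (GL (Fin 2) F)))) ∨
    Cfsg.Lie.IsoSuzuki G := by
  classical
  obtain ⟨P⟩ := Cfsg.Agent.GroupPartition.exists_part S hS2 hS1 hpart
  by_cases hsm : Cfsg.Agent.GroupPartition.Small G
  · rcases hsm with h | h | h
    · exact Or.inl h
    · exact Or.inr (Or.inl h)
    · exact Or.inr (Or.inr (Or.inl h))
  have hP := P.hard_of_not_small hsm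
  haveI : Nontrivial G := by
    obtain ⟨H, hH, -⟩ := hS2
    obtain ⟨⟨x, hx⟩, hx1⟩ := Subgroup.ne_bot_iff_exists_ne_one.1 (hS1 H hH)
    exact ⟨⟨x, 1, fun e => hx1 (Subtype.ext e)⟩⟩
  obtain ⟨L, hLn, hLs, hLc, hC⟩ := hP.exists_simple_normal
  haveI := hLn
  haveI := hLs
  obtain ⟨P', hP'⟩ := hP.restrict_simple hLc
  have hne : ∃ a b : L, a * b ≠ b * a := by
    by_contra h
    push Not at h
    exact hLc ⟨⟨h⟩⟩
  let E := Cfsg.Agent.GroupPartition.Emb.ofNormal L hC
  rcases hP'.simpleOutcome hne with ⟨F, iF, iFt, hF4, ⟨e⟩⟩ | ⟨F, iF, iFt, m, hm, hF, ⟨e⟩⟩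
  · have key : ∀ (K : Type) [Field K] [Fintype K], 5 ≤ Fintype.card K →
        ∀ (f : L ≃* Matrix.ProjectiveSpecialLinearGroup (Fin 2) K),
        (∃ (F : Type) (_ : Field F) (_ : Fintype F), 4 ≤ Fintype.card F ∧
          Nonempty (G ≃* Matrix.ProjectiveSpecialLinearGroup (Fin 2) F)) ∨
        (∃ (F : Type) (_ : Field F) (_ : Fintype F), 5 ≤ Fintype.card F ∧ Odd (Fintype.card F) ∧
          Nonempty (G ≃* (GL (Fin 2) F ⧸ Subgroup.center (GL (Fin 2) F)))) := by
      intro K _ _ hK f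
      rcases hP.psl_cases hK (E.congr f) with h | ⟨hodd, h⟩
      · exact Or.inl ⟨K, inferInstance, inferInstance, by omega, h⟩
      · exact Or.inr ⟨K, inferInstance, inferInstance, hK, hodd, h⟩
    have h4 : ∀ (K : Type) [Field K] [Fintype K], Fintype.card K = 4 →
        Nonempty (Matrix.ProjectiveSpecialLinearGroup (Fin 2) K ≃*
          Matrix.ProjectiveSpecialLinearGroup (Fin 2) (ZMod 5)) := fun K _ _ hK => by
      haveI : Fact (Nat.Prime 5) := ⟨by norm_num⟩
      obtain ⟨a⟩ := Cfsg.Agent.PSL2.psl_four_five_iso (F := K) (Or.inl hK)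
      obtain ⟨b⟩ := Cfsg.Agent.PSL2.psl_four_five_iso (F := ZMod 5) (Or.inr (ZMod.card 5))
      exact ⟨a.trans b.symm⟩
    by_cases h5 : 5 ≤ Fintype.card F
    · rcases key F h5 e with h | h
      · exact Or.inr (Or.inr (Or.inr (Or.inl h)))
      · exact Or.inr (Or.inr (Or.inr (Or.inr (Or.inl h))))
    haveI : Fact (Nat.Prime 5) := ⟨by norm_num⟩
    obtain ⟨f⟩ := h4 F (by omega)
    rcases key (ZMod 5) (by rw [ZMod.card]) (e.trans f) with h | h
    · exact Or.inr (Or.inr (Or.inr (Or.inl h)))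
    · exact Or.inr (Or.inr (Or.inr (Or.inr (Or.inl h))))
  · let E' := E.congr (e.trans (Cfsg.Agent.SZ.szEquiv hm hF).symm)
    obtain ⟨f⟩ := E'.mulEquiv_of_surjective (hP.eq_sz hm hF E')
    exact Or.inr (Or.inr (Or.inr (Or.inr (Or.inr
      ⟨F, iF, iFt, m, hm, hF, ⟨f.trans (Cfsg.Agent.SZ.szEquiv hm hF)⟩⟩))))

end Cfsg.Agent.S4248
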