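import Cfsg.Statements.S4250
import Cfsg.Agent.Lib.Transfer.FocalLocal

set_option autoImplicit false
open Cfsg
open scoped commutatorElement

namespace Cfsg.Agent.S4250

/-- Let P be a Sylow p-subgroup of a finite group G. Call an intersection H = P ∩ Q with a Sylow p-subgroup Q tame when N_P(H) and N_Q(H) are Sylow p-subgroups of N_G(H). Then P ∩ G′ is generated by [P, N_G(P)] together with the commutator subgroups [P ∩ Q, ⟨x⟩] for all tame intersections P ∩ Q and all p-elements x of N_G(P ∩ Q). -/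
theorem result {G : Type*} [Group G] [Finite G] (p : ℕ) [Fact p.Prime] (P : Sylow p G) :
    (P : Subgroup G) ⊓ commutator G =
      ⁅(P : Subgroup G), Subgroup.normalizer ((P : Subgroup G) : Set G)⁆ ⊔
        ⨆ (Q : Sylow p G) (_ : (¬ p ∣ ((P : Subgroup G) ⊓ Subgroup.normalizer (((P : Subgroup G) ⊓ (Q : Subgroup G) : Subgroup G) : Set G)).relIndex (Subgroup.normalizer (((P : Subgroup G) ⊓ (Q : Subgroup G) : Subgroup G) : Set G)) ∧ ¬ p ∣ ((Q : Subgroup G) ⊓ Subgroup.normalizer (((P : Subgroup G) ⊓ (Q : Subgroup G) : Subgroup G) : Set G)).relIndex (Subgroup.normalizer (((P : Subgroup G) ⊓ (Q : Subgroup G) : Subgroup G) : Set G))))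
          (x : G) (_ : x ∈ Subgroup.normalizer (((P : Subgroup G) ⊓ (Q : Subgroup G) : Subgroup G) : Set G) ∧ ∃ k : ℕ, orderOf x = p ^ k),
          ⁅(P : Subgroup G) ⊓ (Q : Subgroup G), Subgroup.zpowers x⁆ := by
  have key : ∀ (a x : G), ⁅a⁻¹, x⁻¹⁆ = a⁻¹ * (x⁻¹ * a * x) := fun a x => by
    rw [commutatorElement_def]; group
  apply le_antisymm
  · rw [inf_comm, Subgroup.commutator_inf_eq_focalSubgroup P]
    refine Transfer.focalSubgroup_le_of_local P _ (fun x hx a ha => ?_) (fun D hD x hx hord a ha => ?_)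
    · rw [← key]
      exact Subgroup.mem_sup_left (Subgroup.commutator_mem_commutator (inv_mem ha) (inv_mem hx))
    · obtain ⟨Q, rfl, hP, hQ⟩ := hD
      rw [← key]
      refine Subgroup.mem_sup_right ?_
      refine Subgroup.mem_iSup_of_mem Q (Subgroup.mem_iSup_of_mem ⟨hP, hQ⟩ ?_)
      refine Subgroup.mem_iSup_of_mem x (Subgroup.mem_iSup_of_mem ⟨hx, hord⟩ ?_)
      exact Subgroup.commutator_mem_commutator (inv_mem ha) (inv_mem (Subgroup.mem_zpowers x))
  · refine sup_le (le_inf ?_ (Subgroup.commutator_mono le_top le_top))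
      (iSup_le fun Q => iSup_le fun _ => iSup_le fun x => iSup_le fun hx =>
        le_inf ?_ (Subgroup.commutator_mono le_top le_top))
    · rw [Subgroup.commutator_le]
      intro a ha x hx
      have h1 := mul_mem ha ((Subgroup.mem_normalizer_iff.mp hx _).mp (inv_mem ha))
      rw [commutatorElement_def]
      simpa [mul_assoc] using h1
    · rw [Subgroup.commutator_le]
      intro a ha y hy
      have hy' : y ∈ Subgroup.normalizer (((P : Subgroup G) ⊓ (Q : Subgroup G) : Subgroup G) : Set G) :=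
        Subgroup.zpowers_le.mpr hx.1 hy
      have h1 := mul_mem ha ((Subgroup.mem_normalizer_iff.mp hy' _).mp (inv_mem ha))
      rw [commutatorElement_def]
      have h2 : a * (y * a⁻¹ * y⁻¹) ∈ (P : Subgroup G) := h1.1
      have e : a * y * a⁻¹ * y⁻¹ = a * (y * a⁻¹ * y⁻¹) := by group
      rw [e]
      exact h2

end Cfsg.Agent.S4250
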