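import Cfsg.Statements.S4251
import Cfsg.Agent.Lib.Transfer.Frobenius

set_option autoImplicit false
open Cfsg

namespace Cfsg.Agent.S4251

/-- Let P be a Sylow p-subgroup of a finite group G. Call an intersection H = P ∩ Q with a Sylow p-subgroup Q tame when N_P(H) and N_Q(H) are Sylow p-subgroups of N_G(H). If N_G(H)/C_G(H) is a p-group for every nontrivial tame intersection H = P ∩ Q, then G has a normal p-complement. -/
theorem result {G : Type*} [Group G] [Finite G] (p : ℕ) [Fact p.Prime] (P : Sylow p G)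
    (h : ∀ Q : Sylow p G, (P : Subgroup G) ⊓ (Q : Subgroup G) ≠ ⊥ → (¬ p ∣ ((P : Subgroup G) ⊓ Subgroup.normalizer (((P : Subgroup G) ⊓ (Q : Subgroup G) : Subgroup G) : Set G)).relIndex (Subgroup.normalizer (((P : Subgroup G) ⊓ (Q : Subgroup G) : Subgroup G) : Set G)) ∧ ¬ p ∣ ((Q : Subgroup G) ⊓ Subgroup.normalizer (((P : Subgroup G) ⊓ (Q : Subgroup G) : Subgroup G) : Set G)).relIndex (Subgroup.normalizer (((P : Subgroup G) ⊓ (Q : Subgroup G) : Subgroup G) : Set G))) →
      IsPGroup p (Subgroup.normalizer (((P : Subgroup G) ⊓ (Q : Subgroup G) : Subgroup G) : Set G) ⧸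
        (Subgroup.centralizer (((P : Subgroup G) ⊓ (Q : Subgroup G) : Subgroup G) : Set G)).subgroupOf
          (Subgroup.normalizer (((P : Subgroup G) ⊓ (Q : Subgroup G) : Subgroup G) : Set G)))) :
    Cfsg.HasNormalPComplement p G := by
  refine Transfer.hasNormalPComplement_of_own_fusion P
    (Transfer.controlsElementFusion_of_tame P _ ?_)
  intro D hD x hx
  obtain ⟨Q, rfl, hPt, hQt⟩ := hD
  by_cases hb : (P : Subgroup G) ⊓ (Q : Subgroup G) = ⊥
  · refine ⟨1, one_mem _, fun d hd => ?_⟩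
    rw [hb, Subgroup.mem_bot] at hd
    simp [hd]
  suffices hcen : ∀ g ∈ Subgroup.normalizer (((P : Subgroup G) ⊓ (Q : Subgroup G) : Subgroup G) : Set G),
      Nat.Coprime (orderOf g) p →
      g ∈ Subgroup.centralizer (((P : Subgroup G) ⊓ (Q : Subgroup G) : Subgroup G) : Set G) by
    obtain ⟨y, hy, he⟩ := Transfer.exists_conj_eq_of_coprime_centralize hPt hcen hx
    exact ⟨y, hy.1, he⟩
  intro g hg hco
  obtain ⟨k, hk⟩ := h Q hb ⟨hPt, hQt⟩ (QuotientGroup.mk ⟨g, hg⟩)
  rw [← QuotientGroup.mk_pow, QuotientGroup.eq_one_iff, Subgroup.mem_subgroupOf] at hk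
  have h1 : g ^ p ^ k ∈ Subgroup.centralizer
      (((P : Subgroup G) ⊓ (Q : Subgroup G) : Subgroup G) : Set G) := by simpa using hk
  have h2 : g ∈ Subgroup.zpowers (g ^ p ^ k) :=
    mem_zpowers_pow_iff.mpr (hco.pow_right k).symm
  exact Subgroup.zpowers_le.mpr h1 h2

end Cfsg.Agent.S4251
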