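import Cfsg.Statements.S4252
import Mathlib

set_option autoImplicit false
open Cfsg
open scoped Pointwise

namespace Cfsg.Agent.S4252

section helpers

variable {G Ω : Type*} [Group G] [MulAction G Ω]

theorem mem_conj_stab {g x : G} {α : Ω} :
    x ∈ MulAut.conj g • MulAction.stabilizer G α ↔ x • g • α = g • α := by
  rw [Subgroup.mem_pointwise_smul_iff_inv_smul_mem, MulAction.mem_stabilizer_iff, MulAut.smul_def,
    MulAut.inv_apply, MulAut.conj_symm_apply, mul_smul, mul_smul, inv_smul_eq_iff]

end helpers

/-- Let a finite group G act on a finite set Ω with more than one point, transitively but not regularly, so that no non-identity element of G fixes two distinct points. Then the stabilizer H of any point is a Frobenius complement in G (nontrivial, proper, meeting its other conjugates trivially), and the Frobenius kernel of G with respect to H (the identity together with the elements lying in no conjugate of H) is exactly the set consisting of the identity and the elements fixing no point. -/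
theorem result {G Ω : Type*} [Group G] [Finite G] [Fintype Ω] [MulAction G Ω] (hΩ : 1 < Fintype.card Ω)
    (htrans : ∀ α β : Ω, ∃ g : G, g • α = β) (hnreg : ∃ g : G, g ≠ 1 ∧ ∃ α : Ω, g • α = α)
    (hfix : ∀ g : G, g ≠ 1 → ∀ α β : Ω, g • α = α → g • β = β → α = β) (α : Ω) :
    Cfsg.IsFrobeniusComplement (MulAction.stabilizer G α) ∧
      Cfsg.frobeniusKernel (MulAction.stabilizer G α) = {g : G | g = 1 ∨ ∀ ω : Ω, g • ω ≠ ω} := by
  refine ⟨⟨?_, ?_, fun g hg => ?_⟩, ?_⟩
  · intro hbot
    obtain ⟨g, hg1, β, hgβ⟩ := hnreg
    obtain ⟨t, rfl⟩ := htrans α β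
    have : t⁻¹ * g * t ∈ MulAction.stabilizer G α := by
      rw [MulAction.mem_stabilizer_iff, mul_smul, mul_smul, hgβ, inv_smul_smul]
    rw [hbot, Subgroup.mem_bot] at this
    apply hg1
    simpa [mul_assoc] using congrArg (fun z => t * z * t⁻¹) this
  · intro htop
    obtain ⟨β, hβ⟩ := Fintype.exists_ne_of_one_lt_card hΩ α
    obtain ⟨t, rfl⟩ := htrans α β
    exact hβ (MulAction.mem_stabilizer_iff.1 (htop ▸ Subgroup.mem_top t))
  · rw [Subgroup.eq_bot_iff_forall]
    intro x hx
    by_contra hx1
    exact hg (MulAction.mem_stabilizer_iff.2 (hfix x hx1 α (g • α) (MulAction.mem_stabilizer_iff.1 hx.1)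
      (mem_conj_stab.1 hx.2)).symm)
  · ext x
    refine or_congr Iff.rfl ⟨fun h ω hω => ?_, fun h g hg => h _ (mem_conj_stab.1 hg)⟩
    obtain ⟨t, rfl⟩ := htrans α ω
    exact h t (mem_conj_stab.2 hω)

end Cfsg.Agent.S4252
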