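import Cfsg.Statements.S4253
-- import your own Cfsg.Agent.* helpers here

set_option autoImplicit false
open Cfsg
open scoped Pointwise

namespace Cfsg.Agent.S4253

section helpers

variable {G : Type*} [Group G]

theorem fixed_unique (H : Subgroup G) (hH : Cfsg.IsFrobeniusComplement H) (g : G) (hg : g ≠ 1)
    (a b : G ⧸ H) (ha : g • a = a) (hb : g • b = b) : a = b := by
  obtain ⟨x, rfl⟩ := QuotientGroup.mk_surjective a
  obtain ⟨y, rfl⟩ := QuotientGroup.mk_surjective b
  rw [MulAction.Quotient.smul_mk, QuotientGroup.eq, smul_eq_mul] at ha hb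
  rw [QuotientGroup.eq]
  by_contra hne
  have h1 : x⁻¹ * g * x ∈ H := by
    have := H.inv_mem ha
    simpa [mul_assoc] using this
  have h2 : x⁻¹ * g * x ∈ MulAut.conj (x⁻¹ * y) • H := by
    refine ⟨y⁻¹ * g * y, ?_, ?_⟩
    · have := H.inv_mem hb
      simpa [mul_assoc] using this
    · simp [mul_assoc]
  have : x⁻¹ * g * x ∈ H ⊓ MulAut.conj (x⁻¹ * y) • H := ⟨h1, h2⟩
  rw [hH.2.2 _ hne, Subgroup.mem_bot] at this
  apply hg
  simpa [mul_assoc, mul_eq_one_iff_eq_inv] using congrArg (fun z => x * z * x⁻¹) this

end helpers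

/-- Let H be a Frobenius complement in a finite group G (a nontrivial proper subgroup meeting each conjugate gHg⁻¹ with g outside H trivially). Then in the action of G on the left cosets of H by left multiplication, no non-identity element of G fixes two distinct cosets. -/
theorem result {G : Type*} [Group G] [Finite G] (H : Subgroup G) (hH : Cfsg.IsFrobeniusComplement H)
    (g : G) (hg : g ≠ 1) (a b : G ⧸ H) (ha : g • a = a) (hb : g • b = b) : a = b := by
  exact fixed_unique H hH g hg a b ha hb

end Cfsg.Agent.S4253
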