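import Cfsg.Statements.S4255
import Cfsg.Agent.Lib.ClassSize.Disconnected
import Cfsg.Agent.S4138

set_option autoImplicit false
open Cfsg

namespace Cfsg.Agent.S4255

open Cfsg.Agent.ClassSize.CoprimeTop Cfsg.Agent.ClassSize.Disconnected in
theorem main {G : Type*} [Group G] [Finite G] (S : Set ℕ)
    (hS : ∃ p ∈ S, p.Prime ∧ ∃ g : G, p ∣ cl g) (hS' : ∃ q ∉ S, q.Prime ∧ ∃ g : G, q ∣ cl g)
    (pure : ∀ g : G, ∀ p q : ℕ, p.Prime → q.Prime → p ∣ cl g → q ∣ cl g → p ∈ S → q ∈ S) :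
    ∃ (m n : ℕ), n < m ∧ 1 < n ∧ m.Coprime n ∧ (∀ g : G, cl g = 1 ∨ cl g = n ∨ cl g = m) ∧
      (∃ x : G, cl x = n) ∧ ∃ y : G, cl y = m := by
  obtain ⟨z, hz⟩ := Finite.exists_max (cl (G := G))
  obtain ⟨p₀, hp₀S, hp₀, g₀, hg₀⟩ := hS
  have hz1 : cl z ≠ 1 := fun e => hp₀.not_dvd_one (by
    have h2 := hp₀.two_le.trans (Nat.le_of_dvd (cl_pos g₀) hg₀)
    have := hz g₀
    omega)
  obtain ⟨p, hp, hpz⟩ := Nat.exists_prime_and_dvd hz1
  obtain ⟨T, D⟩ : ∃ T : Set ℕ, Disc G T (cl z) z := by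
    by_cases hpS : p ∈ S
    · exact ⟨S, pure, hz, rfl, ⟨p, hpS, hp, hpz⟩, hS'⟩
    · exact ⟨Sᶜ, fun g a b ha hb hag hbg haS hbS => haS (pure g b a hb ha hbg hag hbS), hz, rfl,
        ⟨p, hpS, hp, hpz⟩, p₀, fun h => h hp₀S, hp₀, g₀, hg₀⟩
  obtain ⟨n, hn, hco, ⟨x, hx⟩, hall⟩ := D.three
  refine ⟨cl z, n, lt_of_le_of_ne (hx ▸ hz x) (fun e => ?_), hn, hco, hall, ⟨x, hx⟩, z, rfl⟩
  rw [← e, Nat.coprime_self] at hco
  omega

/-- Let G be a finite group. Call a prime a vertex if it divides some conjugacy class size of G, and two distinct vertices adjacent if their product divides some class size. Suppose this graph is disconnected: the vertices split into two nonempty parts with no vertex of one part adjacent to a vertex of the other. Then G/Z(G) is a Frobenius group with abelian Frobenius complement and with a Frobenius kernel all of whose elements commute. -/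
theorem result {G : Type*} [Group G] [Finite G] (S : Set ℕ) (hS : ∃ p ∈ S, (p.Prime ∧ ∃ g : G, p ∣ (Subgroup.centralizer ({g} : Set G)).index)) (hS' : ∃ q ∉ S, (q.Prime ∧ ∃ g : G, q ∣ (Subgroup.centralizer ({g} : Set G)).index))
    (hdisc : ∀ p q : ℕ, (p.Prime ∧ ∃ g : G, p ∣ (Subgroup.centralizer ({g} : Set G)).index) → (q.Prime ∧ ∃ g : G, q ∣ (Subgroup.centralizer ({g} : Set G)).index) → p ∈ S → q ∉ S → ¬ (∃ g : G, p * q ∣ (Subgroup.centralizer ({g} : Set G)).index)) :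
    ∃ H : Subgroup (G ⧸ Subgroup.center G), Cfsg.IsFrobeniusComplement H ∧ IsMulCommutative H ∧
      ∀ x ∈ Cfsg.frobeniusKernel H, ∀ y ∈ Cfsg.frobeniusKernel H, x * y = y * x := by
  obtain ⟨m, n, hnm, hn, hco, hall, ⟨x, hx⟩, y, hy⟩ := main (G := G) S
    (hS.imp fun _ h => ⟨h.1, h.2.1, h.2.2⟩) (hS'.imp fun _ h => ⟨h.1, h.2.1, h.2.2⟩)
    fun g p q hp hq hpg hqg hpS => by
      by_contra hqS
      exact hdisc p q ⟨hp, g, hpg⟩ ⟨hq, g, hqg⟩ hpS hqS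
        ⟨g, Nat.Coprime.mul_dvd_of_dvd_of_dvd
          ((Nat.coprime_primes hp hq).2 fun e => hqS (e ▸ hpS)) hpg hqg⟩
  open Cfsg.Agent.ClassSize.CoprimeTop in
  obtain ⟨hC, hD, hF, hK⟩ := Cfsg.Agent.S4138.main m n hnm hn hco
    (fun z => by rcases hall z with h | h | h <;> omega)
    (fun z hz => by rcases hall z with h | h | h <;> omega) x y hx hy
  refine ⟨_, hF, ⟨⟨?_⟩⟩, ?_⟩
  · rintro ⟨a, a', ha, rfl⟩ ⟨b, b', hb, rfl⟩
    refine Subtype.ext ?_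
    simp only [Subgroup.coe_mul, ← map_mul]
    exact congrArg _ (congrArg Subtype.val (hD.is_comm.comm ⟨a', ha⟩ ⟨b', hb⟩))
  · rw [hK]
    rintro _ ⟨a, ha, rfl⟩ _ ⟨b, hb, rfl⟩
    rw [← map_mul, ← map_mul]
    exact congrArg _ (congrArg Subtype.val (hC.is_comm.comm ⟨a, ha⟩ ⟨b, hb⟩))

end Cfsg.Agent.S4255
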