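import Cfsg.Statements.S4257
import Cfsg.Agent.Lib.ClassSize.Diameter

set_option autoImplicit false
open Cfsg

namespace Cfsg.Agent.S4257

/-- Let G be a finite group. Call a prime a vertex if it divides some conjugacy class size of G, and two distinct vertices adjacent if their product divides some class size. If this graph is connected, then its diameter is at most 3: any two distinct vertices p and q are adjacent, or joined through one or two intermediate vertices. -/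
theorem result {G : Type*} [Group G] [Finite G]
    (hconn : ∀ S : Set ℕ, (∃ p ∈ S, (p.Prime ∧ ∃ g : G, p ∣ (Subgroup.centralizer ({g} : Set G)).index)) → (∃ q ∉ S, (q.Prime ∧ ∃ g : G, q ∣ (Subgroup.centralizer ({g} : Set G)).index)) →
      ∃ p q : ℕ, (p.Prime ∧ ∃ g : G, p ∣ (Subgroup.centralizer ({g} : Set G)).index) ∧ (q.Prime ∧ ∃ g : G, q ∣ (Subgroup.centralizer ({g} : Set G)).index) ∧ p ∈ S ∧ q ∉ S ∧ (∃ g : G, p * q ∣ (Subgroup.centralizer ({g} : Set G)).index))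
    (p q : ℕ) (hp : (p.Prime ∧ ∃ g : G, p ∣ (Subgroup.centralizer ({g} : Set G)).index)) (hq : (q.Prime ∧ ∃ g : G, q ∣ (Subgroup.centralizer ({g} : Set G)).index)) (hpq : p ≠ q) :
    (∃ g : G, p * q ∣ (Subgroup.centralizer ({g} : Set G)).index) ∨ (∃ r : ℕ, (r.Prime ∧ ∃ g : G, r ∣ (Subgroup.centralizer ({g} : Set G)).index) ∧ r ≠ p ∧ r ≠ q ∧ (∃ g : G, p * r ∣ (Subgroup.centralizer ({g} : Set G)).index) ∧ (∃ g : G, r * q ∣ (Subgroup.centralizer ({g} : Set G)).index)) ∨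
      (∃ r s : ℕ, (r.Prime ∧ ∃ g : G, r ∣ (Subgroup.centralizer ({g} : Set G)).index) ∧ (s.Prime ∧ ∃ g : G, s ∣ (Subgroup.centralizer ({g} : Set G)).index) ∧ r ≠ p ∧ s ≠ q ∧ r ≠ s ∧ r ≠ q ∧ s ≠ p ∧
        (∃ g : G, p * r ∣ (Subgroup.centralizer ({g} : Set G)).index) ∧ (∃ g : G, r * s ∣ (Subgroup.centralizer ({g} : Set G)).index) ∧ (∃ g : G, s * q ∣ (Subgroup.centralizer ({g} : Set G)).index)) := by
  have hV : ∀ {a : ℕ}, (a.Prime ∧ ∃ g : G, a ∣ (Subgroup.centralizer ({g} : Set G)).index) →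
      Cfsg.Agent.ClassSize.Diameter.Vert (G := G) (fun _ => True) a :=
    fun h => ⟨h.1, h.2.choose, trivial, h.2.choose_spec⟩
  have hV' : ∀ {a : ℕ}, Cfsg.Agent.ClassSize.Diameter.Vert (G := G) (fun _ => True) a →
      (a.Prime ∧ ∃ g : G, a ∣ (Subgroup.centralizer ({g} : Set G)).index) :=
    fun ⟨h1, g, _, h2⟩ => ⟨h1, g, h2⟩
  have hE : ∀ {a b : ℕ}, Cfsg.Agent.ClassSize.Diameter.Edge (G := G) (fun _ => True) a b →
      ∃ g : G, a * b ∣ (Subgroup.centralizer ({g} : Set G)).index :=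
    fun ⟨g, _, h⟩ => ⟨g, h⟩
  rcases Cfsg.Agent.ClassSize.Diameter.all_path (G := G) (fun T ⟨a, ha, haV⟩ ⟨b, hb, hbV⟩ => by
      obtain ⟨c, d, hc, hd, hcT, hdT, g, hg⟩ := hconn T ⟨a, ha, hV' haV⟩ ⟨b, hb, hV' hbV⟩
      exact ⟨c, d, hc.1, hd.1, hcT, hdT, g, trivial, hg⟩) (hV hp) (hV hq) hpq with
    h | ⟨t, ht, h1, h2, e1, e2⟩ | ⟨t, u, ht, hu, h1, h2, h3, h4, h5, e1, e2, e3⟩
  · exact Or.inl (hE h)
  · exact Or.inr (Or.inl ⟨t, hV' ht, h1, h2, hE e1, hE e2⟩)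
  · exact Or.inr (Or.inr ⟨t, u, hV' ht, hV' hu, h1, h2, h3, h4, h5, hE e1, hE e2, hE e3⟩)

end Cfsg.Agent.S4257
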