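import Cfsg.Statements.S4261
import Mathlib
import Cfsg.Agent.S4263
import Cfsg.Agent.Lib.PGroup.Basic

set_option autoImplicit false
open Cfsg

namespace Cfsg.Agent.S4261

section helpers

theorem exists_abelian_normal_pgroup {G : Type*} [Group G] [Finite G] [Group.IsSolvable G] [Nontrivial G] :
    ∃ (p : ℕ) (A : Subgroup G), p.Prime ∧ A.Normal ∧ A ≠ ⊥ ∧ IsPGroup p A ∧
      ∀ a ∈ A, ∀ b ∈ A, a * b = b * a := by
  obtain ⟨n, hn⟩ := (inferInstance : Group.IsSolvable G).solvable
  classical
  have hex : ∃ n, derivedSeries G n = ⊥ := ⟨n, hn⟩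
  have hpos : 0 < Nat.find hex := Nat.pos_of_ne_zero fun h0 => by
    have := Nat.find_spec hex
    rw [h0, derivedSeries_zero] at this
    exact top_ne_bot this
  set D := derivedSeries G (Nat.find hex - 1) with hD
  have hDne : D ≠ ⊥ := Nat.find_min hex (by omega)
  have hDc : ∀ a ∈ D, ∀ b ∈ D, a * b = b * a := by
    intro a ha b hb
    have := Nat.find_spec hex
    rw [show Nat.find hex = (Nat.find hex - 1) + 1 by omega, derivedSeries_succ] at this
    exact commutatorElement_eq_one_iff_mul_comm.1
      (Subgroup.mem_bot.1 (this ▸ Subgroup.commutator_mem_commutator ha hb))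
  have hDn : D.Normal := inferInstance
  obtain ⟨p, hp, hpD⟩ := Nat.exists_prime_and_dvd
    (fun h => hDne (Subgroup.eq_bot_of_card_eq D h) : Nat.card D ≠ 1)
  have := Fact.mk hp
  let P : Sylow p D := default
  have hPn : (P : Subgroup D).Normal := ⟨fun x hx g => by
    have : g * x = x * g := Subtype.ext (hDc g g.2 x x.2)
    rw [this, mul_inv_cancel_right]
    exact hx⟩
  have hPc : (P : Subgroup D).Characteristic := P.characteristic_of_normal hPn
  refine ⟨p, (P : Subgroup D).map D.subtype, hp, ConjAct.normal_of_characteristic_of_normal, ?_,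
    P.isPGroup'.map _, fun a ha b hb => hDc a (Subgroup.map_subtype_le _ ha) b (Subgroup.map_subtype_le _ hb)⟩
  rw [Ne, Subgroup.map_eq_bot_iff_of_injective _ D.subtype_injective]
  exact P.ne_bot_of_dvd_card hpD

theorem normal_of_pow.{u} : ∀ (n : ℕ) {G : Type u} [Group G] [Finite G], Nat.card G = n →
    Group.IsSolvable G → ∀ M : Subgroup G, IsCoatom M → (∀ x : G, x ^ M.index ∈ M) → M.Normal := by
  intro n
  induction n using Nat.strong_induction_on with
  | _ n ih =>
    intro G _ _ hn hG M hM hexp
    rcases subsingleton_or_nontrivial G with hs | hs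
    · exact absurd (Subsingleton.elim M ⊤) hM.1
    by_cases hcore : M.normalCore = ⊥
    swap
    · set C := M.normalCore with hC
      have hlt : Nat.card (G ⧸ C) < n := by
        rw [← hn, Subgroup.card_eq_card_quotient_mul_card_subgroup C]
        refine lt_mul_of_one_lt_right Nat.card_pos ?_
        rcases (Nat.one_le_iff_ne_zero.2 (Nat.card_pos (α := C)).ne').eq_or_lt with h | h
        · exact absurd (Subgroup.eq_bot_of_card_eq C h.symm) hcore
        · exact h
      have hsurj := QuotientGroup.mk'_surjective C
      have hcm : (M.map (QuotientGroup.mk' C)).comap (QuotientGroup.mk' C) = M :=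
        Subgroup.comap_map_eq_self (by rw [QuotientGroup.ker_mk']; exact M.normalCore_le)
      have hco : IsCoatom (M.map (QuotientGroup.mk' C)) := by
        refine ⟨fun h => hM.1 (by rw [← hcm, h, Subgroup.comap_top]), fun K hK => ?_⟩
        have := hM.2 (K.comap (QuotientGroup.mk' C)) (lt_of_eq_of_lt hcm.symm ((Subgroup.comap_lt_comap_of_surjective hsurj).2 hK))
        exact Subgroup.comap_injective hsurj (this.trans (Subgroup.comap_top _).symm)
      have hidx : (M.map (QuotientGroup.mk' C)).index = M.index := by
        rw [← Subgroup.index_comap_of_surjective _ hsurj, hcm]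
      have hq := ih _ hlt rfl (Group.isSolvable_of_surjective hsurj) _ hco (by
        intro x
        obtain ⟨x, rfl⟩ := hsurj x
        rw [hidx, ← map_pow]
        exact Subgroup.mem_map_of_mem _ (hexp x))
      rw [← hcm]
      exact hq.comap _
    obtain ⟨p, A, hp, hAn, hAne, hAp, hAc⟩ := exists_abelian_normal_pgroup (G := G)
    have := Fact.mk hp
    have hAM : ¬ A ≤ M := fun h => hAne (le_bot_iff.1 (hcore ▸ Subgroup.normal_le_normalCore.2 h))
    have htop : M ⊔ A = ⊤ := hM.2 _ (left_lt_sup.2 hAM)
    obtain ⟨k, hk⟩ : ∃ k, M.index = p ^ k := by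
      obtain ⟨j, hj⟩ := hAp.exists_card_eq
      have hd : M.index ∣ p ^ j := by
        rw [← hj]
        have h1 : M.index = M.relIndex A := by
          rw [← S4263.relIndex_sup_of_normal M A, htop, Subgroup.relIndex_top_right]
        rw [h1]
        exact Subgroup.relIndex_dvd_card M A
      obtain ⟨i, -, hi⟩ := (Nat.dvd_prime_pow hp).1 hd
      exact ⟨i, hi⟩
    have hfree : ∀ x ∈ M, (orderOf x).Coprime p → x = 1 := by
      intro x _ hcop
      have : x ∈ M.normalCore := by
        intro g
        have ho : orderOf (g * x * g⁻¹) = orderOf x :=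
          orderOf_injective (MulAut.conj g).toMonoidHom (MulAut.conj g).injective x
        obtain ⟨m, hm⟩ := exists_pow_eq_self_of_coprime (x := g * x * g⁻¹) (n := M.index)
          (by rw [ho, hk]; exact (hcop.pow_right k).symm)
        rw [← hm]
        exact M.pow_mem (hexp _) m
      rwa [hcore, Subgroup.mem_bot] at this
    have hGp : IsPGroup p G := by
      obtain ⟨e, he⟩ : ∃ e, Nat.card M = p ^ e := by
        refine ⟨_, Nat.eq_prime_pow_of_unique_prime_dvd Nat.card_pos.ne' fun {d} hd hdM => ?_⟩
        by_contra hdp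
        have := Fact.mk hd
        obtain ⟨x, hx⟩ := exists_prime_orderOf_dvd_card' d hdM
        have hx' : orderOf (x : G) = d := by rwa [Subgroup.orderOf_coe]
        have h1 := hfree (x : G) x.2 (hx' ▸ (Nat.coprime_primes hd hp).2 hdp)
        rw [h1, orderOf_one] at hx'
        exact hd.ne_one hx'.symm
      exact IsPGroup.of_card (n := k + e) (by rw [← M.index_mul_card, hk, he, pow_add])
    exact PGroup.normal_of_isCoatom hGp hM

end helpers

/-- Let M be a maximal subgroup of a finite solvable group G such that x^[G : M] lies in M for every x in G. Then M is normal in G. -/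
theorem result {G : Type*} [Group G] [Finite G] (hG : Group.IsSolvable G) (M : Subgroup G) (hM : IsCoatom M)
    (hexp : ∀ x : G, x ^ M.index ∈ M) : M.Normal := by
  exact normal_of_pow _ rfl hG M hM hexp

end Cfsg.Agent.S4261
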