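import Cfsg.Statements.S4262
-- import your own Cfsg.Agent.* helpers here

set_option autoImplicit false
set_option maxHeartbeats 400000
open Cfsg

namespace Cfsg.Agent.S4262

section helpers

variable {G : Type*} [Group G] [Finite G]

/-- centralizer of one element -/
abbrev cen (x : G) : Subgroup G := Subgroup.centralizer ({x} : Set G)

omit [Finite G] in
lemma mem_cen {x y : G} : y ∈ cen x ↔ y * x = x * y := by
  rw [Subgroup.mem_centralizer_iff]
  simp [eq_comm]

omit [Finite G] in
lemma cen_self (x : G) : x ∈ cen x := mem_cen.2 rfl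

omit [Finite G] in
lemma mem_cen_symm {x y : G} (h : y ∈ cen x) : x ∈ cen y := mem_cen.2 (mem_cen.1 h).symm

omit [Finite G] in
lemma center_le_cen (x : G) : Subgroup.center G ≤ cen x := fun z hz =>
  mem_cen.2 ((Subgroup.mem_center_iff.1 hz x).symm)

omit [Finite G] in
lemma cen_pow_le (x : G) (n : ℕ) : cen x ≤ cen (x ^ n) := fun y hy =>
  mem_cen.2 (Commute.pow_right (show Commute y x from mem_cen.1 hy) n)

omit [Finite G] in
lemma conj_mem_cen {g x a : G} : g * a * g⁻¹ ∈ cen (g * x * g⁻¹) ↔ a ∈ cen x := by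
  rw [mem_cen, mem_cen]
  constructor <;> intro h
  · have := congrArg (fun t => g⁻¹ * t * g) h
    simpa [mul_assoc] using this
  · have := congrArg (fun t => g * t * g⁻¹) h
    simpa [mul_assoc] using this

omit [Finite G] in
lemma conj_not_center {g x : G} (hx : x ∉ Subgroup.center G) : g * x * g⁻¹ ∉ Subgroup.center G := by
  intro h
  apply hx
  have := (inferInstance : (Subgroup.center G).Normal).conj_mem _ h g⁻¹
  simpa [mul_assoc] using this

/-- `y` is a `p`-element -/
def PEl (p : ℕ) (y : G) : Prop := ∃ k, y ^ p ^ k = 1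

omit [Finite G] in
lemma mem_of_coprime_pows (H : Subgroup G) {a : G} {m n : ℕ} (hc : Nat.Coprime m n)
    (hm : a ^ m ∈ H) (hn : a ^ n ∈ H) : a ∈ H := by
  have hb : (1 : ℤ) = m * Nat.gcdA m n + n * Nat.gcdB m n := by
    have hc' : Nat.gcd m n = 1 := hc
    rw [← Nat.gcd_eq_gcd_ab, hc']
    rfl
  have e : a = (a ^ m) ^ Nat.gcdA m n * (a ^ n) ^ Nat.gcdB m n := by
    rw [← zpow_natCast a m, ← zpow_natCast a n, ← zpow_mul, ← zpow_mul, ← zpow_add, ← hb, zpow_one]
  rw [e]
  exact H.mul_mem (H.zpow_mem hm _) (H.zpow_mem hn _)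

lemma parts {p : ℕ} (hp : p.Prime) (a : G) :
    ∃ m u : ℕ, Nat.Coprime m u ∧ ¬ p ∣ m ∧ PEl p (a ^ m) ∧ (orderOf (a ^ u)).Coprime p := by
  have hn : orderOf a ≠ 0 := (orderOf_pos a).ne'
  refine ⟨orderOf a / p ^ (orderOf a).factorization p, p ^ (orderOf a).factorization p,
    ((Nat.coprime_ordCompl hp hn).pow_left _).symm, Nat.not_dvd_ordCompl hp hn, ⟨(orderOf a).factorization p, ?_⟩, ?_⟩
  · rw [← pow_mul, mul_comm, Nat.ordProj_mul_ordCompl_eq_self, pow_orderOf_eq_one]
  · refine Nat.Coprime.coprime_dvd_left (orderOf_dvd_of_pow_eq_one ?_) (Nat.coprime_ordCompl hp hn).symm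
    rw [← pow_mul, Nat.ordProj_mul_ordCompl_eq_self, pow_orderOf_eq_one]

omit [Finite G] in
lemma coprime_of_pEl {p : ℕ} {x y : G} (hx : PEl p x) (hy : (orderOf y).Coprime p) :
    (orderOf x).Coprime (orderOf y) := by
  obtain ⟨k, hk⟩ := hx
  exact Nat.Coprime.coprime_dvd_left (orderOf_dvd_of_pow_eq_one hk) (hy.symm.pow_left k)

omit [Finite G] in
lemma pEl_isPGroup {p : ℕ} {P : Subgroup G} (hP : IsPGroup p P) {y : G} (hy : y ∈ P) : PEl p y := by
  obtain ⟨k, hk⟩ := hP ⟨y, hy⟩
  exact ⟨k, by simpa [Subtype.ext_iff] using hk⟩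

omit [Finite G] in
lemma pEl_zpowers {p : ℕ} {y : G} (hy : PEl p y) : IsPGroup p (Subgroup.zpowers y) := by
  obtain ⟨k, hk⟩ := hy
  rintro ⟨z, hz⟩
  obtain ⟨i, rfl⟩ := Subgroup.mem_zpowers_iff.1 hz
  refine ⟨k, Subtype.ext ?_⟩
  simp only [SubmonoidClass.coe_pow, OneMemClass.coe_one]
  rw [← zpow_natCast, ← zpow_mul, mul_comm, zpow_mul, zpow_natCast, hk, one_zpow]

omit [Finite G] in
lemma commute_index_prime {M S : Subgroup G} (hSM : S ≤ M) (hS : ∀ m ∈ M, ∀ s ∈ S, s * m = m * s)
    (hpr : (S.relIndex M).Prime) : ∀ a ∈ M, ∀ b ∈ M, a * b = b * a := by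
  intro a ha b hb
  by_cases has : a ∈ S
  · exact hS b hb a has
  · have hle : S ≤ M ⊓ cen a := fun s hs => ⟨hSM hs, mem_cen.2 (hS a ha s hs)⟩
    have hlt : S.relIndex (M ⊓ cen a) ≠ 1 := by
      rw [Ne, Subgroup.relIndex_eq_one]
      exact fun h => has (h ⟨ha, cen_self a⟩)
    have hmul := Subgroup.relIndex_mul_relIndex S (M ⊓ cen a) M hle inf_le_left
    have h1 : (M ⊓ cen a).relIndex M = 1 := by
      rcases hpr.eq_one_or_self_of_dvd _ (Dvd.intro _ hmul) with h | h
      · exact absurd h hlt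
      · rw [h] at hmul
        exact Nat.eq_of_mul_eq_mul_left hpr.pos (hmul.trans (mul_one _).symm)
    rw [Subgroup.relIndex_eq_one] at h1
    exact (mem_cen.1 (h1 hb).2).symm

/-- covering count for the conjugates of a set commuting with `M` -/
lemma cover (M : Subgroup G) (T S : Set G) (hT : ∀ t ∈ T, ∀ a ∈ M, a * t = t * a)
    (hS : ∀ y ∈ S, ∃ g : G, g * y * g⁻¹ ∈ T) : S.ncard ≤ M.index * T.ncard := by
  have hsub : S ⊆ (fun q : (G ⧸ M) × G => q.1.out * q.2 * q.1.out⁻¹) '' (Set.univ ×ˢ T) := by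
    intro y hy
    obtain ⟨g, hg⟩ := hS y hy
    obtain ⟨a, ha⟩ := QuotientGroup.mk_out_eq_mul M g⁻¹
    refine ⟨(QuotientGroup.mk g⁻¹, g * y * g⁻¹), ⟨Set.mem_univ _, hg⟩, ?_⟩
    have hc := hT _ hg a a.2
    have hc' : (a : G) * (g * y * g⁻¹) * (a : G)⁻¹ = g * y * g⁻¹ := by
      rw [hc, mul_inv_cancel_right]
    simp only [ha, mul_inv_rev, inv_inv]
    calc g⁻¹ * ↑a * (g * y * g⁻¹) * ((↑a)⁻¹ * g) = g⁻¹ * (↑a * (g * y * g⁻¹) * (↑a)⁻¹) * g := by group
      _ = y := by rw [hc']; group
  refine (Set.ncard_le_ncard hsub).trans ((Set.ncard_image_le).trans ?_)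
  rw [Set.ncard_prod, Set.ncard_univ]
  rfl

/-- a Sylow subgroup of `M` whose normalizer lies in `M` is a Sylow subgroup of `G` -/
lemma sylow_of_normalizer_le {p : ℕ} [Fact p.Prime] (M : Subgroup G) (P₀ : Sylow p M)
    (h : Subgroup.normalizer (((P₀ : Subgroup M).map M.subtype : Subgroup G) : Set G) ≤ M) :
    ∃ P : Sylow p G, (P : Subgroup G) = (P₀ : Subgroup M).map M.subtype := by
  set Pm := (P₀ : Subgroup M).map M.subtype with hPm
  obtain ⟨P, hle⟩ := (P₀.isPGroup'.map M.subtype).exists_le_sylow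
  refine ⟨P, le_antisymm ?_ hle⟩
  have hPM : (P : Subgroup G) ⊓ M ≤ Pm := by
    intro a ha
    have h2 : IsPGroup p ((P : Subgroup G).subgroupOf M) := P.isPGroup'.comap_subtype
    have h3 : (P₀ : Subgroup M) ≤ (P : Subgroup G).subgroupOf M := fun b hb =>
      Subgroup.mem_subgroupOf.2 (hle ⟨b, hb, rfl⟩)
    have h4 := P₀.is_maximal' h2 h3
    have h5 : (⟨a, ha.2⟩ : M) ∈ (P₀ : Subgroup M) := by
      rw [← h4]
      exact Subgroup.mem_subgroupOf.2 ha.1
    exact ⟨_, h5, rfl⟩
  by_contra hlt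
  have := P.isPGroup'.isNilpotent
  have hne : Pm.subgroupOf (P : Subgroup G) < ⊤ := by
    rw [lt_top_iff_ne_top, Ne, Subgroup.subgroupOf_eq_top]
    exact hlt
  have hgt := Group.normalizerCondition_of_isNilpotent _ hne
  obtain ⟨⟨g, hgP⟩, hgN, hgn⟩ := SetLike.exists_of_lt hgt
  apply hgn
  rw [Subgroup.mem_subgroupOf]
  refine hPM ⟨hgP, h ?_⟩
  rw [Subgroup.mem_normalizer_iff]
  rw [Subgroup.mem_normalizer_iff] at hgN
  intro b
  constructor
  · intro hb
    exact (hgN ⟨b, hle hb⟩).1 hb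
  · intro hb
    have hbP : b ∈ (P : Subgroup G) := by
      have := (P : Subgroup G).mul_mem ((P : Subgroup G).mul_mem ((P : Subgroup G).inv_mem hgP) (hle hb)) hgP
      simpa [mul_assoc] using this
    exact (hgN ⟨b, hbP⟩).2 hb

section main

variable (h : ∀ g : G, g ∉ Subgroup.center G → IsCoatom (cen g))
include h

omit [Finite G] in
lemma cen_eq_of_le {x y : G} (hx : x ∉ Subgroup.center G) (hy : y ∉ Subgroup.center G)
    (hle : cen x ≤ cen y) : cen x = cen y := by
  rcases hle.eq_or_lt with he | hl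
  · exact he
  · exact absurd ((h x hx).2 _ hl) (h y hy).1

omit [Finite G] in
lemma cen_eq_of_coprime {x y : G} (hx : x ∉ Subgroup.center G) (hy : y ∉ Subgroup.center G)
    (hcomm : y ∈ cen x) (hc : (orderOf x).Coprime (orderOf y)) : cen x = cen y := by
  have hxy : Commute x y := (mem_cen.1 hcomm).symm
  have h1 : ∃ n : ℕ, (x * y) ^ n = x := by
    obtain ⟨m, hm⟩ := exists_pow_eq_self_of_coprime hc.symm
    refine ⟨orderOf y * m, ?_⟩
    rw [pow_mul, hxy.mul_pow, pow_orderOf_eq_one, mul_one, hm]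
  have h2 : ∃ n : ℕ, (x * y) ^ n = y := by
    obtain ⟨m, hm⟩ := exists_pow_eq_self_of_coprime hc
    refine ⟨orderOf x * m, ?_⟩
    rw [pow_mul, hxy.mul_pow, pow_orderOf_eq_one, one_mul, hm]
  obtain ⟨n₁, hn₁⟩ := h1
  obtain ⟨n₂, hn₂⟩ := h2
  have hxyc : x * y ∉ Subgroup.center G := fun hz => hx (hn₁ ▸ Subgroup.pow_mem _ hz n₁)
  have e1 := cen_eq_of_le h hxyc hx (by simpa [hn₁] using cen_pow_le (x * y) n₁)
  have e2 := cen_eq_of_le h hxyc hy (by simpa [hn₂] using cen_pow_le (x * y) n₂)
  rw [← e1, e2]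

lemma exists_pEl {x : G} (hx : x ∉ Subgroup.center G) :
    ∃ p : ℕ, p.Prime ∧ p ∣ Nat.card G ∧ ∃ x' : G, x' ∉ Subgroup.center G ∧ PEl p x' ∧ cen x' = cen x := by
  have h1 : orderOf (QuotientGroup.mk x : G ⧸ Subgroup.center G) ≠ 1 := by
    rwa [Ne, orderOf_eq_one_iff, QuotientGroup.eq_one_iff]
  obtain ⟨p, hp, hpd⟩ := Nat.exists_prime_and_dvd h1
  have hpo : p ∣ orderOf x := hpd.trans (orderOf_map_dvd (QuotientGroup.mk' (Subgroup.center G)) x)
  obtain ⟨m, u, -, hpm, hm, -⟩ := parts hp x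
  have hmc : x ^ m ∉ Subgroup.center G := by
    intro hz
    rw [← QuotientGroup.eq_one_iff, QuotientGroup.mk_pow, ← orderOf_dvd_iff_pow_eq_one] at hz
    exact hpm (hpd.trans hz)
  exact ⟨p, hp, hpo.trans (orderOf_dvd_natCard x), x ^ m, hmc, hm,
    (cen_eq_of_le h hx hmc (cen_pow_le x m)).symm⟩

lemma dichotomy {p : ℕ} (hp : p.Prime) {x : G} (hx : x ∉ Subgroup.center G) (hpx : PEl p x) :
    (∀ a ∈ cen x, ∀ b ∈ cen x, a * b = b * a) ∨
      ∀ y ∈ cen x, (orderOf y).Coprime p → y ∈ Subgroup.center G := by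
  by_contra hc
  push Not at hc
  obtain ⟨⟨a, ha, b, hb, hab⟩, y, hy, hyp, hyc⟩ := hc
  have hey : cen x = cen y := cen_eq_of_coprime h hx hyc hy (coprime_of_pEl hpx hyp)
  obtain ⟨m, u, hmu, -, hm, hu⟩ := parts hp a
  have key : a ∈ cen b := by
    apply mem_of_coprime_pows _ hmu
    · by_cases hz : a ^ m ∈ Subgroup.center G
      · exact center_le_cen b hz
      · have hamy : a ^ m ∈ cen y := hey ▸ (cen x).pow_mem ha m
        have he := cen_eq_of_coprime h hz hyc (mem_cen_symm hamy) (coprime_of_pEl hm hyp)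
        apply mem_cen_symm
        rw [he, ← hey]
        exact hb
    · by_cases hz : a ^ u ∈ Subgroup.center G
      · exact center_le_cen b hz
      · have he := cen_eq_of_coprime h hx hz ((cen x).pow_mem ha u) (coprime_of_pEl hpx hu)
        apply mem_cen_symm
        rw [← he]
        exact hb
  exact hab (mem_cen.1 key)

/-- a centralizer in the `p`-type case is `p` modulo the centre -/
lemma sylow_le_center {p : ℕ} {x : G}
    (hM : ∀ y ∈ cen x, (orderOf y).Coprime p → y ∈ Subgroup.center G) {q : ℕ} [Fact q.Prime]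
    (hp : p.Prime) (hq : q ≠ p) (Q : Sylow q (cen x)) :
    (Q : Subgroup (cen x)) ≤ (Subgroup.center G).subgroupOf (cen x) := by
  intro y hy
  rw [Subgroup.mem_subgroupOf]
  refine hM _ y.2 ?_
  obtain ⟨k, hk⟩ := Q.isPGroup' ⟨y, hy⟩
  have : (y : G) ^ q ^ k = 1 := by simpa [Subtype.ext_iff] using hk
  exact Nat.Coprime.coprime_dvd_left (orderOf_dvd_of_pow_eq_one this)
    ((Nat.coprime_primes Fact.out hp).2 hq |>.pow_left k)

lemma center_relIndex {p : ℕ} (hp : p.Prime) {x : G}
    (hM : ∀ y ∈ cen x, (orderOf y).Coprime p → y ∈ Subgroup.center G) :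
    ∀ q : ℕ, q.Prime → q ∣ (Subgroup.center G).relIndex (cen x) → q = p := by
  intro q hq hd
  by_contra hne
  have : Fact q.Prime := ⟨hq⟩
  let Q : Sylow q (cen x) := default
  exact Q.not_dvd_index (hd.trans (Subgroup.index_dvd_of_le (sylow_le_center h hM hp hne Q)))

lemma solvable_of_normal {x : G} (hx : x ∉ Subgroup.center G) (hn : (cen x).Normal) :
    Group.IsSolvable G := by
  obtain ⟨p, hp, -, x', hx', hpx', he⟩ := exists_pEl h hx
  rw [← he] at hn
  have : Fact p.Prime := ⟨hp⟩
  have hsM : Group.IsSolvable (cen x') := by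
    rcases dichotomy h hp hx' hpx' with hab | hM
    · exact Group.isSolvable_of_comm fun a b => Subtype.ext (hab a a.2 b b.2)
    · let f : cen x' →* G ⧸ Subgroup.center G := (QuotientGroup.mk' _).comp (cen x').subtype
      have hr : IsPGroup p f.range := by
        rintro ⟨_, a, rfl⟩
        obtain ⟨m, u, -, -, -, hu⟩ := parts hp (a : G)
        obtain ⟨m', k', -, -, ⟨k, hk⟩, -⟩ := parts hp (a : G)
        have hu' : ((a : G) ^ (p ^ (orderOf (a : G)).factorization p)) ∈ Subgroup.center G := by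
          refine hM _ ((cen x').pow_mem a.2 _) ?_
          refine Nat.Coprime.coprime_dvd_left (orderOf_dvd_of_pow_eq_one ?_)
            (Nat.coprime_ordCompl hp (orderOf_pos (a : G)).ne').symm
          rw [← pow_mul, Nat.ordProj_mul_ordCompl_eq_self, pow_orderOf_eq_one]
        refine ⟨(orderOf (a : G)).factorization p, Subtype.ext ?_⟩
        simp only [SubmonoidClass.coe_pow, OneMemClass.coe_one, f, MonoidHom.comp_apply]
        rw [← map_pow]
        exact (QuotientGroup.eq_one_iff _).2 hu'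
      have : Group.IsNilpotent f.range := hr.isNilpotent
      have hk : Group.IsSolvable f.ker := by
        refine Group.isSolvable_of_comm fun a b => ?_
        have ha : ((a : cen x') : G) ∈ Subgroup.center G := (QuotientGroup.eq_one_iff _).1 a.2
        exact Subtype.ext (Subtype.ext ((Subgroup.mem_center_iff.1 ha _).symm))
      exact Group.isSolvable_of_ker_le_range f.ker.subtype f.rangeRestrict
        (by rw [MonoidHom.ker_rangeRestrict, Subgroup.range_subtype])
  have hsq : Group.IsSolvable (G ⧸ cen x') := by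
    by_cases hs : Subsingleton (G ⧸ cen x')
    · exact Group.isSolvable_of_comm fun a b => Subsingleton.elim _ _
    obtain ⟨a, ha⟩ : ∃ a : G ⧸ cen x', a ≠ 1 := by
      by_contra hc
      push Not at hc
      exact hs ⟨fun a b => (hc a).trans (hc b).symm⟩
    have hz : ∀ b : G ⧸ cen x', b ∈ Subgroup.zpowers a := by
      intro b
      obtain ⟨b, rfl⟩ := QuotientGroup.mk'_surjective _ b
      have hlt : cen x' < (Subgroup.zpowers a).comap (QuotientGroup.mk' (cen x')) := by
        refine lt_of_le_of_ne ?_ ?_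
        · intro c hc
          rw [Subgroup.mem_comap, QuotientGroup.mk'_apply, (QuotientGroup.eq_one_iff c).2 hc]
          exact Subgroup.one_mem _
        · intro heq
          obtain ⟨c, rfl⟩ := QuotientGroup.mk'_surjective _ a
          exact ha ((QuotientGroup.eq_one_iff c).2 (heq ▸ Subgroup.mem_comap.2 (Subgroup.mem_zpowers _)))
      have := (h x' hx').2 _ hlt
      exact Subgroup.mem_comap.1 (this ▸ Subgroup.mem_top b)
    refine Group.isSolvable_of_comm fun b c => ?_
    obtain ⟨i, rfl⟩ := Subgroup.mem_zpowers_iff.1 (hz b)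
    obtain ⟨j, rfl⟩ := Subgroup.mem_zpowers_iff.1 (hz c)
    exact zpow_mul_comm a i j
  exact Group.isSolvable_of_ker_le_range (cen x').subtype (QuotientGroup.mk' (cen x'))
    (by rw [QuotientGroup.ker_mk', Subgroup.range_subtype])

variable (hns : ¬ Group.IsSolvable G)
include hns

lemma normalizer_cen {x : G} (hx : x ∉ Subgroup.center G) :
    Subgroup.normalizer (cen x : Set G) = cen x := by
  rcases (Subgroup.le_normalizer (H := cen x)).eq_or_lt with he | hl
  · exact he.symm
  · have := (h x hx).2 _ hl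
    exact absurd (solvable_of_normal h hx (Subgroup.normalizer_eq_top_iff.1 this)) hns

lemma four_le_index : 4 ≤ (Subgroup.center G).index := by
  by_contra hlt
  push Not at hlt
  apply hns
  apply Group.isSolvable_of_comm
  have h0 : (Subgroup.center G).index ≠ 0 := Subgroup.index_ne_zero_of_finite
  intro a b
  by_cases h1 : (Subgroup.center G).index = 1
  · rw [Subgroup.index_eq_one] at h1
    exact (Subgroup.mem_center_iff.1 (h1 ▸ Subgroup.mem_top b) a)
  · have hpr : ((Subgroup.center G).relIndex (⊤ : Subgroup G)).Prime := by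
      rw [Subgroup.relIndex_top_right]
      interval_cases hh : (Subgroup.center G).index
      · exact absurd rfl h0
      · exact absurd rfl h1
      · exact Nat.prime_two
      · exact Nat.prime_three
    exact commute_index_prime le_top (fun m _ s hs => (Subgroup.mem_center_iff.1 hs m).symm) hpr a
      (Subgroup.mem_top a) b (Subgroup.mem_top b)

/-- no centralizer is abelian -/
lemma no_abelian {x₀ : G} (hx₀ : x₀ ∉ Subgroup.center G)
    (hab₀ : ∀ a ∈ cen x₀, ∀ b ∈ cen x₀, a * b = b * a) : False := by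
  obtain ⟨p, hp, -, x, hx, hpx, he⟩ := exists_pEl h hx₀
  have hab : ∀ a ∈ cen x, ∀ b ∈ cen x, a * b = b * a := by rw [he]; exact hab₀
  clear hab₀ he hx₀
  have : Fact p.Prime := ⟨hp⟩
  set A := cen x with hA
  -- any non-central element of A has centralizer A
  have hcA : ∀ a ∈ A, a ∉ Subgroup.center G → cen a = A := fun a ha hac =>
    (cen_eq_of_le h hx hac (fun b hb => mem_cen.2 (hab b hb a ha))).symm
  obtain ⟨P₀, hP₀⟩ := IsPGroup.exists_le_sylow
    (pEl_zpowers (y := (⟨x, cen_self x⟩ : A)) (p := p) (by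
      obtain ⟨k, hk⟩ := hpx
      exact ⟨k, Subtype.ext (by simpa using hk)⟩))
  have hnorm : Subgroup.normalizer (((P₀ : Subgroup A).map A.subtype : Subgroup G) : Set G) ≤ A := by
    intro g hg
    have hxP : x ∈ (P₀ : Subgroup A).map A.subtype := ⟨_, hP₀ (Subgroup.mem_zpowers _), rfl⟩
    have hgx : g * x * g⁻¹ ∈ A := Subgroup.map_subtype_le _ ((Subgroup.mem_normalizer_iff.1 hg x).1 hxP)
    have hce := hcA _ hgx (conj_not_center hx)
    show g ∈ cen x
    rw [← normalizer_cen h hns hx, Subgroup.mem_normalizer_iff]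
    intro b
    show b ∈ cen x ↔ g * b * g⁻¹ ∈ A
    rw [← hce, conj_mem_cen]
  obtain ⟨Q, hQ⟩ := sylow_of_normalizer_le A P₀ hnorm
  have hQA : (Q : Subgroup G) ≤ A := hQ ▸ Subgroup.map_subtype_le _
  have hNC : Subgroup.normalizer ((Q : Subgroup G) : Set G) ≤ Subgroup.centralizer ((Q : Subgroup G) : Set G) := by
    rw [hQ]
    intro g hg
    rw [Subgroup.mem_centralizer_iff]
    intro b hb
    exact hab b (Subgroup.map_subtype_le _ hb) g (hnorm hg)
  let f : G →* (Q : Subgroup G) := MonoidHom.transferSylow Q hNC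
  have hker : ¬ p ∣ Nat.card f.ker := MonoidHom.not_dvd_card_ker_transferSylow Q hNC
  have hfree : ∀ a : G, (orderOf a).Coprime p → a ∈ f.ker := by
    intro a ha
    rw [MonoidHom.mem_ker, ← orderOf_eq_one_iff]
    obtain ⟨k, hk⟩ := Q.isPGroup' (f a)
    exact Nat.Coprime.eq_one_of_dvd
      ((ha.pow_right k).coprime_dvd_left (orderOf_map_dvd f a)) (orderOf_dvd_of_pow_eq_one hk)
  -- every non-central element has centralizer conjugate to A
  have hall : ∀ y, y ∉ Subgroup.center G → ∃ g : G, cen (g * y * g⁻¹) = A := by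
    intro y hy
    by_contra hno
    push Not at hno
    have hpel : ∀ a ∈ cen y, PEl p a → a ∈ Subgroup.center G := by
      intro a ha hap
      by_contra hac
      obtain ⟨R, hR⟩ := (pEl_zpowers hap).exists_le_sylow
      obtain ⟨g, hg⟩ := MulAction.exists_smul_eq G R Q
      have hga : g * a * g⁻¹ ∈ A := hQA (by
        have hmem := hR (Subgroup.mem_zpowers a)
        rw [← hg]
        exact ⟨a, hmem, rfl⟩)
      have hgy : g * y * g⁻¹ ∈ A := by
        rw [← hcA _ hga (conj_not_center hac), conj_mem_cen]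
        exact mem_cen_symm ha
      exact hno g (hcA _ hgy (conj_not_center hy))
    have hle : cen y ≤ f.ker ⊔ Subgroup.center G := by
      intro a ha
      obtain ⟨m, u, hmu, -, hm, hu⟩ := parts hp a
      exact mem_of_coprime_pows _ hmu (Subgroup.mem_sup_right (hpel _ ((cen y).pow_mem ha m) hm))
        (Subgroup.mem_sup_left (hfree _ hu))
    have hN : (f.ker ⊔ Subgroup.center G).Normal := Subgroup.sup_normal _ _
    rcases hle.eq_or_lt with heq | hlt
    · exact hns (solvable_of_normal h hy (heq ▸ hN))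
    have htop := (h y hy).2 _ hlt
    obtain ⟨k, hk, z, hz, hkz⟩ := Subgroup.mem_sup_of_normal_left.1 (htop ▸ Subgroup.mem_top x)
    obtain ⟨m, u, hmu, hpm, hm, hu⟩ := parts hp z
    obtain ⟨i, hi⟩ := hpx
    have hcz : Commute x z := Subgroup.mem_center_iff.1 hz x
    -- x ^ m * (z ^ m)⁻¹ is a p-element of the kernel
    set t := x ^ m * (z ^ m)⁻¹ with ht
    have htk : t ∈ f.ker := by
      rw [MonoidHom.mem_ker, ht, map_mul, map_inv, map_pow, map_pow, ← hkz, map_mul,
        MonoidHom.mem_ker.1 hk, one_mul, mul_inv_cancel]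
    obtain ⟨j, hj⟩ := hm
    have htp : t ^ p ^ (i + j) = 1 := by
      rw [ht, ((hcz.pow_pow m m).inv_right).mul_pow, inv_pow]
      have e1 : (x ^ m) ^ p ^ (i + j) = 1 := by
        rw [← pow_mul, pow_add, ← mul_assoc, mul_comm m (p ^ i), mul_assoc, pow_mul, hi, one_pow]
      have e2 : ((z : G) ^ m) ^ p ^ (i + j) = 1 := by
        rw [pow_add, mul_comm, pow_mul, hj, one_pow]
      rw [e1, e2, inv_one, mul_one]
    have ht1 : t = 1 := by
      rw [← orderOf_eq_one_iff]
      refine Nat.Coprime.eq_one_of_dvd ?_ (Subgroup.orderOf_dvd_natCard _ htk)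
      exact Nat.Coprime.coprime_dvd_left (orderOf_dvd_of_pow_eq_one htp)
        ((hp.coprime_iff_not_dvd.2 hker).pow_left _)
    rw [ht, mul_inv_eq_one] at ht1
    refine hx (mem_of_coprime_pows (Subgroup.center G) (m := m) (n := p ^ i) ?_
      (ht1 ▸ Subgroup.pow_mem _ hz m) (by rw [hi]; exact Subgroup.one_mem _))
    exact ((hp.coprime_iff_not_dvd.2 hpm).pow_left i).symm
  -- counting
  set S : Set G := ((Subgroup.center G : Subgroup G) : Set G)ᶜ with hS
  set T : Set G := (A : Set G) \ (Subgroup.center G : Set G) with hT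
  have hcov : S.ncard ≤ A.index * T.ncard := by
    refine cover A T S (fun t ht a ha => hab a ha t ht.1) ?_
    intro y hy
    obtain ⟨g, hg⟩ := hall y hy
    exact ⟨g, hg ▸ cen_self _, conj_not_center hy⟩
  have hZA : (Subgroup.center G : Set G) ⊆ (A : Set G) := center_le_cen x
  have h1 := Set.ncard_sdiff_add_ncard_of_subset hZA
  have h2 := Set.ncard_add_ncard_compl ((Subgroup.center G : Subgroup G) : Set G)
  have h3 := A.index_mul_card
  rw [← hS] at h2
  rw [← hT] at h1
  change T.ncard + Nat.card (Subgroup.center G) = Nat.card A at h1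
  change Nat.card (Subgroup.center G) + S.ncard = Nat.card G at h2
  have hz := Nat.card_pos (α := Subgroup.center G)
  have hi1 : A.index = 1 := by
    have hi0 : A.index ≠ 0 := Subgroup.index_ne_zero_of_finite
    rw [← h1, Nat.mul_add] at h3
    have : A.index * Nat.card (Subgroup.center G) ≤ 1 * Nat.card (Subgroup.center G) := by
      rw [one_mul]
      omega
    have := Nat.le_of_mul_le_mul_right this hz
    omega
  exact (h x hx).1 (Subgroup.index_eq_one.1 hi1)

lemma type_bound {p : ℕ} (hp : p.Prime) :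
    {y : G | y ∉ Subgroup.center G ∧
      ∀ a ∈ cen y, (orderOf a).Coprime p → a ∈ Subgroup.center G}.ncard * p ^ 2 ≤ Nat.card G := by
  set S := {y : G | y ∉ Subgroup.center G ∧
      ∀ a ∈ cen y, (orderOf a).Coprime p → a ∈ Subgroup.center G} with hS
  rcases S.eq_empty_or_nonempty with he | ⟨x, hx, hM⟩
  · simp [he]
  have : Fact p.Prime := ⟨hp⟩
  have hsyl : ∀ y, y ∈ S → ∃ P : Sylow p G, (P : Subgroup G) ≤ cen y ∧
      cen y ≤ Subgroup.center G ⊔ (P : Subgroup G) := by
    rintro y ⟨hy, hyM⟩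
    set M := cen y with hMdef
    let P₀ : Sylow p M := default
    set Pm := (P₀ : Subgroup M).map M.subtype with hPm
    have hle : M ≤ Subgroup.center G ⊔ Pm := by
      rw [← Subgroup.relIndex_eq_one, Nat.eq_one_iff_not_exists_prime_dvd]
      intro q hq hd
      by_cases hqp : q = p
      · subst hqp
        refine P₀.not_dvd_index (hd.trans (Subgroup.index_dvd_of_le fun b hb => ?_))
        exact Subgroup.mem_subgroupOf.2 (Subgroup.mem_sup_right ⟨b, hb, rfl⟩)
      · refine hqp (center_relIndex h hp hyM q hq (hd.trans ?_))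
        exact Subgroup.relIndex_dvd_of_le_left _ le_sup_left
    have hnorm : Subgroup.normalizer (Pm : Set G) ≤ M := by
      have key : ∀ g ∈ Subgroup.normalizer (Pm : Set G), ∀ b ∈ M, g * b * g⁻¹ ∈ M := by
        intro g hg b hb
        have : M ≤ M.comap (MulAut.conj g).toMonoidHom := by
          refine hle.trans (sup_le ?_ ?_)
          · intro c hc
            show g * c * g⁻¹ ∈ M
            rw [(Subgroup.mem_center_iff.1 hc g), mul_inv_cancel_right]
            exact center_le_cen y hc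
          · intro c hc
            show g * c * g⁻¹ ∈ M
            exact Subgroup.map_subtype_le _ ((Subgroup.mem_normalizer_iff.1 hg c).1 hc)
        exact this hb
      intro g hg
      show g ∈ cen y
      rw [← normalizer_cen h hns hy, Subgroup.mem_normalizer_iff]
      intro b
      refine ⟨key g hg b, fun hb => ?_⟩
      have := key g⁻¹ (inv_mem hg) _ hb
      simpa [mul_assoc] using this
    obtain ⟨P, hP⟩ := sylow_of_normalizer_le M P₀ hnorm
    exact ⟨P, hP ▸ Subgroup.map_subtype_le _, hP ▸ hle⟩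
  obtain ⟨P, hPM, hMP⟩ := hsyl x ⟨hx, hM⟩
  set M := cen x with hMdef
  set Zm := M ⊓ Subgroup.centralizer (M : Set G) with hZm
  have hcov : S.ncard ≤ M.index * (Zm : Set G).ncard := by
    refine cover M Zm S (fun t ht a ha => ?_) ?_
    · exact (Subgroup.mem_centralizer_iff.1 ht.2 a ha)
    intro y hy
    obtain ⟨P', hP', -⟩ := hsyl y hy
    obtain ⟨g, hg⟩ := MulAction.exists_smul_eq G P' P
    have he : M = cen (g * y * g⁻¹) := by
      refine cen_eq_of_le h hx (conj_not_center hy.1) (hMP.trans (sup_le (center_le_cen _) ?_))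
      intro b hb
      rw [← hg] at hb
      obtain ⟨c, hc, rfl⟩ := hb
      exact conj_mem_cen.2 (hP' hc)
    refine ⟨g, he ▸ cen_self _, Subgroup.mem_centralizer_iff.2 fun b hb => ?_⟩
    rw [he] at hb
    exact mem_cen.1 hb
  have hnab : ¬ ∀ a ∈ M, ∀ b ∈ M, a * b = b * a := fun hab => no_abelian h hns hx hab
  have hrel : p ^ 2 ∣ Zm.relIndex M := by
    have hn : Zm.relIndex M ≠ 0 := Subgroup.index_ne_zero_of_finite
    have hZ : Subgroup.center G ≤ Zm := fun z hz =>
      ⟨center_le_cen x hz, Subgroup.mem_centralizer_iff.2 fun b _ => Subgroup.mem_center_iff.1 hz b⟩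
    have hpk : ∀ q, q.Prime → q ∣ Zm.relIndex M → q = p := fun q hq hd =>
      center_relIndex h hp hM q hq (hd.trans (Subgroup.relIndex_dvd_of_le_left _ hZ))
    have hk := Nat.eq_prime_pow_of_unique_prime_dvd hn fun {q} hq hd => hpk q hq hd
    have hcomm : ∀ m ∈ M, ∀ s ∈ Zm, s * m = m * s := fun m hm s hs =>
      ((Subgroup.mem_centralizer_iff.1 hs.2 m hm)).symm
    have h0 : (Zm.relIndex M).primeFactorsList.length ≠ 0 := by
      intro h0
      rw [h0, pow_zero, Subgroup.relIndex_eq_one] at hk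
      exact hnab fun a ha b hb => (hcomm a ha b (hk hb)).symm
    have h1 : (Zm.relIndex M).primeFactorsList.length ≠ 1 := by
      intro h1
      rw [h1, pow_one] at hk
      exact hnab (commute_index_prime inf_le_left hcomm (hk ▸ hp))
    rw [hk]
    exact Nat.pow_dvd_pow p (by omega)
  have hM2 : (Zm : Set G).ncard * p ^ 2 ≤ Nat.card M := by
    change Nat.card Zm * p ^ 2 ≤ Nat.card M
    have := Subgroup.relIndex_mul_relIndex ⊥ Zm M bot_le inf_le_left
    rw [Subgroup.relIndex_bot_left, Subgroup.relIndex_bot_left] at this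
    rw [← this]
    exact Nat.mul_le_mul_left _ (Nat.le_of_dvd
      (Nat.pos_of_ne_zero Subgroup.index_ne_zero_of_finite) hrel)
  calc S.ncard * p ^ 2 ≤ M.index * (Zm : Set G).ncard * p ^ 2 := Nat.mul_le_mul_right _ hcov
    _ ≤ M.index * Nat.card M := by rw [mul_assoc]; exact Nat.mul_le_mul_left _ hM2
    _ = Nat.card G := M.index_mul_card

omit h hns [Finite G] in
lemma sum_inv_sq_lt (s : Finset ℕ) (hs : ∀ n ∈ s, 2 ≤ n) : ∑ n ∈ s, (1 : ℚ) / (n : ℚ) ^ 2 < 3 / 4 := by
  have key : ∀ N : ℕ, ∑ n ∈ Finset.Icc 2 (N + 2), (1 : ℚ) / (n : ℚ) ^ 2 ≤ 3 / 4 - 1 / (N + 2) := by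
    intro N
    induction N with
    | zero => norm_num
    | succ N ih =>
      rw [Finset.sum_Icc_succ_top (by omega)]
      have : (1 : ℚ) / ((N + 2 + 1 : ℕ) : ℚ) ^ 2 ≤ 1 / ((N : ℚ) + 2) - 1 / ((N : ℚ) + 2 + 1) := by
        push_cast
        rw [div_sub_div _ _ (by positivity) (by positivity), div_le_div_iff₀ (by positivity) (by positivity)]
        nlinarith [(Nat.cast_nonneg N : (0 : ℚ) ≤ N)]
      push_cast at *
      linarith [show (1 : ℚ) / ((N : ℚ) + 1 + 2) = 1 / ((N : ℚ) + 2 + 1) by ring]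
  have h1 := key (s.sup id)
  have h2 : ∑ n ∈ s, (1 : ℚ) / (n : ℚ) ^ 2 ≤ ∑ n ∈ Finset.Icc 2 (s.sup id + 2), (1 : ℚ) / (n : ℚ) ^ 2 := by
    apply Finset.sum_le_sum_of_subset_of_nonneg
    · intro n hn
      rw [Finset.mem_Icc]
      have : id n ≤ s.sup id := Finset.le_sup hn
      exact ⟨hs n hn, by simp only [id_eq] at this; omega⟩
    · intros; positivity
  have : (0 : ℚ) < 1 / ((s.sup id : ℕ) + 2) := by positivity
  linarith

theorem absurd_nonsolvable : False := by
  classical
  set S : ℕ → Set G := fun p => {y : G | y ∉ Subgroup.center G ∧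
      ∀ a ∈ cen y, (orderOf a).Coprime p → a ∈ Subgroup.center G}
  set P := (Nat.card G).primeFactors with hP
  have hcov : ((Subgroup.center G : Subgroup G) : Set G)ᶜ ⊆ ⋃ p ∈ P, S p := by
    intro y hy
    obtain ⟨p, hp, hpd, x', hx', hpx', he⟩ := exists_pEl h (x := y) hy
    rcases dichotomy h hp hx' hpx' with hab | hM
    · exact (no_abelian h hns hx' hab).elim
    · simp only [Set.mem_iUnion]
      refine ⟨p, hp.mem_primeFactors hpd Nat.card_pos.ne', hy, ?_⟩
      rw [← he]
      exact hM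
  have h1 : (((Subgroup.center G : Subgroup G) : Set G)ᶜ).ncard ≤ ∑ p ∈ P, (S p).ncard :=
    (Set.ncard_le_ncard hcov).trans (Finset.set_ncard_biUnion_le _ _)
  have h2 := Set.ncard_add_ncard_compl ((Subgroup.center G : Subgroup G) : Set G)
  change Nat.card (Subgroup.center G) + _ = Nat.card G at h2
  have h3 := (Subgroup.center G).index_mul_card
  have h4 := Nat.mul_le_mul_right (Nat.card (Subgroup.center G)) (four_le_index h hns)
  have h5 : ∀ p ∈ P, ((S p).ncard : ℚ) ≤ (Nat.card G : ℚ) * (1 / (p : ℚ) ^ 2) := by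
    intro p hp
    have hpp := Nat.prime_of_mem_primeFactors hp
    rw [mul_one_div, le_div_iff₀ (by have := hpp.pos; positivity)]
    exact_mod_cast type_bound h hns hpp
  have h6 : ((∑ p ∈ P, (S p).ncard : ℕ) : ℚ) ≤ (Nat.card G : ℚ) * ∑ p ∈ P, 1 / (p : ℚ) ^ 2 := by
    push_cast
    rw [Finset.mul_sum]
    exact Finset.sum_le_sum h5
  have h7 := sum_inv_sq_lt P fun n hn => (Nat.prime_of_mem_primeFactors hn).two_le
  have h8 : (4 : ℚ) * (Nat.card (Subgroup.center G) : ℚ) ≤ Nat.card G := by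
    exact_mod_cast h4.trans h3.le
  have h9 : (Nat.card G : ℚ) ≤ Nat.card (Subgroup.center G) + ((∑ p ∈ P, (S p).ncard : ℕ) : ℚ) := by
    exact_mod_cast (by omega : Nat.card G ≤ Nat.card (Subgroup.center G) + ∑ p ∈ P, (S p).ncard)
  have hG : (0 : ℚ) < Nat.card G := by exact_mod_cast Nat.card_pos
  nlinarith

end main

end helpers

/-- Let G be a finite group in which the centralizer of every non-central element is a maximal subgroup of G. Then G is solvable. -/
theorem result {G : Type*} [Group G] [Finite G]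
    (h : ∀ g : G, g ∉ Subgroup.center G → IsCoatom (Subgroup.centralizer ({g} : Set G))) :
    Group.IsSolvable G := by
  by_contra hns
  exact absurd_nonsolvable h hns

end Cfsg.Agent.S4262
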