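import Cfsg.Statements.S4264
import Mathlib
import Cfsg.Agent.S4201
-- import your own Cfsg.Agent.* helpers here

set_option autoImplicit false
open Cfsg

namespace Cfsg.Agent.S4264

/-
A group `H` of permutations moving only `n ≥ 1` points has at most `5 ^ n / (5 n)` classes.
Proof: strong induction on `n`; the classes are covered by following the cycle through one
point, branching only into a largest orbit of the stabilizer of the path followed so far, and
bounding the remaining orbits by the lemma that a subgroup `L` has at most `[H : L] k(L)` orbits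
by conjugation on a coset of `H`.
-/

section helpers

open Finset

variable {α : Type*} [Fintype α] [DecidableEq α]

/-- `H` moves only points of `U`. -/
def Supp (H : Subgroup (Equiv.Perm α)) (U : Finset α) : Prop := ∀ h ∈ H, ∀ a, a ∉ U → h a = a

theorem Supp.mapsTo {H : Subgroup (Equiv.Perm α)} {U : Finset α} (hH : Supp H U) {h : Equiv.Perm α}
    (hh : h ∈ H) {a : α} (ha : a ∈ U) : h a ∈ U := by
  by_contra hc
  have h1 := h.injective (hH h hh _ hc)
  exact hc (h1.symm ▸ ha)

theorem invariant_iff {H : Subgroup (Equiv.Perm α)} {P : Finset α}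
    (hP : ∀ h ∈ H, ∀ a ∈ P, h a ∈ P) {h : Equiv.Perm α} (hh : h ∈ H) (a : α) : h a ∈ P ↔ a ∈ P := by
  refine ⟨fun ha => ?_, hP h hh a⟩
  simpa using hP _ (H.inv_mem hh) _ ha

/-- The number of classes. -/
noncomputable abbrev k (G : Type*) [Group G] : ℕ := Nat.card (ConjClasses G)

theorem k_le_of_surjective {X Y : Type*} [Group X] [Group Y] [Finite X] (f : X →* Y)
    (hf : Function.Surjective f) : k Y ≤ k X :=
  Nat.card_le_card_of_surjective _ (ConjClasses.map_surjective hf)

theorem k_le_one {H : Subgroup (Equiv.Perm α)} (hH : Supp H ∅) : k H ≤ 1 := by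
  have : Subsingleton H := ⟨fun a b => Subtype.ext (Equiv.ext fun x => by
    rw [hH _ a.2 x (Finset.notMem_empty x), hH _ b.2 x (Finset.notMem_empty x)])⟩
  exact Finite.card_le_one_iff_subsingleton.mpr ConjClasses.mk_surjective.subsingleton

/-- A conjugation-stable set inside a coset of `H` meets few orbits of `L`. -/
theorem exists_reps {X : Type*} [Group X] [Finite X] (H L : Subgroup X) (S : Set X)
    (hS : ∀ l ∈ L, ∀ x ∈ S, l * x * l⁻¹ ∈ S) (hd : ∀ x ∈ S, ∀ y ∈ S, x⁻¹ * y ∈ H) (m : ℕ)
    (hm : ∀ l ∈ L, Nat.card {y : H // Commute l (y : X)} ≤ m * Nat.card {y : L // Commute l (y : X)}) :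
    ∃ R : Finset X, R.card ≤ m * k L ∧ ∀ x ∈ S, ∃ r ∈ R, ∃ l ∈ L, x = l * r * l⁻¹ := by
  classical
  have := Fintype.ofFinite L
  letI : MulAction L S :=
    { smul := fun l x => ⟨(l : X) * x * (l : X)⁻¹, hS l l.2 x x.2⟩
      one_smul := fun x => Subtype.ext (show ((1 : L) : X) * x * ((1 : L) : X)⁻¹ = x by simp)
      mul_smul := fun a b x => Subtype.ext (show ((a * b : L) : X) * x * ((a * b : L) : X)⁻¹ =
        (a : X) * ((b : X) * x * (b : X)⁻¹) * (a : X)⁻¹ by simp [mul_assoc]) }
  have := Fintype.ofFinite (Quotient (MulAction.orbitRel L S))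
  refine ⟨Finset.univ.image (fun q : Quotient (MulAction.orbitRel L S) => ((q.out : S) : X)), ?_, ?_⟩
  · refine Finset.card_image_le.trans ?_
    rw [Finset.card_univ, ← Nat.card_eq_fintype_card]
    refine Nat.le_of_mul_le_mul_right ?_ (Nat.card_pos (α := L))
    rw [← Nat.card_prod, ← Nat.card_congr (MulAction.sigmaFixedByEquivOrbitsProdGroup L S),
      Nat.card_sigma, mul_assoc, k, ← card_comm_eq_card_conjClasses_mul_card L,
      Nat.card_congr (Equiv.subtypeProdEquivSigmaSubtype fun a b : L => Commute a b),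
      Nat.card_sigma, Finset.mul_sum]
    refine Finset.sum_le_sum fun l _ => ?_
    have hL : Nat.card {y : L // Commute l y} = Nat.card {y : L // Commute (l : X) (y : X)} :=
      Nat.card_congr (Equiv.subtypeEquivRight fun y => by
        simp [Commute, SemiconjBy, Subtype.ext_iff])
    rw [hL]
    refine le_trans ?_ (hm l l.2)
    rcases isEmpty_or_nonempty (MulAction.fixedBy S l) with he | ⟨⟨x₀, hx₀⟩⟩
    · simp
    have hc : ∀ x : S, x ∈ MulAction.fixedBy S l → Commute (l : X) (x : X) := fun x hx =>
      mul_inv_eq_iff_eq_mul.mp (congrArg Subtype.val hx)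
    refine Nat.card_le_card_of_injective (fun x =>
      ⟨⟨(x₀ : X)⁻¹ * (x.1 : X), hd _ x₀.2 _ x.1.2⟩, ((hc x₀ hx₀).inv_right).mul_right (hc x.1 x.2)⟩) ?_
    intro x y hxy
    exact Subtype.ext (Subtype.ext (mul_left_cancel (congrArg (fun z => ((z.1 : H) : X)) hxy)))
  · intro x hx
    let q : Quotient (MulAction.orbitRel L S) := Quotient.mk _ ⟨x, hx⟩
    obtain ⟨l, hl⟩ : ∃ l : L, l • (⟨x, hx⟩ : S) = q.out :=
      Quotient.mk_out (s := MulAction.orbitRel L S) (⟨x, hx⟩ : S)
    refine ⟨_, Finset.mem_image.mpr ⟨q, Finset.mem_univ _, rfl⟩, (l : X)⁻¹, L.inv_mem l.2, ?_⟩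
    have h2 : (q.out : X) = (l : X) * x * (l : X)⁻¹ := (congrArg Subtype.val hl).symm
    rw [h2]
    group

/-- The stabilizer of `β` in `K`. -/
def stab (K : Subgroup (Equiv.Perm α)) (β : α) : Subgroup (Equiv.Perm α) :=
  K ⊓ MulAction.stabilizer (Equiv.Perm α) β

theorem mem_stab {K : Subgroup (Equiv.Perm α)} {β : α} {h : Equiv.Perm α} :
    h ∈ stab K β ↔ h ∈ K ∧ h β = β := by
  simp [stab, MulAction.mem_stabilizer_iff]

theorem supp_stab {K : Subgroup (Equiv.Perm α)} {U : Finset α} (hK : Supp K U) (β : α) :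
    Supp (stab K β) (U.erase β) := by
  intro h hh a ha
  obtain ⟨h1, h2⟩ := mem_stab.mp hh
  rcases eq_or_ne a β with rfl | hne
  · exact h2
  · exact hK h h1 a fun hU => ha (Finset.mem_erase.mpr ⟨hne, hU⟩)

theorem commute_count_le (K : Subgroup (Equiv.Perm α)) (β : α) (Δ : Finset α)
    (hΔ : ∀ h ∈ K, h β ∈ Δ) (l : Equiv.Perm α) :
    Nat.card {y : K // Commute l (y : Equiv.Perm α)} ≤
      Δ.card * Nat.card {y : stab K β // Commute l (y : Equiv.Perm α)} := by
  classical
  rw [Nat.card_eq_fintype_card, ← Finset.card_univ, mul_comm]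
  refine Finset.card_le_mul_card_image_of_maps_to (f := fun y => (y.1 : Equiv.Perm α) β)
    (fun y _ => hΔ _ y.1.2) _ fun b _ => ?_
  rcases (Finset.univ.filter fun y : {y : K // Commute l (y : Equiv.Perm α)} =>
    (y.1 : Equiv.Perm α) β = b).eq_empty_or_nonempty with he | ⟨y₀, hy₀⟩
  · rw [he]; simp
  rw [← Fintype.card_coe, ← Nat.card_eq_fintype_card]
  have hmem : ∀ y ∈ (Finset.univ.filter fun y : {y : K // Commute l (y : Equiv.Perm α)} =>
      (y.1 : Equiv.Perm α) β = b), (y₀.1 : Equiv.Perm α)⁻¹ * y.1 ∈ stab K β := by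
    intro y hy
    refine mem_stab.mpr ⟨K.mul_mem (K.inv_mem y₀.1.2) y.1.2, ?_⟩
    rw [Equiv.Perm.mul_apply, (Finset.mem_filter.mp hy).2, ← (Finset.mem_filter.mp hy₀).2]
    simp
  refine Nat.card_le_card_of_injective
    (fun y => ⟨⟨_, hmem y.1 y.2⟩, y₀.2.inv_right.mul_right y.1.2⟩) ?_
  intro x y hxy
  exact Subtype.ext (Subtype.ext (Subtype.ext (mul_left_cancel
    (congrArg (fun z => ((z.1 : stab K β) : Equiv.Perm α)) hxy))))

/-- The induction hypothesis. -/
def Bound (α : Type*) [Fintype α] [DecidableEq α] (n : ℕ) : Prop :=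
  ∀ (H : Subgroup (Equiv.Perm α)) (U : Finset α), Supp H U → U.card = n → 0 < n →
    k H * (5 * n) ≤ 5 ^ n

theorem prod_bound {n : ℕ} (hB : ∀ m < n, Bound α m) {ι : Type*} [DecidableEq ι] (f : ι → Finset α) :
    ∀ (s : Finset ι) (H : Subgroup (Equiv.Perm α)), Supp H (s.biUnion f) →
      (∀ i ∈ s, ∀ h ∈ H, ∀ a ∈ f i, h a ∈ f i) →
      (∀ i ∈ s, ∀ j ∈ s, i ≠ j → Disjoint (f i) (f j)) →
      (∀ i ∈ s, 0 < (f i).card ∧ (f i).card < n) →
      k H * ∏ i ∈ s, (5 * (f i).card) ≤ 5 ^ ∑ i ∈ s, (f i).card := by
  intro s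
  induction s using Finset.induction_on with
  | empty =>
      intro H hsupp _ _ _
      simpa using k_le_one (by simpa using hsupp)
  | @insert i s his ih =>
      intro H hsupp hinv hdisj hsize
      have hiff : ∀ h : H, ∀ a, (h : Equiv.Perm α) a ∈ f i ↔ a ∈ f i := fun h a =>
        invariant_iff (hinv i (mem_insert_self i s)) h.2 a
      let φ : H →* Equiv.Perm α :=
        { toFun := fun h => Equiv.Perm.ofSubtype ((h : Equiv.Perm α).subtypePerm (hiff h))
          map_one' := by
            rw [← map_one (Equiv.Perm.ofSubtype (p := fun a => a ∈ f i))]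
            exact congrArg _ (Equiv.ext fun _ => Subtype.ext rfl)
          map_mul' := fun a b => by
            rw [← map_mul]
            exact congrArg _ (Equiv.ext fun _ => Subtype.ext rfl) }
      have hφ_mem : ∀ (h : H) a, a ∈ f i → φ h a = (h : Equiv.Perm α) a := fun h a ha => by
        show Equiv.Perm.ofSubtype _ a = _
        rw [Equiv.Perm.ofSubtype_apply_of_mem _ ha]
        rfl
      have hφ_not : ∀ (h : H) a, a ∉ f i → φ h a = a := fun h a ha =>
        Equiv.Perm.ofSubtype_apply_of_not_mem _ ha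
      have hr : k φ.range * (5 * (f i).card) ≤ 5 ^ (f i).card := by
        obtain ⟨h0, h1⟩ := hsize i (mem_insert_self i s)
        refine hB _ h1 φ.range (f i) ?_ rfl h0
        rintro _ ⟨h, rfl⟩ a ha
        exact hφ_not h a ha
      have hsub : ∀ x ∈ φ.ker.map H.subtype, x ∈ H ∧ ∀ a ∈ f i, x a = a := by
        rintro _ ⟨h, hh, rfl⟩
        refine ⟨h.2, fun a ha => ?_⟩
        have h2 := hφ_mem h a ha
        rw [MonoidHom.mem_ker.mp hh] at h2
        simpa using h2.symm
      have hk : k (φ.ker.map H.subtype) * ∏ j ∈ s, (5 * (f j).card) ≤ 5 ^ ∑ j ∈ s, (f j).card := by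
        refine ih _ ?_ (fun j hj x hx => hinv j (mem_insert_of_mem hj) x (hsub x hx).1)
          (fun j hj l hl => hdisj j (mem_insert_of_mem hj) l (mem_insert_of_mem hl))
          (fun j hj => hsize j (mem_insert_of_mem hj))
        intro x hx a ha
        by_cases hai : a ∈ f i
        · exact (hsub x hx).2 a hai
        · refine hsupp x (hsub x hx).1 a ?_
          rw [biUnion_insert, mem_union]
          tauto
      have h1 : k φ.ker ≤ k (φ.ker.map H.subtype) :=
        k_le_of_surjective (φ.ker.equivMapOfInjective _ H.subtype_injective).symm.toMonoidHom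
          (MulEquiv.surjective _)
      have h2 : k (H ⧸ φ.ker) ≤ k φ.range :=
        k_le_of_surjective (QuotientGroup.quotientKerEquivRange φ).symm.toMonoidHom
          (MulEquiv.surjective _)
      have h3 : k H ≤ k (φ.ker.map H.subtype) * k φ.range :=
        (Cfsg.Agent.S4201.le_mul φ.ker).trans (Nat.mul_le_mul h1 h2)
      rw [prod_insert his, sum_insert his, pow_add]
      calc k H * (5 * (f i).card * ∏ j ∈ s, 5 * (f j).card)
          ≤ k (φ.ker.map H.subtype) * k φ.range * (5 * (f i).card * ∏ j ∈ s, 5 * (f j).card) :=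
            Nat.mul_le_mul_right _ h3
        _ = (k φ.range * (5 * (f i).card)) *
            (k (φ.ker.map H.subtype) * ∏ j ∈ s, 5 * (f j).card) := by ring
        _ ≤ _ := Nat.mul_le_mul hr hk

theorem pow_five_le_prod {ι : Type*} (s : Finset ι) (g : ι → ℕ) (h : ∀ i ∈ s, 0 < g i) :
    5 ^ s.card ≤ ∏ i ∈ s, (5 * g i) :=
  Finset.pow_card_le_prod s _ 5 fun i hi => Nat.le_mul_of_pos_right 5 (h i hi)

theorem five_sq_le (r : ℕ) (hr : 1 ≤ r) : 5 * r ^ 2 ≤ 5 ^ r := by
  induction r, hr using Nat.le_induction with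
  | base => norm_num
  | succ r hr ih =>
      have : (r + 1) ^ 2 ≤ 4 * r ^ 2 := by nlinarith
      rw [pow_succ 5 r]
      omega

/-- Covering the elements following a given path. -/
theorem node {n : ℕ} (hB : ∀ m < n, Bound α m) :
    ∀ (s : ℕ) (K : Subgroup (Equiv.Perm α)) (U : Finset α) (a a₀ : α) (S : Set (Equiv.Perm α)),
      U.card = s → s < n → Supp K U → a ∉ U → a₀ ∉ U →
      (∀ h ∈ K, ∀ x ∈ S, h * x * h⁻¹ ∈ S) →
      (∀ x ∈ S, ∀ y ∈ S, x a = y a → x⁻¹ * y ∈ K) →
      (∀ x ∈ S, ∀ t ∈ insert a U, x t ∈ insert a₀ U) →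
      ∃ R : Finset (Equiv.Perm α), R.card * (s + 1) ≤ 5 ^ s ∧
        ∀ x ∈ S, ∃ r ∈ R, ∃ h ∈ K, x = h * r * h⁻¹ := by
  classical
  intro s
  induction s with
  | zero =>
      intro K U a a₀ S hU _ hK _ _ hstab hdiff hmaps
      obtain rfl := Finset.card_eq_zero.mp hU
      obtain ⟨R, hR, hcov⟩ := exists_reps K K S hstab (fun x hx y hy => hdiff x hx y hy (by
        have h1 := hmaps x hx a (mem_insert_self a ∅)
        have h2 := hmaps y hy a (mem_insert_self a ∅)
        simp only [insert_empty_eq, mem_singleton] at h1 h2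
        rw [h1, h2])) 1 (fun l _ => by rw [one_mul])
      refine ⟨R, ?_, hcov⟩
      simpa using hR.trans (by simpa using k_le_one hK)
  | succ s ih =>
      intro K U a a₀ S hU hsn hK ha ha₀ hstab hdiff hmaps
      have hfix : ∀ h ∈ K, h a = a ∧ h a₀ = a₀ := fun h hh => ⟨hK h hh a ha, hK h hh a₀ ha₀⟩
      let orb : α → Finset α := fun b => Finset.univ.filter fun c => ∃ h ∈ K, h b = c
      let O := U.image orb
      have horb_self : ∀ b, b ∈ orb b := fun b =>
        mem_filter.mpr ⟨mem_univ _, 1, K.one_mem, rfl⟩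
      have horb_sub : ∀ b ∈ U, orb b ⊆ U := by
        intro b hb c hc
        obtain ⟨-, h, hh, rfl⟩ := mem_filter.mp hc
        exact hK.mapsTo hh hb
      have horb_eq : ∀ b c, c ∈ orb b → orb c = orb b := by
        intro b c hc
        obtain ⟨-, h, hh, rfl⟩ := mem_filter.mp hc
        ext d
        simp only [orb, mem_filter, mem_univ, true_and]
        constructor
        · rintro ⟨g, hg, rfl⟩
          exact ⟨g * h, K.mul_mem hg hh, rfl⟩
        · rintro ⟨g, hg, rfl⟩
          exact ⟨g * h⁻¹, K.mul_mem hg (K.inv_mem hh), by simp⟩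
      have hO : ∀ o ∈ O, ∀ c ∈ o, c ∈ U ∧ orb c = o := by
        intro o ho c hc
        obtain ⟨b, hb, rfl⟩ := mem_image.mp ho
        exact ⟨horb_sub b hb hc, horb_eq b c hc⟩
      have hne : ∀ o ∈ O, o.Nonempty := by
        intro o ho
        obtain ⟨b, hb, rfl⟩ := mem_image.mp ho
        exact ⟨b, horb_self b⟩
      have hinv : ∀ o ∈ O, ∀ h ∈ K, ∀ c ∈ o, h c ∈ o := by
        intro o ho h hh c hc
        rw [← (hO o ho c hc).2]
        exact mem_filter.mpr ⟨mem_univ _, h, hh, rfl⟩
      have hdisj : ∀ o ∈ O, ∀ o' ∈ O, o ≠ o' → Disjoint o o' := by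
        intro o ho o' ho' hne'
        refine Finset.disjoint_left.mpr fun c hc hc' => hne' ?_
        rw [← (hO o ho c hc).2, (hO o' ho' c hc').2]
      have hUO : U = O.biUnion id := by
        ext c
        simp only [mem_biUnion, id]
        exact ⟨fun hc => ⟨orb c, mem_image_of_mem _ hc, horb_self c⟩,
          fun ⟨o, ho, hc⟩ => (hO o ho c hc).1⟩
      have hsum : ∑ o ∈ O, o.card = s + 1 := by
        rw [← hU, hUO, Finset.card_biUnion (t := id) (fun o ho o' ho' h => hdisj o ho o' ho' h)]
        rfl
      have hOne : O.Nonempty := (Finset.card_pos.mp (by omega : 0 < U.card)).image _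
      obtain ⟨D, hD, hDmax⟩ := O.exists_max_image Finset.card hOne
      have hrL : s + 1 ≤ O.card * D.card := by
        rw [← hsum]
        simpa using Finset.sum_le_card_nsmul O _ _ hDmax
      have hlt : ∀ o ∈ O, 0 < o.card ∧ o.card < n := fun o ho =>
        ⟨(hne o ho).card_pos,
          lt_of_le_of_lt ((Finset.single_le_sum (fun _ _ => Nat.zero_le _) ho).trans_eq hsum) hsn⟩
      -- the bound on the classes of `K`
      have hkK : k K * (5 ^ O.card * D.card) ≤ 5 ^ (s + 1) := by
        have h := prod_bound hB id O K (by rw [← hUO]; exact hK) (fun o ho => hinv o ho) hdisj hlt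
        simp only [id] at h
        rw [hsum] at h
        refine le_trans (Nat.mul_le_mul_left _ ?_) h
        rw [← Finset.mul_prod_erase O (fun o => 5 * o.card) hD]
        have hcard : O.card = (O.erase D).card + 1 := (card_erase_add_one hD).symm
        calc 5 ^ O.card * D.card = 5 * D.card * 5 ^ (O.erase D).card := by rw [hcard, pow_succ]; ring
          _ ≤ _ := Nat.mul_le_mul_left _ (pow_five_le_prod _ _ fun o ho => (hlt o (mem_of_mem_erase ho)).1)
      -- the cycle closes
      obtain ⟨R₀, hR₀, hcov₀⟩ := exists_reps K K {x | x ∈ S ∧ x a = a₀}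
        (fun h hh x hx => ⟨hstab h hh x hx.1, by
          have h1 := hfix _ (K.inv_mem hh)
          simp only [Equiv.Perm.mul_apply]
          rw [h1.1, hx.2, (hfix h hh).2]⟩)
        (fun x hx y hy => hdiff x hx.1 y hy.1 (hx.2.trans hy.2.symm)) 1 (fun l _ => by rw [one_mul])
      have hR₀' : R₀.card * (5 ^ O.card * D.card) ≤ 5 ^ (s + 1) :=
        le_trans (Nat.mul_le_mul_right _ (by simpa using hR₀)) hkK
      -- the smaller orbits
      have hsmall : ∀ o ∈ O.erase D, ∃ R : Finset (Equiv.Perm α),
          R.card * (5 ^ O.card * D.card) ≤ 5 ^ (s + 1) ∧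
          ∀ x ∈ S, x a ∈ o → ∃ r ∈ R, ∃ h ∈ K, x = h * r * h⁻¹ := by
        intro o ho'
        obtain ⟨hoD, ho⟩ := mem_erase.mp ho'
        obtain ⟨β, hβ⟩ := hne o ho
        obtain ⟨R, hR, hcov⟩ := exists_reps K (stab K β) {x | x ∈ S ∧ x a = β}
          (fun h hh x hx => ⟨hstab h (mem_stab.mp hh).1 x hx.1, by
            have h1 := hfix _ (K.inv_mem (mem_stab.mp hh).1)
            simp only [Equiv.Perm.mul_apply]
            rw [h1.1, hx.2, (mem_stab.mp hh).2]⟩)
          (fun x hx y hy => hdiff x hx.1 y hy.1 (hx.2.trans hy.2.symm)) o.card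
          (fun l _ => commute_count_le K β o (fun h hh => hinv o ho h hh β hβ) l)
        refine ⟨R, le_trans (Nat.mul_le_mul_right _ hR) ?_, ?_⟩
        · by_cases hone : o.card = 1
          · have hKeq : stab K β = K := by
              refine le_antisymm (fun h hh => (mem_stab.mp hh).1) fun h hh => mem_stab.mpr ⟨hh, ?_⟩
              exact Finset.card_le_one.mp hone.le _ (hinv o ho h hh β hβ) _ hβ
            rw [hone, one_mul, hKeq]
            exact hkK
          · let f : Finset α → Finset α := fun p => if p = o then o.erase β else p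
            have hfo : f o = o.erase β := if_pos rfl
            have hfp : ∀ p, p ≠ o → f p = p := fun p hp => if_neg hp
            have hfsub : ∀ p, f p ⊆ p := by
              intro p
              by_cases hp : p = o
              · rw [hp, hfo]; exact erase_subset _ _
              · rw [hfp p hp]
            have hocard : (o.erase β).card + 1 = o.card := card_erase_add_one hβ
            have h := prod_bound hB f O (stab K β) ?_ ?_
              (fun p hp q hq hpq => (hdisj p hp q hq hpq).mono (hfsub p) (hfsub q)) ?_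
            rotate_left
            · intro h hh c hc
              obtain ⟨h1, h2⟩ := mem_stab.mp hh
              rcases eq_or_ne c β with rfl | hcb
              · exact h2
              refine hK h h1 c fun hcU => hc ?_
              rw [hUO] at hcU
              obtain ⟨p, hp, hcp⟩ := mem_biUnion.mp hcU
              refine mem_biUnion.mpr ⟨p, hp, ?_⟩
              by_cases hpo : p = o
              · rw [hpo, hfo, mem_erase]; exact ⟨hcb, hpo ▸ hcp⟩
              · rwa [hfp p hpo]
            · intro p hp h hh c hc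
              obtain ⟨h1, h2⟩ := mem_stab.mp hh
              by_cases hpo : p = o
              · subst hpo
                rw [hfo, mem_erase] at hc ⊢
                exact ⟨fun e => hc.1 (h.injective (e.trans h2.symm)), hinv p hp h h1 c hc.2⟩
              · rw [hfp p hpo] at hc ⊢
                exact hinv p hp h h1 c hc
            · intro p hp
              have h1 := hlt p hp
              by_cases hpo : p = o
              · rw [hpo, hfo]; rw [hpo] at h1
                omega
              · rw [hfp p hpo]; exact h1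
            have hfs : ∑ p ∈ O, (f p).card = s := by
              have h1 : ∑ p ∈ O, (f p).card + 1 = ∑ p ∈ O, p.card := by
                rw [← Finset.add_sum_erase O _ ho, ← Finset.add_sum_erase O _ ho, hfo,
                  Finset.sum_congr rfl (fun p hp => by rw [hfp p (ne_of_mem_erase hp)]), ← hocard]
                ring
              omega
            rw [hfs, ← Finset.mul_prod_erase O _ hD,
              ← Finset.mul_prod_erase (O.erase D) _ (mem_erase.mpr ⟨hoD, ho⟩),
              hfp D hoD.symm, hfo] at h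
            set W := ∏ p ∈ (O.erase D).erase o, 5 * (f p).card with hW
            have hWle : 5 ^ ((O.erase D).erase o).card ≤ W := by
              refine pow_five_le_prod _ _ fun p hp => ?_
              rw [hfp p (ne_of_mem_erase hp)]
              exact (hlt p (mem_of_mem_erase (mem_of_mem_erase hp))).1
            have hcard : O.card = ((O.erase D).erase o).card + 1 + 1 := by
              rw [card_erase_add_one (mem_erase.mpr ⟨hoD, ho⟩), card_erase_add_one hD]
            have he2 : o.card ≤ 2 * (o.erase β).card := by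
              have := (hlt o ho).1
              omega
            calc o.card * k (stab K β) * (5 ^ O.card * D.card)
                ≤ 2 * (o.erase β).card * k (stab K β) * (5 ^ O.card * D.card) := by gcongr
              _ = 2 * (k (stab K β) *
                    (5 * D.card * (5 * (o.erase β).card * 5 ^ ((O.erase D).erase o).card))) := by
                  rw [hcard, pow_succ, pow_succ]; ring
              _ ≤ 2 * (k (stab K β) * (5 * D.card * (5 * (o.erase β).card * W))) := by gcongr
              _ ≤ 2 * 5 ^ s := Nat.mul_le_mul_left _ h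
              _ ≤ _ := by rw [pow_succ']; exact Nat.mul_le_mul_right _ (by norm_num)
        · intro x hx hxo
          obtain ⟨-, h, hh, hhc⟩ := mem_filter.mp (show x a ∈ orb β by rw [(hO o ho β hβ).2]; exact hxo)
          have hx' : h⁻¹ * x * h ∈ S := by simpa using hstab _ (K.inv_mem hh) x hx
          obtain ⟨r, hr, l, hl, he⟩ := hcov (h⁻¹ * x * h) ⟨hx', by
            simp only [Equiv.Perm.mul_apply]
            rw [(hfix h hh).1, ← hhc]
            simp⟩
          refine ⟨r, hr, h * l, K.mul_mem hh (mem_stab.mp hl).1, ?_⟩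
          rw [show x = h * (h⁻¹ * x * h) * h⁻¹ by group, he]
          group
      choose! Ro hRo hRocov using hsmall
      -- the largest orbit
      obtain ⟨b, hb⟩ := hne D hD
      have hbU := (hO D hD b hb).1
      obtain ⟨R', hR', hcov'⟩ := ih (stab K b) (U.erase b) b a₀ {x | x ∈ S ∧ x a = b}
        (by rw [card_erase_of_mem hbU, hU]; omega) (by omega) (supp_stab hK b)
        (notMem_erase b U) (fun h => ha₀ (mem_of_mem_erase h))
        (fun h hh x hx => ⟨hstab h (mem_stab.mp hh).1 x hx.1, by
          have h1 := hfix _ (K.inv_mem (mem_stab.mp hh).1)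
          simp only [Equiv.Perm.mul_apply]
          rw [h1.1, hx.2, (mem_stab.mp hh).2]⟩)
        (fun x hx y hy hxy => mem_stab.mpr ⟨hdiff x hx.1 y hy.1 (hx.2.trans hy.2.symm), by
          simp only [Equiv.Perm.mul_apply]
          rw [← hxy]
          simp⟩)
        (fun x hx t ht => by
          rw [insert_erase hbU] at ht
          have h1 := hmaps x hx.1 t (mem_insert_of_mem ht)
          rw [mem_insert] at h1 ⊢
          refine h1.imp_right fun h2 => mem_erase.mpr ⟨fun e => ?_, h2⟩
          exact ha (x.injective (e.trans hx.2.symm) ▸ ht))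
      refine ⟨R₀ ∪ R' ∪ (O.erase D).biUnion Ro, ?_, ?_⟩
      · set A := R₀.card + ∑ o ∈ O.erase D, (Ro o).card with hA
        have hAle : A * (5 ^ O.card * D.card) ≤ O.card * 5 ^ (s + 1) := by
          rw [hA, add_mul, Finset.sum_mul, ← card_erase_add_one hD, add_mul, one_mul, add_comm,
            card_erase_add_one hD]
          refine Nat.add_le_add ?_ hR₀'
          simpa using Finset.sum_le_card_nsmul (O.erase D) _ _ hRo
        have hA5 : A * (5 * (s + 1)) ≤ 5 ^ (s + 1) := by
          refine Nat.le_of_mul_le_mul_right ?_ (pow_pos (by norm_num : 0 < 5) O.card)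
          calc A * (5 * (s + 1)) * 5 ^ O.card
              ≤ A * (5 * (O.card * D.card)) * 5 ^ O.card := by gcongr
            _ = 5 * O.card * (A * (5 ^ O.card * D.card)) := by ring
            _ ≤ 5 * O.card * (O.card * 5 ^ (s + 1)) := Nat.mul_le_mul_left _ hAle
            _ = 5 * O.card ^ 2 * 5 ^ (s + 1) := by ring
            _ ≤ _ := by
              rw [mul_comm (5 ^ (s + 1))]
              exact Nat.mul_le_mul_right _ (five_sq_le _ hOne.card_pos)
        have hN : (R₀ ∪ R' ∪ (O.erase D).biUnion Ro).card ≤ A + R'.card := by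
          refine (card_union_le _ _).trans (le_trans (Nat.add_le_add (card_union_le _ _) card_biUnion_le) ?_)
          omega
        refine le_trans (Nat.mul_le_mul_right _ hN) ?_
        rw [pow_succ'] at hA5 ⊢
        nlinarith
      · intro x hx
        have h1 := hmaps x hx a (mem_insert_self a U)
        rcases mem_insert.mp h1 with h1 | h1
        · obtain ⟨r, hr, hc⟩ := hcov₀ x ⟨hx, h1⟩
          exact ⟨r, by simp [hr], hc⟩
        by_cases hD' : orb (x a) = D
        · obtain ⟨-, h, hh, hhc⟩ := mem_filter.mp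
            (show x a ∈ orb b by rw [(hO D hD b hb).2, ← hD']; exact horb_self _)
          have hx' : h⁻¹ * x * h ∈ S := by simpa using hstab _ (K.inv_mem hh) x hx
          obtain ⟨r, hr, l, hl, he⟩ := hcov' (h⁻¹ * x * h) ⟨hx', by
            simp only [Equiv.Perm.mul_apply]
            rw [(hfix h hh).1, ← hhc]
            simp⟩
          refine ⟨r, by simp [hr], h * l, K.mul_mem hh (mem_stab.mp hl).1, ?_⟩
          rw [show x = h * (h⁻¹ * x * h) * h⁻¹ by group, he]
          group
        · have ho : orb (x a) ∈ O.erase D := mem_erase.mpr ⟨hD', mem_image_of_mem _ h1⟩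
          obtain ⟨r, hr, hc⟩ := hRocov _ ho x hx (horb_self _)
          exact ⟨r, mem_union_right _ (mem_biUnion.mpr ⟨_, ho, hr⟩), hc⟩

theorem bound (n : ℕ) : Bound α n := by
  classical
  induction n using Nat.strong_induction_on with
  | _ n ih =>
    intro H U hH hU hn
    obtain ⟨m, rfl⟩ : ∃ m, n = m + 1 := ⟨n - 1, by omega⟩
    obtain ⟨a, ha⟩ := Finset.card_pos.mp (by omega : 0 < U.card)
    obtain ⟨R, hR, hcov⟩ := node ih m (stab H a) (U.erase a) a a (H : Set (Equiv.Perm α))
      (by rw [card_erase_of_mem ha, hU]; rfl) (by omega) (supp_stab hH a) (notMem_erase a U)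
      (notMem_erase a U)
      (fun h hh x hx => H.mul_mem (H.mul_mem (mem_stab.mp hh).1 hx) (H.inv_mem (mem_stab.mp hh).1))
      (fun x hx y hy hxy => mem_stab.mpr ⟨H.mul_mem (H.inv_mem hx) hy, by
        simp only [Equiv.Perm.mul_apply]
        rw [← hxy]
        simp⟩)
      (fun x hx t ht => by
        rw [insert_erase ha] at ht ⊢
        exact hH.mapsTo hx ht)
    have hk : k H ≤ R.card := by
      refine le_trans (Nat.card_le_card_of_surjective
        (fun r : {r : R // (r : Equiv.Perm α) ∈ H} => ConjClasses.mk (⟨r.1.1, r.2⟩ : H)) ?_)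
        ((Finite.card_subtype_le _).trans (by simp))
      intro c
      obtain ⟨x, rfl⟩ := ConjClasses.exists_rep c
      obtain ⟨r, hr, h, hh, he⟩ := hcov _ x.2
      have hh' := (mem_stab.mp hh).1
      have hrH : r ∈ H := by
        rw [show r = h⁻¹ * (x : Equiv.Perm α) * h by rw [he]; group]
        exact H.mul_mem (H.mul_mem (H.inv_mem hh') x.2) hh'
      refine ⟨⟨⟨r, hr⟩, hrH⟩, ConjClasses.mk_eq_mk_iff_isConj.mpr (isConj_iff.mpr ⟨⟨h, hh'⟩, ?_⟩)⟩
      exact Subtype.ext he.symm
    calc k H * (5 * (m + 1)) = 5 * (k H * (m + 1)) := by ring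
      _ ≤ 5 * (R.card * (m + 1)) := by gcongr
      _ ≤ 5 * 5 ^ m := Nat.mul_le_mul_left _ hR
      _ = _ := by rw [pow_succ']

end helpers

/-- Let G be a subgroup of the symmetric group of degree d ≥ 1. Then G has at most 5^{d−1} conjugacy classes. -/
theorem result (d : ℕ) (hd : 1 ≤ d) (G : Subgroup (Equiv.Perm (Fin d))) : Nat.card (ConjClasses ↥G) ≤ 5 ^ (d - 1) := by
  obtain ⟨m, rfl⟩ : ∃ m, d = m + 1 := ⟨d - 1, by omega⟩
  have h := bound (m + 1) G Finset.univ (fun g _ a ha => absurd (Finset.mem_univ a) ha)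
    (by simp) (Nat.succ_pos m)
  rw [pow_succ'] at h
  simp only [Nat.add_sub_cancel]
  refine le_trans (Nat.le_mul_of_pos_right _ (Nat.succ_pos m)) (Nat.le_of_mul_le_mul_left ?_ (by norm_num : 0 < 5))
  exact le_trans (le_of_eq (by rw [Nat.succ_eq_add_one]; ring)) h

end Cfsg.Agent.S4264
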