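import Cfsg.Statements.S4269
-- import your own Cfsg.Agent.* helpers here

set_option autoImplicit false
open Cfsg

namespace Cfsg.Agent.S4269

open Subgroup

theorem map_conj_eq_of_mem_normalizer {G : Type*} [Group G] {H : Subgroup G} {n : G}
    (h : n ∈ normalizer (H : Set G)) : H.map (MulAut.conj n).toMonoidHom = H := by
  ext x
  rw [mem_map_equiv, MulAut.conj_symm_apply, ← mem_normalizer_iff''.mp h x]

theorem le_normalizer_commutator {G : Type*} [Group G] (H U : Subgroup G)
    (hU : H ≤ normalizer (U : Set G)) : H ≤ normalizer ((⁅H, U⁆ : Subgroup G) : Set G) := by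
  intro h hh
  rw [mem_normalizer_iff]
  intro x
  have e : (⁅H, U⁆ : Subgroup G).map (MulAut.conj h).toMonoidHom = ⁅H, U⁆ := by
    rw [map_commutator, map_conj_eq_of_mem_normalizer (le_normalizer hh),
      map_conj_eq_of_mem_normalizer (hU hh)]
  conv_rhs => rw [← e]
  rw [mem_map_equiv, MulAut.conj_symm_apply]
  simp [mul_assoc]

theorem map_conj_mul {G : Type*} [Group G] (H : Subgroup G) (a b : G) :
    H.map (MulAut.conj (a * b)).toMonoidHom =
      (H.map (MulAut.conj b).toMonoidHom).map (MulAut.conj a).toMonoidHom := by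
  rw [Subgroup.map_map]
  congr 1
  ext x
  simp [mul_assoc]

/-- Let G be a finite group, V an abelian normal subgroup and H a subgroup with HV = G. Then H is pronormal in G (H and gHg⁻¹ are conjugate inside the subgroup they generate, for every g) if and only if every H-invariant subgroup U of V satisfies U = N_U(H)·[H, U], that is, U is the join of U ∩ N_G(H) and the commutator subgroup [H, U]. -/
theorem result {G : Type*} [Group G] [Finite G]
    (V : Subgroup G) [V.Normal] (hV : IsMulCommutative ↥V) (H : Subgroup G) (hHV : H ⊔ V = ⊤) :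
    Cfsg.IsPronormal H ↔
      ∀ U : Subgroup G, U ≤ V → (∀ h ∈ H, U.map (MulAut.conj h).toMonoidHom = U) →
        U = (U ⊓ Subgroup.normalizer (H : Set G)) ⊔ ⁅H, U⁆ := by
  have hnormV : ∀ (U : Subgroup G), U ≤ V → ∀ a ∈ V, ∀ u ∈ U, a * u * a⁻¹ = u := fun U hUV a ha u hu => by
    have := congrArg Subtype.val (hV.is_comm.comm (⟨a, ha⟩ : V) ⟨u, hUV hu⟩)
    simp only [Subgroup.coe_mul] at this
    rw [this, mul_inv_cancel_right]
  constructor
  · intro hpro U hUV hU
    have hHU : H ≤ Subgroup.normalizer (U : Set G) := fun h hh => by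
      rw [Subgroup.mem_normalizer_iff]
      intro u
      conv_rhs => rw [← hU h hh]
      rw [Subgroup.mem_map_equiv, MulAut.conj_symm_apply]
      simp [mul_assoc]
    have hHC : H ≤ Subgroup.normalizer ((⁅H, U⁆ : Subgroup G) : Set G) :=
      Cfsg.Agent.S4269.le_normalizer_commutator H U hHU
    refine le_antisymm (fun u hu => ?_) (sup_le inf_le_left (Subgroup.commutator_le.mpr fun h hh u hu =>
      mul_mem ((Subgroup.mem_normalizer_iff.mp (hHU hh) u).mp hu) (inv_mem hu)))
    obtain ⟨x, hx, hxH⟩ := hpro u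
    have hx' : x ∈ H ⊔ ⁅H, U⁆ := by
      refine (show H ⊔ H.map (MulAut.conj u).toMonoidHom ≤ H ⊔ ⁅H, U⁆ from sup_le le_sup_left ?_) hx
      rintro _ ⟨h, hh, rfl⟩
      show u * h * u⁻¹ ∈ _
      rw [show u * h * u⁻¹ = (h * u * h⁻¹ * u⁻¹)⁻¹ * h by group]
      exact mul_mem (inv_mem (Subgroup.mem_sup_right (Subgroup.commutator_mem_commutator hh hu)))
        (Subgroup.mem_sup_left hh)
    obtain ⟨h, hh, c, hc, rfl⟩ : ∃ h ∈ H, ∃ c ∈ (⁅H, U⁆ : Subgroup G), h * c = x := by
      have := (Subgroup.coe_mul_of_left_le_normalizer_right H ⁅H, U⁆ hHC).symm ▸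
        (show x ∈ ((H ⊔ ⁅H, U⁆ : Subgroup G) : Set G) from hx')
      exact Set.mem_mul.mp this
    set c' := h * c * h⁻¹ with hc'
    have hc'm : c' ∈ (⁅H, U⁆ : Subgroup G) := (Subgroup.mem_normalizer_iff.mp (hHC hh) c).mp hc
    rw [show h * c = c' * h by rw [hc', inv_mul_cancel_right], map_conj_mul H c' h,
      map_conj_eq_of_mem_normalizer (Subgroup.le_normalizer hh)] at hxH
    have hcU : c' ∈ U := by
      refine Subgroup.commutator_le.mpr (fun h hh v hv => ?_) hc'm
      exact mul_mem ((Subgroup.mem_normalizer_iff.mp (hHU hh) v).mp hv) (inv_mem hv)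
    have hn : c'⁻¹ * u ∈ U ⊓ Subgroup.normalizer (H : Set G) := by
      refine Subgroup.mem_inf.mpr ⟨mul_mem (inv_mem hcU) hu, ?_⟩
      rw [Subgroup.mem_normalizer_iff'']
      intro y
      have e : H.map (MulAut.conj (c'⁻¹ * u)).toMonoidHom = H := by
        rw [map_conj_mul, hxH, ← map_conj_mul, inv_mul_cancel, map_one]
        exact Subgroup.map_id H
      conv_lhs => rw [← e]
      rw [Subgroup.mem_map_equiv, MulAut.conj_symm_apply]
    have := mul_mem (Subgroup.mem_sup_right hc'm :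
      c' ∈ (U ⊓ Subgroup.normalizer (H : Set G)) ⊔ ⁅H, U⁆) (Subgroup.mem_sup_left hn)
    rwa [mul_inv_cancel_left] at this
  · intro hall g
    obtain ⟨v, hv, h₀, hh₀, rfl⟩ : ∃ v ∈ V, ∃ h ∈ H, v * h = g :=
      Subgroup.mem_sup_of_normal_left.mp (show g ∈ V ⊔ H by rw [sup_comm, hHV]; trivial)
    rw [map_conj_mul, map_conj_eq_of_mem_normalizer (Subgroup.le_normalizer hh₀)]
    set J := H ⊔ H.map (MulAut.conj v).toMonoidHom with hJ
    set S : Set G := Set.range (fun h : H => (h : G) * v * (h : G)⁻¹) with hS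
    set U := Subgroup.closure S with hU
    have hUV : U ≤ V := (Subgroup.closure_le _).mpr fun x ⟨h, hx⟩ => hx ▸ ‹V.Normal›.conj_mem v hv _
    have hUinv : ∀ h ∈ H, U.map (MulAut.conj h).toMonoidHom = U := by
      intro h hh
      rw [hU, MonoidHom.map_closure]
      congr 1
      ext x
      constructor
      · rintro ⟨_, ⟨k, rfl⟩, rfl⟩
        exact ⟨⟨h, hh⟩ * k, by simp [mul_assoc]⟩
      · rintro ⟨k, rfl⟩
        exact ⟨_, ⟨(⟨h, hh⟩ : H)⁻¹ * k, rfl⟩, by simp [mul_assoc]⟩
    have hvU : v ∈ U := Subgroup.subset_closure ⟨1, by simp⟩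
    have hCJ : (⁅H, U⁆ : Subgroup G) ≤ J := by
      refine Subgroup.commutator_le.mpr fun h hh u hu => ?_
      induction hu using Subgroup.closure_induction with
      | mem x hx =>
        obtain ⟨k, rfl⟩ := hx
        show h * ((k : G) * v * (k : G)⁻¹) * h⁻¹ * ((k : G) * v * (k : G)⁻¹)⁻¹ ∈ J
        have hh' : (k : G)⁻¹ * h * k ∈ H := mul_mem (mul_mem (inv_mem k.2) hh) k.2
        rw [show h * ((k : G) * v * (k : G)⁻¹) * h⁻¹ * ((k : G) * v * (k : G)⁻¹)⁻¹ =
          (k : G) * (((k : G)⁻¹ * h * k) * (v * ((k : G)⁻¹ * h * k)⁻¹ * v⁻¹)) * (k : G)⁻¹ by group]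
        have hkJ : (k : G) ∈ J := Subgroup.mem_sup_left k.2
        exact mul_mem (mul_mem hkJ (mul_mem (Subgroup.mem_sup_left hh')
          (Subgroup.mem_sup_right ⟨_, inv_mem hh', rfl⟩))) (inv_mem hkJ)
      | one => simp [commutatorElement_def]
      | mul a b ha hb iha ihb =>
        have e : a * (h * b * h⁻¹ * b⁻¹) * a⁻¹ = h * b * h⁻¹ * b⁻¹ :=
          hnormV V le_rfl a (hUV ha) _ (mul_mem (‹V.Normal›.conj_mem b (hUV hb) h) (inv_mem (hUV hb)))
        rw [commutatorElement_def, show h * (a * b) * h⁻¹ * (a * b)⁻¹ =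
          (h * a * h⁻¹ * a⁻¹) * (a * (h * b * h⁻¹ * b⁻¹) * a⁻¹) by group, e]
        exact mul_mem iha ihb
      | inv a ha iha =>
        have e : a⁻¹ * (h * a * h⁻¹ * a⁻¹)⁻¹ * a⁻¹⁻¹ = (h * a * h⁻¹ * a⁻¹)⁻¹ :=
          hnormV V le_rfl a⁻¹ (inv_mem (hUV ha)) _
            (inv_mem (mul_mem (‹V.Normal›.conj_mem a (hUV ha) h) (inv_mem (hUV ha))))
        rw [commutatorElement_def, show h * a⁻¹ * h⁻¹ * a⁻¹⁻¹ =
          a⁻¹ * (h * a * h⁻¹ * a⁻¹)⁻¹ * a⁻¹⁻¹ by group, e]
        exact inv_mem iha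
    have hHU : H ≤ Subgroup.normalizer ((U ⊓ Subgroup.normalizer (H : Set G) : Subgroup G) : Set G) := by
      refine fun h hh => Subgroup.inf_normalizer_le_normalizer_inf ⟨?_, ?_⟩
      · show h ∈ Subgroup.normalizer (U : Set G)
        rw [Subgroup.mem_normalizer_iff]
        intro u
        conv_rhs => rw [← hUinv h hh]
        rw [Subgroup.mem_map_equiv, MulAut.conj_symm_apply]
        simp [mul_assoc]
      · exact Subgroup.le_normalizer (Subgroup.le_normalizer hh)
    have hCU : (⁅H, U⁆ : Subgroup G) ≤ U := by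
      have := (hall U hUV hUinv).ge
      exact le_sup_right.trans this
    have hnle : (U ⊓ Subgroup.normalizer (H : Set G) : Subgroup G) ≤
        Subgroup.normalizer ((⁅H, U⁆ : Subgroup G) : Set G) := fun a ha => by
      rw [Subgroup.mem_normalizer_iff]
      intro x
      constructor
      · intro hx
        rwa [hnormV V le_rfl a (hUV ha.1) x (hUV (hCU hx))]
      · intro hx
        have e := hnormV V le_rfl a⁻¹ (inv_mem (hUV ha.1)) _ (hUV (hCU hx))
        rw [show a⁻¹ * (a * x * a⁻¹) * a⁻¹⁻¹ = x by group] at e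
        rwa [e]
    rw [hall U hUV hUinv] at hvU
    rw [← SetLike.mem_coe, Subgroup.coe_mul_of_left_le_normalizer_right _ _ hnle, Set.mem_mul] at hvU
    obtain ⟨n, hn, c, hc, rfl⟩ := hvU
    have hcn : n * c = c * n := by
      have := hnormV V le_rfl n (hUV hn.1) c (hUV (hCU hc))
      exact mul_inv_eq_iff_eq_mul.mp this
    refine ⟨c, hCJ hc, ?_⟩
    rw [hcn, map_conj_mul, map_conj_eq_of_mem_normalizer hn.2]

end Cfsg.Agent.S4269
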