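import Cfsg.Statements.S4270
import Mathlib
import Cfsg.Prelude.Def_HallClasses

set_option autoImplicit false
open Cfsg

namespace Cfsg.Agent.S4270

open Subgroup

/-- Every subgroup containing a Sylow `p`-subgroup is pronormal. -/
def SylowOverPronormal (p : ℕ) (G : Type*) [Group G] : Prop :=
  ∀ K : Subgroup G, (∃ P : Sylow p G, (P : Subgroup G) ≤ K) → Cfsg.IsPronormal K

/-- Conjugate of a subgroup. -/
abbrev cj {G : Type*} [Group G] (g : G) (H : Subgroup G) : Subgroup G :=
  H.map (MulAut.conj g).toMonoidHom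

section Basic

variable {G : Type*} [Group G]

theorem cj_mul (a b : G) (H : Subgroup G) : cj (a * b) H = cj a (cj b H) := by
  rw [cj, cj, cj, Subgroup.map_map]
  congr 1
  ext x
  simp [mul_assoc]

theorem cj_one (H : Subgroup G) : cj (1 : G) H = H := by
  ext x
  simp [cj]

theorem mem_cj {a x : G} {H : Subgroup G} : x ∈ cj a H ↔ a⁻¹ * x * a ∈ H := by
  rw [cj, mem_map_equiv, MulAut.conj_symm_apply]

theorem mem_normalizer_iff_cj {g : G} {H : Subgroup G} :
    g ∈ normalizer (H : Set G) ↔ cj g H = H := by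
  constructor
  · intro h
    ext x
    rw [mem_cj, ← mem_normalizer_iff''.mp h x]
  · intro h
    rw [mem_normalizer_iff]
    intro x
    conv_rhs => rw [← h, mem_cj]
    simp [mul_assoc]

theorem cj_eq_of_mem {g : G} {H : Subgroup G} (h : g ∈ H) : cj g H = H :=
  mem_normalizer_iff_cj.1 (le_normalizer h)

theorem cj_normal (g : G) (A : Subgroup G) [A.Normal] : cj g A = A :=
  mem_normalizer_iff_cj.1 (by rw [normalizer_eq_top]; exact mem_top g)

theorem cj_le_of_mem {g : G} {H K : Subgroup G} (hg : g ∈ K) (h : H ≤ K) : cj g H ≤ K :=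
  (map_mono h).trans (cj_eq_of_mem hg).le

theorem map_cj {G' : Type*} [Group G'] (f : G →* G') (g : G) (H : Subgroup G) :
    (cj g H).map f = cj (f g) (H.map f) := by
  rw [cj, cj, Subgroup.map_map, Subgroup.map_map]
  congr 1
  ext x
  simp

/-- Images of pronormal subgroups are pronormal. -/
theorem pronormal_map {G' : Type*} [Group G'] {f : G →* G'} (hf : Function.Surjective f)
    {H : Subgroup G} (h : Cfsg.IsPronormal H) : Cfsg.IsPronormal (H.map f) := by
  intro g'
  obtain ⟨g, rfl⟩ := hf g'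
  obtain ⟨x, hx, he⟩ := h g
  change cj g H = cj x H at he
  refine ⟨f x, ?_, ?_⟩
  · have := mem_map_of_mem f hx
    rwa [Subgroup.map_sup, map_cj] at this
  · show cj (f g) (H.map f) = cj (f x) (H.map f)
    rw [← map_cj, he, map_cj]

/-- A pronormal subgroup is pronormal in every intermediate subgroup. -/
theorem pronormal_subgroupOf {H N : Subgroup G} (hHN : H ≤ N) (h : Cfsg.IsPronormal H) :
    Cfsg.IsPronormal (H.subgroupOf N) := by
  intro g
  obtain ⟨x, hx, he⟩ := h (g : G)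
  change x ∈ H ⊔ cj (g : G) H at hx
  change cj (g : G) H = cj x H at he
  have hmap : ∀ a : N, (cj a (H.subgroupOf N)).map N.subtype = cj (a : G) H := fun a => by
    rw [map_cj, map_subgroupOf_eq_of_le hHN]
    rfl
  have hxN : x ∈ N := sup_le hHN (cj_le_of_mem g.2 hHN) hx
  refine ⟨⟨x, hxN⟩, ?_, map_injective N.subtype_injective ?_⟩
  · have h1 : x ∈ (H.subgroupOf N ⊔ cj g (H.subgroupOf N)).map N.subtype := by
      rw [Subgroup.map_sup, map_subgroupOf_eq_of_le hHN, hmap]
      exact hx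
    obtain ⟨y, hy, hyx⟩ := h1
    have : y = ⟨x, hxN⟩ := Subtype.ext hyx
    rwa [this] at hy
  · show (cj g (H.subgroupOf N)).map N.subtype = (cj ⟨x, hxN⟩ (H.subgroupOf N)).map N.subtype
    rw [hmap, hmap, he]

end Basic

/-- A Sylow `p`-subgroup `T` of the subgroup `B` and any `p`-subgroup of `B`. -/
theorem exists_cj_le_sylow {G : Type*} [Group G] [Finite G] {p : ℕ} [Fact p.Prime]
    {B T U : Subgroup G} (hTB : T ≤ B) (hT : IsPGroup p T)
    (hmax : ∀ V : Subgroup G, V ≤ B → IsPGroup p V → T ≤ V → V = T)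
    (hUB : U ≤ B) (hU : IsPGroup p U) : ∃ b ∈ B, U ≤ cj b T := by
  obtain ⟨P, hP⟩ := (hT.comap_subtype (K := B)).exists_le_sylow
  obtain ⟨Q, hQ⟩ := (hU.comap_subtype (K := B)).exists_le_sylow
  obtain ⟨b, rfl⟩ := MulAction.exists_smul_eq B P Q
  have hPT : (P : Subgroup B).map B.subtype = T := hmax _ (map_subtype_le _) (P.2.map _)
    (le_trans (map_subgroupOf_eq_of_le hTB).ge (map_mono hP))
  refine ⟨b, b.2, fun u hu => ?_⟩
  have h1 : (⟨u, hUB hu⟩ : B) ∈ ((b • P : Sylow p B) : Subgroup B) := hQ hu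
  rw [Sylow.coe_subgroup_smul, Subgroup.mem_smul_pointwise_iff_exists] at h1
  obtain ⟨y, hy, hyu⟩ := h1
  rw [mem_cj, ← hPT]
  refine ⟨y, hy, ?_⟩
  have h2 : (b : G) * (y : G) * (b : G)⁻¹ = u := congrArg Subtype.val hyu
  rw [← h2]
  simp [mul_assoc]

section Criterion

variable {G : Type*} [Group G] [Finite G] {p : ℕ} [Fact p.Prime] {A : Subgroup G} [A.Normal]

/-- The Frattini argument inside `A`. -/
theorem cj_sylow_eq (P₀ : Sylow p A) {T B : Subgroup G} (hT : (P₀ : Subgroup A).map A.subtype = T)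
    (hTB : T ≤ B) (hBA : B ≤ A) {g : G} (hg : cj g B = B) :
    ∃ b ∈ B, cj g T = cj b T := by
  have hTp : IsPGroup p T := hT ▸ P₀.2.map _
  have hmax : ∀ V : Subgroup G, V ≤ B → IsPGroup p V → T ≤ V → V = T := fun V hVB hV hTV => by
    have h1 : V.subgroupOf A = (P₀ : Subgroup A) := P₀.3 hV.comap_subtype fun y hy =>
      hTV (hT ▸ mem_map_of_mem A.subtype hy)
    rw [← map_subgroupOf_eq_of_le (hVB.trans hBA), h1, hT]
  obtain ⟨b, hb, hle⟩ := exists_cj_le_sylow hTB hTp hmax
    ((map_mono hTB).trans hg.le) (hTp.map _)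
  refine ⟨b, hb, eq_of_le_of_card_ge hle ?_⟩
  rw [card_map_of_injective (MulEquiv.injective _), card_map_of_injective (MulEquiv.injective _)]

/-- The Kondratiev–Maslova–Revin criterion, sufficiency, for a subgroup containing `T`. -/
theorem pronormal_of_criterion (hA : SylowOverPronormal p A) (hQ : SylowOverPronormal p (G ⧸ A))
    (P₀ : Sylow p A) {T : Subgroup G} (hT : (P₀ : Subgroup A).map A.subtype = T)
    [(T.subgroupOf (normalizer (T : Set G))).Normal]
    (h1 : SylowOverPronormal p (↥(normalizer (T : Set G)) ⧸ T.subgroupOf (normalizer (T : Set G))))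
    (h2 : ∀ K : Subgroup G, (∃ P : Sylow p G, (P : Subgroup G) ≤ K) →
      (normalizer (K : Set G)).map (QuotientGroup.mk' A) =
        normalizer ((K.map (QuotientGroup.mk' A) : Subgroup (G ⧸ A)) : Set (G ⧸ A)))
    (S : Sylow p G) (hTS : T ≤ S) (H : Subgroup G) (hSH : (S : Subgroup G) ≤ H) :
    Cfsg.IsPronormal H := by
  intro g
  show ∃ x ∈ H ⊔ cj g H, cj g H = cj x H
  have hTA : T ≤ A := hT ▸ map_subtype_le _
  set f := QuotientGroup.mk' A with hf
  -- reduce to an element of `A`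
  have hHbar : Cfsg.IsPronormal (H.map f) :=
    hQ _ ⟨S.mapSurjective (QuotientGroup.mk'_surjective A), map_mono hSH⟩
  obtain ⟨x', hx', hxe⟩ := hHbar (f g)
  change x' ∈ H.map f ⊔ cj (f g) (H.map f) at hx'
  change cj (f g) (H.map f) = cj x' (H.map f) at hxe
  rw [← map_cj, ← Subgroup.map_sup] at hx'
  obtain ⟨x, hx, rfl⟩ := hx'
  have hxg : x⁻¹ * g ∈ (normalizer (H : Set G)) ⊔ A := by
    have h3 : f (x⁻¹ * g) ∈ (normalizer (H : Set G)).map f := by
      rw [h2 H ⟨S, hSH⟩, mem_normalizer_iff_cj, map_mul, map_inv, cj_mul, hxe, ← cj_mul,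
        inv_mul_cancel, cj_one]
    have h4 : x⁻¹ * g ∈ ((normalizer (H : Set G)).map f).comap f := h3
    rwa [comap_map_eq, hf, QuotientGroup.ker_mk'] at h4
  obtain ⟨a, ha, n, hn, han⟩ := mem_sup_of_normal_left.1 (sup_comm _ A ▸ hxg)
  have hga : cj g H = cj (x * a) H := by
    rw [show g = x * a * n by rw [mul_assoc, han, mul_inv_cancel_left], cj_mul,
      mem_normalizer_iff_cj.1 hn]
  set K := H ⊔ cj g H with hK
  have haK : cj a H ≤ K := by
    have : cj a H = cj x⁻¹ (cj g H) := by rw [hga, ← cj_mul, inv_mul_cancel_left]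
    rw [this]
    exact cj_le_of_mem (inv_mem hx) le_sup_right
  suffices ∃ y ∈ K, cj a H = cj y H by
    obtain ⟨y, hy, he⟩ := this
    exact ⟨x * y, mul_mem hx hy, by rw [hga, cj_mul, he, ← cj_mul]⟩
  -- reduce to an element of `N_A(H ⊓ A)`
  set B := H ⊓ A with hB
  have hTH : T ≤ H := hTS.trans hSH
  have hTB : T ≤ B := le_inf hTH hTA
  have hBA : B ≤ A := inf_le_right
  have hBpro : Cfsg.IsPronormal (B.subgroupOf A) :=
    hA _ ⟨P₀, fun y hy => hTB (hT ▸ mem_map_of_mem A.subtype hy)⟩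
  obtain ⟨y, hy, hye⟩ := hBpro ⟨a, ha⟩
  change y ∈ B.subgroupOf A ⊔ cj ⟨a, ha⟩ (B.subgroupOf A) at hy
  change cj ⟨a, ha⟩ (B.subgroupOf A) = cj y (B.subgroupOf A) at hye
  have hyK : (y : G) ∈ K := by
    have h5 := mem_map_of_mem A.subtype hy
    rw [Subgroup.map_sup, map_cj, map_subgroupOf_eq_of_le hBA] at h5
    exact sup_le (inf_le_left.trans le_sup_left) ((map_mono inf_le_left).trans haK) h5
  have hye' : cj a B = cj (y : G) B := by
    have h6 := congrArg (Subgroup.map A.subtype) hye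
    rw [map_cj, map_cj, map_subgroupOf_eq_of_le hBA] at h6
    exact h6
  set a1 := (y : G)⁻¹ * a with ha1
  have ha1B : cj a1 B = B := by rw [ha1, cj_mul, hye', ← cj_mul, inv_mul_cancel, cj_one]
  -- reduce to an element of `N(T) ⊓ N(B)`
  obtain ⟨b, hb, hbe⟩ := cj_sylow_eq P₀ hT hTB hBA ha1B
  set c := b⁻¹ * a1 with hc
  have hcB : cj c B = B := by rw [hc, cj_mul, ha1B, cj_eq_of_mem (inv_mem hb)]
  have hcT : c ∈ normalizer (T : Set G) := by
    rw [mem_normalizer_iff_cj, hc, cj_mul, hbe, ← cj_mul, inv_mul_cancel, cj_one]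
  have hac : a = (y : G) * b * c := by simp [hc, ha1, mul_assoc]
  have hybK : (y : G) * b ∈ K := mul_mem hyK (le_sup_left (a := H) hb.1)
  have hcK : cj c H ≤ K := by
    have : cj c H = cj ((y : G) * b)⁻¹ (cj a H) := by
      rw [← cj_mul, hac, inv_mul_cancel_left]
    rw [this]
    exact cj_le_of_mem (inv_mem hybK) haK
  suffices ∃ z ∈ K, cj c H = cj z H by
    obtain ⟨z, hz, he⟩ := this
    exact ⟨(y : G) * b * z, mul_mem hybK hz, by rw [hac, cj_mul, he, ← cj_mul]⟩
  -- pronormality in `N(T) / T`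
  set NT := normalizer (T : Set G) with hNT
  set H1 := H ⊓ NT with hH1
  have hSA : (S : Subgroup G) ⊓ A = T := by
    refine le_antisymm ?_ (le_inf hTS hTA)
    have h7 : ((S : Subgroup G) ⊓ A).subgroupOf A = (P₀ : Subgroup A) :=
      P₀.3 (S.2.to_le inf_le_left).comap_subtype fun y hy =>
        ⟨hTS (hT ▸ mem_map_of_mem A.subtype hy), y.2⟩
    rw [← map_subgroupOf_eq_of_le (inf_le_right : (S : Subgroup G) ⊓ A ≤ A), h7, hT]
  have hSN : (S : Subgroup G) ≤ NT := fun s hs => by
    rw [hNT, ← hSA]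
    exact inf_normalizer_le_normalizer_inf
      ⟨le_normalizer hs, by rw [normalizer_eq_top]; exact mem_top s⟩
  set π := QuotientGroup.mk' (T.subgroupOf NT) with hπ
  have hH1q : Cfsg.IsPronormal ((H1.subgroupOf NT).map π) :=
    h1 _ ⟨(S.subtype hSN).mapSurjective (QuotientGroup.mk'_surjective _),
      map_mono fun s hs => ⟨hSH hs, s.2⟩⟩
  obtain ⟨z', hz', hze⟩ := hH1q (π ⟨c, hcT⟩)
  change z' ∈ _ ⊔ cj (π ⟨c, hcT⟩) _ at hz'
  change cj (π ⟨c, hcT⟩) _ = cj z' _ at hze
  rw [← map_cj, ← Subgroup.map_sup] at hz'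
  obtain ⟨z, hz, rfl⟩ := hz'
  have hTN : T ≤ NT := le_normalizer
  have hH1N : (H1.subgroupOf NT).map NT.subtype = H1 := map_subgroupOf_eq_of_le inf_le_right
  have hzm : (z : G) ∈ H1 ⊔ cj c H1 := by
    have h8 := mem_map_of_mem NT.subtype hz
    rwa [Subgroup.map_sup, map_cj, hH1N] at h8
  have hze2 : cj c H1 = cj (z : G) H1 := by
    have hker : π.ker ≤ H1.subgroupOf NT := by
      rw [hπ, QuotientGroup.ker_mk']
      exact fun t ht => ⟨hTH ht, t.2⟩
    have hk2 : ∀ w : NT, π.ker ≤ cj w (H1.subgroupOf NT) := fun w =>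
      (cj_normal w π.ker).ge.trans (map_mono hker)
    rw [← map_cj, ← map_cj] at hze
    have h9 := congrArg (Subgroup.map NT.subtype)
      ((Subgroup.map_injective_of_ker_le π (hk2 _) (hk2 _) hze))
    rw [map_cj, map_cj, hH1N] at h9
    exact h9
  have hH1B : H1 ≤ normalizer (B : Set G) := fun h hh => inf_normalizer_le_normalizer_inf
    ⟨le_normalizer hh.1, by rw [normalizer_eq_top]; exact mem_top h⟩
  have hzB : cj (z : G) B = B := mem_normalizer_iff_cj.1
    (sup_le hH1B (cj_le_of_mem (mem_normalizer_iff_cj.2 hcB) hH1B) hzm)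
  have hHdec : H = B ⊔ H1 := by
    refine le_antisymm (fun h hh => ?_) (sup_le inf_le_left inf_le_left)
    have hhB : cj h B = B := mem_normalizer_iff_cj.1 (inf_normalizer_le_normalizer_inf
      ⟨le_normalizer hh, by rw [normalizer_eq_top]; exact mem_top h⟩)
    obtain ⟨b', hb', he⟩ := cj_sylow_eq P₀ hT hTB hBA hhB
    have h10 : b'⁻¹ * h ∈ H1 := ⟨H.mul_mem (H.inv_mem hb'.1) hh, by
      show b'⁻¹ * h ∈ NT
      rw [mem_normalizer_iff_cj, cj_mul, he, ← cj_mul, inv_mul_cancel, cj_one]⟩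
    rw [← mul_inv_cancel_left b' h]
    exact mul_mem (mem_sup_left hb') (mem_sup_right h10)
  refine ⟨(z : G), sup_le (inf_le_left.trans le_sup_left) ((map_mono inf_le_left).trans hcK) hzm, ?_⟩
  rw [hHdec, cj, cj, Subgroup.map_sup, Subgroup.map_sup]
  exact congrArg₂ (· ⊔ ·) (hcB.trans hzB.symm) hze2

/-- Necessity of the first condition. -/
theorem quotient_condition (h : SylowOverPronormal p G) (P₀ : Sylow p A) {T : Subgroup G}
    (hT : (P₀ : Subgroup A).map A.subtype = T) [(T.subgroupOf (normalizer (T : Set G))).Normal] :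
    SylowOverPronormal p (↥(normalizer (T : Set G)) ⧸ T.subgroupOf (normalizer (T : Set G))) := by
  set NT := normalizer (T : Set G) with hNT
  set π := QuotientGroup.mk' (T.subgroupOf NT) with hπ
  rintro K ⟨P, hP⟩
  have hTp : IsPGroup p T := hT ▸ P₀.2.map _
  obtain ⟨S, hTS⟩ := hTp.exists_le_sylow
  have hSA : (S : Subgroup G) ⊓ A = T := by
    refine le_antisymm ?_ (le_inf hTS (hT ▸ map_subtype_le _))
    have h7 : ((S : Subgroup G) ⊓ A).subgroupOf A = (P₀ : Subgroup A) :=
      P₀.3 (S.2.to_le inf_le_left).comap_subtype fun y hy =>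
        ⟨hTS (hT ▸ mem_map_of_mem A.subtype hy), y.2⟩
    rw [← map_subgroupOf_eq_of_le (inf_le_right : (S : Subgroup G) ⊓ A ≤ A), h7, hT]
  have hSN : (S : Subgroup G) ≤ NT := fun s hs => by
    rw [hNT, ← hSA]
    exact inf_normalizer_le_normalizer_inf
      ⟨le_normalizer hs, by rw [normalizer_eq_top]; exact mem_top s⟩
  obtain ⟨R, hR⟩ := Sylow.mapSurjective_surjective (QuotientGroup.mk'_surjective (T.subgroupOf NT)) p P
  obtain ⟨n, hn⟩ := MulAction.exists_smul_eq NT (S.subtype hSN) R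
  have hSK : ((n : G) • S : Sylow p G) ≤ ((K.comap π).map NT.subtype) := by
    intro s hs
    rw [Sylow.coe_subgroup_smul, Subgroup.mem_smul_pointwise_iff_exists] at hs
    obtain ⟨t, ht, rfl⟩ := hs
    refine ⟨n * ⟨t, hSN ht⟩ * n⁻¹, ?_, rfl⟩
    show π (n * ⟨t, hSN ht⟩ * n⁻¹) ∈ K
    refine hP ?_
    rw [← hR, Sylow.coe_mapSurjective]
    refine mem_map_of_mem π ?_
    rw [← hn, Sylow.coe_subgroup_smul, Subgroup.mem_smul_pointwise_iff_exists]
    exact ⟨⟨t, hSN ht⟩, ht, rfl⟩
  have h1 := pronormal_map (QuotientGroup.mk'_surjective (T.subgroupOf NT))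
    (pronormal_subgroupOf (map_subtype_le (K.comap π)) (h _ ⟨_, hSK⟩))
  have e : ((K.comap π).map NT.subtype).subgroupOf NT = K.comap π :=
    comap_map_eq_self_of_injective NT.subtype_injective _
  rwa [e, map_comap_eq_self_of_surjective (QuotientGroup.mk'_surjective _)] at h1

omit [Finite G] [Fact p.Prime] in
/-- Necessity of the second condition. -/
theorem normalizer_condition {H : Subgroup G} (h : Cfsg.IsPronormal H) :
    (normalizer (H : Set G)).map (QuotientGroup.mk' A) =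
      normalizer ((H.map (QuotientGroup.mk' A) : Subgroup (G ⧸ A)) : Set (G ⧸ A)) := by
  refine le_antisymm (le_normalizer_map _) fun g' hg => ?_
  obtain ⟨g, rfl⟩ := QuotientGroup.mk'_surjective A g'
  rw [mem_normalizer_iff_cj, ← map_cj] at hg
  obtain ⟨x, hx, he⟩ := h g
  change x ∈ H ⊔ cj g H at hx
  change cj g H = cj x H at he
  have hle : cj g H ≤ H ⊔ A := by
    have := le_comap_map (QuotientGroup.mk' A) (cj g H)
    rwa [hg, comap_map_eq, QuotientGroup.ker_mk'] at this
  have hxA : x ∈ H ⊔ A := sup_le le_sup_left hle hx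
  have hn : x⁻¹ * g ∈ normalizer (H : Set G) := by
    rw [mem_normalizer_iff_cj, cj_mul, he, ← cj_mul, inv_mul_cancel, cj_one]
  have hgm : g ∈ normalizer (H : Set G) ⊔ A := by
    rw [← mul_inv_cancel_left x g]
    exact mul_mem ((sup_le_sup_right le_normalizer A) hxA) (mem_sup_left hn)
  have := mem_map_of_mem (QuotientGroup.mk' A) hgm
  rwa [Subgroup.map_sup, QuotientGroup.map_mk'_self, sup_bot_eq] at this

end Criterion


/-- Let p be a prime and G a finite group with a normal subgroup A such that, both in A and in G/A, every subgroup containing a Sylow p-subgroup of that group is pronormal in that group. Let T be a Sylow p-subgroup of A. Then every subgroup of G containing a Sylow p-subgroup of G is pronormal in G if and only if (i) every subgroup of N_G(T)/T containing a Sylow p-subgroup of N_G(T)/T is pronormal there, and (ii) for every subgroup H of G containing a Sylow p-subgroup of G, the image of N_G(H) in G/A is the full normalizer of the image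 of H. (Pronormal: H and gHg⁻¹ are conjugate inside the subgroup they generate, for every g.) -/
theorem result {G : Type*} [Group G] [Finite G] {p : ℕ} [Fact p.Prime]
    (A : Subgroup G) [A.Normal] (hA : (∀ K : Subgroup ↥A, (∃ P : Sylow p ↥A, (P : Subgroup ↥A) ≤ K) → Cfsg.IsPronormal K)) (hQ : (∀ K : Subgroup (G ⧸ A), (∃ P : Sylow p (G ⧸ A), (P : Subgroup (G ⧸ A)) ≤ K) → Cfsg.IsPronormal K))
    (T : Subgroup G) (hT : ∃ P : Sylow p ↥A, (P : Subgroup ↥A).map A.subtype = T) [(T.subgroupOf (Subgroup.normalizer (T : Set G))).Normal] :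
    (∀ K : Subgroup G, (∃ P : Sylow p G, (P : Subgroup G) ≤ K) → Cfsg.IsPronormal K) ↔
      ((∀ K : Subgroup (↥(Subgroup.normalizer (T : Set G)) ⧸ T.subgroupOf (Subgroup.normalizer (T : Set G))), (∃ P : Sylow p (↥(Subgroup.normalizer (T : Set G)) ⧸ T.subgroupOf (Subgroup.normalizer (T : Set G))), (P : Subgroup (↥(Subgroup.normalizer (T : Set G)) ⧸ T.subgroupOf (Subgroup.normalizer (T : Set G)))) ≤ K) → Cfsg.IsPronormal K) ∧
        ∀ K : Subgroup G, (∃ P : Sylow p G, (P : Subgroup G) ≤ K) →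
          (Subgroup.normalizer (K : Set G)).map (QuotientGroup.mk' A) = Subgroup.normalizer ((K.map (QuotientGroup.mk' A) : Subgroup (G ⧸ A)) : Set (G ⧸ A))) := by
  obtain ⟨P₀, hP₀⟩ := hT
  refine ⟨fun h => ⟨quotient_condition h P₀ hP₀, fun K hK => normalizer_condition (h K hK)⟩, ?_⟩
  rintro ⟨h1, h2⟩ K ⟨P, hP⟩
  obtain ⟨S, hTS⟩ := ((hP₀ ▸ P₀.2.map _ : IsPGroup p T)).exists_le_sylow
  obtain ⟨g, rfl⟩ := MulAction.exists_smul_eq G S P
  have hSK : (S : Subgroup G) ≤ cj g⁻¹ K := fun s hs => by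
    rw [mem_cj]
    refine hP ?_
    rw [Sylow.coe_subgroup_smul, Subgroup.mem_smul_pointwise_iff_exists]
    exact ⟨s, hs, by simp [MulAut.smul_def]⟩
  have h3 := pronormal_map (f := (MulAut.conj g).toMonoidHom) (MulEquiv.surjective _)
    (pronormal_of_criterion hA hQ P₀ hP₀ h1 h2 S hTS _ hSK)
  change Cfsg.IsPronormal (cj g (cj g⁻¹ K)) at h3
  rwa [← cj_mul, mul_inv_cancel, cj_one] at h3

end Cfsg.Agent.S4270
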