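import Cfsg.Statements.S4271
import Mathlib
import Cfsg.Agent.S4270

set_option autoImplicit false
open Cfsg

namespace Cfsg.Agent.S4271

open Subgroup S4270

/-- Overgroups of a self-normalizing Sylow subgroup are self-normalizing. -/
theorem normalizer_eq_of_selfNormalizing {Q : Type*} [Group Q] [Finite Q] {p : ℕ} [Fact p.Prime]
    (hQ : ∀ P : Sylow p Q, normalizer ((P : Subgroup Q) : Set Q) = P) {K : Subgroup Q}
    (hK : ∃ P : Sylow p Q, (P : Subgroup Q) ≤ K) : normalizer (K : Set Q) = K := by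
  obtain ⟨P, hP⟩ := hK
  refine le_antisymm (fun g hg => ?_) le_normalizer
  have hgK : cj g K = K := mem_normalizer_iff_cj.1 hg
  obtain ⟨k, hk⟩ := MulAction.exists_smul_eq K ((g • P).subtype (show ((g • P : Sylow p Q) : Subgroup Q) ≤ K by
    intro x hx
    rw [Sylow.coe_subgroup_smul, Subgroup.mem_smul_pointwise_iff_exists] at hx
    obtain ⟨y, hy, rfl⟩ := hx
    rw [← hgK]
    exact mem_map_of_mem _ (hP hy))) (P.subtype hP)
  rw [Sylow.smul_subtype] at hk
  have h : k • (g • P) = P := Sylow.subtype_injective hk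
  have h2 : ((k : Q) * g) • P = P := by rw [mul_smul]; exact h
  have h3 : (k : Q) * g ∈ K := hP ((hQ P).le (Sylow.smul_eq_iff_mem_normalizer.1 h2))
  simpa using mul_mem (inv_mem k.2) h3

/-- With self-normalizing Sylow subgroups all their overgroups are pronormal. -/
theorem sylowOverPronormal_of_selfNormalizing {Q : Type*} [Group Q] [Finite Q] {p : ℕ}
    [Fact p.Prime] (hQ : ∀ P : Sylow p Q, normalizer ((P : Subgroup Q) : Set Q) = P) :
    SylowOverPronormal p Q := by
  rintro K ⟨P, hP⟩ g
  show ∃ x ∈ K ⊔ cj g K, cj g K = cj x K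
  set M := K ⊔ cj g K with hM
  have hgP : ((g • P : Sylow p Q) : Subgroup Q) ≤ M := by
    intro x hx
    rw [Sylow.coe_subgroup_smul, Subgroup.mem_smul_pointwise_iff_exists] at hx
    obtain ⟨y, hy, rfl⟩ := hx
    exact mem_sup_right (mem_map_of_mem _ (hP hy))
  obtain ⟨m, hm⟩ := MulAction.exists_smul_eq M (P.subtype (hP.trans le_sup_left)) ((g • P).subtype hgP)
  rw [Sylow.smul_subtype] at hm
  have h : (m : Q) • P = g • P := Sylow.subtype_injective hm
  have h2 : ((m : Q)⁻¹ * g) • P = P := by rw [mul_smul, ← h, inv_smul_smul]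
  have h3 : (m : Q)⁻¹ * g ∈ K := hP ((hQ P).le (Sylow.smul_eq_iff_mem_normalizer.1 h2))
  refine ⟨m, m.2, ?_⟩
  conv_lhs => rw [← mul_inv_cancel_left (m : Q) g]
  rw [cj_mul, cj_eq_of_mem h3]


/-- Let p be a prime and G a finite group with a normal subgroup A such that every subgroup of A containing a Sylow p-subgroup of A is pronormal in A, and the Sylow p-subgroups of G/A are self-normalizing. Let T be a Sylow p-subgroup of A. Then every subgroup of G containing a Sylow p-subgroup of G is pronormal in G if and only if every subgroup of N_G(T)/T containing a Sylow p-subgroup of N_G(T)/T is pronormal in N_G(T)/T. (Pronormal: H and gHg⁻¹ are conjugate inside the subgroup they generate, for every g.) -/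
theorem result {G : Type*} [Group G] [Finite G] {p : ℕ} [Fact p.Prime]
    (A : Subgroup G) [A.Normal] (hA : (∀ K : Subgroup ↥A, (∃ P : Sylow p ↥A, (P : Subgroup ↥A) ≤ K) → Cfsg.IsPronormal K))
    (hQ : ∀ P : Sylow p (G ⧸ A), Subgroup.normalizer ((P : Subgroup (G ⧸ A)) : Set (G ⧸ A)) = P)
    (T : Subgroup G) (hT : ∃ P : Sylow p ↥A, (P : Subgroup ↥A).map A.subtype = T) [(T.subgroupOf (Subgroup.normalizer (T : Set G))).Normal] :
    (∀ K : Subgroup G, (∃ P : Sylow p G, (P : Subgroup G) ≤ K) → Cfsg.IsPronormal K) ↔ (∀ K : Subgroup (↥(Subgroup.normalizer (T : Set G)) ⧸ T.subgroupOf (Subgroup.normalizer (T : Set G))), (∃ P : Sylow p (↥(Subgroup.normalizer (T : Set G)) ⧸ T.subgroupOf (Subgroup.normalizer (T : Set G))), (P : Subgroup (↥(Subgroup.normalizer (T : Set G)) ⧸ T.subgroupOf (Subgroup.normalizer (T : Set G)))) ≤ K) → Cfsg.IsPronormal K) := by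
  refine Iff.trans (Cfsg.Agent.S4270.result A hA (sylowOverPronormal_of_selfNormalizing hQ) T hT)
    ⟨fun h => h.1, fun h => ⟨h, fun K hK => ?_⟩⟩
  obtain ⟨P, hP⟩ := hK
  have e := normalizer_eq_of_selfNormalizing hQ (K := K.map (QuotientGroup.mk' A))
    ⟨P.mapSurjective (QuotientGroup.mk'_surjective A), Subgroup.map_mono hP⟩
  exact le_antisymm (Subgroup.le_normalizer_map _)
    (e.le.trans (Subgroup.map_mono Subgroup.le_normalizer))

end Cfsg.Agent.S4271
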