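import Cfsg.Statements.S4274
import Cfsg.Agent.Lib.Order175560.Reduction

set_option autoImplicit false
open Cfsg

namespace Cfsg.Agent.S4274

/-- A finite group of order 175560 = 2³·3·5·7·11·19 is either simple or has a normal Sylow 19-subgroup. -/
theorem result {G : Type*} [Group G] [Finite G] (hG : Nat.card G = 175560) : IsSimpleGroup G ∨ ∀ P : Sylow 19 G, (P : Subgroup G).Normal := by
  haveI : Fact (Nat.Prime 19) := ⟨by norm_num⟩
  refine or_iff_not_imp_left.2 fun hs P => ?_
  haveI : Nontrivial G := Finite.one_lt_card_iff_nontrivial.1 (by rw [hG]; norm_num)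
  obtain ⟨N, hN, hNb, hNt⟩ : ∃ N : Subgroup G, N.Normal ∧ N ≠ ⊥ ∧ N ≠ ⊤ := by
    by_contra hcon
    refine hs ⟨fun N hN => ?_⟩
    by_contra hne
    push Not at hne
    exact hcon ⟨N, hN, hne.1, hne.2⟩
  exact Order175560.normal_of_normal_subgroup hG.dvd N hNb hNt
    (fun K _ _ hKd hKlt Q => Order175560.normal_of_proper_divisor K hKd (fun h => by omega) Q) P

end Cfsg.Agent.S4274
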