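import Cfsg.Statements.S4275
-- import your own Cfsg.Agent.* helpers here

set_option autoImplicit false
open Cfsg

namespace Cfsg.Agent.S4275

open MulAction

/-- `α` is induced by a permutation normalising `G`. -/
def IsInduced {Ω : Type*} (G : Subgroup (Equiv.Perm Ω)) (α : G ≃* G) : Prop :=
  ∃ σ : Equiv.Perm Ω, σ ∈ Subgroup.normalizer (G : Set (Equiv.Perm Ω)) ∧
    ∀ g : G, ((α g : G) : Equiv.Perm Ω) = σ * (g : Equiv.Perm Ω) * σ⁻¹

theorem isInduced_iff {Ω : Type*} [Fintype Ω] (G : Subgroup (Equiv.Perm Ω))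
    (htr : IsPretransitive G Ω) (o : Ω) (α : G ≃* G) :
    IsInduced G α ↔ ∃ ω : Ω, ∀ g ∈ stabilizer G o, α g • ω = ω := by
  constructor
  · rintro ⟨σ, -, hσ⟩
    refine ⟨σ o, fun g hg => ?_⟩
    show ((α g : G) : Equiv.Perm Ω) (σ o) = σ o
    rw [hσ]
    simp only [Equiv.Perm.mul_apply, Equiv.symm_apply_apply,
      Equiv.Perm.inv_def]
    exact congrArg σ hg
  · rintro ⟨ω, hω⟩
    choose t ht using fun x : Ω => exists_smul_eq G o x
    let φ : Ω → Ω := fun x => α (t x) • ω
    have hφ : ∀ g : G, φ (g • o) = α g • ω := by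
      intro g
      have hs : g⁻¹ * t (g • o) ∈ stabilizer G o := by
        rw [mem_stabilizer_iff, mul_smul, ht, inv_smul_smul]
      have h := hω _ hs
      rw [map_mul, mul_smul, map_inv, inv_smul_eq_iff] at h
      exact h
    have hsurj : Function.Surjective φ := by
      intro y
      obtain ⟨g, rfl⟩ := exists_smul_eq G ω y
      exact ⟨α.symm g • o, by rw [hφ, MulEquiv.apply_symm_apply]⟩
    let σ : Equiv.Perm Ω := Equiv.ofBijective φ (Finite.surjective_iff_bijective.mp hsurj)
    have hσ : ∀ (g : G) (x : Ω), σ (g • x) = α g • σ x := by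
      intro g x
      obtain ⟨h, rfl⟩ := exists_smul_eq G o x
      show φ (g • h • o) = α g • φ (h • o)
      rw [smul_smul, hφ, hφ, map_mul, mul_smul]
    have hconj : ∀ g : G, ((α g : G) : Equiv.Perm Ω) = σ * (g : Equiv.Perm Ω) * σ⁻¹ := by
      intro g
      rw [eq_mul_inv_iff_mul_eq]
      ext x
      exact (hσ g x).symm
    refine ⟨σ, ?_, hconj⟩
    rw [Subgroup.mem_normalizer_iff]
    intro h
    constructor
    · intro hh
      rw [← hconj ⟨h, hh⟩]
      exact (α ⟨h, hh⟩).2
    · intro hh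
      have h1 := hconj (α.symm ⟨_, hh⟩)
      rw [MulEquiv.apply_symm_apply] at h1
      simp only [mul_left_inj, mul_right_inj] at h1
      rw [h1]
      exact (α.symm ⟨_, hh⟩).2

/-- Let G be a transitive group of permutations of a finite set Ω, let o ∈ Ω, and let α be an automorphism of G. Then α is induced by conjugation by a permutation of Ω normalizing G if and only if the image under α of the stabilizer of o fixes some point of Ω. -/
theorem result {Ω : Type*} [Fintype Ω] (G : Subgroup (Equiv.Perm Ω)) (htr : MulAction.IsPretransitive G Ω) (o : Ω) (α : G ≃* G) : (∃ σ : Equiv.Perm Ω, σ ∈ Subgroup.normalizer (G : Set (Equiv.Perm Ω)) ∧ ∀ g : G, ((α g : G) : Equiv.Perm Ω) = σ * (g : Equiv.Perm Ω) * σ⁻¹) ↔ ∃ ω : Ω, ∀ g ∈ (MulAction.stabilizer G o).map α.toMonoidHom, g • ω = ω := by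
  refine (isInduced_iff G htr o α).trans (exists_congr fun ω => ?_)
  constructor
  · rintro h _ ⟨g, hg, rfl⟩
    exact h g hg
  · exact fun h g hg => h _ ⟨g, hg, rfl⟩

end Cfsg.Agent.S4275
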