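import Cfsg.Statements.S4276
import Cfsg.Agent.Lib.Perm.TwoClasses
import Cfsg.Agent.S4275
-- import your own Cfsg.Agent.* helpers here

set_option autoImplicit false
open Cfsg

namespace Cfsg.Agent.S4276

open MulAction

theorem isInduced_pow {Ω : Type*} {G : Subgroup (Equiv.Perm Ω)} {α : MulAut G}
    (h : Cfsg.Agent.S4275.IsInduced G α) (j : ℕ) : Cfsg.Agent.S4275.IsInduced G (α ^ j) := by
  induction j with
  | zero => exact ⟨1, one_mem _, fun g => by simp⟩
  | succ j ih =>
    obtain ⟨σ, hσn, hσ⟩ := h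
    obtain ⟨τ, hτn, hτ⟩ := ih
    refine ⟨τ * σ, mul_mem hτn hσn, fun g => ?_⟩
    rw [pow_succ, MulAut.mul_apply, hτ, hσ, mul_inv_rev]
    simp [mul_assoc]

/-- Let G be a doubly transitive group of permutations of a finite set Ω of size n, let o ∈ Ω, and let α be an automorphism of G of odd order. Suppose that the image under α of the stabilizer of o has an orbit on Ω whose length k is coprime to n. Then α is induced by conjugation by a permutation of Ω normalizing G, and k = 1 or k = n − 1. -/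
theorem result {Ω : Type*} [Fintype Ω] (G : Subgroup (Equiv.Perm Ω)) (h2 : MulAction.IsMultiplyPretransitive G Ω 2) (o : Ω) (α : MulAut G) (hα : Odd (orderOf α)) (ω : Ω) (hk : (Nat.card (MulAction.orbit ((MulAction.stabilizer G o).map α.toMonoidHom) ω)).Coprime (Fintype.card Ω)) : (∃ σ : Equiv.Perm Ω, σ ∈ Subgroup.normalizer (G : Set (Equiv.Perm Ω)) ∧ ∀ g : G, ((α g : G) : Equiv.Perm Ω) = σ * (g : Equiv.Perm Ω) * σ⁻¹) ∧ (Nat.card (MulAction.orbit ((MulAction.stabilizer G o).map α.toMonoidHom) ω) = 1 ∨ Nat.card (MulAction.orbit ((MulAction.stabilizer G o).map α.toMonoidHom) ω) = Fintype.card Ω - 1) := by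
  classical
  have htr : MulAction.IsPretransitive G Ω :=
    MulAction.isPretransitive_of_is_two_pretransitive (G := G)
  obtain ⟨x, hx⟩ := Cfsg.Agent.Perm.TwoClasses.exists_fixed_sq_stabilizer h2 o α ω hk
  have h2' : Cfsg.Agent.S4275.IsInduced G (α * α) :=
    (Cfsg.Agent.S4275.isInduced_iff G htr o _).mpr ⟨x, hx⟩
  obtain ⟨σ, hσn, hσ⟩ : Cfsg.Agent.S4275.IsInduced G α := by
    obtain ⟨e, he⟩ := hα
    have h := isInduced_pow h2' (e + 1)
    rwa [← pow_two, ← pow_mul, show 2 * (e + 1) = orderOf α + 1 by omega, pow_succ,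
      pow_orderOf_eq_one, one_mul] at h
  refine ⟨⟨σ, hσn, hσ⟩, ?_⟩
  set K := (MulAction.stabilizer G o).map α.toMonoidHom with hK
  have hKeq : K = MulAction.stabilizer G (σ o) := by
    ext g
    obtain ⟨g, rfl⟩ := α.surjective g
    rw [hK, Subgroup.mem_map_equiv, MulEquiv.symm_apply_apply, MulAction.mem_stabilizer_iff,
      MulAction.mem_stabilizer_iff]
    show (g : Equiv.Perm Ω) o = o ↔ ((α g : G) : Equiv.Perm Ω) (σ o) = σ o
    rw [hσ]
    simp
  rcases eq_or_ne ω (σ o) with rfl | hne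
  · left
    have : MulAction.orbit K (σ o) = {σ o} := by
      ext y
      rw [Set.mem_singleton_iff]
      refine ⟨?_, fun h => h ▸ MulAction.mem_orbit_self _⟩
      rintro ⟨⟨g, hg⟩, rfl⟩
      rw [hKeq] at hg
      exact hg
    simp [this]
  · right
    have : MulAction.orbit K ω = {σ o}ᶜ := by
      ext y
      rw [Set.mem_compl_iff, Set.mem_singleton_iff]
      constructor
      · rintro ⟨⟨g, hg⟩, rfl⟩ heq
        rw [hKeq] at hg
        exact hne (smul_left_cancel g (heq.trans hg.symm))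
      · intro hy
        obtain ⟨g, h1, h3⟩ := (MulAction.is_two_pretransitive_iff (G := G) (α := Ω)).mp h2
          hne.symm (Ne.symm hy)
        exact ⟨⟨g, hKeq ▸ h1⟩, h3⟩
    rw [this, Nat.card_eq_fintype_card, Fintype.card_compl_set, Set.card_singleton]

end Cfsg.Agent.S4276
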