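import Cfsg.Statements.S4277
import Cfsg.Agent.Lib.Perm.PrimeDegree
import Cfsg.Agent.Lib.Perm.TwoClasses
import Cfsg.Agent.Lib.SmallSimple.Basic
-- import your own Cfsg.Agent.* helpers here

set_option autoImplicit false
open Cfsg

namespace Cfsg.Agent.S4277

open MulAction
open scoped Pointwise

theorem isSolvable_of_sq {Q : Type*} [Group Q] (S : Set Q) (hS : ∀ x y : Q, x * y * x⁻¹ * y⁻¹ ∈ S)
    (hmul : ∀ x ∈ S, ∀ y ∈ S, x * y ∈ S) (hone : (1 : Q) ∈ S) (hsq : ∀ x ∈ S, x * x = 1) :
    Group.IsSolvable Q := by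
  have hinv : ∀ x ∈ S, x⁻¹ = x := fun x hx => inv_eq_of_mul_eq_one_left (hsq x hx)
  let T : Subgroup Q :=
    { carrier := S
      mul_mem' := fun ha hb => hmul _ ha _ hb
      one_mem' := hone
      inv_mem' := fun {a} ha => show a⁻¹ ∈ S by rw [hinv a ha]; exact ha }
  have hT : derivedSeries Q 1 ≤ T := by
    rw [derivedSeries_succ, derivedSeries_zero, Subgroup.commutator_le]
    exact fun g₁ _ g₂ _ => hS g₁ g₂
  refine ⟨⟨2, ?_⟩⟩
  rw [derivedSeries_succ, Subgroup.commutator_eq_bot_iff_le_centralizer]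
  intro x hx
  rw [Subgroup.mem_centralizer_iff]
  intro y hy
  have h := hsq _ (hmul _ (hT hy) _ (hT hx))
  calc y * x = (y * x)⁻¹ := (inv_eq_of_mul_eq_one_left h).symm
    _ = x⁻¹ * y⁻¹ := mul_inv_rev y x
    _ = x * y := by rw [hinv x (hT hx), hinv y (hT hy)]

/-- A case of the Schreier conjecture: if a finite simple group G has a subgroup of prime index, then the outer automorphism group of G is solvable. -/
theorem result {G : Type*} [Group G] [Finite G] [IsSimpleGroup G] (H : Subgroup G) (hH : H.index.Prime) : Group.IsSolvable (Cfsg.Out G) := by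
  classical
  by_cases hc : IsMulCommutative G
  · haveI : IsCyclic G := by
      obtain ⟨g, hg⟩ := exists_ne (1 : G)
      haveI : (Subgroup.zpowers g).Normal := ⟨fun x hx y => by
        rwa [show y * x = x * y from hc.is_comm.comm y x, mul_inv_cancel_right]⟩
      exact ⟨⟨g, (Subgroup.eq_top_iff' _).1 ((IsSimpleGroup.eq_bot_or_eq_top_of_normal
        (Subgroup.zpowers g) inferInstance).resolve_left (Subgroup.zpowers_ne_bot.2 hg))⟩⟩
    refine isSolvable_of_comm fun a b => ?_
    induction a using QuotientGroup.induction_on with | H x => ?_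
    induction b using QuotientGroup.induction_on with | H y => ?_
    rw [← QuotientGroup.mk_mul, ← QuotientGroup.mk_mul]
    congr 1
    apply MulEquiv.injective (IsCyclic.mulAutMulEquiv G)
    rw [map_mul, map_mul, mul_comm]
  set p := H.index with hp
  haveI : Fact p.Prime := ⟨hH⟩
  have hHtop : H ≠ ⊤ := by
    intro h
    rw [hp, h, Subgroup.index_top] at hH
    exact Nat.not_prime_one hH
  haveI : Fintype (G ⧸ H) := Fintype.ofFinite _
  have hcard : Fintype.card (G ⧸ H) = p := by
    rw [← Nat.card_eq_fintype_card, ← Subgroup.index_eq_card]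
  set f := MulAction.toPermHom G (G ⧸ H) with hf
  have hinj : Function.Injective f :=
    Cfsg.Agent.SmallSimple.injective_of_simple f (Cfsg.Agent.SmallSimple.toPermHom_ne_one_of_index H hHtop)
  have hfaith : ∀ a b : G, (∀ y : G ⧸ H, a • y = b • y) → a = b := fun a b h => hinj (Equiv.ext h)
  have h2 : MulAction.IsMultiplyPretransitive G (G ⧸ H) 2 := by
    haveI : MulAction.IsPretransitive f.range (G ⧸ H) := ⟨fun a b => by
      obtain ⟨g, hg⟩ := MulAction.exists_smul_eq G a b
      exact ⟨⟨f g, g, rfl⟩, hg⟩⟩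
    have hns : ¬ Group.IsSolvable f.range := by
      intro h
      have h' : Group.IsSolvable G := solvable_of_solvable_injective (f := f.rangeRestrict)
        (fun a b e => hinj (congrArg Subtype.val e))
      exact hc ⟨⟨IsSimpleGroup.comm_iff_isSolvable.mpr h'⟩⟩
    have h := Cfsg.Agent.Perm.PrimeDegree.twoTransitive_of_not_isSolvable hcard hns
    rw [MulAction.is_two_pretransitive_iff] at h ⊢
    intro a b c d hab hcd
    obtain ⟨⟨_, g, rfl⟩, hg1, hg2⟩ := h hab hcd
    exact ⟨g, hg1, hg2⟩
  obtain ⟨P⟩ : Nonempty (Sylow p G) := inferInstance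
  have hpG : Nat.card G ∣ p.factorial := by
    have h := Subgroup.card_dvd_of_injective f hinj
    rwa [Nat.card_perm, Nat.card_eq_fintype_card (α := G ⧸ H), hcard] at h
  have hp2 : ¬ p * p ∣ Nat.card G := by
    intro h
    have h' := h.trans hpG
    rw [← Nat.mul_factorial_pred hH.ne_zero] at h'
    have := (Nat.Prime.dvd_factorial hH).mp ((Nat.mul_dvd_mul_iff_left hH.pos).mp h')
    have := hH.two_le
    omega
  have hHp : ¬ p ∣ Nat.card H := fun h => hp2 (by
    rw [← H.index_mul_card, ← hp]; exact Nat.mul_dvd_mul_left _ h)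
  have hPc : Nat.card (P : Subgroup G) = p := by
    obtain ⟨e, he⟩ := IsPGroup.iff_card.mp P.2
    have h1 : e ≠ 0 := by
      rintro rfl
      exact P.ne_bot_of_dvd_card (H.index_dvd_card) (Subgroup.card_eq_one.mp (by simpa using he))
    have h2 : e < 2 := by
      by_contra h
      apply hp2
      have hd := Subgroup.card_subgroup_dvd_card (P : Subgroup G)
      rw [he] at hd
      exact (pow_two p ▸ pow_dvd_pow p (not_lt.mp h)).trans hd
    rw [he, show e = 1 by omega, pow_one]
  set o : G ⧸ H := ((1 : G) : G ⧸ H) with ho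
  have hstab : MulAction.stabilizer G o = H := MulAction.stabilizer_quotient H
  have hPtrans : ∀ y : G ⧸ H, ∃ z ∈ (P : Subgroup G), z • o = y := by
    have horb : MulAction.orbit (P : Subgroup G) o = Set.univ := by
      obtain ⟨j, hj⟩ := P.2.card_orbit o
      have hd : Nat.card (MulAction.orbit (P : Subgroup G) o) ∣ p :=
        (Dvd.intro _ (Cfsg.Agent.SmallSimple.card_orbit_mul_card_stabilizer o)).trans hPc.dvd
      rcases (Nat.dvd_prime hH).mp hd with h | h
      · exfalso
        have hle : (P : Subgroup G) ≤ H := by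
          intro x hx
          rw [← hstab, MulAction.mem_stabilizer_iff]
          haveI := (Nat.card_eq_one_iff_unique.mp h).1
          exact congrArg Subtype.val (Subsingleton.elim
            (⟨x • o, ⟨⟨x, hx⟩, rfl⟩⟩ : MulAction.orbit (P : Subgroup G) o) ⟨o, MulAction.mem_orbit_self o⟩)
        exact hHp (by have := Subgroup.card_dvd_of_le hle; rwa [hPc] at this)
      · exact (Set.eq_univ_iff_ncard _).mpr (by
          rw [← Nat.card_coe_set_eq, h, Nat.card_eq_fintype_card, hcard])
    intro y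
    obtain ⟨⟨z, hz⟩, h⟩ := (show y ∈ MulAction.orbit (P : Subgroup G) o by rw [horb]; exact Set.mem_univ y)
    exact ⟨z, hz, h⟩
  -- automorphisms fixing `P` pointwise square into inner automorphisms
  have key : ∀ β : MulAut G, (∀ z ∈ (P : Subgroup G), β z = z) →
      β * β ∈ (MulAut.conj : G →* MulAut G).range := by
    intro β hβ
    obtain ⟨x, hx⟩ := Cfsg.Agent.Perm.TwoClasses.exists_fixed_sq_stabilizer h2 o β o (by
      rw [hcard, Nat.coprime_comm, hH.coprime_iff_not_dvd, hstab]
      intro h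
      apply hHp
      rw [← Subgroup.card_map_of_injective (f := β.toMonoidHom) β.injective]
      exact h.trans (Dvd.intro _
        (Cfsg.Agent.SmallSimple.card_orbit_mul_card_stabilizer
          (G := H.map β.toMonoidHom) o)))
    obtain ⟨w, hw, rfl⟩ := hPtrans x
    refine ⟨w, ?_⟩
    ext g
    rw [MulAut.conj_apply, MulAut.mul_apply]
    refine hfaith _ _ fun y => ?_
    obtain ⟨u, hu, rfl⟩ := hPtrans y
    obtain ⟨v, hv, hv'⟩ := hPtrans (g • (w⁻¹ * u) • o)
    have hs : v⁻¹ * (g * (w⁻¹ * u)) ∈ MulAction.stabilizer G o := by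
      rw [MulAction.mem_stabilizer_iff, mul_smul, mul_smul, ← hv', inv_smul_smul]
    have h := hx _ hs
    have hvP := hβ v hv
    have huP := hβ u hu
    have hwP := hβ w hw
    simp only [map_mul, map_inv, MulAut.mul_apply] at h ⊢
    rw [hvP, hvP, huP, huP, hwP, hwP, mul_smul, inv_smul_eq_iff] at h
    haveI := isCyclic_of_prime_card hPc
    have hc' : ∀ a ∈ (P : Subgroup G), ∀ b ∈ (P : Subgroup G), a * b = b * a := fun a ha b hb =>
      congrArg Subtype.val
        ((IsCyclic.commGroup (α := (P : Subgroup G))).mul_comm ⟨a, ha⟩ ⟨b, hb⟩)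
    calc (w * g * w⁻¹) • u • o = w • (g • (w⁻¹ * u) • o) := by simp only [mul_smul]
      _ = (v * w) • o := by rw [← hv', smul_smul, hc' w hw v hv]
      _ = (β (β g) * (w⁻¹ * u)) • w • o := by rw [mul_smul, ← h]
      _ = β (β g) • u • o := by
        rw [mul_smul, smul_smul (w⁻¹ * u) w o, mul_assoc, hc' u hu w hw, inv_mul_cancel_left]
  -- the normaliser of `P` in `Aut G` covers `Out G`
  let C : Set (Cfsg.Out G) := {q | ∃ β : MulAut G, (∀ z ∈ (P : Subgroup G), β z = z) ∧
    (β : Cfsg.Out G) = q}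
  have hlift : ∀ q : Cfsg.Out G, ∃ β : MulAut G, (∀ z, z ∈ (P : Subgroup G) ↔ β z ∈ (P : Subgroup G)) ∧
      (β : Cfsg.Out G) = q := by
    intro q
    induction q using QuotientGroup.induction_on with | H β => ?_
    let Q : Sylow p G := Sylow.ofCard ((P : Subgroup G).map β.toMonoidHom) (by
      rw [Subgroup.card_map_of_injective β.injective]
      exact P.card_eq_multiplicity)
    obtain ⟨g, hg⟩ := MulAction.exists_smul_eq G Q P
    refine ⟨MulAut.conj g * β, fun z => ?_, ?_⟩
    · have hPmap : (P : Subgroup G) = (MulAut.conj g : MulAut G) • (P : Subgroup G).map β.toMonoidHom := by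
        conv_lhs => rw [← hg]
        rfl
      conv_rhs => rw [hPmap, Subgroup.mem_pointwise_smul_iff_inv_smul_mem]
      rw [MulAut.mul_apply]
      show z ∈ (P : Subgroup G) ↔ (MulAut.conj g)⁻¹ (MulAut.conj g (β z)) ∈ _
      rw [MulAut.inv_apply_self, Subgroup.mem_map_equiv, MulEquiv.symm_apply_apply]
    · rw [QuotientGroup.eq]
      have : (MulAut.conj g * β)⁻¹ * β = MulAut.conj (β.symm g⁻¹) := by
        ext z
        simp [MulAut.mul_apply, mul_inv_rev, MulAut.conj_apply, MulAut.inv_def]
      rw [this]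
      exact ⟨_, rfl⟩
  refine isSolvable_of_sq C ?_ ?_ ⟨1, fun z _ => rfl, rfl⟩ ?_
  · intro q r
    obtain ⟨β, hβ, rfl⟩ := hlift q
    obtain ⟨γ, hγ, rfl⟩ := hlift r
    refine ⟨β * γ * β⁻¹ * γ⁻¹, fun z hz => ?_, rfl⟩
    haveI := isCyclic_of_prime_card hPc
    let res : ∀ δ : MulAut G, (∀ z, z ∈ (P : Subgroup G) ↔ δ z ∈ (P : Subgroup G)) →
        MulAut (P : Subgroup G) := fun δ hδ =>
      { toFun := fun z => ⟨δ z, (hδ z).mp z.2⟩
        invFun := fun z => ⟨δ.symm z, (hδ _).mpr (by rw [MulEquiv.apply_symm_apply]; exact z.2)⟩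
        left_inv := fun z => Subtype.ext (δ.symm_apply_apply _)
        right_inv := fun z => Subtype.ext (δ.apply_symm_apply _)
        map_mul' := fun a b => Subtype.ext (map_mul δ _ _) }
    have hcomm : res β hβ * res γ hγ = res γ hγ * res β hβ :=
      (IsCyclic.mulAutMulEquiv (P : Subgroup G)).injective (by rw [map_mul, map_mul, mul_comm])
    have hz' : ((res β hβ).symm ((res γ hγ).symm ⟨z, hz⟩) : G) = β.symm (γ.symm z) := rfl
    have := congrArg (fun δ : MulAut (P : Subgroup G) =>
      ((δ ((res β hβ).symm ((res γ hγ).symm ⟨z, hz⟩))) : G)) hcomm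
    simp only [MulAut.mul_apply] at this ⊢
    show β (γ (β.symm (γ.symm z))) = z
    rw [← hz']
    refine this.trans ?_
    show γ (β (β.symm (γ.symm z))) = z
    rw [MulEquiv.apply_symm_apply, MulEquiv.apply_symm_apply]
  · rintro _ ⟨β, hβ, rfl⟩ _ ⟨γ, hγ, rfl⟩
    exact ⟨β * γ, fun z hz => by rw [MulAut.mul_apply, hγ z hz, hβ z hz], rfl⟩
  · rintro _ ⟨β, hβ, rfl⟩
    rw [← QuotientGroup.mk_mul, QuotientGroup.eq_one_iff]
    exact key β hβ

end Cfsg.Agent.S4277
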