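-- Statement S4278: G2(q), q odd, has one class of involutions.
import Cfsg.Statements.S4278
import Cfsg.Agent.Lib.G2OddInvol.Class

set_option autoImplicit false
open Cfsg

namespace Cfsg.Agent.S4278

theorem result {F : Type*} [Field F] [Fintype F] (hF : Odd (Fintype.card F)) (s t : ↥(Cfsg.Lie.chevG2.group F)) (hs : orderOf s = 2) (ht : orderOf t = 2) : IsConj s t := by
  have h2 : (2 : F) ≠ 0 := by
    have hc := FiniteField.even_card_iff_char_two (F := F)
    exact Ring.two_ne_zero fun h => by
      have := hc.1 h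
      rw [Nat.odd_iff] at hF; omega
  have key : ∀ x : ↥(Cfsg.Lie.chevG2.group F), orderOf x = 2 → G2OddInvol.Cj (x : GL _ F) G2OddInvol.base := by
    intro x hx
    refine G2OddInvol.cj_base h2 x.2 ?_ ?_
    · have := pow_orderOf_eq_one x
      rw [hx, sq] at this
      exact congrArg Subtype.val this
    · intro h
      rw [← Subgroup.orderOf_coe, h, orderOf_one] at hx
      omega
  obtain ⟨g, hg, e⟩ := (key s hs).trans (key t ht).symm
  exact isConj_iff.2 ⟨⟨g, hg⟩, Subtype.ext e⟩

end Cfsg.Agent.S4278
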