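import Cfsg.Statements.S4282
import Cfsg.Agent.Lib.HallHigmanCritical.Critical

set_option autoImplicit false
open Cfsg

namespace Cfsg.Agent.S4282

open Finset HallHigmanCritical

/-- A critical case behind the Hall–Higman theorem. Let p ≠ q be primes and G a finite group generated by a normal q-subgroup Q and a cyclic p-subgroup generated by x, such that the centralizer of every non-identity element of that cyclic subgroup is its product with the centre of G. Let K be an algebraically closed field of characteristic p and ρ a faithful representation of G on a nonzero finite-dimensional K-space whose restriction to Q is irreducible. If s is the least exponent with (ρ(x) − 1)^s = 0, then |⟨x⟩| − 1 ≤ s ≤ |⟨x⟩|; and if s = |⟨x⟩| − 1 then |⟨x⟩| − 1 is a power of q and Q is non-abelian. -/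
theorem result {G : Type*} [Group G] [Finite G] (p q : ℕ) [Fact p.Prime] [Fact q.Prime] (hpq : p ≠ q) (Q : Subgroup G) [Q.Normal] (hQ : IsPGroup q Q) (x : G) (hx : IsPGroup p (Subgroup.zpowers x)) (hgen : Q ⊔ Subgroup.zpowers x = ⊤) (hC : ∀ y ∈ Subgroup.zpowers x, y ≠ 1 → Subgroup.centralizer ({y} : Set G) = Subgroup.zpowers x ⊔ Subgroup.center G) {K : Type*} [Field K] [IsAlgClosed K] [CharP K p] {V : Type*} [AddCommGroup V] [Module K V] [FiniteDimensional K V] [Nontrivial V] (ρ : Representation K G V) (hfaith : Function.Injective ρ) (hirr : ∀ W : Submodule K V, (∀ g ∈ Q, Submodule.map (ρ g) W ≤ W) → W = ⊥ ∨ W = ⊤) (s : ℕ) (hs : (ρ x - 1) ^ s = 0) (hmin : ∀ k < s, (ρ x - 1) ^ k ≠ 0) : Nat.card (Subgroup.zpowers x) - 1 ≤ s ∧ s ≤ Nat.card (Subgroup.zpowers x) ∧ (s = Nat.card (Subgroup.zpowers x) - 1 → (∃ b : ℕ, Nat.card (Subgroup.zpowers x) - 1 = q ^ b) ∧ ¬ IsMulCommutative Q) := by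
  classical
  have hpp : p.Prime := Fact.out
  set T := ρ x - 1 with hT
  set u := ρ x⁻¹ with hu
  set n := orderOf x with hn
  rw [Nat.card_zpowers, ← hn]
  obtain ⟨e, he⟩ : ∃ e, n = p ^ e := by
    obtain ⟨e, he⟩ := IsPGroup.iff_card.1 hx
    exact ⟨e, by rw [hn, ← Nat.card_zpowers, he]⟩
  have : CharP (Module.End K V) p :=
    charP_of_injective_algebraMap (algebraMap K (Module.End K V)).injective p
  have hTn : T ^ n = 0 := by
    rw [hT, he, sub_pow_char_pow_of_commute p e (Commute.one_right (ρ x)), one_pow, ← map_pow, ← he,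
      pow_orderOf_eq_one, map_one, sub_self]
  have hsn : s ≤ n := not_lt.1 fun h => hmin n h hTn
  have hs1 : 1 ≤ s := Nat.one_le_iff_ne_zero.2 fun h => by
    rw [h, pow_zero] at hs
    exact one_ne_zero hs
  suffices key : s < n → n - 1 ≤ s ∧ ((∃ b : ℕ, n - 1 = q ^ b) ∧ ¬ IsMulCommutative Q) by
    refine ⟨?_, hsn, fun h => ?_⟩
    · rcases hsn.lt_or_eq with h | h
      · exact (key h).1
      · omega
    · exact (key (by have := orderOf_pos x; omega)).2
  intro hlt
  have hx1 : ρ x ≠ 1 := fun h => by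
    have : x = 1 := hfaith (h.trans (map_one ρ).symm)
    rw [hn, this, orderOf_one] at hlt
    omega
  have hcardQ : (Nat.card Q : K) ≠ 0 := by
    obtain ⟨a, ha⟩ := IsPGroup.iff_card.1 hQ
    rw [ha, ne_eq, CharP.cast_eq_zero_iff K p]
    exact fun h => hpq ((Nat.prime_dvd_prime_iff_eq hpp Fact.out).1 (hpp.dvd_of_dvd_pow h))
  have hirr' : ∀ W : Submodule K V, (∀ g : Q, W.map (ρ g) ≤ W) → W = ⊥ ∨ W = ⊤ :=
    fun W hW => hirr W fun g hg => hW ⟨g, hg⟩
  have hfree' : ∀ r ∈ Q, r ∉ Subgroup.center G → ∀ y ∈ Subgroup.zpowers x, y * r = r * y → y = 1 := by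
    intro r hr hrz y hy hcomm
    by_contra hy1
    have hmem : r ∈ Subgroup.zpowers x ⊔ Subgroup.center G := by
      rw [← hC y hy hy1, Subgroup.mem_centralizer_singleton_iff]
      exact hcomm.symm
    obtain ⟨w, hw, z, hz, hwz⟩ := Subgroup.mem_sup_of_normal_right.1 hmem
    obtain ⟨a, ha⟩ := IsPGroup.iff_card.1 hQ
    have h1 : r ^ q ^ a = 1 := by
      have := congrArg Subtype.val (pow_card_eq_one' (x := (⟨r, hr⟩ : Q)))
      rw [ha] at this
      simpa using this
    have h2 : w ^ q ^ a ∈ Subgroup.center G := by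
      rw [← hwz, (show Commute w z from (Subgroup.mem_center_iff.1 hz w)).mul_pow] at h1
      rw [eq_inv_of_mul_eq_one_left h1]
      exact inv_mem (pow_mem hz _)
    obtain ⟨k, hk⟩ : ∃ k, orderOf w = p ^ k := by
      obtain ⟨k, hk⟩ := hx ⟨w, hw⟩
      obtain ⟨j, -, hj⟩ := (Nat.dvd_prime_pow hpp).1 (orderOf_dvd_of_pow_eq_one
        (show w ^ p ^ k = 1 from congrArg Subtype.val hk))
      exact ⟨j, hj⟩
    have hcop : (q ^ a).Coprime (orderOf w) := by
      rw [hk]
      exact Nat.Coprime.pow _ _ ((Nat.coprime_primes Fact.out hpp).2 (Ne.symm hpq))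
    obtain ⟨j, hj⟩ := exists_pow_eq_self_of_coprime hcop
    refine hrz ?_
    rw [← hwz]
    exact mul_mem (hj ▸ pow_mem h2 j) hz
  have hfree : ∀ r ∈ Q, (∀ c : K, ρ r ≠ c • 1) → ∀ y ∈ Subgroup.zpowers x, y * r = r * y → y = 1 := by
    intro r hr hns
    refine hfree' r hr fun hz => ?_
    obtain ⟨c, hc⟩ := exists_scalar_of_commute (fun g : Q => ρ g) hirr' (ρ r) fun h => by
      rw [← map_mul, ← map_mul, Subgroup.mem_center_iff.1 hz (h : G)]
    exact hns c hc
  obtain ⟨hsn', hdim, hdim2⟩ := critical_bound (p := p) ρ Q hcardQ hirr' x (he : orderOf x = p ^ e) hx1 hfree s hs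
    hmin (he ▸ hlt)
  rw [← he] at hsn' hdim
  refine ⟨hsn'.ge, ?_⟩
  refine ⟨?_, fun hcomm => ?_⟩
  · obtain ⟨b, hb⟩ := exists_finrank_eq_pow (Nat.card Q) (Q := Q) le_rfl hQ (ρ.comp Q.subtype)
      fun W hW => hirr' W hW
    exact ⟨b, hdim ▸ hb⟩
  · -- an abelian `Q` forces dimension one
    obtain ⟨v, hv⟩ := exists_ne (0 : V)
    have hscalar : ∀ g : Q, ∃ c : K, ρ g = c • 1 := fun g =>
      exists_scalar_of_commute (fun h : Q => ρ h) hirr' (ρ g) fun h => by
        rw [← map_mul, ← map_mul]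
        exact congrArg ρ (congrArg Subtype.val (hcomm.is_comm.comm h g))
    rcases hirr' (K ∙ v) (fun g => by
        obtain ⟨c, hc⟩ := hscalar g
        rintro _ ⟨w, hw, rfl⟩
        rw [hc]
        simpa using Submodule.smul_mem _ c hw) with h | h
    · exact hv (by simpa using h)
    · have : Module.finrank K V = 1 := by
        rw [← finrank_top (R := K) (M := V), ← h, finrank_span_singleton hv]
      omega

end Cfsg.Agent.S4282
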