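import Cfsg.Statements.S4283
import Cfsg.Agent.Lib.Frobenius.Basic
-- import your own Cfsg.Agent.* helpers here

set_option autoImplicit false
open Cfsg

namespace Cfsg.Agent.S4283

/-- Let G be a finite group with centre Z and let K, H be abelian subgroups of G containing Z such that G/Z is a Frobenius group with complement H/Z and kernel K/Z. Then the conjugacy class sizes of G are exactly 1, [G : K] and [G : H], and these two indices are coprime. (This is the converse half of the characterization of finite groups whose conjugacy class sizes are exactly 1, m and n with m and n coprime.) -/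
theorem result {G : Type*} [Group G] [Finite G] (K H : Subgroup G) (hZK : Subgroup.center G ≤ K) (hZH : Subgroup.center G ≤ H) (hK : IsMulCommutative K) (hH : IsMulCommutative H) (hFrob : Cfsg.IsFrobeniusComplement (H.map (QuotientGroup.mk' (Subgroup.center G)))) (hker : Cfsg.frobeniusKernel (H.map (QuotientGroup.mk' (Subgroup.center G))) = (K.map (QuotientGroup.mk' (Subgroup.center G)) : Set (G ⧸ Subgroup.center G))) : Set.range (fun x : G => (Subgroup.centralizer ({x} : Set G)).index) = ({1, K.index, H.index} : Set ℕ) ∧ K.index.Coprime H.index := by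
  classical
  set Z := Subgroup.center G
  set π := QuotientGroup.mk' Z with hπ
  have hker' : π.ker = Z := QuotientGroup.ker_mk' Z
  have hsurj : Function.Surjective π := QuotientGroup.mk'_surjective Z
  have hcH : (H.map π).comap π = H := Subgroup.comap_map_eq_self (hker'.le.trans hZH)
  have hcK : (K.map π).comap π = K := Subgroup.comap_map_eq_self (hker'.le.trans hZK)
  have hiH : H.index = (H.map π).index := by
    conv_lhs => rw [← hcH, Subgroup.index_comap_of_surjective _ hsurj]
  have hiK : K.index = (K.map π).index := by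
    conv_lhs => rw [← hcK, Subgroup.index_comap_of_surjective _ hsurj]
  have hcard : Nat.card (K.map π) = (H.map π).index := by
    rw [← Frobenius.card_kernel hFrob, hker]
    rfl
  have hkk : (K.map π).index = Nat.card (H.map π) := by
    have h1 := Subgroup.card_mul_index (K.map π)
    have h2 := Subgroup.card_mul_index (H.map π)
    rw [hcard] at h1
    have hpos : 0 < (H.map π).index := Nat.pos_of_ne_zero Subgroup.index_ne_zero_of_finite
    exact Nat.eq_of_mul_eq_mul_left hpos (h1.trans (h2.symm.trans (Nat.mul_comm _ _)))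
  have hcop : K.index.Coprime H.index := by
    rw [hiK, hiH, hkk, Nat.Coprime, Nat.gcd_rec, Frobenius.index_mod_card hFrob, ← Nat.gcd_rec,
      Nat.gcd_one_right]
  -- membership in the subgroups and their images
  have memH : ∀ y : G, π y ∈ H.map π ↔ y ∈ H := fun y => by
    rw [← Subgroup.mem_comap, hcH]
  have memK : ∀ y : G, π y ∈ K.map π ↔ y ∈ K := fun y => by
    rw [← Subgroup.mem_comap, hcK]
  have hne : ∀ y : G, π y = 1 ↔ y ∈ Z := fun y => by rw [← MonoidHom.mem_ker, hker']
  -- centralisers
  have cH : ∀ x ∈ H, x ∉ Z → Subgroup.centralizer ({x} : Set G) = H := by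
    intro x hx hxZ
    refine le_antisymm (fun y hy => (memH y).1 ?_) (fun y hy => ?_)
    · rw [Subgroup.mem_centralizer_singleton_iff] at hy
      exact Frobenius.mem_of_commute hFrob ((memH x).2 hx) (fun h => hxZ ((hne x).1 h))
        (Commute.map (show Commute y x from hy) π)
    · rw [Subgroup.mem_centralizer_singleton_iff]
      exact congrArg Subtype.val (hH.is_comm.comm ⟨y, hy⟩ ⟨x, hx⟩)
  have hout : ∀ y : G, y ∉ K → ∃ g : G, g⁻¹ * y * g ∈ H ∧ y ∉ Z := by
    intro y hy
    have h1 : π y ∉ Cfsg.frobeniusKernel (H.map π) := by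
      rw [hker]
      exact fun h => hy ((memK y).1 h)
    have hyZ : y ∉ Z := fun h => hy (hZK h)
    rw [Frobenius.mem_kernel_iff (fun h => hyZ ((hne y).1 h))] at h1
    push Not at h1
    obtain ⟨g, hg⟩ := h1
    obtain ⟨g, rfl⟩ := hsurj g
    rw [← map_inv, ← map_mul, ← map_mul] at hg
    exact ⟨g, (memH _).1 hg, hyZ⟩
  have hconjZ : ∀ (g y : G), y ∉ Z → g⁻¹ * y * g ∉ Z := fun g y hy h => hy <| by
    have h2 : g * (g⁻¹ * y * g) * g⁻¹ ∈ Z :=
      (inferInstance : (Subgroup.center G).Normal).conj_mem _ h g
    simpa [mul_assoc] using h2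
  have cK : ∀ x ∈ K, x ∉ Z → Subgroup.centralizer ({x} : Set G) = K := by
    intro x hx hxZ
    refine le_antisymm (fun y hy => ?_) (fun y hy => ?_)
    · rw [Subgroup.mem_centralizer_singleton_iff] at hy
      by_contra hyK
      obtain ⟨g, hg, hyZ⟩ := hout y hyK
      have h2 : g⁻¹ * x * g ∈ H := by
        rw [← cH _ hg (hconjZ g y hyZ), Subgroup.mem_centralizer_singleton_iff]
        have e : Commute y x := hy
        show g⁻¹ * x * g * (g⁻¹ * y * g) = g⁻¹ * y * g * (g⁻¹ * x * g)
        calc g⁻¹ * x * g * (g⁻¹ * y * g) = g⁻¹ * (x * y) * g := by group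
          _ = g⁻¹ * (y * x) * g := by rw [e.eq]
          _ = g⁻¹ * y * g * (g⁻¹ * x * g) := by group
      have h3 : π x ∈ Cfsg.frobeniusKernel (H.map π) := by
        rw [hker]
        exact (memK x).2 hx
      rw [Frobenius.mem_kernel_iff (fun h => hxZ ((hne x).1 h))] at h3
      apply h3 (π g)
      rw [← map_inv, ← map_mul, ← map_mul]
      exact (memH _).2 h2
    · rw [Subgroup.mem_centralizer_singleton_iff]
      exact congrArg Subtype.val (hK.is_comm.comm ⟨y, hy⟩ ⟨x, hx⟩)
  refine ⟨Set.Subset.antisymm ?_ ?_, hcop⟩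
  · rintro _ ⟨x, rfl⟩
    simp only [Set.mem_insert_iff, Set.mem_singleton_iff]
    by_cases hxZ : x ∈ Z
    · left
      rw [Subgroup.index_eq_one, Subgroup.centralizer_eq_top_iff_subset]
      simpa using hxZ
    by_cases hxK : x ∈ K
    · exact Or.inr (Or.inl (by rw [cK x hxK hxZ]))
    obtain ⟨g, hg, -⟩ := hout x hxK
    refine Or.inr (Or.inr ?_)
    have hm : Subgroup.centralizer ({x} : Set G) = H.map (MulAut.conj g).toMonoidHom := by
      ext y
      rw [Subgroup.mem_map_equiv, MulAut.conj_symm_apply, ← cH _ hg (hconjZ g x hxZ),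
        Subgroup.mem_centralizer_singleton_iff, Subgroup.mem_centralizer_singleton_iff]
      constructor
      · intro h
        calc g⁻¹ * y * g * (g⁻¹ * x * g) = g⁻¹ * (y * x) * g := by group
          _ = g⁻¹ * (x * y) * g := by rw [h]
          _ = g⁻¹ * x * g * (g⁻¹ * y * g) := by group
      · intro h
        have h' := congrArg (fun t => g * t * g⁻¹) h
        simp only [mul_assoc, mul_inv_cancel_left, mul_inv_cancel, mul_one] at h'
        exact h'
    rw [hm]
    exact Subgroup.index_map_equiv H (MulAut.conj g)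
  · intro n hn
    simp only [Set.mem_insert_iff, Set.mem_singleton_iff] at hn
    rcases hn with rfl | rfl | rfl
    · refine ⟨1, ?_⟩
      show (Subgroup.centralizer ({1} : Set G)).index = 1
      rw [Subgroup.index_eq_one, Subgroup.centralizer_eq_top_iff_subset]
      simp [Subgroup.one_mem]
    · obtain ⟨⟨k, hk⟩, hk1⟩ : ∃ k : K.map π, k ≠ 1 :=
        Subgroup.ne_bot_iff_exists_ne_one.1 fun h => hFrob.2.1 (Subgroup.index_eq_one.1
          (by rw [← hcard, h, Subgroup.card_bot]))
      obtain ⟨x, hx, rfl⟩ := hk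
      refine ⟨x, ?_⟩
      show (Subgroup.centralizer ({x} : Set G)).index = K.index
      rw [cK x hx fun h => hk1 (Subtype.ext ((hne x).2 h))]
    · obtain ⟨⟨k, hk⟩, hk1⟩ : ∃ k : H.map π, k ≠ 1 :=
        Subgroup.ne_bot_iff_exists_ne_one.1 hFrob.1
      obtain ⟨x, hx, rfl⟩ := hk
      refine ⟨x, ?_⟩
      show (Subgroup.centralizer ({x} : Set G)).index = H.index
      rw [cH x hx fun h => hk1 (Subtype.ext ((hne x).2 h))]

end Cfsg.Agent.S4283
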