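import Cfsg.Statements.S4290
import Cfsg.Agent.S4276
import Cfsg.Agent.Lib.SmallSimple.Basic
-- import your own Cfsg.Agent.* helpers here

set_option autoImplicit false
open Cfsg

namespace Cfsg.Agent.S4290

/-- Let G be a doubly transitive group of permutations of a finite set Ω in which a point stabilizer is a Hall subgroup of G (its order is coprime to its index). Then every automorphism of G of odd order is induced by conjugation by a permutation of Ω normalizing G. -/
theorem result {Ω : Type*} [Fintype Ω] (G : Subgroup (Equiv.Perm Ω)) (h2 : MulAction.IsMultiplyPretransitive G Ω 2) (o : Ω) (hHall : (Nat.card (MulAction.stabilizer G o)).Coprime (MulAction.stabilizer G o).index) (α : MulAut G) (hα : Odd (orderOf α)) : ∃ σ : Equiv.Perm Ω, σ ∈ Subgroup.normalizer (G : Set (Equiv.Perm Ω)) ∧ ∀ g : G, ((α g : G) : Equiv.Perm Ω) = σ * (g : Equiv.Perm Ω) * σ⁻¹ := by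
  haveI : MulAction.IsPretransitive G Ω :=
    MulAction.isPretransitive_of_is_two_pretransitive (G := G)
  refine (Cfsg.Agent.S4276.result G h2 o α hα o (Nat.Coprime.coprime_dvd_left
    (k := Nat.card ((MulAction.stabilizer G o).map α.toMonoidHom)) ?_ ?_)).1
  · exact Dvd.intro _ (Cfsg.Agent.SmallSimple.card_orbit_mul_card_stabilizer
      (G := (MulAction.stabilizer G o).map α.toMonoidHom) o)
  · rw [Subgroup.card_map_of_injective (α.injective : Function.Injective α.toMonoidHom)]
    rwa [MulAction.index_stabilizer_of_transitive, Nat.card_eq_fintype_card (α := Ω)] at hHall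

end Cfsg.Agent.S4290
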