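-- S4291
import Cfsg.Statements.S4291
import Cfsg.Agent.Lib.Frobenius.CoreQuotient
import Cfsg.Agent.Lib.Frobenius.ComplementSL25
import Cfsg.Agent.S3358

set_option autoImplicit false
set_option linter.style.haveILetI false
open Cfsg

namespace Cfsg.Agent.S4291

open scoped MatrixGroups
open CoreQuotient

section Helpers

variable {G : Type*} [Group G] [Finite G]

/-- The quotient by the kernel is one of the four large types. -/
def IsBig (N : Subgroup G) : Prop :=
  (∀ M : Subgroup G, M.Normal → IsZGroup M → M ≤ N) ∧ 12 ≤ N.index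

/-- The quotient by the kernel is trivial or the four-group. -/
def IsSmall (N : Subgroup G) : Prop :=
  N = ⊤ ∨ ∃ f : G →* DihedralGroup 2, Function.Surjective f ∧ f.ker = N

theorem index_ker_eq {Q : Type*} [Group Q] {f : G →* Q} (hf : Function.Surjective f) : f.ker.index = Nat.card Q := by
  rw [Subgroup.index_ker, MonoidHom.range_eq_top.2 hf, Subgroup.card_top]

theorem classify {N : Subgroup G}
    (h : N = ⊤ ∨
      (∃ f : G →* DihedralGroup 2, Function.Surjective f ∧ f.ker = N) ∨
      (∃ f : G →* alternatingGroup (Fin 4), Function.Surjective f ∧ f.ker = N) ∨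
      (∃ f : G →* Equiv.Perm (Fin 4), Function.Surjective f ∧ f.ker = N) ∨
      (∃ f : G →* alternatingGroup (Fin 5), Function.Surjective f ∧ f.ker = N) ∨
      (∃ f : G →* Equiv.Perm (Fin 5), Function.Surjective f ∧ f.ker = N)) : IsSmall N ∨ IsBig N := by
  have big : ∀ {Q : Type} [Group Q] (f : G →* Q), NoZNormal Q → 12 ≤ Nat.card Q → Function.Surjective f →
      f.ker = N → IsBig N := by
    intro Q _ f hQ hc hf hk
    exact ⟨fun M hM hZ => by haveI := hM; haveI := hZ; exact hk ▸ le_ker_of_noZNormal hQ hf M,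
      by rw [← hk, index_ker_eq hf]; exact hc⟩
  rcases h with h | h | ⟨f, hf, hk⟩ | ⟨f, hf, hk⟩ | ⟨f, hf, hk⟩ | ⟨f, hf, hk⟩
  · exact Or.inl (Or.inl h)
  · exact Or.inl (Or.inr h)
  · exact Or.inr (big f noZNormal_alternatingFour (by rw [Nat.card_eq_fintype_card]; decide) hf hk)
  · exact Or.inr (big f noZNormal_permFour (by rw [Nat.card_eq_fintype_card, Fintype.card_perm]; decide) hf hk)
  · exact Or.inr (big f noZNormal_alternatingFive (by rw [Nat.card_eq_fintype_card]; decide) hf hk)
  · exact Or.inr (big f noZNormal_permFive (by rw [Nat.card_eq_fintype_card, Fintype.card_perm]; decide) hf hk)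

theorem IsSmall.index_le {N : Subgroup G} (h : IsSmall N) : N.index ≤ 4 := by
  rcases h with rfl | ⟨f, hf, rfl⟩
  · rw [Subgroup.index_top]; norm_num
  · rw [index_ker_eq hf, klein_card]

theorem big_not_small {N M : Subgroup G} (hN : IsBig N) (hM : IsSmall M) [hMn : M.Normal] [hMz : IsZGroup M] :
    False := by
  have h1 := Nat.le_of_dvd (Nat.pos_of_ne_zero Subgroup.index_ne_zero_of_finite)
    (Subgroup.index_dvd_of_le (hN.1 M hMn hMz))
  have := hN.2
  have := hM.index_le
  omega

theorem small_unique
    (hgen : ∀ P : Sylow 2 G, ∃ a b : G, a ∈ (P : Subgroup G) ∧ b ∈ (P : Subgroup G) ∧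
      ∀ p ∈ (P : Subgroup G), p ∈ Subgroup.closure {a, b})
    {N M : Subgroup G} (hN : IsSmall N) (hM : IsSmall M) [IsZGroup N] [IsZGroup M] : N = M := by
  rcases hN with rfl | ⟨f, hf, rfl⟩
  · rcases hM with rfl | ⟨f', hf', rfl⟩
    · rfl
    · exfalso
      have hG : IsZGroup G := IsZGroup.of_injective (f := (Subgroup.topEquiv (G := G)).symm.toMonoidHom)
        (Subgroup.topEquiv (G := G)).symm.injective
      exact klein_not_isZGroup (IsZGroup.of_surjective hf')
  · rcases hM with rfl | ⟨f', hf', rfl⟩
    · exfalso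
      have hG : IsZGroup G := IsZGroup.of_injective (f := (Subgroup.topEquiv (G := G)).symm.toMonoidHom)
        (Subgroup.topEquiv (G := G)).symm.injective
      exact klein_not_isZGroup (IsZGroup.of_surjective hf)
    obtain ⟨P⟩ : Nonempty (Sylow 2 G) := Sylow.nonempty
    haveI : Fact (Nat.Prime 2) := ⟨Nat.prime_two⟩
    obtain ⟨a, b, ha, hb, hab⟩ := hgen P
    set F := f.prod f' with hF
    have hker : F.ker ≤ f.ker ∧ F.ker ≤ f'.ker := by
      constructor <;> intro x hx <;> rw [MonoidHom.mem_ker, hF, MonoidHom.prod_apply, Prod.mk_eq_one] at hx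
      exacts [hx.1, hx.2]
    have hsq : ∀ y : DihedralGroup 2 × DihedralGroup 2, y * y = 1 := fun y =>
      Prod.ext (klein_sq y.1) (klein_sq y.2)
    have hcomm : ∀ x y : DihedralGroup 2 × DihedralGroup 2, x * y = y * x := fun x y =>
      Prod.ext (klein_comm x.1 y.1) (klein_comm x.2 y.2)
    have hdvd : F.ker.index ∣ 2 ^ 4 := by
      rw [Subgroup.index_ker]
      refine (Subgroup.card_subgroup_dvd_card _).trans ?_
      rw [Nat.card_prod, klein_card]
      norm_num
    have htop : (P : Subgroup G) ⊔ F.ker = ⊤ := by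
      rw [← Subgroup.index_eq_one]
      refine Nat.eq_one_of_dvd_coprimes (Nat.Coprime.pow_right 4 ?_)
        (Subgroup.index_dvd_of_le le_sup_left) ((Subgroup.index_dvd_of_le le_sup_right).trans hdvd)
      rw [Nat.coprime_comm, Nat.prime_two.coprime_iff_not_dvd]
      exact P.not_dvd_index
    have hrange : ∀ g, F g ∈ ({1, F a, F b, F a * F b} : Set _) := by
      let S : Subgroup G := {
        carrier := {g | F g ∈ ({1, F a, F b, F a * F b} : Set _)}
        one_mem' := by simp
        mul_mem' := by
          intro x y hx hy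
          simp only [Set.mem_insert_iff, Set.mem_singleton_iff, Set.mem_setOf_eq, map_mul] at hx hy ⊢
          have e1 : F b * (F a * F b) = F a := by rw [hcomm (F a), ← mul_assoc, hsq, one_mul]
          have e2 : F a * (F a * F b) = F b := by rw [← mul_assoc, hsq, one_mul]
          have e3 : F a * F b * F a = F b := by rw [hcomm, e2]
          have e4 : F a * F b * F b = F a := by rw [mul_assoc, hsq, mul_one]
          rcases hx with h | h | h | h <;> rcases hy with h' | h' | h' | h' <;>
            simp [h, h', hsq, e1, e2, e3, e4, hcomm (F b) (F a)]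
        inv_mem' := by
          intro x hx
          show F x⁻¹ ∈ ({1, F a, F b, F a * F b} : Set _)
          rw [map_inv, inv_eq_of_mul_eq_one_right (hsq (F x))]
          exact hx }
      have hPS : (P : Subgroup G) ≤ S := fun p hp => by
        refine (Subgroup.closure_le S).2 ?_ (hab p hp)
        intro x hx
        show F x ∈ ({1, F a, F b, F a * F b} : Set _)
        simp only [Set.mem_insert_iff, Set.mem_singleton_iff] at hx
        rcases hx with h | h <;> rw [h] <;> simp
      have hkS : F.ker ≤ S := fun x hx => by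
        show F x ∈ ({1, F a, F b, F a * F b} : Set _)
        rw [MonoidHom.mem_ker.1 hx]; simp
      intro g
      exact (sup_le hPS hkS) (htop ▸ Subgroup.mem_top g)
    have hle4 : F.ker.index ≤ 4 := by
      rw [Subgroup.index_ker]
      have hsub : (F.range : Set _) ⊆ {1, F a, F b, F a * F b} := by
        rintro _ ⟨g, rfl⟩; exact hrange g
      refine (Nat.card_mono (Set.toFinite _) hsub).trans ?_
      rw [Nat.card_coe_set_eq]
      refine (Set.ncard_insert_le _ _).trans (Nat.succ_le_succ ((Set.ncard_insert_le _ _).trans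
        (Nat.succ_le_succ ((Set.ncard_insert_le _ _).trans ?_))))
      rw [Set.ncard_singleton]
    have heq : ∀ L : Subgroup G, F.ker ≤ L → L.index = 4 → L = F.ker := fun L hle hi => by
      have h1 := Subgroup.index_dvd_of_le hle
      have h2 := Nat.le_of_dvd (Nat.pos_of_ne_zero Subgroup.index_ne_zero_of_finite) h1
      have h3 := Subgroup.relIndex_mul_index hle
      have h4 : F.ker.relIndex L = 1 := by
        rw [hi] at h3
        omega
      exact le_antisymm (Subgroup.relIndex_eq_one.1 h4) hle
    rw [heq f.ker hker.1 (by rw [index_ker_eq hf, klein_card]),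
      heq f'.ker hker.2 (by rw [index_ker_eq hf', klein_card])]

/-- A normal Z-subgroup of `2`-power index gives a normal complement of a Sylow `2`-subgroup. -/
theorem exists_complement (P : Sylow 2 G) {M : Subgroup G} [M.Normal] [IsZGroup M] {j : ℕ}
    (hM : M.index ∣ 2 ^ j) : ∃ O : Subgroup G, O.Normal ∧ Subgroup.IsComplement' O P := by
  haveI : Fact (Nat.Prime 2) := ⟨Nat.prime_two⟩
  obtain ⟨O', hO'n, hO'odd, i, hi⟩ : ∃ O' : Subgroup M, O'.Normal ∧ ¬ 2 ∣ Nat.card O' ∧
      ∃ i, O'.index ∣ 2 ^ i := by
    by_cases h2 : 2 ∣ Nat.card M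
    · obtain ⟨T⟩ : Nonempty (Sylow 2 M) := Sylow.nonempty
      have hmin : (Nat.card M).minFac = 2 := (Nat.minFac_eq_two_iff _).2 h2
      have hc := IsCyclic.isComplement' hmin (P := T) inferInstance
      exact ⟨_, MonoidHom.normal_ker _, MonoidHom.not_dvd_card_ker_transferSylow T _,
        _, (hc.symm.index_eq_card.trans T.card_eq_multiplicity).dvd⟩
    · exact ⟨⊤, inferInstance, by rwa [Subgroup.card_top], 0, by simp⟩
  haveI := hO'n
  have hmem : ∀ x : M, x ∈ O' ↔ ¬ 2 ∣ orderOf x := by
    intro x
    constructor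
    · exact fun hx h => hO'odd (h.trans (Subgroup.orderOf_mk (H := O') x hx ▸ _root_.orderOf_dvd_natCard _))
    · intro hx
      rw [← QuotientGroup.eq_one_iff, ← orderOf_eq_one_iff]
      refine Nat.eq_one_of_dvd_coprimes (Nat.Coprime.pow_right i ?_)
        (orderOf_map_dvd (QuotientGroup.mk' O') x) ((_root_.orderOf_dvd_natCard _).trans hi)
      rwa [Nat.coprime_comm, Nat.prime_two.coprime_iff_not_dvd]
  set O := O'.map M.subtype with hO
  have hOcard : Nat.card O = Nat.card O' := Subgroup.card_map_of_injective M.subtype_injective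
  have hOn : O.Normal := ⟨by
    rintro _ ⟨x, hx, rfl⟩ g
    refine ⟨⟨g * x * g⁻¹, Subgroup.Normal.conj_mem inferInstance _ x.2 g⟩, (hmem _).2 ?_, rfl⟩
    rw [← Subgroup.orderOf_coe]
    show ¬ 2 ∣ orderOf (g * (x : G) * g⁻¹)
    rw [← MulAut.conj_apply, MulEquiv.orderOf_eq, Subgroup.orderOf_coe]
    exact (hmem x).1 hx⟩
  refine ⟨O, hOn, Subgroup.isComplement'_of_coprime ?_ ?_⟩
  · obtain ⟨k, hk⟩ := IsPGroup.iff_card.1 P.2
    have hidx : O.index ∣ 2 ^ (i + j) := by
      have h1 : O.relIndex M * M.index = O.index := Subgroup.relIndex_mul_index (Subgroup.map_subtype_le _)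
      rw [← h1, pow_add, Subgroup.relIndex, hO, Subgroup.subgroupOf,
        Subgroup.comap_map_eq_self_of_injective M.subtype_injective]
      exact mul_dvd_mul hi hM
    have e1 := O.card_mul_index
    have e2 := (P : Subgroup G).card_mul_index
    have d1 : O.index ∣ Nat.card (P : Subgroup G) := by
      refine Nat.Coprime.dvd_of_dvd_mul_right ?_ ((e2 ▸ e1 ▸ dvd_mul_left _ _) : O.index ∣ _)
      refine Nat.Coprime.coprime_dvd_left hidx (Nat.Coprime.pow_left _ ?_)
      rw [Nat.prime_two.coprime_iff_not_dvd]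
      exact P.not_dvd_index
    have d2 : Nat.card (P : Subgroup G) ∣ O.index := by
      refine Nat.Coprime.dvd_of_dvd_mul_left ?_ ((e1.symm ▸ e2 ▸ dvd_mul_right _ _) : Nat.card (P : Subgroup G) ∣ _)
      rw [hk]
      refine Nat.Coprime.pow_left _ ?_
      rw [Nat.prime_two.coprime_iff_not_dvd, hOcard]
      exact hO'odd
    rw [Nat.dvd_antisymm d2 d1, e1]
  · obtain ⟨k, hk⟩ := IsPGroup.iff_card.1 P.2
    rw [hk, hOcard]
    refine Nat.Coprime.pow_right _ ?_
    rw [Nat.coprime_comm, Nat.prime_two.coprime_iff_not_dvd]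
    exact hO'odd

end Helpers

/-- Let G be a finite group that occurs as a Frobenius complement. Then G has exactly one normal subgroup N such that every Sylow subgroup of N is cyclic and the quotient of G by N is trivial or isomorphic to one of the following five groups: the Klein four-group, the alternating group of degree 4, the symmetric group of degree 4, the alternating group of degree 5, the symmetric group of degree 5. (The quotient is described by a surjective homomorphism with kernel N; the Klein four-group is written as the dihedral group of order 4.) -/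
theorem result {G : Type*} [Group G] [Finite G]
    (hFC : (∃ (L : Type) (_ : Group L) (_ : Finite L) (H : Subgroup L), Cfsg.IsFrobeniusComplement H ∧ Nonempty (G ≃* H))) :
    ∃! N : Subgroup G, N.Normal ∧ (∀ (p : ℕ) [Fact p.Prime] (P : Sylow p N), IsCyclic P) ∧
      (N = ⊤ ∨
        (∃ f : G →* DihedralGroup 2, Function.Surjective f ∧ f.ker = N) ∨
        (∃ f : G →* alternatingGroup (Fin 4), Function.Surjective f ∧ f.ker = N) ∨
        (∃ f : G →* Equiv.Perm (Fin 4), Function.Surjective f ∧ f.ker = N) ∨
        (∃ f : G →* alternatingGroup (Fin 5), Function.Surjective f ∧ f.ker = N) ∨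
        (∃ f : G →* Equiv.Perm (Fin 5), Function.Surjective f ∧ f.ker = N)) := by
  obtain ⟨d, ρ, hd, hρ⟩ := SL25.exists_fpfRep hFC
  haveI : Nonempty (Fin d) := ⟨⟨0, hd⟩⟩
  haveI : Fact (Nat.Prime 2) := ⟨Nat.prime_two⟩
  have hodd : ∀ (p : ℕ) [Fact p.Prime], p ≠ 2 → ∀ T : Subgroup G, IsPGroup p T → IsCyclic T :=
    fun p _ hp T hT => SL25.isCyclic_of_isPGroup_odd hρ hp hT
  have htwo : ∀ P : Sylow 2 G, IsCyclic (P : Subgroup G) ∨ ∃ n, 1 ≤ n ∧
      Nonempty ((P : Subgroup G) ≃* QuaternionGroup (2 ^ n)) := fun P =>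
    (PGroup.cyclic_or_quaternion_of_unique P.2 (SL25.unique_prime_subgroup hρ P.2)).imp id
      fun ⟨_, n, hn, _, he⟩ => ⟨n, hn, he⟩
  have hgen : ∀ P : Sylow 2 G, ∃ a b : G, a ∈ (P : Subgroup G) ∧ b ∈ (P : Subgroup G) ∧
      ∀ p ∈ (P : Subgroup G), p ∈ Subgroup.closure {a, b} := by
    intro P
    suffices h : ∃ a b : (P : Subgroup G), ∀ p, p ∈ Subgroup.closure {a, b} by
      obtain ⟨a, b, hab⟩ := h
      refine ⟨a, b, a.2, b.2, fun p hp => ?_⟩
      have := Subgroup.mem_map_of_mem (P : Subgroup G).subtype (hab ⟨p, hp⟩)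
      rwa [MonoidHom.map_closure, Set.image_pair] at this
    rcases htwo P with hc | ⟨n, hn, ⟨φ⟩⟩
    · obtain ⟨a, ha⟩ := hc.exists_generator
      exact ⟨a, a, fun p => (Subgroup.zpowers_le.2 (Subgroup.subset_closure (by simp))) (ha p)⟩
    · haveI : NeZero (2 ^ n) := ⟨by positivity⟩
      refine ⟨φ.symm (.a 1), φ.symm (.xa 0), fun p => ?_⟩
      have key : ∀ q : QuaternionGroup (2 ^ n), q ∈ Subgroup.closure {QuaternionGroup.a 1, QuaternionGroup.xa 0} := by
        rintro (i | i)
        · have := pow_mem (Subgroup.subset_closure (k := ({QuaternionGroup.a 1, QuaternionGroup.xa 0} : Set (QuaternionGroup (2 ^ n)))) (Set.mem_insert _ _)) i.val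
          rwa [QuaternionGroup.a_one_pow, ZMod.natCast_zmod_val] at this
        · have := mul_mem (Subgroup.subset_closure (k := ({QuaternionGroup.a 1, QuaternionGroup.xa 0} : Set (QuaternionGroup (2 ^ n)))) (Set.mem_insert_of_mem _ rfl))
            (pow_mem (Subgroup.subset_closure (k := ({QuaternionGroup.a 1, QuaternionGroup.xa 0} : Set (QuaternionGroup (2 ^ n)))) (Set.mem_insert _ _)) i.val)
          rwa [QuaternionGroup.a_one_pow, ZMod.natCast_zmod_val, QuaternionGroup.xa_mul_a, zero_add] at this
      have := Subgroup.mem_map_of_mem φ.symm.toMonoidHom (key (φ p))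
      rw [MonoidHom.map_closure, Set.image_pair] at this
      simpa using this
  refine existsUnique_of_exists_of_unique ?_ ?_
  swap
  · rintro N M ⟨hNn, hNz, hNt⟩ ⟨hMn, hMz, hMt⟩
    haveI : IsZGroup N := ⟨fun p hp P => @hNz p ⟨hp⟩ P⟩
    haveI : IsZGroup M := ⟨fun p hp P => @hMz p ⟨hp⟩ P⟩
    haveI := hNn
    haveI := hMn
    rcases classify hNt with hN | hN <;> rcases classify hMt with hM | hM
    · exact small_unique hgen hN hM
    · exact (big_not_small hM hN).elim
    · exact (big_not_small hN hM).elim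
    · exact le_antisymm (hM.1 N hNn inferInstance) (hN.1 M hMn inferInstance)
  by_cases hsol : Group.IsSolvable G
  · obtain ⟨G₀, hG₀n, ⟨f, hf⟩, hG₀c, -⟩ := S3358.result hsol hFC
    haveI : IsZGroup G₀ := ⟨fun p hp P => @hG₀c p ⟨hp⟩ P⟩
    haveI := hG₀n
    obtain ⟨P⟩ : Nonempty (Sylow 2 G) := Sylow.nonempty
    rcases htwo P with hc | ⟨n, hn, ⟨φ⟩⟩
    · refine ⟨⊤, inferInstance, fun p hp T => ?_, Or.inl rfl⟩
      rcases eq_or_ne p 2 with rfl | hp2
      · haveI := hc
        refine ((T : Subgroup (⊤ : Subgroup G)).equivMapOfInjective _ (⊤ : Subgroup G).subtype_injective).isCyclic.2 ?_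
        obtain ⟨P', hP'⟩ := (T.2.map (⊤ : Subgroup G).subtype).exists_le_sylow
        haveI : IsCyclic (P' : Subgroup G) := (Sylow.equiv P P').isCyclic.1 hc
        exact Subgroup.isCyclic_of_le hP'
      · exact ((T : Subgroup (⊤ : Subgroup G)).equivMapOfInjective _ (⊤ : Subgroup G).subtype_injective).isCyclic.2
          (hodd p hp2 _ (T.2.map _))
    have hidx : G₀.index = Nat.card f.range := hf ▸ Subgroup.index_ker f
    have hdvd : Nat.card f.range ∣ 24 := by
      have := Subgroup.card_subgroup_dvd_card f.range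
      rwa [Nat.card_eq_fintype_card (α := Equiv.Perm (Fin 4)), Fintype.card_perm, Fintype.card_fin,
        show Nat.factorial 4 = 24 from rfl] at this
    have hmem : Nat.card f.range ∈ Nat.divisors 24 := Nat.mem_divisors.2 ⟨hdvd, by norm_num⟩
    rw [show Nat.divisors 24 = {1, 2, 3, 4, 6, 8, 12, 24} by decide] at hmem
    simp only [Finset.mem_insert, Finset.mem_singleton] at hmem
    have hprop : ∀ (p : ℕ) [Fact p.Prime] (T : Sylow p G₀), IsCyclic T := hG₀c
    by_cases h12 : Nat.card f.range = 12
    · have hr : f.range = alternatingGroup (Fin 4) := Equiv.Perm.eq_alternatingGroup_of_index_eq_two (by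
        have := f.range.card_mul_index
        rw [h12, Nat.card_eq_fintype_card (α := Equiv.Perm (Fin 4)), Fintype.card_perm, Fintype.card_fin,
          show Nat.factorial 4 = 24 from rfl] at this
        omega)
      refine ⟨G₀, hG₀n, hprop, Or.inr (Or.inr (Or.inl ⟨f.codRestrict _ fun g => hr ▸ ⟨g, rfl⟩, ?_, ?_⟩))⟩
      · rintro ⟨y, hy⟩
        obtain ⟨g, hg⟩ : y ∈ f.range := hr ▸ hy
        exact ⟨g, Subtype.ext hg⟩
      · rw [MonoidHom.ker_codRestrict]; exact hf
    by_cases h24 : Nat.card f.range = 24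
    · refine ⟨G₀, hG₀n, hprop, Or.inr (Or.inr (Or.inr (Or.inl ⟨f, MonoidHom.range_eq_top.1 ?_, hf⟩)))⟩
      refine Subgroup.eq_top_of_card_eq _ ?_
      rw [h24, Nat.card_eq_fintype_card, Fintype.card_perm]; rfl
    -- small image: a normal Z-subgroup of `2`-power index
    obtain ⟨M, hMn, hMz, j, hj⟩ : ∃ M : Subgroup G, M.Normal ∧ IsZGroup M ∧ ∃ j, M.index ∣ 2 ^ j := by
      by_cases h3 : 3 ∣ Nat.card f.range
      · haveI : Fact (Nat.Prime 3) := ⟨Nat.prime_three⟩
        obtain ⟨R⟩ : Nonempty (Sylow 3 f.range) := Sylow.nonempty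
        have hRc : Nat.card (R : Subgroup f.range) = 3 := by
          rw [R.card_eq_multiplicity]
          rcases hmem with h | h | h | h | h | h | h | h <;> rw [h] at h3 ⊢ <;>
            first
              | (exfalso; omega)
              | (rw [show (6 : ℕ) = 3 * 2 from rfl, Nat.factorization_mul (by norm_num) (by norm_num)]
                 simp [Nat.Prime.factorization_self, Nat.prime_three, Nat.factorization_eq_zero_of_not_dvd])
              | simp [Nat.Prime.factorization_self, Nat.prime_three]
              | contradiction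
        have hRi : (R : Subgroup f.range).index = 1 ∨ (R : Subgroup f.range).index = 2 := by
          have := (R : Subgroup f.range).card_mul_index
          rw [hRc] at this
          omega
        haveI : (R : Subgroup f.range).Normal := by
          rcases hRi with h | h
          · rw [Subgroup.index_eq_one.1 h]; infer_instance
          · exact Subgroup.normal_of_index_eq_two h
        set M := (R : Subgroup f.range).comap f.rangeRestrict with hM
        have hle : G₀ ≤ M := fun x hx => by
          rw [hM, Subgroup.mem_comap, show f.rangeRestrict x = 1 from Subtype.ext (hf ▸ hx : x ∈ f.ker)]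
          exact one_mem _
        refine ⟨M, Subgroup.Normal.comap inferInstance _, ⟨fun p hp T => ?_⟩, 1, ?_⟩
        · haveI := Fact.mk hp
          refine ((T : Subgroup M).equivMapOfInjective _ M.subtype_injective).isCyclic.2 ?_
          set T' := (T : Subgroup M).map M.subtype
          have hT' : IsPGroup p T' := T.2.map _
          rcases eq_or_ne p 2 with rfl | hp2
          swap
          · exact hodd p hp2 T' hT'
          have hT0 : T' ≤ G₀ := by
            intro x hx
            rw [← hf, MonoidHom.mem_ker]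
            obtain ⟨k, hk⟩ := IsPGroup.iff_orderOf.1 hT' ⟨x, hx⟩
            rw [Subgroup.orderOf_mk] at hk
            have hxM : x ∈ M := Subgroup.map_subtype_le _ hx
            have h1 : orderOf (f.rangeRestrict x) ∣ 3 := hRc ▸
              (Subgroup.orderOf_mk (H := (R : Subgroup f.range)) _ hxM ▸ _root_.orderOf_dvd_natCard _)
            have h2 : orderOf (f.rangeRestrict x) ∣ 2 ^ k := hk ▸ orderOf_map_dvd f.rangeRestrict x
            have h3' : orderOf (f.rangeRestrict x) = 1 :=
              Nat.eq_one_of_dvd_coprimes ((Nat.coprime_primes Nat.prime_three Nat.prime_two).2 (by norm_num) |>.pow_right k) h1 h2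
            exact congrArg Subtype.val (orderOf_eq_one_iff.1 h3')
          haveI : IsZGroup T' := IsZGroup.of_injective (f := Subgroup.inclusion hT0) (Subgroup.inclusion_injective hT0)
          haveI := hT'.isNilpotent
          infer_instance
        · rw [hM, Subgroup.index_comap_of_surjective _ f.rangeRestrict_surjective]
          rcases hRi with h | h <;> rw [h] <;> norm_num
      · refine ⟨G₀, hG₀n, inferInstance, 3, ?_⟩
        rw [hidx]
        rcases hmem with h | h | h | h | h | h | h | h <;>
          first | omega | (rw [h]; norm_num)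
    haveI := hMn
    haveI := hMz
    obtain ⟨O, hOn, hO⟩ := exists_complement P hj
    haveI : NeZero (2 ^ n) := ⟨by positivity⟩
    obtain ⟨ψ, hψ, hψz⟩ := exists_ker_klein (dvd_pow_self 2 (by omega)) φ hO hodd
    exact ⟨ψ.ker, inferInstance, fun p hp T => hψz.isZGroup p hp.out T, Or.inr (Or.inl ⟨ψ, hψ, rfl⟩)⟩
  · obtain ⟨K, ⟨φ⟩⟩ := SL25.exists_SL25 hρ hsol
    let e : SL(2, ZMod 5) →* G := K.subtype.comp φ.symm.toMonoidHom
    have he : Function.Injective e := K.subtype_injective.comp φ.symm.injective
    obtain ⟨Φ, hΦ, h60⟩ := Axes.exists_action hρ e he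
    haveI := Axes.range_normal hρ e he
    obtain ⟨M, hMn, hMC, hco, hM⟩ := Axes.exists_odd_part hρ e he
    set C := Subgroup.centralizer (e.range : Set G) with hC
    have hCz : ∀ (p : ℕ) [Fact p.Prime] (T : Sylow p C), IsCyclic T := by
      intro p hp T
      refine ((T : Subgroup C).equivMapOfInjective _ C.subtype_injective).isCyclic.2 ?_
      set T' := (T : Subgroup C).map C.subtype
      have hT' : IsPGroup p T' := T.2.map _
      rcases eq_or_ne p 2 with rfl | hp2
      swap
      · exact hodd p hp2 T' hT'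
      refine Subgroup.isCyclic_of_le (H' := Subgroup.zpowers (e (-1))) fun x hx => ?_
      have hxC : x ∈ C := Subgroup.map_subtype_le _ hx
      obtain ⟨k, hk⟩ := IsPGroup.iff_orderOf.1 hT' ⟨x, hx⟩
      rw [Subgroup.orderOf_mk] at hk
      have hodd1 : ∀ y ∈ M, y ^ 2 ^ (k + 1) = 1 → y = 1 := fun y hy hyp => by
        refine orderOf_eq_one_iff.1 (Nat.eq_one_of_dvd_coprimes (Nat.Coprime.pow_right (k + 1) ?_)
          (Subgroup.orderOf_mk (H := M) y hy ▸ _root_.orderOf_dvd_natCard _) (orderOf_dvd_of_pow_eq_one hyp))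
        exact hco.coprime_dvd_right (by norm_num)
      have hxp : x ^ 2 ^ (k + 1) = 1 :=
        orderOf_dvd_iff_pow_eq_one.1 (hk ▸ pow_dvd_pow 2 (Nat.le_succ k))
      rcases hM x hxC with h | h
      · rw [hodd1 x h hxp]; exact one_mem _
      · have hz2 : e (-1) ^ 2 = 1 := by rw [← map_pow]; simp
        have := hodd1 _ h (by
          rw [(show Commute (e (-1)) x from (Axes.neg_one_central hρ e he x).symm).mul_pow, hxp, pow_succ', pow_mul,
            hz2, one_pow, mul_one])
        rw [eq_inv_of_mul_eq_one_right this]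
        exact inv_mem (Subgroup.mem_zpowers _)
    have hle : Nat.card Φ.range ∣ 120 := by
      have := Subgroup.card_subgroup_dvd_card Φ.range
      rwa [Nat.card_eq_fintype_card (α := Equiv.Perm (Fin 5)), Fintype.card_perm, Fintype.card_fin,
        show Nat.factorial 5 = 120 from rfl] at this
    have hsub : (Φ.comp e).range ≤ Φ.range := by
      rintro _ ⟨x, rfl⟩; exact ⟨e x, rfl⟩
    have h60' : 60 ∣ Nat.card Φ.range := h60 ▸ Subgroup.card_dvd_of_le hsub
    have hidx := Φ.range.card_mul_index
    rw [Nat.card_eq_fintype_card (α := Equiv.Perm (Fin 5)), Fintype.card_perm, Fintype.card_fin,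
        show Nat.factorial 5 = 120 from rfl] at hidx
    obtain ⟨c, hc⟩ := h60'
    have hc2 : c = 1 ∨ c = 2 := by
      have : c ∣ 2 := Nat.dvd_of_mul_dvd_mul_left (show 0 < 60 by norm_num) (hc ▸ hle)
      exact (Nat.dvd_prime Nat.prime_two).1 this
    refine ⟨C, inferInstance, hCz, ?_⟩
    rcases hc2 with rfl | rfl
    · have hr : Φ.range = alternatingGroup (Fin 5) :=
        Equiv.Perm.eq_alternatingGroup_of_index_eq_two (by rw [hc] at hidx; omega)
      refine Or.inr (Or.inr (Or.inr (Or.inr (Or.inl ⟨Φ.codRestrict _ fun g => hr ▸ ⟨g, rfl⟩, ?_, ?_⟩))))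
      · rintro ⟨y, hy⟩
        obtain ⟨g, hg⟩ : y ∈ Φ.range := hr ▸ hy
        exact ⟨g, Subtype.ext hg⟩
      · rw [MonoidHom.ker_codRestrict]; exact hΦ
    · refine Or.inr (Or.inr (Or.inr (Or.inr (Or.inr ⟨Φ, MonoidHom.range_eq_top.1 ?_, hΦ⟩))))
      refine Subgroup.eq_top_of_card_eq _ ?_
      rw [hc, Nat.card_eq_fintype_card, Fintype.card_perm]; rfl

end Cfsg.Agent.S4291
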