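import Cfsg.Statements.S4293
import Cfsg.Agent.Lib.Frobenius.Construct
import Mathlib.RingTheory.Finiteness.Nakayama
-- import your own Cfsg.Agent.* helpers here

set_option autoImplicit false
open Cfsg

namespace Cfsg.Agent.S4293

theorem exists_fpf_action.{u} {D : Type u} [DivisionRing D] (H : Subgroup Dˣ) [Finite H] :
    ∃ (V : Type u) (_ : Group V) (_ : Finite V) (_ : Nontrivial V) (φ : H →* MulAut V),
      ∀ a, a ≠ 1 → ∀ v, φ a v = v → v = 1 := by
  classical
  set val : H → D := fun h => ((h : Dˣ) : D) with hval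
  set M : Submodule ℤ D := Submodule.span ℤ (Set.range val) with hM
  have hMfg : M.FG := Submodule.fg_span (Set.finite_range val)
  haveI : Module.Finite ℤ M := Module.Finite.iff_fg.mpr hMfg
  have h1M : (1 : D) ∈ M := Submodule.subset_span ⟨1, by simp [hval]⟩
  have hmul : ∀ (h : H), ∀ x ∈ M, val h * x ∈ M := by
    intro h x hx
    have : M.map (LinearMap.mulLeft ℤ (val h)) ≤ M := by
      rw [hM, Submodule.map_span_le]
      rintro _ ⟨k, rfl⟩
      exact Submodule.subset_span ⟨h * k, by simp [hval]⟩
    exact this ⟨x, hx, rfl⟩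
  let T : H → M →ₗ[ℤ] M := fun h =>
    ((LinearMap.mulLeft ℤ (val h)).comp M.subtype).codRestrict M (fun x => hmul h x x.2)
  have hT : ∀ h (x : M), ((T h x : M) : D) = val h * x := fun h x => rfl
  -- a good prime
  obtain ⟨s, hs, hsH, hs1⟩ : ∃ s : ℕ, s.Prime ∧ ¬ s ∣ Nat.card H ∧
      ¬ ∀ m : M, ∃ m' : M, (s : ℤ) • m' = m := by
    obtain ⟨c, hc⟩ := CharP.exists D
    rcases CharP.char_is_prime_or_zero D c with hp | rfl
    · refine ⟨c, hp, fun hd => ?_, fun hall => ?_⟩
      · haveI := Fact.mk hp
        obtain ⟨x, hx⟩ := exists_prime_orderOf_dvd_card' c hd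
        have h1 : (val x - 1) ^ c = 0 := by
          rw [sub_pow_char_of_commute (p := c) (h := Commute.one_right _), one_pow, sub_eq_zero]
          have hxc : x ^ c = 1 := by rw [← hx, pow_orderOf_eq_one]
          have := congrArg val hxc
          simpa [hval] using this
        have h2 : val x = 1 := sub_eq_zero.mp (pow_eq_zero_iff hp.ne_zero |>.mp h1)
        have h3 : x = 1 := Subtype.ext (Units.ext h2)
        rw [h3, orderOf_one] at hx
        exact hp.ne_one hx.symm
      · obtain ⟨m', hm'⟩ := hall ⟨1, h1M⟩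
        have := congrArg Subtype.val hm'
        simp [zsmul_eq_mul, CharP.cast_eq_zero] at this
    · haveI := CharP.charP_to_charZero D
      obtain ⟨s, hle, hs⟩ := Nat.exists_infinite_primes (Nat.card H + 1)
      refine ⟨s, hs, fun hd => ?_, fun hall => ?_⟩
      · have := Nat.le_of_dvd Nat.card_pos hd; omega
      · obtain ⟨r, hr, hr0⟩ := Submodule.exists_sub_one_mem_and_smul_eq_zero_of_fg_of_le_smul
          (Ideal.span {(s : ℤ)}) (⊤ : Submodule ℤ M) Module.Finite.fg_top (fun m _ => by
            obtain ⟨m', rfl⟩ := hall m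
            exact Submodule.smul_mem_smul (Ideal.mem_span_singleton_self _) trivial)
        have h0 : (r : D) = 0 := by
          have := congrArg Subtype.val (hr0 ⟨1, h1M⟩ trivial)
          simpa [zsmul_eq_mul] using this
        have : r = 0 := by exact_mod_cast h0
        subst this
        rw [Ideal.mem_span_singleton, zero_sub, dvd_neg] at hr
        have := Int.natAbs_dvd_natAbs.mpr hr
        simp at this
        exact hs.ne_one this
  let N : Submodule ℤ M := LinearMap.range ((s : ℤ) • (LinearMap.id : M →ₗ[ℤ] M))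
  let Q := M ⧸ N
  have hsQ : ∀ v : Q, (s : ℤ) • v = 0 := by
    intro v
    obtain ⟨m, rfl⟩ := Submodule.Quotient.mk_surjective N v
    rw [← Submodule.Quotient.mk_smul, Submodule.Quotient.mk_eq_zero]
    exact ⟨m, rfl⟩
  have hTN : ∀ h, N ≤ N.comap (T h) := by
    rintro h _ ⟨m, rfl⟩
    exact ⟨T h m, ((T h).map_smul (s : ℤ) m).symm⟩
  let R : H → Q →ₗ[ℤ] Q := fun h => N.mapQ N (T h) (hTN h)
  have hR : ∀ h (m : M), R h (Submodule.Quotient.mk m) = Submodule.Quotient.mk (T h m) :=
    fun h m => rfl
  have hR1 : ∀ v, R 1 v = v := by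
    intro v
    obtain ⟨m, rfl⟩ := Submodule.Quotient.mk_surjective N v
    rw [hR]
    congr 1
    apply Subtype.ext
    rw [hT]
    simp [hval]
  have hRm : ∀ a b v, R (a * b) v = R a (R b v) := by
    intro a b v
    obtain ⟨m, rfl⟩ := Submodule.Quotient.mk_surjective N v
    rw [hR, hR, hR]
    congr 1
    apply Subtype.ext
    simp only [hT]
    simp [hval, mul_assoc]
  haveI : Nontrivial Q := Submodule.Quotient.nontrivial_iff.mpr fun h => hs1 fun m => by
    obtain ⟨m', hm'⟩ := (h ▸ Submodule.mem_top : m ∈ N)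
    exact ⟨m', hm'⟩
  haveI : Module.Finite ℤ Q := Module.Finite.quotient ℤ N
  haveI : Finite Q := Module.finite_of_fg_torsion Q (fun v => ⟨⟨(s : ℤ),
    mem_nonZeroDivisors_of_ne_zero (by exact_mod_cast hs.ne_zero)⟩, hsQ v⟩)
  let φ : H →* MulAut (Multiplicative Q) :=
    { toFun := fun a =>
        { toFun := fun v => Multiplicative.ofAdd (R a v.toAdd)
          invFun := fun v => Multiplicative.ofAdd (R a⁻¹ v.toAdd)
          left_inv := fun v => by
            apply Multiplicative.toAdd.injective
            simp only [toAdd_ofAdd, ← hRm, inv_mul_cancel, hR1]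
          right_inv := fun v => by
            apply Multiplicative.toAdd.injective
            simp only [toAdd_ofAdd, ← hRm, mul_inv_cancel, hR1]
          map_mul' := fun x y => congrArg Multiplicative.ofAdd (map_add (R a) _ _) }
      map_one' := MulEquiv.ext fun v => congrArg Multiplicative.ofAdd (hR1 _)
      map_mul' := fun a b => MulEquiv.ext fun v => congrArg Multiplicative.ofAdd (hRm a b _) }
  refine ⟨Multiplicative Q, inferInstance, inferInstance, inferInstance, φ, fun a ha v hv => ?_⟩
  have hv' : R a v.toAdd = v.toAdd := congrArg Multiplicative.toAdd hv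
  set w := v.toAdd with hw
  have hpow : ∀ i : ℕ, R (a ^ i) w = w := by
    intro i
    induction i with
    | zero => rw [pow_zero, hR1]
    | succ i ih => rw [pow_succ, hRm, hv', ih]
  have hsum : ∑ i ∈ Finset.range (orderOf a), R (a ^ i) w = 0 := by
    obtain ⟨m, hm⟩ := Submodule.Quotient.mk_surjective N w
    rw [← hm]
    simp only [hR]
    simp only [← Submodule.mkQ_apply]
    rw [← map_sum]
    convert map_zero N.mkQ using 2
    apply Subtype.ext
    rw [AddSubmonoidClass.coe_finsetSum, ZeroMemClass.coe_zero]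
    simp only [hT, ← Finset.sum_mul]
    have hne : val a - 1 ≠ 0 := sub_ne_zero.mpr fun e => ha (Subtype.ext (Units.ext e))
    have hval_pow : ∀ i : ℕ, val (a ^ i) = val a ^ i := fun i => by simp [hval]
    have h : (val a - 1) * ∑ i ∈ Finset.range (orderOf a), val (a ^ i) = 0 := by
      simp only [hval_pow]
      rw [mul_geom_sum, ← hval_pow, pow_orderOf_eq_one]
      simp [hval]
    rw [(mul_eq_zero.mp h).resolve_left hne, zero_mul]
  rw [Finset.sum_congr rfl (fun i _ => hpow i), Finset.sum_const, Finset.card_range] at hsum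
  have h2 : (s : ℕ) • w = 0 := by rw [← natCast_zsmul]; exact hsQ w
  have hcop : (orderOf a).Coprime s :=
    ((hs.coprime_iff_not_dvd).mpr fun h => hsH (h.trans (orderOf_dvd_natCard a))).symm
  have h3 := Nat.dvd_gcd (addOrderOf_dvd_of_nsmul_eq_zero hsum) (addOrderOf_dvd_of_nsmul_eq_zero h2)
  rw [hcop, Nat.dvd_one, AddMonoid.addOrderOf_eq_one_iff] at h3
  exact h3

theorem exists_complement {D : Type*} [DivisionRing D] (H : Subgroup Dˣ) [Finite H] (hH : H ≠ ⊥) :
    ∃ (L : Type) (_ : Group L) (_ : Finite L) (C : Subgroup L),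
      Cfsg.IsFrobeniusComplement C ∧ Nonempty (H ≃* C) := by
  haveI : Nontrivial H := (Subgroup.nontrivial_iff_ne_bot H).mpr hH
  obtain ⟨V, _, _, _, φ, hφ⟩ := exists_fpf_action H
  obtain ⟨L, i1, i2, C, hC, he, -⟩ := Cfsg.Agent.Frobenius.exists_complement_of_fpf φ hφ
  exact ⟨L, i1, i2, C, hC, he⟩

/-- A nontrivial finite subgroup of the multiplicative group of a division ring occurs as a Frobenius complement of some finite Frobenius group. -/
theorem result {D : Type*} [DivisionRing D] (H : Subgroup Dˣ) [Finite H] (hH : H ≠ ⊥) :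
    ∃ (L : Type) (_ : Group L) (_ : Finite L) (C : Subgroup L), Cfsg.IsFrobeniusComplement C ∧ Nonempty (H ≃* C) := by
  exact exists_complement H hH

end Cfsg.Agent.S4293
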