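import Cfsg.Statements.S4294
import Cfsg.Agent.S4293
import Cfsg.Agent.Lib.Frobenius.DivisionRingSL25

set_option autoImplicit false
set_option linter.style.haveILetI false
open Cfsg

namespace Cfsg.Agent.S4294

open scoped MatrixGroups
open Cfsg.Agent.SL25Facts

/-- A finite non-solvable subgroup of the multiplicative group of a division ring is isomorphic to the binary icosahedral group SL(2,5). -/
theorem result {D : Type*} [DivisionRing D] (H : Subgroup Dˣ) [Finite H] (hH : ¬ Group.IsSolvable H) :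
    Nonempty (H ≃* Matrix.SpecialLinearGroup (Fin 2) (ZMod 5)) := by
  have hne : H ≠ ⊥ := by
    rintro rfl
    exact hH (isSolvable_of_comm fun a b => Subsingleton.elim _ _)
  obtain ⟨n, ρ, hn, hρ⟩ := SL25.exists_fpfRep (S4293.exists_complement H hne)
  haveI : Nonempty (Fin n) := ⟨⟨0, hn⟩⟩
  obtain ⟨K, ⟨φ⟩⟩ := SL25.exists_SL25 hρ hH
  let e : SL(2, ZMod 5) →* H := K.subtype.comp φ.symm.toMonoidHom
  have he : Function.Injective e := K.subtype_injective.comp φ.symm.injective
  let ι : H →* D := (Units.coeHom D).comp H.subtype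
  have hι : Function.Injective ι := Units.val_injective.comp H.subtype_injective
  have hgen := Axes.closure_generators hρ e he
  haveI : CharZero D := DivSL25.charZero_of_noncomm ι (a := e x₀) (b := e y₁) (by
    obtain ⟨-, -, -, -, -, -, -, -, -, -, hxy, -⟩ := instance_facts
    intro h
    rw [← map_mul, ← map_mul, ← map_mul, ← map_mul] at h
    exact hxy (he (hι h)))
  haveI := Axes.range_normal hρ e he
  have hC : Subgroup.centralizer (e.range : Set H) ≤ e.range := by
    obtain ⟨M, -, hMC, hco, hM⟩ := Axes.exists_odd_part hρ e he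
    have hMbot : M = ⊥ := by
      by_contra hMne
      have hcard : Nat.card M ≠ 1 := fun h => hMne (Subgroup.eq_bot_of_card_eq M h)
      have hp := Nat.minFac_prime hcard
      set p := (Nat.card M).minFac with hpdef
      haveI := Fact.mk hp
      obtain ⟨z, hz⟩ := exists_prime_orderOf_dvd_card' (G := M) p (Nat.minFac_dvd _)
      have h7 : 7 ≤ p := by
        have h2 : ¬ p ∣ 30 := fun h => hp.ne_one (Nat.eq_one_of_dvd_coprimes hco (Nat.minFac_dvd _) h)
        have h3 := hp.two_le
        by_contra hlt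
        interval_cases p <;> revert hp h2 <;> norm_num
      exact DivSL25.no_centralizing ι hι e he hgen (hMC z.2) hp h7 (by rw [Subgroup.orderOf_coe]; exact hz)
    intro c hc
    rcases hM c hc with h | h
    · rw [hMbot, Subgroup.mem_bot] at h; exact h ▸ one_mem _
    · rw [hMbot, Subgroup.mem_bot] at h
      rw [eq_inv_of_mul_eq_one_right h]
      exact inv_mem ⟨_, rfl⟩
  have htop : e.range = ⊤ := by
    have hidx := Axes.index_sup_centralizer hρ e he
    rw [sup_eq_left.2 hC] at hidx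
    rcases hidx with h | h
    · exact Subgroup.index_eq_one.1 h
    exfalso
    obtain ⟨g, hg⟩ : ∃ g, g ∉ e.range := by
      by_contra hall
      push Not at hall
      rw [(Subgroup.eq_top_iff' _).2 hall, Subgroup.index_top] at h
      exact absurd h (by norm_num)
    obtain ⟨hx, -, -, hy, -, -, -, h5, -⟩ := instance_facts
    -- an element of the other coset fixing `x₀` and sending `y₁` to `y₁` or `y₂`
    have him : ∀ q, ∃ q', e q' = g * e q * g⁻¹ := fun q =>
      (Axes.range_normal hρ e he).conj_mem _ ⟨q, rfl⟩ g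
    obtain ⟨a, ha⟩ := him x₀
    have ha3 : a ^ 3 = 1 := he (by rw [map_pow, ha, conj_pow, ← map_pow, hx, map_one]; simp)
    have ha1 : a ≠ 1 := fun h => by
      rw [h, map_one, eq_comm, conj_eq_one_iff] at ha
      exact absurd (he (ha.trans (map_one e).symm)) (by decide)
    obtain ⟨c, hc⟩ := exists_conj_x₀ a ha3 ha1
    have hcx : (e c * g) * e x₀ * (e c * g)⁻¹ = e x₀ := by
      rw [show e c * g * e x₀ * (e c * g)⁻¹ = e c * (g * e x₀ * g⁻¹) * (e c)⁻¹ by group, ← ha, ← map_inv,
        ← map_mul, ← map_mul, hc]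
    obtain ⟨b, hb⟩ := him y₁
    set y' := c * b * c⁻¹ with hy'
    have hey' : e y' = (e c * g) * e y₁ * (e c * g)⁻¹ := by
      rw [hy', map_mul, map_mul, hb, map_inv]; group
    have hy'3 : y' ^ 3 = 1 := he (by rw [map_pow, hey', conj_pow, ← map_pow, hy, map_one]; simp)
    have hy'5 : (x₀ * y') ^ 5 = -1 := he (by
      rw [map_pow, map_mul, hey']
      nth_rw 1 [← hcx]
      rw [show (e c * g * e x₀ * (e c * g)⁻¹) * (e c * g * e y₁ * (e c * g)⁻¹) = (e c * g) * (e x₀ * e y₁) * (e c * g)⁻¹ by group,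
        conj_pow, ← map_mul, ← map_pow, h5]
      rw [Axes.neg_one_central hρ e he (e c * g), mul_inv_cancel_right])
    obtain ⟨c', hc', hcy⟩ := exists_conj_partner y' hy'3 hy'5
    set t₀ := e c' * e c * g with ht₀
    have ht₀n : t₀ ∉ e.range := fun hm =>
      hg ((Subgroup.mul_mem_cancel_left e.range (mul_mem (show e c' ∈ e.range from ⟨c', rfl⟩) (show e c ∈ e.range from ⟨c, rfl⟩))).1 hm)
    have ht₀x : t₀ * e x₀ * t₀⁻¹ = e x₀ := by
      rw [ht₀, show e c' * e c * g * e x₀ * (e c' * e c * g)⁻¹ = e c' * ((e c * g) * e x₀ * (e c * g)⁻¹) * (e c')⁻¹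
        by group, hcx, ← map_inv, ← map_mul, ← map_mul, hc']
    have ht₀y : t₀ * e y₁ * t₀⁻¹ = e (c' * y' * c'⁻¹) := by
      rw [ht₀, map_mul, map_mul, map_inv, hey']; group
    rcases hcy with hy1 | hy2
    · rw [hy1] at ht₀y
      exact ht₀n (hC ((Axes.centralizer_iff hρ e he).2
        ⟨mul_inv_eq_iff_eq_mul.1 ht₀x, mul_inv_eq_iff_eq_mul.1 ht₀y⟩))
    · rw [hy2] at ht₀y
      obtain ⟨q, hq⟩ : t₀ * t₀ ∈ e.range := Subgroup.mul_self_mem_of_index_two h t₀
      have hqx : q * x₀ = x₀ * q := by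
        apply he
        have h1 := mul_inv_eq_iff_eq_mul.1 ht₀x
        rw [map_mul, map_mul, hq, mul_assoc, h1, ← mul_assoc, h1, mul_assoc]
      have htn : e q * t₀ ∉ e.range := fun hm => ht₀n ((Subgroup.mul_mem_cancel_left e.range (show e q ∈ e.range from ⟨q, rfl⟩)).1 hm)
      have hcomm : t₀ * e q = e q * t₀ := by rw [hq]; exact (mul_assoc t₀ t₀ t₀).symm
      have ht2 : (e q * t₀) ^ 2 = e (q ^ 3) := by
        rw [pow_two, mul_assoc, ← mul_assoc t₀ (e q) t₀, hcomm, mul_assoc (e q) t₀ t₀, ← hq, ← map_mul, ← map_mul]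
        exact congrArg e (by rw [pow_succ', pow_two])
      have ht1 : (e q * t₀) ^ 2 ≠ 1 := fun h1 => by
        rcases Axes.eq_one_or_of_sq hρ e he h1 with h2 | h2
        · exact htn (h2 ▸ one_mem _)
        · exact htn ⟨_, h2.symm⟩
      have hq3 : q ^ 3 = -1 :=
        (centralizer_x₀_facts q hqx).resolve_left fun h1 => ht1 (by rw [ht2, h1, map_one])
      refine DivSL25.no_outer ι hι e he hgen (t := e q * t₀) (q := q) (by rw [ht2, hq3]) hqx ?_ ?_
      · rw [show e q * t₀ * e x₀ * (e q * t₀)⁻¹ = e q * (t₀ * e x₀ * t₀⁻¹) * (e q)⁻¹ by group, ht₀x,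
          ← map_mul, hqx, map_mul, mul_inv_cancel_right]
      · rw [show e q * t₀ * e y₁ * (e q * t₀)⁻¹ = e q * (t₀ * e y₁ * t₀⁻¹) * (e q)⁻¹ by group, ht₀y,
          map_mul, map_mul, map_inv]
  exact ⟨((MonoidHom.ofInjective he).trans ((MulEquiv.subgroupCongr htop).trans Subgroup.topEquiv)).symm⟩

end Cfsg.Agent.S4294
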