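import Cfsg.Statements.S4297
import Cfsg.Agent.S4293
import Mathlib.Algebra.Quaternion
import Mathlib.Analysis.Quaternion
import Mathlib.GroupTheory.SpecificGroups.Quaternion
import Mathlib.RingTheory.RootsOfUnity.Complex
-- import your own Cfsg.Agent.* helpers here

set_option autoImplicit false
open Cfsg

namespace Cfsg.Agent.S4297

open Quaternion

/-- The standard embedding of a dicyclic group given by its two generators. -/
theorem exists_hom {M : Type*} [Group M] (n : ℕ) [NeZero n] (a x : M) (ha : a ^ (2 * n) = 1)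
    (hx : x * x = a ^ n) (hxa : x * a = a⁻¹ * x) :
    ∃ f : QuaternionGroup n →* M, (∀ i : ℕ, f (QuaternionGroup.a i) = a ^ i) ∧
      ∀ i : ℕ, f (QuaternionGroup.xa i) = x * a ^ i := by
  haveI : NeZero (2 * n) := ⟨Nat.mul_ne_zero two_ne_zero (NeZero.ne n)⟩
  have hmod : ∀ i : ℕ, a ^ (i % (2 * n)) = a ^ i := fun i => (pow_eq_pow_mod i ha).symm
  let g : ZMod (2 * n) → M := fun i => a ^ i.val
  have gn : ∀ i : ℕ, g i = a ^ i := fun i => by simp only [g, ZMod.val_natCast, hmod]
  have gadd : ∀ i j, g (i + j) = g i * g j := fun i j => by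
    simp only [g, ZMod.val_add, hmod, pow_add]
  have g0 : g 0 = 1 := by simp [g]
  have gneg : ∀ i, g (-i) = (g i)⁻¹ := fun i =>
    eq_inv_of_mul_eq_one_left (by rw [← gadd, neg_add_cancel, g0])
  have hgx : ∀ i, g i * x = x * (g i)⁻¹ := by
    intro i
    have h : ∀ k : ℕ, a ^ k * x = x * (a ^ k)⁻¹ := by
      intro k
      induction k with
      | zero => simp
      | succ k ih =>
        have h1 : a * x = x * a⁻¹ := by
          rw [eq_mul_inv_iff_mul_eq, mul_assoc, hxa, mul_inv_cancel_left]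
        rw [pow_succ', mul_assoc, ih, ← mul_assoc, h1, mul_assoc, ← mul_inv_rev, ← pow_succ,
          pow_succ']
    exact h _
  let f : QuaternionGroup n → M := fun q => match q with
    | QuaternionGroup.a i => g i
    | QuaternionGroup.xa i => x * g i
  refine ⟨MonoidHom.mk' f ?_, gn, fun i => congrArg (x * ·) (gn i)⟩
  rintro (i | i) (j | j)
  · exact gadd i j
  · show x * g (j - i) = g i * (x * g j)
    rw [← mul_assoc, hgx, mul_assoc, ← gneg, ← gadd, neg_add_eq_sub]
  · show x * g (i + j) = x * g i * g j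
    rw [gadd, mul_assoc]
  · show g ((n : ZMod (2 * n)) + j - i) = x * g i * (x * g j)
    rw [mul_assoc x, ← mul_assoc (g i), hgx, mul_assoc x, ← mul_assoc x x, hx, ← gn n, ← gneg,
      ← gadd, ← gadd, add_sub_assoc, neg_add_eq_sub]

/-- For every n ≥ 2 the dicyclic group of order 4n (generated by an element a of order 2n and an element x with x² = aⁿ and x a x⁻¹ = a⁻¹) occurs as a Frobenius complement of some finite Frobenius group. -/
theorem result (n : ℕ) (hn : 2 ≤ n) :
    ∃ (L : Type) (_ : Group L) (_ : Finite L) (H : Subgroup L), Cfsg.IsFrobeniusComplement H ∧ Nonempty (H ≃* QuaternionGroup n) := by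
  haveI : NeZero n := ⟨by omega⟩
  haveI : NeZero (2 * n) := ⟨by omega⟩
  have hζ := Complex.isPrimitiveRoot_exp (2 * n) (by omega)
  set ζ : ℂ := Complex.exp (2 * Real.pi * Complex.I / ((2 * n : ℕ) : ℂ))
  have hζu : IsUnit ζ := hζ.isUnit (by omega)
  let A : ℍ[ℝ]ˣ := Units.map (Quaternion.ofComplex : ℂ →ₐ[ℝ] ℍ[ℝ]).toMonoidHom hζu.unit
  obtain ⟨j, hj0, hj1, hj2, hj3⟩ : ∃ j : ℍ[ℝ], j.re = 0 ∧ j.imI = 0 ∧ j.imJ = 1 ∧ j.imK = 0 :=
    ⟨⟨0, 0, 1, 0⟩, rfl, rfl, rfl, rfl⟩
  have hjj : j * j = -1 := by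
    ext <;> simp [hj0, hj1, hj2, hj3, Quaternion.re_mul, Quaternion.imI_mul, Quaternion.imJ_mul, Quaternion.imK_mul]
  let X : ℍ[ℝ]ˣ := ⟨j, -j, by rw [mul_neg, hjj, neg_neg], by rw [neg_mul, hjj, neg_neg]⟩
  have hA : ∀ i : ℕ, ((A ^ i : ℍ[ℝ]ˣ) : ℍ[ℝ]) = Quaternion.ofComplex (ζ ^ i) := by
    intro i
    simp [A, map_pow]
  have hζn : ζ ^ n = -1 := by
    have h := hζ.pow (by omega : 0 < 2 * n) (mul_comm 2 n)
    exact h.eq_neg_one_of_two_right
  have hinv : ζ * (starRingEnd ℂ) ζ = 1 := by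
    rw [Complex.mul_conj, Complex.normSq_eq_norm_sq, hζ.norm'_eq_one (by omega)]
    simp
  obtain ⟨f, hfa, hfx⟩ := exists_hom n A X
    (Units.ext (by rw [hA, hζ.pow_eq_one, map_one]; rfl))
    (Units.ext (by rw [Units.val_mul, hA, hζn, map_neg, map_one]; exact hjj))
    (by
      rw [eq_inv_mul_iff_mul_eq]
      apply Units.ext
      show (A : ℍ[ℝ]) * (j * (A : ℍ[ℝ])) = j
      have h1 : (A : ℍ[ℝ]) = Quaternion.ofComplex ζ := rfl
      have h2 : j * Quaternion.ofComplex ζ = Quaternion.ofComplex ((starRingEnd ℂ) ζ) * j := by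
        ext <;> simp [hj0, hj1, hj2, hj3, Quaternion.re_mul, Quaternion.imI_mul, Quaternion.imJ_mul, Quaternion.imK_mul]
      rw [h1, h2, ← mul_assoc, ← map_mul, hinv, map_one, one_mul])
  have hinj : Function.Injective f := by
    rw [injective_iff_map_eq_one]
    rintro (i | i) hi
    · obtain ⟨k, rfl⟩ : ∃ k : ℕ, (k : ZMod (2 * n)) = i := ⟨i.val, ZMod.natCast_zmod_val i⟩
      rw [hfa] at hi
      have h := congrArg Units.val hi
      rw [hA, Units.val_one, ← map_one Quaternion.ofComplex] at h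
      have h' : ζ ^ k = 1 := by
        have hre := congrArg (fun q : ℍ[ℝ] => q.re) h
        have him := congrArg (fun q : ℍ[ℝ] => q.imI) h
        exact Complex.ext (by simpa using hre) (by simpa using him)
      rw [QuaternionGroup.one_def]
      congr 1
      exact (ZMod.natCast_eq_zero_iff k (2 * n)).mpr (hζ.dvd_of_pow_eq_one k h')
    · exfalso
      obtain ⟨k, rfl⟩ : ∃ k : ℕ, (k : ZMod (2 * n)) = i := ⟨i.val, ZMod.natCast_zmod_val i⟩
      rw [hfx] at hi
      have h := congrArg (fun u : ℍ[ℝ]ˣ => ((u : ℍ[ℝ])).re) hi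
      simp only [Units.val_mul, hA, Units.val_one] at h
      simp [X, hj0, hj1, hj2, hj3, Quaternion.re_mul] at h
  set H : Subgroup ℍ[ℝ]ˣ := f.range
  haveI : Finite H := Finite.of_surjective f.rangeRestrict f.rangeRestrict_surjective
  have e : QuaternionGroup n ≃* H := MonoidHom.ofInjective hinj
  haveI : Nontrivial H := e.injective.nontrivial
  obtain ⟨L, i1, i2, K, hK, ⟨g⟩⟩ :=
    Cfsg.Agent.S4293.exists_complement H ((Subgroup.nontrivial_iff_ne_bot H).mp inferInstance)
  exact ⟨L, i1, i2, K, hK, ⟨(e.trans g).symm⟩⟩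

end Cfsg.Agent.S4297
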