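import Cfsg.Statements.S4295
import Cfsg.Agent.Lib.Frobenius.Construct
import Cfsg.Agent.S4297
import Mathlib.GroupTheory.SpecificGroups.Quaternion
import Mathlib.NumberTheory.SumTwoSquares
import Mathlib.FieldTheory.Finite.Basic
-- import your own Cfsg.Agent.* helpers here

set_option autoImplicit false
open Cfsg

namespace Cfsg.Agent.S4295

open scoped IsMulCommutative

/-- The kernel of a complement with an involution in its commutator subgroup has odd square order. -/
theorem odd_square_of_involution {L : Type*} [Group L] [Finite L] {H : Subgroup L}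
    (hH : Cfsg.IsFrobeniusComplement H) {t : H} (ht1 : t ≠ 1) (ht2 : t * t = 1)
    (htc : t ∈ _root_.commutator H) :
    Odd (Nat.card (Cfsg.frobeniusKernel H)) ∧ IsSquare (Nat.card (Cfsg.frobeniusKernel H)) := by
  obtain ⟨N, φ, -, -, hNk, -, hφ⟩ := Cfsg.Agent.Frobenius.exists_fpf_hom hH
  obtain ⟨hinv, hcomm⟩ := Cfsg.Agent.Frobenius.even_complement_kernel hH t.2
    (fun h => ht1 (Subtype.ext h)) (congrArg Subtype.val ht2)
  have hNc : Nat.card N = Nat.card (Cfsg.frobeniusKernel H) := by
    rw [← SetLike.coe_sort_coe, hNk]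
  have hodd : Odd (Nat.card (Cfsg.frobeniusKernel H)) := by
    have h2 : 2 ∣ Nat.card H := by
      rw [← orderOf_eq_prime (p := 2) (by rw [pow_two, ht2]) ht1]
      exact orderOf_dvd_natCard t
    have h := Cfsg.Agent.Frobenius.index_mod_card hH
    rw [Cfsg.Agent.Frobenius.card_kernel hH, Nat.odd_iff, ← Nat.mod_mod_of_dvd _ h2, h,
      Nat.mod_mod_of_dvd _ h2]
  haveI : IsMulCommutative N := ⟨⟨fun a b =>
    Subtype.ext (hcomm a (hNk ▸ a.2) b (hNk ▸ b.2))⟩⟩
  refine ⟨hodd, hNc ▸ Cfsg.Agent.Frobenius.isSquare_card_of_inverting (V := N) htc _ φ (fun v => ?_) rfl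
    (hNc ▸ hodd)⟩
  apply Subtype.ext
  rw [hφ, Subgroup.coe_inv]
  have := hinv v (hNk ▸ v.2)
  rwa [inv_eq_of_mul_eq_one_left (congrArg Subtype.val ht2 : (t : L) * t = 1)]

theorem exists_prime_block (p : ℕ) [Fact p.Prime] :
    ∃ (V : Type) (_ : CommGroup V) (φ : QuaternionGroup 2 →* MulAut V),
      (∀ v, φ (QuaternionGroup.a 2) v = v⁻¹) ∧ Finite V ∧ Nat.card V = p * p := by
  obtain ⟨x, y, hxy⟩ := ZMod.sq_add_sq p (-1)
  let mk : (ZMod p × ZMod p → ZMod p × ZMod p) → Multiplicative (ZMod p × ZMod p) →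
      Multiplicative (ZMod p × ZMod p) := fun g v => Multiplicative.ofAdd (g v.toAdd)
  let A : MulAut (Multiplicative (ZMod p × ZMod p)) :=
    { toFun := mk fun v => (-v.2, v.1)
      invFun := mk fun v => (v.2, -v.1)
      left_inv := fun v => by simp [mk]
      right_inv := fun v => by simp [mk]
      map_mul' := fun v w => by simp [mk, ← ofAdd_add, neg_add]; abel }
  let B : MulAut (Multiplicative (ZMod p × ZMod p)) :=
    { toFun := mk fun v => (x * v.1 + y * v.2, y * v.1 - x * v.2)
      invFun := mk fun v => (-(x * v.1 + y * v.2), -(y * v.1 - x * v.2))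
      left_inv := fun v => by
        apply Multiplicative.toAdd.injective
        simp only [mk, toAdd_ofAdd]
        refine Prod.ext ?_ ?_ <;> dsimp
        · linear_combination (-v.toAdd.1) * hxy
        · linear_combination (-v.toAdd.2) * hxy
      right_inv := fun v => by
        apply Multiplicative.toAdd.injective
        simp only [mk, toAdd_ofAdd]
        refine Prod.ext ?_ ?_ <;> dsimp
        · linear_combination (-v.toAdd.1) * hxy
        · linear_combination (-v.toAdd.2) * hxy
      map_mul' := fun v w => by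
        apply Multiplicative.toAdd.injective
        simp only [mk, toAdd_ofAdd, toAdd_mul, Prod.fst_add, Prod.snd_add, Prod.mk_add_mk]
        ext <;> ring }
  have hA2 : ∀ v : Multiplicative (ZMod p × ZMod p), A (A v) = v⁻¹ := fun v => by
    apply Multiplicative.toAdd.injective
    simp [A, mk, toAdd_inv]
    rfl
  have hB2 : ∀ v : Multiplicative (ZMod p × ZMod p), B (B v) = v⁻¹ := fun v => by
    apply Multiplicative.toAdd.injective
    simp only [B, mk, MulEquiv.coe_mk, Equiv.coe_fn_mk, toAdd_ofAdd, toAdd_inv]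
    refine Prod.ext ?_ ?_ <;> dsimp
    · linear_combination v.toAdd.1 * hxy
    · linear_combination v.toAdd.2 * hxy
  haveI : NeZero (2 : ℕ) := ⟨two_ne_zero⟩
  have hA4 : A ^ (2 * 2) = 1 := by
    rw [pow_mul]
    refine MulEquiv.ext fun v => ?_
    simp only [pow_two, MulAut.mul_apply, hA2, inv_inv, MulAut.one_apply]
  have hBB : B * B = A ^ 2 := by
    refine MulEquiv.ext fun v => ?_
    simp only [pow_two, MulAut.mul_apply, hA2, hB2]
  have hBA : B * A = A⁻¹ * B := by
    rw [eq_inv_mul_iff_mul_eq]
    refine MulEquiv.ext fun v => ?_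
    apply Multiplicative.toAdd.injective
    simp only [A, B, mk, MulAut.mul_apply, MulEquiv.coe_mk, Equiv.coe_fn_mk, toAdd_ofAdd]
    refine Prod.ext ?_ ?_ <;> simp <;> ring
  obtain ⟨f, hfa, -⟩ := Cfsg.Agent.S4297.exists_hom 2 A B hA4 hBB hBA
  refine ⟨_, inferInstance, f, fun v => ?_, inferInstance, ?_⟩
  · rw [show (QuaternionGroup.a 2 : QuaternionGroup 2) = QuaternionGroup.a ((2 : ℕ) : ZMod (2 * 2)) from rfl,
      hfa, pow_two, MulAut.mul_apply, hA2]
  · rw [Nat.card_congr Multiplicative.toAdd, Nat.card_prod, Nat.card_zmod]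

theorem exists_block : ∀ k : ℕ, 0 < k →
    ∃ (V : Type) (_ : CommGroup V) (φ : QuaternionGroup 2 →* MulAut V),
      (∀ v, φ (QuaternionGroup.a 2) v = v⁻¹) ∧ Finite V ∧ Nat.card V = k * k := by
  intro k
  induction k using Nat.recOnMul with
  | zero => simp
  | one => exact fun _ => ⟨PUnit, inferInstance, 1, fun v => Subsingleton.elim _ _, inferInstance, by simp⟩
  | prime p hp =>
    intro _
    haveI := Fact.mk hp
    exact exists_prime_block p
  | mul a b iha ihb =>
    intro hab
    obtain ⟨V, _, φ, hφ, _, hV⟩ := iha (pos_of_mul_pos_left hab (Nat.zero_le _))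
    obtain ⟨W, _, ψ, hψ, _, hW⟩ := ihb (pos_of_mul_pos_right hab (Nat.zero_le _))
    refine ⟨V × W, inferInstance,
      { toFun := fun q => (φ q).prodCongr (ψ q)
        map_one' := MulEquiv.ext fun v => Prod.ext (by rw [map_one, map_one]; rfl) (by rw [map_one, map_one]; rfl)
        map_mul' := fun q r => MulEquiv.ext fun v =>
          Prod.ext (by rw [map_mul, map_mul]; rfl) (by rw [map_mul, map_mul]; rfl) }, fun v => Prod.ext (hφ v.1) (hψ v.2),
      inferInstance, ?_⟩
    rw [Nat.card_prod, hV, hW]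
    ring

theorem quaternion_cases : ∀ q : QuaternionGroup 2, q ≠ 1 →
    q = QuaternionGroup.a 2 ∨ q * q = QuaternionGroup.a 2 := by decide

/-- For a natural number m the following are equivalent: (a) some finite group has a Frobenius complement isomorphic to the quaternion group of order 8 whose Frobenius kernel (the identity together with the elements lying in no conjugate of the complement) has exactly m elements; (b) m is an odd perfect square greater than 1. -/
theorem result (m : ℕ) :
    (∃ (L : Type) (_ : Group L) (_ : Finite L) (H : Subgroup L), Cfsg.IsFrobeniusComplement H ∧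
        Nonempty (H ≃* QuaternionGroup 2) ∧ Nat.card (Cfsg.frobeniusKernel H) = m) ↔
    (Odd m ∧ IsSquare m ∧ 1 < m) := by
  constructor
  · rintro ⟨L, _, _, H, hH, ⟨e⟩, rfl⟩
    have h := odd_square_of_involution hH (t := e.symm (QuaternionGroup.a 2))
      (by simp only [ne_eq, EmbeddingLike.map_eq_one_iff]; decide)
      (by rw [← map_mul, show (QuaternionGroup.a 2 * QuaternionGroup.a 2 : QuaternionGroup 2) = 1 by decide,
        map_one])
      (by
        rw [show (QuaternionGroup.a 2 : QuaternionGroup 2) =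
          QuaternionGroup.a 1 * QuaternionGroup.xa 0 * (QuaternionGroup.a 1)⁻¹ * (QuaternionGroup.xa 0)⁻¹
          by decide, map_mul, map_mul, map_mul, map_inv, map_inv]
        exact Subgroup.commutator_mem_commutator trivial trivial)
    refine ⟨h.1, h.2, ?_⟩
    rw [Cfsg.Agent.Frobenius.card_kernel hH]
    exact lt_of_le_of_ne (Nat.pos_of_ne_zero Subgroup.index_ne_zero_of_finite)
      (fun h1 => hH.2.1 (Subgroup.index_eq_one.mp h1.symm))
  · rintro ⟨hodd, ⟨k, rfl⟩, h1⟩
    have hk : 0 < k := Nat.pos_of_ne_zero (fun h => by subst h; simp at h1)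
    obtain ⟨V, _, φ, hφ, _, hV⟩ := exists_block k hk
    haveI : Nontrivial V := Finite.one_lt_card_iff_nontrivial.mp (hV ▸ h1)
    haveI : Nontrivial (QuaternionGroup 2) := ⟨⟨1, QuaternionGroup.a 2, by decide⟩⟩
    obtain ⟨L, i1, i2, H, hH, ⟨e⟩, hc⟩ := Cfsg.Agent.Frobenius.exists_complement_of_fpf φ
      (fun q hq v hv => by
        have h2 : φ (QuaternionGroup.a 2) v = v := by
          rcases quaternion_cases q hq with h | h
          · rw [← h, hv]
          · rw [← h, map_mul, MulAut.mul_apply, hv, hv]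
        rw [hφ, inv_eq_iff_mul_eq_one, ← pow_two] at h2
        have h3 : orderOf v ∣ 1 := by
          have hc : Nat.Coprime (Nat.card V) 2 := Nat.coprime_two_right.mpr (hV ▸ hodd)
          exact hc ▸ Nat.dvd_gcd (orderOf_dvd_natCard v) (orderOf_dvd_of_pow_eq_one h2)
        exact orderOf_eq_one_iff.mp (Nat.dvd_one.mp h3))
    exact ⟨L, i1, i2, H, hH, ⟨e.symm⟩, hc.trans hV⟩

end Cfsg.Agent.S4295
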