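import Cfsg.Statements.S4296
import Cfsg.Agent.S4295
import Cfsg.Agent.Lib.Frobenius.Module
import Cfsg.Agent.Lib.Frobenius.FixedPointFree
import Cfsg.Agent.Lib.PGroup.UniqueOrderP
-- import your own Cfsg.Agent.* helpers here

set_option autoImplicit false
open Cfsg
open scoped IsMulCommutative

namespace Cfsg.Agent.S4296

theorem pow_mul_of_eq {M : Type*} [Monoid M] (g : M) {a b c : ℕ} (h : a = b * c) : g ^ a = (g ^ b) ^ c := by
  rw [h, pow_mul]

/-- Let H be a Frobenius complement in a finite group, and suppose some Sylow subgroup of H is not cyclic. Then the number of elements of the Frobenius kernel (the identity together with the elements lying in no conjugate of H) is an odd perfect square. -/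
theorem result {L : Type*} [Group L] [Finite L] (H : Subgroup L) (hF : Cfsg.IsFrobeniusComplement H)
    (hZ : ∃ (p : ℕ) (_ : Fact p.Prime) (P : Sylow p H), ¬ IsCyclic P) :
    Odd (Nat.card (Cfsg.frobeniusKernel H)) ∧ IsSquare (Nat.card (Cfsg.frobeniusKernel H)) := by
  obtain ⟨p, hp, P, hP⟩ := hZ
  obtain ⟨N, hNk, hNn, hNc⟩ := Cfsg.Agent.CharInt.exists_frobeniusKernel hF
  have hN : N ≠ ⊥ := fun h => hF.2.1 (by
    have := hNc.sup_eq_top
    rwa [h, bot_sup_eq] at this)
  have hf := (Cfsg.Agent.Frobenius.isFrobeniusComplement_iff hNc hN hF.1).1 hF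
  set A : Subgroup L := (P : Subgroup H).map H.subtype with hA
  haveI : Group.IsSolvable A := by
    have : IsPGroup p A := P.2.map _
    have := this.isNilpotent
    infer_instance
  obtain ⟨W, hWc, hW, hAW, hfW⟩ := Cfsg.Agent.Frobenius.exists_abelian_invariant
    (A := A) (K := N) Subgroup.le_normalizer_of_normal hN inferInstance
    (fun a ha => hf a (Subgroup.map_subtype_le _ ha))
  haveI := hWc
  haveI : Nontrivial W := (Subgroup.nontrivial_iff_ne_bot W).mpr hW
  have hfpf := Cfsg.Agent.Frobenius.Fpf.isFpf_conjHom A W hAW hfW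
  have hAp : IsPGroup p A := P.2.map _
  have e : (P : Subgroup H) ≃* A := Subgroup.equivMapOfInjective _ _ H.subtype_injective
  rcases Cfsg.Agent.PGroup.cyclic_or_quaternion_of_unique hAp
      (fun X Y hX hY => Cfsg.Agent.Frobenius.Fpf.eq_of_card_eq_prime hfpf hAp hX hY) with
    hc | ⟨rfl, n, hn, -, ⟨g⟩⟩
  · exact absurd ((MulEquiv.isCyclic e).mpr hc) hP
  let ι : QuaternionGroup (2 ^ n) →* H := (P : Subgroup H).subtype.comp (g.symm.trans e.symm).toMonoidHom
  have hι : Function.Injective ι := Subtype.val_injective.comp (g.symm.trans e.symm).injective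
  have ht1 : (QuaternionGroup.a ((2 ^ n : ℕ) : ZMod (2 * 2 ^ n))) ≠ 1 := by
    intro h
    rw [QuaternionGroup.one_def, QuaternionGroup.a.injEq, ZMod.natCast_eq_zero_iff] at h
    have := Nat.le_of_dvd (Nat.two_pow_pos n) h
    have := Nat.two_pow_pos n
    omega
  refine Cfsg.Agent.S4295.odd_square_of_involution hF
    (t := ι (QuaternionGroup.a ((2 ^ n : ℕ) : ZMod (2 * 2 ^ n))))
    (fun h => ht1 (hι (h.trans (map_one ι).symm))) ?_ ?_
  · rw [← map_mul, QuaternionGroup.a_mul_a, ← Nat.cast_add, ← two_mul, ZMod.natCast_self,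
      ← QuaternionGroup.one_def, map_one]
  · have hcom : ι (QuaternionGroup.a 2) ∈ _root_.commutator H := by
      rw [show (QuaternionGroup.a 2 : QuaternionGroup (2 ^ n)) =
        QuaternionGroup.a 1 * QuaternionGroup.xa 0 * (QuaternionGroup.a 1)⁻¹ * (QuaternionGroup.xa 0)⁻¹ from ?_,
        map_mul, map_mul, map_mul, map_inv, map_inv]
      · exact Subgroup.commutator_mem_commutator trivial trivial
      · rw [eq_mul_inv_iff_mul_eq, eq_mul_inv_iff_mul_eq]
        simp only [QuaternionGroup.a_mul_xa, QuaternionGroup.xa_mul_a]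
        congr 1
        ring
    obtain ⟨m, rfl⟩ : ∃ m, n = m + 1 := ⟨n - 1, by omega⟩
    have h2 : (QuaternionGroup.a 2 : QuaternionGroup (2 ^ (m + 1))) = (QuaternionGroup.a 1) ^ 2 := by
      rw [QuaternionGroup.a_one_pow, Nat.cast_ofNat]
    rw [← QuaternionGroup.a_one_pow (2 ^ (m + 1)),
      pow_mul_of_eq (QuaternionGroup.a 1) (pow_succ' 2 m), ← h2, map_pow]
    exact pow_mem hcom _

end Cfsg.Agent.S4296
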