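import Cfsg.Statements.S4298
import Cfsg.Agent.Lib.Frobenius.Construct
import Mathlib.LinearAlgebra.Matrix.SpecialLinearGroup
-- import your own Cfsg.Agent.* helpers here

set_option autoImplicit false
open Cfsg

namespace Cfsg.Agent.S4298

/-- An embedding of `SL(2, 3)` in `SL(2, 5)`, as a table. -/
def table : List (ZMod 5 × ZMod 5 × ZMod 5 × ZMod 5) := [(1, 0, 0, 1), (1, 0, 0, 1), (1, 0, 0, 1), (1, 0, 0, 1), (1, 0, 0, 1), (1, 0, 0, 1), (1, 0, 0, 1), (1, 0, 0, 1), (1, 0, 0, 1), (1, 0, 0, 1), (1, 0, 0, 1), (1, 0, 0, 1), (1, 0, 0, 1), (1, 0, 0, 1), (1, 0, 0, 1), (3, 0, 1, 2), (2, 2, 1, 4), (0, 3, 3, 4), (1, 0, 0, 1), (1, 0, 0, 1), (1, 0, 0, 1), (2, 0, 4, 3), (0, 2, 2, 1), (3, 3, 4, 1), (1, 0, 0, 1), (1, 0, 0, 1), (1, 0, 0, 1), (1, 0, 0, 1), (1, 0, 0, 1), (1, 0, 0, 1), (1, 0, 0, 1), (2, 1, 3, 2), (1, 0, 0, 1), (1, 0, 0, 1), (2, 4, 2, 2), (1, 0, 0, 1), (1, 0, 0, 1), (0, 1, 4, 4), (1, 0, 0,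 1), (1, 0, 0, 1), (1, 0, 0, 1), (4, 1, 3, 1), (1, 3, 3, 0), (1, 0, 0, 1), (1, 0, 0, 1), (1, 0, 0, 1), (4, 4, 1, 0), (1, 0, 0, 1), (4, 3, 4, 2), (1, 0, 0, 1), (1, 0, 0, 1), (1, 0, 0, 1), (1, 0, 0, 1), (2, 3, 0, 3), (1, 0, 0, 1), (1, 0, 0, 1), (4, 0, 0, 4), (1, 0, 0, 1), (1, 0, 0, 1), (3, 1, 3, 3), (1, 0, 0, 1), (1, 0, 0, 1), (3, 4, 2, 3), (1, 0, 0, 1), (1, 0, 0, 1), (1, 1, 4, 0), (1, 0, 0, 1), (3, 2, 0, 2), (1, 0, 0, 1), (1, 2, 1, 3), (1, 0, 0, 1), (1, 0, 0, 1), (1, 0, 0, 1), (1, 0, 0, 1), (0, 4, 1, 1), (4, 2, 2, 0), (1, 0, 0, 1), (1, 0, 0, 1), (1, 0, 0, 1), (1, 4, 2, 4), (1, 0, 0, 1)]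

/-- The image of a matrix. -/
def img (a b c d : ZMod 3) : ZMod 5 × ZMod 5 × ZMod 5 × ZMod 5 :=
  table.getD (27 * a.val + 9 * b.val + 3 * c.val + d.val) (1, 0, 0, 1)

/-- Apply a quadruple to a pair. -/
def app (m : ZMod 5 × ZMod 5 × ZMod 5 × ZMod 5) (v : ZMod 5 × ZMod 5) : ZMod 5 × ZMod 5 :=
  (m.1 * v.1 + m.2.1 * v.2, m.2.2.1 * v.1 + m.2.2.2 * v.2)

/-- Matrix product of quadruples. -/
def mmul (m n : ZMod 5 × ZMod 5 × ZMod 5 × ZMod 5) : ZMod 5 × ZMod 5 × ZMod 5 × ZMod 5 :=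
  (m.1 * n.1 + m.2.1 * n.2.2.1, m.1 * n.2.1 + m.2.1 * n.2.2.2,
    m.2.2.1 * n.1 + m.2.2.2 * n.2.2.1, m.2.2.1 * n.2.1 + m.2.2.2 * n.2.2.2)

set_option maxRecDepth 100000 in
theorem img_mul : ∀ a b c d : ZMod 3, a * d - b * c = 1 → ∀ e f g h : ZMod 3, e * h - f * g = 1 →
    img (a * e + b * g) (a * f + b * h) (c * e + d * g) (c * f + d * h) =
      mmul (img a b c d) (img e f g h) := by decide

set_option maxRecDepth 100000 in
set_option synthInstance.maxSize 4000 in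
theorem img_fpf' : ∀ a b c d : ZMod 3, a * d - b * c = 1 → ∀ v w : ZMod 5,
    app (img a b c d) (v, w) = (v, w) → (v ≠ 0 ∨ w ≠ 0) → a = 1 ∧ b = 0 ∧ c = 0 ∧ d = 1 := by decide

theorem img_fpf (a b c d : ZMod 3) (h : a * d - b * c = 1) : ∀ v : ZMod 5 × ZMod 5,
    app (img a b c d) v = v → v ≠ 0 → a = 1 ∧ b = 0 ∧ c = 0 ∧ d = 1 := fun v hv hv0 => by
  refine img_fpf' a b c d h v.1 v.2 hv ?_
  by_contra hc
  push Not at hc
  exact hv0 (Prod.ext hc.1 hc.2)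

theorem img_one : img 1 0 0 1 = (1, 0, 0, 1) := by decide

open Matrix

/-- The action of `SL(2, 3)` on `(ZMod 5)²`. -/
def act (g : Matrix.SpecialLinearGroup (Fin 2) (ZMod 3)) (v : ZMod 5 × ZMod 5) : ZMod 5 × ZMod 5 :=
  app (img (g.1 0 0) (g.1 0 1) (g.1 1 0) (g.1 1 1)) v

theorem det_eq (g : Matrix.SpecialLinearGroup (Fin 2) (ZMod 3)) :
    g.1 0 0 * g.1 1 1 - g.1 0 1 * g.1 1 0 = 1 := by
  rw [← Matrix.det_fin_two]; exact g.2

theorem act_mul (g h : Matrix.SpecialLinearGroup (Fin 2) (ZMod 3)) (v : ZMod 5 × ZMod 5) :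
    act (g * h) v = act g (act h v) := by
  have e : ∀ i j, (g * h).1 i j = g.1 i 0 * h.1 0 j + g.1 i 1 * h.1 1 j := fun i j => by
    simp [Matrix.mul_apply, Fin.sum_univ_two]
  simp only [act, e, img_mul _ _ _ _ (det_eq g) _ _ _ _ (det_eq h)]
  simp only [app, mmul, Prod.mk.injEq]
  constructor <;> ring

theorem act_one (v : ZMod 5 × ZMod 5) : act 1 v = v := by
  simp [act, app, img_one]

theorem act_add (g : Matrix.SpecialLinearGroup (Fin 2) (ZMod 3)) (v w : ZMod 5 × ZMod 5) :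
    act g (v + w) = act g v + act g w := by
  simp only [act, app, Prod.fst_add, Prod.snd_add, Prod.mk_add_mk, Prod.mk.injEq]
  constructor <;> ring

/-- The action as a homomorphism. -/
def actHom : Matrix.SpecialLinearGroup (Fin 2) (ZMod 3) →* MulAut (Multiplicative (ZMod 5 × ZMod 5)) where
  toFun g :=
    { toFun := fun v => Multiplicative.ofAdd (act g v.toAdd)
      invFun := fun v => Multiplicative.ofAdd (act g⁻¹ v.toAdd)
      left_inv := fun v => by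
        apply Multiplicative.toAdd.injective
        simp only [toAdd_ofAdd, ← act_mul, inv_mul_cancel, act_one]
      right_inv := fun v => by
        apply Multiplicative.toAdd.injective
        simp only [toAdd_ofAdd, ← act_mul, mul_inv_cancel, act_one]
      map_mul' := fun v w => congrArg Multiplicative.ofAdd (act_add g _ _) }
  map_one' := MulEquiv.ext fun v => congrArg Multiplicative.ofAdd (act_one _)
  map_mul' g h := MulEquiv.ext fun v => congrArg Multiplicative.ofAdd (act_mul g h _)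


/-- The group SL(2,3) of order 24 (the binary tetrahedral group) occurs as a Frobenius complement of some finite Frobenius group. -/
theorem result :
    ∃ (L : Type) (_ : Group L) (_ : Finite L) (H : Subgroup L), Cfsg.IsFrobeniusComplement H ∧ Nonempty (H ≃* Matrix.SpecialLinearGroup (Fin 2) (ZMod 3)) := by
  haveI : Nontrivial (Matrix.SpecialLinearGroup (Fin 2) (ZMod 3)) :=
    ⟨⟨⟨!![1, 1; 0, 1], by simp [Matrix.det_fin_two]⟩, 1, fun h => by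
      have := congrFun (congrFun (congrArg Subtype.val h) 0) 1
      simp at this⟩⟩
  haveI : Nontrivial (Multiplicative (ZMod 5 × ZMod 5)) :=
    ⟨⟨1, Multiplicative.ofAdd (1, 0), fun h => absurd (congrArg Multiplicative.toAdd h) (by decide)⟩⟩
  have hfpf : ∀ g, g ≠ 1 → ∀ v, actHom g v = v → v = 1 := by
    intro g hg v hv
    by_contra hv0
    apply hg
    obtain ⟨ha, hb, hc, hd⟩ := img_fpf _ _ _ _ (det_eq g) v.toAdd
      (congrArg Multiplicative.toAdd hv) (fun h => hv0 (Multiplicative.toAdd.injective h))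
    apply Subtype.ext
    ext i j
    fin_cases i <;> fin_cases j <;> simp [ha, hb, hc, hd]
  obtain ⟨L, i1, i2, H, hH, ⟨e⟩, -⟩ :=
    Cfsg.Agent.Frobenius.exists_complement_of_fpf actHom hfpf
  exact ⟨L, i1, i2, H, hH, ⟨e.symm⟩⟩

end Cfsg.Agent.S4298
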