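import Cfsg.Statements.S4300
import Cfsg.Agent.Lib.Perm.NormalMultTrans
-- import your own Cfsg.Agent.* helpers here

set_option autoImplicit false
open Cfsg

namespace Cfsg.Agent.S4300

/-- Let G act faithfully and primitively on a set X, and suppose the stabilizer of some point is a simple group. Then either G is simple, or G has a normal subgroup, neither trivial nor the whole group, that acts regularly on X (transitively with trivial point stabilizers). -/
theorem result {G : Type*} [Group G] {X : Type*} [MulAction G X] [FaithfulSMul G X]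
    (hprim : MulAction.IsPreprimitive G X) (x : X) (hsimple : IsSimpleGroup (MulAction.stabilizer G x)) :
    IsSimpleGroup G ∨ ∃ N : Subgroup G, N.Normal ∧ N ≠ ⊥ ∧ N ≠ ⊤ ∧
      MulAction.IsPretransitive N X ∧ ∀ y : X, MulAction.stabilizer N y = ⊥ := by
  haveI := hprim
  rw [or_iff_not_imp_left]
  intro hns
  haveI : Nontrivial G := by
    haveI := hsimple
    exact nontrivial_of_ne _ _ (fun h => (exists_ne (1 : MulAction.stabilizer G x)).choose_spec (Subtype.ext h))
  by_contra hall
  simp only [not_exists, not_and] at hall
  apply hns
  refine ⟨fun N hN => or_iff_not_imp_left.2 fun hN0 => ?_⟩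
  by_contra hN1
  have hNt : MulAction.IsPretransitive N X := Perm.isPretransitive_of_normal hN0
  haveI := hNt
  refine hall N hN hN0 hN1 hNt fun y => ?_
  by_contra hy
  have hx : N.subgroupOf (MulAction.stabilizer G x) ≠ ⊥ :=
    Perm.subgroupOf_stabilizer_ne_bot ⟨y, hy⟩ x
  rcases hsimple.eq_bot_or_eq_top_of_normal (N.subgroupOf (MulAction.stabilizer G x)) inferInstance with h | h
  · exact hx h
  · apply hN1
    rw [Subgroup.subgroupOf_eq_top] at h
    rw [← Perm.stabilizer_sup_eq_top hNt x, sup_eq_right.2 h]

end Cfsg.Agent.S4300
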