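import Cfsg.Statements.S4301
import Cfsg.Agent.Lib.Perm.Extension
-- import your own Cfsg.Agent.* helpers here

set_option autoImplicit false
open Cfsg

namespace Cfsg.Agent.S4301

theorem exists_inj_pair {X : Type*} {k : ℕ} (hk : 2 ≤ k) (hkX : Nonempty (Fin k ↪ X)) {a b : X}
    (hab : a ≠ b) : ∃ e : Fin k ↪ X, e ⟨0, by omega⟩ = a ∧ e ⟨1, by omega⟩ = b := by
  classical
  obtain ⟨e⟩ := hkX
  have h01 : e ⟨0, by omega⟩ ≠ e ⟨1, by omega⟩ := fun h => by simpa using e.injective h
  let σ : Equiv.Perm X := Equiv.swap (Equiv.swap (e ⟨0, by omega⟩) a (e ⟨1, by omega⟩)) b *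
    Equiv.swap (e ⟨0, by omega⟩) a
  refine ⟨e.trans σ.toEmbedding, ?_, ?_⟩
  · simp only [Function.Embedding.trans_apply, Equiv.coe_toEmbedding, σ, Equiv.Perm.mul_apply,
      Equiv.swap_apply_left]
    refine Equiv.swap_apply_of_ne_of_ne (fun h => h01 ?_) hab
    exact (Equiv.swap (e ⟨0, by omega⟩) a).injective (by rw [Equiv.swap_apply_left]; exact h)
  · simp [σ]

theorem result_aux {X : Type*} (G : Subgroup (Equiv.Perm (Option X)))
    (hfix : ∀ f ∈ G, f none = none) (k : ℕ) (hk : 2 ≤ k) (hkX : Nonempty (Fin k ↪ X))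
    (htrans : ∀ a b : Fin k ↪ X, ∃ f ∈ G, ∀ i, f (some (a i)) = some (b i))
    (h g : Equiv.Perm (Option X)) (hg : g ∈ G) (x y : X)
    (h1 : h none = some x) (h2 : h (some x) = none) (h3 : h (some y) = some y)
    (h4 : g (some x) = some y) (_h5 : g (some y) = some x)
    (h6 : (g * h) ^ 3 ∈ G) (h7 : h ^ 2 ∈ G)
    (h8 : ∀ f ∈ G, f (some x) = some x → h * f * h ∈ G ∧ (h * f * h) (some x) = some x) :
    (∀ f ∈ Subgroup.closure ((G : Set (Equiv.Perm (Option X))) ∪ {h}), f none = none ↔ f ∈ G) ∧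
      MulAction.IsMultiplyPretransitive
        (Subgroup.closure ((G : Set (Equiv.Perm (Option X))) ∪ {h})) (Option X) (k + 1) := by
  rw [pow_two] at h7
  have hxy : x ≠ y := by
    intro e
    rw [← e] at h3
    rw [h2] at h3
    exact Option.some_ne_none x h3.symm
  -- double coset decomposition of `G`
  have hdec : ∀ f ∈ G, f (some x) = some x ∨ ∃ a b : Equiv.Perm (Option X),
      a ∈ G ∧ a (some x) = some x ∧ b ∈ G ∧ b (some x) = some x ∧ f = a * g * b := by
    intro f hf
    by_cases hfx : f (some x) = some x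
    · exact Or.inl hfx
    obtain ⟨z, hz⟩ : ∃ z, f (some x) = some z := Option.ne_none_iff_exists'.1 fun e => by
      rw [← hfix f hf] at e
      exact Option.some_ne_none x (f.injective e)
    have hzx : x ≠ z := fun e => hfx (by rw [hz, e])
    obtain ⟨e₁, e₁0, e₁1⟩ := exists_inj_pair hk hkX hzx
    obtain ⟨e₂, e₂0, e₂1⟩ := exists_inj_pair hk hkX hxy
    obtain ⟨a, ha, hai⟩ := htrans e₂ e₁
    have ha0 := hai ⟨0, by omega⟩
    have ha1 := hai ⟨1, by omega⟩
    rw [e₂0, e₁0] at ha0
    rw [e₂1, e₁1] at ha1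
    refine Or.inr ⟨a, g⁻¹ * a⁻¹ * f, ha, ha0, G.mul_mem (G.mul_mem (G.inv_mem hg) (G.inv_mem ha)) hf,
      ?_, by group⟩
    rw [Equiv.Perm.mul_apply, Equiv.Perm.mul_apply, hz, ← ha1]
    rw [show a⁻¹ (a (some y)) = some y from a.symm_apply_apply _, ← h4]
    exact g.symm_apply_apply _
  have hclosed : ∀ f ∈ G, h * f * h ∈ G ∨ ∃ a ∈ G, ∃ b ∈ G, h * f * h = a * h * b := by
    intro f hf
    rcases hdec f hf with hfx | ⟨a, b, ha, hax, hb, hbx, rfl⟩
    · exact Or.inl (h8 f hf hfx).1
    · refine Or.inr ⟨h * a * h * (h * h)⁻¹ * g⁻¹ * (g * h) ^ 3 * (h * h)⁻¹,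
        ?_, g⁻¹ * (h * h)⁻¹ * (h * b * h), ?_, ?_⟩
      · exact G.mul_mem (G.mul_mem (G.mul_mem (G.mul_mem (h8 a ha hax).1 (G.inv_mem h7))
          (G.inv_mem hg)) h6) (G.inv_mem h7)
      · exact G.mul_mem (G.mul_mem (G.inv_mem hg) (G.inv_mem h7)) (h8 b hb hbx).1
      · rw [pow_succ, pow_two]; group
  have hU := fun f hf => Perm.closure_insert_eq_union G h h7 hclosed (g := f) hf
  set U := Subgroup.closure ((G : Set (Equiv.Perm (Option X))) ∪ {h})
  have hGU : G ≤ U := fun f hf => Subgroup.subset_closure (Or.inl hf)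
  have hhU : h ∈ U := Subgroup.subset_closure (Or.inr rfl)
  have hstab : ∀ f ∈ U, f none = none ↔ f ∈ G := by
    refine fun f hf => ⟨fun hf0 => ?_, hfix f⟩
    rcases hU f hf with hfG | ⟨a, ha, b, hb, rfl⟩
    · exact hfG
    · exfalso
      rw [Equiv.Perm.mul_apply, Equiv.Perm.mul_apply, hfix b hb, h1] at hf0
      rw [← hfix a ha] at hf0
      exact Option.some_ne_none x (a.injective hf0)
  refine ⟨hstab, Perm.isMultiplyPretransitive_of_forall fun u v hu hv => ?_⟩
  have hto : ∀ z : Option X, ∃ f ∈ U, f z = none := by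
    intro z
    rcases z with _ | z
    · exact ⟨1, U.one_mem, rfl⟩
    by_cases hzx : z = x
    · exact ⟨h, hhU, hzx ▸ h2⟩
    obtain ⟨e₁, e₁0, -⟩ := exists_inj_pair hk hkX hzx
    obtain ⟨e₂, e₂0, -⟩ := exists_inj_pair hk hkX hxy
    obtain ⟨a, ha, hai⟩ := htrans e₁ e₂
    have ha0 := hai ⟨0, by omega⟩
    rw [e₁0, e₂0] at ha0
    exact ⟨h * a, U.mul_mem hhU (hGU ha), by rw [Equiv.Perm.mul_apply, ha0, h2]⟩
  obtain ⟨a, ha, hau⟩ := hto (u (Fin.last k))
  obtain ⟨b, hb, hbv⟩ := hto (v (Fin.last k))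
  have hsome : ∀ (w : Fin (k + 1) → Option X) (f : Equiv.Perm (Option X)), Function.Injective w →
      f (w (Fin.last k)) = none → ∀ i : Fin k, ∃ z, f (w i.castSucc) = some z := by
    intro w f hw hfw i
    refine Option.ne_none_iff_exists'.1 fun e => ?_
    exact (Fin.castSucc_lt_last i).ne (hw (f.injective (e.trans hfw.symm)))
  choose u' hu' using hsome u a hu hau
  choose v' hv' using hsome v b hv hbv
  have hu'i : Function.Injective u' := fun i j e => Fin.castSucc_injective k
    (hu (a.injective (by rw [hu', hu', e])))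
  have hv'i : Function.Injective v' := fun i j e => Fin.castSucc_injective k
    (hv (b.injective (by rw [hv', hv', e])))
  obtain ⟨f, hf, hfi⟩ := htrans ⟨u', hu'i⟩ ⟨v', hv'i⟩
  refine ⟨⟨b⁻¹ * f * a, U.mul_mem (U.mul_mem (U.inv_mem hb) (hGU hf)) ha⟩, fun i => ?_⟩
  show (b⁻¹ * f * a) (u i) = v i
  rw [Equiv.Perm.mul_apply, Equiv.Perm.mul_apply, Equiv.Perm.inv_eq_iff_eq]
  refine Fin.lastCases ?_ (fun j => ?_) i
  · rw [hau, hbv, hfix f hf]
  · rw [hu', hv']; exact hfi j


/-- One-point extension of a multiply transitive group. Let X be a set and G a group of permutations of Option X (the set X with one extra point ∗ = none) all of whose elements fix ∗, such that G is k-transitive on the points of X for some k ≥ 2, X having at least k points. Suppose a permutation h of Option X and an element g of G satisfy: h interchanges ∗ with a point x of X and fixes a point y of X; g interchanges x and y; (g h)³ and h² lie in G; and for every f in G fixing x, the product h f h lies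 in G and fixes x. Then an element of the group generated by G and h fixes ∗ exactly when it lies in G, and that group acts (k+1)-transitively on Option X. -/
theorem result {X : Type*} (G : Subgroup (Equiv.Perm (Option X))) (hfix : ∀ f ∈ G, f none = none)
    (k : ℕ) (hk : 2 ≤ k) (hkX : Nonempty (Fin k ↪ X))
    (htrans : ∀ a b : Fin k ↪ X, ∃ f ∈ G, ∀ i, f (some (a i)) = some (b i))
    (h g : Equiv.Perm (Option X)) (hg : g ∈ G) (x y : X)
    (h1 : h none = some x) (h2 : h (some x) = none) (h3 : h (some y) = some y)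
    (h4 : g (some x) = some y) (h5 : g (some y) = some x)
    (h6 : (g * h) ^ 3 ∈ G) (h7 : h ^ 2 ∈ G)
    (h8 : ∀ f ∈ G, f (some x) = some x → h * f * h ∈ G ∧ (h * f * h) (some x) = some x) :
    (∀ f ∈ Subgroup.closure ((G : Set (Equiv.Perm (Option X))) ∪ {h}), f none = none ↔ f ∈ G) ∧
      MulAction.IsMultiplyPretransitive (Subgroup.closure ((G : Set (Equiv.Perm (Option X))) ∪ {h})) (Option X) (k + 1) := by
  exact result_aux G hfix k hk hkX htrans h g hg x y h1 h2 h3 h4 h5 h6 h7 h8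

end Cfsg.Agent.S4301
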