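import Cfsg.Statements.S4302
import Cfsg.Agent.Lib.Offender.AbelianTwo
import Cfsg.Agent.Lib.Offender.Model
import Cfsg.Agent.Lib.Offender.Factorization
import Cfsg.Agent.Lib.Components.Fitting
import Cfsg.Agent.Lib.PGroup.Thompson

set_option autoImplicit false
open Cfsg


namespace Cfsg.Agent.S4302

open Subgroup
open scoped Pointwise

section

variable {X : Type*} [Group X]

/-- An element of odd order fixing the involutions of an invariant abelian 2-subgroup centralizes it. -/
theorem commute_of_odd {W : Subgroup X} [W.Normal] (hW : IsMulCommutative W) (h2 : IsPGroup 2 W)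
    {y : X} {m : ℕ} (hm : Odd m) (hym : y ^ m = 1)
    (hy : ∀ u ∈ W, u ^ 2 = 1 → y * u = u * y) : y ∈ centralizer (W : Set X) := by
  suffices key : ∀ k : ℕ, ∀ w ∈ W, w ^ 2 ^ k = 1 → w * y = y * w by
    intro w hw
    obtain ⟨k, hk⟩ := h2 ⟨w, hw⟩
    exact key k w hw (congrArg Subtype.val hk)
  intro k
  induction k with
  | zero =>
    intro w _ h
    rw [pow_zero, pow_one] at h
    rw [h, one_mul, mul_one]
  | succ k ih =>
    intro w hw h
    have h2w : w ^ 2 * y = y * w ^ 2 := ih _ (pow_mem hw 2) (by rw [← pow_mul, ← pow_succ', h])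
    have hv : y * w * y⁻¹ ∈ W := Subgroup.Normal.conj_mem inferInstance w hw y
    obtain ⟨c, hc⟩ : ∃ c, c = y * w * y⁻¹ * w⁻¹ := ⟨_, rfl⟩
    have hcW : c ∈ W := hc ▸ mul_mem hv (inv_mem hw)
    have hcomm : Commute (y * w * y⁻¹) w⁻¹ :=
      PGroup.mul_comm_of_isMulCommutative hW hv (inv_mem hw)
    have hc2 : c ^ 2 = 1 := by
      rw [hc, hcomm.mul_pow, conj_pow, ← h2w, mul_inv_cancel_right, inv_pow, mul_inv_cancel]
    have hyc : Commute y c := hy c hcW hc2
    have hit : ∀ n : ℕ, y ^ n * w * (y ^ n)⁻¹ = c ^ n * w := by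
      intro n
      induction n with
      | zero => simp
      | succ n ihn =>
        calc y ^ (n + 1) * w * (y ^ (n + 1))⁻¹ = y * (y ^ n * w * (y ^ n)⁻¹) * y⁻¹ := by
              rw [pow_succ']; group
          _ = y * c ^ n * w * y⁻¹ := by rw [ihn]; group
          _ = c ^ n * (y * w * y⁻¹) := by rw [(hyc.pow_right n).eq]; group
          _ = c ^ n * (c * w) := by rw [hc]; group
          _ = c ^ (n + 1) * w := by rw [pow_succ]; group
    have hcm : c ^ m = 1 := by
      have := hit m
      rw [hym, inv_one, one_mul, mul_one] at this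
      exact mul_right_cancel (b := w) (by rw [one_mul, ← this])
    obtain ⟨j, rfl⟩ := hm
    rw [pow_succ, pow_mul, hc2, one_pow, one_mul] at hcm
    rw [hcm, eq_comm, mul_inv_eq_one, mul_inv_eq_iff_eq_mul] at hc
    exact hc.symm

end

end Cfsg.Agent.S4302

namespace Cfsg.Agent.S4302

/-- Let `X` be a finite solvable group whose Fitting subgroup is a 2-group (equivalently `F(X) = O₂(X)`), `T` a Sylow 2-subgroup of `X`, `J(T)` the subgroup generated by the abelian subgroups of `T` of largest order, `C` the largest normal subgroup of `X` centralizing the centre `Z(T)`, and `Y` the normal closure of `J(T)` in `X`. Then `X = C · Y · N_X(J(T))`, and either `Y ≤ C`, or `CY/C` is isomorphic to a direct product of at least one copy of the symmetric group of degree 3. -/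
theorem result {X : Type*} [Group X] [Finite X]
    [Group.IsSolvable X] (hF : Cfsg.fittingSubgroup X = Cfsg.pCore 2 X) (T : Sylow 2 X) :
    ((Subgroup.centralizer (((T : Subgroup X) ⊓ Subgroup.centralizer ((T : Subgroup X) : Set X) : Subgroup X) : Set X)).normalCore
        ⊔ Subgroup.normalClosure (Cfsg.thompsonSubgroupAOf (T : Subgroup X) : Set X)
        ⊔ Subgroup.normalizer (Cfsg.thompsonSubgroupAOf (T : Subgroup X) : Set X) = ⊤) ∧
    (Subgroup.normalClosure (Cfsg.thompsonSubgroupAOf (T : Subgroup X) : Set X)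
        ≤ (Subgroup.centralizer (((T : Subgroup X) ⊓ Subgroup.centralizer ((T : Subgroup X) : Set X) : Subgroup X) : Set X)).normalCore
      ∨ ∃ n : ℕ, 1 ≤ n ∧
        Nonempty (↥(Subgroup.normalClosure (Cfsg.thompsonSubgroupAOf (T : Subgroup X) : Set X)) ⧸
            ((Subgroup.centralizer (((T : Subgroup X) ⊓ Subgroup.centralizer ((T : Subgroup X) : Set X) : Subgroup X) : Set X)).normalCore).subgroupOf
              (Subgroup.normalClosure (Cfsg.thompsonSubgroupAOf (T : Subgroup X) : Set X))
          ≃* (Fin n → Equiv.Perm (Fin 3)))) := by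
  classical
  have : Fact (Nat.Prime 2) := ⟨Nat.prime_two⟩
  set J := Cfsg.thompsonSubgroupAOf (T : Subgroup X) with hJ
  set Z := (T : Subgroup X) ⊓ Subgroup.centralizer ((T : Subgroup X) : Set X) with hZ
  set Y := Subgroup.normalClosure (J : Set X) with hY
  set R := Cfsg.pCore 2 X with hR
  have hRT : R ≤ (T : Subgroup X) := PCore.pCore_le_sylow T
  have hCR : Subgroup.centralizer (R : Set X) ≤ R := by
    rw [← hF]; exact Components.centralizer_fittingSubgroup_le
  have hJY : J ≤ Y := fun x hx => Subgroup.subset_normalClosure hx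
  refine ⟨?_, ?_⟩
  · have hn : (T : Subgroup X) ⊓ Y ≤ (T : Subgroup X) := inf_le_left
    have hJP : J ≤ (T : Subgroup X) ⊓ Y := le_inf (PGroup.thompsonSubgroupAOf_le _) hJY
    obtain ⟨A₀, hA₀⟩ := PGroup.exists_isMaxAb (T : Subgroup X)
    have hA₀P : A₀ ≤ (T : Subgroup X) ⊓ Y := (PGroup.le_thompsonSubgroupAOf hA₀).trans hJP
    have heq : Cfsg.thompsonSubgroupAOf ((T : Subgroup X) ⊓ Y) = J := by
      rw [hJ, PGroup.thompsonSubgroupAOf_eq, PGroup.thompsonSubgroupAOf_eq]
      congr 1
      ext A
      constructor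
      · exact fun hA => ⟨hA.1.trans hn, hA.2.1, fun B hB hBc =>
          (hA₀.2.2 B hB hBc).trans (hA.2.2 A₀ hA₀P hA₀.2.1)⟩
      · exact fun hA => ⟨(PGroup.le_thompsonSubgroupAOf hA).trans hJP, hA.2.1,
          fun B hB hBc => hA.2.2 B (hB.trans hn) hBc⟩
    obtain ⟨P, hP⟩ := Offender.exists_sylow_eq_inf T Y
    have hnorm : Subgroup.normalizer (((T : Subgroup X) ⊓ Y : Subgroup X) : Set X) ≤
        Subgroup.normalizer (J : Set X) := by
      rw [← heq]; exact PGroup.normalizer_le_normalizer_thompsonAOf _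
    have h := P.normalizer_sup_eq_top (N := Y)
    rw [hP] at h
    exact top_le_iff.mp (h.ge.trans (sup_le (hnorm.trans le_sup_right)
      (le_sup_right.trans le_sup_left)))
  -- the module
  have hZR : Z ≤ R ⊓ Subgroup.centralizer (R : Set X) := by
    have hZc : Z ≤ Subgroup.centralizer (R : Set X) :=
      inf_le_right.trans (Subgroup.centralizer_le (SetLike.coe_subset_coe.mpr hRT))
    exact le_inf (hZc.trans hCR) hZc
  set W := Subgroup.normalClosure (Z : Set X) with hW
  have hWR : W ≤ R ⊓ Subgroup.centralizer (R : Set X) := Subgroup.normalClosure_le_normal hZR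
  have hWab : IsMulCommutative W := PGroup.isMulCommutative_of_forall fun a ha b hb =>
    ((hWR ha).2 b (hWR hb).1).symm
  have hW2 : IsPGroup 2 W := (T.2.to_le hRT).to_le (hWR.trans inf_le_left)
  have hZW : Z ≤ W := fun x hx => Subgroup.subset_normalClosure hx
  have hcore : (Subgroup.centralizer (Z : Set X)).normalCore = Subgroup.centralizer (W : Set X) := by
    refine le_antisymm ?_ (Subgroup.normal_le_normalCore.mpr
      (Subgroup.centralizer_le (SetLike.coe_subset_coe.mpr hZW)))
    rw [Subgroup.le_centralizer_iff]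
    refine Subgroup.normalClosure_le_normal ?_
    exact Subgroup.le_centralizer_iff.mp (Subgroup.normalCore_le _)
  set U := Cfsg.omegaOne 2 W with hU
  have hUn : U.Normal := PGroup.omegaOne_normal W
  have hUel : Cfsg.IsElementaryAbelian 2 U := PGroup.isElementaryAbelian_omegaOne hWab
  have hUW : U ≤ W := PGroup.omegaOne_le W
  have hgen : W ≤ ⨆ S : Sylow 2 X, W ⊓ Subgroup.centralizer ((S : Subgroup X) : Set X) := by
    rw [hW, Subgroup.normalClosure, Subgroup.closure_le]
    intro y hy
    obtain ⟨z, hz, hzy⟩ := Group.mem_conjugatesOfSet_iff.mp hy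
    obtain ⟨g, rfl⟩ := isConj_iff.mp hzy
    refine Subgroup.mem_iSup_of_mem (g • T) ⟨?_, ?_⟩
    · exact Subgroup.Normal.conj_mem inferInstance z (hZW hz) g
    · rintro _ ⟨t, ht, rfl⟩
      show g * t * g⁻¹ * (g * z * g⁻¹) = g * z * g⁻¹ * (g * t * g⁻¹)
      have := hz.2 t ht
      calc g * t * g⁻¹ * (g * z * g⁻¹) = g * (t * z) * g⁻¹ := by group
        _ = _ := by rw [this]; group
  have hCUW : Subgroup.centralizer (U : Set X) = Subgroup.centralizer (W : Set X) := by
    refine le_antisymm (Offender.le_centralizer_of_isPGroup_quotient (p := 2) hgen ?_)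
      (Subgroup.centralizer_le (SetLike.coe_subset_coe.mpr hUW))
    rintro ⟨_, y, hy, rfl⟩
    obtain ⟨k, m, hm, hn⟩ := Nat.exists_eq_two_pow_mul_odd (n := orderOf y) (orderOf_pos y).ne'
    refine ⟨k, Subtype.ext ?_⟩
    show (QuotientGroup.mk' (Subgroup.centralizer (W : Set X)) y) ^ 2 ^ k = 1
    rw [← map_pow]
    refine (QuotientGroup.eq_one_iff _).mpr (commute_of_odd hWab hW2 hm ?_ ?_)
    · rw [← pow_mul, ← hn, pow_orderOf_eq_one]
    · intro u hu hu2
      have hyu : Commute u y := hy u (PGroup.mem_omegaOne_of_pow_eq_one hu hu2)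
      exact (hyu.pow_right (2 ^ k)).symm.eq
  by_cases hYC : Y ≤ Subgroup.centralizer (W : Set X)
  · exact Or.inl (hYC.trans_eq hcore.symm)
  right
  set θ := Offender.toModel U with hθ
  have hker : θ.ker = Subgroup.centralizer (W : Set X) := by rw [← hCUW, Offender.ker_toModel]
  set H := Y.map θ with hH
  have hHr : H ≤ θ.range := Subgroup.map_le_range _ _
  have hr : Cfsg.pCore 2 ↥θ.range = ⊥ :=
    (PCore.pCore_eq_bot_congr ((QuotientGroup.quotientMulEquivOfEq hker.symm).trans
      (QuotientGroup.quotientKerEquivRange θ))).mp (Offender.pCore_quotient_centralizer_eq_bot hgen)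
  have hrs : Cfsg.IsPSolvable 2 ↥θ.range :=
    PCore.isPSolvable_of_surjective θ.rangeRestrict θ.rangeRestrict_surjective
      PCore.isPSolvable_of_isSolvable
  have hFFr : Offender.FF 2 (Offender.modelV U) θ.range :=
    ⟨Offender.isElementaryAbelian_modelV U hUel, Offender.range_toModel_le_normalizer U,
      Offender.range_toModel_inf_centralizer U, Offender.centralizer_pPrimeCore_le hrs hr⟩
  have hHn : (H.subgroupOf θ.range).Normal := by
    refine (Subgroup.normal_subgroupOf_iff_le_normalizer hHr).mpr ?_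
    rintro _ ⟨g, rfl⟩
    exact Subgroup.le_normalizer_map θ
      ⟨g, (Subgroup.normalizer_eq_top_iff.mpr (inferInstance : Y.Normal)).ge (Subgroup.mem_top g), rfl⟩
  have hHO : Cfsg.pCore 2 ↥H = ⊥ :=
    (PCore.pCore_eq_bot_congr (Subgroup.subgroupOfEquivOfLe hHr)).mp
      (PCore.pCore_eq_bot_of_normal _ hr)
  have hFF : Offender.FF 2 (Offender.modelV U) H :=
    ⟨hFFr.hV, hHr.trans hFFr.hHV, le_bot_iff.mp ((inf_le_inf_right _ hHr).trans hFFr.hf.le),
      Offender.centralizer_pPrimeCore_le (PCore.isPSolvable_of_le hHr hrs) hHO⟩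
  -- images of abelian subgroups of largest order are best offenders
  have hoff : ∀ (S : Sylow 2 X) (A : Subgroup X), PGroup.IsMaxAb (S : Subgroup X) A →
      Cfsg.IsBestOffenderOn 2 (Offender.modelV U) (A.map θ) := by
    intro S A hA
    have hAab : IsMulCommutative A := hA.2.1
    refine hFFr.isBestOffenderOn_of_abelian (Subgroup.map_le_range _ _)
      (PGroup.isMulCommutative_map hAab θ) ((S.2.to_le hA.1).map θ) fun B' hB' => ?_
    have hmax : ∀ B ≤ A, Nat.card B * Nat.card ↥(U ⊓ Subgroup.centralizer (B : Set X)) ≤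
        Nat.card A * Nat.card ↥(U ⊓ Subgroup.centralizer (A : Set X)) := by
      intro B hB
      set D := U ⊓ Subgroup.centralizer (B : Set X) with hD
      have hBD : B ≤ Subgroup.normalizer (D : Set X) :=
        (Subgroup.le_centralizer_iff.mp (inf_le_right : D ≤ Subgroup.centralizer (B : Set X))).trans
          (Subgroup.centralizer_le_normalizer _)
      have e1 := Offender.card_sup_mul_card_inf hBD
      have hab : IsMulCommutative ↥(B ⊔ D) := by
        refine PGroup.isMulCommutative_of_forall ?_
        have : B ⊔ D ≤ Subgroup.centralizer ((B ⊔ D : Subgroup X) : Set X) := by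
          have hBB : B ≤ Subgroup.centralizer (B : Set X) := fun x hx y hy =>
            PGroup.mul_comm_of_isMulCommutative hAab (hB hy) (hB hx)
          have hDD : D ≤ Subgroup.centralizer (D : Set X) := fun x hx y hy =>
            PGroup.mul_comm_of_isMulCommutative hUel.1 hy.1 hx.1
          rw [Offender.centralizer_sup_eq]
          exact sup_le (le_inf hBB (Subgroup.le_centralizer_iff.mp inf_le_right))
            (le_inf inf_le_right hDD)
        exact fun x hx y hy => this hy x hx
      have hle : B ⊔ D ≤ (S : Subgroup X) := sup_le (hB.trans hA.1)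
        (inf_le_left.trans (hUW.trans ((hWR.trans inf_le_left).trans (PCore.pCore_le_sylow S))))
      rw [← e1]
      refine Nat.mul_le_mul (hA.2.2 _ hle hab) (Subgroup.card_le_of_le ?_)
      exact le_inf (inf_le_right.trans inf_le_left) fun x hx y hy =>
        PGroup.mul_comm_of_isMulCommutative hAab hy (hB hx.1)
    set B := A ⊓ B'.comap θ with hB
    have hBB' : B.map θ = B' := by
      refine le_antisymm ((Subgroup.map_mono inf_le_right).trans (Subgroup.map_comap_le _ _))
        fun y hy => ?_
      obtain ⟨a, ha, rfl⟩ := hB' hy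
      exact ⟨a, ⟨ha, hy⟩, rfl⟩
    have hk : B ⊓ Subgroup.centralizer (U : Set X) = A ⊓ Subgroup.centralizer (U : Set X) := by
      refine le_antisymm (inf_le_inf_right _ inf_le_left) (le_inf (le_inf inf_le_left ?_) inf_le_right)
      refine inf_le_right.trans ?_
      rw [← Offender.ker_toModel]
      exact MonoidHom.ker_le_comap _ _
    have h1 := hmax B inf_le_left
    rw [← Offender.card_map_toModel U B, ← Offender.card_map_toModel U A, hBB', hk,
      ← Offender.card_inf_centralizer_map_toModel U B, hBB',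
      ← Offender.card_inf_centralizer_map_toModel U A] at h1
    refine Nat.le_of_mul_le_mul_right ?_
      (Nat.card_pos (α := ↥(A ⊓ Subgroup.centralizer (U : Set X))))
    linarith
  have hGen : Offender.Gen 2 (Offender.modelV U) H := by
    refine ⟨hFF, ?_⟩
    set K := ⨆ B : {B : Subgroup (Offender.Model U) // B ≤ H ∧
      Cfsg.IsBestOffenderOn 2 (Offender.modelV U) B}, (B : Subgroup (Offender.Model U))
    rw [hH, Subgroup.map_le_iff_le_comap, hY, Subgroup.normalClosure, Subgroup.closure_le]
    intro y hy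
    obtain ⟨j, hj, hjy⟩ := Group.mem_conjugatesOfSet_iff.mp hy
    obtain ⟨g, rfl⟩ := isConj_iff.mp hjy
    have hle : J ≤ (K.comap θ).comap (MulAut.conj g).toMonoidHom := by
      rw [hJ, PGroup.thompsonSubgroupAOf_eq]
      refine sSup_le fun A hA => ?_
      rw [← Subgroup.map_le_iff_le_comap, ← Subgroup.map_le_iff_le_comap]
      have hA' := PGroup.isMaxAb_map_equiv (MulAut.conj g) hA
      refine le_iSup_of_le ⟨_, Subgroup.map_mono ?_, hoff (g • T) _ hA'⟩ le_rfl
      rintro _ ⟨a, ha, rfl⟩
      exact Subgroup.Normal.conj_mem inferInstance a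
        (hJY (PGroup.le_thompsonSubgroupAOf hA ha)) g
    exact hle hj
  have hHne : H ≠ ⊥ := by
    rw [hH, Ne, Subgroup.map_eq_bot_iff, hker]
    exact hYC
  obtain ⟨n, hn, ⟨e⟩⟩ := hGen.exists_pi_perm_three hHne
  refine ⟨n, hn, ⟨?_⟩⟩
  have hk : (θ.comp Y.subtype).ker = (Subgroup.centralizer (Z : Set X)).normalCore.subgroupOf Y := by
    rw [hcore, ← hker]; rfl
  have hrange : (θ.comp Y.subtype).range = H := by
    rw [MonoidHom.range_comp, Subgroup.range_subtype]
  exact ((QuotientGroup.quotientMulEquivOfEq hk.symm).trans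
    ((QuotientGroup.quotientKerEquivRange _).trans (MulEquiv.subgroupCongr hrange))).trans e

end Cfsg.Agent.S4302
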