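import Cfsg.Statements.S4304
import Cfsg.Agent.Lib.SylowCount.Hall
import Cfsg.Agent.Lib.SmallSimple.Basic
import Cfsg.Agent.Lib.Transfer.AbelianSylow
-- import your own Cfsg.Agent.* helpers here

set_option autoImplicit false
open Cfsg

namespace Cfsg.Agent.S4304

open scoped Pointwise
open MulAction Subgroup

/-- A perm of order dividing two with support of size 14 is odd. -/
theorem sign_eq_neg_one {α : Type*} [Fintype α] [DecidableEq α] (g : Equiv.Perm α) (hg : g ^ 2 = 1)
    (hs : g.support.card = 14) : Equiv.Perm.sign g = -1 := by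
  have h2 : g.cycleType = Multiset.replicate (Multiset.card g.cycleType) 2 := by
    refine Multiset.eq_replicate_of_mem fun n hn => ?_
    have h1 := Nat.le_of_dvd two_pos
      ((Equiv.Perm.dvd_of_mem_cycleType hn).trans (orderOf_dvd_of_pow_eq_one hg))
    have h2 := Equiv.Perm.two_le_of_mem_cycleType hn
    omega
  have hsum : g.cycleType.sum = 14 := by rw [Equiv.Perm.sum_cycleType, hs]
  rw [h2, Multiset.sum_replicate, smul_eq_mul] at hsum
  have hc : Multiset.card g.cycleType = 7 := by omega
  rw [Equiv.Perm.sign_of_cycleType, Equiv.Perm.sum_cycleType, hs, hc]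
  decide

/-- A group of order `2 * odd` is not simple non-abelian. -/
theorem false_of_hasNormalPComplement {S : Type*} [Group S] [Finite S] [IsSimpleGroup S] {q : ℕ}
    [Fact q.Prime] (hq : q ∣ Nat.card S) (hne : ∀ a : ℕ, Nat.card S ≠ q ^ a)
    (h : Cfsg.HasNormalPComplement q S) : False := by
  obtain ⟨P, N, hN, hc⟩ := h
  rcases hN.eq_bot_or_eq_top with hb | ht
  · subst hb
    obtain ⟨n, hn⟩ := IsPGroup.iff_card.mp P.2
    apply hne n
    rw [← hc.card_mul_card, card_bot, one_mul, hn]
  · subst ht
    have h1 := hc.card_mul_card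
    rw [card_top] at h1
    have h2 : Nat.card (P : Subgroup S) = 1 :=
      Nat.eq_of_mul_eq_mul_left Nat.card_pos (h1.trans (mul_one _).symm)
    exact P.ne_bot_of_dvd_card hq (Subgroup.card_eq_one.mp h2)

theorem orders {S : Type*} [Group S] [Finite S] [IsSimpleGroup S] (k : ℕ) (hk : k ∣ 6)
    (hS : Nat.card S = 105 * k) : False := by
  have hk' : k ≤ 6 := Nat.le_of_dvd (by norm_num) hk
  have key : ∀ (q : ℕ) [Fact q.Prime] (e : ℕ), 0 < e → e ≤ 2 →
      (105 * k).factorization q = e →
      (∀ a : ℕ, 105 * k ≠ q ^ a) →
      (∀ r : ℕ, r.Prime → r ≠ q → r ∣ 105 * k → ∀ j < e, ¬ r ∣ q ^ e - q ^ j) → False := by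
    intro q hq e he0 he hfac hne h
    have P : Sylow q S := default
    have hP : Nat.card (P : Subgroup S) = q ^ e := by
      rw [P.card_eq_multiplicity, hS, hfac]
    haveI : IsMulCommutative (P : Subgroup S) := by
      rcases (by omega : e = 1 ∨ e = 2) with rfl | rfl
      · haveI := isCyclic_of_prime_card (hP.trans (pow_one q))
        exact ⟨⟨IsCyclic.commGroup.mul_comm⟩⟩
      · exact IsPGroup.isMulCommutative_of_card_eq_prime_sq hP
    refine false_of_hasNormalPComplement ?_ (fun a => hS ▸ hne a)
      (Cfsg.Agent.Transfer.hasNormalPComplement_of_primes P e hP (by rw [hS]; exact h))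
    exact (dvd_pow_self q (by omega : e ≠ 0)).trans (hP ▸ card_subgroup_dvd_card (P : Subgroup S))
  have hprimes : ∀ r : ℕ, r.Prime → r ∣ 105 * k → r = 2 ∨ r = 3 ∨ r = 5 ∨ r = 7 := by
    intro r hr hd
    have hd' : r ∣ 3 * 5 * 7 * (2 * 3) :=
      hd.trans (by norm_num; exact Nat.mul_dvd_mul_left 105 hk)
    simp only [hr.dvd_mul, Nat.prime_dvd_prime_iff_eq hr Nat.prime_two,
      Nat.prime_dvd_prime_iff_eq hr Nat.prime_three,
      Nat.prime_dvd_prime_iff_eq hr Nat.prime_five,
      Nat.prime_dvd_prime_iff_eq hr (by norm_num : Nat.Prime 7)] at hd'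
    omega
  rcases (by interval_cases k <;> simp_all : k = 1 ∨ k = 3 ∨ k = 2 ∨ k = 6) with rfl | rfl | rfl | rfl
  · refine @key 3 ⟨Nat.prime_three⟩ 1 one_pos one_le_two ?_ ?_ ?_
    · rw [show (105 * 1 : ℕ) = 3 ^ 1 * 35 by norm_num,
        Nat.factorization_mul (by norm_num) (by norm_num), Nat.prime_three.factorization_pow]
      simp [Nat.factorization_eq_zero_of_not_dvd]
    · intro a h
      have : 5 ∣ 3 ^ a := h ▸ by norm_num
      have := (Nat.prime_dvd_prime_iff_eq Nat.prime_five Nat.prime_three).mp
        (Nat.prime_five.dvd_of_dvd_pow this)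
      omega
    · intro r hr hr3 hd j hj
      obtain rfl : j = 0 := by omega
      rcases hprimes r hr hd with rfl | rfl | rfl | rfl
      all_goals first | exact absurd rfl hr3 | (revert hd; norm_num)
  · refine @key 3 ⟨Nat.prime_three⟩ 2 two_pos le_rfl ?_ ?_ ?_
    · rw [show (105 * 3 : ℕ) = 3 ^ 2 * 35 by norm_num,
        Nat.factorization_mul (by norm_num) (by norm_num), Nat.prime_three.factorization_pow]
      simp [Nat.factorization_eq_zero_of_not_dvd]
    · intro a h
      have : 5 ∣ 3 ^ a := h ▸ by norm_num
      have := (Nat.prime_dvd_prime_iff_eq Nat.prime_five Nat.prime_three).mp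
        (Nat.prime_five.dvd_of_dvd_pow this)
      omega
    · intro r hr hr3 hd j hj
      rcases hprimes r hr hd with rfl | rfl | rfl | rfl
      all_goals first | exact absurd rfl hr3 | (interval_cases j <;> (revert hd; norm_num))
  all_goals
    refine @key 2 ⟨Nat.prime_two⟩ 1 one_pos one_le_two ?_ ?_ ?_
    · first
        | rw [show (105 * 2 : ℕ) = 2 ^ 1 * 105 by norm_num]
        | rw [show (105 * 6 : ℕ) = 2 ^ 1 * 315 by norm_num]
      rw [Nat.factorization_mul (by norm_num) (by norm_num), Nat.prime_two.factorization_pow]
      simp [Nat.factorization_eq_zero_of_not_dvd]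
    · intro a h
      have : 5 ∣ 2 ^ a := h ▸ by norm_num
      have := (Nat.prime_dvd_prime_iff_eq Nat.prime_five Nat.prime_two).mp
        (Nat.prime_five.dvd_of_dvd_pow this)
      omega
    · intro r hr hr2 hd j hj
      obtain rfl : j = 0 := by omega
      intro hr1
      rw [pow_one, pow_zero] at hr1
      exact hr.one_lt.ne' (Nat.dvd_one.mp hr1)

theorem no_simple {S : Type*} [Group S] [Finite S] [IsSimpleGroup S]
    (hn : Nat.card (Sylow 7 S) = 15) : False := by
  classical
  haveI : Fact (Nat.Prime 7) := ⟨by norm_num⟩
  set X := Sylow 7 S with hX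
  haveI : Fintype X := Fintype.ofFinite X
  have hnc : ¬ IsMulCommutative S := by
    intro h
    obtain ⟨P⟩ : Nonempty X := inferInstance
    haveI : (P : Subgroup S).Normal := ⟨fun x hx g => by
      rwa [show g * x = x * g from h.is_comm.comm g x, mul_inv_cancel_right]⟩
    haveI := Sylow.unique_of_normal P inferInstance
    rw [Nat.card_unique] at hn
    omega
  set f : S →* Equiv.Perm X := toPermHom S X with hf
  have hinj : Function.Injective f := by
    refine SmallSimple.injective_of_simple f ?_
    by_contra hc
    push Not at hc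
    have : Subsingleton X := ⟨fun A B => by
      obtain ⟨g, hg⟩ := exists_smul_eq S A B
      have hA : g • A = A := congrArg (fun e : Equiv.Perm X => e A) (hc g)
      exact hA.symm.trans hg⟩
    have := Finite.card_le_one_iff_subsingleton.mpr this
    omega
  have hfaith : ∀ s : S, (∀ R : X, s • R = R) → s = 1 := fun s hs =>
    hinj ((Equiv.ext hs).trans (map_one f).symm)
  have heven : ∀ s : S, Equiv.Perm.sign (f s) = 1 := fun s =>
    Equiv.Perm.mem_alternatingGroup.mp (SmallSimple.mem_alternating_of_simple hnc f s)
  -- elements of 7-power order normalising a Sylow subgroup lie in it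
  have hmem : ∀ (R : X) (s : S), s • R = R → s ^ 7 = 1 → s ∈ (R : Subgroup S) := by
    intro R s hsR hs
    have hz : IsPGroup 7 (zpowers s) := by
      obtain ⟨i, hi, hi'⟩ := (Nat.dvd_prime_pow (by norm_num : Nat.Prime 7)).mp
        (by rw [pow_one]; exact orderOf_dvd_of_pow_eq_one hs : orderOf s ∣ 7 ^ 1)
      exact IsPGroup.of_card (n := i) (by rw [Nat.card_zpowers, hi'])
    have hle : (R : Subgroup S) ⊔ zpowers s = R := R.3
      (R.2.to_sup_of_normal_left' hz (zpowers_le.2 (Sylow.smul_eq_iff_mem_normalizer.mp hsR)))
      le_sup_left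
    exact hle ▸ mem_sup_right (mem_zpowers s)
  -- the structure of a Sylow subgroup as permutation group
  have main : ∀ P : X, (Nat.card (P : Subgroup S) = 7 ∧
        Subgroup.centralizer ((P : Subgroup S) : Set S) ≤ P) ∨
      ∃ T : Finset S, T.card = 12 ∧ ∀ s : S, s ∈ T ↔
        (s • P = P ∧ s ^ 7 = 1 ∧ (Finset.univ.filter fun R : X => s • R = R).card = 8) := by
    intro P
    have hfixP : ∀ x ∈ (P : Subgroup S), x • P = P := fun x hx =>
      Sylow.smul_eq_iff_mem_normalizer.mpr (le_normalizer hx)
    have horb : ∀ Q : X, Q ≠ P → Nat.card (orbit (P : Subgroup S) Q) = 7 := by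
      intro Q hQ
      obtain ⟨j, hj⟩ := P.2.card_orbit Q
      have hj0 : j ≠ 0 := by
        rintro rfl
        rw [pow_zero, SmallSimple.card_orbit_sylow, Subgroup.index_eq_one,
          subgroupOf_eq_top] at hj
        exact hQ (Sylow.ext (P.3 Q.2 hj))
      have hle : Nat.card (orbit (P : Subgroup S) Q) < 15 := by
        rw [← hn]
        refine lt_of_le_of_ne (Nat.card_le_card_of_injective _ Subtype.val_injective) fun h => ?_
        have hb := (Function.Injective.bijective_of_nat_card_le
          (f := (Subtype.val : orbit (P : Subgroup S) Q → X)) Subtype.val_injective h.ge).2 P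
        obtain ⟨⟨R, ⟨x, rfl⟩⟩, hR⟩ := hb
        apply hQ
        have : x⁻¹ • P = P := hfixP _ (inv_mem x.2)
        rw [← this]
        exact (inv_smul_eq_iff.mpr hR.symm).symm
      have hj1 : j < 2 := by
        by_contra hj2
        have : 7 ^ 2 ≤ 7 ^ j := Nat.pow_le_pow_right (by norm_num) (by omega)
        omega
      rw [hj, show j = 1 by omega, pow_one]
    have hstab : ∀ Q : X, Q ≠ P → (stabilizer (P : Subgroup S) Q).index = 7 := fun Q hQ => by
      refine (index_stabilizer _ Q).trans ?_
      exact (Nat.card_coe_set_eq _).symm.trans (horb Q hQ)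
    have hnorm : ∀ Q : X, (stabilizer (P : Subgroup S) Q).Normal := by
      intro Q
      by_cases hQ : Q = P
      · subst hQ
        rw [show stabilizer (Q : Subgroup S) Q = ⊤ from
          eq_top_iff.mpr fun x _ => hfixP x x.2]
        infer_instance
      · have hcard : Nat.card (P : Subgroup S) ≠ 1 := fun h1 => by
          have := (stabilizer (P : Subgroup S) Q).index_dvd_card
          rw [hstab Q hQ, h1] at this
          omega
        obtain ⟨m, hm⟩ := IsPGroup.iff_card.mp P.2
        refine Subgroup.normal_of_index_eq_minFac_card ?_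
        rw [hstab Q hQ, hm, Nat.Prime.pow_minFac (by norm_num) (fun h => hcard (by rw [hm, h, pow_zero]))]
    have hquo : ∀ (Q : X) (a b : (P : Subgroup S)), a ^ 7 ∈ stabilizer (P : Subgroup S) Q ∧
        a * b * a⁻¹ * b⁻¹ ∈ stabilizer (P : Subgroup S) Q := by
      intro Q a b
      by_cases hQ : Q = P
      · subst hQ
        exact ⟨hfixP _ (a ^ 7 : (Q : Subgroup S)).2, hfixP _ (a * b * a⁻¹ * b⁻¹ : (Q : Subgroup S)).2⟩
      · haveI := hnorm Q
        refine ⟨?_, ?_⟩
        · have h := (stabilizer (P : Subgroup S) Q).pow_index_mem a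
          generalize hd : (stabilizer (P : Subgroup S) Q).index = d at h
          obtain rfl : d = 7 := hd.symm.trans (hstab Q hQ)
          exact h
        rw [← QuotientGroup.eq_one_iff]
        have hcard : Nat.card ((P : Subgroup S) ⧸ stabilizer (P : Subgroup S) Q) = 7 :=
          (Subgroup.index_eq_card _).symm.trans (hstab Q hQ)
        haveI := isCyclic_of_prime_card hcard
        have hcomm := (IsCyclic.commGroup (α :=
          (P : Subgroup S) ⧸ stabilizer (P : Subgroup S) Q)).mul_comm
        simp only [QuotientGroup.mk_mul, QuotientGroup.mk_inv]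
        rw [hcomm (a : (P : Subgroup S) ⧸ stabilizer (P : Subgroup S) Q) b, mul_inv_cancel_right,
          mul_inv_cancel]
    have hexp : ∀ x ∈ (P : Subgroup S), x ^ 7 = 1 := fun x hx =>
      hfaith _ fun R => (hquo R ⟨x, hx⟩ 1).1
    have hcomm : ∀ x ∈ (P : Subgroup S), ∀ y ∈ (P : Subgroup S), x * y = y * x := by
      intro x hx y hy
      have : x * y * x⁻¹ * y⁻¹ = 1 := hfaith _ fun R => (hquo R ⟨x, hx⟩ ⟨y, hy⟩).2
      rw [mul_inv_eq_one] at this
      exact mul_inv_eq_iff_eq_mul.mp this
    -- two orbits
    obtain ⟨Q1, hQ1⟩ : ∃ Q1 : X, Q1 ≠ P := by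
      by_contra hc
      push Not at hc
      have : Subsingleton X := ⟨fun A B => (hc A).trans (hc B).symm⟩
      have := Finite.card_le_one_iff_subsingleton.mpr this
      omega
    set O1 : Finset X := (orbit (P : Subgroup S) Q1).toFinset with hO1
    have hO1c : O1.card = 7 := by
      rw [hO1, Set.toFinset_card, ← Nat.card_eq_fintype_card, horb Q1 hQ1]
    obtain ⟨Q2, hQ2P, hQ2O⟩ : ∃ Q2 : X, Q2 ≠ P ∧ Q2 ∉ O1 := by
      by_contra hc
      push Not at hc
      have : (Finset.univ : Finset X) ⊆ insert P O1 := fun R _ => by
        rw [Finset.mem_insert]; exact or_iff_not_imp_left.mpr (hc R)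
      have := (Finset.card_le_card this).trans (Finset.card_insert_le _ _)
      rw [hO1c, Finset.card_univ, ← Nat.card_eq_fintype_card, hn] at this
      omega
    set O2 : Finset X := (orbit (P : Subgroup S) Q2).toFinset with hO2
    have hO2c : O2.card = 7 := by
      rw [hO2, Set.toFinset_card, ← Nat.card_eq_fintype_card, horb Q2 hQ2P]
    have hPO : ∀ Q : X, Q ≠ P → P ∉ orbit (P : Subgroup S) Q := fun Q hQ h => by
      obtain ⟨x, hx⟩ := h
      exact hQ (((inv_smul_eq_iff.mpr hx.symm).symm.trans (hfixP _ (inv_mem x.2))))
    have hdisj : Disjoint O1 O2 := by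
      rw [Finset.disjoint_left]
      intro R h1 h2
      simp only [hO1, hO2, Set.mem_toFinset] at h1 h2
      apply hQ2O
      rw [hO1, Set.mem_toFinset, ← orbit_eq_iff.mpr h1, orbit_eq_iff.mpr h2]
      exact mem_orbit_self Q2
    have hcover : ∀ R : X, R = P ∨ R ∈ O1 ∨ R ∈ O2 := by
      intro R
      have h : (insert P (O1 ∪ O2)) = Finset.univ := by
        apply Finset.eq_univ_of_card
        rw [Finset.card_insert_of_notMem, Finset.card_union_of_disjoint hdisj, hO1c, hO2c,
          ← Nat.card_eq_fintype_card, hn]
        simp only [Finset.mem_union, hO1, hO2, Set.mem_toFinset, not_or]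
        exact ⟨hPO Q1 hQ1, hPO Q2 hQ2P⟩
      have := h.symm ▸ Finset.mem_univ R
      simpa using this
    set K1 := stabilizer (P : Subgroup S) Q1 with hK1
    set K2 := stabilizer (P : Subgroup S) Q2 with hK2
    -- the stabiliser is constant along an orbit
    have huni : ∀ (Q R : X), R ∈ orbit (P : Subgroup S) Q → ∀ k : (P : Subgroup S),
        (k • R = R ↔ k • Q = Q) := by
      rintro Q R ⟨x, rfl⟩ k
      simp only
      rw [smul_smul, show k * x = x * k from Subtype.ext (hcomm k k.2 x x.2), ← smul_smul,
        smul_left_cancel_iff]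
    have hK12 : ∀ k : (P : Subgroup S), k ∈ K1 → k ∈ K2 → k = 1 := by
      intro k h1 h2
      refine Subtype.ext (hfaith _ fun R => ?_)
      rcases hcover R with rfl | hR | hR
      · exact hfixP _ k.2
      · exact (huni Q1 R (by simpa [hO1] using hR) k).mpr h1
      · exact (huni Q2 R (by simpa [hO2] using hR) k).mpr h2
    have hi1 : K1.index = 7 := hstab Q1 hQ1
    have hi2 : K2.index = 7 := hstab Q2 hQ2P
    have hmul : ∀ (K L : Subgroup (P : Subgroup S)), K ⊓ L = ⊥ → Nat.card K ∣ 7 ^ 1 ∨ L.index ≠ 7 := by
      intro K L hKL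
      by_cases hL : L.index = 7
      · refine Or.inl ?_
        have h1 : L.relIndex K = Nat.card K := by
          rw [← inf_relIndex_left K L, hKL, relIndex_bot_left]
        have h2 : L.relIndex K ≤ 7 := by
          have h3 : L.relIndex K ≤ L.relIndex ⊤ :=
            relIndex_le_of_le_right le_top (by rw [relIndex_top_right, hL]; norm_num)
          rw [relIndex_top_right, hL] at h3
          exact h3
        obtain ⟨i, hi⟩ := IsPGroup.iff_card.mp (P.2.to_subgroup K)
        rw [hi]
        refine Nat.pow_dvd_pow _ ?_
        by_contra hc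
        have : 7 ^ 2 ≤ 7 ^ i := Nat.pow_le_pow_right (by norm_num) (by omega)
        omega
      · exact Or.inr hL
    have hinf : K1 ⊓ K2 = ⊥ := eq_bot_iff.mpr fun k hk => mem_bot.mpr (hK12 k hk.1 hk.2)
    have hc1 : Nat.card K1 ∣ 7 ^ 1 := (hmul K1 K2 hinf).resolve_right (fun h => h hi2)
    obtain ⟨i, hi, hci⟩ := (Nat.dvd_prime_pow (by norm_num : Nat.Prime 7)).mp hc1
    have hPcard : Nat.card (P : Subgroup S) = 7 * 7 ^ i := by
      have h := K1.index_mul_card
      rw [hi1, hci] at h
      exact h.symm
    rcases (by omega : i = 0 ∨ i = 1) with rfl | rfl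
    · -- order 7
      refine Or.inl ⟨by simpa using hPcard, fun c hc => ?_⟩
      have hK1bot : K1 = ⊥ := Subgroup.card_eq_one.mp (by simpa using hci)
      have hcP : c • P = P :=
        Sylow.smul_eq_iff_mem_normalizer.mpr (centralizer_le_normalizer _ hc)
      have hcom : ∀ (d : S), d ∈ Subgroup.centralizer ((P : Subgroup S) : Set S) →
          ∀ (x : (P : Subgroup S)) (R : X), d • (x • R) = x • (d • R) := by
        intro d hd x R
        simp only [Subgroup.smul_def, smul_smul]
        rw [mem_centralizer_iff.mp hd x x.2]
      have hP2 : ∀ (d : S), d • P = P → ∀ R : X, R ≠ P → d • R ≠ P := fun d hd R hR h =>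
        hR (smul_left_cancel d (h.trans hd.symm))
      -- centralising elements mapping Q1 into its orbit lie in P
      have hin : ∀ (d : S), d ∈ Subgroup.centralizer ((P : Subgroup S) : Set S) → d • P = P →
          d • Q1 ∈ O1 → d ∈ (P : Subgroup S) := by
        intro d hd hdP h1
        rw [hO1, Set.mem_toFinset] at h1
        obtain ⟨x, hx⟩ := h1
        set d' : S := (x : S)⁻¹ * d with hd'
        have hd'1 : d' • Q1 = Q1 := by
          rw [hd', ← smul_smul, inv_smul_eq_iff, ← hx]
          rfl
        have hxC : (x : S) ∈ Subgroup.centralizer ((P : Subgroup S) : Set S) :=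
          mem_centralizer_iff.mpr fun y hy => hcomm y hy x x.2
        have hd'C : d' ∈ Subgroup.centralizer ((P : Subgroup S) : Set S) := mul_mem (inv_mem hxC) hd
        have hd'P : d' • P = P := by
          rw [hd', ← smul_smul, hdP]
          exact hfixP _ (inv_mem x.2)
        have hall1 : ∀ R ∈ O1, d' • R = R := by
          intro R hR
          rw [hO1, Set.mem_toFinset] at hR
          obtain ⟨y, rfl⟩ := hR
          simp only
          rw [hcom d' hd'C, hd'1]
        have h2 : d' • Q2 ∈ orbit (P : Subgroup S) Q2 := by
          rcases hcover (d' • Q2) with h | h | h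
          · exact absurd h (hP2 d' hd'P Q2 hQ2P)
          · exfalso
            apply hQ2O
            have := smul_left_cancel d' ((hall1 _ h))
            rwa [this] at h
          · simpa [hO2] using h
        obtain ⟨y, hy⟩ := h2
        simp only at hy
        have hall : ∀ R : X, d' ^ 7 • R = R := by
          intro R
          rcases hcover R with rfl | hR | hR
          · exact (stabilizer S R).pow_mem (show d' ∈ stabilizer S R from hd'P) 7
          · exact (stabilizer S R).pow_mem (show d' ∈ stabilizer S R from hall1 R hR) 7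
          · rw [hO2, Set.mem_toFinset] at hR
            obtain ⟨z, rfl⟩ := hR
            have key : ∀ n : ℕ, d' ^ n • (z • Q2) = (z * y ^ n) • Q2 := by
              intro n
              induction n with
              | zero => simp
              | succ n ih =>
                rw [pow_succ', mul_smul, ih, hcom d' hd'C, ← hy, smul_smul, mul_assoc,
                  ← pow_succ]
            simp only
            rw [key, show y ^ 7 = 1 from Subtype.ext (by simpa using hexp y y.2), mul_one]
        have hd'mem := hmem P d' hd'P (hfaith _ hall)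
        have : (⟨d', hd'mem⟩ : (P : Subgroup S)) ∈ K1 := hd'1
        rw [hK1bot, mem_bot] at this
        have h3 : d' = 1 := congrArg Subtype.val this
        rw [hd', inv_mul_eq_one] at h3
        exact h3 ▸ x.2
      by_contra hcn
      have h1 : c • Q1 ∈ O2 := by
        rcases hcover (c • Q1) with h | h | h
        · exact absurd h (hP2 c hcP Q1 hQ1)
        · exact absurd (hin c hc hcP h) hcn
        · exact h
      have hmapO : ∀ (d : S), d ∈ Subgroup.centralizer ((P : Subgroup S) : Set S) → ∀ (Q R : X),
          R ∈ orbit (P : Subgroup S) Q → d • R ∈ orbit (P : Subgroup S) (d • Q) := by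
        rintro d hd Q R ⟨x, rfl⟩
        exact ⟨x, (hcom d hd x Q).symm⟩
      have horb1 : orbit (P : Subgroup S) (c • Q1) = orbit (P : Subgroup S) Q2 :=
        orbit_eq_iff.mpr (by simpa [hO2] using h1)
      have h2 : c • Q2 ∈ O1 := by
        rcases hcover (c • Q2) with h | h | h
        · exact absurd h (hP2 c hcP Q2 hQ2P)
        · exact h
        · exfalso
          rw [hO2, Set.mem_toFinset, ← horb1] at h
          obtain ⟨x, hx⟩ := h
          simp only at hx
          rw [← hcom c hc] at hx
          apply hQ2O
          rw [hO1, Set.mem_toFinset, ← smul_left_cancel c hx]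
          exact mem_orbit _ _
      have hc2 : c * c ∈ (P : Subgroup S) := by
        refine hin _ (mul_mem hc hc) (by rw [mul_smul, hcP, hcP]) ?_
        rw [mul_smul]
        have h3 : c • Q1 ∈ orbit (P : Subgroup S) Q2 := by simpa [hO2] using h1
        have h4 := hmapO c hc Q2 _ h3
        rw [hO1, Set.mem_toFinset] at h2 ⊢
        exact orbit_eq_iff.mpr h2 ▸ h4
      set t := c * (c * c) ^ 3 with ht
      have htC : t ∈ Subgroup.centralizer ((P : Subgroup S) : Set S) :=
        mul_mem hc (pow_mem (mul_mem hc hc) _)
      have htP : t • P = P := Sylow.smul_eq_iff_mem_normalizer.mpr (centralizer_le_normalizer _ htC)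
      have ht2 : t ^ 2 = 1 := by
        rw [← hexp _ hc2, ht, ← pow_two c, ← pow_mul, ← pow_succ', ← pow_mul, ← pow_mul]
      have hswap : ∀ (Q : X), c • Q ∉ orbit (P : Subgroup S) Q →
          ∀ R ∈ orbit (P : Subgroup S) Q, t • R ≠ R := by
        intro Q hQc R hR heq
        apply hQc
        have h3 : ((c * c) ^ 3) • R ∈ orbit (P : Subgroup S) Q := by
          obtain ⟨x, rfl⟩ := hR
          exact ⟨⟨(c * c) ^ 3, pow_mem hc2 3⟩ * x, mul_smul _ _ _⟩
        have h4 := hmapO c hc Q _ h3
        rw [smul_smul, ← ht, heq] at h4
        rw [← orbit_eq_iff.mpr hR, orbit_eq_iff.mpr h4]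
        exact mem_orbit_self _
      have hsupp : (f t).support = Finset.univ.erase P := by
        ext R
        simp only [Equiv.Perm.mem_support, Finset.mem_erase, Finset.mem_univ, and_true]
        refine ⟨fun h hR => h (hR ▸ htP), fun hR => ?_⟩
        rcases hcover R with h | h | h
        · exact absurd h hR
        · refine hswap Q1 (fun h' => ?_) R (by simpa [hO1] using h)
          exact Finset.disjoint_left.mp hdisj (by simpa [hO1] using h') h1
        · refine hswap Q2 (fun h' => ?_) R (by simpa [hO2] using h)
          exact Finset.disjoint_left.mp hdisj h2 (by simpa [hO2] using h')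
      have hsign := sign_eq_neg_one (f t) (by rw [← map_pow, ht2, map_one])
        (by rw [hsupp, Finset.card_erase_of_mem (Finset.mem_univ _), Finset.card_univ,
          ← Nat.card_eq_fintype_card, hn])
      rw [heven] at hsign
      exact absurd hsign (by decide)
    · -- order 49
      refine Or.inr ?_
      haveI : Fintype S := Fintype.ofFinite S
      set K1' := K1.map (P : Subgroup S).subtype with hK1'
      set K2' := K2.map (P : Subgroup S).subtype with hK2'
      refine ⟨((K1' : Set S).toFinset ∪ (K2' : Set S).toFinset).erase 1, ?_, ?_⟩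
      · have e1 : (K1' : Set S).toFinset.card = 7 := by
          rw [Set.toFinset_card, ← Nat.card_eq_fintype_card, SetLike.coe_sort_coe,
            hK1', card_map_of_injective (Subgroup.subtype_injective _), hci, pow_one]
        have e2 : (K2' : Set S).toFinset.card = 7 := by
          rw [Set.toFinset_card, ← Nat.card_eq_fintype_card, SetLike.coe_sort_coe,
            hK2', card_map_of_injective (Subgroup.subtype_injective _)]
          have := K2.index_mul_card
          rw [hi2, hPcard, pow_one] at this
          omega
        have e3 : (K1' : Set S).toFinset ∩ (K2' : Set S).toFinset = {1} := by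
          ext s
          simp only [Finset.mem_inter, Set.mem_toFinset, SetLike.mem_coe, Finset.mem_singleton]
          refine ⟨?_, fun h => h ▸ ⟨one_mem _, one_mem _⟩⟩
          rintro ⟨⟨a, ha, rfl⟩, ⟨b, hb, hab⟩⟩
          obtain rfl : b = a := Subtype.ext hab
          rw [hK12 b ha hb]; rfl
        have h4 := Finset.card_union_add_card_inter (K1' : Set S).toFinset (K2' : Set S).toFinset
        rw [e1, e2, e3, Finset.card_singleton] at h4
        rw [Finset.card_erase_of_mem (Finset.mem_union_left _ (by simp))]
        omega
      · intro s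
        simp only [Finset.mem_erase, Finset.mem_union, Set.mem_toFinset, SetLike.mem_coe]
        -- fixed points of an element of P
        have hfix : ∀ k : (P : Subgroup S), k ≠ 1 →
            ((Finset.univ.filter fun R : X => (k : S) • R = R).card = 8 ↔ k ∈ K1 ∨ k ∈ K2) := by
          intro k hk
          have hset : (Finset.univ.filter fun R : X => (k : S) • R = R) =
              insert P ((if k ∈ K1 then O1 else ∅) ∪ (if k ∈ K2 then O2 else ∅)) := by
            ext R
            simp only [Finset.mem_filter, Finset.mem_univ, true_and, Finset.mem_insert,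
              Finset.mem_union]
            constructor
            · intro hR
              rcases hcover R with h | h | h
              · exact Or.inl h
              · have : k ∈ K1 := (huni Q1 R (by simpa [hO1] using h) k).mp hR
                exact Or.inr (Or.inl (by rw [if_pos this]; exact h))
              · have : k ∈ K2 := (huni Q2 R (by simpa [hO2] using h) k).mp hR
                exact Or.inr (Or.inr (by rw [if_pos this]; exact h))
            · rintro (rfl | h | h)
              · exact hfixP _ k.2
              · split_ifs at h with h'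
                · exact (huni Q1 R (by simpa [hO1] using h) k).mpr h'
                · simp at h
              · split_ifs at h with h'
                · exact (huni Q2 R (by simpa [hO2] using h) k).mpr h'
                · simp at h
          rw [hset]
          by_cases h1 : k ∈ K1
          · have h2 : k ∉ K2 := fun h2 => hk (hK12 k h1 h2)
            rw [if_pos h1, if_neg h2, Finset.union_empty, Finset.card_insert_of_notMem
              (by simpa [hO1] using hPO Q1 hQ1), hO1c]
            simp [h1]
          · by_cases h2 : k ∈ K2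
            · rw [if_pos h2, if_neg h1, Finset.empty_union, Finset.card_insert_of_notMem
                (by simpa [hO2] using hPO Q2 hQ2P), hO2c]
              simp [h2]
            · rw [if_neg h1, if_neg h2]
              simp [h1, h2]
        constructor
        · rintro ⟨hs1, ⟨k, hk, rfl⟩ | ⟨k, hk, rfl⟩⟩
          all_goals
            have hk1 : k ≠ 1 := fun h => hs1 (by rw [h]; rfl)
            refine ⟨hfixP _ k.2, hexp _ k.2, (hfix k hk1).mpr ?_⟩
          · exact Or.inl hk
          · exact Or.inr hk
        · rintro ⟨hsP, hs7, hs8⟩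
          have hs1 : s ≠ 1 := by
            rintro rfl
            rw [Finset.filter_true_of_mem (fun R _ => one_smul S R), Finset.card_univ,
              ← Nat.card_eq_fintype_card, hn] at hs8
            omega
          have hsmem := hmem P s hsP hs7
          refine ⟨hs1, ?_⟩
          rcases (hfix ⟨s, hsmem⟩ (fun h => hs1 (congrArg Subtype.val h))).mp hs8 with h | h
          · exact Or.inl ⟨_, h, rfl⟩
          · exact Or.inr ⟨_, h, rfl⟩
  have hcards : ∀ A B : X, Nat.card (A : Subgroup S) = Nat.card (B : Subgroup S) := fun A B => by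
    rw [A.card_eq_multiplicity, B.card_eq_multiplicity]
  obtain ⟨P⟩ : Nonempty X := inferInstance
  by_cases h49 : ∀ R : X, ∃ T : Finset S, T.card = 12 ∧ ∀ s : S, s ∈ T ↔
        (s • R = R ∧ s ^ 7 = 1 ∧ (Finset.univ.filter fun R' : X => s • R' = R').card = 8)
  · -- double counting
    haveI : Fintype S := Fintype.ofFinite S
    set T := Finset.univ.filter (fun s : S =>
      s ^ 7 = 1 ∧ (Finset.univ.filter fun R' : X => s • R' = R').card = 8) with hT
    have hrow : ∀ R : X, (T.filter fun s => s • R = R).card = 12 := by
      intro R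
      obtain ⟨U, hU, hUmem⟩ := h49 R
      rw [← hU]
      congr 1
      ext s
      simp only [hT, Finset.mem_filter, Finset.mem_univ, true_and, hUmem]
      tauto
    have hsum := Finset.sum_card_bipartiteAbove_eq_sum_card_bipartiteBelow
      (s := T) (t := (Finset.univ : Finset X)) (fun (s : S) (R : X) => s • R = R)
    simp only [Finset.bipartiteAbove, Finset.bipartiteBelow] at hsum
    rw [Finset.sum_congr rfl (fun R _ => hrow R),
      Finset.sum_congr rfl (g := fun _ => 8) (fun s hs => by
        simp only [hT, Finset.mem_filter] at hs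
        exact hs.2.2)] at hsum
    simp only [Finset.sum_const, smul_eq_mul, Finset.card_univ] at hsum
    rw [← Nat.card_eq_fintype_card, hn] at hsum
    omega
  · push Not at h49
    obtain ⟨R, hR⟩ := h49
    obtain ⟨h7, hCR⟩ : Nat.card (R : Subgroup S) = 7 ∧
        Subgroup.centralizer ((R : Subgroup S) : Set S) ≤ R := by
      rcases main R with h | ⟨T, hT1, hT2⟩
      · exact h
      · exfalso
        obtain ⟨s, hs⟩ := hR T hT1
        have := hT2 s
        tauto
    set N := normalizer ((R : Subgroup S) : Set S) with hN
    set φ := (R : Subgroup S).normalizerMonoidHom with hφ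
    have hker : Nat.card φ.ker = 7 := by
      rw [hφ, normalizerMonoidHom_ker, Coprime.card_subgroupOf (centralizer_le_normalizer _)]
      have hle : (R : Subgroup S) ≤ Subgroup.centralizer ((R : Subgroup S) : Set S) := by
        haveI := isCyclic_of_prime_card h7
        intro x hx
        rw [mem_centralizer_iff]
        intro y hy
        have := (IsCyclic.commGroup (α := (R : Subgroup S))).mul_comm ⟨y, hy⟩ ⟨x, hx⟩
        exact congrArg Subtype.val this
      rw [le_antisymm hCR hle, h7]
    have hrange : Nat.card φ.range ∣ 6 := by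
      haveI := isCyclic_of_prime_card h7
      have h := card_subgroup_dvd_card φ.range
      rw [IsCyclic.card_mulAut, h7, Nat.totient_prime (by norm_num)] at h
      exact h
    have hNcard : Nat.card N = 7 * Nat.card φ.range := by
      have h := Subgroup.card_mul_index φ.ker
      rw [hker, Subgroup.index_ker] at h
      exact h.symm
    have hS : Nat.card S = 105 * Nat.card φ.range := by
      rw [← SmallSimple.card_sylow_mul_card_normalizer R, hn]
      show 15 * Nat.card N = _
      rw [hNcard]
      ring
    exact orders _ hrange hS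

/-- No finite group has exactly 15 Sylow 7-subgroups. -/
theorem result {G : Type*} [Group G] [Finite G] : Nat.card (Sylow 7 G) ≠ 15 := by
  intro h15
  haveI : Fact (Nat.Prime 7) := ⟨by norm_num⟩
  obtain ⟨l, hl, hmem⟩ := Cfsg.Agent.SylowCount.exists_sylow_factorisation (G := G) 7
  have h : ∀ m ∈ l, m = 1 := by
    intro m hm
    have hdvd : m ∣ 15 := h15 ▸ hl ▸ List.dvd_prod hm
    rcases hmem m hm with ⟨hpp, hmod⟩ | ⟨S, _, _, hS, rfl⟩
    · exfalso
      have hle : m ≤ 15 := Nat.le_of_dvd (by norm_num) hdvd
      interval_cases m <;> first | (norm_num at hmod; done) | (norm_num at hdvd; done) | exact not_isPrimePow_one hpp | skip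
      obtain ⟨q, j, hq, -, hj⟩ := (isPrimePow_nat_iff _).mp hpp
      have h3 := (Nat.prime_dvd_prime_iff_eq Nat.prime_three hq).mp
        (Nat.prime_three.dvd_of_dvd_pow (hj ▸ (by norm_num) : 3 ∣ q ^ j))
      have h5 := (Nat.prime_dvd_prime_iff_eq Nat.prime_five hq).mp
        (Nat.prime_five.dvd_of_dvd_pow (hj ▸ (by norm_num) : 5 ∣ q ^ j))
      omega
    · have hmod := card_sylow_modEq_one 7 S
      unfold Nat.ModEq at hmod
      have hle : Nat.card (Sylow 7 S) ≤ 15 := Nat.le_of_dvd (by norm_num) hdvd
      haveI := hS
      by_contra hne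
      have h15' : Nat.card (Sylow 7 S) = 15 := by
        generalize Nat.card (Sylow 7 S) = m at hdvd hmod hle hne
        interval_cases m <;> simp_all
      exact no_simple h15'
  rw [List.prod_eq_one h] at hl
  omega

end Cfsg.Agent.S4304
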