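import Cfsg.Statements.S4305
import Cfsg.Agent.Lib.FittingHeight.SymThree

set_option autoImplicit false
open Cfsg

namespace Cfsg.Agent.S4305

theorem isSymThree :
    FittingHeight.IsSymThree (finRotate 3 : Equiv.Perm (Fin 3)) (Equiv.swap 0 1) :=
  { s3 := by decide
    s1 := by decide
    t2 := by decide
    tst := by decide
    cases := by decide
    pair := fun a b ha hb hab => by
      have key : ∀ p : Equiv.Perm (Fin 3) × Equiv.Perm (Fin 3),
          (p.1 * p.1 = 1 ∧ p.1 * finRotate 3 * p.1 = finRotate 3 * finRotate 3) ∧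
          (p.2 * p.2 = 1 ∧ p.2 * finRotate 3 * p.2 = finRotate 3 * finRotate 3) ∧ p.1 ≠ p.2 →
          p.1 * p.2 = finRotate 3 ∨ p.1 * p.2 = finRotate 3 * finRotate 3 := by decide
      exact key (a, b) ⟨ha, hb, hab⟩ }

/-- Let the symmetric group of degree 3 act by automorphisms on a finite solvable group `G` of order prime to 6, so that only the identity of `G` is fixed by all of it. Then the derived subgroup of `G` is nilpotent. -/
theorem result {G : Type*} [Group G] [Finite G] [Group.IsSolvable G]
    [MulDistribMulAction (Equiv.Perm (Fin 3)) G] (hcop : (Nat.card G).Coprime 6)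
    (hfpf : ∀ g : G, (∀ a : Equiv.Perm (Fin 3), a • g = g) → g = 1) :
    Group.IsNilpotent ↥(commutator G) := by
  classical
  let φ : Equiv.Perm (Fin 3) →* MulAut G := MulDistribMulAction.toMulAut (Equiv.Perm (Fin 3)) G
  have hfix : Coprime.fixedBy φ = ⊥ := by
    rw [Subgroup.eq_bot_iff_forall]
    exact fun x hx => hfpf x hx
  have hc : (Nat.card (Equiv.Perm (Fin 3))).Coprime (Nat.card G) := by
    have h : Nat.card (Equiv.Perm (Fin 3)) = 6 := by
      rw [Nat.card_eq_fintype_card, Fintype.card_perm, Fintype.card_fin]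
      rfl
    rw [h]
    exact hcop.symm
  have hA3 : ∀ p : Equiv.Perm (Fin 3) × Equiv.Perm (Fin 3),
      Equiv.Perm.sign p.1 = 1 ∧ Equiv.Perm.sign p.2 = 1 → p.1 * p.2 = p.2 * p.1 := by decide
  have hs : Group.IsSolvable (Equiv.Perm (Fin 3)) :=
    Group.isSolvable_of_ker_le_range (Equiv.Perm.sign (α := Fin 3)).ker.subtype
      (Equiv.Perm.sign (α := Fin 3)) (by rw [Subgroup.range_subtype])
      (hG' := Group.isSolvable_of_comm fun x y => Subtype.ext (hA3 (x.1, y.1) ⟨x.2, y.2⟩))
      (hG'' := Group.isSolvable_of_comm fun x y => mul_comm x y)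
  obtain ⟨n, rfl, hn⟩ := FittingHeight.hasHeight_of_core (c := fun n => n = 1) hs ⟨1, rfl⟩
    (fun a b ha hb => by subst ha hb; rfl) (FittingHeight.coreProp_symThree isSymThree) φ hc hfix
  have := Components.fittingSubgroup_isNilpotent G
  exact Group.nilpotent_of_mulEquiv (Subgroup.subgroupOfEquivOfLe hn)

end Cfsg.Agent.S4305
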