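import Cfsg.Statements.S4306
import Cfsg.Agent.Lib.FittingHeight.FrobPQCore

set_option autoImplicit false
open Cfsg

namespace Cfsg.Agent.S4306

/-- Let `A` be a non-abelian group of order `pq` with `p, q` distinct primes, acting by automorphisms on a finite solvable group `G` of order prime to `pq`, so that only the identity of `G` is fixed by all of `A`. Then `G` has Fitting height at most 2: there is a normal nilpotent subgroup `F` of `G` with `G/F` nilpotent. -/
theorem result {G A : Type*} [Group G] [Finite G]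
    [Group.IsSolvable G] [Group A] [Finite A] [MulDistribMulAction A G] (p q : ℕ) (hp : p.Prime) (hq : q.Prime) (hpq : p ≠ q)
    (hA : Nat.card A = p * q) (hAna : ¬ IsMulCommutative A) (hcop : (Nat.card G).Coprime (p * q))
    (hfpf : ∀ g : G, (∀ a : A, a • g = g) → g = 1) :
    ∃ F : Subgroup G, ∃ hF : F.Normal, Group.IsNilpotent ↥F ∧ Group.IsNilpotent (G ⧸ F) := by
  classical
  let _ : Fintype A := Fintype.ofFinite A
  obtain ⟨B, b, p', q', hF⟩ : ∃ (B : Subgroup A) (b : A) (p' q' : ℕ),
      FittingHeight.IsFrobPQ B b p' q' := by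
    rcases lt_or_gt_of_ne hpq with h | h
    · obtain ⟨B, b, hB⟩ := FittingHeight.exists_isFrobPQ hp hq h hA hAna
      exact ⟨B, b, p, q, hB⟩
    · obtain ⟨B, b, hB⟩ := FittingHeight.exists_isFrobPQ hq hp h (hA.trans (mul_comm p q)) hAna
      exact ⟨B, b, q, p, hB⟩
  have hc : (Nat.card A).Coprime (Nat.card G) := by rw [hA]; exact hcop.symm
  have hfix : Coprime.fixedBy (MulDistribMulAction.toMulAut A G) = ⊥ := by
    rw [Subgroup.eq_bot_iff_forall]
    exact fun x hx => hfpf x hx
  obtain ⟨n, -, hn⟩ := FittingHeight.hasHeight_of_core (c := fun _ => True) hF.isSolvable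
    ⟨0, trivial⟩ (fun _ _ _ _ => trivial) (FittingHeight.coreProp_frobPQ hF)
    (MulDistribMulAction.toMulAut A G) hc hfix
  have hN : (fittingSubgroup G).Normal := Components.fittingSubgroup_normal G
  refine ⟨fittingSubgroup G, hN, Components.fittingSubgroup_isNilpotent G, ?_⟩
  rw [Subgroup.nilpotent_iff_lowerCentralSeries]
  refine ⟨n, ?_⟩
  rw [← FittingHeight.map_top_lowerCentralSeries (QuotientGroup.mk' (fittingSubgroup G))
    (QuotientGroup.mk'_surjective _), Subgroup.map_eq_bot_iff, QuotientGroup.ker_mk']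
  exact hn

end Cfsg.Agent.S4306
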