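import Cfsg.Statements.S4309
import Cfsg.Agent.Lib.SylowCount.Basic
-- import your own Cfsg.Agent.* helpers here

set_option autoImplicit false
open Cfsg

namespace Cfsg.Agent.S4309

/-- Let `π` be a set of primes, `G` a finite group with a Hall `π`-subgroup `H` (every prime divisor of the order of `H` lies in `π` and no prime of `π` divides its index), and `A` a normal subgroup of `G`. Then `H ∩ A` is a Hall `π`-subgroup of `A` and the image of `H` in `G/A` is a Hall `π`-subgroup of `G/A`. -/
theorem result {G : Type*} [Group G] [Finite G] (π : Set ℕ)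
    (H A : Subgroup G) [A.Normal] (hH : Cfsg.IsPiHall π H) :
    Cfsg.IsPiHall π ((H ⊓ A).subgroupOf A) ∧ Cfsg.IsPiHall π (H.map (QuotientGroup.mk' A)) := by
  have hcard : Nat.card ↥((H ⊓ A).subgroupOf A) ∣ Nat.card H := by
    have e := Subgroup.subgroupOfEquivOfLe (inf_le_right : H ⊓ A ≤ A)
    rw [Nat.card_congr e.toEquiv]
    exact Subgroup.card_dvd_of_le inf_le_left
  refine ⟨⟨fun p hp hd => hH.1 p hp (hd.trans hcard), fun p hp hpπ hd => hH.2 p hp hpπ ?_⟩,
    ⟨fun p hp hd => hH.1 p hp (hd.trans (Subgroup.card_map_dvd _ _)),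
      fun p hp hpπ hd => hH.2 p hp hpπ (hd.trans ?_)⟩⟩
  · have hd' : p ∣ H.relIndex A := by
      rwa [← Subgroup.inf_relIndex_right H A]
    have h1 : H.relIndex (H ⊔ A) = H.relIndex A :=
      Cfsg.Agent.SylowCount.relIndex_self_sup H A
    have h2 : H.relIndex (H ⊔ A) ∣ H.index := Subgroup.relIndex_dvd_index_of_le le_sup_left
    exact hd'.trans (h1 ▸ h2)
  · exact Subgroup.index_map_dvd H (QuotientGroup.mk'_surjective A)

end Cfsg.Agent.S4309
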