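import Cfsg.Statements.S4314
import Mathlib
-- import your own Cfsg.Agent.* helpers here

set_option autoImplicit false
open Cfsg

namespace Cfsg.Agent.S4314

open Subgroup
open scoped commutatorElement

theorem main {G : Type*} [Group G] [Finite G]
    (h : ∀ x : G, (centralizer ({x} : Set G)).index = 1 ∨ ((centralizer ({x} : Set G)).index).Prime) :
    Subgroup.upperCentralSeries G 2 = ⊤ ∨
      ∃ p q : ℕ, p.Prime ∧ q.Prime ∧ p ≠ q ∧ Nat.card (G ⧸ center G) = p * q ∧
        ¬ IsMulCommutative (G ⧸ center G) := by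
  classical
  have hcen : ∀ x : G, (centralizer ({x} : Set G)).index = 1 → x ∈ center G := fun x hx =>
    mem_center_iff.2 fun y =>
      mem_centralizer_singleton_iff.1 ((index_eq_one.1 hx).symm ▸ mem_top y)
  by_cases hall : ∀ x : G, (centralizer ({x} : Set G)).Normal
  · left
    have key : ∀ x a b : G, ⁅a, b⁆ * x = x * ⁅a, b⁆ := by
      intro x a b
      rcases h x with hx | hx
      · exact mem_center_iff.1 (hcen x hx) _
      · haveI := hall x
        haveI : Fact (centralizer ({x} : Set G)).index.Prime := ⟨hx⟩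
        haveI : IsCyclic (G ⧸ centralizer ({x} : Set G)) :=
          isCyclic_of_prime_card (p := (centralizer ({x} : Set G)).index) rfl
        refine mem_centralizer_singleton_iff.1 ((QuotientGroup.eq_one_iff _).1 ?_)
        rw [← QuotientGroup.mk'_apply, map_commutatorElement, commutatorElement_eq_one_iff_mul_comm]
        exact IsMulCommutative.is_comm.comm _ _
    rw [eq_top_iff]
    intro a _
    rw [Subgroup.mem_upperCentralSeries_succ_iff]
    intro b
    rw [Subgroup.upperCentralSeries_one, mem_center_iff]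
    intro x
    exact (key x a b).symm
  right
  push Not at hall
  obtain ⟨x, hxn⟩ := hall
  set H := centralizer ({x} : Set G) with hH
  have hidx : H.index.Prime := (h x).resolve_left fun h1 => hxn (by
    show (centralizer ({x} : Set G)).Normal
    rw [index_eq_one.1 h1]; infer_instance)
  set p := H.index with hp
  haveI : Fact p.Prime := ⟨hidx⟩
  set N := H.normalCore with hN
  have hNH : N ≤ H := H.normalCore_le
  set f := QuotientGroup.mk' N with hf
  have hfs : Function.Surjective f := QuotientGroup.mk'_surjective N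
  have hfker : f.ker = N := QuotientGroup.ker_mk' N
  have hdvd : Nat.card (G ⧸ N) ∣ p.factorial := by
    have e : N.index = Nat.card (MulAction.toPermHom G (G ⧸ H)).range := by
      rw [hN, normalCore_eq_ker, index_ker]
    rw [← index_eq_card, e, hp, index_eq_card, ← Nat.card_perm]
    exact card_subgroup_dvd_card _
  have hpN : p ∣ Nat.card (G ⧸ N) := by rw [← index_eq_card]; exact index_dvd_of_le hNH
  obtain ⟨r, hr⟩ := hpN
  have hr_p : ¬ p ∣ r := fun hd => by
    have h1 : p * p ∣ p.factorial := (mul_dvd_mul_left p hd).trans (hr ▸ hdvd)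
    rw [← Nat.mul_factorial_pred hidx.ne_zero] at h1
    have h2 := (hidx.dvd_factorial).1 (Nat.dvd_of_mul_dvd_mul_left hidx.pos h1)
    have := hidx.one_lt
    omega
  have hrel : N.relIndex H = r := by
    have h1 := relIndex_mul_index hNH
    rw [index_eq_card N, hr, ← hp, mul_comm] at h1
    exact Nat.eq_of_mul_eq_mul_left hidx.pos h1
  obtain ⟨sb, hsb⟩ := exists_prime_orderOf_dvd_card' (G := G ⧸ N) p ⟨r, hr⟩
  obtain ⟨s, rfl⟩ := hfs sb
  have hsH : s ∉ H := by
    intro hs
    refine hr_p ?_
    have h1 : orderOf (f s) ∣ Nat.card (H.map f) := by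
      rw [← orderOf_mk (f s) (mem_map_of_mem f hs)]; exact _root_.orderOf_dvd_natCard _
    rw [hsb, ← relIndex_ker, hfker, hrel] at h1
    exact h1
  let C : G → Subgroup G := fun g => (centralizer ({f g} : Set (G ⧸ N))).comap f
  have hCle : ∀ g, centralizer ({g} : Set G) ≤ C g := fun g v hv =>
    mem_centralizer_singleton_iff.2 (by rw [← map_mul, ← map_mul, mem_centralizer_singleton_iff.1 hv])
  have hCN : ∀ g, N ≤ C g := fun g v hv => mem_centralizer_singleton_iff.2 (by
    rw [show f v = 1 from (QuotientGroup.eq_one_iff v).2 hv, one_mul, mul_one])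
  have hsp : s ^ p ∈ N := by
    rw [← hfker, MonoidHom.mem_ker, map_pow, ← hsb, pow_orderOf_eq_one]
  have hCH : C s ⊓ H ≤ N := by
    intro v hv
    obtain ⟨hv1, hv2⟩ := mem_inf.1 hv
    have hc : Commute (f v) (f s) := mem_centralizer_singleton_iff.1 hv1
    -- the cosets `sⁱH` are all cosets of `H`
    have hinj : Function.Injective (fun i : Fin p => ((s ^ (i : ℕ) : G) : G ⧸ H)) := by
      intro i j hij
      rcases lt_trichotomy (i : ℕ) j with hlt | heq | hlt
      · exfalso
        refine hsH ?_
        have h1 : s ^ ((j : ℕ) - i) ∈ H := by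
          have := QuotientGroup.eq.1 hij
          rw [pow_sub _ hlt.le]
          rw [show (s ^ (j : ℕ)) * (s ^ (i : ℕ))⁻¹ = (s ^ (i : ℕ))⁻¹ * s ^ (j : ℕ) from
            (((Commute.refl s).pow_pow j i).inv_right).eq]
          exact this
        have hnd : ¬ p ∣ ((j : ℕ) - i) := fun hd => by
          have := Nat.le_of_dvd (by omega) hd; omega
        obtain ⟨a, b, hab⟩ := Int.isCoprime_iff_gcd_eq_one.2
          (show Int.gcd (((j : ℕ) - i : ℕ) : ℤ) (p : ℤ) = 1 by
            rw [Int.gcd_natCast_natCast]; exact (hidx.coprime_iff_not_dvd.2 hnd).symm)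
        have h2 : s ^ (a * (((j : ℕ) - i : ℕ) : ℤ) + b * (p : ℤ)) ∈ H := by
          rw [zpow_add, mul_comm a, mul_comm b, zpow_mul, zpow_mul, zpow_natCast, zpow_natCast]
          exact mul_mem (zpow_mem h1 _) (zpow_mem (hNH hsp) _)
        rwa [hab, zpow_one] at h2
      · exact Fin.ext heq
      · exfalso
        refine hsH ?_
        have h1 : s ^ ((i : ℕ) - j) ∈ H := by
          have := QuotientGroup.eq.1 hij.symm
          rw [pow_sub _ hlt.le]
          rw [show (s ^ (i : ℕ)) * (s ^ (j : ℕ))⁻¹ = (s ^ (j : ℕ))⁻¹ * s ^ (i : ℕ) from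
            (((Commute.refl s).pow_pow i j).inv_right).eq]
          exact this
        have hnd : ¬ p ∣ ((i : ℕ) - j) := fun hd => by
          have := Nat.le_of_dvd (by omega) hd; omega
        obtain ⟨a, b, hab⟩ := Int.isCoprime_iff_gcd_eq_one.2
          (show Int.gcd (((i : ℕ) - j : ℕ) : ℤ) (p : ℤ) = 1 by
            rw [Int.gcd_natCast_natCast]; exact (hidx.coprime_iff_not_dvd.2 hnd).symm)
        have h2 : s ^ (a * (((i : ℕ) - j : ℕ) : ℤ) + b * (p : ℤ)) ∈ H := by
          rw [zpow_add, mul_comm a, mul_comm b, zpow_mul, zpow_mul, zpow_natCast, zpow_natCast]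
          exact mul_mem (zpow_mem h1 _) (zpow_mem (hNH hsp) _)
        rwa [hab, zpow_one] at h2
    have hsurj := (hinj.bijective_of_nat_card_le (by rw [Nat.card_fin, ← index_eq_card])).2
    rw [hN, normalCore_eq_ker, MonoidHom.mem_ker]
    refine Equiv.ext fun c => ?_
    obtain ⟨i, rfl⟩ := hsurj c
    show ((v * s ^ (i : ℕ) : G) : G ⧸ H) = ((s ^ (i : ℕ) : G) : G ⧸ H)
    refine QuotientGroup.eq.2 ?_
    have h3 : ((v * s ^ (i : ℕ))⁻¹ * s ^ (i : ℕ)) * v ∈ N := by
      rw [← hfker, MonoidHom.mem_ker, map_mul, map_mul, map_inv, map_mul, map_pow, mul_inv_rev,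
        mul_assoc, mul_assoc, ← (hc.pow_right (i : ℕ)).eq, inv_mul_cancel_left, inv_mul_cancel]
    exact (H.mul_mem_cancel_right hv2).1 (hNH h3)
  have hCs : (C s).index = r := by
    have h1 : Nat.card (C s) ≤ Nat.card N * p := by
      rw [← card_mul_index (H.subgroupOf (C s))]
      refine Nat.mul_le_mul ?_ ?_
      · rw [← inf_subgroupOf_left, Nat.card_congr (subgroupOfEquivOfLe (inf_le_left : C s ⊓ H ≤ C s)).toEquiv]
        exact card_le_of_le hCH
      · calc (H.subgroupOf (C s)).index = H.relIndex (C s) := rfl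
          _ ≤ H.relIndex ⊤ := relIndex_le_of_le_right le_top (by rw [relIndex_top_right, ← hp]; exact hidx.ne_zero)
          _ = p := by rw [relIndex_top_right]
    have h2 : Nat.card (C s) = Nat.card N * p := by
      refine le_antisymm h1 ?_
      rw [← card_mul_index (N.subgroupOf (C s)), Nat.card_congr (subgroupOfEquivOfLe (hCN s)).toEquiv]
      refine Nat.mul_le_mul_left _ (Nat.le_of_dvd (Nat.pos_of_ne_zero index_ne_zero_of_finite) ?_)
      rw [← hsb]
      have : f s ∈ (C s).map f := mem_map_of_mem f (mem_centralizer_singleton_iff.2 rfl)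
      rw [show (N.subgroupOf (C s)).index = N.relIndex (C s) from rfl]
      conv_rhs => rw [← hfker, relIndex_ker]
      rw [← orderOf_mk (f s) this]
      exact _root_.orderOf_dvd_natCard _
    have h3 := card_mul_index (C s)
    rw [h2, ← card_mul_index N, index_eq_card N, hr, mul_assoc] at h3
    exact Nat.eq_of_mul_eq_mul_left hidx.pos (Nat.eq_of_mul_eq_mul_left Nat.card_pos h3)
  have hr1 : r ≠ 1 := fun h1 => hxn (by
    rw [h1] at hrel
    have : H ≤ N := relIndex_eq_one.1 hrel
    show H.Normal
    rw [le_antisymm this hNH]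
    infer_instance)
  have hrprime : r.Prime := by
    have hd : r ∣ (centralizer ({s} : Set G)).index := hCs ▸ index_dvd_of_le (hCle s)
    rcases h s with h1 | h1
    · rw [h1] at hd; exact absurd (Nat.dvd_one.1 hd) hr1
    · exact ((Nat.dvd_prime h1).1 hd).resolve_left hr1 ▸ h1
  have hrp : p ≠ r := fun e => hr_p (e ▸ dvd_rfl)
  -- the quotient is not abelian
  have hnab : ¬ IsMulCommutative (G ⧸ N) := by
    intro hab
    refine hxn ?_
    have e : H = (H.map f).comap f := by
      rw [comap_map_eq, hfker, sup_eq_left.2 hNH]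
    show H.Normal
    rw [e]
    haveI : (H.map f).Normal := ⟨fun n hn g => by
      rw [hab.is_comm.comm g n, mul_inv_cancel_right]; exact hn⟩
    infer_instance
  haveI : Fact r.Prime := ⟨hrprime⟩
  have htriv : center (G ⧸ N) = ⊥ := by
    by_contra hne
    refine hnab ?_
    have h1 : Nat.card (center (G ⧸ N)) * (center (G ⧸ N)).index = p * r := by
      rw [card_mul_index, hr]
    have hcyc : IsCyclic ((G ⧸ N) ⧸ center (G ⧸ N)) := by
      have hd : (center (G ⧸ N)).index ∣ p * r := ⟨_, h1.symm.trans (mul_comm _ _)⟩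
      obtain ⟨a, b, ha, hb, hab⟩ := exists_dvd_and_dvd_of_dvd_mul hd
      rcases (Nat.dvd_prime hidx).1 ha with ea | ea <;>
        rcases (Nat.dvd_prime hrprime).1 hb with eb | eb <;> rw [ea, eb] at hab
      · haveI : Subsingleton ((G ⧸ N) ⧸ center (G ⧸ N)) :=
          (Nat.card_eq_one_iff_unique.1 (by rw [← index_eq_card, hab, one_mul])).1
        infer_instance
      · exact isCyclic_of_prime_card (p := r) (by rw [← index_eq_card, hab, one_mul])
      · exact isCyclic_of_prime_card (p := p) (by rw [← index_eq_card, hab, mul_one])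
      · rw [hab] at h1
        exact absurd ((mul_eq_right₀ (mul_ne_zero hidx.ne_zero hrprime.ne_zero)).1 h1)
          (fun h2 => hne (Subgroup.card_eq_one.1 h2))
    exact ⟨⟨commutative_of_cyclic_center_quotient (QuotientGroup.mk' (center (G ⧸ N)))
      (by rw [QuotientGroup.ker_mk'])⟩⟩
  have hgN : ∀ g : G, g ∉ N → N ≤ centralizer ({g} : Set G) := by
    intro g hg
    have hd : (C g).index ∣ (centralizer ({g} : Set G)).index := index_dvd_of_le (hCle g)
    have hne : C g ≠ ⊤ := by
      intro ht
      refine hg ?_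
      rw [← hfker, MonoidHom.mem_ker, ← mem_bot, ← htriv, mem_center_iff]
      intro v
      obtain ⟨v, rfl⟩ := hfs v
      exact mem_centralizer_singleton_iff.1 (show v ∈ C g from ht ▸ mem_top v)
    rcases h g with h1 | h1
    · rw [h1] at hd
      exact absurd (index_eq_one.1 (Nat.dvd_one.1 hd)) hne
    · have h2 : (C g).index = (centralizer ({g} : Set G)).index :=
        ((Nat.dvd_prime h1).1 hd).resolve_left fun h3 => hne (index_eq_one.1 h3)
      have h3 := card_mul_index (C g)
      rw [h2, ← card_mul_index (centralizer ({g} : Set G))] at h3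
      have h4 := Nat.eq_of_mul_eq_mul_right (Nat.pos_of_ne_zero h1.ne_zero) h3
      rw [eq_of_le_of_card_ge (hCle g) h4.le]
      exact hCN g
  have hNne : N ≠ ⊤ := fun e => hidx.ne_one (index_eq_one.2 (top_le_iff.1 (e.ge.trans hNH)))
  have hZ : N = center G := by
    refine le_antisymm (fun v hv => mem_center_iff.2 fun g => ?_)
      (normal_le_normalCore.2 fun v hv => mem_centralizer_singleton_iff.2 (mem_center_iff.1 hv x).symm)
    by_cases hg : g ∈ N
    · obtain ⟨t, ht⟩ : ∃ t, t ∉ N := by
        by_contra hcon; push Not at hcon; exact hNne (eq_top_iff.2 fun v _ => hcon v)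
      have hgt : g * t ∉ N := fun hm => ht ((N.mul_mem_cancel_left hg).1 hm)
      have e1 : Commute v (g * t) := mem_centralizer_singleton_iff.1 (hgN _ hgt hv)
      have e2 : Commute v t := mem_centralizer_singleton_iff.1 (hgN _ ht hv)
      rw [show g = g * t * t⁻¹ by group]
      exact (e1.mul_right e2.inv_right).eq.symm
    · exact (mem_centralizer_singleton_iff.1 (hgN g hg hv)).symm
  refine ⟨p, r, hidx, hrprime, hrp, ?_, ?_⟩
  · rw [← index_eq_card, ← hZ, index_eq_card, hr]
  · intro hab
    refine hnab ?_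
    exact ⟨⟨fun a b => by
      obtain ⟨a, rfl⟩ := hfs a
      obtain ⟨b, rfl⟩ := hfs b
      have h1 : (⁅a, b⁆ : G) ∈ center G := by
        rw [← QuotientGroup.eq_one_iff, ← QuotientGroup.mk'_apply, map_commutatorElement,
          commutatorElement_eq_one_iff_mul_comm]
        exact hab.is_comm.comm _ _
      rw [← commutatorElement_eq_one_iff_mul_comm, ← map_commutatorElement]
      exact (QuotientGroup.eq_one_iff _).2 (hZ ▸ h1)⟩⟩


/-- Let `G` be a finite group every conjugacy class of which has size 1 or a prime. Then either `G` is nilpotent of class at most 2, or `G/Z(G)` is a non-abelian group of order `pq` for distinct primes `p, q` (a Frobenius group of order `pq`). -/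
theorem result {G : Type*} [Group G] [Finite G]
    (h : ∀ x : G, (Subgroup.centralizer ({x} : Set G)).index = 1 ∨ ((Subgroup.centralizer ({x} : Set G)).index).Prime) :
    Subgroup.upperCentralSeries G 2 = ⊤ ∨
      ∃ p q : ℕ, p.Prime ∧ q.Prime ∧ p ≠ q ∧ Nat.card (G ⧸ Subgroup.center G) = p * q ∧ ¬ IsMulCommutative (G ⧸ Subgroup.center G) := by
  exact main h

end Cfsg.Agent.S4314
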