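import Cfsg.Statements.S4316
import Cfsg.Agent.Lib.Coprime.DerivedBound

set_option autoImplicit false
universe u
open Cfsg

namespace Cfsg.Agent.S4316

/-- There is a function `f` of two natural-number arguments with the following property. Let `q` be a prime and `A` an elementary abelian group of order `q³` acting by automorphisms on a finite group `G` of order prime to `q`, and suppose that for every non-identity `a ∈ A` the derived subgroup of the fixed-point subgroup `C_G(a)` has order at most `m`. Then the derived subgroup of `G` has order at most `f(q, m)`. -/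
theorem result :
    ∃ f : ℕ → ℕ → ℕ, ∀ (q m : ℕ) (A G : Type u) [Group A] [Finite A] [Group G] [Finite G] [MulDistribMulAction A G],
      q.Prime → Nat.card A = q ^ 3 → (∀ a b : A, a * b = b * a) → (∀ a : A, a ^ q = 1) → ¬ q ∣ Nat.card G →
      (∀ a : A, a ≠ 1 → Nat.card ↥(commutator ↥(FixedPoints.subgroup (Subgroup.zpowers a) G)) ≤ m) →
      Nat.card ↥(commutator G) ≤ f q m := by
  refine ⟨fun q m => Coprime.derivedBound (q ^ 3 * m) ((m ^ q ^ 3) ^ 2 ^ q ^ 3) m, ?_⟩
  intro q m A G _ _ _ _ _ hq hA hAc hAe hqG hm
  let φ : A →* MulAut G := MulDistribMulAction.toMulAut A G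
  have := Coprime.finite_semidirectProduct φ
  let Γ := G ⋊[φ] A
  let iG : G →* Γ := SemidirectProduct.inl
  let iA : A →* Γ := SemidirectProduct.inr
  have : IsMulCommutative iA.range := ⟨⟨by
    rintro ⟨-, a, rfl⟩ ⟨-, b, rfl⟩
    exact Subtype.ext (by simp only [Subgroup.coe_mul, ← map_mul, hAc a b])⟩⟩
  have hAe' : ∀ x ∈ iA.range, x ^ q = 1 := by
    rintro _ ⟨a, rfl⟩
    rw [← map_pow, hAe, map_one]
  have hcop : (Nat.card A).Coprime (Nat.card G) := by
    rw [hA]
    exact (hq.coprime_iff_not_dvd.2 hqG).pow_left 3
  have h := Coprime.card_commutator_le_of_fixed (A := iA.range) (K := iG.range) hq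
    (by rw [Coprime.card_inr_range, hA]) hAe' (Coprime.inr_range_le_normalizer_inl_range φ)
    (Coprime.coprime_inr_inl φ hcop) (m := m) (by
      rintro _ ⟨a, rfl⟩ ha1
      have hfix : iG.range ⊓ Subgroup.centralizer {iA a} =
          (FixedPoints.subgroup (Subgroup.zpowers a) G).map iG := by
        have key : ∀ k : G, iA a * iG k = iG k * iA a ↔ a • k = k := by
          intro k
          rw [← mul_inv_eq_iff_eq_mul, ← map_inv, ← SemidirectProduct.inl_aut,
            SemidirectProduct.inl_inj]
          rfl
        ext x
        constructor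
        · rintro ⟨⟨k, rfl⟩, hk⟩
          refine ⟨k, ?_, rfl⟩
          have hk' : a • k = k :=
            (key k).1 (Subgroup.mem_centralizer_singleton_iff.1 hk).symm
          rintro ⟨b, hb⟩
          show b • k = k
          exact MulAction.mem_stabilizer_iff.1
            ((Subgroup.zpowers_le.2 (show a ∈ MulAction.stabilizer A k from hk')) hb)
        · rintro ⟨k, hk, rfl⟩
          refine ⟨⟨k, rfl⟩, Subgroup.mem_centralizer_singleton_iff.2 ((key k).2 ?_).symm⟩
          exact hk ⟨a, Subgroup.mem_zpowers a⟩
      rw [hfix, ← Subgroup.map_commutator,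
        Subgroup.card_map_of_injective SemidirectProduct.inl_injective,
        ← Subgroup.map_subtype_commutator, Subgroup.card_subtype]
      exact hm a fun h => ha1 (by rw [h, map_one]))
  rwa [MonoidHom.range_eq_map iG, ← Subgroup.map_commutator,
    Subgroup.card_map_of_injective SemidirectProduct.inl_injective] at h

end Cfsg.Agent.S4316
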