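import Cfsg.Statements.S4320
import Mathlib

set_option autoImplicit false
open Cfsg

namespace Cfsg.Agent.S4320

/-
Proof of the principal ideal theorem: in the module `T` spanned by the symbols `g - 1` with
coefficients in `Z[G/G']`, the determinant of a relation matrix kills everything, and it is `±` the
sum of the elements of `G/G'`; this sum acts on `g - 1` as the transfer.
-/

open Subgroup

section

variable (G : Type*) [Group G]

/-- The target of the transfer, written additively. -/
abbrev Tgt := Additive (Abelianization (commutator G))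

/-- The integral group ring of `G / G'`. -/
abbrev Rg := MonoidAlgebra ℤ (Abelianization G)

variable {G}

theorem of_surj : Function.Surjective (Abelianization.of (G := G)) := QuotientGroup.mk_surjective

/-- A section of `G → G / G'` preserving `1`. -/
noncomputable def sec (q : Abelianization G) : G :=
  Function.surjInv of_surj q *
    (Function.surjInv (of_surj (G := G)) 1)⁻¹

theorem of_sec (q : Abelianization G) : Abelianization.of (sec q) = q := by
  rw [sec, map_mul, map_inv, Function.surjInv_eq of_surj,
    Function.surjInv_eq of_surj, inv_one, mul_one]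

theorem sec_one : sec (1 : Abelianization G) = 1 := mul_inv_cancel _

theorem mem_commutator_of_eq {g h : G} (e : Abelianization.of g = Abelianization.of h) :
    g * h⁻¹ ∈ commutator G := by
  refine (QuotientGroup.eq_one_iff _).1 ?_
  show Abelianization.of (g * h⁻¹) = 1
  rw [map_mul, map_inv, e, mul_inv_cancel]

/-- The `G'`-component of an element, in the abelianization of `G'`. -/
noncomputable def al (g : G) : Tgt G :=
  Additive.ofMul (Abelianization.of
    ⟨g * (sec (Abelianization.of g))⁻¹, mem_commutator_of_eq (of_sec _).symm⟩)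

theorem al_sec (q : Abelianization G) : al (sec q) = 0 := by
  have h : (⟨sec q * (sec (Abelianization.of (sec q)))⁻¹, mem_commutator_of_eq (of_sec _).symm⟩ :
      commutator G) = 1 := Subtype.ext (by
    show sec q * (sec (Abelianization.of (sec q)))⁻¹ = 1
    rw [of_sec, mul_inv_cancel])
  rw [al, h, map_one]
  rfl

/-- Conjugation on the target. -/
noncomputable def act (q : Abelianization G) : Tgt G →+ Tgt G :=
  MonoidHom.toAdditive
    (Abelianization.map (MulAut.conjNormal (H := commutator G) (sec q)).toMonoidHom)

theorem al_mul (g h : G) : al (g * h) = al g + act (Abelianization.of g) (al h) +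
    al (sec (Abelianization.of g) * sec (Abelianization.of h)) := by
  show Additive.ofMul (Abelianization.of _) =
    Additive.ofMul (Abelianization.of _) + Additive.ofMul (Abelianization.of _) +
      Additive.ofMul (Abelianization.of _)
  rw [← ofMul_mul, ← ofMul_mul, ← map_mul, ← map_mul]
  refine congrArg Additive.ofMul (congrArg _ (Subtype.ext ?_))
  simp only [MulEquiv.coe_toMonoidHom, Subgroup.coe_mul, MulAut.conjNormal_apply, map_mul, of_sec]
  group

/-- The symbol `g - 1`. -/
noncomputable def sym (g : G) : Tgt G × Rg G :=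
  (al g, MonoidAlgebra.of ℤ _ (Abelianization.of g) - 1)

/-- The action of `G / G'` on pairs. -/
noncomputable def rho (q : Abelianization G) : Tgt G × Rg G →+ Tgt G × Rg G where
  toFun x := (act q x.1 + Finsupp.linearCombination ℤ (fun w => al (sec q * sec w)) x.2.coeff,
    MonoidAlgebra.of ℤ _ q * x.2)
  map_zero' := by simp
  map_add' x y := by
    simp only [Prod.fst_add, Prod.snd_add, map_add, MonoidAlgebra.coeff_add, mul_add,
      Prod.mk_add_mk, Prod.mk.injEq]
    exact ⟨by abel, trivial⟩

theorem rho_sym (g h : G) : rho (Abelianization.of g) (sym h) = sym (g * h) - sym g := by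
  refine Prod.ext ?_ ?_
  · show act _ (al h) + Finsupp.linearCombination ℤ
      (fun w => al (sec (Abelianization.of g) * sec w))
        (MonoidAlgebra.of ℤ _ (Abelianization.of h) - 1 : Rg G).coeff = al (g * h) - al g
    rw [MonoidAlgebra.coeff_sub, map_sub, MonoidAlgebra.of_apply, MonoidAlgebra.coeff_single,
      MonoidAlgebra.one_def, MonoidAlgebra.coeff_single, Finsupp.linearCombination_single,
      Finsupp.linearCombination_single, one_smul, one_smul, sec_one, mul_one, al_sec, sub_zero,
      al_mul g h]
    abel
  · show MonoidAlgebra.of ℤ _ (Abelianization.of g) *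
        (MonoidAlgebra.of ℤ _ (Abelianization.of h) - 1) =
      (MonoidAlgebra.of ℤ _ (Abelianization.of (g * h)) - 1) -
        (MonoidAlgebra.of ℤ _ (Abelianization.of g) - 1)
    rw [map_mul, map_mul]
    ring

variable (G) in
/-- The module spanned by the symbols. -/
noncomputable def symSub : AddSubgroup (Tgt G × Rg G) :=
  AddSubgroup.closure (Set.range (sym (G := G)))

theorem rho_mem (q : Abelianization G) {x : Tgt G × Rg G} (hx : x ∈ symSub G) :
    rho q x ∈ symSub G := by
  refine (AddSubgroup.closure_le (K := (symSub G).comap (rho q))).2 ?_ hx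
  rintro _ ⟨h, rfl⟩
  show rho q (sym h) ∈ symSub G
  rw [← of_sec q, rho_sym]
  exact sub_mem (AddSubgroup.subset_closure ⟨_, rfl⟩) (AddSubgroup.subset_closure ⟨_, rfl⟩)

theorem rho_mul_sym (q q' : Abelianization G) (x : Tgt G × Rg G) (hx : x ∈ symSub G) :
    rho (q * q') x = rho q (rho q' x) := by
  refine (AddSubgroup.closure_le
    (K := AddMonoidHom.eqLocus (rho (q * q')) ((rho q).comp (rho q')))).2 ?_ hx
  rintro _ ⟨h, rfl⟩
  show rho (q * q') (sym h) = rho q (rho q' (sym h))
  rw [← of_sec q, ← of_sec q', ← map_mul, rho_sym, rho_sym, map_sub, rho_sym, rho_sym, mul_assoc]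
  abel

theorem rho_one_sym (x : Tgt G × Rg G) (hx : x ∈ symSub G) : rho 1 x = x := by
  refine (AddSubgroup.closure_le (K := AddMonoidHom.eqLocus (rho 1) (AddMonoidHom.id _))).2 ?_ hx
  rintro _ ⟨h, rfl⟩
  show rho 1 (sym h) = sym h
  rw [← map_one (Abelianization.of (G := G)), rho_sym, one_mul, sub_eq_self]
  refine Prod.ext ?_ ?_
  · show al (1 : G) = 0
    rw [← sec_one, al_sec]
  · show MonoidAlgebra.of ℤ _ (Abelianization.of (1 : G)) - 1 = 0
    rw [map_one, map_one, sub_self]

/-- The action on the module. -/
noncomputable def rhoT : Abelianization G →* AddMonoid.End (symSub G) where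
  toFun q := ((rho q).comp (symSub G).subtype).codRestrict (symSub G) fun x => rho_mem q x.2
  map_one' := AddMonoidHom.ext fun x => Subtype.ext (rho_one_sym _ x.2)
  map_mul' q q' := AddMonoidHom.ext fun x => Subtype.ext (rho_mul_sym q q' _ x.2)

noncomputable local instance symModule : Module (Rg G) (symSub G) :=
  Module.compHom _ (MonoidAlgebra.lift ℤ (AddMonoid.End (symSub G)) _ (rhoT (G := G))).toRingHom

theorem of_smul (q : Abelianization G) (x : symSub G) :
    ((MonoidAlgebra.of ℤ _ q • x : symSub G) : Tgt G × Rg G) = rho q x := by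
  show ((MonoidAlgebra.lift ℤ (AddMonoid.End (symSub G)) _ (rhoT (G := G))
    (MonoidAlgebra.of ℤ _ q)) x : Tgt G × Rg G) = _
  rw [MonoidAlgebra.lift_of]
  rfl

theorem snd_smul (r : Rg G) (x : symSub G) :
    ((r • x : symSub G) : Tgt G × Rg G).2 = r * (x : Tgt G × Rg G).2 := by
  induction r using MonoidAlgebra.induction_on with
  | of q => rw [of_smul]; rfl
  | add r r' h h' => rw [add_smul, AddSubgroup.coe_add, Prod.snd_add, h, h', add_mul]
  | smul n r h =>
    rw [← Int.cast_smul_eq_zsmul (Rg G) n r, smul_eq_mul, mul_smul, Int.cast_smul_eq_zsmul,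
      AddSubgroup.coe_zsmul, Prod.smul_snd, h, zsmul_eq_mul, mul_assoc]

/-- The symbol in the module. -/
noncomputable def symT (g : G) : symSub G := ⟨sym g, AddSubgroup.subset_closure ⟨g, rfl⟩⟩

theorem of_smul_symT (g h : G) :
    MonoidAlgebra.of ℤ _ (Abelianization.of g) • symT h = symT (g * h) - symT g :=
  Subtype.ext ((of_smul _ _).trans (rho_sym g h))

variable [Finite G]

/-- The norm kills the symbols. -/
theorem sum_al_eq_zero [Fintype (Abelianization G)] (g : G) :
    ∑ q : Abelianization G, al (sec q * g) = 0 := by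
  classical
  have := Fintype.ofFinite G
  let ε : Rg G →+* ℤ := (MonoidAlgebra.lift ℤ ℤ (Abelianization G) 1).toRingHom
  have hε : ∀ q, ε (MonoidAlgebra.of ℤ _ q) = 1 := fun q => MonoidAlgebra.lift_of _ q
  -- elements of augmentation zero
  let W : AddSubgroup (symSub G) :=
    { carrier := {x | ∃ r : G → Rg G, (∀ g, ε (r g) = 0) ∧ x = ∑ g, r g • symT g}
      zero_mem' := ⟨0, by simp, by simp⟩
      add_mem' := by
        rintro _ _ ⟨r, hr, rfl⟩ ⟨r', hr', rfl⟩
        exact ⟨r + r', fun g => by simp [hr g, hr' g], by simp [add_smul, Finset.sum_add_distrib]⟩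
      neg_mem' := by
        rintro _ ⟨r, hr, rfl⟩
        exact ⟨-r, fun g => by simp [hr g], by simp⟩ }
  let ψ : G →* Multiplicative (symSub G ⧸ W) :=
    MonoidHom.mk' (fun g => Multiplicative.ofAdd (QuotientAddGroup.mk' W (symT g))) fun a b => by
      rw [← ofAdd_add, ← map_add]
      refine congrArg _ ?_
      rw [← sub_eq_zero, ← map_sub, QuotientAddGroup.mk'_apply, QuotientAddGroup.eq_zero_iff]
      refine ⟨Pi.single b (MonoidAlgebra.of ℤ _ (Abelianization.of a) - 1), fun c => ?_, ?_⟩
      · rcases eq_or_ne c b with rfl | hc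
        · rw [Pi.single_eq_same, map_sub, hε, map_one, sub_self]
        · rw [Pi.single_eq_of_ne hc, map_zero]
      · rw [Finset.sum_eq_single b, Pi.single_eq_same, sub_smul, one_smul, of_smul_symT]
        · abel
        · intro c _ hc; rw [Pi.single_eq_of_ne hc, zero_smul]
        · exact fun h => absurd (Finset.mem_univ b) h
  -- the lattice of relations
  let φ : (G → ℤ) →ₗ[ℤ] Additive (Abelianization G) :=
    Fintype.linearCombination ℤ (fun g => Additive.ofMul (Abelianization.of g))
  have hφ : Function.Surjective φ := fun q => by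
    obtain ⟨g, hg⟩ := of_surj q.toMul
    refine ⟨Pi.single g 1, ?_⟩
    show Fintype.linearCombination ℤ _ _ = q
    rw [Fintype.linearCombination_apply_single, one_smul, hg]
    rfl
  have hrank : Module.finrank ℤ (LinearMap.ker φ) = Fintype.card G := by
    refine le_antisymm ((Submodule.finrank_le _).trans (Module.finrank_fintype_fun_eq_card ℤ).le) ?_
    let N : ℤ := (Nat.card (Abelianization G) : ℤ)
    have hN : ∀ x, N • x ∈ LinearMap.ker φ := fun x => by
      rw [LinearMap.mem_ker, map_smul, natCast_zsmul]
      exact card_nsmul_eq_zero'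
    calc Fintype.card G = Module.finrank ℤ (G → ℤ) := (Module.finrank_fintype_fun_eq_card ℤ).symm
      _ ≤ _ := LinearMap.finrank_le_finrank_of_injective
        (f := (N • LinearMap.id).codRestrict (LinearMap.ker φ) hN) fun x y h => by
          have h' : N • x = N • y := congrArg Subtype.val h
          exact smul_right_injective (G → ℤ) (Int.natCast_ne_zero.2 Nat.card_pos.ne') h'
  let bL : Module.Basis G ℤ (LinearMap.ker φ) :=
    (Module.finBasisOfFinrankEq ℤ _ hrank).reindex (Fintype.equivFin G).symm
  -- the relation matrix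
  have hrel : ∀ i, ∃ r : G → Rg G, (∀ c, ε (r c) = 0) ∧
      ∑ c, (bL i : G → ℤ) c • symT c = ∑ c, r c • symT c := fun i => by
    have h1 : QuotientAddGroup.mk' W (∑ c, (bL i : G → ℤ) c • symT c) = 0 := by
      let ψ' : Additive (Abelianization G) →+ (symSub G ⧸ W) :=
        MonoidHom.toAdditiveLeft (Abelianization.lift ψ)
      have h2 : ψ' (φ (bL i)) = 0 := by rw [LinearMap.mem_ker.1 (bL i).2, map_zero]
      rw [show φ (bL i) = ∑ c, (bL i : G → ℤ) c • Additive.ofMul (Abelianization.of c) from
        Fintype.linearCombination_apply _ _ _, map_sum] at h2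
      rw [map_sum, ← h2]
      refine Finset.sum_congr rfl fun c _ => ?_
      rw [map_zsmul, map_zsmul]
      rfl
    exact (QuotientAddGroup.eq_zero_iff _).1 h1
  choose r hr hrsum using hrel
  let Mx : Matrix G G (Rg G) := Matrix.of fun i c => ((bL i : G → ℤ) c : Rg G) - r i c
  have hMx : ∀ i, ∑ c, Mx i c • symT c = 0 := fun i => by
    simp only [Mx, Matrix.of_apply, sub_smul, Finset.sum_sub_distrib, Int.cast_smul_eq_zsmul,
      hrsum i, sub_self]
  set d := Mx.det with hd
  have hkill : ∀ k, d • symT k = 0 := fun k => by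
    calc d • symT k = ∑ c, ((Mx.adjugate * Mx) k c) • symT c := by
          rw [Matrix.adjugate_mul, Finset.sum_eq_single k]
          · rw [Matrix.smul_apply, Matrix.one_apply_eq, smul_eq_mul, mul_one, hd]
          · intro c _ hc
            rw [Matrix.smul_apply, Matrix.one_apply_ne' hc, smul_zero, zero_smul]
          · exact fun h => absurd (Finset.mem_univ k) h
      _ = ∑ i, Mx.adjugate k i • ∑ c, Mx i c • symT c := by
          simp only [Matrix.mul_apply, Finset.sum_smul, Finset.smul_sum, mul_smul]
          exact Finset.sum_comm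
      _ = 0 := by simp only [hMx, smul_zero, Finset.sum_const_zero]
  -- the determinant is plus or minus the norm
  have hεd : (ε d).natAbs = Nat.card (Abelianization G) := by
    have h1 : ε.mapMatrix Mx = ((Pi.basisFun ℤ G).toMatrix (fun i => (bL i : G → ℤ))).transpose := by
      ext i c
      simp [Mx, hr, Module.Basis.toMatrix_apply]
    rw [hd, RingHom.map_det, h1, Matrix.det_transpose, ← Module.Basis.det_apply]
    refine (Submodule.natAbs_det_basis_change (Pi.basisFun ℤ G) _ bL).trans ?_
    exact Nat.card_congr (LinearMap.quotKerEquivOfSurjective φ hφ).toEquiv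
  have hconst : ∀ q, d.coeff q = d.coeff 1 := fun q => by
    have h1 := snd_smul d (symT (sec q))
    rw [hkill] at h1
    have h2 : d * MonoidAlgebra.single q (1 : ℤ) = d := by
      refine sub_eq_zero.1 (Eq.trans ?_ h1.symm)
      show d * _ - d = d * (MonoidAlgebra.of ℤ _ (Abelianization.of (sec q)) - 1)
      rw [of_sec, MonoidAlgebra.of_apply]
      ring
    conv_lhs => rw [← h2, MonoidAlgebra.coeff_mul_single_apply, mul_inv_cancel, mul_one]
  have hdN : d = (d.coeff 1) • ∑ q : Abelianization G, MonoidAlgebra.of ℤ _ q := by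
    refine MonoidAlgebra.coeff_injective (Finsupp.ext fun q => ?_)
    rw [hconst q, MonoidAlgebra.coeff_smul_apply, MonoidAlgebra.coeff_sum, Finsupp.finsetSum_apply,
      Finset.sum_eq_single q]
    · simp [MonoidAlgebra.of_apply]
    · intro c _ hc
      simp [MonoidAlgebra.of_apply, Ne.symm hc]
    · exact fun h => absurd (Finset.mem_univ q) h
  have hc : IsUnit (d.coeff 1) := by
    have h1 : ε d = d.coeff 1 * Nat.card (Abelianization G) := by
      conv_lhs => rw [hdN]
      rw [map_zsmul, map_sum]
      rw [Finset.sum_congr rfl fun q _ => hε q]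
      simp [Nat.card_eq_fintype_card]
    rw [h1, Int.natAbs_mul, Int.natAbs_natCast] at hεd
    exact Int.isUnit_iff_natAbs_eq.2 ((Nat.mul_eq_right Nat.card_pos.ne').1 hεd)
  have h0 : (∑ q : Abelianization G, MonoidAlgebra.of ℤ _ q) • symT g = 0 := by
    have h2 := hkill g
    rw [hdN, ← Int.cast_smul_eq_zsmul (Rg G), smul_eq_mul, mul_smul, Int.cast_smul_eq_zsmul] at h2
    rcases Int.isUnit_iff.1 hc with h | h
    · rwa [h, one_smul] at h2
    · rwa [h, neg_one_zsmul, neg_eq_zero] at h2
  have h3 : ((∑ q : Abelianization G, MonoidAlgebra.of ℤ _ q • symT g : symSub G) :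
      Tgt G × Rg G).1 = 0 := by
    rw [← Finset.sum_smul, h0]
    rfl
  rw [AddSubgroup.val_finsetSum, Prod.fst_sum] at h3
  rw [← h3]
  refine Finset.sum_congr rfl fun q _ => ?_
  rw [of_smul, ← of_sec q]
  show _ = (rho _ (sym g)).1
  rw [rho_sym, of_sec]
  show _ = al (sec q * g) - al (sec q)
  rw [al_sec, sub_zero]

theorem transfer_eq_one (g : G) :
    MonoidHom.transfer (Abelianization.of : ↥(commutator G) →* Abelianization ↥(commutator G)) g =
      1 := by
  classical
  let := (commutator G).fintypeQuotientOfFiniteIndex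
  have : Fintype (Abelianization G) := Fintype.ofFinite _
  let f : G ⧸ commutator G → G := fun q => (sec (G := G) q⁻¹)⁻¹
  have hf : ∀ q, (f q : G ⧸ commutator G) = q := fun q => by
    show Abelianization.of ((sec (G := G) q⁻¹)⁻¹) = q
    rw [map_inv, of_sec]
    exact inv_inv (G := Abelianization G) q
  let T₀ : (commutator G).LeftTransversal := ⟨Set.range f, isComplement_range_left hf⟩
  rw [MonoidHom.transfer_def _ T₀]
  apply Additive.ofMul.injective
  rw [leftTransversals.diff, ofMul_prod, ofMul_one]
  refine Eq.trans ?_ (sum_al_eq_zero g)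
  let e : (G ⧸ commutator G) ≃ Abelianization G := Equiv.inv (Abelianization G)
  refine Fintype.sum_equiv (M := Tgt G) e _ _ fun q => ?_
  refine congrArg Additive.ofMul (congrArg Abelianization.of (Subtype.ext ?_))
  show ((T₀.2.leftQuotientEquiv q : G))⁻¹ * ((g • T₀).2.leftQuotientEquiv q : G) =
    sec (G := G) q⁻¹ * g * (sec (Abelianization.of (sec (G := G) q⁻¹ * g)))⁻¹
  rw [smul_apply_eq_smul_apply_inv_smul, IsComplement.leftQuotientEquiv_apply hf,
    IsComplement.leftQuotientEquiv_apply hf, smul_eq_mul]
  show (sec (G := G) q⁻¹)⁻¹⁻¹ * (g * (sec (G := G) (g⁻¹ • q)⁻¹)⁻¹) = _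
  rw [inv_inv, mul_assoc, map_mul, of_sec]
  congr 4
  have key : ∀ a p : Abelianization G, (a⁻¹ * p)⁻¹ = p⁻¹ * a := fun a p => by group
  induction q using QuotientGroup.induction_on with
  | H x => exact key (Abelianization.of g) (Abelianization.of x)

end


/-- The Principal Ideal Theorem of class field theory in its group-theoretic form: for every finite group `G`, the transfer homomorphism from `G` into the abelianization `G'/G''` of its derived subgroup `G'` is the trivial homomorphism. -/
theorem result {G : Type*} [Group G] [Finite G] :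
    MonoidHom.transfer (Abelianization.of : ↥(commutator G) →* Abelianization ↥(commutator G)) =
      (1 : G →* Abelianization ↥(commutator G)) := by
  exact MonoidHom.ext fun g => transfer_eq_one g

end Cfsg.Agent.S4320
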