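import Cfsg.Statements.S4323
import Cfsg.Agent.Lib.AbelianCent.Main
import Cfsg.Agent.Lib.Coprime.Action

set_option autoImplicit false
open Cfsg

namespace Cfsg.Agent.S4323

theorem hs {A G : Type*} [Group A] [Finite A] [Group G] [Finite G] [MulDistribMulAction A G] (q : ℕ)
    (hq : q.Prime) (hA : Nat.card A = q ^ 2) (hnc : ¬ IsCyclic A) (hcop : ¬ q ∣ Nat.card G)
    (h : ∀ a : A, a ≠ 1 → IsMulCommutative ↥(FixedPoints.subgroup (Subgroup.zpowers a) G)) :
    Group.IsSolvable G := by
  let φ : A →* MulAut G := MulDistribMulAction.toMulAut A G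
  have := Cfsg.Agent.Coprime.finite_semidirectProduct φ
  set A' := (SemidirectProduct.inr : A →* G ⋊[φ] A).range
  set G' := (SemidirectProduct.inl : G →* G ⋊[φ] A).range
  have hexp : ∀ a : A, a ^ q = 1 := fun a => by
    have hd : orderOf a ∣ q ^ 2 := hA ▸ orderOf_dvd_natCard a
    obtain ⟨i, hi, he⟩ := (Nat.dvd_prime_pow hq).1 hd
    have hi2 : i ≠ 2 := fun h2 => hnc (isCyclic_of_orderOf_eq_card a (by rw [he, h2, hA]))
    exact orderOf_dvd_iff_pow_eq_one.1 (he ▸ (pow_dvd_pow q (show i ≤ 1 by omega)).trans (pow_one q).dvd)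
  have hS : Cfsg.Agent.AbelianCent.IsSetting A' G' q :=
    { prime := hq
      card_A := (Cfsg.Agent.Coprime.card_inr_range φ).trans hA
      exp := by
        rintro _ ⟨a, rfl⟩
        rw [← map_pow, hexp, map_one]
      inv := Cfsg.Agent.Coprime.inr_range_le_normalizer_inl_range φ
      cop := by rwa [Cfsg.Agent.Coprime.card_inl_range φ]
      cent := by
        rintro _ ⟨a, rfl⟩ ha1 _ ⟨x, rfl⟩ _ ⟨y, rfl⟩ e1 e2
        have fixd : ∀ {z : G}, (SemidirectProduct.inr a : G ⋊[φ] A) * SemidirectProduct.inl z =
            SemidirectProduct.inl z * SemidirectProduct.inr a →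
            z ∈ FixedPoints.subgroup (Subgroup.zpowers a) G := fun {z} e => by
          have hz : a • z = z := by
            have := SemidirectProduct.inl_aut (φ := φ) a z
            rw [e, map_inv, mul_inv_cancel_right] at this
            exact SemidirectProduct.inl_injective this
          rintro ⟨b, i, rfl⟩
          show a ^ i • z = z
          exact MulAction.mem_stabilizer_iff.1
            ((MulAction.stabilizer A z).zpow_mem (MulAction.mem_stabilizer_iff.2 hz) i)
        have hc := h a (fun h0 => ha1 (by rw [h0, map_one]))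
        have := congrArg Subtype.val (hc.is_comm.comm ⟨x, fixd e1⟩ ⟨y, fixd e2⟩)
        rw [← map_mul, ← map_mul]
        exact congrArg _ this }
  haveI := hS.isSolvable
  exact Group.isSolvable_of_isSolvable_injective (f := (SemidirectProduct.inl : G →* G ⋊[φ] A).rangeRestrict)
    fun x y e => SemidirectProduct.inl_injective (congrArg Subtype.val e)

/-- Let `q` be a prime and `A` a non-cyclic group of order `q²` acting by automorphisms on a finite group `G` of order prime to `q`, such that the fixed-point subgroup `C_G(a)` is abelian for every non-identity `a ∈ A`. Then `G` is solvable. -/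
theorem result {A G : Type*} [Group A] [Finite A]
    [Group G] [Finite G] [MulDistribMulAction A G] (q : ℕ) (hq : q.Prime) (hA : Nat.card A = q ^ 2) (hnc : ¬ IsCyclic A)
    (hcop : ¬ q ∣ Nat.card G) (h : ∀ a : A, a ≠ 1 → IsMulCommutative ↥(FixedPoints.subgroup (Subgroup.zpowers a) G)) :
    Group.IsSolvable G := by
  classical
  have := hs q hq hA hnc hcop h
  exact this

end Cfsg.Agent.S4323
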