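import Cfsg.Statements.S4325
import Cfsg.Agent.Lib.Perm.PrimeDegreeSimple
import Mathlib.Combinatorics.SimpleGraph.Connectivity.Connected
import Mathlib.Combinatorics.SimpleGraph.Acyclic
-- import your own Cfsg.Agent.* helpers here

set_option autoImplicit false
open Cfsg

namespace Cfsg.Agent.S4325

open MulAction

/-- Orbits of a group generated by `m` transpositions have at most `m + 1` points. -/
theorem card_orbit_le {α : Type*} [Fintype α] [DecidableEq α] {ι : Type*} [Fintype ι] (t : ι → Equiv.Perm α)
    (ht : ∀ i, (t i).IsSwap) (x : α) :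
    Nat.card (orbit (Subgroup.closure (Set.range t)) x) ≤ Fintype.card ι + 1 := by
  classical
  choose a b hab hte using ht
  let Γ : SimpleGraph α := SimpleGraph.fromEdgeSet (Set.range fun i => s(a i, b i))
  let K : Subgroup (Equiv.Perm α) :=
    { carrier := {f | ∀ y, Γ.Reachable y (f y)}
      one_mem' := fun y => SimpleGraph.Reachable.refl y
      mul_mem' := fun {f g} hf hg y => (hg y).trans (hf (g y))
      inv_mem' := fun {f} hf y => by
        have h := (hf (f⁻¹ y)).symm
        rwa [show f (f⁻¹ y) = y from f.apply_symm_apply y] at h }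
  have hK : Subgroup.closure (Set.range t) ≤ K := by
    rw [Subgroup.closure_le]
    rintro _ ⟨i, rfl⟩ y
    rw [hte i]
    have hr : Γ.Reachable (a i) (b i) :=
      SimpleGraph.Adj.reachable ((SimpleGraph.fromEdgeSet_adj _).mpr ⟨⟨i, rfl⟩, hab i⟩)
    rcases eq_or_ne y (a i) with rfl | h1
    · rw [Equiv.swap_apply_left]; exact hr
    rcases eq_or_ne y (b i) with rfl | h2
    · rw [Equiv.swap_apply_right]; exact hr.symm
    · rw [Equiv.swap_apply_of_ne_of_ne h1 h2]
  let C := Γ.connectedComponentMk x
  have hsub : orbit (Subgroup.closure (Set.range t)) x ⊆ C.supp := by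
    rintro _ ⟨⟨f, hf⟩, rfl⟩
    rw [SimpleGraph.ConnectedComponent.mem_supp_iff]
    exact SimpleGraph.ConnectedComponent.eq.mpr ((hK hf) x).symm
  have hconn : C.toSimpleGraph.Connected := C.connected_toSimpleGraph
  have h1 := hconn.card_vert_le_card_edgeSet_add_one
  have hf : ∀ e ∈ C.toSimpleGraph.edgeSet, ∃ i, Sym2.map Subtype.val e = s(a i, b i) := by
    intro e he
    induction e using Sym2.ind with
    | _ u v =>
      have hadj : Γ.Adj u.1 v.1 := he
      obtain ⟨⟨i, hi⟩, -⟩ := (SimpleGraph.fromEdgeSet_adj _).mp hadj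
      exact ⟨i, by rw [Sym2.map_mk]; exact hi.symm⟩
  choose g hg using hf
  have h2 : Nat.card C.toSimpleGraph.edgeSet ≤ Nat.card ι := by
    refine Nat.card_le_card_of_injective (fun e => g e.1 e.2) fun e e' h => ?_
    apply Subtype.ext
    apply Sym2.map.injective Subtype.val_injective
    rw [hg e.1 e.2, hg e'.1 e'.2]
    simp only at h
    rw [h]
  have h3 : Nat.card (orbit (Subgroup.closure (Set.range t)) x) ≤ Nat.card C.supp :=
    Nat.card_mono (Set.toFinite _) hsub
  rw [Nat.card_eq_fintype_card (α := ι)] at h2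
  exact h3.trans (h1.trans (Nat.add_le_add_right h2 1))

/-- Let r be a prime and m a natural number with m + 1 < r, and let π be a set of primes containing every prime below r but not r itself. Then in the symmetric group of degree r any m transpositions generate a π-subgroup, while O_π of the symmetric group is trivial. (So no bound on the number of conjugates that works for all π exists in the π-radical analogue of the Baer–Suzuki Theorem.) -/
theorem result (r m : ℕ) (hr : r.Prime)
    (hm : m + 1 < r) (π : Set ℕ) (hπ : ∀ q : ℕ, q.Prime → q < r → q ∈ π) (hrπ : r ∉ π)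
    (t : Fin m → Equiv.Perm (Fin r)) (ht : ∀ i, (t i).IsSwap) :
    Cfsg.IsPiSubgroup π (Subgroup.closure (Set.range t)) ∧ Cfsg.piCore π (Equiv.Perm (Fin r)) = ⊥ := by
  classical
  haveI := Fact.mk hr
  constructor
  · intro q hq hqd
    have hqr : q ≤ r := by
      have h := hqd.trans (Subgroup.card_subgroup_dvd_card _)
      rw [Nat.card_perm, Nat.card_eq_fintype_card, Fintype.card_fin] at h
      exact (Nat.Prime.dvd_factorial hq).mp h
    rcases hqr.lt_or_eq with h | h
    · exact hπ q hq h
    exfalso
    subst h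
    obtain ⟨⟨c, hcK⟩, hc⟩ := exists_prime_orderOf_dvd_card' q hqd
    rw [Subgroup.orderOf_mk] at hc
    have hcyc : c.IsCycle :=
      Equiv.Perm.isCycle_of_prime_order'' (α := Fin q) (by rw [Fintype.card_fin]; exact hr)
        (by rw [hc, Fintype.card_fin])
    have hsupp : c.support = Finset.univ := by
      apply Finset.eq_univ_of_card
      rw [← hcyc.orderOf, hc, Fintype.card_fin]
    let x : Fin q := ⟨0, hr.pos⟩
    have horb : MulAction.orbit (Subgroup.closure (Set.range t)) x = Set.univ := by
      refine Set.eq_univ_of_forall fun y => ?_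
      have hs : ∀ z, c z ≠ z := fun z => by rw [← Equiv.Perm.mem_support, hsupp]; exact Finset.mem_univ z
      obtain ⟨k, hk⟩ := hcyc.exists_zpow_eq (hs x) (hs y)
      exact ⟨⟨c ^ k, Subgroup.zpow_mem _ hcK k⟩, hk⟩
    have h1 := card_orbit_le t ht x
    rw [horb, Nat.card_congr (Equiv.Set.univ _), Nat.card_eq_fintype_card, Fintype.card_fin,
      Fintype.card_fin] at h1
    omega
  · rw [Cfsg.piCore, eq_bot_iff]
    refine sSup_le fun N ⟨hN, hNπ⟩ => ?_
    by_contra hne
    haveI := hN
    have hN0 : N ≠ ⊥ := fun h => hne h.le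
    haveI : MulAction.IsPretransitive N (Fin r) :=
      Cfsg.Agent.Perm.normal_isPretransitive N hN0
    apply hrπ
    refine hNπ r hr ?_
    rw [Cfsg.Agent.Perm.card_eq_degree_mul N (⟨0, hr.pos⟩ : Fin r),
      Nat.card_eq_fintype_card, Fintype.card_fin]
    exact dvd_mul_right _ _

end Cfsg.Agent.S4325
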