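import Cfsg.Statements.S4326
import Mathlib.GroupTheory.PGroup
-- import your own Cfsg.Agent.* helpers here

set_option autoImplicit false
open Pointwise
open Cfsg

namespace Cfsg.Agent.S4326

/-- Let G be a finite group, p a prime, x an automorphism of G of p-power order and M the subgroup of fixed points of x. Suppose that p divides the index of M and that either M is self-normalizing or M has trivial center. Then some conjugate of M is mapped onto itself by x but is not fixed elementwise by x. -/
theorem result {G : Type*} [Group G] [Finite G]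
    (p : ℕ) [Fact p.Prime] (x : MulAut G) (hx : ∃ k : ℕ, orderOf x = p ^ k) (M : Subgroup G)
    (hM : ∀ g : G, g ∈ M ↔ x g = g) (hp : p ∣ M.index)
    (hself : Subgroup.normalizer (M : Set G) = M ∨ Subgroup.center M = ⊥) :
    ∃ g : G, (∀ y ∈ MulAut.conj g • M, x y ∈ MulAut.conj g • M) ∧ ∃ y ∈ MulAut.conj g • M, x y ≠ y := by
  classical
  let act : MulAction (Subgroup.zpowers x) (G ⧸ M) :=
    { smul := fun a q => Quotient.liftOn' q (fun g => ((a.1 g : G) : G ⧸ M)) fun g h hgh => by
        rw [QuotientGroup.leftRel_apply] at hgh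
        apply QuotientGroup.eq.mpr
        have hfix : (a.1 : MulAut G) (g⁻¹ * h) = g⁻¹ * h := by
          obtain ⟨k, hk⟩ := Subgroup.mem_zpowers_iff.mp a.2
          have hx : x ∈ MulAction.stabilizer (MulAut G) (g⁻¹ * h) := (hM _).mp hgh
          rw [← hk]
          exact MulAction.mem_stabilizer_iff.mp (zpow_mem hx k)
        rw [← map_inv, ← map_mul, hfix]
        exact hgh
      one_smul := fun q => by
        induction q using QuotientGroup.induction_on with | _ g => rfl
      mul_smul := fun a b q => by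
        induction q using QuotientGroup.induction_on with | _ g => rfl }
  have hP : IsPGroup p (Subgroup.zpowers x) := by
    obtain ⟨k, hk⟩ := hx
    exact IsPGroup.of_card (n := k) (by rw [Nat.card_zpowers, hk])
  obtain ⟨q, hq, hq1⟩ := hP.exists_fixed_point_of_prime_dvd_card_of_fixed_point (G ⧸ M)
    (by rwa [← Subgroup.index_eq_card]) (a := ((1 : G) : G ⧸ M)) (fun a => by
      show (((a.1 : MulAut G) 1 : G) : G ⧸ M) = _
      rw [map_one])
  obtain ⟨g, rfl⟩ := QuotientGroup.mk_surjective q
  have hm : g⁻¹ * x g ∈ M := by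
    have h : ((x g : G) : G ⧸ M) = (g : G ⧸ M) := hq ⟨x, Subgroup.mem_zpowers x⟩
    exact QuotientGroup.eq.mp h.symm
  have hgM : g ∉ M := fun h => hq1 (QuotientGroup.eq.mpr (by simpa using h))
  obtain ⟨m, hmdef⟩ : ∃ m, g⁻¹ * x g = m := ⟨_, rfl⟩
  rw [hmdef] at hm
  have hxg : x g = g * m := by rw [← hmdef, mul_inv_cancel_left]
  have himg : ∀ y : G, y ∈ MulAut.conj g • M ↔ g⁻¹ * y * g ∈ M := fun y => by
    rw [Subgroup.mem_pointwise_smul_iff_inv_smul_mem]
    simp [mul_assoc]
  have hx' : ∀ w ∈ M, x (g * w * g⁻¹) = g * (m * w * m⁻¹) * g⁻¹ := fun w hw => by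
    rw [map_mul, map_mul, map_inv, (hM w).mp hw, hxg]
    group
  refine ⟨g, fun y hy => ?_, ?_⟩
  · obtain ⟨w, hw, rfl⟩ : ∃ w ∈ M, g * w * g⁻¹ = y :=
      ⟨g⁻¹ * y * g, (himg y).mp hy, by group⟩
    rw [hx' w hw, himg]
    simpa [mul_assoc] using mul_mem (mul_mem hm hw) (inv_mem hm)
  · by_contra hc
    push Not at hc
    have hle : ∀ w ∈ M, g * w * g⁻¹ ∈ M := fun w hw =>
      (hM _).mpr (hc _ ((himg _).mpr (by simpa [mul_assoc] using hw)))
    rcases hself with h | h
    · apply hgM
      rw [← h, Subgroup.mem_normalizer_iff]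
      intro w
      refine ⟨hle w, fun hw => ?_⟩
      have hfin : M.map (MulAut.conj g).toMonoidHom = M :=
        Subgroup.eq_of_le_of_card_ge (by rintro _ ⟨u, hu, rfl⟩; exact hle u hu)
          (Subgroup.card_map_of_injective (MulAut.conj g).injective).ge
      obtain ⟨u, hu, hu'⟩ := hfin.symm ▸ hw
      exact (MulAut.conj g).injective hu' ▸ hu
    · have hmc : (⟨m, hm⟩ : M) ∈ Subgroup.center M := by
        rw [Subgroup.mem_center_iff]
        intro w
        apply Subtype.ext
        show (w : G) * m = m * w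
        have h1 := hc _ ((himg (g * (w : G) * g⁻¹)).mpr (by simpa [mul_assoc] using w.2))
        rw [hx' w w.2, mul_left_inj, mul_right_inj, mul_inv_eq_iff_eq_mul] at h1
        exact h1.symm
      rw [h, Subgroup.mem_bot] at hmc
      apply hgM
      rw [hM, hxg, show m = 1 from congrArg Subtype.val hmc, mul_one]

end Cfsg.Agent.S4326
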