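import Cfsg.Statements.S4330
import Cfsg.Agent.Lib.RegularOrbit.Covering
import Cfsg.Agent.Lib.LocalStructure.PClosed
import Cfsg.Agent.Lib.Coprime.Basic
import Cfsg.Agent.Lib.PCore.Basic

set_option autoImplicit false
set_option linter.style.haveILetI false
open Pointwise
open Cfsg

namespace Cfsg.Agent.S4330

universe u

theorem main (p : ℕ) [hp : Fact p.Prime] (hp2 : p ≠ 2) : ∀ (n : ℕ) {G : Type u} [Group G] [Finite G]
    (A : Subgroup G), Nat.card G = n → Group.IsSolvable G → IsPGroup p A →
    (∀ c : G, ∃ g : G, IsConj c g ∧ (A.subgroupOf (A ⊔ MulAut.conj g • A)).IsSubnormal) →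
    A ≤ Cfsg.pCore p G := by
  intro n
  induction n using Nat.strong_induction_on with
  | _ n ih =>
    intro G _ _ A hn hG hA h
    -- quotients inherit the hypothesis
    have hquot : ∀ (N : Subgroup G) [N.Normal], N ≠ ⊥ →
        A.map (QuotientGroup.mk' N) ≤ Cfsg.pCore p (G ⧸ N) := by
      intro N _ hN
      set f := QuotientGroup.mk' N with hf
      have hsurj : Function.Surjective f := QuotientGroup.mk'_surjective N
      have hlt : Nat.card (G ⧸ N) < n := by
        have h1 : 1 < Nat.card N := (Subgroup.one_lt_card_iff_ne_bot N).2 hN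
        have h2 : 0 < Nat.card (G ⧸ N) := Nat.card_pos
        rw [← hn, Subgroup.card_eq_card_quotient_mul_card_subgroup N]
        exact lt_mul_of_one_lt_right h2 h1
      haveI := hG
      refine ih _ hlt (A.map f) rfl (Group.isSolvable_of_surjective hsurj) (hA.map f) fun c' => ?_
      obtain ⟨c, rfl⟩ := hsurj c'
      obtain ⟨g, hcg, hg⟩ := h c
      refine ⟨f g, f.map_isConj hcg, ?_⟩
      have hM : (A ⊔ MulAut.conj g • A).map f = A.map f ⊔ MulAut.conj (f g) • A.map f := by
        rw [Subgroup.map_sup, Agent.Coprime.map_conj_smul]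
      have h1 := hg.map (f.subgroupMap_surjective (A ⊔ MulAut.conj g • A))
      have h2 : (A.subgroupOf (A ⊔ MulAut.conj g • A)).map (f.subgroupMap (A ⊔ MulAut.conj g • A)) =
          (A.map f).subgroupOf ((A ⊔ MulAut.conj g • A).map f) := by
        ext x
        constructor
        · rintro ⟨y, hy, rfl⟩
          exact ⟨y, hy, rfl⟩
        · rintro ⟨a, ha, hax⟩
          exact ⟨⟨a, Subgroup.mem_sup_left ha⟩, ha, Subtype.ext hax⟩
      rw [h2, hM] at h1
      exact h1
    by_cases hO : Cfsg.pCore p G = ⊥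
    swap
    · have h1 := hquot (Cfsg.pCore p G) hO
      rw [Agent.PCore.pCore_quotient_self_eq_bot, le_bot_iff] at h1
      intro a ha
      have : (QuotientGroup.mk' (Cfsg.pCore p G)) a ∈ (⊥ : Subgroup (G ⧸ Cfsg.pCore p G)) :=
        h1 ▸ Subgroup.mem_map_of_mem _ ha
      rw [Subgroup.mem_bot] at this
      exact (QuotientGroup.eq_one_iff a).1 this
    rcases subsingleton_or_nontrivial G with hs | hs
    · intro a _
      rw [Subsingleton.elim a 1]
      exact one_mem _
    haveI := hG
    obtain ⟨q, M, hq, hMn, hM, hMq⟩ := Agent.Coprime.exists_normal_isPGroup (G := G)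
    haveI := Fact.mk hq
    set V := (Subgroup.center ↥M).map M.subtype with hVdef
    haveI : V.Normal := by rw [hVdef]; infer_instance
    have hVq : IsPGroup q V := (hMq.to_subgroup _).map _
    have hV1 : V ≠ ⊥ := by
      rw [hVdef, Ne, Subgroup.map_eq_bot_iff_of_injective _ M.subtype_injective]
      haveI : Nontrivial ↥M := (Subgroup.nontrivial_iff_ne_bot M).2 hM
      haveI := hMq.center_nontrivial
      exact (Subgroup.nontrivial_iff_ne_bot _).1 inferInstance
    have hVcomm : ∀ x ∈ V, ∀ y ∈ V, x * y = y * x := by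
      rintro _ ⟨x, hx, rfl⟩ _ ⟨y, -, rfl⟩
      exact congrArg Subtype.val (Subgroup.mem_center_iff.1 hx y).symm
    have hqp : q ≠ p := by
      rintro rfl
      exact hV1 (le_bot_iff.1 (hO ▸ Agent.PCore.le_pCore hVq))
    obtain ⟨kq, hkq⟩ := IsPGroup.iff_card.1 hVq
    have hVp : (Nat.card V).Coprime p := hkq ▸ ((Nat.coprime_primes hq hp.out).2 hqp).pow_left kq
    set K := (Cfsg.pCore p (G ⧸ V)).comap (QuotientGroup.mk' V) with hKdef
    haveI : K.Normal := by rw [hKdef]; infer_instance
    have hAK : A ≤ K := Subgroup.map_le_iff_le_comap.1 (hquot V hV1)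
    have hKV : ∀ x ∈ K, ∃ k : ℕ, x ^ p ^ k ∈ V := by
      intro x hx
      obtain ⟨k, hk⟩ := Agent.PCore.isPGroup_pCore (p := p) ⟨_, hx⟩
      refine ⟨k, (QuotientGroup.eq_one_iff _).1 ?_⟩
      simpa using congrArg Subtype.val hk
    have hAV : A ⊓ V = ⊥ := by
      refine (Subgroup.eq_bot_iff_forall _).2 ?_
      rintro x ⟨hxA, hxV⟩
      obtain ⟨k, hk⟩ := hA ⟨x, hxA⟩
      refine orderOf_eq_one_iff.1 (Nat.eq_one_of_dvd_coprimes (hVp.pow_right k)
        (Subgroup.orderOf_dvd_natCard _ hxV) (orderOf_dvd_of_pow_eq_one ?_))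
      simpa using congrArg Subtype.val hk
    -- every element of `V` has a conjugate centralising `A`
    have hcov : ∀ v ∈ V, ∃ c : G, ∀ a ∈ A, a * (c * v * c⁻¹) = c * v * c⁻¹ * a := by
      intro v hv
      obtain ⟨g, hcg, hg⟩ := h v
      obtain ⟨c, hc⟩ := isConj_iff.1 hcg
      have hgV : g ∈ V := hc ▸ Subgroup.Normal.conj_mem inferInstance v hv c
      refine ⟨c, fun a ha => ?_⟩
      rw [hc]
      set X := A ⊔ MulAut.conj g • A with hX
      have hXle : X ≤ A ⊔ V := by
        refine sup_le le_sup_left ?_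
        intro y hy
        obtain ⟨b, hb, rfl⟩ := (Subgroup.mem_smul_pointwise_iff_exists _ _ _).1 hy
        rw [MulAut.smul_def, MulAut.conj_apply]
        exact mul_mem (mul_mem (Subgroup.mem_sup_right hgV) (Subgroup.mem_sup_left hb))
          (inv_mem (Subgroup.mem_sup_right hgV))
      have hmax : ∀ Y : Subgroup G, A ≤ Y → Y ≤ X → IsPGroup p Y → Y = A := by
        intro Y hAY hYX hY
        refine (Subgroup.eq_of_le_of_card_ge hAY ?_).symm
        obtain ⟨k, hk⟩ := IsPGroup.iff_card.1 hY
        have hd : Nat.card Y ∣ Nat.card A * Nat.card V := by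
          rw [← Agent.Coprime.card_sup_of_le_normalizer (fun x _ => by
            rw [Subgroup.normalizer_eq_top]; trivial) hAV]
          exact Subgroup.card_dvd_of_le (hYX.trans hXle)
        rw [hk] at hd ⊢
        exact Nat.le_of_dvd Nat.card_pos ((hVp.symm.pow_left k).dvd_of_dvd_mul_right hd)
      have hle := Agent.LocalStructure.le_pCore_of_isSubnormal hg
        (hA.comap_of_injective X.subtype X.subtype_injective)
      set O := (Cfsg.pCore p ↥X).map X.subtype with hOdef
      have hOA : O = A := hmax O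
        (fun x hx => ⟨⟨x, Subgroup.mem_sup_left hx⟩, hle hx, rfl⟩)
        (Subgroup.map_subtype_le _) ((Agent.PCore.isPGroup_pCore (p := p)).map _)
      have hXN : X ≤ Subgroup.normalizer (A : Set G) := by
        rw [← hOA]
        intro x hx
        refine Subgroup.mem_normalizer_iff.2 fun y => ?_
        constructor
        · rintro ⟨z, hz, rfl⟩
          exact ⟨⟨x, hx⟩ * z * ⟨x, hx⟩⁻¹, Agent.PCore.pCore_normal.conj_mem z hz ⟨x, hx⟩, rfl⟩
        · rintro ⟨z, hz, he⟩
          refine ⟨⟨x, hx⟩⁻¹ * z * ⟨x, hx⟩, ?_, ?_⟩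
          · simpa using Agent.PCore.pCore_normal.conj_mem z hz ⟨x, hx⟩⁻¹
          · change x⁻¹ * (z : G) * x = y
            rw [show (z : G) = x * y * x⁻¹ from he]
            group
      have hXA : X = A := by
        refine hmax X le_sup_left le_rfl ?_
        exact hA.to_sup_of_normal_left' (hA.map (MulAut.conj g).toMonoidHom)
          ((le_sup_right : _ ≤ X).trans hXN)
      have hgA : g * a * g⁻¹ ∈ A := by
        rw [← hXA]
        exact Subgroup.mem_sup_right (Subgroup.smul_mem_pointwise_smul a (MulAut.conj g) A ha)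
      have h1 : g * a * g⁻¹ * a⁻¹ ∈ A ⊓ V := by
        refine ⟨A.mul_mem hgA (A.inv_mem ha), ?_⟩
        rw [show g * a * g⁻¹ * a⁻¹ = g * (a * g⁻¹ * a⁻¹) by group]
        exact V.mul_mem hgV (Subgroup.Normal.conj_mem inferInstance _ (V.inv_mem hgV) a)
      rw [hAV, Subgroup.mem_bot, mul_inv_eq_one, mul_inv_eq_iff_eq_mul] at h1
      exact h1.symm
    -- `A` centralises `V`
    letI : CommGroup ↥V := { (inferInstance : Group ↥V) with
      mul_comm := fun x y => Subtype.ext (hVcomm x x.2 y y.2) }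
    let φ : G →* MulAut ↥V := MulAut.conjNormal
    have hφ : ∀ (x : G) (v : ↥V), ((φ x v : ↥V) : G) = x * v * x⁻¹ := fun x v =>
      MulAut.conjNormal_apply x v
    have hP : IsPGroup p (K.map φ) := by
      rintro ⟨_, x, hx, rfl⟩
      obtain ⟨k, hk⟩ := hKV x hx
      refine ⟨k, Subtype.ext (MulEquiv.ext fun v => Subtype.ext ?_)⟩
      change (((φ x) ^ p ^ k) v : G) = v
      rw [← map_pow, hφ, hVcomm _ hk v v.2, mul_inv_cancel_right]
    have hcent : ∀ x ∈ A, φ x = 1 := by
      intro x hx
      by_contra hne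
      obtain ⟨k, hk⟩ := hP ⟨φ x, x, hAK hx, rfl⟩
      have hk' : φ x ^ p ^ k = 1 := congrArg Subtype.val hk
      have hex : ∃ m, φ x ^ p ^ m = 1 := ⟨k, hk'⟩
      classical
      have hm := Nat.find_spec hex
      obtain ⟨m, hm'⟩ : ∃ m, Nat.find hex = m + 1 := by
        refine Nat.exists_eq_succ_of_ne_zero fun h0 => hne ?_
        rw [h0, pow_zero, pow_one] at hm
        exact hm
      refine Nat.find_min hex (show m < Nat.find hex by omega) ?_
      refine Agent.RegularOrbit.eq_one_of_conj_fixed_covering (L := φ.range) (P := K.map φ) hVp hp2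
        hP (Subgroup.map_le_range _ _) ?_ ?_ ?_ ?_
      · rintro _ ⟨c, rfl⟩ _ ⟨y, hy, rfl⟩
        exact ⟨c * y * c⁻¹, Subgroup.Normal.conj_mem inferInstance y hy c, by simp⟩
      · exact ⟨x ^ p ^ m, K.pow_mem (hAK hx) _, map_pow _ _ _⟩
      · rw [← pow_mul, ← pow_succ, ← hm']
        exact hm
      · intro v
        obtain ⟨c, hc⟩ := hcov v v.2
        refine ⟨φ c⁻¹, ⟨c⁻¹, rfl⟩, ?_⟩
        rw [← map_pow, ← map_inv, ← map_mul, ← map_mul]
        refine Subtype.ext ?_
        rw [hφ]
        have h1 := hc _ (A.pow_mem hx (p ^ m))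
        calc c⁻¹ * x ^ p ^ m * c⁻¹⁻¹ * (v : G) * (c⁻¹ * x ^ p ^ m * c⁻¹⁻¹)⁻¹
            = c⁻¹ * (x ^ p ^ m * (c * v * c⁻¹)) * (x ^ p ^ m)⁻¹ * c := by group
          _ = c⁻¹ * (c * v * c⁻¹ * x ^ p ^ m) * (x ^ p ^ m)⁻¹ * c := by rw [h1]
          _ = v := by group
    -- conclusion
    set C := K ⊓ Subgroup.centralizer (V : Set G) with hCdef
    haveI : C.Normal := Subgroup.normal_inf_normal _ _
    have hAC : A ≤ C := fun x hx => ⟨hAK hx, fun v hv => by
      have h1 := congrArg (fun ψ : MulAut ↥V => ((ψ ⟨v, hv⟩ : ↥V) : G)) (hcent x hx)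
      simp only [hφ, MulAut.one_apply] at h1
      exact (mul_inv_eq_iff_eq_mul.1 h1).symm⟩
    have hVC : V ≤ C := le_inf
      (fun v hv => Subgroup.mem_comap.2 (by
        rw [show QuotientGroup.mk' V v = 1 from (QuotientGroup.eq_one_iff v).2 hv]
        exact one_mem _))
      (fun v hv w hw => hVcomm w hw v hv)
    obtain ⟨R, hR⟩ := (hA.comap_of_injective C.subtype C.subtype_injective).exists_le_sylow
    have hVcen : V.subgroupOf C ≤ Subgroup.center ↥C := fun v hv =>
      Subgroup.mem_center_iff.2 fun c => Subtype.ext (c.2.2 _ hv).symm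
    have hidx : ∃ j, (V.subgroupOf C).index = p ^ j := by
      haveI : (V.subgroupOf C).Normal := inferInstance
      refine IsPGroup.iff_card.1 (fun x => ?_ : IsPGroup p (↥C ⧸ V.subgroupOf C))
      obtain ⟨⟨y, hy⟩, rfl⟩ := QuotientGroup.mk_surjective x
      obtain ⟨k, hk⟩ := hKV y hy.1
      exact ⟨k, (QuotientGroup.eq_one_iff _).2 (by rw [Subgroup.mem_subgroupOf]; exact hk)⟩
    obtain ⟨j, hj⟩ := hidx
    have hsup : (R : Subgroup ↥C) ⊔ V.subgroupOf C = ⊤ := by
      apply Subgroup.index_eq_one.1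
      refine Nat.eq_one_of_dvd_coprimes (a := p ^ j) (b := (R : Subgroup ↥C).index) ?_ ?_ ?_
      · exact (Nat.Prime.coprime_iff_not_dvd hp.out).2 R.not_dvd_index |>.pow_left j
      · exact hj ▸ Subgroup.index_dvd_of_le le_sup_right
      · exact Subgroup.index_dvd_of_le le_sup_left
    haveI hRn : (R : Subgroup ↥C).Normal := by
      rw [← Subgroup.normalizer_eq_top_iff, eq_top_iff, ← hsup]
      exact sup_le Subgroup.le_normalizer (hVcen.trans (Subgroup.center_le_normalizer _))
    haveI := R.characteristic_of_normal hRn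
    have h1 : (R : Subgroup ↥C).map C.subtype ≤ Cfsg.pCore p G :=
      Agent.PCore.le_pCore (R.2.map _)
    intro a ha
    exact h1 ⟨⟨a, hAC ha⟩, hR ha, rfl⟩

/-- Let G be a finite solvable group, p an odd prime and A a p-subgroup of G such that every conjugacy class of G contains an element g for which A is subnormal in the subgroup generated by A and its conjugate by g. Then A is contained in O_p(G). (The hypothesis that p is odd is needed.) -/
theorem result {G : Type*} [Group G] [Finite G]
    (hG : Group.IsSolvable G) (p : ℕ) [Fact p.Prime] (hp : p ≠ 2) (A : Subgroup G) (hA : IsPGroup p A)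
    (h : ∀ c : G, ∃ g : G, IsConj c g ∧ (A.subgroupOf (A ⊔ MulAut.conj g • A)).IsSubnormal) :
    A ≤ Cfsg.pCore p G := by
  exact main p hp _ A rfl hG hA h

end Cfsg.Agent.S4330
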