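import Cfsg.Statements.S4331
import Cfsg.Agent.Lib.PCore.Basic
import Cfsg.Agent.Lib.PRed.Basic
import Mathlib.GroupTheory.SemidirectProduct
import Mathlib.LinearAlgebra.Matrix.GeneralLinearGroup.Card
-- import your own Cfsg.Agent.* helpers here

set_option autoImplicit false
open Cfsg

namespace Cfsg.Agent.S4331

set_option maxHeartbeats 600000

open Matrix

abbrev V : Type := Multiplicative (Fin 2 → ZMod 3)

abbrev GL23 : Type := GL (Fin 2) (ZMod 3)

/-- The natural action of `GL(2,3)` on the plane. -/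
def natAct : GL23 →* MulAut V where
  toFun A :=
    { toFun := fun v => .ofAdd ((A : Matrix (Fin 2) (Fin 2) (ZMod 3)) *ᵥ v.toAdd)
      invFun := fun v => .ofAdd (((A⁻¹ : GL23) : Matrix (Fin 2) (Fin 2) (ZMod 3)) *ᵥ v.toAdd)
      left_inv := fun v => by
        show Multiplicative.ofAdd (((A⁻¹ : GL23) : Matrix (Fin 2) (Fin 2) (ZMod 3)) *ᵥ
          ((A : Matrix (Fin 2) (Fin 2) (ZMod 3)) *ᵥ v.toAdd)) = v
        rw [mulVec_mulVec, ← Units.val_mul, inv_mul_cancel, Units.val_one, one_mulVec, ofAdd_toAdd]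
      right_inv := fun v => by
        show Multiplicative.ofAdd ((A : Matrix (Fin 2) (Fin 2) (ZMod 3)) *ᵥ
          (((A⁻¹ : GL23) : Matrix (Fin 2) (Fin 2) (ZMod 3)) *ᵥ v.toAdd)) = v
        rw [mulVec_mulVec, ← Units.val_mul, mul_inv_cancel, Units.val_one, one_mulVec, ofAdd_toAdd]
      map_mul' := fun v w => by
        show Multiplicative.ofAdd ((A : Matrix (Fin 2) (Fin 2) (ZMod 3)) *ᵥ (v.toAdd + w.toAdd)) = _
        rw [mulVec_add, ofAdd_add] }
  map_one' := MulEquiv.ext fun v => by
    show Multiplicative.ofAdd (((1 : GL23) : Matrix (Fin 2) (Fin 2) (ZMod 3)) *ᵥ v.toAdd) = v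
    rw [Units.val_one, one_mulVec, ofAdd_toAdd]
  map_mul' A B := MulEquiv.ext fun v => by
    show Multiplicative.ofAdd (((A * B : GL23) : Matrix (Fin 2) (Fin 2) (ZMod 3)) *ᵥ v.toAdd) =
      Multiplicative.ofAdd ((A : Matrix (Fin 2) (Fin 2) (ZMod 3)) *ᵥ
        ((B : Matrix (Fin 2) (Fin 2) (ZMod 3)) *ᵥ v.toAdd))
    rw [mulVec_mulVec, Units.val_mul]

/-- The reflection. -/
def refl23 : GL23 := ⟨!![1, 0; 0, 2], !![1, 0; 0, 2], by decide, by decide⟩

/-- The fixed vector of the reflection. -/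
def v0 : V := .ofAdd ![1, 0]

theorem stab_small (A : GL23) (h : natAct A v0 = v0) : A ^ 3 = 1 ∨ (refl23 * A) ^ 3 = 1 := by
  have key : ∀ a b : ZMod 3, b ≠ 0 → (!![1, a; 0, b] : Matrix (Fin 2) (Fin 2) (ZMod 3)) ^ 3 = 1 ∨
      (!![1, 0; 0, 2] * !![1, a; 0, b]) ^ 3 = 1 := by decide
  have h1 : (A : Matrix (Fin 2) (Fin 2) (ZMod 3)) *ᵥ ![1, 0] = ![1, 0] := h
  have e0 := congrFun h1 0
  have e1 := congrFun h1 1
  simp [mulVec, dotProduct, Fin.sum_univ_two] at e0 e1
  have hA : (A : Matrix (Fin 2) (Fin 2) (ZMod 3)) =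
      !![1, A.1 0 1; 0, A.1 1 1] := by
    ext i j; fin_cases i <;> fin_cases j <;> simp [e0, e1]
  have hb : A.1 1 1 ≠ 0 := by
    intro hb
    have hdet := ((Matrix.isUnit_iff_isUnit_det _).1 A.isUnit)
    rw [hA, hb, det_fin_two] at hdet
    simp at hdet
  rcases key _ _ hb with hk | hk
  · exact Or.inl (Units.ext (by rw [Units.val_pow_eq_pow_val, hA, hk, Units.val_one]))
  · exact Or.inr (Units.ext (by
      rw [Units.val_pow_eq_pow_val, Units.val_mul, Units.val_one, hA]; exact hk))

theorem refl_facts : natAct refl23 v0 = v0 ∧ refl23 * refl23 = 1 ∧ refl23 ≠ 1 ∧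
    natAct refl23 (.ofAdd ![0, 1]) ≠ .ofAdd ![0, 1] := by
  refine ⟨?_, Units.ext ?_, fun h => ?_, ?_⟩
  · decide
  · decide
  · exact absurd (congrArg Units.val h) (by decide)
  · decide

theorem refl_shift : ∀ v : V, ∃ w : V,
    natAct refl23 (w * v * (natAct refl23 w)⁻¹) = w * v * (natAct refl23 w)⁻¹ := by decide

attribute [local irreducible] natAct refl23

theorem card_GL23 : Nat.card GL23 = 48 := by
  rw [card_GL_field]
  simp [Fin.prod_univ_two]

variable (P : Sylow 2 GL23)

/-- The group `3² : SD₁₆`. -/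
abbrev Grp : Type := V ⋊[natAct.comp (P : Subgroup GL23).subtype] (P : Subgroup GL23)

theorem card_P : Nat.card (P : Subgroup GL23) = 16 := by
  rw [P.card_eq_multiplicity, card_GL23]
  rw [show (48 : ℕ) = 2 ^ 4 * 3 by norm_num, Nat.factorization_mul (by norm_num) (by norm_num),
    Finsupp.add_apply, Nat.prime_two.factorization_pow, Nat.Prime.factorization (by norm_num : Nat.Prime 3)]
  simp

theorem stab_eq (ht : refl23 ∈ P) (h : (P : Subgroup GL23))
    (hh : natAct (h : GL23) v0 = v0) : (h : GL23) = 1 ∨ (h : GL23) = refl23 := by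
  have hPG : ∀ y : (P : Subgroup GL23), y ^ 3 = 1 → y = 1 := fun y hy => by
    obtain ⟨k, hk⟩ := IsPGroup.iff_orderOf.1 P.2 y
    have h1 := orderOf_dvd_of_pow_eq_one hy
    rw [hk] at h1
    rcases Nat.eq_zero_or_pos k with rfl | hk0
    · simpa using hk
    · exfalso
      have := (dvd_pow_self 2 hk0.ne').trans h1
      omega
  rcases stab_small _ hh with h3 | h3
  · exact Or.inl (congrArg Subtype.val (hPG h (Subtype.ext h3)))
  · refine Or.inr ?_
    have := congrArg Subtype.val (hPG ((⟨refl23, ht⟩ : (P : Subgroup GL23)) * h) (Subtype.ext h3))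
    have h2 : refl23 * (refl23 * (h : GL23)) = refl23 * 1 := congrArg (refl23 * ·) this
    rwa [← mul_assoc, refl_facts.2.1, one_mul, mul_one] at h2

theorem exists_move (ht : refl23 ∈ P) (v : V) (hv : v ≠ 1) :
    ∃ h : ↥(P : Subgroup GL23), natAct (h : GL23) v0 = v := by
  classical
  haveI : Fintype (P : Subgroup GL23) := Fintype.ofFinite _
  let f : ↥(P : Subgroup GL23) → V := fun h => natAct (h : GL23) v0
  have hf1 : ∀ h, f h ≠ 1 := fun h e => by
    have := (natAct (h : GL23)).map_eq_one_iff.1 e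
    exact absurd this (by decide)
  have hfib : ∀ y ∈ Finset.univ.image f, (Finset.univ.filter (f · = y)).card ≤ 2 := by
    intro y hy
    obtain ⟨h0, -, rfl⟩ := Finset.mem_image.1 hy
    refine le_trans (Finset.card_le_card ?_)
      (Finset.card_le_two (a := h0) (b := h0 * ⟨refl23, ht⟩))
    intro h hh
    simp only [Finset.mem_filter, Finset.mem_univ, true_and, f] at hh
    have he : natAct ((h0⁻¹ * h : (P : Subgroup GL23)) : GL23) v0 = v0 := by
      rw [Subgroup.coe_mul, map_mul, MulAut.mul_apply, hh, Subgroup.coe_inv, map_inv,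
        ← MulAut.mul_apply, inv_mul_cancel, MulAut.one_apply]
    rw [Finset.mem_insert, Finset.mem_singleton]
    rcases stab_eq P ht _ he with e | e
    · left; exact (inv_mul_eq_one.1 (Subtype.ext e)).symm
    · right
      exact inv_mul_eq_iff_eq_mul.1 (Subtype.ext e)
  have h16 := Finset.card_le_mul_card_image (f := f) Finset.univ 2 hfib
  rw [Finset.card_univ, ← Nat.card_eq_fintype_card, card_P P] at h16
  have hsub : Finset.univ.image f ⊆ Finset.univ.erase 1 := fun y hy => by
    obtain ⟨h, -, rfl⟩ := Finset.mem_image.1 hy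
    exact Finset.mem_erase.2 ⟨hf1 h, Finset.mem_univ _⟩
  have hc : (Finset.univ.erase (1 : V)).card = 8 := by decide
  have := Finset.eq_of_subset_of_card_le hsub (by omega)
  have hv' : v ∈ Finset.univ.image f := this ▸ Finset.mem_erase.2 ⟨hv, Finset.mem_univ _⟩
  obtain ⟨h, -, e⟩ := Finset.mem_image.1 hv'
  exact ⟨h, e⟩

open SemidirectProduct

theorem exists_conj_commute (ht : refl23 ∈ P) (x : Grp P)
    (hx : Commute x (inl v0)) :
    ∃ k, Commute (k * x * k⁻¹) (inr ⟨refl23, ht⟩ : Grp P) := by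
  have hh : natAct (x.right : GL23) v0 = v0 := by
    have := congrArg SemidirectProduct.left hx.eq
    simp only [mul_left, left_inl, right_inl, map_one, MulAut.one_apply] at this
    rw [mul_comm v0] at this
    exact mul_left_cancel this
  rcases stab_eq P ht _ hh with e | e
  · have hx' : x = inl x.left := SemidirectProduct.ext (by simp) (by simpa using Subtype.ext e)
    rcases eq_or_ne x.left 1 with h1 | h1
    · exact ⟨1, by rw [hx', h1]; simp⟩
    · obtain ⟨h, hm⟩ := exists_move P ht _ h1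
      refine ⟨inr h⁻¹, ?_⟩
      rw [hx', ← map_inv inr, inv_inv, ← hm]
      have : (inr h⁻¹ : Grp P) * inl (natAct (h : GL23) v0) * inr h = inl v0 := by
        rw [show natAct (h : GL23) v0 = (natAct.comp (P : Subgroup GL23).subtype) h v0 from rfl,
          inl_aut]
        group
        simp
      rw [this]
      apply SemidirectProduct.ext <;> simp [refl_facts.1]
  · obtain ⟨w, hw⟩ := refl_shift x.left
    refine ⟨inl w, ?_⟩
    have e' : x.right = ⟨refl23, ht⟩ := Subtype.ext e
    apply SemidirectProduct.ext <;> simp [e', hw]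


theorem orderOf_refl23 : orderOf refl23 = 2 :=
  orderOf_eq_prime (by rw [sq]; exact refl_facts.2.1) refl_facts.2.2.1

instance finite_Grp : Finite (Grp P) := Finite.of_equiv _ SemidirectProduct.equivProd.symm

theorem exists_rep (ht : refl23 ∈ P) (c : Grp P) :
    ∃ g : Grp P, IsConj c g ∧ ((Subgroup.zpowers (inr ⟨refl23, ht⟩ : Grp P)).subgroupOf
      (Subgroup.zpowers (inr ⟨refl23, ht⟩ : Grp P) ⊔ Subgroup.zpowers g)).IsSubnormal := by
  set t : Grp P := inr ⟨refl23, ht⟩
  have hcard : Nat.card (Grp P) = 3 ^ 2 * 2 ^ 4 := by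
    rw [SemidirectProduct.card, card_P P]
    simp
  by_cases h3 : 3 ∣ orderOf c
  · obtain ⟨m, hm⟩ : ∃ m, orderOf (c ^ m) = 3 :=
      ⟨orderOf c / 3, orderOf_pow_orderOf_div (orderOf_pos c).ne' h3⟩
    have hr : (c ^ m).right = 1 := by
      have d1 := orderOf_map_dvd (rightHom : Grp P →* ↥(P : Subgroup GL23)) (c ^ m)
      have d2 : orderOf (rightHom (c ^ m)) ∣ Nat.card ↥(P : Subgroup GL23) := orderOf_dvd_natCard _
      rw [hm] at d1
      rw [card_P P] at d2
      have hd := Nat.dvd_gcd d1 d2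
      rw [show Nat.gcd 3 16 = 1 by norm_num, Nat.dvd_one, orderOf_eq_one_iff] at hd
      exact hd
    have he : c ^ m = inl (c ^ m).left := SemidirectProduct.ext (by simp) (by simp [hr])
    have hne : (c ^ m).left ≠ 1 := fun h => by
      rw [he, h, map_one, orderOf_one] at hm
      omega
    obtain ⟨h, hh⟩ := exists_move P ht _ hne
    have hk : (inr h⁻¹ : Grp P) * c ^ m * (inr h⁻¹)⁻¹ = inl v0 := by
      rw [he, ← hh, show natAct (h : GL23) v0 = (natAct.comp (P : Subgroup GL23).subtype) h v0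
        from rfl, inl_aut]
      simp [mul_assoc]
    have hc : Commute (inr h⁻¹ * c * (inr h⁻¹)⁻¹ : Grp P) (inl v0) := by
      rw [← hk]
      exact (Commute.pow_right (Commute.refl c) m).map (MulAut.conj (inr h⁻¹ : Grp P))
    obtain ⟨k, hk2⟩ := exists_conj_commute P ht _ hc
    refine ⟨k * (inr h⁻¹ * c * (inr h⁻¹)⁻¹) * k⁻¹,
      (isConj_iff.2 ⟨_, rfl⟩).trans (isConj_iff.2 ⟨_, rfl⟩), ?_⟩
    have hle : Subgroup.zpowers t ⊔ Subgroup.zpowers (k * (inr h⁻¹ * c * (inr h⁻¹)⁻¹) * k⁻¹) ≤
        Subgroup.centralizer {t} := by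
      refine sup_le ?_ ?_ <;> rw [Subgroup.zpowers_le, Subgroup.mem_centralizer_singleton_iff]
      exact hk2.eq
    refine Subgroup.Normal.isSubnormal ⟨fun x hx y => ?_⟩
    rw [Subgroup.mem_subgroupOf] at hx ⊢
    obtain ⟨n, hn⟩ := Subgroup.mem_zpowers_iff.1 hx
    have hy : Commute (y : Grp P) t := Subgroup.mem_centralizer_singleton_iff.1 (hle y.2)
    push_cast
    rw [← hn, (hy.zpow_right n).eq, mul_inv_cancel_right]
    exact ⟨n, rfl⟩
  · obtain ⟨i, -, hi⟩ : ∃ i ≤ 4, orderOf c = 2 ^ i := by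
      apply (Nat.dvd_prime_pow Nat.prime_two).1
      have hd := orderOf_dvd_natCard c
      rw [hcard] at hd
      refine Nat.Coprime.dvd_of_dvd_mul_left ?_ hd
      exact Nat.Coprime.pow_right 2 ((Nat.Prime.coprime_iff_not_dvd (by norm_num)).2 h3).symm
    obtain ⟨Q, hQ⟩ := (IsPGroup.of_card (n := i) (by rw [Nat.card_zpowers, hi]) :
      IsPGroup 2 (Subgroup.zpowers c)).exists_le_sylow
    obtain ⟨R, hR⟩ := (IsPGroup.of_card (n := 1) (by rw [Nat.card_zpowers, orderOf_injective inr inr_injective, Subgroup.orderOf_mk,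
            orderOf_refl23, pow_one]) :
      IsPGroup 2 (Subgroup.zpowers t)).exists_le_sylow
    obtain ⟨g, hg⟩ := MulAction.exists_smul_eq (Grp P) Q R
    refine ⟨g * c * g⁻¹, isConj_iff.2 ⟨g, rfl⟩, ?_⟩
    refine Cfsg.Agent.PRed.isSubnormal_of_isPGroup (p := 2) (R.2.to_le (sup_le hR ?_)) _
    rw [Subgroup.zpowers_le]
    have hcQ : c ∈ (Q : Subgroup (Grp P)) := hQ (Subgroup.mem_zpowers c)
    have := Subgroup.smul_mem_pointwise_smul c (MulAut.conj g) (Q : Subgroup (Grp P)) hcQ
    rw [← hg]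
    exact this

/-- There is a finite solvable group G with a subgroup A of order 2 such that every conjugacy class of G contains an element g for which A is subnormal in the subgroup generated by A and g, and yet A is not contained in O_2(G). (So the corresponding criteria for odd primes fail at the prime 2, even for solvable groups.) -/
theorem result :
    ∃ (G : Type) (_ : Group G) (_ : Finite G) (A : Subgroup G), Group.IsSolvable G ∧ Nat.card A = 2 ∧
      (∀ c : G, ∃ g : G, IsConj c g ∧ (A.subgroupOf (A ⊔ Subgroup.zpowers g)).IsSubnormal) ∧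
      ¬ A ≤ Cfsg.pCore 2 G := by
  have ht2 := orderOf_refl23
  obtain ⟨P, hP⟩ := (IsPGroup.of_card (n := 1)
    (by rw [Nat.card_zpowers, ht2, pow_one]) : IsPGroup 2 (Subgroup.zpowers refl23)).exists_le_sylow
  have ht : refl23 ∈ P := hP (Subgroup.mem_zpowers _)
  let t : Grp P := inr ⟨refl23, ht⟩
  haveI hV : IsPGroup 3 V := IsPGroup.of_card (n := 2) (by simp)
  have hH : Group.IsSolvable (P : Subgroup GL23) :=
    have := P.2.isNilpotent
    inferInstance
  have hsol : Group.IsSolvable (Grp P) :=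
    Group.isSolvable_of_ker_le_range (inl : V →* Grp P) rightHom (range_inl_eq_ker_rightHom).ge
  have htA : orderOf t = 2 := by
    rw [orderOf_injective inr inr_injective, Subgroup.orderOf_mk, ht2]
  refine ⟨Grp P, inferInstance, inferInstance, Subgroup.zpowers t, hsol,
    by rw [Nat.card_zpowers, htA], fun c => ?_, ?_⟩
  · exact exists_rep P ht c
  · intro hle
    haveI : Fact (Nat.Prime 3) := ⟨by norm_num⟩
    let N : Subgroup (Grp P) := (inl : V →* Grp P).range
    have hN : N.Normal := by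
      show (inl : V →* Grp P).range.Normal
      rw [range_inl_eq_ker_rightHom]
      infer_instance
    have hN3 : IsPGroup 3 N := hV.of_surjective _ (inl : V →* Grp P).rangeRestrict_surjective
    have hdis : Disjoint (Cfsg.pCore 2 (Grp P)) N :=
      IsPGroup.disjoint_of_ne 2 3 (by norm_num) _ _ Cfsg.Agent.PCore.isPGroup_pCore hN3
    have hcomm := Subgroup.commute_of_normal_of_disjoint _ _ Cfsg.Agent.PCore.pCore_normal hN hdis
      t (inl (Multiplicative.ofAdd ![0, 1])) (hle (Subgroup.mem_zpowers t)) ⟨_, rfl⟩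
    have := congrArg SemidirectProduct.left hcomm.eq
    simp [t] at this
    exact refl_facts.2.2.2 this

end Cfsg.Agent.S4331
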