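import Cfsg.Statements.S4332
import Cfsg.Agent.Lib.PCore.Basic
import Cfsg.Agent.Lib.Perm.PrimeDegreeSimple
-- import your own Cfsg.Agent.* helpers here

set_option autoImplicit false
open Pointwise
open Cfsg

namespace Cfsg.Agent.S4332

open Equiv Equiv.Perm

/-- The 3-cycle on a 3-set disjoint from its image commutes with its conjugate. -/
theorem commute_of_disjoint (c : Perm (Fin 8)) (a b z : Fin 8)
    (haa : c a ≠ a) (hab : c a ≠ b) (haz : c a ≠ z)
    (hba : c b ≠ a) (hbb : c b ≠ b) (hbz : c b ≠ z)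
    (hza : c z ≠ a) (hzb : c z ≠ b) (hzz : c z ≠ z) :
    Commute (swap a b * swap a z) (c * (swap a b * swap a z) * c⁻¹) := by
  apply Perm.Disjoint.commute
  intro p
  by_cases hp : p = a ∨ p = b ∨ p = z
  · right
    have h : c⁻¹ p ≠ a ∧ c⁻¹ p ≠ b ∧ c⁻¹ p ≠ z := by
      refine ⟨?_, ?_, ?_⟩ <;> intro h <;>
        · have h' : c (c⁻¹ p) = p := c.apply_symm_apply p
          rw [h] at h'
          rcases hp with rfl | rfl | rfl <;> simp_all
    rw [Perm.mul_apply, Perm.mul_apply, Perm.mul_apply, swap_apply_of_ne_of_ne h.1 h.2.2,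
      swap_apply_of_ne_of_ne h.1 h.2.1]
    exact c.apply_symm_apply p
  · left
    push Not at hp
    rw [Perm.mul_apply, swap_apply_of_ne_of_ne hp.1 hp.2.2, swap_apply_of_ne_of_ne hp.1 hp.2.1]

theorem exists_threeCycle_commute_conj (c : Perm (Fin 8)) :
    ∃ h : Perm (Fin 8), h.IsThreeCycle ∧ Commute h (c * h * c⁻¹) := by
  classical
  by_cases h3 : ∃ a, c a ≠ a ∧ c (c (c a)) = a
  · obtain ⟨a, ha, ha3⟩ := h3
    have hab : a ≠ c a := fun h => ha h.symm
    have haz : a ≠ c (c a) := fun h => ha <| by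
      have := congrArg c h
      rw [ha3] at this
      exact this
    have hbz : c a ≠ c (c a) := fun h => hab (c.injective h)
    refine ⟨swap a (c a) * swap a (c (c a)), isThreeCycle_swap_mul_swap_same hab haz hbz, ?_⟩
    have e : c * (swap a (c a) * swap a (c (c a))) * c⁻¹ = swap a (c a) * swap a (c (c a)) := by
      rw [show c * (swap a (c a) * swap a (c (c a))) * c⁻¹ =
        (c * swap a (c a) * c⁻¹) * (c * swap a (c (c a)) * c⁻¹) by group]
      rw [← swap_apply_apply, ← swap_apply_apply, ha3]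
      ext p
      simp only [Perm.mul_apply, swap_apply_def]
      split_ifs <;> simp_all
    rw [e]
  push Not at h3
  by_cases h5 : 2 < ({x | c x = x} : Finset (Fin 8)).card
  · obtain ⟨a, b, z, ha, hb, hz, hab, haz, hbz⟩ := Finset.two_lt_card_iff.1 h5
    simp only [Finset.mem_filter, Finset.mem_univ, true_and] at ha hb hz
    refine ⟨swap a b * swap a z, isThreeCycle_swap_mul_swap_same hab haz hbz, ?_⟩
    have e : c * (swap a b * swap a z) * c⁻¹ = swap a b * swap a z := by
      rw [show c * (swap a b * swap a z) * c⁻¹ = (c * swap a b * c⁻¹) * (c * swap a z * c⁻¹) by group]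
      rw [← swap_apply_apply, ← swap_apply_apply, ha, hb, hz]
    rw [e]
  have hmoved : 6 ≤ ({x | c x ≠ x} : Finset (Fin 8)).card := by
    have h := Finset.card_filter_add_card_filter_not (s := (Finset.univ : Finset (Fin 8)))
      (fun x => c x = x)
    rw [Finset.card_univ, Fintype.card_fin] at h
    simp only [ne_eq] at h ⊢
    omega
  obtain ⟨a, b, t, ha, hb, hne, hab, hba, ht, ha', hb', hca, hcb, hia, hib⟩ :
      ∃ a b, ∃ t : Finset (Fin 8), c a ≠ a ∧ c b ≠ b ∧ b ≠ a ∧ c a ≠ b ∧ c b ≠ a ∧ t.card ≤ 5 ∧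
        a ∈ t ∧ b ∈ t ∧ c a ∈ t ∧ c b ∈ t ∧ c.symm a ∈ t ∧ c.symm b ∈ t := by
    by_cases h2 : ∃ a, c a ≠ a ∧ c (c a) ≠ a
    · obtain ⟨a, ha, ha2⟩ := h2
      refine ⟨a, c (c a), {a, c (c a), c a, c (c (c a)), c.symm a}, ha,
        fun h => ha (c.injective (c.injective h)), ha2, fun h => ha (c.injective h).symm, h3 a ha,
        Finset.card_le_five, ?_⟩
      simp
    · push Not at h2
      obtain ⟨a, ha⟩ := Finset.card_pos.1 (lt_of_lt_of_le (by omega) hmoved)
      simp only [Finset.mem_filter, Finset.mem_univ, true_and] at ha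
      obtain ⟨b, hb, hb'⟩ := Finset.exists_mem_notMem_of_card_lt_card
        (s := ({a, c a} : Finset (Fin 8))) (t := ({x | c x ≠ x} : Finset (Fin 8)))
        (lt_of_le_of_lt Finset.card_le_two (by omega))
      simp only [Finset.mem_filter, Finset.mem_univ, true_and, Finset.mem_insert,
        Finset.mem_singleton, not_or] at hb hb'
      have hca : c.symm a = c a := c.symm_apply_eq.2 (h2 a ha).symm
      have hcb : c.symm b = c b := c.symm_apply_eq.2 (h2 b hb).symm
      refine ⟨a, b, {a, b, c a, c b}, ha, hb, hb'.1, Ne.symm hb'.2, fun h => hb'.2 ?_,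
        Finset.card_le_four.trans (by omega), ?_⟩
      · rw [← h, h2 b hb]
      · simp [hca, hcb]
  obtain ⟨z, hz, hz'⟩ := Finset.exists_mem_notMem_of_card_lt_card
    (s := t) (t := ({x | c x ≠ x} : Finset (Fin 8))) (by omega)
  simp only [Finset.mem_filter, Finset.mem_univ, true_and] at hz
  have hza : z ≠ a := fun h => hz' (h ▸ ha')
  have hzb : z ≠ b := fun h => hz' (h ▸ hb')
  refine ⟨swap a b * swap a z,
    isThreeCycle_swap_mul_swap_same hne.symm hza.symm hzb.symm,
    commute_of_disjoint c a b z ha hab (fun h => hz' (h ▸ hca)) hba hb (fun h => hz' (h ▸ hcb))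
      ?_ ?_ hz⟩
  · intro h
    rw [← h, c.symm_apply_apply] at hia
    exact hz' hia
  · intro h
    rw [← h, c.symm_apply_apply] at hib
    exact hz' hib

/-- In the symmetric group of degree 8, let A be the subgroup generated by a 3-cycle. Then every conjugacy class contains an element g for which A is subnormal in the subgroup generated by A and its conjugate by g, although O_3 of the symmetric group of degree 8 is trivial. -/
theorem result
    (σ : Equiv.Perm (Fin 8)) (hσ : σ.IsThreeCycle) :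
    (∀ c : Equiv.Perm (Fin 8), ∃ g : Equiv.Perm (Fin 8), IsConj c g ∧
      ((Subgroup.zpowers σ).subgroupOf (Subgroup.zpowers σ ⊔ MulAut.conj g • Subgroup.zpowers σ)).IsSubnormal) ∧
    Cfsg.pCore 3 (Equiv.Perm (Fin 8)) = ⊥ := by
  constructor
  · intro c
    obtain ⟨h, hh, hcomm⟩ := exists_threeCycle_commute_conj c
    obtain ⟨k, hk⟩ := isConj_iff.1 (isConj_iff_cycleType_eq.2 (hh.trans hσ.symm))
    refine ⟨k * c * k⁻¹, isConj_iff.2 ⟨k, rfl⟩, ?_⟩
    subst hk
    have hc : Commute (k * h * k⁻¹) (k * (c * h * c⁻¹) * k⁻¹) := hcomm.map (MulAut.conj k)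
    have hle : Subgroup.zpowers (k * h * k⁻¹) ⊔
        MulAut.conj (k * c * k⁻¹) • Subgroup.zpowers (k * h * k⁻¹) ≤
          Subgroup.centralizer {k * h * k⁻¹} := by
      refine sup_le ?_ ?_
      · rw [Subgroup.zpowers_le, Subgroup.mem_centralizer_singleton_iff]
      · intro x hx
        obtain ⟨y, hy, rfl⟩ := Subgroup.mem_map.1 hx
        obtain ⟨m, rfl⟩ := Subgroup.mem_zpowers_iff.1 hy
        show MulAut.conj (k * c * k⁻¹) ((k * h * k⁻¹) ^ m) ∈ _
        rw [map_zpow]
        refine Subgroup.zpow_mem _ (Subgroup.mem_centralizer_singleton_iff.2 ?_) m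
        have e : k * c * k⁻¹ * (k * h * k⁻¹) * (k * c * k⁻¹)⁻¹ = k * (c * h * c⁻¹) * k⁻¹ := by
          group
        rw [MulAut.conj_apply, e]
        exact hc.eq.symm
    refine Subgroup.Normal.isSubnormal ⟨fun x hx y => ?_⟩
    rw [Subgroup.mem_subgroupOf] at hx ⊢
    obtain ⟨n, hn⟩ := Subgroup.mem_zpowers_iff.1 hx
    have hy : Commute (y : Equiv.Perm (Fin 8)) (k * h * k⁻¹) :=
      Subgroup.mem_centralizer_singleton_iff.1 (hle y.2)
    push_cast
    rw [← hn, (hy.zpow_right n).eq, mul_inv_cancel_right]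
    exact ⟨n, rfl⟩
  · rw [Cfsg.Agent.PCore.pCore_eq_bot_iff]
    intro N hN hP
    by_contra hne
    haveI := hN
    haveI := Cfsg.Agent.Perm.normal_isPretransitive (α := Fin 8) N hne
    haveI : Fact (Nat.Prime 3) := ⟨by norm_num⟩
    obtain ⟨n, hn⟩ := IsPGroup.iff_card.1 hP
    have h8 := Cfsg.Agent.Perm.card_eq_degree_mul N (0 : Fin 8)
    rw [hn, Nat.card_fin] at h8
    have h2 : 2 ∣ 3 ^ n := ⟨4 * Nat.card (MulAction.stabilizer N (0 : Fin 8)), by rw [h8]; ring⟩
    have := Nat.Prime.dvd_of_dvd_pow Nat.prime_two h2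
    omega

end Cfsg.Agent.S4332
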