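import Cfsg.Statements.S4333
import Cfsg.Agent.Lib.Subnormal.Zipper
-- import your own Cfsg.Agent.* helpers here

set_option autoImplicit false
open Pointwise
open Cfsg

namespace Cfsg.Agent.S4333

open Cfsg.Agent.Subnormal

theorem aux : ∀ (n : ℕ) (G : Type*) [Group G] [Finite G] (A : Subgroup G), Nat.card G = n →
    (∀ a ∈ A, ∀ g : G, SN A (A ⊔ cj (g⁻¹ * a * g) A)) → A.IsSubnormal := by
  intro n
  induction n using Nat.strong_induction_on with
  | _ n ih =>
    intro G _ _ A hn h
    subst hn
    have hrec : ∀ W : Subgroup G, A ≤ W → W ≠ ⊤ → SN A W := by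
      intro W hAW hW
      refine ⟨hAW, ih _ ?_ W (A.subgroupOf W) rfl fun a ha g => ?_⟩
      · exact lt_of_le_of_ne (Subgroup.card_le_card_group W)
          fun h => hW ((Subgroup.card_eq_iff_eq_top W).mp h)
      · refine ⟨le_sup_left, ?_⟩
        set J : Subgroup W := A.subgroupOf W ⊔ cj (g⁻¹ * a * g) (A.subgroupOf W) with hJ
        have hJmap : J.map W.subtype = A ⊔ cj ((g : G)⁻¹ * a * g) A := by
          rw [hJ, Subgroup.map_sup, Subgroup.map_subgroupOf_eq_of_le hAW, cj, Subgroup.map_map]
          congr 1
          calc (A.subgroupOf W).map (W.subtype.comp (MulAut.conj (g⁻¹ * a * g)).toMonoidHom)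
              = ((A.subgroupOf W).map W.subtype).map
                  (MulAut.conj ((g : G)⁻¹ * a * g)).toMonoidHom := by
                rw [Subgroup.map_map]; congr 1
            _ = _ := by rw [Subgroup.map_subgroupOf_eq_of_le hAW]
        obtain ⟨-, hs⟩ := h a ha g
        rw [← hJmap] at hs
        let e : J ≃* J.map W.subtype := J.equivMapOfInjective W.subtype W.subtype_injective
        have he : (A.subgroupOf (J.map W.subtype)).comap e.toMonoidHom = (A.subgroupOf W).subgroupOf J := by
          ext x
          rfl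
        rw [← he]
        exact hs.comap e.toMonoidHom
    set N := Subgroup.normalClosure (A : Set G) with hN
    have hAN : A ≤ N := Subgroup.subset_normalClosure
    rcases ne_or_eq N ⊤ with hNt | hNt
    · have hNn : N.Normal := Subgroup.normalClosure_normal
      exact sn_top_iff.mp (sn_trans (hrec N hAN hNt) (sn_top_iff.mpr hNn.isSubnormal))
    by_cases hA : A = ⊤
    · rw [hA]
      exact (inferInstance : (⊤ : Subgroup G).Normal).isSubnormal
    exfalso
    have hnsn : ¬ SN A ⊤ := fun hh => by
      have h1 := cl_lt hh hA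
      rw [cl_top_eq_normalClosure, ← hN, hNt] at h1
      exact lt_irrefl _ h1
    have huniq := coatom_unique hNt
      (fun P Q hP hQ hAP hAQ hnP _ => absurd (hrec P hAP hP.1) hnP)
    obtain ⟨M, hM, hAM⟩ := (eq_top_or_exists_le_coatom A).resolve_left hA
    apply hM.1
    refine eq_top_of_normal_of_le (A := A) hNt ?_ hAM
    have hmem : ∀ a ∈ A, ∀ g : G, g⁻¹ * a * g ∈ M := by
      intro a ha g
      set b := g⁻¹ * a * g with hb
      have hJ : A ⊔ cj b A ≠ ⊤ := fun ht => hnsn (ht ▸ h a ha g)
      obtain ⟨P, hP, hJP⟩ := (eq_top_or_exists_le_coatom (A ⊔ cj b A)).resolve_left hJ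
      obtain rfl : P = M := huniq P M hP hM (le_sup_left.trans hJP) hAM
      have hbA : cj b A ≤ P := le_sup_right.trans hJP
      have h1 : cj b⁻¹ P = P := huniq _ _ (isCoatom_cj hP _) hP
        ((cj_inv_cj b A).ge.trans (cj_mono hbA)) hAM
      refine mem_of_cj_eq hNt hP hAM ?_
      conv_lhs => rw [← h1]
      exact cj_cj_inv b P
    refine Subgroup.normalizer_eq_top_iff.mp ?_
    rw [eq_top_iff, ← hNt]
    refine (Subgroup.closure_le _).mpr ?_
    intro x hx
    obtain ⟨a, ha, hc⟩ := Group.mem_conjugatesOfSet_iff.mp hx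
    obtain ⟨c, hc⟩ := isConj_iff.mp hc
    refine Subgroup.le_normalizer ?_
    have := hmem a ha c⁻¹
    rwa [inv_inv, hc] at this

/-- Let A be a subgroup of a finite group G. If A is subnormal in the subgroup generated by A and its conjugate by g⁻¹ a g, for every a ∈ A and every g ∈ G, then A is subnormal in G. (A sharpening of Wielandt's subnormality criterion: only conjugates of A by conjugates of elements of A are needed.) -/
theorem result {G : Type*} [Group G] [Finite G]
    (A : Subgroup G)
    (h : ∀ a ∈ A, ∀ g : G, (A.subgroupOf (A ⊔ MulAut.conj (g⁻¹ * a * g) • A)).IsSubnormal) :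
    A.IsSubnormal := by
  exact aux _ G A rfl fun a ha g => ⟨le_sup_left, h a ha g⟩

end Cfsg.Agent.S4333
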