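import Cfsg.Statements.S4334
import Cfsg.Agent.S0581
import Cfsg.Agent.Lib.Transfer.Frobenius
import Cfsg.Agent.Lib.Transfer.Fusion
import Cfsg.Agent.Lib.Coprime.Sylow
import Cfsg.Agent.Lib.Subnormal.Nilpotent
import Cfsg.Agent.Lib.ConjFun.Basic

set_option autoImplicit false
open Cfsg

namespace Cfsg.Agent.S4334

open Transfer Subgroup

universe u

variable {G : Type u} [Group G] [Finite G]

/-- Every prime divisor of the order of a member of a `π`-subgroup lies in `π`. -/
theorem mem_of_dvd_orderOf {π : Set ℕ} {K : Subgroup G} (hK : Cfsg.IsPiSubgroup π K) {g : G}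
    (hg : g ∈ K) {r : ℕ} (hr : r.Prime) (h : r ∣ orderOf g) : r ∈ π :=
  hK r hr (h.trans (Subgroup.orderOf_dvd_natCard K hg))

/-- `g` centralizes `U` when every prime divisor of its order avoids the index of `C(U)`. -/
theorem mem_centralizer_of_coprime_index {U : Subgroup G} {g : G}
    (hg : g ∈ normalizer (U : Set G))
    (h : ∀ r : ℕ, r.Prime → r ∣ orderOf g → ¬ r ∣ (centralizer (U : Set G)).index) :
    g ∈ centralizer (U : Set G) := by
  set N := normalizer (U : Set G) with hN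
  set C := (centralizer (U : Set G)).subgroupOf N with hC
  haveI : C.Normal := ⟨fun c hc n => by
    rw [hC, mem_subgroupOf, mem_centralizer_iff]
    intro a ha
    have h1 := mem_centralizer_iff.mp (mem_subgroupOf.mp hc) _ ((mem_normalizer_iff''.mp n.2 a).mp ha)
    simp only [Subgroup.coe_mul, Subgroup.coe_inv]
    calc a * ((n : G) * c * (n : G)⁻¹) = (n : G) * ((n : G)⁻¹ * a * n * c) * (n : G)⁻¹ := by group
      _ = (n : G) * (c * ((n : G)⁻¹ * a * n)) * (n : G)⁻¹ := by rw [h1]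
      _ = (n : G) * c * (n : G)⁻¹ * a := by group⟩
  have h1 : orderOf (QuotientGroup.mk' C ⟨g, hg⟩) = 1 := by
    refine Nat.eq_one_of_dvd_coprimes (a := orderOf g) (b := C.index) ?_ ?_ ?_
    · refine Nat.coprime_of_dvd fun r hr hrg hrC => h r hr hrg (hrC.trans ?_)
      exact relIndex_dvd_index_of_le (centralizer_le_normalizer _)
    · exact (orderOf_map_dvd _ _).trans (Subgroup.orderOf_mk g hg).dvd
    · rw [index_eq_card]
      exact orderOf_dvd_natCard _
  exact mem_subgroupOf.mp ((QuotientGroup.eq_one_iff _).mp (orderOf_eq_one_iff.mp h1))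

theorem centralizer_index_conj (U : Subgroup G) (x : G) :
    (centralizer ((U.map (MulAut.conj x).toMonoidHom : Subgroup G) : Set G)).index =
      (centralizer (U : Set G)).index := by
  rw [← ConjFun.conjMap_centralizer]
  exact Subgroup.index_map_of_bijective (MulAut.conj x).bijective _

/-- A prime with a Sylow subgroup inside does not divide the index. -/
theorem not_dvd_index_of_sylow_le {r : ℕ} [Fact r.Prime] {C : Subgroup G} (R : Sylow r G)
    (h : (R : Subgroup G) ≤ C) : ¬ r ∣ C.index := fun hd =>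
  R.not_dvd_index (hd.trans (index_dvd_of_le h))

theorem index_coprime_of_sup {π σ τ : Set ℕ} (hd : Disjoint σ τ) {H Hs Ht : Subgroup G}
    (hH : Cfsg.IsPiHall π H) (hs : Cfsg.IsPiSubgroup σ Hs) (ht : Cfsg.IsPiSubgroup τ Ht) (hjoin : Hs ⊔ Ht = H)
    (hcomm : ∀ a ∈ Hs, ∀ b ∈ Ht, a * b = b * a) {r : ℕ} (hr : r.Prime) (hrπ : r ∈ π) (hrτ : r ∈ τ) :
    ¬ r ∣ Ht.index := by
  intro hri
  have hHtH : Ht ≤ H := hjoin ▸ le_sup_right
  rw [← relIndex_mul_index hHtH] at hri
  rcases hr.dvd_mul.mp hri with h | h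
  · refine Set.disjoint_left.mp hd (hs r hr (h.trans ?_)) hrτ
    rw [← hjoin]
    have hn : Hs ≤ normalizer (Ht : Set G) := fun a ha => mem_normalizer_of_conj_mem fun b hb => by
      rw [hcomm a ha b hb, mul_inv_cancel_right]; exact hb
    have hHtp : Nat.card Ht * Ht.relIndex H = Nat.card H := by
      have := (Ht.subgroupOf H).card_mul_index
      rwa [Nat.card_congr (subgroupOfEquivOfLe hHtH).toEquiv] at this
    have hle : Nat.card H ∣ Nat.card Hs * Nat.card Ht := by
      rw [← hjoin, Cfsg.Agent.Coprime.card_sup_of_le_normalizer hn]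
      exact disjoint_iff.mp (Subgroup.disjoint_of_coprime_natCard (Nat.coprime_of_dvd fun s hsp h1 h2 =>
        Set.disjoint_left.mp hd (hs s hsp h1) (ht s hsp h2)))
    rw [hjoin]
    rw [← hHtp, mul_comm (Nat.card Hs)] at hle
    exact Nat.dvd_of_mul_dvd_mul_left Nat.card_pos hle
  · exact hH.2 r hr hrπ h

/-- Every π-subgroup lies in a conjugate of `H`. -/
theorem exists_conj_le (σ τ π : Set ℕ) (hπ : π = σ ∪ τ) (hd : Disjoint σ τ) (H Hs Ht : Subgroup G)
    (hH : Cfsg.IsPiHall π H) (hs : Cfsg.IsPiSubgroup σ Hs) (ht : Cfsg.IsPiSubgroup τ Ht)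
    (hsn : Group.IsNilpotent Hs) (hjoin : Hs ⊔ Ht = H) (hcomm : ∀ a ∈ Hs, ∀ b ∈ Ht, a * b = b * a)
    (hD : Cfsg.IsDPiGroup τ G) (K : Subgroup G) (hK : Cfsg.IsPiSubgroup π K) :
    ∃ g : G, K ≤ H.map (MulAut.conj g).toMonoidHom := by
  classical
  have hσπ : ∀ r ∈ σ, r ∈ π := fun r hr => hπ ▸ Or.inl hr
  have hτπ : ∀ r ∈ τ, r ∈ π := fun r hr => hπ ▸ Or.inr hr
  have hHs : ∀ r : ℕ, r.Prime → r ∈ σ → ¬ r ∣ Hs.index := fun r hr hrσ =>
    index_coprime_of_sup hd.symm hH ht hs (sup_comm Hs Ht ▸ hjoin) (fun a ha b hb => (hcomm b hb a ha).symm)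
      hr (hσπ r hrσ) hrσ
  have hHt : ∀ r : ℕ, r.Prime → r ∈ τ → ¬ r ∣ Ht.index := fun r hr hrτ =>
    index_coprime_of_sup hd hH hs ht hjoin hcomm hr (hτπ r hrτ) hrτ
  -- `τ`-subgroups lie in conjugates of `Ht`
  have hτle : ∀ L : Subgroup G, Cfsg.IsPiSubgroup τ L →
      ∃ x : G, L ≤ Ht.map (MulAut.conj x).toMonoidHom := by
    intro L hL
    obtain ⟨M, hLM, hM⟩ := (Set.toFinite {M : Subgroup G | Cfsg.IsPiSubgroup τ M}).exists_le_maximal hL
    have hHtmax : Maximal (Cfsg.IsPiSubgroup τ) Ht := by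
      refine ⟨ht, fun M' hM' hle => ?_⟩
      have : Ht.relIndex M' = 1 := by
        by_contra hne
        obtain ⟨r, hr, hrd⟩ := Nat.exists_prime_and_dvd hne
        exact hHt r hr (hM' r hr (hrd.trans (relIndex_dvd_card _ _)))
          (hrd.trans (relIndex_dvd_index_of_le hle))
      exact relIndex_eq_one.mp this
    obtain ⟨x, hx⟩ := hD Ht M hHtmax hM
    exact ⟨x, hLM.trans hx.le⟩
  -- `σ`: automizers of `q`-subgroups
  have hauto : ∀ (q : ℕ) [Fact q.Prime], q ∈ σ → ∀ U : Subgroup G, IsPGroup q U →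
      ∀ g ∈ K, g ∈ normalizer (U : Set G) → (orderOf g).Coprime q → g ∈ centralizer (U : Set G) := by
    intro q hq hqσ U hU g hgK hgN hgq
    obtain ⟨j, hj⟩ := hU.exists_card_eq
    obtain ⟨x, hx⟩ := S0581.wielandt _ G Hs U rfl hsn fun r hr hrU => by
      rw [hj] at hrU
      rw [(Nat.prime_dvd_prime_iff_eq hr hq.out).mp (hr.dvd_of_dvd_pow hrU)]
      exact hHs q hq.out hqσ
    refine mem_centralizer_of_coprime_index hgN fun r hr hrg hrC => ?_
    have hrπ : r ∈ π := mem_of_dvd_orderOf hK hgK hr hrg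
    have hrq : r ≠ q := fun h => (hq.out.coprime_iff_not_dvd.mp hgq.symm) (h ▸ hrg)
    haveI := Fact.mk hr
    set U₀ := U.map (MulAut.conj x⁻¹).toMonoidHom with hU₀
    have hU₀s : U₀ ≤ Hs := by
      rintro _ ⟨u, hu, rfl⟩
      obtain ⟨a, ha, rfl⟩ := hx hu
      simpa [MulAut.conj_apply, mul_assoc] using ha
    rw [← centralizer_index_conj U x⁻¹, ← hU₀] at hrC
    rw [hπ] at hrπ
    rcases hrπ with hrσ | hrτ
    · obtain ⟨R⟩ : Nonempty (Sylow r ↥Hs) := inferInstance
      refine hHs r hr hrσ ?_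
      have hRC : (R : Subgroup ↥Hs).map Hs.subtype ≤ centralizer (U₀ : Set G) := by
        rintro _ ⟨y, hy, rfl⟩
        rw [mem_centralizer_iff]
        intro u hu
        haveI := hsn
        obtain ⟨i, hi⟩ := (hU.map (MulAut.conj x⁻¹).toMonoidHom) ⟨u, hu⟩
        obtain ⟨l, hl⟩ := IsPGroup.iff_orderOf.mp R.2 ⟨y, hy⟩
        rw [Subgroup.orderOf_mk] at hl
        have hyq : (orderOf y).Coprime q := by
          rw [hl]
          exact ((Nat.coprime_primes hr hq.out).mpr hrq).pow_left l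
        have := Subnormal.commute_of_coprime (u := (⟨u, hU₀s hu⟩ : ↥Hs)) (k := i)
          (Subtype.ext (by
            have h := congrArg Subtype.val hi
            push_cast at h ⊢
            exact h)) hyq
        exact (congrArg Subtype.val this.eq).symm
      have h1 : r ∣ ((R : Subgroup ↥Hs).map Hs.subtype).index := hrC.trans (index_dvd_of_le hRC)
      rw [index_map_subtype] at h1
      exact (hr.dvd_mul.mp h1).resolve_left R.not_dvd_index
    · refine hHt r hr hrτ (hrC.trans (index_dvd_of_le ?_))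
      exact fun b hb => mem_centralizer_iff.mpr fun a ha => hcomm a (hU₀s ha) b hb
  -- normal `q`-complements
  have hcompl : ∀ q : ℕ, q.Prime → q ∈ σ → ∃ N : Subgroup ↥K, N.Normal ∧ ¬ q ∣ Nat.card N ∧
      ∀ r : ℕ, r.Prime → r ∣ N.index → r = q := by
    intro q hq hqσ
    haveI := Fact.mk hq
    obtain ⟨P⟩ : Nonempty (Sylow q ↥K) := inferInstance
    obtain ⟨P', N, hN, hc⟩ := hasNormalPComplement_of_centralizer P fun U hU g hg hgq => by
      have hgN : (g : G) ∈ normalizer ((U.map K.subtype : Subgroup G) : Set G) :=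
        le_normalizer_map K.subtype ⟨g, hg, rfl⟩
      have h1 := hauto q hqσ (U.map K.subtype) ((P.2.to_le hU).map _) g g.2 hgN
        (by rwa [Subgroup.orderOf_coe])
      exact mem_centralizer_iff.mpr fun a ha => Subtype.ext
        (mem_centralizer_iff.mp h1 _ ⟨a, ha, rfl⟩)
    refine ⟨N, hN, fun hdN => ?_, fun r hr hrN => ?_⟩
    · have hi : (P' : Subgroup ↥K).index = Nat.card N := hc.index_eq_card
      exact P'.not_dvd_index (hi ▸ hdN)
    · rw [hc.symm.index_eq_card, P'.card_eq_multiplicity] at hrN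
      exact (Nat.prime_dvd_prime_iff_eq hr hq).mp (hr.dvd_of_dvd_pow hrN)
  choose N hNn hNc hNi using hcompl
  set T : Subgroup ↥K := ⨅ (q : ℕ) (hq : q.Prime) (hσ : q ∈ σ), N q hq hσ with hT
  have hTmem : ∀ (z : ↥K), z ∈ T ↔ ∀ (q : ℕ) (hq : q.Prime) (hσ : q ∈ σ), z ∈ N q hq hσ := fun z => by
    simp [hT, Subgroup.mem_iInf]
  haveI hTn : T.Normal := ⟨fun z hz w => (hTmem _).mpr fun q hq hσ =>
    (hNn q hq hσ).conj_mem z ((hTmem z).mp hz q hq hσ) w⟩
  have hTτ : ∀ r : ℕ, r.Prime → r ∣ Nat.card T → r ∈ τ := by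
    intro r hr hrT
    have hrπ : r ∈ π := hK r hr (hrT.trans (card_subgroup_dvd_card T))
    rw [hπ] at hrπ
    refine hrπ.resolve_left fun hrσ => hNc r hr hrσ (hrT.trans (card_dvd_of_le ?_))
    exact fun z hz => (hTmem z).mp hz r hr hrσ
  have hTσ : ∀ r : ℕ, r.Prime → r ∣ T.index → r ∈ σ := by
    intro r hr hrT
    have hrπ : r ∈ π := hK r hr (hrT.trans (index_dvd_card T))
    rw [hπ] at hrπ
    refine hrπ.resolve_right fun hrτ => ?_
    haveI := Fact.mk hr
    obtain ⟨R⟩ : Nonempty (Sylow r ↥K) := inferInstance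
    refine R.not_dvd_index (hrT.trans (index_dvd_of_le fun z hz => (hTmem z).mpr fun q hq hσ => ?_))
    haveI := hNn q hq hσ
    obtain ⟨j, hj⟩ := IsPGroup.iff_orderOf.mp R.2 ⟨z, hz⟩
    rw [Subgroup.orderOf_mk] at hj
    have h1 : orderOf (QuotientGroup.mk' (N q hq hσ) z) = 1 := by
      refine Nat.eq_one_of_dvd_coprimes (a := orderOf z) (b := (N q hq hσ).index) ?_
        (orderOf_map_dvd _ _) (by rw [index_eq_card]; exact orderOf_dvd_natCard _)
      refine Nat.coprime_of_dvd fun s hsp hs1 hs2 => ?_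
      rw [hj] at hs1
      have e1 := (Nat.prime_dvd_prime_iff_eq hsp hr).mp (hsp.dvd_of_dvd_pow hs1)
      have e2 := hNi q hq hσ s hsp hs2
      exact Set.disjoint_left.mp hd hσ (e2 ▸ e1 ▸ hrτ)
    exact (QuotientGroup.eq_one_iff z).mp (orderOf_eq_one_iff.mp h1)
  obtain ⟨Kσ, hKσ⟩ := exists_right_complement'_of_coprime (N := T)
    (Nat.coprime_of_dvd fun r hr h1 h2 => Set.disjoint_left.mp hd (hTσ r hr h2) (hTτ r hr h1))
  have hKσc : ∀ r : ℕ, r.Prime → r ∣ Nat.card Kσ → r ∈ σ := fun r hr h =>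
    hTσ r hr (hKσ.symm.index_eq_card ▸ h)
  set T' := T.map K.subtype with hT'
  have hT'K : T' ≤ K := map_subtype_le T
  have hT'c : Nat.card T' = Nat.card T := card_map_of_injective K.subtype_injective
  -- `τ`-subgroups are centralized by `σ`-elements normalizing them
  have hτc : ∀ R : Subgroup G, Cfsg.IsPiSubgroup τ R → ∀ g : G,
      (∀ r : ℕ, r.Prime → r ∣ orderOf g → r ∈ σ) → g ∈ normalizer (R : Set G) →
      g ∈ centralizer (R : Set G) := by
    intro R hR g hgσ hgN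
    obtain ⟨x, hx⟩ := hτle R hR
    refine mem_centralizer_of_coprime_index hgN fun r hr hrg hrC => ?_
    refine hHs r hr (hgσ r hr hrg) ?_
    rw [← centralizer_index_conj R x⁻¹] at hrC
    refine hrC.trans (index_dvd_of_le fun a ha => mem_centralizer_iff.mpr ?_)
    rintro _ ⟨u, hu, rfl⟩
    obtain ⟨b, hb, rfl⟩ := hx hu
    have : (MulAut.conj x⁻¹).toMonoidHom ((MulAut.conj x).toMonoidHom b) = b := by
      simp [MulAut.conj_apply, mul_assoc]
    rw [this]
    exact (hcomm a ha b hb).symm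
  -- the complement centralizes `T`
  have hcent : ∀ z ∈ Kσ, (z : G) ∈ centralizer (T' : Set G) := by
    suffices htop : (centralizer (T' : Set G)).subgroupOf K ⊓ Kσ = Kσ by
      exact fun z hz => (mem_inf.mp (htop.ge hz)).1
    refine le_antisymm inf_le_right ?_
    rw [← subgroupOf_eq_top]
    refine Components.eq_top_of_forall_sylow fun q hq hqd => ?_
    haveI := Fact.mk hq
    obtain ⟨Q⟩ : Nonempty (Sylow q ↥Kσ) := inferInstance
    refine ⟨Q, fun z hz => mem_subgroupOf.mpr (mem_inf.mpr ⟨mem_subgroupOf.mpr ?_, z.2⟩)⟩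
    set w : G := ((z : ↥K) : G) with hw
    obtain ⟨j, hj⟩ := IsPGroup.iff_orderOf.mp Q.2 ⟨z, hz⟩
    rw [Subgroup.orderOf_mk] at hj
    have hwo : orderOf w = q ^ j := by rw [hw, Subgroup.orderOf_coe, Subgroup.orderOf_coe, hj]
    have hqσ : q ∈ σ := hKσc q hq hqd
    have hzT : zpowers w ≤ normalizer (T' : Set G) := zpowers_le.mpr
      (le_normalizer_map K.subtype ⟨(z : ↥K), (normalizer_eq_top (H := T)).ge (mem_top _), rfl⟩)
    have hcop : (Nat.card (zpowers w)).Coprime (Nat.card T') := by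
      rw [Nat.card_zpowers, hwo, hT'c]
      refine Nat.Coprime.pow_left j (hq.coprime_iff_not_dvd.mpr fun h => ?_)
      exact Set.disjoint_left.mp hd hqσ (hTτ q hq h)
    have hsol : Group.IsSolvable ↥(zpowers w) := inferInstance
    -- `w` centralizes an invariant Sylow subgroup of `T'` for each prime
    have hcw : (centralizer ({w} : Set G)).subgroupOf T' = ⊤ := by
      refine Components.eq_top_of_forall_sylow fun r hr hrd => ?_
      haveI := Fact.mk hr
      obtain ⟨R, hR⟩ := Coprime.exists_invariant_sylow hzT hcop (Or.inl hsol) r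
      refine ⟨R, fun y hy => mem_subgroupOf.mpr (mem_centralizer_singleton_iff.mpr ?_)⟩
      have hRτ : Cfsg.IsPiSubgroup τ ((R : Subgroup ↥T').map T'.subtype) := fun s hs' hsd =>
        hTτ s hs' (hT'c ▸ hsd.trans (card_dvd_of_le (map_subtype_le _)))
      have hwR := hτc _ hRτ w (fun s hs' hsd => by
        rw [hwo] at hsd
        rw [(Nat.prime_dvd_prime_iff_eq hs' hq).mp (hs'.dvd_of_dvd_pow hsd)]
        exact hqσ) (hR (mem_zpowers w))
      exact mem_centralizer_iff.mp hwR _ ⟨y, hy, rfl⟩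
    refine mem_centralizer_iff.mpr fun a ha => ?_
    exact mem_centralizer_singleton_iff.mp (mem_subgroupOf.mp (hcw.ge (mem_top ⟨a, ha⟩)))
  -- move into `H`
  obtain ⟨x, hx⟩ := hτle T' fun r hr h => hTτ r hr (hT'c ▸ h)
  set C := centralizer (T' : Set G) with hC
  set Hx := Hs.map (MulAut.conj x).toMonoidHom with hHx
  have hHxC : Hx ≤ C := by
    rintro _ ⟨a, ha, rfl⟩
    refine mem_centralizer_iff.mpr fun t ht => ?_
    obtain ⟨b, hb, rfl⟩ := hx ht
    show x * b * x⁻¹ * (x * a * x⁻¹) = x * a * x⁻¹ * (x * b * x⁻¹)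
    calc x * b * x⁻¹ * (x * a * x⁻¹) = x * (b * a) * x⁻¹ := by group
      _ = x * (a * b) * x⁻¹ := by rw [hcomm a ha b hb]
      _ = _ := by group
  haveI := hsn
  have hHxn : Group.IsNilpotent ↥(Hx.subgroupOf C) := Group.nilpotent_of_mulEquiv
    ((Hs.equivMapOfInjective _ (MulAut.conj x).injective).trans (subgroupOfEquivOfLe hHxC).symm)
  obtain ⟨c, hc⟩ := S0581.wielandt _ ↥C (Hx.subgroupOf C) ((Kσ.map K.subtype).subgroupOf C) rfl hHxn
    fun r hr hrd hri => by
      have hle : Kσ.map K.subtype ≤ C := by rintro _ ⟨z, hz, rfl⟩; exact hcent z hz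
      rw [Nat.card_congr (subgroupOfEquivOfLe hle).toEquiv,
        card_map_of_injective K.subtype_injective] at hrd
      refine hHs r hr (hKσc r hr hrd) ?_
      have h1 := hri.trans (relIndex_dvd_index_of_le hHxC)
      rwa [hHx, index_map_of_bijective (MulAut.conj x).bijective] at h1
  refine ⟨(c : G) * x, fun k hk => ?_⟩
  have hTH : ∀ a ∈ T', a ∈ H.map (MulAut.conj ((c : G) * x)).toMonoidHom := fun a ha => by
    obtain ⟨b, hb, hba⟩ := hx ha
    refine ⟨b, hjoin ▸ mem_sup_right hb, ?_⟩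
    have h1 : a * (c : G) = c * a := mem_centralizer_iff.mp c.2 a ha
    show (c : G) * x * b * ((c : G) * x)⁻¹ = a
    calc (c : G) * x * b * ((c : G) * x)⁻¹ = (c : G) * (x * b * x⁻¹) * (c : G)⁻¹ := by group
      _ = a := by
        rw [show x * b * x⁻¹ = a from hba, ← h1]
        group
  obtain ⟨⟨t, z⟩, htz⟩ := (hKσ.existsUnique ⟨k, hk⟩).exists
  have hk' : ((t : ↥K) : G) * ((z : ↥K) : G) = k := congrArg Subtype.val htz
  rw [← hk']
  refine mul_mem (hTH _ ⟨(t : ↥K), t.2, rfl⟩) ?_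
  obtain ⟨y, hy, hyz⟩ := hc (show (⟨((z : ↥K) : G), hcent z z.2⟩ : ↥C) ∈
    (Kσ.map K.subtype).subgroupOf C from mem_subgroupOf.mpr ⟨(z : ↥K), z.2, rfl⟩)
  obtain ⟨a, ha, hay⟩ := (mem_subgroupOf.mp hy : (y : G) ∈ Hx)
  refine ⟨a, hjoin ▸ mem_sup_left ha, ?_⟩
  have h2 : (c : G) * (y : G) * (c : G)⁻¹ = ((z : ↥K) : G) := congrArg Subtype.val hyz
  show (c : G) * x * a * ((c : G) * x)⁻¹ = _
  rw [← h2, ← hay]
  simp only [MulEquiv.coe_toMonoidHom, MulAut.conj_apply]
  group


/-- Let σ and τ be disjoint sets of primes with union π. Suppose a finite group G has a Hall π-subgroup H which is the direct product of a nilpotent σ-subgroup and a τ-subgroup (two elementwise-commuting subgroups generating H), and that the maximal τ-subgroups of G are pairwise conjugate. Then the maximal π-subgroups of G are pairwise conjugate. -/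
theorem result {G : Type*} [Group G] [Finite G]
    (σ τ π : Set ℕ) (hπ : π = σ ∪ τ) (hd : Disjoint σ τ) (H Hs Ht : Subgroup G) (hH : Cfsg.IsPiHall π H)
    (hs : Cfsg.IsPiSubgroup σ Hs) (ht : Cfsg.IsPiSubgroup τ Ht) (hsn : Group.IsNilpotent Hs)
    (hjoin : Hs ⊔ Ht = H) (hcomm : ∀ a ∈ Hs, ∀ b ∈ Ht, a * b = b * a) (hD : Cfsg.IsDPiGroup τ G) :
    Cfsg.IsDPiGroup π G := by
  intro A B hA hB
  have key : ∀ M : Subgroup G, Maximal (Cfsg.IsPiSubgroup π) M →
      ∃ g : G, M = H.map (MulAut.conj g).toMonoidHom := by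
    intro M hM
    obtain ⟨g, hg⟩ := exists_conj_le σ τ π hπ hd H Hs Ht hH hs ht hsn hjoin hcomm hD M hM.1
    refine ⟨g, le_antisymm hg (hM.2 (fun r hr h => hH.1 r hr ?_) hg)⟩
    rwa [Subgroup.card_map_of_injective (MulAut.conj g).injective] at h
  obtain ⟨a, rfl⟩ := key A hA
  obtain ⟨b, rfl⟩ := key B hB
  refine ⟨b * a⁻¹, ?_⟩
  rw [← ConjFun.conjMap_mul, inv_mul_cancel_right]

end Cfsg.Agent.S4334
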