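import Cfsg.Statements.S4337
import Cfsg.Agent.S4325
import Cfsg.Agent.S4203
-- import your own Cfsg.Agent.* helpers here

set_option autoImplicit false
open Cfsg

namespace Cfsg.Agent.S4337

open MulAction

theorem solvable_of_card_le_four (β : Type*) [Finite β] (h : Nat.card β ≤ 4) :
    Group.IsSolvable (Equiv.Perm β) := by
  haveI := Cfsg.Agent.S4203.solvable_perm_four
  let e : β ↪ Fin 4 := (Finite.equivFin β).toEmbedding.trans (Fin.castLEEmb h)
  exact Group.isSolvable_of_isSolvable_injective (f := Equiv.Perm.viaEmbeddingHom e)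
    (Equiv.Perm.viaEmbeddingHom_injective e)

/-- In a finite symmetric group, any three transpositions generate a solvable subgroup. -/
theorem result (n : ℕ) (a b c : Equiv.Perm (Fin n))
    (ha : a.IsSwap) (hb : b.IsSwap) (hc : c.IsSwap) :
    Group.IsSolvable (Subgroup.closure ({a, b, c} : Set (Equiv.Perm (Fin n)))) := by
  classical
  let t : Fin 3 → Equiv.Perm (Fin n) := ![a, b, c]
  have hrange : Set.range t = ({a, b, c} : Set (Equiv.Perm (Fin n))) := by
    simp [t, Set.pair_comm, Matrix.range_cons, Matrix.range_empty]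
    ext f
    simp
    tauto
  rw [← hrange]
  set K := Subgroup.closure (Set.range t) with hK
  have ht : ∀ i, (t i).IsSwap := fun i => by fin_cases i <;> assumption
  have hs : ∀ x : Fin n, Group.IsSolvable (Equiv.Perm (MulAction.orbit K x)) := fun x =>
    solvable_of_card_le_four _ (by
      have h := Cfsg.Agent.S4325.card_orbit_le t ht x
      rw [Fintype.card_fin] at h
      exact h)
  choose d hd using fun x => (hs x).solvable
  refine ⟨⟨Finset.univ.sup d, ?_⟩⟩
  rw [eq_bot_iff]
  intro g hg
  rw [Subgroup.mem_bot]
  apply Subtype.ext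
  ext x : 1
  have h1 : MulAction.toPermHom K (MulAction.orbit K x) g ∈
      derivedSeries (Equiv.Perm (MulAction.orbit K x)) (d x) :=
    map_derivedSeries_le_derivedSeries (MulAction.toPermHom K (MulAction.orbit K x)) (d x)
      ⟨g, derivedSeries_antitone K (Finset.le_sup (Finset.mem_univ x)) hg, rfl⟩
  rw [hd x, Subgroup.mem_bot] at h1
  exact congrArg Subtype.val (congrArg
    (fun f : Equiv.Perm (MulAction.orbit K x) => f ⟨x, MulAction.mem_orbit_self x⟩) h1)

end Cfsg.Agent.S4337
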