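import Cfsg.Statements.S4339
import Cfsg.Agent.Lib.SylowCount.BelowSq

set_option autoImplicit false
open Cfsg

namespace Cfsg.Agent.S4339

open SylowCount.BelowSq in
theorem aux : ∀ (m : ℕ) {G : Type*} [Group G] [Finite G], Nat.card G = m →
    ∀ (p : ℕ) [Fact p.Prime], ¬ (3 < p ∧ ∃ k : ℕ, p + 1 = 2 ^ k) →
      Nat.card (Sylow p G) < p ^ 2 →
      (∃ q k : ℕ, q.Prime ∧ Nat.card (Sylow p G) = q ^ k) → Cfsg.IsPSolvable p G := by
  intro m
  induction m using Nat.strong_induction_on with
  | _ m ih =>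
    intro G _ _ hm p _ hp hn hpow
    subst hm
    obtain ⟨q, e, hq, hqe⟩ := hpow
    rcases subsingleton_or_nontrivial G with hs | hnt
    · exact PCore.isPSolvable_of_subsingleton
    by_cases hsimple : IsSimpleGroup G
    · by_contra hns
      rcases simple_cases hns hn with ⟨h3, h⟩ | ⟨h3, -, h⟩ | ⟨s, k, hs, hsk, hpk, h⟩
      · apply hp
        refine ⟨h3, e, ?_⟩
        have h2 : 2 ∣ q ^ e := by
          rw [← hqe, h]
          obtain ⟨i, hi⟩ := (Fact.out : p.Prime).odd_of_ne_two (by omega)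
          exact ⟨i + 1, by omega⟩
        rw [(Nat.prime_dvd_prime_iff_eq Nat.prime_two hq).mp (Nat.prime_two.dvd_of_dvd_pow h2)]
        omega
      · obtain ⟨i, hi⟩ := (Fact.out : p.Prime).odd_of_ne_two (by omega)
        subst hi
        have h' : Nat.card (Sylow (2 * i + 1) G) = i * (2 * i - 1) := by
          rw [show 2 * i + 1 - 2 = 2 * i - 1 by omega, Nat.add_sub_cancel] at h
          refine Nat.eq_of_mul_eq_mul_left two_pos ?_
          rw [h]; ring
        have hco : i.Coprime (2 * i - 1) := by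
          refine Nat.coprime_of_dvd fun r hr h1 h2 => hr.not_dvd_one ?_
          have := Nat.dvd_sub (h1.mul_left 2) h2
          rwa [show 2 * i - (2 * i - 1) = 1 by omega] at this
        obtain ⟨a, -, ha⟩ := (Nat.dvd_prime_pow hq).mp (Dvd.intro _ (h'.symm.trans hqe))
        obtain ⟨b, -, hb⟩ := (Nat.dvd_prime_pow hq).mp (Dvd.intro_left _ (h'.symm.trans hqe))
        have hqi : q ∣ i := ha ▸ dvd_pow_self q (by rintro rfl; simp at ha; omega)
        have hqj : q ∣ 2 * i - 1 := hb ▸ dvd_pow_self q (by rintro rfl; simp at hb; omega)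
        exact hq.not_dvd_one (hco ▸ Nat.dvd_gcd hqi hqj)
      · exact not_primePow_of_factor hq hs hsk hpk (h.symm.trans hqe)
    · obtain ⟨N, hN, hN1, hN2⟩ : ∃ N : Subgroup G, N.Normal ∧ N ≠ ⊥ ∧ N ≠ ⊤ := by
        by_contra hcon
        push Not at hcon
        exact hsimple ⟨fun N hN => or_iff_not_imp_left.2 (hcon N hN)⟩
      haveI := hN
      have hc := N.card_mul_index
      have hNlt : Nat.card N < Nat.card G :=
        lt_of_le_of_ne N.card_le_card_group fun h => hN2 (Subgroup.eq_top_of_card_eq N h)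
      have hQlt : Nat.card (G ⧸ N) < Nat.card G := by
        rw [← Subgroup.index_eq_card, ← hc]
        exact lt_mul_of_one_lt_left (Nat.pos_of_ne_zero Subgroup.index_ne_zero_of_finite)
          (N.one_lt_card_iff_ne_bot.2 hN1)
      have key : ∀ d, d ∣ Nat.card (Sylow p G) → d < p ^ 2 ∧ ∃ q k : ℕ, q.Prime ∧ d = q ^ k := by
        intro d hd
        refine ⟨lt_of_le_of_lt (Nat.le_of_dvd Nat.card_pos hd) hn, ?_⟩
        obtain ⟨i, -, hi⟩ := (Nat.dvd_prime_pow hq).mp (hqe ▸ hd)
        exact ⟨q, i, hq, hi⟩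
      obtain ⟨h1, h2⟩ := key _ (SylowCount.card_sylow_dvd_of_normal p N)
      obtain ⟨h3, h4⟩ := key _ (SylowCount.card_sylow_quotient_dvd p N)
      exact (PCore.isPSolvable_iff_of_normal N).mpr
        ⟨ih _ hNlt rfl p hp h1 h2, ih _ hQlt rfl p hp h3 h4⟩

/-- Let G be a finite group and p a prime such that it is not the case that p > 3 with p + 1 a power of 2. If the number of Sylow p-subgroups of G is less than p², then G is p-solvable if and only if that number is a power of a prime (possibly 1). -/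
theorem result {G : Type*} [Group G] [Finite G]
    (p : ℕ) [Fact p.Prime] (hp : ¬ (3 < p ∧ ∃ k : ℕ, p + 1 = 2 ^ k)) (hn : Nat.card (Sylow p G) < p ^ 2) :
    Cfsg.IsPSolvable p G ↔ ∃ q k : ℕ, q.Prime ∧ Nat.card (Sylow p G) = q ^ k :=
  ⟨fun h => SylowCount.BelowSq.primePow_of_isPSolvable h hn, aux _ rfl p hp hn⟩

end Cfsg.Agent.S4339
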