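import Cfsg.Statements.S4341
import Cfsg.Agent.Lib.SylowCount.Basic

set_option autoImplicit false
open Cfsg

namespace Cfsg.Agent.S4341

/-- Let K be a normal subgroup of a finite group G, p a prime and P a Sylow p-subgroup of G; let N be the normalizer of P ∩ K inside the subgroup PK. Then the number of Sylow p-subgroups of G equals the product of the numbers of Sylow p-subgroups of G/K, of K, and of N/(P ∩ K). (The normality of P ∩ K in N, which always holds, is assumed as a hypothesis so that the quotient can be formed.) -/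
theorem result {G : Type*} [Group G] [Finite G]
    (p : ℕ) [Fact p.Prime] (K : Subgroup G) [K.Normal] (P : Sylow p G) (N : Subgroup G)
    (hN : N = ((P : Subgroup G) ⊔ K) ⊓ Subgroup.normalizer (((P : Subgroup G) ⊓ K : Subgroup G) : Set G))
    [hn : (((P : Subgroup G) ⊓ K).subgroupOf N).Normal] :
    Nat.card (Sylow p G) =
      Nat.card (Sylow p (G ⧸ K)) * Nat.card (Sylow p K) * Nat.card (Sylow p (N ⧸ ((P : Subgroup G) ⊓ K).subgroupOf N)) := by
  have hR : IsPGroup p ↥(((P : Subgroup G) ⊓ K).subgroupOf N) := by
    refine IsPGroup.comap_of_injective ?_ _ N.subtype_injective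
    exact P.2.to_le inf_le_left
  rw [SylowCount.card_sylow_quotient_pGroup _ hR, SylowCount.card_sylow_eq P K,
    SylowCount.card_sylow_normal P K, mul_assoc]
  congr 1
  set A := Subgroup.normalizer ((P : Subgroup G) : Set G) with hA
  set B := Subgroup.normalizer (((P : Subgroup G) ⊓ K : Subgroup G) : Set G) with hB
  have hPB : A ≤ B := by
    intro g hg
    rw [hA, Subgroup.mem_normalizer_iff] at hg
    rw [hB, Subgroup.mem_normalizer_iff]
    intro h
    rw [Subgroup.mem_inf, Subgroup.mem_inf, ← hg h]
    exact and_congr_right fun _ => ⟨fun hh => Subgroup.Normal.conj_mem ‹K.Normal› h hh g, fun hh => by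
      simpa [mul_assoc] using Subgroup.Normal.conj_mem ‹K.Normal› _ hh g⁻¹⟩
  have hPN : (P : Subgroup G) ≤ N := hN ▸ le_inf le_sup_left (Subgroup.le_normalizer.trans hPB)
  have hKN : K ⊓ N = B ⊓ K := by
    rw [hN]
    refine le_antisymm (le_inf (inf_le_right.trans inf_le_right) inf_le_left) ?_
    exact le_inf inf_le_right (le_inf (inf_le_right.trans le_sup_right) inf_le_left)
  have hNn : Nat.card (Sylow p N) = A.relIndex (B ⊓ K) := by
    rw [(P.subtype hPN).card_eq_index_normalizer]
    show (Subgroup.normalizer ((((P : Subgroup G).subgroupOf N) : Subgroup N) : Set N)).index = _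
    rw [← Subgroup.subgroupOf_normalizer_eq hPN, ← hA]
    have hK' : (K.subgroupOf N).Normal := inferInstance
    have htop : A.subgroupOf N ⊔ K.subgroupOf N = ⊤ := by
      refine top_le_iff.mp fun n _ => ?_
      have hn' : (n : G) ∈ (P : Subgroup G) ⊔ K := by
        exact (SetLike.ext_iff.mp hN (n : G)).mp n.2 |>.1
      obtain ⟨y, hy, z, hz, hyz⟩ := Subgroup.mem_sup_of_normal_right.mp hn'
      have hzN : z ∈ N := by
        have : z = y⁻¹ * n := by rw [← hyz]; group
        rw [this]; exact mul_mem (inv_mem (hPN hy)) n.2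
      have : n = (⟨y, hPN hy⟩ : N) * ⟨z, hzN⟩ := Subtype.ext hyz.symm
      rw [this]
      exact Subgroup.mul_mem_sup (Subgroup.mem_subgroupOf.mpr (Subgroup.le_normalizer hy))
        (Subgroup.mem_subgroupOf.mpr hz)
    have h := SylowCount.relIndex_self_sup (A.subgroupOf N) (K.subgroupOf N)
    rw [htop, Subgroup.relIndex_top_right] at h
    rw [h, ← Subgroup.inf_subgroupOf_right K N, Subgroup.relIndex_subgroupOf inf_le_right, hKN]
  rw [hNn]
  have h1 := Subgroup.relIndex_mul_relIndex (H := A ⊓ (B ⊓ K)) (K := B ⊓ K) (L := K)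
    inf_le_right inf_le_right
  rw [Subgroup.inf_relIndex_right, Subgroup.inf_relIndex_right] at h1
  rw [mul_comm, h1, ← inf_assoc, inf_eq_left.mpr hPB, Subgroup.inf_relIndex_right]

end Cfsg.Agent.S4341
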