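import Cfsg.Statements.S4342
import Cfsg.Agent.Lib.SylowCount.Basic

set_option autoImplicit false
open Cfsg

namespace Cfsg.Agent.S4342

/-- Let H be a normal subgroup of a finite group G and p a prime not dividing the index of H. Then the number of Sylow p-subgroups of H/Z(H) equals the number of Sylow p-subgroups of G. -/
theorem result {G : Type*} [Group G] [Finite G]
    (p : ℕ) [Fact p.Prime] (H : Subgroup G) [H.Normal] (hp : ¬ p ∣ H.index) :
    Nat.card (Sylow p (H ⧸ Subgroup.center H)) = Nat.card (Sylow p G) := by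
  obtain ⟨P⟩ : Nonempty (Sylow p G) := Sylow.nonempty
  have hPH : (P : Subgroup G) ≤ H := by
    have hc : (Nat.card P).Coprime H.index := by
      obtain ⟨n, hn⟩ := IsPGroup.iff_card.mp P.2
      rw [hn]; exact Nat.Coprime.pow_left n ((Nat.Prime.coprime_iff_not_dvd Fact.out).mpr hp)
    rw [← Subgroup.relIndex_eq_one]
    have h1 : H.relIndex P ∣ Nat.card P := by
      rw [← Subgroup.relIndex_bot_left]
      exact Subgroup.relIndex_dvd_of_le_left _ bot_le
    exact Nat.eq_one_of_dvd_coprimes hc h1 (Subgroup.relIndex_dvd_index_of_normal _ _)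
  have hq : Nat.card (Sylow p (G ⧸ H)) = 1 := by
    rw [SylowCount.card_sylow_quotient P H]
    have := Sylow.normalizer_sup_eq_top' P hPH
    exact (congrArg Subgroup.index this).trans Subgroup.index_top
  have e1 : Nat.card (Sylow p G) = Nat.card (Sylow p H) := by
    rw [SylowCount.card_sylow_eq P H, hq, one_mul, SylowCount.card_sylow_normal P H,
      inf_eq_left.mpr hPH]
  obtain ⟨R⟩ : Nonempty (Sylow p H) := Sylow.nonempty
  rw [e1, SylowCount.card_sylow_eq R (Subgroup.center H),
    Subgroup.relIndex_eq_one.mpr (Subgroup.center_le_normalizer _), mul_one]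

end Cfsg.Agent.S4342
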