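import Cfsg.Statements.S4344
-- import your own Cfsg.Agent.* helpers here

set_option autoImplicit false
open Cfsg

namespace Cfsg.Agent.S4344

/-- Let S be a finite non-abelian simple group, M a maximal subgroup of S and C a cyclic normal subgroup of M. If a Sylow p-subgroup P of S (for a prime p dividing the order of S) is contained in C, then the number of Sylow p-subgroups of S equals the index of M. -/
theorem result {S : Type*} [Group S] [Finite S]
    [IsSimpleGroup S] (hS : ¬ IsMulCommutative S) (p : ℕ) [Fact p.Prime] (hp : p ∣ Nat.card S)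
    (M : Subgroup S) (hM : IsCoatom M) (C : Subgroup S) (hCM : C ≤ M) (hCn : (C.subgroupOf M).Normal)
    (hC : IsCyclic C) (P : Sylow p S) (hP : (P : Subgroup S) ≤ C) :
    Nat.card (Sylow p S) = M.index := by
  have hPM : (P : Subgroup S) ≤ M := hP.trans hCM
  have hPC : ((P : Subgroup S).subgroupOf C).Characteristic := by
    have : IsMulCommutative C := by infer_instance
    have hn : (((P.subtype hP) : Sylow p C) : Subgroup C).Normal := by
      constructor
      intro a ha b
      rwa [IsMulCommutative.is_comm.comm b a, mul_assoc, mul_inv_cancel, mul_one]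
    exact Sylow.characteristic_of_normal (P.subtype hP) hn
  have hMP : M ≤ Subgroup.normalizer ((P : Subgroup S) : Set S) := by
    intro m hm
    have hCm : m ∈ Subgroup.normalizer (C : Set S) := by
      rw [Subgroup.mem_normalizer_iff]
      intro h
      constructor
      · intro hh
        exact Subgroup.mem_subgroupOf.mp (hCn.conj_mem ⟨h, hCM hh⟩ (Subgroup.mem_subgroupOf.mpr hh) ⟨m, hm⟩)
      · intro hh
        have := hCn.conj_mem ⟨m * h * m⁻¹, hCM hh⟩ (Subgroup.mem_subgroupOf.mpr hh) ⟨m⁻¹, inv_mem hm⟩
        rw [Subgroup.mem_subgroupOf] at this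
        simpa [mul_assoc] using this
    have key : ∀ x : C, x ∈ (P : Subgroup S).subgroupOf C ↔
        (⟨m * x * m⁻¹, (Subgroup.mem_normalizer_iff.mp hCm x).mp x.2⟩ : C) ∈ (P : Subgroup S).subgroupOf C := by
      intro x
      let e : MulAut C :=
        { toFun := fun x => ⟨m * x * m⁻¹, (Subgroup.mem_normalizer_iff.mp hCm x).mp x.2⟩
          invFun := fun x => ⟨m⁻¹ * x * m, by
            simpa [mul_assoc] using (Subgroup.mem_normalizer_iff.mp (inv_mem hCm) (x : S)).mp x.2⟩
          left_inv := fun x => by ext; simp [mul_assoc]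
          right_inv := fun x => by ext; simp [mul_assoc]
          map_mul' := fun x y => by ext; simp [mul_assoc] }
      have := Subgroup.characteristic_iff_comap_eq.mp hPC e
      conv_lhs => rw [← this]
      rfl
    rw [Subgroup.mem_normalizer_iff]
    intro h
    constructor
    · intro hh
      exact (key ⟨h, hP hh⟩).mp hh
    · intro hh
      have h2 : h ∈ C := (Subgroup.mem_normalizer_iff.mp hCm h).mpr (hP hh)
      exact (key ⟨h, h2⟩).mpr hh
  rw [P.card_eq_index_normalizer]
  rcases eq_or_lt_of_le hMP with h | h
  · rw [h]; rfl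
  · exfalso
    have htop := hM.2 _ h
    have hn : (P : Subgroup S).Normal := Subgroup.normalizer_eq_top_iff.mp htop
    rcases hn.eq_bot_or_eq_top with h1 | h1
    · exact P.ne_bot_of_dvd_card hp h1
    · exact hM.1 (top_le_iff.mp (h1 ▸ hPM))

end Cfsg.Agent.S4344
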