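import Cfsg.Statements.S4345
import Cfsg.Agent.Lib.SylowCount.Basic

set_option autoImplicit false
open Cfsg

namespace Cfsg.Agent.S4345

open scoped Pointwise commutatorElement

theorem factorization_pow_modEq {G : Type*} [Group G] [Finite G] {p : ℕ} [Fact p.Prime]
    (P : Sylow p G) (K : Subgroup G) [K.Normal] (hK : IsMulCommutative K) {r : ℕ} (hr : r.Prime)
    (hKr : IsPGroup r K) (ℓ : ℕ) :
    ℓ ^ ((Subgroup.normalizer ((P : Subgroup G) : Set G)).relIndex K).factorization ℓ ≡ 1 [MOD p] := by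
  have : Fact r.Prime := ⟨hr⟩
  set A := Subgroup.normalizer ((P : Subgroup G) : Set G) with hA
  obtain ⟨j, hj⟩ : ∃ j, A.relIndex K = r ^ j := hKr.index (A.subgroupOf K)
  by_cases hrp : r = p
  · subst hrp
    rw [Subgroup.relIndex_eq_one.mpr ((hKr.le_sylow_of_normal P).trans Subgroup.le_normalizer)]
    simp [Nat.ModEq.refl]
  by_cases hℓ : ℓ = r
  swap
  · rw [hj, Nat.Prime.factorization_pow hr, Finsupp.single_apply, if_neg (Ne.symm hℓ), pow_zero]
  subst hℓ
  rw [hj, Nat.Prime.factorization_pow hr, Finsupp.single_apply, if_pos rfl, ← hj]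
  letI : MulAction P K :=
    MulAction.compHom K ((MulAut.conjNormal : G →* MulAut K).comp (P : Subgroup G).subtype)
  have hdisj : Disjoint (P : Subgroup G) K := by
    rw [disjoint_iff]
    apply Subgroup.inf_eq_bot_of_coprime
    obtain ⟨a, ha⟩ := IsPGroup.iff_card.mp P.2
    obtain ⟨b, hb⟩ := IsPGroup.iff_card.mp hKr
    rw [ha, hb]
    exact Nat.Coprime.pow a b ((Nat.coprime_primes Fact.out hr).mpr (Ne.symm hrp))
  have hfix : ∀ k : K, k ∈ MulAction.fixedPoints P K ↔ k ∈ A.subgroupOf K := by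
    intro k
    rw [Subgroup.mem_subgroupOf, MulAction.mem_fixedPoints]
    constructor
    · intro hk
      rw [hA, Subgroup.mem_normalizer_iff]
      have hc : ∀ y ∈ (P : Subgroup G), y * (k : G) = k * y := by
        intro y hy
        have e : y * (k : G) * y⁻¹ = k := congrArg Subtype.val (hk ⟨y, hy⟩)
        calc y * (k : G) = y * k * y⁻¹ * y := by group
          _ = k * y := by rw [e]
      intro y
      constructor
      · intro hy
        rw [← hc y hy, mul_inv_cancel_right]; exact hy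
      · intro hy
        have := hc _ hy
        have e2 : (k : G) * y * (k : G)⁻¹ * k = (k : G) * ((k : G) * y * (k : G)⁻¹) := this
        have e3 : y = (k : G) * y * (k : G)⁻¹ := by
          rw [inv_mul_cancel_right] at e2
          exact mul_left_cancel e2
        rw [e3]; exact hy
    · intro hk y
      apply Subtype.ext
      show (y : G) * k * (y : G)⁻¹ = k
      have h1 : (y : G) * k * (y : G)⁻¹ * (k : G)⁻¹ ∈ (P : Subgroup G) := by
        have := ((Subgroup.mem_normalizer_iff.mp hk) (y : G)⁻¹).mp (inv_mem y.2)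
        simpa [mul_assoc] using (P : Subgroup G).mul_mem y.2 this
      have h2 : (y : G) * k * (y : G)⁻¹ * (k : G)⁻¹ ∈ K :=
        mul_mem (Subgroup.Normal.conj_mem ‹K.Normal› _ k.2 _) (inv_mem k.2)
      have h3 := Subgroup.mem_bot.mp (hdisj.le_bot ⟨h1, h2⟩)
      exact mul_inv_eq_one.mp h3
  have hmod := (show IsPGroup p P from P.2).card_modEq_card_fixedPoints K
  have hc : Nat.card (MulAction.fixedPoints P K) = Nat.card (A.subgroupOf K) :=
    Nat.card_congr (Equiv.subtypeEquivRight hfix)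
  have hcop : (Nat.card (A.subgroupOf K)).Coprime p := by
    obtain ⟨b, hb⟩ := IsPGroup.iff_card.mp (hKr.to_subgroup (A.subgroupOf K))
    rw [hb]
    exact Nat.Coprime.pow_left b ((Nat.coprime_primes hr Fact.out).mpr hrp)
  rw [hc, ← Subgroup.card_mul_index (A.subgroupOf K)] at hmod
  exact Nat.ModEq.cancel_left_of_coprime (Nat.Coprime.symm hcop)
    (hmod.trans (by rw [mul_one]))

theorem exists_abelian_pgroup_normal {G : Type*} [Group G] [Finite G] [Nontrivial G]
    (hG : Group.IsSolvable G) :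
    ∃ (K : Subgroup G) (r : ℕ), K.Normal ∧ K ≠ ⊥ ∧ IsMulCommutative K ∧ r.Prime ∧ IsPGroup r K := by
  classical
  obtain ⟨n, hn⟩ := hG
  have hex : ∃ m, derivedSeries G m = ⊥ := ⟨n, hn⟩
  set m := Nat.find hex
  have hm : derivedSeries G m = ⊥ := Nat.find_spec hex
  have hm0 : m ≠ 0 := by
    intro h0; rw [h0, derivedSeries_zero] at hm
    exact top_ne_bot hm
  obtain ⟨k, hk⟩ := Nat.exists_eq_succ_of_ne_zero hm0
  have hne : derivedSeries G k ≠ ⊥ := Nat.find_min hex (by omega)
  have hcomm : ∀ a ∈ derivedSeries G k, ∀ b ∈ derivedSeries G k, a * b = b * a := by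
    intro a ha b hb
    have : ⁅a, b⁆ ∈ derivedSeries G m := by
      rw [hk]; exact Subgroup.commutator_mem_commutator ha hb
    rw [hm, Subgroup.mem_bot] at this
    exact (commutatorElement_eq_one_iff_commute.mp this).eq
  obtain ⟨r, hr, hrd⟩ := Nat.exists_prime_and_dvd
    (fun h => hne (Subgroup.card_eq_one.mp h) : Nat.card (derivedSeries G k) ≠ 1)
  have : Fact r.Prime := ⟨hr⟩
  obtain ⟨x, hx⟩ := exists_prime_orderOf_dvd_card' r hrd
  let K : Subgroup G :=
    { carrier := {g | g ∈ derivedSeries G k ∧ g ^ r = 1}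
      one_mem' := ⟨one_mem _, one_pow r⟩
      mul_mem' := fun {a b} ha hb => ⟨mul_mem ha.1 hb.1, by
        rw [Commute.mul_pow (hcomm a ha.1 b hb.1), ha.2, hb.2, one_mul]⟩
      inv_mem' := fun {a} ha => ⟨inv_mem ha.1, by rw [inv_pow, ha.2, inv_one]⟩ }
  refine ⟨K, r, ⟨fun g hg y => ⟨(derivedSeries_normal G k).conj_mem g hg.1 y, by
    rw [conj_pow, hg.2, mul_one, mul_inv_cancel]⟩⟩, ?_, ⟨⟨fun a b => Subtype.ext
      (hcomm a a.2.1 b b.2.1)⟩⟩, hr, ?_⟩
  · intro h
    have hxK : (x : G) ∈ K := ⟨x.2, by rw [← hx, ← SubgroupClass.coe_pow, pow_orderOf_eq_one, OneMemClass.coe_one]⟩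
    rw [h, Subgroup.mem_bot] at hxK
    have : x = 1 := Subtype.ext hxK
    rw [this, orderOf_one] at hx
    exact hr.ne_one hx.symm
  · intro a
    exact ⟨1, Subtype.ext (by simpa using a.2.2)⟩

theorem main : ∀ (N : ℕ) (G : Type*) [Group G] [Finite G], Nat.card G ≤ N → Group.IsSolvable G →
    ∀ (p ℓ : ℕ) [Fact p.Prime], ℓ ^ (Nat.card (Sylow p G)).factorization ℓ ≡ 1 [MOD p] := by
  intro N
  induction N with
  | zero => intro G _ _ h; exact absurd h (not_le.mpr Nat.card_pos)
  | succ N ih =>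
    intro G _ _ hle hG p ℓ _
    rcases subsingleton_or_nontrivial G with hs | hs
    · have : Nat.card (Sylow p G) = 1 := by
        have : Subsingleton (Sylow p G) := ⟨fun a b => Sylow.ext (Subsingleton.elim _ _)⟩
        exact Nat.card_of_subsingleton (Sylow.nonempty.some)
      rw [this]; simp [Nat.ModEq.refl]
    obtain ⟨K, r, hKn, hne, hKc, hr, hKr⟩ := exists_abelian_pgroup_normal hG
    obtain ⟨P⟩ : Nonempty (Sylow p G) := Sylow.nonempty
    have hne2 : (Subgroup.normalizer ((P : Subgroup G) : Set G)).relIndex K ≠ 0 :=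
      Subgroup.index_ne_zero_of_finite
    rw [SylowCount.card_sylow_eq P K,
      Nat.factorization_mul Nat.card_pos.ne' hne2,
      Finsupp.add_apply, pow_add]
    have hlt : Nat.card (G ⧸ K) ≤ N := by
      have h1 := Subgroup.card_eq_card_quotient_mul_card_subgroup K
      have h2 : 1 < Nat.card K := (Subgroup.one_lt_card_iff_ne_bot K).mpr hne
      have h3 : 0 < Nat.card (G ⧸ K) := Nat.card_pos
      nlinarith
    have := (ih (G ⧸ K) hlt (by have := hG; infer_instance) p ℓ).mul
      (factorization_pow_modEq P K hKc hr hKr ℓ)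
    simpa using this

/-- Let G be a finite solvable group and p, ℓ primes. Then the largest power of ℓ dividing the number of Sylow p-subgroups of G is congruent to 1 modulo p. -/
theorem result {G : Type*} [Group G] [Finite G]
    (hG : Group.IsSolvable G) (p ℓ : ℕ) [Fact p.Prime] (hℓ : ℓ.Prime) :
    ℓ ^ (Nat.card (Sylow p G)).factorization ℓ ≡ 1 [MOD p] := by
  exact main _ G le_rfl hG p ℓ

end Cfsg.Agent.S4345
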