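import Cfsg.Statements.S4346
import Cfsg.Agent.S4341
import Cfsg.Agent.Lib.Coprime.Sylow
import Cfsg.Agent.Lib.TwentyTwo.Small

set_option autoImplicit false
open Cfsg

namespace Cfsg.Agent.S4346

open Subgroup

/-- The coprime case: a normal 3'-subgroup `K` cannot have `[K : C_K(P)] = 22`. -/
theorem coprime_case {G : Type*} [Group G] [Finite G] (P : Sylow 3 G) (K : Subgroup G) [K.Normal]
    (hcop : (Nat.card (P : Subgroup G)).Coprime (Nat.card K)) (hPK : (P : Subgroup G) ⊓ K = ⊥)
    (h : (normalizer ((P : Subgroup G) : Set G)).relIndex K = 22) : False := by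
  haveI : Fact (Nat.Prime 2) := ⟨Nat.prime_two⟩
  set C := centralizer ((P : Subgroup G) : Set G) ⊓ K with hC
  have hCN : normalizer ((P : Subgroup G) : Set G) ⊓ K = C := by
    refine le_antisymm (fun k hk => mem_inf.mpr ⟨mem_centralizer_iff.mpr fun u hu => ?_, hk.2⟩)
      (inf_le_inf_right K (centralizer_le_normalizer _))
    have h1 : k * u * k⁻¹ * u⁻¹ ∈ (P : Subgroup G) ⊓ K := by
      refine mem_inf.mpr ⟨mul_mem ((mem_normalizer_iff.mp hk.1 u).mp hu) (inv_mem hu), ?_⟩
      rw [show k * u * k⁻¹ * u⁻¹ = k * (u * k⁻¹ * u⁻¹) by group]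
      exact mul_mem hk.2 (Normal.conj_mem inferInstance _ (inv_mem hk.2) u)
    rw [hPK, mem_bot, mul_inv_eq_one, mul_inv_eq_iff_eq_mul] at h1
    exact h1.symm
  rw [← inf_relIndex_right, hCN] at h
  have hCK : Nat.card K = 22 * Nat.card C := by
    have e := relIndex_mul_relIndex (H := ⊥) (K := C) (L := K) bot_le inf_le_right
    rw [relIndex_bot_left, relIndex_bot_left, h] at e
    omega
  obtain ⟨U₀⟩ : Nonempty (Sylow 2 C) := inferInstance
  set U := (U₀ : Subgroup C).map C.subtype with hU
  have hUC : U ≤ C := map_subtype_le _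
  have hUA : (P : Subgroup G) ≤ normalizer (U : Set G) := by
    intro x hx
    rw [mem_normalizer_iff]
    intro y
    constructor
    · intro hy
      have h5 := (mem_centralizer_iff.mp (hUC hy).1) x hx
      rwa [h5, mul_inv_cancel_right]
    · intro hy
      have h5 := (mem_centralizer_iff.mp (hUC hy).1) x hx
      have e : x * y * x⁻¹ = y := by
        have h6 : x⁻¹ * (x * (x * y * x⁻¹)) * x = x⁻¹ * (x * y * x⁻¹ * x) * x := by rw [h5]
        have h7 : x⁻¹ * (x * (x * y * x⁻¹)) * x = x * y := by group
        have h8 : x⁻¹ * (x * y * x⁻¹ * x) * x = y * x := by group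
        rw [h7, h8] at h6
        rw [h6, mul_inv_cancel_right]
      rwa [← e]
  have hAK : (P : Subgroup G) ≤ normalizer (K : Set G) := by
    rw [normalizer_eq_top]
    exact le_top
  have hs : Group.IsSolvable (P : Subgroup G) ∨ Group.IsSolvable K := by
    have : Group.IsNilpotent (P : Subgroup G) := P.2.isNilpotent
    exact Or.inl inferInstance
  obtain ⟨T₀, hUT, hPT⟩ := Coprime.exists_invariant_sylow_ge hAK hcop hs
    (hUC.trans inf_le_right) (U₀.2.map _) hUA
  set T := (T₀ : Subgroup K).map K.subtype with hT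
  have hTC : T ⊓ C = U := by
    refine le_antisymm (fun x hx => ?_) (le_inf hUT hUC)
    have hp : IsPGroup 2 ((T ⊓ C).subgroupOf C) :=
      ((T₀.2.map K.subtype).to_le inf_le_left).comap_subtype
    have hle : (U₀ : Subgroup C) ≤ (T ⊓ C).subgroupOf C := fun y hy =>
      mem_subgroupOf.mpr ⟨hUT ⟨y, hy, rfl⟩, y.2⟩
    have e := U₀.3 hp hle
    exact ⟨⟨x, hx.2⟩, e ▸ mem_subgroupOf.mpr hx, rfl⟩
  have hcardT : Nat.card T = 2 * Nat.card U := by
    rw [hT, hU, card_map_of_injective K.subtype_injective, card_map_of_injective C.subtype_injective,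
      T₀.card_eq_multiplicity, U₀.card_eq_multiplicity, hCK,
      Nat.factorization_mul (by norm_num) Nat.card_pos.ne']
    have h22 : (22 : ℕ).factorization 2 = 1 := by
      rw [show (22 : ℕ) = 2 * 11 from rfl, Nat.factorization_mul (by norm_num) (by norm_num),
        Nat.Prime.factorization Nat.prime_two, Nat.Prime.factorization (by norm_num : Nat.Prime 11)]
      simp
    rw [Finsupp.add_apply, h22, pow_add, pow_one]
  letI : MulAction (P : Subgroup G) T :=
    MulAction.compHom T (T.normalizerMonoidHom.comp (inclusion hPT))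
  have hfix : Nat.card (MulAction.fixedPoints (P : Subgroup G) T) = Nat.card U := by
    rw [Nat.card_coe_set_eq, ← Set.ncard_image_of_injective _ Subtype.val_injective]
    refine Eq.trans ?_ (Nat.card_coe_set_eq (U : Set G)).symm
    congr 1
    ext x
    constructor
    · rintro ⟨⟨y, hy⟩, hfy, rfl⟩
      show y ∈ U
      rw [← hTC]
      refine mem_inf.mpr ⟨hy, mem_inf.mpr ⟨mem_centralizer_iff.mpr fun u hu => ?_,
        map_subtype_le _ hy⟩⟩
      have e : u * y * u⁻¹ = y := congrArg Subtype.val (hfy ⟨u, hu⟩)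
      exact mul_inv_eq_iff_eq_mul.mp e
    · intro hx
      refine ⟨⟨x, hUT hx⟩, fun u => Subtype.ext ?_, rfl⟩
      show (u : G) * x * (u : G)⁻¹ = x
      rw [mem_centralizer_iff.mp (hUC hx).1 u u.2, mul_inv_cancel_right]
  have hmod := P.2.card_modEq_card_fixedPoints T
  rw [hfix, hcardT] at hmod
  obtain ⟨k, hk⟩ := ((U₀.2.map C.subtype) : IsPGroup 2 U).exists_card_eq
  rw [hk, two_mul] at hmod
  have h0 : 2 ^ k ≡ 0 [MOD 3] := Nat.ModEq.add_left_cancel' (2 ^ k) (by simpa using hmod)
  exact absurd (Nat.prime_three.dvd_of_dvd_pow (Nat.modEq_zero_iff_dvd.mp h0)) (by norm_num)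

theorem main : ∀ (n : ℕ) (G : Type*) [Group G] [Finite G], Nat.card G = n →
    Nat.card (Sylow 3 G) ≠ 22 := by
  intro n
  induction n using Nat.strong_induction_on with
  | _ n ih =>
    intro G _ _ hn h22
    by_cases hsimple : ∃ K : Subgroup G, K.Normal ∧ K ≠ ⊥ ∧ K ≠ ⊤
    · obtain ⟨K, hK, hKb, hKt⟩ := hsimple
      obtain ⟨P⟩ : Nonempty (Sylow 3 G) := inferInstance
      set N := ((P : Subgroup G) ⊔ K) ⊓ normalizer (((P : Subgroup G) ⊓ K : Subgroup G) : Set G)
        with hN
      have hnormal : (((P : Subgroup G) ⊓ K).subgroupOf N).Normal :=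
        (normal_subgroupOf_iff_le_normalizer (le_inf (inf_le_left.trans le_sup_left)
          le_normalizer)).mpr inf_le_right
      have hprod := S4341.result 3 K P N hN
      rw [h22] at hprod
      have ha := card_sylow_modEq_one 3 (G ⧸ K)
      have hb := card_sylow_modEq_one 3 K
      have hc := card_sylow_modEq_one 3 (N ⧸ ((P : Subgroup G) ⊓ K).subgroupOf N)
      have hltQ : Nat.card (G ⧸ K) < n := by
        have e := K.card_eq_card_quotient_mul_card_subgroup
        have h1 : 2 ≤ Nat.card K := (one_lt_card_iff_ne_bot K).mpr hKb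
        have h2 : 0 < Nat.card (G ⧸ K) := Nat.card_pos
        have h3 : Nat.card (G ⧸ K) * 2 ≤ Nat.card (G ⧸ K) * Nat.card K := Nat.mul_le_mul_left _ h1
        omega
      have hltK : Nat.card K < n := by
        refine lt_of_le_of_ne (hn ▸ K.card_le_card_group) fun e => hKt ?_
        exact eq_top_of_card_eq K (e.trans hn.symm)
      have ha' := ih _ hltQ (G ⧸ K) rfl
      have hb' := ih _ hltK K rfl
      have hsmall : ∀ a ∈ Nat.divisors 22, a % 3 = 1 → a = 1 ∨ a = 22 := by decide
      have key : ∀ a b c : ℕ, a % 3 = 1 → b % 3 = 1 → c % 3 = 1 → a * b * c = 22 →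
          a = 22 ∨ b = 22 ∨ a = 1 ∧ b = 1 ∧ c = 22 := by
        intro a b c ha hb hc h
        have hmem : ∀ x, x ∣ 22 → x ∈ Nat.divisors 22 :=
          fun x hx => Nat.mem_divisors.mpr ⟨hx, by norm_num⟩
        rcases hsmall a (hmem a ⟨b * c, by rw [← mul_assoc, h]⟩) ha with rfl | rfl
        · rcases hsmall b (hmem b ⟨c, by rw [one_mul] at h; exact h.symm⟩) hb with rfl | rfl
          · exact Or.inr (Or.inr ⟨rfl, rfl, by simpa using h⟩)
          · exact Or.inr (Or.inl rfl)
        · exact Or.inl rfl
      rcases key _ _ _ ha hb hc hprod.symm with h | h | ⟨h1, -, h3⟩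
      · exact ha' h
      · exact hb' h
      by_cases hlt : Nat.card (N ⧸ ((P : Subgroup G) ⊓ K).subgroupOf N) < n
      · exact ih _ hlt (N ⧸ ((P : Subgroup G) ⊓ K).subgroupOf N) rfl h3
      have e1 := (((P : Subgroup G) ⊓ K).subgroupOf N).card_eq_card_quotient_mul_card_subgroup
      have e2 := N.card_le_card_group
      have hpos : 0 < Nat.card (((P : Subgroup G) ⊓ K).subgroupOf N) := Nat.card_pos
      have hR1 : Nat.card (((P : Subgroup G) ⊓ K).subgroupOf N) = 1 := by
        by_contra hne
        have : Nat.card (N ⧸ ((P : Subgroup G) ⊓ K).subgroupOf N) * 2 ≤ Nat.card N := by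
          rw [e1]; exact Nat.mul_le_mul_left _ (by omega)
        omega
      have hPK : (P : Subgroup G) ⊓ K = ⊥ := by
        rw [Coprime.card_subgroupOf (le_inf (inf_le_left.trans le_sup_left) le_normalizer)] at hR1
        exact card_eq_one.mp hR1
      obtain ⟨R, hR⟩ := SylowCount.exists_sylow_inf P K
      have hK3 : ¬ 3 ∣ Nat.card K := by
        intro h3
        have hRb : (R : Subgroup K) = ⊥ := by
          rw [hR, ← inf_subgroupOf_right, hPK, bot_subgroupOf]
        exact R.ne_bot_of_dvd_card h3 hRb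
      obtain ⟨k, hk⟩ := P.2.exists_card_eq
      have hcop : (Nat.card (P : Subgroup G)).Coprime (Nat.card K) := by
        rw [hk]
        exact ((Nat.prime_three.coprime_iff_not_dvd).mpr hK3).pow_left k
      refine coprime_case P K hcop hPK ?_
      have e := SylowCount.card_sylow_eq P K
      rw [h22, h1, one_mul] at e
      exact e.symm
    · have hnt : Nontrivial G := by
        by_contra hns
        rw [not_nontrivial_iff_subsingleton] at hns
        have : Subsingleton (Sylow 3 G) := ⟨fun P Q => Sylow.ext (Subsingleton.elim _ _)⟩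
        have := Finite.card_le_one_iff_subsingleton.mpr this
        omega
      push Not at hsimple
      have : IsSimpleGroup G :=
        ⟨fun K hK => or_iff_not_imp_left.mpr (hsimple K hK)⟩
      have hG : TwentyTwo.Tight22 G := by
        refine ⟨fun hab => ?_, h22⟩
        obtain ⟨P⟩ : Nonempty (Sylow 3 G) := inferInstance
        have : (P : Subgroup G).Normal :=
          ⟨fun x hx g => by rwa [hab.is_comm.comm g x, mul_inv_cancel_right]⟩
        have : Subsingleton (Sylow 3 G) := @Unique.instSubsingleton _ (Sylow.unique_of_normal P this)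
        have := Finite.card_le_one_iff_subsingleton.mpr this
        omega
      exact TwentyTwo.not_card_eq_three hG (TwentyTwo.exists_card_eq_three hG)

/-- No finite group has exactly 22 Sylow 3-subgroups. -/
theorem result {G : Type*} [Group G] [Finite G] : Nat.card (Sylow 3 G) ≠ 22 := by
  exact main _ G rfl

end Cfsg.Agent.S4346
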