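import Cfsg.Statements.S4347
-- import your own Cfsg.Agent.* helpers here

set_option autoImplicit false
open Cfsg

namespace Cfsg.Agent.S4347

/-- Let G be a finite group and p a prime. Say a Sylow p-subgroup Q is redundant when every element of p-power order lies in some Sylow p-subgroup other than Q. Then G has no redundant Sylow p-subgroup if and only if some element of p-power order lies in exactly one Sylow p-subgroup. -/
theorem result {G : Type*} [Group G] [Finite G]
    (p : ℕ) [Fact p.Prime] :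
    (¬ ∃ Q : Sylow p G, ∀ x : G, (∃ k : ℕ, orderOf x = p ^ k) → ∃ P : Sylow p G, P ≠ Q ∧ x ∈ P) ↔
      ∃ x : G, (∃ k : ℕ, orderOf x = p ^ k) ∧ ∃! P : Sylow p G, x ∈ P := by
  simp only [not_exists, not_forall, not_and, exists_prop]
  constructor
  · intro h
    obtain ⟨Q⟩ : Nonempty (Sylow p G) := Sylow.nonempty
    obtain ⟨x, hx, hx'⟩ := h Q
    obtain ⟨k, hk⟩ := hx
    have hp' : IsPGroup p (Subgroup.zpowers x) :=
      IsPGroup.of_card ((Nat.card_zpowers x).trans hk)
    obtain ⟨P, hP⟩ := hp'.exists_le_sylow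
    refine ⟨x, ⟨k, hk⟩, P, hP (Subgroup.mem_zpowers x), fun P' hP' => ?_⟩
    have e1 : P = Q := by
      by_contra hne; exact hx' P hne (hP (Subgroup.mem_zpowers x))
    by_contra hne
    exact hx' P' (e1 ▸ hne) hP'
  · rintro ⟨x, ⟨k, hk⟩, P, hP, hu⟩ Q
    obtain ⟨g, hg⟩ := MulAction.exists_smul_eq G P Q
    refine ⟨g * x * g⁻¹, ⟨k, ?_⟩, fun P' hne hmem => hne ?_⟩
    · rw [← hk]
      exact MulEquiv.orderOf_eq (MulAut.conj g) x
    · have h1 : x ∈ g⁻¹ • P' := by
        show x ∈ ((g⁻¹ • P' : Sylow p G) : Subgroup G)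
        rw [Sylow.coe_subgroup_smul, Subgroup.mem_pointwise_smul_iff_inv_smul_mem]
        simpa [MulAut.smul_def, mul_assoc] using (show g * x * g⁻¹ ∈ (P' : Subgroup G) from hmem)
      rw [← hu _ h1] at hg
      rw [← hg, smul_inv_smul]

end Cfsg.Agent.S4347
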