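import Cfsg.Statements.S4348
-- import your own Cfsg.Agent.* helpers here

set_option autoImplicit false
open Cfsg

namespace Cfsg.Agent.S4348

/-- Let G be a finite group, p a prime and P a Sylow p-subgroup of G, and let O_p(G) be the largest normal p-subgroup of G. If P/O_p(G) is cyclic, then some element of p-power order of G lies in exactly one Sylow p-subgroup. -/
theorem result {G : Type*} [Group G] [Finite G]
    (p : ℕ) [Fact p.Prime] (P : Sylow p G)
    [hn : ((Cfsg.pCore p G).subgroupOf (P : Subgroup G)).Normal]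
    (hc : IsCyclic ((P : Subgroup G) ⧸ (Cfsg.pCore p G).subgroupOf (P : Subgroup G))) :
    ∃ x : G, (∃ k : ℕ, orderOf x = p ^ k) ∧ ∃! Q : Sylow p G, x ∈ Q := by
  obtain ⟨q, hq⟩ := hc.exists_generator
  obtain ⟨x, rfl⟩ := QuotientGroup.mk_surjective q
  refine ⟨x, ?_, P, x.2, fun Q hQ => ?_⟩
  · obtain ⟨k, hk⟩ := P.2 x
    obtain ⟨j, -, hj⟩ := (Nat.dvd_prime_pow Fact.out).mp (orderOf_dvd_of_pow_eq_one hk)
    exact ⟨j, by rw [← hj]; simp⟩
  · have hO : Cfsg.pCore p G ≤ (Q : Subgroup G) := by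
      apply sSup_le
      rintro N ⟨hN, hNp⟩
      exact IsPGroup.le_sylow_of_normal hNp Q
    have hle : (P : Subgroup G) ≤ Q := by
      intro y hy
      obtain ⟨n, hn⟩ := Subgroup.mem_zpowers_iff.mp (hq (QuotientGroup.mk ⟨y, hy⟩))
      rw [← QuotientGroup.mk_zpow, QuotientGroup.eq, Subgroup.mem_subgroupOf] at hn
      have := (Q : Subgroup G).mul_mem (zpow_mem hQ n) (hO hn)
      simpa using this
    exact Sylow.ext (P.3 Q.2 hle)

end Cfsg.Agent.S4348
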