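import Cfsg.Statements.S4354
-- import your own Cfsg.Agent.* helpers here

set_option autoImplicit false
open Cfsg

namespace Cfsg.Agent.S4354

section

variable {G : Type*} [Group G] [Finite G] {p : ℕ} [Fact p.Prime]

lemma exists_sylow_le (H : Subgroup G) (h : ¬ p ∣ H.index) :
    ∃ Q : Sylow p G, (Q : Subgroup G) ≤ H := by
  obtain ⟨S⟩ : Nonempty (Sylow p H) := inferInstance
  have hcard : Nat.card ↥((S : Subgroup H).map H.subtype) =
      p ^ (Nat.card G).factorization p := by
    rw [Subgroup.card_map_of_injective H.subtype_injective, S.card_eq_multiplicity,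
      ← H.card_mul_index, Nat.factorization_mul (Nat.card_pos.ne') Subgroup.index_ne_zero_of_finite,
      Finsupp.add_apply, Nat.factorization_eq_zero_of_not_dvd h, add_zero]
  exact ⟨Sylow.ofCard _ hcard, Subgroup.map_subtype_le _⟩

lemma exists_sylow_centralizer {x : G}
    (h : ¬ p ∣ (Subgroup.centralizer ({x} : Set G)).index) :
    ∃ Q : Sylow p G, ∀ q ∈ (Q : Subgroup G), q * x = x * q := by
  obtain ⟨Q, hQ⟩ := exists_sylow_le _ h
  exact ⟨Q, fun q hq => Subgroup.mem_centralizer_singleton_iff.mp (hQ hq)⟩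

lemma relIndex_sup_eq (C N : Subgroup G) [N.Normal] :
    C.relIndex (C ⊔ N) = C.relIndex N := by
  have e1 := Subgroup.relIndex_mul_relIndex (C ⊓ N) C (C ⊔ N) inf_le_left le_sup_left
  have e2 := Subgroup.relIndex_mul_relIndex (C ⊓ N) N (C ⊔ N) inf_le_right le_sup_right
  rw [Subgroup.inf_relIndex_left] at e1
  rw [Subgroup.inf_relIndex_right, Subgroup.relIndex_sup_right] at e2
  have e3 : N.relIndex C * C.relIndex (C ⊔ N) = N.relIndex C * C.relIndex N := by
    rw [e1, ← e2, mul_comm]
  exact Nat.eq_of_mul_eq_mul_left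
    (Nat.pos_of_ne_zero (Subgroup.index_ne_zero_of_finite (H := N.subgroupOf C))) e3

lemma not_dvd_relIndex (Q : Sylow p G) (N : Subgroup G) [N.Normal] :
    ¬ p ∣ (Q : Subgroup G).relIndex N := fun h =>
  Q.not_dvd_index (h.trans (relIndex_sup_eq (Q : Subgroup G) N ▸
    Subgroup.relIndex_dvd_index_of_le le_sup_left))

lemma pElement_of_mem {S : Subgroup G} (hS : IsPGroup p S) {x : G} (hx : x ∈ S) :
    ∃ k : ℕ, orderOf x = p ^ k := by
  obtain ⟨k, hk⟩ := hS.exists_orderOf_eq_pow ⟨x, hx⟩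
  exact ⟨k, by simpa using hk⟩

lemma pPart_pElement (g : G) :
    ∃ e : ℕ, orderOf (g ^ (orderOf g / p ^ (orderOf g).factorization p)) = p ^ e := by
  have h1 : (g ^ (orderOf g / p ^ (orderOf g).factorization p)) ^
      p ^ (orderOf g).factorization p = 1 := by
    rw [← pow_mul, Nat.div_mul_cancel (Nat.ordProj_dvd _ _), pow_orderOf_eq_one]
  obtain ⟨e, -, he⟩ := (Nat.dvd_prime_pow (Fact.out : p.Prime)).mp (orderOf_dvd_of_pow_eq_one h1)
  exact ⟨e, he⟩

/-- the class size property passes to normal subgroups -/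
lemma prop_normal (N : Subgroup G) [N.Normal]
    (hx : ∀ x : G, (∃ k : ℕ, orderOf x = p ^ k) →
      ¬ p ∣ (Subgroup.centralizer ({x} : Set G)).index)
    (x : N) (hxp : ∃ k : ℕ, orderOf x = p ^ k) :
    ¬ p ∣ (Subgroup.centralizer ({x} : Set N)).index := by
  obtain ⟨k, hk⟩ := hxp
  obtain ⟨Q, hQ⟩ := exists_sylow_centralizer (hx (x : G) ⟨k, by rw [Subgroup.orderOf_coe, hk]⟩)
  intro h
  have hle : (Q : Subgroup G).subgroupOf N ≤ Subgroup.centralizer ({x} : Set N) := fun y hy =>
    Subgroup.mem_centralizer_singleton_iff.mpr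
      (Subtype.ext (hQ (y : G) (Subgroup.mem_subgroupOf.mp hy)))
  exact not_dvd_relIndex Q N (h.trans (Subgroup.index_dvd_of_le hle))

/-- the class size property passes to quotients -/
lemma prop_quotient (N : Subgroup G) [N.Normal]
    (hx : ∀ x : G, (∃ k : ℕ, orderOf x = p ^ k) →
      ¬ p ∣ (Subgroup.centralizer ({x} : Set G)).index)
    (x : G ⧸ N) (hxp : ∃ k : ℕ, orderOf x = p ^ k) :
    ¬ p ∣ (Subgroup.centralizer ({x} : Set (G ⧸ N))).index := by
  have hp : p.Prime := Fact.out
  obtain ⟨k, hk⟩ := hxp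
  obtain ⟨g, rfl⟩ := QuotientGroup.mk'_surjective N x
  have hcop : Nat.Coprime (p ^ k) (orderOf g / p ^ (orderOf g).factorization p) :=
    Nat.Coprime.pow_left k (Nat.coprime_ordCompl hp (orderOf_pos g).ne')
  obtain ⟨j, hj⟩ := exists_pow_eq_self_of_coprime
    (n := orderOf g / p ^ (orderOf g).factorization p) (x := QuotientGroup.mk' N g)
    (by rw [hk]; exact hcop.symm)
  obtain ⟨Q, hQ⟩ := exists_sylow_centralizer (hx _ (pPart_pElement g))
  intro h
  have hle : (Q : Subgroup G).map (QuotientGroup.mk' N) ≤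
      Subgroup.centralizer ({QuotientGroup.mk' N g} : Set (G ⧸ N)) := by
    rintro _ ⟨q, hq, rfl⟩
    apply Subgroup.mem_centralizer_singleton_iff.mpr
    rw [← hj, ← map_pow]
    apply Commute.pow_right
    rw [Commute, SemiconjBy, ← map_mul, hQ q hq, map_mul]
  exact Q.not_dvd_index ((h.trans (Subgroup.index_dvd_of_le hle)).trans
    (Subgroup.index_map_dvd _ (QuotientGroup.mk'_surjective N)))

/-- all Sylow subgroups abelian: the elements of any p-subgroup commute -/
lemma comm_of_sylow_abelian {H : Type*} [Group H] [Finite H]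
    (hab : ∀ P : Sylow p H, IsMulCommutative P) {S : Subgroup H} (hS : IsPGroup p S)
    {a b : H} (ha : a ∈ S) (hb : b ∈ S) : a * b = b * a := by
  obtain ⟨P, hP⟩ := hS.exists_le_sylow
  exact congrArg Subtype.val ((isMulCommutative_iff.mp (hab P)) ⟨a, hP ha⟩ ⟨b, hP hb⟩)

lemma conj_pow_of_central {a y z : G} (h : a * y * a⁻¹ = z * y) (hza : Commute z a) :
    ∀ m : ℕ, a ^ m * y * (a ^ m)⁻¹ = z ^ m * y := by
  intro m
  induction m with
  | zero => simp
  | succ n ih =>
    have e : a ^ (n + 1) * y * (a ^ (n + 1))⁻¹ = a * (a ^ n * y * (a ^ n)⁻¹) * a⁻¹ := by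
      rw [pow_succ']; group
    rw [e, ih, ← mul_assoc a (z ^ n) y, (hza.symm.pow_right n).eq, mul_assoc (z ^ n) a y,
      mul_assoc (z ^ n) (a * y) a⁻¹, h, ← mul_assoc, ← pow_succ]

lemma exists_max_inf (P0 : Sylow p G) (N : Subgroup G) [N.Normal] (B : Subgroup G)
    (hAB : (P0 : Subgroup G) ⊓ N ≤ B) (hBN : B ≤ N) (hB : IsPGroup p B) :
    B ≤ (P0 : Subgroup G) ⊓ N := by
  obtain ⟨e, he⟩ := IsPGroup.iff_card.mp hB
  have h1 : ((P0 : Subgroup G) ⊓ N).relIndex B ∣ p ^ e :=
    he ▸ (((P0 : Subgroup G) ⊓ N).subgroupOf B).index_dvd_card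
  have h2 : ((P0 : Subgroup G) ⊓ N).relIndex B ∣ ((P0 : Subgroup G) ⊓ N).relIndex N :=
    ⟨_, (Subgroup.relIndex_mul_relIndex _ B N hAB hBN).symm⟩
  obtain ⟨i, -, hi⟩ := (Nat.dvd_prime_pow (Fact.out : p.Prime)).mp h1
  rcases Nat.eq_zero_or_pos i with rfl | hi0
  · exact Subgroup.relIndex_eq_one.mp (by simpa using hi)
  · rw [Subgroup.inf_relIndex_right, hi] at h2
    exact absurd ((dvd_pow_self p hi0.ne').trans h2) (not_dvd_relIndex P0 N)

/-- the core argument: `N` and `G ⧸ N` have abelian Sylow subgroups, so `G` has -/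
lemma sylow_abelian (N : Subgroup G) [N.Normal]
    (hx : ∀ x : G, (∃ k : ℕ, orderOf x = p ^ k) →
      ¬ p ∣ (Subgroup.centralizer ({x} : Set G)).index)
    (hN : ∀ P : Sylow p N, IsMulCommutative P) (hQ : ∀ P : Sylow p (G ⧸ N), IsMulCommutative P) :
    ∀ P : Sylow p G, IsMulCommutative P := by
  have hp : p.Prime := Fact.out
  obtain ⟨P0⟩ : Nonempty (Sylow p G) := inferInstance
  set A : Subgroup G := (P0 : Subgroup G) ⊓ N with hA
  have hAp : IsPGroup p A := P0.2.to_le inf_le_left
  have hAN : A ≤ N := inf_le_right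
  have hAmax : ∀ B : Subgroup G, A ≤ B → B ≤ N → IsPGroup p B → B ≤ A :=
    fun B => exists_max_inf P0 N B
  have hAidx : ¬ p ∣ A.relIndex N := by
    rw [hA, Subgroup.inf_relIndex_right]; exact not_dvd_relIndex P0 N
  have hAS : IsPGroup p (A.subgroupOf N) := hAp.comap_of_injective _ N.subtype_injective
  have hAcomm : ∀ a ∈ A, ∀ b ∈ A, a * b = b * a := fun a ha b hb =>
    congrArg Subtype.val (comm_of_sylow_abelian hN hAS
      (a := ⟨a, hAN ha⟩) (b := ⟨b, hAN hb⟩) (Subgroup.mem_subgroupOf.mpr ha)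
      (Subgroup.mem_subgroupOf.mpr hb))
  set C : Subgroup G := Subgroup.centralizer (A : Set G) with hC
  have hAC : A ≤ C := fun a ha =>
    Subgroup.mem_centralizer_iff.mpr fun b hb => hAcomm b hb a ha
  have hCA : ∀ c ∈ C, ∀ a ∈ A, a * c = c * a := fun c hc a ha =>
    Subgroup.mem_centralizer_iff.mp hc a ha
  -- every p-element lies in C ⊔ N
  have hsup : ∀ x : G, (∃ k : ℕ, orderOf x = p ^ k) → x ∈ C ⊔ N := by
    intro x hxp
    obtain ⟨R, hR⟩ := exists_sylow_centralizer (hx x hxp)
    obtain ⟨SA, hSA⟩ := hAS.exists_le_sylow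
    obtain ⟨SR, hSR⟩ := (R.2.comap_of_injective N.subtype N.subtype_injective).exists_le_sylow
    have hSR' : (SR : Subgroup N) ≤ (R : Subgroup G).subgroupOf N := by
      intro u hu
      have hidx : ¬ p ∣ ((R : Subgroup G).subgroupOf N).index := not_dvd_relIndex R N
      have hSyl : IsPGroup.toSylow (R.2.comap_of_injective N.subtype N.subtype_injective) hidx = SR :=
        Sylow.ext ((IsPGroup.toSylow _ hidx).3 SR.2 hSR).symm
      rw [← hSyl] at hu
      exact hu
    obtain ⟨n, hn⟩ := MulAction.exists_smul_eq N SR SA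
    have hmem : (n : G) * x * (n : G)⁻¹ ∈ C := by
      refine Subgroup.mem_centralizer_iff.mpr fun a ha => ?_
      have haS : (⟨a, hAN ha⟩ : N) ∈ (SA : Subgroup N) := hSA (Subgroup.mem_subgroupOf.mpr ha)
      rw [← hn, Sylow.coe_subgroup_smul, Subgroup.mem_pointwise_smul_iff_inv_smul_mem] at haS
      have hr : (n : G)⁻¹ * a * (n : G) ∈ (R : Subgroup G) := by
        simpa [Subgroup.mem_subgroupOf, mul_assoc] using hSR' haS
      have hc := hR _ hr
      calc a * ((n : G) * x * (n : G)⁻¹)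
          = (n : G) * (((n : G)⁻¹ * a * (n : G)) * x) * (n : G)⁻¹ := by group
        _ = (n : G) * (x * ((n : G)⁻¹ * a * (n : G))) * (n : G)⁻¹ := by rw [hc]
        _ = (n : G) * x * (n : G)⁻¹ * a := by group
    have e : x = (n : G)⁻¹ * ((n : G) * x * (n : G)⁻¹) * (n : G) := by group
    rw [e]
    exact mul_mem (mul_mem (inv_mem (Subgroup.mem_sup_right n.2)) (Subgroup.mem_sup_left hmem))
      (Subgroup.mem_sup_right n.2)
  have hCidx : ¬ p ∣ C.index := by
    rw [← Subgroup.relIndex_mul_index (le_sup_left : C ≤ C ⊔ N), relIndex_sup_eq]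
    rintro hd
    rcases (Nat.Prime.dvd_mul hp).mp hd with h1 | h1
    · exact hAidx (h1.trans (Subgroup.relIndex_dvd_of_le_left N hAC))
    · exact P0.not_dvd_index (h1.trans (Subgroup.index_dvd_of_le
        (fun x hx0 => hsup x (pElement_of_mem P0.2 hx0))))
  obtain ⟨P1, hP1⟩ := exists_sylow_le C hCidx
  -- p-elements of C ⊓ N lie in A
  have hCN : ∀ b : G, b ∈ C → b ∈ N → (∃ k : ℕ, orderOf b = p ^ k) → b ∈ A := by
    rintro b hbC hbN ⟨k, hk⟩
    have hb : IsPGroup p (Subgroup.zpowers b) :=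
      IsPGroup.of_card (n := k) (by rw [Nat.card_zpowers, hk])
    exact hAmax _ le_sup_left (sup_le hAN (Subgroup.zpowers_le.mpr hbN))
      (hAp.to_sup_of_normal_left' hb
        ((Subgroup.zpowers_le.mpr hbC).trans (Subgroup.centralizer_le_normalizer _)))
      (Subgroup.mem_sup_right (Subgroup.mem_zpowers b))
  have hP1c : ∀ x ∈ (P1 : Subgroup G), ∀ y ∈ (P1 : Subgroup G), x * y = y * x := by
    intro x hxP y hyP
    have hxC := hP1 hxP
    have hyC := hP1 hyP
    set π := QuotientGroup.mk' N with hπ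
    have hQxy : π x * π y = π y * π x :=
      comm_of_sylow_abelian hQ (P1.2.map π) (Subgroup.mem_map_of_mem π hxP)
        (Subgroup.mem_map_of_mem π hyP)
    have hzN : x * y * x⁻¹ * y⁻¹ ∈ N := by
      rw [← QuotientGroup.eq_one_iff, ← QuotientGroup.mk'_apply, map_mul, map_mul, map_mul,
        map_inv, map_inv, ← hπ, hQxy]
      group
    have hzP : x * y * x⁻¹ * y⁻¹ ∈ (P1 : Subgroup G) :=
      mul_mem (mul_mem (mul_mem hxP hyP) (inv_mem hxP)) (inv_mem hyP)
    have hzA : x * y * x⁻¹ * y⁻¹ ∈ A := hCN _ (hP1 hzP) hzN (pElement_of_mem P1.2 hzP)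
    -- a Sylow subgroup containing A inside the centraliser of x, hence inside C
    set D := Subgroup.centralizer ({x} : Set G) with hD
    have hAD : A ≤ D := fun a ha =>
      Subgroup.mem_centralizer_singleton_iff.mpr (hCA x hxC a ha)
    obtain ⟨S, hS⟩ := (hAp.comap_of_injective D.subtype D.subtype_injective).exists_le_sylow
    have hRcard : Nat.card ↥((S : Subgroup D).map D.subtype) =
        p ^ (Nat.card G).factorization p := by
      rw [Subgroup.card_map_of_injective D.subtype_injective, S.card_eq_multiplicity,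
        ← D.card_mul_index,
        Nat.factorization_mul (Nat.card_pos.ne') Subgroup.index_ne_zero_of_finite,
        Finsupp.add_apply,
        Nat.factorization_eq_zero_of_not_dvd (hx x (pElement_of_mem P1.2 hxP)), add_zero]
    let R : Sylow p G := Sylow.ofCard _ hRcard
    have hAR : A ≤ (R : Subgroup G) := fun a ha =>
      ⟨⟨a, hAD ha⟩, hS ha, rfl⟩
    have hRD : (R : Subgroup G) ≤ D := Subgroup.map_subtype_le _
    have hRN : (R : Subgroup G) ⊓ N ≤ A :=
      hAmax _ (le_inf hAR hAN) inf_le_right (R.2.to_le inf_le_left)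
    have hRC : ∀ r ∈ (R : Subgroup G), r ∈ C := by
      intro r hr
      have hNn : N.Normal := inferInstance
      have hrn : r ∈ Subgroup.normalizer (A : Set G) := by
        refine Subgroup.mem_normalizer_iff.mpr fun a => ⟨fun ha => ?_, fun ha => ?_⟩
        · exact hRN ⟨(R : Subgroup G).mul_mem ((R : Subgroup G).mul_mem hr (hAR ha))
            ((R : Subgroup G).inv_mem hr), hNn.conj_mem a (hAN ha) r⟩
        · have e : a = r⁻¹ * (r * a * r⁻¹) * r := by group
          refine hRN ⟨?_, ?_⟩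
          · rw [e]
            exact (R : Subgroup G).mul_mem ((R : Subgroup G).mul_mem
              ((R : Subgroup G).inv_mem hr) (hAR ha)) hr
          · simpa [mul_assoc] using hNn.conj_mem _ (hAN ha) r⁻¹
      set K := C.subgroupOf (Subgroup.normalizer (A : Set G)) with hK
      have : K.Normal := Subgroup.normal_subgroupOf_centralizer_normalizer (A : Set G)
      have hKidx : K.index ∣ C.index :=
        ⟨_, (Subgroup.relIndex_mul_index (Subgroup.centralizer_le_normalizer _)).symm⟩
      obtain ⟨e, he⟩ := pElement_of_mem R.2 hr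
      have h1 := K.pow_index_mem (⟨r, hrn⟩ : Subgroup.normalizer (A : Set G))
      have hcop : Nat.Coprime K.index
          (orderOf (⟨r, hrn⟩ : Subgroup.normalizer (A : Set G))) := by
        rw [Subgroup.orderOf_mk, he]
        exact Nat.Coprime.pow_right e
          ((Nat.Prime.coprime_iff_not_dvd hp).mpr (fun h => hCidx (h.trans hKidx))).symm
      obtain ⟨j, hj⟩ := exists_pow_eq_self_of_coprime hcop
      have h2 : (⟨r, hrn⟩ : Subgroup.normalizer (A : Set G)) ∈ K := hj ▸ pow_mem h1 j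
      exact Subgroup.mem_subgroupOf.mp h2
    -- T : the elements of C commuting with x modulo N
    let T : Subgroup G := C ⊓ (Subgroup.centralizer ({π x} : Set (G ⧸ N))).comap π
    have hRT : (R : Subgroup G) ≤ T := fun r hr => ⟨hRC r hr,
      Subgroup.mem_centralizer_singleton_iff.mpr (by
        rw [← map_mul, ← map_mul, Subgroup.mem_centralizer_singleton_iff.mp (hRD hr)])⟩
    have hyT : y ∈ T := ⟨hyC, Subgroup.mem_centralizer_singleton_iff.mpr hQxy.symm⟩
    have hyp : IsPGroup p (Subgroup.zpowers (⟨y, hyT⟩ : T)) := by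
      obtain ⟨k, hk⟩ := pElement_of_mem P1.2 hyP
      exact IsPGroup.of_card (n := k) (by rw [Nat.card_zpowers, Subgroup.orderOf_mk, hk])
    obtain ⟨Sy, hSy⟩ := hyp.exists_le_sylow
    obtain ⟨t, ht⟩ := MulAction.exists_smul_eq T (R.subtype hRT) Sy
    have hy' : (⟨y, hyT⟩ : T) ∈ (Sy : Subgroup T) := hSy (Subgroup.mem_zpowers _)
    rw [← ht, Sylow.coe_subgroup_smul, Subgroup.mem_pointwise_smul_iff_inv_smul_mem] at hy'
    have hq : (t : G)⁻¹ * y * (t : G) ∈ (R : Subgroup G) := by
      simpa [Subgroup.mem_subgroupOf, mul_assoc] using hy'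
    obtain ⟨htC, htN⟩ := t.2
    set q := (t : G)⁻¹ * y * (t : G) with hqdef
    have hxq : q * x = x * q := Subgroup.mem_centralizer_singleton_iff.mp (hRD hq)
    set a := x * (t : G) * x⁻¹ * (t : G)⁻¹ with hadef
    have haC : a ∈ C := mul_mem (mul_mem (mul_mem hxC htC) (inv_mem hxC)) (inv_mem htC)
    have haN : a ∈ N := by
      have h1 : π (t : G) * π x = π x * π (t : G) :=
        Subgroup.mem_centralizer_singleton_iff.mp htN
      rw [← QuotientGroup.eq_one_iff, ← QuotientGroup.mk'_apply, hadef, map_mul, map_mul, map_mul,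
        map_inv, map_inv, ← hπ, ← h1]
      group
    set z := x * y * x⁻¹ * y⁻¹ with hz
    have hrel : a * y * a⁻¹ = z * y := by
      have e2 : x * q * x⁻¹ = q := by rw [← hxq]; group
      have e3 : a * y * a⁻¹ = (x * (t : G) * x⁻¹) * q * (x * (t : G) * x⁻¹)⁻¹ := by
        rw [hadef, hqdef]; group
      have e4 : (x * (t : G) * x⁻¹) * q * (x * (t : G) * x⁻¹)⁻¹ =
          (x * (t : G) * x⁻¹) * (x * q * x⁻¹) * (x * (t : G) * x⁻¹)⁻¹ := by rw [e2]
      have e5 : (x * (t : G) * x⁻¹) * (x * q * x⁻¹) * (x * (t : G) * x⁻¹)⁻¹ = z * y := by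
        rw [hz, hqdef]; group
      rw [e3, e4, e5]
    have hza : Commute z a := hCA a haC z hzA
    have ham : a ^ (orderOf a / p ^ (orderOf a).factorization p) ∈ A :=
      hCN _ (pow_mem haC _) (pow_mem haN _) (pPart_pElement a)
    have hzm : z ^ (orderOf a / p ^ (orderOf a).factorization p) = 1 := by
      have h1 := conj_pow_of_central hrel hza (orderOf a / p ^ (orderOf a).factorization p)
      rw [hCA y hyC _ ham, mul_inv_cancel_right] at h1
      exact mul_eq_right.mp h1.symm
    obtain ⟨k, hk⟩ := pElement_of_mem P1.2 hzP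
    have hz1 : z = 1 := by
      have hd := orderOf_dvd_of_pow_eq_one hzm
      have hc : Nat.Coprime (orderOf z) (orderOf a / p ^ (orderOf a).factorization p) := by
        rw [hk]; exact Nat.Coprime.pow_left k (Nat.coprime_ordCompl hp (orderOf_pos a).ne')
      exact orderOf_eq_one_iff.mp (Nat.eq_one_of_dvd_coprimes hc dvd_rfl hd)
    calc x * y = z * (y * x) := by rw [hz]; group
      _ = y * x := by rw [hz1, one_mul]
  intro P
  have : IsMulCommutative P1 :=
    isMulCommutative_iff.mpr fun a b => Subtype.ext (hP1c a a.2 b b.2)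
  let e : P ≃* P1 := Sylow.equiv P P1
  exact isMulCommutative_iff.mpr fun a b => e.injective (by rw [map_mul, map_mul, mul_comm'])

end


/-- Let G be a finite group and p a prime such that the Sylow p-subgroups of G are non-abelian while every element of p-power order has conjugacy class size prime to p, and suppose no nontrivial proper normal subgroup N of G has this property and no quotient G/N by such an N has it. Then G is simple. -/
theorem result {G : Type*} [Group G] [Finite G]
    (p : ℕ) [Fact p.Prime] (h : ((∃ P : Sylow p G, ¬ IsMulCommutative P) ∧ ∀ x : G, (∃ k : ℕ, orderOf x = p ^ k) → ¬ p ∣ (Subgroup.centralizer ({x} : Set G)).index))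
    (hmin : ∀ (N : Subgroup G) [N.Normal], N ≠ ⊥ → N ≠ ⊤ →
      ¬ ((∃ P : Sylow p N, ¬ IsMulCommutative P) ∧ ∀ x : N, (∃ k : ℕ, orderOf x = p ^ k) → ¬ p ∣ (Subgroup.centralizer ({x} : Set N)).index) ∧
      ¬ ((∃ P : Sylow p (G ⧸ N), ¬ IsMulCommutative P) ∧ ∀ x : (G ⧸ N), (∃ k : ℕ, orderOf x = p ^ k) → ¬ p ∣ (Subgroup.centralizer ({x} : Set (G ⧸ N))).index)) :
    IsSimpleGroup G := by
  obtain ⟨⟨P, hP⟩, hx⟩ := h
  have : Nontrivial G := by
    by_contra hG
    have : Subsingleton G := not_nontrivial_iff_subsingleton.mp hG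
    exact hP (isMulCommutative_iff.mpr fun a b => Subsingleton.elim _ _)
  refine ⟨fun N hN => ?_⟩
  by_contra hne
  rw [not_or] at hne
  obtain ⟨h1, h2⟩ := hmin N hne.1 hne.2
  refine hP (sylow_abelian N hx ?_ ?_ P)
  · intro S
    by_contra hS
    exact h1 ⟨⟨S, hS⟩, prop_normal N hx⟩
  · intro S
    by_contra hS
    exact h2 ⟨⟨S, hS⟩, prop_quotient N hx⟩

end Cfsg.Agent.S4354
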