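import Cfsg.Statements.S4358
import Cfsg.Agent.Lib.GL.Basic
-- import your own Cfsg.Agent.* helpers here

set_option autoImplicit false
open Cfsg

namespace Cfsg.Agent.S4358

section

open Matrix
open scoped MatrixGroups Pointwise

variable {F : Type*} [Field F] {p : ℕ} [hp : Fact p.Prime]

/-- The monomial matrix with entries `d` along the cyclic shift by `k`. -/
def mon (d : Fin p → F) (k : Fin p) : Matrix (Fin p) (Fin p) F :=
  Matrix.of fun i j => if i = j + k then d i else 0

theorem mon_apply (d : Fin p → F) (k i j : Fin p) : mon d k i j = if i = j + k then d i else 0 := rfl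

theorem mon_mul (d e : Fin p → F) (k l : Fin p) :
    mon d k * mon e l = mon (fun i => d i * e (i - k)) (l + k) := by
  ext i j
  rw [Matrix.mul_apply, Finset.sum_eq_single (i - k)]
  · simp only [mon_apply, sub_add_cancel, if_true]
    by_cases h : i - k = j + l
    · rw [if_pos h, if_pos]
      rw [← add_assoc, ← h, sub_add_cancel]
    · rw [if_neg h, if_neg, mul_zero]
      intro h'
      exact h (by rw [h']; abel)
  · intro m _ hm
    rw [mon_apply, if_neg, zero_mul]
    intro h
    exact hm (by rw [h]; abel)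
  · exact fun h => absurd (Finset.mem_univ _) h

theorem mon_one : mon (fun _ => (1 : F)) (0 : Fin p) = 1 := by
  ext i j
  simp [mon_apply, Matrix.one_apply]

theorem mon_pow (d : Fin p → F) (k : Fin p) (m : ℕ) :
    mon d k ^ m = mon (fun i => ∏ t ∈ Finset.range m, d (i - t • k)) (m • k) := by
  induction m with
  | zero => simp [mon_one]
  | succ m ih =>
    rw [pow_succ, ih, mon_mul]
    have h2 : k + m • k = (m + 1) • k := by rw [succ_nsmul, add_comm]
    rw [h2]
    congr 1
    funext i
    rw [Finset.prod_range_succ]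

theorem nsmul_inj {k : Fin p} (hk : k ≠ 0) {s t : ℕ} (hs : s < p) (ht : t < p)
    (h : s • k = t • k) : s = t := by
  have hord : addOrderOf k = p := by
    have hd := addOrderOf_dvd_natCard k
    rw [Nat.card_eq_fintype_card, Fintype.card_fin] at hd
    exact ((Nat.dvd_prime hp.out).mp hd).resolve_left fun h => hk (AddMonoid.addOrderOf_eq_one_iff.mp h)
  have := nsmul_eq_nsmul_iff_modEq.mp h
  rw [hord] at this
  rwa [Nat.ModEq, Nat.mod_eq_of_lt hs, Nat.mod_eq_of_lt ht] at this

theorem mon_pow_p (d : Fin p → F) {k : Fin p} (hk : k ≠ 0) :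
    mon d k ^ p = (∏ j, d j) • (1 : Matrix (Fin p) (Fin p) F) := by
  rw [mon_pow]
  have hpk : p • k = 0 := by
    have := card_nsmul_eq_zero (x := k)
    rwa [Fintype.card_fin] at this
  rw [hpk]
  ext i j
  rw [mon_apply, Matrix.smul_apply, Matrix.one_apply, add_zero]
  split_ifs with h
  · rw [smul_eq_mul, mul_one, ← Fin.prod_univ_eq_prod_range (fun t => d (i - t • k)) p]
    refine Fintype.prod_bijective _ ?_ _ _ fun t => rfl
    exact Finite.injective_iff_bijective.mp fun s t h =>
      Fin.ext (nsmul_inj hk s.2 t.2 (sub_right_injective h))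
  · rw [smul_zero]

theorem mon_inj {d e : Fin p → F} {k l : Fin p} (hd : ∀ i, d i ≠ 0) (h : mon d k = mon e l) :
    d = e ∧ k = l := by
  have h0 := congrFun (congrFun h k) 0
  simp only [mon_apply, zero_add, if_true] at h0
  have hkl : k = l := by
    by_contra hne
    rw [if_neg hne] at h0
    exact hd k h0
  subst hkl
  refine ⟨funext fun i => ?_, rfl⟩
  have := congrFun (congrFun h i) (i - k)
  simpa [mon_apply] using this

theorem ne_zero_of_pow_eq_one {a : F} (h : a ^ p = 1) : a ≠ 0 := fun h0 => by
  rw [h0, zero_pow hp.out.ne_zero] at h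
  exact zero_ne_one h

variable (F p) in
/-- The monomial matrices with `p`-th roots of unity as entries along the cyclic shifts. -/
def monGroup : Subgroup (GL (Fin p) F) where
  carrier := {g | ∃ (d : Fin p → F) (k : Fin p), (∀ i, d i ^ p = 1) ∧ (g : Matrix _ _ F) = mon d k}
  one_mem' := ⟨fun _ => 1, 0, fun _ => one_pow p, by rw [mon_one]; rfl⟩
  mul_mem' := by
    rintro g h ⟨d, k, hd, hg⟩ ⟨e, l, he, hh⟩
    exact ⟨fun i => d i * e (i - k), l + k, fun i => by rw [mul_pow, hd, he, one_mul], by
      rw [Units.val_mul, hg, hh, mon_mul]⟩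
  inv_mem' := by
    rintro g ⟨d, k, hd, hg⟩
    refine ⟨fun i => d (i + k) ^ (p - 1), -k,
      fun i => by rw [← pow_mul, mul_comm, pow_mul, hd, one_pow], ?_⟩
    have h1 : ((g⁻¹ : GL (Fin p) F) : Matrix _ _ F) * mon d k = 1 := by rw [← hg, ← Units.val_mul]; simp
    have h2 : mon d k * mon (fun i => d (i + k) ^ (p - 1)) (-k) = 1 := by
      rw [mon_mul, neg_add_cancel, ← mon_one]
      congr 1
      funext i
      rw [sub_add_cancel, ← pow_succ', Nat.sub_add_cancel hp.out.one_le, hd]
    exact left_inv_eq_right_inv h1 h2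

theorem mem_monGroup {g : GL (Fin p) F} :
    g ∈ monGroup F p ↔ ∃ (d : Fin p → F) (k : Fin p), (∀ i, d i ^ p = 1) ∧
      (g : Matrix _ _ F) = mon d k := Iff.rfl

/-- The element of `monGroup` with given data. -/
def monUnit (d : Fin p → F) (k : Fin p) (hd : ∀ i, d i ^ p = 1) : GL (Fin p) F where
  val := mon d k
  inv := mon (fun i => d (i + k) ^ (p - 1)) (-k)
  val_inv := by
    rw [mon_mul, neg_add_cancel, ← mon_one]
    congr 1
    funext i
    rw [sub_add_cancel, ← pow_succ', Nat.sub_add_cancel hp.out.one_le, hd]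
  inv_val := by
    rw [mon_mul, add_neg_cancel, ← mon_one]
    congr 1
    funext i
    rw [sub_neg_eq_add, ← pow_succ, Nat.sub_add_cancel hp.out.one_le, hd]

variable [Fintype F]

theorem card_monGroup (h1 : p ∣ Fintype.card F - 1) : Nat.card (monGroup F p) = p ^ (p + 1) := by
  have hμ : Nat.card (rootsOfUnity p F) = p := by
    rw [GL.card_rootsOfUnity_eq_gcd, Nat.gcd_eq_right h1]
  have hd : ∀ (d : Fin p → rootsOfUnity p F) (i : Fin p), ((d i : Fˣ) : F) ^ p = 1 := fun d i => by
    rw [← Units.val_pow_eq_pow_val, (mem_rootsOfUnity p _).mp (d i).2, Units.val_one]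
  let f : (Fin p → rootsOfUnity p F) × Fin p → monGroup F p := fun x =>
    ⟨monUnit (fun i => ((x.1 i : Fˣ) : F)) x.2 (hd x.1), ⟨_, _, hd x.1, rfl⟩⟩
  have hf : Function.Bijective f := by
    constructor
    · rintro ⟨d, k⟩ ⟨e, l⟩ h
      obtain ⟨h1, h2⟩ := mon_inj (fun i => (d i : Fˣ).ne_zero)
        (congrArg Units.val (congrArg Subtype.val h) :)
      subst h2
      have : d = e := funext fun i => Subtype.ext (Units.ext (congrFun h1 i))
      rw [this]
    · rintro ⟨g, d, k, hd', hg⟩
      have hu : ∀ i, Units.mk0 (d i) (ne_zero_of_pow_eq_one (hd' i)) ∈ rootsOfUnity p F := fun i => by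
        rw [mem_rootsOfUnity]; exact Units.ext (by simp [hd'])
      exact ⟨⟨fun i => ⟨_, hu i⟩, k⟩, Subtype.ext (Units.ext hg.symm)⟩
  rw [← Nat.card_congr (Equiv.ofBijective f hf), Nat.card_prod, Nat.card_pi]
  rw [Finset.prod_congr rfl fun i _ => hμ, Finset.prod_const, Finset.card_univ, Fintype.card_fin,
    Nat.card_fin, pow_succ]

theorem factorization_card_GL (h2p : p ≠ 2) (h1 : p ∣ Fintype.card F - 1)
    (h2 : ¬ p ^ 2 ∣ Fintype.card F - 1) :
    (Nat.card (GL (Fin p) F)).factorization p = p + 1 := by
  set q := Fintype.card F with hq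
  have hq1 : 1 < q := Fintype.one_lt_card
  have hpq : ¬ p ∣ q := fun h => by
    have := Nat.dvd_sub h h1
    rw [Nat.sub_sub_self hq1.le] at this
    exact hp.out.not_dvd_one this
  have hv : padicValNat p (q - 1) = 1 := by
    have a1 : 1 ≤ padicValNat p (q - 1) := one_le_padicValNat_of_dvd (by omega) h1
    have a2 : ¬ 2 ≤ padicValNat p (q - 1) := fun h =>
      h2 ((padicValNat_dvd_iff_le (by omega)).mpr h)
    omega
  have hi : ∀ i, 1 ≤ i → padicValNat p (q ^ i - 1) = 1 + padicValNat p i := fun i hi => by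
    have := padicValNat.pow_sub_pow (p := p) (x := q) (y := 1) (hp.out.odd_of_ne_two h2p) hq1 h1 hpq
      (n := i) (by omega)
    rwa [one_pow, hv] at this
  have hne : ∀ i, 1 ≤ i → q ^ i - 1 ≠ 0 := fun i hi => by
    have := Nat.one_lt_pow (by omega : i ≠ 0) hq1
    omega
  have key : ∀ m, m ≤ p → padicValNat p (∏ i ∈ Finset.Ico 1 (m + 1), (q ^ i - 1)) =
      if m = p then p + 1 else m := by
    intro m hm
    induction m with
    | zero => simp [hp.out.ne_zero.symm]
    | succ m ih =>
      have hprod : ∏ i ∈ Finset.Ico 1 (m + 1), (q ^ i - 1) ≠ 0 :=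
        Finset.prod_ne_zero_iff.mpr fun i hi' => hne i (Finset.mem_Ico.mp hi').1
      rw [Finset.prod_Ico_succ_top (by omega), padicValNat.mul hprod (hne _ (by omega)),
        ih (by omega), if_neg (by omega), hi _ (by omega)]
      split_ifs with h
      · rw [h, padicValNat_self]; omega
      · rw [padicValNat.eq_zero_of_not_dvd fun hd =>
          h (le_antisymm hm (Nat.le_of_dvd (by omega) hd))]
  have hprod : ∏ i ∈ Finset.Ico 1 (p + 1), (q ^ i - 1) ≠ 0 :=
    Finset.prod_ne_zero_iff.mpr fun i hi' => hne i (Finset.mem_Ico.mp hi').1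
  rw [GL.card_GL_prod, ← hq, Nat.factorization_def _ hp.out, padicValNat.mul (pow_ne_zero _ (by omega)) hprod,
    key p le_rfl, if_pos rfl, padicValNat.eq_zero_of_not_dvd fun h => hpq (hp.out.dvd_of_dvd_pow h),
    zero_add]

theorem exists_root (h1 : p ∣ Fintype.card F - 1) : ∃ ζ : F, ζ ^ p = 1 ∧ ζ ≠ 1 := by
  obtain ⟨u, hu⟩ := exists_prime_orderOf_dvd_card' (G := Fˣ) p (by rwa [GL.card_units_field])
  refine ⟨u, by rw [← Units.val_pow_eq_pow_val, ← hu, pow_orderOf_eq_one, Units.val_one], fun h => ?_⟩
  rw [Units.val_eq_one.mp h, orderOf_one] at hu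
  exact hp.out.ne_one hu.symm

/-- A conjugating element with two nonzero entries in one column moves the monomial group. -/
theorem exists_not_mem (h2p : p ≠ 2) (h1 : p ∣ Fintype.card F - 1) (g : GL (Fin p) F) {a b c : Fin p}
    (hbc : b ≠ c) (hb : (g : Matrix _ _ F) b a ≠ 0) (hc : (g : Matrix _ _ F) c a ≠ 0) :
    ∃ e ∈ monGroup F p, g * e * g⁻¹ ∉ monGroup F p := by
  obtain ⟨ζ, hζ, hζ1⟩ := exists_root (F := F) h1
  set d : Fin p → F := fun i => if i = a then ζ else 1 with hd
  have hdp : ∀ i, d i ^ p = 1 := fun i => by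
    simp only [hd]; split_ifs
    · exact hζ
    · exact one_pow p
  refine ⟨monUnit d 0 hdp, ⟨_, _, hdp, rfl⟩, ?_⟩
  rintro ⟨e, k, -, he⟩
  set u : Fin p → F := fun i => (g : Matrix _ _ F) i a with hu
  set v : Fin p → F := fun j => ((g⁻¹ : GL (Fin p) F) : Matrix _ _ F) a j with hv
  have hN : ∀ i j, mon e k i j = (if i = j then (1 : F) else 0) + (ζ - 1) * u i * v j := by
    intro i j
    rw [← he]
    have hsplit : (monUnit d 0 hdp : Matrix (Fin p) (Fin p) F) =
        1 + (ζ - 1) • Matrix.single a a (1 : F) := by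
      ext i j
      show mon d 0 i j = _
      by_cases hij : i = j
      · subst hij
        by_cases hia : i = a
        · subst hia; simp [mon_apply, hd]
        · simp [mon_apply, hd, hia, Matrix.single_apply, Ne.symm hia]
      · have : ¬ (a = i ∧ a = j) := fun h => hij (h.1.symm.trans h.2)
        simp [mon_apply, hij, Matrix.single_apply, this]
    rw [Units.val_mul, Units.val_mul, hsplit, mul_add, add_mul, mul_one, ← Units.val_mul, mul_inv_cancel,
      Units.val_one, Matrix.add_apply, Matrix.one_apply, Matrix.mul_smul, Matrix.smul_mul,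
      Matrix.smul_apply, smul_eq_mul]
    congr 1
    rw [mul_assoc (ζ - 1)]
    congr 1
    rw [Matrix.mul_apply, Finset.sum_eq_single a]
    · simp [hu, hv]
    · intro m _ hm
      rw [Matrix.mul_single_apply_of_ne _ _ _ _ _ hm, zero_mul]
    · exact fun h => absurd (Finset.mem_univ _) h
  have hvu : ∃ j, v j ≠ 0 := by
    by_contra hcon
    simp only [not_exists, not_not] at hcon
    have h1' : ((g⁻¹).val * g.val) a a = 1 := by
      rw [← Units.val_mul, inv_mul_cancel, Units.val_one, Matrix.one_apply_eq]
    rw [Matrix.mul_apply] at h1'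
    have hcon' : ∀ j, (g⁻¹).val a j = 0 := fun j => hcon j
    simp only [hcon', zero_mul, Finset.sum_const_zero] at h1'
    exact zero_ne_one h1'
  have hζ' : ζ - 1 ≠ 0 := sub_ne_zero.mpr hζ1
  by_cases hk : k = 0
  · obtain ⟨j, hj⟩ := hvu
    obtain ⟨i, hij, hi⟩ : ∃ i, i ≠ j ∧ u i ≠ 0 := by
      by_cases h : b = j
      · exact ⟨c, fun hcj => hbc (h.trans hcj.symm), hc⟩
      · exact ⟨b, h, hb⟩
    have := hN i j
    rw [mon_apply, hk, add_zero, if_neg hij, if_neg hij, zero_add] at this
    exact mul_ne_zero (mul_ne_zero hζ' hi) hj this.symm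
  · have hall : ∀ i, u i ≠ 0 ∧ v i ≠ 0 := by
      intro i
      have := hN i i
      rw [mon_apply, if_neg (by simpa using hk), if_pos rfl] at this
      constructor <;> intro h0 <;> rw [h0] at this <;> simp at this
    have h3 : 3 ≤ p := by have := hp.out.two_le; omega
    have key : ∀ j : Fin p, j ≠ 0 → (0 : Fin p) = j + k := by
      intro j hj
      by_contra hne
      have := hN 0 j
      rw [mon_apply, if_neg hne, if_neg (Ne.symm hj), zero_add] at this
      exact mul_ne_zero (mul_ne_zero hζ' (hall 0).1) (hall j).2 this.symm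
    have e1 := key ⟨1, by omega⟩ (fun h => by simp [Fin.ext_iff] at h)
    have e2 := key ⟨2, by omega⟩ (fun h => by simp [Fin.ext_iff] at h)
    have := add_right_cancel (e1.symm.trans e2)
    simp [Fin.ext_iff] at this

/-- A conjugation of `x` into the monomial group with a crowded column. -/
def Good (x : GL (Fin p) F) : Prop :=
  ∃ g : GL (Fin p) F, g⁻¹ * x * g ∈ monGroup F p ∧
    ∃ a b c : Fin p, b ≠ c ∧ (g : Matrix _ _ F) b a ≠ 0 ∧ (g : Matrix _ _ F) c a ≠ 0

theorem good_of_commute {x g : GL (Fin p) F} (hx : x ∈ monGroup F p)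
    (hc : x.val * g.val = g.val * x.val) {a b c : Fin p} (hbc : b ≠ c)
    (hb : (g : Matrix _ _ F) b a ≠ 0) (hc' : (g : Matrix _ _ F) c a ≠ 0) : Good x := by
  refine ⟨g, ?_, a, b, c, hbc, hb, hc'⟩
  have : x * g = g * x := Units.ext hc
  rwa [mul_assoc, this, inv_mul_cancel_left]

theorem good_of_mem (h2p : p ≠ 2) (h1 : p ∣ Fintype.card F - 1) {x : GL (Fin p) F}
    (hx : x ∈ monGroup F p) : Good x := by
  obtain ⟨d, k, hd, hxe⟩ := mem_monGroup.mp hx
  have h3 : 3 ≤ p := by have := hp.out.two_le; omega
  by_cases hk : k = 0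
  · subst hk
    by_cases hinj : Function.Injective d
    · have hdet : IsUnit (Matrix.vandermonde d).det :=
        isUnit_iff_ne_zero.mpr (Matrix.det_vandermonde_ne_zero_iff.mpr hinj)
      let h : GL (Fin p) F := Matrix.nonsingInvUnit _ hdet
      have key : x * h = h * monUnit (fun _ => (1 : F)) (1 : Fin p) (fun _ => one_pow p) := by
        apply Units.ext
        ext i j
        show (x.val * Matrix.vandermonde d) i j =
          (Matrix.vandermonde d * mon (fun _ => (1 : F)) (1 : Fin p)) i j
        rw [hxe, Matrix.mul_apply, Matrix.mul_apply, Finset.sum_eq_single i,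
          Finset.sum_eq_single (j + 1)]
        · simp only [mon_apply, add_zero, if_true, Matrix.vandermonde_apply, mul_one]
          rw [← pow_succ', Fin.val_add, Fin.val_one', Nat.add_mod_mod, ← pow_eq_pow_mod _ (hd i)]
        · intro m _ hm; simp [mon_apply, hm]
        · exact fun h => absurd (Finset.mem_univ _) h
        · intro m _ hm
          rw [mon_apply, add_zero, if_neg (Ne.symm hm), zero_mul]
        · exact fun h => absurd (Finset.mem_univ _) h
      refine ⟨h, ?_, 0, ⟨0, by omega⟩, ⟨1, by omega⟩, fun e => by simp [Fin.ext_iff] at e, ?_, ?_⟩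
      · rw [mul_assoc, key, inv_mul_cancel_left]
        exact ⟨_, _, fun _ => one_pow p, rfl⟩
      all_goals
        show Matrix.vandermonde d _ _ ≠ 0
        simp [Matrix.vandermonde_apply]
    · simp only [Function.Injective, not_forall] at hinj
      obtain ⟨i, j, hdij, hij⟩ := hinj
      let g : GL (Fin p) F := ⟨Matrix.transvection i j 1, Matrix.transvection i j (-1),
        by rw [Matrix.transvection_mul_transvection_same i j hij]; simp [Matrix.transvection],
        by rw [Matrix.transvection_mul_transvection_same i j hij]; simp [Matrix.transvection]⟩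
      refine good_of_commute (g := g) hx ?_ (a := j) hij ?_ ?_
      · show x.val * Matrix.transvection i j 1 = Matrix.transvection i j 1 * x.val
        rw [hxe, Matrix.transvection, mul_add, add_mul, mul_one, one_mul]
        congr 1
        ext a b
        rw [Matrix.mul_apply, Matrix.mul_apply, Finset.sum_eq_single a, Finset.sum_eq_single b]
        · simp only [mon_apply, add_zero, if_true, Matrix.single_apply]
          by_cases hab : i = a ∧ j = b
          · obtain ⟨rfl, rfl⟩ := hab; simp [hdij]
          · simp [hab]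
        · intro m _ hm; simp [mon_apply, hm]
        · exact fun h => absurd (Finset.mem_univ _) h
        · intro m _ hm; simp [mon_apply, Ne.symm hm]
        · exact fun h => absurd (Finset.mem_univ _) h
      · show Matrix.transvection i j (1 : F) i j ≠ 0
        simp [Matrix.transvection, hij, Matrix.single_apply]
      · show Matrix.transvection i j (1 : F) j j ≠ 0
        simp [Matrix.transvection, Ne.symm hij, Matrix.single_apply, hij]
  · have hdne : ∀ i, d i ≠ 0 := fun i => ne_zero_of_pow_eq_one (hd i)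
    set c := ∏ j, d j with hc
    have hcp : c ^ p = 1 := by rw [hc, ← Finset.prod_pow]; simp [hd]
    have hxp : x.val ^ p = c • (1 : Matrix (Fin p) (Fin p) F) := by rw [hxe, mon_pow_p d hk]
    have hcol : ∀ s < p, ∀ t < p, ((x.val) ^ t) (s • k) 0 ≠ 0 ↔ s = t := by
      intro s hs t ht
      rw [hxe, mon_pow, mon_apply, zero_add]
      constructor
      · intro h
        by_contra hne
        exact h (if_neg fun e => hne (nsmul_inj hk hs ht e))
      · rintro rfl
        rw [if_pos rfl]
        exact Finset.prod_ne_zero_iff.mpr fun _ _ => hdne _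
    by_cases hc1 : c = 1
    · rw [hc1, one_smul] at hxp
      obtain ⟨ζ, hζp, hζ1⟩ := exists_root (F := F) h1
      have hζ0 : ζ ≠ 0 := ne_zero_of_pow_eq_one hζp
      have hpF : (p : F) ≠ 0 := by
        intro h
        have hdvd : p ∣ Fintype.card F := by
          obtain ⟨n, hr, hcard⟩ := FiniteField.card F (ringChar F)
          have hpr : ringChar F ∣ p := ringChar.dvd h
          rw [(Nat.prime_dvd_prime_iff_eq hr hp.out).mp hpr] at hcard
          rw [hcard]
          exact dvd_pow_self p n.ne_zero
        have := Nat.dvd_sub hdvd h1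
        rw [Nat.sub_sub_self Fintype.card_pos] at this
        exact hp.out.not_dvd_one this
      obtain ⟨E, hE⟩ : ∃ E, E = (p : F)⁻¹ • ∑ t ∈ Finset.range p, x.val ^ t := ⟨_, rfl⟩
      have hEx : E * x.val = E := by
        rw [hE, Matrix.smul_mul, Finset.sum_mul]
        congr 1
        simp only [← pow_succ]
        have := Finset.sum_range_succ' (fun t => x.val ^ t) p
        rw [Finset.sum_range_succ, hxp, pow_zero] at this
        exact (add_right_cancel this).symm
      have hxE : x.val * E = E := by
        have hcomm : Commute x.val E := by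
          rw [hE]
          exact (Commute.sum_right _ _ _ fun t _ => Commute.self_pow x.val t).smul_right _
        rw [hcomm.eq, hEx]
      have hEE : E * E = E := by
        have hpow : ∀ t, E * x.val ^ t = E := fun t => by
          induction t with
          | zero => rw [pow_zero, mul_one]
          | succ t ih => rw [pow_succ, ← mul_assoc, ih, hEx]
        conv_lhs => arg 2; rw [hE]
        rw [Matrix.mul_smul, Finset.mul_sum, Finset.sum_congr rfl fun t _ => hpow t, Finset.sum_const,
          Finset.card_range, ← Nat.cast_smul_eq_nsmul F, smul_smul, inv_mul_cancel₀ hpF, one_smul]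
      have hmul : ∀ a b : F, (1 + a • E) * (1 + b • E) = 1 + (a + b + a * b) • E := by
        intro a b
        rw [add_mul, mul_add, mul_add, one_mul, one_mul, mul_one, Matrix.smul_mul, Matrix.mul_smul, hEE,
          smul_smul, add_smul, add_smul]
        abel
      let g : GL (Fin p) F := ⟨1 + (ζ - 1) • E, 1 + (ζ⁻¹ - 1) • E,
        by rw [hmul, show ζ - 1 + (ζ⁻¹ - 1) + (ζ - 1) * (ζ⁻¹ - 1) = 0 by field_simp; ring]; simp,
        by rw [hmul, show ζ⁻¹ - 1 + (ζ - 1) + (ζ⁻¹ - 1) * (ζ - 1) = 0 by field_simp; ring]; simp⟩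
      have hent : ∀ s, 0 < s → s < p → g.val (s • k) 0 ≠ 0 := by
        intro s hs0 hs
        show (1 + (ζ - 1) • E) (s • k) 0 ≠ 0
        have hsk : s • k ≠ 0 := fun h => by
          have := nsmul_inj hk hs hp.out.pos (by rw [h, zero_smul])
          omega
        rw [Matrix.add_apply, Matrix.one_apply_ne hsk, zero_add, hE, Matrix.smul_apply, Matrix.smul_apply,
          Matrix.sum_apply, Finset.sum_eq_single s]
        · exact smul_ne_zero (sub_ne_zero.mpr hζ1) (smul_ne_zero (inv_ne_zero hpF) ((hcol s hs s hs).mpr rfl))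
        · intro t ht hts
          by_contra hne
          exact hts (((hcol s hs t (Finset.mem_range.mp ht)).mp hne).symm)
        · exact fun h => absurd (Finset.mem_range.mpr hs) h
      refine good_of_commute (g := g) hx ?_ (a := 0) (b := 1 • k) (c := 2 • k)
        (fun e => absurd (nsmul_inj hk (by omega) (by omega) e) (by omega))
        (hent 1 (by omega) (by omega)) (hent 2 (by omega) (by omega))
      show x.val * (1 + (ζ - 1) • E) = (1 + (ζ - 1) • E) * x.val
      rw [mul_add, add_mul, mul_one, one_mul, Matrix.mul_smul, Matrix.smul_mul, hxE, hEx]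
    · have hodd : Odd p := hp.out.odd_of_ne_two h2p
      have hc1' : (1 : F) + c ≠ 0 := by
        intro h
        have hcm : c = -1 := eq_neg_of_add_eq_zero_right h
        rw [hcm, hodd.neg_one_pow] at hcp
        exact hc1 (by rw [hcm, hcp])
      have hsum : (1 + x.val) * ∑ t ∈ Finset.range p, (-x.val) ^ t =
          (1 + c) • (1 : Matrix (Fin p) (Fin p) F) := by
        have := mul_neg_geom_sum (-x.val) p
        rw [sub_neg_eq_add, hodd.neg_pow, sub_neg_eq_add, hxp] at this
        rw [this, add_smul, one_smul]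
      have hdet : IsUnit (1 + x.val).det := by
        refine (Matrix.isUnit_iff_isUnit_det _).mp ?_
        refine IsUnit.of_mul_eq_one ((1 + c)⁻¹ • ∑ t ∈ Finset.range p, (-x.val) ^ t) ?_
        rw [Matrix.mul_smul, hsum, smul_smul, inv_mul_cancel₀ hc1', one_smul]
      refine good_of_commute (g := Matrix.nonsingInvUnit _ hdet) hx ?_ (a := 0) (b := 0) (c := k)
        (Ne.symm hk) ?_ ?_
      · show x.val * (1 + x.val) = (1 + x.val) * x.val
        rw [mul_add, add_mul, mul_one, one_mul]
      · show (1 + x.val) 0 0 ≠ 0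
        rw [Matrix.add_apply, hxe, mon_apply, zero_add, if_neg (Ne.symm hk)]
        simp
      · show (1 + x.val) k 0 ≠ 0
        rw [Matrix.add_apply, hxe, mon_apply, zero_add, if_pos rfl, Matrix.one_apply_ne hk, zero_add]
        exact hdne k

end


/-- Let p be an odd prime and F a finite field with q elements such that p divides q - 1 but p² does not. Then GL(p, F) has a Sylow p-subgroup Q such that every element of p-power order lies in some Sylow p-subgroup other than Q (a redundant Sylow p-subgroup). -/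
theorem result {F : Type*} [Field F] [Fintype F] (p : ℕ) [Fact p.Prime]
    (hp : p ≠ 2) (h1 : p ∣ Fintype.card F - 1) (h2 : ¬ p ^ 2 ∣ Fintype.card F - 1) :
    ∃ Q : Sylow p (Matrix.GeneralLinearGroup (Fin p) F), ∀ x : Matrix.GeneralLinearGroup (Fin p) F,
      (∃ k : ℕ, orderOf x = p ^ k) → ∃ P : Sylow p (Matrix.GeneralLinearGroup (Fin p) F), P ≠ Q ∧ x ∈ P := by
  classical
  let Q : Sylow p (Matrix.GeneralLinearGroup (Fin p) F) :=
    Sylow.ofCard (monGroup F p) (by rw [card_monGroup h1, factorization_card_GL hp h1 h2])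
  refine ⟨Q, fun x hx => ?_⟩
  obtain ⟨k, hk⟩ := hx
  by_cases hxQ : x ∈ monGroup F p
  · obtain ⟨g, hg, a, b, c, hbc, hb, hc⟩ := good_of_mem hp h1 hxQ
    obtain ⟨e, he, hne⟩ := exists_not_mem hp h1 g hbc hb hc
    refine ⟨g • Q, fun h => hne ?_, ?_⟩
    · have : g * e * g⁻¹ ∈ ((g • Q : Sylow p _) : Subgroup (Matrix.GeneralLinearGroup (Fin p) F)) :=
        Subgroup.mem_map.mpr ⟨e, he, rfl⟩
      rw [h] at this
      exact this
    · exact Subgroup.mem_map.mpr ⟨g⁻¹ * x * g, hg, by
        show g * (g⁻¹ * x * g) * g⁻¹ = x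
        group⟩
  · have hp' : IsPGroup p (Subgroup.zpowers x) :=
      IsPGroup.of_card (n := k) (by rw [Nat.card_zpowers, hk])
    obtain ⟨P, hP⟩ := hp'.exists_le_sylow
    refine ⟨P, fun h => hxQ ?_, hP (Subgroup.mem_zpowers x)⟩
    subst h
    exact hP (Subgroup.mem_zpowers x)

end Cfsg.Agent.S4358
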