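import Cfsg.Statements.S4359
import Cfsg.Agent.Lib.PGroup.ShiftWindows

set_option autoImplicit false
open Pointwise
open Cfsg

namespace Cfsg.Agent.S4359

/-- Let P be a subgroup of a finite group G and g an element such that P ∩ g⁻¹Pg is a normal subgroup of prime index p in g⁻¹Pg. Let n ≥ 1 and let K be the subgroup generated by P and its conjugates g⁻ⁱPgⁱ for i ≤ n. Suppose that g normalizes no non-identity normal subgroup of P and that P meets the center of K trivially. Then the order of P is pᵗ for some t with 1 ≤ t ≤ 3n and t ≠ 3n - 1. -/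
theorem result {G : Type*} [Group G] [Finite G]
    (P : Subgroup G) (g : G) (p : ℕ) (hp : p.Prime)
    (hN : ((P ⊓ MulAut.conj g⁻¹ • P).subgroupOf (MulAut.conj g⁻¹ • P)).Normal)
    (hidx : (P ⊓ MulAut.conj g⁻¹ • P).relIndex (MulAut.conj g⁻¹ • P) = p)
    (n : ℕ) (hn : 1 ≤ n) (K : Subgroup G) (hK : K = ⨆ i ∈ Finset.range (n + 1), MulAut.conj (g ^ i)⁻¹ • P)
    (h1 : ∀ Q : Subgroup G, Q ≤ P → (Q.subgroupOf P).Normal → MulAut.conj g • Q = Q → Q = ⊥)
    (h2 : P ⊓ (Subgroup.center K).map K.subtype = ⊥) :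
    ∃ t : ℕ, Nat.card P = p ^ t ∧ 1 ≤ t ∧ t ≤ 3 * n ∧ t ≠ 3 * n - 1 := by
  classical
  obtain ⟨t, ht, w, hw⟩ := ShiftWindows.exists_windows P g hp hN hidx h1
  refine ⟨t, hw ▸ w.card 0 t le_rfl, ht, ?_⟩
  have hzero : ∀ i : ℤ, w.x i = g ^ i * w.x 0 * (g ^ i)⁻¹ := fun i => by rw [w.x_shift, add_zero]
  -- the range of commutation
  have hex : ∃ d : ℕ, d = t ∨ ¬ Commute (w.x 0) (w.x d) := ⟨t, Or.inl rfl⟩
  set a := Nat.find hex with ha
  have hat : a ≤ t := Nat.find_le (Or.inl rfl)
  have hpos : ∀ d : ℕ, d < a → Commute (w.x 0) (w.x d) := fun d hd => by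
    have := Nat.find_min hex hd
    push Not at this
    exact this.2
  have ha1 : 1 ≤ a := by
    by_contra h0
    rcases Nat.find_spec hex with h | h
    · omega
    · rw [← ha, show a = 0 by omega] at h
      exact h (Commute.refl _)
  have hconj : ∀ i j : ℤ, Commute (w.x 0) (w.x j) → Commute (w.x i) (w.x (i + j)) := by
    intro i j h
    rw [hzero i, ← w.x_shift i j]
    exact (h.map (MulAut.conj (g ^ i)).toMonoidHom : _)
  have hcom : ∀ i j : ℤ, j - i < a → i - j < a → Commute (w.x i) (w.x j) := by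
    intro i j h1 h2
    rcases le_total i j with h | h
    · obtain ⟨d, hd⟩ : ∃ d : ℕ, j = i + d := ⟨(j - i).toNat, by omega⟩
      subst hd
      exact hconj i d (hpos d (by omega))
    · obtain ⟨d, hd⟩ : ∃ d : ℕ, i = j + d := ⟨(i - j).toNat, by omega⟩
      subst hd
      exact (hconj j d (hpos d (by omega))).symm
  -- a central element of `K` in `P`
  have hn2 : 2 * a ≤ n + t := by
    by_contra hcon
    set z := w.x ((t - a : ℕ) : ℤ) with hz
    have hzP : z ∈ P := hw ▸ w.mem le_rfl (by omega) (by omega)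
    have hPK : P ≤ K := by
      rw [hK]
      refine le_trans ?_ (le_iSup₂ (f := fun i (_ : i ∈ Finset.range (n + 1)) =>
        MulAut.conj (g ^ i)⁻¹ • P) 0 (Finset.mem_range.2 (by omega)))
      simp
    have hcent : K ≤ Subgroup.centralizer {z} := by
      rw [hK]
      refine iSup₂_le fun i hi => ?_
      rw [← hw]
      intro y hy
      rw [Coprime.mem_conj_smul_iff] at hy
      refine Subgroup.mem_centralizer_singleton_iff.2 ?_
      have hi' : i ≤ n := Nat.lt_succ_iff.1 (Finset.mem_range.1 hi)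
      have h := w.commute_of_forall (z := g ^ (i : ℤ) * z * (g ^ (i : ℤ))⁻¹) le_rfl hy fun k h1 h2 => by
        rw [hz, w.x_shift]
        exact hcom _ _ (by omega) (by omega)
      have h' := h.map (MulAut.conj ((g ^ (i : ℤ))⁻¹)).toMonoidHom
      simp only [MulEquiv.toMonoidHom_eq_coe, MonoidHom.coe_coe, MulAut.conj_apply, inv_inv,
        zpow_natCast, mul_assoc, inv_mul_cancel_left, inv_mul_cancel,
        mul_one] at h'
      exact h'.eq.symm
    have hmem : z ∈ P ⊓ (Subgroup.center K).map K.subtype :=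
      ⟨hzP, ⟨z, hPK hzP⟩, Subgroup.mem_center_iff.2 fun k => Subtype.ext
        (Subgroup.mem_centralizer_singleton_iff.1 (hcent k.2)), rfl⟩
    rw [h2, Subgroup.mem_bot] at hmem
    have := w.pos_x ((t - a : ℕ) : ℤ) hp ht
    rw [← hz, hmem, orderOf_one] at this
    exact hp.one_lt.ne this
  have hbound : a = t ∨ 2 * t ≤ 3 * a := by
    rcases eq_or_lt_of_le hat with h | h
    · exact Or.inl h
    refine Or.inr (w.two_mul_le hp h hcom fun i hi => ?_)
    rcases Nat.find_spec hex with h3 | h3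
    · omega
    · refine h3 ?_
      have h4 := hi.map (MulAut.conj (g ^ (-i))).toMonoidHom
      simp only [MulEquiv.toMonoidHom_eq_coe, MonoidHom.coe_coe, MulAut.conj_apply] at h4
      rwa [w.x_shift, w.x_shift, neg_add_cancel, neg_add_cancel_left] at h4
  omega

end Cfsg.Agent.S4359
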