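import Cfsg.Statements.S4363
import Cfsg.Agent.Lib.TurullHeight.Main
import Mathlib.GroupTheory.SemidirectProduct

set_option autoImplicit false
open Cfsg

namespace Cfsg.Agent.S4363

/-- Let G be a finite solvable group and σ an automorphism of G of prime order r not dividing the order of G, with fixed-point subgroup C. Then the Fitting height of G exceeds that of C by at most 2: if C has a chain of normal subgroups 1 = C₀ ≤ ⋯ ≤ Cₙ = C with nilpotent factors, then G has such a chain of length n + 2. -/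
theorem result {G : Type*} [Group G] [Finite G]
    (hG : Group.IsSolvable G) (σ : MulAut G) (r : ℕ) (hr : r.Prime) (hσ : orderOf σ = r) (hcop : ¬ r ∣ Nat.card G)
    (C : Subgroup G) (hC : ∀ g : G, g ∈ C ↔ σ g = g) (n : ℕ) (hn : (∃ F : Fin (n + 1) → Subgroup ↥C, F 0 = ⊥ ∧ F (Fin.last n) = ⊤ ∧ Monotone F ∧ (∀ i, (F i).Normal) ∧ ∀ i : Fin n, ∃ k : ℕ, (F i.succ).lowerCentralSeries k ≤ F i.castSucc)) :
    (∃ F : Fin ((n + 2) + 1) → Subgroup G, F 0 = ⊥ ∧ F (Fin.last (n + 2)) = ⊤ ∧ Monotone F ∧ (∀ i, (F i).Normal) ∧ ∀ i : Fin (n + 2), ∃ k : ℕ, (F i.succ).lowerCentralSeries k ≤ F i.castSucc) := by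
  classical
  obtain ⟨F, hF0, hFl, -, -, hFs⟩ := hn
  set φ : Subgroup.zpowers σ →* MulAut G := (Subgroup.zpowers σ).subtype with hφ
  have : Finite (G ⋊[φ] Subgroup.zpowers σ) :=
    Finite.of_equiv _ SemidirectProduct.equivProd.symm
  set ι : G →* G ⋊[φ] Subgroup.zpowers σ := SemidirectProduct.inl with hι
  set a : G ⋊[φ] Subgroup.zpowers σ := SemidirectProduct.inr ⟨σ, Subgroup.mem_zpowers σ⟩ with ha
  have hinj : Function.Injective ι := SemidirectProduct.inl_injective
  have hconj : ∀ g : G, a * ι g * a⁻¹ = ι (σ g) := fun g => by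
    rw [ha, ← map_inv]
    exact (SemidirectProduct.inl_aut (φ := φ) _ g).symm
  have hA : TurullHeight.Ambient ι.range a r := by
    refine ⟨hr, ?_, ?_, ?_, ?_⟩
    · rw [ha, ← map_pow]
      convert map_one (SemidirectProduct.inr (φ := φ)) using 2
      exact Subtype.ext (by simpa [← hσ] using pow_orderOf_eq_one σ)
    · refine Subgroup.mem_normalizer_fintype fun x hx => ?_
      obtain ⟨g, rfl⟩ := hx
      exact ⟨σ g, (hconj g).symm⟩
    · rwa [← Nat.card_congr (MonoidHom.ofInjective hinj).toEquiv]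
    · exact Group.isSolvable_of_surjective (f := ι.rangeRestrict) ι.rangeRestrict_surjective
  have hCe : TurullHeight.fixedIn ι.range a = C.map ι := by
    ext x
    refine ⟨?_, ?_⟩
    · rintro ⟨⟨g, rfl⟩, hx⟩
      refine ⟨g, (hC g).2 (hinj ?_), rfl⟩
      rw [← hconj, ← (Subgroup.mem_centralizer_singleton_iff.1 hx : ι g * a = a * ι g),
        mul_inv_cancel_right]
    · rintro ⟨g, hg, rfl⟩
      refine ⟨⟨g, rfl⟩, Subgroup.mem_centralizer_singleton_iff.2 ?_⟩
      have h := hconj g
      rw [(hC g).1 hg, mul_inv_eq_iff_eq_mul] at h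
      exact h.symm
  -- the residual of the fixed points
  have h1 : TurullHeight.resid (⊤ : Subgroup ↥C) n = ⊥ := by
    have h := TurullHeight.resid_le_series (H := (⊤ : Subgroup ↥C)) (n := n)
      (F := fun i => F ⟨min i n, by omega⟩) (by
        show ⊤ ≤ F ⟨min n n, _⟩
        rw [show (⟨min n n, by omega⟩ : Fin (n + 1)) = Fin.last n from Fin.ext (by simp), hFl])
      (fun i hi => by
        obtain ⟨k, hk⟩ := hFs ⟨i, hi⟩
        refine ⟨k, ?_⟩
        convert hk using 2
        · congr 1; exact Fin.ext (by simp; omega)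
        · exact Fin.ext (by simp; omega)) n le_rfl
    refine le_bot_iff.1 (h.trans (le_of_eq ?_))
    rw [← hF0]
    exact congrArg F (Fin.ext (by simp))
  have h2 : TurullHeight.resid (TurullHeight.fixedIn ι.range a) n = ⊥ := by
    have h := congrArg (Subgroup.map (ι.comp C.subtype)) h1
    rwa [TurullHeight.map_resid, Subgroup.map_bot, ← Subgroup.map_map, ← MonoidHom.range_eq_map,
      C.range_subtype, ← hCe] at h
  -- the residual of the group
  have h3 : TurullHeight.resid (⊤ : Subgroup G) (n + 2) = ⊥ := by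
    refine Subgroup.map_injective hinj ?_
    rw [TurullHeight.map_resid, Subgroup.map_bot, ← MonoidHom.range_eq_map]
    by_contra hne
    exact TurullHeight.resid_fixedIn_ne_bot hA hne h2
  refine ⟨fun i => TurullHeight.resid ⊤ (n + 2 - (i : ℕ)), ?_, ?_, fun i j hij => ?_, fun i => ?_,
    fun i => ?_⟩
  · show TurullHeight.resid ⊤ (n + 2 - ((0 : Fin (n + 2 + 1)) : ℕ)) = ⊥
    rw [Fin.val_zero, Nat.sub_zero, h3]
  · show TurullHeight.resid ⊤ (n + 2 - (Fin.last (n + 2) : ℕ)) = ⊤
    rw [Fin.val_last, Nat.sub_self, TurullHeight.resid_zero]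
  · exact TurullHeight.resid_antitone _ (Nat.sub_le_sub_left hij _)
  · exact Subgroup.normalizer_eq_top_iff.1
      (top_le_iff.1 (TurullHeight.le_normalizer_resid _ _))
  · obtain ⟨k, hk, -⟩ :=
      TurullHeight.exists_nilRes_eq (TurullHeight.resid (⊤ : Subgroup G) (n + 2 - (i.succ : ℕ)))
    refine ⟨k, ?_⟩
    show _ ≤ TurullHeight.resid ⊤ (n + 2 - (i.castSucc : ℕ))
    rw [← hk, ← TurullHeight.resid_succ, Fin.val_succ, Fin.val_castSucc,
      show n + 2 - ((i : ℕ) + 1) + 1 = n + 2 - (i : ℕ) by omega]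

end Cfsg.Agent.S4363
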