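import Cfsg.Statements.S4365
import Mathlib
-- import your own Cfsg.Agent.* helpers here

set_option autoImplicit false
open Cfsg

namespace Cfsg.Agent.S4365

open Subgroup
open scoped commutatorElement

variable {P : Type*} [Group P] [Finite P] {p : ℕ} [hp : Fact p.Prime]

theorem comm_iff {x y : P} : y ∈ centralizer ({x} : Set P) ↔ x * y = y * x := by
  rw [mem_centralizer_singleton_iff]
  exact eq_comm

theorem main (hP : IsPGroup p P)
    (hsz : ∀ x : P, x ∉ center P → ∀ y : P, y ∉ center P →
      (centralizer ({x} : Set P)).index = (centralizer ({y} : Set P)).index)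
    (g : P) : g ^ p ∈ center P := by
  classical
  by_contra hg
  let C : P → Subgroup P := fun x => centralizer ({x} : Set P)
  have hcen : ∀ x : P, C x = ⊤ → x ∈ center P := fun x hx =>
    mem_center_iff.2 fun y => (comm_iff.1 (hx ▸ mem_top y : y ∈ C x)).symm
  have heq : ∀ x y : P, x ∉ center P → y ∉ center P → C x ≤ C y → C x = C y := by
    intro x y hx hy hle
    have h1 := card_mul_index (C x)
    have h2 := card_mul_index (C y)
    have h3 : (C x).index = (C y).index := hsz x hx y hy
    rw [h3, ← h2] at h1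
    have h4 := Nat.eq_of_mul_eq_mul_right (Nat.pos_of_ne_zero index_ne_zero_of_finite) h1
    exact eq_of_le_of_card_ge hle h4.ge
  have hpow : ∀ x : P, x ^ p ∉ center P → x ∉ center P := fun x h h' => h (pow_mem h' p)
  have hC1 : ∀ x : P, x ^ p ∉ center P → C x = C (x ^ p) := fun x h =>
    heq x _ (hpow x h) h fun w hw => comm_iff.2
      ((show Commute x w from comm_iff.1 hw).pow_left p).eq
  -- an element of order `p` modulo the centre in the second centre
  haveI hnil := hP.isNilpotent
  haveI : Nontrivial (P ⧸ center P) :=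
    QuotientGroup.nontrivial_iff.2 fun h => hg (h ▸ mem_top _)
  haveI := (hP.to_quotient (center P)).center_nontrivial
  obtain ⟨w, hw⟩ := exists_prime_orderOf_dvd_card' (G := center (P ⧸ center P)) p (by
    obtain ⟨n, hn⟩ := IsPGroup.iff_card.1 ((hP.to_quotient (center P)).to_subgroup (center _))
    rw [hn]
    refine dvd_pow_self p fun h0 => ?_
    rw [h0, pow_zero] at hn
    exact (Finite.one_lt_card (α := center (P ⧸ center P))).ne' hn)
  obtain ⟨z, hzw⟩ := QuotientGroup.mk_surjective (w : P ⧸ center P)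
  have hz : z ∉ center P := by
    intro h
    rw [← QuotientGroup.eq_one_iff, hzw] at h
    rw [← orderOf_coe, h, orderOf_one] at hw
    exact hp.out.ne_one hw.symm
  have hzp : z ^ p ∈ center P := by
    rw [← QuotientGroup.eq_one_iff, QuotientGroup.mk_pow, hzw]
    have := pow_orderOf_eq_one w
    rw [hw] at this
    exact_mod_cast congrArg Subtype.val this
  have hcomm : ∀ h : P, ⁅z, h⁆ ∈ center P := by
    intro h
    rw [← QuotientGroup.eq_one_iff, ← QuotientGroup.mk'_apply, map_commutatorElement,
      commutatorElement_eq_one_iff_mul_comm]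
    show (z : P ⧸ center P) * (h : P ⧸ center P) = (h : P ⧸ center P) * (z : P ⧸ center P)
    rw [hzw]
    exact (mem_center_iff.1 w.2 _).symm
  have hzc : ∀ h : P, h ^ p ∉ center P → C h = C z := by
    intro h hh
    have hcomm' : ∀ n : ℕ, ⁅z, h ^ n⁆ = ⁅z, h⁆ ^ n := by
      intro n
      induction n with
      | zero => simp
      | succ n ih =>
        have e : ⁅z, h ^ (n + 1)⁆ = ⁅z, h ^ n⁆ * (h ^ n * ⁅z, h⁆ * (h ^ n)⁻¹) := by
          rw [pow_succ]; simp [commutatorElement_def, mul_assoc]
        rw [e, mem_center_iff.1 (hcomm h) (h ^ n), mul_inv_cancel_right, ih, pow_succ]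
    have hcommz : ∀ n : ℕ, ⁅z ^ n, h⁆ = ⁅z, h⁆ ^ n := by
      intro n
      induction n with
      | zero => simp
      | succ n ih =>
        have e : ⁅z ^ (n + 1), h⁆ = z * ⁅z ^ n, h⁆ * z⁻¹ * ⁅z, h⁆ := by
          rw [pow_succ']; simp [commutatorElement_def, mul_assoc]
        rw [e, ih, mem_center_iff.1 (pow_mem (hcomm h) n) z, mul_inv_cancel_right, pow_succ]
    have h1 : ⁅z, h⁆ ^ p = 1 := by
      rw [← hcommz, commutatorElement_eq_one_iff_mul_comm]
      exact (mem_center_iff.1 hzp h).symm
    have hzh : z ∈ C h := by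
      show z ∈ C h
      rw [hC1 h hh]
      refine comm_iff.2 ?_
      refine (commutatorElement_eq_one_iff_mul_comm.1 ?_).symm
      rw [hcomm', h1]
    have hc : Commute h z := comm_iff.1 hzh
    have hp' : (h * z) ^ p = h ^ p * z ^ p := hc.mul_pow p
    have hhz : (h * z) ^ p ∉ center P := by
      rw [hp']
      exact fun h' => hh ((mul_mem_cancel_right hzp).1 h')
    have h2 : C (h * z) = C h := by
      rw [hC1 _ hhz, hC1 _ hh, hp']
      ext v
      simp only [C, comm_iff]
      rw [mul_assoc, ← mem_center_iff.1 hzp v, ← mul_assoc, ← mul_assoc, mul_left_inj]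
    refine heq h z (hpow h hh) hz fun v hv => comm_iff.2 ?_
    have e1 : Commute h v := comm_iff.1 hv
    have e2 : Commute (h * z) v := comm_iff.1 (h2.symm ▸ hv : v ∈ C (h * z))
    have e3 : h⁻¹ * (h * z) = z := inv_mul_cancel_left h z
    rw [← e3]
    exact (e1.inv_left.mul_left e2).eq
  set A := C z with hAdef
  have hgA : C g = A := hzc g hg
  -- `A` is normal and abelian
  haveI hAn : A.Normal := ⟨fun v hv u => comm_iff.2 (by
    have hc : z * v = v * z := comm_iff.1 hv
    obtain ⟨c, hc', hcu⟩ : ∃ c ∈ center P, z * u = c * (u * z) :=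
      ⟨⁅z, u⁆, hcomm u, by simp [commutatorElement_def, mul_assoc]⟩
    calc z * (u * v * u⁻¹) = (z * u) * v * (z * u)⁻¹ * z := by group
      _ = c * (u * (z * v) * z⁻¹ * u⁻¹) * c⁻¹ * z := by rw [hcu]; group
      _ = c * (u * v * u⁻¹) * c⁻¹ * z := by rw [hc]; group
      _ = u * v * u⁻¹ * z := by rw [← mem_center_iff.1 hc' (u * v * u⁻¹), mul_inv_cancel_right])⟩
  have hAab : ∀ v ∈ A, A ≤ C v := by
    intro v hv
    by_cases hvp : v ^ p ∈ center P
    · have hcv : Commute g v := comm_iff.1 (hgA.symm ▸ hv : v ∈ C g)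
      have hgv : (g * v) ^ p ∉ center P := by
        rw [hcv.mul_pow]; exact fun h' => hg ((mul_mem_cancel_right hvp).1 h')
      intro w hw
      have e2 : Commute (g * v) w := comm_iff.1 ((hzc _ hgv).symm ▸ hw : w ∈ C (g * v))
      have e1 : Commute g w := comm_iff.1 (hgA.symm ▸ hw : w ∈ C g)
      refine comm_iff.2 ?_
      rw [show v = g⁻¹ * (g * v) by group]
      exact (e1.inv_left.mul_left e2).eq
    · rw [hzc v hvp]
  have hout : ∀ x : P, x ∉ A → x ^ p ∈ center P := by
    intro x hx
    by_contra h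
    exact hx (hzc x h ▸ comm_iff.2 rfl)
  letI : CommGroup ↥A :=
    { (inferInstance : Group ↥A) with
      mul_comm := fun u v => Subtype.ext (comm_iff.1 (hAab u u.2 v.2)) }
  let c : P →* MulAut ↥A := MulAut.conjNormal
  -- the norm of an element outside `A` maps `A` into the centre
  have hN : ∀ u : P, u ∉ A → ∀ a : ↥A, ((∏ i ∈ Finset.range p, c (u ^ i) a : ↥A) : P) ∈ center P := by
    intro u hu a
    have hprod : ∀ n : ℕ, ((∏ i ∈ Finset.range n, c (u ^ i) a : ↥A) : P) * u ^ n = ((a : P) * u) ^ n := by
      intro n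
      induction n with
      | zero => simp
      | succ n ih =>
        rw [Finset.prod_range_succ, Subgroup.coe_mul, MulAut.conjNormal_apply, pow_succ ((a : P) * u), ← ih,
          pow_succ u]
        group
    have hau : (a : P) * u ∉ A := fun h => hu ((A.mul_mem_cancel_left a.2).1 h)
    have := mul_mem (hout _ hau) (inv_mem (hout u hu))
    rwa [← hprod p, mul_inv_cancel_right] at this
  have hA1 : ∀ v ∈ A, c v = 1 := fun v hv => MulEquiv.ext fun a => Subtype.ext (by
    rw [MulAut.conjNormal_apply, MulAut.one_apply, comm_iff.1 (hAab v hv a.2), mul_inv_cancel_right])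
  have hgmem : g ∈ A := hgA ▸ comm_iff.2 rfl
  set G' : ↥A := ⟨g, hgmem⟩ with hG'
  have hAtop : A ≠ ⊤ := fun h => hz (hcen z h)
  obtain ⟨n, hn⟩ := hP.index A
  by_cases hn1 : n = 1
  · -- index `p`
    obtain ⟨x, hx⟩ : ∃ x, x ∉ A := by
      by_contra h; push Not at h; exact hAtop (eq_top_iff.2 fun x _ => h x)
    have hxz : x ∉ center P := fun h => hx (comm_iff.2 (mem_center_iff.1 h z))
    have hcard : Nat.card (C x) = Nat.card A := by
      have h1 := card_mul_index (C x)
      have h3 : (C x).index = A.index := hsz x hxz z hz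
      rw [h3, ← card_mul_index A] at h1
      exact Nat.eq_of_mul_eq_mul_right (Nat.pos_of_ne_zero index_ne_zero_of_finite) h1
    have hinf : C x ⊓ A ≤ center P := by
      intro b hb
      by_contra hbz
      have hle : A ≤ C b := hAab b (mem_inf.1 hb).2
      have := heq z b hz hbz hle
      have hxb : x ∈ C b := comm_iff.2 (comm_iff.1 (mem_inf.1 hb).1).symm
      rw [← this] at hxb
      exact hx hxb
    have hZA : center P ≤ A := fun b hb => comm_iff.2 (mem_center_iff.1 hb z)
    have hd : A.relIndex (C x) ∣ p := by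
      have := Subgroup.relIndex_dvd_index_of_normal A (C x)
      rwa [hn, hn1, pow_one] at this
    have hdvd : Nat.card A ∣ Nat.card (center P) * p := by
      rw [← hcard, ← card_mul_index (A.subgroupOf (C x))]
      refine mul_dvd_mul ?_ hd
      have h5 : A.subgroupOf (C x) = (C x ⊓ A).subgroupOf (C x) := by rw [inf_subgroupOf_left]
      rw [h5, Nat.card_congr (subgroupOfEquivOfLe (inf_le_left : C x ⊓ A ≤ C x)).toEquiv]
      exact card_dvd_of_le hinf
    rw [← card_mul_index ((center P).subgroupOf A),
      Nat.card_congr (subgroupOfEquivOfLe hZA).toEquiv] at hdvd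
    have hidx := Nat.dvd_of_mul_dvd_mul_left Nat.card_pos hdvd
    refine hg ?_
    have h6 : G' ^ p ∈ (center P).subgroupOf A := by
      have h7 : (G' : ↥A ⧸ (center P).subgroupOf A) ^ p = 1 := by
        rw [← orderOf_dvd_iff_pow_eq_one]
        exact (_root_.orderOf_dvd_natCard _).trans hidx
      rwa [← QuotientGroup.mk_pow, QuotientGroup.eq_one_iff] at h7
    exact h6
  · -- index at least `p²`: two independent directions
    haveI : Nontrivial (P ⧸ A) := QuotientGroup.nontrivial_iff.2 hAtop
    haveI := (hP.to_quotient A).center_nontrivial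
    obtain ⟨⟨yb, hyb⟩, hyne⟩ := exists_ne (1 : center (P ⧸ A))
    obtain ⟨y, rfl⟩ := QuotientGroup.mk_surjective yb
    have hy : y ∉ A := fun h => hyne (Subtype.ext ((QuotientGroup.eq_one_iff y).2 h))
    obtain ⟨x, hx⟩ : ∃ x : P, (x : P ⧸ A) ∉ zpowers (y : P ⧸ A) := by
      by_contra h
      push Not at h
      have htop : zpowers (y : P ⧸ A) = ⊤ := eq_top_iff.2 fun v _ => by
        obtain ⟨v, rfl⟩ := QuotientGroup.mk_surjective v; exact h v
      have h2 : orderOf (y : P ⧸ A) ∣ p := orderOf_dvd_of_pow_eq_one (by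
        rw [← QuotientGroup.mk_pow, QuotientGroup.eq_one_iff]
        exact comm_iff.2 (mem_center_iff.1 (hout y hy) z))
      rw [← Nat.card_zpowers, htop, card_top, ← index_eq_card, hn] at h2
      rcases (Nat.dvd_prime hp.out).1 h2 with h3 | h3
      · have hn0 : n = 0 := by simpa [hp.out.ne_one] using h3
        exact hAtop (index_eq_one.1 (by rw [hn, hn0, pow_zero]))
      · exact hn1 ((Nat.pow_eq_self_iff hp.out.one_lt).1 h3)
    have hxA : x ∉ A := fun h => hx (by rw [(QuotientGroup.eq_one_iff x).2 h]; exact one_mem _)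
    have hyx : ∀ j : ℕ, y * x ^ j ∉ A := by
      intro j h
      by_cases hj : p ∣ j
      · refine hy ?_
        obtain ⟨k, rfl⟩ := hj
        exact (A.mul_mem_cancel_right (by
          rw [pow_mul]; exact pow_mem (comm_iff.2 (mem_center_iff.1 (hout x hxA) z)) k)).1 h
      · refine hx ?_
        have h1 : (x : P ⧸ A) ^ j ∈ zpowers (y : P ⧸ A) := by
          rw [← QuotientGroup.eq_one_iff, QuotientGroup.mk_mul, QuotientGroup.mk_pow] at h
          rw [eq_inv_of_mul_eq_one_right h]
          exact inv_mem (mem_zpowers _)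
        have h2 : (x : P ⧸ A) ^ p = 1 := by
          rw [← QuotientGroup.mk_pow, QuotientGroup.eq_one_iff]
          exact comm_iff.2 (mem_center_iff.1 (hout x hxA) z)
        have hco : j.Coprime (orderOf (x : P ⧸ A)) :=
          ((hp.out.coprime_iff_not_dvd.2 hj).symm).coprime_dvd_right (orderOf_dvd_of_pow_eq_one h2)
        obtain ⟨m, hm⟩ := exists_pow_eq_self_of_coprime hco
        rw [← hm]
        exact pow_mem h1 m
    have hcxy : Commute (c y) (c x) := by
      have h1 : ⁅y, x⁆ ∈ A := by
        rw [← QuotientGroup.eq_one_iff, ← QuotientGroup.mk'_apply, map_commutatorElement,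
          commutatorElement_eq_one_iff_mul_comm]
        exact (mem_center_iff.1 hyb _).symm
      have h2 := hA1 _ h1
      rw [map_commutatorElement, commutatorElement_eq_one_iff_mul_comm] at h2
      exact h2
    have hsig : c x ^ p = 1 := by
      rw [← map_pow]; exact hA1 _ (comm_iff.2 (mem_center_iff.1 (hout x hxA) z))
    refine hg ?_
    set K := (center P).subgroupOf A with hK
    have hkey : ∏ j ∈ Finset.range p, ∏ i ∈ Finset.range p, c ((y * x ^ j) ^ i) G' ∈ K :=
      prod_mem fun j _ => hN _ (hyx j) G'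
    rw [Finset.prod_comm] at hkey
    obtain ⟨m, hm⟩ : ∃ m, p = m + 1 := ⟨p - 1, (Nat.succ_pred_eq_of_pos hp.out.pos).symm⟩
    set Nx : ↥A := ∏ i ∈ Finset.range p, c (x ^ i) G' with hNx
    have hNxK : Nx ∈ K := hN x hxA G'
    have hterm : ∀ i : ℕ, ¬ p ∣ i → ∏ j ∈ Finset.range p, c ((y * x ^ j) ^ i) G' = c (y ^ i) Nx := by
      intro i hi
      rw [hNx, map_prod]
      refine Finset.prod_bij (fun j _ => j * i % p) (fun j _ => Finset.mem_range.2 (Nat.mod_lt _ hp.out.pos))
        ?_ ?_ ?_
      · intro j hj k hk e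
        have e' : j * i ≡ k * i [MOD p] := e
        exact (Nat.ModEq.cancel_right_of_coprime (hp.out.coprime_iff_not_dvd.2 hi) e').eq_of_lt_of_lt
          (Finset.mem_range.1 hj) (Finset.mem_range.1 hk)
      · intro k hk
        obtain ⟨i', -, hi'⟩ := Nat.exists_mul_mod_eq_one_of_coprime
          (hp.out.coprime_iff_not_dvd.2 hi).symm hp.out.one_lt
        refine ⟨k * i' % p, Finset.mem_range.2 (Nat.mod_lt _ hp.out.pos), ?_⟩
        rw [Nat.mod_mul_mod, mul_assoc, mul_comm i' i, Nat.mul_mod, hi', mul_one, Nat.mod_mod,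
          Nat.mod_eq_of_lt (Finset.mem_range.1 hk)]
      · intro j _
        have e : c ((y * x ^ j) ^ i) = c (y ^ i) * c (x ^ (j * i % p)) := by
          rw [map_pow, map_mul, map_pow, (hcxy.pow_right j).mul_pow, ← pow_mul, map_pow, map_pow]
          congr 1
          exact (pow_eq_pow_mod _ hsig)
        rw [e, MulAut.mul_apply]
    have hconj : ∀ v : P, c v Nx ∈ K := by
      intro v
      show ((c v Nx : ↥A) : P) ∈ center P
      rw [MulAut.conjNormal_apply, mem_center_iff.1 (show (Nx : P) ∈ center P from hNxK) v, mul_inv_cancel_right]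
      exact hNxK
    have hsplit : (∏ i ∈ Finset.range p, ∏ j ∈ Finset.range p, c ((y * x ^ j) ^ i) G') =
        (∏ i ∈ Finset.range m, c (y ^ (i + 1)) Nx) * G' ^ p := by
      conv_lhs => arg 1; rw [hm]
      rw [Finset.prod_range_succ']
      congr 1
      · refine Finset.prod_congr rfl fun i hi => hterm _ fun h => ?_
        have := Nat.le_of_dvd (Nat.succ_pos i) h
        have := Finset.mem_range.1 hi
        omega
      · simp only [pow_zero, map_one, MulAut.one_apply, Finset.prod_const, Finset.card_range]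
    rw [hsplit] at hkey
    exact (K.mul_mem_cancel_left (prod_mem fun i _ => hconj _)).1 hkey


/-- Let P be a finite p-group whose conjugacy class sizes are exactly 1 and pᵃ for some a ≥ 1. Then every element of P has its p-th power in the center of P (P/Z(P) has exponent p). -/
theorem result {P : Type*} [Group P] [Finite P] (p : ℕ) [Fact p.Prime]
    (hP : IsPGroup p P) (a : ℕ) (ha : 1 ≤ a)
    (hcs : {k : ℕ | ∃ x : P, (Subgroup.centralizer ({x} : Set P)).index = k} = {1, p ^ a}) (x : P) :
    x ^ p ∈ Subgroup.center P := by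
  refine main hP ?_ x
  have hval : ∀ u : P, u ∉ Subgroup.center P → (Subgroup.centralizer ({u} : Set P)).index = p ^ a := by
    intro u hu
    have h : (Subgroup.centralizer ({u} : Set P)).index ∈ ({1, p ^ a} : Set ℕ) := hcs ▸ ⟨u, rfl⟩
    rcases h with h | h
    · refine absurd ?_ hu
      rw [Subgroup.index_eq_one] at h
      exact Subgroup.mem_center_iff.2 fun y =>
        Subgroup.mem_centralizer_singleton_iff.1 (h ▸ Subgroup.mem_top y)
    · exact h
  intro u hu v hv
  rw [hval u hu, hval v hv]

end Cfsg.Agent.S4365
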