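import Cfsg.Statements.S4369
import Cfsg.Agent.Lib.MinNonCA.OddFinal

set_option autoImplicit false
open Cfsg Cfsg.Agent.MinNonCA

namespace Cfsg.Agent.S4369

/-- Call a group a CA-group when the centralizer of every non-central element is abelian. A finite group G is non-solvable, is not a CA-group, and has all its proper subgroups CA-groups, if and only if G is isomorphic to PSL(2, q) where q > 5 is a prime with 16 not dividing q² - 1, or q = 3ᵖ or q = 5ᵖ for an odd prime p. -/
theorem result {G : Type*} [Group G] [Finite G] :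
    (¬ Group.IsSolvable G ∧ ¬ (∀ x : G, x ∉ Subgroup.center G → IsMulCommutative (Subgroup.centralizer ({x} : Set G))) ∧ ∀ H : Subgroup G, H ≠ ⊤ → (∀ x : H, x ∉ Subgroup.center H → IsMulCommutative (Subgroup.centralizer ({x} : Set H)))) ↔
      ∃ (F : Type) (_ : Field F) (_ : Fintype F), Nonempty (G ≃* Matrix.ProjectiveSpecialLinearGroup (Fin 2) F) ∧
        (((Fintype.card F).Prime ∧ 5 < Fintype.card F ∧ ¬ 16 ∣ Fintype.card F ^ 2 - 1) ∨
         (∃ p : ℕ, p.Prime ∧ p ≠ 2 ∧ (Fintype.card F = 3 ^ p ∨ Fintype.card F = 5 ^ p))) := by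
  constructor
  · rintro ⟨hns, hnca, hsub⟩
    have hyp : Hyp G := ⟨hns, fun H hH x hx a ha b hb hxa hxb hab y hy => by
      by_cases hc : (⟨x, hx⟩ : H) ∈ Subgroup.center H
      · exact (congrArg Subtype.val (Subgroup.mem_center_iff.1 hc ⟨y, hy⟩) : y * x = x * y).symm
      · have h := hsub H hH ⟨x, hx⟩ hc
        have hma : (⟨a, ha⟩ : H) ∈ Subgroup.centralizer ({(⟨x, hx⟩ : H)} : Set H) :=
          mem_Cn.2 (Subtype.ext hxa.eq)
        have hmb : (⟨b, hb⟩ : H) ∈ Subgroup.centralizer ({(⟨x, hx⟩ : H)} : Set H) :=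
          mem_Cn.2 (Subtype.ext hxb.eq)
        exact absurd (congrArg Subtype.val (congrArg Subtype.val (h.is_comm.comm ⟨_, hma⟩ ⟨_, hmb⟩)) : a * b = b * a) hab⟩
    have hbad : ∃ x : G, Bad x := by
      by_contra h
      push Not at h
      exact hnca fun x hx => ⟨⟨fun a b => Subtype.ext
        ((Ab.of_not_bad hx (h x)) a b (mem_Cn.1 a.2) (mem_Cn.1 b.2)).eq⟩⟩
    exact (MNC.mk hyp hbad).classify
  · rintro ⟨F, iF, iF', ⟨e⟩, hq⟩
    have hodd : Odd (Fintype.card F) := by
      rcases hq with ⟨hp, h5, -⟩ | ⟨p, -, -, h | h⟩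
      · exact hp.odd_of_ne_two (by omega)
      · exact h ▸ (show Odd 3 by decide).pow
      · exact h ▸ (show Odd 5 by decide).pow
    have h16 : ¬ 16 ∣ Fintype.card F ^ 2 - 1 := by
      rcases hq with ⟨-, -, h⟩ | ⟨p, hp, hp2, h | h⟩
      · exact h
      all_goals
        obtain ⟨k, rfl⟩ := hp.odd_of_ne_two hp2
        rw [h, ← pow_mul]
        rintro ⟨c, hc⟩
        have h0 : 0 < Fintype.card F := Fintype.card_pos
        rw [h] at h0
        rw [show (2 * k + 1) * 2 = 4 * k + 2 by ring, pow_add, pow_mul] at hc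
      · have h1 : (3 ^ 4) ^ k % 16 = 1 := by rw [Nat.pow_mod]; norm_num
        omega
      · have h1 : (5 ^ 4) ^ k % 16 = 1 := by rw [Nat.pow_mod]; norm_num
        omega
    have h7 : 7 ≤ Fintype.card F := by
      rcases hq with ⟨hp, h5, -⟩ | ⟨p, hp, hp2, h | h⟩
      · rcases (show Fintype.card F = 6 ∨ 7 ≤ Fintype.card F by omega) with h | h
        · rw [h] at hp; norm_num at hp
        · exact h
      · rw [h]; exact le_trans (by norm_num) (Nat.pow_le_pow_right (by norm_num) hp.two_le)
      · rw [h]; exact le_trans (by norm_num) (Nat.pow_le_pow_right (by norm_num) hp.two_le)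
    have hsub : ∀ k j : ℕ, k ^ j = Fintype.card F → k = Fintype.card F ∨ k = 3 ∨ k = 5 := by
      intro k j hkj
      rcases hq with ⟨hp, -, -⟩ | ⟨p, hp, -, h | h⟩
      · rw [← hkj] at hp
        have := hp.eq_one_of_pow
        subst this
        exact Or.inl (by rw [← hkj, pow_one])
      all_goals
        have hj : j ≠ 0 := fun e => by subst e; rw [pow_zero] at hkj; omega
        have hk : k ∣ Fintype.card F := hkj ▸ dvd_pow_self k hj
        rw [h] at hk
        obtain ⟨i, -, rfl⟩ := (Nat.dvd_prime_pow (by norm_num)).1 hk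
        rw [h, ← pow_mul] at hkj
        have hij := Nat.pow_right_injective (by norm_num) hkj
        rcases hp.eq_one_or_self_of_dvd i (Dvd.intro j hij) with rfl | rfl
        · simp
        · exact Or.inl h.symm
    refine ⟨fun hs => psl_not_isSolvable (F := F) (by omega)
      (Group.isSolvable_of_surjective (f := e.toMonoidHom) e.surjective), fun hca => ?_, fun H hH x hx => ?_⟩
    · obtain ⟨x, a, b, -, ⟨y, hxy⟩, hxa, hxb, hab⟩ := psl_exists_nonCA (F := F) hodd h7
      have hmap : ∀ {u v}, Commute u v → Commute (e.symm u) (e.symm v) := fun hc => hc.map e.symm.toMonoidHom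
      have hx : e.symm x ∉ Subgroup.center G := fun hc => hxy (e.symm.injective (by
        rw [map_mul, map_mul]; exact (Subgroup.mem_center_iff.1 hc (e.symm y)).symm))
      refine hab (e.symm.injective ?_)
      rw [map_mul, map_mul]
      exact congrArg Subtype.val ((hca _ hx).is_comm.comm ⟨_, mem_Cn.2 (hmap hxa)⟩ ⟨_, mem_Cn.2 (hmap hxb)⟩)
    · refine ⟨⟨fun a b => Subtype.ext ?_⟩⟩
      by_contra hab
      have hH' : H.map e.toMonoidHom ≠ ⊤ := fun h => hH (Subgroup.map_injective (f := e.toMonoidHom) e.injective (by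
        rw [h, Subgroup.map_top_of_surjective e.toMonoidHom e.surjective]))
      refine hx (Subgroup.mem_center_iff.2 fun y => Subtype.ext ?_)
      have hc : ∀ {a : H}, a ∈ Subgroup.centralizer ({x} : Set H) → Commute (e (x : G)) (e ((a : H) : G)) :=
        fun {a} ha => (show Commute (x : G) (a : G) from congrArg Subtype.val (mem_Cn.1 ha).eq).map e.toMonoidHom
      have hmem : ∀ a : H, e (a : G) ∈ H.map e.toMonoidHom := fun a => Subgroup.mem_map_of_mem e.toMonoidHom a.2
      have h := psl_proper hodd h16 hsub hH' (hmem x) (hmem a) (hmem b) (hmem y) (hc a.2) (hc b.2)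
        (fun hc => hab (Subtype.ext (e.injective (by
          show e (((a : H) : G) * ((b : H) : G)) = e (((b : H) : G) * ((a : H) : G))
          rw [map_mul, map_mul]; exact hc.eq))))
      refine e.injective ?_
      show e ((y : G) * (x : G)) = e ((x : G) * (y : G))
      rw [map_mul, map_mul]
      exact h.eq.symm

end Cfsg.Agent.S4369
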