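import Cfsg.Statements.S4370
import Cfsg.Agent.Lib.PGroup.UniqueOrderP
import Cfsg.Agent.Lib.Subnormal.Nilpotent

set_option autoImplicit false
open Cfsg

namespace Cfsg.Agent.S4370

theorem quat_centralizer {N : ℕ} [NeZero N] (u : QuaternionGroup N)
    (hu : u ∉ Subgroup.center (QuaternionGroup N)) :
    ∃ w : QuaternionGroup N, Nat.card (Subgroup.zpowers w) ∣ 4 * N ∧
      Subgroup.centralizer ({u} : Set (QuaternionGroup N)) ≤ Subgroup.zpowers w := by
  have hdvd : ∀ w : QuaternionGroup N, Nat.card (Subgroup.zpowers w) ∣ 4 * N := fun w => by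
    rw [← QuaternionGroup.card (n := N), ← Nat.card_eq_fintype_card]
    exact Subgroup.card_subgroup_dvd_card _
  rcases u with i | j
  · refine ⟨QuaternionGroup.a 1, hdvd _, fun v hv => ?_⟩
    rw [Subgroup.mem_centralizer_singleton_iff] at hv
    rcases v with l | k
    · refine ⟨(l.val : ℤ), ?_⟩
      show QuaternionGroup.a 1 ^ (l.val : ℤ) = QuaternionGroup.a l
      rw [zpow_natCast, QuaternionGroup.a_one_pow, ZMod.natCast_zmod_val]
    · exfalso
      apply hu
      rw [QuaternionGroup.xa_mul_a, QuaternionGroup.a_mul_xa, QuaternionGroup.xa.injEq] at hv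
      have hi : i + i = 0 := by linear_combination hv
      rw [Subgroup.mem_center_iff]
      rintro (l | k')
      · rw [QuaternionGroup.a_mul_a, QuaternionGroup.a_mul_a, add_comm]
      · rw [QuaternionGroup.xa_mul_a, QuaternionGroup.a_mul_xa, QuaternionGroup.xa.injEq]
        linear_combination hi
  · refine ⟨QuaternionGroup.xa j, hdvd _, fun v hv => ?_⟩
    rw [Subgroup.mem_centralizer_singleton_iff] at hv
    have hN : ((N : ℕ) : ZMod (2 * N)) + (N : ℕ) = 0 := by
      have h := ZMod.natCast_self (2 * N)
      push_cast at h ⊢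
      linear_combination h
    have htwo : ∀ l : ZMod (2 * N), l + l = 0 → l = 0 ∨ l = (N : ℕ) := by
      intro l hl
      have h1 : (((l.val + l.val : ℕ)) : ZMod (2 * N)) = 0 := by
        rw [Nat.cast_add, ZMod.natCast_zmod_val]; exact hl
      rw [ZMod.natCast_eq_zero_iff] at h1
      obtain ⟨s, hs⟩ := h1
      rw [mul_assoc] at hs
      have hlt : l.val < 2 * N := ZMod.val_lt l
      have hs' : l.val = N * s := by omega
      rcases s with _ | _ | s
      · left; rw [← ZMod.natCast_zmod_val l, hs', mul_zero, Nat.cast_zero]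
      · right; rw [← ZMod.natCast_zmod_val l, hs']; simp
      · exfalso
        rw [hs', mul_add, mul_add] at hlt
        omega
    have hw2 : QuaternionGroup.xa j ^ 2 = QuaternionGroup.a ((N : ℕ) : ZMod (2 * N)) :=
      QuaternionGroup.xa_sq j
    rcases v with l | k
    · rw [QuaternionGroup.a_mul_xa, QuaternionGroup.xa_mul_a, QuaternionGroup.xa.injEq] at hv
      rcases htwo l (by first | linear_combination hv | linear_combination -hv) with rfl | rfl
      · rw [QuaternionGroup.a_zero]; exact one_mem _
      · rw [← hw2]; exact pow_mem (Subgroup.mem_zpowers _) 2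
    · rw [QuaternionGroup.xa_mul_xa, QuaternionGroup.xa_mul_xa, QuaternionGroup.a.injEq] at hv
      rcases htwo (k - j) (by first | linear_combination hv | linear_combination -hv) with h | h
      · rw [sub_eq_zero.mp h]; exact Subgroup.mem_zpowers _
      · have e : QuaternionGroup.xa j ^ 3 = QuaternionGroup.xa k := by
          rw [pow_succ, hw2, QuaternionGroup.a_mul_xa, QuaternionGroup.xa.injEq]
          linear_combination -h - hN
        rw [← e]; exact pow_mem (Subgroup.mem_zpowers _) 3

theorem eq_of_card_eq_cyclic {G : Type*} [Group G] [Finite G] [IsCyclic G] {H K : Subgroup G}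
    (h : Nat.card H = Nat.card K) : H = K := by
  let _ : CommGroup G := IsCyclic.commGroup
  have key : ∀ L : Subgroup G, L = (powMonoidHom (Nat.card L) : G →* G).ker := by
    intro L
    refine Subgroup.eq_of_le_of_card_ge (fun x hx => ?_) ?_
    · rw [MonoidHom.mem_ker, powMonoidHom_apply]
      exact congrArg Subtype.val (pow_card_eq_one' (x := (⟨x, hx⟩ : L)))
    · rw [IsCyclic.card_powMonoidHom_ker]
      exact Nat.le_of_dvd Nat.card_pos (Nat.gcd_dvd_right _ _)
  rw [key H, key K, h]

theorem forward {G : Type*} [Group G] [Finite G] (hG : Group.IsNilpotent G)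
    (hna : ¬ IsMulCommutative G)
    (hC : ∀ x : G, x ∉ Subgroup.center G → IsCyclic (Subgroup.centralizer ({x} : Set G))) :
    ∃ (k m : ℕ), 1 ≤ k ∧ Odd m ∧ Nonempty (G ≃* QuaternionGroup (2 ^ k) × Multiplicative (ZMod m)) := by
  classical
  -- some Sylow subgroup is not abelian
  have hnorm : ∀ (p : ℕ) (_ : Fact p.Prime) (P : Sylow p G), (P : Subgroup G).Normal :=
    fun p _ P => inferInstance
  obtain ⟨p, hp, P, hP⟩ : ∃ (p : ℕ) (_ : Fact p.Prime) (P : Sylow p G), ¬ IsMulCommutative P := by
    by_contra hc
    push_neg at hc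
    apply hna
    have htop : Subgroup.center G = ⊤ := Components.eq_top_of_forall_sylow fun q hq _ => by
      have := Fact.mk hq
      refine ⟨default, fun x hx => ?_⟩
      rw [← Subgroup.centralizer_univ, Subgroup.mem_centralizer_iff]
      intro y _
      have hCtop : Subgroup.centralizer ({x} : Set G) = ⊤ :=
        Components.eq_top_of_forall_sylow fun r hr _ => by
          have := Fact.mk hr
          refine ⟨default, fun z hz => ?_⟩
          rw [Subgroup.mem_centralizer_singleton_iff]
          by_cases hrq : r = q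
          · subst hrq
            exact congrArg Subtype.val ((hc r ⟨hr⟩ default).is_comm.comm
              (⟨z, hz⟩ : ((default : Sylow r G) : Subgroup G)) ⟨x, hx⟩)
          · exact (Subgroup.commute_of_normal_of_disjoint _ _ (hnorm r ⟨hr⟩ default) (hnorm q ⟨hq⟩ default)
              (IsPGroup.disjoint_of_ne _ _ hrq _ _ (default : Sylow r G).isPGroup'
                (default : Sylow q G).isPGroup') z x hz hx).eq
      exact Subgroup.mem_centralizer_singleton_iff.mp (hCtop.symm.le (Subgroup.mem_top y))
    exact ⟨⟨fun a b => Subgroup.mem_center_iff.mp (htop.symm.le (Subgroup.mem_top b)) a⟩⟩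
  obtain ⟨x, hxP⟩ : ∃ x : P, x ∉ Subgroup.center P := by
    by_contra hc
    push_neg at hc
    exact hP ⟨⟨fun a b => Subgroup.mem_center_iff.mp (hc b) a⟩⟩
  have hxG : (x : G) ∉ Subgroup.center G := fun h => hxP (Subgroup.mem_center_iff.mpr
    fun y => Subtype.ext (Subgroup.mem_center_iff.mp h y))
  have hcyc := hC x hxG
  have hPp : IsPGroup p P := P.2
  have : Nontrivial P := by
    by_contra h
    rw [not_nontrivial_iff_subsingleton] at h
    exact hP ⟨⟨fun a b => Subsingleton.elim _ _⟩⟩
  obtain ⟨z, hz, hzc⟩ : ∃ z : P, orderOf z = p ∧ z ∈ Subgroup.center P := by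
    obtain ⟨z, -, hz, hzo⟩ := PGroup.exists_orderOf_eq_mem_center hPp (⊤ : Subgroup P) top_ne_bot
    exact ⟨z, hzo, hz⟩
  have huniq' : ∀ {C : Subgroup G}, IsCyclic C → ∀ {a b : G}, a ∈ C → b ∈ C →
      orderOf a = p → orderOf b = p → Subgroup.zpowers a = Subgroup.zpowers b := by
    intro C hC' a b ha hb hoa hob
    have hsub : ∀ H K : Subgroup C, Nat.card H = p → Nat.card K = p → H = K := fun H K h h' =>
      eq_of_card_eq_cyclic (h.trans h'.symm)
    have e := hsub (Subgroup.zpowers ⟨a, ha⟩) (Subgroup.zpowers ⟨b, hb⟩)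
      (by rw [Nat.card_zpowers, Subgroup.orderOf_mk, hoa])
      (by rw [Nat.card_zpowers, Subgroup.orderOf_mk, hob])
    have := congrArg (Subgroup.map C.subtype) e
    simpa [MonoidHom.map_zpowers] using this
  have hzP : ∀ y : P, Commute (y : G) z := fun y =>
    congrArg Subtype.val (Subgroup.mem_center_iff.mp hzc y)
  -- elements of order `p` of `P` are central in `G`
  have hcen : ∀ y : P, orderOf y = p → (y : G) ∈ Subgroup.center G := by
    intro y hy
    by_contra hyG
    have hC' := hC y hyG
    have e := huniq' hC' (a := (y : G)) (b := (z : G))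
      (Subgroup.mem_centralizer_singleton_iff.mpr rfl)
      (Subgroup.mem_centralizer_singleton_iff.mpr (hzP y).symm.eq)
      (by rw [Subgroup.orderOf_coe, hy]) (by rw [Subgroup.orderOf_coe, hz])
    have hy' : (y : G) ∈ Subgroup.zpowers (z : G) := e ▸ Subgroup.mem_zpowers _
    have hzG : (z : G) ∈ Subgroup.center G := by
      have hzall : Subgroup.centralizer ({(z : G)} : Set G) = ⊤ :=
        Components.eq_top_of_forall_sylow fun r hr _ => by
          have := Fact.mk hr
          by_cases hrp : r = p
          · subst hrp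
            exact ⟨P, fun w hw => Subgroup.mem_centralizer_singleton_iff.mpr (hzP ⟨w, hw⟩).eq⟩
          · refine ⟨default, fun w hw => Subgroup.mem_centralizer_singleton_iff.mpr ?_⟩
            exact (Subgroup.commute_of_normal_of_disjoint _ _ (hnorm r ⟨hr⟩ default) (hnorm p hp P)
              (IsPGroup.disjoint_of_ne _ _ hrp _ _ (default : Sylow r G).isPGroup'
                P.isPGroup') w z hw z.2).eq
      exact Subgroup.mem_center_iff.mpr fun w =>
        Subgroup.mem_centralizer_singleton_iff.mp (hzall.symm.le (Subgroup.mem_top w))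
    exact hyG (Subgroup.zpowers_le.mpr hzG hy')
  have hun : ∀ H K : Subgroup P, Nat.card H = p → Nat.card K = p → H = K := by
    intro H K hH hK
    obtain ⟨a, ha⟩ := exists_prime_orderOf_dvd_card' p hH.symm.dvd
    obtain ⟨b, hb⟩ := exists_prime_orderOf_dvd_card' p hK.symm.dvd
    rw [← Subgroup.orderOf_coe] at ha hb
    have eH : Subgroup.zpowers (a : P) = H := Subgroup.eq_of_le_of_card_ge
      (Subgroup.zpowers_le.mpr a.2) (by rw [Nat.card_zpowers, ha, hH])
    have eK : Subgroup.zpowers (b : P) = K := Subgroup.eq_of_le_of_card_ge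
      (Subgroup.zpowers_le.mpr b.2) (by rw [Nat.card_zpowers, hb, hK])
    have e := huniq' hcyc (a := ((a : P) : G)) (b := ((b : P) : G))
      (Subgroup.mem_centralizer_singleton_iff.mpr (Subgroup.mem_center_iff.mp (hcen _ ha) x).symm)
      (Subgroup.mem_centralizer_singleton_iff.mpr (Subgroup.mem_center_iff.mp (hcen _ hb) x).symm)
      (by rw [Subgroup.orderOf_coe, ha]) (by rw [Subgroup.orderOf_coe, hb])
    rw [← eH, ← eK]
    apply Subgroup.map_injective (P : Subgroup G).subtype_injective
    simpa [MonoidHom.map_zpowers] using e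
  rcases PGroup.cyclic_or_quaternion_of_unique hPp hun with hc | ⟨hp2, n, hn, -, ⟨e⟩⟩
  · exact absurd (IsCyclic.isMulCommutative (α := P)) hP
  subst hp2
  -- the complement
  have hPn : (P : Subgroup G).Normal := hnorm 2 hp P
  obtain ⟨K, hK⟩ := Subgroup.exists_right_complement'_of_coprime P.card_coprime_index
  have hcard : Nat.card K = (P : Subgroup G).index := hK.symm.index_eq_card.symm
  have hKcomm : ∀ k ∈ K, ∀ y : P, Commute k (y : G) := by
    intro k hk y
    obtain ⟨j, hj⟩ := hPp y
    refine Subnormal.commute_of_coprime (p := 2) (k := j) (congrArg Subtype.val hj) ?_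
    exact (((Nat.Prime.coprime_iff_not_dvd Nat.prime_two).mpr P.not_dvd_index).symm).coprime_dvd_left
      (hcard ▸ Subgroup.orderOf_dvd_natCard K hk)
  have hKc : IsCyclic K := by
    have hle : K ≤ Subgroup.centralizer ({(x : G)} : Set G) :=
      fun k hk => Subgroup.mem_centralizer_singleton_iff.mpr (hKcomm k hk x).eq
    exact Subgroup.isCyclic_of_le hle
  refine ⟨n, Nat.card K, hn, ?_, ?_⟩
  · rw [hcard]
    exact Nat.odd_iff.mpr (by have := P.not_dvd_index; omega)
  let f : ↥(P : Subgroup G) × ↥K →* G := MonoidHom.noncommCoprod (P : Subgroup G).subtype K.subtype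
    fun y k => (hKcomm k k.2 y).symm
  have hf : Function.Bijective f := by
    have := hK
    exact this
  have : NeZero (Nat.card K) := ⟨Nat.card_pos.ne'⟩
  exact ⟨(MulEquiv.ofBijective f hf).symm.trans
    (e.prodCongr (mulEquivOfCyclicCardEq (by simp)))⟩

/-- Let G be a finite non-abelian nilpotent group. Then the centralizer of every non-central element of G is cyclic if and only if G is isomorphic to the direct product of a generalized quaternion group and a cyclic group of odd order. -/
theorem result {G : Type*} [Group G] [Finite G] (hG : Group.IsNilpotent G)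
    (hna : ¬ IsMulCommutative G) :
    (∀ x : G, x ∉ Subgroup.center G → IsCyclic (Subgroup.centralizer ({x} : Set G))) ↔
      ∃ (k m : ℕ), 1 ≤ k ∧ Odd m ∧ Nonempty (G ≃* QuaternionGroup (2 ^ k) × Multiplicative (ZMod m)) := by
  refine ⟨forward hG hna, ?_⟩
  rintro ⟨k, m, hk, hm, ⟨e⟩⟩ x hx
  have hmz : NeZero m := ⟨by rintro rfl; simp at hm⟩
  obtain ⟨u, c, huc⟩ : ∃ u c, e x = (u, c) := ⟨_, _, rfl⟩
  have hu : u ∉ Subgroup.center (QuaternionGroup (2 ^ k)) := by
    intro hu
    apply hx
    rw [Subgroup.mem_center_iff]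
    intro g
    apply e.injective
    rw [map_mul, map_mul, huc, Prod.ext_iff]
    exact ⟨Subgroup.mem_center_iff.mp hu _, mul_comm (e g).2 c⟩
  have hN : NeZero (2 ^ k) := ⟨by positivity⟩
  obtain ⟨w, hw, hle⟩ := quat_centralizer u hu
  obtain ⟨g, hg⟩ := IsCyclic.exists_generator (α := Multiplicative (ZMod m))
  let t : G := e.symm (w, g)
  have hle' : Subgroup.centralizer ({x} : Set G) ≤ Subgroup.zpowers t := by
    intro v hv
    rw [Subgroup.mem_centralizer_singleton_iff] at hv
    have hv1 : (e v).1 ∈ Subgroup.centralizer ({u} : Set (QuaternionGroup (2 ^ k))) := by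
      rw [Subgroup.mem_centralizer_singleton_iff]
      have := congrArg (fun z => (e z).1) hv
      simpa [map_mul, huc] using this
    obtain ⟨a, ha⟩ := Subgroup.mem_zpowers_iff.mp (hle hv1)
    obtain ⟨b, hb⟩ := Subgroup.mem_zpowers_iff.mp (hg (e v).2)
    have hcop : (orderOf w).Coprime (orderOf g) := by
      rw [← Nat.card_zpowers w]
      refine Nat.Coprime.coprime_dvd_left hw (Nat.Coprime.coprime_dvd_right
        (orderOf_dvd_natCard g) ?_)
      rw [Nat.card_congr Multiplicative.toAdd, Nat.card_zmod, show 4 * 2 ^ k = 2 ^ (k + 2) by ring]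
      exact Nat.Coprime.pow_left _ ((Nat.prime_two.coprime_iff_not_dvd).mpr hm.not_two_dvd_nat)
    obtain ⟨r, s, hrs⟩ := (Int.isCoprime_iff_gcd_eq_one.mpr (by simpa using hcop) :
      IsCoprime (orderOf w : ℤ) (orderOf g : ℤ))
    refine ⟨a + (orderOf w : ℤ) * r * (b - a), ?_⟩
    apply e.injective
    show e (t ^ _) = e v
    rw [map_zpow, MulEquiv.apply_symm_apply, Prod.ext_iff]
    constructor
    · rw [Prod.pow_fst]
      rw [zpow_add, mul_assoc, zpow_mul, zpow_natCast, pow_orderOf_eq_one, one_zpow, mul_one, ha]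
    · rw [Prod.pow_snd, ← hb, zpow_eq_zpow_iff_modEq, Int.modEq_iff_dvd]
      exact ⟨s * (b - a), by linear_combination (-(b - a)) * hrs⟩
  exact Subgroup.isCyclic_of_le hle'

end Cfsg.Agent.S4370
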