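import Cfsg.Statements.S4377
-- import your own Cfsg.Agent.* helpers here

set_option autoImplicit false
open Cfsg

namespace Cfsg.Agent.S4377

/-- Two finite groups have the same number of elements of each order if and only if, for every n, they have the same number of elements g with gⁿ = 1. -/
theorem result {G H : Type*} [Group G] [Finite G] [Group H] [Finite H] :
    (∀ n : ℕ, Nat.card {g : G // orderOf g = n} = Nat.card {h : H // orderOf h = n}) ↔
      ∀ n : ℕ, Nat.card {g : G // g ^ n = 1} = Nat.card {h : H // h ^ n = 1} := by
  classical
  have : Fintype G := Fintype.ofFinite G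
  have : Fintype H := Fintype.ofFinite H
  constructor
  · intro h n
    let e : G ≃ H := Equiv.ofFiberEquiv (f := fun g : G => orderOf g) (g := fun x : H => orderOf x)
      (fun d => Finite.equivFinOfCardEq (h d) |>.trans (Finite.equivFin _).symm)
    refine Nat.card_congr (e.subtypeEquiv fun g => ?_)
    have he : orderOf (e g) = orderOf g := Equiv.ofFiberEquiv_map (f := fun g : G => orderOf g)
      (g := fun x : H => orderOf x) _ g
    rw [← orderOf_dvd_iff_pow_eq_one, ← orderOf_dvd_iff_pow_eq_one, he]
  · intro h n
    induction n using Nat.strong_induction_on with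
    | _ n ih =>
      rcases Nat.eq_zero_or_pos n with rfl | hn
      · have hg : IsEmpty {g : G // orderOf g = 0} := ⟨fun g => (orderOf_pos g.1).ne' g.2⟩
        have hh : IsEmpty {g : H // orderOf g = 0} := ⟨fun g => (orderOf_pos g.1).ne' g.2⟩
        rw [Nat.card_of_isEmpty, Nat.card_of_isEmpty]
      have e := h n
      simp only [Nat.card_eq_fintype_card, Fintype.card_subtype] at e ⊢
      have hG := sum_card_orderOf_eq_card_pow_eq_one (G := G) hn.ne'
      have hH := sum_card_orderOf_eq_card_pow_eq_one (G := H) hn.ne'
      rw [← Finset.sum_erase_add _ _ (Nat.mem_divisors_self n hn.ne')] at hG hH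
      have hs : ∑ x ∈ n.divisors.erase n, (Finset.univ.filter fun g : G => orderOf g = x).card =
          ∑ x ∈ n.divisors.erase n, (Finset.univ.filter fun g : H => orderOf g = x).card := by
        refine Finset.sum_congr rfl fun x hx => ?_
        rw [Finset.mem_erase] at hx
        have := ih x (lt_of_le_of_ne (Nat.divisor_le hx.2) hx.1)
        simpa only [Nat.card_eq_fintype_card, Fintype.card_subtype] using this
      omega

end Cfsg.Agent.S4377
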