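import Cfsg.Statements.S4376
import Cfsg.Agent.S4377

set_option autoImplicit false
open Cfsg

namespace Cfsg.Agent.S4376

/-! An explicit witness: products of small semidirect products `N ⋊ H` with known counts
`n ↦ #{g | g ^ n = 1}`; found by linear algebra on the exponent vectors of these counts. -/

set_option maxRecDepth 4000
set_option synthInstance.maxSize 1024

section
variable {N H : Type} [CommGroup N] [Group H]

/-- The left component of `(a,h) ^ n`. -/
def geom (φ : H →* MulAut N) (h : H) (n : ℕ) (a : N) : N :=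
  (Finset.range n).prod fun i => φ (h ^ i) a

theorem sd_pow (φ : H →* MulAut N) (a : N) (h : H) (n : ℕ) :
    ((⟨a, h⟩ : N ⋊[φ] H) ^ n).left = geom φ h n a ∧ ((⟨a, h⟩ : N ⋊[φ] H) ^ n).right = h ^ n := by
  induction n with
  | zero => simp [geom]
  | succ n ih =>
    rw [pow_succ, SemidirectProduct.mul_left, SemidirectProduct.mul_right, ih.1, ih.2]
    exact ⟨(Finset.prod_range_succ _ n).symm, (pow_succ h n).symm⟩

theorem geom_fixed (φ : H →* MulAut N) (h : H) (n : ℕ) (hn : h ^ n = 1) (a : N) :
    φ h (geom φ h n a) = geom φ h n a := by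
  have h1 : φ h (geom φ h n a) = (Finset.range n).prod fun i => φ (h ^ (i + 1)) a := by
    rw [geom, map_prod]
    refine Finset.prod_congr rfl fun i _ => ?_
    rw [pow_succ', map_mul]
    rfl
  have h2 := Finset.prod_range_succ' (fun i => φ (h ^ i) a) n
  rw [Finset.prod_range_succ, hn, pow_zero, map_one, MulAut.one_apply] at h2
  rw [h1]
  exact (mul_right_cancel h2).symm

theorem geom_of_trivial (φ : H →* MulAut N) (h : H) (hh : φ h = 1) (n : ℕ) (a : N) :
    geom φ h n a = a ^ n := by
  simp [geom, map_pow, hh]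

theorem geom_mul_period (φ : H →* MulAut N) (h : H) (d m : ℕ) (hd : h ^ d = 1) (a : N) :
    geom φ h (d * m) a = (geom φ h d a) ^ m := by
  induction m with
  | zero => simp [geom]
  | succ m ih =>
    rw [Nat.mul_succ, geom, Finset.prod_range_add, pow_succ]
    congr 1
    refine Finset.prod_congr rfl fun i _ => ?_
    rw [pow_add, pow_mul, hd, one_pow, one_mul]

end

/-- A finite abelian group with an `H`-action and the kernel sizes of the maps `geom`. -/
structure Blk (H : Type) [Group H] : Type 1 where
  N : Type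
  cg : CommGroup N
  fin : Finite N
  φ : H →* MulAut N
  c : ℕ → H → ℕ
  q : ℕ
  hq : Nat.card N = q
  hc : ∀ (n : ℕ) (h : H), n ∣ 30 → h ^ n = 1 → Nat.card {a : N // geom φ h n a = 1} = c n h

/-- The empty block. -/
def blkUnit (H : Type) [Group H] : Blk H where
  N := Unit
  cg := inferInstance
  fin := inferInstance
  φ := 1
  c := fun _ _ => 1
  q := 1
  hq := by simp
  hc := fun n h _ _ => by
    rw [Nat.card_congr (Equiv.subtypeUnivEquiv fun a => Subsingleton.elim _ _)]
    simp

/-- The action on a product. -/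
def prodAct {H : Type} [Group H] {N M : Type} [CommGroup N] [CommGroup M]
    (φ : H →* MulAut N) (ψ : H →* MulAut M) : H →* MulAut (N × M) :=
  MonoidHom.mk' (fun h => MulEquiv.prodCongr (φ h) (ψ h)) fun a b => by
    rw [map_mul, map_mul]
    ext x <;> rfl

/-- The product of two blocks. -/
def blkProd {H : Type} [Group H] (A B : Blk H) : Blk H :=
  let _ := A.cg
  let _ := B.cg
  { N := A.N × B.N
    cg := inferInstance
    fin := by
      have := A.fin
      have := B.fin
      exact inferInstance
    φ := prodAct A.φ B.φ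
    c := fun n h => A.c n h * B.c n h
    q := A.q * B.q
    hq := by rw [Nat.card_prod, A.hq, B.hq]
    hc := fun n h hn hh => by
      rw [← A.hc n h hn hh, ← B.hc n h hn hh, ← Nat.card_prod]
      refine Nat.card_congr ((Equiv.subtypeEquivRight fun x => ?_).trans Equiv.subtypeProdEquivProd)
      rw [Prod.ext_iff, geom, Prod.fst_prod, Prod.snd_prod]
      rfl }

/-- A finite soluble group of exponent dividing 30 with its counting function. -/
structure Wit : Type 1 where
  G : Type
  grp : Group G
  fin : Finite G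
  solv : Group.IsSolvable G
  f : ℕ → ℕ
  hf : ∀ n : ℕ, n ∣ 30 → Nat.card {g : G // g ^ n = 1} = f n
  hexp : ∀ g : G, g ^ 30 = 1

open scoped Classical in
/-- Total count for a block. -/
theorem witAux {N H : Type} [CommGroup N] [Group H] [Finite N] [Fintype H] [DecidableEq H]
    (φ : H →* MulAut N) (n : ℕ) (c : H → ℕ)
    (hc : ∀ h : H, h ^ n = 1 → Nat.card {a : N // geom φ h n a = 1} = c h) :
    Nat.card {g : N ⋊[φ] H // g ^ n = 1} =
      Finset.sum Finset.univ fun h : H => if h ^ n = 1 then c h else 0 := by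
  let e : {g : N ⋊[φ] H // g ^ n = 1} ≃ Σ h : {h : H // h ^ n = 1}, {a : N // geom φ h.1 n a = 1} :=
    { toFun := fun g => ⟨⟨g.1.right, by
          have := (sd_pow φ g.1.left g.1.right n).2
          rw [← this, show ((⟨g.1.left, g.1.right⟩ : N ⋊[φ] H)) = g.1 from rfl, g.2,
            SemidirectProduct.one_right]⟩, ⟨g.1.left, by
          have := (sd_pow φ g.1.left g.1.right n).1
          rw [← this, show ((⟨g.1.left, g.1.right⟩ : N ⋊[φ] H)) = g.1 from rfl, g.2,
            SemidirectProduct.one_left]⟩⟩
      invFun := fun x => ⟨⟨x.2.1, x.1.1⟩, SemidirectProduct.ext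
        (by rw [(sd_pow φ x.2.1 x.1.1 n).1, x.2.2, SemidirectProduct.one_left])
        (by rw [(sd_pow φ x.2.1 x.1.1 n).2, x.1.2, SemidirectProduct.one_right])⟩
      left_inv := fun g => rfl
      right_inv := fun x => rfl }
  rw [Nat.card_congr e, Nat.card_sigma, ← Finset.sum_filter]
  rw [← Finset.sum_subtype (Finset.univ.filter fun h : H => h ^ n = 1) (by simp)
    (fun h => Nat.card {a : N // geom φ h n a = 1})]
  exact Finset.sum_congr rfl fun h hh => hc h (Finset.mem_filter.mp hh).2

/-- The semidirect product attached to a block. -/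
def witOf {H : Type} [Group H] [Fintype H] [DecidableEq H] (B : Blk H)
    (hs : Group.IsSolvable H) (he : ∀ h : H, h ^ 30 = 1) (hB : ∀ h : H, B.c 30 h = B.q) : Wit :=
  let _ := B.cg
  { G := B.N ⋊[B.φ] H
    grp := inferInstance
    fin := by
      have := B.fin
      exact Finite.of_equiv _ SemidirectProduct.equivProd.symm
    solv := by
      have := hs
      exact solvable_of_ker_le_range (SemidirectProduct.inl : B.N →* B.N ⋊[B.φ] H)
        SemidirectProduct.rightHom SemidirectProduct.range_inl_eq_ker_rightHom.ge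
    f := fun n => Finset.sum Finset.univ fun h : H => if h ^ n = 1 then B.c n h else 0
    hf := fun n hn => by
      have := B.fin
      exact witAux B.φ n (B.c n) fun h hh => B.hc n h hn hh
    hexp := fun g => by
      have := B.fin
      have h1 := B.hc 30 g.right dvd_rfl (he _)
      rw [hB, ← B.hq] at h1
      have h2 : geom B.φ g.right 30 g.left = 1 := by
        by_contra hne
        have := Finite.card_subtype_lt (p := fun a : B.N => geom B.φ g.right 30 a = 1) hne
        omega
      refine SemidirectProduct.ext ?_ ?_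
      · rw [show g = ⟨g.left, g.right⟩ from rfl, (sd_pow B.φ g.left g.right 30).1, h2,
          SemidirectProduct.one_left]
      · rw [show g = ⟨g.left, g.right⟩ from rfl, (sd_pow B.φ g.left g.right 30).2, he,
          SemidirectProduct.one_right] }

/-- The trivial witness. -/
def witOne : Wit where
  G := Unit
  grp := inferInstance
  fin := inferInstance
  solv := inferInstance
  f := fun _ => 1
  hf := fun n _ => by
    rw [Nat.card_congr (Equiv.subtypeUnivEquiv fun a => Subsingleton.elim _ _)]
    simp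
  hexp := fun _ => rfl

/-- The product of two witnesses. -/
def witMul (A B : Wit) : Wit :=
  let _ := A.grp
  let _ := B.grp
  { G := A.G × B.G
    grp := inferInstance
    fin := by
      have := A.fin
      have := B.fin
      exact inferInstance
    solv := by
      have := A.solv
      have := B.solv
      exact inferInstance
    f := fun n => A.f n * B.f n
    hf := fun n hn => by
      rw [← A.hf n hn, ← B.hf n hn, ← Nat.card_prod]
      exact Nat.card_congr ((Equiv.subtypeEquivRight fun x => by
        rw [Prod.ext_iff, Prod.pow_fst, Prod.pow_snd]; rfl).trans Equiv.subtypeProdEquivProd)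
    hexp := fun g => Prod.ext (A.hexp g.1) (B.hexp g.2) }

/-- A product of powers of witnesses. -/
def witProd (L : List (Wit × ℕ)) : Wit :=
  L.foldr (fun x W => (List.replicate x.2 x.1).foldr witMul W) witOne

/-- A product of blocks. -/
def blks {H : Type} [Group H] (L : List (Blk H)) : Blk H :=
  L.foldr blkProd (blkUnit H)

/-- The homomorphism `k ↦ u ^ k` from a cyclic group. -/
def powHom {M : Type} [Group M] {d : ℕ} [NeZero d] (u : M) (hu : u ^ d = 1) :
    Multiplicative (ZMod d) →* M :=
  MonoidHom.mk' (fun k => u ^ k.toAdd.val) fun a b => by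
    rw [toAdd_mul, ZMod.val_add, ← pow_eq_pow_mod _ hu, pow_add]

theorem mulAut_pow_apply {N : Type} [Mul N] (u : MulAut N) (n : ℕ) (a : N) :
    (u ^ n) a = u^[n] a := by
  induction n generalizing a with
  | zero => rfl
  | succ n ih =>
    rw [pow_succ, MulAut.mul_apply, ih, Function.iterate_succ_apply]

/-- An elementary abelian group with a fixed point free automorphism. -/
structure Fpf : Type 1 where
  N : Type
  cg : CommGroup N
  fin : Finite N
  q : ℕ
  hq : Nat.card N = q
  r : ℕ
  hr : r.Prime
  hexp : ∀ a : N, a ^ r = 1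
  d : ℕ
  nz : NeZero d
  u : MulAut N
  hu : ∀ a : N, u^[d] a = a
  hfix : ∀ k : ℕ, k < d → k ≠ 0 → ∀ a : N, u^[k] a = a → a = 1

/-- A block on which `H` acts by powers of a fixed point free automorphism. -/
def scal {H : Type} [Group H] [DecidableEq H] (S : Fpf) {d : ℕ} (hd : S.d = d)
    (χ : H →* Multiplicative (ZMod d)) : Blk H :=
  let _ := S.cg
  let _ : NeZero d := hd ▸ S.nz
  have hu : S.u ^ d = 1 := MulEquiv.ext fun a => by
    rw [mulAut_pow_apply, ← hd]
    exact S.hu a
  { N := S.N
    cg := inferInstance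
    fin := S.fin
    φ := (powHom S.u hu).comp χ
    c := fun n h => if (χ h).toAdd = 0 ∧ ¬ S.r ∣ n then 1 else S.q
    q := S.q
    hq := S.hq
    hc := fun n h hn hh => by
      have := S.fin
      by_cases h0 : (χ h).toAdd = 0
      · have h1 : (powHom S.u hu).comp χ h = 1 := by
          show S.u ^ (χ h).toAdd.val = 1
          rw [h0, ZMod.val_zero, pow_zero]
        by_cases hr : S.r ∣ n
        · rw [if_neg (fun hh => hh.2 hr), ← S.hq]
          refine Nat.card_congr (Equiv.subtypeUnivEquiv fun a => ?_)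
          obtain ⟨m, rfl⟩ := hr
          rw [geom_of_trivial _ _ h1, pow_mul, S.hexp, one_pow]
        · rw [if_pos ⟨h0, hr⟩, Nat.card_eq_one_iff_unique]
          have key : ∀ a : S.N, geom ((powHom S.u hu).comp χ) h n a = 1 → a = 1 := by
            intro a ha
            rw [geom_of_trivial _ _ h1] at ha
            have hd1 := orderOf_dvd_of_pow_eq_one (S.hexp a)
            have hd2 := orderOf_dvd_of_pow_eq_one ha
            exact orderOf_eq_one_iff.mp (Nat.eq_one_of_dvd_coprimes
              ((Nat.Prime.coprime_iff_not_dvd S.hr).mpr hr) hd1 hd2)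
          refine ⟨⟨fun a b => Subtype.ext ((key a.1 a.2).trans (key b.1 b.2).symm)⟩, ⟨⟨1, ?_⟩⟩⟩
          rw [geom_of_trivial _ _ h1, one_pow]
      · rw [if_neg (fun hh => h0 hh.1), ← S.hq]
        refine Nat.card_congr (Equiv.subtypeUnivEquiv fun a => ?_)
        have h1 := geom_fixed ((powHom S.u hu).comp χ) h n hh a
        have h2 : ((powHom S.u hu).comp χ) h = S.u ^ (χ h).toAdd.val := rfl
        rw [h2, mulAut_pow_apply] at h1
        refine S.hfix _ ?_ ?_ _ h1
        · rw [hd]; exact ZMod.val_lt _
        · exact (ZMod.val_ne_zero _).mpr h0 }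

/-- An automorphism given by a map of finite order. -/
def mkAut {A : Type} [AddCommGroup A] (f : A → A) (d : ℕ) (hadd : ∀ a b, f (a + b) = f a + f b)
    (hd : ∀ a, f^[d + 1] a = a) : MulAut (Multiplicative A) :=
  AddEquiv.toMultiplicative
    { toFun := f
      invFun := f^[d]
      left_inv := fun a => by rw [← Function.iterate_succ_apply]; exact hd a
      right_inv := fun a => by rw [← Function.iterate_succ_apply' f]; exact hd a
      map_add' := hadd }

/-- Inversion on `ZMod 3`. -/
def n3 : Fpf where
  N := Multiplicative (ZMod 3)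
  cg := inferInstance
  fin := inferInstance
  q := 3
  hq := by simp
  r := 3
  hr := Nat.prime_three
  hexp := by decide
  d := 2
  nz := inferInstance
  u := mkAut (fun a : ZMod 3 => -a) 1 (by decide) (by decide)
  hu := by decide +kernel
  hfix := fun k hk h0 a ha =>
    (by decide +kernel : ∀ k : Fin 2, ∀ a : Multiplicative (ZMod 3), (k : ℕ) ≠ 0 →
      (⇑(mkAut (fun a : ZMod 3 => -a) 1 (by decide) (by decide) : MulAut (Multiplicative (ZMod 3))))^[(k : ℕ)] a = a → a = 1) ⟨k, hk⟩ a h0 ha

/-- Inversion on `ZMod 5`. -/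
def n5 : Fpf where
  N := Multiplicative (ZMod 5)
  cg := inferInstance
  fin := inferInstance
  q := 5
  hq := by simp
  r := 5
  hr := Nat.prime_five
  hexp := by decide
  d := 2
  nz := inferInstance
  u := mkAut (fun a : ZMod 5 => -a) 1 (by decide) (by decide)
  hu := by decide +kernel
  hfix := fun k hk h0 a ha =>
    (by decide +kernel : ∀ k : Fin 2, ∀ a : Multiplicative (ZMod 5), (k : ℕ) ≠ 0 →
      (⇑(mkAut (fun a : ZMod 5 => -a) 1 (by decide) (by decide) : MulAut (Multiplicative (ZMod 5))))^[(k : ℕ)] a = a → a = 1) ⟨k, hk⟩ a h0 ha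

/-- The automorphism of order 3 of the four group. -/
def u4 : MulAut (Multiplicative (ZMod 2 × ZMod 2)) :=
  mkAut (fun a : ZMod 2 × ZMod 2 => (a.2, a.1 + a.2)) 2 (by decide) (by decide)

/-- The four group with an automorphism of order 3. -/
def w4 : Fpf where
  N := Multiplicative (ZMod 2 × ZMod 2)
  cg := inferInstance
  fin := inferInstance
  q := 4
  hq := by simp
  r := 2
  hr := Nat.prime_two
  hexp := by decide
  d := 3
  nz := inferInstance
  u := u4
  hu := by decide +kernel
  hfix := fun k hk h0 a ha =>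
    (by decide +kernel : ∀ k : Fin 3, ∀ a : Multiplicative (ZMod 2 × ZMod 2), (k : ℕ) ≠ 0 →
      (⇑(u4 : MulAut (Multiplicative (ZMod 2 × ZMod 2))))^[(k : ℕ)] a = a → a = 1) ⟨k, hk⟩ a h0 ha

/-- `5 × 5` with an automorphism of order 3. -/
def w25 : Fpf where
  N := Multiplicative (ZMod 5 × ZMod 5)
  cg := inferInstance
  fin := inferInstance
  q := 25
  hq := by simp
  r := 5
  hr := Nat.prime_five
  hexp := by decide +kernel
  d := 3
  nz := inferInstance
  u := mkAut (fun a : ZMod 5 × ZMod 5 => (-a.2, a.1 - a.2)) 2 (by decide +kernel) (by decide +kernel)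
  hu := by decide +kernel
  hfix := fun k hk h0 a ha =>
    (by decide +kernel : ∀ k : Fin 3, ∀ a : Multiplicative (ZMod 5 × ZMod 5), (k : ℕ) ≠ 0 →
      (⇑(mkAut (fun a : ZMod 5 × ZMod 5 => (-a.2, a.1 - a.2)) 2 (by decide +kernel) (by decide +kernel) : MulAut (Multiplicative (ZMod 5 × ZMod 5))))^[(k : ℕ)] a = a → a = 1) ⟨k, hk⟩ a h0 ha

/-- The field of 16 elements with multiplication by a generator. -/
def w16 : Fpf where
  N := Multiplicative ((ZMod 2 × ZMod 2) × ZMod 2 × ZMod 2)
  cg := inferInstance
  fin := inferInstance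
  q := 16
  hq := by simp
  r := 2
  hr := Nat.prime_two
  hexp := by decide +kernel
  d := 15
  nz := inferInstance
  u := mkAut (fun a : (ZMod 2 × ZMod 2) × ZMod 2 × ZMod 2 =>
    ((a.2.2, a.1.1 + a.2.2), (a.1.2, a.2.1))) 14 (by decide +kernel) (by decide +kernel)
  hu := by decide +kernel
  hfix := fun k hk h0 a ha =>
    (by decide +kernel : ∀ k : Fin 15, ∀ a : Multiplicative ((ZMod 2 × ZMod 2) × ZMod 2 × ZMod 2), (k : ℕ) ≠ 0 →
      (⇑(mkAut (fun a : (ZMod 2 × ZMod 2) × ZMod 2 × ZMod 2 =>
    ((a.2.2, a.1.1 + a.2.2), (a.1.2, a.2.1))) 14 (by decide +kernel) (by decide +kernel) : MulAut (Multiplicative ((ZMod 2 × ZMod 2) × ZMod 2 × ZMod 2))))^[(k : ℕ)] a = a → a = 1) ⟨k, hk⟩ a h0 ha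

/-- The field of 81 elements with multiplication by an element of order 10. -/
def w81 : Fpf where
  N := Multiplicative ((ZMod 3 × ZMod 3) × ZMod 3 × ZMod 3)
  cg := inferInstance
  fin := inferInstance
  q := 81
  hq := by simp
  r := 3
  hr := Nat.prime_three
  hexp := by decide +kernel
  d := 10
  nz := inferInstance
  u := mkAut (fun a : (ZMod 3 × ZMod 3) × ZMod 3 × ZMod 3 =>
    ((-a.2.2, a.1.1 + a.2.2), (a.1.2 - a.2.2, a.2.1 + a.2.2))) 9
    (by decide +kernel) (by decide +kernel)
  hu := by decide +kernel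
  hfix := fun k hk h0 a ha =>
    (by decide +kernel : ∀ k : Fin 10, ∀ a : Multiplicative ((ZMod 3 × ZMod 3) × ZMod 3 × ZMod 3), (k : ℕ) ≠ 0 →
      (⇑(mkAut (fun a : (ZMod 3 × ZMod 3) × ZMod 3 × ZMod 3 =>
    ((-a.2.2, a.1.1 + a.2.2), (a.1.2 - a.2.2, a.2.1 + a.2.2))) 9
    (by decide +kernel) (by decide +kernel) : MulAut (Multiplicative ((ZMod 3 × ZMod 3) × ZMod 3 × ZMod 3))))^[(k : ℕ)] a = a → a = 1) ⟨k, hk⟩ a h0 ha

/-- Extraspecial group of order 27 and exponent 3. -/
structure P27 : Type where
  x : ZMod 3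
  y : ZMod 3
  z : ZMod 3
deriving DecidableEq

/-- Coordinates on `P27`. -/
def p27Equiv : P27 ≃ ZMod 3 × ZMod 3 × ZMod 3 where
  toFun g := (g.x, g.y, g.z)
  invFun t := ⟨t.1, t.2.1, t.2.2⟩
  left_inv _ := rfl
  right_inv _ := rfl

instance p27Fintype : Fintype P27 := Fintype.ofEquiv _ p27Equiv.symm
instance p27Mul : Mul P27 := ⟨fun a b => ⟨a.x + b.x, a.y + b.y, a.z + b.z + a.x * b.y⟩⟩
instance p27One : One P27 := ⟨⟨0, 0, 0⟩⟩
instance p27Inv : Inv P27 := ⟨fun a => ⟨-a.x, -a.y, -a.z + a.x * a.y⟩⟩

theorem p27Ext {a b : P27} (h1 : a.x = b.x) (h2 : a.y = b.y) (h3 : a.z = b.z) : a = b := by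
  cases a; cases b; simp_all

theorem p27_mul_x (a b : P27) : (a * b).x = a.x + b.x := rfl
theorem p27_mul_y (a b : P27) : (a * b).y = a.y + b.y := rfl
theorem p27_mul_z (a b : P27) : (a * b).z = a.z + b.z + a.x * b.y := rfl

instance p27Group : Group P27 :=
  Group.ofLeftAxioms
    (fun a b c => p27Ext (add_assoc _ _ _) (add_assoc _ _ _)
      (by simp only [p27_mul_x, p27_mul_y, p27_mul_z]; ring))
    (fun a => by revert a; decide +kernel)
    (fun a => by revert a; decide +kernel)

/-- The four group. -/
abbrev V4 : Type := Multiplicative (ZMod 2 × ZMod 2)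

theorem u4_pow : u4 ^ 3 = 1 := MulEquiv.ext fun a => by
  rw [mulAut_pow_apply]
  exact w4.hu a

/-- The powers of `u4`. -/
def w : Multiplicative (ZMod 3) →* MulAut V4 := powHom u4 u4_pow

/-- The monomial action of `P27` on three copies of the four group. -/
def mono (g : P27) (f : ZMod 3 → V4) : ZMod 3 → V4 :=
  fun t => w (Multiplicative.ofAdd (g.z + t * g.y)) (f (t + g.x))

theorem mono_mul (g g' : P27) (f : ZMod 3 → V4) : mono (g * g') f = mono g (mono g' f) := by
  funext t
  simp only [mono, ← MulAut.mul_apply, ← map_mul, ← ofAdd_add, p27_mul_x, p27_mul_y, p27_mul_z,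
    add_assoc]
  congr 2
  · ring_nf

theorem mono_one (f : ZMod 3 → V4) : mono 1 f = f := by
  funext t
  show w (Multiplicative.ofAdd ((0 : ZMod 3) + t * 0)) (f (t + 0)) = f t
  simp

/-- The monomial representation. -/
def monoHom : P27 →* MulAut (ZMod 3 → V4) :=
  MonoidHom.mk' (fun g =>
    { toFun := mono g
      invFun := mono g⁻¹
      left_inv := fun f => by rw [← mono_mul, inv_mul_cancel, mono_one]
      right_inv := fun f => by rw [← mono_mul, mul_inv_cancel, mono_one]
      map_mul' := fun f f' => funext fun t => by simp [mono] }) fun a b =>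
    MulEquiv.ext (mono_mul a b)

/-- Kernel sizes for the monomial representation, `h ^ 3 = 1`. -/
def faithC (h : P27) : ℕ := if h = 1 then 1 else if h.x = 0 ∧ h.y = 0 then 64 else 16

theorem faith_table : ∀ h : P27, Fintype.card {a : ZMod 3 → V4 //
    a * mono h a * mono h (mono h a) = 1} = faithC h := by
  decide +kernel

theorem p27_pow_three : ∀ h : P27, h ^ 3 = 1 := by decide +kernel

theorem v4_sq : ∀ a : V4, a ^ 2 = 1 := by decide

/-- The faithful block of `P27`. -/
def faith : Blk P27 where
  N := ZMod 3 → V4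
  cg := inferInstance
  fin := inferInstance
  φ := monoHom
  c := fun n h => if 2 ∣ n then 64 else faithC h
  q := 64
  hq := by simp
  hc := fun n h hn hh => by
    have key : ∀ m : ℕ, ∀ a : ZMod 3 → V4, a ^ m = if 2 ∣ m then 1 else a := by
      intro m a
      funext t
      rcases Nat.even_or_odd' m with ⟨j, rfl | rfl⟩
      · rw [if_pos (dvd_mul_right 2 j), Pi.pow_apply, pow_mul, v4_sq, one_pow, Pi.one_apply]
      · rw [if_neg (by omega), Pi.pow_apply, pow_succ, pow_mul, v4_sq, one_pow, one_mul]
    by_cases h3 : 3 ∣ n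
    · obtain ⟨m, rfl⟩ := h3
      have hg : ∀ a, geom monoHom h (3 * m) a =
          (a * mono h a * mono h (mono h a)) ^ m := by
        intro a
        rw [geom_mul_period _ _ _ _ (p27_pow_three h)]
        congr 1
        simp [geom, Finset.prod_range_succ, pow_succ, MulAut.mul_apply]
        rfl
      by_cases h2 : 2 ∣ m
      · rw [if_pos (dvd_mul_of_dvd_right h2 3)]
        rw [Nat.card_congr (Equiv.subtypeUnivEquiv fun a => by rw [hg, key, if_pos h2])]
        simp
      · rw [if_neg (fun hd => h2 ((Nat.Coprime.dvd_mul_left (by norm_num)).mp hd)), ← faith_table h,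
          Nat.card_eq_fintype_card]
        exact Fintype.card_congr (Equiv.subtypeEquivRight fun a => by rw [hg, key, if_neg h2])
    · have h1 : h = 1 := by
        have hc : Nat.Coprime n 3 := ((Nat.Prime.coprime_iff_not_dvd Nat.prime_three).mpr h3).symm
        have := orderOf_dvd_of_pow_eq_one hh
        have := orderOf_dvd_of_pow_eq_one (p27_pow_three h)
        exact orderOf_eq_one_iff.mp (Nat.eq_one_of_dvd_coprimes hc ‹_› ‹_›)
      subst h1
      have hg : ∀ a, geom monoHom (1 : P27) n a = a ^ n :=
        geom_of_trivial _ _ (map_one _) n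
      by_cases h2 : 2 ∣ n
      · rw [if_pos h2, Nat.card_congr (Equiv.subtypeUnivEquiv fun a => by rw [hg, key, if_pos h2])]
        simp
      · rw [if_neg h2, show faithC 1 = 1 from rfl, Nat.card_eq_one_iff_unique]
        refine ⟨⟨fun a b => Subtype.ext ?_⟩, ⟨⟨1, by rw [hg, one_pow]⟩⟩⟩
        have ha := a.2
        have hb := b.2
        rw [hg, key, if_neg h2] at ha hb
        rw [ha, hb]

/-- Cyclic groups and elementary abelian groups of rank 2. -/
abbrev C2 : Type := Multiplicative (ZMod 2)
abbrev C3 : Type := Multiplicative (ZMod 3)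
abbrev C10 : Type := Multiplicative (ZMod 10)
abbrev C15 : Type := Multiplicative (ZMod 15)
abbrev C22 : Type := Multiplicative (ZMod 2 × ZMod 2)
abbrev C33 : Type := Multiplicative (ZMod 3 × ZMod 3)

/-- A character given on exponents. -/
def chr {A : Type} [AddZeroClass A] {d : ℕ} (f : A →+ ZMod d) :
    Multiplicative A →* Multiplicative (ZMod d) :=
  AddMonoidHom.toMultiplicative f

def id2 : C2 →* Multiplicative (ZMod 2) := MonoidHom.id _
def id3 : C3 →* Multiplicative (ZMod 3) := MonoidHom.id _
def id10 : C10 →* Multiplicative (ZMod 10) := MonoidHom.id _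
def id15 : C15 →* Multiplicative (ZMod 15) := MonoidHom.id _
def p10_2 : C10 →* Multiplicative (ZMod 2) :=
  chr (ZMod.castHom (show 2 ∣ 10 by norm_num) (ZMod 2)).toAddMonoidHom
def p15_3 : C15 →* Multiplicative (ZMod 3) :=
  chr (ZMod.castHom (show 3 ∣ 15 by norm_num) (ZMod 3)).toAddMonoidHom
def fst2 : C22 →* Multiplicative (ZMod 2) := chr (AddMonoidHom.fst (ZMod 2) (ZMod 2))
def snd2 : C22 →* Multiplicative (ZMod 2) := chr (AddMonoidHom.snd (ZMod 2) (ZMod 2))
def sum2 : C22 →* Multiplicative (ZMod 2) :=
  chr (AddMonoidHom.fst (ZMod 2) (ZMod 2) + AddMonoidHom.snd (ZMod 2) (ZMod 2))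
def fst3 : C33 →* Multiplicative (ZMod 3) := chr (AddMonoidHom.fst (ZMod 3) (ZMod 3))
def sum3 : C33 →* Multiplicative (ZMod 3) :=
  chr (AddMonoidHom.fst (ZMod 3) (ZMod 3) + AddMonoidHom.snd (ZMod 3) (ZMod 3))
def dif3 : C33 →* Multiplicative (ZMod 3) :=
  chr (AddMonoidHom.fst (ZMod 3) (ZMod 3) - AddMonoidHom.snd (ZMod 3) (ZMod 3))
def px : P27 →* Multiplicative (ZMod 3) :=
  MonoidHom.mk' (fun g => Multiplicative.ofAdd g.x) fun _ _ => rfl
def py : P27 →* Multiplicative (ZMod 3) :=
  MonoidHom.mk' (fun g => Multiplicative.ofAdd g.y) fun _ _ => rfl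

theorem p27_solvable : Group.IsSolvable P27 := by
  have : Fact (Nat.Prime 3) := ⟨Nat.prime_three⟩
  have hp : IsPGroup 3 P27 := fun g => ⟨1, by rw [pow_one]; exact p27_pow_three g⟩
  have := hp.isNilpotent
  infer_instance

/-- Witnesses on the soluble side. -/
def negSide : List (Wit × ℕ) :=
  [(witOf (H := C3) (blks []) inferInstance (by decide +kernel) (by decide +kernel), 15),
   (witOf (H := C10) (blks [scal w81 rfl id10, scal n3 rfl p10_2]) inferInstance (by decide +kernel) (by decide +kernel), 2),
   (witOf (H := C2) (blks [scal n5 rfl id2]) inferInstance (by decide +kernel) (by decide +kernel), 2),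
   (witOf (H := C33) (blks [scal w4 rfl fst3, scal w4 rfl sum3, scal w4 rfl dif3]) inferInstance (by decide +kernel) (by decide +kernel), 2),
   (witOf (H := P27) (blks [scal w4 rfl px, faith, scal w25 rfl px]) p27_solvable (by decide +kernel) (by decide +kernel), 2),
   (witOf (H := C3) (blks [scal w4 rfl id3, scal w4 rfl id3, scal w4 rfl id3, scal w4 rfl id3]) inferInstance (by decide +kernel) (by decide +kernel), 6),
   (witOf (H := C3) (blks [scal w4 rfl id3, scal w4 rfl id3, scal w4 rfl id3, scal w25 rfl id3]) inferInstance (by decide +kernel) (by decide +kernel), 2),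
   (witOf (H := C33) (blks [scal w4 rfl dif3, scal w4 rfl dif3, scal w25 rfl sum3]) inferInstance (by decide +kernel) (by decide +kernel), 4),
   (witOf (H := P27) (blks [scal w4 rfl py, scal w4 rfl px, faith]) p27_solvable (by decide +kernel) (by decide +kernel), 1),
   (witOf (H := C2) (blks [scal n3 rfl id2, scal n3 rfl id2, scal n3 rfl id2, scal n3 rfl id2, scal n3 rfl id2, scal n5 rfl id2]) inferInstance (by decide +kernel) (by decide +kernel), 2),
   (witOf (H := C2) (blks [scal n3 rfl id2, scal n3 rfl id2]) inferInstance (by decide +kernel) (by decide +kernel), 2),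
   (witOf (H := C22) (blks [scal n3 rfl fst2, scal n3 rfl sum2, scal n5 rfl snd2, scal n5 rfl sum2, scal n5 rfl sum2]) inferInstance (by decide +kernel) (by decide +kernel), 2),
   (witOf (H := C2) (blks [scal n3 rfl id2]) inferInstance (by decide +kernel) (by decide +kernel), 8)]

/-- Witnesses on the insoluble side. -/
def posSide : List (Wit × ℕ) :=
  [(witOf (H := C2) (blks [scal n3 rfl id2, scal n5 rfl id2]) inferInstance (by decide +kernel) (by decide +kernel), 2),
   (witOf (H := C22) (blks [scal n3 rfl snd2, scal n3 rfl fst2, scal n3 rfl fst2, scal n3 rfl sum2, scal n3 rfl sum2, scal n3 rfl sum2]) inferInstance (by decide +kernel) (by decide +kernel), 2),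
   (witOf (H := C22) (blks [scal n3 rfl sum2, scal n3 rfl sum2, scal n3 rfl sum2, scal n5 rfl fst2]) inferInstance (by decide +kernel) (by decide +kernel), 2),
   (witOf (H := P27) (blks [scal w4 rfl px, faith]) p27_solvable (by decide +kernel) (by decide +kernel), 2),
   (witOf (H := C33) (blks [scal w4 rfl sum3, scal w4 rfl sum3, scal w4 rfl dif3, scal w4 rfl dif3, scal w4 rfl dif3, scal w4 rfl dif3, scal w25 rfl fst3, scal w25 rfl sum3]) inferInstance (by decide +kernel) (by decide +kernel), 2),
   (witOf (H := C3) (blks [scal w4 rfl id3, scal w4 rfl id3, scal w4 rfl id3]) inferInstance (by decide +kernel) (by decide +kernel), 2),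
   (witOf (H := P27) (blks [faith, scal w25 rfl px]) p27_solvable (by decide +kernel) (by decide +kernel), 4),
   (witOf (H := C15) (blks [scal w16 rfl id15, scal w4 rfl p15_3, scal w4 rfl p15_3]) inferInstance (by decide +kernel) (by decide +kernel), 2),
   (witOf (H := C33) (blks [scal w4 rfl dif3]) inferInstance (by decide +kernel) (by decide +kernel), 7),
   (witOf (H := C33) (blks [scal w4 rfl sum3, scal w4 rfl sum3, scal w4 rfl dif3, scal w4 rfl dif3]) inferInstance (by decide +kernel) (by decide +kernel), 1),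
   (witOf (H := C22) (blks [scal n3 rfl fst2, scal n3 rfl fst2, scal n3 rfl sum2, scal n3 rfl sum2, scal n3 rfl sum2, scal n3 rfl sum2, scal n3 rfl sum2]) inferInstance (by decide +kernel) (by decide +kernel), 2),
   (witOf (H := C2) (blks [scal n3 rfl id2, scal n5 rfl id2, scal n5 rfl id2]) inferInstance (by decide +kernel) (by decide +kernel), 2)]

/-- The counting function of the alternating group of degree 5. -/
def a5 (n : ℕ) : ℕ := Fintype.card {g : alternatingGroup (Fin 5) // g ^ n = 1}

theorem counts_eq : ∀ n ∈ Nat.divisors 30,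
    (witProd negSide).f n = a5 n * a5 n * (witProd posSide).f n := by
  decide +kernel

theorem a5_exp : ∀ g : alternatingGroup (Fin 5), g ^ 30 = 1 := by decide +kernel

theorem card_pow_prod {A B : Type} [Group A] [Group B] (n : ℕ) :
    Nat.card {x : A × B // x ^ n = 1} =
      Nat.card {a : A // a ^ n = 1} * Nat.card {b : B // b ^ n = 1} := by
  rw [← Nat.card_prod]
  exact Nat.card_congr ((Equiv.subtypeEquivRight fun x => by
    rw [Prod.ext_iff, Prod.pow_fst, Prod.pow_snd]; rfl).trans Equiv.subtypeProdEquivProd)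

theorem a5_not_solvable : ¬ Group.IsSolvable (alternatingGroup (Fin 5)) := fun h =>
  Equiv.Perm.not_isSolvable_fin_5 (solvable_of_ker_le_range (alternatingGroup (Fin 5)).subtype
    Equiv.Perm.sign (fun x hx => ⟨⟨x, hx⟩, rfl⟩))

theorem card_pow_gcd {G : Type} [Group G] (he : ∀ g : G, g ^ 30 = 1) (n : ℕ) :
    Nat.card {g : G // g ^ n = 1} = Nat.card {g : G // g ^ Nat.gcd n 30 = 1} := by
  refine Nat.card_congr (Equiv.subtypeEquivRight fun g => ?_)
  rw [← orderOf_dvd_iff_pow_eq_one, ← orderOf_dvd_iff_pow_eq_one, Nat.dvd_gcd_iff]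
  exact ⟨fun h => ⟨h, orderOf_dvd_of_pow_eq_one (he g)⟩, fun h => h.1⟩

/-- There are finite groups G and H having the same number of elements of each order (the same order type) with G solvable and H not solvable. -/
theorem result :
    ∃ (G : Type) (_ : Group G) (_ : Finite G) (H : Type) (_ : Group H) (_ : Finite H),
      Group.IsSolvable G ∧ ¬ Group.IsSolvable H ∧ ∀ n : ℕ, Nat.card {g : G // orderOf g = n} = Nat.card {h : H // orderOf h = n} := by
  let GW := witProd negSide
  let HW := witProd posSide
  letI := GW.grp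
  letI := HW.grp
  have hG := GW.fin
  have hH := HW.fin
  refine ⟨GW.G, GW.grp, GW.fin,
    (↥(alternatingGroup (Fin 5)) × ↥(alternatingGroup (Fin 5))) × HW.G, inferInstance, inferInstance,
    GW.solv, ?_, ?_⟩
  · intro hs
    have h1 : Group.IsSolvable (↥(alternatingGroup (Fin 5)) × ↥(alternatingGroup (Fin 5))) :=
      solvable_of_surjective (f := MonoidHom.fst _ HW.G) Prod.fst_surjective
    have h2 : Group.IsSolvable (alternatingGroup (Fin 5)) :=
      solvable_of_surjective (f := MonoidHom.fst _ (alternatingGroup (Fin 5))) Prod.fst_surjective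
    exact a5_not_solvable h2
  refine Cfsg.Agent.S4377.result.mpr fun n => ?_
  have hd : Nat.gcd n 30 ∣ 30 := Nat.gcd_dvd_right n 30
  rw [card_pow_gcd GW.hexp n, card_pow_gcd (fun g => Prod.ext (Prod.ext (a5_exp g.1.1) (a5_exp g.1.2))
    (HW.hexp g.2)) n, GW.hf _ hd, counts_eq _ (Nat.mem_divisors.mpr ⟨hd, by norm_num⟩),
    card_pow_prod, card_pow_prod, HW.hf _ hd, a5, ← Nat.card_eq_fintype_card]

end Cfsg.Agent.S4376
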