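import Cfsg.Statements.S4381
import Cfsg.Agent.Lib.Coprime.Action
import Cfsg.Agent.Lib.Coprime.AbelianMaschke
import Cfsg.Agent.Lib.PGroup.Frattini

set_option autoImplicit false
open Pointwise
open Cfsg

namespace Cfsg.Agent.S4381

variable {A G : Type*} [Group A] [Finite A] [Group G] [Finite G] [MulDistribMulAction A G]

variable (A) in
/-- Invariant under the action. -/
abbrev Inv (L : Subgroup G) : Prop := ∀ a : A, ∀ x ∈ L, a • x ∈ L

variable (A) in
/-- Maximal invariant. -/
abbrev MaxInv (M : Subgroup G) : Prop :=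
  M ≠ ⊤ ∧ Inv A M ∧ ∀ L : Subgroup G, M < L → Inv A L → L = ⊤

theorem exists_maxInv {L : Subgroup G} (hL : L ≠ ⊤) (hi : Inv A L) :
    ∃ M, MaxInv A M ∧ L ≤ M := by
  obtain ⟨M, hLM, hM⟩ := Finite.exists_le_maximal (p := fun K : Subgroup G => K ≠ ⊤ ∧ Inv A K)
    (a := L) ⟨hL, hi⟩
  refine ⟨M, ⟨hM.1.1, hM.1.2, fun K hK hKi => ?_⟩, hLM⟩
  by_contra hne
  exact hK.not_ge (hM.2 ⟨hne, hKi⟩ hK.le)

theorem inv_frattini : Inv A (frattini G) := fun a x hx =>
  (Subgroup.characteristic_iff_le_comap.mp (inferInstance : (frattini G).Characteristic)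
    (MulDistribMulAction.toMulEquiv G a)) hx

theorem frattini_le_maxInv {M : Subgroup G} (hM : MaxInv A M) : frattini G ≤ M := by
  by_contra hle
  have hlt : M < M ⊔ frattini G := left_lt_sup.mpr hle
  have hi : Inv A (M ⊔ frattini G) := by
    intro a x hx
    obtain ⟨y, hy, z, hz, rfl⟩ := Subgroup.mem_sup_of_normal_right.mp hx
    rw [smul_mul']
    exact Subgroup.mul_mem_sup (hM.2.1 a y hy) (inv_frattini a z hz)
  exact hM.1 (frattini_nongenerating (hM.2.2 _ hlt hi))

theorem right_of_left (hcop : (Nat.card A).Coprime (Nat.card G))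
    (hsol : Group.IsSolvable A ∨ Group.IsSolvable G)
    (h : ∀ M N : Subgroup G, MaxInv A M → MaxInv A N →
        ∃ c : G, (∀ a : A, a • c = c) ∧ N = MulAut.conj c • M) :
    (∃ p : ℕ, p.Prime ∧ IsPGroup p G) ∧
      ∀ L : Subgroup G, frattini G < L → Inv A L → L = ⊤ := by
  classical
  rcases subsingleton_or_nontrivial G with hs | hs
  · exact ⟨⟨2, Nat.prime_two, fun g => ⟨0, Subsingleton.elim _ _⟩⟩,
      fun L _ _ => Subsingleton.elim _ _⟩
  obtain ⟨M₀, hM₀, -⟩ := exists_maxInv (A := A) (G := G) (L := ⊥) bot_ne_top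
    (fun a x hx => by rw [Subgroup.mem_bot] at hx ⊢; rw [hx, smul_one])
  have hcard : ∀ N : Subgroup G, MaxInv A N → Nat.card N = Nat.card M₀ := by
    intro N hN
    obtain ⟨c, -, rfl⟩ := h M₀ N hM₀ hN
    exact Coprime.card_conj_smul c M₀
  obtain ⟨p, hp, hpG⟩ : ∃ p : ℕ, p.Prime ∧ IsPGroup p G := by
    by_contra hc
    apply hM₀.1
    apply Subgroup.eq_top_of_card_eq
    refine Nat.dvd_antisymm (Subgroup.card_subgroup_dvd_card _) ?_
    refine (Nat.dvd_iff_prime_pow_dvd_dvd _ _).mpr fun q k hq hk => ?_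
    have := Fact.mk hq
    obtain ⟨P, hP⟩ := Coprime.exists_invariant_sylow_hom
      (MulDistribMulAction.toMulAut A G) hcop hsol q
    have hPne : (P : Subgroup G) ≠ ⊤ := fun he =>
      hc ⟨q, hq, fun g => by
        obtain ⟨i, hi⟩ := P.2 (⟨g, he.symm.le (Subgroup.mem_top g)⟩ : (P : Subgroup G))
        exact ⟨i, congrArg Subtype.val hi⟩⟩
    obtain ⟨N, hN, hPN⟩ := exists_maxInv hPne hP
    rw [← hcard N hN]
    exact (P.pow_dvd_card_of_pow_dvd_card hk).trans (Subgroup.card_dvd_of_le hPN)
  refine ⟨⟨p, hp, hpG⟩, ?_⟩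
  have := Fact.mk hp
  have hnormal : ∀ M : Subgroup G, frattini G ≤ M → M.Normal := fun M hM =>
    Subgroup.Normal.of_commutator_le G ((PGroup.commutator_le_frattini hpG).trans hM)
  have huniq : ∀ N : Subgroup G, MaxInv A N → N = M₀ := by
    intro N hN
    obtain ⟨c, -, rfl⟩ := h M₀ N hM₀ hN
    have := hnormal M₀ (frattini_le_maxInv hM₀)
    exact Subgroup.Normal.conj_smul_eq_self c M₀
  -- the unique maximal invariant subgroup is the Frattini subgroup
  have hM₀eq : M₀ = frattini G := by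
    let _ : CommGroup (G ⧸ frattini G) :=
      { (inferInstance : Group (G ⧸ frattini G)) with
        mul_comm := ((inferInstance : (frattini G).Normal).quotient_commutative_iff_commutator_le.mpr
          (PGroup.commutator_le_frattini hpG)).is_comm.comm }
    let φ : A →* MulAut (G ⧸ frattini G) := MonoidHom.mk'
      (fun a => QuotientGroup.congr (frattini G) (frattini G) (MulDistribMulAction.toMulEquiv G a)
        (Subgroup.characteristic_iff_map_eq.mp inferInstance _))
      (fun a b => MulEquiv.ext fun q => by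
        obtain ⟨g, rfl⟩ := QuotientGroup.mk_surjective q
        exact congrArg QuotientGroup.mk (mul_smul a b g))
    have hX : (Nat.card φ.range).Coprime p := by
      refine Nat.Coprime.coprime_dvd_left (Subgroup.card_range_dvd φ) ?_
      refine Nat.Coprime.coprime_dvd_right ?_ hcop
      obtain ⟨n, hn⟩ := IsPGroup.iff_card.mp hpG
      rcases n with _ | n
      · rw [pow_zero] at hn
        exact absurd hn Finite.one_lt_card.ne'
      · exact ⟨p ^ n, by rw [hn]; ring⟩
    have hφ : ∀ (a : A) (g : G), φ a (QuotientGroup.mk' _ g) = QuotientGroup.mk' _ (a • g) :=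
      fun a g => rfl
    obtain ⟨D, -, hDi, hD1, hD2⟩ := Coprime.exists_invariant_compl_elementary φ.range hX
      (C := ⊥) (S := M₀.map (QuotientGroup.mk' _)) (T := ⊤) bot_le le_top
      (fun t _ => by
        obtain ⟨g, rfl⟩ := QuotientGroup.mk_surjective t
        rw [Subgroup.mem_bot, ← QuotientGroup.mk_pow, QuotientGroup.eq_one_iff]
        exact PGroup.pow_mem_frattini hpG g)
      (fun x _ a ha => by rw [Subgroup.mem_bot] at ha ⊢; rw [ha, map_one])
      (by
        rintro _ ⟨a, rfl⟩ _ ⟨g, hg, rfl⟩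
        rw [hφ]
        exact Subgroup.mem_map_of_mem _ (hM₀.2.1 a g hg))
      (fun _ _ _ _ => Subgroup.mem_top _)
    have hker : (QuotientGroup.mk' (frattini G)).ker ≤ M₀ := by
      rw [QuotientGroup.ker_mk']; exact frattini_le_maxInv hM₀
    have hi : Inv A (D.comap (QuotientGroup.mk' _)) := by
      intro a x hx
      rw [Subgroup.mem_comap, ← hφ]
      exact hDi _ ⟨a, rfl⟩ _ hx
    by_cases hDtop : D.comap (QuotientGroup.mk' (frattini G)) = ⊤
    · have hD' : D = ⊤ := by
        rw [← Subgroup.map_comap_eq_self_of_surjective (QuotientGroup.mk'_surjective _) D, hDtop,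
          Subgroup.map_top_of_surjective _ (QuotientGroup.mk'_surjective _)]
      rw [hD', top_inf_eq] at hD1
      refine le_antisymm ?_ (frattini_le_maxInv hM₀)
      rw [← QuotientGroup.ker_mk' (frattini G)]
      exact (Subgroup.map_eq_bot_iff _).mp hD1
    · exfalso
      obtain ⟨N, hN, hDN⟩ := exists_maxInv hDtop hi
      rw [huniq N hN] at hDN
      have hle : D ≤ M₀.map (QuotientGroup.mk' _) := by
        rw [← Subgroup.map_comap_eq_self_of_surjective (QuotientGroup.mk'_surjective _) D]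
        exact Subgroup.map_mono hDN
      apply hM₀.1
      rw [sup_eq_right.mpr hle] at hD2
      rw [← Subgroup.comap_map_eq_self hker, hD2, Subgroup.comap_top]
  intro L hL hLi
  by_contra hne
  obtain ⟨N, hN, hLN⟩ := exists_maxInv hne hLi
  rw [huniq N hN, hM₀eq] at hLN
  exact hL.not_ge hLN

/-- Let the finite group A act by automorphisms on the finite group G with the orders of A and G coprime, and assume that A or G is solvable. Call a proper A-invariant subgroup of G maximal A-invariant when no A-invariant subgroup lies strictly between it and G. Then all maximal A-invariant subgroups of G are conjugate under elements of the fixed-point subgroup C_G(A) if and only if G is a p-group for some prime p and A leaves invariant no subgroup strictly between the Frattini subgroup of G and G. In that case, if G is nontrivial, the Frattini subgroup is the only maximal A-invariant subgroup (a trivial G has none). -/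
theorem result {A G : Type*} [Group A] [Finite A]
    [Group G] [Finite G] [MulDistribMulAction A G] (hcop : (Nat.card A).Coprime (Nat.card G)) (hsol : Group.IsSolvable A ∨ Group.IsSolvable G) :
    ((∀ M N : Subgroup G, (M ≠ ⊤ ∧ (∀ a : A, ∀ x ∈ M, a • x ∈ M) ∧ ∀ L : Subgroup G, M < L → (∀ a : A, ∀ x ∈ L, a • x ∈ L) → L = ⊤) → (N ≠ ⊤ ∧ (∀ a : A, ∀ x ∈ N, a • x ∈ N) ∧ ∀ L : Subgroup G, N < L → (∀ a : A, ∀ x ∈ L, a • x ∈ L) → L = ⊤) →
        ∃ c : G, (∀ a : A, a • c = c) ∧ N = MulAut.conj c • M) ↔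
      ((∃ p : ℕ, p.Prime ∧ IsPGroup p G) ∧ ∀ L : Subgroup G, frattini G < L → (∀ a : A, ∀ x ∈ L, a • x ∈ L) → L = ⊤)) ∧
    (((∃ p : ℕ, p.Prime ∧ IsPGroup p G) ∧ ∀ L : Subgroup G, frattini G < L → (∀ a : A, ∀ x ∈ L, a • x ∈ L) → L = ⊤) →
      ∀ M : Subgroup G, (M ≠ ⊤ ∧ (∀ a : A, ∀ x ∈ M, a • x ∈ M) ∧ ∀ L : Subgroup G, M < L → (∀ a : A, ∀ x ∈ L, a • x ∈ L) → L = ⊤) ↔ (M = frattini G ∧ M ≠ ⊤)) := by
  have hmax : ∀ M : Subgroup G, (∀ L : Subgroup G, frattini G < L → Inv A L → L = ⊤) → MaxInv A M →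
      M = frattini G := by
    intro M hR hM
    rcases eq_or_lt_of_le (frattini_le_maxInv hM) with h | h
    · exact h.symm
    · exact absurd (hR M h hM.2.1) hM.1
  refine ⟨⟨right_of_left hcop hsol, fun hR M N hM hN => ⟨1, fun a => smul_one a, ?_⟩⟩, ?_⟩
  · rw [hmax M hR.2 hM, hmax N hR.2 hN, map_one, one_smul]
  · intro hR M
    constructor
    · exact fun hM => ⟨hmax M hR.2 hM, hM.1⟩
    · rintro ⟨rfl, hne⟩
      exact ⟨hne, inv_frattini, hR.2⟩

end Cfsg.Agent.S4381
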