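import Cfsg.Statements.S4385
import Cfsg.Agent.S2772
-- import your own Cfsg.Agent.* helpers here

set_option autoImplicit false
open Pointwise
open Cfsg

namespace Cfsg.Agent.S4385

open Subgroup Cfsg.Agent.Sims

theorem sq_zmodTwo (w : Multiplicative (ZMod 2) × Multiplicative (ZMod 2)) : w ^ 2 = 1 := by
  revert w; decide

section quotient

variable {H : Type*} [Group H] [Finite H]

theorem mem_of_pow_odd {K : Subgroup H} {x : H} {m : ℕ} (hm : Odd m) (h : x ^ m = 1)
    (h2 : x ^ 2 ∈ K) : x ∈ K := by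
  obtain ⟨r, rfl⟩ := hm
  rw [pow_succ, pow_mul] at h
  have : x = ((x ^ 2) ^ r)⁻¹ := eq_inv_of_mul_eq_one_right h
  rw [this]
  exact inv_mem (pow_mem h2 r)

theorem dihedral_odd {n : ℕ} (hn : 2 ≤ n) {Q : Subgroup H} [Q.Normal] (hQ : IsPGroup 2 Q)
    (hmax : ∀ K : Subgroup H, K.Normal → IsPGroup 2 K → K ≤ Q)
    (π : H →* DihedralGroup n) (hπ : Function.Surjective π) (hker : π.ker = Q) : Odd n := by
  by_contra h
  obtain ⟨m, hm⟩ := Nat.not_odd_iff_even.1 h
  haveI : NeZero n := ⟨by omega⟩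
  haveI : Fact (Nat.Prime 2) := ⟨Nat.prime_two⟩
  have hm0 : ((m : ℕ) : ZMod n) ≠ 0 := fun h0 =>
    absurd (Nat.le_of_dvd (by omega) ((ZMod.natCast_eq_zero_iff _ _).1 h0)) (by omega)
  have hneg : -((m : ℕ) : ZMod n) = (m : ZMod n) := by
    rw [neg_eq_iff_add_eq_zero, ← Nat.cast_add, ← hm, ZMod.natCast_self]
  set z : DihedralGroup n := DihedralGroup.r (m : ZMod n) with hz
  have hz2 : z ^ 2 = 1 := by
    rw [pow_two, hz, DihedralGroup.r_mul_r, ← Nat.cast_add, ← hm, ZMod.natCast_self]; rfl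
  have hzc : ∀ d : DihedralGroup n, Commute d z := by
    intro d
    rw [commute_iff_eq, hz]
    cases d with
    | r i => rw [DihedralGroup.r_mul_r, DihedralGroup.r_mul_r, add_comm]
    | sr i => rw [DihedralGroup.sr_mul_r, DihedralGroup.r_mul_sr, sub_eq_add_neg, hneg]
  haveI hN : (zpowers z).Normal := ⟨fun v hv d => by
    obtain ⟨j, rfl⟩ := mem_zpowers_iff.1 hv
    rw [((hzc d).zpow_right j).eq, mul_inv_cancel_right]
    exact zpow_mem (mem_zpowers z) j⟩
  have hp : IsPGroup 2 ↥((zpowers z).comap π) := by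
    refine IsPGroup.comap_of_ker_isPGroup ?_ π (hker.symm ▸ hQ)
    refine IsPGroup.of_card (n := 1) ?_
    rw [Nat.card_zpowers, pow_one]
    exact orderOf_eq_prime hz2 fun h1 => hm0 (DihedralGroup.r.inj h1)
  obtain ⟨w, hw⟩ := hπ z
  have := hmax _ (hN.comap π) hp (show w ∈ (zpowers z).comap π from
    mem_comap.2 (hw.symm ▸ mem_zpowers z))
  rw [← hker, MonoidHom.mem_ker, hw] at this
  exact hm0 (DihedralGroup.r.inj this)

theorem card_oddCore_mul {Q C : Subgroup H} [Q.Normal] [C.Normal] (hQ : IsPGroup 2 Q) (hQC : Q ≤ C)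
    (hC : C ≤ centralizer (Q : Set H)) (hodd : Odd (Q.relIndex C))
    (hOC : Cfsg.oddCore H ≤ C) : Nat.card (Cfsg.oddCore H) * Nat.card Q = Nat.card C := by
  haveI : Fact (Nat.Prime 2) := ⟨Nat.prime_two⟩
  obtain ⟨a, ha⟩ := IsPGroup.iff_card.mp hQ
  have hcop : Nat.Coprime (Nat.card (Q.subgroupOf C)) (Q.subgroupOf C).index := by
    rw [S2772.card_subgroupOf' hQC, ha]
    exact Nat.Coprime.pow_left _ (Nat.coprime_two_left.2 hodd)
  obtain ⟨K, hK⟩ := exists_right_complement'_of_coprime hcop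
  haveI : K.Normal := by
    refine ⟨fun v hv d => ?_⟩
    obtain ⟨⟨q, k'⟩, hd⟩ := (hK.existsUnique d).exists
    obtain ⟨q', hq'⟩ := q
    obtain ⟨k, hk⟩ := k'
    simp only at hd
    have hc : ∀ u : C, Commute q' u := fun u =>
      Subtype.ext (mem_centralizer_iff.1 (hC u.2) (q' : C) (mem_subgroupOf.1 hq'))
    have e : d * v * d⁻¹ = q' * (k * v * k⁻¹) * q'⁻¹ := by rw [← hd]; group
    rw [e, (hc _).eq, mul_inv_cancel_right]
    exact mul_mem (mul_mem hk hv) (inv_mem hk)
  have hKc : Nat.card K = Q.relIndex C := hK.symm.index_eq_card.symm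
  have hKO : K ≤ Cfsg.pPrimeCore 2 C :=
    PCore.le_pPrimeCore (by rw [hKc]; exact Nat.coprime_two_right.2 hodd)
  have h1 : Nat.card K ∣ Nat.card (Cfsg.oddCore H) := by
    have h := card_dvd_of_le hKO
    rw [PCore.pPrimeCore_normal_subgroup_eq C, S2772.card_subgroupOf' hOC] at h
    exact h
  have h2 : Nat.card (Cfsg.oddCore H) ∣ Nat.card K := by
    have hc := (PCore.coprime_card_pPrimeCore (G := H) (p := 2))
    refine (Nat.Coprime.pow_right a hc).dvd_of_dvd_mul_left ?_
    have hm := hK.card_mul_card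
    rw [S2772.card_subgroupOf' hQC, ha] at hm
    rw [hm]
    exact card_dvd_of_le hOC
  rw [← Nat.dvd_antisymm h1 h2, ← hK.card_mul_card, S2772.card_subgroupOf' hQC, mul_comm]

theorem four_case {n : ℕ} (hn : Odd n) {Q P : Subgroup H} [Q.Normal] (hQ : IsPGroup 2 Q)
    (π : H →* DihedralGroup n) (hker : π.ker = Q)
    (hcardH : Nat.card H = 2 * n * Nat.card Q) (hQc : ∀ v ∈ Q, ∀ u : H, Commute u v)
    (hπ : Function.Surjective π)
    (hP : Nat.card P = 4) (hQ2 : Nat.card Q = 2) (hsq : ∀ v ∈ P, v * v = 1) :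
    Nonempty (H ⧸ Cfsg.oddCore H ≃* Multiplicative (ZMod 2) × Multiplicative (ZMod 2)) := by
  haveI : Fact (Nat.Prime 2) := ⟨Nat.prime_two⟩
  haveI : NeZero n := ⟨by rintro rfl; exact absurd hn (by decide)⟩
  set R := (zpowers (DihedralGroup.r (1 : ZMod n))).comap π with hR
  have hRi : R.index = 2 := by
    rw [hR, index_comap_of_surjective _ hπ]
    have := card_mul_index (zpowers (DihedralGroup.r (1 : ZMod n)))
    rw [Nat.card_zpowers, DihedralGroup.orderOf_r_one, DihedralGroup.nat_card, mul_comm 2 n] at this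
    exact Nat.eq_of_mul_eq_mul_left (NeZero.pos n) this
  haveI : R.Normal := normal_of_index_eq_two hRi
  have hQR : Q ≤ R := fun v hv => mem_comap.2 (by
    rw [MonoidHom.mem_ker.1 (hker.ge hv)]; exact one_mem _)
  have hidx : Q.relIndex R = n := by
    have h1 := Sims.card_mul_relIndex hQR
    have h2 := card_mul_index R
    rw [hRi, hcardH, ← h1, hQ2] at h2
    omega
  have hO := card_oddCore_mul hQ hQR
    (fun u _ => mem_centralizer_iff.2 fun v hv => (hQc v hv u).eq.symm) (hidx ▸ hn) (by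
      intro x hx
      have hodd : Odd (Nat.card (Cfsg.oddCore H)) :=
        Nat.coprime_two_right.1 PCore.coprime_card_pPrimeCore
      refine mem_of_pow_odd hodd (congrArg Subtype.val (pow_card_eq_one' (x := ⟨x, hx⟩))) ?_
      exact sq_mem_of_index_two hRi x)
  have h1 := Sims.card_mul_relIndex hQR
  rw [hidx] at h1
  rw [← h1, hQ2, mul_comm 2 n] at hO
  have hOn : Nat.card (Cfsg.oddCore H) = n := Nat.eq_of_mul_eq_mul_right (by norm_num) hO
  have hquot : Nat.card (H ⧸ Cfsg.oddCore H) = 4 := by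
    have h := card_mul_index (Cfsg.oddCore H)
    rw [hcardH, hQ2, hOn] at h
    exact Nat.eq_of_mul_eq_mul_left (NeZero.pos n) (h.trans (by ring))
  have hinj : Function.Injective ((QuotientGroup.mk' (Cfsg.oddCore H)).comp P.subtype) := by
    rw [← MonoidHom.ker_eq_bot_iff, eq_bot_iff]
    intro v hv
    have hd := PCore.disjoint_of_isPGroup_of_coprime
      (IsPGroup.of_card (p := 2) (n := 2) hP) (PCore.coprime_card_pPrimeCore (G := H) (p := 2))
    have : (v : H) = 1 := disjoint_def.1 hd v.2 ((QuotientGroup.eq_one_iff _).1 hv)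
    exact Subtype.ext this
  have hbij := (Nat.bijective_iff_injective_and_card _).2 ⟨hinj, hP.trans hquot.symm⟩
  haveI : Nontrivial (H ⧸ Cfsg.oddCore H) :=
    Finite.one_lt_card_iff_nontrivial.1 (by omega)
  haveI : IsKleinFour (H ⧸ Cfsg.oddCore H) := by
    refine ⟨hquot, (Monoid.exponent_eq_prime_iff Nat.prime_two).2 fun u hu => ?_⟩
    obtain ⟨v, rfl⟩ := hbij.2 u
    refine orderOf_eq_prime ?_ hu
    rw [← map_pow, pow_two, show v * v = 1 from Subtype.ext (hsq v v.2), map_one]
  haveI : IsKleinFour (Multiplicative (ZMod 2) × Multiplicative (ZMod 2)) := by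
    refine ⟨by simp, (Monoid.exponent_eq_prime_iff Nat.prime_two).2 fun u hu => ?_⟩
    refine orderOf_eq_prime ?_ hu
    exact sq_zmodTwo u
  exact IsKleinFour.nonempty_mulEquiv

theorem index_centralizer {n : ℕ} (hn : Odd n) {Q P : Subgroup H} [Q.Normal]
    (π : H →* DihedralGroup n) (hπ : Function.Surjective π) (hker : π.ker = Q)
    (hsq : ∀ v ∈ Q, v * v = 1) (hcomm : ∀ u ∈ Q, ∀ v ∈ Q, Commute u v)
    {z : H} (hzQ : z ∈ Q) (hzc : ∀ y, Commute z y) (hz4 : Nat.card Q = 4 * Nat.card (zpowers z))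
    {a b : H} (ha : a ∈ P) (haQ : a * a = 1) (hb : b * b = 1) {v : H} (hv : v ∈ Q)
    (hav : Commute a v) (hbv : ¬ Commute b v) (hanc : ¬ ∀ u ∈ Q, Commute a u) :
    (centralizer (Q : Set H)).index = 6 := by
  haveI : NeZero n := ⟨by rintro rfl; exact absurd hn (by decide)⟩
  set C := centralizer (Q : Set H) with hC
  haveI hCn : C.Normal := by rw [hC]; infer_instance
  have hQC : Q ≤ C := fun u hu => mem_centralizer_iff.2 fun w hw => (hcomm w hw u hu).eq
  have hd : C.index ∣ 2 * n := by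
    have h := index_dvd_of_le hQC
    rwa [← hker, index_ker, MonoidHom.range_eq_top.2 hπ, card_top, DihedralGroup.nat_card] at h
  have hC1 : C.index ≠ 1 := fun h => hanc fun u hu => by
    rw [index_eq_one] at h
    exact (mem_centralizer_iff.1 (h.symm ▸ mem_top a : a ∈ C) u hu).symm
  have hC2 : C.index ≠ 2 := by
    intro h
    have hbC : b ∉ C := fun hh => hbv (mem_centralizer_iff.1 hh v hv).symm
    have haC : a ∉ C := fun hh => hanc fun u hu => (mem_centralizer_iff.1 hh u hu).symm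
    have hab : a * b ∈ C := (mul_mem_iff_of_index_two h).2 (iff_of_false haC hbC)
    have h2 : Commute (a * b) v := (mem_centralizer_iff.1 hab v hv).symm
    apply hbv
    have h3 := hav.mul_left h2
    rwa [← mul_assoc, haQ, one_mul] at h3
  -- odd elements act with order dividing 3
  obtain ⟨ρ, hρ⟩ := hπ (DihedralGroup.r 1)
  let Z := zpowers z
  haveI : Z.Normal := ⟨fun u hu d => by
    obtain ⟨j, rfl⟩ := mem_zpowers_iff.1 hu
    rw [(((hzc d).symm).zpow_right j).eq, mul_inv_cancel_right]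
    exact zpow_mem (mem_zpowers z) j⟩
  haveI : (Q.map (QuotientGroup.mk' Z)).Normal :=
    Normal.map inferInstance _ (QuotientGroup.mk'_surjective Z)
  have hQb : Nat.card (Q.map (QuotientGroup.mk' Z)) = 4 := by
    have h := relIndex_map_map (QuotientGroup.mk' Z) ⊥ Q
    rw [Subgroup.map_bot, relIndex_bot_left, QuotientGroup.ker_mk', bot_sup_eq,
      sup_eq_left.2 (zpowers_le.2 hzQ)] at h
    rw [h]
    have h2 := Sims.card_mul_relIndex (zpowers_le.2 hzQ)
    rw [hz4, mul_comm 4] at h2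
    exact Nat.eq_of_mul_eq_mul_left Nat.card_pos h2
  let Φ : H →* Equiv.Perm ↥(Q.map (QuotientGroup.mk' Z)) :=
    ((MulAut.toPerm _).comp (MulAut.conjNormal.comp (QuotientGroup.mk' Z)))
  have hΦ : ∀ y : H, Odd (orderOf y) → Φ y = 1 → y ∈ C := by
    intro y hy hy1
    refine mem_centralizer_iff.2 fun u hu => ?_
    have h1 := congrArg Subtype.val
      (congrFun (congrArg (DFunLike.coe (F := Equiv.Perm ↥(Q.map (QuotientGroup.mk' Z)))) hy1)
        ⟨_, mem_map_of_mem _ hu⟩)
    change (QuotientGroup.mk' Z) y * QuotientGroup.mk' Z u * ((QuotientGroup.mk' Z) y)⁻¹ =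
      QuotientGroup.mk' Z u at h1
    rw [← map_mul, ← map_inv, ← map_mul] at h1
    have hw : u⁻¹ * (y * u * y⁻¹) ∈ Z := QuotientGroup.eq.1 h1.symm
    set w := u⁻¹ * (y * u * y⁻¹) with hwdef
    have hwy : y * w * y⁻¹ = w := by
      obtain ⟨j, hj⟩ := mem_zpowers_iff.1 hw
      rw [← hj, (((hzc y).symm).zpow_right j).eq, mul_inv_cancel_right]
    have hpow : ∀ m : ℕ, y ^ m * u * (y ^ m)⁻¹ = u * w ^ m := by
      intro m
      induction m with
      | zero => simp
      | succ m ih =>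
        have hwm : y * w ^ m * y⁻¹ = w ^ m := by rw [← conj_pow, hwy]
        calc y ^ (m + 1) * u * (y ^ (m + 1))⁻¹ = y * (y ^ m * u * (y ^ m)⁻¹) * y⁻¹ := by
              rw [pow_succ', mul_inv_rev]; simp only [mul_assoc]
          _ = (y * u * y⁻¹) * (y * w ^ m * y⁻¹) := by rw [ih]; group
          _ = u * w ^ (m + 1) := by rw [hwm, pow_succ', ← mul_assoc u w, hwdef, mul_inv_cancel_left]
    have h2 := hpow (orderOf y)
    simp only [pow_orderOf_eq_one, inv_one, mul_one, one_mul, left_eq_mul] at h2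
    have h3 : w = 1 := Sims.eq_one_of_sq_odd (hsq w (zpowers_le.2 hzQ hw)) hy h2
    rw [hwdef, inv_mul_eq_one] at h3
    exact (mul_inv_eq_iff_eq_mul.1 h3.symm).symm
  have hcube : ∀ y : H, Odd (orderOf y) → y ^ 3 ∈ C := by
    intro y hy
    have hord : orderOf (Φ y) ∣ 24 := by
      have h := orderOf_dvd_natCard (Φ y)
      rwa [Nat.card_perm, hQb, show Nat.factorial 4 = 24 from rfl] at h
    have hord' : orderOf (Φ y) ∣ orderOf y := orderOf_map_dvd Φ y
    have h3 : orderOf (Φ y) ∣ 3 := by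
      refine Nat.Coprime.dvd_of_dvd_mul_left (m := 8) ?_ (by simpa using hord)
      exact (Nat.Coprime.pow_right 3 (Nat.coprime_two_right.2 (hy.of_dvd_nat hord')))
    refine hΦ _ (hy.of_dvd_nat (orderOf_pow_dvd 3)) ?_
    rw [map_pow]
    exact orderOf_dvd_iff_pow_eq_one.1 h3
  -- replace `ρ` by an element of odd order
  obtain ⟨s, t, ht, hst⟩ := Nat.exists_eq_two_pow_mul_odd (orderOf_pos ρ).ne'
  set ρ' := ρ ^ (2 ^ s) with hρ'
  have hρo : Odd (orderOf ρ') := by
    refine ht.of_dvd_nat (orderOf_dvd_of_pow_eq_one ?_)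
    rw [hρ', ← pow_mul, ← hst, pow_orderOf_eq_one]
  obtain ⟨j, hj⟩ : ∃ j : ℕ, (DihedralGroup.r (1 : ZMod n) ^ (2 ^ s)) ^ j = DihedralGroup.r 1 := by
    obtain ⟨j, hj⟩ := exists_pow_eq_self_of_coprime (x := DihedralGroup.r (1 : ZMod n))
      (n := 2 ^ s) (by rw [DihedralGroup.orderOf_r_one]; exact Nat.Coprime.pow_left _ (Nat.coprime_two_left.2 hn))
    exact ⟨j, hj⟩
  have h3C : ρ ^ 3 ∈ C := by
    have h1 : (ρ' ^ j) ^ 3 ∈ C := by
      rw [← pow_mul, mul_comm, pow_mul]; exact pow_mem (hcube ρ' hρo) j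
    have h2 : (ρ' ^ j) ^ 3 * (ρ ^ 3)⁻¹ ∈ Q := by
      simp only [← hker, MonoidHom.mem_ker, map_mul, map_inv, map_pow, hρ', hρ, hj, mul_inv_cancel]
    have h4 := mul_mem (inv_mem (hQC h2)) h1
    simpa [mul_assoc] using h4
  obtain ⟨σ, hσ⟩ := hπ (DihedralGroup.sr 0)
  let f : Fin 3 × Fin 2 → H ⧸ C :=
    fun i => ((σ ^ (i.2 : ℕ) * ρ ^ (i.1 : ℕ) : H) : H ⧸ C)
  have hf : Function.Surjective f := by
    intro u
    induction u using QuotientGroup.induction_on with
    | _ y =>
      obtain ⟨i, e, he⟩ : ∃ (i : ℕ) (e : Fin 2), π (σ ^ (e : ℕ) * ρ ^ i) = π y := by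
        cases hy : π y with
        | r i => exact ⟨i.val, 0, by simp [hρ]⟩
        | sr i => exact ⟨i.val, 1, by simp [hρ, hσ]⟩
      refine ⟨(⟨i % 3, Nat.mod_lt _ (by norm_num)⟩, e), QuotientGroup.eq.2 ?_⟩
      have h1 : (σ ^ (e : ℕ) * ρ ^ i)⁻¹ * y ∈ C := hQC (by
        rw [← hker, MonoidHom.mem_ker, map_mul, map_inv, he, inv_mul_cancel])
      have h2 : (ρ ^ (i % 3))⁻¹ * ρ ^ i ∈ C := by
        conv in (ρ ^ i) => rw [← Nat.mod_add_div i 3, pow_add, pow_mul]
        rw [inv_mul_cancel_left]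
        exact pow_mem h3C _
      have h4 := mul_mem h2 h1
      simpa [mul_assoc] using h4
  have h6 : C.index ≤ 6 := by
    have h := Nat.card_le_card_of_surjective f hf
    simpa [index] using h
  obtain ⟨m, rfl⟩ := hn
  have hC0 : C.index ≠ 0 := index_ne_zero_of_finite
  interval_cases h : C.index
  · exact absurd rfl hC0
  · exact absurd rfl hC1
  · exact absurd rfl hC2
  · exfalso
    have h3 := Subgroup.pow_index_mem C a
    rw [h, pow_succ, pow_two, haQ, one_mul] at h3
    exact hanc fun u hu => (mem_centralizer_iff.1 h3 u hu).symm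
  · exfalso; omega
  · exfalso
    have h3 := Subgroup.pow_index_mem C a
    rw [h, pow_succ, pow_succ, pow_succ, pow_two, haQ, one_mul, haQ, one_mul] at h3
    exact hanc fun u hu => (mem_centralizer_iff.1 h3 u hu).symm
  · rfl

theorem sfour_setup {n : ℕ} {Q P : Subgroup H} [Q.Normal] (hQ : IsPGroup 2 Q)
    (hP : IsPGroup 2 P) (hQP : Q ≤ P) (hPc : Nat.card P = 2 * Nat.card Q) (hn : Odd n)
    (hcardH : Nat.card H = 2 * n * Nat.card Q)
    (hC : (centralizer (Q : Set H)).index = 6) (hsq : ∀ v ∈ Q, v * v = 1)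
    (hcomm : ∀ u ∈ Q, ∀ v ∈ Q, Commute u v)
    {x : H} (hgen : P ⊔ P.map (MulAut.conj x).toMonoidHom = ⊤) :
    Setup (Q.map (QuotientGroup.mk' (Cfsg.oddCore H))) 3 ∧
      (∀ K : Subgroup H, IsPGroup 2 K →
        Nat.card (K.map (QuotientGroup.mk' (Cfsg.oddCore H))) = Nat.card K) := by
  haveI : Fact (Nat.Prime 2) := ⟨Nat.prime_two⟩
  set O := Cfsg.oddCore H with hOdef
  set π := QuotientGroup.mk' O with hπdef
  have hπ : Function.Surjective π := QuotientGroup.mk'_surjective O
  have hinj : ∀ K : Subgroup H, IsPGroup 2 K → Nat.card (K.map π) = Nat.card K := by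
    intro K hK
    have h := relIndex_map_map π ⊥ K
    rw [Subgroup.map_bot, relIndex_bot_left, QuotientGroup.ker_mk', bot_sup_eq] at h
    rw [h, relIndex_sup_right]
    have hd := PCore.disjoint_of_isPGroup_of_coprime hK
      (PCore.coprime_card_pPrimeCore (G := H) (p := 2))
    rw [← inf_relIndex_left, (disjoint_iff.1 hd), relIndex_bot_left]
  set C := centralizer (Q : Set H) with hCdef
  haveI : C.Normal := by rw [hCdef]; infer_instance
  have hQC : Q ≤ C := fun u hu => mem_centralizer_iff.2 fun w hw => (hcomm w hw u hu).eq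
  have hdisj : Disjoint Q O := PCore.disjoint_of_isPGroup_of_coprime hQ PCore.coprime_card_pPrimeCore
  have hOC : O ≤ C := fun o ho => mem_centralizer_iff.2 fun w hw =>
    PCore.commute_of_normal_of_disjoint ‹Q.Normal› inferInstance hdisj hw ho
  have h6 : n = 3 * Q.relIndex C := by
    have h1 := card_mul_index C
    rw [hC, ← Sims.card_mul_relIndex hQC, hcardH] at h1
    have := Nat.card_pos (α := Q)
    refine Nat.eq_of_mul_eq_mul_left (show 0 < 2 * Nat.card Q by omega) ?_
    rw [show 2 * Nat.card Q * n = 2 * n * Nat.card Q by ring, ← h1]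
    ring
  have hodd : Odd (Q.relIndex C) := hn.of_dvd_nat ⟨3, by rw [h6, mul_comm]⟩
  have hO := card_oddCore_mul hQ hQC le_rfl hodd hOC
  haveI hQbn : (Q.map π).Normal := Normal.map inferInstance _ hπ
  have hcardB : Nat.card (H ⧸ O) = 2 * 3 * Nat.card (Q.map π) := by
    rw [hinj Q hQ]
    have h1 := card_mul_index C
    rw [hC, ← hO] at h1
    have h2 := card_mul_index O
    refine Nat.eq_of_mul_eq_mul_left (Nat.card_pos (α := O)) (h2.trans ?_)
    rw [← h1]
    ring
  have hCQO : C ≤ O ⊔ Q := by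
    have hle : O ⊔ Q ≤ C := sup_le hOC hQC
    refine (eq_of_le_of_card_ge hle ?_).ge
    rw [← hO]
    have hc : Nat.Coprime (Nat.card O) (Nat.card Q) := by
      obtain ⟨j, hj⟩ := IsPGroup.iff_card.mp hQ
      rw [hj]
      exact PCore.coprime_card_pPrimeCore.pow_right j
    exact Nat.le_of_dvd Nat.card_pos
      (hc.mul_dvd_of_dvd_of_dvd (card_dvd_of_le le_sup_left) (card_dvd_of_le le_sup_right))
  refine ⟨⟨hQbn, ?_, ?_, ?_, Nat.prime_three, by norm_num, hcardB, ?_⟩, hinj⟩
  · intro xb hxb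
    obtain ⟨x, rfl⟩ := hπ xb
    have hxC : x ∈ C := by
      refine mem_centralizer_iff.2 fun w hw => ?_
      have h1 : π (x * w * x⁻¹ * w⁻¹) = 1 := by
        rw [map_mul, map_mul, map_mul, map_inv, map_inv,
          ← mem_centralizer_iff.1 hxb _ (mem_map_of_mem π hw), mul_inv_cancel_right, mul_inv_cancel]
      rw [← MonoidHom.mem_ker, QuotientGroup.ker_mk'] at h1
      have h2 := disjoint_def.1 hdisj
        (mul_mem (‹Q.Normal›.conj_mem w hw x) (inv_mem hw)) h1
      rw [mul_inv_eq_one, mul_inv_eq_iff_eq_mul] at h2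
      exact h2.symm
    have h3 := mem_map_of_mem π (hCQO hxC)
    rw [Subgroup.map_sup, (map_eq_bot_iff O).2 (QuotientGroup.ker_mk' O).ge, bot_sup_eq] at h3
    exact h3
  · rintro _ ⟨v, hv, rfl⟩; rw [← map_mul, hsq v hv, map_one]
  · rintro _ ⟨u, hu, rfl⟩ _ ⟨v, hv, rfl⟩; exact (hcomm u hu v hv).map π
  · intro K hK hK2
    by_contra hKQ
    haveI := hK
    set L := K ⊔ Q.map π with hL
    have hL2 : IsPGroup 2 L := hK2.to_sup_of_normal_left (hQ.map π)
    have hlt : Q.map π < L := lt_of_le_of_ne le_sup_right fun h => hKQ (h ▸ le_sup_left)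
    obtain ⟨a, ha⟩ := IsPGroup.iff_card.mp hL2
    obtain ⟨b, hb⟩ := IsPGroup.iff_card.mp (hQ.map π)
    have hab : b < a := by
      by_contra h
      exact hlt.ne (eq_of_le_of_card_ge hlt.le (by rw [ha, hb]; exact Nat.pow_le_pow_right (by norm_num) (by omega)))
    -- `L` is a normal Sylow subgroup, so it contains the image of `P` and its conjugates
    have hLd : 2 ^ a ∣ 2 ^ (b + 1) * 3 := by
      rw [← ha, pow_succ, ← hb]
      refine (card_subgroup_dvd_card L).trans ?_
      rw [hcardB]; exact dvd_of_eq (by ring)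
    have hab' : a = b + 1 := by
      have := (Nat.pow_dvd_pow_iff_le_right (x := 2) (by norm_num)).1
        (((Nat.Coprime.pow_left a (by norm_num : Nat.Coprime 2 3))).dvd_of_dvd_mul_right hLd)
      omega
    haveI : L.Normal := by rw [hL]; exact sup_normal K _
    have hPL : P.map π ≤ L := by
      have h2 : IsPGroup 2 ↥(L ⊔ P.map π) := hL2.to_sup_of_normal_left (hP.map π)
      obtain ⟨c, hc⟩ := IsPGroup.iff_card.mp h2
      have hcd : 2 ^ c ∣ 2 ^ (b + 1) * 3 := by
        rw [← hc, pow_succ, ← hb]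
        refine (card_subgroup_dvd_card _).trans ?_
        rw [hcardB]; exact dvd_of_eq (by ring)
      have hca : c ≤ b + 1 := (Nat.pow_dvd_pow_iff_le_right (x := 2) (by norm_num)).1
        (((Nat.Coprime.pow_left c (by norm_num : Nat.Coprime 2 3))).dvd_of_dvd_mul_right hcd)
      have := eq_of_le_of_card_ge (le_sup_left : L ≤ L ⊔ P.map π) (by
        rw [hc, ha, hab']; exact Nat.pow_le_pow_right (by norm_num) hca)
      exact le_sup_right.trans this.ge
    have h2 : L = ⊤ := by
      rw [← top_le_iff, ← MonoidHom.range_eq_top.2 hπ, MonoidHom.range_eq_map, ← hgen,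
        Subgroup.map_sup]
      refine sup_le hPL ?_
      rintro _ ⟨_, ⟨v, hv, rfl⟩, rfl⟩
      show π (x * v * x⁻¹) ∈ L
      rw [map_mul, map_mul, map_inv]
      exact ‹L.Normal›.conj_mem _ (hPL (mem_map_of_mem π hv)) _
    have h3 : 3 ∣ 2 ^ a := by
      rw [← ha, h2, card_top, hcardB]; exact ⟨2 * Nat.card (Q.map π), by ring⟩
    exact absurd (Nat.prime_three.dvd_of_dvd_pow h3) (by norm_num)

end quotient

/-- Let H be a subgroup of a finite group G whose largest normal 2-subgroup O_2(H) is nontrivial and such that H/O_2(H) is a dihedral group of order at least 4. Let P be a Sylow 2-subgroup of H and S a Sylow 2-subgroup of G containing P. Suppose y ∈ S lies outside P, normalizes P, has y² in the product of P with the centralizer of P in G, and normalizes no non-identity normal subgroup of H contained in P. Then P has order 4, 8 or 16, and H modulo its largest normal subgroup of odd order is isomorphic to the four-group, to the symmetric group of degree 4, or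 to the direct product of the symmetric group of degree 4 with a group of order 2. -/
theorem result {G : Type*} [Group G] [Finite G]
    (H : Subgroup G) (hO : Cfsg.pCore 2 ↥H ≠ ⊥) (n : ℕ) (hn : 2 ≤ n) (hdih : Nonempty (↥H ⧸ Cfsg.pCore 2 ↥H ≃* DihedralGroup n))
    (P : Subgroup G) (hPH : P ≤ H) (hP : IsPGroup 2 P) (hPsyl : ¬ 2 ∣ P.relIndex H)
    (S : Sylow 2 G) (hPS : P ≤ (S : Subgroup G)) (y : G) (hyS : y ∈ (S : Subgroup G)) (hyP : y ∉ P)
    (hy2 : y ^ 2 ∈ P ⊔ Subgroup.centralizer (P : Set G)) (hyN : MulAut.conj y • P = P)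
    (hyQ : ∀ Q : Subgroup G, Q ≤ P → (Q.subgroupOf H).Normal → MulAut.conj y • Q = Q → Q = ⊥) :
    (Nat.card P = 4 ∨ Nat.card P = 8 ∨ Nat.card P = 16) ∧
    (Nonempty (↥H ⧸ Cfsg.oddCore ↥H ≃* Multiplicative (ZMod 2) × Multiplicative (ZMod 2)) ∨
     Nonempty (↥H ⧸ Cfsg.oddCore ↥H ≃* Equiv.Perm (Fin 4)) ∨
     Nonempty (↥H ⧸ Cfsg.oddCore ↥H ≃* Equiv.Perm (Fin 4) × Multiplicative (ZMod 2))) := by
  classical
  haveI : Fact (Nat.Prime 2) := ⟨Nat.prime_two⟩
  set Q := Cfsg.pCore 2 ↥H with hQdef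
  haveI hQn : Q.Normal := PCore.pCore_normal
  have hQ2 : IsPGroup 2 Q := PCore.isPGroup_pCore
  have hmax : ∀ K : Subgroup H, K.Normal → IsPGroup 2 K → K ≤ Q :=
    fun K hK h2 => PCore.le_pCore (hN := hK) h2
  obtain ⟨m, hm⟩ := IsPGroup.iff_card.mp hQ2
  obtain ⟨e⟩ := hdih
  set π : ↥H →* DihedralGroup n := e.toMonoidHom.comp (QuotientGroup.mk' Q) with hπdef
  have hπ : Function.Surjective π := e.surjective.comp (QuotientGroup.mk'_surjective Q)
  have hker : π.ker = Q := by
    ext v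
    rw [hπdef, MonoidHom.mem_ker, MonoidHom.comp_apply, MulEquiv.coe_toMonoidHom,
      MulEquiv.map_eq_one_iff]
    exact QuotientGroup.eq_one_iff v
  have hnodd := dihedral_odd hn hQ2 hmax π hπ hker
  haveI : NeZero n := ⟨by omega⟩
  have hidxQ : Q.index = 2 * n := (Nat.card_congr e.toEquiv).trans DihedralGroup.nat_card
  have hcardH : Nat.card H = 2 * n * Nat.card Q := by rw [← card_mul_index Q, hidxQ, mul_comm]
  set P₀ : Subgroup H := P.subgroupOf H with hP₀
  have hP2 : IsPGroup 2 P₀ := hP.of_equiv (subgroupOfEquivOfLe hPH).symm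
  have hPidx : ¬ 2 ∣ P₀.index := hPsyl
  let PS : Sylow 2 ↥H := hP2.toSylow hPidx
  have hQP : Q ≤ P₀ := PCore.pCore_le_sylow PS
  obtain ⟨l, hl⟩ := IsPGroup.iff_card.mp hP2
  have hPc : Nat.card P₀ = 2 * Nat.card Q := by
    have hd := Sims.card_mul_relIndex hQP
    have hr : Q.relIndex P₀ ∣ 2 * n := by
      rw [← hidxQ, ← relIndex_mul_index hQP]; exact dvd_mul_right _ _
    have hr2 : Q.relIndex P₀ ∣ 2 ^ l := hl ▸ ⟨Nat.card Q, by rw [← hd, mul_comm]⟩
    obtain ⟨j, -, hj⟩ := (Nat.dvd_prime_pow Nat.prime_two).1 hr2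
    rw [hj] at hr hd
    have h1 : 2 ^ j ∣ 2 := (Nat.Coprime.pow_left j
      (Nat.coprime_two_left.2 hnodd)).dvd_of_dvd_mul_right hr
    have hj1 : j ≤ 1 := (Nat.pow_dvd_pow_iff_le_right (x := 2) (by norm_num)).1
      (by rwa [pow_one])
    interval_cases j
    · exfalso
      apply hPidx
      have h2 := card_mul_index P₀
      rw [← hd, hcardH, pow_zero, mul_one] at h2
      refine ⟨n, ?_⟩
      exact Nat.eq_of_mul_eq_mul_left (Nat.card_pos (α := Q)) (h2.trans (by ring))
    · omega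
  have hP3 : Nat.card (P₀.map π) = 2 := by
    have h := relIndex_map_map π ⊥ P₀
    rw [Subgroup.map_bot, relIndex_bot_left, bot_sup_eq, hker, sup_eq_left.2 hQP] at h
    rw [h]
    have := Sims.card_mul_relIndex hQP
    rw [hPc, mul_comm 2] at this
    exact Nat.eq_of_mul_eq_mul_left Nat.card_pos this
  -- choose `x` with `P` and its conjugate generating `H`
  obtain ⟨i, hi⟩ : ∃ i : ZMod n, DihedralGroup.sr i ∈ P₀.map π := by
    obtain ⟨⟨d, hd⟩, hd1⟩ := exists_prime_orderOf_dvd_card' (G := P₀.map π) 2 (by rw [hP3])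
    rw [← orderOf_coe] at hd1
    cases d with
    | sr i => exact ⟨i, hd⟩
    | r i =>
      exfalso
      have h : orderOf (DihedralGroup.r i : DihedralGroup n) ∣ n := by
        refine orderOf_dvd_of_pow_eq_one ?_
        rw [DihedralGroup.r_pow, ZMod.natCast_self, mul_zero]; rfl
      rw [show orderOf (DihedralGroup.r i : DihedralGroup n) = 2 from hd1] at h
      exact (Nat.not_even_iff_odd.2 hnodd) (even_iff_two_dvd.2 h)
  obtain ⟨k, hk⟩ : ∃ k : ZMod n, -(k + k) = 1 := by
    obtain ⟨r, hr⟩ := hnodd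
    refine ⟨(r : ZMod n), ?_⟩
    rw [neg_eq_iff_add_eq_zero]
    have : ((2 * r + 1 : ℕ) : ZMod n) = 0 := by rw [← hr, ZMod.natCast_self]
    push_cast at this
    linear_combination this
  obtain ⟨x, hx⟩ := hπ (DihedralGroup.r k)
  set P₁ := P₀.map (MulAut.conj x).toMonoidHom with hP1
  have hP1c : Nat.card P₁ = Nat.card P₀ := card_map_of_injective (MulEquiv.injective _)
  have hQP1 : Q ≤ P₁ := by
    intro v hv
    rw [hP1, mem_map_equiv, MulAut.conj_symm_apply]
    exact hQP (by simpa using hQn.conj_mem v hv x⁻¹)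
  have hsup : P₀ ⊔ P₁ = ⊤ := by
    have hQle : π.ker ≤ P₀ ⊔ P₁ := hker.le.trans (hQP.trans le_sup_left)
    rw [← comap_map_eq_self hQle]
    suffices h : (P₀ ⊔ P₁).map π = ⊤ by rw [h, comap_top]
    have h1 : DihedralGroup.sr i ∈ (P₀ ⊔ P₁).map π := map_mono le_sup_left hi
    have h2 : DihedralGroup.sr (i + 1) ∈ (P₀ ⊔ P₁).map π := by
      obtain ⟨p₀, hp₀, hp₀'⟩ := hi
      refine ⟨x * p₀ * x⁻¹, le_sup_right (a := P₀) (mem_map_of_mem _ hp₀), ?_⟩
      rw [map_mul, map_mul, map_inv, hp₀', hx, DihedralGroup.r_mul_sr, DihedralGroup.inv_r,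
        DihedralGroup.sr_mul_r]
      congr 1
      linear_combination hk
    have h3 : DihedralGroup.r 1 ∈ (P₀ ⊔ P₁).map π := by
      have := mul_mem h1 h2
      rwa [DihedralGroup.sr_mul_sr, add_sub_cancel_left] at this
    have hr : ∀ j : ZMod n, DihedralGroup.r j ∈ (P₀ ⊔ P₁).map π := fun j => by
      have := pow_mem h3 j.val
      rwa [DihedralGroup.r_one_pow, ZMod.natCast_zmod_val] at this
    refine top_le_iff.1 fun d _ => ?_
    cases d with
    | r j => exact hr j
    | sr j =>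
      have := mul_mem h1 (hr (j - i))
      rwa [DihedralGroup.sr_mul_r, add_sub_cancel] at this
  have hinf : P₀ ⊓ P₁ = Q := by
    refine (eq_of_le_of_card_ge (le_inf hQP hQP1) ?_).symm
    obtain ⟨c, hc⟩ := card_dvd_of_le (le_inf hQP hQP1)
    have hd' : Nat.card ↥(P₀ ⊓ P₁) ∣ 2 * Nat.card Q := hPc ▸ card_dvd_of_le inf_le_left
    rw [hc, mul_comm 2] at hd'
    rcases (Nat.dvd_prime Nat.prime_two).1 (Nat.dvd_of_mul_dvd_mul_left Nat.card_pos hd') with h | h
    · rw [hc, h, mul_one]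
    · exfalso
      rw [h, mul_comm, ← hPc] at hc
      have h1 := eq_of_le_of_card_ge (inf_le_left : P₀ ⊓ P₁ ≤ P₀) hc.ge
      have h2 := eq_of_le_of_card_ge (inf_eq_left.1 h1) hP1c.le
      rw [← h2, sup_idem] at hsup
      rw [hsup, card_top, hcardH] at hPc
      have hQpos := Nat.card_pos (α := Q)
      have : n = 1 := Nat.eq_of_mul_eq_mul_left (show 0 < 2 * Nat.card Q by omega) (by linarith)
      omega
  -- pass to `G`
  have hPmap : P₀.map H.subtype = P := map_subgroupOf_eq_of_le hPH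
  set g : G := (x : G) * y with hg
  have hyP' : ∀ v, v ∈ P ↔ y * v * y⁻¹ ∈ P := by
    intro v
    conv_rhs => rw [← hyN]
    rw [Subgroup.mem_pointwise_smul_iff_inv_smul_mem, MulAut.smul_def, MulAut.inv_apply,
      MulAut.conj_symm_apply]
    simp [mul_assoc]
  have hsh1 : sh g 1 P = P₁.map H.subtype := by
    ext v
    rw [mem_sh, zpow_one, hg, mul_inv_rev,
      show y⁻¹ * (x : G)⁻¹ * v * ((x : G) * y) = y⁻¹ * ((x : G)⁻¹ * v * x) * y by group,
      hyP', show y * (y⁻¹ * ((x : G)⁻¹ * v * x) * y) * y⁻¹ = (x : G)⁻¹ * v * x by group]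
    constructor
    · intro hv
      refine ⟨x * ⟨(x : G)⁻¹ * v * x, hPH hv⟩ * x⁻¹, ⟨⟨_, hPH hv⟩, mem_subgroupOf.2 hv, rfl⟩, ?_⟩
      simp [mul_assoc]
    · rintro ⟨_, ⟨s, hs, rfl⟩, rfl⟩
      simpa [mul_assoc] using mem_subgroupOf.1 hs
  have hQ' : P ⊓ sh g 1 P = Q.map H.subtype := by
    conv_lhs => rw [hsh1, ← hPmap, ← map_inf _ _ _ H.subtype_injective, hinf]
  have hH' : P ⊔ sh g 1 P = H := by
    conv_lhs => rw [hsh1, ← hPmap, ← Subgroup.map_sup, hsup, ← MonoidHom.range_eq_map,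
      range_subtype]
  have hPcard : Nat.card P = 2 ^ l := by rw [← hl]; exact (S2772.card_subgroupOf' hPH).symm
  have hidx : (sh g 1 P).relIndex P = 2 := by
    rw [← inf_relIndex_left, hQ']
    have hle : Q.map H.subtype ≤ P := hPmap ▸ map_mono hQP
    have h := Sims.card_mul_relIndex hle
    rw [card_map_of_injective H.subtype_injective, hPcard, ← hl, hPc, mul_comm 2] at h
    exact Nat.eq_of_mul_eq_mul_left Nat.card_pos h
  have D : Data g P l := by
    refine ⟨hPcard, hidx, ?_⟩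
    intro T hT hm1 h0 h1
    have hN : H ≤ normalizer (T : Set G) := hH' ▸ sup_le h0 h1
    have hN' : ∀ v ∈ H, y⁻¹ * v * y ∈ normalizer (T : Set G) := by
      intro v hv
      have h2 : sh g (-1) H ≤ normalizer (T : Set G) := by
        rw [← hH', sh, Subgroup.map_sup]
        refine sup_le hm1 ?_
        have : sh g (-1) (sh g 1 P) = P := by rw [sh_sh, neg_add_cancel, sh_zero]
        exact this.le.trans h0
      have hxv : (x : G) * ((x : G)⁻¹ * v * x) * (x : G)⁻¹ ∈ H := by
        rwa [show (x : G) * ((x : G)⁻¹ * v * x) * (x : G)⁻¹ = v by group]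
      refine h2 ?_
      rw [mem_sh, zpow_neg, zpow_one, inv_inv, hg,
        show (x : G) * y * (y⁻¹ * v * y) * ((x : G) * y)⁻¹ = (x : G) * v * (x : G)⁻¹ by group]
      exact mul_mem (mul_mem x.2 hv) (inv_mem x.2)
    set T₂ := T.map (MulAut.conj y).toMonoidHom with hT2
    have hT2P : T₂ ≤ P := by
      rintro _ ⟨v, hv, rfl⟩
      exact (hyP' v).1 (hT hv)
    have hN2 : H ≤ normalizer (T₂ : Set G) := by
      intro v hv
      refine mem_normalizer_fintype ?_
      rintro _ ⟨t, ht, rfl⟩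
      refine ⟨y⁻¹ * v * y * t * (y⁻¹ * v * y)⁻¹, (mem_normalizer_iff.1 (hN' v hv) t).1 ht, ?_⟩
      simp [mul_assoc]
    have hy2T : T₂.map (MulAut.conj y).toMonoidHom = T := by
      refine eq_of_le_of_card_ge ?_ (le_of_eq (by
        rw [card_map_of_injective (MulEquiv.injective _), hT2,
          card_map_of_injective (MulEquiv.injective _)]))
      rintro _ ⟨_, ⟨t, ht, rfl⟩, rfl⟩
      show y * (y * t * y⁻¹) * y⁻¹ ∈ T
      have hdec : P ≤ normalizer (centralizer (P : Set G) : Set G) := by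
        intro p hp
        refine mem_normalizer_fintype fun c hc => mem_centralizer_iff.2 fun w hw => ?_
        have := mem_centralizer_iff.1 hc (p⁻¹ * w * p) (mul_mem (mul_mem (inv_mem hp) hw) hp)
        calc w * (p * c * p⁻¹) = p * ((p⁻¹ * w * p) * c) * p⁻¹ := by group
          _ = p * (c * (p⁻¹ * w * p)) * p⁻¹ := by rw [this]
          _ = p * c * p⁻¹ * w := by group
      obtain ⟨p, hp, c, hc, hpc⟩ := (Coprime.mem_sup_iff_of_le_normalizer hdec).1 hy2
      rw [show y * (y * t * y⁻¹) * y⁻¹ = y ^ 2 * t * (y ^ 2)⁻¹ by rw [pow_two, mul_inv_rev]; simp only [mul_assoc], ← hpc,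
        show p * c * t * (p * c)⁻¹ = p * (c * t * c⁻¹) * p⁻¹ by group,
        ← mem_centralizer_iff.1 hc t (hT ht), mul_inv_cancel_right]
      exact (mem_normalizer_iff.1 (h0 hp) t).1 ht
    have hTT : T ⊔ T₂ = ⊥ := by
      refine hyQ _ (sup_le hT hT2P) ?_ ?_
      · refine normal_subgroupOf_of_le_normalizer ?_
        intro v hv
        refine mem_normalizer_fintype fun w hw => ?_
        have hmap : (T ⊔ T₂).map (MulAut.conj v).toMonoidHom ≤ T ⊔ T₂ := by
          rw [Subgroup.map_sup]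
          refine sup_le_sup ?_ ?_
          · rintro _ ⟨t, ht, rfl⟩; exact (mem_normalizer_iff.1 (hN hv) t).1 ht
          · rintro _ ⟨t, ht, rfl⟩; exact (mem_normalizer_iff.1 (hN2 hv) t).1 ht
        exact hmap (mem_map_of_mem _ hw)
      · show (T ⊔ T₂).map (MulAut.conj y).toMonoidHom = T ⊔ T₂
        rw [Subgroup.map_sup, hy2T, sup_comm]
    exact le_bot_iff.1 (le_sup_left.trans hTT.le)
  have hQpos : 2 ≤ Nat.card Q := by
    have h1 := Nat.card_pos (α := Q)
    have h2 : Nat.card Q ≠ 1 := fun h => hO (eq_bot_of_card_eq _ h)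
    omega
  have hl2 : 2 ≤ l := by
    by_contra h
    have h1 : (2 : ℕ) ^ l ≤ 2 ^ 1 := Nat.pow_le_pow_right (by norm_num) (by omega)
    omega
  obtain ⟨a0, W⟩ := exists_sys D (by omega)
  have hQseg : Q.map H.subtype = seg g P l 2 l := by rw [Base.Q_eq, hQ']
  have hP2' : IsPGroup 2 (P₀ : Subgroup H) := hP2
  by_cases hab : ∀ u ∈ P, ∀ v ∈ P, Commute u v
  · -- `P` abelian
    have hshab : ∀ t : ℤ, ∀ u ∈ sh g t P, ∀ v ∈ sh g t P, Commute u v := by
      intro t u hu v hv
      obtain ⟨u', hu', rfl⟩ := hu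
      obtain ⟨v', hv', rfl⟩ := hv
      exact (hab u' hu' v' hv').map _
    have hl : l = 2 := by
      by_contra hne
      refine W.inv_ne_one 2 (W.eq_one_of_central ?_ ?_ ?_ ?_)
      · rw [← Base.S_eq g P l]; exact W.inv_mem_seg (by omega) (by omega)
      · intro u hu
        exact hab _ (by rw [← Base.S_eq g P l]; exact W.inv_mem_seg (by omega) (by omega)) u hu
      · intro u hu
        exact hshab 1 _ (by rw [← Base.sh_one_eq g P l]; exact W.inv_mem_seg le_rfl (by omega)) u hu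
      · intro u hu
        exact hshab (-1) _ (by rw [← Base.sh_neg_eq g P l]; exact W.inv_mem_seg (by omega) (by omega)) u hu
    subst hl
    have hQc2 : Nat.card Q = 2 := by norm_num at hl; omega
    refine ⟨Or.inl (by rw [hPcard]; norm_num), Or.inl (four_case (P := P₀) hnodd hQ2 π hker hcardH
      ?_ hπ (by rw [hl]; norm_num) hQc2 ?_)⟩
    · intro v hv u
      have hc : ∀ w ∈ P₀ ⊔ P₁, Commute w v := by
        have : P₀ ⊔ P₁ ≤ centralizer {v} := by
          refine sup_le (fun w hw => mem_centralizer_singleton_iff.2 (Subtype.ext ?_))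
            (fun w hw => mem_centralizer_singleton_iff.2 (Subtype.ext ?_))
          · exact (hab _ (mem_subgroupOf.1 hw) _ (mem_subgroupOf.1 (hQP hv))).eq
          · exact (hshab 1 _ (hsh1.ge (mem_map_of_mem _ hw)) _
              (hsh1.ge (mem_map_of_mem _ (hQP1 hv)))).eq
        exact fun w hw => mem_centralizer_singleton_iff.1 (this hw)
      exact hc u (hsup.ge (mem_top u))
    · intro v hv
      apply Subtype.ext
      show (v : G) * v = 1
      have hv' : (v : G) ∈ seg g P 2 1 2 := (Base.S_eq g P 2).ge (mem_subgroupOf.1 hv)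
      have h22 : ∀ w ∈ seg g P 2 2 2, w * w = 1 := by
        intro w hw
        by_cases hw1 : w = 1
        · rw [hw1, one_mul]
        · rw [W.eq_of_mem_single (by norm_num) hw hw1]; exact W.inv_mul_self (by norm_num) 2
      rcases W.decomp_left (by omega) (by omega) hv' with h | h
      · exact h22 _ h
      · have hc : Commute (inv' g a0 1) (v : G) :=
          hab _ (by rw [← Base.S_eq g P 2]; exact W.inv_mem_seg le_rfl (by omega)) _
            (mem_subgroupOf.1 hv)
        calc (v : G) * v = (inv' g a0 1 * inv' g a0 1) * ((v : G) * v) := by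
              rw [W.inv_mul_self (by norm_num), one_mul]
          _ = (inv' g a0 1 * v) * (inv' g a0 1 * v) := by rw [hc.mul_mul_mul_comm]
          _ = 1 := h22 _ h
  · -- `P` nonabelian
    obtain ⟨k, R⟩ := W.exists_radius (by omega) hab
    have hshape := W.shape R
    have hk' : (l : ℤ) ≤ 2 + k := by omega
    have hsqQ : ∀ v ∈ Q, v * v = 1 := fun v hv =>
      Subtype.ext (W.seg_sq' R hk' (hQseg.le (mem_map_of_mem _ hv)))
    have hcommQ : ∀ u ∈ Q, ∀ v ∈ Q, Commute u v := fun u hu v hv => Subtype.ext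
      (W.seg_comm R hk' _ (hQseg.le (mem_map_of_mem _ hu)) _ (hQseg.le (mem_map_of_mem _ hv))).eq
    have hidx6 : ∀ z ∈ Q, (∀ u, Commute z u) → Nat.card Q = 4 * Nat.card (zpowers z) →
        (centralizer (Q : Set H)).index = 6 := by
      intro z hzQ hzc hz4
      have h1P : inv' g a0 1 ∈ P := by
        rw [← Base.S_eq g P l]; exact W.inv_mem_seg le_rfl (by omega)
      have hlH : inv' g a0 ((l : ℤ) + 1) ∈ H := by
        rw [← hH', ← Base.sh_one_eq g P l]
        exact mem_sup_right (W.inv_mem_seg (by omega) le_rfl)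
      have h2Q : inv' g a0 2 ∈ Q.map H.subtype := hQseg ▸ W.inv_mem_seg le_rfl (by omega)
      obtain ⟨v, hv, hv2⟩ := h2Q
      have hlQ : inv' g a0 ((k : ℤ) + 2) ∈ Q.map H.subtype :=
        hQseg ▸ W.inv_mem_seg (by omega) (by omega)
      obtain ⟨w, hw, hw2⟩ := hlQ
      refine index_centralizer hnodd π hπ hker hsqQ hcommQ hzQ hzc hz4 (P := P₀)
        (a := ⟨_, hPH h1P⟩) (b := ⟨_, hlH⟩) (mem_subgroupOf.2 h1P)
        (Subtype.ext (W.inv_mul_self (by omega) 1)) (Subtype.ext (W.inv_mul_self (by omega) _))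
        hv ?_ ?_ ?_
      · refine Subtype.ext ?_
        show inv' g a0 1 * H.subtype v = H.subtype v * inv' g a0 1
        rw [hv2]
        exact (R.comm 1 2 (by omega) (by have := R.one_le; omega)).eq
      · intro h
        refine R.noncomm 2 ?_
        have h' := congrArg H.subtype h.eq
        rw [map_mul, map_mul, hv2] at h'
        rw [show (2 : ℤ) + (k + 1) = l + 1 by omega]
        exact h'.symm
      · intro h
        refine R.noncomm 1 ?_
        have h' := congrArg H.subtype (h w hw).eq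
        rw [map_mul, map_mul, hw2] at h'
        rw [show (1 : ℤ) + (k + 1) = k + 2 by omega]
        exact h'
    rcases hshape with ⟨rfl, rfl⟩ | ⟨rfl, rfl⟩
    · have hQ4 : Nat.card Q = 4 := by norm_num at hl; omega
      obtain ⟨hS, hinj⟩ := sfour_setup hQ2 hP2' hQP hPc hnodd hcardH
        (hidx6 1 (one_mem _) (fun u => Commute.one_left u) (by rw [zpowers_one_eq_bot, card_bot, hQ4]))
        hsqQ hcommQ hsup
      exact ⟨Or.inr (Or.inl (by rw [hPcard]; norm_num)),
        Or.inr (Or.inl (hS.final_four ((hinj Q hQ2).trans hQ4)))⟩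
    · have hQ8 : Nat.card Q = 8 := by norm_num at hl; omega
      obtain ⟨z, hzQ, hz1, hzc, hsplit⟩ := S2772.split16 W R (G := H) (by
        conv_rhs => rw [← hH', ← Base.sh_one_eq g P 4]
        conv_rhs => arg 1; rw [← Base.S_eq g P 4]
        norm_num)
      have hQseg4 : Q.map H.subtype = seg g P 4 2 4 := hQseg
      rw [← hQseg4] at hzQ hsplit
      obtain ⟨z, hzQ', rfl⟩ := hzQ
      have hz1' : z ≠ 1 := fun h => hz1 (by rw [h]; rfl)
      have hzc' : ∀ u, Commute z u := fun u => Subtype.ext (hzc _ u.2).eq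
      have hzo : orderOf z = 2 := orderOf_eq_prime (by rw [pow_two, hsqQ z hzQ']) hz1'
      obtain ⟨hS, hinj⟩ := sfour_setup hQ2 hP2' hQP hPc hnodd hcardH
        (hidx6 z hzQ' hzc' (by rw [Nat.card_zpowers, hzo, hQ8])) hsqQ hcommQ hsup
      set O := Cfsg.oddCore H with hOdef
      set τ := QuotientGroup.mk' O with hτdef
      have hdisj : Disjoint P₀ O :=
        PCore.disjoint_of_isPGroup_of_coprime hP2' PCore.coprime_card_pPrimeCore
      have hinj1 : ∀ u ∈ P₀, τ u = 1 → u = 1 := fun u hu h =>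
        disjoint_def.1 hdisj hu ((QuotientGroup.eq_one_iff u).1 h)
      have hPle : ∀ K : Subgroup G, K ≤ P → K.subgroupOf H ≤ P₀ := fun K hK => comap_mono hK
      have hQP' : Q.map H.subtype ≤ P := (map_mono hQP).trans hPmap.le
      refine ⟨Or.inr (Or.inr (by rw [hPcard]; norm_num)), Or.inr (Or.inr
        (hS.final_eight ((hinj Q hQ2).trans hQ8) (mem_map_of_mem τ hzQ')
          (fun h => hz1' (hinj1 z (hQP hzQ') h))
          (fun u => by
            obtain ⟨u, rfl⟩ := QuotientGroup.mk'_surjective O u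
            exact (hzc' u).map τ) ?_))⟩
      rcases hsplit with ⟨V, hV, hVQ, hV4, hzV⟩ | ⟨A, hAS, hzA, hSA⟩
      · haveI := normal_subgroupOf_of_le_normalizer hV
        refine Or.inl ⟨(V.subgroupOf H).map τ,
          Normal.map inferInstance _ (QuotientGroup.mk'_surjective O), map_mono ?_, ?_,
          mem_map_of_mem τ hzV⟩
        · exact (comap_mono hVQ).trans (comap_map_eq_self_of_injective H.subtype_injective Q).le
        · rw [hinj _ (IsPGroup.to_le hP2' (hPle V (hVQ.trans hQP'))),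
            S2772.card_subgroupOf' ((hVQ.trans hQP').trans hPH), hV4]
      · have hS4 : seg g P 4 1 4 = P := Base.S_eq g P 4
        rw [hS4] at hAS hSA
        refine Or.inr ⟨P₀.map τ, (A.subgroupOf H).map τ, ?_, mem_map_of_mem τ (hQP hzQ'),
          map_mono (hPle A hAS), ?_, ?_⟩
        · rw [hinj _ hP2', hl]; norm_num
        · rintro ⟨u, hu, huz⟩
          have h := hinj1 (u⁻¹ * z) (mul_mem (inv_mem (hPle A hAS hu)) (hQP hzQ'))
            (by rw [map_mul, map_inv, huz, inv_mul_cancel])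
          rw [inv_mul_eq_one] at h
          exact hzA (mem_subgroupOf.1 (h ▸ hu))
        · rw [← MonoidHom.map_zpowers, ← Subgroup.map_sup]
          refine map_mono ?_
          rw [← map_le_map_iff_of_injective H.subtype_injective, Subgroup.map_sup,
            MonoidHom.map_zpowers, map_subgroupOf_eq_of_le (hAS.trans hPH), hPmap]
          exact hSA

end Cfsg.Agent.S4385
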