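import Cfsg.Statements.S4387
-- import your own Cfsg.Agent.* helpers here

set_option autoImplicit false
open Pointwise
open Cfsg

namespace Cfsg.Agent.S4387

theorem cover_ne_top {G : Type*} [Group G] [Finite G] (H : Subgroup G)
    (h : ∀ g : G, ∃ x : G, x⁻¹ * g * x ∈ H) : H = ⊤ := by
  classical
  have : Fintype G := Fintype.ofFinite G
  let f : (G ⧸ H) × {y : H // y ≠ 1} → {g : G // g ≠ 1} := fun a =>
    ⟨a.1.out * ((a.2.1 : H) : G) * a.1.out⁻¹, by
      intro he
      apply a.2.2
      apply Subtype.ext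
      simpa using he⟩
  have hf : Function.Surjective f := by
    rintro ⟨g, hg⟩
    obtain ⟨x, hx⟩ := h g
    obtain ⟨h', hh'⟩ := QuotientGroup.mk_out_eq_mul H x
    have hm : (h' : G)⁻¹ * (x⁻¹ * g * x) * h' ∈ H := mul_mem (mul_mem (inv_mem h'.2) hx) h'.2
    refine ⟨(QuotientGroup.mk x, ⟨⟨_, hm⟩, ?_⟩), ?_⟩
    · intro he
      apply hg
      have e : (h' : G)⁻¹ * (x⁻¹ * g * x) * h' = 1 := congrArg Subtype.val he
      calc g = x * h' * ((h' : G)⁻¹ * (x⁻¹ * g * x) * h') * (x * h')⁻¹ := by group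
        _ = 1 := by rw [e]; group
    · apply Subtype.ext
      simp only [f]
      rw [hh']
      group
  have hle := Nat.card_le_card_of_surjective f hf
  rw [Nat.card_prod, Nat.card_eq_fintype_card (α := {g : G // g ≠ 1}),
    Nat.card_eq_fintype_card (α := {y : H // y ≠ 1}), Fintype.card_subtype_compl,
    Fintype.card_subtype_compl, Fintype.card_subtype_eq, Fintype.card_subtype_eq,
    ← Nat.card_eq_fintype_card, ← Nat.card_eq_fintype_card] at hle
  have hm := H.index_mul_card
  have h1 : 1 ≤ Nat.card H := Nat.card_pos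
  have hi : 1 ≤ H.index := Nat.pos_of_ne_zero Subgroup.index_ne_zero_of_finite
  change Nat.card G - 1 ≤ H.index * (Nat.card H - 1) at hle
  rw [Nat.mul_sub, mul_one, hm] at hle
  have hG : 1 ≤ Nat.card G := Nat.card_pos
  have hiG : H.index ≤ Nat.card G := Nat.le_of_dvd Nat.card_pos H.index_dvd_card
  rw [← Subgroup.index_eq_one]
  omega

/-- Let G be a non-trivial finite group in which any two maximal subgroups are conjugate. Then G is cyclic of prime-power order. -/
theorem result {G : Type*} [Group G] [Finite G] [Nontrivial G]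
    (h : ∀ M N : Subgroup G, IsCoatom M → IsCoatom N → ∃ g : G, N = MulAut.conj g • M) :
    IsCyclic G ∧ IsPrimePow (Nat.card G) := by
  classical
  obtain ⟨M, hM, -⟩ := (eq_top_or_exists_le_coatom (⊥ : Subgroup G)).resolve_left bot_ne_top
  have hex : ∃ g : G, ∀ x : G, x⁻¹ * g * x ∉ M := by
    by_contra hc
    push_neg at hc
    exact hM.1 (cover_ne_top M hc)
  obtain ⟨g, hg⟩ := hex
  have htop : Subgroup.zpowers g = ⊤ := by
    by_contra hne
    obtain ⟨N, hN, hgN⟩ := (eq_top_or_exists_le_coatom (Subgroup.zpowers g)).resolve_left hne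
    obtain ⟨x, hx⟩ := h M N hM hN
    apply hg x
    have := hgN (Subgroup.mem_zpowers g)
    rw [hx, Subgroup.mem_pointwise_smul_iff_inv_smul_mem] at this
    simpa [MulAut.smul_def, mul_assoc] using this
  have hcyc : IsCyclic G := ⟨g, fun y => by
    rw [← Subgroup.mem_zpowers_iff]; rw [htop]; trivial⟩
  refine ⟨hcyc, ?_⟩
  have huniq : ∀ N : Subgroup G, IsCoatom N → N = M := by
    intro N hN
    obtain ⟨x, rfl⟩ := h M N hM hN
    ext y
    rw [Subgroup.mem_pointwise_smul_iff_inv_smul_mem]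
    have : IsMulCommutative G := IsCyclic.isMulCommutative
    have e : (MulAut.conj x)⁻¹ • y = y := by
      simp only [MulAut.smul_def, MulAut.conj_inv_apply]
      rw [IsMulCommutative.is_comm.comm x⁻¹ y]
      simp
    rw [e]
  have hone : M.index ≠ 1 := fun he => hM.1 (Subgroup.index_eq_one.mp he)
  obtain ⟨p, hp, hpd⟩ := Nat.exists_prime_and_dvd hone
  have : Fact p.Prime := ⟨hp⟩
  obtain ⟨P⟩ : Nonempty (Sylow p G) := Sylow.nonempty
  rcases eq_top_or_exists_le_coatom (P : Subgroup G) with hP | ⟨N, hN, hPN⟩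
  · obtain ⟨n, hn⟩ := IsPGroup.iff_card.mp P.2
    rw [hP, Subgroup.card_top] at hn
    refine (isPrimePow_nat_iff _).mpr ⟨p, n, hp, ?_, hn.symm⟩
    rcases Nat.eq_zero_or_pos n with rfl | hn0
    · rw [pow_zero] at hn
      exact absurd hn Finite.one_lt_card.ne'
    · exact hn0
  · rw [huniq N hN] at hPN
    exact absurd (hpd.trans (Subgroup.index_dvd_of_le hPN)) P.not_dvd_index

end Cfsg.Agent.S4387
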