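import Cfsg.Statements.S4394
import Cfsg.Agent.Lib.Solvable.Schmidt
import Cfsg.Agent.Lib.Coprime.Commutator
import Cfsg.Agent.Lib.Coprime.Generation
import Cfsg.Agent.Lib.Coprime.Stabilize
import Cfsg.Agent.Lib.Coprime.Basic
import Cfsg.Agent.Lib.PGroup.Frattini
import Cfsg.Agent.Lib.PCore.Faithful
import Cfsg.Agent.Lib.PCore.HallHigman
import Cfsg.Agent.Lib.PCore.HallHigmanDual
import Cfsg.Agent.Lib.PCore.Constrained
import Cfsg.Agent.Lib.PCore.PLength
import Cfsg.Agent.Lib.PCore.PSolvable
import Cfsg.Agent.Lib.Quadratic.Stability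
-- import your own Cfsg.Agent.* helpers here

set_option autoImplicit false
open Cfsg

namespace Cfsg.Agent.S4394

open Subgroup
open scoped commutatorElement Pointwise

universe u v

/-- The properties of the Sylow subgroup of a Schmidt group which are used; they pass to quotients. -/
structure Good (p : ℕ) (A : Type u) [Group A] : Prop where
  comm : ∀ x y : A, ⁅x, y⁆ ∈ center A
  pow : ∀ x : A, x ^ p ∈ center A
  surj : ∀ x : A, x ∉ center A → ∀ z ∈ center A, ∃ y : A, ⁅x, y⁆ = z
  small : (center A).index = p ^ 2 → p ≠ 3 ∧ (p = 2 → ∀ x : A, x ^ 2 = 1 → x ∈ center A)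

variable {p : ℕ}

/-- In a group of class two, `y ↦ [x, y]`. -/
def commC {A : Type u} [Group A] (h : ∀ x y : A, ⁅x, y⁆ ∈ center A) (x : A) : A →* center A where
  toFun y := ⟨⁅x, y⁆, h x y⟩
  map_one' := Subtype.ext (by simp)
  map_mul' y z := Subtype.ext (by
    have hc := mem_center_iff.mp (h x z) y
    show ⁅x, y * z⁆ = ⁅x, y⁆ * ⁅x, z⁆
    calc ⁅x, y * z⁆ = ⁅x, y⁆ * (y * ⁅x, z⁆ * y⁻¹) := by simp only [commutatorElement_def]; group
      _ = ⁅x, y⁆ * ⁅x, z⁆ := by rw [hc]; group)

theorem card_center_eq [Fact p.Prime] {A : Type u} [Group A] [Finite A] (hA : Good p A)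
    (hi : (center A).index = p ^ 2) {a : A} (ha : a ∉ center A) : Nat.card (center A) = p := by
  set φ := commC hA.comm a with hφ
  have hr : φ.range = ⊤ := top_le_iff.mp fun z _ => by
    obtain ⟨y, hy⟩ := hA.surj a ha z z.2
    exact ⟨y, Subtype.ext hy⟩
  have hker : φ.ker.index = Nat.card (center A) := by rw [Subgroup.index_ker, hr, Subgroup.card_top]
  have hmem : ∀ y : A, y ∈ φ.ker ↔ a * y = y * a := fun y => by
    rw [MonoidHom.mem_ker, ← commutatorElement_eq_one_iff_mul_comm]
    exact ⟨fun h => congrArg Subtype.val h, fun h => Subtype.ext h⟩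
  have hle : center A ≤ φ.ker := fun z hz => (hmem z).mpr (mem_center_iff.mp hz a)
  have hdvd : φ.ker.index ∣ p ^ 2 := hi ▸ index_dvd_of_le hle
  obtain ⟨k, hk, hk'⟩ := (Nat.dvd_prime_pow Fact.out).mp hdvd
  rcases Nat.lt_or_ge k 1 with h | h
  · have h0 : k = 0 := by omega
    rw [h0, pow_zero, index_eq_one] at hk'
    exact absurd (mem_center_iff.mpr fun y => ((hmem y).mp (hk' ▸ mem_top y)).symm) ha
  · rcases Nat.lt_or_ge k 2 with h' | h'
    · have h1 : k = 1 := by omega
      rw [h1, pow_one, hker] at hk'; exact hk'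
    · have h2 : k = 2 := by omega
      rw [h2, ← hi] at hk'
      have h3 := relIndex_mul_index hle
      rw [hk'] at h3
      have h4 : (center A).relIndex φ.ker = 1 :=
        (mul_eq_right₀ (by rw [hi]; exact pow_ne_zero _ (Fact.out : p.Prime).ne_zero)).mp h3
      exact absurd (relIndex_eq_one.mp h4 ((hmem a).mpr rfl)) ha

theorem Good.of_surjective [Fact p.Prime] {A : Type u} {B : Type v} [Group A] [Finite A] [Group B]
    (hA : Good p A) (f : A →* B) (hf : Function.Surjective f) : Good p B := by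
  have hmap : ∀ a ∈ center A, f a ∈ center B := fun a ha => mem_center_iff.mpr fun b => by
    obtain ⟨c, rfl⟩ := hf b
    rw [← map_mul, ← map_mul, mem_center_iff.mp ha c]
  have hcomm : ∀ x y : B, ⁅x, y⁆ ∈ center B := fun x y => by
    obtain ⟨a, rfl⟩ := hf x
    obtain ⟨c, rfl⟩ := hf y
    rw [← map_commutatorElement]
    exact hmap _ (hA.comm a c)
  have hpow : ∀ x : B, x ^ p ∈ center B := fun x => by
    obtain ⟨a, rfl⟩ := hf x
    rw [← map_pow]
    exact hmap _ (hA.pow a)
  by_cases hab : ∀ x y : B, x * y = y * x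
  · have htop : center B = ⊤ := top_le_iff.mp fun x _ => mem_center_iff.mpr fun y => hab y x
    refine ⟨hcomm, hpow, fun x hx => absurd (htop ▸ mem_top x) hx, fun hi => ?_⟩
    rw [htop, index_top] at hi
    exact absurd hi.symm (by
      have := Nat.one_lt_pow (n := 2) (by norm_num) (Fact.out : p.Prime).one_lt
      omega)
  · have hc : ∀ a : A, f a ∈ center B → a ∈ center A := fun a ha => by
      by_contra hne
      refine hab fun x y => ?_
      obtain ⟨a₁, rfl⟩ := hf x
      obtain ⟨a₂, rfl⟩ := hf y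
      obtain ⟨w, hw⟩ := hA.surj a hne _ (hA.comm a₁ a₂)
      rw [← commutatorElement_eq_one_iff_mul_comm, ← map_commutatorElement, ← hw,
        map_commutatorElement, commutatorElement_eq_one_iff_mul_comm]
      exact (mem_center_iff.mp ha _).symm
    have hcomap : (center B).comap f = center A := le_antisymm hc hmap
    refine ⟨hcomm, hpow, fun x hx z hz => ?_, fun hi => ?_⟩
    · obtain ⟨a, rfl⟩ := hf x
      obtain ⟨c, rfl⟩ := hf z
      obtain ⟨w, hw⟩ := hA.surj a (fun h => hx (hmap a h)) c (hc c hz)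
      exact ⟨f w, by rw [← map_commutatorElement, hw]⟩
    · have hiA : (center A).index = p ^ 2 := by
        rw [← hcomap, index_comap_of_surjective _ hf, hi]
      refine ⟨(hA.small hiA).1, fun hp2 x hx => ?_⟩
      obtain ⟨a, rfl⟩ := hf x
      by_contra hne
      have haZ : a ∉ center A := fun h => hne (hmap a h)
      have hcard := card_center_eq hA hiA haZ
      have hinj : a ^ 2 = 1 := by
        by_contra h1
        have hker : f (a ^ 2) = 1 := by rw [map_pow, hx]
        have hmem : a ^ 2 ∈ center A := hc _ (hker ▸ one_mem _)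
        refine hab fun x y => ?_
        obtain ⟨a₁, rfl⟩ := hf x
        obtain ⟨a₂, rfl⟩ := hf y
        have hz := zpowers_eq_top_of_prime_card (G := center A) hcard (g := ⟨a ^ 2, hmem⟩)
          (fun h => h1 (congrArg Subtype.val h))
        obtain ⟨k, hk⟩ : (⟨_, hA.comm a₁ a₂⟩ : center A) ∈ zpowers (⟨a ^ 2, hmem⟩ : center A) :=
          hz ▸ mem_top _
        have hk' : (a ^ 2) ^ k = ⁅a₁, a₂⁆ := congrArg Subtype.val hk
        rw [← commutatorElement_eq_one_iff_mul_comm, ← map_commutatorElement, ← hk', map_zpow,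
          hker, one_zpow]
      exact haZ ((hA.small hiA).2 hp2 a hinj)

/-- A `p`-group with an automorphism of prime order `q ≠ p` fixing all proper invariant subgroups. -/
theorem good_of_aut [Fact p.Prime] {q : ℕ} [hq : Fact q.Prime] (hpq : p ≠ q) {A : Type u} [Group A]
    [Finite A] (hP : IsPGroup p A) (α : MulAut A) (hαq : α ^ q = 1) (hne : α ≠ 1)
    (hinv : ∀ B : Subgroup A, B ≠ ⊤ → (∀ b ∈ B, α b ∈ B) → ∀ b ∈ B, α b = b) : Good p A := by
  have hp : p.Prime := Fact.out
  have hcop : ∀ c : A, c ^ q = 1 → c = 1 := fun c hc => by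
    obtain ⟨k, hk⟩ := hP c
    exact orderOf_eq_one_iff.mp (Nat.eq_one_of_dvd_coprimes
      (((Nat.coprime_primes hq.out hp).mpr hpq.symm).pow_right k)
      (orderOf_dvd_of_pow_eq_one hc) (orderOf_dvd_of_pow_eq_one hk))
  set L := closure (Set.range fun y : A => y⁻¹ * α y) with hL
  have hLtop : L = ⊤ := by
    by_contra hLne
    have hLi : ∀ b ∈ L, α b ∈ L := fun b hb => by
      have h : L ≤ L.comap α.toMonoidHom := by
        rw [hL, closure_le]
        rintro _ ⟨y, rfl⟩
        exact subset_closure ⟨α y, by simp⟩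
      exact h hb
    refine hne (MulEquiv.ext fun y => ?_)
    have hfix : α (y⁻¹ * α y) = y⁻¹ * α y := hinv L hLne hLi _ (subset_closure ⟨y, rfl⟩)
    have hk : ∀ k : ℕ, (α ^ k) y = y * (y⁻¹ * α y) ^ k := by
      intro k
      induction k with
      | zero => simp
      | succ k ih =>
        rw [pow_succ', MulAut.mul_apply, ih, map_mul, map_pow, hfix, pow_succ', ← mul_assoc,
          mul_inv_cancel_left]
    have := hk q
    rw [hαq] at this
    have h1 := hcop _ (by simpa using this)
    simpa using (inv_mul_eq_one.mp h1).symm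
  -- proper invariant normal subgroups are central
  have hcent : ∀ B : Subgroup A, B.Normal → B ≠ ⊤ → (∀ b ∈ B, α b ∈ B) → B ≤ center A := by
    intro B hBn hB hBi b hb
    have hmem : L ≤ centralizer ({b} : Set A) := by
      rw [hL, closure_le]
      rintro _ ⟨y, rfl⟩
      have hc : ⁅b, y⁆ ∈ B := by
        rw [commutatorElement_def, mul_assoc, mul_assoc, ← mul_assoc y]
        exact B.mul_mem hb (hBn.conj_mem _ (B.inv_mem hb) y)
      have h1 := hinv B hB hBi _ hc
      rw [map_commutatorElement, hinv B hB hBi b hb] at h1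
      simp only [commutatorElement_def] at h1
      refine mem_centralizer_singleton_iff.mpr ?_
      have e1 : α y * b⁻¹ * (α y)⁻¹ = y * b⁻¹ * y⁻¹ := by
        simpa [mul_assoc] using h1
      calc y⁻¹ * α y * b = y⁻¹ * (α y * b⁻¹ * (α y)⁻¹)⁻¹ * α y := by group
        _ = b * (y⁻¹ * α y) := by rw [e1]; group
    refine mem_center_iff.mpr fun y => ?_
    exact (mem_centralizer_singleton_iff.mp (hmem (hLtop ▸ mem_top y)))
  have hcenti : ∀ b ∈ center A, α b ∈ center A := fun b hb => mem_center_iff.mpr fun y => by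
    rw [← α.apply_symm_apply y, ← map_mul, ← map_mul, mem_center_iff.mp hb]
  by_cases hab : center A = ⊤
  · refine ⟨fun _ _ => hab ▸ mem_top _, fun _ => hab ▸ mem_top _,
      fun x hx => absurd (hab ▸ mem_top x) hx, fun hi => ?_⟩
    rw [hab, index_top] at hi
    exact absurd hi.symm (by
      have := Nat.one_lt_pow (n := 2) (by norm_num) hp.one_lt
      omega)
  haveI : Nontrivial A := by
    by_contra h
    rw [not_nontrivial_iff_subsingleton] at h
    exact hab (top_le_iff.mp fun x _ => by rw [Subsingleton.elim x 1]; exact one_mem _)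
  have hfrat : frattini A ≤ center A := by
    refine hcent _ inferInstance (fun h => ?_) fun b hb => ?_
    · obtain ⟨M, hM, -⟩ := (eq_top_or_exists_le_coatom (⊥ : Subgroup A)).resolve_left bot_ne_top
      exact hM.1 (top_le_iff.mp (h ▸ iInf₂_le M hM))
    · have := frattini_characteristic (G := A)
      exact (characteristic_iff_map_le.mp this α) ⟨b, hb, rfl⟩
  have hcomm : ∀ x y : A, ⁅x, y⁆ ∈ center A := fun x y =>
    hfrat (PGroup.commutator_le_frattini hP (commutator_mem_commutator (mem_top _) (mem_top _)))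
  have hfix : ∀ z ∈ center A, α z = z := hinv _ hab hcenti
  -- the centre is the derived subgroup
  have hZc : center A ≤ commutator A := fun z hz => by
    have hab' : ∀ y : A, Abelianization.of (α y) = Abelianization.of y →
        Abelianization.of (y⁻¹ * α y) = 1 := fun y h => by rw [map_mul, map_inv, h, inv_mul_cancel]
    let ψ : A →* Abelianization A :=
      { toFun := fun y => ∏ i ∈ Finset.range q, Abelianization.of ((α ^ i) y)
        map_one' := by simp
        map_mul' := fun a b => by simp [Finset.prod_mul_distrib] }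
    have hψα : ∀ y, ψ (α y) = ψ y := fun y => by
      show ∏ i ∈ Finset.range q, Abelianization.of ((α ^ i) (α y)) =
        ∏ i ∈ Finset.range q, Abelianization.of ((α ^ i) y)
      simp only [← MulAut.mul_apply, ← pow_succ]
      refine mul_right_cancel (b := Abelianization.of ((α ^ 0) y)) ?_
      rw [← Finset.prod_range_succ' (fun i => Abelianization.of ((α ^ i) y)), Finset.prod_range_succ,
        hαq, pow_zero]
    have hψ : ψ.ker = ⊤ := top_le_iff.mp (hLtop ▸ (closure_le _).mpr (by
      rintro _ ⟨y, rfl⟩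
      simp [hψα]))
    have h1 : ψ z = 1 := MonoidHom.mem_ker.mp (hψ ▸ mem_top z)
    have h2 : ∀ i : ℕ, (α ^ i) z = z := fun i => by
      induction i with
      | zero => simp
      | succ i ih => rw [pow_succ', MulAut.mul_apply, ih, hfix z hz]
    change (∏ i ∈ Finset.range q, Abelianization.of ((α ^ i) z)) = 1 at h1
    simp only [h2, Finset.prod_const, Finset.card_range, ← map_pow] at h1
    obtain ⟨k, hk⟩ := hP z
    have h3 : Abelianization.of z = 1 := orderOf_eq_one_iff.mp (Nat.eq_one_of_dvd_coprimes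
      (((Nat.coprime_primes hq.out hp).mpr hpq.symm).pow_right k)
      (orderOf_dvd_of_pow_eq_one (by rw [← map_pow]; exact h1))
      (orderOf_dvd_of_pow_eq_one (by rw [← map_pow, hk, map_one])))
    rwa [← MonoidHom.mem_ker, Abelianization.ker_of] at h3
  -- a coset of the centre fixed up to powers is the centre
  have hline : ∀ w : A, α w ∈ center A ⊔ zpowers w → w ∈ center A := fun w hw => by
    have hle : center A ⊔ zpowers w ≤ centralizer ({w} : Set A) := sup_le
      (fun z hz => mem_centralizer_singleton_iff.mpr ((mem_center_iff.mp hz w).symm))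
      (zpowers_le.mpr (mem_centralizer_singleton_iff.mpr rfl))
    by_contra hne'
    have hn : (center A ⊔ zpowers w).Normal := ⟨fun b hb y => by
      have : y * b * y⁻¹ = ⁅y, b⁆ * b := by simp only [commutatorElement_def]; group
      rw [this]
      exact mul_mem (mem_sup_left (hcomm y b)) hb⟩
    refine hne' (hcent _ hn (fun h => ?_) (fun b hb => ?_) (mem_sup_right (mem_zpowers w)))
    · exact hne' (mem_center_iff.mpr fun y => mem_centralizer_singleton_iff.mp (hle (h ▸ mem_top y)))
    · have h : center A ⊔ zpowers w ≤ (center A ⊔ zpowers w).comap α.toMonoidHom :=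
        sup_le (fun z hz => mem_sup_left (hcenti z hz)) (zpowers_le.mpr hw)
      exact h hb
  have hsurj : ∀ x : A, x ∉ center A → ∀ z ∈ center A, ∃ y : A, ⁅x, y⁆ = z := by
    intro x hx z hz
    set M := (commC hcomm x).range.map (center A).subtype with hM
    have hMmem : ∀ y, ⁅x, y⁆ ∈ M := fun y => ⟨_, ⟨y, rfl⟩, rfl⟩
    suffices h : commutator A ≤ M by
      obtain ⟨_, ⟨y, rfl⟩, hy⟩ := h (hZc hz)
      exact ⟨y, hy⟩
    have hMZ : M ≤ center A := by rintro _ ⟨m, -, rfl⟩; exact m.2
    let T : Subgroup A :=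
      { carrier := {y | ∀ w, ⁅y, w⁆ ∈ M}
        one_mem' := fun w => by simp
        mul_mem' := fun {y y'} hy hy' w => by
          have hc := mem_center_iff.mp (hMZ (hy' w)) y
          have : ⁅y * y', w⁆ = ⁅y', w⁆ * ⁅y, w⁆ := by
            calc ⁅y * y', w⁆ = (y * ⁅y', w⁆ * y⁻¹) * ⁅y, w⁆ := by
                  simp only [commutatorElement_def]; group
              _ = _ := by rw [hc]; group
          rw [this]
          exact mul_mem (hy' w) (hy w)
        inv_mem' := fun {y} hy w => by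
          have hc := mem_center_iff.mp (hMZ (inv_mem (hy w))) y⁻¹
          have : ⁅y⁻¹, w⁆ = ⁅y, w⁆⁻¹ := by
            calc ⁅y⁻¹, w⁆ = y⁻¹ * ⁅y, w⁆⁻¹ * y := by simp only [commutatorElement_def]; group
              _ = _ := by rw [hc]; group
          rw [this]
          exact inv_mem (hy w) }
    have hxT : x ∈ T := hMmem
    have hZT : center A ≤ T := fun z hz w => by
      rw [commutatorElement_eq_one_iff_mul_comm.mpr (mem_center_iff.mp hz w).symm]; exact one_mem _
    have hTtop : T = ⊤ := by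
      by_contra hT
      refine hx (hcent T ⟨fun b hb y => ?_⟩ hT (fun b hb w => ?_) hxT)
      · have : y * b * y⁻¹ = ⁅y, b⁆ * b := by simp only [commutatorElement_def]; group
        rw [this]
        exact mul_mem (hZT (hcomm y b)) hb
      · have h1 := hb (α.symm w)
        have h2 := hfix _ (hMZ h1)
        rw [map_commutatorElement, MulEquiv.apply_symm_apply] at h2
        rw [h2]; exact h1
    rw [_root_.commutator_def, commutator_le]
    exact fun a _ b _ => (hTtop ▸ mem_top a : a ∈ T) b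
  refine ⟨hcomm, fun x => hfrat (PGroup.pow_mem_frattini hP x), hsurj, fun hi => ?_⟩
  · have hcard : Nat.card (A ⧸ center A) = p ^ 2 := hi
    have hmap : (center A).map (α : A →* A) = center A := by
      refine le_antisymm ?_ fun z hz => ⟨z, hz, hfix z hz⟩
      rintro _ ⟨z, hz, rfl⟩
      exact hcenti z hz
    let β : MulAut (A ⧸ center A) := QuotientGroup.congr (center A) (center A) α hmap
    have hβ : ∀ a : A, β (a : A ⧸ center A) = ((α a : A) : A ⧸ center A) := fun a =>
      QuotientGroup.congr_mk' _ _ α hmap a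
    have hβline : ∀ a : A, β (a : A ⧸ center A) ∈ zpowers (a : A ⧸ center A) → a ∈ center A := by
      rintro a ⟨k, hk⟩
      refine hline a ?_
      rw [hβ] at hk
      have : (a ^ k)⁻¹ * α a ∈ center A := QuotientGroup.eq.mp (by simpa using hk)
      have h2 := mul_mem (mem_sup_right (zpow_mem (mem_zpowers a) k) : a ^ k ∈ center A ⊔ zpowers a)
        (mem_sup_left this)
      rwa [mul_inv_cancel_left] at h2
    have hcommQ : ∀ s t : A ⧸ center A, s * t = t * s := fun s t => by
      induction s using QuotientGroup.induction_on with | _ s => ?_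
      induction t using QuotientGroup.induction_on with | _ t => ?_
      rw [← QuotientGroup.mk_mul, ← QuotientGroup.mk_mul, QuotientGroup.eq]
      have e : (s * t)⁻¹ * (t * s) = ⁅t⁻¹, s⁻¹⁆ := by simp only [commutatorElement_def]; group
      rw [e]; exact hcomm _ _
    refine ⟨fun hp3 => ?_, fun hp2 x hx => ?_⟩
    · -- nine cosets, only the trivial one is fixed
      have hβq : (MulAut.toPerm _ β : Equiv.Perm (A ⧸ center A)) ^ q = 1 := by
        rw [← map_pow]
        have hk : ∀ (k : ℕ) (a : A), (β ^ k) (a : A ⧸ center A) = (((α ^ k) a : A) : A ⧸ center A) := by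
          intro k a
          induction k with
          | zero => simp
          | succ k ih => rw [pow_succ', pow_succ', MulAut.mul_apply, MulAut.mul_apply, ih, hβ]
        ext t
        induction t using QuotientGroup.induction_on with | _ t => ?_
        show (β ^ q) (t : A ⧸ center A) = _
        rw [hk, hαq]; rfl
      set σ := (MulAut.toPerm _ β : Equiv.Perm (A ⧸ center A)) with hσ
      have hσp : IsPGroup q (zpowers σ) := by
        obtain ⟨k, -, hk⟩ := (Nat.dvd_prime_pow hq.out).mp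
          (show orderOf σ ∣ q ^ 1 by rw [pow_one]; exact orderOf_dvd_of_pow_eq_one hβq)
        exact IsPGroup.of_card (n := k) (by rw [Nat.card_zpowers, hk])
      have hfixed : MulAction.fixedPoints (zpowers σ) (A ⧸ center A) = {1} := by
        ext t
        rw [Set.mem_singleton_iff, MulAction.mem_fixedPoints]
        constructor
        · intro h
          induction t using QuotientGroup.induction_on with | _ t => ?_
          rw [QuotientGroup.eq_one_iff]
          refine hβline t ?_
          have := h ⟨σ, mem_zpowers σ⟩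
          rw [show β (t : A ⧸ center A) = (t : A ⧸ center A) from this]
          exact mem_zpowers _
        · rintro rfl ⟨τ, k, rfl⟩
          show (σ ^ k) 1 = 1
          rw [hσ, ← map_zpow]
          exact map_one (β ^ k)
      have hmod := hσp.card_modEq_card_fixedPoints (A ⧸ center A)
      rw [hfixed, hcard, hp3, Nat.card_eq_fintype_card, Set.card_singleton] at hmod
      have hdvd : q ∣ 3 ^ 2 - 1 := (Nat.modEq_iff_dvd' (by norm_num)).mp hmod.symm
      have hq2 : q = 2 := by
        norm_num at hdvd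
        exact (Nat.prime_dvd_prime_iff_eq hq.out Nat.prime_two).mp
          (hq.out.dvd_of_dvd_pow (n := 3) (by norm_num; exact hdvd))
      obtain ⟨x, hx⟩ : ∃ x : A, x ∉ center A := by
        by_contra! h; exact hab (top_le_iff.mp fun x _ => h x)
      refine hx (hline x ?_)
      have h2 : α (α x) = x := by
        rw [← MulAut.mul_apply, ← pow_two, ← hq2, hαq, MulAut.one_apply]
      have hw : x * α x ∈ center A := by
        refine hline _ ?_
        rw [map_mul, h2, show α x * x = ⁅α x, x⁆ * (x * α x) by simp only [commutatorElement_def]; group]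
        exact mul_mem (mem_sup_left (hcomm _ _)) (mem_sup_right (mem_zpowers _))
      have h3 : α x = x⁻¹ * (x * α x) := by group
      rw [h3]
      exact mul_mem (mem_sup_right (inv_mem (mem_zpowers x))) (mem_sup_left hw)
    · by_contra hxZ
      classical
      have := Fintype.ofFinite (A ⧸ center A)
      set X : A ⧸ center A := (x : A ⧸ center A) with hX
      have hX1 : X ≠ 1 := fun h => hxZ ((QuotientGroup.eq_one_iff x).mp h)
      have hX2 : X * X = 1 := by rw [← pow_two, hX, ← QuotientGroup.mk_pow, hx, QuotientGroup.mk_one]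
      set Y := β X with hY
      have hY1 : Y ≠ 1 := by rwa [hY, Ne, MulEquiv.map_eq_one_iff]
      have hXY : X ≠ Y := fun h => hxZ (hβline x (by rw [← hX, ← hY, ← h]; exact mem_zpowers _))
      have hXY1 : X * Y ≠ 1 := fun h => hXY (mul_left_cancel (hX2.trans h.symm))
      have hXY2 : X * Y ≠ X := fun h => hY1 (by simpa using h)
      have hXY3 : X * Y ≠ Y := fun h => hX1 (by simpa using h)
      have huniv : ({1, X, Y, X * Y} : Finset (A ⧸ center A)) = Finset.univ := by
        refine Finset.eq_univ_of_card _ ?_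
        rw [← Nat.card_eq_fintype_card, hcard, hp2]
        simp [Ne.symm hX1, Ne.symm hY1, hXY, Ne.symm hXY1, Ne.symm hXY2, Ne.symm hXY3]
      have hz2 : ∀ z ∈ center A, z ^ 2 = 1 := fun z hz => by
        obtain ⟨w, rfl⟩ := hsurj x hxZ z hz
        have hc := mem_center_iff.mp (hcomm x w) x
        calc ⁅x, w⁆ ^ 2 = x * ⁅x, w⁆ * x⁻¹ * ⁅x, w⁆ := by rw [hc, pow_two, mul_inv_cancel_right]
          _ = x ^ 2 * w * (x ^ 2)⁻¹ * w⁻¹ := by simp only [commutatorElement_def, pow_two]; group
          _ = 1 := by rw [hx]; group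
      have hsq : ∀ u v : A, (u : A ⧸ center A) = (v : A ⧸ center A) → u ^ 2 = v ^ 2 := fun u v h => by
        have hm : u⁻¹ * v ∈ center A := QuotientGroup.eq.mp h
        have e : v = u * (u⁻¹ * v) := by group
        rw [e, Commute.mul_pow (mem_center_iff.mp hm u), hz2 _ hm, mul_one]
      have hbsq : (α x) ^ 2 = 1 := by rw [← map_pow, hx, map_one]
      have hcases : β Y = 1 ∨ β Y = X ∨ β Y = Y ∨ β Y = X * Y := by
        have := Finset.mem_univ (β Y)
        rw [← huniv] at this
        simpa using this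
      rcases hcases with h | h | h | h
      · exact hY1 ((MulEquiv.map_eq_one_iff β).mp h)
      · have hfx : β (X * Y) = X * Y := by rw [map_mul, ← hY, h, hcommQ]
        have hm : x * α x ∈ center A := hβline _ (by
          rw [QuotientGroup.mk_mul, ← hβ, ← hX, ← hY, hfx]; exact mem_zpowers _)
        exact hXY1 (by
          rw [hY, hX, hβ, ← QuotientGroup.mk_mul, QuotientGroup.eq_one_iff]; exact hm)
      · exact hXY (β.injective (h.trans hY)).symm
      · have hw : (x * α x) ^ 2 = 1 := by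
          rw [← hsq (α (α x)) (x * α x) (by rw [QuotientGroup.mk_mul, ← hβ, ← hβ, ← hX, ← hY, h]),
            ← map_pow, hbsq, map_one]
        have hcomm' : Commute x (α x) := by
          have hxi : x⁻¹ = x := by rw [inv_eq_iff_mul_eq_one, ← pow_two, hx]
          have hbi : (α x)⁻¹ = α x := by rw [inv_eq_iff_mul_eq_one, ← pow_two, hbsq]
          have hwi : (x * α x)⁻¹ = x * α x := by rw [inv_eq_iff_mul_eq_one, ← pow_two, hw]
          rw [mul_inv_rev, hxi, hbi] at hwi
          exact hwi.symm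
        refine hxZ (mem_center_iff.mpr fun y => ?_)
        have hy := Finset.mem_univ (y : A ⧸ center A)
        rw [← huniv] at hy
        have hk : ∀ v : A, (y : A ⧸ center A) = (v : A ⧸ center A) → Commute x v → y * x = x * y := by
          intro v hv hcv
          have hm : v⁻¹ * y ∈ center A := QuotientGroup.eq.mp hv.symm
          have e : y = v * (v⁻¹ * y) := by group
          have hc : Commute x y := by
            rw [e]; exact hcv.mul_right (mem_center_iff.mp hm x)
          exact hc.symm.eq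
        simp only [Finset.mem_insert, Finset.mem_singleton] at hy
        rcases hy with h | h | h | h
        · exact hk 1 (by simpa using h) (Commute.one_right x)
        · exact hk x h (Commute.refl x)
        · exact hk (α x) (by rw [h, hY, hX, hβ]) hcomm'
        · exact hk (x * α x) (by rw [h, hY, hX, hβ, QuotientGroup.mk_mul]) ((Commute.refl x).mul_right hcomm')



/-- The core: with trivial `p'`-core a good Sylow subgroup is normal. -/
theorem sylow_le_pCore : ∀ (n : ℕ) [Fact p.Prime] {G : Type u} [Group G] [Finite G], Nat.card G = n →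
    IsPSolvable p G → pPrimeCore p G = ⊥ → ∀ P : Sylow p G, Good p ↥(P : Subgroup G) →
    (P : Subgroup G) ≤ pCore p G := by
  intro n
  induction n using Nat.strong_induction_on with | _ n ih => ?_
  intro _ G _ _ hn hs h0 P hgood
  have hp : p.Prime := Fact.out
  have hV0 : centralizer (pCore p G : Set G) ≤ pCore p G := PCore.centralizer_pCore_le hs h0
  set V := pCore p G with hVdef
  haveI hVn : V.Normal := pCore_normal p G
  have hVP : V ≤ P := PCore.pCore_le_sylow P
  have hVp : IsPGroup p V := PCore.isPGroup_pCore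
  have hstep : ∀ (N : Subgroup G) [N.Normal], N ≤ V → N ≠ ⊥ →
      (∀ g : G, (∀ v ∈ V, g * v * g⁻¹ * v⁻¹ ∈ N) → g ∈ V) → (P : Subgroup G) ≤ V := by
    intro N _ hNV hNb hN
    have hVmap : V.map (QuotientGroup.mk' N) = pCore p (G ⧸ N) :=
      PCore.map_pCore_quotient N (hVp.to_le hNV)
    have hcp : centralizer (pCore p (G ⧸ N) : Set (G ⧸ N)) ≤ pCore p (G ⧸ N) := by
      intro c hc
      obtain ⟨g, rfl⟩ := QuotientGroup.mk'_surjective N c
      rw [← hVmap]
      refine mem_map_of_mem _ (hN g fun v hv => ?_)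
      have h1 := mem_centralizer_iff.mp hc _ (hVmap ▸ mem_map_of_mem (QuotientGroup.mk' N) hv)
      rw [← QuotientGroup.eq_one_iff]
      simp only [QuotientGroup.mk'_apply] at h1
      simp [← h1]
    have hcard : Nat.card (G ⧸ N) < n := by
      rw [← hn, ← index_eq_card, ← N.card_mul_index]
      exact lt_mul_of_one_lt_left (Nat.pos_of_ne_zero index_ne_zero_of_finite)
        (N.one_lt_card_iff_ne_bot.mpr hNb)
    have hle := ih _ hcard rfl (PCore.isPSolvable_quotient hs N) (PCore.pPrimeCore_eq_bot_of_cp hcp)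
      (P.mapSurjective (QuotientGroup.mk'_surjective N)) (by
        rw [Sylow.coe_mapSurjective]
        exact hgood.of_surjective ((QuotientGroup.mk' N).subgroupMap (P : Subgroup G))
          ((QuotientGroup.mk' N).subgroupMap_surjective _))
    intro x hx
    have h1 : QuotientGroup.mk' N x ∈ pCore p (G ⧸ N) := hle (by
      rw [Sylow.coe_mapSurjective]; exact mem_map_of_mem _ hx)
    rw [← hVmap] at h1
    obtain ⟨v, hv, hvx⟩ := h1
    have h2 : v⁻¹ * x ∈ V := hNV (QuotientGroup.eq.mp hvx)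
    simpa using V.mul_mem hv h2
  by_cases hΦ : (frattini V).map V.subtype = ⊥
  swap
  · exact hstep _ (map_subtype_le _) hΦ fun g hg => (PCore.mem_pCore_iff_frattini hV0).mp hg
  obtain ⟨hVc, hVe⟩ := (PGroup.frattini_eq_bot_iff hVp).mp
    ((Subgroup.map_eq_bot_iff_of_injective _ V.subtype_injective).mp hΦ)
  have hVcomm : ∀ a ∈ V, ∀ b ∈ V, a * b = b * a := fun a ha b hb =>
    congrArg Subtype.val (hVc.is_comm.comm (⟨a, ha⟩ : V) ⟨b, hb⟩)
  have hVexp : ∀ v ∈ V, v ^ p = 1 := fun v hv => congrArg Subtype.val (hVe ⟨v, hv⟩)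
  have hVC : V ≤ centralizer (V : Set G) := fun a ha =>
    mem_centralizer_iff.mpr fun b hb => hVcomm b hb a ha
  have hCV : centralizer (V : Set G) = V := le_antisymm hV0 hVC
  -- a complement to `V` in `O_{p,p'}(G)`
  set W := (pPrimeCore p (G ⧸ V)).comap (QuotientGroup.mk' V) with hWdef
  haveI hWn : W.Normal := by rw [hWdef]; infer_instance
  have hVW : V ≤ W := fun v hv => by
    show QuotientGroup.mk' V v ∈ pPrimeCore p (G ⧸ V)
    rw [QuotientGroup.mk'_apply, (QuotientGroup.eq_one_iff v).mpr hv]; exact one_mem _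
  have hidx : (Nat.card (V.subgroupOf W)).Coprime (V.subgroupOf W).index := by
    rw [Nat.card_congr (subgroupOfEquivOfLe hVW).toEquiv]
    obtain ⟨k, hk⟩ := IsPGroup.iff_card.mp hVp
    rw [hk]
    refine ((PCore.coprime_card_pPrimeCore (p := p) (G := G ⧸ V)).coprime_dvd_left ?_).symm.pow_left k
    rw [show (V.subgroupOf W).index = V.relIndex W from rfl, hWdef, PCore.relIndex_comap_mk']
  obtain ⟨R', hR'⟩ := exists_right_complement'_of_coprime hidx
  set R := R'.map W.subtype with hRdef
  have hRW : R ≤ W := map_subtype_le _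
  have hRco : (Nat.card R).Coprime p := by
    rw [hRdef, card_map_of_injective W.subtype_injective, ← hR'.symm.index_eq_card,
      show (V.subgroupOf W).index = V.relIndex W from rfl, hWdef, PCore.relIndex_comap_mk']
    exact PCore.coprime_card_pPrimeCore
  have hcopRV : (Nat.card R).Coprime (Nat.card V) := by
    obtain ⟨k, hk⟩ := IsPGroup.iff_card.mp hVp
    rw [hk]; exact hRco.pow_right k
  have hVR : ∀ x, x ∈ V → x ∈ R → x = 1 := fun x hx hx' =>
    mem_bot.mp ((Coprime.disjoint_of_coprime_card hcopRV).le (mem_inf.mpr ⟨hx', hx⟩))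
  have hRdec : ∀ w ∈ W, ∃ v ∈ V, ∃ r ∈ R, w = v * r := fun w hw => by
    obtain ⟨⟨a, b⟩, hab⟩ := hR'.surjective (⟨w, hw⟩ : W)
    exact ⟨(a : W), a.2, (b : W), ⟨b, b.2, rfl⟩, (congrArg Subtype.val hab).symm⟩
  -- Frattini argument
  have hfr : ∀ g : G, ∃ v ∈ V, v⁻¹ * g ∈ normalizer (R : Set G) := fun g => by
    obtain ⟨v, hv, hv'⟩ := Coprime.exists_conj_eq_of_le_sup (N := V) (H := R)
      (K := MulAut.conj g • R) (by rw [normalizer_eq_top]; exact le_top) (fun x hx => by
        rw [Coprime.mem_conj_smul_iff] at hx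
        have hxW : x ∈ W := by
          have := hWn.conj_mem _ (hRW hx) g
          group at this ⊢
          exact this
        obtain ⟨v, hv, r, hr, rfl⟩ := hRdec x hxW
        exact mul_mem (mem_sup_right hv) (mem_sup_left hr))
      (Coprime.card_conj_smul g R) hcopRV
      (Or.inl (Group.isSolvable_of_comm fun a b => hVc.is_comm.comm a b))
    refine ⟨v, hv, Coprime.mem_normalizer_of_conj_smul_eq ?_⟩
    rw [← Coprime.conj_smul_smul, ← hv', Coprime.conj_smul_smul, inv_mul_cancel, map_one, one_smul]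
  by_cases hD : V ⊓ centralizer (R : Set G) = ⊥
  swap
  · set D := V ⊓ centralizer (R : Set G) with hDdef
    haveI : D.Normal := ⟨fun d hd g => by
      obtain ⟨v, hv, hn'⟩ := hfr g
      have h1 : (v⁻¹ * g) * d * (v⁻¹ * g)⁻¹ ∈ D := by
        refine ⟨hVn.conj_mem _ hd.1 _, mem_centralizer_iff.mpr fun r hr => ?_⟩
        have hr' : (v⁻¹ * g)⁻¹ * r * (v⁻¹ * g) ∈ R := by
          simpa using (mem_normalizer_iff.mp (inv_mem hn') r).mp hr
        have h2 := mem_centralizer_iff.mp hd.2 _ hr'
        calc r * ((v⁻¹ * g) * d * (v⁻¹ * g)⁻¹)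
            = (v⁻¹ * g) * (((v⁻¹ * g)⁻¹ * r * (v⁻¹ * g)) * d) * (v⁻¹ * g)⁻¹ := by group
          _ = _ := by rw [h2]; group
      have h3 := hVcomm v hv _ h1.1
      have h4 : g * d * g⁻¹ = v * ((v⁻¹ * g) * d * (v⁻¹ * g)⁻¹) * v⁻¹ := by group
      rw [h4, h3, mul_inv_cancel_right]
      exact h1⟩
    refine hstep D inf_le_left hD fun g hg => ?_
    let B : Subgroup (G ⧸ D) := V.map (QuotientGroup.mk' D)
    haveI : B.Normal := hVn.map _ (QuotientGroup.mk'_surjective D)
    set A := (centralizer (B : Set (G ⧸ D))).comap (QuotientGroup.mk' D) with hA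
    have hAmem : ∀ a : G, a ∈ A ↔ ∀ v ∈ V, a * v * a⁻¹ * v⁻¹ ∈ D := fun a => by
      rw [hA, mem_comap, mem_centralizer_iff]
      constructor
      · intro h v hv
        rw [← QuotientGroup.eq_one_iff]
        have := h _ ⟨v, hv, rfl⟩
        simp only [QuotientGroup.mk'_apply] at this
        simp [← this]
      · rintro h _ ⟨v, hv, rfl⟩
        have := (QuotientGroup.eq_one_iff _).mpr (h v hv)
        simp only [QuotientGroup.mk_mul, QuotientGroup.mk_inv, mul_inv_eq_iff_eq_mul, one_mul] at this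
        exact this.symm
    haveI hAn : A.Normal := by rw [hA]; infer_instance
    have hAW : ∀ a ∈ A, a ∈ W → a ∈ V := fun a ha haW => by
      obtain ⟨v, hv, r, hr, rfl⟩ := hRdec a haW
      suffices hrV : r ∈ V by exact V.mul_mem hv hrV
      refine hV0 (mem_centralizer_iff.mpr fun u hu => ?_)
      have h1 := (hAmem _).mp ha u hu
      have hru : r * u * r⁻¹ ∈ V := hVn.conj_mem u hu r
      have e : v * r * u * (v * r)⁻¹ = r * u * r⁻¹ := by
        rw [show v * r * u * (v * r)⁻¹ = v * (r * u * r⁻¹) * v⁻¹ by group, hVcomm v hv _ hru,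
          mul_inv_cancel_right]
      rw [e] at h1
      refine (Coprime.commute_of_translate (a := r) (h := u) (z := r * u * r⁻¹ * u⁻¹)
        (by group) ?_ (Coprime.orderOf_coprime_of_mem hr (inf_le_left (b := centralizer (R : Set G)) h1)
          hcopRV)).symm.eq
      exact (mem_centralizer_iff.mp h1.2 r hr)
    have hgA : g ∈ A := (hAmem g).mpr hg
    suffices hq : QuotientGroup.mk' V g = 1 by
      rwa [QuotientGroup.mk'_apply, QuotientGroup.eq_one_iff] at hq
    have hcen : QuotientGroup.mk' V g ∈ centralizer (pPrimeCore p (G ⧸ V) : Set (G ⧸ V)) := by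
      refine mem_centralizer_iff.mpr fun w hw => ?_
      obtain ⟨w, rfl⟩ := QuotientGroup.mk'_surjective V w
      refine commutatorElement_eq_one_iff_mul_comm.mp ?_
      rw [← map_commutatorElement, QuotientGroup.mk'_apply, QuotientGroup.eq_one_iff]
      refine hAW _ ?_ ?_
      · rw [commutatorElement_def]; exact A.mul_mem (hAn.conj_mem g hgA w) (A.inv_mem hgA)
      · rw [commutatorElement_def, mul_assoc, mul_assoc, ← mul_assoc g]
        exact W.mul_mem hw (hWn.conj_mem _ (W.inv_mem hw) g)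
    have hgW : g ∈ W := PCore.centralizer_pPrimeCore_le (PCore.isPSolvable_quotient hs V)
      PCore.pCore_quotient_self_eq_bot hcen
    rw [QuotientGroup.mk'_apply, QuotientGroup.eq_one_iff]
    exact hAW g hgA hgW
  -- now the Sylow subgroup splits over `V`
  intro y hy
  by_contra hyV
  set Q := (P : Subgroup G) ⊓ normalizer (R : Set G) with hQdef
  have hQV : ∀ x ∈ Q, x ∈ V → x = 1 := fun x hx hxV => by
    refine mem_bot.mp (hD ▸ ⟨hxV, mem_centralizer_iff.mpr fun r hr => ?_⟩ : x ∈ (⊥ : Subgroup G))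
    have h1 : x * r * x⁻¹ * r⁻¹ ∈ R := mul_mem ((mem_normalizer_iff.mp hx.2 r).mp hr) (inv_mem hr)
    have h2 : x * r * x⁻¹ * r⁻¹ ∈ V := by
      rw [mul_assoc, mul_assoc, ← mul_assoc r]
      exact V.mul_mem hxV (hVn.conj_mem _ (V.inv_mem hxV) r)
    have := hVR _ h2 h1
    rw [mul_inv_eq_one, mul_inv_eq_iff_eq_mul] at this
    exact this.symm
  have hPdec : ∀ x ∈ (P : Subgroup G), ∃ v ∈ V, ∃ q ∈ Q, x = v * q := fun x hx => by
    obtain ⟨v, hv, hn'⟩ := hfr x
    exact ⟨v, hv, v⁻¹ * x, mem_inf.mpr ⟨mul_mem (inv_mem (hVP hv)) hx, hn'⟩, by group⟩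
  set Z := (center ↥(P : Subgroup G)).map (P : Subgroup G).subtype with hZ
  have hZmem : ∀ z, z ∈ Z ↔ z ∈ (P : Subgroup G) ∧ ∀ x ∈ (P : Subgroup G), x * z = z * x := fun z => by
    constructor
    · rintro ⟨w, hw, rfl⟩
      exact ⟨w.2, fun x hx => congrArg Subtype.val (mem_center_iff.mp hw ⟨x, hx⟩)⟩
    · rintro ⟨hz, h⟩
      exact ⟨⟨z, hz⟩, mem_center_iff.mpr fun x => Subtype.ext (h x x.2), rfl⟩
  have hZV : Z ≤ V := fun z hz => hV0 (mem_centralizer_iff.mpr fun v hv => ((hZmem z).mp hz).2 v (hVP hv))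
  have hcm : ∀ a ∈ (P : Subgroup G), ∀ b ∈ (P : Subgroup G), ⁅a, b⁆ ∈ Z := fun a ha b hb =>
    ⟨_, hgood.comm ⟨a, ha⟩ ⟨b, hb⟩, rfl⟩
  have hQcomm : ∀ a ∈ Q, ∀ b ∈ Q, a * b = b * a := fun a ha b hb => by
    refine commutatorElement_eq_one_iff_mul_comm.mp (hQV _ ?_ (hZV (hcm a ha.1 b hb.1)))
    rw [commutatorElement_def]
    exact mul_mem (mul_mem (mul_mem ha hb) (inv_mem ha)) (inv_mem hb)
  haveI : IsMulCommutative Q := ⟨⟨fun a b => Subtype.ext (hQcomm a a.2 b b.2)⟩⟩
  have hQexp : ∀ x ∈ Q, x ^ p = 1 := fun x hx =>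
    hQV _ (pow_mem hx p) (hZV ⟨_, hgood.pow ⟨x, hx.1⟩, rfl⟩)
  have hsurj : ∀ x ∈ Q, x ≠ 1 → ∀ z ∈ Z, ∃ v ∈ V, ⁅x, v⁆ = z := fun x hx hx1 z hz => by
    obtain ⟨⟨z', hz'P⟩, hz', rfl⟩ := hz
    obtain ⟨⟨w, hwP⟩, hw⟩ := hgood.surj ⟨x, hx.1⟩ (fun h => hx1 (hQV x hx (hZV ⟨_, h, rfl⟩))) _ hz'
    obtain ⟨v, hv, q, hq, rfl⟩ := hPdec w hwP
    refine ⟨v, hv, ?_⟩
    have h1 : ⁅x, v * q⁆ = z' := congrArg Subtype.val hw
    show ⁅x, v⁆ = z'
    rw [← h1, show ⁅x, v * q⁆ = ⁅x, v⁆ * (v * ⁅x, q⁆ * v⁻¹) by simp only [commutatorElement_def]; group,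
      commutatorElement_eq_one_iff_mul_comm.mpr (hQcomm x hx q hq), mul_one, mul_inv_cancel, mul_one]
  have hQR : ∀ x ∈ Q, (∀ r ∈ R, r * x = x * r) → x = 1 := fun x hx h => by
    refine hQV x hx ?_
    have hcen : QuotientGroup.mk' V x ∈ centralizer (pPrimeCore p (G ⧸ V) : Set (G ⧸ V)) := by
      refine mem_centralizer_iff.mpr fun w hw => ?_
      obtain ⟨w, rfl⟩ := QuotientGroup.mk'_surjective V w
      obtain ⟨v, hv, r, hr, rfl⟩ := hRdec w hw
      have h1 : QuotientGroup.mk' V v = 1 := (QuotientGroup.eq_one_iff v).mpr hv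
      rw [map_mul, h1, one_mul, ← map_mul, h r hr, map_mul]
    have hxW : x ∈ W := PCore.centralizer_pPrimeCore_le (PCore.isPSolvable_quotient hs V)
      PCore.pCore_quotient_self_eq_bot hcen
    obtain ⟨v, hv, r, hr, hxr⟩ := hRdec x hxW
    have hrP : r ∈ (P : Subgroup G) := by
      rw [show r = v⁻¹ * x by rw [hxr]; group]
      exact mul_mem (inv_mem (hVP hv)) hx.1
    obtain ⟨k, hk⟩ := IsPGroup.iff_orderOf.mp P.2 ⟨r, hrP⟩
    rw [← Subgroup.orderOf_coe] at hk
    have hr1 : r = 1 := orderOf_eq_one_iff.mp (Nat.eq_one_of_dvd_coprimes (hRco.pow_right k)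
      (R.orderOf_dvd_natCard hr) (hk ▸ dvd_rfl))
    rw [hxr, hr1, mul_one]; exact hv
  obtain ⟨v₀, hv₀, q₀, hq₀, hyq⟩ := hPdec y hy
  have hq₀1 : q₀ ≠ 1 := by
    rintro rfl
    rw [mul_one] at hyq
    exact hyV (hyq ▸ hv₀)
  by_cases hcyc : IsCyclic Q
  swap
  · have hQn : Q ≤ normalizer (R : Set G) := inf_le_right
    have hQp : IsPGroup p Q := P.2.to_le inf_le_left
    have hcop : (Nat.card Q).Coprime (Nat.card R) := by
      obtain ⟨k, hk⟩ := IsPGroup.iff_card.mp hQp
      rw [hk]; exact (hRco.pow_right k).symm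
    have hRN : R ≤ normalizer (Z : Set G) := by
      rw [← Coprime.iSup_centralizer_eq hcyc hQn hcop]
      refine iSup₂_le fun x hx r hr => ?_
      have key : ∀ r' ∈ R ⊓ centralizer ({x} : Set G), ∀ z ∈ Z, r' * z * r'⁻¹ ∈ Z := by
        intro r' hr' z hz
        obtain ⟨v, hv, rfl⟩ := hsurj x hx.1 hx.2 z hz
        have h1 : r' * x * r'⁻¹ = x := by
          rw [mem_centralizer_singleton_iff.mp hr'.2, mul_inv_cancel_right]
        rw [← MulAut.conj_apply, map_commutatorElement, MulAut.conj_apply, MulAut.conj_apply, h1]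
        exact hcm x hx.1.1 _ (hVP (hVn.conj_mem v hv r'))
      refine mem_normalizer_iff.mpr fun z => ⟨key r hr z, fun h => ?_⟩
      have := key r⁻¹ (inv_mem hr) _ h
      simpa [mul_assoc] using this
    refine hq₀1 (hQR q₀ hq₀ fun r hr => ?_)
    set c := ⁅r, q₀⁆ with hc
    have hqr : q₀ * r⁻¹ * q₀⁻¹ ∈ R := (mem_normalizer_iff.mp hq₀.2 _).mp (inv_mem hr)
    have hcR : c ∈ R := by
      rw [hc, commutatorElement_def, mul_assoc, mul_assoc, ← mul_assoc q₀]
      exact mul_mem hr hqr
    refine commutatorElement_eq_one_iff_mul_comm.mp (hVR c (hV0 ?_) hcR)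
    have hcz : ∀ z ∈ Z, Commute c z := fun z hz => by
      have hz' := (hZmem _).mp ((mem_normalizer_iff.mp (hRN (inv_mem hr)) z).mp hz)
      have h1 : q₀ * z * q₀⁻¹ = z := by rw [((hZmem z).mp hz).2 q₀ hq₀.1, mul_inv_cancel_right]
      have h1' : q₀⁻¹ * z * q₀ = z := by
        rw [((hZmem z).mp hz).2 q₀⁻¹ (inv_mem hq₀.1), inv_mul_cancel_right]
      have h2 := hz'.2 q₀ hq₀.1
      show c * z = z * c
      rw [← mul_inv_eq_iff_eq_mul]
      calc c * z * c⁻¹ = r * (q₀ * (r⁻¹ * (q₀⁻¹ * z * q₀) * r) * q₀⁻¹) * r⁻¹ := by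
            rw [hc, commutatorElement_def]; group
        _ = r * (q₀ * (r⁻¹ * z * r⁻¹⁻¹) * q₀⁻¹) * r⁻¹ := by rw [h1', inv_inv]
        _ = r * (r⁻¹ * z * r⁻¹⁻¹) * r⁻¹ := by rw [h2, mul_inv_cancel_right]
        _ = z := by group
    refine mem_centralizer_iff.mpr fun v hv => ?_
    have hzv : c * v * c⁻¹ * v⁻¹ ∈ Z := by
      let B : Subgroup G := normalizer (Z : Set G)
      have hqZ : ∀ u ∈ V, ⁅q₀, u⁆ ∈ Z := fun u hu => hcm q₀ hq₀.1 u (hVP hu)
      have hqiZ : ∀ u ∈ V, ⁅q₀⁻¹, u⁆ ∈ Z := fun u hu => hcm _ (inv_mem hq₀.1) u (hVP hu)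
      -- v ↦ r v r⁻¹ and v ↦ q₀ v q₀⁻¹ commute modulo Z
      set u := r⁻¹ * (q₀⁻¹ * v * q₀) * r with hu
      have hv1 : q₀⁻¹ * v * q₀ ∈ V := by simpa using hVn.conj_mem v hv q₀⁻¹
      have huV : u ∈ V := by simpa [hu] using hVn.conj_mem _ hv1 r⁻¹
      have e : c * v * c⁻¹ * v⁻¹ =
          (r * ⁅q₀, u⁆ * r⁻¹) * ⁅q₀⁻¹, v⁆ := by
        simp only [hc, hu, commutatorElement_def]; group
      rw [e]
      exact mul_mem ((mem_normalizer_iff.mp (hRN hr) _).mp (hqZ u huV)) (hqiZ v hv)
    exact (Coprime.commute_of_translate (a := c) (h := v) (z := c * v * c⁻¹ * v⁻¹) (by group)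
      (hcz _ hzv) (Coprime.orderOf_coprime_of_mem hcR (hZV hzv) hcopRV)).symm.eq
  -- `Q` of order `p`
  have hgen : zpowers q₀ = Q := by
    haveI := hcyc
    obtain ⟨g, hg⟩ := IsCyclic.exists_generator (α := Q)
    have hcard : Nat.card Q = p := by
      have h1 : orderOf (g : G) ∣ p := orderOf_dvd_of_pow_eq_one (hQexp g g.2)
      rw [Subgroup.orderOf_coe, orderOf_eq_card_of_forall_mem_zpowers hg] at h1
      refine ((Nat.dvd_prime hp).mp h1).resolve_left fun h => hq₀1 ?_
      exact mem_bot.mp (card_eq_one.mp h ▸ hq₀)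
    refine eq_of_le_of_card_ge (zpowers_le.mpr hq₀) (le_of_eq ?_)
    rw [hcard, Nat.card_zpowers, orderOf_eq_prime (hQexp _ hq₀) hq₀1]
  set x : ↥(P : Subgroup G) := ⟨q₀, hq₀.1⟩ with hxdef
  have hxZ : x ∉ center ↥(P : Subgroup G) := fun h => hq₀1 (hQV q₀ hq₀ (hZV ⟨_, h, rfl⟩))
  -- the index of the centre is `p ^ 2`
  set C := (centralizer ({q₀} : Set G)) ⊓ V with hC
  have hCZ : C = Z := by
    refine le_antisymm (fun v hv => (hZmem v).mpr ⟨hVP hv.2, fun w hw => ?_⟩) fun z hz =>
      ⟨mem_centralizer_singleton_iff.mpr (((hZmem z).mp hz).2 q₀ hq₀.1).symm, hZV hz⟩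
    obtain ⟨v', hv', q, hq, rfl⟩ := hPdec w hw
    obtain ⟨k, rfl⟩ : q ∈ zpowers q₀ := hgen ▸ hq
    have h1 : Commute (q₀ ^ k) v :=
      (Commute.symm (mem_centralizer_singleton_iff.mp hv.1)).zpow_left k
    show v' * q₀ ^ k * v = v * (v' * q₀ ^ k)
    rw [mul_assoc, h1.eq, ← mul_assoc, hVcomm v' hv' v hv.2, mul_assoc]
  let φ : V →* Z :=
    { toFun := fun v => ⟨⁅q₀, (v : G)⁆, hcm q₀ hq₀.1 v (hVP v.2)⟩
      map_one' := Subtype.ext (by simp)
      map_mul' := fun a b => Subtype.ext (by
        have hb := ((hZmem _).mp (hcm q₀ hq₀.1 b (hVP b.2))).2 a (hVP a.2)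
        show ⁅q₀, (a : G) * b⁆ = ⁅q₀, (a : G)⁆ * ⁅q₀, (b : G)⁆
        calc ⁅q₀, (a : G) * b⁆ = ⁅q₀, (a : G)⁆ * ((a : G) * ⁅q₀, (b : G)⁆ * (a : G)⁻¹) := by
              simp only [commutatorElement_def]; group
          _ = _ := by rw [hb]; group) }
  have hφs : Function.Surjective φ := fun z => by
    obtain ⟨v, hv, h⟩ := hsurj q₀ hq₀ hq₀1 z z.2
    exact ⟨⟨v, hv⟩, Subtype.ext h⟩
  have hφk : φ.ker = Z.subgroupOf V := by
    ext v
    rw [mem_subgroupOf, MonoidHom.mem_ker]
    refine Iff.trans ?_ (iff_of_eq (congrArg ((v : G) ∈ ·) hCZ))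
    refine ⟨fun h => ⟨mem_centralizer_singleton_iff.mpr
      (commutatorElement_eq_one_iff_mul_comm.mp (congrArg Subtype.val h)).symm, v.2⟩, fun h => Subtype.ext ?_⟩
    exact commutatorElement_eq_one_iff_mul_comm.mpr (mem_centralizer_singleton_iff.mp h.1).symm
  have hVZ : Z.relIndex V = Nat.card Z := by
    rw [show Z.relIndex V = (Z.subgroupOf V).index from rfl, ← hφk, index_ker,
      MonoidHom.range_eq_top.mpr hφs, Subgroup.card_top]
  have hPV : V.relIndex (P : Subgroup G) = p := by
    have hPs : (P : Subgroup G) = Q ⊔ V := le_antisymm (fun w hw => by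
      obtain ⟨v, hv, q, hq, rfl⟩ := hPdec w hw
      exact mul_mem (mem_sup_right hv) (mem_sup_left hq)) (sup_le inf_le_left hVP)
    have h1 : Q ⊓ V = ⊥ := eq_bot_iff.mpr fun w hw => mem_bot.mpr (hQV w hw.1 hw.2)
    rw [hPs, relIndex_sup_right, ← inf_relIndex_right, inf_comm, h1, relIndex_bot_left, ← hgen,
      Nat.card_zpowers, orderOf_eq_prime (hQexp _ hq₀) hq₀1]
  -- some element of `V` outside the centre
  obtain ⟨v₁, hv₁, hv₁Z⟩ : ∃ v ∈ V, v ∉ Z := by
    by_contra! h
    exact hxZ (mem_center_iff.mpr fun w => Subtype.ext (by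
      obtain ⟨v', hv', q, hq, hw⟩ := hPdec w w.2
      show (w : G) * q₀ = q₀ * w
      rw [hw, mul_assoc, hQcomm q hq q₀ hq₀, ← mul_assoc, ← ((hZmem v').mp (h v' hv')).2 q₀ hq₀.1,
        mul_assoc]))
  set y₁ : ↥(P : Subgroup G) := ⟨v₁, hVP hv₁⟩ with hy₁
  have hy₁Z : y₁ ∉ center ↥(P : Subgroup G) := fun h => hv₁Z ⟨_, h, rfl⟩
  have hZp : Nat.card Z = p := by
    rw [hZ, card_map_of_injective (P : Subgroup G).subtype_injective]
    set ψ := commC hgood.comm y₁
    have hr : ψ.range = ⊤ := top_le_iff.mp fun z _ => by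
      obtain ⟨w, hw⟩ := hgood.surj y₁ hy₁Z z z.2
      exact ⟨w, Subtype.ext hw⟩
    have hle : V.subgroupOf (P : Subgroup G) ≤ ψ.ker := fun w hw => Subtype.ext
      (commutatorElement_eq_one_iff_mul_comm.mpr (Subtype.ext (hVcomm v₁ hv₁ w hw)))
    have h1 := index_dvd_of_le hle
    rw [index_ker, hr, Subgroup.card_top, show (V.subgroupOf (P : Subgroup G)).index =
      V.relIndex (P : Subgroup G) from rfl, hPV] at h1
    refine ((Nat.dvd_prime hp).mp h1).resolve_left fun h => hy₁Z ?_
    have hbot : center ↥(P : Subgroup G) = ⊥ := card_eq_one.mp h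
    exact mem_center_iff.mpr fun w => (commutatorElement_eq_one_iff_mul_comm.mp
      (mem_bot.mp (hbot ▸ hgood.comm w y₁)))
  have hidxZ : (center ↥(P : Subgroup G)).index = p ^ 2 := by
    have h : Z.relIndex (P : Subgroup G) = (center ↥(P : Subgroup G)).index := by
      rw [hZ, show ((center ↥(P : Subgroup G)).map (P : Subgroup G).subtype).relIndex (P : Subgroup G) =
        (((center ↥(P : Subgroup G)).map (P : Subgroup G).subtype).subgroupOf (P : Subgroup G)).index
        from rfl, subgroupOf, comap_map_eq_self_of_injective (P : Subgroup G).subtype_injective]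
    rw [← h, ← relIndex_mul_relIndex Z V P hZV hVP, hVZ, hPV, hZp, pow_two]
  obtain ⟨hp3, hp2⟩ := hgood.small hidxZ
  have hp5 : 5 ≤ p := by
    by_cases h2 : p = 2
    · exact absurd (hp2 h2 x (Subtype.ext (h2 ▸ hQexp q₀ hq₀ : q₀ ^ 2 = 1))) hxZ
    · have := hp.two_le
      by_contra h
      have h4 : p = 4 := by omega
      exact absurd (h4 ▸ hp) (by norm_num)
  have hVab : IsElementaryAbelian p V := ⟨hVc, hVexp⟩
  have hquad : ⁅⁅V, zpowers q₀⁆, zpowers q₀⁆ = ⊥ := by
    rw [commutator_eq_bot_iff_le_centralizer]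
    refine commutator_le.mpr fun v hv w hw => ?_
    obtain ⟨k, rfl⟩ := hw
    refine mem_centralizer_iff.mpr ?_
    rintro _ ⟨l, rfl⟩
    exact ((hZmem _).mp (hcm v (hVP hv) _ (zpow_mem (mem_inf.mp hq₀).1 k))).2 _
      (zpow_mem (mem_inf.mp hq₀).1 l)
  have hst := Quadratic.isPStableOn_of_pSolvable hp5 hs V hVab q₀ hquad
  have hpc : pCore p (G ⧸ centralizer (V : Set G)) = ⊥ := by
    rw [PCore.pCore_eq_bot_congr (QuotientGroup.quotientMulEquivOfEq hCV)]
    exact PCore.pCore_quotient_self_eq_bot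
  rw [hpc, mem_bot, QuotientGroup.eq_one_iff, hCV] at hst
  exact hq₀1 (hQV q₀ hq₀ hst)

/-- Let X be a finite minimal non-nilpotent group (not nilpotent, every proper subgroup nilpotent) with a nontrivial normal Sylow p-subgroup P. If G is a finite p-solvable group whose Sylow p-subgroups are isomorphic to P, then G has p-length at most 1. -/
theorem result {G X : Type*} [Group G] [Finite G] [Group X] [Finite X] (p : ℕ) [Fact p.Prime]
    (hX : Cfsg.IsMinimalNonNilpotent X) (P : Sylow p X) (hPn : (P : Subgroup X).Normal) (hP1 : (P : Subgroup X) ≠ ⊥)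
    (hG : Cfsg.IsPSolvable p G) (Q : Sylow p G) (hQ : Nonempty (↥(Q : Subgroup G) ≃* ↥(P : Subgroup X))) : Cfsg.PLengthLE p 1 G := by
  obtain ⟨e⟩ := hQ
  obtain ⟨q, p', hq, hp', hqp', P', Q', g, hP', hQ'n, htop, hgC, hsub⟩ := Solvable.schmidt hX
  have := Fact.mk hq
  have := Fact.mk hp'
  have hgP' : g ∈ (P' : Subgroup X) := hP' ▸ mem_zpowers g
  -- `p` is the prime of the normal factor
  have hpp' : p = p' := by
    by_contra hne
    have hp0 : p ∣ Nat.card X := by
      obtain ⟨k, hk⟩ := IsPGroup.iff_card.mp P.2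
      have hk0 : k ≠ 0 := by
        rintro rfl
        exact hP1 (card_eq_one.mp (by rw [hk, pow_zero]))
      exact ((dvd_pow_self p hk0).trans hk.symm.dvd).trans (card_subgroup_dvd_card _)
    have hc : Nat.card X ∣ Nat.card (Q' : Subgroup X) * Nat.card (P' : Subgroup X) := by
      have h := PCore.card_sup_dvd (Q' : Subgroup X) (P' : Subgroup X)
      rwa [sup_comm, htop, Subgroup.card_top] at h
    obtain ⟨i, hi⟩ := IsPGroup.iff_card.mp P'.2
    obtain ⟨j, hj⟩ := IsPGroup.iff_card.mp Q'.2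
    rw [hi, hj] at hc
    rcases (Fact.out : p.Prime).dvd_mul.mp (hp0.trans hc) with h | h
    · exact hne ((Nat.prime_dvd_prime_iff_eq Fact.out hp').mp ((Fact.out : p.Prime).dvd_of_dvd_pow h))
    · have hpq : p = q :=
        (Nat.prime_dvd_prime_iff_eq Fact.out hq).mp ((Fact.out : p.Prime).dvd_of_dvd_pow h)
      subst hpq
      have := P.unique_of_normal hPn
      have hP'n : (P' : Subgroup X).Normal := by rw [Subsingleton.elim P' P]; exact hPn
      exact hgC (mem_centralizer_iff.mpr fun x hx => commute_of_normal_of_disjoint _ _ hQ'n hP'n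
        (IsPGroup.disjoint_of_ne p' p (fun h => hne h.symm) _ _ Q'.2 P'.2) x g hx hgP')
  subst hpp'
  have := Q'.unique_of_normal hQ'n
  obtain rfl : P = Q' := Subsingleton.elim _ _
  set A := (P : Subgroup X) with hA
  let θ : X →* MulAut A := MulAut.conjNormal
  have hθ : ∀ (x : X) (a : A), ((θ x a : A) : X) = x * (a : X) * x⁻¹ := fun x a =>
    MulAut.conjNormal_apply x a
  obtain ⟨k, hk⟩ := IsPGroup.iff_orderOf.mp P'.2 ⟨g, hgP'⟩
  rw [← Subgroup.orderOf_coe] at hk
  change orderOf g = q ^ k at hk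
  -- the action has order `q`
  have hαq : θ g ^ q = 1 := by
    rw [← map_pow]
    have hne : A ⊔ zpowers (g ^ q) ≠ ⊤ := by
      intro h
      have hd := (Subgroup.card_top (G := X)).symm.dvd.trans (h ▸ PCore.card_sup_dvd A (zpowers (g ^ q)))
      have hfull : A.index ∣ orderOf (g ^ q) := by
        rw [← A.card_mul_index, Nat.card_zpowers] at hd
        exact (Nat.mul_dvd_mul_iff_left Nat.card_pos).mp hd
      have hAidx : q ^ k ∣ A.index := by
        have h1 : (Nat.card (zpowers g)).Coprime (Nat.card A) := by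
          rw [← hP']; exact IsPGroup.coprime_card_of_ne q p hqp' _ _ P'.2 P.2
        rw [Nat.card_zpowers, hk] at h1
        have h2 : q ^ k ∣ Nat.card X := hk ▸ orderOf_dvd_natCard g
        rw [← A.card_mul_index] at h2
        exact h1.dvd_of_dvd_mul_left h2
      have hk0 : k ≠ 0 := by
        rintro rfl
        rw [pow_zero, orderOf_eq_one_iff] at hk
        exact hgC (hk ▸ one_mem _)
      have h3 := hAidx.trans hfull
      rw [orderOf_pow_of_dvd hq.ne_zero (hk ▸ dvd_pow_self q hk0), hk] at h3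
      have h4 := Nat.le_of_dvd (Nat.div_pos (Nat.le_of_dvd (pow_pos hq.pos k) (dvd_pow_self q hk0)) hq.pos) h3
      exact absurd h4 (not_le.mpr (Nat.div_lt_self (pow_pos hq.pos k) hq.one_lt))
    have := hX.2 _ hne
    refine MulEquiv.ext fun a => Subtype.ext ?_
    obtain ⟨j, hj⟩ := IsPGroup.iff_orderOf.mp P.2 a
    rw [← Subgroup.orderOf_coe] at hj
    obtain ⟨i, -, hi⟩ := (Nat.dvd_prime_pow hq).mp (hk ▸ orderOf_pow_dvd (x := g) q)
    have hc : Commute (g ^ q) (a : X) := congrArg Subtype.val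
      (Solvable.commute_of_nilpotent hqp' (x := (⟨g ^ q, mem_sup_right (mem_zpowers _)⟩ :
        ↥(A ⊔ zpowers (g ^ q)))) (y := ⟨a, mem_sup_left a.2⟩)
        (by rw [← Subgroup.orderOf_coe]; exact hi) (by rw [← Subgroup.orderOf_coe]; exact hj)).eq
    rw [hθ, MulAut.one_apply, hc.eq, mul_inv_cancel_right]
  have hα1 : θ g ≠ 1 := fun h => hgC (mem_centralizer_iff.mpr fun a ha => by
    have := congrArg Subtype.val (DFunLike.congr_fun h ⟨a, ha⟩)
    rw [hθ, MulAut.one_apply] at this
    exact (mul_inv_eq_iff_eq_mul.mp this).symm)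
  have hinv : ∀ B : Subgroup A, B ≠ ⊤ → (∀ b ∈ B, θ g b ∈ B) → ∀ b ∈ B, θ g b = b := by
    intro B hB hBi b hb
    set B' := B.map A.subtype with hB'
    have hnorm : zpowers g ≤ normalizer (B' : Set X) := by
      rw [zpowers_le]
      refine Coprime.mem_normalizer_of_conj_smul_eq (eq_of_le_of_card_ge ?_
        (Coprime.card_conj_smul g B').ge)
      rintro _ ⟨_, ⟨c, hc, rfl⟩, rfl⟩
      exact ⟨_, hBi c hc, hθ g c⟩
    have hne : B' ⊔ zpowers g ≠ ⊤ := fun h => hB (top_le_iff.mp fun a _ => by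
      have ha : (a : X) ∈ B' ⊔ zpowers g := h ▸ mem_top _
      rw [sup_comm, Coprime.mem_sup_iff_of_le_normalizer hnorm] at ha
      obtain ⟨u, hu, w, hw, hmul⟩ := ha
      obtain ⟨c, hc, rfl⟩ := hw
      have huA : u ∈ A := by
        rw [show u = (a : X) * (c : X)⁻¹ by rw [← hmul]; exact (mul_inv_cancel_right u _).symm]
        exact A.mul_mem a.2 (A.inv_mem c.2)
      have hu1 : u = 1 := disjoint_def.mp (IsPGroup.disjoint_of_ne q p hqp' _ _ P'.2 P.2)
        (hP' ▸ hu) huA
      rw [hu1, one_mul] at hmul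
      exact (Subtype.ext hmul.symm : a = c) ▸ hc)
    have := hX.2 _ hne
    obtain ⟨j, hj⟩ := IsPGroup.iff_orderOf.mp P.2 b
    rw [← Subgroup.orderOf_coe] at hj
    have hc : Commute g (b : X) := congrArg Subtype.val
      (Solvable.commute_of_nilpotent hqp' (x := (⟨g, mem_sup_right (mem_zpowers _)⟩ :
        ↥(B' ⊔ zpowers g))) (y := ⟨b, mem_sup_left ⟨b, hb, rfl⟩⟩)
        (by rw [← Subgroup.orderOf_coe]; exact hk) (by rw [← Subgroup.orderOf_coe]; exact hj)).eq
    apply Subtype.ext
    rw [hθ, hc.eq, mul_inv_cancel_right]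
  have hgood : Good p ↥(Q : Subgroup G) :=
    (good_of_aut (Ne.symm hqp') P.2 (θ g) hαq hα1 hinv).of_surjective e.symm.toMonoidHom e.symm.surjective
  -- pass to `G / O_{p'}(G)`
  set N := pPrimeCore p G with hN
  set π := QuotientGroup.mk' N with hπ
  have h0 : pPrimeCore p (G ⧸ N) = ⊥ := PCore.pPrimeCore_quotient_self_eq_bot
  set S := Q.mapSurjective (QuotientGroup.mk'_surjective N) with hS
  have hgS : Good p ↥(S : Subgroup (G ⧸ N)) := by
    rw [hS, Sylow.coe_mapSurjective]
    exact hgood.of_surjective (π.subgroupMap (Q : Subgroup G)) (π.subgroupMap_surjective _)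
  have hle := sylow_le_pCore _ rfl (PCore.isPSolvable_quotient hG N) h0 S hgS
  refine PCore.pLengthLE_of_ker_le_pPrimeCore π (QuotientGroup.mk'_surjective N)
    (by rw [hπ, QuotientGroup.ker_mk']) ?_
  refine PCore.pLengthLE_succ_of_isPGroup_ker (QuotientGroup.mk' (pCore p (G ⧸ N)))
    (QuotientGroup.mk'_surjective _) (by rw [QuotientGroup.ker_mk']) (k := 0) ?_
  rw [PCore.pLengthLE_zero_iff, ← index_eq_card]
  exact (((Fact.out : p.Prime).coprime_iff_not_dvd.mpr S.not_dvd_index).symm).coprime_dvd_left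
    (index_dvd_of_le hle)

end Cfsg.Agent.S4394
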