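import Cfsg.Statements.S4395
import Cfsg.Agent.Lib.SchmidtUniversal.Main

set_option autoImplicit false
open Cfsg

namespace Cfsg.Agent.S4395

universe u

open Cfsg.Agent

/-- Maximal Schmidt groups: for distinct primes p, q and r ≥ 1, with a the order of p modulo q and a₀ equal to a for odd a and 3a/2 for even a, there is a minimal non-p-nilpotent group of order p^a₀ q^r of which every minimal non-p-nilpotent group of order p^t q^r is a quotient by a central subgroup. -/
theorem result (p q r : ℕ) [Fact p.Prime] [Fact q.Prime] (hpq : p ≠ q) (hr : 1 ≤ r) (a a₀ : ℕ)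
    (ha : a = orderOf (p : ZMod q)) (ha₀ : a₀ = if a % 2 = 1 then a else 3 * a / 2) :
    ∃ (G₀ : Type u) (_ : Group G₀) (_ : Finite G₀),
      (¬ Cfsg.HasNormalPComplement p G₀ ∧ ∀ K : Subgroup G₀, K ≠ ⊤ → Cfsg.HasNormalPComplement p ↥K) ∧ Nat.card G₀ = p ^ a₀ * q ^ r ∧
      ∀ (X : Type u) [Group X] [Finite X], (¬ Cfsg.HasNormalPComplement p X ∧ ∀ K : Subgroup X, K ≠ ⊤ → Cfsg.HasNormalPComplement p ↥K) →
        (∃ t : ℕ, Nat.card X = p ^ t * q ^ r) → ∃ φ : G₀ →* X, Function.Surjective φ ∧ φ.ker ≤ Subgroup.center G₀ := by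
  classical
  have hp : p.Prime := Fact.out
  have hq : q.Prime := Fact.out
  have ha0 : a ≠ 0 := by
    rw [ha, ← pos_iff_ne_zero, orderOf_pos_iff]
    have hne : (p : ZMod q) ≠ 0 := by
      rw [Ne, ZMod.natCast_eq_zero_iff]
      exact fun hd => hpq ((Nat.prime_dvd_prime_iff_eq hq hp).mp hd).symm
    exact isOfFinOrder_iff_pow_eq_one.mpr ⟨q - 1, by have := hq.two_le; omega, ZMod.pow_card_sub_one_eq_one hne⟩
  -- the field and the root of unity
  let K := GaloisField p a
  have hK : Nat.card K = p ^ a := GaloisField.card p a ha0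
  haveI : Finite K := Nat.finite_of_card_ne_zero (by rw [hK]; exact pow_ne_zero _ hp.ne_zero)
  have hdvd : q ∣ Nat.card Kˣ := by
    rw [Nat.card_units, hK, ← ZMod.natCast_eq_zero_iff, Nat.cast_sub (Nat.one_le_pow _ _ hp.pos),
      Nat.cast_pow, ha, pow_orderOf_eq_one, Nat.cast_one, sub_self]
  obtain ⟨z, hz⟩ := exists_prime_orderOf_dvd_card' q hdvd
  let ζ : ULift.{u} K := ULift.up (z : K)
  have h : SchmidtUniversal.Setting p q a ζ :=
    { hp := hp, hq := hq, hpq := hpq
      card := by rw [Nat.card_ulift, hK]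
      order := by
        have := orderOf_injective (ULift.ringEquiv (R := K)).symm.toRingHom.toMonoidHom
          (ULift.ringEquiv (R := K)).symm.injective (z : K)
        exact this.trans ((orderOf_units (y := z)).trans hz)
      ha := ha }
  have hr0 : r ≠ 0 := by omega
  obtain ⟨G, iG, iGf, A₀, iA, iAf, D₀, E₀, hA₀p, hA₀, huniv⟩ := h.exists_universal r hr0
  refine ⟨G, iG, iGf, ⟨E₀.not_hasNormalPComplement h hA₀p, E₀.proper_hasNormalPComplement h hA₀p⟩,
    by rw [E₀.card_eq h hA₀p, hA₀, ha₀], ?_⟩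
  intro X _ _ hX hcard
  obtain ⟨A, D, ⟨E⟩⟩ := SchmidtUniversal.exists_ext h X hX.1 hX.2 hcard
  exact huniv X A D E

end Cfsg.Agent.S4395
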