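import Cfsg.Statements.S4396
import Cfsg.Agent.Lib.FrobFree.Semilinear
import Cfsg.Agent.Lib.Solvable.Schmidt

set_option autoImplicit false
open Cfsg

namespace Cfsg.Agent.S4396

open scoped commutatorElement Pointwise

section Abelian

variable {k V A : Type*} [Field k] [AddCommGroup V] [Module k V] [FiniteDimensional k V]
  [Group A] [Finite A]

/-- Abelian operators without fixed vectors, in coprime characteristic. -/
theorem freeOn_abelian (ρ : Representation k A V) (H Z : Subgroup A) [Fintype H] [Z.Normal]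
    (hcard : (Nat.card Z : k) ≠ 0) (hcomm : ∀ a ∈ Z, ∀ b ∈ Z, ρ a * ρ b = ρ b * ρ a)
    (hfix : ∀ v : V, (∀ z ∈ Z, ρ z v = v) → v = 0)
    (hfpf : ∀ h ∈ H, h ≠ 1 → ∀ z ∈ Z, h * z = z * h → z = 1) :
    FrobFree.FreeOn (ρ.comp H.subtype) ⊤ := by
  classical
  set E := Algebra.adjoin k (ρ '' (Z : Set A)) with hE
  have hc : IsMulCommutative E := Algebra.isMulCommutative_adjoin k (by
    rintro _ ⟨a, ha, rfl⟩ _ ⟨b, hb, rfl⟩
    exact hcomm a ha b hb)
  letI : CommRing E := { (inferInstance : Ring E) with mul_comm := fun a b => hc.is_comm.comm a b }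
  have hmem : ∀ z : Z, ρ z ∈ E := fun z => Algebra.subset_adjoin ⟨z, z.2, rfl⟩
  let gZ : Z →* E :=
    { toFun := fun z => ⟨ρ z, hmem z⟩
      map_one' := Subtype.ext (map_one ρ)
      map_mul' := fun a b => Subtype.ext (map_mul ρ (a : A) (b : A)) }
  let g := MonoidAlgebra.lift k E Z gZ
  have hgs : Function.Surjective g := by
    rintro ⟨x, hx⟩
    induction hx using Algebra.adjoin_induction with
    | mem x hx =>
      obtain ⟨z, hz, rfl⟩ := hx
      exact ⟨MonoidAlgebra.of k Z ⟨z, hz⟩, MonoidAlgebra.lift_of _ _⟩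
    | algebraMap r => exact ⟨algebraMap k _ r, (g.commutes r).trans rfl⟩
    | add x y hx hy ihx ihy =>
      obtain ⟨a, ha⟩ := ihx
      obtain ⟨b, hb⟩ := ihy
      exact ⟨a + b, by rw [map_add, ha, hb]; rfl⟩
    | mul x y hx hy ihx ihy =>
      obtain ⟨a, ha⟩ := ihx
      obtain ⟨b, hb⟩ := ihy
      exact ⟨a * b, by rw [map_mul, ha, hb]; rfl⟩
  haveI : NeZero (Nat.card Z : k) := ⟨hcard⟩
  haveI : IsSemisimpleRing E := RingHom.isSemisimpleRing_of_surjective g.toRingHom hgs
  haveI : IsReduced E := inferInstance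
  haveI : Module.Finite k E := inferInstanceAs (Module.Finite k (Subalgebra.toSubmodule E))
  haveI : IsArtinianRing E := IsArtinianRing.of_finite k E
  have hinvert : ∀ a : A, ρ a * ρ a⁻¹ = 1 := fun a => by rw [← map_mul, mul_inv_cancel, map_one]
  have hinvert' : ∀ a : A, ρ a⁻¹ * ρ a = 1 := fun a => by rw [← map_mul, inv_mul_cancel, map_one]
  have hconj : ∀ (a : A) (x : Module.End k V), x ∈ E → ρ a * x * ρ a⁻¹ ∈ E := by
    intro a x hx
    induction hx using Algebra.adjoin_induction with
    | mem x hx =>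
      obtain ⟨z, hz, rfl⟩ := hx
      rw [← map_mul, ← map_mul]
      exact hmem ⟨_, ‹Z.Normal›.conj_mem z hz a⟩
    | algebraMap r =>
      rw [← Algebra.commutes, mul_assoc, hinvert, mul_one]
      exact algebraMap_mem _ r
    | add x y hx hy ihx ihy => rw [mul_add, add_mul]; exact add_mem ihx ihy
    | mul x y hx hy ihx ihy =>
      have : ρ a * (x * y) * ρ a⁻¹ = (ρ a * x * ρ a⁻¹) * (ρ a * y * ρ a⁻¹) := by
        simp only [mul_assoc]
        rw [← mul_assoc (ρ a⁻¹) (ρ a), hinvert', one_mul]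
      rw [this]
      exact mul_mem ihx ihy
  let cj : A → E → E := fun a x => ⟨ρ a * x * ρ a⁻¹, hconj a x x.2⟩
  have hcj : ∀ a b x, cj a (cj b x) = cj (a * b) x := fun a b x => Subtype.ext (by
    show ρ a * (ρ b * x * ρ b⁻¹) * ρ a⁻¹ = ρ (a * b) * x * ρ (a * b)⁻¹
    rw [mul_inv_rev, map_mul, map_mul]; simp only [mul_assoc])
  have hcj1 : ∀ x, cj 1 x = x := fun x => Subtype.ext (by
    show ρ 1 * x * ρ 1⁻¹ = x
    rw [inv_one, map_one, one_mul, mul_one])
  let φ : H →* (E ≃+* E) :=
    { toFun := fun h =>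
        { toFun := cj h
          invFun := cj (h : A)⁻¹
          left_inv := fun x => by rw [hcj, inv_mul_cancel, hcj1]
          right_inv := fun x => by rw [hcj, mul_inv_cancel, hcj1]
          map_mul' := fun x y => Subtype.ext (by
            show ρ h * ((x : Module.End k V) * y) * ρ (h : A)⁻¹ =
              (ρ h * x * ρ (h : A)⁻¹) * (ρ h * y * ρ (h : A)⁻¹)
            simp only [mul_assoc]
            rw [← mul_assoc (ρ (h : A)⁻¹) (ρ h), hinvert', one_mul])
          map_add' := fun x y => Subtype.ext (by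
            show ρ h * ((x : Module.End k V) + y) * ρ (h : A)⁻¹ =
              ρ h * x * ρ (h : A)⁻¹ + ρ h * y * ρ (h : A)⁻¹
            rw [mul_add, add_mul]) }
      map_one' := RingEquiv.ext fun x => hcj1 x
      map_mul' := fun a b => RingEquiv.ext fun x => (hcj a b x).symm }
  refine FrobFree.freeOn_semilinear (E := E) φ (ρ.comp H.subtype) (fun h y v => ?_)
    fun m hm h hall => ?_
  · show ρ h ((y : Module.End k V) v) = (ρ h * y * ρ (h : A)⁻¹) (ρ h v)
    rw [Module.End.mul_apply, Module.End.mul_apply, ← Module.End.mul_apply (ρ (h : A)⁻¹) (ρ h),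
      hinvert']
    rfl
  by_contra hh
  have hh' : (h : A) ≠ 1 := fun e => hh (Subtype.ext e)
  let c : Z → Z := fun z => z⁻¹ * ⟨h * z * (h : A)⁻¹, ‹Z.Normal›.conj_mem z z.2 h⟩
  have hcinj : Function.Injective c := by
    intro a b hab
    have e : (a : A)⁻¹ * ((h : A) * a * (h : A)⁻¹) = (b : A)⁻¹ * ((h : A) * b * (h : A)⁻¹) :=
      congrArg Subtype.val hab
    have hcom : (h : A) * ((b : A) * (a : A)⁻¹)⁻¹ = ((b : A) * (a : A)⁻¹)⁻¹ * h := by
      have h1 : (b : A) * (a : A)⁻¹ * ((h : A) * a * (h : A)⁻¹) = (h : A) * b * (h : A)⁻¹ := by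
        rw [mul_assoc, e, mul_inv_cancel_left]
      have h2 : (b : A) * (a : A)⁻¹ * h = (h : A) * ((b : A) * (a : A)⁻¹) := by
        have := congrArg (fun t => t * h * (a : A)⁻¹) h1
        simpa [mul_assoc] using this
      rw [mul_inv_rev, inv_inv]
      have h3 := congrArg (fun t => ((b : A) * (a : A)⁻¹)⁻¹ * t * ((b : A) * (a : A)⁻¹)⁻¹) h2
      simpa [mul_assoc] using h3
    have := hfpf h h.2 hh' _ (Z.inv_mem (Z.mul_mem b.2 (Z.inv_mem a.2))) hcom
    rw [inv_eq_one, mul_inv_eq_one] at this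
    exact Subtype.ext this.symm
  haveI := hm
  let π := Ideal.Quotient.mk m
  have htriv : ∀ w : Z, π (gZ w) = 1 := by
    intro w
    obtain ⟨z, rfl⟩ := (Finite.surjective_of_injective hcinj) w
    have e1 : π (φ h (gZ z)) = π (gZ z) := Ideal.Quotient.eq.mpr (hall _)
    have e2 : φ h (gZ z) = gZ ⟨h * z * (h : A)⁻¹, ‹Z.Normal›.conj_mem z z.2 h⟩ :=
      Subtype.ext (by
        show ρ h * ρ (z : A) * ρ (h : A)⁻¹ = ρ ((h : A) * z * (h : A)⁻¹)
        rw [map_mul, map_mul])
    rw [e2] at e1
    show π (gZ (z⁻¹ * _)) = 1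
    rw [map_mul, map_mul, e1, ← map_mul, ← map_mul, inv_mul_cancel, map_one, map_one]
  let mm : MaximalSpectrum E := ⟨m, hm⟩
  obtain ⟨e, he⟩ := (IsArtinianRing.equivPi E).surjective (Pi.single mm 1)
  have heI : ∀ I : MaximalSpectrum E, Ideal.Quotient.mk I.asIdeal e =
      (Pi.single mm 1 : ∀ I : MaximalSpectrum E, E ⧸ I.asIdeal) I := fun I => by
    rw [← he]; exact (IsArtinianRing.equivPi_apply E e I).symm
  have hze : ∀ z : Z, gZ z * e = e := by
    intro z
    refine (IsArtinianRing.equivPi E).injective (funext fun I => ?_)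
    rw [IsArtinianRing.equivPi_apply, IsArtinianRing.equivPi_apply]
    show Ideal.Quotient.mk I.asIdeal (gZ z * e) = Ideal.Quotient.mk I.asIdeal e
    rw [map_mul, heI I]
    by_cases hI : I = mm
    · subst hI
      rw [Pi.single_eq_same, mul_one]
      exact htriv z
    · rw [Pi.single_eq_of_ne hI, mul_zero]
  have he0 : e = 0 := Subtype.ext (LinearMap.ext fun v => hfix _ fun z hz =>
    LinearMap.congr_fun (congrArg Subtype.val (hze ⟨z, hz⟩)) v)
  have := heI mm
  rw [he0, map_zero, Pi.single_eq_same] at this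
  exact zero_ne_one this

end Abelian

section Main

variable {k V A : Type*} [Field k] [AddCommGroup V] [Module k V] [FiniteDimensional k V]
  [Group A] [Finite A]

/-- The fixed space of a subgroup. -/
def fix (ρ : Representation k A V) (Z : Subgroup A) : Submodule k V where
  carrier := {v | ∀ z ∈ Z, ρ z v = v}
  zero_mem' z _ := map_zero _
  add_mem' {x y} hx hy z hz := by rw [map_add, hx z hz, hy z hz]
  smul_mem' a x hx z hz := by rw [map_smul, hx z hz]

omit [FiniteDimensional k V] [Finite A] in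
theorem fix_invariant (ρ : Representation k A V) (Z : Subgroup A) [hZ : Z.Normal] (a : A) {v : V}
    (hv : v ∈ fix ρ Z) : ρ a v ∈ fix ρ Z := by
  intro z hz
  have := hv _ (hZ.conj_mem z hz a⁻¹)
  rw [inv_inv, map_mul, map_mul, Module.End.mul_apply, Module.End.mul_apply] at this
  conv_rhs => rw [← this]
  rw [← Module.End.mul_apply (ρ a) (ρ a⁻¹), ← map_mul, mul_inv_cancel, map_one]
  rfl

/-- One step along the derived series. -/
theorem freeOn_step (ρ : Representation k A V) (H Z Z' : Subgroup A) [Fintype H] [Z.Normal]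
    [Z'.Normal] (hle : Z' ≤ Z) (hder : ∀ a ∈ Z, ∀ b ∈ Z, ⁅a, b⁆ ∈ Z')
    (hcard : (Nat.card Z : k) ≠ 0)
    (hfpf : ∀ h ∈ H, h ≠ 1 → ∀ z ∈ Z, h * z = z * h → z = 1)
    (ih : FrobFree.FreeOn (ρ.comp H.subtype) (fix ρ Z)) :
    FrobFree.FreeOn (ρ.comp H.subtype) (fix ρ Z') := by
  classical
  have := Fintype.ofFinite Z
  set n : k := (Nat.card Z : k) with hn
  set S : Module.End k V := ∑ z : Z, ρ (z : A) with hS
  have hSfix : ∀ v, S v ∈ fix ρ Z := by
    intro v z hz
    rw [hS, LinearMap.sum_apply, map_sum]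
    refine Eq.trans ?_ (Equiv.sum_comp (Equiv.mulLeft (⟨z, hz⟩ : Z)) (fun w : Z => ρ (w : A) v))
    exact Finset.sum_congr rfl fun w _ => by rw [← Module.End.mul_apply, ← map_mul]; rfl
  have hSid : ∀ v ∈ fix ρ Z, S v = n • v := by
    intro v hv
    rw [hS, LinearMap.sum_apply, Finset.sum_congr rfl fun (z : Z) _ => hv (z : A) z.2, Finset.sum_const,
      Finset.card_univ, hn, Nat.card_eq_fintype_card]
    exact (Nat.cast_smul_eq_nsmul k _ v).symm
  have hScomm : ∀ a : A, ρ a * S = S * ρ a := by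
    intro a
    rw [hS, Finset.mul_sum, Finset.sum_mul]
    let e : Z ≃ Z :=
      { toFun := fun z => ⟨a * z * a⁻¹, ‹Z.Normal›.conj_mem z z.2 a⟩
        invFun := fun z => ⟨a⁻¹ * z * a, by simpa using ‹Z.Normal›.conj_mem z z.2 a⁻¹⟩
        left_inv := fun z => Subtype.ext (by group)
        right_inv := fun z => Subtype.ext (by group) }
    refine Eq.trans ?_ (Equiv.sum_comp e (fun z : Z => ρ (z : A) * ρ a))
    refine Finset.sum_congr rfl fun z _ => ?_
    show ρ a * ρ (z : A) = ρ (a * z * a⁻¹) * ρ a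
    rw [← map_mul, ← map_mul, inv_mul_cancel_right]
  set U : Submodule k V := fix ρ Z' ⊓ LinearMap.ker S with hU
  have hUinv : ∀ a : A, ∀ u ∈ U, ρ a u ∈ U := by
    intro a u hu
    refine ⟨fix_invariant ρ Z' a hu.1, ?_⟩
    show S (ρ a u) = 0
    rw [← Module.End.mul_apply, ← hScomm, Module.End.mul_apply, LinearMap.mem_ker.mp hu.2, map_zero]
  have hsup : fix ρ Z ⊔ U = fix ρ Z' := by
    refine le_antisymm (sup_le (fun v hv z hz => hv z (hle hz)) inf_le_left) fun v hv => ?_
    have hw : n⁻¹ • S v ∈ fix ρ Z := Submodule.smul_mem _ _ (hSfix v)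
    have : v = n⁻¹ • S v + (v - n⁻¹ • S v) := by abel
    rw [this]
    refine Submodule.add_mem_sup hw ⟨Submodule.sub_mem _ hv (fun z hz => hw z (hle hz)), ?_⟩
    show S (v - n⁻¹ • S v) = 0
    rw [map_sub, map_smul, hSid _ (hSfix v), smul_smul, inv_mul_cancel₀ hcard, one_smul, sub_self]
  have hdis : fix ρ Z ⊓ U = ⊥ := by
    rw [eq_bot_iff]
    rintro v ⟨hv, -, hv0⟩
    have h := hSid v hv
    rw [LinearMap.mem_ker.mp hv0] at h
    exact (Submodule.mem_bot k).mpr ((smul_eq_zero.mp h.symm).resolve_left hcard)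
  rw [← hsup]
  refine FrobFree.freeOn_sup hdis (fun h u hu => fix_invariant ρ Z h hu)
    (fun h u hu => hUinv h u hu) ih ?_
  let τ : Representation k A U :=
    { toFun := fun a => (ρ a).restrict (hUinv a)
      map_one' := LinearMap.ext fun u => Subtype.ext (by simp)
      map_mul' := fun a b => LinearMap.ext fun u => Subtype.ext (by simp) }
  refine FrobFree.freeOn_of_restrict U (τ.comp H.subtype) (fun h u => rfl)
    (freeOn_abelian τ H Z hcard (fun a ha b hb => LinearMap.ext fun u => Subtype.ext ?_)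
      (fun u hu => ?_) hfpf)
  · show ρ a (ρ b u) = ρ b (ρ a u)
    have h1 := u.2.1 _ (hder a⁻¹ (Z.inv_mem ha) b⁻¹ (Z.inv_mem hb))
    rw [commutatorElement_def, inv_inv, inv_inv, map_mul, map_mul, map_mul] at h1
    simp only [Module.End.mul_apply] at h1
    conv_rhs => rw [← h1]
    rw [← Module.End.mul_apply (ρ a) (ρ a⁻¹), ← map_mul, mul_inv_cancel, map_one,
      Module.End.one_apply, ← Module.End.mul_apply (ρ b) (ρ b⁻¹), ← map_mul, mul_inv_cancel,
      map_one, Module.End.one_apply]
  · have hf : (u : V) ∈ fix ρ Z := fun z hz => congrArg Subtype.val (hu z hz)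
    have : (u : V) ∈ fix ρ Z ⊓ U := ⟨hf, u.2⟩
    rw [hdis, Submodule.mem_bot] at this
    exact Subtype.ext this

/-- The derived chain. -/
def chain (R : Subgroup A) : ℕ → Subgroup A
  | 0 => R
  | n + 1 => ⁅chain R n, chain R n⁆

omit [Finite A] in
theorem chain_normal (R : Subgroup A) [R.Normal] : ∀ n, (chain R n).Normal
  | 0 => inferInstanceAs R.Normal
  | n + 1 => by
    haveI := chain_normal R n
    exact inferInstanceAs (⁅chain R n, chain R n⁆ : Subgroup A).Normal

omit [Finite A] in
theorem chain_le (R : Subgroup A) : ∀ n, chain R n ≤ R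
  | 0 => le_rfl
  | n + 1 => (Subgroup.commutator_mono (chain_le R n) (chain_le R n)).trans R.commutator_le_self

omit [Finite A] in
theorem chain_eq (R : Subgroup A) : ∀ n, chain R n = (derivedSeries R n).map R.subtype
  | 0 => by simp [chain, ← MonoidHom.range_eq_map]
  | n + 1 => by rw [derivedSeries_succ, Subgroup.map_commutator, ← chain_eq R n]; rfl

/-- Solvable operator groups without fixed vectors in coprime characteristic. -/
theorem freeOn_coprime (ρ : Representation k A V) (H R : Subgroup A) [Fintype H] [R.Normal]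
    [Group.IsSolvable R] (hcard : (Nat.card R : k) ≠ 0) (hfix : fix ρ R = ⊥)
    (hfpf : ∀ h ∈ H, h ≠ 1 → ∀ z ∈ R, h * z = z * h → z = 1) :
    FrobFree.FreeOn (ρ.comp H.subtype) ⊤ := by
  have key : ∀ n, FrobFree.FreeOn (ρ.comp H.subtype) (fix ρ (chain R n)) := by
    intro n
    induction n with
    | zero => rw [show chain R 0 = R from rfl, hfix]; exact FrobFree.freeOn_bot
    | succ n ih =>
      haveI := chain_normal R n
      haveI := chain_normal R (n + 1)
      refine freeOn_step ρ H (chain R n) (chain R (n + 1))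
        ((chain R n).commutator_le_self) (fun a ha b hb => Subgroup.commutator_mem_commutator ha hb)
        (fun h0 => hcard ?_) (fun h hh h1 z hz => hfpf h hh h1 z (chain_le R n hz)) ih
      obtain ⟨c, hc⟩ := Subgroup.card_dvd_of_le (chain_le R n)
      rw [hc, Nat.cast_mul, h0, zero_mul]
  obtain ⟨n, hn⟩ := (inferInstance : Group.IsSolvable R).solvable
  have := key n
  rwa [show fix ρ (chain R n) = ⊤ from top_le_iff.mp fun v _ z hz => by
    rw [chain_eq, hn, Subgroup.map_bot, Subgroup.mem_bot] at hz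
    rw [hz, map_one]
    rfl] at this

omit [FiniteDimensional k V] in
/-- A `p`-group in characteristic `p` fixes a nonzero vector of each nonzero invariant subspace. -/
theorem exists_fixed {p : ℕ} [Fact p.Prime] [CharP k p] (ρ : Representation k A V) (P : Subgroup A)
    (hP : IsPGroup p P) {v : V} (hv : v ≠ 0) (U : Submodule k V)
    (hU : ∀ z ∈ P, ∀ u ∈ U, ρ z u ∈ U) (hvU : v ∈ U) :
    ∃ w ∈ U, w ≠ 0 ∧ ∀ z ∈ P, ρ z w = w := by
  classical
  have := Fintype.ofFinite P
  set S : AddSubgroup V := AddSubgroup.closure (Set.range fun z : P => ρ (z : A) v) with hS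
  have hpV : ∀ x : V, p • x = 0 := fun x => by
    rw [← Nat.cast_smul_eq_nsmul k, CharP.cast_eq_zero, zero_smul]
  have hfin : Finite S := by
    haveI : AddGroup.FG S :=
      (AddGroup.fg_iff_addSubgroup_fg S).mpr ((AddSubgroup.fg_iff S).mpr
        ⟨_, hS.symm, Set.finite_range _⟩)
    haveI : Module.Finite ℤ S := Module.Finite.iff_addGroup_fg.mpr inferInstance
    refine AddCommGroup.finite_of_fg_torsion S fun x => ?_
    exact isOfFinAddOrder_iff_nsmul_eq_zero.mpr ⟨p, (Fact.out : p.Prime).pos, Subtype.ext (hpV x)⟩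
  have hSinv : ∀ z ∈ P, ∀ x ∈ S, ρ z x ∈ S := by
    intro z hz x hx
    induction hx using AddSubgroup.closure_induction with
    | mem x hx =>
      obtain ⟨w, rfl⟩ := hx
      refine AddSubgroup.subset_closure ⟨⟨z, hz⟩ * w, ?_⟩
      show ρ (z * (w : A)) v = _
      rw [map_mul]; rfl
    | zero => rw [map_zero]; exact zero_mem _
    | add x y _ _ ihx ihy => rw [map_add]; exact add_mem ihx ihy
    | neg x _ ihx => rw [map_neg]; exact neg_mem ihx
  have hSU : ∀ x ∈ S, x ∈ U := fun x hx => by
    refine (AddSubgroup.closure_le U.toAddSubgroup).mpr ?_ hx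
    rintro _ ⟨w, rfl⟩
    exact hU w w.2 v hvU
  letI : MulAction P S :=
    { smul := fun z x => ⟨ρ (z : A) x, hSinv z z.2 x x.2⟩
      one_smul := fun x => Subtype.ext (by show ρ (1 : A) (x : V) = x; rw [map_one]; rfl)
      mul_smul := fun a b x => Subtype.ext (by
        show ρ ((a : A) * b) (x : V) = ρ (a : A) (ρ (b : A) x)
        rw [map_mul]; rfl) }
  have hvS : v ∈ S := AddSubgroup.subset_closure ⟨1, by simp⟩
  have hord : addOrderOf (⟨v, hvS⟩ : S) = p :=
    addOrderOf_eq_prime (Subtype.ext (hpV v)) fun h => hv (congrArg Subtype.val h)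
  have hdvd : p ∣ Nat.card S := hord ▸ addOrderOf_dvd_natCard _
  obtain ⟨b, hb, hb0⟩ := hP.exists_fixed_point_of_prime_dvd_card_of_fixed_point S hdvd
    (a := (0 : S)) (fun z => Subtype.ext (map_zero (ρ (z : A))))
  exact ⟨b, hSU b b.2, fun h => hb0 (Subtype.ext h.symm),
    fun z hz => congrArg Subtype.val (hb ⟨z, hz⟩)⟩

end Main

/-- Let the finite group A act faithfully and linearly on a finite-dimensional vector space V over a field k, and suppose A is a Frobenius group with nilpotent kernel F (every Frobenius kernel is nilpotent) and complement H such that F fixes no nonzero vector. Then V is free as a module for H: there is a subspace W with V the direct sum of the translates hW, h ∈ H. (No assumption on the characteristic of k.) -/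
theorem result {k V A : Type*} [Field k] [AddCommGroup V] [Module k V] [FiniteDimensional k V] [Group A] [Finite A] [DecidableEq A]
    (ρ : Representation k A V) (hρ : Function.Injective ρ)
    (Fk Hc : Subgroup A) [Fk.Normal] (hHc : Cfsg.IsFrobeniusComplement Hc) (hker : Cfsg.frobeniusKernel Hc = (Fk : Set A)) (hnil : Group.IsNilpotent ↥Fk)
    (hCF : ∀ v : V, (∀ f ∈ Fk, ρ f v = v) → v = 0) :
    ∃ W : Submodule k V, DirectSum.IsInternal (fun h : ↥Hc => W.map (ρ (h : A))) := by
  classical
  have := Fintype.ofFinite Hc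
  obtain ⟨-, -, hTI⟩ := hHc
  -- nontrivial elements of `Hc` act fixed-point-freely on `Fk`
  have hfpf : ∀ h ∈ Hc, h ≠ 1 → ∀ z ∈ Fk, h * z = z * h → z = 1 := by
    intro h hh h1 z hz hcom
    have hzK : z ∈ Cfsg.frobeniusKernel Hc := by rw [hker]; exact hz
    rcases hzK with e | hno
    · exact e
    exfalso
    by_cases hzH : z ∈ Hc
    · exact hno 1 (by rwa [map_one, one_smul])
    · have hm : h ∈ Hc ⊓ MulAut.conj z • Hc := by
        refine ⟨hh, ?_⟩
        show h ∈ MulAut.conj z • Hc
        rw [Subgroup.mem_pointwise_smul_iff_inv_smul_mem]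
        have e : ((MulAut.conj z)⁻¹ • h : A) = h := by
          show (MulAut.conj z)⁻¹ h = h
          simp [mul_assoc, hcom]
        rw [e]; exact hh
      rw [hTI z hzH, Subgroup.mem_bot] at hm
      exact h1 hm
  have hfix : fix ρ Fk = ⊥ := (Submodule.eq_bot_iff _).mpr fun v hv => hCF v hv
  -- a normal subgroup of order prime to the characteristic without fixed vectors
  obtain ⟨R, hRn, hRle, hRcard, hRfix⟩ : ∃ R : Subgroup A, R.Normal ∧ R ≤ Fk ∧
      (Nat.card R : k) ≠ 0 ∧ fix ρ R = ⊥ := by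
    by_cases hcard : (Nat.card Fk : k) = 0
    swap
    · exact ⟨Fk, inferInstance, le_rfl, hcard, hfix⟩
    obtain ⟨p, hp⟩ := CharP.exists k
    rcases CharP.char_is_prime_or_zero k p with hpp | rfl
    swap
    · exfalso
      haveI := CharP.charP_to_charZero k
      exact Nat.card_pos.ne' (Nat.cast_eq_zero.mp hcard)
    haveI := Fact.mk hpp
    obtain ⟨P, N, hN, hPN⟩ := Solvable.hasNormalPComplement_of_isNilpotent (G := Fk) p
    have hcop : (Nat.card N).Coprime p := by
      refine (hpp.coprime_iff_not_dvd.mpr fun hd => P.not_dvd_index ?_).symm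
      rwa [hPN.index_eq_card]
    have hiff : ∀ x : Fk, x ∈ N ↔ (orderOf x).Coprime p := by
      intro x
      constructor
      · intro hx
        exact hcop.coprime_dvd_left (Subgroup.orderOf_dvd_natCard _ hx)
      · intro hx
        haveI := hN
        rw [← QuotientGroup.eq_one_iff, ← orderOf_eq_one_iff]
        refine Nat.eq_one_of_dvd_coprimes ?_ (orderOf_map_dvd (QuotientGroup.mk' N) x)
          (orderOf_dvd_natCard ((x : Fk) : Fk ⧸ N))
        obtain ⟨j, hj⟩ := P.2.exists_card_eq
        rw [show Nat.card (Fk ⧸ N) = p ^ j from hPN.symm.index_eq_card.trans hj]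
        exact hx.pow_right j
    set R := N.map Fk.subtype with hR
    have hRn : R.Normal := ⟨by
      rintro _ ⟨x, hx, rfl⟩ g
      refine ⟨⟨g * x * g⁻¹, ‹Fk.Normal›.conj_mem x x.2 g⟩, (hiff _).mpr ?_, rfl⟩
      have e : orderOf (⟨g * x * g⁻¹, ‹Fk.Normal›.conj_mem x x.2 g⟩ : Fk) = orderOf x := by
        rw [← Subgroup.orderOf_coe, ← Subgroup.orderOf_coe x]
        exact orderOf_injective (MulAut.conj g).toMonoidHom (MulAut.conj g).injective (x : A)
      rw [e]
      exact (hiff x).mp hx⟩
    refine ⟨R, hRn, Subgroup.map_subtype_le _, fun h0 => ?_, ?_⟩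
    · rw [Subgroup.card_map_of_injective Fk.subtype_injective, CharP.cast_eq_zero_iff k p] at h0
      exact hpp.coprime_iff_not_dvd.mp hcop.symm h0
    · rw [Submodule.eq_bot_iff]
      intro v hv
      by_contra hv0
      haveI := hRn
      obtain ⟨w, hw, hw0, hwfix⟩ := exists_fixed ρ ((P : Subgroup Fk).map Fk.subtype) (P.2.map _)
        hv0 (fix ρ R) (fun z _ u hu => fix_invariant ρ R z hu) hv
      refine hw0 (hCF w fun f hf => ?_)
      obtain ⟨⟨a, b⟩, hab⟩ := hPN.2 ⟨f, hf⟩
      have hfab : f = (a.1 : A) * (b.1 : A) := (congrArg Subtype.val hab).symm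
      have e : ρ (b.1 : A) w = w := hwfix _ ⟨b.1, b.2, rfl⟩
      rw [hfab, map_mul, Module.End.mul_apply, e]
      exact hw _ ⟨a.1, a.2, rfl⟩
  haveI := hRn
  haveI : Group.IsSolvable R := by
    haveI := hnil
    exact solvable_of_solvable_injective (Subgroup.inclusion_injective hRle)
  obtain ⟨W, -, hex, huniq⟩ := freeOn_coprime ρ Hc R hRcard hRfix
    fun h hh h1 z hz => hfpf h hh h1 z (hRle hz)
  refine ⟨W, DirectSum.isInternal_submodule_of_iSupIndep_of_iSup_eq_top ?_ ?_⟩
  · rw [iSupIndep_iff_finsetSum_eq_zero_imp_eq_zero]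
    intro s v hv hsum i hi
    choose w hw hwv using hv
    let f : Hc → V := fun h => if hh : h ∈ s then w h hh else 0
    have hf : f = 0 := by
      refine huniq f (fun h => ?_) ?_
      · by_cases hh : h ∈ s
        · simp only [f, dif_pos hh]; exact hw h hh
        · simp only [f, dif_neg hh]; exact W.zero_mem
      · rw [← hsum, ← Finset.sum_subset (Finset.subset_univ s) (fun x _ hx => by simp [f, hx])]
        exact Finset.sum_congr rfl fun x hx => by
          rw [← hwv x hx]
          simp only [f, dif_pos hx]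
          rfl
    have := congrFun hf i
    simp only [f, dif_pos hi, Pi.zero_apply] at this
    rw [← hwv i hi, this, map_zero]
  · refine top_le_iff.mp fun v _ => ?_
    obtain ⟨f, hf, rfl⟩ := hex v trivial
    exact Submodule.sum_mem _ fun h _ => Submodule.mem_iSup_of_mem h ⟨f h, hf h, rfl⟩

end Cfsg.Agent.S4396
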