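import Cfsg.Statements.S4397
import Cfsg.Agent.Lib.PGroup.Basic
import Cfsg.Agent.Lib.PGroup.Thompson

set_option autoImplicit false
open Cfsg

namespace Cfsg.Agent.S4397

open Subgroup
open scoped commutatorElement

theorem exists_involution {G : Type*} [Group G] [Finite G] (hG : IsPGroup 2 G) {H : Subgroup G}
    (h : H ≠ ⊥) : ∃ u ∈ H, u ≠ 1 ∧ u * u = 1 := by
  haveI : Fact (Nat.Prime 2) := ⟨Nat.prime_two⟩
  obtain ⟨k, hk⟩ := (hG.to_subgroup H).exists_card_eq
  have hd : 2 ∣ Nat.card H := by
    rw [hk]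
    refine dvd_pow_self 2 fun h0 => h ?_
    rw [h0, pow_zero] at hk
    exact Subgroup.card_eq_one.mp hk
  obtain ⟨u, hu⟩ := exists_prime_orderOf_dvd_card' (G := H) 2 hd
  refine ⟨u, u.2, fun h1 => ?_, ?_⟩
  · rw [Subtype.ext h1 (a2 := (1 : H)), orderOf_one] at hu
    omega
  · have := pow_orderOf_eq_one u
    rw [hu, pow_two] at this
    exact congrArg Subtype.val this

/-- Three independent commuting involutions are excluded by rank two. -/
theorem rank_three_false {G : Type*} [Group G] [Finite G] (hR : Cfsg.PRankLE 2 2 G) {u v w : G}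
    (huv : Commute u v) (huw : Commute u w) (hvw : Commute v w) (hu : u * u = 1) (hv : v * v = 1)
    (hw : w * w = 1) (hu1 : u ≠ 1) (hv1 : v ≠ 1) (hvu : v ≠ u) (hw1 : w ≠ 1) (hwu : w ≠ u)
    (hwv : w ≠ v) (hwuv : w ≠ u * v) : False := by
  classical
  set H := Subgroup.closure ({u, v, w} : Set G) with hH
  have hcomm : IsMulCommutative H := Subgroup.isMulCommutative_closure (by
    rintro x (rfl | rfl | rfl) y (rfl | rfl | rfl) <;>
      first
        | rfl
        | exact huv | exact huv.symm | exact huw | exact huw.symm | exact hvw | exact hvw.symm)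
  have hsq : ∀ a ∈ H, a ^ 2 = 1 := by
    intro a ha
    induction ha using Subgroup.closure_induction with
    | mem x hx => rcases hx with rfl | rfl | rfl <;> rwa [pow_two]
    | one => simp
    | mul x y hx hy ihx ihy =>
      have : Commute x y := congrArg Subtype.val (hcomm.is_comm.comm ⟨x, hx⟩ ⟨y, hy⟩)
      rw [this.mul_pow, ihx, ihy, one_mul]
    | inv x _ ihx => rw [inv_pow, ihx, inv_one]
  have hle := hR H hcomm hsq
  have hmu : u ∈ H := Subgroup.subset_closure (by simp)
  have hmv : v ∈ H := Subgroup.subset_closure (by simp)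
  have hmw : w ∈ H := Subgroup.subset_closure (by simp)
  have h1 : u * v ≠ 1 := fun h => hvu ((inv_eq_of_mul_eq_one_right h).symm.trans
    (inv_eq_of_mul_eq_one_right hu))
  have hsub : ({1, u, v, u * v, w} : Finset G) ⊆ (H : Set G).toFinite.toFinset := by
    intro x hx
    rw [Set.Finite.mem_toFinset]
    simp only [Finset.mem_insert, Finset.mem_singleton] at hx
    rcases hx with rfl | rfl | rfl | rfl | rfl
    exacts [one_mem H, hmu, hmv, mul_mem hmu hmv, hmw]
  have h5 : ({1, u, v, u * v, w} : Finset G).card = 5 := by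
    rw [Finset.card_insert_of_notMem, Finset.card_insert_of_notMem, Finset.card_insert_of_notMem,
      Finset.card_insert_of_notMem, Finset.card_singleton] <;>
      simp_all [eq_comm, mul_eq_left, mul_eq_right]
  have := Finset.card_le_card hsub
  rw [h5, ← Set.ncard_eq_toFinset_card, ← Nat.card_coe_set_eq] at this
  exact absurd (le_trans this hle) (by norm_num)

/-- Abelian groups of rank two have two independent generators. -/
theorem exists_gens {A : Type*} [Group A] [Finite A] (hA : IsPGroup 2 A)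
    (hcomm : ∀ x y : A, Commute x y) (hR : Cfsg.PRankLE 2 2 A) :
    ∃ x y : A, Subgroup.closure {x, y} = ⊤ ∧ Subgroup.zpowers x ⊓ Subgroup.zpowers y = ⊥ := by
  haveI : Fact (Nat.Prime 2) := ⟨Nat.prime_two⟩
  haveI : Nonempty A := ⟨1⟩
  obtain ⟨x, hx⟩ := Finite.exists_max (fun a : A => orderOf a)
  set P := Subgroup.zpowers x with hP
  haveI hPn : P.Normal := ⟨fun n hn g => by rwa [(hcomm g n).eq, mul_inv_cancel_right]⟩
  have hlift : ∀ q : A ⧸ P, ∀ n : ℕ, (∃ j, n = 2 ^ j) → q ^ n = 1 →
      ∃ y : A, (y : A ⧸ P) = q ∧ y ^ n = 1 := by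
    rintro q n ⟨j, rfl⟩ hq
    induction q using QuotientGroup.induction_on with
    | H y =>
      rw [← QuotientGroup.mk_pow, QuotientGroup.eq_one_iff, hP,
        Subgroup.mem_zpowers_iff] at hq
      obtain ⟨i, hi⟩ := hq
      obtain ⟨c, hc⟩ := IsPGroup.iff_orderOf.mp hA x
      have hxy : orderOf y ∣ 2 ^ c := by
        obtain ⟨d, hd⟩ := IsPGroup.iff_orderOf.mp hA y
        have := hx y
        rw [hc, hd] at this
        rw [hd]
        exact pow_dvd_pow 2 ((Nat.pow_le_pow_iff_right (by norm_num)).mp this)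
      by_cases hjc : 2 ^ c ≤ 2 ^ j
      · refine ⟨y, rfl, ?_⟩
        exact orderOf_dvd_iff_pow_eq_one.mp
          (hxy.trans (pow_dvd_pow 2 ((Nat.pow_le_pow_iff_right (by norm_num)).mp hjc)))
      · have hjc' : j ≤ c := by
          by_contra hh
          push Not at hh
          exact hjc (Nat.pow_le_pow_right (by norm_num) hh.le)
        have h1 : x ^ (i * (2 ^ (c - j) : ℕ)) = 1 := by
          rw [zpow_mul, hi, zpow_natCast, ← pow_mul, ← pow_add, Nat.add_sub_cancel' hjc']
          exact orderOf_dvd_iff_pow_eq_one.mp hxy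
        have h2 := orderOf_dvd_iff_zpow_eq_one.mpr h1
        rw [hc, ← Nat.add_sub_cancel' hjc', pow_add] at h2
        push_cast at h2
        rw [Nat.add_sub_cancel' hjc', mul_comm i, mul_comm ((2 : ℤ) ^ j)] at h2
        obtain ⟨t, rfl⟩ := (mul_dvd_mul_iff_left (pow_ne_zero _ (by norm_num : (2 : ℤ) ≠ 0))).mp h2
        refine ⟨y * x ^ (-t), ?_, ?_⟩
        · rw [QuotientGroup.mk_mul]
          exact mul_eq_left.mpr
            ((QuotientGroup.eq_one_iff _).mpr (Subgroup.zpow_mem_zpowers x _))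
        · rw [(hcomm y _).mul_pow, ← hi, ← zpow_natCast (x ^ (-t)), ← zpow_mul, ← zpow_add]
          rw [show (2 : ℤ) ^ j * t + -t * ((2 ^ j : ℕ) : ℤ) = 0 by push_cast; ring, zpow_zero]
  have hAq : IsPGroup 2 (A ⧸ P) := hA.to_quotient P
  have hcyc : IsCyclic (A ⧸ P) := by
    rcases eq_or_ne P ⊥ with hb | hb
    · have hx1 : x = 1 := Subgroup.zpowers_eq_bot.mp hb
      have : Subsingleton A := ⟨fun a b => by
        have ha := hx a; have hb := hx b
        simp only [hx1, orderOf_one] at ha hb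
        have ha' := orderOf_pos a; have hb' := orderOf_pos b
        rw [orderOf_eq_one_iff.mp (by omega : orderOf a = 1),
          orderOf_eq_one_iff.mp (by omega : orderOf b = 1)]⟩
      have : Subsingleton (A ⧸ P) := Quotient.instSubsingletonQuotient _
      infer_instance
    obtain ⟨u, huP, hu1, hu⟩ := exists_involution hA hb
    letI : CommGroup (A ⧸ P) :=
      { (inferInstance : Group (A ⧸ P)) with
        mul_comm := fun a b => by
          induction a using QuotientGroup.induction_on with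
          | H a =>
            induction b using QuotientGroup.induction_on with
            | H b => exact congrArg QuotientGroup.mk (hcomm a b).eq }
    classical
    have := Fintype.ofFinite (A ⧸ P)
    -- at most one involution in the quotient
    have huniq : ∀ p q : A ⧸ P, p * p = 1 → q * q = 1 → p ≠ 1 → q ≠ 1 → p = q := by
      intro p q hp hq hp1 hq1
      by_contra hne
      obtain ⟨v, rfl, hv⟩ := hlift p 2 ⟨1, rfl⟩ (by rw [pow_two]; exact hp)
      obtain ⟨w, rfl, hw⟩ := hlift q 2 ⟨1, rfl⟩ (by rw [pow_two]; exact hq)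
      rw [pow_two] at hv hw
      have hu0 : (u : A ⧸ P) = 1 := (QuotientGroup.eq_one_iff u).mpr huP
      refine rank_three_false hR (hcomm u v) (hcomm u w) (hcomm v w) hu hv hw hu1 ?_ ?_ ?_ ?_ ?_ ?_
      · rintro rfl; exact hp1 rfl
      · rintro rfl; exact hp1 hu0
      · rintro rfl; exact hq1 rfl
      · rintro rfl; exact hq1 hu0
      · rintro rfl; exact hne rfl
      · rintro rfl; exact hne (by rw [QuotientGroup.mk_mul, hu0, one_mul])
    refine isCyclic_of_card_pow_eq_one_le (α := A ⧸ P) fun n hn => ?_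
    -- power maps have cyclic kernel
    have key : ∀ j, (Finset.univ.filter fun a : A ⧸ P => a ^ 2 ^ j = 1).card ≤ 2 ^ j := by
      intro j
      induction j with
      | zero => exact Finset.card_le_one.mpr (by simp)
      | succ j ih =>
        rw [pow_succ 2 j]
        refine (Finset.card_le_mul_card_image (f := fun a : A ⧸ P => a ^ 2) _ 2 fun b _ => ?_).trans
          ?_
        · rcases (Finset.filter (fun a : A ⧸ P => a ^ 2 = b)
            ((Finset.univ.filter fun a : A ⧸ P => a ^ (2 ^ j * 2) = 1))).eq_empty_or_nonempty with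
            he | ⟨a₀, ha₀⟩
          · simp [he]
          rw [Finset.mem_filter] at ha₀
          by_contra hgt
          push Not at hgt
          obtain ⟨a, b', c, ha, hb', hc, hab, hac, hbc⟩ := Finset.two_lt_card_iff.mp hgt
          simp only [Finset.mem_filter] at ha hb' hc
          have hs : ∀ t, t ^ 2 = b → (t / a₀) * (t / a₀) = 1 := fun t ht => by
            rw [← pow_two, div_pow, ht, ha₀.2, div_self']
          have hone : ∀ s t, s ^ 2 = b → t ^ 2 = b → s ≠ a₀ → t ≠ a₀ → s = t :=
            fun s t hs' ht' hs1 ht1 => div_left_injective (huniq _ _ (hs s hs') (hs t ht')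
              (fun h => hs1 (div_eq_one.mp h)) (fun h => ht1 (div_eq_one.mp h)))
          rcases eq_or_ne a a₀ with rfl | h1
          · exact hbc (hone _ _ hb'.2 hc.2 hab.symm hac.symm)
          rcases eq_or_ne b' a₀ with rfl | h2
          · exact hac (hone _ _ ha.2 hc.2 h1 hbc.symm)
          exact hab (hone _ _ ha.2 hb'.2 h1 h2)
        · rw [mul_comm (2 ^ j)]
          refine Nat.mul_le_mul_left 2 (le_trans (Finset.card_le_card ?_) ih)
          intro b hb
          simp only [Finset.mem_image, Finset.mem_filter, Finset.mem_univ, true_and] at hb ⊢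
          obtain ⟨a, ha, rfl⟩ := hb
          rw [← pow_mul, mul_comm]
          rwa [mul_comm] at ha
    -- reduce to powers of two
    obtain ⟨j, hjn, hj⟩ : ∃ j, 2 ^ j ∣ n ∧ ¬ 2 ^ (j + 1) ∣ n := by
      exact ⟨n.factorization 2, Nat.ordProj_dvd n 2,
        Nat.pow_succ_factorization_not_dvd hn.ne' Nat.prime_two⟩
    refine le_trans ((Finset.card_le_card ?_).trans (key j)) (Nat.le_of_dvd hn hjn)
    intro a ha
    simp only [Finset.mem_filter, Finset.mem_univ, true_and] at ha ⊢
    obtain ⟨i, hi⟩ := IsPGroup.iff_orderOf.mp hAq a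
    have hdn : 2 ^ i ∣ n := hi ▸ orderOf_dvd_of_pow_eq_one ha
    refine orderOf_dvd_iff_pow_eq_one.mp (hi ▸ pow_dvd_pow 2 ?_)
    by_contra hij
    exact hj ((pow_dvd_pow 2 (Nat.lt_of_not_le hij)).trans hdn)
  obtain ⟨q, hq⟩ := hcyc.exists_generator
  obtain ⟨y, hyq, hy⟩ := hlift q (orderOf q) (IsPGroup.iff_orderOf.mp hAq q) (pow_orderOf_eq_one q)
  refine ⟨x, y, top_le_iff.mp fun a _ => ?_, ?_⟩
  · obtain ⟨i, hi⟩ := Subgroup.mem_zpowers_iff.mp (hq (a : A ⧸ P))
    rw [← hyq, ← QuotientGroup.mk_zpow, QuotientGroup.eq] at hi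
    have : a = y ^ i * ((y ^ i)⁻¹ * a) := by group
    rw [this]
    refine mul_mem (zpow_mem (Subgroup.subset_closure (by simp)) i) ?_
    exact (Subgroup.zpowers_le.mpr (Subgroup.subset_closure (by simp))) hi
  · rw [eq_bot_iff]
    rintro a ⟨ha, i, rfl⟩
    have h1 : q ^ i = 1 := by
      rw [← hyq, ← QuotientGroup.mk_zpow]
      exact (QuotientGroup.eq_one_iff _).mpr ha
    obtain ⟨t, rfl⟩ := orderOf_dvd_iff_zpow_eq_one.mpr h1
    rw [Subgroup.mem_bot]
    show y ^ ((orderOf q : ℤ) * t) = 1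
    rw [zpow_mul, zpow_natCast, hy, one_zpow]

/-- A cyclic normal subgroup `⟨g⟩` with quotient generated by the image of `h`. -/
theorem isMetacyclic_of_zpowers {G : Type*} [Group G] {g h : G} (hn : (Subgroup.zpowers g).Normal)
    (hgen : Subgroup.closure {g, h} = ⊤) : Cfsg.IsMetacyclic G := by
  refine ⟨Subgroup.zpowers g, hn, inferInstance, ?_⟩
  refine ⟨⟨QuotientGroup.mk' (Subgroup.zpowers g) h, fun q => ?_⟩⟩
  induction q using QuotientGroup.induction_on with
  | H a =>
    have hle : Subgroup.closure {g, h} ≤ (Subgroup.zpowers (QuotientGroup.mk'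
        (Subgroup.zpowers g) h)).comap (QuotientGroup.mk' (Subgroup.zpowers g)) := by
      rw [Subgroup.closure_le]
      intro x hx
      rcases hx with hx | hx <;> rw [hx]
      · show (g : G ⧸ Subgroup.zpowers g) ∈ Subgroup.zpowers (QuotientGroup.mk' (Subgroup.zpowers g) h)
        rw [(QuotientGroup.eq_one_iff g).mpr (Subgroup.mem_zpowers g)]
        exact one_mem _
      · exact Subgroup.mem_zpowers _
    exact hle (hgen ▸ Subgroup.mem_top a)

universe u

theorem sectional_self {G : Type*} [Group G] (h : Cfsg.SectionalPRankLE 2 2 G) :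
    Cfsg.PRankLE 2 2 G := by
  intro A hA hsq
  let f : G →* (⊤ : Subgroup G) ⧸ (⊥ : Subgroup (⊤ : Subgroup G)) :=
    (QuotientGroup.mk' ⊥).comp Subgroup.topEquiv.symm.toMonoidHom
  have hf : Function.Injective f := by
    intro a b hab
    have : (QuotientGroup.mk' (⊥ : Subgroup (⊤ : Subgroup G))).ker = ⊥ := QuotientGroup.ker_mk' _
    exact Subgroup.topEquiv.symm.injective ((MonoidHom.ker_eq_bot_iff _).mp this hab)
  rw [← Subgroup.card_map_of_injective hf]
  refine h ⊤ ⊥ (A.map f) ⟨⟨?_⟩⟩ ?_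
  · rintro ⟨_, a, ha, rfl⟩ ⟨_, b, hb, rfl⟩
    refine Subtype.ext ?_
    show f a * f b = f b * f a
    rw [← map_mul, ← map_mul]
    exact congrArg f (congrArg Subtype.val (hA.is_comm.comm ⟨a, ha⟩ ⟨b, hb⟩))
  · rintro _ ⟨a, ha, rfl⟩
    rw [← map_pow, hsq a ha, map_one]

theorem sectional_quotient {G : Type*} [Group G] (h : Cfsg.SectionalPRankLE 2 2 G)
    (K : Subgroup G) [K.Normal] : Cfsg.SectionalPRankLE 2 2 (G ⧸ K) := by
  intro H N _ A hA hsq
  let π := QuotientGroup.mk' K
  let φ : H.comap π →* H ⧸ N := (QuotientGroup.mk' N).comp (π.subgroupComap H)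
  have hφ : Function.Surjective φ := by
    intro q
    induction q using QuotientGroup.induction_on with
    | H x =>
      obtain ⟨g, hg⟩ := QuotientGroup.mk'_surjective K (x : G ⧸ K)
      refine ⟨⟨g, show π g ∈ H from hg.symm ▸ x.2⟩, ?_⟩
      exact congrArg (QuotientGroup.mk' N) (Subtype.ext hg)
  let e := QuotientGroup.quotientKerEquivOfSurjective φ hφ
  have he := Subgroup.card_map_of_injective (K := A) (f := e.symm.toMonoidHom) e.symm.injective
  rw [← he]
  refine h _ _ _ ⟨⟨?_⟩⟩ ?_
  · rintro ⟨_, a, ha, rfl⟩ ⟨_, b, hb, rfl⟩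
    refine Subtype.ext ?_
    show e.symm a * e.symm b = e.symm b * e.symm a
    rw [← map_mul, ← map_mul]
    exact congrArg e.symm (congrArg Subtype.val (hA.is_comm.comm ⟨a, ha⟩ ⟨b, hb⟩))
  · rintro _ ⟨a, ha, rfl⟩
    rw [← map_pow, hsq a ha, map_one]

/-- The case of a commutator subgroup of order two. -/
theorem of_central_commutator {G : Type*} [Group G] [Finite G] (h2 : IsPGroup 2 G)
    (hR : Cfsg.PRankLE 2 2 G) (hQ : ∀ (K : Subgroup G) [K.Normal], Cfsg.PRankLE 2 2 (G ⧸ K))
    {z : G} (hz : ∀ g, Commute g z) (hz1 : z ≠ 1) (hz2 : z * z = 1)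
    (hcom : ∀ g h : G, g * h * g⁻¹ * h⁻¹ ∈ Subgroup.zpowers z) : Cfsg.IsMetacyclic G := by
  haveI : Fact (Nat.Prime 2) := ⟨Nat.prime_two⟩
  set Z := Subgroup.zpowers z with hZ
  haveI hZn : Z.Normal := ⟨fun n hn g => by
    obtain ⟨i, rfl⟩ := Subgroup.mem_zpowers_iff.mp hn
    rw [((hz g).zpow_right i).eq, mul_inv_cancel_right]
    exact hn⟩
  have hsqz : ∀ t ∈ Z, t * t = 1 := by
    intro t ht
    obtain ⟨i, rfl⟩ := Subgroup.mem_zpowers_iff.mp ht
    rw [← (Commute.refl z).mul_zpow, hz2, one_zpow]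
  have htz : ∀ t ∈ Z, ∀ g, Commute g t := fun t ht g => by
    obtain ⟨i, rfl⟩ := Subgroup.mem_zpowers_iff.mp ht
    exact (hz g).zpow_right i
  have hzu : ∀ t ∈ Z, t ≠ 1 → t = z := by
    intro t ht ht1
    obtain ⟨i, rfl⟩ := Subgroup.mem_zpowers_iff.mp ht
    rcases Int.even_or_odd i with ⟨j, rfl⟩ | ⟨j, rfl⟩
    · exact absurd (by rw [← two_mul, zpow_mul, zpow_two, hz2, one_zpow]) ht1
    · rw [zpow_add, zpow_one, zpow_mul, zpow_two, hz2, one_zpow, one_mul]
  have habq : ∀ p q : G ⧸ Z, Commute p q := by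
    intro p q
    induction p using QuotientGroup.induction_on with
    | H a =>
      induction q using QuotientGroup.induction_on with
      | H b =>
        refine mul_inv_eq_one.mp ?_
        rw [mul_inv_rev, ← mul_assoc, ← QuotientGroup.mk_inv, ← QuotientGroup.mk_inv,
          ← QuotientGroup.mk_mul, ← QuotientGroup.mk_mul, ← QuotientGroup.mk_mul,
          QuotientGroup.eq_one_iff]
        exact hcom a b
  obtain ⟨p, q, hgen, hind⟩ := exists_gens (h2.to_quotient Z) habq (hQ Z)
  obtain ⟨a, rfl⟩ := QuotientGroup.mk_surjective p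
  obtain ⟨b, rfl⟩ := QuotientGroup.mk_surjective q
  have hnormal : ∀ g : G, z ∈ Subgroup.zpowers g → (Subgroup.zpowers g).Normal := fun g hg =>
    ⟨fun n hn x => by
      have h1 : x * n * x⁻¹ * n⁻¹ ∈ Subgroup.zpowers g := (Subgroup.zpowers_le.mpr hg) (hcom x n)
      simpa using mul_mem h1 hn⟩
  have hG : ∀ g : G, ∀ S : Subgroup G, a ∈ S → b ∈ S → z ∈ S → g ∈ S := by
    intro g S ha hb hzS
    have hle : (⊤ : Subgroup (G ⧸ Z)) ≤ S.map (QuotientGroup.mk' Z) := by
      rw [← hgen, Subgroup.closure_le]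
      rintro t (rfl | rfl)
      exacts [⟨a, ha, rfl⟩, ⟨b, hb, rfl⟩]
    obtain ⟨s, hs, hsg⟩ := hle (Subgroup.mem_top (g : G ⧸ Z))
    have h1 : s⁻¹ * g ∈ S := (Subgroup.zpowers_le.mpr hzS) (QuotientGroup.eq.mp hsg)
    simpa using mul_mem hs h1
  have hclose : ∀ g h : G, z ∈ Subgroup.zpowers g →
      a ∈ Subgroup.closure {g, h} → b ∈ Subgroup.closure {g, h} → Cfsg.IsMetacyclic G :=
    fun g h hg ha hb => isMetacyclic_of_zpowers (hnormal g hg) (top_le_iff.mp fun x _ => hG x _ ha hb
      ((Subgroup.zpowers_le.mpr (Subgroup.subset_closure (by simp))) hg))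
  have hma : a ∈ Subgroup.closure ({a, b} : Set G) := Subgroup.subset_closure (by simp)
  have hmb : b ∈ Subgroup.closure ({a, b} : Set G) := Subgroup.subset_closure (by simp)
  have hma' : a ∈ Subgroup.closure ({b, a} : Set G) := Subgroup.subset_closure (by simp)
  have hmb' : b ∈ Subgroup.closure ({b, a} : Set G) := Subgroup.subset_closure (by simp)
  obtain ⟨α, hα⟩ := IsPGroup.iff_orderOf.mp (h2.to_quotient Z) (a : G ⧸ Z)
  obtain ⟨β, hβ⟩ := IsPGroup.iff_orderOf.mp (h2.to_quotient Z) (b : G ⧸ Z)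
  have haz : a ^ 2 ^ α ∈ Z := by
    rw [← QuotientGroup.eq_one_iff, QuotientGroup.mk_pow, ← hα, pow_orderOf_eq_one]
  have hbz : b ^ 2 ^ β ∈ Z := by
    rw [← QuotientGroup.eq_one_iff, QuotientGroup.mk_pow, ← hβ, pow_orderOf_eq_one]
  by_cases ha1 : a ^ 2 ^ α = 1
  swap
  · exact hclose a b (hzu _ haz ha1 ▸ Subgroup.npow_mem_zpowers a _) hma hmb
  by_cases hb1 : b ^ 2 ^ β = 1
  swap
  · exact hclose b a (hzu _ hbz hb1 ▸ Subgroup.npow_mem_zpowers b _) hma' hmb'
  -- degenerate cases
  rcases α with _ | α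
  · rw [pow_zero, pow_one] at ha1
    subst ha1
    refine isMetacyclic_of_zpowers (g := z) (h := b) hZn (top_le_iff.mp fun x _ => hG x _ (one_mem _)
      (Subgroup.subset_closure (by simp)) (Subgroup.subset_closure (by simp)))
  rcases β with _ | β
  · rw [pow_zero, pow_one] at hb1
    subst hb1
    refine isMetacyclic_of_zpowers (g := z) (h := a) hZn (top_le_iff.mp fun x _ => hG x _
      (Subgroup.subset_closure (by simp)) (one_mem _) (Subgroup.subset_closure (by simp)))
  set u := a ^ 2 ^ α with hu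
  set v := b ^ 2 ^ β with hv
  have hsqc : ∀ g h : G, Commute (g ^ 2) h := by
    intro g h
    set c := g * h * g⁻¹ * h⁻¹ with hc
    have h1 : g * h * g⁻¹ = c * h := by rw [hc, inv_mul_cancel_right]
    have h2 : g ^ 2 * h * (g ^ 2)⁻¹ = h := by
      calc g ^ 2 * h * (g ^ 2)⁻¹ = g * (g * h * g⁻¹) * g⁻¹ := by rw [pow_two]; group
        _ = g * (c * h) * g⁻¹ := by rw [h1]
        _ = (g * c * g⁻¹) * (g * h * g⁻¹) := by group
        _ = c * (c * h) := by rw [h1, (htz c (hcom g h) g).eq, mul_inv_cancel_right]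
        _ = h := by rw [← mul_assoc, hsqz c (hcom g h), one_mul]
    exact mul_inv_eq_iff_eq_mul.mp h2
  have hu2 : u * u = 1 := by rw [hu, ← pow_add, ← two_mul, ← pow_succ']; exact ha1
  have hv2 : v * v = 1 := by rw [hv, ← pow_add, ← two_mul, ← pow_succ']; exact hb1
  have hune : (u : G ⧸ Z) ≠ 1 := by
    intro h
    rw [hu, QuotientGroup.mk_pow] at h
    have := orderOf_dvd_of_pow_eq_one h
    rw [hα] at this
    have := (Nat.pow_dvd_pow_iff_le_right (by norm_num)).mp this
    omega
  have hvne : (v : G ⧸ Z) ≠ 1 := by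
    intro h
    rw [hv, QuotientGroup.mk_pow] at h
    have := orderOf_dvd_of_pow_eq_one h
    rw [hβ] at this
    have := (Nat.pow_dvd_pow_iff_le_right (by norm_num)).mp this
    omega
  have huvne : (u : G ⧸ Z) ≠ v := by
    intro h
    refine hune (Subgroup.mem_bot.mp (hind ▸ Subgroup.mem_inf.mpr ⟨?_, h ▸ ?_⟩))
    · rw [hu, QuotientGroup.mk_pow]; exact Subgroup.npow_mem_zpowers _ _
    · rw [hv, QuotientGroup.mk_pow]; exact Subgroup.npow_mem_zpowers _ _
  have hz0 : (z : G ⧸ Z) = 1 := (QuotientGroup.eq_one_iff z).mpr (Subgroup.mem_zpowers z)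
  by_cases huv : Commute u v
  · refine (rank_three_false hR huv (hz u) (hz v) hu2 hv2 hz2 ?_ ?_ ?_ hz1 ?_ ?_ ?_).elim
    · intro h; exact hune (by rw [h]; rfl)
    · intro h; exact hvne (by rw [h]; rfl)
    · intro h; exact huvne (by rw [h])
    · intro h; exact hune (h ▸ hz0)
    · intro h; exact hvne (h ▸ hz0)
    · intro h
      have h' := hz0
      rw [h, QuotientGroup.mk_mul] at h'
      have e : (u : G ⧸ Z) = (v : G ⧸ Z)⁻¹ := eq_inv_of_mul_eq_one_left h'
      exact huvne (e.trans (inv_eq_of_mul_eq_one_right (by rw [← QuotientGroup.mk_mul, hv2]; rfl)))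
  · have hα0 : α = 0 := by
      by_contra h
      obtain ⟨t, rfl⟩ := Nat.exists_eq_succ_of_ne_zero h
      exact huv (by rw [hu, pow_succ, pow_mul]; exact hsqc _ _)
    have hβ0 : β = 0 := by
      by_contra h
      obtain ⟨t, rfl⟩ := Nat.exists_eq_succ_of_ne_zero h
      exact huv (by rw [hv, pow_succ, pow_mul]; exact (hsqc _ _).symm)
    subst hα0 hβ0
    simp only [pow_zero, pow_one] at hu hv
    rw [hu, hv] at huv
    rw [hu] at hu2
    rw [hv] at hv2
    have hsqne : (a * b) * (a * b) ≠ 1 := by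
      intro h
      apply huv
      calc a * b = (a * b)⁻¹ := eq_inv_of_mul_eq_one_left h
        _ = b * a := by
          rw [mul_inv_rev, inv_eq_of_mul_eq_one_right hu2, inv_eq_of_mul_eq_one_right hv2]
    have hin : (a * b) * (a * b) ∈ Z := by
      have := hcom a b
      rwa [inv_eq_of_mul_eq_one_right hu2, inv_eq_of_mul_eq_one_right hv2,
        mul_assoc (a * b)] at this
    refine hclose (a * b) a ?_ (Subgroup.subset_closure (by simp)) ?_
    · rw [← hzu _ hin hsqne, ← pow_two]
      exact Subgroup.npow_mem_zpowers _ _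
    · have : b = a⁻¹ * (a * b) := by group
      rw [this]
      exact mul_mem (inv_mem (Subgroup.subset_closure (by simp)))
        (Subgroup.subset_closure (by simp))

theorem main : ∀ (n : ℕ) (G : Type u) [Group G] [Finite G], Nat.card G = n → IsPGroup 2 G →
    Cfsg.SectionalPRankLE 2 2 G → Cfsg.IsMetacyclic G := by
  intro n
  induction n using Nat.strong_induction_on with
  | _ n ih =>
    intro G _ _ hn h2 hr
    haveI : Fact (Nat.Prime 2) := ⟨Nat.prime_two⟩
    by_cases hab : ∀ x y : G, Commute x y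
    · obtain ⟨x, y, hxy, -⟩ := exists_gens h2 hab (sectional_self hr)
      exact isMetacyclic_of_zpowers ⟨fun m hm g => by rwa [(hab g m).eq, mul_inv_cancel_right]⟩ hxy
    haveI : Group.IsNilpotent G := h2.isNilpotent
    have hD : commutator G ≠ ⊥ := fun h => hab fun x y => by
      have hxy : ⁅x, y⁆ ∈ commutator G :=
        Subgroup.commutator_mem_commutator (Subgroup.mem_top x) (Subgroup.mem_top y)
      rw [h, Subgroup.mem_bot] at hxy
      exact commutatorElement_eq_one_iff_commute.mp hxy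
    have hDz : commutator G ⊓ Subgroup.center G ≠ ⊥ :=
      PGroup.inf_center_ne_bot h2 _ hD
    obtain ⟨z, hzmem, hz1, hz2⟩ := exists_involution h2 hDz
    have hz : ∀ g, Commute g z := fun g => Subgroup.mem_center_iff.mp hzmem.2 g
    set Z := Subgroup.zpowers z with hZ
    haveI hZn : Z.Normal := ⟨fun m hm g => by
      obtain ⟨i, rfl⟩ := Subgroup.mem_zpowers_iff.mp hm
      rwa [((hz g).zpow_right i).eq, mul_inv_cancel_right]⟩
    have hlt : Nat.card (G ⧸ Z) < n := by
      have e := Z.card_eq_card_quotient_mul_card_subgroup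
      have h1 : 2 ≤ Nat.card Z :=
        (Subgroup.one_lt_card_iff_ne_bot Z).mpr (Subgroup.zpowers_ne_bot.mpr hz1)
      have h0 : 0 < Nat.card (G ⧸ Z) := Nat.card_pos
      have : Nat.card (G ⧸ Z) * 2 ≤ Nat.card (G ⧸ Z) * Nat.card Z := Nat.mul_le_mul_left _ h1
      omega
    obtain ⟨Nb, hNbn, hNbc, hQc⟩ :=
      ih _ hlt (G ⧸ Z) rfl (h2.to_quotient Z) (sectional_quotient hr Z)
    haveI := hNbn
    obtain ⟨a₀, ha₀⟩ := Nb.isCyclic_iff_exists_zpowers_eq_top.mp hNbc
    obtain ⟨a, rfl⟩ := QuotientGroup.mk_surjective a₀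
    set N := Nb.comap (QuotientGroup.mk' Z) with hN
    haveI : N.Normal := hNbn.comap _
    obtain ⟨qb, hqb⟩ := hQc.exists_generator
    obtain ⟨bb, rfl⟩ := QuotientGroup.mk_surjective qb
    obtain ⟨b, rfl⟩ := QuotientGroup.mk_surjective bb
    have hgen : ∀ g : G, ∀ S : Subgroup G, N ≤ S → b ∈ S → g ∈ S := by
      intro g S hNS hbS
      obtain ⟨i, hi⟩ := Subgroup.mem_zpowers_iff.mp (hqb ((g : G ⧸ Z) : (G ⧸ Z) ⧸ Nb))
      rw [← QuotientGroup.mk_zpow, QuotientGroup.eq, ← QuotientGroup.mk_zpow,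
        ← QuotientGroup.mk_inv, ← QuotientGroup.mk_mul] at hi
      have h1 : (b ^ i)⁻¹ * g ∈ S := hNS hi
      simpa using mul_mem (zpow_mem hbS i) h1
    have haN : a ∈ N := show (a : G ⧸ Z) ∈ Nb from ha₀ ▸ Subgroup.mem_zpowers _
    have hNrep : ∀ m ∈ N, ∃ i : ℤ, (a ^ i)⁻¹ * m ∈ Z := by
      intro m hm
      obtain ⟨i, hi⟩ := Subgroup.mem_zpowers_iff.mp (ha₀.ge (hm : (m : G ⧸ Z) ∈ Nb))
      have hi' : ((a ^ i : G) : G ⧸ Z) = (m : G ⧸ Z) := by rw [QuotientGroup.mk_zpow]; exact hi
      exact ⟨i, QuotientGroup.eq.mp hi'⟩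
    have hzN : z ∈ N := by
      show (z : G ⧸ Z) ∈ Nb
      rw [(QuotientGroup.eq_one_iff z).mpr (Subgroup.mem_zpowers z)]
      exact one_mem _
    by_cases hza : z ∈ Subgroup.zpowers a
    · -- `N` is cyclic
      have hNa : N = Subgroup.zpowers a := by
        refine le_antisymm (fun m hm => ?_) (Subgroup.zpowers_le.mpr haN)
        obtain ⟨i, hi⟩ := hNrep m hm
        simpa using mul_mem (Subgroup.zpow_mem_zpowers a i) (Subgroup.zpowers_le.mpr hza hi)
      refine isMetacyclic_of_zpowers (g := a) (h := b) (hNa ▸ ‹N.Normal›) (top_le_iff.mp fun g _ =>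
        hgen g _ ?_ (Subgroup.subset_closure (by simp)))
      rw [hNa, Subgroup.zpowers_le]
      exact Subgroup.subset_closure (by simp)
    -- otherwise the commutator subgroup is `⟨z⟩`
    have haz : a ∉ Z := by
      intro h
      apply hza
      obtain ⟨i, hi⟩ := Subgroup.mem_zpowers_iff.mp h
      rcases Int.even_or_odd i with ⟨j, rfl⟩ | ⟨j, rfl⟩
      · exfalso
        rw [← two_mul, zpow_mul, zpow_two, hz2, one_zpow] at hi
        -- `a = 1` makes `N = ⟨z⟩`, so `G` is abelian
        apply hab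
        subst hi
        intro x y
        have hS : ∀ g : G, g ∈ Subgroup.closure ({z, b} : Set G) := fun g => hgen g _ (fun m hm => by
          obtain ⟨i, hi⟩ := hNrep m hm
          rw [one_zpow, inv_one, one_mul] at hi
          exact (Subgroup.zpowers_le.mpr (Subgroup.subset_closure (by simp))) hi)
          (Subgroup.subset_closure (by simp))
        have hcz : IsMulCommutative (Subgroup.closure ({z, b} : Set G)) :=
          Subgroup.isMulCommutative_closure (by
            rintro p (rfl | rfl) q (rfl | rfl) <;>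
              first | rfl | exact (hz _).eq | exact (hz _).eq.symm)
        exact congrArg Subtype.val (hcz.is_comm.comm ⟨x, hS x⟩ ⟨y, hS y⟩)
      · rw [zpow_add, zpow_one, zpow_mul, zpow_two, hz2, one_zpow, one_mul] at hi
        rw [hi]; exact Subgroup.mem_zpowers a
    obtain ⟨k, hk⟩ := hNrep (b * a * b⁻¹) (‹N.Normal›.conj_mem a haN b)
    obtain ⟨e, he⟩ := Subgroup.mem_zpowers_iff.mp hk
    have hconj : b * a * b⁻¹ = a ^ k * z ^ e := by rw [he, mul_inv_cancel_left]
    obtain ⟨c2, hc2⟩ := IsPGroup.iff_orderOf.mp h2 a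
    have hkodd : Odd k := by
      by_contra hev
      rw [Int.not_odd_iff_even] at hev
      obtain ⟨j, rfl⟩ := hev
      obtain ⟨s, hs⟩ := IsPGroup.iff_orderOf.mp (h2.to_quotient Z) (a : G ⧸ Z)
      have hs0 : s ≠ 0 := fun h => haz (by
        rw [h, pow_zero, orderOf_eq_one_iff, QuotientGroup.eq_one_iff] at hs; exact hs)
      obtain ⟨s, rfl⟩ := Nat.exists_eq_succ_of_ne_zero hs0
      have hq : (b : G ⧸ Z) * (a : G ⧸ Z) * (b : G ⧸ Z)⁻¹ = (a : G ⧸ Z) ^ (j + j) := by
        rw [← QuotientGroup.mk_inv, ← QuotientGroup.mk_mul, ← QuotientGroup.mk_mul, hconj,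
          QuotientGroup.mk_mul, QuotientGroup.mk_zpow,
          (QuotientGroup.eq_one_iff _).mpr (Subgroup.zpow_mem_zpowers z e), mul_one]
      have h1 := congrArg (fun t => t ^ 2 ^ s) hq
      simp only [conj_pow] at h1
      have h3 : ((a : G ⧸ Z) ^ (j + j)) ^ 2 ^ s = 1 := by
        rw [← zpow_natCast, ← zpow_mul, ← orderOf_dvd_iff_zpow_eq_one, hs, pow_succ]
        push_cast
        exact ⟨j, by ring⟩
      rw [h3, conj_eq_one_iff] at h1
      have h4 := orderOf_dvd_of_pow_eq_one h1
      rw [hs] at h4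
      have := (Nat.pow_dvd_pow_iff_le_right (by norm_num)).mp h4
      omega
    obtain ⟨k', rfl⟩ := hkodd
    set c := a ^ (2 * k') * z ^ e with hc
    have hca : ∀ i : ℤ, Commute (a ^ i) (z ^ e) := fun i => ((hz (a ^ i)).zpow_right e)
    have hbc : b * c * b⁻¹ = c ^ (2 * k' + 1) := by
      have e1 : b * a ^ (2 * k') * b⁻¹ = (a ^ (2 * k' + 1) * z ^ e) ^ (2 * k') := by
        rw [← hconj, conj_zpow]
      have e2 : b * z ^ e * b⁻¹ = z ^ e := by
        rw [((hz b).zpow_right e).eq, mul_inv_cancel_right]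
      calc b * c * b⁻¹ = (b * a ^ (2 * k') * b⁻¹) * (b * z ^ e * b⁻¹) := by rw [hc]; group
        _ = (a ^ (2 * k' + 1) * z ^ e) ^ (2 * k') * z ^ e := by rw [e1, e2]
        _ = a ^ ((2 * k' + 1) * (2 * k')) * z ^ (e * (2 * k') + e) := by
            rw [(hca _).mul_zpow, ← zpow_mul, ← zpow_mul, mul_assoc, ← zpow_add]
        _ = c ^ (2 * k' + 1) := by
            rw [hc, (hca _).mul_zpow, ← zpow_mul, ← zpow_mul]
            congr 2 <;> ring
    set C := Subgroup.zpowers c with hC
    have hcN : c ∈ N := mul_mem (zpow_mem haN _) (zpow_mem hzN _)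
    have hNcomm : ∀ x ∈ N, Commute c x := by
      intro x hx
      obtain ⟨i, hi⟩ := hNrep x hx
      obtain ⟨t, ht⟩ := Subgroup.mem_zpowers_iff.mp hi
      have : x = a ^ i * z ^ t := by rw [ht, mul_inv_cancel_left]
      rw [this, hc]
      refine Commute.mul_left (Commute.mul_right ((Commute.refl a).zpow_zpow _ _)
        ((hz _).zpow_right t)) (Commute.mul_right ((hz _).zpow_right e).symm
        ((Commute.refl z).zpow_zpow _ _))
    haveI hCn : C.Normal := by
      rw [← Subgroup.normalizer_eq_top_iff]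
      refine top_le_iff.mp fun g _ => hgen g _ ?_ ?_
      · intro x hx
        exact Subgroup.centralizer_le_normalizer _ (Subgroup.mem_centralizer_iff.mpr fun y hy => by
          obtain ⟨i, rfl⟩ := Subgroup.mem_zpowers_iff.mp hy
          exact ((hNcomm x hx).zpow_left i).eq)
      · refine PGroup.mem_normalizer_of_map_conj_eq ?_
        refine Subgroup.eq_of_le_of_card_ge ?_
          (Subgroup.card_map_of_injective (MulAut.conj b).injective).ge
        rw [hC, MonoidHom.map_zpowers, Subgroup.zpowers_le]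
        show b * c * b⁻¹ ∈ _
        rw [hbc]
        exact Subgroup.zpow_mem_zpowers _ _
    have habc : ∀ x y : G ⧸ C, Commute x y := by
      have hgenC : ∀ x : G ⧸ C, ∀ S : Subgroup (G ⧸ C), (a : G ⧸ C) ∈ S → (b : G ⧸ C) ∈ S →
          (z : G ⧸ C) ∈ S → x ∈ S := by
        intro x S h₁ h₂ h₃
        induction x using QuotientGroup.induction_on with
        | H g =>
          refine hgen g (S.comap (QuotientGroup.mk' C)) (fun m hm => ?_) h₂
          obtain ⟨i, hi⟩ := hNrep m hm
          have h4 : (a ^ i)⁻¹ * m ∈ S.comap (QuotientGroup.mk' C) :=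
            (Subgroup.zpowers_le.mpr (show z ∈ S.comap (QuotientGroup.mk' C) from h₃)) hi
          simpa using mul_mem (zpow_mem (show a ∈ S.comap (QuotientGroup.mk' C) from h₁) i) h4
      have hab' : Commute (a : G ⧸ C) (b : G ⧸ C) := by
        refine (mul_inv_eq_iff_eq_mul.mp ?_).symm
        rw [← QuotientGroup.mk_inv, ← QuotientGroup.mk_mul, ← QuotientGroup.mk_mul, hconj,
          QuotientGroup.eq]
        have e0 : (a ^ (2 * k' + 1) * z ^ e)⁻¹ * a = c⁻¹ := by
          rw [hc, mul_inv_rev, mul_inv_rev, mul_assoc]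
          rw [show (a ^ (2 * k' + 1))⁻¹ * a = (a ^ (2 * k'))⁻¹ by group]
        rw [e0]
        exact inv_mem (Subgroup.mem_zpowers c)
      have hzc : ∀ x : G ⧸ C, Commute x (z : G ⧸ C) := fun x => by
        induction x using QuotientGroup.induction_on with
        | H g => exact congrArg QuotientGroup.mk (hz g).eq
      intro x y
      refine Subgroup.mem_centralizer_singleton_iff.mp (hgenC x (Subgroup.centralizer {y}) ?_ ?_ ?_)
      all_goals rw [Subgroup.mem_centralizer_singleton_iff]
      · exact (Subgroup.mem_centralizer_singleton_iff.mp (hgenC y (Subgroup.centralizer {(a : G ⧸ C)})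
          (Subgroup.mem_centralizer_singleton_iff.mpr rfl)
          (Subgroup.mem_centralizer_singleton_iff.mpr hab'.symm.eq)
          (Subgroup.mem_centralizer_singleton_iff.mpr (hzc _).symm.eq))).symm
      · exact (Subgroup.mem_centralizer_singleton_iff.mp (hgenC y (Subgroup.centralizer {(b : G ⧸ C)})
          (Subgroup.mem_centralizer_singleton_iff.mpr hab'.eq)
          (Subgroup.mem_centralizer_singleton_iff.mpr rfl)
          (Subgroup.mem_centralizer_singleton_iff.mpr (hzc _).symm.eq))).symm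
      · exact (hzc y).symm.eq
    have hDC : commutator G ≤ C := by
      rw [_root_.commutator_def, Subgroup.commutator_le]
      intro x _ y _
      rw [← QuotientGroup.eq_one_iff, ← QuotientGroup.mk'_apply, map_commutatorElement]
      exact commutatorElement_eq_one_iff_commute.mpr (habc _ _)
    obtain ⟨j, hj⟩ := Subgroup.mem_zpowers_iff.mp (hDC hzmem.1)
    rw [hc, (hca _).mul_zpow, ← zpow_mul, ← zpow_mul] at hj
    have hodd : Odd (e * j) := by
      by_contra hev
      rw [Int.not_odd_iff_even] at hev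
      obtain ⟨t, ht⟩ := hev
      rw [ht, ← two_mul t, zpow_mul z, zpow_two, hz2, one_zpow, mul_one] at hj
      exact hza ⟨_, hj⟩
    obtain ⟨t, ht⟩ := hodd
    rw [ht, zpow_add, zpow_one, zpow_mul z, zpow_two, hz2, one_zpow, one_mul, mul_eq_right] at hj
    have hj' : Odd j := Int.Odd.of_mul_right ⟨t, ht⟩
    have hak : a ^ (2 * k') = 1 := by
      have hd := orderOf_dvd_iff_zpow_eq_one.mpr hj
      rw [hc2] at hd
      rw [← orderOf_dvd_iff_zpow_eq_one, hc2]
      refine IsCoprime.dvd_of_dvd_mul_right ?_ hd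
      push_cast
      refine IsCoprime.pow_left ?_
      obtain ⟨w, rfl⟩ := hj'
      exact ⟨-w, 1, by ring⟩
    refine of_central_commutator h2 (sectional_self hr)
      (fun K _ => sectional_self (sectional_quotient hr K)) hz hz1 hz2 fun g h => ?_
    have hcz : c ∈ Z := by
      rw [hc, hak, one_mul]
      exact Subgroup.zpow_mem_zpowers z e
    exact (Subgroup.zpowers_le.mpr hcz) (hDC (Subgroup.commutator_mem_commutator
      (Subgroup.mem_top g) (Subgroup.mem_top h)))

/-- A finite 2-group of sectional 2-rank at most 2 (every section has no elementary abelian subgroup of order 8) is metacyclic: it has a cyclic normal subgroup with cyclic quotient. -/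
theorem result {S : Type*} [Group S] [Finite S] (h2 : IsPGroup 2 S) (hr : Cfsg.SectionalPRankLE 2 2 S) : Cfsg.IsMetacyclic S := by
  exact main _ S rfl h2 hr

end Cfsg.Agent.S4397
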