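import Cfsg.Statements.S4399
import Cfsg.Agent.Lib.PGroup.MaximalClass

set_option autoImplicit false
open Cfsg

namespace Cfsg.Agent.S4399

/-- Let S be a finite 2-group whose commutator quotient S/[S,S] is a Klein four-group (order 4 and exponent 2). Then S itself has order 4, or S is dihedral of order at least 8, semidihedral of order at least 16 (order 2^(k+4) with an element a of order 2^(k+3) and an involution b with b a b⁻¹ = a^(2^(k+2)−1)), or generalized quaternion of order at least 8. -/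
theorem result {S : Type*} [Group S] [Finite S] (h2 : IsPGroup 2 S) (hab : Nat.card (Abelianization S) = 4)
    (hexp : ∀ x : Abelianization S, x ^ 2 = 1) :
    Nat.card S = 4 ∨
    ((∃ k : ℕ, Nonempty (S ≃* DihedralGroup (2 ^ (k + 2)))) ∨
      (∃ k : ℕ, Nat.card S = 2 ^ (k + 4) ∧ ∃ a b : S, orderOf a = 2 ^ (k + 3) ∧ orderOf b = 2 ∧ b * a * b⁻¹ = a ^ (2 ^ (k + 2) - 1)) ∨
      (∃ k : ℕ, Nonempty (S ≃* QuaternionGroup (2 ^ (k + 1))))) := by
  have : Fact (Nat.Prime 2) := ⟨Nat.prime_two⟩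
  obtain ⟨n, hn⟩ := IsPGroup.iff_card.mp h2
  have hc : (commutator S).index = 4 := by rw [Subgroup.index_eq_card]; exact hab
  have h4 : 4 ∣ 2 ^ n := by rw [← hn, ← hc]; exact Subgroup.index_dvd_card _
  have hn2 : 2 ≤ n := by
    rw [show (4 : ℕ) = 2 ^ 2 by norm_num, Nat.pow_dvd_pow_iff_le_right (by norm_num)] at h4
    exact h4
  rcases Nat.eq_or_lt_of_le hn2 with rfl | hn3
  · exact Or.inl (by rw [hn]; norm_num)
  right
  obtain ⟨j, rfl⟩ : ∃ j, n = j + 3 := ⟨n - 3, by omega⟩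
  obtain ⟨a, b, ha, hb, -, h⟩ :=
    PGroup.two_group_commutator_index_four (by omega : 2 ≤ j + 2) hn hc
  rcases h with ⟨hb2, hconj⟩ | ⟨hb2, hconj⟩ | ⟨hj, hb2, hconj⟩
  · exact Or.inl ⟨j, PGroup.dihedralEquivOfRel ha hb hb2 hconj (by rw [hn]; ring)⟩
  · rw [show j + 2 - 1 = j + 1 by omega] at hb2
    exact Or.inr (Or.inr ⟨j, PGroup.quaternionEquivOfRel (by rw [ha]; ring) hb hb2 hconj
      (by rw [hn]; ring)⟩)
  · obtain ⟨k, rfl⟩ : ∃ k, j = k + 1 := ⟨j - 1, by omega⟩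
    refine Or.inr (Or.inl ⟨k, hn, a, b, ha, orderOf_eq_prime hb2 (fun h1 => hb (h1 ▸ one_mem _)), ?_⟩)
    rw [hconj]
    rfl

end Cfsg.Agent.S4399
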