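import Cfsg.Statements.S4398
import Cfsg.Agent.S4399
import Cfsg.Agent.Lib.PGroup.Basic

set_option autoImplicit false
open Cfsg

namespace Cfsg.Agent.S4398

open Subgroup
open scoped commutatorElement

universe u

/-- A quotient of a subgroup inherits the rank bound. -/
theorem rank_of_section {S : Type*} [Group S] (hr : Cfsg.SectionalPRankLE 2 2 S) (H : Subgroup S)
    {Q : Type*} [Group Q] (f : H →* Q) (hf : Function.Surjective f) : Cfsg.PRankLE 2 2 Q := by
  intro A hA hA2
  let e := (QuotientGroup.quotientKerEquivOfSurjective f hf).symm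
  have := hr H f.ker (A.map e.toMonoidHom) ?_ ?_
  · rwa [← Nat.card_congr (A.equivMapOfInjective _ e.injective).toEquiv] at this
  · refine ⟨⟨?_⟩⟩
    rintro ⟨_, a, ha, rfl⟩ ⟨_, b, hb, rfl⟩
    refine Subtype.ext ?_
    show e a * e b = e b * e a
    rw [← map_mul, ← map_mul, PGroup.mul_comm_of_isMulCommutative hA ha hb]
  · rintro _ ⟨a, ha, rfl⟩
    show e a ^ 2 = 1
    rw [← map_pow, hA2 a ha, map_one]

theorem sectional_rank_top {S : Type*} [Group S] (hr : Cfsg.SectionalPRankLE 2 2 S)
    {Q : Type*} [Group Q] (f : S →* Q) (hf : Function.Surjective f) : Cfsg.PRankLE 2 2 Q :=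
  rank_of_section hr ⊤ (f.comp Subgroup.topEquiv.toMonoidHom) (hf.comp fun q => ⟨⟨q, mem_top q⟩, rfl⟩)

theorem card_map_mul {S : Type*} [Group S] {N : Subgroup S} [N.Normal] (π : S →* S ⧸ N) (M : Subgroup S)
    (hNM : N ≤ M) (hπ : π.ker = N := by exact QuotientGroup.ker_mk' _) :
    Nat.card M = Nat.card (M.map π) * Nat.card N := by
  have h := card_eq_card_quotient_mul_card_subgroup (π.subgroupMap M).ker
  rw [Nat.card_congr (QuotientGroup.quotientKerEquivOfSurjective _ (π.subgroupMap_surjective M)).toEquiv] at h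
  rw [h]
  congr 1
  have : (π.subgroupMap M).ker = N.subgroupOf M := by
    ext u
    rw [MonoidHom.mem_ker, mem_subgroupOf, Subtype.ext_iff]
    exact MonoidHom.mem_ker.symm.trans (SetLike.ext_iff.1 hπ _)
  rw [this, Nat.card_congr (subgroupOfEquivOfLe hNM).toEquiv]

theorem sectional_subgroup {S : Type*} [Group S] (hr : Cfsg.SectionalPRankLE 2 2 S) (M : Subgroup S) :
    Cfsg.SectionalPRankLE 2 2 M := fun H N _ =>
  rank_of_section hr (H.map M.subtype)
    ((QuotientGroup.mk' N).comp (H.equivMapOfInjective M.subtype M.subtype_injective).symm.toMonoidHom)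
    ((QuotientGroup.mk'_surjective N).comp
      (H.equivMapOfInjective M.subtype M.subtype_injective).symm.surjective)

theorem sectional_quotient {S : Type*} [Group S] (hr : Cfsg.SectionalPRankLE 2 2 S) (K : Subgroup S)
    [K.Normal] : Cfsg.SectionalPRankLE 2 2 (S ⧸ K) := fun H N _ =>
  rank_of_section hr (H.comap (QuotientGroup.mk' K))
    ((QuotientGroup.mk' N).comp ((QuotientGroup.mk' K).subgroupComap H)) fun q => by
      obtain ⟨⟨h, hh⟩, rfl⟩ := QuotientGroup.mk'_surjective N q
      obtain ⟨s, rfl⟩ := QuotientGroup.mk'_surjective K h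
      exact ⟨⟨s, hh⟩, rfl⟩

/-- The commutator of a nonabelian subgroup of order eight generates its centre. -/
theorem eight_facts {S : Type*} [Group S] [Finite S] (D : Subgroup S) (h8 : Nat.card D = 8)
    (hna : ∃ x ∈ D, ∃ y ∈ D, x * y ≠ y * x) :
    ∃ z : S, z ∈ commutator S ∧ z ∈ D ∧ orderOf z = 2 ∧
      (∀ d ∈ D, (∀ e ∈ D, d * e = e * d) ↔ d ∈ zpowers z) ∧ (∀ d ∈ D, d ^ 2 ∈ zpowers z) ∧
      ∀ d ∈ D, ∀ e ∈ D, ⁅d, e⁆ ∈ zpowers z := by
  haveI : Fact (Nat.Prime 2) := ⟨Nat.prime_two⟩
  have hD2 : IsPGroup 2 D := IsPGroup.of_card (n := 3) (by rw [h8]; norm_num)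
  obtain ⟨x, hx, y, hy, hxy⟩ := hna
  have hnc : ¬ IsMulCommutative D := fun h => hxy (PGroup.mul_comm_of_isMulCommutative h hx hy)
  set Z := center D with hZ
  have hncyc : ¬ IsCyclic (D ⧸ Z) := fun h => hnc
    (commutative_of_cyclic_center_quotient (QuotientGroup.mk' Z) (by rw [QuotientGroup.ker_mk']) |>
      fun h => ⟨⟨h⟩⟩)
  haveI : Nontrivial D := Finite.one_lt_card_iff_nontrivial.1 (by rw [h8]; norm_num)
  have hZ1 : 1 < Nat.card Z := by
    haveI := hD2.center_nontrivial
    exact Finite.one_lt_card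
  have hmul := card_eq_card_quotient_mul_card_subgroup Z
  rw [h8] at hmul
  obtain ⟨k, -, hk⟩ := (Nat.dvd_prime_pow Nat.prime_two (m := 3)).1
    (show Nat.card Z ∣ 2 ^ 3 by rw [show (2 : ℕ) ^ 3 = 8 by norm_num, ← h8]; exact card_subgroup_dvd_card Z)
  have hk1 : k = 1 := by
    rw [hk] at hZ1 hmul
    rcases (show k ≤ 3 by
      by_contra h
      have : 2 ^ 4 ≤ 2 ^ k := Nat.pow_le_pow_right (by norm_num) (by omega)
      have h2 : 2 ^ k ≤ 8 := Nat.le_of_dvd (by norm_num) ⟨_, hmul.trans (mul_comm _ _)⟩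
      omega) |> fun h => (show k = 0 ∨ k = 1 ∨ k = 2 ∨ k = 3 by omega) with rfl | rfl | rfl | rfl
    · simp at hZ1
    · rfl
    · exact absurd (isCyclic_of_prime_card (p := 2) (by omega : Nat.card (D ⧸ Z) = 2)) hncyc
    · refine absurd ?_ hncyc
      have h1 : Nat.card (D ⧸ Z) = 1 := by omega
      haveI : Subsingleton (D ⧸ Z) := (Nat.card_eq_one_iff_unique.1 h1).1
      infer_instance
  subst hk1
  have hq4 : Nat.card (D ⧸ Z) = 2 ^ 2 := by rw [hk] at hmul; omega
  have hqc : IsMulCommutative (D ⧸ Z) := IsPGroup.isMulCommutative_of_card_eq_prime_sq hq4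
  have hcZ : ∀ d e : D, ⁅d, e⁆ ∈ Z := fun d e => by
    rw [← QuotientGroup.eq_one_iff, ← QuotientGroup.mk'_apply, map_commutatorElement,
      commutatorElement_eq_one_iff_mul_comm]
    exact hqc.is_comm.comm _ _
  have hsqZ : ∀ d : D, d ^ 2 ∈ Z := by
    intro d
    rw [← QuotientGroup.eq_one_iff, QuotientGroup.mk_pow]
    by_contra hne
    refine hncyc (isCyclic_of_orderOf_eq_card (d : D ⧸ Z) ?_)
    rw [hq4]
    refine orderOf_eq_prime_pow (p := 2) (n := 1) (by rwa [pow_one]) ?_
    have := pow_card_eq_one' (x := (d : D ⧸ Z))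
    rwa [hq4] at this
  set z : S := ⁅x, y⁆ with hz
  have hzD : z ∈ D := by
    rw [hz, commutatorElement_def]
    exact mul_mem (mul_mem (mul_mem hx hy) (inv_mem hx)) (inv_mem hy)
  have hzv : z = ((⁅(⟨x, hx⟩ : D), ⟨y, hy⟩⁆ : D) : S) := by
    simp [hz, commutatorElement_def]
  have hz1 : z ≠ 1 := fun h => hxy (commutatorElement_eq_one_iff_mul_comm.1 h)
  set c : D := ⁅(⟨x, hx⟩ : D), ⟨y, hy⟩⁆
  have hco : orderOf c = 2 := by
    refine orderOf_eq_prime ?_ fun h => hz1 (by rw [hzv, h]; rfl)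
    have := pow_card_eq_one' (x := (⟨c, hcZ _ _⟩ : Z))
    rw [hk, pow_one] at this
    exact congrArg Subtype.val this
  have hZc : Z = zpowers c := (eq_of_le_of_card_ge (zpowers_le.2 (hcZ _ _))
    (by rw [hk, Nat.card_zpowers, hco]; norm_num)).symm
  have hmem : ∀ d : D, d ∈ Z ↔ (d : S) ∈ zpowers z := by
    intro d
    rw [hZc, hzv, ← coe_subtype, ← MonoidHom.map_zpowers, mem_map_iff_mem D.subtype_injective]
  refine ⟨z, commutator_mem_commutator (mem_top _) (mem_top _), hzD,
    by rw [hzv, Subgroup.orderOf_coe, hco], fun d hd => ?_, fun d hd => (hmem _).1 (hsqZ ⟨d, hd⟩),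
    fun d hd e he => ?_⟩
  · rw [← hmem ⟨d, hd⟩, hZ, Subgroup.mem_center_iff]
    exact ⟨fun h g => Subtype.ext (h g g.2).symm, fun h e he => (congrArg Subtype.val (h ⟨e, he⟩)).symm⟩
  · have := (hmem _).1 (hcZ ⟨d, hd⟩ ⟨e, he⟩)
    simpa [commutatorElement_def] using this

/-- A subgroup of order eight has all its centralising elements inside. -/
theorem centralizer_facts {S : Type*} [Group S] [Finite S] (h2 : IsPGroup 2 S)
    (hr : Cfsg.SectionalPRankLE 2 2 S) (D : Subgroup S) (h8 : Nat.card D = 8) (z : S) (hzD : z ∈ D)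
    (hzo : orderOf z = 2) (hzc : ∀ d ∈ D, (∀ e ∈ D, d * e = e * d) ↔ d ∈ zpowers z)
    (hsq : ∀ d ∈ D, d ^ 2 ∈ zpowers z) (hcom : ∀ d ∈ D, ∀ e ∈ D, ⁅d, e⁆ ∈ zpowers z)
    {c : S} (hc : c ∈ centralizer (D : Set S)) : c ∈ zpowers z := by
  have hin : ∀ b ∈ centralizer (D : Set S), b ∈ D → b ∈ zpowers z := fun b hb hbD =>
    (hzc b hbD).1 fun e he => (mem_centralizer_iff.1 hb e he).symm
  by_contra hcz
  obtain ⟨k, hk⟩ := h2 c
  obtain ⟨j, hj, hj'⟩ : ∃ j, c ^ 2 ^ j ∉ zpowers z ∧ c ^ 2 ^ (j + 1) ∈ zpowers z := by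
    classical
    have hex : ∃ j, c ^ 2 ^ j ∈ zpowers z := ⟨k, by rw [hk]; exact one_mem _⟩
    have h0 : Nat.find hex ≠ 0 := fun h => by
      have := Nat.find_spec hex
      rw [h, pow_zero, pow_one] at this
      exact hcz this
    refine ⟨Nat.find hex - 1, Nat.find_min hex (by omega), ?_⟩
    rw [Nat.sub_add_cancel (by omega)]
    exact Nat.find_spec hex
  set b := c ^ 2 ^ j with hb
  have hbC : b ∈ centralizer (D : Set S) := pow_mem hc _
  have hb2 : b ^ 2 ∈ zpowers z := by rw [hb, ← pow_mul, ← pow_succ]; exact hj'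
  have hbD : b ∉ D := fun h => hj (hin b hbC h)
  set H := D ⊔ zpowers b with hH
  have hzcen : ∀ h ∈ H, h * z = z * h := by
    have hle : H ≤ centralizer {z} := sup_le
      (fun d hd => mem_centralizer_singleton_iff.2 (((hzc z hzD).2 (mem_zpowers z) d hd).symm))
      (zpowers_le.2 (mem_centralizer_singleton_iff.2 (mem_centralizer_iff.1 hbC z hzD).symm))
    exact fun h hh => mem_centralizer_singleton_iff.1 (hle hh)
  let N : Subgroup H := (zpowers z).subgroupOf H
  haveI hNn : N.Normal := ⟨fun n hn g => by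
    obtain ⟨i, hi⟩ := mem_zpowers_iff.1 hn
    have : g * n * g⁻¹ = n := Subtype.ext (by
      rw [Subgroup.coe_mul, Subgroup.coe_mul, Subgroup.coe_inv, subtype_apply] at *
      rw [← hi, ((show Commute (g : S) z from hzcen g g.2).zpow_right i).eq, mul_inv_cancel_right])
    rwa [this]⟩
  let π := QuotientGroup.mk' N
  have hπ : ∀ u : H, (u : S) ∈ zpowers z → π u = 1 := fun u hu => (QuotientGroup.eq_one_iff u).2 hu
  set A := Set.range fun d : D => π ⟨d, le_sup_left (a := D) d.2⟩
  set w := π ⟨b, le_sup_right (a := D) (mem_zpowers b)⟩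
  have hgen : closure (A ∪ {w}) = ⊤ := by
    refine top_unique fun q _ => ?_
    obtain ⟨⟨u, hu⟩, rfl⟩ := QuotientGroup.mk'_surjective N q
    have hle : H ≤ ((closure (A ∪ {w})).comap π).map H.subtype :=
      sup_le (fun d hd => ⟨⟨d, le_sup_left (a := D) hd⟩, subset_closure (Or.inl ⟨⟨d, hd⟩, rfl⟩), rfl⟩)
        (zpowers_le.2 ⟨⟨b, le_sup_right (a := D) (mem_zpowers b)⟩, subset_closure (Or.inr rfl), rfl⟩)
    obtain ⟨v, hv, hvu⟩ := hle hu
    obtain rfl : v = ⟨u, hu⟩ := Subtype.ext hvu
    exact hv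
  have hpair : ∀ p ∈ A ∪ {w}, ∀ q ∈ A ∪ {w}, p * q = q * p := by
    have haw : ∀ p ∈ A, p * w = w * p := by
      rintro _ ⟨d, rfl⟩
      rw [← map_mul, ← map_mul]
      exact congrArg π (Subtype.ext (mem_centralizer_iff.1 hbC d d.2))
    rintro p (hp | rfl) q (hq | rfl)
    · obtain ⟨d, rfl⟩ := hp
      obtain ⟨e, rfl⟩ := hq
      rw [← commutatorElement_eq_one_iff_mul_comm, ← map_commutatorElement]
      exact hπ _ (by simpa [commutatorElement_def] using hcom d d.2 e e.2)
    · exact haw p hp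
    · exact (haw q hq).symm
    · rfl
  have hcomm : IsMulCommutative (⊤ : Subgroup (H ⧸ N)) := by
    rw [← hgen]; exact Subgroup.isMulCommutative_closure hpair
  have hexp : ∀ q ∈ (⊤ : Subgroup (H ⧸ N)), q ^ 2 = 1 := by
    rw [← hgen]
    intro q hq
    induction hq using closure_induction with
    | mem p hp =>
      rcases hp with ⟨d, rfl⟩ | rfl
      · rw [← map_pow]; exact hπ _ (by simpa using hsq d d.2)
      · rw [← map_pow]; exact hπ _ (by simpa using hb2)
    | one => exact one_pow _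
    | mul p q _ _ hp hq =>
      rw [(show Commute p q from PGroup.mul_comm_of_isMulCommutative hcomm (mem_top p) (mem_top q)).mul_pow,
        hp, hq, one_mul]
    | inv p _ hp => rw [inv_pow, hp, inv_one]
  have := hr H N ⊤ hcomm hexp
  rw [Subgroup.card_top] at this
  have hcN : Nat.card N = 2 := by
    rw [Nat.card_congr (subgroupOfEquivOfLe (zpowers_le.2 (le_sup_left (a := D) hzD))).toEquiv,
      Nat.card_zpowers, hzo]
  have hlt : D < H := lt_of_le_not_ge le_sup_left fun h => hbD (h (le_sup_right (a := D) (mem_zpowers b)))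
  have h16 : 16 ≤ Nat.card H := by
    obtain ⟨r, hr'⟩ := card_dvd_of_le hlt.le
    rw [h8] at hr'
    have : Nat.card D < Nat.card H := (Set.toFinite _).card_lt_card hlt
    omega
  have := card_eq_card_quotient_mul_card_subgroup N
  rw [hcN] at this
  omega

/-- The derived group is bigger than the centre of a subgroup of order eight. -/
theorem commutator_big {S : Type*} [Group S] [Finite S] (h2 : IsPGroup 2 S)
    (hr : Cfsg.SectionalPRankLE 2 2 S) (h16 : 16 ≤ Nat.card S) (D : Subgroup S) (h8 : Nat.card D = 8)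
    (z : S) (hzD : z ∈ D)
    (hzo : orderOf z = 2) (hzc : ∀ d ∈ D, (∀ e ∈ D, d * e = e * d) ↔ d ∈ zpowers z)
    (hsq : ∀ d ∈ D, d ^ 2 ∈ zpowers z) (hcom : ∀ d ∈ D, ∀ e ∈ D, ⁅d, e⁆ ∈ zpowers z) :
    (¬ commutator S ≤ zpowers z) ∧ ∀ g ∈ center S, g ∈ zpowers z := by
  have hC := fun c (hc : c ∈ centralizer (D : Set S)) =>
    centralizer_facts h2 hr D h8 z hzD hzo hzc hsq hcom hc
  refine ⟨fun hle => ?_, fun g hg => hC g (center_le_centralizer _ hg)⟩
  have hzne : ∀ g : S, g ∈ zpowers z → g ^ 2 = 1 := by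
    intro g hg
    obtain ⟨i, rfl⟩ := mem_zpowers_iff.1 hg
    rw [← zpow_natCast (z ^ i), ← zpow_mul, mul_comm, zpow_mul, zpow_natCast,
      show z ^ 2 = 1 by rw [← hzo, pow_orderOf_eq_one], one_zpow]
  have hcz : ∀ a b : S, ⁅a, b⁆ ∈ zpowers z := fun a b =>
    hle (commutator_mem_commutator (mem_top _) (mem_top _))
  haveI hn : (zpowers z).Normal := by
    refine ⟨fun n hn g => ?_⟩
    have := mul_mem (hcz g n) hn
    rwa [commutatorElement_def, inv_mul_cancel_right] at this
  have hzcen : ∀ n ∈ zpowers z, ∀ g : S, g * n = n * g := by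
    intro n hn' g
    have h1 : g * n * g⁻¹ ∈ zpowers z := hn.conj_mem n hn' g
    have hsing : ∀ m ∈ zpowers z, m ≠ 1 → m = z := by
      intro m hm hm1
      obtain ⟨i, rfl⟩ := mem_zpowers_iff.1 hm
      rcases Int.emod_two_eq_zero_or_one i with h | h
      · exact absurd (by rw [← zpow_mod_orderOf, hzo, Nat.cast_ofNat, h, zpow_zero]) hm1
      · rw [← zpow_mod_orderOf, hzo, Nat.cast_ofNat, h, zpow_one]
    by_cases hn1 : n = 1
    · simp [hn1]
    have := hsing _ h1 (fun h => hn1 (by simpa using h))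
    rw [← hsing n hn' hn1] at this
    exact mul_inv_eq_iff_eq_mul.1 this
  have hsqall : ∀ g : S, g ^ 2 ∈ zpowers z := by
    intro g
    refine hC _ (mem_centralizer_iff.2 fun d _ => ?_)
    set t := ⁅g, d⁆ with ht
    have hgd : g * d = t * d * g := by rw [ht, commutatorElement_def]; group
    have htc : g * t = t * g := hzcen t (hcz g d) g
    have ht2 : t * t = 1 := by rw [← pow_two]; exact hzne t (hcz g d)
    have key : g ^ 2 * d = d * g ^ 2 := by
      calc g ^ 2 * d = g * (g * d) := by rw [pow_two, mul_assoc]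
        _ = (g * t) * d * g := by rw [hgd]; group
        _ = t * (g * d) * g := by rw [htc]; group
        _ = (t * t) * d * g ^ 2 := by rw [hgd, pow_two]; group
        _ = d * g ^ 2 := by rw [ht2, one_mul]
    exact key.symm
  let π := QuotientGroup.mk' (zpowers z)
  have hcomm : IsMulCommutative (⊤ : Subgroup (S ⧸ zpowers z)) := ⟨⟨fun p q => Subtype.ext (by
    obtain ⟨a, ha⟩ := QuotientGroup.mk'_surjective _ (p : S ⧸ zpowers z)
    obtain ⟨b, hb⟩ := QuotientGroup.mk'_surjective _ (q : S ⧸ zpowers z)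
    rw [Subgroup.coe_mul, Subgroup.coe_mul, ← ha, ← hb, ← commutatorElement_eq_one_iff_mul_comm,
      ← map_commutatorElement]
    exact (QuotientGroup.eq_one_iff _).2 (hcz a b))⟩⟩
  have := sectional_rank_top hr (π) (QuotientGroup.mk'_surjective _) ⊤ hcomm (by
    intro q _
    obtain ⟨a, rfl⟩ := QuotientGroup.mk'_surjective _ q
    exact (map_pow π a 2).symm.trans ((QuotientGroup.eq_one_iff _).2 (hsqall a)))
  rw [Subgroup.card_top] at this
  have := card_eq_card_quotient_mul_card_subgroup (zpowers z)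
  rw [Nat.card_zpowers, hzo] at this
  omega

theorem index_commutator : ∀ (n : ℕ) (S : Type u) [Group S] [Finite S], Nat.card S = n → IsPGroup 2 S →
    Cfsg.SectionalPRankLE 2 2 S →
    (∃ D : Subgroup S, Nat.card D = 8 ∧ ∃ x ∈ D, ∃ y ∈ D, x * y ≠ y * x) →
    (commutator S).index = 4 := by
  intro n
  induction n using Nat.strong_induction_on with
  | _ n ih =>
    intro S _ _ hn h2 hr hD
    obtain ⟨D, h8, hna⟩ := hD
    haveI : Fact (Nat.Prime 2) := ⟨Nat.prime_two⟩
    have hnc : ¬ IsCyclic S := by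
      intro h
      obtain ⟨x, -, y, -, hxy⟩ := hna
      exact hxy (IsCyclic.isMulCommutative.is_comm.comm x y)
    have hge := PGroup.sq_le_index_commutator h2 hnc
    obtain ⟨z, hzS, hzD, hzo, hzc, hsq, hcom⟩ := eight_facts D h8 hna
    have hmul := card_mul_index (commutator S)
    have hz2 : 2 ≤ Nat.card (commutator S) := by
      rw [← hzo, ← Nat.card_zpowers]
      exact card_le_of_le (zpowers_le.2 hzS)
    obtain ⟨m, hm⟩ := IsPGroup.iff_card.1 h2
    have h8S : 8 ≤ Nat.card S := h8 ▸ Nat.le_of_dvd Nat.card_pos (card_subgroup_dvd_card D)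
    by_cases hm3 : m ≤ 3
    · have : Nat.card S ≤ 2 ^ 3 := hm ▸ Nat.pow_le_pow_right (by norm_num) hm3
      nlinarith
    have h16 : 16 ≤ Nat.card S := by
      rw [hm]; calc 16 = 2 ^ 4 := by norm_num
        _ ≤ 2 ^ m := Nat.pow_le_pow_right (by norm_num) (by omega)
    obtain ⟨hbig, hcen⟩ := commutator_big h2 hr h16 D h8 z hzD hzo hzc hsq hcom
    have h4 : 4 ≤ Nat.card (commutator S) := by
      obtain ⟨r, hr'⟩ := IsPGroup.iff_card.1 (h2.to_subgroup (commutator S))
      by_contra h
      refine hbig (le_of_eq (eq_of_le_of_card_ge (zpowers_le.2 hzS) ?_).symm)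
      rw [Nat.card_zpowers, hzo, hr']
      rw [hr'] at h
      rcases r with _ | _ | r
      · norm_num
      · norm_num
      · exact absurd (show 4 ≤ 2 ^ (r + 2) by
          calc 4 = 2 ^ 2 := by norm_num
            _ ≤ 2 ^ (r + 2) := Nat.pow_le_pow_right (by norm_num) (by omega)) h
    by_cases hm4 : m = 4
    · subst hm4
      nlinarith
    haveI : Nontrivial S := Finite.one_lt_card_iff_nontrivial.1 (by omega)
    have hzcen : z ∈ center S := by
      haveI := h2.center_nontrivial
      obtain ⟨⟨g, hg⟩, hg1⟩ := exists_ne (1 : center S)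
      have hgz := hcen g hg
      have : zpowers g = zpowers z := eq_of_le_of_card_ge (zpowers_le.2 hgz) (by
        rw [Nat.card_zpowers, Nat.card_zpowers, hzo]
        have := orderOf_pos g
        by_contra h
        exact hg1 (Subtype.ext (orderOf_eq_one_iff.1 (show orderOf g = 1 by omega))))
      exact zpowers_le.1 (this ▸ zpowers_le.2 hg)
    haveI : (zpowers z).Normal := ⟨fun a ha g => by
      rwa [mem_center_iff.1 (zpowers_le.2 hzcen ha) g, mul_inv_cancel_right]⟩
    obtain ⟨M, hM, hDM⟩ := Sylow.exists_subgroup_card_pow_succ (p := 2) (n := 3) (G := S)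
      (by rw [hm]; exact pow_dvd_pow 2 (by omega)) (H := D) (by rw [h8]; norm_num)
    let π := QuotientGroup.mk' (zpowers z)
    have hDm : Nat.card (D.subgroupOf M) = 8 := by
      rw [Nat.card_congr (subgroupOfEquivOfLe hDM).toEquiv, h8]
    have hbigM := (commutator_big (h2.to_subgroup M) (sectional_subgroup hr M) (by rw [hM]; norm_num)
      (D.subgroupOf M) hDm ⟨z, hDM hzD⟩ hzD (by rw [Subgroup.orderOf_mk]; exact hzo)
      (fun d hd => by
        constructor
        · intro h
          obtain ⟨i, hi⟩ := mem_zpowers_iff.1 ((hzc d hd).1 fun e he =>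
            congrArg Subtype.val (h ⟨e, hDM he⟩ he))
          exact mem_zpowers_iff.2 ⟨i, Subtype.ext (by simpa using hi)⟩
        · intro h e he
          obtain ⟨i, hi⟩ := mem_zpowers_iff.1 h
          exact Subtype.ext ((hzc d hd).2 ⟨i, by simpa using congrArg Subtype.val hi⟩ e he))
      (fun d hd => by
        obtain ⟨i, hi⟩ := mem_zpowers_iff.1 (hsq d hd)
        exact mem_zpowers_iff.2 ⟨i, Subtype.ext (by simpa using hi)⟩)
      (fun d hd e he => by
        obtain ⟨i, hi⟩ := mem_zpowers_iff.1 (hcom d hd e he)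
        exact mem_zpowers_iff.2 ⟨i, Subtype.ext (by simpa [commutatorElement_def] using hi)⟩)).1
    obtain ⟨x, hx, y, hy, hxy⟩ : ∃ x ∈ M, ∃ y ∈ M, π x * π y ≠ π y * π x := by
      by_contra! hall
      refine hbigM ?_
      rw [_root_.commutator_def, commutator_le]
      intro a _ b _
      have := hall a a.2 b b.2
      rw [← commutatorElement_eq_one_iff_mul_comm, ← map_commutatorElement] at this
      obtain ⟨i, hi⟩ := mem_zpowers_iff.1 ((QuotientGroup.eq_one_iff _).1 this)
      exact mem_zpowers_iff.2 ⟨i, Subtype.ext (by simpa [commutatorElement_def] using hi)⟩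
    have hzM : zpowers z ≤ M := zpowers_le.2 (hDM hzD)
    have hQ : Nat.card (S ⧸ zpowers z) * 2 = n := by
      rw [← hn, card_eq_card_quotient_mul_card_subgroup (zpowers z), Nat.card_zpowers, hzo]
    have hMbar : Nat.card (M.map π) = 8 := by
      have h := card_map_mul π M hzM
      rw [hM, Nat.card_zpowers, hzo] at h
      omega
    have hi := ih (Nat.card (S ⧸ zpowers z)) (by have := Nat.card_pos (α := S ⧸ zpowers z); omega) _ rfl
      (h2.to_quotient _) (sectional_quotient hr _)
      ⟨M.map π, hMbar, π x, mem_map_of_mem π hx, π y, mem_map_of_mem π hy, hxy⟩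
    have hmap : (commutator S).map π = commutator (S ⧸ zpowers z) := by
      rw [_root_.commutator_def, _root_.commutator_def, map_commutator,
        map_top_of_surjective π (QuotientGroup.mk'_surjective _)]
    rw [← hmap, index_map_eq _ (QuotientGroup.mk'_surjective _)
      ((QuotientGroup.ker_mk' _).le.trans (zpowers_le.2 hzS))] at hi
    exact hi

/-- Let S be a finite 2-group of sectional 2-rank at most 2 that contains a subgroup isomorphic to the dihedral group of order 8 or to the quaternion group of order 8. Then S is dihedral of order at least 8, semidihedral of order at least 16 (order 2^(k+4) with an element a of order 2^(k+3) and an involution b with b a b⁻¹ = a^(2^(k+2)−1)), or generalized quaternion of order at least 8. -/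
theorem result {S : Type*} [Group S] [Finite S] (h2 : IsPGroup 2 S) (hr : Cfsg.SectionalPRankLE 2 2 S)
    (hsub : ∃ H : Subgroup S, Nonempty (↥H ≃* DihedralGroup 4) ∨ Nonempty (↥H ≃* QuaternionGroup 2)) :
    ((∃ k : ℕ, Nonempty (S ≃* DihedralGroup (2 ^ (k + 2)))) ∨
      (∃ k : ℕ, Nat.card S = 2 ^ (k + 4) ∧ ∃ a b : S, orderOf a = 2 ^ (k + 3) ∧ orderOf b = 2 ∧ b * a * b⁻¹ = a ^ (2 ^ (k + 2) - 1)) ∨
      (∃ k : ℕ, Nonempty (S ≃* QuaternionGroup (2 ^ (k + 1))))) := by
  haveI : Fact (Nat.Prime 2) := ⟨Nat.prime_two⟩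
  obtain ⟨H, hH⟩ := hsub
  have key : Nat.card H = 8 ∧ ∃ x y : H, x * y ≠ y * x := by
    rcases hH with ⟨⟨e⟩⟩ | ⟨⟨e⟩⟩
    · exact ⟨by rw [Nat.card_congr e.toEquiv, DihedralGroup.nat_card],
        e.symm (DihedralGroup.r 1), e.symm (DihedralGroup.sr 0), by
          rw [← map_mul, ← map_mul, ne_eq, EmbeddingLike.apply_eq_iff_eq]; decide⟩
    · exact ⟨by rw [Nat.card_congr e.toEquiv, Nat.card_eq_fintype_card, QuaternionGroup.card],
        e.symm (QuaternionGroup.a 1), e.symm (QuaternionGroup.xa 0), by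
          rw [← map_mul, ← map_mul, ne_eq, EmbeddingLike.apply_eq_iff_eq]; decide⟩
  obtain ⟨h8, x, y, hxy⟩ := key
  have hidx : (commutator S).index = 4 :=
    index_commutator _ S rfl h2 hr ⟨H, h8, x, x.2, y, y.2, fun e => hxy (Subtype.ext e)⟩
  have hab : Nat.card (Abelianization S) = 4 := by rw [← hidx, Subgroup.index_eq_card]; rfl
  have hexp : ∀ q : Abelianization S, q ^ 2 = 1 := by
    intro q
    by_contra hne
    have hcyc : IsCyclic (Abelianization S) := isCyclic_of_orderOf_eq_card q (by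
      rw [hab, show (4 : ℕ) = 2 ^ 2 by norm_num]
      refine orderOf_eq_prime_pow (p := 2) (n := 1) (by rwa [pow_one]) ?_
      have := pow_card_eq_one' (x := q)
      rwa [hab] at this)
    have h8S : 8 ≤ Nat.card S := h8 ▸ Nat.le_of_dvd Nat.card_pos (Subgroup.card_subgroup_dvd_card H)
    obtain ⟨g, hg⟩ := hcyc.exists_generator
    obtain ⟨s, rfl⟩ := QuotientGroup.mk'_surjective (commutator S) g
    have htop : commutator S ⊔ Subgroup.zpowers s = ⊤ := by
      refine top_unique fun t _ => ?_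
      obtain ⟨i, hi⟩ := hg (QuotientGroup.mk' (commutator S) t)
      have hi' : (QuotientGroup.mk' (commutator S) s) ^ i = QuotientGroup.mk' (commutator S) t := hi
      rw [← map_zpow, QuotientGroup.mk'_apply, QuotientGroup.mk'_apply, eq_comm, QuotientGroup.eq] at hi'
      have := mul_mem (Subgroup.mem_sup_right (S := commutator S) (Subgroup.zpow_mem_zpowers s i))
        (inv_mem (Subgroup.mem_sup_left (T := Subgroup.zpowers s) hi'))
      simpa [mul_inv_rev] using this
    have hs : Subgroup.zpowers s = ⊤ := by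
      rw [Subgroup.zpowers_eq_closure]
      refine PGroup.closure_eq_top_of_sup_frattini ?_
      rw [← Subgroup.zpowers_eq_closure]
      exact top_unique (htop.ge.trans (sup_le ((PGroup.commutator_le_frattini h2).trans le_sup_right) le_sup_left))
    exact hxy (Subtype.ext (by
      obtain ⟨i, hi⟩ := Subgroup.mem_zpowers_iff.1 (hs ▸ Subgroup.mem_top (x : S))
      obtain ⟨j, hj⟩ := Subgroup.mem_zpowers_iff.1 (hs ▸ Subgroup.mem_top (y : S))
      rw [Subgroup.coe_mul, Subgroup.coe_mul, ← hi, ← hj]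
      exact (Commute.zpow_zpow_self s i j).eq))
  rcases S4399.result h2 hab hexp with h | h
  · have := Nat.le_of_dvd Nat.card_pos (Subgroup.card_subgroup_dvd_card H)
    omega
  · exact h

end Cfsg.Agent.S4398
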