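import Cfsg.Statements.S4400
import Cfsg.Agent.Lib.PGroup.Basic
import Cfsg.Agent.Lib.PGroup.Frattini
import Cfsg.Agent.Lib.Coprime.Basic

set_option autoImplicit false
open Cfsg

namespace Cfsg.Agent.S4400

open scoped commutatorElement

variable {S : Type*} [Group S] [Finite S]

theorem card_frattini (P : Subgroup S) (hP2 : IsPGroup 2 P) (hP : ¬ IsMulCommutative P) :
    4 * Nat.card ((frattini P).map P.subtype) ≤ Nat.card P := by
  rw [Subgroup.card_map_of_injective P.subtype_injective, ← (frattini P).index_mul_card]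
  refine Nat.mul_le_mul_right _ ?_
  obtain ⟨k, hk⟩ := hP2.index (frattini P)
  rw [hk]
  rcases Nat.lt_or_ge k 2 with h | h
  swap
  · calc 4 = 2 ^ 2 := rfl
      _ ≤ 2 ^ k := Nat.pow_le_pow_right (by norm_num) h
  · exfalso
    apply hP
    interval_cases k
    · have hT : (⊥ : Subgroup P) = ⊤ :=
        frattini_nongenerating (by rw [Subgroup.index_eq_one.mp hk]; exact sup_top_eq _)
      exact ⟨⟨fun a b => by
        rw [Subgroup.mem_bot.mp (hT.symm.le (Subgroup.mem_top a)),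
          Subgroup.mem_bot.mp (hT.symm.le (Subgroup.mem_top b))]⟩⟩
    · have hne : frattini P ≠ ⊤ := fun he => by rw [he, Subgroup.index_top] at hk; norm_num at hk
      obtain ⟨x, -, hx⟩ := SetLike.exists_of_lt (lt_top_iff_ne_top.mpr hne)
      have hco := (PGroup.isCoatom_of_index_eq (by simpa using hk) : IsCoatom (frattini P))
      have hT : Subgroup.zpowers x = ⊤ := frattini_nongenerating (hco.2 _ (SetLike.lt_iff_le_and_exists.mpr
        ⟨le_sup_right, x, Subgroup.mem_sup_left (Subgroup.mem_zpowers x), hx⟩))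
      have : IsCyclic P := ⟨x, fun y => Subgroup.mem_zpowers_iff.mp (hT.symm.le (Subgroup.mem_top y))⟩
      exact IsCyclic.isMulCommutative

theorem center_le_frattini (P : Subgroup S) (hP2 : IsPGroup 2 P) (hP : ¬ IsMulCommutative P)
    (hZ : Nat.card ↥(Subgroup.center P) = 2) :
    (Subgroup.center P).map P.subtype ≤ (frattini P).map P.subtype := by
  refine Subgroup.map_mono ?_
  have hne : frattini P ≠ ⊥ := by
    intro hbot
    apply hP
    refine ⟨⟨fun a b => commutatorElement_eq_one_iff_mul_comm.mp ?_⟩⟩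
    have := PGroup.commutator_le_frattini hP2
      (Subgroup.commutator_mem_commutator (Subgroup.mem_top a) (Subgroup.mem_top b))
    rwa [hbot, Subgroup.mem_bot] at this
  have h1 := PGroup.inf_center_ne_bot hP2 (frattini P) hne
  have h2 : Nat.card ↥(frattini P ⊓ Subgroup.center P) ∣ 2 :=
    hZ ▸ Subgroup.card_dvd_of_le inf_le_right
  rcases (Nat.dvd_prime Nat.prime_two).mp h2 with h | h
  · exact absurd (Subgroup.card_eq_one.mp h) h1
  · exact inf_eq_right.mp (Subgroup.eq_of_le_of_card_ge inf_le_right (by rw [h, hZ]))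

/-- Let S be a finite 2-group of sectional 2-rank at most 4, and let P and Q be normal non-abelian subgroups of S whose centres have order 2 and are different. Then P and Q commute elementwise and intersect trivially, and PQ contains its own centralizer in S. -/
theorem result {S : Type*} [Group S] [Finite S] (h2 : IsPGroup 2 S) (hr : Cfsg.SectionalPRankLE 2 4 S)
    (P Q : Subgroup S) [P.Normal] [Q.Normal] (hP : ¬ IsMulCommutative ↥P) (hQ : ¬ IsMulCommutative ↥Q)
    (hZP : Nat.card ↥(Subgroup.center ↥P) = 2) (hZQ : Nat.card ↥(Subgroup.center ↥Q) = 2)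
    (hne : (Subgroup.center ↥P).map P.subtype ≠ (Subgroup.center ↥Q).map Q.subtype) :
    ⁅P, Q⁆ = ⊥ ∧ P ⊓ Q = ⊥ ∧ Subgroup.centralizer ((P ⊔ Q : Subgroup S) : Set S) ≤ P ⊔ Q := by
  set ZP := (Subgroup.center ↥P).map P.subtype with hZPdef
  set ZQ := (Subgroup.center ↥Q).map Q.subtype with hZQdef
  have hPp : IsPGroup 2 P := h2.to_subgroup P
  have hQp : IsPGroup 2 Q := h2.to_subgroup Q
  have hZPn : ZP.Normal := inferInstance
  have hZQn : ZQ.Normal := inferInstance
  have hcP : Nat.card ZP = 2 := by rw [hZPdef, Subgroup.card_map_of_injective P.subtype_injective, hZP]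
  have hcQ : Nat.card ZQ = 2 := by rw [hZQdef, Subgroup.card_map_of_injective Q.subtype_injective, hZQ]
  have hPc : ZP ≤ Subgroup.center S := PGroup.le_center_of_card_eq h2 ZP hcP
  -- trivial intersection
  have hdisj : P ⊓ Q = ⊥ := by
    by_contra hb
    apply hne
    have hn : ((P ⊓ Q).subgroupOf P).Normal := inferInstance
    have hnb : (P ⊓ Q).subgroupOf P ≠ ⊥ := by
      rw [ne_eq, Subgroup.subgroupOf_eq_bot, disjoint_iff, inf_eq_left.mpr inf_le_left]
      exact hb
    have h1 := PGroup.inf_center_ne_bot hPp _ hnb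
    obtain ⟨z, hz, hz1⟩ := (Subgroup.ne_bot_iff_exists_ne_one).mp h1 |>.elim
      (fun z hz => (⟨z.1, z.2, fun e => hz (Subtype.ext e)⟩ :
        ∃ z : P, z ∈ (P ⊓ Q).subgroupOf P ⊓ Subgroup.center P ∧ z ≠ 1))
    have hzQ : (z : S) ∈ Q := hz.1.2
    have hzS : (z : S) ∈ Subgroup.center S := hPc ⟨z, hz.2, rfl⟩
    have hzq : (⟨z, hzQ⟩ : Q) ∈ Subgroup.center Q := by
      rw [Subgroup.mem_center_iff]
      exact fun y => Subtype.ext (Subgroup.mem_center_iff.mp hzS y)
    have hord : orderOf (z : S) = 2 := by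
      have := Subgroup.orderOf_dvd_natCard ZP ⟨z, hz.2, rfl⟩
      rw [hcP] at this
      exact ((Nat.dvd_prime Nat.prime_two).mp this).resolve_left
        (fun e => hz1 (Subtype.ext (orderOf_eq_one_iff.mp e)))
    have e1 : Subgroup.zpowers (z : S) = ZP := Subgroup.eq_of_le_of_card_ge
      (Subgroup.zpowers_le.mpr ⟨z, hz.2, rfl⟩) (by rw [Nat.card_zpowers, hord, hcP])
    have e2 : Subgroup.zpowers (z : S) = ZQ := Subgroup.eq_of_le_of_card_ge
      (Subgroup.zpowers_le.mpr ⟨⟨z, hzQ⟩, hzq, rfl⟩) (by rw [Nat.card_zpowers, hord, hcQ])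
    exact e1.symm.trans e2
  have hcomm : ⁅P, Q⁆ = ⊥ := le_bot_iff.mp (hdisj ▸ Subgroup.commutator_le_inf P Q)
  have hPQ : ∀ a ∈ P, ∀ b ∈ Q, Commute a b := fun a ha b hb =>
    commutatorElement_eq_one_iff_commute.mp
      (Subgroup.mem_bot.mp (hcomm ▸ Subgroup.commutator_mem_commutator ha hb))
  refine ⟨hcomm, hdisj, fun x hx => ?_⟩
  by_contra hxPQ
  obtain ⟨k, hk⟩ := h2 x
  have hex : ∃ j, x ^ 2 ^ j ∈ P ⊔ Q := ⟨k, by rw [hk]; exact one_mem _⟩
  classical
  have hj0 : Nat.find hex ≠ 0 := fun h0 => hxPQ (by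
    have := Nat.find_spec hex
    rwa [h0, pow_zero, pow_one] at this)
  obtain ⟨j, hj⟩ := Nat.exists_eq_succ_of_ne_zero hj0
  set c := x ^ 2 ^ j with hcdef
  have hc1 : c ∉ P ⊔ Q := Nat.find_min hex (by omega)
  have hc2 : c * c ∈ P ⊔ Q := by
    have := Nat.find_spec hex
    rw [hj, pow_succ, pow_mul, pow_two] at this
    exact this
  have hcC : ∀ y ∈ P ⊔ Q, Commute y c := fun y hy =>
    (show Commute y x from Subgroup.mem_centralizer_iff.mp hx y hy).pow_right _
  set FP := (frattini ↥P).map P.subtype with hFP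
  set FQ := (frattini ↥Q).map Q.subtype with hFQ
  have hFPn : FP.Normal := inferInstance
  have hFQn : FQ.Normal := inferInstance
  have hFPle : FP ≤ P := Subgroup.map_subtype_le _
  have hFQle : FQ ≤ Q := Subgroup.map_subtype_le _
  have hc2' : c * c ∈ FP ⊔ FQ := by
    obtain ⟨a, ha, b, hb, hab⟩ := Subgroup.mem_sup_of_normal_right.mp hc2
    have key : ∀ y ∈ P ⊔ Q, Commute y (a * b) := fun y hy => by
      rw [hab]; exact (hcC y hy).mul_right (hcC y hy)
    have haZ : (⟨a, ha⟩ : P) ∈ Subgroup.center P := by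
      rw [Subgroup.mem_center_iff]
      intro y
      apply Subtype.ext
      have h := (key y (Subgroup.mem_sup_left y.2)).mul_right (hPQ y y.2 b hb).inv_right
      rw [mul_inv_cancel_right] at h
      exact h
    have hbZ : (⟨b, hb⟩ : Q) ∈ Subgroup.center Q := by
      rw [Subgroup.mem_center_iff]
      intro y
      apply Subtype.ext
      have h := ((hPQ a ha y y.2).symm.inv_right).mul_right (key y (Subgroup.mem_sup_right y.2))
      rw [inv_mul_cancel_left] at h
      exact h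
    rw [← hab]
    exact Subgroup.mul_mem_sup (center_le_frattini P hPp hP hZP ⟨_, haZ, rfl⟩)
      (center_le_frattini Q hQp hQ hZQ ⟨_, hbZ, rfl⟩)
  set H := (P ⊔ Q) ⊔ Subgroup.zpowers c with hHdef
  set N := (FP ⊔ FQ).subgroupOf H with hNdef
  have hdec : ∀ g ∈ H, ∃ a ∈ P, ∃ b ∈ Q, ∃ i : ℤ, g = a * b * c ^ i := by
    intro g hg
    obtain ⟨u, hu, v, hv, rfl⟩ := Subgroup.mem_sup_of_normal_left.mp hg
    obtain ⟨a, ha, b, hb, rfl⟩ := Subgroup.mem_sup_of_normal_left.mp hu
    obtain ⟨i, rfl⟩ := Subgroup.mem_zpowers_iff.mp hv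
    exact ⟨a, ha, b, hb, i, rfl⟩
  have hmul : ∀ a ∈ P, ∀ b ∈ Q, ∀ i : ℤ, ∀ a' ∈ P, ∀ b' ∈ Q, ∀ i' : ℤ,
      a * b * c ^ i * (a' * b' * c ^ i') = a * a' * (b * b') * c ^ (i + i') := by
    intro a ha b hb i a' ha' b' hb' i'
    have e1 : Commute (c ^ i) (a' * b') := ((hcC _ (Subgroup.mul_mem_sup ha' hb')).zpow_right i).symm
    have e2 : Commute b a' := (hPQ a' ha' b hb).symm
    rw [zpow_add]
    calc a * b * c ^ i * (a' * b' * c ^ i') = a * b * (c ^ i * (a' * b')) * c ^ i' := by group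
      _ = a * (b * a') * b' * (c ^ i * c ^ i') := by rw [e1.eq]; group
      _ = _ := by rw [e2.eq]; group
  have hsqP : ∀ a ∈ P, a * a ∈ FP := fun a ha =>
    ⟨_, PGroup.pow_mem_frattini hPp (⟨a, ha⟩ : P), by simp [pow_two]⟩
  have hsqQ : ∀ b ∈ Q, b * b ∈ FQ := fun b hb =>
    ⟨_, PGroup.pow_mem_frattini hQp (⟨b, hb⟩ : Q), by simp [pow_two]⟩
  have hab' : IsMulCommutative (H ⧸ N) := by
    refine ⟨⟨fun u v => ?_⟩⟩
    obtain ⟨g, rfl⟩ := QuotientGroup.mk_surjective u
    obtain ⟨g', rfl⟩ := QuotientGroup.mk_surjective v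
    rw [← QuotientGroup.mk_mul, ← QuotientGroup.mk_mul, QuotientGroup.eq, hNdef,
      Subgroup.mem_subgroupOf]
    obtain ⟨a, ha, b, hb, i, hg⟩ := hdec g g.2
    obtain ⟨a', ha', b', hb', i', hg'⟩ := hdec g' g'.2
    have hA : (a * a')⁻¹ * (a' * a) ∈ FP :=
      ⟨_, PGroup.commutator_le_frattini hPp (Subgroup.commutator_mem_commutator
        (Subgroup.mem_top (⟨a', ha'⟩⁻¹ : P)) (Subgroup.mem_top (⟨a, ha⟩⁻¹ : P))), by
          simp [commutatorElement_def, mul_assoc]⟩
    have hB : (b * b')⁻¹ * (b' * b) ∈ FQ :=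
      ⟨_, PGroup.commutator_le_frattini hQp (Subgroup.commutator_mem_commutator
        (Subgroup.mem_top (⟨b', hb'⟩⁻¹ : Q)) (Subgroup.mem_top (⟨b, hb⟩⁻¹ : Q))), by
          simp [commutatorElement_def, mul_assoc]⟩
    rw [Subgroup.coe_mul, Subgroup.coe_inv, Subgroup.coe_mul, Subgroup.coe_mul, hg, hg',
      hmul a ha b hb i a' ha' b' hb' i', hmul a' ha' b' hb' i' a ha b hb i, add_comm i' i]
    have hu := (hcC _ (Subgroup.mul_mem_sup (P.mul_mem ha ha') (Q.mul_mem hb hb'))).zpow_right (i + i')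
    have hv := (hcC _ (Subgroup.mul_mem_sup (P.mul_mem ha' ha) (Q.mul_mem hb' hb))).zpow_right (i + i')
    rw [hu.eq, hv.eq]
    have e : (c ^ (i + i') * (a * a' * (b * b')))⁻¹ * (c ^ (i + i') * (a' * a * (b' * b))) =
        ((a * a')⁻¹ * (a' * a)) * ((b * b')⁻¹ * (b' * b)) := by
      have hc := hPQ ((a * a')⁻¹ * (a' * a)) (P.mul_mem (P.inv_mem (P.mul_mem ha ha'))
        (P.mul_mem ha' ha)) (b * b')⁻¹ (Q.inv_mem (Q.mul_mem hb hb'))
      calc _ = (b * b')⁻¹ * ((a * a')⁻¹ * (a' * a)) * (b' * b) := by group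
        _ = _ := by rw [← hc.eq]; group
    rw [e]
    exact Subgroup.mul_mem_sup hA hB
  have hsq : ∀ u : H ⧸ N, u ^ 2 = 1 := by
    intro u
    obtain ⟨g, rfl⟩ := QuotientGroup.mk_surjective u
    rw [← QuotientGroup.mk_pow, QuotientGroup.eq_one_iff, hNdef, Subgroup.mem_subgroupOf]
    obtain ⟨a, ha, b, hb, i, hg⟩ := hdec g g.2
    rw [pow_two, Subgroup.coe_mul, hg, hmul a ha b hb i a ha b hb i, zpow_add, ← (Commute.refl c).mul_zpow]
    exact mul_mem (Subgroup.mul_mem_sup (hsqP a ha) (hsqQ b hb)) (zpow_mem hc2' i)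
  have hbound := hr H N ⊤ ⟨⟨fun u v => Subtype.ext (hab'.is_comm.comm u.1 v.1)⟩⟩ (fun u _ => hsq u)
  rw [Subgroup.card_top] at hbound
  have hcard := Subgroup.card_eq_card_quotient_mul_card_subgroup N
  have hN1 : Nat.card N = Nat.card ↥(FP ⊔ FQ) := Coprime.card_subgroupOf
    ((sup_le_sup hFPle hFQle).trans le_sup_left)
  have hN2 : Nat.card ↥(FP ⊔ FQ) = Nat.card FP * Nat.card FQ :=
    Coprime.card_sup_of_le_normalizer (by rw [Subgroup.normalizer_eq_top]; exact le_top)
      (le_bot_iff.mp (hdisj ▸ inf_le_inf hFPle hFQle))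
  have hPQc : Nat.card ↥(P ⊔ Q) = Nat.card P * Nat.card Q :=
    Coprime.card_sup_of_le_normalizer (by rw [Subgroup.normalizer_eq_top]; exact le_top) hdisj
  have hlt : P ⊔ Q < H := SetLike.lt_iff_le_and_exists.mpr
    ⟨le_sup_left, c, Subgroup.mem_sup_right (Subgroup.mem_zpowers c), hc1⟩
  have hH : 2 * Nat.card ↥(P ⊔ Q) ≤ Nat.card H := by
    obtain ⟨m, hm⟩ := Subgroup.card_dvd_of_le hlt.le
    have hne1 : m ≠ 1 := by
      rintro rfl
      rw [mul_one] at hm
      exact hlt.ne (Subgroup.eq_of_le_of_card_ge hlt.le hm.le)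
    have hm0 : m ≠ 0 := by
      rintro rfl
      rw [mul_zero] at hm
      exact Nat.card_pos.ne' hm
    rw [hm, mul_comm 2]
    exact Nat.mul_le_mul_left _ (by omega)
  have hA := card_frattini P hPp hP
  have hB := card_frattini Q hQp hQ
  have hbound' : Nat.card (H ⧸ N) ≤ 16 := hbound
  rw [← hFP] at hA
  rw [← hFQ] at hB
  have hpos : 0 < Nat.card FP * Nat.card FQ := Nat.mul_pos Nat.card_pos Nat.card_pos
  have h32 : 32 * (Nat.card FP * Nat.card FQ) ≤ Nat.card H := by
    have := Nat.mul_le_mul hA hB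
    nlinarith
  rw [hN1, hN2] at hcard
  have := Nat.mul_le_mul_right (Nat.card FP * Nat.card FQ) hbound'
  omega

end Cfsg.Agent.S4400
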