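import Cfsg.Statements.S4401
import Cfsg.Agent.S4400
-- import your own Cfsg.Agent.* helpers here

set_option autoImplicit false
open Cfsg

namespace Cfsg.Agent.S4401

open scoped commutatorElement

variable {S : Type*} [Group S] [Finite S]

/-- `K` has an elementary abelian quotient of order at least `m`. -/
def HasQuot (K : Subgroup S) (m : ℕ) : Prop :=
  ∃ N : Subgroup S, N ≤ K ∧ (∀ a ∈ K, ∀ b ∈ K, ⁅a, b⁆ ∈ N) ∧ (∀ a ∈ K, a * a ∈ N) ∧
    m * Nat.card N ≤ Nat.card K

theorem hasQuot_le {K : Subgroup S} {m : ℕ} (hr : SectionalPRankLE 2 4 S) (h : HasQuot K m) :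
    m ≤ 16 := by
  obtain ⟨N, hNK, hc, hs, hm⟩ := h
  have hn : (N.subgroupOf K).Normal := ⟨fun n hn g => by
    rw [Subgroup.mem_subgroupOf] at hn ⊢
    have := N.mul_mem (hc g g.2 n n.2) hn
    rw [commutatorElement_def] at this
    simpa using this⟩
  have hcq : IsMulCommutative (K ⧸ N.subgroupOf K) := ⟨⟨fun u v => by
    obtain ⟨a, rfl⟩ := QuotientGroup.mk_surjective u
    obtain ⟨b, rfl⟩ := QuotientGroup.mk_surjective v
    rw [← QuotientGroup.mk_mul, ← QuotientGroup.mk_mul, QuotientGroup.eq, Subgroup.mem_subgroupOf]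
    have := hc _ (K.inv_mem b.2) _ (K.inv_mem a.2)
    simpa [commutatorElement_def, mul_assoc] using this⟩⟩
  have hb := hr K (N.subgroupOf K) ⊤ ⟨⟨fun u v => Subtype.ext (hcq.is_comm.comm u.1 v.1)⟩⟩
    (fun u _ => by
      obtain ⟨a, rfl⟩ := QuotientGroup.mk_surjective u
      rw [← QuotientGroup.mk_pow, QuotientGroup.eq_one_iff, Subgroup.mem_subgroupOf]
      simpa [pow_two] using hs a a.2)
  rw [Subgroup.card_top] at hb
  have hcard := Subgroup.card_eq_card_quotient_mul_card_subgroup (N.subgroupOf K)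
  rw [Coprime.card_subgroupOf hNK] at hcard
  have : m * Nat.card N ≤ Nat.card (K ⧸ N.subgroupOf K) * Nat.card N := hcard ▸ hm
  have h16 : Nat.card (K ⧸ N.subgroupOf K) ≤ 16 := hb
  have := Nat.le_of_mul_le_mul_right this Nat.card_pos
  omega

omit [Finite S] in
theorem exists_of_mem_sup {A B : Subgroup S} (hAB : ∀ a ∈ A, ∀ b ∈ B, Commute a b) {k : S}
    (hk : k ∈ A ⊔ B) : ∃ a ∈ A, ∃ b ∈ B, k = a * b := by
  have := (MonoidHom.noncommCoprod_range A.subtype B.subtype fun a b => hAB a a.2 b b.2)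
  rw [A.range_subtype, B.range_subtype] at this
  rw [← this] at hk
  obtain ⟨⟨a, b⟩, rfl⟩ := hk
  exact ⟨a, a.2, b, b.2, rfl⟩

theorem card_sup {A B : Subgroup S} (hAB : ∀ a ∈ A, ∀ b ∈ B, Commute a b) (hd : A ⊓ B = ⊥) :
    Nat.card ↥(A ⊔ B) = Nat.card A * Nat.card B := by
  refine Coprime.card_sup_of_le_normalizer (fun a ha => Subgroup.mem_normalizer_iff.mpr fun b => ?_) hd
  constructor
  · intro hb
    rwa [(hAB a ha b hb).eq, mul_inv_cancel_right]
  · intro hb
    have h := hAB a ha _ hb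
    have e : b = a⁻¹ * (a * b * a⁻¹) * a := by group
    rw [e, mul_assoc, ← h.eq, inv_mul_cancel_left]
    exact hb

theorem hasQuot_mul {A B : Subgroup S} {m l : ℕ} (hAB : ∀ a ∈ A, ∀ b ∈ B, Commute a b)
    (hd : A ⊓ B = ⊥) (hA : HasQuot A m) (hB : HasQuot B l) : HasQuot (A ⊔ B) (m * l) := by
  obtain ⟨NA, hNA, hcA, hsA, hmA⟩ := hA
  obtain ⟨NB, hNB, hcB, hsB, hmB⟩ := hB
  refine ⟨NA ⊔ NB, sup_le_sup hNA hNB, ?_, ?_, ?_⟩
  · intro x hx y hy
    obtain ⟨a, ha, b, hb, rfl⟩ := exists_of_mem_sup hAB hx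
    obtain ⟨a', ha', b', hb', rfl⟩ := exists_of_mem_sup hAB hy
    have e : ⁅a * b, a' * b'⁆ = ⁅a, a'⁆ * ⁅b, b'⁆ := by
      have c1 := hAB a' ha' b hb
      have c2 := hAB a⁻¹ (A.inv_mem ha) b' hb'
      have c3 := hAB (a * a' * a⁻¹ * a'⁻¹) (A.mul_mem (A.mul_mem (A.mul_mem ha ha') (A.inv_mem ha))
        (A.inv_mem ha')) (b * b' * b⁻¹ * b'⁻¹) (B.mul_mem (B.mul_mem (B.mul_mem hb hb') (B.inv_mem hb))
        (B.inv_mem hb'))
      have c4 := hAB a'⁻¹ (A.inv_mem ha') _ (B.mul_mem (B.mul_mem (B.mul_mem hb hb') (B.inv_mem hb))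
        (B.inv_mem hb'))
      have c5 := hAB a⁻¹ (A.inv_mem ha) (b * b' * b⁻¹) (B.mul_mem (B.mul_mem hb hb') (B.inv_mem hb))
      simp only [commutatorElement_def, mul_inv_rev]
      calc a * b * (a' * b') * (b⁻¹ * a⁻¹) * (b'⁻¹ * a'⁻¹)
          = a * (b * a') * b' * b⁻¹ * a⁻¹ * b'⁻¹ * a'⁻¹ := by group
        _ = a * a' * ((b * b' * b⁻¹) * a⁻¹) * b'⁻¹ * a'⁻¹ := by rw [← c1.eq]; group
        _ = a * a' * a⁻¹ * ((b * b' * b⁻¹ * b'⁻¹) * a'⁻¹) := by rw [← c5.eq]; group
        _ = _ := by rw [← c4.eq]; group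
    rw [e]
    exact Subgroup.mul_mem_sup (hcA a ha a' ha') (hcB b hb b' hb')
  · intro x hx
    obtain ⟨a, ha, b, hb, rfl⟩ := exists_of_mem_sup hAB hx
    have e : a * b * (a * b) = a * a * (b * b) := by
      calc a * b * (a * b) = a * (b * a) * b := by group
        _ = _ := by rw [← (hAB a ha b hb).eq]; group
    rw [e]
    exact Subgroup.mul_mem_sup (hsA a ha) (hsB b hb)
  · rw [card_sup hAB hd, card_sup (fun a ha b hb => hAB a (hNA ha) b (hNB hb))
      (le_bot_iff.mp (hd ▸ inf_le_inf hNA hNB))]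
    calc m * l * (Nat.card NA * Nat.card NB) = (m * Nat.card NA) * (l * Nat.card NB) := by ring
      _ ≤ _ := Nat.mul_le_mul hmA hmB

theorem hasQuot_four {P : Subgroup S} (h2 : IsPGroup 2 S) (hP : ¬ IsMulCommutative P) :
    HasQuot P 4 := by
  have hp := h2.to_subgroup P
  refine ⟨(frattini P).map P.subtype, Subgroup.map_subtype_le _, fun a ha b hb => ?_, fun a ha => ?_,
    S4400.card_frattini P hp hP⟩
  · exact ⟨⁅(⟨a, ha⟩ : P), ⟨b, hb⟩⁆, PGroup.commutator_le_frattini hp
      (Subgroup.commutator_mem_commutator (Subgroup.mem_top _) (Subgroup.mem_top _)), rfl⟩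
  · exact ⟨_, PGroup.pow_mem_frattini hp (⟨a, ha⟩ : P), by simp [pow_two]⟩

omit [Finite S] in
theorem hasQuot_two {x : S} (hx : orderOf x = 2) : HasQuot (Subgroup.zpowers x) 2 := by
  refine ⟨⊥, bot_le, fun a ha b hb => ?_, fun a ha => ?_, by simp [Nat.card_zpowers, hx]⟩
  · obtain ⟨i, rfl⟩ := ha
    obtain ⟨j, rfl⟩ := hb
    exact Subgroup.mem_bot.mpr (commutatorElement_eq_one_iff_commute.mpr ((Commute.refl x).zpow_zpow i j))
  · obtain ⟨i, rfl⟩ := ha
    refine Subgroup.mem_bot.mpr ?_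
    have : x * x = 1 := by rw [← pow_two, ← hx, pow_orderOf_eq_one]
    rw [← (Commute.refl x).mul_zpow, this, one_zpow]


/-- Let S be a finite 2-group of sectional 2-rank at most 4 and P a proper non-abelian subgroup whose centre has order 2. Let S₀ be the centralizer in S of Z(P) and suppose P is normal in S₀. Then either S₀ = S, or P has sectional 2-rank at most 2 and S₀ has index 2 in S. -/
theorem result {S : Type*} [Group S] [Finite S] (h2 : IsPGroup 2 S) (hr : Cfsg.SectionalPRankLE 2 4 S)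
    (P : Subgroup S) (hPlt : P ≠ ⊤) (hP : ¬ IsMulCommutative ↥P) (hZP : Nat.card ↥(Subgroup.center ↥P) = 2)
    (S₀ : Subgroup S) (hS₀ : S₀ = Subgroup.centralizer (((Subgroup.center ↥P).map P.subtype : Subgroup S) : Set S))
    (hPn : ∀ s ∈ S₀, ∀ x ∈ P, s * x * s⁻¹ ∈ P) :
    S₀ = ⊤ ∨ (Cfsg.SectionalPRankLE 2 2 ↥P ∧ S₀.index = 2) := by
  classical
  set Zc := (Subgroup.center ↥P).map P.subtype with hZc
  have hcZ : Nat.card Zc = 2 := by rw [hZc, Subgroup.card_map_of_injective P.subtype_injective, hZP]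
  obtain ⟨z, hz⟩ : ∃ z, Zc = Subgroup.zpowers z := by
    have : IsCyclic Zc := isCyclic_of_prime_card (p := 2) hcZ
    obtain ⟨g, hg⟩ := (Subgroup.isCyclic_iff_exists_zpowers_eq_top Zc).mp this
    exact ⟨g, hg.symm⟩
  have hzo : orderOf z = 2 := by rw [← Nat.card_zpowers, ← hz, hcZ]
  have hzz : z * z = 1 := by rw [← pow_two, ← hzo, pow_orderOf_eq_one]
  have hz1 : z ≠ 1 := fun h => by simp [h] at hzo
  have hzP : z ∈ P := Subgroup.map_subtype_le _ (hz ▸ Subgroup.mem_zpowers z : z ∈ Zc)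
  have hzc : ∀ a ∈ P, Commute a z := fun a ha => by
    obtain ⟨w, hw, hwz⟩ := (hz ▸ Subgroup.mem_zpowers z : z ∈ Zc)
    rw [← hwz]
    exact congrArg Subtype.val (Subgroup.mem_center_iff.mp hw ⟨a, ha⟩)
  have hcen : ∀ a ∈ P, (∀ b ∈ P, Commute b a) → a = 1 ∨ a = z := by
    intro a ha hc
    have : a ∈ Zc := ⟨⟨a, ha⟩, Subgroup.mem_center_iff.mpr fun b => Subtype.ext (hc b b.2), rfl⟩
    rw [hz] at this
    obtain ⟨i, rfl⟩ := this
    rcases Int.emod_two_eq i with h | h
    · exact Or.inl (show z ^ i = 1 by rw [← zpow_mod_orderOf, hzo]; norm_num [h])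
    · exact Or.inr (show z ^ i = z by rw [← zpow_mod_orderOf, hzo]; norm_num [h])
  have hmem : ∀ s, s ∈ S₀ ↔ s * z = z * s := fun s => by
    rw [hS₀, hz, Subgroup.zpowers_eq_closure, Subgroup.centralizer_closure]
    exact Subgroup.mem_centralizer_singleton_iff
  have hPS : P ≤ S₀ := fun a ha => (hmem a).mpr (hzc a ha)
  rcases eq_or_ne S₀ ⊤ with htop | htop
  · exact Or.inl htop
  right
  set N := Subgroup.normalizer (S₀ : Set S) with hN
  -- an element of `N` outside `S₀` whose square lies in `S₀`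
  obtain ⟨t, htN, htS, ht2⟩ : ∃ t ∈ N, t ∉ S₀ ∧ t * t ∈ S₀ := by
    obtain ⟨g, hgN, hgS⟩ := SetLike.exists_of_lt (PGroup.lt_normalizer h2 htop)
    obtain ⟨k, hk⟩ := h2 g
    have hex : ∃ j, g ^ 2 ^ j ∈ S₀ := ⟨k, by rw [hk]; exact one_mem _⟩
    have hj0 : Nat.find hex ≠ 0 := fun h0 => hgS (by
      have := Nat.find_spec hex
      rwa [h0, pow_zero, pow_one] at this)
    obtain ⟨j, hj⟩ := Nat.exists_eq_succ_of_ne_zero hj0
    refine ⟨g ^ 2 ^ j, pow_mem hgN _, Nat.find_min hex (by omega), ?_⟩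
    have := Nat.find_spec hex
    rw [hj, pow_succ, pow_mul, pow_two] at this
    exact this
  have hconjS : ∀ n ∈ N, ∀ s, s ∈ S₀ ↔ n * s * n⁻¹ ∈ S₀ :=
    fun n hn s => Subgroup.mem_normalizer_iff.mp hn s
  -- conjugates of `z` and `P` under `N`
  set zc : S → S := fun g => g * z * g⁻¹ with hzc'
  have hzceq : ∀ g h, zc g = zc h ↔ h⁻¹ * g ∈ S₀ := fun g h => by
    rw [hmem]
    show g * z * g⁻¹ = h * z * h⁻¹ ↔ _
    constructor
    · intro e
      calc h⁻¹ * g * z = h⁻¹ * (g * z * g⁻¹) * g := by group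
        _ = h⁻¹ * (h * z * h⁻¹) * g := by rw [e]
        _ = z * (h⁻¹ * g) := by group
    · intro e
      calc g * z * g⁻¹ = h * (h⁻¹ * g * z) * g⁻¹ := by group
        _ = h * (z * (h⁻¹ * g)) * g⁻¹ := by rw [e]
        _ = h * z * h⁻¹ := by group
  set Pc : S → Subgroup S := fun g => P.map (MulAut.conj g).toMonoidHom with hPc'
  have hmemPc : ∀ g a, a ∈ Pc g ↔ g⁻¹ * a * g ∈ P := fun g a => by
    constructor
    · rintro ⟨b, hb, rfl⟩
      simpa [mul_assoc] using hb
    · intro h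
      exact ⟨_, h, by simp [mul_assoc]⟩
  have hPcS : ∀ g ∈ N, Pc g ≤ S₀ := fun g hg a ha => by
    have := (hconjS g hg _).mp (hPS ((hmemPc g a).mp ha))
    simpa [mul_assoc] using this
  have hPcn : ∀ g ∈ N, ∀ s ∈ S₀, ∀ a ∈ Pc g, s * a * s⁻¹ ∈ Pc g := fun g hg s hs a ha => by
    have hs' : g⁻¹ * s * g ∈ S₀ := by simpa using (hconjS g⁻¹ (inv_mem hg) s).mp hs
    have := hPn _ hs' _ ((hmemPc g a).mp ha)
    rw [hmemPc]
    simpa [mul_assoc] using this
  have hzcS : ∀ g ∈ N, ∀ s ∈ S₀, Commute s (zc g) := fun g hg s hs => by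
    have hs' : g⁻¹ * s * g ∈ S₀ := by simpa using (hconjS g⁻¹ (inv_mem hg) s).mp hs
    have e := (hmem _).mp hs'
    show s * (g * z * g⁻¹) = g * z * g⁻¹ * s
    calc s * (g * z * g⁻¹) = g * (g⁻¹ * s * g * z) * g⁻¹ := by group
      _ = g * (z * (g⁻¹ * s * g)) * g⁻¹ := by rw [e]
      _ = g * z * g⁻¹ * s := by group
  have hzcP : ∀ g, zc g ∈ Pc g := fun g => (hmemPc g _).mpr (by simpa [hzc', mul_assoc] using hzP)
  have hcenc : ∀ g a, a ∈ Pc g → (∀ b ∈ Pc g, Commute b a) → a = 1 ∨ a = zc g := by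
    intro g a ha hc
    rcases hcen _ ((hmemPc g a).mp ha) (fun b hb => by
      have e := hc (g * b * g⁻¹) ((hmemPc g _).mpr (by simpa [mul_assoc] using hb))
      calc b * (g⁻¹ * a * g) = g⁻¹ * (g * b * g⁻¹ * a) * g := by group
        _ = g⁻¹ * (a * (g * b * g⁻¹)) * g := by rw [e.eq]
        _ = g⁻¹ * a * g * b := by group) with h | h
    · left
      calc a = g * (g⁻¹ * a * g) * g⁻¹ := by group
        _ = 1 := by rw [h]; group
    · right
      show a = g * z * g⁻¹
      rw [← h]; group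
  -- a subgroup of `S₀` normalized by a conjugate meets it in its centre
  have hmeet : ∀ g ∈ N, ∀ X : Subgroup S, (∀ s ∈ S₀, ∀ a ∈ X, s * a * s⁻¹ ∈ X) →
      Pc g ⊓ X ≠ ⊥ → zc g ∈ X := by
    intro g hg X hX hne
    have hn : ((Pc g ⊓ X).subgroupOf (Pc g)).Normal := ⟨fun a ha b => by
      rw [Subgroup.mem_subgroupOf] at ha ⊢
      exact ⟨(b * a * b⁻¹ : Pc g).2, hX b (hPcS g hg b.2) a ha.2⟩⟩
    have hnb : (Pc g ⊓ X).subgroupOf (Pc g) ≠ ⊥ := by
      rw [ne_eq, Subgroup.subgroupOf_eq_bot, disjoint_iff, inf_eq_left.mpr inf_le_left]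
      exact hne
    obtain ⟨w, hw⟩ := Subgroup.ne_bot_iff_exists_ne_one.mp
      (PGroup.inf_center_ne_bot (h2.to_subgroup (Pc g)) _ hnb)
    rcases hcenc g w.1 w.1.2 (fun b hb => congrArg Subtype.val
      (Subgroup.mem_center_iff.mp w.2.2 ⟨b, hb⟩)) with h | h
    · exact absurd (Subtype.ext (Subtype.ext h)) hw
    · rw [← h]; exact w.2.1.2
  have hdisj : ∀ g ∈ N, ∀ h ∈ N, zc g ≠ zc h → Pc g ⊓ Pc h = ⊥ := by
    intro g hg h hh hne
    by_contra hb
    have h1 := hmeet g hg _ (hPcn h hh) hb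
    rcases hcenc h _ h1 (fun b hb' => hzcS g hg b (hPcS h hh hb')) with h3 | h3
    · have := congrArg (fun a => g⁻¹ * a * g) h3
      simp [hzc', mul_assoc] at this
      exact hz1 this
    · exact hne h3
  have hcomm : ∀ g ∈ N, ∀ h ∈ N, zc g ≠ zc h → ∀ a ∈ Pc g, ∀ b ∈ Pc h, Commute a b := by
    intro g hg h hh hne a ha b hb
    refine commutatorElement_eq_one_iff_commute.mp (Subgroup.mem_bot.mp (hdisj g hg h hh hne ▸ ?_))
    refine Subgroup.mem_inf.mpr ⟨?_, ?_⟩
    · have := (Pc g).mul_mem ha (hPcn g hg b (hPcS h hh hb) a⁻¹ ((Pc g).inv_mem ha))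
      simpa [commutatorElement_def, mul_assoc] using this
    · have := (Pc h).mul_mem (hPcn h hh a (hPcS g hg ha) b hb) ((Pc h).inv_mem hb)
      simpa [commutatorElement_def] using this
  have hnc : ∀ g, ¬ IsMulCommutative (Pc g) := fun g hc => hP ⟨⟨fun a b => by
    have e := congrArg Subtype.val (hc.is_comm.comm
      (⟨_, Subgroup.mem_map_of_mem _ a.2⟩ : Pc g) ⟨_, Subgroup.mem_map_of_mem _ b.2⟩)
    refine Subtype.ext ((MulAut.conj g).injective ?_)
    simpa using e⟩⟩
  have hPc1 : Pc 1 = P := by ext a; rw [hmemPc]; simp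
  have hzc1 : zc 1 = z := by simp [hzc']
  -- `z` and `z'`
  set z' := zc t with hz'
  have hne' : zc 1 ≠ z' := fun h => htS (by
    have := (hzceq 1 t).mp h
    simpa using this)
  set Q := Pc t with hQ
  have hd1 : P ⊓ Q = ⊥ := hPc1 ▸ hdisj 1 (one_mem _) t htN hne'
  have hc1 : ∀ a ∈ P, ∀ b ∈ Q, Commute a b := hPc1 ▸ hcomm 1 (one_mem _) t htN hne'
  have hz'Q : z' ∈ Q := hzcP t
  have hz'z : z' * z = z * z' := (hc1 z hzP z' hz'Q).eq.symm
  have hz'2 : z' * z' = 1 := by
    show t * z * t⁻¹ * (t * z * t⁻¹) = 1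
    calc t * z * t⁻¹ * (t * z * t⁻¹) = t * (z * z) * t⁻¹ := by group
      _ = 1 := by rw [hzz]; group
  have hq16 : HasQuot (P ⊔ Q) 16 := hasQuot_mul hc1 hd1 (hasQuot_four h2 hP) (hasQuot_four h2 (hnc t))
  -- elements of the product commuting with it
  have hZPQ : ∀ a ∈ P ⊔ Q, (∀ b ∈ P ⊔ Q, Commute b a) → a = 1 ∨ a = z ∨ a = z' ∨ a = z * z' := by
    intro a ha hc
    obtain ⟨u, hu, v, hv, rfl⟩ := exists_of_mem_sup hc1 ha
    have hu' := hcen u hu fun b hb => by
      have := (hc b (Subgroup.mem_sup_left hb)).mul_right (hc1 b hb v hv).inv_right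
      rwa [mul_inv_cancel_right] at this
    have hv' := hcenc t v hv fun b hb => by
      have := ((hc1 u hu b hb).symm.inv_right).mul_right (hc b (Subgroup.mem_sup_right hb))
      rwa [inv_mul_cancel_left] at this
    rcases hu' with rfl | rfl <;> rcases hv' with rfl | rfl <;> simp [hz']
  have hinv : ∀ x, x * x = 1 → (∀ b ∈ P ⊔ Q, Commute b x) →
      x = 1 ∨ x = z ∨ x = z' ∨ x = z * z' := by
    intro x hx hc
    by_cases hxm : x ∈ P ⊔ Q
    · exact hZPQ x hxm hc
    exfalso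
    have hxo : orderOf x = 2 :=
      orderOf_eq_prime (by rw [pow_two, hx]) fun h => hxm (h ▸ one_mem _)
    have hd : (P ⊔ Q) ⊓ Subgroup.zpowers x = ⊥ := by
      rw [eq_bot_iff]
      rintro a ⟨ha, i, rfl⟩
      rcases Int.emod_two_eq i with h | h
      · show x ^ i = 1
        rw [← zpow_mod_orderOf, hxo]; norm_num [h]
      · exfalso; apply hxm
        have e : x ^ i = x := by rw [← zpow_mod_orderOf, hxo]; norm_num [h]
        exact e ▸ ha
    have := hasQuot_le hr (hasQuot_mul (fun a ha b hb => by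
      obtain ⟨i, rfl⟩ := hb
      exact (hc a ha).zpow_right i) hd hq16 (hasQuot_two hxo))
    norm_num at this
  have htt : t * z' * t⁻¹ = z := by
    have e := (hmem _).mp ht2
    show t * (t * z * t⁻¹) * t⁻¹ = z
    calc t * (t * z * t⁻¹) * t⁻¹ = t * t * z * (t * t)⁻¹ := by group
      _ = z * (t * t) * (t * t)⁻¹ := by rw [e]
      _ = z := by group
  have hte : t * (z * z') * t⁻¹ = z * z' := by
    calc t * (z * z') * t⁻¹ = (t * z * t⁻¹) * (t * z' * t⁻¹) := by group
      _ = z' * z := by rw [htt]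
      _ = z * z' := hz'z
  -- `N` is `S₀ ∪ t S₀`
  have hdich : ∀ h ∈ N, zc h = z ∨ zc h = z' := by
    intro h hh
    by_contra hcon
    obtain ⟨h1, h2'⟩ := not_or.mp hcon
    have hn1 : zc h ≠ zc 1 := hzc1.symm ▸ h1
    have hX : ∀ s ∈ S₀, ∀ a ∈ P ⊔ Q, s * a * s⁻¹ ∈ P ⊔ Q := fun s hs a ha => by
      obtain ⟨u, hu, v, hv, rfl⟩ := exists_of_mem_sup hc1 ha
      rw [show s * (u * v) * s⁻¹ = (s * u * s⁻¹) * (s * v * s⁻¹) by group]
      exact Subgroup.mul_mem_sup (hPn s hs u hu) (hPcn t htN s hs v hv)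
    have hcomm3 : ∀ a ∈ P ⊔ Q, ∀ b ∈ Pc h, Commute a b := fun a ha b hb => by
      obtain ⟨u, hu, v, hv, rfl⟩ := exists_of_mem_sup hc1 ha
      exact (hcomm 1 (one_mem _) h hh hn1.symm u (hPc1.symm ▸ hu) b hb).mul_left
        (hcomm t htN h hh (Ne.symm h2') v hv b hb)
    by_cases hb : Pc h ⊓ (P ⊔ Q) = ⊥
    · have := hasQuot_le hr (hasQuot_mul hcomm3 (inf_comm (a := Pc h) (b := P ⊔ Q) ▸ hb) hq16
        (hasQuot_four h2 (hnc h)))
      norm_num at this
    have hmem3 := hmeet h hh _ hX hb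
    have hzh1 : zc h ≠ 1 := fun e => hz1 (by simpa [hzc', mul_assoc] using congrArg (fun a => h⁻¹ * a * h) e)
    rcases hZPQ _ hmem3 (fun b hb' => hcomm3 b hb' _ (hzcP h)) with e | e | e | e
    · exact hzh1 e
    · exact h1 e
    · exact h2' e
    · have e2 : zc (t * h) = zc h := by
        show t * h * z * (t * h)⁻¹ = zc h
        rw [show t * h * z * (t * h)⁻¹ = t * zc h * t⁻¹ by simp [hzc', mul_assoc], e, hte]
      have := (hconjS h hh _).mp ((hzceq _ _).mp e2)
      exact htS (by simpa [mul_assoc] using this)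
  have hNtop : N = ⊤ := by
    by_contra hN'
    obtain ⟨u, huN, huS⟩ := SetLike.exists_of_lt (PGroup.lt_normalizer h2 hN')
    have huconj : ∀ n, n ∈ N ↔ u * n * u⁻¹ ∈ N := fun n => Subgroup.mem_normalizer_iff.mp huN n
    have hSN : S₀ ≤ N := Subgroup.le_normalizer
    have hmove : ∀ n ∈ N, (n * z * n⁻¹ = z ∧ n * z' * n⁻¹ = z') ∨
        (n * z * n⁻¹ = z' ∧ n * z' * n⁻¹ = z) := by
      intro n hn
      have key : n * z' * n⁻¹ = zc (n * t) := by simp [hz', hzc', mul_assoc]
      have hne2 : n * z * n⁻¹ ≠ n * z' * n⁻¹ := fun e => hne' (by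
        rw [hzc1]; exact mul_left_cancel (mul_right_cancel e))
      rcases hdich n hn with e | e <;> rcases hdich (n * t) (mul_mem hn htN) with e' | e' <;>
        rw [← key] at e' <;> change n * z * n⁻¹ = _ at e
      · exact absurd (e.trans e'.symm) hne2
      · exact Or.inl ⟨e, e'⟩
      · exact Or.inr ⟨e, e'⟩
      · exact absurd (e.trans e'.symm) hne2
    have hfix : ∀ n ∈ N, n * (z * z') * n⁻¹ = z * z' := by
      intro n hn
      rw [show n * (z * z') * n⁻¹ = (n * z * n⁻¹) * (n * z' * n⁻¹) by group]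
      rcases hmove n hn with ⟨a, b⟩ | ⟨a, b⟩ <;> rw [a, b]
      exact hz'z
    have hzN : z ∈ N := hSN (hPS hzP)
    have hz'N : z' ∈ N := hSN (hPcS t htN hz'Q)
    set e := z * z' with he
    have heN : e ∈ N := mul_mem hzN hz'N
    -- `u` fixes `z z'`
    set e' := u * e * u⁻¹ with he'
    have he'N : e' ∈ N := (huconj e).mp heN
    have he'c : ∀ n ∈ N, Commute n e' := fun n hn => by
      have hn' : u⁻¹ * n * u ∈ N := (huconj _).mpr (by simpa [mul_assoc] using hn)
      have := hfix _ hn'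
      show n * (u * e * u⁻¹) = u * e * u⁻¹ * n
      calc n * (u * e * u⁻¹) = u * ((u⁻¹ * n * u) * e * (u⁻¹ * n * u)⁻¹) * (u⁻¹ * n * u) * u⁻¹ := by group
        _ = u * e * (u⁻¹ * n * u) * u⁻¹ := by rw [this]
        _ = u * e * u⁻¹ * n := by group
    have he2 : e * e = 1 := by
      calc z * z' * (z * z') = z * (z' * z) * z' := by group
        _ = z * z * (z' * z') := by rw [hz'z, he]; group
        _ = 1 := by rw [hzz, hz'2, one_mul]
    have he'2 : e' * e' = 1 := by
      calc u * e * u⁻¹ * (u * e * u⁻¹) = u * (e * e) * u⁻¹ := by group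
        _ = 1 := by rw [he2]; group
    have he1 : e ≠ 1 := fun h => hne' (by
      rw [hzc1]
      calc z = z * (z' * z') := by rw [hz'2, mul_one]
        _ = e * z' := by rw [he]; group
        _ = z' := by rw [h, one_mul])
    have hPQN : P ⊔ Q ≤ N := sup_le (hPS.trans hSN) ((hPcS t htN).trans hSN)
    have hu_e : e' = e := by
      rcases hinv e' he'2 (fun b hb => he'c b (hPQN hb)) with h | h | h | h
      · exfalso; apply he1
        calc e = u⁻¹ * e' * u := by rw [he']; group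
          _ = 1 := by rw [h]; group
      · exfalso; apply hne'
        have := (he'c t htN).eq
        rw [h] at this
        rw [hzc1]
        show z = t * z * t⁻¹
        rw [this]; group
      · exfalso; apply hne'
        have := (he'c t htN).eq
        rw [h] at this
        rw [hzc1, ← htt, this]; group
      · exact h
    set x := u * z * u⁻¹ with hx
    have hxN : x ∈ N := (huconj z).mp hzN
    have hx2 : x * x = 1 := by
      calc u * z * u⁻¹ * (u * z * u⁻¹) = u * (z * z) * u⁻¹ := by group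
        _ = 1 := by rw [hzz]; group
    have hd : ∀ n ∈ N, n * x * n⁻¹ = x ∨ n * x * n⁻¹ = x * e := by
      intro n hn
      have hn' : u⁻¹ * n * u ∈ N := (huconj _).mpr (by simpa [mul_assoc] using hn)
      have key : n * x * n⁻¹ = u * ((u⁻¹ * n * u) * z * (u⁻¹ * n * u)⁻¹) * u⁻¹ := by rw [hx]; group
      rcases hmove _ hn' with ⟨a, -⟩ | ⟨a, -⟩
      · left; rw [key, a]
      · right; rw [key, a]
        calc u * z' * u⁻¹ = u * (z * z * z') * u⁻¹ := by rw [hzz, one_mul]
          _ = x * (u * e * u⁻¹) := by rw [hx, he]; group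
          _ = x * e := by rw [← he', hu_e]
    have hec : ∀ n ∈ N, Commute n e := fun n hn => hu_e ▸ he'c n hn
    have hd' : ∀ a ∈ N, x * a * x⁻¹ = a ∨ x * a * x⁻¹ = a * e := by
      intro a ha
      have hxi : x⁻¹ = x := inv_eq_of_mul_eq_one_right hx2
      rcases hd a⁻¹ (inv_mem ha) with h | h
      · left
        calc x * a * x⁻¹ = a * (a⁻¹ * x * a⁻¹⁻¹) * x⁻¹ := by group
          _ = a := by rw [h]; group
      · right
        calc x * a * x⁻¹ = a * (a⁻¹ * x * a⁻¹⁻¹) * x⁻¹ := by group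
          _ = a * (x * e * x⁻¹) := by rw [h]; group
          _ = a * e := by rw [(hec x hxN).eq]; group
    have heP : e ∉ P := fun h => hz1 (by
      have hz'P : z' ∈ P := by
        have := P.mul_mem (P.inv_mem hzP) h
        rwa [he, inv_mul_cancel_left] at this
      have e1 : z' = 1 := Subgroup.mem_bot.mp (hd1 ▸ Subgroup.mem_inf.mpr ⟨hz'P, hz'Q⟩)
      exact (by simpa [hz', hzc', mul_assoc] using congrArg (fun a => t⁻¹ * a * t) e1))
    have heQ : e ∉ Q := fun h => hz1 (by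
      have hzQ : z ∈ Q := by
        have := Q.mul_mem h (Q.inv_mem hz'Q)
        rwa [he, mul_inv_cancel_right] at this
      exact Subgroup.mem_bot.mp (hd1 ▸ Subgroup.mem_inf.mpr ⟨hzP, hzQ⟩))
    by_cases hxS : x ∈ S₀
    · -- `x` centralizes both factors
      have hfixP : ∀ a ∈ P, Commute a x := fun a ha => by
        rcases hd' a (hSN (hPS ha)) with h | h
        · exact (mul_inv_eq_iff_eq_mul.mp h).symm
        · exfalso; apply heP
          have := P.mul_mem (P.inv_mem ha) (hPn x hxS a ha)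
          rwa [h, inv_mul_cancel_left] at this
      have hfixQ : ∀ a ∈ Q, Commute a x := fun a ha => by
        rcases hd' a (hSN (hPcS t htN ha)) with h | h
        · exact (mul_inv_eq_iff_eq_mul.mp h).symm
        · exfalso; apply heQ
          have := Q.mul_mem (Q.inv_mem ha) (hPcn t htN x hxS a ha)
          rwa [h, inv_mul_cancel_left] at this
      rcases hinv x hx2 (fun b hb => by
        obtain ⟨a, ha, c, hc, rfl⟩ := exists_of_mem_sup hc1 hb
        exact (hfixP a ha).mul_left (hfixQ c hc)) with h | h | h | h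
      · exact hz1 (by simpa [hx, mul_assoc] using congrArg (fun a => u⁻¹ * a * u) h)
      · refine huS (hSN ((hmem u).mpr ?_))
        calc u * z = x * u := by rw [hx]; group
          _ = z * u := by rw [h]
      · refine huS ?_
        have := mul_mem htN (hSN ((hzceq u t).mp h))
        rwa [mul_inv_cancel_left] at this
      · refine hne' ?_
        rw [hzc1]
        have e1 : z = e := by
          calc z = u⁻¹ * x * u := by rw [hx]; group
            _ = u⁻¹ * e' * u := by rw [h, hu_e]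
            _ = e := by rw [he']; group
        have e2 : z' = 1 := mul_left_cancel (a := z) (by rw [mul_one]; exact e1.symm)
        exact absurd (by simpa [hz', hzc', mul_assoc] using congrArg (fun a => t⁻¹ * a * t) e2) hz1
    · -- `x` exchanges the factors
      have hxz : zc x = z' := (hdich x hxN).resolve_left fun h => hxS (by
        have := (hzceq x 1).mp (h.trans hzc1.symm)
        simpa using this)
      have hst : t⁻¹ * x ∈ S₀ := (hzceq x t).mp hxz
      refine hP ⟨⟨fun a b => Subtype.ext ?_⟩⟩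
      have hall : ∀ a ∈ P, a = 1 ∨ a = z := fun a ha => by
        have hxa : x * a * x⁻¹ ∈ Q := by
          rw [hQ, hmemPc]
          have := hPn _ hst a ha
          simpa [mul_assoc] using this
        rcases hd' a (hSN (hPS ha)) with h | h
        · left
          exact Subgroup.mem_bot.mp (hd1 ▸ Subgroup.mem_inf.mpr ⟨ha, h ▸ hxa⟩)
        · right
          rw [h] at hxa
          have hm : a * z ∈ Q := by
            have := Q.mul_mem hxa hz'Q
            rwa [he, show a * (z * z') * z' = a * z * (z' * z') by group, hz'2, mul_one] at this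
          have h0 : a * z = 1 := Subgroup.mem_bot.mp (hd1 ▸ Subgroup.mem_inf.mpr ⟨P.mul_mem ha hzP, hm⟩)
          calc a = a * (z * z) := by rw [hzz, mul_one]
            _ = z := by rw [← mul_assoc, h0, one_mul]
      rcases hall a a.2 with ha | ha <;> rcases hall b b.2 with hb | hb <;> simp [ha, hb]
  have hidx : S₀.index = 2 := by
    rw [Subgroup.index_eq_two_iff]
    refine ⟨t, fun b => ?_⟩
    rcases hdich b (hNtop ▸ Subgroup.mem_top b) with h | h
    · have hb : b ∈ S₀ := by simpa using (hzceq b 1).mp (h.trans hzc1.symm)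
      refine Or.inr ⟨hb, fun hbt => htS ?_⟩
      simpa using S₀.mul_mem (S₀.inv_mem hb) hbt
    · have hb : t⁻¹ * b ∈ S₀ := (hzceq b t).mp h
      refine Or.inl ⟨?_, fun hb' => htS ?_⟩
      · have h1 : t * (t⁻¹ * b) * t⁻¹ ∈ S₀ := (hconjS t htN _).mp hb
        have := S₀.mul_mem h1 ht2
        simpa [mul_assoc] using this
      · have := S₀.mul_mem hb' (S₀.inv_mem hb)
        simpa [mul_assoc] using this
  refine ⟨fun H M _ A hA hA2 => ?_, hidx⟩
  set K := ((A.comap (QuotientGroup.mk' M)).map H.subtype).map P.subtype with hK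
  have hKP : K ≤ P := Subgroup.map_subtype_le _
  have hinj : Function.Injective (P.subtype.comp H.subtype) := P.subtype_injective.comp H.subtype_injective
  have hKA : HasQuot K (Nat.card A) := by
    refine ⟨(M.map H.subtype).map P.subtype, ?_, ?_, ?_, ?_⟩
    · exact Subgroup.map_mono (Subgroup.map_mono fun m hm => by
        rw [Subgroup.mem_comap, QuotientGroup.mk'_apply, (QuotientGroup.eq_one_iff m).mpr hm]
        exact A.one_mem)
    · rintro _ ⟨_, ⟨a, ha, rfl⟩, rfl⟩ _ ⟨_, ⟨b, hb, rfl⟩, rfl⟩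
      refine ⟨_, ⟨⁅a, b⁆, ?_, rfl⟩, ?_⟩
      · refine (QuotientGroup.eq_one_iff _).mp ?_
        have e : (QuotientGroup.mk' M) ⁅a, b⁆ = 1 := by
          rw [map_commutatorElement, commutatorElement_eq_one_iff_mul_comm]
          exact congrArg Subtype.val (hA.is_comm.comm (⟨_, ha⟩ : A) ⟨_, hb⟩)
        exact e
      · simp [map_commutatorElement]
    · rintro _ ⟨_, ⟨a, ha, rfl⟩, rfl⟩
      refine ⟨_, ⟨a * a, ?_, rfl⟩, by simp⟩
      refine (QuotientGroup.eq_one_iff _).mp ?_
      have e := hA2 _ ha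
      rw [pow_two, ← map_mul] at e
      exact e
    · rw [Subgroup.map_map, Subgroup.card_map_of_injective hinj, hK, Subgroup.map_map,
        Subgroup.card_map_of_injective hinj]
      refine le_of_eq ?_
      have hle : M ≤ A.comap (QuotientGroup.mk' M) := fun m hm => by
        rw [Subgroup.mem_comap, QuotientGroup.mk'_apply, (QuotientGroup.eq_one_iff m).mpr hm]
        exact A.one_mem
      have h1 := Subgroup.card_mul_index (M.subgroupOf (A.comap (QuotientGroup.mk' M)))
      rw [Coprime.card_subgroupOf hle] at h1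
      rw [← h1, mul_comm]
      congr 1
      show Nat.card A = M.relIndex (A.comap (QuotientGroup.mk' M))
      have h2' := Subgroup.relIndex_comap (QuotientGroup.mk' M) (H := (⊥ : Subgroup (H ⧸ M))) (A.comap (QuotientGroup.mk' M))
      rw [MonoidHom.comap_bot, QuotientGroup.ker_mk', Subgroup.map_comap_eq_self_of_surjective
        (QuotientGroup.mk'_surjective M), Subgroup.relIndex_bot_left] at h2'
      exact h2'.symm
  have := hasQuot_le hr (hasQuot_mul (fun a ha b hb => hc1 a (hKP ha) b hb)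
    (le_bot_iff.mp (hd1 ▸ inf_le_inf hKP le_rfl)) hKA (hasQuot_four h2 (hnc t)))
  show Nat.card A ≤ 2 ^ 2
  omega

end Cfsg.Agent.S4401
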