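import Cfsg.Statements.S4402
import Cfsg.Agent.Lib.TwoGroups.DihedralWreathExt
import Cfsg.Agent.Lib.PGroup.Basic

set_option autoImplicit false
set_option linter.style.haveILetI false
set_option maxRecDepth 10000
open Cfsg

namespace Cfsg.Agent.S4402

open Cfsg.Agent.DWreath Cfsg.Agent.DWreath.W8

section

variable {S : Type*} [Group S] (ι : W8 →* S)

/-- Conjugation by `c`, read in `W8`. -/
noncomputable def conjAut (hι : Function.Injective ι) {c : S}
    (hc : ∀ x, c * ι x * c⁻¹ ∈ ι.range) : W8 →* W8 :=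
  (MonoidHom.ofInjective hι).symm.toMonoidHom.comp
    (((MulAut.conj c).toMonoidHom.comp ι).codRestrict ι.range hc)

theorem conjAut_spec (hι : Function.Injective ι) {c : S} (hc : ∀ x, c * ι x * c⁻¹ ∈ ι.range)
    (x : W8) : ι (conjAut ι hι hc x) = c * ι x * c⁻¹ :=
  congrArg Subtype.val ((MonoidHom.ofInjective hι).apply_symm_apply ⟨c * ι x * c⁻¹, hc x⟩)

theorem conjAut_injective (hι : Function.Injective ι) {c : S}
    (hc : ∀ x, c * ι x * c⁻¹ ∈ ι.range) : Function.Injective (conjAut ι hι hc) := fun x y h => by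
  have := congrArg ι h
  rw [conjAut_spec, conjAut_spec] at this
  exact hι (by simpa using this)

end

/-- An injective endomorphism fixing `V 0` fixes `V 1`. -/
theorem mapsTo_one (α : W8 →* W8) (hα : Function.Injective α) (h0 : ∀ x ∈ V 0, α x ∈ V 0) :
    ∀ x ∈ V 1, α x ∈ V 1 := by
  have hsurj : Function.Surjective α := Finite.surjective_of_injective hα
  have hV1 : ∀ x : W8, x ∈ V 1 → x * x = 1 := by decide +kernel
  rcases le_V_of_normal ((V 1).map α) ((V_normal 1 (Or.inr rfl)).map α hsurj)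
    (by rintro _ ⟨x, hx, rfl⟩; rw [← map_mul, hV1 x hx, map_one]) with h | h
  · exfalso
    have e0 : (V 0).map α = V 0 := Subgroup.eq_of_le_of_card_ge (by rintro _ ⟨x, hx, rfl⟩; exact h0 x hx)
      (by rw [Subgroup.card_map_of_injective hα])
    have e1 : (V 1).map α = V 0 := Subgroup.eq_of_le_of_card_ge h
      (by rw [Subgroup.card_map_of_injective hα, card_V, card_V])
    have heq : V 1 = V 0 := Subgroup.map_injective hα (e1.trans e0.symm)
    have : f ∈ V 0 := heq ▸ gen_facts.2.2.2.2.2.2.1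
    exact absurd this (by decide +kernel)
  · exact fun x hx => h ⟨x, hx, rfl⟩

/-- Images of `e`, `e'`, `f`, `f'` modulo `W` for an endomorphism respecting the pair `V 0`, `V 1`. -/
theorem classes (α : W8 →* W8) (hα : Function.Injective α) (h0 : ∀ x ∈ V 0, α x ∈ V 0)
    (h1 : ∀ x ∈ V 1, α x ∈ V 1) :
    (α e * e⁻¹ ∈ W ∧ α f * f⁻¹ ∈ W ∧ α e' * e'⁻¹ ∈ W ∧ α f' * f'⁻¹ ∈ W) ∨
      (α e * e'⁻¹ ∈ W ∧ α f * f'⁻¹ ∈ W ∧ α e' * e⁻¹ ∈ W ∧ α f' * f⁻¹ ∈ W) := by
  obtain ⟨hef, he'f', hef', he'f, he, he', hf, hf', -⟩ := gen_facts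
  have hne : α e * α f ≠ α f * α e := fun h => hef (hα (by rw [map_mul, map_mul, h]))
  have hne' : α e' * α f' ≠ α f' * α e' := fun h => he'f' (hα (by rw [map_mul, map_mul, h]))
  have hW : ∀ x, x ∈ W → ∀ y, y ∈ V 0 ∨ y ∈ V 1 → x * y = y * x := fun x hx y hy =>
    comm_W x hx y (by rcases hy with hy | hy <;> exact hy.1)
  have c1 := comm_class (α e) (h0 _ he) (α f') (h1 _ hf') (by rw [← map_mul, ← map_mul, hef'])
    (fun h => hne (hW _ h _ (Or.inr (h1 _ hf))))
    (fun h => hne' (hW _ h _ (Or.inl (h0 _ he'))).symm)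
  have c2 := comm_class (α e') (h0 _ he') (α f) (h1 _ hf) (by rw [← map_mul, ← map_mul, he'f])
    (fun h => hne' (hW _ h _ (Or.inr (h1 _ hf'))))
    (fun h => hne (hW _ h _ (Or.inl (h0 _ he))).symm)
  rcases c1 with ⟨a1, b1⟩ | ⟨a1, b1⟩ <;> rcases c2 with ⟨a2, b2⟩ | ⟨a2, b2⟩
  · exact absurd (comm_ef' _ a1 _ b2) hne
  · exact Or.inl ⟨a1, b2, a2, b1⟩
  · exact Or.inr ⟨a1, b2, a2, b1⟩
  · exact absurd (comm_e'f _ a1 _ b2) hne

section

variable {S : Type*} [Group S] [Finite S] {ι : W8 →* S}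

/-- No element inducing the identity on the base modulo `W` has its square in `P`. -/
theorem key_aux (hι : Function.Injective ι) (hr : Cfsg.SectionalPRankLE 2 4 S) {c : S}
    (hc : ∀ x, c * ι x * c⁻¹ ∈ ι.range) (hc2 : c * c ∈ ι.range) (hcP : c ∉ ι.range)
    (he : conjAut ι hι hc e * e⁻¹ ∈ W) (hf : conjAut ι hι hc f * f⁻¹ ∈ W)
    (he' : conjAut ι hι hc e' * e'⁻¹ ∈ W) (hf' : conjAut ι hι hc f' * f'⁻¹ ∈ W) : False := by
  classical
  set α := conjAut ι hι hc with hα
  have hz₁ : α z₁ = z₁ := by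
    rw [← gen_facts.2.2.2.2.2.2.2.2.2.1, map_mul, map_mul]
    exact (sq_ef _ he _ hf).trans gen_facts.2.2.2.2.2.2.2.2.2.1.symm
  have hz₂ : α z₂ = z₂ := by
    rw [← gen_facts.2.2.2.2.2.2.2.2.2.2, map_mul, map_mul]
    exact (sq_ef' _ he' _ hf').trans gen_facts.2.2.2.2.2.2.2.2.2.2.symm
  have hW : ∀ u ∈ W, α u = u := fun u hu => by
    rcases mem_W_iff u hu with rfl | rfl | rfl | rfl
    · exact map_one α
    · exact hz₁
    · exact hz₂
    · rw [map_mul, hz₁, hz₂]
  -- `α` is the identity on the base modulo `W`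
  let H : Subgroup W8 :=
    { carrier := {x | x.s = false ∧ α x * x⁻¹ ∈ W}
      one_mem' := ⟨rfl, by simp [one_mem]⟩
      mul_mem' := by
        rintro x y ⟨hx, hxW⟩ ⟨hy, hyW⟩
        refine ⟨by rw [s_mul]; simp [hx, hy], ?_⟩
        rw [map_mul, show α x * α y * (x * y)⁻¹ = α x * (α y * y⁻¹) * x⁻¹ by group]
        have hαx : (α x).s = false := by
          have h : α x = α x * x⁻¹ * x := by group
          rw [h, s_mul]; simp [s_of_mem_W _ hxW, hx]
        rw [← comm_W _ hyW _ hαx, mul_assoc]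
        exact mul_mem hyW hxW
      inv_mem' := by
        rintro x ⟨hx, hxW⟩
        have hxi : x⁻¹.s = false := by rw [W8.inv_def]; simp [hx]
        refine ⟨hxi, ?_⟩
        rw [map_inv, inv_inv, show (α x)⁻¹ * x = x⁻¹ * (α x * x⁻¹)⁻¹ * x by group,
          ← comm_W _ (inv_mem hxW) _ hxi, mul_assoc, inv_mul_cancel, mul_one]
        exact inv_mem hxW }
  have hB : ∀ b : W8, b.s = false → α b * b⁻¹ ∈ W := by
    intro b hb
    have h1 : inl b.a ∈ H := inl_mem (H := H) ⟨rfl, he⟩ ⟨rfl, hf⟩ _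
    have h2 : inr b.b ∈ H := inr_mem (H := H) ⟨rfl, he'⟩ ⟨rfl, hf'⟩ _
    have h3 : b ∈ H := by
      rw [eq_mul b]
      simpa [hb] using mul_mem h1 h2
    exact h3.2
  obtain ⟨p, hp⟩ := hc2
  have hαα : ∀ x, α (α x) = p * x * p⁻¹ := fun x => hι (by
    rw [hα, conjAut_spec, conjAut_spec, map_mul, map_mul, map_inv, hp]; group)
  have hfix : ∀ b : W8, b.s = false → p * b = b * p := by
    intro b hb
    have hu := hB b hb
    have h1 : α b = α b * b⁻¹ * b := by group
    have hu2 : α b * b⁻¹ * (α b * b⁻¹) = 1 := by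
      rcases mem_W_iff _ hu with h | h | h | h <;> rw [h] <;> decide +kernel
    have h2 : α (α b) = b := by
      calc α (α b) = α (α b * b⁻¹ * b) := congrArg α h1
        _ = α b * b⁻¹ * α b := by rw [map_mul, hW _ hu]
        _ = α b * b⁻¹ * (α b * b⁻¹) * b := by group
        _ = b := by rw [hu2, one_mul]
    rw [hαα] at h2
    exact mul_inv_eq_iff_eq_mul.mp h2
  have hpW : p ∈ W := cent_base p (hfix e rfl) (hfix f rfl) (hfix e' rfl) (hfix f' rfl)
  have hcι : ∀ b, c * ι b = ι (α b) * c := fun b => by rw [hα, conjAut_spec]; group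
  have hcinv : c⁻¹ = ι p⁻¹ * c := by rw [map_inv, hp]; group
  have hsmul : ∀ x y : W8, x.s = false → y.s = false → (x * y).s = false := fun x y hx hy => by
    rw [s_mul]; simp [hx, hy]
  have hαs : ∀ b : W8, b.s = false → (α b).s = false := fun b hb => by
    have h : α b = α b * b⁻¹ * b := by group
    rw [h]; exact hsmul _ _ (s_of_mem_W _ (hB b hb)) hb
  let X : Subgroup S :=
    { carrier := {x | ∃ b : W8, b.s = false ∧ (x = ι b ∨ x = ι b * c)}
      one_mem' := ⟨1, rfl, Or.inl (map_one ι).symm⟩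
      mul_mem' := by
        rintro x y ⟨b, hb, hx⟩ ⟨b', hb', hy⟩
        rcases hx with rfl | rfl <;> rcases hy with rfl | rfl
        · exact ⟨b * b', hsmul _ _ hb hb', Or.inl (map_mul ι b b').symm⟩
        · exact ⟨b * b', hsmul _ _ hb hb', Or.inr (by rw [map_mul, mul_assoc])⟩
        · refine ⟨b * α b', hsmul _ _ hb (hαs _ hb'), Or.inr ?_⟩
          rw [map_mul, mul_assoc, hcι, ← mul_assoc]
        · refine ⟨b * α b' * p, hsmul _ _ (hsmul _ _ hb (hαs _ hb')) (s_of_mem_W _ hpW), Or.inl ?_⟩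
          rw [map_mul, map_mul, hp, mul_assoc (ι b), ← mul_assoc c, hcι]
          group
      inv_mem' := by
        rintro x ⟨b, hb, rfl | rfl⟩
        · exact ⟨b⁻¹, by rw [W8.inv_def]; simp [hb], Or.inl (map_inv ι b).symm⟩
        · refine ⟨p⁻¹ * α b⁻¹, hsmul _ _ ?_ (hαs _ ?_), Or.inr ?_⟩
          · exact s_of_mem_W _ (inv_mem hpW)
          · rw [W8.inv_def]; simp [hb]
          · rw [mul_inv_rev, hcinv, ← map_inv ι b, mul_assoc, hcι, map_mul, mul_assoc] }
  let W' : Subgroup S := W.map ι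
  have hW'X : W' ≤ X := by
    rintro _ ⟨u, hu, rfl⟩
    exact ⟨u, s_of_mem_W u hu, Or.inl rfl⟩
  have hcW : ∀ u ∈ W, c * ι u = ι u * c := fun u hu => by rw [hcι, hW u hu]
  have hcent : ∀ x ∈ X, ∀ w ∈ W', x * w = w * x := by
    rintro x ⟨b, hb, hx⟩ _ ⟨u, hu, rfl⟩
    have h1 : ι b * ι u = ι u * ι b := by rw [← map_mul, ← map_mul, comm_W u hu b hb]
    rcases hx with rfl | rfl
    · exact h1
    · rw [mul_assoc, hcW u hu, ← mul_assoc, h1, mul_assoc]
  have hsq : ∀ x ∈ X, x * x ∈ W' := by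
    rintro x ⟨b, hb, rfl | rfl⟩
    · exact ⟨b * b, sq_mem_W b hb, map_mul ι b b⟩
    · refine ⟨b * α b * p, ?_, ?_⟩
      · have h : b * α b = α b * b⁻¹ * (b * b) := by
          calc b * α b = b * (α b * b⁻¹) * b := by group
            _ = α b * b⁻¹ * b * b := by rw [comm_W _ (hB b hb) b hb]
            _ = _ := mul_assoc _ _ _
        rw [h]
        exact mul_mem (mul_mem (hB b hb) (sq_mem_W b hb)) hpW
      · rw [map_mul, map_mul, hp, mul_assoc (ι b) c, ← mul_assoc c (ι b) c, hcι]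
        group
  have hcX : Nat.card X = 128 := by
    let φ : {x : W8 // x.s = false} × Bool → X := fun q =>
      ⟨if q.2 then ι q.1 * c else ι q.1, q.1, q.1.2, by cases q.2 <;> simp⟩
    have hne : ∀ b b' : W8, ι b ≠ ι b' * c := fun b b' h => hcP ⟨b'⁻¹ * b, by
      rw [map_mul, map_inv, h]; group⟩
    have hbij : Function.Bijective φ := by
      constructor
      · rintro ⟨⟨b, hb⟩, s⟩ ⟨⟨b', hb'⟩, s'⟩ h
        have h' : (if s then ι b * c else ι b) = if s' then ι b' * c else ι b' := congrArg Subtype.val h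
        cases s <;> cases s' <;> simp only [Bool.false_eq_true, if_false, if_true] at h'
        · cases hι h'; rfl
        · exact absurd h' (hne _ _)
        · exact absurd h'.symm (hne _ _)
        · cases hι (mul_right_cancel h'); rfl
      · rintro ⟨x, b, hb, rfl | rfl⟩
        exacts [⟨(⟨b, hb⟩, false), rfl⟩, ⟨(⟨b, hb⟩, true), rfl⟩]
    rw [← Nat.card_congr (Equiv.ofBijective φ hbij), Nat.card_prod, card_base,
      Nat.card_eq_fintype_card, Fintype.card_bool]
  let NW : Subgroup X := W'.subgroupOf X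
  haveI : NW.Normal := ⟨fun u hu g => by
    have hm : ((g : S) * u * (g : S)⁻¹) ∈ W' := by
      rw [hcent g g.2 u hu, mul_assoc, mul_inv_cancel, mul_one]; exact hu
    exact hm⟩
  have hexp : ∀ q : X ⧸ NW, q * q = 1 := by
    intro q
    obtain ⟨x, rfl⟩ := QuotientGroup.mk'_surjective NW q
    rw [← map_mul, QuotientGroup.mk'_apply, QuotientGroup.eq_one_iff]
    exact hsq x x.2
  have hab : IsMulCommutative (⊤ : Subgroup (X ⧸ NW)) := ⟨⟨fun a b => Subtype.ext (by
    show (a : X ⧸ NW) * b = b * a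
    rw [← inv_eq_of_mul_eq_one_right (hexp (a * b : X ⧸ NW)), mul_inv_rev,
      inv_eq_of_mul_eq_one_right (hexp (a : X ⧸ NW)), inv_eq_of_mul_eq_one_right (hexp (b : X ⧸ NW))])⟩⟩
  have h32 := hr X NW ⊤ hab fun a _ => by rw [pow_two]; exact hexp a
  have hmul := Subgroup.card_eq_card_quotient_mul_card_subgroup NW
  rw [hcX, Nat.card_congr (Subgroup.subgroupOfEquivOfLe hW'X).toEquiv,
    Subgroup.card_map_of_injective hι, card_W] at hmul
  rw [Subgroup.card_top] at h32
  norm_num at h32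
  omega

/-- An element normalising `P` and `V 0` with square in `P` lies in `P`. -/
theorem key (hι : Function.Injective ι) (hr : Cfsg.SectionalPRankLE 2 4 S) {c : S}
    (hc : ∀ x, c * ι x * c⁻¹ ∈ ι.range) (hc2 : c * c ∈ ι.range)
    (hfix : ∀ x ∈ V 0, conjAut ι hι hc x ∈ V 0) : c ∈ ι.range := by
  by_contra hcP
  have hinj := conjAut_injective ι hι hc
  rcases classes _ hinj hfix (mapsTo_one _ hinj hfix) with ⟨a, b, a', b'⟩ | ⟨a, b, a', b'⟩
  · exact key_aux hι hr hc hc2 hcP a b a' b'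
  · set d := c * ι w with hd
    obtain ⟨we, we', wf, wf', ww⟩ := w_conj
    have hιw : (ι w)⁻¹ = ι w := inv_eq_of_mul_eq_one_right (by rw [← map_mul, ww, map_one])
    have heq : ∀ x, d * ι x * d⁻¹ = c * ι (w * x * w) * c⁻¹ := fun x => by
      rw [hd, mul_inv_rev, hιw, map_mul, map_mul]; group
    have hd' : ∀ x, d * ι x * d⁻¹ ∈ ι.range := fun x => by rw [heq]; exact hc _
    have hspec : ∀ x, conjAut ι hι hd' x = conjAut ι hι hc (w * x * w) := fun x => hι (by
      rw [conjAut_spec, conjAut_spec, heq])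
    have hd2 : d * d ∈ ι.range := by
      have : d * d = (c * ι w * c⁻¹) * (c * c) * ι w := by rw [hd]; group
      rw [this]
      exact mul_mem (mul_mem (hc w) hc2) ⟨w, rfl⟩
    have hdP : d ∉ ι.range := fun h => hcP (by
      have := mul_mem h (show (ι w)⁻¹ ∈ ι.range from inv_mem ⟨w, rfl⟩)
      rwa [hd, mul_assoc, mul_inv_cancel, mul_one] at this)
    exact key_aux hι hr hd' hd2 hdP (by rw [hspec, we]; exact a') (by rw [hspec, wf]; exact b')
      (by rw [hspec, we']; exact a) (by rw [hspec, wf']; exact b)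

/-- `N_S(V 0) ≤ P`. -/
theorem normalizer_le (hι : Function.Injective ι) (hS : IsPGroup 2 S)
    (hr : Cfsg.SectionalPRankLE 2 4 S) :
    Subgroup.normalizer (((V 0).map ι : Subgroup S) : Set S) ≤ ι.range := by
  classical
  haveI : Fact (Nat.Prime 2) := ⟨Nat.prime_two⟩
  set N := Subgroup.normalizer (((V 0).map ι : Subgroup S) : Set S) with hN
  have hPN : ι.range ≤ N := by
    rintro _ ⟨g, rfl⟩
    refine Subgroup.mem_normalizer_fintype ?_
    rintro _ ⟨x, hx, rfl⟩
    exact ⟨g * x * g⁻¹, (V_normal 0 (Or.inl rfl)).conj_mem x hx g, by simp⟩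
  by_contra hNP
  have hlt : (ι.range.subgroupOf N) < ⊤ := lt_top_iff_ne_top.2 fun h =>
    hNP (Subgroup.subgroupOf_eq_top.1 h)
  obtain ⟨c, hcN, hcP⟩ := SetLike.exists_of_lt (PGroup.lt_normalizer (hS.to_subgroup N) hlt.ne)
  -- a power of `c` with square in `P`
  obtain ⟨k, hk⟩ := (hS.to_subgroup N) c
  have hex : ∃ k : ℕ, c ^ 2 ^ k ∈ ι.range.subgroupOf N := ⟨k, by rw [hk]; exact one_mem _⟩
  have h0 : Nat.find hex ≠ 0 := fun h => hcP (by
    have := Nat.find_spec hex; rwa [h, pow_zero, pow_one] at this)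
  set d : N := c ^ 2 ^ (Nat.find hex - 1) with hd
  have hdP : (d : S) ∉ ι.range := fun h => Nat.find_min hex (by omega) h
  have hdd : (d : S) * d ∈ ι.range := by
    have h := Nat.find_spec hex
    rw [show Nat.find hex = Nat.find hex - 1 + 1 by omega, pow_succ, pow_mul, ← hd, pow_two] at h
    exact h
  have hdN : d ∈ Subgroup.normalizer ((ι.range.subgroupOf N : Subgroup N) : Set N) :=
    pow_mem hcN _
  have hd' : ∀ x, (d : S) * ι x * (d : S)⁻¹ ∈ ι.range := fun x =>
    (Subgroup.mem_normalizer_iff.1 hdN ⟨ι x, hPN ⟨x, rfl⟩⟩).1 ⟨x, rfl⟩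
  refine hdP (key hι hr hd' hdd fun x hx => ?_)
  have hm := (Subgroup.mem_normalizer_iff.1 d.2 (ι x)).1 ⟨x, hx, rfl⟩
  obtain ⟨y, hy, hyx⟩ := hm
  rwa [show conjAut ι hι hd' x = y from hι (by rw [conjAut_spec]; exact hyx.symm)]

omit [Finite S] in
/-- Conjugation by `c` composed with a base element. -/
theorem conjAut_left (hι : Function.Injective ι) {c : S} (hc : ∀ x, c * ι x * c⁻¹ ∈ ι.range)
    (g : W8) : ∃ hd : ∀ x, ι g * c * ι x * (ι g * c)⁻¹ ∈ ι.range,
      ∀ x, conjAut ι hι hd x = g * conjAut ι hι hc x * g⁻¹ := by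
  have hd : ∀ x, ι g * c * ι x * (ι g * c)⁻¹ ∈ ι.range := fun x => by
    rw [show ι g * c * ι x * (ι g * c)⁻¹ = ι g * (c * ι x * c⁻¹) * (ι g)⁻¹ by group]
    exact mul_mem (mul_mem ⟨g, rfl⟩ (hc x)) (inv_mem ⟨g, rfl⟩)
  refine ⟨hd, fun x => hι ?_⟩
  rw [map_mul, map_mul, map_inv, conjAut_spec, conjAut_spec]
  group

end


/-- Let S be a finite 2-group of sectional 2-rank at most 4 and P a proper subgroup isomorphic to the wreath product of the dihedral group of order 8 by a group of order 2 (equivalently, to a Sylow 2-subgroup of the symmetric group of degree 8; order 128). Then Z(S) = Z(P) has order 2, P has index 2 in its normalizer N_S(P), N_S(P)/Z(S) is again isomorphic to that wreath product, and every elementary abelian subgroup V of order 16 that is normal in P satisfies N_S(V) = P. -/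
theorem result {S : Type*} [Group S] [Finite S] (h2 : IsPGroup 2 S) (hr : Cfsg.SectionalPRankLE 2 4 S)
    (P : Subgroup S) (hPlt : P ≠ ⊤) (hP : ∃ T : Sylow 2 (Equiv.Perm (Fin 8)), Nonempty (↥P ≃* ↥(T : Subgroup (Equiv.Perm (Fin 8))))) :
    Subgroup.center S = (Subgroup.center ↥P).map P.subtype ∧ Nat.card ↥(Subgroup.center S) = 2 ∧
    P.relIndex (Subgroup.normalizer (P : Set S)) = 2 ∧
    (∃ (_ : ((Subgroup.center S).subgroupOf (Subgroup.normalizer (P : Set S))).Normal) (T : Sylow 2 (Equiv.Perm (Fin 8))),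
      Nonempty (↥(Subgroup.normalizer (P : Set S)) ⧸ (Subgroup.center S).subgroupOf (Subgroup.normalizer (P : Set S)) ≃*
        ↥(T : Subgroup (Equiv.Perm (Fin 8))))) ∧
    ∀ V : Subgroup S, V ≤ P → (∀ g ∈ P, ∀ v ∈ V, g * v * g⁻¹ ∈ V) → Cfsg.IsElementaryAbelian 2 V → Nat.card ↥V = 16 →
      Subgroup.normalizer (V : Set S) = P := by
  classical
  haveI : Fact (Nat.Prime 2) := ⟨Nat.prime_two⟩
  obtain ⟨T₀, ⟨e₀⟩⟩ := hP
  obtain ⟨eM⟩ := W8.nonempty_mulEquiv_sylow T₀
  let ι : W8 →* S := P.subtype.comp (eM.trans e₀.symm).toMonoidHom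
  have hι : Function.Injective ι := P.subtype_injective.comp (eM.trans e₀.symm).injective
  have hrange : ι.range = P := by
    rw [MonoidHom.range_comp, MonoidHom.range_eq_top.2 (eM.trans e₀.symm).surjective,
      ← MonoidHom.range_eq_map, Subgroup.range_subtype]
  clear_value ι
  subst hrange
  let ι' : W8 →* S := ι.comp swapEF.toMonoidHom
  have hι' : Function.Injective ι' := hι.comp swapEF.injective
  have hrange' : ι'.range = ι.range := by
    rw [MonoidHom.range_comp, MonoidHom.range_eq_top.2 swapEF.surjective, ← MonoidHom.range_eq_map]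
  have hVmap : (V 1).map ι = (V 0).map ι' := by
    ext y
    constructor
    · rintro ⟨x, hx, rfl⟩
      exact ⟨swapEF x, swapEF_mem_zero x hx, congrArg ι (swapEF_swapEF x)⟩
    · rintro ⟨x, hx, rfl⟩
      exact ⟨swapEF x, swapEF_mem_one x hx, rfl⟩
  have hN0 := normalizer_le hι h2 hr
  have hN1 : Subgroup.normalizer (((V 1).map ι : Subgroup S) : Set S) ≤ ι.range := by
    rw [hVmap, ← hrange']; exact normalizer_le hι' h2 hr
  -- centre
  have hzc : Subgroup.center W8 = Subgroup.zpowers z := by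
    refine le_antisymm (fun x hx => ?_) (Subgroup.zpowers_le.2 (Subgroup.mem_center_iff.2
      fun g => (z_central g).symm))
    rcases center_eq x ((Subgroup.mem_center_iff.1 hx e).symm) ((Subgroup.mem_center_iff.1 hx f).symm)
      ((Subgroup.mem_center_iff.1 hx w).symm) with rfl | rfl
    exacts [one_mem _, Subgroup.mem_zpowers _]
  have hzsq : z * z = 1 := by decide +kernel
  have hcardz : Nat.card (Subgroup.zpowers (ι z)) = 2 := by
    rw [Nat.card_zpowers]
    exact orderOf_eq_prime (by rw [pow_two, ← map_mul, hzsq, map_one])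
      fun h => z_ne_one (hι (by rw [h, map_one]))
  haveI : Nontrivial S := ⟨ι z, 1, fun h => z_ne_one (hι (by rw [h, map_one]))⟩
  have hcent : Subgroup.center S = Subgroup.zpowers (ι z) := by
    refine Subgroup.eq_of_le_of_card_ge (fun x hx => ?_) ?_
    · obtain ⟨y, rfl⟩ : x ∈ ι.range := hN0 (Subgroup.center_le_normalizer _ hx)
      have hy : y ∈ Subgroup.center W8 := Subgroup.mem_center_iff.2 fun g => hι (by
        rw [map_mul, map_mul, Subgroup.mem_center_iff.1 hx (ι g)])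
      rw [hzc] at hy
      rw [← MonoidHom.map_zpowers]
      exact ⟨y, hy, rfl⟩
    · rw [hcardz]
      obtain ⟨k, hk⟩ := IsPGroup.iff_card.mp (h2.to_subgroup (Subgroup.center S))
      haveI := IsPGroup.center_nontrivial h2
      have := Finite.one_lt_card (α := Subgroup.center S)
      rcases k with _ | k
      · rw [hk] at this; norm_num at this
      · omega
  have hcard : Nat.card (Subgroup.center S) = 2 := by rw [hcent, hcardz]
  refine ⟨?_, hcard, ?_⟩
  · ext x
    constructor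
    · intro hx
      obtain ⟨y, rfl⟩ : x ∈ ι.range := hN0 (Subgroup.center_le_normalizer _ hx)
      exact ⟨⟨ι y, y, rfl⟩, Subgroup.mem_center_iff.2 fun g => Subtype.ext
        (Subgroup.mem_center_iff.1 hx g), rfl⟩
    · rintro ⟨⟨_, y, rfl⟩, hy, rfl⟩
      rw [hcent]
      have : y ∈ Subgroup.center W8 := Subgroup.mem_center_iff.2 fun g => hι (by
        rw [map_mul, map_mul]
        exact congrArg Subtype.val (Subgroup.mem_center_iff.1 hy ⟨ι g, g, rfl⟩))
      rw [hzc] at this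
      rw [← MonoidHom.map_zpowers]
      exact ⟨y, this, rfl⟩
  have hVnorm : ∀ V' : Subgroup S, V' ≤ ι.range → (∀ g ∈ ι.range, ∀ v ∈ V', g * v * g⁻¹ ∈ V') →
      (∀ v ∈ V', v * v = 1) → Nat.card V' = 16 → V' = (V 0).map ι ∨ V' = (V 1).map ι := by
    intro V' hV'P hnorm hsq h16
    set U := V'.comap ι
    have hU : U.map ι = V' := Subgroup.map_comap_eq_self hV'P
    have hUn : U.Normal := ⟨fun x hx g => by
      show ι (g * x * g⁻¹) ∈ V'
      rw [map_mul, map_mul, map_inv]; exact hnorm _ ⟨g, rfl⟩ _ hx⟩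
    have hUc : Nat.card U = 16 := by
      rw [← h16, ← hU, Subgroup.card_map_of_injective hι]
    rcases le_V_of_normal U hUn (fun x hx => hι (by rw [map_mul, map_one]; exact hsq _ hx))
      with h | h
    · left; rw [← hU, Subgroup.eq_of_le_of_card_ge h (by rw [card_V, hUc])]
    · right; rw [← hU, Subgroup.eq_of_le_of_card_ge h (by rw [card_V, hUc])]
  set N := Subgroup.normalizer ((ι.range : Subgroup S) : Set S) with hN
  have hPN : ι.range ≤ N := Subgroup.le_normalizer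
  -- elements of `N` permute the two normal `E₁₆`
  have hperm : ∀ n ∈ N, ∃ hn : ∀ x, n * ι x * n⁻¹ ∈ ι.range,
      (∀ x ∈ V 0, conjAut ι hι hn x ∈ V 0) ∨ ∀ x ∈ V 0, conjAut ι hι hn x ∈ V 1 := by
    intro n hn
    have hn' : ∀ x, n * ι x * n⁻¹ ∈ ι.range := fun x =>
      (Subgroup.mem_normalizer_iff.1 hn _).1 ⟨x, rfl⟩
    have hV0sq : ∀ x : W8, x ∈ V 0 → x * x = 1 := by decide +kernel
    set β := conjAut ι hι hn'
    have hsurj : Function.Surjective β :=
      Finite.surjective_of_injective (conjAut_injective ι hι hn')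
    rcases le_V_of_normal ((V 0).map β) ((V_normal 0 (Or.inl rfl)).map β hsurj)
      (by rintro _ ⟨x, hx, rfl⟩; rw [← map_mul, hV0sq x hx, map_one]) with h | h
    · exact ⟨hn', Or.inl fun x hx => h ⟨x, hx, rfl⟩⟩
    · exact ⟨hn', Or.inr fun x hx => h ⟨x, hx, rfl⟩⟩
  have hmove : ∀ n ∈ N, n ∉ ι.range → ∀ (hn : ∀ x, n * ι x * n⁻¹ ∈ ι.range),
      ∀ x ∈ V 0, conjAut ι hι hn x ∈ V 1 := by
    intro n hnN hnP hn
    obtain ⟨hn', h | h⟩ := hperm n hnN
    · exfalso
      refine hnP (hN0 (Subgroup.mem_normalizer_fintype ?_))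
      rintro _ ⟨x, hx, rfl⟩
      exact ⟨conjAut ι hι hn' x, h x hx, conjAut_spec ι hι hn' x⟩
    · exact h
  have hback : ∀ n ∈ N, n ∉ ι.range → ∀ (hn : ∀ x, n * ι x * n⁻¹ ∈ ι.range),
      ∀ x ∈ V 1, conjAut ι hι hn x ∈ V 0 := by
    intro n hnN hnP hn
    have hinj : Function.Injective (swapEF.toMonoidHom.comp (conjAut ι hι hn)) :=
      swapEF.injective.comp (conjAut_injective ι hι hn)
    have h1 := mapsTo_one _ hinj fun x hx => swapEF_mem_zero _ (hmove n hnN hnP hn x hx)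
    intro x hx
    have := swapEF_mem_zero _ (h1 x hx)
    rwa [show swapEF ((swapEF.toMonoidHom.comp (conjAut ι hι hn)) x) = conjAut ι hι hn x from
      swapEF_swapEF _] at this
  have hmul : ∀ n m, n ∈ N → m ∈ N → n ∉ ι.range → m ∉ ι.range → n * m ∈ ι.range := by
    intro n m hn hm hnP hmP
    have hn' : ∀ x, n * ι x * n⁻¹ ∈ ι.range := fun x =>
      (Subgroup.mem_normalizer_iff.1 hn _).1 ⟨x, rfl⟩
    have hm' : ∀ x, m * ι x * m⁻¹ ∈ ι.range := fun x =>
      (Subgroup.mem_normalizer_iff.1 hm _).1 ⟨x, rfl⟩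
    refine hN0 (Subgroup.mem_normalizer_fintype ?_)
    rintro _ ⟨x, hx, rfl⟩
    refine ⟨conjAut ι hι hn' (conjAut ι hι hm' x),
      hback n hn hnP hn' _ (hmove m hm hmP hm' x hx), ?_⟩
    rw [conjAut_spec, conjAut_spec]; group
  obtain ⟨n₀, hn₀N, hn₀P⟩ :=
    SetLike.exists_of_lt (PGroup.lt_normalizer h2 hPlt)
  have hrel : (ι.range).relIndex N = 2 := by
    refine Subgroup.relIndex_eq_two_iff.2 ⟨n₀, hn₀N, fun x hx => ?_⟩
    by_cases hxP : x ∈ ι.range
    · refine Or.inr ⟨hxP, fun h => hn₀P ?_⟩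
      simpa using mul_mem (inv_mem hxP) h
    · exact Or.inl ⟨hmul x n₀ hx hn₀N hxP hn₀P, hxP⟩
  refine ⟨hrel, ?_, ?_⟩
  swap
  · intro V' hV'P hnorm hV' h16
    haveI := hV'.1
    have hsq : ∀ v ∈ V', v * v = 1 := fun v hv => by rw [← pow_two]; exact hV'.2 v hv
    refine le_antisymm ?_ fun g hg => Subgroup.mem_normalizer_fintype fun v hv => hnorm g hg v hv
    rcases hVnorm V' hV'P hnorm hsq h16 with rfl | rfl
    exacts [hN0, hN1]
  -- normal form of an element outside `P`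
  have hn₀' : ∀ x, n₀ * ι x * n₀⁻¹ ∈ ι.range := fun x =>
    (Subgroup.mem_normalizer_iff.1 hn₀N _).1 ⟨x, rfl⟩
  obtain ⟨-, -, -, -, he, -, hf, -, -⟩ := gen_facts
  have step : ∀ (c : S) (hc : ∀ x, c * ι x * c⁻¹ ∈ ι.range), c ∈ N → c ∉ ι.range → ∀ g : W8,
      ι g * c ∈ N ∧ ι g * c ∉ ι.range := fun c hc hcN hcP g =>
    ⟨mul_mem (hPN ⟨g, rfl⟩) hcN, fun h => hcP (by
      simpa using mul_mem (inv_mem (show ι g ∈ ι.range from ⟨g, rfl⟩)) h)⟩
  obtain ⟨n₁, hn₁N, hn₁P, hn₁, hX, hY⟩ : ∃ n₁ ∈ N, n₁ ∉ ι.range ∧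
      ∃ hn₁ : ∀ x, n₁ * ι x * n₁⁻¹ ∈ ι.range,
        conjAut ι hι hn₁ e * f⁻¹ ∈ W ∧ conjAut ι hι hn₁ f * e⁻¹ ∈ W := by
    set β := conjAut ι hι hn₀'
    have hinj : Function.Injective (swapEF.toMonoidHom.comp β) :=
      swapEF.injective.comp (conjAut_injective ι hι hn₀')
    have h0 : ∀ x ∈ V 0, (swapEF.toMonoidHom.comp β) x ∈ V 0 := fun x hx =>
      swapEF_mem_zero _ (hmove n₀ hn₀N hn₀P hn₀' x hx)
    have hsW : ∀ u, u ∈ W → swapEF u ∈ W := fun u hu =>
      ⟨swapEF_mem_zero u hu.2, swapEF_mem_one u hu.1⟩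
    have hback' : ∀ y t : W8, swapEF y * t⁻¹ ∈ W → y * (swapEF t)⁻¹ ∈ W := fun y t h => by
      have := hsW _ h
      rwa [map_mul, map_inv, swapEF_swapEF] at this
    have he_f : swapEF e = f ∧ swapEF f = e ∧ swapEF e' = f' ∧ swapEF f' = e' ∧
        w * f' * w = f ∧ w * e' * w = e := by decide +kernel
    obtain ⟨s1, s2, s3, s4, -, -⟩ := he_f
    rcases classes _ hinj h0 (mapsTo_one _ hinj h0) with ⟨a, b, -, -⟩ | ⟨a, b, -, -⟩
    · refine ⟨n₀, hn₀N, hn₀P, hn₀', ?_, ?_⟩
      · have := hback' _ _ a; rwa [s1] at this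
      · have := hback' _ _ b; rwa [s2] at this
    · obtain ⟨hd, hspec⟩ := conjAut_left hι hn₀' w
      have hh : f⁻¹ = w * f'⁻¹ * w⁻¹ ∧ e⁻¹ = w * e'⁻¹ * w⁻¹ := by decide +kernel
      refine ⟨_, (step n₀ hn₀' hn₀N hn₀P w).1, (step n₀ hn₀' hn₀N hn₀P w).2, hd, ?_, ?_⟩
      · have h := hback' _ _ a
        rw [s3] at h
        have hW : w * (β e * f'⁻¹) * w⁻¹ ∈ W :=
          ⟨(V_normal 0 (Or.inl rfl)).conj_mem _ h.1 w, (V_normal 1 (Or.inr rfl)).conj_mem _ h.2 w⟩
        rwa [hspec, show w * β e * w⁻¹ * f⁻¹ = w * (β e * f'⁻¹) * w⁻¹ by rw [hh.1]; group]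
      · have h := hback' _ _ b
        rw [s4] at h
        have hW : w * (β f * e'⁻¹) * w⁻¹ ∈ W :=
          ⟨(V_normal 0 (Or.inl rfl)).conj_mem _ h.1 w, (V_normal 1 (Or.inr rfl)).conj_mem _ h.2 w⟩
        rwa [hspec, show w * β f * w⁻¹ * e⁻¹ = w * (β f * e'⁻¹) * w⁻¹ by rw [hh.2]; group]
  obtain ⟨g1, hg1, hg1'⟩ := fix_f _ hX
  obtain ⟨hd₂, hspec₂⟩ := conjAut_left hι hn₁ g1
  set n₂ := ι g1 * n₁
  obtain ⟨hn₂N, hn₂P⟩ := step n₁ hn₁ hn₁N hn₁P g1
  have hY2 : conjAut ι hι hd₂ f * e⁻¹ ∈ W := by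
    rw [hspec₂]
    simp only [List.mem_cons, List.not_mem_nil, or_false] at hg1
    rcases hg1 with rfl | rfl
    · simpa using hY
    · rw [(fix_e _ hY).1]; exact hY
  obtain ⟨g2, hg2, hg2'⟩ := (fix_e _ hY2).2
  obtain ⟨hd₃, hspec₃⟩ := conjAut_left hι hd₂ g2
  set n₃ := ι g2 * n₂
  obtain ⟨hn₃N, hn₃P⟩ := step n₂ hd₂ hn₂N hn₂P g2
  have hX3 : conjAut ι hι hd₃ e = f ∨ conjAut ι hι hd₃ e = f * z := by
    rw [hspec₃, hspec₂]
    have hff : ∀ g ∈ ([1, f] : List W8), ∀ t ∈ ([f, f * z] : List W8), g * t * g⁻¹ = t := by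
      decide +kernel
    rcases hg1' with h | h <;> rw [h]
    · exact Or.inl (hff g2 hg2 _ (by simp))
    · exact Or.inr (hff g2 hg2 _ (by simp))
  have hY3 : conjAut ι hι hd₃ f = e ∨ conjAut ι hι hd₃ f = e * z := by rw [hspec₃]; exact hg2'
  have hWs : (conjAut ι hι hd₃ w).s = true := by
    set γ := conjAut ι hι hd₃
    by_contra hh
    rw [Bool.not_eq_true] at hh
    let B : Subgroup W8 :=
      { carrier := {x | x.s = false}
        one_mem' := rfl
        mul_mem' := fun {x y} (hx : x.s = false) (hy : y.s = false) => by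
          show (x * y).s = false
          rw [s_mul]; simp [hx, hy]
        inv_mem' := fun {x} (hx : x.s = false) => by
          show x⁻¹.s = false
          rw [W8.inv_def]; simp [hx] }
    have hfs : (f * z).s = false ∧ (e * z).s = false ∧ e.s = false ∧ f.s = false := by decide +kernel
    have htop : B.comap γ = ⊤ := eq_top_of_gens _
      (show (γ e).s = false by rcases hX3 with h | h <;> rw [h] <;> simp [hfs])
      (show (γ f).s = false by rcases hY3 with h | h <;> rw [h] <;> simp [hfs]) hh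
    obtain ⟨x, hx⟩ := Finite.surjective_of_injective (conjAut_injective ι hι hd₃) w
    have : γ x ∈ B := by
      have := htop ▸ Subgroup.mem_top x
      exact this
    rw [hx] at this
    exact absurd (show w.s = false from this) (by decide +kernel)
  obtain ⟨g3, hg3⟩ := fix_w _ hWs (by rw [← map_mul, w_conj.2.2.2.2, map_one])
  obtain ⟨hd₄, hspec₄⟩ := conjAut_left hι hd₃ (inr g3)
  set n := ι (inr g3) * n₃
  obtain ⟨hnN, hnP⟩ := step n₃ hd₃ hn₃N hn₃P (inr g3)
  have hwN : conjAut ι hι hd₄ w = w := by rw [hspec₄, hg3]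
  have hez : ∀ t u : W8, (u = t ∨ u = t * z) → inr g3 * t * (inr g3)⁻¹ = t →
      (inr g3 * u * (inr g3)⁻¹ = t ∨ inr g3 * u * (inr g3)⁻¹ = t * z) := by
    intro t u hu ht
    rcases hu with rfl | rfl
    · exact Or.inl ht
    · right
      rw [show inr g3 * (t * z) * (inr g3)⁻¹ = inr g3 * t * (z * (inr g3)⁻¹) by group,
        z_central ((inr g3)⁻¹), ← mul_assoc, ht]
  have hXN : conjAut ι hι hd₄ e = f ∨ conjAut ι hι hd₄ e = f * z := by
    rw [hspec₄]; exact hez f _ hX3 (inr_comm g3).2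
  have hYN : conjAut ι hι hd₄ f = e ∨ conjAut ι hι hd₄ f = e * z := by
    rw [hspec₄]; exact hez e _ hY3 (inr_comm g3).1
  set β := conjAut ι hι hd₄ with hβ
  have hβz : β z = z := by
    have hc : β z ∈ Subgroup.center W8 := Subgroup.mem_center_iff.2 fun g => by
      obtain ⟨x, rfl⟩ := Finite.surjective_of_injective (conjAut_injective ι hι hd₄) g
      rw [← map_mul, ← map_mul, z_central]
    rcases center_eq _ ((Subgroup.mem_center_iff.1 hc e).symm)
      ((Subgroup.mem_center_iff.1 hc f).symm) ((Subgroup.mem_center_iff.1 hc w).symm) with h | h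
    · exact absurd (conjAut_injective ι hι hd₄ (h.trans (map_one _).symm)) z_ne_one
    · exact h
  have hββ : ∀ t u : W8, (β t = u ∨ β t = u * z) → (β u = t ∨ β u = t * z) →
      (β (β t) = t ∨ β (β t) = t * z) := by
    intro t u h1 h2
    have hzz : ∀ v : W8, v * z * z = v := fun v => by rw [mul_assoc, hzsq, mul_one]
    rcases h1 with h1 | h1 <;> rcases h2 with h2 | h2 <;> rw [h1] <;>
      simp [map_mul, hβz, h2, hzz]
  obtain ⟨p, hp⟩ := hmul n n hnN hnN hnP hnP
  have hpβ : ∀ x, p * x * p⁻¹ = β (β x) := fun x => hι (by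
    rw [map_mul, map_mul, map_inv, hp, hβ, conjAut_spec, conjAut_spec]; group)
  have hp' : p = 1 ∨ p = z := fix_p p (by rw [hpβ, hwN, hwN])
    (by rw [hpβ]; exact hββ e f hXN hYN) (by rw [hpβ]; exact hββ f e hYN hXN)
  haveI hZn : ((Subgroup.center S).subgroupOf N).Normal := Subgroup.normal_subgroupOf
  refine ⟨hZn, ?_⟩
  let mk := QuotientGroup.mk' ((Subgroup.center S).subgroupOf N)
  have hmkz : ∀ u : W8, (u = 1 ∨ u = z) → mk ⟨ι u, hPN ⟨u, rfl⟩⟩ = 1 := by
    intro u hu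
    refine (QuotientGroup.eq_one_iff _).2 (Subgroup.mem_subgroupOf.2 ?_)
    show ι u ∈ Subgroup.center S
    rw [hcent]
    rcases hu with rfl | rfl
    · rw [map_one]; exact one_mem _
    · exact Subgroup.mem_zpowers _
  let emb : W8 →* ↥N ⧸ (Subgroup.center S).subgroupOf N :=
    mk.comp (ι.codRestrict N fun u => hPN ⟨u, rfl⟩)
  let nq := mk ⟨n, hnN⟩
  have hnq : nq * nq = 1 := by
    rw [← map_mul]
    rw [← hmkz p hp']
    exact congrArg mk (Subtype.ext hp.symm)
  have hembz : ∀ u v : W8, (u = v ∨ u = v * z) → emb u = emb v := by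
    rintro u v (rfl | rfl)
    · rfl
    · rw [map_mul, show emb z = 1 from hmkz z (Or.inr rfl), mul_one]
  have hswap : ∀ u, nq * emb u * nq⁻¹ = emb (swapEF u) := by
    intro u
    have h1 : nq * emb u * nq⁻¹ = emb (β u) := by
      show mk _ * mk _ * (mk _)⁻¹ = mk _
      rw [← map_mul, ← map_inv, ← map_mul]
      exact congrArg mk (Subtype.ext (conjAut_spec ι hι hd₄ u).symm)
    rw [h1]
    have he_f : swapEF e = f ∧ swapEF f = e ∧ swapEF w = w := by decide +kernel
    exact DFunLike.congr_fun (W8.hom_ext (φ := emb.comp β) (ψ := emb.comp swapEF.toMonoidHom)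
      (by show emb (β e) = emb (swapEF e); rw [he_f.1]; exact hembz _ _ hXN)
      (by show emb (β f) = emb (swapEF f); rw [he_f.2.1]; exact hembz _ _ hYN)
      (by show emb (β w) = emb (swapEF w); rw [he_f.2.2, hwN])) u
  let Ψ : W8x →* ↥N ⧸ (Subgroup.center S).subgroupOf N :=
    MonoidHom.mk' (fun x => emb x.m * (if x.k then nq else 1)) fun x y => by
      obtain ⟨m, k⟩ := x
      obtain ⟨m', k'⟩ := y
      cases k
      · simp [W8x.mul_def, mul_assoc]
      · have hsw : nq * emb m' = emb (swapEF m') * nq := by rw [← hswap]; group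
        cases k'
        · simp [W8x.mul_def, mul_assoc, hsw]
        · simp only [W8x.mul_def, if_true, Bool.not_true, Bool.false_eq_true, if_false, map_mul,
            mul_one]
          rw [mul_assoc, ← mul_assoc nq, hsw, mul_assoc, hnq, mul_one]
  have hΨ : Function.Surjective Ψ := by
    intro q
    obtain ⟨⟨x, hx⟩, rfl⟩ := QuotientGroup.mk'_surjective _ q
    by_cases hxP : x ∈ ι.range
    · obtain ⟨u, rfl⟩ := hxP
      exact ⟨⟨u, false⟩, mul_one (emb u)⟩
    · obtain ⟨u, hu⟩ := hmul x n hx hnN hxP hnP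
      refine ⟨⟨u, true⟩, ?_⟩
      show emb u * nq = _
      have hu' : emb u = mk ⟨x, hx⟩ * nq := by
        rw [← map_mul]
        exact congrArg mk (Subtype.ext hu)
      rw [hu', mul_assoc, hnq, mul_one]
  have hQ : Nat.card (↥N ⧸ (Subgroup.center S).subgroupOf N) = 128 := by
    have h1 := Subgroup.card_mul_index (ι.range.subgroupOf N)
    rw [Nat.card_congr (Subgroup.subgroupOfEquivOfLe hPN).toEquiv,
      show (ι.range.subgroupOf N).index = 2 from hrel,
      ← Nat.card_congr (MonoidHom.ofInjective hι).toEquiv, W8.card_w8] at h1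
    have h2 := Subgroup.card_eq_card_quotient_mul_card_subgroup ((Subgroup.center S).subgroupOf N)
    rw [Nat.card_congr (Subgroup.subgroupOfEquivOfLe (Subgroup.center_le_normalizer _)).toEquiv,
      hcard] at h2
    omega
  have hΨz : Ψ ⟨z, false⟩ = 1 := (mul_one _).trans (hmkz z (Or.inr rfl))
  obtain ⟨eQ⟩ := W8x.nonempty_mulEquiv Ψ hΨ hΨz hQ
  exact ⟨T₀, ⟨eQ.symm.trans eM⟩⟩

end Cfsg.Agent.S4402
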