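import Cfsg.Statements.S4403
import Cfsg.Agent.Lib.Components.GenFitting
import Cfsg.Agent.Lib.Transfer.Burnside
import Cfsg.Agent.Lib.Transfer.Central
import Cfsg.Agent.Lib.Components.PComponentQuot
-- import your own Cfsg.Agent.* helpers here

set_option autoImplicit false
open Cfsg

namespace Cfsg.Agent.S4403

open Cfsg.Agent.Components Subgroup
open scoped commutatorElement

variable {K : Type*} [Group K] [Finite K] {p : ℕ} [Fact p.Prime]

/-- Commuting elements of order `p` generate the same subgroup if a Sylow subgroup is cyclic. -/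
theorem mem_zpowers_of_commute (P : Sylow p K) (hP : IsCyclic ↥(P : Subgroup K)) {a b : K}
    (ha : orderOf a = p) (hb : orderOf b = p) (hab : Commute a b) : b ∈ zpowers a := by
  classical
  have hpg : ∀ {c : K}, orderOf c = p → IsPGroup p (zpowers c) := fun {c} hc =>
    IsPGroup.of_card (n := 1) (by rw [Nat.card_zpowers, hc, pow_one])
  have hn : zpowers b ≤ normalizer (zpowers a : Set K) := by
    refine le_trans ?_ (centralizer_le_normalizer _)
    rw [zpowers_le, mem_centralizer_iff]
    intro y hy
    obtain ⟨i, rfl⟩ := mem_zpowers_iff.mp hy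
    exact (hab.zpow_left i).eq
  obtain ⟨Q, hQ⟩ := ((hpg ha).to_sup_of_normal_left' (hpg hb) hn).exists_le_sylow
  have : IsCyclic Q := isCyclic_of_surjective (P.equiv Q).toMonoidHom (P.equiv Q).surjective
  have := Fintype.ofFinite Q
  have haQ : a ∈ (Q : Subgroup K) := hQ (mem_sup_left (mem_zpowers a))
  have hbQ : b ∈ (Q : Subgroup K) := hQ (mem_sup_right (mem_zpowers b))
  set a' : Q := ⟨a, haQ⟩
  have ha' : orderOf a' = p := by rw [← Subgroup.orderOf_coe]; exact ha
  have hle : (zpowers a' : Set Q).toFinset ⊆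
      Finset.univ.filter fun x : Q => x ^ p = 1 := by
    intro x hx
    obtain ⟨i, rfl⟩ := mem_zpowers_iff.mp (Set.mem_toFinset.mp hx)
    simp only [Finset.mem_filter, Finset.mem_univ, true_and]
    have h1 : a' ^ p = 1 := orderOf_dvd_iff_pow_eq_one.mp ha'.dvd
    rw [← zpow_natCast, ← zpow_mul, mul_comm, zpow_mul, zpow_natCast, h1, one_zpow]
  have heq := Finset.eq_of_subset_of_card_le hle
    ((IsCyclic.card_pow_eq_one_le (Fact.out : p.Prime).pos).trans (by
      rw [Set.toFinset_card, ← Nat.card_eq_fintype_card]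
      exact le_of_eq (ha'.symm.trans (Nat.card_zpowers a').symm)))
  have hbm : (⟨b, hbQ⟩ : Q) ∈ (zpowers a' : Set Q).toFinset := by
    rw [heq, Finset.mem_filter]
    exact ⟨Finset.mem_univ _, Subtype.ext (by simp [← hb, pow_orderOf_eq_one])⟩
  obtain ⟨i, hi⟩ := mem_zpowers_iff.mp (Set.mem_toFinset.mp hbm)
  exact mem_zpowers_iff.mpr ⟨i, by simpa [a'] using congrArg Subtype.val hi⟩

/-- A cyclic normal self-centralising Sylow subgroup. -/
theorem normal_case (P : Sylow p K) (hP : IsCyclic ↥(P : Subgroup K))
    (hn : (P : Subgroup K).Normal) (hc : centralizer ((P : Subgroup K) : Set K) = P)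
    (hne : p ∣ Nat.card K) :
    IsCyclic (K ⧸ (P : Subgroup K)) ∧ (P : Subgroup K).index ∣ p - 1 := by
  have hpp : p.Prime := Fact.out
  obtain ⟨n, hn'⟩ := IsPGroup.iff_card.mp P.isPGroup'
  have hn0 : n ≠ 0 := by
    rintro rfl
    exact P.ne_bot_of_dvd_card hne (card_eq_one.mp (by simpa using hn'))
  have hdvd : p ∣ Nat.card (P : Subgroup K) := hn' ▸ dvd_pow_self p hn0
  have : NeZero (Nat.card (P : Subgroup K)) := ⟨Nat.card_pos.ne'⟩
  let g : (ZMod (Nat.card (P : Subgroup K)))ˣ →* (ZMod p)ˣ := ZMod.unitsMap hdvd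
  let f : K →* (ZMod p)ˣ :=
    g.comp ((IsCyclic.mulAutMulEquiv ↥(P : Subgroup K)).toMonoidHom.comp MulAut.conjNormal)
  have hgs : Function.Surjective g := ZMod.unitsMap_surjective hdvd
  have hgk : Nat.card g.ker = p ^ (n - 1) := by
    have h1 := g.ker.card_eq_card_quotient_mul_card_subgroup
    have e1 : Nat.card (ZMod (Nat.card (P : Subgroup K)))ˣ = (p ^ n).totient := by
      rw [Nat.card_eq_fintype_card, ZMod.card_units_eq_totient]
      exact congrArg Nat.totient hn'
    have e2 : Nat.card (ZMod p)ˣ = p.totient := by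
      rw [Nat.card_eq_fintype_card, ZMod.card_units_eq_totient]
    rw [Nat.card_congr (QuotientGroup.quotientKerEquivOfSurjective g hgs).toEquiv, e1, e2,
      Nat.totient_prime_pow hpp (Nat.pos_of_ne_zero hn0),
      Nat.totient_prime hpp, mul_comm] at h1
    exact (Nat.eq_of_mul_eq_mul_left (Nat.sub_pos_of_lt hpp.one_lt) h1).symm
  have hcc : ∀ x : K, MulAut.conjNormal (H := (P : Subgroup K)) x = 1 ↔
      x ∈ (P : Subgroup K) := by
    intro x
    refine Iff.trans ?_ (SetLike.ext_iff.mp hc x)
    rw [mem_centralizer_iff]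
    constructor
    · intro h y hy
      have := congrArg (fun φ : MulAut ↥(P : Subgroup K) => ((φ ⟨y, hy⟩ : (P : Subgroup K)) : K)) h
      rw [MulAut.conjNormal_apply] at this
      exact (mul_inv_eq_iff_eq_mul.mp this).symm
    · intro h
      refine MulEquiv.ext fun y => Subtype.ext ?_
      rw [MulAut.conjNormal_apply]
      exact mul_inv_eq_iff_eq_mul.mpr (h y y.2).symm
  have hker : f.ker = P := by
    refine (P.3 ?_ ?_)
    · intro x
      have hx : ((IsCyclic.mulAutMulEquiv ↥(P : Subgroup K))
          (MulAut.conjNormal (x : K))) ∈ g.ker := x.2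
      have h1 := congrArg Subtype.val
        (pow_card_eq_one' (x := (⟨_, hx⟩ : g.ker)))
      rw [hgk, SubgroupClass.coe_pow, OneMemClass.coe_one, ← map_pow, MulEquiv.map_eq_one_iff,
        ← map_pow, hcc] at h1
      obtain ⟨k, hk⟩ := P.isPGroup' ⟨_, h1⟩
      refine ⟨n - 1 + k, Subtype.ext ?_⟩
      rw [pow_add, pow_mul, SubgroupClass.coe_pow, SubgroupClass.coe_pow]
      simpa using congrArg Subtype.val hk
    · intro x hx
      rw [MonoidHom.mem_ker]
      show g ((IsCyclic.mulAutMulEquiv ↥(P : Subgroup K)) (MulAut.conjNormal x)) = 1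
      rw [(hcc x).mpr hx, map_one, map_one]
  have : IsCyclic (ZMod p)ˣ := ZMod.isCyclic_units_prime hpp
  let e : K ⧸ (P : Subgroup K) ≃* f.range :=
    (QuotientGroup.quotientMulEquivOfEq hker.symm).trans (QuotientGroup.quotientKerEquivRange f)
  refine ⟨isCyclic_of_surjective e.symm.toMonoidHom e.symm.surjective, ?_⟩
  rw [index_eq_card, Nat.card_congr e.toEquiv]
  refine f.range.card_subgroup_dvd_card.trans (dvd_of_eq ?_)
  rw [Nat.card_eq_fintype_card, ZMod.card_units_eq_totient, Nat.totient_prime hpp]

/-- Let K be a finite group, p a prime dividing its order with O_{p'}(K) = 1 (no nontrivial normal subgroup of order prime to p), and P a cyclic Sylow p-subgroup of K. Then either P is normal and self-centralizing in K with K/P cyclic of order dividing p − 1 (so K is the semidirect product of P by a group of automorphisms of P of order dividing p − 1), or the generalized Fitting subgroup F*(K) is a non-abelian simple group and p does not divide the index of F*(K) in K. -/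
theorem result {K : Type*} [Group K] [Finite K] (p : ℕ) [Fact p.Prime] (hp : p ∣ Nat.card K) (hO : Cfsg.pPrimeCore p K = ⊥)
    (P : Sylow p K) (hP : IsCyclic ↥(P : Subgroup K)) :
    ((P : Subgroup K).Normal ∧ Subgroup.centralizer ((P : Subgroup K) : Set K) = (P : Subgroup K) ∧
      (∀ (_ : (P : Subgroup K).Normal), IsCyclic (K ⧸ (P : Subgroup K))) ∧ (P : Subgroup K).index ∣ p - 1) ∨
    (IsSimpleGroup ↥(Cfsg.generalizedFittingSubgroup K) ∧ ¬ IsMulCommutative ↥(Cfsg.generalizedFittingSubgroup K) ∧
      ¬ p ∣ (Cfsg.generalizedFittingSubgroup K).index) := by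
  have hpp : p.Prime := Fact.out
  have hFp : Cfsg.fittingSubgroup K = Cfsg.pCore p K := fittingSubgroup_eq_pCore hO
  have hpCP : Cfsg.pCore p K ≤ P := by
    have := pCore_normal' (G := K) p
    exact (isPGroup_pCore' p).le_sylow_of_normal P
  by_cases hcomp : HasComponent K
  swap
  · left
    have hstar : Cfsg.generalizedFittingSubgroup K = Cfsg.pCore p K := by
      rw [(generalizedFittingSubgroup_eq_fittingSubgroup_iff).mpr hcomp, hFp]
    have hPc : (P : Subgroup K) ≤ centralizer ((P : Subgroup K) : Set K) := by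
      let _ := IsCyclic.commGroup (α := ↥(P : Subgroup K))
      intro x hx
      exact mem_centralizer_iff.mpr fun y hy =>
        congrArg Subtype.val (mul_comm (⟨y, hy⟩ : (P : Subgroup K)) ⟨x, hx⟩)
    have h1 : centralizer (Cfsg.pCore p K : Set K) ≤ Cfsg.pCore p K :=
      hstar ▸ centralizer_generalizedFittingSubgroup_le
    have hPU : (P : Subgroup K) = Cfsg.pCore p K :=
      le_antisymm ((hPc.trans (centralizer_le hpCP)).trans h1) hpCP
    have hn : (P : Subgroup K).Normal := hPU ▸ pCore_normal' p
    have hc : centralizer ((P : Subgroup K) : Set K) = P :=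
      le_antisymm ((centralizer_le hpCP).trans (h1.trans hpCP)) hPc
    exact ⟨hn, hc, fun _ => (normal_case P hP hn hc hp).1, (normal_case P hP hn hc hp).2⟩
  right
  obtain ⟨L, hL⟩ := hcomp
  -- the centre of a component is trivial
  have hZ : ∀ M : Subgroup K, IsComponent M → center ↥M = ⊥ := by
    intro M hM
    have : Group.IsPerfect M := hM.2.1
    obtain ⟨SM, hSM⟩ := (IsPGroup.of_bot (G := ↥M) (p := p)).exists_le_sylow
    have hZp : IsPGroup p ↥(center ↥M) := by
      refine IsPGroup.of_equiv ?_ ((center ↥M).equivMapOfInjective _ M.subtype_injective).symm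
      refine (isPGroup_pCore' p).to_le ?_
      rw [← hFp]
      have : Group.IsNilpotent (center ↥M) := by
        let _ : CommGroup (center ↥M) := IsMulCommutative.instCommGroup
        exact CommGroup.isNilpotent
      exact (map_mono (le_fittingSubgroup inferInstance)).trans
        (map_subtype_fittingSubgroup_le_of_isSubnormal hM.1)
    have hSc : IsMulCommutative (SM : Subgroup ↥M) := by
      obtain ⟨Q, hQ⟩ := (SM.isPGroup'.map M.subtype).exists_le_sylow
      have : IsCyclic Q := isCyclic_of_surjective (P.equiv Q).toMonoidHom (P.equiv Q).surjective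
      let _ := IsCyclic.commGroup (α := Q)
      exact ⟨⟨fun a b => Subtype.ext (Subtype.ext (congrArg Subtype.val
        (mul_comm (⟨_, hQ (mem_map_of_mem _ a.2)⟩ : Q) ⟨_, hQ (mem_map_of_mem _ b.2)⟩) :))⟩⟩
    have hZS : center ↥M ≤ SM := hZp.le_sylow_of_normal SM
    have h0 := Cfsg.Agent.Transfer.hall_inf_commutator_inf_center (SM : Subgroup ↥M)
      (Cfsg.Agent.Transfer.sylow_coprime SM)
    rw [Group.IsPerfect.commutator_eq_top, inf_top_eq, inf_eq_right.mpr hZS] at h0
    exact h0
  have hpM : ∀ M : Subgroup K, IsComponent M → ∃ a ∈ M, orderOf a = p := by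
    intro M hM
    obtain ⟨a, ha⟩ := exists_prime_orderOf_dvd_card' p (IsComponent.dvd_card hO hM)
    exact ⟨a, a.2, by rw [Subgroup.orderOf_coe]; exact ha⟩
  -- no element of order `p` centralises `L`
  have hno : ∀ b : K, orderOf b = p → b ∉ centralizer (L : Set K) := by
    intro b hb hc
    obtain ⟨a, haL, ha⟩ := hpM L hL
    have hbL : b ∈ L := zpowers_le.mpr haL
      (mem_zpowers_of_commute P hP ha hb (mem_centralizer_iff.mp hc a haL))
    have : (⟨b, hbL⟩ : L) ∈ center ↥L :=
      mem_center_iff.mpr fun y => Subtype.ext (mem_centralizer_iff.mp hc y y.2)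
    rw [hZ L hL, mem_bot] at this
    rw [show b = 1 from congrArg Subtype.val this, orderOf_one] at hb
    exact hpp.one_lt.ne hb
  have hlayer : Cfsg.layer K = L := by
    refine le_antisymm (sSup_le fun M hM => ?_) (IsComponent.le_layer hL)
    by_contra hne
    obtain ⟨b, hbM, hb⟩ := hpM M hM
    exact hno b hb (le_centralizer_of_commutator_eq_bot
      (IsComponent.commutator_eq_bot hM hL fun e => hne e.le) hbM)
  have hFbot : Cfsg.fittingSubgroup K = ⊥ := by
    rw [hFp]
    by_contra hne
    have := (nontrivial_iff_ne_bot _).mpr hne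
    obtain ⟨k, hk0, hk⟩ :=
      (IsPGroup.nontrivial_iff_card (isPGroup_pCore' (G := K) p)).mp inferInstance
    obtain ⟨b, hb⟩ := exists_prime_orderOf_dvd_card' (G := Cfsg.pCore p K) p
      (hk ▸ dvd_pow_self p hk0.ne')
    refine hno b (by rw [Subgroup.orderOf_coe]; exact hb) ?_
    have hFL : Cfsg.fittingSubgroup K ≤ centralizer (L : Set K) :=
      le_centralizer_of_commutator_eq_bot
        (commutator_eq_bot_symm (IsComponent.commutator_fittingSubgroup hL))
    exact hFL (hFp.ge b.2)
  have hstar : Cfsg.generalizedFittingSubgroup K = L := by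
    rw [Cfsg.generalizedFittingSubgroup, hlayer, hFbot, sup_bot_eq]
  have hLn : L.Normal := by rw [← hlayer]; infer_instance
  have hLne : Nontrivial L := IsQuasisimple.nontrivial hL.2
  have hLs : IsSimpleGroup L := ⟨fun M hM => by
    rcases IsQuasisimple.normal_eq_top_or_le_center hL.2 M with h | h
    · exact Or.inr h
    · exact Or.inl (le_bot_iff.mp (hZ L hL ▸ h))⟩
  rw [hstar]
  refine ⟨hLs, IsQuasisimple.not_isMulCommutative hL.2, ?_⟩
  set H := L ⊔ (P : Subgroup K) with hH
  let PH : Sylow p H := P.subtype le_sup_right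
  set L' := L.subgroupOf H with hL'
  have hPHc : IsCyclic PH := by
    have e := subgroupOfEquivOfLe (le_sup_right : (P : Subgroup K) ≤ H)
    exact isCyclic_of_surjective e.symm.toMonoidHom e.symm.surjective
  rcases Cfsg.Agent.Transfer.hasNormalPComplement_or_pResidual_eq_top_of_isCyclic PH hPHc with
    ⟨Q, D, hDn, hDc⟩ | hres
  · exfalso
    have hLe := subgroupOfEquivOfLe (le_sup_left : L ≤ H)
    have : IsSimpleGroup L' := by
      have : Nontrivial L' := hLe.symm.injective.nontrivial
      exact IsSimpleGroup.isSimpleGroup_of_surjective hLe.symm.toMonoidHom hLe.symm.surjective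
    have hidx : D.index = Nat.card (Q : Subgroup H) := (Subgroup.IsComplement'.symm hDc).index_eq_card
    have hcop : (Nat.card D).Coprime p := by
      have h1 : ¬ p ∣ (Q : Subgroup H).index := Q.not_dvd_index
      rw [Subgroup.IsComplement'.index_eq_card hDc] at h1
      exact (hpp.coprime_iff_not_dvd.mpr h1).symm
    rcases (inferInstance : (D.subgroupOf L').Normal).eq_bot_or_eq_top with h | h
    · let φ := (QuotientGroup.mk' D).comp L'.subtype
      have hinj : Function.Injective φ := by
        rw [← MonoidHom.ker_eq_bot_iff, ← MonoidHom.comap_ker, QuotientGroup.ker_mk']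
        exact h
      have hpq : IsPGroup p (H ⧸ D) := by
        obtain ⟨k, hk⟩ := IsPGroup.iff_card.mp Q.isPGroup'
        exact IsPGroup.of_card (n := k) (by rw [← index_eq_card, hidx, hk])
      have : Group.IsNilpotent L := (Group.isNilpotent_congr hLe).mp
        (hpq.of_injective φ hinj).isNilpotent
      exact IsQuasisimple.not_isSolvable hL.2 inferInstance
    · have h1 : p ∣ Nat.card D := by
        refine ((IsComponent.dvd_card hO hL).trans ?_).trans (card_dvd_of_le (subgroupOf_eq_top.mp h))
        rw [Nat.card_congr hLe.toEquiv]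
      exact hpp.coprime_iff_not_dvd.mp hcop.symm h1
  · have hle : Cfsg.pResidual p H ≤ (QuotientGroup.mk' L').ker := by
      rw [Cfsg.Agent.Transfer.pResidual_eq_residual]
      refine Cfsg.Agent.Transfer.residual_le_ker _ p fun x => ?_
      have hx : x ∈ L' ⊔ (PH : Subgroup H) := by
        rw [hL', Sylow.coe_subtype, ← subgroupOf_sup le_sup_left le_sup_right,
          subgroupOf_eq_top.mpr hH.le]
        exact mem_top x
      rw [mem_sup_of_normal_left] at hx
      obtain ⟨l, hl, y, hy, rfl⟩ := hx
      obtain ⟨k, hk⟩ := PH.isPGroup' ⟨y, hy⟩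
      refine ⟨k, ?_⟩
      rw [map_mul, show QuotientGroup.mk' L' l = 1 from (QuotientGroup.eq_one_iff l).mpr hl,
        one_mul, ← map_pow, show y ^ p ^ k = 1 from congrArg Subtype.val hk, map_one]
    rw [hres, QuotientGroup.ker_mk', top_le_iff, hL', subgroupOf_eq_top] at hle
    exact fun h => P.not_dvd_index (h.trans (index_dvd_of_le (le_sup_right.trans hle)))

end Cfsg.Agent.S4403
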