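import Cfsg.Statements.S4404
import Cfsg.Agent.Lib.CommSupport.Basic
import Cfsg.Agent.Lib.Solvable.Hall
import Cfsg.Agent.Lib.OddOrder.NarrowAut
import Cfsg.Agent.S0100
import Cfsg.Agent.S3771

set_option autoImplicit false
open Cfsg

namespace Cfsg.Agent.S4404

open Subgroup (centralizer normalizer zpowers)
open CommSupport
open scoped Pointwise

theorem mem_normalizer_of_map_eq {G : Type*} [Group G] {K : Subgroup G} {a : G}
    (h : K.map (MulAut.conj a).toMonoidHom = K) : a ∈ normalizer (K : Set G) := by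
  refine Subgroup.mem_normalizer_iff.2 fun k => ⟨fun hk => h.le ⟨k, hk, rfl⟩, fun hk => ?_⟩
  obtain ⟨w, hw, hwk⟩ := h.ge hk
  have hwk' : w = k := (MulAut.conj a).injective (by simpa using hwk)
  exact hwk' ▸ hw

theorem commutative_of_dvd_fortyFive {G : Type*} [Group G] [Finite G] (h : Nat.card G ∣ 45) (a b : G) :
    a * b = b * a := by
  haveI : Fact (Nat.Prime 3) := ⟨Nat.prime_three⟩
  haveI : Fact (Nat.Prime 5) := ⟨Nat.prime_five⟩
  have hn : ∀ (r : ℕ) [Fact r.Prime] (P : Sylow r G), (r = 3 ∨ r = 5) → (P : Subgroup G).Normal := by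
    intro r _ P hr
    haveI : Subsingleton (Sylow r G) := by
      rw [← Finite.card_le_one_iff_subsingleton]
      have h1 : Nat.card (Sylow r G) ∣ 45 := ((P.card_dvd_index).trans (P : Subgroup G).index_dvd_card).trans h
      have h2 : Nat.card (Sylow r G) ≡ 1 [MOD r] := card_sylow_modEq_one r G
      have h3 : ¬ r ∣ Nat.card (Sylow r G) := fun hd => by
        have : 1 % r = 0 := h2 ▸ (Nat.dvd_iff_mod_eq_zero.1 hd)
        rcases hr with rfl | rfl <;> simp at this
      have h4 : Nat.card (Sylow r G) ≤ 45 := Nat.le_of_dvd (by norm_num) h1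
      generalize Nat.card (Sylow r G) = n at h1 h2 h3 h4
      rcases hr with rfl | rfl <;>
      · unfold Nat.ModEq at h2
        interval_cases n <;> omega
    exact Sylow.normal_of_subsingleton P
  have hnil : Group.IsNilpotent G := by
    refine (Group.isNilpotent_of_finite_tfae (G := G)).out 3 0 |>.1 fun r hr' P => ?_
    haveI : Fact r.Prime := hr'
    by_cases hr : r ∣ Nat.card G
    · refine hn r P ?_
      have hd : r ∣ 3 * 3 * 5 := hr.trans h
      rcases (Fact.out : r.Prime).dvd_mul.1 hd with h' | h'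
      · rcases (Fact.out : r.Prime).dvd_mul.1 h' with h'' | h'' <;>
          exact Or.inl ((Nat.prime_dvd_prime_iff_eq Fact.out Nat.prime_three).1 h'')
      · exact Or.inr ((Nat.prime_dvd_prime_iff_eq Fact.out Nat.prime_five).1 h')
    · have hP : (P : Subgroup G) = ⊥ := by
        obtain ⟨i, hi⟩ := P.isPGroup'.exists_card_eq
        refine Subgroup.card_eq_one.1 ?_
        rcases Nat.eq_zero_or_pos i with h0 | h0
        · rw [hi, h0, pow_zero]
        · exact absurd ((dvd_pow_self r h0.ne').trans (hi ▸ (P : Subgroup G).card_subgroup_dvd_card)) hr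
      rw [hP]; infer_instance
  obtain ⟨e⟩ := (Group.isNilpotent_of_finite_tfae (G := G)).out 0 4 |>.1 hnil
  have hcomm : ∀ (r : (Nat.card G).primeFactors) (P : Sylow r G) (u v : P), u * v = v * u := by
    intro r P u v
    haveI : Fact (Nat.Prime r) := ⟨Nat.prime_of_mem_primeFactors r.2⟩
    obtain ⟨i, hi⟩ := P.isPGroup'.exists_card_eq
    have hd : (r : ℕ) ^ i ∣ 45 := hi ▸ ((P : Subgroup G).card_subgroup_dvd_card.trans h)
    have h2 : i ≤ 2 := by
      by_contra h2
      have h3 : (r : ℕ) ^ 3 ∣ 45 := (pow_dvd_pow _ (by omega)).trans hd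
      have h4 := Nat.le_of_dvd (by norm_num) h3
      have h5 : (r : ℕ) ≤ 3 := by
        by_contra h5
        have := Nat.pow_le_pow_left (show 4 ≤ (r : ℕ) by omega) 3
        omega
      have h6 := (Fact.out : Nat.Prime r).two_le
      generalize (r : ℕ) = q at h3 h5 h6
      interval_cases q <;> norm_num at h3
    interval_cases i
    · haveI : Subsingleton P := (Finite.card_le_one_iff_subsingleton).1 (by rw [hi, pow_zero])
      exact Subsingleton.elim _ _
    · haveI : IsCyclic P := isCyclic_of_prime_card (p := r) (by rw [hi, pow_one])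
      exact (IsCyclic.commutative (α := P)).is_comm.comm u v
    · exact IsPGroup.commutative_of_card_eq_prime_sq (p := r) hi u v
  apply e.symm.injective
  rw [map_mul, map_mul]
  funext r P
  exact hcomm r P _ _

theorem commutative_of_card_le_sq {G : Type*} [Group G] [Finite G] {r i : ℕ} [Fact r.Prime]
    (h : Nat.card G = r ^ i) (hi : i ≤ 2) (a b : G) : a * b = b * a := by
  interval_cases i
  · haveI : Subsingleton G := (Finite.card_le_one_iff_subsingleton).1 (by rw [h, pow_zero])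
    exact Subsingleton.elim _ _
  · haveI : IsCyclic G := isCyclic_of_prime_card (p := r) (by rw [h, pow_one])
    exact (IsCyclic.commutative (α := G)).is_comm.comm a b
  · exact IsPGroup.commutative_of_card_eq_prime_sq h a b

/-- Contrapositive of the rank statement: an `E_{r^3}` inside a subgroup `P` gives a `P`-normal one. -/
theorem exists_normal_cube {S : Type*} [Group S] [Finite S] {r : ℕ} [Fact r.Prime] (hr : r ≠ 2)
    (P : Sylow r S) {E : Subgroup S} (hE : Cfsg.IsElementaryAbelian r E) (hc : Nat.card E = r ^ 3) :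
    ∃ A : Subgroup S, A ≤ P ∧ Cfsg.IsElementaryAbelian r A ∧ Nat.card A = r ^ 3 ∧
      ∀ x ∈ (P : Subgroup S), ∀ a ∈ A, x * a * x⁻¹ ∈ A := by
  have hEp : IsPGroup r E := IsPGroup.of_card hc
  obtain ⟨Q, hQ⟩ := hEp.exists_le_sylow
  obtain ⟨g, hg⟩ := MulAction.exists_smul_eq S Q P
  set E' := E.map (MulAut.conj g).toMonoidHom with hE'
  have hE'P : E' ≤ P := by
    rintro _ ⟨a, ha, rfl⟩
    rw [← hg]
    exact ⟨a, hQ ha, rfl⟩
  have hE'c : Nat.card E' = r ^ 3 := by
    rw [hE', ← hc]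
    exact Nat.card_congr (Subgroup.equivMapOfInjective _ _ (MulAut.conj g).injective).symm.toEquiv
  have hcommE : ∀ a ∈ E', ∀ b ∈ E', a * b = b * a := by
    rintro _ ⟨a, ha, rfl⟩ _ ⟨b, hb, rfl⟩
    have hab : a * b = b * a := congrArg Subtype.val (hE.1.is_comm.comm (⟨a, ha⟩ : E) ⟨b, hb⟩)
    rw [← map_mul, ← map_mul, hab]
  have hexpE : ∀ a ∈ E', a ^ r = 1 := by
    rintro _ ⟨a, ha, rfl⟩
    rw [← map_pow, hE.2 a ha, map_one]
  by_contra hno
  have h := S0100.result hr P.isPGroup' (fun A hAn hAc hAe hA3 => hno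
    ⟨A.map (P : Subgroup S).subtype, Subgroup.map_subtype_le A,
      ⟨⟨⟨fun ⟨_, a, ha, rfl⟩ ⟨_, b, hb, rfl⟩ => Subtype.ext (congrArg (P : Subgroup S).subtype
        (congrArg Subtype.val (hAc.is_comm.comm (⟨a, ha⟩ : A) ⟨b, hb⟩)))⟩⟩, by
        rintro _ ⟨a, ha, rfl⟩
        rw [← map_pow, hAe a ha, map_one]⟩,
      by rw [Subgroup.card_map_of_injective (P : Subgroup S).subtype_injective]; exact hA3,
      by
        rintro x hx _ ⟨a, ha, rfl⟩
        exact ⟨⟨x, hx⟩ * a * ⟨x, hx⟩⁻¹, hAn.conj_mem a ha _, rfl⟩⟩)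
    (E'.subgroupOf P)
    ⟨⟨fun a b => Subtype.ext (Subtype.ext (hcommE _ a.2 _ b.2))⟩⟩
    (fun a ha => Subtype.ext (by simpa using hexpE _ ha))
  rw [Nat.card_congr (Subgroup.subgroupOfEquivOfLe hE'P).toEquiv, hE'c] at h
  have := (Nat.pow_le_pow_iff_right (Fact.out : r.Prime).one_lt).1 h
  omega

/-- A `p`-element, `p ≥ 5`, centralises a normal 3-subgroup of 3-rank at most 2. -/
theorem centralises_rankTwo {G : Type*} [Group G] [Finite G] (U : Subgroup G) [U.Normal]
    (hU : IsPGroup 3 U) (hr : Cfsg.PRankLE 3 2 U) {p : ℕ} [Fact p.Prime] (hp : 5 ≤ p) {a : G}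
    {b : ℕ} (ha : a ^ p ^ b = 1) : a ∈ centralizer (U : Set G) := by
  haveI : Fact (Nat.Prime 3) := ⟨Nat.prime_three⟩
  obtain ⟨D, hDn, hDU, hexp, -, hdet⟩ := OddOrder.exists_detecting_subgroup (p := 3) (by norm_num) U hU
  have hcop : (orderOf a).Coprime 3 :=
    Nat.Coprime.coprime_dvd_left (orderOf_dvd_of_pow_eq_one ha)
      (Nat.Coprime.pow_left _ ((Nat.coprime_primes Fact.out Nat.prime_three).2 (by omega)))
  have hA : IsPGroup p (zpowers a) := by
    obtain ⟨j, -, hj⟩ := (Nat.dvd_prime_pow (Fact.out : p.Prime)).1 (orderOf_dvd_of_pow_eq_one ha)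
    exact IsPGroup.of_card (n := j) (by rw [Nat.card_zpowers, hj])
  have hsmall : ∀ X : Subgroup G, X.Normal → IsPGroup 3 X → (Nat.card X ≤ 9 ∨
      (Nat.card X ≤ 27 ∧ X ⊓ centralizer ({a} : Set G) ≠ ⊥)) → X ≤ centralizer ({a} : Set G) := by
    intro X hX hX3 hc
    let act : MulAction (zpowers a) X :=
      { smul := fun u c => ⟨(u : G) * c * (u : G)⁻¹, hX.conj_mem c c.2 u⟩
        one_smul := fun c => by
          apply Subtype.ext
          show ((1 : zpowers a) : G) * c * ((1 : zpowers a) : G)⁻¹ = c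
          simp
        mul_smul := fun u v c => by
          apply Subtype.ext
          show ((u * v : zpowers a) : G) * c * ((u * v : zpowers a) : G)⁻¹ =
            (u : G) * ((v : G) * c * (v : G)⁻¹) * (u : G)⁻¹
          simp [mul_assoc] }
    set F := X ⊓ centralizer ({a} : Set G) with hF
    have hfix : Nat.card (MulAction.fixedPoints (zpowers a) X) = Nat.card F := by
      refine Nat.card_congr
        { toFun := fun c => ⟨(c : X), (c : X).2, Subgroup.mem_centralizer_singleton_iff.2 ?_⟩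
          invFun := fun c => ⟨⟨c, c.2.1⟩, fun u => Subtype.ext ?_⟩
          left_inv := fun c => rfl
          right_inv := fun c => rfl }
      · have h : (a : G) * ((c : X) : G) * a⁻¹ = ((c : X) : G) :=
          congrArg Subtype.val (c.2 ⟨a, Subgroup.mem_zpowers a⟩)
        exact (mul_inv_eq_iff_eq_mul.1 h).symm
      · show (u : G) * c * (u : G)⁻¹ = c
        obtain ⟨n, hn⟩ := Subgroup.mem_zpowers_iff.1 u.2
        have h : Commute a (c : G) := (Subgroup.mem_centralizer_singleton_iff.1 c.2.2).symm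
        rw [← hn, (h.zpow_left n).eq, mul_inv_cancel_right]
    have hmod := hA.card_modEq_card_fixedPoints X
    rw [hfix] at hmod
    obtain ⟨i, hi⟩ := (hX3.to_le (inf_le_left : F ≤ X)).exists_card_eq
    obtain ⟨j, hj⟩ := hX3.exists_card_eq
    have hij : i ≤ j := (Nat.pow_le_pow_iff_right (by norm_num : 1 < 3)).1
      (hi ▸ hj ▸ Subgroup.card_le_of_le inf_le_left)
    suffices hij' : i = j by
      have hFX : F = X := Subgroup.eq_of_le_of_card_ge inf_le_left (by rw [hi, hj, hij'])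
      exact fun c hc' => (hFX.ge hc').2
    rw [hi, hj] at hmod
    have hdvd : p ∣ 3 ^ j - 3 ^ i :=
      (Nat.modEq_iff_dvd' (Nat.pow_le_pow_right (by norm_num) hij)).1 hmod.symm
    have hp' := (Fact.out : p.Prime)
    rcases hc with hc | ⟨hc, hne⟩
    · have hj2 : j ≤ 2 := (Nat.pow_le_pow_iff_right (by norm_num : 1 < 3)).1 (hj ▸ hc)
      by_contra hne'
      have : 3 ^ j - 3 ^ i ∣ 2 ^ 3 * 3 := by interval_cases j <;> interval_cases i <;> first | omega | norm_num
      rcases hp'.dvd_mul.1 (hdvd.trans this) with h | h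
      · have := Nat.le_of_dvd (by norm_num) (hp'.dvd_of_dvd_pow h); omega
      · have := Nat.le_of_dvd (by norm_num) h; omega
    · have hj3 : j ≤ 3 := (Nat.pow_le_pow_iff_right (by norm_num : 1 < 3)).1 (hj ▸ hc)
      have hi1 : i ≠ 0 := fun h => hne (Subgroup.card_eq_one.1 (by rw [hi, h, pow_zero]))
      by_contra hne'
      have : 3 ^ j - 3 ^ i ∣ 2 ^ 3 * 3 ^ 2 := by
        interval_cases j <;> interval_cases i <;> first | omega | norm_num
      rcases hp'.dvd_mul.1 (hdvd.trans this) with h | h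
      · have := Nat.le_of_dvd (by norm_num) (hp'.dvd_of_dvd_pow h); omega
      · have := Nat.le_of_dvd (by norm_num) (hp'.dvd_of_dvd_pow h); omega
  have hD3 : IsPGroup 3 D := hU.to_le hDU
  have hrD : Cfsg.PRankLE 3 2 D := OddOrder.pRankLE_of_le hDU hr
  have h27 : Nat.card D ≤ 27 := S3771.result hD3 hrD fun e => Subtype.ext (hexp e e.2)
  refine hdet a hcop ?_
  by_cases h0 : ⁅D, D⁆ = ⊥
  · refine hsmall D hDn hD3 (Or.inl ?_)
    have h := OddOrder.card_le_sq_of_rankTwo hr hDU (PGroup.isElementaryAbelian_of_forall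
      (fun u hu v hv => commutatorElement_eq_one_iff_mul_comm.1 (Subgroup.mem_bot.1
        (h0 ▸ Subgroup.commutator_mem_commutator hu hv))) hexp)
    simpa using h
  · have hle : ⁅D, D⁆ ≤ D := D.commutator_le_self
    have hlt : ⁅D, D⁆ < D := Coprime.commutator_lt_of_isPGroup hD3 hD3 Subgroup.le_normalizer fun h => h0 (by
      rw [h, Subgroup.commutator_bot_left])
    haveI : (⁅D, D⁆ : Subgroup G).Normal := Subgroup.commutator_normal D D
    obtain ⟨i, hi⟩ := (hD3.to_le hle).exists_card_eq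
    have hlt' : Nat.card (⁅D, D⁆ : Subgroup G) < Nat.card D := lt_of_le_of_ne (Subgroup.card_le_of_le hle)
      fun h => hlt.ne (Subgroup.eq_of_le_of_card_ge hle h.ge)
    have hi2 : i ≤ 2 := by
      have h3 : i < 3 := (Nat.pow_lt_pow_iff_right (by norm_num : 1 < 3)).1
        (hi ▸ hlt'.trans_le (h27.trans (by norm_num : 27 ≤ 3 ^ 3)))
      omega
    have hD' := hsmall _ inferInstance (hD3.to_le hle) (Or.inl (by
      rw [hi]; exact (Nat.pow_le_pow_right (by norm_num) hi2).trans (by norm_num)))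
    refine hsmall D hDn hD3 (Or.inr ⟨h27, fun h => h0 (le_bot_iff.1 ?_)⟩)
    rw [← h]; exact le_inf hle hD'

section

variable {S : Type*} [Group S] [Finite S] {M : Subgroup S} [M.Normal]
  (hM : Cfsg.IsElementaryAbelian 2 M)

include hM

/-- Data of two elements `x`, `y` of an odd subgroup acting on `[x,M] [y,M]`. -/
theorem exists_image (T : Subgroup S) (hT : Odd (Nat.card T)) {x y : S} (hx : x ∈ T) (hy : y ∈ T) :
    ∃ (V : Subgroup S) (k : ℕ) (L : Subgroup S) (φ : L →* MulAut V),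
      V ≤ M ∧ cw M x ≤ V ∧ cw M y ≤ V ∧ Nat.card V = 2 ^ k ∧
      Nat.card V ≤ Nat.card (cw M x) * Nat.card (cw M y) ∧
      x ∈ L ∧ y ∈ L ∧ L ≤ T ∧
      (∀ (c : L) (v : V), ((φ c v : V) : S) = (c : S) * v * (c : S)⁻¹) ∧
      (∀ c : L, ∀ m ∈ M, (c : S) * m * (c : S)⁻¹ * m⁻¹ ∈ V) ∧
      (∀ c : L, φ c = 1 → (c : S) ∈ centralizer (M : Set S)) ∧
      Nat.card φ.range ∣ Nat.card T := by
  set V := cw M x ⊔ cw M y with hV
  have hVM : V ≤ M := sup_le (cw_le hM x) (cw_le hM y)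
  obtain ⟨K, hK⟩ := exists_modStab hM hVM
  have hmemK : ∀ z, cw M z ≤ V → z ∈ K := fun z hz =>
    (hK z).2 ⟨mem_normalizer_of_cw_le hM hz hVM, fun m hm => hz (d_mem_cw hM z hm)⟩
  set L := Subgroup.closure ({x, y} : Set S) with hL
  have hLK : L ≤ K := (Subgroup.closure_le _).2 (by
    rintro z (rfl | rfl)
    · exact hmemK _ le_sup_left
    · exact hmemK _ le_sup_right)
  have hLT : L ≤ T := (Subgroup.closure_le _).2 (by
    rintro z (rfl | rfl) <;> assumption)
  have hV2 : IsPGroup 2 V := fun v => ⟨1, Subtype.ext (by simpa using hM.2 _ (hVM v.2))⟩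
  obtain ⟨k, hk⟩ := hV2.exists_card_eq
  let ι : L →* normalizer (V : Set S) :=
    { toFun := fun c => ⟨c, ((hK c).1 (hLK c.2)).1⟩
      map_one' := rfl
      map_mul' := fun a b => rfl }
  refine ⟨V, k, L, V.normalizerMonoidHom.comp ι, hVM, le_sup_left, le_sup_right, hk, ?_,
    Subgroup.subset_closure (by simp), Subgroup.subset_closure (by simp), hLT, fun c v => rfl,
    fun c => ((hK c).1 (hLK c.2)).2, fun c hc => ?_, ?_⟩
  · have hn : cw M x ≤ normalizer (cw M y : Set S) := fun a ha => Subgroup.mem_normalizer_iff.2 fun b => by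
      have hb : ∀ b ∈ M, a * b * a⁻¹ = b := fun b hb => by
        rw [mcomm hM (cw_le hM x ha) hb, mul_inv_cancel_right]
      constructor
      · intro h; rwa [hb b (cw_le hM y h)]
      · intro h
        have hbM : b ∈ M := by
          have := (inferInstance : M.Normal).conj_mem _ (cw_le hM y h) a⁻¹
          simpa [mul_assoc] using this
        rwa [hb b hbM] at h
    have h := Subgroup.coe_mul_of_left_le_normalizer_right _ _ hn
    calc Nat.card V = Nat.card ((cw M x : Set S) * (cw M y : Set S) : Set S) := by rw [← h]; rfl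
      _ ≤ _ := Set.natCard_mul_le
  · refine mem_centralizer_of_modStab hM (hT.of_dvd_nat ?_) (fun v hv => ?_) ((hK c).1 (hLK c.2)).2
    · exact (Subgroup.orderOf_mk c.1 (hLT c.2)) ▸ orderOf_dvd_natCard (⟨c.1, hLT c.2⟩ : T)
    · have h := congrArg Subtype.val (DFunLike.congr_fun hc ⟨v, hv⟩)
      exact mul_inv_eq_iff_eq_mul.1 h
  · exact (Subgroup.card_range_dvd _).trans (Subgroup.card_dvd_of_le hLT)

theorem comm_of_image {V L : Subgroup S} {φ : L →* MulAut V}
    (hker : ∀ c : L, φ c = 1 → (c : S) ∈ centralizer (M : Set S))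
    (hab : ∀ a b : φ.range, a * b = b * a) {x y : S} (hx : x ∈ L) (hy : y ∈ L) :
    x⁻¹ * (y * x * y⁻¹) ∈ centralizer (M : Set S) := by
  refine hker (⟨x, hx⟩⁻¹ * (⟨y, hy⟩ * ⟨x, hx⟩ * ⟨y, hy⟩⁻¹)) ?_
  have h : φ ⟨y, hy⟩ * φ ⟨x, hx⟩ = φ ⟨x, hx⟩ * φ ⟨y, hy⟩ :=
    congrArg Subtype.val (hab ⟨_, ⟨_, rfl⟩⟩ ⟨_, ⟨_, rfl⟩⟩)
  simp only [map_mul, map_inv]
  rw [h]; group

/-- Two elements of an `r`-group with small supports commute on `M`. -/
theorem comm_of_pGroup {r : ℕ} [Fact r.Prime] (hr : r ≠ 2) (P : Subgroup S) (hP : IsPGroup r P)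
    {a : ℕ} (hbound : ∀ k, k ≤ 2 * a → ¬ r ^ 3 ∣ ∏ i : Fin k, (2 ^ k - 2 ^ (i : ℕ)))
    {x y : S} (hx : x ∈ P) (hy : y ∈ P) (hcx : Nat.card (cw M x) = 2 ^ a)
    (hcy : Nat.card (cw M y) = 2 ^ a) :
    x⁻¹ * (y * x * y⁻¹) ∈ centralizer (M : Set S) := by
  obtain ⟨e, he⟩ := hP.exists_card_eq
  have hodd : Odd (Nat.card P) := he ▸ ((Fact.out : r.Prime).odd_of_ne_two hr).pow
  obtain ⟨V, k, L, φ, hVM, -, -, hk, hle, hxL, hyL, -, -, -, hker, hdvd⟩ := exists_image hM P hodd hx hy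
  refine comm_of_image hM hker ?_ hxL hyL
  obtain ⟨i, -, hi⟩ := (Nat.dvd_prime_pow (Fact.out : r.Prime)).1 (he ▸ hdvd)
  refine commutative_of_card_le_sq hi ?_
  by_contra hi'
  have hk' : k ≤ 2 * a := by
    rw [hk, hcx, hcy, ← pow_add] at hle
    have := (Nat.pow_le_pow_iff_right (by norm_num : 1 < 2)).1 hle
    omega
  refine hbound k hk' ?_
  rw [← card_mulAut hM hVM hk]
  exact ((pow_dvd_pow r (by omega : 3 ≤ i)).trans (dvd_of_eq hi.symm)).trans (Subgroup.card_subgroup_dvd_card _)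

/-- An abelian subgroup normalised by `x` inside an `r`-group normalises `[x, M]`. -/
theorem le_normalizer_cw {r : ℕ} [Fact r.Prime] (hr : r ≠ 2) (P : Subgroup S) (hP : IsPGroup r P)
    {x : S} (hx : x ∈ P) {a : ℕ} (hcx : Nat.card (cw M x) = 2 ^ a) (hle : 2 ^ a ≤ r + 1)
    (hbound : ∀ k, k ≤ 2 * a → ¬ r ^ 3 ∣ ∏ i : Fin k, (2 ^ k - 2 ^ (i : ℕ)))
    (A : Subgroup S) (hAP : A ≤ P) (hAc : ∀ u ∈ A, ∀ v ∈ A, u * v = v * u)
    (hAx : ∀ u ∈ A, x * u * x⁻¹ ∈ A) : A ≤ normalizer (cw M x : Set S) := by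
  have hodd : ∀ u ∈ P, Odd (orderOf u) := fun u hu => by
    obtain ⟨e, he⟩ := hP.exists_card_eq
    refine Odd.of_dvd_nat (he ▸ ((Fact.out : r.Prime).odd_of_ne_two hr).pow) ?_
    exact (Subgroup.orderOf_mk u hu) ▸ orderOf_dvd_natCard (⟨u, hu⟩ : P)
  have hdich : ∀ y ∈ P, Nat.card (cw M y) = 2 ^ a →
      cw M y = cw M x ∨ ∀ w ∈ cw M x, y * w = w * y := by
    intro y hy hcy
    have hxn := mem_normalizer_of_commute hM (comm_of_pGroup hM hr P hP hbound hy hx hcy hcx)
    have hyn := mem_normalizer_of_commute hM (comm_of_pGroup hM hr P hP hbound hx hy hcx hcy)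
    set K := cw M x ⊓ cw M y with hK
    have hKinv : ∀ k ∈ K, ∀ n : ℤ, x ^ n * k * (x ^ n)⁻¹ ∈ K := fun k hk n =>
      ⟨(Subgroup.mem_normalizer_iff.1 (zpow_mem (self_mem_normalizer hM x) n) k).1 hk.1,
        (Subgroup.mem_normalizer_iff.1 (zpow_mem hxn n) k).1 hk.2⟩
    let act : MulAction (zpowers x) K :=
      { smul := fun u c => ⟨(u : S) * c * (u : S)⁻¹, by
          obtain ⟨n, hn⟩ := Subgroup.mem_zpowers_iff.1 u.2
          rw [← hn]; exact hKinv c c.2 n⟩
        one_smul := fun c => by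
          apply Subtype.ext
          show ((1 : zpowers x) : S) * c * ((1 : zpowers x) : S)⁻¹ = c
          simp
        mul_smul := fun u v c => by
          apply Subtype.ext
          show ((u * v : zpowers x) : S) * c * ((u * v : zpowers x) : S)⁻¹ =
            (u : S) * ((v : S) * c * (v : S)⁻¹) * (u : S)⁻¹
          simp [mul_assoc] }
    have hfix : Nat.card (MulAction.fixedPoints (zpowers x) K) = 1 := by
      refine Nat.card_eq_one_iff_exists.2 ⟨⟨1, fun u => Subtype.ext (show (u : S) * 1 * (u : S)⁻¹ = 1 by simp)⟩,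
        fun c => Subtype.ext (Subtype.ext ?_)⟩
      have h : x * ((c : K) : S) * x⁻¹ = ((c : K) : S) :=
        congrArg Subtype.val (c.2 ⟨x, Subgroup.mem_zpowers x⟩)
      exact eq_one_of_fixed hM (hodd x hx) (c : K).2.1 (mul_inv_eq_iff_eq_mul.1 h)
    have hmod := (hP.to_le (Subgroup.zpowers_le.2 hx)).card_modEq_card_fixedPoints K
    rw [hfix] at hmod
    have hKd : Nat.card K ∣ 2 ^ a := hcx ▸ Subgroup.card_dvd_of_le inf_le_left
    obtain ⟨j, hj, hKj⟩ := (Nat.dvd_prime_pow Nat.prime_two).1 hKd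
    rcases hj.lt_or_eq with hlt | rfl
    · right
      have hK1 : Nat.card K = 1 := by
        have h2 : 2 ^ j * 2 ≤ r + 1 := by
          rw [← pow_succ]; exact (Nat.pow_le_pow_right (by norm_num) hlt).trans hle
        have hpos : 0 < Nat.card K := Nat.card_pos
        have := (Fact.out : r.Prime).two_le
        have hr' : Nat.card K < r := by omega
        unfold Nat.ModEq at hmod
        rw [Nat.mod_eq_of_lt hr', Nat.mod_eq_of_lt (by omega : 1 < r)] at hmod
        exact hmod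
      intro w hw
      have hw' : y * w * y⁻¹ * w⁻¹ ∈ cw M x :=
        mul_mem ((Subgroup.mem_normalizer_iff.1 hyn w).1 hw) (inv_mem hw)
      have hmem : y * w * y⁻¹ * w⁻¹ ∈ K := ⟨hw', d_mem_cw hM y (cw_le hM x hw)⟩
      rw [Subgroup.card_eq_one.1 hK1, Subgroup.mem_bot, mul_inv_eq_one] at hmem
      exact mul_inv_eq_iff_eq_mul.1 hmem
    · left
      have h1 : K = cw M x := Subgroup.eq_of_le_of_card_ge inf_le_left (by rw [hcx, hKj])
      have h2 : K = cw M y := Subgroup.eq_of_le_of_card_ge inf_le_right (by rw [hcy, hKj])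
      exact h2.symm.trans h1
  intro u hu
  by_contra hun
  set y := u * x * u⁻¹ with hy
  set z := u * y * u⁻¹ with hz
  have hyP : y ∈ P := mul_mem (mul_mem (hAP hu) hx) (inv_mem (hAP hu))
  have hzP : z ∈ P := mul_mem (mul_mem (hAP hu) hyP) (inv_mem (hAP hu))
  have hcy : Nat.card (cw M y) = 2 ^ a := by rw [hy, card_cw_conj hM, hcx]
  have hcz : Nat.card (cw M z) = 2 ^ a := by rw [hz, card_cw_conj hM, hcy]
  rcases hdich y hyP hcy with h | hyW
  · exact hun (mem_normalizer_of_map_eq (by rw [map_cw hM, ← hy, h]))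
  have hyx : y * x⁻¹ ∈ A := by
    have := mul_mem hu (hAx u⁻¹ (inv_mem hu))
    simpa [hy, mul_assoc] using this
  have hzy : z * y⁻¹ = y * x⁻¹ := by
    have h := hAc u hu _ hyx
    calc z * y⁻¹ = u * (y * x⁻¹) * u⁻¹ := by rw [hz, hy]; group
      _ = _ := by rw [h, mul_inv_cancel_right]
  rcases hdich z hzP hcz with h | hzW
  · have h2 : u * u ∈ normalizer (cw M x : Set S) := mem_normalizer_of_map_eq (by
      rw [map_cw hM]
      have : u * u * x * (u * u)⁻¹ = z := by rw [hz, hy]; group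
      rw [this, h])
    obtain ⟨j, hj⟩ := hodd u (hAP hu)
    have hu' : (u * u) ^ (j + 1) = u := by
      rw [← pow_two, ← pow_mul, show 2 * (j + 1) = (2 * j + 1) + 1 by ring, pow_succ, ← hj,
        pow_orderOf_eq_one, one_mul]
    exact hun (hu' ▸ pow_mem h2 _)
  · have hW : ∀ w ∈ cw M x, w = 1 := fun w hw => by
      refine eq_one_of_fixed hM (hodd x hx) hw ?_
      have c1 : Commute y w := hyW w hw
      have c2 : Commute z w := hzW w hw
      have c3 : Commute (y * x⁻¹) w := hzy ▸ c2.mul_left c1.inv_left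
      have c4 : Commute x⁻¹ w := by
        have := c1.inv_left.mul_left c3
        simpa [← mul_assoc] using this
      exact (Commute.inv_left_iff.1 c4).eq
    have hbot : cw M x = ⊥ := (Subgroup.eq_bot_iff_forall _).2 hW
    have hy1 : cw M y = ⊥ := by rw [hy, ← map_cw hM, hbot, Subgroup.map_bot]
    exact hun (mem_normalizer_of_map_eq (by rw [map_cw hM, ← hy, hy1, hbot]))

omit [Finite S] [M.Normal] hM in
/-- An elementary abelian subgroup of order `r ^ 3` normalising `W` with `|Aut W|` having small `r`-part. -/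
theorem not_cyclic_inf [Finite S] {r : ℕ} [Fact r.Prime] {F W : Subgroup S}
    (hF : Cfsg.IsElementaryAbelian r F) (hFc : Nat.card F = r ^ 3) (hFW : F ≤ normalizer (W : Set S))
    (hW : ¬ r ^ 2 ∣ Nat.card (MulAut W)) {W₀ : Subgroup S} (hW₀ : W₀ ≤ W) :
    ¬ IsCyclic ↥(F ⊓ centralizer (W₀ : Set S)) := by
  intro hcyc
  let ι : F →* normalizer (W : Set S) := Subgroup.inclusion hFW
  set ψ := W.normalizerMonoidHom.comp ι with hψ
  have hker : ∀ c : F, ψ c = 1 → (c : S) ∈ centralizer (W₀ : Set S) := fun c hc =>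
    Subgroup.mem_centralizer_iff.2 fun v hv => by
      have h := congrArg Subtype.val (DFunLike.congr_fun hc ⟨v, hW₀ hv⟩)
      exact (mul_inv_eq_iff_eq_mul.1 h).symm
  let j : ψ.ker →* ↥(F ⊓ centralizer (W₀ : Set S)) :=
    { toFun := fun c => ⟨((c : F) : S), (c : F).2, hker c (MonoidHom.mem_ker.1 c.2)⟩
      map_one' := rfl
      map_mul' := fun a b => rfl }
  have hj : Function.Injective j := fun a b h => Subtype.ext (Subtype.ext
    (congrArg (fun t : ↥(F ⊓ centralizer (W₀ : Set S)) => (t : S)) h))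
  obtain ⟨g, hg⟩ := hcyc.exists_generator
  have hle : Nat.card ↥(F ⊓ centralizer (W₀ : Set S)) ≤ r := by
    rw [← orderOf_eq_card_of_forall_mem_zpowers hg]
    exact orderOf_le_of_pow_eq_one (Fact.out : r.Prime).pos (Subtype.ext (by simpa using hF.2 _ g.2.1))
  have hk : Nat.card ψ.ker ≤ r := (Nat.card_le_card_of_injective j hj).trans hle
  have hmul : Nat.card ψ.ker * Nat.card ψ.range = r ^ 3 := by
    rw [← hFc, ← Subgroup.index_ker, Subgroup.card_mul_index]
  obtain ⟨i, -, hi⟩ := (Nat.dvd_prime_pow (Fact.out : r.Prime)).1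
    (Dvd.intro_left _ hmul : Nat.card ψ.range ∣ r ^ 3)
  have hi1 : i ≤ 1 := by
    by_contra h
    exact hW ((pow_dvd_pow r (by omega : 2 ≤ i)).trans (hi ▸ Subgroup.card_subgroup_dvd_card ψ.range))
  have h3 : r ^ 3 ≤ r * r ^ 1 :=
    hmul ▸ Nat.mul_le_mul hk (hi ▸ Nat.pow_le_pow_right (Fact.out : r.Prime).pos hi1)
  have h4 : r ^ 3 ≤ r ^ 2 := h3.trans (by rw [pow_one, pow_two])
  have := (Nat.pow_le_pow_iff_right (Fact.out : r.Prime).one_lt).1 h4
  omega

omit hM [Finite S] [M.Normal] in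
theorem not_sq_dvd_six {r : ℕ} (hr : r.Prime) : ¬ r ^ 2 ∣ 6 := fun h => by
  have h1 := Nat.le_of_dvd (by norm_num) h
  have h2 := hr.two_le
  have h3 : r ≤ 2 := by nlinarith
  obtain rfl : r = 2 := by omega
  norm_num at h

theorem main_three {x : S} {e : ℕ} (hx : x ^ 3 ^ e = 1) (hcx : Nat.card (cw M x) = 4)
    {E : Subgroup S} (hE : Cfsg.IsElementaryAbelian 3 E) (hc : Nat.card E = 3 ^ 3) :
    ∃ (r : ℕ) (F : Subgroup S), r.Prime ∧ r ≠ 2 ∧ Cfsg.IsElementaryAbelian r F ∧ Nat.card ↥F = r ^ 3 ∧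
      ¬ IsCyclic ↥(F ⊓ centralizer (cw M x : Set S)) := by
  haveI : Fact (Nat.Prime 3) := ⟨Nat.prime_three⟩
  have hxp : IsPGroup 3 (zpowers x) := by
    obtain ⟨j, -, hj⟩ := (Nat.dvd_prime_pow Nat.prime_three).1 (orderOf_dvd_of_pow_eq_one hx)
    exact IsPGroup.of_card (n := j) (by rw [Nat.card_zpowers, hj])
  obtain ⟨P, hP⟩ := hxp.exists_le_sylow
  obtain ⟨A, hAP, hA, hAc, hAn⟩ := exists_normal_cube (by norm_num) P hE hc
  have hn := le_normalizer_cw hM (r := 3) (by norm_num) P P.isPGroup' (hP (Subgroup.mem_zpowers x))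
    (a := 2) (by simpa using hcx) (by norm_num) (fun k hk => aut_bound_three k hk) A hAP
    (fun u hu v hv => congrArg Subtype.val (hA.1.is_comm.comm (⟨u, hu⟩ : A) ⟨v, hv⟩))
    (fun u hu => hAn x (hP (Subgroup.mem_zpowers x)) u hu)
  refine ⟨3, A, Nat.prime_three, by norm_num, hA, hAc, not_cyclic_inf hA hAc hn ?_ le_rfl⟩
  rw [card_mulAut hM (cw_le hM x) (k := 2) (by simpa using hcx)]
  decide

theorem main_seven (H : Subgroup S) {a b : ℕ} (hH : Nat.card H = 3 ^ a * 7 ^ b)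
    {x y : S} (hx : x ∈ H) (hy : y ∈ H) (hcx : Nat.card (cw M x) = 4) (hcy : Nat.card (cw M y) = 4)
    (hnc : x⁻¹ * (y * x * y⁻¹) ∉ centralizer (M : Set S))
    {E : Subgroup S} (hE : Cfsg.IsElementaryAbelian 7 E) (hc : Nat.card E = 7 ^ 3) :
    ∃ (r : ℕ) (F : Subgroup S), r.Prime ∧ r ≠ 2 ∧ Cfsg.IsElementaryAbelian r F ∧ Nat.card ↥F = r ^ 3 ∧
      ¬ IsCyclic ↥(F ⊓ centralizer (cw M x : Set S)) := by
  haveI : Fact (Nat.Prime 3) := ⟨Nat.prime_three⟩
  haveI : Fact (Nat.Prime 7) := ⟨by norm_num⟩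
  have hodd : Odd (Nat.card H) := by
    rw [hH]; exact (Nat.odd_iff.2 (by norm_num)).pow.mul (Nat.odd_iff.2 (by norm_num)).pow
  obtain ⟨V, k, L, φ, hVM, hxV, hyV, hk, hVle, hxL, hyL, hLH, hφ, hmod, hker, hdvd⟩ :=
    exists_image hM H hodd hx hy
  have hk4 : k ≤ 4 := by
    rw [hk, hcx, hcy] at hVle
    exact (Nat.pow_le_pow_iff_right (by norm_num : 1 < 2)).1 (hVle.trans (by norm_num : 4 * 4 ≤ 2 ^ 4))
  have hm1 : Nat.card φ.range ∣ 20160 := by
    refine (Subgroup.card_subgroup_dvd_card φ.range).trans ?_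
    rw [card_mulAut hM hVM hk]; exact aut_dvd_twoPow k hk4
  have hm2 : Nat.card φ.range ∣ 3 ^ a * 7 ^ b := hH ▸ hdvd
  obtain ⟨i, j, hi, hj, hij⟩ : ∃ i j, i ≤ 2 ∧ j ≤ 1 ∧ Nat.card φ.range = 3 ^ i * 7 ^ j := by
    obtain ⟨d₁, d₂, hd₁, hd₂, hd⟩ := (Nat.dvd_mul).1 hm2
    obtain ⟨i, -, rfl⟩ := (Nat.dvd_prime_pow Nat.prime_three).1 hd₁
    obtain ⟨j, -, rfl⟩ := (Nat.dvd_prime_pow (Fact.out : Nat.Prime 7)).1 hd₂
    refine ⟨i, j, ?_, ?_, hd.symm⟩
    · by_contra h
      have : 3 ^ 3 ∣ 20160 :=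
        ((pow_dvd_pow 3 (by omega : 3 ≤ i)).trans (hd ▸ Dvd.intro _ rfl)).trans hm1
      norm_num at this
    · by_contra h
      have : 7 ^ 2 ∣ 20160 :=
        ((pow_dvd_pow 7 (by omega : 2 ≤ j)).trans (hd ▸ Dvd.intro_left _ rfl)).trans hm1
      norm_num at this
  have hj1 : j = 1 := by
    by_contra hj'
    obtain rfl : j = 0 := by omega
    refine hnc (comm_of_image hM hker (commutative_of_dvd_fortyFive ?_) hxL hyL)
    rw [hij]; interval_cases i <;> norm_num
  subst hj1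
  obtain ⟨⟨t₀, t, rfl⟩, ht⟩ := exists_prime_orderOf_dvd_card' (G := φ.range) 7
    (hij ▸ Dvd.intro_left _ rfl)
  have ht7 : orderOf (φ t) = 7 := by rw [← ht]; exact (Subgroup.orderOf_mk _ _).symm
  obtain ⟨q, hq0, hq1⟩ : ∃ q, q ≡ 0 [MOD 3 ^ a] ∧ q ≡ 1 [MOD 7] :=
    ⟨_, (Nat.chineseRemainder (Nat.Coprime.pow_left a (by norm_num : Nat.Coprime 3 7)) 0 1).2⟩
  set u := t ^ q with hu
  have hφu : φ u = φ t := by
    rw [hu, map_pow, ← pow_mod_orderOf, ht7, hq1, Nat.one_mod_eq_one.2 (by norm_num), pow_one]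
  have huS : (u : S) ^ 7 ^ b = 1 := by
    obtain ⟨q', rfl⟩ := (Nat.modEq_zero_iff_dvd.1 hq0)
    have h1 : (⟨(t : S), hLH t.2⟩ : H) ^ Nat.card H = 1 := pow_card_eq_one'
    have h2 : (t : S) ^ Nat.card H = 1 := by
      simpa only [SubmonoidClass.coe_pow, OneMemClass.coe_one] using congrArg Subtype.val h1
    rw [hu, SubmonoidClass.coe_pow, ← pow_mul,
      show 3 ^ a * q' * 7 ^ b = Nat.card H * q' by rw [hH]; ring, pow_mul, h2, one_pow]
  have hup : IsPGroup 7 (zpowers (u : S)) := by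
    obtain ⟨l, -, hl⟩ := (Nat.dvd_prime_pow (Fact.out : Nat.Prime 7)).1 (orderOf_dvd_of_pow_eq_one huS)
    exact IsPGroup.of_card (n := l) (by rw [Nat.card_zpowers, hl])
  have huodd : Odd (orderOf (u : S)) :=
    ((Nat.odd_iff.2 (by norm_num : 7 % 2 = 1)).pow).of_dvd_nat (orderOf_dvd_of_pow_eq_one huS)
  set U := cw M (u : S) with hU
  have hUV : U ≤ V := fun w hw => by
    obtain ⟨m, hm, rfl⟩ := (mem_cw hM).1 hw
    exact hmod u m hm
  -- the image of `u` generates a normal subgroup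
  have hnorm : ∀ c : L, φ c * φ u * (φ c)⁻¹ ∈ zpowers (φ u) := by
    intro c
    let g : φ.range := ⟨φ u, ⟨u, rfl⟩⟩
    have hgc : Nat.card (zpowers g) = 7 := by
      rw [Nat.card_zpowers, ← ht7, ← hφu]; exact Subgroup.orderOf_mk _ _
    obtain ⟨Q, hQ⟩ := (IsPGroup.of_card (n := 1) (by rw [hgc, pow_one]) : IsPGroup 7 (zpowers g)).exists_le_sylow
    haveI : Subsingleton (Sylow 7 φ.range) := by
      rw [← Finite.card_le_one_iff_subsingleton]
      have h2 : Nat.card (Sylow 7 φ.range) ≡ 1 [MOD 7] := card_sylow_modEq_one 7 φ.range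
      have h1 : Nat.card (Sylow 7 φ.range) ∣ 3 ^ i * 7 :=
        (Q.card_dvd_index.trans (Q : Subgroup φ.range).index_dvd_card).trans (by rw [hij, pow_one])
      have h4 : Nat.card (Sylow 7 φ.range) ≤ 63 := (Nat.le_of_dvd (by positivity) h1).trans (by
        interval_cases i <;> norm_num)
      generalize Nat.card (Sylow 7 φ.range) = n at h1 h2 h4
      unfold Nat.ModEq at h2
      have h5 : n ∣ 63 := h1.trans (by interval_cases i <;> norm_num)
      interval_cases n <;> omega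
    obtain ⟨l, hl⟩ := Q.isPGroup'.exists_card_eq
    have hl1 : l ≤ 1 := by
      by_contra h
      have h7 : 7 ^ 2 ∣ 63 := (pow_dvd_pow 7 (by omega : 2 ≤ l)).trans
        ((hl ▸ (Q : Subgroup φ.range).card_subgroup_dvd_card).trans (by
          rw [hij, pow_one]; interval_cases i <;> norm_num))
      norm_num at h7
    have hQeq : zpowers g = (Q : Subgroup φ.range) := Subgroup.eq_of_le_of_card_ge hQ (by
      rw [hgc, hl]; exact (Nat.pow_le_pow_right (by norm_num) hl1).trans (by norm_num))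
    haveI hQn : (Q : Subgroup φ.range).Normal := Sylow.normal_of_subsingleton Q
    have h := hQn.conj_mem g (hQ (Subgroup.mem_zpowers g)) ⟨φ c, ⟨c, rfl⟩⟩
    rw [← hQeq] at h
    obtain ⟨n, hn⟩ := Subgroup.mem_zpowers_iff.1 h
    exact Subgroup.mem_zpowers_iff.2 ⟨n, by simpa [g] using congrArg Subtype.val hn⟩
  obtain ⟨KU, hKU⟩ := exists_modStab hM (cw_le hM (u : S))
  have huKU : (u : S) ∈ KU := (hKU _).2 ⟨self_mem_normalizer hM _, fun m hm => d_mem_cw hM _ hm⟩
  have hLnU : ∀ c : L, (c : S) ∈ normalizer (U : Set S) := by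
    intro c
    obtain ⟨n, hn⟩ := Subgroup.mem_zpowers_iff.1 (hnorm c)
    refine mem_normalizer_of_map_eq (Subgroup.eq_of_le_of_card_ge ?_ ?_)
    · rw [hU, map_cw hM]
      intro w hw
      obtain ⟨m, hm, rfl⟩ := (mem_cw hM).1 hw
      set d : L := (u ^ n)⁻¹ * (c * u * c⁻¹) with hd
      have hd1 : φ d = 1 := by simp only [hd, map_mul, map_inv, map_zpow, hn]; group
      have hcu : (c : S) * u * (c : S)⁻¹ = (u : S) ^ n * d := by
        simp [hd, mul_assoc]
      have hdm : (d : S) * m * (d : S)⁻¹ = m := by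
        rw [← Subgroup.mem_centralizer_iff.1 (hker d hd1) m hm]; group
      have := ((hKU _).1 (zpow_mem huKU n)).2 m hm
      rw [hcu]
      convert this using 1
      calc (u : S) ^ n * d * m * ((u : S) ^ n * d)⁻¹ * m⁻¹
          = (u : S) ^ n * ((d : S) * m * (d : S)⁻¹) * ((u : S) ^ n)⁻¹ * m⁻¹ := by group
        _ = _ := by rw [hdm]
    · rw [hU, map_cw hM, card_cw_conj hM]
  have hfixU : ∀ w ∈ U, (u : S) * w = w * u → w = 1 := fun w hw h => eq_one_of_fixed hM huodd hw h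
  -- every element of V is a product of an element of U and a fixed point of u
  have hdec : ∀ v ∈ V, ∃ n ∈ U, (u : S) * (n⁻¹ * v) = n⁻¹ * v * u := by
    intro v hv
    obtain ⟨n, hn, hnv⟩ := exists_mem_cw_d hM huodd (d_mem_cw hM (u : S) (hVM hv))
    refine ⟨n, hn, ?_⟩
    have hnM := cw_le hM _ hn
    have h0 : (u : S) * (n⁻¹ * v) * (u : S)⁻¹ * (n⁻¹ * v)⁻¹ = 1 := by
      rw [d_mul hM (u : S) (M.inv_mem hnM) (hVM hv), minv hM hnM, hnv, ← pow_two,
        hM.2 _ (d_mem hM _ (hVM hv))]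
    have := congrArg (· * (n⁻¹ * v) * (u : S)) h0
    simpa [mul_assoc] using this
  let C : Subgroup S := V ⊓ centralizer ({(u : S)} : Set S)
  have hUC : U ⊓ C = ⊥ := (Subgroup.eq_bot_iff_forall _).2 fun w hw =>
    hfixU w hw.1 (Subgroup.mem_centralizer_singleton_iff.1 hw.2.2).symm
  have hne : U ≠ ⊥ := fun h => by
    have h1 : φ u = 1 := MulEquiv.ext fun v => Subtype.ext (by
      rw [hφ]
      have hm := d_mem_cw hM (u : S) (hVM v.2)
      rw [← hU, h, Subgroup.mem_bot, mul_inv_eq_one] at hm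
      simpa using hm)
    rw [hφu, ← orderOf_eq_one_iff, ht7] at h1
    norm_num at h1
  have hcU : Nat.card U = 8 := by
    let act : MulAction (zpowers (u : S)) U :=
      { smul := fun w c => ⟨(w : S) * c * (w : S)⁻¹, by
          obtain ⟨n, hn⟩ := Subgroup.mem_zpowers_iff.1 w.2
          rw [← hn]
          exact (Subgroup.mem_normalizer_iff.1 (zpow_mem (self_mem_normalizer hM _) n) c).1 c.2⟩
        one_smul := fun c => by
          apply Subtype.ext
          show ((1 : zpowers (u : S)) : S) * c * ((1 : zpowers (u : S)) : S)⁻¹ = c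
          simp
        mul_smul := fun w v c => by
          apply Subtype.ext
          show ((w * v : zpowers (u : S)) : S) * c * ((w * v : zpowers (u : S)) : S)⁻¹ =
            (w : S) * ((v : S) * c * (v : S)⁻¹) * (w : S)⁻¹
          simp [mul_assoc] }
    have hfix : Nat.card (MulAction.fixedPoints (zpowers (u : S)) U) = 1 := by
      refine Nat.card_eq_one_iff_exists.2 ⟨⟨1, fun w => Subtype.ext (show (w : S) * 1 * (w : S)⁻¹ = 1 by simp)⟩,
        fun c => Subtype.ext (Subtype.ext ?_)⟩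
      have h : (u : S) * ((c : U) : S) * (u : S)⁻¹ = ((c : U) : S) :=
        congrArg Subtype.val (c.2 ⟨u, Subgroup.mem_zpowers _⟩)
      exact hfixU _ (c : U).2 (mul_inv_eq_iff_eq_mul.1 h)
    have hm := hup.card_modEq_card_fixedPoints U
    rw [hfix] at hm
    obtain ⟨l, hl, hUl⟩ := (Nat.dvd_prime_pow Nat.prime_two).1 (hk ▸ Subgroup.card_dvd_of_le hUV)
    have hl0 : l ≠ 0 := fun h => hne (Subgroup.card_eq_one.1 (by rw [hUl, h, pow_zero]))
    rw [hUl] at hm ⊢
    unfold Nat.ModEq at hm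
    have hl4 : l ≤ 4 := hl.trans hk4
    interval_cases l <;> first | omega | rfl | (norm_num at hm)
  have hC : Nat.card C ≤ 2 := by
    let f : U × C → V := fun p => ⟨(p.1 : S) * p.2, mul_mem (hUV p.1.2) p.2.2.1⟩
    have hf : Function.Injective f := by
      rintro ⟨⟨a₁, ha₁⟩, ⟨c₁, hc₁⟩⟩ ⟨⟨a₂, ha₂⟩, ⟨c₂, hc₂⟩⟩ h
      have h' : a₁ * c₁ = a₂ * c₂ := congrArg Subtype.val h
      have h3 : a₂⁻¹ * a₁ = c₂ * c₁⁻¹ := by
        calc a₂⁻¹ * a₁ = a₂⁻¹ * (a₁ * c₁) * c₁⁻¹ := by group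
          _ = _ := by rw [h']; group
      have h4 : a₂⁻¹ * a₁ ∈ U ⊓ C := ⟨U.mul_mem (U.inv_mem ha₂) ha₁, h3 ▸ C.mul_mem hc₂ (C.inv_mem hc₁)⟩
      rw [hUC, Subgroup.mem_bot] at h4
      have ha : a₁ = a₂ := (inv_mul_eq_one.1 h4).symm
      subst ha
      obtain rfl : c₁ = c₂ := mul_left_cancel h'
      rfl
    have h := Nat.card_le_card_of_injective f hf
    rw [Nat.card_prod, hcU, hk] at h
    have : 2 ^ k ≤ 2 ^ 4 := Nat.pow_le_pow_right (by norm_num) hk4
    omega
  have hxC : ∀ c ∈ C, x * c = c * x := by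
    intro c hc
    by_cases hc1 : c = 1
    · rw [hc1]; simp
    set xL : L := ⟨x, hxL⟩
    obtain ⟨n, hn⟩ := Subgroup.mem_zpowers_iff.1 (hnorm xL⁻¹)
    have hcV : x * c * x⁻¹ ∈ V := by
      have := (φ xL ⟨c, hc.1⟩).2
      rwa [hφ] at this
    have hcc0 : Commute (u : S) c := (Subgroup.mem_centralizer_singleton_iff.1 hc.2).symm
    have hcc : Commute ((u : S) ^ n) c := hcc0.zpow_left n
    have hcu : (x⁻¹ * u * x) * c * (x⁻¹ * u * x)⁻¹ = c := by
      have h2 : φ (xL⁻¹ * u * xL) = φ (u ^ n) := by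
        rw [map_zpow, hn]; simp [map_mul, map_inv]
      have h3 := congrArg Subtype.val (DFunLike.congr_fun h2 ⟨c, hc.1⟩)
      rw [hφ, hφ] at h3
      simpa [hcc.eq, mul_assoc] using h3
    have hxc : x * c * x⁻¹ ∈ C := by
      refine ⟨hcV, Subgroup.mem_centralizer_singleton_iff.2 (Eq.symm ?_)⟩
      calc (u : S) * (x * c * x⁻¹) = x * ((x⁻¹ * u * x) * c * (x⁻¹ * u * x)⁻¹) * x⁻¹ * u := by group
        _ = _ := by rw [hcu]
    by_contra hne'
    have hne'' : x * c * x⁻¹ ≠ c := fun h => hne' (mul_inv_eq_iff_eq_mul.1 h)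
    have h1' : x * c * x⁻¹ ≠ 1 := fun h => hc1 (conj_eq_one_iff.1 h)
    classical
    haveI : Fintype C := Fintype.ofFinite _
    have := (Finset.card_le_univ ({⟨1, one_mem _⟩, ⟨c, hc⟩, ⟨_, hxc⟩} : Finset C))
    rw [Finset.card_eq_three.2 ⟨⟨1, one_mem _⟩, ⟨c, hc⟩, ⟨_, hxc⟩, fun h => hc1 (congrArg Subtype.val h).symm,
      fun h => h1' (congrArg Subtype.val h).symm, fun h => hne'' (congrArg Subtype.val h).symm, rfl⟩,
      ← Nat.card_eq_fintype_card] at this
    omega
  have hWU : cw M x ≤ U := by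
    intro w hw
    have hxodd : Odd (orderOf x) := hodd.of_dvd_nat
      ((Subgroup.orderOf_mk x hx) ▸ orderOf_dvd_natCard (⟨x, hx⟩ : H))
    obtain ⟨v, hv, rfl⟩ := exists_mem_cw_d hM hxodd hw
    obtain ⟨n, hn, hnf⟩ := hdec v (hxV hv)
    have hcC : n⁻¹ * v ∈ C := ⟨V.mul_mem (V.inv_mem (hUV hn)) (hxV hv),
      Subgroup.mem_centralizer_singleton_iff.2 hnf.symm⟩
    have hveq : v = n * (n⁻¹ * v) := by group
    rw [hveq, d_mul hM x (cw_le hM _ hn) (hVM hcC.1), hxC _ hcC, mul_inv_cancel_right, mul_inv_cancel, mul_one]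
    exact mul_mem ((Subgroup.mem_normalizer_iff.1 (hLnU ⟨x, hxL⟩) n).1 hn) (inv_mem hn)
  obtain ⟨P, hP⟩ := hup.exists_le_sylow
  obtain ⟨A, hAP, hA, hAc, hAn⟩ := exists_normal_cube (by norm_num) P hE hc
  have huP := hP (Subgroup.mem_zpowers (u : S))
  have hn := le_normalizer_cw hM (r := 7) (by norm_num) P P.isPGroup' huP
    (a := 3) (by simpa using hcU) (by norm_num) (fun k hk => aut_bound_seven k hk) A hAP
    (fun u' hu' v hv => congrArg Subtype.val (hA.1.is_comm.comm (⟨u', hu'⟩ : A) ⟨v, hv⟩))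
    (fun u' hu' => hAn _ huP u' hu')
  refine ⟨7, A, by norm_num, by norm_num, hA, hAc, not_cyclic_inf hA hAc hn ?_ hWU⟩
  rw [card_mulAut hM (hUV.trans hVM) (k := 3) (by simpa using hcU)]
  decide

end

/-- Let S be a finite solvable group and M a normal elementary abelian 2-subgroup of S. Suppose S contains an elementary abelian subgroup of order p³ for some odd prime p, and a cyclic 3-subgroup Q such that the cubes of the elements of Q centralize M and the commutator subgroup [Q, M] has order 4 (a four-group inside M). Then S contains an elementary abelian subgroup F of order r³, for some odd prime r, whose centralizer of [Q, M] in F — the subgroup C_F([Q, M]) — is not cyclic. -/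
theorem result {S : Type*} [Group S] [Finite S]
    [Group.IsSolvable S] (M : Subgroup S) [M.Normal] (hM : Cfsg.IsElementaryAbelian 2 M)
    (p : ℕ) (hp : p.Prime) (hp2 : p ≠ 2) (E : Subgroup S) (hE : Cfsg.IsElementaryAbelian p E) (hE3 : Nat.card ↥E = p ^ 3)
    (Q : Subgroup S) (hQc : IsCyclic ↥Q) (hQ3 : IsPGroup 3 ↥Q)
    (hQ1 : ∀ x ∈ Q, x ^ 3 ∈ Subgroup.centralizer (M : Set S)) (hQM : Nat.card ↥⁅Q, M⁆ = 4) :
    ∃ (r : ℕ) (F : Subgroup S), r.Prime ∧ r ≠ 2 ∧ Cfsg.IsElementaryAbelian r F ∧ Nat.card ↥F = r ^ 3 ∧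
      ¬ IsCyclic ↥(F ⊓ Subgroup.centralizer ((⁅Q, M⁆ : Subgroup S) : Set S)) := by
  haveI : Fact p.Prime := ⟨hp⟩
  haveI : Fact (Nat.Prime 3) := ⟨Nat.prime_three⟩
  obtain ⟨x, rfl⟩ := (Subgroup.isCyclic_iff_exists_zpowers_eq_top Q).1 hQc
  have hQeq : ⁅zpowers x, M⁆ = cw M x := by
    refine le_antisymm (Subgroup.commutator_le.2 fun q hq m hm => ?_) fun w hw => ?_
    · obtain ⟨K, hK⟩ := exists_modStab hM (cw_le hM x)
      have hxK : x ∈ K := (hK x).2 ⟨self_mem_normalizer hM x, fun m hm => d_mem_cw hM x hm⟩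
      exact ((hK q).1 ((Subgroup.zpowers_le.2 hxK) hq)).2 m hm
    · obtain ⟨m, hm, rfl⟩ := (mem_cw hM).1 hw
      exact Subgroup.commutator_mem_commutator (Subgroup.mem_zpowers x) hm
  rw [hQeq] at hQM ⊢
  obtain ⟨e, he⟩ := hQ3.exists_card_eq
  rw [Nat.card_zpowers] at he
  have hx : x ^ 3 ^ e = 1 := he ▸ pow_orderOf_eq_one x
  by_cases hno : ∃ B : Subgroup S, Cfsg.IsElementaryAbelian 3 B ∧ Nat.card B = 3 ^ 3
  · obtain ⟨B, hB, hBc⟩ := hno
    exact main_three hM hx hQM hB hBc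
  have hp3 : p ≠ 3 := by
    rintro rfl
    exact hno ⟨E, hE, hE3⟩
  have hp5 : 5 ≤ p := by
    by_contra h
    have := hp.two_le
    interval_cases p <;> first | omega | norm_num at hp
  have hcard : Nat.card S ≠ 0 := Nat.card_pos.ne'
  set a := (Nat.card S).factorization 3 with ha
  set b := (Nat.card S).factorization p with hb
  have hcop : Nat.Coprime (3 ^ a) (p ^ b) :=
    Nat.Coprime.pow _ _ ((Nat.coprime_primes Nat.prime_three hp).2 (Ne.symm hp3))
  obtain ⟨n, hn⟩ : 3 ^ a * p ^ b ∣ Nat.card S :=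
    hcop.mul_dvd_of_dvd_of_dvd (Nat.ordProj_dvd _ _) (Nat.ordProj_dvd _ _)
  have hmn : (3 ^ a * p ^ b).Coprime n := by
    refine Nat.Coprime.mul_left (Nat.Coprime.pow_left _ ?_) (Nat.Coprime.pow_left _ ?_)
    · refine Nat.prime_three.coprime_iff_not_dvd.2 fun h => ?_
      refine Nat.pow_succ_factorization_not_dvd hcard Nat.prime_three ?_
      conv_rhs => rw [hn]
      rw [pow_succ]
      exact Nat.mul_dvd_mul (Dvd.intro _ rfl) h
    · refine hp.coprime_iff_not_dvd.2 fun h => ?_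
      refine Nat.pow_succ_factorization_not_dvd hcard hp ?_
      conv_rhs => rw [hn]
      rw [pow_succ]
      exact Nat.mul_dvd_mul (Dvd.intro_left _ rfl) h
  obtain ⟨H, hH, hxH⟩ := Solvable.exists_hall_ge hn hmn (K := zpowers x) (by
    refine Nat.Coprime.coprime_dvd_left ?_ hmn
    rw [Nat.card_zpowers, he]
    refine Dvd.dvd.trans ?_ (Dvd.intro _ rfl)
    refine (pow_dvd_pow 3 ((hp |> fun _ => Nat.prime_three).pow_dvd_iff_le_factorization hcard |>.1 ?_))
    rw [← he, ← Nat.card_zpowers]; exact Subgroup.card_subgroup_dvd_card _)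
  replace hxH : x ∈ H := hxH (Subgroup.mem_zpowers x)
  obtain ⟨g, hg⟩ := Solvable.exists_le_conj_hall hn hmn hH (K := E) (by
    refine Nat.Coprime.coprime_dvd_left ?_ hmn
    rw [hE3]
    refine Dvd.dvd.trans ?_ (Dvd.intro_left _ rfl)
    refine pow_dvd_pow p ((hp.pow_dvd_iff_le_factorization hcard).1 ?_)
    rw [← hE3]; exact Subgroup.card_subgroup_dvd_card _)
  set F := E.map (MulAut.conj g⁻¹).toMonoidHom with hF
  have hFH : F ≤ H := by
    rintro _ ⟨c, hc, rfl⟩
    obtain ⟨h, hh, hgh⟩ := hg hc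
    rw [← hgh]
    simpa [mul_assoc] using hh
  have hFc : Nat.card F = p ^ 3 := by
    rw [hF, ← hE3]
    exact Nat.card_congr (Subgroup.equivMapOfInjective _ _ (MulAut.conj g⁻¹).injective).symm.toEquiv
  have hFe : Cfsg.IsElementaryAbelian p F := by
    refine ⟨⟨⟨fun ⟨_, c, hc, rfl⟩ ⟨_, d, hd, rfl⟩ => Subtype.ext ?_⟩⟩, ?_⟩
    · show _ * _ = _ * _
      have hcd : c * d = d * c := congrArg Subtype.val (hE.1.is_comm.comm (⟨c, hc⟩ : E) ⟨d, hd⟩)
      rw [← map_mul, ← map_mul, hcd]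
    · rintro _ ⟨c, hc, rfl⟩
      rw [← map_pow, hE.2 c hc, map_one]
  have hodd : Odd (Nat.card H) := by
    rw [hH]; exact (Nat.odd_iff.2 (by norm_num)).pow.mul (hp.odd_of_ne_two hp2).pow
  by_cases hcomm : ∀ h k : H, ((h : S) * x * (h : S)⁻¹)⁻¹ *
      (((k : S) * x * (k : S)⁻¹) * ((h : S) * x * (h : S)⁻¹) * ((k : S) * x * (k : S)⁻¹)⁻¹) ∈
        centralizer (M : Set S)
  · refine ⟨p, F, hp, hp2, hFe, hFc, not_cyclic_inf hFe hFc ?_ ?_ le_rfl⟩
    swap
    · rw [card_mulAut hM (cw_le hM x) (k := 2) (by simpa using hQM)]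
      exact not_sq_dvd_six hp
    set xH : H := ⟨x, hxH⟩ with hxHdef
    set N := Subgroup.normalClosure ({xH} : Set H) with hN
    have hNn : ∀ c : H, c ∈ N → (c : S) ∈ normalizer (cw M x : Set S) := by
      intro c hc
      have hle : N ≤ (normalizer (cw M x : Set S)).comap H.subtype := by
        refine (Subgroup.closure_le _).2 fun d hd => ?_
        obtain ⟨s, hs, hsd⟩ := Group.mem_conjugatesOfSet_iff.1 hd
        rw [Set.mem_singleton_iff] at hs
        subst hs
        obtain ⟨k, rfl⟩ := isConj_iff.1 hsd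
        have := hcomm 1 k
        simp only [OneMemClass.coe_one, one_mul, inv_one, mul_one] at this
        exact mem_normalizer_of_commute hM this
      exact hle hc
    have hxN : xH ∈ N := Subgroup.subset_normalClosure rfl
    set xN : N := ⟨xH, hxN⟩ with hxNdef
    have hxNp : IsPGroup 3 (zpowers xN) := IsPGroup.of_card (n := e) (by
      rw [Nat.card_zpowers, hxNdef, Subgroup.orderOf_mk, hxHdef, Subgroup.orderOf_mk, he])
    obtain ⟨R, hR⟩ := hxNp.exists_le_sylow
    set R₀ := (R : Subgroup N).map N.subtype with hR₀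
    have hxR : xH ∈ R₀ := ⟨xN, hR (Subgroup.mem_zpowers _), rfl⟩
    set U := R₀.subgroupOf (normalizer (R₀ : Set H)) with hUdef
    haveI : U.Normal := Subgroup.normal_in_normalizer
    have hU3 : IsPGroup 3 U :=
      (R.isPGroup'.map N.subtype).of_equiv (Subgroup.subgroupOfEquivOfLe Subgroup.le_normalizer).symm
    have hUr : Cfsg.PRankLE 3 2 U := by
      intro B hBc hBe
      by_contra hB
      obtain ⟨i, hi⟩ := (hU3.to_subgroup B).exists_card_eq
      have hi3 : 3 ≤ i := by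
        by_contra h
        exact hB (hi ▸ Nat.pow_le_pow_right (by norm_num) (by omega))
      obtain ⟨K, hK⟩ := Sylow.exists_subgroup_card_pow_prime (G := B) 3 (n := 3)
        (hi ▸ pow_dvd_pow 3 hi3)
      let f : B →* S := H.subtype.comp ((normalizer (R₀ : Set H)).subtype.comp (U.subtype.comp B.subtype))
      have hf : Function.Injective f := fun c d h =>
        Subtype.ext (Subtype.ext (Subtype.ext (Subtype.ext h)))
      refine hno ⟨K.map f, ⟨⟨⟨fun ⟨_, c, hc, rfl⟩ ⟨_, d, hd, rfl⟩ => Subtype.ext ?_⟩⟩, ?_⟩, ?_⟩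
      · show f c * f d = f d * f c
        rw [← map_mul, ← map_mul, hBc.is_comm.comm c d]
      · rintro _ ⟨c, hc, rfl⟩
        rw [← map_pow, show c ^ 3 = 1 from Subtype.ext (hBe c c.2), map_one]
      · rw [Subgroup.card_map_of_injective hf, hK]
    intro c hc
    set cH : H := ⟨c, hFH hc⟩ with hcH
    have hsup := Sylow.normalizer_sup_eq_top (N := N) R
    obtain ⟨t, ht, m, hm, htm⟩ := Subgroup.mem_sup_of_normal_right.1
      (hsup.ge (Subgroup.mem_top cH))
    obtain ⟨q, hq0, hq1⟩ : ∃ q, q ≡ 0 [MOD 3 ^ a] ∧ q ≡ 1 [MOD p] :=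
      ⟨_, (Nat.chineseRemainder (Nat.Coprime.pow_left a ((Nat.coprime_primes Nat.prime_three hp).2
        (Ne.symm hp3))) 0 1).2⟩
    have htp : (t ^ q) ^ p ^ b = 1 := by
      obtain ⟨q', rfl⟩ := Nat.modEq_zero_iff_dvd.1 hq0
      rw [← pow_mul, show 3 ^ a * q' * p ^ b = Nat.card H * q' by rw [hH]; ring, pow_mul,
        pow_card_eq_one', one_pow]
    have htq : t ^ q ∈ normalizer (R₀ : Set H) := pow_mem ht q
    have hcen := centralises_rankTwo U hU3 hUr hp5 (a := ⟨t ^ q, htq⟩) (b := b) (Subtype.ext htp)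
    have hcomx : t ^ q * xH = xH * t ^ q := by
      have := Subgroup.mem_centralizer_iff.1 hcen ⟨xH, Subgroup.le_normalizer hxR⟩
        (Subgroup.mem_subgroupOf.2 hxR)
      exact (congrArg Subtype.val this).symm
    have hquot : (QuotientGroup.mk' N) cH = (QuotientGroup.mk' N) (t ^ q) := by
      have h1 : (QuotientGroup.mk' N) cH = (QuotientGroup.mk' N) t := by
        rw [← htm, map_mul, (QuotientGroup.eq_one_iff m).2 hm |> fun h => (h : (QuotientGroup.mk' N) m = 1),
          mul_one]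
      have h2 : cH ^ p = 1 := Subtype.ext (by simpa [hcH] using hFe.2 c hc)
      rw [map_pow, ← h1, ← map_pow, ← pow_mod_orderOf cH q]
      have hd : orderOf cH ∣ p := orderOf_dvd_of_pow_eq_one h2
      have hqm : q % orderOf cH = 1 % orderOf cH := hq1.of_dvd hd
      rw [hqm, pow_mod_orderOf, pow_one]
    have hN' : (t ^ q)⁻¹ * cH ∈ N := QuotientGroup.eq.1 hquot.symm
    have h1 := hNn _ hN'
    have h2 : ((t ^ q : H) : S) ∈ normalizer (cw M x : Set S) := by
      refine mem_normalizer_of_map_eq ?_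
      rw [map_cw hM]
      have hh : ((t ^ q : H) : S) * x = x * ((t ^ q : H) : S) := congrArg Subtype.val hcomx
      rw [hh, mul_inv_cancel_right]
    have := mul_mem h2 h1
    simpa [hcH] using this
  · push_neg at hcomm
    obtain ⟨h, k, hhk⟩ := hcomm
    set y₁ := (h : S) * x * (h : S)⁻¹ with hy₁
    set y₂ := (k : S) * x * (k : S)⁻¹ with hy₂
    have hy₁H : y₁ ∈ H := mul_mem (mul_mem h.2 hxH) (inv_mem h.2)
    have hy₂H : y₂ ∈ H := mul_mem (mul_mem k.2 hxH) (inv_mem k.2)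
    have hc₁ : Nat.card (cw M y₁) = 4 := by rw [hy₁, card_cw_conj hM, hQM]
    have hc₂ : Nat.card (cw M y₂) = 4 := by rw [hy₂, card_cw_conj hM, hQM]
    obtain rfl : p = 7 := by
      by_contra hp7
      obtain ⟨V, k', L, φ, hVM, -, -, hk', hle, h1L, h2L, -, -, -, hker, hdvd⟩ :=
        exists_image hM H hodd hy₁H hy₂H
      refine hhk (comm_of_image hM hker (commutative_of_dvd_fortyFive ?_) h1L h2L)
      have hk4 : k' ≤ 4 := by
        rw [hk', hc₁, hc₂] at hle
        exact (Nat.pow_le_pow_iff_right (by norm_num : 1 < 2)).1 (hle.trans (by norm_num : 4 * 4 ≤ 2 ^ 4))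
      have hm1 : Nat.card φ.range ∣ 20160 := by
        refine (Subgroup.card_subgroup_dvd_card φ.range).trans ?_
        rw [card_mulAut hM hVM hk']; exact aut_dvd_twoPow k' hk4
      have hcop : (Nat.card φ.range).Coprime (2 ^ 6 * 7) := by
        refine Nat.Coprime.coprime_dvd_left (hH ▸ hdvd) ?_
        refine Nat.Coprime.mul_left (Nat.Coprime.pow_left _ (by norm_num)) (Nat.Coprime.pow_left _ ?_)
        exact Nat.Coprime.mul_right (Nat.Coprime.pow_right _ ((Nat.coprime_primes hp Nat.prime_two).2 hp2))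
          ((Nat.coprime_primes hp (by norm_num)).2 hp7)
      exact hcop.dvd_of_dvd_mul_left (by simpa using hm1)
    have hx' : (h : S)⁻¹ * (y₂ : S) * h ∈ H := mul_mem (mul_mem (inv_mem h.2) hy₂H) h.2
    have hcy : Nat.card (cw M ((h : S)⁻¹ * y₂ * h)) = 4 := by
      have := card_cw_conj hM (h : S)⁻¹ y₂
      rw [inv_inv] at this
      rw [this, hc₂]
    refine main_seven hM H hH hxH hx' hQM hcy (fun hcon => hhk ?_) hE hE3
    have hnorm : (centralizer (M : Set S)).Normal := Subgroup.normal_centralizer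
    have h3 := hnorm.conj_mem _ hcon (h : S)
    convert h3 using 1
    rw [hy₁, hy₂]
    group

end Cfsg.Agent.S4404
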