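import Cfsg.Statements.S4405
import Mathlib
import Cfsg.Agent.Lib.PGroup.Frattini
import Cfsg.Agent.Lib.Components.Fitting
import Cfsg.Agent.Lib.PCore.Basic
import Cfsg.Agent.Lib.Coprime.Basic

set_option autoImplicit false
open Cfsg

namespace Cfsg.Agent.S4405

open Subgroup

variable {G : Type*} [Group G] [Finite G]

theorem centralizer_in_H (H : Subgroup G) [H.Normal] (Z : Subgroup G) [Z.Normal]
    (hG : Nat.card G = 320) (h32 : Nat.card H = 32) (hZc : Nat.card Z = 2)
    (hHZ : H ⊓ centralizer (H : Set G) = Z) (hHF : Cfsg.fittingSubgroup G ≤ H)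
    (hZH : Z ≤ H) (hcomm : ∀ a ∈ H, ∀ b ∈ H, a * b * a⁻¹ * b⁻¹ ∈ Z)
    (hsq : ∀ a ∈ H, a ^ 2 ∈ Z) (hO2 : Cfsg.pCore 2 G ≤ H) {T : G} (hT : T ^ 2 = 1) (hTH : T ∉ H) :
    ∀ c ∈ H, c * T = T * c → c ^ 2 = 1 := by
  classical
  haveI := Fact.mk (Nat.prime_two)
  haveI h5 : Fact (Nat.Prime 5) := ⟨by norm_num⟩
  obtain ⟨d, hd⟩ := exists_prime_orderOf_dvd_card' (G := G) 5 (by rw [hG]; norm_num)
  have hcop : (Nat.card (zpowers d)).Coprime (Nat.card H) := by
    rw [Nat.card_zpowers, hd, h32]; norm_num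
  have hzc : ∀ a ∈ Z, ∀ g : G, g * a = a * g := by
    obtain ⟨z₀, z₁, -, huniv⟩ := Nat.card_eq_two_iff.1 hZc
    intro a ha g
    by_cases ha1 : a = 1
    · rw [ha1, mul_one, one_mul]
    have hconj := ‹Z.Normal›.conj_mem a ha g
    have key : ∀ x : Z, x = 1 ∨ x = ⟨a, ha⟩ := fun x => by
      have h1 : ∀ y : Z, y = z₀ ∨ y = z₁ := fun y => by
        have hm := Set.mem_univ y; rw [← huniv] at hm; simpa [Set.mem_insert_iff] using hm
      have hne : (⟨a, ha⟩ : Z) ≠ 1 := fun h => ha1 (congrArg Subtype.val h)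
      rcases h1 x with hx | hx <;> rcases h1 1 with h | h <;> rcases h1 ⟨a, ha⟩ with h' | h'
      all_goals first
        | exact Or.inl (hx.trans h.symm)
        | exact Or.inr (hx.trans h'.symm)
        | exact absurd (h'.trans h.symm) hne
    rcases key ⟨g * a * g⁻¹, hconj⟩ with h | h
    · exact absurd (conj_eq_one_iff.1 (congrArg Subtype.val h)) ha1
    · exact mul_inv_eq_iff_eq_mul.1 (congrArg Subtype.val h)
  -- `d` does not centralise `H` modulo `Z`
  have hdC : ¬ ∀ h ∈ H, d * h * d⁻¹ * h⁻¹ ∈ Z := by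
    intro hall
    have hdc : d ∈ centralizer (H : Set G) := by
      refine mem_centralizer_iff.2 fun h hh => ?_
      set z := d * h * d⁻¹ * h⁻¹ with hz
      have hz2 : z ^ 2 = 1 := by
        have := pow_card_eq_one' (x := (⟨z, hall h hh⟩ : Z))
        rw [hZc] at this
        exact congrArg Subtype.val this
      have hstep : ∀ k : ℕ, d ^ k * h * (d ^ k)⁻¹ = z ^ k * h := fun k => by
        induction k with
        | zero => simp
        | succ k ih =>
          calc d ^ (k + 1) * h * (d ^ (k + 1))⁻¹ = d * (d ^ k * h * (d ^ k)⁻¹) * d⁻¹ := by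
                rw [pow_succ']; group
            _ = (d * z ^ k * d⁻¹) * (d * h * d⁻¹) := by rw [ih]; group
            _ = z ^ k * (z * h) := by
                rw [hzc _ (pow_mem (hall h hh) k) d, mul_inv_cancel_right,
                  show z * h = d * h * d⁻¹ by rw [hz, inv_mul_cancel_right]]
            _ = z ^ (k + 1) * h := by rw [pow_succ, mul_assoc (z ^ k)]
      have h5' := hstep 5
      rw [← hd, pow_orderOf_eq_one, hd] at h5'
      simp only [one_mul, inv_one, mul_one] at h5'
      have hz5 : z ^ 5 = 1 := mul_eq_right.1 h5'.symm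
      have hz1 : z = 1 := by
        have h4 : z ^ 5 = (z ^ 2) ^ 2 * z := by group
        rwa [hz2, one_pow, one_mul, hz5, eq_comm] at h4
      rw [hz, mul_inv_eq_one, mul_inv_eq_iff_eq_mul] at hz1
      exact hz1.symm
    set C := centralizer (H : Set G) with hC
    haveI : C.Normal := inferInstance
    obtain ⟨S, hS⟩ : ∃ S : Sylow 5 C, True := ⟨default, trivial⟩
    have h5C : 5 ∣ Nat.card C := hd ▸ (by
      rw [← Subgroup.orderOf_mk d hdc]; exact orderOf_dvd_natCard _)
    have hdiv : Nat.card C ∣ 20 := by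
      have h1 : Nat.card C = Nat.card Z * (H.subgroupOf C).index := by
        rw [← card_mul_index (H.subgroupOf C)]
        congr 1
        rw [← hHZ, ← Coprime.card_subgroupOf (inf_le_right : H ⊓ C ≤ C), inf_subgroupOf_right]
      have h2 : H.relIndex C ∣ H.index := relIndex_dvd_index_of_normal H C
      have h3 : H.index = 10 := by
        have := card_mul_index H
        rw [hG, h32] at this
        omega
      rw [h1, hZc]
      rw [h3] at h2
      exact Nat.mul_dvd_mul_left 2 h2
    have hn5 : Nat.card (Sylow 5 C) = 1 := by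
      have h1 := card_sylow_modEq_one 5 C
      have h2 : Nat.card (Sylow 5 C) ∣ 20 := (S.card_dvd_index.trans (index_dvd_card _)).trans hdiv
      have h3 := Nat.le_of_dvd (by norm_num) h2
      generalize Nat.card (Sylow 5 C) = n at h1 h2 h3
      interval_cases n <;> first | rfl | (exfalso; revert h1 h2; decide)
    haveI : Subsingleton (Sylow 5 C) := (Nat.card_eq_one_iff_unique.1 hn5).1
    haveI : (S : Subgroup C).Normal := Sylow.normal_of_subsingleton S
    haveI : (S : Subgroup C).Characteristic := Sylow.characteristic_of_subsingleton S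
    have hN : ((S : Subgroup C).map C.subtype).Normal :=
      ConjAct.normal_of_characteristic_of_normal
    have : Group.IsNilpotent ((S : Subgroup C).map C.subtype) := (S.2.map _).isNilpotent
    have hle := (Cfsg.Agent.Components.le_fittingSubgroup hN).trans hHF
    have hcard := card_dvd_of_le hle
    rw [card_map_of_injective C.subtype_injective, h32] at hcard
    have h5S : 5 ∣ Nat.card S := S.dvd_card_of_dvd_card h5C
    exact absurd (h5S.trans hcard) (by norm_num)
  -- pass to the quotient by `Z`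
  set f := QuotientGroup.mk' Z with hf
  set V := H.map f with hV
  have hVn : V.Normal := ‹H.Normal›.map f (QuotientGroup.mk'_surjective _)
  have hVcard : Nat.card V = 16 := by
    have h1 := card_mul_index (Z.subgroupOf H)
    rw [Coprime.card_subgroupOf hZH, hZc, h32] at h1
    have h2 := relIndex_ker (K := H) f
    rw [hf, QuotientGroup.ker_mk'] at h2
    rw [hV, hf, ← h2]
    show (Z.subgroupOf H).index = 16
    omega
  have hVab : ∀ x ∈ V, ∀ y ∈ V, x * y = y * x := by
    rintro _ ⟨a, ha, rfl⟩ _ ⟨b, hb, rfl⟩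
    rw [← mul_inv_eq_one, mul_inv_rev, ← mul_assoc, ← map_inv, ← map_inv, ← map_mul, ← map_mul,
      ← map_mul]
    exact (QuotientGroup.eq_one_iff _).2 (hcomm a ha b hb)
  have hVsq : ∀ x ∈ V, x * x = 1 := by
    rintro _ ⟨a, ha, rfl⟩
    rw [← map_mul]
    exact (QuotientGroup.eq_one_iff _).2 (by rw [← sq]; exact hsq a ha)
  set t := f T with ht
  have htt : t * t = 1 := by rw [ht, ← map_mul, ← sq, hT, map_one]
  set e := f d with he
  -- fixed points of `e` on `V`
  have he1 : ∀ x ∈ V, e * x = x * e → x = 1 := by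
    intro x hx hxe
    let Φ : Subgroup (G ⧸ Z) := V ⊓ centralizer {e}
    have hdvd : Nat.card Φ ∣ 16 := hVcard ▸ card_dvd_of_le inf_le_left
    let act : MulAction (zpowers e) V :=
      { smul := fun a v => ⟨(a : G ⧸ Z) * v * (a : G ⧸ Z)⁻¹, hVn.conj_mem _ v.2 _⟩
        one_smul := fun v => Subtype.ext (by show ((1 : zpowers e) : G ⧸ Z) * _ * _ = _; simp)
        mul_smul := fun a b v => Subtype.ext (by
          show ((a * b : zpowers e) : G ⧸ Z) * (v : G ⧸ Z) * ((a * b : zpowers e) : G ⧸ Z)⁻¹ =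
            (a : G ⧸ Z) * ((b : G ⧸ Z) * v * (b : G ⧸ Z)⁻¹) * (a : G ⧸ Z)⁻¹
          simp [mul_assoc]) }
    have hp5 : IsPGroup 5 (zpowers e) := by
      obtain ⟨i, hi, hi'⟩ := (Nat.dvd_prime_pow h5.out).1
        (show orderOf e ∣ 5 ^ 1 by rw [pow_one, ← hd]; exact orderOf_map_dvd f d)
      exact IsPGroup.of_card (n := i) (by rw [Nat.card_zpowers, hi'])
    have hmod := hp5.card_modEq_card_fixedPoints V
    have hfix : Nat.card (MulAction.fixedPoints (zpowers e) V) = Nat.card Φ := by
      refine Nat.card_congr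
        { toFun := fun v => ⟨((v : V) : G ⧸ Z), (v : V).2, mem_centralizer_singleton_iff.2 ?_⟩
          invFun := fun v => ⟨⟨v, v.2.1⟩, fun a => Subtype.ext ?_⟩
          left_inv := fun v => rfl
          right_inv := fun v => rfl }
      · have := congrArg Subtype.val (v.2 ⟨e, mem_zpowers e⟩)
        exact (mul_inv_eq_iff_eq_mul.1 this).symm
      · obtain ⟨k, hk⟩ := mem_zpowers_iff.1 a.2
        show (a : G ⧸ Z) * (v : G ⧸ Z) * (a : G ⧸ Z)⁻¹ = v
        rw [← hk, (Commute.zpow_right (mem_centralizer_singleton_iff.1 v.2.2) k).symm.eq,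
          mul_inv_cancel_right]
    rw [hfix, hVcard] at hmod
    obtain ⟨i, hi, hi'⟩ := (Nat.dvd_prime_pow Nat.prime_two).1 (show Nat.card Φ ∣ 2 ^ 4 from hdvd)
    rw [hi'] at hmod
    interval_cases i
    · have hbot : Φ = ⊥ := Subgroup.card_eq_one.1 (by rw [hi']; norm_num)
      have : x ∈ Φ := ⟨hx, mem_centralizer_singleton_iff.2 hxe.symm⟩
      rw [hbot, mem_bot] at this
      exact this
    · exfalso; revert hmod; decide
    · exfalso; revert hmod; decide
    · exfalso; revert hmod; decide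
    · exfalso
      have htop : Φ = V := eq_of_le_of_card_ge inf_le_left (by rw [hi', hVcard]; norm_num)
      refine hdC fun h hh => (QuotientGroup.eq_one_iff _).1 ?_
      show f (d * h * d⁻¹ * h⁻¹) = 1
      have h1 : f h * e = e * f h :=
        mem_centralizer_singleton_iff.1 ((htop.ge (mem_map_of_mem f hh)).2)
      rw [map_mul, map_mul, map_mul, map_inv, map_inv, ← he, ← h1, mul_inv_cancel_right,
        mul_inv_cancel]
  -- `T` inverts `d` modulo `H`
  set π := QuotientGroup.mk' H with hπ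
  have hQ : Nat.card (G ⧸ H) = 10 := by
    have := card_mul_index H
    rw [hG, h32, index_eq_card] at this
    omega
  have hdH : d ∉ H := fun h => by
    have := Subgroup.orderOf_dvd_natCard H h
    rw [hd, h32] at this
    norm_num at this
  have hπd : orderOf (π d) = 5 := orderOf_eq_prime
    (by rw [← map_pow, ← hd, pow_orderOf_eq_one, map_one])
    (fun h => hdH ((QuotientGroup.eq_one_iff d).1 h))
  have hπT : π T ≠ 1 := fun h => hTH ((QuotientGroup.eq_one_iff T).1 h)
  have hidx : (zpowers (π d)).index = 2 := by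
    have := card_mul_index (zpowers (π d))
    rw [hQ, Nat.card_zpowers, hπd] at this
    omega
  have hnorm : (zpowers (π d)).Normal := normal_of_index_eq_two hidx
  obtain ⟨a, ha⟩ := mem_zpowers_iff.1 (hnorm.conj_mem _ (mem_zpowers (π d)) (π T))
  have hinv : (π T * π d * (π T)⁻¹) = (π d)⁻¹ := by
    rw [← ha]
    have h2 : π d = π d ^ (a * a) := by
      calc π d = π (T * T) * π d * (π (T * T))⁻¹ := by rw [← sq, hT]; simp
        _ = π T * (π T * π d * (π T)⁻¹) * (π T)⁻¹ := by rw [map_mul]; group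
        _ = π d ^ (a * a) := by rw [← ha, ← conj_zpow, ← ha, zpow_mul]
    have h3 : (5 : ℤ) ∣ a * a - 1 := by
      have h4 : π d ^ (a * a - 1) = 1 := by
        rw [zpow_sub, zpow_one, ← h2, mul_inv_cancel]
      have := orderOf_dvd_iff_zpow_eq_one.2 h4
      rw [hπd] at this
      exact_mod_cast this
    have hprod : (5 : ℤ) ∣ (a - 1) * (a + 1) := by
      rw [show (a - 1) * (a + 1) = a * a - 1 by ring]; exact h3
    rcases (Int.prime_iff_natAbs_prime.2 (by norm_num : Nat.Prime (5 : ℤ).natAbs)).dvd_or_dvd hprod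
      with h | h
    · -- centralising would give a normal subgroup of order 2 modulo `H`
      exfalso
      have hc : π T * π d * (π T)⁻¹ = π d := by
        rw [← ha]
        conv_rhs => rw [← zpow_one (π d)]
        rw [zpow_eq_zpow_iff_modEq, hπd]
        exact (Int.modEq_iff_dvd.2 h).symm
      have hTc : ∀ g : G ⧸ H, g * π T = π T * g := by
        have hle : zpowers (π d) ⊔ zpowers (π T) ≤ centralizer {π T} := sup_le
          (zpowers_le.2 (mem_centralizer_singleton_iff.2 (mul_inv_eq_iff_eq_mul.1 hc).symm))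
          (zpowers_le.2 (mem_centralizer_singleton_iff.2 rfl))
        have hTd : π T ∉ zpowers (π d) := fun hm => by
          have h1 := Subgroup.orderOf_dvd_natCard _ hm
          have h2 : orderOf (π T) = 2 := orderOf_eq_prime (by rw [← map_pow, hT, map_one]) hπT
          rw [Nat.card_zpowers, hπd, h2] at h1
          norm_num at h1
        have htop : zpowers (π d) ⊔ zpowers (π T) = ⊤ := by
          have h1 : (zpowers (π d) ⊔ zpowers (π T)).index ∣ 2 := hidx ▸ index_dvd_of_le le_sup_left
          rcases (Nat.dvd_prime Nat.prime_two).1 h1 with h2 | h2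
          · exact index_eq_one.1 h2
          · exfalso
            have h3 : zpowers (π d) = zpowers (π d) ⊔ zpowers (π T) := by
              refine eq_of_le_of_card_ge le_sup_left ?_
              have e1 := card_mul_index (zpowers (π d) ⊔ zpowers (π T))
              have e2 := card_mul_index (zpowers (π d))
              rw [h2] at e1; rw [hidx] at e2
              omega
            exact hTd (h3.ge (mem_sup_right (mem_zpowers _)))
        intro g
        exact mem_centralizer_singleton_iff.1 (hle (htop ▸ mem_top g))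
      have hn : (zpowers (π T)).Normal := ⟨fun x hx g => by
        obtain ⟨k, rfl⟩ := mem_zpowers_iff.1 hx
        rw [(Commute.zpow_right (hTc g) k).eq, mul_inv_cancel_right]
        exact zpow_mem (mem_zpowers _) k⟩
      haveI := hn.comap π
      have h2 : (zpowers (π T)).comap π ≤ Cfsg.pCore 2 G := by
        refine Cfsg.Agent.PCore.le_pCore (IsPGroup.of_card (n := 6) ?_)
        have h1 := relIndex_ker (K := (zpowers (π T)).comap π) π
        rw [hπ, QuotientGroup.ker_mk', ← hπ, map_comap_eq_self_of_surjective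
          (by exact QuotientGroup.mk'_surjective H), Nat.card_zpowers,
          orderOf_eq_prime (by rw [← map_pow, hT, map_one]) hπT] at h1
        have h2 := card_mul_index (H.subgroupOf ((zpowers (π T)).comap π))
        rw [Coprime.card_subgroupOf (QuotientGroup.le_comap_mk' H _), h32,
          show (H.subgroupOf ((zpowers (π T)).comap π)).index = 2 from h1] at h2
        omega
      exact hTH (hO2 (h2 (by exact mem_zpowers (π T))))
    · rw [← zpow_neg_one, zpow_eq_zpow_iff_modEq, hπd]
      refine (Int.modEq_iff_dvd.2 ?_).symm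
      simpa using h
  -- the fixed space of `t` on `V`
  let K : Subgroup (G ⧸ Z) := V ⊓ centralizer {t}
  let K' : Subgroup (G ⧸ Z) := K.map (MulAut.conj e).toMonoidHom
  have hK'V : K' ≤ V := by
    rintro _ ⟨x, hx, rfl⟩
    exact hVn.conj_mem x hx.1 e
  obtain ⟨h₀, hh₀, hprod⟩ : ∃ h₀ ∈ H, d * T * d⁻¹ * T = d * d * h₀ := by
    refine ⟨(d * d)⁻¹ * (d * T * d⁻¹ * T), (QuotientGroup.eq_one_iff _).1 ?_, by group⟩
    show π _ = 1
    have hTi : π T = (π T)⁻¹ := eq_inv_of_mul_eq_one_left (by rw [← map_mul, ← sq, hT, map_one])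
    have h4 : π T * (π d)⁻¹ * (π T)⁻¹ = π d := by
      calc π T * (π d)⁻¹ * (π T)⁻¹ = (π T * π d * (π T)⁻¹)⁻¹ := by group
        _ = π d := by rw [hinv, inv_inv]
    simp only [map_mul, map_inv]
    calc (π d * π d)⁻¹ * (π d * π T * (π d)⁻¹ * π T)
        = (π d * π d)⁻¹ * (π d * (π T * (π d)⁻¹ * π T)) := by group
      _ = 1 := by
          nth_rewrite 2 [hTi]
          rw [h4, inv_mul_cancel]
  have hKK : K ⊓ K' = ⊥ := by
    refine (Subgroup.eq_bot_iff_forall _).2 fun x hx => ?_
    obtain ⟨⟨hxV, hxt⟩, hx'⟩ := hx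
    obtain ⟨y, ⟨-, hyt⟩, hyx⟩ := hx'
    have c1 : Commute t x := (mem_centralizer_singleton_iff.1 hxt).symm
    have c2 : Commute (e * t * e⁻¹) x := by
      rw [← hyx]
      show Commute (e * t * e⁻¹) (e * y * e⁻¹)
      have : Commute t y := (mem_centralizer_singleton_iff.1 hyt).symm
      exact (Commute.conj_iff e).2 this
    have c3 : Commute (e * e * f h₀) x := by
      have hE : e * t * e⁻¹ * t = e * e * f h₀ := by
        rw [he, ht, ← map_inv, ← map_mul, ← map_mul, ← map_mul, ← map_mul, ← map_mul, hprod]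
      rw [← hE]; exact c2.mul_left c1
    have c4 : Commute (f h₀) x := hVab _ (mem_map_of_mem f hh₀) x hxV
    have c5 : Commute (e * e) x := by
      have := c3.mul_left c4.inv_left
      rwa [mul_inv_cancel_right] at this
    refine he1 x hxV ?_
    have he6 : e = (e * e) ^ 3 := by
      have : e ^ 5 = 1 := by rw [he, ← map_pow, ← hd, pow_orderOf_eq_one, map_one]
      calc e = e ^ 5 * e := by rw [this, one_mul]
        _ = (e * e) ^ 3 := by rw [← sq, ← pow_mul, ← pow_succ]
    rw [he6]
    exact (c5.pow_left 3).eq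
  haveI hVc : IsMulCommutative V := ⟨⟨fun a b => Subtype.ext (hVab a a.2 b b.2)⟩⟩
  have hKcard : Nat.card K * Nat.card K ≤ 16 := by
    have hnK : K ≤ normalizer (K' : Set (G ⧸ Z)) := by
      intro x hx
      rw [mem_normalizer_iff]
      intro y
      constructor
      · intro hy
        rwa [hVab x hx.1 y (hK'V hy), mul_inv_cancel_right]
      · intro hy
        have hy' := hK'V hy
        have h1 : x⁻¹ * (x * y * x⁻¹) * x = y := by group
        have h2 := hVab x⁻¹ (inv_mem hx.1) (x * y * x⁻¹) hy'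
        rw [← h1, h2, inv_mul_cancel_right]
        exact hy
    have h := Coprime.card_sup_of_le_normalizer hnK hKK
    have hKc : Nat.card K' = Nat.card K := card_map_of_injective (MulEquiv.injective _)
    rw [hKc] at h
    rw [← h, ← hVcard]
    exact card_le_of_le (sup_le inf_le_left hK'V)
  -- the image of `h ↦ h hᵀ`
  open scoped IsMulCommutative in
  let φ : V →* V := MonoidHom.mk' (fun v => v * ⟨t * v * t⁻¹, hVn.conj_mem _ v.2 t⟩) fun a b => by
    have : (⟨t * (a * b : V) * t⁻¹, hVn.conj_mem _ (a * b : V).2 t⟩ : V) =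
        ⟨t * a * t⁻¹, hVn.conj_mem _ a.2 t⟩ * ⟨t * b * t⁻¹, hVn.conj_mem _ b.2 t⟩ :=
      Subtype.ext (by simp [mul_assoc])
    rw [this]
    exact mul_mul_mul_comm _ _ _ _
  have hti : t⁻¹ = t := (eq_inv_of_mul_eq_one_left htt).symm
  have hker : φ.ker ≤ K.subgroupOf V := by
    intro v hv
    have h1 : (v : G ⧸ Z) * (t * v * t⁻¹) = 1 := congrArg Subtype.val hv
    refine ⟨v.2, mem_centralizer_singleton_iff.2 ?_⟩
    have h2 : t * (v : G ⧸ Z) * t⁻¹ = v := by
      rw [eq_inv_of_mul_eq_one_right h1]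
      exact (eq_inv_of_mul_eq_one_left (hVsq v v.2)).symm
    exact (mul_inv_eq_iff_eq_mul.1 h2).symm
  have hrange : φ.range.map V.subtype = K := by
    have hle : φ.range.map V.subtype ≤ K := by
      rintro _ ⟨_, ⟨v, rfl⟩, rfl⟩
      refine ⟨(φ v).2, mem_centralizer_singleton_iff.2 ?_⟩
      show (v : G ⧸ Z) * (t * v * t⁻¹) * t = t * ((v : G ⧸ Z) * (t * v * t⁻¹))
      have hw := hVab v v.2 _ (hVn.conj_mem _ v.2 t)
      rw [hti] at hw ⊢
      calc (v : G ⧸ Z) * (t * v * t) * t = t * v * t * v * t := by rw [hw]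
        _ = t * ((v : G ⧸ Z) * (t * v * t)) := by group
    refine eq_of_le_of_card_ge hle ?_
    rw [card_map_of_injective V.subtype_injective]
    have h1 := card_mul_index φ.ker
    rw [Subgroup.index_ker, hVcard] at h1
    have h2 : Nat.card φ.ker ≤ Nat.card K :=
      (card_le_of_le hker).trans (Coprime.card_subgroupOf (inf_le_left : K ≤ V)).le
    have hrc : 0 < Nat.card φ.range := Nat.card_pos
    by_contra hlt
    push Not at hlt
    have : Nat.card φ.ker * Nat.card φ.range < Nat.card K * Nat.card K :=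
      lt_of_le_of_lt (Nat.mul_le_mul_right _ h2) (Nat.mul_lt_mul_of_pos_left hlt Nat.card_pos)
    omega
  intro c hc hcT
  have hfc : f c ∈ K := ⟨mem_map_of_mem f hc, mem_centralizer_singleton_iff.2 (by
    rw [ht, ← map_mul, hcT, map_mul])⟩
  rw [← hrange] at hfc
  obtain ⟨_, ⟨⟨v, hvV⟩, rfl⟩, hvc⟩ := hfc
  obtain ⟨h, hh, rfl⟩ := hvV
  set h' := T * h * T⁻¹ with hh'
  obtain ⟨z, hz, hcz⟩ : ∃ z ∈ Z, c = h * h' * z := by
    refine ⟨(h * h')⁻¹ * c, (QuotientGroup.eq_one_iff _).1 ?_, by group⟩
    show f ((h * h')⁻¹ * c) = 1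
    have h1 : f h * (t * f h * t⁻¹) = f c := hvc
    simp only [map_mul, map_inv, hh']
    rw [← ht, h1, inv_mul_cancel]
  have hTi : T⁻¹ = T := (eq_inv_of_mul_eq_one_left (by rw [← sq, hT])).symm
  have hT' : T * h' * T⁻¹ = h := by
    rw [hh', hTi]
    calc T * (T * h * T) * T = (T * T) * h * (T * T) := by simp only [mul_assoc]
      _ = h := by rw [← sq, hT, one_mul, mul_one]
  have hh'H : h' ∈ H := ‹H.Normal›.conj_mem h hh T
  have hcm : h * h' = h' * h := by
    have h1 : T * c * T⁻¹ = c := by rw [← hcT, mul_inv_cancel_right]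
    have h2 : T * (h * h' * z) * T⁻¹ = (T * h * T⁻¹) * (T * h' * T⁻¹) * (T * z * T⁻¹) := by group
    rw [hcz, h2, hT', ← hh', hzc z hz T, mul_inv_cancel_right] at h1
    exact (mul_right_cancel h1).symm
  have hsame : h' * h' = h * h := by
    have h3 : h' * h' = T * (h * h) * T⁻¹ := by rw [hh']; group
    rw [h3, hzc _ (by rw [← sq]; exact hsq h hh) T, mul_inv_cancel_right]
  have hzz : ∀ w ∈ Z, w ^ 2 = 1 := fun w hw => by
    have := pow_card_eq_one' (x := (⟨w, hw⟩ : Z))
    rw [hZc] at this
    exact congrArg Subtype.val this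
  rw [hcz, Commute.mul_pow (hzc z hz (h * h')), hzz z hz, mul_one, Commute.mul_pow hcm, sq h', hsame,
    ← sq]
  exact (sq (h ^ 2)).symm.trans (hzz _ (hsq h hh))


/-- Let G be a finite group of order 320 = 64·5 whose largest normal 2-subgroup H = O₂(G) equals the Fitting subgroup F(G) and is extraspecial of order 32 containing no elementary abelian subgroup of order 8 (so H is the central product of a quaternion group and a dihedral group of order 8). If T is an involution of G outside H whose centralizer in H contains an elementary abelian subgroup of order 4, then C_H(T) itself is elementary abelian of order 4. -/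
theorem result {G : Type*} [Group G] [Finite G]
    (hG : Nat.card G = 320) (hHF : Cfsg.pCore 2 G = Cfsg.fittingSubgroup G)
    (hex : Cfsg.IsExtraspecial 2 ↥(Cfsg.pCore 2 G)) (h32 : Nat.card ↥(Cfsg.pCore 2 G) = 32)
    (hminus : ∀ A : Subgroup G, A ≤ Cfsg.pCore 2 G → Cfsg.IsElementaryAbelian 2 A → Nat.card ↥A ≤ 4)
    (T : G) (hT : orderOf T = 2) (hTH : T ∉ Cfsg.pCore 2 G)
    (V : Subgroup G) (hV : V ≤ Cfsg.pCore 2 G ⊓ Subgroup.centralizer ({T} : Set G)) (hV4 : Nat.card ↥V = 4) (hVe : Cfsg.IsElementaryAbelian 2 V) :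
    Nat.card ↥(Cfsg.pCore 2 G ⊓ Subgroup.centralizer ({T} : Set G)) = 4 ∧
      Cfsg.IsElementaryAbelian 2 (Cfsg.pCore 2 G ⊓ Subgroup.centralizer ({T} : Set G)) := by
  haveI := Fact.mk (Nat.prime_two)
  set H := Cfsg.pCore 2 G with hH
  haveI hHn : H.Normal := by rw [hHF]; exact Cfsg.Agent.Components.fittingSubgroup_normal G
  obtain ⟨⟨hP, hfr, hcom⟩, hc2⟩ := hex
  set Z := (Subgroup.center H).map H.subtype with hZ
  haveI : Z.Normal := ConjAct.normal_of_characteristic_of_normal
  have hZc : Nat.card Z = 2 := by rw [hZ, Subgroup.card_map_of_injective H.subtype_injective, hc2]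
  have hHZ : H ⊓ Subgroup.centralizer (H : Set G) = Z := by
    ext x
    constructor
    · rintro ⟨hx, hx'⟩
      exact ⟨⟨x, hx⟩, Subgroup.mem_center_iff.2 fun y => Subtype.ext (hx' y y.2), rfl⟩
    · rintro ⟨y, hy, rfl⟩
      exact ⟨y.2, fun w hw => congrArg Subtype.val (Subgroup.mem_center_iff.1 hy ⟨w, hw⟩)⟩
  have key := centralizer_in_H H Z hG h32 hZc hHZ hHF.ge (Subgroup.map_subtype_le _)
    (fun a ha b hb => ⟨(⟨a, ha⟩ : H) * ⟨b, hb⟩ * (⟨a, ha⟩ : H)⁻¹ * (⟨b, hb⟩ : H)⁻¹, hcom.le
      (Subgroup.commutator_mem_commutator (Subgroup.mem_top _) (Subgroup.mem_top _)), rfl⟩)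
    (fun a ha => ⟨(⟨a, ha⟩ : H) ^ 2, hfr.le (Cfsg.Agent.PGroup.pow_mem_frattini hP _), rfl⟩)
    le_rfl (hT ▸ pow_orderOf_eq_one T) hTH
  set C := H ⊓ Subgroup.centralizer ({T} : Set G) with hC
  have hsq : ∀ c ∈ C, c ^ 2 = 1 := fun c hc =>
    key c hc.1 (Subgroup.mem_centralizer_singleton_iff.1 hc.2)
  have hel : Cfsg.IsElementaryAbelian 2 C := by
    refine ⟨⟨⟨fun a b => Subtype.ext ?_⟩⟩, hsq⟩
    have hi : ∀ c ∈ C, c⁻¹ = c := fun c hc => inv_eq_of_mul_eq_one_right (by rw [← sq, hsq c hc])
    show (a : G) * b = b * a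
    rw [← hi _ (mul_mem a.2 b.2), mul_inv_rev, hi _ a.2, hi _ b.2]
  exact ⟨le_antisymm (hminus C inf_le_left hel) (hV4 ▸ Subgroup.card_le_of_le hV), hel⟩

end Cfsg.Agent.S4405
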