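import Cfsg.Statements.S4406
-- import your own Cfsg.Agent.* helpers here

set_option autoImplicit false
open Cfsg

namespace Cfsg.Agent.S4406

abbrev A4 := ↥(alternatingGroup (Fin 4))

theorem two_or_three : ∀ g : A4, g * g = 1 ∨ g * g * g = 1 := by decide +kernel

set_option synthInstance.maxSize 4000 in
theorem conj_facts : ∀ a v : A4, a * a * a = 1 → a ≠ 1 → v * v = 1 → v ≠ 1 →
    a * v * a⁻¹ ≠ v ∧ a * v * a⁻¹ ≠ 1 ∧ a * (a * v * a⁻¹) * a⁻¹ = v * (a * v * a⁻¹) := by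
  decide +kernel

set_option synthInstance.maxSize 4000 in
theorem conj_move : ∀ b w w' : A4, b * b * b = 1 → b ≠ 1 → w * w = 1 → w ≠ 1 → w' * w' = 1 →
    w' ≠ 1 → w' ≠ w → b * w * b⁻¹ = w' ∨ b⁻¹ * w * (b⁻¹)⁻¹ = w' := by decide +kernel

theorem sq_eq_one_of_two_pow {g : A4} {k : ℕ} (h : g ^ 2 ^ k = 1) : g * g = 1 := by
  rcases two_or_three g with h2 | h3
  · exact h2
  have h3' : g ^ 3 = 1 := by rw [pow_three, ← mul_assoc]; exact h3
  have hd := Nat.dvd_gcd (orderOf_dvd_of_pow_eq_one h) (orderOf_dvd_of_pow_eq_one h3')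
  rw [Nat.Coprime.gcd_eq_one ((by norm_num : Nat.Coprime 2 3).pow_left k), Nat.dvd_one,
    orderOf_eq_one_iff] at hd
  simp [hd]

theorem pow_three_of_three_pow {g : A4} {k : ℕ} (h : g ^ 3 ^ k = 1) : g * g * g = 1 := by
  rcases two_or_three g with h2 | h3
  · have h2' : g ^ 2 = 1 := by rw [pow_two]; exact h2
    have hd := Nat.dvd_gcd (orderOf_dvd_of_pow_eq_one h) (orderOf_dvd_of_pow_eq_one h2')
    rw [Nat.Coprime.gcd_eq_one ((by norm_num : Nat.Coprime 3 2).pow_left k), Nat.dvd_one,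
      orderOf_eq_one_iff] at hd
    simp [hd]
  · exact h3

theorem card_A4 : Nat.card A4 = 12 := by
  rw [Nat.card_eq_fintype_card]; decide +kernel

theorem card_le_three {H : Subgroup A4} (h : IsPGroup 3 H) : Nat.card H ≤ 3 := by
  haveI : Fact (Nat.Prime 3) := ⟨Nat.prime_three⟩
  obtain ⟨k, hk⟩ := h.exists_card_eq
  have hd := Subgroup.card_subgroup_dvd_card H
  rw [hk, card_A4] at hd
  rw [hk]
  rcases k with _ | _ | k
  · norm_num
  · norm_num
  · exfalso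
    have : 9 ∣ 12 := (Dvd.intro (3 ^ k) (by ring)).trans hd
    norm_num at this

/-- An element `(a, c)` carrying `x` to `y` and `y` to `x * y` normalizes `⟨x, y⟩`. -/
theorem mem_normalizer_closure {G : Type*} [Group G] [Finite G] {B : Subgroup G} {g x y : G}
    (hB : B = Subgroup.closure {x, y}) (hx : g * x * g⁻¹ = y) (hy : g * y * g⁻¹ = x * y) :
    g ∈ Subgroup.normalizer (B : Set G) := by
  have hle : B.map (MulAut.conj g).toMonoidHom ≤ B := by
    rw [hB, MonoidHom.map_closure, Subgroup.closure_le]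
    rintro _ ⟨z, rfl | rfl, rfl⟩
    · show g * z * g⁻¹ ∈ _
      rw [hx]; exact Subgroup.subset_closure (by simp)
    · show g * z * g⁻¹ ∈ _
      rw [hy]
      exact mul_mem (Subgroup.subset_closure (by simp)) (Subgroup.subset_closure (by simp))
  have heq : B.map (MulAut.conj g).toMonoidHom = B := Subgroup.eq_of_le_of_card_ge hle
    (Subgroup.card_map_of_injective (MulAut.conj g).injective).ge
  rw [Subgroup.mem_normalizer_iff]
  intro z
  constructor
  · exact fun hz => heq.le ⟨z, hz, rfl⟩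
  · intro hz
    obtain ⟨w, hw, hwz⟩ := heq.ge hz
    rwa [(MulAut.conj g).injective hwz] at hw

/-- In the direct product P = A₄ × A₄, let X be the Sylow 2-subgroup, X₁ and X₂ its intersections with the two direct factors, Q a Sylow 3-subgroup and Q₁, Q₂ its intersections with the two factors. Then every subgroup B of X of order 4 either meets X₁ or X₂ nontrivially, or is normalized by one of the two subgroups of Q of order 3 other than Q₁ and Q₂. -/
theorem result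
    (X : Sylow 2 (↥(alternatingGroup (Fin 4)) × ↥(alternatingGroup (Fin 4))))
    (Q : Sylow 3 (↥(alternatingGroup (Fin 4)) × ↥(alternatingGroup (Fin 4))))
    (B : Subgroup (↥(alternatingGroup (Fin 4)) × ↥(alternatingGroup (Fin 4)))) (hBX : B ≤ (X : Subgroup _)) (hB4 : Nat.card ↥B = 4) :
    B ⊓ ((X : Subgroup _) ⊓ Subgroup.prod ⊤ ⊥) ≠ ⊥ ∨ B ⊓ ((X : Subgroup _) ⊓ Subgroup.prod ⊥ ⊤) ≠ ⊥ ∨
      ∃ R : Subgroup (↥(alternatingGroup (Fin 4)) × ↥(alternatingGroup (Fin 4))), R ≤ (Q : Subgroup _) ∧ Nat.card ↥R = 3 ∧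
        R ≠ (Q : Subgroup _) ⊓ Subgroup.prod ⊤ ⊥ ∧ R ≠ (Q : Subgroup _) ⊓ Subgroup.prod ⊥ ⊤ ∧ R ≤ Subgroup.normalizer (B : Set _) := by
  haveI : Fact (Nat.Prime 3) := ⟨Nat.prime_three⟩
  haveI : Fact (Nat.Prime 2) := ⟨Nat.prime_two⟩
  by_cases h1 : B ⊓ ((X : Subgroup _) ⊓ Subgroup.prod ⊤ ⊥) = ⊥
  swap
  · exact Or.inl h1
  by_cases h2 : B ⊓ ((X : Subgroup _) ⊓ Subgroup.prod ⊥ ⊤) = ⊥
  swap
  · exact Or.inr (Or.inl h2)
  refine Or.inr (Or.inr ?_)
  -- components of elements of `B` are involutions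
  have hsq : ∀ z ∈ B, z.1 * z.1 = 1 ∧ z.2 * z.2 = 1 := by
    intro z hz
    obtain ⟨k, hk⟩ := X.2 ⟨z, hBX hz⟩
    have hk' : z ^ 2 ^ k = 1 := congrArg Subtype.val hk
    exact ⟨sq_eq_one_of_two_pow (congrArg Prod.fst hk'), sq_eq_one_of_two_pow (congrArg Prod.snd hk')⟩
  have hfst : ∀ z ∈ B, z.1 = 1 → z = 1 := by
    intro z hz hz1
    have : z ∈ B ⊓ ((X : Subgroup _) ⊓ Subgroup.prod ⊥ ⊤) :=
      ⟨hz, hBX hz, by simp [Subgroup.mem_prod, hz1]⟩
    rwa [h2, Subgroup.mem_bot] at this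
  have hsnd : ∀ z ∈ B, z.2 = 1 → z = 1 := by
    intro z hz hz1
    have : z ∈ B ⊓ ((X : Subgroup _) ⊓ Subgroup.prod ⊤ ⊥) :=
      ⟨hz, hBX hz, by simp [Subgroup.mem_prod, hz1]⟩
    rwa [h1, Subgroup.mem_bot] at this
  -- `Q` is the product of its projections
  set Q1 := (Q : Subgroup (A4 × A4)).map (MonoidHom.fst A4 A4)
  set Q2 := (Q : Subgroup (A4 × A4)).map (MonoidHom.snd A4 A4)
  have hQle : (Q : Subgroup (A4 × A4)) ≤ Q1.prod Q2 := fun z hz => ⟨⟨z, hz, rfl⟩, ⟨z, hz, rfl⟩⟩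
  have hp1 : IsPGroup 3 Q1 := Q.2.map _
  have hp2 : IsPGroup 3 Q2 := Q.2.map _
  have hpp : IsPGroup 3 (Q1.prod Q2) := by
    rintro ⟨⟨u, w⟩, hu, hw⟩
    obtain ⟨i, hi⟩ := hp1 ⟨u, hu⟩
    obtain ⟨j, hj⟩ := hp2 ⟨w, hw⟩
    refine ⟨i + j, Subtype.ext (Prod.ext ?_ ?_)⟩
    · have := congrArg Subtype.val hi
      simp only [Subgroup.coe_pow, Subgroup.coe_one] at this
      simp [pow_add, pow_mul, this]
    · have := congrArg Subtype.val hj
      simp only [Subgroup.coe_pow, Subgroup.coe_one] at this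
      simp [pow_add, mul_comm (3 ^ i), pow_mul, this]
  have hQeq : Q1.prod Q2 = (Q : Subgroup (A4 × A4)) := Q.3 hpp hQle
  have hQcard : Nat.card Q1 * Nat.card Q2 = 9 := by
    have hc : Nat.card (Q1.prod Q2) = Nat.card Q1 * Nat.card Q2 := by
      rw [Nat.card_congr (Q1.prodEquiv Q2).toEquiv, Nat.card_prod]
    rw [← hc, hQeq, Q.card_eq_multiplicity, Nat.card_prod, card_A4,
      show (12 * 12 : ℕ) = 3 ^ 2 * 2 ^ 4 from rfl, Nat.factorization_mul (by norm_num) (by norm_num),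
      Nat.Prime.factorization_pow Nat.prime_three, Nat.Prime.factorization_pow Nat.prime_two]
    simp
  have hne : Q1 ≠ ⊥ ∧ Q2 ≠ ⊥ := by
    have b1 := card_le_three hp1
    have b2 := card_le_three hp2
    constructor <;> intro h <;> rw [h, Subgroup.card_bot] at hQcard <;> omega
  obtain ⟨⟨a, ha⟩, ha1⟩ := (Subgroup.ne_bot_iff_exists_ne_one).mp hne.1
  obtain ⟨⟨b, hb⟩, hb1⟩ := (Subgroup.ne_bot_iff_exists_ne_one).mp hne.2
  replace ha1 : a ≠ 1 := fun h => ha1 (Subtype.ext h)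
  replace hb1 : b ≠ 1 := fun h => hb1 (Subtype.ext h)
  have ha3 : a * a * a = 1 := by
    obtain ⟨k, hk⟩ := hp1 ⟨a, ha⟩; exact pow_three_of_three_pow (congrArg Subtype.val hk)
  have hb3 : b * b * b = 1 := by
    obtain ⟨k, hk⟩ := hp2 ⟨b, hb⟩; exact pow_three_of_three_pow (congrArg Subtype.val hk)
  -- generators of `B`
  have hBne : B ≠ ⊥ := fun h => by rw [h, Subgroup.card_bot] at hB4; omega
  obtain ⟨⟨x, hx⟩, hx1⟩ := (Subgroup.ne_bot_iff_exists_ne_one).mp hBne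
  replace hx1 : x ≠ 1 := fun h => hx1 (Subtype.ext h)
  have hv1 : x.1 ≠ 1 := fun h => hx1 (hfst x hx h)
  have hw1 : x.2 ≠ 1 := fun h => hx1 (hsnd x hx h)
  obtain ⟨hc1, hc2, hc3⟩ := conj_facts a x.1 ha3 ha1 (hsq x hx).1 hv1
  -- projection of `B` is onto the involutions
  have himg : ∀ u : A4, u * u = 1 → ∃ z ∈ B, z.1 = u := by
    intro u hu
    have hinj : Function.Injective (fun z : B => (⟨z.1.1, (hsq z.1 z.2).1⟩ : {u : A4 // u * u = 1})) := by
      intro z z' h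
      have h' : z.1.1 = z'.1.1 := congrArg Subtype.val h
      have := hfst (z.1⁻¹ * z'.1) (mul_mem (inv_mem z.2) z'.2) (by simp [h'])
      exact Subtype.ext (inv_mul_eq_one.mp this)
    have hcard : Nat.card B = Nat.card {u : A4 // u * u = 1} := by
      rw [hB4, Nat.card_eq_fintype_card]; decide +kernel
    obtain ⟨z, hz⟩ := ((Function.Injective.bijective_of_nat_card_le hinj hcard.ge)).2 ⟨u, hu⟩
    exact ⟨z, z.2, congrArg Subtype.val hz⟩
  have hsqv : a * x.1 * a⁻¹ * (a * x.1 * a⁻¹) = 1 := by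
    rw [show a * x.1 * a⁻¹ * (a * x.1 * a⁻¹) = a * (x.1 * x.1) * a⁻¹ by group, (hsq x hx).1]
    group
  obtain ⟨y, hy, hy1⟩ := himg _ hsqv
  have hy2 : y.2 ≠ 1 := fun h => hc2 (by rw [← hy1, hsnd y hy h]; rfl)
  have hyx : y.2 ≠ x.2 := fun h => hc1 (by
    have := hsnd (x⁻¹ * y) (mul_mem (inv_mem hx) hy) (by simp [h])
    rw [← inv_mul_eq_one.mp this] at hy1
    exact hy1.symm)
  obtain ⟨c, hc, hc1', hcw⟩ : ∃ c ∈ Q2, c ≠ 1 ∧ c * x.2 * c⁻¹ = y.2 := by
    rcases conj_move b x.2 y.2 hb3 hb1 (hsq x hx).2 hw1 (hsq y hy).2 hy2 hyx with h | h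
    · exact ⟨b, hb, hb1, h⟩
    · exact ⟨b⁻¹, inv_mem hb, inv_ne_one.mpr hb1, h⟩
  have hc3' : c * c * c = 1 := by
    obtain ⟨k, hk⟩ := hp2 ⟨c, hc⟩; exact pow_three_of_three_pow (congrArg Subtype.val hk)
  have hcy := (conj_facts c x.2 hc3' hc1' (hsq x hx).2 hw1).2.2
  rw [hcw] at hcy
  rw [← hy1] at hc3
  have hgy : (a, c) * y * (a, c)⁻¹ = x * y := Prod.ext hc3 hcy
  have hgx : (a, c) * x * (a, c)⁻¹ = y := Prod.ext hy1.symm hcw
  have hgen : B = Subgroup.closure {x, y} := by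
    refine (Subgroup.eq_of_le_of_card_ge ((Subgroup.closure_le _).mpr ?_) ?_).symm
    · rintro z (rfl | rfl) <;> assumption
    · rw [hB4]
      set C := Subgroup.closure ({x, y} : Set (A4 × A4))
      have hxC : x ∈ C := Subgroup.subset_closure (by simp)
      have hyC : y ∈ C := Subgroup.subset_closure (by simp)
      have hCB : C ≤ B := (Subgroup.closure_le _).mpr (by rintro z (rfl | rfl) <;> assumption)
      have hd : Nat.card C ∣ 4 := (Subgroup.card_dvd_of_le hCB).trans (dvd_of_eq hB4)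
      have h3 : ({1, x, y} : Set (A4 × A4)) ⊆ C := by
        rintro z (rfl | rfl | rfl)
        · exact one_mem C
        · exact hxC
        · exact hyC
      have h4 := Set.ncard_le_ncard h3
      rw [Set.ncard_eq_three.mpr ⟨1, x, y, hx1.symm, fun h => hy2 (by rw [← h]; rfl),
        fun h => hyx (by rw [h]), rfl⟩, ← Nat.card_coe_set_eq] at h4
      change 3 ≤ Nat.card C at h4
      have := Nat.le_of_dvd (by norm_num) hd
      interval_cases hC : Nat.card C <;> omega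
  refine ⟨Subgroup.zpowers (a, c), ?_, ?_, ?_, ?_, ?_⟩
  · rw [Subgroup.zpowers_le, ← hQeq]; exact ⟨ha, hc⟩
  · rw [Nat.card_zpowers]
    refine orderOf_eq_prime ?_ fun h => ha1 (congrArg Prod.fst h)
    rw [pow_three, ← mul_assoc]
    exact Prod.ext ha3 hc3'
  · intro h
    have hm := h.le (Subgroup.mem_zpowers (a, c))
    exact hc1' (Subgroup.mem_bot.mp (Subgroup.mem_prod.mp hm.2).2)
  · intro h
    have hm := h.le (Subgroup.mem_zpowers (a, c))
    exact ha1 (Subgroup.mem_bot.mp (Subgroup.mem_prod.mp hm.2).1)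
  · rw [Subgroup.zpowers_le]
    exact mem_normalizer_closure hgen hgx hgy

end Cfsg.Agent.S4406
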