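import Cfsg.Statements.S4407
-- import your own Cfsg.Agent.* helpers here

set_option autoImplicit false
open Cfsg

namespace Cfsg.Agent.S4407

section

variable {S : Type*} [Group S] [Finite S] {M : Type*} [AddCommGroup M] [Module (ZMod 2) M]
  (ρ : Representation (ZMod 2) S M)

theorem rho_mul (g h : S) (x : M) : ρ (g * h) x = ρ g (ρ h x) := by rw [map_mul]; rfl

theorem rho_one (x : M) : ρ 1 x = x := by rw [map_one]; rfl

omit [Finite S] in
theorem add_self' (x : M) : x + x = 0 := ZModModule.add_self x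

/-- Submodules invariant under generators are invariant. -/
theorem invariant_of_closure {T : Set S} (hT : Subgroup.closure T = ⊤) (N : Submodule (ZMod 2) M)
    (h : ∀ g ∈ T, ∀ x ∈ N, ρ g x ∈ N) (g : S) : ∀ x ∈ N, ρ g x ∈ N := by
  have hg : g ∈ Subgroup.closure T := hT ▸ Subgroup.mem_top g
  induction hg using Subgroup.closure_induction with
  | mem g hg => exact h g hg
  | one => intro x hx; rwa [rho_one]
  | mul a b _ _ iha ihb => intro x hx; rw [rho_mul]; exact iha _ (ihb x hx)
  | inv a _ iha =>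
    have hp : ∀ n : ℕ, ∀ x ∈ N, ρ (a ^ n) x ∈ N := by
      intro n
      induction n with
      | zero => intro x hx; rwa [pow_zero, rho_one]
      | succ n ih => intro x hx; rw [pow_succ', rho_mul]; exact iha _ (ih x hx)
    have hord : 0 < orderOf a := orderOf_pos a
    have e : a⁻¹ = a ^ (orderOf a - 1) := inv_eq_of_mul_eq_one_left (by
      rw [← pow_succ, Nat.sub_add_cancel hord, pow_orderOf_eq_one])
    rw [e]
    exact hp _

/-- The combination of four vectors. -/
def comb (m₀ m₁ m₂ m₃ : M) (v : ZMod 2 × ZMod 2 × ZMod 2 × ZMod 2) : M :=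
  v.1 • m₀ + v.2.1 • m₁ + v.2.2.1 • m₂ + v.2.2.2 • m₃

omit [Finite S] in
theorem forall_zmod_two (a : ZMod 2) : a = 0 ∨ a = 1 := by revert a; decide

/-- The heart of the matter: `a` and `r a r⁻¹` generate `A`, and the fixed space of `a` is nonzero. -/
theorem core (A : Subgroup S) (r s z a : S)
    (hA : IsMulCommutative A) (ha : a ∈ A) (hb : r * a * r⁻¹ ∈ A)
    (hgen : Subgroup.closure {a, r * a * r⁻¹, r, s} = ⊤)
    (hAgen : A = Subgroup.closure {a, r * a * r⁻¹})
    (hr : r * r = z) (hz : z * z = 1) (hs : s * s = 1) (hsr : s * r = r⁻¹ * s)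
    (ha3 : a * a * a = 1) (hza : z * a * z⁻¹ = a⁻¹) (hsa : s * a * s⁻¹ = a)
    (hA0 : ∀ x : M, (∀ g ∈ A, ρ g x = x) → x = 0)
    (hirr : ∀ N : Submodule (ZMod 2) M, (∀ s : S, ∀ m ∈ N, ρ s m ∈ N) → N = ⊥ ∨ N = ⊤)
    (w : M) (hw : w ≠ 0) (hwa : ρ a w = w) :
    Nat.card M = 16 ∧ Nat.card {x : M // ρ z x = x ∧ ρ (r * s) x = x} = 2 ∧
      Nat.card {x : M // ρ z x = x ∧ ρ s x = x} ≠ 2 := by
  obtain ⟨b, hbdef⟩ : ∃ b, b = r * a * r⁻¹ := ⟨_, rfl⟩
  rw [← hbdef] at hb hgen hAgen
  have hzr : z * r = r * z := by rw [← hr, mul_assoc]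
  have hsz : s * z = z * s := by
    have hz' : r⁻¹ * r⁻¹ = z := by rw [← mul_inv_rev, hr]; exact inv_eq_of_mul_eq_one_right hz
    calc s * z = (s * r) * r := by rw [← hr, mul_assoc]
      _ = r⁻¹ * s * r := by rw [hsr]
      _ = r⁻¹ * (s * r) := by rw [mul_assoc]
      _ = r⁻¹ * r⁻¹ * s := by rw [hsr, mul_assoc]
      _ = z * s := by rw [hz']
  have hab : a * b = b * a := congrArg Subtype.val (hA.is_comm.comm (⟨a, ha⟩ : A) ⟨b, hb⟩)
  have hainv : a⁻¹ = a * a := inv_eq_of_mul_eq_one_left ha3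
  have hb3 : b * b * b = 1 := by
    calc b * b * b = r * (a * a * a) * r⁻¹ := by rw [hbdef]; group
      _ = 1 := by rw [ha3]; group
  have hbinv : b⁻¹ = b * b := inv_eq_of_mul_eq_one_left hb3
  have hrb : r * b * r⁻¹ = a⁻¹ := by
    rw [← hza, ← hr, hbdef]; group
  have hzb : z * b = b⁻¹ * z := by
    calc z * b = r * (z * a * z⁻¹) * r⁻¹ * z := by
          rw [hbdef, ← hr]; group
      _ = b⁻¹ * z := by rw [hza, hbdef]; group
  have hsb : s * b = b⁻¹ * s := by
    calc s * b = (s * r) * a * r⁻¹ := by rw [hbdef]; group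
      _ = r⁻¹ * (s * a * s⁻¹) * (s * r⁻¹) := by rw [hsr]; group
      _ = r⁻¹ * a * (s * r⁻¹) := by rw [hsa]
      _ = r⁻¹ * a * (r * s) := by
        congr 1
        calc s * r⁻¹ = r * (r⁻¹ * s) * r⁻¹ := by group
          _ = r * (s * r) * r⁻¹ := by rw [hsr]
          _ = r * s := by group
      _ = b⁻¹ * s := by
        have : r⁻¹ * a * r = b⁻¹ := by
          rw [show r⁻¹ * a * r = (r⁻¹ * a⁻¹ * r)⁻¹ by group, ← hrb]; group
        rw [← this]; group
  have hra : r⁻¹ * b * r = a := by rw [hbdef]; group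
  have har : r⁻¹ * a * r = b⁻¹ := by
    rw [show r⁻¹ * a * r = (r⁻¹ * a⁻¹ * r)⁻¹ by group, ← hrb]; group
  -- a common fixed vector of `a`, `s` and `z`
  have hsza : s * z * a = a⁻¹ * (s * z) := by
    calc s * z * a = s * (z * a * z⁻¹) * z := by group
      _ = (s * a * s⁻¹)⁻¹ * (s * z) := by rw [hza]; group
      _ = a⁻¹ * (s * z) := by rw [hsa]
  obtain ⟨m₀, hm₀, hm₀a, hm₀z⟩ : ∃ m, m ≠ 0 ∧ ρ a m = m ∧ ρ (s * z) m = m := by
    by_cases h : w + ρ (s * z) w = 0
    · refine ⟨w, hw, hwa, ?_⟩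
      calc ρ (s * z) w = (w + w) + ρ (s * z) w := by rw [add_self', zero_add]
        _ = w + (w + ρ (s * z) w) := by abel
        _ = w := by rw [h, add_zero]
    · refine ⟨_, h, ?_, ?_⟩
      · rw [map_add, hwa, ← rho_mul]
        congr 1
        have e : a * (s * z) = s * z * a⁻¹ := by
          calc a * (s * z) = (s * z) * ((s * z)⁻¹ * a * (s * z)) := by group
            _ = _ := by
              congr 1
              have : a⁻¹ = (s * z) * a * (s * z)⁻¹ := by rw [hsza]; group
              rw [eq_comm, show a⁻¹ = ((s * z)⁻¹ * (s * z * a * (s * z)⁻¹) * (s * z))⁻¹ by group, ← this]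
              group
        have hwa' : ρ a⁻¹ w = w := by rw [hainv, rho_mul, hwa, hwa]
        rw [e, rho_mul, hwa']
      · have e : s * z * (s * z) = 1 := by
          calc s * z * (s * z) = s * (z * s) * z := by group
            _ = (s * s) * (z * z) := by rw [← hsz]; group
            _ = 1 := by rw [hs, hz, one_mul]
        rw [map_add, ← rho_mul, e, rho_one, add_comm]
  obtain ⟨m, hm, hma, hmz, hms⟩ : ∃ m, m ≠ 0 ∧ ρ a m = m ∧ ρ z m = m ∧ ρ s m = m := by
    have key : ∀ y, ρ (s * z) y = y → ρ s y = y → ρ z y = y := fun y h1 h2 => by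
      have : ρ z y = ρ s (ρ (s * z) y) := by rw [← rho_mul, ← mul_assoc, hs, one_mul]
      rw [this, h1, h2]
    by_cases h : m₀ + ρ s m₀ = 0
    · have hs0 : ρ s m₀ = m₀ := by
        calc ρ s m₀ = (m₀ + m₀) + ρ s m₀ := by rw [add_self', zero_add]
          _ = m₀ + (m₀ + ρ s m₀) := by abel
          _ = m₀ := by rw [h, add_zero]
      exact ⟨m₀, hm₀, hm₀a, key _ hm₀z hs0, hs0⟩
    · have h1 : ρ (s * z) (m₀ + ρ s m₀) = m₀ + ρ s m₀ := by
        rw [map_add, hm₀z, ← rho_mul]
        congr 1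
        rw [mul_assoc s z s, ← hsz, rho_mul, hm₀z]
      have h2 : ρ s (m₀ + ρ s m₀) = m₀ + ρ s m₀ := by
        rw [map_add, ← rho_mul, hs, rho_one, add_comm]
      refine ⟨_, h, ?_, key _ h1 h2, h2⟩
      rw [map_add, hm₀a, ← rho_mul]
      congr 1
      have : a * s = s * a := by
        calc a * s = (s * a * s⁻¹) * s := by rw [hsa]
          _ = s * a := by group
      rw [this, rho_mul, hm₀a]
  obtain ⟨m₁, hm₁⟩ : ∃ y, y = ρ b m := ⟨_, rfl⟩
  obtain ⟨n₀, hn₀⟩ : ∃ y, y = ρ r m := ⟨_, rfl⟩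
  obtain ⟨n₁, hn₁⟩ : ∃ y, y = ρ r m₁ := ⟨_, rfl⟩
  -- the quadratic relation for `b`
  have hb2 : ρ (b * b) m = m + m₁ := by
    have h0 : m + m₁ + ρ (b * b) m = 0 := by
      apply hA0
      intro g hg
      rw [hAgen] at hg
      induction hg using Subgroup.closure_induction with
      | mem g hg =>
        rcases hg with hg | hg <;> rw [hg]
        · have e2 : ∀ y, ρ a y = y → ρ a (ρ b y) = ρ b y := fun y hy => by
            rw [← rho_mul, hab, rho_mul, hy]
          have h' := e2 _ hma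
          have h'' := e2 _ h'
          rw [map_add, map_add, hma, hm₁, h', rho_mul, h'']
        · rw [map_add, map_add, hm₁, ← rho_mul, ← rho_mul, ← mul_assoc, hb3, rho_one]
          abel
      | one => exact rho_one ρ _
      | mul g h _ _ ihg ihh => rw [rho_mul, ihh, ihg]
      | inv g _ ihg => nth_rewrite 1 [← ihg]; rw [← rho_mul, inv_mul_cancel, rho_one]
    calc ρ (b * b) m = (m + m₁ + (m + m₁)) + ρ (b * b) m := by rw [add_self', zero_add]
      _ = m + m₁ + (m + m₁ + ρ (b * b) m) := by abel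
      _ = m + m₁ := by rw [h0, add_zero]
  have hbi : ρ b⁻¹ m = m + m₁ := by rw [hbinv, hb2]
  -- the action on the four vectors
  have e_rr : ∀ y, ρ r (ρ r y) = ρ z y := fun y => by rw [← rho_mul, hr]
  have z1 : ρ z m₁ = m + m₁ := by
    rw [show ρ z m₁ = ρ z (ρ b m) by rw [hm₁], ← rho_mul, hzb, rho_mul, hmz, hbi]
  have z2 : ρ z n₀ = n₀ := by rw [hn₀, ← rho_mul, hzr, rho_mul, hmz]
  have z3 : ρ z n₁ = n₀ + n₁ := by rw [hn₁, ← rho_mul, hzr, rho_mul, z1, map_add, hn₀]
  have s1 : ρ s m₁ = m + m₁ := by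
    rw [show ρ s m₁ = ρ s (ρ b m) by rw [hm₁], ← rho_mul, hsb, rho_mul, hms, hbi]
  have hri : r⁻¹ = r * z := inv_eq_of_mul_eq_one_left (by
    rw [mul_assoc, hzr, ← mul_assoc, hr, hz])
  have s2 : ρ s n₀ = n₀ := by rw [hn₀, ← rho_mul, hsr, rho_mul, hms, hri, rho_mul, hmz]
  have s3 : ρ s n₁ = n₁ := by
    rw [hn₁, ← rho_mul, hsr, rho_mul, s1, hri, rho_mul, map_add, hmz, z1, map_add, map_add]
    rw [← add_assoc, add_self', zero_add]
  have a1 : ρ a m₁ = m₁ := by rw [hm₁, ← rho_mul, hab, rho_mul, hma]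
  have ar : ∀ y, ρ a (ρ r y) = ρ r (ρ b⁻¹ y) := fun y => by
    rw [← rho_mul, ← rho_mul, ← har]; congr 2; group
  have br : ∀ y, ρ b (ρ r y) = ρ r (ρ a y) := fun y => by
    rw [← rho_mul, ← rho_mul, hbdef]; congr 2; group
  have b1 : ρ b m₁ = m + m₁ := by rw [show ρ b m₁ = ρ b (ρ b m) by rw [hm₁], ← rho_mul, hb2]
  have a2 : ρ a n₀ = n₀ + n₁ := by rw [hn₀, ar, hbi, map_add, hn₁]
  have a3 : ρ a n₁ = n₀ := by
    rw [hn₁, ar, hm₁, ← rho_mul ρ b⁻¹ b, inv_mul_cancel, rho_one, hn₀]
  have b2 : ρ b n₀ = n₀ := by rw [hn₀, br, hma]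
  have b3 : ρ b n₁ = n₁ := by rw [hn₁, br, a1]
  have r2 : ρ r n₀ = m := by rw [hn₀, e_rr, hmz]
  have r3 : ρ r n₁ = m + m₁ := by rw [hn₁, e_rr, z1]
  -- the spanned subspace is everything
  set N := Submodule.span (ZMod 2) ({m, m₁, n₀, n₁} : Set M) with hN
  have hN' : N = ⊤ := by
    refine (hirr N (invariant_of_closure ρ hgen N ?_)).resolve_left fun h => hm ?_
    · intro g hg x hx
      have hsub : ({m, m₁, n₀, n₁} : Set M) ⊆ N := Submodule.subset_span
      simp only [Set.insert_subset_iff, Set.singleton_subset_iff, SetLike.mem_coe] at hsub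
      obtain ⟨k0, k1, k2, k3⟩ := hsub
      suffices hh : ∀ v ∈ ({m, m₁, n₀, n₁} : Set M), ρ g v ∈ N from
        (Submodule.span_le (p := N.comap (ρ g))).mpr hh hx
      simp only [Set.mem_insert_iff, Set.mem_singleton_iff] at hg ⊢
      rintro v (rfl | rfl | rfl | rfl) <;> rcases hg with rfl | rfl | rfl | rfl
      all_goals simp only [hma, hms, a1, a2, a3, b1, b2, b3, r2, r3, s1, s2, s3, ← hm₁, ← hn₀, ← hn₁]
      all_goals first | assumption | exact add_mem ‹_› ‹_›
    · exact (Submodule.mem_bot (ZMod 2)).mp (h ▸ Submodule.subset_span (by simp))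
  set f := comb m m₁ n₀ n₁ with hf
  have hsurj : Function.Surjective f := fun x => by
    have hx : x ∈ N := hN' ▸ Submodule.mem_top
    simp only [hN, Submodule.mem_span_insert, Submodule.mem_span_singleton] at hx
    obtain ⟨c0, _, ⟨c1, _, ⟨c2, _, ⟨c3, rfl⟩, rfl⟩, rfl⟩, rfl⟩ := hx
    exact ⟨(c0, c1, c2, c3), by simp [hf, comb, add_assoc]⟩
  -- independence
  have fadd : ∀ u v, f u + f v = f (u + v) := fun u v => by
    simp only [hf, comb, Prod.fst_add, Prod.snd_add, add_smul]; abel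
  have hker : ∀ v, f v = 0 → v = 0 := by
    rintro ⟨c0, c1, c2, c3⟩ h
    simp only [hf, comb] at h
    have hya : ρ a (c0 • m + c1 • m₁) = c0 • m + c1 • m₁ := by
      rw [map_add, map_smul, map_smul, hma, a1]
    have hyb : ρ b (c2 • n₀ + c3 • n₁) = c2 • n₀ + c3 • n₁ := by
      rw [map_add, map_smul, map_smul, b2, b3]
    have hxy : c0 • m + c1 • m₁ = c2 • n₀ + c3 • n₁ := by
      calc c0 • m + c1 • m₁ = (c0 • m + c1 • m₁ + c2 • n₀ + c3 • n₁) + (c2 • n₀ + c3 • n₁) := by
            rw [show c0 • m + c1 • m₁ + c2 • n₀ + c3 • n₁ + (c2 • n₀ + c3 • n₁) =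
              c0 • m + c1 • m₁ + ((c2 • n₀ + c3 • n₁) + (c2 • n₀ + c3 • n₁)) by abel, add_self', add_zero]
        _ = _ := by rw [h, zero_add]
    have hy0 : c0 • m + c1 • m₁ = 0 := by
      apply hA0
      intro g hg
      rw [hAgen] at hg
      induction hg using Subgroup.closure_induction with
      | mem g hg =>
        rcases hg with rfl | rfl
        · exact hya
        · rw [hxy]; exact hyb
      | one => exact rho_one ρ _
      | mul g h _ _ ihg ihh => rw [rho_mul, ihh, ihg]
      | inv g _ ihg => nth_rewrite 1 [← ihg]; rw [← rho_mul, inv_mul_cancel, rho_one]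
    have hy1 : c2 • n₀ + c3 • n₁ = 0 := hxy ▸ hy0
    have hind : ∀ c d : ZMod 2, c • m + d • m₁ = 0 → c = 0 ∧ d = 0 := by
      intro c d hcd
      rcases forall_zmod_two c with rfl | rfl <;> rcases forall_zmod_two d with rfl | rfl
      · exact ⟨rfl, rfl⟩
      · rw [zero_smul, one_smul, zero_add] at hcd
        exfalso; apply hm
        calc m = ρ (b⁻¹ * b) m := by rw [inv_mul_cancel, rho_one]
          _ = 0 := by rw [rho_mul, ← hm₁, hcd, map_zero]
      · rw [zero_smul, one_smul, add_zero] at hcd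
        exact absurd hcd hm
      · rw [one_smul, one_smul, ← hbi] at hcd
        exfalso; apply hm
        calc m = ρ (b * b⁻¹) m := by rw [mul_inv_cancel, rho_one]
          _ = 0 := by rw [rho_mul, hcd, map_zero]
    obtain ⟨h0, h1⟩ := hind _ _ hy0
    obtain ⟨h2, h3⟩ := hind c2 c3 (by
      have := congrArg (ρ r⁻¹) hy1
      simpa [map_add, map_smul, hn₀, hn₁, ← rho_mul, rho_one] using this)
    simp [h0, h1, h2, h3]
  have hinj : Function.Injective f := fun u v h => by
    have h0 := hker (u + v) (by rw [← fadd, h, add_self'])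
    calc u = (u + v) + v := by rw [add_assoc, ZModModule.add_self, add_zero]
      _ = v := by rw [h0, zero_add]
  refine ⟨?_, ?_, ?_⟩
  · rw [← Nat.card_congr (Equiv.ofBijective f ⟨hinj, hsurj⟩), Nat.card_eq_fintype_card]
    decide
  · have hz' : ∀ v, ρ z (f v) = f (v.1 + v.2.1, v.2.1, v.2.2.1 + v.2.2.2, v.2.2.2) := fun v => by
      simp only [hf, comb, map_add, map_smul, hmz, z1, z2, z3, smul_add, add_smul]; abel
    have hrs : ∀ v, ρ (r * s) (f v) = f (v.2.2.1 + v.2.2.2, v.2.2.2, v.1 + v.2.1, v.2.1) := fun v => by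
      simp only [hf, comb, rho_mul, map_add, map_smul, hms, s1, s2, s3, r2, r3, ← hn₀, ← hn₁,
        smul_add, add_smul]
      abel
    rw [← Nat.card_congr (Equiv.subtypeEquiv (Equiv.ofBijective f ⟨hinj, hsurj⟩)
      (p := fun v : ZMod 2 × ZMod 2 × ZMod 2 × ZMod 2 =>
        (v.1 + v.2.1, v.2.1, v.2.2.1 + v.2.2.2, v.2.2.2) = v ∧
          (v.2.2.1 + v.2.2.2, v.2.2.2, v.1 + v.2.1, v.2.1) = v) fun v => by
        show _ ↔ (ρ z (f v) = f v ∧ ρ (r * s) (f v) = f v)
        rw [hz', hrs, hinj.eq_iff, hinj.eq_iff])]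
    rw [Nat.card_eq_fintype_card]
    decide
  · intro h2
    have : Finite M := Finite.of_surjective f hsurj
    have key : ∀ u v : ZMod 2, ρ z (f (u, 0, v, 0)) = f (u, 0, v, 0) ∧
        ρ s (f (u, 0, v, 0)) = f (u, 0, v, 0) := fun u v => by
      simp [hf, comb, map_add, hmz, z2, hms, s2]
    have hi : Function.Injective
        (fun v : ZMod 2 × ZMod 2 => (⟨f (v.1, 0, v.2, 0), key v.1 v.2⟩ :
          {x : M // ρ z x = x ∧ ρ s x = x})) := fun u v h => by
      have := hinj (congrArg Subtype.val h)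
      simp only [Prod.mk.injEq] at this
      exact Prod.ext this.1 this.2.2.1
    have := Nat.card_le_card_of_injective _ hi
    rw [h2] at this
    simp [Nat.card_prod] at this

end

theorem dihedral_facts :
    (∀ i : ZMod 4, DihedralGroup.r 1 * DihedralGroup.r 1 = (DihedralGroup.r 2 : DihedralGroup 4) ∧
      DihedralGroup.sr i * DihedralGroup.sr i = 1 ∧
      DihedralGroup.sr i * DihedralGroup.r 1 = (DihedralGroup.r 1)⁻¹ * DihedralGroup.sr i) ∧
    (DihedralGroup.r 2 : DihedralGroup 4) * DihedralGroup.r 2 = 1 := by decide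

theorem dihedral_gen : ∀ i : ZMod 4, ∀ x : DihedralGroup 4,
    x = 1 ∨ x = DihedralGroup.r 1 ∨ x = DihedralGroup.r 1 * DihedralGroup.r 1 ∨
      x = DihedralGroup.r 1 * DihedralGroup.r 1 * DihedralGroup.r 1 ∨ x = DihedralGroup.sr i ∨
      x = DihedralGroup.r 1 * DihedralGroup.sr i ∨
      x = DihedralGroup.r 1 * DihedralGroup.r 1 * DihedralGroup.sr i ∨
      x = DihedralGroup.r 1 * DihedralGroup.r 1 * DihedralGroup.r 1 * DihedralGroup.sr i := by decide

theorem dihedral_ne : ∀ i : ZMod 4,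
    DihedralGroup.r 2 * DihedralGroup.sr i ≠ (1 : DihedralGroup 4) := by decide

/-- The four involutory elements lying together in a four group containing `sr i`. -/
def four (i : ZMod 4) : Finset (DihedralGroup 4) :=
  {1, DihedralGroup.r 2, DihedralGroup.sr i, DihedralGroup.sr (i + 2)}

theorem dihedral_four : ∀ i : ZMod 4,
    (∀ x ∈ four i, ∀ y ∈ four i, x * y ∈ four i) ∧ (∀ x ∈ four i, x⁻¹ ∈ four i) ∧
    (∀ x ∈ four i, x * x = 1) ∧ (four i).card = 4 ∧
    DihedralGroup.r 1 * DihedralGroup.sr i ∈ four (i + 1) ∧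
    (∀ x ∈ four (i + 1), x ∈ ({1, DihedralGroup.r 2, DihedralGroup.r 1 * DihedralGroup.sr i,
      DihedralGroup.r 2 * (DihedralGroup.r 1 * DihedralGroup.sr i)} : Finset (DihedralGroup 4))) := by
  decide

theorem dihedral_class' : ∀ i : ZMod 4, ∀ x : DihedralGroup 4, ∀ y : DihedralGroup 4,
    x * x ≠ 1 ∨ y * y ≠ 1 ∨ x * y * (x * y) ≠ 1 ∨ x ∈ four i ∨ y ∈ four (i + 1) := by decide

theorem dihedral_class (i : ZMod 4) (x y : DihedralGroup 4) (hx : x * x = 1) (hy : y * y = 1)
    (hxy : x * y * (x * y) = 1) (hn : x ∉ four i) : y ∈ four (i + 1) := by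
  rcases dihedral_class' i x y with h | h | h | h | h
  exacts [absurd hx h, absurd hy h, absurd hxy h, absurd h hn, h]

/-- Let S be a finite group with a normal elementary abelian subgroup A of order 9 that is self-centralizing (C_S(A) = A), and a dihedral subgroup X of order 8 with S = AX. Let M be a finite-dimensional module for S over the field with two elements that is faithful and irreducible. Then M has 16 elements, and X contains exactly one subgroup B of order 4 and exponent 2 whose fixed points on M form a subspace with exactly 2 elements (equivalently, M is free of rank one over the group algebra of B). -/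
theorem result {S : Type*} [Group S] [Finite S]
    (A : Subgroup S) [A.Normal] (hA : Cfsg.IsElementaryAbelian 3 A) (hA9 : Nat.card ↥A = 9)
    (hAC : Subgroup.centralizer (A : Set S) = A) (X : Subgroup S) (hX : Nonempty (↥X ≃* DihedralGroup 4)) (hAX : A ⊔ X = ⊤)
    {M : Type*} [AddCommGroup M] [Module (ZMod 2) M] [Finite M] (ρ : Representation (ZMod 2) S M)
    (hfaith : Function.Injective ρ)
    (hirr : ∀ N : Submodule (ZMod 2) M, (∀ s : S, ∀ m ∈ N, ρ s m ∈ N) → N = ⊥ ∨ N = ⊤) (hM : Nontrivial M) :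
    Nat.card M = 16 ∧
      ∃! B : Subgroup S, B ≤ X ∧ Nat.card ↥B = 4 ∧ (∀ b ∈ B, b ^ 2 = 1) ∧
        Nat.card {m : M // ∀ b ∈ B, ρ b m = m} = 2 := by
  classical
  have hAc : IsMulCommutative A := hA.1
  have hA3 : ∀ g ∈ A, g * g * g = 1 := fun g hg => by
    have := hA.2 g hg
    rwa [pow_succ, pow_two] at this
  obtain ⟨e⟩ := hX
  set φ : DihedralGroup 4 →* S := X.subtype.comp e.symm.toMonoidHom with hφ
  have hφinj : Function.Injective φ := X.subtype_injective.comp e.symm.injective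
  have hφX : ∀ d, φ d ∈ X := fun d => (e.symm d).2
  have hφsurj : ∀ x ∈ X, ∃ d, φ d = x := fun x hx => ⟨e ⟨x, hx⟩, by simp [hφ]⟩
  -- `X` acts faithfully on `A`
  have hfa : ∀ d, (∀ g ∈ A, φ d * g * (φ d)⁻¹ = g) → d = 1 := by
    intro d hd
    have hdA : φ d ∈ A := by
      rw [← hAC, Subgroup.mem_centralizer_iff]
      exact fun g hg => (mul_inv_eq_iff_eq_mul.mp (hd g hg)).symm
    have h8 : φ d ^ 8 = 1 := by
      have h := Subgroup.orderOf_dvd_natCard X (hφX d)
      rw [Nat.card_congr e.toEquiv, DihedralGroup.nat_card] at h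
      exact orderOf_dvd_iff_pow_eq_one.mp h
    have h3 : φ d ^ 3 = 1 := hA.2 _ hdA
    apply hφinj
    rw [map_one]
    have e8 : φ d ^ 8 * φ d = (φ d ^ 3) ^ 3 := by rw [← pow_succ, ← pow_mul]
    rw [h8, h3, one_pow, one_mul] at e8
    exact e8
  have hconj : ∀ (x : S), ∀ g ∈ A, x * g * x⁻¹ ∈ A := fun x g hg => Subgroup.Normal.conj_mem ‹_› g hg x
  have hcomm : ∀ g ∈ A, ∀ h ∈ A, g * h = h * g :=
    fun g hg h hh => congrArg Subtype.val (hAc.is_comm.comm (⟨g, hg⟩ : A) ⟨h, hh⟩)
  set r := φ (DihedralGroup.r 1) with hr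
  set z := φ (DihedralGroup.r 2) with hz
  have hrr : r * r = z := by rw [hr, hz, ← map_mul, (dihedral_facts.1 0).1]
  have hzz : z * z = 1 := by rw [hz, ← map_mul, dihedral_facts.2, map_one]
  -- an involution centralizes an element of `A` unless it inverts `A`
  have hinvol : ∀ t : S, t * t = 1 → (∀ g ∈ A, t * g * t⁻¹ = g → g = 1) →
      ∀ g ∈ A, t * g * t⁻¹ = g⁻¹ := by
    intro t ht h g hg
    have htg := hconj t g hg
    have hfix : t * (g * (t * g * t⁻¹)) * t⁻¹ = g * (t * g * t⁻¹) := by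
      calc t * (g * (t * g * t⁻¹)) * t⁻¹ = (t * g * t⁻¹) * ((t * t) * g * (t * t)⁻¹) := by group
        _ = (t * g * t⁻¹) * g := by rw [ht]; group
        _ = _ := hcomm _ htg _ hg
    exact eq_inv_of_mul_eq_one_right (h _ (mul_mem hg htg) hfix)
  -- `z` inverts `A`
  have hzi : ∀ g ∈ A, z * g * z⁻¹ = g⁻¹ := by
    refine hinvol z hzz fun g hg hzg => ?_
    by_contra hg1
    -- the elements of `A` centralized and inverted by `z` form two invariant lines
    set C := A ⊓ Subgroup.centralizer ({z} : Set S) with hC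
    have hgC : g ∈ C := ⟨hg, Subgroup.mem_centralizer_singleton_iff.mpr
      (mul_inv_eq_iff_eq_mul.mp hzg).symm⟩
    have hC3 : Nat.card C = 3 := by
      have hd : Nat.card C ∣ 9 := hA9 ▸ Subgroup.card_dvd_of_le inf_le_left
      have hne : C ≠ ⊥ := fun h => hg1 (Subgroup.mem_bot.mp (h ▸ hgC))
      have hne9 : Nat.card C ≠ 9 := fun h9 => by
        have hCA : C = A := Subgroup.eq_of_le_of_card_ge inf_le_left (by rw [h9, hA9])
        have := hfa (DihedralGroup.r 2) fun k hk => by
          have hk' : k * z = z * k := Subgroup.mem_centralizer_singleton_iff.mp (hCA.ge hk).2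
          rw [← hz, mul_inv_eq_iff_eq_mul, hk']
        exact absurd this (by decide)
      have h1 : Nat.card C ≠ 1 := fun h => hne (Subgroup.card_eq_one.mp h)
      have hle := Nat.le_of_dvd (by norm_num) hd
      interval_cases h : Nat.card C <;> first | omega | norm_num at hd
    -- on the line `C` every element of `X` acts as `1` or inversion
    have hinvC : ∀ d, ∀ k ∈ C, φ d * k * (φ d)⁻¹ ∈ C := by
      intro d k hk
      refine ⟨hconj _ _ hk.1, Subgroup.mem_centralizer_singleton_iff.mpr ?_⟩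
      have hzd : z * φ d = φ d * z := by
        rw [hz, ← map_mul, ← map_mul]; congr 1; revert d; decide
      have hk' : k * z = z * k := Subgroup.mem_centralizer_singleton_iff.mp hk.2
      have hzd' : (φ d)⁻¹ * z = z * (φ d)⁻¹ := by
        calc (φ d)⁻¹ * z = (φ d)⁻¹ * (z * φ d) * (φ d)⁻¹ := by group
          _ = z * (φ d)⁻¹ := by rw [hzd]; group
      calc φ d * k * (φ d)⁻¹ * z = φ d * (k * z) * (φ d)⁻¹ := by
            rw [mul_assoc, hzd']; group
        _ = (φ d * z) * k * (φ d)⁻¹ := by rw [hk']; group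
        _ = z * (φ d * k * (φ d)⁻¹) := by rw [← hzd]; group
    -- so `r * r = z` would be trivial on `A`
    have hrA : ∀ k ∈ A, z * k * z⁻¹ = k := by
      intro k hk
      have hkC : k * (z * k * z⁻¹) ∈ C := by
        refine ⟨mul_mem hk (hconj z k hk), Subgroup.mem_centralizer_singleton_iff.mpr ?_⟩
        have hh : z * (k * (z * k * z⁻¹)) * z⁻¹ = k * (z * k * z⁻¹) := by
          calc z * (k * (z * k * z⁻¹)) * z⁻¹ = (z * k * z⁻¹) * ((z * z) * k * (z * z)⁻¹) := by group
            _ = (z * k * z⁻¹) * k := by rw [hzz]; group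
            _ = _ := hcomm _ (hconj z k hk) _ hk
        exact (mul_inv_eq_iff_eq_mul.mp hh).symm
      -- the inverted line
      set D : Subgroup S :=
        { carrier := {k | k ∈ A ∧ z * k * z⁻¹ = k⁻¹}
          one_mem' := ⟨one_mem _, by group⟩
          mul_mem' := by
            rintro x y ⟨hx, hx'⟩ ⟨hy, hy'⟩
            refine ⟨mul_mem hx hy, ?_⟩
            calc z * (x * y) * z⁻¹ = (z * x * z⁻¹) * (z * y * z⁻¹) := by group
              _ = x⁻¹ * y⁻¹ := by rw [hx', hy']
              _ = (x * y)⁻¹ := by rw [hcomm x hx y hy, mul_inv_rev]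
          inv_mem' := by
            rintro x ⟨hx, hx'⟩
            refine ⟨inv_mem hx, ?_⟩
            calc z * x⁻¹ * z⁻¹ = (z * x * z⁻¹)⁻¹ := by group
              _ = _ := by rw [hx'] } with hD
      have hDC : D ⊓ C = ⊥ := by
        rw [eq_bot_iff]
        rintro x ⟨⟨hx, hx'⟩, -, hxz'⟩
        have hxz : x * z = z * x := Subgroup.mem_centralizer_singleton_iff.mp hxz'
        rw [← hxz, mul_inv_cancel_right] at hx'
        refine Subgroup.mem_bot.mpr ?_
        calc x = x * x * x * (x⁻¹ * x⁻¹) := by group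
          _ = (x⁻¹ * x⁻¹) := by rw [hA3 x hx, one_mul]
          _ = 1 := by nth_rewrite 2 [← hx']; group
      have hDcard : Nat.card D * 3 ≤ 9 := by
        rw [← hC3, ← hA9, ← Nat.card_prod]
        refine Nat.card_le_card_of_injective (fun p : D × C =>
          (⟨p.1.1 * p.2.1, mul_mem p.1.2.1 p.2.2.1⟩ : A)) fun p q h => ?_
        obtain ⟨⟨p₁, hp₁⟩, ⟨p₂, hp₂⟩⟩ := p
        obtain ⟨⟨q₁, hq₁⟩, ⟨q₂, hq₂⟩⟩ := q
        have h' : p₁ * p₂ = q₁ * q₂ := congrArg Subtype.val h
        have e : q₁⁻¹ * p₁ = q₂ * p₂⁻¹ := by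
          calc q₁⁻¹ * p₁ = q₁⁻¹ * (p₁ * p₂) * p₂⁻¹ := by group
            _ = q₂ * p₂⁻¹ := by rw [h']; group
        have h0 : q₁⁻¹ * p₁ = 1 := Subgroup.mem_bot.mp (hDC ▸ Subgroup.mem_inf.mpr
          ⟨mul_mem (inv_mem hq₁) hp₁, e ▸ mul_mem hq₂ (inv_mem hp₂)⟩)
        have e1 := inv_mul_eq_one.mp h0
        subst e1
        have e2 := mul_left_cancel h'
        subst e2
        rfl
      have hDinv : ∀ d, ∀ x ∈ D, φ d * x * (φ d)⁻¹ ∈ D := by
        intro d x hx
        refine ⟨hconj _ _ hx.1, ?_⟩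
        have hzd : z * φ d = φ d * z := by
          rw [hz, ← map_mul, ← map_mul]; congr 1; revert d; decide
        calc z * (φ d * x * (φ d)⁻¹) * z⁻¹ = (z * φ d) * x * (z * φ d)⁻¹ := by group
          _ = φ d * (z * x * z⁻¹) * (φ d)⁻¹ := by rw [hzd]; group
          _ = _ := by rw [hx.2]; group
      -- squares act trivially on a line
      have hsq : ∀ L : Subgroup S, Nat.card L ≤ 3 → (∀ x ∈ L, r * x * r⁻¹ ∈ L) →
          ∀ x ∈ L, z * x * z⁻¹ = x := by
        intro L hL hrL x hx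
        by_cases hx1 : x = 1
        · subst hx1; group
        by_contra hne
        have h1 : r * x * r⁻¹ ≠ x := fun h => hne (by
          calc z * x * z⁻¹ = r * (r * x * r⁻¹) * r⁻¹ := by rw [← hrr]; group
            _ = x := by rw [h, h])
        have h2 : r * x * r⁻¹ ≠ 1 := fun h => hx1 (conj_eq_one_iff.mp h)
        have h3 : z * x * z⁻¹ ≠ r * x * r⁻¹ := fun h => h1 (by
          rw [← hrr] at h
          calc r * x * r⁻¹ = r⁻¹ * (r * r * x * (r * r)⁻¹) * r := by group
            _ = x := by rw [h]; group)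
        have h4 : z * x * z⁻¹ ≠ 1 := fun h => hx1 (conj_eq_one_iff.mp h)
        have hz' : z * x * z⁻¹ ∈ L := by
          have := hrL _ (hrL x hx)
          rw [← hrr]; convert this using 1; group
        let f : Fin 4 → L := ![1, ⟨x, hx⟩, ⟨_, hrL x hx⟩, ⟨_, hz'⟩]
        have hf : Function.Injective f := by
          intro i j hij
          have hij' := congrArg Subtype.val hij
          fin_cases i <;> fin_cases j <;> simp [f] at hij' <;>
            first
              | rfl
              | exact absurd hij' hx1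
              | exact absurd hij'.symm hx1
              | exact absurd hij' h1
              | exact absurd hij'.symm h1
              | exact absurd hij' hne
              | exact absurd hij'.symm hne
              | exact absurd hij' h2
              | exact absurd hij'.symm h2
              | exact absurd hij' h4
              | exact absurd hij'.symm h4
              | exact absurd hij' h3
              | exact absurd hij'.symm h3
        have := Nat.card_le_card_of_injective f hf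
        simp at this
        omega
      have e1 : z * (k * (z * k * z⁻¹)) * z⁻¹ = k * (z * k * z⁻¹) :=
        hsq C hC3.le (fun x hx => hinvC _ x hx) _ hkC
      have hkD : k * (z * k * z⁻¹)⁻¹ ∈ D := by
        refine ⟨mul_mem hk (inv_mem (hconj z k hk)), ?_⟩
        calc z * (k * (z * k * z⁻¹)⁻¹) * z⁻¹ = (z * k * z⁻¹) * ((z * z) * k * (z * z)⁻¹)⁻¹ := by group
          _ = (z * k * z⁻¹) * k⁻¹ := by rw [hzz]; group
          _ = _ := by rw [mul_inv_rev, inv_inv]
      have e2 := hsq D (by omega) (fun x hx => hDinv _ x hx) _ hkD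
      rw [hkD.2] at e2
      set d := k * (z * k * z⁻¹)⁻¹ with hd
      have hd1 : d = 1 := by
        calc d = d * d * d * (d⁻¹ * d⁻¹) := by group
          _ = d⁻¹ * d⁻¹ := by rw [hA3 d hkD.1, one_mul]
          _ = 1 := by nth_rewrite 2 [e2]; group
      exact (mul_inv_eq_one.mp hd1).symm
    exact absurd (hfa (DihedralGroup.r 2) hrA) (by decide)
  -- every noncentral involution fixes an element of `A`
  have hex : ∀ i : ZMod 4, ∃ a ∈ A, a ≠ 1 ∧
      φ (DihedralGroup.sr i) * a * (φ (DihedralGroup.sr i))⁻¹ = a := by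
    intro i
    by_contra hcon
    simp only [not_exists, not_and] at hcon
    have hti := hinvol (φ (DihedralGroup.sr i)) (by rw [← map_mul, (dihedral_facts.1 i).2.1, map_one])
      fun g hg h => by_contra fun hne => hcon g hg hne h
    have := hfa (DihedralGroup.r 2 * DihedralGroup.sr i) fun g hg => by
      rw [map_mul, ← hz]
      calc z * φ (DihedralGroup.sr i) * g * (z * φ (DihedralGroup.sr i))⁻¹
          = z * (φ (DihedralGroup.sr i) * g * (φ (DihedralGroup.sr i))⁻¹) * z⁻¹ := by group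
        _ = g := by rw [hti g hg, hzi _ (inv_mem hg), inv_inv]
    exact dihedral_ne i this
  -- setting up the hypotheses of `core`
  have hsetup : ∀ i : ZMod 4, ∀ a ∈ A, a ≠ 1 →
      φ (DihedralGroup.sr i) * a * (φ (DihedralGroup.sr i))⁻¹ = a →
      A = Subgroup.closure {a, r * a * r⁻¹} ∧
        Subgroup.closure {a, r * a * r⁻¹, r, φ (DihedralGroup.sr i)} = ⊤ := by
    intro i a ha ha1 hsa
    have hb := hconj r a ha
    have hAgen : A = Subgroup.closure {a, r * a * r⁻¹} := by
      symm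
      have hle : Subgroup.closure {a, r * a * r⁻¹} ≤ A := by
        rw [Subgroup.closure_le]; rintro x (rfl | rfl) <;> assumption
      refine Subgroup.eq_of_le_of_card_ge hle ?_
      have hd := Subgroup.card_dvd_of_le hle
      rw [hA9] at hd ⊢
      by_contra hlt
      have hord : orderOf a = 3 := orderOf_eq_prime (hA.2 a ha) ha1
      have hza : Subgroup.zpowers a ≤ Subgroup.closure {a, r * a * r⁻¹} :=
        Subgroup.zpowers_le.mpr (Subgroup.subset_closure (by simp))
      have h3 : Nat.card ↥(Subgroup.closure ({a, r * a * r⁻¹} : Set S)) = 3 := by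
        have h3' := Subgroup.card_dvd_of_le hza
        rw [Nat.card_zpowers, hord] at h3'
        have hle' := Nat.le_of_dvd (by norm_num) hd
        interval_cases h : Nat.card ↥(Subgroup.closure ({a, r * a * r⁻¹} : Set S)) <;>
          first | omega | norm_num at hd | norm_num at h3'
      have heq := Subgroup.eq_of_le_of_card_ge hza (by rw [h3, Nat.card_zpowers, hord])
      have hbm : r * a * r⁻¹ ∈ Subgroup.zpowers a := heq ▸ Subgroup.subset_closure (by simp)
      obtain ⟨k, hk⟩ := hbm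
      have key : z * a * z⁻¹ = a := by
        have : a ^ k = r * a * r⁻¹ := hk
        calc z * a * z⁻¹ = r * (r * a * r⁻¹) * r⁻¹ := by rw [← hrr]; group
          _ = r * a ^ k * r⁻¹ := by rw [this]
          _ = (r * a * r⁻¹) ^ k := by rw [conj_zpow]
          _ = a ^ (k * k) := by rw [← this, ← zpow_mul]
          _ = a := by
            rw [← zpow_mod_orderOf, hord]
            have hk3 : k % 3 ≠ 0 := fun h => ha1 (by
              have : r * a * r⁻¹ = 1 := by
                rw [← this, ← zpow_mod_orderOf, hord]; norm_num [h]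
              exact conj_eq_one_iff.mp this)
            have : (k * k) % 3 = 1 := by
              have : k % 3 = 1 ∨ k % 3 = 2 := by omega
              rcases this with h | h <;> rw [Int.mul_emod, h] <;> norm_num
            norm_num [this]
      rw [hzi a ha] at key
      apply ha1
      calc a = a * a * a * (a⁻¹ * a⁻¹) := by group
        _ = a⁻¹ * a⁻¹ := by rw [hA3 a ha, one_mul]
        _ = 1 := by nth_rewrite 2 [key]; group
    refine ⟨hAgen, ?_⟩
    rw [eq_top_iff, ← hAX, sup_le_iff]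
    constructor
    · rw [hAgen]; exact Subgroup.closure_mono (by intro x hx; rcases hx with rfl | rfl <;> simp)
    · intro x hx
      obtain ⟨d, rfl⟩ := hφsurj x hx
      have k1 : r ∈ Subgroup.closure {a, r * a * r⁻¹, r, φ (DihedralGroup.sr i)} :=
        Subgroup.subset_closure (by simp)
      have k2 : φ (DihedralGroup.sr i) ∈ Subgroup.closure {a, r * a * r⁻¹, r, φ (DihedralGroup.sr i)} :=
        Subgroup.subset_closure (by simp)
      rcases dihedral_gen i d with rfl | rfl | rfl | rfl | rfl | rfl | rfl | rfl <;>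
        (try simp only [map_mul, map_one, ← hr]) <;>
        first
          | exact one_mem _
          | assumption
          | exact mul_mem k1 k1
          | exact mul_mem (mul_mem k1 k1) k1
          | exact mul_mem k1 k2
          | exact mul_mem (mul_mem k1 k1) k2
          | exact mul_mem (mul_mem (mul_mem k1 k1) k1) k2
  have hA0 : ∀ x : M, (∀ g ∈ A, ρ g x = x) → x = 0 := by
    intro x hx
    let N : Submodule (ZMod 2) M :=
      { carrier := {y | ∀ g ∈ A, ρ g y = y}
        add_mem' := fun hu hv g hg => by rw [map_add, hu g hg, hv g hg]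
        zero_mem' := fun g _ => map_zero _
        smul_mem' := fun c u hu g hg => by rw [map_smul, hu g hg] }
    rcases hirr N (fun t y hy g hg => by
      rw [← rho_mul ρ, show g * t = t * (t⁻¹ * g * t) by group, rho_mul ρ,
        hy _ (by simpa using hconj t⁻¹ g hg)]) with h | h
    · exact (Submodule.mem_bot (ZMod 2)).mp (h ▸ (hx : x ∈ N))
    · exfalso
      have hbot : A = ⊥ := (Subgroup.eq_bot_iff_forall _).mpr fun g hg => hfaith (LinearMap.ext fun y => by
        rw [rho_one ρ]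
        exact (h ▸ Submodule.mem_top : y ∈ N) g hg)
      rw [hbot, Subgroup.card_bot] at hA9
      norm_num at hA9
  -- some `sr i` centralizes an element with nonzero fixed space
  obtain ⟨i, a, ha, ha1, hsa, w, hw, hwa⟩ : ∃ i : ZMod 4, ∃ a ∈ A, a ≠ 1 ∧
      φ (DihedralGroup.sr i) * a * (φ (DihedralGroup.sr i))⁻¹ = a ∧ ∃ w : M, w ≠ 0 ∧ ρ a w = w := by
    obtain ⟨a, ha, ha1, hsa⟩ := hex 0
    obtain ⟨hAgen, -⟩ := hsetup 0 a ha ha1 hsa
    obtain ⟨b, hb'⟩ : ∃ b, b = r * a * r⁻¹ := ⟨_, rfl⟩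
    have hb := hconj r a ha
    rw [← hb'] at hb hAgen
    set s := φ (DihedralGroup.sr 0) with hs
    have hab := hcomm a ha b hb
    have hrb : r * b * r⁻¹ = a⁻¹ := by rw [← hzi a ha, hb', ← hrr]; group
    -- `sr (-1) = r * sr 0` exchanges `a` and `b`
    have hsb : s * b * s⁻¹ = b⁻¹ := by
      have hs1 : s * r = r⁻¹ * s := by rw [hs, hr, ← map_mul, (dihedral_facts.1 0).2.2, map_mul, map_inv]
      calc s * b * s⁻¹ = (s * r) * a * (s * r)⁻¹ := by rw [hb']; group
        _ = r⁻¹ * (s * a * s⁻¹) * r := by rw [hs1]; group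
        _ = (r⁻¹ * a⁻¹ * r)⁻¹ := by rw [hsa]; group
        _ = b⁻¹ := by rw [← hrb]; group
    have hra' : r * s * a * (r * s)⁻¹ = b := by
      calc r * s * a * (r * s)⁻¹ = r * (s * a * s⁻¹) * r⁻¹ := by group
        _ = b := by rw [hsa, hb']
    have hrb' : r * s * b * (r * s)⁻¹ = a := by
      calc r * s * b * (r * s)⁻¹ = r * (s * b * s⁻¹) * r⁻¹ := by group
        _ = (r * b * r⁻¹)⁻¹ := by rw [hsb]; group
        _ = a := by rw [hrb, inv_inv]
    have hs3 : φ (DihedralGroup.sr 3) = r * s := by rw [hs, hr, ← map_mul]; congr 1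
    have hs1 : φ (DihedralGroup.sr 1) = z * (r * s) := by rw [hs, hr, hz, ← map_mul, ← map_mul]; congr 1
    have hs2 : φ (DihedralGroup.sr 2) = z * s := by rw [hs, hz, ← map_mul]; congr 1
    have hne_b : ∀ g, g = a * b ∨ g = a * b⁻¹ → g ≠ 1 := by
      intro g hg h1
      have hbb : b = a⁻¹ ∨ b = a := by
        rcases hg with rfl | rfl
        · exact Or.inl (eq_inv_of_mul_eq_one_right h1)
        · exact Or.inr (mul_inv_eq_one.mp h1).symm
      apply ha1
      have key : a⁻¹ = a := by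
        rw [← hrb]
        rcases hbb with h | h
        · calc r * b * r⁻¹ = (r * a * r⁻¹)⁻¹ := by rw [h]; group
            _ = a := by rw [← hb', h, inv_inv]
        · calc r * b * r⁻¹ = r * a * r⁻¹ := by rw [h]
            _ = a := by rw [← hb', h]
      calc a = a * a * a * (a⁻¹ * a⁻¹) := by group
        _ = a⁻¹ * a⁻¹ := by rw [hA3 a ha, one_mul]
        _ = 1 := by nth_rewrite 1 [key]; rw [mul_inv_cancel]
    by_contra hcon
    simp only [not_exists, not_and] at hcon
    obtain ⟨x, hx⟩ := exists_ne (0 : M)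
    have hker : ∀ i : ZMod 4, ∀ g ∈ A, g ≠ 1 → φ (DihedralGroup.sr i) * g * (φ (DihedralGroup.sr i))⁻¹ = g →
        x + ρ g x + ρ g⁻¹ x = 0 := by
      intro i g hg hg1 hfix
      have hg2 : g⁻¹ = g * g := inv_eq_of_mul_eq_one_left (hA3 g hg)
      by_contra hne
      refine hcon i g hg hg1 hfix _ hne ?_
      rw [map_add, map_add, ← rho_mul ρ, ← rho_mul ρ, mul_inv_cancel, rho_one ρ, ← hg2]
      abel
    have k0 := hker 0 a ha ha1 hsa
    have k2 := hker 2 b hb (fun h => ha1 (conj_eq_one_iff.mp (hb'.symm.trans h))) (by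
      rw [hs2]
      calc z * s * b * (z * s)⁻¹ = z * (s * b * s⁻¹) * z⁻¹ := by group
        _ = b := by rw [hsb, hzi _ (inv_mem hb), inv_inv])
    have k3 := hker 3 (a * b) (mul_mem ha hb) (hne_b _ (Or.inl rfl)) (by
      rw [hs3]
      calc r * s * (a * b) * (r * s)⁻¹ = (r * s * a * (r * s)⁻¹) * (r * s * b * (r * s)⁻¹) := by group
        _ = a * b := by rw [hra', hrb', hab])
    have k1 := hker 1 (a * b⁻¹) (mul_mem ha (inv_mem hb)) (hne_b _ (Or.inr rfl)) (by
      rw [hs1]
      calc z * (r * s) * (a * b⁻¹) * (z * (r * s))⁻¹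
          = z * ((r * s * a * (r * s)⁻¹) * (r * s * b * (r * s)⁻¹)⁻¹) * z⁻¹ := by group
        _ = z * (b * a⁻¹) * z⁻¹ := by rw [hra', hrb']
        _ = a * b⁻¹ := by rw [hzi _ (mul_mem hb (inv_mem ha))]; group)
    -- the sum over `A` of all translates is fixed by `A`, hence zero
    obtain ⟨u, hu⟩ : ∃ u, u = x + ρ a x + ρ a⁻¹ x := ⟨_, rfl⟩
    have hsum : u + ρ b u + ρ b⁻¹ u = 0 := by rw [hu, k0, map_zero, map_zero]; abel
    have eb : ∀ g, ρ b (ρ g x) = ρ (b * g) x := fun g => (rho_mul ρ b g x).symm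
    have ebi : ∀ g, ρ b⁻¹ (ρ g x) = ρ (b⁻¹ * g) x := fun g => (rho_mul ρ b⁻¹ g x).symm
    rw [hu, map_add, map_add, map_add, map_add, eb, eb, ebi, ebi] at hsum
    rw [mul_inv_rev, hcomm b⁻¹ (inv_mem hb) a⁻¹ (inv_mem ha)] at k3
    rw [mul_inv_rev, inv_inv] at k1
    rw [hcomm b hb a ha, hcomm b⁻¹ (inv_mem hb) a (ha), hcomm b⁻¹ (inv_mem hb) a⁻¹ (inv_mem ha)] at hsum
    apply hx
    calc x = (x + x) + (x + x) + x +
          ((ρ a x + ρ a x) + (ρ a⁻¹ x + ρ a⁻¹ x) + (ρ b x + ρ b x) + (ρ b⁻¹ x + ρ b⁻¹ x) +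
            (ρ (a * b) x + ρ (a * b) x) + (ρ (a⁻¹ * b⁻¹) x + ρ (a⁻¹ * b⁻¹) x) +
            (ρ (a * b⁻¹) x + ρ (a * b⁻¹) x) + (ρ (b * a⁻¹) x + ρ (b * a⁻¹) x)) := by
          simp [add_self']
      _ = (x + ρ a x + ρ a⁻¹ x) + (x + ρ b x + ρ b⁻¹ x) +
          (x + ρ (a * b) x + ρ (a⁻¹ * b⁻¹) x) + (x + ρ (a * b⁻¹) x + ρ (b * a⁻¹) x) +
          (x + ρ a x + ρ a⁻¹ x + (ρ b x + ρ (a * b) x + ρ (b * a⁻¹) x) +
            (ρ b⁻¹ x + ρ (a * b⁻¹) x + ρ (a⁻¹ * b⁻¹) x)) := by abel
      _ = 0 := by rw [hsum, k0, k1, k2, k3]; abel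
  obtain ⟨hAgen, hgen⟩ := hsetup i a ha ha1 hsa
  obtain ⟨h16, hfix2, hfixne⟩ := core ρ A r (φ (DihedralGroup.sr i)) z a hAc ha (hconj r a ha) hgen hAgen
    hrr hzz (by rw [← map_mul, (dihedral_facts.1 i).2.1, map_one])
    (by rw [hr, ← map_mul, (dihedral_facts.1 i).2.2, map_mul, map_inv])
    (hA3 a ha) (hzi a ha) hsa hA0 hirr w hw hwa
  refine ⟨h16, ?_⟩
  -- the four groups
  let B : ZMod 4 → Subgroup (DihedralGroup 4) := fun j =>
    { carrier := ↑(four j)
      one_mem' := by simp [four]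
      mul_mem' := fun hx hy => (dihedral_four j).1 _ hx _ hy
      inv_mem' := fun hx => (dihedral_four j).2.1 _ hx }
  set B₀ := (B (i + 1)).map φ with hB₀
  have hB0card : ∀ j, Nat.card ((B j).map φ) = 4 := fun j => by
    rw [Subgroup.card_map_of_injective hφinj]
    show Nat.card {x // x ∈ four j} = 4
    rw [Nat.card_eq_fintype_card, Fintype.card_coe, (dihedral_four j).2.2.2.1]
  have hfix0 : ∀ m : M, (∀ b ∈ B₀, ρ b m = m) ↔
      (ρ z m = m ∧ ρ (r * φ (DihedralGroup.sr i)) m = m) := by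
    intro m
    constructor
    · intro h
      refine ⟨h _ ⟨_, ?_, rfl⟩, h _ ⟨DihedralGroup.r 1 * DihedralGroup.sr i, (dihedral_four i).2.2.2.2.1,
        by rw [map_mul]⟩⟩
      show DihedralGroup.r 2 ∈ four (i + 1)
      simp [four]
    · rintro ⟨h1, h2⟩ _ ⟨d, hd, rfl⟩
      have := (dihedral_four i).2.2.2.2.2 d hd
      simp only [Finset.mem_insert, Finset.mem_singleton] at this
      rcases this with rfl | rfl | rfl | rfl <;>
        simp only [map_one, map_mul, ← hr, ← hz]
      · rfl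
      · exact h1
      · rw [← map_mul]; exact h2
      · rw [← map_mul, ← map_mul, rho_mul ρ, h2, h1]
  refine ⟨B₀, ⟨?_, hB0card _, ?_, ?_⟩, ?_⟩
  · rintro _ ⟨d, -, rfl⟩; exact hφX d
  · rintro _ ⟨d, hd, rfl⟩
    rw [pow_two, ← map_mul, (dihedral_four _).2.2.1 d hd, map_one]
  · rw [Nat.card_congr (Equiv.subtypeEquivRight hfix0)]
    exact hfix2
  · rintro B' ⟨hB'X, hB'4, hB'2, hB'fix⟩
    set C' := B'.comap φ with hC'
    have hmap : C'.map φ = B' :=
      Subgroup.map_comap_eq_self fun x hx => hφsurj x (hB'X hx)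
    have hsq : ∀ d ∈ C', d * d = 1 := fun d hd => hφinj (by
      rw [map_mul, map_one, ← pow_two]; exact hB'2 _ hd)
    have hB'le : ∀ j, C' ≤ B j → B' = (B j).map φ := fun j hj => by
      refine Subgroup.eq_of_le_of_card_ge (hmap ▸ Subgroup.map_mono hj) ?_
      rw [hB'4, hB0card]
    by_cases hall : C' ≤ B i
    · exfalso
      apply hfixne
      refine (Nat.card_congr (Equiv.subtypeEquivRight fun m => ?_)).trans hB'fix
      rw [hB'le i hall]
      constructor
      · rintro ⟨h1, h2⟩ _ ⟨d, hd, rfl⟩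
        have hd' : d ∈ four i := hd
        simp only [four, Finset.mem_insert, Finset.mem_singleton] at hd'
        rcases hd' with rfl | rfl | rfl | rfl
        · rw [map_one]; exact rho_one ρ m
        · exact h1
        · exact h2
        · rw [show DihedralGroup.sr (i + 2) = DihedralGroup.sr i * DihedralGroup.r 2 from rfl, map_mul,
            rho_mul ρ, h1, h2]
      · intro h
        refine ⟨h _ ⟨_, ?_, rfl⟩, h _ ⟨_, ?_, rfl⟩⟩
        · show DihedralGroup.r 2 ∈ four i; simp [four]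
        · show DihedralGroup.sr i ∈ four i; simp [four]
    · obtain ⟨x, hx, hxn⟩ := SetLike.not_le_iff_exists.mp hall
      exact hB'le (i + 1) fun y hy => dihedral_class i x y (hsq x hx) (hsq y hy)
        (hsq _ (mul_mem hx hy)) hxn

end Cfsg.Agent.S4407
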