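import Cfsg.Statements.S4408
import Cfsg.Agent.Lib.Components.Fitting
import Cfsg.Agent.Lib.Coprime.Generation
import Cfsg.Agent.Lib.Subnormal.Nilpotent
import Cfsg.Agent.Lib.PCore.Basic
-- import your own Cfsg.Agent.* helpers here

set_option autoImplicit false
open Cfsg

namespace Cfsg.Agent.S4408

open Cfsg.Agent.Components Subgroup
open scoped commutatorElement

variable {S : Type*} [Group S] [Finite S]

omit [Finite S] in
/-- A subgroup in which the product of two elements outside a subgroup lies inside has index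
at most two. -/
theorem index_le_two {J : Type*} [Group J] [Finite J] {H : Subgroup J}
    (h : ∀ a b : J, a ∉ H → b ∉ H → a * b ∈ H) : H.index ≤ 2 := by
  by_cases htop : H = ⊤
  · rw [htop, index_top]; exact one_le_two
  obtain ⟨a, -, ha⟩ := SetLike.exists_of_lt (lt_top_iff_ne_top.mpr htop)
  refine le_of_eq (index_eq_two_iff.mpr ⟨a, fun b => ?_⟩)
  by_cases hb : b ∈ H
  · exact Or.inr ⟨hb, fun hba => ha ((H.mul_mem_cancel_left hb).mp hba)⟩
  · exact Or.inl ⟨h b a hb ha, hb⟩

/-- The step: a subgroup of prime order, `I`-invariant, not centralised by `j`, on which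
two elements not centralising it multiply to one centralising it. -/
theorem exists_factor {I U : Subgroup S} (hIab : IsMulCommutative I) (hI2 : ∀ t ∈ I, t ^ 2 = 1)
    (hcop : (Nat.card I).Coprime (Nat.card U)) (hodd : Odd (Nat.card U))
    (hn : I ≤ normalizer (U : Set S)) {j : S}
    (hjI : j ∈ I) (hjU : j ∉ centralizer (U : Set S)) :
    ∃ Z : Subgroup S, Z ≤ U ∧ (Nat.card Z).Prime ∧ I ≤ normalizer (Z : Set S) ∧
      j ∉ centralizer (Z : Set S) ∧
      ∀ t ∈ I, ∀ t' ∈ I, t ∉ centralizer (Z : Set S) → t' ∉ centralizer (Z : Set S) →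
        t * t' ∈ centralizer (Z : Set S) := by
  obtain ⟨B, hBI, ⟨a, haI, hBa⟩, hB⟩ : ∃ B ≤ I, (∃ a ∈ I, B ⊔ zpowers a = I) ∧
      ¬ U ⊓ centralizer (B : Set S) ≤ centralizer {j} := by
    by_contra hex
    push Not at hex
    refine hjU (mem_centralizer_iff.mpr fun u hu => ?_)
    exact mem_centralizer_singleton_iff.mp
      (Cfsg.Agent.Coprime.le_of_forall_cyclic_quotient hn hcop hex hu)
  obtain ⟨w, hw, hwj⟩ := SetLike.not_le_iff_exists.mp hB
  have hcomm : ∀ {s t : S}, s ∈ I → t ∈ I → s * t = t * s := fun {s t} hs ht =>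
    congrArg Subtype.val (mul_comm' (⟨s, hs⟩ : I) ⟨t, ht⟩)
  set W := U ⊓ centralizer (B : Set S) with hWdef
  have hjW : j ∈ normalizer (W : Set S) := by
    refine inf_normalizer_le_normalizer_inf ⟨hn hjI, ?_⟩
    refine le_normalizer ?_
    exact mem_centralizer_iff.mpr fun b hb => hcomm (hBI hb) hjI
  have hwW : j * w * j⁻¹ ∈ W := (mem_normalizer_iff.mp hjW w).mp hw
  set x := w⁻¹ * (j * w * j⁻¹) with hxdef
  have hxW : x ∈ W := mul_mem (inv_mem hw) hwW
  have hjj : j * j = 1 := by rw [← pow_two]; exact hI2 j hjI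
  have hj' : j⁻¹ = j := inv_eq_of_mul_eq_one_right hjj
  have hxinv : j * x * j⁻¹ = x⁻¹ := by
    rw [hxdef, hj', mul_inv_rev, inv_inv]
    calc j * (w⁻¹ * (j * w * j)) * j = j * w⁻¹ * j * w * (j * j) := by group
      _ = j * w⁻¹ * j * w := by rw [hjj, mul_one]
      _ = (j * w * j)⁻¹ * w := by rw [mul_inv_rev, mul_inv_rev, hj', mul_assoc j]
  have hx1 : x ≠ 1 := fun h => hwj <| by
    rw [hxdef, inv_mul_eq_one, eq_mul_inv_iff_mul_eq] at h
    exact mem_centralizer_singleton_iff.mpr h
  have hox : orderOf x ∣ Nat.card U := by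
    have := orderOf_dvd_natCard (⟨x, hxW.1⟩ : U)
    rwa [Subgroup.orderOf_mk] at this
  obtain ⟨q, hq, hqd⟩ := Nat.exists_prime_and_dvd (mt orderOf_eq_one_iff.mp hx1)
  set y := x ^ (orderOf x / q) with hy
  have hoy : orderOf y = q := orderOf_pow_orderOf_div (orderOf_pos x).ne' hqd
  have hyW : y ∈ W := W.pow_mem hxW _
  have hyinv : j * y * j⁻¹ = y⁻¹ := by rw [hy, ← conj_pow, hxinv, inv_pow]
  have hq2 : q ≠ 2 := fun h => Nat.not_even_iff_odd.mpr hodd
    (even_iff_two_dvd.mpr (h ▸ (hqd.trans hox)))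
  set Z := zpowers y with hZ
  have hZU : Z ≤ U := zpowers_le.mpr hyW.1
  have hBZ : B ≤ centralizer (Z : Set S) := le_centralizer_iff.mp (zpowers_le.mpr hyW.2)
  have hjZ : j ∉ centralizer (Z : Set S) := by
    intro h
    have h1 : y⁻¹ = y := by
      rw [← hyinv, mul_inv_eq_iff_eq_mul]
      exact (mem_centralizer_iff.mp h y (mem_zpowers y)).symm
    have h2 : y ^ 2 = 1 := by rw [pow_two]; exact inv_eq_iff_mul_eq_one.mp h1
    have h3 := orderOf_dvd_of_pow_eq_one h2
    rw [hoy] at h3
    exact hq2 ((Nat.prime_dvd_prime_iff_eq hq Nat.prime_two).mp h3)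
  -- elements of `I` lie in `B` or in `B a`
  have hcase : ∀ t ∈ I, t ∈ B ∨ ∃ b ∈ B, t = b * a := by
    intro t ht
    rw [← hBa] at ht
    have hn' : zpowers a ≤ normalizer (B : Set S) := by
      refine le_trans ?_ (centralizer_le_normalizer _)
      exact zpowers_le.mpr (mem_centralizer_iff.mpr fun b hb => hcomm (hBI hb) haI)
    rw [← SetLike.mem_coe, coe_mul_of_right_le_normalizer_left B (zpowers a) hn'] at ht
    obtain ⟨b, hb, c, hc, rfl⟩ := ht
    obtain ⟨k, rfl⟩ := mem_zpowers_iff.mp hc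
    have ha2 : a * a = 1 := by rw [← pow_two]; exact hI2 a haI
    rcases Int.even_or_odd k with ⟨l, rfl⟩ | ⟨l, rfl⟩
    · left
      show b * a ^ (l + l) ∈ B
      rw [zpow_add, ← (Commute.refl a).mul_zpow, ha2, one_zpow, mul_one]
      exact hb
    · right
      refine ⟨b, hb, ?_⟩
      show b * a ^ (2 * l + 1) = b * a
      rw [zpow_add, two_mul, zpow_add, ← (Commute.refl a).mul_zpow, ha2, one_zpow, one_mul,
        zpow_one]
  refine ⟨Z, hZU, by rwa [hZ, Nat.card_zpowers, hoy], ?_, hjZ, ?_⟩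
  · have hjn : j ∈ normalizer (Z : Set S) := by
      refine Cfsg.Agent.Coprime.mem_normalizer_of_conj_smul_eq ?_
      show Z.map (MulAut.conj j).toMonoidHom = Z
      rw [hZ, MonoidHom.map_zpowers]
      show zpowers (j * y * j⁻¹) = _
      rw [hyinv, zpowers_inv]
    have han : a ∈ normalizer (Z : Set S) := by
      rcases hcase j hjI with h | ⟨b, hb, h⟩
      · exact absurd (hBZ h) hjZ
      · rw [show a = b⁻¹ * j by rw [h]; group]
        exact mul_mem (inv_mem (centralizer_le_normalizer _ (hBZ hb))) hjn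
    rw [← hBa]
    exact sup_le (hBZ.trans (centralizer_le_normalizer _)) (zpowers_le.mpr han)
  · intro t ht t' ht' h h'
    obtain ⟨b, hb, rfl⟩ := (hcase t ht).resolve_left fun hB => h (hBZ hB)
    obtain ⟨b', hb', rfl⟩ := (hcase t' ht').resolve_left fun hB => h' (hBZ hB)
    have ha2 : a * a = 1 := by rw [← pow_two]; exact hI2 a haI
    rw [show b * a * (b' * a) = b * (a * b') * a by group, hcomm haI (hBI hb'),
      show b * (b' * a) * a = b * b' * (a * a) by group, ha2, mul_one]
    exact hBZ (mul_mem hb hb')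

/-- A `2`-group centralising `C_U(Z)` centralises the nilpotent group `U`. -/
theorem le_centralizer_of_factor {Q Z U : Subgroup S} [Group.IsNilpotent U] (hQ : IsPGroup 2 Q)
    (hodd : Odd (Nat.card U)) (hQU : Q ≤ normalizer (U : Set S)) (hZU : Z ≤ U)
    (hZ : (Nat.card Z).Prime) (hQZ : Q ≤ centralizer (Z : Set S))
    (h : Q ≤ centralizer ((U ⊓ centralizer (Z : Set S) : Subgroup S) : Set S)) :
    Q ≤ centralizer (U : Set S) := by
  have htop : U = (Cfsg.fittingSubgroup U).map U.subtype := by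
    rw [fittingSubgroup_eq_top_iff.mpr inferInstance, ← MonoidHom.range_eq_map, range_subtype]
  rw [le_centralizer_iff]
  conv_lhs => rw [htop, fittingSubgroup_eq_iSup_pCore, Subgroup.map_iSup]
  refine iSup_le fun r => le_centralizer_iff.mp ?_
  have hr := Nat.prime_of_mem_primeFactors r.2
  have := Fact.mk hr
  set q := Nat.card Z with hq
  have := Fact.mk hZ
  set Ur := (Cfsg.pCore (r : ℕ) U).map U.subtype with hUr
  have hUrU : Ur ≤ U := map_subtype_le _
  have := pCore_normal' (G := U) (r : ℕ)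
  have hchar : (Cfsg.pCore (r : ℕ) U).Characteristic := characteristic_iff_map_le.mpr fun e =>
    Cfsg.Agent.PCore.map_pCore_le e.toMonoidHom e.surjective
  have hQr : Q ≤ normalizer (Ur : Set S) :=
    hQU.trans (normalizer_le_normalizer_map_of_characteristic U _)
  have hUrp : IsPGroup (r : ℕ) Ur := (isPGroup_pCore' _).map _
  by_cases hrq : (r : ℕ) = q
  · obtain ⟨k, hk⟩ := hQ.exists_card_eq
    refine Cfsg.Agent.Coprime.le_centralizer_of_pq (P := Z)
      (IsPGroup.of_card (n := 1) (by rw [pow_one, hrq, hq])) ?_ hUrp (le_centralizer_iff.mp hQZ)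
      ?_ hQr (le_centralizer_iff.mp (h.trans (centralizer_le (inf_le_inf_right _ hUrU))))
    · rw [hk]
      refine Nat.Coprime.pow_left k ((Nat.coprime_primes Nat.prime_two hr).mpr fun e => ?_)
      exact Nat.not_even_iff_odd.mpr hodd (even_iff_two_dvd.mpr
        (e ▸ (hrq ▸ dvd_rfl : (r : ℕ) ∣ q).trans (card_dvd_of_le hZU)))
    · refine hZU.trans (le_trans ?_ ((Cfsg.pCore (r : ℕ) U).le_normalizer_map U.subtype))
      rw [normalizer_eq_top, ← MonoidHom.range_eq_map, range_subtype]
  · refine h.trans (centralizer_le (le_inf hUrU ?_))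
    intro u hu
    refine mem_centralizer_iff.mpr fun z hz => ?_
    obtain ⟨⟨u, huU⟩, hu', rfl⟩ := hu
    obtain ⟨l, hl⟩ := isPGroup_pCore' (G := U) (r : ℕ) ⟨_, hu'⟩
    have hcop : (orderOf (⟨z, hZU hz⟩ : U)).Coprime (r : ℕ) := by
      rw [Subgroup.orderOf_mk]
      refine ((Nat.coprime_primes hZ hr).mpr (Ne.symm hrq)).coprime_dvd_left ?_
      have := orderOf_dvd_natCard (⟨z, hz⟩ : Z)
      rwa [Subgroup.orderOf_mk] at this
    exact congrArg Subtype.val (Cfsg.Agent.Subnormal.commute_of_coprime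
      (u := (⟨u, huU⟩ : U)) (k := l) (congrArg Subtype.val hl) hcop).eq

theorem main {F I : Subgroup S} [Group.IsNilpotent F] (hodd : Odd (Nat.card F))
    (hIab : IsMulCommutative I) (hI2 : ∀ t ∈ I, t ^ 2 = 1) :
    ∀ m : ℕ, ∀ J U : Subgroup S, J ≤ I → U ≤ F → I ≤ normalizer (U : Set S) →
      J ⊓ centralizer (U : Set S) = ⊥ → Nat.card J = 2 ^ m →
      ∃ f : Fin m → Subgroup S, (∀ i, (Nat.card (f i)).Prime) ∧ (∀ i, f i ≤ U) ∧
        (∀ i, I ≤ normalizer (f i : Set S)) ∧
        (∀ i k, i ≠ k → f i ≤ centralizer (f k : Set S)) ∧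
        Nat.card ↥(⨆ i, f i) = ∏ i, Nat.card (f i) ∧
        J ⊓ centralizer ((⨆ i, f i : Subgroup S) : Set S) = ⊥ ∧
        ∀ i, ∀ t ∈ I, ∀ t' ∈ I, t ∉ centralizer (f i : Set S) → t' ∉ centralizer (f i : Set S) →
          t * t' ∈ centralizer (f i : Set S) := by
  have hI2g : IsPGroup 2 I := fun x => ⟨1, Subtype.ext (by simpa using hI2 x x.2)⟩
  intro m
  induction m with
  | zero =>
    intro J U _ _ _ _ hJ
    have hJb : J = ⊥ := card_eq_one.mp (by simpa using hJ)
    exact ⟨Fin.elim0, fun i => i.elim0, fun i => i.elim0, fun i => i.elim0, fun i => i.elim0,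
      by simp, by simp [hJb], fun i => i.elim0⟩
  | succ m ih =>
    intro J U hJI hUF hn hfaith hJ
    have hoddU : Odd (Nat.card U) := hodd.of_dvd_nat (card_dvd_of_le hUF)
    have : Group.IsNilpotent U := (Group.isNilpotent_congr (subgroupOfEquivOfLe hUF)).mp
      (Subgroup.isNilpotent (U.subgroupOf F))
    have hcop : (Nat.card I).Coprime (Nat.card U) := by
      obtain ⟨k, hk⟩ := hI2g.exists_card_eq
      rw [hk]
      exact Nat.Coprime.pow_left k (Nat.coprime_two_left.mpr hoddU)
    obtain ⟨j, hjJ, hj1⟩ : ∃ j ∈ J, j ≠ 1 := by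
      refine (Subgroup.ne_bot_iff_exists_ne_one.mp fun e => ?_).elim
        fun x hx => ⟨x, x.2, fun h => hx (Subtype.ext (by simpa using h))⟩
      rw [e, card_bot] at hJ
      exact absurd hJ (Nat.one_lt_two_pow (Nat.succ_ne_zero m)).ne
    obtain ⟨Z, hZU, hZp, hIZ, hjZ, hZ2⟩ := exists_factor hIab hI2 hcop hoddU hn (hJI hjJ)
      (fun h => hj1 (mem_bot.mp (hfaith ▸ ⟨hjJ, h⟩)))
    set J' := J ⊓ centralizer (Z : Set S) with hJ'
    set U' := U ⊓ centralizer (Z : Set S) with hU'
    have hIc : I ≤ normalizer ((centralizer (Z : Set S) : Subgroup S) : Set S) :=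
      Cfsg.Agent.Coprime.le_normalizer_centralizer hIZ
    have hnU' : I ≤ normalizer (U' : Set S) :=
      (le_inf hn hIc).trans inf_normalizer_le_normalizer_inf
    have hcardJ' : Nat.card J' = 2 ^ m := by
      set D := (centralizer (Z : Set S)).subgroupOf J with hD
      have hle : D.index ≤ 2 := index_le_two fun a b ha hb => hZ2 a (hJI a.2) b (hJI b.2) ha hb
      have hne : D.index ≠ 1 := fun h => hjZ (subgroupOf_eq_top.mp (index_eq_one.mp h) hjJ)
      have h0 : D.index ≠ 0 := D.index_ne_zero_of_finite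
      have h2 := D.card_mul_index
      rw [show D.index = 2 by omega, hJ, pow_succ, hD] at h2
      rw [← Cfsg.Agent.Coprime.card_subgroupOf (inf_le_left : J' ≤ J), inf_subgroupOf_left]
      exact Nat.eq_of_mul_eq_mul_right two_pos h2
    have hfaith' : J' ⊓ centralizer (U' : Set S) = ⊥ := by
      refine le_bot_iff.mp (hfaith ▸ le_inf (inf_le_left.trans inf_le_left) ?_)
      refine le_centralizer_of_factor (hI2g.to_le (inf_le_left.trans (inf_le_left.trans hJI))) hoddU
        ((inf_le_left.trans (inf_le_left.trans hJI)).trans hn) hZU hZp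
        (inf_le_left.trans inf_le_right) inf_le_right
    obtain ⟨f, hfp, hfU, hfn, hfc, hfcard, hff, hf2⟩ :=
      ih J' U' (inf_le_left.trans hJI) (inf_le_left.trans hUF) hnU' hfaith' hcardJ'
    set R := ⨆ i, f i with hR
    have hRZ : R ≤ centralizer (Z : Set S) := iSup_le fun i => (hfU i).trans inf_le_right
    have hsup : (⨆ i, (Fin.cons Z f : Fin (m + 1) → Subgroup S) i) = Z ⊔ R := by
      refine le_antisymm (iSup_le fun i => Fin.cases ?_ ?_ i)
        (sup_le (le_iSup_of_le 0 le_rfl) (iSup_le fun i => le_iSup_of_le i.succ le_rfl))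
      · exact le_sup_left
      · exact fun i => le_sup_of_le_right (by rw [Fin.cons_succ]; exact le_iSup f i)
    -- some element of `J` centralises the other factors but not `Z`
    obtain ⟨d, hdJ, hd1, hdR⟩ : ∃ d ∈ J, d ≠ 1 ∧ d ∈ centralizer (R : Set S) := by
      set D : Fin m → Subgroup J := fun i => (centralizer (f i : Set S)).subgroupOf J with hD
      have hidx : (⨅ i, D i).index ≤ 2 ^ m := (index_iInf_le D).trans
        ((Finset.prod_le_prod' fun i _ => index_le_two (H := D i) fun (a b : J) ha hb =>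
          hf2 i a (hJI a.2) b (hJI b.2) ha hb).trans (by simp))
      have h2 := (⨅ i, D i).card_mul_index
      rw [hJ] at h2
      have hne : (⨅ i, D i) ≠ ⊥ := by
        intro e
        rw [e, index_bot, hJ] at hidx
        exact absurd hidx (not_le.mpr (Nat.pow_lt_pow_right one_lt_two (Nat.lt_succ_self m)))
      obtain ⟨⟨d, hd⟩, hd1⟩ := Subgroup.ne_bot_iff_exists_ne_one.mp hne
      refine ⟨d, d.2, fun h => hd1 (Subtype.ext (Subtype.ext h)), ?_⟩
      have hle : R ≤ centralizer {(d : S)} := iSup_le fun i x hx =>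
        mem_centralizer_singleton_iff.mpr
          (mem_centralizer_iff.mp (mem_iInf.mp hd i) x hx)
      exact mem_centralizer_iff.mpr fun x hx => mem_centralizer_singleton_iff.mp (hle hx)
    have hdZ : d ∉ centralizer (Z : Set S) := fun h =>
      hd1 (mem_bot.mp (hff ▸ ⟨⟨hdJ, h⟩, hdR⟩))
    have hdisj : Z ⊓ R = ⊥ := by
      refine (Subgroup.eq_bot_of_card_eq _ ?_)
      rcases (Nat.dvd_prime hZp).mp (card_dvd_of_le (inf_le_left : Z ⊓ R ≤ Z)) with h | h
      · exact h
      · exfalso
        have := Subgroup.eq_of_le_of_card_ge (inf_le_left : Z ⊓ R ≤ Z) h.ge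
        exact hdZ (centralizer_le (SetLike.coe_subset_coe.mpr (inf_eq_left.mp this)) hdR)
    refine ⟨Fin.cons Z f, ?_, ?_, ?_, ?_, ?_, ?_, ?_⟩
    · exact fun i => Fin.cases hZp hfp i
    · exact fun i => Fin.cases hZU (fun i => (hfU i).trans inf_le_left) i
    · exact fun i => Fin.cases hIZ hfn i
    · intro i k hik
      induction i using Fin.cases with
      | zero =>
        induction k using Fin.cases with
        | zero => exact absurd rfl hik
        | succ k => simpa using le_centralizer_iff.mp ((hfU k).trans inf_le_right)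
      | succ i =>
        induction k using Fin.cases with
        | zero => simpa using (hfU i).trans inf_le_right
        | succ k => simpa using hfc i k fun e => hik (congrArg Fin.succ e)
    · rw [hsup, Fin.prod_univ_succ, Fin.cons_zero]
      simp only [Fin.cons_succ]
      rw [← hfcard, Cfsg.Agent.Coprime.card_sup_of_le_normalizer
        ((le_centralizer_iff.mp hRZ).trans (centralizer_le_normalizer _)) hdisj]
    · rw [hsup, eq_bot_iff, ← hff]
      exact le_inf (le_inf inf_le_left (inf_le_right.trans (centralizer_le (SetLike.coe_subset_coe.mpr le_sup_left))))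
        (inf_le_right.trans (centralizer_le (SetLike.coe_subset_coe.mpr le_sup_right)))
    · exact fun i => Fin.cases hZ2 hf2 i

/-- Let S be a finite solvable group whose Fitting subgroup F(S) has odd order, and let I be an elementary abelian 2-subgroup of S of order 2ⁿ with n ≥ 1. Then F(S) contains subgroups A₁, …, Aₙ of prime order, each normalized by I, pairwise commuting and generating a subgroup A of order |A₁|⋯|Aₙ| (their internal direct product), such that no non-identity element of I centralizes A. -/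
theorem result {S : Type*} [Group S] [Finite S]
    [Group.IsSolvable S] (hF : Odd (Nat.card ↥(Cfsg.fittingSubgroup S)))
    (I : Subgroup S) (hI : Cfsg.IsElementaryAbelian 2 I) (n : ℕ) (hn : 1 ≤ n) (hIn : Nat.card ↥I = 2 ^ n) :
    ∃ f : Fin n → Subgroup S, (∀ i, (Nat.card ↥(f i)).Prime) ∧ (∀ i, f i ≤ Cfsg.fittingSubgroup S) ∧
      (∀ i, I ≤ Subgroup.normalizer ((f i) : Set S)) ∧ (∀ i j, i ≠ j → ∀ a ∈ f i, ∀ b ∈ f j, a * b = b * a) ∧
      Nat.card ↥(⨆ i, f i) = ∏ i, Nat.card ↥(f i) ∧ I ⊓ Subgroup.centralizer ((⨆ i, f i : Subgroup S) : Set S) = ⊥ := by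
  have hI2 : ∀ t ∈ I, t ^ 2 = 1 := hI.2
  have hfaith : I ⊓ centralizer (Cfsg.fittingSubgroup S : Set S) = ⊥ := by
    refine le_bot_iff.mp (le_trans (inf_le_inf_left I centralizer_fittingSubgroup_le) ?_)
    refine (Cfsg.Agent.Coprime.disjoint_of_coprime_card ?_).le
    rw [hIn]
    exact Nat.Coprime.pow_left n (Nat.coprime_two_left.mpr hF)
  obtain ⟨f, h1, h2, h3, h4, h5, h6, -⟩ := main hF hI.1 hI2 n I (Cfsg.fittingSubgroup S) le_rfl
    le_rfl (le_top.trans_eq (normalizer_eq_top _).symm) hfaith hIn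
  exact ⟨f, h1, h2, h3,
    fun i j hij a ha b hb => (mem_centralizer_iff.mp (h4 i j hij ha) b hb).symm, h5, h6⟩

end Cfsg.Agent.S4408
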