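import Cfsg.Statements.S4410
import Cfsg.Agent.Lib.Components.PAction

set_option autoImplicit false
open Cfsg

namespace Cfsg.Agent.S4410

variable {V : Type*} [AddCommGroup V] [Module (ZMod 2) V] [Finite V]

/-- The automorphisms moving every vector inside its coset of `W`. -/
def moveIn (W : Submodule (ZMod 2) V) : Subgroup (V ≃ₗ[ZMod 2] V) where
  carrier := {g | ∀ v, g v - v ∈ W}
  mul_mem' := fun {f g} hf hg v => by
    show f (g v) - v ∈ W
    rw [← sub_add_sub_cancel (f (g v)) (g v) v]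
    exact W.add_mem (hf _) (hg v)
  one_mem' := fun v => by simp
  inv_mem' := fun {g} hg v => by
    have h := hg (g⁻¹ v)
    rw [show g (g⁻¹ v) = v from g.apply_symm_apply v] at h
    simpa using W.neg_mem h

omit [Finite V] in
theorem moveIn_mono {W W' : Submodule (ZMod 2) V} (h : W ≤ W') : moveIn W ≤ moveIn W' :=
  fun _ hg v => h (hg v)

omit [Finite V] in
theorem moveIn_maps {W : Submodule (ZMod 2) V} {g : V ≃ₗ[ZMod 2] V} (hg : g ∈ moveIn W) {w : V}
    (hw : w ∈ W) : g w ∈ W := by simpa using W.add_mem (hg w) hw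

omit [Finite V] in
theorem sq_eq_one {W : Submodule (ZMod 2) V} {g : V ≃ₗ[ZMod 2] V} (hg : g ∈ moveIn W)
    (hfix : ∀ w ∈ W, g w = w) : g ^ 2 = 1 := by
  refine LinearEquiv.ext fun v => ?_
  show g (g v) = v
  have h := hfix _ (hg v)
  rw [map_sub] at h
  have h2 : g (g v) = g v - v + g v := sub_eq_iff_eq_add.mp h
  rw [h2, sub_add_eq_add_sub, ← two_smul (ZMod 2) (g v), show (2 : ZMod 2) = 0 from rfl, zero_smul,
    zero_sub]
  exact ZModModule.neg_eq_self v

omit [Finite V] in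
theorem eq_one_of_fix {p : ℕ} (hp : p.Prime) (hp2 : p ≠ 2) {W : Submodule (ZMod 2) V}
    {g : V ≃ₗ[ZMod 2] V} (hg : g ∈ moveIn W) (hfix : ∀ w ∈ W, g w = w) {k : ℕ}
    (hk : g ^ p ^ k = 1) : g = 1 := by
  have hd := Nat.dvd_gcd (orderOf_dvd_of_pow_eq_one hk)
    (orderOf_dvd_of_pow_eq_one (sq_eq_one hg hfix))
  rw [Nat.Coprime.gcd_eq_one (((Nat.coprime_primes hp Nat.prime_two).mpr hp2).pow_left k),
    Nat.dvd_one, orderOf_eq_one_iff] at hd
  exact hd

/-- Restriction to `W`. -/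
def restr (W : Submodule (ZMod 2) V) : moveIn W →* (W ≃ₗ[ZMod 2] W) where
  toFun g :=
    { toFun := fun w => ⟨g.1 w, moveIn_maps g.2 w.2⟩
      invFun := fun w => ⟨g.1⁻¹ w, moveIn_maps (inv_mem g.2) w.2⟩
      map_add' := fun x y => Subtype.ext (map_add g.1 (x : V) (y : V))
      map_smul' := fun c x => Subtype.ext (map_smul g.1 c (x : V))
      left_inv := fun w => Subtype.ext (g.1.symm_apply_apply w)
      right_inv := fun w => Subtype.ext (g.1.apply_symm_apply w) }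
  map_one' := rfl
  map_mul' _ _ := rfl

/-- A subgroup of odd prime-power order moving inside `W` embeds in `GL(W)`. -/
theorem card_dvd_of_moveIn {p : ℕ} (hp : p.Prime) (hp2 : p ≠ 2) {W : Submodule (ZMod 2) V}
    {H : Subgroup (V ≃ₗ[ZMod 2] V)} (hH : IsPGroup p H) (hle : H ≤ moveIn W) :
    Nat.card H ∣ Nat.card (W ≃ₗ[ZMod 2] W) := by
  refine Subgroup.card_dvd_of_injective ((restr W).comp (Subgroup.inclusion hle))
    ((injective_iff_map_eq_one _).mpr ?_)
  rintro ⟨g, hg⟩ h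
  obtain ⟨k, hk⟩ := hH ⟨g, hg⟩
  refine Subtype.ext (eq_one_of_fix hp hp2 (hle hg) (fun w hw => ?_) (congrArg Subtype.val hk))
  exact congrArg Subtype.val (LinearEquiv.congr_fun h ⟨w, hw⟩)

theorem card_glEquiv {W : Type*} [AddCommGroup W] [Module (ZMod 2) W] [Finite W] :
    (Nat.card W ≤ 4 → Nat.card (W ≃ₗ[ZMod 2] W) ∣ 6) ∧
      (Nat.card W ≤ 8 → Nat.card (W ≃ₗ[ZMod 2] W) ∣ 168) := by
  haveI : Fact (Nat.Prime 2) := ⟨Nat.prime_two⟩
  set d := Module.finrank (ZMod 2) W with hd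
  have hW : Nat.card W = 2 ^ d := by
    rw [Module.natCard_eq_pow_finrank (K := ZMod 2), Nat.card_zmod]
  let b : Module.Basis (Fin d) (ZMod 2) W := Module.finBasis (ZMod 2) W
  have e1 : Nat.card (W ≃ₗ[ZMod 2] W) = Nat.card (Matrix.GeneralLinearGroup (Fin d) (ZMod 2)) :=
    Nat.card_congr (((LinearMap.GeneralLinearGroup.generalLinearEquiv (ZMod 2) W).symm.trans
      (Units.mapEquiv (LinearMap.toMatrixAlgEquiv b).toMulEquiv))).toEquiv
  rw [e1, Matrix.card_GL_field, hW, ZMod.card]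
  clear b
  clear_value d
  constructor <;> intro h
  · have : d ≤ 2 := by
      by_contra hh; push Not at hh
      have := Nat.pow_le_pow_right (show 0 < 2 by norm_num) hh
      omega
    interval_cases d <;> decide
  · have : d ≤ 3 := by
      by_contra hh; push Not at hh
      have := Nat.pow_le_pow_right (show 0 < 2 by norm_num) hh
      omega
    interval_cases d <;> decide

theorem card_sup_le (A B : Submodule (ZMod 2) V) :
    Nat.card ↥(A ⊔ B) ≤ Nat.card A * Nat.card B := by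
  rw [← Nat.card_prod]
  refine Nat.card_le_card_of_surjective (fun x : A × B => (⟨x.1 + x.2, Submodule.add_mem_sup x.1.2 x.2.2⟩ : ↥(A ⊔ B))) ?_
  rintro ⟨x, hx⟩
  obtain ⟨a, ha, b, hb, rfl⟩ := Submodule.mem_sup.mp hx
  exact ⟨(⟨a, ha⟩, ⟨b, hb⟩), rfl⟩

theorem card_map_le (A : Submodule (ZMod 2) V) (z : V ≃ₗ[ZMod 2] V) :
    Nat.card ↥(A.map (z : V →ₗ[ZMod 2] V)) = Nat.card A :=
  (Nat.card_congr (z.submoduleMap A).toEquiv).symm

omit [Finite V] in
theorem conj_mem_moveIn {D : Submodule (ZMod 2) V} {t : V ≃ₗ[ZMod 2] V} (ht : t ∈ moveIn D)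
    (z : V ≃ₗ[ZMod 2] V) : z * t * z⁻¹ ∈ moveIn (D.map (z : V →ₗ[ZMod 2] V)) := fun v =>
  ⟨t (z⁻¹ v) - z⁻¹ v, ht _, by
    show z (t (z⁻¹ v) - z⁻¹ v) = z (t (z⁻¹ v)) - v
    rw [map_sub, show z (z⁻¹ v) = v from z.apply_symm_apply v]⟩

omit [Finite V] in
/-- An element of odd order inverted by `t` lies in `moveIn (D ⊔ zD)`. -/
theorem inverted_mem_moveIn {D : Submodule (ZMod 2) V} {t y : V ≃ₗ[ZMod 2] V}
    (ht : t ∈ moveIn D) (ht2 : t * t = 1) (hty : t * y * t⁻¹ = y⁻¹) {m : ℕ}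
    (hm : y ^ (2 * m + 1) = 1) :
    ∃ z : V ≃ₗ[ZMod 2] V, y ∈ moveIn (D.map (z : V →ₗ[ZMod 2] V) ⊔ D) := by
  refine ⟨y ^ (m + 1), ?_⟩
  set z := y ^ (m + 1) with hz
  have hzz : z * z = y := by
    rw [hz, ← pow_add, show m + 1 + (m + 1) = (2 * m + 1) + 1 by ring, pow_succ, hm, one_mul]
  have htz : t * z⁻¹ = z * t := by
    have : t * z * t⁻¹ = z⁻¹ := by rw [hz, ← conj_pow, hty, inv_pow]
    rw [← this, ← mul_assoc, ← mul_assoc, ht2, one_mul, ← eq_inv_of_mul_eq_one_left ht2]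
  have he : y = z * t * z⁻¹ * t := by
    rw [mul_assoc z t z⁻¹, htz, ← mul_assoc, mul_assoc, ht2, mul_one, hzz]
  rw [he]
  exact mul_mem (moveIn_mono le_sup_left (conj_mem_moveIn ht z)) (moveIn_mono le_sup_right ht)

/-- Let V be a finite-dimensional vector space over the field with two elements and S a solvable group of linear automorphisms of V with O₂(S) = 1. If P ∈ S has order 4 and (P − 1)³ = 0 on V, then the image of (P − 1)² has at least 4 elements; equivalently, in the decomposition of V into indecomposable modules for the cyclic group generated by P, at least two summands have dimension 3. -/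
theorem result
    {V : Type*} [AddCommGroup V] [Module (ZMod 2) V] [Finite V]
    (S : Subgroup (V ≃ₗ[ZMod 2] V)) (hS : Group.IsSolvable ↥S) (hO2 : Cfsg.pCore 2 ↥S = ⊥)
    (P : V ≃ₗ[ZMod 2] V) (hPS : P ∈ S) (hP4 : orderOf P = 4)
    (hcub : ((P : V →ₗ[ZMod 2] V) - LinearMap.id) ^ 3 = 0) :
    4 ≤ Nat.card ↥(LinearMap.range (((P : V →ₗ[ZMod 2] V) - LinearMap.id) ^ 2)) := by
  haveI : Fact (Nat.Prime 2) := ⟨Nat.prime_two⟩
  have : Finite (V ≃ₗ[ZMod 2] V) := Finite.of_injective _ DFunLike.coe_injective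
  by_contra hlt
  push Not at hlt
  set N : V →ₗ[ZMod 2] V := (P : V →ₗ[ZMod 2] V) - LinearMap.id with hN
  set D := LinearMap.range (N ^ 2) with hD
  set t : V ≃ₗ[ZMod 2] V := P ^ 2 with ht
  have ht2 : t * t = 1 := by rw [ht, ← pow_add, show 2 + 2 = orderOf P by rw [hP4], pow_orderOf_eq_one]
  have htne : t ≠ 1 := fun h => by
    have := orderOf_dvd_of_pow_eq_one h
    rw [hP4] at this
    norm_num at this
  have htv : ∀ v, t v - v = (N ^ 2) v := by
    intro v
    show P (P v) - v = P (P v - v) - (P v - v)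
    rw [map_sub, sub_sub, show P v + (P v - v) = (P v + P v) - v by abel, ZModModule.add_self,
      zero_sub, ZModModule.neg_eq_self]
  have htD : t ∈ moveIn D := fun v => ⟨v, (htv v).symm⟩
  have hDcard : Nat.card D ≤ 2 := by
    have h1 : Nat.card D ∣ 2 ^ Module.finrank (ZMod 2) V := by
      have := AddSubgroup.card_addSubgroup_dvd_card D.toAddSubgroup
      rwa [Module.natCard_eq_pow_finrank (K := ZMod 2) (V := V), Nat.card_zmod] at this
    obtain ⟨k, -, hk⟩ := (Nat.dvd_prime_pow Nat.prime_two).mp h1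
    rw [hk] at hlt ⊢
    rcases k with _ | _ | k
    · norm_num
    · norm_num
    · exfalso
      have := Nat.one_le_two_pow (n := k)
      rw [pow_add] at hlt
      omega
  -- the Fitting subgroup has odd order, `t` moves some `O_p(S)`
  set tS : S := ⟨t, pow_mem hPS 2⟩ with htS
  have htF : tS ∉ Subgroup.centralizer (fittingSubgroup S : Set S) := by
    intro h
    have h' := Subgroup.orderOf_dvd_natCard _ (Components.centralizer_fittingSubgroup_le h)
    have ho : orderOf tS = 2 := by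
      rw [← Subgroup.orderOf_coe]
      exact orderOf_eq_prime (by rw [pow_two]; exact ht2) htne
    rw [ho] at h'
    exact Nat.prime_two.coprime_iff_not_dvd.mp
      (Components.coprime_card_fittingSubgroup (p := 2) hO2).symm h'
  obtain ⟨p, hp, hp2, x, hx, htx⟩ : ∃ p : ℕ, p.Prime ∧ p ≠ 2 ∧
      ∃ x ∈ pCore p S, x * tS ≠ tS * x := by
    by_contra hall
    push Not at hall
    apply htF
    rw [Components.fittingSubgroup_eq_iSup_pCore]
    have hle : (⨆ p : (Nat.card S).primeFactors, pCore (p : ℕ) S) ≤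
        Subgroup.centralizer ({tS} : Set S) := by
      refine iSup_le fun p x hx => Subgroup.mem_centralizer_singleton_iff.mpr ?_
      by_cases hp2 : (p : ℕ) = 2
      · rw [hp2, hO2, Subgroup.mem_bot] at hx
        simp [hx]
      · exact hall p (Nat.prime_of_mem_primeFactors p.2) hp2 x hx
    rw [Subgroup.mem_centralizer_iff]
    exact fun y hy => Subgroup.mem_centralizer_singleton_iff.mp (hle hy)
  haveI : Fact p.Prime := ⟨hp⟩
  set O := (pCore p S).map S.subtype with hO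
  have hOp : IsPGroup p O := (Components.isPGroup_pCore' p).map _
  have hOconj : ∀ (g : S), ∀ w ∈ O, (g : V ≃ₗ[ZMod 2] V) * w * (g : V ≃ₗ[ZMod 2] V)⁻¹ ∈ O := by
    rintro g _ ⟨w, hw, rfl⟩
    exact ⟨g * w * g⁻¹, (Components.pCore_normal' p).conj_mem w hw g, rfl⟩
  have hinv : ∀ w ∈ O, ∃ m, w ^ (2 * m + 1) = 1 := by
    intro w hw
    obtain ⟨k, hk⟩ := hOp ⟨w, hw⟩
    obtain ⟨m, hm⟩ : Odd (p ^ k) := (hp.odd_of_ne_two hp2).pow
    exact ⟨m, hm ▸ congrArg Subtype.val hk⟩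
  have htinv : t⁻¹ = t := (eq_inv_of_mul_eq_one_left ht2).symm
  set xV : V ≃ₗ[ZMod 2] V := (x : V ≃ₗ[ZMod 2] V) with hxV
  set y₀ : V ≃ₗ[ZMod 2] V := xV⁻¹ * (t * xV * t⁻¹) with hy₀
  have hy₀O : y₀ ∈ O := mul_mem (inv_mem ⟨x, hx, rfl⟩) (hOconj tS xV ⟨x, hx, rfl⟩)
  have hy₀ne : y₀ ≠ 1 := by
    intro h
    rw [hy₀, inv_mul_eq_one, eq_mul_inv_iff_mul_eq] at h
    exact htx (Subtype.ext h)
  have hty₀ : t * y₀ * t⁻¹ = y₀⁻¹ := by
    rw [hy₀]
    simp only [mul_inv_rev, inv_inv, htinv]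
    rw [show t * (xV⁻¹ * (t * xV * t)) * t = t * xV⁻¹ * t * xV * (t * t) by group, ht2, mul_one]
    group
  -- `y₀` has order 3
  obtain ⟨m₀, hm₀⟩ := hinv _ hy₀O
  obtain ⟨z₀, hz₀⟩ := inverted_mem_moveIn htD ht2 hty₀ hm₀
  set W₀ := D.map (z₀ : V →ₗ[ZMod 2] V) ⊔ D with hW₀
  have hW₀card : Nat.card W₀ ≤ 4 := by
    refine (card_sup_le _ _).trans ?_
    rw [card_map_le]
    exact Nat.mul_le_mul hDcard hDcard
  have hzp : IsPGroup p (Subgroup.zpowers y₀) := hOp.to_le (Subgroup.zpowers_le.mpr hy₀O)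
  have hord : orderOf y₀ ∣ 6 := by
    rw [← Nat.card_zpowers]
    exact (card_dvd_of_moveIn hp hp2 hzp (Subgroup.zpowers_le.mpr hz₀)).trans
      (card_glEquiv.1 hW₀card)
  obtain ⟨k₀, hk₀⟩ : ∃ k, orderOf y₀ = p ^ k := by
    obtain ⟨k, hk⟩ := hzp.exists_card_eq
    exact ⟨k, by rw [← Nat.card_zpowers, hk]⟩
  have hk₀0 : k₀ ≠ 0 := fun h => hy₀ne (orderOf_eq_one_iff.mp (by rw [hk₀, h, pow_zero]))
  have hp3 : p = 3 := by
    have h6 : p ∣ 2 * 3 := (dvd_pow_self p hk₀0).trans (hk₀ ▸ hord)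
    rcases hp.dvd_mul.mp h6 with h | h
    · exact absurd ((Nat.prime_dvd_prime_iff_eq hp Nat.prime_two).mp h) hp2
    · exact (Nat.prime_dvd_prime_iff_eq hp Nat.prime_three).mp h
  -- the conjugate under `P` is a power of `y₀`
  have hPt : P * t * P⁻¹ = t := by rw [ht]; group
  set y := P * y₀ * P⁻¹ with hy
  have hyO : y ∈ O := hOconj ⟨P, hPS⟩ y₀ hy₀O
  have hty : t * y * t⁻¹ = y⁻¹ := by
    have : t * y * t⁻¹ = P * (t * y₀ * t⁻¹) * P⁻¹ := by
      rw [hy, ht]; group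
    rw [this, hty₀, hy]; group
  obtain ⟨m, hm⟩ := hinv _ hyO
  obtain ⟨z, hz⟩ := inverted_mem_moveIn htD ht2 hty hm
  set W := D.map (z : V →ₗ[ZMod 2] V) ⊔ W₀ with hW
  have hWcard : Nat.card W ≤ 8 := by
    refine (card_sup_le _ _).trans ?_
    rw [card_map_le]
    exact Nat.mul_le_mul hDcard hW₀card
  set H := Subgroup.zpowers y₀ ⊔ Subgroup.zpowers y with hH
  have hHO : H ≤ O := sup_le (Subgroup.zpowers_le.mpr hy₀O) (Subgroup.zpowers_le.mpr hyO)
  have hHW : H ≤ moveIn W := sup_le (Subgroup.zpowers_le.mpr (moveIn_mono le_sup_right hz₀))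
    (Subgroup.zpowers_le.mpr (moveIn_mono (sup_le le_sup_left (le_sup_right.trans le_sup_right)) hz))
  have hHcard : Nat.card H ≤ 3 := by
    have hd := (card_dvd_of_moveIn hp hp2 (hOp.to_le hHO) hHW).trans (card_glEquiv.2 hWcard)
    obtain ⟨k, hk⟩ := (hOp.to_le hHO).exists_card_eq
    rw [hk, hp3] at hd ⊢
    rcases k with _ | _ | k
    · norm_num
    · norm_num
    · exfalso
      have : 9 ∣ 168 := (Dvd.intro (3 ^ k) (by ring)).trans hd
      norm_num at this
  have hyz : y ∈ Subgroup.zpowers y₀ := by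
    have : Subgroup.zpowers y₀ = H := by
      refine Subgroup.eq_of_le_of_card_ge le_sup_left ?_
      rw [Nat.card_zpowers, hk₀, hp3]
      exact hHcard.trans (Nat.le_self_pow hk₀0 3)
    rw [this]
    exact Subgroup.mem_sup_right (Subgroup.mem_zpowers y)
  -- `P` acts on the commutator space `U` of `y₀`
  set U := LinearMap.range ((y₀ : V →ₗ[ZMod 2] V) - LinearMap.id) with hU
  have hy₀U : y₀ ∈ moveIn U := fun v => ⟨v, rfl⟩
  have hUcard : Nat.card U ≤ 4 := by
    have hle : U ≤ W₀ := by rintro _ ⟨v, rfl⟩; exact hz₀ v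
    exact (Nat.card_le_card_of_injective _ (Submodule.inclusion_injective hle)).trans hW₀card
  have hPU : ∀ u ∈ U, P u ∈ U := by
    rintro _ ⟨v, rfl⟩
    have hyU : y (P v) - P v ∈ U := (Subgroup.zpowers_le.mpr hy₀U) hyz (P v)
    have e : y (P v) = P (y₀ v) := by
      show P (y₀ (P⁻¹ (P v))) = _
      rw [show P⁻¹ (P v) = v from P.symm_apply_apply v]
    show P (y₀ v - v) ∈ U
    rwa [map_sub, ← e]
  let f : U →ₗ[ZMod 2] U := (P : V →ₗ[ZMod 2] V).restrict hPU
  have hfinj : Function.Injective f := fun a b h =>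
    Subtype.ext (P.injective (congrArg Subtype.val h))
  let e : U ≃ₗ[ZMod 2] U := LinearEquiv.ofBijective f ⟨hfinj, Finite.surjective_of_injective hfinj⟩
  have hepow : ∀ (n : ℕ) (u : U), ((e ^ n) u : V) = (P ^ n) (u : V) := by
    intro n
    induction n with
    | zero => intro u; rfl
    | succ n ih =>
      intro u
      rw [pow_succ, pow_succ]
      exact ih (e u)
  have he4 : e ^ 4 = 1 := LinearEquiv.ext fun u => Subtype.ext (by
    rw [hepow, ← hP4, pow_orderOf_eq_one]; rfl)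
  have he2 : e ^ 2 = 1 := by
    have : Finite (U ≃ₗ[ZMod 2] U) := Finite.of_injective _ DFunLike.coe_injective
    have h6 : orderOf e ∣ 6 := (orderOf_dvd_natCard e).trans (card_glEquiv.1 hUcard)
    have := Nat.dvd_gcd (orderOf_dvd_of_pow_eq_one he4) h6
    exact orderOf_dvd_iff_pow_eq_one.mp (by simpa using this)
  have htU : ∀ u ∈ U, t u = u := by
    intro u hu
    have h := hepow 2 ⟨u, hu⟩
    rw [he2] at h
    exact h.symm
  have hfix : ∀ u ∈ U, y₀ u = u := by
    intro u hu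
    have h := LinearEquiv.congr_fun hty₀ u
    change t (y₀ (t⁻¹ u)) = y₀⁻¹ u at h
    rw [htinv, htU u hu, htU _ (moveIn_maps hy₀U hu)] at h
    have h2 : y₀ (y₀ u) = u := by rw [h]; exact y₀.apply_symm_apply u
    have h3 : y₀ ^ 3 = 1 := by
      have : orderOf y₀ ∣ 3 := by
        have h6 := hord
        rw [hk₀, hp3] at h6 ⊢
        exact ((by norm_num : Nat.Coprime 3 2).pow_left k₀).dvd_of_dvd_mul_right (m := 3) (k := 3 ^ k₀) (n := 2) h6
      exact orderOf_dvd_iff_pow_eq_one.mp this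
    calc y₀ u = y₀ (y₀ (y₀ u)) := by rw [h2]
      _ = (y₀ ^ 3) u := rfl
      _ = u := by rw [h3]; rfl
  exact hy₀ne (eq_one_of_fix hp hp2 hy₀U hfix (hk₀ ▸ pow_orderOf_eq_one y₀))

end Cfsg.Agent.S4410
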