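import Cfsg.Statements.S4412
import Mathlib.GroupTheory.Subgroup.Centralizer
import Cfsg.Agent.Lib.PGroup.Frattini

set_option linter.style.haveILetI false

-- import your own Cfsg.Agent.* helpers here

set_option autoImplicit false
open Cfsg

namespace Cfsg.Agent.S4412

open scoped commutatorElement

section
variable {G : Type*} [Group G]

theorem eq_one_of_inv_eq [Finite G] (hodd : Odd (Nat.card G)) {x : G} (hx : x⁻¹ = x) : x = 1 := by
  have h2 : x ^ 2 = 1 := by rw [pow_two]; nth_rewrite 1 [← hx]; exact inv_mul_cancel x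
  exact orderOf_eq_one_iff.1 (Nat.eq_one_of_dvd_coprimes (Nat.coprime_two_left.2 hodd)
    (orderOf_dvd_of_pow_eq_one h2) (orderOf_dvd_natCard x))

/-- Fixed points of an involution lift through subgroups. -/
theorem exists_fix_lift [Finite G] (hodd : Odd (Nat.card G)) {u : MulAut G} (hu : u * u = 1)
    {N : Subgroup G} {x : G} (hx : x⁻¹ * u x ∈ N) : ∃ n ∈ N, u (x * n) = x * n := by
  set n := x⁻¹ * u x with hn
  have huu : ∀ y, u (u y) = y := fun y => by rw [← MulAut.mul_apply, hu, MulAut.one_apply]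
  have hun : u n = n⁻¹ := by rw [hn, map_mul, map_inv, huu, mul_inv_rev, inv_inv]
  obtain ⟨k, hk⟩ := Odd.of_dvd_nat hodd (orderOf_dvd_natCard n)
  refine ⟨n ^ (k + 1), pow_mem hx _, ?_⟩
  have hsq : n ^ (k + 1) * n ^ (k + 1) = n := by
    rw [← pow_add, show k + 1 + (k + 1) = orderOf n + 1 by omega, pow_succ, pow_orderOf_eq_one,
      one_mul]
  have hux : u x = x * n := by rw [hn, mul_inv_cancel_left]
  rw [map_mul, map_pow, hun, hux, inv_pow, mul_assoc, mul_right_inj]
  exact (eq_mul_inv_of_mul_eq hsq).symm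

end

section
variable {P : Type*} [Group P] [Finite P]

/-- The action on the Frattini quotient. -/
def act (T : MulAut P) : (P ⧸ frattini P) →* (P ⧸ frattini P) :=
  QuotientGroup.map _ _ T.toMonoidHom
    (le_of_eq (Subgroup.characteristic_iff_comap_eq.1 inferInstance T).symm)

theorem act_mk (T : MulAut P) (x : P) :
    act T (x : P ⧸ frattini P) = ((T x : P) : P ⧸ frattini P) := rfl

theorem act_mul (T T' : MulAut P) (x : P ⧸ frattini P) : act (T * T') x = act T (act T' x) :=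
  QuotientGroup.induction_on x fun _ => rfl

theorem act_one (x : P ⧸ frattini P) : act (1 : MulAut P) x = x :=
  QuotientGroup.induction_on x fun _ => rfl

/-- An automorphism of a cyclic subgroup that is `± 1` modulo `Φ` is `± 1`. -/
theorem eq_zpow_of_mod {p : ℕ} [hp : Fact p.Prime] (hp2 : p ≠ 2) (hP : IsPGroup p P)
    {T : MulAut P} {g : P} (hTT : T (T g) = g) (hg : T g ∈ Subgroup.zpowers g)
    (hord : orderOf (g : P ⧸ frattini P) = p) {ε : ℤ} (hε : ε = 1 ∨ ε = -1)
    (hmod : act T (g : P ⧸ frattini P) = (g : P ⧸ frattini P) ^ ε) : T g = g ^ ε := by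
  obtain ⟨a, ha⟩ := Subgroup.mem_zpowers_iff.1 hg
  have h1 : g ^ (a * a) = g ^ (1 : ℤ) := by
    rw [zpow_mul, ha, ← map_zpow, ha, hTT, zpow_one]
  have h2 : (g : P ⧸ frattini P) ^ a = (g : P ⧸ frattini P) ^ ε := by
    rw [← hmod, act_mk, ← ha, QuotientGroup.mk_zpow]
  rw [zpow_eq_zpow_iff_modEq, hord] at h2
  have hpd : (p : ℤ) ∣ ε - a := h2.dvd
  have hnd : ¬ (p : ℤ) ∣ a + ε := fun h => by
    have h3 := dvd_add hpd h
    rw [show ε - a + (a + ε) = 2 * ε by ring] at h3
    replace h3 : (p : ℤ) ∣ 2 := by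
      rcases hε with rfl | rfl <;> simpa using h3
    have h4 : p ∣ 2 := by exact_mod_cast h3
    exact hp2 ((Nat.prime_dvd_prime_iff_eq hp.out Nat.prime_two).1 h4)
  rw [← ha, zpow_eq_zpow_iff_modEq, Int.modEq_iff_dvd]
  rw [zpow_eq_zpow_iff_modEq, Int.modEq_iff_dvd] at h1
  obtain ⟨m, hm⟩ := IsPGroup.iff_orderOf.1 hP g
  have h5 : (orderOf g : ℤ) ∣ (ε - a) * (a + ε) := by
    have : (ε - a) * (a + ε) = 1 - a * a := by rcases hε with rfl | rfl <;> ring
    rwa [this]
  refine Int.dvd_of_dvd_mul_left_of_gcd_one h5 ?_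
  rw [Int.gcd_def, Int.natAbs_natCast, hm]
  exact Nat.Coprime.pow_left _ (hp.out.coprime_iff_not_dvd.2 fun h =>
    hnd (Int.natCast_dvd.2 h))

/-- Joint eigenvectors of commuting involutions generate the Frattini quotient. -/
theorem closure_eigen {p : ℕ} [hp : Fact p.Prime] (hp2 : p ≠ 2) (hP : IsPGroup p P)
    (hcomm : ∀ a b : P ⧸ frattini P, a * b = b * a) (S : Finset (MulAut P))
    (hS : ∀ T ∈ S, T * T = 1) (hSc : ∀ T ∈ S, ∀ T' ∈ S, T * T' = T' * T) :
    Subgroup.closure {x : P ⧸ frattini P | ∀ T ∈ S, act T x = x ∨ act T x = x⁻¹} = ⊤ := by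
  classical
  induction S using Finset.induction with
  | empty => simp
  | insert T S hT ih =>
    rw [eq_top_iff]
    refine le_trans (ih (fun a ha => hS a (Finset.mem_insert_of_mem ha)) fun a ha b hb =>
      hSc a (Finset.mem_insert_of_mem ha) b (Finset.mem_insert_of_mem hb)).ge ?_
    rw [Subgroup.closure_le]
    intro x hx
    letI : CommGroup (P ⧸ frattini P) :=
      { (inferInstance : Group (P ⧸ frattini P)) with mul_comm := hcomm }
    set y := act T x with hy
    have hxp : x ^ p = 1 := by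
      induction x using QuotientGroup.induction_on with
      | H z => rw [← QuotientGroup.mk_pow, QuotientGroup.eq_one_iff]; exact PGroup.pow_mem_frattini hP z
    obtain ⟨k, hk⟩ := hp.out.odd_of_ne_two hp2
    have hyy : act T y = x := by
      rw [hy, ← act_mul, hS T (Finset.mem_insert_self _ _), act_one]
    have key : (x * y) ^ (k + 1) * (x * y⁻¹) ^ (k + 1) = x := by
      rw [← mul_pow, mul_mul_mul_comm, mul_inv_cancel, mul_one, ← pow_two, ← pow_mul,
        show 2 * (k + 1) = p + 1 by omega, pow_succ, hxp, one_mul]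
    rw [← key]
    refine mul_mem (Subgroup.subset_closure ?_) (Subgroup.subset_closure ?_)
    · intro T' hT'
      rcases Finset.mem_insert.1 hT' with rfl | hT''
      · left; rw [map_pow, map_mul, ← hy, hyy, mul_comm]
      · have hc : act T' y = act T (act T' x) := by
          rw [hy, ← act_mul, ← act_mul, hSc T' hT' T (Finset.mem_insert_self _ _)]
        rcases hx T' hT'' with h | h
        · left; rw [map_pow, map_mul, hc, h, ← hy]
        · right; rw [map_pow, map_mul, hc, h, map_inv, ← hy, ← mul_inv, inv_pow]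
    · intro T' hT'
      rcases Finset.mem_insert.1 hT' with rfl | hT''
      · right; rw [map_pow, map_mul, map_inv, ← hy, hyy, ← inv_pow, mul_inv, inv_inv, mul_comm]
      · have hc : act T' y = act T (act T' x) := by
          rw [hy, ← act_mul, ← act_mul, hSc T' hT' T (Finset.mem_insert_self _ _)]
        rcases hx T' hT'' with h | h
        · left; rw [map_pow, map_mul, map_inv, hc, h, ← hy]
        · right; rw [map_pow, map_mul, map_inv, hc, h, map_inv, ← hy, ← mul_inv, inv_pow]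

end

section
variable {P : Type*} [Group P] [Finite P]

/-- Commutation modulo the third term of the lower central series. -/
theorem commute_mod (hodd : Odd (Nat.card P)) {N : Subgroup P} [N.Normal]
    (hN : ∀ (T : MulAut P), ∀ n ∈ N, T n ∈ N) (hcen : ∀ x y z : P, ⁅⁅x, y⁆, z⁆ ∈ N)
    {u T : MulAut P} {a b g : P} (hu : u * u = 1) (hua : u a = a⁻¹) (hub : u b = b⁻¹)
    (hTab : T ⁅a, b⁆ = ⁅a, b⁆ ∨ (T a = a ∧ T b = b) ∨ (T a = a⁻¹ ∧ T b = b⁻¹))
    (hfix : ∀ x, u x = x → x ∈ Subgroup.zpowers g) (hTg : T g = g⁻¹) :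
    Commute (a : P ⧸ N) (b : P ⧸ N) := by
  set π := QuotientGroup.mk' N
  have hz : ∀ x y z : P, Commute ⁅π x, π y⁆ (π z) := fun x y z => by
    rw [← commutatorElement_eq_one_iff_commute, ← map_commutatorElement, ← map_commutatorElement]
    exact (QuotientGroup.eq_one_iff _).2 (hcen x y z)
  have hinv : ∀ x y : P, π ⁅x⁻¹, y⁻¹⁆ = π ⁅x, y⁆ := fun x y => by
    have h := (hz x y (y * x)).eq
    rw [map_commutatorElement, map_commutatorElement, map_inv, map_inv]
    rw [map_mul] at h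
    calc ⁅(π x)⁻¹, (π y)⁻¹⁆ = (π y * π x)⁻¹ * (⁅π x, π y⁆ * (π y * π x)) := by
          simp only [commutatorElement_def]; group
      _ = ⁅π x, π y⁆ := by rw [h, inv_mul_cancel_left]
  set c := ⁅a, b⁆ with hc
  have hTc : π (T c) = π c := by
    rcases hTab with h | ⟨h1, h2⟩ | ⟨h1, h2⟩
    · rw [h]
    · rw [hc, map_commutatorElement T, h1, h2]
    · rw [hc, map_commutatorElement T, h1, h2, hinv]
  have huc : c⁻¹ * u c ∈ N := by
    rw [← QuotientGroup.eq_one_iff]
    show π (c⁻¹ * u c) = 1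
    rw [map_mul, map_inv, hc, map_commutatorElement u, hua, hub, hinv, inv_mul_cancel]
  obtain ⟨n, hn, hfx⟩ := exists_fix_lift hodd hu huc
  obtain ⟨m, hm⟩ := Subgroup.mem_zpowers_iff.1 (hfix _ hfx)
  have hT : T (c * n) = (c * n)⁻¹ := by rw [← hm, map_zpow, hTg, inv_zpow]
  have h1 := congrArg π hT
  have hn1 : π n = 1 := (QuotientGroup.eq_one_iff _).2 hn
  have hn2 : π (T n) = 1 := (QuotientGroup.eq_one_iff _).2 (hN T n hn)
  rw [map_mul, map_mul, hTc, hn2, mul_one, map_inv, map_mul, hn1, mul_one] at h1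
  have hoddQ : Odd (Nat.card (P ⧸ N)) := Odd.of_dvd_nat hodd (Subgroup.card_quotient_dvd_card N)
  have h2 := eq_one_of_inv_eq hoddQ h1.symm
  rw [hc, map_commutatorElement, commutatorElement_eq_one_iff_commute] at h2
  exact h2

end

/-- Let p be an odd prime, P a finite p-group and I an elementary abelian subgroup of order 8 of Aut(P). Call T ∈ I, T ≠ 1, broad when its fixed-point subgroup C_P(T) is not cyclic. Suppose I has a proper subgroup I₀ containing no broad element such that the product of any two broad elements lies in I₀. Then P is abelian of rank exactly 3 (generated by three elements but not by two), there are exactly three broad elements and they generate I, and I₀ is exactly the set of products of two broad elements. -/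
theorem result
    {P : Type*} [Group P] [Finite P] (p : ℕ) (hp : p.Prime) (hp2 : p ≠ 2) (hP : IsPGroup p P)
    (I : Subgroup (MulAut P)) (hI : Cfsg.IsElementaryAbelian 2 I) (hI8 : Nat.card ↥I = 8)
    (I₀ : Subgroup (MulAut P)) (hI₀ : I₀ < I)
    (hdisj : ∀ T ∈ I₀, T ≠ 1 → ∃ g : P, ∀ x : P, (T x = x ↔ x ∈ Subgroup.zpowers g))
    (hprod : ∀ T ∈ I, ∀ T' ∈ I, T ≠ 1 → T' ≠ 1 → (¬ ∃ g : P, ∀ x : P, (T x = x ↔ x ∈ Subgroup.zpowers g)) →
      (¬ ∃ g : P, ∀ x : P, (T' x = x ↔ x ∈ Subgroup.zpowers g)) → T * T' ∈ I₀) :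
    IsMulCommutative P ∧ (∃ a b c : P, Subgroup.closure {a, b, c} = ⊤) ∧ (¬ ∃ a b : P, Subgroup.closure {a, b} = ⊤) ∧
      Nat.card {T : MulAut P // T ∈ I ∧ T ≠ 1 ∧ ¬ ∃ g : P, ∀ x : P, (T x = x ↔ x ∈ Subgroup.zpowers g)} = 3 ∧
      Subgroup.closure {T : MulAut P | T ∈ I ∧ T ≠ 1 ∧ ¬ ∃ g : P, ∀ x : P, (T x = x ↔ x ∈ Subgroup.zpowers g)} = I ∧
      (I₀ : Set (MulAut P)) = {S : MulAut P | ∃ T T' : MulAut P, T ∈ I ∧ T' ∈ I ∧ T ≠ 1 ∧ T' ≠ 1 ∧
        (¬ ∃ g : P, ∀ x : P, (T x = x ↔ x ∈ Subgroup.zpowers g)) ∧ (¬ ∃ g : P, ∀ x : P, (T' x = x ↔ x ∈ Subgroup.zpowers g)) ∧ S = T * T'} := by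
  classical
  haveI : Fact p.Prime := ⟨hp⟩
  have hodd : Odd (Nat.card P) := by
    obtain ⟨n, hn⟩ := IsPGroup.iff_card.1 hP
    rw [hn]; exact (hp.odd_of_ne_two hp2).pow
  have hoddQ : Odd (Nat.card (P ⧸ frattini P)) :=
    Odd.of_dvd_nat hodd (Subgroup.card_quotient_dvd_card _)
  obtain ⟨⟨hIc⟩, hI2⟩ := hI
  have sq : ∀ T ∈ I, T * T = 1 := fun T hT => by rw [← pow_two]; exact hI2 T hT
  have comm : ∀ T ∈ I, ∀ T' ∈ I, T * T' = T' * T := fun T hT T' hT' =>
    congrArg Subtype.val (hIc.comm ⟨T, hT⟩ ⟨T', hT'⟩)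
  have app : ∀ T ∈ I, ∀ x, T (T x) = x := fun T hT x => by
    rw [← MulAut.mul_apply, sq T hT, MulAut.one_apply]
  have capp : ∀ T ∈ I, ∀ T' ∈ I, ∀ x, T (T' x) = T' (T x) := fun T hT T' hT' x => by
    rw [← MulAut.mul_apply, comm T hT T' hT', MulAut.mul_apply]
  have hQc : ∀ a b : P ⧸ frattini P, a * b = b * a := fun a b =>
    QuotientGroup.induction_on a fun a => QuotientGroup.induction_on b fun b => by
      rw [← QuotientGroup.mk_mul, ← QuotientGroup.mk_mul, QuotientGroup.eq]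
      have : ⁅b⁻¹, a⁻¹⁆ ∈ frattini P := PGroup.commutator_le_frattini hP
        (Subgroup.commutator_mem_commutator (Subgroup.mem_top _) (Subgroup.mem_top _))
      simpa [commutatorElement_def, mul_assoc] using this
  letI : CommGroup (P ⧸ frattini P) :=
    { (inferInstance : Group (P ⧸ frattini P)) with mul_comm := hQc }
  have hQp : ∀ x : P ⧸ frattini P, x ^ p = 1 := fun x => QuotientGroup.induction_on x fun x => by
    rw [← QuotientGroup.mk_pow, QuotientGroup.eq_one_iff]; exact PGroup.pow_mem_frattini hP x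
  have hord : ∀ x : P ⧸ frattini P, x ≠ 1 → orderOf x = p := fun x hx =>
    orderOf_eq_prime (hQp x) hx
  have hne : ∀ {x : P ⧸ frattini P}, x ≠ 1 → x ≠ x⁻¹ := fun hx h =>
    hx (eq_one_of_inv_eq hoddQ h.symm)
  have lift : ∀ T ∈ I, ∀ y : P ⧸ frattini P, act T y = y → ∃ z : P, (z : P ⧸ frattini P) = y ∧ T z = z := by
    intro T hT y
    refine QuotientGroup.induction_on y fun z hz => ?_
    obtain ⟨n, hn, hfx⟩ := exists_fix_lift hodd (sq T hT) (N := frattini P) (x := z)
      (QuotientGroup.eq.1 ((act_mk T z).symm.trans hz).symm)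
    refine ⟨z * n, ?_, hfx⟩
    rw [QuotientGroup.mk_mul, (QuotientGroup.eq_one_iff n).2 hn, mul_one]
  -- joint eigenvectors
  let E : Set (P ⧸ frattini P) := {x | ∀ T ∈ I, act T x = x ∨ act T x = x⁻¹}
  have hE : Subgroup.closure E = ⊤ := by
    have := closure_eigen hp2 hP hQc (Set.toFinite (I : Set (MulAut P))).toFinset
      (by simpa using sq) (by simpa using comm)
    simpa [E] using this
  have moved : ∀ T ∈ I, T ≠ 1 → ∃ x ∈ E, x ≠ 1 ∧ act T x = x⁻¹ := by
    intro T hT hT1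
    by_contra hcon
    push Not at hcon
    apply hT1
    have hid : ∀ y, act T y = y := by
      have : Subgroup.closure E ≤ (act T).eqLocus (MonoidHom.id _) := by
        rw [Subgroup.closure_le]
        intro x hx
        rcases eq_or_ne x 1 with rfl | hx1
        · exact map_one _
        · exact (hx T hT).resolve_right (hcon x hx hx1)
      exact fun y => this (hE.ge (Subgroup.mem_top y))
    ext x
    have hK : T.toMonoidHom.eqLocus (MonoidHom.id P) = ⊤ := by
      refine frattini_nongenerating (eq_top_iff.2 fun w _ => ?_)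
      obtain ⟨z, hz, hfx⟩ := lift T hT _ (hid (w : P ⧸ frattini P))
      rw [← mul_inv_cancel_left z w]
      exact Subgroup.mul_mem_sup hfx (QuotientGroup.eq.1 hz)
    exact hK.ge (Subgroup.mem_top x)
  have key : ∀ T ∈ I, ∀ T' ∈ I, ∀ x ∈ E, x ≠ 1 →
      (act T x = x ↔ act T' x = x) → act (T * T') x = x := by
    intro T hT T' hT' x hx hx1 hiff
    rw [act_mul]
    rcases hx T' hT' with h | h
    · rw [h]; exact hiff.2 h
    · rw [h, map_inv]
      rcases hx T hT with h' | h'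
      · exact absurd ((hiff.1 h').symm.trans h) (hne hx1)
      · rw [h', inv_inv]
  have hmul : ∀ T ∈ I, ∀ T' ∈ I, T ≠ T' → T * T' ≠ 1 := fun T hT T' hT' hne' h =>
    hne' ((mul_eq_one_iff_eq_inv.1 h).trans (eq_inv_of_mul_eq_one_left (sq T' hT')).symm)
  haveI : Fintype I := Fintype.ofFinite _
  have hI8' : Fintype.card I = 8 := by rwa [← Nat.card_eq_fintype_card]
  haveI : Nontrivial I := Fintype.one_lt_card_iff_nontrivial.1 (by omega)
  obtain ⟨⟨t1, ht1⟩, ht1'⟩ := exists_ne (1 : I)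
  obtain ⟨x1, hx1E, hx1, t1x1⟩ := moved t1 ht1 fun h => ht1' (Subtype.ext h)
  obtain ⟨a, b, hab, heq⟩ := Fintype.exists_ne_map_eq_of_card_lt
    (fun T : I => decide (act (T : MulAut P) x1 = x1)) (by rw [hI8']; decide)
  obtain ⟨t2, ht2, t2x1, t2ne⟩ : ∃ t ∈ I, act t x1 = x1 ∧ t ≠ 1 :=
    ⟨_, mul_mem a.2 b.2, key _ a.2 _ b.2 x1 hx1E hx1 (by simpa using heq),
      hmul _ a.2 _ b.2 fun h => hab (Subtype.ext h)⟩
  obtain ⟨x2, hx2E, hx2, t2x2⟩ := moved t2 ht2 t2ne
  obtain ⟨a', b', hab', heq'⟩ := Fintype.exists_ne_map_eq_of_card_lt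
    (fun T : I => (decide (act (T : MulAut P) x1 = x1), decide (act (T : MulAut P) x2 = x2)))
    (by rw [hI8']; decide)
  simp only [Prod.mk.injEq, decide_eq_decide] at heq'
  obtain ⟨T3, hT3, T3x1, T3x2, T3ne⟩ : ∃ t ∈ I, act t x1 = x1 ∧ act t x2 = x2 ∧ t ≠ 1 :=
    ⟨_, mul_mem a'.2 b'.2, key _ a'.2 _ b'.2 x1 hx1E hx1 heq'.1,
      key _ a'.2 _ b'.2 x2 hx2E hx2 heq'.2, hmul _ a'.2 _ b'.2 fun h => hab' (Subtype.ext h)⟩
  obtain ⟨x3, hx3E, hx3, T3x3⟩ := moved T3 hT3 T3ne
  obtain ⟨T2, hT2, T2x1, T2x2, T2x3⟩ :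
      ∃ t ∈ I, act t x1 = x1 ∧ act t x2 = x2⁻¹ ∧ act t x3 = x3 := by
    rcases hx3E t2 ht2 with h | h
    · exact ⟨t2, ht2, t2x1, t2x2, h⟩
    · exact ⟨t2 * T3, mul_mem ht2 hT3, by rw [act_mul, T3x1, t2x1], by rw [act_mul, T3x2, t2x2],
        by rw [act_mul, T3x3, map_inv, h, inv_inv]⟩
  obtain ⟨T1, hT1, T1x1, T1x2, T1x3⟩ :
      ∃ t ∈ I, act t x1 = x1⁻¹ ∧ act t x2 = x2 ∧ act t x3 = x3 := by
    have : ∃ t ∈ I, act t x1 = x1⁻¹ ∧ act t x2 = x2 := by
      rcases hx2E t1 ht1 with h | h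
      · exact ⟨t1, ht1, t1x1, h⟩
      · exact ⟨t1 * T2, mul_mem ht1 hT2, by rw [act_mul, T2x1, t1x1],
          by rw [act_mul, T2x2, map_inv, h, inv_inv]⟩
    obtain ⟨t, ht, h1, h2⟩ := this
    rcases hx3E t ht with h | h
    · exact ⟨t, ht, h1, h2, h⟩
    · exact ⟨t * T3, mul_mem ht hT3, by rw [act_mul, T3x1, h1], by rw [act_mul, T3x2, h2],
        by rw [act_mul, T3x3, map_inv, h, inv_inv]⟩
  have h12 := mul_mem hT1 hT2
  have h13 := mul_mem hT1 hT3
  have h23 := mul_mem hT2 hT3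
  have h123 := mul_mem h12 hT3
  -- every element of `I` is one of eight
  let L : List (MulAut P) := [1, T1, T2, T3, T1 * T2, T1 * T3, T2 * T3, T1 * T2 * T3]
  have hL : ∀ T ∈ I, T ∈ L := by
    let s : I → Bool × Bool × Bool := fun T => (decide (act (T : MulAut P) x1 = x1),
      decide (act (T : MulAut P) x2 = x2), decide (act (T : MulAut P) x3 = x3))
    have hs : ∀ v : Bool × Bool × Bool, ∃ T : I, (T : MulAut P) ∈ L ∧ s T = v := by
      have e1 := (hne hx1).symm; have e2 := (hne hx2).symm; have e3 := (hne hx3).symm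
      rintro ⟨_ | _, _ | _, _ | _⟩
      · exact ⟨⟨_, h123⟩, by simp [L], by simp [s, act_mul, *]⟩
      · exact ⟨⟨_, h12⟩, by simp [L], by simp [s, act_mul, *]⟩
      · exact ⟨⟨_, h13⟩, by simp [L], by simp [s, act_mul, *]⟩
      · exact ⟨⟨_, hT1⟩, by simp [L], by simp [s, *]⟩
      · exact ⟨⟨_, h23⟩, by simp [L], by simp [s, act_mul, *]⟩
      · exact ⟨⟨_, hT2⟩, by simp [L], by simp [s, *]⟩
      · exact ⟨⟨_, hT3⟩, by simp [L], by simp [s, *]⟩
      · exact ⟨1, by simp [L], by simp [s, act_one]⟩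
    have hbij := (Fintype.bijective_iff_surjective_and_card s).2
      ⟨fun v => (hs v).imp fun _ h => h.2, by rw [hI8']; rfl⟩
    intro T hT
    obtain ⟨T', h1, h2⟩ := hs (s ⟨T, hT⟩)
    rw [hbij.1 h2] at h1
    exact h1
  let Br : MulAut P → Prop := fun T => ¬ ∃ g : P, ∀ x : P, (T x = x ↔ x ∈ Subgroup.zpowers g)
  -- broad elements
  have cyc : ∀ T ∈ I, ¬ Br T → ∀ y z, y ≠ 1 → act T y = y → act T z = z →
      z ∈ Subgroup.zpowers y := by
    intro T hT hB y z hy hTy hTz
    obtain ⟨g, hg⟩ := not_not.1 hB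
    have hmem : ∀ w, act T w = w → w ∈ Subgroup.zpowers (g : P ⧸ frattini P) := fun w hw => by
      obtain ⟨v, rfl, hv⟩ := lift T hT w hw
      obtain ⟨m, rfl⟩ := Subgroup.mem_zpowers_iff.1 ((hg v).1 hv)
      exact ⟨m, (QuotientGroup.mk_zpow _ _ _).symm⟩
    have hgne : (g : P ⧸ frattini P) ≠ 1 := fun h => hy (by
      have := hmem y hTy
      rwa [h, Subgroup.zpowers_one_eq_bot, Subgroup.mem_bot] at this)
    have heq : Subgroup.zpowers y = Subgroup.zpowers (g : P ⧸ frattini P) :=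
      Subgroup.eq_of_le_of_card_ge (Subgroup.zpowers_le.2 (hmem y hTy))
        (by rw [Nat.card_zpowers, Nat.card_zpowers, hord _ hy, hord _ hgne])
    rw [heq]
    exact hmem z hTz
  have broad : ∀ T ∈ I, ∀ S ∈ I, ∀ y z, y ≠ 1 → z ≠ 1 → act T y = y → act T z = z →
      act S y = y → act S z = z⁻¹ → Br T := by
    intro T hT S _ y z hy hz hTy hTz hSy hSz
    by_contra hB
    obtain ⟨m, hm⟩ := Subgroup.mem_zpowers_iff.1 (cyc T hT (not_not.2 hB) y z hy hTy hTz)
    apply hne hz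
    conv_lhs => rw [← hm, ← hSy, ← map_zpow, hm, hSz]
  have T1ne : T1 ≠ 1 := fun h => hne hx1 (by rw [← T1x1, h, act_one])
  have T2ne : T2 ≠ 1 := fun h => hne hx2 (by rw [← T2x2, h, act_one])
  have T1b : Br T1 := broad T1 hT1 T3 hT3 x2 x3 hx2 hx3 T1x2 T1x3 T3x2 T3x3
  have T2b : Br T2 := broad T2 hT2 T3 hT3 x1 x3 hx1 hx3 T2x1 T2x3 T3x1 T3x3
  have T3b : Br T3 := broad T3 hT3 T2 hT2 x1 x2 hx1 hx2 T3x1 T3x2 T2x1 T2x2
  have o12 : T1 * T2 ∈ I₀ := hprod _ hT1 _ hT2 T1ne T2ne T1b T2b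
  have o13 : T1 * T3 ∈ I₀ := hprod _ hT1 _ hT3 T1ne T3ne T1b T3b
  have o23 : T2 * T3 ∈ I₀ := hprod _ hT2 _ hT3 T2ne T3ne T2b T3b
  have n1 : T1 ∉ I₀ := fun h => T1b (hdisj _ h T1ne)
  have n2 : T2 ∉ I₀ := fun h => T2b (hdisj _ h T2ne)
  have n3 : T3 ∉ I₀ := fun h => T3b (hdisj _ h T3ne)
  have n123 : T1 * T2 * T3 ∉ I₀ := fun h => n3 (by
    have := mul_mem (inv_mem o12) h
    rwa [inv_mul_cancel_left] at this)
  have a12 : act (T1 * T2) x3 = x3 := by rw [act_mul, T2x3, T1x3]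
  have a13 : act (T1 * T3) x2 = x2 := by rw [act_mul, T3x2, T1x2]
  have a23 : act (T2 * T3) x1 = x1 := by rw [act_mul, T3x1, T2x1]
  -- generators of the three cyclic fixed subgroups
  have hgen : ∀ S ∈ I₀, S ≠ 1 → ∀ x, x ≠ 1 → act S x = x → ∃ g : P,
      (∀ z, S z = z ↔ z ∈ Subgroup.zpowers g) ∧ x ∈ Subgroup.zpowers (g : P ⧸ frattini P) ∧
      ∀ T ∈ I, (act T x = x → T g = g) ∧ (act T x = x⁻¹ → T g = g⁻¹) := by
    intro S hS hS1 x hx hSx
    obtain ⟨g, hg⟩ := hdisj S hS hS1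
    have hSI : S ∈ I := hI₀.le hS
    have hgfix : act S (g : P ⧸ frattini P) = g := by
      rw [act_mk, (hg g).2 (Subgroup.mem_zpowers g)]
    have hgx : (g : P ⧸ frattini P) ∈ Subgroup.zpowers x :=
      cyc S hSI (not_not.2 ⟨g, hg⟩) x _ hx hSx hgfix
    obtain ⟨z, hz, hSz⟩ := lift S hSI x hSx
    obtain ⟨m, rfl⟩ := Subgroup.mem_zpowers_iff.1 ((hg z).1 hSz)
    have hxg : x ∈ Subgroup.zpowers (g : P ⧸ frattini P) :=
      ⟨m, by rw [← hz, QuotientGroup.mk_zpow]⟩
    have hgne : (g : P ⧸ frattini P) ≠ 1 := fun h => hx (by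
      rwa [h, Subgroup.zpowers_one_eq_bot, Subgroup.mem_bot] at hxg)
    obtain ⟨k, hk⟩ := Subgroup.mem_zpowers_iff.1 hgx
    refine ⟨g, hg, hxg, fun T hT => ?_⟩
    have hTg : T g ∈ Subgroup.zpowers g :=
      (hg _).1 (by rw [capp S hSI T hT, (hg g).2 (Subgroup.mem_zpowers g)])
    constructor
    · intro hTx
      have h := eq_zpow_of_mod (ε := 1) hp2 hP (app T hT g) hTg (hord _ hgne) (Or.inl rfl)
        (by rw [zpow_one, ← hk, map_zpow, hTx])
      rwa [zpow_one] at h
    · intro hTx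
      have h := eq_zpow_of_mod (ε := -1) hp2 hP (app T hT g) hTg (hord _ hgne) (Or.inr rfl)
        (by rw [zpow_neg_one, ← hk, map_zpow, hTx, inv_zpow])
      rwa [zpow_neg_one] at h
  obtain ⟨g1, hg1, hxg1, hs1⟩ := hgen _ o23
    (fun h => hne hx2 (by
      conv_lhs => rw [← act_one x2, ← h, act_mul, T3x2, T2x2])) x1 hx1 a23
  obtain ⟨g2, hg2, hxg2, hs2⟩ := hgen _ o13
    (fun h => hne hx1 (by
      conv_lhs => rw [← act_one x1, ← h, act_mul, T3x1, T1x1])) x2 hx2 a13
  obtain ⟨g3, hg3, hxg3, hs3⟩ := hgen _ o12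
    (fun h => hne hx1 (by
      conv_lhs => rw [← act_one x1, ← h, act_mul, T2x1, T1x1])) x3 hx3 a12
  have f11 : T1 g1 = g1⁻¹ := (hs1 _ hT1).2 T1x1
  have f12 : T1 g2 = g2 := (hs2 _ hT1).1 T1x2
  have f13 : T1 g3 = g3 := (hs3 _ hT1).1 T1x3
  have f21 : T2 g1 = g1 := (hs1 _ hT2).1 T2x1
  have f22 : T2 g2 = g2⁻¹ := (hs2 _ hT2).2 T2x2
  have f23 : T2 g3 = g3 := (hs3 _ hT2).1 T2x3
  have f31 : T3 g1 = g1 := (hs1 _ hT3).1 T3x1
  have f32 : T3 g2 = g2 := (hs2 _ hT3).1 T3x2
  have f33 : T3 g3 = g3⁻¹ := (hs3 _ hT3).2 T3x3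
  -- they generate `P`
  have hcl : Subgroup.closure {g1, g2, g3} = ⊤ := by
    refine PGroup.closure_eq_top_of_sup_frattini ?_
    set H := (Subgroup.closure {g1, g2, g3}).map (QuotientGroup.mk' (frattini P)) with hH
    have hEH : Subgroup.closure E ≤ H := by
      rw [Subgroup.closure_le]
      intro y hy
      have hz : ∀ g ∈ ({g1, g2, g3} : Set P), ∀ x, x ∈ Subgroup.zpowers (g : P ⧸ frattini P) → x ∈ H :=
        fun g hg x hx => (Subgroup.zpowers_le.2
          (Subgroup.mem_map_of_mem _ (Subgroup.subset_closure hg))) hx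
      by_cases hy1 : y = 1
      · rw [hy1]; exact one_mem _
      have hfix : act (T1 * T2) y = y ∨ act (T1 * T3) y = y ∨ act (T2 * T3) y = y := by
        rcases hy T1 hT1 with h1 | h1 <;> rcases hy T2 hT2 with h2 | h2 <;>
          rcases hy T3 hT3 with h3 | h3 <;> simp [act_mul, h1, h2, h3]
      rcases hfix with h | h | h
      · refine (Subgroup.zpowers_le.2 (hz g3 (by simp) x3 hxg3)) ?_
        exact cyc _ h12 (not_not.2 ⟨g3, hg3⟩) x3 y hx3 a12 h
      · refine (Subgroup.zpowers_le.2 (hz g2 (by simp) x2 hxg2)) ?_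
        exact cyc _ h13 (not_not.2 ⟨g2, hg2⟩) x2 y hx2 a13 h
      · refine (Subgroup.zpowers_le.2 (hz g1 (by simp) x1 hxg1)) ?_
        exact cyc _ h23 (not_not.2 ⟨g1, hg1⟩) x1 y hx1 a23 h
    rw [eq_top_iff]
    intro w _
    obtain ⟨v, hv, hvw⟩ := hEH (hE.ge (Subgroup.mem_top (w : P ⧸ frattini P)))
    rw [← mul_inv_cancel_left v w]
    exact Subgroup.mul_mem_sup hv (QuotientGroup.eq.1 hvw)
  -- `P` is abelian
  have hab : IsMulCommutative P := by
    rw [← commutator_eq_bot_iff]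
    set N := (⊤ : Subgroup P).lowerCentralSeries 2 with hN
    have hch : N.Characteristic := inferInstance
    have hNT : ∀ (T : MulAut P), ∀ n ∈ N, T n ∈ N := fun T n hn => by
      have h := (Subgroup.characteristic_iff_map_eq.1 hch T).le (Subgroup.mem_map_of_mem _ hn)
      exact h
    have hcen : ∀ x y z : P, ⁅⁅x, y⁆, z⁆ ∈ N := fun x y z => by
      rw [hN, Subgroup.lowerCentralSeries_succ, Subgroup.top_lowerCentralSeries_one]
      exact Subgroup.commutator_mem_commutator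
        (Subgroup.commutator_mem_commutator (Subgroup.mem_top _) (Subgroup.mem_top _))
        (Subgroup.mem_top _)
    have c12 : Commute (g1 : P ⧸ N) (g2 : P ⧸ N) :=
      commute_mod hodd hNT hcen (sq _ h12) (by rw [MulAut.mul_apply, f21, f11])
        (by rw [MulAut.mul_apply, f22, map_inv, f12]) (Or.inr (Or.inl ⟨f31, f32⟩))
        (fun x => (hg3 x).1) f33
    have c13 : Commute (g1 : P ⧸ N) (g3 : P ⧸ N) :=
      commute_mod hodd hNT hcen (sq _ h13) (by rw [MulAut.mul_apply, f31, f11])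
        (by rw [MulAut.mul_apply, f33, map_inv, f13]) (Or.inr (Or.inl ⟨f21, f23⟩))
        (fun x => (hg2 x).1) f22
    have c23 : Commute (g2 : P ⧸ N) (g3 : P ⧸ N) :=
      commute_mod hodd hNT hcen (sq _ h23) (by rw [MulAut.mul_apply, f32, f22])
        (by rw [MulAut.mul_apply, f33, map_inv, f23]) (Or.inr (Or.inl ⟨f12, f13⟩))
        (fun x => (hg1 x).1) f11
    have hQN : IsMulCommutative (P ⧸ N) := by
      have h1 : Subgroup.closure ((QuotientGroup.mk' N) '' {g1, g2, g3}) = ⊤ := by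
        rw [← MonoidHom.map_closure, hcl, Subgroup.map_top_of_surjective _ (QuotientGroup.mk'_surjective N)]
      have h2 := Subgroup.isMulCommutative_closure (k := (QuotientGroup.mk' N) '' {g1, g2, g3}) (by
        rintro _ ⟨a, ha, rfl⟩ _ ⟨b, hb, rfl⟩
        simp only [Set.mem_insert_iff, Set.mem_singleton_iff] at ha hb
        rcases ha with rfl | rfl | rfl <;> rcases hb with rfl | rfl | rfl <;>
          first | rfl | exact c12.eq | exact c13.eq | exact c23.eq | exact c12.eq.symm |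
            exact c13.eq.symm | exact c23.eq.symm)
      rw [h1] at h2
      exact ⟨⟨fun x y => congrArg Subtype.val
        (h2.is_comm.comm (⟨x, Subgroup.mem_top x⟩ : (⊤ : Subgroup (P ⧸ N))) ⟨y, Subgroup.mem_top y⟩)⟩⟩
    have hle : commutator P ≤ N := by
      rw [commutator_def, Subgroup.commutator_le]
      intro a _ b _
      rw [← QuotientGroup.eq_one_iff]
      show QuotientGroup.mk' N ⁅a, b⁆ = 1
      rw [map_commutatorElement, commutatorElement_eq_one_iff_commute]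
      exact hQN.is_comm.comm _ _
    have hst : ∀ k, commutator P ≤ (⊤ : Subgroup P).lowerCentralSeries (k + 1) := fun k => by
      induction k with
      | zero => rw [Subgroup.top_lowerCentralSeries_one]
      | succ k ih =>
        refine hle.trans ?_
        rw [hN, Subgroup.lowerCentralSeries_succ, Subgroup.lowerCentralSeries_succ _ (k + 1),
          Subgroup.top_lowerCentralSeries_one]
        exact Subgroup.commutator_mono ih le_rfl
    obtain ⟨n, hn⟩ := Subgroup.nilpotent_iff_lowerCentralSeries.1 hP.isNilpotent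
    exact le_bot_iff.1 ((hst n).trans
      (((⊤ : Subgroup P).lowerCentralSeries_antitone (Nat.le_succ n)).trans hn.le))
  letI : CommGroup P :=
    { (inferInstance : Group P) with mul_comm := hab.is_comm.comm }
  have nb : ¬ Br (T1 * T2 * T3) := not_not.2 ⟨1, fun x => by
    have hinv : ∀ y, (T1 * T2 * T3) y = y⁻¹ := fun y => by
      have : Subgroup.closure {g1, g2, g3} ≤
          (T1 * T2 * T3).toMonoidHom.eqLocus invMonoidHom := by
        rw [Subgroup.closure_le]
        rintro g (rfl | rfl | rfl)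
        · show (T1 * T2 * T3) g = g⁻¹
          rw [MulAut.mul_apply, MulAut.mul_apply, f31, f21, f11]
        · show (T1 * T2 * T3) g = g⁻¹
          rw [MulAut.mul_apply, MulAut.mul_apply, f32, f22, map_inv, f12]
        · show (T1 * T2 * T3) g = g⁻¹
          rw [MulAut.mul_apply, MulAut.mul_apply, f33, map_inv, map_inv, f23, f13]
      exact this (hcl.ge (Subgroup.mem_top y))
    rw [Subgroup.zpowers_one_eq_bot, Subgroup.mem_bot, hinv]
    exact ⟨eq_one_of_inv_eq hodd, fun h => by rw [h, inv_one]⟩⟩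
  have hset : {T : MulAut P | T ∈ I ∧ T ≠ 1 ∧ Br T} = {T1, T2, T3} := by
    ext T
    constructor
    · rintro ⟨hT, hT1, hB⟩
      have h := hL T hT
      simp only [L, List.mem_cons, List.not_mem_nil, or_false] at h
      rcases h with rfl | rfl | rfl | rfl | rfl | rfl | rfl | rfl
      · exact absurd rfl hT1
      · simp
      · simp
      · simp
      · exact absurd (hdisj _ o12 hT1) hB
      · exact absurd (hdisj _ o13 hT1) hB
      · exact absurd (hdisj _ o23 hT1) hB
      · exact absurd hB nb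
    · rintro (rfl | rfl | rfl)
      exacts [⟨hT1, T1ne, T1b⟩, ⟨hT2, T2ne, T2b⟩, ⟨hT3, T3ne, T3b⟩]
  refine ⟨hab, ⟨g1, g2, g3, hcl⟩, ?_, ?_, ?_, ?_⟩
  · rintro ⟨a, b, hab2⟩
    have hsurj : Function.Surjective
        (fun v : Fin p × Fin p => (a : P ⧸ frattini P) ^ (v.1 : ℕ) * (b : P ⧸ frattini P) ^ (v.2 : ℕ)) := by
      intro y
      refine QuotientGroup.induction_on y fun w => ?_
      obtain ⟨m, n, rfl⟩ := Subgroup.mem_closure_pair.1 (hab2.ge (Subgroup.mem_top w))
      have hp0 : (p : ℤ) ≠ 0 := by exact_mod_cast hp.ne_zero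
      have hred : ∀ (x : P ⧸ frattini P) (m : ℤ), x ^ ((m % (p : ℤ)).toNat) = x ^ m := fun x m => by
        rw [← zpow_natCast, Int.toNat_of_nonneg (Int.emod_nonneg _ hp0)]
        conv_rhs => rw [← Int.mul_ediv_add_emod m (p : ℤ), zpow_add, zpow_mul, zpow_natCast, hQp,
          one_zpow, one_mul]
      have hb' : ∀ m : ℤ, (m % (p : ℤ)).toNat < p := fun m => by
        have h1 := Int.emod_lt_of_pos m (by exact_mod_cast hp.pos : (0 : ℤ) < p)
        have h2 := Int.emod_nonneg m hp0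
        omega
      refine ⟨(⟨_, hb' m⟩, ⟨_, hb' n⟩), ?_⟩
      simp only [hred, QuotientGroup.mk_mul, QuotientGroup.mk_zpow]
    have hinj : Function.Injective (fun v : Fin p × Fin p × Fin p =>
        x1 ^ (v.1 : ℕ) * (x2 ^ (v.2.1 : ℕ) * x3 ^ (v.2.2 : ℕ))) := by
      have canc : ∀ (T : MulAut P) (A A' B B' : P ⧸ frattini P), act T A = A⁻¹ → act T A' = A'⁻¹ →
          act T B = B → act T B' = B' → A * B = A' * B' → A = A' ∧ B = B' := by
        intro T A A' B B' hA hA' hB hB' h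
        have h' := congrArg (act T) h
        rw [map_mul, map_mul, hA, hA', hB, hB'] at h'
        have hBB : (B * B'⁻¹)⁻¹ = B * B'⁻¹ := by
          have e1 : B * B'⁻¹ = A⁻¹ * A' := by
            rw [eq_inv_mul_iff_mul_eq, ← mul_assoc, h, mul_inv_cancel_right]
          have e2 : B * B'⁻¹ = A * A'⁻¹ := by
            calc B * B'⁻¹ = A * (A⁻¹ * B) * B'⁻¹ := by rw [mul_inv_cancel_left]
              _ = A * A'⁻¹ := by rw [h', mul_assoc, mul_assoc, mul_inv_cancel, mul_one]
          conv_lhs => rw [e2, mul_inv, inv_inv, ← e1]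
        have hB1 := mul_inv_eq_one.1 (eq_one_of_inv_eq hoddQ hBB)
        rw [hB1, mul_left_inj] at h
        exact ⟨h, hB1⟩
      rintro ⟨i, j, k⟩ ⟨i', j', k'⟩ h
      obtain ⟨e1, e23⟩ := canc T1 _ _ _ _ (by rw [map_pow, T1x1, inv_pow]) (by rw [map_pow, T1x1, inv_pow])
        (by rw [map_mul, map_pow, map_pow, T1x2, T1x3]) (by rw [map_mul, map_pow, map_pow, T1x2, T1x3]) h
      obtain ⟨e2, e3⟩ := canc T2 _ _ _ _ (by rw [map_pow, T2x2, inv_pow]) (by rw [map_pow, T2x2, inv_pow])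
        (by rw [map_pow, T2x3]) (by rw [map_pow, T2x3]) e23
      have inj : ∀ x : P ⧸ frattini P, x ≠ 1 → ∀ i i' : Fin p, x ^ (i : ℕ) = x ^ (i' : ℕ) → i = i' :=
        fun x hx i i' e => Fin.ext (pow_injOn_Iio_orderOf
          (by rw [hord x hx]; exact i.2) (by rw [hord x hx]; exact i'.2) e)
      exact Prod.ext (inj x1 hx1 _ _ e1) (Prod.ext (inj x2 hx2 _ _ e2) (inj x3 hx3 _ _ e3))
    have h1 := Nat.card_le_card_of_surjective _ hsurj
    have h2 := Nat.card_le_card_of_injective _ hinj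
    rw [Nat.card_prod, Nat.card_fin] at h1
    rw [Nat.card_prod, Nat.card_prod, Nat.card_fin] at h2
    have := h2.trans h1
    have h3 := Nat.mul_le_mul hp.two_le (le_refl (p * p))
    have h4 := Nat.mul_pos hp.pos hp.pos
    omega
  · show Nat.card ↥{T : MulAut P | T ∈ I ∧ T ≠ 1 ∧ Br T} = 3
    rw [hset, Nat.card_coe_set_eq, Set.ncard_eq_three]
    exact ⟨T1, T2, T3, fun h => hne hx1 (by rw [← T1x1, h, T2x1]),
      fun h => hne hx1 (by rw [← T1x1, h, T3x1]), fun h => hne hx2 (by rw [← T2x2, h, T3x2]), rfl⟩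
  · show Subgroup.closure {T : MulAut P | T ∈ I ∧ T ≠ 1 ∧ Br T} = I
    rw [hset]
    refine le_antisymm ((Subgroup.closure_le _).2 ?_) fun T hT => ?_
    · rintro T (rfl | rfl | rfl) <;> assumption
    · have m1 : T1 ∈ Subgroup.closure {T1, T2, T3} := Subgroup.subset_closure (by simp)
      have m2 : T2 ∈ Subgroup.closure {T1, T2, T3} := Subgroup.subset_closure (by simp)
      have m3 : T3 ∈ Subgroup.closure {T1, T2, T3} := Subgroup.subset_closure (by simp)
      have h := hL T hT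
      simp only [L, List.mem_cons, List.not_mem_nil, or_false] at h
      rcases h with rfl | rfl | rfl | rfl | rfl | rfl | rfl | rfl
      exacts [one_mem _, m1, m2, m3, mul_mem m1 m2, mul_mem m1 m3, mul_mem m2 m3,
        mul_mem (mul_mem m1 m2) m3]
  · ext S
    constructor
    · intro hS
      have h := hL S (hI₀.le hS)
      simp only [L, List.mem_cons, List.not_mem_nil, or_false] at h
      rcases h with rfl | rfl | rfl | rfl | rfl | rfl | rfl | rfl
      · exact ⟨T1, T1, hT1, hT1, T1ne, T1ne, T1b, T1b, (sq _ hT1).symm⟩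
      · exact absurd hS n1
      · exact absurd hS n2
      · exact absurd hS n3
      · exact ⟨T1, T2, hT1, hT2, T1ne, T2ne, T1b, T2b, rfl⟩
      · exact ⟨T1, T3, hT1, hT3, T1ne, T3ne, T1b, T3b, rfl⟩
      · exact ⟨T2, T3, hT2, hT3, T2ne, T3ne, T2b, T3b, rfl⟩
      · exact absurd hS n123
    · rintro ⟨T, T', hT, hT', h1, h2, h3, h4, rfl⟩
      exact hprod T hT T' hT' h1 h2 h3 h4

end Cfsg.Agent.S4412
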