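import Cfsg.Statements.S4413
import Mathlib.Data.ZMod.Basic
import Mathlib.Data.Fintype.Perm
import Mathlib.Data.Fintype.CardEmbedding
import Cfsg.Agent.Lib.PGroup.Extraspecial

-- import your own Cfsg.Agent.* helpers here

set_option autoImplicit false
set_option maxHeartbeats 400000
open Cfsg

namespace Cfsg.Agent.S4413

open scoped commutatorElement

/-- A model of the extraspecial group of order `32` of minus type. -/
@[ext] structure M where
  c : ZMod 2
  x1 : ZMod 2
  x2 : ZMod 2
  x3 : ZMod 2
  x4 : ZMod 2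
deriving DecidableEq, Fintype

instance : Mul M := ⟨fun m n => ⟨m.c + n.c + m.x2 * n.x1 + m.x3 * (n.x1 + n.x2) + m.x4 * (n.x1 + n.x2 + n.x3),
  m.x1 + n.x1, m.x2 + n.x2, m.x3 + n.x3, m.x4 + n.x4⟩⟩

instance : One M := ⟨⟨0, 0, 0, 0, 0⟩⟩

instance : Inv M := ⟨fun m => ⟨m.c + m.x2 * m.x1 + m.x3 * (m.x1 + m.x2) + m.x4 * (m.x1 + m.x2 + m.x3),
  m.x1, m.x2, m.x3, m.x4⟩⟩

theorem M.mul_def (m n : M) : m * n =
    ⟨m.c + n.c + m.x2 * n.x1 + m.x3 * (n.x1 + n.x2) + m.x4 * (n.x1 + n.x2 + n.x3),
      m.x1 + n.x1, m.x2 + n.x2, m.x3 + n.x3, m.x4 + n.x4⟩ := rfl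

theorem M.one_def : (1 : M) = ⟨0, 0, 0, 0, 0⟩ := rfl

theorem M.inv_mul_self : ∀ m : M, m⁻¹ * m = 1 := by decide

instance : Group M := Group.ofLeftAxioms
  (fun a b c => by simp only [M.mul_def, M.mk.injEq]; refine ⟨?_, ?_, ?_, ?_, ?_⟩ <;> ring)
  (fun a => by simp [M.mul_def, M.one_def])
  M.inv_mul_self

def mz : M := ⟨1, 0, 0, 0, 0⟩

/-- The ten involutions outside the centre. -/
def mlift : Fin 5 → ZMod 2 → M :=
  fun i s => ![⟨s, 1, 0, 0, 0⟩, ⟨s, 0, 1, 0, 0⟩, ⟨s, 0, 0, 1, 0⟩, ⟨s, 0, 0, 0, 1⟩, ⟨s, 1, 1, 1, 1⟩] i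

def kap (m : M) : Fin 5 :=
  if m.x1 = 1 ∧ m.x2 = 1 then 4 else if m.x1 = 1 then 0 else if m.x2 = 1 then 1
    else if m.x3 = 1 then 2 else 3

def mgen (i : Fin 4) : M := mlift i.castSucc 0

theorem mz_ne : mz ≠ 1 := by decide
theorem mgen_inv : ∀ i, mgen i * mgen i = 1 := by decide
theorem mgen_comm : ∀ i j, i ≠ j → mgen i * mgen j = mz * (mgen j * mgen i) := by decide
theorem mz_central : ∀ m : M, m * mz = mz * m := by decide
theorem mcentral : ∀ m : M, (∀ i, m * mgen i = mgen i * m) → m = 1 ∨ m = mz := by decide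
theorem mnoncentral : ∀ m : M, ¬(m.x1 = 0 ∧ m.x2 = 0 ∧ m.x3 = 0 ∧ m.x4 = 0) →
    ∃ i, m * mgen i = mz * (mgen i * m) := by decide
theorem mlift_kap : ∀ m : M, m * m = 1 → m ≠ 1 → m ≠ mz → m = mlift (kap m) m.c := by decide
theorem kap_mlift : ∀ i s, kap (mlift i s) = i := by decide
theorem c_mlift : ∀ i s, (mlift i s).c = s := by decide
theorem mlift_inv : ∀ i s, mlift i s * mlift i s = 1 ∧ mlift i s ≠ 1 ∧ mlift i s ≠ mz := by decide
theorem mlift_comm : ∀ i j s s', i ≠ j → mlift i s * mlift j s' = mz * (mlift j s' * mlift i s) := by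
  decide
theorem mlift_same : ∀ i s s', mlift i s * mlift i s' = mlift i s' * mlift i s := by decide
theorem kap_z : ∀ m : M, kap (mz * m) = kap m := by decide

theorem mlift_one : ∀ i, mlift i 1 = mz * mlift i 0 := by decide
theorem kap_conj : ∀ (g : M) (i : Fin 5), kap (g * mlift i 0 * g⁻¹) = i := by decide
theorem mgen_def (i : Fin 4) : mgen i = mlift i.castSucc 0 := rfl

section
variable {P : Type*} [Group P]

/-- `x` to a power in `ZMod 2`. -/
def ep (x : P) (a : ZMod 2) : P := if a = 0 then 1 else x

theorem ep_zero (x : P) : ep x 0 = 1 := rfl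
theorem ep_one (x : P) : ep x 1 = x := rfl

theorem z2cases (a : ZMod 2) : a = 0 ∨ a = 1 := by
  revert a; decide

theorem map_ep {Q : Type*} [Group Q] (f : P →* Q) (x : P) (a : ZMod 2) : f (ep x a) = ep (f x) a := by
  rcases z2cases a with rfl | rfl <;> simp [ep_zero, ep_one]

theorem mnf : ∀ m : M, m = ep mz m.c * (ep (mgen 0) m.x1 * (ep (mgen 1) m.x2 *
    (ep (mgen 2) m.x3 * ep (mgen 3) m.x4))) := by decide

/-- Four pairwise non-commuting involutions. -/
structure Good (z : P) (t : Fin 4 → P) : Prop where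
  z1 : z ≠ 1
  zz : z * z = 1
  zc : ∀ x, x * z = z * x
  inv : ∀ i, t i * t i = 1
  comm : ∀ i j, i ≠ j → t i * t j = z * (t j * t i)

theorem ep_merge {x : P} (hx : x * x = 1) (a b : ZMod 2) : ep x a * ep x b = ep x (a + b) := by
  rcases z2cases a with rfl | rfl <;> rcases z2cases b with rfl | rfl <;>
    simp [ep_zero, ep_one, show (1 + 1 : ZMod 2) = 0 from rfl, hx]

theorem ep_merge' {x : P} (hx : x * x = 1) (a b : ZMod 2) (w : P) :
    ep x a * (ep x b * w) = ep x (a + b) * w := by rw [← mul_assoc, ep_merge hx]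

theorem ep_z {z : P} (hz : ∀ x, x * z = z * x) (y : P) (a : ZMod 2) (w : P) :
    y * (ep z a * w) = ep z a * (y * w) := by
  rcases z2cases a with rfl | rfl
  · simp [ep_zero]
  · rw [ep_one, ← mul_assoc, hz, mul_assoc]

theorem ep_swap {z x y : P} (h : y * x = z * (x * y)) (a b : ZMod 2) (w : P) :
    ep y a * (ep x b * w) = ep z (a * b) * (ep x b * (ep y a * w)) := by
  rcases z2cases a with rfl | rfl <;> rcases z2cases b with rfl | rfl <;>
    simp [ep_zero, ep_one]
  rw [← mul_assoc, h]; simp [mul_assoc]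

variable {z : P} {t : Fin 4 → P}

/-- The homomorphism from the model. -/
def toHom (h : Good z t) : M →* P :=
  MonoidHom.mk' (fun m => ep z m.c * (ep (t 0) m.x1 * (ep (t 1) m.x2 * (ep (t 2) m.x3 * ep (t 3) m.x4))))
    fun m n => by
      have s := fun i j (hij : i ≠ j) => ep_swap (h.comm i j hij)
      simp only [M.mul_def]
      simp only [mul_assoc, ep_z h.zc (ep (t _) _), ep_merge' h.zz, s 1 0 (by decide), s 2 0 (by decide),
        s 2 1 (by decide), s 3 0 (by decide), s 3 1 (by decide), s 3 2 (by decide),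
        ep_merge' (h.inv _), ep_merge (h.inv _)]
      congr 2
      ring

theorem toHom_mgen (h : Good z t) (i : Fin 4) : toHom h (mgen i) = t i := by
  fin_cases i <;> simp [toHom, mgen, mlift, ep_zero, ep_one]

theorem toHom_mz (h : Good z t) : toHom h mz = z := by
  simp [toHom, mz, ep_zero, ep_one]

theorem toHom_injective (h : Good z t) : Function.Injective (toHom h) := by
  refine (injective_iff_map_eq_one _).2 fun m hm => ?_
  by_cases hv : m.x1 = 0 ∧ m.x2 = 0 ∧ m.x3 = 0 ∧ m.x4 = 0
  · obtain ⟨c, a, b, e, d⟩ := m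
    obtain ⟨rfl, rfl, rfl, rfl⟩ := hv
    rcases z2cases c with rfl | rfl
    · rfl
    · exact absurd (by simpa [toHom, ep_zero, ep_one] using hm) h.z1
  · obtain ⟨i, hi⟩ := mnoncentral m hv
    have := congrArg (toHom h) hi
    rw [map_mul, map_mul, map_mul, hm, toHom_mgen, toHom_mz, one_mul, mul_one, right_eq_mul] at this
    exact absurd this h.z1

theorem eq_toHom (h : Good z t) (f : M →* P) (hz : f mz = z) (hg : ∀ i, f (mgen i) = t i) (m : M) :
    f m = toHom h m := by
  conv_lhs => rw [mnf m]
  simp only [map_mul, map_ep, hz, hg]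
  rfl

end

theorem maut_mz (φ : MulAut M) : φ mz = mz := by
  rcases mcentral (φ mz) (fun i => by
    rw [← φ.apply_symm_apply (mgen i), ← map_mul, ← map_mul, mz_central]) with h | h
  · exact absurd (φ.injective (h.trans (map_one φ).symm)) mz_ne
  · exact h

theorem maut_invol (φ : MulAut M) (i : Fin 5) (s : ZMod 2) :
    φ (mlift i s) = mlift (kap (φ (mlift i s))) (φ (mlift i s)).c := by
  obtain ⟨h1, h2, h3⟩ := mlift_inv i s
  refine mlift_kap _ (by rw [← map_mul, h1, map_one]) (fun h => h2 (φ.injective (h.trans (map_one φ).symm)))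
    fun h => h3 (φ.injective (h.trans (maut_mz φ).symm))

theorem maut_gen (φ : MulAut M) (i : Fin 4) :
    φ (mgen i) = mlift (kap (φ (mgen i))) (φ (mgen i)).c :=
  maut_invol φ i.castSucc 0

attribute [local irreducible] mgen

theorem good_mlift (f : Fin 4 ↪ Fin 5) (σ : Fin 4 → ZMod 2) :
    Good mz fun i => mlift (f i) (σ i) :=
  ⟨mz_ne, rfl, mz_central, fun i => (mlift_inv _ _).1,
    fun i j hij => mlift_comm _ _ _ _ fun h => hij (f.injective h)⟩

/-- The four images of the generators, as singular cosets. -/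
noncomputable def pairOf (φ : MulAut M) : (Fin 4 ↪ Fin 5) × (Fin 4 → ZMod 2) :=
  (⟨fun i => kap (φ (mgen i)), fun i j hij => by
      have hij' : kap (φ (mgen i)) = kap (φ (mgen j)) := hij
      by_contra hne
      have h := congrArg φ (mgen_comm i j hne)
      simp only [map_mul, maut_mz] at h
      rw [maut_gen φ i, maut_gen φ j] at h
      rw [hij', mlift_same, right_eq_mul] at h
      exact mz_ne h⟩, fun i => (φ (mgen i)).c)

theorem pairOf_fst (φ : MulAut M) (i : Fin 4) : (pairOf φ).1 i = kap (φ (mgen i)) := rfl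

theorem pairOf_snd (φ : MulAut M) (i : Fin 4) : (pairOf φ).2 i = (φ (mgen i)).c := rfl

/-- The automorphism with prescribed images of the generators. -/
noncomputable def ofPair (v : (Fin 4 ↪ Fin 5) × (Fin 4 → ZMod 2)) : MulAut M :=
  MulEquiv.ofBijective (toHom (good_mlift v.1 v.2))
    (Finite.injective_iff_bijective.1 (toHom_injective (good_mlift v.1 v.2)))

theorem ofPair_apply (v : (Fin 4 ↪ Fin 5) × (Fin 4 → ZMod 2)) (m : M) :
    ofPair v m = toHom (good_mlift v.1 v.2) m := MulEquiv.ofBijective_apply ..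

attribute [local irreducible] toHom kap mlift

theorem ofPair_pairOf (φ : MulAut M) : ofPair (pairOf φ) = φ := by
  refine MulEquiv.ext fun m => ?_
  rw [ofPair_apply]
  symm
  have h := eq_toHom (good_mlift (pairOf φ).1 (pairOf φ).2) φ.toMonoidHom (maut_mz φ)
    (fun i => by
      rw [pairOf_fst, pairOf_snd]
      exact maut_gen φ i) m
  exact h

theorem pairOf_ofPair (v : (Fin 4 ↪ Fin 5) × (Fin 4 → ZMod 2)) : pairOf (ofPair v) = v := by
  refine Prod.ext (Function.Embedding.ext fun i => ?_) (funext fun i => ?_)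
  · rw [pairOf_fst, ofPair_apply, toHom_mgen, kap_mlift]
  · rw [pairOf_snd, ofPair_apply, toHom_mgen, c_mlift]

/-- Automorphisms of the model correspond to quadruples. -/
noncomputable def autEquiv : MulAut M ≃ (Fin 4 ↪ Fin 5) × (Fin 4 → ZMod 2) :=
  ⟨pairOf, ofPair, ofPair_pairOf, pairOf_ofPair⟩

theorem card_maut : Nat.card (MulAut M) = 1920 := by
  rw [Nat.card_congr autEquiv, Nat.card_prod, Nat.card_eq_fintype_card, Nat.card_eq_fintype_card,
    Fintype.card_embedding_eq, Fintype.card_fun, Fintype.card_fin, Fintype.card_fin, ZMod.card]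
  rfl

theorem kap_maut (φ : MulAut M) (i : Fin 5) (s : ZMod 2) :
    kap (φ (mlift i s)) = kap (φ (mlift i 0)) := by
  rcases z2cases s with rfl | rfl
  · rfl
  · rw [mlift_one, map_mul, maut_mz, kap_z]

def maction (φ : MulAut M) (i : Fin 5) : Fin 5 := kap (φ (mlift i 0))

theorem maction_mul (φ ψ : MulAut M) (i : Fin 5) :
    maction (φ * ψ) i = maction φ (maction ψ i) := by
  show kap (φ (ψ (mlift i 0))) = kap (φ (mlift (kap (ψ (mlift i 0))) 0))
  conv_lhs => rw [maut_invol ψ i 0, kap_maut]

theorem maction_one (i : Fin 5) : maction 1 i = i := kap_mlift i 0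

/-- The action on the five singular cosets. -/
def mperm : MulAut M →* Equiv.Perm (Fin 5) :=
  MonoidHom.mk'
    (fun φ => ⟨maction φ, maction φ⁻¹,
      fun i => by rw [← maction_mul, inv_mul_cancel, maction_one],
      fun i => by rw [← maction_mul, mul_inv_cancel, maction_one]⟩)
    fun φ ψ => Equiv.ext fun i => maction_mul φ ψ i

theorem mperm_surjective : Function.Surjective mperm := by
  intro σ
  refine ⟨autEquiv.symm (Fin.castSuccEmb.trans σ.toEmbedding, 0), ?_⟩
  set φ := autEquiv.symm (Fin.castSuccEmb.trans σ.toEmbedding, 0)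
  have h : ∀ i : Fin 4, maction φ i.castSucc = σ i.castSucc := fun i =>
    (by
      have := congrArg (fun v : (Fin 4 ↪ Fin 5) × (Fin 4 → ZMod 2) => v.1 i)
        (autEquiv.apply_symm_apply (Fin.castSuccEmb.trans σ.toEmbedding, 0))
      show kap (φ (mlift i.castSucc 0)) = _
      rw [← mgen_def]
      exact this)
  refine Equiv.ext fun i => ?_
  refine Fin.lastCases ?_ h i
  by_contra hne
  obtain ⟨k, hk⟩ := σ.surjective (mperm φ (Fin.last 4))
  refine Fin.lastCases (fun hk => hne hk.symm) (fun j hk => ?_) k hk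
  exact (Fin.castSucc_lt_last j).ne ((mperm φ).injective ((h j).trans hk))

theorem mperm_conj (g : M) : mperm (MulAut.conj g) = 1 := by
  refine Equiv.ext fun i => ?_
  show kap (g * mlift i 0 * g⁻¹) = i
  exact kap_conj g i

section
variable {P : Type*} [Group P] [Finite P]

/-- Four pairwise non-commuting involutions exist. -/
theorem exists_good (hex : Cfsg.IsExtraspecial 2 P) (h32 : Nat.card P = 32)
    (hminus : ∀ A : Subgroup P, Cfsg.IsElementaryAbelian 2 A → Nat.card ↥A ≤ 4) :
    ∃ (z : P) (t : Fin 4 → P), Good z t := by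
  classical
  haveI : Fact (Nat.Prime 2) := ⟨Nat.prime_two⟩
  haveI := Fintype.ofFinite P
  obtain ⟨⟨z, hzmem⟩, hzne⟩ : ∃ w : Subgroup.center P, w ≠ 1 := by
    haveI : Nontrivial (Subgroup.center P) := Finite.one_lt_card_iff_nontrivial.1 (by rw [hex.2]; omega)
    exact exists_ne 1
  have z1 : z ≠ 1 := fun h => hzne (Subtype.ext h)
  have hzc : ∀ x, x * z = z * x := Subgroup.mem_center_iff.1 hzmem
  have zz : z * z = 1 := by rw [← pow_two]; exact PGroup.special_center_pow hex.1 hzmem
  have hcen : ∀ w ∈ Subgroup.center P, w = 1 ∨ w = z := by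
    intro w hw
    by_contra hcon
    push Not at hcon
    haveI := Fintype.ofFinite (Subgroup.center P)
    have hc := Finset.card_le_univ ({1, ⟨z, hzmem⟩, ⟨w, hw⟩} : Finset (Subgroup.center P))
    rw [Finset.card_eq_three.2 ⟨1, ⟨z, hzmem⟩, ⟨w, hw⟩, fun e => hzne e.symm,
      fun e => hcon.1 (congrArg Subtype.val e).symm, fun e => hcon.2 (congrArg Subtype.val e).symm, rfl⟩,
      ← Nat.card_eq_fintype_card, hex.2] at hc
    omega
  have hsq : ∀ x, x * x = 1 ∨ x * x = z := fun x => hcen _ (by
    rw [← pow_two]; exact PGroup.special_pow_mem_center hex.1 x)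
  have hcm : ∀ x y, x * y = y * x ∨ x * y = z * (y * x) := fun x y => by
    have he : x * y = ⁅x, y⁆ * (y * x) := by rw [commutatorElement_def]; group
    rcases hcen _ (PGroup.special_commutator_mem_center hex.1 x y) with h | h <;> rw [h] at he
    · exact Or.inl (he.trans (one_mul _))
    · exact Or.inr he
  have hnc : ∀ x, x ≠ 1 → x ≠ z → ∃ y, x * y = z * (y * x) := fun x h1 h2 => by
    by_contra hcon
    push Not at hcon
    rcases hcen x (Subgroup.mem_center_iff.2 fun y => ((hcm x y).resolve_right (hcon y)).symm) with h | h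
    · exact h1 h
    · exact h2 h
  -- an involution outside the centre
  obtain ⟨u, uu, u1, uz⟩ : ∃ u, u * u = 1 ∧ u ≠ 1 ∧ u ≠ z := by
    by_contra hcon
    push Not at hcon
    obtain ⟨x, hx⟩ : ∃ x, x ≠ 1 ∧ x ≠ z := by
      by_contra hall
      push Not at hall
      have h2 : (Finset.univ : Finset P) ⊆ {1, z} := fun x _ => by
        rcases em (x = 1) with h | h
        · simp [h]
        · simp [hall x h]
      have h3 := (Finset.card_le_card h2).trans Finset.card_le_two
      rw [Finset.card_univ, ← Nat.card_eq_fintype_card, h32] at h3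
      omega
    obtain ⟨A, hxA, hA, hmax⟩ := PGroup.exists_le_maximal_abelian (A := Subgroup.zpowers x) inferInstance
    have hcard := PGroup.extraspecial_maximal_abelian_sq hex hA hmax
    rw [h32] at hcard
    haveI := Fintype.ofFinite A
    obtain ⟨y, hy, hy'⟩ : ∃ y ∈ A, y ∉ ({1, z, x, z * x} : Finset P) := by
      by_contra hall
      push Not at hall
      have h2 : (Finset.univ : Finset A).map (Function.Embedding.subtype _) ⊆ {1, z, x, z * x} := by
        intro w hw
        obtain ⟨w', -, rfl⟩ := Finset.mem_map.1 hw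
        exact hall _ w'.2
      have h3 := (Finset.card_le_card h2).trans Finset.card_le_four
      rw [Finset.card_map, Finset.card_univ, ← Nat.card_eq_fintype_card] at h3
      nlinarith
    simp only [Finset.mem_insert, Finset.mem_singleton, not_or] at hy'
    obtain ⟨hy1, hyz, hyx, hyzx⟩ := hy'
    have hxx : x * x = z := (hsq x).resolve_left fun h => hx.2 (hcon x h hx.1)
    have hyy : y * y = z := (hsq y).resolve_left fun h => hyz (hcon y h hy1)
    have hxy : x * y = y * x := congrArg Subtype.val
      (hA.is_comm.comm (⟨x, hxA (Subgroup.mem_zpowers x)⟩ : A) ⟨y, hy⟩)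
    have h4 : x * y * (x * y) = 1 := by
      calc x * y * (x * y) = x * (y * x) * y := by simp only [mul_assoc]
        _ = x * x * (y * y) := by rw [← hxy]; simp only [mul_assoc]
        _ = 1 := by rw [hxx, hyy, zz]
    have hne : x * y ≠ 1 := fun h => hyzx (by
      calc y = x⁻¹ := eq_inv_of_mul_eq_one_right h
        _ = z * x := by
          refine inv_eq_of_mul_eq_one_right ?_
          rw [← mul_assoc, hzc, mul_assoc, hxx, zz])
    exact hyx (mul_left_cancel ((hcon _ h4 hne).trans hxx.symm))
  have noE : ∀ w, w * w = 1 → u * w = w * u → w = 1 ∨ w = z ∨ w = u ∨ w = z * u := by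
    intro w ww huw
    by_contra hcon
    push Not at hcon
    obtain ⟨w1, wz, wu, wzu⟩ := hcon
    let S : Set P := {z, u, w}
    have hel : Cfsg.IsElementaryAbelian 2 (Subgroup.closure S) := by
      have hc : IsMulCommutative (Subgroup.closure S) := Subgroup.isMulCommutative_closure (by
        rintro a (rfl | rfl | rfl) b (rfl | rfl | rfl) <;>
          first | rfl | exact huw | exact huw.symm | exact hzc _ | exact (hzc _).symm)
      refine ⟨hc, fun a ha => ?_⟩
      induction ha using Subgroup.closure_induction with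
      | mem a ha =>
        rcases ha with rfl | rfl | rfl <;> rw [pow_two] <;> assumption
      | one => exact one_pow 2
      | mul a b ha hb iha ihb =>
        have hcab : Commute a b := congrArg Subtype.val
          (hc.is_comm.comm (⟨a, ha⟩ : Subgroup.closure S) ⟨b, hb⟩)
        rw [hcab.mul_pow, iha, ihb, mul_one]
      | inv a _ iha => rw [inv_pow, iha, inv_one]
    have h4 := hminus _ hel
    haveI := Fintype.ofFinite (Subgroup.closure S)
    have hz' : z ∈ Subgroup.closure S := Subgroup.subset_closure (by simp [S])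
    have hu' : u ∈ Subgroup.closure S := Subgroup.subset_closure (by simp [S])
    have hw' : w ∈ Subgroup.closure S := Subgroup.subset_closure (by simp [S])
    have hsub : ({1, z, u, z * u, w} : Finset P) ⊆ (Finset.univ : Finset (Subgroup.closure S)).map
        (Function.Embedding.subtype _) := by
      intro a ha
      simp only [Finset.mem_insert, Finset.mem_singleton] at ha
      rcases ha with rfl | rfl | rfl | rfl | rfl
      · exact Finset.mem_map.2 ⟨1, Finset.mem_univ _, rfl⟩
      · exact Finset.mem_map.2 ⟨⟨_, hz'⟩, Finset.mem_univ _, rfl⟩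
      · exact Finset.mem_map.2 ⟨⟨_, hu'⟩, Finset.mem_univ _, rfl⟩
      · exact Finset.mem_map.2 ⟨⟨_, mul_mem hz' hu'⟩, Finset.mem_univ _, rfl⟩
      · exact Finset.mem_map.2 ⟨⟨_, hw'⟩, Finset.mem_univ _, rfl⟩
    have h5 := Finset.card_le_card hsub
    rw [Finset.card_map, Finset.card_univ, ← Nat.card_eq_fintype_card] at h5
    have n1 : z * u ≠ 1 := fun h => uz ((eq_inv_of_mul_eq_one_right h).trans
      (inv_eq_of_mul_eq_one_right zz))
    have n2 : z * u ≠ z := fun h => u1 (mul_eq_left.1 h)
    have n3 : z * u ≠ u := fun h => z1 (mul_eq_right.1 h)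
    rw [Finset.card_insert_of_notMem (by simp [z1.symm, u1.symm, n1.symm, w1.symm]),
      Finset.card_insert_of_notMem (by simp [uz.symm, n2.symm, wz.symm]),
      Finset.card_insert_of_notMem (by simp [n3.symm, wu.symm]),
      Finset.card_pair wzu.symm] at h5
    omega
  -- a second one, not commuting with the first
  have swap : ∀ {a b : P}, a * b = z * (b * a) → b * a = z * (a * b) := fun h => by
    rw [h, ← mul_assoc, zz, one_mul]
  obtain ⟨v, vv, huv⟩ : ∃ v, v * v = 1 ∧ u * v = z * (v * u) := by
    obtain ⟨y, hy⟩ := hnc u u1 uz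
    rcases hsq y with h | h
    · exact ⟨y, h, hy⟩
    · refine ⟨u * y, ?_, ?_⟩
      · calc u * y * (u * y) = u * (y * u) * y := by simp only [mul_assoc]
          _ = z * (u * u) * (y * y) := by
            rw [swap hy, ← mul_assoc u z, hzc]; simp only [mul_assoc]
          _ = 1 := by rw [uu, mul_one, h, zz]
      · conv_lhs => rw [hy]
        rw [← mul_assoc u z, hzc]
        simp only [mul_assoc]
  have hvu := swap huv
  -- adjusting into the centraliser of `u` and `v`
  have adj : ∀ y, ∃ i j : ZMod 2, let y' := y * (ep u i * ep v j); u * y' = y' * u ∧ v * y' = y' * v := by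
    intro y
    have comb : ∀ a : P, ∀ y b : P, ∀ i j : ZMod 2, a * y = ep z i * (y * a) → a * b = ep z j * (b * a) →
        a * (y * b) = ep z (i + j) * (y * b * a) := by
      intro a y b i j h1 h2
      rw [← mul_assoc, h1, mul_assoc (ep z i), mul_assoc y a, h2, ep_z hzc, ep_merge' zz, mul_assoc]
    have h : ∀ a y : P, ∃ i, a * y = ep z i * (y * a) := fun a y => by
      rcases hcm a y with h | h
      · exact ⟨0, by rw [ep_zero, one_mul, h]⟩
      · exact ⟨1, by rw [ep_one, h]⟩
    obtain ⟨i, hi⟩ := h v y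
    obtain ⟨j, hj⟩ := h u y
    refine ⟨i, j, ?_, ?_⟩
    · have hb : u * (ep u i * ep v j) = ep z (0 + j) * (ep u i * ep v j * u) := comb u _ _ 0 j
        (by rcases z2cases i with rfl | rfl <;> simp [ep_zero, ep_one])
        (by rcases z2cases j with rfl | rfl <;> simp [ep_zero, ep_one, huv])
      have h' := comb u _ _ j (0 + j) hj hb
      rwa [zero_add, CharTwo.add_self_eq_zero, ep_zero, one_mul] at h'
    · have hb : v * (ep u i * ep v j) = ep z (i + 0) * (ep u i * ep v j * v) := comb v _ _ i 0
        (by rcases z2cases i with rfl | rfl <;> simp [ep_zero, ep_one, hvu])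
        (by rcases z2cases j with rfl | rfl <;> simp [ep_zero, ep_one])
      have h' := comb v _ _ i (i + 0) hi hb
      rwa [add_zero, CharTwo.add_self_eq_zero, ep_zero, one_mul] at h'
  -- an element outside `⟨z,u,v⟩`
  let T : Finset P := Finset.univ.image fun a : ZMod 2 × ZMod 2 × ZMod 2 =>
    ep z a.1 * (ep v a.2.1 * ep u a.2.2)
  obtain ⟨c0, hc0⟩ : ∃ c0, c0 ∉ T := by
    by_contra hall
    push Not at hall
    have h1 := (Finset.card_le_card (fun x (_ : x ∈ (Finset.univ : Finset P)) => hall x)).trans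
      Finset.card_image_le
    simp only [Finset.card_univ, Fintype.card_prod, ZMod.card] at h1
    rw [← Nat.card_eq_fintype_card, h32] at h1
    omega
  obtain ⟨i, j, hcu, hcv⟩ := adj c0
  set c := c0 * (ep u i * ep v j) with hc
  have cinv : c0 = c * (ep v j * ep u i) := by
    rw [hc, mul_assoc c0, mul_assoc (ep u i), ← mul_assoc (ep v j), ep_merge vv,
      CharTwo.add_self_eq_zero, ep_zero, one_mul, ep_merge uu, CharTwo.add_self_eq_zero, ep_zero, mul_one]
  have c1 : c ≠ 1 := fun h => hc0 (Finset.mem_image.2 ⟨(0, j, i), Finset.mem_univ _, by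
    rw [cinv, h, ep_zero]⟩)
  have cz : c ≠ z := fun h => hc0 (Finset.mem_image.2 ⟨(1, j, i), Finset.mem_univ _, by
    rw [cinv, h, ep_one]⟩)
  obtain ⟨d0, hd0⟩ := hnc c c1 cz
  obtain ⟨i', j', hdu, hdv⟩ := adj d0
  set d := d0 * (ep u i' * ep v j') with hd
  have hcd : c * d = z * (d * c) := by
    have e1 : ∀ (a : P) (b : ZMod 2), c * a = a * c → c * ep a b = ep a b * c := fun a b h => by
      rcases z2cases b with rfl | rfl <;> simp [ep_zero, ep_one, h]
    rw [hd, ← mul_assoc, hd0]
    simp only [mul_assoc]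
    rw [← mul_assoc c, e1 u i' hcu.symm, mul_assoc, e1 v j' hcv.symm]
  have sqz : ∀ w, u * w = w * u → v * w = w * v → w ≠ 1 → w ≠ z → w * w = z := by
    intro w hwu hwv w1 wz
    refine (hsq w).resolve_left fun ww => ?_
    rcases noE w ww hwu with h | h | h | h
    · exact w1 h
    · exact wz h
    · rw [h] at hwv
      exact z1 (right_eq_mul.1 (hwv.trans huv))
    · rw [h, ← mul_assoc, hzc, mul_assoc, mul_assoc, mul_right_inj] at hwv
      exact z1 (right_eq_mul.1 (hwv.trans huv))
  have ne1 : ∀ {a b : P}, a * b = z * (b * a) → (b ≠ 1 ∧ b ≠ z) := fun h =>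
    ⟨fun e => z1 (by simpa [e] using h.symm), fun e => z1 (by
      rw [e, hzc, ← mul_assoc, zz, one_mul] at h; exact mul_eq_right.1 h)⟩
  have cc := sqz c hcu hcv c1 cz
  have dd := sqz d hdu hdv (ne1 hcd).1 (ne1 hcd).2
  have hdc := swap hcd
  refine ⟨z, ![u, v, u * v * c, u * v * d], z1, zz, hzc, ?_, ?_⟩
  · have hinv : ∀ w, u * w = w * u → v * w = w * v → w * w = z → u * v * w * (u * v * w) = 1 := by
      intro w hwu hwv ww
      calc u * v * w * (u * v * w) = u * v * (w * u) * v * w := by simp only [mul_assoc]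
        _ = u * v * u * (w * v) * w := by rw [← hwu]; simp only [mul_assoc]
        _ = u * (v * u) * v * (w * w) := by rw [← hwv]; simp only [mul_assoc]
        _ = z * (u * u) * (v * v) * z := by rw [hvu, ← mul_assoc u z, hzc, ww]; simp only [mul_assoc]
        _ = 1 := by rw [uu, vv, mul_one, mul_one, zz]
    intro k
    fin_cases k
    exacts [uu, vv, hinv c hcu hcv cc, hinv d hdu hdv dd]
  · have key1 : ∀ w, u * w = w * u → u * (u * v * w) = z * (u * v * w * u) := fun w hwu => by
      rw [show u * (u * v * w) = v * w by rw [mul_assoc u v, ← mul_assoc, uu, one_mul],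
        mul_assoc (u * v) w u, ← hwu, huv]
      simp only [mul_assoc]
      rw [← mul_assoc u u, uu, one_mul, ← mul_assoc z z, zz, one_mul]
    have key2 : ∀ w, v * w = w * v → v * (u * v * w) = z * (u * v * w * v) := fun w hwv => by
      calc v * (u * v * w) = v * u * (v * w) := by simp only [mul_assoc]
        _ = z * (u * v * w * v) := by rw [hvu, hwv]; simp only [mul_assoc]
    have key3 : ∀ a b, u * a = a * u → v * a = a * v → u * b = b * u → v * b = b * v →
        a * b = z * (b * a) → u * v * a * (u * v * b) = z * (u * v * b * (u * v * a)) := by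
      intro a b hau hav hbu hbv hab
      have hA : Commute a (u * v) := (Commute.mul_right (hau.symm : Commute a u) (hav.symm : Commute a v))
      have hB : Commute b (u * v) := (Commute.mul_right (hbu.symm : Commute b u) (hbv.symm : Commute b v))
      rw [mul_assoc (u * v), ← mul_assoc a, hA.eq, mul_assoc (u * v) a, hab,
        mul_assoc (u * v) b (u * v * a), ← mul_assoc b (u * v), hB.eq, mul_assoc (u * v) b a,
        ← mul_assoc (u * v) z, hzc, mul_assoc z (u * v), ← mul_assoc (u * v) z, hzc, mul_assoc z]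
    intro k l hkl
    fin_cases k <;> fin_cases l <;> first
      | exact absurd rfl hkl
      | exact huv
      | exact hvu
      | exact key1 c hcu
      | exact key1 d hdu
      | exact key2 c hcv
      | exact key2 d hdv
      | exact key3 c d hcu hcv hdu hdv hcd
      | exact key3 d c hdu hdv hcu hcv hdc
      | exact swap (key1 c hcu)
      | exact swap (key1 d hdu)
      | exact swap (key2 c hcv)
      | exact swap (key2 d hdv)

end

/-- Let P be an extraspecial 2-group of order 32 with no elementary abelian subgroup of order 8 (the central product of a dihedral and a quaternion group of order 8). Then the inner automorphism group of P has order 16 and the outer automorphism group Aut(P)/Inn(P) is isomorphic to the symmetric group of degree 5; in particular Aut(P) has order 1920. -/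
theorem result {P : Type*} [Group P] [Finite P]
    (hex : Cfsg.IsExtraspecial 2 P) (h32 : Nat.card P = 32)
    (hminus : ∀ A : Subgroup P, Cfsg.IsElementaryAbelian 2 A → Nat.card ↥A ≤ 4)
    [(MulAut.conj : P →* MulAut P).range.Normal] :
    Nat.card ↥(MulAut.conj : P →* MulAut P).range = 16 ∧ Nat.card (MulAut P) = 1920 ∧
      Nonempty ((MulAut P ⧸ (MulAut.conj : P →* MulAut P).range) ≃* Equiv.Perm (Fin 5)) := by
  obtain ⟨z, t, hg⟩ := exists_good hex h32 hminus
  haveI := Fintype.ofFinite P
  have hbij : Function.Bijective (toHom hg) := by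
    refine (Fintype.bijective_iff_injective_and_card _).2 ⟨toHom_injective hg, ?_⟩
    rw [← Nat.card_eq_fintype_card (α := P), h32]
    rfl
  let e : P ≃* M := (MulEquiv.ofBijective (toHom hg) hbij).symm
  let E : MulAut P ≃* MulAut M := MulAut.congr e
  have hInn : Nat.card ↥(MulAut.conj : P →* MulAut P).range = 16 := by
    have hk : (MulAut.conj : P →* MulAut P).ker = Subgroup.center P := by
      ext g
      rw [MonoidHom.mem_ker, Subgroup.mem_center_iff]
      constructor
      · intro h x
        have := congrArg (fun f : MulAut P => f x) h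
        simp only [MulAut.conj_apply, MulAut.one_apply] at this
        exact (mul_inv_eq_iff_eq_mul.1 this).symm
      · intro h
        ext x
        rw [MulAut.conj_apply, MulAut.one_apply, ← h x, mul_inv_cancel_right]
    have h2 := Subgroup.card_mul_index (Subgroup.center P)
    rw [hex.2, h32] at h2
    rw [← Subgroup.index_ker, hk]
    omega
  have hAut : Nat.card (MulAut P) = 1920 := (Nat.card_congr E.toEquiv).trans card_maut
  refine ⟨hInn, hAut, ?_⟩
  let f : MulAut P →* Equiv.Perm (Fin 5) := mperm.comp E.toMonoidHom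
  have hf : Function.Surjective f := mperm_surjective.comp E.surjective
  have hle : (MulAut.conj : P →* MulAut P).range ≤ f.ker := by
    rintro _ ⟨g, rfl⟩
    rw [MonoidHom.mem_ker]
    show mperm (E (MulAut.conj g)) = 1
    have : E (MulAut.conj g) = MulAut.conj (e g) := by
      refine MulEquiv.ext fun m => ?_
      simp [E, MulAut.congr]
    rw [this, mperm_conj]
  haveI : Finite (MulAut P) := Nat.finite_of_card_ne_zero (by omega)
  have hker : Nat.card f.ker = 16 := by
    have h2 := Subgroup.card_mul_index f.ker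
    rw [hAut, Subgroup.index_ker, MonoidHom.range_eq_top.2 hf, Subgroup.card_top,
      Nat.card_eq_fintype_card (α := Equiv.Perm (Fin 5)), Fintype.card_perm, Fintype.card_fin,
      show Nat.factorial 5 = 120 from rfl] at h2
    omega
  have heq : (MulAut.conj : P →* MulAut P).range = f.ker :=
    Subgroup.eq_of_le_of_card_ge hle (by rw [hInn, hker])
  exact ⟨(QuotientGroup.quotientMulEquivOfEq heq).trans
    (QuotientGroup.quotientKerEquivOfSurjective f hf)⟩

end Cfsg.Agent.S4413
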