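import Cfsg.Statements.S4414
import Mathlib

set_option autoImplicit false
open Cfsg

namespace Cfsg.Agent.S4414

open scoped TensorProduct

section weights

variable {S : Type*} [Group S] (A : Subgroup S) [hN : A.Normal] {K : Type*} [Field K]

/-- Conjugation action of `s` on characters of the normal subgroup `A`. -/
noncomputable def conjChar (s : S) (l : ↥A →* Kˣ) : ↥A →* Kˣ where
  toFun a := l ⟨s⁻¹ * a * s, by simpa [mul_assoc] using hN.conj_mem _ a.2 s⁻¹⟩
  map_one' := by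
    have : (⟨s⁻¹ * ((1 : ↥A) : S) * s, by simp⟩ : ↥A) = 1 := Subtype.ext (by simp)
    rw [this, map_one]
  map_mul' a b := by
    rw [← map_mul]; congr 1; ext; simp [mul_assoc]

@[reducible] noncomputable def charAction : MulAction S (↥A →* Kˣ) where
  smul := conjChar A
  one_smul l := by
    refine MonoidHom.ext fun a => ?_
    show l _ = l a
    congr 1; ext; simp
  mul_smul s t l := by
    refine MonoidHom.ext fun a => ?_
    show l _ = l _
    congr 1; ext; simp [mul_assoc]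

variable {V : Type*} [AddCommGroup V] [Module K V] (σ : Representation K S V) [Fintype ↥A]

/-- The projection onto the weight space of a character. -/
noncomputable def wproj (l : ↥A →* Kˣ) : V →ₗ[K] V :=
  (Fintype.card ↥A : K)⁻¹ • ∑ a : ↥A, ((l a⁻¹ : Kˣ) : K) • σ (a : S)

theorem wproj_apply (l : ↥A →* Kˣ) (v : V) :
    wproj A σ l v = (Fintype.card ↥A : K)⁻¹ • ∑ a : ↥A, ((l a⁻¹ : Kˣ) : K) • σ (a : S) v := by
  simp [wproj, LinearMap.sum_apply]

theorem weight_wproj (l : ↥A →* Kˣ) (v : V) (b : ↥A) :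
    σ (b : S) (wproj A σ l v) = ((l b : Kˣ) : K) • wproj A σ l v := by
  rw [wproj_apply, map_smul, smul_comm ((l b : Kˣ) : K)]
  congr 1
  rw [map_sum, Finset.smul_sum]
  refine Fintype.sum_equiv (Equiv.mulLeft b) _ _ fun a => ?_
  simp only [map_smul, Equiv.coe_mulLeft, Subgroup.coe_mul, map_mul, Module.End.mul_apply]
  rw [smul_smul, mul_inv_rev, map_mul, ← Units.val_mul, mul_comm (l a⁻¹), ← mul_assoc, ← map_mul,
    mul_inv_cancel, map_one, one_mul]

theorem char_sum_zero (l : ↥A →* Kˣ) (hl : l ≠ 1) : ∑ a : ↥A, ((l a : Kˣ) : K) = 0 := by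
  obtain ⟨b, hb⟩ : ∃ b, l b ≠ 1 := by
    by_contra h
    push_neg at h
    exact hl (MonoidHom.ext h)
  have h1 : ∑ a : ↥A, ((l a : Kˣ) : K) = ((l b : Kˣ) : K) * ∑ a : ↥A, ((l a : Kˣ) : K) := by
    rw [Finset.mul_sum]
    refine Fintype.sum_equiv (Equiv.mulLeft b⁻¹) _ _ fun a => ?_
    simp [← Units.val_mul, ← map_mul]
  have h2 : ((l b : Kˣ) : K) ≠ 1 := fun h => hb (Units.ext h)
  by_contra h
  exact h2 ((mul_eq_right₀ h).mp h1.symm)

variable (hc : (Fintype.card ↥A : K) ≠ 0)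

open scoped Classical in
include hc in
theorem wproj_wproj (m l : ↥A →* Kˣ) (v : V) :
    wproj A σ m (wproj A σ l v) = if m = l then wproj A σ l v else 0 := by
  rw [wproj_apply A σ m]
  simp only [weight_wproj, smul_smul]
  rw [← Finset.sum_smul, smul_smul]
  split_ifs with h
  · subst h
    have : ∑ a : ↥A, ((m a⁻¹ : Kˣ) : K) * ((m a : Kˣ) : K) = (Fintype.card ↥A : K) := by
      simp [← Units.val_mul, ← map_mul]
    rw [this, inv_mul_cancel₀ hc, one_smul]
  · have : ∑ a : ↥A, ((m a⁻¹ : Kˣ) : K) * ((l a : Kˣ) : K) = 0 := by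
      have := char_sum_zero A (m⁻¹ * l) (fun h' => h (inv_mul_eq_one.mp h'))
      simpa [MonoidHom.inv_apply, map_inv] using this
    rw [this, mul_zero, zero_smul]

theorem wproj_conj (s : S) (l : ↥A →* Kˣ) (v : V) :
    σ s (wproj A σ l v) = wproj A σ (conjChar A s l) (σ s v) := by
  rw [wproj_apply, wproj_apply, map_smul, map_sum]
  congr 1
  refine Fintype.sum_equiv
    { toFun := fun a : ↥A => (⟨s * a * s⁻¹, hN.conj_mem _ a.2 s⟩ : ↥A)
      invFun := fun a : ↥A => (⟨s⁻¹ * a * s, by simpa [mul_assoc] using hN.conj_mem _ a.2 s⁻¹⟩ : ↥A)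
      left_inv := fun a => by ext; simp [mul_assoc]
      right_inv := fun a => by ext; simp [mul_assoc] } _ _ fun a => ?_
  simp only [map_smul, Equiv.coe_fn_mk]
  congr 1
  · congr 1
    show l _ = l _
    congr 1; ext; simp [mul_assoc]
  · rw [← Module.End.mul_apply, ← map_mul, ← Module.End.mul_apply, ← map_mul]
    simp [mul_assoc]

include hc in
theorem sum_wproj [Finite K] [Fintype (↥A →* Kˣ)] [HasEnoughRootsOfUnity K (Monoid.exponent ↥A)]
    (hcomm : ∀ a b : ↥A, a * b = b * a) (v : V) : ∑ l : ↥A →* Kˣ, wproj A σ l v = v := by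
  classical
  letI : CommGroup ↥A := { (inferInstance : Group ↥A) with mul_comm := hcomm }
  simp only [wproj_apply]
  rw [← Finset.smul_sum, Finset.sum_comm]
  simp only [← Finset.sum_smul]
  rw [Finset.sum_eq_single (1 : ↥A)]
  · have hcard : Fintype.card (↥A →* Kˣ) = Fintype.card ↥A := by
      have := CommGroup.card_monoidHom_of_hasEnoughRootsOfUnity ↥A K
      rwa [Nat.card_eq_fintype_card, Nat.card_eq_fintype_card] at this
    simp only [inv_one, map_one, Units.val_one, Finset.sum_const, Finset.card_univ, hcard,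
      nsmul_eq_mul, mul_one, OneMemClass.coe_one, Module.End.one_apply]
    rw [smul_smul, inv_mul_cancel₀ hc, one_smul]
  · intro a _ ha
    obtain ⟨f, hf⟩ := CommGroup.exists_apply_ne_one_of_hasEnoughRootsOfUnity ↥A K (a := a⁻¹) (by simpa using ha)
    have h1 : ∑ l : ↥A →* Kˣ, ((l a⁻¹ : Kˣ) : K) = ((f a⁻¹ : Kˣ) : K) * ∑ l : ↥A →* Kˣ, ((l a⁻¹ : Kˣ) : K) := by
      rw [Finset.mul_sum]
      refine Fintype.sum_equiv (Equiv.mulLeft f⁻¹) _ _ fun l => ?_
      simp only [Equiv.coe_mulLeft, MonoidHom.mul_apply, MonoidHom.inv_apply, ← Units.val_mul,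
        mul_inv_cancel_left]
    have h2 : ((f a⁻¹ : Kˣ) : K) ≠ 1 := fun h => hf (Units.ext h)
    have h0 : ∑ l : ↥A →* Kˣ, ((l a⁻¹ : Kˣ) : K) = 0 := by
      by_contra h
      exact h2 ((mul_eq_right₀ h).mp h1.symm)
    rw [h0, zero_smul]
  · simp

include hc in
theorem eq_zero_of_wproj [Finite K] [HasEnoughRootsOfUnity K (Monoid.exponent ↥A)]
    (hcomm : ∀ a b : ↥A, a * b = b * a) (v : V) (h : ∀ l, wproj A σ l v = 0) : v = 0 := by
  haveI : Finite (↥A →* Kˣ) := Finite.of_injective (fun f => (f : ↥A → Kˣ)) DFunLike.coe_injective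
  haveI := Fintype.ofFinite (↥A →* Kˣ)
  rw [← sum_wproj A σ hc hcomm v]
  exact Finset.sum_eq_zero fun l _ => h l

include hc in
theorem exists_nontrivial_weight [Finite K]
    [HasEnoughRootsOfUnity K (Monoid.exponent ↥A)] (hcomm : ∀ a b : ↥A, a * b = b * a)
    (hnt : ∃ a : ↥A, σ (a : S) ≠ 1) :
    ∃ l : ↥A →* Kˣ, l ≠ 1 ∧ ∃ v, wproj A σ l v ≠ 0 := by
  haveI : Finite (↥A →* Kˣ) := Finite.of_injective (fun f => (f : ↥A → Kˣ)) DFunLike.coe_injective
  haveI := Fintype.ofFinite (↥A →* Kˣ)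
  have hsum := sum_wproj A σ hc hcomm
  by_contra h
  push_neg at h
  obtain ⟨a, ha⟩ := hnt
  apply ha
  refine LinearMap.ext fun v => ?_
  have hv : wproj A σ 1 v = v := by
    conv_rhs => rw [← hsum v]
    rw [Finset.sum_eq_single (1 : ↥A →* Kˣ)]
    · exact fun l _ hl => h l hl v
    · simp
  calc σ (a : S) v = σ (a : S) (wproj A σ 1 v) := by rw [hv]
    _ = v := by rw [weight_wproj]; simp [hv]

include hc in
theorem core [Finite S] [Finite K] [Finite V] [HasEnoughRootsOfUnity K (Monoid.exponent ↥A)]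
    (h2 : (2 : K) = 0) (hcomm : ∀ a b : ↥A, a * b = b * a) (P : Subgroup S) (hP : IsPGroup 2 ↥P)
    (q : ℕ) (hq : q.Prime) (hq2 : q ≠ 2) (z : S) (hz : z ^ q = 1)
    (hfpf : ∀ l : ↥A →* Kˣ, conjChar A z l = l → l = 1)
    (hnt : ∃ a : ↥A, σ (a : S) ≠ 1) :
    Nat.card K ^ 2 ≤ Nat.card {v : V // ∀ s ∈ P, σ s v = v} ∧
      (Nat.card {v : V // ∀ s ∈ P, σ s v = v} ≤ Nat.card K ^ 2 →
        ∃ v : V, (∀ s ∈ P, σ s v = v) ∧ ¬ ∀ s ∈ P, σ s (σ z v) = σ z v) := by
  classical
  letI := charAction A (K := K)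
  haveI : Finite (↥A →* Kˣ) := Finite.of_injective (fun f => (f : ↥A → Kˣ)) DFunLike.coe_injective
  haveI : Fact (Nat.Prime 2) := ⟨Nat.prime_two⟩
  haveI : Fact q.Prime := ⟨hq⟩
  obtain ⟨l₁, hl₁, u₁, hu₁⟩ := exists_nontrivial_weight A σ hc hcomm hnt
  let orb : (↥A →* Kˣ) → Set (↥A →* Kˣ) := fun l => MulAction.orbit ↥P l
  have hone : ∀ s : S, s • (1 : ↥A →* Kˣ) = 1 := fun s => MonoidHom.ext fun a => rfl
  -- a fixed vector with support a given orbit
  have hfix : ∀ l u, wproj A σ l u ≠ 0 → ∃ v, (∀ s ∈ P, σ s v = v) ∧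
      ∀ m, wproj A σ m v ≠ 0 ↔ m ∈ orb l := by
    intro l u hu
    let W : Submodule K V := ⨅ m : ↥A →* Kˣ, ⨅ _ : m ∉ orb l, LinearMap.ker (wproj A σ m)
    have hW : ∀ v, v ∈ W ↔ ∀ m, m ∉ orb l → wproj A σ m v = 0 := by
      intro v; simp [W, Submodule.mem_iInf]
    have horb : ∀ (s : ↥P) m, (s : S) • m ∈ orb l ↔ m ∈ orb l := by
      intro s m
      constructor
      · rintro ⟨t, ht⟩
        refine ⟨s⁻¹ * t, ?_⟩
        show ((s⁻¹ * t : ↥P) : S) • l = m
        have ht' : (t : S) • l = (s : S) • m := ht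
        rw [Subgroup.coe_mul, mul_smul, ht', ← mul_smul]
        simp
      · rintro ⟨t, ht⟩
        refine ⟨s * t, ?_⟩
        show ((s * t : ↥P) : S) • l = (s : S) • m
        rw [Subgroup.coe_mul, mul_smul]
        exact congrArg _ ht
    have hWinv : ∀ (s : ↥P) v, v ∈ W → σ (s : S) v ∈ W := by
      intro s v hv
      rw [hW] at hv ⊢
      intro m hm
      have hm' : (s : S)⁻¹ • m ∉ orb l := fun h => hm (by
        have := (horb s _).mpr h
        rwa [smul_inv_smul] at this)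
      have h3 := wproj_conj A σ (s : S) ((s : S)⁻¹ • m) v
      rw [show conjChar A (s : S) ((s : S)⁻¹ • m) = m from smul_inv_smul (s : S) m, hv _ hm',
        map_zero] at h3
      exact h3.symm
    let act : MulAction ↥P ↥W :=
      { smul := fun s v => ⟨σ (s : S) v, hWinv s v v.2⟩
        one_smul := fun v => Subtype.ext (by show σ ((1 : ↥P) : S) (v : V) = v; simp)
        mul_smul := fun s t v => Subtype.ext (by
          show σ ((s * t : ↥P) : S) (v : V) = σ (s : S) (σ (t : S) (v : V))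
          simp) }
    have hmem : wproj A σ l u ∈ W := by
      rw [hW]; intro m hm
      rw [wproj_wproj A σ hc, if_neg (fun h => hm (by rw [h]; exact MulAction.mem_orbit_self l))]
    have hcardW : 2 ∣ Nat.card ↥W := by
      rw [Module.natCard_eq_pow_finrank (K := K)]
      have hK : 2 ∣ Nat.card K := by
        have : (1 : K) + 1 = 0 := by rw [← h2]; norm_num
        have h' : addOrderOf (1 : K) = 2 := addOrderOf_eq_prime (by rw [two_nsmul, this]) one_ne_zero
        exact h' ▸ addOrderOf_dvd_natCard (1 : K)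
      refine hK.trans (dvd_pow_self _ ?_)
      intro h0
      have hsub : Subsingleton ↥W := Module.finrank_zero_iff.mp h0
      exact hu (congrArg Subtype.val (Subsingleton.elim (⟨_, hmem⟩ : ↥W) 0))
    obtain ⟨v, hv, hne⟩ := hP.exists_fixed_point_of_prime_dvd_card_of_fixed_point ↥W hcardW
      (a := (0 : ↥W)) (fun s => Subtype.ext (by show σ (s : S) ((0 : ↥W) : V) = 0; simp))
    have hvfix : ∀ s ∈ P, σ s (v : V) = v := fun s hs => congrArg Subtype.val (hv ⟨s, hs⟩)
    refine ⟨v, hvfix, fun m => ⟨fun hm => by_contra fun h => hm ((hW _).mp v.2 m h), fun hm => ?_⟩⟩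
    -- support is invariant under P and non-empty
    intro h0
    have hall : ∀ m' ∈ orb l, wproj A σ m' (v : V) = 0 := by
      intro m' hm'
      obtain ⟨t, rfl⟩ : m' ∈ orb m := by
        show m' ∈ MulAction.orbit ↥P m
        rw [MulAction.orbit_eq_iff.mpr hm]; exact hm'
      have h3 := wproj_conj A σ (t : S) m (v : V)
      rw [h0, map_zero, hvfix _ t.2] at h3
      exact h3.symm
    apply hne
    refine Subtype.ext ?_
    exact (eq_zero_of_wproj A σ hc hcomm (v : V) fun m' => by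
      by_cases h : m' ∈ orb l
      · exact hall m' h
      · exact (hW _).mp v.2 m' h).symm
  obtain ⟨v₁, hv₁, hs₁⟩ := hfix l₁ u₁ hu₁
  have hmulz : ∀ (m : ↥A →* Kˣ) v, wproj A σ m (σ z v) ≠ 0 ↔ wproj A σ (z⁻¹ • m) v ≠ 0 := by
    intro m v
    have h3 := wproj_conj A σ z (z⁻¹ • m) v
    rw [show conjChar A z (z⁻¹ • m) = m from smul_inv_smul z m] at h3
    rw [← h3]
    exact not_congr ⟨fun h => by simpa using congrArg (σ z⁻¹) h, fun h => by rw [h, map_zero]⟩
  -- an orbit is not invariant under z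
  have hninv : ∀ l, l ≠ 1 → ¬ ∀ m ∈ orb l, z • m ∈ orb l := by
    intro l hl h
    haveI : Finite (orb l) := Set.toFinite _
    have hpow : ∀ (g : S) (m : ↥A →* Kˣ), g ∈ Subgroup.zpowers z → m ∈ orb l → g • m ∈ orb l := by
      intro g m hg hm
      obtain ⟨i, rfl⟩ : g ∈ Submonoid.powers z := mem_powers_iff_mem_zpowers.mpr hg
      induction i with
      | zero => simpa using hm
      | succ i ih =>
        show z ^ (i + 1) • m ∈ orb l
        rw [pow_succ', mul_smul]; exact h _ (ih (pow_mem (Subgroup.mem_zpowers z) i))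
    let act : MulAction ↥(Subgroup.zpowers z) (orb l) :=
      { smul := fun g m => ⟨(g : S) • (m : ↥A →* Kˣ), hpow g m g.2 m.2⟩
        one_smul := fun m => Subtype.ext (one_smul S (m : ↥A →* Kˣ))
        mul_smul := fun g g' m => Subtype.ext (mul_smul (g : S) (g' : S) (m : ↥A →* Kˣ)) }
    have hzP : IsPGroup q ↥(Subgroup.zpowers z) := by
      intro g
      refine ⟨1, Subtype.ext ?_⟩
      obtain ⟨g, i, rfl⟩ := g
      simp only [pow_one, SubmonoidClass.coe_pow, OneMemClass.coe_one]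
      rw [← zpow_natCast, ← zpow_mul, mul_comm, zpow_mul, zpow_natCast, hz, one_zpow]
    have hnd : ¬ q ∣ Nat.card (orb l) := by
      obtain ⟨k, hk⟩ := hP.card_orbit (α := ↥A →* Kˣ) l
      intro hd
      rw [show Nat.card (orb l) = 2 ^ k from hk] at hd
      exact hq2 ((Nat.prime_dvd_prime_iff_eq hq Nat.prime_two).mp (hq.dvd_of_dvd_pow hd))
    obtain ⟨⟨m, hm⟩, hmf⟩ := hzP.nonempty_fixed_point_of_prime_not_dvd_card (orb l) hnd
    have hm1 : m = 1 := hfpf m (congrArg Subtype.val (hmf ⟨z, Subgroup.mem_zpowers z⟩))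
    obtain ⟨t, ht⟩ := hm
    apply hl
    have ht' : (t : S) • l = m := ht
    rw [← inv_smul_smul (t : S) l, ht', hm1, hone]
  have horb_eq : ∀ {l m : ↥A →* Kˣ}, m ∈ orb l → orb m = orb l := fun h => MulAction.orbit_eq_iff.mpr h
  obtain ⟨n₁, hn₁, hn₁'⟩ : ∃ n ∈ orb l₁, z • n ∉ orb l₁ := by
    simpa only [not_forall, exists_prop] using hninv l₁ hl₁
  have hl₂ : z • n₁ ≠ 1 := by
    intro h
    have h1 : n₁ = 1 := by rw [← inv_smul_smul z n₁, h, hone]
    obtain ⟨t, ht⟩ := h1 ▸ hn₁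
    exact hl₁ (by rw [← inv_smul_smul (t : S) l₁, show (t : S) • l₁ = 1 from ht, hone])
  have hu₂ : wproj A σ (z • n₁) (σ z v₁) ≠ 0 := by
    rw [hmulz, inv_smul_smul]; exact (hs₁ n₁).mpr hn₁
  obtain ⟨v₂, hv₂, hs₂⟩ := hfix (z • n₁) (σ z v₁) hu₂
  have hdisj : ∀ m, m ∈ orb l₁ → m ∉ orb (z • n₁) := fun m h1 h2 =>
    hn₁' (by rw [← horb_eq h1, horb_eq h2]; exact MulAction.mem_orbit_self _)
  have hp₁ : ∀ m, m ∈ orb l₁ → ∀ a b : K, wproj A σ m (a • v₁ + b • v₂) = a • wproj A σ m v₁ := by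
    intro m hm a b
    rw [map_add, map_smul, map_smul, not_not.mp (mt (hs₂ m).mp (hdisj m hm)), smul_zero, add_zero]
  have hp₂ : ∀ m, m ∈ orb (z • n₁) → ∀ a b : K, wproj A σ m (a • v₁ + b • v₂) = b • wproj A σ m v₂ := by
    intro m hm a b
    rw [map_add, map_smul, map_smul, not_not.mp (mt (hs₁ m).mp (fun h => hdisj m h hm)), smul_zero, zero_add]
  let g : K × K → {v : V // ∀ s ∈ P, σ s v = v} := fun ab => ⟨ab.1 • v₁ + ab.2 • v₂, fun s hs => by
    rw [map_add, map_smul, map_smul, hv₁ s hs, hv₂ s hs]⟩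
  have hg : Function.Injective g := by
    rintro ⟨a, b⟩ ⟨a', b'⟩ h
    have h' : a • v₁ + b • v₂ = a' • v₁ + b' • v₂ := congrArg Subtype.val h
    have h1 := congrArg (wproj A σ l₁) h'
    have h2' := congrArg (wproj A σ (z • n₁)) h'
    rw [hp₁ _ (MulAction.mem_orbit_self _), hp₁ _ (MulAction.mem_orbit_self _)] at h1
    rw [hp₂ _ (MulAction.mem_orbit_self _), hp₂ _ (MulAction.mem_orbit_self _)] at h2'
    rw [smul_left_injective K ((hs₁ l₁).mpr (MulAction.mem_orbit_self _)) h1,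
      smul_left_injective K ((hs₂ _).mpr (MulAction.mem_orbit_self _)) h2']
  have hKK : Nat.card (K × K) = Nat.card K ^ 2 := by rw [Nat.card_prod, sq]
  refine ⟨hKK ▸ Nat.card_le_card_of_injective g hg, fun hle => ?_⟩
  by_contra hcon
  push_neg at hcon
  have hgs : Function.Surjective g :=
    (hg.bijective_of_nat_card_le (hle.trans hKK.ge)).2
  have hspan : ∀ v, (∀ s ∈ P, σ s v = v) → ∃ a b : K, v = a • v₁ + b • v₂ := by
    intro v hv
    obtain ⟨⟨a, b⟩, h⟩ := hgs ⟨v, hv⟩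
    exact ⟨a, b, (congrArg Subtype.val h).symm⟩
  -- images of the two orbits under z
  have himg : ∀ l (v : V), (∀ s ∈ P, σ s v = v) → (∀ m, wproj A σ m v ≠ 0 ↔ m ∈ orb l) →
      (Nat.card (orb l) ≤ Nat.card (orb l₁)) → (Nat.card (orb l) ≤ Nat.card (orb (z • n₁))) →
      ((fun m => z • m) '' orb l = orb l₁ ∨ (fun m => z • m) '' orb l = orb (z • n₁)) := by
    intro l v hv hs hle₁ hle₂
    obtain ⟨a, b, hab⟩ := hspan (σ z v) (hcon v hv)
    have hmem : ∀ m, m ∈ (fun m => z • m) '' orb l ↔ wproj A σ m (σ z v) ≠ 0 := by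
      intro m
      rw [hmulz, hs]
      exact ⟨by rintro ⟨k, hk, rfl⟩; simpa using hk, fun h => ⟨_, h, smul_inv_smul z m⟩⟩
    have hcard : ((fun m => z • m) '' orb l).ncard = (orb l).ncard :=
      Set.ncard_image_of_injective _ (MulAction.injective z)
    rw [Nat.card_coe_set_eq, Nat.card_coe_set_eq] at hle₁ hle₂
    by_cases ha : a = 0
    · right
      refine Set.eq_of_subset_of_ncard_le (fun m hm => ?_) ?_ (Set.toFinite _)
      · have h := (hmem m).mp hm
        rw [hab, map_add, map_smul, map_smul, ha, zero_smul, zero_add] at h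
        exact (hs₂ m).mp fun h0 => h (by rw [h0, smul_zero])
      · by_cases hb : b = 0
        · exfalso
          have := (hmem _).mp ⟨l, MulAction.mem_orbit_self _, rfl⟩
          simp [hab, ha, hb] at this
        · refine Set.ncard_le_ncard (fun m hm => (hmem m).mpr ?_) (Set.toFinite _)
          rw [hab, hp₂ m hm]
          exact smul_ne_zero hb ((hs₂ m).mpr hm)
    · left
      have hsub : orb l₁ ⊆ (fun m => z • m) '' orb l := fun m hm => (hmem m).mpr (by
        rw [hab, hp₁ m hm]; exact smul_ne_zero ha ((hs₁ m).mpr hm))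
      exact (Set.eq_of_subset_of_ncard_le hsub (hcard.trans_le hle₁) (Set.toFinite _)).symm
  have hinj := MulAction.injective (β := ↥A →* Kˣ) z
  have hcard12 : (orb l₁).ncard ≤ (orb (z • n₁)).ncard ∧ (fun m => z • m) '' orb l₁ = orb (z • n₁) := by
    have hne : ∀ (a b : K) , σ z v₁ = a • v₁ + b • v₂ → b ≠ 0 := by
      intro a b hab hb
      have := hu₂
      rw [hab, hp₂ _ (MulAction.mem_orbit_self _), hb, zero_smul] at this
      exact this rfl
    obtain ⟨a, b, hab⟩ := hspan (σ z v₁) (hcon v₁ hv₁)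
    have hsub : orb (z • n₁) ⊆ (fun m => z • m) '' orb l₁ := fun m hm => ⟨z⁻¹ • m, (hs₁ _).mp (by
      rw [← hmulz, hab, hp₂ m hm]; exact smul_ne_zero (hne a b hab) ((hs₂ m).mpr hm)), smul_inv_smul z m⟩
    have ha : a = 0 := by
      by_contra ha
      have hsub1 : orb l₁ ⊆ (fun m => z • m) '' orb l₁ := fun m hm => ⟨z⁻¹ • m, (hs₁ _).mp (by
        rw [← hmulz, hab, hp₁ m hm]; exact smul_ne_zero ha ((hs₁ m).mpr hm)), smul_inv_smul z m⟩
      have := Set.eq_of_subset_of_ncard_le hsub1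
        (Set.ncard_image_of_injective _ hinj).le (Set.toFinite _)
      exact hn₁' (this.symm ▸ Set.mem_image_of_mem _ hn₁)
    have heq : (fun m => z • m) '' orb l₁ = orb (z • n₁) := by
      refine Set.Subset.antisymm (fun m hm => ?_) hsub
      obtain ⟨k, hk, rfl⟩ := hm
      have h := (hs₁ k).mpr hk
      rw [← inv_smul_smul z k, ← hmulz, hab, ha, zero_smul, zero_add, map_smul] at h
      exact (hs₂ _).mp fun h0 => h (by rw [h0, smul_zero])
    exact ⟨by rw [← heq, Set.ncard_image_of_injective _ hinj], heq⟩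
  obtain ⟨hle12, heq⟩ := hcard12
  have hcards : Nat.card (orb (z • n₁)) = Nat.card (orb l₁) := by
    rw [Nat.card_coe_set_eq, Nat.card_coe_set_eq, ← heq, Set.ncard_image_of_injective _ hinj]
  rcases himg (z • n₁) v₂ hv₂ hs₂ hcards.le le_rfl with h | h
  · -- then z² fixes the first orbit, hence so does z
    have hz2 : ∀ m ∈ orb l₁, (z * z) • m ∈ orb l₁ := fun m hm => by
      have h' : z • (z • m) ∈ orb l₁ := h ▸ Set.mem_image_of_mem (fun m => z • m) (heq ▸ Set.mem_image_of_mem _ hm)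
      rwa [mul_smul]
    have hpow : ∀ i : ℕ, ∀ m ∈ orb l₁, (z * z) ^ i • m ∈ orb l₁ := by
      intro i
      induction i with
      | zero => intro m hm; simpa using hm
      | succ i ih => intro m hm; rw [pow_succ', mul_smul]; exact hz2 _ (ih m hm)
    obtain ⟨k, hk⟩ := hq.odd_of_ne_two hq2
    have hzk : (z * z) ^ (k + 1) = z := by
      rw [← sq, ← pow_mul, show 2 * (k + 1) = q + 1 by omega, pow_succ, hz, one_mul]
    exact hn₁' (hzk ▸ hpow (k + 1) n₁ hn₁)
  · exact hn₁' (hinj.image_injective (h.trans heq.symm) ▸ MulAction.mem_orbit_self _)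

end weights


/-- Let S be a finite solvable group whose order is divisible only by the primes 2, p, q (p, q distinct odd primes), with a Sylow system S₂, S_p, S_q (pairwise permutable Sylow subgroups) such that: S_p is a minimal normal subgroup of S of order p or p²; S_q has order q and [S_p, S_q] = S_p; and O₂(S) = 1. Let E be an irreducible module for S over the field with two elements on which S_p acts faithfully, and E₀ the subspace of fixed points of S₂. Then either E₀ has at least 8 elements, or E₀ has exactly 4 elements and S_q does not leave E₀ invariant. -/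
theorem result {S : Type*} [Group S] [Finite S]
    [Group.IsSolvable S] (p q : ℕ) (hp : p.Prime) (hq : q.Prime) (hp2 : p ≠ 2) (hq2 : q ≠ 2) (hpq : p ≠ q)
    (hπ : ∀ r : ℕ, r.Prime → r ∣ Nat.card S → r = 2 ∨ r = p ∨ r = q)
    (S₂ : Sylow 2 S) (Sp : Sylow p S) (Sq : Sylow q S)
    (h2q : Nat.card ↥((S₂ : Subgroup S) ⊔ (Sq : Subgroup S)) = Nat.card ↥S₂ * Nat.card ↥Sq)
    (h2p : Nat.card ↥((S₂ : Subgroup S) ⊔ (Sp : Subgroup S)) = Nat.card ↥S₂ * Nat.card ↥Sp)
    (hpq' : Nat.card ↥((Sp : Subgroup S) ⊔ (Sq : Subgroup S)) = Nat.card ↥Sp * Nat.card ↥Sq)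
    (hSpN : (Sp : Subgroup S).Normal) (hSpmin : ∀ N : Subgroup S, N.Normal → N ≤ (Sp : Subgroup S) → N = ⊥ ∨ N = (Sp : Subgroup S))
    (hSpcard : Nat.card ↥Sp = p ∨ Nat.card ↥Sp = p ^ 2)
    (hSq : Nat.card ↥Sq = q) (hcomm : ⁅(Sp : Subgroup S), (Sq : Subgroup S)⁆ = (Sp : Subgroup S))
    (hO2 : Cfsg.pCore 2 S = ⊥)
    {E : Type*} [AddCommGroup E] [Module (ZMod 2) E] [Finite E] (ρ : Representation (ZMod 2) S E) (hE : Nontrivial E)
    (hirr : ∀ N : Submodule (ZMod 2) E, (∀ s : S, ∀ m ∈ N, ρ s m ∈ N) → N = ⊥ ∨ N = ⊤)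
    (hfaith : ∀ x ∈ (Sp : Subgroup S), ρ x = 1 → x = 1) :
    8 ≤ Nat.card {v : E // ∀ s ∈ (S₂ : Subgroup S), ρ s v = v} ∨
      (Nat.card {v : E // ∀ s ∈ (S₂ : Subgroup S), ρ s v = v} = 4 ∧
        ∃ x ∈ (Sq : Subgroup S), ∃ v : E, (∀ s ∈ (S₂ : Subgroup S), ρ s v = v) ∧ ¬ ∀ s ∈ (S₂ : Subgroup S), ρ s (ρ x v) = ρ x v) := by
  classical
  haveI : Fact p.Prime := ⟨hp⟩
  haveI : (Sp : Subgroup S).Normal := hSpN
  haveI := Fintype.ofFinite ↥(Sp : Subgroup S)
  haveI : Fact (Nat.Prime 2) := ⟨Nat.prime_two⟩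
  set N := Nat.card ↥(Sp : Subgroup S) with hN
  have hNodd : Nat.Coprime 2 N := by
    have h2p : Nat.Coprime 2 p := (Nat.coprime_primes Nat.prime_two hp).mpr (Ne.symm hp2)
    rcases hSpcard with h | h <;> rw [hN, show Nat.card ↥(Sp : Subgroup S) = _ from h]
    · exact h2p
    · exact h2p.pow_right 2
  have hNpos : 1 < N := by
    rcases hSpcard with h | h <;> rw [hN, show Nat.card ↥(Sp : Subgroup S) = _ from h]
    · exact hp.one_lt
    · exact Nat.one_lt_pow (by norm_num) hp.one_lt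
  set d := Nat.totient N with hd
  have hd0 : d ≠ 0 := (Nat.totient_pos.mpr (by omega)).ne'
  let K := GaloisField 2 d
  haveI : Fintype K := Fintype.ofFinite K
  have hKcard : Nat.card K = 2 ^ d := GaloisField.card 2 d hd0
  have hNK : N ∣ Nat.card Kˣ := by
    rw [Nat.card_units, hKcard]
    exact (Nat.modEq_iff_dvd' Nat.one_le_two_pow).mp (Nat.ModEq.pow_totient hNodd).symm
  haveI : HasEnoughRootsOfUnity K N := by
    haveI : NeZero N := ⟨by omega⟩
    refine ⟨?_, inferInstance⟩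
    obtain ⟨g, hg⟩ := IsCyclic.exists_ofOrder_eq_natCard (α := Kˣ)
    refine ⟨((g ^ (Nat.card Kˣ / N) : Kˣ) : K), IsPrimitiveRoot.coe_units_iff.mpr ?_⟩
    have : orderOf (g ^ (Nat.card Kˣ / N)) = N := by
      conv_lhs => rw [← hg]
      rw [orderOf_pow_orderOf_div (hg ▸ Nat.card_pos.ne') (hg ▸ hNK)]
    have hp' := IsPrimitiveRoot.orderOf (g ^ (Nat.card Kˣ / N))
    rwa [this] at hp'
  haveI : HasEnoughRootsOfUnity K (Monoid.exponent ↥(Sp : Subgroup S)) :=
    HasEnoughRootsOfUnity.of_dvd K (Group.exponent_dvd_nat_card (G := ↥(Sp : Subgroup S)))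
  have h2K : (2 : K) = 0 := CharTwo.two_eq_zero
  have hc : (Fintype.card ↥(Sp : Subgroup S) : K) ≠ 0 := by
    rw [Fintype.card_eq_nat_card, Ne, CharP.cast_eq_zero_iff K 2]
    intro h
    have h' := Nat.dvd_gcd dvd_rfl h
    rw [hNodd] at h'
    omega
  have hab : ∀ a b : ↥(Sp : Subgroup S), a * b = b * a := by
    rcases hSpcard with h | h
    · haveI := isCyclic_of_prime_card h
      letI : CommGroup ↥(Sp : Subgroup S) := IsCyclic.commGroup
      exact fun a b => mul_comm a b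
    · exact fun a b => IsPGroup.commutative_of_card_eq_prime_sq h a b
  -- the scalar extension
  let σ : Representation K S (K ⊗[ZMod 2] E) :=
    { toFun := fun s => (ρ s).baseChange K
      map_one' := by rw [map_one]; exact LinearMap.baseChange_id
      map_mul' := fun s t => by rw [map_mul]; exact LinearMap.baseChange_mul _ _ }
  haveI : Finite (K ⊗[ZMod 2] E) := Module.finite_of_finite K
  let B := Module.Free.chooseBasis (ZMod 2) K
  let φ := TensorProduct.equivFinsuppOfBasisLeft (N := E) B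
  have hφ : ∀ s (v : K ⊗[ZMod 2] E) i, φ (σ s v) i = ρ s (φ v i) := by
    intro s v i
    induction v using TensorProduct.induction_on with
    | zero => simp
    | tmul k e =>
      show φ ((ρ s).baseChange K (k ⊗ₜ e)) i = ρ s (φ (k ⊗ₜ e) i)
      simp only [LinearMap.baseChange_tmul, φ, TensorProduct.equivFinsuppOfBasisLeft_apply_tmul_apply,
        map_smul]
    | add x y hx hy => simp only [map_add, Finsupp.add_apply, hx, hy]
  set E0 := {v : E // ∀ s ∈ (S₂ : Subgroup S), ρ s v = v}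
  have hfix : ∀ v : K ⊗[ZMod 2] E, (∀ s ∈ (S₂ : Subgroup S), σ s v = v) ↔
      ∀ i, ∀ s ∈ (S₂ : Subgroup S), ρ s (φ v i) = φ v i := by
    intro v
    refine ⟨fun h i s hs => by rw [← hφ, h s hs], fun h s hs => φ.injective ?_⟩
    ext i; rw [hφ, h i s hs]
  have hι : Fintype.card (Module.Free.ChooseBasisIndex (ZMod 2) K) = d := by
    rw [← Module.finrank_eq_card_chooseBasisIndex]
    exact GaloisField.finrank 2 hd0
  have hcardfix : Nat.card {v : K ⊗[ZMod 2] E // ∀ s ∈ (S₂ : Subgroup S), σ s v = v} = Nat.card E0 ^ d := by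
    let e : {v : K ⊗[ZMod 2] E // ∀ s ∈ (S₂ : Subgroup S), σ s v = v} ≃
        (Module.Free.ChooseBasisIndex (ZMod 2) K → E0) :=
      { toFun := fun v i => ⟨φ v i, (hfix v).mp v.2 i⟩
        invFun := fun f => ⟨φ.symm (Finsupp.equivFunOnFinite.symm fun i => (f i : E)), (hfix _).mpr (by
          intro i; rw [LinearEquiv.apply_symm_apply]; exact (f i).2)⟩
        left_inv := fun v => Subtype.ext (φ.injective (by
          rw [LinearEquiv.apply_symm_apply]; ext i; rfl))
        right_inv := fun f => funext fun i => Subtype.ext (by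
          show φ (φ.symm _) i = _
          rw [LinearEquiv.apply_symm_apply]; rfl) }
    rw [Nat.card_congr e, Nat.card_fun, Nat.card_eq_fintype_card (α := Module.Free.ChooseBasisIndex (ZMod 2) K), hι]
  -- z
  haveI : Fact q.Prime := ⟨hq⟩
  obtain ⟨⟨z, hzmem⟩, hzne⟩ : ∃ z : ↥Sq, z ≠ 1 := by
    haveI : Nontrivial ↥Sq := Finite.one_lt_card_iff_nontrivial.mp (by rw [hSq]; exact hq.one_lt)
    exact exists_ne 1
  have hzq : z ^ q = 1 := by
    have h := pow_card_eq_one' (x := (⟨z, hzmem⟩ : ↥Sq))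
    rw [hSq] at h
    exact congrArg Subtype.val h
  have hfpf : ∀ l : ↥(Sp : Subgroup S) →* Kˣ, conjChar (Sp : Subgroup S) z l = l → l = 1 := by
    intro l hl
    letI := charAction (Sp : Subgroup S) (K := K)
    have hstab : ∀ x ∈ (Sq : Subgroup S), conjChar (Sp : Subgroup S) x l = l := by
      intro x hx
      have : (⟨x, hx⟩ : ↥Sq) ∈ Subgroup.zpowers (⟨z, hzmem⟩ : ↥Sq) :=
        mem_zpowers_of_prime_card hSq hzne
      obtain ⟨i, hi⟩ := this
      have hxi : x = z ^ i := by simpa using (congrArg Subtype.val hi).symm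
      have hz' : z ∈ MulAction.stabilizer S l := hl
      exact hxi ▸ zpow_mem hz' i
    have hle : (Sp : Subgroup S) ≤ l.ker.map (Sp : Subgroup S).subtype := by
      conv_lhs => rw [← hcomm]
      rw [Subgroup.commutator_le]
      intro a ha x hx
      have hmem : a * x * a⁻¹ * x⁻¹ ∈ (Sp : Subgroup S) := by
        have := mul_mem ha (hSpN.conj_mem _ (inv_mem ha) x)
        simpa [mul_assoc] using this
      refine ⟨⟨_, hmem⟩, ?_, rfl⟩
      rw [SetLike.mem_coe, MonoidHom.mem_ker]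
      have h1 : l ⟨x * a⁻¹ * x⁻¹, hSpN.conj_mem _ (inv_mem ha) x⟩ = l ⟨a⁻¹, inv_mem ha⟩ := by
        conv_lhs => rw [← hstab x hx]
        show l _ = l _
        congr 1; ext; simp [mul_assoc]
      have h2 : (⟨_, hmem⟩ : ↥(Sp : Subgroup S)) = ⟨a, ha⟩ * ⟨x * a⁻¹ * x⁻¹, hSpN.conj_mem _ (inv_mem ha) x⟩ := by
        ext; simp [mul_assoc, commutatorElement_def]
      rw [h2, map_mul, h1, ← map_mul]
      rw [show (⟨a, ha⟩ : ↥(Sp : Subgroup S)) * ⟨a⁻¹, inv_mem ha⟩ = 1 from Subtype.ext (by simp), map_one]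
    refine MonoidHom.ext fun a => ?_
    obtain ⟨b, hb, hba⟩ := hle a.2
    rw [← (Subtype.ext hba : b = a)]
    exact hb
  have hnt : ∃ a : ↥(Sp : Subgroup S), σ (a : S) ≠ 1 := by
    haveI : Nontrivial ↥(Sp : Subgroup S) := Finite.one_lt_card_iff_nontrivial.mp hNpos
    obtain ⟨a, ha⟩ := exists_ne (1 : ↥(Sp : Subgroup S))
    refine ⟨a, fun h => ha (Subtype.ext (hfaith a a.2 ?_))⟩
    refine LinearMap.ext fun e => ?_
    obtain ⟨i, hi⟩ : ∃ i, B.repr 1 i ≠ 0 := by
      by_contra hh; push_neg at hh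
      exact one_ne_zero (B.repr.injective (show B.repr (1 : K) = B.repr 0 by ext i; simp [hh i]))
    have h3 := hφ (a : S) ((1 : K) ⊗ₜ e) i
    rw [h, Module.End.one_apply] at h3
    simp only [φ, TensorProduct.equivFinsuppOfBasisLeft_apply_tmul_apply, map_smul] at h3
    exact (smul_right_injective E hi h3).symm
  obtain ⟨hge, hinv⟩ := core (Sp : Subgroup S) σ hc h2K hab (S₂ : Subgroup S) S₂.isPGroup' q hq hq2 z hzq hfpf hnt
  rw [hcardfix, hKcard, ← pow_mul, mul_comm d 2, pow_mul] at hge hinv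
  have h4 : 2 ^ 2 ≤ Nat.card E0 := (Nat.pow_le_pow_iff_left hd0).mp hge
  obtain ⟨k, hk⟩ : ∃ k, Nat.card E0 = 2 ^ k := by
    let F : Submodule (ZMod 2) E :=
      { carrier := {v | ∀ s ∈ (S₂ : Subgroup S), ρ s v = v}
        add_mem' := fun ha hb s hs => by rw [map_add, ha s hs, hb s hs]
        zero_mem' := fun s _ => map_zero _
        smul_mem' := fun c v hv s hs => by rw [map_smul, hv s hs] }
    refine ⟨Module.finrank (ZMod 2) F, ?_⟩
    show Nat.card F = _
    rw [Module.natCard_eq_pow_finrank (K := ZMod 2), Nat.card_zmod]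
  by_cases h8 : 8 ≤ Nat.card E0
  · exact Or.inl h8
  have hk2 : k = 2 := by
    rw [hk] at h4 h8
    have h1 : 2 ≤ k := (Nat.pow_le_pow_iff_right (by norm_num)).mp h4
    have h2' : k < 3 := (Nat.pow_lt_pow_iff_right (by norm_num : 1 < 2)).mp (by norm_num; omega)
    omega
  refine Or.inr ⟨by rw [hk, hk2]; norm_num, z, hzmem, ?_⟩
  obtain ⟨v, hv, hnv⟩ := hinv (by rw [hk, hk2])
  by_contra hall
  push_neg at hall
  exact hnv ((hfix _).mpr fun i s hs => by rw [hφ]; exact hall _ ((hfix v).mp hv i) s hs)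

end Cfsg.Agent.S4414
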