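import Cfsg.Statements.S4415
import Cfsg.Agent.Lib.CubicBlock.Main
import Cfsg.Agent.Lib.PCore.HallHigman
import Cfsg.Agent.Lib.Coprime.Commutator
import Cfsg.Agent.Lib.TI.Extraspecial

set_option autoImplicit false
set_option linter.style.haveILetI false
open Cfsg

namespace Cfsg.Agent.S4415

open Subgroup Module
open scoped commutatorElement Pointwise

section aux

variable {S : Type*} [Group S] [Finite S] {E : Type*} [AddCommGroup E] [Module (ZMod 3) E]
  (ρ : Representation (ZMod 3) S E) (R : Subgroup S)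

/-- The projection onto the vectors fixed by `R`. -/
private noncomputable def proj : E →ₗ[ZMod 3] E :=
  letI := Fintype.ofFinite R
  (Nat.card R : ZMod 3)⁻¹ • ∑ r : R, ρ (r : S)

private theorem proj_apply [Fintype R] (v : E) :
    proj ρ R v = (Nat.card R : ZMod 3)⁻¹ • ∑ r : R, ρ (r : S) v := by
  simp only [proj, LinearMap.smul_apply, LinearMap.coe_sum, Finset.sum_apply]
  congr 1
  exact Finset.sum_congr (Finset.ext fun _ => by simp) fun _ _ => rfl

private theorem apply_proj_of_mem {s : S} (hs : s ∈ R) (v : E) : ρ s (proj ρ R v) = proj ρ R v := by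
  letI := Fintype.ofFinite R
  rw [proj_apply, map_smul, map_sum]
  refine congrArg _ (Fintype.sum_equiv (Equiv.mulLeft (⟨s, hs⟩ : R)) _ _ fun r => ?_)
  simp [map_mul]

private theorem proj_of_fixed (hcop : (Nat.card R).Coprime 3) {v : E}
    (h : ∀ r ∈ R, ρ r v = v) : proj ρ R v = v := by
  letI := Fintype.ofFinite R
  have h0 : (Nat.card R : ZMod 3) ≠ 0 := by
    rw [Ne, ZMod.natCast_eq_zero_iff]
    exact (Nat.prime_three.coprime_iff_not_dvd).1 hcop.symm
  rw [proj_apply, Finset.sum_congr rfl (fun (r : R) _ => h r r.2), Finset.sum_const,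
    Finset.card_univ, ← Nat.card_eq_fintype_card, ← Nat.cast_smul_eq_nsmul (ZMod 3), smul_smul,
    inv_mul_cancel₀ h0, one_smul]

private theorem apply_proj_comm {g : S} (hg : g ∈ normalizer (R : Set S)) (v : E) :
    ρ g (proj ρ R v) = proj ρ R (ρ g v) := by
  letI := Fintype.ofFinite R
  rw [proj_apply, proj_apply, map_smul, map_sum]
  refine congrArg _ (Fintype.sum_equiv
    (Equiv.subtypeEquiv (MulAut.conj g).toEquiv (fun x => mem_normalizer_iff.1 hg x)) _ _ fun r => ?_)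
  show ρ g (ρ (r : S) v) = ρ (g * r * g⁻¹) (ρ g v)
  simp only [← Module.End.mul_apply, ← map_mul]
  congr 2
  group

end aux

theorem result {S : Type*} [Group S] [Finite S]
    [Group.IsSolvable S] {E : Type*} [AddCommGroup E] [Module (ZMod 3) E] [Finite E] (ρ : Representation (ZMod 3) S E)
    (hfaith : Function.Injective ρ) (hO3 : Cfsg.pCore 3 S = ⊥)
    (B : Subgroup S) (hB : Nat.card ↥B = 3) (b : S) (hb : Subgroup.zpowers b = B)
    (E₀ E₁ : Submodule (ZMod 3) E) (hE01 : E₀ ⊓ E₁ = ⊥) (hE01' : E₀ ⊔ E₁ = ⊤)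
    (hE1 : ∀ v ∈ E₁, ρ b v = v) (hE0inv : ∀ v ∈ E₀, ρ b v ∈ E₀) (hE0 : Nat.card ↥E₀ = 27)
    (hind : ∃ v ∈ E₀, ρ b (ρ b v - v) - (ρ b v - v) ≠ 0)
    (Q : Subgroup S) (hQ : Cfsg.IsElementaryAbelian 2 Q) (hQ4 : Nat.card ↥Q = 4)
    (hBQ : B ≤ Subgroup.normalizer (Q : Set S)) (hBQ' : ¬ B ≤ Subgroup.centralizer (Q : Set S))
    (P : Sylow 3 S) (hBZ : (Subgroup.center ↥(P : Subgroup S)).map (P : Subgroup S).subtype = B) :
    ((Cfsg.IsElementaryAbelian 2 ⁅Cfsg.pPrimeCore 3 S, B⁆ ∧ Nat.card ↥⁅Cfsg.pPrimeCore 3 S, B⁆ = 4) ∨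
      (Cfsg.IsExtraspecial 2 ↥⁅Cfsg.pPrimeCore 3 S, B⁆ ∧ Nat.card ↥⁅Cfsg.pPrimeCore 3 S, B⁆ = 32 ∧
        ∃ A : Subgroup S, A ≤ ⁅Cfsg.pPrimeCore 3 S, B⁆ ∧ Cfsg.IsElementaryAbelian 2 A ∧ Nat.card ↥A = 8)) ∧
    ∃ F₀ F₁ : Submodule (ZMod 3) E, F₀ ⊓ F₁ = ⊥ ∧ F₀ ⊔ F₁ = ⊤ ∧
      (∀ r ∈ ⁅Cfsg.pPrimeCore 3 S, B⁆, ∀ v ∈ F₁, ρ r v = v) ∧ (∀ r ∈ ⁅Cfsg.pPrimeCore 3 S, B⁆ ⊔ B, ∀ v ∈ F₀, ρ r v ∈ F₀) ∧
      (∀ r ∈ ⁅Cfsg.pPrimeCore 3 S, B⁆ ⊔ B, (∀ v ∈ F₀, ρ r v = v) → r = 1) ∧
      (∀ N : Submodule (ZMod 3) E, N ≤ F₀ → (∀ r ∈ ⁅Cfsg.pPrimeCore 3 S, B⁆ ⊔ B, ∀ v ∈ N, ρ r v ∈ N) → N = ⊥ ∨ N = F₀) := by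
  classical
  haveI h3 : Fact (Nat.Prime 3) := ⟨Nat.prime_three⟩
  set K := Cfsg.pPrimeCore 3 S with hK
  set R := ⁅K, B⁆ with hR
  haveI hKn : K.Normal := inferInstance
  have hbB : b ∈ B := hb ▸ Subgroup.mem_zpowers b
  have hob : orderOf b = 3 := by rw [← Nat.card_zpowers, hb, hB]
  have hb3 : b ^ 3 = 1 := hob ▸ pow_orderOf_eq_one b
  -- `b` lies in `O_{3',3}`
  set π := QuotientGroup.mk' K with hπ
  have hπb : π b ∈ Cfsg.pCore 3 (S ⧸ K) := by
    haveI : Group.IsSolvable (S ⧸ K) :=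
      Group.isSolvable_of_surjective (QuotientGroup.mk'_surjective K)
    refine PCore.centralizer_pCore_le_of_isSolvable PCore.pPrimeCore_quotient_self_eq_bot
      (Subgroup.mem_centralizer_iff.2 fun x hx => ?_)
    obtain ⟨a, ha, rfl⟩ :=
      PCore.pCore_le_sylow (P.mapSurjective (QuotientGroup.mk'_surjective K)) hx
    obtain ⟨c, hc, hcb⟩ : b ∈ (Subgroup.center ↥(P : Subgroup S)).map (P : Subgroup S).subtype :=
      hBZ.symm ▸ hbB
    rw [← map_mul, ← map_mul, ← hcb]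
    exact congrArg π (congrArg Subtype.val (Subgroup.mem_center_iff.1 hc ⟨a, ha⟩))
  have hQK : ∀ x ∈ Q, x * b * x⁻¹ * b⁻¹ ∈ K := by
    intro x hx
    have hmem : π (x * b * x⁻¹ * b⁻¹) ∈ Cfsg.pCore 3 (S ⧸ K) := by
      rw [map_mul, map_mul, map_mul, map_inv, map_inv]
      exact mul_mem ((inferInstance : (Cfsg.pCore 3 (S ⧸ K)).Normal).conj_mem _ hπb _)
        (inv_mem hπb)
    have hQm : x * b * x⁻¹ * b⁻¹ ∈ Q := by
      rw [show x * b * x⁻¹ * b⁻¹ = x * (b * x⁻¹ * b⁻¹) by group]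
      exact mul_mem hx ((mem_normalizer_iff.1 (hBQ hbB) _).1 (inv_mem hx))
    have h2 : π (x * b * x⁻¹ * b⁻¹) ^ 2 = 1 := by rw [← map_pow, hQ.2 _ hQm, map_one]
    obtain ⟨k, hk⟩ := (PCore.isPGroup_pCore (G := S ⧸ K) (p := 3)) ⟨_, hmem⟩
    have hk' : π (x * b * x⁻¹ * b⁻¹) ^ 3 ^ k = 1 := congrArg Subtype.val hk
    have h := pow_gcd_eq_one.2 ⟨h2, hk'⟩
    rw [show Nat.gcd 2 (3 ^ k) = 1 from Nat.Coprime.pow_right k (by norm_num), pow_one] at h
    exact (QuotientGroup.eq_one_iff _).1 h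
  -- the four-group
  obtain ⟨q, hqQ, hqb⟩ : ∃ q ∈ Q, b * q * b⁻¹ ≠ q := by
    by_contra hcon
    push Not at hcon
    refine hBQ' (hb ▸ Subgroup.zpowers_le.2 (Subgroup.mem_centralizer_iff.2 fun x hx => ?_))
    exact (mul_inv_eq_iff_eq_mul.1 (hcon x hx)).symm
  have hsq : ∀ x ∈ Q, x * x = 1 := fun x hx => by rw [← pow_two]; exact hQ.2 x hx
  haveI := hQ.1
  have hcom : ∀ x ∈ Q, ∀ y ∈ Q, x * y = y * x := fun x hx y hy =>
    congrArg Subtype.val (mul_comm' (⟨x, hx⟩ : Q) ⟨y, hy⟩)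
  set q1 := b * q * b⁻¹ with hq1
  have hq1Q : q1 ∈ Q := (mem_normalizer_iff.1 (hBQ hbB) _).1 hqQ
  have hqne : q ≠ 1 := fun h => hqb (by rw [hq1, h]; group)
  have hprod : b * q1 * b⁻¹ = q * q1 := by
    have hT : ({1, q, q1, q * q1} : Finset S) = (Q : Set S).toFinite.toFinset := by
      refine Finset.eq_of_subset_of_card_le (fun x hx => ?_) ?_
      · simp only [Finset.mem_insert, Finset.mem_singleton] at hx
        rw [Set.Finite.mem_toFinset]
        rcases hx with rfl | rfl | rfl | rfl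
        exacts [one_mem _, hqQ, hq1Q, mul_mem hqQ hq1Q]
      · have a1 : (1 : S) ≠ q1 := fun h => hqne (by
          calc q = b⁻¹ * q1 * b := by rw [hq1]; group
            _ = 1 := by rw [← h]; group)
        have a2 : (1 : S) ≠ q * q1 := fun h => hqb (by
          calc q1 = q * q * q1 := by rw [hsq q hqQ, one_mul]
            _ = q := by rw [mul_assoc, ← h, mul_one])
        have a3 : q ≠ q * q1 := fun h => a1 (mul_left_cancel (a := q) (by rwa [mul_one]))
        have a4 : q1 ≠ q * q1 := fun h => hqne (mul_right_cancel (b := q1) (by rw [one_mul]; exact h.symm))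
        rw [← Set.ncard_eq_toFinset_card, ← Nat.card_coe_set_eq, SetLike.coe_sort_coe, hQ4]
        simp [hqne.symm, a1, a2, a3, a4, Ne.symm hqb]
    have hx : b * q1 * b⁻¹ ∈ ({1, q, q1, q * q1} : Finset S) := by
      rw [hT, Set.Finite.mem_toFinset]
      exact (mem_normalizer_iff.1 (hBQ hbB) _).1 hq1Q
    simp only [Finset.mem_insert, Finset.mem_singleton] at hx
    rcases hx with h | h | h | h
    · exfalso
      have : q1 = 1 := by
        calc q1 = b⁻¹ * (b * q1 * b⁻¹) * b := by group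
          _ = 1 := by rw [h]; group
      exact hqne (by
        calc q = b⁻¹ * q1 * b := by rw [hq1]; group
          _ = 1 := by rw [this]; group)
    · exfalso
      apply hqb
      calc q1 = b ^ 3 * q1 * (b ^ 3)⁻¹ := by rw [hb3]; group
        _ = b * (b * (b * q1 * b⁻¹) * b⁻¹) * b⁻¹ := by rw [pow_succ, pow_two]; group
        _ = b * (b * q * b⁻¹) * b⁻¹ := congrArg (fun z => b * (b * z * b⁻¹) * b⁻¹) h
        _ = q := by rw [← hq1]; exact h
    · exfalso
      apply hqb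
      calc q1 = b⁻¹ * (b * q1 * b⁻¹) * b := by group
        _ = b⁻¹ * q1 * b := by rw [h]
        _ = q := by rw [hq1]; group
    · exact h
  -- coprime action of `B` on `K`
  have hKB : B ≤ normalizer (K : Set S) := by rw [normalizer_eq_top]; exact le_top
  have hRK : R ≤ K := Coprime.commutator_le_left_of_le_normalizer hKB
  have hRn : R ⊔ B ≤ normalizer (R : Set S) := by
    refine sup_le Subgroup.le_normalizer ?_
    have := normalizer_commutator_ge_left B K
    rwa [Subgroup.commutator_comm] at this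
  have hcopK : (Nat.card K).Coprime 3 := PCore.coprime_card_pPrimeCore
  have hcopR : (Nat.card R).Coprime 3 := hcopK.coprime_dvd_left (Subgroup.card_dvd_of_le hRK)
  have hRB : ⁅R, B⁆ = R := Coprime.commutator_commutator_eq hKB (by rw [hB]; exact hcopK.symm)
    (Or.inl (Group.isSolvable_of_isSolvable_injective (f := B.subtype) B.subtype_injective))
  have hqqK : q * q1 ∈ K := by
    have := hQK q hqQ
    rwa [show q * b * q⁻¹ * b⁻¹ = q * (b * q⁻¹ * b⁻¹) by group,
      inv_eq_of_mul_eq_one_right (hsq q hqQ)] at this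
  have hconj : b * (q * q1) * b⁻¹ = q := by
    calc b * (q * q1) * b⁻¹ = q1 * (b * q1 * b⁻¹) := by rw [hq1]; group
      _ = q1 * (q1 * q) := by rw [hprod, hcom q hqQ q1 hq1Q]
      _ = q := by rw [← mul_assoc, hsq q1 hq1Q, one_mul]
  have hqR : q ∈ R := by
    have hqK : q ∈ K := hconj ▸ hKn.conj_mem _ hqqK b
    have h1 : q * q1 ∈ R := by
      have h := Subgroup.commutator_mem_commutator hqK hbB
      rwa [commutatorElement_def, show q * b * q⁻¹ * b⁻¹ = q * (b * q⁻¹ * b⁻¹) by group,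
        inv_eq_of_mul_eq_one_right (hsq q hqQ), ← hR] at h
    rw [← hconj]
    exact (mem_normalizer_iff.1 (hRn (mem_sup_right hbB)) _).1 h1
  -- the module
  set F0 := LinearMap.ker (proj ρ R) with hF0
  set F1 := LinearMap.range (proj ρ R) with hF1
  have hfix1 : ∀ r ∈ R, ∀ v ∈ F1, ρ r v = v := by
    rintro r hr _ ⟨u, rfl⟩
    exact apply_proj_of_mem ρ R hr u
  have hidem : ∀ v, proj ρ R (proj ρ R v) = proj ρ R v := fun v =>
    proj_of_fixed ρ R hcopR fun r hr => apply_proj_of_mem ρ R hr v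
  have hinf : F0 ⊓ F1 = ⊥ := (Submodule.eq_bot_iff _).2 (by
    rintro _ ⟨h0, u, rfl⟩
    rwa [SetLike.mem_coe, hF0, LinearMap.mem_ker, hidem] at h0)
  have hsup : F0 ⊔ F1 = ⊤ := Submodule.eq_top_iff'.2 fun v => by
    rw [← sub_add_cancel v (proj ρ R v)]
    refine Submodule.add_mem_sup ?_ ⟨v, rfl⟩
    rw [hF0, LinearMap.mem_ker, map_sub, hidem, sub_self]
  have hinv : ∀ g ∈ R ⊔ B, ∀ v ∈ F0, ρ g v ∈ F0 := fun g hg v hv => by
    rw [hF0, LinearMap.mem_ker] at hv ⊢
    rw [← apply_proj_comm ρ R (hRn hg), hv, map_zero]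
  let ρ0 : Representation (ZMod 3) ↥(R ⊔ B) F0 :=
    { toFun := fun g => (ρ (g : S)).restrict (hinv g g.2)
      map_one' := LinearMap.ext fun v => Subtype.ext (by simp)
      map_mul' := fun g h => LinearMap.ext fun v => Subtype.ext (by simp) }
  have hρ0 : ∀ (g : ↥(R ⊔ B)) (v : F0), ((ρ0 g v : F0) : E) = ρ (g : S) v := fun _ _ => rfl
  let R' := R.subgroupOf (R ⊔ B)
  let b' : ↥(R ⊔ B) := ⟨b, mem_sup_right hbB⟩
  have hmapR : R'.map (R ⊔ B).subtype = R := Subgroup.map_subgroupOf_eq_of_le le_sup_left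
  have hmapB : (Subgroup.zpowers b').map (R ⊔ B).subtype = B := by
    rw [MonoidHom.map_zpowers]; exact hb
  have hR'n : R'.Normal := Subgroup.normal_subgroupOf_of_le_normalizer hRn
  have hgen : R' ⊔ Subgroup.zpowers b' = ⊤ := by
    refine Subgroup.map_injective (R ⊔ B).subtype_injective ?_
    rw [Subgroup.map_sup, hmapR, hmapB, ← MonoidHom.range_eq_map, Subgroup.range_subtype]
  have hcomm : ⁅R', Subgroup.zpowers b'⁆ = R' := by
    refine Subgroup.map_injective (R ⊔ B).subtype_injective ?_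
    rw [Subgroup.map_commutator, hmapR, hmapB, hRB]
  have hcardR' : Nat.card R' = Nat.card R :=
    Nat.card_congr (Subgroup.subgroupOfEquivOfLe le_sup_left).toEquiv
  -- faithfulness
  have hRfix : ∀ r : S, r ∈ R → (∀ v ∈ F0, ρ r v = v) → r = 1 := by
    intro r hr h
    refine hfaith ?_
    rw [map_one]
    refine LinearMap.ext fun v => ?_
    obtain ⟨u, hu, w, hw, rfl⟩ := Submodule.mem_sup.1 (hsup ▸ Submodule.mem_top (x := v))
    simp [h u hu, hfix1 r hr w hw]
  have hb'3 : b' ^ 3 = 1 := Subtype.ext hb3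
  have hinj : Function.Injective ρ0 := by
    refine (injective_iff_map_eq_one ρ0).2 fun g hg => ?_
    have hbnot : ρ0 b' ≠ 1 := by
      intro hb1
      have hcase : ∀ r ∈ R', ρ0 r = 1 := by
        intro r hr
        rw [← hcomm] at hr
        induction hr using Subgroup.closure_induction with
        | mem x hx =>
          obtain ⟨y, hy, z, hz, rfl⟩ := hx
          obtain ⟨i, rfl⟩ := hz
          have h1 : ρ0 (b' ^ i) = 1 := by
            have : ρ0.toHomUnits (b' ^ i) = 1 := by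
              rw [map_zpow, show ρ0.toHomUnits b' = 1 from Units.ext hb1, one_zpow]
            exact congrArg Units.val this
          have h1' : ρ0 (b' ^ i)⁻¹ = 1 := by
            calc ρ0 (b' ^ i)⁻¹ = ρ0 (b' ^ i)⁻¹ * ρ0 (b' ^ i) := by rw [h1, mul_one]
              _ = 1 := by rw [← map_mul, inv_mul_cancel, map_one]
          rw [commutatorElement_def, map_mul, map_mul, map_mul, h1, h1', mul_one, mul_one,
            ← map_mul, mul_inv_cancel, map_one]
        | one => exact map_one _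
        | mul x y _ _ hx hy => rw [map_mul, hx, hy, mul_one]
        | inv x _ hx =>
          calc ρ0 x⁻¹ = ρ0 x⁻¹ * ρ0 x := by rw [hx, mul_one]
            _ = 1 := by rw [← map_mul, inv_mul_cancel, map_one]
      exact hqne (hRfix q hqR fun v hv => congrArg Subtype.val
        (LinearMap.congr_fun (hcase ⟨q, mem_sup_left hqR⟩ hqR) ⟨v, hv⟩))
    obtain ⟨r, hr, c, hc, rfl⟩ : g ∈ (R' : Set ↥(R ⊔ B)) * (Subgroup.zpowers b' : Set ↥(R ⊔ B)) := by
      rw [← Subgroup.normal_mul R' (Subgroup.zpowers b'), hgen]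
      exact Subgroup.mem_top g
    simp only [SetLike.mem_coe] at hr hc
    obtain ⟨i, rfl⟩ := hc
    simp only at hg ⊢
    have hc3 : (b' ^ i) ^ 3 = 1 := by rw [← zpow_natCast, ← zpow_mul, mul_comm, zpow_mul, zpow_natCast, hb'3, one_zpow]
    have hu : ρ0 (b' ^ i) = 1 := by
      have e : ρ0 (b' ^ i) = ρ0 r⁻¹ := by
        calc ρ0 (b' ^ i) = ρ0 r⁻¹ * ρ0 (r * b' ^ i) := by rw [← map_mul, inv_mul_cancel_left]
          _ = ρ0 r⁻¹ := by rw [hg, mul_one]
      have h1 : ρ0 (b' ^ i) ^ 3 = 1 := by rw [← map_pow, hc3, map_one]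
      have hrc : (r⁻¹ : ↥(R ⊔ B)) ^ Nat.card R' = 1 :=
        orderOf_dvd_iff_pow_eq_one.1 (Subgroup.orderOf_dvd_natCard _ (inv_mem hr))
      have h2 : ρ0 (b' ^ i) ^ Nat.card R' = 1 := by rw [e, ← map_pow, hrc, map_one]
      have := pow_gcd_eq_one.2 ⟨h1, h2⟩
      rwa [hcardR', (hcopR.symm : Nat.gcd 3 (Nat.card R) = 1), pow_one] at this
    by_cases hi : b' ^ i = 1
    · rw [hi, mul_one] at hg ⊢
      refine Subtype.ext (hRfix _ hr fun v hv => ?_)
      exact congrArg Subtype.val (LinearMap.congr_fun hg ⟨v, hv⟩)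
    · exfalso
      apply hbnot
      have hcard : Nat.card (Subgroup.zpowers b') = 3 := by
        rw [Nat.card_zpowers, ← Subgroup.orderOf_coe, hob]
      obtain ⟨j, hj⟩ := (zpowers_eq_top_of_prime_card hcard (g := (⟨b' ^ i, i, rfl⟩ : Subgroup.zpowers b'))
        (fun h => hi (congrArg Subtype.val h))).ge (Subgroup.mem_top (⟨b', Subgroup.mem_zpowers b'⟩))
      have hj' : (b' ^ i) ^ j = b' := congrArg Subtype.val hj
      have : ρ0.toHomUnits ((b' ^ i) ^ j) = 1 := by
        rw [map_zpow, show ρ0.toHomUnits (b' ^ i) = 1 from Units.ext hu, one_zpow]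
      rw [hj'] at this
      exact congrArg Units.val this
  -- the rank of `b - 1`
  have hrank : finrank (ZMod 3) (LinearMap.range (ρ0 b' - 1)) ≤ 2 := by
    set D := ρ b - 1 with hD
    have hDa : ∀ v, D v = ρ b v - v := fun v => rfl
    have hd0 : finrank (ZMod 3) E₀ = 3 := by
      have h := Module.natCard_eq_pow_finrank (K := ZMod 3) (V := E₀)
      rw [hE0, Nat.card_zmod] at h
      exact (Nat.pow_right_injective (le_refl 3 |>.trans' (by norm_num)) (h.symm.trans (by norm_num)))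
    have hD0 : ∀ v ∈ E₀, D v ∈ E₀ := fun v hv => by rw [hDa]; exact sub_mem (hE0inv v hv) hv
    have hD3 : ∀ v, D (D (D v)) = 0 := fun v => by
      have hbbb : ρ b (ρ b (ρ b v)) = v := by
        rw [← Module.End.mul_apply, ← Module.End.mul_apply, ← map_mul, ← map_mul,
          show b * b * b = b ^ 3 by rw [pow_succ, pow_two], hb3, map_one, Module.End.one_apply]
      have h3 : ∀ w : E, w + w + w = 0 := fun w => by
        have h : (3 : ZMod 3) • w = 0 := by rw [show (3 : ZMod 3) = 0 from rfl, zero_smul]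
        rw [← h, show (3 : ZMod 3) = 1 + 1 + 1 from rfl, add_smul, add_smul, one_smul]
      simp only [hDa, map_sub, hbbb]
      calc v - ρ b (ρ b v) - (ρ b (ρ b v) - ρ b v) - (ρ b (ρ b v) - ρ b v - (ρ b v - v))
          = (ρ b v + ρ b v + ρ b v) - (ρ b (ρ b v) + ρ b (ρ b v) + ρ b (ρ b v)) := by abel
        _ = 0 := by rw [h3, h3, sub_zero]
    have hle : LinearMap.range D ≤ E₀.map D := by
      rintro _ ⟨v, rfl⟩
      obtain ⟨u, hu, w, hw, rfl⟩ := Submodule.mem_sup.1 (hE01' ▸ Submodule.mem_top (x := v))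
      exact ⟨u, hu, by rw [map_add, show D w = 0 by rw [hDa, hE1 w hw, sub_self], add_zero]⟩
    have hker : LinearMap.ker (D.comp E₀.subtype) ≠ ⊥ := by
      intro hk
      have hi := LinearMap.ker_eq_bot.1 hk
      have hz : ∀ u ∈ E₀, D u = 0 → u = 0 := fun u hu h =>
        congrArg Subtype.val (hi (show D.comp E₀.subtype ⟨u, hu⟩ = D.comp E₀.subtype 0 by simpa using h))
      obtain ⟨v, hv, hv2⟩ := hind
      apply hv2
      have := hz _ (hD0 _ hv) (hz _ (hD0 _ (hD0 _ hv)) (hD3 v))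
      rw [hDa] at this
      simp [this]
    have h2 : finrank (ZMod 3) (E₀.map D) ≤ 2 := by
      have e := LinearMap.finrank_range_add_finrank_ker (D.comp E₀.subtype)
      have := Submodule.one_le_finrank_iff.2 hker
      rw [LinearMap.range_comp, Submodule.range_subtype, hd0] at e
      omega
    refine le_trans ?_ ((Submodule.finrank_mono hle).trans h2)
    rw [← LinearMap.finrank_range_of_inj (f := F0.subtype.comp (LinearMap.range (ρ0 b' - 1)).subtype)
      (F0.subtype_injective.comp (Submodule.injective_subtype _))]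
    refine Submodule.finrank_mono ?_
    rintro _ ⟨⟨_, u, rfl⟩, rfl⟩
    exact ⟨u, rfl⟩
  let St : CubicBlock.Setting ↥(R ⊔ B) F0 :=
    { ρ := ρ0
      inj := hinj
      R := R'
      Rn := hR'n
      cop := hcardR'.symm ▸ hcopR
      sol := Group.isSolvable_of_isSolvable_injective
        (f := (R ⊔ B).subtype.comp R'.subtype) ((R ⊔ B).subtype_injective.comp R'.subtype_injective)
      b := b'
      b3 := hb'3
      gen := hgen
      comm := hcomm
      fpf := fun v hv => by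
        have h := proj_of_fixed ρ R hcopR (v := (v : E)) fun r hr =>
          congrArg Subtype.val (hv ⟨r, mem_sup_left hr⟩ hr)
        have h0 : proj ρ R (v : E) = 0 := LinearMap.mem_ker.1 v.2
        exact Subtype.ext (h.symm.trans h0)
      rank := hrank
      q := ⟨q, mem_sup_left hqR⟩
      q_mem := hqR
      q_ne := fun h => hqne (congrArg Subtype.val h)
      q_sq := Subtype.ext (hsq q hqQ)
      q_comm := Subtype.ext (hcom q hqQ q1 hq1Q)
      q_prod := Subtype.ext hprod }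
  have hmapEA : ∀ A : Subgroup ↥(R ⊔ B), Cfsg.IsElementaryAbelian 2 A →
      Cfsg.IsElementaryAbelian 2 (A.map (R ⊔ B).subtype) := by
    rintro A ⟨hc, he⟩
    refine ⟨⟨⟨?_⟩⟩, ?_⟩
    · rintro ⟨_, x, hx, rfl⟩ ⟨_, y, hy, rfl⟩
      exact Subtype.ext (congrArg (R ⊔ B).subtype
        (congrArg Subtype.val (mul_comm' (⟨x, hx⟩ : A) ⟨y, hy⟩)))
    · rintro _ ⟨x, hx, rfl⟩
      rw [← map_pow, he x hx, map_one]
  refine ⟨?_, F0, F1, hinf, hsup, hfix1, hinv, ?_, ?_⟩
  · rcases St.conclusion with ⟨h1, h2⟩ | ⟨h1, h2, A, hA, hA1, hA2⟩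
    · exact Or.inl ⟨hmapR ▸ hmapEA _ h1, hcardR' ▸ h2⟩
    · refine Or.inr ⟨TI.isExtraspecial_congr (Subgroup.subgroupOfEquivOfLe le_sup_left) h1,
        hcardR' ▸ h2, A.map (R ⊔ B).subtype, (Subgroup.map_mono hA).trans hmapR.le, hmapEA _ hA1, ?_⟩
      rw [Subgroup.card_map_of_injective (R ⊔ B).subtype_injective, hA2]
  · intro g hg h
    exact congrArg Subtype.val (hinj (a₁ := ⟨g, hg⟩) (a₂ := 1)
      (LinearMap.ext fun v => Subtype.ext (by rw [hρ0, h v v.2, map_one]; rfl)))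
  · intro N hN hNinv
    by_cases hU : N.comap F0.subtype = ⊥
    · left
      refine (Submodule.eq_bot_iff _).2 fun v hv => ?_
      have : (⟨v, hN hv⟩ : F0) ∈ N.comap F0.subtype := hv
      rw [hU, Submodule.mem_bot] at this
      exact congrArg Subtype.val this
    · right
      refine le_antisymm hN fun v hv => ?_
      have := St.eq_top_of_invariant (N.comap F0.subtype)
        (fun g u hu => hNinv g g.2 u hu) hU
      exact this.ge (Submodule.mem_top (x := (⟨v, hv⟩ : F0)))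

end Cfsg.Agent.S4415
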