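import Cfsg.Statements.S4417
import Cfsg.Agent.Lib.DerivedLength.LinearPGroup
import Mathlib.FieldTheory.IsAlgClosed.AlgebraicClosure
import Mathlib.FieldTheory.Finite.Basic
import Mathlib.LinearAlgebra.Matrix.ToLin
import Mathlib.LinearAlgebra.Dimension.Finite

set_option linter.style.haveILetI false

set_option autoImplicit false
open Cfsg

namespace Cfsg.Agent.S4417

open Cfsg.Agent.DerivedLength

/-- Independent subspaces of dimension at least `d`. -/
theorem mul_card_le_finrank {K V ι : Type*} [Field K] [AddCommGroup V] [Module K V]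
    [FiniteDimensional K V] [Fintype ι] {E : ι → Submodule K V} (hE : iSupIndep E) {d : ℕ}
    (hd : ∀ i, d ≤ Module.finrank K (E i)) : Fintype.card ι * d ≤ Module.finrank K V := by
  classical
  suffices h : ∀ s : Finset ι, s.card * d ≤ Module.finrank K ↥(⨆ i ∈ s, E i) by
    exact (h Finset.univ).trans (Submodule.finrank_le _)
  intro s
  induction s using Finset.induction with
  | empty => simp
  | insert i s hi ih =>
    rw [Finset.iSup_insert, Finset.card_insert_of_notMem hi]
    have hdis : E i ⊓ ⨆ j ∈ s, E j = ⊥ :=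
      ((hE i).mono_right (iSup₂_le fun j hj => le_iSup₂_of_le j (fun (e : j = i) => hi (e ▸ hj)) le_rfl)).eq_bot
    have h1 := Submodule.finrank_sup_add_finrank_inf_eq (E i) (⨆ j ∈ s, E j)
    rw [hdis, finrank_bot, add_zero] at h1
    rw [h1, add_mul, one_mul]
    have := hd i
    omega

universe u

variable {K : Type u} [Field K]

/-- The semilinear conjugates of an eigenspace. -/
theorem finrank_eigenspace_conj {n : ℕ} (σ : K ≃+* K) (T : Module.End K (Fin n → K))
    (hT : ∀ v : Fin n → K, T (fun i => σ (v i)) = fun i => σ (T v i)) (μ : K) :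
    Module.finrank K (T.eigenspace μ) ≤ Module.finrank K (T.eigenspace (σ μ)) := by
  let j : (Fin n → K) →+ (Fin n → K) :=
    { toFun := fun v i => σ (v i)
      map_zero' := funext fun _ => map_zero σ
      map_add' := fun v w => funext fun _ => map_add σ _ _ }
  let b := Module.finBasis K (T.eigenspace μ)
  have hb : LinearIndependent K (fun i => ((b i : T.eigenspace μ) : Fin n → K)) :=
    b.linearIndependent.map' (T.eigenspace μ).subtype (Submodule.ker_subtype _)
  have hi := hb.map_of_injective_injective (fun r => σ.symm r) j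
    (fun r hr => by simpa using hr)
    (fun v hv => funext fun i => by
      have := congrFun hv i
      exact (map_eq_zero_iff σ σ.injective).1 this)
    (fun r v => funext fun i => by show σ (σ.symm r * v i) = r * σ (v i); simp)
  have hmem : ∀ i, (j ∘ fun i => ((b i : T.eigenspace μ) : Fin n → K)) i ∈ T.eigenspace (σ μ) :=
    fun i => by
      rw [Module.End.mem_eigenspace_iff]
      show T (fun l => σ ((b i : Fin n → K) l)) = σ μ • fun l => σ ((b i : Fin n → K) l)
      rw [hT, Module.End.mem_eigenspace_iff.1 (b i).2]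
      funext l
      simp
  have h2 : LinearIndependent K (fun i => (⟨_, hmem i⟩ : T.eigenspace (σ μ))) :=
    LinearIndependent.of_comp (T.eigenspace (σ μ)).subtype hi
  simpa using h2.fintype_card_le_finrank

variable [IsAlgClosed K]

/-- An irreducible constituent has dimension at most `n / e`. -/
theorem finrank_mul_le {P : Type*} [Group P] [Finite P] {p : ℕ} [hp : Fact p.Prime]
    (hP : IsPGroup p P) {n q : ℕ} (hq : (q : ZMod p) ≠ 0) (σ : K ≃+* K) (hσ : ∀ x, σ x = x ^ q)
    (ρ : P →* Module.End K (Fin n → K))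
    (hρ : ∀ g (v : Fin n → K), ρ g (fun i => σ (v i)) = fun i => σ (ρ g v i))
    {X : Submodule K (Fin n → K)} (hX : Invariant ρ X) (hirr : ∀ W : Submodule K X,
      Invariant (subAct ρ hX) W → W = ⊥ ∨ W = ⊤)
    (hnt : ∃ c, subAct ρ hX c ≠ 1) : orderOf (q : ZMod p) * Module.finrank K X ≤ n := by
  set τ := subAct ρ hX
  obtain ⟨c, hc⟩ := hnt
  haveI : Nontrivial X := by
    by_contra h
    rw [not_nontrivial_iff_subsingleton] at h
    exact hc (LinearMap.ext fun x => Subsingleton.elim _ _)
  -- an element acting as a scalar of order `p`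
  haveI : Finite τ.toHomUnits.range := Finite.of_surjective _ τ.toHomUnits.rangeRestrict_surjective
  haveI : Nontrivial τ.toHomUnits.range := ⟨⟨⟨_, c, rfl⟩, 1, fun h => hc (by
    have := congrArg (fun y : τ.toHomUnits.range => ((y : (Module.End K X)ˣ) : Module.End K X)) h
    simpa using this)⟩⟩
  haveI := (hP.of_surjective _ τ.toHomUnits.rangeRestrict_surjective).center_nontrivial
  obtain ⟨⟨y, hy⟩, hy1⟩ := exists_ne (1 : Subgroup.center τ.toHomUnits.range)
  obtain ⟨z, rfl⟩ := τ.toHomUnits.rangeRestrict_surjective y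
  obtain ⟨μ, hμ⟩ := exists_scalar τ hirr (τ z) fun g => by
    have h1 := congrArg (fun y : τ.toHomUnits.range => ((y : (Module.End K X)ˣ) : Module.End K X))
      (Subgroup.mem_center_iff.1 hy (τ.toHomUnits.rangeRestrict g))
    simp at h1
    exact h1.symm
  obtain ⟨a, ha⟩ := hP z
  have hsmul : ∀ m : ℕ, τ (z ^ m) = μ ^ m • 1 := fun m => by
    rw [map_pow, hμ, smul_pow, one_pow]
  have hone : (1 : Module.End K X) ≠ 0 := one_ne_zero
  obtain ⟨v0, hv0⟩ := exists_ne (0 : X)
  have hinj : ∀ {x y : K}, (x • 1 : Module.End K X) = y • 1 → x = y := fun h =>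
    smul_left_injective K hv0 (LinearMap.congr_fun h v0)
  have hμa : μ ^ p ^ a = 1 := hinj (by rw [← hsmul, ha, map_one, one_smul])
  have hμ1 : μ ≠ 1 := fun h => hy1 (Subtype.ext (Subtype.ext (Units.ext (by
    simp [hμ, h]))))
  obtain ⟨i, -, hi⟩ := (Nat.dvd_prime_pow hp.out).1 (orderOf_dvd_of_pow_eq_one hμa)
  rcases i with _ | i
  · exact absurd (orderOf_eq_one_iff.1 (by simpa using hi)) hμ1
  set ν := μ ^ p ^ i with hν
  have hνord : orderOf ν = p := by
    have h0 : μ ^ p ^ (i + 1) = 1 := hi ▸ pow_orderOf_eq_one μ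
    refine orderOf_eq_prime (by rw [hν, ← pow_mul, ← pow_succ, h0]) fun h => ?_
    have h2 := Nat.le_of_dvd (pow_pos hp.out.pos i) (orderOf_dvd_of_pow_eq_one h)
    rw [hi] at h2
    exact absurd h2 (not_le.2 (Nat.pow_lt_pow_right hp.out.one_lt (Nat.lt_succ_self i)))
  set T := ρ (z ^ p ^ i) with hT
  have hle : X ≤ T.eigenspace ν := fun x hx => by
    rw [Module.End.mem_eigenspace_iff]
    exact congrArg Subtype.val (LinearMap.congr_fun (hsmul (p ^ i)) ⟨x, hx⟩)
  have hdim : ∀ m : ℕ, Module.finrank K X ≤ Module.finrank K (T.eigenspace (ν ^ q ^ m)) := by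
    intro m
    induction m with
    | zero => rw [pow_zero, pow_one]; exact Submodule.finrank_mono hle
    | succ m ih =>
      refine ih.trans ?_
      rw [pow_succ, pow_mul, ← hσ (ν ^ q ^ m)]
      exact finrank_eigenspace_conj σ T (hρ _) _
  have hinjq : Function.Injective fun m : Fin (orderOf (q : ZMod p)) => ν ^ q ^ (m : ℕ) := by
    intro a b hab
    have h1 : q ^ (a : ℕ) ≡ q ^ (b : ℕ) [MOD p] := by
      have hlt : ∀ x : ℕ, x % p < orderOf ν := fun x => by
        rw [hνord]; exact Nat.mod_lt _ hp.out.pos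
      refine pow_injOn_Iio_orderOf (hlt _) (hlt _) ?_
      show ν ^ (q ^ (a : ℕ) % p) = ν ^ (q ^ (b : ℕ) % p)
      have e1 : ∀ x : ℕ, ν ^ (x % p) = ν ^ x := fun x =>
        (congrArg (fun t => ν ^ (x % t)) hνord).symm.trans (pow_mod_orderOf ν x)
      rw [e1, e1]
      exact hab
    have h2 : (q : ZMod p) ^ (a : ℕ) = (q : ZMod p) ^ (b : ℕ) := by
      rw [← Nat.cast_pow, ← Nat.cast_pow]
      exact (ZMod.natCast_eq_natCast_iff _ _ _).2 h1
    exact Fin.ext (pow_injOn_Iio_orderOf a.2 b.2 h2)
  have h := mul_card_le_finrank (T.eigenspaces_iSupIndep.comp hinjq) (d := Module.finrank K X)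
    fun m => hdim m
  rwa [Fintype.card_fin, Module.finrank_fin_fun] at h


/-- Let F be a field with q elements, p a prime not dividing q, and e the multiplicative order of q modulo p; assume e ≤ n. Then every p-subgroup of GL_n(F) has derived length at most ⌊log₂(n/e)⌋ + 1: that term of its derived series is trivial (n/e is the integer quotient). -/
theorem result {F : Type*} [Field F] [Fintype F] (q : ℕ) (hF : Fintype.card F = q) (p : ℕ) [Fact p.Prime] (hpq : ¬ p ∣ q) (n e : ℕ) (he : e = orderOf (q : ZMod p)) (hen : e ≤ n) (P : Subgroup (GL (Fin n) F)) (hP : IsPGroup p P) : derivedSeries ↥P (Nat.log 2 (n / e) + 1) = ⊥ := by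
  classical
  have hq : (q : ZMod p) ≠ 0 := fun h => hpq ((CharP.cast_eq_zero_iff (ZMod p) p q).1 h)
  have hqF : (q : F) = 0 := by rw [← hF]; exact FiniteField.cast_card_eq_zero F
  let K := AlgebraicClosure F
  let σ : K ≃+* K := (FiniteField.frobeniusAlgEquivOfAlgebraic F K).toRingEquiv
  have hσ : ∀ x, σ x = x ^ q := fun x => by rw [← hF]; rfl
  let M : P → Matrix (Fin n) (Fin n) K := fun g =>
    ((g : GL (Fin n) F) : Matrix (Fin n) (Fin n) F).map (algebraMap F K)
  let ρ : P →* Module.End K (Fin n → K) :=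
    (((Matrix.toLinAlgEquiv' : Matrix (Fin n) (Fin n) K ≃ₐ[K] _).toAlgHom.toMonoidHom.comp
      (algebraMap F K).mapMatrix.toMonoidHom).comp (Units.coeHom _)).comp P.subtype
  have hρapp : ∀ g v i, ρ g v i = ∑ j, M g i j * v j := fun g v i => rfl
  have hρ : ∀ g (v : Fin n → K), ρ g (fun i => σ (v i)) = fun i => σ (ρ g v i) := by
    intro g v
    funext i
    rw [hρapp, hρapp, map_sum]
    refine Finset.sum_congr rfl fun j _ => ?_
    rw [map_mul]
    congr 1
    exact ((FiniteField.frobeniusAlgEquivOfAlgebraic F K).commutes _).symm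
  set e' := orderOf (q : ZMod p)
  have he0 : 0 < e := by
    rw [he]
    exact orderOf_pos_iff.2 (isOfFinOrder_iff_pow_eq_one.2
      ⟨p - 1, by have := (Fact.out : p.Prime).two_le; omega, ZMod.pow_card_sub_one_eq_one hq⟩)
  have hcard : (Nat.card P : K) ≠ 0 := by
    obtain ⟨j, hj⟩ := IsPGroup.iff_card.1 hP
    rw [hj, Nat.cast_pow]
    refine pow_ne_zero _ fun h => ?_
    haveI : ExpChar F (ringChar F) := ExpChar.prime (CharP.char_is_prime F _)
    have hpF : ((p : ℕ) : F) = 0 := (algebraMap F K).injective (by rw [map_natCast, h, map_zero])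
    obtain ⟨m, hm1, hm2⟩ := FiniteField.card F (ringChar F)
    have hd : ringChar F ∣ p := (ringChar.spec F p).1 hpF
    have heq := ((Nat.prime_dvd_prime_iff_eq hm1 Fact.out).1 hd)
    exact hpq (hF ▸ hm2 ▸ heq ▸ dvd_pow_self _ m.ne_zero)
  rw [Subgroup.eq_bot_iff_forall]
  intro g hg
  suffices h : ∀ (d : ℕ) (X : Submodule K (Fin n → K)), Module.finrank K X = d → Invariant ρ X →
      ∀ x ∈ X, ρ g x = x by
    have h1 : ρ g = 1 := LinearMap.ext fun x => h _ ⊤ rfl (fun _ _ _ => trivial) x trivial
    refine Subtype.ext ?_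
    apply Units.ext
    apply Matrix.map_injective (algebraMap F K).injective
    apply (Matrix.toLinAlgEquiv' : Matrix (Fin n) (Fin n) K ≃ₐ[K] _).injective
    refine h1.trans ?_
    simp
  intro d
  induction d using Nat.strong_induction_on with
  | _ d ih =>
  intro X hXd hX x hx
  by_cases hirr : ∀ W : Submodule K X, Invariant (subAct ρ hX) W → W = ⊥ ∨ W = ⊤
  · by_cases hnt : ∃ c, subAct ρ hX c ≠ 1
    · have hdim := finrank_mul_le hP hq σ hσ ρ hρ hX hirr hnt
      have hlt : Module.finrank K X < 2 ^ (Nat.log 2 (n / e) + 1) := by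
        refine lt_of_le_of_lt ?_ (Nat.lt_pow_succ_log_self one_lt_two _)
        rw [Nat.le_div_iff_mul_le he0, mul_comm, he]
        exact hdim
      have h1 := derivedSeries_acts_trivially (Nat.log 2 (n / e)) _ P hP X rfl hlt (subAct ρ hX) g hg
      exact congrArg Subtype.val (LinearMap.congr_fun h1 ⟨x, hx⟩)
    · push Not at hnt
      exact congrArg Subtype.val (LinearMap.congr_fun (hnt g) ⟨x, hx⟩)
  · simp only [not_forall, not_or] at hirr
    obtain ⟨W, hW, hWb, hWt⟩ := hirr
    obtain ⟨U, hU, hWU⟩ := exists_invariant_compl (subAct ρ hX) hW hcard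
    have hinv : ∀ Y : Submodule K X, Invariant (subAct ρ hX) Y → Invariant ρ (Y.map X.subtype) := by
      rintro Y hY c _ ⟨y, hy, rfl⟩
      exact ⟨subAct ρ hX c y, hY c y hy, rfl⟩
    have hfr : ∀ Y : Submodule K X, Module.finrank K (Y.map X.subtype) = Module.finrank K Y :=
      fun Y => (Submodule.equivMapOfInjective X.subtype X.injective_subtype Y).finrank_eq.symm
    have hdim := Submodule.finrank_add_eq_of_isCompl hWU
    have hWpos : 0 < Module.finrank K W := Nat.pos_of_ne_zero fun h0 =>
      hWb (Submodule.finrank_eq_zero.1 h0)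
    have hUpos : 0 < Module.finrank K U := Nat.pos_of_ne_zero fun h0 => hWt (by
      have e : U = ⊥ := Submodule.finrank_eq_zero.1 h0
      subst e
      exact eq_top_of_isCompl_bot hWU)
    have hx' : (⟨x, hx⟩ : X) ∈ W ⊔ U := by rw [hWU.sup_eq_top]; trivial
    obtain ⟨y, hy, w, hw, hyw⟩ := Submodule.mem_sup.1 hx'
    have e1 := ih _ (by omega) _ (hfr W) (hinv W hW) _ ⟨y, hy, rfl⟩
    have e2 := ih _ (by omega) _ (hfr U) (hinv U hU) _ ⟨w, hw, rfl⟩
    have e3 : x = (y : Fin n → K) + w := (congrArg Subtype.val hyw).symm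
    rw [e3, map_add]
    exact congrArg₂ (· + ·) e1 e2

end Cfsg.Agent.S4417
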