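import Cfsg.Statements.S4419
import Cfsg.Agent.Lib.Transfer.Frobenius
import Cfsg.Agent.Lib.PGroup.Frattini
import Cfsg.Agent.Lib.PCore.Basic
import Cfsg.Agent.Lib.Coprime.Commutator

set_option autoImplicit false
open Cfsg

namespace Cfsg.Agent.S4419

/-- A subgroup of a metacyclic group is generated by two elements. -/
theorem exists_two_generators {S : Type*} [Group S] (N : Subgroup S) [N.Normal]
    (hN : IsCyclic N) (hQ : IsCyclic (S ⧸ N)) (Q : Subgroup S) :
    ∃ a b : Q, Subgroup.closure ({a, b} : Set Q) = ⊤ := by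
  have hker : IsCyclic ((QuotientGroup.mk' N).comp Q.subtype).ker := by
    refine isCyclic_of_injective (((Q.subtype.comp ((QuotientGroup.mk' N).comp Q.subtype).ker.subtype)).codRestrict N ?_) ?_
    · intro x
      exact (QuotientGroup.eq_one_iff _).1 x.2
    · intro x y h
      have h' := congrArg Subtype.val h
      simp only [MonoidHom.codRestrict_apply, MonoidHom.comp_apply, Subgroup.coe_subtype] at h'
      exact Subtype.ext (Subtype.ext h')
  obtain ⟨⟨b, hbk⟩, hb⟩ := hker.exists_zpow_surjective
  obtain ⟨⟨_, a, rfl⟩, ha⟩ :=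
    (inferInstance : IsCyclic ((QuotientGroup.mk' N).comp Q.subtype).range).exists_zpow_surjective
  refine ⟨a, b, top_le_iff.1 fun q _ => ?_⟩
  obtain ⟨k, hk⟩ := ha ⟨_, q, rfl⟩
  have hmem : q * (a ^ k)⁻¹ ∈ ((QuotientGroup.mk' N).comp Q.subtype).ker := by
    have hk' := congrArg Subtype.val hk
    simp only [Subgroup.coe_zpow] at hk'
    rw [MonoidHom.mem_ker, map_mul, map_inv, map_zpow, hk', mul_inv_cancel]
  obtain ⟨l, hl⟩ := hb ⟨_, hmem⟩
  have hl' : b ^ l = q * (a ^ k)⁻¹ := congrArg Subtype.val hl
  have : q = b ^ l * a ^ k := by rw [hl', inv_mul_cancel_right]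
  rw [this]
  exact Subgroup.mul_mem _ (Subgroup.zpow_mem _ (Subgroup.subset_closure (by simp)) _)
    (Subgroup.zpow_mem _ (Subgroup.subset_closure (by simp)) _)

/-- A subgroup containing a Sylow subgroup for every prime is everything. -/
theorem eq_top_of_sylow_le {A : Type*} [Group A] [Finite A] {H : Subgroup A}
    (h : ∀ (r : ℕ) [Fact r.Prime] (R : Sylow r A), (R : Subgroup A) ≤ H) : H = ⊤ := by
  refine Subgroup.eq_top_of_card_eq _ (Nat.dvd_antisymm H.card_subgroup_dvd_card ?_)
  rw [Nat.dvd_iff_prime_pow_dvd_dvd]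
  intro r k hr hd
  haveI : Fact r.Prime := ⟨hr⟩
  obtain ⟨R⟩ := (inferInstance : Nonempty (Sylow r A))
  refine Dvd.dvd.trans ?_ (Subgroup.card_dvd_of_le (h r R))
  rw [R.card_eq_multiplicity]
  exact pow_dvd_pow r ((hr.pow_dvd_iff_le_factorization Nat.card_pos.ne').1 hd)

/-- A group of prime power order `r^k` acting on a group of order `1`, `p` or `p^2` is trivial
unless `r` divides `p^2 - 1`. -/
theorem trivial_action {A V : Type*} [Group A] [Finite A] [Group V] [Finite V] (φ : A →* MulAut V)
    {p r : ℕ} (hp : p.Prime) (hr : r.Prime) (hrp : r ≠ p) (hA : IsPGroup r A) {n : ℕ} (hn : n ≤ 2)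
    (hV : Nat.card V = p ^ n) (hrd : ¬ r ∣ p ^ 2 - 1) (a : A) (v : V) : φ a v = v := by
  haveI : Fact r.Prime := ⟨hr⟩
  letI : MulAction A V := MulAction.compHom V φ
  have hsmul : ∀ (a : A) (v : V), a • v = φ a v := fun _ _ => rfl
  let F : Subgroup V :=
    { carrier := {v | ∀ a, φ a v = v}
      one_mem' := fun a => map_one _
      mul_mem' := fun hx hy a => by rw [map_mul, hx a, hy a]
      inv_mem' := fun hx a => by rw [map_inv, hx a] }
  obtain ⟨m, hm, hF⟩ := (Nat.dvd_prime_pow hp).1 (hV ▸ F.card_subgroup_dvd_card)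
  have hmod := hA.card_modEq_card_fixedPoints (α := V)
  have hFix : Nat.card (MulAction.fixedPoints A V) = Nat.card F :=
    Nat.card_congr (Equiv.setCongr (by ext w; simp [hsmul, F]))
  rw [hFix, hV, hF] at hmod
  have hnm : n = m := by
    by_contra hne
    have hlt : m < n := by omega
    have h1 : r ∣ p ^ n - p ^ m := (Nat.modEq_iff_dvd' (Nat.pow_le_pow_right hp.pos hm)).1 hmod.symm
    have h2 : p ^ n - p ^ m = p ^ m * (p ^ (n - m) - 1) := by
      rw [Nat.mul_sub_left_distrib, ← pow_add, mul_one, show m + (n - m) = n by omega]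
    rw [h2] at h1
    have h3 : r ∣ p ^ (n - m) - 1 := (hr.dvd_mul.1 h1).resolve_left fun h =>
      hrp ((Nat.prime_dvd_prime_iff_eq hr hp).1 (hr.dvd_of_dvd_pow h))
    apply hrd
    have h4 : n - m = 1 ∨ n - m = 2 := by omega
    rcases h4 with h4 | h4 <;> rw [h4] at h3
    · rw [pow_one] at h3
      have : p ^ 2 - 1 = (p + 1) * (p - 1) := by simpa using Nat.sq_sub_sq p 1
      rw [this]; exact Dvd.dvd.mul_left h3 _
    · exact h3
  have : F = ⊤ := Subgroup.eq_top_of_card_eq _ (by rw [hF, hV, hnm])
  exact (this ▸ Subgroup.mem_top v : v ∈ F) a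

/-- Let p be a prime and G a finite group whose Sylow p-subgroups are metacyclic (a cyclic normal subgroup with cyclic quotient). Then G has a normal p-complement if and only if the order of G/O_{p′,p}(G) is coprime to p² − 1. -/
theorem result {G : Type*} [Group G] [Finite G] (p : ℕ) [Fact p.Prime] (S : Sylow p G) (hS : Cfsg.IsMetacyclic ↥(S : Subgroup G)) : Cfsg.HasNormalPComplement p G ↔ Nat.Coprime (Nat.card (G ⧸ Cfsg.pPrimePCore p G)) (p ^ 2 - 1) := by
  haveI hPn : (pPrimePCore p G).Normal := Subgroup.Normal.comap inferInstance _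
  haveI hP0 : (pPrimeCore p G).Normal := inferInstance
  have hK : ∀ y : G, (∃ n, y ^ n = 1 ∧ Nat.Coprime n p) → y ∈ pPrimePCore p G → y ∈ pPrimeCore p G := by
    rintro y ⟨n, hn, hnp⟩ hy
    rw [pPrimePCore, Subgroup.mem_comap] at hy
    obtain ⟨k, hk⟩ := PCore.isPGroup_pCore ⟨_, hy⟩
    have hk' : (QuotientGroup.mk' (pPrimeCore p G) y) ^ p ^ k = 1 := by
      simpa using congrArg Subtype.val hk
    have hn' : (QuotientGroup.mk' (pPrimeCore p G) y) ^ n = 1 := by rw [← map_pow, hn, map_one]
    rw [← QuotientGroup.eq_one_iff, ← orderOf_eq_one_iff]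
    exact Nat.eq_one_of_dvd_coprimes (hnp.pow_right k) (orderOf_dvd_of_pow_eq_one hn')
      (orderOf_dvd_of_pow_eq_one hk')
  constructor
  · rintro ⟨P, N, hN, hNP⟩
    have hcop : (Nat.card N).Coprime p := by
      have h1 : (P : Subgroup G).index = Nat.card N := hNP.index_eq_card
      rw [Nat.coprime_comm, Nat.Prime.coprime_iff_not_dvd Fact.out, ← h1]
      exact P.not_dvd_index
    have hNle : N ≤ pPrimeCore p G := PCore.le_pPrimeCore hcop
    have htop : pPrimePCore p G = ⊤ := by
      rw [pPrimePCore, PCore.pCore_eq_top_iff.2, Subgroup.comap_top]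
      refine IsPGroup.of_surjective P.2
        ((QuotientGroup.mk' (pPrimeCore p G)).comp (P : Subgroup G).subtype) ?_
      intro x
      obtain ⟨g, rfl⟩ := QuotientGroup.mk'_surjective _ x
      obtain ⟨⟨n, q⟩, hnq, -⟩ := Subgroup.isComplement_iff_existsUnique.1 hNP g
      refine ⟨q, ?_⟩
      rw [← hnq]
      simp [(QuotientGroup.eq_one_iff _).2 (hNle n.2)]
    have : Nat.card (G ⧸ pPrimePCore p G) = 1 := by
      rw [← Subgroup.index_eq_card, htop, Subgroup.index_top]
    rw [this]
    exact Nat.coprime_one_left _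
  · intro hco
    obtain ⟨N, hNn, hNc, hQc⟩ := hS
    refine Transfer.hasNormalPComplement_of_centralizer S fun Q hQS g hg hgp => ?_
    have hp : p.Prime := Fact.out
    have hQp : IsPGroup p Q := S.2.to_le hQS
    -- `Q` has at most two generators
    obtain ⟨a, b, hab⟩ := exists_two_generators N hNc hQc (Q.subgroupOf S)
    have hQ2 : ∃ a b : Q, Subgroup.closure ({a, b} : Set Q) = ⊤ := by
      let e := Subgroup.subgroupOfEquivOfLe hQS
      refine ⟨e a, e b, ?_⟩
      have := congrArg (Subgroup.map e.toMonoidHom) hab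
      rw [MonoidHom.map_closure, Set.image_pair, Subgroup.map_top_of_surjective _ e.surjective] at this
      exact this
    have hcard : ∃ n ≤ 2, Nat.card (Q ⧸ frattini Q) = p ^ n := by
      classical
      obtain ⟨a, b, hab⟩ := hQ2
      obtain ⟨n, hn⟩ := (hQp.to_quotient (frattini Q)).exists_card_eq
      refine ⟨n, ?_, hn⟩
      have h1 := PGroup.card_closure_sup_frattini_le hQp {a, b}
      rw [show ((({a, b} : Finset Q)) : Set Q) = {a, b} by simp, hab, top_sup_eq,
        Subgroup.card_top, ← (frattini Q).card_mul_index, Subgroup.index_eq_card, hn] at h1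
      have h2 := Nat.le_of_mul_le_mul_left h1 Nat.card_pos
      have h3 : p ^ n ≤ p ^ 2 := h2.trans (Nat.pow_le_pow_right hp.pos Finset.card_le_two)
      exact (Nat.pow_le_pow_iff_right hp.one_lt).1 h3
    obtain ⟨n, hn2, hncard⟩ := hcard
    -- elements of prime power order
    have key : ∀ y ∈ Subgroup.normalizer (Q : Set G), ∀ r k : ℕ, r.Prime → r ≠ p →
        orderOf y = r ^ k → y ∈ Subgroup.centralizer (Q : Set G) := by
      intro y hy r k hr hrp hk
      by_cases hrd : r ∣ p ^ 2 - 1
      · have hyK : y ∈ pPrimePCore p G := by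
          rw [← QuotientGroup.eq_one_iff, ← orderOf_eq_one_iff]
          have h1 : orderOf (y : G ⧸ pPrimePCore p G) ∣ r ^ k :=
            hk ▸ orderOf_map_dvd (QuotientGroup.mk' _) y
          refine Nat.eq_one_of_dvd_coprimes ?_ h1 (orderOf_dvd_natCard _)
          exact (((hco.of_dvd_right hrd).symm).pow_left k)
        have hy' := hK y ⟨r ^ k, hk ▸ pow_orderOf_eq_one y,
          ((Nat.coprime_primes hr hp).2 hrp).pow_left k⟩ hyK
        rw [Subgroup.mem_centralizer_iff]
        intro q hq
        have h1 : q * y * q⁻¹ * y⁻¹ ∈ Q :=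
          (mul_assoc (q * y) q⁻¹ y⁻¹ ▸ (by
            have := (Subgroup.mem_normalizer_iff.1 hy q⁻¹).1 (Q.inv_mem hq)
            simpa [mul_assoc] using Q.mul_mem hq this))
        have h2 : q * y * q⁻¹ * y⁻¹ ∈ pPrimeCore p G :=
          Subgroup.mul_mem _ (hP0.conj_mem y hy' q)
            (Subgroup.inv_mem _ hy')
        have h3 := Subgroup.disjoint_def.1
          (PCore.disjoint_of_isPGroup_of_coprime hQp PCore.coprime_card_pPrimeCore) h1 h2
        rwa [mul_inv_eq_one, mul_inv_eq_iff_eq_mul] at h3
      · haveI := Fact.mk hr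
        have hA : IsPGroup r (Subgroup.zpowers y) :=
          IsPGroup.of_card (n := k) (by rw [Nat.card_zpowers, hk])
        have hle : Subgroup.zpowers y ≤ Subgroup.normalizer (Q : Set G) := Subgroup.zpowers_le.2 hy
        obtain ⟨m, hm⟩ := hQp.exists_card_eq
        obtain ⟨m', -, hm'⟩ := (Nat.dvd_prime_pow hp).1 (hm ▸ (frattini Q).card_subgroup_dvd_card)
        have hfr := Coprime.le_centralizer_of_frattini hle (K := Q)
          (by rw [Nat.card_zpowers, hk, hm']
              exact (((Nat.coprime_primes hr hp).2 hrp).pow _ _)) ?_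
        · exact hfr (Subgroup.mem_zpowers y)
        intro a ha q hq
        let φ : Subgroup.zpowers y →* MulAut (Q ⧸ frattini Q) :=
          { toFun := fun a => QuotientGroup.congr (frattini Q) (frattini Q)
              (Q.normalizerMonoidHom ⟨a, hle a.2⟩)
              (Subgroup.characteristic_iff_map_eq.1 inferInstance _)
            map_one' := by
              ext x
              induction x using QuotientGroup.induction_on
              rename_i z
              show ((Q.normalizerMonoidHom 1 z : Q) : Q ⧸ frattini Q) = _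
              rw [map_one]
              rfl
            map_mul' := fun a b => by
              ext x
              induction x using QuotientGroup.induction_on
              rename_i z
              show ((Q.normalizerMonoidHom (⟨a, hle a.2⟩ * ⟨b, hle b.2⟩) z : Q) : Q ⧸ frattini Q) = _
              rw [map_mul]
              rfl }
        have h := trivial_action φ hp hr hrp hA hn2 hncard hrd ⟨a, ha⟩ ((⟨q, hq⟩ : Q) : Q ⧸ frattini Q)
        have h' : ((Q.normalizerMonoidHom ⟨a, hle ha⟩ ⟨q, hq⟩ : Q) : Q ⧸ frattini Q) = ((⟨q, hq⟩ : Q) : Q ⧸ frattini Q) := h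
        rw [QuotientGroup.eq_iff_div_mem, div_eq_mul_inv] at h'
        exact ⟨_, h', rfl⟩
    -- every subgroup containing all elements of prime power order of a cyclic group contains it
    have htop : Subgroup.zpowers g ≤ Subgroup.centralizer (Q : Set G) := by
      rw [← Subgroup.subgroupOf_eq_top]
      refine eq_top_of_sylow_le fun r _ R x hx => ?_
      obtain ⟨k, hk⟩ := IsPGroup.iff_orderOf.1 R.2 ⟨x, hx⟩
      rw [Subgroup.orderOf_mk, ← Subgroup.orderOf_coe] at hk
      rcases Nat.eq_zero_or_pos k with rfl | hk0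
      · rw [pow_zero, orderOf_eq_one_iff] at hk
        rw [Subgroup.mem_subgroupOf, hk]
        exact Subgroup.one_mem _
      rw [Subgroup.mem_subgroupOf]
      refine key _ (Subgroup.zpowers_le.2 hg x.2) r k Fact.out ?_ hk
      rintro rfl
      have h1 : r ∣ orderOf g := (dvd_pow_self r hk0.ne').trans
        (hk ▸ orderOf_dvd_of_mem_zpowers x.2)
      exact (Nat.Prime.coprime_iff_not_dvd Fact.out).1 hgp.symm h1
    exact htop (Subgroup.mem_zpowers g)

end Cfsg.Agent.S4419
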