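import Cfsg.Statements.S4420
-- import your own Cfsg.Agent.* helpers here

set_option autoImplicit false
open Cfsg

namespace Cfsg.Agent.S4420

/-- Structure of groups in which every element outside some proper subgroup has square 1. Let H be a finite group with a proper subgroup A such that every element outside A has square 1. Then H has an abelian normal subgroup B of index 2 such that every element outside B is an involution inverting every element of B; and if H is not an elementary abelian 2-group, B is the only abelian normal subgroup of index 2 with this property. -/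
theorem result {H : Type*} [Group H] [Finite H] (A : Subgroup H) (hA : A ≠ ⊤) (hD : ∀ x : H, x ∉ A → x ^ 2 = 1) :
    ∃ B : Subgroup H, B.Normal ∧ IsMulCommutative ↥B ∧ B.index = 2 ∧
      (∀ x : H, x ∉ B → x ^ 2 = 1 ∧ ∀ b ∈ B, x * b * x⁻¹ = b⁻¹) ∧
      (¬ (IsMulCommutative H ∧ ∀ x : H, x ^ 2 = 1) →
        ∀ B' : Subgroup H, B'.Normal → IsMulCommutative ↥B' → B'.index = 2 →
          (∀ x : H, x ∉ B' → x ^ 2 = 1 ∧ ∀ b ∈ B', x * b * x⁻¹ = b⁻¹) → B' = B) := by
  obtain ⟨x₀, hx₀⟩ : ∃ x, x ∉ A := by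
    by_contra h
    push Not at h
    exact hA (top_le_iff.1 fun x _ => h x)
  have hself : ∀ x : H, x ∉ A → x⁻¹ = x := fun x hx => by
    rw [inv_eq_iff_mul_eq_one, ← sq]; exact hD x hx
  have hinv : ∀ x : H, x ∉ A → ∀ a ∈ A, x * a * x⁻¹ = a⁻¹ := by
    intro x hx a ha
    have hxa : x * a ∉ A := fun h => hx ((A.mul_mem_cancel_right ha).1 h)
    have h1 := hD _ hxa
    rw [hself x hx, ← mul_eq_one_iff_eq_inv]
    rwa [sq, ← mul_assoc] at h1
  have hcomm : ∀ a ∈ A, ∀ b ∈ A, a * b = b * a := by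
    intro a ha b hb
    have h1 := hinv x₀ hx₀ (a * b) (A.mul_mem ha hb)
    have h2 : x₀ * (a * b) * x₀⁻¹ = a⁻¹ * b⁻¹ := by
      rw [← hinv x₀ hx₀ a ha, ← hinv x₀ hx₀ b hb]; group
    rw [h2, mul_inv_rev] at h1
    have h3 := congrArg (·⁻¹) h1
    simpa [mul_inv_rev] using h3.symm
  by_cases hE : IsMulCommutative H ∧ ∀ x : H, x ^ 2 = 1
  · obtain ⟨hc, he⟩ := hE
    have hx1 : x₀ ≠ 1 := fun h => hx₀ (h ▸ A.one_mem)
    haveI : Nontrivial H := ⟨⟨x₀, 1, hx1⟩⟩
    haveI : Fact (Nat.Prime 2) := ⟨Nat.prime_two⟩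
    have hP : IsPGroup 2 H := fun g => ⟨1, by rw [pow_one]; exact he g⟩
    obtain ⟨n, hn⟩ := hP.exists_card_eq
    have hn0 : n ≠ 0 := by
      rintro rfl
      exact (Finite.one_lt_card (α := H)).ne' (by simpa using hn)
    obtain ⟨B, hB⟩ := Sylow.exists_subgroup_card_pow_prime 2
      (show 2 ^ (n - 1) ∣ Nat.card H from hn ▸ pow_dvd_pow 2 (Nat.sub_le _ _))
    have hidx : B.index = 2 := by
      have h1 := B.card_mul_index
      rw [hB, hn, show 2 ^ n = 2 ^ (n - 1) * 2 by rw [← pow_succ]; congr 1; omega] at h1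
      exact Nat.eq_of_mul_eq_mul_left (pow_pos (by norm_num) _) h1
    refine ⟨B, Subgroup.normal_of_index_eq_two hidx, inferInstance, hidx, fun x _ => ⟨he x, fun b _ => ?_⟩, ?_⟩
    · rw [hc.is_comm.comm x b, mul_assoc, mul_inv_cancel, mul_one, eq_inv_iff_mul_eq_one, ← sq]
      exact he b
    · intro h; exact absurd ⟨hc, he⟩ h
  · have hne : ∃ a ∈ A, a * a ≠ 1 := by
      by_contra h
      push Not at h
      apply hE
      have he : ∀ x : H, x ^ 2 = 1 := by
        intro x
        by_cases hx : x ∈ A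
        · rw [sq]; exact h x hx
        · exact hD x hx
      refine ⟨⟨⟨fun a b => ?_⟩⟩, he⟩
      have hi : ∀ x : H, x⁻¹ = x := fun x => by rw [inv_eq_iff_mul_eq_one, ← sq]; exact he x
      calc a * b = (a * b)⁻¹ := (hi _).symm
        _ = b * a := by rw [mul_inv_rev, hi, hi]
    have hidx : A.index = 2 := by
      rw [Subgroup.index_eq_two_iff]
      refine ⟨x₀, fun b => ?_⟩
      by_cases hb : b ∈ A
      · refine Or.inr ⟨hb, fun h => hx₀ ((A.mul_mem_cancel_left hb).1 h)⟩
      · refine Or.inl ⟨?_, hb⟩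
        by_contra hbx
        obtain ⟨a, ha, ha2⟩ := hne
        have e1 := hinv _ hbx a ha
        have e2 : b * x₀ * a * (b * x₀)⁻¹ = a := by
          have : b * x₀ * a * (b * x₀)⁻¹ = b * (x₀ * a * x₀⁻¹) * b⁻¹ := by group
          rw [this, hinv x₀ hx₀ a ha, hinv b hb _ (A.inv_mem ha), inv_inv]
        rw [e2] at e1
        exact ha2 (eq_inv_iff_mul_eq_one.1 e1)
    refine ⟨A, Subgroup.normal_of_index_eq_two hidx, ⟨⟨fun a b => Subtype.ext (hcomm a a.2 b b.2)⟩⟩, hidx,
      fun x hx => ⟨hD x hx, hinv x hx⟩, ?_⟩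
    intro _ B' _ hB'c hB'i hB'
    by_contra hne'
    obtain ⟨c, hcA, hcB⟩ : ∃ c, c ∉ A ∧ c ∈ B' := by
      by_contra h
      push Not at h
      have hle : B' ≤ A := fun c hc => by by_contra hcA; exact h c hcA hc
      exact hne' (Subgroup.eq_of_le_of_card_ge hle (by
        have := A.card_mul_index
        have := B'.card_mul_index
        simp only [hidx, hB'i] at *
        omega))
    obtain ⟨a, ha, ha2⟩ := hne
    apply ha2
    by_cases haB : a ∈ B'
    · have h := hinv c hcA a ha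
      have hcm : c * a = a * c := congrArg Subtype.val (hB'c.is_comm.comm ⟨c, hcB⟩ ⟨a, haB⟩)
      rw [hcm, mul_assoc, mul_inv_cancel, mul_one] at h
      exact eq_inv_iff_mul_eq_one.1 h
    · rw [← sq]; exact (hB' a haB).1

end Cfsg.Agent.S4420
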