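import Cfsg.Statements.S4421

set_option autoImplicit false
open Cfsg

namespace Cfsg.Agent.S4421

/-- A factorization of a normalizer from two-step control of fusion. Let `G` be a finite group and `A ≤ S ≤ H` subgroups of `G` such that: (i) `S` controls the `G`-fusion of `A` in the sense that every `G`-conjugate of `A` lying in `S` is an `S`-conjugate of `A`; (ii) `H` controls the `G`-fusion of `S` in the same sense; (iii) every conjugate of `S` by an element of the normalizer of `A` lies in `H`. Then `N_G(A) = N_H(A) · (N_G(S) ∩ N_G(A))`: every element of the normalizer of `A` is a product of an element of `H` normalizing `A` and an element normalizing both `S` and `A`. -/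
theorem result {G : Type*} [Group G] [Finite G] (A S H : Subgroup G)
    (hAS : A ≤ S) (hSH : S ≤ H)
    (h1 : ∀ g : G, A.map (MulAut.conj g).toMonoidHom ≤ S → ∃ s ∈ S, A.map (MulAut.conj g).toMonoidHom = A.map (MulAut.conj s).toMonoidHom)
    (h2 : ∀ g : G, S.map (MulAut.conj g).toMonoidHom ≤ H → ∃ y ∈ H, S.map (MulAut.conj g).toMonoidHom = S.map (MulAut.conj y).toMonoidHom)
    (h3 : ∀ x ∈ Subgroup.normalizer (A : Set G), S.map (MulAut.conj x).toMonoidHom ≤ H) :
    ∀ x ∈ Subgroup.normalizer (A : Set G), ∃ y ∈ H ⊓ Subgroup.normalizer (A : Set G),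
      ∃ z ∈ Subgroup.normalizer (S : Set G) ⊓ Subgroup.normalizer (A : Set G), x = y * z := by
  intro x hx
  obtain ⟨y, hy, hye⟩ := h2 x (h3 x hx)
  have key : ∀ a, a ∈ S → y⁻¹ * x * a * (y⁻¹ * x)⁻¹ ∈ S := by
    intro a ha
    obtain ⟨b, hb, hbe⟩ := hye.le ⟨a, ha, rfl⟩
    have hbe' : y * b * y⁻¹ = x * a * x⁻¹ := hbe
    have : y⁻¹ * x * a * (y⁻¹ * x)⁻¹ = b := by
      calc y⁻¹ * x * a * (y⁻¹ * x)⁻¹ = y⁻¹ * (x * a * x⁻¹) * y := by group
        _ = b := by rw [← hbe']; group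
    rw [this]
    exact hb
  have key' : ∀ a, y⁻¹ * x * a * (y⁻¹ * x)⁻¹ ∈ S → a ∈ S := by
    intro a ha
    obtain ⟨b, hb, hbe⟩ := hye.ge ⟨_, ha, rfl⟩
    have hbe' : x * b * x⁻¹ = y * (y⁻¹ * x * a * (y⁻¹ * x)⁻¹) * y⁻¹ := hbe
    have h4 : b = a := by
      calc b = x⁻¹ * (x * b * x⁻¹) * x := by group
        _ = a := by rw [hbe']; group
    exact h4 ▸ hb
  have hA : A.map (MulAut.conj y⁻¹).toMonoidHom ≤ S := by
    rintro _ ⟨a, ha, rfl⟩
    have h4 := key (x⁻¹ * a * x) (hAS ((Subgroup.mem_normalizer_iff''.mp hx a).mp ha))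
    simpa [mul_assoc] using h4
  obtain ⟨s, hs, hse⟩ := h1 y⁻¹ hA
  have hys : y * s ∈ Subgroup.normalizer (A : Set G) := by
    rw [Subgroup.mem_normalizer_iff_map_conj_eq]
    show A.map (MulAut.conj (y * s)).toMonoidHom = A
    have e : (MulAut.conj (y * s)).toMonoidHom =
        (MulAut.conj y).toMonoidHom.comp (MulAut.conj s).toMonoidHom := by
      ext; simp [mul_assoc]
    rw [e, ← Subgroup.map_map, ← hse, Subgroup.map_map]
    convert Subgroup.map_id A
    ext; simp [mul_assoc]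
  refine ⟨y * s, ⟨mul_mem hy (hSH hs), hys⟩, s⁻¹ * (y⁻¹ * x), ⟨(mul_mem
    (inv_mem (Subgroup.le_normalizer hs)) (Subgroup.mem_normalizer_iff.mpr fun a => ⟨key a, key' a⟩) :
      s⁻¹ * (y⁻¹ * x) ∈ Subgroup.normalizer (S : Set G)), ?_⟩,
    by group⟩
  have h5 : (y * s)⁻¹ * x ∈ Subgroup.normalizer (A : Set G) := mul_mem (inv_mem hys) hx
  simpa [mul_assoc] using h5

end Cfsg.Agent.S4421
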