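import Cfsg.Statements.S4422
-- import your own Cfsg.Agent.* helpers here

set_option autoImplicit false
open Cfsg

namespace Cfsg.Agent.S4422

/-- Primitive divisors of `q^e - 1` are congruent to 1 modulo `e`. Let `q ≥ 2` and `e ≥ 1` be natural numbers and let `m` be a divisor of `q^e - 1` that is coprime to `q^i - 1` for every `1 ≤ i < e` (so `m` divides the primitive part of `q^e - 1`, the largest such divisor). Then `m ≡ 1 (mod e)`. -/
theorem result (q e m : ℕ) (hq : 2 ≤ q) (he : 1 ≤ e)
    (hm : m ∣ q ^ e - 1) (hcop : ∀ i : ℕ, 1 ≤ i → i < e → Nat.Coprime m (q ^ i - 1)) :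
    m % e = 1 % e := by
  have key : ∀ r : ℕ, r.Prime → r ∣ m → r % e = 1 % e := by
    intro r hr hrm
    haveI : Fact r.Prime := ⟨hr⟩
    have h1 : ∀ i : ℕ, ((q : ZMod r) ^ i = 1 ↔ r ∣ q ^ i - 1) := by
      intro i
      have hq1 : 1 ≤ q ^ i := Nat.one_le_pow _ _ (by omega)
      rw [← ZMod.natCast_eq_zero_iff, Nat.cast_sub hq1, sub_eq_zero]
      push_cast
      rfl
    have hord : orderOf (q : ZMod r) = e := by
      rw [orderOf_eq_iff (by omega)]
      refine ⟨(h1 e).2 (hrm.trans hm), fun i hi hi0 h => ?_⟩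
      have := Nat.dvd_gcd hrm ((h1 i).1 h)
      rw [hcop i hi0 hi] at this
      exact hr.one_lt.ne' (Nat.dvd_one.1 this)
    have hq0 : (q : ZMod r) ≠ 0 := by
      intro h0
      have := (h1 e).2 (hrm.trans hm)
      rw [h0, zero_pow (by omega)] at this
      exact zero_ne_one this
    have hd : e ∣ r - 1 := by
      rw [← hord]; exact orderOf_dvd_of_pow_eq_one (ZMod.pow_card_sub_one_eq_one hq0)
    obtain ⟨k, hk⟩ := hd
    have : r = 1 + e * k := by have := hr.one_lt; omega
    rw [this, Nat.add_mul_mod_self_left]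
  have hm0 : m ≠ 0 := by
    rintro rfl
    have : q ≤ q ^ e := Nat.le_self_pow (by omega) q
    have := Nat.eq_zero_of_zero_dvd hm
    omega
  clear hm hcop
  induction m using Nat.recOnMul with
  | zero => exact absurd rfl hm0
  | one => rfl
  | prime r hr => exact key r hr dvd_rfl
  | mul a b ha hb =>
    rw [mul_ne_zero_iff] at hm0
    rw [Nat.mul_mod, ha (fun r hr h => key r hr (h.mul_right b)) hm0.1,
      hb (fun r hr h => key r hr (h.mul_left a)) hm0.2, ← Nat.mul_mod, one_mul]

end Cfsg.Agent.S4422
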