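import Cfsg.Statements.S4423
import Cfsg.Agent.Lib.Zsigmondy.Feit

set_option autoImplicit false
open Cfsg

namespace Cfsg.Agent.S4423

open Cfsg.Agent.Zsigmondy

/-- The size criterion for a single primitive prime `2 e + 1`, with four small exceptions. -/
theorem criterion {a r j : ℕ} (ha : 2 ≤ a) (hr : r.Prime) (hr3 : 3 ≤ r) :
    (4 * (a ^ r ^ j + 1) ≤ (a ^ r ^ j) ^ r - 1 ∧
      r * (2 * (2 * r ^ (j + 1)) + 1) * (a ^ r ^ j + 1) < (a ^ r ^ j) ^ r - 1) ∨
    (j = 0 ∧ r = 3 ∧ a ≤ 6) ∨ (j = 1 ∧ r = 3 ∧ a = 2) ∨ (j = 0 ∧ r = 5 ∧ a ≤ 3) ∨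
      (j = 0 ∧ r = 7 ∧ a = 2) := by
  set b := a ^ r ^ j with hb
  set T := r * (2 * (2 * r ^ (j + 1)) + 1) with hT
  have hb2 : 2 ≤ b := Nat.one_lt_pow (pow_ne_zero _ hr.ne_zero) ha
  have hT4 : 4 ≤ T := by
    have h2 : 3 * 3 ≤ r * (2 * (2 * r ^ (j + 1)) + 1) :=
      Nat.mul_le_mul hr3 (by have := Nat.one_le_pow (j + 1) r hr.pos; omega)
    rw [hT]; omega
  suffices h : T * (b + 1) + 1 < b ^ r ∨
      (j = 0 ∧ r = 3 ∧ a ≤ 6) ∨ (j = 1 ∧ r = 3 ∧ a = 2) ∨ (j = 0 ∧ r = 5 ∧ a ≤ 3) ∨
        (j = 0 ∧ r = 7 ∧ a = 2) by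
    refine h.imp_left fun h => ⟨?_, by omega⟩
    have h1 : 4 * (b + 1) ≤ T * (b + 1) := Nat.mul_le_mul_right _ hT4
    omega
  have suff : 2 * T ≤ b ^ (r - 1) → T * (b + 1) + 1 < b ^ r := by
    intro h
    have h1 : b ^ r = b ^ (r - 1) * b := by rw [← pow_succ]; congr 1; omega
    have h2 : 2 * T * b ≤ b ^ (r - 1) * b := Nat.mul_le_mul_right _ h
    have h3 : T * (b + 1) + 1 < 2 * T * b := by nlinarith
    omega
  rcases j with _ | j
  · simp only [zero_add, pow_zero, pow_one] at hb hT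
    rcases (show r = 3 ∨ r = 4 ∨ r = 5 ∨ r = 6 ∨ r = 7 ∨ 8 ≤ r by omega) with
      rfl | rfl | rfl | rfl | rfl | hr8
    · rcases (show a ≤ 6 ∨ 7 ≤ a by omega) with h | h
      · exact Or.inr (Or.inl ⟨rfl, rfl, h⟩)
      · left
        rw [hb, hT]
        nlinarith [Nat.mul_le_mul h h]
    · exact absurd hr (by norm_num)
    · rcases (show a ≤ 3 ∨ 4 ≤ a by omega) with h | h
      · exact Or.inr (Or.inr (Or.inr (Or.inl ⟨rfl, rfl, h⟩)))
      · left
        refine suff ?_
        rw [hb, hT]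
        exact le_trans (by norm_num) (Nat.pow_le_pow_left h 4)
    · exact absurd hr (by norm_num)
    · rcases (show a = 2 ∨ 3 ≤ a by omega) with h | h
      · exact Or.inr (Or.inr (Or.inr (Or.inr ⟨rfl, rfl, h⟩)))
      · left
        refine suff ?_
        rw [hb, hT]
        exact le_trans (by norm_num) (Nat.pow_le_pow_left h 6)
    · left
      have h11 : 11 ≤ r := by
        by_contra hlt
        rcases (show r = 8 ∨ r = 9 ∨ r = 10 by omega) with rfl | rfl | rfl <;>
          exact absurd hr (by norm_num)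
      refine suff ?_
      have key : ∀ k, 10 ≤ k → 2 * ((k + 1) * (2 * (2 * (k + 1)) + 1)) ≤ 2 ^ k := by
        intro k hk
        induction k, hk using Nat.le_induction with
        | base => norm_num
        | succ k hk ih => rw [pow_succ]; nlinarith
      have h1 := key (r - 1) (by omega)
      rw [Nat.sub_add_cancel hr.one_lt.le] at h1
      rw [hT]
      exact h1.trans (Nat.pow_le_pow_left (hb ▸ ha) _)
  · set S := r ^ (j + 1) with hS
    have hSr : r ≤ S := Nat.le_self_pow (Nat.succ_ne_zero j) r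
    have hTS : T = r * (2 * (2 * (S * r)) + 1) := by rw [hT, hS, pow_succ r (j + 1)]
    rcases (show r = 3 ∨ r = 4 ∨ 5 ≤ r by omega) with rfl | rfl | hr5
    · rcases j with _ | j
      · rcases (show a = 2 ∨ 3 ≤ a by omega) with h | h
        · exact Or.inr (Or.inr (Or.inl ⟨rfl, rfl, h⟩))
        · left
          refine suff ?_
          rw [hb, hTS, hS]
          norm_num
          exact le_trans (by norm_num : _ ≤ ((3 : ℕ) ^ 3) ^ 2)
            (Nat.pow_le_pow_left (Nat.pow_le_pow_left h 3) 2)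
      · left
        refine suff ?_
        have hS9 : 9 ≤ S := by
          rw [hS]
          exact le_trans (by norm_num)
            (Nat.pow_le_pow_right (by norm_num) (show 2 ≤ j + 1 + 1 by omega))
        have key : ∀ k, 9 ≤ k → 2 * (3 * (2 * (2 * (k * 3)) + 1)) ≤ (2 ^ k) ^ 2 := by
          intro k hk
          induction k, hk using Nat.le_induction with
          | base => norm_num
          | succ k hk ih => rw [pow_succ 2 k, mul_pow]; nlinarith
        rw [hTS, hb]
        exact (key S hS9).trans (Nat.pow_le_pow_left (Nat.pow_le_pow_left ha S) 2)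
    · exact absurd hr (by norm_num)
    · left
      refine suff ?_
      have key : ∀ k, 5 ≤ k → 2 * (k * (2 * (2 * (k * k)) + 1)) ≤ (2 ^ k) ^ 4 := by
        intro k hk
        induction k, hk using Nat.le_induction with
        | base => norm_num
        | succ k hk ih =>
          rw [pow_succ 2 k, mul_pow]
          have h5 : 25 ≤ k * k := Nat.mul_le_mul hk hk
          nlinarith
      have h1 : T ≤ S * (2 * (2 * (S * S)) + 1) := by
        rw [hTS]
        refine Nat.mul_le_mul hSr ?_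
        have := Nat.mul_le_mul_left S hSr
        omega
      calc 2 * T ≤ 2 * (S * (2 * (2 * (S * S)) + 1)) := Nat.mul_le_mul_left _ h1
        _ ≤ (2 ^ S) ^ 4 := key S (hSr.trans' hr5)
        _ ≤ b ^ 4 := Nat.pow_le_pow_left (hb ▸ Nat.pow_le_pow_left ha S) 4
        _ ≤ b ^ (r - 1) := Nat.pow_le_pow_right (by omega) (by omega)

/-- A primitive prime has order `e`. -/
theorem orderOf_eq_of_primitive {q e p : ℕ} [Fact p.Prime] (hq : 1 ≤ q) (he : 0 < e)
    (hd : p ∣ q ^ e - 1) (hprim : ∀ i : ℕ, 1 ≤ i → i < e → ¬ p ∣ q ^ i - 1) :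
    orderOf (q : ZMod p) = e ∧ e ∣ p - 1 := by
  have h1 : (q : ZMod p) ^ e = 1 := by
    have h := (CharP.cast_eq_zero_iff (ZMod p) p _).2 hd
    rw [Nat.cast_sub (Nat.one_le_pow _ _ hq), Nat.cast_pow, Nat.cast_one, sub_eq_zero] at h
    exact h
  have hpos : 0 < orderOf (q : ZMod p) := Nat.pos_of_dvd_of_pos (orderOf_dvd_of_pow_eq_one h1) he
  have hord : orderOf (q : ZMod p) = e := by
    refine le_antisymm (Nat.le_of_dvd he (orderOf_dvd_of_pow_eq_one h1)) ?_
    by_contra hlt
    refine hprim _ hpos (not_le.1 hlt) ((CharP.cast_eq_zero_iff (ZMod p) p _).1 ?_)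
    rw [Nat.cast_sub (Nat.one_le_pow _ _ hq), Nat.cast_pow, Nat.cast_one, pow_orderOf_eq_one,
      sub_self]
  refine ⟨hord, hord ▸ ZMod.orderOf_dvd_card_sub_one fun h0 => ?_⟩
  rw [h0, orderOf_zero] at hord
  omega

/-- In the exceptional cases. -/
theorem le_of_exception {q e M : ℕ} (h : q ^ e - 1 ∣ M * ∏ i ∈ Finset.Ico 1 e, (q ^ i - 1))
    (hM : M ≤ 2 * e + 1) (hM0 : 0 < M) (m : ℕ) (hm : m ∣ q ^ e - 1)
    (hco : ∀ i : ℕ, 1 ≤ i → i < e → Nat.Coprime m (q ^ i - 1)) : m ≤ 2 * e + 1 :=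
  (Nat.le_of_dvd hM0 (Nat.Coprime.dvd_of_dvd_mul_right (Nat.Coprime.prod_right fun i hi =>
    hco i (Finset.mem_Ico.1 hi).1 (Finset.mem_Ico.1 hi).2) (hm.trans h))).trans hM

/-- A large primitive divisor outside the exceptions. -/
theorem exists_large {q e : ℕ} (hq : IsPrimePow q) (he : 3 ≤ e)
    (hnot : (q, e) ∉ [(2, 6), (2, 4), (2, 10), (2, 12), (2, 18), (3, 4), (3, 6), (5, 6), (2, 3), (2, 8), (2, 20), (4, 3), (4, 6)]) :
    ∃ m : ℕ, m ∣ q ^ e - 1 ∧ (∀ i : ℕ, 1 ≤ i → i < e → Nat.Coprime m (q ^ i - 1)) ∧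
      3 * e + 1 ≤ m := by
  have hq2 : 2 ≤ q := hq.one_lt
  have hne : ∀ a b : ℕ, (a, b) ∈ [(2, 6), (2, 4), (2, 10), (2, 12), (2, 18), (3, 4), (3, 6), (5, 6), (2, 3), (2, 8), (2, 20), (4, 3), (4, 6)] →
      ¬ (q = a ∧ e = b) := fun a b hab h => hnot (by rw [h.1, h.2]; exact hab)
  by_contra hno
  push Not at hno
  have hco : ∀ p : ℕ, p.Prime → (∀ i : ℕ, 1 ≤ i → i < e → ¬ p ∣ q ^ i - 1) →
      ∀ i : ℕ, 1 ≤ i → i < e → Nat.Coprime p (q ^ i - 1) := fun p hp h i hi hie =>
    hp.coprime_iff_not_dvd.2 (h i hi hie)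
  have hwit : ∀ w : ℕ, w ∣ q ^ e - 1 → (∀ i ∈ Finset.Ico 1 e, Nat.Coprime w (q ^ i - 1)) →
      ¬ 3 * e + 1 ≤ w := fun w h1 h2 h3 => absurd h3
        (not_le.2 (hno w h1 fun i hi hie => h2 i (Finset.mem_Ico.2 ⟨hi, hie⟩)))
  obtain ⟨p, hp, hpd, hprim, hlarge⟩ := exists_large_primitive_prime_divisor q e hq2 (by omega)
    (fun h => by omega)
    (fun h => by
      rcases h with ⟨h', h | h | h | h | h⟩ <;>
        exact hne 2 _ (by simp) ⟨h', h⟩)
    (fun h => by rcases h with ⟨h', h | h⟩ <;> exact hne 3 _ (by simp) ⟨h', h⟩)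
    (fun h => hne 5 6 (by simp) h)
  haveI := Fact.mk hp
  obtain ⟨hord, hdiv⟩ := orderOf_eq_of_primitive (by omega) (by omega) hpd hprim
  have hple : e + 1 ≤ p := by
    have := Nat.le_of_dvd (by have := hp.two_le; omega) hdiv
    omega
  have hpsq : ¬ p ^ 2 ∣ q ^ e - 1 := fun h => by
    have h1 := hno (p ^ 2) h fun i hi hie => (hco p hp hprim i hi hie).pow_left 2
    nlinarith
  have hlarge' : e + 1 < p := hlarge.resolve_right hpsq
  obtain ⟨c, hc⟩ := hdiv
  have hp3 : p < 3 * e + 1 := hno p hpd (hco p hp hprim)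
  have hpe : p = 2 * e + 1 := by
    rcases (show c = 0 ∨ c = 1 ∨ c = 2 ∨ 3 ≤ c by omega) with rfl | rfl | rfl | hc3
    · omega
    · omega
    · omega
    · have := Nat.mul_le_mul_left e hc3
      omega
  -- every primitive prime is `p`
  have honly : ∀ d : ℕ, d.Prime → d ∣ q ^ e - 1 → (∀ i : ℕ, 1 ≤ i → i < e → ¬ d ∣ q ^ i - 1) →
      d = p := by
    intro d hd hdd hdprim
    haveI := Fact.mk hd
    by_contra hdp
    obtain ⟨-, hdiv'⟩ := orderOf_eq_of_primitive (by omega) (by omega) hdd hdprim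
    have hdle := Nat.le_of_dvd (by have := hd.two_le; omega) hdiv'
    have h1 := hno (d * p)
      (((Nat.coprime_primes hd hp).2 hdp).mul_dvd_of_dvd_of_dvd hdd hpd)
      fun i hi hie => Nat.Coprime.mul_left (hco d hd hdprim i hi hie) (hco p hp hprim i hi hie)
    have h2 : 4 * p ≤ d * p := Nat.mul_le_mul_right _ (by omega)
    omega
  set N := (phiVal e q).natAbs with hN
  have hNpos : (0 : ℤ) < phiVal e q := Polynomial.cyclotomic_pos' e (by exact_mod_cast hq2)
  have hN' : (N : ℤ) = phiVal e q := Int.natAbs_of_nonneg hNpos.le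
  have hcast : ∀ d : ℕ, d ∣ N → (d : ℤ) ∣ phiVal e q := fun d hd =>
    hN' ▸ Int.natCast_dvd_natCast.2 hd
  -- the two kinds of prime divisors of `Φ_e(q)`
  have kind : ∀ d : ℕ, d.Prime → (d : ℤ) ∣ phiVal e q →
      d = p ∨ ∃ j m, e = d ^ (j + 1) * m ∧ ¬ d ∣ m ∧ orderOf (q : ZMod d) = m ∧ m ∣ d - 1 := by
    intro d hd hdd
    haveI := Fact.mk hd
    obtain ⟨j, m, hem, hm, ho⟩ := orderOf_of_dvd_phiVal (by omega) hdd
    rcases j with _ | j
    · left
      rw [pow_zero, one_mul] at hem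
      refine honly d hd (natCast_dvd_sub_one (by omega) hdd) fun i hi hie hdi => ?_
      have h := orderOf_lt_of_not_primitive (a := q) (n := e) (r := d) (by omega)
        ⟨i, hi, hie, hdi⟩
      omega
    · refine Or.inr ⟨j, m, hem, hm, ho, ho ▸ ZMod.orderOf_dvd_card_sub_one fun h0 => ?_⟩
      rw [h0, orderOf_zero] at ho
      exact hm (ho ▸ dvd_zero d)
  have hne_p : ∀ d j m : ℕ, e = d ^ (j + 1) * m → d ≠ p := fun d j m hem h => by
    have h1 : d ∣ e := hem ▸ (dvd_pow_self d (Nat.succ_ne_zero j)).mul_right m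
    have := Nat.le_of_dvd (by omega) h1
    omega
  have hpsq' : ¬ p ^ 2 ∣ N := fun h => hpsq (natCast_dvd_sub_one (by omega) (hcast _ h))
  by_cases htwo : ∃ k, e = 2 ^ k
  · obtain ⟨k, hk⟩ := htwo
    obtain ⟨i, rfl⟩ : ∃ i, k = i + 2 := ⟨k - 2, by
      rcases k with _ | _ | k
      · simp at hk; omega
      · simp at hk; omega
      · omega⟩
    subst hk
    set y : ℤ := (q : ℤ) ^ 2 ^ i with hy
    have hval : phiVal (2 ^ (i + 2)) q = y ^ 2 + 1 := by
      rw [phiVal, Polynomial.cyclotomic_prime_pow_eq_geom_sum Nat.prime_two]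
      simp only [Finset.sum_range_succ, Finset.sum_range_zero, zero_add, pow_zero, pow_one,
        Polynomial.eval_add, Polynomial.eval_one, Polynomial.eval_pow, Polynomial.eval_X]
      rw [hy, pow_succ 2 i, pow_mul]
      ring
    have hdvd : N ∣ 2 * p := by
      refine (Nat.dvd_iff_prime_pow_dvd_dvd _ _).2 fun d k hd hdk => ?_
      rcases k with _ | k
      · simp
      have hdN : d ∣ N := (dvd_pow_self d (Nat.succ_ne_zero k)).trans hdk
      have hk0 : 1 ≤ k → d ^ 2 ∣ N := fun h => (pow_dvd_pow d (by omega)).trans hdk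
      rcases kind d hd (hcast d hdN) with rfl | ⟨j, m, hem, -, -, -⟩
      · have : k = 0 := by by_contra hk1; exact hpsq' (hk0 (by omega))
        subst this
        simp
      · have hd2 : d = 2 := by
          have h : d ∣ 2 ^ (i + 2) := hem ▸ (dvd_pow_self d (Nat.succ_ne_zero j)).mul_right m
          exact (Nat.prime_dvd_prime_iff_eq hd Nat.prime_two).1 (hd.dvd_of_dvd_pow h)
        subst hd2
        have hkz : k = 0 := by
          by_contra hk1
          have h4' : (4 : ℤ) ∣ y ^ 2 + 1 := by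
            rw [← hval, ← hN']
            exact_mod_cast hk0 (by omega)
          have h5 := (ZMod.intCast_zmod_eq_zero_iff_dvd _ 4).2 h4'
          push_cast at h5
          revert h5
          generalize (y : ZMod 4) = z
          revert z
          decide
        subst hkz
        simp
    have hle := Nat.le_of_dvd (by omega) hdvd
    have hNval : N = (q ^ 2 ^ i) ^ 2 + 1 := by
      have : (N : ℤ) = (((q ^ 2 ^ i) ^ 2 + 1 : ℕ) : ℤ) := by
        rw [hN', hval, hy]; push_cast; ring
      exact_mod_cast this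
    rw [hNval, ← pow_mul, ← pow_succ 2 i, hpe] at hle
    set u := 2 ^ (i + 1) with hu
    have hu2 : 2 ^ (i + 2) = 2 * u := by rw [hu, ← pow_succ']
    rw [hu2] at hle
    rcases i with _ | _ | i
    · -- `e = 4`
      have hu' : u = 2 := by rw [hu]; norm_num
      rw [hu'] at hle
      rcases (show q = 2 ∨ q = 3 ∨ q = 4 ∨ 5 ≤ q by omega) with rfl | rfl | rfl | h5
      · exact hne 2 4 (by simp) ⟨rfl, by norm_num⟩
      · exact hne 3 4 (by simp) ⟨rfl, by norm_num⟩
      · exact absurd (hpe ▸ hp) (by norm_num)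
      · nlinarith
    · -- `e = 8`
      have hu' : u = 4 := by rw [hu]; norm_num
      rw [hu'] at hle
      rcases (show q = 2 ∨ 3 ≤ q by omega) with rfl | h3
      · exact hne 2 8 (by simp) ⟨rfl, by norm_num⟩
      · have := Nat.pow_le_pow_left h3 4
        omega
    · have hu8 : 8 ≤ u := le_trans (by norm_num : 8 ≤ 2 ^ 3)
        (Nat.pow_le_pow_right two_pos (show 3 ≤ i + 1 + 1 + 1 by omega))
      have key : ∀ k, 8 ≤ k → 8 * k + 2 < 2 ^ k := by
        intro k hk
        induction k, hk using Nat.le_induction with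
        | base => norm_num
        | succ k hk ih => rw [pow_succ]; omega
      have h2u : 2 ^ u ≤ q ^ u := Nat.pow_le_pow_left hq2 u
      have := key u hu8
      omega
  -- `e` has an odd prime divisor
  obtain ⟨r, hr, hr3, j, m, hem, hm, hdvd⟩ : ∃ r, r.Prime ∧ 3 ≤ r ∧ ∃ j m,
      e = r ^ (j + 1) * m ∧ ¬ r ∣ m ∧ N ∣ r * p := by
    have hsel : ∀ r : ℕ, r.Prime → 3 ≤ r → r ∣ e → (∀ d : ℕ, d.Prime → d ∣ N → d = r ∨ d = p) →
        (r ∣ N → orderOf (q : ZMod r) ∣ e / r) →
        ∃ r, r.Prime ∧ 3 ≤ r ∧ ∃ j m, e = r ^ (j + 1) * m ∧ ¬ r ∣ m ∧ N ∣ r * p := by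
      intro r hr hr3 hre honly' hord'
      haveI := Fact.mk hr
      obtain ⟨k, m, hm, hkm⟩ := Nat.exists_eq_pow_mul_and_not_dvd (show e ≠ 0 by omega) r hr.ne_one
      obtain ⟨j, rfl⟩ : ∃ j, k = j + 1 := ⟨k - 1, by
        rcases k with _ | k
        · rw [pow_zero, one_mul] at hkm
          exact absurd (hkm ▸ hre) hm
        · omega⟩
      refine ⟨r, hr, hr3, j, m, hkm, hm, (Nat.dvd_iff_prime_pow_dvd_dvd _ _).2 fun d k hd hdk => ?_⟩
      rcases k with _ | k
      · simp
      have hdN : d ∣ N := (dvd_pow_self d (Nat.succ_ne_zero k)).trans hdk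
      have hk0 : k = 0 := by
        by_contra hk1
        have hd2 : d ^ 2 ∣ N := (pow_dvd_pow d (show 2 ≤ k + 1 by omega)).trans hdk
        rcases honly' d hd hdN with rfl | rfl
        · refine not_sq_dvd_phiVal (hr.odd_of_ne_two (by omega)) (by omega) hre (by omega)
            (hord' hdN) ?_
          exact_mod_cast hcast _ hd2
        · exact hpsq' hd2
      subst hk0
      rw [zero_add, pow_one]
      rcases honly' d hd hdN with rfl | rfl
      · exact dvd_mul_right _ _
      · exact dvd_mul_left _ _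
    by_cases hex : ∃ d, d.Prime ∧ d ∣ N ∧ d ≠ p
    · obtain ⟨d, hd, hdN, hdp⟩ := hex
      obtain ⟨j, m, hem, hm, ho, hm1⟩ := (kind d hd (hcast d hdN)).resolve_left hdp
      have hd3 : 3 ≤ d := by
        by_contra hlt
        obtain rfl : d = 2 := by have := hd.two_le; omega
        obtain rfl : m = 1 := Nat.dvd_one.1 (by simpa using hm1)
        exact htwo ⟨j + 1, by rw [hem, mul_one]⟩
      refine hsel d hd hd3 (hem ▸ (dvd_pow_self d (Nat.succ_ne_zero j)).mul_right m) ?_ fun _ => ?_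
      · intro c hc' hcN
        rcases kind c hc' (hcast c hcN) with h | ⟨j', m', hem', -, -, hm1'⟩
        · exact Or.inr h
        left
        by_contra hcd
        have hcm : c ∣ m := by
          have h : c ∣ d ^ (j + 1) * m :=
            hem ▸ hem' ▸ (dvd_pow_self c (Nat.succ_ne_zero j')).mul_right m'
          exact ((hc'.dvd_mul).1 h).resolve_left fun h' =>
            hcd ((Nat.prime_dvd_prime_iff_eq hc' hd).1 (hc'.dvd_of_dvd_pow h'))
        have hdm : d ∣ m' := by
          have h : d ∣ c ^ (j' + 1) * m' :=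
            hem' ▸ hem ▸ (dvd_pow_self d (Nat.succ_ne_zero j)).mul_right m
          exact ((hd.dvd_mul).1 h).resolve_left fun h' =>
            hcd ((Nat.prime_dvd_prime_iff_eq hd hc').1 (hd.dvd_of_dvd_pow h')).symm
        have h1 := Nat.le_of_dvd (by omega) (hcm.trans hm1)
        have h2 := Nat.le_of_dvd (by have := hc'.two_le; omega) (hdm.trans hm1')
        have := hc'.two_le
        omega
      · rw [ho, hem, pow_succ', mul_assoc, Nat.mul_div_cancel_left _ hd.pos]
        exact dvd_mul_left m _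
    · push Not at hex
      obtain ⟨k, l, hl, hkl⟩ := Nat.exists_eq_pow_mul_and_not_dvd (show e ≠ 0 by omega) 2 (by norm_num)
      have hl1 : l ≠ 1 := fun h => htwo ⟨k, by rw [hkl, h, mul_one]⟩
      obtain ⟨r, hr, hrl⟩ := Nat.exists_prime_and_dvd hl1
      have hr3 : 3 ≤ r := by
        by_contra hlt
        obtain rfl : r = 2 := by have := hr.two_le; omega
        exact hl hrl
      have hre : r ∣ e := hkl ▸ hrl.mul_left _
      refine hsel r hr hr3 hre (fun d hd hdN => Or.inr (hex d hd hdN)) fun hrN => ?_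
      have h := hex r hr hrN
      exact absurd (Nat.le_of_dvd (by omega) hre) (by omega)
  have hNle : N ≤ r * p := Nat.le_of_dvd (Nat.mul_pos hr.pos hp.pos) hdvd
  have hbound : ((q ^ r ^ j) ^ r - 1) ^ Nat.totient m ≤
      r * ((2 * r ^ (j + 1)) * m + 1) * (q ^ r ^ j + 1) ^ Nat.totient m := by
    refine (pow_le_phiVal_mul hr hm (by omega)).trans (Nat.mul_le_mul_right _ ?_)
    rw [← hem, ← hN, mul_assoc, ← hem, ← hpe]
    exact hNle
  have hm0 : m ≠ 0 := fun h => hm (h ▸ dvd_zero r)
  have hprime : (2 * (r ^ (j + 1) * m) + 1).Prime := hem ▸ hpe ▸ hp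
  rcases criterion hq2 hr hr3 (j := j) with ⟨hc4, hcr⟩ | hs | hs | hs | hs
  · exact absurd hbound (not_le.2 (contra_of_criterion
      (Nat.totient_pos.2 (Nat.pos_of_ne_zero hm0)) (by omega) (le_two_mul_totient_sq m) hc4 hcr))
  · obtain ⟨rfl, rfl, hq6⟩ := hs
    simp only [zero_add, pow_zero, pow_one] at hbound hem hprime
    rcases (show q = 2 ∨ q = 3 ∨ q = 4 ∨ q = 5 ∨ q = 6 by omega) with rfl | rfl | rfl | rfl | rfl
    · have hml := m_le (k := 9) (grow (by norm_num) (by norm_num) (by norm_num)) hbound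
      have hlist : ∀ m ∈ Finset.range (2 * 9 ^ 2 + 1), ¬ 3 ∣ m →
          (2 ^ 3 - 1) ^ Nat.totient m ≤ 3 * (2 * 3 * m + 1) * (2 + 1) ^ Nat.totient m →
          m = 0 ∨ m = 1 ∨ m = 2 ∨ m = 4 ∨ m = 5 ∨ m = 8 ∨ m = 10 ∨ m = 14 := by decide +kernel
      rcases hlist m (Finset.mem_range.2 (Nat.lt_succ_of_le hml)) hm hbound with
        rfl | rfl | rfl | rfl | rfl | rfl | rfl | rfl
      · exact hm0 rfl
      · exact hne 2 3 (by simp) ⟨rfl, by omega⟩
      · exact hne 2 6 (by simp) ⟨rfl, by omega⟩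
      · exact absurd hprime (by norm_num)
      · subst hem
        exact hwit 151 (by decide +kernel) (by decide +kernel) (by norm_num)
      · exact absurd hprime (by norm_num)
      · subst hem
        exact hwit 331 (by decide +kernel) (by decide +kernel) (by norm_num)
      · exact absurd hprime (by norm_num)
    · have hml := m_le (k := 3) (grow (by norm_num) (by norm_num) (by norm_num)) hbound
      have hlist : ∀ m ∈ Finset.range (2 * 3 ^ 2 + 1), ¬ 3 ∣ m →
          (3 ^ 3 - 1) ^ Nat.totient m ≤ 3 * (2 * 3 * m + 1) * (3 + 1) ^ Nat.totient m →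
          m = 0 ∨ m = 1 ∨ m = 2 ∨ m = 4 := by decide +kernel
      rcases hlist m (Finset.mem_range.2 (Nat.lt_succ_of_le hml)) hm hbound with rfl | rfl | rfl | rfl
      · exact hm0 rfl
      · subst hem
        exact hwit 13 (by decide +kernel) (by decide +kernel) (by norm_num)
      · exact hne 3 6 (by simp) ⟨rfl, by omega⟩
      · exact absurd hprime (by norm_num)
    · have hml := m_le (k := 1) (grow le_rfl (by norm_num) (by norm_num)) hbound
      rcases (show m = 1 ∨ m = 2 by omega) with rfl | rfl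
      · exact hne 4 3 (by simp) ⟨rfl, by omega⟩
      · exact hne 4 6 (by simp) ⟨rfl, by omega⟩
    · have hml := m_le (k := 1) (grow le_rfl (by norm_num) (by norm_num)) hbound
      rcases (show m = 1 ∨ m = 2 by omega) with rfl | rfl
      · subst hem
        exact hwit 31 (by decide +kernel) (by decide +kernel) (by norm_num)
      · exact hne 5 6 (by simp) ⟨rfl, by omega⟩
    · obtain ⟨P, k, hP, hk, hPk⟩ := (isPrimePow_nat_iff _).1 hq
      have h2 : 2 ∣ P := Nat.prime_two.dvd_of_dvd_pow (hPk ▸ by norm_num : 2 ∣ P ^ k)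
      have h3 : 3 ∣ P := Nat.prime_three.dvd_of_dvd_pow (hPk ▸ by norm_num : 3 ∣ P ^ k)
      rw [← (Nat.prime_dvd_prime_iff_eq Nat.prime_two hP).1 h2] at h3
      norm_num at h3
  · obtain ⟨rfl, rfl, rfl⟩ := hs
    norm_num at hbound hem
    have hml := m_le (B := 511) (C := 9) (r := 3) (R := 18) (k := 1)
      (grow le_rfl (by norm_num) (by norm_num)) hbound
    rcases (show m = 1 ∨ m = 2 by omega) with rfl | rfl
    · norm_num at hem
      subst hem
      exact hwit 73 (by decide +kernel) (by decide +kernel) (by norm_num)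
    · exact hne 2 18 (by simp) ⟨rfl, by omega⟩
  · obtain ⟨rfl, rfl, hq3⟩ := hs
    simp only [zero_add, pow_zero, pow_one] at hbound hem hprime
    rcases (show q = 2 ∨ q = 3 by omega) with rfl | rfl
    · have hml := m_le (k := 2) (grow (by norm_num) (by norm_num) (by norm_num)) hbound
      rcases (show m = 1 ∨ m = 2 ∨ m = 3 ∨ m = 4 ∨ m = 5 ∨ m = 6 ∨ m = 7 ∨ m = 8 by omega) with
        rfl | rfl | rfl | rfl | rfl | rfl | rfl | rfl
      · subst hem
        exact hwit 31 (by decide +kernel) (by decide +kernel) (by norm_num)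
      · exact absurd hprime (by norm_num)
      · subst hem
        exact hwit 151 (by decide +kernel) (by decide +kernel) (by norm_num)
      · exact hne 2 20 (by simp) ⟨rfl, by omega⟩
      · exact hm (dvd_refl 5)
      · subst hem
        exact hwit 331 (by decide +kernel) (by decide +kernel) (by norm_num)
      · exact absurd hbound (by decide +kernel)
      · exact absurd hbound (by decide +kernel)
    · have hml := m_le (k := 1) (grow le_rfl (by norm_num) (by norm_num)) hbound
      rcases (show m = 1 ∨ m = 2 by omega) with rfl | rfl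
      · exact absurd hbound (by decide +kernel)
      · exact absurd hprime (by norm_num)
  · obtain ⟨rfl, rfl, rfl⟩ := hs
    simp only [zero_add, pow_zero, pow_one] at hbound hem hprime
    have hml := m_le (k := 1) (grow le_rfl (by norm_num) (by norm_num)) hbound
    rcases (show m = 1 ∨ m = 2 by omega) with rfl | rfl
    · exact absurd hprime (by norm_num)
    · subst hem
      exact hwit 43 (by decide +kernel) (by decide +kernel) (by norm_num)

/-- Size of the primitive part of `q^e - 1`. For a prime power `q` and `e ≥ 3`, call a divisor of `q^e - 1` primitive when it is coprime to `q^i - 1` for every `1 ≤ i < e`; the primitive part is the largest primitive divisor. Apart from thirteen exceptional pairs, the primitive part is at least `3e + 1`: there is a primitive divisor `m ≥ 3e + 1` unless `(q, e)` is `(2, 6)` (where every primitive divisor is 1), one of `(2,4), (2,10), (2,12), (2,18), (3,4), (3,6), (5,6)` (where the primitive part is exactly `e + 1`), or one of `(2,3),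 (2,8), (2,20), (4,3), (4,6)` (where it is exactly `2e + 1`). The statement asserts the existence of a primitive divisor `m ≥ 3e + 1` outside the thirteen pairs, and that every primitive divisor is at most `2e + 1` for the thirteen pairs. -/
theorem result (q e : ℕ) (hq : IsPrimePow q) (he : 3 ≤ e) :
    ((q, e) ∉ [(2, 6), (2, 4), (2, 10), (2, 12), (2, 18), (3, 4), (3, 6), (5, 6), (2, 3), (2, 8), (2, 20), (4, 3), (4, 6)] →
      ∃ m : ℕ, m ∣ q ^ e - 1 ∧ (∀ i : ℕ, 1 ≤ i → i < e → Nat.Coprime m (q ^ i - 1)) ∧ 3 * e + 1 ≤ m) ∧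
    ((q, e) ∈ [(2, 6), (2, 4), (2, 10), (2, 12), (2, 18), (3, 4), (3, 6), (5, 6), (2, 3), (2, 8), (2, 20), (4, 3), (4, 6)] →
      ∀ m : ℕ, m ∣ q ^ e - 1 → (∀ i : ℕ, 1 ≤ i → i < e → Nat.Coprime m (q ^ i - 1)) → m ≤ 2 * e + 1) := by
  refine ⟨exists_large hq he, fun hmem => ?_⟩
  simp only [List.mem_cons, List.not_mem_nil, or_false, Prod.mk.injEq] at hmem
  rcases hmem with ⟨rfl, rfl⟩ | ⟨rfl, rfl⟩ | ⟨rfl, rfl⟩ | ⟨rfl, rfl⟩ | ⟨rfl, rfl⟩ | ⟨rfl, rfl⟩ |
    ⟨rfl, rfl⟩ | ⟨rfl, rfl⟩ | ⟨rfl, rfl⟩ | ⟨rfl, rfl⟩ | ⟨rfl, rfl⟩ | ⟨rfl, rfl⟩ | ⟨rfl, rfl⟩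
  · exact le_of_exception (M := 1) (by decide +kernel) (by norm_num) (by norm_num)
  · exact le_of_exception (M := 5) (by decide +kernel) (by norm_num) (by norm_num)
  · exact le_of_exception (M := 11) (by decide +kernel) (by norm_num) (by norm_num)
  · exact le_of_exception (M := 13) (by decide +kernel) (by norm_num) (by norm_num)
  · exact le_of_exception (M := 19) (by decide +kernel) (by norm_num) (by norm_num)
  · exact le_of_exception (M := 5) (by decide +kernel) (by norm_num) (by norm_num)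
  · exact le_of_exception (M := 7) (by decide +kernel) (by norm_num) (by norm_num)
  · exact le_of_exception (M := 7) (by decide +kernel) (by norm_num) (by norm_num)
  · exact le_of_exception (M := 7) (by decide +kernel) (by norm_num) (by norm_num)
  · exact le_of_exception (M := 17) (by decide +kernel) (by norm_num) (by norm_num)
  · exact le_of_exception (M := 41) (by decide +kernel) (by norm_num) (by norm_num)
  · exact le_of_exception (M := 7) (by decide +kernel) (by norm_num) (by norm_num)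
  · exact le_of_exception (M := 13) (by decide +kernel) (by norm_num) (by norm_num)

end Cfsg.Agent.S4423
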