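import Cfsg.Statements.S4425
import Cfsg.Agent.Lib.Char.PRegular
import Cfsg.Agent.Lib.Char.KernelSum
-- import your own Cfsg.Agent.* helpers here

set_option autoImplicit false
open Cfsg

namespace Cfsg.Agent.S4425

/-- Let χ be an irreducible character of the finite group G, p a prime, p^a the p-part of the order of G and p^b the p-part of the degree χ(1). Let χ̃ be the class function equal to p^a · χ on p-regular elements and zero on p-singular elements. Then p^(−b) · χ̃ is a generalized character of G, while p^(−(b+1)) · χ̃ is not. -/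
theorem result {G : Type*} [Group G] [Finite G] (p : ℕ) [Fact p.Prime] (χ : Cfsg.IrrCharacter G) : Cfsg.IsGeneralizedCharacter G (fun x : G => if p ∣ orderOf x then (0 : ℂ) else ((p ^ ((Nat.card G).factorization p - (Cfsg.charDegree (χ : G → ℂ)).factorization p) : ℕ) : ℂ) * (χ : G → ℂ) x) ∧ ¬ Cfsg.IsGeneralizedCharacter G (fun x : G => if p ∣ orderOf x then (0 : ℂ) else ((p ^ (Nat.card G).factorization p : ℕ) : ℂ) / ((p ^ ((Cfsg.charDegree (χ : G → ℂ)).factorization p + 1) : ℕ) : ℂ) * (χ : G → ℂ) x) := by
  classical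
  haveI := Fintype.ofFinite G
  have hp : p.Prime := Fact.out
  rw [Char.charDegree_eq_degree]
  refine ⟨?_, fun h => ?_⟩
  · have h := Char.isGeneralizedCharacter_pPow_sub_smul_regFun hp χ
    convert h using 1
    funext x
    simp only [Char.regFun, Pi.smul_apply, smul_eq_mul]
    split_ifs <;> simp
  · obtain ⟨z, hz⟩ := Char.exists_int_apply_one_eq_pPow_mul hp h (fun x hx => by simp [hx])
    simp only [orderOf_one, Nat.dvd_one, hp.ne_one, if_false, Char.apply_one_eq_degree] at hz
    set b := (Char.degree χ).factorization p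
    set a := (Nat.card G).factorization p
    have hpa : ((p ^ a : ℕ) : ℂ) ≠ 0 := Nat.cast_ne_zero.2 (pow_ne_zero _ hp.ne_zero)
    have hpb : ((p ^ (b + 1) : ℕ) : ℂ) ≠ 0 := Nat.cast_ne_zero.2 (pow_ne_zero _ hp.ne_zero)
    rw [div_mul_eq_mul_div, div_eq_iff hpb, mul_assoc, mul_right_inj' hpa] at hz
    have hz' : ((Char.degree χ : ℤ)) = z * ((p ^ (b + 1) : ℕ) : ℤ) := by exact_mod_cast hz
    have : p ^ (b + 1) ∣ Char.degree χ := Int.natCast_dvd_natCast.1 (Dvd.intro_left z hz'.symm)
    rw [hp.pow_dvd_iff_le_factorization (Char.degree_pos χ).ne'] at this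
    omega

end Cfsg.Agent.S4425
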