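import Cfsg.Statements.S4426
import Cfsg.Agent.Lib.Char.HeightZero
-- import your own Cfsg.Agent.* helpers here

set_option autoImplicit false
open Cfsg

namespace Cfsg.Agent.S4426

/-- Let χ be an irreducible character in the p-block B of the finite group G (relative to a maximal ideal M of the algebraic integers containing p), let p^a be the p-part of the order of G, and let χ̃ be the class function equal to p^a · χ on p-regular elements and zero elsewhere. For ξ ∈ B the inner product [χ̃, ξ] is an integer. The following are equivalent: (a) χ has height zero in B; (b) for some ξ ∈ B the integer [χ̃, ξ] is nonzero and the exact power of p dividing it equals the exact power of p dividing ξ(1); (c) the same holds for every ξ ∈ B. -/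
theorem result {G : Type*} [Group G] [Fintype G] (p : ℕ) [Fact p.Prime] (M : Ideal Cfsg.AlgInt) (hM : Cfsg.IsPModular p M) (B : Set (Cfsg.IrrCharacter G)) (hB : Cfsg.IsPBlock M B) (χ : Cfsg.IrrCharacter G) (hχ : χ ∈ B) : (Cfsg.blockHeight p B (χ : G → ℂ) = 0 ↔ ∃ ξ ∈ B, ∃ n : ℤ, Cfsg.classInner (fun x : G => if p ∣ orderOf x then (0 : ℂ) else ((p ^ (Nat.card G).factorization p : ℕ) : ℂ) * (χ : G → ℂ) x) (ξ : G → ℂ) = (n : ℂ) ∧ n ≠ 0 ∧ padicValInt p n = (Cfsg.charDegree (ξ : G → ℂ)).factorization p) ∧ (Cfsg.blockHeight p B (χ : G → ℂ) = 0 ↔ ∀ ξ ∈ B, ∃ n : ℤ, Cfsg.classInner (fun x : G => if p ∣ orderOf x then (0 : ℂ) else ((p ^ (Nat.card G).factorization p : ℕ) : ℂ) * (χ : G → ℂ) x) (ξ : G → ℂ) = (n : ℂ) ∧ n ≠ 0 ∧ padicValInt p n = (Cfsg.charDegree (ξ : G → ℂ)).factorization p) := by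
  have hp : p.Prime := Fact.out
  haveI := hM.2.1
  have heq : (fun x : G => if p ∣ orderOf x then (0 : ℂ) else
      ((p ^ (Nat.card G).factorization p : ℕ) : ℂ) * (χ : G → ℂ) x) =
      ((p ^ (Nat.card G).factorization p : ℕ) : ℂ) • Cfsg.Agent.Char.regFun p (χ : G → ℂ) := by
    funext x
    simp only [Pi.smul_apply, smul_eq_mul, Cfsg.Agent.Char.regFun]
    split_ifs <;> simp
  rw [heq]
  have key : ∀ ξ ∈ B, ∀ n : ℤ, Cfsg.Agent.Char.regInner p (χ : G → ℂ) (ξ : G → ℂ) = n →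
      (Cfsg.blockHeight p B (χ : G → ℂ) = 0 ↔
        n ≠ 0 ∧ padicValInt p n = (Cfsg.charDegree (ξ : G → ℂ)).factorization p) := by
    intro ξ hξ n hn
    rw [Cfsg.Agent.Blocks.charDegree_eq ξ]
    exact Cfsg.Agent.Char.blockHeight_eq_zero_iff_padicValInt hM.2.2 hp hB hχ hξ hn
  refine ⟨⟨fun h => ?_, ?_⟩, ⟨fun h ξ hξ => ?_, fun h => ?_⟩⟩
  · obtain ⟨n, hn⟩ := Cfsg.Agent.Char.exists_int_regInner (p := p) hp χ χ
    exact ⟨χ, hχ, n, hn, (key χ hχ n hn).1 h⟩
  · rintro ⟨ξ, hξ, n, hn, h⟩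
    exact (key ξ hξ n hn).2 h
  · obtain ⟨n, hn⟩ := Cfsg.Agent.Char.exists_int_regInner (p := p) hp χ ξ
    exact ⟨n, hn, (key ξ hξ n hn).1 h⟩
  · obtain ⟨n, hn, h'⟩ := h χ hχ
    exact (key χ hχ n hn).2 h'

end Cfsg.Agent.S4426
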