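import Cfsg.Statements.S4435
import Cfsg.Agent.Lib.BlocksX.FongReynolds


set_option autoImplicit false
open Cfsg

namespace Cfsg.Agent.S4435

theorem stabData {G : Type*} [Group G] [Fintype G] {M : Ideal Cfsg.AlgInt} (N : Subgroup G) [hN : N.Normal]
    {b : Set (Cfsg.IrrCharacter N)} (hb : Cfsg.IsPBlock M b) (T : Subgroup G)
    (hT : ∀ g : G, g ∈ T ↔ ∀ θ ∈ b, ∀ θ' : Cfsg.IrrCharacter N, (∀ n : N, (θ' : N → ℂ) n =
      (θ : N → ℂ) ⟨g * n * g⁻¹, hN.conj_mem n n.2 g⟩) → θ' ∈ b) (hNT : N ≤ T) :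
    Cfsg.Agent.BlocksX.StabData M N T b := by
  refine ⟨hNT, hb, fun g => (hT g).trans ⟨fun h θ hθ => h θ hθ _ fun n => ?_,
    fun h θ hθ θ' h' => ?_⟩⟩
  · exact congrArg θ.1 (Subtype.ext (MulAut.conjNormal_apply g n))
  · have e : θ' = Cfsg.Agent.Char.conjChar N θ g := Subtype.ext (funext fun n => (h' n).trans
      (congrArg θ.1 (Subtype.ext (MulAut.conjNormal_apply g n).symm)))
    rw [e]
    exact h θ hθ


/-- Let N be a normal subgroup of the finite group G, b a block of N (relative to a maximal ideal M of the algebraic integers containing p), and T the stabilizer of b in G (the elements g such that conjugating any member of b by g gives a member of b); N ≤ T. Say that a block of T (or of G) covers b when some member has a constituent in b on restriction to N. Then: (i) every block B′ of T covering b induces a block B of G, B covers b, every ψ ∈ B′ induces to an irreducible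 character of G, and B consists exactly of the characters induced from members of B′; (ii) distinct blocks of T covering b induce distinct blocks of G; (iii) every block of G covering b is induced by some block of T covering b. -/
theorem result {G : Type*} [Group G] [Fintype G] (p : ℕ) [Fact p.Prime] (M : Ideal Cfsg.AlgInt) (hM : Cfsg.IsPModular p M) (N : Subgroup G) [hN : N.Normal] [Fintype N] (b : Set (Cfsg.IrrCharacter N)) (hb : Cfsg.IsPBlock M b) (T : Subgroup G) [Fintype T] (hT : ∀ g : G, g ∈ T ↔ ∀ θ ∈ b, ∀ θ' : Cfsg.IrrCharacter N, (∀ n : N, (θ' : N → ℂ) n = (θ : N → ℂ) ⟨g * n * g⁻¹, hN.conj_mem n n.2 g⟩) → θ' ∈ b) (hNT : N ≤ T) : (∀ B' : Set (Cfsg.IrrCharacter T), Cfsg.IsPBlock M B' → (∃ ψ ∈ B', ∃ θ ∈ b, Cfsg.classInner (fun n : N => (ψ : T → ℂ) ⟨(n : G), hNT n.2⟩) (θ : N → ℂ) ≠ 0) → ∃ B : Set (Cfsg.IrrCharacter G), Cfsg.IsInducedBlock M T B' B ∧ (∃ χ ∈ B, ∃ θ ∈ b, Cfsg.classInner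 (fun n : N => (χ : G → ℂ) n) (θ : N → ℂ) ≠ 0) ∧ (∀ ψ ∈ B', Cfsg.IsIrrCharacter G (Cfsg.indFun T (ψ : T → ℂ))) ∧ ∀ χ : Cfsg.IrrCharacter G, χ ∈ B ↔ ∃ ψ ∈ B', (χ : G → ℂ) = Cfsg.indFun T (ψ : T → ℂ)) ∧ (∀ B'₁ B'₂ : Set (Cfsg.IrrCharacter T), Cfsg.IsPBlock M B'₁ → Cfsg.IsPBlock M B'₂ → (∃ ψ ∈ B'₁, ∃ θ ∈ b, Cfsg.classInner (fun n : N => (ψ : T → ℂ) ⟨(n : G), hNT n.2⟩) (θ : N → ℂ) ≠ 0) → (∃ ψ ∈ B'₂, ∃ θ ∈ b, Cfsg.classInner (fun n : N => (ψ : T → ℂ) ⟨(n : G), hNT n.2⟩) (θ : N → ℂ) ≠ 0) → ∀ B : Set (Cfsg.IrrCharacter G), Cfsg.IsInducedBlock M T B'₁ B → Cfsg.IsInducedBlock M T B'₂ B → B'₁ = B'₂) ∧ (∀ B : Set (Cfsg.IrrCharacter G), Cfsg.IsPBlock M B → (∃ χ ∈ B, ∃ θ ∈ b, Cfsg.classInner (fun n : N => (χ : G → ℂ) n) (θ : N → ℂ) ≠ 0) → ∃ B' : Set (Cfsg.IrrCharacter T), Cfsg.IsPBlock M B' ∧ (∃ ψ ∈ B', ∃ θ ∈ b, Cfsg.classInner (fun n : N => (ψ : T → ℂ) ⟨(n : G), hNT n.2⟩) (θ : N → ℂ) ≠ 0)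 ∧ Cfsg.IsInducedBlock M T B' B) := by
  haveI := hM.2.1
  have D := stabData N hb T hT hNT
  have hsub : ∀ B' : Set (Cfsg.IrrCharacter T), Cfsg.IsPBlock M B' → (∃ ψ ∈ B', ∃ θ ∈ b,
      Cfsg.classInner (fun n : N => (ψ : T → ℂ) ⟨(n : G), hNT n.2⟩) (θ : N → ℂ) ≠ 0) →
      B' ⊆ Cfsg.Agent.BlocksX.overB T b := by
    rintro B' hB' ⟨ψ, hψ, hc⟩ η hη
    rw [Cfsg.Agent.Blocks.block_eq hB' hψ] at hη
    exact D.blockOf_subset ((D.mem_overB_iff ψ).2 hc) hη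
  refine ⟨fun B' hB' hc => ?_, fun B₁ B₂ h₁ h₂ hc₁ hc₂ B hi₁ hi₂ => ?_, fun B hB hc => ?_⟩
  · have hs := hsub B' hB' hc
    refine ⟨_, D.isInducedBlock hB' hs, ?_, fun ψ hψ => D.isIrr_indFun (hs hψ), fun χ => ?_⟩
    · obtain ⟨ψ, hψ, -⟩ := hc
      refine ⟨_, Set.mem_image_of_mem _ hψ, ?_⟩
      by_contra hno
      push Not at hno
      have h1 := D.chiL_res_indFun (hs hψ)
      obtain ⟨m, hm, hm'⟩ := Cfsg.Agent.Char.IsCharacter.exists_decomp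
        (Cfsg.Agent.Char.IsCharacter.restrict (Cfsg.Agent.Char.isCharacter_indFun T
          (Cfsg.Agent.Char.irr_isCharacter ψ)) N)
      rw [show (fun n : N => Cfsg.indFun T (ψ : T → ℂ) (n : G)) =
        ∑ θ : Cfsg.IrrCharacter N, (m θ : ℂ) • θ.1 from hm, Cfsg.Agent.Blocks.chiL_eq_sum] at h1
      simp only [Finset.sum_apply, Pi.smul_apply, smul_eq_mul, Finset.mul_sum,
        mul_left_comm _ (Nat.cast _)] at h1
      rw [Finset.sum_comm] at h1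
      simp only [← Finset.mul_sum, ← Cfsg.Agent.Blocks.chiL_eq_sum] at h1
      rw [Finset.sum_eq_zero] at h1
      · exact Cfsg.Agent.Blocks.irr_one_ne_zero ψ h1.symm
      intro θ _
      by_cases hθ : θ ∈ b
      · have := hno θ hθ
        rw [D.frMap_coe (hs hψ)] at this
        rw [show (m θ : ℂ) = 0 from (hm' θ).symm.trans this, zero_mul]
      · rw [Cfsg.Agent.Blocks.chiL_blockIdem, if_neg hθ, mul_zero]
    · constructor
      · rintro ⟨ψ, hψ, rfl⟩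
        exact ⟨ψ, hψ, D.frMap_coe (hs hψ)⟩
      · rintro ⟨ψ, hψ, he⟩
        exact ⟨ψ, hψ, Subtype.ext ((D.frMap_coe (hs hψ)).trans he.symm)⟩
  · have hs₁ := hsub B₁ h₁ hc₁
    have hs₂ := hsub B₂ h₂ hc₂
    exact D.frMap_injOn.image_eq_image_iff hs₁ hs₂ |>.1
      ((D.eq_image_of_induced hs₁ hi₁).symm.trans (D.eq_image_of_induced hs₂ hi₂))
  · obtain ⟨χ, hχ, θ, hθ, hcθ⟩ := hc
    obtain ⟨ψ, hψ, he⟩ := D.exists_over_T hθ hcθ
    have hB' := Cfsg.Agent.Blocks.isPBlock_blockOf (M := M) ψ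
    have hs : Cfsg.blockOf M ψ.1 ⊆ Cfsg.Agent.BlocksX.overB T b := D.blockOf_subset hψ
    refine ⟨_, hB', ⟨ψ, Cfsg.Agent.Blocks.mem_blockOf_self ψ, (D.mem_overB_iff ψ).1 hψ⟩, ?_⟩
    have h := D.isInducedBlock hB' hs
    rwa [D.image_block hB' hs (Cfsg.Agent.Blocks.mem_blockOf_self ψ),
      show Cfsg.Agent.BlocksX.frMap T (Cfsg.Agent.Char.trivialChar G) ψ = χ from
        Subtype.ext ((D.frMap_coe hψ).trans he.symm), ← Cfsg.Agent.Blocks.block_eq hB hχ] at h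

end Cfsg.Agent.S4435
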