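import Cfsg.Statements.S4436
import Cfsg.Agent.Lib.BlocksX.FongReynolds


set_option autoImplicit false
open Cfsg

namespace Cfsg.Agent.S4436

theorem stabData {G : Type*} [Group G] [Fintype G] {M : Ideal Cfsg.AlgInt} (N : Subgroup G) [hN : N.Normal]
    {b : Set (Cfsg.IrrCharacter N)} (hb : Cfsg.IsPBlock M b) (T : Subgroup G)
    (hT : ∀ g : G, g ∈ T ↔ ∀ θ ∈ b, ∀ θ' : Cfsg.IrrCharacter N, (∀ n : N, (θ' : N → ℂ) n =
      (θ : N → ℂ) ⟨g * n * g⁻¹, hN.conj_mem n n.2 g⟩) → θ' ∈ b) (hNT : N ≤ T) :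
    Cfsg.Agent.BlocksX.StabData M N T b := by
  refine ⟨hNT, hb, fun g => (hT g).trans ⟨fun h θ hθ => h θ hθ _ fun n => ?_,
    fun h θ hθ θ' h' => ?_⟩⟩
  · exact congrArg θ.1 (Subtype.ext (MulAut.conjNormal_apply g n))
  · have e : θ' = Cfsg.Agent.Char.conjChar N θ g := Subtype.ext (funext fun n => (h' n).trans
      (congrArg θ.1 (Subtype.ext (MulAut.conjNormal_apply g n).symm)))
    rw [e]
    exact h θ hθ


/-- Let N be a normal subgroup of the finite group G, b a block of N (relative to a maximal ideal M of the algebraic integers containing p), T the stabilizer of b in G, N ≤ T, and B′ a block of T covering b (some member of B′ has a constituent in b on restriction to N) that induces the block B of G. Then every defect group of B′ is a defect group of B, and for every ψ ∈ B′ the induced character ψ^G is an irreducible character of G lying in B with the same height as ψ. -/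
theorem result {G : Type*} [Group G] [Fintype G] (p : ℕ) [Fact p.Prime] (M : Ideal Cfsg.AlgInt) (hM : Cfsg.IsPModular p M) (N : Subgroup G) [hN : N.Normal] [Fintype N] (b : Set (Cfsg.IrrCharacter N)) (hb : Cfsg.IsPBlock M b) (T : Subgroup G) [Fintype T] (hT : ∀ g : G, g ∈ T ↔ ∀ θ ∈ b, ∀ θ' : Cfsg.IrrCharacter N, (∀ n : N, (θ' : N → ℂ) n = (θ : N → ℂ) ⟨g * n * g⁻¹, hN.conj_mem n n.2 g⟩) → θ' ∈ b) (hNT : N ≤ T) (B' : Set (Cfsg.IrrCharacter T)) (hB' : Cfsg.IsPBlock M B') (hcov : (∃ ψ ∈ B', ∃ θ ∈ b, Cfsg.classInner (fun n : N => (ψ : T → ℂ) ⟨(n : G), hNT n.2⟩) (θ : N → ℂ) ≠ 0)) (B : Set (Cfsg.IrrCharacter G)) (hind : Cfsg.IsInducedBlock M T B' B) : (∀ D : Subgroup T, Cfsg.IsDefectGroup p M B' D → Cfsg.IsDefectGroup p M B (D.map T.subtype)) ∧ ∀ ψ ∈ B', ∃ χ ∈ B, (χ : G → ℂ) = Cfsg.indFun T (ψ : T → ℂ) ∧ Cfsg.blockHeight p B (χ : G → ℂ) = Cfsg.blockHeight p B' (ψ : T → ℂ) := by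
  haveI := hM.2.1
  have D := stabData N hb T hT hNT
  obtain ⟨ψ₀, hψ₀, hc⟩ := hcov
  have hs : B' ⊆ Cfsg.Agent.BlocksX.overB T b := by
    intro η hη
    rw [Cfsg.Agent.Blocks.block_eq hB' hψ₀] at hη
    exact D.blockOf_subset ((D.mem_overB_iff ψ₀).2 hc) hη
  have hB := D.eq_image_of_induced hs hind
  refine ⟨fun Q hQ => D.defectGroup hM.2.2 hs hind hQ, fun ψ hψ => ?_⟩
  refine ⟨Cfsg.Agent.BlocksX.frMap T (Cfsg.Agent.Char.trivialChar G) ψ,
    hB ▸ Set.mem_image_of_mem _ hψ, D.frMap_coe (hs hψ), ?_⟩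
  rw [hB]
  exact D.height_frMap hs hψ

end Cfsg.Agent.S4436
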