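import Cfsg.Statements.S4437
import Cfsg.Agent.Lib.BrauerPairs.LocalFusion
import Cfsg.Agent.Lib.BrauerPairs.CorrespondenceNormal


set_option autoImplicit false
open Cfsg

namespace Cfsg.Agent.S4437

open Cfsg.Agent Cfsg.Agent.BrauerPairs
open scoped Cfsg.Agent.Blocks


/-- Let P be a p-subgroup of the finite group G, H = P·C_G(P), and b a block of H (relative to a maximal ideal M of the algebraic integers containing p) having P as a defect group; let B be the block of G induced by b. Let T be the stabilizer of b in N_G(P): the elements g of N_G(P) such that the g-conjugate of every member of b is again a member of b. Then B has defect group P if and only if p does not divide the index of H in T. -/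
theorem result {G : Type*} [Group G] [Fintype G] (p : ℕ) [Fact p.Prime] (M : Ideal Cfsg.AlgInt) (hM : Cfsg.IsPModular p M) (P : Subgroup G) (hP : IsPGroup p P) (H : Subgroup G) [Fintype H] (hH : H = P ⊔ Subgroup.centralizer (P : Set G)) (b : Set (Cfsg.IrrCharacter H)) (hb : Cfsg.IsPBlock M b) (hbP : Cfsg.IsDefectGroup p M b (P.subgroupOf H)) (B : Set (Cfsg.IrrCharacter G)) (hind : Cfsg.IsInducedBlock M H b B) (T : Subgroup G) (hT : ∀ g : G, g ∈ T ↔ (g ∈ Subgroup.normalizer (P : Set G) ∧ ∀ θ ∈ b, ∀ θ' : Cfsg.IrrCharacter H, (∀ h h' : H, (h' : G) = g * h * g⁻¹ → (θ' : H → ℂ) h' = (θ : H → ℂ) h) → θ' ∈ b)) : Cfsg.IsDefectGroup p M B P ↔ ¬ p ∣ H.relIndex T := by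
  classical
  have : M.IsMaximal := hM.2.1
  have : CharP (AlgInt ⧸ M) p := Blocks.charP_residue hM.2.2
  have hblk : ∀ K : Subgroup G, HasBlocks (AlgInt ⧸ M) K := fun K => hasBlocks M K
  set C := Subgroup.centralizer (P : Set G) with hC
  have hPH : P ≤ H := hH ▸ le_sup_left
  have hCH : C ≤ H := hH ▸ le_sup_right
  have hHN : H ≤ Subgroup.normalizer (P : Set G) :=
    hH ▸ sup_le Subgroup.le_normalizer (Subgroup.centralizer_le_normalizer _)
  set c := blk M H b with hc
  have hci : IsBlockIdem H c := isBlockIdem_blk H hb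
  have hsupp : c ∈ suppIn (AlgInt ⧸ M) C := fun x hx => by
    rw [← br_eq_of_normal hP hPH hHN hci, coeff_br_of_notMem _ hx]
  obtain ⟨f, hf, hne⟩ := exists_blockIdem_mul_ne_zero hblk C hci.ne_zero
  have hfH : f ∈ fixedBy (AlgInt ⧸ M) H := by
    intro x hx
    have hle : H ≤ fixGroup f := hH ▸
      sup_le (fun u hu => mem_fixedBy_of_supp_centralizer hf.mem.1 u hu) fun u hu => hf.mem.2 u hu
    exact hle hx
  have hfi : IsBlockIdem H f := isBlockIdem_of_stab p hP hf hCH hPH hHN hfH
  have hfc : f = c := hfi.eq_of_mul_ne_zero hci hne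
  rw [hfc] at hf
  have hpair : IsPairOf p (blkG M B) (P, c) :=
    ⟨⟨hP, hf⟩, (isInducedBlock_iff_br hM.2.2 hP hPH hCH hHN hb hind.2.1).1 hind⟩
  have hBi := isBlockIdem_blkG (M := M) hind.2.1
  have hnorm : ∀ g ∈ Subgroup.normalizer (P : Set G), g ∈ Subgroup.normalizer (H : Set G) :=
    fun g hg => mem_normalizer_of_conj_le fun u hu => by
      have hle : H ≤ H.comap (MulAut.conj g).toMonoidHom := by
        conv_lhs => rw [hH]
        refine sup_le (fun q hq => hPH ((Subgroup.mem_normalizer_iff.1 hg q).1 hq)) fun q hq => hCH ?_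
        exact (Subgroup.mem_normalizer_iff.1 (normalizer_le_normalizer_centralizer P hg) q).1 hq
      exact hle hu
  have hTe : T = stabOf P c := by
    ext g
    rw [hT, mem_stabOf]
    refine and_congr_right fun hg => ?_
    rw [hc, ← stabilizesBlock_iff hb (hnorm g hg)]
    constructor
    · intro h
      refine ⟨hnorm g hg, fun θ hθ =>
        ⟨compIrr (conjIso g (mem_iff_conj_mem (hnorm g hg))) θ, ?_, ?_⟩⟩
      · exact h θ hθ _ ((isConjCharOf_iff (mem_iff_conj_mem (hnorm g hg)) θ _).2 rfl)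
      · exact (isConjCharOf_iff (mem_iff_conj_mem (hnorm g hg)) θ _).2 rfl
    · rintro ⟨-, h⟩ θ hθ θ' hθ'
      obtain ⟨χ', hχ', hcc⟩ := h θ hθ
      rwa [(isConjCharOf_iff (mem_iff_conj_mem (hnorm g hg)) θ θ').1 hθ',
        ← (isConjCharOf_iff (mem_iff_conj_mem (hnorm g hg)) θ χ').1 hcc]
  constructor
  · intro hD
    have hdef := (isDefectGroup_iff_defectIn_top hind.2.1 P).1 hD
    have hmax : IsMax p (blkG M B) (P, c) := ⟨hpair, fun a ha =>
      (Subgroup.eq_of_le_of_card_ge ha.2.2.1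
        (hdef.card_le ha.2.1.1 le_top ((step_isPairOf_iff hBi ha).2 hpair).br_ne_zero)).symm⟩
    have hle : PLE p (P, c) (P, c) := Relation.ReflTransGen.refl
    have h1 := (forall_normalizer_le_iff hblk hBi hmax hle).1 fun g _ => by
      rw [inf_eq_left.2 Subgroup.le_normalizer]
      exact Subgroup.card_le_of_le inf_le_left
    have h2 := not_dvd_index_stabOf hblk hmax.1.1 hle h1
    rw [inf_eq_left.2 Subgroup.le_normalizer, ← hC, ← hH, ← hTe] at h2
    exact h2
  · intro hidx
    refine isDefectGroup_of_isMax hind.2.1 (a := (P, c)) ⟨hpair, fun a ha => ?_⟩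
    obtain ⟨-, hR, hPR, hRN, hfix, hbr⟩ := ha
    have hRT : a.1 ≤ T := hTe ▸ fun u hu => ⟨hRN hu, hfix u hu⟩
    haveI : (H.subgroupOf T).Normal := ⟨fun u hu t =>
      (Subgroup.mem_normalizer_iff.1 (hnorm _ ((hT t).1 t.2).1) (u : G)).1 hu⟩
    have hRH : a.1 ≤ H := by
      intro u hu
      obtain ⟨j, hj⟩ := hR.1 ⟨u, hu⟩
      have hu1 : u ^ p ^ j = 1 := congrArg Subtype.val hj
      set q : T ⧸ H.subgroupOf T := QuotientGroup.mk (⟨u, hRT hu⟩ : T) with hq
      have h1 : q ^ p ^ j = 1 := by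
        rw [hq, ← QuotientGroup.mk_pow,
          show (⟨u, hRT hu⟩ : T) ^ p ^ j = 1 from Subtype.ext (by simpa using hu1)]
        rfl
      have h2 : orderOf q ∣ H.relIndex T := orderOf_dvd_natCard q
      have h3 : orderOf q = 1 := Nat.eq_one_of_dvd_coprimes
        (((Nat.Prime.coprime_iff_not_dvd Fact.out).2 hidx).pow_left j)
        (orderOf_dvd_of_pow_eq_one h1) h2
      exact Subgroup.mem_subgroupOf.1 ((QuotientGroup.eq_one_iff _).1 (orderOf_eq_one_iff.1 h3))
    have hDH := (isDefectGroup_subgroupOf_iff hb hPH).1 hbP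
    exact (Subgroup.eq_of_le_of_card_ge hPR (hDH.card_le hR.1 hRH fun h0 =>
      hR.2.ne_zero (by rw [← hbr, h0, zero_mul]))).symm

end Cfsg.Agent.S4437
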