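import Cfsg.Statements.S4671
import Cfsg.Agent.Lib.BrauerPairs.Covering
-- import your own Cfsg.Agent.* helpers here

set_option autoImplicit false
open Cfsg Cfsg.Agent Cfsg.Agent.BrauerPairs
open scoped Cfsg.Agent.Blocks

namespace Cfsg.Agent.S4671

/-- Fix a prime p and a maximal ideal M of the algebraic integers containing p. Let N be a normal subgroup of the finite group G, B a p-block of G and P a defect group of B. Then there is a p-block c of N, stable under conjugation by P and covered by B (some member of B has a constituent in c on restriction to N), such that P ∩ N is a defect group of c. -/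
theorem result {G : Type*} [Group G] [Fintype G] (p : ℕ) [Fact p.Prime] (M : Ideal Cfsg.AlgInt) (hM : Cfsg.IsPModular p M) (N : Subgroup G) [N.Normal] [Fintype N] (B : Set (Cfsg.IrrCharacter G)) (hB : Cfsg.IsPBlock M B) (P : Subgroup G) (hP : Cfsg.IsDefectGroup p M B P) : ∃ c : Set (Cfsg.IrrCharacter N), Cfsg.IsPBlock M c ∧ (∀ x ∈ P, Cfsg.StabilizesBlock N c x) ∧ (∃ χ ∈ B, ∃ θ ∈ c, Cfsg.classInner (fun n : N => (χ : G → ℂ) n) (θ : N → ℂ) ≠ 0) ∧ Cfsg.IsDefectGroup p M c ((P ⊓ N).subgroupOf N) := by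
  classical
  have : M.IsMaximal := hM.2.1
  have : CharP (AlgInt ⧸ M) p := Blocks.charP_residue hM.2.2
  have hblk : ∀ H : Subgroup G, HasBlocks (AlgInt ⧸ M) H := fun H => hasBlocks M H
  have hBi := isBlockIdem_blkG hB
  have hD := (isDefectGroup_iff_defectIn_top hB P).1 hP
  obtain ⟨c', hc', hcP, hne⟩ := exists_fixed_block (hblk N) hD.1 hBi.mem hD.2.2.1
  obtain ⟨c, hc, rfl⟩ := exists_eq_blk N hc'
  have hn : ∀ x : G, x ∈ Subgroup.normalizer (N : Set G) := fun x => by
    rw [Subgroup.normalizer_eq_top]; exact Subgroup.mem_top x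
  have hR : IsPGroup p (P ⊓ N : Subgroup G) := hD.1.to_le inf_le_left
  have hBR : blkG M B ∈ fixedBy (AlgInt ⧸ M) (P ⊓ N : Subgroup G) := mem_fixedBy_of_top hBi.mem _
  have hcR : blk M N c ∈ fixedBy (AlgInt ⧸ M) (P ⊓ N : Subgroup G) := fixedBy_anti inf_le_left hcP
  have hne' := br_ne_zero_mono (inf_le_left : P ⊓ N ≤ P) hne
  have he0 : blkG M B * blk M N c ≠ 0 := fun h => hne (by rw [h, map_zero])
  have hbrc : br (P ⊓ N) (blk M N c) ≠ 0 := fun h => hne' (by rw [br_mul hR hBR hcR, h, mul_zero])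
  refine ⟨c, hc, fun x hx => (stabilizesBlock_iff hc (hn x)).2 (hcP x hx),
    covers_of_mul_ne_zero hB hc he0, (isDefectGroup_subgroupOf_iff hc inf_le_right).2 ?_⟩
  obtain ⟨D, hDc, -⟩ := exists_defectIn hblk hc' hR inf_le_right hbrc
  refine hDc.of_card_le hc'.mem.2 hR inf_le_right hbrc ?_
  have hcomm : blk M N c * blkG M B = blkG M B * blk M N c :=
    centerIn_commute (suppIn_mono le_top hc'.mem.1) hBi.mem.2
  have hbe : br D (blkG M B * blk M N c) ≠ 0 := br_ne_zero_of_under (le_fixGroup hc') (fun x _ => hn x) hc'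
    (mul_mem_centerIn_fixGroup hBi.mem hc')
    (by rw [mul_assoc, ← mul_assoc (blk M N c), hcomm, mul_assoc, hc'.idem, ← mul_assoc, hBi.idem])
    (by rw [mul_assoc, hc'.idem]) he0 hDc.1 hDc.2.1 hDc.2.2.1
  have hDB : br D (blkG M B) ≠ 0 := fun h => hbe (by
    rw [br_mul hDc.1 (mem_fixedBy_of_top hBi.mem _) (fixedBy_anti hDc.2.1 hc'.mem.2), h, zero_mul])
  obtain ⟨g, -, hg⟩ := hD.2.2.2 D hDc.1 le_top hDB
  rw [← BrauerPairs.card_map_conj g D]
  refine Subgroup.card_le_of_le (le_inf hg ?_)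
  refine (Subgroup.map_mono hDc.2.1).trans ?_
  rw [map_conj_eq_of_mem_normalizer (hn g)]

end Cfsg.Agent.S4671
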