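import Cfsg.Statements.S4438
import Cfsg.Agent.S4671
import Cfsg.Agent.S4692
import Cfsg.Agent.Lib.BrauerPairs.CorrespondenceNormal


set_option autoImplicit false
open Cfsg

namespace Cfsg.Agent.S4438

open Cfsg.Agent Cfsg.Agent.BrauerPairs
open scoped Cfsg.Agent.Blocks


/-- Let N be a normal subgroup of the finite group G, b a block of N with defect group Q, and B a block of G covering b (some member of B has a constituent in b on restriction to N), all relative to a maximal ideal M of the algebraic integers containing p. Then B has a defect group P with P ⊓ N = Q. -/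
theorem result {G : Type*} [Group G] [Fintype G] (p : ℕ) [Fact p.Prime] (M : Ideal Cfsg.AlgInt) (hM : Cfsg.IsPModular p M) (N : Subgroup G) [hN : N.Normal] [Fintype N] (b : Set (Cfsg.IrrCharacter N)) (hb : Cfsg.IsPBlock M b) (Q : Subgroup G) (hQN : Q ≤ N) (hQ : Cfsg.IsDefectGroup p M b (Q.subgroupOf N)) (B : Set (Cfsg.IrrCharacter G)) (hB : Cfsg.IsPBlock M B) (hcov : (∃ χ ∈ B, ∃ θ ∈ b, Cfsg.classInner (fun n : N => (χ : G → ℂ) n) (θ : N → ℂ) ≠ 0)) : ∃ P : Subgroup G, Cfsg.IsDefectGroup p M B P ∧ P ⊓ N = Q := by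
  classical
  have : M.IsMaximal := hM.2.1
  have : CharP (AlgInt ⧸ M) p := Blocks.charP_residue hM.2.2
  have hblk : ∀ H : Subgroup G, HasBlocks (AlgInt ⧸ M) H := fun H => hasBlocks M H
  obtain ⟨P, hP⟩ := Blocks.exists_defectGroup (p := p) hB
  obtain ⟨c, hc, -, ⟨χ', hχ', θ', hθ', hc'⟩, hcD⟩ := S4671.result p M hM N B hB P hP
  obtain ⟨χ, hχ, θ, hθ, hcθ⟩ := hcov
  have hn : ∀ x : G, x ∈ Subgroup.normalizer (N : Set G) := fun x => by
    rw [Subgroup.normalizer_eq_top]; exact Subgroup.mem_top x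
  obtain ⟨h, -, hh⟩ := S4692.exists_conj_of_under le_top (fun x _ => hn x) (isBlockIdem_blkG hB)
    (isBlockIdem_blk N hc) (isBlockIdem_blk N hb) (mul_ne_zero_of_covers hB hc hχ' hθ' hc')
    (mul_ne_zero_of_covers hB hb hχ hθ hcθ)
  have h1 := ((isDefectGroup_subgroupOf_iff hc inf_le_right).1 hcD).conj h
  rw [hh, map_conj_eq_of_mem_normalizer (hn h)] at h1
  have h2 := (isDefectGroup_subgroupOf_iff hb hQN).1 hQ
  obtain ⟨x, hx, hle⟩ := h1.2.2.2 Q h2.1 hQN h2.2.2.1
  have hcard := h2.card_le h1.1 h1.2.1 h1.2.2.1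
  have heq : Q.map (MulAut.conj x).toMonoidHom = (P ⊓ N).map (MulAut.conj h).toMonoidHom :=
    Subgroup.eq_of_le_of_card_ge hle (hcard.trans (card_map_conj x Q).ge)
  refine ⟨P.map (MulAut.conj (x⁻¹ * h)).toMonoidHom, Blocks.IsDefectGroup.conj hP _, ?_⟩
  have h3 := congrArg (fun S : Subgroup G => S.map (MulAut.conj x⁻¹).toMonoidHom) heq
  rw [map_conj_map_conj_inv, Blocks.map_conj_map_conj,
    Subgroup.map_inf _ _ _ (MulAut.conj (x⁻¹ * h)).injective,
    map_conj_eq_of_mem_normalizer (hn _)] at h3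
  exact h3.symm

end Cfsg.Agent.S4438
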