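import Cfsg.Statements.S4442
import Cfsg.Agent.Lib.DefectOne.FullDefect


set_option autoImplicit false
set_option linter.style.haveILetI false
open Cfsg

namespace Cfsg.Agent.S4442

/-- Blocks of defect one. Let p be an odd prime and G a finite group whose Sylow p-subgroup P has order p; let C = C_G(P) and N = N_G(P), and fix a maximal ideal M of the algebraic integers containing p. Let B be a block of G with defect group P, b a block of C inducing B, and θ the member of b having P in its kernel (there is exactly one). Let T be the stabilizer of θ in N (the elements g ∈ N with θ(g c g⁻¹) = θ(c) for all c ∈ C) and e the index of C in T. Then e divides p − 1 and B contains exactly e + (p − 1)/e irreducible characters. Moreover B is the disjoint union of a set X of e characters and a set Y of (p − 1)/e characters such that, with f the index of C in N: every χ ∈ X has χ(1) ≡ ±(f/e)·θ(1) (mod p), there is one sign ε with ψ(1) ≡ ε f θ(1) (mod p) for all ψ ∈ Y, and all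 members of Y agree on the p-regular elements of G. -/
theorem result {G : Type*} [Group G] [Finite G] (p : ℕ) [Fact p.Prime] (M : Ideal Cfsg.AlgInt) (hM : Cfsg.IsPModular p M) (hodd : p ≠ 2) (P : Sylow p G) (hP : Nat.card P = p) (B : Set (Cfsg.IrrCharacter G)) (hB : Cfsg.IsPBlock M B) (hBP : Cfsg.IsDefectGroup p M B P) (b : Set (Cfsg.IrrCharacter (Subgroup.centralizer ((P : Subgroup G) : Set G)))) (hind : Cfsg.IsInducedBlock M (Subgroup.centralizer ((P : Subgroup G) : Set G)) b B) (θ : Cfsg.IrrCharacter (Subgroup.centralizer ((P : Subgroup G) : Set G))) (hθ : θ ∈ b) (hθP : ∀ x : Subgroup.centralizer ((P : Subgroup G) : Set G), (x : G) ∈ (P : Subgroup G) → (θ : Subgroup.centralizer ((P : Subgroup G) : Set G) → ℂ) x = (θ : Subgroup.centralizer ((P : Subgroup G) : Set G) → ℂ) 1) (T : Subgroup G) (hT : ∀ g : G, g ∈ T ↔ (g ∈ Subgroup.normalizer ((P : Subgroup G) : Set G) ∧ ∀ c c' : Subgroup.centralizer ((P : Subgroup G) : Set G), (c' : G) = g * c * g⁻¹ → (θ : Subgroup.centralizer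 ((P : Subgroup G) : Set G) → ℂ) c' = (θ : Subgroup.centralizer ((P : Subgroup G) : Set G) → ℂ) c)) (e f : ℕ) (he : (Subgroup.centralizer ((P : Subgroup G) : Set G)).relIndex T = e) (hf : (Subgroup.centralizer ((P : Subgroup G) : Set G)).relIndex (Subgroup.normalizer ((P : Subgroup G) : Set G)) = f) : e ∣ p - 1 ∧ Nat.card B = e + (p - 1) / e ∧ ∃ X Y : Set (Cfsg.IrrCharacter G), B = X ∪ Y ∧ Disjoint X Y ∧ Nat.card X = e ∧ Nat.card Y = (p - 1) / e ∧ (∀ χ ∈ X, (Cfsg.charDegree (χ : G → ℂ) : ℤ) ≡ ((f / e * Cfsg.charDegree (θ : Subgroup.centralizer ((P : Subgroup G) : Set G) → ℂ) : ℕ) : ℤ) [ZMOD p] ∨ (Cfsg.charDegree (χ : G → ℂ) : ℤ) ≡ -((f / e * Cfsg.charDegree (θ : Subgroup.centralizer ((P : Subgroup G) : Set G) → ℂ) : ℕ) : ℤ) [ZMOD p]) ∧ (∃ ε : ℤ, (ε = 1 ∨ ε = -1) ∧ ∀ ψ ∈ Y, (Cfsg.charDegree (ψ : G → ℂ) : ℤ) ≡ ε * ((f * Cfsg.charDegree (θ : Subgroup.centralizer ((P : Subgroup G) : Set G) → ℂ) : ℕ) : ℤ) [ZMOD p]) ∧ ∀ ψ ∈ Y, ∀ ψ' ∈ Y, ∀ g : G, ¬ p ∣ orderOf g → (ψ : G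 → ℂ) g = (ψ' : G → ℂ) g := by
  classical
  haveI := Fintype.ofFinite G
  haveI := hM.2.1
  have hpM := hM.2.2
  have hP' : Nat.card P = p := hP
  obtain ⟨l, θ₀, rfl⟩ := DefectOne.Local.exists_tens hP' θ
  have happ : ∀ x : ↥(P : Subgroup G) × ↥(DefectOne.Local.Vsub P),
      (DefectOne.Local.tens hP' l θ₀).1 (DefectOne.Local.prodEquiv hP' x) = l.1 x.1 * θ₀.1 x.2 :=
    DefectOne.Local.tens_apply hP' l θ₀
  have hone : (DefectOne.Local.tens hP' l θ₀).1 1 = θ₀.1 1 := by
    simpa [DefectOne.Local.linearP hP'] using happ 1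
  have hl : l = Char.trivialChar _ := Subtype.ext (funext fun y => by
    have h := hθP (DefectOne.Local.prodEquiv hP' (y, 1))
      (by rw [DefectOne.Local.prodEquiv_coe, OneMemClass.coe_one, mul_one]; exact y.2)
    rw [happ, hone] at h
    rw [Char.trivialChar_apply]
    exact mul_right_cancel₀ (Char.IsIrrCharacter.apply_one_ne_zero θ₀.2) (h.trans (one_mul _).symm))
  subst hl
  have hb : b = DefectOne.Local.blk hP' M θ₀ := Blocks.block_eq hind.1 hθ
  have hθ₀ : θ₀ ∈ DefectOne.Local.indSet hP' M B := by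
    show IsInducedBlock M _ _ B
    rw [← hb]; exact hind
  obtain ⟨S⟩ := DefectOne.Local.fullShape hP' hpM hθ₀
  have hTeq : T = (DefectOne.Local.stab hP' θ₀).map (DefectOne.Local.Nsub P).subtype := by
    ext g
    rw [hT, Subgroup.mem_map]
    constructor
    · rintro ⟨hgN, hfix⟩
      refine ⟨⟨g, hgN⟩, Subtype.ext (funext fun v => ?_), rfl⟩
      have h := hfix ⟨v, DefectOne.Local.V_le v.2⟩
        ⟨_, DefectOne.Local.V_le (DefectOne.Local.conj_mem_V hP' hgN v.2)⟩ rfl
      rw [DefectOne.Local.tens_apply_V hP' _ θ₀ _ ⟨_, DefectOne.Local.conj_mem_V hP' hgN v.2⟩ rfl,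
        DefectOne.Local.tens_apply_V hP' _ θ₀ _ v rfl] at h
      exact h
    · rintro ⟨n, hn, rfl⟩
      refine ⟨n.2, fun c c' hcc => ?_⟩
      obtain ⟨⟨y, v⟩, rfl⟩ := (DefectOne.Local.prodEquiv hP').surjective c
      have hc' : c' = DefectOne.Local.prodEquiv hP'
          ((P : Subgroup G).normalizerMonoidHom n y, DefectOne.Local.conjV hP' n v) := by
        refine Subtype.ext (hcc.trans ?_)
        rw [DefectOne.Local.prodEquiv_coe, DefectOne.Local.prodEquiv_coe]
        show (n : G) * ((y : G) * v) * (n : G)⁻¹ =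
          ((n : G) * y * (n : G)⁻¹) * ((n : G) * v * (n : G)⁻¹)
        group
      rw [hc', happ, happ, Char.trivialChar_apply, Char.trivialChar_apply,
        ← DefectOne.Local.thetaN_apply, show DefectOne.Local.thetaN hP' θ₀ n = θ₀ from hn]
  have hee : Nat.card (DefectOne.Local.autE hP' θ₀) = e := by
    rw [DefectOne.Local.card_autE, ← hTeq, ← he]
  have hff : (DefectOne.Local.orb hP' θ₀).card * e = f := by
    rw [← hee, DefectOne.Local.card_orb_mul, ← hf]
  have he0 : 0 < e := hee ▸ Nat.card_pos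
  have hdeg : charDegree (DefectOne.Local.tens hP' (Char.trivialChar _) θ₀).1 = Char.degree θ₀ := by
    rw [← Char.charDegree_eq_degree]
    apply Nat.cast_injective (R := ℂ)
    rw [Char.charDegree_cast, Char.charDegree_cast, hone]
  have hfe : f / e = (DefectOne.Local.orb hP' θ₀).card := by
    rw [← hff, Nat.mul_div_cancel _ he0]
  have hX : Nat.card (S.X : Set (IrrCharacter G)) = e := by
    rw [Nat.card_coe_set_eq, Set.ncard_coe_finset, S.cardX, hee]
  have hY : Nat.card (S.Y : Set (IrrCharacter G)) = (p - 1) / e := by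
    rw [Nat.card_coe_set_eq, Set.ncard_coe_finset, S.cardY, hee]
  refine ⟨hee ▸ DefectOne.Coord.card_dvd hP' _, ?_, S.X, S.Y, S.union, ?_, hX, hY, ?_,
    ⟨S.ε, S.hε, ?_⟩, fun ψ hψ ψ' hψ' g hg =>
      S.agree g hg ψ (Finset.mem_coe.1 hψ) ψ' (Finset.mem_coe.1 hψ')⟩
  · rw [show Nat.card B = Nat.card ((S.X : Set (IrrCharacter G)) ∪ (S.Y : Set (IrrCharacter G)) : Set (IrrCharacter G)) from congrArg (fun s : Set (IrrCharacter G) => Nat.card s) S.union,
      Nat.card_coe_set_eq, Set.ncard_union_eq (Finset.disjoint_coe.2 S.disj),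
      Set.ncard_coe_finset, Set.ncard_coe_finset, S.cardX, S.cardY, hee]
  · exact Finset.disjoint_coe.2 S.disj
  · intro χ hχ
    have h := S.degX χ (Finset.mem_coe.1 hχ)
    rw [Char.charDegree_eq_degree χ, hdeg, hfe]
    rcases S.signX χ (Finset.mem_coe.1 hχ) with h' | h' <;> rw [h'] at h
    · exact Or.inl (by simpa using h)
    · exact Or.inr (by simpa using h)
  · intro ψ hψ
    rw [Char.charDegree_eq_degree ψ, hdeg, ← hf]
    exact S.degY ψ (Finset.mem_coe.1 hψ)

end Cfsg.Agent.S4442
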