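import Cfsg.Statements.S4443
import Cfsg.Agent.Lib.Blocks.NormalDefectCount
-- import your own Cfsg.Agent.* helpers here

set_option autoImplicit false
open Cfsg

namespace Cfsg.Agent.S4443

/-- Let D be a normal p-subgroup of the finite group G, of order p^d, let p^a be the p-part of the order of G, and fix a Sylow p-subgroup S and a maximal ideal M of the algebraic integers containing p. Index by a finite type ι (via an injective map K) exactly the conjugacy classes of p-regular elements x of G for which D is a Sylow p-subgroup of C_G(x). For classes K_i, K_j let ω(i, j) be the number of pairs (y, z) ∈ K_i × K_j with z y⁻¹ ∈ S; this number is divisible by p^(a−d). Then the number of p-blocks of G having D as a defect group equals the rank over ℤ/pℤ of the matrix with (i, j) entry ω(i, j)/p^(a−d) reduced modulo p. -/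
theorem result {G : Type*} [Group G] [Finite G] (p : ℕ) [Fact p.Prime] (M : Ideal Cfsg.AlgInt) (hM : Cfsg.IsPModular p M) (D : Subgroup G) [D.Normal] (hD : IsPGroup p D) (S : Sylow p G) {ι : Type*} [Fintype ι] [DecidableEq ι] (K : ι → ConjClasses G) (hKinj : Function.Injective K) (hK : ∀ C : ConjClasses G, (∃ i, K i = C) ↔ ∃ x ∈ C.carrier, ¬ p ∣ orderOf x ∧ ∃ Q : Sylow p (Subgroup.centralizer ({x} : Set G)), (Q : Subgroup (Subgroup.centralizer ({x} : Set G))).map (Subgroup.centralizer ({x} : Set G)).subtype = D) : Nat.card {B : Set (Cfsg.IrrCharacter G) // Cfsg.IsPBlock M B ∧ Cfsg.IsDefectGroup p M B D} = (Matrix.of fun i j : ι => ((Nat.card {yz : G × G // yz.1 ∈ (K i).carrier ∧ yz.2 ∈ (K j).carrier ∧ yz.2 * yz.1⁻¹ ∈ (S : Subgroup G)} / p ^ ((Nat.card G).factorization p - (Nat.card D).factorization p) : ℕ) : ZMod p)).rank := by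
  haveI := Fintype.ofFinite G
  haveI := Fintype.ofFinite (S : Subgroup G)
  haveI := hM.2.1
  have hout : ∀ i, ConjClasses.mk (K i).out = K i := fun i => Quotient.out_eq _
  have hcar : ∀ (i : ι) (g : G), g ∈ (K i).carrier ↔ IsConj (K i).out g := fun i g => by
    rw [ConjClasses.mem_carrier_iff_mk_eq, ← ConjClasses.mk_eq_mk_iff_isConj, hout]
    exact eq_comm
  have hinj : ∀ i j, IsConj (K i).out (K j).out → i = j := fun i j h => hKinj (by
    rw [← hout i, ← hout j]; exact ConjClasses.mk_eq_mk_iff_isConj.2 h)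
  have hmem : ∀ g : G, (¬ p ∣ orderOf g ∧
      Blocks.SylIn p (Subgroup.centralizer ({g} : Set G)) D) ↔ ∃ i, IsConj (K i).out g := by
    intro g
    constructor
    · rintro ⟨h1, h2⟩
      obtain ⟨Q, hQ⟩ := Blocks.sylIn_iff.1 h2
      obtain ⟨i, hi⟩ := (hK (ConjClasses.mk g)).2
        ⟨g, ConjClasses.mem_carrier_mk, h1, Q, hQ.symm⟩
      exact ⟨i, ConjClasses.mk_eq_mk_iff_isConj.1 ((hout i).trans hi)⟩
    · rintro ⟨i, hi⟩
      obtain ⟨x, hx, h1, Q, hQ⟩ := (hK (K i)).1 ⟨i, rfl⟩
      obtain ⟨c, hc⟩ := isConj_iff.1 (((hcar i x).1 hx).symm.trans hi)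
      have h2 := Blocks.SylIn.map_conj (Blocks.sylIn_iff.2 ⟨Q, hQ.symm⟩) c
      have hnorm : D.map (MulAut.conj c).toMonoidHom = D := by
        refine Subgroup.eq_of_le_of_card_ge ?_ ?_
        · rintro _ ⟨y, hy, rfl⟩
          exact (inferInstance : D.Normal).conj_mem y hy c
        · exact le_of_eq (Nat.card_congr
            (D.equivMapOfInjective _ (MulAut.conj c).injective).toEquiv)
      rw [hnorm, Blocks.map_conj_centralizer, hc] at h2
      refine ⟨?_, h2⟩
      have h3 : orderOf (MulAut.conj c x) = orderOf x := (MulAut.conj c).orderOf_eq x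
      rw [MulAut.conj_apply, hc] at h3
      rwa [h3]
  rw [← Blocks.rank_pair_matrix hM.2.2 hD hinj hmem S]
  congr 1
  ext i j
  simp only [Matrix.of_apply, hcar]

end Cfsg.Agent.S4443
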