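import Cfsg.Statements.S4445
import Cfsg.Agent.Lib.Glauberman.Operators

set_option autoImplicit false
open Cfsg

namespace Cfsg.Agent.S4445

/-- Inside a finite group Γ let the solvable subgroup S normalise G with the orders of G and S coprime. Then the number of S-invariant irreducible characters of G (χ(s g s⁻¹) = χ(g) for all s ∈ S, g ∈ G) equals the number of conjugacy classes of G mapped to themselves by conjugation by every element of S. -/
theorem result {Γ : Type*} [Group Γ] [Fintype Γ] (G S : Subgroup Γ) [Fintype G] (hnorm : ∀ s ∈ S, ∀ g ∈ G, s * g * s⁻¹ ∈ G) (hcop : (Nat.card G).Coprime (Nat.card S)) (hsolv : Group.IsSolvable S) : Nat.card {χ : Cfsg.IrrCharacter G // (∀ s ∈ S, ∀ g g' : G, (g' : Γ) = s * g * s⁻¹ → (χ : G → ℂ) g' = (χ : G → ℂ) g)} = Nat.card {K : ConjClasses G // ∀ s ∈ S, ∀ g g' : G, (g' : Γ) = s * g * s⁻¹ → ConjClasses.mk g = K → ConjClasses.mk g' = K} := by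
  refine ((Nat.card_congr (Equiv.subtypeEquivRight fun χ =>
    (Glauberman.isFix_conjOn_iff hnorm _).symm)).trans
    (Glauberman.card_fix_irr_eq_card_fix_classes hsolv (Glauberman.conjOn hnorm) hcop)).trans
    (Nat.card_congr (Equiv.subtypeEquivRight fun K => ?_))
  constructor
  · intro h s hs g g' he hg
    subst hg
    have : g' = Glauberman.conjOn hnorm ⟨s, hs⟩ g := Subtype.ext he
    rw [this]
    exact h ⟨s, hs⟩
  · intro h t
    obtain ⟨g, rfl⟩ := ConjClasses.exists_rep K
    exact h t t.2 g _ rfl rfl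

end Cfsg.Agent.S4445
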