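import Cfsg.Statements.S4446
import Cfsg.Agent.Lib.Glauberman.Cyclic
-- import your own Cfsg.Agent.* helpers here

set_option autoImplicit false
open Cfsg

namespace Cfsg.Agent.S4446

/-- Let the finite group Γ be generated by a normal subgroup G and a cyclic subgroup S of coprime orders, C = G ⊓ C(S), and let χ be an S-invariant irreducible character of G with canonical extension χ̂ to Γ (the extension whose determinantal order is coprime to the order of S). Then there are exactly one irreducible character β of C and one sign ε such that χ̂(c s) = ε β(c) for every c ∈ C and every generator s of S; this β is a constituent of the restriction of χ to C; distinct S-invariant χ give distinct β; and every irreducible character of C arises in this way. -/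
theorem result {Γ : Type*} [Group Γ] [Fintype Γ] (G S : Subgroup Γ) [Fintype G] (hnorm : ∀ s ∈ S, ∀ g ∈ G, s * g * s⁻¹ ∈ G) (hcop : (Nat.card G).Coprime (Nat.card S)) (htop : G ⊔ S = ⊤) (hcyc : IsCyclic S) (C : Subgroup Γ) [Fintype C] (hC : C = G ⊓ Subgroup.centralizer (S : Set Γ)) (hCG : C ≤ G) : (∀ (χ : Cfsg.IrrCharacter G) (χh : Cfsg.IrrCharacter Γ), (∀ s ∈ S, ∀ g g' : G, (g' : Γ) = s * g * s⁻¹ → (χ : G → ℂ) g' = (χ : G → ℂ) g) → (∀ g : G, (χh : Γ → ℂ) g = (χ : G → ℂ) g) → (Cfsg.detOrder (χh : Γ → ℂ)).Coprime (Nat.card S) → (∃! βε : Cfsg.IrrCharacter C × ℤ, (βε.2 = 1 ∨ βε.2 = -1) ∧ ∀ c : C, ∀ s : Γ, Subgroup.zpowers s = S → (χh : Γ → ℂ) ((c : Γ) * s) = (βε.2 : ℂ) * (βε.1 : C → ℂ) c) ∧ ∀ β : Cfsg.IrrCharacter C, ∀ ε : ℤ, (ε = 1 ∨ ε = -1) → (∀ c : C, ∀ s : Γ, Subgroup.zpowers s = S → (χh : Γ → ℂ) ((c : Γ) * s) = (ε : ℂ) * (β : C → ℂ) c) → Cfsg.classInner (fun c : C => (χ : G → ℂ)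 ⟨c, hCG c.2⟩) (β : C → ℂ) ≠ 0) ∧ (∀ (χ χ' : Cfsg.IrrCharacter G) (χh χh' : Cfsg.IrrCharacter Γ), (∀ s ∈ S, ∀ g g' : G, (g' : Γ) = s * g * s⁻¹ → (χ : G → ℂ) g' = (χ : G → ℂ) g) → (∀ s ∈ S, ∀ g g' : G, (g' : Γ) = s * g * s⁻¹ → (χ' : G → ℂ) g' = (χ' : G → ℂ) g) → (∀ g : G, (χh : Γ → ℂ) g = (χ : G → ℂ) g) → (∀ g : G, (χh' : Γ → ℂ) g = (χ' : G → ℂ) g) → (Cfsg.detOrder (χh : Γ → ℂ)).Coprime (Nat.card S) → (Cfsg.detOrder (χh' : Γ → ℂ)).Coprime (Nat.card S) → ∀ β : Cfsg.IrrCharacter C, ∀ ε ε' : ℤ, (ε = 1 ∨ ε = -1) → (ε' = 1 ∨ ε' = -1) → (∀ c : C, ∀ s : Γ, Subgroup.zpowers s = S → (χh : Γ → ℂ) ((c : Γ) * s) = (ε : ℂ) * (β : C → ℂ) c) → (∀ c : C, ∀ s : Γ, Subgroup.zpowers s = S → (χh' : Γ → ℂ) ((c : Γ) * s) = (ε' : ℂ) * (β : C → ℂ) c) → χ = χ') ∧ (∀ β : Cfsg.IrrCharacter C, ∃ (χ : Cfsg.IrrCharacter G) (χh : Cfsg.IrrCharacter Γ) (ε : ℤ), (∀ s ∈ S, ∀ g g' : G, (g' : Γ) = s * g * s⁻¹ → (χ : G →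 ℂ) g' = (χ : G → ℂ) g) ∧ (∀ g : G, (χh : Γ → ℂ) g = (χ : G → ℂ) g) ∧ (Cfsg.detOrder (χh : Γ → ℂ)).Coprime (Nat.card S) ∧ (ε = 1 ∨ ε = -1) ∧ ∀ c : C, ∀ s : Γ, Subgroup.zpowers s = S → (χh : Γ → ℂ) ((c : Γ) * s) = (ε : ℂ) * (β : C → ℂ) c) := by
  classical
  haveI := GlauCyclic.normal_of_hnorm hnorm htop
  have D : GlauCyclic.CopData G S := ⟨hcop, htop⟩
  obtain ⟨y, hy⟩ : ∃ y : Γ, Subgroup.zpowers y = S := by
    obtain ⟨y, hy⟩ := hcyc.exists_generator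
    refine ⟨y, le_antisymm (Subgroup.zpowers_le.2 y.2) fun x hx => ?_⟩
    obtain ⟨i, hi⟩ := Subgroup.mem_zpowers_iff.1 (hy ⟨x, hx⟩)
    exact Subgroup.mem_zpowers_iff.2 ⟨i, by simpa using congrArg Subtype.val hi⟩
  have hyS : y ∈ S := hy ▸ Subgroup.mem_zpowers y
  have hCS : ∀ c ∈ C, ∀ x ∈ S, Commute c x := fun c hc x hx => by
    rw [hC] at hc
    exact (Subgroup.mem_centralizer_iff.1 hc.2 x hx).symm
  have hCy : ∀ c, c ∈ C ↔ c ∈ G ∧ Commute c y := fun c => by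
    refine ⟨fun hc => ⟨hCG hc, hCS c hc y hyS⟩, fun ⟨h1, h2⟩ => ?_⟩
    rw [hC]
    refine ⟨h1, Subgroup.mem_centralizer_iff.2 fun x hx => ?_⟩
    obtain ⟨i, rfl⟩ := Subgroup.mem_zpowers_iff.1 (hy.symm ▸ hx : x ∈ Subgroup.zpowers y)
    exact (h2.zpow_right i).symm.eq
  have hgen : ∀ (χ : IrrCharacter G) (χh : IrrCharacter Γ), GlauCyclic.Canon S χ χh →
      ∀ c : C, ∀ s : Γ, Subgroup.zpowers s = S → χh.1 ((c : Γ) * s) = χh.1 ((c : Γ) * y) := by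
    intro χ χh h c s hs
    obtain ⟨j, rfl⟩ := mem_powers_iff_mem_zpowers.2 (hy.symm ▸ hs ▸ Subgroup.mem_zpowers s :
      s ∈ Subgroup.zpowers y)
    refine GlauCyclic.canon_apply_pow D h hyS ?_ (hCG c.2) (hCS c c.2 y hyS)
    have h1 : orderOf (y ^ j) = orderOf y := by
      rw [← Nat.card_zpowers, ← Nat.card_zpowers, hs, hy]
    rw [orderOf_pow, Nat.div_eq_self] at h1
    rcases h1 with h1 | h1
    · exact absurd h1 (orderOf_pos y).ne'
    · rwa [Nat.coprime_iff_gcd_eq_one, Nat.gcd_comm]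
  have huniq : ∀ (β β' : IrrCharacter C) (ε ε' : ℤ), (ε = 1 ∨ ε = -1) →
      (∀ c : C, (ε : ℂ) * β.1 c = (ε' : ℂ) * β'.1 c) → β = β' ∧ ε = ε' := by
    intro β β' ε ε' hε he
    have h1 : classInner ((ε : ℂ) • β.1) β.1 = classInner ((ε' : ℂ) • β'.1) β.1 :=
      congrArg (classInner · β.1) (funext he)
    rw [Char.classInner_smul_left, Char.classInner_smul_left, Char.classInner_irr_self β.2,
      Char.classInner_irr] at h1
    split_ifs at h1 with h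
    · rw [mul_one, mul_one] at h1
      exact ⟨h.symm, Int.cast_injective h1⟩
    · rw [mul_one, mul_zero, Int.cast_eq_zero] at h1
      rcases hε with rfl | rfl <;> simp at h1
  have hdiff : ∀ (χ χ' : IrrCharacter G) (χh χh' : IrrCharacter Γ), GlauCyclic.Canon S χ χh →
      GlauCyclic.Canon S χ' χh' → ∀ (β : IrrCharacter C) (ε ε' : ℤ), (ε = 1 ∨ ε = -1) →
      (ε' = 1 ∨ ε' = -1) → (∀ c : C, χh.1 ((c : Γ) * y) = (ε : ℂ) * β.1 c) →
      (∀ c : C, χh'.1 ((c : Γ) * y) = (ε' : ℂ) * β.1 c) → χ = χ' := by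
    intro χ χ' χh χh' h h' β ε ε' hε hε' he he'
    by_contra hne
    have h1 := GlauCyclic.classInner_res D hyS hCy h h'
    rw [if_neg hne, show GlauCyclic.res C χh.1 y = (ε : ℂ) • β.1 from funext he,
      show GlauCyclic.res C χh'.1 y = (ε' : ℂ) • β.1 from funext he', Char.classInner_smul_left,
      Char.classInner_smul_right, Char.classInner_irr_self β.2] at h1
    rcases hε with rfl | rfl <;> rcases hε' with rfl | rfl <;> simp at h1
  refine ⟨fun χ χh _ hext hdet => ?_, fun χ χ' χh χh' _ _ h1 h2 h3 h4 β ε ε' hε hε' he he' =>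
    hdiff χ χ' χh χh' ⟨h1, h3⟩ ⟨h2, h4⟩ β ε ε' hε hε' (fun c => he c y hy) (fun c => he' c y hy),
    fun β => ?_⟩
  · have h : GlauCyclic.Canon S χ χh := ⟨hext, hdet⟩
    obtain ⟨β, ε, hε, hcoef, -, hval⟩ :=
      GlauCyclic.exists_unique_coef D (y := ⟨y, hyS⟩) hCy hCS h
    refine ⟨⟨(β, ε), ⟨hε, fun c s hs => (hgen χ χh h c s hs).trans (hval c)⟩,
      fun βε hβε => ?_⟩, fun β' ε' hε' he' => ?_⟩
    · obtain ⟨e1, e2⟩ := huniq βε.1 β βε.2 ε hβε.1 fun c => (hβε.2 c y hy).symm.trans (hval c)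
      exact Prod.ext e1 e2
    · obtain ⟨rfl, rfl⟩ := huniq β' β ε' ε hε' fun c => (he' c y hy).symm.trans (hval c)
      intro h0
      have h1 := GlauCyclic.coef_one (S := S) hCG hext β'.1
      rw [h0] at h1
      have h2 := congrFun (Char.IsCharacter.eq_zero_of_apply_one
        (GlauCyclic.isCharacter_coef hCS χh β') h1) ⟨y, hyS⟩
      rw [hcoef] at h2
      rcases hε with rfl | rfl <;> simp at h2
  · choose χh hχh using fun χ : {χ : IrrCharacter G // GlauCyclic.Inv S χ.1} =>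
      GlauCyclic.exists_canon D χ.2
    choose b e he hcoef hrest hval using fun χ : {χ : IrrCharacter G // GlauCyclic.Inv S χ.1} =>
      GlauCyclic.exists_unique_coef D (y := ⟨y, hyS⟩) hCy hCS (hχh χ)
    have hinj : Function.Injective b := fun χ χ' hb => Subtype.ext <|
      hdiff _ _ _ _ (hχh χ) (hχh χ') (b χ) (e χ) (e χ') (he χ) (he χ') (hval χ)
        (fun c => hb ▸ hval χ' c)
    obtain ⟨χ, rfl⟩ := ((Nat.bijective_iff_injective_and_card b).2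
      ⟨hinj, GlauCyclic.card_inv_irr D hy hnorm hCy⟩).2 β
    exact ⟨χ.1, χh χ, e χ, χ.2, (hχh χ).1, (hχh χ).2, he χ,
      fun c s hs => (hgen χ.1 (χh χ) (hχh χ) c s hs).trans (hval χ c)⟩


end Cfsg.Agent.S4446
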