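import Cfsg.Statements.S4447
import Cfsg.Agent.Lib.Glauberman.Operators
import Cfsg.Agent.Lib.Char.FixedConstituent
import Cfsg.Agent.Lib.Char.Monomial
-- import your own Cfsg.Agent.* helpers here

set_option autoImplicit false
open Cfsg

namespace Cfsg.Agent.S4447

/-- Inside a finite group Γ let S normalise G and also normalise a normal subgroup N of G, with the order of S coprime to the index of N in G and S or G/N solvable. Then for every S-invariant irreducible character χ of G, the restriction of χ to N has an S-invariant irreducible constituent. -/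
theorem result {Γ : Type*} [Group Γ] [Fintype Γ] (G S N : Subgroup Γ) [Fintype G] [Fintype N] (hnorm : ∀ s ∈ S, ∀ g ∈ G, s * g * s⁻¹ ∈ G) (hNG : N ≤ G) [hNn : (N.subgroupOf G).Normal] (hNS : ∀ s ∈ S, ∀ n ∈ N, s * n * s⁻¹ ∈ N) (hcop : (N.relIndex G).Coprime (Nat.card S)) (hsolv : Group.IsSolvable S ∨ Group.IsSolvable (G ⧸ N.subgroupOf G)) (χ : Cfsg.IrrCharacter G) (hinv : (∀ s ∈ S, ∀ g g' : G, (g' : Γ) = s * g * s⁻¹ → (χ : G → ℂ) g' = (χ : G → ℂ) g)) : ∃ θ : Cfsg.IrrCharacter N, Cfsg.classInner (fun n : N => (χ : G → ℂ) ⟨n, hNG n.2⟩) (θ : N → ℂ) ≠ 0 ∧ (∀ s ∈ S, ∀ g g' : N, (g' : Γ) = s * g * s⁻¹ → (θ : N → ℂ) g' = (θ : N → ℂ) g) := by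
  classical
  let φ := Cfsg.Agent.Glauberman.conjOn hnorm
  have hN' : ∀ t, ∀ x ∈ N.subgroupOf G, φ t x ∈ N.subgroupOf G := fun t x hx =>
    Subgroup.mem_subgroupOf.2 (hNS t t.2 x (Subgroup.mem_subgroupOf.1 hx))
  haveI := Fintype.ofFinite (N.subgroupOf G)
  obtain ⟨η, hη, hη'⟩ := Cfsg.Agent.Char.exists_fix_constituent_of_coprime_index φ (N.subgroupOf G)
    hN' hcop.symm hsolv ((Cfsg.Agent.Glauberman.isFix_conjOn_iff hnorm _).2 hinv)
  let e := Subgroup.subgroupOfEquivOfLe hNG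
  refine ⟨⟨fun n => (η : _ → ℂ) (e.symm n), Cfsg.Agent.Char.IsIrrCharacter.comp_surjective η.2
    e.symm.toMonoidHom e.symm.surjective⟩, ?_, fun s hs g g' he => ?_⟩
  · rw [← Cfsg.Agent.Char.classInner_comp_mulEquiv e]
    convert hη' using 2
    · exact funext fun x => congrArg (χ : G → ℂ) (Subtype.ext rfl)
    · exact funext fun x => congrArg (η : _ → ℂ) (e.symm_apply_apply x)
  · have h := hη ⟨s, hs⟩ (e.symm g)
    have h' : e.symm g' = Cfsg.Agent.RelGlauberman.restrictAut φ (N.subgroupOf G) hN' ⟨s, hs⟩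
        (e.symm g) := Subtype.ext (Subtype.ext he)
    rw [← h'] at h
    exact h

end Cfsg.Agent.S4447
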