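import Cfsg.Statements.S4451
import Cfsg.Agent.Lib.Glauberman.Cyclic
import Cfsg.Agent.Lib.CharInt.Congruence
import Cfsg.Agent.Lib.Char.PRegular
-- import your own Cfsg.Agent.* helpers here

set_option autoImplicit false
open Cfsg

namespace Cfsg.Agent.S4451


open scoped ComplexConjugate

theorem exists_two_level {ι : Type*} (μ : ι → ℂ) (hμ : ∀ i, IsIntegral ℤ (μ i)) (s : Finset ι) :
    ∃ e t : ℂ, IsIntegral ℤ e ∧ IsIntegral ℤ t ∧
      (∑ i ∈ s, μ i) ^ 2 = ∑ i ∈ s, μ i ^ 2 + 2 * e ∧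
      (∑ i ∈ s, μ i ^ 2) ^ 2 = ∑ i ∈ s, μ i ^ 4 + 2 * e ^ 2 + 4 * t := by
  classical
  induction s using Finset.induction_on with
  | empty => exact ⟨0, 0, isIntegral_zero, isIntegral_zero, by simp, by simp⟩
  | insert a s ha ih =>
    obtain ⟨e, t, he, ht, h1, h2⟩ := ih
    have hS : IsIntegral ℤ (∑ i ∈ s, μ i) := IsIntegral.sum _ fun i _ => hμ i
    refine ⟨e + μ a * ∑ i ∈ s, μ i, t - e * μ a * ∑ i ∈ s, μ i - μ a ^ 2 * e,
      he.add ((hμ a).mul hS), (ht.sub ((he.mul (hμ a)).mul hS)).sub (((hμ a).pow 2).mul he), ?_, ?_⟩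
    · simp only [Finset.sum_insert ha]
      linear_combination h1
    · simp only [Finset.sum_insert ha]
      linear_combination h2 - 2 * μ a ^ 2 * h1

variable {S : Type*} [Group S] [Finite S] {ν : S → ℂ}

theorem dvd_pow_sub (h : IsCharacter S ν) {z : S → ℤ} (hz : ∀ x, ν x = (z x : ℂ)) {r : ℕ}
    (hr : r.Prime) (x : S) : (r : ℤ) ∣ z x ^ r - z (x ^ r) := by
  refine CharInt.dvd_of_isIntegral_div hr.ne_zero ?_
  have h1 := CharInt.char_pow_sub_isIntegral h x hr 1
  simp only [pow_one, hz] at h1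
  simpa using h1

theorem four_dvd_sub (h : IsCharacter S ν) {z : S → ℤ} (hz : ∀ x, ν x = (z x : ℂ)) (v : S) :
    (4 : ℤ) ∣ z (v ^ 4) - z (v ^ 2) := by
  obtain ⟨n, μ, -, hμ, hval⟩ := CharInt.exists_roots h v
  have hint : ∀ i, IsIntegral ℤ (μ i) := fun i =>
    CharInt.isIntegral_of_pow_eq_one (orderOf_pos v).ne' (hμ i)
  obtain ⟨e, t, he, ht, h1, h2⟩ := exists_two_level μ hint Finset.univ
  have e1 := hval 1
  simp only [pow_one, hz] at e1
  rw [← e1, ← hval 2, hz] at h1
  rw [← hval 2, ← hval 4, hz, hz] at h2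
  obtain ⟨e', rfl⟩ := Char.exists_int_of_isIntegral_mul (c := 2) (N := z v ^ 2 - z (v ^ 2)) he
    (by norm_num) (by push_cast; linear_combination -h1)
  obtain ⟨t', rfl⟩ := Char.exists_int_of_isIntegral_mul (c := 4)
    (N := z (v ^ 2) ^ 2 - z (v ^ 4) - 2 * e' ^ 2) ht (by norm_num)
    (by push_cast; linear_combination -h2)
  have a1 : z v ^ 2 = z (v ^ 2) + 2 * e' := by exact_mod_cast h1
  have a2 : z (v ^ 2) ^ 2 = z (v ^ 4) + 2 * e' ^ 2 + 4 * t' := by exact_mod_cast h2
  obtain ⟨m, hm⟩ : (4 : ℤ) ∣ z v ^ 2 * (z v ^ 2 - 1) := by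
    rcases Int.even_or_odd (z v) with ⟨u, hu⟩ | ⟨u, hu⟩
    · exact ⟨u ^ 2 * (z v ^ 2 - 1), by rw [hu]; ring⟩
    · exact ⟨z v ^ 2 * (u ^ 2 + u), by rw [hu]; ring⟩
  obtain ⟨l, hl⟩ : (2 : ℤ) ∣ e' * (e' - 1) := by
    rcases Int.even_or_odd e' with ⟨u, hu⟩ | ⟨u, hu⟩
    · exact ⟨u * (e' - 1), by rw [hu]; ring⟩
    · exact ⟨e' * u, by rw [hu]; ring⟩
  refine ⟨m - e' * z v ^ 2 + l + e' - t', ?_⟩
  linear_combination (-1 : ℤ) * a2 + hm - (z (v ^ 2) + z v ^ 2 - 2 * e' - 1) * a1 + 2 * hl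

omit [Finite S] in
/-- A function invariant under the prime power maps is constant on the non-trivial powers. -/
theorem const_on_powers {α : Type*} (g : S → α) (t : S) (P : ℕ → Prop)
    (hP : ∀ r i, r.Prime → P (r * i) → P i)
    (hstep : ∀ r i, r.Prime → P (r * i) → (t ^ i) ^ r ≠ 1 → g ((t ^ i) ^ r) = g (t ^ i)) :
    ∀ i, P i → t ^ i ≠ 1 → g (t ^ i) = g t := by
  intro i
  induction i using Nat.strong_induction_on with
  | _ i ih =>
    intro hi hne
    by_cases h1 : i = 1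
    · rw [h1, pow_one]
    have h0 : i ≠ 0 := fun h => hne (by rw [h, pow_zero])
    obtain ⟨r, hr, i', rfl⟩ := Nat.exists_prime_and_dvd h1
    have hlt : i' < r * i' :=
      lt_mul_left (Nat.pos_of_ne_zero (right_ne_zero_of_mul h0)) hr.one_lt
    rw [mul_comm r i', pow_mul] at hne ⊢
    rw [hstep r i' hr hi hne]
    exact ih i' hlt (hP r i' hr hi) fun h => hne (by rw [h, one_pow])


/-- Let the finite group Γ be generated by a normal subgroup G and a cyclic subgroup S of coprime orders such that every non-identity element of S has the same centraliser C = G ⊓ C(S) in G. Let χ be an S-invariant irreducible character of G, χ̂ its canonical extension to Γ (determinantal order coprime to the order of S), and β the irreducible character of C with χ̂(c s) = ε₀ β(c) for c ∈ C and generators s of S (ε₀ = ±1). Then there are a sign ε = ±1, which may differ from ε₀, and a linear character μ of S with μ² = 1, such that: (a) χ̂(c x) = ε β(c) μ(x) for all c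 ∈ C and all x ∈ S other than 1; (b) the restriction of χ to C equals |S|·ϑ + ε β for some character ϑ of C or ϑ = 0; (c) |S| divides χ(1) − ε β(1). -/
theorem result {Γ : Type*} [Group Γ] [Fintype Γ] (G S : Subgroup Γ) [Fintype G] (hnorm : ∀ s ∈ S, ∀ g ∈ G, s * g * s⁻¹ ∈ G) (hcop : (Nat.card G).Coprime (Nat.card S)) (htop : G ⊔ S = ⊤) (hcyc : IsCyclic S) (C : Subgroup Γ) [Fintype C] (hC : C = G ⊓ Subgroup.centralizer (S : Set Γ)) (hCG : C ≤ G) (hfpf : ∀ x ∈ S, x ≠ 1 → G ⊓ Subgroup.centralizer ({x} : Set Γ) = C) (χ : Cfsg.IrrCharacter G) (hinv : (∀ s ∈ S, ∀ g g' : G, (g' : Γ) = s * g * s⁻¹ → (χ : G → ℂ) g' = (χ : G → ℂ) g)) (χh : Cfsg.IrrCharacter Γ) (hext : (∀ g : G, (χh : Γ → ℂ) g = (χ : G → ℂ) g)) (hdet : (Cfsg.detOrder (χh : Γ → ℂ)).Coprime (Nat.card S)) (β : Cfsg.IrrCharacter C) (ε₀ : ℤ) (hε₀ : ε₀ = 1 ∨ ε₀ = -1) (hβ : ∀ c : C, ∀ s : Γ, Subgroup.zpowers s = S → (χh : Γ → ℂ) ((c : Γ) * s) = (ε₀ : ℂ) * (β : C → ℂ) c) : ∃ ε : ℤ, (ε = 1 ∨ ε = -1) ∧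 (∃ μ : S → ℂ, Cfsg.IsCharacter S μ ∧ μ 1 = 1 ∧ (∀ x : S, μ x * μ x = 1) ∧ ∀ c : C, ∀ x : S, x ≠ 1 → (χh : Γ → ℂ) ((c : Γ) * x) = (ε : ℂ) * (β : C → ℂ) c * μ x) ∧ (∃ ϑ : C → ℂ, Cfsg.IsCharacter C ϑ ∧ (fun c : C => (χ : G → ℂ) ⟨c, hCG c.2⟩) = fun c => (Nat.card S : ℂ) * ϑ c + (ε : ℂ) * (β : C → ℂ) c) ∧ (Nat.card S : ℤ) ∣ (Cfsg.charDegree (χ : G → ℂ) : ℤ) - ε * (Cfsg.charDegree (β : C → ℂ) : ℤ) := by
  
  classical
  haveI := GlauCyclic.normal_of_hnorm hnorm htop
  have D : GlauCyclic.CopData G S := ⟨hcop, htop⟩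
  have hc : GlauCyclic.Canon S χ χh := ⟨hext, hdet⟩
  obtain ⟨y, hy⟩ := hcyc.exists_generator
  have hyS : Subgroup.zpowers (y : Γ) = S := by
    refine le_antisymm (Subgroup.zpowers_le.2 y.2) fun x hx => ?_
    obtain ⟨i, hi⟩ := Subgroup.mem_zpowers_iff.1 (hy ⟨x, hx⟩)
    exact Subgroup.mem_zpowers_iff.2 ⟨i, by simpa using congrArg Subtype.val hi⟩
  have hpow : ∀ x : S, ∃ i : ℕ, y ^ i = x := fun x =>
    Submonoid.mem_powers_iff _ _ |>.1 (mem_powers_iff_mem_zpowers.2 (hy x))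
  have hCS : ∀ c ∈ C, ∀ x ∈ S, Commute c x := fun c hc x hx => by
    rw [hC] at hc
    exact (Subgroup.mem_centralizer_iff.1 hc.2 x hx).symm
  have hCx : ∀ x : S, x ≠ 1 → ∀ c, c ∈ C ↔ c ∈ G ∧ Commute c (x : Γ) := fun x hx c => by
    rw [← hfpf x x.2 (fun h => hx (Subtype.ext h)), Subgroup.mem_inf,
      Subgroup.mem_centralizer_singleton_iff]
    exact Iff.rfl
  choose z hz using fun (γ : IrrCharacter C) (x : S) => GlauCyclic.exists_int_coef D hCG hCS hc γ x
  have hchar := fun γ : IrrCharacter C => GlauCyclic.isCharacter_coef hCS χh γ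
  have hspec : ∀ x : S, x ≠ 1 → ∃ γ : IrrCharacter C, (z γ x = 1 ∨ z γ x = -1) ∧
      (∀ δ, δ ≠ γ → z δ x = 0) ∧ ∀ c : C, χh.1 ((c : Γ) * x) = (z γ x : ℂ) * γ.1 c := by
    intro x hx
    obtain ⟨γ, e, he, hco, hrest, hval⟩ := GlauCyclic.exists_unique_coef D (hCx x hx) hCS hc
    have hze : z γ x = e := by exact_mod_cast (hz γ x).symm.trans hco
    exact ⟨γ, hze.symm ▸ he, fun δ hδ => by exact_mod_cast (hz δ x).symm.trans (hrest δ hδ),
      hze.symm ▸ hval⟩
  choose b hb hb0 hbval using hspec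
  -- the constituent does not depend on the element
  have hbstep : ∀ (x : S) (r : ℕ) (hx : x ≠ 1) (hxr : x ^ r ≠ 1), r.Prime →
      b (x ^ r) hxr = b x hx ∧ (r ≠ 2 → z (b x hx) (x ^ r) = z (b x hx) x) := by
    intro x r hx hxr hr
    have hd := dvd_pow_sub (hchar (b x hx)) (hz (b x hx)) hr x
    have heq : b (x ^ r) hxr = b x hx := by
      by_contra hne
      rw [hb0 (x ^ r) hxr _ (Ne.symm hne), sub_zero] at hd
      have h1 : (r : ℤ) ∣ 1 := by
        rcases hb x hx with h | h <;> rw [h] at hd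
        · simpa using hd
        · exact (Int.dvd_natAbs.2 hd).trans (by simp)
      exact hr.one_lt.ne' (by exact_mod_cast Int.eq_one_of_dvd_one (by positivity) h1)
    refine ⟨heq, fun hr2 => ?_⟩
    have hodd : Odd r := hr.odd_of_ne_two hr2
    have h3 : 3 ≤ r := by
      have := hr.two_le; omega
    have hpm := hb (x ^ r) hxr
    rw [heq] at hpm
    rcases hb x hx with h | h <;> rcases hpm with h' | h' <;>
      rw [h, h'] at hd <;> rw [h, h'] <;> simp only [one_pow, hodd.neg_one_pow] at hd <;>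
      exfalso <;>
      · have := Int.le_of_dvd (by norm_num) ((Int.dvd_natAbs.2 hd))
        simp at this
        omega
  have hβ' : ∀ c : C, χh.1 ((c : Γ) * y) = (ε₀ : ℂ) * β.1 c := fun c => hβ c y hyS
  have hzy : ∀ γ, z γ y = if γ = β then ε₀ else 0 := fun γ => by
    have h1 : ((z γ y : ℤ) : ℂ) = classInner ((ε₀ : ℂ) • β.1) γ.1 := by
      rw [← hz γ y]
      exact congrArg (classInner · γ.1) (funext hβ')
    rw [Char.classInner_smul_left, Char.classInner_irr] at h1
    split_ifs at h1 ⊢ with h2 h3 h3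
    · exact_mod_cast h1.trans (mul_one _)
    · exact absurd h2.symm h3
    · exact absurd h3.symm h2
    · exact_mod_cast h1.trans (mul_zero _)
  have hby : ∀ hy1 : y ≠ 1, b y hy1 = β := by
    intro hy1
    by_contra hne
    have := hzy (b y hy1)
    rw [if_neg hne] at this
    rcases hb y hy1 with h | h <;> omega
  have hball : ∀ x (hx : x ≠ 1), b x hx = β := by
    intro x hx
    obtain ⟨i, rfl⟩ := hpow x
    have hy1 : y ≠ 1 := fun h => hx (by rw [h, one_pow])
    have := const_on_powers (fun w => if hw : w = 1 then β else b w hw) y (fun _ => True)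
      (fun _ _ _ _ => trivial) (fun r j hr _ hne => by
        have hne' : y ^ j ≠ 1 := fun h => hne (by rw [h, one_pow])
        simp only [dif_neg hne, dif_neg hne']
        exact (hbstep _ r hne' hne hr).1) i trivial hx
    simp only [dif_neg hx, dif_neg hy1] at this
    rw [this, hby hy1]
  have hodd : ∀ (x : S) (r : ℕ), x ≠ 1 → x ^ r ≠ 1 → r.Prime → r ≠ 2 →
      z β (x ^ r) = z β x := fun x r hx hxr hr hr2 => by
    have := (hbstep x r hx hxr hr).2 hr2
    rwa [hball x hx] at this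
  have hpm : ∀ x : S, x ≠ 1 → z β x = 1 ∨ z β x = -1 := fun x hx => hball x hx ▸ hb x hx
  -- squares
  have hsq : ∀ i, (y ^ 2) ^ i ≠ 1 → z β ((y ^ 2) ^ i) = z β (y ^ 2) := fun i =>
    const_on_powers (z β) (y ^ 2) (fun _ => True) (fun _ _ _ _ => trivial) (fun r j hr _ hne => by
      have hne' : (y ^ 2) ^ j ≠ 1 := fun h => hne (by rw [h, one_pow])
      by_cases hr2 : r = 2
      · subst hr2
        have e1 : (y ^ 2) ^ j = (y ^ j) ^ 2 := by rw [← pow_mul, ← pow_mul, mul_comm]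
        have e2 : ((y ^ 2) ^ j) ^ 2 = (y ^ j) ^ 4 := by rw [e1, ← pow_mul]
        have h4 := four_dvd_sub (hchar β) (hz β) (y ^ j)
        rw [← e1, ← e2] at h4
        rcases hpm _ hne' with h | h <;> rcases hpm _ hne with h' | h' <;> omega
      · exact hodd _ r hne' hne hr hr2) i trivial
  have hns : ∀ i, Odd i → y ^ i ≠ 1 → z β (y ^ i) = z β y := fun i hi =>
    const_on_powers (z β) y (fun j => Odd j) (fun r j _ h => (Nat.odd_mul.1 h).2)
      (fun r j hr h hne => hodd _ r (fun h' => hne (by rw [h', one_pow])) hne hr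
        (fun h2 => absurd h (Nat.not_odd_iff_even.2 ((h2 ▸ even_two).mul_right _)))) i hi
  have hzy' : z β y = ε₀ := by rw [hzy, if_pos rfl]
  let ε : ℤ := if y ^ 2 = 1 then ε₀ else z β (y ^ 2)
  have hε : ε = 1 ∨ ε = -1 := by
    by_cases h : y ^ 2 = 1
    · simpa [ε, h] using hε₀
    · simpa [ε, h] using hpm _ h
  obtain ⟨μ, hμ1, hμ2, hμ⟩ : ∃ μ : S →* ℂ, μ 1 = 1 ∧ (∀ x, μ x * μ x = 1) ∧
      ∀ x : S, x ≠ 1 → (z β x : ℂ) = (ε : ℂ) * μ x := by
    have hval : ∀ i, y ^ i ≠ 1 → z β (y ^ i) = if Odd i then ε₀ else ε := by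
      intro i hi
      split_ifs with h
      · rw [hns i h hi, hzy']
      · obtain ⟨j, rfl⟩ := Nat.not_odd_iff_even.1 h
        rw [← two_mul, pow_mul] at hi ⊢
        have h2 : y ^ 2 ≠ 1 := fun h' => hi (by rw [h', one_pow])
        rw [hsq j hi]
        simp [ε, h2]
    by_cases he : ε = ε₀
    · refine ⟨1, rfl, fun x => mul_one 1, fun x hx => ?_⟩
      obtain ⟨i, rfl⟩ := hpow x
      rw [hval i hx, he, ite_self, MonoidHom.one_apply, mul_one]
    · have hy2 : y ^ 2 ≠ 1 := fun h => he (by simp [ε, h])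
      have hy1 : y ≠ 1 := fun h => hy2 (by rw [h, one_pow])
      have heven : Even (orderOf y) := by
        by_contra ho
        obtain ⟨j, hj⟩ := Nat.not_even_iff_odd.1 ho
        have h1 : (y ^ 2) ^ (j + 1) = y := by
          rw [← pow_mul, show 2 * (j + 1) = (2 * j + 1) + 1 by ring, pow_succ, ← hj,
            pow_orderOf_eq_one, one_mul]
        apply he
        have h2 := hsq (j + 1) (by rwa [h1])
        rw [h1, hzy'] at h2
        simp [ε, hy2, h2]
      have hind : (Subgroup.zpowers (y ^ 2)).index = 2 := by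
        rw [Subgroup.index_eq_two_iff]
        refine ⟨y, fun x => ?_⟩
        have key : ∀ i, y ^ i ∈ Subgroup.zpowers (y ^ 2) ↔ Even i := by
          intro i
          constructor
          · intro h
            obtain ⟨j, hj⟩ := (Submonoid.mem_powers_iff _ _).1 (mem_powers_iff_mem_zpowers.2 h)
            rw [← pow_mul, pow_eq_pow_iff_modEq] at hj
            have := hj.of_dvd heven.two_dvd
            rw [Nat.even_iff]
            simpa [Nat.ModEq, Nat.mul_mod_right] using this.symm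
          · rintro ⟨j, rfl⟩
            exact Subgroup.mem_zpowers_iff.2 ⟨j, by rw [zpow_natCast, ← pow_mul, two_mul]⟩
        obtain ⟨i, rfl⟩ := hpow x
        rw [← pow_succ, key, key, xor_iff_iff_not, Nat.even_add_one]
      let lam : S →* ℂ :=
        { toFun := fun x => if x ∈ Subgroup.zpowers (y ^ 2) then 1 else -1
          map_one' := if_pos (Subgroup.one_mem _)
          map_mul' := fun a b => by
            have h := Subgroup.mul_mem_iff_of_index_two hind (a := a) (b := b)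
            by_cases ha : a ∈ Subgroup.zpowers (y ^ 2) <;>
              by_cases hb : b ∈ Subgroup.zpowers (y ^ 2) <;> simp [ha, hb, h] }
      refine ⟨lam, map_one lam, fun x => ?_, fun x hx => ?_⟩
      · show (if x ∈ Subgroup.zpowers (y ^ 2) then (1 : ℂ) else -1) *
          (if x ∈ Subgroup.zpowers (y ^ 2) then (1 : ℂ) else -1) = 1
        split_ifs <;> norm_num
      · obtain ⟨i, rfl⟩ := hpow x
        show _ = (ε : ℂ) * if y ^ i ∈ Subgroup.zpowers (y ^ 2) then (1 : ℂ) else -1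
        rw [hval i hx]
        split_ifs with h1 h2 h2
        · exfalso
          obtain ⟨j, hj⟩ := (Submonoid.mem_powers_iff _ _).1 (mem_powers_iff_mem_zpowers.2 h2)
          rw [← pow_mul, pow_eq_pow_iff_modEq] at hj
          have h3 := hj.of_dvd heven.two_dvd
          simp [Nat.ModEq, Nat.mul_mod_right, Nat.odd_iff.1 h1] at h3
        · rcases hε with e | e <;> rcases hε₀ with e' | e' <;> simp [e, e'] at he ⊢
        · rw [mul_one]
        · obtain ⟨j, rfl⟩ := Nat.not_odd_iff_even.1 h1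
          exact absurd (Subgroup.mem_zpowers_iff.2 ⟨j, by rw [zpow_natCast, ← pow_mul, two_mul]⟩) h2
  haveI : Fintype S := Fintype.ofFinite S
  have hμc : IsCharacter S μ := Char.IsIrrCharacter.isCharacter (Char.isIrrCharacter_of_monoidHom μ)
  -- multiplicities modulo `|S|`
  have hq : ∀ γ : IrrCharacter C, ∃ q : ℕ, z γ 1 = (Nat.card S : ℤ) * q + if γ = β then ε else 0 := by
    intro γ
    obtain ⟨a, ha⟩ := Char.IsCharacter.exists_nat_classInner (hchar γ) Char.isCharacter_one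
    obtain ⟨a', ha'⟩ := Char.IsCharacter.exists_nat_classInner hμc Char.isCharacter_one
    have hsupp : ∀ x : S, x ≠ 1 →
        (z γ x : ℂ) - ((if γ = β then ε else 0 : ℤ) : ℂ) * μ x = 0 := by
      intro x hx
      split_ifs with h
      · rw [h, hμ x hx, sub_self]
      · rw [hb0 x hx γ (by rw [hball x hx]; exact h)]; simp
    have hkey : (z γ 1 : ℂ) - ((if γ = β then ε else 0 : ℤ) : ℂ) =
        (Nat.card S : ℂ) * ((a : ℂ) - ((if γ = β then ε else 0 : ℤ) : ℂ) * a') := by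
      rw [← ha, ← ha', classInner, classInner]
      simp only [hz, map_one, mul_one]
      rw [mul_sub, mul_inv_cancel_left₀ Char.card_ne_zero, mul_left_comm (Nat.card S : ℂ),
        mul_inv_cancel_left₀ Char.card_ne_zero, Finset.mul_sum, ← Finset.sum_sub_distrib,
        Finset.sum_eq_single (1 : S) (fun x _ hx => hsupp x hx)
          (fun h => absurd (Finset.mem_univ _) h), hμ1, mul_one]
    obtain ⟨a1, ha1⟩ := Char.IsCharacter.apply_one (hchar γ)
    rw [hz] at ha1
    have ha1' : z γ 1 = (a1 : ℤ) := by exact_mod_cast ha1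
    have hkey' : z γ 1 - (if γ = β then ε else 0) =
        (Nat.card S : ℤ) * ((a : ℤ) - (if γ = β then ε else 0) * a') := by exact_mod_cast hkey
    have hnn : 0 ≤ z γ 1 - (if γ = β then ε else 0) := by
      split_ifs with h
      · have : a1 ≠ 0 := fun h0 => by
          have h1 := congrFun (Char.IsCharacter.eq_zero_of_apply_one (hchar γ)
            (by rw [hz, ha1', h0]; simp)) y
          rw [hz, hzy, if_pos h, Pi.zero_apply, Int.cast_eq_zero] at h1
          rcases hε₀ with e | e <;> omega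
        rcases hε with e | e <;> omega
      · omega
    rw [hkey'] at hnn
    have hq0 : 0 ≤ (a : ℤ) - (if γ = β then ε else 0) * a' :=
      nonneg_of_mul_nonneg_right hnn (by exact_mod_cast (Nat.card_pos (α := S)))
    obtain ⟨q, hq⟩ := Int.eq_ofNat_of_zero_le hq0
    exact ⟨q, by rw [← hq]; linarith⟩
  choose q hq using hq
  have hres : (fun c : C => χ.1 ⟨c, hCG c.2⟩) = fun c =>
      (Nat.card S : ℂ) * (∑ γ : IrrCharacter C, (q γ : ℂ) • γ.1) c + (ε : ℂ) * β.1 c := by
    have hcl : IsClassFunction C (fun c : C => χ.1 ⟨c, hCG c.2⟩) :=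
      Char.IsCharacter.isClassFunction
        (Char.IsCharacter.comp (Char.irr_isCharacter χ) (Subgroup.inclusion hCG))
    rw [Char.eq_sum_classInner_smul hcl]
    funext c
    simp only [Finset.sum_apply, Pi.smul_apply, smul_eq_mul]
    have hcoef : ∀ γ : IrrCharacter C, classInner (fun c : C => χ.1 ⟨c, hCG c.2⟩) γ.1 =
        (Nat.card S : ℂ) * q γ + if γ = β then (ε : ℂ) else 0 := fun γ => by
      rw [← GlauCyclic.coef_one (S := S) hCG hext γ.1, hz, hq]
      split_ifs <;> push_cast <;> rfl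
    simp only [hcoef, add_mul, Finset.sum_add_distrib, ite_mul, zero_mul,
      Finset.sum_ite_eq', Finset.mem_univ, if_true, Finset.mul_sum, mul_assoc]
  refine ⟨ε, hε, ⟨μ, hμc, hμ1, hμ2, fun c x hx => ?_⟩,
    ⟨_, Char.isCharacter_sum_nat_smul q, hres⟩, ?_⟩
  · rw [hbval x hx c, hball x hx, hμ x hx]
    ring
  · obtain ⟨d, hd⟩ := Char.IsCharacter.apply_one (Char.isCharacter_sum_nat_smul q)
    refine ⟨(d : ℤ), ?_⟩
    have h1 := congrFun hres 1
    rw [hd] at h1
    simp only [Subgroup.coe_one] at h1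
    rw [show (⟨1, G.one_mem⟩ : G) = 1 from rfl, ← Char.charDegree_cast χ, ← Char.charDegree_cast β] at h1
    have h2 : (charDegree χ.1 : ℤ) = (Nat.card S : ℤ) * d + ε * (charDegree β.1 : ℤ) := by
      exact_mod_cast h1
    linarith


end Cfsg.Agent.S4451
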