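import Cfsg.Statements.S4452
import Cfsg.Agent.Lib.Glauberman.CoprimeDegree
-- import your own Cfsg.Agent.* helpers here

set_option autoImplicit false
open Cfsg

namespace Cfsg.Agent.S4452

/-- Let the finite group G be the product of a normal subgroup K and a solvable subgroup H of coprime orders, and let N = N_G(H). Then the number of irreducible characters of G of degree coprime to the order of H equals the number of irreducible characters of N of degree coprime to the order of H. (The two sets are in fact in a canonical bijection; only the equality of their sizes is stated here.) -/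
theorem result {G : Type*} [Group G] [Finite G] (K H : Subgroup G) [K.Normal] (hKH : K ⊔ H = ⊤) (hcop : (Nat.card K).Coprime (Nat.card H)) (hsolv : Group.IsSolvable H) : Nat.card {χ : Cfsg.IrrCharacter G // (Cfsg.charDegree (χ : G → ℂ)).Coprime (Nat.card H)} = Nat.card {η : Cfsg.IrrCharacter (Subgroup.normalizer (H : Set G)) // (Cfsg.charDegree (η : Subgroup.normalizer (H : Set G) → ℂ)).Coprime (Nat.card H)} := by
  set N := Subgroup.normalizer (H : Set G) with hN
  have hHN : H ≤ N := Subgroup.le_normalizer
  have hdis : K ⊓ H = ⊥ := Coprime.disjoint_of_coprime_card hcop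
  set C : Subgroup G := K ⊓ Subgroup.centralizer (H : Set G) with hC
  have hKN : K ⊓ N = C := by
    refine le_antisymm (fun k hk => ⟨hk.1, Subgroup.mem_centralizer_iff.2 fun s hs => ?_⟩)
      (inf_le_inf_left K (Subgroup.centralizer_le_normalizer _))
    have h1 : k * s * k⁻¹ * s⁻¹ ∈ K ⊓ H := by
      refine ⟨?_, H.mul_mem ((Subgroup.mem_normalizer_iff.1 hk.2 s).1 hs) (H.inv_mem hs)⟩
      have := mul_mem hk.1 (‹K.Normal›.conj_mem _ (inv_mem hk.1) s)
      simpa [mul_assoc] using this
    rw [hdis, Subgroup.mem_bot, mul_inv_eq_one, mul_inv_eq_iff_eq_mul] at h1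
    exact h1.symm
  have hcardH : Nat.card (H.subgroupOf N) = Nat.card H := Coprime.card_subgroupOf hHN
  have hcardK : Nat.card (K.subgroupOf N) = Nat.card C := by
    rw [← hKN, ← Coprime.card_subgroupOf (H := K ⊓ N) inf_le_right]
    rw [Subgroup.inf_subgroupOf_right]
  have hsupN : K.subgroupOf N ⊔ H.subgroupOf N = ⊤ := by
    refine top_unique fun x _ => ?_
    obtain ⟨k, hk, s, hs, hks⟩ := (Coprime.mem_sup_iff_of_le_normalizer' (H := H) (N := K)
      (by rw [Subgroup.normalizer_eq_top]; exact le_top) (x := (x : G))).1
      (by rw [sup_comm, hKH]; trivial)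
    have hkN : k ∈ N := by
      have : k = (x : G) * s⁻¹ := by rw [← hks, mul_inv_cancel_right]
      rw [this]
      exact mul_mem x.2 (inv_mem (hHN hs))
    have hx : x = ⟨k, hkN⟩ * ⟨s, hHN hs⟩ := Subtype.ext hks.symm
    rw [hx]
    exact Subgroup.mul_mem_sup hk hs
  have hcopN : (Nat.card (K.subgroupOf N)).Coprime (Nat.card (H.subgroupOf N)) := by
    rw [hcardK, hcardH]
    exact hcop.coprime_dvd_left (Subgroup.card_dvd_of_le inf_le_left)
  have h1 := Glauberman.card_coprime_degree_eq K H hKH hcop hsolv
  have h2 := Glauberman.card_coprime_degree_eq (K.subgroupOf N) (H.subgroupOf N) hsupN hcopN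
    (Coprime.isSolvable_subgroupOf hHN hsolv)
  rw [hcardH] at h2
  rw [h1, h2]
  congr 1
  · have hle : K.subgroupOf N ≤ Subgroup.centralizer ((H.subgroupOf N : Subgroup N) : Set N) := by
      intro k hk
      rw [Subgroup.mem_centralizer_iff]
      intro s hs
      have hkC : (k : G) ∈ C := hKN.le ⟨hk, k.2⟩
      exact Subtype.ext (Subgroup.mem_centralizer_iff.1 hkC.2 _ hs)
    rw [inf_eq_left.2 hle]
    have hmap : (K.subgroupOf N).map N.subtype = C := by rw [Subgroup.subgroupOf_map_subtype, hKN]
    let e : K.subgroupOf N ≃* C :=
      ((K.subgroupOf N).equivMapOfInjective N.subtype N.subtype_injective).trans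
        (MulEquiv.subgroupCongr hmap)
    exact Nat.card_congr
      { toFun := ConjClasses.map e.symm.toMonoidHom
        invFun := ConjClasses.map e.toMonoidHom
        left_inv := fun q => by
          obtain ⟨a, rfl⟩ := ConjClasses.exists_rep q
          exact congrArg ConjClasses.mk (e.apply_symm_apply a)
        right_inv := fun q => by
          obtain ⟨a, rfl⟩ := ConjClasses.exists_rep q
          exact congrArg ConjClasses.mk (e.symm_apply_apply a) }
  · let e := Subgroup.subgroupOfEquivOfLe hHN
    exact Nat.card_congr
      { toFun := fun f => f.comp e.toMonoidHom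
        invFun := fun f => f.comp e.symm.toMonoidHom
        left_inv := fun f => by ext; simp
        right_inv := fun f => by ext; simp }

end Cfsg.Agent.S4452
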