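import Cfsg.Statements.S4453
import Cfsg.Agent.Lib.IsaacsCorr.Main
import Cfsg.Agent.Lib.Glauberman.Operators

set_option autoImplicit false
open Cfsg

namespace Cfsg.Agent.S4453

open Cfsg.Agent.Glauberman (IsFix conjOn coe_conjOn isFix_conjOn_iff mult mult_eq)
open Cfsg.Agent.RelGlauberman (restrictAut)

theorem result {Γ : Type*} [Group Γ] [Fintype Γ] (G S : Subgroup Γ) [Fintype G] (hnorm : ∀ s ∈ S, ∀ g ∈ G, s * g * s⁻¹ ∈ G) (hcop : (Nat.card G).Coprime (Nat.card S)) (hGsolv : Group.IsSolvable G) (hodd : Odd (Nat.card G)) (C : Subgroup Γ) [Fintype C] (hC : C = G ⊓ Subgroup.centralizer (S : Set Γ)) (hCG : C ≤ G) (K L H : Subgroup Γ) [Fintype H] (hLK : L ≤ K) (hKG : K ≤ G) (hKn : ∀ g ∈ G, ∀ k ∈ K, g * k * g⁻¹ ∈ K) (hLn : ∀ g ∈ G, ∀ l ∈ L, g * l * g⁻¹ ∈ L) (hKS : ∀ s ∈ S, ∀ k ∈ K, s * k * s⁻¹ ∈ K) (hLS : ∀ s ∈ S, ∀ l ∈ L, s * l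 * s⁻¹ ∈ L) (hab : ∀ a ∈ K, ∀ b ∈ K, a * b * a⁻¹ * b⁻¹ ∈ L) (hGKC : K ⊔ C = G) (hH : H = L ⊔ C) (hHG : H ≤ G) : (∀ χ : Cfsg.IrrCharacter G, (∀ s ∈ S, ∀ g g' : G, (g' : Γ) = s * g * s⁻¹ → (χ : G → ℂ) g' = (χ : G → ℂ) g) → ∃! ψ : Cfsg.IrrCharacter H, (∀ s ∈ S, ∀ g g' : H, (g' : Γ) = s * g * s⁻¹ → (ψ : H → ℂ) g' = (ψ : H → ℂ) g) ∧ ∃ m : ℕ, Cfsg.classInner (fun h : H => (χ : G → ℂ) ⟨h, hHG h.2⟩) (ψ : H → ℂ) = (m : ℂ) ∧ Odd m) ∧ (∀ χ χ' : Cfsg.IrrCharacter G, (∀ s ∈ S, ∀ g g' : G, (g' : Γ) = s * g * s⁻¹ → (χ : G → ℂ) g' = (χ : G → ℂ) g) → (∀ s ∈ S, ∀ g g' : G, (g' : Γ) = s * g * s⁻¹ → (χ' : G → ℂ) g' = (χ' : G → ℂ) g) → ∀ ψ : Cfsg.IrrCharacter H, (∀ s ∈ S, ∀ g g' : H, (g' : Γ) = s * g * s⁻¹ → (ψ : H → ℂ) g' = (ψ : H → ℂ) g) → ∀ m m' : ℕ, Cfsg.classInner (fun h : H => (χ : G → ℂ) ⟨h, hHG h.2⟩) (ψ : H → ℂ) = (m : ℂ) → Odd m → Cfsg.classInner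 (fun h : H => (χ' : G → ℂ) ⟨h, hHG h.2⟩) (ψ : H → ℂ) = (m' : ℂ) → Odd m' → χ = χ') ∧ (∀ ψ : Cfsg.IrrCharacter H, (∀ s ∈ S, ∀ g g' : H, (g' : Γ) = s * g * s⁻¹ → (ψ : H → ℂ) g' = (ψ : H → ℂ) g) → ∃ χ : Cfsg.IrrCharacter G, (∀ s ∈ S, ∀ g g' : G, (g' : Γ) = s * g * s⁻¹ → (χ : G → ℂ) g' = (χ : G → ℂ) g) ∧ ∃ m : ℕ, Cfsg.classInner (fun h : H => (χ : G → ℂ) ⟨h, hHG h.2⟩) (ψ : H → ℂ) = (m : ℂ) ∧ Odd m) := by
  classical
  set φ := conjOn hnorm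
  set K₀ := K.subgroupOf G
  set L₀ := L.subgroupOf G
  set H₀ := H.subgroupOf G
  haveI : K₀.Normal := ⟨fun k hk g => hKn g g.2 k hk⟩
  haveI : L₀.Normal := ⟨fun l hl g => hLn g g.2 l hl⟩
  haveI : Fintype H₀ := Fintype.ofFinite _
  have hsupL : ∀ x : Γ, x ∈ L ⊔ C ↔ ∃ l ∈ L, ∃ c ∈ C, x = l * c := fun x => by
    rw [sup_comm, Cfsg.Agent.Coprime.mem_sup_iff_of_le_normalizer' (fun c hc => Subgroup.mem_normalizer_iff.2 fun l =>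
      ⟨fun h => hLn c (hCG hc) l h, fun h => by
        simpa [mul_assoc] using hLn c⁻¹ (G.inv_mem (hCG hc)) _ h⟩)]
    exact ⟨fun ⟨l, hl, c, hc, h⟩ => ⟨l, hl, c, hc, h.symm⟩,
      fun ⟨l, hl, c, hc, h⟩ => ⟨l, hl, c, hc, h.symm⟩⟩
  have hsupK : ∀ x : Γ, x ∈ G → ∃ k ∈ K, ∃ c ∈ C, x = k * c := fun x hx => by
    rw [← hGKC, sup_comm, Cfsg.Agent.Coprime.mem_sup_iff_of_le_normalizer' (fun c hc => Subgroup.mem_normalizer_iff.2 fun l =>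
      ⟨fun h => hKn c (hCG hc) l h, fun h => by
        simpa [mul_assoc] using hKn c⁻¹ (G.inv_mem (hCG hc)) _ h⟩)] at hx
    obtain ⟨k, hk, c, hc, h⟩ := hx
    exact ⟨k, hk, c, hc, h.symm⟩
  have hfixC : ∀ c : G, (c : Γ) ∈ C ↔ ∀ s, φ s c = c := by
    intro c
    rw [hC, Subgroup.mem_inf, Subgroup.mem_centralizer_iff]
    constructor
    · intro h s
      refine Subtype.ext ?_
      rw [coe_conjOn, h.2 s s.2, mul_inv_cancel_right]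
    · intro h
      refine ⟨c.2, fun s hs => ?_⟩
      have := congrArg Subtype.val (h ⟨s, hs⟩)
      rw [coe_conjOn, mul_inv_eq_iff_eq_mul] at this
      exact this
  have hH₀ : ∀ s, ∀ x ∈ H₀, φ s x ∈ H₀ := by
    intro s x hx
    have hx' : (x : Γ) ∈ L ⊔ C := hH ▸ hx
    obtain ⟨l, hl, c, hc, he⟩ := (hsupL x).1 hx'
    show (φ s x : Γ) ∈ H
    rw [hH, hsupL, coe_conjOn, he]
    refine ⟨s * l * (s : Γ)⁻¹, hLS s s.2 l hl, c, hc, ?_⟩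
    have h1 := congrArg Subtype.val ((hfixC ⟨c, hCG hc⟩).1 hc s)
    rw [coe_conjOn] at h1
    change (s : Γ) * c * (s : Γ)⁻¹ = c at h1
    conv_rhs => arg 2; rw [← h1]
    group
  have hbij := IsaacsCorr.oddBij_main φ K₀ L₀ H₀ hcop.symm hodd hGsolv (fun x hx => hLK hx)
    (fun s x hx => hKS s s.2 x hx) (fun s x hx => hLS s s.2 x hx)
    (fun a ha b hb => hab a ha b hb)
    (fun g => by
      obtain ⟨k, hk, c, hc, he⟩ := hsupK g g.2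
      exact ⟨⟨k, hKG hk⟩, hk, ⟨c, hCG hc⟩, (hfixC _).1 hc, Subtype.ext he⟩)
    (fun h => by
      show (h : Γ) ∈ H ↔ _
      rw [hH, hsupL]
      constructor
      · rintro ⟨l, hl, c, hc, he⟩
        exact ⟨⟨l, hKG (hLK hl)⟩, hl, ⟨c, hCG hc⟩, (hfixC _).1 hc, Subtype.ext he⟩
      · rintro ⟨l, hl, c, hc, he⟩
        exact ⟨l, hl, c, (hfixC c).2 hc, congrArg Subtype.val he⟩) hH₀
  let e : H₀ ≃* H := Subgroup.subgroupOfEquivOfLe hHG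
  let pull : IrrCharacter H → IrrCharacter H₀ := fun ψ =>
    ⟨fun x => ψ.1 (e x), Char.IsIrrCharacter.comp_surjective ψ.2 e.toMonoidHom e.surjective⟩
  have hpull_inj : Function.Injective pull := fun a b h => Subtype.ext (funext fun x => by
    have := congrFun (congrArg Subtype.val h) (e.symm x)
    simpa [pull] using this)
  have hpull_surj : Function.Surjective pull := fun η =>
    ⟨⟨fun x => η.1 (e.symm x), Char.IsIrrCharacter.comp_surjective η.2 e.symm.toMonoidHom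
      e.symm.surjective⟩, Subtype.ext (funext fun x => congrArg η.1 (e.symm_apply_apply x))⟩
  have hfixH : ∀ ψ : IrrCharacter H, IsFix (restrictAut φ H₀ hH₀) (pull ψ).1 ↔
      ∀ s ∈ S, ∀ g g' : H, (g' : Γ) = s * g * s⁻¹ → (ψ : H → ℂ) g' = (ψ : H → ℂ) g := by
    intro ψ
    constructor
    · intro h s hs g g' hg
      have := h ⟨s, hs⟩ (e.symm g)
      simp only [pull, MulEquiv.apply_symm_apply] at this
      refine Eq.trans (congrArg ψ.1 (Subtype.ext ?_)) this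
      rw [hg]
      rfl
    · intro h s x
      exact h s s.2 (e x) (e (restrictAut φ H₀ hH₀ s x)) rfl
  have hmult : ∀ (χ : IrrCharacter G) (ψ : IrrCharacter H),
      Cfsg.classInner (fun h : H => (χ : G → ℂ) ⟨h, hHG h.2⟩) (ψ : H → ℂ) =
        (mult H₀.subtype χ (pull ψ) : ℂ) := fun χ ψ => by
    rw [← mult_eq]
    exact (IsaacsCorr.classInner_comp_surjective e.toMonoidHom e.surjective
      (fun h : H => χ.1 ⟨h, hHG h.2⟩) ψ.1).symm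
  refine ⟨fun χ hχ => ?_, fun χ χ' hχ hχ' ψ hψ m m' hm hmo hm' hmo' => ?_, fun ψ hψ => ?_⟩
  · obtain ⟨η, ⟨hη, hηm⟩, hu⟩ := hbij.existsUnique_right χ ((isFix_conjOn_iff hnorm _).2 hχ)
    obtain ⟨ψ, rfl⟩ := hpull_surj η
    refine ⟨ψ, ⟨(hfixH ψ).1 hη, _, hmult χ ψ, hηm⟩, fun ψ' h' => ?_⟩
    obtain ⟨hψ', m, hm, hmo⟩ := h'
    refine hpull_inj (hu _ ⟨(hfixH ψ').2 hψ', ?_⟩)
    rw [hmult, Nat.cast_inj] at hm
    rw [hm]; exact hmo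
  · rw [hmult, Nat.cast_inj] at hm hm'
    exact hbij.left_unique χ χ' (pull ψ) ((isFix_conjOn_iff hnorm _).2 hχ)
      ((isFix_conjOn_iff hnorm _).2 hχ') ((hfixH ψ).2 hψ) (hm ▸ hmo) (hm' ▸ hmo')
  · obtain ⟨χ, hχ, hm⟩ := hbij.exists_left (pull ψ) ((hfixH ψ).2 hψ)
    exact ⟨χ, (isFix_conjOn_iff hnorm _).1 hχ, _, hmult χ ψ, hm⟩

end Cfsg.Agent.S4453
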