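import Cfsg.Statements.S4454
import Cfsg.Agent.Lib.Clifford.CyclicQuotient
import Cfsg.Agent.Lib.Glauberman.CyclicCoset
import Cfsg.Agent.Lib.Char.CliffordGallagher
import Cfsg.Agent.Lib.Char.Linear
-- import your own Cfsg.Agent.* helpers here

set_option autoImplicit false
open Cfsg

namespace Cfsg.Agent.S4454


open scoped ComplexConjugate

theorem dvd_sub_or_add_one {ι : Type*} [Fintype ι] (f : ι → ℤ) (h2 : 2 ≤ Fintype.card ι)
    (h : (Fintype.card ι : ℤ) * ∑ i, f i * f i - (∑ i, f i) * (∑ i, f i) =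
      (Fintype.card ι : ℤ) - 1) :
    (Fintype.card ι : ℤ) ∣ (∑ i, f i) - 1 ∨ (Fintype.card ι : ℤ) ∣ (∑ i, f i) + 1 := by
  set n : ℤ := (Fintype.card ι : ℤ) with hn
  set e := ∑ i, f i with he
  have hn2 : (2 : ℤ) ≤ n := by rw [hn]; exact_mod_cast h2
  set q := e / n
  set r := e % n
  have hqr : n * q + r = e := Int.mul_ediv_add_emod e n
  have hr0 : 0 ≤ r := Int.emod_nonneg e (by omega)
  have hr1 : r < n := Int.emod_lt_of_pos e (by omega)
  have hg1 : ∑ i, (f i - q) = r := by
    rw [Finset.sum_sub_distrib, Finset.sum_const, Finset.card_univ, nsmul_eq_mul, ← hn, ← he]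
    linarith
  have hg2 : n * ∑ i, (f i - q) * (f i - q) - r * r = n - 1 := by
    have : ∑ i, (f i - q) * (f i - q) = ∑ i, f i * f i - 2 * q * e + n * (q * q) := by
      calc ∑ i, (f i - q) * (f i - q) = ∑ i, (f i * f i - 2 * q * f i + q * q) :=
            Finset.sum_congr rfl fun i _ => by ring
        _ = _ := by
            rw [Finset.sum_add_distrib, Finset.sum_sub_distrib, ← Finset.mul_sum, Finset.sum_const,
              Finset.card_univ, nsmul_eq_mul, ← hn, ← he]
    rw [this]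
    linear_combination h - (r + e - n * q) * hqr
  have hge : r ≤ ∑ i, (f i - q) * (f i - q) := by
    rw [← hg1]
    exact Finset.sum_le_sum fun i _ => by nlinarith [Int.le_self_sq (f i - q)]
  have hkey : n * r - r * r ≤ n - 1 := by nlinarith
  rcases (show r = 0 ∨ r = 1 ∨ r = n - 1 ∨ (2 ≤ r ∧ r ≤ n - 2) by omega) with e0 | e0 | e0 | ⟨ea, eb⟩
  · exfalso
    rw [e0] at hg2
    have h1 : n ∣ 1 := ⟨1 - ∑ i, (f i - q) * (f i - q), by linarith⟩
    have := Int.le_of_dvd one_pos h1
    omega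
  · exact Or.inl ⟨q, by rw [← hqr, e0]; ring⟩
  · exact Or.inr ⟨q + 1, by rw [← hqr, e0]; ring⟩
  · nlinarith [mul_nonneg (sub_nonneg.2 ea) (sub_nonneg.2 eb)]

variable {Γ : Type*} [Group Γ] [Finite Γ] {G N : Subgroup Γ} [Fintype G] [Fintype N]

/-- Outside `G` every coset of `N` meets each conjugacy orbit of `G` in the same number of points. -/
theorem card_mul_sum_coset [hG : G.Normal] [hN : N.Normal] (hNG : N ≤ G)
    (hfrob : ∀ x : Γ, x ∉ G → ∀ g : Γ, g ∈ G → x * g * x⁻¹ * g⁻¹ ∈ N → g ∈ N) {y : Γ} (hy : y ∉ G)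
    {R : Type*} [CommSemiring R] (F : Γ → R) (hF : ∀ a b, F (b * a * b⁻¹) = F a) :
    (Nat.card N : R) * ∑ g : G, F (g * y) = (Nat.card G : R) * ∑ n : N, F (n * y) := by
  classical
  have hs : ∀ d ∈ G, y * d * y⁻¹ ∈ G := fun d hd => hG.conj_mem d hd y
  set Φ : G × N → G := GlauCyclic.twist hs hNG with hΦ
  have hle : ∀ d, (Finset.univ.filter fun p => Φ p = d).card ≤ Fintype.card N := by
    intro d
    rcases (Finset.univ.filter fun p => Φ p = d).eq_empty_or_nonempty with h | ⟨p₀, hp₀⟩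
    · rw [h]; simp
    have hp₀' := (Finset.mem_filter.1 hp₀).2
    have key : ∀ p, Φ p = d → (p₀.1 : Γ)⁻¹ * p.1 ∈ N ∧
        (p₀.1 : Γ)⁻¹ * p.1 * ((p.2 : Γ) * y) * ((p₀.1 : Γ)⁻¹ * p.1)⁻¹ = (p₀.2 : Γ) * y := by
      intro p hp
      have he : (p.1 : Γ) * ((p.2 : Γ) * y) * (p.1 : Γ)⁻¹ =
          (p₀.1 : Γ) * ((p₀.2 : Γ) * y) * (p₀.1 : Γ)⁻¹ := by
        rw [← GlauCyclic.coe_twist_mul hs hNG p, ← GlauCyclic.coe_twist_mul hs hNG p₀, ← hΦ, hp, hp₀']
      set a := (p₀.1 : Γ)⁻¹ * p.1 with ha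
      have he' : a * ((p.2 : Γ) * y) * a⁻¹ = (p₀.2 : Γ) * y := by
        calc _ = (p₀.1 : Γ)⁻¹ * ((p.1 : Γ) * ((p.2 : Γ) * y) * (p.1 : Γ)⁻¹) * p₀.1 := by
              rw [ha]; group
          _ = _ := by rw [he]; group
      refine ⟨hfrob y hy a (G.mul_mem (G.inv_mem p₀.1.2) p.1.2) ?_, he'⟩
      have h2 : y * a * y⁻¹ * a⁻¹ = ((p₀.2 : Γ)⁻¹ * (a * (p.2 : Γ) * a⁻¹)) := by
        calc y * a * y⁻¹ * a⁻¹ = (p₀.2 : Γ)⁻¹ * ((p₀.2 : Γ) * y) * (a * y⁻¹ * a⁻¹) := by group
          _ = (p₀.2 : Γ)⁻¹ * (a * ((p.2 : Γ) * y) * a⁻¹) * (a * y⁻¹ * a⁻¹) := by rw [he']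
          _ = _ := by group
      rw [h2]
      exact N.mul_mem (N.inv_mem p₀.2.2) (hN.conj_mem _ p.2.2 _)
    refine Finset.card_le_card_of_injOn (t := (Finset.univ : Finset N))
      (fun p => if h : (p₀.1 : Γ)⁻¹ * p.1 ∈ N then ⟨_, h⟩ else 1) (fun _ _ => Finset.mem_univ _) ?_
    intro p hp p' hp' hpp
    obtain ⟨hm, he⟩ := key p (Finset.mem_filter.1 hp).2
    obtain ⟨hm', he'⟩ := key p' (Finset.mem_filter.1 hp').2
    simp only [dif_pos hm, dif_pos hm', Subtype.mk.injEq, mul_right_inj] at hpp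
    refine Prod.ext (Subtype.ext hpp) (Subtype.ext ?_)
    rw [← hpp, ← he] at he'
    simpa using he'.symm
  have hsum : ∑ d : G, (Finset.univ.filter fun p => Φ p = d).card = Fintype.card G * Fintype.card N := by
    rw [← Finset.card_eq_sum_card_fiberwise (fun p _ => Finset.mem_univ _), Finset.card_univ,
      Fintype.card_prod]
  have hall : ∀ d, (Finset.univ.filter fun p => Φ p = d).card = Fintype.card N := by
    intro d
    refine (Finset.sum_eq_sum_iff_of_le (fun i _ => hle i)).1 ?_ d (Finset.mem_univ d)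
    rw [hsum, Finset.sum_const, Finset.card_univ, smul_eq_mul]
  calc (Nat.card N : R) * ∑ g : G, F (g * y)
      = ∑ d : G, ∑ p ∈ Finset.univ.filter (fun p => Φ p = d), F (Φ p * y) := by
        rw [Finset.mul_sum]
        refine Finset.sum_congr rfl fun d _ => ?_
        rw [Finset.sum_congr rfl (fun q hq => by rw [(Finset.mem_filter.1 hq).2]),
          Finset.sum_const, hall, nsmul_eq_mul, Nat.card_eq_fintype_card]
    _ = ∑ p : G × N, F (p.2 * y) := by
        rw [Finset.sum_fiberwise]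
        exact Finset.sum_congr rfl fun p _ => by rw [GlauCyclic.coe_twist_mul, hF]
    _ = _ := by
        rw [Fintype.sum_prod_type]
        simp only [Finset.sum_const, Finset.card_univ, nsmul_eq_mul, Nat.card_eq_fintype_card]


/-- Let N ≤ G be normal subgroups of the finite group Γ with Γ/G cyclic and Γ/N a Frobenius group with kernel G/N: G ≠ Γ, N ≠ G, and no element of Γ outside G fixes a non-identity coset of N in G under conjugation. Let ϑ be an irreducible character of N invariant under conjugation by Γ and suppose ϑ is fully ramified in G: the character of G induced from ϑ equals e·χ for an irreducible character χ of G and a natural number e. Then the index of G in Γ divides e − 1 or e + 1. -/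
theorem result {Γ : Type*} [Group Γ] [Fintype Γ] (G N : Subgroup Γ) [hG : G.Normal] [hN : N.Normal] [Fintype G] [Fintype N] (hNG : N ≤ G) (hGlt : G ≠ ⊤) (hNlt : N ≠ G) (hcyc : IsCyclic (Γ ⧸ G)) (hfrob : ∀ x : Γ, x ∉ G → ∀ g : Γ, g ∈ G → x * g * x⁻¹ * g⁻¹ ∈ N → g ∈ N) (θ : Cfsg.IrrCharacter N) (hinv : ∀ (x : Γ) (n : N), (θ : N → ℂ) ⟨x * n * x⁻¹, hN.conj_mem n n.2 x⟩ = (θ : N → ℂ) n) (χ : Cfsg.IrrCharacter G) (e : ℕ) (hram : Cfsg.indFun (N.subgroupOf G) (fun n : N.subgroupOf G => (θ : N → ℂ) ⟨(n : G), n.2⟩) = fun g => (e : ℂ) * (χ : G → ℂ) g) : (G.index : ℤ) ∣ (e : ℤ) - 1 ∨ (G.index : ℤ) ∣ (e : ℤ) + 1 := by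
  
  classical
  haveI : Fintype (N.subgroupOf G) := Fintype.ofFinite _
  set N' := N.subgroupOf G
  set θ' : IrrCharacter N' := Char.toSubgroupOf N hNG θ with hθ'
  have hram' : indFun N' θ'.1 = fun g => (e : ℂ) * χ.1 g := hram
  have hconj : ∀ g : G, Char.conjFun N' θ'.1 g = θ'.1 := fun g => by
    rw [hθ', Char.conjFun_toSubgroupOf_iff]
    funext n
    exact (congrArg θ.1 (Subtype.ext (by simp))).trans (hinv (g : Γ) n)
  set c : ℂ := (Nat.card N' : ℂ)⁻¹ * Nat.card G with hc
  have hres : ∀ n : N', (e : ℂ) * χ.1 n = c * θ'.1 n := fun n => by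
    have := congrFun (Char.resFun_indFun N' θ'.1) n
    rw [hram'] at this
    simpa [hconj, Nat.card_eq_fintype_card, hc, mul_assoc] using this
  have he0 : (e : ℂ) ≠ 0 := by
    intro h0
    have h1 := hres 1
    rw [h0, zero_mul] at h1
    rcases mul_eq_zero.1 h1.symm with h2 | h2
    · exact mul_ne_zero (inv_ne_zero Char.card_ne_zero) Char.card_ne_zero h2
    · exact Char.IsIrrCharacter.apply_one_ne_zero θ'.2 h2
  have hχN : ∀ n : N', χ.1 n = (e : ℂ) * θ'.1 n := by
    have h1 : classInner (Char.resFun N' χ.1) θ'.1 = (e : ℂ) := by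
      show classInner (fun n : N' => χ.1 n) θ'.1 = _
      rw [← Char.classInner_indFun_right N' _ (Char.IsCharacter.isClassFunction (Char.irr_isCharacter χ)),
        hram', show (fun g => (e : ℂ) * χ.1 g) = (e : ℂ) • χ.1 from rfl, Char.classInner_smul_right,
        Char.classInner_irr_self χ.2]
      simp
    have h2 : Char.resFun N' χ.1 = (c / e) • θ'.1 := funext fun n => by
      simp only [Char.resFun_apply, Pi.smul_apply, smul_eq_mul, div_mul_eq_mul_div]
      rw [eq_div_iff he0, mul_comm, hres]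
    rw [h2, Char.classInner_smul_left, Char.classInner_irr_self θ'.2, mul_one] at h1
    intro n
    have h3 := congrFun h2 n
    simpa [h1] using h3
  have hχ0 : ∀ g : G, g ∉ N' → χ.1 g = 0 := fun g hg => by
    have := congrFun hram' g
    rw [Char.indFun_of_notMem_normal N' _ hg] at this
    exact (mul_eq_zero.1 this.symm).resolve_left he0
  -- extend to `Γ`
  obtain ⟨χh, hχh⟩ : ∃ χh : IrrCharacter Γ, ∀ g : G, χh.1 g = χ.1 g := by
    obtain ⟨d, σ, hσ, hσχ⟩ := χ.2
    haveI := hσ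
    obtain ⟨f, hf, hf'⟩ := Clifford.exists_irrCharacter_extension σ
      (Clifford.exists_extension_of_cyclic σ fun x g => by
        rw [hσχ]
        by_cases hg : g ∈ N'
        · have hg' : MulAut.conjNormal x g ∈ N' := hN.conj_mem _ hg x
          rw [hχN ⟨g, hg⟩, hχN ⟨_, hg'⟩]
          exact congrArg _ (hinv x ⟨(g : Γ), hg⟩)
        · rw [hχ0 g hg, hχ0 _ fun h => hg ?_]
          show (g : Γ) ∈ N
          simpa [mul_assoc] using hN.conj_mem _ (h : x * (g : Γ) * x⁻¹ ∈ N) x⁻¹)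
    exact ⟨⟨f, hf⟩, fun g => by rw [← hσχ]; exact hf' g⟩
  set F : Γ → ℂ := fun z => χh.1 z * conj (χh.1 z) with hF
  have hFc : ∀ a b, F (b * a * b⁻¹) = F a := fun a b => by
    simp only [hF, Char.IsCharacter.isClassFunction (Char.irr_isCharacter χh) a b]
  have hcoset : ∀ y, y ∉ G → ∑ n : N, F (n * y) = (Nat.card N : ℂ) := by
    intro y hy
    have h1 := card_mul_sum_coset hNG hfrob hy F hFc
    have h2 : ∑ g : G, F (g * y) = (Nat.card G : ℂ) := by
      rw [← Char.sum_coset_mul_conj G χh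
        (show IsIrrCharacter G (Char.resFun G χh.1) by
          rw [show Char.resFun G χh.1 = χ.1 from funext hχh]; exact χ.2) y]
      refine Finset.sum_congr rfl fun g _ => ?_
      simp only [hF]
      rw [Char.IsClassFunction.apply_mul_comm
        (Char.IsCharacter.isClassFunction (Char.irr_isCharacter χh)) (g : Γ) y]
    rw [h2, mul_comm (Nat.card N : ℂ)] at h1
    exact (mul_left_cancel₀ Char.card_ne_zero h1).symm
  -- the subgroup over the complement
  obtain ⟨q, hq⟩ := hcyc.exists_generator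
  obtain ⟨x, rfl⟩ := QuotientGroup.mk_surjective q
  set K : Subgroup Γ := Subgroup.zpowers x ⊔ N with hK
  haveI : Fintype K := Fintype.ofFinite _
  have hn2 : 2 ≤ G.index := Subgroup.one_lt_index_of_ne_top hGlt
  have hxG : x ∉ G := fun h => hGlt (Subgroup.index_eq_one.1 (by
    rw [Subgroup.index_eq_card, Nat.card_eq_one_iff_unique]
    refine ⟨⟨fun a b => ?_⟩, ⟨1⟩⟩
    have h1 : ∀ a : Γ ⧸ G, a = 1 := fun a => by
      obtain ⟨i, rfl⟩ := Subgroup.mem_zpowers_iff.1 (hq a)
      rw [(QuotientGroup.eq_one_iff x).2 h, one_zpow]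
    rw [h1 a, h1 b]))
  have hxn : x ^ G.index ∈ G := G.pow_index_mem x
  have hxnN : x ^ G.index ∈ N := by
    refine hfrob x hxG _ hxn ?_
    rw [(Commute.self_pow x _).eq, mul_inv_cancel_right, mul_inv_cancel]
    exact N.one_mem
  have hord : orderOf (x : Γ ⧸ G) = G.index := by
    rw [Subgroup.index_eq_card]; exact orderOf_eq_card_of_forall_mem_zpowers hq
  have hKG : ∀ k ∈ K, k ∈ G → k ∈ N := by
    intro k hk hkG
    obtain ⟨a, ha, b, hb, rfl⟩ := Subgroup.mem_sup_of_normal_right.1 hk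
    obtain ⟨i, rfl⟩ := Subgroup.mem_zpowers_iff.1 ha
    have h1 : (x : Γ ⧸ G) ^ i = 1 := by
      rw [← QuotientGroup.mk_zpow, QuotientGroup.eq_one_iff]
      exact (G.mul_mem_cancel_right (hNG hb)).1 hkG
    obtain ⟨j, rfl⟩ := orderOf_dvd_iff_zpow_eq_one.2 h1
    rw [hord, zpow_mul, zpow_natCast]
    exact N.mul_mem (N.zpow_mem hxnN j) hb
  set N'' := N.subgroupOf K
  have hNK : N ≤ K := le_sup_right
  haveI : Fintype N'' := Fintype.ofFinite _
  haveI : Fintype (K ⧸ N'') := Fintype.ofFinite _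
  let π : K →* Γ ⧸ G := (QuotientGroup.mk' G).comp K.subtype
  have hπker : π.ker = N'' := by
    ext k
    show π k = 1 ↔ (k : Γ) ∈ N
    rw [show π k = ((k : Γ) : Γ ⧸ G) from rfl, QuotientGroup.eq_one_iff]
    exact ⟨hKG k k.2, fun h => hNG h⟩
  have hπs : Function.Surjective π := fun a => by
    obtain ⟨i, rfl⟩ := Subgroup.mem_zpowers_iff.1 (hq a)
    exact ⟨⟨x, Subgroup.mem_sup_left (Subgroup.mem_zpowers x)⟩ ^ i, map_zpow π _ _⟩
  let eK : K ⧸ N'' ≃* Γ ⧸ G :=
    (QuotientGroup.quotientMulEquivOfEq hπker.symm).trans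
      (QuotientGroup.quotientKerEquivOfSurjective π hπs)
  haveI : IsCyclic (K ⧸ N'') := isCyclic_of_surjective eK.symm.toMonoidHom eK.symm.surjective
  have hcomm : ∀ a b : K ⧸ N'', a * b = b * a := fun a b => by
    letI := IsCyclic.commGroup (α := K ⧸ N'')
    exact mul_comm a b
  have hcardQ : Nat.card (K ⧸ N'') = G.index := by
    rw [Nat.card_congr eK.toEquiv, ← Subgroup.index_eq_card]
  set θ'' : IrrCharacter N'' := Char.toSubgroupOf N hNK θ with hθ''
  obtain ⟨θh, hθh⟩ : ∃ θh : IrrCharacter K, Char.resFun N'' θh.1 = θ''.1 := by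
    obtain ⟨d, σ, hσ, hσθ⟩ := θ''.2
    haveI := hσ
    obtain ⟨f, hf, hf'⟩ := Clifford.exists_irrCharacter_extension σ
      (Clifford.exists_extension_of_cyclic σ fun k n => by
        have h1 : Char.conjFun N'' θ''.1 k = θ''.1 := by
          rw [hθ'', Char.conjFun_toSubgroupOf_iff]
          funext n
          exact (congrArg θ.1 (Subtype.ext (by simp))).trans (hinv (k : Γ) n)
        rw [hσθ]
        exact congrFun h1 n)
    exact ⟨⟨f, hf⟩, funext fun n => (hf' n).trans (congrFun hσθ n)⟩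
  have hres'' : IsIrrCharacter N'' (Char.resFun N'' θh.1) := by rw [hθh]; exact θ''.2
  set φ : K → ℂ := fun k => χh.1 k with hφ
  have hφc : IsCharacter K φ := Char.IsCharacter.restrict (Char.irr_isCharacter χh) K
  have hχhN : ∀ (n : Γ) (hn : n ∈ N), χh.1 n = (e : ℂ) * θ.1 ⟨n, hn⟩ := fun n hn =>
    (hχh ⟨n, hNG hn⟩).trans (hχN ⟨⟨n, hNG hn⟩, hn⟩)
  have hφN : Char.resFun N'' φ = (e : ℂ) • θ''.1 := funext fun n => hχhN _ n.2
  -- the norm
  have hnorm : (G.index : ℂ) * classInner φ φ = (e : ℂ) * e + ((G.index : ℂ) - 1) := by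
    have hcardK : (Nat.card K : ℂ) = G.index * Nat.card N := by
      rw [← hcardQ, ← Nat.card_congr (Subgroup.subgroupOfEquivOfLe hNK).toEquiv]
      exact_mod_cast N''.card_eq_card_quotient_mul_card_subgroup
    have hfib : ∀ q : K ⧸ N'', ∑ k ∈ Finset.univ.filter (fun k : K => (k : K ⧸ N'') = q), F k =
        (Nat.card N : ℂ) * (if q = 1 then (e : ℂ) * e else 1) := by
      intro q
      obtain ⟨y, rfl⟩ := QuotientGroup.mk_surjective q
      have hfl : ∑ k ∈ Finset.univ.filter (fun k : K => (k : K ⧸ N'') = (y : K ⧸ N'')), F k =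
          ∑ n : N, F ((y : Γ) * n) := by
        refine Finset.sum_bij' (fun k hk => (⟨(y : Γ)⁻¹ * k, ?_⟩ : N))
          (fun n _ => y * ⟨n, hNK n.2⟩) (fun k _ => Finset.mem_univ _)
          (fun n _ => Finset.mem_filter.2 ⟨Finset.mem_univ _,
            QuotientGroup.mk_mul_of_mem y (Subgroup.mem_subgroupOf.2 n.2)⟩)
          (fun k _ => Subtype.ext (by simp)) (fun n _ => Subtype.ext (by simp))
          (fun k _ => by simp)
        exact (QuotientGroup.eq (s := N'')).1 (Finset.mem_filter.1 hk).2.symm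
      rw [hfl]
      by_cases hy : (y : Γ) ∈ G
      · have hyN : (y : Γ) ∈ N := hKG y y.2 hy
        rw [if_pos ((QuotientGroup.eq_one_iff y).2 hyN)]
        have h1 : ∑ n : N, F ((y : Γ) * n) = ∑ n : N, F n :=
          Fintype.sum_equiv (Equiv.mulLeft (⟨y, hyN⟩ : N)) _ _ fun n => rfl
        rw [h1]
        have h2 : classInner θ.1 θ.1 = 1 := Char.classInner_irr_self θ.2
        rw [classInner, inv_mul_eq_iff_eq_mul₀ Char.card_ne_zero, mul_one] at h2
        rw [mul_comm, ← h2, Finset.mul_sum]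
        refine Finset.sum_congr rfl fun n _ => ?_
        simp only [hF]
        rw [hχhN _ n.2, map_mul, Complex.conj_natCast]
        ring
      · rw [if_neg fun h => hy (hNG ((QuotientGroup.eq_one_iff y).1 h : (y : Γ) ∈ N)), mul_one,
          ← hcoset _ hy]
        exact Finset.sum_congr rfl fun n _ => by
          rw [← hFc ((y : Γ) * n) (n : Γ), mul_assoc (n : Γ), mul_inv_cancel_right]
    show (G.index : ℂ) * ((Nat.card K : ℂ)⁻¹ * ∑ k : K, F k) = _
    rw [← Finset.sum_fiberwise Finset.univ (fun k : K => (k : K ⧸ N'')), Finset.sum_congr rfl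
      fun q _ => hfib q, ← Finset.mul_sum, hcardK, mul_inv, ← mul_assoc, ← mul_assoc, ← mul_assoc,
      mul_inv_cancel₀ (Nat.cast_ne_zero.2 (show G.index ≠ 0 by omega)), one_mul, inv_mul_cancel₀ Char.card_ne_zero,
      one_mul, ← Finset.add_sum_erase _ _ (Finset.mem_univ (1 : K ⧸ N'')), if_pos rfl,
      Finset.sum_congr rfl fun q hq => if_neg (Finset.ne_of_mem_erase hq), Finset.sum_const,
      Finset.card_erase_of_mem (Finset.mem_univ _), Finset.card_univ, ← Nat.card_eq_fintype_card,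
      hcardQ, nsmul_eq_mul, mul_one, Nat.cast_sub (by omega), Nat.cast_one]
  obtain ⟨m, hm, hmi⟩ := Char.IsCharacter.exists_decomp hφc
  let L : IrrCharacter (K ⧸ N'') → IrrCharacter K := fun β =>
    ⟨Char.mulQuotient N'' θh.1 β.1, Char.isIrrCharacter_mulQuotient N'' θh hres'' β⟩
  have hLinj : Function.Injective L := fun β β' h =>
    Char.mulQuotient_injective N'' θh hres'' (congrArg Subtype.val h)
  have hsum1 : ∑ β, (m (L β) : ℂ) = (e : ℂ) := by
    calc ∑ β, (m (L β) : ℂ)
        = classInner φ (∑ β : IrrCharacter (K ⧸ N''), β.1 1 • Char.mulQuotient N'' θh.1 β.1) := by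
          rw [Char.classInner_sum_right]
          refine Finset.sum_congr rfl fun β _ => ?_
          rw [Char.apply_one_of_comm hcomm β, one_smul, hmi (L β) |>.symm]
      _ = classInner φ (indFun N'' (Char.resFun N'' θh.1)) := by
          rw [Char.indFun_resFun_eq_sum N'' (Char.IsCharacter.isClassFunction (Char.irr_isCharacter θh))]
      _ = classInner (Char.resFun N'' φ) θ''.1 := by
          rw [Char.classInner_indFun_right N'' _ (Char.IsCharacter.isClassFunction hφc), hθh]
          rfl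
      _ = _ := by rw [hφN, Char.classInner_smul_left, Char.classInner_irr_self θ''.2, mul_one]
  have hoff : ∀ ψ : IrrCharacter K, m ψ ≠ 0 → ∃ β, L β = ψ := by
    intro ψ hψ
    by_contra hne
    have hres0 : classInner (Char.resFun N'' ψ.1) (Char.resFun N'' θh.1) = 0 := by
      by_contra h0
      obtain ⟨β, hβ⟩ := Char.exists_mulQuotient_eq N'' θh hres'' ψ h0
      exact hne ⟨β, Subtype.ext hβ⟩
    obtain ⟨γ, hγ⟩ : ∃ γ : IrrCharacter N'', classInner (Char.resFun N'' ψ.1) γ.1 ≠ 0 := by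
      by_contra hall
      push Not at hall
      have := congrFun (Char.eq_zero_of_classInner_irr (Char.IsCharacter.isClassFunction
        (Char.IsCharacter.restrict (Char.irr_isCharacter ψ) N'')) hall) 1
      exact Char.IsIrrCharacter.apply_one_ne_zero ψ.2 this
    have hγne : γ ≠ θ'' := fun h => hγ (by rw [h, ← hθh, hres0])
    choose d hd using fun η : IrrCharacter K => Char.IsCharacter.exists_nat_classInner
      (Char.IsCharacter.restrict (Char.irr_isCharacter η) N'') (Char.irr_isCharacter γ)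
    have h1 : classInner (Char.resFun N'' φ) γ.1 = ((∑ η, m η * d η : ℕ) : ℂ) := by
      have h2 : Char.resFun N'' φ = ∑ η : IrrCharacter K, (m η : ℂ) • Char.resFun N'' η.1 := by
        funext n
        simpa [Finset.sum_apply] using congrFun hm (n : K)
      rw [h2, Char.classInner_sum_left]
      push_cast
      exact Finset.sum_congr rfl fun η _ => by rw [Char.classInner_smul_left]; exact congrArg _ (hd η)
    rw [hφN, Char.classInner_smul_left, Char.classInner_irr_of_ne θ''.2 γ.2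
      (fun h => hγne (Subtype.ext h).symm), mul_zero] at h1
    have h3 : ∑ η, m η * d η = 0 := by exact_mod_cast h1.symm
    have h4 := Finset.sum_eq_zero_iff.1 h3 ψ (Finset.mem_univ _)
    refine hγ ((hd ψ).trans ?_)
    rw [(Nat.mul_eq_zero.1 h4).resolve_left hψ, Nat.cast_zero]
  have hsum2 : classInner φ φ = ∑ β, (m (L β) : ℂ) * m (L β) := by
    rw [Char.classInner_eq_sum (Char.IsCharacter.isClassFunction hφc)]
    symm
    refine Fintype.sum_of_injective L hLinj _ _ (fun ψ hψ => ?_) (fun β => ?_)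
    · rw [hmi, show m ψ = 0 from by_contra fun h => hψ (hoff ψ h), Nat.cast_zero, zero_mul]
    · rw [← Char.conj_classInner φ, hmi, Complex.conj_natCast]
  have hcardI : Fintype.card (IrrCharacter (K ⧸ N'')) = G.index := by
    rw [← Nat.card_eq_fintype_card, Char.card_irr, ← hcardQ]
    refine (Nat.card_congr (Equiv.ofBijective ConjClasses.mk ⟨fun a b h => ?_, ConjClasses.mk_surjective⟩)).symm
    obtain ⟨k, hk⟩ := isConj_iff.1 (ConjClasses.mk_eq_mk_iff_isConj.1 h)
    rw [← hk, hcomm k, mul_inv_cancel_right]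
  have key := dvd_sub_or_add_one (fun β : IrrCharacter (K ⧸ N'') => (m (L β) : ℤ))
    (by rw [hcardI]; exact hn2) (by
      have h1 := hnorm
      rw [hsum2] at h1
      apply Int.cast_injective (α := ℂ)
      rw [hcardI]
      push_cast
      rw [hsum1]
      linear_combination h1)
  rw [hcardI, show ∑ β, (m (L β) : ℤ) = (e : ℤ) by exact_mod_cast hsum1] at key
  exact key


end Cfsg.Agent.S4454
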