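import Cfsg.Statements.S4457
import Cfsg.Agent.Lib.Char.TwoDegrees

set_option autoImplicit false
open Cfsg

namespace Cfsg.Agent.S4457

/-- Let G be a finite group whose irreducible character degrees are exactly 1 and m (m ≠ 1). Then either G has an abelian normal subgroup of index m, or m is a power of a prime p and G is the direct product of a p-group and an abelian group: there are normal subgroups P and A with P a p-group, A abelian, P ⊓ A = 1 and P ⊔ A = G. -/
theorem result {G : Type*} [Group G] [Finite G] (m : ℕ) (hcd : ∀ χ : Cfsg.IrrCharacter G, Cfsg.charDegree (χ : G → ℂ) = 1 ∨ Cfsg.charDegree (χ : G → ℂ) = m) (hm : ∃ χ : Cfsg.IrrCharacter G, Cfsg.charDegree (χ : G → ℂ) = m) (hm1 : m ≠ 1) : (∃ A : Subgroup G, A.Normal ∧ (∀ a ∈ A, ∀ b ∈ A, a * b = b * a) ∧ A.index = m) ∨ ∃ p e : ℕ, p.Prime ∧ m = p ^ e ∧ ∃ P A : Subgroup G, P.Normal ∧ A.Normal ∧ IsPGroup p P ∧ (∀ a ∈ A, ∀ b ∈ A, a * b = b * a) ∧ P ⊓ A = ⊥ ∧ P ⊔ A = ⊤ := by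
  haveI := Fintype.ofFinite G
  obtain ⟨χ₀, hχ₀⟩ := hm
  rw [Agent.Char.charDegree_eq_degree] at hχ₀
  have h1 : 1 < m := by
    have := Agent.Char.degree_pos χ₀
    omega
  rcases Agent.Char.exists_abelian_index_or_central h1
    (fun χ => by rw [← Agent.Char.charDegree_eq_degree]; exact hcd χ) ⟨χ₀, hχ₀⟩ with h | h
  · exact Or.inl h
  · obtain ⟨p, e, hp, he, H, hHZ, hH, k, hk⟩ := h
    haveI := Fact.mk hp
    let P : Sylow p G := default
    have hsup : (P : Subgroup G) ⊔ H = ⊤ := by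
      rw [← Subgroup.index_eq_one]
      obtain ⟨j, -, hj⟩ := (Nat.dvd_prime_pow hp).1 (hk ▸ Subgroup.index_dvd_of_le (le_sup_right : H ≤ (P : Subgroup G) ⊔ H))
      rcases j with _ | j
      · exact hj
      · exact absurd ((hj ▸ dvd_pow_self p j.succ_ne_zero).trans
          (Subgroup.index_dvd_of_le (le_sup_left : (P : Subgroup G) ≤ _))) P.not_dvd_index
    have hn : (P : Subgroup G).Normal := by
      rw [← Subgroup.normalizer_eq_top_iff, eq_top_iff, ← hsup, sup_le_iff]
      refine ⟨Subgroup.le_normalizer, hHZ.trans ?_⟩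
      exact Subgroup.center_le_normalizer _
    refine Or.inr ⟨p, e, hp, he, P, H, hn, ⟨fun x hx g => ?_⟩, P.2,
      fun a ha b hb => (Subgroup.mem_center_iff.1 (hHZ ha) b).symm, ?_, hsup⟩
    · rw [Subgroup.mem_center_iff.1 (hHZ hx) g]
      simpa using hx
    · obtain ⟨a, ha⟩ := (IsPGroup.iff_card (p := p)).1 P.2
      refine Subgroup.inf_eq_bot_of_coprime ?_
      rw [ha]
      exact Nat.Coprime.pow_left a (hp.coprime_iff_not_dvd.2 hH)


end Cfsg.Agent.S4457
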