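import Cfsg.Statements.S4459
import Cfsg.Agent.Lib.Char.DegreesOneP

set_option autoImplicit false
open Cfsg

namespace Cfsg.Agent.S4459

/-- Let G be a non-abelian finite group and p a prime. Then the irreducible character degrees of G are exactly 1 and p if and only if either G has an abelian normal subgroup of index p or the centre of G has index p³. -/
theorem result {G : Type*} [Group G] [Finite G] (hG : ∃ a b : G, a * b ≠ b * a) (p : ℕ) (hp : p.Prime) : ((∀ χ : Cfsg.IrrCharacter G, Cfsg.charDegree (χ : G → ℂ) = 1 ∨ Cfsg.charDegree (χ : G → ℂ) = p) ∧ ∃ χ : Cfsg.IrrCharacter G, Cfsg.charDegree (χ : G → ℂ) = p) ↔ ((∃ A : Subgroup G, A.Normal ∧ (∀ a ∈ A, ∀ b ∈ A, a * b = b * a) ∧ A.index = p) ∨ (Subgroup.center G).index = p ^ 3) := by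
  haveI := Fintype.ofFinite G
  simp only [Agent.Char.charDegree_eq_degree]
  constructor
  · exact fun h => Agent.Char.exists_abelian_index_or_center_index hp h.1 h.2
  · intro h
    have hcd : ∀ χ : Cfsg.IrrCharacter G, Agent.Char.degree χ = 1 ∨ Agent.Char.degree χ = p := by
      intro χ
      rcases h with h | h
      · obtain ⟨A, hAn, hAab, hA⟩ := h
        exact (Nat.dvd_prime hp).1 (hA ▸ Agent.Char.degree_dvd_index_of_comm A hAab χ)
      · have h1 : Agent.Char.degree χ ∣ p ^ 3 := h ▸ Agent.Char.degree_dvd_index_of_comm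
          (Subgroup.center G) (fun a _ b hb => Subgroup.mem_center_iff.1 hb a) χ
        have h2 := Agent.Char.sq_degree_le_index_center χ
        obtain ⟨j, -, hj⟩ := (Nat.dvd_prime_pow hp).1 h1
        rw [h, hj, ← pow_mul, Nat.pow_le_pow_iff_right hp.one_lt] at h2
        have : j ≤ 1 := by omega
        interval_cases j <;> simp_all
    refine ⟨hcd, ?_⟩
    by_contra! hall
    obtain ⟨a, b, hab⟩ := hG
    refine hab (Agent.Char.forall_apply_one_iff_comm.1 (fun χ => ?_) a b)
    rw [Agent.Char.apply_one_eq_degree, (hcd χ).resolve_right (hall χ), Nat.cast_one]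

end Cfsg.Agent.S4459
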