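import Cfsg.Statements.S4460
import Cfsg.Agent.Lib.ThreeDegrees.Induction

set_option autoImplicit false
open Cfsg

namespace Cfsg.Agent.S4460

/-- A finite group with exactly three distinct irreducible character degrees is solvable of derived length at most 3: its third derived subgroup is trivial. -/
theorem result {G : Type*} [Group G] [Finite G] (hcd : Nat.card {n : ℕ // ∃ χ : Cfsg.IrrCharacter G, Cfsg.charDegree (χ : G → ℂ) = n} = 3) : derivedSeries G 3 = ⊥ := by
  haveI := Fintype.ofFinite G
  set S : Set ℕ := {n : ℕ | ∃ χ : Cfsg.IrrCharacter G, Cfsg.charDegree (χ : G → ℂ) = n} with hS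
  have h3 : S.ncard = 3 := by rw [← Nat.card_coe_set_eq]; exact hcd
  obtain ⟨a, b, c, -, -, -, habc⟩ := Set.ncard_eq_three.1 h3
  have hmem : ∀ χ : Cfsg.IrrCharacter G,
      Cfsg.Agent.Char.degree χ ∈ ({a, b, c} : Set ℕ) := fun χ => by
    rw [← habc]
    exact ⟨χ, Cfsg.Agent.Char.charDegree_eq_degree χ⟩
  have h1 := hmem (Cfsg.Agent.Char.trivialChar G)
  rw [Cfsg.Agent.Char.degree_eq_of_apply_one (n := 1) (by simp [Cfsg.Agent.Char.trivialChar])] at h1
  simp only [Set.mem_insert_iff, Set.mem_singleton_iff] at h1 hmem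
  rcases h1 with rfl | rfl | rfl
  · exact Cfsg.Agent.ThreeDegrees.main _ G rfl b c hmem
  · exact Cfsg.Agent.ThreeDegrees.main _ G rfl a c fun χ => by
      rcases hmem χ with h | h | h <;> simp [h]
  · exact Cfsg.Agent.ThreeDegrees.main _ G rfl a b fun χ => by
      rcases hmem χ with h | h | h <;> simp [h]

end Cfsg.Agent.S4460
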