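import Cfsg.Statements.S4461
import Cfsg.Agent.Lib.Char.LargerDegree
import Cfsg.Agent.Lib.Components.Fitting
import Cfsg.Agent.Lib.Coprime.Basic
-- import your own Cfsg.Agent.* helpers here

set_option autoImplicit false
open Cfsg

namespace Cfsg.Agent.S4461


variable {G : Type*} [Group G]

theorem sylow_normal [Finite G] {p : ℕ} [Fact p.Prime] (S : Sylow p G) [Group.IsNilpotent G] :
    (S : Subgroup G).Normal :=
  ((Group.isNilpotent_of_finite_tfae (G := G)).out 0 3 rfl rfl).1 ‹_› p ‹_› S

/-- A Sylow subgroup of a nilpotent normal subgroup is normal. -/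
theorem normal_of_nilpotent [Finite G] {K P : Subgroup G} [K.Normal] [Group.IsNilpotent K] {p : ℕ}
    [Fact p.Prime] (hP : IsPGroup p P) (hPK : P ≤ K) (h : ¬ p ∣ P.relIndex K) : P.Normal := by
  let S : Sylow p K := (hP.comap_subtype (K := K)).toSylow h
  haveI : (S : Subgroup K).Characteristic := Sylow.characteristic_of_normal S (sylow_normal S)
  have e : ((S : Subgroup K).map K.subtype) = P := by
    show (P.subgroupOf K).map K.subtype = P
    rw [Subgroup.subgroupOf_map_subtype, inf_eq_left]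
    exact hPK
  rw [← e]
  infer_instance

theorem exists_nonnormal_sylow [Finite G] {A : Subgroup G} (hA : A.Normal)
    (h : ¬ Group.IsNilpotent A) :
    ∃ (q : ℕ) (Q : Subgroup G), q.Prime ∧ IsPGroup q Q ∧ Q ≤ A ∧ ¬ q ∣ Q.relIndex A ∧ ¬ Q.Normal := by
  by_contra hall
  push Not at hall
  apply h
  refine ((Group.isNilpotent_of_finite_tfae (G := A)).out 0 3 rfl rfl).2 fun p hp S => ?_
  have h1 := hall p ((S : Subgroup A).map A.subtype) hp.out (S.2.map _) (Subgroup.map_subtype_le _) (by
    show ¬ p ∣ (((S : Subgroup A).map A.subtype).subgroupOf A).index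
    rw [Subgroup.subgroupOf, Subgroup.comap_map_eq_self_of_injective A.subtype_injective]
    exact S.not_dvd_index)
  have h2 := h1.comap A.subtype
  rwa [Subgroup.comap_map_eq_self_of_injective A.subtype_injective] at h2

theorem exists_coatom_normalizer [Finite G] {Q : Subgroup G} (h : ¬ Q.Normal) :
    ∃ M : Subgroup G, IsCoatom M ∧ Subgroup.normalizer (Q : Set G) ≤ M := by
  rcases eq_top_or_exists_le_coatom (Subgroup.normalizer (Q : Set G)) with h1 | h1
  · exact absurd (Subgroup.normalizer_eq_top_iff.1 h1) h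
  · exact h1


/-- Let χ be an irreducible character of the finite group G and K its kernel (the elements where χ takes the value χ(1)). Suppose either that K is not contained in the Fitting subgroup F(G), or that K = F(G) with G/K solvable and K ≠ G. Then there is an irreducible character ψ of G with ψ(1) > χ(1) whose kernel is properly contained in K. -/
theorem result {G : Type*} [Group G] [Finite G] (χ : Cfsg.IrrCharacter G) (K : Subgroup G) [K.Normal] (hK : (∀ g : G, g ∈ K ↔ (χ : G → ℂ) g = (χ : G → ℂ) 1)) (h : ¬ K ≤ Cfsg.fittingSubgroup G ∨ (K = Cfsg.fittingSubgroup G ∧ Group.IsSolvable (G ⧸ K) ∧ K ≠ ⊤)) : ∃ ψ : Cfsg.IrrCharacter G, Cfsg.charDegree (χ : G → ℂ) < Cfsg.charDegree (ψ : G → ℂ) ∧ ∃ L : Subgroup G, (∀ g : G, g ∈ L ↔ (ψ : G → ℂ) g = (ψ : G → ℂ) 1) ∧ L < K := by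
  
  classical
  haveI := Fintype.ofFinite G
  rcases h with hKF | ⟨hKeq, hsolv, hKtop⟩
  · have hnil : ¬ Group.IsNilpotent K := fun hn =>
      hKF (Components.le_fittingSubgroup (hn := ‹K.Normal›))
    obtain ⟨p, P, hp, hP, hPK, hPi, hPn⟩ := exists_nonnormal_sylow ‹K.Normal› hnil
    haveI := Fact.mk hp
    obtain ⟨M, hM, hNM⟩ := exists_coatom_normalizer hPn
    have htop : ∀ N : Subgroup G, N.Normal → P ≤ N → N ≤ K → ¬ N ≤ M := by
      intro N hN hPN hNK hNM'
      refine hM.1 (top_le_iff.1 ?_)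
      rw [← Char.normalizer_sup_of_not_dvd_relIndex (N := N) hP hPN
        fun hd => hPi (hd.trans ⟨_, (Subgroup.relIndex_mul_relIndex P N K hPN hNK).symm⟩)]
      exact sup_le hNM hNM'
    have hKM : ¬ K ≤ M := htop K inferInstance hPK le_rfl
    refine (Char.exists_larger_or_vanish χ K hK hM hKM).resolve_right fun hv => ?_
    have hD : ∀ d ∈ K ⊓ M, d ∈ M.normalCore := fun d hd => hv d hd.2 (by
      rw [(hK d).1 hd.1]; exact Char.IsIrrCharacter.apply_one_ne_zero χ.2)
    refine htop (K ⊓ M.normalCore) inferInstance (le_inf hPK fun x hx =>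
      hD x ⟨hPK hx, hNM (Subgroup.le_normalizer hx)⟩) inf_le_left
      (inf_le_right.trans M.normalCore_le)
  · haveI hKnil : Group.IsNilpotent K := by
      rw [hKeq]; infer_instance
    haveI : Nontrivial (G ⧸ K) := QuotientGroup.nontrivial_iff.2 hKtop
    obtain ⟨p, Ab, hp, hAb, hAbne, hAbp⟩ := Coprime.exists_normal_isPGroup (G := G ⧸ K)
    haveI := Fact.mk hp
    set A0 := Ab.comap (QuotientGroup.mk' K) with hA0
    have hKA0 : K ≤ A0 := fun x hx => by
      rw [hA0, Subgroup.mem_comap, QuotientGroup.mk'_apply, (QuotientGroup.eq_one_iff x).2 hx]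
      exact Ab.one_mem
    have hA0p : ∃ k, K.relIndex A0 = p ^ k := by
      obtain ⟨k, hk⟩ := hAbp.exists_card_eq
      refine ⟨k, ?_⟩
      calc K.relIndex A0 = ((⊥ : Subgroup (G ⧸ K)).comap (QuotientGroup.mk' K)).relIndex A0 := by
            rw [MonoidHom.comap_bot, QuotientGroup.ker_mk']
        _ = _ := by
            rw [Subgroup.relIndex_comap, hA0,
              Subgroup.map_comap_eq_self_of_surjective (QuotientGroup.mk'_surjective K),
              Subgroup.relIndex_bot_left, hk]
    have hA0n : A0.Normal := hAb.comap _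
    have hA0ne : A0 ≠ K := by
      intro hh
      apply hAbne
      rw [← Subgroup.map_comap_eq_self_of_surjective (QuotientGroup.mk'_surjective K) Ab, ← hA0, hh,
        ← le_bot_iff, Subgroup.map_le_iff_le_comap, MonoidHom.comap_bot, QuotientGroup.ker_mk']
    obtain ⟨A, ⟨hAn, hKA, hAA0⟩, hAmin⟩ :=
      (Set.toFinite {N : Subgroup G | N.Normal ∧ K < N ∧ N ≤ A0}).exists_minimal
        ⟨A0, hA0n, lt_of_le_of_ne hKA0 hA0ne.symm, le_rfl⟩
    haveI := hAn
    have hAp : ∃ k, K.relIndex A = p ^ k := by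
      obtain ⟨k, hk⟩ := hA0p
      obtain ⟨j, -, hj⟩ := (Nat.dvd_prime_pow hp).1
        (hk ▸ ⟨_, (Subgroup.relIndex_mul_relIndex K A A0 hKA.le hAA0).symm⟩ : K.relIndex A ∣ p ^ k)
      exact ⟨j, hj⟩
    obtain ⟨k, hk⟩ := hAp
    have hnil : ¬ Group.IsNilpotent A := fun hn => hKA.not_ge
      (hKeq ▸ Components.le_fittingSubgroup (hn := hAn))
    obtain ⟨q, Q, hq, hQ, hQA, hQi, hQn⟩ := exists_nonnormal_sylow hAn hnil
    haveI := Fact.mk hq
    have hqp : q = p := by
      by_contra hne
      have hQK : Q ≤ K := Char.le_of_isPGroup_of_not_dvd_relIndex hQ hQA fun hd => hne (by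
        rw [hk] at hd
        exact (Nat.prime_dvd_prime_iff_eq hq hp).1 (hq.dvd_of_dvd_pow hd))
      exact hQn (normal_of_nilpotent hQ hQK fun hd =>
        hQi (hd.trans ⟨_, (Subgroup.relIndex_mul_relIndex Q K A hQK hKA.le).symm⟩))
    subst hqp
    obtain ⟨M, hM, hNM⟩ := exists_coatom_normalizer hQn
    have hQM : Q ≤ M := Subgroup.le_normalizer.trans hNM
    have htop : ∀ N : Subgroup G, N.Normal → Q ≤ N → N ≤ A → ¬ N ≤ M := by
      intro N hN hQN hNA hNM'
      refine hM.1 (top_le_iff.1 ?_)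
      rw [← Char.normalizer_sup_of_not_dvd_relIndex (N := N) hQ hQN
        fun hd => hQi (hd.trans ⟨_, (Subgroup.relIndex_mul_relIndex Q N A hQN hNA).symm⟩)]
      exact sup_le hNM hNM'
    have hKQ : K ⊔ Q = A := by
      refine le_antisymm (sup_le hKA.le hQA) ?_
      rw [← Subgroup.relIndex_eq_one]
      have h1 : (K ⊔ Q).relIndex A ∣ q ^ k := hk ▸ Subgroup.relIndex_dvd_of_le_left A le_sup_left
      have h2 : (K ⊔ Q).relIndex A ∣ Q.relIndex A := Subgroup.relIndex_dvd_of_le_left A le_sup_right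
      obtain ⟨j, -, hj⟩ := (Nat.dvd_prime_pow hq).1 h1
      rcases Nat.eq_zero_or_pos j with rfl | hjp
      · rw [hj, pow_zero]
      · exact absurd ((dvd_pow_self q hjp.ne').trans (hj ▸ h2)) hQi
    have hKM : ¬ K ≤ M := fun hh => htop A hAn hQA le_rfl (hKQ ▸ sup_le hh hQM)
    refine (Char.exists_larger_or_vanish χ K hK hM hKM).resolve_right fun hv => ?_
    set A1 := A ⊓ M.normalCore with hA1
    have hA1K : ¬ A1 ≤ K := by
      intro hle
      haveI : Fintype A := Fintype.ofFinite A
      have hnt : ¬ Char.TrivOn A χ.1 := fun ht => hKA.not_ge fun x hx => (hK x).2 (ht x hx)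
      have h0 := Char.sum_coset_eq_zero_of_not_trivOn A χ hnt 1
      simp only [one_mul] at h0
      have hval : ∀ a : A, χ.1 a = if (a : G) ∈ K then χ.1 1 else 0 := by
        intro a
        split_ifs with ha
        · exact (hK _).1 ha
        · obtain ⟨x, hx, y, hy, hxy⟩ :=
            Subgroup.mem_sup_of_normal_left.1 (hKQ.symm ▸ a.2 : (a : G) ∈ K ⊔ Q)
          rw [← hxy, CharInt.char_mul_of_mem_kernel (Char.irr_isCharacter χ) ((hK x).1 hx)]
          by_contra hne
          exact ha (hxy ▸ K.mul_mem hx (hle ⟨hQA hy, hv y (hQM hy) hne⟩))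
      simp only [hval, ← Finset.sum_filter, Finset.sum_const, nsmul_eq_mul] at h0
      rcases mul_eq_zero.1 h0 with h1 | h1
      · exact (Finset.card_pos.2 ⟨(1 : A), by simp [K.one_mem]⟩).ne' (Nat.cast_eq_zero.1 h1)
      · exact Char.IsIrrCharacter.apply_one_ne_zero χ.2 h1
    haveI : A1.Normal := hA1 ▸ inferInstance
    have hB : K ⊔ A1 = A := by
      refine le_antisymm (sup_le hKA.le inf_le_left) ?_
      refine hAmin ⟨inferInstance, lt_of_le_of_ne le_sup_left fun hh => hA1K ?_,
        (sup_le hKA.le inf_le_left).trans hAA0⟩ (sup_le hKA.le inf_le_left)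
      rw [hh]; exact le_sup_right
    -- the Sylow `q`-subgroup of `K`
    obtain ⟨S⟩ : Nonempty (Sylow q K) := inferInstance
    set P0 := (S : Subgroup K).map K.subtype
    have hP0K : P0 ≤ K := Subgroup.map_subtype_le _
    have hP0i : ¬ q ∣ P0.relIndex K := by
      show ¬ q ∣ (P0.subgroupOf K).index
      rw [Subgroup.subgroupOf, Subgroup.comap_map_eq_self_of_injective K.subtype_injective]
      exact S.not_dvd_index
    haveI hP0n : P0.Normal := normal_of_nilpotent (S.2.map _) hP0K hP0i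
    have hP0Q : P0 ≤ Q := by
      have hpg : IsPGroup q (P0 ⊔ Q : Subgroup G) := (S.2.map K.subtype).to_sup_of_normal_left hQ
      obtain ⟨j, hj⟩ := hpg.index (Q.subgroupOf (P0 ⊔ Q))
      have hj' : Q.relIndex (P0 ⊔ Q) = q ^ j := hj
      rcases Nat.eq_zero_or_pos j with rfl | hjp
      · rw [pow_zero, Subgroup.relIndex_eq_one] at hj'
        exact le_sup_left.trans hj'
      · exfalso
        have h1 : Q.relIndex (P0 ⊔ Q) ∣ Q.relIndex A :=
          ⟨_, (Subgroup.relIndex_mul_relIndex Q (P0 ⊔ Q) A le_sup_right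
            (sup_le (hP0K.trans hKA.le) hQA)).symm⟩
        rw [hj'] at h1
        exact hQi ((dvd_pow_self q hjp.ne').trans h1)
    have hP0A1 : P0 ≤ A1 :=
      le_inf (hP0K.trans hKA.le) (Subgroup.normal_le_normalCore.2 (hP0Q.trans hQM))
    have hA1i : ¬ q ∣ A1.relIndex A := by
      rw [← hB, Subgroup.relIndex_sup_right]
      exact fun hd => hP0i (hd.trans (Subgroup.relIndex_dvd_of_le_left K hP0A1))
    exact htop A1 inferInstance (Char.le_of_isPGroup_of_not_dvd_relIndex hQ hQA hA1i)
      inf_le_left (inf_le_right.trans M.normalCore_le)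


end Cfsg.Agent.S4461
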