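import Cfsg.Statements.S4462
import Cfsg.Agent.S4461
-- import your own Cfsg.Agent.* helpers here

set_option autoImplicit false
open Cfsg

namespace Cfsg.Agent.S4462


universe u

theorem chain (n : ℕ) : ∀ (G : Type u) [Group G] [Finite G], Group.IsSolvable G →
    Nat.card {d : ℕ // ∃ χ : IrrCharacter G, charDegree χ.1 = d} ≤ n →
    ∃ N : Fin (n + 1) → Subgroup G, N 0 = ⊥ ∧ N (Fin.last n) = ⊤ ∧ Monotone N ∧
      (∀ i, (N i).Normal) ∧ ∀ i : Fin n, ∀ _h : (N i.castSucc).subgroupOf (N i.succ) |>.Normal,
        Group.IsNilpotent (↥(N i.succ) ⧸ (N i.castSucc).subgroupOf (N i.succ)) := by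
  induction n with
  | zero =>
    intro G _ _ _ hcd
    exfalso
    haveI : Finite {d : ℕ // ∃ χ : IrrCharacter G, charDegree χ.1 = d} :=
      Set.finite_range (fun χ : IrrCharacter G => charDegree χ.1) |>.to_subtype
    haveI : Nonempty {d : ℕ // ∃ χ : IrrCharacter G, charDegree χ.1 = d} :=
      ⟨⟨_, Char.trivialChar G, rfl⟩⟩
    have := Nat.card_pos (α := {d : ℕ // ∃ χ : IrrCharacter G, charDegree χ.1 = d})
    omega
  | succ n ih =>
    intro G _ _ hsolv hcd
    haveI := hsolv
    set F := fittingSubgroup G with hF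
    by_cases hFtop : F = ⊤
    · refine ⟨fun i => if i = 0 then ⊥ else ⊤, if_pos rfl, ?_, ?_, ?_, ?_⟩
      · exact if_neg (Fin.last_pos.ne')
      · intro i j hij
        by_cases hi : i = 0
        · simp [hi]
        · have hj : j ≠ 0 := fun h => hi (le_antisymm (h ▸ hij) (Fin.zero_le _))
          simp [hi, hj]
      · intro i
        by_cases hi : i = 0
        · simp only [if_pos hi]; infer_instance
        · simp only [if_neg hi]; infer_instance
      · intro i _
        haveI : Group.IsNilpotent G := by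
          haveI : Group.IsNilpotent (⊤ : Subgroup G) := hFtop ▸ (inferInstance : Group.IsNilpotent F)
          exact Group.nilpotent_of_mulEquiv Subgroup.topEquiv
        infer_instance
    haveI : Finite {d : ℕ // ∃ χ : IrrCharacter G, charDegree χ.1 = d} :=
      Set.finite_range (fun χ : IrrCharacter G => charDegree χ.1) |>.to_subtype
    have hsmall : Nat.card {d : ℕ // ∃ χ : IrrCharacter (G ⧸ F), charDegree χ.1 = d} ≤ n := by
      haveI : Nonempty {d : ℕ // ∃ χ : IrrCharacter G, charDegree χ.1 = d} :=
        ⟨⟨_, Char.trivialChar G, rfl⟩⟩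
      obtain ⟨⟨dmax, χm, hχm⟩, hmax⟩ := Finite.exists_max
        (fun d : {d : ℕ // ∃ χ : IrrCharacter G, charDegree χ.1 = d} => d.1)
      let infl : IrrCharacter (G ⧸ F) → IrrCharacter G := fun χ =>
        ⟨χ.1 ∘ (QuotientGroup.mk' F),
          Char.IsIrrCharacter.comp_surjective χ.2 (QuotientGroup.mk' F) (QuotientGroup.mk'_surjective F)⟩
      have hdeg : ∀ χ, charDegree (infl χ).1 = charDegree χ.1 := fun χ => by
        simp [infl, charDegree]
      have hlt : ∀ χ, charDegree (infl χ).1 ≠ dmax := by
        intro χ he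
        set χ' := infl χ with hχ'
        let K : Subgroup G := CharInt.charKernel (Char.irr_isCharacter χ')
        haveI : K.Normal := CharInt.charKernel_normal _
        have hFK : F ≤ K := fun g hg => by
          show χ.1 (g : G ⧸ F) = χ.1 ((1 : G) : G ⧸ F)
          rw [(QuotientGroup.eq_one_iff g).2 hg, QuotientGroup.mk_one]
        have hcase : ¬ K ≤ F ∨ (K = F ∧ Group.IsSolvable (G ⧸ K) ∧ K ≠ ⊤) := by
          by_cases hle : K ≤ F
          · exact Or.inr ⟨le_antisymm hle hFK, inferInstance, fun h => hFtop (top_le_iff.1 (h ▸ hle))⟩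
          · exact Or.inl hle
        obtain ⟨ψ, hψ, -⟩ := Cfsg.Agent.S4461.result χ' K (fun g => Iff.rfl) hcase
        have := hmax ⟨_, ψ, rfl⟩
        simp only at this
        omega
      let f : {d : ℕ // ∃ χ : IrrCharacter (G ⧸ F), charDegree χ.1 = d} →
          {d : ℕ // ∃ χ : IrrCharacter G, charDegree χ.1 = d} := fun d =>
        ⟨d.1, by obtain ⟨χ, hχ⟩ := d.2; exact ⟨infl χ, (hdeg χ).trans hχ⟩⟩
      haveI := Fintype.ofFinite {d : ℕ // ∃ χ : IrrCharacter G, charDegree χ.1 = d}
      haveI : Finite {d : ℕ // ∃ χ : IrrCharacter (G ⧸ F), charDegree χ.1 = d} :=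
        Set.finite_range (fun χ : IrrCharacter (G ⧸ F) => charDegree χ.1) |>.to_subtype
      haveI := Fintype.ofFinite {d : ℕ // ∃ χ : IrrCharacter (G ⧸ F), charDegree χ.1 = d}
      have := Fintype.card_lt_of_injective_of_notMem f
        (fun a b h => Subtype.ext (congrArg Subtype.val h :)) (b := ⟨dmax, χm, hχm⟩) (by
          rintro ⟨⟨d, χ, hχ⟩, hd⟩
          exact hlt χ ((hdeg χ).trans (hχ.trans (congrArg Subtype.val hd))))
      rw [← Nat.card_eq_fintype_card, ← Nat.card_eq_fintype_card] at this
      omega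
    obtain ⟨N', h0, h1, hmono, hnor, hnil⟩ := ih (G ⧸ F) inferInstance hsmall
    refine ⟨Fin.cons ⊥ fun i => (N' i).comap (QuotientGroup.mk' F), Fin.cons_zero _ _, ?_, ?_, ?_, ?_⟩
    · rw [← Fin.succ_last, Fin.cons_succ, h1, Subgroup.comap_top]
    · refine Fin.monotone_iff_le_succ.2 fun i => ?_
      refine Fin.cases ?_ (fun j => ?_) i
      · simp
      · rw [← Fin.succ_castSucc, Fin.cons_succ, Fin.cons_succ]
        exact Subgroup.comap_mono (hmono j.castSucc_le_succ)
    · intro i
      refine Fin.cases ?_ (fun j => ?_) i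
      · rw [Fin.cons_zero]; infer_instance
      · rw [Fin.cons_succ]; exact (hnor j).comap _
    · intro i
      have key : ∀ {X Y X' Y' : Subgroup G}, X = X' → Y = Y' →
          (∀ _h : (X'.subgroupOf Y').Normal, Group.IsNilpotent (Y' ⧸ X'.subgroupOf Y')) →
          ∀ _h : (X.subgroupOf Y).Normal, Group.IsNilpotent (Y ⧸ X.subgroupOf Y) := by
        rintro X Y X' Y' rfl rfl h
        exact h
      refine Fin.cases ?_ (fun j => ?_) i
      · refine key (Fin.cons_zero _ _) (Fin.cons_succ _ _ _) fun h => ?_
        have e : (N' 0).comap (QuotientGroup.mk' F) = F := by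
          rw [h0, MonoidHom.comap_bot, QuotientGroup.ker_mk']
        haveI : Group.IsNilpotent ↥((N' 0).comap (QuotientGroup.mk' F)) :=
          e.symm ▸ (inferInstance : Group.IsNilpotent F)
        infer_instance
      · refine key (X' := (N' j.castSucc).comap (QuotientGroup.mk' F))
          (by rw [← Fin.succ_castSucc, Fin.cons_succ]) (Fin.cons_succ _ _ _) fun h => ?_
        set B := N' j.castSucc
        set A := N' j.succ
        haveI : B.Normal := hnor _
        haveI := hnil j inferInstance
        let π : ↥(A.comap (QuotientGroup.mk' F)) →* A ⧸ B.subgroupOf A :=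
          (QuotientGroup.mk' (B.subgroupOf A)).comp
            (((QuotientGroup.mk' F).comp (A.comap (QuotientGroup.mk' F)).subtype).codRestrict A
              fun x => x.2)
        have hπ : Function.Surjective π := fun a => by
          obtain ⟨⟨a, ha⟩, rfl⟩ := QuotientGroup.mk_surjective a
          obtain ⟨x, rfl⟩ := QuotientGroup.mk_surjective a
          exact ⟨⟨x, ha⟩, rfl⟩
        have hker : π.ker = (B.comap (QuotientGroup.mk' F)).subgroupOf (A.comap (QuotientGroup.mk' F)) := by
          ext x
          rw [MonoidHom.mem_ker]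
          exact QuotientGroup.eq_one_iff _
        exact Group.nilpotent_of_mulEquiv
          (((QuotientGroup.quotientMulEquivOfEq hker.symm).trans
            (QuotientGroup.quotientKerEquivOfSurjective π hπ))).symm


/-- Let G be a finite solvable group with exactly n distinct irreducible character degrees. Then G has normal subgroups 1 = N₀ ≤ N₁ ≤ ⋯ ≤ Nₙ = G with every quotient N_{i+1}/N_i nilpotent (the nilpotent length of G is at most n). -/
theorem result {G : Type*} [Group G] [Finite G] (hsolv : Group.IsSolvable G) (n : ℕ) (hcd : Nat.card {d : ℕ // ∃ χ : Cfsg.IrrCharacter G, Cfsg.charDegree (χ : G → ℂ) = d} = n) : ∃ N : Fin (n + 1) → Subgroup G, N 0 = ⊥ ∧ N (Fin.last n) = ⊤ ∧ Monotone N ∧ (∀ i, (N i).Normal) ∧ ∀ i : Fin n, ∀ h : (N i.castSucc).subgroupOf (N i.succ) |>.Normal, Group.IsNilpotent (↥(N i.succ) ⧸ (N i.castSucc).subgroupOf (N i.succ)) := by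
  
  exact chain n G hsolv hcd.le


end Cfsg.Agent.S4462
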