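import Cfsg.Statements.S4811
import Cfsg.Agent.Lib.Char.Descend
import Cfsg.Agent.Lib.Char.InducedEq
import Cfsg.Agent.Lib.Char.Gallagher
import Cfsg.Agent.Lib.Clifford.CoprimeExtension
import Cfsg.Agent.S0887
import Mathlib.GroupTheory.Nilpotent
-- import your own Cfsg.Agent.* helpers here

set_option autoImplicit false
open Cfsg

namespace Cfsg.Agent.S4811

open scoped commutatorElement

section Structure
variable {Q : Type*} [Group Q] [Finite Q]

theorem structure_quot [Group.IsSolvable Q] (hna : commutator Q ≠ ⊥)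
    (hmin : ∀ L : Subgroup Q, L.Normal → L ≠ ⊥ → commutator Q ≤ L) :
    (∃ p : ℕ, p.Prime ∧ IsPGroup p Q) ∨
      ∃ q : ℕ, q.Prime ∧ (∀ x ∈ commutator Q, x ^ q = 1) ∧
        (∀ x ∈ commutator Q, ∀ y ∈ commutator Q, x * y = y * x) ∧
        commutator Q ≠ ⊤ ∧
        ∀ g : Q, g ∉ commutator Q → ∀ x ∈ commutator Q, g * x = x * g → x = 1 := by
  classical
  set M := commutator Q with hM
  have hlt : ⁅M, M⁆ ≠ M := by
    intro h
    obtain ⟨n, hn⟩ := (Group.IsSolvable.solvable (G := Q))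
    have key : ∀ k, M ≤ derivedSeries Q k := by
      intro k
      induction k with
      | zero => simp
      | succ k ih => rw [derivedSeries_succ, ← h]; exact Subgroup.commutator_mono ih ih
    exact hna (le_bot_iff.1 (hn ▸ key n))
  have hab : ⁅M, M⁆ = ⊥ := by
    by_contra h
    exact hlt (le_antisymm (Subgroup.commutator_le_self M) (hmin _ inferInstance h))
  have hcomm : ∀ x ∈ M, ∀ y ∈ M, x * y = y * x := fun x hx y hy =>
    commutatorElement_eq_one_iff_mul_comm.1
      (Subgroup.mem_bot.1 (hab ▸ Subgroup.commutator_mem_commutator hx hy))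
  have hMtop : M ≠ ⊤ := by
    intro h
    exact hlt (by rw [h]; exact h)
  obtain ⟨q, hq, hqd⟩ := Nat.exists_prime_and_dvd
    (n := Nat.card M) (fun h => hna (M.eq_bot_of_card_eq h))
  haveI := Fact.mk hq
  have hexp : ∀ x ∈ M, x ^ q = 1 := by
    let T : Subgroup Q :=
      { carrier := {x | x ∈ M ∧ x ^ q = 1}
        one_mem' := ⟨one_mem _, one_pow _⟩
        mul_mem' := fun {a b} ha hb => ⟨mul_mem ha.1 hb.1, by
          rw [(show Commute a b from hcomm a ha.1 b hb.1).mul_pow, ha.2, hb.2, mul_one]⟩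
        inv_mem' := fun {a} ha => ⟨inv_mem ha.1, by rw [inv_pow, ha.2, inv_one]⟩ }
    haveI : T.Normal := ⟨fun x hx g => ⟨(inferInstance : (commutator Q).Normal).conj_mem x hx.1 g,
      by rw [conj_pow, hx.2, mul_one, mul_inv_cancel]⟩⟩
    obtain ⟨x, hx⟩ := exists_prime_orderOf_dvd_card' q hqd
    have hxT : (x : Q) ∈ T := ⟨x.2, by
      rw [← SubmonoidClass.coe_pow, ← hx, pow_orderOf_eq_one]; rfl⟩
    have hT : T ≠ ⊥ := by
      intro h
      rw [h, Subgroup.mem_bot, OneMemClass.coe_eq_one] at hxT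
      rw [hxT, orderOf_one] at hx
      exact hq.one_lt.ne hx
    exact fun y hy => (hmin T inferInstance hT hy).2
  by_cases hcen : M ≤ Subgroup.center Q
  · refine Or.inl ⟨q, hq, ?_⟩
    haveI hnil : Group.IsNilpotent Q := by
      have hker : (Abelianization.of (G := Q)).ker ≤ Subgroup.center Q := by
        rw [Abelianization.ker_of]; exact hcen
      exact Subgroup.isNilpotent_of_ker_le_center _ hker
    have hZ : ∀ L : Subgroup Q, L.Normal → L ≠ ⊥ → q ∣ Nat.card L := fun L hL hne =>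
      hqd.trans (Subgroup.card_dvd_of_le (hmin L hL hne))
    rw [IsPGroup.iff_card]
    refine ⟨(Nat.card Q).primeFactorsList.length, Nat.eq_prime_pow_of_unique_prime_dvd (p := q) Nat.card_pos.ne' ?_⟩
    intro d hd hdd
    haveI := Fact.mk hd
    obtain ⟨S⟩ : Nonempty (Sylow d Q) := inferInstance
    have hSn : (S : Subgroup Q).Normal := (Group.isNilpotent_of_finite_tfae.out 0 3 rfl rfl).1 hnil d ‹_› S
    have hne : (S : Subgroup Q) ≠ ⊥ := by
      intro h
      have := S.dvd_card_of_dvd_card hdd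
      rw [h, Subgroup.card_bot] at this
      exact hd.one_lt.ne' (Nat.dvd_one.1 this)
    obtain ⟨k, hk⟩ := IsPGroup.iff_card.1 S.isPGroup'
    have := hZ _ hSn hne
    rw [hk] at this
    exact ((Nat.prime_dvd_prime_iff_eq hq hd).1 (hq.dvd_of_dvd_pow this)).symm
  · refine Or.inr ⟨q, hq, hexp, hcomm, hMtop, ?_⟩
    obtain ⟨H, hH, hHM⟩ : ∃ H : Subgroup Q, IsCoatom H ∧ ¬ M ≤ H := by
      by_contra h
      push Not at h
      haveI hnil : Group.IsNilpotent Q := by
        apply (Group.isNilpotent_of_finite_tfae.out 0 2 rfl rfl).2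
        intro H hH
        refine ⟨fun x hx g => ?_⟩
        have h1 : ⁅g, x⁆ ∈ H :=
          h H hH (Subgroup.commutator_mem_commutator (Subgroup.mem_top g) (Subgroup.mem_top x))
        have := mul_mem h1 hx
        simpa [commutatorElement_def] using this
      haveI : Nontrivial Q := by
        by_contra hQ
        rw [not_nontrivial_iff_subsingleton] at hQ
        exact hna (Subsingleton.elim _ _)
      exact hcen (hmin _ inferInstance (Group.IsNilpotent.center_ne_bot (G := Q)))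
    have hsup : H ⊔ M = ⊤ := hH.2 _ (lt_of_le_of_ne le_sup_left (fun h => hHM (h ▸ le_sup_right)))
    have hmn : ∀ g : Q, ∃ h ∈ H, ∃ m ∈ M, g = h * m := fun g => by
      have : g ∈ H ⊔ M := hsup ▸ Subgroup.mem_top g
      obtain ⟨h, hh, m, hm, rfl⟩ := Subgroup.mem_sup_of_normal_right.1 this
      exact ⟨h, hh, m, hm, rfl⟩
    have hMn : M.Normal := inferInstance
    have nrm : ∀ L : Subgroup Q, (∀ h ∈ H, ∀ x ∈ L, h * x * h⁻¹ ∈ L) →
        (∀ m ∈ M, ∀ x ∈ L, m * x * m⁻¹ ∈ L) → L.Normal := fun L h1 h2 => ⟨fun x hx g => by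
      obtain ⟨h, hh, m, hm, rfl⟩ := hmn g
      have := h1 h hh _ (h2 m hm x hx)
      simpa [mul_assoc] using this⟩
    have hHM1 : ∀ x ∈ H, x ∈ M → x = 1 := by
      have hn : (H ⊓ M).Normal := nrm _
        (fun h hh x hx => ⟨H.mul_mem (H.mul_mem hh hx.1) (H.inv_mem hh), hMn.conj_mem x hx.2 h⟩)
        (fun m hm x hx => by rw [hcomm m hm x hx.2, mul_inv_cancel_right]; exact hx)
      by_cases h0 : H ⊓ M = ⊥
      · exact fun x h1 h2 => Subgroup.mem_bot.1 (h0 ▸ (⟨h1, h2⟩ : x ∈ H ⊓ M))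
      · exact absurd ((hmin _ hn h0).trans inf_le_left) hHM
    have hHab : ∀ x ∈ H, ∀ y ∈ H, x * y = y * x := fun x hx y hy =>
      commutatorElement_eq_one_iff_mul_comm.1 (hHM1 _
        (by rw [commutatorElement_def]; exact H.mul_mem (H.mul_mem (H.mul_mem hx hy) (H.inv_mem hx)) (H.inv_mem hy))
        (Subgroup.commutator_mem_commutator (Subgroup.mem_top x) (Subgroup.mem_top y)))
    intro g hg x hx hgx
    obtain ⟨h, hh, m, hm, rfl⟩ := hmn g
    have hhx : h * x = x * h := by
      have h1 : h * x * m = x * h * m := by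
        rw [mul_assoc, ← hcomm m hm x hx, ← mul_assoc, hgx, mul_assoc]
      exact mul_right_cancel h1
    have hh1 : h ≠ 1 := fun h0 => hg (by simpa [h0] using hm)
    by_contra hx1
    -- the fixed points of `h` in `M` form a normal subgroup
    have hn : (M ⊓ Subgroup.centralizer {h}).Normal := nrm _
      (fun k hk y hy => ⟨hMn.conj_mem y hy.1 k, by
        refine Subgroup.mem_centralizer_singleton_iff.2 ?_
        have := Subgroup.mem_centralizer_singleton_iff.1 hy.2
        have e1 : Commute h y := this.symm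
        have e2 : Commute h k := hHab h hh k hk
        exact ((e2.mul_right e1).mul_right e2.inv_right).eq.symm⟩)
      (fun k hk y hy => by rw [hcomm k hk y hy.1, mul_inv_cancel_right]; exact hy)
    have hne : M ⊓ Subgroup.centralizer {h} ≠ ⊥ := fun h0 => hx1 (Subgroup.mem_bot.1
      (h0 ▸ (⟨hx, Subgroup.mem_centralizer_singleton_iff.2 hhx.symm⟩ : x ∈ M ⊓ Subgroup.centralizer {h})))
    have hcm : ∀ y ∈ M, h * y = y * h := fun y hy =>
      (Subgroup.mem_centralizer_singleton_iff.1 ((hmin _ hn hne hy).2)).symm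
    -- so the centraliser of `M` in `H` is a normal subgroup, hence trivial
    have hn2 : (H ⊓ Subgroup.centralizer (M : Set Q)).Normal := nrm _
      (fun k hk y hy => by rw [hHab k hk y hy.1, mul_inv_cancel_right]; exact hy)
      (fun k hk y hy => by
        rw [Subgroup.mem_centralizer_iff.1 hy.2 k hk, mul_inv_cancel_right]; exact hy)
    have hne2 : H ⊓ Subgroup.centralizer (M : Set Q) ≠ ⊥ := fun h0 => hh1 (Subgroup.mem_bot.1
      (h0 ▸ (⟨hh, Subgroup.mem_centralizer_iff.2 fun y hy => (hcm y hy).symm⟩ :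
        h ∈ H ⊓ Subgroup.centralizer (M : Set Q))))
    exact hHM ((hmin _ hn2 hne2).trans inf_le_left)


end Structure

theorem conn_of_dvd {G : Type*} [Group G] {a b d : ℕ} (ha : a ∈ Cfsg.degreePrimes G)
    (hb : b ∈ Cfsg.degreePrimes G) (hd : d ∈ Cfsg.charDegrees G) (had : a ∣ d) (hbd : b ∣ d) :
    ((Cfsg.degreeGraph G).induce (Cfsg.degreePrimes G)).Reachable ⟨a, ha⟩ ⟨b, hb⟩ := by
  rcases eq_or_ne a b with rfl | hne
  · exact SimpleGraph.Reachable.refl _
  · exact SimpleGraph.Adj.reachable (u := (⟨a, ha⟩ : Cfsg.degreePrimes G))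
      ⟨hne, ha.1, hb.1, d, hd,
        ((Nat.coprime_primes ha.1 hb.1).2 hne).mul_dvd_of_dvd_of_dvd had hbd⟩

theorem card_components_le_two {V : Type*} (H : SimpleGraph V) (u w : V)
    (h : ∀ v, H.Reachable v u ∨ H.Reachable v w) : Nat.card H.ConnectedComponent ≤ 2 := by
  have hs : Function.Surjective (fun b : Bool => if b then H.connectedComponentMk u else H.connectedComponentMk w) := by
    intro c
    induction c using SimpleGraph.ConnectedComponent.ind with
    | h v =>
      rcases h v with h | h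
      · exact ⟨true, (SimpleGraph.ConnectedComponent.eq.2 h).symm⟩
      · exact ⟨false, (SimpleGraph.ConnectedComponent.eq.2 h).symm⟩
  simpa using Nat.card_le_card_of_surjective _ hs

/-- Restriction to a normal subgroup of `p`-power index of a character of `p'`-degree. -/
theorem resFun_irr {G : Type*} [Group G] [Fintype G] (K : Subgroup G) [K.Normal] [Fintype K] {p : ℕ}
    (hp : p.Prime) (hK : ∃ k, K.index = p ^ k) (χ : Cfsg.IrrCharacter G)
    (hχ : ¬ p ∣ Cfsg.charDegree χ.1) : Cfsg.IsIrrCharacter K (Char.resFun K χ.1) := by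
  obtain ⟨k, hk⟩ := hK
  obtain ⟨θ, hθ⟩ := Char.exists_constituent K χ
  obtain ⟨h1, h2⟩ := S0887.result K χ.1 χ.2 θ.1 θ.2 hθ _ _ (Char.charDegree_cast χ).symm
    (Char.charDegree_cast θ).symm
  obtain ⟨r, hr⟩ := h1
  rw [hr, Nat.mul_div_cancel_left _ (Char.charDegree_pos θ), hk] at h2
  obtain ⟨i, -, hi⟩ := (Nat.dvd_prime_pow hp).1 h2
  have hi0 : i = 0 := by
    by_contra h0
    exact hχ (hr ▸ Dvd.dvd.mul_left (hi ▸ dvd_pow_self p h0) _)
  rw [hi, hi0, pow_zero, mul_one] at hr
  have heq : Char.resFun K χ.1 = θ.1 :=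
    Char.eq_of_constituent_degree (Char.IsCharacter.restrict (Char.irr_isCharacter χ) K) θ hθ
      (by show χ.1 ((1 : K) : G) = θ.1 1
          rw [OneMemClass.coe_one, ← Char.charDegree_cast χ, ← Char.charDegree_cast θ, hr])
  rw [heq]
  exact θ.2

/-- A fixed-point-free abelian action forces one of any two members of a coset to be moved. -/
theorem exists_full_degree {G : Type*} [Group G] [Fintype G] (F K : Subgroup G) [F.Normal]
    (hKnormal : ∀ h : G, ∀ k ∈ K, h * k * h⁻¹ ∈ K)
    (hG' : commutator G ≤ F) (q : ℕ) (hq : q.Prime) (hKF : ∀ x ∈ F, x ^ q ∈ K)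
    (hfix : ∀ g : G, g ∉ F → ∀ ν : F →* ℂ, (∀ k : F, (k : G) ∈ K → ν k = 1) →
      (∀ x : F, ν (MulAut.conjNormal g x) = ν x) → ν = 1)
    (hex : ∃ ν : F →* ℂ, (∀ k : F, (k : G) ∈ K → ν k = 1) ∧ ν ≠ 1)
    (θ : Cfsg.IrrCharacter F) (hθ : ¬ q ∣ Cfsg.charDegree θ.1) :
    F.index * Cfsg.charDegree θ.1 ∈ Cfsg.charDegrees G := by
  classical
  haveI := Fintype.ofFinite F
  suffices h : ∃ θ' : Cfsg.IrrCharacter F, θ'.1 1 = θ.1 1 ∧
      ∀ g, Char.conjFun F θ'.1 g = θ'.1 → g ∈ F by
    obtain ⟨θ', h1, h2⟩ := h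
    have hirr := Char.isIrrCharacter_indFun_inertia F F le_rfl θ' h2 (ψ := θ') (e := 1) one_ne_zero
      (fun n => by rw [Nat.cast_one, one_mul])
    refine ⟨⟨_, hirr⟩, ?_⟩
    apply Nat.cast_injective (R := ℂ)
    rw [Char.charDegree_cast]
    show Cfsg.indFun F θ'.1 1 = _
    rw [Char.indFun_apply_one, Nat.cast_mul, Char.charDegree_cast, h1]
  by_contra hno
  push Not at hno
  set n := Char.degree θ
  set δ := Clifford.detChar θ with hδ
  obtain ⟨ν₀, hν₀K, hν₀⟩ := hex
  -- an element outside `F` fixing a twist fixes the twisted determinant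
  have key : ∀ ν : F →* ℂ, (∀ k : F, (k : G) ∈ K → ν k = 1) →
      ∃ g, g ∉ F ∧ ∀ x : F, ν (MulAut.conjNormal g x) ^ n * δ (MulAut.conjNormal g x) = ν x ^ n * δ x := by
    intro ν _
    obtain ⟨g, hg, hgF⟩ := hno ⟨⇑ν * θ.1, Char.IsIrrCharacter.mul_linear θ.2 ν⟩
      (by show ν 1 * θ.1 1 = θ.1 1; rw [map_one, one_mul])
    refine ⟨g, hgF, fun x => ?_⟩
    set θ' : Cfsg.IrrCharacter F := ⟨⇑ν * θ.1, Char.IsIrrCharacter.mul_linear θ.2 ν⟩
    have h1 := Clifford.detChar_comp θ' (MulAut.conjNormal g : MulAut F).toMonoidHom θ'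
      (fun y => (congrFun hg y).symm) x
    rw [Clifford.detChar_mul_linear θ ν θ' (fun y => rfl),
      Clifford.detChar_mul_linear θ ν θ' (fun y => rfl)] at h1
    exact h1.symm
  obtain ⟨g, hgF, hg⟩ := key 1 (fun _ _ => rfl)
  simp only [MonoidHom.one_apply, one_pow, one_mul] at hg
  obtain ⟨h, hhF, hh⟩ := key ν₀ hν₀K
  have hne : ∀ x, δ x ≠ 0 := fun x h0 => by
    have := Clifford.detChar_pow_card θ x
    rw [← hδ, h0, zero_pow Nat.card_pos.ne'] at this
    exact zero_ne_one this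
  have hνne : ∀ x, ν₀ x ≠ 0 := fun x h0 => by
    have := congrArg ν₀ (mul_inv_cancel x)
    rw [map_mul, h0, zero_mul, map_one] at this
    exact zero_ne_one this
  -- `g` and `h` commute modulo `F`
  have hconj : ∀ x : F, δ (MulAut.conjNormal (g * h) x) = δ (MulAut.conjNormal (h * g) x) := by
    intro x
    have hc : g * h * g⁻¹ * h⁻¹ ∈ F :=
      hG' (Subgroup.commutator_mem_commutator (Subgroup.mem_top g) (Subgroup.mem_top h))
    have e : MulAut.conjNormal (g * h) x =
        (⟨_, hc⟩ : F) * MulAut.conjNormal (h * g) x * (⟨_, hc⟩ : F)⁻¹ := by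
      apply Subtype.ext
      simp only [MulAut.conjNormal_apply, Subgroup.coe_mul, Subgroup.coe_inv]
      group
    rw [e, map_mul, map_mul, mul_right_comm, ← map_mul, mul_inv_cancel, map_one, one_mul]
  -- `ε x = δ (x ^ h) / δ x` is a linear character killing `K` and fixed by `g`
  let ε : F →* ℂ :=
    { toFun := fun x => δ (MulAut.conjNormal h x) * δ x⁻¹
      map_one' := by simp
      map_mul' := fun a b => by rw [mul_inv_rev]; simp only [map_mul]; ring }
  have hεeq : ∀ x : F, ε x * ν₀ (MulAut.conjNormal h x) ^ n = ν₀ x ^ n := by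
    intro x
    show δ (MulAut.conjNormal h x) * δ x⁻¹ * _ = _
    have hinv : δ x * δ x⁻¹ = 1 := by rw [← map_mul, mul_inv_cancel, map_one]
    linear_combination δ x⁻¹ * hh x + ν₀ x ^ n * hinv
  have hεK : ∀ k : F, (k : G) ∈ K → ν₀ (MulAut.conjNormal h k) = 1 → ε k = 1 := by
    intro k hk h1
    have := hεeq k
    rwa [h1, hν₀K k hk, one_pow, mul_one] at this
  have hKn : ∀ k : F, (k : G) ∈ K → (MulAut.conjNormal h k : G) ∈ K → ν₀ (MulAut.conjNormal h k) = 1 :=
    fun k _ hk' => hν₀K _ hk'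
  by_cases hKnorm : ∀ k ∈ K, h * k * h⁻¹ ∈ K
  swap
  · exact hKnorm (hKnormal h)
  have hε1 : ε = 1 := by
    refine hfix g hgF ε (fun k hk => hεK k hk (hKn k hk (hKnorm k hk))) fun x => ?_
    show δ (MulAut.conjNormal h (MulAut.conjNormal g x)) * δ (MulAut.conjNormal g x)⁻¹ = δ (MulAut.conjNormal h x) * δ x⁻¹
    rw [← MulAut.mul_apply, ← map_mul MulAut.conjNormal h g, ← hconj x, map_mul MulAut.conjNormal g h,
      MulAut.mul_apply, hg, ← map_inv (MulAut.conjNormal g) x, hg]
  -- so `h` fixes `ν₀ ^ n`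
  have hn : ¬ q ∣ n := by rw [Char.charDegree_eq_degree] at hθ; exact hθ
  let νn : F →* ℂ :=
    { toFun := fun x => ν₀ x ^ n
      map_one' := by simp
      map_mul' := fun a b => by rw [map_mul, mul_pow] }
  have h1 : νn = 1 := by
    refine hfix h hhF νn (fun k hk => ?_) fun x => ?_
    · show ν₀ k ^ n = 1
      rw [hν₀K k hk, one_pow]
    · show ν₀ (MulAut.conjNormal h x) ^ n = ν₀ x ^ n
      have := hεeq x
      rwa [hε1, MonoidHom.one_apply, one_mul] at this
  refine hν₀ (MonoidHom.ext fun x => ?_)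
  have a1 : ν₀ x ^ q = 1 := by rw [← map_pow]; exact hν₀K _ (hKF x x.2)
  have a2 : ν₀ x ^ n = 1 := DFunLike.congr_fun h1 x
  rw [MonoidHom.one_apply, ← pow_one (ν₀ x), ← ((Nat.Prime.coprime_iff_not_dvd hq).2 hn).gcd_eq_one,
    pow_gcd_eq_one.2 ⟨a1, a2⟩]

/-- For every finite solvable group G the character degree graph of G (vertices: the primes dividing some irreducible complex character degree; edges: distinct primes whose product divides some degree) has at most two connected components. -/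
theorem result {G : Type*} [Group G] [Finite G] [Group.IsSolvable G] : Nat.card ((Cfsg.degreeGraph G).induce (Cfsg.degreePrimes G)).ConnectedComponent ≤ 2 := by
  classical
  haveI := Fintype.ofFinite G
  set H := (Cfsg.degreeGraph G).induce (Cfsg.degreePrimes G) with hH
  rcases (Cfsg.degreePrimes G).eq_empty_or_nonempty with hemp | ⟨r₁, hr₁⟩
  · haveI : IsEmpty (Cfsg.degreePrimes G) := ⟨fun x => by simpa [hemp] using x.2⟩
    haveI : IsEmpty H.ConnectedComponent := ⟨fun c => by
      induction c using SimpleGraph.ConnectedComponent.ind with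
      | h v => exact IsEmpty.false v⟩
    simp
  -- `G` is not abelian
  have hna : commutator G ≠ ⊥ := by
    intro hb
    obtain ⟨-, d, ⟨χ, rfl⟩, hd⟩ := id hr₁
    have h1 : Cfsg.charDegree χ.1 = 1 := by
      unfold Cfsg.charDegree
      rw [Char.apply_one_of_comm (fun a b => commutatorElement_eq_one_iff_mul_comm.1
        (Subgroup.mem_bot.1 (hb ▸ Subgroup.commutator_mem_commutator (Subgroup.mem_top a) (Subgroup.mem_top b)))) χ]
      simp
    rw [h1] at hd
    exact hr₁.1.one_lt.ne' (Nat.dvd_one.1 hd)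
  obtain ⟨K, ⟨hKn, hK1⟩, hKmax⟩ := Set.Finite.exists_maximal
    (s := {K : Subgroup G | K.Normal ∧ ¬ commutator G ≤ K}) (Set.toFinite _)
    ⟨⊥, inferInstance, fun h => hna (le_bot_iff.1 h)⟩
  haveI := hKn
  have hmk : (commutator G).map (QuotientGroup.mk' K) = commutator (G ⧸ K) := by
    rw [commutator_def, Subgroup.map_commutator, Subgroup.map_top_of_surjective _ (QuotientGroup.mk'_surjective K), commutator_def]
  haveI : Group.IsSolvable (G ⧸ K) := solvable_of_surjective (QuotientGroup.mk'_surjective K)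
  have hQna : commutator (G ⧸ K) ≠ ⊥ := by
    intro h
    rw [← hmk, Subgroup.map_eq_bot_iff, QuotientGroup.ker_mk'] at h
    exact hK1 h
  have hQmin : ∀ L : Subgroup (G ⧸ K), L.Normal → L ≠ ⊥ → commutator (G ⧸ K) ≤ L := by
    intro L hL hne
    rw [← hmk, Subgroup.map_le_iff_le_comap]
    by_contra hnle
    have hle : K ≤ L.comap (QuotientGroup.mk' K) := fun k hk => by
      rw [Subgroup.mem_comap, QuotientGroup.mk'_apply, (QuotientGroup.eq_one_iff k).2 hk]
      exact one_mem _
    have h2 := le_antisymm (hKmax (y := L.comap (QuotientGroup.mk' K)) ⟨hL.comap _, hnle⟩ hle) hle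
    refine hne (Subgroup.comap_injective (QuotientGroup.mk'_surjective K) ?_)
    rw [h2, MonoidHom.comap_bot, QuotientGroup.ker_mk']
  have hvert : ∀ {χ : Cfsg.IrrCharacter G} {l : ℕ}, l.Prime → l ∣ Cfsg.charDegree χ.1 →
      l ∈ Cfsg.degreePrimes G := fun {χ l} hl h => ⟨hl, _, ⟨χ, rfl⟩, h⟩
  rcases structure_quot hQna hQmin with ⟨p, hp, hpQ⟩ | ⟨q, hq, hexp, hMab, hMtop, hfix⟩
  · -- a nonabelian p-group quotient: one component
    haveI := Fact.mk hp
    haveI := Fintype.ofFinite K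
    obtain ⟨k, hk⟩ := IsPGroup.iff_card.1 hpQ
    obtain ⟨ψ, hψ⟩ : ∃ ψ : Cfsg.IrrCharacter (G ⧸ K), ψ.1 1 ≠ 1 := by
      by_contra hcon
      push Not at hcon
      refine hQna ?_
      rw [commutator_def, eq_bot_iff, Subgroup.commutator_le]
      intro a _ b _
      exact Subgroup.mem_bot.2 (commutatorElement_eq_one_iff_mul_comm.2
        (Char.forall_apply_one_iff_comm.1 hcon a b))
    obtain ⟨i, -, hi⟩ := (Nat.dvd_prime_pow hp).1 (hk ▸ Char.charDegree_dvd_card ψ)
    have hpψ : p ∣ Cfsg.charDegree ψ.1 := by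
      rcases Nat.eq_zero_or_pos i with rfl | h0
      · exact absurd (by rw [← Char.charDegree_cast ψ, hi]; simp) hψ
      · exact hi ▸ dvd_pow_self p h0.ne'
    have hinfl : Cfsg.charDegree (Char.inflate K ψ).1 = Cfsg.charDegree ψ.1 := by
      unfold Cfsg.charDegree; simp
    have hpV : p ∈ Cfsg.degreePrimes G := hvert hp (hinfl.symm ▸ hpψ)
    refine card_components_le_two H ⟨p, hpV⟩ ⟨p, hpV⟩ fun ⟨r, hr⟩ => Or.inl ?_
    obtain ⟨hrp, d, ⟨χ, rfl⟩, hrd⟩ := hr
    by_cases hp' : p ∣ Cfsg.charDegree χ.1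
    · exact conn_of_dvd _ _ ⟨χ, rfl⟩ hrd hp'
    have hres := resFun_irr K hp ⟨k, by rw [Subgroup.index_eq_card, hk]⟩ χ hp'
    have hdeg : Cfsg.charDegree (Char.mulQuotient K χ.1 ψ.1) = Cfsg.charDegree χ.1 * Cfsg.charDegree ψ.1 := by
      apply Nat.cast_injective (R := ℂ)
      rw [Nat.cast_mul, Char.charDegree_cast χ, Char.charDegree_cast ψ,
        Char.charDegree_cast ⟨_, Char.isIrrCharacter_mulQuotient K χ hres ψ⟩]
      simp [Char.mulQuotient_apply]
    exact conn_of_dvd _ _ ⟨⟨_, Char.isIrrCharacter_mulQuotient K χ hres ψ⟩, hdeg⟩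
      (hrd.mul_right _) (hpψ.mul_left _)
  · -- a Frobenius quotient
    set F := (commutator (G ⧸ K)).comap (QuotientGroup.mk' K) with hF
    haveI : F.Normal := Subgroup.Normal.comap inferInstance _
    haveI := Fintype.ofFinite F
    have hmemF : ∀ x : G, x ∈ F ↔ (x : G ⧸ K) ∈ commutator (G ⧸ K) := fun x => Iff.rfl
    have hG'F : commutator G ≤ F := by rw [hF, ← Subgroup.map_le_iff_le_comap, hmk]
    have hKF : ∀ x ∈ F, x ^ q ∈ K := fun x hx => by
      rw [← QuotientGroup.eq_one_iff, QuotientGroup.mk_pow]; exact hexp _ hx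
    have hfixν : ∀ g : G, g ∉ F → ∀ ν : F →* ℂ, (∀ k : F, (k : G) ∈ K → ν k = 1) →
        (∀ x : F, ν (MulAut.conjNormal g x) = ν x) → ν = 1 := by
      intro g hg ν hνK hνg
      let φ : commutator (G ⧸ K) → commutator (G ⧸ K) := fun x => ⟨⁅(g : G ⧸ K), x.1⁆,
        Subgroup.commutator_mem_commutator (Subgroup.mem_top _) (Subgroup.mem_top _)⟩
      have hinj : Function.Injective φ := by
        intro x y hxy
        have h1 : (g : G ⧸ K) * x.1 * (g : G ⧸ K)⁻¹ * x.1⁻¹ = (g : G ⧸ K) * y.1 * (g : G ⧸ K)⁻¹ * y.1⁻¹ :=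
          congrArg Subtype.val hxy
        set a := (g : G ⧸ K) * x.1 * (g : G ⧸ K)⁻¹ with ha
        set b := (g : G ⧸ K) * y.1 * (g : G ⧸ K)⁻¹ with hb
        have hbM : b ∈ commutator (G ⧸ K) := (inferInstance : (commutator (G ⧸ K)).Normal).conj_mem _ y.2 _
        have h2 : b⁻¹ * a = y.1⁻¹ * x.1 := by
          have : a = b * y.1⁻¹ * x.1 := by rw [← h1]; group
          rw [this]; group
        have h3 := hfix (g : G ⧸ K) hg (y.1⁻¹ * x.1) (mul_mem (inv_mem y.2) x.2) (by
          have : b⁻¹ * a = (g : G ⧸ K) * (y.1⁻¹ * x.1) * (g : G ⧸ K)⁻¹ := by rw [ha, hb]; group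
          rw [this] at h2
          exact mul_inv_eq_iff_eq_mul.1 h2)
        exact Subtype.ext (inv_mul_eq_one.1 h3).symm
      haveI : Finite (commutator (G ⧸ K)) := inferInstance
      refine MonoidHom.ext fun y => ?_
      obtain ⟨⟨x, hx⟩, hxy⟩ := (Finite.injective_iff_surjective.1 hinj) ⟨(y : G ⧸ K), y.2⟩
      obtain ⟨x, rfl⟩ := QuotientGroup.mk_surjective x
      let u : F := ⟨x, hx⟩
      have hk : ((MulAut.conjNormal g u * u⁻¹ * y⁻¹ : F) : G) ∈ K := by
        rw [← QuotientGroup.eq_one_iff]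
        simp only [Subgroup.coe_mul, Subgroup.coe_inv, MulAut.conjNormal_apply, QuotientGroup.mk_mul,
          QuotientGroup.mk_inv]
        exact mul_inv_eq_one.2 (congrArg Subtype.val hxy)
      have := hνK _ hk
      rw [map_mul, map_mul, hνg, ← map_mul, mul_inv_cancel, map_one, one_mul] at this
      have h4 : ν y * ν y⁻¹ = 1 := by rw [← map_mul, mul_inv_cancel, map_one]
      rwa [this, mul_one] at h4
    have hKnormal : ∀ h : G, ∀ k ∈ K, h * k * h⁻¹ ∈ K := fun h k hk => hKn.conj_mem k hk h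
    have hexν : ∃ ν : F →* ℂ, (∀ k : F, (k : G) ∈ K → ν k = 1) ∧ ν ≠ 1 := by
      haveI : (K.subgroupOf F).Normal := inferInstance
      have hcomm : ∀ a b : F ⧸ K.subgroupOf F, a * b = b * a := by
        intro a b
        obtain ⟨a, rfl⟩ := QuotientGroup.mk_surjective a
        obtain ⟨b, rfl⟩ := QuotientGroup.mk_surjective b
        rw [← QuotientGroup.mk_mul, ← QuotientGroup.mk_mul, QuotientGroup.eq, Subgroup.mem_subgroupOf]
        rw [← QuotientGroup.eq_one_iff]
        simp only [Subgroup.coe_mul, Subgroup.coe_inv, QuotientGroup.mk_mul, QuotientGroup.mk_inv]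
        rw [inv_mul_eq_one]
        exact hMab _ a.2 _ b.2
      obtain ⟨χ, hχ⟩ : ∃ χ : Cfsg.IrrCharacter (F ⧸ K.subgroupOf F), χ ≠ Char.trivialChar _ := by
        by_contra hcon
        push Not at hcon
        haveI := Fintype.ofFinite (F ⧸ K.subgroupOf F)
        have hs := Char.sum_degree_sq (G := F ⧸ K.subgroupOf F)
        rw [Finset.sum_eq_single_of_mem (Char.trivialChar _) (Finset.mem_univ _)
          (fun χ _ h => absurd (hcon χ) h)] at hs
        rw [show Char.degree (Char.trivialChar (F ⧸ K.subgroupOf F)) = 1 by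
          simp [← Char.charDegree_eq_degree, Cfsg.charDegree], one_pow, ← Subgroup.index_eq_card] at hs
        have hle := Subgroup.subgroupOf_eq_top.1 (Subgroup.index_eq_one.1 hs.symm)
        refine hQna (eq_bot_iff.2 fun z hz => ?_)
        obtain ⟨z, rfl⟩ := QuotientGroup.mk_surjective z
        exact Subgroup.mem_bot.2 ((QuotientGroup.eq_one_iff z).2 (hle hz))
      obtain ⟨lam, hlam⟩ := Char.IsCharacter.exists_monoidHom (Char.irr_isCharacter χ)
        (Char.apply_one_of_comm hcomm χ)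
      refine ⟨lam.comp (QuotientGroup.mk' _), fun k hk => ?_, fun h => hχ (Subtype.ext ?_)⟩
      · rw [MonoidHom.comp_apply, QuotientGroup.mk'_apply,
          (QuotientGroup.eq_one_iff k).2 (Subgroup.mem_subgroupOf.2 hk), map_one]
      · funext z
        obtain ⟨z, rfl⟩ := QuotientGroup.mk_surjective z
        rw [← hlam]
        exact DFunLike.congr_fun h z
    have hfull := exists_full_degree F K hKnormal hG'F q hq hKF hfixν hexν
    have hf1 : F.index ≠ 1 := by
      rw [Ne, Subgroup.index_eq_one, hF, ← Subgroup.comap_top (QuotientGroup.mk' K)]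
      exact fun h => hMtop (Subgroup.comap_injective (QuotientGroup.mk'_surjective K) h)
    obtain ⟨r₀, hr₀, hr₀f⟩ := Nat.exists_prime_and_dvd hf1
    have h1F : ¬ q ∣ Cfsg.charDegree (Char.trivialChar F).1 := by
      simp [Cfsg.charDegree, hq.one_lt.ne']
    have hr₀V : r₀ ∈ Cfsg.degreePrimes G :=
      ⟨hr₀, _, hfull (Char.trivialChar F) h1F, hr₀f.mul_right _⟩
    by_cases hqV : q ∈ Cfsg.degreePrimes G
    all_goals
      refine card_components_le_two H ⟨r₀, hr₀V⟩
        (if h : q ∈ Cfsg.degreePrimes G then ⟨q, h⟩ else ⟨r₀, hr₀V⟩) fun ⟨r, hr⟩ => ?_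
      obtain ⟨hrp, d, ⟨χ, rfl⟩, hrd⟩ := hr
      obtain ⟨θ, hθ⟩ := Char.exists_constituent F χ
      obtain ⟨h1, h2⟩ := S0887.result F χ.1 χ.2 θ.1 θ.2 hθ _ _ (Char.charDegree_cast χ).symm
        (Char.charDegree_cast θ).symm
      obtain ⟨s, hs⟩ := h1
      rw [hs, Nat.mul_div_cancel_left _ (Char.charDegree_pos θ)] at h2
      by_cases hqθ : q ∣ Cfsg.charDegree θ.1
      · have hqd : q ∣ Cfsg.charDegree χ.1 := hs ▸ hqθ.mul_right s
        refine Or.inr ?_
        rw [dif_pos (hvert hq hqd)]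
        exact conn_of_dvd _ _ ⟨χ, rfl⟩ hrd hqd
      · refine Or.inl ?_
        have hfd := hfull θ hqθ
        have hsr : r ∣ F.index * Cfsg.charDegree θ.1 := by
          refine hrd.trans ?_
          rw [hs, mul_comm]
          exact Nat.mul_dvd_mul h2 dvd_rfl
        exact conn_of_dvd _ _ hfd hsr (hr₀f.mul_right _)

end Cfsg.Agent.S4811
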