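import Cfsg.Statements.S4463
import Cfsg.Agent.Lib.Char.MaxDegree
import Cfsg.Agent.S4811
import Cfsg.Agent.Lib.CharInt.Burnside

-- import your own Cfsg.Agent.* helpers here

set_option autoImplicit false
open Cfsg

namespace Cfsg.Agent.S4463

set_option linter.style.haveILetI false

open Cfsg.Agent.Char Cfsg.Agent.Char.MaxDegree
open scoped commutatorElement

universe u

set_option synthInstance.maxSize 2000 in
/-- Small primes: `b m` has two prime divisors unless `(b, m) = (4, 15)`. -/
theorem small_primes : ∀ b < 5, ∀ m < 17, 2 ≤ b → 1 ≤ m → m ≤ b ^ 2 → (b = 4 ∧ m = 15) ∨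
    ∃ p ∈ [2, 3, 5, 7, 11, 13], ∃ q ∈ [2, 3, 5, 7, 11, 13], ∀ r ∈ [2, 3, 5, 7, 11, 13],
      r ∣ b * m → r = p ∨ r = q := by
  decide +kernel

theorem factorial_ge_three {b : ℕ} (hb : 3 ≤ b) :
    b * (b - 1) * (b - 2) * (b - 3).factorial = b.factorial := by
  obtain ⟨c, rfl⟩ : ∃ c, b = c + 3 := ⟨b - 3, by omega⟩
  simp only [Nat.add_sub_cancel, show c + 3 - 1 = c + 2 by omega, show c + 3 - 2 = c + 1 by omega,
    Nat.factorial_succ]
  ring

section Quotient

variable {Q : Type u} [Group Q] [Fintype Q]

theorem center_le_bot_of_min (hmin : ∀ L : Subgroup Q, L.Normal → L ≠ ⊥ → commutator Q ≤ L)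
    (hab : ⁅commutator Q, commutator Q⁆ ≠ ⊥) (L : Subgroup Q) [L.Normal]
    (hcomm : ∀ x ∈ L, ∀ y ∈ commutator Q, x * y = y * x) : L = ⊥ := by
  by_contra hne
  refine hab ((Subgroup.eq_bot_iff_forall _).2 fun x hx => ?_)
  have hle := hmin L inferInstance hne
  have : ⁅commutator Q, commutator Q⁆ ≤ ⊥ := Subgroup.commutator_le.2 fun a ha c hc =>
    Subgroup.mem_bot.2 (commutatorElement_eq_one_iff_mul_comm.2 (hcomm a (hle ha) c hc))
  exact Subgroup.mem_bot.1 (this hx)

/-- Some nontrivial element has at most `b ^ 2` conjugates. -/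
theorem exists_small_class [Nontrivial Q] {b : ℕ} (hb : ∀ χ : IrrCharacter Q, degree χ ≤ b)
    (hb1 : 1 ≤ b) :
    ∃ x : Q, x ≠ 1 ∧ (Subgroup.centralizer {x}).index ≤ b ^ 2 ∧
      (Nat.card (IrrCharacter Q) - 1) * (Subgroup.centralizer {x}).index ≤ Nat.card Q - 1 := by
  classical
  haveI := Fintype.ofFinite (ConjClasses Q)
  obtain ⟨x, hx, hmin⟩ := (Finset.univ.filter fun x : Q => x ≠ 1).exists_min_image
    (fun x => (Subgroup.centralizer {x}).index)
    (by obtain ⟨y, hy⟩ := exists_ne (1 : Q); exact ⟨y, Finset.mem_filter.2 ⟨Finset.mem_univ _, hy⟩⟩)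
  set m := (Subgroup.centralizer ({x} : Set Q)).index
  have hk : (Nat.card (IrrCharacter Q) - 1) * m ≤ Nat.card Q - 1 := by
    rw [card_irr, ← Group.sum_card_conj_classes_eq_card Q, finsum_eq_sum_of_fintype,
      ← Finset.add_sum_erase _ _ (Finset.mem_univ (ConjClasses.mk (1 : Q)))]
    have h1 : (ConjClasses.mk (1 : Q)).carrier.ncard = 1 := by
      rw [Set.ncard_eq_one]
      exact ⟨1, Set.ext fun y => by simp [ConjClasses.mem_carrier_iff_mk_eq, ConjClasses.mk_eq_mk_iff_isConj]⟩
    have h2 : ((Finset.univ : Finset (ConjClasses Q)).erase (ConjClasses.mk 1)).card * m ≤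
        ∑ c ∈ (Finset.univ : Finset (ConjClasses Q)).erase (ConjClasses.mk 1), c.carrier.ncard := by
      rw [← smul_eq_mul]
      refine Finset.card_nsmul_le_sum _ _ _ fun c hc => ?_
      obtain ⟨y, rfl⟩ := ConjClasses.mk_surjective c
      have hy : y ≠ 1 := fun h => (Finset.mem_erase.1 hc).1 (h ▸ rfl)
      refine le_trans (hmin y (Finset.mem_filter.2 ⟨Finset.mem_univ _, hy⟩)) (le_of_eq ?_)
      rw [← Nat.card_coe_set_eq, ← Nat.card_congr (Equiv.setCongr (ConjAct.orbit_eq_carrier_conjClasses y)),
        Nat.card_coe_set_eq, ← MulAction.index_stabilizer]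
      rw [Subgroup.centralizer_eq_comap_stabilizer y]
      exact Subgroup.index_comap_of_surjective _ ConjAct.toConjAct.surjective
    rw [Finset.card_erase_of_mem (Finset.mem_univ _), Finset.card_univ, ← Nat.card_eq_fintype_card]
      at h2
    rw [h1]
    omega
  refine ⟨x, (Finset.mem_filter.1 hx).2, ?_, hk⟩
  have hdeg : Nat.card Q - 1 ≤ (Nat.card (IrrCharacter Q) - 1) * b ^ 2 := by
    rw [← sum_degree_sq (G := Q), ← Finset.add_sum_erase _ _ (Finset.mem_univ (trivialChar Q)),
      show degree (trivialChar Q) = 1 from degree_eq_of_apply_one (by simp), one_pow,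
      Nat.add_sub_cancel_left]
    refine (Finset.sum_le_card_nsmul _ _ (b ^ 2) fun χ _ => Nat.pow_le_pow_left (hb χ) 2).trans
      (le_of_eq ?_)
    rw [Finset.card_erase_of_mem (Finset.mem_univ _), Finset.card_univ, smul_eq_mul,
      Nat.card_eq_fintype_card]
  have hk1 : 0 < Nat.card (IrrCharacter Q) - 1 := by
    rcases Nat.eq_zero_or_pos (Nat.card (IrrCharacter Q) - 1) with h0 | h0
    · rw [h0, zero_mul] at hdeg
      have := Finite.one_lt_card (α := Q)
      omega
    · exact h0
  exact Nat.le_of_mul_le_mul_left (hk.trans hdeg) hk1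

end Quotient

/-- The step: a subgroup with smaller degrees and controlled index. -/
theorem exists_step {G : Type u} [Group G] [Fintype G] {b : ℕ} (hb : ∀ χ : IrrCharacter G, degree χ ≤ b)
    (hna : commutator G ≠ ⊥) :
    2 ≤ b ∧ ∃ (H : Subgroup G) (c : ℕ), c < b ∧ (∀ θ : IrrCharacter H, degree θ ≤ c) ∧
      H.index * c.factorial ^ 2 ≤ b.factorial ^ 2 := by
  classical
  obtain ⟨K, ⟨hKn, hK1⟩, hKmax⟩ := Set.Finite.exists_maximal
    (s := {K : Subgroup G | K.Normal ∧ ¬ commutator G ≤ K}) (Set.toFinite _)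
    ⟨⊥, inferInstance, fun h => hna (le_bot_iff.1 h)⟩
  haveI := hKn
  haveI := Fintype.ofFinite K
  haveI := Fintype.ofFinite (G ⧸ K)
  have hK2 : ∀ θ : IrrCharacter K, degree θ ≤ b / 2 := fun θ => by
    have := two_mul_degree_le hb K hK1 θ; omega
  have hb2 : 2 ≤ b := by
    have := two_mul_degree_le hb K hK1 (trivialChar K)
    have := degree_pos (trivialChar K)
    omega
  refine ⟨hb2, ?_⟩
  have hmk : (commutator G).map (QuotientGroup.mk' K) = commutator (G ⧸ K) := by
    rw [commutator_def, Subgroup.map_commutator,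
      Subgroup.map_top_of_surjective _ (QuotientGroup.mk'_surjective K), commutator_def]
  have hQna : commutator (G ⧸ K) ≠ ⊥ := by
    intro h
    rw [← hmk, Subgroup.map_eq_bot_iff, QuotientGroup.ker_mk'] at h
    exact hK1 h
  have hQmin : ∀ L : Subgroup (G ⧸ K), L.Normal → L ≠ ⊥ → commutator (G ⧸ K) ≤ L := by
    intro L hL hne
    rw [← hmk, Subgroup.map_le_iff_le_comap]
    by_contra hnle
    have hle : K ≤ L.comap (QuotientGroup.mk' K) := fun k hk => by
      rw [Subgroup.mem_comap, QuotientGroup.mk'_apply, (QuotientGroup.eq_one_iff k).2 hk]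
      exact one_mem _
    have h2 := le_antisymm (hKmax (y := L.comap (QuotientGroup.mk' K)) ⟨hL.comap _, hnle⟩ hle) hle
    refine hne (Subgroup.comap_injective (QuotientGroup.mk'_surjective K) ?_)
    rw [h2, MonoidHom.comap_bot, QuotientGroup.ker_mk']
  have hdegQ : ∀ β : IrrCharacter (G ⧸ K), degree β ≤ b := fun β => by
    have h := hb (inflate K β)
    rwa [show degree (inflate K β) = degree β from degree_eq_of_apply_one (by
      rw [inflate_apply, QuotientGroup.mk_one]; exact apply_one_eq_degree β)] at h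
  -- a subgroup of index at most `b ^ 2` whose degrees drop
  have hfirst : ∀ H : Subgroup G, H.index ≤ b ^ 2 → (∀ θ : IrrCharacter H, degree θ ≤ b - 1) →
      ∃ (H : Subgroup G) (c : ℕ), c < b ∧ (∀ θ : IrrCharacter H, degree θ ≤ c) ∧
        H.index * c.factorial ^ 2 ≤ b.factorial ^ 2 := fun H hH hθ =>
    ⟨H, b - 1, by omega, hθ, by
      calc H.index * (b - 1).factorial ^ 2 ≤ b ^ 2 * (b - 1).factorial ^ 2 := Nat.mul_le_mul_right _ hH
        _ = b.factorial ^ 2 := by
          rw [← mul_pow, Nat.mul_factorial_pred (by omega)]⟩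
  -- the kernel has degrees at most `b / 2`
  have hlast : K.index * (b / 2).factorial ^ 2 ≤ b.factorial ^ 2 →
      ∃ (H : Subgroup G) (c : ℕ), c < b ∧ (∀ θ : IrrCharacter H, degree θ ≤ c) ∧
        H.index * c.factorial ^ 2 ≤ b.factorial ^ 2 := fun h =>
    ⟨K, b / 2, by omega, hK2, h⟩
  set M := commutator (G ⧸ K) with hM
  have hMcomap : ∀ C : Subgroup (G ⧸ K), (C.comap (QuotientGroup.mk' K)).index = C.index := fun C =>
    Subgroup.index_comap_of_surjective C (QuotientGroup.mk'_surjective K)
  have hKQ : K.index = Nat.card (G ⧸ K) := Subgroup.index_eq_card K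
  by_cases hab : ⁅M, M⁆ = ⊥
  · -- the soluble case
    haveI : Group.IsSolvable (G ⧸ K) := Group.IsSolvable.mk (G := G ⧸ K) ⟨2, by
      rw [derivedSeries_succ, derivedSeries_one]; exact hab⟩
    rcases S4811.structure_quot hQna hQmin with ⟨p, hp, hpQ⟩ | ⟨q, hq, hexp, hMab, hMtop, hfix⟩
    · -- a `p`-group
      haveI := Fact.mk hp
      haveI : Group.IsNilpotent (G ⧸ K) := hpQ.isNilpotent
      haveI : Nontrivial (G ⧸ K) := by
        by_contra hQ
        rw [not_nontrivial_iff_subsingleton] at hQ
        exact hQna (Subsingleton.elim _ _)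
      have hMZ : M ≤ Subgroup.center (G ⧸ K) :=
        hQmin _ inferInstance (Group.IsNilpotent.center_ne_bot (G := G ⧸ K))
      have hMp : Nat.card M = p := by
        obtain ⟨k, hk⟩ := IsPGroup.iff_card.1 (hpQ.to_subgroup M)
        have hk0 : k ≠ 0 := fun h => hQna (M.eq_bot_of_card_eq (by rw [hk, h, pow_zero]))
        obtain ⟨z, hz⟩ := exists_prime_orderOf_dvd_card' (G := M) p (hk ▸ dvd_pow_self p hk0)
        have hzZ : (Subgroup.zpowers (z : G ⧸ K)).Normal := ⟨fun y hy g => by
          have : y ∈ Subgroup.center (G ⧸ K) := Subgroup.zpowers_le.2 (hMZ z.2) hy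
          rwa [Subgroup.mem_center_iff.1 this g, mul_inv_cancel_right]⟩
        have hne : Subgroup.zpowers (z : G ⧸ K) ≠ ⊥ := fun h => hp.ne_one (by
          rw [← hz, ← Subgroup.orderOf_coe, ← Nat.card_zpowers, h, Subgroup.card_bot])
        have heq : M = Subgroup.zpowers (z : G ⧸ K) :=
          le_antisymm (hQmin _ hzZ hne) (Subgroup.zpowers_le.2 z.2)
        rw [heq, Nat.card_zpowers, Subgroup.orderOf_coe, hz]
      obtain ⟨β, hβ⟩ : ∃ β : IrrCharacter (G ⧸ K), β.1 1 ≠ 1 := by
        by_contra hcon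
        push Not at hcon
        refine hQna ?_
        rw [hM, commutator_def, eq_bot_iff, Subgroup.commutator_le]
        intro a _ c _
        exact Subgroup.mem_bot.2 (commutatorElement_eq_one_iff_mul_comm.2
          (forall_apply_one_iff_comm.1 hcon a c))
      -- nonlinear characters vanish off the centre
      have hvan : ∀ g : G ⧸ K, g ∉ Subgroup.center (G ⧸ K) → β.1 g = 0 := by
        intro g hg
        haveI := Fintype.ofFinite (ConjClasses (G ⧸ K))
        set C := Subgroup.centralizer ({g} : Set (G ⧸ K))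
        have hC1 : C.index ≠ 1 := fun h => hg (Subgroup.mem_center_iff.2 fun y =>
          Subgroup.mem_centralizer_singleton_iff.1 ((Subgroup.index_eq_one.1 h) ▸ Subgroup.mem_top y : y ∈ C))
        obtain ⟨i, hi⟩ := hpQ.index C
        have hi0 : i ≠ 0 := fun h => hC1 (by rw [hi, h, pow_zero])
        have hpC : p ≤ C.index := hi ▸ Nat.le_self_pow hi0 p
        have hcard : Nat.card C * p ≤ Nat.card (G ⧸ K) := by
          rw [← C.card_mul_index]; exact Nat.mul_le_mul_left _ hpC
        have hlin : ∀ χ : IrrCharacter (G ⧸ K), χ.1 1 = 1 → Complex.normSq (χ.1 g) = 1 := by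
          intro χ hχ
          obtain ⟨l, hl⟩ := IsCharacter.exists_monoidHom (irr_isCharacter χ) hχ
          have h2 : ((Complex.normSq (χ.1 g) : ℝ) : ℂ) = 1 := by
            rw [← Complex.mul_conj, ← hl]; exact normSq_linear l g
          exact_mod_cast h2
        have hsum : ∑ χ : IrrCharacter (G ⧸ K), Complex.normSq (χ.1 g) = (Nat.card C : ℝ) := by
          have h := sum_irr_mul_conj g g
          rw [if_pos (IsConj.refl g)] at h
          have h2 : ((∑ χ : IrrCharacter (G ⧸ K), Complex.normSq (χ.1 g) : ℝ) : ℂ) =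
              ((Nat.card C : ℝ) : ℂ) := by
            push_cast
            rw [← h]
            exact Finset.sum_congr rfl fun χ _ => (Complex.mul_conj _).symm
          exact_mod_cast h2
        have hL : ((Finset.univ.filter fun χ : IrrCharacter (G ⧸ K) => χ.1 1 = 1).card : ℝ) * p =
            (Nat.card (G ⧸ K) : ℝ) := by
          have h1 := card_linear (G := G ⧸ K)
          rw [Nat.card_eq_fintype_card, Fintype.card_subtype] at h1
          rw [h1, ← hMp, ← Nat.cast_mul, hM, mul_comm, Subgroup.card_mul_index]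
        rw [← Finset.sum_filter_add_sum_filter_not Finset.univ
            (fun χ : IrrCharacter (G ⧸ K) => χ.1 1 = 1),
          Finset.sum_congr rfl fun χ hχ => hlin χ (Finset.mem_filter.1 hχ).2, Finset.sum_const,
          nsmul_eq_mul, mul_one] at hsum
        have hpR : (0 : ℝ) < p := by exact_mod_cast hp.pos
        have hle : ((Finset.univ.filter fun χ : IrrCharacter (G ⧸ K) => χ.1 1 = 1).card : ℝ) ≥
            (Nat.card C : ℝ) := by
          have : (Nat.card C : ℝ) * p ≤ (Nat.card (G ⧸ K) : ℝ) := by exact_mod_cast hcard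
          rw [← hL] at this
          exact le_of_mul_le_mul_right this hpR
        have hnn : ∀ χ ∈ Finset.univ.filter (fun χ : IrrCharacter (G ⧸ K) => ¬ χ.1 1 = 1),
            0 ≤ Complex.normSq (χ.1 g) := fun χ _ => Complex.normSq_nonneg _
        have h0 := (Finset.sum_eq_zero_iff_of_nonneg hnn).1
          (le_antisymm (by linarith) (Finset.sum_nonneg hnn)) β
          (Finset.mem_filter.2 ⟨Finset.mem_univ _, hβ⟩)
        exact Complex.normSq_eq_zero.1 h0
      set Z := Subgroup.center (G ⧸ K)
      have hZidx : Z.index ≤ degree β ^ 2 := index_le_sq β Z hvan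
      set B := Z.comap (QuotientGroup.mk' K)
      haveI := Fintype.ofFinite B
      refine hfirst B ?_ fun ψ => ?_
      · rw [hMcomap]
        exact hZidx.trans (Nat.pow_le_pow_left (hdegQ β) 2)
      by_contra hψ
      obtain ⟨χ, hχ⟩ := exists_restrict_eq hb B ψ (by omega)
      have hchar := isCharacter_mulQuotient K (irr_isCharacter χ) (irr_isCharacter β)
      set Φ := mulQuotient K χ.1 β.1 with hΦ
      have hΦ0 : ∀ y, y ∉ B → Φ y = 0 := fun y hy => by
        rw [hΦ, mulQuotient_apply, hvan (y : G ⧸ K) hy, mul_zero]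
      have hΦle : ∀ y : B, Complex.normSq (Φ y) ≤
          Complex.normSq (ψ.1 y) * (degree β : ℝ) ^ 2 := fun y => by
        rw [hΦ, mulQuotient_apply, map_mul, hχ]
        exact mul_le_mul_of_nonneg_left (normSq_apply_le (irr_isCharacter β) (apply_one_eq_degree β) _)
          (Complex.normSq_nonneg _)
      have hsum : ∑ g : G, Complex.normSq (Φ g) ≤ (Nat.card G : ℝ) := by
        rw [← Finset.sum_filter_add_sum_filter_not Finset.univ (fun g => g ∈ B),
          Finset.sum_eq_zero (s := Finset.univ.filter fun g => ¬ g ∈ B) (fun g hg => by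
            rw [hΦ0 g (Finset.mem_filter.1 hg).2, map_zero]), add_zero,
          Finset.sum_subtype (Finset.univ.filter fun g => g ∈ B) (p := fun g => g ∈ B) (by simp)
            (fun g => Complex.normSq (Φ g))]
        refine (Finset.sum_le_sum fun y _ => hΦle y).trans ?_
        rw [← Finset.sum_mul, sum_normSq ψ]
        have h1 : Nat.card B * degree β ^ 2 ≤ Nat.card G := by
          rw [← B.card_mul_index, hMcomap]
          exact Nat.mul_le_mul_left _ (sq_degree_le_index_center β)
        exact_mod_cast h1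
      obtain ⟨nn, hnn⟩ := IsCharacter.exists_nat_classInner hchar hchar
      have hnn' : (nn : ℝ) * Nat.card G = ∑ g : G, Complex.normSq (Φ g) := by
        have h2 : (((nn : ℝ) * Nat.card G : ℝ) : ℂ) = ((∑ g : G, Complex.normSq (Φ g) : ℝ) : ℂ) := by
          push_cast
          rw [← hnn, classInner, mul_comm, ← mul_assoc, mul_inv_cancel₀ card_ne_zero, one_mul]
          exact Finset.sum_congr rfl fun g _ => Complex.mul_conj _
        exact_mod_cast h2
      have hpos : (0 : ℝ) < Nat.card G := by exact_mod_cast Nat.card_pos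
      have hn1 : nn ≤ 1 := by
        have : (nn : ℝ) * Nat.card G ≤ 1 * Nat.card G := by rw [hnn', one_mul]; exact hsum
        exact_mod_cast le_of_mul_le_mul_right this hpos
      have hΦ1 : Φ 1 = ((degree χ * degree β : ℕ) : ℂ) := by
        rw [hΦ, mulQuotient_apply, QuotientGroup.mk_one, apply_one_eq_degree χ, apply_one_eq_degree β,
          Nat.cast_mul]
      have hn0 : nn ≠ 0 := fun h0 => by
        rw [h0, Nat.cast_zero] at hnn
        have := congrFun (classInner_self_eq_zero hnn) 1
        rw [hΦ1, Pi.zero_apply, Nat.cast_eq_zero, Nat.mul_eq_zero] at this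
        have := degree_pos χ; have := degree_pos β
        omega
      have hirr : IsIrrCharacter G Φ :=
        isIrrCharacter_iff.2 ⟨hchar, by rw [hnn, show nn = 1 by omega, Nat.cast_one]⟩
      have h1 := hb ⟨Φ, hirr⟩
      rw [degree_eq_of_apply_one (χ := ⟨Φ, hirr⟩) hΦ1] at h1
      have h2 : degree χ = degree ψ := degree_eq_of_apply_one (by
        rw [← OneMemClass.coe_one B, hχ]; exact apply_one_eq_degree ψ)
      have h3 : 2 ≤ degree β := by
        have := degree_pos β
        have : degree β ≠ 1 := fun h => hβ (by rw [apply_one_eq_degree, h, Nat.cast_one])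
        omega
      have h4 : degree χ * 2 ≤ degree χ * degree β := Nat.mul_le_mul_left _ h3
      omega
    · -- a Frobenius group
      set F := M.comap (QuotientGroup.mk' K) with hF
      haveI : F.Normal := Subgroup.Normal.comap inferInstance _
      haveI := Fintype.ofFinite F
      haveI := Fact.mk hq
      have hG'F : commutator G ≤ F := by rw [hF, ← Subgroup.map_le_iff_le_comap, hmk]
      have hKF : K ≤ F := fun k hk => by
        rw [hF, Subgroup.mem_comap, QuotientGroup.mk'_apply, (QuotientGroup.eq_one_iff k).2 hk]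
        exact one_mem _
      haveI : (K.subgroupOf F).Normal := inferInstance
      have hsep : ∀ y : F, (∀ ν : F →* ℂ, (∀ k : F, (k : G) ∈ K → ν k = 1) → ν y = 1) → (y : G) ∈ K := by
        intro y hy
        have hcomm : ∀ a c : F ⧸ K.subgroupOf F, a * c = c * a := by
          intro a c
          obtain ⟨a, rfl⟩ := QuotientGroup.mk_surjective a
          obtain ⟨c, rfl⟩ := QuotientGroup.mk_surjective c
          rw [← QuotientGroup.mk_mul, ← QuotientGroup.mk_mul, QuotientGroup.eq, Subgroup.mem_subgroupOf]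
          rw [← QuotientGroup.eq_one_iff]
          simp only [Subgroup.coe_mul, Subgroup.coe_inv, QuotientGroup.mk_mul, QuotientGroup.mk_inv]
          rw [inv_mul_eq_one]
          exact hMab _ a.2 _ c.2
        haveI := Fintype.ofFinite (F ⧸ K.subgroupOf F)
        have h1 : IsConj (y : F ⧸ K.subgroupOf F) 1 := (isConj_iff_forall_irr _ _).2 fun χ => by
          obtain ⟨l, hl⟩ := IsCharacter.exists_monoidHom (irr_isCharacter χ) (apply_one_of_comm hcomm χ)
          rw [← hl, map_one]
          refine hy (l.comp (QuotientGroup.mk' _)) fun k hk => ?_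
          rw [MonoidHom.comp_apply, QuotientGroup.mk'_apply,
            (QuotientGroup.eq_one_iff k).2 (Subgroup.mem_subgroupOf.2 hk), map_one]
        exact Subgroup.mem_subgroupOf.1 ((QuotientGroup.eq_one_iff y).1 (isConj_one_left.1 h1))
      have hmoved : ∀ g : G, g ∉ F → ∀ y : F,
          (∀ ν : F →* ℂ, (∀ k : F, (k : G) ∈ K → ν k = 1) → ν (MulAut.conjNormal g y) = ν y) →
            (y : G) ∈ K := by
        intro g hg y hy
        have h1 : ((MulAut.conjNormal g y * y⁻¹ : F) : G) ∈ K := hsep _ fun ν hν => by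
          rw [map_mul, hy ν hν, ← map_mul, mul_inv_cancel, map_one]
        rw [Subgroup.coe_mul, InvMemClass.coe_inv, MulAut.conjNormal_apply, ← QuotientGroup.eq_one_iff,
          QuotientGroup.mk_mul, QuotientGroup.mk_inv, mul_inv_eq_one] at h1
        refine (QuotientGroup.eq_one_iff _).1 (hfix (g : G ⧸ K) hg _ y.2 ?_)
        rw [QuotientGroup.mk_mul, QuotientGroup.mk_mul, QuotientGroup.mk_inv] at h1
        exact mul_inv_eq_iff_eq_mul.1 h1
      have hfixν : ∀ g : G, g ∉ F → ∀ ν : F →* ℂ, (∀ k : F, (k : G) ∈ K → ν k = 1) →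
          (∀ x : F, ν (MulAut.conjNormal g x) = ν x) → ν = 1 := by
        intro g hg ν hνK hνg
        let φ : M → M := fun x => ⟨⁅(g : G ⧸ K), x.1⁆,
          Subgroup.commutator_mem_commutator (Subgroup.mem_top _) (Subgroup.mem_top _)⟩
        have hinj : Function.Injective φ := by
          intro x y hxy
          have h1 : (g : G ⧸ K) * x.1 * (g : G ⧸ K)⁻¹ * x.1⁻¹ =
              (g : G ⧸ K) * y.1 * (g : G ⧸ K)⁻¹ * y.1⁻¹ := congrArg Subtype.val hxy
          have h2 : (g : G ⧸ K) * (y.1⁻¹ * x.1) * (g : G ⧸ K)⁻¹ = y.1⁻¹ * x.1 := by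
            calc (g : G ⧸ K) * (y.1⁻¹ * x.1) * (g : G ⧸ K)⁻¹
                = ((g : G ⧸ K) * y.1 * (g : G ⧸ K)⁻¹)⁻¹ *
                  ((g : G ⧸ K) * x.1 * (g : G ⧸ K)⁻¹ * x.1⁻¹) * x.1 := by group
              _ = y.1⁻¹ * x.1 := by rw [h1]; group
          exact Subtype.ext (inv_mul_eq_one.1 (hfix (g : G ⧸ K) hg _ (mul_mem (inv_mem y.2) x.2)
            (mul_inv_eq_iff_eq_mul.1 h2))).symm
        refine MonoidHom.ext fun y => ?_
        obtain ⟨⟨x, hx⟩, hxy⟩ := (Finite.injective_iff_surjective.1 hinj) ⟨(y : G ⧸ K), y.2⟩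
        obtain ⟨x, rfl⟩ := QuotientGroup.mk_surjective x
        have hk : ((MulAut.conjNormal g (⟨x, hx⟩ : F) * (⟨x, hx⟩ : F)⁻¹ * y⁻¹ : F) : G) ∈ K := by
          rw [← QuotientGroup.eq_one_iff]
          simp only [Subgroup.coe_mul, Subgroup.coe_inv, MulAut.conjNormal_apply, QuotientGroup.mk_mul,
            QuotientGroup.mk_inv]
          exact mul_inv_eq_one.2 (congrArg Subtype.val hxy)
        have := hνK _ hk
        rw [map_mul, map_mul, hνg, ← map_mul, mul_inv_cancel, map_one, one_mul] at this
        have h4 : ν y * ν y⁻¹ = 1 := by rw [← map_mul, mul_inv_cancel, map_one]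
        rwa [this, mul_one] at h4
      have hexν : ∃ ν : F →* ℂ, (∀ k : F, (k : G) ∈ K → ν k = 1) ∧ ν ≠ 1 := by
        by_contra h
        push Not at h
        refine hQna ((Subgroup.eq_bot_iff_forall _).2 fun z hz => ?_)
        obtain ⟨z, rfl⟩ := QuotientGroup.mk_surjective z
        exact (QuotientGroup.eq_one_iff z).2 (hsep ⟨z, hz⟩ fun ν hν => by
          rw [h ν hν, MonoidHom.one_apply])
      have h1F : ¬ q ∣ Cfsg.charDegree (trivialChar F).1 := by
        simp [Cfsg.charDegree, hq.one_lt.ne']
      have hFb : F.index ≤ b := by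
        obtain ⟨χ, hχ⟩ := S4811.exists_full_degree F K (fun h k hk => hKn.conj_mem k hk h) hG'F q hq
          (fun x hx => by rw [← QuotientGroup.eq_one_iff, QuotientGroup.mk_pow]; exact hexp _ hx)
          hfixν hexν (trivialChar F) h1F
        have h2 := hb χ
        rw [← charDegree_eq_degree, hχ] at h2
        simpa [Cfsg.charDegree] using h2
      by_cases hψ : ∀ θ : IrrCharacter F, degree θ ≤ b - 1
      · exact hfirst F (hFb.trans (Nat.le_self_pow two_ne_zero b)) hψ
      push Not at hψ
      obtain ⟨ψ, hψ⟩ := hψ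
      have hFtop : F ≠ ⊤ := fun h => hMtop (by
        apply Subgroup.comap_injective (QuotientGroup.mk'_surjective K)
        rw [← hF, h, Subgroup.comap_top])
      obtain ⟨g, hg⟩ : ∃ g, g ∉ F := by
        by_contra! h
        exact hFtop ((Subgroup.eq_top_iff' F).2 h)
      set Kf := K.subgroupOf F
      have hvan : ∀ y : F, y ∉ Kf → ψ.1 y = 0 := by
        intro y hy
        by_contra hne
        refine hy (Subgroup.mem_subgroupOf.2 (hmoved g hg y fun ν hν => ?_))
        obtain ⟨χ, hχ⟩ := exists_restrict_eq hb F ⟨_, IsIrrCharacter.mul_linear ψ.2 ν⟩ (by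
          rw [degree_eq_of_apply_one (χ := ⟨_, IsIrrCharacter.mul_linear ψ.2 ν⟩)
            (n := degree ψ) (by show ν 1 * ψ.1 1 = _; rw [map_one, one_mul, apply_one_eq_degree])]
          omega)
        obtain ⟨χ0, hχ0⟩ := exists_restrict_eq hb F ψ (by omega)
        have hc : ∀ (φ : IrrCharacter G), φ.1 (MulAut.conjNormal g y : G) = φ.1 (y : G) := fun φ => by
          rw [MulAut.conjNormal_apply]
          exact IsCharacter.isClassFunction (irr_isCharacter φ) (y : G) g
        have e1 : ν (MulAut.conjNormal g y) * ψ.1 (MulAut.conjNormal g y) = ν y * ψ.1 y := by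
          have := hc χ
          rwa [hχ, hχ] at this
        have e2 : ψ.1 (MulAut.conjNormal g y) = ψ.1 y := by
          rw [← hχ0, ← hχ0]; exact hc χ0
        rw [e2] at e1
        exact mul_right_cancel₀ hne e1
      have hidx : Kf.index ≤ b ^ 2 :=
        (index_le_sq ψ Kf hvan).trans (Nat.pow_le_pow_left (degree_le hb F ψ) 2)
      have hKidx : K.index = Kf.index * F.index := by
        rw [← Subgroup.relIndex_mul_index hKF]; rfl
      rcases Nat.lt_or_ge b 3 with hb3 | hb3
      · -- no such group of degree two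
        exfalso
        have hb2' : b = 2 := by omega
        have hM1 : Kf.index ≠ 1 := fun h => hQna ((Subgroup.eq_bot_iff_forall _).2 fun z hz => by
          obtain ⟨z, rfl⟩ := QuotientGroup.mk_surjective z
          exact (QuotientGroup.eq_one_iff z).2 (Subgroup.subgroupOf_eq_top.1 (Subgroup.index_eq_one.1 h) hz))
        obtain ⟨r, hr, hrd⟩ := Nat.exists_prime_and_dvd hM1
        haveI := Fact.mk hr
        obtain ⟨y, hy⟩ := exists_prime_orderOf_dvd_card' (G := F ⧸ Kf) r
          (by rwa [← Subgroup.index_eq_card])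
        obtain ⟨y, rfl⟩ := QuotientGroup.mk_surjective y
        have hyq : ((y : F ⧸ Kf)) ^ q = 1 := by
          rw [← QuotientGroup.mk_pow, QuotientGroup.eq_one_iff, Subgroup.mem_subgroupOf,
            SubgroupClass.coe_pow, ← QuotientGroup.eq_one_iff, QuotientGroup.mk_pow]
          exact hexp _ y.2
        have hrq : r = q := by
          have := orderOf_dvd_of_pow_eq_one hyq
          rw [hy] at this
          exact (Nat.prime_dvd_prime_iff_eq hr hq).1 this
        have hq2 : q = 2 := by
          have h1 := prime_dvd_degree_of_vanish ψ Kf hvan hr hrd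
          rw [show degree ψ = 2 by have := degree_le hb F ψ; omega, hrq] at h1
          exact (Nat.prime_dvd_prime_iff_eq hq Nat.prime_two).1 h1
        have hf2 : F.index = 2 := by
          have h1 : F.index ≠ 1 := fun h => hFtop (Subgroup.index_eq_one.1 h)
          have h2 : F.index ≠ 0 := Subgroup.index_ne_zero_of_finite
          omega
        have hgg : (g : G ⧸ K) * (g : G ⧸ K) ∈ M := by
          rw [← QuotientGroup.mk_mul]
          exact (Subgroup.mul_mem_iff_of_index_two hf2).2 Iff.rfl
        have hgK : (g : G ⧸ K) * (g : G ⧸ K) = 1 := hfix _ hg _ hgg (mul_assoc _ _ _).symm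
        obtain ⟨x, hx, hx1⟩ : ∃ x ∈ M, x ≠ 1 := by
          by_contra! h
          exact hQna ((Subgroup.eq_bot_iff_forall _).2 h)
        set c := (g : G ⧸ K)
        have hcM : c * x * c⁻¹ ∈ M := (inferInstance : (commutator (G ⧸ K)).Normal).conj_mem x hx c
        have hfixed : c * (x * (c * x * c⁻¹)) = (x * (c * x * c⁻¹)) * c := by
          rw [← mul_inv_eq_iff_eq_mul]
          calc c * (x * (c * x * c⁻¹)) * c⁻¹ = c * x * c⁻¹ * ((c * c) * x * (c * c)⁻¹) := by group
            _ = c * x * c⁻¹ * x := by rw [hgK]; group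
            _ = x * (c * x * c⁻¹) := hMab _ hcM _ hx
        have h1 := hfix c hg _ (mul_mem hx hcM) hfixed
        have h2 : x * x = 1 := by rw [← pow_two, ← hq2]; exact hexp x hx
        have h3 : c * x * c⁻¹ = x := mul_left_cancel (h1.trans h2.symm)
        exact hx1 (hfix c hg x hx (mul_inv_eq_iff_eq_mul.1 h3))
      · refine hlast ?_
        have h1 : K.index ≤ b ^ 2 * b := hKidx ▸ Nat.mul_le_mul hidx hFb
        have h2 : (b / 2).factorial ≤ (b - 2).factorial := Nat.factorial_le (by omega)
        have h3 : b * (b - 1) * (b - 2).factorial = b.factorial := by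
          obtain ⟨c, rfl⟩ : ∃ c, b = c + 2 := ⟨b - 2, by omega⟩
          simp only [Nat.add_sub_cancel, show c + 2 - 1 = c + 1 by omega, Nat.factorial_succ]
          ring
        have h4 : b ≤ (b - 1) ^ 2 := by
          obtain ⟨c, rfl⟩ : ∃ c, b = c + 3 := ⟨b - 3, by omega⟩
          rw [show c + 3 - 1 = c + 2 by omega]; nlinarith
        calc K.index * (b / 2).factorial ^ 2 ≤ (b ^ 2 * b) * (b - 2).factorial ^ 2 :=
              Nat.mul_le_mul h1 (Nat.pow_le_pow_left h2 2)
          _ ≤ (b ^ 2 * (b - 1) ^ 2) * (b - 2).factorial ^ 2 :=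
              Nat.mul_le_mul_right _ (Nat.mul_le_mul_left _ h4)
          _ = b.factorial ^ 2 := by rw [← h3]; ring
  · -- the insoluble case
    have hMM : ⁅M, M⁆ = M :=
      le_antisymm (Subgroup.commutator_le_self M) (hQmin _ inferInstance hab)
    have hnsol : ¬ Group.IsSolvable (G ⧸ K) := by
      intro hs
      obtain ⟨n, hn⟩ := hs.solvable
      have key : ∀ j, M ≤ derivedSeries (G ⧸ K) j := fun j => by
        induction j with
        | zero => simp
        | succ j ih => rw [derivedSeries_succ, ← hMM]; exact Subgroup.commutator_mono ih ih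
      exact hQna (le_bot_iff.1 (hn ▸ key n))
    haveI : Nontrivial (G ⧸ K) := by
      by_contra hQ
      rw [not_nontrivial_iff_subsingleton] at hQ
      exact hQna (Subsingleton.elim _ _)
    obtain ⟨x, hx, hm, hk⟩ := exists_small_class hdegQ (by omega)
    set C := Subgroup.centralizer ({x} : Set (G ⧸ K)) with hC
    set m := C.index
    set H := C.comap (QuotientGroup.mk' K) with hH
    haveI := Fintype.ofFinite H
    by_cases hθ : ∀ θ : IrrCharacter H, degree θ ≤ b - 1
    · exact hfirst H (by rw [hH, hMcomap]; exact hm) hθ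
    push Not at hθ
    obtain ⟨ψ, hψ⟩ := hθ
    set Kh := K.subgroupOf H
    have hKH : K ≤ H := fun k hk => by
      rw [hH, Subgroup.mem_comap, QuotientGroup.mk'_apply, (QuotientGroup.eq_one_iff k).2 hk]
      exact one_mem _
    have hvan : ∀ y : H, y ∉ Kh → ψ.1 y = 0 := by
      intro y hy
      by_contra hne
      have hcl : ∀ g : G ⧸ K, g⁻¹ * ((y : G) : G ⧸ K) * g ∈ C := fun g => by
        obtain ⟨g, rfl⟩ := QuotientGroup.mk_surjective g
        rw [← QuotientGroup.mk_inv, ← QuotientGroup.mk_mul, ← QuotientGroup.mk_mul]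
        exact conj_mem_of_ne_zero hb H ψ (by omega) y hne g
      have hne1 : Subgroup.normalClosure {((y : G) : G ⧸ K)} ≠ ⊥ := fun h => hy (by
        rw [Subgroup.mem_subgroupOf, ← QuotientGroup.eq_one_iff, ← Subgroup.mem_bot, ← h]
        exact Subgroup.subset_normalClosure rfl)
      have hMC : M ≤ C := (hQmin _ Subgroup.normalClosure_normal hne1).trans (by
        refine Subgroup.closure_le _ |>.2 fun z hz => ?_
        obtain ⟨u, hu, huz⟩ := Group.mem_conjugatesOfSet_iff.1 hz
        obtain ⟨g, rfl⟩ := isConj_iff.1 huz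
        rw [Set.mem_singleton_iff.1 hu]
        simpa using hcl g⁻¹)
      haveI : (Subgroup.centralizer (M : Set (G ⧸ K))).Normal := inferInstance
      have h0 := center_le_bot_of_min hQmin hab (Subgroup.centralizer (M : Set (G ⧸ K)))
        fun a ha c hc => (Subgroup.mem_centralizer_iff.1 ha c hc).symm
      refine hx (Subgroup.mem_bot.1 (h0 ▸ Subgroup.mem_centralizer_iff.2 fun c hc => ?_))
      exact Subgroup.mem_centralizer_singleton_iff.1 (hMC hc)
    set s := Kh.index
    have hs2 : s ≤ b ^ 2 := (index_le_sq ψ Kh hvan).trans (Nat.pow_le_pow_left (degree_le hb H ψ) 2)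
    have hms : K.index = s * m := by
      rw [← Subgroup.relIndex_mul_index hKH, hH, hMcomap]; rfl
    rcases Nat.lt_or_ge b 5 with hb5 | hb5
    swap
    · refine hlast ?_
      have h2 : (b / 2).factorial ≤ (b - 3).factorial := Nat.factorial_le (by omega)
      have h3 := factorial_ge_three (b := b) (by omega)
      have h4 : b ^ 2 ≤ b * (b - 1) * (b - 2) := by
        obtain ⟨c, rfl⟩ : ∃ c, b = c + 5 := ⟨b - 5, by omega⟩
        rw [show c + 5 - 1 = c + 4 by omega, show c + 5 - 2 = c + 3 by omega]; nlinarith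
      calc K.index * (b / 2).factorial ^ 2 ≤ (b ^ 2 * b ^ 2) * (b - 3).factorial ^ 2 :=
            Nat.mul_le_mul (hms ▸ Nat.mul_le_mul hs2 hm) (Nat.pow_le_pow_left h2 2)
        _ = (b ^ 2 * (b - 3).factorial) ^ 2 := by ring
        _ ≤ b.factorial ^ 2 := Nat.pow_le_pow_left (h3 ▸ Nat.mul_le_mul_right _ h4) 2
    have hdegψ : degree ψ = b := by have := degree_le hb H ψ; omega
    have hsp : ∀ r, r.Prime → r ∣ s → r ∣ b := fun r hr hd =>
      hdegψ ▸ prime_dvd_degree_of_vanish ψ Kh hvan hr hd
    have hm1 : 1 ≤ m := Nat.one_le_iff_ne_zero.2 Subgroup.index_ne_zero_of_finite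
    have hb16 : b ^ 2 ≤ 16 := by
      calc b ^ 2 ≤ 4 ^ 2 := Nat.pow_le_pow_left (by omega) 2
        _ = 16 := rfl
    rcases small_primes b hb5 m (by omega) hb2 hm1 hm with ⟨hb4, hm15⟩ | ⟨p, hp, q, hq, hpq⟩
    · -- `b = 4`, index fifteen
      refine hlast ?_
      subst hb4
      have hs16 : s ≤ 16 := by simpa using hs2
      obtain ⟨j, hj⟩ : ∃ j, s = 2 ^ j := ⟨s.primeFactorsList.length,
        Nat.eq_prime_pow_of_unique_prime_dvd Subgroup.index_ne_zero_of_finite fun {d} hd hds =>
          (Nat.prime_dvd_prime_iff_eq hd Nat.prime_two).1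
            (hd.dvd_of_dvd_pow (n := 2) (show d ∣ 2 ^ 2 from hsp d hd hds))⟩
      have hj4 : j ≤ 4 := by
        by_contra h
        have : 2 ^ 5 ≤ 2 ^ j := Nat.pow_le_pow_right two_pos (by omega)
        omega
      rw [hms, hm15]
      by_cases hj3 : j ≤ 3
      · have : 2 ^ j ≤ 2 ^ 3 := Nat.pow_le_pow_right two_pos hj3
        norm_num [Nat.factorial] at this ⊢
        omega
      exfalso
      have hs : s = 16 := by rw [hj, show j = 4 by omega]; rfl
      have hQ : Nat.card (G ⧸ K) = 240 := by rw [← hKQ, hms, hm15, hs]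
      rw [hQ, hm15] at hk
      have hk15 : Nat.card (IrrCharacter (G ⧸ K)) - 1 ≤ 15 := by omega
      have hsum := sum_degree_sq (G := G ⧸ K)
      rw [← Finset.add_sum_erase _ _ (Finset.mem_univ (trivialChar (G ⧸ K))), hQ,
        show degree (trivialChar (G ⧸ K)) = 1 from degree_eq_of_apply_one (by simp), one_pow] at hsum
      set T := (Finset.univ : Finset (IrrCharacter (G ⧸ K))).erase (trivialChar (G ⧸ K))
      have hT : T.card ≤ 15 := by
        rw [Finset.card_erase_of_mem (Finset.mem_univ _), Finset.card_univ, ← Nat.card_eq_fintype_card]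
        exact hk15
      by_cases hall : ∀ χ ∈ T, degree χ = 4
      · rw [Finset.sum_congr rfl fun χ hχ => by rw [hall χ hχ], Finset.sum_const, smul_eq_mul] at hsum
        omega
      · push Not at hall
        obtain ⟨χ, hχ, hne⟩ := hall
        rw [← Finset.add_sum_erase _ _ hχ] at hsum
        have h9 : degree χ ^ 2 ≤ 3 ^ 2 := Nat.pow_le_pow_left (by have := hdegQ χ; omega) 2
        have hrest : ∑ φ ∈ T.erase χ, degree φ ^ 2 ≤ (T.erase χ).card * 4 ^ 2 :=
          (Finset.sum_le_card_nsmul _ _ _ fun φ _ => Nat.pow_le_pow_left (hdegQ φ) 2).trans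
            (le_of_eq (smul_eq_mul _ _))
        rw [Finset.card_erase_of_mem hχ] at hrest
        omega
    · -- at most two primes
      exfalso
      refine hnsol ?_
      have hp' : p.Prime := by fin_cases hp <;> norm_num
      have hq' : q.Prime := by fin_cases hq <;> norm_num
      have hpr : ∀ r ∈ (Nat.card (G ⧸ K)).primeFactors, r ∈ ({p, q} : Finset ℕ) := by
        intro r hr
        have hrp := Nat.prime_of_mem_primeFactors hr
        have hrd : r ∣ b * m := by
          have := Nat.dvd_of_mem_primeFactors hr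
          rw [← hKQ, hms] at this
          rcases hrp.dvd_mul.1 this with h | h
          · exact (hsp r hrp h).mul_right m
          · exact h.mul_left b
        have hr16 : r ≤ 16 := by
          rcases hrp.dvd_mul.1 hrd with h | h
          · exact (Nat.le_of_dvd (by omega) h).trans (by omega)
          · exact (Nat.le_of_dvd hm1 h).trans (by omega)
        have : r ∈ [2, 3, 5, 7, 11, 13] := by
          interval_cases r <;> first | decide | (exfalso; revert hrp; norm_num)
        rcases hpq r this hrd with h | h <;> simp [h]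
      have hprod := Nat.prod_factorization_pow_eq_self (Nat.card_pos (α := G ⧸ K)).ne'
      rw [Finsupp.prod, Nat.support_factorization,
        Finset.prod_subset (s₂ := {p, q}) hpr (fun r _ hr => by
          rw [← Nat.support_factorization, Finsupp.notMem_support_iff] at hr
          rw [hr, pow_zero])] at hprod
      by_cases hpq' : p = q
      · subst hpq'
        rw [show ({p, p} : Finset ℕ) = {p} by simp, Finset.prod_singleton] at hprod
        exact CharInt.isSolvable_of_card_eq (a := (Nat.card (G ⧸ K)).factorization p) (b := 0) hp' hp'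
          (by rw [pow_zero, mul_one]; exact hprod.symm)
      · rw [Finset.prod_pair hpq'] at hprod
        exact CharInt.isSolvable_of_card_eq hp' hq' hprod.symm

/-- A group with degrees at most `b` has an abelian subgroup of index at most `(b!) ^ 2`. -/
theorem exists_abelian (b : ℕ) : ∀ (G : Type u) [Group G] [Fintype G],
    (∀ χ : IrrCharacter G, degree χ ≤ b) →
    ∃ A : Subgroup G, (∀ x ∈ A, ∀ y ∈ A, x * y = y * x) ∧ A.index ≤ b.factorial ^ 2 := by
  induction b using Nat.strong_induction_on with
  | _ b ih =>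
  intro G _ _ hb
  by_cases hna : commutator G = ⊥
  · refine ⟨⊤, fun x _ y _ => commutatorElement_eq_one_iff_mul_comm.1
      (Subgroup.mem_bot.1 (hna ▸ Subgroup.commutator_mem_commutator (Subgroup.mem_top x) (Subgroup.mem_top y))),
      ?_⟩
    rw [Subgroup.index_top]
    exact Nat.one_le_pow _ _ b.factorial_pos
  obtain ⟨-, H, c, hc, hH, hidx⟩ := exists_step hb hna
  haveI := Fintype.ofFinite H
  obtain ⟨A, hA, hAi⟩ := ih c hc H hH
  refine ⟨A.map H.subtype, ?_, ?_⟩
  · rintro _ ⟨x, hx, rfl⟩ _ ⟨y, hy, rfl⟩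
    exact congrArg H.subtype (hA x hx y hy)
  · rw [Subgroup.index_map_subtype]
    exact le_trans (Nat.mul_le_mul_right _ hAi) (mul_comm H.index _ ▸ hidx)

/-- Let b be the largest irreducible character degree of the finite group G. Then G has an abelian subgroup of index at most (b!)². -/
theorem result {G : Type*} [Group G] [Finite G] (b : ℕ) (hb : IsGreatest {d : ℕ | ∃ χ : Cfsg.IrrCharacter G, Cfsg.charDegree (χ : G → ℂ) = d} b) : ∃ A : Subgroup G, (∀ x ∈ A, ∀ y ∈ A, x * y = y * x) ∧ A.index ≤ (Nat.factorial b) ^ 2 := by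
  haveI := Fintype.ofFinite G
  exact exists_abelian b G fun χ => charDegree_eq_degree χ ▸ hb.2 ⟨χ, rfl⟩

end Cfsg.Agent.S4463
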