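import Cfsg.Statements.S4464
import Cfsg.Agent.Lib.DegreeLtPrime.Restriction
import Cfsg.Agent.Lib.Char.InducedEq
import Cfsg.Agent.Lib.Char.Clifford
import Cfsg.Agent.Lib.Char.PermChar

set_option linter.style.haveILetI false

set_option autoImplicit false
open Cfsg

namespace Cfsg.Agent.S4464

open Cfsg.Agent Cfsg.Agent.DegreeLtPrime
open scoped Classical Pointwise

universe u

/-- The hypothesis passes to subgroups. -/
theorem degree_lt_subgroup {G : Type u} [Group G] [Fintype G] {p : ℕ}
    (hb : ∀ χ : IrrCharacter G, Char.degree χ < p) (H : Subgroup G) (θ : IrrCharacter H) :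
    Char.degree θ < p := by
  obtain ⟨m, hm, hm'⟩ :=
    Char.IsCharacter.exists_decomp (Char.isCharacter_indFun H (Char.irr_isCharacter θ))
  obtain ⟨χ, hχ⟩ : ∃ χ, m χ ≠ 0 := by
    by_contra h
    push Not at h
    have h1 := congrFun hm 1
    simp only [h, Nat.cast_zero, zero_smul, Finset.sum_const_zero, Pi.zero_apply] at h1
    rw [Char.indFun_apply_one] at h1
    exact mul_ne_zero (Nat.cast_ne_zero.2 Subgroup.FiniteIndex.index_ne_zero)
      (Char.IsIrrCharacter.apply_one_ne_zero θ.2) h1
  have h1 := hm' χ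
  rw [Char.classInner_indFun H θ.1
    (Char.IsCharacter.isClassFunction (Char.irr_isCharacter χ))] at h1
  have h2 := Char.le_of_constituent (Char.IsCharacter.restrict (Char.irr_isCharacter χ) H) θ (by
    rw [← Char.conj_classInner, h1, map_natCast]
    exact Nat.cast_ne_zero.2 hχ) (n := Char.degree χ) (by
    show χ.1 ((1 : H) : G) = _
    rw [Subgroup.coe_one, Char.apply_one_eq_degree])
  rw [Char.charDegree_eq_degree] at h2
  exact h2.trans_lt (hb χ)

/-- The hypothesis passes to quotients. -/
theorem degree_lt_quotient {G : Type u} [Group G] [Fintype G] {p : ℕ}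
    (hb : ∀ χ : IrrCharacter G, Char.degree χ < p) (Q : Subgroup G) [Q.Normal]
    (θ : IrrCharacter (G ⧸ Q)) : Char.degree θ < p := by
  let χ : IrrCharacter G := ⟨_,
    Char.IsIrrCharacter.comp_surjective θ.2 (QuotientGroup.mk' Q) (QuotientGroup.mk'_surjective Q)⟩
  have h1 : (Char.degree χ : ℂ) = Char.degree θ := by
    rw [← Char.apply_one_eq_degree, ← Char.apply_one_eq_degree]
    show θ.1 (QuotientGroup.mk' Q 1) = θ.1 1
    rw [map_one]
  exact Nat.cast_injective h1 ▸ hb χ

/-- A `p`-subgroup is abelian. -/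
theorem comm_of_pgroup {G : Type u} [Group G] [Fintype G] {p : ℕ} [Fact p.Prime]
    (hb : ∀ χ : IrrCharacter G, Char.degree χ < p) (P : Subgroup G) (hP : IsPGroup p P) :
    ∀ a b : P, a * b = b * a := by
  refine Char.forall_apply_one_iff_comm.1 fun θ => ?_
  obtain ⟨k, hk⟩ := IsPGroup.iff_card.1 hP
  have hd := Char.degree_dvd_index_of_comm (N := (⊥ : Subgroup P))
    (fun a ha b hb' => by rw [Subgroup.mem_bot.1 ha, Subgroup.mem_bot.1 hb']) θ
  rw [Subgroup.index_bot, hk] at hd
  obtain ⟨i, -, hi⟩ := (Nat.dvd_prime_pow Fact.out).1 hd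
  have hlt := degree_lt_subgroup hb P θ
  rcases Nat.eq_zero_or_pos i with rfl | hi'
  · rw [Char.apply_one_eq_degree, hi]; simp
  · rw [hi] at hlt
    exact absurd hlt (not_lt.2 (Nat.le_self_pow hi'.ne' p))

/-- An element in every class is all. -/
theorem eq_top_of_forall_conj {M : Type u} [Group M] [Finite M] (D : Subgroup M)
    (h : ∀ x : M, ∃ m : M, m⁻¹ * x * m ∈ D) : D = ⊤ := by
  haveI := Fintype.ofFinite M
  haveI := Fintype.ofFinite (M ⧸ D)
  have hb := MulAction.sum_card_fixedBy_eq_card_orbits_mul_card_group M (M ⧸ D)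
  haveI : Subsingleton (Quotient (MulAction.orbitRel M (M ⧸ D))) :=
    ⟨fun a b => Quotient.inductionOn₂ a b fun x y => Quotient.sound
      (MulAction.orbitRel_apply.2 (MulAction.exists_smul_eq M y x))⟩
  have hfix : ∀ x : M, 1 ≤ Fintype.card (MulAction.fixedBy (M ⧸ D) x) := fun x => by
    obtain ⟨m, hm⟩ := h x
    refine Fintype.card_pos_iff.2 ⟨⟨(m : M ⧸ D), ?_⟩⟩
    show ((x * m : M) : M ⧸ D) = m
    rw [eq_comm, QuotientGroup.eq, ← mul_assoc]
    exact hm
  have h1 : Fintype.card (MulAction.fixedBy (M ⧸ D) (1 : M)) = Fintype.card (M ⧸ D) := by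
    refine Fintype.card_congr (Equiv.subtypeUnivEquiv fun q => ?_)
    exact MulAction.mem_fixedBy.2 (one_smul M q)
  have h2 : Fintype.card (M ⧸ D) + (Fintype.card M - 1) ≤
      1 * Fintype.card M := by
    have h3 : Fintype.card (Quotient (MulAction.orbitRel M (M ⧸ D))) ≤ 1 :=
      Fintype.card_le_one_iff_subsingleton.2 inferInstance
    refine le_trans ?_ (Nat.mul_le_mul_right _ h3)
    rw [← hb, ← Finset.add_sum_erase _ _ (Finset.mem_univ (1 : M)), h1,
      ← Finset.card_univ (α := M), ← Finset.card_erase_of_mem (Finset.mem_univ (1 : M)),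
      Finset.card_eq_sum_ones]
    exact Nat.add_le_add_left (Finset.sum_le_sum fun x _ => hfix x) _
  refine Subgroup.index_eq_one.1 ?_
  have h4 : 0 < Fintype.card (M ⧸ D) := Fintype.card_pos
  have h5 : 0 < Fintype.card M := Fintype.card_pos
  rw [Subgroup.index, Nat.card_eq_fintype_card]
  omega

/-- A `p`-subgroup together with a normal `p'`-subgroup it generates the group with: it is normal. -/
theorem normal_of_normal_compl {G : Type u} [Group G] [Fintype G] {p : ℕ} [hp : Fact p.Prime]
    (hb : ∀ χ : IrrCharacter G, Char.degree χ < p) (P : Sylow p G) (M : Subgroup G) [M.Normal]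
    (hM : ¬ p ∣ Nat.card M) (htop : (P : Subgroup G) ⊔ M = ⊤) : (P : Subgroup G).Normal := by
  obtain ⟨a, ha⟩ := IsPGroup.iff_card.1 P.2
  have hdec : ∀ g : G, ∃ x ∈ (P : Subgroup G), ∃ m ∈ M, x * m = g := fun g => by
    have h : g ∈ (P : Subgroup G) ⊔ M := htop.symm ▸ Subgroup.mem_top g
    rw [← SetLike.mem_coe, Subgroup.mul_normal] at h
    exact Set.mem_mul.1 h
  have hMidx : M.index ∣ Nat.card P := by
    have h1 : M.relIndex ((P : Subgroup G) ⊔ M) = M.relIndex P := Subgroup.relIndex_sup_right _ _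
    rw [htop, Subgroup.relIndex_top_right] at h1
    rw [h1]
    exact Subgroup.index_dvd_card _
  -- every irreducible character of `M` is invariant
  have hinv : ∀ (θ : IrrCharacter M) (g : G), Char.conjFun M θ.1 g = θ.1 := by
    intro θ
    let S : Subgroup G :=
      { carrier := {g | Char.conjFun M θ.1 g = θ.1}
        one_mem' := Char.conjFun_one M θ.1
        mul_mem' := fun {x y} (hx : _ = _) (hy : _ = _) => by
          show Char.conjFun M θ.1 (x * y) = θ.1
          rw [Char.conjFun_mul, hx, hy]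
        inv_mem' := fun {x} (hx : _ = _) => (Char.conjFun_eq_iff M θ.1 θ.1 x).1 hx }
    obtain ⟨m, hm, hm'⟩ :=
      Char.IsCharacter.exists_decomp (Char.isCharacter_indFun M (Char.irr_isCharacter θ))
    obtain ⟨χ, hχ⟩ : ∃ χ, m χ ≠ 0 := by
      by_contra h
      push Not at h
      have h1 := congrFun hm 1
      simp only [h, Nat.cast_zero, zero_smul, Finset.sum_const_zero, Pi.zero_apply] at h1
      rw [Char.indFun_apply_one] at h1
      exact mul_ne_zero (Nat.cast_ne_zero.2 Subgroup.FiniteIndex.index_ne_zero)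
        (Char.IsIrrCharacter.apply_one_ne_zero θ.2) h1
    have h1 := hm' χ
    rw [Char.classInner_indFun M θ.1
      (Char.IsCharacter.isClassFunction (Char.irr_isCharacter χ))] at h1
    have hθ : classInner (Char.resFun M χ.1) θ.1 ≠ 0 := by
      show classInner (fun x : M => χ.1 x) θ.1 ≠ 0
      rw [← Char.conj_classInner, h1, map_natCast]
      exact Nat.cast_ne_zero.2 hχ
    have hdeg := Char.apply_one_eq_mul_card_orbit M χ θ hθ
    obtain ⟨e, he⟩ : ∃ e : ℕ, classInner (Char.resFun M χ.1) θ.1 = e :=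
      ⟨m χ, by
        show classInner (fun x : M => χ.1 x) θ.1 = _
        rw [← Char.conj_classInner, h1, map_natCast]⟩
    rw [he, Char.apply_one_eq_degree, Char.apply_one_eq_degree] at hdeg
    have hdeg' : Char.degree χ = e * ((Char.orbitFinset M θ).card * Char.degree θ) := by
      exact_mod_cast hdeg
    have hcard : (Char.orbitFinset M θ).card < p := by
      refine lt_of_le_of_lt ?_ (hb χ)
      refine Nat.le_of_dvd (Char.degree_pos χ) ?_
      rw [hdeg']
      exact (dvd_mul_right _ _).mul_left _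
    have hidx : S.index < p := by
      refine lt_of_le_of_lt ?_ hcard
      let F : G ⧸ S → {η // η ∈ Char.orbitFinset M θ} := fun q =>
        ⟨Char.conjChar M θ q.out⁻¹, (Char.mem_orbitFinset M).2 ⟨_, rfl⟩⟩
      have hF : Function.Injective F := by
        intro q q' hq
        have h2 : Char.conjFun M θ.1 q.out⁻¹ = Char.conjFun M θ.1 q'.out⁻¹ :=
          congrArg (fun z : {η // η ∈ Char.orbitFinset M θ} => z.1.1) hq
        rw [← q.out_eq', ← q'.out_eq', QuotientGroup.eq]
        show Char.conjFun M θ.1 (q.out⁻¹ * q'.out) = θ.1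
        rw [Char.conjFun_mul, h2, ← Char.conjFun_mul, inv_mul_cancel, Char.conjFun_one]
      have := Nat.card_le_card_of_injective F hF
      rw [Nat.card_eq_finsetCard] at this
      exact this
    have hle : M ≤ S := fun x hx => by
      funext n
      exact Char.IsCharacter.isClassFunction (Char.irr_isCharacter θ) n ⟨x, hx⟩ |> fun h => by
        show θ.1 (MulAut.conjNormal x n) = θ.1 n
        rw [show MulAut.conjNormal x n = (⟨x, hx⟩ : M) * n * (⟨x, hx⟩ : M)⁻¹ from
          Subtype.ext (by simp)]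
        exact h
    obtain ⟨i, -, hi⟩ := (Nat.dvd_prime_pow hp.out).1
      (ha ▸ (Subgroup.index_dvd_of_le hle).trans hMidx)
    have hi0 : i = 0 := by
      by_contra h
      have := Nat.le_self_pow h p
      omega
    rw [hi0, pow_zero] at hi
    intro g
    have h2 : g ∈ S := (Subgroup.index_eq_one.1 hi).symm ▸ Subgroup.mem_top g
    exact h2
  -- so every class meets the centralizer of `P`
  have hmeet : ∀ x : M, ∃ m : M, m⁻¹ * x * m ∈ (Subgroup.centralizer (P : Set G)).subgroupOf M := by
    intro x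
    set C := Subgroup.centralizer ({(x : G)} : Set G) with hC
    have hsup : C ⊔ M = ⊤ := by
      refine eq_top_iff.2 fun g _ => ?_
      have hconj : IsConj (x : M) (MulAut.conjNormal g x) :=
        (Char.isConj_iff_forall_irr _ _).2 fun θ => (congrFun (hinv θ g) x).symm
      obtain ⟨m, hm⟩ := isConj_iff.1 hconj
      have hm' : (m : G) * x * (m : G)⁻¹ = g * x * g⁻¹ := by
        simpa using congrArg (fun z : M => (z : G)) hm
      rw [show g = (m : G) * ((m : G)⁻¹ * g) from (mul_inv_cancel_left _ _).symm]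
      refine mul_mem (Subgroup.mem_sup_right m.2) (Subgroup.mem_sup_left ?_)
      rw [hC, Subgroup.mem_centralizer_singleton_iff]
      calc (m : G)⁻¹ * g * x = (m : G)⁻¹ * (g * x * g⁻¹) * g := by group
        _ = x * ((m : G)⁻¹ * g) := by rw [← hm']; group
    have hCcard : Nat.card P ∣ Nat.card C := by
      have h1 : M.relIndex (C ⊔ M) = M.relIndex C := Subgroup.relIndex_sup_right _ _
      rw [hsup, Subgroup.relIndex_top_right] at h1
      refine dvd_trans ?_ (show M.index ∣ Nat.card C from h1 ▸ Subgroup.index_dvd_card _)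
      have hco : (Nat.card P).Coprime (Nat.card M) := by
        rw [ha]
        exact Nat.Coprime.pow_left a (hp.out.coprime_iff_not_dvd.2 hM)
      refine hco.dvd_of_dvd_mul_right ?_
      rw [M.index_mul_card]
      exact Subgroup.card_subgroup_dvd_card _
    obtain ⟨R, hR⟩ := Sylow.exists_subgroup_card_pow_prime p (n := a) (ha ▸ hCcard)
    set R' := R.map C.subtype with hR'
    have hR'card : Nat.card R' = p ^ a := by
      rw [hR', Nat.card_congr (Subgroup.equivMapOfInjective R C.subtype C.subtype_injective).symm.toEquiv, hR]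
    obtain ⟨Q, hQ⟩ := (IsPGroup.of_card hR'card).exists_le_sylow
    have hQR : R' = Q := Subgroup.eq_of_le_of_card_ge hQ (by
      rw [hR'card, ← ha, Sylow.card_eq_multiplicity, Sylow.card_eq_multiplicity])
    obtain ⟨g, hg⟩ := MulAction.exists_smul_eq G P Q
    obtain ⟨y, hy, m, hm, hgm⟩ := hdec g⁻¹
    -- `g = m⁻¹ y⁻¹`
    refine ⟨⟨m⁻¹, inv_mem hm⟩, ?_⟩
    rw [Subgroup.mem_subgroupOf, Subgroup.mem_centralizer_iff]
    intro z hz
    have hzQ : m⁻¹ * z * m ∈ (Q : Subgroup G) := by
      rw [← hg, Sylow.coe_subgroup_smul]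
      refine Subgroup.mem_pointwise_smul_iff_inv_smul_mem.2 ?_
      rw [← map_inv, MulAut.smul_def, MulAut.conj_apply, inv_inv, ← hgm,
        show g = (y * m)⁻¹ by rw [hgm, inv_inv],
        show y * m * (m⁻¹ * z * m) * (y * m)⁻¹ = y * z * y⁻¹ by group]
      exact mul_mem (mul_mem hy hz) (inv_mem hy)
    rw [← hQR] at hzQ
    obtain ⟨c, -, hc⟩ := Subgroup.mem_map.1 hzQ
    have h3 := Subgroup.mem_centralizer_singleton_iff.1 c.2
    rw [show (c : G) = m⁻¹ * z * m from hc] at h3
    simp only [Subgroup.coe_mul, Subgroup.coe_inv]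
    calc z * (m⁻¹⁻¹ * x * m⁻¹) = m * (m⁻¹ * z * m * x) * m⁻¹ := by group
      _ = m * (x * (m⁻¹ * z * m)) * m⁻¹ := by rw [h3]
      _ = m⁻¹⁻¹ * x * m⁻¹ * z := by group
  have hcent := eq_top_of_forall_conj _ hmeet
  rw [Subgroup.subgroupOf_eq_top] at hcent
  refine ⟨fun z hz g => ?_⟩
  obtain ⟨y, hy, m, hm, rfl⟩ := hdec g
  have h2 := Subgroup.mem_centralizer_iff.1 (hcent hm) z hz
  rw [show y * m * z * (y * m)⁻¹ = y * (m * z * m⁻¹) * y⁻¹ by group, ← h2,
    mul_inv_cancel_right]
  exact mul_mem (mul_mem hy hz) (inv_mem hy)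

/-- In a simple group of order divisible by `p` some degree is at least `p`. -/
theorem normal_of_simple {G : Type u} [Group G] [Fintype G] {p : ℕ} [hp : Fact p.Prime]
    (hb : ∀ χ : IrrCharacter G, Char.degree χ < p)
    (hsimple : ∀ M : Subgroup G, M.Normal → M = ⊥ ∨ M = ⊤)
    (hind : ∀ H : Subgroup G, H ≠ ⊤ → ∀ R : Sylow p H, (R : Subgroup H).Normal) (P : Sylow p G) :
    (P : Subgroup G).Normal := by
  by_contra hnot
  set N := Subgroup.normalizer ((P : Subgroup G) : Set G) with hN
  have hP0 : (P : Subgroup G) ≠ ⊥ := fun h => hnot (h.symm ▸ inferInstance)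
  have hab := comm_of_pgroup hb P.1 P.2
  have hPle : (P : Subgroup G) ≤ Subgroup.centralizer ((P : Subgroup G) : Set G) := fun a ha b hb' =>
    congrArg Subtype.val (hab ⟨b, hb'⟩ ⟨a, ha⟩)
  have hcent : ∀ x ∈ Subgroup.centralizer ((P : Subgroup G) : Set G), x ≠ 1 →
      Subgroup.centralizer ({x} : Set G) ≤ N := by
    intro x hx hx1
    have hle : (P : Subgroup G) ≤ Subgroup.centralizer ({x} : Set G) := fun a ha =>
      Subgroup.mem_centralizer_singleton_iff.2 (Subgroup.mem_centralizer_iff.1 hx a ha)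
    have hne : Subgroup.centralizer ({x} : Set G) ≠ ⊤ := by
      intro htop
      have hz : x ∈ Subgroup.center G := Subgroup.mem_center_iff.2 fun g =>
        Subgroup.mem_centralizer_singleton_iff.1 (htop.symm ▸ Subgroup.mem_top g)
      rcases hsimple (Subgroup.center G) inferInstance with h | h
      · exact hx1 (Subgroup.mem_bot.1 (h ▸ hz))
      · refine hnot ⟨fun a ha g => ?_⟩
        have : a ∈ Subgroup.center G := h.symm ▸ Subgroup.mem_top a
        rw [Subgroup.mem_center_iff.1 this g, mul_inv_cancel_right]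
        exact ha
    have h1 := hind _ hne (P.subtype hle)
    exact (Subgroup.normal_subgroupOf_iff_le_normalizer hle).1 h1
  set n := N.index with hn
  have hn' : Nat.card (Sylow p G) = n := Sylow.card_eq_index_normalizer P
  obtain ⟨t, ht⟩ : ∃ t, n = 1 + t * p := by
    have h1 := card_sylow_modEq_one p G
    rw [hn'] at h1
    refine ⟨n / p, ?_⟩
    have h2 := Nat.div_add_mod n p
    rw [show n % p = 1 from Eq.trans h1 (Nat.mod_eq_of_lt hp.out.one_lt), mul_comm] at h2
    omega
  have ht1 : 1 ≤ t := by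
    by_contra h
    rw [Nat.lt_one_iff.1 (not_le.1 h), zero_mul, add_zero] at ht
    exact hnot (Subgroup.normalizer_eq_top_iff.1 (Subgroup.index_eq_one.1 ht))
  have hpP : p ∣ Nat.card P := by
    obtain ⟨a, ha⟩ := IsPGroup.iff_card.1 P.2
    rcases Nat.eq_zero_or_pos a with rfl | h
    · exact absurd (Subgroup.card_eq_one.1 (by simpa using ha)) hP0
    · rw [ha]; exact dvd_pow_self p h.ne'
  -- abelian subgroups of order at least `2 p` over `P`
  have hbig : ∀ H : Subgroup G, (∀ a b : H, a * b = b * a) → (P : Subgroup G) ≤ H →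
      Nat.card H < 2 * p := by
    intro H hHab hPH
    by_contra hq
    push Not at hq
    have hbd := index_bound hb H N hHab fun h hh h1 => hcent h (fun a ha =>
      congrArg Subtype.val (hHab ⟨a, hPH ha⟩ ⟨h, hh⟩)) h1
    rw [← N.index_mul_card, ← hn] at hbd
    have hbd' : n * Nat.card H ≤ (p - 1) * (n + (Nat.card H - 1)) :=
      Nat.le_of_mul_le_mul_left (show Nat.card N * (n * Nat.card H) ≤
        Nat.card N * ((p - 1) * (n + (Nat.card H - 1))) from le_trans (le_of_eq (by ring))
          (hbd.trans (le_of_eq (by ring)))) Nat.card_pos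
    have hteq : t = 1 := by
      by_contra hne
      have h2 : 1 + 2 * p ≤ n := by
        have := Nat.mul_le_mul_right p (show 2 ≤ t by omega)
        omega
      obtain ⟨k, hk⟩ := Nat.exists_eq_add_of_le hq
      obtain ⟨p', hp'⟩ : ∃ p', p = p' + 1 := ⟨p - 1, by have := hp.out.one_lt; omega⟩
      obtain ⟨l, hl⟩ := Nat.exists_eq_add_of_le h2
      rw [hk, hl, hp', Nat.add_sub_cancel,
        show 2 * (p' + 1) + k - 1 = 2 * p' + 1 + k by omega] at hbd'
      nlinarith
    subst hteq
    rw [one_mul] at ht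
    -- the action on the Sylow subgroups is doubly transitive
    haveI : Fintype (Sylow p G) := Fintype.ofFinite _
    have hfix : ∀ Q : Sylow p G, (∀ x ∈ (P : Subgroup G), x • Q = Q) → Q = P := fun Q hQ => by
      have h1 : (P : Subgroup G) ≤ Subgroup.normalizer ((Q : Subgroup G) : Set G) := fun x hx =>
        Sylow.smul_eq_iff_mem_normalizer.1 (hQ x hx)
      have h2 : (P : Subgroup G) ⊓ Subgroup.normalizer ((Q : Subgroup G) : Set G) =
          (P : Subgroup G) ⊓ (Q : Subgroup G) := P.2.inf_normalizer_sylow Q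
      rw [inf_eq_left.2 h1, eq_comm, inf_eq_left] at h2
      exact Sylow.ext (P.3 Q.2 h2)
    have hPfix : ∀ x ∈ (P : Subgroup G), x • P = P := fun x hx =>
      Sylow.smul_eq_iff_mem_normalizer.2 (Subgroup.le_normalizer hx)
    obtain ⟨Q₀, hQ₀⟩ : ∃ Q : Sylow p G, Q ≠ P := by
      by_contra h
      push Not at h
      haveI : Subsingleton (Sylow p G) := ⟨fun a b => (h a).trans (h b).symm⟩
      have := Finite.card_le_one_iff_subsingleton.2 (inferInstance : Subsingleton (Sylow p G))
      have := hp.out.pos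
      omega
    have horb : ∀ Q : Sylow p G, Q ≠ P → Q ∈ MulAction.orbit (P : Subgroup G) Q₀ := by
      obtain ⟨i, hi⟩ := P.2.card_orbit Q₀
      have hi1 : 1 ≤ i := by
        by_contra h
        rw [Nat.lt_one_iff.1 (not_le.1 h), pow_zero] at hi
        refine hQ₀ (hfix Q₀ fun x hx => ?_)
        haveI := (Nat.card_eq_one_iff_unique.1 hi).1
        exact congrArg Subtype.val (Subsingleton.elim
          (⟨(⟨x, hx⟩ : (P : Subgroup G)) • Q₀, MulAction.mem_orbit _ _⟩ :
            MulAction.orbit (P : Subgroup G) Q₀) ⟨Q₀, MulAction.mem_orbit_self _⟩)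
      have hsub : MulAction.orbit (P : Subgroup G) Q₀ ⊆ {Q | Q ≠ P} := by
        rintro _ ⟨x, rfl⟩ h
        apply hQ₀
        have h' : (x : G) • Q₀ = P := h
        calc Q₀ = (x : G)⁻¹ • ((x : G) • Q₀) := (inv_smul_smul _ _).symm
          _ = P := by rw [h']; exact hPfix _ (inv_mem x.2)
      have hcard2 : ({Q | Q ≠ P} : Set (Sylow p G)).ncard = p := by
        have := Set.ncard_add_ncard_compl ({P} : Set (Sylow p G))
        rw [Set.ncard_singleton, hn', ht] at this
        rw [show ({Q | Q ≠ P} : Set (Sylow p G)) = ({P} : Set (Sylow p G))ᶜ by ext; simp]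
        omega
      have heq := Set.eq_of_subset_of_ncard_le hsub (by
        rw [hcard2, ← Nat.card_coe_set_eq, hi]
        exact Nat.le_self_pow (by omega) p)
      exact fun Q hQ => heq.symm ▸ hQ
    have h2orb : Nat.card (Quotient (MulAction.orbitRel G (Sylow p G × Sylow p G))) = 2 := by
      rw [Nat.card_eq_two_iff]
      refine ⟨⟦(P, P)⟧, ⟦(P, Q₀)⟧, fun h => ?_, Set.eq_univ_of_forall fun z => ?_⟩
      · obtain ⟨g, hg⟩ := MulAction.orbitRel_apply.1 (Quotient.exact h)
        have h1 : g • P = P := congrArg Prod.fst hg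
        have h2 : g • Q₀ = P := congrArg Prod.snd hg
        exact hQ₀ (MulAction.injective g (h2.trans h1.symm))
      · induction z using Quotient.inductionOn with
        | _ z =>
          obtain ⟨a, b⟩ := z
          obtain ⟨g, hg⟩ := MulAction.exists_smul_eq G a P
          by_cases hgb : g • b = P
          · refine Or.inl (Quotient.sound (MulAction.orbitRel_apply.2 ⟨g⁻¹, ?_⟩))
            show (g⁻¹ • P, g⁻¹ • P) = (a, b)
            conv_rhs => rw [← inv_smul_smul g a, ← inv_smul_smul g b, hg, hgb]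
          · obtain ⟨x, hx⟩ := horb _ hgb
            refine Or.inr (Quotient.sound (MulAction.orbitRel_apply.2 ⟨g⁻¹ * x, ?_⟩))
            show ((g⁻¹ * (x : G)) • P, (g⁻¹ * (x : G)) • Q₀) = (a, b)
            rw [mul_smul, mul_smul, hPfix _ x.2, show (x : G) • Q₀ = g • b from hx, inv_smul_smul,
              ← hg, inv_smul_smul]
    have h1orb : Nat.card (Quotient (MulAction.orbitRel G (Sylow p G))) = 1 := by
      rw [Nat.card_eq_one_iff_unique]
      exact ⟨⟨fun a b => Quotient.inductionOn₂ a b fun x y => Quotient.sound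
        (MulAction.orbitRel_apply.2 (MulAction.exists_smul_eq G y x))⟩, ⟨⟦P⟧⟩⟩
    -- the permutation character has a constituent of degree `p`
    obtain ⟨m, hm, hm'⟩ := Char.IsCharacter.exists_decomp (Char.isCharacter_fixedBy (G := G) (Sylow p G))
    have htriv : m (Char.trivialChar G) = 1 := by
      have h1 := hm' (Char.trivialChar G)
      rw [show (Char.trivialChar G).1 = fun _ => (1 : ℂ) from rfl, Char.classInner_fixedBy_one,
        h1orb] at h1
      exact_mod_cast h1.symm
    have hsq : ∑ ψ, m ψ * m ψ = 2 := by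
      have h1 := Char.classInner_fixedBy_self (G := G) (Sylow p G)
      rw [h2orb, Char.classInner_eq_sum
        (Char.IsCharacter.isClassFunction (Char.isCharacter_fixedBy (G := G) (Sylow p G))),
        Finset.sum_congr rfl (g := fun ψ => ((m ψ * m ψ : ℕ) : ℂ)) fun ψ _ => by
          rw [← Char.conj_classInner _ ψ.1, hm', map_natCast, Nat.cast_mul],
        ← Nat.cast_sum] at h1
      exact_mod_cast h1
    rw [← Finset.add_sum_erase _ _ (Finset.mem_univ (Char.trivialChar G)), htriv] at hsq
    obtain ⟨ψ, hψ, hψ0⟩ := Finset.exists_ne_zero_of_sum_ne_zero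
      (show ∑ ψ ∈ Finset.univ.erase (Char.trivialChar G), m ψ * m ψ ≠ 0 by omega)
    rw [← Finset.add_sum_erase _ _ hψ] at hsq
    have hψ1 : m ψ = 1 := by
      have := Nat.le_mul_self (m ψ)
      have : m ψ ≠ 0 := fun h => hψ0 (by rw [h, mul_zero])
      omega
    have hrest : ∀ χ ∈ (Finset.univ.erase (Char.trivialChar G)).erase ψ, m χ = 0 := fun χ hχ => by
      have := Finset.single_le_sum (f := fun χ => m χ * m χ) (fun _ _ => Nat.zero_le _) hχ
      have := Nat.le_mul_self (m χ)
      rw [hψ1] at hsq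
      omega
    have hdeg := congrFun hm 1
    have hfix1 : Nat.card (MulAction.fixedBy (Sylow p G) (1 : G)) = n := by
      rw [← hn']
      exact Nat.card_congr (Equiv.subtypeUnivEquiv fun Q => MulAction.mem_fixedBy.2 (one_smul G Q))
    rw [hfix1, Finset.sum_apply, ← Finset.add_sum_erase _ _ (Finset.mem_univ (Char.trivialChar G)),
      ← Finset.add_sum_erase _ _ hψ, Finset.sum_eq_zero (fun χ hχ => by simp [hrest χ hχ]),
      htriv, hψ1] at hdeg
    simp only [Nat.cast_one, one_smul, add_zero, Char.apply_one_eq_degree] at hdeg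
    have h1 : Char.degree (Char.trivialChar G) = 1 := Nat.cast_injective (R := ℂ) (by
      rw [← Char.apply_one_eq_degree, Nat.cast_one]; rfl)
    rw [h1] at hdeg
    have h3 : n = 1 + Char.degree ψ := by exact_mod_cast hdeg
    have := hb ψ
    omega
  -- so `P` has order `p` and is self-centralising
  have hPp : Nat.card P = p := by
    have h1 := hbig P.1 hab le_rfl
    obtain ⟨k, hk⟩ := hpP
    rw [hk] at h1 ⊢
    have hk1 : k ≠ 0 := fun h => Nat.card_pos.ne' (hk.trans (by rw [h, mul_zero]))
    have : k < 2 := Nat.lt_of_mul_lt_mul_left (by rwa [mul_comm 2 p] at h1)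
    rw [show k = 1 by omega, mul_one]
  have hCP : Subgroup.centralizer ((P : Subgroup G) : Set G) = (P : Subgroup G) := by
    refine le_antisymm (fun x hx => ?_) hPle
    by_contra hxP
    let H := (P : Subgroup G) ⊔ Subgroup.zpowers x
    have hHc : H ≤ Subgroup.centralizer (H : Set G) := by
      have h1 : (P : Subgroup G) ≤ Subgroup.centralizer ((P : Subgroup G) ⊔ Subgroup.zpowers x : Subgroup G) := by
        rw [Subgroup.le_centralizer_iff, sup_le_iff]
        exact ⟨hPle, Subgroup.zpowers_le.2 hx⟩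
      have h2 : Subgroup.zpowers x ≤ Subgroup.centralizer ((P : Subgroup G) ⊔ Subgroup.zpowers x : Subgroup G) := by
        rw [Subgroup.le_centralizer_iff, sup_le_iff]
        refine ⟨?_, ?_⟩
        · rw [Subgroup.le_centralizer_iff]
          exact Subgroup.zpowers_le.2 hx
        · rintro _ ⟨i, rfl⟩ _ ⟨j, rfl⟩
          exact (Commute.zpow_zpow (Commute.refl x) j i).eq
      exact sup_le h1 h2
    have hlt := hbig H (fun a b => Subtype.ext (hHc b.2 a a.2)) le_sup_left
    obtain ⟨k, hk⟩ := (Subgroup.card_dvd_of_le (le_sup_left : (P : Subgroup G) ≤ H))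
    rw [hPp] at hk
    rw [hk] at hlt
    have hk1 : k ≠ 0 := fun h => Nat.card_pos.ne' (hk.trans (by rw [h, mul_zero]))
    have hk2 : k ≠ 1 := fun h => hxP (by
      rw [Subgroup.eq_of_le_of_card_ge (le_sup_left : (P : Subgroup G) ≤ H)
        (by rw [hk, h, mul_one, hPp])]
      exact Subgroup.mem_sup_right (Subgroup.mem_zpowers x))
    have : k < 2 := Nat.lt_of_mul_lt_mul_left (by rwa [mul_comm 2 p] at hlt)
    omega
  obtain ⟨y, hyP, hy1⟩ : ∃ y ∈ (P : Subgroup G), y ≠ 1 := (Subgroup.ne_bot_iff_exists_ne_one.1 hP0).elim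
    fun a ha => ⟨a, a.2, fun h => ha (Subtype.ext h)⟩
  have hy : orderOf y = p := by
    have h1 : orderOf y ∣ p := by
      rw [← hPp, show orderOf y = orderOf (⟨y, hyP⟩ : (P : Subgroup G)) from
        (Subgroup.orderOf_mk _ hyP).symm]
      exact orderOf_dvd_natCard _
    exact ((Nat.dvd_prime hp.out).1 h1).resolve_left fun h => hy1 (orderOf_eq_one_iff.1 h)
  have hzy : Subgroup.zpowers y = (P : Subgroup G) := Subgroup.eq_of_le_of_card_ge
    (Subgroup.zpowers_le.2 hyP) (by rw [Nat.card_zpowers, hy, hPp])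
  have hC : Subgroup.centralizer ({y} : Set G) = Subgroup.zpowers y := by
    rw [hzy, ← hCP]
    refine le_antisymm (fun x hx => ?_) (Subgroup.centralizer_le (Set.singleton_subset_iff.2 hyP))
    rw [← hzy, Subgroup.mem_centralizer_iff]
    rintro _ ⟨i, rfl⟩
    exact (Commute.zpow_left (Subgroup.mem_centralizer_singleton_iff.1 hx).symm i).eq
  refine false_of_self_centralizing hb hy hC ht1 (by rw [hzy]; exact ht) ?_ fun χ hχ => ?_
  · rw [hzy, ← hN]
    obtain ⟨k, hk⟩ := (Subgroup.card_dvd_of_le (Subgroup.le_normalizer (H := (P : Subgroup G))))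
    rw [hPp, ← hN] at hk
    have hk1 : k ≠ 0 := fun h => Nat.card_pos.ne' (hk.trans (by rw [h, mul_zero]))
    have hk2 : k ≠ 1 := by
      intro h
      have hNP : N = (P : Subgroup G) := (Subgroup.eq_of_le_of_card_ge Subgroup.le_normalizer
        (by rw [hk, h, mul_one, hPp])).symm
      have hle : Subgroup.normalizer ((P : Subgroup G) : Set G) ≤
          Subgroup.centralizer ((P : Subgroup G) : Set G) := by rw [hCP, ← hN, hNP]
      have hcomp := MonoidHom.ker_transferSylow_isComplement' P hle
      rcases hsimple (MonoidHom.transferSylow P hle).ker inferInstance with h' | h'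
      · rw [h', Subgroup.isComplement'_bot_left] at hcomp
        exact hnot (hcomp.symm ▸ inferInstance)
      · rw [h', Subgroup.isComplement'_top_left] at hcomp
        exact hP0 hcomp
    rw [hk, mul_comm]
    exact Nat.mul_le_mul_left p (by omega)
  · obtain ⟨d, ρ, hirr, hρ⟩ := χ.2
    have hρy : ρ y = 1 := by
      refine (CharInt.character_eq_finrank_iff ρ y).1 ?_
      rw [hρ, hχ, ← hρ, ρ.char_one]
    have hker : ρ.ker = ⊤ := (hsimple ρ.ker inferInstance).resolve_left fun h =>
      hy1 (Subgroup.mem_bot.1 (h ▸ (MonoidHom.mem_ker.2 hρy : y ∈ ρ.ker)))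
    have hconst : ∀ g, χ.1 g = χ.1 1 := fun g => by
      rw [← hρ]
      show LinearMap.trace ℂ _ (ρ g) = LinearMap.trace ℂ _ (ρ 1)
      rw [map_one, MonoidHom.mem_ker.1 (hker.symm ▸ Subgroup.mem_top g : g ∈ ρ.ker)]
    by_contra hne
    refine Char.IsIrrCharacter.apply_one_ne_zero χ.2 ?_
    have h1 := Char.classInner_irr_of_ne χ.2 (Char.trivialChar G).2 fun h => hne (Subtype.ext h)
    rw [classInner, Finset.sum_congr rfl (g := fun _ => χ.1 1) fun g _ => by
      rw [hconst g]; simp [Char.trivialChar], Finset.sum_const, nsmul_eq_mul, Finset.card_univ,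
      ← Nat.card_eq_fintype_card, inv_mul_cancel_left₀ Char.card_ne_zero] at h1
    exact h1

/-- The Sylow subgroups are normal. -/
theorem normal_sylow (p : ℕ) [hp : Fact p.Prime] :
    ∀ (n : ℕ) (G : Type u) [Group G] [Fintype G], Nat.card G = n →
      (∀ χ : IrrCharacter G, Char.degree χ < p) → ∀ P : Sylow p G, (P : Subgroup G).Normal := by
  intro n
  induction n using Nat.strong_induction_on with
  | _ n ih =>
  intro G _ _ hn hb P
  have hind : ∀ H : Subgroup G, H ≠ ⊤ → ∀ R : Sylow p H, (R : Subgroup H).Normal := fun H hH R =>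
    ih (Nat.card H) (hn ▸ lt_of_le_of_ne (Subgroup.card_le_card_group _)
      fun h => hH (Subgroup.eq_top_of_card_eq _ h)) H rfl (degree_lt_subgroup hb H) R
  by_cases hQ : ∃ Q : Subgroup G, Q.Normal ∧ IsPGroup p Q ∧ Q ≠ ⊥
  · obtain ⟨Q, hQn, hQp, hQ0⟩ := hQ
    have hQP : Q ≤ (P : Subgroup G) := by
      obtain ⟨P', hP'⟩ := hQp.exists_le_sylow
      obtain ⟨g, hg⟩ := MulAction.exists_smul_eq G P' P
      intro x hx
      rw [← hg, Sylow.coe_subgroup_smul, Subgroup.mem_pointwise_smul_iff_inv_smul_mem]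
      refine hP' ?_
      rw [← map_inv, MulAut.smul_def, MulAut.conj_apply]
      exact hQn.conj_mem x hx _
    haveI := Fintype.ofFinite (G ⧸ Q)
    have hlt : Nat.card (G ⧸ Q) < n := by
      rw [← hn, ← Subgroup.index, ← Q.index_mul_card]
      exact lt_mul_of_one_lt_right (Nat.pos_of_ne_zero Subgroup.FiniteIndex.index_ne_zero)
        (Subgroup.one_lt_card_iff_ne_bot _ |>.2 hQ0)
    have h := ih _ hlt (G ⧸ Q) rfl (degree_lt_quotient hb Q)
      (P.mapSurjective (QuotientGroup.mk'_surjective Q))
    have h' := h.comap (QuotientGroup.mk' Q)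
    rwa [Sylow.coe_mapSurjective, Subgroup.comap_map_eq, QuotientGroup.ker_mk',
      sup_eq_left.2 hQP] at h'
  push Not at hQ
  by_cases hM : ∃ M : Subgroup G, M.Normal ∧ M ≠ ⊥ ∧ M ≠ ⊤
  · obtain ⟨M, hMn, hM0, hMt⟩ := hM
    have hpM : ¬ p ∣ Nat.card M := by
      intro hd
      obtain ⟨R⟩ : Nonempty (Sylow p M) := inferInstance
      haveI : (R : Subgroup M).Normal := hind M hMt R
      haveI := R.characteristic_of_normal inferInstance
      have hR1 : (R : Subgroup M).map M.subtype = ⊥ :=
        hQ _ (ConjAct.normal_of_characteristic_of_normal) (R.2.map M.subtype)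
      rw [Subgroup.map_eq_bot_iff_of_injective _ M.subtype_injective] at hR1
      have h1 := R.dvd_card_of_dvd_card hd
      rw [hR1, Subgroup.card_bot] at h1
      exact hp.out.not_dvd_one h1
    by_cases htop : (P : Subgroup G) ⊔ M = ⊤
    · exact normal_of_normal_compl hb P M hpM htop
    haveI := Fintype.ofFinite (G ⧸ M)
    have hlt : Nat.card (G ⧸ M) < n := by
      rw [← hn, ← Subgroup.index, ← M.index_mul_card]
      exact lt_mul_of_one_lt_right (Nat.pos_of_ne_zero Subgroup.FiniteIndex.index_ne_zero)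
        (Subgroup.one_lt_card_iff_ne_bot _ |>.2 hM0)
    have h := ih _ hlt (G ⧸ M) rfl (degree_lt_quotient hb M)
      (P.mapSurjective (QuotientGroup.mk'_surjective M))
    have hK := h.comap (QuotientGroup.mk' M)
    rw [Sylow.coe_mapSurjective, Subgroup.comap_map_eq, QuotientGroup.ker_mk'] at hK
    haveI := hK
    set K := (P : Subgroup G) ⊔ M
    let R := P.subtype (le_sup_left : (P : Subgroup G) ≤ K)
    haveI : (R : Subgroup K).Normal := hind K htop R
    haveI := R.characteristic_of_normal inferInstance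
    have h2 : ((R : Subgroup K).map K.subtype).Normal := ConjAct.normal_of_characteristic_of_normal
    rwa [Sylow.coe_subtype, Subgroup.map_subgroupOf_eq_of_le le_sup_left] at h2
  push Not at hM
  exact normal_of_simple hb (fun M hMn => or_iff_not_imp_left.2 (hM M hMn)) hind P


/-- Let p be a prime and G a finite group all of whose irreducible character degrees are less than p. Then G has a normal abelian Sylow p-subgroup. -/
theorem result {G : Type*} [Group G] [Finite G] (p : ℕ) (hp : p.Prime) (hb : ∀ χ : Cfsg.IrrCharacter G, Cfsg.charDegree (χ : G → ℂ) < p) : ∃ P : Subgroup G, P.Normal ∧ (∀ x ∈ P, ∀ y ∈ P, x * y = y * x) ∧ IsPGroup p P ∧ ¬ p ∣ P.index := by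
  haveI := Fintype.ofFinite G
  haveI : Fact p.Prime := ⟨hp⟩
  have hb' : ∀ χ : IrrCharacter G, Char.degree χ < p := fun χ => by
    rw [← Char.charDegree_eq_degree]
    exact hb χ
  obtain ⟨P⟩ : Nonempty (Sylow p G) := inferInstance
  refine ⟨P, normal_sylow p _ G rfl hb' P, fun x hx y hy => ?_, P.2, P.not_dvd_index⟩
  exact congrArg Subtype.val (comm_of_pgroup hb' P.1 P.2 ⟨x, hx⟩ ⟨y, hy⟩)

end Cfsg.Agent.S4464
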