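import Cfsg.Statements.S4466
import Cfsg.Agent.Lib.DefectOne.Shape
import Cfsg.Agent.Lib.CharInt.Burnside
import Cfsg.Agent.Lib.CharInt.Kazarin
import Cfsg.Agent.Lib.Char.Clifford
import Cfsg.Agent.Lib.Glauberman.Solvable
import Cfsg.Agent.Lib.Char.Linear
import Cfsg.Agent.Lib.Char.KernelSum
import Cfsg.Agent.Lib.Clifford.Extension

set_option autoImplicit false
set_option linter.style.haveILetI false
set_option linter.unusedSectionVars false
open Cfsg
open scoped ComplexConjugate Classical commutatorElement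

namespace Cfsg.Agent.S4466

open Cfsg.Agent.Char

universe u

variable {G : Type u} [Group G] [Fintype G]

/-- The degrees of the irreducible characters different from one are primes. -/
def PrimeDegrees (G : Type u) [Group G] : Prop :=
  ∀ χ : IrrCharacter G, degree χ ≠ 1 → (degree χ).Prime

theorem hom_eq_one_of_perfect (hperf : commutator G = ⊤) (f : G →* ℂ) : f = 1 := by
  have h1 : Nat.card (G →* ℂ) = 1 := by rw [card_monoidHom_complex, hperf, Subgroup.index_top]
  haveI := (Nat.card_eq_one_iff_unique.1 h1).1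
  exact Subsingleton.elim _ _

theorem restrict_prime_order {p : ℕ} (P : Sylow p G) (χ : IrrCharacter G) (a : ℂ)
    (hval : ∀ y : (P : Subgroup G), y ≠ 1 → χ.1 y = a) (hlt : 1 < Nat.card P)
    (hab : ∀ x y : (P : Subgroup G), x * y = y * x) :
    ∃ u v : ℕ, (Nat.card P : ℂ) * u = degree χ + ((Nat.card P : ℂ) - 1) * a ∧
      (Nat.card P : ℂ) * v = degree χ - a := by
  haveI : Fintype (P : Subgroup G) := Fintype.ofFinite _
  have hc := IsCharacter.restrict (irr_isCharacter χ) (P : Subgroup G)
  obtain ⟨u, hu⟩ := IsCharacter.exists_nat_classInner hc (irr_isCharacter (trivialChar (P : Subgroup G)))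
  haveI : Nontrivial (P : Subgroup G) := Finite.one_lt_card_iff_nontrivial.1 hlt
  obtain ⟨l, hl⟩ : ∃ l : IrrCharacter (P : Subgroup G), l ≠ trivialChar _ := by
    by_contra h
    push Not at h
    have h1 := sum_degree_sq (G := (P : Subgroup G))
    rw [Finset.sum_eq_single (trivialChar _) (fun b _ hb => absurd (h b) hb) (by simp)] at h1
    have h2 : degree (trivialChar (P : Subgroup G)) = 1 :=
      Nat.cast_eq_one.1 (apply_one_eq_degree (trivialChar (P : Subgroup G))).symm
    rw [h2, one_pow, show Nat.card (P : Subgroup G) = Nat.card P from rfl] at h1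
    omega
  obtain ⟨v, hv⟩ := IsCharacter.exists_nat_classInner hc (irr_isCharacter l)
  have hP0 : (Nat.card P : ℂ) ≠ 0 := Nat.cast_ne_zero.2 (by omega)
  have hsplit : ∀ F : ↥(P : Subgroup G) → ℂ, ∑ w : ↥(P : Subgroup G), χ.1 (w : G) * F w =
      (degree χ : ℂ) * F 1 + a * ∑ w ∈ Finset.univ.erase (1 : (P : Subgroup G)), F w := by
    intro F
    rw [← Finset.add_sum_erase _ _ (Finset.mem_univ (1 : (P : Subgroup G))), Finset.mul_sum,
      OneMemClass.coe_one, apply_one_eq_degree]
    congr 1
    exact Finset.sum_congr rfl fun w hw => by rw [hval w (Finset.ne_of_mem_erase hw)]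
  refine ⟨u, v, ?_, ?_⟩
  · rw [← hu]
    show (Nat.card P : ℂ) * ((Nat.card (P : Subgroup G) : ℂ)⁻¹ *
      ∑ w : ↥(P : Subgroup G), χ.1 (w : G) * conj ((trivialChar (P : Subgroup G)).1 w)) = _
    rw [show Nat.card (P : Subgroup G) = Nat.card P from rfl, mul_inv_cancel_left₀ hP0, hsplit]
    simp only [trivialChar_apply, map_one, mul_one, Finset.sum_const, nsmul_one,
      Finset.card_erase_of_mem (Finset.mem_univ (1 : (P : Subgroup G))), Finset.card_univ,
      ← Nat.card_eq_fintype_card]
    rw [show Nat.card (P : Subgroup G) = Nat.card P from rfl, Nat.cast_sub (by omega), Nat.cast_one]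
    ring
  · rw [← hv]
    show (Nat.card P : ℂ) * ((Nat.card (P : Subgroup G) : ℂ)⁻¹ *
      ∑ w : ↥(P : Subgroup G), χ.1 (w : G) * conj (l.1 w)) = _
    rw [show Nat.card (P : Subgroup G) = Nat.card P from rfl, mul_inv_cancel_left₀ hP0, hsplit]
    have hl1 : l.1 1 = 1 := apply_one_of_comm hab l
    have h0 := classInner_irr_of_ne (trivialChar (P : Subgroup G)).2 l.2
      fun e => hl (Subtype.ext e.symm)
    simp only [classInner, trivialChar_apply, one_mul] at h0
    have h0' : ∑ w, conj (l.1 w) = 0 :=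
      (mul_eq_zero.1 h0).resolve_left (inv_ne_zero (Nat.cast_ne_zero.2 Nat.card_pos.ne'))
    rw [← Finset.add_sum_erase _ _ (Finset.mem_univ (1 : (P : Subgroup G))), hl1, map_one] at h0'
    rw [hl1, map_one]
    linear_combination a * h0'

theorem false_of_simple [IsSimpleGroup G] (hnc : ¬ ∀ a b : G, a * b = b * a)
    (h : PrimeDegrees G) : False := by
  have hcen : Subgroup.center G = ⊥ := by
    rcases (inferInstance : (Subgroup.center G).Normal).eq_bot_or_eq_top with hc | hc
    · exact hc
    · exact absurd (fun a b => Subgroup.mem_center_iff.1 (hc ▸ Subgroup.mem_top b) a) hnc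
  have hperf : commutator G = ⊤ := by
    rcases (inferInstance : (commutator G).Normal).eq_bot_or_eq_top with hc | hc
    · exfalso
      refine hnc fun a b => ?_
      have hm : ⁅a, b⁆ ∈ commutator G :=
        Subgroup.commutator_mem_commutator (Subgroup.mem_top a) (Subgroup.mem_top b)
      rw [hc, Subgroup.mem_bot] at hm
      exact commutatorElement_eq_one_iff_mul_comm.1 hm
    · exact hc
  have hne1 : ∀ χ : IrrCharacter G, χ ≠ trivialChar G → degree χ ≠ 1 := by
    intro χ hχ hd
    obtain ⟨f, hf⟩ := IsCharacter.exists_monoidHom (irr_isCharacter χ) (by rw [apply_one_eq_degree, hd, Nat.cast_one])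
    refine hχ (Subtype.ext (funext fun g => ?_))
    rw [← congrFun hf g, hom_eq_one_of_perfect hperf f]
    rfl
  have hscal : ∀ χ : IrrCharacter G, χ ≠ trivialChar G → ∀ g : G, g ≠ 1 →
      ‖χ.1 g‖ ≠ ‖χ.1 1‖ := by
    intro χ hχ g hg he
    have := CharInt.mem_center_of_norm_eq χ.2 (fun e => hχ (Subtype.ext e)) he
    rw [hcen, Subgroup.mem_bot] at this
    exact hg this
  -- Sylow subgroups for the degree primes have prime order
  have hsyl : ∀ χ : IrrCharacter G, χ ≠ trivialChar G → ∀ s : ℕ, s.Prime → degree χ = s →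
      ∀ P : Sylow s G, Nat.card P = s := by
    intro χ hχ s hs hd P
    haveI := Fact.mk hs
    haveI : Fintype (P : Subgroup G) := Fintype.ofFinite _
    obtain ⟨k, hk⟩ := P.2.exists_card_eq
    have hk0 : k ≠ 0 := by
      intro h0
      rw [h0, pow_zero] at hk
      have h1 : s ∣ Nat.card G := hd ▸ degree_dvd_natCard χ
      have := P.card_eq_multiplicity
      rw [show Nat.card P = 1 from hk] at this
      exact (hs.factorization_pos_of_dvd Nat.card_pos.ne' h1).ne'
        ((Nat.pow_eq_one.1 this.symm).resolve_left hs.ne_one)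
    haveI : Nontrivial (P : Subgroup G) := Finite.one_lt_card_iff_nontrivial.1
      (by rw [hk]; exact Nat.one_lt_pow hk0 hs.one_lt)
    haveI := P.2.center_nontrivial
    have hvan : ∀ z : (P : Subgroup G), z ∈ Subgroup.center (P : Subgroup G) → z ≠ 1 → χ.1 z ≠ 0 →
        False := by
      intro z _ hz1 h0
      obtain ⟨n, ρ, hρ, hρχ⟩ := χ.2
      have hn : n = s := by
        have h1 := apply_one_eq_degree χ
        rw [← hρχ, ρ.char_one, Module.finrank_fin_fun, hd] at h1
        exact_mod_cast h1
      haveI := hρ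
      have hcen' : (P : Subgroup G) ≤ Subgroup.centralizer ({(z : G)} : Set G) := fun x hx =>
        Subgroup.mem_centralizer_singleton_iff.2
          (congrArg Subtype.val (Subgroup.mem_center_iff.1 ‹_› ⟨x, hx⟩))
      rcases CharInt.character_eq_zero_or_norm_eq ρ (z : G) (by
        rw [CharInt.natCard_isConj, Module.finrank_fin_fun, hn]
        exact (hs.coprime_iff_not_dvd.2 fun hdv =>
          P.not_dvd_index (hdv.trans (Subgroup.index_dvd_of_le hcen')))) with he | he
      · exact h0 (by rw [← hρχ]; exact he)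
      · exact hscal χ hχ z (fun e => hz1 (Subtype.ext e)) (by
          rw [← hρχ, he, ρ.char_one, Complex.norm_natCast])
    -- all constituents are linear
    have hlin : ∀ l : IrrCharacter (P : Subgroup G),
        classInner (fun w : (P : Subgroup G) => χ.1 w) l.1 ≠ 0 → l.1 1 = 1 := by
      intro l hl
      obtain ⟨m, hm, hm'⟩ := IsCharacter.exists_decomp
        (IsCharacter.restrict (irr_isCharacter χ) (P : Subgroup G))
      have hml : 0 < m l := Nat.pos_of_ne_zero fun h0 => hl (by rw [hm', h0, Nat.cast_zero])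
      have hsum : s = ∑ μ : IrrCharacter (P : Subgroup G), m μ * degree μ := by
        have := congrFun hm 1
        simp only [Finset.sum_apply, Pi.smul_apply, smul_eq_mul, OneMemClass.coe_one,
          apply_one_eq_degree, hd] at this
        exact_mod_cast this
      have hle : m l * degree l ≤ s := le_of_le_of_eq (Finset.single_le_sum
        (f := fun μ => m μ * degree μ) (fun _ _ => Nat.zero_le _) (Finset.mem_univ l)) hsum.symm
      obtain ⟨j, -, hj⟩ := (Nat.dvd_prime_pow hs).1 (hk ▸ degree_dvd_natCard l)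
      rcases Nat.eq_zero_or_pos j with h0 | hj0
      · rw [apply_one_eq_degree, hj, h0, pow_zero, Nat.cast_one]
      exfalso
      have hsle : s ≤ degree l := hj ▸ Nat.le_self_pow hj0.ne' s
      have heq : m l = 1 ∧ degree l = s := by
        constructor <;> nlinarith [hs.pos]
      have hrest : ∀ μ, μ ≠ l → m μ = 0 := by
        intro μ hμ
        have h2 : m l * degree l + m μ * degree μ ≤ s := by
          refine le_of_le_of_eq ?_ hsum.symm
          rw [← Finset.sum_pair (f := fun μ => m μ * degree μ) hμ.symm]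
          exact Finset.sum_le_sum_of_subset (Finset.subset_univ _)
        rw [heq.1, heq.2, one_mul] at h2
        by_contra h3
        have := Nat.mul_pos (Nat.pos_of_ne_zero h3) (degree_pos μ)
        omega
      have hres : ∀ w : (P : Subgroup G), χ.1 w = l.1 w := fun w => by
        have h2 := congrFun hm w
        simp only [Finset.sum_apply, Pi.smul_apply, smul_eq_mul] at h2
        rw [h2, Finset.sum_eq_single l (fun μ _ hμ => by rw [hrest μ hμ, Nat.cast_zero, zero_mul])
          (by simp), heq.1, Nat.cast_one, one_mul]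
      obtain ⟨z, hz⟩ := exists_ne (1 : Subgroup.center (P : Subgroup G))
      obtain ⟨d, σ, hσ, hσl⟩ := l.2
      haveI := hσ
      obtain ⟨c, hc'⟩ := Clifford.exists_scalar_of_commute σ (σ z.1) (fun x => by
        rw [← map_mul, ← map_mul, Subgroup.mem_center_iff.1 z.2 x])
      have hc : σ z.1 = c • 1 := by rw [hc', Algebra.algebraMap_eq_smul_one]
      have hlz : l.1 z.1 = c * l.1 1 := by
        rw [← hσl]
        simp only [Representation.character, hc, map_one, map_smul, smul_eq_mul]
      have hcz : c ≠ 0 := by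
        intro h0
        have h2 : σ z.1 * σ z.1⁻¹ = 1 := by rw [← map_mul, mul_inv_cancel, map_one]
        rw [hc, h0, zero_smul, zero_mul] at h2
        have h3 : l.1 1 = 0 := by
          rw [← hσl]
          simp only [Representation.character, map_one, ← h2, map_zero]
        exact IsIrrCharacter.apply_one_ne_zero l.2 h3
      refine hvan z.1 z.2 (fun e => hz (Subtype.ext e)) ?_
      rw [hres, hlz]
      exact mul_ne_zero hcz (IsIrrCharacter.apply_one_ne_zero l.2)
    have hab : ∀ x y : (P : Subgroup G), x * y = y * x := by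
      intro x y
      by_contra hne
      set c : (P : Subgroup G) := ⁅x, y⁆ with hc
      have hc1 : c ≠ 1 := fun e => hne (commutatorElement_eq_one_iff_mul_comm.1 (hc ▸ e))
      have hval : χ.1 (c : G) = χ.1 1 := by
        obtain ⟨m, hm, hm'⟩ := IsCharacter.exists_decomp
          (IsCharacter.restrict (irr_isCharacter χ) (P : Subgroup G))
        have h2 := congrFun hm c
        have h3 := congrFun hm 1
        simp only [Finset.sum_apply, Pi.smul_apply, smul_eq_mul, OneMemClass.coe_one] at h2 h3
        rw [h2, h3]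
        refine Finset.sum_congr rfl fun μ _ => ?_
        rcases eq_or_ne (m μ) 0 with h0 | h0
        · rw [h0, Nat.cast_zero, zero_mul, zero_mul]
        obtain ⟨f, hf⟩ := IsCharacter.exists_monoidHom (irr_isCharacter μ)
          (hlin μ (by rw [hm']; exact Nat.cast_ne_zero.2 h0))
        rw [← congrFun hf c, ← congrFun hf 1, map_one, hc, commutatorElement_def, map_mul, map_mul,
          map_mul, mul_comm (f x) (f y), mul_assoc (f y) (f x), ← map_mul f x, mul_inv_cancel,
          map_one, mul_one, ← map_mul, mul_inv_cancel, map_one]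
      exact hscal χ hχ c (fun e => hc1 (Subtype.ext e)) (by rw [hval])
    have hz : ∀ w : (P : Subgroup G), w ≠ 1 → χ.1 w = 0 := fun w hw => by_contra fun h0 =>
      hvan w (Subgroup.mem_center_iff.2 fun x => hab x w) hw h0
    obtain ⟨u, v, -, hv⟩ := restrict_prime_order P χ 0 hz (by
      rw [show Nat.card P = Nat.card (P : Subgroup G) from rfl]
      exact Finite.one_lt_card_iff_nontrivial.2 inferInstance) hab
    rw [sub_zero, hd] at hv
    have hv' : Nat.card P * v = s := by exact_mod_cast hv
    exact ((Nat.dvd_prime hs).1 ⟨v, hv'.symm⟩).resolve_left (by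
      rw [show Nat.card P = Nat.card (P : Subgroup G) from rfl]
      exact (Finite.one_lt_card_iff_nontrivial.2 inferInstance).ne')
  -- the normalizer does not centralize
  have hburn : ∀ (s : ℕ) [Fact s.Prime] (P : Sylow s G), Nat.card P = s →
      ¬ Subgroup.normalizer ((P : Subgroup G) : Set G) ≤
        Subgroup.centralizer ((P : Subgroup G) : Set G) := by
    intro s _ P hP hle
    obtain ⟨Q, K, hK, hKQ⟩ := Transfer.hasNormalPComplement_of_normalizer_le_centralizer P hle
    have hQ : Nat.card (Q : Subgroup G) = s := (Q.card_eq_multiplicity.trans P.card_eq_multiplicity.symm).trans hP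
    rcases hK.eq_bot_or_eq_top with h0 | h0
    · rw [h0, Subgroup.isComplement'_bot_left] at hKQ
      rw [hKQ, Subgroup.card_top] at hQ
      exact hnc fun a b => by
        haveI : IsCyclic G := isCyclic_of_prime_card hQ
        exact (IsCyclic.commGroup (α := G)).mul_comm a b
    · rw [h0, Subgroup.isComplement'_top_left] at hKQ
      rw [hKQ, Subgroup.card_bot] at hQ
      exact (Fact.out : s.Prime).one_lt.ne hQ
  -- a largest degree
  haveI : Nonempty {χ : IrrCharacter G // χ ≠ trivialChar G} := by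
    by_contra hemp
    have hall : ∀ χ : IrrCharacter G, χ = trivialChar G := fun χ =>
      by_contra fun hne => hemp ⟨⟨χ, hne⟩⟩
    haveI : Subsingleton (IrrCharacter G) := ⟨fun a b => (hall a).trans (hall b).symm⟩
    have h1 := sum_irr_mul_conj (G := G)
    obtain ⟨g, hg⟩ := exists_ne (1 : G)
    have h2 := h1 g 1
    rw [if_neg (fun hc => hg (isConj_one_left.1 hc)), Fintype.sum_subsingleton _ (trivialChar G)] at h2
    simp at h2
  obtain ⟨⟨χr, hχr⟩, -, hmax⟩ := Finset.exists_max_image
    (Finset.univ : Finset {χ : IrrCharacter G // χ ≠ trivialChar G}) (fun χ => degree χ.1)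
    Finset.univ_nonempty
  have hle : ∀ χ : IrrCharacter G, χ ≠ trivialChar G → degree χ ≤ degree χr := fun χ hχ =>
    hmax ⟨χ, hχ⟩ (Finset.mem_univ _)
  set r := degree χr with hr
  have hrp : r.Prime := h χr (hne1 χr hχr)
  have hne2 : ∀ χ : IrrCharacter G, χ ≠ trivialChar G → degree χ ≠ 2 := by
    intro χ hχ hd
    haveI := Fact.mk Nat.prime_two
    obtain ⟨P⟩ : Nonempty (Sylow 2 G) := inferInstance
    have hP := hsyl χ hχ 2 Nat.prime_two hd P
    refine hburn 2 P hP fun n hn => ?_
    rw [Subgroup.mem_centralizer_iff]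
    intro x hx
    rcases eq_or_ne x 1 with rfl | hx1
    · simp
    have hy := (Subgroup.mem_normalizer_iff.1 hn x).1 hx
    have huniq : n * x * n⁻¹ = x := by
      by_contra hne
      have hy1 : n * x * n⁻¹ ≠ 1 := fun e => hx1 (conj_eq_one_iff.1 e)
      haveI : Fintype (P : Subgroup G) := Fintype.ofFinite _
      have h3 : ({⟨1, one_mem _⟩, ⟨x, hx⟩, ⟨_, hy⟩} : Finset (P : Subgroup G)).card = 3 :=
        Finset.card_eq_three.2 ⟨_, _, _, fun e => hx1 (congrArg Subtype.val e).symm,
          fun e => hy1 (congrArg Subtype.val e).symm, fun e => hne (congrArg Subtype.val e).symm, rfl⟩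
      have h4 := Finset.card_le_univ ({⟨1, one_mem _⟩, ⟨x, hx⟩, ⟨_, hy⟩} : Finset (P : Subgroup G))
      rw [h3, ← Nat.card_eq_fintype_card, show Nat.card (P : Subgroup G) = 2 from hP] at h4
      omega
    exact (mul_inv_eq_iff_eq_mul.1 huniq).symm
  have hr2 : r ≠ 2 := hne2 χr hχr
  -- a constant value forces it to vanish
  haveI := Fact.mk hrp
  obtain ⟨P⟩ : Nonempty (Sylow r G) := inferInstance
  have hP : Nat.card P = r := hsyl χr hχr r hrp rfl P
  haveI hcyc : IsCyclic (P : Subgroup G) := isCyclic_of_prime_card hP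
  have hab : ∀ x y : (P : Subgroup G), x * y = y * x := (IsCyclic.commGroup).mul_comm
  obtain ⟨y₀, hy₀⟩ : ∃ y : (P : Subgroup G), y ≠ 1 := by
    haveI : Nontrivial (P : Subgroup G) := Finite.one_lt_card_iff_nontrivial.1
      (by rw [show Nat.card (P : Subgroup G) = r from hP]; exact hrp.one_lt)
    exact exists_ne 1
  have hzero : ∀ χ : IrrCharacter G, χ ≠ trivialChar G → ∀ a : ℤ,
      (∀ y : (P : Subgroup G), y ≠ 1 → χ.1 y = (a : ℂ)) → a = 0 := by
    intro χ hχ a hval
    by_contra ha
    obtain ⟨u, v, hu, hv⟩ := restrict_prime_order P χ a hval (by rw [hP]; exact hrp.one_lt) hab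
    rw [hP] at hu hv
    have hu' : (r : ℤ) * u = degree χ + ((r : ℤ) - 1) * a := by exact_mod_cast hu
    have hv' : (r : ℤ) * v = degree χ - a := by exact_mod_cast hv
    have hq := hle χ hχ
    have hq0 := degree_pos χ
    have hr3 : 3 ≤ r := by have := hrp.two_le; omega
    rcases Nat.eq_zero_or_pos v with h0 | hv0
    · rw [h0, Nat.cast_zero, mul_zero] at hv'
      refine hscal χ hχ y₀ (fun e => hy₀ (Subtype.ext e)) ?_
      rw [hval y₀ hy₀, apply_one_eq_degree, show a = (degree χ : ℤ) by omega]
      simp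
    have hr' : (3 : ℤ) ≤ r := by exact_mod_cast hr3
    have hq' : (degree χ : ℤ) ≤ r := by exact_mod_cast hq
    have hv1 : (1 : ℤ) ≤ v := by exact_mod_cast hv0
    have ha0 : a ≤ 0 := by nlinarith
    have huv : (u : ℤ) = v + a := mul_left_cancel₀ (by omega : (r : ℤ) ≠ 0)
      (by linear_combination hu' - hv')
    have hge : -(v : ℤ) ≤ a := by omega
    have hq1 : ((r : ℤ) - 1) * v ≤ degree χ := by nlinarith
    have hv2 : (v : ℤ) = 1 := by nlinarith
    have ha1 : a = -1 := by omega
    have hdq : degree χ + 1 = r := by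
      rw [hv2, mul_one, ha1] at hv'; omega
    have hqp := h χ (hne1 χ hχ)
    have hq2 := hne2 χ hχ
    obtain ⟨i, hi⟩ := hqp.odd_of_ne_two hq2
    obtain ⟨j, hj⟩ := hrp.odd_of_ne_two hr2
    omega
  set C := Subgroup.centralizer ((P : Subgroup G) : Set G) with hC
  set N := Subgroup.normalizer ((P : Subgroup G) : Set G) with hN
  have hgen : ∀ y : G, y ∈ (P : Subgroup G) → y ≠ 1 → Subgroup.zpowers y = (P : Subgroup G) := by
    intro y hy hy1
    refine Subgroup.eq_of_le_of_card_ge (Subgroup.zpowers_le.2 hy) ?_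
    rw [Nat.card_zpowers, show Nat.card (P : Subgroup G) = r from hP]
    refine Nat.le_of_eq (((Nat.dvd_prime hrp).1 ?_).resolve_left fun e => hy1 (orderOf_eq_one_iff.1 e)).symm
    exact hP ▸ Subgroup.orderOf_dvd_natCard _ hy
  have hfree : ∀ y : G, y ∈ (P : Subgroup G) → y ≠ 1 →
      Subgroup.centralizer ({y} : Set G) ⊓ N = C := by
    intro y hy hy1
    refine le_antisymm (fun g hg => ?_) (le_inf (Subgroup.centralizer_le (Set.singleton_subset_iff.2 hy))
      (Subgroup.centralizer_le_normalizer _))
    rw [hC, Subgroup.mem_centralizer_iff]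
    intro x hx
    obtain ⟨i, rfl⟩ : x ∈ Subgroup.zpowers y := by rw [hgen y hy hy1]; exact hx
    exact (Commute.zpow_left
      (Subgroup.mem_centralizer_singleton_iff.1 hg.1 : g * y = y * g).symm i)
  have hF : DefectOne.FreeData P := ⟨⟨⟨hab⟩⟩, hfree⟩
  set m := C.relIndex N with hm
  have hm1 : m ≠ 1 := fun h1 => hburn r P hP (Subgroup.relIndex_eq_one.1 h1)
  have hm0 : m ≠ 0 := Subgroup.index_ne_zero_of_finite
  -- orbit of a non-identity element
  let Φ : N ⧸ C.subgroupOf N → (P : Subgroup G) := Quotient.lift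
    (fun n : N => ⟨(n : G) * y₀ * (n : G)⁻¹, (Subgroup.mem_normalizer_iff.1 n.2 y₀).1 y₀.2⟩)
    (fun n n' hnn' => by
      apply Subtype.ext
      have h1 : (n : G)⁻¹ * n' ∈ C := Subgroup.mem_subgroupOf.1 (QuotientGroup.leftRel_apply.1 (show (QuotientGroup.leftRel (C.subgroupOf N)) n n' from hnn'))
      have h2 : (y₀ : G) * ((n : G)⁻¹ * n') = ((n : G)⁻¹ * n') * y₀ :=
        Subgroup.mem_centralizer_iff.1 h1 y₀ y₀.2
      show (n : G) * y₀ * (n : G)⁻¹ = n' * y₀ * (n' : G)⁻¹
      calc (n : G) * y₀ * (n : G)⁻¹ = n * (y₀ * ((n : G)⁻¹ * n')) * (n' : G)⁻¹ := by group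
        _ = n' * y₀ * (n' : G)⁻¹ := by rw [h2]; group)
  have hΦinj : Function.Injective Φ := by
    intro q q' hqq
    obtain ⟨n, rfl⟩ := QuotientGroup.mk_surjective q
    obtain ⟨n', rfl⟩ := QuotientGroup.mk_surjective q'
    refine QuotientGroup.eq.2 (Subgroup.mem_subgroupOf.2 ?_)
    have h1 : (n : G) * y₀ * (n : G)⁻¹ = n' * y₀ * (n' : G)⁻¹ := congrArg Subtype.val hqq
    show (n : G)⁻¹ * n' ∈ C
    rw [← hfree y₀ y₀.2 fun e => hy₀ (Subtype.ext e)]
    refine ⟨Subgroup.mem_centralizer_singleton_iff.2 ?_, N.mul_mem (N.inv_mem n.2) n'.2⟩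
    calc (n : G)⁻¹ * n' * y₀ = (n : G)⁻¹ * (n' * y₀ * (n' : G)⁻¹) * n' := by group
      _ = y₀ * ((n : G)⁻¹ * n') := by rw [← h1]; group
  have hΦ1 : ∀ q, Φ q ≠ 1 := by
    intro q e
    obtain ⟨n, rfl⟩ := QuotientGroup.mk_surjective q
    exact hy₀ (Subtype.ext (conj_eq_one_iff.1 (congrArg Subtype.val e)))
  let Ψ : N ⧸ C.subgroupOf N → {y : (P : Subgroup G) // y ≠ 1} := fun q => ⟨Φ q, hΦ1 q⟩
  have hΨinj : Function.Injective Ψ := fun a b e => hΦinj (congrArg Subtype.val e)
  haveI : Fintype (P : Subgroup G) := Fintype.ofFinite _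
  have hcard1 : Nat.card {y : (P : Subgroup G) // y ≠ 1} = r - 1 := by
    rw [Nat.card_eq_fintype_card, Fintype.card_subtype_compl, Fintype.card_subtype_eq,
      ← Nat.card_eq_fintype_card, show Nat.card (P : Subgroup G) = r from hP]
  have hmle : m ≤ r - 1 := by
    rw [← hcard1]; exact Nat.card_le_card_of_injective Ψ hΨinj
  rcases Nat.lt_or_ge (m + 1) r with hlt | hge
  · obtain ⟨M, -, hMax, hpM⟩ := CharInt.exists_isPModular_of_prime hrp
    haveI := hMax
    obtain ⟨S⟩ := hF.shape hpM (m := m) rfl (by rw [hP]; exact hlt)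
    have hXone : ∀ χ ∈ S.X, χ = trivialChar G := fun χ hχ => by_contra fun hne =>
      (S.X_val χ hχ).1 (hzero χ hne _ (S.X_val χ hχ).2)
    have hX : S.X = {trivialChar G} :=
      Finset.eq_singleton_iff_unique_mem.2 ⟨S.trivial_mem, hXone⟩
    have hE := S.card_mul
    obtain ⟨χ₀, hχ₀⟩ : ((principalBlock M G).toFinset \ S.X).Nonempty := by
      rw [Finset.nonempty_iff_ne_empty]
      intro he
      rw [he, Finset.card_empty, zero_mul, hP] at hE
      exact hrp.one_lt.ne hE
    obtain ⟨hχ₀B, hχ₀X⟩ := Finset.mem_sdiff.1 hχ₀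
    rw [Set.mem_toFinset] at hχ₀B
    have hrel := S.relation χ₀ hχ₀B hχ₀X 1 (by simp [IsPRegular, hrp.ne_one])
    rw [hX, Finset.sum_singleton, apply_one_eq_degree,
      show (trivialChar G).1 1 = 1 from rfl] at hrel
    have htriv : S.a (trivialChar G) = 1 := by
      have := (S.X_val _ S.trivial_mem).2 y₀ hy₀
      rw [show (trivialChar G).1 (y₀ : G) = 1 from rfl] at this
      exact_mod_cast this.symm
    rw [htriv] at hrel
    have hne : χ₀ ≠ trivialChar G := fun e => hχ₀X (e ▸ S.trivial_mem)
    have hdvd : (degree χ₀ : ℤ) ∣ 1 := by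
      refine ⟨-(((((principalBlock M G).toFinset \ {trivialChar G}).card : ℕ) : ℤ) * S.d - S.δ), ?_⟩
      rw [← Int.cast_inj (α := ℂ)]
      push_cast at hrel ⊢
      linear_combination hrel
    exact (h χ₀ (hne1 χ₀ hne)).not_dvd_one (by exact_mod_cast hdvd)
  · have hsurj : Function.Surjective Ψ :=
      ((Nat.bijective_iff_injective_and_card Ψ).2 ⟨hΨinj, by
        rw [hcard1]
        show m = r - 1
        omega⟩).2
    have hconst : ∀ χ : IrrCharacter G, ∀ y : (P : Subgroup G), y ≠ 1 → χ.1 y = χ.1 y₀ := by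
      intro χ y hy
      obtain ⟨q, hq⟩ := hsurj ⟨y, hy⟩
      obtain ⟨n, rfl⟩ := QuotientGroup.mk_surjective q
      have h1 : (n : G) * y₀ * (n : G)⁻¹ = y := congrArg (fun z => ((z.1 : (P : Subgroup G)) : G)) hq
      rw [← h1]
      exact IsCharacter.isClassFunction (irr_isCharacter χ) _ _
    have hint : ∀ χ : IrrCharacter G, χ ≠ trivialChar G → χ.1 y₀ = 0 := by
      intro χ hχ
      obtain ⟨u, v, hu, hv⟩ := restrict_prime_order P χ _ (hconst χ) (by rw [hP]; exact hrp.one_lt) hab
      have ha : χ.1 y₀ = (((degree χ : ℤ) - (r : ℤ) * v : ℤ) : ℂ) := by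
        rw [hP] at hv
        push_cast
        linear_combination hv
      have := hzero χ hχ _ fun y hy => (hconst χ y hy).trans ha
      rw [ha, this, Int.cast_zero]
    have h2 := sum_irr_mul_conj (y₀ : G) 1
    rw [if_neg (fun hc => hy₀ (Subtype.ext (isConj_one_left.1 hc))),
      Finset.sum_eq_single (trivialChar G)
        (fun b _ hb => by rw [hint b hb, zero_mul]) (by simp)] at h2
    simp at h2

theorem solvable_of_primeDegrees (n : ℕ) : ∀ (G : Type u) [Group G] [Fintype G],
    Nat.card G = n → PrimeDegrees G → Group.IsSolvable G := by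
  induction n using Nat.strong_induction_on with
  | _ n ih =>
  intro G _ _ hn h
  rcases subsingleton_or_nontrivial G with hs | hnt
  · infer_instance
  by_cases hsimple : IsSimpleGroup G
  · by_cases hc : ∀ a b : G, a * b = b * a
    · exact Group.isSolvable_of_comm hc
    · exact (false_of_simple hc h).elim
  obtain ⟨N, hN, hN1, hN2⟩ : ∃ N : Subgroup G, N.Normal ∧ N ≠ ⊥ ∧ N ≠ ⊤ := by
    by_contra hno
    push Not at hno
    exact hsimple ⟨fun H hH => or_iff_not_imp_left.2 (hno H hH)⟩
  haveI := hN
  haveI : Fintype N := Fintype.ofFinite _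
  haveI : Fintype (G ⧸ N) := Fintype.ofFinite _
  haveI hNs : Group.IsSolvable N := by
    refine ih _ ?_ N rfl fun θ hθ => ?_
    · rw [← hn]
      exact lt_of_le_of_ne (Subgroup.card_le_card_group N) fun e => hN2 (Subgroup.eq_top_of_card_eq N e)
    · obtain ⟨χ, hχ⟩ := Glauberman.exists_over N.subtype N.subtype_injective θ
      have h1 := apply_one_eq_mul_card_orbit N χ θ hχ
      obtain ⟨m, hm⟩ := IsCharacter.exists_nat_classInner
        (IsCharacter.restrict (irr_isCharacter χ) N) (irr_isCharacter θ)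
      rw [show classInner (resFun N χ.1) θ.1 = (m : ℂ) from hm, apply_one_eq_degree,
        apply_one_eq_degree] at h1
      have h2 : degree χ = m * ((orbitFinset N θ).card * degree θ) := by exact_mod_cast h1
      have hd : degree θ ∣ degree χ := ⟨m * (orbitFinset N θ).card, by rw [h2]; ring⟩
      rcases eq_or_ne (degree χ) 1 with he | he
      · exact absurd (Nat.eq_one_of_dvd_one (he ▸ hd)) hθ
      · exact ((Nat.dvd_prime (h χ he)).1 hd).resolve_left hθ ▸ h χ he
  haveI hQs : Group.IsSolvable (G ⧸ N) := by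
    refine ih _ ?_ (G ⧸ N) rfl fun β hβ => ?_
    · rw [← hn, ← Subgroup.index_eq_card, ← N.card_mul_index]
      refine (Nat.lt_mul_iff_one_lt_left (Nat.pos_of_ne_zero N.index_ne_zero_of_finite)).2 ?_
      exact Finite.one_lt_card_iff_nontrivial.2 ((Subgroup.nontrivial_iff_ne_bot N).2 hN1)
    · let χ : IrrCharacter G := ⟨fun g => β.1 (g : G ⧸ N),
        IsIrrCharacter.comp_surjective β.2 (QuotientGroup.mk' N) (QuotientGroup.mk'_surjective N)⟩
      have he : degree χ = degree β := by
        have h1 : (degree χ : ℂ) = degree β := by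
          rw [← apply_one_eq_degree, ← apply_one_eq_degree]; rfl
        exact_mod_cast h1
      rw [← he] at hβ ⊢
      exact h χ hβ
  exact (Group.isSolvable_iff_subgroup_quotient N).2 ⟨hNs, hQs⟩

/-- If every nonlinear irreducible character degree is a prime, the group is solvable. -/
theorem result {G : Type*} [Group G] [Finite G] (h : ∀ χ : Cfsg.IrrCharacter G, Cfsg.charDegree (χ : G → ℂ) ≠ 1 → (Cfsg.charDegree (χ : G → ℂ)).Prime) : Group.IsSolvable G := by
  haveI := Fintype.ofFinite G
  refine solvable_of_primeDegrees _ G rfl fun χ hχ => ?_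
  rw [← charDegree_eq_degree] at hχ ⊢
  exact h χ hχ

end Cfsg.Agent.S4466
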