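import Cfsg.Statements.S4467
import Cfsg.Agent.Lib.Char.CoprimeHallHigman
import Cfsg.Agent.Lib.Char.Descend
import Cfsg.Agent.Lib.Components.Fitting
import Cfsg.Agent.Lib.PGroup.Basic
import Cfsg.Agent.Lib.LocalStructure.Basic

set_option autoImplicit false
open Cfsg
open scoped Classical ComplexConjugate commutatorElement IsMulCommutative
open Cfsg.Agent Cfsg.Agent.Char

set_option linter.style.haveILetI false

namespace Cfsg.Agent.S4467

universe u

/-- A transitive solvable group of degree prime to `p` in which a `p`-element acts nontrivially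
has degree divisible by a prime power `≡ 1 (mod p)`. -/
lemma exists_orbit_prime_power {G : Type u} [Group G] [Finite G] [Group.IsSolvable G] (p : ℕ)
    [Fact p.Prime] : ∀ (i : ℕ) (H : Subgroup G), H.index ≤ i → ¬ p ∣ H.index →
    ∀ z ∈ H, (∃ k, orderOf z = p ^ k) → z ∉ H.normalCore →
    ∃ r : ℕ, IsPrimePow r ∧ r ∣ H.index ∧ r ≡ 1 [MOD p] := by
  intro i
  induction i using Nat.strong_induction_on with
  | _ i ih =>
  intro H hi hpH z hzH hz hzC
  set C := H.normalCore with hC
  haveI : C.Normal := Subgroup.normalCore_normal H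
  have htop : ¬ (⊤ : Subgroup G) ≤ H := fun h => hzC (by
    rw [hC, show H = ⊤ from top_le_iff.1 h]
    exact fun g => Subgroup.mem_top _)
  obtain ⟨N, ⟨hNn, hNH⟩, hmin⟩ := (Set.toFinite {N : Subgroup G | N.Normal ∧ ¬ N ≤ H}).exists_minimal
    ⟨⊤, inferInstance, htop⟩
  haveI := hNn
  have hbelow : ∀ M : Subgroup G, M.Normal → M ≤ N → M ≠ N → M ≤ C := fun M hM hle hne =>
    (Subgroup.normal_le_normalCore (hN := hM)).2 (by_contra fun h => hne (le_antisymm hle (hmin ⟨hM, h⟩ hle)))
  have hcomm : ⁅N, N⁆ ≤ C := by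
    refine hbelow _ inferInstance (Subgroup.commutator_le_left N N) ?_
    exact (Group.IsSolvable.commutator_lt_of_ne_bot (fun h : N = ⊥ => hNH (h ▸ bot_le))).ne
  obtain ⟨q, hq, hqd⟩ : ∃ q, q.Prime ∧ q ∣ C.relIndex N := Nat.exists_prime_and_dvd fun h =>
    hNH ((Subgroup.relIndex_eq_one.1 h).trans (Subgroup.normalCore_le H))
  haveI := Fact.mk hq
  have hexp : ∀ a ∈ N, a ^ q ∈ C := by
    let π := QuotientGroup.mk' C
    have hπ : ∀ g, π g = 1 ↔ g ∈ C := fun g => QuotientGroup.eq_one_iff g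
    have hab : ∀ a ∈ N, ∀ b ∈ N, Commute (π a) (π b) := fun a ha b hb => by
      rw [← commutatorElement_eq_one_iff_commute, ← map_commutatorElement, hπ]
      exact hcomm (Subgroup.commutator_mem_commutator ha hb)
    let M : Subgroup G :=
      { carrier := {a | a ∈ N ∧ π a ^ q = 1}
        one_mem' := ⟨N.one_mem, by simp⟩
        mul_mem' := fun {a b} ha hb => ⟨N.mul_mem ha.1 hb.1, by
          rw [map_mul, (hab a ha.1 b hb.1).mul_pow, ha.2, hb.2, one_mul]⟩
        inv_mem' := fun {a} ha => ⟨N.inv_mem ha.1, by rw [map_inv, inv_pow, ha.2, inv_one]⟩ }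
    have hMn : M.Normal := ⟨fun a ha g => ⟨hNn.conj_mem a ha.1 g, by
      rw [map_mul, map_mul, map_inv, conj_pow, ha.2, mul_one, mul_inv_cancel]⟩⟩
    have hMN : M = N := by
      by_contra hne
      have hMC := hbelow M hMn (fun a ha => ha.1) hne
      haveI : (C.subgroupOf N).Normal := Subgroup.normal_subgroupOf
      obtain ⟨v, hv⟩ := exists_prime_orderOf_dvd_card' (G := N ⧸ C.subgroupOf N) q
        (by rw [← Subgroup.index_eq_card]; exact hqd)
      obtain ⟨a, rfl⟩ := QuotientGroup.mk'_surjective _ v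
      have h1 : (QuotientGroup.mk' (C.subgroupOf N)) a ^ q = 1 := by rw [← hv, pow_orderOf_eq_one]
      rw [← map_pow, QuotientGroup.mk'_apply, QuotientGroup.eq_one_iff, Subgroup.mem_subgroupOf,
        Subgroup.coe_pow] at h1
      have h2 : (a : G) ∈ C := hMC ⟨a.2, by rw [← map_pow, hπ]; exact h1⟩
      rw [show (QuotientGroup.mk' (C.subgroupOf N)) a = 1 from (QuotientGroup.eq_one_iff a).2 h2,
        orderOf_one] at hv
      exact hq.one_lt.ne hv
    intro a ha
    have h := (hMN.symm ▸ ha : a ∈ M).2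
    rwa [← map_pow, hπ] at h
  set M := N ⊔ H with hM
  have hHM : H ≤ M := le_sup_right
  by_cases hzM : z ∈ M.normalCore
  swap
  · have hlt : M.index < H.index := by
      have hne : H.relIndex M ≠ 1 := fun h => hNH (le_sup_left.trans (Subgroup.relIndex_eq_one.1 h))
      have h0 : H.relIndex M ≠ 0 := fun h => Subgroup.index_ne_zero_of_finite (H := H) (by
        rw [← Subgroup.relIndex_mul_index hHM, h, zero_mul])
      have hpos : 0 < M.index := Nat.pos_of_ne_zero Subgroup.index_ne_zero_of_finite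
      rw [← Subgroup.relIndex_mul_index hHM]
      exact lt_mul_left hpos (by omega)
    obtain ⟨r, hr, hrd, hr1⟩ := ih M.index (by omega) M le_rfl
      (fun h => hpH (h.trans (Subgroup.index_dvd_of_le hHM))) z (hHM hzH) hz hzM
    exact ⟨r, hr, hrd.trans (Subgroup.index_dvd_of_le hHM), hr1⟩
  obtain ⟨g, hg⟩ : ∃ g : G, g * z * g⁻¹ ∉ H := by
    by_contra! h; exact hzC h
  obtain ⟨k, hk⟩ := hz
  have hy : g * z * g⁻¹ ∈ M := Subgroup.normalCore_le M ((Subgroup.normalCore_normal M).conj_mem z hzM g)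
  -- a conjugate of it by `N` lies in `H`
  obtain ⟨n, hn, hnH⟩ : ∃ n ∈ N, n * (g * z * g⁻¹) * n⁻¹ ∈ H := by
    let S : Sylow p H := default
    have hSM : ¬ p ∣ (((S : Subgroup H).map H.subtype).subgroupOf M).index := by
      intro h
      have h1 : (((S : Subgroup H).map H.subtype).subgroupOf M).index =
          ((S : Subgroup H).map H.subtype).relIndex M := rfl
      rw [h1] at h
      have h2 : ((S : Subgroup H).map H.subtype).index = (S : Subgroup H).index * H.index := by
        rw [Subgroup.index_map_of_injective _ H.subtype_injective, Subgroup.range_subtype]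
      have h3 := Subgroup.relIndex_mul_index ((Subgroup.map_subtype_le (S : Subgroup H)).trans hHM)
      rw [h2] at h3
      exact (Fact.out : p.Prime).not_dvd_mul S.not_dvd_index hpH (h3 ▸ h.mul_right _)
    let S' : Sylow p M := ((S.2.map H.subtype).comap_subtype (K := M)).toSylow hSM
    have hy' : IsPGroup p (Subgroup.zpowers (⟨_, hy⟩ : M)) := IsPGroup.of_card (n := k) (by
      rw [Nat.card_zpowers, ← Subgroup.orderOf_coe]
      show orderOf (MulAut.conj g z) = _
      rw [MulEquiv.orderOf_eq, hk])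
    obtain ⟨T, hT⟩ := hy'.exists_le_sylow
    obtain ⟨m, hm⟩ := MulAction.exists_smul_eq M T S'
    have h2 : m * (⟨_, hy⟩ : M) * m⁻¹ ∈ (S' : Subgroup M) := by
      rw [← hm, Sylow.smul_def, Sylow.pointwise_smul_def]
      exact ⟨_, hT (Subgroup.mem_zpowers _), rfl⟩
    obtain ⟨w, -, hw⟩ : ((m * (⟨_, hy⟩ : M) * m⁻¹ : M) : G) ∈ (S : Subgroup H).map H.subtype := h2
    have hm' : (m : G) ∈ H ⊔ N := by rw [sup_comm]; exact m.2
    obtain ⟨h, hh, n, hn, hhn⟩ := Subgroup.mem_sup_of_normal_right.1 hm'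
    refine ⟨n, hn, ?_⟩
    have h3 : ((m * (⟨_, hy⟩ : M) * m⁻¹ : M) : G) ∈ H := by rw [← hw]; exact w.2
    simp only [Subgroup.coe_mul, Subgroup.coe_inv, ← hhn] at h3
    have h4 := H.mul_mem (H.mul_mem (H.inv_mem hh) h3) hh
    simpa [mul_assoc] using h4
  set z' := n * (g * z * g⁻¹) * n⁻¹ with hz'
  have hz'p : IsPGroup p (Subgroup.zpowers z') := IsPGroup.of_card (n := k) (by
    rw [Nat.card_zpowers, show z' = MulAut.conj (n * g) z by simp [hz', mul_assoc], MulEquiv.orderOf_eq, hk])
  -- the action on `N / (N ∩ H)`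
  set W := H.subgroupOf N with hW
  have hWc : ∀ a b : N, ⁅a, b⁆ ∈ W := fun a b =>
    Subgroup.normalCore_le H (hcomm (Subgroup.commutator_mem_commutator a.2 b.2))
  haveI : W.Normal := ⟨fun a ha b => by
    rw [show b * a * b⁻¹ = ⁅b, a⁆ * a by simp [commutatorElement_def]]
    exact W.mul_mem (hWc b a) ha⟩
  have hWz : ∀ c ∈ Subgroup.zpowers z', ∀ a : N, a ∈ W → MulAut.conjNormal c a ∈ W := by
    intro c hc a ha
    have hcH : c ∈ H := (Subgroup.zpowers_le.2 hnH) hc
    rw [Subgroup.mem_subgroupOf, MulAut.conjNormal_apply]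
    exact H.mul_mem (H.mul_mem hcH ha) (H.inv_mem hcH)
  let act : Subgroup.zpowers z' → N ⧸ W →* N ⧸ W := fun c =>
    QuotientGroup.map W W (MulAut.conjNormal (c : G) : MulAut N).toMonoidHom (fun a ha => hWz c c.2 a ha)
  letI : MulAction (Subgroup.zpowers z') (N ⧸ W) :=
    { smul := fun c v => act c v
      one_smul := fun v => by
        obtain ⟨a, rfl⟩ := QuotientGroup.mk'_surjective W v
        show act 1 _ = _
        simp [act]
      mul_smul := fun b c v => by
        obtain ⟨a, rfl⟩ := QuotientGroup.mk'_surjective W v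
        show act (b * c) _ = act b (act c _)
        simp [act, MulAut.mul_apply] }
  let F : Subgroup (N ⧸ W) :=
    { carrier := MulAction.fixedPoints (Subgroup.zpowers z') (N ⧸ W)
      one_mem' := fun c => map_one (act c)
      mul_mem' := fun {a b} ha hb c => by
        show act c (a * b) = _
        rw [map_mul, show act c a = a from ha c, show act c b = b from hb c]
      inv_mem' := fun {a} ha c => by
        show act c a⁻¹ = _
        rw [map_inv, show act c a = a from ha c] }
  have hmod := hz'p.card_modEq_card_fixedPoints (N ⧸ W)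
  rw [← Subgroup.index_eq_card] at hmod
  change W.index ≡ Nat.card F [MOD p] at hmod
  have hWdvd : W.index ∣ H.index := by
    show H.relIndex N ∣ _
    refine ⟨(N ⊔ H).index, ?_⟩
    refine Nat.eq_of_mul_eq_mul_left (Nat.pos_of_ne_zero fun h =>
      (Subgroup.index_ne_zero_of_finite (H := N)) (by
        rw [← Subgroup.relIndex_mul_index (show N ≤ N ⊔ H from le_sup_left), sup_comm N H,
          Subgroup.relIndex_sup_right, h, zero_mul]) : 0 < N.relIndex H) ?_
    have e1 := Subgroup.relIndex_mul_index (inf_le_right : N ⊓ H ≤ H)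
    have e2 := Subgroup.relIndex_mul_index (inf_le_left : N ⊓ H ≤ N)
    have e3 := Subgroup.relIndex_mul_index (show N ≤ H ⊔ N from le_sup_right)
    rw [Subgroup.inf_relIndex_right] at e1
    rw [Subgroup.inf_relIndex_left] at e2
    rw [Subgroup.relIndex_sup_right] at e3
    rw [sup_comm N H, e1, ← e2, ← e3]
    ring
  have hFmul : W.index = Nat.card F * F.index := by rw [F.card_mul_index, ← Subgroup.index_eq_card]
  have hFcop : (Nat.card F).Coprime p := ((Fact.out : p.Prime).coprime_iff_not_dvd.2 fun h =>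
    hpH (h.trans ((Dvd.intro _ hFmul.symm).trans hWdvd))).symm
  have hFne : F.index ≠ 1 := fun h => by
    have h1 : ((⟨n, hn⟩ : N) : N ⧸ W) ∈ F := by rw [Subgroup.index_eq_one.1 h]; exact Subgroup.mem_top _
    have h2 := h1 ⟨z', Subgroup.mem_zpowers z'⟩
    change ((MulAut.conjNormal z' (⟨n, hn⟩ : N) : N) : N ⧸ W) = ((⟨n, hn⟩ : N) : N ⧸ W) at h2
    rw [eq_comm, QuotientGroup.eq, Subgroup.mem_subgroupOf] at h2
    simp only [MulEquiv.coe_toMonoidHom, Subgroup.coe_mul, Subgroup.coe_inv, MulAut.conjNormal_apply, inv_inv] at h2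
    refine hg ?_
    have h3 := H.mul_mem h2 hnH
    rw [show g * z * g⁻¹ = n⁻¹ * (z' * n * z'⁻¹) * z' by simp [hz', mul_assoc]]
    exact h3
  have hWq : IsPGroup q (N ⧸ W) := fun v => by
    obtain ⟨a, rfl⟩ := QuotientGroup.mk'_surjective W v
    refine ⟨1, ?_⟩
    rw [pow_one, ← map_pow]
    exact (QuotientGroup.eq_one_iff _).2 (Subgroup.normalCore_le H (hexp a a.2))
  obtain ⟨e, he⟩ := hWq.exists_card_eq
  obtain ⟨j, -, hj⟩ := (Nat.dvd_prime_pow hq).1 (he ▸ Subgroup.index_dvd_card F)
  refine ⟨F.index, ?_, (Dvd.intro_left _ hFmul.symm).trans hWdvd, ?_⟩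
  · refine ⟨q, j, hq.prime, ?_, hj.symm⟩
    rcases j with _ | j
    · exact absurd (hj.trans (pow_zero q)) hFne
    · omega
  · have h1 : Nat.card F * F.index ≡ Nat.card F * 1 [MOD p] := by rw [mul_one, ← hFmul]; exact hmod
    exact Nat.ModEq.cancel_left_of_coprime hFcop.symm h1

lemma apply_eq_one_of_comm {G : Type u} [Group G] (l : G →* ℂ) (a b : G) : l ⁅a, b⁆ = 1 := by
  rw [commutatorElement_def, map_mul, map_mul, map_mul,
    show l a * l b * l a⁻¹ * l b⁻¹ = (l a * l a⁻¹) * (l b * l b⁻¹) by ring, ← map_mul, ← map_mul,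
    mul_inv_cancel, mul_inv_cancel, map_one, mul_one]

lemma main (p : ℕ) [Fact p.Prime] : ∀ (i : ℕ) (G : Type u) [Group G] [Fintype G], Nat.card G ≤ i →
    Group.IsSolvable G → ∀ χ : IrrCharacter G, (∀ g : G, χ.1 g = χ.1 1 → g = 1) →
    ∀ P : Sylow p G, ¬ (P : Subgroup G).Normal →
    ∃ q : ℕ, IsPrimePow q ∧ q ∣ degree χ ∧ ((q : ℤ) ≡ -1 [ZMOD p] ∨ (q : ℤ) ≡ 0 [ZMOD p] ∨ (q : ℤ) ≡ 1 [ZMOD p]) := by
  intro i
  induction i using Nat.strong_induction_on with
  | _ i ih =>
  intro G _ _ hcard hsolv χ hfaith P hP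
  haveI := hsolv
  by_cases hpn : p ∣ degree χ
  · exact ⟨p, (Fact.out : p.Prime).isPrimePow, hpn, Or.inr (Or.inl (by
      rw [Int.modEq_zero_iff_dvd]))⟩
  have hscalar : ∀ z : G, ‖χ.1 z‖ = ‖χ.1 1‖ → z ∈ Subgroup.center G := by
    intro z hz
    obtain ⟨d, ρ, -, hρ⟩ := χ.2
    rw [← hρ] at hz
    obtain ⟨c, hc⟩ := (CharInt.norm_eq_iff_scalar ρ z).1 hz
    refine Subgroup.mem_center_iff.2 fun g => commutatorElement_eq_one_iff_commute.1 (hfaith _ ?_)
    rw [← hρ]
    have hval : ρ ⁅g, z⁆ = 1 := by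
      rw [commutatorElement_def, map_mul, map_mul, map_mul, hc, mul_smul_comm, mul_one, smul_mul_assoc,
        ← map_mul, mul_inv_cancel, map_one, ← hc, ← map_mul, mul_inv_cancel, map_one]
    show LinearMap.trace ℂ _ (ρ ⁅g, z⁆) = LinearMap.trace ℂ _ (ρ 1)
    rw [hval, map_one ρ]
  by_cases hab : ∀ A : Subgroup G, A.Normal → (∀ a ∈ A, ∀ b ∈ A, a * b = b * a) → A ≤ Subgroup.center G
  swap
  · -- an imprimitive character
    push Not at hab
    obtain ⟨A, hAn, hAab, hAc⟩ := hab
    haveI := hAn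
    haveI : Fintype A := Fintype.ofFinite A
    obtain ⟨θ, hθ⟩ := exists_constituent A χ
    set T := inertia A θ.1 with hT
    haveI : Fintype T := Fintype.ofFinite T
    obtain ⟨ψ, e, -, hψ, hind⟩ := exists_inertia_character A χ θ hθ
    obtain ⟨l, hl⟩ := IsCharacter.exists_monoidHom (irr_isCharacter θ)
      (apply_one_of_comm (fun a b : A => Subtype.ext (hAab a a.2 b b.2)) θ)
    have hTne : T ≠ ⊤ := by
      intro h
      refine hAc fun a ha => hscalar a ?_
      have hinv : ∀ g, conjFun A θ.1 g = θ.1 := fun g => (h ▸ Subgroup.mem_top g : g ∈ T)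
      have h1 := resFun_eq_smul_of_invariant A χ θ hinv hθ
      have h2 := congrFun h1 ⟨a, ha⟩
      have h3 := congrFun h1 1
      simp only [resFun_apply, Pi.smul_apply, smul_eq_mul, ← hl, map_one, mul_one, Subgroup.coe_one] at h2 h3
      rw [h2, h3, norm_mul]
      have hn : ‖l ⟨a, ha⟩‖ = 1 := Complex.norm_eq_one_of_pow_eq_one (n := Nat.card A)
        (by rw [← map_pow, pow_card_eq_one', map_one]) Nat.card_pos.ne'
      rw [hn, mul_one]
    have hdeg : degree χ = T.index * degree ψ := by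
      have h := congrFun hind 1
      rw [indFun_apply_one, apply_one_eq_degree, apply_one_eq_degree] at h
      exact_mod_cast h.symm
    have hTp : ¬ p ∣ T.index := fun h => hpn (hdeg ▸ h.mul_right _)
    haveI hK : (CharInt.charKernel (irr_isCharacter ψ)).Normal := CharInt.charKernel_normal _
    set N0 := CharInt.charKernel (irr_isCharacter ψ) with hN0
    haveI : Fintype (T ⧸ N0) := Fintype.ofFinite _
    obtain ⟨ψb, hψb⟩ := exists_descend N0 ψ fun k hk => hk
    have hψbdeg : degree ψb = degree ψ := by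
      have h := hψb 1
      rw [QuotientGroup.mk_one, apply_one_eq_degree, apply_one_eq_degree] at h
      exact_mod_cast h
    let S0 : Sylow p (T ⧸ N0) := default
    by_cases hS0 : (S0 : Subgroup (T ⧸ N0)).Normal
    swap
    · have hlt : Nat.card (T ⧸ N0) < i := by
        have h1 : Nat.card (T ⧸ N0) ≤ Nat.card T :=
          Nat.card_le_card_of_surjective _ (QuotientGroup.mk'_surjective N0)
        have h2 : Nat.card T < Nat.card G := by
          refine lt_of_le_of_ne (Subgroup.card_le_card_group T) fun h => hTne (Subgroup.eq_top_of_card_eq T h)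
        omega
      have hsol : Group.IsSolvable (T ⧸ N0) :=
        Group.isSolvable_of_surjective (f := QuotientGroup.mk' N0) (QuotientGroup.mk'_surjective N0)
      obtain ⟨q, hq, hqd, hq'⟩ := ih _ hlt (T ⧸ N0) le_rfl hsol ψb (fun v hv => by
        obtain ⟨t, rfl⟩ := QuotientGroup.mk'_surjective N0 v
        refine (QuotientGroup.eq_one_iff t).2 ((CharInt.mem_charKernel _).2 ?_)
        rw [← hψb, ← hψb, QuotientGroup.mk_one]; exact hv) S0 hS0
      exact ⟨q, hq, hdeg ▸ (hψbdeg ▸ hqd).mul_left _, hq'⟩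
    by_cases hcore : ∀ z ∈ T, (∃ k, orderOf z = p ^ k) → z ∈ T.normalCore
    swap
    · push Not at hcore
      obtain ⟨z, hz, hzp, hzc⟩ := hcore
      obtain ⟨r, hr, hrd, hr1⟩ := exists_orbit_prime_power p T.index T le_rfl hTp z hz hzp hzc
      refine ⟨r, hr, hdeg ▸ hrd.mul_right _, Or.inr (Or.inr ?_)⟩
      exact_mod_cast Int.natCast_modEq_iff.2 hr1
    -- otherwise all `p`-elements lie in the core, so the Sylow subgroup is normal
    exfalso
    haveI : T.normalCore.Normal := Subgroup.normalCore_normal T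
    have hall : ∀ z : G, (∃ k, orderOf z = p ^ k) → z ∈ T.normalCore := by
      intro z ⟨k, hk⟩
      let ST : Sylow p T := default
      have hST : ¬ p ∣ ((ST : Subgroup T).map T.subtype).index := by
        rw [Subgroup.index_map_of_injective _ T.subtype_injective, Subgroup.range_subtype]
        exact (Fact.out : p.Prime).not_dvd_mul ST.not_dvd_index hTp
      obtain ⟨R, hR⟩ := (IsPGroup.of_card (n := k) (G := Subgroup.zpowers z) (p := p)
        (by rw [Nat.card_zpowers, hk])).exists_le_sylow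
      obtain ⟨g, hg⟩ := MulAction.exists_smul_eq G R ((ST.2.map T.subtype).toSylow hST)
      have h2 : g * z * g⁻¹ ∈ (ST : Subgroup T).map T.subtype := by
        have h3 : g * z * g⁻¹ ∈ ((g • R : Sylow p G) : Subgroup G) := by
          rw [Sylow.smul_def, Sylow.pointwise_smul_def]
          exact ⟨z, hR (Subgroup.mem_zpowers z), rfl⟩
        rw [hg] at h3; exact h3
      obtain ⟨w, hw, hwz⟩ := h2
      have h4 := hcore (g * z * g⁻¹) (hwz ▸ w.2) ⟨k, by
        rw [show g * z * g⁻¹ = MulAut.conj g z from rfl, MulEquiv.orderOf_eq, hk]⟩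
      simpa [mul_assoc] using (inferInstance : T.normalCore.Normal).conj_mem _ h4 g⁻¹
    set E := Subgroup.closure {z : G | ∃ k, orderOf z = p ^ k} with hE
    have hEc : E ≤ T.normalCore := (Subgroup.closure_le _).2 hall
    obtain ⟨A0, hA0⟩ := (S0.2).exists_card_eq
    have hEp : IsPGroup p E := by
      intro e
      refine ⟨A0, Subtype.ext (hfaith _ ?_)⟩
      rw [← hind]
      simp only [indFun]
      refine congrArg _ (Finset.sum_congr rfl fun x _ => ?_)
      have hEx : ∀ w ∈ E, x⁻¹ * w * x ∈ T := fun w hw =>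
        Subgroup.normalCore_le T (by simpa using (inferInstance : T.normalCore.Normal).conj_mem w (hEc hw) x⁻¹)
      let f : E →* T ⧸ N0 := (QuotientGroup.mk' N0).comp
        (((MulAut.conj x⁻¹).toMonoidHom.comp E.subtype).codRestrict T fun w => by
          simpa using hEx w w.2)
      have hfS : ∀ w : E, f w ∈ (S0 : Subgroup (T ⧸ N0)) := by
        intro w
        have : (⊤ : Subgroup E) ≤ (S0 : Subgroup (T ⧸ N0)).comap f := by
          rw [← Subgroup.closure_closure_coe_preimage (k := {z : G | ∃ k, orderOf z = p ^ k}), Subgroup.closure_le]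
          rintro ⟨u, hu⟩ ⟨k, hk⟩
          obtain ⟨j, -, hj⟩ := (Nat.dvd_prime_pow Fact.out).1
            ((orderOf_map_dvd f ⟨u, hu⟩).trans (by rw [Subgroup.orderOf_mk]; exact dvd_of_eq hk))
          obtain ⟨U, hU⟩ := (IsPGroup.of_card (n := j) (G := Subgroup.zpowers (f ⟨u, hu⟩)) (p := p)
            (by rw [Nat.card_zpowers, hj])).exists_le_sylow
          haveI := Sylow.unique_of_normal S0 hS0
          exact (Subsingleton.elim U S0) ▸ hU (Subgroup.mem_zpowers _)
        exact this (Subgroup.mem_top w)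
      have h1 : f (e ^ p ^ A0) = 1 := by
        rw [map_pow, ← hA0]
        exact congrArg Subtype.val (pow_card_eq_one' (x := (⟨f e, hfS e⟩ : (S0 : Subgroup (T ⧸ N0)))))
      have h2 : (⟨x⁻¹ * ((e : G) ^ p ^ A0) * x, hEx _ (E.pow_mem e.2 _)⟩ : T) ∈ N0 := by
        rw [← QuotientGroup.eq_one_iff, ← h1]
        exact congrArg (QuotientGroup.mk' N0) (Subtype.ext (by simp))
      have h3 := (CharInt.mem_charKernel _).1 h2
      rw [show x⁻¹ * ((e ^ p ^ A0 : E) : G) * x = ((⟨x⁻¹ * ((e : G) ^ p ^ A0) * x, hEx _ (E.pow_mem e.2 _)⟩ : T) : G)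
        from rfl, show x⁻¹ * 1 * x = ((1 : T) : G) by simp, extendByZero_coe, extendByZero_coe]
      exact h3
    have hPE : (P : Subgroup G) ≤ E := fun z hz => by
      obtain ⟨k, hk⟩ := (IsPGroup.iff_orderOf (p := p)).1 P.2 ⟨z, hz⟩
      exact Subgroup.subset_closure ⟨k, by rwa [Subgroup.orderOf_mk] at hk⟩
    refine hP (P.3 hEp hPE ▸ ?_)
    refine ⟨fun a ha g => ?_⟩
    induction ha using Subgroup.closure_induction with
    | mem y hy =>
      obtain ⟨k, hk⟩ := hy
      exact Subgroup.subset_closure ⟨k, by rw [show g * y * g⁻¹ = MulAut.conj g y from rfl, MulEquiv.orderOf_eq, hk]⟩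
    | one => simp [Subgroup.one_mem]
    | mul a b _ _ ha hb =>
      rw [show g * (a * b) * g⁻¹ = (g * a * g⁻¹) * (g * b * g⁻¹) by group]
      exact Subgroup.mul_mem _ ha hb
    | inv a _ ha =>
      rw [show g * a⁻¹ * g⁻¹ = (g * a * g⁻¹)⁻¹ by group]
      exact Subgroup.inv_mem _ ha
  -- every abelian normal subgroup is central
  have hOp : Cfsg.pCore p G ≤ Subgroup.center G := by
    haveI : (Cfsg.pCore p G).Normal := LocalStructure.pCore_normal p G
    haveI : Fintype (Cfsg.pCore p G) := Fintype.ofFinite _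
    refine hab _ inferInstance fun a ha b hb => commutatorElement_eq_one_iff_commute.1 (hfaith _ ?_)
    obtain ⟨θ, hθ⟩ := exists_constituent (Cfsg.pCore p G) χ
    obtain ⟨m, hm⟩ := IsCharacter.exists_nat_classInner
      (IsCharacter.restrict (irr_isCharacter χ) (Cfsg.pCore p G)) (irr_isCharacter θ)
    have h1 := apply_one_eq_mul_card_orbit (Cfsg.pCore p G) χ θ hθ
    rw [show classInner (resFun (Cfsg.pCore p G) χ.1) θ.1 = (m : ℂ) from hm, apply_one_eq_degree,
      apply_one_eq_degree] at h1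
    have h1' : degree χ = m * ((orbitFinset (Cfsg.pCore p G) θ).card * degree θ) := by exact_mod_cast h1
    obtain ⟨e, he⟩ := (LocalStructure.isPGroup_pCore (G := G) p).exists_card_eq
    obtain ⟨j, -, hj⟩ := (Nat.dvd_prime_pow Fact.out).1 (he ▸ degree_dvd_natCard θ)
    have hd : degree θ = 1 := by
      rcases j with _ | j
      · simpa using hj
      · exact absurd (h1' ▸ ((hj ▸ dvd_pow_self p j.succ_ne_zero : p ∣ degree θ).mul_left _).mul_left _) hpn
    have hres := fun y : Cfsg.pCore p G => congrFun (resFun_eq_smul_orbitSum (Cfsg.pCore p G) χ θ hθ) y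
    have h2 := hres ⁅(⟨a, ha⟩ : Cfsg.pCore p G), ⟨b, hb⟩⁆
    have h3 := hres 1
    simp only [resFun_apply, Pi.smul_apply, smul_eq_mul, orbitSum, Finset.sum_apply, Subgroup.coe_one] at h2 h3
    refine Eq.trans h2 (Eq.trans (congrArg _ (Finset.sum_congr rfl fun η hη => ?_)) h3.symm)
    obtain ⟨g, rfl⟩ := (mem_orbitFinset (Cfsg.pCore p G)).1 hη
    obtain ⟨l, hl⟩ := IsCharacter.exists_monoidHom (irr_isCharacter (conjChar (Cfsg.pCore p G) θ g))
      (by rw [conjChar_coe, conjFun_apply_one, apply_one_eq_degree, hd, Nat.cast_one])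
    rw [← hl, apply_eq_one_of_comm, map_one]
  -- a normal `q`-subgroup on which some `p`-element acts
  obtain ⟨q, hq, hqp, x₀, hx₀, hne₀⟩ : ∃ q, q.Prime ∧ q ≠ p ∧ ∃ x : G, (∃ k, orderOf x = p ^ k) ∧
      ∃ r ∈ Cfsg.pCore q G, ¬ Commute x r := by
    by_contra! hall
    set E := Subgroup.closure {z : G | ∃ k, orderOf z = p ^ k}
    have hEF : E ≤ fittingSubgroup G := by
      refine le_trans ((Subgroup.closure_le _).2 fun z hz => ?_) Components.centralizer_fittingSubgroup_le
      have hle : fittingSubgroup G ≤ Subgroup.centralizer ({z} : Set G) := by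
        rw [Components.fittingSubgroup_eq_iSup_pCore]
        refine iSup_le fun r w hw => Subgroup.mem_centralizer_singleton_iff.2 ?_
        by_cases hrp : (r : ℕ) = p
        · exact (Subgroup.mem_center_iff.1 (hOp (hrp ▸ hw)) z).symm
        · exact (hall r (Nat.prime_of_mem_primeFactors r.2) hrp z hz w hw).eq.symm
      exact Subgroup.mem_centralizer_iff.2 fun w hw => Subgroup.mem_centralizer_singleton_iff.1 (hle hw)
    let SF : Sylow p (fittingSubgroup G) := default
    have hSFn : (SF : Subgroup (fittingSubgroup G)).Normal :=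
      inferInstance
    have hEp : IsPGroup p E := by
      refine (SF.2.map (fittingSubgroup G).subtype).to_le ((Subgroup.closure_le _).2 fun z hz => ?_)
      obtain ⟨k, hk⟩ := hz
      have hzF : z ∈ fittingSubgroup G := hEF (Subgroup.subset_closure ⟨k, hk⟩)
      obtain ⟨U, hU⟩ := (IsPGroup.of_card (n := k) (G := Subgroup.zpowers (⟨z, hzF⟩ : fittingSubgroup G)) (p := p)
        (by rw [Nat.card_zpowers, Subgroup.orderOf_mk, hk])).exists_le_sylow
      haveI := Sylow.unique_of_normal SF hSFn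
      exact ⟨⟨z, hzF⟩, (Subsingleton.elim U SF) ▸ hU (Subgroup.mem_zpowers _), rfl⟩
    have hPE : (P : Subgroup G) ≤ E := fun z hz => by
      obtain ⟨k, hk⟩ := (IsPGroup.iff_orderOf (p := p)).1 P.2 ⟨z, hz⟩
      exact Subgroup.subset_closure ⟨k, by rwa [Subgroup.orderOf_mk] at hk⟩
    refine hP (P.3 hEp hPE ▸ ⟨fun a ha g => ?_⟩)
    have h1 : E.map (MulAut.conj g).toMonoidHom ≤ E := by
      rw [MonoidHom.map_closure, Subgroup.closure_le]
      rintro _ ⟨z, ⟨k, hk⟩, rfl⟩
      exact Subgroup.subset_closure ⟨k, by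
        show orderOf (MulAut.conj g z) = _
        rw [MulEquiv.orderOf_eq, hk]⟩
    exact h1 ⟨a, ha, rfl⟩
  haveI := Fact.mk hq
  set Q := Cfsg.pCore q G with hQdef
  haveI hQn : Q.Normal := LocalStructure.pCore_normal q G
  have hQq : IsPGroup q Q := LocalStructure.isPGroup_pCore q
  -- `Q` has class at most two
  have hQ' : ⁅Q, Q⁆ ≤ Subgroup.center G := by
    by_contra hnot
    set D := ⁅Q, Q⁆ with hD
    have hDQ : D ≤ Q := Subgroup.commutator_le_left Q Q
    set Z := (Subgroup.center Q).map Q.subtype with hZ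
    haveI : Z.Normal := by rw [hZ]; infer_instance
    have hZc : Z ≤ Subgroup.center G := hab Z inferInstance (by
      rintro _ ⟨a, ha, rfl⟩ _ ⟨b, hb, rfl⟩
      exact congrArg Subtype.val (Subgroup.mem_center_iff.1 hb a))
    set π := QuotientGroup.mk' (Subgroup.center Q) with hπ
    haveI : ((D.subgroupOf Q).map π).Normal :=
      Subgroup.Normal.map inferInstance π (QuotientGroup.mk'_surjective _)
    have hne : (D.subgroupOf Q).map π ≠ ⊥ := fun h => hnot fun d hd => hZc ⟨⟨d, hDQ hd⟩,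
      (QuotientGroup.eq_one_iff _).1 ((Subgroup.eq_bot_iff_forall _).1 h _ ⟨⟨d, hDQ hd⟩, hd, rfl⟩), rfl⟩
    obtain ⟨v, hv, hv1⟩ := (Subgroup.bot_or_exists_ne_one _).resolve_left
      (PGroup.inf_center_ne_bot (hQq.to_quotient (Subgroup.center Q)) _ hne)
    obtain ⟨⟨d, hd', hdv⟩, hvc⟩ := hv
    -- `d` centralises `D`
    have hc : ∀ w : Q, ⁅d, w⁆ ∈ Subgroup.center Q := fun w => by
      rw [← QuotientGroup.eq_one_iff, ← QuotientGroup.mk'_apply, map_commutatorElement, ← hπ, hdv,
        commutatorElement_eq_one_iff_commute]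
      exact (Subgroup.mem_center_iff.1 hvc _).symm
    let f : Q →* Subgroup.center Q :=
      { toFun := fun w => ⟨⁅d, w⁆, hc w⟩
        map_one' := Subtype.ext (by simp)
        map_mul' := fun a b => Subtype.ext (by
          show ⁅d, a * b⁆ = ⁅d, a⁆ * ⁅d, b⁆
          rw [commutatorElement_mul_right_eq_mul_conj, mul_assoc ⁅d, a⁆,
            Subgroup.mem_center_iff.1 (hc b) a, ← mul_assoc, mul_inv_cancel_right]) }
    have hdD : ∀ w ∈ D, Commute (d : G) w := by
      have h1 : commutator Q ≤ f.ker := Abelianization.commutator_subset_ker f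
      have h2 : D = (commutator Q).map Q.subtype := by
        rw [commutator_def, Subgroup.map_commutator, ← MonoidHom.range_eq_map, Subgroup.range_subtype]
      intro w hw
      rw [h2] at hw
      obtain ⟨a, ha, rfl⟩ := hw
      exact congrArg Subtype.val (commutatorElement_eq_one_iff_commute.1
        (congrArg Subtype.val (h1 ha))).eq
    haveI : D.Normal := by rw [hD]; infer_instance
    have hZD : (Subgroup.center D).map D.subtype ≤ Subgroup.center G := hab _ inferInstance (by
      rintro _ ⟨a, ha, rfl⟩ _ ⟨b, hb, rfl⟩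
      exact congrArg Subtype.val (Subgroup.mem_center_iff.1 hb a))
    have hdG : (d : G) ∈ Subgroup.center G := hZD ⟨⟨d, hd'⟩,
      Subgroup.mem_center_iff.2 fun w => Subtype.ext (hdD w w.2).eq.symm, rfl⟩
    exact hv1 (hdv ▸ (QuotientGroup.eq_one_iff d).2 (Subgroup.mem_center_iff.2 fun w =>
      Subtype.ext (Subgroup.mem_center_iff.1 hdG w)))
  -- the acting element
  obtain ⟨K, hK⟩ := hx₀
  obtain ⟨j, hj1, hj2⟩ : ∃ j, (∃ r ∈ Q, ¬ Commute (x₀ ^ p ^ j) r) ∧
      ∀ r ∈ Q, Commute (x₀ ^ p ^ (j + 1)) r := by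
    by_contra! hcon
    have : ∀ j, ∃ r ∈ Q, ¬ Commute (x₀ ^ p ^ j) r := by
      intro j
      induction j with
      | zero => simpa using hne₀
      | succ j ihj => exact hcon j ihj
    obtain ⟨r, -, hr⟩ := this K
    rw [← hK, pow_orderOf_eq_one] at hr
    exact hr (Commute.one_left r)
  set x := x₀ ^ p ^ j with hx
  have hxp : ∀ r ∈ Q, Commute (x ^ p) r := fun r hr => by
    rw [hx, ← pow_mul, ← pow_succ]; exact hj2 r hr
  obtain ⟨k', -, hk'⟩ := (Nat.dvd_prime_pow Fact.out).1 (hK ▸ orderOf_pow_dvd (x := x₀) (p ^ j))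
  rw [← hx] at hk'
  obtain ⟨k, rfl⟩ : ∃ k, k' = k + 1 := ⟨k' - 1, by
    rcases k' with _ | k'
    · obtain ⟨r, -, hr⟩ := hj1
      exact absurd (orderOf_eq_one_iff.1 hk') (fun h => hr (h ▸ Commute.one_left r))
    · rfl⟩
  set A := Subgroup.zpowers x with hA
  have hAQ : A ≤ Subgroup.normalizer (Q : Set G) := by
    rw [Subgroup.normalizer_eq_top_iff.2 hQn]; exact le_top
  have hcop : (Nat.card A).Coprime (Nat.card Q) := by
    obtain ⟨m, hm⟩ := hQq.exists_card_eq
    rw [hA, Nat.card_zpowers, hk', hm]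
    exact Nat.Coprime.pow (k + 1) m ((Nat.coprime_primes Fact.out Fact.out).2 hqp.symm)
  set R := ⁅Q, A⁆ with hR
  have hRQ : R ≤ Q := Coprime.commutator_le_left_of_le_normalizer hAQ
  have hRA : ⁅R, A⁆ = R := Coprime.commutator_commutator_eq hAQ hcop (Or.inl inferInstance)
  have hxR : x ∈ Subgroup.normalizer (R : Set G) :=
    Subgroup.normalizer_commutator_ge_right Q A (Subgroup.mem_zpowers x)
  obtain ⟨r₁, hr₁, r₂, hr₂, hz1⟩ : ∃ r ∈ R, ∃ s ∈ R, ⁅r, s⁆ ≠ 1 := by
    by_contra! hRab
    -- `R` would be central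
    have hCR : ∀ c ∈ Q, (∀ a ∈ A, Commute a c) → ∀ r ∈ R, Commute c r := by
      intro c hc hcA
      have hle : R ≤ Subgroup.centralizer ({c} : Set G) := by
        rw [hR, Subgroup.commutator_le]
        intro w hw a ha
        have hw' := Q.inv_mem hw
        have h1 : a * ⁅c, w⁻¹⁆ * a⁻¹ = ⁅c, w⁻¹⁆ := mul_inv_eq_iff_eq_mul.2
          (Subgroup.mem_center_iff.1 (hQ' (Subgroup.commutator_mem_commutator hc hw')) a)
        have h2 : a * ⁅c, w⁻¹⁆ * a⁻¹ = ⁅c, a * w⁻¹ * a⁻¹⁆ := by
          rw [show a * ⁅c, w⁻¹⁆ * a⁻¹ = MulAut.conj a ⁅c, w⁻¹⁆ from rfl, map_commutatorElement,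
            MulAut.conj_apply, MulAut.conj_apply, mul_inv_eq_iff_eq_mul.2 (hcA a ha).eq]
        rw [h1, commutatorElement_def, commutatorElement_def] at h2
        rw [Subgroup.mem_centralizer_singleton_iff, show ⁅w, a⁆ = w * (a * w⁻¹ * a⁻¹) by
          simp [commutatorElement_def, mul_assoc]]
        generalize a * w⁻¹ * a⁻¹ = b at h2 ⊢
        have h3 : w⁻¹ * c⁻¹ * w⁻¹⁻¹ = b * c⁻¹ * b⁻¹ := by simpa [mul_assoc] using h2
        calc w * b * c = w * (b * c⁻¹ * b⁻¹)⁻¹ * b := by group
          _ = w * (w⁻¹ * c⁻¹ * w⁻¹⁻¹)⁻¹ * b := by rw [h3]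
          _ = c * (w * b) := by group
      exact fun r hr => (Subgroup.mem_centralizer_singleton_iff.1 (hle hr)).symm
    have hRZ : ∀ r ∈ R, ∀ w ∈ Q, Commute r w := by
      intro r hr w hw
      obtain ⟨c, hc, m, hm, rfl⟩ := Coprime.exists_centralizer_mul_commutator hAQ hcop (Or.inl inferInstance) hw
      exact ((hCR c hc.1 (fun a ha => Subgroup.mem_centralizer_iff.1 hc.2 a ha) r hr).symm).mul_right
        (commutatorElement_eq_one_iff_commute.1 (hRab r hr m hm))
    have hRcen : R ≤ Subgroup.center G := by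
      haveI : ((Subgroup.center Q).map Q.subtype).Normal := inferInstance
      exact fun r hr => hab ((Subgroup.center Q).map Q.subtype) inferInstance (by
        rintro _ ⟨a, ha, rfl⟩ _ ⟨b, hb, rfl⟩
        exact congrArg Subtype.val (Subgroup.mem_center_iff.1 hb a))
        ⟨⟨r, hRQ hr⟩, Subgroup.mem_center_iff.2 fun w => Subtype.ext (hRZ r hr w w.2).eq.symm, rfl⟩
    have hRbot : R = ⊥ := by
      rw [← hRA, Subgroup.commutator_eq_bot_iff_le_centralizer]
      exact fun r hr => Subgroup.mem_centralizer_iff.2 fun a _ => Subgroup.mem_center_iff.1 (hRcen hr) a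
    obtain ⟨r, hr, hrx⟩ := hj1
    refine hrx (commutatorElement_eq_one_iff_commute.1 ((Subgroup.eq_bot_iff_forall _).1 hRbot _
      (Subgroup.commutator_mem_commutator hr (Subgroup.mem_zpowers x)))).symm
  set z := ⁅r₁, r₂⁆ with hzdef
  have hzc : z ∈ Subgroup.center G := hQ' (Subgroup.commutator_mem_commutator (hRQ hr₁) (hRQ hr₂))
  -- the group `X = R⟨x⟩`
  set X := R ⊔ Subgroup.zpowers x with hX
  have hxX : x ∈ X := Subgroup.mem_sup_right (Subgroup.mem_zpowers x)
  have hRX : R ≤ X := le_sup_left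
  set R' := R.subgroupOf X with hR'
  set x' : X := ⟨x, hxX⟩ with hx'
  have hmapR : R'.map X.subtype = R := Subgroup.map_subgroupOf_eq_of_le hRX
  have hmapx : (Subgroup.zpowers x').map X.subtype = Subgroup.zpowers x := by
    rw [MonoidHom.map_zpowers]; rfl
  haveI : R'.Normal := Subgroup.normal_subgroupOf_of_le_normalizer
    (sup_le Subgroup.le_normalizer (Subgroup.zpowers_le.2 hxR))
  haveI : Fintype R' := Fintype.ofFinite R'
  haveI : Fintype X := Fintype.ofFinite X
  have hgen : R' ⊔ Subgroup.zpowers x' = ⊤ := by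
    refine Subgroup.map_injective X.subtype_injective ?_
    rw [Subgroup.map_sup, hmapR, hmapx, ← MonoidHom.range_eq_map, Subgroup.range_subtype]
  have hox' : orderOf x' = p ^ (k + 1) := by rw [← Subgroup.orderOf_coe]; exact hk'
  have hcardR : Nat.card R' = Nat.card R := Nat.card_congr (Subgroup.subgroupOfEquivOfLe hRX).toEquiv
  obtain ⟨eR, heR⟩ := (hQq.to_le hRQ).exists_card_eq
  have hcop' : (Nat.card R').Coprime p := by
    rw [hcardR, heR]; exact Nat.Coprime.pow_left eR ((Nat.coprime_primes Fact.out Fact.out).2 hqp)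
  have hRx' : ⁅R', Subgroup.zpowers x'⁆ = R' := by
    refine Subgroup.map_injective X.subtype_injective ?_
    rw [Subgroup.map_commutator, hmapR, hmapx]
    exact hRA
  have hcl' : ∀ r ∈ R', ∀ s ∈ R', ⁅r, s⁆ ∈ Subgroup.center X := fun r hr s hs =>
    Subgroup.mem_center_iff.2 fun t => Subtype.ext (Subgroup.mem_center_iff.1
      (hQ' (Subgroup.commutator_mem_commutator (hRQ hr) (hRQ hs))) t)
  obtain ⟨m, hm, hmi⟩ := IsCharacter.exists_decomp (IsCharacter.restrict (irr_isCharacter χ) X)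
  obtain ⟨φ, hφm, hφp⟩ : ∃ φ : IrrCharacter X, m φ ≠ 0 ∧ ¬ p ∣ degree φ := by
    by_contra! hall
    refine hpn ?_
    have h2 := congrFun hm 1
    simp only [Finset.sum_apply, Pi.smul_apply, smul_eq_mul, Subgroup.coe_one, apply_one_eq_degree] at h2
    have h3 : degree χ = ∑ φ, m φ * degree φ := by exact_mod_cast h2
    rw [h3]
    refine Finset.dvd_sum fun φ _ => ?_
    by_cases h : m φ = 0
    · simp [h]
    · exact (hall φ h).mul_left _
  obtain ⟨θ, hθ⟩ := exists_constituent R' φ
  obtain ⟨a, ha⟩ := IsCharacter.exists_nat_classInner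
    (IsCharacter.restrict (irr_isCharacter φ) R') (irr_isCharacter θ)
  have ha' : classInner (resFun R' φ.1) θ.1 = (a : ℂ) := ha
  have hdeg := apply_one_eq_mul_card_orbit R' φ θ hθ
  rw [ha', apply_one_eq_degree, apply_one_eq_degree] at hdeg
  have hdeg' : degree φ = a * ((orbitFinset R' θ).card * degree θ) := by exact_mod_cast hdeg
  have hinv : conjFun R' θ.1 x' = θ.1 := by
    by_contra hninv
    have h1 : (inertia R' θ.1).index ∣ R'.index := Subgroup.index_dvd_of_le (irr_le_inertia R' θ)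
    have h2 : R'.index ∣ p ^ (k + 1) := by
      rw [← hox', Subgroup.index_eq_card]
      have hs : Function.Surjective ((QuotientGroup.mk' R').comp (Subgroup.zpowers x').subtype) := by
        intro g
        obtain ⟨g, rfl⟩ := QuotientGroup.mk'_surjective R' g
        obtain ⟨u, hu, y, hy, rfl⟩ := Subgroup.mem_sup_of_normal_left.1 (hgen ▸ Subgroup.mem_top g)
        exact ⟨⟨y, hy⟩, by simp [(QuotientGroup.eq_one_iff u).2 hu]⟩
      rw [← Nat.card_zpowers]
      exact Subgroup.card_dvd_of_surjective _ hs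
    obtain ⟨b, -, hb⟩ := (Nat.dvd_prime_pow Fact.out).1 (h1.trans h2)
    rcases b with _ | b
    · have h3 := Subgroup.index_eq_one.1 (hb.trans (pow_zero p))
      exact hninv (show x' ∈ inertia R' θ.1 from h3 ▸ Subgroup.mem_top _)
    · rw [index_inertia] at hb
      exact hφp (hdeg' ▸ ((hb ▸ dvd_pow_self p b.succ_ne_zero : p ∣ (orbitFinset R' θ).card).mul_right _).mul_left _)
  have hsq := degree_sq_eq_one_of_action p R' x' hgen k hox' hcop' (fun r hr => Subtype.ext (hxp r (hRQ hr)))
    hRx' hcl' φ θ hθ hinv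
  set d := degree θ with hd
  have hd1 : d ≠ 1 := by
    intro h
    have hzR : z ∈ R := by
      rw [hzdef, commutatorElement_def]
      exact R.mul_mem (R.mul_mem (R.mul_mem hr₁ hr₂) (R.inv_mem hr₁)) (R.inv_mem hr₂)
    set zX : X := ⟨z, hRX hzR⟩
    obtain ⟨l, hl⟩ := IsCharacter.exists_monoidHom (irr_isCharacter θ)
      (by rw [apply_one_eq_degree, ← hd, h, Nat.cast_one])
    have horb : ∀ η ∈ orbitFinset R' θ, η.1 (⟨zX, hzR⟩ : R') = η.1 1 := by
      intro η hη
      obtain ⟨g, rfl⟩ := (mem_orbitFinset R').1 hη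
      obtain ⟨l', hl'⟩ := IsCharacter.exists_monoidHom (irr_isCharacter (conjChar R' θ g))
        (by rw [conjChar_coe, conjFun_apply_one, apply_one_eq_degree, ← hd, h, Nat.cast_one])
      rw [← hl', show (⟨zX, hzR⟩ : R') = ⁅(⟨⟨r₁, hRX hr₁⟩, hr₁⟩ : R'), ⟨⟨r₂, hRX hr₂⟩, hr₂⟩⁆ from
        Subtype.ext (Subtype.ext rfl), apply_eq_one_of_comm, map_one]
    have hres := fun y : R' => congrFun (resFun_eq_smul_orbitSum R' φ θ hθ) y
    have hzker : φ.1 zX = φ.1 1 := by
      have h2 := hres ⟨zX, hzR⟩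
      have h3 := hres 1
      simp only [resFun_apply, Pi.smul_apply, smul_eq_mul, orbitSum, Finset.sum_apply, Subgroup.coe_one] at h2 h3
      rw [h2, h3, Finset.sum_congr rfl horb]
    -- but `z` acts as a nontrivial scalar on `χ`
    obtain ⟨nn, ρ, hρi, hρ⟩ := χ.2
    haveI := hρi
    obtain ⟨c, hc⟩ := Clifford.exists_scalar_of_commute ρ (ρ z) fun g => by
      rw [← map_mul, ← map_mul, Subgroup.mem_center_iff.1 hzc g]
    rw [Algebra.algebraMap_eq_smul_one] at hc
    have hc1 : c ≠ 1 := fun e => hz1 (hfaith z (by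
      rw [← hρ]; show LinearMap.trace ℂ _ (ρ z) = LinearMap.trace ℂ _ (ρ 1)
      rw [hc, e, one_smul, map_one ρ]))
    have hmul : ∀ g : G, χ.1 (z * g) = c * χ.1 g := fun g => by
      rw [← hρ]; show LinearMap.trace ℂ _ (ρ (z * g)) = c * LinearMap.trace ℂ _ (ρ g)
      rw [map_mul, hc, smul_mul_assoc, one_mul, map_smul, smul_eq_mul]
    have hzc' : φ.1 zX⁻¹ = φ.1 1 := (CharInt.mem_charKernel (irr_isCharacter φ)).1
      ((CharInt.charKernel _).inv_mem ((CharInt.mem_charKernel (irr_isCharacter φ)).2 hzker))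
    have h4 : classInner (fun g : X => χ.1 (zX * g : X)) φ.1 = classInner (fun g : X => χ.1 g) φ.1 := by
      simp only [classInner]
      refine congrArg _ (Fintype.sum_equiv (Equiv.mulLeft zX) _ _ fun g => ?_)
      simp only [Equiv.coe_mulLeft]
      rw [CharInt.char_mul_of_mem_kernel (irr_isCharacter φ) hzker g]
    rw [show (fun g : X => χ.1 (zX * g : X)) = c • (fun g : X => χ.1 g) from funext fun g => by
      simp [zX, hmul], classInner_smul_left, hmi φ] at h4
    exact hc1 ((mul_eq_right₀ (Nat.cast_ne_zero.2 hφm)).1 h4)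
  -- `d` divides the degree
  obtain ⟨eQ, heQ⟩ := hQq.exists_card_eq
  haveI : Fintype Q := Fintype.ofFinite Q
  obtain ⟨η, hη⟩ := exists_constituent Q χ
  obtain ⟨kQ, hkQ⟩ := IsCharacter.exists_nat_classInner
    (IsCharacter.restrict (irr_isCharacter χ) Q) (irr_isCharacter η)
  have hηdeg := apply_one_eq_mul_card_orbit Q χ η hη
  rw [show classInner (resFun Q χ.1) η.1 = (kQ : ℂ) from hkQ, apply_one_eq_degree, apply_one_eq_degree] at hηdeg
  have hηdeg' : degree χ = kQ * ((orbitFinset Q η).card * degree η) := by exact_mod_cast hηdeg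
  have hdle : d ≤ degree η := by
    let ι : R' →* Q := (X.subtype.comp R'.subtype).codRestrict Q fun w => hRQ w.2
    have hcomp : ∀ η' : IrrCharacter Q, IsCharacter R' (fun w => η'.1 (ι w)) := fun η' =>
      IsCharacter.comp (irr_isCharacter η') ι
    have hpos : classInner (fun w : R' => χ.1 ((w : X) : G)) θ.1 ≠ 0 := by
      have h1 : (fun w : R' => χ.1 ((w : X) : G)) = ∑ ψ : IrrCharacter X, (m ψ : ℂ) • (fun w : R' => ψ.1 w) := by
        funext w
        have := congrFun hm (w : X)
        simpa using this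
      choose cψ hcψ using fun ψ : IrrCharacter X => IsCharacter.exists_nat_classInner
        (IsCharacter.restrict (irr_isCharacter ψ) R') (irr_isCharacter θ)
      rw [h1, classInner_sum_left, Finset.sum_congr rfl fun ψ _ => by rw [classInner_smul_left, hcψ ψ]]
      have h2 : ((∑ ψ, m ψ * cψ ψ : ℕ) : ℂ) ≠ 0 := by
        rw [Nat.cast_ne_zero]
        intro h0
        have := (Finset.sum_eq_zero_iff.1 h0) φ (Finset.mem_univ φ)
        rcases Nat.mul_eq_zero.1 this with h' | h'
        · exact hφm h'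
        · exact hθ ((hcψ φ).trans (by rw [h', Nat.cast_zero]))
      push_cast at h2
      exact h2
    have h1 : (fun w : R' => χ.1 ((w : X) : G)) =
        classInner (resFun Q χ.1) η.1 • ∑ η' ∈ orbitFinset Q η, fun w : R' => η'.1 (ι w) := by
      funext w
      have := congrFun (resFun_eq_smul_orbitSum Q χ η hη) (ι w)
      simp only [resFun_apply, Pi.smul_apply, orbitSum, Finset.sum_apply] at this ⊢
      exact this
    rw [h1, classInner_smul_left, classInner_sum_left] at hpos
    obtain ⟨η', hη', hne'⟩ := Finset.exists_ne_zero_of_sum_ne_zero (right_ne_zero_of_mul hpos)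
    obtain ⟨c', hc', hci'⟩ := IsCharacter.exists_decomp (hcomp η')
    rw [hci'] at hne'
    have h2 := congrFun hc' 1
    simp only [Finset.sum_apply, Pi.smul_apply, smul_eq_mul, map_one, apply_one_eq_degree] at h2
    have h3 : degree η' = ∑ ψ, c' ψ * degree ψ := by exact_mod_cast h2
    have h4 : degree η' = degree η := by
      obtain ⟨g, rfl⟩ := (mem_orbitFinset Q).1 hη'
      have h5 := conjFun_apply_one Q η.1 g
      rw [← conjChar_coe, apply_one_eq_degree, apply_one_eq_degree] at h5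
      exact_mod_cast h5
    rw [← h4, h3]
    refine le_trans ?_ (Finset.single_le_sum (f := fun ψ => c' ψ * degree ψ) (fun _ _ => Nat.zero_le _)
      (Finset.mem_univ θ))
    exact Nat.le_mul_of_pos_left _ (Nat.pos_of_ne_zero (Nat.cast_ne_zero.1 hne'))
  obtain ⟨i₁, -, hi₁⟩ := (Nat.dvd_prime_pow Fact.out).1
    (show d ∣ q ^ eR from heR ▸ hcardR ▸ degree_dvd_natCard θ)
  obtain ⟨i₂, -, hi₂⟩ := (Nat.dvd_prime_pow Fact.out).1 (heQ ▸ degree_dvd_natCard η)
  have hle : i₁ ≤ i₂ := (Nat.pow_le_pow_iff_right hq.one_lt).1 (by rw [← hi₁, ← hi₂]; exact hdle)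
  refine ⟨d, ⟨q, i₁, hq.prime, ?_, hi₁.symm⟩, ?_, ?_⟩
  · rcases i₁ with _ | i₁
    · exact absurd (hi₁.trans (pow_zero q)) hd1
    · omega
  · rw [hηdeg', hi₁, hi₂]
    exact ((pow_dvd_pow q hle).mul_left _).mul_left _
  · have h1 : ((d : ZMod p) - 1) * ((d : ZMod p) + 1) = 0 := by linear_combination hsq
    rcases mul_eq_zero.1 h1 with h | h
    · right; right
      rw [← ZMod.intCast_eq_intCast_iff]
      push_cast
      linear_combination h
    · left
      rw [← ZMod.intCast_eq_intCast_iff]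
      push_cast
      linear_combination h

/-- Let the finite solvable group G have a faithful irreducible character of degree n, and suppose that for the prime p a Sylow p-subgroup of G is not normal. Then n is divisible by a prime power q > 1 with q congruent to −1, 0 or 1 modulo p. -/
theorem result {G : Type*} [Group G] [Finite G] (χ : Cfsg.IrrCharacter G) (hfaith : ∀ g : G, (χ : G → ℂ) g = (χ : G → ℂ) 1 → g = 1) (n : ℕ) (hn : Cfsg.charDegree (χ : G → ℂ) = n) (hsolv : Group.IsSolvable G) (p : ℕ) (hp : p.Prime) (P : Sylow p G) (hP : ¬ (P : Subgroup G).Normal) : ∃ q : ℕ, IsPrimePow q ∧ q ∣ n ∧ ((q : ℤ) ≡ -1 [ZMOD p] ∨ (q : ℤ) ≡ 0 [ZMOD p] ∨ (q : ℤ) ≡ 1 [ZMOD p]) := by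
  haveI := Fintype.ofFinite G
  haveI := Fact.mk hp
  obtain ⟨q, hq, hqd, hq'⟩ := main p (Nat.card G) G le_rfl hsolv χ hfaith P hP
  exact ⟨q, hq, hn ▸ charDegree_eq_degree χ ▸ hqd, hq'⟩

end Cfsg.Agent.S4467
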