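import Cfsg.Statements.S4468
import Cfsg.Agent.Lib.Char.CoprimeHallHigman
import Cfsg.Agent.Lib.Char.KernelSum

set_option autoImplicit false
open Cfsg
open scoped Classical ComplexConjugate commutatorElement
open Cfsg.Agent Cfsg.Agent.Char

set_option linter.style.haveILetI false

namespace Cfsg.Agent.S4468

universe u

variable {G : Type u} [Group G] [Fintype G]

/-- A character restricting irreducibly is irreducible. -/
lemma isIrr_of_restrict {χ : G → ℂ} (hχ : IsCharacter G χ) (H : Subgroup G) [Fintype H]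
    (φ : IrrCharacter H) (h : (fun x : H => χ x) = φ.1) : IsIrrCharacter G χ := by
  obtain ⟨m, hm, -⟩ := IsCharacter.exists_decomp hχ
  choose c hc using fun ψ : IrrCharacter G => IsCharacter.exists_decomp (IsCharacter.restrict (irr_isCharacter ψ) H)
  have hφe : ∀ η : IrrCharacter H, ∑ ψ, m ψ * c ψ η = if η = φ then 1 else 0 := fun η => by
    have h1 : classInner (fun x : H => χ x) η.1 = ∑ ψ, (m ψ : ℂ) * c ψ η := by
      rw [show (fun x : H => χ x) = ∑ ψ, (m ψ : ℂ) • (fun x : H => ψ.1 x) from funext fun x => by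
        rw [hm]; simp, classInner_sum_left]
      exact Finset.sum_congr rfl fun ψ _ => by rw [classInner_smul_left, (hc ψ).2 η]
    rw [h, classInner_irr] at h1
    have h2 : ((∑ ψ, m ψ * c ψ η : ℕ) : ℂ) = ((if η = φ then 1 else 0 : ℕ) : ℂ) := by
      push_cast
      rw [← h1]
      rcases eq_or_ne η φ with rfl | hne
      · simp
      · simp [hne, Ne.symm hne]
    exact_mod_cast h2
  have hpos : ∀ ψ : IrrCharacter G, m ψ ≠ 0 → c ψ φ ≠ 0 := by
    intro ψ hψ h0
    have hz : ∀ η, c ψ η = 0 := by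
      intro η
      by_cases hη : η = φ
      · rw [hη, h0]
      · have := hφe η
        rw [if_neg hη, Finset.sum_eq_zero_iff] at this
        exact (Nat.mul_eq_zero.1 (this ψ (Finset.mem_univ _))).resolve_left hψ
    have h1 := congrFun (hc ψ).1 1
    simp [hz, apply_one_eq_degree, (Char.degree_pos ψ).ne'] at h1
  have h1 := hφe φ
  rw [if_pos rfl] at h1
  obtain ⟨ψ₀, -, hψ₀⟩ := Finset.exists_ne_zero_of_sum_ne_zero (h1.trans_ne one_ne_zero)
  have hone : ∀ ψ, ψ ≠ ψ₀ → m ψ = 0 := fun ψ hne => by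
    by_contra hm0
    have := Finset.add_le_sum (f := fun ψ => m ψ * c ψ φ) (fun _ _ => Nat.zero_le _)
      (Finset.mem_univ ψ) (Finset.mem_univ ψ₀) hne
    have h2 := Nat.pos_of_ne_zero (mul_ne_zero hm0 (hpos ψ hm0))
    have h3 := Nat.pos_of_ne_zero hψ₀
    omega
  have hm1 : m ψ₀ = 1 := by
    rw [Finset.sum_eq_single ψ₀ (fun ψ _ hne => by rw [hone ψ hne, zero_mul])
      (fun h => absurd (Finset.mem_univ _) h)] at h1
    exact Nat.eq_one_of_mul_eq_one_right h1
  rw [hm, Finset.sum_eq_single ψ₀ (fun ψ _ hne => by rw [hone ψ hne]; simp)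
    (fun h => absurd (Finset.mem_univ _) h), hm1, Nat.cast_one, one_smul]
  exact ψ₀.2

lemma main (p : ℕ) [Fact p.Prime] {χ : G → ℂ} (hχ : IsCharacter G χ)
    (hfaith : ∀ g : G, χ g = χ 1 → g = 1) (n : ℕ) (hn : χ 1 = n) (hnp : n + 1 ≤ p) (hp2 : p ≠ 2)
    {q : ℕ} [Fact q.Prime] (hqp : q ≠ p) (R : Subgroup G) (x : G) (k : ℕ) (hR : IsPGroup q R)
    (hox : orderOf x = p ^ (k + 1)) (hxn : x ∈ Subgroup.normalizer (R : Set G))
    (hxp : ∀ r ∈ R, Commute (x ^ p) r) (hRx : ⁅R, Subgroup.zpowers x⁆ = R)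
    (hne : ∃ r ∈ R, ¬ Commute x r)
    (hcl : ∀ r ∈ R, ∀ s ∈ R, Commute x ⁅r, s⁆ ∧ ∀ t ∈ R, Commute t ⁅r, s⁆) :
    n + 1 = p ∧ (∃ k : ℕ, n = 2 ^ k) ∧ IsIrrCharacter G χ := by
  set X := R ⊔ Subgroup.zpowers x with hX
  have hxX : x ∈ X := Subgroup.mem_sup_right (Subgroup.mem_zpowers x)
  have hRX : R ≤ X := le_sup_left
  set R' := R.subgroupOf X with hR'
  set x' : X := ⟨x, hxX⟩ with hx'
  have hmapR : R'.map X.subtype = R := Subgroup.map_subgroupOf_eq_of_le hRX
  have hmapx : (Subgroup.zpowers x').map X.subtype = Subgroup.zpowers x := by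
    rw [MonoidHom.map_zpowers]; rfl
  have hle : X ≤ Subgroup.normalizer (R : Set G) :=
    sup_le Subgroup.le_normalizer (Subgroup.zpowers_le.2 hxn)
  haveI : R'.Normal := Subgroup.normal_subgroupOf_of_le_normalizer hle
  haveI : Fintype R' := Fintype.ofFinite R'
  haveI : Fintype X := Fintype.ofFinite X
  have hgen : R' ⊔ Subgroup.zpowers x' = ⊤ := by
    refine Subgroup.map_injective X.subtype_injective ?_
    rw [Subgroup.map_sup, hmapR, hmapx, ← MonoidHom.range_eq_map, Subgroup.range_subtype]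
  have hox' : orderOf x' = p ^ (k + 1) := by rw [← Subgroup.orderOf_coe]; exact hox
  have hcardR : Nat.card R' = Nat.card R := Nat.card_congr (Subgroup.subgroupOfEquivOfLe hRX).toEquiv
  obtain ⟨e, he⟩ := hR.exists_card_eq
  have hcop : (Nat.card R').Coprime p := by
    rw [hcardR, he]; exact Nat.Coprime.pow_left e ((Nat.coprime_primes Fact.out Fact.out).2 hqp)
  have hxp' : ∀ r ∈ R', Commute (x' ^ p) r := fun r hr => Subtype.ext (hxp r hr)
  have hRx' : ⁅R', Subgroup.zpowers x'⁆ = R' := by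
    refine Subgroup.map_injective X.subtype_injective ?_
    rw [Subgroup.map_commutator, hmapR, hmapx, hRx]
  have hcl' : ∀ r ∈ R', ∀ s ∈ R', ⁅r, s⁆ ∈ Subgroup.center X := by
    intro r hr s hs
    obtain ⟨h1, h2⟩ := hcl r hr s hs
    have h3 : X ≤ Subgroup.centralizer ({⁅(r : G), (s : G)⁆} : Set G) := sup_le
      (fun t ht => Subgroup.mem_centralizer_singleton_iff.2 (h2 t ht).eq)
      (Subgroup.zpowers_le.2 (Subgroup.mem_centralizer_singleton_iff.2 h1.eq))
    exact Subgroup.mem_center_iff.2 fun t => Subtype.ext (Subgroup.mem_centralizer_singleton_iff.1 (h3 t.2))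
  have hres : IsCharacter X (fun g : X => χ g) := IsCharacter.restrict hχ X
  obtain ⟨m, hm, -⟩ := IsCharacter.exists_decomp hres
  obtain ⟨r, hr, hrx⟩ := hne
  set c : X := ⁅(⟨r, hRX hr⟩ : X), x'⁆ with hc
  have hc1 : c ≠ 1 := fun h => hrx (commutatorElement_eq_one_iff_commute.1
    (congrArg Subtype.val h : ⁅r, x⁆ = 1)).symm
  -- a constituent on which `x` acts nontrivially
  obtain ⟨φ, hmφ, hφc⟩ : ∃ φ : IrrCharacter X, m φ ≠ 0 ∧ φ.1 c ≠ φ.1 1 := by
    by_contra! hall
    refine hc1 (Subtype.ext (hfaith c ?_))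
    have h1 := congrFun hm c
    have h2 := congrFun hm 1
    simp only [Finset.sum_apply, Pi.smul_apply, smul_eq_mul, Subgroup.coe_one] at h1 h2
    rw [h1, h2]
    refine Finset.sum_congr rfl fun ψ _ => ?_
    by_cases h : m ψ = 0
    · simp [h]
    · rw [hall ψ h]
  have hφn : m φ * degree φ ≤ n := by
    have h2 := congrFun hm 1
    simp only [Finset.sum_apply, Pi.smul_apply, smul_eq_mul, Subgroup.coe_one, hn, apply_one_eq_degree] at h2
    have h3 : n = ∑ ψ, m ψ * degree ψ := by exact_mod_cast h2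
    rw [h3]
    exact Finset.single_le_sum (f := fun ψ => m ψ * degree ψ) (fun _ _ => Nat.zero_le _) (Finset.mem_univ φ)
  obtain ⟨θ, hθ⟩ := exists_constituent R' φ
  obtain ⟨a, ha⟩ := IsCharacter.exists_nat_classInner
    (IsCharacter.restrict (irr_isCharacter φ) R') (irr_isCharacter θ)
  have ha' : classInner (resFun R' φ.1) θ.1 = (a : ℂ) := ha
  have ha0 : a ≠ 0 := fun h => hθ (by rw [ha', h, Nat.cast_zero])
  have hdeg := apply_one_eq_mul_card_orbit R' φ θ hθ
  rw [ha', apply_one_eq_degree, apply_one_eq_degree] at hdeg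
  have hdeg' : degree φ = a * ((orbitFinset R' θ).card * degree θ) := by exact_mod_cast hdeg
  have hdφ : degree φ ≤ n := le_trans (Nat.le_mul_of_pos_left _ (Nat.pos_of_ne_zero hmφ)) hφn
  -- invariance
  have hinv : conjFun R' θ.1 x' = θ.1 := by
    by_contra hninv
    have h1 : (inertia R' θ.1).index ∣ R'.index := Subgroup.index_dvd_of_le (irr_le_inertia R' θ)
    have h2 : R'.index ∣ p ^ (k + 1) := by
      rw [← hox', Subgroup.index_eq_card]
      have hs : Function.Surjective ((QuotientGroup.mk' R').comp (Subgroup.zpowers x').subtype) := by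
        intro g
        obtain ⟨g, rfl⟩ := QuotientGroup.mk'_surjective R' g
        obtain ⟨u, hu, y, hy, rfl⟩ := Subgroup.mem_sup_of_normal_left.1 (hgen ▸ Subgroup.mem_top g)
        exact ⟨⟨y, hy⟩, by simp [(QuotientGroup.eq_one_iff u).2 hu]⟩
      rw [← Nat.card_zpowers]
      exact Subgroup.card_dvd_of_surjective _ hs
    obtain ⟨i, -, hi⟩ := (Nat.dvd_prime_pow Fact.out).1 (h1.trans h2)
    rcases i with _ | i
    · have h3 := Subgroup.index_eq_one.1 (hi.trans (pow_zero p))
      exact hninv (show x' ∈ inertia R' θ.1 from h3 ▸ Subgroup.mem_top _)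
    · rw [index_inertia] at hi
      have h4 : p ≤ (orbitFinset R' θ).card := by
        rw [hi]; exact Nat.le_self_pow i.succ_ne_zero p
      have h5 : (orbitFinset R' θ).card ≤ degree φ := by
        rw [hdeg', mul_comm ((orbitFinset R' θ).card), ← mul_assoc]
        exact Nat.le_mul_of_pos_left _ (Nat.mul_pos (Nat.pos_of_ne_zero ha0) (Char.degree_pos θ))
      omega
  have hsq := degree_sq_eq_one_of_action p R' x' hgen k hox' hcop hxp' hRx' hcl' φ θ hθ hinv
  have horb : orbitFinset R' θ = {θ} := by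
    ext η
    rw [mem_orbitFinset, Finset.mem_singleton]
    have hall : ∀ g : X, conjFun R' θ.1 g = θ.1 := fun g => by
      have h : Subgroup.zpowers x' ⊔ R' ≤ inertia R' θ.1 :=
        sup_le (Subgroup.zpowers_le.2 hinv) (irr_le_inertia R' θ)
      exact h (by rw [sup_comm, hgen]; exact Subgroup.mem_top g)
    exact ⟨fun ⟨g, hg⟩ => hg.trans (Subtype.ext (hall g)),
      fun h => ⟨1, h.trans (Subtype.ext (conjFun_one R' θ.1).symm)⟩⟩
  rw [horb, Finset.card_singleton, one_mul] at hdeg'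
  set d := degree θ with hd
  have hd1 : d ≠ 1 := by
    intro h
    obtain ⟨l, hl⟩ := IsCharacter.exists_monoidHom (irr_isCharacter θ)
      (by rw [apply_one_eq_degree, ← hd, h, Nat.cast_one])
    have hcR : c ∈ R' := by
      rw [hc, commutatorElement_def, mul_assoc, mul_assoc, ← mul_assoc x']
      exact R'.mul_mem hr (‹R'.Normal›.conj_mem _ (R'.inv_mem hr) x')
    have h1 : l ⟨c, hcR⟩ = 1 := by
      have h2 := congrFun hinv (⟨⟨r, hRX hr⟩, hr⟩ : R')⁻¹
      simp only [conjFun] at h2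
      rw [← hl] at h2
      rw [show (⟨c, hcR⟩ : R') = (⟨⟨r, hRX hr⟩, hr⟩ : R') * MulAut.conjNormal x' (⟨⟨r, hRX hr⟩, hr⟩ : R')⁻¹ from
        Subtype.ext (by simp [hc, commutatorElement_def, mul_assoc]), map_mul, h2, ← map_mul, mul_inv_cancel,
        map_one]
    refine hφc ?_
    have h3 := congrFun (resFun_eq_smul_orbitSum R' φ θ hθ)
    have h4 := h3 ⟨c, hcR⟩
    have h5 := h3 1
    simp only [resFun_apply, Pi.smul_apply, orbitSum, horb, Finset.sum_singleton, smul_eq_mul,
      Subgroup.coe_one] at h4 h5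
    rw [h4, h5, ← hl, h1, map_one]
  have hdn : d ≤ degree φ := hdeg' ▸ Nat.le_mul_of_pos_left _ (Nat.pos_of_ne_zero ha0)
  have hp' : p = d + 1 := by
    have h1 : ((d : ZMod p) - 1) * ((d : ZMod p) + 1) = 0 := by linear_combination hsq
    have hdpos := Char.degree_pos θ
    rcases mul_eq_zero.1 h1 with h | h
    · have h' : ((d - 1 : ℕ) : ZMod p) = 0 := by rw [Nat.cast_sub hdpos, Nat.cast_one]; exact h
      rw [ZMod.natCast_eq_zero_iff] at h'
      rcases Nat.eq_zero_or_pos (d - 1) with h2 | h2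
      · omega
      · have := Nat.le_of_dvd h2 h'; omega
    · have h' : ((d + 1 : ℕ) : ZMod p) = 0 := by push_cast; exact h
      rw [ZMod.natCast_eq_zero_iff] at h'
      have := Nat.le_of_dvd (Nat.succ_pos d) h'; omega
  have hdn' : d = n := by omega
  refine ⟨by omega, ?_, ?_⟩
  · have h1 : d ∣ q ^ e := by
      have := degree_dvd_natCard θ
      rwa [hcardR, he] at this
    obtain ⟨j, -, hj⟩ := (Nat.dvd_prime_pow Fact.out).1 h1
    have h2 : 2 ∣ d := by
      obtain ⟨t, ht⟩ := (Fact.out : p.Prime).odd_of_ne_two hp2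
      exact ⟨t, by omega⟩
    have hq2 : q = 2 := ((Nat.prime_dvd_prime_iff_eq Nat.prime_two Fact.out).1
      (Nat.prime_two.dvd_of_dvd_pow (hj ▸ h2))).symm
    exact ⟨j, by rw [← hdn', hj, hq2]⟩
  · have hm1 : m φ = 1 := by
      have h6 : degree φ = n := le_antisymm hdφ (hdn'.symm.trans_le hdn)
      have h7 : 0 < n := lt_of_lt_of_eq (Char.degree_pos θ) hdn'
      rw [h6] at hφn
      have := Nat.le_of_mul_le_mul_right (show m φ * n ≤ 1 * n by simpa using hφn) h7
      omega
    refine isIrr_of_restrict hχ X φ ?_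
    rw [hm, Finset.sum_eq_single φ (fun ψ _ hne => ?_) (fun h => absurd (Finset.mem_univ _) h), hm1,
      Nat.cast_one, one_smul]
    have h2 := congrFun hm 1
    simp only [Finset.sum_apply, Pi.smul_apply, smul_eq_mul, Subgroup.coe_one, hn, apply_one_eq_degree] at h2
    have h3 : n = ∑ ψ, m ψ * degree ψ := by exact_mod_cast h2
    have h4 := Finset.add_le_sum (f := fun ψ => m ψ * degree ψ) (fun _ _ => Nat.zero_le _)
      (Finset.mem_univ φ) (Finset.mem_univ ψ) (Ne.symm hne)
    rw [← h3, hm1, one_mul] at h4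
    have h5 : m ψ * degree ψ = 0 := by omega
    rw [(Nat.mul_eq_zero.1 h5).resolve_right (Char.degree_pos ψ).ne', Nat.cast_zero, zero_smul]

/-- Let the finite p-solvable group G have a faithful character χ of degree n ≤ p − 1 and suppose that a Sylow p-subgroup of G is not normal. Then n = p − 1, n is a power of 2, and χ is irreducible. -/
theorem result {G : Type*} [Group G] [Finite G] (χ : G → ℂ) (hχ : Cfsg.IsCharacter G χ) (hfaith : ∀ g : G, χ g = χ 1 → g = 1) (n : ℕ) (hn : Cfsg.charDegree χ = n) (p : ℕ) (hp : p.Prime) (hsolv : Cfsg.IsPSolvable p G) (hnp : n + 1 ≤ p) (P : Sylow p G) (hP : ¬ (P : Subgroup G).Normal) : n + 1 = p ∧ (∃ k : ℕ, n = 2 ^ k) ∧ Cfsg.IsIrrCharacter G χ := by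
  haveI := Fintype.ofFinite G
  haveI := Fact.mk hp
  have hn' : χ 1 = n := by
    obtain ⟨m, hm⟩ := CharInt.exists_degree hχ
    rw [hm, ← hn]
    simp [charDegree, hm]
  have hp2 : p ≠ 2 := by
    rintro rfl
    refine hP ?_
    have hab : ∀ a b : G, a * b = b * a := by
      intro a b
      rcases Nat.eq_zero_or_pos n with h0 | hpos
      · have h1 : ∀ g : G, g = 1 := fun g => hfaith g (by
          have h1 := CharInt.norm_char_le hχ g
          rw [hn', h0, Nat.cast_zero, norm_zero] at h1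
          rw [hn', h0, Nat.cast_zero, norm_le_zero_iff.1 h1])
        rw [h1 a, h1 b]
      obtain ⟨l, hl⟩ := IsCharacter.exists_monoidHom hχ (by rw [hn', show n = 1 by omega, Nat.cast_one])
      refine commutatorElement_eq_one_iff_commute.1 (hfaith _ ?_)
      rw [← hl, commutatorElement_def, map_mul, map_mul, map_mul,
        show l a * l b * l a⁻¹ * l b⁻¹ = (l a * l a⁻¹) * (l b * l b⁻¹) by ring, ← map_mul, ← map_mul,
        mul_inv_cancel, mul_inv_cancel, map_one, mul_one]
    exact ⟨fun a ha g => by rwa [hab g a, mul_inv_cancel_right]⟩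
  obtain ⟨q, R₀, x₀, hq, hqp, hR₀, hx₀, hn₀, hne₀⟩ := exists_noncentral_action p hsolv P hP
  haveI := Fact.mk hq
  obtain ⟨R, x, k, hle, -, hox, hxn, hxp, hRx, hne, hcl⟩ := exists_reduced_action p hqp hR₀ hx₀ hn₀ hne₀
  exact main p hχ hfaith n hn' hnp hp2 hqp R x k (hR₀.to_le hle) hox hxn hxp hRx hne hcl

end Cfsg.Agent.S4468
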