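import Cfsg.Statements.S4470
import Cfsg.Agent.Lib.Char.Linear
import Cfsg.Agent.Lib.Char.Multiplicity
import Cfsg.Agent.Lib.CharInt.Eigen
import Mathlib.Analysis.CStarAlgebra.Spectrum
import Mathlib.Analysis.CStarAlgebra.ContinuousLinearMap
import Mathlib.Analysis.InnerProductSpace.PiL2
import Mathlib.Analysis.InnerProductSpace.Adjoint
import Mathlib.Analysis.SpecialFunctions.Complex.Arg

set_option autoImplicit false
open Cfsg

namespace Cfsg.Agent.S4470

open scoped ComplexConjugate InnerProductSpace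

section Analysis

variable {G : Type*} [Group G] [Finite G] {E : Type*} [NormedAddCommGroup E] [InnerProductSpace ℂ E]
  [FiniteDimensional ℂ E] (R : G →* (E →L[ℂ] E))

/-- The constant `√3 / 2`. -/
noncomputable def cc : ℝ := Real.sqrt 3 / 2

theorem half_lt_cc : 1 / 2 < cc := by
  have h : (1 : ℝ) < Real.sqrt 3 := by
    rw [Real.lt_sqrt zero_le_one]; norm_num
  unfold cc; linarith

/-- `g` is close to the scalar `√3 / 2`. -/
def IsSmallElt (g : G) : Prop := ‖R g - (cc : ℂ) • (1 : E →L[ℂ] E)‖ < 1 / 2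

variable (hiso : ∀ g v, ‖R g v‖ = ‖v‖) (hinj : Function.Injective R)

include hiso in
theorem norm_R_le (g : G) : ‖R g‖ ≤ 1 :=
  ContinuousLinearMap.opNorm_le_bound _ zero_le_one fun v => by simp [hiso]

include hiso in
theorem inner_R (g : G) (u v : E) : ⟪R g u, R g v⟫_ℂ = ⟪u, v⟫_ℂ :=
  (LinearMap.norm_map_iff_inner_map_map (R g : E →ₗ[ℂ] E)).1 (hiso g) u v

theorem R_apply_inv (g : G) (v : E) : R g (R g⁻¹ v) = v := by
  have h : (R g * R g⁻¹) v = v := by rw [← map_mul, mul_inv_cancel, map_one]; rfl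
  simpa using h

include hiso in
theorem norm_conj_le (x : G) (A : E →L[ℂ] E) : ‖R x * A * R x⁻¹‖ ≤ ‖A‖ := by
  calc ‖R x * A * R x⁻¹‖ ≤ ‖R x * A‖ * ‖R x⁻¹‖ := norm_mul_le _ _
    _ ≤ (‖R x‖ * ‖A‖) * ‖R x⁻¹‖ := by gcongr; exact norm_mul_le _ _
    _ ≤ (1 * ‖A‖) * 1 := by gcongr <;> exact norm_R_le R hiso _
    _ = ‖A‖ := by ring

include hiso in
theorem isSmallElt_conj {x : G} (h : IsSmallElt R x) (g : G) : IsSmallElt R (g * x * g⁻¹) := by
  refine lt_of_le_of_lt ?_ h
  have e : R (g * x * g⁻¹) - (cc : ℂ) • (1 : E →L[ℂ] E) =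
      R g * (R x - (cc : ℂ) • (1 : E →L[ℂ] E)) * R g⁻¹ := by
    simp only [mul_sub, sub_mul, mul_smul_comm, smul_mul_assoc, mul_one, ← map_mul,
      mul_inv_cancel, map_one]
  rw [e]; exact norm_conj_le R hiso g _

include hiso in
/-- The commutator with a small element contracts. -/
theorem norm_comm_le (x z : G) (a : ℂ) :
    ‖R (x * z * x⁻¹ * z⁻¹) - 1‖ ≤
      2 * ‖R x - (cc : ℂ) • (1 : E →L[ℂ] E)‖ * ‖R z - a • (1 : E →L[ℂ] E)‖ := by
  set A := R x - (cc : ℂ) • (1 : E →L[ℂ] E) with hA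
  set B := R z - a • (1 : E →L[ℂ] E) with hB
  have e : R (x * z * x⁻¹ * z⁻¹) - 1 = (A * B - B * A) * R (x⁻¹ * z⁻¹) := by
    have e1 : A * B - B * A = R (x * z) - R (z * x) := by
      simp only [hA, hB, mul_sub, sub_mul, mul_smul_comm, smul_mul_assoc, mul_one, one_mul,
        smul_sub, smul_smul, map_mul, mul_comm a]
      abel
    rw [e1, sub_mul, ← map_mul, ← map_mul]
    congr 1
    · congr 1; group
    · rw [show z * x * (x⁻¹ * z⁻¹) = 1 by group, map_one]
  rw [e]
  calc ‖(A * B - B * A) * R (x⁻¹ * z⁻¹)‖ ≤ ‖A * B - B * A‖ * ‖R (x⁻¹ * z⁻¹)‖ := norm_mul_le _ _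
    _ ≤ (‖A * B‖ + ‖B * A‖) * 1 := by
        gcongr
        · exact norm_sub_le _ _
        · exact norm_R_le R hiso _
    _ ≤ (‖A‖ * ‖B‖ + ‖B‖ * ‖A‖) * 1 := by gcongr <;> exact norm_mul_le _ _
    _ = 2 * ‖A‖ * ‖B‖ := by ring

include hiso hinj in
/-- Frobenius' lemma. -/
theorem commute_of_commute_conj (x z : G) (a : ℝ) (ha : 0 < a)
    (hz : ‖R z - (a : ℂ) • (1 : E →L[ℂ] E)‖ < a) (h : Commute x (z * x * z⁻¹)) :
    Commute x z := by
  by_contra hne
  set w := z * x * z⁻¹ with hw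
  set d := x⁻¹ * w with hd
  have hd1 : d ≠ 1 := by
    intro h1
    refine hne ?_
    have : w = x := by rw [hd, inv_mul_eq_one] at h1; exact h1.symm
    rw [hw, mul_inv_eq_iff_eq_mul] at this
    exact this.symm
  obtain ⟨ι, hfin, b, μ, hb, hμ⟩ : ∃ (ι : Type) (_ : Fintype ι) (b : Module.Basis ι ℂ E) (μ : ι → ℂ),
      (∀ i, (R d : E →ₗ[ℂ] E) (b i) = μ i • b i) ∧ ∃ i, μ i ≠ 1 := by
    have hpow : ((R d : E →ₗ[ℂ] E)) ^ Nat.card G = 1 := by
      have h1 : (R d) ^ Nat.card G = 1 := by rw [← map_pow, pow_card_eq_one', map_one]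
      ext v
      have h2 := congrArg (fun f : E →L[ℂ] E => f v) h1
      simpa [ContinuousLinearMap.coe_pow', Module.End.coe_pow] using h2
    obtain ⟨b, μ, -, hb⟩ := CharInt.exists_eigenbasis Nat.card_pos.ne' hpow
    refine ⟨_, inferInstance, b, μ, hb, ?_⟩
    by_contra hall
    push Not at hall
    refine hd1 (hinj ?_)
    rw [map_one]
    have h3 := CharInt.eq_smul_one_of_eigenbasis b hb (c := 1) hall
    ext v
    have h4 := congrArg (fun f : E →ₗ[ℂ] E => f v) h3
    simpa using h4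
  obtain ⟨i, hi⟩ := hμ
  let W : Submodule ℂ E := Module.End.eigenspace (R d : E →ₗ[ℂ] E) (μ i)
  have hWne : Nontrivial W := by
    refine ⟨⟨⟨b i, ?_⟩, 0, ?_⟩⟩
    · exact Module.End.mem_eigenspace_iff.2 (hb i)
    · exact fun h0 => b.ne_zero i (congrArg Subtype.val h0)
  have hxd : Commute x d := (Commute.refl x).inv_right.mul_right h
  have hWinv : ∀ v ∈ W, (R x : E →ₗ[ℂ] E) v ∈ W := by
    intro v hv
    rw [Module.End.mem_eigenspace_iff] at hv ⊢
    have h1 : (R d * R x) v = (R x * R d) v := by rw [← map_mul, ← map_mul, hxd.eq]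
    simp only [ContinuousLinearMap.coe_coe, ContinuousLinearMap.mul_apply] at h1 hv ⊢
    rw [h1, hv, map_smul]
  obtain ⟨α, hα⟩ := Module.End.exists_eigenvalue ((R x : E →ₗ[ℂ] E).restrict hWinv)
  obtain ⟨⟨v, hvW⟩, hv⟩ := hα.exists_hasEigenvector
  have hv0 : v ≠ 0 := fun h0 => hv.2 (Subtype.ext h0)
  have hxv : R x v = α • v := congrArg Subtype.val hv.apply_eq_smul
  have hdv : R d v = μ i • v := Module.End.mem_eigenspace_iff.1 hvW
  have hwv : R w v = (α * μ i) • v := by
    have : R w = R x * R d := by rw [← map_mul, hd, mul_inv_cancel_left]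
    rw [this, ContinuousLinearMap.mul_apply, hdv, map_smul, hxv, smul_smul, mul_comm]
  have hwz : R w (R z v) = α • R z v := by
    have h1 : (R w * R z) v = (R z * R x) v := by
      rw [← map_mul, ← map_mul]; congr 2; rw [hw]; group
    simpa [hxv] using h1
  have horth : ⟪v, R z v⟫_ℂ = 0 := by
    have h1 := inner_R R hiso w v (R z v)
    rw [hwv, hwz, inner_smul_left, inner_smul_right] at h1
    have hα1 : ‖α‖ = 1 := by
      have := hiso x v
      rw [hxv, norm_smul] at this
      exact (mul_eq_right₀ (norm_ne_zero_iff.2 hv0)).1 this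
    have hαα : conj α * α = 1 := by
      rw [mul_comm, Complex.mul_conj', hα1]; norm_num
    have h2 : (conj (μ i) - 1) * ⟪v, R z v⟫_ℂ = 0 := by
      rw [map_mul] at h1
      linear_combination h1 - conj (μ i) * ⟪v, R z v⟫_ℂ * hαα
    refine (mul_eq_zero.1 h2).resolve_left fun h3 => hi ?_
    have := congrArg conj (sub_eq_zero.1 h3)
    simpa using this
  have h1 : ⟪v, (R z - (a : ℂ) • (1 : E →L[ℂ] E)) v⟫_ℂ = -((a : ℂ) * ((‖v‖ : ℂ) ^ 2)) := by
    simp [inner_sub_right, horth, inner_smul_right, inner_self_eq_norm_sq_to_K]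
  have h2 := norm_inner_le_norm (𝕜 := ℂ) v ((R z - (a : ℂ) • (1 : E →L[ℂ] E)) v)
  rw [h1, norm_neg, norm_mul, norm_pow, Complex.norm_real, Complex.norm_real,
    Real.norm_of_nonneg ha.le, norm_norm] at h2
  have h3 := (h2.trans (mul_le_mul_of_nonneg_left
    ((R z - (a : ℂ) • (1 : E →L[ℂ] E)).le_opNorm v) (norm_nonneg v)))
  have hvp : 0 < ‖v‖ ^ 2 := by positivity
  nlinarith

include hiso hinj in
/-- Two small elements commute. -/
theorem commute_of_isSmallElt {x y : G} (hx : IsSmallElt R x) (hy : IsSmallElt R y) :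
    Commute x y := by
  classical
  haveI := Fintype.ofFinite G
  let z : ℕ → G := fun k => Nat.rec y (fun _ w => x * w * x⁻¹ * w⁻¹) k
  have hz0 : z 0 = y := rfl
  have hzs : ∀ k, z (k + 1) = x * z k * x⁻¹ * (z k)⁻¹ := fun k => rfl
  set r := ‖R x - (cc : ℂ) • (1 : E →L[ℂ] E)‖ with hr
  have hr0 : 0 ≤ r := norm_nonneg _
  have hr2 : 2 * r < 1 := by unfold IsSmallElt at hx; linarith
  have hbound : ∀ k, ‖R (z (k + 1)) - 1‖ ≤ (2 * r) ^ k * (1 / 2) := by
    intro k
    induction k with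
    | zero =>
      rw [hzs, hz0, pow_zero, one_mul]
      refine (norm_comm_le R hiso x y (cc : ℂ)).trans ?_
      unfold IsSmallElt at hy
      rw [← hr]
      nlinarith [norm_nonneg (R y - (cc : ℂ) • (1 : E →L[ℂ] E))]
    | succ k ih =>
      rw [hzs (k + 1)]
      refine (norm_comm_le R hiso x (z (k + 1)) 1).trans ?_
      rw [one_smul, pow_succ', ← hr]
      calc 2 * r * ‖R (z (k + 1)) - 1‖ ≤ 2 * r * ((2 * r) ^ k * (1 / 2)) :=
            mul_le_mul_of_nonneg_left ih (by positivity)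
        _ = 2 * r * (2 * r) ^ k * (1 / 2) := by ring
  -- the sequence reaches `1`
  obtain ⟨K, hK⟩ : ∃ K, z (K + 1) = 1 := by
    by_contra hno
    push Not at hno
    obtain ⟨g₀, hg₀, hmin⟩ := (Finset.univ.filter fun g : G => g ≠ 1).exists_min_image
      (fun g => ‖R g - 1‖) ⟨z 1, Finset.mem_filter.2 ⟨Finset.mem_univ _, hno 0⟩⟩
    have hpos : 0 < ‖R g₀ - 1‖ := by
      rw [norm_pos_iff, sub_ne_zero]
      exact fun h => (Finset.mem_filter.1 hg₀).2 (hinj (by rw [h, map_one]))
    obtain ⟨k, hk⟩ := exists_pow_lt_of_lt_one (mul_pos hpos two_pos) hr2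
    have := hmin (z (k + 1)) (Finset.mem_filter.2 ⟨Finset.mem_univ _, hno k⟩)
    have := hbound k
    linarith
  -- descend
  have hdown : ∀ k, z (k + 1) = 1 → z 1 = 1 := by
    intro k
    induction k with
    | zero => exact id
    | succ k ih =>
      intro h
      refine ih ?_
      -- `x` commutes with `z (k + 1) = [x, z k]`
      have hc : Commute x (z (k + 1)) := by
        rw [hzs (k + 1), mul_inv_eq_one, mul_inv_eq_iff_eq_mul] at h
        exact h
      have hzk : z (k + 1) = x * (z k * x⁻¹ * (z k)⁻¹) := by rw [hzs]; group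
      have hc' : Commute x (z k * x * (z k)⁻¹) := by
        have h1 : Commute x (z k * x⁻¹ * (z k)⁻¹) := by
          have h2 := (Commute.refl x).inv_right.mul_right hc
          rwa [hzk, inv_mul_cancel_left] at h2
        have h2 := h1.inv_right
        rwa [show (z k * x⁻¹ * (z k)⁻¹)⁻¹ = z k * x * (z k)⁻¹ by group] at h2
      have hcomm : Commute x (z k) := by
        rcases k with _ | j
        · refine commute_of_commute_conj R hiso hinj x _ cc (by linarith [half_lt_cc]) ?_ hc'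
          rw [hz0]
          unfold IsSmallElt at hy
          linarith [half_lt_cc]
        · refine commute_of_commute_conj R hiso hinj x _ 1 one_pos ?_ hc'
          have h1 := hbound j
          have h2 : (2 * r) ^ j ≤ 1 := pow_le_one₀ (by positivity) hr2.le
          rw [Complex.ofReal_one, one_smul]
          linarith
      rw [hzs, hcomm.eq, mul_inv_cancel_right, mul_inv_cancel]
  have h1 := hdown K hK
  rw [show z 1 = _ from hzs 0, hz0, mul_inv_eq_one, mul_inv_eq_iff_eq_mul] at h1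
  exact h1

include hiso in
/-- An element whose eigenvalues are close to `√3/2` is small. -/
theorem isSmallElt_of_eigenvalues (g : G) (s : Finset ℂ)
    (hs : ∀ μ ∈ s, ‖μ - (cc : ℂ)‖ < 1 / 2)
    (he : ∀ μ : ℂ, ∀ v : E, v ≠ 0 → R g v = μ • v → μ ∈ s) : IsSmallElt R g := by
  haveI : CompleteSpace E := FiniteDimensional.complete ℂ E
  unfold IsSmallElt
  have hstar : star (R g) = R g⁻¹ := by
    rw [ContinuousLinearMap.star_eq_adjoint]
    refine ((ContinuousLinearMap.eq_adjoint_iff _ _).2 fun u v => ?_).symm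
    rw [← inner_R R hiso g (R g⁻¹ u) v, R_apply_inv]
  haveI hnormal : IsStarNormal (R g - (cc : ℂ) • (1 : E →L[ℂ] E)) := by
    refine ⟨?_⟩
    rw [star_sub, star_smul, star_one, hstar]
    have h1 : Commute (R g⁻¹) (R g) := by
      show R g⁻¹ * R g = R g * R g⁻¹
      rw [← map_mul, ← map_mul, inv_mul_cancel, mul_inv_cancel]
    exact (h1.sub_right ((Commute.one_right _).smul_right _)).sub_left
      (((Commute.one_left _).smul_left _))
  obtain ⟨r, hr0, hr, hrs⟩ : ∃ r : NNReal, 0 ≤ r ∧ r < 1 / 2 ∧ ∀ μ ∈ s, ‖μ - (cc : ℂ)‖₊ ≤ r := by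
    refine ⟨s.sup fun μ => ‖μ - (cc : ℂ)‖₊, zero_le, (Finset.sup_lt_iff (by norm_num)).2 ?_,
      fun μ hμ => Finset.le_sup (f := fun μ => ‖μ - (cc : ℂ)‖₊) hμ⟩
    intro μ hμ
    have := hs μ hμ
    rw [← NNReal.coe_lt_coe]
    push_cast
    exact this
  have h1 := IsStarNormal.spectralRadius_eq_nnnorm (R g - (cc : ℂ) • (1 : E →L[ℂ] E))
  have h2 : spectralRadius ℂ (R g - (cc : ℂ) • (1 : E →L[ℂ] E)) ≤ (r : ENNReal) := by
    refine iSup₂_le fun k hk => ENNReal.coe_le_coe.2 ?_
    have hk' : ¬ Function.Bijective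
        (algebraMap ℂ (E →L[ℂ] E) k - (R g - (cc : ℂ) • (1 : E →L[ℂ] E))) := fun hb =>
      spectrum.mem_iff.1 hk (ContinuousLinearMap.isUnit_iff_bijective.2 hb)
    have hinj' : ¬ Function.Injective
        ((algebraMap ℂ (E →L[ℂ] E) k - (R g - (cc : ℂ) • (1 : E →L[ℂ] E)) : E →L[ℂ] E) :
          E →ₗ[ℂ] E) := fun hi => hk' ⟨hi, LinearMap.injective_iff_surjective.1 hi⟩
    rw [← LinearMap.ker_eq_bot] at hinj'
    obtain ⟨v, hv, hv0⟩ := (Submodule.ne_bot_iff _).1 hinj'
    have hv' : R g v = (k + cc) • v := by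
      simp [Algebra.algebraMap_eq_smul_one, sub_eq_zero] at hv
      rw [add_smul, hv, Complex.coe_smul, sub_add_cancel]
    have := hrs _ (he _ v hv0 hv')
    simpa using this
  rw [h1, ENNReal.coe_le_coe] at h2
  calc ‖R g - (cc : ℂ) • (1 : E →L[ℂ] E)‖ ≤ (r : ℝ) := NNReal.coe_le_coe.2 h2
    _ < 1 / 2 := by exact_mod_cast hr

end Analysis

/-- The twelve boxes on the circle. -/
noncomputable def box (w : ℂ) : ℤ := ⌊(Complex.arg w + Real.pi) * (6 / Real.pi)⌋ % 12

theorem norm_inv_mul_sub_lt {a b : ℂ} (ha : ‖a‖ = 1) (hb : ‖b‖ = 1) (h : box a = box b) :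
    ‖a⁻¹ * b - (cc : ℂ)‖ < 1 / 2 := by
  have hpi := Real.pi_pos
  have hbd : ∀ w : ℂ, ∃ n : ℤ, box w = n % 12 ∧ 0 ≤ n ∧ n ≤ 12 ∧
      (n : ℝ) ≤ (Complex.arg w + Real.pi) * (6 / Real.pi) ∧
      (Complex.arg w + Real.pi) * (6 / Real.pi) < n + 1 ∧
      (n = 12 → Complex.arg w = Real.pi) := by
    intro w
    refine ⟨_, rfl, ?_, ?_, Int.floor_le _, Int.lt_floor_add_one _, ?_⟩
    · exact Int.floor_nonneg.2 (mul_nonneg (by linarith [Complex.neg_pi_lt_arg w]) (by positivity))
    · refine Int.le_of_lt_add_one (Int.floor_lt.2 ?_)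
      have : (Complex.arg w + Real.pi) * (6 / Real.pi) ≤ 12 := by
        calc _ ≤ (Real.pi + Real.pi) * (6 / Real.pi) := by
              gcongr; exact Complex.arg_le_pi w
          _ = 12 := by field_simp; ring
      push_cast; linarith
    · intro h12
      refine le_antisymm (Complex.arg_le_pi w) ?_
      have := Int.floor_le ((Complex.arg w + Real.pi) * (6 / Real.pi))
      rw [h12] at this
      push_cast at this
      have h2 : (Complex.arg w + Real.pi) * (6 / Real.pi) * (Real.pi / 6) =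
          Complex.arg w + Real.pi := by field_simp
      nlinarith
  obtain ⟨m, hm, hm0, hm12, hml, hmu, hmp⟩ := hbd a
  obtain ⟨n, hn, hn0, hn12, hnl, hnu, hnp⟩ := hbd b
  rw [h, hn] at hm
  -- the angle between `a` and `b`
  obtain ⟨θ, hθ, hcos⟩ : ∃ θ : ℝ, |θ| < Real.pi / 6 ∧
      Real.cos θ = Real.cos (Complex.arg b - Complex.arg a) := by
    have e : ∀ u v : ℝ, |u * (6 / Real.pi) - v * (6 / Real.pi)| < 1 → |u - v| < Real.pi / 6 := by
      intro u v huv
      rw [← sub_mul, abs_mul, abs_of_pos (by positivity : (0 : ℝ) < 6 / Real.pi)] at huv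
      have h2 : |u - v| * (6 / Real.pi) * (Real.pi / 6) = |u - v| := by field_simp
      nlinarith
    rcases eq_or_ne m n with hmn | hmn
    · refine ⟨_, ?_, rfl⟩
      rw [hmn] at hml hmu
      have := e (Complex.arg b + Real.pi) (Complex.arg a + Real.pi)
        (abs_lt.2 ⟨by linarith, by linarith⟩)
      simpa using this
    · have hc : (m = 0 ∧ n = 12) ∨ (m = 12 ∧ n = 0) := by omega
      rcases hc with ⟨hm', hn'⟩ | ⟨hm', hn'⟩
      · refine ⟨Complex.arg b - Complex.arg a - 2 * Real.pi, ?_, Real.cos_sub_two_pi _⟩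
        rw [hm'] at hml hmu
        push_cast at hml hmu
        have h2 := e (Complex.arg a + Real.pi) 0 (abs_lt.2 ⟨by linarith, by linarith⟩)
        rw [hnp hn']
        rw [sub_zero] at h2
        rw [show Real.pi - Complex.arg a - 2 * Real.pi = -(Complex.arg a + Real.pi) by ring, abs_neg]
        exact h2
      · refine ⟨Complex.arg b - Complex.arg a + 2 * Real.pi, ?_, Real.cos_add_two_pi _⟩
        rw [hn'] at hnl hnu
        push_cast at hnl hnu
        have h2 := e (Complex.arg b + Real.pi) 0 (abs_lt.2 ⟨by linarith, by linarith⟩)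
        rw [hmp hm']
        rw [sub_zero] at h2
        rw [show Complex.arg b - Real.pi + 2 * Real.pi = Complex.arg b + Real.pi by ring]
        exact h2
  have hcc : cc < Real.cos θ := by
    rw [← Real.cos_abs θ, show cc = Real.cos (Real.pi / 6) from Real.cos_pi_div_six.symm]
    exact Real.cos_lt_cos_of_nonneg_of_le_pi_div_two (abs_nonneg _) (by linarith) hθ
  have hw : a⁻¹ * b = Complex.exp (((Complex.arg b - Complex.arg a : ℝ) : ℂ) * Complex.I) := by
    have ea := Complex.norm_mul_exp_arg_mul_I a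
    have eb := Complex.norm_mul_exp_arg_mul_I b
    rw [ha, Complex.ofReal_one, one_mul] at ea
    rw [hb, Complex.ofReal_one, one_mul] at eb
    rw [Complex.ofReal_sub, sub_mul, Complex.exp_sub, ea, eb, div_eq_inv_mul]
  have hsq : ‖a⁻¹ * b - (cc : ℂ)‖ ^ 2 < (1 / 2) ^ 2 := by
    rw [hw, Complex.sq_norm, Complex.normSq_apply]
    simp only [Complex.sub_re, Complex.sub_im, Complex.exp_ofReal_mul_I_re,
      Complex.exp_ofReal_mul_I_im, Complex.ofReal_re, Complex.ofReal_im, sub_zero]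
    rw [← hcos]
    have h3 : cc ^ 2 = 3 / 4 := by
      unfold cc; rw [div_pow, Real.sq_sqrt (by norm_num)]; norm_num
    have h4 := Real.sin_sq_add_cos_sq (Complex.arg b - Complex.arg a)
    rw [← hcos] at h4
    nlinarith [half_lt_cc]
  exact lt_of_pow_lt_pow_left₀ 2 (by norm_num) hsq

open Classical in
/-- A representation is unitary in a suitable inner product. -/
theorem exists_isometric {G : Type*} [Group G] [Fintype G] {n : ℕ}
    (ρ : Representation ℂ G (Fin n → ℂ)) :
    ∃ (k : ℕ) (R : G →* (EuclideanSpace ℂ (Fin k) →L[ℂ] EuclideanSpace ℂ (Fin k)))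
      (e : (Fin n → ℂ) ≃ₗ[ℂ] EuclideanSpace ℂ (Fin k)),
      (∀ g v, ‖R g v‖ = ‖v‖) ∧ ∀ g v, R g (e v) = e (ρ g v) := by
  let Φ : (Fin n → ℂ) →ₗ[ℂ] EuclideanSpace ℂ (G × Fin n) :=
    { toFun := fun v => WithLp.toLp 2 fun gi => ρ gi.1 v gi.2
      map_add' := fun u v => by ext gi; simp
      map_smul' := fun c v => by ext gi; simp }
  have hΦ : Function.Injective Φ := by
    intro u v h
    funext i
    have := congrArg (fun f : EuclideanSpace ℂ (G × Fin n) => f (1, i)) h
    simpa [Φ] using this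
  let o := stdOrthonormalBasis ℂ (LinearMap.range Φ)
  obtain ⟨e, he⟩ : ∃ e : (Fin n → ℂ) ≃ₗ[ℂ]
      EuclideanSpace ℂ (Fin (Module.finrank ℂ (LinearMap.range Φ))), ∀ u, ‖e u‖ = ‖Φ u‖ :=
    ⟨(LinearEquiv.ofInjective Φ hΦ).trans o.repr.toLinearEquiv, fun u =>
      o.repr.norm_map (LinearEquiv.ofInjective Φ hΦ u)⟩
  let R : G →* (EuclideanSpace ℂ (Fin (Module.finrank ℂ (LinearMap.range Φ))) →L[ℂ]
      EuclideanSpace ℂ (Fin (Module.finrank ℂ (LinearMap.range Φ)))) :=
    { toFun := fun g => LinearMap.toContinuousLinearMap (e.conj (ρ g))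
      map_one' := by
        refine ContinuousLinearMap.ext fun v => ?_
        show e (ρ 1 (e.symm v)) = v
        simp
      map_mul' := fun g h => by
        refine ContinuousLinearMap.ext fun v => ?_
        show e (ρ (g * h) (e.symm v)) = e (ρ g (e.symm (e (ρ h (e.symm v)))))
        simp [map_mul] }
  have hR : ∀ g v, R g (e v) = e (ρ g v) := fun g v => by
    show e (ρ g (e.symm (e v))) = e (ρ g v)
    simp
  refine ⟨_, R, e, fun g v => ?_, hR⟩
  obtain ⟨u, rfl⟩ := e.surjective v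
  rw [hR, he, he, ← sq_eq_sq₀ (norm_nonneg _) (norm_nonneg _), EuclideanSpace.norm_sq_eq,
    EuclideanSpace.norm_sq_eq]
  refine Fintype.sum_equiv ((Equiv.mulRight g).prodCongr (Equiv.refl _)) _ _ fun gi => ?_
  simp [Φ, map_mul]

open Classical in
/-- Linear constituents of a character of an abelian group. -/
theorem exists_linear_decomp.{uH} {H : Type uH} [Group H] [Fintype H] (hH : ∀ a b : H, a * b = b * a)
    {ψ : H → ℂ} (hψ : Cfsg.IsCharacter H ψ) :
    ∃ (ι : Type uH) (_ : Fintype ι) (lam : ι → H →* ℂ), (Fintype.card ι : ℂ) = ψ 1 ∧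
      ∀ x, ψ x = ∑ i, lam i x := by
  obtain ⟨m, hm, -⟩ := Char.IsCharacter.exists_decomp hψ
  choose lam hlam using fun χ : Cfsg.IrrCharacter H =>
    Char.IsCharacter.exists_monoidHom (Char.irr_isCharacter χ)
      (Char.forall_apply_one_iff_comm.2 hH χ)
  refine ⟨Σ χ : Cfsg.IrrCharacter H, Fin (m χ), inferInstance, fun i => lam i.1, ?_, fun x => ?_⟩
  · rw [hm, Finset.sum_apply, Fintype.card_sigma]
    simp [Char.forall_apply_one_iff_comm.2 hH]
  · rw [hm, Finset.sum_apply, Fintype.sum_sigma]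
    simp [hlam]

open Classical in
/-- The eigenvalues of `x` are values of the linear constituents. -/
theorem eigenvalue_mem {H : Type*} [Group H] [Fintype H] {V : Type*} [AddCommGroup V] [Module ℂ V]
    [FiniteDimensional ℂ V] (σ : Representation ℂ H V) {ι : Type*} [Fintype ι] (lam : ι → H →* ℂ)
    (hσ : ∀ x, σ.character x = ∑ i, lam i x) (x : H) (μ : ℂ) (v : V) (hv : v ≠ 0)
    (he : σ x v = μ • v) : ∃ i, lam i x = μ := by
  let D : Representation ℂ H (ι → ℂ) :=
    { toFun := fun h => LinearMap.pi fun i => lam i h • LinearMap.proj i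
      map_one' := LinearMap.ext fun w => funext fun i => by simp
      map_mul' := fun a b => LinearMap.ext fun w => funext fun i => by simp [mul_assoc] }
  have hD : σ.character = D.character := by
    funext h
    rw [hσ]
    show _ = LinearMap.trace ℂ (ι → ℂ) (D h)
    rw [LinearMap.trace_eq_matrix_trace ℂ (Pi.basisFun ℂ ι), Matrix.trace]
    refine Finset.sum_congr rfl fun i _ => ?_
    simp [D, LinearMap.toMatrix_apply, Matrix.diag]
  obtain ⟨L⟩ := Char.nonempty_equiv_of_character_eq σ D hD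
  have h1 : D x (L v) = μ • L v := by
    have h2 : L (σ x v) = D x (L v) :=
      congrFun (congrArg DFunLike.coe (L.toIntertwiningMap.isIntertwining' x)) v
    rw [he] at h2
    rw [← h2]
    exact L.toLinearEquiv.map_smul μ v
  have h2 : L v ≠ 0 := fun h0 => hv (L.toLinearEquiv.map_eq_zero_iff.1 h0)
  obtain ⟨i, hi⟩ := Function.ne_iff.1 h2
  refine ⟨i, mul_right_cancel₀ hi ?_⟩
  have := congrFun h1 i
  simpa [D] using this

/-- The statement for an isometric model of the representation. -/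
theorem main_aux {G : Type*} [Group G] [Fintype G] {d : ℕ} (ρ : Representation ℂ G (Fin d → ℂ))
    {E : Type*} [NormedAddCommGroup E] [InnerProductSpace ℂ E] [FiniteDimensional ℂ E]
    (R : G →* (E →L[ℂ] E)) (e : (Fin d → ℂ) ≃ₗ[ℂ] E) (hiso : ∀ g v, ‖R g v‖ = ‖v‖)
    (hR : ∀ g v, R g (e v) = e (ρ g v)) (hfaith : ∀ g : G, ρ.character g = ρ.character 1 → g = 1) :
    ∃ A : Subgroup G, A.Normal ∧ (∀ x ∈ A, ∀ y ∈ A, x * y = y * x) ∧
      ∀ H : Subgroup G, (∀ x ∈ H, ∀ y ∈ H, x * y = y * x) → (A.subgroupOf H).index ≤ 12 ^ d := by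
  classical
  have hinj : Function.Injective R := by
    intro a b h
    refine inv_mul_eq_one.1 (hfaith _ ?_)
    have h1 : R (a⁻¹ * b) = 1 := by rw [map_mul, ← h, ← map_mul, inv_mul_cancel, map_one]
    have h2 : ρ (a⁻¹ * b) = 1 := LinearMap.ext fun v => e.injective (by
      rw [← hR, h1, one_apply_eq_self, Module.End.one_apply])
    simp [Representation.character, h2]
  let A : Subgroup G := Subgroup.closure {g : G | IsSmallElt R g}
  have hcomm : ∀ x ∈ A, ∀ y ∈ A, x * y = y * x := by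
    have hc : IsMulCommutative A := Subgroup.isMulCommutative_closure fun x hx y hy =>
      commute_of_isSmallElt R hiso hinj hx hy
    intro x hx y hy
    exact congrArg Subtype.val (hc.is_comm.comm ⟨x, hx⟩ ⟨y, hy⟩)
  have hnorm : A.Normal := by
    refine ⟨fun x hx g => ?_⟩
    have : A.map (MulAut.conj g).toMonoidHom ≤ A := by
      rw [MonoidHom.map_closure, Subgroup.closure_le]
      rintro _ ⟨y, hy, rfl⟩
      exact Subgroup.subset_closure (isSmallElt_conj R hiso hy g)
    exact this ⟨x, hx, rfl⟩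
  refine ⟨A, hnorm, hcomm, fun H hH => ?_⟩
  obtain ⟨ι, _, lam, hcard, hlam⟩ := exists_linear_decomp (H := H)
    (fun a b => Subtype.ext (hH a a.2 b b.2))
    (ψ := fun x : H => ρ.character x) ⟨d, ρ.comp H.subtype, rfl⟩
  have hn' : Fintype.card ι = d := by
    have : (Fintype.card ι : ℂ) = (d : ℂ) := by simpa using hcard
    exact_mod_cast this
  have hone : ∀ i (x : H), ‖lam i x‖ = 1 := fun i x =>
    CharInt.norm_eq_one_of_pow_eq_one (Nat.card_pos (α := H)).ne'
      (by rw [← map_pow, pow_card_eq_one', map_one])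
  let bx : (H ⧸ A.subgroupOf H) → ι → Fin 12 := fun q i =>
    ⟨(box (lam i q.out)).toNat, by unfold box; omega⟩
  have hbinj : Function.Injective bx := by
    intro q q' h
    rw [← q.out_eq, ← q'.out_eq]
    refine QuotientGroup.eq.2 ?_
    rw [Subgroup.mem_subgroupOf]
    refine Subgroup.subset_closure ?_
    refine isSmallElt_of_eigenvalues R hiso _ (Finset.univ.image fun i => lam i (q.out⁻¹ * q'.out))
      (fun μ hμ => ?_) fun μ v hv he => ?_
    · obtain ⟨i, -, rfl⟩ := Finset.mem_image.1 hμ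
      have h2 : (box (lam i q.out)).toNat = (box (lam i q'.out)).toNat :=
        congrArg Fin.val (congrFun h i)
      have hpos : ∀ w, 0 ≤ box w := fun w => Int.emod_nonneg _ (by norm_num)
      have h3 : box (lam i q.out) = box (lam i q'.out) := by
        have := hpos (lam i q.out); have := hpos (lam i q'.out); omega
      have h4 : lam i (q.out⁻¹ * q'.out) = (lam i q.out)⁻¹ * lam i q'.out := by
        have h5 : lam i q.out⁻¹ = (lam i q.out)⁻¹ := eq_inv_of_mul_eq_one_left (by
          rw [← map_mul, inv_mul_cancel, map_one])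
        rw [map_mul, h5]
      rw [h4]
      exact norm_inv_mul_sub_lt (hone _ _) (hone _ _) h3
    · obtain ⟨i, hi⟩ := eigenvalue_mem (ρ.comp H.subtype) lam hlam (q.out⁻¹ * q'.out) μ
        (e.symm v) (fun h0 => hv (by simpa using congrArg e h0)) (e.injective (by
          rw [map_smul, LinearEquiv.apply_symm_apply]
          refine Eq.trans ?_ he
          rw [MonoidHom.comp_apply]
          rw [← hR, LinearEquiv.apply_symm_apply]
          rfl))
      exact Finset.mem_image.2 ⟨i, Finset.mem_univ _, hi⟩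
  calc (A.subgroupOf H).index = Nat.card (H ⧸ A.subgroupOf H) := Subgroup.index_eq_card _
    _ ≤ Nat.card (ι → Fin 12) := Nat.card_le_card_of_injective bx hbinj
    _ = 12 ^ d := by simp [Nat.card_eq_fintype_card, hn']


/-- Let the finite group G have a faithful character of degree n. Then G has an abelian normal subgroup A such that every abelian subgroup H of G satisfies [H : H ⊓ A] ≤ 12^n. -/
theorem result {G : Type*} [Group G] [Finite G] (χ : G → ℂ) (hχ : Cfsg.IsCharacter G χ) (hfaith : ∀ g : G, χ g = χ 1 → g = 1) (n : ℕ) (hn : Cfsg.charDegree χ = n) : ∃ A : Subgroup G, A.Normal ∧ (∀ x ∈ A, ∀ y ∈ A, x * y = y * x) ∧ ∀ H : Subgroup G, (∀ x ∈ H, ∀ y ∈ H, x * y = y * x) → (A.subgroupOf H).index ≤ 12 ^ n := by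
  classical
  haveI := Fintype.ofFinite G
  obtain ⟨d, ρ, rfl⟩ := hχ
  have hd : d = n := by
    rw [← hn]; simp [Cfsg.charDegree]
  subst hd
  obtain ⟨k, R, e, hiso, hR⟩ := exists_isometric ρ
  exact main_aux ρ R e hiso hR hfaith

end Cfsg.Agent.S4470
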