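import Cfsg.Statements.S4469
import Cfsg.Agent.Lib.Char.LargePrimes
import Cfsg.Agent.S4470

set_option autoImplicit false
open Cfsg

namespace Cfsg.Agent.S4469

universe u

open scoped ComplexConjugate

/-- A `p`-group with a faithful representation of degree `n` has an abelian subgroup whose index
divides `n!`. -/
theorem exists_abelian_index_dvd_factorial {H : Type u} [Group H] [Finite H]
    (hnil : Group.IsNilpotent H) {n : ℕ}
    (ρ : Representation ℂ H (Fin n → ℂ)) (hρ : Function.Injective ρ) :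
    ∃ B : Subgroup H, (∀ a ∈ B, ∀ b ∈ B, a * b = b * a) ∧ B.index ∣ n.factorial := by
  classical
  haveI := Fintype.ofFinite H
  haveI := hnil
  obtain ⟨m, hm, -⟩ := Char.IsCharacter.exists_decomp (χ := ρ.character) ⟨n, ρ, rfl⟩
  choose S lam hlam using fun ψ : IrrCharacter H => Char.isMonomialChar_of_isNilpotent ψ.2
  have hdeg : ∀ ψ, Nat.card (H ⧸ S ψ) = Char.degree ψ := by
    intro ψ
    have h1 := congrFun (hlam ψ) 1
    rw [Char.apply_one_eq_degree] at h1
    simp only [indFun, mul_one, inv_mul_cancel] at h1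
    rw [Finset.sum_congr rfl fun x _ => Char.extendByZero_of_mem (S ψ) _ (one_mem _)] at h1
    rw [show lam ψ ⟨1, one_mem _⟩ = 1 from map_one (lam ψ), Finset.sum_const, Finset.card_univ,
      nsmul_eq_mul, mul_one, ← Nat.card_eq_fintype_card (α := H),
      ← (S ψ).card_mul_index, Nat.cast_mul, ← mul_assoc,
      inv_mul_cancel₀ (Nat.cast_ne_zero.2 Nat.card_pos.ne'), one_mul] at h1
    rw [← Subgroup.index_eq_card]
    exact_mod_cast h1.symm
  let X := Σ j : (Σ ψ : IrrCharacter H, Fin (m ψ)), H ⧸ S j.1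
  have hX : Nat.card X = n := by
    rw [Nat.card_sigma, Fintype.sum_sigma]
    simp only [hdeg, Finset.sum_const, Finset.card_univ, Fintype.card_fin, smul_eq_mul]
    exact Char.LargePrimes.sum_degree_eq ρ m hm
  let f : H →* Equiv.Perm X :=
    { toFun := fun h => Equiv.sigmaCongrRight fun j => MulAction.toPerm h
      map_one' := Equiv.ext fun ⟨j, x⟩ => by simp
      map_mul' := fun a b => Equiv.ext fun ⟨j, x⟩ => by simp [mul_smul] }
  refine ⟨f.ker, fun a ha b hb => ?_, ?_⟩
  · have hc : a * b * a⁻¹ * b⁻¹ = 1 := by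
      refine Char.LargePrimes.eq_one_of_constituents ρ hρ m (by convert hm) fun ψ hψ => ?_
      have hfix : ∀ c ∈ f.ker, ∀ x : H, x⁻¹ * c * x ∈ S ψ := by
        intro c hc x
        have h1 := congrArg (fun σ : Equiv.Perm X => σ
          ⟨⟨ψ, ⟨0, Nat.pos_of_ne_zero hψ⟩⟩, (x : H ⧸ S ψ)⟩) (MonoidHom.mem_ker.1 hc)
        change (⟨⟨ψ, ⟨0, Nat.pos_of_ne_zero hψ⟩⟩, c • (x : H ⧸ S ψ)⟩ : X) = ⟨⟨ψ, _⟩, (x : H ⧸ S ψ)⟩ at h1
        replace h1 := eq_of_heq (Sigma.mk.inj_iff.1 h1).2
        rw [MulAction.Quotient.smul_coe, QuotientGroup.eq] at h1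
        have h2 := inv_mem h1
        simpa [mul_assoc] using h2
      have hval : ∀ x : H, extendByZero (S ψ) (lam ψ) (x⁻¹ * (a * b * a⁻¹ * b⁻¹) * x) = 1 := by
        intro x
        let a' : S ψ := ⟨_, hfix a ha x⟩
        let b' : S ψ := ⟨_, hfix b hb x⟩
        have e : x⁻¹ * (a * b * a⁻¹ * b⁻¹) * x = ((a' * b' * a'⁻¹ * b'⁻¹ : S ψ) : H) := by
          simp only [Subgroup.coe_mul, Subgroup.coe_inv, a', b']; group
        rw [e, Char.extendByZero_of_mem _ _ (Subtype.mem _)]
        show lam ψ (a' * b' * a'⁻¹ * b'⁻¹) = 1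
        rw [map_mul, map_mul, map_mul, mul_right_comm (lam ψ a'), ← map_mul (lam ψ) a',
          mul_inv_cancel, map_one, one_mul, ← map_mul, mul_inv_cancel, map_one]
      have hval1 : ∀ x : H, extendByZero (S ψ) (lam ψ) (x⁻¹ * 1 * x) = 1 := fun x => by
        rw [mul_one, inv_mul_cancel, Char.extendByZero_of_mem _ _ (one_mem _)]
        exact map_one _
      rw [hlam ψ]
      simp only [indFun, hval, hval1]
    rw [mul_inv_eq_one, mul_inv_eq_iff_eq_mul] at hc
    exact hc
  · rw [Subgroup.index_ker, ← hX, ← Nat.card_perm]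
    exact f.range.card_subgroup_dvd_card

/-- The `p`-part of the index of a normal subgroup divides its relative index in a subgroup of
index prime to `p`. -/
theorem pow_dvd_relIndex {G : Type u} [Group G] [Finite G] (A H : Subgroup G) [A.Normal] {m : ℕ}
    (hm : m ∣ A.index) (hco : m.Coprime H.index) : m ∣ A.relIndex H := by
  have h1 : A.relIndex (A ⊔ H) * (A ⊔ H).index = A.index := Subgroup.relIndex_mul_index le_sup_left
  rw [← h1, sup_comm, Subgroup.relIndex_sup_right] at hm
  exact (hco.coprime_dvd_right (Subgroup.index_dvd_of_le le_sup_left)).dvd_of_dvd_mul_right hm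


/-- The classical bound for finite linear groups, in explicit form. Let the finite group G have a faithful character of degree n. Then G has an abelian normal subgroup whose index is at most n! · 12^(n·(π(n+1)+1)), π(k) denoting the number of primes not exceeding k. -/
theorem result {G : Type*} [Group G] [Finite G] (χ : G → ℂ) (hχ : Cfsg.IsCharacter G χ) (hfaith : ∀ g : G, χ g = χ 1 → g = 1) (n : ℕ) (hn : Cfsg.charDegree χ = n) : ∃ A : Subgroup G, A.Normal ∧ (∀ x ∈ A, ∀ y ∈ A, x * y = y * x) ∧ A.index ≤ Nat.factorial n * 12 ^ (n * (Nat.primeCounting (n + 1) + 1)) := by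
  classical
  obtain ⟨A, hAn, hAc, hA⟩ := S4470.result χ hχ hfaith n hn
  obtain ⟨d, ρ, rfl⟩ := hχ
  have hd : d = n := by
    rw [← hn]; simp [Cfsg.charDegree]
  subst hd
  have hρ : Function.Injective ρ := fun a b h => inv_mul_eq_one.1 (hfaith _ (by
    have h1 : ρ (a⁻¹ * b) = ρ 1 := by rw [map_mul, ← h, ← map_mul, inv_mul_cancel]
    simp [Representation.character, h1]))
  obtain ⟨H, hH⟩ := Char.LargePrimes.exists_abelian_hall ρ hρ
  refine ⟨A, hAn, hAc, ?_⟩
  haveI := hAn
  -- the bound at each prime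
  have hloc : ∀ p : ℕ, p.Prime → ∃ b : ℕ, (∃ k, b = p ^ k) ∧ b ∣ d.factorial ∧
      p ^ A.index.factorization p ≤ b * 12 ^ d := by
    intro p hp
    haveI := Fact.mk hp
    let P : Sylow p G := default
    obtain ⟨B, hBc, hBi⟩ := exists_abelian_index_dvd_factorial P.2.isNilpotent
      (ρ.comp (P : Subgroup G).subtype) (hρ.comp (P : Subgroup G).subtype_injective)
    let B' : Subgroup G := B.map (P : Subgroup G).subtype
    have hB'c : ∀ x ∈ B', ∀ y ∈ B', x * y = y * x := by
      rintro _ ⟨x, hx, rfl⟩ _ ⟨y, hy, rfl⟩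
      exact congrArg Subtype.val (hBc x hx y hy)
    have hB'P : B' ≤ (P : Subgroup G) := Subgroup.map_subtype_le B
    have hB'i : B'.relIndex P = B.index := by
      rw [Subgroup.relIndex, Subgroup.subgroupOf,
        Subgroup.comap_map_eq_self_of_injective (P : Subgroup G).subtype_injective]
    refine ⟨B.index, ?_, hBi, ?_⟩
    · obtain ⟨k, hk⟩ := P.2.exists_card_eq
      obtain ⟨i, -, hi⟩ := (Nat.dvd_prime_pow hp).1 (hk ▸ B.index_dvd_card)
      exact ⟨i, hi⟩
    have h1 : p ^ A.index.factorization p ∣ A.relIndex P :=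
      pow_dvd_relIndex A P (Nat.ordProj_dvd _ _)
        ((hp.coprime_iff_not_dvd.2 P.not_dvd_index).pow_left _)
    have h2 : A.relIndex P ≤ (A ⊓ B').relIndex P :=
      Nat.le_of_dvd (Nat.pos_of_ne_zero ((A ⊓ B').subgroupOf P).index_ne_zero_of_finite)
        (Subgroup.relIndex_dvd_of_le_left _ inf_le_left)
    have h3 : (A ⊓ B').relIndex P = A.relIndex B' * B.index := by
      rw [← Subgroup.relIndex_mul_relIndex (A ⊓ B') B' P inf_le_right hB'P, hB'i,
        Subgroup.inf_relIndex_right]
    refine (Nat.le_of_dvd (Nat.pos_of_ne_zero (A.subgroupOf P).index_ne_zero_of_finite) h1).trans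
      (h2.trans ?_)
    rw [h3, mul_comm]
    exact Nat.mul_le_mul_left _ (hA B' hB'c)
  choose b hbp hbd hb using hloc
  set T := A.index.primeFactors
  have hidx : A.index = (∏ p ∈ T.filter (fun p => p < d + 2), p ^ A.index.factorization p) *
      ∏ p ∈ T.filter (fun p => ¬ p < d + 2), p ^ A.index.factorization p := by
    rw [Finset.prod_filter_mul_prod_filter_not]
    exact Nat.prod_primeFactors_pow_factorization (Subgroup.index_ne_zero_of_finite (H := A))
  set T1 := T.filter (fun p => p < d + 2)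
  have hT1 : T1.card ≤ Nat.primeCounting (d + 1) := by
    rw [Nat.primeCounting, Nat.primeCounting', Nat.count_eq_card_filter_range]
    refine Finset.card_le_card fun p hp => ?_
    rw [Finset.mem_filter] at hp
    exact Finset.mem_filter.2 ⟨Finset.mem_range.2 hp.2, Nat.prime_of_mem_primeFactors hp.1⟩
  let b' : ℕ → ℕ := fun p => if h : p.Prime then b p h else 1
  have hsmall : (∏ p ∈ T1, p ^ A.index.factorization p) ≤
      d.factorial * (12 ^ d) ^ Nat.primeCounting (d + 1) := by
    have hle : (∏ p ∈ T1, p ^ A.index.factorization p) ≤ ∏ p ∈ T1, b' p * 12 ^ d :=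
      Finset.prod_le_prod' fun p hp => by
        have hpp := Nat.prime_of_mem_primeFactors (Finset.mem_filter.1 hp).1
        simp only [b', dif_pos hpp]
        exact hb p hpp
    refine hle.trans ?_
    rw [Finset.prod_mul_distrib, Finset.prod_const]
    refine Nat.mul_le_mul (Nat.le_of_dvd (Nat.factorial_pos d) ?_)
      (Nat.pow_le_pow_right (Nat.pow_pos (by norm_num)) hT1)
    refine Finset.prod_dvd_of_isRelPrime (fun p hp q hq hpq => ?_) fun p hp => ?_
    · have hpp := Nat.prime_of_mem_primeFactors (Finset.mem_filter.1 hp).1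
      have hqp := Nat.prime_of_mem_primeFactors (Finset.mem_filter.1 hq).1
      obtain ⟨i, hi⟩ := hbp p hpp
      obtain ⟨j, hj⟩ := hbp q hqp
      simp only [Function.onFun, b', dif_pos hpp, dif_pos hqp, hi, hj]
      rw [← Nat.coprime_iff_isRelPrime]
      exact ((Nat.coprime_primes hpp hqp).2 hpq).pow i j
    · have hpp := Nat.prime_of_mem_primeFactors (Finset.mem_filter.1 hp).1
      simp only [b', dif_pos hpp]
      exact hbd p hpp
  have hlarge : (∏ p ∈ T.filter (fun p => ¬ p < d + 2), p ^ A.index.factorization p) ≤ 12 ^ d := by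
    refine (Nat.le_of_dvd (Nat.pos_of_ne_zero (A.subgroupOf H).index_ne_zero_of_finite) ?_).trans
      (hA H hH.comm)
    refine pow_dvd_relIndex A H (Dvd.intro_left _ hidx.symm)
      (Nat.Coprime.prod_left fun p hp => ?_)
    rw [Finset.mem_filter] at hp
    have hpp := Nat.prime_of_mem_primeFactors hp.1
    exact (hpp.coprime_iff_not_dvd.2 (hH.index p hpp (by omega))).pow_left _
  rw [hidx]
  refine (Nat.mul_le_mul hsmall hlarge).trans ?_
  rw [mul_assoc, ← pow_succ, ← pow_mul]

end Cfsg.Agent.S4469
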