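import Cfsg.Statements.S4471
import Cfsg.Agent.Lib.TwoEigen.SmallDegree

set_option autoImplicit false
set_option linter.style.haveILetI false
open Cfsg

namespace Cfsg.Agent.S4471

/-- Let p ≥ 7 be a prime and let the finite group G have a faithful irreducible character of degree n with n < 2p and n ≠ p. If the Sylow p-subgroups of G are non-abelian then p² does not divide the index of O_p(G) in G; consequently, in every case G/O_p(G) has abelian Sylow p-subgroups. -/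
theorem result {G : Type*} [Group G] [Finite G] (χ : Cfsg.IrrCharacter G) (hfaith : ∀ g : G, (χ : G → ℂ) g = (χ : G → ℂ) 1 → g = 1) (n : ℕ) (hn : Cfsg.charDegree (χ : G → ℂ) = n) (p : ℕ) (hp : p.Prime) (h7 : 7 ≤ p) (hn2 : n < 2 * p) (hnp : n ≠ p) : ((∃ P : Sylow p G, ∃ x ∈ (P : Subgroup G), ∃ y ∈ (P : Subgroup G), x * y ≠ y * x) → ¬ p ^ 2 ∣ (Cfsg.pCore p G).index) ∧ ∀ Q : Sylow p (G ⧸ Cfsg.pCore p G), ∀ x ∈ (Q : Subgroup (G ⧸ Cfsg.pCore p G)), ∀ y ∈ (Q : Subgroup (G ⧸ Cfsg.pCore p G)), x * y = y * x := by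
  haveI : Fact p.Prime := ⟨hp⟩
  obtain ⟨d, ρ, hirr, hρ⟩ := χ.2
  haveI := hirr
  have hdn : d = n := by
    rw [← hn, ← hρ]; simp [Cfsg.charDegree]
  subst hdn
  have hinj : Function.Injective ρ := fun a b h => inv_mul_eq_one.1 (hfaith _ (by
    have h1 : ρ (a⁻¹ * b) = ρ 1 := by rw [map_mul, ← h, ← map_mul, inv_mul_cancel]
    rw [← hρ]; simp [Representation.character, h1]))
  have hfirst : (∃ P : Sylow p G, ∃ x ∈ (P : Subgroup G), ∃ y ∈ (P : Subgroup G), x * y ≠ y * x) →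
      ¬ p ^ 2 ∣ (Cfsg.pCore p G).index := fun ⟨P, hP⟩ =>
    TwoEigen.not_sq_dvd_index_pCore h7 hn2 hnp ρ hinj P hP
  refine ⟨hfirst, fun Q x hx y hy => ?_⟩
  by_cases hab : ∃ P : Sylow p G, ∃ x ∈ (P : Subgroup G), ∃ y ∈ (P : Subgroup G), x * y ≠ y * x
  · obtain ⟨k, hk⟩ := IsPGroup.iff_card.mp Q.2
    have hk2 : k < 2 := by
      by_contra hk2
      exact hfirst hab ((pow_dvd_pow p (not_lt.mp hk2)).trans
        (hk ▸ Subgroup.card_subgroup_dvd_card (Q : Subgroup (G ⧸ Cfsg.pCore p G))))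
    haveI : IsCyclic (Q : Subgroup (G ⧸ Cfsg.pCore p G)) := by
      rcases k with _ | _ | k
      · haveI := (Nat.card_eq_one_iff_unique.mp (hk.trans (pow_zero p))).1
        exact isCyclic_of_subsingleton
      · exact isCyclic_of_prime_card (hk.trans (pow_one p))
      · omega
    exact congrArg Subtype.val
      ((IsCyclic.commGroup (α := (Q : Subgroup (G ⧸ Cfsg.pCore p G)))).mul_comm ⟨x, hx⟩ ⟨y, hy⟩)
  · simp only [not_exists, not_and, not_not] at hab
    let P : Sylow p G := default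
    obtain ⟨g, hg⟩ := MulAction.exists_smul_eq (G ⧸ Cfsg.pCore p G)
      (P.mapSurjective (QuotientGroup.mk'_surjective (Cfsg.pCore p G))) Q
    rw [← hg, Sylow.coe_subgroup_smul] at hx hy
    obtain ⟨_, ⟨a, ha, rfl⟩, rfl⟩ := hx
    obtain ⟨_, ⟨b, hb, rfl⟩, rfl⟩ := hy
    have h := congrArg (QuotientGroup.mk' (Cfsg.pCore p G)) (hab P a ha b hb)
    rw [map_mul, map_mul] at h
    show g * QuotientGroup.mk' _ a * g⁻¹ * (g * QuotientGroup.mk' _ b * g⁻¹) =
      g * QuotientGroup.mk' _ b * g⁻¹ * (g * QuotientGroup.mk' _ a * g⁻¹)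
    simp only [← MulAut.conj_apply, ← map_mul, h]

end Cfsg.Agent.S4471
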