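import Cfsg.Statements.S4472
import Cfsg.Agent.Lib.Char.CoprimeRational
import Cfsg.Agent.Lib.PCore.HallHigmanDual
import Cfsg.Agent.Lib.Coprime.Sylow

set_option autoImplicit false
open Cfsg

namespace Cfsg.Agent.S4472

set_option linter.style.haveILetI false
open scoped Pointwise

universe u

/-- A `p`-group acting on a `p'`-group with centraliser of index at least the `p`-part of
`[G : O_p(G)]`. -/
theorem exists_pair {G : Type u} [Group G] [Finite G] {p : ℕ} [Fact p.Prime]
    (hs : IsPSolvable p G) :
    ∃ K P : Subgroup G, IsPGroup p P ∧ P ≤ Subgroup.normalizer (K : Set G) ∧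
      (Nat.card K).Coprime p ∧
      Nat.card ↥(P ⊓ Subgroup.centralizer (K : Set G)) *
        p ^ ((pCore p G).index.factorization p) ∣ Nat.card P := by
  set O := pCore p G with hO
  set π := QuotientGroup.mk' O with hπ
  set L := pPrimeCore p (G ⧸ O) with hL
  have hsQ : IsPSolvable p (G ⧸ O) :=
    PCore.isPSolvable_of_surjective π (QuotientGroup.mk'_surjective O) hs
  have hOQ : pCore p (G ⧸ O) = ⊥ := PCore.pCore_quotient_self_eq_bot
  have hLco : (Nat.card L).Coprime p := PCore.coprime_card_pPrimeCore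
  set M := L.comap π with hM
  have hOM : O ≤ M := fun x hx => by
    rw [hM, Subgroup.mem_comap, hπ, QuotientGroup.mk'_apply, (QuotientGroup.eq_one_iff x).2 hx]
    exact L.one_mem
  obtain ⟨a, ha⟩ := PCore.exists_card_pCore (p := p) (G := G)
  have hidx : O.relIndex M = Nat.card L := by
    rw [PCore.relIndex_eq_card_map_mk', ← hπ, hM,
      Subgroup.map_comap_eq_self_of_surjective (QuotientGroup.mk'_surjective O)]
  have hco : (Nat.card (O.subgroupOf M)).Coprime (O.subgroupOf M).index := by
    rw [Coprime.card_subgroupOf hOM, show (O.subgroupOf M).index = _ from hidx, ha]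
    exact (hLco.symm).pow_left a
  obtain ⟨K', hK'⟩ := Subgroup.exists_right_complement'_of_coprime hco
  set K := K'.map M.subtype with hK
  have hKcard : Nat.card K = Nat.card L := by
    rw [hK, Subgroup.card_map_of_injective M.subtype_injective, ← hK'.symm.index_eq_card]
    exact hidx
  have hKM : K ≤ M := Subgroup.map_subtype_le K'
  have hsup : K ⊔ O = M := by
    have h1 := congrArg (Subgroup.map M.subtype) hK'.sup_eq_top
    rw [Subgroup.map_sup, Subgroup.subgroupOf_map_subtype, inf_eq_left.2 hOM,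
      ← MonoidHom.range_eq_map, Subgroup.range_subtype, sup_comm] at h1
    exact h1
  have hKO : (Nat.card K).Coprime (Nat.card O) := by
    rw [hKcard, ha]; exact hLco.pow_right a
  have hOs : Group.IsSolvable O := by
    haveI := (PCore.isPGroup_pCore (p := p) (G := G)).isNilpotent
    infer_instance
  have hKπ : K.map π = L := by
    have h1 : M.map π = L := Subgroup.map_comap_eq_self_of_surjective (QuotientGroup.mk'_surjective O) L
    rw [← hsup, Subgroup.map_sup, hπ, QuotientGroup.map_mk'_self, sup_bot_eq] at h1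
    exact h1
  set N := Subgroup.normalizer (K : Set G) with hN
  -- the normaliser covers the quotient
  have hsurj : Function.Surjective (π.comp N.subtype) := fun q => by
    obtain ⟨g, rfl⟩ := QuotientGroup.mk'_surjective O q
    have hgK : (MulAut.conj g • K) ≤ K ⊔ O := by
      rw [hsup]
      intro x hx
      obtain ⟨k, hk, rfl⟩ := Subgroup.mem_map.1 (show x ∈ K.map (MulAut.conj g).toMonoidHom from hx)
      simp only [MulEquiv.coe_toMonoidHom, MulAut.conj_apply]
      rw [hM, Subgroup.mem_comap, map_mul, map_mul, map_inv]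
      exact (PCore.pPrimeCore_normal (p := p) (G := G ⧸ O)).conj_mem _ (hKM hk) _
    obtain ⟨o, ho, ho'⟩ := Coprime.exists_conj_eq_of_le_sup
      (N := O) (H := K) (K := MulAut.conj g • K)
      (by rw [Subgroup.normalizer_eq_top]; exact le_top) hgK
      (Coprime.card_conj_smul g K) hKO (Or.inl hOs)
    have hmem : o⁻¹ * g ∈ N := Coprime.mem_normalizer_of_conj_smul_eq (by
      rw [← Coprime.conj_smul_smul, ← ho', Coprime.conj_smul_smul, inv_mul_cancel, map_one, one_smul])
    refine ⟨⟨_, hmem⟩, ?_⟩
    show π (o⁻¹ * g) = π g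
    rw [map_mul, map_inv, show π o = 1 from (QuotientGroup.eq_one_iff o).2 ho, inv_one, one_mul]
  let P₁ : Sylow p N := default
  let Q : Sylow p (G ⧸ O) := P₁.mapSurjective hsurj
  set P := (P₁ : Subgroup N).map N.subtype with hP
  have hPπ : P.map π = Q := by
    rw [hP, Subgroup.map_map]
    rfl
  have hPp : IsPGroup p P := P₁.isPGroup'.map _
  refine ⟨K, P, hPp, Subgroup.map_subtype_le _, hKcard ▸ hLco, ?_⟩
  have hC : P ⊓ Subgroup.centralizer (K : Set G) ≤ O ⊓ P := by
    refine le_inf (fun x hx => ?_) inf_le_left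
    have hxL : π x ∈ L := by
      refine PCore.centralizer_pPrimeCore_le hsQ hOQ (Subgroup.mem_centralizer_iff.2 fun l hl => ?_)
      obtain ⟨k, hk, rfl⟩ : l ∈ K.map π := by rw [hKπ]; exact hl
      rw [← map_mul, ← map_mul, Subgroup.mem_centralizer_iff.1 hx.2 k hk]
    have h1 := Subgroup.mem_bot.1 ((PCore.disjoint_of_isPGroup_of_coprime (hPp.map π) hLco).le_bot
      ⟨Subgroup.mem_map_of_mem π hx.1, hxL⟩)
    exact (QuotientGroup.eq_one_iff x).1 h1
  refine (mul_dvd_mul_right (Subgroup.card_dvd_of_le hC) _).trans (dvd_of_eq ?_)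
  have h2 : Nat.card (Q : Subgroup (G ⧸ O)) = p ^ (O.index.factorization p) := by
    rw [Q.card_eq_multiplicity, Subgroup.index_eq_card]
  rw [← h2, ← hPπ, ← PCore.relIndex_eq_card_map_mk', ← Subgroup.subgroupOf_map_subtype O P,
    Subgroup.card_map_of_injective P.subtype_injective]
  exact Subgroup.card_mul_index (O.subgroupOf P)

/-- Let the finite p-solvable group G have a faithful character of degree n, and let p^a be the index of O_p(G) in a Sylow p-subgroup of G (the p-part of [G : O_p(G)]). Then a ≤ Σ_{i ≥ 0} ⌊n / ((p − 1) p^i)⌋ (a finite sum; the terms vanish for p^i > n). -/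
theorem result {G : Type*} [Group G] [Finite G] (χ : G → ℂ) (hχ : Cfsg.IsCharacter G χ) (hfaith : ∀ g : G, χ g = χ 1 → g = 1) (n : ℕ) (hn : Cfsg.charDegree χ = n) (p : ℕ) (hp : p.Prime) (hsolv : Cfsg.IsPSolvable p G) : ((Cfsg.pCore p G).index).factorization p ≤ ∑ i ∈ Finset.range (n + 1), n / ((p - 1) * p ^ i) := by
  classical
  haveI : Fact p.Prime := ⟨hp⟩
  obtain ⟨d₀, hd₀⟩ := Char.IsCharacter.apply_one hχ
  have hn' : χ 1 = n := by rw [← hn, charDegree, hd₀, Complex.natCast_re, Nat.floor_natCast]
  obtain ⟨K, P, hP, hPK, hKp, hdvd⟩ := exists_pair hsolv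
  set X := P ⊔ K with hX
  haveI := Fintype.ofFinite X
  have hXN : X ≤ Subgroup.normalizer (K : Set G) := sup_le hPK Subgroup.le_normalizer
  haveI := Coprime.normal_subgroupOf_of_le_normalizer (H := K) (P := X) hXN
  set P' := P.subgroupOf X with hP'
  set K' := K.subgroupOf X with hK'
  have hP'c : Nat.card P' = Nat.card P := Coprime.card_subgroupOf le_sup_left
  have hK'c : Nat.card K' = Nat.card K := Coprime.card_subgroupOf le_sup_right
  have hP'p : IsPGroup p P' := by
    obtain ⟨e, he⟩ := IsPGroup.iff_card.1 hP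
    exact IsPGroup.of_card (hP'c.trans he)
  obtain ⟨Ψ, d, hΨ, hd, hdn, hint, hker⟩ := Char.exists_rational_character K' hp P' hP'p
    (hK'c ▸ hKp) (by rw [hP', hK', ← Subgroup.subgroupOf_sup le_sup_left le_sup_right,
      Subgroup.subgroupOf_self])
    (Char.IsCharacter.restrict hχ X) (fun k _ hk => Subtype.ext (hfaith k (by simpa using hk)))
    (by simpa using hn')
  have hΨP := Char.IsCharacter.restrict hΨ P'
  have hbound := Char.card_dvd_of_rational hp hP'p hΨP (d := d) (by simpa using hd) hdn
    (fun g => hint g g.2)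
  -- the kernel centralises `K`
  have hle : ((CharInt.charKernel hΨP).map P'.subtype).map X.subtype ≤
      P ⊓ Subgroup.centralizer (K : Set G) := by
    rintro _ ⟨x, ⟨y, hy, rfl⟩, rfl⟩
    refine ⟨y.2, Subgroup.mem_centralizer_iff.2 fun k hk => ?_⟩
    let k' : X := ⟨k, Subgroup.mem_sup_right hk⟩
    have hk' : k' ∈ K' := hk
    have hM := CharInt.charKernel_normal hΨ
    have hyM : (y : X) ∈ CharInt.charKernel hΨ := hy
    have h1 : k' * (y : X) * k'⁻¹ * (y : X)⁻¹ ∈ CharInt.charKernel hΨ :=
      mul_mem (hM.conj_mem _ hyM k') (inv_mem hyM)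
    have h2 : k' * (y : X) * k'⁻¹ * (y : X)⁻¹ ∈ K' := by
      rw [mul_assoc k', mul_assoc k']
      exact mul_mem hk' (Subgroup.Normal.conj_mem inferInstance _ (inv_mem hk') _)
    have h3 := hker _ h2 h1
    rw [mul_inv_eq_one, mul_inv_eq_iff_eq_mul] at h3
    exact congrArg Subtype.val h3
  have hcc : Nat.card (CharInt.charKernel hΨP) ∣
      Nat.card ↥(P ⊓ Subgroup.centralizer (K : Set G)) := by
    have := Subgroup.card_dvd_of_le hle
    rwa [Subgroup.card_map_of_injective X.subtype_injective,
      Subgroup.card_map_of_injective P'.subtype_injective] at this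
  rw [hP'c] at hbound
  have h4 := Nat.dvd_of_mul_dvd_mul_left Nat.card_pos
    ((hdvd.trans hbound).trans (mul_dvd_mul_right hcc _))
  set N := n / (p - 1) with hN
  rw [Nat.Prime.pow_dvd_iff_le_factorization hp
    (mul_ne_zero (pow_ne_zero _ hp.ne_zero) N.factorial_ne_zero),
    Nat.factorization_mul (pow_ne_zero _ hp.ne_zero) N.factorial_ne_zero, Finsupp.add_apply,
    Nat.Prime.factorization_pow hp, Finsupp.single_eq_same] at h4
  refine h4.trans (le_of_eq ?_)
  have hNn : N ≤ n := Nat.div_le_self _ _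
  rw [Nat.factorization_factorial hp (b := n + 1)
      (Nat.lt_succ_of_le ((Nat.log_le_self _ _).trans hNn)),
    Finset.range_eq_Ico, Finset.sum_eq_sum_Ico_succ_bot (Nat.succ_pos n)]
  simp only [pow_zero, mul_one, ← Nat.div_div_eq_div_mul]
  rfl

end Cfsg.Agent.S4472
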