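import Cfsg.Statements.S4473
import Cfsg.Agent.Lib.Char.InducedEq
import Cfsg.Agent.Lib.Char.Orthogonality
import Cfsg.Agent.Lib.CharInt.Central
import Cfsg.Agent.Lib.CharInt.Eigen

set_option linter.style.haveILetI false

set_option autoImplicit false
open Cfsg

namespace Cfsg.Agent.S4473

open Cfsg.Agent
open scoped Classical

universe u

/-- Three orbit lengths. -/
theorem three_orbits {N a b c : ℕ} (ha : a ∣ N) (hb : b ∣ N) (hc : c ∣ N) (ha2 : 2 * a ≤ N)
    (hc3 : 3 ≤ c) (hab : b ≤ a) (hbc : c ≤ b) (h : a + b + c = N + 2) :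
    N = 12 ∨ N = 24 ∨ N = 60 := by
  obtain ⟨i, hi⟩ := ha
  obtain ⟨j, hj⟩ := hb
  obtain ⟨k, hk⟩ := hc
  rcases (show i ≤ 1 ∨ i = 2 ∨ 3 ≤ i by omega) with hi' | rfl | hi'
  · have := Nat.mul_le_mul_left a hi'; omega
  · rcases (show j ≤ 2 ∨ j = 3 ∨ 4 ≤ j by omega) with hj' | rfl | hj'
    · have := Nat.mul_le_mul_left b hj'; omega
    · rcases (show k ≤ 2 ∨ k = 3 ∨ k = 4 ∨ k = 5 ∨ 6 ≤ k by omega) with hk' | rfl | rfl | rfl | hk'
      · have := Nat.mul_le_mul_left c hk'; omega
      · omega
      · omega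
      · omega
      · have := Nat.mul_le_mul_left c hk'; omega
    · have := Nat.mul_le_mul_left b hj'; omega
  · have := Nat.mul_le_mul_left a hi'; omega

/-- Orbit lengths with the pole equation. -/
theorem orbit_lengths {ι : Type*} (os : Finset ι) (o : ι → ℕ) {N : ℕ} (hN : 2 ≤ N)
    (hdvd : ∀ i ∈ os, o i ∣ N) (h2 : ∀ i ∈ os, 2 * o i ≤ N) (h3 : ∀ i ∈ os, 3 ≤ o i)
    (h : ∑ i ∈ os, (N - o i) = 2 * (N - 1)) : N = 12 ∨ N = 24 ∨ N = 60 := by
  have hle : os.card * N ≤ 2 * (2 * (N - 1)) := by
    rw [← h, Finset.mul_sum, ← smul_eq_mul, ← Finset.sum_const]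
    exact Finset.sum_le_sum fun i hi => by have := h2 i hi; omega
  have hcard : os.card ≤ 3 := by
    by_contra hlt
    have := Nat.mul_le_mul_right N (show 4 ≤ os.card by omega)
    omega
  rcases (show os.card = 0 ∨ os.card = 1 ∨ os.card = 2 ∨ os.card = 3 by omega) with hk | hk | hk | hk
  · rw [Finset.card_eq_zero] at hk
    subst hk
    simp at h
    omega
  · obtain ⟨x, rfl⟩ := Finset.card_eq_one.1 hk
    simp at h
    have := h3 x (by simp)
    omega
  · obtain ⟨x, y, hxy, rfl⟩ := Finset.card_eq_two.1 hk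
    rw [Finset.sum_pair hxy] at h
    have := h3 x (by simp); have := h3 y (by simp)
    omega
  · obtain ⟨x, y, z, hxy, hxz, hyz, rfl⟩ := Finset.card_eq_three.1 hk
    rw [Finset.sum_insert (by simp [hxy, hxz]), Finset.sum_pair hyz] at h
    have := h2 x (by simp); have := h2 y (by simp); have := h2 z (by simp)
    have := h3 x (by simp); have := h3 y (by simp); have := h3 z (by simp)
    have := hdvd x (by simp); have := hdvd y (by simp); have := hdvd z (by simp)
    rcases le_total (o x) (o y) with hxy' | hxy' <;> rcases le_total (o y) (o z) with hyz' | hyz' <;>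
      rcases le_total (o x) (o z) with hxz' | hxz'
    all_goals first
      | exact three_orbits (a := o x) (b := o y) (c := o z) (by assumption) (by assumption) (by assumption) (by omega) (by omega) (by omega) (by omega) (by omega)
      | exact three_orbits (a := o x) (b := o z) (c := o y) (by assumption) (by assumption) (by assumption) (by omega) (by omega) (by omega) (by omega) (by omega)
      | exact three_orbits (a := o y) (b := o x) (c := o z) (by assumption) (by assumption) (by assumption) (by omega) (by omega) (by omega) (by omega) (by omega)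
      | exact three_orbits (a := o y) (b := o z) (c := o x) (by assumption) (by assumption) (by assumption) (by omega) (by omega) (by omega) (by omega) (by omega)
      | exact three_orbits (a := o z) (b := o x) (c := o y) (by assumption) (by assumption) (by assumption) (by omega) (by omega) (by omega) (by omega) (by omega)
      | exact three_orbits (a := o z) (b := o y) (c := o x) (by assumption) (by assumption) (by assumption) (by omega) (by omega) (by omega) (by omega) (by omega)

variable {G : Type u} [Group G] [Fintype G]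

/-- The two invariant lines of a nonscalar element of finite order in dimension two. -/
theorem exists_pair_lines (ρ : Representation ℂ G (Fin 2 → ℂ)) (g : G)
    (hg : ¬ ∃ c : ℂ, ρ g = c • 1) :
    ∃ s : Finset (Submodule ℂ (Fin 2 → ℂ)), s.card = 2 ∧
      ∀ L, L ∈ s ↔ Module.finrank ℂ L = 1 ∧ L.map (ρ g) = L := by
  obtain ⟨b, μ, hμ, hb⟩ := CharInt.exists_eigenbasis_rho ρ g
  have h2 : Module.finrank ℂ (Fin 2 → ℂ) = 2 := Module.finrank_fin_fun ℂ
  let e : Fin (Module.finrank ℂ (Fin 2 → ℂ)) ≃ Fin 2 := finCongr h2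
  let B := b.reindex e
  let ν : Fin 2 → ℂ := fun i => μ (e.symm i)
  have hB : ∀ i, ρ g (B i) = ν i • B i := fun i => by
    simp only [B, ν, Module.Basis.reindex_apply]; exact hb _
  have hν : ν 0 ≠ ν 1 := fun h => hg ⟨ν 0, CharInt.eq_smul_one_of_eigenbasis B hB fun i => by
    fin_cases i
    · rfl
    · exact h.symm⟩
  have hν0 : ∀ i, ν i ≠ 0 := fun i h0 => by
    have h1 := hμ (e.symm i)
    rw [show μ (e.symm i) = 0 from h0, zero_pow (orderOf_pos g).ne'] at h1
    exact zero_ne_one h1
  let L : Fin 2 → Submodule ℂ (Fin 2 → ℂ) := fun i => ℂ ∙ B i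
  have hne : L 0 ≠ L 1 := by
    intro h
    have h1 : B 0 ∈ L 1 := h ▸ Submodule.mem_span_singleton_self _
    obtain ⟨c, hc⟩ := Submodule.mem_span_singleton.1 h1
    have := congrArg (fun v => B.repr v 0) hc
    simp at this
  refine ⟨{L 0, L 1}, Finset.card_pair hne, fun M => ⟨fun hM => ?_, fun hM => ?_⟩⟩
  · have hL : ∀ i, Module.finrank ℂ (L i) = 1 ∧ (L i).map (ρ g) = L i := fun i => by
      refine ⟨finrank_span_singleton (B.ne_zero i), ?_⟩
      rw [Submodule.map_span, Set.image_singleton, hB]
      exact Submodule.span_singleton_smul_eq (isUnit_iff_ne_zero.2 (hν0 i)) _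
    simp only [Finset.mem_insert, Finset.mem_singleton] at hM
    rcases hM with rfl | rfl
    · exact hL 0
    · exact hL 1
  · obtain ⟨v, hv0, hv⟩ := finrank_eq_one_iff'.1 hM.1
    have hv' : (v : Fin 2 → ℂ) ≠ 0 := fun h => hv0 (Subtype.ext h)
    have hMv : M = ℂ ∙ (v : Fin 2 → ℂ) := by
      refine le_antisymm (fun w hw => ?_) ((Submodule.span_singleton_le_iff_mem _ _).2 v.2)
      obtain ⟨c, hc⟩ := hv ⟨w, hw⟩
      exact Submodule.mem_span_singleton.2 ⟨c, congrArg Subtype.val hc⟩
    obtain ⟨c, hc⟩ := hv ⟨ρ g v, by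
      have h1 := Submodule.mem_map_of_mem (f := ρ g) v.2
      rwa [hM.2] at h1⟩
    have hc' : c • (v : Fin 2 → ℂ) = ρ g v := congrArg Subtype.val hc
    have hsum := B.sum_repr (v : Fin 2 → ℂ)
    rw [Fin.sum_univ_two] at hsum
    have key : ∀ i, B.repr (v : Fin 2 → ℂ) i * (ν i - c) = 0 := fun i => by
      have h1 := congrArg (fun w => B.repr w i) hc'
      rw [← hsum] at h1
      simp only [map_add, map_smul, hB, smul_add] at h1
      fin_cases i <;> simp [-mul_eq_mul_left_iff, -mul_eq_mul_right_iff, -mul_eq_zero] at h1 ⊢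
      · linear_combination -h1
      · linear_combination -h1
    have : ∀ i j, i ≠ j → B.repr (v : Fin 2 → ℂ) j = 0 → M = L i := fun i j hij hj => by
      have hvi : (v : Fin 2 → ℂ) = B.repr (v : Fin 2 → ℂ) i • B i := by
        conv_lhs => rw [← hsum]
        fin_cases i <;> fin_cases j <;> simp_all
      rw [hMv, hvi]
      refine Submodule.span_singleton_smul_eq (isUnit_iff_ne_zero.2 fun h0 => hv' ?_) _
      rw [hvi, h0, zero_smul]
    simp only [Finset.mem_insert, Finset.mem_singleton]
    rcases mul_eq_zero.1 (key 0) with h | h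
    · exact Or.inr (this 1 0 (by decide) h)
    · rcases mul_eq_zero.1 (key 1) with h' | h'
      · exact Or.inl (this 0 1 (by decide) h')
      · exact absurd (by linear_combination h - h') hν

/-- An invariant line of a subgroup of index two induces the character. -/
theorem eq_indFun_of_line (χ : IrrCharacter G) (ρ : Representation ℂ G (Fin 2 → ℂ))
    (hρ : ρ.character = χ.1) (H : Subgroup G) (hH : H.index = 2)
    (L : Submodule ℂ (Fin 2 → ℂ)) (hL : Module.finrank ℂ L = 1)
    (hinv : ∀ h ∈ H, L.map (ρ h) = L) :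
    ∃ θ : H → ℂ, IsCharacter H θ ∧ χ.1 = indFun H θ := by
  let σ : Representation ℂ H (Fin 2 → ℂ) := ρ.comp H.subtype
  let A : Subrepresentation σ :=
    { toSubmodule := L
      apply_mem_toSubmodule := fun h v hv => by
        rw [← hinv h h.2]
        exact Submodule.mem_map_of_mem hv }
  haveI : NeZero (Nat.card H : ℂ) := ⟨Nat.cast_ne_zero.2 Nat.card_pos.ne'⟩
  haveI : σ.IsSemisimpleRepresentation := inferInstance
  obtain ⟨B, hB⟩ := ComplementedLattice.exists_isCompl A
  have hc : IsCompl A.toSubmodule B.toSubmodule := by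
    constructor
    · rw [disjoint_iff, ← Subrepresentation.toSubmodule_inf, hB.inf_eq_bot]; rfl
    · rw [codisjoint_iff, ← Subrepresentation.toSubmodule_sup, hB.sup_eq_top]; rfl
  have hres : (fun x : H => χ.1 x) = A.toRepresentation.character + B.toRepresentation.character := by
    rw [← Char.character_eq_add_of_isCompl σ A B hc, ← hρ]
    rfl
  refine ⟨A.toRepresentation.character, Char.isCharacter_character _,
    Char.eq_indFun_of_degree H χ (Char.isCharacter_character _) ?_ ?_⟩
  · rw [hres, ← Char.conj_classInner, Char.classInner_add_left, Char.classInner_character,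
      Char.classInner_character, map_add, map_natCast, map_natCast]
    refine Nat.cast_add (R := ℂ) _ _ ▸ Nat.cast_ne_zero.2 ?_
    have h1 : 0 < Module.finrank ℂ
        (Representation.IntertwiningMap A.toRepresentation A.toRepresentation) := by
      refine Nat.pos_of_ne_zero fun h0 => ?_
      have h2 := Char.classInner_character A.toRepresentation A.toRepresentation
      rw [h0, Nat.cast_zero, classInner] at h2
      have h3 := (mul_eq_zero.1 h2).resolve_left (inv_ne_zero Char.card_ne_zero)
      simp only [Complex.mul_conj] at h3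
      rw [← Complex.ofReal_sum, Complex.ofReal_eq_zero,
        Finset.sum_eq_zero_iff_of_nonneg fun _ _ => Complex.normSq_nonneg _] at h3
      have h4 := h3 1 (Finset.mem_univ _)
      rw [Representation.char_one, Complex.normSq_eq_zero, Nat.cast_eq_zero] at h4
      exact Nat.one_ne_zero (hL.symm.trans h4)
    omega
  · rw [Representation.char_one, hH, ← hρ, Representation.char_one, Module.finrank_fin_fun,
      show Module.finrank ℂ A.toSubmodule = 1 from hL]
    norm_num


/-- Let the finite group G have a faithful irreducible character χ of degree 2 that is primitive: χ is not induced from a character of any proper subgroup. Then the centre of G has index 12, 24 or 60. -/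
theorem result {G : Type*} [Group G] [Fintype G] (χ : Cfsg.IrrCharacter G) (hfaith : ∀ g : G, (χ : G → ℂ) g = (χ : G → ℂ) 1 → g = 1) (h2 : Cfsg.charDegree (χ : G → ℂ) = 2) (hprim : ∀ H : Subgroup G, H ≠ ⊤ → ∀ θ : H → ℂ, Cfsg.IsCharacter H θ → (χ : G → ℂ) ≠ Cfsg.indFun H θ) : (Subgroup.center G).index = 12 ∨ (Subgroup.center G).index = 24 ∨ (Subgroup.center G).index = 60 := by
  obtain ⟨d, ρ, hirr, hρ⟩ := χ.2
  haveI := hirr
  obtain rfl : d = 2 := by
    have h1 := congrFun hρ 1
    rw [ρ.char_one, Module.finrank_fin_fun, ← Char.charDegree_cast, h2] at h1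
    exact_mod_cast h1
  have hker : ∀ g, ρ g = 1 → g = 1 := fun g hg => hfaith g (by
    rw [← hρ]; simp only [Representation.character, hg, map_one])
  have hinj : Function.Injective ρ := fun a b hab => by
    rw [← inv_mul_eq_one]
    refine hker _ ?_
    rw [map_mul, ← hab, ← map_mul, inv_mul_cancel, map_one]
  set Z := Subgroup.center G with hZdef
  have hscal : ∀ g, (∃ c : ℂ, ρ g = c • 1) → g ∈ Z := fun g ⟨c, hc⟩ =>
    Subgroup.mem_center_iff.2 fun x => hinj (by
      rw [map_mul, map_mul, hc, mul_smul_comm, smul_mul_assoc, mul_one, one_mul])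
  letI act : MulAction G (Submodule ℂ (Fin 2 → ℂ)) :=
    { smul := fun g L => L.map (ρ g)
      one_smul := fun L => by
        show L.map (ρ 1) = L
        rw [map_one]; exact Submodule.map_id L
      mul_smul := fun a b L => by
        show L.map (ρ (a * b)) = (L.map (ρ b)).map (ρ a)
        rw [map_mul, ← Submodule.map_comp]; rfl }
  have hsmul : ∀ (g : G) (L : Submodule ℂ (Fin 2 → ℂ)), g • L = L.map (ρ g) := fun _ _ => rfl
  have hfr : ∀ (g : G) (L : Submodule ℂ (Fin 2 → ℂ)), Module.finrank ℂ ↥(g • L) = Module.finrank ℂ L :=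
    fun g L => by
      rw [hsmul]
      refine (Submodule.equivMapOfInjective (ρ g) ?_ L).finrank_eq.symm
      intro x y hxy
      have := congrArg (ρ g⁻¹) hxy
      rwa [← Module.End.mul_apply, ← Module.End.mul_apply, ← map_mul, inv_mul_cancel, map_one] at this
  have hZfix : ∀ z ∈ Z, ∀ L : Submodule ℂ (Fin 2 → ℂ), z • L = L := by
    intro z hz L
    obtain ⟨c, hc⟩ := CharInt.exists_smul_one_of_mem_center ρ hz
    have hc0 : c ≠ 0 := fun h0 => by
      have h1 : ρ z * ρ z⁻¹ = 1 := by rw [← map_mul, mul_inv_cancel, map_one]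
      rw [hc, h0, zero_smul, zero_mul] at h1
      exact zero_ne_one h1
    rw [hsmul, hc]
    exact (Submodule.map_smul (1 : Module.End ℂ (Fin 2 → ℂ)) L c hc0).trans (Submodule.map_id L)
  -- no line is fixed by everything
  have hnofix : ∀ L : Submodule ℂ (Fin 2 → ℂ), Module.finrank ℂ L = 1 →
      MulAction.stabilizer G L ≠ ⊤ := by
    intro L hL htop
    let A : Subrepresentation ρ :=
      { toSubmodule := L
        apply_mem_toSubmodule := fun g v hv => by
          have h1 : g • L = L := (htop ▸ Subgroup.mem_top g : g ∈ MulAction.stabilizer G L)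
          rw [hsmul] at h1
          rw [← h1]
          exact Submodule.mem_map_of_mem hv }
    rcases IsSimpleOrder.eq_bot_or_eq_top A with h | h
    · have h1 : L = ⊥ := congrArg Subrepresentation.toSubmodule h
      rw [h1, finrank_bot] at hL
      exact zero_ne_one hL
    · have h1 : L = ⊤ := congrArg Subrepresentation.toSubmodule h
      rw [h1, finrank_top, Module.finrank_fin_fun] at hL
      omega
  have hpairs : ∀ g : G, ∃ s : Finset (Submodule ℂ (Fin 2 → ℂ)),
      g ∉ Z → s.card = 2 ∧ ∀ L, L ∈ s ↔ Module.finrank ℂ L = 1 ∧ g • L = L := fun g => by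
    by_cases hg : g ∈ Z
    · exact ⟨∅, fun h => absurd hg h⟩
    · obtain ⟨s, hs⟩ := exists_pair_lines ρ g fun h => hg (hscal g h)
      exact ⟨s, fun _ => hs⟩
  choose I hI using hpairs
  set NZ := Finset.univ.filter fun g : G => g ∉ Z with hNZ
  set S := NZ.biUnion I with hS
  have hmemS : ∀ L, L ∈ S ↔ Module.finrank ℂ L = 1 ∧ ∃ g ∉ Z, g • L = L := fun L => by
    simp only [hS, hNZ, Finset.mem_biUnion, Finset.mem_filter, Finset.mem_univ, true_and]
    constructor
    · rintro ⟨g, hg, hL⟩
      exact ⟨((hI g hg).2 L).1 hL |>.1, g, hg, ((hI g hg).2 L).1 hL |>.2⟩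
    · rintro ⟨h1, g, hg, hL⟩
      exact ⟨g, hg, ((hI g hg).2 L).2 ⟨h1, hL⟩⟩
  have hSsmul : ∀ g, ∀ L ∈ S, g • L ∈ S := fun g L hL => by
    obtain ⟨h1, x, hx, hxL⟩ := (hmemS L).1 hL
    refine (hmemS _).2 ⟨(hfr g L).trans h1, g * x * g⁻¹, fun hz => hx ?_, ?_⟩
    · have h2 := (Subgroup.center G).normal_of_characteristic.conj_mem _ hz g⁻¹
      simpa [mul_assoc] using h2
    · rw [mul_smul, inv_smul_smul, mul_smul, hxL]
  set N := Z.index with hN
  set z := Nat.card Z with hz
  have hzN : z * N = Nat.card G := Z.card_mul_index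
  have hz0 : 0 < z := Nat.card_pos
  let O : Submodule ℂ (Fin 2 → ℂ) → Finset (Submodule ℂ (Fin 2 → ℂ)) := fun L =>
    (Finset.univ : Finset G).image fun g => g • L
  have hOcard : ∀ L, (O L).card * Nat.card (MulAction.stabilizer G L) = Nat.card G := fun L => by
    rw [← (MulAction.stabilizer G L).index_mul_card, MulAction.index_stabilizer,
      ← Set.ncard_coe_finset]
    congr 2
    ext M
    simp [O, MulAction.mem_orbit_iff]
  have hZle : ∀ L : Submodule ℂ (Fin 2 → ℂ), Z ≤ MulAction.stabilizer G L := fun L x hx => hZfix x hx L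
  have hOdvd : ∀ L, (O L).card ∣ N := fun L => by
    obtain ⟨m, hm⟩ := Subgroup.card_dvd_of_le (hZle L)
    have h1 := hOcard L
    rw [hm, ← hzN] at h1
    exact ⟨m, Nat.eq_of_mul_eq_mul_left hz0 (h1.symm.trans (by rw [← hz]; ring))⟩
  -- the pole equation
  have hcount : ∑ L ∈ S, (Nat.card (MulAction.stabilizer G L) - z) = 2 * (Nat.card G - z) := by
    have e1 : ∀ L : Submodule ℂ (Fin 2 → ℂ), Nat.card (MulAction.stabilizer G L) - z = (NZ.filter fun g => g • L = L).card := by
      intro L
      rw [hz, Nat.card_eq_fintype_card, Nat.card_eq_fintype_card, Fintype.card_subtype,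
        Fintype.card_subtype, ← Finset.card_sdiff_of_subset (by
          intro g hg
          simp only [Finset.mem_filter, Finset.mem_univ, true_and] at hg ⊢
          exact hZle L hg)]
      congr 1
      ext g
      simp [hNZ, MulAction.mem_stabilizer_iff, and_comm]
    have e2 : NZ.card = Nat.card G - z := by
      rw [hz, Nat.card_eq_fintype_card, Nat.card_eq_fintype_card, Fintype.card_subtype,
        ← Finset.card_compl]
      congr 1
      ext g
      simp [hNZ]
    rw [Finset.sum_congr rfl fun L _ => e1 L, ← e2, mul_comm, ← smul_eq_mul, ← Finset.sum_const]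
    simp only [Finset.card_filter]
    rw [Finset.sum_comm]
    refine Finset.sum_congr rfl fun g hg => ?_
    rw [← Finset.card_filter]
    have hg' : g ∉ Z := (Finset.mem_filter.1 hg).2
    refine (?_ : _ = (I g).card).trans (hI g hg').1
    congr 1
    ext L
    rw [Finset.mem_filter, (hI g hg').2, hmemS]
    exact ⟨fun h => ⟨h.1.1, h.2⟩, fun h => ⟨⟨h.1, g, hg', h.2⟩, h.2⟩⟩
  -- by orbits
  have hfib : ∀ o ∈ S.image O, (S.filter fun L => O L = o) = o := by
    intro o ho
    obtain ⟨L, hL, rfl⟩ := Finset.mem_image.1 ho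
    ext M
    simp only [O, Finset.mem_filter, Finset.mem_image, Finset.mem_univ, true_and]
    constructor
    · rintro ⟨-, hM⟩
      have : M ∈ (Finset.univ : Finset G).image fun g => g • M :=
        Finset.mem_image.2 ⟨1, Finset.mem_univ _, one_smul G M⟩
      rw [hM] at this
      simpa using this
    · rintro ⟨g, rfl⟩
      refine ⟨hSsmul g L hL, ?_⟩
      ext M
      simp only [Finset.mem_image, Finset.mem_univ, true_and]
      constructor
      · rintro ⟨x, rfl⟩; exact ⟨x * g, mul_smul x g L⟩
      · rintro ⟨x, rfl⟩; exact ⟨x * g⁻¹, by rw [mul_smul, inv_smul_smul]⟩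
  have heq : ∑ o ∈ S.image O, (N - o.card) = 2 * (N - 1) := by
    refine Nat.eq_of_mul_eq_mul_left hz0 ?_
    rw [Finset.mul_sum, show z * (2 * (N - 1)) = 2 * (Nat.card G - z) by
      rw [mul_left_comm, Nat.mul_sub, mul_one, hzN], ← hcount,
      ← Finset.sum_fiberwise_of_maps_to (t := S.image O) (g := O)
        (fun L hL => Finset.mem_image_of_mem O hL)]
    refine Finset.sum_congr rfl fun o ho => ?_
    rw [hfib o ho]
    have hpos : 0 < o.card := by
      obtain ⟨L, -, rfl⟩ := Finset.mem_image.1 ho
      exact Finset.card_pos.2 ⟨(1 : G) • L, Finset.mem_image_of_mem _ (Finset.mem_univ 1)⟩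
    have hconst : ∀ L ∈ o, o.card * Nat.card (MulAction.stabilizer G L) = Nat.card G := fun L hL => by
      rw [← hfib o ho, Finset.mem_filter] at hL
      rw [← hL.2]
      exact hOcard L
    obtain ⟨L₀, hL₀⟩ := Finset.card_pos.1 hpos
    rw [Finset.sum_congr rfl (g := fun _ => Nat.card (MulAction.stabilizer G L₀) - z) fun L hL => by
        rw [Nat.eq_of_mul_eq_mul_left hpos ((hconst L hL).trans (hconst L₀ hL₀).symm)],
      Finset.sum_const, smul_eq_mul, Nat.mul_sub, Nat.mul_sub, hconst L₀ hL₀, hzN, mul_comm o.card]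
  have hlines : ∀ o ∈ S.image O, ∃ L ∈ S, o = O L := fun o ho => by
    obtain ⟨L, hL, rfl⟩ := Finset.mem_image.1 ho
    exact ⟨L, hL, rfl⟩
  have hidx : ∀ L, (MulAction.stabilizer G L).index = (O L).card := fun L =>
    Nat.eq_of_mul_eq_mul_right Nat.card_pos
      ((Subgroup.index_mul_card _).trans (hOcard L).symm)
  have hone : ∀ L ∈ S, (O L).card ≠ 1 := fun L hL h =>
    hnofix L ((hmemS L).1 hL).1 (Subgroup.index_eq_one.1 ((hidx L).trans h))
  have hNpos : 0 < N := Nat.pos_of_ne_zero fun h => by
    rw [h, mul_zero] at hzN; exact Nat.card_pos.ne hzN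
  refine orbit_lengths (S.image O) Finset.card ?_ (fun o ho => ?_) (fun o ho => ?_) (fun o ho => ?_) heq
  · by_contra hlt
    have hN1 : N = 1 := by omega
    have htop : Z = ⊤ := Subgroup.index_eq_one.1 hN1
    refine hnofix (ℂ ∙ (Pi.single 0 1 : Fin 2 → ℂ)) (finrank_span_singleton (by simp)) ?_
    exact eq_top_iff.2 fun g _ => hZfix g (htop ▸ Subgroup.mem_top g) _
  · obtain ⟨L, -, rfl⟩ := hlines o ho
    exact hOdvd L
  · obtain ⟨L, hL, rfl⟩ := hlines o ho
    obtain ⟨h1, g, hg, hgL⟩ := (hmemS L).1 hL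
    obtain ⟨m, hm⟩ := Subgroup.card_dvd_of_le (hZle L)
    have h2 : 2 ≤ m := by
      by_contra hlt
      rcases (show m = 0 ∨ m = 1 by omega) with rfl | rfl
      · rw [mul_zero] at hm; exact Nat.card_pos.ne' hm
      · rw [mul_one] at hm
        exact hg ((Subgroup.eq_of_le_of_card_ge (hZle L) hm.le).symm ▸ hgL)
    have h3 := hOcard L
    rw [hm, ← hzN, ← hz] at h3
    have h4 : (O L).card * m = N := Nat.eq_of_mul_eq_mul_left hz0 (by rw [← h3]; ring)
    rw [← h4, mul_comm]
    exact Nat.mul_le_mul_left _ h2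
  · obtain ⟨L, hL, rfl⟩ := hlines o ho
    have hne := hone L hL
    have h0 : 0 < (O L).card :=
      Finset.card_pos.2 ⟨(1 : G) • L, Finset.mem_image_of_mem _ (Finset.mem_univ 1)⟩
    by_contra hlt
    have h2' : (MulAction.stabilizer G L).index = 2 := by rw [hidx]; omega
    obtain ⟨θ, hθ, he⟩ := eq_indFun_of_line χ ρ hρ _ h2' L ((hmemS L).1 hL).1 fun h hh => hh
    exact hprim _ (fun h => by rw [h, Subgroup.index_top] at h2'; exact absurd h2' (by norm_num))
      θ hθ he

end Cfsg.Agent.S4473
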