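import Cfsg.Statements.S4474
import Cfsg.Agent.Lib.Char.InvariantForm
import Cfsg.Agent.Lib.Char.Gallagher
import Mathlib.LinearAlgebra.Matrix.PosDef
import Mathlib.LinearAlgebra.FreeModule.Finite.Basic
-- import your own Cfsg.Agent.* helpers here

set_option autoImplicit false
open Cfsg

namespace Cfsg.Agent.S4474


open scoped ComplexConjugate ComplexOrder
open Matrix

variable {G : Type*} [Group G] [Fintype G] {n : ℕ}

/-- An antilinear involution commuting with a representation gives a real form. -/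
theorem exists_real_form (ρ : Representation ℂ G (Fin n → ℂ)) (K : (Fin n → ℂ) → (Fin n → ℂ))
    (hadd : ∀ u v, K (u + v) = K u + K v) (hsmul : ∀ (a : ℂ) v, K (a • v) = conj a • K v)
    (hKK : ∀ v, K (K v) = v) (hcomm : ∀ g v, K (ρ g v) = ρ g (K v)) :
    ∃ (m : ℕ) (σ : Representation ℝ G (Fin m → ℝ)),
      ∀ g : G, ((LinearMap.trace ℝ (Fin m → ℝ) (σ g) : ℝ) : ℂ) = ρ.character g := by
  classical
  let W : Submodule ℝ (Fin n → ℂ) :=
    { carrier := {v | K v = v}
      add_mem' := fun {u v} hu hv => by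
        show K (u + v) = u + v
        rw [hadd, hu, hv]
      zero_mem' := by
        show K 0 = 0
        have := hsmul 0 0
        simpa using this
      smul_mem' := fun r v hv => by
        show K (r • v) = r • v
        rw [← Complex.coe_smul, hsmul, hv, Complex.conj_ofReal] }
  let b := Module.finBasis ℝ W
  set m := Module.finrank ℝ W
  have hbfix : ∀ j, K ((b j : W) : Fin n → ℂ) = ((b j : W) : Fin n → ℂ) := fun j => (b j).2
  have hKsum : ∀ z : Fin m → ℂ, K (∑ j, z j • ((b j : W) : Fin n → ℂ)) =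
      ∑ j, conj (z j) • ((b j : W) : Fin n → ℂ) := by
    intro z
    let Kh : (Fin n → ℂ) →+ (Fin n → ℂ) := AddMonoidHom.mk' K hadd
    show Kh _ = _
    rw [map_sum]
    exact Finset.sum_congr rfl fun j _ => by
      show K _ = _
      rw [hsmul, hbfix]
  have hrepr : ∀ w : W, (w : Fin n → ℂ) =
      ∑ j, ((b.repr w j : ℝ) : ℂ) • ((b j : W) : Fin n → ℂ) := fun w => by
    exact (congrArg W.subtype (b.sum_repr w)).symm.trans ((map_sum _ _ _).trans
      (Finset.sum_congr rfl fun j _ => (map_smul _ _ _).trans (Complex.coe_smul _ _).symm))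
  have hli : LinearIndependent ℂ fun j => ((b j : W) : Fin n → ℂ) := by
    rw [Fintype.linearIndependent_iff]
    intro z hz j
    have hz' := congrArg K hz
    rw [hKsum, show K 0 = 0 from W.zero_mem] at hz'
    have hzero : ∀ c : Fin m → ℝ, (∑ j, ((c j : ℝ) : ℂ) • ((b j : W) : Fin n → ℂ)) = 0 →
        ∀ j, c j = 0 := fun c hc =>
      Fintype.linearIndependent_iff.1 b.linearIndependent c
        (Subtype.ext (by simpa [Complex.coe_smul] using hc))
    have hre := hzero (fun j => (z j).re) (by
      calc ∑ j, (((z j).re : ℝ) : ℂ) • ((b j : W) : Fin n → ℂ)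
          = (2 : ℂ)⁻¹ • (∑ j, z j • ((b j : W) : Fin n → ℂ) +
              ∑ j, conj (z j) • ((b j : W) : Fin n → ℂ)) := by
            rw [← Finset.sum_add_distrib, Finset.smul_sum]
            refine Finset.sum_congr rfl fun j _ => ?_
            rw [← add_smul, smul_smul]
            congr 1
            rw [Complex.add_conj]
            push_cast
            ring
        _ = 0 := by rw [hz, hz', add_zero, smul_zero]) j
    have him := hzero (fun j => (z j).im) (by
      calc ∑ j, (((z j).im : ℝ) : ℂ) • ((b j : W) : Fin n → ℂ)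
          = (2 * Complex.I)⁻¹ • (∑ j, z j • ((b j : W) : Fin n → ℂ) -
              ∑ j, conj (z j) • ((b j : W) : Fin n → ℂ)) := by
            rw [← Finset.sum_sub_distrib, Finset.smul_sum]
            refine Finset.sum_congr rfl fun j _ => ?_
            rw [← sub_smul, smul_smul]
            congr 1
            rw [Complex.sub_conj]
            push_cast
            field_simp
        _ = 0 := by rw [hz, hz', sub_zero, smul_zero]) j
    exact Complex.ext hre him
  have hspan : ⊤ ≤ Submodule.span ℂ (Set.range fun j => ((b j : W) : Fin n → ℂ)) := by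
    intro v _
    have hmem : ∀ w, K w = w → w ∈ Submodule.span ℂ (Set.range fun j => ((b j : W) : Fin n → ℂ)) := by
      intro w hw
      rw [show w = ((⟨w, hw⟩ : W) : Fin n → ℂ) from rfl, hrepr]
      exact Submodule.sum_mem _ fun j _ => Submodule.smul_mem _ _ (Submodule.subset_span ⟨j, rfl⟩)
    have h1 := hmem (v + K v) (by rw [hadd, hKK, add_comm])
    have h2 := hmem (Complex.I • v + (-Complex.I) • K v) (by
      rw [hadd, hsmul, hsmul, hKK, map_neg, Complex.conj_I, neg_neg, add_comm])
    have h3 : v = (2 : ℂ)⁻¹ • (v + K v) + (-Complex.I / 2) • (Complex.I • v + (-Complex.I) • K v) := by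
      rw [smul_add, smul_add, smul_smul, smul_smul]
      have hI : (-Complex.I / 2) * Complex.I = (2 : ℂ)⁻¹ := by
        rw [div_mul_eq_mul_div, neg_mul, Complex.I_mul_I]; norm_num
      rw [mul_neg, hI, neg_smul]
      module
    rw [h3]
    exact Submodule.add_mem _ (Submodule.smul_mem _ _ h1) (Submodule.smul_mem _ _ h2)
  let B := Module.Basis.mk hli hspan
  have hinv : ∀ g, ∀ w ∈ W, (ρ g).restrictScalars ℝ w ∈ W := fun g w hw => by
    show K (ρ g w) = ρ g w
    rw [hcomm, hw]
  let σW : Representation ℝ G W :=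
    { toFun := fun g => ((ρ g).restrictScalars ℝ).restrict (hinv g)
      map_one' := LinearMap.ext fun w => Subtype.ext (by simp)
      map_mul' := fun g h => LinearMap.ext fun w => Subtype.ext (by simp) }
  let σ : Representation ℝ G (Fin m → ℝ) := { toFun := fun g => b.equivFun.conj (σW g), map_one' := LinearMap.ext fun x => by rw [map_one, LinearEquiv.conj_apply_apply]; exact b.equivFun.apply_symm_apply x, map_mul' := fun g h => LinearMap.ext fun x => by simp [LinearEquiv.conj_apply_apply] }
  refine ⟨m, σ, fun g => ?_⟩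
  show ((LinearMap.trace ℝ _ (b.equivFun.conj (σW g)) : ℝ) : ℂ) = _
  rw [LinearMap.trace_conj', LinearMap.trace_eq_matrix_trace ℝ b, Representation.character,
    LinearMap.trace_eq_matrix_trace ℂ B, Matrix.trace, Matrix.trace]
  push_cast
  refine Finset.sum_congr rfl fun i _ => ?_
  rw [Matrix.diag_apply, Matrix.diag_apply, LinearMap.toMatrix_apply, LinearMap.toMatrix_apply]
  have h1 : ρ g (B i) = ∑ j, ((b.repr (σW g (b i)) j : ℝ) : ℂ) • B j := by
    simp only [B, Module.Basis.mk_apply]
    exact hrepr (σW g (b i))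
  rw [h1, B.repr_sum_self]


/-- Let χ be an irreducible character of the finite group G. Then the Frobenius–Schur indicator of χ (the average over s ∈ G of χ(s²)) equals 1 if and only if χ is afforded by a real representation: there is a representation of G on a real coordinate space whose trace function, viewed in ℂ, is χ. -/
theorem result {G : Type*} [Group G] [Fintype G] (χ : Cfsg.IrrCharacter G) : ((Nat.card G : ℂ)⁻¹ * ∑ s : G, (χ : G → ℂ) (s * s)) = 1 ↔ ∃ (n : ℕ) (ρ : Representation ℝ G (Fin n → ℝ)), ∀ g : G, ((LinearMap.trace ℝ (Fin n → ℝ) (ρ g) : ℝ) : ℂ) = (χ : G → ℂ) g := by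
  
  classical
  rw [← Char.fsIndicator_eq_sum]
  constructor
  · intro hν
    have hreal := Char.real_of_fsIndicator_eq_one χ hν
    obtain ⟨χ, n, ρ, hirr, rfl⟩ := χ
    haveI := hirr
    obtain ⟨⟨M, hM0, hM⟩, hsymm⟩ := Char.invariant_forms ρ (Char.avg_sq_eq_one ρ hirr hreal)
    have hMt : Mᵀ = M := by
      have := hsymm M hM
      rw [show Char.fsIndicator ρ.character = 1 from hν, one_smul] at this
      exact this
    set X : G → Matrix (Fin n) (Fin n) ℂ := fun g => LinearMap.toMatrix' (ρ g) with hX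
    have hXm : ∀ a b, X (a * b) = X a * X b := fun a b => by
      simp [hX, map_mul, LinearMap.toMatrix'_mul]
    have hX1 : X 1 = 1 := by simp [hX, map_one, Module.End.one_eq_id]
    have hXv : ∀ g v, ρ g v = X g *ᵥ v := fun g v => by
      rw [hX, LinearMap.toMatrix'_mulVec]
    set H : Matrix (Fin n) (Fin n) ℂ := ∑ h, (X h)ᴴ * X h with hHdef
    have hH : ∀ g, (X g)ᴴ * H * X g = H := fun g => by
      rw [hHdef, Finset.mul_sum, Finset.sum_mul]
      refine Fintype.sum_equiv (Equiv.mulRight g) _ _ fun h => ?_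
      simp [hXm, Matrix.mul_assoc, Matrix.conjTranspose_mul]
    have hpd : H.PosDef := by
      rw [hHdef, ← Finset.add_sum_erase _ _ (Finset.mem_univ (1 : G))]
      refine Matrix.PosDef.add_posSemidef ?_ (Matrix.posSemidef_sum _ fun h _ =>
        Matrix.posSemidef_conjTranspose_mul_self (X h))
      rw [hX1]
      simpa using Matrix.PosDef.one (n := Fin n) (R := ℂ)
    have hu : IsUnit H.det := (Matrix.isUnit_iff_isUnit_det H).1 hpd.isUnit
    set J : (Fin n → ℂ) → (Fin n → ℂ) := fun v => H⁻¹ *ᵥ star (M *ᵥ v) with hJ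
    have hHJ : ∀ v, H *ᵥ J v = star (M *ᵥ v) := fun v => by
      rw [hJ]; simp [Matrix.mulVec_mulVec, Matrix.mul_nonsing_inv _ hu]
    have hHinj : ∀ u v, H *ᵥ u = H *ᵥ v → u = v := fun u v h => by
      have := congrArg (H⁻¹ *ᵥ ·) h
      simpa [Matrix.mulVec_mulVec, Matrix.nonsing_inv_mul _ hu] using this
    have hJadd : ∀ u v, J (u + v) = J u + J v := fun u v => by
      simp [hJ, Matrix.mulVec_add]
    have hJsmul : ∀ (a : ℂ) v, J (a • v) = conj a • J v := fun a v => by
      simp only [hJ, Matrix.mulVec_smul, star_smul]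
      rfl
    have hM' : ∀ g, (X g)ᵀ * M * X g = M := hM
    have hJcomm : ∀ g v, J (ρ g v) = ρ g (J v) := fun g v => by
      apply hHinj
      rw [hHJ, hXv, hXv, Matrix.mulVec_mulVec, Matrix.mulVec_mulVec]
      have h1 : M * X g = (X g⁻¹)ᵀ * M := by
        conv_rhs => rw [← hM' g, ← Matrix.mul_assoc, ← Matrix.mul_assoc, ← Matrix.transpose_mul]
        rw [← hXm, mul_inv_cancel, hX1, Matrix.transpose_one, Matrix.one_mul]
      have h2 : H * X g = (X g⁻¹)ᴴ * H := by
        conv_rhs => rw [← hH g, ← Matrix.mul_assoc, ← Matrix.mul_assoc, ← Matrix.conjTranspose_mul]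
        rw [← hXm, mul_inv_cancel, hX1, Matrix.conjTranspose_one, Matrix.one_mul]
      rw [h1, h2, ← Matrix.mulVec_mulVec, ← Matrix.mulVec_mulVec, hHJ, Matrix.star_mulVec,
        ← Matrix.mulVec_transpose]
      rfl
    let φ : Representation.IntertwiningMap ρ ρ :=
      { toLinearMap :=
          { toFun := fun v => J (J v)
            map_add' := fun u v => by rw [hJadd, hJadd]
            map_smul' := fun a v => by rw [hJsmul, hJsmul, Complex.conj_conj]; rfl }
        isIntertwining' := fun g => LinearMap.ext fun v => by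
          show J (J (ρ g v)) = ρ g (J (J v))
          rw [hJcomm, hJcomm] }
    obtain ⟨c, hc⟩ :=
      (Representation.IsIrreducible.algebraMap_intertwiningMap_bijective_of_isAlgClosed (ρ := ρ)).2 φ
    have hJJ : ∀ v, J (J v) = c • v := fun v =>
      (LinearMap.congr_fun (congrArg Representation.IntertwiningMap.toLinearMap hc) v).symm
    -- positivity
    have hq : ∀ v, c * (star v ⬝ᵥ (H *ᵥ v)) = star (J v) ⬝ᵥ (H *ᵥ J v) := by
      intro v
      have e1 : star v ⬝ᵥ star (M *ᵥ J v) = c * (star v ⬝ᵥ (H *ᵥ v)) := by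
        rw [← hHJ, hJJ, Matrix.mulVec_smul, dotProduct_smul, smul_eq_mul]
      rw [← e1, hHJ, star_dotProduct_star, star_dotProduct_star]
      congr 1
      rw [dotProduct_comm, Matrix.dotProduct_mulVec, ← Matrix.mulVec_transpose, hMt, dotProduct_comm]
    obtain ⟨v₀, hv₀⟩ : ∃ v, M *ᵥ v ≠ 0 := by
      by_contra hall
      push Not at hall
      exact hM0 (Matrix.ext_of_mulVec_single fun i => by rw [hall, Matrix.zero_mulVec])
    have hv0 : v₀ ≠ 0 := fun h => hv₀ (by rw [h, Matrix.mulVec_zero])
    have hJv0 : J v₀ ≠ 0 := fun h => hv₀ (star_eq_zero.1 (by rw [← hHJ, h, Matrix.mulVec_zero]))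
    have hp1 := hpd.dotProduct_mulVec_pos hv0
    have hp2 := hpd.dotProduct_mulVec_pos hJv0
    rw [← hq v₀] at hp2
    obtain ⟨hp1r, hp1i⟩ := Complex.lt_def.1 hp1
    obtain ⟨hp2r, hp2i⟩ := Complex.lt_def.1 hp2
    simp only [Complex.zero_re, Complex.zero_im, Complex.mul_re, Complex.mul_im] at hp1r hp1i hp2r hp2i
    rw [← hp1i, mul_zero, sub_zero] at hp2r
    rw [← hp1i, mul_zero, zero_add] at hp2i
    have hcim : c.im = 0 := (mul_eq_zero.1 hp2i.symm).resolve_right hp1r.ne'
    have hcre : 0 < c.re := (mul_pos_iff_of_pos_right hp1r).1 hp2r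
    obtain ⟨r, hr, hr2⟩ : ∃ r : ℝ, 0 < r ∧ c = ((r * r : ℝ) : ℂ) :=
      ⟨Real.sqrt c.re, Real.sqrt_pos.2 hcre,
        Complex.ext (by simp [Real.mul_self_sqrt hcre.le]) (by simp [hcim])⟩
    refine exists_real_form ρ (fun v => ((r⁻¹ : ℝ) : ℂ) • J v) (fun u v => ?_) (fun a v => ?_)
      (fun v => ?_) (fun g v => ?_)
    · rw [hJadd, smul_add]
    · rw [hJsmul, smul_comm]
    · rw [hJsmul, hJJ, smul_smul, smul_smul, Complex.conj_ofReal, hr2]
      convert one_smul ℂ v
      push_cast
      field_simp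
    · rw [hJcomm, map_smul]
  · rintro ⟨m, σ, hσ⟩
    let X : G →* Matrix (Fin m) (Fin m) ℝ := LinearMap.toMatrixAlgEquiv'.toAlgHom.toMonoidHom.comp σ
    let A : G →* Matrix (Fin m) (Fin m) ℂ := Complex.ofRealHom.mapMatrix.toMonoidHom.comp X
    let τ : Representation ℂ G (Fin m → ℂ) := Matrix.toLinAlgEquiv'.toAlgHom.toMonoidHom.comp A
    have hA : ∀ g, LinearMap.toMatrix' (τ g) = (X g).map Complex.ofReal := fun g =>
      LinearMap.toMatrix'_toLin' _
    have hτ : τ.character = χ.1 := funext fun g => by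
      rw [Char.character_eq_trace, hA, ← hσ g,
        show LinearMap.trace ℝ (Fin m → ℝ) (σ g) = (X g).trace by
          rw [LinearMap.trace_eq_matrix_trace ℝ (Pi.basisFun ℝ (Fin m)),
            LinearMap.toMatrix_eq_toMatrix']; rfl]
      simp [Matrix.trace]
    have hreal : ∀ g, (χ.1 g).im = 0 := fun g => by rw [← hσ g]; exact Complex.ofReal_im _
    have hirr : τ.IsIrreducible :=
      Char.isIrreducible_of_classInner_eq_one τ (by rw [hτ]; exact Char.classInner_irr_self χ.2)
    obtain ⟨-, hsymm⟩ := Char.invariant_forms τ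
      (Char.avg_sq_eq_one τ hirr (by rw [hτ]; exact hreal))
    let R : Matrix (Fin m) (Fin m) ℝ := ∑ h, (X h)ᵀ * X h
    have hR : ∀ g, (X g)ᵀ * R * X g = R := fun g => by
      simp only [R, Finset.mul_sum, Finset.sum_mul]
      refine Fintype.sum_equiv (Equiv.mulRight g) _ _ fun h => ?_
      simp [map_mul, Matrix.mul_assoc, Matrix.transpose_mul]
    have hinv : ∀ g, (LinearMap.toMatrix' (τ g))ᵀ * R.map Complex.ofReal *
        LinearMap.toMatrix' (τ g) = R.map Complex.ofReal := fun g => by
      rw [hA]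
      show ((X g).map Complex.ofRealHom)ᵀ * R.map Complex.ofRealHom * (X g).map Complex.ofRealHom = _
      rw [← Matrix.transpose_map, ← Matrix.map_mul, ← Matrix.map_mul, hR]
      rfl
    have h1 := hsymm _ hinv
    rw [hτ, ← Matrix.transpose_map, show Rᵀ = R by
      simp [R, Matrix.transpose_sum, Matrix.transpose_mul]] at h1
    have hm : Nonempty (Fin m) := by
      have h2 := Char.IsIrrCharacter.apply_one_ne_zero χ.2
      rw [← congrFun hτ 1, Representation.char_one, Module.finrank_fin_fun, Nat.cast_ne_zero] at h2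
      exact ⟨⟨0, Nat.pos_of_ne_zero h2⟩⟩
    obtain ⟨i⟩ := hm
    have hii : (0 : ℝ) < R i i := by
      simp only [R, Matrix.sum_apply, Matrix.mul_apply, Matrix.transpose_apply]
      refine Finset.sum_pos' (fun h _ => Finset.sum_nonneg fun j _ => mul_self_nonneg _)
        ⟨1, Finset.mem_univ _, ?_⟩
      rw [map_one]
      simp [Matrix.one_apply]
    have h2 := congrFun (congrFun h1 i) i
    simp only [Matrix.map_apply, Matrix.smul_apply, smul_eq_mul] at h2
    exact (mul_eq_right₀ (Complex.ofReal_ne_zero.2 hii.ne')).1 h2.symm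


end Cfsg.Agent.S4474
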