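import Cfsg.Statements.S4476
import Cfsg.Agent.Lib.Char.RealChar
import Cfsg.Agent.Lib.Char.KernelSum
import Cfsg.Agent.Lib.BlockCount.PRegularSum

set_option autoImplicit false
open Cfsg

namespace Cfsg.Agent.S4476

/-- Let G be a finite group of even order g with exactly t involutions, and put α = (g − 1)/t (a rational number). Then (a) some non-identity element x of G has at most α² conjugates; and (b) some non-principal real-valued irreducible character of G has degree at most α. -/
theorem result {G : Type*} [Group G] [Fintype G] (heven : Even (Nat.card G)) (t : ℕ) (ht : Nat.card {x : G // orderOf x = 2} = t) : (∃ x : G, x ≠ 1 ∧ ((Subgroup.centralizer ({x} : Set G)).index : ℚ) ≤ (((Nat.card G : ℚ) - 1) / t) ^ 2) ∧ ∃ χ : Cfsg.IrrCharacter G, (χ : G → ℂ) ≠ (fun _ => 1) ∧ (∀ g : G, ((χ : G → ℂ) g).im = 0) ∧ (Cfsg.charDegree (χ : G → ℂ) : ℚ) ≤ ((Nat.card G : ℚ) - 1) / t := by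
  classical
  have ht0 : 0 < t := by
    rw [← ht]
    obtain ⟨x, hx⟩ := exists_prime_orderOf_dvd_card' 2 heven.two_dvd
    exact Nat.card_pos_iff.2 ⟨⟨x, hx⟩, inferInstance⟩
  -- square roots of `1`
  have hsq : Char.sqRootCount (1 : G) = (t : ℂ) + 1 := by
    have h1 : (Finset.univ.filter fun u : G => u * u = 1) =
        insert 1 (Finset.univ.filter fun u : G => orderOf u = 2) := by
      ext u
      simp only [Finset.mem_filter, Finset.mem_univ, true_and, Finset.mem_insert,
        orderOf_eq_prime_iff, sq]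
      by_cases hu : u = 1 <;> simp [hu]
    rw [Char.sqRootCount, Nat.card_eq_fintype_card, Fintype.card_subtype, h1,
      Finset.card_insert_of_notMem (by simp), ← ht, Nat.card_eq_fintype_card, Fintype.card_subtype]
    push_cast; ring
  let R : Finset (Cfsg.IrrCharacter G) := ((Finset.univ : Finset (Cfsg.IrrCharacter G)).filter fun χ =>
    ∀ g, (χ.1 g).im = 0).erase (Char.trivialChar G)
  have htriv : ∀ g, ((Char.trivialChar G : Cfsg.IrrCharacter G).1 g).im = 0 := fun g => by
    show (1 : ℂ).im = 0; simp
  have htd : t ≤ ∑ χ ∈ R, Char.degree χ := by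
    have h1 := Char.sqRootCount_eq_sum (1 : G)
    rw [hsq, ← Finset.sum_filter_add_sum_filter_not Finset.univ
      (fun χ : Cfsg.IrrCharacter G => ∀ g, ((χ : G → ℂ) g).im = 0),
      Finset.sum_eq_zero (s := Finset.univ.filter fun χ : Cfsg.IrrCharacter G => ¬ ∀ g, ((χ : G → ℂ) g).im = 0)
        (fun χ hχ => by rw [Char.fsIndicator_of_not_real χ (Finset.mem_filter.1 hχ).2, zero_mul]),
      add_zero, ← Finset.add_sum_erase _ _
        (Finset.mem_filter.2 ⟨Finset.mem_univ (Char.trivialChar G), htriv⟩)] at h1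
    have hnu : Char.fsIndicator (Char.trivialChar G).1 = 1 := by
      rw [Char.fsIndicator_eq_sum]
      show (Nat.card G : ℂ)⁻¹ * ∑ _g : G, (1 : ℂ) = 1
      simp [Nat.card_eq_fintype_card]
    rw [hnu, show (Char.trivialChar G).1 1 = 1 from rfl, one_mul, add_comm, add_right_inj] at h1
    have h2 : (t : ℝ) ≤ ∑ χ ∈ R, (Char.degree χ : ℝ) := by
      calc (t : ℝ) = ‖(t : ℂ)‖ := by simp
        _ ≤ ∑ χ ∈ R, ‖Char.fsIndicator (χ : G → ℂ) * (χ : G → ℂ) 1‖ := by
          rw [h1]; exact norm_sum_le _ _
        _ ≤ _ := Finset.sum_le_sum fun χ hχ => by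
          rw [Char.apply_one_eq_degree, norm_mul, Complex.norm_natCast]
          refine mul_le_of_le_one_left (by positivity) ?_
          rcases Char.fsIndicator_of_real χ (Finset.mem_filter.1 (Finset.mem_of_mem_erase hχ)).2
            with e | e <;> simp [e]
    exact_mod_cast h2
  have hQ : ∑ χ ∈ R, Char.degree χ ^ 2 ≤ Nat.card G - 1 := by
    have h1 : Char.degree (Char.trivialChar G) = 1 := by
      have := Char.apply_one_eq_degree (Char.trivialChar G)
      have h2 : ((Char.degree (Char.trivialChar G) : ℕ) : ℂ) = 1 := this.symm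
      exact_mod_cast h2
    calc ∑ χ ∈ R, Char.degree χ ^ 2
        ≤ ∑ χ ∈ (Finset.univ : Finset (Cfsg.IrrCharacter G)).erase (Char.trivialChar G),
            Char.degree χ ^ 2 :=
          Finset.sum_le_sum_of_subset (Finset.erase_subset_erase _ (Finset.subset_univ _))
      _ = Nat.card G - 1 := by
          rw [← Char.sum_degree_sq, ← Finset.add_sum_erase _ _ (Finset.mem_univ (Char.trivialChar G)),
            h1, one_pow, Nat.add_sub_cancel_left]
  have hR : R.Nonempty := by
    by_contra h
    rw [Finset.not_nonempty_iff_eq_empty.1 h] at htd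
    simp at htd
    omega
  obtain ⟨χ, hχR, hmin⟩ := R.exists_min_image Char.degree hR
  have hg1 : ((Nat.card G - 1 : ℕ) : ℚ) = (Nat.card G : ℚ) - 1 := by
    rw [Nat.cast_sub Nat.card_pos]; simp
  have htq : (0 : ℚ) < t := by exact_mod_cast ht0
  refine ⟨?_, χ, ?_, (Finset.mem_filter.1 (Finset.mem_of_mem_erase hχR)).2, ?_⟩
  · -- a small class
    let I : Finset (ConjClasses G) := Finset.univ.erase (ConjClasses.mk 1)
    have hk : R.card ≤ I.card := by
      refine le_trans (Finset.card_le_card (Finset.erase_subset_erase _ (Finset.subset_univ _))) ?_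
      rw [Finset.card_erase_of_mem (Finset.mem_univ _), Finset.card_erase_of_mem (Finset.mem_univ _),
        Finset.card_univ, Finset.card_univ, ← Nat.card_eq_fintype_card, ← Nat.card_eq_fintype_card,
        Char.card_irr]
    have hcs : t ^ 2 ≤ R.card * (Nat.card G - 1) := by
      refine le_trans (Nat.pow_le_pow_left htd 2) ?_
      refine le_trans ?_ (Nat.mul_le_mul_left _ hQ)
      exact sq_sum_le_card_mul_sum_sq
    have hI : I.Nonempty := by
      rw [← Finset.card_pos]
      exact lt_of_lt_of_le (Finset.card_pos.2 hR) hk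
    obtain ⟨C, hC, hCmin⟩ := I.exists_min_image (fun C => C.carrier.toFinset.card) hI
    obtain ⟨x, rfl⟩ := ConjClasses.exists_rep C
    refine ⟨x, fun h => (Finset.mem_erase.1 hC).1 (by rw [h]), ?_⟩
    have hsum : ∑ C ∈ I, C.carrier.toFinset.card = Nat.card G - 1 := by
      rw [Nat.card_eq_fintype_card, ← sum_conjClasses_card_eq_card,
        ← Finset.add_sum_erase _ _ (Finset.mem_univ (ConjClasses.mk (1 : G)))]
      have : (ConjClasses.mk (1 : G)).carrier.toFinset.card = 1 := by
        rw [Finset.card_eq_one]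
        refine ⟨1, ?_⟩
        ext y
        simp [ConjClasses.mem_carrier_iff_mk_eq, ConjClasses.mk_eq_mk_iff_isConj, isConj_one_left]
      rw [this]
      simp [I]
    have hidx : (Subgroup.centralizer ({x} : Set G)).index =
        (ConjClasses.mk x).carrier.toFinset.card := by
      rw [BlockCount.card_carrier_eq_index, Nat.card_eq_fintype_card, Set.toFinset_card]
    rw [hidx, div_pow, le_div_iff₀ (by positivity), ← hg1]
    have h1 : I.card * (ConjClasses.mk x).carrier.toFinset.card ≤ Nat.card G - 1 := by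
      rw [← hsum]; simpa using Finset.card_nsmul_le_sum I _ _ hCmin
    have h2 : (ConjClasses.mk x).carrier.toFinset.card * t ^ 2 ≤ (Nat.card G - 1) ^ 2 := by
      calc (ConjClasses.mk x).carrier.toFinset.card * t ^ 2
          ≤ (ConjClasses.mk x).carrier.toFinset.card * (I.card * (Nat.card G - 1)) :=
            Nat.mul_le_mul_left _ (hcs.trans (Nat.mul_le_mul_right _ hk))
        _ ≤ (Nat.card G - 1) * (Nat.card G - 1) := by
            rw [← mul_assoc, mul_comm _ I.card]; exact Nat.mul_le_mul_right _ h1
        _ = _ := by ring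
    exact_mod_cast h2
  · intro h
    exact (Finset.mem_erase.1 hχR).1 (Subtype.ext h)
  · rw [le_div_iff₀ htq, ← hg1, Char.charDegree_eq_degree]
    have : Char.degree χ * t ≤ Nat.card G - 1 := by
      refine le_trans (Nat.mul_le_mul_left _ htd) (le_trans ?_ hQ)
      rw [Finset.mul_sum]
      exact Finset.sum_le_sum fun ψ hψ => by rw [sq]; exact Nat.mul_le_mul_right _ (hmin ψ hψ)
    exact_mod_cast this

end Cfsg.Agent.S4476
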