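import Cfsg.Statements.S4477
import Cfsg.Agent.Lib.Char.RealChar
import Cfsg.Agent.Lib.Char.Linear
import Cfsg.Agent.Lib.Char.PRegular
import Cfsg.Agent.Lib.PGroup.Basic
import Mathlib.GroupTheory.PGroup

set_option autoImplicit false
open Cfsg

namespace Cfsg.Agent.S4477

open Cfsg
open scoped ComplexConjugate

variable {G : Type*} [Group G] [Fintype G]

set_option linter.unusedSectionVars false
set_option linter.style.haveILetI false

/-- A unit-valued linear character as an irreducible character. -/
noncomputable def lin (lam : G →* ℂˣ) : IrrCharacter G :=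
  Char.linIrr ((Units.coeHom ℂ).comp lam)

theorem lin_apply (lam : G →* ℂˣ) (g : G) : (lin lam).1 g = (lam g : ℂ) := rfl

theorem lin_injective : Function.Injective (lin (G := G)) := fun a b h =>
  MonoidHom.ext fun g => Units.ext (congrFun (congrArg Subtype.val h) g)

/-- Multiplication by a linear character. -/
noncomputable def mulLin (lam : G →* ℂˣ) (χ : IrrCharacter G) : IrrCharacter G :=
  ⟨⇑((Units.coeHom ℂ).comp lam) * χ.1, Char.IsIrrCharacter.mul_linear χ.2 _⟩

theorem mulLin_apply (lam : G →* ℂˣ) (χ : IrrCharacter G) (g : G) :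
    (mulLin lam χ).1 g = (lam g : ℂ) * χ.1 g := rfl

theorem mulLin_mulLin (a b : G →* ℂˣ) (χ : IrrCharacter G) :
    mulLin a (mulLin b χ) = mulLin (a * b) χ :=
  Subtype.ext <| funext fun g => by
    simp only [mulLin_apply, MonoidHom.mul_apply, Units.val_mul, mul_assoc]

theorem mulLin_one (χ : IrrCharacter G) : mulLin 1 χ = χ :=
  Subtype.ext <| funext fun g => by simp [mulLin_apply]

theorem degree_mulLin (a : G →* ℂˣ) (χ : IrrCharacter G) :
    Char.degree (mulLin a χ) = Char.degree χ := by
  have h := Char.apply_one_eq_degree (mulLin a χ)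
  rw [mulLin_apply, map_one, Units.val_one, one_mul, Char.apply_one_eq_degree] at h
  exact (Nat.cast_injective (R := ℂ) h).symm

theorem conj_lin (a : G →* ℂˣ) (g : G) : conj ((a g : ℂ)) = ((a⁻¹ g : ℂˣ) : ℂ) := by
  have h := Char.normSq_linear ((Units.coeHom ℂ).comp a) g
  have h' : (a g : ℂ) * conj (a g : ℂ) = 1 := h
  rw [MonoidHom.inv_apply, Units.val_inv_eq_inv_val]
  exact eq_inv_of_mul_eq_one_right h'

theorem real_mulLin {a : G →* ℂˣ} {χ : IrrCharacter G} (hχ : ∀ g, (χ.1 g).im = 0)
    (ha : mulLin (a * a) χ = χ) : ∀ g, ((mulLin a χ).1 g).im = 0 := by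
  intro g
  rw [← Complex.conj_eq_iff_im, mulLin_apply, map_mul, conj_lin, Complex.conj_eq_iff_im.2 (hχ g)]
  conv_lhs => rw [← ha]
  rw [mulLin_apply, MonoidHom.mul_apply, MonoidHom.inv_apply, Units.val_mul,
    Units.val_inv_eq_inv_val]
  field_simp

/-- At most `χ(1)^2` linear characters fix `χ`. -/
theorem card_stab_le (χ : IrrCharacter G) (L : Finset (G →* ℂˣ))
    (hL : ∀ a ∈ L, mulLin a χ = χ) : L.card ≤ Char.degree χ ^ 2 := by
  classical
  obtain ⟨m, hm, hmi⟩ := Char.IsCharacter.exists_decomp
    (Char.IsCharacter.mul (Char.irr_isCharacter χ) (Char.IsCharacter.conj (Char.irr_isCharacter χ)))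
  have h1 : ∀ a ∈ L, m (lin a) = 1 := by
    intro a ha
    have := hmi (lin a)
    have h2 : classInner (χ.1 * fun g => conj (χ.1 g)) (lin a).1 =
        classInner χ.1 (mulLin a χ).1 := by
      simp only [classInner, Pi.mul_apply, mulLin_apply, lin_apply, map_mul]
      congr 1
      exact Finset.sum_congr rfl fun g _ => by ring
    rw [h2, hL a ha, Char.classInner_irr_self χ.2] at this
    exact_mod_cast this.symm
  have h3 : (Char.degree χ ^ 2 : ℕ) = ∑ ψ : IrrCharacter G, m ψ * Char.degree ψ := by
    have h4 := congrFun hm 1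
    simp only [Finset.sum_apply, Pi.smul_apply, Pi.mul_apply, smul_eq_mul,
      Char.apply_one_eq_degree, Complex.conj_natCast] at h4
    rw [sq]
    exact_mod_cast h4
  rw [h3]
  calc L.card = ∑ ψ ∈ L.image lin, m ψ * Char.degree ψ := by
        rw [Finset.sum_image fun a _ b _ h => lin_injective h, Finset.card_eq_sum_ones]
        refine Finset.sum_congr rfl fun a ha => ?_
        rw [h1 a ha, one_mul]
        have := Char.apply_one_eq_degree (lin a)
        rw [lin_apply, map_one, Units.val_one] at this
        exact_mod_cast this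
    _ ≤ _ := Finset.sum_le_sum_of_subset (Finset.subset_univ _)

open Classical in
/-- The real linear characters. -/
noncomputable def realLin (G : Type*) [Group G] : Subgroup (G →* ℂˣ) where
  carrier := {a | a * a = 1}
  one_mem' := mul_one 1
  mul_mem' := fun {a b} ha hb => by
    refine MonoidHom.ext fun g => ?_
    have h1 : a g * a g = 1 := DFunLike.congr_fun ha g
    have h2 : b g * b g = 1 := DFunLike.congr_fun hb g
    show a g * b g * (a g * b g) = 1
    rw [mul_mul_mul_comm, h1, h2, mul_one]
  inv_mem' := fun {a} ha => by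
    refine MonoidHom.ext fun g => ?_
    have h1 : a g * a g = 1 := DFunLike.congr_fun ha g
    show (a g)⁻¹ * (a g)⁻¹ = 1
    rw [← mul_inv_rev, h1, inv_one]

theorem mem_realLin {a : G →* ℂˣ} : a ∈ realLin G ↔ a * a = 1 := Iff.rfl

/-- Real irreducible characters of degree two. -/
abbrev DegTwo (G : Type*) [Group G] [Fintype G] : Type _ :=
  {χ : IrrCharacter G // (∀ g, (χ.1 g).im = 0) ∧ Char.degree χ = 2}

/-- Let G be a finite 2-group whose number of involutions is congruent to 1 modulo 4. Then G is cyclic or its commutator subgroup has index 4. -/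
theorem result {G : Type*} [Group G] [Finite G] (hG : IsPGroup 2 G) (ht : Nat.card {x : G // orderOf x = 2} % 4 = 1) : IsCyclic G ∨ (commutator G).index = 4 := by
  classical
  haveI := Fintype.ofFinite G
  haveI : Fact (Nat.Prime 2) := ⟨Nat.prime_two⟩
  haveI : Finite (G →* ℂ) := Nat.finite_of_card_ne_zero (by
    rw [Char.card_monoidHom_complex]; exact Subgroup.index_ne_zero_of_finite)
  let e : (G →* ℂˣ) ≃ (G →* ℂ) :=
    { toFun := fun a => (Units.coeHom ℂ).comp a
      invFun := fun a => a.toHomUnits
      left_inv := fun a => MonoidHom.ext fun g => Units.ext rfl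
      right_inv := fun a => MonoidHom.ext fun g => rfl }
  haveI : Finite (G →* ℂˣ) := Finite.of_equiv _ e.symm
  haveI := Fintype.ofFinite (G →* ℂˣ)
  have hA : Nat.card (G →* ℂˣ) = (commutator G).index := by
    rw [Nat.card_congr e, Char.card_monoidHom_complex]
  obtain ⟨α, hα⟩ := PGroup.index_eq_pow hG (commutator G)
  have hAp : IsPGroup 2 (G →* ℂˣ) := IsPGroup.of_card (n := α) (hA.trans hα)
  obtain ⟨r, hr⟩ := (hAp.to_subgroup (realLin G)).exists_card_eq
  rcases Nat.lt_or_ge r 2 with hr2 | hr2
  · -- at most one maximal subgroup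
    left
    let sgn : {M : Subgroup G // IsCoatom M} → (realLin G) := fun M =>
      haveI := PGroup.normal_of_isCoatom hG M.2
      ⟨{ toFun := fun g => if g ∈ M.1 then 1 else -1
         map_one' := by simp [M.1.one_mem]
         map_mul' := fun a b => by
           have hiff := Subgroup.mul_mem_iff_of_index_two (PGroup.index_of_isCoatom hG M.2) (a := a) (b := b)
           by_cases ha : a ∈ M.1 <;> by_cases hb : b ∈ M.1 <;> simp [ha, hb, hiff] },
        MonoidHom.ext fun g => by
          show (if g ∈ M.1 then (1 : ℂˣ) else -1) * (if g ∈ M.1 then (1 : ℂˣ) else -1) = 1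
          split_ifs <;> simp⟩
    have hne1 : ∀ M, sgn M ≠ 1 := by
      intro M h
      obtain ⟨g, hg⟩ : ∃ g, g ∉ M.1 := by
        by_contra hall
        push Not at hall
        exact M.2.1 (top_le_iff.1 fun g _ => hall g)
      have := congrArg (fun a : realLin G => ((a.1 g : ℂˣ) : ℂ)) h
      simp [sgn, hg] at this
      norm_num at this
    have hinj : Function.Injective sgn := by
      intro M N h
      refine Subtype.ext (Subgroup.ext fun g => ?_)
      have := congrArg (fun a : realLin G => ((a.1 g : ℂˣ) : ℂ)) h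
      by_cases hM : g ∈ M.1 <;> by_cases hN : g ∈ N.1 <;>
        simp [sgn, hM, hN] at this ⊢ <;> norm_num at this
    have hle : Nat.card (realLin G) ≤ 2 := by
      rw [hr]; calc 2 ^ r ≤ 2 ^ 1 := Nat.pow_le_pow_right two_pos (by omega)
        _ = 2 := pow_one 2
    have huniq : ∀ M N : {M : Subgroup G // IsCoatom M}, M = N := by
      intro M N
      by_contra hMN
      have h3 : ({1, sgn M, sgn N} : Finset (realLin G)).card = 3 := by
        rw [Finset.card_insert_of_notMem, Finset.card_insert_of_notMem, Finset.card_singleton]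
        · simp [hinj.ne hMN]
        · simp [(hne1 M).symm, (hne1 N).symm]
      have := Finset.card_le_univ ({1, sgn M, sgn N} : Finset (realLin G))
      rw [h3, ← Nat.card_eq_fintype_card] at this
      omega
    rcases subsingleton_or_nontrivial G with hsub | hnt
    · exact isCyclic_of_subsingleton
    obtain ⟨M, hM, -⟩ := (eq_top_or_exists_le_coatom (⊥ : Subgroup G)).resolve_left bot_ne_top
    obtain ⟨x, hx⟩ : ∃ x, x ∉ M := by
      by_contra hall
      push Not at hall
      exact hM.1 (top_le_iff.1 fun g _ => hall g)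
    refine ⟨⟨x, fun g => ?_⟩⟩
    rcases eq_top_or_exists_le_coatom (Subgroup.zpowers x) with h | ⟨N, hN, hle⟩
    · exact (h ▸ Subgroup.mem_top g : g ∈ Subgroup.zpowers x)
    · have hMN : M = N := congrArg Subtype.val (huniq ⟨M, hM⟩ ⟨N, hN⟩)
      exact absurd (hMN ▸ hle (Subgroup.mem_zpowers x)) hx
  · right
    by_contra hne
    have h4A : 4 ∣ Nat.card (realLin G) := by
      rw [hr]; exact pow_dvd_pow 2 hr2
    haveI : Fintype (DegTwo G) := Fintype.ofFinite {χ : IrrCharacter G // _}
    -- the number of real characters of degree two is even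
    have heven : 2 ∣ Fintype.card (DegTwo G) := by
      letI : MulAction (realLin G) (DegTwo G) :=
        { smul := fun a χ => ⟨mulLin a.1 χ.1, real_mulLin χ.2.1 (by
              rw [mem_realLin.1 a.2, mulLin_one]), by rw [degree_mulLin]; exact χ.2.2⟩
          one_smul := fun χ => Subtype.ext (mulLin_one _)
          mul_smul := fun a b χ => Subtype.ext (mulLin_mulLin _ _ _).symm }
      have hmod := (hAp.to_subgroup (realLin G)).card_modEq_card_fixedPoints (DegTwo G)
      rw [← Nat.card_eq_fintype_card, ← Nat.modEq_zero_iff_dvd]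
      refine hmod.trans ?_
      rw [Nat.modEq_zero_iff_dvd]
      have hstab : ∀ (χ : DegTwo G), χ ∈ MulAction.fixedPoints (realLin G) (DegTwo G) →
          Nat.card (realLin G) = 4 ∧ ∀ b : G →* ℂˣ, b * b ≠ 1 → mulLin b χ.1 ≠ χ.1 := by
        intro χ hfix
        have hsub : ∀ a ∈ Finset.univ.filter (fun a : G →* ℂˣ => a ∈ realLin G), mulLin a χ.1 = χ.1 :=
          fun a ha => congrArg Subtype.val (hfix ⟨a, (Finset.mem_filter.1 ha).2⟩)
        have hc : (Finset.univ.filter (fun a : G →* ℂˣ => a ∈ realLin G)).card =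
            Nat.card (realLin G) := by
          rw [Nat.card_eq_fintype_card, Fintype.card_subtype]
        have h1 := card_stab_le χ.1 _ hsub
        rw [hc, χ.2.2] at h1
        refine ⟨le_antisymm h1 (Nat.le_of_dvd Nat.card_pos h4A), fun b hb hfixb => ?_⟩
        have h2 := card_stab_le χ.1 (insert b (Finset.univ.filter (fun a : G →* ℂˣ => a ∈ realLin G)))
          (fun a ha => (Finset.mem_insert.1 ha).elim (fun h => h ▸ hfixb) (hsub a))
        rw [Finset.card_insert_of_notMem (by simp [mem_realLin, hb]), hc, χ.2.2] at h2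
        have := Nat.le_of_dvd Nat.card_pos h4A
        omega
      by_cases hF : Nonempty (MulAction.fixedPoints (realLin G) (DegTwo G))
      swap
      · rw [not_nonempty_iff] at hF
        simp
      obtain ⟨⟨χ₀, hχ₀⟩⟩ := hF
      have hR4 := (hstab χ₀ hχ₀).1
      -- a linear character of order four
      obtain ⟨b, hb⟩ : ∃ b : G →* ℂˣ, b * b ≠ 1 ∧ (b * b) * (b * b) = 1 := by
        obtain ⟨ν, hν⟩ : ∃ ν : G →* ℂˣ, ν * ν ≠ 1 := by
          by_contra hall
          push Not at hall
          refine hne ?_
          rw [← hA, ← hR4, (Subgroup.eq_top_iff' (realLin G)).2 hall, Subgroup.card_top]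
        obtain ⟨k, hk⟩ := IsPGroup.iff_orderOf.1 hAp ν
        have hk2 : 2 ≤ k := by
          by_contra hlt
          refine hν ?_
          refine (pow_two ν).symm.trans (orderOf_dvd_iff_pow_eq_one.1 ?_)
          rw [hk]
          exact dvd_trans (pow_dvd_pow 2 (by omega : k ≤ 1)) (by norm_num)
        refine ⟨ν ^ (2 ^ (k - 2)), ?_, ?_⟩
        · intro h
          replace h : (ν ^ 2 ^ (k - 2)) ^ 2 = 1 := (pow_two _).trans h
          rw [← pow_mul, ← pow_succ] at h
          have := orderOf_dvd_of_pow_eq_one h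
          rw [hk, Nat.pow_dvd_pow_iff_le_right (by norm_num)] at this
          omega
        · have hh : ((ν ^ 2 ^ (k - 2)) ^ 2) ^ 2 = 1 := by
            rw [← pow_mul (ν ^ 2 ^ (k - 2)), ← pow_mul, show 2 ^ (k - 2) * (2 * 2) = 2 ^ (k - 2) * 2 * 2 by ring, ← pow_succ, ← pow_succ,
              show k - 2 + 1 + 1 = k by omega, ← hk, pow_orderOf_eq_one]
          rw [pow_two, pow_two] at hh
          exact hh
      let τ : MulAction.fixedPoints (realLin G) (DegTwo G) →
          MulAction.fixedPoints (realLin G) (DegTwo G) := fun χ =>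
        ⟨⟨mulLin b χ.1.1, real_mulLin χ.1.2.1
            (congrArg Subtype.val (χ.2 ⟨b * b, hb.2⟩)), by rw [degree_mulLin]; exact χ.1.2.2⟩,
          fun a => Subtype.ext (by
            show mulLin a.1 (mulLin b χ.1.1) = mulLin b χ.1.1
            rw [mulLin_mulLin, show a.1 * b = b * a.1 from mul_comm a.1 b, ← mulLin_mulLin]
            exact congrArg (mulLin b) (congrArg Subtype.val (χ.2 a)))⟩
      haveI := Fintype.ofFinite (MulAction.fixedPoints (realLin G) (DegTwo G))
      rw [Nat.card_eq_fintype_card, ← CharP.cast_eq_zero_iff (ZMod 2) 2, ← Finset.card_univ,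
        Finset.card_eq_sum_ones, Nat.cast_sum]
      refine Finset.sum_involution (fun χ _ => τ χ) (fun χ _ => CharTwo.add_self_eq_zero _) ?_
        (fun χ _ => Finset.mem_univ _) (fun χ _ => ?_)
      · intro χ _ _ h
        exact (hstab χ.1 χ.2).2 b hb.1
          (congrArg (fun x => x.1.1) h)
      · refine Subtype.ext (Subtype.ext ?_)
        show mulLin b (mulLin b χ.1.1) = χ.1.1
        rw [mulLin_mulLin]
        exact congrArg Subtype.val (χ.2 ⟨b * b, hb.2⟩)
    -- count square roots of one modulo four
    have hsq : Char.sqRootCount (1 : G) = ((Nat.card {x : G // orderOf x = 2} + 1 : ℕ) : ℂ) := by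
      have h1 : (Finset.univ.filter fun u : G => u * u = 1) =
          insert 1 (Finset.univ.filter fun u : G => orderOf u = 2) := by
        ext u
        simp only [Finset.mem_filter, Finset.mem_univ, true_and, Finset.mem_insert,
          orderOf_eq_prime_iff, sq]
        by_cases hu : u = 1 <;> simp [hu]
      rw [Char.sqRootCount, Nat.card_eq_fintype_card, Fintype.card_subtype, h1,
        Finset.card_insert_of_notMem (by simp), Nat.card_eq_fintype_card, Fintype.card_subtype]
    choose nu hnu using fun χ : IrrCharacter G =>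
      (show ∃ z : ℤ, Char.fsIndicator χ.1 = (z : ℂ) ∧ ((z = 0 ∧ ¬ ∀ g, (χ.1 g).im = 0) ∨
          ((z = 1 ∨ z = -1) ∧ ∀ g, (χ.1 g).im = 0)) by
        by_cases h : ∀ g, (χ.1 g).im = 0
        · rcases Char.fsIndicator_of_real χ h with e | e
          · exact ⟨1, by simpa using e, Or.inr ⟨Or.inl rfl, h⟩⟩
          · exact ⟨-1, by simpa using e, Or.inr ⟨Or.inr rfl, h⟩⟩
        · exact ⟨0, by simpa using Char.fsIndicator_of_not_real χ h, Or.inl ⟨rfl, h⟩⟩)
    have htot : ((Nat.card {x : G // orderOf x = 2} + 1 : ℕ) : ℤ) =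
        ∑ χ : IrrCharacter G, nu χ * Char.degree χ := by
      have h1 := Char.sqRootCount_eq_sum (1 : G)
      rw [hsq] at h1
      simp only [(hnu _).1, Char.apply_one_eq_degree] at h1
      exact_mod_cast h1
    have hnu1 : ∀ χ : IrrCharacter G, Char.degree χ = 1 → (∀ g, (χ.1 g).im = 0) → nu χ = 1 := by
      intro χ hd hreal
      obtain ⟨lam, hlam⟩ := Char.IsCharacter.exists_monoidHom (Char.irr_isCharacter χ)
        (by rw [Char.apply_one_eq_degree, hd]; simp)
      have : Char.fsIndicator χ.1 = 1 := by
        rw [Char.fsIndicator_eq_sum]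
        have h1 : ∀ s : G, χ.1 (s * s) = 1 := by
          intro s
          have h2 := Char.normSq_linear lam s
          rw [← hlam] at hreal ⊢
          rw [Complex.conj_eq_iff_im.2 (hreal s), ← map_mul] at h2
          exact h2
        simp [h1, Nat.card_eq_fintype_card]
      rw [(hnu χ).1] at this
      exact_mod_cast this
    have hmod4 : ∀ χ : IrrCharacter G,
        ((4 : ℤ) ∣ nu χ * Char.degree χ - ((if Char.degree χ = 1 ∧ (∀ g, (χ.1 g).im = 0) then 1 else 0) +
          (if (∀ g, (χ.1 g).im = 0) ∧ Char.degree χ = 2 then 2 else 0))) := by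
      intro χ
      by_cases hreal : ∀ g, (χ.1 g).im = 0
      swap
      · rcases (hnu χ).2 with ⟨h0, -⟩ | ⟨-, h0⟩
        · simp [h0, hreal]
        · exact absurd h0 hreal
      obtain ⟨k, hk⟩ := hG.exists_card_eq
      obtain ⟨j, -, hj⟩ := (Nat.dvd_prime_pow Nat.prime_two).1
        (hk ▸ Char.degree_dvd_natCard χ)
      rcases j with _ | _ | j
      · simp [hnu1 χ (by simpa using hj) hreal, hj, hreal]
      · rcases (hnu χ).2 with ⟨h0, h0'⟩ | ⟨h0 | h0, -⟩
        · exact absurd hreal h0'
        · simp [h0, hj, hreal]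
        · simp [h0, hj, hreal]
      · have hne1 : Char.degree χ ≠ 1 ∧ Char.degree χ ≠ 2 := by
          have : 4 ≤ Char.degree χ := by
            rw [hj, pow_add, pow_add]; have := Nat.one_le_two_pow (n := j); omega
          omega
        rw [if_neg (fun h => hne1.1 h.1), if_neg (fun h => hne1.2 h.2), add_zero, sub_zero, hj]
        exact Dvd.dvd.mul_left (Int.natCast_dvd_natCast.2
          (pow_dvd_pow 2 (by omega : 2 ≤ j + 1 + 1))) _
    have hsum := Finset.dvd_sum (s := (Finset.univ : Finset (IrrCharacter G))) fun χ _ => hmod4 χ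
    rw [Finset.sum_sub_distrib, ← htot, Finset.sum_add_distrib, ← Finset.sum_filter,
      ← Finset.sum_filter, Finset.sum_const, Finset.sum_const] at hsum
    have hL : (Finset.univ.filter fun χ : IrrCharacter G =>
        Char.degree χ = 1 ∧ ∀ g, (χ.1 g).im = 0).card = Nat.card (realLin G) := by
      rw [Nat.card_eq_fintype_card, Fintype.card_subtype]
      symm
      refine Finset.card_bij (fun a _ => lin a) (fun a ha => ?_) (fun a _ b _ h => lin_injective h)
        (fun χ hχ => ?_)
      · refine Finset.mem_filter.2 ⟨Finset.mem_univ _, ?_, fun g => ?_⟩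
        · have := Char.apply_one_eq_degree (lin a)
          rw [lin_apply, map_one, Units.val_one] at this
          exact_mod_cast this.symm
        · have h1 : a⁻¹ = a := by
            exact MonoidHom.ext fun g => inv_eq_of_mul_eq_one_left (DFunLike.congr_fun (mem_realLin.1 (Finset.mem_filter.1 ha).2) g)
          rw [← Complex.conj_eq_iff_im, lin_apply, conj_lin, h1]
      · obtain ⟨-, hd, hreal⟩ := Finset.mem_filter.1 hχ
        obtain ⟨lam, hlam⟩ := Char.IsCharacter.exists_monoidHom (Char.irr_isCharacter χ)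
          (by rw [Char.apply_one_eq_degree, hd]; simp)
        refine ⟨lam.toHomUnits, Finset.mem_filter.2 ⟨Finset.mem_univ _, ?_⟩, Subtype.ext hlam⟩
        rw [mem_realLin]
        refine MonoidHom.ext fun g => Units.ext ?_
        have h2 := Char.normSq_linear lam g
        rw [← hlam] at hreal
        rw [Complex.conj_eq_iff_im.2 (hreal g)] at h2
        exact h2
    have hD : (Finset.univ.filter fun χ : IrrCharacter G =>
        (∀ g, (χ.1 g).im = 0) ∧ Char.degree χ = 2).card = Fintype.card (DegTwo G) := by
      rw [← Nat.card_eq_fintype_card, DegTwo, Nat.card_eq_fintype_card, Fintype.card_subtype]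
    rw [hL, hD] at hsum
    obtain ⟨u, hu⟩ := h4A
    obtain ⟨v, hv⟩ := heven
    obtain ⟨w, hw⟩ := hsum
    rw [hu, hv] at hw
    simp only [nsmul_eq_mul] at hw
    push_cast at hw
    omega

end Cfsg.Agent.S4477
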