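import Cfsg.Statements.S4478
import Cfsg.Agent.Lib.Char.RealChar
import Cfsg.Agent.Lib.Char.KernelSum
import Cfsg.Agent.Lib.Char.PRegular
import Cfsg.Agent.Lib.BlockCount.PRegularSum

set_option autoImplicit false
open Cfsg

namespace Cfsg.Agent.S4478

open scoped ComplexConjugate in
/-- A character whose degree has the full `p`-part vanishes on `p`-singular elements. -/
theorem vanish_of_full_part {G : Type*} [Group G] [Fintype G] {p : ℕ} (hp : p.Prime)
    (χ : Cfsg.IrrCharacter G) (h : p ^ (Nat.card G).factorization p ∣ Char.degree χ) (x : G)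
    (hx : p ∣ orderOf x) : χ.1 x = 0 := by
  classical
  have hle : (Nat.card G).factorization p ≤ (Char.degree χ).factorization p :=
    (hp.pow_dvd_iff_le_factorization (Char.degree_pos χ).ne').1 h
  have hg := Char.isGeneralizedCharacter_pPow_sub_smul_regFun hp χ
  rw [Nat.sub_eq_zero_of_le hle, pow_zero, Nat.cast_one, one_smul] at hg
  obtain ⟨z, hz⟩ := Char.IsGeneralizedCharacter.exists_int_classInner hg (Char.irr_isGeneralized χ)
  have h1 : ∀ g : G, Char.regFun p χ.1 g * conj (χ.1 g) =
      ((if p ∣ orderOf g then 0 else Complex.normSq (χ.1 g) : ℝ) : ℂ) := fun g => by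
    unfold Char.regFun
    split_ifs <;> simp [Complex.mul_conj]
  have h2 : ∀ g : G, χ.1 g * conj (χ.1 g) = ((Complex.normSq (χ.1 g) : ℝ) : ℂ) := fun g =>
    Complex.mul_conj _
  have h3 := Char.classInner_irr_self χ.2
  simp only [Cfsg.classInner, inv_mul_eq_iff_eq_mul₀ Char.card_ne_zero, h1, h2,
    ← Complex.ofReal_sum, mul_one] at hz h3
  have hS : ∑ g : G, Complex.normSq (χ.1 g) = (Nat.card G : ℝ) := by exact_mod_cast h3
  have hA : ∑ g : G, (if p ∣ orderOf g then 0 else Complex.normSq (χ.1 g)) =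
      (Nat.card G : ℝ) * z := by exact_mod_cast hz
  have hN : (0 : ℝ) < Nat.card G := by exact_mod_cast Nat.card_pos
  have hle' : ∀ g ∈ (Finset.univ : Finset G),
      (if p ∣ orderOf g then 0 else Complex.normSq (χ.1 g)) ≤ Complex.normSq (χ.1 g) := fun g _ => by
    split_ifs
    · exact Complex.normSq_nonneg _
    · exact le_rfl
  have hpos : (0 : ℝ) < ∑ g : G, (if p ∣ orderOf g then 0 else Complex.normSq (χ.1 g)) := by
    refine Finset.sum_pos' (fun g _ => ?_) ⟨1, Finset.mem_univ _, ?_⟩
    · split_ifs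
      · exact le_rfl
      · exact Complex.normSq_nonneg _
    · rw [orderOf_one, if_neg hp.not_dvd_one]
      exact Complex.normSq_pos.2 (Char.IsIrrCharacter.apply_one_ne_zero χ.2)
  have hz1 : (1 : ℝ) ≤ z := by
    have : 0 < z := by
      rw [hA] at hpos
      exact_mod_cast (pos_iff_pos_of_mul_pos hpos).1 hN
    exact_mod_cast this
  have heq : ∑ g : G, (if p ∣ orderOf g then 0 else Complex.normSq (χ.1 g)) =
      ∑ g : G, Complex.normSq (χ.1 g) := by
    refine le_antisymm (Finset.sum_le_sum hle') ?_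
    rw [hA, hS]
    exact le_mul_of_one_le_right hN.le hz1
  have := (Finset.sum_eq_sum_iff_of_le hle').1 heq x (Finset.mem_univ x)
  rw [if_pos hx] at this
  exact Complex.normSq_eq_zero.1 this.symm

/-- Let G be a finite group of even order and χ an irreducible character of G whose degree x is divisible by the full power of 2 dividing the order of G and, for every odd prime p such that G has an element of order 2p, by the full power of p dividing the order of G. Then all involutions of G are conjugate, the centralizer of every involution has order exactly x with x coprime to its index, and the Frobenius–Schur indicator of χ equals 1. -/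
theorem result {G : Type*} [Group G] [Fintype G] (heven : Even (Nat.card G)) (χ : Cfsg.IrrCharacter G) (h2 : 2 ^ (Nat.card G).factorization 2 ∣ Cfsg.charDegree (χ : G → ℂ)) (hp : ∀ p : ℕ, p.Prime → p ≠ 2 → (∃ g : G, orderOf g = 2 * p) → p ^ (Nat.card G).factorization p ∣ Cfsg.charDegree (χ : G → ℂ)) : (∀ s t : G, orderOf s = 2 → orderOf t = 2 → IsConj s t) ∧ (∀ s : G, orderOf s = 2 → Nat.card (Subgroup.centralizer ({s} : Set G)) = Cfsg.charDegree (χ : G → ℂ) ∧ (Nat.card (Subgroup.centralizer ({s} : Set G))).Coprime (Subgroup.centralizer ({s} : Set G)).index) ∧ (Nat.card G : ℂ)⁻¹ * ∑ g : G, (χ : G → ℂ) (g * g) = 1 := by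
  classical
  set d := Cfsg.charDegree (χ : G → ℂ) with hd
  have hdeg : d = Char.degree χ := Char.charDegree_eq_degree χ
  have hd1 : (χ : G → ℂ) 1 = (d : ℂ) := by rw [hdeg]; exact Char.apply_one_eq_degree χ
  have hdpos : 0 < d := hdeg ▸ Char.degree_pos χ
  have h2G : 2 ∣ Nat.card G := heven.two_dvd
  -- the relevant primes
  have hfull : ∀ q : ℕ, q.Prime → (q = 2 ∨ ∃ g : G, orderOf g = 2 * q) →
      q ^ (Nat.card G).factorization q ∣ d := by
    intro q hq h
    by_cases hq2 : q = 2
    · subst hq2; exact h2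
    · exact hp q hq hq2 (h.resolve_left hq2)
  have hvan : ∀ q : ℕ, q.Prime → (q = 2 ∨ ∃ g : G, orderOf g = 2 * q) → ∀ x : G, q ∣ orderOf x →
      (χ : G → ℂ) x = 0 := fun q hq h => vanish_of_full_part hq χ (hdeg ▸ hfull q hq h)
  have hord : ∀ s : G, 2 ∣ orderOf s → orderOf s ≠ 2 → (χ : G → ℂ) (s * s) = 0 := by
    intro s hs hs2
    obtain ⟨m, hm⟩ := hs
    have hm1 : m ≠ 1 := by rintro rfl; exact hs2 hm
    obtain ⟨q, hq, hqm⟩ := Nat.exists_prime_and_dvd hm1
    have hm0 : 0 < m := by have := orderOf_pos s; omega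
    have hss : orderOf (s * s) = m := by
      rw [← sq, orderOf_pow' s two_ne_zero, hm, Nat.gcd_eq_right (dvd_mul_right 2 m)]
      simp
    refine hvan q hq ?_ _ (hss.symm ▸ hqm)
    by_cases hq2 : q = 2
    · exact Or.inl hq2
    · refine Or.inr ⟨s ^ (m / q), ?_⟩
      have hne : m / q ≠ 0 := (Nat.div_pos (Nat.le_of_dvd hm0 hqm) hq.pos).ne'
      have hdvd : m / q ∣ 2 * m := Dvd.dvd.mul_left (Nat.div_dvd_of_dvd hqm) 2
      rw [orderOf_pow' s hne, hm, Nat.gcd_eq_right hdvd]
      refine Nat.div_eq_of_eq_mul_left (Nat.pos_of_ne_zero hne) ?_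
      rw [mul_assoc, Nat.mul_div_cancel' hqm]
  set t := (Finset.univ.filter fun s : G => orderOf s = 2).card with ht
  have ht0 : 0 < t := by
    obtain ⟨x, hx⟩ := exists_prime_orderOf_dvd_card' 2 h2G
    exact Finset.card_pos.2 ⟨x, Finset.mem_filter.2 ⟨Finset.mem_univ _, hx⟩⟩
  have hne : χ ≠ Char.trivialChar G := by
    intro h
    have h1 : (2 : ℕ) ∣ d := (dvd_pow_self 2 ((Nat.Prime.factorization_pos_of_dvd Nat.prime_two
      Nat.card_pos.ne' h2G).ne')).trans h2
    have h2' : (d : ℂ) = 1 := by rw [← hd1, h]; rfl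
    norm_cast at h2'
    omega
  have hodd0 : ∑ s ∈ Finset.univ.filter (fun s : G => ¬ 2 ∣ orderOf s), (χ : G → ℂ) (s * s) = 0 := by
    have hperm : ∑ s ∈ Finset.univ.filter (fun s : G => ¬ 2 ∣ orderOf s), (χ : G → ℂ) (s * s) =
        ∑ s ∈ Finset.univ.filter (fun s : G => ¬ 2 ∣ orderOf s), (χ : G → ℂ) s := by
      refine Finset.sum_nbij' (fun s => s ^ 2) (fun s => s ^ ((orderOf s + 1) / 2)) ?_ ?_ ?_ ?_ ?_
      · intro s hs
        simp only [Finset.mem_coe, Finset.mem_filter, Finset.mem_univ, true_and] at hs ⊢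
        exact fun h => hs (h.trans (orderOf_pow_dvd _))
      · intro s hs
        simp only [Finset.mem_coe, Finset.mem_filter, Finset.mem_univ, true_and] at hs ⊢
        exact fun h => hs (h.trans (orderOf_pow_dvd _))
      · intro s hs
        simp only [Finset.mem_coe, Finset.mem_filter, Finset.mem_univ, true_and] at hs
        have h1 : orderOf (s ^ 2) = orderOf s := Nat.Coprime.orderOf_pow
          (Nat.coprime_two_right.2 (Nat.odd_iff.2 (by omega)))
        rw [h1, ← pow_mul, show 2 * ((orderOf s + 1) / 2) = orderOf s + 1 by omega, pow_succ,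
          pow_orderOf_eq_one, one_mul]
      · intro s hs
        simp only [Finset.mem_coe, Finset.mem_filter, Finset.mem_univ, true_and] at hs
        rw [← pow_mul, show (orderOf s + 1) / 2 * 2 = orderOf s + 1 by omega, pow_succ,
          pow_orderOf_eq_one, one_mul]
      · intro s _; rw [sq]
    rw [hperm, Finset.sum_filter_of_ne]
    · exact Char.sum_apply_eq_zero hne
    · intro s _ hs h
      exact hs (hvan 2 Nat.prime_two (Or.inl rfl) s h)
  have hsum : ∑ s : G, (χ : G → ℂ) (s * s) = (t : ℂ) * d := by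
    rw [← Finset.sum_filter_add_sum_filter_not Finset.univ (fun s : G => orderOf s = 2)]
    have h1 : ∑ s ∈ Finset.univ.filter (fun s : G => orderOf s = 2), (χ : G → ℂ) (s * s) =
        (t : ℂ) * d := by
      rw [Finset.sum_congr rfl fun s hs => by
        rw [← sq, ← (Finset.mem_filter.1 hs).2, pow_orderOf_eq_one, hd1], Finset.sum_const,
        nsmul_eq_mul]
    rw [h1, add_eq_left]
    refine Eq.trans (Finset.sum_subset ?_ ?_).symm hodd0
    · intro s hs
      simp only [Finset.mem_filter, Finset.mem_univ, true_and] at hs ⊢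
      omega
    · intro s hs hs'
      simp only [Finset.mem_filter, Finset.mem_univ, true_and, not_not] at hs hs'
      exact hord s hs' hs
  have hnu : Char.fsIndicator (χ : G → ℂ) = (Nat.card G : ℂ)⁻¹ * ((t : ℂ) * d) := by
    rw [Char.fsIndicator_eq_sum, hsum]
  have hne0 : Char.fsIndicator (χ : G → ℂ) ≠ 0 := by
    rw [hnu]
    exact mul_ne_zero (inv_ne_zero Char.card_ne_zero)
      (mul_ne_zero (Nat.cast_ne_zero.2 ht0.ne') (Nat.cast_ne_zero.2 hdpos.ne'))
  have hnu1 : Char.fsIndicator (χ : G → ℂ) = 1 := by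
    rcases Char.fsIndicator_of_real χ ((Char.fsIndicator_ne_zero_iff χ).1 hne0) with e | e
    · exact e
    · exfalso
      rw [hnu, inv_mul_eq_iff_eq_mul₀ Char.card_ne_zero] at e
      have : ((t * d + Nat.card G : ℕ) : ℂ) = 0 := by push_cast; rw [e]; ring
      have := Nat.cast_eq_zero.1 this
      have := Nat.card_pos (α := G)
      omega
  have hg : Nat.card G = t * d := by
    rw [hnu, inv_mul_eq_iff_eq_mul₀ Char.card_ne_zero, mul_one] at hnu1
    exact_mod_cast hnu1.symm
  -- centralizers
  have hcent : ∀ s : G, orderOf s = 2 →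
      Nat.card (Subgroup.centralizer ({s} : Set G)) = d ∧
        (Nat.card (Subgroup.centralizer ({s} : Set G))).Coprime
          (Subgroup.centralizer ({s} : Set G)).index ∧
        (ConjClasses.mk s).carrier.toFinset = Finset.univ.filter fun x : G => orderOf x = 2 := by
    intro s hs
    set C := Subgroup.centralizer ({s} : Set G) with hC
    have hpi : ∀ q : ℕ, q.Prime → q ∣ Nat.card C → (q = 2 ∨ ∃ g : G, orderOf g = 2 * q) := by
      intro q hq hqd
      by_cases hq2 : q = 2
      · exact Or.inl hq2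
      haveI := Fact.mk hq
      obtain ⟨⟨x, hx⟩, hxo⟩ := exists_prime_orderOf_dvd_card' q hqd
      rw [Subgroup.orderOf_mk] at hxo
      refine Or.inr ⟨s * x, ?_⟩
      have hc : Commute s x := (Subgroup.mem_centralizer_singleton_iff.1 hx).symm
      rw [hc.orderOf_mul_eq_mul_orderOf_of_coprime, hs, hxo]
      rw [hs, hxo]; exact (Nat.coprime_primes Nat.prime_two hq).2 (Ne.symm hq2)
    have hdvd : Nat.card C ∣ d := by
      rw [Nat.dvd_iff_prime_pow_dvd_dvd]
      intro q k hq hk
      rcases Nat.eq_zero_or_pos k with rfl | hk0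
      · simp
      refine dvd_trans (pow_dvd_pow q ?_) (hfull q hq (hpi q hq ((dvd_pow_self q hk0.ne').trans hk)))
      exact (hq.pow_dvd_iff_le_factorization Nat.card_pos.ne').1
        (hk.trans C.card_subgroup_dvd_card)
    have hsub : (ConjClasses.mk s).carrier.toFinset ⊆
        Finset.univ.filter fun x : G => orderOf x = 2 := by
      intro x hx
      rw [Set.mem_toFinset, ConjClasses.mem_carrier_iff_mk_eq,
        ConjClasses.mk_eq_mk_iff_isConj] at hx
      obtain ⟨c, hc⟩ := isConj_iff.1 hx.symm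
      refine Finset.mem_filter.2 ⟨Finset.mem_univ _, ?_⟩
      rw [← hc, ← MulAut.conj_apply, MulEquiv.orderOf_eq, hs]
    have hidx : C.index = (ConjClasses.mk s).carrier.toFinset.card := by
      rw [hC, BlockCount.card_carrier_eq_index, Nat.card_eq_fintype_card, Set.toFinset_card]
    have hle := Finset.card_le_card hsub
    rw [← ht, ← hidx] at hle
    have h3 := C.card_mul_index
    rw [hg] at h3
    have hCd : Nat.card C = d := by
      refine le_antisymm (Nat.le_of_dvd hdpos hdvd) ?_
      by_contra hlt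
      push Not at hlt
      have := Nat.mul_lt_mul_of_lt_of_le hlt hle ht0
      rw [h3, mul_comm] at this
      exact lt_irrefl _ this
    refine ⟨hCd, ?_, Finset.eq_of_subset_of_card_le hsub ?_⟩
    · refine Nat.coprime_of_dvd fun q hq hqC hqI => ?_
      have h4 : q ^ (Nat.card G).factorization q ∣ Nat.card C := hCd ▸ hfull q hq (hpi q hq hqC)
      have h5 : q ^ ((Nat.card G).factorization q + 1) ∣ Nat.card G := by
        rw [pow_succ]
        exact (mul_dvd_mul h4 hqI).trans C.card_mul_index.dvd
      exact absurd ((hq.pow_dvd_iff_le_factorization Nat.card_pos.ne').1 h5) (by omega)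
    · rw [← ht, ← hidx]
      rw [hCd] at h3
      exact (Nat.eq_of_mul_eq_mul_left hdpos (by rw [h3, mul_comm])).ge
  refine ⟨fun s u hs hu => ?_, fun s hs => ⟨(hcent s hs).1, (hcent s hs).2.1⟩, ?_⟩
  · have h := (hcent s hs).2.2
    have hu' : u ∈ (ConjClasses.mk s).carrier.toFinset := by
      rw [h]; exact Finset.mem_filter.2 ⟨Finset.mem_univ _, hu⟩
    rw [Set.mem_toFinset, ConjClasses.mem_carrier_iff_mk_eq, ConjClasses.mk_eq_mk_iff_isConj] at hu'
    exact hu'.symm
  · rw [← hnu1, Char.fsIndicator_eq_sum]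

end Cfsg.Agent.S4478
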