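import Cfsg.Statements.S4483
import Cfsg.Agent.Lib.Blocks.SelfConjugate
import Cfsg.Agent.Lib.BlockCount.PrincipalSum
import Cfsg.Agent.Lib.Char.Basic

set_option autoImplicit false
open Cfsg

namespace Cfsg.Agent.S4483

/-- Let G be a finite group of order 2^n·g₀ with g₀ odd, and M a maximal ideal of the algebraic integers containing 2. Every real-valued irreducible character of G of odd degree lies in the principal 2-block; consequently G has at most 2^(2n) real-valued irreducible characters of odd degree. -/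
theorem result {G : Type*} [Group G] [Finite G] (M : Ideal Cfsg.AlgInt) (hM : Cfsg.IsPModular 2 M) : (∀ χ : Cfsg.IrrCharacter G, (∀ g : G, ((χ : G → ℂ) g).im = 0) → Odd (Cfsg.charDegree (χ : G → ℂ)) → χ ∈ Cfsg.principalBlock M G) ∧ Nat.card {χ : Cfsg.IrrCharacter G // (∀ g : G, ((χ : G → ℂ) g).im = 0) ∧ Odd (Cfsg.charDegree (χ : G → ℂ))} ≤ 2 ^ (2 * (Nat.card G).factorization 2) := by
  haveI := Fintype.ofFinite G
  haveI := hM.2.1
  haveI : Fact (Nat.Prime 2) := ⟨Nat.prime_two⟩
  have h1 : ∀ χ : Cfsg.IrrCharacter G, (∀ g : G, ((χ : G → ℂ) g).im = 0) →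
      Odd (Cfsg.charDegree (χ : G → ℂ)) → χ ∈ Cfsg.principalBlock M G := by
    intro χ hreal hodd
    have hconj : (fun g => (starRingEnd ℂ) ((χ : G → ℂ) g)) = (χ : G → ℂ) :=
      funext fun g => Complex.conj_eq_iff_im.2 (hreal g)
    refine Blocks.sameBlock_one_of_self_conj (by exact_mod_cast hM.2.2) χ ⟨_, hodd, ?_⟩ ?_
    · obtain ⟨n, -, hn⟩ := Char.IsIrrCharacter.exists_degree χ.2
      simp [Cfsg.charDegree, hn]
    · rw [hconj]
      intro g
      rw [sub_self]
      exact BlockCount.localIdeal_zero hM.2.1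
  refine ⟨h1, le_trans ?_ (BlockCount.card_principalBlock_le hM)⟩
  exact Nat.card_le_card_of_injective
    (fun χ => (⟨χ.1, h1 χ.1 χ.2.1 χ.2.2⟩ : Cfsg.principalBlock M G))
    fun a b h => Subtype.ext (congrArg (fun x : Cfsg.principalBlock M G => x.1) h)

end Cfsg.Agent.S4483
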