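import Cfsg.Statements.S4484
import Cfsg.Agent.Lib.BrauerBlichfeldt.Blichfeldt
import Cfsg.Agent.Lib.BrauerBlichfeldt.Eigen
import Cfsg.Agent.Lib.BNPair.DefectZero
import Cfsg.Agent.Lib.CharInt.Kazarin
import Cfsg.Agent.Lib.ZStar.Step
import Cfsg.Agent.Lib.ThreeDegrees.Induction

set_option autoImplicit false
open Cfsg Cfsg.Agent
open scoped ComplexConjugate InnerProductSpace

namespace Cfsg.Agent.S4484

/-- A refinement of Burnside's result on simple groups of order divisible by only two primes. Let G be a finite simple group of order p^a · q^b · g₀ with p, q distinct primes, a > 0, g₀ coprime to p and q, and the order of G different from p. Then g₀ − 1 > log p / log 6, that is 6^(g₀ − 1) > p. -/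
theorem result {G : Type*} [Group G] [Finite G] [IsSimpleGroup G] (p q a b g₀ : ℕ) (hp : p.Prime) (hq : q.Prime) (hpq : p ≠ q) (ha : 0 < a) (hg : Nat.card G = p ^ a * q ^ b * g₀) (hcop : ¬ p ∣ g₀) (hcoq : ¬ q ∣ g₀) (hne : Nat.card G ≠ p) : p < 6 ^ (g₀ - 1) := by
  classical
  haveI : Fact p.Prime := ⟨hp⟩
  by_contra hcon
  push Not at hcon
  have hG : p ∣ Nat.card G := ⟨p ^ (a - 1) * q ^ b * g₀, by
    rw [hg, ← mul_assoc, ← mul_assoc, ← pow_succ', Nat.sub_add_cancel ha]⟩
  have hcenter : Subgroup.center G = ⊥ := by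
    rcases (Subgroup.center G).normal_of_characteristic.eq_bot_or_eq_top with h | h
    · exact h
    exfalso
    letI : CommGroup G := Group.commGroupOfCenterEqTop h
    have hpr : (Nat.card G).Prime := IsSimpleGroup.prime_card
    exact hne ((hpr.eq_one_or_self_of_dvd p hG).resolve_left hp.ne_one).symm
  -- an element of order `p` in the centre of a Sylow subgroup
  let P : Sylow p G := default
  haveI : Nontrivial ↥(P : Subgroup G) :=
    (Subgroup.nontrivial_iff_ne_bot _).2 (P.ne_bot_of_dvd_card hG)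
  haveI := P.2.center_nontrivial
  obtain ⟨z, hz⟩ : ∃ z : Subgroup.center ↥(P : Subgroup G), orderOf z = p := by
    obtain ⟨j, hj⟩ := IsPGroup.iff_card.1 (P.2.to_subgroup (Subgroup.center ↥(P : Subgroup G)))
    refine exists_prime_orderOf_dvd_card' p ?_
    rw [hj]
    refine dvd_pow_self p fun h0 => ?_
    have := Finite.one_lt_card (α := Subgroup.center ↥(P : Subgroup G))
    rw [hj, h0, pow_zero] at this
    exact this.false
  obtain ⟨x, hxdef⟩ : ∃ x : G, x = ((z : ↥(P : Subgroup G)) : G) := ⟨_, rfl⟩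
  have hx : orderOf x = p := by rw [hxdef, Subgroup.orderOf_coe, Subgroup.orderOf_coe, hz]
  set C := (Subgroup.centralizer ({x} : Set G)).index with hC
  have hCp : ¬ p ∣ C := fun h => P.not_dvd_index (h.trans (Subgroup.index_dvd_of_le fun y hy => by
    rw [Subgroup.mem_centralizer_singleton_iff, hxdef]
    exact congrArg Subtype.val (Subgroup.mem_center_iff.1 z.2 ⟨y, hy⟩)))
  -- a character of the principal block
  obtain ⟨M, -, hM, hpM⟩ := CharInt.exists_isPModular_of_prime hp
  haveI := hM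
  haveI := Fintype.ofFinite G
  set B := principalBlock M G with hBdef
  have hB : IsPBlock M B := Blocks.isPBlock_principalBlock hpM
  have htriv : Char.trivialChar G ∈ B := Blocks.mem_blockOf_self (M := M) (Char.trivialChar G)
  have horth : ∑ χ ∈ Finset.univ.filter (· ∈ B), χ.1 1 * χ.1 x = 0 := by
    have h := Blocks.weak_orthogonality (p := p) hpM hB (x := (1 : G)) (y := x)
      (by simp [IsPRegular, hp.ne_one]) (by simp [IsPRegular, hx])
    have h2 := congrArg (starRingEnd ℂ) h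
    rw [map_sum, map_zero] at h2
    refine (Finset.sum_congr rfl fun χ _ => ?_).trans h2
    rw [map_mul, Complex.conj_conj, Char.apply_one_eq_degree, Complex.conj_natCast]
  obtain ⟨χ, hχB, hχ1, hχq, hχx⟩ : ∃ χ, χ ∈ B ∧ χ ≠ Char.trivialChar G ∧
      ¬ q ∣ Char.degree χ ∧ χ.1 x ≠ 0 := by
    by_contra hno
    push Not at hno
    have hS : IsIntegral ℤ (((-1 : ℤ) : ℂ) / (q : ℂ)) := by
      rw [← Finset.add_sum_erase _ _ (Finset.mem_filter.2 ⟨Finset.mem_univ _, htriv⟩),
        Char.trivialChar_apply, Char.trivialChar_apply, one_mul] at horth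
      rw [show (((-1 : ℤ) : ℂ)) = ∑ χ ∈ (Finset.univ.filter (· ∈ B)).erase (Char.trivialChar G),
          χ.1 1 * χ.1 x by push_cast; linear_combination -horth, Finset.sum_div]
      refine IsIntegral.sum _ fun χ hχ => ?_
      obtain ⟨hχ1, hχ⟩ := Finset.mem_erase.1 hχ
      by_cases hqd : q ∣ Char.degree χ
      · obtain ⟨t, ht⟩ := hqd
        rw [Char.apply_one_eq_degree, ht, Nat.cast_mul, mul_assoc,
          mul_div_cancel_left₀ _ (Nat.cast_ne_zero.2 hq.ne_zero)]
        exact (isIntegral_algebraMap (R := ℤ) (x := (t : ℤ))).mul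
          (CharInt.isIntegral_char (Char.irr_isCharacter χ) x) |> fun h => by simpa using h
      · rw [hno χ (Finset.mem_filter.1 hχ).2 hχ1 hqd, mul_zero, zero_div]
        exact isIntegral_zero
    have h1 := CharInt.dvd_of_isIntegral_div hq.ne_zero hS
    rw [dvd_neg] at h1
    exact hq.ne_one (Nat.dvd_one.1 (by exact_mod_cast h1))
  set d := Char.degree χ with hd
  have hdpos : 0 < d := Char.degree_pos χ
  obtain ⟨m, C', hdm, hCm, hmC⟩ : ∃ m C' : ℕ, d = Nat.gcd d C * m ∧ C = Nat.gcd d C * C' ∧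
      Nat.Coprime m C' := by
    have hg0 : 0 < Nat.gcd d C := Nat.gcd_pos_of_pos_left _ hdpos
    refine ⟨d / Nat.gcd d C, C / Nat.gcd d C, (Nat.mul_div_cancel' (Nat.gcd_dvd_left _ _)).symm,
      (Nat.mul_div_cancel' (Nat.gcd_dvd_right _ _)).symm, Nat.coprime_div_gcd_div_gcd hg0⟩
  set g := Nat.gcd d C with hgdef
  have hm : 0 < m := Nat.pos_of_ne_zero fun h => by rw [h, mul_zero] at hdm; omega
  have hC'p : ¬ p ∣ C' := fun h => hCp (hCm ▸ Dvd.dvd.mul_left h g)
  have hgg₀ : g ≤ g₀ := by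
    refine Nat.le_of_dvd (Nat.pos_of_ne_zero fun h => hcop (h ▸ dvd_zero p)) ?_
    have h1 : g ∣ p ^ a * q ^ b * g₀ :=
      hg ▸ (Nat.gcd_dvd_left d C).trans (ThreeDegrees.degree_dvd_card χ)
    refine Nat.Coprime.dvd_of_dvd_mul_left (Nat.Coprime.mul_right ?_ ?_) h1
    · exact (Nat.Coprime.pow_right _ ((hp.coprime_iff_not_dvd.2 fun h =>
        hCp (h.trans (Nat.gcd_dvd_right d C))).symm))
    · exact (Nat.Coprime.pow_right _ ((hq.coprime_iff_not_dvd.2 fun h =>
        hχq (h.trans (Nat.gcd_dvd_left d C))).symm))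
  have hg₀p : g₀ < p := by
    rcases Nat.lt_or_ge g₀ 2 with h | h
    · exact lt_of_lt_of_le h hp.two_le
    · exact lt_of_lt_of_le (by
        calc g₀ = (g₀ - 1) + 1 := by omega
          _ ≤ 2 ^ (g₀ - 1) := Nat.lt_two_pow_self
          _ < 6 ^ (g₀ - 1) := Nat.pow_lt_pow_left (by norm_num) (by omega)) hcon
  -- the quotient `χ x / m`
  have hω : centralChar χ.1 x = (C' : ℂ) * (χ.1 x / m) := by
    have hg0 : (g : ℂ) ≠ 0 := Nat.cast_ne_zero.2 (Nat.gcd_pos_of_pos_left _ hdpos).ne'
    have hm0 : (m : ℂ) ≠ 0 := Nat.cast_ne_zero.2 hm.ne'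
    rw [centralChar, ← hC, hCm, Char.apply_one_eq_degree, ← hd, hdm]
    push_cast
    field_simp
  have hint : IsIntegral ℤ (χ.1 x / (m : ℂ)) := by
    obtain ⟨u, v, huv⟩ := Int.isCoprime_iff_nat_coprime.2 (show Nat.Coprime
      (m : ℤ).natAbs (C' : ℤ).natAbs by simpa using hmC)
    have hm0 : (m : ℂ) ≠ 0 := Nat.cast_ne_zero.2 hm.ne'
    have e : χ.1 x / (m : ℂ) = (u : ℂ) * χ.1 x + (v : ℂ) * centralChar χ.1 x := by
      rw [hω]
      have h2 : (u : ℂ) * m + (v : ℂ) * C' = 1 := by exact_mod_cast huv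
      linear_combination -(χ.1 x / m) * h2 + (u : ℂ) * (div_mul_cancel₀ (χ.1 x) hm0)
    rw [e]
    exact ((CharInt.isIntegral_intCast u).mul (CharInt.isIntegral_char (Char.irr_isCharacter χ) x)).add
      ((CharInt.isIntegral_intCast v).mul (Blocks.isIntegral_centralChar χ x))
  have hcongr : Blocks.red M (χ.1 x / (m : ℂ)) = (g : AlgInt ⧸ M) := by
    have hsame := hχB x
    have hα := Blocks.memLocalRing_of_isIntegral (M := M) hint
    rw [hω, show centralChar (fun _ : G => (1 : ℂ)) x = (C : ℂ) by simp [centralChar, hC],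
      show (C : ℂ) - (C' : ℂ) * (χ.1 x / m) = (C' : ℂ) * ((g : ℂ) - χ.1 x / m) by
        rw [hCm]; push_cast; ring] at hsame
    have h1 := Blocks.MemLocalIdeal.mul_left
      (Blocks.memLocalRing_inv_natCast (p := p) hpM hC'p) hsame
    rw [← mul_assoc, inv_mul_cancel₀ (Nat.cast_ne_zero.2 fun h => hC'p (by rw [h]; exact dvd_zero p)),
      one_mul] at h1
    have h2 := Blocks.red_eq_zero_of_mem h1
    rw [Blocks.red_sub (Blocks.memLocalRing_natCast g) hα, Blocks.red_natCast, sub_eq_zero] at h2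
    exact h2.symm
  -- eigenvalues in a unitary realisation
  obtain ⟨V, _, _, _, R, hirr, hRχ, hR⟩ := BN.exists_unitary χ.2
  have hdV : Module.finrank ℂ V = d := by
    have h := R.char_one
    rw [hRχ, Char.apply_one_eq_degree] at h
    exact_mod_cast h.symm
  obtain ⟨bas, μ, hμ, hbas⟩ := CharInt.exists_eigenbasis_rho R x
  rw [hx] at hμ
  have hcard : (Finset.univ.image μ).card ≤ g := by
    have hval : χ.1 x = ∑ i, μ i := by
      rw [← hRχ]; exact CharInt.trace_of_eigenbasis bas hbas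
    rw [hval] at hint hcongr
    have h := BrauerBlichfeldt.card_eigen_le hpM hdm hm (hgg₀.trans_lt hg₀p)
      (μ ∘ finCongr hdV.symm) (fun i => hμ _)
      (by rwa [show (∑ i, (μ ∘ finCongr hdV.symm) i) = ∑ i, μ i from Equiv.sum_comp _ μ])
      (by rwa [show (∑ i, (μ ∘ finCongr hdV.symm) i) = ∑ i, μ i from Equiv.sum_comp _ μ])
    refine le_of_eq_of_le (congrArg Finset.card ?_) h
    ext w
    simp only [Finset.mem_image, Finset.mem_univ, true_and, Function.comp_apply]
    exact ⟨fun ⟨i, hi⟩ => ⟨(finCongr hdV.symm).symm i, by rw [Equiv.apply_symm_apply]; exact hi⟩,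
      fun ⟨i, hi⟩ => ⟨_, hi⟩⟩
  have i₀ : Fin (Module.finrank ℂ V) := ⟨0, by omega⟩
  have hbig : 6 ^ ((Finset.univ.image μ).card - 1) < p := by
    refine lt_of_le_of_ne ((Nat.pow_le_pow_right (by norm_num) (by omega)).trans hcon) fun he => ?_
    rcases Nat.eq_zero_or_pos ((Finset.univ.image μ).card - 1) with h0 | h0
    · rw [h0, pow_zero] at he; exact hp.ne_one he.symm
    · have h6 : 6 ∣ p := he ▸ dvd_pow_self 6 h0.ne'
      have := (Nat.dvd_prime hp).1 ((show 2 ∣ 6 by norm_num).trans h6)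
      have := (Nat.dvd_prime hp).1 ((show 3 ∣ 6 by norm_num).trans h6)
      omega
  obtain ⟨K, hK0, hKp, hK⟩ := BrauerBlichfeldt.exists_close_power hp (Finset.univ.image μ)
    (fun w hw => by obtain ⟨i, -, rfl⟩ := Finset.mem_image.1 hw; exact hμ i)
    (Finset.mem_image_of_mem μ (Finset.mem_univ i₀)) hbig
  have hxK : x ^ K ≠ 1 := fun h => by
    have := Nat.le_of_dvd hK0 (orderOf_dvd_of_pow_eq_one h)
    omega
  -- faithful
  have hinj : Function.Injective R := by
    have hker : R.ker = ⊥ := by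
      rcases (MonoidHom.normal_ker R).eq_bot_or_eq_top with h | h
      · exact h
      exfalso
      have h1 : ∀ u, R u = 1 := fun u => MonoidHom.mem_ker.1 (h ▸ Subgroup.mem_top u)
      have hχc : ∀ u, χ.1 u = χ.1 1 := fun u => by
        rw [← hRχ]; simp only [Representation.character, h1]
      exact hχ1 (ZStar.eq_trivialChar_of_const hχc)
    exact (MonoidHom.ker_eq_bot_iff R).1 hker
  set c := (μ i₀ ^ K)⁻¹ with hc
  have hμn : ∀ i, ‖μ i‖ = 1 := fun i => CharInt.norm_eq_one_of_pow_eq_one hp.ne_zero (hμ i)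
  have hcn : ‖c‖ = 1 := by rw [hc, norm_inv, norm_pow, hμn, one_pow, inv_one]
  have hL : ∀ i, (c • R (x ^ K)) (bas i) = (c * μ i ^ K) • bas i := fun i => by
    rw [LinearMap.smul_apply, map_pow, CharInt.pow_apply_eigenvector bas hbas, smul_smul]
  have hcenK := BrauerBlichfeldt.mem_center_of_close R hirr hR hinj (x ^ K) c hcn
    (fun u hu => BrauerBlichfeldt.norm_map_sub_lt bas (c • R (x ^ K)) (fun u v => by
        rw [LinearMap.smul_apply, LinearMap.smul_apply, inner_smul_left, inner_smul_right, hR,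
          ← mul_assoc, mul_comm (conj c) c, Complex.mul_conj, Complex.normSq_eq_norm_sq, hcn]
        simp)
      (fun i => c * μ i ^ K) hL (fun i => by rw [norm_mul, hcn, norm_pow, hμn, one_pow, one_mul])
      (fun i => hK (μ i) (Finset.mem_image_of_mem μ (Finset.mem_univ i))) hu)
    ⟨bas i₀, bas.ne_zero i₀, by
      rw [← LinearMap.smul_apply, hL, hc, inv_mul_cancel₀ (pow_ne_zero _ fun h => by
        simpa [h] using hμn i₀), one_smul]⟩
  rw [hcenter] at hcenK
  exact hxK (Subgroup.mem_bot.1 hcenK)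

end Cfsg.Agent.S4484
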