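import Cfsg.Statements.S4486
import Cfsg.Agent.Lib.TICent.Main

set_option autoImplicit false
open Cfsg

namespace Cfsg.Agent.S4486

/-- Let G be a finite group and p a prime dividing its order such that every non-identity element of a Sylow p-subgroup P has the same centralizer as P; let p^n be the order of P. If G has a non-principal irreducible character χ of degree x with x² < p^n − 1, then either G has a proper normal subgroup containing P, or G has a normal subgroup of index p^n and x = 1. -/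
theorem result {G : Type*} [Group G] [Finite G] (p : ℕ) (hp : p.Prime) (hpG : p ∣ Nat.card G) (P : Sylow p G) (hstar : ∀ x ∈ (P : Subgroup G), x ≠ 1 → Subgroup.centralizer ({x} : Set G) = Subgroup.centralizer ((P : Subgroup G) : Set G)) (n : ℕ) (hn : Nat.card P = p ^ n) (χ : Cfsg.IrrCharacter G) (h1 : (χ : G → ℂ) ≠ fun _ => 1) (hdeg : Cfsg.charDegree (χ : G → ℂ) ^ 2 + 1 < p ^ n) : (∃ K : Subgroup G, K.Normal ∧ K ≠ ⊤ ∧ (P : Subgroup G) ≤ K) ∨ ((∃ N : Subgroup G, N.Normal ∧ N.index = p ^ n) ∧ Cfsg.charDegree (χ : G → ℂ) = 1) := by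
  classical
  haveI : Fact p.Prime := ⟨hp⟩
  letI := Fintype.ofFinite G
  by_cases hK : ∃ K : Subgroup G, K.Normal ∧ K ≠ ⊤ ∧ (P : Subgroup G) ≤ K
  · exact Or.inl hK
  refine Or.inr ?_
  have hs : TICent.Star P := hstar
  have hno : TICent.NoProper P := fun K hn hle => by_contra fun h => hK ⟨K, hn, h, hle⟩
  have hψ : χ ≠ Char.trivialChar G := fun h => h1 (by rw [h]; rfl)
  have hdeg1 : (χ : G → ℂ) 1 = (Cfsg.charDegree (χ : G → ℂ) : ℂ) := by
    rw [Char.apply_one_eq_degree, Cfsg.charDegree, Char.apply_one_eq_degree, Complex.natCast_re,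
      Nat.floor_natCast]
  obtain ⟨hle, hone⟩ := TICent.core hs hno χ hψ hdeg1 (by rw [hn]; exact hdeg)
  obtain ⟨P', N, hN, hc⟩ := Transfer.hasNormalPComplement_of_normalizer_le_centralizer P hle
  refine ⟨⟨N, hN, ?_⟩, hone⟩
  rw [hc.symm.index_eq_card, Sylow.card_eq_multiplicity, ← Sylow.card_eq_multiplicity P]
  exact hn

end Cfsg.Agent.S4486
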