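import Cfsg.Statements.S4487
import Cfsg.Agent.Lib.Blocks.Core
import Cfsg.Agent.Lib.PCore.Basic

open scoped Cfsg.Agent.Blocks

set_option autoImplicit false
open Cfsg

namespace Cfsg.Agent.S4487

/-- Let G be a finite group and p a prime such that G has no non-trivial normal subgroup of order prime to p and C_G(O_p(G)) ≤ O_p(G). Then G has a single p-block: any two irreducible characters lie in the same block relative to every maximal ideal M of the algebraic integers containing p. -/
theorem result {G : Type*} [Group G] [Finite G] (p : ℕ) [Fact p.Prime] (M : Ideal Cfsg.AlgInt) (hM : Cfsg.IsPModular p M) (hcore : Cfsg.pPrimeCore p G = ⊥) (hconstr : Subgroup.centralizer ((Cfsg.pCore p G) : Set G) ≤ Cfsg.pCore p G) (χ ψ : Cfsg.IrrCharacter G) : Cfsg.SameBlock M (χ : G → ℂ) (ψ : G → ℂ) := by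
  haveI := hM.2.1
  have hpM := hM.2.2
  haveI := Blocks.charP_residue hpM
  haveI hQn : (Cfsg.pCore p G).Normal := PCore.pCore_normal
  have hQ : IsPGroup p (Cfsg.pCore p G) := PCore.isPGroup_pCore
  refine Blocks.sameBlock_of_regular hpM fun g hg => ?_
  by_cases hgC : ∀ x, IsConj g x → x ∉ Subgroup.centralizer ((Cfsg.pCore p G) : Set G)
  · have key : ∀ η : Cfsg.IrrCharacter G, Cfsg.MemLocalIdeal M (Cfsg.centralChar η.1 g) := by
      intro η
      have hz : Blocks.IsCentralElt (Blocks.classSum (Cfsg.AlgInt ⧸ M) g) :=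
        Blocks.isCentralElt_classSum g
      obtain ⟨n, hn⟩ := Blocks.isNilpotent_of_central (p := p) (Cfsg.pCore p G) hQ hz
        (fun x hx => by
          rw [Blocks.coeff_classSum, if_neg fun h => hgC x h hx])
      rw [← Blocks.redA_classSum, ← Blocks.redA_pow (Blocks.scoeff_classSum g),
        Blocks.redA_eq_zero_iff (Blocks.SCoeff.pow (Blocks.scoeff_classSum g) n)] at hn
      have := Blocks.memLocalIdeal_omega η
        (Blocks.IsCentralElt.pow (Blocks.isCentralElt_classSum g) n) hn
      rw [Blocks.omega_pow η (Blocks.isCentralElt_classSum g),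
        Blocks.omega_classSum (Blocks.irr_classFun η)] at this
      exact Blocks.MemLocalIdeal.of_pow (Blocks.memLocalRing_centralChar η g) this
    exact Blocks.MemLocalIdeal.sub (key χ) (key ψ)
  · push Not at hgC
    obtain ⟨x, hx, hxC⟩ := hgC
    obtain ⟨c, hc⟩ := isConj_iff.1 hx
    have h1 : g ∈ Cfsg.pCore p G := by
      have := hQn.conj_mem x (hconstr hxC) c⁻¹
      rwa [show c⁻¹ * x * c⁻¹⁻¹ = g by rw [← hc]; group] at this
    have hg1 : g = 1 := by
      obtain ⟨k, hk⟩ := IsPGroup.iff_orderOf.1 hQ ⟨g, h1⟩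
      rw [Subgroup.orderOf_mk] at hk
      have hk0 : k = 0 := by
        by_contra hk0
        exact hg (by rw [hk]; exact dvd_pow_self p hk0)
      rw [hk0, pow_zero, orderOf_eq_one_iff] at hk
      exact hk
    subst hg1
    have h2 : ∀ η : Cfsg.IrrCharacter G, Cfsg.centralChar η.1 1 = 1 := fun η => by
      rw [Cfsg.centralChar, mul_div_assoc, div_self (Blocks.irr_one_ne_zero η), mul_one]
      have : Subgroup.centralizer ({(1 : G)} : Set G) = ⊤ := by
        ext y; simp [Subgroup.mem_centralizer_singleton_iff]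
      rw [this, Subgroup.index_top, Nat.cast_one]
    rw [h2, h2, sub_self]
    exact Blocks.memLocalIdeal_zero

end Cfsg.Agent.S4487
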