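import Cfsg.Statements.S4488
import Cfsg.Agent.Lib.Char.RationalBound


set_option autoImplicit false
open Cfsg

namespace Cfsg.Agent.S4488

/-- Let the finite group G have a faithful p-rational character χ of degree n (all values of χ lie in the field generated over ℚ by a root of unity of order prime to p), and let p^a be the order of a Sylow p-subgroup of G. Then a ≤ Σ_{i ≥ 0} ⌊n / ((p − 1)·p^i)⌋ (a finite sum; the terms vanish once (p − 1)p^i > n). -/
theorem result {G : Type*} [Group G] [Finite G] (p : ℕ) (hp : p.Prime) (χ : G → ℂ) (hχ : Cfsg.IsCharacter G χ) (hfaith : ∀ g : G, χ g = χ 1 → g = 1) (hrat : (∃ r : ℕ, 0 < r ∧ ¬ p ∣ r ∧ ∀ g : G, χ g ∈ IntermediateField.adjoin ℚ ({Complex.exp (2 * Real.pi * Complex.I / r)} : Set ℂ))) (n : ℕ) (hn : Cfsg.charDegree χ = n) : (Nat.card G).factorization p ≤ ∑ i ∈ Finset.range (n + 1), n / ((p - 1) * p ^ i) := by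
  classical
  haveI := Fintype.ofFinite G
  haveI : Fact p.Prime := ⟨hp⟩
  obtain ⟨r, hr0, hpr, hval⟩ := hrat
  let P : Sylow p G := default
  set N := n / (p - 1) with hN
  have hrestr : IsCharacter (P : Subgroup G) (fun y : (P : Subgroup G) => χ y) :=
    Char.IsCharacter.restrict hχ (P : Subgroup G)
  have hint : ∀ y : (P : Subgroup G), ∃ z : ℤ, χ (y : G) = z := by
    intro y
    obtain ⟨e, he⟩ := IsPGroup.iff_orderOf.1 P.isPGroup' y
    refine Char.exists_int_of_forall_pow hrestr y fun k hk => ?_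
    have hc : (orderOf y).Coprime r := by
      rw [he]; exact Nat.Coprime.pow_left _ ((hp.coprime_iff_not_dvd).2 hpr)
    obtain ⟨k₁, hk₁, hk₁'⟩ := Nat.chineseRemainder hc k 1
    have hk₁co : k₁.Coprime (orderOf y * r) := by
      refine Nat.coprime_mul_iff_right.2 ⟨?_, ?_⟩
      · rw [Nat.Coprime, hk₁.gcd_eq]; exact hk
      · rw [Nat.Coprime, hk₁'.gcd_eq, Nat.gcd_one_left]
    haveI : NeZero (Nat.card G * r) := ⟨Nat.mul_ne_zero Nat.card_pos.ne' hr0.ne'⟩
    obtain ⟨U, hU⟩ := ZMod.unitsMap_surjective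
      (show orderOf y * r ∣ Nat.card G * r from
        mul_dvd_mul_right (by rw [← Subgroup.orderOf_coe]; exact orderOf_dvd_natCard _) r)
      (ZMod.unitOfCoprime k₁ hk₁co)
    set k₂ := (U : ZMod (Nat.card G * r)).val with hk₂
    have hk₂co : k₂.Coprime (Nat.card G * r) := ZMod.val_coe_unit_coprime U
    have hk₂mod : k₂ ≡ k₁ [MOD orderOf y * r] := by
      rw [← ZMod.natCast_eq_natCast_iff]
      have h := congrArg Units.val hU
      rw [ZMod.coe_unitOfCoprime, ZMod.unitsMap_def, Units.coe_map, MonoidHom.coe_coe,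
        ZMod.castHom_apply, ZMod.cast_eq_val] at h
      exact h
    obtain ⟨f, hf⟩ := CharInt.exists_ringHom_pow NeZero.out hk₂co
    have hfc : ∀ z : ℂ, z ^ Nat.card G = 1 → f z = z ^ k₂ := fun z hz =>
      hf z (by rw [pow_mul, hz, one_pow])
    set ζ := Complex.exp (2 * Real.pi * Complex.I / r) with hζ
    have hζr : ζ ^ r = 1 := (Complex.isPrimitiveRoot_exp r hr0.ne').pow_eq_one
    have hfζ : f ζ = ζ := by
      rw [hf ζ (by rw [Nat.mul_comm, pow_mul, hζr, one_pow]), pow_eq_pow_mod k₂ hζr,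
        show k₂ % r = 1 % r from (hk₂mod.of_dvd (dvd_mul_left r _)).trans hk₁', ← pow_eq_pow_mod 1 hζr,
        pow_one]
    have hfix : f (χ (y : G)) = χ (y : G) := by
      obtain ⟨x, hx⟩ : ∃ x : IntermediateField.adjoin ℚ ({ζ} : Set ℂ), (x : ℂ) = χ (y : G) :=
        ⟨⟨_, hval y⟩, rfl⟩
      rw [← hx]
      have hle : IntermediateField.adjoin ℚ ({ζ} : Set ℂ) ≤
          { toSubalgebra := AlgHom.equalizer f.toRatAlgHom (AlgHom.id ℚ ℂ)
            inv_mem' := fun a (ha : f a = a) => show f a⁻¹ = a⁻¹ by rw [map_inv₀, ha] } :=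
        IntermediateField.adjoin_le_iff.2 (Set.singleton_subset_iff.2 hfζ)
      exact hle x.2
    rw [CharInt.map_char_eq_pow hχ hfc] at hfix
    show χ ((y ^ k : (P : Subgroup G)) : G) = χ (y : G)
    rw [← hfix, show y ^ k = y ^ k₂ from pow_eq_pow_iff_modEq.2
      ((hk₂mod.of_dvd (dvd_mul_right _ r)).trans hk₁).symm, SubmonoidClass.coe_pow]
  have hdvd := Char.card_dvd_of_rational hp P.isPGroup' hrestr (d := n) (n := n)
    (by obtain ⟨d, hd⟩ := CharInt.exists_degree hχ; show χ ((1 : (P : Subgroup G)) : G) = _; rw [← hn, OneMemClass.coe_one, charDegree, hd]; simp) le_rfl hint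
  rw [show Nat.card (CharInt.charKernel hrestr) = 1 from Subgroup.card_eq_one.2 (eq_bot_iff.2
    fun y hy => Subgroup.mem_bot.2 (Subtype.ext (hfaith y hy))), one_mul,
    P.card_eq_multiplicity] at hdvd
  have h1 := (hp.pow_dvd_iff_le_factorization (Nat.mul_ne_zero (pow_ne_zero _ hp.ne_zero)
    (Nat.factorial_ne_zero _))).1 hdvd
  rw [Nat.factorization_mul (pow_ne_zero _ hp.ne_zero) (Nat.factorial_ne_zero _),
    Finsupp.add_apply, hp.factorization_pow, Finsupp.single_eq_same,
    Nat.factorization_factorial hp (b := n + 1)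
      ((Nat.log_le_self p N).trans_lt (Nat.lt_succ_of_le (Nat.div_le_self n (p - 1))))] at h1
  refine h1.trans (le_of_eq ?_)
  rw [Finset.range_eq_Ico, Finset.sum_eq_sum_Ico_succ_bot (Nat.succ_pos n), pow_zero, mul_one, ← hN]
  congr 1
  exact Finset.sum_congr rfl fun i _ => by rw [← Nat.div_div_eq_div_mul]

end Cfsg.Agent.S4488
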