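import Cfsg.Statements.S4490
import Cfsg.Agent.Lib.BlockLow.FullDefect
import Cfsg.Agent.Lib.Char.RealChar

set_option autoImplicit false
open Cfsg

namespace Cfsg.Agent.S4490

/-- Let G be a finite group and M a maximal ideal of the algebraic integers containing 2. Every 2-block B of G whose defect groups are the Sylow 2-subgroups of G (a block of full defect) and which is not the principal block is different from its complex-conjugate block, the block formed by the complex conjugates of the members of B. -/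
theorem result {G : Type*} [Group G] [Finite G] (M : Ideal Cfsg.AlgInt) (hM : Cfsg.IsPModular 2 M) (B : Set (Cfsg.IrrCharacter G)) (hB : Cfsg.IsPBlock M B) (P : Sylow 2 G) (hfull : Cfsg.IsDefectGroup 2 M B (P : Subgroup G)) (hnp : B ≠ Cfsg.principalBlock M G) : {ψ : Cfsg.IrrCharacter G | ∃ χ ∈ B, (ψ : G → ℂ) = fun g => (starRingEnd ℂ) ((χ : G → ℂ) g)} ≠ B := by
  classical
  intro hconj
  refine hnp ?_
  letI := Fintype.ofFinite G
  haveI := hM.2.1
  haveI : Fact (Nat.Prime 2) := ⟨Nat.prime_two⟩
  have h2M : (2 : Cfsg.AlgInt) ∈ M := by exact_mod_cast hM.2.2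
  obtain ⟨g, hg, Q, hQ⟩ := hfull
  have hPC : (P : Subgroup G) ≤ Subgroup.centralizer ({g} : Set G) := by
    rw [hQ]; exact Subgroup.map_subtype_le _
  obtain ⟨χ, hχB, hχ⟩ := BlockLow.exists_not_dvd_degree hM.2.2 hB hg.2.1 P hPC
  refine Blocks.block_eq_of_mem hB (Blocks.isPBlock_principalBlock hM.2.2) hχB
    (BlockLow.mem_principal_of_sym h2M hχ fun y _ => ?_)
  have hmem : Char.conjIrr χ ∈ B := by
    rw [← hconj]
    exact ⟨χ, hχB, rfl⟩
  have hblk := Blocks.sameBlock_of_mem hB hmem hχB y
  have hval : ∀ z : G, (Char.conjIrr χ : G → ℂ) z = (χ : G → ℂ) z⁻¹ := fun z =>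
    Char.IsCharacter.conj_apply (Char.irr_isCharacter χ) z
  have hci : Subgroup.centralizer ({y⁻¹} : Set G) = Subgroup.centralizer ({y} : Set G) := by
    ext z
    simp only [Subgroup.mem_centralizer_singleton_iff]
    exact ⟨fun e => (Commute.inv_right_iff.1 (e : Commute z y⁻¹)).eq,
      fun e => (Commute.inv_right (e : Commute z y)).eq⟩
  have he : Cfsg.centralChar (Char.conjIrr χ : G → ℂ) y = Cfsg.centralChar (χ : G → ℂ) y⁻¹ := by
    rw [Cfsg.centralChar, Cfsg.centralChar, hval, hval, inv_one, hci]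
  rwa [he] at hblk

end Cfsg.Agent.S4490
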