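import Cfsg.Statements.S4493
import Cfsg.Agent.Lib.Char.Ito
import Cfsg.Agent.Lib.Char.Descend
import Cfsg.Agent.Lib.Char.KernelSum

set_option autoImplicit false
open Cfsg

namespace Cfsg.Agent.S4493

open Cfsg.Agent.Char

universe u

/-- The degree of a constituent divides the degree of the character. -/
theorem exists_dvd_above {G : Type u} [Group G] [Finite G] (N : Subgroup G) [N.Normal]
    (θ : IrrCharacter N) : ∃ χ : IrrCharacter G, degree θ ∣ degree χ := by
  haveI := Fintype.ofFinite G
  haveI := Fintype.ofFinite N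
  obtain ⟨χ, hχ⟩ : ∃ χ : IrrCharacter G, classInner (indFun N θ.1) χ.1 ≠ 0 := by
    by_contra! h
    have h0 := eq_zero_of_classInner_irr (isClassFunction_indFun N θ.1) h
    have h1 := indFun_apply_one N θ.1
    rw [h0, Pi.zero_apply, eq_comm, mul_eq_zero] at h1
    rcases h1 with h1 | h1
    · exact Subgroup.index_ne_zero_of_finite (Nat.cast_eq_zero.1 h1)
    · exact IsIrrCharacter.apply_one_ne_zero θ.2 h1
  refine ⟨χ, ?_⟩
  rw [classInner_indFun N θ.1 (IsCharacter.isClassFunction (irr_isCharacter χ))] at hχ
  obtain ⟨e, he⟩ := IsCharacter.exists_nat_classInner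
    (IsCharacter.restrict (irr_isCharacter χ) N) (irr_isCharacter θ)
  have he' : classInner (resFun N χ.1) θ.1 = (e : ℂ) := he
  have hne : classInner (resFun N χ.1) θ.1 ≠ 0 := fun h => hχ (by
    rw [← conj_classInner]
    exact (congrArg _ h).trans (map_zero _))
  have h := apply_one_eq_mul_card_orbit N χ θ hne
  rw [he', apply_one_eq_degree, apply_one_eq_degree, ← Nat.cast_mul, ← Nat.cast_mul,
    Nat.cast_inj] at h
  exact Dvd.intro_left _ (by rw [h, mul_assoc])

/-- A nontrivial solvable group has a nontrivial abelian normal subgroup. -/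
theorem exists_abelian_normal {G : Type u} [Group G] [Nontrivial G] (hs : Group.IsSolvable G) :
    ∃ N : Subgroup G, N.Normal ∧ N ≠ ⊥ ∧ ∀ a ∈ N, ∀ b ∈ N, a * b = b * a := by
  classical
  have hex : ∃ n, derivedSeries G n = ⊥ := (isSolvable_def (G := G)).1 hs
  have hpos : Nat.find hex ≠ 0 := by
    intro h
    have := Nat.find_spec hex
    rw [h, derivedSeries_zero] at this
    exact absurd this top_ne_bot
  obtain ⟨k, hk⟩ := Nat.exists_eq_succ_of_ne_zero hpos
  refine ⟨derivedSeries G k, derivedSeries_normal G k, Nat.find_min hex (by omega), ?_⟩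
  intro a ha b hb
  have h := Nat.find_spec hex
  rw [hk, derivedSeries_succ] at h
  have h2 := (Subgroup.commutator_eq_bot_iff_le_centralizer.1 h) ha
  exact (Subgroup.mem_centralizer_iff.1 h2 b hb).symm

/-- A group all of whose degrees are prime to `p` has a normal abelian Sylow `p`-subgroup. -/
theorem backward (p : ℕ) (hp : p.Prime) : ∀ (n : ℕ) (G : Type u) [Group G] [Finite G],
    Nat.card G = n → Group.IsSolvable G → (∀ χ : IrrCharacter G, ¬ p ∣ degree χ) →
    ∃ P : Subgroup G, P.Normal ∧ (∀ x ∈ P, ∀ y ∈ P, x * y = y * x) ∧ IsPGroup p P ∧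
      ¬ p ∣ P.index := by
  intro n
  induction n using Nat.strong_induction_on with
  | _ n ih =>
    intro G _ _ hn hs hdeg
    haveI := Fact.mk hp
    haveI := Fintype.ofFinite G
    haveI := hs
    rcases subsingleton_or_nontrivial G with hG | hG
    · exact ⟨⊥, inferInstance, fun x _ y _ => Subsingleton.elim _ _, IsPGroup.of_bot, by
        rw [Subgroup.index_bot, Nat.card_unique]; exact hp.not_dvd_one⟩
    obtain ⟨N, hN, hN0, hNab⟩ := exists_abelian_normal hs
    have hlt : Nat.card (G ⧸ N) < n := by
      rw [← hn, Subgroup.card_eq_card_quotient_mul_card_subgroup N]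
      exact lt_mul_of_one_lt_right Nat.card_pos ((Subgroup.one_lt_card_iff_ne_bot N).2 hN0)
    have hdq : ∀ χ : IrrCharacter (G ⧸ N), ¬ p ∣ degree χ := by
      intro χ
      have h : degree (inflate N χ) = degree χ := by
        have h1 := apply_one_eq_degree (inflate N χ)
        rw [inflate_apply, QuotientGroup.mk_one, apply_one_eq_degree, Nat.cast_inj] at h1
        exact h1.symm
      rw [← h]
      exact hdeg _
    obtain ⟨Q, hQn, -, hQp, hQi⟩ := ih _ hlt (G ⧸ N) rfl inferInstance hdq
    set M := Q.comap (QuotientGroup.mk' N) with hM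
    haveI : M.Normal := hQn.comap _
    have hMi : ¬ p ∣ M.index := by
      rwa [hM, Subgroup.index_comap_of_surjective _ (QuotientGroup.mk'_surjective N)]
    by_cases hMtop : M = ⊤
    · -- every degree is a power of `p` and prime to `p`
      have hQtop : Q = ⊤ := Subgroup.comap_injective (QuotientGroup.mk'_surjective N)
        (hMtop.trans (Subgroup.comap_top _).symm)
      obtain ⟨k, hk⟩ : ∃ k, N.index = p ^ k := by
        rw [hQtop] at hQp
        obtain ⟨k, hk⟩ := IsPGroup.iff_card.1 hQp
        exact ⟨k, by rw [Subgroup.index_eq_card, ← hk, Subgroup.card_top]⟩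
      have hlin : ∀ χ : IrrCharacter G, χ.1 1 = 1 := by
        intro χ
        have hd := degree_dvd_index_of_comm N hNab χ
        rw [hk, Nat.dvd_prime_pow hp] at hd
        obtain ⟨i, -, hi⟩ := hd
        rcases Nat.eq_zero_or_pos i with rfl | hi0
        · rw [apply_one_eq_degree, hi, pow_zero, Nat.cast_one]
        · exact absurd (hi ▸ dvd_pow_self p hi0.ne') (hdeg χ)
      have hab := forall_apply_one_iff_comm.1 hlin
      obtain ⟨P⟩ : Nonempty (Sylow p G) := Sylow.nonempty
      exact ⟨P, ⟨fun x hx g => by rw [hab g x, mul_inv_cancel_right]; exact hx⟩,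
        fun x _ y _ => hab x y, P.2, Sylow.not_dvd_index P⟩
    · have hltM : Nat.card M < n := by
        refine hn ▸ lt_of_le_of_ne (Subgroup.card_le_card_group M) fun h => hMtop ?_
        exact Subgroup.eq_top_of_card_eq M h
      have hdM : ∀ θ : IrrCharacter M, ¬ p ∣ degree θ := fun θ h => by
        obtain ⟨χ, hχ⟩ := exists_dvd_above M θ
        exact hdeg χ (h.trans hχ)
      obtain ⟨P, hPn, hPab, hPp, hPi⟩ := ih _ hltM M rfl inferInstance hdM
      haveI := hPn
      haveI : (P.map M.subtype).Normal := by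
        refine ⟨fun x hx g => ?_⟩
        obtain ⟨y, hy, rfl⟩ := Subgroup.mem_map.1 hx
        let z : M := MulAut.conjNormal g y
        refine Subgroup.mem_map.2 ⟨z, ?_, MulAut.conjNormal_apply g y⟩
        -- a `p`-element of `M` lies in the normal Sylow subgroup
        obtain ⟨k, hk⟩ := hPp ⟨y, hy⟩
        have hk' : y ^ p ^ k = 1 := congrArg Subtype.val hk
        have hz : (QuotientGroup.mk' P z) ^ p ^ k = 1 := by
          rw [← map_pow]
          show QuotientGroup.mk' P ((MulAut.conjNormal g y) ^ p ^ k) = 1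
          rw [← map_pow, hk', map_one, map_one]
        have h1 : orderOf (QuotientGroup.mk' P z) = 1 := by
          refine Nat.eq_one_of_dvd_coprimes ?_ (orderOf_dvd_of_pow_eq_one hz)
            (Subgroup.index_eq_card P ▸ orderOf_dvd_natCard _)
          exact (hp.coprime_iff_not_dvd.2 hPi).pow_left k
        exact (QuotientGroup.eq_one_iff z).1 (orderOf_eq_one_iff.1 h1)
      refine ⟨P.map M.subtype, inferInstance, ?_, hPp.map _, ?_⟩
      · rintro _ ⟨x, hx, rfl⟩ _ ⟨y, hy, rfl⟩
        exact congrArg Subtype.val (hPab x hx y hy)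
      · rw [Subgroup.index_map_subtype]
        exact fun h => (hp.dvd_mul.1 h).elim hPi hMi

/-- Let G be a finite solvable group and p a prime. Then G has a normal abelian Sylow p-subgroup if and only if no irreducible character degree of G is divisible by p. -/
theorem result {G : Type*} [Group G] [Finite G] (hsolv : Group.IsSolvable G) (p : ℕ) (hp : p.Prime) : (∃ P : Subgroup G, P.Normal ∧ (∀ x ∈ P, ∀ y ∈ P, x * y = y * x) ∧ IsPGroup p P ∧ ¬ p ∣ P.index) ↔ ∀ χ : Cfsg.IrrCharacter G, ¬ p ∣ Cfsg.charDegree (χ : G → ℂ) := by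
  haveI := Fintype.ofFinite G
  simp only [charDegree_eq_degree]
  constructor
  · rintro ⟨P, hPn, hab, -, hi⟩ χ h
    haveI := hPn
    exact hi (h.trans (degree_dvd_index_of_comm P hab χ))
  · intro h
    exact backward p hp _ G rfl hsolv h

end Cfsg.Agent.S4493
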