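import Cfsg.Statements.S4497
import Cfsg.Agent.Lib.CentPrime.Basic
import Cfsg.Agent.Lib.PCore.Basic


set_option autoImplicit false
open Cfsg

namespace Cfsg.Agent.S4497

/-- Let the finite group G contain an element x of prime order p with C_G(x) = ⟨x⟩, let t be the number of conjugacy classes of elements of order p, and let S* = O_{p′}(G) be the largest normal subgroup of order prime to p. Then S* ≤ G′; if t ≠ p − 1 the quotient G′/S* is simple (in particular non-trivial); if t = p − 1 then G′ = S*. -/
theorem result {G : Type*} [Group G] [Finite G] (p : ℕ) (hp : p.Prime) (x : G) (hx : orderOf x = p) (hC : Subgroup.centralizer ({x} : Set G) = Subgroup.zpowers x) (t : ℕ) (ht : Nat.card {C : ConjClasses G // ∃ g ∈ C.carrier, orderOf g = p} = t) : Cfsg.pPrimeCore p G ≤ commutator G ∧ (t ≠ p - 1 → ∀ h : ((Cfsg.pPrimeCore p G).subgroupOf (commutator G)).Normal, IsSimpleGroup (↥(commutator G) ⧸ (Cfsg.pPrimeCore p G).subgroupOf (commutator G))) ∧ (t = p - 1 → commutator G = Cfsg.pPrimeCore p G) := by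
  haveI : Fact p.Prime := ⟨hp⟩
  have hxS : x ∉ pPrimeCore p G :=
    CentPrime.not_mem_of_not_dvd hx PCore.not_dvd_card_pPrimeCore
  have hSK : pPrimeCore p G ≤ commutator G := CentPrime.le_commutator_of_not_mem hx hC hxS
  refine ⟨hSK, fun hne h => ?_, fun heq => le_antisymm ?_ hSK⟩
  · have hpK := (CentPrime.dvd_commutator_iff hx hC ht).2 hne
    have hxK := CentPrime.mem_of_dvd hx hC hpK
    haveI : Nontrivial (↥(commutator G) ⧸ (pPrimeCore p G).subgroupOf (commutator G)) :=
      ⟨⟨QuotientGroup.mk ⟨x, hxK⟩, 1, fun he => hxS ((QuotientGroup.eq_one_iff (⟨x, hxK⟩ : commutator G)).1 he)⟩⟩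
    refine ⟨fun Lq hLq => ?_⟩
    let π := QuotientGroup.mk' ((pPrimeCore p G).subgroupOf (commutator G))
    have hsurj : Function.Surjective π := QuotientGroup.mk'_surjective _
    haveI : (Lq.comap π).Normal := hLq.comap π
    by_cases hd : p ∣ Nat.card (Lq.comap π)
    · right
      have hall : ∀ y : commutator G, orderOf y = p → y ∈ Lq.comap π := by
        intro y hy
        refine CentPrime.mem_of_dvd hy ?_ hd
        have hy' : orderOf (y : G) = p := by rw [Subgroup.orderOf_coe, hy]
        refine le_antisymm (fun z hz => ?_) (Subgroup.zpowers_le.2 (CentPrime.mem_cen_iff.2 rfl))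
        rw [CentPrime.mem_cen_iff] at hz
        have hz' : (z : G) ∈ Subgroup.centralizer ({(y : G)} : Set G) :=
          CentPrime.mem_cen_iff.2 (congrArg Subtype.val hz)
        rw [CentPrime.centralizer_eq hx hC hy'] at hz'
        obtain ⟨k, hk⟩ := Subgroup.mem_zpowers_iff.1 hz'
        exact Subgroup.mem_zpowers_iff.2 ⟨k, Subtype.ext (by simpa using hk)⟩
      let M : Subgroup G := Subgroup.closure {g | orderOf g = p}
      haveI : M.Normal := ⟨fun a ha g => by
        refine (?_ : M.map (MulAut.conj g).toMonoidHom ≤ M) ⟨a, ha, rfl⟩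
        rw [MonoidHom.map_closure]
        refine Subgroup.closure_mono ?_
        rintro _ ⟨b, hb, rfl⟩
        exact (MulEquiv.orderOf_eq (MulAut.conj g) b).trans hb⟩
      have hxM : x ∈ M := Subgroup.subset_closure hx
      have hpM : p ∣ Nat.card M := by
        have := Subgroup.card_dvd_of_le (Subgroup.zpowers_le.2 hxM)
        rwa [CentPrime.card_zpowers' hx] at this
      have hKM := CentPrime.commutator_le_of_dvd hx hC hpM
      have hML : M ≤ (Lq.comap π).map (commutator G).subtype := by
        rw [Subgroup.closure_le]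
        intro g hg
        have hgK : g ∈ commutator G := CentPrime.mem_of_dvd hg (CentPrime.centralizer_eq hx hC hg) hpK
        exact ⟨⟨g, hgK⟩, hall ⟨g, hgK⟩ (by rw [← Subgroup.orderOf_coe]; exact hg), rfl⟩
      rw [eq_top_iff]
      intro q _
      obtain ⟨k, rfl⟩ := hsurj q
      obtain ⟨k', hk', hkk⟩ := hML (hKM k.2)
      rw [← show k' = k from Subtype.ext hkk]
      exact hk'
    · left
      have hle := PCore.le_pPrimeCore (hp.coprime_iff_not_dvd.2 hd).symm
      rw [PCore.pPrimeCore_normal_subgroup_eq] at hle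
      rw [eq_bot_iff]
      intro q hq
      obtain ⟨k, rfl⟩ := hsurj q
      exact Subgroup.mem_bot.2 ((QuotientGroup.eq_one_iff k).2 (hle (show k ∈ Lq.comap π from hq)))
  · exact PCore.le_pPrimeCore (hp.coprime_iff_not_dvd.2 fun hd =>
      (CentPrime.dvd_commutator_iff hx hC ht).1 hd heq).symm

end Cfsg.Agent.S4497
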