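import Cfsg.Statements.S4498
import Cfsg.Agent.Lib.Blocks.Core

set_option autoImplicit false
open Cfsg

namespace Cfsg.Agent.S4498

/-- Let p and q be distinct primes dividing the order of the finite group G, and suppose G has no element of order p·q. Fix maximal ideals M_p over p and M_q over q of the algebraic integers. Then the principal p-block and the principal q-block of G have a non-principal irreducible character in common. -/
theorem result {G : Type*} [Group G] [Finite G] (p q : ℕ) [Fact p.Prime] [Fact q.Prime] (hpq : p ≠ q) (hp : p ∣ Nat.card G) (hq : q ∣ Nat.card G) (hno : ∀ g : G, orderOf g ≠ p * q) (Mp Mq : Ideal Cfsg.AlgInt) (hMp : Cfsg.IsPModular p Mp) (hMq : Cfsg.IsPModular q Mq) : ∃ χ : Cfsg.IrrCharacter G, (χ : G → ℂ) ≠ (fun _ => 1) ∧ χ ∈ Cfsg.principalBlock Mp G ∧ χ ∈ Cfsg.principalBlock Mq G := by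
  classical
  letI := Fintype.ofFinite G
  haveI := hMp.2.1
  haveI := hMq.2.1
  by_contra hcon
  push Not at hcon
  obtain ⟨x, hx⟩ := exists_prime_orderOf_dvd_card' p hp
  obtain ⟨y, hy⟩ := exists_prime_orderOf_dvd_card' q hq
  set A := Finset.univ.filter (· ∈ Cfsg.principalBlock Mp G) with hA
  set B := Finset.univ.filter (· ∈ Cfsg.principalBlock Mq G) with hB
  set F : G → ℂ := ∑ χ ∈ A, (starRingEnd ℂ) ((χ : G → ℂ) x) • (χ : G → ℂ) with hF
  set H : G → ℂ := ∑ χ ∈ B, (starRingEnd ℂ) ((χ : G → ℂ) y) • (χ : G → ℂ) with hH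
  have hFz : ∀ g : G, ¬ p ∣ orderOf g → F g = 0 := by
    intro g hg
    rw [hF, Finset.sum_apply]
    refine Eq.trans ?_ (Blocks.weak_orthogonality hMp.2.2 (Blocks.isPBlock_principalBlock hMp.2.2)
      (x := g) (y := x) hg (by rw [Blocks.not_isPRegular_iff, hx]))
    exact Finset.sum_congr rfl fun χ _ => by rw [Pi.smul_apply, smul_eq_mul, mul_comm]
  have hHz : ∀ g : G, ¬ q ∣ orderOf g → H g = 0 := by
    intro g hg
    rw [hH, Finset.sum_apply]
    refine Eq.trans ?_ (Blocks.weak_orthogonality hMq.2.2 (Blocks.isPBlock_principalBlock hMq.2.2)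
      (x := g) (y := y) hg (by rw [Blocks.not_isPRegular_iff, hy]))
    exact Finset.sum_congr rfl fun χ _ => by rw [Pi.smul_apply, smul_eq_mul, mul_comm]
  have h0 : Cfsg.classInner F H = 0 := by
    rw [Cfsg.classInner, Finset.sum_eq_zero, mul_zero]
    intro g _
    by_cases h1 : p ∣ orderOf g
    · by_cases h2 : q ∣ orderOf g
      · exfalso
        obtain ⟨k, hk⟩ := ((Nat.coprime_primes Fact.out Fact.out).2 hpq).mul_dvd_of_dvd_of_dvd h1 h2
        refine hno (g ^ k) ?_
        have hk0 : k ≠ 0 := fun h => (orderOf_pos g).ne' (by rw [hk, h, mul_zero])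
        rw [orderOf_pow' _ hk0, hk, Nat.gcd_mul_left_left,
          Nat.mul_div_cancel _ (Nat.pos_of_ne_zero hk0)]
      · rw [hHz g h2, map_zero, mul_zero]
    · rw [hFz g h1, zero_mul]
  have htA : Char.trivialChar G ∈ A := by
    simp only [hA, Finset.mem_filter, Finset.mem_univ, true_and]
    exact Blocks.mem_blockOf_self (Char.trivialChar G)
  have htB : Char.trivialChar G ∈ B := by
    simp only [hB, Finset.mem_filter, Finset.mem_univ, true_and]
    exact Blocks.mem_blockOf_self (Char.trivialChar G)
  have h1 : Cfsg.classInner F H = 1 := by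
    rw [hF, Char.classInner_sum_left, Finset.sum_eq_single (Char.trivialChar G)]
    · rw [hH, Char.classInner_smul_left, Char.classInner_sum_right,
        Finset.sum_eq_single (Char.trivialChar G)]
      · rw [Char.classInner_smul_right, Char.classInner_irr, if_pos rfl]
        simp [Char.trivialChar]
      · intro ψ _ hne
        rw [Char.classInner_smul_right, Char.classInner_irr, if_neg (Ne.symm hne), mul_zero]
      · exact fun h => absurd htB h
    · intro χ hχ hne
      rw [hH, Char.classInner_smul_left, Char.classInner_sum_right, Finset.sum_eq_zero, mul_zero]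
      intro ψ hψ
      rw [Char.classInner_smul_right, Char.classInner_irr, if_neg, mul_zero]
      rintro rfl
      simp only [hA, hB, Finset.mem_filter, Finset.mem_univ, true_and] at hχ hψ
      exact hcon χ (fun h => hne (Subtype.ext h)) hχ hψ
    · exact fun h => absurd htA h
  rw [h0] at h1
  exact zero_ne_one h1

end Cfsg.Agent.S4498
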