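import Cfsg.Statements.S4500
import Cfsg.Agent.Lib.BlockLow.Valuation

set_option autoImplicit false
open Cfsg

namespace Cfsg.Agent.S4500

universe u

open Cfsg in
/-- A nonprincipal irreducible character whose degree is a power of `q`. -/
theorem side {G : Type u} [Group G] [Finite G] [Nontrivial G] (p q r a b c : ℕ) (hp : p.Prime)
    (hq : q.Prime) (hr : r.Prime) (hpq : p ≠ q) (hpr : p ≠ r) (hqr : q ≠ r) (ha : a ≤ 2)
    (hG : Nat.card G = p ^ a * q ^ b * r ^ c) :
    ∃ χ : IrrCharacter G, (χ : G → ℂ) ≠ (fun _ => 1) ∧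
      ∃ k : ℕ, charDegree (χ : G → ℂ) = q ^ k := by
  classical
  letI := Fintype.ofFinite G
  haveI := Fact.mk hp
  haveI := Fact.mk hr
  have hppos := hp.pos
  have hap : (Nat.card G).factorization p = a := by
    rw [hG, Nat.factorization_mul (by positivity [hq.pos]) (pow_ne_zero _ hr.ne_zero),
      Nat.factorization_mul (pow_ne_zero _ hp.ne_zero) (pow_ne_zero _ hq.ne_zero)]
    simp [hp.factorization_pow, hq.factorization_pow, hr.factorization_pow, Finsupp.single_apply,
      Ne.symm hpq, Ne.symm hpr]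
  -- a central element of a Sylow r-subgroup
  obtain ⟨y, hy1, hyr, hyK⟩ : ∃ y : G, (c ≠ 0 → y ≠ 1) ∧ (∃ k, orderOf y = r ^ k) ∧
      ¬ r ∣ (Subgroup.centralizer ({y} : Set G)).index := by
    let R : Sylow r G := default
    rcases Nat.eq_zero_or_pos c with rfl | hc
    · refine ⟨1, fun h => absurd rfl h, ⟨0, by simp⟩, ?_⟩
      have : Subgroup.centralizer ({(1 : G)} : Set G) = ⊤ := by
        ext z; simp [Subgroup.mem_centralizer_singleton_iff]
      rw [this, Subgroup.index_top]
      exact hr.not_dvd_one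
    have hR : Nontrivial (R : Subgroup G) := by
      rw [← Finite.one_lt_card_iff_nontrivial, Sylow.card_eq_multiplicity]
      refine Nat.one_lt_pow (fun h => ?_) hr.one_lt
      rw [hG, Nat.factorization_mul (by positivity [hq.pos]) (pow_ne_zero _ hr.ne_zero),
        Nat.factorization_mul (pow_ne_zero _ hp.ne_zero) (pow_ne_zero _ hq.ne_zero)] at h
      simp [hr.factorization_pow, hp.factorization_pow, hq.factorization_pow,
        Finsupp.single_apply] at h
      omega
    haveI := IsPGroup.center_nontrivial (p := r) (G := (R : Subgroup G)) R.isPGroup'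
    obtain ⟨⟨z, hzc⟩, hz⟩ := exists_ne (1 : Subgroup.center (R : Subgroup G))
    refine ⟨z, fun _ h => hz (Subtype.ext (Subtype.ext h)), ?_, fun hd => ?_⟩
    · obtain ⟨k, hk⟩ := IsPGroup.iff_orderOf.1 R.isPGroup' z
      exact ⟨k, by rw [Subgroup.orderOf_coe, hk]⟩
    · have hle : (R : Subgroup G) ≤ Subgroup.centralizer ({(z : G)} : Set G) := by
        intro u hu
        rw [Subgroup.mem_centralizer_singleton_iff]
        exact congrArg Subtype.val (Subgroup.mem_center_iff.1 hzc ⟨u, hu⟩)
      exact R.not_dvd_index (hd.trans (Subgroup.index_dvd_of_le hle))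
  have hyP : ¬ p ∣ orderOf y := by
    obtain ⟨k, hk⟩ := hyr
    rw [hk]
    exact fun h => hpr ((Nat.prime_dvd_prime_iff_eq hp hr).1 (hp.dvd_of_dvd_pow h))
  -- a finite set of characters with vanishing sum, all of degree prime to `p`
  obtain ⟨S, e, hS0, hSp, hint, hsum⟩ : ∃ (S : Finset (IrrCharacter G))
      (e : IrrCharacter G → ℂ), Char.trivialChar G ∈ S ∧
      (∀ χ ∈ S, ¬ p ∣ Char.degree χ) ∧
      (∀ χ ∈ S, IsIntegral ℤ (e χ) ∧ (e (Char.trivialChar G) = 1)) ∧
      (c = 0 → a = 0 → ∃ χ ∈ S, χ ≠ Char.trivialChar G) ∧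
      ((c = 0 ∧ a = 0) ∨ ∑ χ ∈ S, χ.1 y * e χ = 0) := by
    rcases Nat.eq_zero_or_pos a with ha0 | ha0
    · refine ⟨Finset.univ, fun χ => χ.1 1, Finset.mem_univ _, fun χ _ hd => ?_,
        fun χ _ => ⟨CharInt.isIntegral_char (Char.irr_isCharacter χ) 1, rfl⟩, fun _ _ => ?_, ?_⟩
      · have h := (hd.trans (BlockCount.charDegree_eq_degree χ ▸
          BlockCount.charDegree_dvd_card χ : Char.degree χ ∣ Nat.card G))
        have := (hp.dvd_iff_one_le_factorization Nat.card_pos.ne').1 h
        omega
      · by_contra hall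
        push Not at hall
        haveI : Subsingleton (IrrCharacter G) :=
          ⟨fun χ ψ => (hall χ (Finset.mem_univ _)).trans (hall ψ (Finset.mem_univ _)).symm⟩
        haveI : Finite (ConjClasses G) := Finite.of_surjective _ ConjClasses.mk_surjective
        have h1 : Nat.card (ConjClasses G) ≤ 1 := by
          rw [← Char.card_irr]; exact Finite.card_le_one_iff_subsingleton.2 inferInstance
        have := Finite.card_le_one_iff_subsingleton.1 h1
        obtain ⟨g, hg⟩ := exists_ne (1 : G)
        exact hg (isConj_one_left.1 (ConjClasses.mk_eq_mk_iff_isConj.1 (Subsingleton.elim _ _)))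
      · rcases Nat.eq_zero_or_pos c with hc | hc
        · exact Or.inl ⟨hc, ha0⟩
        right
        have := Char.sum_irr_degree_mul y
        rw [if_neg (hy1 hc.ne')] at this
        rw [← this]
        exact Finset.sum_congr rfl fun χ _ => mul_comm _ _
    · have hpG : p ∣ Nat.card G := by
        rw [hG]; exact dvd_mul_of_dvd_left (dvd_mul_of_dvd_left (dvd_pow_self p ha0.ne') _) _
      obtain ⟨x, hx⟩ := exists_prime_orderOf_dvd_card' p hpG
      obtain ⟨M, hmax, hpM⟩ : ∃ M : Ideal AlgInt, M.IsMaximal ∧ (p : AlgInt) ∈ M := by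
        have hne : Ideal.span {(p : AlgInt)} ≠ ⊤ := by
          intro h
          rw [Ideal.span_singleton_eq_top] at h
          obtain ⟨u, hu⟩ := h.exists_right_inv
          have h2 : IsIntegral ℤ (((1 : ℤ) : ℂ) / (p : ℂ)) := by
            have := congrArg Subtype.val hu
            push_cast at this
            rw [Int.cast_one, one_div, ← eq_inv_of_mul_eq_one_right this]
            exact u.2
          have := BlockLow.dvd_of_isIntegral_div hp.ne_zero h2
          exact hp.not_dvd_one (by exact_mod_cast this)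
        obtain ⟨M, hM, hle⟩ := Ideal.exists_le_maximal _ hne
        exact ⟨M, hM, hle (Ideal.subset_span rfl)⟩
      haveI := hmax
      refine ⟨Finset.univ.filter (· ∈ principalBlock M G), fun χ => (starRingEnd ℂ) (χ.1 x),
        ?_, fun χ hχ => ?_, fun χ _ => ⟨?_, ?_⟩, fun _ h => absurd h ha0.ne', Or.inr ?_⟩
      · simp only [Finset.mem_filter, Finset.mem_univ, true_and]
        exact Blocks.mem_blockOf_self (Char.trivialChar G)
      · exact BlockLow.not_dvd_degree_principal ⟨hp, hmax, hpM⟩ (by rw [hap]; exact ha)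
          (Finset.mem_filter.1 hχ).2
      · exact CharInt.isIntegral_char (Char.IsCharacter.conj (Char.irr_isCharacter χ)) x
      · exact map_one _
      · exact Blocks.weak_orthogonality hpM (Blocks.isPBlock_principalBlock hpM) hyP
          (by rw [Blocks.not_isPRegular_iff, hx])
  obtain ⟨χ, hχS, hχne, hχr⟩ : ∃ χ ∈ S, χ ≠ Char.trivialChar G ∧ ¬ r ∣ Char.degree χ := by
    have hrc : c = 0 → ∀ χ : IrrCharacter G, ¬ r ∣ Char.degree χ := by
      intro hc χ hd
      have h1 : Char.degree χ ∣ Nat.card G :=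
        BlockCount.charDegree_eq_degree χ ▸ BlockCount.charDegree_dvd_card χ
      have h2 : r ∣ p ^ a * q ^ b := by
        have h3 := hd.trans h1
        rwa [hG, hc, pow_zero, mul_one] at h3
      rcases (Nat.Prime.dvd_mul hr).1 h2 with h | h
      · exact hpr ((Nat.prime_dvd_prime_iff_eq hr hp).1 (hr.dvd_of_dvd_pow h)).symm
      · exact hqr ((Nat.prime_dvd_prime_iff_eq hr hq).1 (hr.dvd_of_dvd_pow h)).symm
    rcases hsum.2 with ⟨hc, ha0⟩ | hzero
    · obtain ⟨χ, hχ, hne⟩ := hsum.1 hc ha0
      exact ⟨χ, hχ, hne, hrc hc χ⟩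
    by_contra hall
    push Not at hall
    have hdiv : ∀ χ ∈ S.erase (Char.trivialChar G), IsIntegral ℤ (χ.1 y * e χ / (r : ℂ)) := by
      intro χ hχ
      obtain ⟨hne, hχS⟩ := Finset.mem_erase.1 hχ
      obtain ⟨d, hd⟩ := hall χ hχS hne
      -- Bezout on the class size
      set K := (Subgroup.centralizer ({y} : Set G)).index with hK
      have hcop : IsCoprime (K : ℤ) (r : ℤ) := by
        rw [Int.isCoprime_iff_nat_coprime]
        simpa using (hr.coprime_iff_not_dvd.2 hyK).symm
      obtain ⟨s, t, hst⟩ := hcop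
      have hst' : (s : ℂ) * K + (t : ℂ) * r = 1 := by exact_mod_cast hst
      have hrne : (r : ℂ) ≠ 0 := Nat.cast_ne_zero.2 hr.ne_zero
      have hdne : (d : ℂ) ≠ 0 := by
        intro h
        have := Char.degree_pos χ
        rw [hd, (by exact_mod_cast h : d = 0), mul_zero] at this
        exact lt_irrefl 0 this
      have hω : centralChar χ.1 y * (d : ℂ) = (K : ℂ) * χ.1 y / r := by
        rw [centralChar, Char.apply_one_eq_degree, hd, ← hK]
        push_cast
        field_simp
      have e1 : χ.1 y / r = (s : ℂ) * (centralChar χ.1 y * d) + (t : ℂ) * χ.1 y := by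
        rw [hω]
        field_simp
        linear_combination (-(χ.1 y)) * hst'
      have hi : IsIntegral ℤ (χ.1 y / (r : ℂ)) := by
        rw [e1]
        refine IsIntegral.add (IsIntegral.mul isIntegral_algebraMap (IsIntegral.mul
          (Blocks.isIntegral_centralChar χ y) ?_))
          (IsIntegral.mul isIntegral_algebraMap (CharInt.isIntegral_char (Char.irr_isCharacter χ) y))
        exact_mod_cast (isIntegral_algebraMap (R := ℤ) (A := ℂ) (x := (d : ℤ)))
      rw [mul_div_right_comm]
      exact IsIntegral.mul hi (hint χ hχS).1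
    have hall1 := IsIntegral.sum _ hdiv
    rw [← Finset.sum_div] at hall1
    rw [← Finset.add_sum_erase _ _ hS0, (hint _ hS0).2, mul_one,
      show (Char.trivialChar G).1 y = (1 : ℂ) from rfl] at hzero
    rw [eq_neg_of_add_eq_zero_right hzero] at hall1
    have h2 := BlockLow.dvd_of_isIntegral_div hr.ne_zero (a := -1) (by push_cast; exact hall1)
    exact hr.not_dvd_one (by exact_mod_cast (Int.dvd_neg.1 h2))
  refine ⟨χ, fun h => hχne (Subtype.ext h), ?_⟩
  rw [BlockCount.charDegree_eq_degree]
  have h1 : Char.degree χ ∣ Nat.card G :=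
    BlockCount.charDegree_eq_degree χ ▸ BlockCount.charDegree_dvd_card χ
  rw [hG] at h1
  have h2 : Char.degree χ ∣ q ^ b :=
    (Nat.Coprime.pow_right a ((hp.coprime_iff_not_dvd.2 (hSp χ hχS)).symm)).dvd_of_dvd_mul_left
      ((Nat.Coprime.pow_right c ((hr.coprime_iff_not_dvd.2 hχr).symm)).dvd_of_dvd_mul_right h1)
  obtain ⟨k, -, hk⟩ := (Nat.dvd_prime_pow hq).1 h2
  exact ⟨k, hk⟩

/-- Let G be a non-trivial finite group of order p^a · q^b · r^c with p, q, r distinct primes and a ≤ 2. Then G has a non-principal irreducible character whose degree is a power of q, and a non-principal irreducible character whose degree is a power of r; the power may be the zeroth, so a non-principal linear character serves for both. -/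
theorem result {G : Type*} [Group G] [Finite G] [Nontrivial G] (p q r a b c : ℕ) (hp : p.Prime) (hq : q.Prime) (hr : r.Prime) (hpq : p ≠ q) (hpr : p ≠ r) (hqr : q ≠ r) (ha : a ≤ 2) (hG : Nat.card G = p ^ a * q ^ b * r ^ c) : (∃ χ : Cfsg.IrrCharacter G, (χ : G → ℂ) ≠ (fun _ => 1) ∧ ∃ k : ℕ, Cfsg.charDegree (χ : G → ℂ) = q ^ k) ∧ ∃ χ : Cfsg.IrrCharacter G, (χ : G → ℂ) ≠ (fun _ => 1) ∧ ∃ k : ℕ, Cfsg.charDegree (χ : G → ℂ) = r ^ k := by
  classical
  letI := Fintype.ofFinite G
  refine ⟨side p q r a b c hp hq hr hpq hpr hqr ha hG,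
    side p r q a c b hp hr hq hpr hpq hqr.symm ha (by rw [hG]; ring)⟩

end Cfsg.Agent.S4500
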