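import Cfsg.Statements.S4501
import Cfsg.Agent.Lib.SmallCofactor.Klein
import Cfsg.Agent.Lib.SmallCofactor.PrimeBlock
import Cfsg.Agent.Lib.SmallCofactor.Square
import Cfsg.Agent.S0495

set_option autoImplicit false
open Cfsg

namespace Cfsg.Agent.S4501

open Cfsg.Agent

universe u

section

variable {G : Type u} [Group G] [Fintype G] [IsSimpleGroup G]

theorem four_case (hG : ¬ IsMulCommutative G) {p q a b : ℕ} (hp : p.Prime) (hq : q.Prime)
    (hpq : p ≠ q) (hcard : Nat.card G = 4 * p ^ a * q ^ b) : Nat.card G = 60 := by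
  by_cases hp2 : p = 2
  · subst hp2
    exact (SmallCofactor.false_of_two hG Nat.prime_two hq (a := a + 2) (b := b)
      (by rw [hcard, pow_add]; ring)).elim
  by_cases hq2 : q = 2
  · subst hq2
    exact (SmallCofactor.false_of_two hG hp Nat.prime_two (a := a) (b := b + 2)
      (by rw [hcard, pow_add]; ring)).elim
  exact SmallCofactor.card_eq_sixty_of_four hG hp hq hp2 hq2 hpq hcard

theorem three_case (hG : ¬ IsMulCommutative G) {p q a b : ℕ} (hp : p.Prime) (hq : q.Prime)
    (hpq : p ≠ q) (ha : a ≤ 2) (hcard : Nat.card G = 3 * p ^ a * q ^ b) :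
    Nat.card G = 60 ∨ Nat.card G = 168 := by
  have h3 := Nat.prime_three
  by_cases hp3 : p = 3
  · subst hp3
    exact (SmallCofactor.false_of_two hG h3 hq (a := a + 1) (b := b)
      (by rw [hcard, pow_succ]; ring)).elim
  by_cases hq3 : q = 3
  · subst hq3
    exact (SmallCofactor.false_of_two hG hp h3 (a := a) (b := b + 1)
      (by rw [hcard, pow_succ]; ring)).elim
  have hprimes : ∀ {l c d : ℕ}, l.Prime → l ∣ p ^ c * q ^ d → l = p ∨ l = q := fun {l c d} hl h => by
    rcases hl.dvd_mul.1 h with h | h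
    · exact Or.inl ((Nat.prime_dvd_prime_iff_eq hl hp).1 (hl.dvd_of_dvd_pow h))
    · exact Or.inr ((Nat.prime_dvd_prime_iff_eq hl hq).1 (hl.dvd_of_dvd_pow h))
  by_cases hp2 : p = 2
  · subst hp2
    interval_cases a
    · exact (SmallCofactor.false_of_two hG h3 hq (a := 1) (b := b) (by rw [hcard]; ring)).elim
    · exfalso
      refine SmallSimple.false_of_min_exponent_one Nat.prime_two (m := 3 * q ^ b)
        (by rw [hcard]; ring) (by have := Nat.one_le_pow b q hq.pos; omega) fun l hl hd => ?_
      rcases hl.dvd_mul.1 hd with h | h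
      · have := (Nat.prime_dvd_prime_iff_eq hl h3).1 h; omega
      · have := (Nat.prime_dvd_prime_iff_eq hl hq).1 (hl.dvd_of_dvd_pow h)
        have := hq.two_le; omega
    · exact Or.inl (four_case hG h3 hq (a := 1) (b := b) (Ne.symm hq3) (by rw [hcard]; ring))
  by_cases hq2 : q = 2
  · subst hq2
    interval_cases a
    · exact (SmallCofactor.false_of_two hG h3 Nat.prime_two (a := 1) (b := b)
        (by rw [hcard]; ring)).elim
    · exact SmallCofactor.card_of_prime hG hp hp2 hp3 (b := b) (by rw [hcard]; ring)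
    · rcases Nat.eq_zero_or_pos b with rfl | hb
      · exact (SmallCofactor.false_of_two hG h3 hp (a := 1) (b := 2) (by rw [hcard]; ring)).elim
      · exact absurd (by rw [hcard]; ring) (SmallCofactor.card_ne_of_square hG hp hp2 hp3 hb.ne')
  exfalso
  rcases Nat.eq_zero_or_pos (a + b) with h | h
  · obtain ⟨rfl, rfl⟩ : a = 0 ∧ b = 0 := by omega
    exact SmallCofactor.not_prime_card hG (by rw [hcard]; norm_num)
  refine SmallSimple.false_of_min_exponent_one h3 (m := p ^ a * q ^ b) (by rw [hcard]; ring) ?_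
    fun l hl hd => ?_
  · rcases Nat.eq_zero_or_pos a with rfl | ha'
    · simpa using Nat.one_lt_pow (by omega : b ≠ 0) hq.one_lt
    · exact lt_of_lt_of_le (Nat.one_lt_pow ha'.ne' hp.one_lt)
        (Nat.le_mul_of_pos_right _ (pow_pos hq.pos b))
  · rcases hprimes hl hd with rfl | rfl
    · have := hp.two_le; omega
    · have := hq.two_le; omega

end

/-- Let G be a non-abelian finite simple group and p, q distinct primes. If the order of G is 4·p^a·q^b with a ≤ 2, then G is isomorphic to the alternating group of degree 5. If the order of G is 3·p^a·q^b with a ≤ 2, then G is isomorphic to the alternating group of degree 5 or to PSL(2,7). -/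
theorem result {G : Type*} [Group G] [Finite G] [IsSimpleGroup G] (hna : ∃ x y : G, x * y ≠ y * x) (p q a b : ℕ) (hp : p.Prime) (hq : q.Prime) (hpq : p ≠ q) (ha : a ≤ 2) : (Nat.card G = 4 * p ^ a * q ^ b → Nonempty (G ≃* alternatingGroup (Fin 5))) ∧ (Nat.card G = 3 * p ^ a * q ^ b → Nonempty (G ≃* alternatingGroup (Fin 5)) ∨ Nonempty (G ≃* Matrix.ProjectiveSpecialLinearGroup (Fin 2) (ZMod 7))) := by
  haveI := Fintype.ofFinite G
  have hG : ¬ IsMulCommutative G := fun h => by
    obtain ⟨x, y, hxy⟩ := hna
    exact hxy (h.is_comm.comm x y)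
  refine ⟨fun h => SmallSimple.iso_alternating_five hG (four_case hG hp hq hpq h), fun h => ?_⟩
  rcases three_case hG hp hq hpq ha h with h' | h'
  · exact Or.inl (SmallSimple.iso_alternating_five hG h')
  · haveI : Fact (Nat.Prime 7) := ⟨by norm_num⟩
    exact Or.inr (S0495.result h' (ZMod.card 7))

end Cfsg.Agent.S4501
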