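import Cfsg.Statements.S4505
import Cfsg.Agent.Lib.BlockLow.DefectClasses
import Mathlib.LinearAlgebra.Dimension.Constructions


set_option autoImplicit false
open Cfsg

namespace Cfsg.Agent.S4505

/-- Let G be a finite group, p a prime and M a maximal ideal of the algebraic integers containing p. For every σ, the number of p-blocks of defect exactly σ is at most the number of conjugacy classes of p-regular elements whose centralizer has order divisible by p^σ but not by p^(σ+1). -/
theorem result {G : Type*} [Group G] [Finite G] (p : ℕ) [Fact p.Prime] (M : Ideal Cfsg.AlgInt) (hM : Cfsg.IsPModular p M) (σ : ℕ) : Nat.card {B : Set (Cfsg.IrrCharacter G) // Cfsg.IsPBlock M B ∧ Cfsg.blockDefect p B = σ} ≤ Nat.card {C : ConjClasses G // ∃ g : G, ConjClasses.mk g = C ∧ ¬ p ∣ orderOf g ∧ (Nat.card (Subgroup.centralizer ({g} : Set G))).factorization p = σ} := by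
  classical
  letI := Fintype.ofFinite G
  haveI := hM.2.1
  haveI := Fintype.ofFinite (ConjClasses G)
  letI : Field (Cfsg.AlgInt ⧸ M) := Ideal.Quotient.field M
  let 𝔅 := {B : Set (Cfsg.IrrCharacter G) // Cfsg.IsPBlock M B ∧ Cfsg.blockDefect p B = σ}
  let 𝔠 := {C : ConjClasses G // BlockLow.DefectClassSet p σ C}
  haveI : Fintype 𝔅 := Fintype.ofFinite 𝔅
  choose χ hχ using fun B : 𝔅 => Blocks.block_nonempty B.2.1
  have hd : ∀ B : 𝔅, Cfsg.blockDefect p (Cfsg.blockOf M (χ B).1) = σ := fun B => by
    rw [← Blocks.block_eq B.2.1 (hχ B)]; exact B.2.2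
  -- central characters of distinct blocks are independent on the classes of defect `σ`
  let w : 𝔅 → (𝔠 → Cfsg.AlgInt ⧸ M) := fun B C => Blocks.red M (Cfsg.centralChar (χ B).1 C.1.out)
  have hpair : ∀ B B' : 𝔅, ∑ C : 𝔠, Blocks.red M ((Blocks.blockIdem B.1).coeff C.1.out) * w B' C =
      if B = B' then 1 else 0 := by
    intro B B'
    have h := BlockLow.omega_blockIdem_congr hM.2.2 B.2.1 B.2.2 (hd B')
    have hS : ∀ C : ConjClasses G, Cfsg.MemLocalRing M
        ((Blocks.blockIdem B.1).coeff C.out * Cfsg.centralChar (χ B').1 C.out) := fun C =>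
      Blocks.MemLocalRing.mul (Blocks.scoeff_blockIdem B.2.1 _) (Blocks.memLocalRing_centralChar _ _)
    have hiff : (χ B' ∈ B.1) ↔ B = B' := ⟨fun hm => Subtype.ext
      (Blocks.block_eq_of_mem B.2.1 B'.2.1 hm (hχ B')), fun e => e ▸ hχ B'⟩
    rw [← Blocks.red_eq_iff (by split_ifs <;> [exact Blocks.memLocalRing_one;
      exact Blocks.memLocalRing_zero]) (Blocks.MemLocalRing.sum _ fun C _ => hS C),
      Blocks.red_sum _ fun C _ => hS C] at h
    rw [← if_congr hiff rfl rfl]
    trans Blocks.red M (if χ B' ∈ B.1 then (1 : ℂ) else 0)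
    · rw [h]
      rw [← Finset.sum_subtype (Finset.univ.filter (BlockLow.DefectClassSet p σ))
        (fun C => by simp)
        (fun C : ConjClasses G => Blocks.red M ((Blocks.blockIdem B.1).coeff C.out) *
          Blocks.red M (Cfsg.centralChar (χ B').1 C.out))]
      exact Finset.sum_congr rfl fun C _ => (Blocks.red_mul (Blocks.scoeff_blockIdem B.2.1 _)
        (Blocks.memLocalRing_centralChar _ _)).symm
    · split_ifs <;> simp [Blocks.red_one, Blocks.red_zero]
  have hli : LinearIndependent (Cfsg.AlgInt ⧸ M) w := by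
    rw [Fintype.linearIndependent_iff]
    intro c hc B
    have h := congrArg (fun f : 𝔠 → Cfsg.AlgInt ⧸ M =>
      ∑ C : 𝔠, Blocks.red M ((Blocks.blockIdem B.1).coeff C.1.out) * f C) hc
    simp only [Finset.sum_apply, Pi.smul_apply, smul_eq_mul, Pi.zero_apply, mul_zero,
      Finset.sum_const_zero, Finset.mul_sum] at h
    rw [Finset.sum_comm] at h
    simp only [mul_left_comm, ← Finset.mul_sum, hpair, mul_ite, mul_one, mul_zero] at h
    rw [Finset.sum_eq_single B (fun b _ hb => if_neg (Ne.symm hb))
      (fun h => absurd (Finset.mem_univ _) h), if_pos rfl] at h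
    exact h
  have := hli.fintype_card_le_finrank
  rw [Module.finrank_fintype_fun_eq_card] at this
  rw [Nat.card_eq_fintype_card]
  exact this.trans (le_of_eq (Nat.card_eq_fintype_card (α := 𝔠)).symm)

end Cfsg.Agent.S4505
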