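import Cfsg.Statements.S4507
import Cfsg.Agent.Lib.DefectOne.FullDefect


set_option autoImplicit false
set_option linter.style.haveILetI false
open Cfsg

namespace Cfsg.Agent.S4507

/-- Let G be a finite group whose order g is divisible by the prime p exactly once, g′ = g/p, and fix a maximal ideal M of the algebraic integers containing p. Call two irreducible characters p-conjugate when a field automorphism of ℂ fixing the g′-th roots of unity carries one to the other. Let B be a p-block of positive defect (its defect group is a Sylow p-subgroup). Then B contains a subset Y (the exceptional family) such that: Y is a full p-conjugacy class (its members are pairwise p-conjugate and every p-conjugate of a member of Y lies in Y); every member of B outside Y is p-conjugate only to itself; the size t of Y divides p − 1 and B has exactly t + (p − 1)/t members; and there are signs δ_χ = ±1 (χ ∈ B) such that for every p-regular element x and every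 θ ∈ Y, Σ_{χ ∈ B ∖ Y} δ_χ χ(x) + δ_θ θ(x) = 0. -/
theorem result {G : Type*} [Group G] [Finite G] (p : ℕ) [Fact p.Prime] (M : Ideal Cfsg.AlgInt) (hM : Cfsg.IsPModular p M) (hdiv : p ∣ Nat.card G) (hsq : ¬ p ^ 2 ∣ Nat.card G) (B : Set (Cfsg.IrrCharacter G)) (hB : Cfsg.IsPBlock M B) (hd : 0 < Cfsg.blockDefect p B) : ∃ Y : Set (Cfsg.IrrCharacter G), Y ⊆ B ∧ Y.Nonempty ∧ (∀ θ ∈ Y, ∀ ψ : Cfsg.IrrCharacter G, (∃ σ : ℂ ≃+* ℂ, σ (Complex.exp (2 * Real.pi * Complex.I / ((Nat.card G / p ^ (Nat.card G).factorization p) : ℕ))) = Complex.exp (2 * Real.pi * Complex.I / ((Nat.card G / p ^ (Nat.card G).factorization p) : ℕ)) ∧ (ψ : G → ℂ) = fun g => σ ((θ : G → ℂ) g)) ↔ ψ ∈ Y) ∧ (∀ χ ∈ B, χ ∉ Y → ∀ ψ : Cfsg.IrrCharacter G, (∃ σ : ℂ ≃+* ℂ, σ (Complex.exp (2 * Real.pi * Complex.I / ((Nat.card G / p ^ (Nat.card G).factorization p) : ℕ))) = Complex.exp (2 * Real.pi * Complex.I / ((Nat.card G / p ^ (Nat.card G).factorization p) : ℕ)) ∧ (ψ : G → ℂ) = fun g =>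 σ ((χ : G → ℂ) g)) → ψ = χ) ∧ Nat.card Y ∣ p - 1 ∧ Nat.card B = Nat.card Y + (p - 1) / Nat.card Y ∧ ∃ δ : Cfsg.IrrCharacter G → ℤ, (∀ χ ∈ B, δ χ = 1 ∨ δ χ = -1) ∧ ∀ x : G, ¬ p ∣ orderOf x → ∀ θ ∈ Y, (∑ᶠ χ ∈ B \ Y, (δ χ : ℂ) * (χ : G → ℂ) x) + (δ θ : ℂ) * (θ : G → ℂ) x = 0 := by
  classical
  haveI := Fintype.ofFinite G
  haveI := hM.2.1
  have hpM := hM.2.2
  have hfac : (Nat.card G).factorization p = 1 := by
    refine le_antisymm ?_ ((Fact.out : p.Prime).factorization_pos_of_dvd Nat.card_pos.ne' hdiv)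
    by_contra hlt
    exact hsq (((Fact.out : p.Prime).pow_dvd_iff_le_factorization Nat.card_pos.ne').2 (by omega))
  let P : Sylow p G := default
  have hP : Nat.card P = p := by rw [P.card_eq_multiplicity, hfac, pow_one]
  obtain ⟨χ, hχ, hχd⟩ : ∃ χ ∈ B, ¬ p ∣ Char.degree χ := by
    rw [blockDefect, hfac, Nat.sub_pos_iff_lt, Nat.lt_one_iff] at hd
    obtain ⟨χ₁, hχ₁⟩ := Blocks.block_nonempty hB
    rcases Nat.sInf_eq_zero.1 hd with ⟨χ, hχ, h0⟩ | hemp
    · refine ⟨χ, hχ, fun hp' => ?_⟩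
      replace h0 : (charDegree χ.1).factorization p = 0 := h0
      rw [Char.charDegree_eq_degree] at h0
      exact absurd h0
        ((Fact.out : p.Prime).factorization_pos_of_dvd (Char.degree_pos χ).ne' hp').ne'
    · exact absurd hemp (Set.Nonempty.ne_empty ⟨_, χ₁, hχ₁, rfl⟩)
  obtain ⟨θ, hθ⟩ := DefectOne.Local.exists_mem_indSet hP hpM hχd
  rw [← Blocks.block_eq hB hχ] at hθ
  obtain ⟨S⟩ := DefectOne.Local.fullShape hP hpM hθ
  set e := Nat.card (DefectOne.Local.autE hP θ) with hedef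
  have hedvd : e ∣ p - 1 := DefectOne.Coord.card_dvd hP _
  have hp1 : p - 1 ≠ 0 := by have := (Fact.out : p.Prime).one_lt; omega
  set m := Nat.card G / p ^ (Nat.card G).factorization p with hm
  have hm0 : m ≠ 0 := (Nat.ordCompl_pos p Nat.card_pos.ne').ne'
  have hexp := Complex.isPrimitiveRoot_exp m hm0
  have hfix : ∀ σ : ℂ ≃+* ℂ, σ (Complex.exp (2 * Real.pi * Complex.I / (m : ℕ))) =
      Complex.exp (2 * Real.pi * Complex.I / (m : ℕ)) ↔ DefectOne.Local.Fixes G p σ := by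
    refine fun σ => ⟨fun h w hw => ?_, fun h => h _ hexp.pow_eq_one⟩
    haveI : NeZero m := ⟨hm0⟩
    obtain ⟨i, -, rfl⟩ := hexp.eq_pow_of_pow_eq_one hw
    rw [map_pow, h]
  have hBY : B \ (S.Y : Set (IrrCharacter G)) = S.X := by
    refine Set.ext fun c => ?_
    have hc := Set.ext_iff.1 S.union c
    have hd' : c ∈ S.X → c ∉ S.Y := fun h => Finset.disjoint_left.1 S.disj h
    simp only [Set.mem_sdiff, Set.mem_union, Finset.mem_coe] at hc ⊢
    tauto
  have hY : Nat.card (S.Y : Set (IrrCharacter G)) = (p - 1) / e := by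
    rw [Nat.card_coe_set_eq, Set.ncard_coe_finset, S.cardY]
  refine ⟨S.Y, fun c hc => (Set.ext_iff.1 S.union c).2 (Or.inr hc), ?_, fun θ' hθ' ψ => ?_,
    fun χ' hχ' hχY ψ ⟨σ, hσ, hψ⟩ => ?_, ?_, ?_,
    fun χ' => if χ' ∈ S.Y then -S.ε else S.a χ', fun χ' hχ' => ?_, fun x hx θ' hθ' => ?_⟩
  · rw [Finset.coe_nonempty, ← Finset.card_pos, S.cardY]
    exact Nat.div_pos (Nat.le_of_dvd (Nat.pos_of_ne_zero hp1) hedvd) Nat.card_pos
  · constructor
    · rintro ⟨σ, hσ, hψ⟩
      exact S.closedY θ' hθ' σ ((hfix σ).1 hσ) ψ hψ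
    · intro hψ
      obtain ⟨σ, hσ, h⟩ := S.transY θ' hθ' ψ hψ
      exact ⟨σ, (hfix σ).2 hσ, h⟩
  · have hX : χ' ∈ S.X := by
      have : χ' ∈ B \ (S.Y : Set (IrrCharacter G)) := ⟨hχ', hχY⟩
      rwa [hBY] at this
    refine Subtype.ext ?_
    rw [hψ]
    exact funext fun g => S.fixX χ' hX σ ((hfix σ).1 hσ) g
  · rw [hY]; exact Nat.div_dvd_of_dvd hedvd
  · rw [hY, Nat.div_div_self hedvd hp1, show Nat.card B = Nat.card ((S.X : Set (IrrCharacter G)) ∪ (S.Y : Set (IrrCharacter G)) : Set (IrrCharacter G)) from congrArg (fun s : Set (IrrCharacter G) => Nat.card s) S.union, Nat.card_coe_set_eq,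
      Set.ncard_union_eq (Finset.disjoint_coe.2 S.disj), Set.ncard_coe_finset, Set.ncard_coe_finset,
      S.cardX, S.cardY, ← hedef]
    exact Nat.add_comm _ _
  · by_cases h : χ' ∈ S.Y
    · show ite _ _ _ = _ ∨ ite _ _ _ = _
      rw [if_pos h]
      rcases S.hε with h' | h' <;> simp [h']
    · show ite _ _ _ = _ ∨ ite _ _ _ = _
      rw [if_neg h]
      exact S.signX χ' (((Set.ext_iff.1 S.union χ').1 hχ').resolve_right h)
  · rw [hBY, finsum_mem_coe_finset]
    beta_reduce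
    rw [if_pos (Finset.mem_coe.1 hθ'), Finset.sum_congr rfl fun χ' hχ' => show
      (((if χ' ∈ S.Y then -S.ε else S.a χ') : ℤ) : ℂ) * χ'.1 x = (S.a χ' : ℂ) * χ'.1 x by
        rw [if_neg (Finset.disjoint_left.1 S.disj hχ')]]
    have := S.relation x hx θ' (Finset.mem_coe.1 hθ')
    push_cast
    linear_combination this

end Cfsg.Agent.S4507
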