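import Cfsg.Statements.S4508
import Cfsg.Agent.Lib.CentPrime.Basic
import Cfsg.Agent.Lib.TICent.Norm
import Cfsg.Agent.Lib.CharInt.Basic
import Mathlib.RingTheory.ZMod.UnitsCyclic


set_option autoImplicit false
open Cfsg Cfsg.Agent.Char
open scoped commutatorElement

namespace Cfsg.Agent.S4508

universe u

/-- The trivial constituent of `χ|P` is absent when `|N : P| ≠ 1`. -/
theorem sum_cyclic_eq_zero {G : Type u} [Group G] [Fintype G] {p : ℕ} [Fact p.Prime] {x : G}
    (hx : orderOf x = p) (hC : Subgroup.centralizer ({x} : Set G) = Subgroup.zpowers x)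
    {e t : ℕ} (he : Nat.card (CentPrime.nor x) = p * e) (hte : t * e = p - 1) (he1 : e ≠ 1)
    (χ : IrrCharacter G) (hχ : χ.1 1 = ((p - 1 : ℕ) : ℂ)) :
    ∑ z : Subgroup.zpowers x, χ.1 (z : G) = 0 := by
  classical
  have hp : p.Prime := Fact.out
  obtain ⟨P, hP⟩ := CentPrime.exists_sylow hx hC
  have hcen : TICent.cen P = Subgroup.zpowers x := by
    show Subgroup.centralizer ((P : Subgroup G) : Set G) = Subgroup.zpowers x
    rw [hP]
    refine le_antisymm ?_ (Subgroup.le_centralizer _)
    intro g hg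
    rw [← hC, CentPrime.mem_cen_iff]
    exact (Subgroup.mem_centralizer_iff.1 hg x (Subgroup.mem_zpowers x)).symm
  have hs : TICent.Star P := by
    intro y hy hy1
    rw [hP] at hy
    have hyo : orderOf y = p := by
      rw [← Nat.card_zpowers, CentPrime.zpowers_eq_of_mem hx hy hy1, CentPrime.card_zpowers' hx]
    rw [CentPrime.centralizer_eq hx hC hyo, CentPrime.zpowers_eq_of_mem hx hy hy1]
    exact hcen.symm
  have hcard : Nat.card (TICent.cen P) = p := by rw [hcen, CentPrime.card_zpowers' hx]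
  have hnor : Nat.card (TICent.nor P) = p * e := by
    rw [← he]
    exact congrArg (fun T : Subgroup G => Nat.card (Subgroup.normalizer (T : Set G))) hcen
  have hcregP : ∀ c : TICent.cen P, c ∉ TICent.creg P ↔ c ≠ 1 := by
    intro c
    rw [TICent.mem_creg hs, not_not, Subgroup.orderOf_coe]
    refine ⟨fun h h1 => hp.not_dvd_one (by rwa [h1, orderOf_one] at h), fun h => ?_⟩
    have h2 := orderOf_dvd_natCard c
    rw [hcard, Nat.dvd_prime hp, orderOf_eq_one_iff] at h2
    rw [h2.resolve_left h]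
  have hch : IsCharacter G χ.1 := irr_isCharacter χ
  -- all constituents are linear
  have hlin : ∀ ρ : IrrCharacter (TICent.cen P), degree ρ = 1 ∧
      (TICent.lam hs ρ = 1 → ρ = TICent.one' P) := by
    intro ρ
    have hval : ∀ c : TICent.cen P, ρ.1 c =
        TICent.lam hs ρ ⟨(c : G), hP.ge (hcen.le c.2)⟩ * ρ.1 1 := fun c => by
      rw [← TICent.lam_spec hs ρ _ 1, mul_one]
    have hn : ((∑ c : TICent.cen P, Complex.normSq (ρ.1 c) : ℝ) : ℂ) = (p : ℂ) := by
      rw [TICent.sum_normSq_of_classInner, classInner_irr_self ρ.2, mul_one, hcard]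
    have hd : degree ρ = 1 := by
      have h1 : ∀ c : TICent.cen P, Complex.normSq (ρ.1 c) = (degree ρ : ℝ) ^ 2 := fun c => by
        apply Complex.ofReal_injective
        rw [← Complex.mul_conj, hval c, map_mul, mul_mul_mul_comm,
          TICent.hom_mul_conj, one_mul, apply_one_eq_degree, map_natCast]
        push_cast
        ring
      rw [Finset.sum_congr rfl (fun c _ => h1 c), Finset.sum_const, Finset.card_univ,
        ← Nat.card_eq_fintype_card, hcard, nsmul_eq_mul] at hn
      push_cast at hn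
      have h2 : ((degree ρ : ℂ)) ^ 2 = 1 :=
        mul_left_cancel₀ (Nat.cast_ne_zero.2 hp.ne_zero) (hn.trans (mul_one _).symm)
      exact (Nat.pow_eq_one.1 (by exact_mod_cast h2 : degree ρ ^ 2 = 1)).resolve_right two_ne_zero
    refine ⟨hd, fun hl => Subtype.ext (funext fun c => ?_)⟩
    rw [hval c, hl, MonoidHom.one_apply, one_mul, apply_one_eq_degree, hd, Nat.cast_one]
  set m : IrrCharacter (TICent.cen P) → ℕ := fun ρ => TICent.nm χ.1 ρ with hm
  set r := m (TICent.one' P) with hr
  have hsum : ∑ ρ, m ρ = p - 1 := by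
    rw [← TICent.sum_nm_degree (P := P) hch hχ]
    exact Finset.sum_congr rfl fun ρ _ => by rw [(hlin ρ).1, mul_one]
  -- the trivial multiplicity
  have hr0 : r = 0 := by
    by_contra hr0
    let A := ∑ ρ, m ρ ^ 2
    have hA : ∑ c : TICent.cen P, Complex.normSq (χ.1 (c : G)) = ((p * A : ℕ) : ℝ) := by
      apply Complex.ofReal_injective
      rw [show (fun c : TICent.cen P => Complex.normSq (χ.1 (c : G))) =
        fun c => Complex.normSq (TICent.res P χ.1 c) from rfl, TICent.sum_normSq_of_classInner,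
        classInner_eq_sum (f := TICent.res P χ.1)
          (IsCharacter.isClassFunction (IsCharacter.restrict hch (TICent.cen P))), hcard]
      push_cast
      congr 1
      show _ = ((∑ ρ, m ρ ^ 2 : ℕ) : ℂ)
      rw [Nat.cast_sum]
      refine Finset.sum_congr rfl fun ρ _ => ?_
      rw [← conj_classInner (TICent.res P χ.1) ρ.1, TICent.nm_spec hch, map_natCast, Nat.cast_pow, sq]
    have hlt := TICent.sum_normSq_lt hs χ
    have hsplit := Fintype.sum_subtype_add_sum_subtype (fun c : TICent.cen P => c ∉ TICent.creg P)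
      (fun c => Complex.normSq (χ.1 (c : G)))
    have hone : ∑ c : {c : TICent.cen P // ¬ c ∉ TICent.creg P}, Complex.normSq (χ.1 (c.1 : G)) =
        ((p - 1 : ℕ) : ℝ) ^ 2 := by
      haveI : Subsingleton {c : TICent.cen P // ¬ c ∉ TICent.creg P} := ⟨fun a b => Subtype.ext <| by
        rw [not_not.1 fun h => a.2 ((hcregP a.1).2 h), not_not.1 fun h => b.2 ((hcregP b.1).2 h)]⟩
      rw [Fintype.sum_subsingleton _ ⟨1, fun h => (hcregP 1).1 h rfl⟩]
      simp only [OneMemClass.coe_one, hχ, Complex.normSq_natCast]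
      ring
    rw [hone, hA] at hsplit
    rw [hnor] at hlt
    have hlt' : p * A < p * e + (p - 1) ^ 2 := by
      have : ((p * A : ℕ) : ℝ) < ((p * e + (p - 1) ^ 2 : ℕ) : ℝ) := by
        rw [← hsplit, Nat.cast_add, Nat.cast_pow]
        linarith
      exact_mod_cast this
    -- the other multiplicities
    let o := ∑ ρ ∈ Finset.univ.erase (TICent.one' P), m ρ
    have ho : r + o = p - 1 := by
      rw [← hsum, ← Finset.add_sum_erase Finset.univ m (Finset.mem_univ (TICent.one' P))]
    have hA' : r ^ 2 + o ≤ A := by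
      show _ ≤ ∑ ρ, m ρ ^ 2
      rw [← Finset.add_sum_erase Finset.univ (fun ρ => m ρ ^ 2) (Finset.mem_univ (TICent.one' P))]
      exact Nat.add_le_add_left
        (Finset.sum_le_sum fun ρ _ => Nat.le_self_pow two_ne_zero (m ρ)) _
    have heo : e ∣ o := by
      show e ∣ ∑ ρ ∈ Finset.univ.erase (TICent.one' P), m ρ
      have hl : ∀ ρ ∈ Finset.univ.erase (TICent.one' P), TICent.lam hs ρ ≠ 1 := fun ρ hρ h =>
        (Finset.mem_erase.1 hρ).1 ((hlin ρ).2 h)
      rw [← Finset.sum_fiberwise_of_maps_to (t := (Finset.univ.erase (TICent.one' P)).image TICent.orb)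
        (g := TICent.orb) (fun ρ hρ => Finset.mem_image_of_mem _ hρ)]
      refine Finset.dvd_sum fun O hO => ?_
      obtain ⟨ξ, hξ, rfl⟩ := Finset.mem_image.1 hO
      have hfil : (Finset.univ.erase (TICent.one' P)).filter (fun ρ => TICent.orb ρ = TICent.orb ξ)
          = TICent.orb ξ := by
        ext ρ
        simp only [Finset.mem_filter, Finset.mem_erase, Finset.mem_univ, and_true]
        refine ⟨fun h => h.2 ▸ TICent.mem_orb_self ρ, fun h => ⟨?_, ?_⟩⟩
        · rintro rfl
          obtain ⟨y, -, hy⟩ := Finset.mem_image.1 h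
          refine hl ξ hξ ((TICent.lam_cj_eq_one_iff hs y ξ).1 ?_)
          rw [hy, TICent.lam_one hs]
        · obtain ⟨y, -, rfl⟩ := Finset.mem_image.1 h
          ext κ
          simp only [TICent.orb, Finset.mem_image, Finset.mem_univ, true_and]
          refine ⟨?_, ?_⟩
          · rintro ⟨z, rfl⟩
            exact ⟨z * y, TICent.cj_mul z y ξ⟩
          · rintro ⟨z, rfl⟩
            exact ⟨z * y⁻¹, by rw [← TICent.cj_mul, inv_mul_cancel_right]⟩
      rw [hfil, Finset.sum_congr rfl (g := fun _ => m ξ) (fun σ hσ => TICent.nm_orb hch hσ),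
        Finset.sum_const, smul_eq_mul]
      have h := TICent.card_orb_mul hs (hl ξ hξ)
      rw [hcard, hnor, mul_comm p e] at h
      rw [Nat.eq_of_mul_eq_mul_right hp.pos h]
      exact dvd_mul_right e _
    have her : e ∣ r := (Nat.dvd_add_left heo).1 (ho.symm ▸ Dvd.intro_left t hte)
    have hre := Nat.le_of_dvd (Nat.pos_of_ne_zero hr0) her
    have hr2 : r ^ 2 < r + e := by
      by_contra hcon
      have h1 : e + (p - 1) ≤ A := by omega
      have h2 : p * (e + (p - 1)) ≤ p * A := Nat.mul_le_mul_left p h1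
      have h3 : (p - 1) ^ 2 ≤ p * (p - 1) := by
        rw [sq]; exact Nat.mul_le_mul_right _ (Nat.sub_le p 1)
      rw [mul_add] at h2
      omega
    have hr1 : r = 1 := by nlinarith [Nat.pos_of_ne_zero hr0]
    exact he1 (Nat.dvd_one.1 (hr1 ▸ her))
  have h0 := TICent.nm_spec (P := P) hch (TICent.one' P)
  rw [show TICent.nm χ.1 (TICent.one' P) = 0 from hr0, Nat.cast_zero, classInner] at h0
  have h1 := (mul_eq_zero.1 h0).resolve_left (inv_ne_zero Char.card_ne_zero)
  simp only [TICent.res, map_one, mul_one] at h1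
  rw [← h1]
  exact (Fintype.sum_equiv (MulEquiv.subgroupCongr hcen).toEquiv _ _ fun c => rfl).symm

/-- Let the finite group G contain an element x of prime order p with C_G(x) = ⟨x⟩, and let t be the number of conjugacy classes of elements of order p. If G has an irreducible character of degree p − 1, then t is even or the commutator subgroup has even index. -/
theorem result {G : Type*} [Group G] [Finite G] (p : ℕ) (hp : p.Prime) (x : G) (hx : orderOf x = p) (hC : Subgroup.centralizer ({x} : Set G) = Subgroup.zpowers x) (t : ℕ) (ht : Nat.card {C : ConjClasses G // ∃ g ∈ C.carrier, orderOf g = p} = t) (χ : Cfsg.IrrCharacter G) (hχ : Cfsg.charDegree (χ : G → ℂ) + 1 = p) : Even t ∨ Even (commutator G).index := by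
  classical
  haveI : Fact p.Prime := ⟨hp⟩
  haveI := Fintype.ofFinite G
  obtain ⟨n, ρ, hρ, hρχ⟩ := χ.2
  obtain ⟨e, he0, he, hte⟩ := CentPrime.card_nor_dvd hx hC ht
  by_cases hp2 : p = 2
  · right
    have ht1 : t = p - 1 := by
      have : t * e = 1 := by rw [hte, hp2]
      rw [hp2]; exact Nat.dvd_one.1 ⟨e, this.symm⟩
    rw [(CentPrime.of_not_dvd_commutator hx hC fun h =>
      (CentPrime.dvd_commutator_iff hx hC ht).1 h ht1).1, hp2]
    exact even_two
  have hpodd : Odd p := hp.odd_of_ne_two hp2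
  have hpe : Even (p - 1) := Nat.Odd.sub_odd hpodd odd_one
  rcases Nat.even_or_odd t with htev | htod
  · exact Or.inl htev
  right
  have hee : Even e := (Nat.even_mul.1 (hte ▸ hpe)).resolve_left (Nat.not_even_iff_odd.2 htod)
  have he1 : e ≠ 1 := fun h => by rw [h] at hee; exact Nat.not_even_one hee
  have hdeg : χ.1 1 = ((p - 1 : ℕ) : ℂ) := by
    obtain ⟨m, -, hm⟩ := CharInt.irr_degree_pos χ.2
    have : Cfsg.charDegree (χ : G → ℂ) = m := by
      rw [Cfsg.charDegree, hm, Complex.natCast_re, Nat.floor_natCast]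
    rw [hm]
    congr 1
    omega
  have hsum := sum_cyclic_eq_zero hx hC he hte he1 χ hdeg
  -- the sum of `ρ` over `⟨x⟩` vanishes
  let E : Module.End ℂ (Fin n → ℂ) := (p : ℂ)⁻¹ • ∑ z : Subgroup.zpowers x, ρ (z : G)
  have hpC : (p : ℂ) ≠ 0 := Nat.cast_ne_zero.2 hp.ne_zero
  have hcz : Fintype.card (Subgroup.zpowers x) = p := by
    rw [← Nat.card_eq_fintype_card, CentPrime.card_zpowers' hx]
  have hE : IsIdempotentElem E := by
    have h : ∀ z : Subgroup.zpowers x,
        ρ (z : G) * ∑ w : Subgroup.zpowers x, ρ (w : G) = ∑ w : Subgroup.zpowers x, ρ (w : G) := by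
      intro z
      rw [Finset.mul_sum]
      refine Fintype.sum_equiv (Equiv.mulLeft z) _ _ fun w => ?_
      rw [← map_mul]
      rfl
    show E * E = E
    simp only [E, smul_mul_smul_comm, Finset.sum_mul, h, Finset.sum_const, Finset.card_univ, hcz]
    rw [← Nat.cast_smul_eq_nsmul ℂ, smul_smul, mul_assoc, inv_mul_cancel₀ hpC, mul_one]
  have hE0 : E = 0 := by
    have hproj := LinearMap.IsProj.trace (LinearMap.isProj_range_iff_isIdempotentElem E |>.2 hE)
    have htr : LinearMap.trace ℂ _ E = 0 := by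
      rw [map_smul, map_sum, show ∑ z : Subgroup.zpowers x, LinearMap.trace ℂ (Fin n → ℂ) (ρ (z : G))
        = ∑ z : Subgroup.zpowers x, χ.1 (z : G) from Finset.sum_congr rfl fun z _ => by rw [← hρχ]; rfl,
        hsum, smul_zero]
    rw [htr] at hproj
    rw [← LinearMap.range_eq_bot]
    exact Submodule.finrank_eq_zero.1 (Nat.cast_eq_zero.1 hproj.symm)
  have hsum0 : ∑ z : Subgroup.zpowers x, ρ (z : G) = 0 :=
    (smul_eq_zero.1 hE0).resolve_left (inv_ne_zero hpC)
  -- `χ` vanishes on `N \ P`
  have hvan : ∀ y ∈ CentPrime.nor x, y ∉ Subgroup.zpowers x → χ.1 y = 0 := by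
    intro y hy hyP
    let f : Subgroup.zpowers x → Subgroup.zpowers x := fun s =>
      ⟨y⁻¹ * (s : G) * y * (s : G)⁻¹, by
        refine Subgroup.mul_mem _ ?_ (Subgroup.inv_mem _ s.2)
        have := CentPrime.conj_mem_of_mem_nor (Subgroup.inv_mem _ hy) s.2
        rwa [inv_inv] at this⟩
    have hf : Function.Injective f := by
      intro a b hab
      by_contra hne
      have hab' : y⁻¹ * (a : G) * y * (a : G)⁻¹ = y⁻¹ * (b : G) * y * (b : G)⁻¹ :=
        congrArg Subtype.val hab
      have hz : (b : G)⁻¹ * a ∈ Subgroup.zpowers x :=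
        Subgroup.mul_mem _ (Subgroup.inv_mem _ b.2) a.2
      have hz1 : (b : G)⁻¹ * a ≠ 1 := fun h => hne (Subtype.ext (inv_mul_eq_one.1 h).symm)
      have hxz := (CentPrime.zpowers_eq_of_mem hx hz hz1).ge (Subgroup.mem_zpowers x)
      refine hyP ?_
      rw [← hC, CentPrime.mem_cen_iff]
      obtain ⟨k, hk⟩ := Subgroup.mem_zpowers_iff.1 hxz
      rw [← hk]
      refine (Commute.zpow_right (show Commute y ((b : G)⁻¹ * a) from ?_) k).eq
      show y * ((b : G)⁻¹ * a) = (b : G)⁻¹ * a * y
      have e1 : (b : G)⁻¹ * a = y * ((b : G)⁻¹ * a) * y⁻¹ := by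
        have hcomm : ∀ u w : Subgroup.zpowers x, (u : G) * w = w * u := fun u w =>
          Subgroup.le_centralizer (Subgroup.zpowers x) w.2 (u : G) u.2
        have h1 : y⁻¹ * (a : G) * y = y⁻¹ * (b : G) * y * ((b : G)⁻¹ * a) := by
          rw [← mul_assoc, ← hab']; group
        calc (b : G)⁻¹ * a = (y⁻¹ * (b : G) * y)⁻¹ * (y⁻¹ * (a : G) * y) := by rw [h1]; group
          _ = y⁻¹ * ((b : G)⁻¹ * a) * y := by group
          _ = _ := ?_
        have h2 : y⁻¹ * ((b : G)⁻¹ * a) * y = (b : G)⁻¹ * a := by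
          calc y⁻¹ * ((b : G)⁻¹ * a) * y
              = (y⁻¹ * (b : G) * y)⁻¹ * (y⁻¹ * (a : G) * y) := by group
            _ = _ := by rw [h1]; group
        calc y⁻¹ * ((b : G)⁻¹ * a) * y = (b : G)⁻¹ * a := h2
          _ = y * (y⁻¹ * ((b : G)⁻¹ * a) * y) * y⁻¹ := by group
          _ = _ := by rw [h2]
      nth_rw 2 [e1]
      group
    have hconj : ∀ z : Subgroup.zpowers x, χ.1 (y * z) = χ.1 y := by
      intro z
      obtain ⟨s, hs⟩ := Finite.injective_iff_surjective.1 hf z
      rw [← hs]
      show χ.1 (y * (y⁻¹ * (s : G) * y * (s : G)⁻¹)) = χ.1 y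
      rw [show y * (y⁻¹ * (s : G) * y * (s : G)⁻¹) = (s : G) * y * (s : G)⁻¹ by group]
      exact CharInt.char_conj_apply (irr_isCharacter χ) y s
    have h : ∑ z : Subgroup.zpowers x, χ.1 (y * z) = 0 := by
      rw [← hρχ]
      simp only [Representation.character, map_mul]
      rw [← map_sum, ← Finset.mul_sum, hsum0, mul_zero, map_zero]
    rw [Finset.sum_congr rfl fun z _ => hconj z, Finset.sum_const, Finset.card_univ, hcz,
      nsmul_eq_mul] at h
    exact (mul_eq_zero.1 h).resolve_left hpC
  -- an element of order `e` generating `N / P`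
  haveI : IsCyclic (MulAut (Subgroup.zpowers x)) := by
    haveI : IsCyclic (ZMod (Nat.card (Subgroup.zpowers x)))ˣ := by
      rw [CentPrime.card_zpowers' hx]; exact ZMod.isCyclic_units_prime hp
    exact (IsCyclic.mulAutMulEquiv (Subgroup.zpowers x)).isCyclic.2 inferInstance
  let φ := Subgroup.normalizerMonoidHom (Subgroup.zpowers x)
  have hker : ∀ y : CentPrime.nor x, φ y = 1 ↔ (y : G) ∈ Subgroup.zpowers x := by
    intro y
    rw [← MonoidHom.mem_ker, Subgroup.normalizerMonoidHom_ker, Subgroup.mem_subgroupOf]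
    constructor
    · intro h
      rw [← hC, CentPrime.mem_cen_iff]
      exact (Subgroup.mem_centralizer_iff.1 h x (Subgroup.mem_zpowers x)).symm
    · exact fun h => Subgroup.le_centralizer (Subgroup.zpowers x) h
  have hrange : Nat.card φ.range = e := by
    have hk : Nat.card φ.ker = p := by
      have : φ.ker = (Subgroup.zpowers x).subgroupOf (CentPrime.nor x) := by
        ext y; rw [MonoidHom.mem_ker, hker y, Subgroup.mem_subgroupOf]
      rw [this, Nat.card_congr (Subgroup.subgroupOfEquivOfLe CentPrime.zpowers_le_nor).toEquiv,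
        CentPrime.card_zpowers' hx]
    have h := φ.ker.card_mul_index
    rw [Subgroup.index_ker, hk, he] at h
    exact Nat.eq_of_mul_eq_mul_left hp.pos h
  obtain ⟨⟨g, hg⟩, hgen⟩ := IsCyclic.exists_ofOrder_eq_natCard (α := φ.range)
  obtain ⟨w, hw⟩ := hg
  have hwo : orderOf (φ w) = e := by
    rw [hw, ← Subgroup.orderOf_mk g (show g ∈ φ.range from ⟨w, hw⟩), hgen, hrange]
  have hwe : (w : G) ^ e = 1 := by
    have h1 : ((w ^ e : CentPrime.nor x) : G) ∈ Subgroup.zpowers x := by
      rw [← hker, map_pow, ← hwo, pow_orderOf_eq_one]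
    rw [SubmonoidClass.coe_pow] at h1
    by_contra hne
    refine he1 ?_
    rw [← hwo, orderOf_eq_one_iff, hker, ← hC, CentPrime.mem_cen_iff]
    obtain ⟨k, hk⟩ := Subgroup.mem_zpowers_iff.1
      ((CentPrime.zpowers_eq_of_mem hx h1 hne).ge (Subgroup.mem_zpowers x))
    have hcm := (((Commute.refl (w : G)).pow_right e).zpow_right k).eq
    rw [hk] at hcm
    exact hcm
  have hzero : ∀ k, 0 < k → k < e → χ.1 ((w : G) ^ k) = 0 := by
    intro k hk0 hke
    refine hvan _ (Subgroup.pow_mem _ w.2 k) fun hmem => ?_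
    have : φ (w ^ k) = 1 := (hker _).2 (by simpa using hmem)
    rw [map_pow, ← orderOf_dvd_iff_pow_eq_one, hwo] at this
    exact absurd (Nat.le_of_dvd hk0 this) (by omega)
  -- the determinant at `w`
  obtain ⟨b, μ, hμ, hb⟩ := CharInt.exists_eigenbasis_rho ρ (w : G)
  have hdet : LinearMap.det (ρ (w : G)) = -1 := by
    rw [CharInt.det_of_eigenbasis b hb]
    have hμe : ∀ i, μ i ^ e = 1 := fun i => by
      obtain ⟨c, hc⟩ := orderOf_dvd_of_pow_eq_one hwe
      rw [hc, pow_mul, hμ i, one_pow]
    obtain ⟨ζ, hζ⟩ : ∃ ζ : ℂ, IsPrimitiveRoot ζ e :=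
      ⟨_, Complex.isPrimitiveRoot_exp e he0.ne'⟩
    haveI : NeZero e := ⟨he0.ne'⟩
    have hkof : ∀ i, ∃ k ∈ Finset.range e, ζ ^ k = μ i := fun i => by
      obtain ⟨k, hk, hk'⟩ := hζ.eq_pow_of_pow_eq_one (hμe i)
      exact ⟨k, Finset.mem_range.2 hk, hk'⟩
    choose kk hkk hkμ using hkof
    have hcount : ∀ k ∈ Finset.range e, (Finset.univ.filter fun i => kk i = k).card = t := by
      intro k hk
      rw [Finset.mem_range] at hk
      have hS : ∀ i, ∑ j ∈ Finset.range e, ((ζ ^ k)⁻¹ * μ i) ^ j =
          if kk i = k then (e : ℂ) else 0 := by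
        intro i
        split_ifs with h
        · rw [← hkμ i, h, inv_mul_cancel₀ (pow_ne_zero _ (hζ.ne_zero he0.ne'))]
          simp
        · have hne : (ζ ^ k)⁻¹ * μ i ≠ 1 := fun h1 => h (by
            have := inv_mul_eq_one₀ (pow_ne_zero k (hζ.ne_zero he0.ne')) |>.1 h1
            rw [← hkμ i] at this
            exact (hζ.pow_inj hk (Finset.mem_range.1 (hkk i)) this).symm)
          rw [geom_sum_eq hne, mul_pow, hμe i, inv_pow, ← pow_mul, mul_comm k e, pow_mul,
            hζ.pow_eq_one, one_pow, inv_one, mul_one, sub_self, zero_div]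
      have h1 : ∑ i, ∑ j ∈ Finset.range e, ((ζ ^ k)⁻¹ * μ i) ^ j = ((t * e : ℕ) : ℂ) := by
        rw [Finset.sum_comm, Finset.sum_eq_single 0]
        · have := hdeg
          rw [← hρχ, Representation.char_one] at this
          simp only [pow_zero, Finset.sum_const, Finset.card_univ, Fintype.card_fin, nsmul_eq_mul,
            mul_one]
          rw [hte]
          exact this
        · intro j hj hj0
          rw [Finset.mem_range] at hj
          simp only [mul_pow]
          rw [← Finset.mul_sum]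
          have hc : ρ.character ((w : G) ^ j) = ∑ i, μ i ^ j := by
            rw [Representation.character, map_pow]
            exact CharInt.trace_of_eigenbasis b (CharInt.pow_apply_eigenvector b hb j)
          rw [← hc, hρχ, hzero j (Nat.pos_of_ne_zero hj0) hj, mul_zero]
        · intro h; exact absurd (Finset.mem_range.2 he0) h
      simp only [hS] at h1
      rw [Finset.sum_ite, Finset.sum_const_zero, add_zero, Finset.sum_const, nsmul_eq_mul,
        Nat.cast_mul] at h1
      exact_mod_cast mul_right_cancel₀ (Nat.cast_ne_zero.2 he0.ne') h1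
    rw [← Finset.prod_fiberwise_of_maps_to (t := Finset.range e) (g := kk) (fun i _ => hkk i)]
    rw [Finset.prod_congr rfl (g := fun k => (ζ ^ k) ^ t) fun k hk => by
      rw [Finset.prod_congr rfl (g := fun _ => ζ ^ k) fun i hi => by
        rw [← hkμ i, (Finset.mem_filter.1 hi).2], Finset.prod_const, hcount k hk]]
    rw [Finset.prod_pow, Finset.prod_pow_eq_pow_sum, Finset.sum_range_id]
    obtain ⟨h, rfl⟩ := even_iff_two_dvd.1 hee
    have hζh : ζ ^ h = -1 :=
      (hζ.pow he0 (mul_comm 2 h)).eq_neg_one_of_two_right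
    rw [show 2 * h * (2 * h - 1) / 2 = h * (2 * h - 1) by
      rw [mul_assoc, Nat.mul_div_cancel_left _ two_pos], pow_mul, hζh, ← pow_mul]
    exact Odd.neg_one_pow (Odd.mul ⟨h - 1, by omega⟩ htod)
  -- `det ∘ ρ` is a homomorphism
  let d : G →* ℂ := (LinearMap.det).comp ρ
  have hd : ∀ a ∈ commutator G, d a = 1 := by
    have : commutator G ≤ d.toHomUnits.ker := by
      rw [_root_.commutator_def, Subgroup.commutator_le]
      intro a _ b _
      rw [MonoidHom.mem_ker, map_commutatorElement, commutatorElement_eq_one_iff_mul_comm]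
      exact mul_comm _ _
    intro a ha
    exact congrArg Units.val (this ha : d.toHomUnits a = 1)
  by_contra hodd
  rw [Nat.not_even_iff_odd] at hodd
  have h1 := hd _ ((commutator G).pow_index_mem (w : G))
  rw [map_pow, show d (w : G) = -1 from hdet, hodd.neg_one_pow] at h1
  norm_num at h1

end Cfsg.Agent.S4508
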