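import Cfsg.Statements.S4509
import Cfsg.Agent.Lib.CentPrime.Basic


set_option autoImplicit false
open Cfsg
open scoped commutatorElement Pointwise

namespace Cfsg.Agent.S4509

/-- Let the finite group G contain an element x of prime order p with C_G(x) = ⟨x⟩; let t be the number of conjugacy classes of elements of order p and 1 + n·p the number of subgroups of order p. Then G has a normal subgroup of order 1 + n·p if and only if either t = p − 1, or t < p − 1 and G″ ≠ G′. Moreover, if t = p − 1 then G′ has order 1 + n·p and G/G′ is cyclic of order p; and if t < p − 1 and G″ ≠ G′ then G″ has order 1 + n·p and G′ has order p·(1 + n·p). -/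
theorem result {G : Type*} [Group G] [Finite G] (p : ℕ) (hp : p.Prime) (x : G) (hx : orderOf x = p) (hC : Subgroup.centralizer ({x} : Set G) = Subgroup.zpowers x) (t : ℕ) (ht : Nat.card {C : ConjClasses G // ∃ g ∈ C.carrier, orderOf g = p} = t) (n : ℕ) (hn : Nat.card {H : Subgroup G // Nat.card H = p} = 1 + n * p) : ((∃ S : Subgroup G, S.Normal ∧ Nat.card S = 1 + n * p) ↔ (t = p - 1 ∨ (t < p - 1 ∧ derivedSeries G 2 ≠ derivedSeries G 1))) ∧ (t = p - 1 → Nat.card (commutator G) = 1 + n * p ∧ IsCyclic (G ⧸ commutator G) ∧ (commutator G).index = p) ∧ (t < p - 1 → derivedSeries G 2 ≠ derivedSeries G 1 → Nat.card (derivedSeries G 2) = 1 + n * p ∧ Nat.card (commutator G) = p * (1 + n * p)) := by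
  haveI : Fact p.Prime := ⟨hp⟩
  have hcard : (CentPrime.nor x).index = 1 + n * p := by rw [← CentPrime.card_subgroups hx hC, hn]
  have hG : Nat.card (CentPrime.nor x) * (1 + n * p) = Nat.card G := by
    rw [← hcard]; exact (CentPrime.nor x).card_mul_index
  have hd1 : derivedSeries G 1 = commutator G := derivedSeries_one G
  have hd2 : derivedSeries G 2 = ⁅commutator G, commutator G⁆ := by
    rw [derivedSeries_succ, hd1]
  have hA : t = p - 1 →
      Nat.card (commutator G) = 1 + n * p ∧ IsCyclic (G ⧸ commutator G) ∧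
        (commutator G).index = p := by
    intro heq
    have hi := (CentPrime.of_not_dvd_commutator hx hC fun h =>
      (CentPrime.dvd_commutator_iff hx hC ht).1 h heq).1
    refine ⟨?_, ?_, hi⟩
    · have h := (commutator G).card_mul_index
      rw [hi, ← hG, (CentPrime.t_eq_iff hx hC ht).1 heq, mul_comm] at h
      exact Nat.eq_of_mul_eq_mul_left hp.pos h
    · exact isCyclic_of_prime_card (p := p) (by rw [← Subgroup.index_eq_card, hi])
  have hB : t < p - 1 → derivedSeries G 2 ≠ derivedSeries G 1 →
      (derivedSeries G 2).Normal ∧ Nat.card (derivedSeries G 2) = 1 + n * p ∧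
        Nat.card (commutator G) = p * (1 + n * p) := by
    intro hlt hne
    rw [hd1] at hne
    have hn2 : (derivedSeries G 2).Normal := derivedSeries_normal G 2
    rw [hd2] at hne hn2 ⊢
    haveI := hn2
    set S := ⁅commutator G, commutator G⁆ with hSdef
    have hSK : S ≤ commutator G := Subgroup.commutator_le_self _
    have hpK := (CentPrime.dvd_commutator_iff hx hC ht).2 hlt.ne
    have hxK := CentPrime.mem_of_dvd hx hC hpK
    have hpS : ¬ p ∣ Nat.card S := fun h =>
      hne (le_antisymm hSK (CentPrime.commutator_le_of_dvd hx hC h))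
    have hxS := CentPrime.not_mem_of_not_dvd hx hpS
    have hKSP : commutator G ≤ Subgroup.zpowers x ⊔ S := by
      intro k hk
      have hc : (k : G ⧸ S) ∈ Subgroup.centralizer ({(x : G ⧸ S)} : Set (G ⧸ S)) := by
        rw [CentPrime.mem_cen_iff, ← QuotientGroup.mk_mul, ← QuotientGroup.mk_mul, QuotientGroup.eq]
        have := inv_mem (Subgroup.commutator_mem_commutator
          (inv_mem hk) (inv_mem hxK) : ⁅k⁻¹, x⁻¹⁆ ∈ S)
        convert hn2.conj_mem _ this 1 using 1
        rw [commutatorElement_def]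
        group
      rw [CentPrime.centralizer_mk hx hC hxS] at hc
      obtain ⟨i, hi⟩ := Subgroup.mem_zpowers_iff.1 hc
      rw [← QuotientGroup.mk_zpow, QuotientGroup.eq] at hi
      exact Subgroup.mem_sup_of_normal_right.2 ⟨x ^ i, Subgroup.zpow_mem _ (Subgroup.mem_zpowers x) i,
        (x ^ i)⁻¹ * k, hi, mul_inv_cancel_left _ _⟩
    have hKeq : Subgroup.zpowers x ⊔ S = commutator G :=
      le_antisymm (sup_le (Subgroup.zpowers_le.2 hxK) hSK) hKSP
    have hsup : CentPrime.nor x ⊔ S = ⊤ := by
      rw [← CentPrime.frattini hx hC hpK, ← hKeq, ← sup_assoc,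
        sup_eq_left.2 (CentPrime.zpowers_le_nor (x := x))]
    have hcardS : Nat.card S = 1 + n * p := by
      have hbot := CentPrime.nor_inf_eq_bot hx hC hxS
      have := (Subgroup.isComplement'_of_disjoint_and_mul_eq_univ (disjoint_iff.2 hbot)
        (by rw [← Subgroup.mul_normal, hsup, Subgroup.coe_top])).card_mul
      rw [← hG] at this
      exact Nat.eq_of_mul_eq_mul_left Nat.card_pos this
    refine ⟨hn2, hcardS, ?_⟩
    have hinf := CentPrime.inf_eq_bot hx hxS
    have hi2 : Nat.card (↥(Subgroup.zpowers x ⊔ S)) =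
        Nat.card (Subgroup.zpowers x) * Nat.card S := by
      rw [← Nat.card_prod, ← SetLike.coe_sort_coe, Subgroup.mul_normal]
      exact (Nat.card_congr (Equiv.ofBijective
        (fun q : Subgroup.zpowers x × S =>
          (⟨(q.1 : G) * q.2, Set.mul_mem_mul q.1.2 q.2.2⟩ :
            ((Subgroup.zpowers x : Set G) * (S : Set G) : Set G)))
        ⟨fun a b h => Subgroup.mul_injective_of_disjoint (disjoint_iff.2 (by rw [inf_comm]; exact hinf))
          (congrArg Subtype.val h), fun ⟨g, hg⟩ => by
            obtain ⟨a, ha, b, hb, rfl⟩ := hg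
            exact ⟨(⟨a, ha⟩, ⟨b, hb⟩), rfl⟩⟩)).symm
    rw [← hKeq, hi2, CentPrime.card_zpowers' hx, hcardS]
  refine ⟨⟨?_, ?_⟩, hA, fun h1 h2 => (hB h1 h2).2⟩
  · rintro ⟨S, hS, hSc⟩
    rcases eq_or_lt_of_le (CentPrime.t_le hx hC ht) with h | hlt
    · exact Or.inl h
    refine Or.inr ⟨hlt, fun heq => ?_⟩
    rw [hd1, hd2] at heq
    haveI := hS
    have hpS : ¬ p ∣ Nat.card S := by
      rw [hSc, ← Nat.dvd_add_iff_left (dvd_mul_left p n), Nat.dvd_one]
      exact hp.one_lt.ne'
    have hxS := CentPrime.not_mem_of_not_dvd hx hpS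
    have hpK := (CentPrime.dvd_commutator_iff hx hC ht).2 hlt.ne
    have hxK := CentPrime.mem_of_dvd hx hC hpK
    have hsup : CentPrime.nor x ⊔ S = ⊤ := by
      refine Subgroup.eq_top_of_card_eq _ (Nat.dvd_antisymm (Subgroup.card_subgroup_dvd_card _) ?_)
      rw [← hG, ← hSc]
      have hco : Nat.card (CentPrime.nor x) * Nat.card S =
          Nat.card (↥(CentPrime.nor x ⊔ S)) := by
        rw [← Nat.card_prod, ← SetLike.coe_sort_coe (p := CentPrime.nor x ⊔ S), Subgroup.mul_normal]
        exact Nat.card_congr (Equiv.ofBijective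
          (fun q : CentPrime.nor x × S =>
            (⟨(q.1 : G) * q.2, Set.mul_mem_mul q.1.2 q.2.2⟩ :
              ((CentPrime.nor x : Set G) * (S : Set G) : Set G)))
          ⟨fun a b h => Subgroup.mul_injective_of_disjoint
              (disjoint_iff.2 (CentPrime.nor_inf_eq_bot hx hC hxS))
            (congrArg Subtype.val h), fun ⟨g, hg⟩ => by
              obtain ⟨a, ha, b, hb, rfl⟩ := hg
              exact ⟨(⟨a, ha⟩, ⟨b, hb⟩), rfl⟩⟩)
      rw [hco]
    have hK : commutator G ≤ Subgroup.zpowers x ⊔ S := by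
      have hnorm : (Subgroup.zpowers x ⊔ S).Normal := by
        rw [← Subgroup.normalizer_eq_top_iff, eq_top_iff, ← hsup]
        refine sup_le (fun m hm => Subgroup.mem_normalizer_iff_map_conj_eq.2 ?_)
          (le_sup_right.trans Subgroup.le_normalizer)
        rw [Subgroup.map_sup, Subgroup.mem_normalizer_iff_map_conj_eq.1 hm,
          Subgroup.mem_normalizer_iff_map_conj_eq.1 (Subgroup.normalizer_eq_top S ▸ Subgroup.mem_top m)]
      refine CentPrime.commutator_le_of_dvd hx hC ?_
      have := Subgroup.card_dvd_of_le (le_sup_left : Subgroup.zpowers x ≤ Subgroup.zpowers x ⊔ S)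
      rwa [CentPrime.card_zpowers' hx] at this
    have hle : ⁅commutator G, commutator G⁆ ≤ S := by
      rw [Subgroup.commutator_le]
      intro a ha b hb
      obtain ⟨u, hu, s, hs, rfl⟩ := Subgroup.mem_sup_of_normal_right.1 (hK ha)
      obtain ⟨w, hw, r, hr, rfl⟩ := Subgroup.mem_sup_of_normal_right.1 (hK hb)
      obtain ⟨i, rfl⟩ := Subgroup.mem_zpowers_iff.1 hu
      obtain ⟨j, rfl⟩ := Subgroup.mem_zpowers_iff.1 hw
      rw [← QuotientGroup.eq_one_iff, commutatorElement_def]
      simp only [QuotientGroup.mk_mul, QuotientGroup.mk_inv, (QuotientGroup.eq_one_iff s).2 hs,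
        (QuotientGroup.eq_one_iff r).2 hr, mul_one]
      rw [← commutatorElement_def, commutatorElement_eq_one_iff_mul_comm, QuotientGroup.mk_zpow,
        QuotientGroup.mk_zpow]
      exact (Commute.zpow_zpow (Commute.refl _) i j).eq
    exact hxS (hle (heq.ge hxK))
  · rintro (h | ⟨h1, h2⟩)
    · exact ⟨commutator G, inferInstance, (hA h).1⟩
    · exact ⟨derivedSeries G 2, (hB h1 h2).1, (hB h1 h2).2.1⟩

end Cfsg.Agent.S4509
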