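import Cfsg.Statements.S4510
import Cfsg.Agent.Lib.BlockLow.DefectClasses


set_option autoImplicit false
open Cfsg

namespace Cfsg.Agent.S4510

/-- Let G be a finite group, p a prime, M a maximal ideal of the algebraic integers containing p, and call the defect of a conjugacy class the exponent of p in the order of the centralizer of its elements. Two irreducible characters lying in p-blocks of defect exactly d lie in the same block if and only if their central characters (class size times χ(x)/χ(1)) agree modulo the local ideal at M at every p-regular element x whose class has defect exactly d. -/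
theorem result {G : Type*} [Group G] [Finite G] (p : ℕ) [Fact p.Prime] (M : Ideal Cfsg.AlgInt) (hM : Cfsg.IsPModular p M) (d : ℕ) (χ ψ : Cfsg.IrrCharacter G) (hχ : Cfsg.blockDefect p (Cfsg.blockOf M (χ : G → ℂ)) = d) (hψ : Cfsg.blockDefect p (Cfsg.blockOf M (ψ : G → ℂ)) = d) : Cfsg.SameBlock M (χ : G → ℂ) (ψ : G → ℂ) ↔ ∀ x : G, ¬ p ∣ orderOf x → (Nat.card (Subgroup.centralizer ({x} : Set G))).factorization p = d → Cfsg.MemLocalIdeal M (Cfsg.centralChar (χ : G → ℂ) x - Cfsg.centralChar (ψ : G → ℂ) x) := by
  classical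
  letI := Fintype.ofFinite G
  haveI := hM.2.1
  haveI := Fintype.ofFinite (ConjClasses G)
  refine ⟨fun h x _ _ => h x, fun h => ?_⟩
  have hBχ := Blocks.isPBlock_blockOf (M := M) χ
  have h1 := BlockLow.omega_blockIdem_congr hM.2.2 hBχ hχ hχ
  have h2 := BlockLow.omega_blockIdem_congr hM.2.2 hBχ hχ hψ
  rw [if_pos (Blocks.mem_blockOf_self χ)] at h1
  by_contra hne
  rw [if_neg (show ψ ∉ Cfsg.blockOf M χ.1 from hne)] at h2
  have h3 := Blocks.MemLocalIdeal.sum (M := M) (Finset.univ.filter (BlockLow.DefectClassSet p d))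
    (f := fun C : ConjClasses G => (Blocks.blockIdem (Cfsg.blockOf M χ.1)).coeff C.out *
      (Cfsg.centralChar χ.1 C.out - Cfsg.centralChar ψ.1 C.out)) fun C hC => by
    obtain ⟨g, hg, hreg, hgd⟩ := (Finset.mem_filter.1 hC).2
    refine Blocks.MemLocalIdeal.mul_left (Blocks.scoeff_blockIdem hBχ _) ?_
    have hc : IsConj g C.out := ConjClasses.mk_eq_mk_iff_isConj.1 (hg.trans (Quotient.out_eq C).symm)
    rw [Blocks.centralChar_of_isConj χ hc, Blocks.centralChar_of_isConj ψ hc]
    exact h g hreg hgd
  simp only [mul_sub, Finset.sum_sub_distrib] at h3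
  have h4 := Blocks.MemLocalIdeal.sub (Blocks.MemLocalIdeal.add h1 h3) h2
  exact Blocks.not_memLocalIdeal_one (M := M) (by convert h4 using 1; ring)

end Cfsg.Agent.S4510
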