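import Cfsg.Statements.S4720
import Cfsg.Agent.Lib.Blocks.SecondMain
import Cfsg.Agent.Lib.BlockCount.CentralizerBlocks
import Cfsg.Agent.Lib.Char.Generalized
import Cfsg.Agent.Lib.Char.Induction

set_option autoImplicit false
set_option linter.style.haveILetI false
set_option linter.unusedSectionVars false
open Cfsg

namespace Cfsg.Agent.S4720

open scoped Classical ComplexConjugate
open Agent

universe u

variable {G : Type u} [Group G] [Finite G] {M : Ideal AlgInt} {p : ℕ} [Fact p.Prime]

/-- The sum of the squared degrees in the principal block of `C(y)`. -/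
noncomputable def lam (M : Ideal AlgInt) (y : G) : ℂ :=
  ((∑ᶠ ψ ∈ principalBlock M (Subgroup.centralizer ({y} : Set G)),
    (charDegree (ψ : Subgroup.centralizer ({y} : Set G) → ℂ) : ℚ) ^ 2 : ℚ) : ℂ)

/-- The second and third main theorems at `p`-elements. -/
theorem sum_principal_mul_conj [Fintype G] (hM : IsPModular p M) {y z : G}
    (hy : ∃ k, orderOf y = p ^ k) (hz : ∃ k, orderOf z = p ^ k) :
    ∑ χ ∈ Finset.univ.filter (· ∈ principalBlock M G), χ.1 y * conj (χ.1 z) =
      if IsConj y z then lam M y else 0 := by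
  haveI := hM.2.1
  have hB : IsPBlock M (principalBlock M G) := ⟨Char.trivialChar G, rfl⟩
  have hself : ∀ v : G, (∃ k, orderOf v = p ^ k) → IsPPart p v v := fun v hv =>
    ⟨1, mul_one v, Commute.one_right v, hv, by
      rw [orderOf_one]; exact (Fact.out : p.Prime).not_dvd_one⟩
  split_ifs with hc
  · rw [Finset.sum_congr rfl (g := fun χ : IrrCharacter G => χ.1 y * conj (χ.1 y)) fun χ _ => by
      rw [Char.IsClassFunction.apply_of_isConj
        (Char.IsCharacter.isClassFunction (Char.irr_isCharacter χ)) hc]]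
    haveI := Fintype.ofFinite (Subgroup.centralizer ({y} : Set G))
    have h1 : IsPRegular p (1 : Subgroup.centralizer ({y} : Set G)) := by
      rw [IsPRegular, orderOf_one]; exact (Fact.out : p.Prime).not_dvd_one
    have h := Blocks.second_main_orth hM.2.2 hy hB h1 h1
    simp only [OneMemClass.coe_one, mul_one] at h
    convert h using 1
    rw [lam, finsum_mem_eq_sum_of_inter_support_eq _ (t := Finset.univ.filter
      (· ∈ principalBlock M (Subgroup.centralizer ({y} : Set G)))) (by ext; simp), Rat.cast_sum]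
    obtain ⟨k, hk⟩ := hy
    have hset : Blocks.inducingSet M (Subgroup.centralizer ({y} : Set G)) (principalBlock M G) =
        principalBlock M (Subgroup.centralizer ({y} : Set G)) := by
      ext η
      obtain ⟨hC, hQ⟩ := BlockCount.zpowers_facts y
      rw [show η ∈ Blocks.inducingSet M (Subgroup.centralizer ({y} : Set G)) (principalBlock M G) ↔
          IsInducedBlock M _ (blockOf M η.1) (principalBlock M G) from Iff.rfl,
        BlockCount.isInducedBlock_principal_iff hM.2.2
          (IsPGroup.of_card (n := k) (by rw [Nat.card_zpowers, hk])) hC hQ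
          (Blocks.isPBlock_blockOf η)]
      exact ⟨fun h => h ▸ Blocks.mem_blockOf_self η, fun h => (Blocks.block_eq
        (⟨Char.trivialChar _, rfl⟩ : IsPBlock M _) h).symm⟩
    refine Finset.sum_congr (by rw [hset]) fun η _ => ?_
    rw [Rat.cast_pow, Rat.cast_natCast, charDegree, Char.apply_one_eq_degree, Complex.natCast_re, Nat.floor_natCast,
      Complex.conj_natCast, pow_two]
  · exact Blocks.block_orthogonality hM.2.2 (hself y hy) (hself z hz) hc hB

variable (P N : Subgroup G)

/-- The orbit sum over `N` counts each conjugate of `y` in `P` as often as `C_N(y)` is large. -/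
theorem sum_orbit [Fintype P] [Fintype N] (hNN : N ≤ Subgroup.normalizer (P : Set G))
    (η : P → ℂ) (y : P)
    (hfus : ∀ g : G, g * y * g⁻¹ ∈ (P : Set G) → ∃ n ∈ N, n * y * n⁻¹ = g * y * g⁻¹) :
    ∑ x : N, extendByZero P η ((x : G) * y * (x : G)⁻¹) =
      (Nat.card ↥(N ⊓ Subgroup.centralizer ({(y : G)} : Set G)) : ℂ) *
        ∑ z ∈ Finset.univ.filter (fun z : P => IsConj (y : G) z), η z := by
  have hmem : ∀ x : N, (x : G) * y * (x : G)⁻¹ ∈ P := fun x =>
    ((Subgroup.mem_normalizer_iff.1 (hNN x.2)) (y : G)).1 y.2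
  let φ : N → P := fun x => ⟨_, hmem x⟩
  rw [Finset.sum_congr rfl (g := fun x => η (φ x)) fun x _ => Char.extendByZero_of_mem _ _ (hmem x),
    ← Finset.sum_fiberwise_of_maps_to (t := Finset.univ.filter (fun z : P => IsConj (y : G) z))
      (g := φ) (fun x _ => Finset.mem_filter.2 ⟨Finset.mem_univ _, isConj_iff.2 ⟨x, rfl⟩⟩),
    Finset.mul_sum]
  refine Finset.sum_congr rfl fun z hz => ?_
  rw [Finset.sum_congr rfl (g := fun _ => η z) fun x hx => by rw [(Finset.mem_filter.1 hx).2],
    Finset.sum_const, nsmul_eq_mul]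
  congr 2
  obtain ⟨g, hg⟩ := isConj_iff.1 (Finset.mem_filter.1 hz).2
  obtain ⟨n, hn, hny⟩ := hfus g (by rw [hg]; exact z.2)
  rw [hg] at hny
  rw [← Fintype.card_coe, ← Nat.card_eq_fintype_card]
  refine Nat.card_congr ?_
  refine
    { toFun := fun x => ⟨n⁻¹ * (x.1 : G), N.mul_mem (N.inv_mem hn) x.1.2, ?_⟩
      invFun := fun c => ⟨⟨n * c, N.mul_mem hn c.2.1⟩, Finset.mem_filter.2 ⟨Finset.mem_univ _, ?_⟩⟩
      left_inv := fun x => Subtype.ext (Subtype.ext (mul_inv_cancel_left _ _))
      right_inv := fun c => Subtype.ext (inv_mul_cancel_left _ _) }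
  · refine Subgroup.mem_centralizer_singleton_iff.2 (mul_inv_eq_iff_eq_mul.1 ?_)
    have hx : (x.1 : G) * y * (x.1 : G)⁻¹ = z := congrArg Subtype.val (Finset.mem_filter.1 x.2).2
    calc n⁻¹ * (x.1 : G) * y * (n⁻¹ * (x.1 : G))⁻¹
        = n⁻¹ * ((x.1 : G) * y * (x.1 : G)⁻¹) * n := by group
      _ = (y : G) := by rw [hx, ← hny]; group
  · refine Subtype.ext ?_
    show n * (c : G) * y * (n * (c : G))⁻¹ = z
    rw [← hny, mul_assoc n (c : G) (y : G), Subgroup.mem_centralizer_singleton_iff.1 c.2.2]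
    group

/-- Let p be a prime, M a maximal ideal of the algebraic integers containing p, P a p-subgroup of the finite group G, N a subgroup with P ≤ N ≤ N_G(P), and U a nonempty subset of P normalized by N such that an element of U and an element of P that are conjugate in G are already conjugate in N, and such that λ(C_G(y)) = w·#C_N(y) for every y ∈ U with one rational number w, where λ(X) denotes the sum of the squares of the degrees of the irreducible characters in the principal p-block of X. For a complex function θ on P and χ in the principal block of G put a_χ(θ) = #P⁻¹ Σ_{y ∈ P} χ(y) θ(y⁻¹). Then for generalized characters θ, η of P with θ vanishing outside U, Σ_χ a_χ(θ)·conj(a_χ(η)) = (w/#P²)·Σ_{y ∈ P} θ(y)·conj(Σ_{x ∈ N} η(x y x⁻¹)) (η extended by zero off P; the conjugates lie in P), the first sum over the principal p-block of G. -/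
theorem result {G : Type*} [Group G] [Finite G] (p : ℕ) [Fact p.Prime] (M : Ideal Cfsg.AlgInt) (hM : Cfsg.IsPModular p M) (P : Subgroup G) (hP : IsPGroup p P) (N : Subgroup G) (hPN : P ≤ N) (hNN : N ≤ Subgroup.normalizer (P : Set G)) (U : Set G) (hUne : U.Nonempty) (hUP : U ⊆ (P : Set G)) (hUN : ∀ n ∈ N, ∀ u ∈ U, n * u * n⁻¹ ∈ U) (hfus : ∀ u ∈ U, ∀ g : G, g * u * g⁻¹ ∈ (P : Set G) → ∃ n ∈ N, n * u * n⁻¹ = g * u * g⁻¹) (w : ℚ) (hw : ∀ y ∈ U, ((∑ᶠ ψ ∈ Cfsg.principalBlock M ↥(Subgroup.centralizer ({y} : Set G)), Cfsg.charDegree (ψ : ↥(Subgroup.centralizer ({y} : Set G)) → ℂ) ^ 2) : ℚ) = w * Nat.card ↥(N ⊓ Subgroup.centralizer ({y} : Set G))) (θ η : ↥P → ℂ) (hθ : Cfsg.IsGeneralizedCharacter ↥P θ) (hη : Cfsg.IsGeneralizedCharacter ↥P η) (hθU : ∀ y : ↥P, (y : G) ∉ U → θ y = 0) : ∑ᶠ χ ∈ Cfsg.principalBlock M G, ((Nat.card ↥P : ℂ)⁻¹ * ∑ᶠ y : ↥P, (χ : G → ℂ) (y : G) * θ y⁻¹) * (starRingEnd ℂ) ((Nat.card ↥P : ℂ)⁻¹ * ∑ᶠ y : ↥P, (χ : G → ℂ) (y : G) * η y⁻¹) = ((w : ℂ) / ((Nat.card ↥P : ℂ) ^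 2)) * ∑ᶠ y : ↥P, θ y * (starRingEnd ℂ) (∑ᶠ x : ↥N, Cfsg.extendByZero P η ((x : G) * (y : G) * (x : G)⁻¹)) := by
  classical
  haveI := Fintype.ofFinite G
  haveI := Fintype.ofFinite P
  haveI := Fintype.ofFinite N
  simp only [finsum_mem_eq_sum_of_inter_support_eq _
    (show Cfsg.principalBlock M G ∩ _ = ↑(Finset.univ.filter (· ∈ Cfsg.principalBlock M G)) ∩ _ by
      simp), finsum_eq_sum_of_fintype]
  have hpel : ∀ y : P, ∃ k, orderOf (y : G) = p ^ k := fun y => by
    obtain ⟨k, hk⟩ := hP y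
    obtain ⟨j, -, hj⟩ := (Nat.dvd_prime_pow Fact.out).1 (orderOf_dvd_of_pow_eq_one hk)
    exact ⟨j, by rw [Subgroup.orderOf_coe, hj]⟩
  have horth : ∀ y z : P, ∑ χ ∈ Finset.univ.filter (· ∈ Cfsg.principalBlock M G),
      χ.1 ((y⁻¹ : P) : G) * (starRingEnd ℂ) (χ.1 ((z⁻¹ : P) : G)) =
        if IsConj (y : G) z then lam M (y : G) else 0 := fun y z => by
    have h := congrArg (starRingEnd ℂ) (sum_principal_mul_conj (M := M) hM (hpel y) (hpel z))
    rw [map_sum, apply_ite (starRingEnd ℂ), map_zero,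
      show (starRingEnd ℂ) (lam M (y : G)) = lam M (y : G) from map_ratCast _ _] at h
    rw [← h]
    refine Finset.sum_congr rfl fun χ _ => ?_
    rw [map_mul, Complex.conj_conj, Subgroup.coe_inv, Subgroup.coe_inv,
      ← Char.IsCharacter.conj_apply (Char.irr_isCharacter χ),
      ← Char.IsCharacter.conj_apply (Char.irr_isCharacter χ), Complex.conj_conj]
  calc _ = ∑ χ ∈ Finset.univ.filter (· ∈ Cfsg.principalBlock M G),
        ((Nat.card ↥P : ℂ)⁻¹ * ∑ y : P, χ.1 ((y⁻¹ : P) : G) * θ y) *
          (starRingEnd ℂ) ((Nat.card ↥P : ℂ)⁻¹ * ∑ z : P, χ.1 ((z⁻¹ : P) : G) * η z) := by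
        refine Finset.sum_congr rfl fun χ _ => ?_
        rw [Fintype.sum_equiv (Equiv.inv P) (fun y : P => χ.1 (y : G) * θ y⁻¹)
            (fun y : P => χ.1 ((y⁻¹ : P) : G) * θ y) (fun y => by simp),
          Fintype.sum_equiv (Equiv.inv P) (fun y : P => χ.1 (y : G) * η y⁻¹)
            (fun y : P => χ.1 ((y⁻¹ : P) : G) * η y) (fun y => by simp)]
    _ = ((Nat.card ↥P : ℂ) ^ 2)⁻¹ * ∑ y : P, θ y * ∑ z : P, (starRingEnd ℂ) (η z) *
          (if IsConj (y : G) z then lam M (y : G) else 0) := by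
        simp only [← horth, map_mul, map_sum, map_inv₀, Complex.conj_natCast, Finset.mul_sum,
          Finset.sum_mul]
        rw [Finset.sum_comm]
        conv_rhs => rw [Finset.sum_comm]
        refine Finset.sum_congr rfl fun z _ => ?_
        rw [Finset.sum_comm]
        refine Finset.sum_congr rfl fun y _ => Finset.sum_congr rfl fun χ _ => ?_
        ring
    _ = _ := by
        rw [div_eq_inv_mul, mul_assoc, Finset.mul_sum (a := (w : ℂ))]
        congr 1
        refine Finset.sum_congr rfl fun y _ => ?_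
        by_cases hy : (y : G) ∈ U
        · rw [sum_orbit P N hNN η y (hfus y hy), map_mul, map_sum, Complex.conj_natCast]
          have hl : lam M (y : G) = (w : ℂ) *
              (Nat.card ↥(N ⊓ Subgroup.centralizer ({(y : G)} : Set G)) : ℂ) := by
            have h := congrArg (fun q : ℚ => (q : ℂ)) (hw y hy)
            simp only [Rat.cast_mul, Rat.cast_natCast] at h
            exact h
          rw [Finset.sum_filter]
          simp only [Finset.mul_sum, mul_ite, mul_zero, hl]
          refine Finset.sum_congr rfl fun z _ => ?_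
          split_ifs <;> ring
        · rw [hθU y hy, zero_mul, zero_mul, mul_zero]

end Cfsg.Agent.S4720
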