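import Cfsg.Statements.S4512
import Cfsg.Agent.S4511
import Cfsg.Agent.S4720
import Cfsg.Agent.Lib.Blocks.PPrimeNormal
import Cfsg.Agent.Lib.Transfer.SmallFusion
import Cfsg.Agent.Lib.PCore.Basic

set_option autoImplicit false
set_option linter.style.haveILetI false
set_option linter.unusedSectionVars false
open Cfsg

namespace Cfsg.Agent.S4512

open scoped Classical ComplexConjugate
open Agent

universe u

variable {G : Type u} [Group G] [Finite G]

theorem exists_sum_eq (χ : IrrCharacter G) (H : Subgroup G) {v : ℂ}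
    (hv : ∀ y ∈ H, y ≠ 1 → χ.1 y = v) :
    ∃ n : ℕ, χ.1 1 + ((Nat.card H : ℂ) - 1) * v = (Nat.card H : ℂ) * n := by
  haveI := Fintype.ofFinite H
  obtain ⟨n, hn⟩ := Char.IsCharacter.exists_nat_classInner
    (Char.IsCharacter.restrict (Char.irr_isCharacter χ) H)
    (Char.irr_isCharacter (Char.trivialChar H))
  refine ⟨n, ?_⟩
  rw [classInner, inv_mul_eq_iff_eq_mul₀ (Nat.cast_ne_zero.2 Nat.card_pos.ne'),
    ← Finset.add_sum_erase _ _ (Finset.mem_univ (1 : H))] at hn
  rw [← hn, Finset.sum_congr rfl (g := fun _ => v) fun y hy => by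
    rw [Char.trivialChar_apply, map_one, mul_one]
    exact hv y y.2 fun e => (Finset.mem_erase.1 hy).1 (Subtype.ext e),
    Finset.sum_const, Finset.card_erase_of_mem (Finset.mem_univ _), Finset.card_univ,
    ← Nat.card_eq_fintype_card, nsmul_eq_mul, Nat.cast_sub Nat.card_pos]
  simp

/-- The centraliser of an involution in a four group has a normal `2`-complement. -/
theorem centralizer_hasNormalPComplement {x : G} (Q : Sylow 2 G) (hQ : Nat.card Q = 4)
    (hexp : ∀ y : Q, y * y = 1) (hxQ : x ∈ (Q : Subgroup G)) (hx : x ≠ 1) :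
    HasNormalPComplement 2 (Subgroup.centralizer ({x} : Set G)) := by
  haveI : Fact (Nat.Prime 2) := ⟨Nat.prime_two⟩
  have hcomm : ∀ a ∈ (Q : Subgroup G), ∀ b ∈ (Q : Subgroup G), a * b = b * a := fun a ha b hb => by
    have hi : ∀ c : Q, c⁻¹ = c := fun c => inv_eq_of_mul_eq_one_right (hexp c)
    have h := hi (⟨a, ha⟩ * ⟨b, hb⟩)
    rw [mul_inv_rev, hi, hi] at h
    exact (congrArg Subtype.val h).symm
  have hQC : (Q : Subgroup G) ≤ Subgroup.centralizer ({x} : Set G) := fun a ha =>
    Subgroup.mem_centralizer_singleton_iff.2 (hcomm a ha x hxQ)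
  refine Transfer.hasNormalPComplement_of_centralizer (Q.subtype hQC) fun R hR g hg hco => ?_
  rw [Subgroup.mem_centralizer_iff]
  intro y hy
  have hmem : ∀ z : Subgroup.centralizer ({x} : Set G), z ∈ R → (z : G) ∈ (Q : Subgroup G) :=
    fun z hz => by
      have := hR hz
      rwa [Sylow.coe_subtype, Subgroup.mem_subgroupOf] at this
  -- the conjugates of `y`
  have h1 : g * y * g⁻¹ ∈ R := (Subgroup.mem_normalizer_iff.1 hg y).1 hy
  have h2 : g * (g * y * g⁻¹) * g⁻¹ ∈ R := (Subgroup.mem_normalizer_iff.1 hg _).1 h1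
  have hgx : (g : G) * x * (g : G)⁻¹ = x := by
    rw [Subgroup.mem_centralizer_singleton_iff.1 g.2, mul_inv_cancel_right]
  have key : Commute (g * g) y := by
    by_contra hne
    let a : Q := ⟨(y : G), hmem y hy⟩
    let b : Q := ⟨((g * y * g⁻¹ : Subgroup.centralizer ({x} : Set G)) : G), hmem _ h1⟩
    let c : Q := ⟨((g * (g * y * g⁻¹) * g⁻¹ : Subgroup.centralizer ({x} : Set G)) : G), hmem _ h2⟩
    let e : Q := ⟨x, hxQ⟩
    have hgy : g * y * g⁻¹ ≠ y := fun h => hne (by
      have h' : Commute g y := mul_inv_eq_iff_eq_mul.1 h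
      exact h'.mul_left h')
    have hgy2 : g * (g * y * g⁻¹) * g⁻¹ ≠ y := fun h => hne (by
      show g * g * y = y * (g * g)
      calc g * g * y = g * (g * y * g⁻¹) * g⁻¹ * (g * g) := by group
        _ = y * (g * g) := by rw [h])
    have hinj : Function.Injective (fun z : G => (g : G) * z * (g : G)⁻¹) := fun u w h =>
      mul_left_cancel (mul_right_cancel h)
    have hy1 : (y : G) ≠ 1 := fun h => hgy (by
      rw [show y = 1 from Subtype.ext h, mul_one, mul_inv_cancel])
    have hyx : (y : G) ≠ x := fun h => hgy (Subtype.ext (by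
      show (g : G) * y * (g : G)⁻¹ = y
      rw [h, hgx]))
    have hb1 : (g : G) * y * (g : G)⁻¹ ≠ 1 := fun h => hy1 (conj_eq_one_iff.1 h)
    have hbx : (g : G) * y * (g : G)⁻¹ ≠ x := fun h => hyx (hinj (h.trans hgx.symm))
    have hc1 : (g : G) * ((g : G) * y * (g : G)⁻¹) * (g : G)⁻¹ ≠ 1 := fun h =>
      hb1 (conj_eq_one_iff.1 h)
    have hcx : (g : G) * ((g : G) * y * (g : G)⁻¹) * (g : G)⁻¹ ≠ x := fun h =>
      hbx (hinj (h.trans hgx.symm))
    have hab : a ≠ b := fun h => hgy (Subtype.ext (congrArg Subtype.val h).symm)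
    have hac : a ≠ c := fun h => hgy2 (Subtype.ext (congrArg Subtype.val h).symm)
    have hbc : b ≠ c := fun h => hgy (Subtype.ext (hinj (congrArg Subtype.val h :))).symm
    haveI := Fintype.ofFinite Q
    have hcard := Finset.card_le_univ ({1, e, a, b, c} : Finset Q)
    rw [← Nat.card_eq_fintype_card, hQ, Finset.card_insert_of_notMem, Finset.card_insert_of_notMem,
      Finset.card_insert_of_notMem, Finset.card_insert_of_notMem, Finset.card_singleton] at hcard
    · omega
    · simpa using hbc
    · simp only [Finset.mem_insert, Finset.mem_singleton, not_or]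
      exact ⟨hab, hac⟩
    · simp only [Finset.mem_insert, Finset.mem_singleton, not_or]
      exact ⟨fun h => hyx (congrArg Subtype.val h :).symm, fun h => hbx (congrArg Subtype.val h :).symm,
        fun h => hcx (congrArg Subtype.val h :).symm⟩
    · simp only [Finset.mem_insert, Finset.mem_singleton, not_or]
      exact ⟨fun h => hx (congrArg Subtype.val h :).symm, fun h => hy1 (congrArg Subtype.val h :).symm,
        fun h => hb1 (congrArg Subtype.val h :).symm, fun h => hc1 (congrArg Subtype.val h :).symm⟩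
  obtain ⟨k, hk⟩ : ∃ k, orderOf g = 2 * k + 1 :=
    Nat.odd_iff.2 (Nat.two_dvd_ne_zero.1 fun h => by
      exact Nat.prime_two.ne_one (Nat.eq_one_of_dvd_coprimes hco h dvd_rfl))
  have h3 : Commute ((g * g) ^ (k + 1)) y := key.pow_left _
  rw [show (g * g) ^ (k + 1) = g by
    rw [← pow_two, ← pow_mul, show 2 * (k + 1) = orderOf g + 1 by omega, pow_succ,
      pow_orderOf_eq_one, one_mul]] at h3
  exact h3.eq.symm

/-- The principal block of the centraliser of an involution. -/
theorem local_facts {M : Ideal AlgInt} (hM : IsPModular 2 M) {x : G} (Q : Sylow 2 G)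
    (hQ : Nat.card Q = 4) (hexp : ∀ y : Q, y * y = 1) (hxQ : x ∈ (Q : Subgroup G)) (hx : x ≠ 1) :
    blockRank 2 (principalBlock M (Subgroup.centralizer ({x} : Set G))) = 1 ∧
      S4720.lam M x = 4 := by
  haveI : Fact (Nat.Prime 2) := ⟨Nat.prime_two⟩
  haveI := hM.2.1
  haveI := Fintype.ofFinite (Subgroup.centralizer ({x} : Set G))
  set C := Subgroup.centralizer ({x} : Set G) with hC
  set K := pPrimeCore 2 C
  obtain ⟨R, N, hN, hNR⟩ := centralizer_hasNormalPComplement Q hQ hexp hxQ hx
  haveI := hN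
  have hcardR : Nat.card R = 4 := by
    have hQC : (Q : Subgroup G) ≤ C := fun a ha => by
      refine Subgroup.mem_centralizer_singleton_iff.2 ?_
      have hi : ∀ c : Q, c⁻¹ = c := fun c => inv_eq_of_mul_eq_one_right (hexp c)
      have h := hi (⟨a, ha⟩ * ⟨x, hxQ⟩)
      rw [mul_inv_rev, hi, hi] at h
      exact (congrArg Subtype.val h :).symm
    rw [Nat.card_congr (Sylow.equiv R (Q.subtype hQC)).toEquiv]
    rw [Sylow.coe_subtype, Nat.card_congr (Subgroup.subgroupOfEquivOfLe hQC).toEquiv, hQ]
  have hNidx : N.index = 4 := by rw [hNR.symm.index_eq_card, hcardR]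
  have hNK : N ≤ K := by
    refine PCore.le_pPrimeCore ?_
    refine ((Nat.Prime.coprime_iff_not_dvd Nat.prime_two).2 ?_).symm
    have h := hNR.symm.index_eq_card
    exact fun hd => R.not_dvd_index' Subgroup.index_ne_zero_of_finite
      (hNR.index_eq_card.symm ▸ hd)
  have hKidx : K.index = 4 := by
    rw [← hNidx]
    have h1 := Subgroup.index_dvd_of_le hNK
    obtain ⟨j, hj⟩ : ∃ j, N.index = K.index * j := h1
    have hjK : j ∣ Nat.card K := by
      have h2 := Subgroup.relIndex_mul_index hNK
      rw [hj, mul_comm] at h2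
      have := mul_left_cancel₀ Subgroup.index_ne_zero_of_finite h2
      rw [← this]
      exact Subgroup.relIndex_dvd_card _ _
    have hj2 : j ∣ 2 ^ 2 := ⟨K.index, by rw [mul_comm, ← hj, hNidx]; norm_num⟩
    have hj1 : j = 1 := Nat.eq_one_of_dvd_coprimes
      (Nat.Coprime.pow_right 2 PCore.coprime_card_pPrimeCore) hjK hj2
    rw [hj, hj1, mul_one]
  have hnc : ∃ k, K.index = 2 ^ k := ⟨2, by rw [hKidx]; norm_num⟩
  have hb : IsPBlock M (principalBlock M C) := ⟨Char.trivialChar C, rfl⟩
  have hreg : ∀ g : C, IsPRegular 2 g → g ∈ K := fun g hg => by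
    have h1 : orderOf (g : C ⧸ K) ∣ orderOf g := orderOf_map_dvd (QuotientGroup.mk' K) g
    have h2 : orderOf (g : C ⧸ K) ∣ 2 ^ 2 := by
      rw [show 2 ^ 2 = 4 by norm_num, ← hKidx, Subgroup.index_eq_card]; exact orderOf_dvd_natCard _
    have h3 : Nat.Coprime (2 ^ 2) (orderOf g) :=
      Nat.Coprime.pow_left _ ((Nat.Prime.coprime_iff_not_dvd Nat.prime_two).2 hg)
    exact (QuotientGroup.eq_one_iff g).1
      (orderOf_eq_one_iff.1 (Nat.eq_one_of_dvd_coprimes h3 h2 h1))
  have hK : ∀ g : C, g ∈ K → IsPRegular 2 g := fun g hg h => by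
    have := orderOf_dvd_natCard (⟨g, hg⟩ : K)
    rw [Subgroup.orderOf_mk] at this
    exact Nat.prime_two.ne_one
      (Nat.eq_one_of_dvd_coprimes PCore.coprime_card_pPrimeCore (h.trans this) dvd_rfl)
  have hmem := Blocks.principalBlock_eq_of_index (M := M) hM.2.2 hnc
  have hone : ∀ η ∈ principalBlock M C,
      pRegularPart 2 η.1 = η.1 1 • pRegularPart 2 (fun _ => (1 : ℂ)) := fun η hη => by
    funext g
    simp only [pRegularPart, Pi.smul_apply, smul_eq_mul]
    split_ifs with hg
    · rw [hmem] at hη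
      rw [hη g (hreg g hg), mul_one]
    · rw [mul_zero]
  have hrank : blockRank 2 (principalBlock M C) = 1 := by
    rw [blockRank, show Submodule.span ℂ ((fun χ : IrrCharacter C => pRegularPart 2 (χ : C → ℂ)) ''
        principalBlock M C) = Submodule.span ℂ {pRegularPart 2 (fun _ : C => (1 : ℂ))} from
      le_antisymm (Submodule.span_le.2 ?_) (Submodule.span_mono ?_),
      finrank_span_singleton]
    · intro h
      have h1 := congrFun h 1
      simp [pRegularPart, IsPRegular] at h1
    · rintro _ ⟨η, hη, rfl⟩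
      show pRegularPart 2 η.1 ∈ _
      rw [hone η hη]
      exact Submodule.smul_mem _ _ (Submodule.mem_span_singleton_self _)
    · rintro _ rfl
      exact ⟨Char.trivialChar C, Blocks.sameBlock_refl _, rfl⟩
  refine ⟨hrank, ?_⟩
  have h := S4511.sum_regular_block hM.2.2 hb
  rw [hrank, Nat.cast_one, mul_one, Finset.sum_congr rfl
    (g := fun _ => ∑ η ∈ Finset.univ.filter (· ∈ principalBlock M C), η.1 1 * conj (η.1 1))
    fun g hg => Finset.sum_congr rfl fun η hη => by
      have h' := (Finset.mem_filter.1 hη).2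
      rw [hmem] at h'
      rw [h' g (hreg g (Finset.mem_filter.1 hg).2)],
    Finset.sum_const, nsmul_eq_mul, ← Subgroup.card_mul_index K, hKidx, Nat.cast_mul,
    show (Finset.univ.filter fun g : C => IsPRegular 2 g).card = Nat.card K by
      rw [Nat.card_eq_fintype_card, Fintype.card_subtype]
      congr 1
      ext g
      simp only [Finset.mem_filter, Finset.mem_univ, true_and]
      exact ⟨hreg g, hK g⟩] at h
  have h4 := mul_left_cancel₀ (Nat.cast_ne_zero.2 Nat.card_pos.ne') h
  rw [S4720.lam, finsum_mem_eq_sum_of_inter_support_eq _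
    (t := Finset.univ.filter (· ∈ principalBlock M C)) (by ext; simp only [Set.mem_inter_iff, Finset.coe_filter, Finset.mem_univ, true_and]; exact Iff.rfl), Rat.cast_sum]
  rw [show ((4 : ℕ) : ℂ) = 4 by norm_num] at h4
  rw [← h4]
  refine Finset.sum_congr rfl fun η _ => ?_
  rw [Rat.cast_pow, Rat.cast_natCast, charDegree, Char.apply_one_eq_degree, Complex.natCast_re,
    Nat.floor_natCast, Complex.conj_natCast, pow_two]

/-- If G is a finite group with a Sylow 2-subgroup that is a Klein four-group and a single conjugacy class of involutions, then its principal 2-block (relative to a maximal ideal M of the algebraic integers containing 2) has 2-regular rank 3: the restrictions of its irreducible characters to the elements of odd order span a space of dimension 3 (it has three irreducible Brauer characters). -/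
theorem result {G : Type*} [Group G] [Finite G] (M : Ideal Cfsg.AlgInt) (hM : Cfsg.IsPModular 2 M) (P : Sylow 2 G)
    (hP : Nat.card P = 4) (hexp : ∀ x : P, x * x = 1)
    (hone : ∀ s t : G, orderOf s = 2 → orderOf t = 2 → IsConj s t) :
    Cfsg.blockRank 2 (Cfsg.principalBlock M G) = 3 := by
  classical
  haveI : Fact (Nat.Prime 2) := ⟨Nat.prime_two⟩
  haveI := hM.2.1
  haveI := Fintype.ofFinite G
  have hB : Cfsg.IsPBlock M (Cfsg.principalBlock M G) := ⟨Char.trivialChar G, rfl⟩
  set S := Finset.univ.filter (· ∈ Cfsg.principalBlock M G) with hS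
  -- every involution lies in a four group
  have hsyl : ∀ x : G, orderOf x = 2 → ∃ Q : Sylow 2 G, Nat.card Q = 4 ∧
      (∀ y : Q, y * y = 1) ∧ x ∈ (Q : Subgroup G) := fun x hx => by
    obtain ⟨Q, hQ⟩ := IsPGroup.exists_le_sylow (p := 2)
      (IsPGroup.of_card (n := 1) (by rw [Nat.card_zpowers, hx, pow_one]) :
        IsPGroup 2 (Subgroup.zpowers x))
    let e := Sylow.equiv Q P
    refine ⟨Q, (Nat.card_congr e.toEquiv).trans hP, fun y => e.injective ?_,
      hQ (Subgroup.mem_zpowers x)⟩
    rw [map_mul, hexp, map_one]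
  have h2ord : ∀ x : G, orderOf x = 2 → x ≠ 1 := fun x hx e => by
    rw [e, orderOf_one] at hx; omega
  -- an involution `t` in `P`
  obtain ⟨t0, ht0⟩ : ∃ t0 : P, t0 ≠ 1 := by
    haveI : Nontrivial P := Finite.one_lt_card_iff_nontrivial.1 (by omega)
    exact exists_ne 1
  have hPord : ∀ y : P, y ≠ 1 → orderOf (y : G) = 2 := fun y hy => by
    rw [Subgroup.orderOf_coe]
    exact orderOf_eq_prime (by rw [pow_two, hexp]) hy
  set t : G := (t0 : G)
  have ht : orderOf t = 2 := hPord t0 ht0
  have hval : ∀ (χ : Cfsg.IrrCharacter G) (x : G), orderOf x = 2 → χ.1 x = χ.1 t := fun χ x hx =>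
    Char.IsClassFunction.apply_of_isConj
      (Char.IsCharacter.isClassFunction (Char.irr_isCharacter χ)) (hone x t hx ht)
  -- integrality
  have hint : ∀ χ : Cfsg.IrrCharacter G, ∃ z : ℤ, χ.1 t = z := fun χ => by
    obtain ⟨n, hn⟩ := exists_sum_eq χ (Subgroup.zpowers t) (v := χ.1 t) fun y hy hy1 => by
      refine hval χ y ?_
      obtain ⟨k, hk⟩ := hy
      have hy2 : (⟨y, ⟨k, hk⟩⟩ : Subgroup.zpowers t) ^ Nat.card (Subgroup.zpowers t) = 1 :=
        pow_card_eq_one'
      rw [Nat.card_zpowers, ht] at hy2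
      exact orderOf_eq_prime (congrArg Subtype.val hy2 :) hy1
    rw [Nat.card_zpowers, ht, Char.apply_one_eq_degree] at hn
    refine ⟨2 * n - Char.degree χ, ?_⟩
    push_cast at hn ⊢
    linear_combination hn
  choose z hz using hint
  have hdvd : ∀ χ : Cfsg.IrrCharacter G, (4 : ℤ) ∣ (Char.degree χ : ℤ) + 3 * z χ := fun χ => by
    obtain ⟨n, hn⟩ := exists_sum_eq χ (P : Subgroup G) (v := χ.1 t) fun y hy hy1 =>
      hval χ y (hPord ⟨y, hy⟩ fun e => hy1 (congrArg Subtype.val e :))
    rw [hP, hz χ, Char.apply_one_eq_degree] at hn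
    refine ⟨n, ?_⟩
    have : (((Char.degree χ : ℤ) + 3 * z χ : ℤ) : ℂ) = ((4 * n : ℤ) : ℂ) := by
      push_cast at hn ⊢
      linear_combination hn
    exact_mod_cast this
  have hne : ∀ χ ∈ S, z χ ≠ 0 := fun χ hχ h0 => by
    have hd := hdvd χ
    rw [h0, mul_zero, add_zero] at hd
    have hd4 : 4 ∣ Char.degree χ := by exact_mod_cast hd
    have hGP : (Nat.card G).factorization 2 = 2 := by
      have h := P.card_eq_multiplicity
      rw [show Nat.card P = 2 ^ 2 from hP] at h
      exact (Nat.pow_right_injective le_rfl h).symm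
    have hdeg : (Char.degree χ).factorization 2 = (Nat.card G).factorization 2 := by
      refine le_antisymm ?_ ?_
      · exact (Nat.factorization_le_iff_dvd
          (fun h => Char.IsIrrCharacter.apply_one_ne_zero χ.2
            (by rw [Char.apply_one_eq_degree, h, Nat.cast_zero]))
          Nat.card_pos.ne').2 (Char.degree_dvd_natCard χ) 2
      · rw [hGP]
        exact (Nat.Prime.pow_dvd_iff_le_factorization Nat.prime_two
          (fun h => Char.IsIrrCharacter.apply_one_ne_zero χ.2
            (by rw [Char.apply_one_eq_degree, h, Nat.cast_zero]))).1 hd4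
    have hsing := (Blocks.blockOf_eq_singleton_iff hM.2.2 χ).2 hdeg
    have htr : Char.trivialChar G ∈ Cfsg.blockOf M χ.1 := by
      rw [← Blocks.block_eq hB (Finset.mem_filter.1 hχ).2]
      exact Blocks.sameBlock_refl _
    rw [hsing] at htr
    have h1 := hz χ
    rw [h0, Int.cast_zero, ← (Set.mem_singleton_iff.1 htr)] at h1
    simp at h1
  -- four characters
  obtain ⟨Q, hQ, hQe, hQt⟩ := hsyl t ht
  have hlam := (local_facts hM Q hQ hQe hQt (h2ord t ht)).2
  have hsum := S4720.sum_principal_mul_conj (M := M) (p := 2) hM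
    (y := t) (z := t) ⟨1, by rw [ht, pow_one]⟩ ⟨1, by rw [ht, pow_one]⟩
  rw [if_pos (IsConj.refl t), hlam] at hsum
  have hsq : ∑ χ ∈ S, z χ ^ 2 = 4 := by
    have : ((∑ χ ∈ S, z χ ^ 2 : ℤ) : ℂ) = ((4 : ℤ) : ℂ) := by
      push_cast
      rw [← hsum]
      exact Finset.sum_congr rfl fun χ _ => by rw [hz χ, map_intCast, pow_two]
    exact_mod_cast this
  have htriv : Char.trivialChar G ∈ S :=
    Finset.mem_filter.2 ⟨Finset.mem_univ _, Blocks.sameBlock_refl _⟩
  have hz1 : z (Char.trivialChar G) = 1 := by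
    have := hz (Char.trivialChar G)
    rw [Char.trivialChar_apply] at this
    exact_mod_cast this.symm
  have hone' : ∀ χ ∈ S, z χ ^ 2 = 1 := fun χ hχ => by
    have hpos : 1 ≤ z χ ^ 2 := by nlinarith [Int.one_le_abs (hne χ hχ), abs_mul_abs_self (z χ)]
    by_contra hne1
    have h4 : 4 ≤ z χ ^ 2 := by
      have : 2 ≤ |z χ| := by
        by_contra hlt
        have : |z χ| = 1 := le_antisymm (by omega) (Int.one_le_abs (hne χ hχ))
        exact hne1 (by rw [← sq_abs, this, one_pow])
      nlinarith [abs_mul_abs_self (z χ)]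
    have hne2 : χ ≠ Char.trivialChar G := fun e => hne1 (by rw [e, hz1, one_pow])
    have hle := Finset.sum_le_sum_of_subset_of_nonneg (f := fun η => z η ^ 2)
      (show ({χ, Char.trivialChar G} : Finset _) ⊆ S by
        intro η hη
        simp only [Finset.mem_insert, Finset.mem_singleton] at hη
        rcases hη with rfl | rfl
        exacts [hχ, htriv]) (fun η _ _ => sq_nonneg _)
    rw [Finset.sum_pair hne2, hsq, hz1] at hle
    omega
  have hk : S.card = 4 := by
    rw [Finset.sum_congr rfl hone', Finset.sum_const, nsmul_eq_mul, mul_one] at hsq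
    exact_mod_cast hsq
  -- the sum over all elements
  let F : G → ℂ := fun g => ∑ χ ∈ S, χ.1 g * (starRingEnd ℂ) (χ.1 g)
  have h1 : ∑ g : G, F g = (Nat.card G : ℂ) * 4 := by
    simp only [F]
    rw [Finset.sum_comm, Finset.sum_congr rfl (g := fun _ => (Nat.card G : ℂ)) fun χ _ => ?_,
      Finset.sum_const, nsmul_eq_mul, hk, mul_comm]
    · norm_num
    · have h := Char.classInner_irr_self χ.2
      rw [Cfsg.classInner, inv_mul_eq_one₀ (Nat.cast_ne_zero.2 Nat.card_pos.ne')] at h
      exact h.symm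
  have h2 := S4511.sum_regular_block (p := 2) hM.2.2 hB
  rw [← hS] at h2
  choose pp hpp using fun g : G => Blocks.exists_isPPart (p := 2) g
  have hsing : ∀ g : G, ¬ Cfsg.IsPRegular 2 g → orderOf (pp g) = 2 := fun g hg => by
    obtain ⟨R, hR⟩ := IsPGroup.exists_le_sylow (p := 2) (G := G)
      (Blocks.isPGroup_zpowers (Blocks.IsPPart.isPElement (hpp g)))
    have e := Sylow.equiv R P
    have h1 : pp g ≠ 1 := fun h => by
      obtain ⟨w, hw, -, -, hreg⟩ := hpp g
      rw [h, one_mul] at hw
      exact hg (hw ▸ hreg)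
    have hmem : pp g ∈ (R : Subgroup G) := hR (Subgroup.mem_zpowers _)
    have : (⟨pp g, hmem⟩ : R) ^ 2 = 1 := e.injective (by rw [map_pow, pow_two, hexp, map_one])
    exact orderOf_eq_prime (congrArg Subtype.val this :) h1
  have hregne : ∀ g : G, Cfsg.IsPRegular 2 g → pp g = 1 := fun g hg =>
    Blocks.IsPPart.unique (hpp g) ⟨g, one_mul g, Commute.one_left g, ⟨0, by simp⟩, hg⟩
  have h3 : ∑ g ∈ Finset.univ.filter (fun g => ¬ Cfsg.IsPRegular 2 g), F g = (Nat.card G : ℂ) := by
    rw [← Finset.sum_fiberwise_of_maps_to (t := Finset.univ.filter fun x : G => IsConj t x)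
      (g := pp) fun g hg => Finset.mem_filter.2 ⟨Finset.mem_univ _,
        hone t (pp g) ht (hsing g (Finset.mem_filter.1 hg).2)⟩]
    have hin : ∀ x ∈ Finset.univ.filter (fun x : G => IsConj t x),
        ∑ g ∈ (Finset.univ.filter (fun g => ¬ Cfsg.IsPRegular 2 g)).filter (fun g => pp g = x), F g =
          (Nat.card (Subgroup.centralizer ({t} : Set G)) : ℂ) := by
      intro x hx
      obtain ⟨c, hc⟩ := isConj_iff.1 (Finset.mem_filter.1 hx).2
      have hx2 : orderOf x = 2 := by
        rw [← hc, show c * t * c⁻¹ = MulAut.conj c t from rfl, MulEquiv.orderOf_eq, ht]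
      obtain ⟨R, hR, hRe, hRx⟩ := hsyl x hx2
      have hxp : ∃ k, orderOf x = 2 ^ k := ⟨1, by rw [hx2, pow_one]⟩
      rw [show (Finset.univ.filter (fun g => ¬ Cfsg.IsPRegular 2 g)).filter (fun g => pp g = x) =
          Finset.univ.filter (fun g => Cfsg.IsPPart 2 g x) by
        ext g
        simp only [Finset.mem_filter, Finset.mem_univ, true_and]
        refine ⟨fun h => h.2 ▸ hpp g, fun h => ?_⟩
        have e := Blocks.IsPPart.unique (hpp g) h
        exact ⟨fun hr => h2ord x hx2 (e ▸ hregne g hr), e⟩]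
      simp only [F, hS]
      rw [S4511.sum_section hM.2.2 hB hxp]
      obtain ⟨hC, hQC⟩ := BlockCount.zpowers_facts x
      have hQp : IsPGroup 2 (Subgroup.zpowers x) := Blocks.isPGroup_zpowers hxp
      rw [show {b : Set (Cfsg.IrrCharacter (Subgroup.centralizer ({x} : Set G))) |
          Cfsg.IsInducedBlock M _ b (Cfsg.principalBlock M G)} = {Cfsg.principalBlock M _} by
        ext b
        rw [Set.mem_setOf_eq, Set.mem_singleton_iff]
        refine ⟨fun h => (BlockCount.isInducedBlock_principal_iff hM.2.2 hQp hC hQC h.1).1 h, ?_⟩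
        rintro rfl
        exact (BlockCount.isInducedBlock_principal_iff hM.2.2 hQp hC hQC
          ⟨Char.trivialChar _, rfl⟩).2 rfl,
        finsum_mem_singleton, (local_facts hM R hR hRe hRx (h2ord x hx2)).1, Nat.cast_one, mul_one]
      have h1 := Subgroup.card_mul_index (Subgroup.centralizer ({x} : Set G))
      have h2 := Subgroup.card_mul_index (Subgroup.centralizer ({t} : Set G))
      rw [← Blocks.card_isConj_eq_index] at h1 h2
      rw [show Nat.card {g : G // IsConj x g} = Nat.card {g : G // IsConj t g} from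
        Nat.card_congr (Equiv.subtypeEquivRight fun g =>
          ⟨fun h => (Finset.mem_filter.1 hx).2.trans h,
            fun h => (Finset.mem_filter.1 hx).2.symm.trans h⟩)] at h1
      haveI : Nonempty {g : G // IsConj t g} := ⟨⟨t, IsConj.refl t⟩⟩
      exact congrArg Nat.cast (mul_right_cancel₀ Nat.card_pos.ne' (h1.trans h2.symm))
    rw [Finset.sum_congr rfl hin, Finset.sum_const, nsmul_eq_mul, mul_comm,
      show (Finset.univ.filter fun x : G => IsConj t x).card =
        (Subgroup.centralizer ({t} : Set G)).index by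
        rw [← Blocks.card_isConj_eq_index, Nat.card_eq_fintype_card, Fintype.card_subtype],
      ← Nat.cast_mul, Subgroup.card_mul_index]
  rw [← Finset.sum_filter_add_sum_filter_not Finset.univ (fun g => Cfsg.IsPRegular 2 g), h3] at h1
  simp only [F] at h1
  rw [h2] at h1
  have hG0 : (Nat.card G : ℂ) ≠ 0 := Nat.cast_ne_zero.2 Nat.card_pos.ne'
  have : (Cfsg.blockRank 2 (Cfsg.principalBlock M G) : ℂ) = ((3 : ℕ) : ℂ) := by
    refine mul_left_cancel₀ hG0 ?_
    push_cast
    linear_combination h1
  exact_mod_cast this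

end Cfsg.Agent.S4512
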