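import Cfsg.Statements.S4513
import Cfsg.Agent.Lib.Blocks.SecondMain
import Cfsg.Agent.Lib.Blocks.CentralDefect
import Cfsg.Agent.Lib.Blocks.FirstMain
import Cfsg.Agent.Lib.Char.Generalized
import Cfsg.Agent.Lib.Char.PRegular
import Cfsg.Agent.Lib.CharInt.Central
import Cfsg.Agent.Lib.BlockCount.CentralizerBlocks

set_option autoImplicit false
set_option linter.style.haveILetI false
set_option linter.unusedSectionVars false
open Cfsg

namespace Cfsg.Agent.S4513

open scoped Classical ComplexConjugate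
open Agent

universe u

variable {G : Type u} [Group G] [Finite G] {M : Ideal AlgInt} {x : G}

/-- `x` in its centralizer. -/
def cx (x : G) : Subgroup.centralizer ({x} : Set G) :=
  ⟨x, Subgroup.mem_centralizer_singleton_iff.2 rfl⟩

/-- `⟨x⟩` in the centralizer. -/
def zx (x : G) : Subgroup (Subgroup.centralizer ({x} : Set G)) :=
  (Subgroup.zpowers x).subgroupOf (Subgroup.centralizer ({x} : Set G))

theorem cx_mem_center (x : G) : cx x ∈ Subgroup.center (Subgroup.centralizer ({x} : Set G)) :=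
  Subgroup.mem_center_iff.2 fun a =>
    Subtype.ext (Subgroup.mem_centralizer_singleton_iff.1 a.2)

theorem map_zx (x : G) :
    (zx x).map (Subgroup.centralizer ({x} : Set G)).subtype = Subgroup.zpowers x :=
  Subgroup.map_subgroupOf_eq_of_le
    (Subgroup.zpowers_le.2 (Subgroup.mem_centralizer_singleton_iff.2 rfl))

theorem card_zx (hx : orderOf x = 2) : Nat.card (zx x) = 2 := by
  rw [← hx, ← Nat.card_zpowers, ← map_zx x,
    Subgroup.card_map_of_injective (Subgroup.subtype_injective _)]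

theorem isPGroup_zx (hx : orderOf x = 2) : IsPGroup 2 (zx x) :=
  IsPGroup.of_card (n := 1) (by rw [card_zx hx, pow_one])

theorem zx_le_center (x : G) :
    zx x ≤ Subgroup.center (Subgroup.centralizer ({x} : Set G)) := fun z hz => by
  obtain ⟨k, hk⟩ := Subgroup.mem_subgroupOf.1 hz
  have : z = cx x ^ k := Subtype.ext (by rw [Subgroup.coe_zpow]; exact hk.symm)
  exact this ▸ Subgroup.zpow_mem _ (cx_mem_center x) k

theorem mem_zx (hx : orderOf x = 2) {z : Subgroup.centralizer ({x} : Set G)} :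
    z ∈ zx x ↔ z = 1 ∨ z = cx x := by
  refine ⟨fun hz => ?_, fun h => ?_⟩
  · obtain ⟨k, hk⟩ := Subgroup.mem_subgroupOf.1 hz
    have hxx : x ^ (2 : ℤ) = 1 := by rw [zpow_two, ← pow_two, ← hx, pow_orderOf_eq_one]
    rcases Int.even_or_odd' k with ⟨j, rfl | rfl⟩
    · exact Or.inl (Subtype.ext (hk.symm.trans (by
        show x ^ (2 * j) = 1
        rw [zpow_mul, hxx, one_zpow])))
    · exact Or.inr (Subtype.ext (hk.symm.trans (by
        show x ^ (2 * j + 1) = x
        rw [zpow_add, zpow_mul, hxx, one_zpow, one_mul, zpow_one])))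
  · rcases h with rfl | rfl
    · exact one_mem _
    · exact Subgroup.mem_subgroupOf.2 (Subgroup.mem_zpowers x)

theorem exists_scalar {H : Type u} [Group H] [Finite H] (η : IrrCharacter H) {z : H}
    (hz : z ∈ Subgroup.center H) : ∃ c : ℂ, ∀ g : H, η.1 (z * g) = c * η.1 g := by
  obtain ⟨n, ρ, hρ, he⟩ := η.2
  haveI := hρ
  obtain ⟨c, hc⟩ := CharInt.exists_smul_one_of_mem_center (ρ := ρ) hz
  refine ⟨c, fun g => ?_⟩
  rw [← he, Representation.character, map_mul, hc, smul_one_mul, map_smul, smul_eq_mul]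
  rfl

/-- A block of `C(x)` inducing `B` has defect group `⟨x⟩`. -/
theorem isDefectGroup_zx (hM : IsPModular 2 M) (hx : orderOf x = 2)
    {B : Set (IrrCharacter G)} (hBD : IsDefectGroup 2 M B (Subgroup.zpowers x))
    {b : Set (IrrCharacter (Subgroup.centralizer ({x} : Set G)))}
    (hb : IsInducedBlock M (Subgroup.centralizer ({x} : Set G)) b B) :
    IsDefectGroup 2 M b (zx x) := by
  haveI : Fact (Nat.Prime 2) := ⟨Nat.prime_two⟩
  haveI := hM.2.1
  obtain ⟨E, hE⟩ := Blocks.exists_defectGroup (p := 2) hb.1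
  obtain ⟨E', hE', hle⟩ := Blocks.IsInducedBlock.exists_defectGroup_ge hM.2.2 hb hE
  haveI : (zx x).Normal := ⟨fun z hz a => by
    rwa [Subgroup.mem_center_iff.1 (zx_le_center x hz) a, mul_inv_cancel_right]⟩
  have h1 := Blocks.normal_le_defectGroup hM.2.2 hb.1 (isPGroup_zx hx) hE
  have h2 := Subgroup.card_le_of_le hle
  rw [Subgroup.card_map_of_injective (Subgroup.subtype_injective _),
    Blocks.card_defectGroup hM.2.2 hb.2.1 hE', ← Blocks.card_defectGroup hM.2.2 hb.2.1 hBD,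
    Nat.card_zpowers, hx, ← card_zx hx] at h2
  rwa [Subgroup.eq_of_le_of_card_ge h1 h2]

theorem eq_of_induced_normalizer (hM : IsPModular 2 M) [Fact (Nat.Prime 2)] [M.IsMaximal]
    {D : Subgroup G} (hD : IsPGroup 2 D) {H : Subgroup G}
    (hH : H = Subgroup.normalizer (D : Set G)) {B : Set (IrrCharacter G)}
    {b b' : Set (IrrCharacter H)} (h : IsInducedBlock M H b B) (h' : IsInducedBlock M H b' B)
    (hb : IsDefectGroup 2 M b (D.subgroupOf H)) (hb' : IsDefectGroup 2 M b' (D.subgroupOf H)) :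
    b = b' := by
  subst hH
  exact Blocks.IsInducedBlock.eq_of_normalizer hM.2.2 hD h h' hb hb'

theorem centralizer_eq_normalizer (hx : orderOf x = 2) :
    Subgroup.centralizer ({x} : Set G) =
      Subgroup.normalizer ((Subgroup.zpowers x : Subgroup G) : Set G) := by
  refine le_antisymm ((BlockCount.zpowers_facts x).1.le.trans
    (Subgroup.centralizer_le_normalizer _)) fun g hg => ?_
  refine Subgroup.mem_centralizer_singleton_iff.2 (mul_inv_eq_iff_eq_mul.1 ?_)
  obtain ⟨k, hk⟩ := (Subgroup.mem_normalizer_iff.1 hg x).1 (Subgroup.mem_zpowers x)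
  have hxx : x ^ (2 : ℤ) = 1 := by rw [zpow_two, ← pow_two, ← hx, pow_orderOf_eq_one]
  rcases Int.even_or_odd' k with ⟨j, rfl | rfl⟩
  · have h1 : g * x * g⁻¹ = 1 := hk.symm.trans (by
      show x ^ (2 * j) = 1
      rw [zpow_mul, hxx, one_zpow])
    rw [conj_eq_one_iff.1 h1, orderOf_one] at hx
    omega
  · exact hk.symm.trans (by
      show x ^ (2 * j + 1) = x
      rw [zpow_add, zpow_mul, hxx, one_zpow, one_mul, zpow_one])

/-- A sum over `C(x)` of a function living on the sections of `1` and `x`. -/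
theorem sum_split [Fintype (Subgroup.centralizer ({x} : Set G))] (hx : orderOf x = 2)
    (F : Subgroup.centralizer ({x} : Set G) → ℂ)
    (h0 : ∀ c z, IsPPart 2 c z → z ∉ zx x → F c = 0) :
    ∑ c, F c = ∑ s ∈ Finset.univ.filter
      (fun s : Subgroup.centralizer ({x} : Set G) => IsPRegular 2 s), (F s + F (cx x * s)) := by
  haveI : Fact (Nat.Prime 2) := ⟨Nat.prime_two⟩
  set R := Finset.univ.filter (fun s : Subgroup.centralizer ({x} : Set G) => IsPRegular 2 s)
  have hxp : ∃ k, orderOf (cx x) = 2 ^ k := ⟨1, by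
    rw [← Subgroup.orderOf_coe, pow_one]; exact hx⟩
  have hsing : ∀ s ∈ R, cx x * s ∉ R := fun s hs h => by
    have h1 : IsPPart 2 (cx x * s) (cx x) := Blocks.isPPart_mul
      ((Subgroup.mem_center_iff.1 (cx_mem_center x) s).symm) hxp (Finset.mem_filter.1 hs).2
    have h2 : IsPPart 2 (cx x * s) 1 :=
      ⟨_, one_mul _, Commute.one_left _, ⟨0, by simp⟩, (Finset.mem_filter.1 h).2⟩
    have := congrArg Subtype.val (Blocks.IsPPart.unique h1 h2)
    rw [show ((cx x : Subgroup.centralizer ({x} : Set G)) : G) = x from rfl,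
      OneMemClass.coe_one] at this
    rw [this, orderOf_one] at hx
    omega
  rw [Finset.sum_add_distrib, ← Finset.sum_image (g := fun s => cx x * s) (f := F)
    (fun a _ b _ h => mul_left_cancel h), ← Finset.sum_union]
  · refine (Finset.sum_subset (Finset.subset_univ _) fun c _ hc => ?_).symm
    obtain ⟨z, hz⟩ := Blocks.exists_isPPart (p := 2) c
    refine h0 c z hz fun hzx => hc ?_
    obtain ⟨y, hy, -, -, hreg⟩ := hz
    rcases (mem_zx hx).1 hzx with rfl | rfl
    · rw [one_mul] at hy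
      exact Finset.mem_union_left _ (Finset.mem_filter.2 ⟨Finset.mem_univ _, hy ▸ hreg⟩)
    · exact Finset.mem_union_right _ (Finset.mem_image.2
        ⟨y, Finset.mem_filter.2 ⟨Finset.mem_univ _, hreg⟩, hy⟩)
  · rw [Finset.disjoint_left]
    intro c hc hc'
    obtain ⟨s, hs, rfl⟩ := Finset.mem_image.1 hc'
    exact hsing s hs hc

/-- The structure of a block of `C(x)` with defect group `⟨x⟩`. -/
theorem local_block [Fintype (Subgroup.centralizer ({x} : Set G))] (hM : IsPModular 2 M)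
    (hx : orderOf x = 2) {b : Set (IrrCharacter (Subgroup.centralizer ({x} : Set G)))}
    (hb : IsPBlock M b) (hD : IsDefectGroup 2 M b (zx x))
    {θ : IrrCharacter (Subgroup.centralizer ({x} : Set G))} (hθ : θ ∈ b)
    (hθx : θ.1 (cx x) = θ.1 1) :
    (∀ c, θ.1 (cx x * c) = θ.1 c) ∧
    (∀ s s', IsPRegular 2 s → IsPRegular 2 s' →
      ∑ η ∈ Finset.univ.filter (· ∈ b), η.1 s * conj (η.1 s') = 2 * (θ.1 s * conj (θ.1 s'))) ∧
    ∃ η : IrrCharacter (Subgroup.centralizer ({x} : Set G)),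
      (∀ c, η.1 (cx x * c) = - η.1 c) ∧ (∀ s, IsPRegular 2 s → η.1 s = θ.1 s) ∧
      ∀ c z, IsPPart 2 c z → z ∉ zx x → η.1 c = 0 ∧ θ.1 c = 0 := by
  haveI : Fact (Nat.Prime 2) := ⟨Nat.prime_two⟩
  haveI := hM.2.1
  set R := Finset.univ.filter (fun s : Subgroup.centralizer ({x} : Set G) => IsPRegular 2 s)
  have hne : ∀ η : IrrCharacter (Subgroup.centralizer ({x} : Set G)), η.1 1 ≠ 0 := fun η =>
    Char.IsIrrCharacter.apply_one_ne_zero η.2
  have hsign : ∀ η : IrrCharacter (Subgroup.centralizer ({x} : Set G)),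
      (∀ c, η.1 (cx x * c) = η.1 c) ∨ (∀ c, η.1 (cx x * c) = - η.1 c) := fun η => by
    obtain ⟨k, hk⟩ := exists_scalar η (cx_mem_center x)
    have h1 := hk (cx x * 1)
    rw [← mul_assoc, show cx x * cx x = 1 from Subtype.ext (by
      show x * x = 1
      rw [← pow_two, ← hx, pow_orderOf_eq_one]), one_mul, hk 1, ← mul_assoc] at h1
    have hkk : k * k = 1 := mul_right_cancel₀ (hne η) (by rw [one_mul]; exact h1.symm)
    rcases mul_self_eq_one_iff.1 hkk with h | h
    · exact Or.inl fun c => by rw [hk, h, one_mul]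
    · exact Or.inr fun c => by rw [hk, h, neg_one_mul]
  have htriv : ∀ η : IrrCharacter (Subgroup.centralizer ({x} : Set G)),
      η.1 (cx x) = η.1 1 → Char.TrivOn (zx x) η.1 := fun η h z hz => by
    rcases (mem_zx hx).1 hz with rfl | rfl
    · rfl
    · exact h
  obtain ⟨θ₀, hθ₀, hθ₀Z, hdeg⟩ := (Blocks.isDefectGroup_central_iff (zx x) hM.2.2 hb
    (zx_le_center x) (isPGroup_zx hx)).1 hD
  have hplus : ∀ η ∈ b, η.1 (cx x) = η.1 1 → η = θ₀ := fun η hη h =>
    Blocks.eq_of_trivOn_of_degree (zx x) hM.2.2 hb (zx_le_center x) (isPGroup_zx hx) hθ₀ hη hθ₀Z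
      (htriv η h) hdeg
  obtain rfl := hplus θ hθ hθx
  have hθc : ∀ c, θ.1 (cx x * c) = θ.1 c := by
    rcases hsign θ with h | h
    · exact h
    · have h1 := h 1
      rw [mul_one, hθx, eq_neg_iff_add_eq_zero, add_self_eq_zero] at h1
      exact absurd h1 (hne θ)
  have hsec : ∀ η ∈ b, ∀ c z, IsPPart 2 c z → z ∉ zx x → η.1 c = 0 := fun η hη c z hz hzn => by
    refine Blocks.eq_zero_of_not_mem_defectGroup hM.2.2 hz fun D hD' hzD => hzn ?_
    rw [← Blocks.block_eq hb hη] at hD'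
    obtain ⟨a, ha⟩ := Blocks.defectGroup_conj hM.2.2 hb hD hD'
    have hzc : a * z * a⁻¹ ∈ zx x := ha ▸ Subgroup.mem_map_of_mem _ hzD
    have h2 := Subgroup.mem_center_iff.1 (zx_le_center x hzc) a
    have h3 : a * z * a⁻¹ = z := by
      calc a * z * a⁻¹ = a⁻¹ * (a * (a * z * a⁻¹)) := by group
        _ = a⁻¹ * (a * z * a⁻¹ * a) := by rw [h2]
        _ = z := by group
    rwa [h3] at hzc
  have hweak : ∀ s s', IsPRegular 2 s → IsPRegular 2 s' →
      ∑ η ∈ Finset.univ.filter (· ∈ b), η.1 (cx x * s) * conj (η.1 s') = 0 := fun s s' hs hs' => by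
    have hsx : ¬ IsPRegular 2 (cx x * s) := fun h => by
      have h1 : IsPPart 2 (cx x * s) (cx x) := Blocks.isPPart_mul
        ((Subgroup.mem_center_iff.1 (cx_mem_center x) s).symm)
        ⟨1, by rw [← Subgroup.orderOf_coe, pow_one]; exact hx⟩ hs
      have h2 : IsPPart 2 (cx x * s) 1 := ⟨_, one_mul _, Commute.one_left _, ⟨0, by simp⟩, h⟩
      have := congrArg Subtype.val (Blocks.IsPPart.unique h1 h2)
      rw [show ((cx x : Subgroup.centralizer ({x} : Set G)) : G) = x from rfl,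
        OneMemClass.coe_one] at this
      rw [this, orderOf_one] at hx
      omega
    have h := congrArg conj (Blocks.weak_orthogonality hM.2.2 hb hs' hsx)
    simp only [map_sum, map_mul, Complex.conj_conj, map_zero] at h
    rw [← h]
    exact Finset.sum_congr rfl fun η _ => mul_comm _ _
  -- the members with sign `-1`
  set S := (Finset.univ.filter (· ∈ b)).erase θ
  have hminus : ∀ η ∈ S, ∀ c, η.1 (cx x * c) = - η.1 c := fun η hη => by
    rcases hsign η with h | h
    · exact absurd (hplus η (Finset.mem_filter.1 (Finset.mem_erase.1 hη).2).2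
        (by have := h 1; rwa [mul_one] at this)) (Finset.mem_erase.1 hη).1
    · exact h
  have hθmem : θ ∈ Finset.univ.filter (· ∈ b) := Finset.mem_filter.2 ⟨Finset.mem_univ _, hθ⟩
  have hS : ∀ s s', IsPRegular 2 s → IsPRegular 2 s' →
      ∑ η ∈ S, η.1 s * conj (η.1 s') = θ.1 s * conj (θ.1 s') := fun s s' hs hs' => by
    have h := hweak s s' hs hs'
    rw [← Finset.add_sum_erase _ _ hθmem, hθc, Finset.sum_congr rfl (fun η hη => by
      rw [hminus η hη s, neg_mul]), Finset.sum_neg_distrib, ← sub_eq_add_neg, sub_eq_zero] at h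
    exact h.symm
  refine ⟨hθc, fun s s' hs hs' => ?_, ?_⟩
  · rw [← Finset.add_sum_erase _ _ hθmem, hS s s' hs hs', two_mul]
  have h1r : IsPRegular 2 (1 : Subgroup.centralizer ({x} : Set G)) := by simp [IsPRegular]
  -- on regular elements they are multiples of `θ`
  have hprop : ∀ η ∈ S, ∀ s, IsPRegular 2 s → η.1 s * θ.1 1 = η.1 1 * θ.1 s := fun η hη s hs => by
    have hsum : ∑ η ∈ S, (η.1 s * θ.1 1 - η.1 1 * θ.1 s) *
        conj (η.1 s * θ.1 1 - η.1 1 * θ.1 s) = 0 := by
      rw [Finset.sum_congr rfl (g := fun η : IrrCharacter _ =>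
        η.1 s * conj (η.1 s) * (θ.1 1 * conj (θ.1 1)) - η.1 s * conj (η.1 1) * (θ.1 1 * conj (θ.1 s))
          - η.1 1 * conj (η.1 s) * (θ.1 s * conj (θ.1 1))
          + η.1 1 * conj (η.1 1) * (θ.1 s * conj (θ.1 s))) fun η _ => by
            simp only [map_sub, map_mul]; ring]
      simp only [Finset.sum_add_distrib, Finset.sum_sub_distrib, ← Finset.sum_mul, hS s s hs hs,
        hS s 1 hs h1r, hS 1 s h1r hs, hS 1 1 h1r h1r]
      ring
    simp only [Complex.mul_conj] at hsum
    rw [← Complex.ofReal_sum, Complex.ofReal_eq_zero,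
      Finset.sum_eq_zero_iff_of_nonneg fun _ _ => Complex.normSq_nonneg _] at hsum
    exact sub_eq_zero.1 (Complex.normSq_eq_zero.1 (hsum η hη))
  obtain ⟨η, hη⟩ : S.Nonempty := by
    rw [Finset.nonempty_iff_ne_empty]
    intro he
    have h := hS 1 1 h1r h1r
    rw [he, Finset.sum_empty, eq_comm, mul_eq_zero, map_eq_zero, or_self] at h
    exact hne θ h
  have hηb : η ∈ b := (Finset.mem_filter.1 (Finset.mem_erase.1 hη).2).2
  refine ⟨η, hminus η hη, ?_, fun c z hz hzn => ⟨hsec η hηb c z hz hzn, hsec θ hθ c z hz hzn⟩⟩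
  -- norms
  have hnorm : ∀ ψ ∈ b, (∀ c, ψ.1 (cx x * c) * conj (ψ.1 (cx x * c)) = ψ.1 c * conj (ψ.1 c)) →
      2 * ∑ s ∈ R, ψ.1 s * conj (ψ.1 s) =
        (Nat.card (Subgroup.centralizer ({x} : Set G)) : ℂ) := fun ψ hψ hinv => by
    have h := Char.classInner_irr_self ψ.2
    rw [classInner, inv_mul_eq_one₀ (Nat.cast_ne_zero.2 Nat.card_pos.ne'),
      sum_split hx _ fun c z hz hzn => by rw [hsec ψ hψ c z hz hzn, zero_mul]] at h
    rw [h, Finset.mul_sum]
    exact Finset.sum_congr rfl fun s _ => by rw [hinv]; ring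
  have hT := hnorm θ hθ fun c => by rw [hθc]
  have hE := hnorm η hηb fun c => by rw [hminus η hη, map_neg, neg_mul_neg]
  have hd : η.1 1 = θ.1 1 := by
    have key : ((η.1 1) * conj (η.1 1)) * ∑ s ∈ R, θ.1 s * conj (θ.1 s) =
        ((θ.1 1) * conj (θ.1 1)) * ∑ s ∈ R, η.1 s * conj (η.1 s) := by
      rw [Finset.mul_sum, Finset.mul_sum]
      refine Finset.sum_congr rfl fun s hs => ?_
      have h := hprop η hη s (Finset.mem_filter.1 hs).2
      have h' := congrArg conj h
      rw [map_mul, map_mul] at h'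
      linear_combination (-(conj (η.1 s) * conj (θ.1 1))) * h - η.1 1 * θ.1 s * h'
    have hR : ∑ s ∈ R, θ.1 s * conj (θ.1 s) ≠ 0 := fun h0 => by
      rw [h0, mul_zero, eq_comm, Nat.cast_eq_zero] at hT
      exact Nat.card_pos.ne' hT
    rw [mul_left_cancel₀ two_ne_zero (hE.trans hT.symm)] at key
    have h2 := mul_right_cancel₀ hR key
    rw [Char.apply_one_eq_degree, Char.apply_one_eq_degree, map_natCast, map_natCast] at h2
    rw [Char.apply_one_eq_degree, Char.apply_one_eq_degree]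
    exact_mod_cast Nat.mul_self_inj.1 (by exact_mod_cast h2)
  intro s hs
  have h := hprop η hη s hs
  rw [hd, mul_comm (θ.1 1)] at h
  exact mul_right_cancel₀ (hne θ) h

/-- Blocks of defect one for p = 2. Let M be a maximal ideal of the algebraic integers containing 2, B a 2-block of the finite group G whose defect group is the subgroup generated by an involution x, C = C_G(x), b a block of C inducing B and θ a member of b taking the same value at x as at 1 (there is exactly one). Then B consists of exactly two irreducible characters, which agree on every element of odd order, and they can be labelled χ₁, χ₂ with signs ε₁, ε₂ = ±1, ε₁ε₂ = −1, such that χᵢ(x y) = εᵢ θ(y) for every element y of C of odd order. -/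
theorem result {G : Type*} [Group G] [Finite G] (M : Ideal Cfsg.AlgInt) (hM : Cfsg.IsPModular 2 M) (x : G) (hx : orderOf x = 2)
    (B : Set (Cfsg.IrrCharacter G)) (hB : Cfsg.IsPBlock M B) (hBD : Cfsg.IsDefectGroup 2 M B (Subgroup.zpowers x))
    (b : Set (Cfsg.IrrCharacter ↥(Subgroup.centralizer ({x} : Set G)))) (hb : Cfsg.IsInducedBlock M (Subgroup.centralizer ({x} : Set G)) b B)
    (θ : Cfsg.IrrCharacter ↥(Subgroup.centralizer ({x} : Set G))) (hθ : θ ∈ b)
    (hθx : ∀ z : ↥(Subgroup.centralizer ({x} : Set G)), (z : G) = x → (θ : ↥(Subgroup.centralizer ({x} : Set G)) → ℂ) z = (θ : ↥(Subgroup.centralizer ({x} : Set G)) → ℂ) 1) :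
    Nat.card B = 2 ∧ (∀ χ ∈ B, ∀ ψ ∈ B, ∀ g : G, ¬ 2 ∣ orderOf g → (χ : G → ℂ) g = (ψ : G → ℂ) g) ∧
      ∃ χ₁ ∈ B, ∃ χ₂ ∈ B, χ₁ ≠ χ₂ ∧ ∃ ε₁ ε₂ : ℤ, (ε₁ = 1 ∨ ε₁ = -1) ∧ (ε₂ = 1 ∨ ε₂ = -1) ∧ ε₁ * ε₂ = -1 ∧
        ∀ y : ↥(Subgroup.centralizer ({x} : Set G)), ¬ 2 ∣ orderOf y →
          (χ₁ : G → ℂ) (x * y) = (ε₁ : ℂ) * (θ : ↥(Subgroup.centralizer ({x} : Set G)) → ℂ) y ∧ (χ₂ : G → ℂ) (x * y) = (ε₂ : ℂ) * (θ : ↥(Subgroup.centralizer ({x} : Set G)) → ℂ) y := by
  classical
  haveI : Fact (Nat.Prime 2) := ⟨Nat.prime_two⟩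
  haveI := hM.2.1
  haveI := Fintype.ofFinite G
  haveI := Fintype.ofFinite (Subgroup.centralizer ({x} : Set G))
  have hxp : ∃ k, orderOf x = 2 ^ k := ⟨1, by rw [hx, pow_one]⟩
  have hxne : x ≠ 1 := fun e => by rw [e, orderOf_one] at hx; omega
  have hDb := isDefectGroup_zx hM hx hBD hb
  obtain ⟨hθc, hgram, η, hηc, hηr, hηsec⟩ :=
    local_block hM hx hb.1 hDb hθ (hθx (cx x) rfl)
  have huniq : ∀ b', Cfsg.IsInducedBlock M (Subgroup.centralizer ({x} : Set G)) b' B → b' = b :=
    fun b' h => eq_of_induced_normalizer hM (Blocks.isPGroup_zpowers hxp)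
      (centralizer_eq_normalizer hx) h hb (isDefectGroup_zx hM hx hBD h) hDb
  have hU : Blocks.inducingSet M (Subgroup.centralizer ({x} : Set G)) B = b := by
    ext ψ
    refine ⟨fun h => huniq _ h ▸ Blocks.mem_blockOf_self ψ, fun h => ?_⟩
    show Cfsg.IsInducedBlock M _ (Cfsg.blockOf M ψ.1) B
    rwa [← Blocks.block_eq hb.1 h]
  set S := Finset.univ.filter (· ∈ B) with hSdef
  have hne : (θ : ↥(Subgroup.centralizer ({x} : Set G)) → ℂ) 1 ≠ 0 :=
    Char.IsIrrCharacter.apply_one_ne_zero θ.2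
  have hθ1 : (starRingEnd ℂ) (θ.1 1) = θ.1 1 := by
    rw [Char.apply_one_eq_degree, map_natCast]
  have h1r : Cfsg.IsPRegular 2 (1 : Subgroup.centralizer ({x} : Set G)) := by
    simp [Cfsg.IsPRegular]
  have horth : ∀ s s' : Subgroup.centralizer ({x} : Set G), Cfsg.IsPRegular 2 s →
      Cfsg.IsPRegular 2 s' → ∑ χ ∈ S, χ.1 (x * s) * (starRingEnd ℂ) (χ.1 (x * s')) =
        2 * (θ.1 s * (starRingEnd ℂ) (θ.1 s')) := fun s s' hs hs' => by
    rw [← hgram s s' hs hs', hSdef, Blocks.second_main_orth hM.2.2 hxp hB hs hs']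
    exact Finset.sum_congr (by rw [hU]) fun _ _ => rfl
  have hprop : ∀ χ ∈ S, ∀ s : Subgroup.centralizer ({x} : Set G), Cfsg.IsPRegular 2 s →
      χ.1 (x * s) = χ.1 x / θ.1 1 * θ.1 s := fun χ hχ s hs => by
    set a : Cfsg.IrrCharacter G → ℂ := fun χ => χ.1 (x * s) * θ.1 1 -
      χ.1 (x * (1 : Subgroup.centralizer ({x} : Set G))) * θ.1 s with ha
    have hsum : ∑ χ ∈ S, a χ * (starRingEnd ℂ) (a χ) = 0 := by
      rw [Finset.sum_congr rfl (g := fun χ : Cfsg.IrrCharacter G =>
        χ.1 (x * s) * (starRingEnd ℂ) (χ.1 (x * s)) * (θ.1 1 * θ.1 1)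
        - χ.1 (x * s) * (starRingEnd ℂ) (χ.1 (x * (1 : Subgroup.centralizer ({x} : Set G)))) *
            (θ.1 1 * (starRingEnd ℂ) (θ.1 s))
        - χ.1 (x * (1 : Subgroup.centralizer ({x} : Set G))) * (starRingEnd ℂ) (χ.1 (x * s)) *
            (θ.1 s * θ.1 1)
        + χ.1 (x * (1 : Subgroup.centralizer ({x} : Set G))) *
            (starRingEnd ℂ) (χ.1 (x * (1 : Subgroup.centralizer ({x} : Set G)))) *
            (θ.1 s * (starRingEnd ℂ) (θ.1 s))) fun χ _ => by
          simp only [ha, map_sub, map_mul, hθ1]; ring]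
      simp only [Finset.sum_add_distrib, Finset.sum_sub_distrib, ← Finset.sum_mul,
        horth s s hs hs, horth s 1 hs h1r, horth 1 s h1r hs, horth 1 1 h1r h1r, hθ1]
      ring
    simp only [Complex.mul_conj] at hsum
    rw [← Complex.ofReal_sum, Complex.ofReal_eq_zero,
      Finset.sum_eq_zero_iff_of_nonneg fun _ _ => Complex.normSq_nonneg _] at hsum
    have h := Complex.normSq_eq_zero.1 (hsum χ hχ)
    rw [ha, sub_eq_zero, OneMemClass.coe_one, mul_one] at h
    rw [div_mul_eq_mul_div, eq_div_iff hne, h]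
  set R := Finset.univ.filter (fun s : Subgroup.centralizer ({x} : Set G) => Cfsg.IsPRegular 2 s)
  have hT : 2 * ∑ s ∈ R, θ.1 s * (starRingEnd ℂ) (θ.1 s) =
      (Nat.card (Subgroup.centralizer ({x} : Set G)) : ℂ) := by
    have h := Char.classInner_irr_self θ.2
    rw [Cfsg.classInner, inv_mul_eq_one₀ (Nat.cast_ne_zero.2 Nat.card_pos.ne'),
      sum_split hx _ fun c z hz hzn => by rw [(hηsec c z hz hzn).2, zero_mul]] at h
    rw [h, Finset.mul_sum]
    exact Finset.sum_congr rfl fun s _ => by rw [hθc]; ring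
  -- the coefficients are integers
  have hint : ∀ χ ∈ S, ∃ n : ℤ, χ.1 x / θ.1 1 = n := fun χ hχ => by
    obtain ⟨n₁, hn₁⟩ := Char.IsGeneralizedCharacter.exists_int_classInner
      (Char.IsGeneralizedCharacter.restrict (Char.irr_isGeneralized χ)
        (Subgroup.centralizer ({x} : Set G))) (Char.irr_isGeneralized θ)
    obtain ⟨n₂, hn₂⟩ := Char.IsGeneralizedCharacter.exists_int_classInner
      (Char.IsGeneralizedCharacter.restrict (Char.irr_isGeneralized χ)
        (Subgroup.centralizer ({x} : Set G))) (Char.irr_isGeneralized η)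
    refine ⟨n₁ - n₂, ?_⟩
    rw [Int.cast_sub, ← hn₁, ← hn₂]
    simp only [Cfsg.classInner]
    rw [← mul_sub, ← Finset.sum_sub_distrib,
      sum_split hx _ fun c z hz hzn => by
        rw [(hηsec c z hz hzn).1, (hηsec c z hz hzn).2]; simp,
      Finset.sum_congr rfl (g := fun s : Subgroup.centralizer ({x} : Set G) =>
        (χ.1 x / θ.1 1) * (2 * (θ.1 s * (starRingEnd ℂ) (θ.1 s)))) fun s hs => by
        have hs' := (Finset.mem_filter.1 hs).2
        rw [hθc, hηc, hηr s hs', map_neg,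
          show ((cx x * s : Subgroup.centralizer ({x} : Set G)) : G) = x * (s : G) from rfl,
          hprop χ hχ s hs']
        ring,
      ← Finset.mul_sum, ← Finset.mul_sum, hT, mul_comm _ (Nat.card _ : ℂ), ← mul_assoc,
      inv_mul_cancel₀ (Nat.cast_ne_zero.2 Nat.card_pos.ne'), one_mul]
  choose! n hn using hint
  have hsq : ∑ χ ∈ S, n χ ^ 2 = 2 := by
    have h := horth 1 1 h1r h1r
    simp only [OneMemClass.coe_one, mul_one] at h
    have : ((∑ χ ∈ S, n χ ^ 2 : ℤ) : ℂ) = ((2 : ℤ) : ℂ) := by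
      push_cast
      refine mul_right_cancel₀ (mul_ne_zero hne hne) ?_
      rw [hθ1] at h
      rw [← h, Finset.sum_mul]
      refine Finset.sum_congr rfl fun χ hχ => ?_
      have hx' : χ.1 x = (n χ : ℂ) * θ.1 1 := by rw [← hn χ hχ, div_mul_cancel₀ _ hne]
      rw [hx', map_mul, map_intCast, hθ1]
      ring
    exact_mod_cast this
  have hxn : ∀ χ ∈ S, ∀ y : Subgroup.centralizer ({x} : Set G), Cfsg.IsPRegular 2 y →
      χ.1 (x * y) = (n χ : ℂ) * θ.1 y := fun χ hχ y hy => by rw [hprop χ hχ y hy, hn χ hχ]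
  have hnz : ∀ χ ∈ S, n χ ≠ 0 := by
    intro χ hχ h0
    have hχB := (Finset.mem_filter.1 hχ).2
    -- `χ` vanishes on singular elements
    have hvan : ∀ g : G, ¬ Cfsg.IsPRegular 2 g → χ.1 g = 0 := by
      intro g hg
      obtain ⟨z, hz⟩ := Blocks.exists_isPPart (p := 2) g
      by_contra hgne
      refine hgne (Blocks.eq_zero_of_not_mem_defectGroup hM.2.2 hz fun D hD hzD => hgne ?_)
      rw [← Blocks.block_eq hB hχB] at hD
      obtain ⟨a, ha⟩ := Blocks.defectGroup_conj hM.2.2 hB hBD hD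
      have h1 : a * z * a⁻¹ ∈ Subgroup.zpowers x := ha ▸ Subgroup.mem_map_of_mem _ hzD
      have h2 : a * z * a⁻¹ = x := by
        obtain ⟨k, hk⟩ := h1
        have hxx : x ^ (2 : ℤ) = 1 := by rw [zpow_two, ← pow_two, ← hx, pow_orderOf_eq_one]
        rcases Int.even_or_odd' k with ⟨j, rfl | rfl⟩
        · exfalso
          have h3 : a * z * a⁻¹ = 1 := hk.symm.trans (by
            show x ^ (2 * j) = 1
            rw [zpow_mul, hxx, one_zpow])
          obtain ⟨y, hy, -, -, hreg⟩ := hz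
          rw [conj_eq_one_iff.1 h3, one_mul] at hy
          exact hg (hy ▸ hreg)
        · exact hk.symm.trans (by
            show x ^ (2 * j + 1) = x
            rw [zpow_add, zpow_mul, hxx, one_zpow, one_mul, zpow_one])
      have h4 := Blocks.IsPPart.conj hz a
      rw [h2] at h4
      obtain ⟨s, hs, hsr⟩ := Blocks.exists_regular_factor h4
      rw [← Char.IsCharacter.isClassFunction (Char.irr_isCharacter χ) g a, ← hs,
        hxn χ hχ s hsr, h0, Int.cast_zero, zero_mul]
    -- so it has defect zero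
    obtain ⟨P⟩ := (inferInstance : Nonempty (Sylow 2 G))
    haveI := Fintype.ofFinite (P : Subgroup G)
    obtain ⟨k, hk⟩ := Char.IsCharacter.exists_nat_classInner
      (Char.IsCharacter.restrict (Char.irr_isCharacter χ) (P : Subgroup G))
      (Char.irr_isCharacter (Char.trivialChar (P : Subgroup G)))
    have hPsing : ∀ y : (P : Subgroup G), y ≠ 1 → ¬ Cfsg.IsPRegular 2 (y : G) := fun y hy hr => by
      obtain ⟨m, hm⟩ := P.2 y
      obtain ⟨j, -, hj⟩ := (Nat.dvd_prime_pow Nat.prime_two).1 (orderOf_dvd_of_pow_eq_one hm)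
      rw [Cfsg.IsPRegular, Subgroup.orderOf_coe, hj] at hr
      rcases Nat.eq_zero_or_pos j with hj0 | hj0
      · rw [hj0, pow_zero, orderOf_eq_one_iff] at hj
        exact hy hj
      · exact absurd (dvd_pow_self 2 hj0.ne') hr
    rw [Cfsg.classInner, inv_mul_eq_iff_eq_mul₀ (Nat.cast_ne_zero.2 Nat.card_pos.ne'),
      Finset.sum_eq_single_of_mem (1 : (P : Subgroup G)) (Finset.mem_univ _) fun y _ hy => by
        rw [hvan y (hPsing y hy), zero_mul]] at hk
    rw [Char.trivialChar_apply, map_one, mul_one, OneMemClass.coe_one,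
      Char.apply_one_eq_degree] at hk
    have hdvd : Nat.card (P : Subgroup G) ∣ Char.degree χ := ⟨k, by exact_mod_cast hk⟩
    have hd0 : Char.degree χ ≠ 0 := fun h => Char.IsIrrCharacter.apply_one_ne_zero χ.2
      (by rw [Char.apply_one_eq_degree, h, Nat.cast_zero])
    have hdeg : (Char.degree χ).factorization 2 = (Nat.card G).factorization 2 := le_antisymm
      ((Nat.factorization_le_iff_dvd hd0 Nat.card_pos.ne').2 (Char.degree_dvd_natCard χ) 2)
      ((Nat.Prime.pow_dvd_iff_le_factorization Nat.prime_two hd0).1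
        (P.card_eq_multiplicity ▸ hdvd))
    have hsing := (Blocks.blockOf_eq_singleton_iff hM.2.2 χ).2 hdeg
    rw [← Blocks.block_eq hB hχB] at hsing
    have hSone : S = {χ} := by
      ext ψ
      simp [hSdef, hsing]
    rw [hSone, Finset.sum_singleton, h0] at hsq
    norm_num at hsq
  have hcard : S.card = 2 ∧ ∀ χ ∈ S, n χ = 1 ∨ n χ = -1 := by
    have hle : ∀ χ ∈ S, (1 : ℤ) ≤ n χ ^ 2 := fun χ hχ => by
      rw [← sq_abs]
      nlinarith [Int.one_le_abs (hnz χ hχ)]
    have hcl : (S.card : ℤ) ≤ 2 := by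
      have := Finset.sum_le_sum hle
      rw [hsq, Finset.sum_const, nsmul_eq_mul, mul_one] at this
      exact this
    have hone : ∀ χ ∈ S, n χ = 1 ∨ n χ = -1 := fun χ hχ => by
      have h1 := Finset.single_le_sum (f := fun χ => n χ ^ 2) (fun _ _ => sq_nonneg _) hχ
      rw [hsq] at h1
      have hb1 : n χ < 2 := by nlinarith
      have hb2 : -2 < n χ := by nlinarith
      have := hnz χ hχ
      omega
    refine ⟨?_, hone⟩
    rw [Finset.sum_congr rfl (g := fun _ => (1 : ℤ)) fun χ hχ => by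
      rcases hone χ hχ with h | h <;> rw [h] <;> norm_num, Finset.sum_const, nsmul_eq_mul,
      mul_one] at hsq
    exact_mod_cast hsq
  obtain ⟨χ₁, χ₂, hne12, hS12⟩ := Finset.card_eq_two.1 hcard.1
  have h1S : χ₁ ∈ S := by rw [hS12]; exact Finset.mem_insert_self _ _
  have h2S : χ₂ ∈ S := by rw [hS12]; simp
  have hrel : ∀ g : G, ¬ 2 ∣ orderOf g → (n χ₁ : ℂ) * χ₁.1 g + (n χ₂ : ℂ) * χ₂.1 g = 0 := by
    intro g hg
    have hg1 : Cfsg.IsPPart 2 g 1 := ⟨g, one_mul g, Commute.one_left g, ⟨0, by simp⟩, hg⟩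
    have hxx : Cfsg.IsPPart 2 x x :=
      ⟨1, mul_one x, Commute.one_right x, hxp, by rw [orderOf_one]; norm_num⟩
    have h := Blocks.block_orthogonality hM.2.2 hg1 hxx
      (fun hc => hxne (isConj_one_right.1 hc)) hB
    rw [← hSdef, hS12, Finset.sum_pair hne12] at h
    have hv : ∀ χ ∈ S, (starRingEnd ℂ) (χ.1 x) = (n χ : ℂ) * θ.1 1 := fun χ hχ => by
      have := hxn χ hχ 1 h1r
      rw [OneMemClass.coe_one, mul_one] at this
      rw [this, map_mul, map_intCast, hθ1]
    rw [hv χ₁ h1S, hv χ₂ h2S] at h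
    refine (mul_eq_zero.1 (show ((n χ₁ : ℂ) * χ₁.1 g + (n χ₂ : ℂ) * χ₂.1 g) * θ.1 1 = 0 from ?_)
      ).resolve_right hne
    rw [← h]; ring
  have hprod : n χ₁ * n χ₂ = -1 := by
    have h := hrel 1 (by rw [orderOf_one]; norm_num)
    rw [Char.apply_one_eq_degree, Char.apply_one_eq_degree] at h
    have h' : n χ₁ * (Char.degree χ₁ : ℤ) + n χ₂ * (Char.degree χ₂ : ℤ) = 0 := by exact_mod_cast h
    have hd1 : (0 : ℤ) < Char.degree χ₁ := by exact_mod_cast Char.degree_pos χ₁
    have hd2 : (0 : ℤ) < Char.degree χ₂ := by exact_mod_cast Char.degree_pos χ₂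
    rcases hcard.2 χ₁ h1S with e | e <;> rcases hcard.2 χ₂ h2S with e' | e' <;>
      rw [e, e'] at h' ⊢ <;> omega
  have heq : ∀ g : G, ¬ 2 ∣ orderOf g → χ₁.1 g = χ₂.1 g := fun g hg => by
    have h := hrel g hg
    rcases hcard.2 χ₁ h1S with e | e <;> rcases hcard.2 χ₂ h2S with e' | e' <;>
      rw [e, e'] at hprod h
    · norm_num at hprod
    · push_cast at h; linear_combination h
    · push_cast at h; linear_combination -h
    · norm_num at hprod
  refine ⟨?_, ?_, χ₁, (Finset.mem_filter.1 h1S).2, χ₂, (Finset.mem_filter.1 h2S).2, hne12,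
    n χ₁, n χ₂, hcard.2 χ₁ h1S, hcard.2 χ₂ h2S, hprod, fun y hy =>
      ⟨hxn χ₁ h1S y hy, hxn χ₂ h2S y hy⟩⟩
  · rw [Nat.card_eq_fintype_card, ← hcard.1, hSdef]
    exact Fintype.card_subtype _
  · intro χ hχ ψ hψ g hg
    have hmem : ∀ φ ∈ B, φ = χ₁ ∨ φ = χ₂ := fun φ hφ => by
      have : φ ∈ S := Finset.mem_filter.2 ⟨Finset.mem_univ _, hφ⟩
      rw [hS12] at this
      simpa using this
    rcases hmem χ hχ with rfl | rfl <;> rcases hmem ψ hψ with rfl | rfl
    · rfl
    · exact heq g hg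
    · exact (heq g hg).symm
    · rfl

end Cfsg.Agent.S4513
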