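import Cfsg.Statements.S4514
import Cfsg.Agent.Lib.DegreeGap.Eight
import Cfsg.Agent.Lib.DegreeGap.Converse
import Cfsg.Agent.Lib.Transfer.Burnside

set_option autoImplicit false
open Cfsg

namespace Cfsg.Agent.S4514

open Cfsg.Agent Cfsg.Agent.Blocks Cfsg.Agent.DegreeGap

/-- Let G be a finite group, u an element of G, and fix a maximal ideal M of the algebraic integers containing 2 (defining the 2-blocks). There is a complex number k with χ(1) − χ(u) = k for every non-principal irreducible character χ in the principal 2-block if and only if one of the following holds: u lies in O(G); or G/O(G) has order 2 and u ∉ O(G); or G/O(G) ≅ PSL(2, 2ⁿ) for some n ≥ 2, u ∉ O(G) and u² ∈ O(G). -/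
theorem result {G : Type*} [Group G] [Finite G] (M : Ideal Cfsg.AlgInt) (hM : Cfsg.IsPModular 2 M) (u : G) :
    (∃ k : ℂ, ∀ χ : Cfsg.IrrCharacter G, χ ∈ Cfsg.principalBlock M G → (χ : G → ℂ) ≠ (fun _ => 1) →
        (χ : G → ℂ) 1 - (χ : G → ℂ) u = k) ↔
      (u ∈ Cfsg.oddCore G ∨ (Nat.card (G ⧸ Cfsg.oddCore G) = 2 ∧ u ∉ Cfsg.oddCore G) ∨
        (∃ (F : Type) (_ : Field F) (_ : Fintype F) (n : ℕ), 2 ≤ n ∧ Fintype.card F = 2 ^ n ∧
          Nonempty (G ⧸ Cfsg.oddCore G ≃* Matrix.ProjectiveSpecialLinearGroup (Fin 2) F) ∧ u ∉ Cfsg.oddCore G ∧ u ^ 2 ∈ Cfsg.oddCore G)) := by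
  classical
  haveI := Fintype.ofFinite G
  haveI : Fact (Nat.Prime 2) := ⟨Nat.prime_two⟩
  haveI := hM.2.1
  have hpM : ((2 : ℕ) : AlgInt) ∈ M := hM.2.2
  have htriv : ∀ χ : IrrCharacter G, (χ : G → ℂ) ≠ (fun _ => 1) ↔ χ ≠ Char.trivialChar G :=
    fun χ => ⟨fun h e => h (by rw [e]; rfl), fun h e => h (Subtype.ext e)⟩
  constructor
  · rintro ⟨k, hk⟩
    have hgap : Gap M u k := fun χ hχ hne => hk χ hχ ((htriv χ).2 hne)
    by_cases hu : u ∈ oddCore G
    · exact Or.inl hu
    have heven : 2 ∣ Nat.card G := by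
      by_contra h
      refine hu (PCore.le_oddCore (N := ⊤) ?_ (Subgroup.mem_top u))
      rw [Subgroup.card_top]
      exact Nat.not_even_iff_odd.1 fun he => h (even_iff_two_dvd.1 he)
    have hk0 : k ≠ 0 := by
      intro hk0
      have hB := isPBlock_principalBlock (G := G) hpM
      haveI := blockKerSubgroup_normal (principalBlock M G)
      refine hu (PCore.le_oddCore (Nat.not_even_iff_odd.1 fun he =>
        not_dvd_card_blockKer hpM hB (even_iff_two_dvd.1 he)) ?_)
      refine mem_blockKerSubgroup.2 fun χ hχ => ?_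
      by_cases hne : χ = Char.trivialChar G
      · subst hne; rfl
      · exact (sub_eq_zero.1 ((hgap χ hχ hne).trans hk0)).symm
    obtain ⟨s, hs2, hus, hfus⟩ := exists_involution hpM hgap hk0 heven
    have hkq := k_eq hpM hgap hk0 heven
    have he0 : 0 < (Nat.card G).factorization 2 :=
      Nat.Prime.factorization_pos_of_dvd Nat.prime_two Nat.card_pos.ne' heven
    by_cases hq : twoPart G = 2
    · refine Or.inr (Or.inl ⟨?_, hu⟩)
      obtain ⟨P⟩ := (inferInstance : Nonempty (Sylow 2 G))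
      have hP2 : Nat.card (P : Subgroup G) = 2 := (card_sylow P).trans hq
      obtain ⟨Q, K, hK, hc⟩ := Transfer.hasNormalPComplement_of_normalizer_le_centralizer P
        fun n hn => Subgroup.mem_centralizer_iff.2 fun y hy => by
          obtain ⟨w, hw⟩ := (Nat.card_eq_two_iff' (1 : (P : Subgroup G))).1 hP2
          by_cases hy1 : y = 1
          · rw [hy1, one_mul, mul_one]
          · have h1 : (⟨n * y * n⁻¹, (Subgroup.mem_normalizer_iff.1 hn y).1 hy⟩ :
                (P : Subgroup G)) = ⟨y, hy⟩ :=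
              (hw.2 _ fun e => hy1 (conj_eq_one_iff.1 (congrArg Subtype.val e))).trans
                (hw.2 _ fun e => hy1 (congrArg Subtype.val e)).symm
            exact (mul_inv_eq_iff_eq_mul.1 (congrArg Subtype.val h1)).symm
      haveI := hK
      have hQ2 : Nat.card (Q : Subgroup G) = 2 := (card_sylow Q).trans hq
      have hKodd : Odd (Nat.card K) := by
        refine Nat.not_even_iff_odd.1 fun he => Q.not_dvd_index ?_
        rw [hc.index_eq_card]
        exact even_iff_two_dvd.1 he
      have hKindex : K.index = 2 := by rw [hc.symm.index_eq_card, hQ2]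
      rw [← Subgroup.index_eq_card]
      have h1 := Subgroup.index_dvd_of_le (PCore.le_oddCore (N := K) hKodd)
      rw [hKindex] at h1
      rcases (Nat.dvd_prime Nat.prime_two).1 h1 with h | h
      · exact absurd (Subgroup.index_eq_one.1 h ▸ Subgroup.mem_top u) hu
      · exact h
    · have hfour : 4 ≤ twoPart G := by
        unfold twoPart at hq ⊢
        obtain ⟨e, he⟩ : ∃ e, (Nat.card G).factorization 2 = e + 1 :=
          ⟨(Nat.card G).factorization 2 - 1, by omega⟩
        rw [he] at hq ⊢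
        rcases Nat.eq_zero_or_pos e with rfl | hpos
        · exact absurd (by norm_num) hq
        · calc 4 = 2 ^ 2 := by norm_num
            _ ≤ 2 ^ (e + 1) := Nat.pow_le_pow_right two_pos (by omega)
      have D : Data M u s := ⟨hkq ▸ hgap, hs2, hus, hfus, hfour⟩
      exact Or.inr (Or.inr (D.main hpM (D.coreHyp hpM hM)))
  · rintro (hu | ⟨h2, hu⟩ | ⟨F, iF, iFF, n, hn, hF, ⟨e⟩, hu, hu2⟩)
    · exact ⟨0, fun χ hχ hne => gap_of_mem hpM hu χ hχ ((htriv χ).1 hne)⟩
    · exact ⟨2, fun χ hχ hne => gap_of_index_two hpM h2 hu χ hχ ((htriv χ).1 hne)⟩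
    · exact ⟨_, fun χ hχ hne => gap_of_psl hpM hn hF e hu hu2 χ hχ ((htriv χ).1 hne)⟩

end Cfsg.Agent.S4514
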