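import Cfsg.Statements.S4517
import Cfsg.Agent.Lib.BlockLow.FullDefect

set_option autoImplicit false
open Cfsg

namespace Cfsg.Agent.S4517

/-- Let G be a finite group, M a maximal ideal of the algebraic integers containing 2, and k a natural number coprime to the order of G with g ^ k = g⁻¹ for every element g of odd order (so that g ↦ g ^ k induces a field automorphism of the character values inverting the roots of unity of odd order). If B is a 2-block of full defect (its defect equals the exponent of 2 in the order of G) that is stable under χ ↦ χ ∘ (· ^ k), then B is the principal 2-block. -/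
theorem result {G : Type*} [Group G] [Finite G] (M : Ideal Cfsg.AlgInt) (hM : Cfsg.IsPModular 2 M) (k : ℕ) (hk : Nat.Coprime k (Nat.card G)) (hk₂ : ∀ g : G, Odd (orderOf g) → g ^ k = g⁻¹) (B : Set (Cfsg.IrrCharacter G)) (hB : Cfsg.IsPBlock M B) (hdef : Cfsg.blockDefect 2 B = (Nat.card G).factorization 2) (hstab : ∀ χ ∈ B, ∃ ψ ∈ B, ∀ g : G, (ψ : G → ℂ) g = (χ : G → ℂ) (g ^ k)) : B = Cfsg.principalBlock M G := by
  classical
  letI := Fintype.ofFinite G
  haveI := hM.2.1
  haveI : Fact (Nat.Prime 2) := ⟨Nat.prime_two⟩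
  have h2M : (2 : Cfsg.AlgInt) ∈ M := by exact_mod_cast hM.2.2
  obtain ⟨χ, hχB, hχ⟩ : ∃ χ ∈ B, ¬ 2 ∣ Char.degree χ := by
    have hne := (Blocks.block_nonempty hB).image
      (fun χ : Cfsg.IrrCharacter G => (Cfsg.charDegree (χ : G → ℂ)).factorization 2)
    obtain ⟨χ, hχB, hmin⟩ := Nat.sInf_mem hne
    have hle : (Cfsg.charDegree (χ : G → ℂ)).factorization 2 ≤ (Nat.card G).factorization 2 := by
      refine (Nat.factorization_le_iff_dvd ?_ Nat.card_pos.ne').2
        (BlockCount.charDegree_dvd_card χ) 2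
      rw [BlockCount.charDegree_eq_degree]; exact (Char.degree_pos χ).ne'
    unfold Cfsg.blockDefect at hdef
    dsimp only at hmin
    rw [← hmin] at hdef
    have h0 : (Cfsg.charDegree (χ : G → ℂ)).factorization 2 = 0 := by omega
    rw [BlockCount.charDegree_eq_degree] at h0
    refine ⟨χ, hχB, fun hd => ?_⟩
    have := (Nat.prime_two.dvd_iff_one_le_factorization (Char.degree_pos χ).ne').1 hd
    omega
  refine Blocks.block_eq_of_mem hB (Blocks.isPBlock_principalBlock hM.2.2) hχB
    (BlockLow.mem_principal_of_sym h2M hχ fun g hg => ?_)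
  obtain ⟨ψ, hψB, hψ⟩ := hstab χ hχB
  have hblk := Blocks.sameBlock_of_mem hB hψB hχB g
  have h1 : (ψ : G → ℂ) 1 = (χ : G → ℂ) 1 := by rw [hψ, one_pow]
  have hgk : (ψ : G → ℂ) g = (χ : G → ℂ) g⁻¹ := by
    rw [hψ, hk₂ g (Nat.odd_iff.2 (Nat.two_dvd_ne_zero.1 hg))]
  have hci : Subgroup.centralizer ({g⁻¹} : Set G) = Subgroup.centralizer ({g} : Set G) := by
    ext z
    simp only [Subgroup.mem_centralizer_singleton_iff]
    exact ⟨fun e => (Commute.inv_right_iff.1 (e : Commute z g⁻¹)).eq,
      fun e => (Commute.inv_right (e : Commute z g)).eq⟩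
  have he : Cfsg.centralChar (ψ : G → ℂ) g = Cfsg.centralChar (χ : G → ℂ) g⁻¹ := by
    rw [Cfsg.centralChar, Cfsg.centralChar, hgk, h1, hci]
  rwa [he] at hblk

end Cfsg.Agent.S4517
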