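import Cfsg.Statements.S4518
import Cfsg.Agent.Lib.Char.CliffordCorrespondence
import Cfsg.Agent.Lib.CharInt.Galois
import Mathlib.GroupTheory.Perm.Cycle.Type


set_option autoImplicit false
open Cfsg Cfsg.Agent.Char

namespace Cfsg.Agent.S4518

universe u

/-- The irreducible character `g ↦ φ (g ^ k)` for `k` prime to the group order. -/
noncomputable def powChar {H : Type u} [Group H] [Finite H] {k : ℕ} (hk : k.Coprime (Nat.card H))
    (φ : IrrCharacter H) : IrrCharacter H :=
  ⟨fun g => φ.1 (g ^ k), CharInt.isIrrCharacter_pow φ.2 hk⟩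

theorem powChar_iterate {H : Type u} [Group H] [Finite H] {k : ℕ} (hk : k.Coprime (Nat.card H))
    (φ : IrrCharacter H) (m : ℕ) (g : H) : ((powChar hk)^[m] φ).1 g = φ.1 (g ^ k ^ m) := by
  induction m generalizing g with
  | zero => simp
  | succ m ih =>
    rw [Function.iterate_succ_apply']
    show ((powChar hk)^[m] φ).1 (g ^ k) = _
    rw [ih, ← pow_mul, ← pow_succ']

theorem classInner_pow {H : Type u} [Group H] [Fintype H] {k : ℕ} (hk : k.Coprime (Nat.card H))
    (φ ψ : H → ℂ) : classInner (fun g => φ (g ^ k)) (fun g => ψ (g ^ k)) = classInner φ ψ := by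
  simp only [classInner]
  congr 1
  exact Fintype.sum_equiv (powCoprime hk.symm) _ _ fun g => rfl

/-- Let N be a normal subgroup of the finite group G whose index is not divisible by the prime p, and let k be coprime to the order of G with k ^ (p ^ e) ≡ 1 modulo the order of G for some e (so g ↦ g ^ k induces a field automorphism of p-power order on character values). If an irreducible character χ of G satisfies χ (g ^ k) = χ g for all g, then every irreducible constituent θ of the restriction of χ to N satisfies θ (n ^ k) = θ n for all n. -/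
theorem result {G : Type*} [Group G] [Fintype G] (p : ℕ) [Fact p.Prime] (N : Subgroup G) [N.Normal] [Fintype N] (hidx : ¬ p ∣ N.index) (k e : ℕ) (hk : Nat.Coprime k (Nat.card G)) (hke : k ^ (p ^ e) ≡ 1 [MOD Nat.card G]) (χ : Cfsg.IrrCharacter G) (hχ : ∀ g : G, (χ : G → ℂ) (g ^ k) = (χ : G → ℂ) g) (θ : Cfsg.IrrCharacter N) (hθ : Cfsg.classInner (fun n : N => (χ : G → ℂ) n) (θ : N → ℂ) ≠ 0) : ∀ n : N, (θ : N → ℂ) (n ^ k) = (θ : N → ℂ) n := by
  classical
  have hkN : k.Coprime (Nat.card N) := hk.coprime_dvd_right N.card_subgroup_dvd_card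
  have hres : (fun n : N => (χ : G → ℂ) n) = resFun N χ.1 := rfl
  rw [hres] at hθ
  let S := {η : IrrCharacter N // classInner (resFun N χ.1) η.1 ≠ 0}
  have hstab : ∀ η : IrrCharacter N, classInner (resFun N χ.1) (powChar hkN η).1 =
      classInner (resFun N χ.1) η.1 := by
    intro η
    conv_lhs => rw [show resFun N χ.1 = fun n : N => resFun N χ.1 (n ^ k) from
      funext fun n => (by simp [hχ])]
    exact classInner_pow hkN _ _
  have hS : Nat.card S = (inertia N θ.1).index := by
    rw [index_inertia, ← Nat.card_eq_finsetCard]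
    refine Nat.card_congr (Equiv.subtypeEquivRight fun η => ⟨fun h => ?_, fun h => ?_⟩)
    · exact (mem_orbitFinset N).2 (exists_conjChar_of_constituents N χ θ η hθ h)
    · obtain ⟨g, rfl⟩ := (mem_orbitFinset N).1 h
      rw [conjChar_coe, classInner_resFun_conjFun N (IsCharacter.isClassFunction (irr_isCharacter χ))]
      exact hθ
  have hnd : ¬ p ∣ Nat.card S := fun h =>
    hidx (hS ▸ h |>.trans (Subgroup.index_dvd_of_le (irr_le_inertia N θ)))
  let σ : S → S := fun η => ⟨powChar hkN η.1, by rw [hstab]; exact η.2⟩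
  have hiter : ∀ η : S, σ^[p ^ e] η = η := by
    intro η
    have hmap : ∀ m, ((σ^[m]) η).1 = (powChar hkN)^[m] η.1 := by
      intro m
      induction m with
      | zero => rfl
      | succ m ih =>
        rw [Function.iterate_succ_apply', Function.iterate_succ_apply', ← ih]
    refine Subtype.ext (Subtype.ext (funext fun n => ?_))
    rw [hmap, powChar_iterate]
    have hn : n ^ k ^ p ^ e = n ^ 1 := by
      rw [pow_eq_pow_iff_modEq]
      exact (hke.of_dvd N.card_subgroup_dvd_card).of_dvd (orderOf_dvd_natCard n)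
    rw [hn, pow_one]
  let π : Equiv.Perm S :=
    { toFun := σ
      invFun := σ^[p ^ e - 1]
      left_inv := fun η => by
        have := hiter η
        rw [show p ^ e = p ^ e - 1 + 1 from (Nat.sub_add_cancel (Nat.one_le_pow _ _
          (Fact.out : p.Prime).pos)).symm, Function.iterate_succ_apply] at this
        exact this
      right_inv := fun η => by
        have := hiter η
        rw [show p ^ e = p ^ e - 1 + 1 from (Nat.sub_add_cancel (Nat.one_le_pow _ _
          (Fact.out : p.Prime).pos)).symm, Function.iterate_succ_apply'] at this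
        exact this }
  have hπ : π ^ p ^ e = 1 := by
    refine Equiv.ext fun η => ?_
    rw [← Equiv.Perm.iterate_eq_pow]
    exact hiter η
  haveI : Fintype S := Fintype.ofFinite S
  obtain ⟨⟨θ₀, h₀⟩, hfix⟩ := Equiv.Perm.exists_fixed_point_of_prime
    (by rwa [← Nat.card_eq_fintype_card]) hπ
  have hfix' : ∀ n : N, θ₀.1 (n ^ k) = θ₀.1 n := fun n =>
    congrFun (congrArg (fun η : S => η.1.1) hfix) n
  obtain ⟨g, rfl⟩ := exists_conjChar_of_constituents N χ θ₀ θ h₀ hθ
  intro n
  show θ₀.1 (MulAut.conjNormal g (n ^ k)) = θ₀.1 (MulAut.conjNormal g n)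
  rw [map_pow, hfix']

end Cfsg.Agent.S4518
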