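import Cfsg.Statements.S4519
import Cfsg.Agent.Lib.Clifford.Glue
import Cfsg.Agent.Lib.Clifford.CyclicQuotient
import Cfsg.Agent.Lib.Char.CliffordGallagher
import Cfsg.Agent.Lib.Char.CliffordCorrespondence
import Cfsg.Agent.Lib.Char.RealChar
import Cfsg.Agent.Lib.Char.KernelSum
import Cfsg.Agent.Lib.Blocks.PPart
import Cfsg.Agent.Lib.TICent.Chars
import Cfsg.Agent.Lib.CharInt.Galois


set_option autoImplicit false
open Cfsg Cfsg.Agent.Char

namespace Cfsg.Agent.S4519

universe u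

/-- A real irreducible character of a group of odd order is trivial. -/
theorem eq_trivial_of_real {Q : Type u} [Group Q] [Fintype Q] (hodd : Odd (Nat.card Q))
    (β : IrrCharacter Q) (h : ∀ q, β.1 q⁻¹ = β.1 q) : β = trivialChar Q := by
  by_contra hne
  have him : ∀ q, (β.1 q).im = 0 := fun q => by
    rw [← Complex.conj_eq_iff_im, IsCharacter.conj_apply (irr_isCharacter β), h]
  refine (fsIndicator_ne_zero_iff β).2 him ?_
  have hco : (Nat.card Q).Coprime 2 := (Nat.coprime_two_right).2 hodd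
  rw [fsIndicator_eq_sum, Fintype.sum_equiv (powCoprime hco) (fun g => β.1 (g * g)) β.1
    (fun g => by rw [powCoprime_apply, sq]), sum_apply_eq_zero hne, mul_zero]

/-- Modulo a normal subgroup of odd index the power map is inversion. -/
theorem mk_pow_eq_inv {G : Type u} [Group G] [Finite G] (N : Subgroup G) [N.Normal]
    (hidx : Odd N.index) {k : ℕ} (hk₂ : ∀ g : G, Odd (orderOf g) → g ^ k = g⁻¹) (g : G) :
    ((g : G ⧸ N)) ^ k = ((g : G ⧸ N))⁻¹ := by
  haveI : Fact (Nat.Prime 2) := ⟨Nat.prime_two⟩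
  obtain ⟨u, y, rfl, -, ⟨m, hm⟩, hy⟩ := Blocks.exists_isPPart (p := 2) g
  have hu : (u : G ⧸ N) = 1 := by
    refine orderOf_eq_one_iff.1 (Nat.eq_one_of_dvd_coprimes (a := 2 ^ m) (b := N.index) ?_ ?_ ?_)
    · exact ((Nat.coprime_two_left).2 hidx).pow_left m
    · rw [← hm]; exact orderOf_map_dvd (QuotientGroup.mk' N) u
    · rw [Subgroup.index_eq_card]; exact orderOf_dvd_natCard _
  rw [QuotientGroup.mk_mul, hu, one_mul, ← QuotientGroup.mk_pow,
    hk₂ y (Nat.odd_iff.2 (Nat.two_dvd_ne_zero.1 hy)), QuotientGroup.mk_inv]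

theorem isIrr_pow {H : Type u} [Group H] [Finite H] {G : Type u} [Group G] {k : ℕ}
    (hk : k.Coprime (Nat.card G)) (i : H →* G) (hi : Function.Injective i) {f : H → ℂ}
    (hf : IsIrrCharacter H f) : IsIrrCharacter H (fun x => f (x ^ k)) :=
  CharInt.isIrrCharacter_pow hf (hk.coprime_dvd_right (Subgroup.card_dvd_of_injective i hi))

/-- A fixed character over a fixed extension is equal to it. -/
theorem eq_of_fixed {G : Type u} [Group G] [Fintype G] {N : Subgroup G} [N.Normal] [Fintype N]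
    (hidx : Odd N.index) {k : ℕ} (hk : k.Coprime (Nat.card G))
    (hk₂ : ∀ g : G, Odd (orderOf g) → g ^ k = g⁻¹) {θ : IrrCharacter N} {χ χ' : IrrCharacter G}
    (hext : ∀ n : N, χ.1 n = θ.1 n) (hover : classInner (resFun N χ'.1) θ.1 ≠ 0)
    (hχ : ∀ g, χ.1 (g ^ k) = χ.1 g) (hχ' : ∀ g, χ'.1 (g ^ k) = χ'.1 g) : χ' = χ := by
  classical
  haveI := Fintype.ofFinite (G ⧸ N)
  have hres : resFun N χ.1 = θ.1 := funext hext
  have hirr : IsIrrCharacter N (resFun N χ.1) := hres ▸ θ.2
  obtain ⟨β, hβ⟩ := exists_mulQuotient_eq N χ hirr χ' (hres ▸ hover)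
  have hkQ : k.Coprime (Nat.card (G ⧸ N)) :=
    hk.coprime_dvd_right (Subgroup.card_quotient_dvd_card N)
  let β' : IrrCharacter (G ⧸ N) := ⟨fun q => β.1 (q ^ k), CharInt.isIrrCharacter_pow β.2 hkQ⟩
  have hb : β' = β := by
    refine mulQuotient_injective N χ hirr (funext fun g => ?_)
    have h1 := hχ' g
    rw [← congrFun hβ g, ← congrFun hβ (g ^ k), mulQuotient_apply, mulQuotient_apply, hχ,
      QuotientGroup.mk_pow] at h1
    exact h1
  have htriv : β = trivialChar (G ⧸ N) := by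
    refine eq_trivial_of_real (by rw [← Subgroup.index_eq_card]; exact hidx) β fun q => ?_
    obtain ⟨g, rfl⟩ := QuotientGroup.mk_surjective q
    rw [← mk_pow_eq_inv N hidx hk₂ g]
    exact congrFun (congrArg Subtype.val hb) _
  exact Subtype.ext (funext fun g => by rw [← congrFun hβ g, htriv]; exact mul_one _)

/-- Across a normal subgroup of odd prime index a fixed invariant character has a fixed
extension. -/
theorem exists_fixed_prime {G : Type u} [Group G] [Fintype G] {N : Subgroup G} [N.Normal]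
    [Fintype N] (hidx : Odd N.index) (hq : N.index.Prime) {k : ℕ} (hk : k.Coprime (Nat.card G))
    (hk₂ : ∀ g : G, Odd (orderOf g) → g ^ k = g⁻¹) {θ : IrrCharacter N}
    (hθ : ∀ n : N, θ.1 (n ^ k) = θ.1 n) (hinv : ∀ g : G, conjFun N θ.1 g = θ.1) :
    ∃ χ : IrrCharacter G, (∀ g, χ.1 (g ^ k) = χ.1 g) ∧ ∀ n : N, χ.1 n = θ.1 n := by
  classical
  haveI := Fintype.ofFinite (G ⧸ N)
  obtain ⟨n, σ, hσ, hσθ⟩ := θ.2
  haveI := hσ
  haveI hcyc : IsCyclic (G ⧸ N) := by
    haveI := Fact.mk hq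
    exact isCyclic_of_prime_card (p := N.index) (Subgroup.index_eq_card N).symm
  obtain ⟨χ₀f, hχ₀, hext⟩ := Clifford.exists_irrCharacter_extension σ
    (Clifford.exists_extension_of_cyclic σ fun g m => by rw [hσθ]; exact congrFun (hinv g) m)
  let χ₀ : IrrCharacter G := ⟨χ₀f, hχ₀⟩
  have hres : resFun N χ₀.1 = θ.1 := funext fun m => by rw [← hσθ]; exact hext m
  let χ₁ : IrrCharacter G := ⟨fun g => χ₀.1 (g ^ k), CharInt.isIrrCharacter_pow χ₀.2 hk⟩
  have hres₁ : resFun N χ₁.1 = θ.1 := funext fun m => by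
    rw [← hθ m, ← hres]
    exact congrArg χ₀.1 (SubmonoidClass.coe_pow m k).symm
  obtain ⟨β, hβ⟩ := exists_mulQuotient_eq N χ₀ (hres ▸ θ.2) χ₁
    (by rw [hres₁, hres, classInner_irr_self θ.2]; exact one_ne_zero)
  haveI : IsMulCommutative (G ⧸ N) := IsCyclic.isMulCommutative
  have hcomm : ∀ a b : G ⧸ N, a * b = b * a := fun a b => mul_comm' a b
  have hβ1 : β.1 1 = 1 := by
    have h1 := congrFun hres₁ 1
    rw [← congrFun hres 1, resFun_apply, resFun_apply, OneMemClass.coe_one,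
      ← congrFun hβ (1 : G), mulQuotient_apply, QuotientGroup.mk_one] at h1
    exact mul_left_cancel₀ (IsIrrCharacter.apply_one_ne_zero χ₀.2) (h1.trans (mul_one _).symm)
  have hmul : ∀ a b : G ⧸ N, β.1 (a * b) = β.1 a * β.1 b := fun a b => by
    have := TICent.irr_mul_central β.2 (hcomm a) b
    rwa [hβ1, mul_one] at this
  obtain ⟨r, hr⟩ := hidx
  have hord : ∀ q : G ⧸ N, q ^ (r + 1) * q ^ (r + 1) = q := fun q => by
    rw [← pow_add, show r + 1 + (r + 1) = N.index + 1 by omega, pow_succ,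
      Subgroup.index_eq_card, pow_card_eq_one', one_mul]
  have hco : (r + 1).Coprime (Nat.card (G ⧸ N)) := by
    rw [← Subgroup.index_eq_card]
    refine (Nat.coprime_comm).1 (hq.coprime_iff_not_dvd.2 fun hd => ?_)
    have := Nat.le_of_dvd (Nat.succ_pos r) hd
    have := hq.two_le
    omega
  let lam : IrrCharacter (G ⧸ N) := ⟨fun q => β.1 (q ^ (r + 1)), CharInt.isIrrCharacter_pow β.2 hco⟩
  refine ⟨⟨mulQuotient N χ₀.1 lam.1, isIrrCharacter_mulQuotient N χ₀ (hres ▸ θ.2) lam⟩,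
    fun g => ?_, fun m => ?_⟩
  · show χ₀.1 (g ^ k) * β.1 ((((g ^ k : G)) : G ⧸ N) ^ (r + 1)) =
      χ₀.1 g * β.1 ((g : G ⧸ N) ^ (r + 1))
    rw [QuotientGroup.mk_pow, mk_pow_eq_inv N ⟨r, hr⟩ hk₂ g,
      show χ₀.1 (g ^ k) = mulQuotient N χ₀.1 β.1 g from (congrFun hβ g).symm, mulQuotient_apply,
      mul_assoc]
    congr 1
    set q := (g : G ⧸ N)
    conv_lhs => arg 1; rw [← hord q]
    rw [hmul, mul_assoc, ← hmul, ← (Commute.inv_right (Commute.refl q)).mul_pow, mul_inv_cancel, one_pow, hβ1, mul_one]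
  · show χ₀.1 m * β.1 (((m : G) : G ⧸ N) ^ (r + 1)) = θ.1 m
    rw [(QuotientGroup.eq_one_iff (m : G)).2 m.2, one_pow, hβ1, mul_one]
    exact congrFun hres m

/-- An invariant fixed character has a fixed extension. -/
theorem exists_fixed {G : Type u} [Group G] [Fintype G] {N : Subgroup G} [N.Normal] [Fintype N]
    (hidx : Odd N.index) {k : ℕ} (hk : k.Coprime (Nat.card G))
    (hk₂ : ∀ g : G, Odd (orderOf g) → g ^ k = g⁻¹) {θ : IrrCharacter N}
    (hθ : ∀ n : N, θ.1 (n ^ k) = θ.1 n) (hinv : ∀ g : G, conjFun N θ.1 g = θ.1) :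
    ∃ χ : IrrCharacter G, (∀ g, χ.1 (g ^ k) = χ.1 g) ∧ ∀ n : N, χ.1 n = θ.1 n := by
  classical
  let C : ∀ H : Subgroup G, (H → ℂ) → Prop := fun H f => ∀ x : H, f (x ^ k) = f x
  have hidx' : ∀ (K H : Subgroup G), N ≤ K → Odd (K.subgroupOf H).index := fun K H hNK =>
    hidx.of_dvd_nat ((Subgroup.relIndex_dvd_of_le_left H hNK).trans
      (Subgroup.relIndex_dvd_index_of_normal N H))
  have hkH : ∀ H : Subgroup G, k.Coprime (Nat.card H) := fun H =>
    hk.coprime_dvd_right H.card_subgroup_dvd_card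
  have hk₂H : ∀ (H : Subgroup G) (x : H), Odd (orderOf x) → x ^ k = x⁻¹ := fun H x hx =>
    Subtype.ext (by simpa using hk₂ x (by rwa [Subgroup.orderOf_coe]))
  have huniq : ∀ H : Subgroup G, N ≤ H → ∀ f f' : H → ℂ, Clifford.CExt θ C H f →
      Clifford.CExt θ C H f' → f = f' := by
    intro H hNH f f' hf hf'
    haveI : (N.subgroupOf H).Normal := Subgroup.normal_subgroupOf
    let θ' := toSubgroupOf N hNH θ
    have hext : ∀ x : N.subgroupOf H, f x = θ'.1 x := fun x => hf.2.1 _ x.2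
    have hext' : resFun (N.subgroupOf H) f' = θ'.1 := funext fun x => hf'.2.1 _ x.2
    exact (congrArg Subtype.val (eq_of_fixed (N := N.subgroupOf H) (hidx' N H le_rfl) (hkH H)
      (hk₂H H) (θ := θ') (χ := ⟨f, hf.1⟩) (χ' := ⟨f', hf'.1⟩) hext
      (by rw [hext', classInner_irr_self θ'.2]; exact one_ne_zero) hf.2.2 hf'.2.2)).symm
  have hC : Clifford.Canonical θ C := by
    refine ⟨hθ, huniq, ?_, ?_, ?_⟩
    · intro H' H hle _ f hf x
      have h : Subgroup.inclusion hle (x ^ k) = Subgroup.inclusion hle x ^ k := map_pow _ _ _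
      show f (Subgroup.inclusion hle (x ^ k)) = _
      rw [h]
      exact hf.2.2 _
    · intro a H' H h _ f hf x
      refine Eq.trans ?_ (hf.2.2 ⟨a * x * a⁻¹, (h x).1 x.2⟩)
      exact congrArg f (Subtype.ext (by simp [conj_pow]))
    · intro K H hNK hKH hn hq f hf
      haveI := hn
      let eK := Subgroup.subgroupOfEquivOfLe hKH
      let θ' : IrrCharacter (K.subgroupOf H) :=
        ⟨fun x => f (eK x), IsIrrCharacter.comp_surjective hf.1 eK.toMonoidHom eK.surjective⟩
      have hθ' : ∀ x : K.subgroupOf H, θ'.1 (x ^ k) = θ'.1 x := fun x => by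
        show f (eK (x ^ k)) = _
        rw [map_pow, hf.2.2]
      have hinv' : ∀ h : H, conjFun (K.subgroupOf H) θ'.1 h = θ'.1 := by
        intro h
        have hmem : ∀ x : G, x ∈ K ↔ (h : G) * x * (h : G)⁻¹ ∈ K := by
          intro x
          constructor
          · intro hx
            exact Subgroup.mem_subgroupOf.1 (hn.conj_mem ⟨x, hKH hx⟩ hx h)
          · intro hx
            have := Subgroup.mem_subgroupOf.1 (hn.conj_mem ⟨_, hKH hx⟩ hx h⁻¹)
            simpa [mul_assoc] using this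
        let i : K →* K :=
          { toFun := fun x => ⟨(h : G) * x * (h : G)⁻¹, (hmem x).1 x.2⟩
            map_one' := Subtype.ext (by simp)
            map_mul' := fun x y => Subtype.ext (by simp [mul_assoc]) }
        have hsurj : Function.Surjective i := fun y => ⟨⟨(h : G)⁻¹ * y * h, (hmem _).2 (by
          rw [show (h : G) * ((h : G)⁻¹ * y * h) * (h : G)⁻¹ = y by group]; exact y.2)⟩,
          Subtype.ext (show (h : G) * ((h : G)⁻¹ * y * h) * (h : G)⁻¹ = y by group)⟩
        have hfi : Clifford.CExt θ C K (fun x => f (i x)) := by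
          refine ⟨IsIrrCharacter.comp_surjective hf.1 i hsurj, fun x hx => ?_, fun x => ?_⟩
          · show f (i x) = _
            rw [hf.2.1 (i x) (‹N.Normal›.conj_mem _ hx h)]
            exact congrFun (hinv h) ⟨x, hx⟩
          · show f (i (x ^ k)) = f (i x)
            rw [map_pow, hf.2.2]
        funext x
        refine Eq.trans ?_ (congrFun (huniq K hNK _ _ hfi hf) (eK x))
        exact congrArg f (Subtype.ext (by simp [eK, i, Subgroup.subgroupOfEquivOfLe]))
      obtain ⟨χ, hχfix, hχ⟩ := exists_fixed_prime (N := K.subgroupOf H) (hidx' K H hNK) hq (hkH H)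
        (hk₂H H) hθ' hinv'
      exact ⟨χ.1, χ.2, hχfix, fun x hx => hχ ⟨x, hx⟩⟩
  obtain ⟨χ, hext, hloc⟩ := Clifford.exists_glued hC
  exact ⟨χ, fun g => hloc g ⟨g, Subgroup.mem_sup_right (Subgroup.mem_zpowers g)⟩, hext⟩

/-- Let N be a normal subgroup of odd index in the finite group G, and let k be coprime to the order of G with k ^ (2 ^ e) ≡ 1 modulo the order of G for some e and g ^ k = g⁻¹ for every element g of odd order (so g ↦ g ^ k induces a field automorphism of 2-power order inverting the roots of unity of odd order). If an irreducible character θ of N satisfies θ (n ^ k) = θ n for all n, then there is exactly one irreducible character χ of G with θ a constituent of its restriction to N and χ (g ^ k) = χ g for all g; moreover, if θ is invariant under conjugation by G, that χ restricts to θ. -/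
theorem result {G : Type*} [Group G] [Fintype G] (N : Subgroup G) [hN : N.Normal] [Fintype N] (hidx : Odd N.index) (k e : ℕ) (hk : Nat.Coprime k (Nat.card G)) (hke : k ^ (2 ^ e) ≡ 1 [MOD Nat.card G]) (hk₂ : ∀ g : G, Odd (orderOf g) → g ^ k = g⁻¹) (θ : Cfsg.IrrCharacter N) (hθ : ∀ n : N, (θ : N → ℂ) (n ^ k) = (θ : N → ℂ) n) : ∃ χ : Cfsg.IrrCharacter G, (Cfsg.classInner (fun n : N => (χ : G → ℂ) n) (θ : N → ℂ) ≠ 0 ∧ (∀ g : G, (χ : G → ℂ) (g ^ k) = (χ : G → ℂ) g) ∧ ((∀ g : G, ∀ n : N, (θ : N → ℂ) ⟨g * n * g⁻¹, hN.conj_mem n n.2 g⟩ = (θ : N → ℂ) n) → ∀ n : N, (χ : G → ℂ) n = (θ : N → ℂ) n)) ∧ ∀ χ' : Cfsg.IrrCharacter G, Cfsg.classInner (fun n : N => (χ' : G → ℂ) n) (θ : N → ℂ) ≠ 0 → (∀ g : G, (χ' : G → ℂ) (g ^ k) = (χ' : G → ℂ) g) → χ' = χ := by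
  classical
  set I := inertia N θ.1 with hI
  haveI : (N.subgroupOf I).Normal := Subgroup.normal_subgroupOf
  have hNI := irr_le_inertia N θ
  have hkI : k.Coprime (Nat.card I) := hk.coprime_dvd_right I.card_subgroup_dvd_card
  have hk₂I : ∀ x : I, Odd (orderOf x) → x ^ k = x⁻¹ := fun x hx =>
    Subtype.ext (by simpa using hk₂ x (by rwa [Subgroup.orderOf_coe]))
  have hidxI : Odd (N.subgroupOf I).index := hidx.of_dvd_nat
    (Subgroup.relIndex_dvd_index_of_normal N I)
  let θ' := toSubgroupOf N hNI θ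
  have hθ' : ∀ x : N.subgroupOf I, θ'.1 (x ^ k) = θ'.1 x := fun x => by
    show θ.1 (Subgroup.subgroupOfEquivOfLe hNI (x ^ k)) = _
    rw [map_pow, hθ]
    rfl
  have hinv' : ∀ g : I, conjFun (N.subgroupOf I) θ'.1 g = θ'.1 := fun g =>
    (conjFun_toSubgroupOf_iff N hNI θ g).2 g.2
  obtain ⟨ψ, hψfix, hψext⟩ := exists_fixed hidxI hkI hk₂I hθ' hinv'
  have hψres : resIncl N hNI ψ.1 = θ.1 := funext fun n => hψext ⟨⟨n, hNI n.2⟩, n.2⟩
  have hψover : classInner (resIncl N hNI ψ.1) θ.1 ≠ 0 := by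
    rw [hψres, classInner_irr_self θ.2]; exact one_ne_zero
  have hmem : ∀ x : G, x ^ k ∈ I → x ∈ I := fun x hx => by
    obtain ⟨m, hm⟩ := exists_pow_eq_self_of_coprime (x := x)
      (hk.coprime_dvd_right (orderOf_dvd_natCard x))
    rw [← hm]
    exact pow_mem hx m
  have hind : ∀ (φ : I → ℂ) (g : G), indFun I φ (g ^ k) = indFun I (fun x => φ (x ^ k)) g := by
    intro φ g
    simp only [indFun]
    congr 1
    refine Finset.sum_congr rfl fun x _ => ?_
    have hc : x⁻¹ * g ^ k * x = (x⁻¹ * g * x) ^ k := by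
      have := (conj_pow (a := x⁻¹) (b := g) (i := k)).symm
      rwa [inv_inv] at this
    rw [hc]
    by_cases hx : x⁻¹ * g * x ∈ I
    · exact (extendByZero_coe I φ (⟨x⁻¹ * g * x, hx⟩ ^ k)).trans
        (extendByZero_coe I (fun y => φ (y ^ k)) ⟨x⁻¹ * g * x, hx⟩).symm
    · rw [extendByZero_of_notMem I φ (fun h => hx (hmem _ h)), extendByZero_of_notMem I _ hx]
  refine ⟨cliffordInduce N θ ⟨ψ, hψover⟩, ⟨?_, fun g => ?_, fun hinvG n => ?_⟩, fun χ' h' hfix' => ?_⟩
  · show classInner (resFun N (cliffordInduce N θ ⟨ψ, hψover⟩).1) θ.1 ≠ 0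
    rw [classInner_resFun_cliffordInduce]
    exact hψover
  · rw [cliffordInduce_coe, hind]
    exact congrArg (indFun I · g) (funext hψfix)
  · have hinv : ∀ g, conjFun N θ.1 g = θ.1 := fun g => funext fun m => hinvG g m
    obtain ⟨χ₀, hfix₀, hext₀⟩ := exists_fixed hidx hk hk₂ hθ hinv
    rw [eq_of_fixed hidx hk hk₂ (χ' := cliffordInduce N θ ⟨ψ, hψover⟩) hext₀
      (by rw [classInner_resFun_cliffordInduce]; exact hψover) hfix₀ fun g => by
        rw [cliffordInduce_coe, hind]; exact congrArg (indFun I · g) (funext hψfix)]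
    exact hext₀ n
  · obtain ⟨⟨ψ', hψ'⟩, rfl⟩ := (cliffordInduce_bijective N θ).2 χ' h'
    have hkN : k.Coprime (Nat.card N) := hk.coprime_dvd_right N.card_subgroup_dvd_card
    let ψ'' : IrrCharacter I := ⟨fun x => ψ'.1 (x ^ k), CharInt.isIrrCharacter_pow ψ'.2 hkI⟩
    have hψ'' : classInner (resIncl N hNI ψ''.1) θ.1 ≠ 0 := by
      have e1 : classInner (resIncl N hNI ψ''.1) θ.1 =
          classInner (fun n => resIncl N hNI ψ'.1 (n ^ k)) (fun n => θ.1 (n ^ k)) := by
        congr 1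
        exact funext fun n => (hθ n).symm
      rw [e1]
      simp only [classInner]
      rw [Fintype.sum_equiv (powCoprime hkN.symm)
        (fun n => resIncl N hNI ψ'.1 (n ^ k) * starRingEnd ℂ (θ.1 (n ^ k)))
        (fun n => resIncl N hNI ψ'.1 n * starRingEnd ℂ (θ.1 n)) fun n => rfl]
      exact hψ'
    have heq : cliffordInduce N θ ⟨ψ'', hψ''⟩ = cliffordInduce N θ ⟨ψ', hψ'⟩ := by
      refine Subtype.ext (funext fun g => ?_)
      rw [cliffordInduce_coe]
      rw [← hind]
      have := hfix' g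
      rwa [cliffordInduce_coe] at this
    have hfix : ∀ x, ψ'.1 (x ^ k) = ψ'.1 x := fun x => congrFun (congrArg Subtype.val
      (congrArg Subtype.val ((cliffordInduce_bijective N θ).1 heq))) x
    congr 1
    refine Subtype.ext (eq_of_fixed hidxI hkI hk₂I (θ := θ') hψext ?_ hψfix hfix)
    rw [classInner_toSubgroupOf]
    exact hψ'

end Cfsg.Agent.S4519
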