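import Cfsg.Statements.S4520
import Cfsg.Agent.Lib.BlockCount.Criterion
import Cfsg.Agent.Lib.BlockLow.FullDefect
import Cfsg.Agent.Lib.Char.Descend


set_option autoImplicit false
open Cfsg Cfsg.Agent.Char
open scoped ComplexConjugate

namespace Cfsg.Agent.S4520

universe u

/-- A block with a character having a constituent in the principal block of a normal subgroup `N`
has a character trivial on `N`. -/
theorem exists_trivOn_sameBlock {G : Type u} [Group G] [Fintype G] {p : ℕ} [Fact p.Prime]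
    {M : Ideal AlgInt} (hM : IsPModular p M) (N : Subgroup G) [N.Normal] [Fintype N]
    {θ : IrrCharacter N} (hθ : θ ∈ principalBlock M N) {χ : IrrCharacter G}
    (hover : classInner (resFun N χ.1) θ.1 ≠ 0) :
    ∃ ψ : IrrCharacter G, TrivOn N ψ.1 ∧ SameBlock M χ.1 ψ.1 := by
  classical
  haveI := hM.2.1
  by_contra! hcon
  have h1 : BlockCount.pregSum p (fun n : N => χ.1 n) ≠ 0 := by
    rw [show (fun n : N => χ.1 n) = resFun N χ.1 from rfl, resFun_eq_smul_orbitSum N χ θ hover,
      BlockCount.pregSum_smul, orbitSum, BlockCount.pregSum_finsetSum,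
      Finset.sum_congr rfl (g := fun _ => BlockCount.pregSum p θ.1) fun η hη => by
        obtain ⟨g, rfl⟩ := (mem_orbitFinset N).1 hη
        rw [conjChar_coe, BlockCount.pregSum_conjFun],
      Finset.sum_const, nsmul_eq_mul]
    refine mul_ne_zero hover (mul_ne_zero (Nat.cast_ne_zero.2 ?_) (BlockCount.pregSum_ne_zero hM hθ))
    exact (Finset.card_pos.2 ⟨θ, (mem_orbitFinset N).2 ⟨1, Subtype.ext (conjFun_one N θ.1).symm⟩⟩).ne'
  apply h1
  rw [BlockCount.pregSum_subgroup, BlockCount.pregSum]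
  have hind : ∀ g : G, (Nat.card G : ℂ) * (if g ∈ N then (1 : ℂ) else 0) = (Nat.card N : ℂ) *
      ∑ ψ ∈ Finset.univ.filter (fun ψ : IrrCharacter G => TrivOn N ψ.1), conj (ψ.1 g) * ψ.1 1 := by
    intro g
    have h := congrArg (starRingEnd ℂ) (sum_trivOn_mul_conj N g 1)
    simp only [map_mul, map_sum, map_natCast, Complex.conj_conj] at h
    rw [h]
    have hc : Nat.card (Subgroup.centralizer ({1} : Set G)) = Nat.card G := by
      have : Subgroup.centralizer ({1} : Set G) = ⊤ := by
        ext x; simp [Subgroup.mem_centralizer_singleton_iff]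
      rw [this, Subgroup.card_top]
    rw [hc]
    congr 1
    split_ifs with hg
    · rw [Nat.card_eq_one_iff_unique.2 ⟨⟨fun a b => Subtype.ext (Subtype.ext (mul_left_cancel
        ((isConj_one_left.1 a.2).trans (isConj_one_left.1 b.2).symm)))⟩,
        ⟨⟨⟨g⁻¹, inv_mem hg⟩, by simp⟩⟩⟩, Nat.cast_one]
    · haveI : IsEmpty {k : N // IsConj (g * (k : G)) 1} := ⟨fun k => hg (by
        rw [eq_inv_of_mul_eq_one_left (isConj_one_left.1 k.2)]
        exact inv_mem k.1.2)⟩
      rw [Nat.card_of_isEmpty, Nat.cast_zero]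
  refine (mul_eq_zero.1 ?_).resolve_left (Nat.cast_ne_zero.2 (Nat.card_pos (α := G)).ne')
  simp only [Finset.mul_sum, ← mul_assoc, hind, Finset.sum_mul]
  rw [Finset.sum_comm]
  refine Finset.sum_eq_zero fun ψ hψ => ?_
  have h := Blocks.regular_orthogonality (p := p) hM.2.2 (χ := χ) (ψ := ψ)
    (hcon ψ (Finset.mem_filter.1 hψ).2)
  rw [Finset.sum_congr rfl (g := fun x => (Nat.card N : ℂ) * ψ.1 1 * (χ.1 x * conj (ψ.1 x)))
    fun x _ => by ring, ← Finset.mul_sum]
  refine mul_eq_zero_of_right _ (Eq.trans ?_ h)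
  exact Finset.sum_congr (by ext x; simp [IsPRegular]) fun _ _ => rfl

/-- Let N be a normal subgroup of odd index in the finite group G, M a maximal ideal of the algebraic integers containing 2, and k coprime to the order of G with k ^ (2 ^ e) ≡ 1 modulo the order of G for some e and g ^ k = g⁻¹ for every element g of odd order. Let θ be an irreducible character of N and χ an irreducible character of G over θ, both unchanged by composing with g ↦ g ^ k. Then χ lies in the principal 2-block of G if and only if θ lies in the principal 2-block of N. -/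
theorem result {G : Type*} [Group G] [Fintype G] (M : Ideal Cfsg.AlgInt) (hM : Cfsg.IsPModular 2 M) (N : Subgroup G) [N.Normal] [Fintype N] (hidx : Odd N.index) (k e : ℕ) (hk : Nat.Coprime k (Nat.card G)) (hke : k ^ (2 ^ e) ≡ 1 [MOD Nat.card G]) (hk₂ : ∀ g : G, Odd (orderOf g) → g ^ k = g⁻¹) (θ : Cfsg.IrrCharacter N) (hθ : ∀ n : N, (θ : N → ℂ) (n ^ k) = (θ : N → ℂ) n) (χ : Cfsg.IrrCharacter G) (hχ : ∀ g : G, (χ : G → ℂ) (g ^ k) = (χ : G → ℂ) g) (hover : Cfsg.classInner (fun n : N => (χ : G → ℂ) n) (θ : N → ℂ) ≠ 0) : χ ∈ Cfsg.principalBlock M G ↔ θ ∈ Cfsg.principalBlock M N := by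
  classical
  haveI : Fact (Nat.Prime 2) := ⟨Nat.prime_two⟩
  haveI := hM.2.1
  have hover' : classInner (resFun N χ.1) θ.1 ≠ 0 := hover
  refine ⟨fun h => BlockCount.constituent_mem_principalBlock N hM h hover', fun h => ?_⟩
  obtain ⟨ψ, hψN, hψ⟩ := exists_trivOn_sameBlock hM N h hover'
  have hodd : ¬ 2 ∣ degree ψ := by
    obtain ⟨ξ, hξ⟩ := exists_descend N ψ hψN
    have hd : charDegree ψ.1 = charDegree ξ.1 := by
      unfold charDegree; rw [← hξ 1, QuotientGroup.mk_one]
    intro h2
    rw [← charDegree_eq_degree, hd] at h2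
    haveI := Fintype.ofFinite (G ⧸ N)
    have := h2.trans (BlockCount.charDegree_dvd_card ξ)
    rw [← Subgroup.index_eq_card] at this
    exact (Nat.not_even_iff_odd.2 hidx) (even_iff_two_dvd.2 this)
  have h2M : (2 : AlgInt) ∈ M := by exact_mod_cast hM.2.2
  have hinv : ∀ g : G, centralChar χ.1 g⁻¹ = centralChar χ.1 g → MemLocalIdeal M
      (centralChar ψ.1 g⁻¹ - centralChar ψ.1 g) := fun g hg => by
    have := Blocks.MemLocalIdeal.sub (hψ g) (hψ g⁻¹)
    rw [hg] at this
    simpa using this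
  refine (Blocks.SameBlock.trans (BlockLow.mem_principal_of_sym h2M hodd fun g hg => hinv g ?_)
    (Blocks.SameBlock.symm hψ) :)
  have hgk : (χ : G → ℂ) g⁻¹ = (χ : G → ℂ) g := by
    rw [← hk₂ g (Nat.odd_iff.2 (Nat.two_dvd_ne_zero.1 hg)), hχ]
  have hci : Subgroup.centralizer ({g⁻¹} : Set G) = Subgroup.centralizer ({g} : Set G) := by
    ext z
    simp only [Subgroup.mem_centralizer_singleton_iff]
    exact ⟨fun e => (Commute.inv_right_iff.1 (e : Commute z g⁻¹)).eq,
      fun e => (Commute.inv_right (e : Commute z g)).eq⟩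
  rw [centralChar, centralChar, hgk, hci]

end Cfsg.Agent.S4520
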