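import Cfsg.Statements.S4523
import Cfsg.Agent.Lib.AbelianSylowTwo.OddProduct
import Cfsg.Agent.Lib.Blocks.InvolutionFixed
import Cfsg.Agent.Lib.BlocksX.Basic
import Cfsg.Agent.Lib.Blocks.Kulshammer
import Cfsg.Agent.Lib.CharInt.Galois
import Cfsg.Agent.Lib.BlockCount.Involve
import Cfsg.Agent.S4517
import Cfsg.Agent.S0205

open scoped Cfsg.Agent.Blocks
open scoped ComplexConjugate

set_option autoImplicit false
open Cfsg

namespace Cfsg.Agent.S4523

section Group

variable {G : Type*} [Group G]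

/-- In a simple group that is not commutative some two involutions do not commute. -/
theorem exists_noncommuting_involutions [Finite G] [IsSimpleGroup G]
    (hna : ¬ IsMulCommutative G) (hev : 2 ∣ Nat.card G) :
    ∃ d e : G, d * d = 1 ∧ e * e = 1 ∧ d * e ≠ e * d := by
  by_contra hno
  push Not at hno
  set N := Subgroup.closure {d : G | d * d = 1} with hN
  have hnorm : N.Normal := by
    refine ⟨fun n hn x => ?_⟩
    induction hn using Subgroup.closure_induction with
    | mem d hd =>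
      refine Subgroup.subset_closure ?_
      show x * d * x⁻¹ * (x * d * x⁻¹) = 1
      rw [conj_mul, show d * d = 1 from hd, mul_one, mul_inv_cancel]
    | one => simp
    | mul a b _ _ ha hb => rw [← conj_mul]; exact N.mul_mem ha hb
    | inv a _ ha => rw [← conj_inv]; exact N.inv_mem ha
  rcases hnorm.eq_bot_or_eq_top with h | h
  · haveI : Fact (Nat.Prime 2) := ⟨Nat.prime_two⟩
    obtain ⟨x, hx⟩ := exists_prime_orderOf_dvd_card' 2 hev
    have hxN : x ∈ N := Subgroup.subset_closure (AbelianSylowTwo.mul_self_of_orderOf hx)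
    rw [h, Subgroup.mem_bot] at hxN
    rw [hxN, orderOf_one] at hx
    norm_num at hx
  · refine hna ⟨⟨fun a b => ?_⟩⟩
    have key : ∀ y ∈ N, ∀ z ∈ N, y * z = z * y := by
      intro y hy z hz
      induction hy, hz using Subgroup.closure_induction₂ with
      | mem u v hu hv => exact hno u v hu hv
      | one_left => simp
      | one_right => simp
      | mul_left u v w _ _ _ h1 h2 => exact (Commute.mul_left h1 h2).eq
      | mul_right u v w _ _ _ h1 h2 => exact (Commute.mul_right h1 h2).eq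
      | inv_left u v _ _ h1 => exact (Commute.inv_left h1).eq
      | inv_right u v _ _ h1 => exact (Commute.inv_right h1).eq
    exact key a (h ▸ Subgroup.mem_top a) b (h ▸ Subgroup.mem_top b)

end Group

/-- Let S be a non-abelian finite simple group with commutative Sylow 2-subgroups and M a maximal ideal of the algebraic integers containing 2. Let k be a natural number with g ^ k = g for every 2-element g and g ^ k = g⁻¹ for every element g of odd order. Then S has an irreducible character χ₁ of even degree with χ₁ (g ^ k) = χ₁ g for all g, and its principal 2-block contains a character χ₂ other than the principal character with χ₂ (g ^ k) = χ₂ g for all g. -/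
theorem result {S : Type*} [Group S] [Finite S] [IsSimpleGroup S] (hna : ¬ IsMulCommutative S) (P : Sylow 2 S) (hP : IsMulCommutative P) (M : Ideal Cfsg.AlgInt) (hM : Cfsg.IsPModular 2 M) (k : ℕ) (hk₁ : ∀ g : S, (∃ j : ℕ, orderOf g = 2 ^ j) → g ^ k = g) (hk₂ : ∀ g : S, Odd (orderOf g) → g ^ k = g⁻¹) : (∃ χ₁ : Cfsg.IrrCharacter S, Even (Cfsg.charDegree (χ₁ : S → ℂ)) ∧ ∀ g : S, (χ₁ : S → ℂ) (g ^ k) = (χ₁ : S → ℂ) g) ∧ ∃ χ₂ ∈ Cfsg.principalBlock M S, (χ₂ : S → ℂ) ≠ (fun _ => 1) ∧ ∀ g : S, (χ₂ : S → ℂ) (g ^ k) = (χ₂ : S → ℂ) g := by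
  classical
  letI := Fintype.ofFinite S
  haveI := hM.2.1
  haveI : Fact (Nat.Prime 2) := ⟨Nat.prime_two⟩
  have hpM := hM.2.2
  have h2M : (2 : Cfsg.AlgInt) ∈ M := by exact_mod_cast hM.2.2
  haveI := Blocks.charP_residue (M := M) hpM
  set B0 := Cfsg.principalBlock M S with hB0
  have hB0blk : Cfsg.IsPBlock M B0 := Blocks.isPBlock_principalBlock hpM
  -- even order
  have hev : 2 ∣ Nat.card S := by
    by_contra h
    haveI := Cfsg.Agent.S0205.result (G := S) (Nat.odd_iff.2 (Nat.two_dvd_ne_zero.1 h))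
    exact hna ⟨⟨(IsSimpleGroup.comm_iff_isSolvable (G := S)).2 inferInstance⟩⟩
  have hab : ∀ H : Subgroup S, IsPGroup 2 H → ∀ x ∈ H, ∀ y ∈ H, x * y = y * x := by
    intro H hH x hx y hy
    obtain ⟨Q, hQ⟩ := hH.exists_le_sylow
    let e := Sylow.equiv Q P
    exact congrArg Subtype.val (e.injective (a₁ := ⟨x, hQ hx⟩ * ⟨y, hQ hy⟩)
      (a₂ := ⟨y, hQ hy⟩ * ⟨x, hQ hx⟩) (by rw [map_mul, map_mul]; exact hP.is_comm.comm _ _))
  obtain ⟨g, hg1, hgodd, hgreal, hN⟩ := AbelianSylowTwo.exists_real_odd_decomposition hab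
    (exists_noncommuting_involutions hna hev)
  -- the exponent
  have hkcop : k.Coprime (Nat.card S) := by
    refine Nat.coprime_of_dvd fun q hq hqk hqG => ?_
    haveI := Fact.mk hq
    obtain ⟨x, hx⟩ := exists_prime_orderOf_dvd_card' (G := S) q hqG
    have h1 : x ^ k = 1 := orderOf_dvd_iff_pow_eq_one.1 (hx ▸ hqk)
    have hx1 : x = 1 := by
      rcases hq.eq_two_or_odd' with rfl | hodd
      · exact (hk₁ x ⟨1, by simpa using hx⟩).symm.trans h1
      · exact inv_eq_one.1 ((hk₂ x (hx ▸ hodd)).symm.trans h1)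
    rw [hx1, orderOf_one] at hx
    exact hq.ne_one hx.symm
  have hkk : ∀ x : S, (x ^ k) ^ k = x := by
    intro x
    obtain ⟨b, u, hu, hn⟩ := AbelianSylowTwo.exists_two_pow_mul (orderOf x) (orderOf_pos x).ne'
    set z := (x ^ k) ^ k * x⁻¹ with hz
    have hcom : Commute ((x ^ k) ^ k) x⁻¹ :=
      (((Commute.refl x).pow_left k).pow_left k).inv_right
    have hzn : ∀ n : ℕ, z ^ n = ((x ^ n) ^ k) ^ k * (x ^ n)⁻¹ := fun n => by
      rw [hz, hcom.mul_pow, inv_pow, ← pow_mul, ← pow_mul, ← pow_mul, ← pow_mul]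
      congr 2
      ring
    have h1 : z ^ 2 ^ b = 1 := by
      have ho : Odd (orderOf (x ^ 2 ^ b)) := by
        rw [orderOf_pow' _ (pow_ne_zero _ two_ne_zero), hn, Nat.gcd_eq_right (Dvd.intro _ rfl),
          Nat.mul_div_cancel_left _ (Nat.two_pow_pos b)]
        exact hu
      rw [hzn, hk₂ _ ho, inv_pow, hk₂ _ ho, inv_inv, mul_inv_cancel]
    have h2 : z ^ u = 1 := by
      have ho : orderOf (x ^ u) = 2 ^ b := by
        rw [orderOf_pow' _ hu.pos.ne', hn, Nat.gcd_eq_right (Dvd.intro_left _ rfl),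
          Nat.mul_div_cancel _ hu.pos]
      rw [hzn, hk₁ _ ⟨b, ho⟩, hk₁ _ ⟨b, ho⟩, mul_inv_cancel]
    have h3 : z ^ Nat.gcd (2 ^ b) u = 1 := pow_gcd_eq_one.2 ⟨h1, h2⟩
    rw [Nat.Coprime.gcd_eq_one ((Nat.coprime_two_left.2 hu).pow_left b), pow_one, hz,
      mul_inv_eq_one] at h3
    exact h3
  have hcent : ∀ x : S, Subgroup.centralizer ({x ^ k} : Set S) =
      Subgroup.centralizer ({x} : Set S) := by
    intro x
    ext z
    simp only [Subgroup.mem_centralizer_singleton_iff]
    refine ⟨fun hz => ?_, fun hz => (Commute.pow_right (show Commute z x from hz) k).eq⟩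
    have := Commute.pow_right (show Commute z (x ^ k) from hz) k
    rw [hkk] at this
    exact this.eq
  -- the involution of classes and characters
  let τf : ConjClasses S → ConjClasses S :=
    Quotient.lift (fun x => ConjClasses.mk (x ^ k)) fun a b h => by
      obtain ⟨c, hc⟩ := isConj_iff.1 (show IsConj a b from h)
      exact ConjClasses.mk_eq_mk_iff_isConj.2 (isConj_iff.2 ⟨c, by rw [← hc, conj_pow]⟩)
  have hτmk : ∀ x : S, τf (ConjClasses.mk x) = ConjClasses.mk (x ^ k) := fun _ => rfl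
  have hτinv : Function.Involutive τf := by
    intro C
    obtain ⟨x, rfl⟩ := C.exists_rep
    rw [hτmk, hτmk, hkk]
  let πf : Cfsg.IrrCharacter S → Cfsg.IrrCharacter S := fun χ =>
    ⟨fun x => (χ : S → ℂ) (x ^ k), CharInt.isIrrCharacter_pow χ.2 hkcop⟩
  have hπinv : Function.Involutive πf := fun χ =>
    Subtype.ext (funext fun x => by show (χ : S → ℂ) ((x ^ k) ^ k) = _; rw [hkk])
  have hπblk : ∀ {χ ψ : Cfsg.IrrCharacter S}, Cfsg.SameBlock M χ.1 ψ.1 →
      Cfsg.SameBlock M (πf χ).1 (πf ψ).1 := by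
    intro χ ψ h x
    have h2 := h (x ^ k)
    simp only [Cfsg.centralChar, hcent] at h2
    simp only [Cfsg.centralChar, πf, one_pow]
    exact h2
  have htriv : πf (Char.trivialChar S) = Char.trivialChar S := Subtype.ext rfl
  have hπB0 : ∀ χ, πf χ ∈ B0 ↔ χ ∈ B0 := by
    have h1 : ∀ χ, χ ∈ B0 → πf χ ∈ B0 := fun χ hχ => by
      have := hπblk (χ := Char.trivialChar S) (ψ := χ) hχ
      rw [htriv] at this
      exact this
    exact fun χ => ⟨fun h => hπinv χ ▸ h1 _ h, h1 χ⟩
  have htrivB0 : Char.trivialChar S ∈ B0 := Blocks.mem_blockOf_self (Char.trivialChar S)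
  have hint : ∀ (χ : Cfsg.IrrCharacter S) (z : S), Cfsg.MemLocalRing M ((χ : S → ℂ) z) :=
    fun χ z => Blocks.memLocalRing_of_isIntegral (CharInt.isIntegral_char (Char.irr_isCharacter χ) z)
  constructor
  · -- a fixed character outside the principal block
    set A : Set (Cfsg.IrrCharacter S) := B0ᶜ with hA
    have hAS : Blocks.SCoeff M (Blocks.blockIdem A) :=
      BlocksX.scoeff_blockIdem_of_closed A fun χ hχ ψ hψ hψB => hχ
        (Blocks.SameBlock.trans (show Cfsg.SameBlock M _ ψ.1 from hψB)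
          (Blocks.SameBlock.symm (show Cfsg.SameBlock M χ.1 ψ.1 from hψ)))
    have hπA : ∀ χ, πf χ ∈ A ↔ χ ∈ A := fun χ => not_congr (hπB0 χ)
    have hconj : ∀ (χ : Cfsg.IrrCharacter S) (z : S),
        conj ((χ : S → ℂ) z⁻¹) = (χ : S → ℂ) z := fun χ z => by
      rw [Char.IsCharacter.conj_apply (Char.irr_isCharacter χ), inv_inv]
    have hV : ∀ z : S, ∑ χ ∈ Finset.univ.filter (· ∈ A),
        ((Nat.card S : ℂ)⁻¹ * (χ : S → ℂ) 1) * (χ : S → ℂ) z = Cfsg.blockCoeff A z⁻¹ := by
      intro z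
      rw [Blocks.blockCoeff_eq_sum, Finset.mul_sum]
      exact Finset.sum_congr rfl fun χ _ => by rw [hconj, mul_assoc]
    have hgk : (ConjClasses.mk (g ^ k)) = ConjClasses.mk g := by
      rw [hk₂ g hgodd]
      exact ConjClasses.mk_eq_mk_iff_isConj.2 hgreal.symm
    obtain ⟨χ, hχA, hχ⟩ := Blocks.exists_fixed_irr_of_symmetric_unit h2M hAS
      (Equiv.ofBijective τf hτinv.bijective) hτinv (Equiv.ofBijective πf hπinv.bijective)
      (fun χ C => by
        obtain ⟨x, rfl⟩ := C.exists_rep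
        show Char.classValue (πf χ) (ConjClasses.mk x) = Char.classValue χ (τf (ConjClasses.mk x))
        rw [hτmk, Char.classValue_mk, Char.classValue_mk])
      hπA (fun χ => (Nat.card S : ℂ)⁻¹ * (χ : S → ℂ) 1)
      (fun χ _ => by show (Nat.card S : ℂ)⁻¹ * (χ : S → ℂ) (1 ^ k) = _; rw [one_pow])
      (fun z => by
        convert hAS z⁻¹ using 1
        rw [Blocks.coeff_blockIdem, ← hV]
        congr!)
      g (by show τf (ConjClasses.mk g) = _; rw [hτmk, hgk]) (by
        intro hI
        replace hI : Cfsg.MemLocalIdeal M (Cfsg.blockCoeff A g⁻¹) := by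
          convert hI using 1
          rw [← hV]
          congr!
        have hgreg : Cfsg.IsPRegular 2 g⁻¹ := by
          rw [Cfsg.IsPRegular, orderOf_inv]
          exact Nat.two_dvd_ne_zero.2 (Nat.odd_iff.1 hgodd)
        have hsum : Cfsg.blockCoeff A g⁻¹ + Cfsg.blockCoeff B0 g⁻¹ = 0 := by
          have h0 := Char.sum_irr_mul_conj (1 : S) g⁻¹
          rw [if_neg fun h => hg1 (inv_eq_one.1 (isConj_one_right.1 h)),
            ← Finset.sum_filter_not_add_sum_filter Finset.univ (· ∈ B0)] at h0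
          rw [Blocks.blockCoeff_eq_sum, Blocks.blockCoeff_eq_sum, ← mul_add]
          simp only [hA, Set.mem_compl_iff]
          rw [h0, mul_zero]
        have hc : Cfsg.MemLocalIdeal M (Cfsg.blockCoeff B0 g⁻¹) := by
          rw [eq_neg_of_add_eq_zero_right hsum]
          exact Blocks.MemLocalIdeal.neg hI
        have hK := Blocks.kulshammer (p := 2) hpM hgreg
        set R := Nat.card {y : S // ¬ 2 ∣ orderOf y}
        set N := Nat.card {xy : S × S // (∃ j : ℕ, orderOf xy.1 = 2 ^ j) ∧ ¬ 2 ∣ orderOf xy.2 ∧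
          xy.1 * xy.2 = g⁻¹} with hNdef
        have hR0 : (R : ℂ) ≠ 0 := Nat.cast_ne_zero.2 (by
          haveI : Nonempty {y : S // ¬ 2 ∣ orderOf y} := ⟨⟨1, by simp⟩⟩
          exact Nat.card_pos.ne')
        have hNI : Cfsg.MemLocalIdeal M (N : ℂ) := by
          have h3 := Blocks.MemLocalIdeal.sub hc hK
          rw [sub_sub_cancel] at h3
          have h4 := Blocks.MemLocalIdeal.mul_left (Blocks.memLocalRing_natCast (M := M) R) h3
          rwa [mul_div_cancel₀ _ hR0] at h4
        rw [← Blocks.red_eq_zero_iff (Blocks.memLocalRing_natCast N), Blocks.red_natCast,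
          CharP.cast_eq_zero_iff (Cfsg.AlgInt ⧸ M) 2] at hNI
        have hNN : N = Nat.card {xy : S × S // (∃ j : ℕ, orderOf xy.1 = 2 ^ j) ∧
            ¬ 2 ∣ orderOf xy.2 ∧ xy.1 * xy.2 = g} := by
          obtain ⟨c, hc⟩ := isConj_iff.1 hgreal
          refine (Nat.card_congr (Equiv.subtypeEquiv
            (Equiv.prodCongr (MulAut.conj c).toEquiv (MulAut.conj c).toEquiv) fun xy => ?_)).symm
          simp only [Equiv.prodCongr_apply, Prod.map, MulEquiv.toEquiv_eq_coe, EquivLike.coe_coe,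
            MulEquiv.orderOf_eq, ← map_mul]
          rw [← hc, ← MulAut.conj_apply, (MulAut.conj c).injective.eq_iff]
        rw [← hNN] at hN
        exact Nat.not_odd_iff_even.2 (even_iff_two_dvd.2 hNI) hN)
    change πf χ = χ at hχ
    refine ⟨χ, ?_, fun x => congrFun (congrArg Subtype.val hχ) x⟩
    by_contra hodd
    rw [Nat.not_even_iff_odd] at hodd
    have h0 : (Cfsg.charDegree (χ : S → ℂ)).factorization 2 = 0 :=
      Nat.factorization_eq_zero_of_not_dvd (Nat.two_dvd_ne_zero.2 (Nat.odd_iff.1 hodd))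
    have hB := Cfsg.Agent.S4517.result M hM k hkcop hk₂ (Cfsg.blockOf M χ.1)
      (Blocks.isPBlock_blockOf χ) (by
        unfold Cfsg.blockDefect
        have h1 : sInf ((fun ψ : Cfsg.IrrCharacter S => (Cfsg.charDegree (ψ : S → ℂ)).factorization 2)
            '' Cfsg.blockOf M χ.1) = 0 :=
          Nat.sInf_eq_zero.2 (Or.inl ⟨χ, Blocks.mem_blockOf_self χ, h0⟩)
        rw [h1, Nat.sub_zero])
      (fun ψ hψ => ⟨πf ψ, by
        have := hπblk (χ := χ) (ψ := ψ) hψ
        rw [hχ] at this
        exact this, fun _ => rfl⟩)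
    have h2 := Blocks.mem_blockOf_self (M := M) χ
    rw [hB] at h2
    exact hχA h2
  · -- a fixed character in the principal block
    by_contra hno
    push Not at hno
    obtain ⟨u, hu⟩ := exists_prime_orderOf_dvd_card' 2 hev
    have hu1 : u ^ k = u := hk₁ u ⟨1, by simpa using hu⟩
    have horth := Blocks.weak_orthogonality hpM hB0blk (x := 1) (y := u)
      (by simp [Cfsg.IsPRegular]) (by rw [Blocks.not_isPRegular_iff, hu])
    set t : Cfsg.IrrCharacter S → ℂ := fun χ => (χ : S → ℂ) 1 * conj ((χ : S → ℂ) u) with ht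
    have htint : ∀ χ, Cfsg.MemLocalRing M (t χ) := fun χ => by
      refine Blocks.MemLocalRing.mul (hint χ 1) ?_
      rw [Char.IsCharacter.conj_apply (Char.irr_isCharacter χ)]
      exact hint χ u⁻¹
    have htπ : ∀ χ, t (πf χ) = t χ := fun χ => by
      show (χ : S → ℂ) (1 ^ k) * conj ((χ : S → ℂ) (u ^ k)) = _
      rw [one_pow, hu1]
    have h0 := congrArg (Blocks.red M) horth
    rw [Blocks.red_zero, Blocks.red_sum _ fun χ _ => htint χ,
      ← Finset.add_sum_erase _ _ (Finset.mem_filter.2 ⟨Finset.mem_univ _, htrivB0⟩)] at h0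
    rw [Finset.sum_involution (fun χ _ => πf χ) (fun χ _ => ?_) (fun χ hχ _ he => ?_)
      (fun χ hχ => ?_) (fun χ _ => hπinv χ)] at h0
    · simp only [ht, Char.trivialChar_apply, map_one, mul_one, add_zero, Blocks.red_one,
        one_ne_zero] at h0
    · show Blocks.red M (t χ) + Blocks.red M (t (πf χ)) = 0
      rw [htπ]
      exact CharTwo.add_self_eq_zero _
    · rw [Finset.mem_erase, Finset.mem_filter] at hχ
      obtain ⟨x, hx⟩ := hno χ hχ.2.2 fun h => hχ.1 (Subtype.ext h)
      exact hx (congrFun (congrArg Subtype.val he) x)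
    · rw [Finset.mem_erase, Finset.mem_filter] at hχ ⊢
      refine ⟨fun h => hχ.1 ?_, Finset.mem_univ _, (hπB0 χ).2 hχ.2.2⟩
      rw [← hπinv χ, h, htriv]

end Cfsg.Agent.S4523
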