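import Cfsg.Statements.S4531
import Cfsg.Agent.Lib.DihedralDefect.RankThree.OverCore
import Cfsg.Agent.Lib.DihedralDefect.RankThree.Quotient

set_option autoImplicit false
set_option linter.style.haveILetI false
open Cfsg

namespace Cfsg.Agent.S4531

/-- Let the finite group G have a 2-block B (relative to a maximal ideal M of the algebraic integers containing 2) of 2-regular rank three (three irreducible Brauer characters) whose defect group D is dihedral of order 2 ^ n with n ≥ 3 or semidihedral. Then the centre of G has odd order and G is not solvable. -/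
theorem result {G : Type*} [Group G] [Finite G] (M : Ideal Cfsg.AlgInt) (hM : Cfsg.IsPModular 2 M) (B : Set (Cfsg.IrrCharacter G)) (hB : Cfsg.IsPBlock M B) (D : Subgroup G) (hD : Cfsg.IsDefectGroup 2 M B D) (hD' : (∃ n : ℕ, 3 ≤ n ∧ Nonempty (D ≃* DihedralGroup (2 ^ (n - 1)))) ∨ Cfsg.IsQuasiDihedral D) (hl : Cfsg.blockRank 2 B = 3) : Odd (Nat.card (Subgroup.center G)) ∧ ¬ Group.IsSolvable G := by
  haveI := hM.2.1
  haveI : Fintype G := Fintype.ofFinite G
  haveI : Fact (Nat.Prime 2) := ⟨Nat.prime_two⟩
  refine ⟨?_, fun hsol => ?_⟩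
  · rw [← Nat.not_even_iff_odd]
    intro heven
    obtain ⟨⟨c, hc⟩, hord⟩ := exists_prime_orderOf_dvd_card' (G := Subgroup.center G) 2 heven.two_dvd
    rw [Subgroup.orderOf_mk] at hord
    have hc1 : c ≠ 1 := fun e => by rw [e, orderOf_one] at hord; omega
    haveI : (Subgroup.zpowers c).Normal := ⟨fun n hn g => by
      rwa [Subgroup.mem_center_iff.1 ((Subgroup.zpowers_le.2 hc) hn) g, mul_inv_cancel_right]⟩
    have hcD : c ∈ D := Blocks.normal_le_defectGroup hM.2.2 hB
      (IsPGroup.of_card (n := 1) (by rw [Nat.card_zpowers, hord, pow_one])) hD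
      (Subgroup.mem_zpowers c)
    have hcomm : ∀ v : G, c * v = v * c := fun v => (Subgroup.mem_center_iff.1 hc v).symm
    have hcc : c * c = 1 := by rw [← pow_two, ← hord, pow_orderOf_eq_one]
    rcases hD' with ⟨n, hn, hiso⟩ | hqd
    · obtain ⟨σ, τ, hσ⟩ := DihedralDefect.exists_diData hn hiso
      have hcK : c ∈ Subgroup.zpowers σ := by
        by_contra h
        have h1 := hσ.conj_rot hcD h (Subgroup.mem_zpowers σ)
        rw [hcomm σ, mul_inv_cancel_right, eq_inv_iff_mul_eq_one, ← pow_two] at h1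
        have h2 := Nat.le_of_dvd (by norm_num) (orderOf_dvd_of_pow_eq_one h1)
        rw [hσ.order] at h2
        have := hσ.two_le
        omega
      rcases hσ.rot_sq hcK hcc with h | h
      · exact hc1 h
      have := DihedralDefect.blockRank_eq_one_of_dihedral hM hB hD hσ (h ▸ hc)
      omega
    · obtain ⟨x, y, m, hqd⟩ := TwoGroups.exists_qdGen hqd
      have hcen : (⟨c, hcD⟩ : D) ∈ Subgroup.center D :=
        Subgroup.mem_center_iff.2 fun v => Subtype.ext (hcomm v).symm
      rw [hqd.center_eq] at hcen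
      obtain ⟨j, hj⟩ := Subgroup.mem_zpowers_iff.1 hcen
      have hj' := congrArg Subtype.val hj
      simp only [Subgroup.coe_zpow] at hj'
      have hsq : ((x : G) ^ ((4 : ℤ) * 2 ^ m)) ^ (2 : ℤ) = 1 := by
        rw [← zpow_mul, ← Subgroup.coe_zpow, ← OneMemClass.coe_one D, Subtype.coe_inj,
          hqd.zpow_eq_one_iff]
        exact ⟨1, by ring⟩
      rcases Int.even_or_odd j with ⟨d, rfl⟩ | ⟨d, rfl⟩
      · rw [← two_mul, zpow_mul, hsq, one_zpow] at hj'
        exact hc1 hj'.symm
      rw [zpow_add, zpow_mul, hsq, one_zpow, one_mul, zpow_one] at hj'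
      have := DihedralDefect.blockRank_le_two_of_quasiDihedral hM hB hD hqd (hj' ▸ hc)
      omega
  · have hcyc : DihedralDefect.CyclicTwo D := by
      rcases hD' with ⟨n, hn, ⟨φ⟩⟩ | hqd
      · refine (DihedralDefect.cyclicTwo_dihedral ?_).congr φ.symm
        calc 3 ≤ 2 ^ 2 := by norm_num
          _ ≤ _ := Nat.pow_le_pow_right (by norm_num) (by omega)
      · exact DihedralDefect.cyclicTwo_quasiDihedral hqd
    have := DihedralDefect.blockRank_le_two_of_solvable hM hsol B hB D hD hcyc
    omega

end Cfsg.Agent.S4531
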