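import Cfsg.Statements.S4538
import Cfsg.Agent.Lib.DefChar.Count

set_option autoImplicit false
open Cfsg

namespace Cfsg.Agent.S4538

/-- Let F be a finite field of characteristic p and n ≥ 2. Relative to a maximal ideal M of the algebraic integers containing p, the group SL(n, F) has exactly one p-block of defect zero, and every other p-block has full defect (its defect equals the exponent of p in the order of the group, so its defect groups are Sylow p-subgroups). -/
theorem result {F : Type*} [Field F] [Fintype F] (n : ℕ) (hn : 2 ≤ n) (p : ℕ) [Fact p.Prime] [CharP F p] (M : Ideal Cfsg.AlgInt) (hM : Cfsg.IsPModular p M) : Nat.card {B : Set (Cfsg.IrrCharacter (Matrix.SpecialLinearGroup (Fin n) F)) // Cfsg.IsPBlock M B ∧ Cfsg.blockDefect p B = 0} = 1 ∧ ∀ B : Set (Cfsg.IrrCharacter (Matrix.SpecialLinearGroup (Fin n) F)), Cfsg.IsPBlock M B → Cfsg.blockDefect p B = 0 ∨ Cfsg.blockDefect p B = (Nat.card (Matrix.SpecialLinearGroup (Fin n) F)).factorization p := by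
  haveI := hM.2.1
  obtain ⟨St, -, -, hblock, h0, huniq⟩ := Cfsg.Agent.DefChar.exists_unique_defect_zero (F := F) (n := n)
    (by omega) hM.2.2
  refine ⟨?_, fun B hB => Cfsg.Agent.DefChar.defect_cases hM.2.2 hB⟩
  rw [Nat.card_eq_one_iff_unique]
  exact ⟨⟨fun a b => Subtype.ext ((huniq a.1 a.2.1 a.2.2).trans (huniq b.1 b.2.1 b.2.2).symm)⟩,
    ⟨⟨{St}, hblock, h0⟩⟩⟩

end Cfsg.Agent.S4538
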