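import Cfsg.Statements.S4539
import Cfsg.Agent.Lib.Blocks.ContributionInt
import Cfsg.Agent.Lib.BlockCount.PRegularSum

set_option autoImplicit false
set_option linter.style.haveILetI false
set_option linter.unusedSectionVars false
open Cfsg

namespace Cfsg.Agent.S4539

open scoped Classical ComplexConjugate
open Agent
open Cfsg.Agent.BrauerPairs (regDot regDot_comm regDot_eq_zero)

universe u

/-- A vanishing combination of roots of unity keeps vanishing under a twist. -/
theorem twist_sum_eq_zero {N : ℕ} [NeZero N] {ι : Type u} [Fintype ι] (c : ι → ℤ) (μ : ι → ℂ)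
    (hμ : ∀ i, μ i ^ N = 1) (h : ∑ i, (c i : ℂ) * μ i = 0) {t : ℕ} (ht : t.Coprime N) :
    ∑ i, (c i : ℂ) * μ i ^ t = 0 := by
  refine CharInt.sum_eq_zero_of_twist_eq_zero c (fun i => μ i ^ t)
    (fun i => by rw [← pow_mul, mul_comm, pow_mul, hμ, one_pow])
    (j := t ^ (Nat.totient N - 1)) (Nat.Coprime.pow_left _ ht) ?_
  rw [← h]
  refine Finset.sum_congr rfl fun i _ => ?_
  rw [← pow_mul, ← pow_succ', Nat.sub_add_cancel (Nat.totient_pos.2 (NeZero.pos N)),
    pow_eq_pow_mod _ (hμ i), show t ^ Nat.totient N % N = 1 % N from Nat.ModEq.pow_totient ht,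
    ← pow_eq_pow_mod _ (hμ i), pow_one]

/-! ### Integral quadratic forms not representing one -/

variable {T : Type u} [Fintype T]

/-- The bilinear form of an integral matrix. -/
def bil (c : T → T → ℤ) (f g : T → ℤ) : ℤ := ∑ a, ∑ a', f a * g a' * c a a'

theorem bil_comm {c : T → T → ℤ} (hc : ∀ a a', c a a' = c a' a) (f g : T → ℤ) :
    bil c f g = bil c g f := by
  unfold bil
  rw [Finset.sum_comm]
  exact Finset.sum_congr rfl fun a _ => Finset.sum_congr rfl fun a' _ => by rw [hc]; ring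

theorem bil_add_left (c : T → T → ℤ) (f g h : T → ℤ) :
    bil c (f + g) h = bil c f h + bil c g h := by
  simp only [bil, Pi.add_apply, add_mul, Finset.sum_add_distrib]

theorem bil_sub_left (c : T → T → ℤ) (f g h : T → ℤ) :
    bil c (f - g) h = bil c f h - bil c g h := by
  simp only [bil, Pi.sub_apply, sub_mul, Finset.sum_sub_distrib]

theorem bil_sub_sub {c : T → T → ℤ} (hc : ∀ a a', c a a' = c a' a) (f g : T → ℤ) :
    bil c (f - g) (f - g) = bil c f f + bil c g g - 2 * bil c f g := by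
  rw [bil_sub_left, bil_comm hc f, bil_comm hc g, bil_sub_left, bil_sub_left, bil_comm hc g f]
  ring

theorem bil_parallelogram {c : T → T → ℤ} (hc : ∀ a a', c a a' = c a' a) (u v : T → ℤ) :
    bil c (u + v) (u + v) + bil c (u - v) (u - v) = 2 * bil c u u + 2 * bil c v v := by
  rw [bil_sub_sub hc, bil_add_left, bil_comm hc u, bil_comm hc v, bil_add_left, bil_add_left,
    bil_comm hc v u]
  ring

/-- Either all differences are null, or the sum of their values is at least `4 (p - 1)`. -/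
theorem pair_bound {c : T → T → ℤ} (hc : ∀ a a', c a a' = c a' a)
    (hpos : ∀ f, 0 ≤ bil c f f) (h1 : ∀ f, bil c f f ≠ 1) {ι : Type*} [Fintype ι] (g : ι → T → ℤ)
    {A B : ι} (hAB : bil c (g A - g B) (g A - g B) ≠ 0) :
    4 * ((Fintype.card ι : ℤ) - 1) ≤ ∑ i, ∑ j, bil c (g i - g j) (g i - g j) := by
  set F : ι → ι → ℤ := fun i j => bil c (g i - g j) (g i - g j) with hF
  have hsymm : ∀ i j, F i j = F j i := fun i j => by
    simp only [hF]
    rw [bil_sub_sub hc, bil_sub_sub hc, bil_comm hc (g i) (g j)]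
    ring
  have hne : A ≠ B := fun e => hAB (by rw [e, sub_self]; simp [bil])
  have hAB2 : 2 ≤ F A B := by
    have := hpos (g A - g B)
    have := h1 (g A - g B)
    simp only [hF]
    omega
  have htri : ∀ l, 2 ≤ F A l + F B l := fun l => by
    have h2 : ∀ v, bil c v v = 0 ∨ 2 ≤ bil c v v := fun v => by
      have := hpos v; have := h1 v; omega
    have p1 := hpos (g A - g l + (g B - g l))
    have e : bil c (g A - g l + (g B - g l)) (g A - g l + (g B - g l)) + F A B =
        2 * F A l + 2 * F B l := by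
      simp only [hF]
      rw [show g A - g B = g A - g l - (g B - g l) by abel]
      exact bil_parallelogram hc _ _
    rcases h2 (g A - g l) with h | h <;> rcases h2 (g B - g l) with h' | h' <;>
      simp only [hF] at e hAB2 ⊢ <;> omega
  have hFpos : ∀ i j, 0 ≤ F i j := fun i j => hpos _
  show 4 * ((Fintype.card ι : ℤ) - 1) ≤ ∑ i, ∑ j, F i j
  rw [← Finset.sum_add_sum_compl ({A, B} : Finset ι)]
  have hrow : 2 * (Fintype.card ι : ℤ) ≤ ∑ i ∈ ({A, B} : Finset ι), ∑ j, F i j := by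
    rw [Finset.sum_pair hne, ← Finset.sum_add_distrib]
    have := Finset.sum_le_sum (s := Finset.univ) fun l _ => htri l
    rw [Finset.sum_const, Finset.card_univ, nsmul_eq_mul] at this
    linarith
  have hrest : 2 * ((Fintype.card ι : ℤ) - 2) ≤ ∑ i ∈ ({A, B} : Finset ι)ᶜ, ∑ j, F i j := by
    have : ∀ i ∈ ({A, B} : Finset ι)ᶜ, (2 : ℤ) ≤ ∑ j, F i j := fun i _ => by
      refine le_trans (htri i) ?_
      rw [hsymm A, hsymm B, ← Finset.sum_pair hne (f := F i)]
      exact Finset.sum_le_sum_of_subset_of_nonneg (Finset.subset_univ _) fun j _ _ => hFpos i j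
    have h := Finset.sum_le_sum this
    rw [Finset.sum_const, Finset.card_compl, Finset.card_pair hne, nsmul_eq_mul,
      Nat.cast_sub (by rw [← Finset.card_pair hne]; exact Finset.card_le_univ _)] at h
    push_cast at h
    linarith
  linarith

theorem sum_range_pow {N : ℕ} {r : ℂ} (hr : r ^ N = 1) :
    ∑ t ∈ Finset.range N, r ^ t = if r = 1 then (N : ℂ) else 0 := by
  split_ifs with h
  · simp [h]
  · rw [geom_sum_eq h, hr, sub_self, zero_div]

variable {p : ℕ} [hp : Fact p.Prime]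

theorem sum_coprime_range (N' : ℕ) (F : ℕ → ℂ) :
    ∑ t ∈ (Finset.range (N' * p)).filter (fun t => ¬ p ∣ t), F t =
      ∑ t ∈ Finset.range (N' * p), F t - ∑ t ∈ Finset.range N', F (p * t) := by
  rw [← Finset.sum_filter_add_sum_filter_not (Finset.range (N' * p)) (fun t => p ∣ t),
    show (Finset.range (N' * p)).filter (fun t => p ∣ t) = (Finset.range N').image (p * ·) by
      ext t
      simp only [Finset.mem_filter, Finset.mem_range, Finset.mem_image]
      constructor
      · rintro ⟨ht, j, rfl⟩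
        exact ⟨j, (Nat.mul_lt_mul_left hp.out.pos).1 (by rw [mul_comm p N']; exact ht), rfl⟩
      · rintro ⟨j, hj, rfl⟩
        exact ⟨by rw [mul_comm N' p]; exact (Nat.mul_lt_mul_left hp.out.pos).2 hj, dvd_mul_right _ _⟩,
    Finset.sum_image (fun a _ b _ h => mul_left_cancel₀ hp.out.ne_zero h)]
  ring

/-- Twice the sum over the twists prime to `p` is the sum over pairs in one fibre. -/
theorem two_mul_sum_twists {k : ℕ} {c : T → T → ℤ} (hc : ∀ a a', c a a' = c a' a) (m : T → ℤ)
    (s : T → ℂ) (hs : ∀ a, s a ^ (p ^ k * p) = 1) :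
    ∃ g : Fin (p ^ k) → Fin p → T → ℤ,
      2 * ∑ t ∈ (Finset.range (p ^ k * p)).filter (fun t => ¬ p ∣ t),
        ∑ a, ∑ a', ((m a * m a' * c a a' : ℤ) : ℂ) * (s a ^ t * conj (s a' ^ t)) =
      ((p ^ k : ℕ) : ℂ) *
        ((∑ w, ∑ i, ∑ j, bil c (g w i - g w j) (g w i - g w j) : ℤ) : ℂ) := by
  set N' := p ^ k
  set N := N' * p with hN
  have hN'0 : N' ≠ 0 := pow_ne_zero _ hp.out.ne_zero
  haveI : NeZero N' := ⟨hN'0⟩
  haveI : NeZero N := ⟨mul_ne_zero hN'0 hp.out.ne_zero⟩
  obtain ⟨ζ, hζ⟩ : ∃ ζ : ℂ, IsPrimitiveRoot ζ N := ⟨_, Complex.isPrimitiveRoot_exp N (NeZero.ne N)⟩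
  choose n hn hns using fun a => hζ.eq_pow_of_pow_eq_one (hs a)
  let w : T → Fin N' := fun a => ⟨n a % N', Nat.mod_lt _ (NeZero.pos N')⟩
  let j : T → Fin p := fun a => ⟨n a / N', Nat.div_lt_of_lt_mul (hn a)⟩
  have hexp : ∀ a a', (n a = n a' ↔ w a = w a' ∧ j a = j a') := fun a a' => by
    simp only [w, j, Fin.mk.injEq]
    refine ⟨fun e => by rw [e]; exact ⟨rfl, rfl⟩, fun ⟨e1, e2⟩ => ?_⟩
    rw [← Nat.div_add_mod (n a) N', ← Nat.div_add_mod (n a') N', e1, e2]
  have hconj : ∀ a a', s a * conj (s a') = 1 ↔ n a = n a' := fun a a' => by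
    have h1 : s a' * conj (s a') = 1 := by
      rw [Complex.mul_conj', Complex.norm_eq_one_of_pow_eq_one (hs a') (NeZero.ne N)]
      norm_num
    refine ⟨fun e => hζ.pow_inj (hn a) (hn a') ?_, fun e => ?_⟩
    · rw [hns, hns]
      exact mul_right_cancel₀ (b := conj (s a')) (fun h0 => by simp [h0] at h1) (e.trans h1.symm)
    · rw [← hns a, e, hns a', h1]
  have hpow : ∀ a a', (s a * conj (s a')) ^ p = 1 ↔ w a = w a' := fun a a' => by
    have hζp : IsPrimitiveRoot (ζ ^ p) N' := hζ.pow (NeZero.pos N) (by rw [hN, mul_comm])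
    have h1 : s a' ^ p * conj (s a' ^ p) = 1 := by
      rw [Complex.mul_conj', norm_pow,
        Complex.norm_eq_one_of_pow_eq_one (hs a') (NeZero.ne N)]
      norm_num
    have hval : ∀ a, s a ^ p = (ζ ^ p) ^ (w a : ℕ) := fun a => by
      show s a ^ p = (ζ ^ p) ^ (n a % N')
      rw [← hns, ← pow_eq_pow_mod _ hζp.pow_eq_one, ← pow_mul, ← pow_mul, mul_comm]
    rw [mul_pow, ← map_pow]
    refine ⟨fun e => Fin.ext (hζp.pow_inj (w a).2 (w a').2 ?_), fun e => ?_⟩
    · rw [← hval, ← hval]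
      exact mul_right_cancel₀ (b := conj (s a' ^ p)) (fun h0 => by simp [h0] at h1)
        (e.trans h1.symm)
    · rw [hval a, e, ← hval a', h1]
  let g : Fin N' → Fin p → T → ℤ := fun v i a => if w a = v ∧ j a = i then m a else 0
  refine ⟨g, ?_⟩
  have hbil : ∀ v i v' i', bil c (g v i) (g v' i') =
      ∑ a, ∑ a', if (w a = v ∧ j a = i) ∧ (w a' = v' ∧ j a' = i') then m a * m a' * c a a' else 0 :=
    fun v i v' i' => by
      refine Finset.sum_congr rfl fun a _ => Finset.sum_congr rfl fun a' _ => ?_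
      simp only [g]
      by_cases h : w a = v ∧ j a = i <;> by_cases h' : w a' = v' ∧ j a' = i' <;> simp [h, h']
  have hQ : ∑ v, ∑ i, bil c (g v i) (g v i) =
      ∑ a, ∑ a', if n a = n a' then m a * m a' * c a a' else 0 := by
    simp only [hbil, ← Fintype.sum_prod_type (f := fun q : Fin N' × Fin p =>
      ∑ a, ∑ a', if (w a = q.1 ∧ j a = q.2) ∧ (w a' = q.1 ∧ j a' = q.2) then m a * m a' * c a a'
        else 0)]
    rw [Finset.sum_comm]
    refine Finset.sum_congr rfl fun a _ => ?_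
    rw [Finset.sum_comm]
    refine Finset.sum_congr rfl fun a' _ => ?_
    rw [Finset.sum_eq_single (w a, j a) (fun q _ hq => if_neg fun h => hq
      (Prod.ext h.1.1.symm h.1.2.symm)) (fun h => absurd (Finset.mem_univ _) h)]
    exact if_congr ⟨fun h => (hexp a a').2 ⟨h.2.1.symm, h.2.2.symm⟩,
      fun h => ⟨⟨rfl, rfl⟩, ((hexp a a').1 h).1.symm, ((hexp a a').1 h).2.symm⟩⟩ rfl rfl
  have hX : ∑ v, ∑ i, ∑ i', bil c (g v i) (g v i') =
      ∑ a, ∑ a', if w a = w a' then m a * m a' * c a a' else 0 := by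
    rw [Finset.sum_congr rfl fun v _ => (Finset.sum_congr rfl fun i _ => Finset.sum_congr rfl
        fun i' _ => hbil v i v i').trans (Fintype.sum_prod_type (f := fun q : Fin p × Fin p =>
        ∑ a, ∑ a', if (w a = v ∧ j a = q.1) ∧ (w a' = v ∧ j a' = q.2) then m a * m a' * c a a'
          else 0)).symm,
      ← Fintype.sum_prod_type (f := fun q : Fin N' × Fin p × Fin p =>
      ∑ a, ∑ a', if (w a = q.1 ∧ j a = q.2.1) ∧ (w a' = q.1 ∧ j a' = q.2.2) then m a * m a' * c a a'
        else 0)]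
    rw [Finset.sum_comm]
    refine Finset.sum_congr rfl fun a _ => ?_
    rw [Finset.sum_comm]
    refine Finset.sum_congr rfl fun a' _ => ?_
    rw [Finset.sum_eq_single (w a, j a, j a') (fun q _ hq => if_neg fun h => hq
      (Prod.ext h.1.1.symm (Prod.ext h.1.2.symm h.2.2.symm))) (fun h => absurd (Finset.mem_univ _) h)]
    exact if_congr ⟨fun h => h.2.1.symm, fun h => ⟨⟨rfl, rfl⟩, h.symm, rfl⟩⟩ rfl rfl
  have hdiff : ∑ v, ∑ i, ∑ i', bil c (g v i - g v i') (g v i - g v i') =
      2 * ((p : ℤ) * ∑ v, ∑ i, bil c (g v i) (g v i) - ∑ v, ∑ i, ∑ i', bil c (g v i) (g v i')) := by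
    simp only [bil_sub_sub hc, Finset.sum_sub_distrib, Finset.sum_add_distrib, Finset.sum_const,
      Finset.card_univ, Fintype.card_fin, nsmul_eq_mul, ← Finset.mul_sum]
    ring
  have hswap : ∀ (A : Finset ℕ) (F : ℕ → T → T → ℂ),
      ∑ t ∈ A, ∑ a, ∑ a', F t a a' = ∑ a, ∑ a', ∑ t ∈ A, F t a a' := fun A F => by
    rw [Finset.sum_comm]
    exact Finset.sum_congr rfl fun a _ => Finset.sum_comm
  rw [sum_coprime_range, hdiff, hQ, hX, hswap, hswap]
  simp only [← Finset.mul_sum, Int.cast_mul, Int.cast_sub, Int.cast_sum, Int.cast_ofNat,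
    Int.cast_natCast]
  have e1 : ∀ a a', ∑ t ∈ Finset.range (N' * p), s a ^ t * conj (s a' ^ t) =
      if n a = n a' then ((N' * p : ℕ) : ℂ) else 0 := fun a a' => by
    rw [Finset.sum_congr rfl fun t _ => show s a ^ t * conj (s a' ^ t) = (s a * conj (s a')) ^ t by
      rw [map_pow, mul_pow], sum_range_pow (by rw [mul_pow, ← map_pow, hs, hs, map_one, mul_one])]
    exact if_congr (hconj a a') rfl rfl
  have e2 : ∀ a a', ∑ t ∈ Finset.range N', s a ^ (p * t) * conj (s a' ^ (p * t)) =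
      if w a = w a' then (N' : ℂ) else 0 := fun a a' => by
    rw [Finset.sum_congr rfl fun t _ => show s a ^ (p * t) * conj (s a' ^ (p * t)) =
        ((s a * conj (s a')) ^ p) ^ t by rw [map_pow, ← pow_mul, mul_pow],
      sum_range_pow (by rw [← pow_mul, mul_comm p, mul_pow, ← map_pow, hs, hs, map_one, mul_one])]
    exact if_congr (hpow a a') rfl rfl
  simp only [e1, e2, Nat.cast_mul]
  simp only [Finset.mul_sum, ← Finset.sum_sub_distrib, apply_ite (Int.cast : ℤ → ℂ), Int.cast_mul,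
    Int.cast_zero]
  refine Finset.sum_congr rfl fun a _ => Finset.sum_congr rfl fun a' _ => ?_
  split_ifs <;> ring

/-! ### Major subsections -/

variable {G : Type u} [Group G] [Fintype G] {M : Ideal AlgInt} [M.IsMaximal] {x : G}
  [Fintype (Subgroup.centralizer ({x} : Set G))] {B : Set (IrrCharacter G)}
  {b : Set (IrrCharacter (Subgroup.centralizer ({x} : Set G)))}

theorem card_centralizer_mul {k : ℕ} (hx : orderOf x = p ^ k)
    {s : Subgroup.centralizer ({x} : Set G)} (hs : IsPRegular p s) :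
    Nat.card (Subgroup.centralizer ({x * (s : G)} : Set G)) =
      Nat.card (Subgroup.centralizer ({s} : Set (Subgroup.centralizer ({x} : Set G)))) := by
  have hxs : IsPPart p (x * (s : G)) x := Blocks.isPPart_mul
    (Subgroup.mem_centralizer_singleton_iff.1 s.2).symm ⟨k, hx⟩
    (by show ¬ p ∣ orderOf (s : G); rw [Subgroup.orderOf_coe]; exact hs)
  obtain ⟨i, hi⟩ := Blocks.IsPPart.mem_zpowers hxs
  refine Nat.card_congr
    { toFun := fun g => ⟨⟨g, Subgroup.mem_centralizer_singleton_iff.2 ?_⟩,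
        Subgroup.mem_centralizer_singleton_iff.2 (Subtype.ext ?_)⟩
      invFun := fun g => ⟨(g.1 : G), Subgroup.mem_centralizer_singleton_iff.2 ?_⟩
      left_inv := fun g => rfl
      right_inv := fun g => rfl }
  · have h : Commute (g : G) ((x * (s : G)) ^ i) :=
      Commute.zpow_right (Subgroup.mem_centralizer_singleton_iff.1 g.2) i
    rw [show (x * (s : G)) ^ i = x from hi] at h
    exact h.eq
  · have h : Commute (g : G) ((x * (s : G)) ^ i) :=
      Commute.zpow_right (Subgroup.mem_centralizer_singleton_iff.1 g.2) i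
    rw [show (x * (s : G)) ^ i = x from hi] at h
    refine mul_left_cancel (a := x) ?_
    show x * ((g : G) * s) = x * (s * g)
    rw [← mul_assoc, ← h.eq, mul_assoc, Subgroup.mem_centralizer_singleton_iff.1 g.2, mul_assoc]
  · rw [← mul_assoc, Subgroup.mem_centralizer_singleton_iff.1 g.1.2, mul_assoc,
      show (g.1 : G) * s = s * (g.1 : G) from congrArg Subtype.val
        (Subgroup.mem_centralizer_singleton_iff.1 g.2), mul_assoc]

/-- A unit at one height zero character is nonzero at every character of the block. -/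
theorem ne_zero_of_unit (hpM : (p : AlgInt) ∈ M) {k : ℕ} (hx : orderOf x = p ^ k) (hB : IsPBlock M B)
    {χ₀ χ : IrrCharacter G} (h₀ : χ₀ ∈ B) (hh₀ : blockHeight p B χ₀.1 = 0) (hχ : χ ∈ B)
    (F : Subgroup.centralizer ({x} : Set G) → ℂ) (hFc : ∀ s a, F (a * s * a⁻¹) = F s)
    (hFr : ∀ s, MemLocalRing M (F s)) (Y : IrrCharacter G → ℂ)
    (hY : ∀ ψ : IrrCharacter G, Y ψ =
      ((p ^ blockDefect p B : ℕ) : ℂ) * (Nat.card (Subgroup.centralizer ({x} : Set G)) : ℂ)⁻¹ *
        ∑ s ∈ Finset.univ.filter (fun s : Subgroup.centralizer ({x} : Set G) => IsPRegular p s),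
          ψ.1 (x * (s : G)) * F s)
    (hu : ¬ MemLocalIdeal M (Y χ₀)) : Y χ ≠ 0 := by
  set R := Finset.univ.filter (fun s : Subgroup.centralizer ({x} : Set G) => IsPRegular p s) with hR
  let W : IrrCharacter G → ℂ := fun ψ => ∑ L ∈ R.image ConjClasses.mk,
    centralChar ψ.1 (x * ((Quotient.out L : Subgroup.centralizer ({x} : Set G)) : G)) *
      F (Quotient.out L)
  have hGne : (Nat.card G : ℂ) ≠ 0 := Nat.cast_ne_zero.2 Nat.card_pos.ne'
  have hkey : ∀ ψ : IrrCharacter G, Y ψ =
      (((p ^ blockDefect p B * Char.degree ψ : ℕ) : ℂ) / ((Nat.card G : ℕ) : ℂ)) * W ψ := fun ψ => by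
    rw [hY, ← Finset.sum_fiberwise_of_maps_to (g := ConjClasses.mk) (t := R.image ConjClasses.mk)
      (fun a ha => Finset.mem_image_of_mem _ ha), Finset.mul_sum, Finset.mul_sum]
    refine Finset.sum_congr rfl fun L hL => ?_
    obtain ⟨a, ha, rfl⟩ := Finset.mem_image.1 hL
    set o := (Quotient.out (ConjClasses.mk a) : Subgroup.centralizer ({x} : Set G)) with hodef
    have ho : ConjClasses.mk o = ConjClasses.mk a := Quotient.out_eq _
    have hconst : ∀ s ∈ R.filter (fun s => ConjClasses.mk s = ConjClasses.mk a),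
        ψ.1 (x * (s : G)) * F s = ψ.1 (x * (o : G)) * F o := fun s hs => by
      obtain ⟨c, hc⟩ := isConj_iff.1 (ConjClasses.mk_eq_mk_iff_isConj.1
        ((Finset.mem_filter.1 hs).2.trans ho.symm))
      rw [← hc, hFc]
      have hcx := Subgroup.mem_centralizer_singleton_iff.1 c.2
      rw [← Char.IsCharacter.isClassFunction (Char.irr_isCharacter ψ) (x * (s : G)) (c : G)]
      congr 1
      refine congrArg ψ.1 ?_
      show (c : G) * (x * (s : G)) * (c : G)⁻¹ = x * ((c : G) * s * (c : G)⁻¹)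
      rw [← mul_assoc, hcx]
      group
    have hor : IsPRegular p o := by
      obtain ⟨c, hc⟩ := isConj_iff.1 (ConjClasses.mk_eq_mk_iff_isConj.1 ho.symm)
      rw [← hc, IsPRegular, show c * a * c⁻¹ = MulAut.conj c a from rfl, MulEquiv.orderOf_eq]
      exact (Finset.mem_filter.1 ha).2
    have hcard : (R.filter (fun s => ConjClasses.mk s = ConjClasses.mk a)).card =
        (Subgroup.centralizer ({o} : Set (Subgroup.centralizer ({x} : Set G)))).index := by
      rw [BlockCount.card_carrier_eq_index, Nat.card_eq_fintype_card, ← Set.toFinset_card, ho]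
      congr 1
      ext s
      rw [Finset.mem_filter, Set.mem_toFinset, ConjClasses.mem_carrier_iff_mk_eq]
      refine ⟨fun h => h.2, fun h => ⟨?_, h⟩⟩
      obtain ⟨c, hc⟩ := isConj_iff.1 (ConjClasses.mk_eq_mk_iff_isConj.1 h.symm)
      refine Finset.mem_filter.2 ⟨Finset.mem_univ _, ?_⟩
      rw [← hc, IsPRegular, show c * a * c⁻¹ = MulAut.conj c a from rfl, MulEquiv.orderOf_eq]
      exact (Finset.mem_filter.1 ha).2
    rw [Finset.sum_congr rfl hconst, Finset.sum_const, nsmul_eq_mul, hcard, centralChar,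
      Char.apply_one_eq_degree]
    have h1 := Subgroup.card_mul_index
      (Subgroup.centralizer ({o} : Set (Subgroup.centralizer ({x} : Set G))))
    have h2 := Subgroup.card_mul_index (Subgroup.centralizer ({x * (o : G)} : Set G))
    rw [card_centralizer_mul hx hor] at h2
    have h1' := congrArg (Nat.cast : ℕ → ℂ) h1
    have h2' := congrArg (Nat.cast : ℕ → ℂ) h2
    push_cast at h1' h2' ⊢
    rw [← h1', ← h2']
    have hd : (Char.degree ψ : ℂ) ≠ 0 := Nat.cast_ne_zero.2 (Char.degree_pos ψ).ne'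
    have hc0 : (Nat.card (Subgroup.centralizer ({o} : Set (Subgroup.centralizer ({x} : Set G)))) : ℂ)
        ≠ 0 := Nat.cast_ne_zero.2 Nat.card_pos.ne'
    have hi0 : ((Subgroup.centralizer ({o} : Set (Subgroup.centralizer ({x} : Set G)))).index : ℂ)
        ≠ 0 := Nat.cast_ne_zero.2 Subgroup.index_ne_zero_of_finite
    have hi1 : ((Subgroup.centralizer ({x * (o : G)} : Set G)).index : ℂ) ≠ 0 :=
      Nat.cast_ne_zero.2 Subgroup.index_ne_zero_of_finite
    field_simp
  intro h
  rw [hkey, mul_eq_zero] at h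
  have hd0 : ((p ^ blockDefect p B * Char.degree χ : ℕ) : ℂ) / ((Nat.card G : ℕ) : ℂ) ≠ 0 :=
    div_ne_zero (Nat.cast_ne_zero.2
      (mul_ne_zero (pow_ne_zero _ hp.out.ne_zero) (Char.degree_pos χ).ne')) hGne
  have hW : W χ = 0 := h.resolve_left hd0
  refine hu ?_
  rw [hkey]
  refine Blocks.MemLocalIdeal.mul_left (Blocks.memLocalRing_natCast_div hpM
    (mul_ne_zero (pow_ne_zero _ hp.out.ne_zero) (Char.degree_pos χ₀).ne') Nat.card_pos.ne' ?_) ?_
  · rw [Nat.factorization_mul (pow_ne_zero _ hp.out.ne_zero) (Char.degree_pos χ₀).ne',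
      Finsupp.add_apply, hp.out.factorization_pow, Finsupp.single_eq_same,
      Char.factorization_degree_of_height_zero h₀ hh₀, blockDefect]
    omega
  · rw [show W χ₀ = W χ₀ - W χ by rw [hW, sub_zero]]
    simp only [W, ← Finset.sum_sub_distrib]
    refine Blocks.MemLocalIdeal.sum _ fun L _ => ?_
    rw [← sub_mul]
    exact Blocks.MemLocalIdeal.mul_right (Blocks.sameBlock_of_mem hB h₀ hχ _) (hFr _)

/-- A major subsection of rank at most two bounds `k(B)` by `p ^ d`. -/
theorem card_block_le (hpM : (p : AlgInt) ∈ M) {k : ℕ} (hx : orderOf x = p ^ k)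
    (hb : IsInducedBlock M (Subgroup.centralizer ({x} : Set G)) b B)
    (hd : blockDefect p b = blockDefect p B) (hl : blockRank p b ≤ 2) :
    Nat.card B ≤ p ^ blockDefect p B := by
  set d := blockDefect p B with hddef
  obtain ⟨χ₀, h₀, hh₀⟩ := Blocks.exists_height_zero hpM hb.2.1
  obtain ⟨η₀, hη₀, hhη₀, -⟩ := Blocks.blau hpM hb h₀ hh₀
  choose mlt _ hmlt using fun χ : IrrCharacter G => Char.IsCharacter.exists_decomp
    (Char.IsCharacter.restrict (Char.irr_isCharacter χ) (Subgroup.centralizer ({x} : Set G)))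
  choose! cf hcf using fun η (hη : η ∈ b) => BrauerPairs.exists_int_regDot hpM hp.out hb.1 hη
  let T := {η : IrrCharacter (Subgroup.centralizer ({x} : Set G)) // η ∈ b}
  let c : T → T → ℤ := fun a a' => cf a.1 a'.1
  have hcT : ∀ a a' : T, ((p ^ d : ℕ) : ℂ) * regDot p a.1.1 a'.1.1 = (c a a' : ℂ) := fun a a' => by
    rw [← hd]; exact hcf a.1 a.2 a'.1
  have hcsymm : ∀ a a', c a a' = c a' a := fun a a' => by
    have h := hcT a a'
    rw [regDot_comm hp.out, hcT a' a, Int.cast_inj] at h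
    exact h.symm
  let s : T → ℂ := fun a => Blocks.secScalar a.1
  let m : IrrCharacter G → T → ℤ := fun χ a => (mlt χ a.1 : ℤ)
  let L : (T → ℤ) → T → ℤ := fun f a => ∑ a', f a' * c a a'
  let Y : IrrCharacter G → (T → ℤ) → ℕ → ℂ := fun χ f t =>
    ∑ a, ((m χ a * L f a : ℤ) : ℂ) * s a ^ t
  set SB := Finset.univ.filter (· ∈ B) with hSB
  have hsum_T : ∀ F : IrrCharacter (Subgroup.centralizer ({x} : Set G)) → ℂ,
      ∑ η ∈ Finset.univ.filter (· ∈ b), F η = ∑ a : T, F a.1 := fun F =>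
    Finset.sum_subtype _ (by simp) F
  have hcoef : ∀ (χ : IrrCharacter G) (η : IrrCharacter (Subgroup.centralizer ({x} : Set G))),
      classInner (Blocks.secFun x χ.1) η.1 = Blocks.secScalar η * (mlt χ η : ℂ) := fun χ η => by
    rw [Blocks.classInner_secFun, ← hmlt χ η]
  have hD : ∀ (χ : IrrCharacter G) (a' : T), ((p ^ d : ℕ) : ℂ) *
      regDot p (Blocks.secFun x χ.1) a'.1.1 = ∑ a, s a * (m χ a : ℂ) * (c a a' : ℂ) := fun χ a' => by
    rw [Blocks.regDot_secFun hpM hb.1 χ a'.2, hsum_T, Finset.mul_sum]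
    refine Finset.sum_congr rfl fun a _ => ?_
    rw [hcoef, mul_left_comm, hcT a a']
    simp only [s, m, Int.cast_natCast]
  have hY1 : ∀ χ f, Y χ f 1 = ∑ a', (f a' : ℂ) *
      (((p ^ d : ℕ) : ℂ) * regDot p (Blocks.secFun x χ.1) a'.1.1) := fun χ f => by
    simp only [Y, L, hD, pow_one, Int.cast_mul, Int.cast_sum, Finset.mul_sum, Finset.sum_mul]
    rw [Finset.sum_comm]
    exact Finset.sum_congr rfl fun a _ => Finset.sum_congr rfl fun a' _ => by ring
  have hnorm1 : ∀ f, ∑ χ ∈ SB, Y χ f 1 * conj (Y χ f 1) =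
      (((p ^ d : ℕ) : ℤ) * bil c f f : ℤ) := fun f => by
    simp only [hY1, map_sum, Finset.sum_mul_sum, bil, Int.cast_mul, Int.cast_sum, Int.cast_natCast]
    simp only [map_mul, map_intCast, map_natCast, Finset.mul_sum]
    rw [Finset.sum_comm]
    refine Finset.sum_congr rfl fun a _ => ?_
    rw [Finset.sum_comm]
    refine Finset.sum_congr rfl fun a' _ => ?_
    have h := Blocks.sum_regDot_secFun hpM hx hb a.2 a'.2
    rw [← hcT, ← h]
    simp only [hSB, Finset.mul_sum]
    exact Finset.sum_congr rfl fun χ _ => by ring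
  have hpd : (0 : ℤ) < ((p ^ d : ℕ) : ℤ) := Nat.cast_pos.2 (pow_pos hp.out.pos _)
  have hQpos : ∀ f, 0 ≤ bil c f f := fun f => by
    have h := hnorm1 f
    simp only [Complex.mul_conj'] at h
    have h2 : ((∑ χ ∈ SB, ‖Y χ f 1‖ ^ 2 : ℝ) : ℂ) = ((((p ^ d : ℕ) : ℤ) * bil c f f : ℤ) : ℝ) := by
      push_cast
      push_cast at h
      exact h
    have h3 := Complex.ofReal_injective h2
    have h4 : (0 : ℝ) ≤ ((((p ^ d : ℕ) : ℤ) * bil c f f : ℤ) : ℝ) :=
      h3 ▸ Finset.sum_nonneg fun χ _ => sq_nonneg _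
    exact (mul_nonneg_iff_of_pos_left hpd).1 (by exact_mod_cast h4)
  -- rank one modulo `p`
  let e₀ : T := ⟨η₀, hη₀⟩
  have hrk : ∀ a a', (p : ℤ) ∣ c a' a * c e₀ e₀ - c a' e₀ * c a e₀ := fun a a' =>
    Blocks.intCoeff_rank_one hpM hb.1 (fun η hη => hcf η hη) hη₀ hhη₀ a.2 a'.2
  have hS : ¬ (p : ℤ) ∣ ∑ a, m χ₀ a * c a e₀ := by
    intro hdvd
    refine (Char.memLocalIdeal_regInner_restrict hpM hp.out hb hη₀).2 h₀ hh₀ ?_
    have hsum : regDot p (fun h : (Subgroup.centralizer ({x} : Set G)) => χ₀.1 h) η₀.1 =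
        ∑ a : T, (m χ₀ a : ℂ) * regDot p a.1.1 η₀.1 := by
      rw [regDot, Char.eq_sum_classInner_smul (Char.IsCharacter.isClassFunction
        (Char.IsCharacter.restrict (Char.irr_isCharacter χ₀) (Subgroup.centralizer ({x} : Set G)))),
        BrauerPairs.regFun_sum, Char.classInner_sum_left]
      simp only [Char.classInner_smul_left, hmlt, m, Int.cast_natCast]
      rw [← hsum_T fun η => (mlt χ₀ η : ℂ) * regDot p η.1 η₀.1]
      refine (Finset.sum_filter_of_ne fun η _ hne => ?_).symm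
      by_contra hη
      refine hne ?_
      show _ * regDot p η.1 η₀.1 = 0
      rw [regDot_comm hp.out, regDot_eq_zero hpM hp.out hb.1 hη₀ hη, mul_zero]
    have hle : d ≤ (Nat.card (Subgroup.centralizer ({x} : Set G))).factorization p :=
      hd ▸ Nat.sub_le _ _
    have hreg : Char.regInner p (fun h : (Subgroup.centralizer ({x} : Set G)) => χ₀.1 h) η₀.1 =
        (((p : ℤ) ^ ((Nat.card (Subgroup.centralizer ({x} : Set G))).factorization p - d) *
          ∑ a, m χ₀ a * c a e₀ : ℤ) : ℂ) := by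
      rw [Char.regInner, Char.classInner_smul_left, ← regDot, hsum, Int.cast_mul, Int.cast_pow,
        Int.cast_natCast, Int.cast_sum, Finset.mul_sum, Finset.mul_sum]
      refine Finset.sum_congr rfl fun a _ => ?_
      rw [Int.cast_mul, ← hcT a e₀]
      push_cast
      conv_lhs => rw [← Nat.sub_add_cancel hle, pow_add]
      ring
    rw [hreg, Char.apply_one_eq_degree,
      Char.memLocalIdeal_intCast_div_iff hpM _ (Char.degree_pos η₀).ne', pow_succ]
    refine mul_dvd_mul (pow_dvd_pow _ ?_) hdvd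
    have h1 := Char.factorization_degree_of_height_zero hη₀ hhη₀
    have h2 := (Nat.factorization_le_iff_dvd (Char.degree_pos η₀).ne' Nat.card_pos.ne').2
      (Char.degree_dvd_natCard η₀) p
    rw [← hd, blockDefect, ← h1]
    omega
  have hc00 : ¬ (p : ℤ) ∣ c e₀ e₀ := fun hdv => hS (by
    refine (Nat.prime_iff_prime_int.1 hp.out).dvd_of_dvd_pow (n := 2) ?_
    have h3 : (p : ℤ) ∣ bil c (m χ₀) (m χ₀) * c e₀ e₀ - (∑ a, m χ₀ a * c a e₀) ^ 2 := by
      rw [bil, Finset.sum_mul, pow_two, Finset.sum_mul_sum, ← Finset.sum_sub_distrib]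
      refine Finset.dvd_sum fun a _ => ?_
      rw [Finset.sum_mul, ← Finset.sum_sub_distrib]
      refine Finset.dvd_sum fun a' _ => ?_
      rw [show m χ₀ a * m χ₀ a' * c a a' * c e₀ e₀ - m χ₀ a * c a e₀ * (m χ₀ a' * c a' e₀) =
        m χ₀ a * m χ₀ a' * (c a a' * c e₀ e₀ - c a e₀ * c a' e₀) by ring]
      exact Dvd.dvd.mul_left (hrk a' a) _
    have h4 := dvd_sub (Dvd.dvd.mul_left hdv (bil c (m χ₀) (m χ₀))) h3
    rwa [sub_sub_cancel] at h4)
  set N := p ^ k * p with hNdef
  haveI : NeZero N := ⟨mul_ne_zero (pow_ne_zero _ hp.out.ne_zero) hp.out.ne_zero⟩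
  have hs : ∀ a, s a ^ N = 1 := fun a => by
    rw [hNdef, pow_mul, show s a ^ p ^ k = 1 from Blocks.secScalar_pow hx a.1, one_pow]
  -- nonvanishing
  have hnz : ∀ f, ¬ (p : ℤ) ∣ ∑ a, f a * c a e₀ → ∀ χ ∈ SB, Y χ f 1 ≠ 0 := by
    intro f hf χ hχ
    have hint : ¬ (p : ℤ) ∣ ∑ a, m χ₀ a * L f a := fun hdv => by
      have h3 : (p : ℤ) ∣ (∑ a, m χ₀ a * L f a) * c e₀ e₀ -
          (∑ a, m χ₀ a * c a e₀) * ∑ a', f a' * c a' e₀ := by
        rw [Finset.sum_mul, Finset.sum_mul_sum, ← Finset.sum_sub_distrib]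
        refine Finset.dvd_sum fun a _ => ?_
        simp only [L, Finset.mul_sum, Finset.sum_mul]
        rw [← Finset.sum_sub_distrib]
        refine Finset.dvd_sum fun a' _ => ?_
        rw [show m χ₀ a * (f a' * c a a') * c e₀ e₀ - m χ₀ a * c a e₀ * (f a' * c a' e₀) =
          m χ₀ a * f a' * (c a a' * c e₀ e₀ - c a e₀ * c a' e₀) by ring]
        exact Dvd.dvd.mul_left (hrk a' a) _
      have h4 := dvd_sub (Dvd.dvd.mul_right hdv (c e₀ e₀)) h3
      rw [sub_sub_cancel] at h4
      rcases (Nat.prime_iff_prime_int.1 hp.out).dvd_mul.1 h4 with h | h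
      exacts [hS h, hf h]
    have hr : ∀ a, MemLocalRing M (s a) := fun a => (Blocks.red_secScalar hpM hx a.1).1
    refine ne_zero_of_unit hpM hx hb.2.1 h₀ hh₀ (Finset.mem_filter.1 hχ).2
      (fun g => ∑ a : T, (f a : ℂ) * conj (a.1.1 g)) (fun g a => ?_) (fun g => ?_)
      (fun ψ => Y ψ f 1) (fun ψ => ?_) ?_
    · exact Finset.sum_congr rfl fun η _ => by
        rw [Char.IsCharacter.isClassFunction (Char.irr_isCharacter η.1) g a]
    · refine Blocks.MemLocalRing.sum _ fun a _ => Blocks.MemLocalRing.mul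
        (Blocks.memLocalRing_intCast _) ?_
      rw [Char.IsCharacter.conj_apply (Char.irr_isCharacter a.1)]
      exact Blocks.memLocalRing_irr a.1 _
    · rw [hY1, mul_assoc]
      simp only [Finset.mul_sum, regDot, classInner, Finset.sum_filter, mul_ite, mul_zero, hddef]
      conv_rhs =>
        enter [2, g]
        rw [show (if IsPRegular p g then ∑ a : T, ((p ^ blockDefect p B : ℕ) : ℂ) *
          ((Nat.card (Subgroup.centralizer ({x} : Set G)) : ℂ)⁻¹ *
            (ψ.1 (x * (g : G)) * ((f a : ℂ) * conj (a.1.1 g)))) else 0) =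
          ∑ a : T, (f a : ℂ) * (((p ^ blockDefect p B : ℕ) : ℂ) *
            ((Nat.card (Subgroup.centralizer ({x} : Set G)) : ℂ)⁻¹ *
              (Char.regFun p (Blocks.secFun x ψ.1) g * conj (a.1.1 g)))) by
          unfold Char.regFun IsPRegular Blocks.secFun
          by_cases h : p ∣ orderOf g
          · simp [h]
          · rw [if_pos h]
            exact Finset.sum_congr rfl fun a _ => by rw [if_neg h]; ring]
      rw [Finset.sum_comm]
    · intro hI
      haveI := Blocks.charP_residue hpM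
      have h1 : Blocks.red M (Y χ₀ f 1) = ((∑ a, m χ₀ a * L f a : ℤ) : AlgInt ⧸ M) := by
        simp only [Y, pow_one]
        rw [Blocks.red_sum _ fun a _ => Blocks.MemLocalRing.mul (Blocks.memLocalRing_intCast _) (hr a),
          Int.cast_sum]
        refine Finset.sum_congr rfl fun a _ => ?_
        rw [Blocks.red_mul (Blocks.memLocalRing_intCast _) (hr a), Blocks.red_intCast,
          show Blocks.red M (s a) = 1 from (Blocks.red_secScalar hpM hx a.1).2, mul_one]
      rw [(Blocks.red_eq_zero_iff (Blocks.MemLocalRing.sum _ fun a _ =>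
        Blocks.MemLocalRing.mul (Blocks.memLocalRing_intCast _) (Blocks.MemLocalRing.pow (hr a) 1))).2
          hI] at h1
      exact hint ((CharP.intCast_eq_zero_iff (AlgInt ⧸ M) p _).1 h1.symm)
  by_cases hone : ∃ f, bil c f f = 1
  · -- a vector of norm one
    obtain ⟨f, hf⟩ := hone
    have hLf : ¬ (p : ℤ) ∣ ∑ a, f a * c a e₀ := fun hdv => hc00 (by
      have h3 : (p : ℤ) ∣ bil c f f * c e₀ e₀ - (∑ a, f a * c a e₀) ^ 2 := by
        rw [bil, Finset.sum_mul, pow_two, Finset.sum_mul_sum, ← Finset.sum_sub_distrib]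
        refine Finset.dvd_sum fun a _ => ?_
        rw [Finset.sum_mul, ← Finset.sum_sub_distrib]
        refine Finset.dvd_sum fun a' _ => ?_
        rw [show f a * f a' * c a a' * c e₀ e₀ - f a * c a e₀ * (f a' * c a' e₀) =
          f a * f a' * (c a a' * c e₀ e₀ - c a e₀ * c a' e₀) by ring]
        exact Dvd.dvd.mul_left (hrk a' a) _
      have h4 := dvd_add h3 (dvd_pow hdv (two_ne_zero))
      rwa [sub_add_cancel, hf, one_mul] at h4)
    rw [Nat.card_eq_fintype_card]
    refine Blocks.card_le_of_sum_norm_sq s hs (fun (χ : B) a => m χ.1 a * L f a) _ ?_ fun χ => ?_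
    · rw [show ((p ^ d : ℕ) : ℂ) = ((((p ^ d : ℕ) : ℤ) * bil c f f : ℤ) : ℂ) by
        rw [hf, mul_one, Int.cast_natCast], ← hnorm1, hSB]
      simp only [Y, pow_one]
      exact (Finset.sum_subtype _ (by simp) (fun χ : IrrCharacter G =>
        (∑ a, ((m χ a * L f a : ℤ) : ℂ) * s a) * conj (∑ a, ((m χ a * L f a : ℤ) : ℂ) * s a))).symm
    · have := hnz f hLf χ.1 (Finset.mem_filter.2 ⟨Finset.mem_univ _, χ.2⟩)
      simpa [Y] using this
  -- no vector of norm one
  push Not at hone
  let U := (Finset.range N).filter (fun t => ¬ p ∣ t)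
  have hUc : ∀ t ∈ U, t.Coprime N := fun t ht => by
    have h := ((Nat.Prime.coprime_iff_not_dvd hp.out).2 (Finset.mem_filter.1 ht).2).symm
    exact Nat.Coprime.mul_right (Nat.Coprime.pow_right _ h) h
  have hcard : U.card = p ^ k * (p - 1) := by
    have h := sum_coprime_range (p := p) (p ^ k) fun _ => (1 : ℂ)
    simp only [Finset.sum_const, nsmul_eq_mul, mul_one, Finset.card_range] at h
    refine Nat.cast_injective (R := ℂ) ?_
    show (((Finset.range (p ^ k * p)).filter fun t => ¬ p ∣ t).card : ℂ) = _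
    rw [h]
    push_cast [Nat.cast_sub hp.out.one_le]
    ring
  let δ : T → T → ℤ := fun ν => Pi.single ν 1
  have hLδ : ∀ ν a, L (δ ν) a = c a ν := fun ν a => by
    simp only [L, δ]
    rw [Finset.sum_eq_single ν (fun b _ hb => by simp [hb]) (by simp)]
    simp
  have hbilδ : ∀ ν, bil c (δ ν) (δ ν) = c ν ν := fun ν => by
    simp only [bil, δ]
    rw [Finset.sum_eq_single ν (fun b _ hb => by simp [hb]) (by simp),
      Finset.sum_eq_single ν (fun b _ hb => by simp [hb]) (by simp)]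
    simp
  have hl' : ∑ a : T, c a a = ((p ^ d : ℕ) : ℤ) * blockRank p b := by
    refine Int.cast_injective (α := ℂ) ?_
    rw [Int.cast_sum, Int.cast_mul, Int.cast_natCast, Int.cast_natCast,
      BrauerPairs.blockRank_eq_sum hpM hp.out hb.1, Finset.mul_sum]
    exact Finset.sum_congr rfl fun a _ => (hcT a a).symm
  -- the twisted norms
  have htw : ∀ t ∈ U, ∀ ν : T, ∑ χ ∈ SB, Y χ (δ ν) t * conj (Y χ (δ ν) t) =
      ((((p ^ d : ℕ) : ℤ) * c ν ν : ℤ) : ℂ) := by
    intro t ht ν
    let J := Option ({χ // χ ∈ SB} × T × T)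
    let w : J → ℤ := fun q => q.elim (-(((p ^ d : ℕ) : ℤ) * c ν ν)) fun r =>
      m r.1.1 r.2.1 * L (δ ν) r.2.1 * (m r.1.1 r.2.2 * L (δ ν) r.2.2)
    let μ : J → ℂ := fun q => q.elim 1 fun r => s r.2.1 * conj (s r.2.2)
    have hμ : ∀ q, μ q ^ N = 1 := by
      rintro (_ | r)
      · exact one_pow _
      · simp only [μ, Option.elim_some, mul_pow, ← map_pow, hs, map_one, mul_one]
    have hexp : ∀ t : ℕ, ∑ q, (w q : ℂ) * μ q ^ t =
        ∑ χ ∈ SB, Y χ (δ ν) t * conj (Y χ (δ ν) t) - ((((p ^ d : ℕ) : ℤ) * c ν ν : ℤ) : ℂ) := by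
      intro t
      rw [Fintype.sum_option, ← Finset.sum_coe_sort SB, Fintype.sum_prod_type]
      simp only [w, μ, Y, Option.elim_none, Option.elim_some, Int.cast_neg, one_pow, mul_one]
      rw [neg_add_eq_sub]
      congr 1
      refine Finset.sum_congr rfl fun χ _ => ?_
      rw [Fintype.sum_prod_type, map_sum, Finset.sum_mul_sum]
      refine Finset.sum_congr rfl fun a _ => Finset.sum_congr rfl fun a' _ => ?_
      simp only [Int.cast_mul, map_mul, map_intCast, map_pow, mul_pow]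
      ring
    have h0 : ∑ q, (w q : ℂ) * μ q = 0 := by
      have h1 := hexp 1
      simp only [pow_one] at h1
      rw [h1, hnorm1, hbilδ, sub_self]
    have h2 := twist_sum_eq_zero w μ hμ h0 (hUc t ht)
    rw [hexp, sub_eq_zero] at h2
    exact h2
  let A : IrrCharacter G → ℝ := fun χ => ∑ t ∈ U, ∑ ν : T, ‖Y χ (δ ν) t‖ ^ 2
  have htot : ∑ χ ∈ SB, A χ = (U.card : ℝ) * ((p ^ d : ℕ) * ((p ^ d : ℕ) * blockRank p b)) := by
    refine Complex.ofReal_injective ?_
    simp only [A, Complex.ofReal_sum, Complex.ofReal_pow, ← Complex.mul_conj']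
    rw [Finset.sum_comm, Finset.sum_congr rfl fun t ht => Finset.sum_comm.trans
      (Finset.sum_congr rfl fun ν _ => htw t ht ν), Finset.sum_const, nsmul_eq_mul,
      ← Int.cast_sum, ← Finset.mul_sum, hl']
    push_cast
    ring
  have hlow : ∀ χ ∈ SB, (2 * (U.card : ℝ)) * (p ^ d : ℕ) ≤ A χ := by
    intro χ hχ
    obtain ⟨g, hg⟩ := two_mul_sum_twists (k := k) hcsymm (m χ) s hs
    have hA : (2 * A χ : ℝ) = ((p ^ d : ℕ) : ℝ) * (((p ^ k : ℕ) : ℝ) *
        ((∑ w, ∑ i, ∑ j, bil c (g w i - g w j) (g w i - g w j) : ℤ) : ℝ)) := by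
      refine Complex.ofReal_injective ?_
      simp only [A, Complex.ofReal_mul, Complex.ofReal_sum, Complex.ofReal_pow, ← Complex.mul_conj',
        Complex.ofReal_intCast, Complex.ofReal_natCast, Complex.ofReal_ofNat]
      rw [← hg, mul_left_comm _ (2 : ℂ)]
      congr 1
      rw [Finset.mul_sum]
      refine Finset.sum_congr rfl fun t _ => ?_
      -- `Σ_ν c(a, ν) c(a', ν) = p^d c(a, a')`
      have hcc : ∀ a a' : T, ∑ ν, ((c a ν * c a' ν : ℤ) : ℂ) =
          ((p ^ d : ℕ) : ℂ) * (c a a' : ℂ) := fun a a' => by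
        rw [← hcT a a', ← Blocks.sum_regDot_mul_filter hpM hb.1 a.2, hsum_T, Finset.mul_sum,
          Finset.mul_sum]
        refine Finset.sum_congr rfl fun ν _ => ?_
        rw [Int.cast_mul, ← hcT a ν, hcsymm a' ν, ← hcT ν a']
        ring
      simp only [Y, hLδ, map_sum, Finset.sum_mul_sum]
      simp only [map_mul, map_intCast, map_pow, Finset.mul_sum]
      rw [Finset.sum_comm]
      refine Finset.sum_congr rfl fun a _ => ?_
      rw [Finset.sum_comm]
      refine Finset.sum_congr rfl fun a' _ => ?_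
      calc _ = ((m χ a : ℂ) * m χ a' * (s a ^ t * conj (s a') ^ t)) *
            ∑ ν, ((c a ν * c a' ν : ℤ) : ℂ) := by
            rw [Finset.mul_sum]
            exact Finset.sum_congr rfl fun ν _ => by push_cast; ring
        _ = _ := by rw [hcc]; push_cast; ring
    have hpos : 0 < A χ := by
      have h1U : 1 ∈ U := Finset.mem_filter.2 ⟨Finset.mem_range.2
        (lt_of_lt_of_le hp.out.one_lt (Nat.le_mul_of_pos_left p (pow_pos hp.out.pos k))),
        hp.out.not_dvd_one⟩
      have hne := hnz (δ e₀) (by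
        rw [Finset.sum_eq_single e₀ (fun b _ hb => by simp [δ, hb]) (by simp)]
        simpa [δ] using hc00) χ hχ
      refine Finset.sum_pos' (fun t _ => Finset.sum_nonneg fun ν _ => sq_nonneg _) ⟨1, h1U, ?_⟩
      exact Finset.sum_pos' (fun ν _ => sq_nonneg _)
        ⟨e₀, Finset.mem_univ _, pow_pos (norm_pos_iff.2 hne) 2⟩
    obtain ⟨w, i, j, hij⟩ : ∃ w i j, bil c (g w i - g w j) (g w i - g w j) ≠ 0 := by
      by_contra! hall
      simp only [hall, Finset.sum_const_zero, Int.cast_zero, mul_zero] at hA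
      linarith
    have h4 : 4 * ((p : ℤ) - 1) ≤ ∑ w, ∑ i, ∑ j, bil c (g w i - g w j) (g w i - g w j) := by
      have := pair_bound hcsymm hQpos hone (g w) hij
      rw [Fintype.card_fin] at this
      exact this.trans (Finset.single_le_sum (f := fun w => ∑ i, ∑ j,
        bil c (g w i - g w j) (g w i - g w j))
        (fun w _ => Finset.sum_nonneg fun i _ => Finset.sum_nonneg fun j _ => hQpos _)
        (Finset.mem_univ w))
    have h4' : 4 * ((p : ℝ) - 1) ≤
        ((∑ w, ∑ i, ∑ j, bil c (g w i - g w j) (g w i - g w j) : ℤ) : ℝ) := by exact_mod_cast h4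
    have h5 := mul_le_mul_of_nonneg_left h4'
      (by positivity : (0 : ℝ) ≤ ((p ^ d : ℕ) : ℝ) * ((p ^ k : ℕ) : ℝ))
    rw [mul_assoc (((p ^ d : ℕ) : ℝ)) _ ((_ : ℤ) : ℝ), ← hA] at h5
    rw [hcard, Nat.cast_mul, Nat.cast_sub hp.out.one_le, Nat.cast_one]
    nlinarith
  have hfin := Finset.sum_le_sum hlow
  rw [htot, Finset.sum_const, nsmul_eq_mul] at hfin
  have hU0 : (0 : ℝ) < (U.card : ℝ) * (p ^ d : ℕ) := by
    rw [hcard]
    exact mul_pos (Nat.cast_pos.2 (mul_pos (pow_pos hp.out.pos k) (Nat.sub_pos_of_lt hp.out.one_lt)))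
      (Nat.cast_pos.2 (pow_pos hp.out.pos d))
  have hkd : (SB.card : ℝ) * 2 ≤ (p ^ d : ℕ) * (blockRank p b : ℝ) := by
    refine le_of_mul_le_mul_left ?_ hU0
    linarith
  have hkd' : SB.card * 2 ≤ p ^ d * blockRank p b := by exact_mod_cast hkd
  have hkd'' := hkd'.trans (Nat.mul_le_mul_left _ hl)
  rw [Nat.card_eq_fintype_card, Fintype.card_subtype]
  show SB.card ≤ _
  omega

/-- Let B be a p-block of the finite group G (relative to a maximal ideal M of the algebraic integers containing p) of defect d with defect group D. Let z be an element of D commuting with every element of D, and let b be a block of the centralizer C of z with defect group D that induces B (a major subsection (z, b)). If b has p-regular rank at most two, then B contains at most p ^ d irreducible characters. -/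
theorem result {G : Type*} [Group G] [Finite G] (p : ℕ) [Fact p.Prime] (M : Ideal Cfsg.AlgInt) (hM : Cfsg.IsPModular p M) (B : Set (Cfsg.IrrCharacter G)) (hB : Cfsg.IsPBlock M B) (D : Subgroup G) (hD : Cfsg.IsDefectGroup p M B D) (z : G) (hzD : z ∈ D) (hzc : ∀ d ∈ D, d * z = z * d) (b : Set (Cfsg.IrrCharacter ↥(Subgroup.centralizer ({z} : Set G)))) (hb : Cfsg.IsInducedBlock M (Subgroup.centralizer ({z} : Set G)) b B) (hbD : Cfsg.IsDefectGroup p M b (D.subgroupOf (Subgroup.centralizer ({z} : Set G)))) (hl : Cfsg.blockRank p b ≤ 2) : Nat.card B ≤ p ^ Cfsg.blockDefect p B := by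
  classical
  haveI := Fintype.ofFinite G
  haveI := Fintype.ofFinite (Subgroup.centralizer ({z} : Set G))
  haveI := hM.2.1
  obtain ⟨k, hk⟩ := Blocks.IsDefectGroup.isPGroup hD ⟨z, hzD⟩
  have hz : z ^ p ^ k = 1 := congrArg Subtype.val hk
  obtain ⟨j, -, hj⟩ := (Nat.dvd_prime_pow Fact.out).1 (orderOf_dvd_of_pow_eq_one hz)
  refine card_block_le hM.2.2 hj hb ?_ hl
  refine Nat.pow_right_injective (Fact.out : p.Prime).two_le ?_
  show p ^ Cfsg.blockDefect p b = p ^ Cfsg.blockDefect p B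
  rw [← Blocks.card_defectGroup hM.2.2 hb.1 hbD, ← Blocks.card_defectGroup hM.2.2 hB hD]
  exact Nat.card_congr (Subgroup.subgroupOfEquivOfLe
    fun a ha => Subgroup.mem_centralizer_singleton_iff.2 (hzc a ha)).toEquiv

end Cfsg.Agent.S4539
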