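import Cfsg.Statements.S4541
import Cfsg.Agent.Lib.Blocks.ContributionInt

set_option autoImplicit false
set_option linter.style.haveILetI false
set_option linter.unusedSectionVars false
open Cfsg

namespace Cfsg.Agent.S4541

open scoped Classical ComplexConjugate
open Agent

universe u

/-- A vanishing combination of roots of unity keeps vanishing under a twist. -/
theorem twist_sum_eq_zero {N : ℕ} [NeZero N] {ι : Type u} [Fintype ι] (c : ι → ℤ) (μ : ι → ℂ)
    (hμ : ∀ i, μ i ^ N = 1) (h : ∑ i, (c i : ℂ) * μ i = 0) (u : (ZMod N)ˣ) :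
    ∑ i, (c i : ℂ) * μ i ^ (u : ZMod N).val = 0 := by
  refine CharInt.sum_eq_zero_of_twist_eq_zero c (fun i => μ i ^ (u : ZMod N).val)
    (fun i => by rw [← pow_mul, mul_comm, pow_mul, hμ, one_pow])
    (ZMod.val_coe_unit_coprime u⁻¹) ?_
  rw [← h]
  refine Finset.sum_congr rfl fun i _ => ?_
  rw [← pow_mul, pow_eq_pow_mod _ (hμ i), ← ZMod.val_mul, Units.mul_inv, ZMod.val_one_eq_one_mod,
    ← pow_eq_pow_mod _ (hμ i), pow_one]

variable {G : Type u} [Group G] [Fintype G] {M : Ideal AlgInt} [M.IsMaximal] {x : G}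
  [Fintype (Subgroup.centralizer ({x} : Set G))] {B : Set (IrrCharacter G)}
  {b : Set (IrrCharacter (Subgroup.centralizer ({x} : Set G)))}

/-- The averaged contributions: an odd weight at each height zero character. -/
theorem exists_weights (hpM : ((2 : ℕ) : AlgInt) ∈ M) {k : ℕ} (hx : orderOf x = 2 ^ k)
    (hb : IsInducedBlock M (Subgroup.centralizer ({x} : Set G)) b B) :
    ∃ t : IrrCharacter G → ℤ,
      (∀ χ ∈ Finset.univ.filter (fun χ : IrrCharacter G => χ ∈ B ∧ blockHeight 2 B χ.1 = 0),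
        ¬ (2 : ℤ) ∣ t χ ∧
        ((Finset.univ.filter (fun ψ : IrrCharacter G => ψ ∈ B ∧ blockHeight 2 B ψ.1 = 0)).card : ℤ)
          ≤ (2 ^ blockDefect 2 b : ℕ) * t χ) ∧
      ∑ χ ∈ Finset.univ.filter (fun χ : IrrCharacter G => χ ∈ B ∧ blockHeight 2 B χ.1 = 0), t χ ≤
        (2 ^ blockDefect 2 b : ℕ) * blockRank 2 b := by
  haveI : Fact (Nat.Prime 2) := ⟨Nat.prime_two⟩
  set K := Finset.univ.filter (fun χ : IrrCharacter G => χ ∈ B ∧ blockHeight 2 B χ.1 = 0) with hKdef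
  rcases K.eq_empty_or_nonempty with hK | ⟨χ₁, hχ₁⟩
  · refine ⟨0, fun χ hχ => absurd hχ (by simp [hK]), ?_⟩
    simp only [hK, Finset.sum_empty]
    positivity
  obtain ⟨hχ₁B, hh₁⟩ := (Finset.mem_filter.1 hχ₁).2
  obtain ⟨I, _, μ, Z, hμ, hswap, hdiag, hsym, hz, hodd⟩ :=
    Blocks.exists_contribution_coords hpM hx hb hχ₁B hh₁
  set D := 2 ^ blockDefect 2 b with hD
  haveI : NeZero (2 ^ k) := ⟨pow_ne_zero _ two_ne_zero⟩
  let t : IrrCharacter G → ℤ := fun χ => ∑ i, Z χ χ i * Blocks.rootEps (μ i)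
  set φ := Fintype.card (ZMod (2 ^ k))ˣ with hφ
  have hφ0 : 0 < φ := Fintype.card_pos
  let tw : IrrCharacter G → IrrCharacter G → (ZMod (2 ^ k))ˣ → ℂ := fun χ ψ u =>
    ∑ i, (Z χ ψ i : ℂ) * μ i ^ (u : ZMod (2 ^ k)).val
  have havg : ∀ χ, ∑ u, tw χ χ u = (φ : ℂ) * (t χ : ℂ) := fun χ => by
    simp only [tw, t, Int.cast_sum, Int.cast_mul, Finset.mul_sum]
    rw [Finset.sum_comm]
    refine Finset.sum_congr rfl fun i _ => ?_
    rw [← Finset.mul_sum, Blocks.sum_units_pow (hμ i)]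
    ring
  set SB := Finset.univ.filter (· ∈ B) with hSB
  -- the two identities, twisted
  have id1 : ∀ χ u, ∑ ψ ∈ SB, tw χ ψ u * conj (tw χ ψ u) = (D : ℂ) * tw χ χ u := by
    intro χ u
    let J := ({ψ // ψ ∈ SB} × (I × I) × (I × I)) ⊕ (I × I)
    let c : J → ℤ := Sum.elim (fun q => Z χ q.1.1 q.2.1 * Z χ q.1.1 q.2.2)
      (fun i => -((D : ℤ) * Z χ χ i))
    let ν : J → ℂ := Sum.elim (fun q => μ q.2.1 * conj (μ q.2.2)) μ
    have hν : ∀ j, ν j ^ (2 ^ k) = 1 := by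
      rintro (q | i)
      · simp only [ν, Sum.elim_inl, mul_pow, ← map_pow, hμ, map_one, mul_one]
      · exact hμ i
    have hexp : ∀ n : ℕ, ∑ j, (c j : ℂ) * ν j ^ n =
        ∑ ψ ∈ SB, (∑ i, (Z χ ψ i : ℂ) * μ i ^ n) * conj (∑ i, (Z χ ψ i : ℂ) * μ i ^ n) -
          (D : ℂ) * ∑ i, (Z χ χ i : ℂ) * μ i ^ n := by
      intro n
      rw [Fintype.sum_sum_type, sub_eq_add_neg]
      congr 1
      · rw [Fintype.sum_prod_type, ← Finset.sum_coe_sort SB]
        refine Finset.sum_congr rfl fun ψ _ => ?_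
        rw [map_sum, Finset.sum_mul_sum, Fintype.sum_prod_type]
        refine Finset.sum_congr rfl fun i _ => Finset.sum_congr rfl fun i' _ => ?_
        simp only [c, ν, Sum.elim_inl, mul_pow, Int.cast_mul, map_mul, map_intCast, map_pow]
        ring
      · rw [Finset.mul_sum, ← Finset.sum_neg_distrib]
        refine Finset.sum_congr rfl fun i _ => ?_
        simp only [c, ν, Sum.elim_inr, Int.cast_neg, Int.cast_mul, Int.cast_natCast]
        ring
    have h0 : ∑ j, (c j : ℂ) * ν j = 0 := by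
      have h1 := hexp 1
      simp only [pow_one, hz, map_mul, map_natCast] at h1
      rw [h1, sub_eq_zero, ← mul_assoc, Finset.sum_congr rfl (g := fun ψ : IrrCharacter G =>
        (D : ℂ) * (D : ℂ) * (Blocks.contribution 2 b χ.1 ψ.1 *
          conj (Blocks.contribution 2 b χ.1 ψ.1))) fun ψ _ => by ring,
        ← Finset.mul_sum, hSB, Blocks.sum_contribution_mul_conj hpM hx hb χ]
    have h2 := twist_sum_eq_zero c ν hν h0 u
    rw [hexp, sub_eq_zero] at h2
    exact h2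
  have id2 : ∀ u, ∑ χ ∈ SB, tw χ χ u = (D : ℂ) * blockRank 2 b := by
    intro u
    let J := Option ({χ // χ ∈ SB} × (I × I))
    let c : J → ℤ := fun j => j.elim (-((D : ℤ) * blockRank 2 b)) fun q => Z q.1.1 q.1.1 q.2
    let ν : J → ℂ := fun j => j.elim 1 fun q => μ q.2
    have hν : ∀ j, ν j ^ (2 ^ k) = 1 := by
      rintro (_ | q)
      · exact one_pow _
      · exact hμ q.2
    have hexp : ∀ n : ℕ, ∑ j, (c j : ℂ) * ν j ^ n =
        ∑ χ ∈ SB, (∑ i, (Z χ χ i : ℂ) * μ i ^ n) - (D : ℂ) * blockRank 2 b := by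
      intro n
      rw [Fintype.sum_option, ← Finset.sum_coe_sort SB, Fintype.sum_prod_type]
      simp only [c, ν, Option.elim_none, Option.elim_some, Int.cast_neg, Int.cast_mul,
        Int.cast_natCast, one_pow, mul_one]
      rw [neg_add_eq_sub]
    have h0 : ∑ j, (c j : ℂ) * ν j = 0 := by
      have h1 := hexp 1
      simp only [pow_one, hz] at h1
      rw [h1, sub_eq_zero, ← Finset.mul_sum, hSB, Blocks.sum_contribution_self hpM hx hb]
    have h2 := twist_sum_eq_zero c ν hν h0 u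
    rw [hexp, sub_eq_zero] at h2
    exact h2
  have hnorm : ∀ χ, ∑ ψ ∈ SB, ∑ u, ‖tw χ ψ u‖ ^ 2 = (φ : ℝ) * ((D : ℝ) * (t χ : ℝ)) := fun χ => by
    refine Complex.ofReal_injective ?_
    push_cast
    rw [mul_left_comm, ← havg, Finset.mul_sum, Finset.sum_comm]
    refine Finset.sum_congr rfl fun u _ => ?_
    rw [← id1 χ u]
    exact Finset.sum_congr rfl fun ψ _ => (Complex.mul_conj' _).symm
  have ht0 : ∀ χ, 0 ≤ t χ := fun χ => by
    have h : (0 : ℝ) ≤ (φ : ℝ) * ((D : ℝ) * (t χ : ℝ)) :=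
      hnorm χ ▸ Finset.sum_nonneg fun ψ _ => Finset.sum_nonneg fun u _ => sq_nonneg _
    have hD0 : (0 : ℝ) < D := Nat.cast_pos.2 (pow_pos two_pos _)
    have hφr : (0 : ℝ) < φ := Nat.cast_pos.2 hφ0
    exact_mod_cast (mul_nonneg_iff_of_pos_left hD0).1 ((mul_nonneg_iff_of_pos_left hφr).1 h)
  refine ⟨t, fun χ hχ => ⟨?_, ?_⟩, ?_⟩
  · -- parity
    obtain ⟨hχB, hhχ⟩ := (Finset.mem_filter.1 hχ).2
    intro hdvd
    refine hodd χ hχB χ hχB hhχ hhχ ?_
    have h2 : ((t χ : ℤ) : ZMod 2) = 0 := (ZMod.intCast_zmod_eq_zero_iff_dvd _ 2).2 hdvd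
    rw [← ZMod.intCast_zmod_eq_zero_iff_dvd _ 2, ← h2]
    have hoff : ∀ f : I × I → ZMod 2, (∀ i, f i.swap = f i) →
        ∑ i ∈ Finset.univ.filter (fun i : I × I => ¬ i.1 = i.2), f i = 0 := fun f hf => by
      refine Finset.sum_involution (fun i _ => i.swap) (fun i _ => ?_) (fun i hi _ => ?_)
        (fun i hi => ?_) fun i _ => Prod.swap_swap i
      · rw [hf]
        exact CharTwo.add_self_eq_zero _
      · exact fun e => (Finset.mem_filter.1 hi).2 (congrArg Prod.fst e).symm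
      · exact Finset.mem_filter.2 ⟨Finset.mem_univ _, fun e => (Finset.mem_filter.1 hi).2 e.symm⟩
    simp only [t, Int.cast_sum, Int.cast_mul]
    rw [← Finset.sum_filter_add_sum_filter_not Finset.univ (fun i : I × I => i.1 = i.2),
      ← Finset.sum_filter_add_sum_filter_not Finset.univ (fun i : I × I => i.1 = i.2)
        (fun i => (Z χ χ i : ZMod 2) * (Blocks.rootEps (μ i) : ZMod 2)),
      hoff _ fun i => by rw [hsym], hoff _ fun i => by rw [hsym, hswap, Blocks.rootEps_conj]]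
    congr 1
    refine Finset.sum_congr rfl fun i hi => ?_
    obtain ⟨a, a'⟩ := i
    obtain rfl : a = a' := (Finset.mem_filter.1 hi).2
    rw [hdiag, Blocks.rootEps, if_pos rfl, Int.cast_one, mul_one]
  · -- lower bound
    obtain ⟨hχB, hhχ⟩ := (Finset.mem_filter.1 hχ).2
    have hone : ∀ ψ ∈ K, (φ : ℝ) ≤ ∑ u, ‖tw χ ψ u‖ ^ 2 := fun ψ hψ => by
      obtain ⟨hψB, hhψ⟩ := (Finset.mem_filter.1 hψ).2
      refine Blocks.card_units_le_sum (Z χ ψ) μ hμ fun h0 => hodd χ hχB ψ hψB hhχ hhψ ?_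
      haveI := Blocks.charP_residue (p := 2) hpM
      have hr : ∀ i, MemLocalRing M (μ i) := fun i => Blocks.memLocalRing_of_isIntegral
        (IsIntegral.of_pow (pow_pos two_pos k) (by rw [hμ]; exact isIntegral_one))
      have h1 : Blocks.red M (∑ i, (Z χ ψ i : ℂ) * μ i) = ((∑ i, Z χ ψ i : ℤ) : AlgInt ⧸ M) := by
        rw [Blocks.red_sum _ fun i _ => Blocks.MemLocalRing.mul (Blocks.memLocalRing_intCast _) (hr i),
          Int.cast_sum]
        refine Finset.sum_congr rfl fun i _ => ?_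
        rw [Blocks.red_mul (Blocks.memLocalRing_intCast _) (hr i), Blocks.red_intCast,
          show Blocks.red M (μ i) = 1 from sub_eq_zero.1 (eq_zero_of_pow_eq_zero (n := 2 ^ k) (by
            rw [sub_pow_char_pow, ← Blocks.red_pow (hr i), hμ, Blocks.red_one, one_pow, sub_self])),
          mul_one]
      rw [h0, Blocks.red_zero] at h1
      exact (CharP.intCast_eq_zero_iff (AlgInt ⧸ M) 2 _).1 h1.symm
    have h : (K.card : ℝ) * φ ≤ (φ : ℝ) * ((D : ℝ) * (t χ : ℝ)) := by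
      rw [← hnorm χ]
      calc (K.card : ℝ) * φ = ∑ _ψ ∈ K, (φ : ℝ) := by rw [Finset.sum_const, nsmul_eq_mul]
        _ ≤ ∑ ψ ∈ K, ∑ u, ‖tw χ ψ u‖ ^ 2 := Finset.sum_le_sum hone
        _ ≤ _ := Finset.sum_le_sum_of_subset_of_nonneg
            (fun ψ hψ => Finset.mem_filter.2 ⟨Finset.mem_univ _, (Finset.mem_filter.1 hψ).2.1⟩)
            (fun ψ _ _ => Finset.sum_nonneg fun u _ => sq_nonneg _)
    rw [mul_comm (K.card : ℝ)] at h
    exact_mod_cast le_of_mul_le_mul_left h (Nat.cast_pos.2 hφ0)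
  · have h : ∑ χ ∈ SB, t χ = (D : ℤ) * blockRank 2 b := by
      have h1 : (φ : ℂ) * ((∑ χ ∈ SB, t χ : ℤ) : ℂ) = (φ : ℂ) * ((D : ℂ) * blockRank 2 b) := by
        rw [Int.cast_sum, Finset.mul_sum, Finset.sum_congr rfl fun χ _ => (havg χ).symm,
          Finset.sum_comm, Finset.sum_congr rfl fun u _ => id2 u, Finset.sum_const, nsmul_eq_mul,
          Finset.card_univ]
      have h2 := mul_left_cancel₀ (Nat.cast_ne_zero.2 hφ0.ne') h1
      exact_mod_cast h2
    rw [← h]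
    exact Finset.sum_le_sum_of_subset_of_nonneg
      (fun ψ hψ => Finset.mem_filter.2 ⟨Finset.mem_univ _, (Finset.mem_filter.1 hψ).2.1⟩)
      fun ψ _ _ => ht0 ψ

/-- The arithmetic of the bound. -/
theorem arith {ι : Type*} (K : Finset ι) (t : ι → ℤ) (D : ℕ) (hD : 0 < D) (l : ℕ)
    (ht : ∀ i ∈ K, ¬ (2 : ℤ) ∣ t i ∧ (K.card : ℤ) ≤ D * t i) (hsum : ∑ i ∈ K, t i ≤ D * l) :
    (Odd (Nat.sqrt l) → K.card ≤ Nat.sqrt l * D) ∧
      (¬ Odd (Nat.sqrt l) → (Nat.sqrt l + 1) * K.card ≤ l * D) := by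
  have h1 : (Nat.sqrt l : ℤ) * Nat.sqrt l ≤ l := by exact_mod_cast Nat.sqrt_le l
  have h2 : (l : ℤ) < (Nat.sqrt l + 1) * (Nat.sqrt l + 1) := by exact_mod_cast Nat.lt_succ_sqrt l
  set s := Nat.sqrt l
  have hD' : (0 : ℤ) < D := Nat.cast_pos.2 hD
  have hconst : ∀ c : ℤ, (∀ i ∈ K, c ≤ t i) → (K.card : ℤ) * c ≤ D * l := fun c hc => by
    refine le_trans ?_ hsum
    have := Finset.sum_le_sum hc
    rwa [Finset.sum_const, nsmul_eq_mul] at this
  constructor
  · intro ho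
    by_contra! hlt
    have hlt' : (s : ℤ) * D < K.card := by exact_mod_cast hlt
    have hall : ∀ i ∈ K, (s : ℤ) + 2 ≤ t i := fun i hi => by
      have hts : (s : ℤ) * D < t i * D := by nlinarith [(ht i hi).2]
      have hts' := lt_of_mul_lt_mul_right hts hD'.le
      obtain ⟨a, ha⟩ := ho
      have hodd := (ht i hi).1
      omega
    have := hconst _ hall
    nlinarith
  · intro he
    by_contra! hlt
    have hlt' : (l : ℤ) * D < (s + 1) * K.card := by exact_mod_cast hlt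
    obtain ⟨i, hi, hts⟩ : ∃ i ∈ K, t i < (s : ℤ) + 1 := by
      by_contra! hall
      nlinarith [hconst _ hall]
    obtain ⟨a, ha⟩ := Nat.not_odd_iff_even.1 he
    have hodd := (ht i hi).1
    have hts' : t i ≤ (s : ℤ) - 1 := by omega
    have hn := (ht i hi).2
    have e1 : (D : ℤ) * t i ≤ D * ((s : ℤ) - 1) := mul_le_mul_of_nonneg_left hts' hD'.le
    have e2 : ((s : ℤ) + 1) * K.card ≤ ((s : ℤ) + 1) * (D * ((s : ℤ) - 1)) :=
      mul_le_mul_of_nonneg_left (hn.trans e1) (by positivity)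
    have e3 : ((s : ℤ) * s) * D ≤ (l : ℤ) * D := mul_le_mul_of_nonneg_right h1 hD'.le
    linarith

/-- Let B be a 2-block of the finite group G (relative to a maximal ideal M of the algebraic integers containing 2), u a 2-element, and b a block of the centralizer of u inducing B (a subsection (u, b)), of defect q and 2-regular rank l; write s for the integer square root of l and k₀(B) for the number of members of B of height zero. If s is odd then k₀(B) ≤ s·2 ^ q, and otherwise (s + 1)·k₀(B) ≤ l·2 ^ q; in particular k₀(B) ≤ 2 ^ q when l ≤ 3. -/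
theorem result {G : Type*} [Group G] [Finite G] (M : Ideal Cfsg.AlgInt) (hM : Cfsg.IsPModular 2 M) (B : Set (Cfsg.IrrCharacter G)) (hB : Cfsg.IsPBlock M B) (u : G) (hu : ∃ j : ℕ, orderOf u = 2 ^ j) (b : Set (Cfsg.IrrCharacter ↥(Subgroup.centralizer ({u} : Set G)))) (hb : Cfsg.IsInducedBlock M (Subgroup.centralizer ({u} : Set G)) b B) : (Odd (Nat.sqrt (Cfsg.blockRank 2 b)) → Nat.card {χ : Cfsg.IrrCharacter G // χ ∈ B ∧ Cfsg.blockHeight 2 B (χ : G → ℂ) = 0} ≤ Nat.sqrt (Cfsg.blockRank 2 b) * 2 ^ Cfsg.blockDefect 2 b) ∧ (¬ Odd (Nat.sqrt (Cfsg.blockRank 2 b)) → (Nat.sqrt (Cfsg.blockRank 2 b) + 1) * Nat.card {χ : Cfsg.IrrCharacter G // χ ∈ B ∧ Cfsg.blockHeight 2 B (χ : G → ℂ) = 0} ≤ Cfsg.blockRank 2 b * 2 ^ Cfsg.blockDefect 2 b) ∧ (Cfsg.blockRank 2 b ≤ 3 → Nat.card {χ : Cfsg.IrrCharacter G // χ ∈ B ∧ Cfsg.blockHeight 2 B (χ : G → ℂ) = 0} ≤ 2 ^ Cfsg.blockDefect 2 b) := by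
  classical
  haveI := Fintype.ofFinite G
  haveI := Fintype.ofFinite (Subgroup.centralizer ({u} : Set G))
  haveI := hM.2.1
  obtain ⟨k, hk⟩ := hu
  obtain ⟨t, ht, hsum⟩ := exists_weights hM.2.2 hk hb
  obtain ⟨h1, h2⟩ := arith _ t _ (pow_pos two_pos _) _ ht hsum
  rw [← Fintype.card_subtype, ← Nat.card_eq_fintype_card] at h1 h2
  refine ⟨h1, h2, fun hl => ?_⟩
  rcases Nat.eq_zero_or_pos (Cfsg.blockRank 2 b) with h0 | hpos
  · have h := h2 (by rw [h0]; simp)
    rw [h0] at h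
    simp only [Nat.sqrt_zero, zero_add, one_mul, zero_mul] at h
    exact h.trans (Nat.zero_le _)
  · have hs : Nat.sqrt (Cfsg.blockRank 2 b) = 1 :=
      Nat.eq_sqrt.2 ⟨by omega, by omega⟩ |>.symm
    have h := h1 (by rw [hs]; exact odd_one)
    rwa [hs, one_mul] at h

end Cfsg.Agent.S4541
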