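import Cfsg.Statements.S4549
import Cfsg.Agent.Lib.DefectOne.Principal
import Cfsg.Agent.Lib.Clifford.CoprimeExtension
import Cfsg.Agent.Lib.RelDeg.DetRestrict
import Cfsg.Agent.Lib.Char.Descend
import Cfsg.Agent.Lib.CharInt.Galois
import Cfsg.Agent.Lib.Transfer.Residual

set_option autoImplicit false
set_option linter.unusedSectionVars false
open Cfsg

namespace Cfsg.Agent.S4549

open scoped ComplexConjugate

universe u v

section Perm

theorem modEq_fixed {A : Type u} {T : Type v} [Group A] [Finite T] (Φ : A →* Equiv.Perm T)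
    (h : ∀ a, ∃ n : ℕ, Φ a ^ (2 ^ n) = 1) :
    Nat.card T ≡ Nat.card {t : T // ∀ a, Φ a t = t} [MOD 2] := by
  have hR : IsPGroup 2 Φ.range := by
    rintro ⟨_, a, rfl⟩
    obtain ⟨n, hn⟩ := h a
    exact ⟨n, Subtype.ext (by simpa using hn)⟩
  refine (hR.card_modEq_card_fixedPoints T).trans ?_
  rw [Nat.card_congr (Equiv.subtypeEquivRight (p := fun t => t ∈ MulAction.fixedPoints Φ.range T)
    (q := fun t => ∀ a, Φ a t = t) fun t => ⟨fun ht a => ht ⟨Φ a, a, rfl⟩, ?_⟩)]
  rintro ht ⟨_, a, rfl⟩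
  exact ht a

theorem modEq_fixed_perm {T : Type v} [Finite T] (f : Equiv.Perm T) {n : ℕ}
    (h : f ^ (2 ^ n) = 1) :
    Nat.card T ≡ Nat.card {t : T // f t = t} [MOD 2] := by
  refine (modEq_fixed (Subgroup.zpowers f).subtype fun a => ⟨n, ?_⟩).trans ?_
  · obtain ⟨i, hi⟩ := Subgroup.mem_zpowers_iff.1 a.2
    rw [Subgroup.subtype_apply, ← hi, ← zpow_natCast, ← zpow_mul, mul_comm, zpow_mul, zpow_natCast,
      h, one_zpow]
  · have hiff : ∀ t, (∀ a : Subgroup.zpowers f, (Subgroup.zpowers f).subtype a t = t) ↔ f t = t := by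
      refine fun t => ⟨fun ht => ht ⟨f, Subgroup.mem_zpowers f⟩, fun ht a => ?_⟩
      obtain ⟨i, hi⟩ := Subgroup.mem_zpowers_iff.1 a.2
      rw [Subgroup.subtype_apply, ← hi]
      exact Equiv.Perm.zpow_apply_eq_self_of_apply_eq_self ht i
    rw [Nat.card_congr (Equiv.subtypeEquivRight hiff)]

end Perm

section Arith

variable {G : Type u} [Group G] [Finite G] {k : ℕ}

theorem coprime_card (hk₁ : ∀ g : G, (∃ j : ℕ, orderOf g = 2 ^ j) → g ^ k = g ^ 3)
    (hk₂ : ∀ g : G, Odd (orderOf g) → g ^ k = g) : k.Coprime (Nat.card G) := by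
  refine Nat.coprime_of_dvd fun q hq hqk hqG => ?_
  haveI := Fact.mk hq
  obtain ⟨x, hx⟩ := exists_prime_orderOf_dvd_card' (G := G) q hqG
  have h1 : x ^ k = 1 := orderOf_dvd_iff_pow_eq_one.1 (hx ▸ hqk)
  rcases hq.eq_two_or_odd' with rfl | hodd
  · have h3 : x ^ (3 : ℕ) = 1 := (hk₁ x ⟨1, by simpa using hx⟩).symm.trans h1
    have := orderOf_dvd_iff_pow_eq_one.2 h3
    rw [hx] at this
    norm_num at this
  · have h4 := (hk₂ x (hx ▸ hodd)).symm.trans h1
    rw [h4, orderOf_one] at hx
    exact hq.ne_one hx.symm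

theorem exists_period (hk₁ : ∀ g : G, (∃ j : ℕ, orderOf g = 2 ^ j) → g ^ k = g ^ 3)
    (hk₂ : ∀ g : G, Odd (orderOf g) → g ^ k = g) :
    ∃ n : ℕ, ∀ x : G, x ^ (k ^ (2 ^ n)) = x := by
  have hcop := coprime_card hk₁ hk₂
  refine ⟨(Nat.card G).factorization 2, fun x => ?_⟩
  set E := (Nat.card G).factorization 2
  set o := orderOf x with ho
  have ho0 : o ≠ 0 := (orderOf_pos x).ne'
  set e := o.factorization 2
  set m := o / 2 ^ e
  have hom : 2 ^ e * m = o := Nat.ordProj_mul_ordCompl_eq_self o 2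
  have hmodd : Odd m := by
    rw [Nat.odd_iff, ← Nat.two_dvd_ne_zero]
    exact Nat.not_dvd_ordCompl Nat.prime_two ho0
  have hkm : k ≡ 1 [MOD m] := by
    have hy : orderOf (x ^ 2 ^ e) = m := by
      rw [orderOf_pow, ← ho, Nat.gcd_eq_right (Dvd.intro _ hom)]
    have h1 := hk₂ _ (hy ▸ hmodd)
    conv_rhs at h1 => rw [← pow_one (x ^ 2 ^ e)]
    rwa [pow_eq_pow_iff_modEq, hy] at h1
  have h2 : k ^ (2 ^ E) ≡ 1 [MOD 2 ^ e] := by
    rcases Nat.eq_zero_or_pos e with he | he
    · rw [he, pow_zero]; exact Nat.modEq_one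
    have heE : e ≤ E :=
      (Nat.factorization_le_iff_dvd ho0 Nat.card_pos.ne').2 (orderOf_dvd_natCard x) 2
    have hce : k.Coprime (2 ^ e) :=
      hcop.coprime_dvd_right ((Dvd.intro _ hom).trans (orderOf_dvd_natCard x))
    have h3 := (Nat.ModEq.pow_totient hce).pow (2 ^ (E - (e - 1)))
    rw [one_pow, ← pow_mul, Nat.totient_prime_pow Nat.prime_two he, show (2 : ℕ) - 1 = 1 from rfl,
      mul_one, ← pow_add, Nat.add_sub_cancel' (by omega)] at h3
    exact h3
  have h4 : k ^ (2 ^ E) ≡ 1 [MOD m] := by simpa using hkm.pow (2 ^ E)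
  have h5 : k ^ (2 ^ E) ≡ 1 [MOD 2 ^ e * m] :=
    (Nat.modEq_and_modEq_iff_modEq_mul
      ((Nat.coprime_two_left.2 hmodd).pow_left e)).1 ⟨h2, h4⟩
  rw [hom, ho, ← pow_eq_pow_iff_modEq, pow_one] at h5
  exact h5

end Arith

section Block

variable {K : Type u} [Group K] [Finite K] {M : Ideal AlgInt} [M.IsMaximal]

theorem mem_principalBlock_comp (f : K → K) (hf1 : f 1 = 1)
    (hf : ∀ x, (Subgroup.centralizer ({f x} : Set K)).index =
      (Subgroup.centralizer ({x} : Set K)).index)
    {θ θ' : IrrCharacter K} (h : ∀ x, θ'.1 x = θ.1 (f x)) (hθ : θ ∈ principalBlock M K) :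
    θ' ∈ principalBlock M K := by
  intro g
  have := hθ (f g)
  simp only [centralChar, hf] at this
  simp only [centralChar, h, hf1]
  exact this

theorem even_card_odd_degree (hpM : (2 : AlgInt) ∈ M) (hK : 2 ∣ Nat.card K) :
    Even (Nat.card {θ : IrrCharacter K // θ ∈ principalBlock M K ∧ Odd (charDegree θ.1)}) := by
  classical
  have hpM' : ((2 : ℕ) : AlgInt) ∈ M := by exact_mod_cast hpM
  haveI := Fintype.ofFinite K
  obtain ⟨x, hx⟩ := exists_prime_orderOf_dvd_card' (G := K) 2 hK
  have hne : ¬ IsConj x 1 := fun h => by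
    rw [isConj_one_left.1 h, orderOf_one] at hx
    norm_num at hx
  have horth := Blocks.block_orthogonality hpM' (g := x) (h := (1 : K)) (x := x) (y := 1)
    ⟨1, mul_one _, Commute.one_right _, ⟨1, by simpa using hx⟩, by simp⟩
    ⟨1, mul_one _, Commute.one_right _, ⟨0, by simp⟩, by simp⟩ hne
    (Blocks.isPBlock_principalBlock hpM' (G := K))
  have hval : ∀ θ : IrrCharacter K, ∃ z : ℤ, θ.1 x = (charDegree θ.1 : ℂ) + 2 * z := by
    intro θ
    obtain ⟨n, μ, h1, hμ, hval⟩ := CharInt.exists_roots (Char.irr_isCharacter θ) x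
    have h2 : ∀ i, ∃ z : ℤ, μ i = 1 + 2 * z := fun i => by
      have := hμ i
      rw [hx] at this
      rcases sq_eq_one_iff.1 this with h | h
      · exact ⟨0, by simp [h]⟩
      · exact ⟨-1, by rw [h]; norm_num⟩
    choose z hz using h2
    refine ⟨∑ i, z i, ?_⟩
    have h3 := hval 1
    rw [pow_one] at h3
    simp only [h3, pow_one, hz, Finset.sum_add_distrib, ← Finset.mul_sum, Finset.sum_const,
      Finset.card_univ, Fintype.card_fin, nsmul_one, Char.charDegree_cast, h1]
    push_cast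
    rfl
  choose z hz using hval
  set B := Finset.univ.filter (· ∈ principalBlock M K)
  have h0 : (((∑ θ ∈ B, (charDegree θ.1 : ℤ) ^ 2) +
      2 * ∑ θ ∈ B, (charDegree θ.1 : ℤ) * z θ : ℤ) : ℂ) = 0 := by
    rw [← horth]
    push_cast
    rw [Finset.mul_sum, ← Finset.sum_add_distrib]
    refine Finset.sum_congr rfl fun θ _ => ?_
    rw [hz, ← Char.charDegree_cast, map_natCast]
    ring
  have h1 : Even (∑ θ ∈ B, charDegree θ.1 ^ 2) := by
    rw [← Int.even_coe_nat]
    refine ⟨-∑ θ ∈ B, (charDegree θ.1 : ℤ) * z θ, ?_⟩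
    have : (∑ θ ∈ B, (charDegree θ.1 : ℤ) ^ 2) +
      2 * ∑ θ ∈ B, (charDegree θ.1 : ℤ) * z θ = 0 := by exact_mod_cast h0
    push_cast
    linarith
  rw [Finset.even_sum_iff_even_card_odd] at h1
  rw [Nat.card_eq_fintype_card, Fintype.card_subtype]
  convert h1 using 2
  rw [Finset.filter_filter]
  refine Finset.filter_congr fun θ _ => ?_
  simp [Nat.odd_pow_iff]

end Block

section Theta

variable {G : Type u} [Group G] [Finite G] {M : Ideal AlgInt} [M.IsMaximal]

theorem exists_theta (hpM : (2 : AlgInt) ∈ M) (K : Subgroup G) [K.Normal] (hK : 2 ∣ Nat.card K)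
    (hG : IsPGroup 2 (G ⧸ K))
    (hperf : ∀ f : K →* ℂ, (∀ x, ∃ j : ℕ, f x ^ (2 ^ j) = 1) → f = 1)
    {k : ℕ} (hk : k.Coprime (Nat.card G)) (hper : ∃ n : ℕ, ∀ x : G, x ^ (k ^ (2 ^ n)) = x) :
    ∃ θ : IrrCharacter K, θ ∈ principalBlock M K ∧ Odd (charDegree θ.1) ∧
      charDegree θ.1 ≠ 1 ∧ (∀ x : K, θ.1 (x ^ k) = θ.1 x) ∧
      ∀ g : G, Char.conjFun K θ.1 g = θ.1 := by
  classical
  have hkK : k.Coprime (Nat.card K) := hk.coprime_dvd_right (Subgroup.card_subgroup_dvd_card K)
  let T0 := {θ : IrrCharacter K // θ ∈ principalBlock M K ∧ Odd (charDegree θ.1)}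
  haveI : Finite T0 := inferInstance
  have hT0 : Even (Nat.card T0) := even_card_odd_degree hpM hK
  -- the Galois twist
  have hcent : ∀ x : K, (Subgroup.centralizer ({x ^ k} : Set K)).index =
      (Subgroup.centralizer ({x} : Set K)).index := fun x => by
    congr 1
    ext h
    simp only [Subgroup.mem_centralizer_singleton_iff]
    refine ⟨fun hh => ?_, fun hh => Commute.pow_right hh k⟩
    obtain ⟨j, hj⟩ := exists_pow_eq_self_of_coprime
      (hkK.coprime_dvd_right (orderOf_dvd_natCard x))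
    rw [← hj]
    exact Commute.pow_right hh j
  let σfun : T0 → T0 := fun t =>
    ⟨⟨fun x => t.1.1 (x ^ k), CharInt.isIrrCharacter_pow t.1.2 hkK⟩,
      mem_principalBlock_comp (· ^ k) (one_pow k) hcent (fun _ => rfl) t.2.1, by
      have : charDegree (fun x : K => t.1.1 (x ^ k)) = charDegree t.1.1 := by simp [charDegree]
      rw [this]; exact t.2.2⟩
  have hσi : Function.Injective σfun := by
    intro a b h
    refine Subtype.ext (Subtype.ext (funext fun x => ?_))
    obtain ⟨y, rfl⟩ := (powCoprime (G := K) hkK.symm).surjective x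
    exact congrFun (congrArg (fun t : T0 => t.1.1) h) y
  let σ : Equiv.Perm T0 := Equiv.ofBijective σfun (Finite.injective_iff_bijective.1 hσi)
  have hσj : ∀ (j : ℕ) (t : T0) (x : K), ((σ ^ j) t).1.1 x = t.1.1 (x ^ (k ^ j)) := by
    intro j
    induction j with
    | zero => intro t x; simp
    | succ j ih =>
      intro t x
      rw [pow_succ, Equiv.Perm.mul_apply, ih]
      show t.1.1 ((x ^ k ^ j) ^ k) = _
      rw [← pow_mul, ← pow_succ]
  obtain ⟨n, hn⟩ := hper
  have hσ : σ ^ (2 ^ n) = 1 := Equiv.ext fun t => Subtype.ext (Subtype.ext (funext fun x => by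
    rw [hσj, Equiv.Perm.one_apply, show x ^ (k ^ 2 ^ n) = x from
      Subtype.ext (by rw [Subgroup.coe_pow]; exact hn x)]))
  let T1 := {θ : IrrCharacter K // θ ∈ principalBlock M K ∧ Odd (charDegree θ.1) ∧
    ∀ x : K, θ.1 (x ^ k) = θ.1 x}
  haveI : Finite T1 := inferInstance
  have hT1 : Even (Nat.card T1) := by
    have e : {t : T0 // σ t = t} ≃ T1 :=
      { toFun := fun t => ⟨t.1.1, t.1.2.1, t.1.2.2,
          fun x => congrFun (congrArg (fun t : T0 => t.1.1) t.2) x⟩
        invFun := fun t => ⟨⟨t.1, t.2.1, t.2.2.1⟩, Subtype.ext (Subtype.ext (funext t.2.2.2))⟩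
        left_inv := fun t => rfl
        right_inv := fun t => rfl }
    rw [← Nat.card_congr e, Nat.even_iff]
    rw [Nat.even_iff] at hT0
    exact Eq.trans (modEq_fixed_perm σ hσ).symm hT0
  -- conjugation
  have hconj : ∀ (g : G) (x : K),
      (Subgroup.centralizer ({MulAut.conjNormal g x} : Set K)).index =
      (Subgroup.centralizer ({x} : Set K)).index := fun g x => by
    set a : MulAut K := MulAut.conjNormal g
    have : Subgroup.centralizer ({x} : Set K) =
        (Subgroup.centralizer ({a x} : Set K)).comap a.toMonoidHom := by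
      ext h
      simp only [Subgroup.mem_comap, Subgroup.mem_centralizer_singleton_iff]
      change h * x = x * h ↔ a h * a x = a x * a h
      rw [← map_mul, ← map_mul, a.injective.eq_iff]
    rw [this]
    exact (Subgroup.index_comap_of_surjective (Subgroup.centralizer ({a x} : Set K))
      (f := a.toMonoidHom) a.surjective).symm
  let cfun : G → T1 → T1 := fun g t => ⟨Char.conjChar K t.1 g,
    mem_principalBlock_comp _ (map_one _) (hconj g) (fun _ => rfl) t.2.1,
    by rw [show charDegree (Char.conjChar K t.1 g).1 = charDegree t.1.1 by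
      simp [charDegree, Char.conjFun_apply_one]]; exact t.2.2.1,
    fun x => by
      show t.1.1 (MulAut.conjNormal g (x ^ k)) = t.1.1 (MulAut.conjNormal g x)
      rw [map_pow]
      exact t.2.2.2 _⟩
  have hcmul : ∀ g h t, cfun (g * h) t = cfun h (cfun g t) := fun g h t =>
    Subtype.ext (Subtype.ext (Char.conjFun_mul K t.1.1 g h))
  have hc1 : ∀ t, cfun 1 t = t := fun t =>
    Subtype.ext (Subtype.ext (Char.conjFun_one K t.1.1))
  let Φ : G →* Equiv.Perm T1 :=
    { toFun := fun g => ⟨cfun g⁻¹, cfun g,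
        fun t => by rw [← hcmul, inv_mul_cancel, hc1],
        fun t => by rw [← hcmul, mul_inv_cancel, hc1]⟩
      map_one' := Equiv.ext fun t => by
        show cfun 1⁻¹ t = t
        rw [inv_one, hc1]
      map_mul' := fun g h => Equiv.ext fun t => by
        show cfun (g * h)⁻¹ t = cfun g⁻¹ (cfun h⁻¹ t)
        rw [mul_inv_rev, hcmul] }
  have hΦ : ∀ g, ∃ j : ℕ, Φ g ^ (2 ^ j) = 1 := by
    intro g
    obtain ⟨j, hj⟩ := hG g
    refine ⟨j, ?_⟩
    have hgK : g ^ 2 ^ j ∈ K := by
      rwa [← QuotientGroup.mk_pow, QuotientGroup.eq_one_iff] at hj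
    rw [← map_pow]
    refine Equiv.ext fun t => Subtype.ext (Subtype.ext (funext fun x => ?_))
    show t.1.1 (MulAut.conjNormal (g ^ 2 ^ j)⁻¹ x) = t.1.1 x
    rw [show MulAut.conjNormal (g ^ 2 ^ j)⁻¹ x =
      (⟨g ^ 2 ^ j, hgK⟩ : K)⁻¹ * x * ((⟨g ^ 2 ^ j, hgK⟩ : K)⁻¹)⁻¹ from Subtype.ext (by rw [MulAut.conjNormal_apply]; simp [mul_assoc])]
    exact Char.IsCharacter.isClassFunction (Char.irr_isCharacter t.1) x _
  let T2 := {t : T1 // ∀ g, Φ g t = t}
  haveI : Finite T2 := inferInstance
  have hT2 : Even (Nat.card T2) := by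
    rw [Nat.even_iff] at hT1 ⊢
    exact Eq.trans (modEq_fixed Φ hΦ).symm hT1
  have hfix : ∀ (t : T2) (g : G), Char.conjFun K t.1.1.1 g = t.1.1.1 := fun t g => by
    have h := congrArg (fun t : T1 => t.1.1) (t.2 g⁻¹)
    change Char.conjFun K t.1.1.1 g⁻¹⁻¹ = _ at h
    rwa [inv_inv] at h
  by_contra hcon
  push Not at hcon
  have hlin : ∀ t : T2, charDegree t.1.1.1 = 1 := fun t => by
    by_contra h
    obtain ⟨g, hg⟩ := hcon t.1.1 t.1.2.1 t.1.2.2.1 h t.1.2.2.2
    exact hg (hfix t g)
  -- the inversion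
  have hinvc : ∀ x : K, (Subgroup.centralizer ({x⁻¹} : Set K)).index =
      (Subgroup.centralizer ({x} : Set K)).index := fun x => by
    congr 1
    ext h
    simp only [Subgroup.mem_centralizer_singleton_iff]
    exact Commute.inv_right_iff
  have hconjv : ∀ (θ : IrrCharacter K) (x : K), conj (θ.1 x) = θ.1 x⁻¹ := fun θ x =>
    (CharInt.char_inv (Char.irr_isCharacter θ) x).symm
  let ιfun : T2 → T2 := fun t =>
    ⟨⟨⟨fun x => conj (t.1.1.1 x), Char.IsIrrCharacter.conj_fun t.1.1.2⟩,
      mem_principalBlock_comp (·⁻¹) inv_one hinvc (hconjv t.1.1) t.1.2.1,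
      by
        rw [show charDegree (fun x : K => conj (t.1.1.1 x)) = charDegree t.1.1.1 by
          simp [charDegree]]
        exact t.1.2.2.1,
      fun x => by simp only [t.1.2.2.2]⟩,
      fun g => by
        refine Subtype.ext (Subtype.ext (funext fun x => ?_))
        show conj (t.1.1.1 (MulAut.conjNormal g⁻¹ x)) = conj (t.1.1.1 x)
        exact congrArg _ (congrFun (hfix t g⁻¹) x)⟩
  have hιinv : Function.Involutive ιfun := fun t =>
    Subtype.ext (Subtype.ext (Subtype.ext (funext fun x => Complex.conj_conj _)))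
  have hι2 : (Function.Involutive.toPerm ιfun hιinv) ^ (2 ^ 1) = 1 := Equiv.ext fun t => by
    rw [pow_one, pow_two, Equiv.Perm.mul_apply]
    exact hιinv t
  let one2 : T2 := ⟨⟨Char.trivialChar K, Blocks.sameBlock_refl _,
    by rw [show charDegree (Char.trivialChar K).1 = 1 by simp [charDegree]]; exact odd_one,
    fun x => rfl⟩, fun g => Subtype.ext (Subtype.ext rfl)⟩
  haveI : Subsingleton {t : T2 // (Function.Involutive.toPerm ιfun hιinv) t = t} := by
    suffices h : ∀ t : T2, ιfun t = t → t.1.1 = Char.trivialChar K from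
      ⟨fun a b => Subtype.ext (Subtype.ext (Subtype.ext ((h a.1 a.2).trans (h b.1 b.2).symm)))⟩
    intro t ht
    obtain ⟨f, hf⟩ := Char.IsCharacter.exists_monoidHom (Char.irr_isCharacter t.1.1)
      (by rw [← Char.charDegree_cast, hlin, Nat.cast_one])
    have h1 : f = 1 := hperf f fun x => ⟨1, by
      have h2 : conj (t.1.1.1 x) = t.1.1.1 x :=
        congrFun (congrArg (fun s : T2 => s.1.1.1) ht) x
      rw [hconjv, ← hf] at h2
      rw [pow_one, pow_two]
      conv_lhs => arg 1; rw [← h2]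
      rw [← map_mul, inv_mul_cancel, map_one]⟩
    exact Subtype.ext (funext fun x => by rw [← hf, h1]; rfl)
  have hodd : Nat.card {t : T2 // (Function.Involutive.toPerm ιfun hιinv) t = t} = 1 := by
    haveI : Nonempty {t : T2 // (Function.Involutive.toPerm ιfun hιinv) t = t} :=
      ⟨⟨one2, Subtype.ext (Subtype.ext (Subtype.ext (funext fun x => map_one _)))⟩⟩
    exact Nat.card_eq_one_iff_unique.2 ⟨inferInstance, inferInstance⟩
  have h := modEq_fixed_perm _ hι2
  rw [hodd] at h
  rw [Nat.even_iff] at hT2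
  rw [Nat.ModEq, hT2] at h
  norm_num at h

end Theta

/-- Let G be a finite group and M a maximal ideal of the algebraic integers containing 2. Let k be a natural number with g ^ k = g ^ 3 for every 2-element g and g ^ k = g for every element g of odd order (such k exist); an irreducible character χ is unchanged by g ↦ g ^ k exactly when it is fixed by the field automorphism that cubes the 2-power roots of unity and fixes the roots of unity of odd order. Then G has a normal 2-complement if and only if every member χ of the principal 2-block of odd degree with χ (g ^ k) = χ g for all g has degree one. -/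
theorem result {G : Type*} [Group G] [Finite G] (M : Ideal Cfsg.AlgInt) (hM : Cfsg.IsPModular 2 M) (k : ℕ) (hk₁ : ∀ g : G, (∃ j : ℕ, orderOf g = 2 ^ j) → g ^ k = g ^ 3) (hk₂ : ∀ g : G, Odd (orderOf g) → g ^ k = g) : Cfsg.HasNormalPComplement 2 G ↔ ∀ χ ∈ Cfsg.principalBlock M G, Odd (Cfsg.charDegree (χ : G → ℂ)) → (∀ g : G, (χ : G → ℂ) (g ^ k) = (χ : G → ℂ) g) → Cfsg.charDegree (χ : G → ℂ) = 1 := by
  classical
  obtain ⟨-, hMmax, hpM⟩ := hM
  haveI := hMmax
  haveI := Fintype.ofFinite G
  constructor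
  · intro h χ hχ hodd _
    obtain ⟨hidx, -⟩ := DefectOne.index_pPrimeCore_of_hasNormalPComplement h
    rw [Blocks.principalBlock_eq_of_index hpM ⟨_, hidx⟩] at hχ
    have h1 := Char.card_kernel_mul_charDegree_dvd χ
    have h2 : Nat.card (pPrimeCore 2 G) ∣ Nat.card {g : G // χ.1 g = χ.1 1} := by
      rw [show Nat.card {g : G // χ.1 g = χ.1 1} =
        Nat.card (CharInt.charKernel (Char.irr_isCharacter χ)) from
        Nat.card_congr (Equiv.subtypeEquivRight fun g => (CharInt.mem_charKernel _).symm)]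
      exact Subgroup.card_dvd_of_le fun n hn => (CharInt.mem_charKernel _).2 (hχ n hn)
    have h3 := (Nat.mul_dvd_mul_right h2 _).trans h1
    rw [← Subgroup.card_mul_index (pPrimeCore 2 G), hidx] at h3
    have h4 := Nat.dvd_of_mul_dvd_mul_left Nat.card_pos h3
    exact Nat.eq_one_of_dvd_coprimes ((Nat.coprime_two_left.2 hodd).pow_left _).symm dvd_rfl h4
  · intro h
    haveI := Transfer.pResidual_normal (G := G) 2
    set K := Cfsg.pResidual 2 G with hKdef
    refine Transfer.hasNormalPComplement_iff.2 fun hK => ?_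
    have hperf : ∀ f : K →* ℂ, (∀ x, ∃ j : ℕ, f x ^ (2 ^ j) = 1) → f = 1 := by
      intro f hf
      have h1 : Cfsg.pResidual 2 K ≤ f.toHomUnits.ker := by
        rw [Transfer.pResidual_eq_residual]
        refine Transfer.residual_le_ker _ 2 fun x => ?_
        obtain ⟨j, hj⟩ := hf x
        exact ⟨j, Units.ext (by simpa using hj)⟩
      rw [Transfer.pResidual_pResidual 2] at h1
      ext x
      exact congrArg Units.val (h1 (Subgroup.mem_top x))
    have hcop := coprime_card hk₁ hk₂
    obtain ⟨θ, hθB, hθodd, hθ1, hθk, hθinv⟩ := exists_theta (M := M) (by exact_mod_cast hpM) K hK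
      (Transfer.isPGroup_quotient_pResidual 2) hperf hcop (exists_period hk₁ hk₂)
    obtain ⟨N, hN⟩ := Transfer.index_pResidual_eq_pow (G := G) 2
    rw [← hKdef] at hN
    haveI := Fintype.ofFinite K
    set a := (Nat.card K).factorization 2
    set m := Nat.card K / 2 ^ a
    have hmodd : Odd m := by
      rw [Nat.odd_iff, ← Nat.two_dvd_ne_zero]
      exact Nat.not_dvd_ordCompl Nat.prime_two Nat.card_pos.ne'
    have hm0 : m ≠ 0 := hmodd.pos.ne'
    have hdet : ∀ n : K, Clifford.detChar θ n ^ m = 1 := by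
      have h1 := hperf ((powMonoidHom m).comp (Clifford.detChar θ)) fun x => ⟨a, by
        show (Clifford.detChar θ x ^ m) ^ 2 ^ a = 1
        rw [← pow_mul, mul_comm, Nat.ordProj_mul_ordCompl_eq_self, Clifford.detChar_pow_card]⟩
      exact fun n => DFunLike.congr_fun h1 n
    have hθd : Odd (Char.degree θ) := by rw [← Char.charDegree_eq_degree]; exact hθodd
    have hco : Nat.Coprime K.index (Char.degree θ * m) := by
      rw [hN]
      exact (Nat.coprime_two_left.2 (hθd.mul hmodd)).pow_left N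
    obtain ⟨χ, ⟨hχK, hχdet⟩, huniq⟩ :=
      Clifford.existsUnique_extension_of_coprime θ hθinv hm0 hdet hco
    have hdeg : charDegree χ.1 = charDegree θ.1 := by
      simp [charDegree, ← hχK 1]
    -- Galois fixed
    have hfix : ∀ g, χ.1 (g ^ k) = χ.1 g := by
      let χ' : IrrCharacter G := ⟨fun g => χ.1 (g ^ k), CharInt.isIrrCharacter_pow χ.2 hcop⟩
      have h1 : χ' = χ := huniq χ' ⟨fun n => by
          show χ.1 ((n : G) ^ k) = θ.1 n
          rw [← Subgroup.coe_pow, hχK, hθk], fun g => by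
          obtain ⟨d, μ, hμ, hsum, hd⟩ := RelDeg.exists_eigen χ g
          obtain ⟨d', ν, hν, hsum', hd'⟩ := RelDeg.exists_eigen χ' g
          have h2 : ∏ i, ν i = ∏ i, μ i ^ k :=
            RelDeg.prod_eq_of_pow_sum_eq (orderOf_pos g).ne' ν (fun i => μ i ^ k) hν
              (fun i => by rw [← pow_mul, mul_comm, pow_mul, hμ, one_pow]) fun j _ => by
              rw [← hsum']
              show χ.1 ((g ^ j) ^ k) = _
              rw [← pow_mul, hsum]
              exact Finset.sum_congr rfl fun i _ => by rw [← pow_mul, mul_comm]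
          rw [hd', h2, Finset.prod_pow, ← hd, ← pow_mul, mul_comm, pow_mul, hχdet, one_pow]⟩
      intro g
      exact congrFun (congrArg Subtype.val h1) g
    -- the block
    have hpM' : ((2 : ℕ) : AlgInt) ∈ M := hpM
    haveI := Fact.mk Nat.prime_two
    have hB : χ ∈ principalBlock M G := by
      refine Blocks.sameBlock_of_regular hpM' (χ := Char.trivialChar G) fun g hg => ?_
      have hgK : g ∈ K := by
        refine (QuotientGroup.eq_one_iff g).1 (orderOf_eq_one_iff.1 ?_)
        have h1 : orderOf (g : G ⧸ K) ∣ orderOf g := orderOf_map_dvd (QuotientGroup.mk' K) g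
        have h2 : orderOf (g : G ⧸ K) ∣ 2 ^ N :=
          hN ▸ (Subgroup.index_eq_card K ▸ orderOf_dvd_natCard _)
        exact Nat.eq_one_of_dvd_coprimes
          (((Nat.prime_two.coprime_iff_not_dvd.2 hg).symm).pow_right N) h1 h2
      set C := Subgroup.centralizer ({g} : Set G)
      have hC : Subgroup.centralizer ({(⟨g, hgK⟩ : K)} : Set K) = C.subgroupOf K := by
        ext x
        simp [C, Subgroup.mem_subgroupOf, Subgroup.mem_centralizer_singleton_iff, Subtype.ext_iff]
      obtain ⟨c, hc⟩ : C.relIndex K ∣ C.index := by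
        obtain ⟨d, hd⟩ := Subgroup.relIndex_dvd_index_of_normal K C
        have e := (Subgroup.relIndex_mul_index (H := C ⊓ K) (K := K) inf_le_right).trans
          (Subgroup.relIndex_mul_index (H := C ⊓ K) (K := C) inf_le_left).symm
        rw [Subgroup.inf_relIndex_right, Subgroup.inf_relIndex_left, hd] at e
        refine ⟨d, mul_left_cancel₀ (Nat.ne_of_gt
          (Nat.pos_of_ne_zero (K.subgroupOf C).index_ne_zero_of_finite)) ?_⟩
        change K.relIndex C * C.index = K.relIndex C * _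
        rw [← e]
        ring
      have h2 := hθB ⟨g, hgK⟩
      have h3 : centralChar (Char.trivialChar G).1 g - centralChar χ.1 g =
          (c : ℂ) * (centralChar (fun _ : K => (1 : ℂ)) ⟨g, hgK⟩ -
            centralChar θ.1 ⟨g, hgK⟩) := by
        have e1 : χ.1 g = θ.1 ⟨g, hgK⟩ := hχK ⟨g, hgK⟩
        have e2 : χ.1 1 = θ.1 1 := hχK 1
        have e3 : (C.subgroupOf K).index = C.relIndex K := rfl
        simp only [centralChar, hC, e3, e1, e2, Char.trivialChar_apply]
        rw [show (Subgroup.centralizer ({g} : Set G)).index = C.relIndex K * c from hc]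
        push_cast
        ring
      rw [h3]
      exact Blocks.MemLocalIdeal.mul_left (Blocks.memLocalRing_natCast _) h2
    have := h χ hB (hdeg ▸ hθodd) hfix
    exact hθ1 (hdeg ▸ this)

end Cfsg.Agent.S4549
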