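import Cfsg.Statements.S4550
import Cfsg.Agent.Lib.Blocks.Core
import Cfsg.Agent.Lib.CharInt.Galois
import Cfsg.Agent.Lib.BlockCount.Involve

open scoped Cfsg.Agent.Blocks

set_option autoImplicit false
open Cfsg

namespace Cfsg.Agent.S4550

/-- Let G be a finite group of even order and M a maximal ideal of the algebraic integers containing 2. Let k be a natural number with g ^ k = g ^ 3 for every 2-element g and g ^ k = g for every element g of odd order (such k exist); an irreducible character χ is unchanged by g ↦ g ^ k exactly when it is fixed by the field automorphism that cubes the 2-power roots of unity and fixes the roots of unity of odd order. Then the number of members χ of the principal 2-block of odd degree with χ (g ^ k) = χ g for all g is even. -/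
theorem result {G : Type*} [Group G] [Finite G] (M : Ideal Cfsg.AlgInt) (hM : Cfsg.IsPModular 2 M) (hev : Even (Nat.card G)) (k : ℕ) (hk₁ : ∀ g : G, (∃ j : ℕ, orderOf g = 2 ^ j) → g ^ k = g ^ 3) (hk₂ : ∀ g : G, Odd (orderOf g) → g ^ k = g) : Even (Nat.card {χ : Cfsg.IrrCharacter G // χ ∈ Cfsg.principalBlock M G ∧ Odd (Cfsg.charDegree (χ : G → ℂ)) ∧ ∀ g : G, (χ : G → ℂ) (g ^ k) = (χ : G → ℂ) g}) := by
  classical
  letI := Fintype.ofFinite G
  haveI := hM.2.1
  haveI : Fact (Nat.Prime 2) := ⟨Nat.prime_two⟩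
  have hpM := hM.2.2
  haveI := Blocks.charP_residue (M := M) hpM
  set B0 := Cfsg.principalBlock M G with hB0
  have hB0blk : Cfsg.IsPBlock M B0 := Blocks.isPBlock_principalBlock hpM
  -- the exponent condition on `k`
  set e := 2 ^ ((Nat.card G).factorization 2) with he
  have hkpow : ∀ g : G, g ^ (k ^ e) = g := by
    intro g
    set m := orderOf g with hm
    have hm0 : m ≠ 0 := (orderOf_pos g).ne'
    set b := m.factorization 2 with hb
    have hm2 : 2 ^ b * (m / 2 ^ b) = m := Nat.ordProj_mul_ordCompl_eq_self m 2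
    have hodd : ¬ 2 ∣ m / 2 ^ b := Nat.not_dvd_ordCompl Nat.prime_two hm0
    have h1 : k ≡ 1 [MOD m / 2 ^ b] := by
      have ho : orderOf (g ^ 2 ^ b) = m / 2 ^ b := by
        rw [orderOf_pow' _ (pow_ne_zero _ two_ne_zero), ← hm,
          Nat.gcd_eq_right (Nat.ordProj_dvd m 2)]
      have := hk₂ (g ^ 2 ^ b) (by rw [ho]; exact Nat.odd_iff.2 (Nat.two_dvd_ne_zero.1 hodd))
      conv_rhs at this => rw [← pow_one (g ^ 2 ^ b)]
      have := pow_eq_pow_iff_modEq.1 this
      rwa [ho] at this
    have h2 : k ≡ 3 [MOD 2 ^ b] := by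
      have ho : orderOf (g ^ (m / 2 ^ b)) = 2 ^ b := by
        rw [orderOf_pow' _ (Nat.ordCompl_pos 2 hm0).ne', ← hm,
          Nat.gcd_eq_right (Nat.ordCompl_dvd m 2)]
        conv_lhs => arg 1; rw [← hm2]
        exact Nat.mul_div_cancel _ (Nat.ordCompl_pos 2 hm0)
      have := pow_eq_pow_iff_modEq.1 (hk₁ (g ^ (m / 2 ^ b)) ⟨b, ho⟩)
      rwa [ho] at this
    have hbe : 2 ^ b ∣ e := pow_dvd_pow 2 ((Nat.factorization_le_iff_dvd hm0 Nat.card_pos.ne').2
      (orderOf_dvd_natCard g) 2)
    have h3 : k ^ e ≡ 1 [MOD 2 ^ b] := by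
      refine (h2.pow e).trans ?_
      have ht : Nat.totient (2 ^ b) ∣ e := by
        rcases Nat.eq_zero_or_pos b with hb0 | hb0
        · rw [hb0]; simp
        · rw [Nat.totient_prime_pow Nat.prime_two hb0, show (2 : ℕ) - 1 = 1 from rfl, mul_one]
          exact (pow_dvd_pow 2 (Nat.sub_le b 1)).trans hbe
      obtain ⟨d, hd⟩ := ht
      rw [hd, pow_mul]
      simpa using (Nat.ModEq.pow_totient
        (Nat.Coprime.pow_right b (by decide : Nat.Coprime 3 2))).pow d
    have h4 : k ^ e ≡ 1 [MOD m / 2 ^ b] := by simpa using h1.pow e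
    have h5 : k ^ e ≡ 1 [MOD m] := by
      rw [← hm2]
      exact (Nat.modEq_and_modEq_iff_modEq_mul
        ((Nat.prime_two.coprime_iff_not_dvd.2 hodd).pow_left b)).1 ⟨h3, h4⟩
    conv_rhs => rw [← pow_one g]
    exact pow_eq_pow_iff_modEq.2 h5
  have hkcop : k.Coprime (Nat.card G) := by
    by_contra hc
    obtain ⟨q, hq, hqk, hqG⟩ := Nat.Prime.not_coprime_iff_dvd.1 hc
    haveI := Fact.mk hq
    obtain ⟨x, hx⟩ := exists_prime_orderOf_dvd_card' q hqG
    have h1 := hkpow x
    obtain ⟨d, hd⟩ := dvd_pow hqk (pow_ne_zero _ two_ne_zero : e ≠ 0)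
    rw [hd, pow_mul, ← hx, pow_orderOf_eq_one, one_pow] at h1
    rw [← h1, orderOf_one] at hx
    exact hq.ne_one hx.symm
  have hcent : ∀ g : G, Subgroup.centralizer ({g ^ k} : Set G) =
      Subgroup.centralizer ({g} : Set G) := by
    intro g
    obtain ⟨l, hl⟩ := exists_pow_eq_self_of_coprime
      (Nat.Coprime.coprime_dvd_right (orderOf_dvd_natCard g) hkcop)
    ext z
    simp only [Subgroup.mem_centralizer_singleton_iff]
    refine ⟨fun hz => ?_, fun hz => (Commute.pow_right (show Commute z g from hz) k).eq⟩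
    have := Commute.pow_right (show Commute z (g ^ k) from hz) l
    rw [hl] at this
    exact this.eq
  -- the set of odd degree members
  set S := Finset.univ.filter
    (fun χ : Cfsg.IrrCharacter G => χ ∈ B0 ∧ Odd (Cfsg.charDegree (χ : G → ℂ))) with hS
  have hSeven : Even S.card := by
    obtain ⟨x, hx⟩ := exists_prime_orderOf_dvd_card' 2 hev.two_dvd
    have horth := Blocks.weak_orthogonality hpM hB0blk (x := 1) (y := x)
      (by simp [Cfsg.IsPRegular]) (by rw [Blocks.not_isPRegular_iff, hx])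
    have hint : ∀ (χ : Cfsg.IrrCharacter G) (z : G), Cfsg.MemLocalRing M ((χ : G → ℂ) z) :=
      fun χ z => Blocks.memLocalRing_of_isIntegral (CharInt.isIntegral_char (Char.irr_isCharacter χ) z)
    have hred : ∀ χ : Cfsg.IrrCharacter G,
        Blocks.red M ((χ : G → ℂ) 1 * (starRingEnd ℂ) ((χ : G → ℂ) x)) =
          ((Char.degree χ : ℕ) : Cfsg.AlgInt ⧸ M) * (Char.degree χ : Cfsg.AlgInt ⧸ M) := by
      intro χ
      obtain ⟨n, μ, hn, hμ, hval⟩ := CharInt.exists_roots (Char.irr_isCharacter χ) x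
      rw [Char.IsCharacter.conj_apply (Char.irr_isCharacter χ) x,
        show x⁻¹ = x from inv_eq_of_mul_eq_one_right (by rw [← sq, ← hx, pow_orderOf_eq_one]),
        Blocks.red_mul (hint χ 1) (hint χ x), Char.apply_one_eq_degree, Blocks.red_natCast]
      congr 1
      have h1 := hval 1
      simp only [pow_one] at h1
      have hμr : ∀ i, Cfsg.MemLocalRing M (μ i) ∧ Blocks.red M (μ i) = 1 := by
        intro i
        have h2 := hμ i
        rw [hx] at h2
        rcases sq_eq_one_iff.1 h2 with h3 | h3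
        · exact ⟨by rw [h3]; exact Blocks.memLocalRing_one, by rw [h3, Blocks.red_one]⟩
        · refine ⟨by rw [h3]; exact Blocks.MemLocalRing.neg Blocks.memLocalRing_one, ?_⟩
          rw [h3, Blocks.red_neg Blocks.memLocalRing_one, Blocks.red_one]
          exact (CharTwo.neg_eq (1 : Cfsg.AlgInt ⧸ M))
      rw [h1, Blocks.red_sum _ (fun i _ => (hμr i).1), Finset.sum_congr rfl (fun i _ => (hμr i).2)]
      have : n = Char.degree χ := by
        rw [Char.apply_one_eq_degree] at hn; exact_mod_cast hn.symm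
      simp [this]
    have h0 := congrArg (Blocks.red M) horth
    rw [Blocks.red_zero, Blocks.red_sum _ fun χ _ => ?_, Finset.sum_congr rfl fun χ _ => hred χ] at h0
    swap
    · refine Blocks.MemLocalRing.mul (hint χ 1) ?_
      rw [Char.IsCharacter.conj_apply (Char.irr_isCharacter χ) x]
      exact hint χ x⁻¹
    have hsq : ∀ d : ℕ, ((d : ℕ) : Cfsg.AlgInt ⧸ M) * (d : Cfsg.AlgInt ⧸ M) =
        if Odd d then 1 else 0 := by
      intro d
      rw [← Nat.cast_mul]
      split_ifs with hd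
      · obtain ⟨c, rfl⟩ := hd
        rw [show (2 * c + 1) * (2 * c + 1) = 2 * (2 * c * c + 2 * c) + 1 by ring, Nat.cast_add,
          Nat.cast_one, Nat.cast_mul, CharP.cast_eq_zero, zero_mul, zero_add]
      · obtain ⟨c, rfl⟩ := even_iff_two_dvd.1 (Nat.not_odd_iff_even.1 hd)
        rw [mul_assoc, Nat.cast_mul, CharP.cast_eq_zero, zero_mul]
    simp only [hsq, ← BlockCount.charDegree_eq_degree] at h0
    rw [← Finset.sum_filter, Finset.sum_const, nsmul_eq_mul, mul_one, Finset.filter_filter,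
      CharP.cast_eq_zero_iff (Cfsg.AlgInt ⧸ M) 2] at h0
    exact even_iff_two_dvd.2 (by convert h0)
  -- the permutation
  have hpowirr : ∀ (χ : Cfsg.IrrCharacter G) (j : ℕ),
      Cfsg.IsIrrCharacter G (fun g => (χ : G → ℂ) (g ^ (k ^ j))) := fun χ j =>
    CharInt.isIrrCharacter_pow χ.2 (Nat.Coprime.pow_left j hkcop)
  have hmemS : ∀ χ ∈ S, ∀ ψ : Cfsg.IrrCharacter G, (∀ g, (ψ : G → ℂ) g = (χ : G → ℂ) (g ^ k)) →
      ψ ∈ S := by
    intro χ hχ ψ hψ
    simp only [hS, Finset.mem_filter, Finset.mem_univ, true_and] at hχ ⊢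
    have h1 : (ψ : G → ℂ) 1 = (χ : G → ℂ) 1 := by rw [hψ, one_pow]
    refine ⟨fun g => ?_, by unfold Cfsg.charDegree at hχ ⊢; rw [h1]; exact hχ.2⟩
    have h2 : Cfsg.MemLocalIdeal M (Cfsg.centralChar (fun _ : G => (1 : ℂ)) (g ^ k) -
        Cfsg.centralChar (χ : G → ℂ) (g ^ k)) := hχ.1 (g ^ k)
    have e1 : Cfsg.centralChar (fun _ : G => (1 : ℂ)) (g ^ k) =
        Cfsg.centralChar (fun _ : G => (1 : ℂ)) g := by
      simp [Cfsg.centralChar, hcent]
    have e2 : Cfsg.centralChar (χ : G → ℂ) (g ^ k) = Cfsg.centralChar (ψ : G → ℂ) g := by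
      rw [Cfsg.centralChar, Cfsg.centralChar, hcent, hψ, h1]
    rwa [e1, e2] at h2
  let T : S → S := fun χ => ⟨⟨fun g => (χ.1 : G → ℂ) (g ^ k),
    CharInt.isIrrCharacter_pow χ.1.2 hkcop⟩, hmemS χ.1 χ.2 _ fun g => rfl⟩
  have hTpow : ∀ (j : ℕ) (χ : S) (g : G),
      (((T^[j]) χ).1 : G → ℂ) g = (χ.1 : G → ℂ) (g ^ (k ^ j)) := by
    intro j
    induction j with
    | zero => intro χ g; simp
    | succ j ih =>
      intro χ g
      rw [Function.iterate_succ_apply', pow_succ', pow_mul]
      exact ih χ (g ^ k)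
  have hTid : ∀ χ : S, (T^[e]) χ = χ := fun χ =>
    Subtype.ext (Subtype.ext (funext fun g => by rw [hTpow, hkpow]))
  have hTbij : Function.Bijective T := by
    refine Finite.injective_iff_bijective.1 fun χ ψ h => ?_
    have := congrArg (T^[e - 1]) h
    rwa [← Function.iterate_succ_apply, ← Function.iterate_succ_apply,
      show (e - 1).succ = e from Nat.succ_pred_eq_of_pos (Nat.two_pow_pos _), hTid, hTid] at this
  let σ : Equiv.Perm S := Equiv.ofBijective T hTbij
  have hσ : σ ^ e = 1 := Equiv.ext fun χ => by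
    rw [Equiv.Perm.coe_pow, Equiv.Perm.one_apply]
    exact hTid χ
  have hmod := Equiv.Perm.card_compl_support_modEq (p := 2) (n := (Nat.card G).factorization 2) hσ
  have hcard : Nat.card {χ : Cfsg.IrrCharacter G // χ ∈ B0 ∧
      Odd (Cfsg.charDegree (χ : G → ℂ)) ∧ ∀ g : G, (χ : G → ℂ) (g ^ k) = (χ : G → ℂ) g} =
      (σ.supportᶜ).card := by
    rw [← Nat.card_eq_finsetCard]
    refine Nat.card_congr
      { toFun := fun χ => ⟨⟨χ.1, by
          simp only [hS, Finset.mem_filter, Finset.mem_univ, true_and]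
          exact ⟨χ.2.1, χ.2.2.1⟩⟩, by
          simp only [Finset.mem_compl, Equiv.Perm.notMem_support]
          exact Subtype.ext (Subtype.ext (funext χ.2.2.2))⟩
        invFun := fun χ => ⟨χ.1.1, by
          have h1 := Finset.mem_filter.1 χ.1.2
          have h2 := Equiv.Perm.notMem_support.1 (Finset.mem_compl.1 χ.2)
          exact ⟨h1.2.1, h1.2.2, fun g =>
            congrFun (congrArg (fun z : S => (z.1 : G → ℂ)) h2) g⟩⟩
        left_inv := fun χ => rfl
        right_inv := fun χ => rfl }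
  rw [hcard, Nat.even_iff, hmod, Fintype.card_coe]
  exact Nat.even_iff.1 hSeven

end Cfsg.Agent.S4550
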