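import Cfsg.Statements.S4551
import Cfsg.Agent.Lib.BlockLow.PrincipalExt


set_option autoImplicit false
open Cfsg

namespace Cfsg.Agent.S4551

/-- Let N be a normal subgroup of the finite group G of index prime to p, P a Sylow p-subgroup of G with G = N·C_G(P), and M a maximal ideal of the algebraic integers containing p. Then restriction to N is a bijection from the principal p-block of G onto the principal p-block of N: every member of the principal block of G restricts to a member of the principal block of N, and every member of the principal block of N is the restriction of exactly one member of the principal block of G. -/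
theorem result {G : Type*} [Group G] [Finite G] (p : ℕ) [Fact p.Prime] (M : Ideal Cfsg.AlgInt) (hM : Cfsg.IsPModular p M) (N : Subgroup G) [N.Normal] (hidx : ¬ p ∣ N.index) (P : Sylow p G) (hsup : N ⊔ Subgroup.centralizer ((P : Subgroup G) : Set G) = ⊤) : (∀ χ ∈ Cfsg.principalBlock M G, ∃ θ ∈ Cfsg.principalBlock M ↥N, ∀ n : N, (χ : G → ℂ) n = (θ : N → ℂ) n) ∧ ∀ θ ∈ Cfsg.principalBlock M ↥N, ∃! χ : Cfsg.IrrCharacter G, χ ∈ Cfsg.principalBlock M G ∧ ∀ n : N, (χ : G → ℂ) n = (θ : N → ℂ) n := by
  classical
  letI := Fintype.ofFinite G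
  haveI := Fintype.ofFinite N
  have hsup' : N ⊔ TICent.cen P = ⊤ := hsup
  have key : ∀ θ ∈ Cfsg.principalBlock M N, ∀ χ ∈ Cfsg.principalBlock M G,
      Cfsg.classInner (Char.resFun N χ.1) θ.1 ≠ 0 → ∀ n : N, χ.1 n = θ.1 n := by
    intro θ hθ χ hχ hover
    obtain ⟨χ₀, hχ₀, hext⟩ := BlockLow.exists_extension hM hidx P hsup' hθ
    rw [BlockLow.eq_of_extension hM hidx P hsup' hχ₀ hχ hext hover]
    exact hext
  refine ⟨fun χ hχ => ?_, fun θ hθ => ?_⟩
  · obtain ⟨θ, hθ⟩ := Char.exists_constituent N χ
    have hθB := BlockCount.constituent_mem_principalBlock N hM hχ hθ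
    exact ⟨θ, hθB, key θ hθB χ hχ hθ⟩
  · obtain ⟨χ, hχ, hext⟩ := BlockLow.exists_extension hM hidx P hsup' hθ
    refine ⟨χ, ⟨hχ, hext⟩, fun χ' ⟨hχ', hext'⟩ =>
      BlockLow.eq_of_extension hM hidx P hsup' hχ hχ' hext ?_⟩
    rw [show Char.resFun N χ'.1 = θ.1 from funext hext', Char.classInner_irr_self θ.2]
    exact one_ne_zero

end Cfsg.Agent.S4551
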