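import Cfsg.Statements.S4552
import Cfsg.Agent.Lib.FreeInertia.Homocyclic

set_option autoImplicit false
open Cfsg Cfsg.Agent
open scoped Cfsg.Agent.Blocks

namespace Cfsg.Agent.S4552

/-- Let B be a 2-block of the finite group G (relative to a maximal ideal M of the algebraic integers containing 2) whose defect group D is the direct product of two cyclic groups of the same order 2 ^ m, m ≥ 2. Then either B has 2-regular rank one and exactly 4 ^ m irreducible characters, or B has 2-regular rank three and exactly (4 ^ m + 8) / 3 irreducible characters. -/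
theorem result {G : Type*} [Group G] [Finite G] (M : Ideal Cfsg.AlgInt) (hM : Cfsg.IsPModular 2 M) (B : Set (Cfsg.IrrCharacter G)) (hB : Cfsg.IsPBlock M B) (D : Subgroup G) (hD : Cfsg.IsDefectGroup 2 M B D) (m : ℕ) (hm : 2 ≤ m) (hiso : Nonempty (D ≃* Multiplicative (ZMod (2 ^ m) × ZMod (2 ^ m)))) : (Cfsg.blockRank 2 B = 1 ∧ Nat.card B = 4 ^ m) ∨ (Cfsg.blockRank 2 B = 3 ∧ 3 * Nat.card B = 4 ^ m + 8) := by
  classical
  letI := Fintype.ofFinite G
  haveI : Fact (Nat.Prime 2) := ⟨Nat.prime_two⟩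
  haveI : M.IsMaximal := hM.2.1
  haveI : CharP (AlgInt ⧸ M) 2 := Blocks.charP_residue hM.2.2
  obtain ⟨φ⟩ := hiso
  obtain ⟨c, -, hmax⟩ := BrauerPairs.exists_isMax_of_isDefectGroup hB hD
  obtain ⟨s, hE⟩ := FreeInertia.setup_homocyclic hM hB hmax (by omega) φ
  haveI : NeZero (2 ^ m) := ⟨pow_ne_zero _ two_ne_zero⟩
  have hcard : Nat.card D = 4 ^ m := by
    rw [Nat.card_congr (φ.toEquiv.trans Multiplicative.toAdd), Nat.card_prod, Nat.card_zmod,
      show (4 : ℕ) = 2 * 2 from rfl, Nat.mul_pow]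
  have hD1 : D ≠ ⊥ := fun h => by
    rw [h, Subgroup.card_bot] at hcard
    exact absurd hcard.symm (Nat.one_lt_pow (by omega) (by norm_num : 1 < 4)).ne'
  obtain ⟨r, hr, hk, -, h3⟩ := s.counts hD1
  rw [hcard] at hr
  have hl := h3 (by omega)
  rcases hE with hE | hE <;> rw [hE] at hr hl
  · left
    exact ⟨hl, by omega⟩
  · right
    exact ⟨hl, by omega⟩

end Cfsg.Agent.S4552
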