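import Cfsg.Statements.S4553
import Cfsg.Agent.Lib.BlockPLength.TwoPrimes
import Cfsg.Agent.Lib.BlockCount.Criterion
import Cfsg.Agent.Lib.LocalStructure.PClosed
import Cfsg.Agent.Lib.CharInt.Galois

set_option autoImplicit false
open Cfsg

namespace Cfsg.Agent.S4553


open scoped Classical
open Cfsg.Agent

universe u

section

variable {G : Type u} [Group G] [Fintype G] {p : ℕ} [hp : Fact p.Prime]

/-- The determinant of a twisted character is the twist of the determinant. -/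
theorem detChar_twist (χ χ' : IrrCharacter G) {k : ℕ} {f : ℂ →+* ℂ}
    (hf : ∀ z : ℂ, z ^ Nat.card G = 1 → f z = z ^ k) (h : ∀ g, χ'.1 g = χ.1 (g ^ k)) (g : G) :
    Clifford.detChar χ' g = Clifford.detChar χ g ^ k := by
  obtain ⟨n, σ, -, hσ⟩ := χ.2
  let b := Pi.basisFun ℂ (Fin n)
  let A : G →* Matrix (Fin n) (Fin n) ℂ :=
    (f.mapMatrix.toMonoidHom).comp ((LinearMap.toMatrixAlgEquiv b).toAlgHom.toMonoidHom.comp σ)
  let τ : Representation ℂ G (Fin n → ℂ) :=
    (Matrix.toLinAlgEquiv b).toAlgHom.toMonoidHom.comp A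
  have hτ : τ.character = χ'.1 := funext fun x => by
    rw [h, ← CharInt.map_char_eq_pow (Char.irr_isCharacter χ) hf]
    show LinearMap.trace ℂ _ (τ x) = f (χ.1 x)
    rw [← hσ, Representation.character, LinearMap.trace_eq_matrix_trace ℂ b,
      LinearMap.trace_eq_matrix_trace ℂ b]
    change Matrix.trace (LinearMap.toMatrixAlgEquiv b (Matrix.toLinAlgEquiv b (A x))) = _
    rw [LinearMap.toMatrixAlgEquiv_toLinAlgEquiv]
    exact (AddMonoidHom.map_trace f.toAddMonoidHom _).symm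
  rw [Clifford.detChar_eq χ' τ hτ g, ← hf _ (Clifford.detChar_pow_card χ g),
    Clifford.detChar_eq χ σ hσ g, ← LinearMap.det_toMatrix b, ← LinearMap.det_toMatrix b,
    RingHom.map_det]
  congr 1
  exact LinearMap.toMatrixAlgEquiv_toLinAlgEquiv b (A g)

/-- The exponent is prime to the group order. -/
theorem coprime_card {k : ℕ} (hk₁ : ∀ g : G, (∃ j : ℕ, orderOf g = p ^ j) → g ^ k = g ^ (1 + p))
    (hk₂ : ∀ g : G, Nat.Coprime (orderOf g) p → g ^ k = g) : k.Coprime (Nat.card G) := by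
  refine Nat.coprime_of_dvd fun q hq hqk hqG => ?_
  haveI : Fact q.Prime := ⟨hq⟩
  obtain ⟨g, hg⟩ := exists_prime_orderOf_dvd_card' q hqG
  by_cases hqp : q = p
  · subst hqp
    have h1 := hk₁ g ⟨1, by rw [hg, pow_one]⟩
    rw [pow_add, pow_one, orderOf_dvd_iff_pow_eq_one.1 (hg.symm ▸ hqk),
      orderOf_dvd_iff_pow_eq_one.1 hg.dvd, mul_one] at h1
    exact hq.ne_one (hg ▸ orderOf_eq_one_iff.2 h1.symm)
  · have h1 := hk₂ g (by rw [hg]; exact (Nat.coprime_primes hq hp.out).2 hqp)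
    rw [orderOf_dvd_iff_pow_eq_one.1 (hg.symm ▸ hqk)] at h1
    exact hq.ne_one (hg ▸ orderOf_eq_one_iff.2 h1.symm)

variable (N : Subgroup G) [N.Normal] [Fintype N]

/-- The data: a normal subgroup generated by `p'`-elements with `p`-power index. -/
theorem detChar_pow_ordCompl (hN : N = pResidual p G) (θ : IrrCharacter N) (n : N) :
    Clifford.detChar θ n ^ ordCompl[p] (Nat.card G) = 1 := by
  obtain ⟨g, hg⟩ := n
  have hg' : g ∈ Subgroup.closure {g : G | Nat.Coprime (orderOf g) p} := by rw [hN] at hg; exact hg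
  induction hg' using Subgroup.closure_induction with
  | mem x hx =>
    rw [← map_pow]
    have hd : orderOf (⟨x, hg⟩ : N) ∣ ordCompl[p] (Nat.card G) := by
      rw [← Subgroup.orderOf_coe]
      refine Nat.Coprime.dvd_of_dvd_mul_left
        (Nat.Coprime.pow_right ((Nat.card G).factorization p) hx) ?_
      rw [Nat.ordProj_mul_ordCompl_eq_self]
      exact orderOf_dvd_natCard x
    rw [orderOf_dvd_iff_pow_eq_one.1 hd, map_one]
  | one => rw [show (⟨1, hg⟩ : N) = 1 from rfl, map_one, one_pow]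
  | mul x y hx hy ihx ihy =>
    have hx' : x ∈ N := hN ▸ hx
    have hy' : y ∈ N := hN ▸ hy
    rw [show (⟨x * y, hg⟩ : N) = ⟨x, hx'⟩ * ⟨y, hy'⟩ from rfl, map_mul, mul_pow, ihx hx', ihy hy',
      mul_one]
  | inv x hx ih =>
    have hx' : x ∈ N := hN ▸ hx
    have h := congrArg (· * Clifford.detChar θ (⟨x, hx'⟩⁻¹) ^ ordCompl[p] (Nat.card G)) (ih hx')
    simp only [← mul_pow, ← map_mul, mul_inv_cancel, map_one, one_pow, one_mul] at h
    exact h.symm

theorem pregSum_res (hN : N = pResidual p G) (χ : G → ℂ) :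
    BlockCount.pregSum p (fun n : N => χ n) = BlockCount.pregSum p χ := by
  rw [BlockCount.pregSum_subgroup]
  refine Finset.sum_congr rfl fun g hg => ?_
  show (if g ∈ N then (1 : ℂ) else 0) * χ g = χ g
  rw [if_pos, one_mul]
  rw [hN]
  exact LocalStructure.mem_pResidual
    ((hp.out.coprime_iff_not_dvd.2 (Finset.mem_filter.1 hg).2).symm)

theorem exists_sylow_rep (hN : N = pResidual p G) (P : Sylow p G) (q : G ⧸ N) :
    ∃ x ∈ (P : Subgroup G), (x : G ⧸ N) = q := by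
  obtain ⟨g, rfl⟩ := QuotientGroup.mk_surjective q
  have hg : g ∈ N ⊔ (P : Subgroup G) := by
    rw [hN, LocalStructure.pResidual_sup_sylow P]; exact Subgroup.mem_top g
  obtain ⟨n, hn, x, hx, rfl⟩ := Subgroup.mem_sup_of_normal_left.1 hg
  exact ⟨x, hx, by rw [QuotientGroup.mk_mul, (QuotientGroup.eq_one_iff n).2 hn, one_mul]⟩

theorem exists_orderOf_eq_pow (hN : N = pResidual p G) (P : Sylow p G) (q : G ⧸ N) :
    ∃ j, orderOf q = p ^ j := by
  obtain ⟨x, hx, rfl⟩ := exists_sylow_rep N hN P q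
  obtain ⟨j, hj⟩ := IsPGroup.iff_orderOf.1 P.2 ⟨x, hx⟩
  rw [← Subgroup.orderOf_coe] at hj
  obtain ⟨i, -, hi⟩ := (Nat.dvd_prime_pow hp.out).1
    (hj ▸ orderOf_map_dvd (QuotientGroup.mk' N) x)
  exact ⟨i, hi⟩

theorem pow_quotient (hN : N = pResidual p G) (P : Sylow p G) {k : ℕ}
    (hk₁ : ∀ g : G, (∃ j : ℕ, orderOf g = p ^ j) → g ^ k = g ^ (1 + p)) (q : G ⧸ N) :
    q ^ k = q ^ (1 + p) := by
  obtain ⟨x, hx, rfl⟩ := exists_sylow_rep N hN P q
  obtain ⟨j, hj⟩ := IsPGroup.iff_orderOf.1 P.2 ⟨x, hx⟩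
  rw [← QuotientGroup.mk_pow, ← QuotientGroup.mk_pow, hk₁ x ⟨j, (Subgroup.orderOf_coe ⟨x, hx⟩).trans hj⟩]

/-- Linear characters of a nontrivial cyclic `p`-group that are killed by `p`. -/
theorem card_linear_pow_eq_one {A : Type u} [Group A] [Finite A] (q₀ : A)
    (hq₀ : ∀ a, a ∈ Subgroup.zpowers q₀) (hdvd : p ∣ orderOf q₀) :
    Nat.card {β : A →* ℂ // ∀ a, β a ^ p = 1} = p := by
  haveI : NeZero p := ⟨hp.out.ne_zero⟩
  have e : {β : A →* ℂ // ∀ a, β a ^ p = 1} ≃ rootsOfUnity p ℂ :=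
    { toFun := fun β => ⟨β.1.toHomUnits q₀, Units.ext (by simpa using β.2 q₀)⟩
      invFun := fun z => ⟨(Units.coeHom ℂ).comp (monoidHomOfForallMemZpowers hq₀ (g' := (z : ℂˣ))
          ((orderOf_dvd_of_pow_eq_one z.2).trans hdvd)), fun a => by
        obtain ⟨i, rfl⟩ := Subgroup.mem_zpowers_iff.1 (hq₀ a)
        rw [← map_pow, ← zpow_natCast, zpow_comm, zpow_natCast, map_zpow, MonoidHom.comp_apply,
          map_pow, monoidHomOfForallMemZpowers_apply_gen]
        rw [show ((z : ℂˣ) : ℂˣ) ^ p = 1 from z.2]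
        simp⟩
      left_inv := fun β => by
        refine Subtype.ext (MonoidHom.ext fun a => ?_)
        obtain ⟨i, rfl⟩ := Subgroup.mem_zpowers_iff.1 (hq₀ a)
        rw [MonoidHom.comp_apply, map_zpow, monoidHomOfForallMemZpowers_apply_gen, ← map_zpow]
        rfl
      right_inv := fun z => by
        refine Subtype.ext (Units.ext ?_)
        simp [monoidHomOfForallMemZpowers_apply_gen] }
  rw [Nat.card_congr e, Complex.card_rootsOfUnity]

theorem count {M : Ideal AlgInt} (hM : IsPModular p M) (P : Sylow p G) (hN : N = pResidual p G)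
    (hcyc : IsCyclic (G ⧸ N)) (hnt : N ≠ ⊤) (k : ℕ)
    (hk₁ : ∀ g : G, (∃ j : ℕ, orderOf g = p ^ j) → g ^ k = g ^ (1 + p))
    (hk₂ : ∀ g : G, Nat.Coprime (orderOf g) p → g ^ k = g) :
    Nat.card {χ : IrrCharacter G // χ ∈ principalBlock M G ∧ ¬ p ∣ charDegree χ.1 ∧
      ∀ g : G, χ.1 (g ^ k) = χ.1 g} =
    p * Nat.card {θ : IrrCharacter N // θ ∈ principalBlock M N ∧ ¬ p ∣ charDegree θ.1 ∧
      (∀ x ∈ (P : Subgroup G), Char.conjFun N θ.1 x = θ.1) ∧
        ∀ n : N, θ.1 (n ^ k) = θ.1 n} := by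
  set Θ := {θ : IrrCharacter N // θ ∈ principalBlock M N ∧ ¬ p ∣ charDegree θ.1 ∧
      (∀ x ∈ (P : Subgroup G), Char.conjFun N θ.1 x = θ.1) ∧
        ∀ n : N, θ.1 (n ^ k) = θ.1 n}
  obtain ⟨q₀, hq₀⟩ := IsCyclic.exists_generator (α := G ⧸ N)
  obtain ⟨a, ha⟩ := exists_orderOf_eq_pow N hN P q₀
  have hq₀card : orderOf q₀ = N.index := by
    rw [orderOf_eq_card_of_forall_mem_zpowers hq₀, Subgroup.index_eq_card]
  have hidx : N.index = p ^ a := hq₀card ▸ ha
  have ha0 : a ≠ 0 := fun h => hnt (Subgroup.index_eq_one.1 (by rw [hidx, h, pow_zero]))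
  set m := ordCompl[p] (Nat.card G)
  have hm : m ≠ 0 := (Nat.ordCompl_pos p Nat.card_pos.ne').ne'
  have hpm : ¬ p ∣ m := Nat.not_dvd_ordCompl hp.out Nat.card_pos.ne'
  have hkG := coprime_card hk₁ hk₂
  obtain ⟨f, hf⟩ := CharInt.exists_ringHom_pow Nat.card_pos.ne' hkG
  have hinvθ : ∀ θ : IrrCharacter N, (∀ x ∈ (P : Subgroup G), Char.conjFun N θ.1 x = θ.1) →
      ∀ g, Char.conjFun N θ.1 g = θ.1 := fun θ hθ g => by
    have h : Char.inertia N θ.1 = ⊤ := by
      rw [eq_top_iff, ← LocalStructure.pResidual_sup_sylow P, ← hN]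
      exact sup_le (Char.irr_le_inertia N θ) hθ
    exact (h ▸ Subgroup.mem_top g : g ∈ Char.inertia N θ.1)
  have hext : ∀ θ : IrrCharacter N, ¬ p ∣ charDegree θ.1 →
      (∀ x ∈ (P : Subgroup G), Char.conjFun N θ.1 x = θ.1) →
      ∃! χ : IrrCharacter G, (∀ n : N, χ.1 n = θ.1 n) ∧ ∀ g, Clifford.detChar χ g ^ m = 1 :=
    fun θ hd hθ => by
      refine Clifford.existsUnique_extension_of_coprime θ (hinvθ θ hθ) hm
        (detChar_pow_ordCompl N hN θ) ?_
      rw [hidx]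
      exact Nat.Coprime.pow_left _ (hp.out.coprime_iff_not_dvd.2
        (hp.out.not_dvd_mul (Char.charDegree_eq_degree θ ▸ hd) hpm))
  choose X hX hXu using fun θ : Θ => hext θ.1 θ.2.2.1 θ.2.2.2.1
  simp only at hX hXu
  have hres : ∀ θ : Θ, IsIrrCharacter N (Char.resFun N (X θ).1) := fun θ => by
    rw [show Char.resFun N (X θ).1 = θ.1.1 from funext (hX θ).1]; exact θ.1.2
  -- the canonical extension is fixed
  have hXfix : ∀ θ : Θ, ∀ g, (X θ).1 (g ^ k) = (X θ).1 g := fun θ g => by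
    let χ' : IrrCharacter G :=
      ⟨fun g => (X θ).1 (g ^ k), CharInt.isIrrCharacter_pow (X θ).2 hkG⟩
    have h : χ' = X θ := by
      refine hXu θ χ' ⟨fun n => ?_, fun g => ?_⟩
      · show (X θ).1 ((n : G) ^ k) = θ.1.1 n
        rw [← Subgroup.coe_pow, (hX θ).1, θ.2.2.2.2 n]
      · rw [detChar_twist (X θ) χ' hf (fun _ => rfl) g, ← pow_mul, mul_comm, pow_mul,
          (hX θ).2 g, one_pow]
    exact congrFun (congrArg Subtype.val h) g
  let Λ := {β : G ⧸ N →* ℂ // ∀ a, β a ^ p = 1}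
  let Φ : Θ × Λ → IrrCharacter G := fun x =>
    ⟨⇑(x.2.1.comp (QuotientGroup.mk' N)) * (X x.1).1, Char.IsIrrCharacter.mul_linear (X x.1).2 _⟩
  have hΦN : ∀ x (n : N), (Φ x).1 n = x.1.1.1 n := fun x n => by
    show x.2.1 ((n : G) : G ⧸ N) * (X x.1).1 n = _
    rw [(QuotientGroup.eq_one_iff (n : G)).2 n.2, map_one, one_mul, (hX x.1).1]
  have hdeg : ∀ (χ : IrrCharacter G) (θ : IrrCharacter N), (∀ n : N, χ.1 n = θ.1 n) →
      charDegree χ.1 = charDegree θ.1 := fun χ θ h => by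
    apply Nat.cast_injective (R := ℂ)
    rw [Char.charDegree_cast, Char.charDegree_cast, ← h 1, Subgroup.coe_one]
  have hB0 : ∀ (χ : IrrCharacter G) (θ : IrrCharacter N), (∀ n : N, χ.1 n = θ.1 n) →
      (χ ∈ principalBlock M G ↔ θ ∈ principalBlock M N) := fun χ θ h => by
    rw [BlockCount.mem_principalBlock_iff hM, BlockCount.mem_principalBlock_iff hM,
      ← pregSum_res N hN, show (fun n : N => χ.1 n) = θ.1 from funext h]
  have hpow : ∀ β : G ⧸ N →* ℂ, ∀ g : G, β ((g ^ k : G) : G ⧸ N) = β g * β g ^ p := fun β g => by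
    rw [QuotientGroup.mk_pow, pow_quotient N hN P hk₁, map_pow, pow_add, pow_one]
  have hΦmem : ∀ x, (Φ x) ∈ principalBlock M G ∧ ¬ p ∣ charDegree (Φ x).1 ∧
      ∀ g : G, (Φ x).1 (g ^ k) = (Φ x).1 g := fun x => by
    refine ⟨(hB0 _ _ (hΦN x)).2 x.1.2.1, hdeg _ _ (hΦN x) ▸ x.1.2.2.1, fun g => ?_⟩
    show x.2.1 ((g ^ k : G) : G ⧸ N) * (X x.1).1 (g ^ k) = x.2.1 (g : G ⧸ N) * (X x.1).1 g
    rw [hpow, x.2.2, mul_one, hXfix]
  let Ψ : Θ × Λ → {χ : IrrCharacter G // χ ∈ principalBlock M G ∧ ¬ p ∣ charDegree χ.1 ∧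
      ∀ g : G, χ.1 (g ^ k) = χ.1 g} := fun x => ⟨Φ x, hΦmem x⟩
  have hinj : Function.Injective Ψ := fun x y h => by
    have h' : ∀ g, (Φ x).1 g = (Φ y).1 g := congrFun (congrArg (fun z => z.1.1) h)
    obtain ⟨θ, β⟩ := x
    obtain ⟨θ', β'⟩ := y
    obtain rfl : θ = θ' := Subtype.ext (Subtype.ext (funext fun n => by
      rw [← hΦN (θ, β) n, h', hΦN]))
    have h2 := Char.mul_linear_injective N (X θ) (hres θ)
      (a := β.1.comp (QuotientGroup.mk' N)) (b := β'.1.comp (QuotientGroup.mk' N))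
      (fun n hn => by simp [(QuotientGroup.eq_one_iff n).2 hn])
      (fun n hn => by simp [(QuotientGroup.eq_one_iff n).2 hn])
      (fun g => by rw [mul_comm, mul_comm (_ : ℂ) (β'.1.comp _ g)]; exact h' g)
    refine Prod.ext rfl (Subtype.ext (MonoidHom.ext fun q => ?_))
    obtain ⟨g, rfl⟩ := QuotientGroup.mk_surjective q
    exact congrArg (· g) h2
  have hsurj : Function.Surjective Ψ := by
    rintro ⟨χ, hχB, hχd, hχk⟩
    obtain ⟨θ, hθ⟩ := Char.exists_constituent N χ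
    obtain ⟨hdθ, hi⟩ := BlockPLength.degree_and_orbit_dvd N χ θ hθ
    rw [← Char.charDegree_eq_degree χ] at hdθ hi
    have hpθ : ¬ p ∣ charDegree θ.1 := fun h =>
      hχd (h.trans (Char.charDegree_eq_degree θ ▸ hdθ))
    have htop : Char.inertia N θ.1 = ⊤ := by
      obtain ⟨i, -, hi'⟩ := (Nat.dvd_prime_pow hp.out).1
        (hidx ▸ Subgroup.index_dvd_of_le (Char.irr_le_inertia N θ))
      rcases Nat.eq_zero_or_pos i with rfl | hpos
      · exact Subgroup.index_eq_one.1 (by simpa using hi')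
      · exact absurd ((dvd_pow_self p hpos.ne').trans (hi' ▸ hi)) hχd
    have hθP : ∀ x ∈ (P : Subgroup G), Char.conjFun N θ.1 x = θ.1 := fun x _ =>
      (htop ▸ Subgroup.mem_top x : x ∈ Char.inertia N θ.1)
    obtain ⟨χ₀, hχ₀, -⟩ := hext θ hpθ hθP
    have hres₀ : IsIrrCharacter N (Char.resFun N χ₀.1) := by
      rw [show Char.resFun N χ₀.1 = θ.1 from funext hχ₀.1]; exact θ.2
    obtain ⟨β, hβ⟩ := Char.exists_mulQuotient_eq N χ₀ hres₀ χ (by
      rw [show Char.resFun N χ₀.1 = θ.1 from funext hχ₀.1]; exact hθ)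
    letI := IsCyclic.commGroup (α := G ⧸ N)
    obtain ⟨b, hb⟩ := Char.IsCharacter.exists_monoidHom (Char.irr_isCharacter β)
      (Char.apply_one_of_comm (fun x y => mul_comm x y) β)
    have hval : ∀ g, χ.1 g = χ₀.1 g * b g := fun g => by
      rw [← hβ, Char.mulQuotient_apply, ← hb]
    have hχN : ∀ n : N, χ.1 n = θ.1 n := fun n => by
      rw [hval, (QuotientGroup.eq_one_iff (n : G)).2 n.2, map_one, mul_one, hχ₀.1]
    have hθk : ∀ n : N, θ.1 (n ^ k) = θ.1 n := fun n => by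
      rw [← hχN, ← hχN, Subgroup.coe_pow, hχk]
    let t : Θ := ⟨θ, (hB0 χ θ hχN).1 hχB, hpθ, hθP, hθk⟩
    obtain rfl : X t = χ₀ := (hXu t χ₀ hχ₀).symm
    let b' : G ⧸ N →* ℂ := (powMonoidHom p).comp b
    have hb' : ∀ q, b q * b q ^ p = b q := fun q => by
      obtain ⟨g, rfl⟩ := QuotientGroup.mk_surjective q
      have h2 := Char.mul_linear_injective N (X t) (hres t)
        (a := (b * b').comp (QuotientGroup.mk' N)) (b := b.comp (QuotientGroup.mk' N))
        (fun n hn => by simp [b', (QuotientGroup.eq_one_iff n).2 hn])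
        (fun n hn => by simp [(QuotientGroup.eq_one_iff n).2 hn])
        (fun x => by
          show (X t).1 x * (b x * b x ^ p) = (X t).1 x * b x
          rw [← hpow, ← hval x, ← hχk x, hval (x ^ k), hXfix])
      exact congrArg (· g) h2
    have hbp : ∀ q, b q ^ p = 1 := fun q => by
      have hne : b q ≠ 0 := (b.toHomUnits q).ne_zero
      exact mul_left_cancel₀ hne ((hb' q).trans (mul_one _).symm)
    refine ⟨(t, ⟨b, hbp⟩), Subtype.ext (Subtype.ext (funext fun g => ?_))⟩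
    show b (g : G ⧸ N) * (X t).1 g = χ.1 g
    rw [hval, mul_comm]
  rw [← Nat.card_congr (Equiv.ofBijective Ψ ⟨hinj, hsurj⟩), Nat.card_prod,
    card_linear_pow_eq_one (p := p) q₀ hq₀ (ha ▸ dvd_pow_self p ha0), mul_comm]

end

/-- Let G be a finite group, p a prime, P a Sylow p-subgroup, N the p-residual of G (the subgroup generated by the elements of order prime to p, the smallest normal subgroup with G/N a p-group), and M a maximal ideal of the algebraic integers containing p; suppose G/N is cyclic and nontrivial. Let k be a natural number with g ^ k = g ^ (1 + p) for every p-element g and g ^ k = g for every element g of order prime to p (so that χ (g ^ k) is the image of χ g under the field automorphism that raises p-power roots of unity to the power 1 + p and fixes the roots of unity of order prime to p). Then the number of members χ of the principal block of G of degree prime to p with χ (g ^ k) = χ g for all g equals p times the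 number of members θ of the principal block of N of degree prime to p that are invariant under conjugation by P and satisfy θ (n ^ k) = θ n for all n. -/
theorem result {G : Type*} [Group G] [Finite G] (p : ℕ) [Fact p.Prime] (M : Ideal Cfsg.AlgInt) (hM : Cfsg.IsPModular p M) (P : Sylow p G) (N : Subgroup G) [hN : N.Normal] (hNres : N = Cfsg.pResidual p G) (hcyc : IsCyclic (G ⧸ N)) (hnt : N ≠ ⊤) (k : ℕ) (hk₁ : ∀ g : G, (∃ j : ℕ, orderOf g = p ^ j) → g ^ k = g ^ (1 + p)) (hk₂ : ∀ g : G, Nat.Coprime (orderOf g) p → g ^ k = g) : Nat.card {χ : Cfsg.IrrCharacter G // χ ∈ Cfsg.principalBlock M G ∧ ¬ p ∣ Cfsg.charDegree (χ : G → ℂ) ∧ ∀ g : G, (χ : G → ℂ) (g ^ k) = (χ : G → ℂ) g} = p * Nat.card {θ : Cfsg.IrrCharacter ↥N // θ ∈ Cfsg.principalBlock M ↥N ∧ ¬ p ∣ Cfsg.charDegree (θ : ↥N → ℂ) ∧ (∀ x ∈ (P : Subgroup G), ∀ n : ↥N, (θ : ↥N → ℂ) ⟨x * n * x⁻¹, hN.conj_mem n n.2 x⟩ = (θ : ↥N → ℂ) n) ∧ ∀ n : ↥N, (θ : ↥N → ℂ) (n ^ k) = (θ : ↥N → ℂ) n} := by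
  haveI := Fintype.ofFinite G
  haveI := Fintype.ofFinite N
  rw [count N hM P hNres hcyc hnt k hk₁ hk₂]
  congr 1
  refine Nat.card_congr (Equiv.subtypeEquivRight fun θ =>
    and_congr_right' (and_congr_right' (and_congr_left' (forall₂_congr fun x _ =>
      funext_iff.trans (forall_congr' fun n => ?_)))))
  rw [Char.conjFun, show MulAut.conjNormal x n = ⟨x * n * x⁻¹, hN.conj_mem n n.2 x⟩ from
    Subtype.ext (MulAut.conjNormal_apply _ _)]

end Cfsg.Agent.S4553
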