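import Cfsg.Statements.S4558
import Cfsg.Agent.Lib.CharInt.Congruence
-- import your own Cfsg.Agent.* helpers here

set_option autoImplicit false
open Cfsg

namespace Cfsg.Agent.S4558

/-- Let χ be a character of the finite group G and g an element of p-power order for the prime p. If χ g = 0, then p divides the degree of χ. -/
theorem result {G : Type*} [Group G] [Finite G] (p : ℕ) [Fact p.Prime] (χ : G → ℂ) (hχ : Cfsg.IsCharacter G χ) (g : G) (hg : ∃ j : ℕ, orderOf g = p ^ j) (h0 : χ g = 0) : p ∣ Cfsg.charDegree χ := by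
  have hp : p.Prime := Fact.out
  obtain ⟨j, hj⟩ := hg
  obtain ⟨n, hn⟩ := Cfsg.Agent.CharInt.exists_degree hχ
  have h := Cfsg.Agent.CharInt.char_pow_sub_isIntegral hχ g hp j
  rw [← hj, pow_orderOf_eq_one, h0, zero_pow (orderOf_pos g).ne', zero_sub, hn, neg_div] at h
  have h2 := h.neg
  rw [neg_neg] at h2
  have hd := Cfsg.Agent.CharInt.dvd_of_isIntegral_div (z := (n : ℤ)) hp.ne_zero (by simpa using h2)
  have hdeg : Cfsg.charDegree χ = n := by simp [Cfsg.charDegree, hn]
  rw [hdeg]
  exact_mod_cast hd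

end Cfsg.Agent.S4558
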