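import Cfsg.Statements.S4560
import Cfsg.Agent.Lib.Char.PermChar
import Cfsg.Agent.Lib.Char.Generalized
import Mathlib.GroupTheory.GroupAction.MultipleTransitivity
import Mathlib.GroupTheory.Perm.Centralizer
import Mathlib.Data.Sym.Sym2

set_option autoImplicit false
open Cfsg

namespace Cfsg.Agent.S4560

open Equiv Finset

variable {n : ℕ}

/-- Number of fixed points. -/
def fixN (g : Perm (Fin n)) : ℕ := #{a | g a = a}

/-- Number of points in transpositions of `g`. -/
def swapN (g : Perm (Fin n)) : ℕ := #{a | g a ≠ a ∧ g (g a) = a}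

/-- Tuples with prescribed image under `g`. -/
noncomputable def tupN (g : Perm (Fin n)) {k : ℕ} (ρ : Perm (Fin k)) : ℕ :=
  Fintype.card {u : Fin k ↪ (Fin n) // ∀ i, g (u i) = u (ρ i)}

theorem sum_tupN (H : Type) [Group H] [Fintype H] [MulAction H (Fin n)] {k : ℕ} (hk : k ≤ n)
    [MulAction.IsMultiplyPretransitive H (Fin n) k] (ρ : Perm (Fin k)) :
    ∑ g : H, tupN (MulAction.toPerm g : Perm (Fin n)) ρ = Fintype.card H := by
  classical
  haveI : Nonempty (Fin k ↪ (Fin n)) := ⟨Fin.castLEEmb hk⟩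
  have hE : 0 < Fintype.card (Fin k ↪ (Fin n)) := Fintype.card_pos
  refine Nat.eq_of_mul_eq_mul_left hE ?_
  simp only [tupN, Fintype.card_subtype, Finset.card_eq_sum_ones, Finset.sum_filter]
  rw [Finset.sum_comm, Finset.mul_sum]
  have hu : ∀ u : Fin k ↪ (Fin n), Fintype.card (Fin k ↪ (Fin n)) *
      (∑ g : H, if ∀ i, (MulAction.toPerm g : Perm (Fin n)) (u i) = u (ρ i) then 1 else 0) =
        Fintype.card H := fun u => by
    rw [Finset.sum_boole, Nat.cast_id]
    obtain ⟨g₀, hg₀⟩ := MulAction.exists_smul_eq H u (ρ.toEmbedding.trans u)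
    have h := MulAction.card_orbit_mul_card_stabilizer_eq_card_group H u
    rw [show Fintype.card (MulAction.orbit H u) = Fintype.card (Fin k ↪ (Fin n)) from
      Fintype.card_congr ((Equiv.setCongr (MulAction.orbit_eq_univ H u)).trans (Equiv.Set.univ _))]
      at h
    rw [← h]
    congr 1
    rw [← Fintype.card_subtype]
    refine Fintype.card_congr ((Equiv.mulLeft g₀⁻¹).subtypeEquiv fun g => ?_)
    rw [Equiv.coe_mulLeft, MulAction.mem_stabilizer_iff, mul_smul, inv_smul_eq_iff, hg₀]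
    constructor
    · intro h'
      exact Function.Embedding.ext fun i => h' i
    · intro h' i
      exact DFunLike.congr_fun h' i
  rw [Finset.sum_congr rfl fun u _ => hu u, Finset.sum_const, smul_eq_mul, Finset.card_univ,
    ← Finset.card_univ (α := H), Finset.card_eq_sum_ones]

theorem tupN_one (g : Perm (Fin n)) (k : ℕ) : tupN g (1 : Perm (Fin k)) = (fixN g).descFactorial k := by
  rw [tupN, Fintype.card_congr (show {u : Fin k ↪ (Fin n) // ∀ i, g (u i) = u ((1 : Perm (Fin k)) i)} ≃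
    (Fin k ↪ {a : (Fin n) // g a = a}) from
    { toFun := fun u => ⟨fun i => ⟨u.1 i, u.2 i⟩, fun i j h => u.1.injective (congrArg Subtype.val h)⟩
      invFun := fun v => ⟨v.trans (Function.Embedding.subtype _), fun i => (v i).2⟩
      left_inv := fun u => rfl
      right_inv := fun v => rfl }), Fintype.card_embedding_eq, Fintype.card_subtype, Fintype.card_fin]
  rfl

theorem tupN_swap_two (g : Perm (Fin n)) : tupN g (swap (0 : Fin 2) 1) = swapN g := by
  rw [swapN, ← Fintype.card_subtype, tupN]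
  refine Fintype.card_congr
    { toFun := fun u => ⟨u.1 0, ?_, ?_⟩
      invFun := fun a => ⟨⟨![a.1, g a.1], ?_⟩, ?_⟩
      left_inv := fun u => ?_
      right_inv := fun a => rfl }
  · rw [u.2 0, swap_apply_left]
    exact fun h => absurd (u.1.injective h) (by decide)
  · rw [u.2 0, swap_apply_left, u.2 1, swap_apply_right]
  · intro i j h
    fin_cases i <;> fin_cases j <;> simp_all [a.2.1, Ne.symm a.2.1]
  · intro i
    fin_cases i
    · exact (rfl : g a.1 = g a.1)
    · exact a.2.2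
  · refine Subtype.ext (Function.Embedding.ext fun i => ?_)
    fin_cases i
    · rfl
    · show g (u.1 0) = u.1 1
      rw [u.2 0, swap_apply_left]

theorem tupN_swap_three (g : Perm (Fin n)) : tupN g (swap (0 : Fin 3) 1) = swapN g * fixN g := by
  rw [swapN, fixN, ← Fintype.card_subtype, ← Fintype.card_subtype, ← Fintype.card_prod, tupN]
  refine Fintype.card_congr
    { toFun := fun u => (⟨u.1 0, ?_, ?_⟩, ⟨u.1 2, ?_⟩)
      invFun := fun x => ⟨⟨![x.1.1, g x.1.1, x.2.1], ?_⟩, ?_⟩
      left_inv := fun u => ?_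
      right_inv := fun x => rfl }
  · rw [u.2 0, swap_apply_left]
    exact fun h => absurd (u.1.injective h) (by decide)
  · rw [u.2 0, swap_apply_left, u.2 1, swap_apply_right]
  · rw [u.2 2, swap_apply_of_ne_of_ne (by decide) (by decide)]
  · intro i j h
    have h1 : x.1.1 ≠ x.2.1 := fun e => x.1.2.1 (e ▸ x.2.2)
    have h2 : g x.1.1 ≠ x.2.1 := fun e => h1 (g.injective (e.trans x.2.2.symm))
    fin_cases i <;> fin_cases j <;>
      simp_all [x.1.2.1, Ne.symm x.1.2.1, Ne.symm h1, Ne.symm h2]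
  · intro i
    fin_cases i
    · exact (rfl : g x.1.1 = g x.1.1)
    · exact x.1.2.2
    · exact x.2.2
  · refine Subtype.ext (Function.Embedding.ext fun i => ?_)
    fin_cases i
    · rfl
    · show g (u.1 0) = u.1 1
      rw [u.2 0, swap_apply_left]
    · rfl

theorem tupN_swap_four (g : Perm (Fin n)) :
    tupN g (swap (0 : Fin 4) 1) = swapN g * (fixN g).descFactorial 2 := by
  rw [swapN, ← tupN_one, ← Fintype.card_subtype, tupN, tupN, ← Fintype.card_prod]
  refine Fintype.card_congr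
    { toFun := fun u => (⟨u.1 0, ?_, ?_⟩, ⟨⟨![u.1 2, u.1 3], ?_⟩, ?_⟩)
      invFun := fun x => ⟨⟨![x.1.1, g x.1.1, x.2.1 0, x.2.1 1], ?_⟩, ?_⟩
      left_inv := fun u => ?_
      right_inv := fun x => ?_ }
  · rw [u.2 0, swap_apply_left]
    exact fun h => absurd (u.1.injective h) (by decide)
  · rw [u.2 0, swap_apply_left, u.2 1, swap_apply_right]
  · intro i j h
    fin_cases i <;> fin_cases j <;> simp_all
  · intro i
    fin_cases i
    · show g (u.1 2) = u.1 2
      rw [u.2 2, swap_apply_of_ne_of_ne (by decide) (by decide)]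
    · show g (u.1 3) = u.1 3
      rw [u.2 3, swap_apply_of_ne_of_ne (by decide) (by decide)]
  · intro i j h
    have hf : ∀ m, g (x.2.1 m) = x.2.1 m := x.2.2
    have h1 : ∀ m, x.1.1 ≠ x.2.1 m := fun m e => x.1.2.1 (e ▸ hf m)
    have h2 : ∀ m, g x.1.1 ≠ x.2.1 m := fun m e => h1 m (g.injective (e.trans (hf m).symm))
    fin_cases i <;> fin_cases j <;>
      simp_all [x.1.2.1, Ne.symm x.1.2.1, fun m => Ne.symm (h1 m), fun m => Ne.symm (h2 m)]
  · intro i
    fin_cases i
    · exact (rfl : g x.1.1 = g x.1.1)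
    · exact x.1.2.2
    · exact x.2.2 0
    · exact x.2.2 1
  · refine Subtype.ext (Function.Embedding.ext fun i => ?_)
    fin_cases i
    · rfl
    · show g (u.1 0) = u.1 1
      rw [u.2 0, swap_apply_left]
    · rfl
    · rfl
  · refine Prod.ext rfl (Subtype.ext (Function.Embedding.ext fun i => ?_))
    fin_cases i <;> rfl

theorem tupN_double (g : Perm (Fin n)) :
    tupN g (swap (0 : Fin 4) 1 * swap 2 3) = swapN g * (swapN g - 2) := by
  classical
  set S : Finset (Fin n) := {a | g a ≠ a ∧ g (g a) = a}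
  have hfib : ∀ a ∈ S, #(S.filter fun c => c ≠ a ∧ c ≠ g a) = #S - 2 := fun a ha => by
    have ha' := (Finset.mem_filter.1 ha).2
    rw [show S.filter (fun c => c ≠ a ∧ c ≠ g a) = S \ {a, g a} by
      ext c; simp]
    rw [Finset.card_sdiff_of_subset, Finset.card_pair (Ne.symm ha'.1)]
    refine Finset.insert_subset ha (Finset.singleton_subset_iff.2
      (Finset.mem_filter.2 ⟨Finset.mem_univ _, ?_, ?_⟩))
    · rw [ha'.2]
      exact Ne.symm ha'.1
    · rw [ha'.2]
  calc tupN g (swap (0 : Fin 4) 1 * swap 2 3)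
      = #(S.sigma fun a => S.filter fun c => c ≠ a ∧ c ≠ g a) := by
        rw [tupN, ← Fintype.card_coe]
        refine Fintype.card_congr
          { toFun := fun u => ⟨⟨u.1 0, u.1 2⟩, ?_⟩
            invFun := fun x => ⟨⟨![x.1.1, g x.1.1, x.1.2, g x.1.2], ?_⟩, ?_⟩
            left_inv := fun u => ?_
            right_inv := fun x => rfl }
        · have e0 : g (u.1 0) = u.1 1 := by rw [u.2 0]; congr 1
          have e1 : g (u.1 1) = u.1 0 := by rw [u.2 1]; congr 1
          have e2 : g (u.1 2) = u.1 3 := by rw [u.2 2]; congr 1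
          have e3 : g (u.1 3) = u.1 2 := by rw [u.2 3]; congr 1
          simp only [Finset.mem_sigma, Finset.mem_filter, S, Finset.mem_univ, true_and, e0, e1, e2,
            e3, ne_eq, u.1.injective.eq_iff]
          decide
        · have hx := x.2
          simp only [Finset.mem_sigma, Finset.mem_filter, S, Finset.mem_univ, true_and] at hx
          obtain ⟨⟨ha1, ha2⟩, ⟨hc1, hc2⟩, hne1, hne2⟩ := hx
          have hne3 : g x.1.2 ≠ x.1.1 := fun e => hne2 (by rw [← e, hc2])
          have hne4 : g x.1.2 ≠ g x.1.1 := fun e => hne1 (g.injective e)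
          intro i j h
          fin_cases i <;> fin_cases j <;>
            simp_all [Ne.symm ha1, Ne.symm hc1, Ne.symm hne1, Ne.symm hne2, Ne.symm hne3,
              Ne.symm hne4]
        · have hx := x.2
          simp only [Finset.mem_sigma, Finset.mem_filter, S, Finset.mem_univ, true_and] at hx
          obtain ⟨⟨ha1, ha2⟩, ⟨hc1, hc2⟩, hne1, hne2⟩ := hx
          intro i
          fin_cases i
          · exact (rfl : g x.1.1 = g x.1.1)
          · exact ha2
          · exact (rfl : g x.1.2 = g x.1.2)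
          · exact hc2
        · refine Subtype.ext (Function.Embedding.ext fun i => ?_)
          fin_cases i
          · rfl
          · show g (u.1 0) = u.1 1
            rw [u.2 0]; congr 1
          · rfl
          · show g (u.1 2) = u.1 3
            rw [u.2 2]; congr 1
    _ = swapN g * (swapN g - 2) := by
        rw [Finset.card_sigma, Finset.sum_congr rfl hfib, Finset.sum_const, smul_eq_mul]
        rfl

theorem swapN_cases (g : Perm (Fin n)) : swapN g = 0 ∨ 2 ≤ swapN g := by
  rcases Nat.eq_zero_or_pos (swapN g) with h | h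
  · exact Or.inl h
  obtain ⟨a, ha⟩ := Finset.card_pos.1 h
  have ha' := (Finset.mem_filter.1 ha).2
  refine Or.inr ?_
  rw [← Finset.card_pair (Ne.symm ha'.1)]
  refine Finset.card_le_card (Finset.insert_subset ha (Finset.singleton_subset_iff.2
    (Finset.mem_filter.2 ⟨Finset.mem_univ _, ?_, ?_⟩)))
  · rw [ha'.2]
    exact Ne.symm ha'.1
  · rw [ha'.2]

/-! ### The three characters -/

/-- The deleted permutation character. -/
noncomputable def c1 (g : Perm (Fin n)) : ℂ := (fixN g : ℂ) - 1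

/-- The character of shape `(n - 2, 2)`. -/
noncomputable def c2 (g : Perm (Fin n)) : ℂ :=
  ((fixN g : ℂ) ^ 2 - 3 * fixN g + swapN g) / 2

/-- The character of shape `(n - 2, 1, 1)`. -/
noncomputable def c3 (g : Perm (Fin n)) : ℂ :=
  ((fixN g : ℂ) ^ 2 - 3 * fixN g + 2 - swapN g) / 2

theorem fix_pow (g : Perm (Fin n)) :
    ((fixN g : ℂ) ^ 2 = (tupN g (1 : Perm (Fin 2)) : ℂ) + fixN g) ∧
    ((fixN g : ℂ) ^ 3 = (tupN g (1 : Perm (Fin 3)) : ℂ) + 3 * tupN g (1 : Perm (Fin 2)) + fixN g) ∧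
    ((fixN g : ℂ) ^ 4 = (tupN g (1 : Perm (Fin 4)) : ℂ) + 6 * tupN g (1 : Perm (Fin 3)) +
      7 * tupN g (1 : Perm (Fin 2)) + fixN g) ∧
    ((fixN g : ℂ) = tupN g (1 : Perm (Fin 1))) := by
  simp only [tupN_one]
  generalize fixN g = f
  rcases f with _ | _ | _ | _ | f <;>
    simp [Nat.descFactorial_succ] <;> (try constructorm* _ ∧ _) <;> ring

theorem swap_mul (g : Perm (Fin n)) :
    ((swapN g : ℂ) = tupN g (swap (0 : Fin 2) 1)) ∧
    ((swapN g : ℂ) * fixN g = tupN g (swap (0 : Fin 3) 1)) ∧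
    ((swapN g : ℂ) * (fixN g : ℂ) ^ 2 =
      tupN g (swap (0 : Fin 4) 1) + (tupN g (swap (0 : Fin 3) 1) : ℂ)) ∧
    ((swapN g : ℂ) ^ 2 =
      tupN g (swap (0 : Fin 4) 1 * swap 2 3) + 2 * (tupN g (swap (0 : Fin 2) 1) : ℂ)) := by
  refine ⟨by rw [tupN_swap_two], by rw [tupN_swap_three, Nat.cast_mul], ?_, ?_⟩
  · have h := (fix_pow g).1
    rw [tupN_one] at h
    rw [tupN_swap_four, tupN_swap_three, Nat.cast_mul, Nat.cast_mul, h]
    ring
  · rw [tupN_double, tupN_swap_two]
    rcases swapN_cases g with h | h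
    · simp [h]
    · rw [Nat.cast_mul, Nat.cast_sub h]
      push_cast
      ring

theorem norm_eq_one (H : Type) [Group H] [Fintype H] [MulAction H (Fin n)] (hn : 4 ≤ n)
    (h4 : MulAction.IsMultiplyPretransitive H (Fin n) 4) :
    (classInner (fun g : H => c1 (MulAction.toPerm g : Perm (Fin n)))
      (fun g : H => c1 (MulAction.toPerm g : Perm (Fin n))) = 1) ∧
    (classInner (fun g : H => c2 (MulAction.toPerm g : Perm (Fin n)))
      (fun g : H => c2 (MulAction.toPerm g : Perm (Fin n))) = 1) ∧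
    (classInner (fun g : H => c3 (MulAction.toPerm g : Perm (Fin n)))
      (fun g : H => c3 (MulAction.toPerm g : Perm (Fin n))) = 1) := by
  haveI := h4
  haveI : MulAction.IsMultiplyPretransitive H (Fin n) 1 :=
    MulAction.isMultiplyPretransitive_of_le (n := 4) (by norm_num) (by simpa using hn)
  haveI : MulAction.IsMultiplyPretransitive H (Fin n) 2 :=
    MulAction.isMultiplyPretransitive_of_le (n := 4) (by norm_num) (by simpa using hn)
  haveI : MulAction.IsMultiplyPretransitive H (Fin n) 3 :=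
    MulAction.isMultiplyPretransitive_of_le (n := 4) (by norm_num) (by simpa using hn)
  set P : H → Perm (Fin n) := fun g => MulAction.toPerm g
  have hE : ∀ {k : ℕ}, k ≤ n → ∀ [MulAction.IsMultiplyPretransitive H (Fin n) k] (ρ : Perm (Fin k)),
      ∑ g : H, (tupN (P g) ρ : ℂ) = (Fintype.card H : ℂ) := fun {k} hk _ ρ => by
    rw [← Nat.cast_sum, sum_tupN H hk ρ]
  have hE1 := hE (k := 1) (by omega)
  have hE2 := hE (k := 2) (by omega)
  have hE3 := hE (k := 3) (by omega)
  have hE4 := hE (k := 4) hn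
  have f1 : ∑ g : H, (fixN (P g) : ℂ) = (Fintype.card H : ℂ) := by
    rw [← hE1 1]
    exact Finset.sum_congr rfl fun g _ => (fix_pow (P g)).2.2.2
  have f2 : ∑ g : H, (fixN (P g) : ℂ) ^ 2 = 2 * (Fintype.card H : ℂ) := by
    rw [Finset.sum_congr rfl fun g _ => (fix_pow (P g)).1]
    simp only [Finset.sum_add_distrib, hE2, f1]
    ring
  have f3 : ∑ g : H, (fixN (P g) : ℂ) ^ 3 = 5 * (Fintype.card H : ℂ) := by
    rw [Finset.sum_congr rfl fun g _ => (fix_pow (P g)).2.1]
    simp only [Finset.sum_add_distrib, ← Finset.mul_sum, hE2, hE3, f1]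
    ring
  have f4 : ∑ g : H, (fixN (P g) : ℂ) ^ 4 = 15 * (Fintype.card H : ℂ) := by
    rw [Finset.sum_congr rfl fun g _ => (fix_pow (P g)).2.2.1]
    simp only [Finset.sum_add_distrib, ← Finset.mul_sum, hE2, hE3, hE4, f1]
    ring
  have s1 : ∑ g : H, (swapN (P g) : ℂ) = (Fintype.card H : ℂ) := by
    rw [Finset.sum_congr rfl fun g _ => (swap_mul (P g)).1]
    exact hE2 _
  have sf : ∑ g : H, (swapN (P g) : ℂ) * fixN (P g) = (Fintype.card H : ℂ) := by
    rw [Finset.sum_congr rfl fun g _ => (swap_mul (P g)).2.1]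
    exact hE3 _
  have sf2 : ∑ g : H, (swapN (P g) : ℂ) * (fixN (P g) : ℂ) ^ 2 = 2 * (Fintype.card H : ℂ) := by
    rw [Finset.sum_congr rfl fun g _ => (swap_mul (P g)).2.2.1]
    simp only [Finset.sum_add_distrib, hE3, hE4]
    ring
  have ss : ∑ g : H, (swapN (P g) : ℂ) ^ 2 = 3 * (Fintype.card H : ℂ) := by
    rw [Finset.sum_congr rfl fun g _ => (swap_mul (P g)).2.2.2]
    simp only [Finset.sum_add_distrib, ← Finset.mul_sum, hE2, hE4]
    ring
  have hne : (Fintype.card H : ℂ) ≠ 0 := Nat.cast_ne_zero.2 Fintype.card_ne_zero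
  refine ⟨?_, ?_, ?_⟩
  · simp only [classInner, c1, map_sub, map_one, Complex.conj_natCast, Nat.card_eq_fintype_card]
    rw [show ∑ g : H, ((fixN (P g) : ℂ) - 1) * ((fixN (P g) : ℂ) - 1) = (Fintype.card H : ℂ) from ?_,
      inv_mul_cancel₀ hne]
    rw [Finset.sum_congr rfl fun g _ => show _ = (fixN (P g) : ℂ) ^ 2 - 2 * (fixN (P g) : ℂ) + 1
      by ring]
    simp only [Finset.sum_add_distrib, Finset.sum_sub_distrib, ← Finset.mul_sum, f1, f2,
      Finset.sum_const, Finset.card_univ, nsmul_eq_mul]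
    ring
  · simp only [classInner, c2, map_div₀, map_add, map_sub, map_mul, map_pow, map_ofNat,
      Complex.conj_natCast, Nat.card_eq_fintype_card]
    rw [Finset.sum_congr rfl fun g _ => show _ = (1 / 4 : ℂ) * ((fixN (P g) : ℂ) ^ 4 -
      6 * (fixN (P g) : ℂ) ^ 3 + 9 * (fixN (P g) : ℂ) ^ 2 + 2 * (swapN (P g) * (fixN (P g) : ℂ) ^ 2)
      - 6 * (swapN (P g) * fixN (P g)) + (swapN (P g) : ℂ) ^ 2) by ring]
    simp only [← Finset.mul_sum, Finset.sum_add_distrib, Finset.sum_sub_distrib, f2, f3, f4, sf,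
      sf2, ss]
    field_simp
    ring
  · simp only [classInner, c3, map_div₀, map_add, map_sub, map_mul, map_pow, map_ofNat,
      Complex.conj_natCast, Nat.card_eq_fintype_card]
    rw [Finset.sum_congr rfl fun g _ => show _ = (1 / 4 : ℂ) * ((fixN (P g) : ℂ) ^ 4 -
      6 * (fixN (P g) : ℂ) ^ 3 + 13 * (fixN (P g) : ℂ) ^ 2 - 12 * (fixN (P g) : ℂ) + 4
      - 2 * (swapN (P g) * (fixN (P g) : ℂ) ^ 2)
      + 6 * (swapN (P g) * fixN (P g)) - 4 * (swapN (P g) : ℂ) + (swapN (P g) : ℂ) ^ 2) by ring]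
    simp only [← Finset.mul_sum, Finset.sum_add_distrib, Finset.sum_sub_distrib, f1, f2, f3, f4,
      s1, sf, sf2, ss, Finset.sum_const, Finset.card_univ, nsmul_eq_mul]
    field_simp
    ring

/-- `2 · #(fixed unordered pairs) = f² + f + s`. -/
theorem two_mul_card_fixed_sym (g : Perm (Fin n)) :
    2 * #{z : Sym2 (Fin n) | Sym2.map g z = z} = fixN g ^ 2 + fixN g + swapN g := by
  classical
  set P : Finset ((Fin n) × (Fin n)) := {x | Sym2.map g (s(x.1, x.2)) = s(x.1, x.2)} with hP
  have hmaps : ∀ x ∈ P, s(x.1, x.2) ∈ ({z | Sym2.map g z = z} : Finset (Sym2 (Fin n))) := fun x hx =>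
    Finset.mem_filter.2 ⟨Finset.mem_univ _, (Finset.mem_filter.1 hx).2⟩
  have hL : ∑ x ∈ P, (if x.1 = x.2 then 2 else 1) = 2 * #{z : Sym2 (Fin n) | Sym2.map g z = z} := by
    rw [← Finset.sum_fiberwise_of_maps_to hmaps, mul_comm, ← smul_eq_mul, ← Finset.sum_const]
    refine Finset.sum_congr rfl fun z hz => ?_
    induction z using Sym2.ind with
    | _ a b =>
      have hz' := (Finset.mem_filter.1 hz).2
      have hf : P.filter (fun x => s(x.1, x.2) = s(a, b)) = {(a, b), (b, a)} := by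
        ext ⟨c, d⟩
        simp only [hP, Finset.mem_filter, Finset.mem_univ, true_and, Finset.mem_insert,
          Finset.mem_singleton, Prod.mk.injEq]
        constructor
        · rintro ⟨-, h⟩
          exact Sym2.eq_iff.1 h
        · intro h
          have h2 : s(c, d) = s(a, b) := Sym2.eq_iff.2 h
          exact ⟨h2 ▸ hz', h2⟩
      rw [hf]
      by_cases hab : a = b
      · subst hab
        simp
      · rw [Finset.sum_pair (by simp [hab])]
        simp [hab, Ne.symm hab]
  have hsplit : P = (({a | g a = a} : Finset (Fin n)) ×ˢ ({a | g a = a} : Finset (Fin n))) ∪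
      ({a | g a ≠ a ∧ g (g a) = a} : Finset (Fin n)).image (fun a => (a, g a)) := by
    ext ⟨a, b⟩
    simp only [hP, Finset.mem_filter, Finset.mem_univ, true_and, Finset.mem_union,
      Finset.mem_product, Finset.mem_image, Prod.mk.injEq, Sym2.map_mk, Sym2.eq_iff]
    constructor
    · rintro (⟨h1, h2⟩ | ⟨h1, h2⟩)
      · exact Or.inl ⟨h1, h2⟩
      · by_cases hab : a = b
        · subst hab
          exact Or.inl ⟨h1, h1⟩
        · exact Or.inr ⟨a, ⟨by rw [h1]; exact Ne.symm hab, by rw [h1, h2]⟩, rfl, h1⟩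
    · rintro (⟨h1, h2⟩ | ⟨c, ⟨h1, h2⟩, rfl, rfl⟩)
      · exact Or.inl ⟨h1, h2⟩
      · exact Or.inr ⟨rfl, h2⟩
  have hdisj : Disjoint (({a | g a = a} : Finset (Fin n)) ×ˢ ({a | g a = a} : Finset (Fin n)))
      (({a | g a ≠ a ∧ g (g a) = a} : Finset (Fin n)).image (fun a => (a, g a))) := by
    rw [Finset.disjoint_left]
    intro x hx hx'
    obtain ⟨a, ha, rfl⟩ := Finset.mem_image.1 hx'
    exact (Finset.mem_filter.1 ha).2.1 (Finset.mem_filter.1 (Finset.mem_product.1 hx).1).2
  rw [← hL, hsplit, Finset.sum_union hdisj, Finset.sum_image (fun a _ b _ h => congrArg Prod.fst h),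
    Finset.sum_product]
  have hB : (∑ a ∈ ({a | g a ≠ a ∧ g (g a) = a} : Finset (Fin n)),
      if a = g a then 2 else 1) = swapN g := by
    rw [Finset.sum_congr rfl fun a ha => if_neg (Ne.symm (Finset.mem_filter.1 ha).2.1),
      Finset.sum_const, smul_eq_mul, mul_one]
    rfl
  have hA : (∑ a ∈ ({a | g a = a} : Finset (Fin n)), ∑ b ∈ ({a | g a = a} : Finset (Fin n)),
      if a = b then 2 else 1) = fixN g * (fixN g + 1) := by
    rw [Finset.sum_congr rfl (g := fun _ => fixN g + 1) fun a ha => ?_, Finset.sum_const, smul_eq_mul]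
    · rfl
    rw [Finset.sum_congr rfl fun b _ => show (if a = b then 2 else 1) =
      1 + (if a = b then 1 else 0) by split_ifs <;> rfl, Finset.sum_add_distrib, Finset.sum_const,
      smul_eq_mul, mul_one, Finset.sum_ite_eq, if_pos ha]
    rfl
  rw [hA, hB]
  ring

theorem irr_of_norm {G : Type} [Group G] [Fintype G] {θ : G → ℂ}
    (h : IsGeneralizedCharacter G θ) (h1 : classInner θ θ = 1) {d : ℝ} (hd : θ 1 = d) (hd0 : 0 < d) :
    IsIrrCharacter G θ := by
  obtain ⟨ψ, hψ | hψ⟩ := Char.IsGeneralizedCharacter.irr_or_neg_of_norm_one h h1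
  · exact hψ ▸ ψ.2
  · exfalso
    have h2 := congrArg Complex.re (congrFun hψ 1)
    rw [Pi.neg_apply, hd, Char.apply_one_eq_degree] at h2
    simp at h2
    have : (0 : ℝ) ≤ (Char.degree ψ : ℝ) := Nat.cast_nonneg _
    linarith

theorem fixN_one : fixN (1 : Perm (Fin n)) = n := by simp [fixN]

theorem swapN_one : swapN (1 : Perm (Fin n)) = 0 := by simp [swapN]

theorem generalized_c :
    IsGeneralizedCharacter (Perm (Fin n)) c1 ∧ IsGeneralizedCharacter (Perm (Fin n)) c2 ∧
      IsGeneralizedCharacter (Perm (Fin n)) (c3 (n := n)) := by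
  classical
  letI : MulAction (Perm (Fin n)) (Sym2 (Fin n)) :=
    { smul := fun g z => Sym2.map g z
      one_smul := fun z => congrFun Sym2.map_id z
      mul_smul := fun g h z => (Sym2.map_map (f := h) (g := g) z).symm }
  have hf : IsCharacter (Perm (Fin n)) (fun g : Perm (Fin n) => (fixN g : ℂ)) := by
    convert Char.isCharacter_fixedBy (G := Perm (Fin n)) (Fin n) using 2 with g
    rw [Nat.card_eq_fintype_card, fixN, ← Fintype.card_subtype]
    exact Nat.cast_inj.2 (Fintype.card_congr (Equiv.refl _))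
  have hz : IsCharacter (Perm (Fin n)) (fun g : Perm (Fin n) => (#{z : Sym2 (Fin n) | Sym2.map g z = z} : ℂ)) := by
    convert Char.isCharacter_fixedBy (G := Perm (Fin n)) (Sym2 (Fin n)) using 2 with g
    rw [Nat.card_eq_fintype_card, ← Fintype.card_subtype]
    exact Nat.cast_inj.2 (Fintype.card_congr (Equiv.refl _))
  have F := Char.IsCharacter.isGeneralized hf
  have Z := Char.IsCharacter.isGeneralized hz
  have one := Char.IsCharacter.isGeneralized (Char.isCharacter_one (G := Perm (Fin n)))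
  have h2 : ∀ g : Perm (Fin n), 2 * (#{z : Sym2 (Fin n) | Sym2.map g z = z} : ℂ) =
      (fixN g : ℂ) ^ 2 + fixN g + swapN g := fun g => by exact_mod_cast two_mul_card_fixed_sym g
  refine ⟨?_, ?_, ?_⟩
  · exact Char.IsGeneralizedCharacter.sub F one
  · convert Char.IsGeneralizedCharacter.sub (Char.IsGeneralizedCharacter.sub Z F) F using 1
    funext g
    simp only [Pi.sub_apply, c2]
    linear_combination -(h2 g) / 2
  · convert Char.IsGeneralizedCharacter.add (Char.IsGeneralizedCharacter.sub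
      (Char.IsGeneralizedCharacter.sub (Char.IsGeneralizedCharacter.mul F F) F) Z) one using 1
    funext g
    simp only [Pi.sub_apply, Pi.add_apply, Pi.mul_apply, c3]
    linear_combination (h2 g) / 2

theorem irr_c (hn : 6 ≤ n) (c : Perm (Fin n) → ℂ) (hc : c = c1 ∨ c = c2 ∨ c = c3) :
    IsIrrCharacter (Perm (Fin n)) c ∧
      IsIrrCharacter (alternatingGroup (Fin n)) (fun x : alternatingGroup (Fin n) => c x) := by
  have hA : MulAction.IsMultiplyPretransitive (alternatingGroup (Fin n)) (Fin n) 4 := by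
    haveI := alternatingGroup.isMultiplyPretransitive (Fin n)
    exact MulAction.isMultiplyPretransitive_of_le (n := Nat.card (Fin n) - 2)
      (by rw [Nat.card_eq_fintype_card, Fintype.card_fin]; omega) (Nat.sub_le _ _)
  have hS : MulAction.IsMultiplyPretransitive (Perm (Fin n)) (Fin n) 4 :=
    Equiv.Perm.isMultiplyPretransitive (Fin n) 4
  have nA := norm_eq_one (n := n) (alternatingGroup (Fin n)) (by omega) hA
  have nS := norm_eq_one (n := n) (Perm (Fin n)) (by omega) hS
  have eA : ∀ x : alternatingGroup (Fin n), (MulAction.toPerm x : Perm (Fin n)) = (x : Perm (Fin n)) := fun x => rfl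
  have eS : ∀ x : Perm (Fin n), (MulAction.toPerm x : Perm (Fin n)) = x := fun x => rfl
  simp only [eA] at nA
  simp only [eS] at nS
  obtain ⟨g1, g2, g3⟩ := generalized_c (n := n)
  have hn' : (6 : ℝ) ≤ n := by exact_mod_cast hn
  obtain ⟨hg, hNA, hNS, d, hd, hd0⟩ : IsGeneralizedCharacter (Perm (Fin n)) c ∧
      classInner (fun x : alternatingGroup (Fin n) => c x) (fun x : alternatingGroup (Fin n) => c x) = 1 ∧
      classInner c c = 1 ∧ ∃ d : ℝ, c 1 = d ∧ 0 < d := by
    rcases hc with rfl | rfl | rfl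
    · exact ⟨g1, nA.1, nS.1, (n : ℝ) - 1, by simp [c1, fixN_one], by linarith⟩
    · refine ⟨g2, nA.2.1, nS.2.1, ((n : ℝ) ^ 2 - 3 * n) / 2, ?_, by nlinarith⟩
      simp [c2, fixN_one, swapN_one]
    · refine ⟨g3, nA.2.2, nS.2.2, ((n : ℝ) ^ 2 - 3 * n + 2) / 2, ?_, by nlinarith⟩
      simp [c3, fixN_one, swapN_one]
  exact ⟨irr_of_norm hg hNS hd hd0, irr_of_norm
    (Char.IsGeneralizedCharacter.restrict hg _) hNA (d := d) (by exact hd) hd0⟩

/-! ### Elements -/

theorem swapN_eq_zero (g : Perm (Fin n)) (h : 2 ∉ g.cycleType) : swapN g = 0 := by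
  refine Finset.card_eq_zero.2 (Finset.filter_eq_empty_iff.2 fun a _ ha => h ?_)
  have hne : a ≠ g a := Ne.symm ha.1
  have hm : swap a (g a) ∈ g.cycleFactorsFinset := by
    refine Perm.mem_cycleFactorsFinset_iff.2 ⟨(Perm.IsSwap.isCycle ⟨a, g a, hne, rfl⟩), fun b hb => ?_⟩
    rw [Perm.support_swap hne, Finset.mem_insert, Finset.mem_singleton] at hb
    rcases hb with rfl | rfl
    · exact swap_apply_left _ _
    · rw [swap_apply_right, ha.2]
  rw [Perm.cycleType_def]
  exact Multiset.mem_map.2 ⟨_, hm, Perm.card_support_swap hne⟩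

theorem fixN_eq (g : Perm (Fin n)) : fixN g = n - g.cycleType.sum := by
  rw [Perm.sum_cycleType, fixN]
  have h := Finset.card_compl g.support
  rw [Fintype.card_fin] at h
  rw [← h]
  congr 1
  ext a
  simp [Perm.mem_support]

theorem exists_elem (m : Multiset ℕ) (f : ℕ) (hsum : m.sum + f = n) (h2 : ∀ a ∈ m, 2 ≤ a)
    (heven : Even (m.sum + Multiset.card m)) :
    ∃ x : alternatingGroup (Fin n), (x : Perm (Fin n)).cycleType = m ∧ fixN (x : Perm (Fin n)) = f ∧
      orderOf x = m.lcm := by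
  obtain ⟨g, hg⟩ := (Perm.exists_with_cycleType_iff (Fin n) (m := m)).2
    ⟨by rw [Fintype.card_fin]; omega, h2⟩
  refine ⟨⟨g, Perm.mem_alternatingGroup.2 ?_⟩, hg, ?_, ?_⟩
  · rw [Perm.sign_of_cycleType, hg, Even.neg_one_pow heven]
  · show fixN g = f
    rw [fixN_eq, hg]
    omega
  · rw [← Subgroup.orderOf_coe]
    show orderOf g = _
    rw [← Perm.lcm_cycleType, hg]

theorem lcm_pow (p : ℕ) (hp : p.Prime) (j : ℕ) (m : Multiset ℕ) (h : ∀ a ∈ m, a ∣ p ^ j) :
    ∃ i : ℕ, m.lcm = p ^ i := by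
  obtain ⟨i, -, hi⟩ := (Nat.dvd_prime_pow hp).1 (Multiset.lcm_dvd.2 h)
  exact ⟨i, hi⟩

theorem four_blocks {k : ℕ} (hk : 2 ≤ k) : ∃ a b : ℕ, 4 * a + 8 * b = 4 * k ∧ Even (a + b) := by
  rcases Nat.even_or_odd k with h | h
  · exact ⟨k, 0, by omega, by simpa using h⟩
  · refine ⟨k - 2, 1, by omega, ?_⟩
    obtain ⟨t, rfl⟩ := h
    exact ⟨t, by omega⟩

theorem two_elem (hn : 7 ≤ n) : ∃ c : Perm (Fin n) → ℂ, (c = c1 ∨ c = c2 ∨ c = c3) ∧
    ∃ x : alternatingGroup (Fin n), (∃ j : ℕ, orderOf x = 2 ^ j) ∧ c x = 0 := by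
  rcases Nat.even_or_odd n with h | h
  · -- no fixed points or two fixed points, no transpositions
    obtain ⟨k, f, hkf, hk, hf⟩ : ∃ k f, 4 * k + f = n ∧ 2 ≤ k ∧ (f = 0 ∨ f = 2) := by
      obtain ⟨t, rfl⟩ := h
      exact ⟨(t + t) / 4, (t + t) % 4, by omega, by omega, by omega⟩
    obtain ⟨a, b, hab, hev⟩ := four_blocks hk
    set m := Multiset.replicate a 4 + Multiset.replicate b 8 with hm
    have hmem : ∀ x ∈ m, x = 4 ∨ x = 8 := fun x hx => by
      rcases Multiset.mem_add.1 hx with h | h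
      · exact Or.inl (Multiset.eq_of_mem_replicate h)
      · exact Or.inr (Multiset.eq_of_mem_replicate h)
    have hs : m.sum = 4 * k := by simp [hm]; omega
    obtain ⟨x, hx, hxf, hxo⟩ := exists_elem (n := n) m f (by omega)
      (fun x hx => by rcases hmem x hx with rfl | rfl <;> norm_num) (by
        rw [hs, hm, Multiset.card_add, Multiset.card_replicate, Multiset.card_replicate]
        exact Even.add ((Nat.even_iff).2 (by omega)) hev)
    have hord : ∃ j : ℕ, orderOf x = 2 ^ j := hxo ▸ lcm_pow 2 Nat.prime_two 3 m fun y hy => by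
      rcases hmem y hy with rfl | rfl <;> norm_num
    have hsw : swapN (x : Perm (Fin n)) = 0 := swapN_eq_zero _ fun h2 => by
      rw [hx] at h2
      rcases hmem 2 h2 with h | h <;> omega
    rcases hf with rfl | rfl
    · exact ⟨c2, Or.inr (Or.inl rfl), x, hord, by simp [c2, hxf, hsw]⟩
    · exact ⟨c3, Or.inr (Or.inr rfl), x, hord, by simp [c3, hxf, hsw]; norm_num⟩
  · obtain ⟨a, b, hab, hev, hb⟩ : ∃ a b, 2 * a + 4 * b + 1 = n ∧ Even (a + b) ∧ b ≤ 1 := by
      obtain ⟨t, rfl⟩ := h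
      rcases Nat.even_or_odd t with ht | ht
      · exact ⟨t, 0, by omega, by simpa using ht, by omega⟩
      · refine ⟨t - 2, 1, by omega, ?_, le_rfl⟩
        obtain ⟨u, rfl⟩ := ht
        exact ⟨u, by omega⟩
    set m := Multiset.replicate a 2 + Multiset.replicate b 4 with hm
    have hmem : ∀ x ∈ m, x = 2 ∨ x = 4 := fun x hx => by
      rcases Multiset.mem_add.1 hx with h | h
      · exact Or.inl (Multiset.eq_of_mem_replicate h)
      · exact Or.inr (Multiset.eq_of_mem_replicate h)
    have hs : m.sum = 2 * a + 4 * b := by simp [hm]; ring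
    obtain ⟨x, hx, hxf, hxo⟩ := exists_elem (n := n) m 1 (by omega)
      (fun x hx => by rcases hmem x hx with rfl | rfl <;> norm_num) (by
        rw [hs, hm, Multiset.card_add, Multiset.card_replicate, Multiset.card_replicate]
        exact Even.add ((Nat.even_iff).2 (by omega)) hev)
    refine ⟨c1, Or.inl rfl, x, hxo ▸ lcm_pow 2 Nat.prime_two 2 m fun y hy => by
      rcases hmem y hy with rfl | rfl <;> norm_num, ?_⟩
    simp [c1, hxf]

theorem three_elem (hn : 7 ≤ n) : ∃ c : Perm (Fin n) → ℂ, (c = c1 ∨ c = c2 ∨ c = c3) ∧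
    ∃ x : alternatingGroup (Fin n), orderOf x = 3 ∧ c x = 0 := by
  set k := n / 3
  set f := n % 3
  set m := Multiset.replicate k 3 with hm
  obtain ⟨x, hx, hxf, hxo⟩ := exists_elem (n := n) m f (by simp [hm]; omega)
    (fun x hx => by rw [Multiset.eq_of_mem_replicate hx]; norm_num) (by
      simp only [hm, Multiset.sum_replicate, Multiset.card_replicate, smul_eq_mul]
      exact Nat.even_iff.2 (by omega))
  have hord : orderOf x = 3 := by
    rw [hxo]
    refine Nat.dvd_antisymm (Multiset.lcm_dvd.2 fun y hy => by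
      rw [Multiset.eq_of_mem_replicate hy]) (Multiset.dvd_lcm (Multiset.mem_replicate.2 ⟨by omega, rfl⟩))
  have hsw : swapN (x : Perm (Fin n)) = 0 := swapN_eq_zero _ fun h2 => by
    rw [hx] at h2
    exact absurd (Multiset.eq_of_mem_replicate h2) (by norm_num)
  have hlt : f < 3 := Nat.mod_lt _ (by norm_num)
  rcases (show f = 0 ∨ f = 1 ∨ f = 2 by omega) with h | h | h <;> rw [h] at hxf
  · exact ⟨c2, Or.inr (Or.inl rfl), x, hord, by simp [c2, hxf, hsw]⟩
  · exact ⟨c1, Or.inl rfl, x, hord, by simp [c1, hxf]⟩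
  · exact ⟨c3, Or.inr (Or.inr rfl), x, hord, by simp [c3, hxf, hsw]; norm_num⟩

/-- For n ≥ 7 the alternating group on n letters has an irreducible character that vanishes at some 2-element and is the restriction of an irreducible character of the symmetric group, and an irreducible character that vanishes at some element of order 3 and is the restriction of an irreducible character of the symmetric group. -/
theorem result (n : ℕ) (hn : 7 ≤ n) : (∃ χ : Cfsg.IrrCharacter (alternatingGroup (Fin n)), (∃ x : alternatingGroup (Fin n), (∃ j : ℕ, orderOf x = 2 ^ j) ∧ (χ : alternatingGroup (Fin n) → ℂ) x = 0) ∧ ∃ ψ : Cfsg.IrrCharacter (Equiv.Perm (Fin n)), ∀ x : alternatingGroup (Fin n), (ψ : Equiv.Perm (Fin n) → ℂ) x = (χ : alternatingGroup (Fin n) → ℂ) x) ∧ (∃ χ : Cfsg.IrrCharacter (alternatingGroup (Fin n)), (∃ y : alternatingGroup (Fin n), orderOf y = 3 ∧ (χ : alternatingGroup (Fin n) → ℂ) y = 0) ∧ ∃ ψ : Cfsg.IrrCharacter (Equiv.Perm (Fin n)), ∀ x : alternatingGroup (Fin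 n), (ψ : Equiv.Perm (Fin n) → ℂ) x = (χ : alternatingGroup (Fin n) → ℂ) x) := by
  obtain ⟨c, hc, x, hxo, hx⟩ := two_elem (n := n) hn
  obtain ⟨d, hd, y, hyo, hy⟩ := three_elem (n := n) hn
  obtain ⟨hcS, hcA⟩ := irr_c (n := n) (by omega) c hc
  obtain ⟨hdS, hdA⟩ := irr_c (n := n) (by omega) d hd
  exact ⟨⟨⟨_, hcA⟩, ⟨x, hxo, hx⟩, ⟨c, hcS⟩, fun _ => rfl⟩, ⟨⟨_, hdA⟩, ⟨y, hyo, hy⟩, ⟨d, hdS⟩, fun _ => rfl⟩⟩

end Cfsg.Agent.S4560
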