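import Cfsg.Statements.S4561
import Cfsg.Agent.Lib.Char.Orthogonality
import Mathlib.GroupTheory.RegularWreathProduct
import Mathlib.GroupTheory.SemidirectProduct
import Mathlib.RingTheory.RootsOfUnity.Complex
import Mathlib.Data.Nat.Squarefree
import Mathlib.Analysis.Fourier.FiniteAbelian.PontryaginDuality

set_option autoImplicit false
universe u
open Cfsg

namespace Cfsg.Agent.S4561

open scoped ComplexConjugate

/-! ### A group with a bijective cocycle containing a given solvable group -/

theorem conj_eq_one_iff' {G : Type*} [Group G] {a g : G} : a⁻¹ * g * a = 1 ↔ g = 1 :=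
  ⟨fun h => by
    have := congrArg (fun z => a * z * a⁻¹) h
    simpa [mul_assoc] using this, fun h => by simp [h]⟩

theorem exists_prime_index {G : Type u} [Group G] [Finite G] [Nontrivial G]
    (hs : Group.IsSolvable G) : ∃ M : Subgroup G, M.Normal ∧ M.index.Prime := by
  have hne : commutator G ≠ ⊤ := (Group.IsSolvable.commutator_lt_top_of_nontrivial G).ne
  obtain ⟨M, hMc, hmax⟩ := Set.Finite.exists_maximalFor id
    {M : Subgroup G | commutator G ≤ M ∧ M ≠ ⊤} (Set.toFinite _) ⟨commutator G, le_rfl, hne⟩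
  have hn : M.Normal := Subgroup.Normal.of_commutator_le _ hMc.1
  haveI := hn
  obtain ⟨g, hg⟩ : ∃ g : G, g ∉ M := by
    by_contra h
    push Not at h
    exact hMc.2 ((Subgroup.eq_top_iff' M).2 h)
  have hgne : (g : G ⧸ M) ≠ 1 := fun h => hg ((QuotientGroup.eq_one_iff g).1 h)
  haveI : Nontrivial (G ⧸ M) := ⟨⟨_, _, hgne⟩⟩
  obtain ⟨q, hq, hqd⟩ := Nat.exists_prime_and_dvd (Finite.one_lt_card (α := G ⧸ M)).ne'
  haveI := Fact.mk hq
  obtain ⟨y, hy⟩ := exists_prime_orderOf_dvd_card' q hqd
  refine ⟨M, hn, ?_⟩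
  set L := (Subgroup.zpowers y).comap (QuotientGroup.mk' M)
  have hML : M ≤ L := fun m hm => by
    show (m : G ⧸ M) ∈ Subgroup.zpowers y
    rw [(QuotientGroup.eq_one_iff m).2 hm]
    exact one_mem _
  have hLtop : L = ⊤ := by
    by_contra hL
    have hLM : L ≤ M := hmax ⟨hMc.1.trans hML, hL⟩ hML
    obtain ⟨x, rfl⟩ := QuotientGroup.mk_surjective y
    have : x ∈ M := hLM (Subgroup.mem_zpowers _ : (x : G ⧸ M) ∈ Subgroup.zpowers (x : G ⧸ M))
    rw [(QuotientGroup.eq_one_iff x).2 this, orderOf_one] at hy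
    exact hq.ne_one hy.symm
  have htop : Subgroup.zpowers y = ⊤ := by
    apply Subgroup.comap_injective (QuotientGroup.mk'_surjective M)
    rw [Subgroup.comap_top]
    exact hLtop
  rw [Subgroup.index_eq_card, ← Subgroup.card_top (G := G ⧸ M), ← htop, Nat.card_zpowers, hy]
  exact hq

/-- `K` acts on `A` with a bijective cocycle `c`. -/
structure Pair (r : ℕ) where
  K : Type u
  [grp : Group K]
  [finK : Finite K]
  A : Type u
  [add : AddCommGroup A]
  [act : DistribMulAction K A]
  c : K → A
  bij : Function.Bijective c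
  cocycle : ∀ x y, c (x * y) = c x + x • c y
  tors : ∀ a : A, r • a = 0

attribute [instance] Pair.grp Pair.finK Pair.add Pair.act

instance wreathAction {D A Q : Type*} [Group D] [AddCommGroup A] [DistribMulAction D A] [Group Q]
    {T : Type*} [AddCommGroup T] : DistribMulAction (D ≀ᵣ Q) ((Q → A) × T) where
  smul w p := (fun x => w.left x • p.1 (w.right⁻¹ * x), p.2)
  one_smul p := Prod.ext (funext fun x => show (1 : D) • p.1 (1⁻¹ * x) = p.1 x by
    rw [inv_one, one_mul, one_smul]) rfl
  mul_smul a b p := Prod.ext (funext fun x =>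
    show (a.left x * b.left (a.right⁻¹ * x)) • p.1 ((a.right * b.right)⁻¹ * x) =
      a.left x • b.left (a.right⁻¹ * x) • p.1 (b.right⁻¹ * (a.right⁻¹ * x)) by
    rw [mul_smul, mul_inv_rev, mul_assoc]) rfl
  smul_zero w := Prod.ext (funext fun x => smul_zero (w.left x)) rfl
  smul_add w p q := Prod.ext (funext fun x => smul_add (w.left x) _ _) rfl

theorem exists_pair (r : ℕ) : ∀ (n : ℕ) {G : Type u} [Group G] [Finite G],
    Group.IsSolvable G → Nat.card G = n → (∀ p : ℕ, p.Prime → p ∣ n → p ∣ r) →
      ∃ (P : Pair.{u} r) (f : G →* P.K), Function.Injective f := by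
  intro n
  induction n using Nat.strong_induction_on with
  | _ n ih =>
    intro G _ _ hs hn hp
    rcases subsingleton_or_nontrivial G with h | h
    · letI : DistribMulAction PUnit.{u + 1} PUnit.{u + 1} :=
        { smul := fun _ a => a
          one_smul := fun _ => rfl
          mul_smul := fun _ _ _ => rfl
          smul_zero := fun _ => rfl
          smul_add := fun _ _ _ => rfl }
      exact ⟨⟨PUnit, PUnit, id, Function.bijective_id, fun _ _ => rfl, fun _ => rfl⟩, 1,
        fun a b _ => Subsingleton.elim a b⟩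
    · obtain ⟨M, hM, hprime⟩ := exists_prime_index hs
      haveI := hM
      haveI := hs
      set p := M.index
      haveI := Fact.mk hprime
      have hcard : Nat.card M * p = n := hn ▸ M.card_mul_index
      obtain ⟨P, ι, hι⟩ := ih (Nat.card M) (hcard ▸ lt_mul_of_one_lt_right Nat.card_pos hprime.one_lt)
        inferInstance rfl (fun q hq hd => hp q hq (hd.trans ⟨p, hcard.symm⟩))
      let e : G ⧸ M ≃* Multiplicative (ZMod p) :=
        mulEquivOfPrimeCardEq (p := p) (Subgroup.index_eq_card M).symm (by simp)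
      let ψ : G →* Multiplicative (ZMod p) := e.toMonoidHom.comp (QuotientGroup.mk' M)
      have hψ : Function.Surjective ψ := e.surjective.comp (QuotientGroup.mk'_surjective M)
      obtain ⟨s, hs'⟩ := hψ.hasRightInverse
      have hmem : ∀ g x, (s x)⁻¹ * g * s ((ψ g)⁻¹ * x) ∈ M := fun g x => by
        have : ψ ((s x)⁻¹ * g * s ((ψ g)⁻¹ * x)) = 1 := by
          rw [map_mul, map_mul, map_inv, hs', hs', mul_assoc, mul_inv_cancel_left, inv_mul_cancel]
        exact (QuotientGroup.eq_one_iff _).1 (e.injective (this.trans e.map_one.symm))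
      refine ⟨⟨P.K ≀ᵣ Multiplicative (ZMod p), (Multiplicative (ZMod p) → P.A) × ZMod p,
        fun w => (fun x => P.c (w.left x), Multiplicative.toAdd w.right), ?_, ?_, ?_⟩,
        MonoidHom.mk' (fun g => ⟨fun x => ι ⟨_, hmem g x⟩, ψ g⟩) ?_, ?_⟩
      · refine ⟨fun v w hvw => ?_, fun a => ?_⟩
        · exact RegularWreathProduct.ext
            (funext fun x => P.bij.1 (congrFun (congrArg Prod.fst hvw) x))
            (Multiplicative.toAdd.injective (congrArg Prod.snd hvw))
        · choose l hl using fun x => P.bij.2 (a.1 x)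
          exact ⟨⟨l, Multiplicative.ofAdd a.2⟩, Prod.ext (funext hl) rfl⟩
      · intro v w
        exact Prod.ext (funext fun x => P.cocycle (v.left x) (w.left (v.right⁻¹ * x))) rfl
      · intro a
        have hpr : p ∣ r := hp p hprime ⟨Nat.card M, by rw [← hcard, mul_comm]⟩
        refine Prod.ext (funext fun x => P.tors _) ?_
        show r • a.2 = 0
        rw [nsmul_eq_mul, (ZMod.natCast_eq_zero_iff r p).2 hpr, zero_mul]
      · intro a b
        refine RegularWreathProduct.ext (funext fun x => ?_) (map_mul ψ a b)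
        show ι _ = ι _ * ι _
        rw [← map_mul]
        refine congrArg ι (Subtype.ext ?_)
        show _ = (s x)⁻¹ * a * s ((ψ a)⁻¹ * x) *
          ((s ((ψ a)⁻¹ * x))⁻¹ * b * s ((ψ b)⁻¹ * ((ψ a)⁻¹ * x)))
        simp only [map_mul, mul_inv_rev, mul_assoc, mul_inv_cancel_left]
      · rw [injective_iff_map_eq_one]
        intro g hg
        have h1 : ψ g = 1 := congrArg RegularWreathProduct.right hg
        have h2 : ι ⟨_, hmem g 1⟩ = 1 := congrFun (congrArg RegularWreathProduct.left hg) 1
        have h3 := congrArg Subtype.val (hι (h2.trans (map_one ι).symm))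
        simp only [h1, inv_one, one_mul, Subgroup.coe_one] at h3
        exact conj_eq_one_iff'.1 h3

/-! ### The monomial group -/

variable {r : ℕ} (P : Pair.{u} r)

/-- The affine action. -/
def aff (k : P.K) (a : P.A) : P.A := P.c k + k • a

theorem c_one : P.c 1 = 0 := by
  have := P.cocycle 1 1
  rwa [one_mul, one_smul, left_eq_add] at this

theorem aff_one (a : P.A) : aff P 1 a = a := by rw [aff, c_one, one_smul, zero_add]

theorem aff_mul (k l : P.K) (a : P.A) : aff P (k * l) a = aff P k (aff P l a) := by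
  rw [aff, aff, aff, P.cocycle, mul_smul, smul_add, add_assoc]

theorem aff_c (k l : P.K) : aff P k (P.c l) = P.c (k * l) := (P.cocycle k l).symm

theorem eq_one_of_aff {k : P.K} {a : P.A} (h : aff P k a = a) : k = 1 := by
  obtain ⟨l, rfl⟩ := P.bij.2 a
  rw [aff_c] at h
  exact mul_eq_right.1 (P.bij.1 h)

/-- Affine functions with values in the `r`-th roots of unity. -/
def affFun : Subgroup (P.A → ℂˣ) where
  carrier := {f | (∀ a, f a ^ r = 1) ∧ ∀ a b, f (a + b) * f 0 = f a * f b}
  mul_mem' {f g} hf hg := ⟨fun a => by rw [Pi.mul_apply, mul_pow, hf.1, hg.1, one_mul],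
    fun a b => by
      simp only [Pi.mul_apply]
      rw [mul_mul_mul_comm, hf.2, hg.2, mul_mul_mul_comm]⟩
  one_mem' := ⟨fun _ => one_pow r, fun _ _ => rfl⟩
  inv_mem' {f} hf := ⟨fun a => by rw [Pi.inv_apply, inv_pow, hf.1, inv_one],
    fun a b => by simp only [Pi.inv_apply]; rw [← mul_inv, hf.2, mul_inv]⟩

theorem comp_aff_mem {f : P.A → ℂˣ} (hf : f ∈ affFun P) (k : P.K) :
    (fun a => f (aff P k a)) ∈ affFun P := by
  refine ⟨fun a => hf.1 _, fun a b => mul_right_cancel (b := f 0) ?_⟩
  simp only [aff, smul_add, smul_zero, add_zero, ← add_assoc]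
  have h1 := hf.2 (P.c k + k • a) (k • b)
  have h2 := hf.2 (P.c k) (k • b)
  rw [mul_right_comm, h1, mul_assoc, mul_assoc, h2, mul_comm (f (k • b))]

/-- `K` acting on affine functions. -/
def affAut : P.K →* MulAut (affFun P) where
  toFun k :=
    { toFun := fun f => ⟨fun a => f.1 (aff P k⁻¹ a), comp_aff_mem P f.2 _⟩
      invFun := fun f => ⟨fun a => f.1 (aff P k a), comp_aff_mem P f.2 _⟩
      left_inv := fun f => Subtype.ext (funext fun a => by
        show f.1 (aff P k⁻¹ (aff P k a)) = _
        rw [← aff_mul, inv_mul_cancel, aff_one])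
      right_inv := fun f => Subtype.ext (funext fun a => by
        show f.1 (aff P k (aff P k⁻¹ a)) = _
        rw [← aff_mul, mul_inv_cancel, aff_one])
      map_mul' := fun f g => rfl }
  map_one' := MulEquiv.ext fun f => Subtype.ext (funext fun a => by
    show f.1 (aff P 1⁻¹ a) = f.1 a
    rw [inv_one, aff_one])
  map_mul' k l := MulEquiv.ext fun f => Subtype.ext (funext fun a => by
    show f.1 (aff P (k * l)⁻¹ a) = f.1 (aff P l⁻¹ (aff P k⁻¹ a))
    rw [mul_inv_rev, aff_mul])

/-- The monomial group. -/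
abbrev Mon : Type u := affFun P ⋊[affAut P] P.K

/-- The monomial representation. -/
noncomputable def monRep : Representation ℂ (Mon P) (P.A → ℂ) where
  toFun h :=
    { toFun := fun v a => ((h.left.1 a : ℂˣ) : ℂ) * v (aff P h.right⁻¹ a)
      map_add' := fun v w => funext fun a => mul_add _ _ _
      map_smul' := fun z v => funext fun a => mul_left_comm _ _ _ }
  map_one' := LinearMap.ext fun v => funext fun a => by
    show ((1 : ℂˣ) : ℂ) * v (aff P 1⁻¹ a) = v a
    rw [inv_one, aff_one, Units.val_one, one_mul]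
  map_mul' g h := LinearMap.ext fun v => funext fun a => by
    show ((g.left.1 a * h.left.1 (aff P g.right⁻¹ a) : ℂˣ) : ℂ) * v (aff P (g.right * h.right)⁻¹ a) = _
    rw [mul_inv_rev, aff_mul, Units.val_mul, mul_assoc]
    rfl

instance : Finite P.A := Finite.of_surjective P.c P.bij.2

theorem card_A : Nat.card P.A = Nat.card P.K := (Nat.card_eq_of_bijective P.c P.bij).symm

/-- An affine function is a constant times a character. -/
noncomputable def affEquiv [NeZero r] : affFun P ≃ rootsOfUnity r ℂ × AddChar P.A ℂ where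
  toFun f := (⟨f.1 0, (mem_rootsOfUnity r _).2 (f.2.1 0)⟩,
    { toFun := fun a => ((f.1 a / f.1 0 : ℂˣ) : ℂ)
      map_zero_eq_one' := by simp
      map_add_eq_mul' := fun a b => by
        rw [← Units.val_mul]
        congr 1
        rw [div_mul_div_comm, ← f.2.2 a b, mul_div_mul_right_eq_div] })
  invFun x := ⟨fun a => (x.1 : ℂˣ) * x.2.toMonoidHom.toHomUnits (Multiplicative.ofAdd a),
    fun a => Units.ext (by
      show (((x.1 : ℂˣ) : ℂ) * x.2 a) ^ r = 1
      rw [mul_pow, ← AddChar.map_nsmul_eq_pow, P.tors, AddChar.map_zero_eq_one, mul_one,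
        ← Units.val_pow_eq_pow_val, (mem_rootsOfUnity r _).1 x.1.2, Units.val_one]),
    fun a b => Units.ext (by
      show (((x.1 : ℂˣ) : ℂ) * x.2 (a + b)) * (((x.1 : ℂˣ) : ℂ) * x.2 0) =
        (((x.1 : ℂˣ) : ℂ) * x.2 a) * (((x.1 : ℂˣ) : ℂ) * x.2 b)
      rw [AddChar.map_add_eq_mul, AddChar.map_zero_eq_one]
      ring)⟩
  left_inv f := Subtype.ext (funext fun a => Units.ext (by
    show ((f.1 0 : ℂˣ) : ℂ) * ((f.1 a / f.1 0 : ℂˣ) : ℂ) = _
    rw [← Units.val_mul, mul_div_cancel]))
  right_inv x := Prod.ext (Subtype.ext (Units.ext (by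
      show ((x.1 : ℂˣ) : ℂ) * x.2 0 = _
      rw [AddChar.map_zero_eq_one, mul_one]))) (DFunLike.ext _ _ fun a => by
    show (((x.1 : ℂˣ) * x.2.toMonoidHom.toHomUnits (Multiplicative.ofAdd a) /
      ((x.1 : ℂˣ) * x.2.toMonoidHom.toHomUnits 1) : ℂˣ) : ℂ) = x.2 a
    rw [mul_div_mul_left_eq_div, map_one, div_one]
    rfl)

theorem finite_affFun [NeZero r] : Finite (affFun P) := Finite.of_equiv _ (affEquiv P).symm

theorem card_affFun [NeZero r] : Nat.card (affFun P) = r * Nat.card P.A := by
  haveI := Fintype.ofFinite P.A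
  rw [Nat.card_congr (affEquiv P), Nat.card_prod, Complex.card_rootsOfUnity,
    Nat.card_eq_fintype_card, Nat.card_eq_fintype_card, AddChar.card_eq]

theorem card_mon [NeZero r] : Nat.card (Mon P) = r * Nat.card P.A ^ 2 := by
  rw [SemidirectProduct.card, card_affFun, ← card_A, mul_assoc, pow_two]

/-- The constants. -/
def constHom : rootsOfUnity r ℂ →* Mon P :=
  SemidirectProduct.inl.comp
    { toFun := fun z => ⟨fun _ => (z : ℂˣ), fun _ => (mem_rootsOfUnity r _).1 z.2, fun _ _ => rfl⟩
      map_one' := rfl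
      map_mul' := fun _ _ => rfl }

theorem constHom_injective : Function.Injective (constHom P) := fun a b h =>
  Subtype.ext (congrFun (congrArg Subtype.val (congrArg SemidirectProduct.left h)) 0)

theorem mem_range_constHom {h : Mon P} :
    h ∈ (constHom P).range ↔ h.right = 1 ∧ ∀ a, h.left.1 a = h.left.1 0 := by
  constructor
  · rintro ⟨z, rfl⟩
    exact ⟨rfl, fun _ => rfl⟩
  · rintro ⟨h1, h2⟩
    exact ⟨⟨h.left.1 0, (mem_rootsOfUnity r _).2 (h.left.2.1 0)⟩,
      SemidirectProduct.ext (Subtype.ext (funext fun a => (h2 a).symm)) h1.symm⟩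

theorem center_eq [NeZero r] : Subgroup.center (Mon P) = (constHom P).range := by
  ext z
  rw [mem_range_constHom, Subgroup.mem_center_iff]
  constructor
  · intro hz
    have hconst : ∀ a, z.left.1 a = z.left.1 0 := fun a => by
      obtain ⟨l, rfl⟩ := P.bij.2 a
      have h := congrArg SemidirectProduct.left (hz (SemidirectProduct.inr l : Mon P))
      rw [SemidirectProduct.mul_left, SemidirectProduct.mul_left, SemidirectProduct.left_inr,
        SemidirectProduct.right_inr, one_mul, map_one, mul_one] at h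
      have h' : z.left.1 (aff P l⁻¹ (P.c l)) = z.left.1 (P.c l) :=
        congrFun (congrArg Subtype.val h) (P.c l)
      rw [aff_c, inv_mul_cancel, c_one] at h'
      exact h'.symm
    refine ⟨?_, hconst⟩
    by_contra hk
    have hne : aff P z.right⁻¹ 0 ≠ 0 := fun h => hk (inv_eq_one.1 (eq_one_of_aff P h))
    obtain ⟨ψ, hψ⟩ := AddChar.exists_apply_ne_zero.2 hne
    set g : affFun P := (affEquiv P).symm (1, ψ) with hg
    have h := congrArg SemidirectProduct.left (hz (SemidirectProduct.inl g : Mon P))
    rw [SemidirectProduct.mul_left, SemidirectProduct.mul_left, SemidirectProduct.left_inl,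
      SemidirectProduct.right_inl, map_one, MulAut.one_apply, mul_comm g] at h
    have h' : g.1 0 = g.1 (aff P z.right⁻¹ 0) := congrFun (congrArg Subtype.val (mul_left_cancel h)) 0
    refine hψ ?_
    have h'' := congrArg Units.val h'
    change ((1 : ℂˣ) : ℂ) * ψ 0 = ((1 : ℂˣ) : ℂ) * ψ (aff P z.right⁻¹ 0) at h''
    rw [Units.val_one, one_mul, one_mul, AddChar.map_zero_eq_one] at h''
    exact h''.symm
  · rintro ⟨hr, hc⟩ g
    refine SemidirectProduct.ext (Subtype.ext (funext fun a => ?_)) (by simp [hr])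
    show g.left.1 a * z.left.1 (aff P g.right⁻¹ a) = z.left.1 a * g.left.1 (aff P z.right⁻¹ a)
    rw [hr, inv_one, aff_one, hc (aff P g.right⁻¹ a), hc a, mul_comm]

open scoped Classical in
theorem character_monRep [NeZero r] (h : Mon P) :
    (monRep P).character h =
      if h ∈ (constHom P).range then (Nat.card P.A : ℂ) * ((h.left.1 0 : ℂˣ) : ℂ) else 0 := by
  haveI := Fintype.ofFinite P.A
  have htr : (monRep P).character h =
      ∑ a, if aff P h.right⁻¹ a = a then ((h.left.1 a : ℂˣ) : ℂ) else 0 := by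
    rw [Representation.character, LinearMap.trace_eq_matrix_trace ℂ (Pi.basisFun ℂ P.A),
      Matrix.trace]
    refine Finset.sum_congr rfl fun a _ => ?_
    rw [Matrix.diag_apply, LinearMap.toMatrix_apply, Pi.basisFun_apply, Pi.basisFun_repr]
    show ((h.left.1 a : ℂˣ) : ℂ) * (Pi.single a (1 : ℂ) : P.A → ℂ) (aff P h.right⁻¹ a) = _
    rw [Pi.single_apply]
    split_ifs <;> simp
  rw [htr]
  by_cases hk : h.right = 1
  · simp only [hk, inv_one, aff_one, if_true]
    set x := affEquiv P h.left with hx
    have hval : ∀ a, ((h.left.1 a : ℂˣ) : ℂ) = ((h.left.1 0 : ℂˣ) : ℂ) * x.2 a := fun a => by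
      show _ = _ * ((h.left.1 a / h.left.1 0 : ℂˣ) : ℂ)
      rw [← Units.val_mul, mul_div_cancel]
    rw [Finset.sum_congr rfl fun a _ => hval a, ← Finset.mul_sum, AddChar.sum_eq_ite]
    by_cases hψ : x.2 = 0
    · rw [if_pos hψ, if_pos ((mem_range_constHom P).2 ⟨hk, fun a => Units.ext ?_⟩),
        Nat.card_eq_fintype_card, mul_comm]
      rw [hval, hψ, AddChar.zero_apply, mul_one]
    · rw [if_neg hψ, mul_zero, if_neg fun hm => hψ ?_]
      refine DFunLike.ext _ _ fun a => ?_
      show ((h.left.1 a / h.left.1 0 : ℂˣ) : ℂ) = (0 : AddChar P.A ℂ) a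
      rw [((mem_range_constHom P).1 hm).2 a, div_self', Units.val_one, AddChar.zero_apply]
  · rw [if_neg fun hm => hk ((mem_range_constHom P).1 hm).1]
    exact Finset.sum_eq_zero fun a _ => if_neg fun e => hk (inv_eq_one.1 (eq_one_of_aff P e))

/-- For every finite solvable group G there is a finite group H with a faithful irreducible character χ whose degree squared equals the index of the centre Z(H) (so χ is fully ramified over the centre), such that G is isomorphic to a subgroup of H/Z(H), the primes dividing the orders of H, of Z(H) and of G are the same, and the order of Z(H) is squarefree. -/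
theorem result {G : Type u} [Group G] [Finite G] (hsolv : Group.IsSolvable G) : ∃ (H : Type u) (_ : Group H) (_ : Finite H) (χ : Cfsg.IrrCharacter H), (∀ h : H, (χ : H → ℂ) h = (χ : H → ℂ) 1 → h = 1) ∧ (Cfsg.charDegree (χ : H → ℂ)) ^ 2 = (Subgroup.center H).index ∧ (∃ f : G →* H ⧸ Subgroup.center H, Function.Injective f) ∧ (∀ p : ℕ, p.Prime → ((p ∣ Nat.card H ↔ p ∣ Nat.card G) ∧ (p ∣ Nat.card (Subgroup.center H) ↔ p ∣ Nat.card G))) ∧ Squarefree (Nat.card (Subgroup.center H)) := by
  classical
  set r := ∏ p ∈ (Nat.card G).primeFactors, p with hr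
  have hr0 : r ≠ 0 := Finset.prod_ne_zero_iff.2 fun p hp => (Nat.prime_of_mem_primeFactors hp).ne_zero
  haveI : NeZero r := ⟨hr0⟩
  have hsq : Squarefree r := by
    refine Finset.squarefree_prod_of_pairwise_isCoprime (fun p hp q hq hpq => ?_)
      fun p hp => (Nat.prime_of_mem_primeFactors hp).squarefree
    exact Nat.coprime_iff_isRelPrime.1 ((Nat.coprime_primes (Nat.prime_of_mem_primeFactors hp)
      (Nat.prime_of_mem_primeFactors hq)).2 hpq)
  have hpr : ∀ p : ℕ, p.Prime → (p ∣ r ↔ p ∣ Nat.card G) := fun p hp => by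
    refine ⟨fun h => ?_, fun h => Finset.dvd_prod_of_mem _
      (Nat.mem_primeFactors.2 ⟨hp, h, Nat.card_pos.ne'⟩)⟩
    obtain ⟨q, hq, hpq⟩ := hp.prime.exists_mem_finset_dvd h
    rw [(Nat.prime_dvd_prime_iff_eq hp (Nat.prime_of_mem_primeFactors hq)).1 hpq]
    exact Nat.dvd_of_mem_primeFactors hq
  obtain ⟨P, ι, hι⟩ := exists_pair r _ hsolv rfl fun p hp h => (hpr p hp).2 h
  haveI := finite_affFun P
  haveI : Finite (Mon P) := Finite.of_equiv _ SemidirectProduct.equivProd.symm
  haveI := Fintype.ofFinite (Mon P)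
  have hA0 : (Nat.card P.A : ℂ) ≠ 0 := Nat.cast_ne_zero.2 Nat.card_pos.ne'
  have h1 : (monRep P).character 1 = (Nat.card P.A : ℂ) := by
    rw [character_monRep, if_pos (one_mem _)]
    exact mul_one _
  haveI := Fintype.ofFinite (rootsOfUnity r ℂ)
  have hnorm : classInner (monRep P).character (monRep P).character = 1 := by
    rw [classInner, ← Fintype.sum_of_injective (constHom P) (constHom_injective P)
      (fun _ => (Nat.card P.A : ℂ) * (Nat.card P.A : ℂ))
      (fun h => (monRep P).character h * conj ((monRep P).character h)) (fun h hh => by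
        show (monRep P).character h * conj ((monRep P).character h) = 0
        rw [character_monRep, if_neg (show h ∉ (constHom P).range from hh), zero_mul]) (fun z => by
        show _ = (monRep P).character (constHom P z) * conj ((monRep P).character (constHom P z))
        rw [character_monRep, if_pos ⟨z, rfl⟩, map_mul, Complex.conj_natCast, mul_mul_mul_comm,
          Complex.mul_conj']
        rw [Complex.norm_eq_one_of_pow_eq_one (n := r) (by
          rw [← Units.val_pow_eq_pow_val, ((constHom P z).left.2.1 0), Units.val_one]) hr0]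
        simp),
      Finset.sum_const, Finset.card_univ, nsmul_eq_mul, ← Nat.card_eq_fintype_card,
      Complex.card_rootsOfUnity, card_mon]
    push_cast
    field_simp
  have hirr : IsIrrCharacter (Mon P) (monRep P).character :=
    Char.isIrrCharacter_iff.2 ⟨Char.isCharacter_character _, hnorm⟩
  have hdeg : charDegree (monRep P).character = Nat.card P.A := by
    rw [charDegree, h1, Complex.natCast_re, Nat.floor_natCast]
  have hZ : Nat.card (Subgroup.center (Mon P)) = r := by
    rw [center_eq, ← Nat.card_congr (MonoidHom.ofInjective (constHom_injective P)).toEquiv,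
      Complex.card_rootsOfUnity]
  refine ⟨Mon P, inferInstance, inferInstance, ⟨_, hirr⟩, fun h hh => ?_, ?_,
    ⟨(QuotientGroup.mk' _).comp (SemidirectProduct.inr.comp ι), ?_⟩, fun p hp => ?_, by rw [hZ]; exact hsq⟩
  · change (monRep P).character h = (monRep P).character 1 at hh
    rw [h1, character_monRep] at hh
    split_ifs at hh with hm
    · obtain ⟨z, rfl⟩ := hm
      rw [mul_eq_left₀ hA0] at hh
      rw [show z = 1 from Subtype.ext (Units.ext hh), map_one]
    · exact absurd hh.symm hA0
  · show charDegree (monRep P).character ^ 2 = _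
    have h := (Subgroup.center (Mon P)).card_mul_index
    rw [hZ, card_mon] at h
    rw [hdeg]
    exact (Nat.eq_of_mul_eq_mul_left (Nat.pos_of_ne_zero hr0) h).symm
  · rw [injective_iff_map_eq_one]
    intro g hg
    have hm : (SemidirectProduct.inr (ι g) : Mon P) ∈ (constHom P).range :=
      center_eq P ▸ (QuotientGroup.eq_one_iff _).1 hg
    exact hι (((mem_range_constHom P).1 hm).1.trans (map_one ι).symm)
  · rw [hZ]
    refine ⟨⟨fun h => ?_, fun h => card_mon P ▸ ((hpr p hp).2 h).mul_right _⟩, hpr p hp⟩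
    rw [card_mon, hp.dvd_mul] at h
    rcases h with h | h
    · exact (hpr p hp).1 h
    · haveI := Fact.mk hp
      obtain ⟨a, ha⟩ := exists_prime_addOrderOf_dvd_card' p (hp.dvd_of_dvd_pow h)
      exact (hpr p hp).1 (ha ▸ addOrderOf_dvd_of_nsmul_eq_zero (P.tors a))

end Cfsg.Agent.S4561
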