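import Cfsg.Statements.S4563
import Cfsg.Agent.Lib.FullyRam.PComplement
import Cfsg.Agent.Lib.Char.InducedEq
import Cfsg.Agent.Lib.Solvable.HallConverse

set_option autoImplicit false
open Cfsg

namespace Cfsg.Agent.S4563

/-- Let χ be an irreducible character of the finite group H that is fully ramified over the normal subgroup Z: the restriction of χ to Z is e times an irreducible character of Z with e ^ 2 equal to the index of Z. If K is a proper normal subgroup of H containing Z and χ is induced from a character of K, then H/K is solvable; in particular, if K is solvable then so is H. -/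
theorem result {H : Type*} [Group H] [Fintype H] (Z : Subgroup H) [Z.Normal] (χ : Cfsg.IrrCharacter H) (hfr : ∃ (θ : Cfsg.IrrCharacter ↥Z) (e : ℕ), e ^ 2 = Z.index ∧ ∀ z : ↥Z, (χ : H → ℂ) z = (e : ℂ) * (θ : ↥Z → ℂ) z) (K : Subgroup H) [K.Normal] [Fintype K] (hZK : Z ≤ K) (hK : K ≠ ⊤) (φ : ↥K → ℂ) (hφ : Cfsg.IsCharacter ↥K φ) (hind : Cfsg.indFun K φ = (χ : H → ℂ)) : Group.IsSolvable (H ⧸ K) ∧ (Group.IsSolvable ↥K → Group.IsSolvable H) := by
  classical
  obtain ⟨θ, e, he, hres⟩ := hfr
  haveI := Fintype.ofFinite Z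
  have d : Agent.FullyRam.Data Z χ θ e := ⟨he, hres⟩
  obtain ⟨c, hc, hc'⟩ := Agent.Char.IsCharacter.exists_decomp hφ
  have h1 : classInner φ (Agent.Char.resFun K χ.1) = 1 := by
    show classInner φ (fun k : K => χ.1 k) = 1
    rw [← Agent.Char.classInner_indFun K φ
      (Agent.Char.IsCharacter.isClassFunction (Agent.Char.irr_isCharacter χ)), hind]
    exact Agent.Char.classInner_irr_self χ.2
  obtain ⟨φ₀, hc0, hφ₀⟩ : ∃ φ₀ : IrrCharacter K, c φ₀ ≠ 0 ∧
      classInner (Agent.Char.resFun K χ.1) φ₀.1 ≠ 0 := by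
    by_contra hne
    push Not at hne
    rw [hc, Agent.Char.classInner_sum_left] at h1
    refine zero_ne_one (α := ℂ) ((Finset.sum_eq_zero fun ψ _ => ?_).symm.trans h1)
    rw [Agent.Char.classInner_smul_left]
    rcases eq_or_ne (c ψ) 0 with h | h
    · rw [h, Nat.cast_zero, zero_mul]
    · rw [← Agent.Char.conj_classInner, hne ψ h, map_zero, mul_zero]
  obtain ⟨M, -, hMsq, heM⟩ := d.exists_sq_eq_relIndex K hZK hφ₀
  obtain ⟨n, hn⟩ := Agent.Char.IsCharacter.apply_one hφ
  have hle : charDegree φ₀.1 ≤ n := Agent.Char.le_of_constituent hφ φ₀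
    (by rw [hc']; exact Nat.cast_ne_zero.2 hc0) hn
  have hM : M = 1 := by
    have hf : Agent.FullyRam.mult hZK θ φ₀ ≠ 0 := (d.classInner_ne_zero_iff hZK φ₀).1 hφ₀
    have hφ1 := d.res_of_mult hZK hf 1
    rw [map_one, ← Agent.Char.charDegree_cast, ← Agent.Char.charDegree_cast] at hφ1
    have hφ1' : charDegree φ₀.1 = Agent.FullyRam.mult hZK θ φ₀ * charDegree θ.1 := by
      exact_mod_cast hφ1
    have hχ1 := congrFun hind 1
    rw [Agent.Char.indFun_apply_one, hn, show χ.1 1 = (e : ℂ) * θ.1 1 from d.res 1,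
      ← Agent.Char.charDegree_cast] at hχ1
    have hχ1' : K.index * n = e * charDegree θ.1 := by exact_mod_cast hχ1
    rw [← Subgroup.relIndex_mul_index (Agent.Char.irr_le_inertia K φ₀), ← hMsq, heM] at hχ1'
    have hθ : charDegree θ.1 ≠ 0 := fun h => by
      have h' := Agent.Char.charDegree_cast θ
      rw [h, Nat.cast_zero] at h'
      exact Agent.Char.IsIrrCharacter.apply_one_ne_zero θ.2 h'.symm
    have hi : (Agent.Char.inertia K φ₀.1).index ≠ 0 := Subgroup.index_ne_zero_of_finite
    rcases Nat.eq_zero_or_pos M with h0 | hpos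
    · exact absurd (heM.trans (by rw [h0, zero_mul, zero_mul]))
        (fun h => d.e_ne_zero (by rw [h, Nat.cast_zero]))
    refine le_antisymm ?_ hpos
    refine le_of_mul_le_mul_left (a := M * (Agent.Char.inertia K φ₀.1).index *
      charDegree φ₀.1) ?_ ?_
    · calc M * (Agent.Char.inertia K φ₀.1).index * charDegree φ₀.1 * M
          = M ^ 2 * (Agent.Char.inertia K φ₀.1).index * charDegree φ₀.1 := by ring
        _ ≤ M ^ 2 * (Agent.Char.inertia K φ₀.1).index * n := Nat.mul_le_mul_left _ hle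
        _ = M * (Agent.Char.inertia K φ₀.1).index * charDegree φ₀.1 * 1 := by
            rw [hχ1', hφ1']; ring
    · rw [hφ1']
      exact Nat.mul_pos (Nat.mul_pos hpos (Nat.pos_of_ne_zero hi))
        (Nat.mul_pos (Nat.pos_of_ne_zero hf) (Nat.pos_of_ne_zero hθ))
  have hsol : Group.IsSolvable (H ⧸ K) := Agent.Solvable.isSolvable_of_pComplements fun p hp => by
    haveI := Fact.mk hp
    obtain ⟨R, hR, -⟩ := d.exists_pComplement K hZK hφ₀ p (by
      rw [← hMsq, hM, one_pow]
      exact hp.not_dvd_one)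
    exact ⟨R, hR⟩
  exact ⟨hsol, fun hK => Group.isSolvable_of_ker_le_range K.subtype (QuotientGroup.mk' K)
    (by rw [QuotientGroup.ker_mk', Subgroup.range_subtype])⟩

end Cfsg.Agent.S4563
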