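import Cfsg.Statements.S4565
import Cfsg.Agent.Lib.FullyRam.Basic
import Cfsg.Agent.Lib.Char.Gallagher
import Cfsg.Agent.Lib.Char.Linear

set_option autoImplicit false
open Cfsg

namespace Cfsg.Agent.S4565

/-- Let χ be an irreducible character of the finite group H that is fully ramified over the normal subgroup Z: the restriction of χ to Z is e times an irreducible character of Z with e ^ 2 equal to the index of Z. If Z ≠ H, then H/Z has no cyclic subgroup that is its own centralizer. -/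
theorem result {H : Type*} [Group H] [Finite H] (Z : Subgroup H) [Z.Normal] (χ : Cfsg.IrrCharacter H) (hfr : ∃ (θ : Cfsg.IrrCharacter ↥Z) (e : ℕ), e ^ 2 = Z.index ∧ ∀ z : ↥Z, (χ : H → ℂ) z = (e : ℂ) * (θ : ↥Z → ℂ) z) (hZ : Z ≠ ⊤) (C : Subgroup (H ⧸ Z)) (hC : IsCyclic C) : Subgroup.centralizer (C : Set (H ⧸ Z)) ≠ C := by
  classical
  intro hcent
  obtain ⟨θ, e, he, hres⟩ := hfr
  haveI := Fintype.ofFinite H
  haveI := Fintype.ofFinite Z
  have d : Agent.FullyRam.Data Z χ θ e := ⟨he, hres⟩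
  haveI := hC
  set π := QuotientGroup.mk' Z
  set X := C.comap π with hX
  haveI := Fintype.ofFinite X
  have hZX : Z ≤ X := fun z hz => by
    show π z ∈ C
    rw [show π z = 1 from (QuotientGroup.eq_one_iff z).2 hz]
    exact one_mem _
  have hmap : X.map π = C :=
    Subgroup.map_comap_eq_self_of_surjective (QuotientGroup.mk'_surjective Z) C
  obtain ⟨ξ, hξ⟩ := Agent.FullyRam.exists_ext_cyclic Z hZX θ (fun g _ => d.conjFun_eq g)
    (hmap.symm ▸ hC)
  -- induced characters vanish off `Z`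
  have hvan : ∀ ψ : IrrCharacter X, (∀ z : Z, ψ.1 (Subgroup.inclusion hZX z) = θ.1 z) →
      ∀ g : H, g ∉ Z → indFun X ψ.1 g = 0 := fun ψ hψ g hg => by
    rw [Agent.Char.eq_sum_classInner_smul (Agent.Char.isClassFunction_indFun X ψ.1), Finset.sum_apply]
    refine Finset.sum_eq_zero fun χ' _ => ?_
    rw [Pi.smul_apply, smul_eq_mul, mul_eq_zero]
    by_cases hne : χ' = χ
    · exact Or.inr (hne ▸ d.eq_zero hg)
    refine Or.inl ?_
    rw [Agent.Char.classInner_indFun X ψ.1
      (Agent.Char.IsCharacter.isClassFunction (Agent.Char.irr_isCharacter χ'))]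
    have h0 := Agent.Char.classInner_irr_of_ne χ.2 χ'.2 fun h => hne (Subtype.ext h.symm)
    rw [classInner, mul_eq_zero, ← Fintype.sum_of_injective Z.subtype Z.subtype_injective
      (fun z => (e : ℂ) * θ.1 z * starRingEnd ℂ (χ'.1 z)) (fun h => χ.1 h * starRingEnd ℂ (χ'.1 h))
      (fun h hh => by rw [d.eq_zero (fun hz => hh ⟨⟨h, hz⟩, rfl⟩), zero_mul])
      (fun z => by rw [← d.res z]; rfl)] at h0
    replace h0 := h0.resolve_left (inv_ne_zero Agent.Char.card_ne_zero)
    simp only [mul_assoc, ← Finset.mul_sum, mul_eq_zero, d.e_ne_zero, false_or] at h0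
    obtain ⟨m, hm, hm'⟩ := Agent.Char.IsCharacter.exists_decomp
      (Agent.Char.IsCharacter.restrict (Agent.Char.irr_isCharacter χ') X)
    have hsum : ((∑ η : IrrCharacter X, m η * Agent.FullyRam.mult hZX θ η : ℕ) : ℂ) = 0 := by
      push_cast
      have h2 : classInner (fun z : Z => χ'.1 z) θ.1 = 0 := by
        rw [← Agent.Char.conj_classInner]
        simp only [classInner, h0, mul_zero, map_zero]
      rw [show (fun z : Z => χ'.1 z) = ∑ η : IrrCharacter X,
          (m η : ℂ) • Agent.Char.resIncl Z hZX η.1 from funext fun z => by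
        have := congrFun hm (Subgroup.inclusion hZX z)
        rw [Finset.sum_apply] at this ⊢
        exact this, Agent.Char.classInner_sum_left] at h2
      rw [← h2]
      exact Finset.sum_congr rfl fun η _ => by
        rw [Agent.Char.classInner_smul_left, Agent.FullyRam.mult_spec]
    have hm0 := Finset.sum_eq_zero_iff.1 (Nat.cast_eq_zero.1 hsum) ψ (Finset.mem_univ _)
    rw [Agent.FullyRam.mult_eq_of_res hZX (b := 1) (fun z => by rw [hψ z, Nat.cast_one, one_mul]),
      mul_one] at hm0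
    rw [← Agent.Char.conj_classInner, hm' ψ, hm0, Nat.cast_zero, map_zero]
  -- a generator
  obtain ⟨⟨c, hc⟩, hgen⟩ := IsCyclic.exists_generator (α := C)
  have hgen' : ∀ y ∈ C, y ∈ Subgroup.zpowers c := fun y hy => by
    obtain ⟨k, hk⟩ := hgen ⟨y, hy⟩
    exact ⟨k, congrArg Subtype.val hk⟩
  obtain ⟨g, rfl⟩ := QuotientGroup.mk_surjective c
  have hcent' : ∀ x : H, (x : H ⧸ Z) * g = g * x ↔ x ∈ X := fun x => by
    show _ ↔ (x : H ⧸ Z) ∈ C
    conv_rhs => rw [← hcent]
    rw [Subgroup.mem_centralizer_iff]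
    refine ⟨fun h y hy => ?_, fun h => (h _ hc).symm⟩
    obtain ⟨k, rfl⟩ := hgen' y hy
    exact ((Commute.zpow_right (show Commute (x : H ⧸ Z) g from h) k).eq).symm
  have hgZ : g ∉ Z := fun hg => hZ (by
    refine (Subgroup.eq_top_iff' Z).2 fun x => ?_
    have h1 : (g : H ⧸ Z) = 1 := (QuotientGroup.eq_one_iff g).2 hg
    have hx : (x : H ⧸ Z) ∈ C := (hcent' x).1 (by rw [h1, one_mul, mul_one])
    obtain ⟨k, hk⟩ := hgen' _ hx
    exact (QuotientGroup.eq_one_iff x).1 (hk.symm.trans (by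
      show (g : H ⧸ Z) ^ k = 1
      rw [h1, one_zpow])))
  set Z' := Z.subgroupOf X
  haveI := Fintype.ofFinite Z'
  haveI := Fintype.ofFinite (X ⧸ Z')
  have hres' : IsIrrCharacter Z' (Agent.Char.resFun Z' ξ.1) := by
    rw [show Agent.Char.resFun Z' ξ.1 = (Agent.Char.toSubgroupOf Z hZX θ).1 from funext fun x => by
      rw [Agent.Char.toSubgroupOf_apply]
      exact (hξ ⟨_, Subgroup.mem_subgroupOf.1 x.2⟩).symm ▸ rfl]
    exact (Agent.Char.toSubgroupOf Z hZX θ).2
  have hcomm : ∀ a b : X ⧸ Z', a * b = b * a := by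
    intro a b
    obtain ⟨a, rfl⟩ := QuotientGroup.mk_surjective a
    obtain ⟨b, rfl⟩ := QuotientGroup.mk_surjective b
    have hab : ((a : H) : H ⧸ Z) * (b : H) = (b : H) * (a : H) :=
      congrArg Subtype.val (show (⟨_, a.2⟩ : C) * ⟨_, b.2⟩ = ⟨_, b.2⟩ * ⟨_, a.2⟩ from
        IsCyclic.commGroup.mul_comm _ _)
    rw [← QuotientGroup.mk_mul, ← QuotientGroup.mk_mul, QuotientGroup.eq, Subgroup.mem_subgroupOf]
    exact QuotientGroup.eq.1 hab
  -- vanishing on the generating coset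
  have hzero : ∀ a : X, ((a : H) : H ⧸ Z) = g → ξ.1 a = 0 := fun a ha => by
    have haZ : (a : H) ∉ Z := fun h => hgZ ((QuotientGroup.eq_one_iff g).1
      (ha ▸ (QuotientGroup.eq_one_iff (a : H)).2 h))
    have key : ∀ x : H, ∑ β : IrrCharacter (X ⧸ Z'), starRingEnd ℂ (β.1 (a : X ⧸ Z')) *
        extendByZero X (Agent.Char.mulQuotient Z' ξ.1 β.1) (x⁻¹ * a * x) =
        if x ∈ X then (Nat.card (X ⧸ Z') : ℂ) * ξ.1 a else 0 := fun x => by
      by_cases hm : x⁻¹ * (a : H) * x ∈ X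
      · have hβ : ∀ β : IrrCharacter (X ⧸ Z'),
            starRingEnd ℂ (β.1 (a : X ⧸ Z')) * β.1 ((⟨_, hm⟩ : X) : X ⧸ Z') =
            β.1 1 * β.1 (((⟨_, hm⟩ : X) : X ⧸ Z') * (a : X ⧸ Z')⁻¹) := fun β => by
          obtain ⟨lam, hlam⟩ := Agent.Char.IsCharacter.exists_monoidHom
            (Agent.Char.irr_isCharacter β) (Agent.Char.apply_one_of_comm hcomm β)
          rw [Agent.Char.IsCharacter.conj_apply (Agent.Char.irr_isCharacter β), ← hlam,
            map_one, one_mul, map_mul, mul_comm]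
        simp only [Agent.Char.extendByZero_of_mem _ _ hm, Agent.Char.mulQuotient_apply]
        rw [Finset.sum_congr rfl fun β _ => show _ = ξ.1 ⟨_, hm⟩ *
          (β.1 1 * β.1 (((⟨_, hm⟩ : X) : X ⧸ Z') * (a : X ⧸ Z')⁻¹)) by rw [← hβ]; ring,
          ← Finset.mul_sum, Agent.Char.sum_irr_degree_mul]
        have hiff : ((⟨_, hm⟩ : X) : X ⧸ Z') * (a : X ⧸ Z')⁻¹ = 1 ↔ x ∈ X := by
          rw [mul_inv_eq_one, QuotientGroup.eq, Subgroup.mem_subgroupOf, ← hcent' x]
          show (x⁻¹ * (a : H) * x)⁻¹ * (a : H) ∈ Z ↔ _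
          rw [← QuotientGroup.eq, QuotientGroup.mk_mul, QuotientGroup.mk_mul, QuotientGroup.mk_inv,
            ha, mul_assoc, inv_mul_eq_iff_eq_mul, eq_comm]
        by_cases hx : x ∈ X
        · rw [if_pos (hiff.2 hx), if_pos hx, mul_comm]
          congr 1
          have := Agent.Char.IsCharacter.isClassFunction (Agent.Char.irr_isCharacter ξ) a ⟨x⁻¹, inv_mem hx⟩
          refine Eq.trans ?_ this
          exact congrArg ξ.1 (Subtype.ext (by simp))
        · rw [if_neg (fun h => hx (hiff.1 h)), if_neg hx, mul_zero]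
      · rw [if_neg fun hx => hm (mul_mem (mul_mem (inv_mem hx) a.2) hx)]
        refine Finset.sum_eq_zero fun β _ => ?_
        rw [Agent.Char.extendByZero_of_notMem _ _ hm, mul_zero]
    have h0 : ∑ β : IrrCharacter (X ⧸ Z'), starRingEnd ℂ (β.1 (a : X ⧸ Z')) *
        indFun X (Agent.Char.mulQuotient Z' ξ.1 β.1) a = 0 :=
      Finset.sum_eq_zero fun β _ => by
        rw [hvan ⟨_, Agent.Char.isIrrCharacter_mulQuotient Z' ξ hres' β⟩ (fun z => ?_) _ haZ, mul_zero]
        show ξ.1 _ * β.1 _ = _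
        rw [hξ, show ((Subgroup.inclusion hZX z : X) : X ⧸ Z') = 1 from
          (QuotientGroup.eq_one_iff _).2 (Subgroup.mem_subgroupOf.2 z.2),
          Agent.Char.apply_one_of_comm hcomm β, mul_one]
    have h1 : (Nat.card X : ℂ)⁻¹ * ∑ x : H, ∑ β : IrrCharacter (X ⧸ Z'),
        starRingEnd ℂ (β.1 (a : X ⧸ Z')) *
          extendByZero X (Agent.Char.mulQuotient Z' ξ.1 β.1) (x⁻¹ * a * x) = 0 := by
      rw [← h0, Finset.sum_comm, Finset.mul_sum]
      refine Finset.sum_congr rfl fun β _ => ?_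
      simp only [indFun, Finset.mul_sum]
      exact Finset.sum_congr rfl fun x _ => by ring
    replace h0 := (mul_eq_zero.1 h1).resolve_left (inv_ne_zero (Nat.cast_ne_zero.2 Nat.card_pos.ne'))
    rw [Finset.sum_congr rfl fun x _ => key x, Finset.sum_ite, Finset.sum_const_zero,
      add_zero, Finset.sum_const, nsmul_eq_mul, mul_eq_zero, mul_eq_zero] at h0
    rcases h0 with h | h | h
    · exact absurd (Finset.card_eq_zero.1 (Nat.cast_eq_zero.1 h)) (Finset.nonempty_iff_ne_empty.1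
        ⟨1, Finset.mem_filter.2 ⟨Finset.mem_univ _, X.one_mem⟩⟩)
    · exact absurd (Nat.cast_eq_zero.1 h) Nat.card_pos.ne'
    · exact h
  have hsumz := Agent.Char.sum_coset_mul_conj Z' ξ hres' ⟨g, hc⟩
  rw [Finset.sum_eq_zero fun n _ => by
    rw [hzero _ (by
      show ((g * ((n : X) : H) : H) : H ⧸ Z) = g
      rw [QuotientGroup.mk_mul, (QuotientGroup.eq_one_iff _).2 (Subgroup.mem_subgroupOf.1 n.2),
        mul_one]), zero_mul]] at hsumz
  exact Nat.card_pos.ne' (Nat.cast_eq_zero.1 hsumz.symm)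

end Cfsg.Agent.S4565
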