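import Cfsg.Statements.S4566
import Cfsg.Agent.Lib.CharInt.Central
import Cfsg.Agent.Lib.CharInt.Basic
import Cfsg.Agent.Lib.Char.Linear
-- import your own Cfsg.Agent.* helpers here

set_option autoImplicit false
open Cfsg

namespace Cfsg.Agent.S4566

/-- Let N be a central subgroup of the finite group G, ψ a faithful irreducible (hence degree-one) character of N, and χ an irreducible character of G whose restriction to N contains ψ. If g ∈ G and some x ∈ G has commutator x⁻¹ g⁻¹ x g in N but different from 1, then χ g = 0. -/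
theorem result {G : Type*} [Group G] [Fintype G] (N : Subgroup G) [Fintype N] (hN : N ≤ Subgroup.center G) (ψ : Cfsg.IrrCharacter ↥N) (hfaith : ∀ n : ↥N, (ψ : ↥N → ℂ) n = (ψ : ↥N → ℂ) 1 → n = 1) (χ : Cfsg.IrrCharacter G) (hover : Cfsg.classInner (fun n : ↥N => (χ : G → ℂ) n) (ψ : ↥N → ℂ) ≠ 0) (g x : G) (hcomm : x⁻¹ * g⁻¹ * x * g ∈ N) (hne : x⁻¹ * g⁻¹ * x * g ≠ 1) : (χ : G → ℂ) g = 0 := by
  have hNc : ∀ a b : N, a * b = b * a := fun a b =>
    Subtype.ext (Subgroup.mem_center_iff.1 (hN b.2) (a : G))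
  obtain ⟨lam, hlam⟩ := Cfsg.Agent.Char.IsCharacter.exists_monoidHom
    (Cfsg.Agent.Char.irr_isCharacter ψ) (Cfsg.Agent.Char.apply_one_of_comm hNc ψ)
  set c : G := x⁻¹ * g⁻¹ * x * g with hc
  obtain ⟨n, ρ, hρ, hρχ⟩ := χ.2
  have := hρ
  obtain ⟨t, ht⟩ := Cfsg.Agent.CharInt.exists_smul_one_of_mem_center ρ (hN hcomm)
  have hmul : ∀ y, (χ : G → ℂ) (y * c) = t * (χ : G → ℂ) y := fun y => by
    rw [← hρχ]
    simp [Representation.character, map_mul, ht]
  by_contra h0
  have ht1 : t = 1 := by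
    have e : (χ : G → ℂ) (x⁻¹ * g * x) = (χ : G → ℂ) g := by
      simpa using Cfsg.Agent.CharInt.char_conj_apply (Cfsg.Agent.Char.irr_isCharacter χ) g x⁻¹
    have e2 : x⁻¹ * g * x * c = g := by rw [hc]; group
    have := hmul (x⁻¹ * g * x)
    rw [e2, e] at this
    exact (mul_eq_right₀ h0).1 this.symm
  apply hne
  let c' : N := ⟨c, hcomm⟩
  suffices hl : lam c' = 1 by
    have := hfaith c' (by rw [← hlam, hl, map_one])
    exact congrArg Subtype.val this
  have hS : (∑ m : N, (χ : G → ℂ) m * starRingEnd ℂ (lam m)) ≠ 0 := by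
    intro h
    apply hover
    simp [Cfsg.classInner, ← hlam, h]
  have h2 : (∑ m : N, (χ : G → ℂ) m * starRingEnd ℂ (lam m)) * starRingEnd ℂ (lam c') =
      ∑ m : N, (χ : G → ℂ) m * starRingEnd ℂ (lam m) := by
    conv_rhs => rw [← Equiv.sum_comp (Equiv.mulRight c')]
    rw [Finset.sum_mul]
    refine Finset.sum_congr rfl fun m _ => ?_
    simp only [Equiv.coe_mulRight, Subgroup.coe_mul, map_mul]
    rw [show ((c' : N) : G) = c from rfl, hmul, ht1]
    ring
  have h3 := (mul_eq_left₀ hS).1 h2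
  simpa using congrArg (starRingEnd ℂ) h3

end Cfsg.Agent.S4566
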