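import Cfsg.Statements.S4567
import Cfsg.Agent.Lib.Char.CliffordCorrespondence
import Cfsg.Agent.Lib.CharInt.Central
import Cfsg.Agent.Lib.Char.Linear

set_option autoImplicit false
open Cfsg

namespace Cfsg.Agent.S4567

/-- `g` commutes with everything it commutes with modulo `N`. -/
def Special {G : Type*} [Group G] (N : Subgroup G) (g : G) : Prop :=
  ∀ x : G, x⁻¹ * g⁻¹ * x * g ∈ N → x * g = g * x

theorem special_mul {G : Type*} [Group G] {N : Subgroup G} (hN : N ≤ Subgroup.center G) {g n : G}
    (hn : n ∈ N) (h : Special N g) : Special N (g * n) := fun x hx => by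
  have hc : ∀ y, y * n = n * y := fun y => Subgroup.mem_center_iff.1 (hN hn) y
  have he : x⁻¹ * (g * n)⁻¹ * x * (g * n) = x⁻¹ * g⁻¹ * x * g := by
    rw [mul_inv_rev, ← mul_assoc (x⁻¹ * (n⁻¹ * g⁻¹) * x), hc (x⁻¹ * (n⁻¹ * g⁻¹) * x * g)]
    rw [show n⁻¹ * g⁻¹ = g⁻¹ * n⁻¹ from by rw [← mul_inv_rev, ← mul_inv_rev, hc g]]
    rw [show x⁻¹ * (g⁻¹ * n⁻¹) * x = n⁻¹ * (x⁻¹ * g⁻¹ * x) from ?_]
    · group
    · have hni : ∀ y, y * n⁻¹ = n⁻¹ * y := fun y => Subgroup.mem_center_iff.1 (hN (inv_mem hn)) y
      rw [← mul_assoc, hni (x⁻¹ * g⁻¹), mul_assoc n⁻¹ (x⁻¹ * g⁻¹) x]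
  rw [he] at hx
  rw [← mul_assoc, h x hx, mul_assoc, hc x, ← mul_assoc]

theorem special_conj {G : Type*} [Group G] {N : Subgroup G} [N.Normal] {g : G} (y : G)
    (h : Special N g) : Special N (y * g * y⁻¹) := fun x hx => by
  have hx' : (y⁻¹ * x * y)⁻¹ * g⁻¹ * (y⁻¹ * x * y) * g ∈ N := by
    have := Subgroup.Normal.conj_mem ‹N.Normal› _ hx y⁻¹
    convert this using 1
    group
  have := congrArg (fun z => y * z * y⁻¹) (h _ hx')
  simpa [mul_assoc] using this

/-- Let N be a central subgroup of the finite group G and ψ a faithful irreducible (hence degree-one) character of N. Call a coset g N special when every x ∈ G whose commutator x⁻¹ g⁻¹ x g lies in N actually commutes with g (this depends only on the coset). Then the number of irreducible characters of G whose restriction to N contains ψ equals the number of conjugacy classes of G/N consisting of special cosets. -/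
theorem result {G : Type*} [Group G] [Fintype G] (N : Subgroup G) [N.Normal] [Fintype N] (hN : N ≤ Subgroup.center G) (ψ : Cfsg.IrrCharacter ↥N) (hfaith : ∀ n : ↥N, (ψ : ↥N → ℂ) n = (ψ : ↥N → ℂ) 1 → n = 1) : Nat.card {χ : Cfsg.IrrCharacter G // Cfsg.classInner (fun n : ↥N => (χ : G → ℂ) n) (ψ : ↥N → ℂ) ≠ 0} = Nat.card {C : ConjClasses (G ⧸ N) // ∃ g : G, ConjClasses.mk (g : G ⧸ N) = C ∧ ∀ x : G, x⁻¹ * g⁻¹ * x * g ∈ N → x * g = g * x} := by
  classical
  have hNc : ∀ a b : N, a * b = b * a := fun a b =>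
    Subtype.ext (Subgroup.mem_center_iff.1 (hN b.2) (a : G))
  obtain ⟨lam, hlam⟩ := Agent.Char.IsCharacter.exists_monoidHom
    (Agent.Char.irr_isCharacter ψ) (Agent.Char.apply_one_of_comm hNc ψ)
  have hinv : ∀ g, Agent.Char.conjFun N ψ.1 g = ψ.1 := fun g => funext fun n =>
    congrArg ψ.1 (Subtype.ext (by
      rw [MulAut.conjNormal_apply, Subgroup.mem_center_iff.1 (hN n.2) g, mul_inv_cancel_right]))
  set ovr : IrrCharacter G → Prop := fun χ => classInner (fun n : N => χ.1 n) ψ.1 ≠ 0 with hov
  have hN0 : (Nat.card N : ℂ) ≠ 0 := Agent.Char.card_ne_zero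
  -- projection onto the characters over `ψ`
  have hproj : ∀ (χ : IrrCharacter G) (g : G),
      ∑ n : N, starRingEnd ℂ (lam n) * χ.1 (g * n) =
        if ovr χ then (Nat.card N : ℂ) * χ.1 g else 0 := fun χ g => by
    obtain ⟨d, ρ, hρ, hρχ⟩ := χ.2
    haveI := hρ
    have h1 : χ.1 1 ≠ 0 := Agent.Char.IsIrrCharacter.apply_one_ne_zero χ.2
    have ht : ∀ n : N, χ.1 (g * n) = χ.1 n / χ.1 1 * χ.1 g := fun n => by
      obtain ⟨t, ht⟩ := Agent.CharInt.exists_smul_one_of_mem_center ρ (hN n.2)
      have hm : ∀ y, χ.1 (y * n) = t * χ.1 y := fun y => by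
        rw [← hρχ]
        simp [Representation.character, map_mul, ht]
      have hn := hm 1
      rw [one_mul] at hn
      rw [hm, hn, mul_div_assoc, div_self h1, mul_one]
    have hci : ∑ n : N, starRingEnd ℂ (lam n) * χ.1 n =
        (Nat.card N : ℂ) * classInner (fun n : N => χ.1 n) ψ.1 := by
      rw [classInner, ← mul_assoc, mul_inv_cancel₀ hN0, one_mul]
      exact Finset.sum_congr rfl fun n _ => by rw [← hlam, mul_comm]
    rw [Finset.sum_congr rfl fun n _ => show _ = χ.1 g / χ.1 1 * (starRingEnd ℂ (lam n) * χ.1 n) by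
      rw [ht]; ring, ← Finset.mul_sum, hci]
    split_ifs with h
    · have hr := congrFun (Agent.Char.resFun_eq_smul_of_invariant N χ ψ hinv h) 1
      rw [Pi.smul_apply, smul_eq_mul, ← hlam, map_one, mul_one, Agent.Char.resFun_apply,
        Subgroup.coe_one, hlam] at hr
      rw [show classInner (fun n : N => χ.1 n) ψ.1 = χ.1 1 from hr.symm]
      field_simp
    · rw [show classInner (fun n : N => χ.1 n) ψ.1 = 0 from not_not.1 h, mul_zero, mul_zero]
  -- twisted second orthogonality
  have horth : ∀ g : G, (Nat.card N : ℂ) *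
      ∑ χ ∈ Finset.univ.filter ovr, χ.1 g * starRingEnd ℂ (χ.1 g) =
        if Special N g then (Nat.card (Subgroup.centralizer ({g} : Set G)) : ℂ) else 0 := fun g => by
    rw [Finset.mul_sum, Finset.sum_filter,
      Finset.sum_congr rfl fun χ _ => show _ = ∑ n : N, starRingEnd ℂ (lam n) *
        (χ.1 (g * n) * starRingEnd ℂ (χ.1 g)) by
        rw [← Finset.sum_congr rfl fun n _ => mul_assoc _ _ _, ← Finset.sum_mul, hproj]
        split_ifs <;> ring,
      Finset.sum_comm]
    simp only [← Finset.mul_sum, Agent.Char.sum_irr_mul_conj, mul_ite, mul_zero]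
    let A : Subgroup N :=
      { carrier := {n | IsConj (g * n) g}
        one_mem' := by
          show IsConj (g * ((1 : N) : G)) g
          rw [Subgroup.coe_one, mul_one]
        mul_mem' := fun {a b} ha hb => by
          obtain ⟨x, hx⟩ := isConj_iff.1 ha
          obtain ⟨y, hy⟩ := isConj_iff.1 hb
          refine isConj_iff.2 ⟨y * x, ?_⟩
          have hb' : ∀ z, z * (b : G) = b * z := Subgroup.mem_center_iff.1 (hN b.2)
          calc y * x * (g * ((a * b : N) : G)) * (y * x)⁻¹
              = y * (x * (g * a) * x⁻¹ * (x * b * x⁻¹)) * y⁻¹ := by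
                rw [Subgroup.coe_mul]; group
            _ = y * (g * b) * y⁻¹ := by rw [hx, hb' x, mul_inv_cancel_right]
            _ = g := hy
        inv_mem' := fun {a} ha => by
          obtain ⟨x, hx⟩ := isConj_iff.1 ha
          refine isConj_iff.2 ⟨x⁻¹, ?_⟩
          have ha' : ∀ z, z * (a : G)⁻¹ = (a : G)⁻¹ * z :=
            Subgroup.mem_center_iff.1 (hN (inv_mem a.2))
          calc x⁻¹ * (g * ((a⁻¹ : N) : G)) * x⁻¹⁻¹ = x⁻¹ * g * ((a : G)⁻¹ * x) := by
                rw [Subgroup.coe_inv]; group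
            _ = x⁻¹ * g * x * (a : G)⁻¹ := by rw [← ha' x, ← mul_assoc]
            _ = x⁻¹ * (x * (g * a) * x⁻¹) * x * (a : G)⁻¹ := by rw [hx]
            _ = g := by group }
    rw [← Finset.sum_filter, ← Finset.sum_mul]
    have hA : ∑ n ∈ Finset.univ.filter (fun n : N => IsConj (g * n) g), starRingEnd ℂ (lam n) =
        if Special N g then 1 else 0 := by
      have hmemA : ∀ n : N, n ∈ A ↔ IsConj (g * n) g := fun n => Iff.rfl
      split_ifs with hsp
      · rw [Finset.sum_eq_single (1 : N)]
        · rw [map_one, map_one]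
        · intro n hn hne
          obtain ⟨x, hx⟩ := isConj_iff.1 (Finset.mem_filter.1 hn).2
          refine absurd ?_ hne
          have hn' : ∀ z, z * (n : G) = n * z := Subgroup.mem_center_iff.1 (hN n.2)
          have hxg : x * g * x⁻¹ = g * (n : G)⁻¹ := by
            have h2 : x * g * x⁻¹ * n = g := by
              rw [mul_assoc (x * g), hn' x⁻¹, ← mul_assoc, mul_assoc x g, hx]
            rw [← mul_inv_cancel_right (x * g * x⁻¹) (n : G), h2]
          have hcom := hsp x⁻¹ (by
            have : x⁻¹⁻¹ * g⁻¹ * x⁻¹ * g = (g * (n : G)⁻¹)⁻¹ * g := by rw [← hxg]; group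
            rw [this, mul_inv_rev, inv_inv, mul_assoc, inv_mul_cancel, mul_one]
            exact n.2)
          refine Subtype.ext (inv_eq_one.1 (mul_eq_left.1 (?_ : g * (n : G)⁻¹ = g)))
          rw [← hxg, mul_assoc, ← hcom, mul_inv_cancel_left]
        · intro h
          exact absurd (Finset.mem_filter.2 ⟨Finset.mem_univ (1 : N), (hmemA 1).1 A.one_mem⟩) h
      · obtain ⟨x, hx, hxne⟩ : ∃ x, x⁻¹ * g⁻¹ * x * g ∈ N ∧ x * g ≠ g * x := by
          by_contra hh
          push Not at hh
          exact hsp hh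
        set m : N := ⟨_, hx⟩
        have hmA : m⁻¹ ∈ A := (hmemA _).2 (isConj_iff.2 ⟨x, by
          show x * (g * (x⁻¹ * g⁻¹ * x * g)⁻¹) * x⁻¹ = g
          group⟩)
        have hne : starRingEnd ℂ (lam m⁻¹) ≠ 1 := fun h => hxne (by
          have h2 : lam m⁻¹ = 1 := by simpa using congrArg (starRingEnd ℂ) h
          have h3 : m⁻¹ = 1 := hfaith _ (by rw [← hlam, h2, map_one])
          have h4 : x⁻¹ * g⁻¹ * x * g = 1 := congrArg Subtype.val (inv_eq_one.1 h3)
          calc x * g = g * x * (x⁻¹ * g⁻¹ * x * g) := by group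
            _ = g * x := by rw [h4, mul_one])
        have hshift : ∑ n ∈ Finset.univ.filter (fun n : N => n ∈ A), starRingEnd ℂ (lam n) =
            starRingEnd ℂ (lam m⁻¹) *
              ∑ n ∈ Finset.univ.filter (fun n : N => n ∈ A), starRingEnd ℂ (lam n) := by
          rw [Finset.mul_sum]
          refine (Finset.sum_bij' (fun n _ => m⁻¹ * n) (fun n _ => m⁻¹⁻¹ * n) ?_ ?_ ?_ ?_ ?_).symm
          · exact fun n hn => Finset.mem_filter.2
              ⟨Finset.mem_univ _, A.mul_mem hmA (Finset.mem_filter.1 hn).2⟩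
          · exact fun n hn => Finset.mem_filter.2
              ⟨Finset.mem_univ _, A.mul_mem (A.inv_mem hmA) (Finset.mem_filter.1 hn).2⟩
          · intro n _
            rw [inv_mul_cancel_left]
          · intro n _
            rw [mul_inv_cancel_left]
          · intro n _
            rw [map_mul, map_mul]
        rw [Finset.filter_congr fun n _ => (hmemA n).symm]
        by_contra h
        exact hne (mul_right_cancel₀ h ((one_mul _).trans hshift).symm)
    rw [hA]
    split_ifs <;> simp
  -- centralisers modulo `N`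
  have hcent : ∀ g : G, Special N g → Nat.card (Subgroup.centralizer ({g} : Set G)) =
      Nat.card N * Nat.card (Subgroup.centralizer ({(g : G ⧸ N)} : Set (G ⧸ N))) := fun g hg => by
    have he : Subgroup.centralizer ({g} : Set G) =
        (Subgroup.centralizer ({(g : G ⧸ N)} : Set (G ⧸ N))).comap (QuotientGroup.mk' N) := by
      ext x
      rw [Subgroup.mem_comap, Subgroup.mem_centralizer_iff, Subgroup.mem_centralizer_iff]
      simp only [Set.mem_singleton_iff, forall_eq, QuotientGroup.mk'_apply]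
      refine ⟨fun h => by rw [← QuotientGroup.mk_mul, ← QuotientGroup.mk_mul, h], fun h => ?_⟩
      rw [← QuotientGroup.mk_mul, ← QuotientGroup.mk_mul, QuotientGroup.eq] at h
      refine (hg x ?_).symm
      convert h using 1
      group
    rw [he]
    exact (Nat.card_congr (QuotientGroup.preimageMkEquivSubgroupProdSet N
      (Subgroup.centralizer ({(g : G ⧸ N)} : Set (G ⧸ N)) : Set (G ⧸ N)))).trans (Nat.card_prod _ _)
  -- count
  have hG : (Nat.card G : ℂ) ≠ 0 := Agent.Char.card_ne_zero
  set sp : G ⧸ N → Prop := fun q => ∃ g : G, (g : G ⧸ N) = q ∧ Special N g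
  have hsp : ∀ g : G, sp g ↔ Special N g := fun g => by
    refine ⟨?_, fun h => ⟨g, rfl, h⟩⟩
    rintro ⟨g', hg', h⟩
    have := special_mul hN (QuotientGroup.eq.1 hg') h
    rwa [mul_inv_cancel_left] at this
  haveI := Fintype.ofFinite (G ⧸ N)
  have hQ : ∑ q ∈ Finset.univ.filter sp, Nat.card (Subgroup.centralizer ({q} : Set (G ⧸ N))) =
      Nat.card {C : ConjClasses (G ⧸ N) // ∃ g : G, ConjClasses.mk (g : G ⧸ N) = C ∧ Special N g} *
        Nat.card (G ⧸ N) := by
    rw [Nat.card_eq_fintype_card, Fintype.card_subtype, ← smul_eq_mul, ← Finset.sum_const,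
      ← Finset.sum_fiberwise_of_maps_to (g := ConjClasses.mk) (t := Finset.univ.filter
        fun C => ∃ g : G, ConjClasses.mk (g : G ⧸ N) = C ∧ Special N g) (fun q hq => by
          obtain ⟨g, rfl, hg⟩ := (Finset.mem_filter.1 hq).2
          exact Finset.mem_filter.2 ⟨Finset.mem_univ _, g, rfl, hg⟩)]
    refine Finset.sum_congr rfl fun C hC => ?_
    obtain ⟨g, rfl, hg⟩ := (Finset.mem_filter.1 hC).2
    have hset : (Finset.univ.filter sp).filter (fun q => ConjClasses.mk q = ConjClasses.mk (g : G ⧸ N)) =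
        Finset.univ.filter (fun q => IsConj (g : G ⧸ N) q) := by
      ext q
      simp only [Finset.mem_filter, Finset.mem_univ, true_and, ConjClasses.mk_eq_mk_iff_isConj]
      refine ⟨fun h => h.2.symm, fun h => ⟨?_, h.symm⟩⟩
      obtain ⟨y, hy⟩ := isConj_iff.1 h
      obtain ⟨y, rfl⟩ := QuotientGroup.mk_surjective y
      exact ⟨y * g * y⁻¹, by rw [← hy]; rfl, special_conj y hg⟩
    rw [hset, Finset.sum_congr rfl fun q hq => show _ =
      Nat.card (Subgroup.centralizer ({(g : G ⧸ N)} : Set (G ⧸ N))) from ?_, Finset.sum_const,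
      smul_eq_mul, ← Agent.Char.card_centralizer_mul_card_conj (g : G ⧸ N), mul_comm]
    · congr 1
      rw [Nat.card_eq_fintype_card (α := {x // IsConj (g : G ⧸ N) x}), Fintype.card_subtype]
    · obtain ⟨y, hy⟩ := isConj_iff.1 (Finset.mem_filter.1 hq).2
      refine (Nat.card_congr ((MulAut.conj y).toEquiv.subtypeEquiv fun z => ?_)).symm
      rw [Subgroup.mem_centralizer_iff, Subgroup.mem_centralizer_iff]
      simp only [Set.mem_singleton_iff, forall_eq, ← hy, MulEquiv.toEquiv_eq_coe,
        MulEquiv.coe_toEquiv, EquivLike.coe_coe, MulAut.conj_apply]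
      constructor
      · intro h
        have := congrArg (fun z => y * z * y⁻¹) h
        simpa [mul_assoc] using this
      · intro h
        have := congrArg (fun z => y⁻¹ * z * y) h
        simpa [mul_assoc] using this
  have key : (Nat.card {χ : IrrCharacter G // ovr χ} : ℂ) * Nat.card G =
      (Nat.card {C : ConjClasses (G ⧸ N) // ∃ g : G, ConjClasses.mk (g : G ⧸ N) = C ∧ Special N g} : ℂ) *
        Nat.card G := by
    have hL : (Nat.card N : ℂ) * ((Nat.card {χ : IrrCharacter G // ovr χ} : ℂ) * Nat.card G) =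
        ∑ g : G, if Special N g then (Nat.card (Subgroup.centralizer ({g} : Set G)) : ℂ) else 0 := by
      rw [← Finset.sum_congr rfl fun g _ => horth g, ← Finset.mul_sum, Finset.sum_comm,
        Nat.card_eq_fintype_card (α := {χ : IrrCharacter G // ovr χ}), Fintype.card_subtype]
      congr 1
      rw [Finset.sum_congr rfl fun χ _ => show _ = (Nat.card G : ℂ) from ?_, Finset.sum_const,
        nsmul_eq_mul]
      have h := Agent.Char.classInner_irr_self χ.2
      rw [classInner, inv_mul_eq_one₀ hG] at h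
      exact h.symm
    rw [← Finset.sum_filter, Finset.sum_congr rfl fun g hg => by
        rw [hcent g (Finset.mem_filter.1 hg).2, Nat.cast_mul], ← Finset.mul_sum] at hL
    refine (mul_left_cancel₀ hN0 hL).trans ?_
    rw [← Nat.cast_sum, ← Nat.cast_mul]
    refine congrArg _ ?_
    rw [N.card_eq_card_quotient_mul_card_subgroup, ← mul_assoc, ← hQ, Finset.sum_mul,
      ← Finset.sum_fiberwise_of_maps_to (g := fun g : G => (g : G ⧸ N)) (t := Finset.univ.filter sp)
        (fun g hg => Finset.mem_filter.2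
          ⟨Finset.mem_univ _, (hsp g).2 (Finset.mem_filter.1 hg).2⟩)]
    refine Finset.sum_congr rfl fun q hq => ?_
    obtain ⟨g, rfl, hg⟩ := (Finset.mem_filter.1 hq).2
    rw [Finset.sum_congr rfl fun x hx => by rw [(Finset.mem_filter.1 hx).2], Finset.sum_const,
      smul_eq_mul, mul_comm]
    congr 1
    rw [Nat.card_eq_fintype_card, ← Finset.card_univ]
    refine Finset.card_bij' (fun x hx => (⟨g⁻¹ * x, ?_⟩ : N)) (fun n _ => g * (n : G)) ?_ ?_ ?_ ?_
    · rw [← QuotientGroup.eq]
      exact (Finset.mem_filter.1 hx).2.symm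
    · exact fun _ _ => Finset.mem_univ _
    · intro n _
      have hq' : ((g * (n : G) : G) : G ⧸ N) = g := by
        rw [QuotientGroup.mk_mul, (QuotientGroup.eq_one_iff (n : G)).2 n.2, mul_one]
      exact Finset.mem_filter.2 ⟨Finset.mem_filter.2 ⟨Finset.mem_univ _, special_mul hN n.2 hg⟩, hq'⟩
    · exact fun x _ => mul_inv_cancel_left g x
    · exact fun n _ => Subtype.ext (inv_mul_cancel_left g _)
  exact_mod_cast mul_right_cancel₀ hG key

end Cfsg.Agent.S4567
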