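import Cfsg.Statements.S4570
import Cfsg.Agent.Lib.InvolRankOne.Main

set_option autoImplicit false
open Cfsg

namespace Cfsg.Agent.S4570

/-- Let G be a finite group with a commutative Sylow 2-subgroup P and M a maximal ideal of the algebraic integers containing 2, and suppose some involution x of G has the property that the principal 2-block of its centralizer has 2-regular rank one. If P has order 8 then the principal 2-block of G contains exactly 8 irreducible characters, and if P has order 16 it contains 8 or 16. -/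
theorem result {G : Type*} [Group G] [Finite G] (M : Ideal Cfsg.AlgInt) (hM : Cfsg.IsPModular 2 M) (P : Sylow 2 G) (hab : IsMulCommutative P) (x : G) (hx : orderOf x = 2) (hl : Cfsg.blockRank 2 (Cfsg.principalBlock M ↥(Subgroup.centralizer ({x} : Set G))) = 1) : (Nat.card P = 8 → Nat.card (Cfsg.principalBlock M G) = 8) ∧ (Nat.card P = 16 → Nat.card (Cfsg.principalBlock M G) = 8 ∨ Nat.card (Cfsg.principalBlock M G) = 16) := by
  classical
  haveI := Fintype.ofFinite G
  haveI : Fact (Nat.Prime 2) := ⟨Nat.prime_two⟩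
  haveI : M.IsMaximal := hM.2.1
  haveI : CharP (AlgInt ⧸ M) 2 := Blocks.charP_residue hM.2.2
  have hnc : HasNormalPComplement 2 (Subgroup.centralizer ({x} : Set G)) :=
    BrauerPairs.isNilpotentBlock_principal_iff.1 ((S4646.result 2 M hM).2 hl)
  -- a Sylow subgroup containing `x`
  have hpg : IsPGroup 2 (Subgroup.zpowers x) := IsPGroup.of_card (n := 1) (by
    rw [Nat.card_zpowers, hx, pow_one])
  obtain ⟨Q, hQ⟩ := hpg.exists_le_sylow
  obtain ⟨g, hg⟩ := MulAction.exists_smul_eq G Q P
  have hQab : ∀ a ∈ (Q : Subgroup G), ∀ b ∈ (Q : Subgroup G), a * b = b * a := by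
    intro a ha b hb
    have hm : ∀ t ∈ (Q : Subgroup G), g * t * g⁻¹ ∈ (P : Subgroup G) := fun t ht => by
      rw [← hg]; exact ⟨t, ht, rfl⟩
    have h := congrArg Subtype.val
      (hab.is_comm.comm (⟨_, hm a ha⟩ : P) ⟨_, hm b hb⟩)
    simp only [Subgroup.coe_mul, MulMemClass.mk_mul_mk] at h
    rw [show g * a * g⁻¹ * (g * b * g⁻¹) = g * (a * b) * g⁻¹ by group,
      show g * b * g⁻¹ * (g * a * g⁻¹) = g * (b * a) * g⁻¹ by group] at h
    exact mul_left_cancel (mul_right_cancel h)
  have hcard : Nat.card (Q : Subgroup G) = Nat.card P :=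
    Q.card_eq_multiplicity.trans P.card_eq_multiplicity.symm
  have hkey := fun hq => InvolRankOne.card_principal_cases hM hQab (hQ (Subgroup.mem_zpowers x)) hx
    hnc hq
  refine ⟨fun h => ?_, fun h => ?_⟩
  · rcases hkey (Or.inl (hcard.trans h)) with e | ⟨e, -⟩
    · exact e.trans (hcard.trans h)
    · omega
  · rcases hkey (Or.inr (hcard.trans h)) with e | ⟨-, e⟩
    · exact Or.inr (e.trans (hcard.trans h))
    · exact Or.inl e

end Cfsg.Agent.S4570
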