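import Cfsg.Statements.S4571
import Cfsg.Agent.Lib.Blocks.Core
import Cfsg.Agent.Lib.Char.Descend

set_option autoImplicit false
open Cfsg

namespace Cfsg.Agent.S4571

/-- Let Q be a normal p-subgroup of the finite group G with G = Q·C_G(Q), and M a maximal ideal of the algebraic integers containing p. Then the principal p-blocks of G and of G/Q have the same p-regular rank (the same number of irreducible Brauer characters). -/
theorem result {G : Type*} [Group G] [Finite G] (p : ℕ) [Fact p.Prime] (M : Ideal Cfsg.AlgInt) (hM : Cfsg.IsPModular p M) (Q : Subgroup G) [Q.Normal] (hQ : IsPGroup p Q) (hsup : Q ⊔ Subgroup.centralizer (Q : Set G) = ⊤) : Cfsg.blockRank p (Cfsg.principalBlock M G) = Cfsg.blockRank p (Cfsg.principalBlock M (G ⧸ Q)) := by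
  classical
  haveI := hM.2.1
  haveI := Fintype.ofFinite G
  haveI := Fintype.ofFinite (G ⧸ Q)
  have hp : p.Prime := Fact.out
  obtain ⟨a, ha⟩ := hQ.exists_card_eq
  have hq0 : ∀ (u : G) (n : ℕ), u ∈ Q → u ^ n = 1 → ¬ p ∣ n → u = 1 := fun u n hu hn hpn => by
    have h1 : u ^ Nat.card Q = 1 := congrArg Subtype.val (pow_card_eq_one' (x := (⟨u, hu⟩ : Q)))
    have h2 : Nat.Coprime (Nat.card Q) n := by
      rw [ha]
      exact Nat.Coprime.pow_left _ (hp.coprime_iff_not_dvd.2 hpn)
    have h3 := Nat.dvd_gcd (orderOf_dvd_of_pow_eq_one h1) (orderOf_dvd_of_pow_eq_one hn)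
    rw [h2] at h3
    exact orderOf_eq_one_iff.1 (Nat.dvd_one.1 h3)
  -- regular elements centralise `Q`
  have hcQ : ∀ g : G, IsPRegular p g → g ∈ Subgroup.centralizer (Q : Set G) := fun g hg => by
    have htop : g ∈ Q ⊔ Subgroup.centralizer (Q : Set G) := hsup ▸ Subgroup.mem_top g
    obtain ⟨u, hu, c, hc, rfl⟩ := Subgroup.mem_sup_of_normal_left.1 htop
    have hcomm : Commute u c := (Subgroup.mem_centralizer_iff.1 hc u hu)
    refine mul_mem ?_ hc
    set n := orderOf (u * c)
    have hn : u ^ n ∈ Subgroup.centralizer (Q : Set G) := by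
      have h1 : u ^ n * c ^ n = 1 := by rw [← hcomm.mul_pow, pow_orderOf_eq_one]
      rw [eq_inv_of_mul_eq_one_left h1]
      exact inv_mem (pow_mem hc n)
    have hco : Nat.Coprime n (orderOf u) :=
      Nat.Coprime.coprime_dvd_right (orderOf_dvd_of_pow_eq_one (congrArg Subtype.val
        (pow_card_eq_one' (x := (⟨u, hu⟩ : Q)))))
        (ha ▸ Nat.Coprime.pow_right _ (hp.coprime_iff_not_dvd.2 hg).symm)
    obtain ⟨j, hj⟩ := exists_pow_eq_self_of_coprime hco
    rw [← hj]
    exact pow_mem hn j
  have hregq : ∀ g : G, IsPRegular p g → IsPRegular p (g : G ⧸ Q) := fun g hg hd =>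
    hg (hd.trans (orderOf_map_dvd (QuotientGroup.mk' Q) g))
  have hinj : ∀ g g' : G, IsPRegular p g → IsPRegular p g' → (g : G ⧸ Q) = g' → g = g' :=
    fun g g' hg hg' he => by
    have hu := QuotientGroup.eq.1 he
    have hcomm : Commute g (g⁻¹ * g') := (Subgroup.mem_centralizer_iff.1 (hcQ g hg) _ hu).symm
    have hg'' : Commute g g' := by
      have h := (Commute.refl g).mul_right hcomm
      rwa [mul_inv_cancel_left] at h
    have h2 := hq0 _ (orderOf g * orderOf g') hu (by
      rw [(hg''.inv_left).mul_pow, inv_pow, pow_mul, pow_orderOf_eq_one, one_pow, inv_one,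
        one_mul, mul_comm, pow_mul, pow_orderOf_eq_one, one_pow]) (hp.not_dvd_mul hg hg')
    exact inv_mul_eq_one.1 h2
  have hlift : ∀ q : G ⧸ Q, IsPRegular p q → ∃ g : G, (g : G ⧸ Q) = q ∧ IsPRegular p g := fun q hq => by
    obtain ⟨g, rfl⟩ := QuotientGroup.mk_surjective q
    obtain ⟨j, hj⟩ := exists_pow_eq_self_of_coprime (x := (g : G ⧸ Q)) (n := Nat.card Q)
      (ha ▸ Nat.Coprime.pow_left _ (hp.coprime_iff_not_dvd.2 hq))
    refine ⟨(g ^ Nat.card Q) ^ j, by rw [QuotientGroup.mk_pow, QuotientGroup.mk_pow]; exact hj,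
      fun hd => hq (hd.trans (orderOf_dvd_of_pow_eq_one ?_))⟩
    have hm : g ^ orderOf (g : G ⧸ Q) ∈ Q :=
      (QuotientGroup.eq_one_iff _).1 (by rw [QuotientGroup.mk_pow, pow_orderOf_eq_one])
    rw [← pow_mul, ← pow_mul, show Nat.card Q * (j * orderOf (g : G ⧸ Q)) =
        orderOf (g : G ⧸ Q) * Nat.card Q * j by ring, pow_mul, pow_mul,
      show (g ^ orderOf (g : G ⧸ Q)) ^ Nat.card Q = 1 from
        congrArg Subtype.val (pow_card_eq_one' (x := (⟨_, hm⟩ : Q))), one_pow]
  have hcc : ∀ (ψ : IrrCharacter (G ⧸ Q)) (g : G), IsPRegular p g →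
      centralChar (Agent.Char.inflate Q ψ).1 g = centralChar ψ.1 (g : G ⧸ Q) := fun ψ g hg => by
    have he : Subgroup.centralizer ({g} : Set G) =
        (Subgroup.centralizer ({(g : G ⧸ Q)} : Set (G ⧸ Q))).comap (QuotientGroup.mk' Q) := by
      ext x
      rw [Subgroup.mem_comap, Subgroup.mem_centralizer_singleton_iff,
        Subgroup.mem_centralizer_singleton_iff, QuotientGroup.mk'_apply]
      refine ⟨fun h => by rw [← QuotientGroup.mk_mul, ← QuotientGroup.mk_mul, h], fun h => ?_⟩
      have hconj : IsPRegular p (x * g * x⁻¹) := fun hd =>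
        hg (hd.trans (orderOf_map_dvd (MulAut.conj x).toMonoidHom g))
      have := hinj _ _ hconj hg (by
        rw [QuotientGroup.mk_mul, QuotientGroup.mk_mul, QuotientGroup.mk_inv, h, mul_inv_cancel_right])
      exact mul_inv_eq_iff_eq_mul.1 this
    show ((Subgroup.centralizer ({g} : Set G)).index : ℂ) * ψ.1 (g : G ⧸ Q) / ψ.1 ((1 : G) : G ⧸ Q) = _
    rw [he, Subgroup.index_comap_of_surjective _ (QuotientGroup.mk'_surjective Q)]
    rfl
  have htriv : Agent.Char.inflate Q (Agent.Char.trivialChar (G ⧸ Q)) = Agent.Char.trivialChar G :=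
    Subtype.ext (funext fun g => rfl)
  have hmem : ∀ ψ : IrrCharacter (G ⧸ Q),
      Agent.Char.inflate Q ψ ∈ principalBlock M G ↔ ψ ∈ principalBlock M (G ⧸ Q) := fun ψ => by
    show SameBlock M (Agent.Char.trivialChar G).1 (Agent.Char.inflate Q ψ).1 ↔
      SameBlock M (Agent.Char.trivialChar (G ⧸ Q)).1 ψ.1
    constructor
    · intro h
      refine Agent.Blocks.sameBlock_of_regular hM.2.2 fun q hq => ?_
      obtain ⟨g, rfl, hg⟩ := hlift q hq
      have := h g
      rwa [← htriv, hcc _ g hg, hcc _ g hg] at this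
    · intro h
      refine Agent.Blocks.sameBlock_of_regular hM.2.2 fun g hg => ?_
      rw [← htriv, hcc _ g hg, hcc _ g hg]
      exact h _
  -- the two spans
  let Φ : (G ⧸ Q → ℂ) →ₗ[ℂ] (G → ℂ) :=
    { toFun := fun f g => if IsPRegular p g then f (g : G ⧸ Q) else 0
      map_add' := fun f f' => funext fun g => by
        simp only [Pi.add_apply]
        split_ifs <;> simp
      map_smul' := fun c f => funext fun g => by
        simp only [Pi.smul_apply, RingHom.id_apply]
        split_ifs <;> simp }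
  have hΦ : ∀ ψ : IrrCharacter (G ⧸ Q),
      Φ (pRegularPart p ψ.1) = pRegularPart p (Agent.Char.inflate Q ψ).1 := fun ψ => funext fun g => by
    show (if IsPRegular p g then (pRegularPart p ψ.1) (g : G ⧸ Q) else 0) = _
    by_cases hg : IsPRegular p g
    · simp [pRegularPart, hg, hregq g hg]
    · simp [pRegularPart, hg]
  set S := Submodule.span ℂ
    ((fun χ : IrrCharacter (G ⧸ Q) => pRegularPart p χ.1) '' principalBlock M (G ⧸ Q)) with hS
  have hker : Disjoint S (LinearMap.ker Φ) := by
    rw [Submodule.disjoint_def]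
    intro f hf hf0
    have hsupp : ∀ q, ¬ IsPRegular p q → f q = 0 := by
      intro q hq
      have hle : S ≤ LinearMap.ker (LinearMap.proj q : (G ⧸ Q → ℂ) →ₗ[ℂ] ℂ) := by
        refine Submodule.span_le.2 ?_
        rintro _ ⟨ψ, -, rfl⟩
        simp [pRegularPart, hq]
      exact hle hf
    funext q
    by_cases hq : IsPRegular p q
    · obtain ⟨g, rfl, hg⟩ := hlift q hq
      have := congrFun (LinearMap.mem_ker.1 hf0) g
      simpa [Φ, hg] using this
    · exact hsupp q hq
  -- pairing over the regular elements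
  let R : ∀ {K : Type _} [Group K] [Fintype K], (K → ℂ) → (K → ℂ) → ℂ := fun {K} _ _ f φ =>
    ∑ x ∈ Finset.univ.filter (IsPRegular p : K → Prop), f x * starRingEnd ℂ (φ x)
  have hspan : ∀ χ ∈ principalBlock M G, pRegularPart p (χ : G → ℂ) ∈ S.map Φ := by
    intro χ hχ
    let f : G ⧸ Q → ℂ := fun q => if h : IsPRegular p q then χ.1 (hlift q h).choose else 0
    have hf : ∀ g : G, IsPRegular p g → f (g : G ⧸ Q) = χ.1 g := fun g hg => by
      show dite _ _ _ = _
      rw [dif_pos (hregq g hg)]
      exact congrArg χ.1 (hinj _ _ (hlift _ (hregq g hg)).choose_spec.2 hg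
        (hlift _ (hregq g hg)).choose_spec.1)
    have hf0 : ∀ q, ¬ IsPRegular p q → f q = 0 := fun q hq => dif_neg hq
    have hfc : IsClassFunction (G ⧸ Q) f := fun q y => by
      obtain ⟨y, rfl⟩ := QuotientGroup.mk_surjective y
      have hiff : IsPRegular p ((y : G ⧸ Q) * q * (y : G ⧸ Q)⁻¹) ↔ IsPRegular p q := by
        show ¬ _ ↔ ¬ _
        rw [← MulAut.conj_apply, MulEquiv.orderOf_eq]
      by_cases hq : IsPRegular p q
      · obtain ⟨g, rfl, hg⟩ := hlift q hq
        have hg' : IsPRegular p (y * g * y⁻¹) := fun hd =>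
          hg (hd.trans (orderOf_map_dvd (MulAut.conj y).toMonoidHom g))
        rw [← QuotientGroup.mk_mul, ← QuotientGroup.mk_inv, ← QuotientGroup.mk_mul, hf _ hg', hf _ hg]
        exact Agent.Char.IsCharacter.isClassFunction (Agent.Char.irr_isCharacter χ) g y
      · rw [hf0 q hq, hf0 _ (fun h => hq (hiff.1 h))]
    have hc := Agent.Char.eq_sum_classInner_smul hfc
    set T := Finset.univ.filter (fun ψ : IrrCharacter (G ⧸ Q) => ψ ∈ principalBlock M (G ⧸ Q))
    set fB : G ⧸ Q → ℂ := ∑ ψ ∈ T, classInner f ψ.1 • pRegularPart p ψ.1 with hfB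
    set fR : G ⧸ Q → ℂ := ∑ ψ ∈ Finset.univ.filter
      (fun ψ : IrrCharacter (G ⧸ Q) => ψ ∉ principalBlock M (G ⧸ Q)),
        classInner f ψ.1 • pRegularPart p ψ.1 with hfR
    have hsplit : fB + fR = f := funext fun q => by
      rw [hfB, hfR, Finset.sum_filter_add_sum_filter_not Finset.univ
        (fun ψ : IrrCharacter (G ⧸ Q) => ψ ∈ principalBlock M (G ⧸ Q)), Finset.sum_apply]
      by_cases hq : IsPRegular p q
      · refine Eq.trans (Finset.sum_congr rfl fun ψ _ => ?_)
          ((Finset.sum_apply q Finset.univ _).symm.trans (congrFun hc.symm q))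
        simp [pRegularPart, hq]
      · rw [hf0 q hq]
        exact Finset.sum_eq_zero fun ψ _ => by simp [pRegularPart, hq]
    have horth : ∀ ψ φ : IrrCharacter (G ⧸ Q), ¬ SameBlock M ψ.1 φ.1 →
        R (pRegularPart p ψ.1) φ.1 = 0 := fun ψ φ h => by
      refine Eq.trans (Finset.sum_congr rfl fun x hx => ?_)
        (Agent.Blocks.regular_orthogonality (p := p) hM.2.2 h)
      simp [pRegularPart, (Finset.mem_filter.1 hx).2]
    have hrest : fR = 0 := by
      have hzero : ∀ φ : IrrCharacter (G ⧸ Q), R fR φ.1 = 0 := by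
        intro φ
        by_cases hφ : φ ∈ principalBlock M (G ⧸ Q)
        · simp only [R, hfR, Finset.sum_apply, Pi.smul_apply, smul_eq_mul, Finset.sum_mul]
          rw [Finset.sum_comm]
          refine Finset.sum_eq_zero fun ψ hψ => ?_
          simp only [mul_assoc, ← Finset.mul_sum]
          rw [show ∑ x ∈ _, pRegularPart p ψ.1 x * starRingEnd ℂ (φ.1 x) = 0 from horth ψ φ fun h =>
            (Finset.mem_filter.1 hψ).2 (Agent.Blocks.SameBlock.trans hφ
              (Agent.Blocks.SameBlock.symm h)), mul_zero]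
        · have h1 : R f φ.1 = 0 := by
            have hG : ∑ x ∈ Finset.univ.filter (IsPRegular p : G → Prop),
                χ.1 x * starRingEnd ℂ ((Agent.Char.inflate Q φ).1 x) = 0 :=
              Agent.Blocks.regular_orthogonality (p := p) hM.2.2 fun h =>
                hφ ((hmem φ).1 (Agent.Blocks.SameBlock.trans hχ h))
            refine Eq.trans ?_ hG
            show ∑ x ∈ Finset.univ.filter (IsPRegular p : G ⧸ Q → Prop), f x * starRingEnd ℂ (φ.1 x) = _
            refine Eq.symm (Finset.sum_bij (fun g _ => (g : G ⧸ Q)) ?_ ?_ ?_ ?_)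
            · exact fun g hg => Finset.mem_filter.2
                ⟨Finset.mem_univ _, hregq g (Finset.mem_filter.1 hg).2⟩
            · exact fun g hg g' hg' => hinj g g' (Finset.mem_filter.1 hg).2 (Finset.mem_filter.1 hg').2
            · intro q hq
              obtain ⟨g, hgq, hg⟩ := hlift q (Finset.mem_filter.1 hq).2
              exact ⟨g, Finset.mem_filter.2 ⟨Finset.mem_univ _, hg⟩, hgq⟩
            · intro g hg
              rw [hf g (Finset.mem_filter.1 hg).2]
              rfl
          have h2 : R fB φ.1 = 0 := by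
            simp only [R, hfB, Finset.sum_apply, Pi.smul_apply, smul_eq_mul, Finset.sum_mul]
            rw [Finset.sum_comm]
            refine Finset.sum_eq_zero fun ψ hψ => ?_
            simp only [mul_assoc, ← Finset.mul_sum]
            rw [show ∑ x ∈ _, pRegularPart p ψ.1 x * starRingEnd ℂ (φ.1 x) = 0 from horth ψ φ fun h =>
              hφ (Agent.Blocks.SameBlock.trans (Finset.mem_filter.1 hψ).2 h), mul_zero]
          rw [← hsplit] at h1
          simp only [R, Pi.add_apply, add_mul, Finset.sum_add_distrib] at h1 h2 ⊢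
          rwa [h2, zero_add] at h1
      have hsupp : ∀ q, ¬ IsPRegular p q → fR q = 0 := fun q hq => by
        rw [hfR, Finset.sum_apply]
        exact Finset.sum_eq_zero fun ψ _ => by simp [pRegularPart, hq]
      have hfBc : IsClassFunction (G ⧸ Q) fB := fun x y => by
        simp only [hfB, Finset.sum_apply, Pi.smul_apply]
        refine Finset.sum_congr rfl fun ψ _ => ?_
        have hiff : IsPRegular p (y * x * y⁻¹) ↔ IsPRegular p x := by
          show ¬ _ ↔ ¬ _
          rw [← MulAut.conj_apply, MulEquiv.orderOf_eq]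
        simp only [pRegularPart, hiff,
          Agent.Char.IsCharacter.isClassFunction (Agent.Char.irr_isCharacter ψ) x y]
      refine Agent.Char.eq_zero_of_classInner_irr (fun x y => ?_) fun φ => ?_
      · have h1 := hfc x y
        rw [← hsplit, Pi.add_apply, Pi.add_apply, hfBc x y] at h1
        exact add_left_cancel h1
      · rw [classInner, ← Finset.sum_filter_add_sum_filter_not Finset.univ
          (IsPRegular p : G ⧸ Q → Prop), show ∑ x ∈ _, fR x * starRingEnd ℂ (φ.1 x) = 0 from hzero φ,
          Finset.sum_eq_zero fun x hx => by rw [hsupp x (Finset.mem_filter.1 hx).2, zero_mul],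
          add_zero, mul_zero]
    have heq : pRegularPart p χ.1 = Φ fB := funext fun g => by
      show _ = if IsPRegular p g then fB (g : G ⧸ Q) else 0
      by_cases hg : IsPRegular p g
      · have := congrFun hsplit (g : G ⧸ Q)
        rw [hrest, add_zero, hf g hg] at this
        simp [pRegularPart, hg, this]
      · simp [pRegularPart, hg]
    rw [heq]
    exact Submodule.mem_map_of_mem (Submodule.sum_mem _ fun ψ hψ => Submodule.smul_mem _ _
      (Submodule.subset_span ⟨ψ, (Finset.mem_filter.1 hψ).2, rfl⟩))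
  have heq : Submodule.span ℂ
      ((fun χ : IrrCharacter G => pRegularPart p χ.1) '' principalBlock M G) = S.map Φ := by
    refine le_antisymm (Submodule.span_le.2 ?_) (Submodule.map_le_iff_le_comap.2
      (Submodule.span_le.2 ?_))
    · rintro _ ⟨χ, hχ, rfl⟩
      exact hspan χ hχ
    · rintro _ ⟨ψ, hψ, rfl⟩
      exact Submodule.subset_span ⟨_, (hmem ψ).2 hψ, (hΦ ψ).symm⟩
  show Module.finrank ℂ _ = Module.finrank ℂ _
  rw [heq, Submodule.map, ← hS]
  have hinjS : Function.Injective (Φ.domRestrict S) := fun x y h => by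
    refine Subtype.ext (sub_eq_zero.1 (Submodule.disjoint_def.1 hker _ (S.sub_mem x.2 y.2) ?_))
    rw [LinearMap.mem_ker, map_sub, sub_eq_zero]
    exact h
  have h := LinearMap.finrank_range_of_inj hinjS
  rw [LinearMap.range_domRestrict] at h
  exact h

end Cfsg.Agent.S4571
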