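import Cfsg.Statements.S4573
import Cfsg.Agent.Lib.Char.Monomial
import Cfsg.Agent.Lib.Char.Gallagher
import Cfsg.Agent.Lib.Char.InducedEq
import Cfsg.Agent.S4561

set_option autoImplicit false
universe u
open Cfsg

namespace Cfsg.Agent.S4573

/-- All irreducible characters are monomial. -/
def MGroup (D : Type u) [Group D] [Fintype D] : Prop :=
  ∀ χ : IrrCharacter D, Char.IsMonomialChar χ.1

variable {D : Type u} [Group D] [Fintype D] {ι : Type} [Fintype ι]

/-- Product of characters of the factors. -/
def tensor (c : ι → IrrCharacter D) : (ι → D) → ℂ := fun f => ∏ x, (c x).1 (f x)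

theorem extendByZero_pi (S : ι → Subgroup D) (μ : ∀ x, S x → ℂ) (f : ι → D) :
    extendByZero (Subgroup.pi Set.univ S)
      (fun f : Subgroup.pi Set.univ S => ∏ x, μ x ⟨(f : ι → D) x, f.2 x (Set.mem_univ x)⟩) f =
      ∏ x, extendByZero (S x) (μ x) (f x) := by
  by_cases hf : ∀ x, f x ∈ S x
  · rw [Char.extendByZero_of_mem _ _ (show f ∈ Subgroup.pi Set.univ S from fun x _ => hf x)]
    exact Finset.prod_congr rfl fun x _ => (Char.extendByZero_of_mem (S x) (μ x) (hf x)).symm
  · rw [Char.extendByZero_of_notMem (Subgroup.pi Set.univ S) _ (g := f) (fun h => hf fun x => h x (Set.mem_univ x))]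
    obtain ⟨x, hx⟩ := not_forall.1 hf
    exact (Finset.prod_eq_zero (Finset.mem_univ x) (Char.extendByZero_of_notMem (S x) (μ x) hx)).symm

theorem card_pi (S : ι → Subgroup D) :
    Nat.card (Subgroup.pi Set.univ S) = ∏ x, Nat.card (S x) := by
  rw [← Nat.card_pi]
  exact Nat.card_congr
    { toFun := fun f x => ⟨(f : ι → D) x, f.2 x (Set.mem_univ x)⟩
      invFun := fun g => ⟨fun x => g x, fun x _ => (g x).2⟩
      left_inv := fun f => rfl
      right_inv := fun g => rfl }

theorem isMonomialChar_tensor [DecidableEq ι] (hD : MGroup D) (c : ι → IrrCharacter D) :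
    Char.IsMonomialChar (tensor c) := by
  classical
  choose S lam h using fun x => hD (c x)
  refine ⟨Subgroup.pi Set.univ S,
    { toFun := fun f => ∏ x, lam x ⟨(f : ι → D) x, f.2 x (Set.mem_univ x)⟩
      map_one' := Finset.prod_eq_one fun x _ => map_one (lam x)
      map_mul' := fun a b => by
        rw [← Finset.prod_mul_distrib]
        exact Finset.prod_congr rfl fun x _ => map_mul (lam x)
          ⟨(a : ι → D) x, a.2 x (Set.mem_univ x)⟩ ⟨(b : ι → D) x, b.2 x (Set.mem_univ x)⟩ }, ?_⟩
  funext f
  show ∏ x, (c x).1 (f x) = indFun (Subgroup.pi Set.univ S) _ f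
  simp only [indFun, h, MonoidHom.coe_mk, OneHom.coe_mk,
    extendByZero_pi S (fun x => ⇑(lam x)), card_pi, Finset.prod_mul_distrib, Nat.cast_prod,
    Pi.mul_apply, Pi.inv_apply, Finset.prod_inv_distrib, Fintype.prod_sum]

theorem classInner_tensor [DecidableEq ι] (c c' : ι → IrrCharacter D) :
    classInner (tensor c) (tensor c') = ∏ x, classInner (c x).1 (c' x).1 := by
  simp only [classInner, tensor, map_prod, ← Finset.prod_mul_distrib, Nat.card_fun]
  rw [Finset.prod_mul_distrib, Fintype.prod_sum, Finset.prod_const, Nat.cast_pow, inv_pow,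
    Finset.card_univ, Nat.card_eq_fintype_card (α := ι)]

theorem isIrrCharacter_tensor [DecidableEq ι] (hD : MGroup D) (c : ι → IrrCharacter D) :
    IsIrrCharacter (ι → D) (tensor c) := by
  refine Char.isIrrCharacter_iff.2 ⟨?_, ?_⟩
  · obtain ⟨S, lam, h⟩ := isMonomialChar_tensor hD c
    rw [h]
    exact Char.isCharacter_indFun S (Char.irr_isCharacter (Char.linIrr lam))
  · rw [classInner_tensor]
    exact Finset.prod_eq_one fun x _ => Char.classInner_irr_self (c x).2

theorem tensor_injective [DecidableEq ι] : Function.Injective (tensor (D := D) (ι := ι)) := by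
  intro c c' h
  funext x
  by_contra hne
  have h1 : classInner (tensor c) (tensor c) = 1 := by
    rw [classInner_tensor]
    exact Finset.prod_eq_one fun y _ => Char.classInner_irr_self (c y).2
  have h2 : classInner (tensor c) (tensor c') = 0 := by
    rw [classInner_tensor]
    exact Finset.prod_eq_zero (Finset.mem_univ x)
      (Char.classInner_irr_of_ne (c x).2 (c' x).2 fun e => hne (Subtype.ext e))
  rw [← h] at h2
  exact one_ne_zero (h1.symm.trans h2)

open scoped Classical in
theorem sum_tensor [DecidableEq ι] (f : ι → D) :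
    ∑ c : ι → IrrCharacter D, tensor c 1 * tensor c f =
      if f = 1 then (Nat.card (ι → D) : ℂ) else 0 := by
  simp only [tensor, ← Finset.prod_mul_distrib, Pi.one_apply]
  rw [← Fintype.prod_sum (fun x (χ : IrrCharacter D) => χ.1 1 * χ.1 (f x))]
  simp only [Char.sum_irr_degree_mul]
  by_cases hf : f = 1
  · simp [hf, Nat.card_fun, Finset.prod_const, Finset.card_univ]
  · rw [if_neg hf]
    obtain ⟨x, hx⟩ := Function.ne_iff.1 hf
    exact Finset.prod_eq_zero (Finset.mem_univ x) (if_neg hx)

section Wreath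

variable {p : ℕ} [hp : Fact p.Prime]

local notation "Q" => Multiplicative (ZMod p)

theorem zmod_generates {q : Q} (hq : q ≠ 1) (x : Q) : ∃ n : ℕ, q ^ n = x := by
  have hz : Multiplicative.toAdd q ≠ 0 := hq
  refine ⟨(Multiplicative.toAdd x * (Multiplicative.toAdd q)⁻¹).val,
    Multiplicative.toAdd.injective ?_⟩
  rw [toAdd_pow, nsmul_eq_mul, ZMod.natCast_zmod_val, mul_assoc, inv_mul_cancel₀ hz, mul_one]

theorem mGroup_wreath (hD : MGroup D) [Fintype (D ≀ᵣ Q)] : MGroup (D ≀ᵣ Q) := by
  classical
  intro ψ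
  set B : Subgroup (D ≀ᵣ Q) := (RegularWreathProduct.rightHom : (D ≀ᵣ Q) →* Q).ker with hBdef
  haveI := Fintype.ofFinite B
  have hB : ∀ {w : (D ≀ᵣ Q)}, w ∈ B ↔ w.right = 1 := fun {w} => Iff.rfl
  let e : B ≃* (Q → D) :=
    { toFun := fun b => b.1.left
      invFun := fun f => ⟨⟨f, 1⟩, rfl⟩
      left_inv := fun b => Subtype.ext (RegularWreathProduct.ext rfl (hB.1 b.2).symm)
      right_inv := fun f => rfl
      map_mul' := fun a b => funext fun x => by
        show a.1.left x * b.1.left (a.1.right⁻¹ * x) = a.1.left x * b.1.left x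
        rw [hB.1 a.2, inv_one, one_mul] }
  let θ : (Q → IrrCharacter D) → IrrCharacter B := fun c =>
    ⟨fun b => tensor c (e b), Char.IsIrrCharacter.comp_mulEquiv (isIrrCharacter_tensor hD c) e⟩
  have hθm : ∀ c, Char.IsMonomialChar (θ c).1 := fun c => by
    obtain ⟨S, lam, h⟩ := isMonomialChar_tensor hD c
    refine ⟨S.comap e.toMonoidHom, lam.comp (e.toMonoidHom.subgroupComap S), funext fun b => ?_⟩
    show tensor c (e b) = _
    rw [h]
    exact (Char.indFun_comp_surjective e.toMonoidHom e.surjective S (fun x => lam x) b).symm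
  -- some tensor below `ψ`
  obtain ⟨c, hc⟩ : ∃ c, classInner (Char.resFun B ψ.1) (θ c).1 ≠ 0 := by
    by_contra hne
    push Not at hne
    have h0 : classInner (Char.resFun B ψ.1) (fun b => ∑ c, (θ c).1 1 * (θ c).1 b) = 0 := by
      rw [show (fun b => ∑ c, (θ c).1 1 * (θ c).1 b) = ∑ c, (θ c).1 1 • (θ c).1 from
        funext fun b => by simp [Finset.sum_apply], Char.classInner_sum_right]
      exact Finset.sum_eq_zero fun c _ => by rw [Char.classInner_smul_right, hne c, mul_zero]
    have hreg : ∀ b : B, ∑ c, (θ c).1 1 * (θ c).1 b = if b = 1 then (Nat.card B : ℂ) else 0 :=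
      fun b => by
        show ∑ c, tensor c (e 1) * tensor c (e b) = _
        rw [map_one]
        refine (sum_tensor (e b)).trans ?_
        rw [Nat.card_congr e.toEquiv]
        refine if_congr ?_ rfl rfl
        rw [← e.map_one, e.apply_eq_iff_eq]
    simp only [classInner, hreg] at h0
    rw [Finset.sum_eq_single (1 : B) (fun x _ hx => by rw [if_neg hx, map_zero, mul_zero])
      (fun h => absurd (Finset.mem_univ _) h), if_pos rfl, Complex.conj_natCast,
      Char.resFun_apply, Subgroup.coe_one] at h0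
    rcases mul_eq_zero.1 h0 with h | h
    · exact inv_ne_zero (Nat.cast_ne_zero.2 Nat.card_pos.ne') h
    · exact Nat.card_pos.ne' (Nat.cast_eq_zero.1
        ((mul_eq_zero.1 h).resolve_left (Char.IsIrrCharacter.apply_one_ne_zero ψ.2)))
  have hind : classInner (indFun B (θ c).1) ψ.1 ≠ 0 := by
    rw [Char.classInner_indFun B _ (Char.IsCharacter.isClassFunction (Char.irr_isCharacter ψ)),
      ← Char.conj_classInner]
    exact fun h => hc ((map_eq_zero _).1 h)
  by_cases hconst : ∀ x, c x = c 1
  · -- invariant case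
    obtain ⟨S, lam, hS⟩ := hD (c 1)
    let T : Subgroup (D ≀ᵣ Q) :=
      { carrier := {w | ∀ x, w.left x ∈ S}
        one_mem' := fun x => S.one_mem
        mul_mem' := fun {a b} ha hb x => S.mul_mem (ha x) (hb _)
        inv_mem' := fun {a} ha x => S.inv_mem (ha _) }
    let μ : T →* ℂ :=
      { toFun := fun w => ∏ x, lam ⟨w.1.left x, w.2 x⟩
        map_one' := Finset.prod_eq_one fun x _ => map_one lam
        map_mul' := fun a b => by
          have hb : ∏ x, lam ⟨b.1.left (a.1.right⁻¹ * x), b.2 _⟩ = ∏ x, lam ⟨b.1.left x, b.2 x⟩ :=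
            Fintype.prod_equiv (Equiv.mulLeft a.1.right⁻¹) _ _ fun x => rfl
          rw [← hb, ← Finset.prod_mul_distrib]
          exact Finset.prod_congr rfl fun x _ => map_mul lam ⟨a.1.left x, a.2 x⟩ ⟨_, b.2 _⟩ }
    set Φ := indFun T (μ : T → ℂ) with hΦ
    haveI := Fintype.ofFinite T
    have hΦB : Char.resFun B Φ = (θ c).1 := funext fun b => by
      have hterm : ∀ (h : Q → D) (q : Q),
          extendByZero T (μ : T → ℂ) ((⟨h, q⟩ : (D ≀ᵣ Q))⁻¹ * b * ⟨h, q⟩) =
            ∏ y, extendByZero S (lam : S → ℂ) ((h y)⁻¹ * b.1.left y * h y) := fun h q => by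
        have hv : ∀ x, ((⟨h, q⟩ : (D ≀ᵣ Q))⁻¹ * b * ⟨h, q⟩).left x =
            (h (q * x))⁻¹ * b.1.left (q * x) * h (q * x) := fun x => by
          simp only [RegularWreathProduct.mul_left, RegularWreathProduct.mul_right,
            RegularWreathProduct.inv_left, RegularWreathProduct.inv_right, Pi.mul_apply,
            Pi.inv_apply, inv_inv, hB.1 b.2, mul_one]
        rw [← Equiv.prod_comp (Equiv.mulLeft q)]
        simp only [Equiv.coe_mulLeft, ← hv]
        by_cases hm : ((⟨h, q⟩ : (D ≀ᵣ Q))⁻¹ * b * ⟨h, q⟩) ∈ T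
        · rw [Char.extendByZero_of_mem _ _ hm]
          exact Finset.prod_congr rfl fun x _ => (Char.extendByZero_of_mem S _ (hm x)).symm
        · rw [Char.extendByZero_of_notMem _ _ hm]
          obtain ⟨x, hx⟩ := not_forall.1 hm
          exact (Finset.prod_eq_zero (Finset.mem_univ x)
            (Char.extendByZero_of_notMem S _ hx)).symm
      have hcardT : Nat.card T = Nat.card S ^ Nat.card Q * Nat.card Q := by
        rw [← Nat.card_fun, ← Nat.card_prod]
        exact Nat.card_congr
          { toFun := fun w => (fun x => ⟨w.1.left x, w.2 x⟩, w.1.right)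
            invFun := fun z => ⟨⟨fun x => z.1 x, z.2⟩, fun x => (z.1 x).2⟩
            left_inv := fun w => rfl
            right_inv := fun z => rfl }
      show indFun T (μ : T → ℂ) b = ∏ x, (c x).1 (b.1.left x)
      simp only [hconst, hS, indFun, Finset.prod_mul_distrib, Fintype.prod_sum]
      rw [← (RegularWreathProduct.equivProd D Q).symm.sum_comp, Fintype.sum_prod_type, hcardT]
      simp only [show ∀ (h : Q → D) (q : Q), (RegularWreathProduct.equivProd D Q).symm (h, q) =
        (⟨h, q⟩ : (D ≀ᵣ Q)) from fun _ _ => rfl, hterm, Finset.sum_const, Finset.card_univ, nsmul_eq_mul,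
        ← Finset.mul_sum, Finset.prod_const, inv_pow, ← Nat.card_eq_fintype_card]
      have hQ0 : (Nat.card Q : ℂ) ≠ 0 := Nat.cast_ne_zero.2 Nat.card_pos.ne'
      push_cast
      rw [mul_inv, mul_assoc, inv_mul_cancel_left₀ hQ0]
    have hΦc : IsCharacter (D ≀ᵣ Q) Φ := Char.isCharacter_indFun T (Char.irr_isCharacter (Char.linIrr μ))
    haveI := Fintype.ofFinite ((D ≀ᵣ Q) ⧸ B)
    have hcommWB : ∀ a b : (D ≀ᵣ Q) ⧸ B, a * b = b * a := fun a b => by
      obtain ⟨a, rfl⟩ := QuotientGroup.mk_surjective a
      obtain ⟨b, rfl⟩ := QuotientGroup.mk_surjective b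
      rw [← QuotientGroup.mk_mul, ← QuotientGroup.mk_mul, QuotientGroup.eq, hB]
      show (a.right * b.right)⁻¹ * (b.right * a.right) = 1
      rw [mul_comm b.right, inv_mul_cancel]
    rw [← hΦB, Char.indFun_resFun_eq_sum B (Char.IsCharacter.isClassFunction hΦc),
      Char.classInner_sum_left] at hind
    obtain ⟨β, -, hβ⟩ := Finset.exists_ne_zero_of_sum_ne_zero hind
    rw [Char.classInner_smul_left] at hβ
    obtain ⟨bl, hbl⟩ := Char.IsCharacter.exists_monoidHom (Char.irr_isCharacter β)
      (Char.apply_one_of_comm hcommWB β)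
    set μ' : T →* ℂ := μ * (bl.comp ((QuotientGroup.mk' B).comp T.subtype))
    have heq : indFun T (μ' : T → ℂ) = Char.mulQuotient B Φ β.1 := by
      have hcf : IsClassFunction (D ≀ᵣ Q) (fun w => bl (w : (D ≀ᵣ Q) ⧸ B)) := fun w g => by
        show bl ((g * w * g⁻¹ : (D ≀ᵣ Q)) : (D ≀ᵣ Q) ⧸ B) = bl (w : (D ≀ᵣ Q) ⧸ B)
        rw [QuotientGroup.mk_mul, QuotientGroup.mk_mul, hcommWB (g : (D ≀ᵣ Q) ⧸ B), mul_assoc,
          ← QuotientGroup.mk_mul, mul_inv_cancel, QuotientGroup.mk_one, mul_one]
      refine (Char.indFun_mul_restrict T (fun t => μ t) hcf).trans (funext fun w => ?_)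
      rw [Pi.mul_apply, Char.mulQuotient_apply, ← hbl]
    refine ⟨T, μ', ?_⟩
    rw [heq]
    have hΦβ : IsCharacter (D ≀ᵣ Q) (Char.mulQuotient B Φ β.1) :=
      Char.isCharacter_mulQuotient B hΦc (Char.irr_isCharacter β)
    have hone : Char.mulQuotient B Φ β.1 1 = (θ c).1 1 := by
      rw [← hΦB, Char.mulQuotient_apply, Char.resFun_apply, Subgroup.coe_one, QuotientGroup.mk_one,
        Char.apply_one_of_comm hcommWB β, mul_one]
    have hle1 : charDegree ψ.1 ≤ charDegree (θ c).1 :=
      Char.le_of_constituent hΦβ ψ (right_ne_zero_of_mul hβ)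
        (hone.trans (Char.charDegree_cast (θ c)).symm)
    have hle2 : charDegree (θ c).1 ≤ charDegree ψ.1 :=
      Char.le_of_constituent (Char.IsCharacter.restrict (Char.irr_isCharacter ψ) B) (θ c) hc
        (Char.charDegree_cast ψ).symm
    exact (Char.eq_of_constituent_degree hΦβ ψ (right_ne_zero_of_mul hβ) (by
      rw [hone, ← Char.charDegree_cast, ← Char.charDegree_cast, le_antisymm hle2 hle1])).symm
  · -- free case
    have hirr : IsIrrCharacter (D ≀ᵣ Q) (indFun B (θ c).1) := by
      refine Char.isIrrCharacter_indFun_inertia B B le_rfl (θ c) (fun g hg => ?_) (e := 1)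
        one_ne_zero (fun n => by rw [Nat.cast_one, one_mul])
      by_contra hgB
      apply hconst
      have hper : ∀ x, c (g.right * x) = c x := by
        have h1 : tensor (fun x => c (g.right * x)) = tensor c := funext fun f => by
          have h2 := congrFun hg ⟨⟨f, 1⟩, rfl⟩
          refine Eq.trans ?_ h2
          show _ = tensor c (e (MulAut.conjNormal g (⟨⟨f, 1⟩, rfl⟩ : B)))
          show ∏ x, (c (g.right * x)).1 (f x) = ∏ y, (c y).1 ((g * (⟨f, 1⟩ : (D ≀ᵣ Q)) * g⁻¹).left y)
          rw [← Equiv.prod_comp (Equiv.mulLeft g.right)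
            (fun y => (c y).1 ((g * (⟨f, 1⟩ : (D ≀ᵣ Q)) * g⁻¹).left y))]
          refine Finset.prod_congr rfl fun x _ => ?_
          simp only [Equiv.coe_mulLeft, RegularWreathProduct.mul_left,
            RegularWreathProduct.mul_right, RegularWreathProduct.inv_left, Pi.mul_apply,
            Pi.inv_apply, inv_mul_cancel_left, mul_one, mul_inv_cancel_left]
          have := Char.IsCharacter.isClassFunction
            (Char.irr_isCharacter (c (g.right * x))) (f x) (g.left (g.right * x))
          exact this.symm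
        exact fun x => congrFun (tensor_injective h1) x
      intro x
      obtain ⟨n, rfl⟩ := zmod_generates (fun h => hgB (hB.2 h)) x
      induction n with
      | zero => rw [pow_zero]
      | succ n ih => rw [pow_succ', hper, ih]
    rw [show ψ.1 = indFun B (θ c).1 from by
      by_contra hne
      exact hind (Char.classInner_irr_of_ne hirr ψ.2 fun h => hne h.symm)]
    exact (hθm c).indFun_of

end Wreath

theorem exists_mGroup : ∀ (n : ℕ) {G : Type u} [Group G] [Finite G],
    Group.IsSolvable G → Nat.card G = n →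
      ∃ (M : Type u) (_ : Group M) (_ : Fintype M), MGroup M ∧
        ∃ f : G →* M, Function.Injective f := by
  intro n
  induction n using Nat.strong_induction_on with
  | _ n ih =>
    intro G _ _ hs hn
    rcases subsingleton_or_nontrivial G with h | h
    · exact ⟨PUnit, inferInstance, inferInstance, fun χ =>
        Char.isMonomialChar_of_apply_one_eq_one (Char.irr_isCharacter χ)
          (Char.apply_one_of_comm (fun a b => rfl) χ), 1, fun a b _ => Subsingleton.elim a b⟩
    · obtain ⟨M, hM, hprime⟩ := S4561.exists_prime_index hs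
      haveI := hM
      haveI := hs
      set p := M.index
      haveI := Fact.mk hprime
      have hcard : Nat.card M * p = n := hn ▸ M.card_mul_index
      obtain ⟨D', iG, iF, hD', ι', hι⟩ := ih (Nat.card M)
        (hcard ▸ lt_mul_of_one_lt_right Nat.card_pos hprime.one_lt) (G := M) inferInstance rfl
      letI := iG
      letI := iF
      let e : G ⧸ M ≃* Multiplicative (ZMod p) :=
        mulEquivOfPrimeCardEq (p := p) (Subgroup.index_eq_card M).symm (by simp)
      let π : G →* Multiplicative (ZMod p) := e.toMonoidHom.comp (QuotientGroup.mk' M)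
      have hπ : Function.Surjective π := e.surjective.comp (QuotientGroup.mk'_surjective M)
      obtain ⟨s, hs'⟩ := hπ.hasRightInverse
      have hmem : ∀ g x, (s x)⁻¹ * g * s ((π g)⁻¹ * x) ∈ M := fun g x => by
        have : π ((s x)⁻¹ * g * s ((π g)⁻¹ * x)) = 1 := by
          rw [map_mul, map_mul, map_inv, hs', hs', mul_assoc, mul_inv_cancel_left, inv_mul_cancel]
        exact (QuotientGroup.eq_one_iff _).1 (e.injective (this.trans e.map_one.symm))
      letI : Fintype (D' ≀ᵣ Multiplicative (ZMod p)) := Fintype.ofFinite _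
      refine ⟨D' ≀ᵣ Multiplicative (ZMod p), inferInstance, inferInstance, mGroup_wreath hD',
        MonoidHom.mk' (fun g => ⟨fun x => ι' ⟨_, hmem g x⟩, π g⟩) ?_, ?_⟩
      · intro a b
        refine RegularWreathProduct.ext (funext fun x => ?_) (map_mul π a b)
        show ι' _ = ι' _ * ι' _
        rw [← map_mul]
        refine congrArg ι' (Subtype.ext ?_)
        show _ = (s x)⁻¹ * a * s ((π a)⁻¹ * x) *
          ((s ((π a)⁻¹ * x))⁻¹ * b * s ((π b)⁻¹ * ((π a)⁻¹ * x)))
        simp only [map_mul, mul_inv_rev, mul_assoc, mul_inv_cancel_left]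
      · rw [injective_iff_map_eq_one]
        intro g hg
        have h1 : π g = 1 := congrArg RegularWreathProduct.right hg
        have h2 : ι' ⟨_, hmem g 1⟩ = 1 := congrFun (congrArg RegularWreathProduct.left hg) 1
        have h3 := congrArg Subtype.val (hι (h2.trans (map_one ι').symm))
        simp only [h1, inv_one, one_mul, Subgroup.coe_one] at h3
        exact S4561.conj_eq_one_iff'.1 h3

/-- Every finite solvable group is isomorphic to a subgroup of a finite M-group, a group each of whose irreducible characters is induced from a homomorphism of some subgroup into ℂˣ. -/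
theorem result {G : Type u} [Group G] [Finite G] (hsolv : Group.IsSolvable G) : ∃ (M : Type u) (_ : Group M) (_ : Fintype M), (∀ χ : M → ℂ, Cfsg.IsIrrCharacter M χ → (∃ (H : Subgroup M) (lam : ↥H →* ℂˣ), χ = Cfsg.indFun H (fun h => (lam h : ℂ)))) ∧ ∃ f : G →* M, Function.Injective f := by
  obtain ⟨M, iG, iF, hM, f, hf⟩ := exists_mGroup _ hsolv rfl
  refine ⟨M, iG, iF, fun χ hχ => ?_, f, hf⟩
  obtain ⟨H, lam, h⟩ := hM ⟨χ, hχ⟩
  exact ⟨H, lam.toHomUnits, h⟩

end Cfsg.Agent.S4573
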