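import Cfsg.Statements.S4574
import Cfsg.Agent.Lib.CharInt.Galois
import Cfsg.Agent.Lib.CharInt.GaloisAverage
import Cfsg.Agent.Lib.CharInt.Central
import Cfsg.Agent.Lib.Char.Orthogonality
-- import your own Cfsg.Agent.* helpers here

set_option autoImplicit false
open Cfsg

namespace Cfsg.Agent.S4574

/-- Let χ be an irreducible character of the finite group G, of degree d, and let Z(χ) be the set of elements g with |χ g| = d (the centre of χ). Then χ vanishes on at least (d ^ 2 - 1) · |Z(χ)| elements of G, with equality when every value |χ g| is 0, 1 or d. -/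
theorem result {G : Type*} [Group G] [Fintype G] [DecidableEq G] (χ : G → ℂ) (hχ : Cfsg.IsIrrCharacter G χ) : (Cfsg.charDegree χ ^ 2 - 1) * (Finset.univ.filter (fun g : G => ‖χ g‖ = (Cfsg.charDegree χ : ℝ))).card ≤ (Finset.univ.filter (fun g : G => χ g = 0)).card ∧ ((∀ g : G, ‖χ g‖ = 0 ∨ ‖χ g‖ = 1 ∨ ‖χ g‖ = (Cfsg.charDegree χ : ℝ)) → (Cfsg.charDegree χ ^ 2 - 1) * (Finset.univ.filter (fun g : G => ‖χ g‖ = (Cfsg.charDegree χ : ℝ))).card = (Finset.univ.filter (fun g : G => χ g = 0)).card) := by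
  classical
  have hc := Cfsg.Agent.CharInt.isCharacter_of_isIrr hχ
  obtain ⟨n, hn, hn1⟩ := Cfsg.Agent.CharInt.irr_degree_pos hχ
  have hdeg : Cfsg.charDegree χ = n := by simp [Cfsg.charDegree, hn1]
  rw [hdeg]
  set Z := Finset.univ.filter (fun g : G => ‖χ g‖ = (n : ℝ)) with hZdef
  set V := Finset.univ.filter (fun g : G => χ g = 0) with hVdef
  set S := Finset.univ.filter (fun g : G => χ g ≠ 0 ∧ ‖χ g‖ ≠ (n : ℝ)) with hSdef
  have hnR : (0 : ℝ) < n := by exact_mod_cast hn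
  have hnorm : ∑ g : G, ‖χ g‖ ^ 2 = (Nat.card G : ℝ) := by
    have h := Cfsg.Agent.Char.classInner_irr_self hχ
    have hG : (Nat.card G : ℂ) ≠ 0 := Nat.cast_ne_zero.2 Nat.card_pos.ne'
    simp only [Cfsg.classInner, Complex.mul_conj', inv_mul_eq_one₀ hG] at h
    exact_mod_cast h.symm
  have hsplit : ∀ F : G → ℝ, ∑ g : G, F g = ∑ g ∈ Z, F g + (∑ g ∈ V, F g + ∑ g ∈ S, F g) := by
    intro F
    rw [hZdef, hVdef, hSdef, Finset.sum_filter, Finset.sum_filter, Finset.sum_filter,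
      ← Finset.sum_add_distrib, ← Finset.sum_add_distrib]
    refine Finset.sum_congr rfl fun g _ => ?_
    by_cases h0 : χ g = 0
    · simp [h0, hnR.ne]
    · by_cases h1 : ‖χ g‖ = (n : ℝ) <;> simp [h0, h1]
  have hcard := hsplit fun _ => 1
  simp only [Finset.sum_const, nsmul_eq_mul, mul_one, Finset.card_univ,
    ← Nat.card_eq_fintype_card] at hcard
  have hsum := hsplit fun g => ‖χ g‖ ^ 2
  rw [hnorm] at hsum
  have hZsum : ∑ g ∈ Z, ‖χ g‖ ^ 2 = (n : ℝ) ^ 2 * Z.card := by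
    rw [Finset.sum_congr rfl fun g hg => by rw [(Finset.mem_filter.1 hg).2], Finset.sum_const,
      nsmul_eq_mul, mul_comm]
  have hVsum : ∑ g ∈ V, ‖χ g‖ ^ 2 = 0 :=
    Finset.sum_eq_zero fun g hg => by simp [(Finset.mem_filter.1 hg).2]
  rw [hZsum, hVsum] at hsum
  have hcast : (((n ^ 2 - 1) * Z.card : ℕ) : ℝ) = ((n : ℝ) ^ 2 - 1) * Z.card := by
    rw [Nat.cast_mul, Nat.cast_sub (Nat.one_le_pow _ _ hn), Nat.cast_pow, Nat.cast_one]
  refine ⟨?_, fun heq => ?_⟩
  · have hS : (S.card : ℝ) ≤ ∑ g ∈ S, ‖χ g‖ ^ 2 := by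
      refine Cfsg.Agent.CharInt.card_le_sum_norm_sq hc S (fun g hg k hk => ?_)
        (fun g hg => (Finset.mem_filter.1 hg).2.1)
      obtain ⟨h0, h1⟩ := (Finset.mem_filter.1 hg).2
      refine Finset.mem_filter.2 ⟨Finset.mem_univ _, ?_, fun hnk => h1 ?_⟩
      · obtain ⟨f, hf⟩ := Cfsg.Agent.CharInt.exists_ringHom_pow Nat.card_pos.ne' hk
        rw [← Cfsg.Agent.CharInt.map_char_eq_pow hc hf g]
        simpa using h0
      · obtain ⟨m, hm⟩ := exists_pow_eq_self_of_coprime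
          (hk.coprime_dvd_right (orderOf_dvd_natCard g))
        obtain ⟨d, ρ, -, hρ⟩ := hχ
        subst hρ
        rw [ρ.char_one, Module.finrank_fin_fun] at hn1
        have hdn : d = n := by exact_mod_cast hn1
        subst hdn
        obtain ⟨t, ht⟩ := (Cfsg.Agent.CharInt.norm_character_eq_finrank_iff ρ (g ^ k)).1
          (by rw [hnk, Module.finrank_fin_fun])
        have := (Cfsg.Agent.CharInt.norm_character_eq_finrank_iff ρ g).2 ⟨t ^ m, by
          rw [← hm, map_pow, ht, smul_pow, one_pow]⟩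
        rwa [Module.finrank_fin_fun] at this
    have : (((n ^ 2 - 1) * Z.card : ℕ) : ℝ) ≤ V.card := by
      rw [hcast]; linarith
    exact_mod_cast this
  · have hS : ∑ g ∈ S, ‖χ g‖ ^ 2 = S.card := by
      rw [Finset.sum_congr rfl (g := fun _ => (1 : ℝ)) fun g hg => ?_]
      · simp
      obtain ⟨h0, h1⟩ := (Finset.mem_filter.1 hg).2
      rcases heq g with h | h | h
      · exact absurd (norm_eq_zero.1 h) h0
      · rw [h, one_pow]
      · exact absurd h h1
    have : (((n ^ 2 - 1) * Z.card : ℕ) : ℝ) = V.card := by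
      rw [hcast]; linarith
    exact_mod_cast this

end Cfsg.Agent.S4574
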