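import Cfsg.Statements.S4575
import Cfsg.Agent.Lib.Blocks.ContributionTwo

set_option autoImplicit false
open Cfsg

namespace Cfsg.Agent.S4575

/-- Let B be a 2-block of the finite group G (relative to a maximal ideal M of the algebraic integers containing 2) of defect d with defect group D. Let z be an element of D commuting with every element of D, and let b be a block of the centralizer of z with defect group D that induces B (a major subsection (z, b)). If the number of irreducible characters in B exceeds the 2-regular rank of b by at most three, then B contains at most 2 ^ d irreducible characters. -/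
theorem result {G : Type*} [Group G] [Finite G] (M : Ideal Cfsg.AlgInt) (hM : Cfsg.IsPModular 2 M) (B : Set (Cfsg.IrrCharacter G)) (hB : Cfsg.IsPBlock M B) (D : Subgroup G) (hD : Cfsg.IsDefectGroup 2 M B D) (z : G) (hzD : z ∈ D) (hzc : ∀ d ∈ D, d * z = z * d) (b : Set (Cfsg.IrrCharacter ↥(Subgroup.centralizer ({z} : Set G)))) (hb : Cfsg.IsInducedBlock M (Subgroup.centralizer ({z} : Set G)) b B) (hbD : Cfsg.IsDefectGroup 2 M b (D.subgroupOf (Subgroup.centralizer ({z} : Set G)))) (h : Nat.card B ≤ Cfsg.blockRank 2 b + 3) : Nat.card B ≤ 2 ^ Cfsg.blockDefect 2 B := by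
  classical
  haveI := Fintype.ofFinite G
  haveI := Fintype.ofFinite (Subgroup.centralizer ({z} : Set G))
  haveI := hM.2.1
  haveI : Fact (Nat.Prime 2) := ⟨Nat.prime_two⟩
  have hdef : Cfsg.blockDefect 2 b = Cfsg.blockDefect 2 B := by
    have hsub : D ≤ Subgroup.centralizer ({z} : Set G) := fun d hd =>
      Subgroup.mem_centralizer_singleton_iff.2 (hzc d hd)
    have h1 := Cfsg.Agent.Blocks.card_defectGroup hM.2.2 hB hD
    have h2 := Cfsg.Agent.Blocks.card_defectGroup hM.2.2 hb.1 hbD
    rw [Nat.card_congr (Subgroup.subgroupOfEquivOfLe hsub).toEquiv, h1] at h2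
    exact (Nat.pow_right_injective le_rfl h2).symm
  obtain ⟨k, hk⟩ : ∃ k, orderOf z = 2 ^ k := by
    obtain ⟨k, hk⟩ := IsPGroup.iff_orderOf.1 (Cfsg.Agent.Blocks.IsDefectGroup.isPGroup hD) ⟨z, hzD⟩
    exact ⟨k, by rw [← hk, Subgroup.orderOf_mk]⟩
  have hcard : Nat.card B = (Finset.univ.filter (· ∈ B)).card := by
    rw [Nat.card_eq_fintype_card, ← Fintype.card_subtype]
  have hw := Cfsg.Agent.Blocks.height_weight_le hM.2.2 hk hb hdef (Or.inr (by rwa [← hcard]))
  have hle := Cfsg.Agent.Blocks.card_le_of_weight_le (Finset.univ.filter (· ∈ B))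
    (fun χ : Cfsg.IrrCharacter G => Cfsg.blockHeight 2 B χ.1)
  rw [hcard]
  exact Nat.le_of_mul_le_mul_left (hle.trans hw) (by norm_num)

end Cfsg.Agent.S4575
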