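import Cfsg.Statements.S4580
import Cfsg.Agent.Lib.Blocks.SelfConjugate
import Cfsg.Agent.Lib.Char.Gallagher

set_option autoImplicit false
open Cfsg

namespace Cfsg.Agent.S4580

/-- Let N be a normal subgroup of the finite group G, M a maximal ideal of the algebraic integers containing 2, and θ a real-valued irreducible character of N of odd degree that extends to G (some irreducible character of G restricts to θ). Then θ has an extension to G lying in the principal 2-block of G. -/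
theorem result {G : Type*} [Group G] [Finite G] (N : Subgroup G) [N.Normal] (M : Ideal Cfsg.AlgInt) (hM : Cfsg.IsPModular 2 M) (θ : Cfsg.IrrCharacter N) (hreal : ∀ n : N, ((θ : N → ℂ) n).im = 0) (hodd : Odd (Cfsg.charDegree (θ : N → ℂ))) (hext : ∃ η : Cfsg.IrrCharacter G, ∀ n : N, (η : G → ℂ) n = (θ : N → ℂ) n) :
    ∃ η : Cfsg.IrrCharacter G, (∀ n : N, (η : G → ℂ) n = (θ : N → ℂ) n) ∧ η ∈ Cfsg.principalBlock M G := by
  classical
  haveI := Fintype.ofFinite G
  haveI := Fintype.ofFinite (G ⧸ N)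
  haveI := hM.2.1
  haveI := hM.2.1.isPrime
  haveI : Fact (Nat.Prime 2) := ⟨Nat.prime_two⟩
  have hpM := hM.2.2
  haveI : CharP (Cfsg.AlgInt ⧸ M) 2 := Blocks.charP_residue hpM
  obtain ⟨η, hη⟩ := hext
  have hresη : Char.resFun N η.1 = θ.1 := funext hη
  have hres : Cfsg.IsIrrCharacter N (Char.resFun N η.1) := hresη ▸ θ.2
  let η' : Cfsg.IrrCharacter G := ⟨fun g => (starRingEnd ℂ) (η.1 g),
    Char.IsIrrCharacter.conj_fun η.2⟩
  have hresη' : Char.resFun N η'.1 = Char.resFun N η.1 := funext fun n => by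
    show (starRingEnd ℂ) (η.1 n) = η.1 n
    rw [hη]
    exact Complex.conj_eq_iff_im.2 (hreal n)
  obtain ⟨β, hβ⟩ := Char.exists_mulQuotient_eq N η hres η' (by
    rw [hresη', Char.classInner_irr_self hres]; exact one_ne_zero)
  have hβ1 : β.1 1 = 1 := by
    have h := congrFun hresη' 1
    rw [show Char.resFun N η'.1 = β.1 1 • Char.resFun N η.1 by
      rw [← hβ, Char.resFun_mulQuotient], Pi.smul_apply, smul_eq_mul] at h
    refine mul_right_cancel₀ ?_ (h.trans (one_mul _).symm)
    exact Char.IsIrrCharacter.apply_one_ne_zero hres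
  obtain ⟨lam0, hlam0⟩ := Char.IsCharacter.exists_monoidHom (Char.irr_isCharacter β) hβ1
  let lam : G →* ℂ := lam0.comp (QuotientGroup.mk' N)
  have hconj : ∀ g, (starRingEnd ℂ) (η.1 g) = η.1 g * lam g := fun g => by
    have := congrFun hβ g
    rw [← hlam0] at this
    exact this.symm
  obtain ⟨k, m, hm, hcard⟩ := Nat.exists_eq_two_pow_mul_odd (n := Nat.card G) Nat.card_pos.ne'
  obtain ⟨w, hw⟩ : ∃ w : ℕ, 2 * w = m + 1 := ⟨(m + 1) / 2, by rcases hm with ⟨a, ha⟩; omega⟩
  have hlam_ne : ∀ g, lam g ≠ 0 := fun g h => by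
    have h1 : lam g * lam g⁻¹ = 1 := by rw [← map_mul, mul_inv_cancel, map_one]
    rw [h, zero_mul] at h1
    exact zero_ne_one h1
  -- twist so that conjugation multiplies by a character of 2-power order
  let c : G →* ℂ :=
    { toFun := fun g => lam g ^ w
      map_one' := by simp
      map_mul' := fun a b => by simp [mul_pow] }
  let η₁ : Cfsg.IrrCharacter G := ⟨⇑c * η.1, Char.IsIrrCharacter.mul_linear η.2 c⟩
  have hrestrict : ∀ n : N, η₁.1 n = θ.1 n := fun n => by
    show lam (n : G) ^ w * η.1 n = θ.1 n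
    rw [show lam (n : G) = 1 by
      show lam0 (QuotientGroup.mk' N (n : G)) = 1
      rw [show QuotientGroup.mk' N (n : G) = 1 from (QuotientGroup.eq_one_iff _).2 n.2, map_one],
      one_pow, one_mul, hη]
  refine ⟨η₁, hrestrict, ?_⟩
  have hd : (Cfsg.charDegree θ.1 : ℂ) = θ.1 1 := by
    obtain ⟨d, hd⟩ := Char.IsCharacter.apply_one (Char.irr_isCharacter θ)
    rw [Cfsg.charDegree, hd]; simp
  have h1 : η₁.1 1 = (Cfsg.charDegree θ.1 : ℂ) := by
    rw [hd, ← hrestrict 1, Subgroup.coe_one]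
  refine Blocks.sameBlock_one_of_self_conj (by simpa using hpM) η₁ ⟨_, hodd, h1⟩ ?_
  intro g
  set μ : ℂ := (lam g ^ m)⁻¹ with hμ
  have hcc : (starRingEnd ℂ) (η₁.1 g) = η₁.1 g * μ := by
    show (starRingEnd ℂ) (lam g ^ w * η.1 g) = lam g ^ w * η.1 g * (lam g ^ m)⁻¹
    have hl : (starRingEnd ℂ) (lam g) = (lam g)⁻¹ :=
      eq_inv_of_mul_eq_one_right (Char.normSq_linear lam g)
    rw [map_mul, map_pow, hl, hconj g]
    have h0 := hlam_ne g
    rw [inv_pow]
    field_simp
    rw [← pow_mul, mul_comm w 2, hw, pow_succ]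
    ring
  have hμpow : μ ^ (2 ^ k) = 1 := by
    rw [hμ, inv_pow, ← pow_mul, mul_comm m, ← hcard, ← map_pow, pow_card_eq_one', map_one, inv_one]
  have hμint : IsIntegral ℤ μ :=
    ⟨Polynomial.X ^ (2 ^ k) - Polynomial.C 1,
      Polynomial.monic_X_pow_sub_C 1 (pow_ne_zero k two_ne_zero), by simp [hμpow]⟩
  have hμR : Cfsg.MemLocalRing M μ := Blocks.memLocalRing_of_isIntegral hμint
  have hμ1 : Cfsg.MemLocalIdeal M (1 - μ) := by
    rw [← Blocks.red_eq_iff Blocks.memLocalRing_one hμR, Blocks.red_one]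
    have h := congrArg (Blocks.red M) hμpow
    rw [Blocks.red_pow hμR, Blocks.red_one] at h
    have h2 : (Blocks.red M μ - 1) ^ (2 ^ k) = 0 := by
      rw [sub_pow_char_pow, h, one_pow, sub_self]
    exact (sub_eq_zero.1 (pow_eq_zero_iff (by positivity) |>.1 h2)).symm
  have hdiff : Cfsg.centralChar η₁.1 g - Cfsg.centralChar (fun x => (starRingEnd ℂ) (η₁.1 x)) g =
      Cfsg.centralChar η₁.1 g * (1 - μ) := by
    simp only [Cfsg.centralChar, hcc, h1, Complex.conj_natCast]
    ring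
  show Cfsg.MemLocalIdeal M _
  rw [hdiff]
  exact Blocks.MemLocalIdeal.mul_left (Blocks.memLocalRing_centralChar η₁ g) hμ1

end Cfsg.Agent.S4580
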