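import Cfsg.Statements.S4581
import Cfsg.Agent.Lib.OddDeg.AllReal
import Cfsg.Agent.Lib.PGroup.Frattini

set_option autoImplicit false
open Cfsg

namespace Cfsg.Agent.S4581

/-- Let G be a finite solvable group, P a Sylow 2-subgroup and N its normalizer. Then G and N have the same number of real-valued irreducible characters of odd degree; and every odd-degree irreducible character of G is real-valued exactly when the derived subgroup of P equals the Frattini subgroup of P and P is its own normalizer in G. -/
theorem result {G : Type*} [Group G] [Finite G] [Group.IsSolvable G] (P : Sylow 2 G) :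
    Nat.card {χ : Cfsg.IrrCharacter G // (∀ g : G, ((χ : G → ℂ) g).im = 0) ∧ Odd (Cfsg.charDegree (χ : G → ℂ))} =
      Nat.card {ψ : Cfsg.IrrCharacter (Subgroup.normalizer ((P : Subgroup G) : Set G)) // (∀ g, ((ψ : Subgroup.normalizer ((P : Subgroup G) : Set G) → ℂ) g).im = 0) ∧ Odd (Cfsg.charDegree (ψ : Subgroup.normalizer ((P : Subgroup G) : Set G) → ℂ))} ∧
    ((∀ χ : Cfsg.IrrCharacter G, Odd (Cfsg.charDegree (χ : G → ℂ)) → ∀ g : G, ((χ : G → ℂ) g).im = 0) ↔
      (commutator (P : Subgroup G) = frattini (P : Subgroup G) ∧ Subgroup.normalizer ((P : Subgroup G) : Set G) = (P : Subgroup G))) := by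
  haveI : Fact (Nat.Prime 2) := ⟨Nat.prime_two⟩
  have hPi : Odd (P : Subgroup G).index := by
    rw [← Nat.not_even_iff_odd, even_iff_two_dvd]
    exact P.not_dvd_index
  refine ⟨?_, ?_⟩
  · refine Eq.trans ?_ (Eq.trans (OddDeg.card_isRO_eq (P : Subgroup G) P.isPGroup' hPi) ?_)
    · exact Nat.card_congr (Equiv.subtypeEquivRight fun χ => by
        rw [OddDeg.IsRO, OddDeg.realVal_iff_im, and_comm])
    · exact Nat.card_congr (Equiv.subtypeEquivRight fun χ => by
        rw [OddDeg.IsRO, OddDeg.realVal_iff_im, and_comm])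
  · have h := OddDeg.allReal_iff (P : Subgroup G) P.isPGroup' hPi
    simp only [OddDeg.AllReal, OddDeg.realVal_iff_im] at h
    rw [h, OddDeg.signLinear_iff]
    refine and_congr ⟨fun hsq => le_antisymm ?_ ?_, fun he x => ?_⟩ Iff.rfl
    · exact PGroup.commutator_le_frattini P.isPGroup'
    · exact PGroup.frattini_le (p := 2) le_rfl hsq
    · rw [he]
      exact PGroup.pow_mem_frattini P.isPGroup' x

end Cfsg.Agent.S4581
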