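import Cfsg.Statements.S4582
import Cfsg.Agent.Lib.OddDeg.AllReal
import Cfsg.Agent.Lib.Clifford.CoprimeExtension

set_option autoImplicit false
open Cfsg

namespace Cfsg.Agent.S4582

open scoped ComplexConjugate

theorem detChar_conjIrr {H : Type*} [Group H] [Fintype H] (η : IrrCharacter H) (g : H) :
    Clifford.detChar (Char.conjIrr η) g = Clifford.detChar η g⁻¹ := by
  obtain ⟨n, ρ, hρ, hρχ⟩ := η.2
  rw [Clifford.detChar_eq _ ρ.dual (funext fun x => ?_), Clifford.detChar_eq η ρ hρχ]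
  · rw [Representation.dual_apply]
    exact LinearMap.det_dualMap _
  · rw [Representation.char_dual, hρχ, Char.conjIrr_apply,
      Char.IsCharacter.conj_apply (Char.irr_isCharacter η)]

/-- An odd-degree fixed point of `η ↦ μ * conj η` forces `μ` to be the square of a linear
character. -/
theorem exists_det_sq {H : Type*} [Group H] [Fintype H] (P : Subgroup H) [Fintype P]
    (hodd : Odd P.index) (ν : P →* ℂ) (μ : H →* ℂ) (hμν : ∀ p : P, μ p = ν p * ν p)
    (hμ : ∀ g, μ g * μ g = 1) : ∃ δ : H →* ℂ, ∀ g, δ g * δ g = μ g := by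
  have hμc : ∀ g, conj (μ g) = μ g := fun g => by
    linear_combination (μ g) * Char.normSq_linear μ g - conj (μ g) * hμ g
  let f : IrrCharacter H → IrrCharacter H := fun η =>
    ⟨⇑μ * (Char.conjIrr η).1, Char.IsIrrCharacter.mul_linear (Char.conjIrr η).2 μ⟩
  have hψ : IsCharacter H (indFun P (ν : P → ℂ)) :=
    Char.isCharacter_indFun P (Char.irr_isCharacter (Char.linIrr ν))
  have h1 : indFun P (ν : P → ℂ) 1 = (P.index : ℂ) := by
    rw [Char.indFun_apply_one, map_one, mul_one]
  obtain ⟨η, hη, hηo, -⟩ := OddDeg.exists_constituent_aux hψ hodd h1 f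
    (fun η => Subtype.ext (funext fun g => by
      show μ g * conj (μ g * conj (η.1 g)) = η.1 g
      rw [map_mul, Complex.conj_conj, hμc, ← mul_assoc, hμ, one_mul]))
    (fun η => by
      show μ 1 * conj (η.1 1) = η.1 1
      rw [map_one, one_mul, ← Char.charDegree_cast, Complex.conj_natCast])
    (fun η => by
      obtain ⟨k, hk⟩ := Char.IsCharacter.exists_nat_classInner hψ (Char.irr_isCharacter η)
      rw [hk, ← Complex.conj_natCast, ← hk,
        Char.classInner_indFun P _ (Char.IsCharacter.isClassFunction (Char.irr_isCharacter (f η))),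
        Char.classInner_indFun P _ (Char.IsCharacter.isClassFunction (Char.irr_isCharacter η))]
      simp only [classInner, map_mul, map_inv₀, Complex.conj_natCast, map_sum]
      refine congrArg _ (Finset.sum_congr rfl fun p _ => ?_)
      show ν p * conj (μ p * conj (η.1 p)) = conj (ν p) * conj (conj (η.1 p))
      rw [map_mul, Complex.conj_conj, hμc, hμν]
      linear_combination (-(η.1 p) * ν p * ν p * ν p) * Char.normSq_linear ν p +
        (conj (ν p) * η.1 p) * ((hμν p ▸ hμ p) : ν p * ν p * (ν p * ν p) = 1))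
  refine ⟨Clifford.detChar η, fun g => ?_⟩
  have h := Clifford.detChar_mul_linear (Char.conjIrr η) μ η
    (fun x => (congrFun (congrArg Subtype.val hη) x).symm) g
  have hd : Char.degree (Char.conjIrr η) = charDegree η.1 := by
    have := Char.apply_one_eq_degree (Char.conjIrr η)
    rw [Char.conjIrr_apply, ← Char.charDegree_cast, Complex.conj_natCast] at this
    exact_mod_cast this.symm
  obtain ⟨k, hk⟩ := hηo
  rw [detChar_conjIrr, hd, hk, pow_succ, pow_mul, pow_two, hμ, one_pow, one_mul] at h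
  calc Clifford.detChar η g * Clifford.detChar η g
      = μ g * Clifford.detChar η g⁻¹ * Clifford.detChar η g :=
        congrArg (fun z => z * Clifford.detChar η g) h
    _ = μ g := by rw [mul_assoc, ← map_mul, inv_mul_cancel, map_one, mul_one]

/-- Let N be a normal subgroup of the finite group G, P a Sylow 2-subgroup of G and Q = P ∩ N. Suppose that P/QP' and Q/Q' are elementary abelian (every square of an element of P lies in the subgroup generated by Q and the derived subgroup of P, and every square of an element of Q lies in the derived subgroup of Q), and that the commutator factor group N/N' has odd order. Then P/P' is elementary abelian. -/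
theorem result {G : Type*} [Group G] [Finite G] (N : Subgroup G) [N.Normal] (P : Sylow 2 G)
    (hP : ∀ x ∈ (P : Subgroup G), x ^ 2 ∈ ((P : Subgroup G) ⊓ N) ⊔ ⁅(P : Subgroup G), (P : Subgroup G)⁆)
    (hQ : ∀ x ∈ (P : Subgroup G) ⊓ N, x ^ 2 ∈ ⁅(P : Subgroup G) ⊓ N, (P : Subgroup G) ⊓ N⁆)
    (hodd : Odd (Nat.card (Abelianization N))) :
    ∀ x ∈ (P : Subgroup G), x ^ 2 ∈ ⁅(P : Subgroup G), (P : Subgroup G)⁆ := by
  classical
  haveI : Fact (Nat.Prime 2) := ⟨Nat.prime_two⟩
  set P₀ : Subgroup G := (P : Subgroup G) with hP₀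
  suffices hs : OddDeg.SignLinear P₀ by
    intro x hx
    rw [← Subgroup.map_subtype_commutator P₀]
    exact ⟨_, OddDeg.signLinear_iff.1 hs ⟨x, hx⟩, rfl⟩
  intro ν
  set P' : Subgroup G := ⁅P₀, P₀⁆ with hP'
  have hP'le : P' ≤ P₀ := Subgroup.commutator_le_self P₀
  have hνc : ∀ (y : G) (hy : y ∈ P'), ν ⟨y, hP'le hy⟩ = 1 := fun y hy => by
    obtain ⟨z, hz, rfl⟩ := (Subgroup.map_subtype_commutator P₀).ge hy
    exact congrArg Units.val (Abelianization.commutator_subset_ker ν.toHomUnits hz :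
      ν.toHomUnits z = 1)
  have hνQ : ∀ (y : G) (hy : y ∈ P₀ ⊓ N), ν ⟨y, hy.1⟩ * ν ⟨y, hy.1⟩ = 1 := fun y hy => by
    rw [← map_mul]
    have h := hνc (y ^ 2) (Subgroup.commutator_mono inf_le_left inf_le_left (hQ y hy))
    simpa [pow_two] using h
  have hνsup : ∀ (y : G) (hy : y ∈ P₀), y ∈ (P₀ ⊓ N) ⊔ P' →
      ν ⟨y, hy⟩ * ν ⟨y, hy⟩ = 1 := fun y hy hys => by
    have hle : (P₀ ⊓ N) ⊔ P' ≤ (ν.toHomUnits * ν.toHomUnits).ker.map P₀.subtype := by
      refine sup_le (fun z hz => ⟨⟨z, hz.1⟩, Units.ext ?_, rfl⟩)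
        fun z hz => ⟨⟨z, hP'le hz⟩, Units.ext ?_, rfl⟩
      · exact hνQ z hz
      · show ν _ * ν _ = 1
        rw [hνc z hz, one_mul]
    obtain ⟨z, hz, rfl⟩ := hle hys
    exact congrArg Units.val (hz : ν.toHomUnits z * ν.toHomUnits z = 1)
  set π := QuotientGroup.mk' N
  set H : Subgroup G := (P₀.map π).comap π
  have hPH : P₀ ≤ H := Subgroup.le_comap_map π P₀
  have hNH : N ≤ H := fun n hn => by
    show π n ∈ P₀.map π
    rw [show π n = 1 from (QuotientGroup.eq_one_iff n).2 hn]
    exact one_mem _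
  let sqh : P₀ →* ℂˣ := ν.toHomUnits * ν.toHomUnits
  have hker : (OddDeg.toMap π P₀).ker ≤ sqh.ker := fun y hy => Units.ext
    (hνQ y ⟨y.2, (QuotientGroup.eq_one_iff _).1 (congrArg Subtype.val hy)⟩)
  let res : H →* P₀.map π := (π.comp H.subtype).codRestrict _ fun h => h.2
  let μ : H →* ℂ := (Units.coeHom ℂ).comp
    (((OddDeg.toMap π P₀).liftOfSurjective (OddDeg.toMap_surjective π P₀) ⟨sqh, hker⟩).comp res)
  have hμν : ∀ (y : G) (hy : y ∈ P₀), μ ⟨y, hPH hy⟩ = ν ⟨y, hy⟩ * ν ⟨y, hy⟩ := fun y hy =>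
    congrArg Units.val (MonoidHom.liftOfRightInverse_comp_apply (OddDeg.toMap π P₀) _
      (Function.rightInverse_surjInv (OddDeg.toMap_surjective π P₀)) ⟨sqh, hker⟩ ⟨y, hy⟩)
  have hμ : ∀ g, μ g * μ g = 1 := fun g => by
    obtain ⟨⟨x, hx⟩, hxg⟩ := OddDeg.toMap_surjective π P₀ (res g)
    have : μ g = μ ⟨x, hPH hx⟩ := congrArg
      (fun q => (Units.coeHom ℂ) ((OddDeg.toMap π P₀).liftOfSurjective
        (OddDeg.toMap_surjective π P₀) ⟨sqh, hker⟩ q)) hxg.symm
    rw [this, hμν x hx, ← map_mul]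
    have h := hνsup _ (mul_mem hx hx) (pow_two x ▸ hP x hx)
    exact h
  haveI := Fintype.ofFinite H
  haveI := Fintype.ofFinite (P₀.subgroupOf H)
  have hPi : Odd P₀.index := by
    rw [← Nat.not_even_iff_odd, even_iff_two_dvd]
    exact P.not_dvd_index
  obtain ⟨δ, hδ⟩ := exists_det_sq (P₀.subgroupOf H) (OddDeg.odd_index_subgroupOf hPH hPi)
    (ν.comp (Subgroup.subgroupOfEquivOfLe hPH).toMonoidHom) μ (fun p => hμν _ p.2) hμ
  have hδN : ∀ n : N, δ ⟨n, hNH n.2⟩ = 1 := fun n => by
    haveI : Finite (Abelianization N) := Finite.of_surjective (Abelianization.of (G := N))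
      QuotientGroup.mk_surjective
    have hcop : Nat.Coprime (Nat.card (Abelianization N)) 2 := hodd.coprime_two_right
    have hres : ∀ q : Abelianization N,
        ((Units.coeHom ℂ).comp (Abelianization.lift (δ.comp (Subgroup.inclusion hNH)).toHomUnits))
          q ^ 2 = 1 := fun q => by
      obtain ⟨m, rfl⟩ := QuotientGroup.mk_surjective q
      show δ ⟨(m : G), hNH m.2⟩ ^ 2 = 1
      rw [pow_two, hδ]
      have h1 : res ⟨(m : G), hNH m.2⟩ = 1 :=
        Subtype.ext ((QuotientGroup.eq_one_iff (m : G)).2 m.2)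
      show (Units.coeHom ℂ) ((OddDeg.toMap π P₀).liftOfSurjective
        (OddDeg.toMap_surjective π P₀) ⟨sqh, hker⟩ (res _)) = 1
      rw [h1, map_one, map_one]
    exact DFunLike.congr_fun (Clifford.linear_root_unique hcop _ hres) (Abelianization.of n)
  intro x
  obtain ⟨x, hx⟩ := x
  rw [← hμν x hx, ← hδ, ← map_mul]
  set Ph : P₀ →* ℂˣ := (δ.comp (Subgroup.inclusion hPH)).toHomUnits with hPh
  have hle : (P₀ ⊓ N) ⊔ P' ≤ Ph.ker.map P₀.subtype := by
    refine sup_le (fun z hz => ⟨⟨z, hz.1⟩, Units.ext (hδN ⟨z, hz.2⟩), rfl⟩) fun z hz => ?_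
    rw [hP', ← Subgroup.map_subtype_commutator] at hz
    exact Subgroup.map_mono (Abelianization.commutator_subset_ker Ph) hz
  obtain ⟨z, hz, hzx⟩ := hle (pow_two x ▸ hP x hx)
  have hz' : δ ⟨(z : G), hPH z.2⟩ = 1 := congrArg Units.val (hz : Ph z = 1)
  convert hz' using 2
  exact Subtype.ext hzx.symm

end Cfsg.Agent.S4582
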