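import Cfsg.Statements.S4583
import Cfsg.Agent.Lib.BlockCount.Criterion

set_option autoImplicit false
open Cfsg
open scoped Classical ComplexConjugate

namespace Cfsg.Agent.S4583

open BlockCount

set_option linter.style.haveILetI false
set_option linter.unusedSectionVars false

universe u

variable {G : Type u} [Group G] [Fintype G] {p : ℕ} [Fact p.Prime] {M : Ideal Cfsg.AlgInt}

lemma isIntegral_nat (n : ℕ) : IsIntegral ℤ (n : ℂ) := by
  simpa using isIntegral_algebraMap (R := ℤ) (A := ℂ) (x := (n : ℤ))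

omit [Fintype G] in
lemma natCast_mem (hM : Cfsg.IsPModular p M) {n : ℕ} (h : p ∣ n) :
    Cfsg.MemLocalIdeal M (n : ℂ) := by
  obtain ⟨k, rfl⟩ := h
  refine ⟨((p * k : ℕ) : Cfsg.AlgInt), 1, ?_, fun h => hM.2.1.ne_top ((Ideal.eq_top_iff_one M).mpr h), by simp⟩
  push_cast
  exact M.mul_mem_right _ hM.2.2

/-- For the principal block the sum over p-regular elements is congruent to the number of
p-regular elements times the degree. -/
lemma pregSum_congr_degree (hM : Cfsg.IsPModular p M) {χ : Cfsg.IrrCharacter G}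
    (hχ : χ ∈ Cfsg.principalBlock M G) :
    Cfsg.MemLocalIdeal M ((Nat.card {g : G // ¬ p ∣ orderOf g} : ℂ) *
      (Cfsg.charDegree (χ : G → ℂ) : ℂ) - pregSum p (χ : G → ℂ)) := by
  have h := pregSum_mul_congr hM hχ (u := fun _ => (1 : ℂ)) (fun _ _ => rfl)
    (fun _ => isIntegral_one)
  simp only [one_mul] at h
  have h1 := localIdeal_mul_isIntegral h (y := (Cfsg.charDegree (χ : G → ℂ) : ℂ))
    (isIntegral_nat _)
  convert h1 using 1
  have hne := Char.IsIrrCharacter.apply_one_ne_zero χ.2
  rw [apply_one_eq_charDegree] at hne ⊢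
  have hone : pregSum p (fun _ : G => (1 : ℂ)) = Nat.card {g : G // ¬ p ∣ orderOf g} := by
    rw [pregSum, Finset.sum_const, nsmul_eq_mul, mul_one, Nat.card_eq_fintype_card,
      Fintype.card_subtype]
  rw [hone]
  field_simp

/-- The heart of the argument. -/
lemma core (hM : Cfsg.IsPModular p M) (N H : Subgroup G) [N.Normal] [Fintype N] [Fintype H]
    (hNH : N ≤ H) (hH : ¬ p ∣ H.index) (hreg : ∀ x ∈ H, ¬ p ∣ orderOf x → x ∈ N)
    (θ : Cfsg.IrrCharacter N) (hθ : θ ∈ Cfsg.principalBlock M N)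
    (hdeg : ¬ p ∣ Cfsg.charDegree (θ : N → ℂ)) (η : Cfsg.IrrCharacter H)
    (hη : ∀ n : N, (η : H → ℂ) (Subgroup.inclusion hNH n) = (θ : N → ℂ) n) :
    ∃ χ : Cfsg.IrrCharacter G, χ ∈ Cfsg.principalBlock M G ∧
      ¬ p ∣ Cfsg.charDegree (χ : G → ℂ) ∧
      Cfsg.classInner (fun n : N => (χ : G → ℂ) n) (θ : N → ℂ) ≠ 0 := by
  have hmax := hM.2.1
  obtain ⟨k, hk, hk', -, -⟩ := exists_multiplicity (G := G) H
  have hsum : pregSum p (η : H → ℂ) = pregSum p (θ : N → ℂ) := by
    symm
    refine Finset.sum_bij (fun n _ => Subgroup.inclusion hNH n) (fun n hn => ?_)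
      (fun a _ b _ h => Subgroup.inclusion_injective hNH h) (fun x hx => ?_) (fun n _ => (hη n).symm)
    · simp only [Finset.mem_filter, Finset.mem_univ, true_and] at hn ⊢
      rwa [← Subgroup.orderOf_coe, Subgroup.coe_inclusion, Subgroup.orderOf_coe]
    · simp only [Finset.mem_filter, Finset.mem_univ, true_and] at hx
      have hxN : (x : G) ∈ N := hreg x x.2 (by rwa [Subgroup.orderOf_coe])
      refine ⟨⟨x, hxN⟩, ?_, Subtype.ext rfl⟩
      simp only [Finset.mem_filter, Finset.mem_univ, true_and]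
      rwa [Subgroup.orderOf_mk, Subgroup.orderOf_coe]
  set T := Finset.univ.filter (fun χ : Cfsg.IrrCharacter G => χ ∈ Cfsg.principalBlock M G)
  -- some member of the block with p'-degree occurs in the induced character
  obtain ⟨χ, hχT, hχ⟩ : ∃ χ ∈ T, ¬ p ∣ k χ η * Cfsg.charDegree (χ : G → ℂ) := by
    by_contra! h
    have h1 : (H.index : ℂ) * pregSum p (η : H → ℂ) =
        ∑ χ ∈ T, (k χ η : ℂ) * pregSum p (χ : G → ℂ) := by
      rw [← pregSum_indFun, Char.eq_sum_classInner_smul (Char.isClassFunction_indFun H (η : H → ℂ)),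
        pregSum_finsetSum]
      simp only [pregSum_smul, hk']
      refine (Finset.sum_subset (Finset.subset_univ T) fun χ _ hn => ?_).symm
      have : χ ∉ Cfsg.principalBlock M G := by simpa [T] using hn
      rw [mem_principalBlock_iff hM, not_not] at this
      rw [this, mul_zero]
    have hA : Cfsg.MemLocalIdeal M (∑ χ ∈ T, ((Nat.card {g : G // ¬ p ∣ orderOf g} *
        (k χ η * Cfsg.charDegree (χ : G → ℂ)) : ℕ) : ℂ)) :=
      localIdeal_sum hmax T fun χ hχ => natCast_mem hM ((h χ hχ).mul_left _)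
    have hB : Cfsg.MemLocalIdeal M (∑ χ ∈ T, ((k χ η : ℂ) *
        ((Nat.card {g : G // ¬ p ∣ orderOf g} : ℂ) *
          (Cfsg.charDegree (χ : G → ℂ) : ℂ) - pregSum p (χ : G → ℂ)))) :=
      localIdeal_sum hmax T fun χ hχ => localIdeal_mul_isIntegral
        (pregSum_congr_degree hM (Finset.mem_filter.1 hχ).2) (isIntegral_nat _)
    have hC : Cfsg.MemLocalIdeal M ((H.index : ℂ) * pregSum p (η : H → ℂ)) := by
      have := localIdeal_add hmax hA (localIdeal_neg hB)
      convert this using 1
      rw [h1, ← sub_eq_add_neg, ← Finset.sum_sub_distrib]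
      refine Finset.sum_congr rfl fun χ _ => ?_
      push_cast; ring
    rw [hsum] at hC
    have hD := localIdeal_mul_isIntegral (pregSum_congr_degree hM hθ)
      (y := (H.index : ℂ)) (isIntegral_nat _)
    have hE := localIdeal_add hmax hC hD
    rw [mul_sub, add_sub_cancel, ← Nat.cast_mul, ← Nat.cast_mul] at hE
    rcases (Fact.out : p.Prime).dvd_mul.1 (dvd_of_natCast_mem_localIdeal hM hE) with h2 | h2
    · exact hH h2
    · exact (Fact.out : p.Prime).dvd_mul.1 h2 |>.elim (not_dvd_card_pRegular p) hdeg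
  refine ⟨χ, (Finset.mem_filter.1 hχT).2, fun h => hχ (h.mul_left _), ?_⟩
  have hk0 : k χ η ≠ 0 := fun h => hχ (by simp [h])
  -- restrict to N
  have hres := Char.eq_sum_classInner_smul (Char.IsCharacter.isClassFunction
    (Char.IsCharacter.restrict (Char.irr_isCharacter χ) H))
  have hN : (fun n : N => (χ : G → ℂ) n) = ∑ ψ : Cfsg.IrrCharacter H,
      (k χ ψ : ℂ) • fun n : N => (ψ : H → ℂ) (Subgroup.inclusion hNH n) := by
    funext n
    have := congrFun hres (Subgroup.inclusion hNH n)
    simp only [Finset.sum_apply, Pi.smul_apply, smul_eq_mul] at this ⊢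
    exact this.trans (Finset.sum_congr rfl fun ψ _ => by rw [← hk χ ψ]; rfl)
  choose m hm using fun ψ : Cfsg.IrrCharacter H => Char.IsCharacter.exists_nat_classInner
    (Char.IsCharacter.comp (Char.irr_isCharacter ψ) (Subgroup.inclusion hNH))
    (Char.irr_isCharacter θ)
  rw [hN, Char.classInner_sum_left]
  simp only [Char.classInner_smul_left, hm, ← Nat.cast_mul, ← Nat.cast_sum]
  rw [Nat.cast_ne_zero]
  intro h0
  have h1 := Finset.sum_eq_zero_iff.1 h0 η (Finset.mem_univ _)
  have h2 : m η = 1 := by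
    have h3 := hm η
    rw [funext hη, Char.classInner_irr_self θ.2] at h3
    exact_mod_cast h3.symm
  rw [h2, mul_one] at h1
  exact hk0 h1


/-- Let N be a normal subgroup of the finite group G, p a prime, M a maximal ideal of the algebraic integers containing p, and P a Sylow p-subgroup of G. Let θ be an irreducible character of N of degree prime to p lying in the principal p-block of N, and suppose θ extends to the subgroup NP (some irreducible character of NP restricts to θ). Then some irreducible character χ of G of degree prime to p in the principal p-block of G lies over θ (θ is a constituent of the restriction of χ to N). -/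
theorem result {G : Type*} [Group G] [Finite G] (N : Subgroup G) [N.Normal] (p : ℕ) [Fact p.Prime] (M : Ideal Cfsg.AlgInt) (hM : Cfsg.IsPModular p M) (P : Sylow p G)
    (θ : Cfsg.IrrCharacter N) (hθ : θ ∈ Cfsg.principalBlock M N) (hdeg : ¬ p ∣ Cfsg.charDegree (θ : N → ℂ))
    (hext : ∃ η : Cfsg.IrrCharacter ↥(N ⊔ (P : Subgroup G)), ∀ n : N, (η : ↥(N ⊔ (P : Subgroup G)) → ℂ) (Subgroup.inclusion le_sup_left n) = (θ : N → ℂ) n) :
    ∃ χ : Cfsg.IrrCharacter G, χ ∈ Cfsg.principalBlock M G ∧ ¬ p ∣ Cfsg.charDegree (χ : G → ℂ) ∧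
      haveI := Fintype.ofFinite N; Cfsg.classInner (fun n : N => (χ : G → ℂ) n) (θ : N → ℂ) ≠ 0 := by
  haveI := Fintype.ofFinite G
  letI := Fintype.ofFinite N
  obtain ⟨η, hη⟩ := hext
  haveI := Fintype.ofFinite (N ⊔ (P : Subgroup G) : Subgroup G)
  refine core hM N (N ⊔ P) le_sup_left
    (fun h => P.not_dvd_index (h.trans (Subgroup.index_dvd_of_le le_sup_right))) ?_ θ hθ hdeg η hη
  intro x hx hreg
  have h1 : (x : G ⧸ N) ∈ (P : Subgroup G).map (QuotientGroup.mk' N) := by
    have := Subgroup.mem_map_of_mem (QuotientGroup.mk' N) hx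
    rwa [Subgroup.map_sup, QuotientGroup.map_mk'_self, bot_sup_eq] at this
  obtain ⟨j, hj⟩ := (IsPGroup.iff_orderOf (p := p)).1 (P.2.map (QuotientGroup.mk' N)) ⟨_, h1⟩
  rw [Subgroup.orderOf_mk] at hj
  rw [← QuotientGroup.eq_one_iff, ← orderOf_eq_one_iff, hj]
  rcases j with _ | j
  · rfl
  · refine absurd ((dvd_pow_self p j.succ_ne_zero).trans ?_) hreg
    rw [← hj]
    exact orderOf_map_dvd (QuotientGroup.mk' N) x

end Cfsg.Agent.S4583
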