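import Cfsg.Statements.S4584
import Cfsg.Agent.Lib.PGroup.Basic
import Cfsg.Agent.Lib.PGroup.Class2

set_option autoImplicit false
open Cfsg
open scoped commutatorElement

namespace Cfsg.Agent.S4584

/-- Let p be a prime and P a group of order p^4. Then the derived subgroup P' has order p if and only if the centre Z(P) has index p^2 in P. -/
theorem result {P : Type*} [Group P] [Finite P] (p : ℕ) [Fact p.Prime] (hP : Nat.card P = p ^ 4) :
    Nat.card (commutator P) = p ↔ (Subgroup.center P).index = p ^ 2 := by
  classical
  have hp : p.Prime := Fact.out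
  have hPp : IsPGroup p P := IsPGroup.of_card hP
  constructor
  · intro hc
    have hcen : commutator P ≤ Subgroup.center P :=
      PGroup.le_center_of_card_eq hPp (commutator P) hc
    haveI hne : Fact p.Prime := ⟨hp⟩
    have hnab : ¬ ∀ a b : P, a * b = b * a := by
      intro hab
      have : commutator P = ⊥ := by
        rw [commutator_def, Subgroup.commutator_eq_bot_iff_le_centralizer]
        exact fun a _ => Subgroup.mem_centralizer_iff.2 fun b _ => hab b a
      rw [this, Subgroup.card_bot] at hc
      exact hp.one_lt.ne hc
    push Not at hnab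
    obtain ⟨x, y, hxy⟩ := hnab
    have hbase : ∀ z : P, z ∉ Subgroup.center P →
        (Subgroup.centralizer ({z} : Set P)).index = p := by
      intro z hz
      have h1 : (Subgroup.centralizer ({z} : Set P)).index ≠ 1 := by
        rw [Ne, Subgroup.index_eq_one]
        intro htop
        apply hz
        rw [Subgroup.mem_center_iff]
        intro g
        have hg : g ∈ Subgroup.centralizer ({z} : Set P) := by rw [htop]; exact Subgroup.mem_top g
        exact (Subgroup.mem_centralizer_iff.1 hg z rfl).symm
      obtain ⟨k, hk⟩ := PGroup.index_eq_pow hPp (Subgroup.centralizer ({z} : Set P))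
      have h2 : (Subgroup.centralizer ({z} : Set P)).index ≤ p := by
        rw [← hc, Subgroup.index_eq_card]
        refine Nat.card_le_card_of_injective
          (Quotient.lift (fun g : P => (⟨g * z * g⁻¹ * z⁻¹,
            Subgroup.commutator_mem_commutator (Subgroup.mem_top g) (Subgroup.mem_top z)⟩ :
              commutator P)) ?_) ?_
        · intro a b hab
          have hab' := QuotientGroup.leftRel_apply.1 hab
          have := Subgroup.mem_centralizer_iff.1 hab' z rfl
          refine Subtype.ext ?_
          show a * z * a⁻¹ * z⁻¹ = b * z * b⁻¹ * z⁻¹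
          calc a * z * a⁻¹ * z⁻¹ = a * (z * (a⁻¹ * b)) * b⁻¹ * z⁻¹ := by group
            _ = a * (a⁻¹ * b * z) * b⁻¹ * z⁻¹ := by rw [this]
            _ = _ := by group
        · intro u v
          refine Quotient.inductionOn₂ u v fun a b h => Quotient.sound ?_
          refine QuotientGroup.leftRel_apply.2 (Subgroup.mem_centralizer_iff.2 fun w hw => ?_)
          rw [Set.mem_singleton_iff] at hw
          subst hw
          have h' : a * w * a⁻¹ = b * w * b⁻¹ :=
            mul_right_cancel (congrArg Subtype.val h)
          calc w * (a⁻¹ * b) = a⁻¹ * (a * w * a⁻¹) * b := by group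
            _ = a⁻¹ * (b * w * b⁻¹) * b := by rw [h']
            _ = a⁻¹ * b * w := by group
      rcases k with _ | _ | k
      · rw [pow_zero] at hk; exact absurd hk h1
      · simpa using hk
      · exfalso
        rw [hk] at h2
        simp only [show k + 1 + 1 = k + 2 from rfl] at h2
        have : p ^ 1 < p ^ (k + 2) := Nat.pow_lt_pow_right hp.one_lt (by omega)
        simp at this; omega
    have hxZ : x ∉ Subgroup.center P := fun h => hxy (Subgroup.mem_center_iff.1 h y).symm
    have hyZ : y ∉ Subgroup.center P := fun h => hxy (Subgroup.mem_center_iff.1 h x)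
    set A := Subgroup.centralizer ({x} : Set P)
    set B := Subgroup.centralizer ({y} : Set P)
    set M := A ⊓ B with hMdef
    have hMidx : M.index ≤ p ^ 2 := by
      refine (Subgroup.index_inf_le).trans ?_
      rw [hbase x hxZ, hbase y hyZ, pow_two]
    have hxA : x ∈ A := Subgroup.mem_centralizer_iff.2 (by simp)
    have hxB : x ∉ B := fun h => hxy (Subgroup.mem_centralizer_iff.1 h y rfl).symm
    have hlt : M < A := lt_of_le_of_ne inf_le_left fun h => hxB (h.ge hxA).2
    obtain ⟨k, hk⟩ := PGroup.index_eq_pow hPp M
    have hk2 : k = 2 := by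
      have h1 : A.index < M.index := Subgroup.index_strictAnti hlt
      rw [hbase x hxZ, hk] at h1
      rw [hk] at hMidx
      have := (Nat.pow_le_pow_iff_right hp.one_lt).1 hMidx
      rcases k with _ | _ | k
      · exfalso; simp at h1; exact absurd h1 (by have := hp.one_lt; omega)
      · simp at h1
      · omega
    subst hk2
    have hMc : Nat.card M = p ^ 2 := by
      have h := M.card_mul_index
      rw [hk, hP] at h
      exact Nat.eq_of_mul_eq_mul_right (pow_pos hp.pos 2) (by rw [h]; ring)
    have hMab : ∀ a b : M, a * b = b * a :=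
      fun a b => (IsPGroup.isMulCommutative_of_card_eq_prime_sq (p := p) hMc).is_comm.comm a b
    have hMn : M.Normal := by
      refine Subgroup.Normal.of_commutator_le P ?_
      intro c hc'
      have h1 := hcen hc'
      exact Subgroup.mem_inf.2 ⟨Subgroup.mem_centralizer_iff.2 fun w _ =>
        Subgroup.mem_center_iff.1 h1 w, Subgroup.mem_centralizer_iff.2 fun w _ =>
        Subgroup.mem_center_iff.1 h1 w⟩
    haveI := hMn
    set T : Subgroup P := M ⊔ Subgroup.zpowers x ⊔ Subgroup.zpowers y with hT
    have hA : M ⊔ Subgroup.zpowers x ≤ A :=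
      sup_le inf_le_left (by rwa [Subgroup.zpowers_le])
    have hMx : M < M ⊔ Subgroup.zpowers x :=
      lt_of_le_of_ne le_sup_left fun h =>
        hxB (h.ge (Subgroup.mem_sup_right (Subgroup.mem_zpowers x))).2
    have hT1 : M ⊔ Subgroup.zpowers x < T := lt_of_le_of_ne le_sup_left fun h =>
      hxy (Subgroup.mem_centralizer_iff.1 (hA (h.ge (Subgroup.mem_sup_right (Subgroup.mem_zpowers y)))) x rfl)
    have htop : T = ⊤ := by
      rw [← Subgroup.index_eq_one]
      obtain ⟨i, hi⟩ := PGroup.index_eq_pow hPp T
      obtain ⟨j, hj⟩ := PGroup.index_eq_pow hPp (M ⊔ Subgroup.zpowers x)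
      have h1 := Subgroup.index_strictAnti hMx
      have h2 := Subgroup.index_strictAnti hT1
      rw [hj, hk] at h1
      rw [hi, hj] at h2
      have h1' := (Nat.pow_lt_pow_iff_right hp.one_lt).1 h1
      have h2' := (Nat.pow_lt_pow_iff_right hp.one_lt).1 h2
      rw [hi, show i = 0 by omega, pow_zero]
    have hMZ : M ≤ Subgroup.center P := by
      intro m hm
      rw [Subgroup.mem_center_iff]
      intro g
      have hg : g ∈ Subgroup.centralizer ({m} : Set P) := by
        have hT' : T ≤ Subgroup.centralizer ({m} : Set P) := by
          refine sup_le (sup_le (fun a ha => ?_) ?_) ?_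
          · exact Subgroup.mem_centralizer_iff.2 fun w hw => by
              rw [Set.mem_singleton_iff] at hw; subst hw
              exact congrArg Subtype.val (hMab ⟨w, hm⟩ ⟨a, ha⟩)
          · rw [Subgroup.zpowers_le]
            exact Subgroup.mem_centralizer_iff.2 fun w hw => by
              rw [Set.mem_singleton_iff] at hw; subst hw
              exact (Subgroup.mem_centralizer_iff.1 hm.1 x rfl).symm
          · rw [Subgroup.zpowers_le]
            exact Subgroup.mem_centralizer_iff.2 fun w hw => by
              rw [Set.mem_singleton_iff] at hw; subst hw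
              exact (Subgroup.mem_centralizer_iff.1 hm.2 y rfl).symm
        exact hT' (htop ▸ Subgroup.mem_top g)
      exact (Subgroup.mem_centralizer_iff.1 hg m rfl).symm
    have hZM : Subgroup.center P ≤ M := fun z hz => Subgroup.mem_inf.2
      ⟨Subgroup.mem_centralizer_iff.2 fun w _ => Subgroup.mem_center_iff.1 hz w,
       Subgroup.mem_centralizer_iff.2 fun w _ => Subgroup.mem_center_iff.1 hz w⟩
    rw [le_antisymm hZM hMZ, hk]
  · intro hZ
    set Z := Subgroup.center P with hZdef
    have hcom : commutator P ≤ Z := by
      have h2 : Nat.card (P ⧸ Z) = p ^ 2 := hZ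
      haveI := IsPGroup.isMulCommutative_of_card_eq_prime_sq (p := p) h2
      exact (Subgroup.Normal.quotient_commutative_iff_commutator_le (N := Z)).1 inferInstance
    have hZtop : Z ≠ ⊤ := by
      intro h
      rw [h, Subgroup.index_top] at hZ
      exact absurd hZ.symm (one_lt_pow₀ hp.one_lt two_ne_zero).ne'
    obtain ⟨a, ha⟩ : ∃ a : P, a ∉ Z := by
      by_contra h
      push Not at h
      exact hZtop (eq_top_iff.2 fun x _ => h x)
    set A := Z ⊔ Subgroup.zpowers a with hA
    have hAc : A ≤ Subgroup.centralizer ({a} : Set P) := by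
      refine sup_le (fun z hz => Subgroup.mem_centralizer_iff.2 fun w _ =>
        Subgroup.mem_center_iff.1 hz w) ?_
      rw [Subgroup.zpowers_le]
      exact Subgroup.mem_centralizer_iff.2 (by simp)
    obtain ⟨b, hb⟩ : ∃ b : P, b ∉ A := by
      by_contra h
      push Not at h
      exact ha (Subgroup.mem_center_iff.2 fun g =>
        (Subgroup.mem_centralizer_iff.1 (hAc (h g)) a rfl).symm)
    set B := A ⊔ Subgroup.zpowers b with hB
    have hlt1 : Z < A := lt_of_le_of_ne le_sup_left fun h =>
      ha (h.ge (Subgroup.mem_sup_right (Subgroup.mem_zpowers a)))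
    have hlt2 : A < B := lt_of_le_of_ne le_sup_left fun h =>
      hb (h.ge (Subgroup.mem_sup_right (Subgroup.mem_zpowers b)))
    obtain ⟨i, hi⟩ := PGroup.index_eq_pow hPp A
    obtain ⟨j, hj⟩ := PGroup.index_eq_pow hPp B
    have h1 := Subgroup.index_strictAnti hlt1
    rw [hi, hZ] at h1
    have h2 := Subgroup.index_strictAnti hlt2
    rw [hi, hj] at h2
    have h1' := (Nat.pow_lt_pow_iff_right hp.one_lt).1 h1
    have h2' := (Nat.pow_lt_pow_iff_right hp.one_lt).1 h2
    have hBtop : B = ⊤ := by rw [← Subgroup.index_eq_one, hj, show j = 0 by omega, pow_zero]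
    have hap : a ^ p ∈ Z := by
      have hZA : Z.relIndex A = p := by
        have h := Subgroup.relIndex_mul_index hlt1.le
        rw [hi, hZ, show i = 1 by omega, pow_one, pow_two] at h
        exact Nat.eq_of_mul_eq_mul_right hp.pos h
      haveI : (Z.subgroupOf A).Normal := inferInstance
      have h := Subgroup.pow_index_mem (Z.subgroupOf A) ⟨a, Subgroup.mem_sup_right (Subgroup.mem_zpowers a)⟩
      rw [show (Z.subgroupOf A).index = p from hZA] at h
      exact Subgroup.mem_subgroupOf.1 h
    have hcen : ∀ u v : P, ⁅u, v⁆ ∈ Subgroup.center P := fun u v =>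
      hcom (Subgroup.commutator_mem_commutator (Subgroup.mem_top u) (Subgroup.mem_top v))
    set c := ⁅a, b⁆ with hc
    have hcp : c ^ p = 1 := by
      rw [hc, ← PGroup.commutator_pow_left (hcen a b), commutatorElement_eq_one_iff_mul_comm]
      exact (Subgroup.mem_center_iff.1 hap b).symm
    have hc1 : c ≠ 1 := by
      intro h
      apply ha
      have hall : B ≤ Subgroup.centralizer ({a} : Set P) := by
        refine sup_le hAc ?_
        rw [Subgroup.zpowers_le]
        refine Subgroup.mem_centralizer_iff.2 fun w hw => ?_
        rw [Set.mem_singleton_iff] at hw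
        subst hw
        exact commutatorElement_eq_one_iff_mul_comm.1 h
      exact Subgroup.mem_center_iff.2 fun g =>
        (Subgroup.mem_centralizer_iff.1 (hall (hBtop ▸ Subgroup.mem_top g)) a rfl).symm
    set D := Subgroup.zpowers c
    haveI hDn : D.Normal := ⟨fun d hd g => by
      have hdz : d ∈ Subgroup.center P :=
        (Subgroup.zpowers_le.2 (hcen a b) : D ≤ Subgroup.center P) hd
      rw [Subgroup.mem_center_iff.1 hdz g, mul_inv_cancel_right]
      exact hd⟩
    let π := QuotientGroup.mk' D
    have hπ : π a * π b = π b * π a := by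
      rw [← commutatorElement_eq_one_iff_mul_comm, ← map_commutatorElement]
      exact (QuotientGroup.eq_one_iff _).2 (Subgroup.mem_zpowers c)
    have hzc : ∀ z ∈ Z, ∀ g : P, π z * π g = π g * π z := fun z hz g => by
      rw [← map_mul, ← map_mul, Subgroup.mem_center_iff.1 hz g]
    have hCa : B ≤ (Subgroup.centralizer ({π a} : Set (P ⧸ D))).comap π := by
      refine sup_le (sup_le (fun z hz => ?_) ?_) ?_
      · refine Subgroup.mem_centralizer_iff.2 fun w hw => ?_
        rw [Set.mem_singleton_iff] at hw
        subst hw
        exact (hzc z hz a).symm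
      · rw [Subgroup.zpowers_le]
        exact Subgroup.mem_centralizer_iff.2 (by simp)
      · rw [Subgroup.zpowers_le]
        refine Subgroup.mem_centralizer_iff.2 fun w hw => ?_
        rw [Set.mem_singleton_iff] at hw
        subst hw
        exact hπ
    have hCb : B ≤ (Subgroup.centralizer ({π b} : Set (P ⧸ D))).comap π := by
      refine sup_le (sup_le (fun z hz => ?_) ?_) ?_
      · refine Subgroup.mem_centralizer_iff.2 fun w hw => ?_
        rw [Set.mem_singleton_iff] at hw
        subst hw
        exact (hzc z hz b).symm
      · rw [Subgroup.zpowers_le]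
        refine Subgroup.mem_centralizer_iff.2 fun w hw => ?_
        rw [Set.mem_singleton_iff] at hw
        subst hw
        exact hπ.symm
      · rw [Subgroup.zpowers_le]
        exact Subgroup.mem_centralizer_iff.2 (by simp)
    have hcd : commutator P ≤ D := by
      rw [commutator_def, Subgroup.commutator_le]
      intro u _ v _
      refine (QuotientGroup.eq_one_iff _).1 ?_
      show π ⁅u, v⁆ = 1
      rw [map_commutatorElement, commutatorElement_eq_one_iff_mul_comm]
      have hv : B ≤ (Subgroup.centralizer ({π u} : Set (P ⧸ D))).comap π := by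
        refine sup_le (sup_le (fun z hz => ?_) ?_) ?_
        · refine Subgroup.mem_centralizer_iff.2 fun w hw => ?_
          rw [Set.mem_singleton_iff] at hw
          subst hw
          exact (hzc z hz u).symm
        · rw [Subgroup.zpowers_le]
          refine Subgroup.mem_centralizer_iff.2 fun w hw => ?_
          rw [Set.mem_singleton_iff] at hw
          subst hw
          exact (Subgroup.mem_centralizer_iff.1 (hCa (hBtop ▸ Subgroup.mem_top u)) _ rfl).symm
        · rw [Subgroup.zpowers_le]
          refine Subgroup.mem_centralizer_iff.2 fun w hw => ?_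
          rw [Set.mem_singleton_iff] at hw
          subst hw
          exact (Subgroup.mem_centralizer_iff.1 (hCb (hBtop ▸ Subgroup.mem_top u)) _ rfl).symm
      exact Subgroup.mem_centralizer_iff.1 (hv (hBtop ▸ Subgroup.mem_top v)) _ rfl
    have hDle : D ≤ commutator P := by
      rw [Subgroup.zpowers_le]
      exact Subgroup.commutator_mem_commutator (Subgroup.mem_top a) (Subgroup.mem_top b)
    rw [le_antisymm hcd hDle, Nat.card_zpowers]
    exact orderOf_eq_prime hcp hc1

end Cfsg.Agent.S4584
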