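import Cfsg.Statements.S4585
import Cfsg.Agent.Lib.PGroup.Basic
import Cfsg.Agent.S4584
import Mathlib.GroupTheory.Nilpotent

set_option autoImplicit false
open Cfsg
open scoped commutatorElement

namespace Cfsg.Agent.S4585

theorem commutative_of_center {G H : Type*} [Group G] [Group H] [IsCyclic H] {f : G →* H}
    (hf : f.ker ≤ Subgroup.center G) : IsMulCommutative G :=
  ⟨⟨commutative_of_cyclic_center_quotient f hf⟩⟩

theorem isMulCommutative_of_card_le {Q : Type*} [Group Q] [Finite Q] {p k : ℕ} [Fact p.Prime]
    (hk : k ≤ 3) (hQ : IsPGroup p Q) (hc : Nat.card Q = p ^ k) :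
    IsMulCommutative (Q ⧸ Subgroup.center Q) := by
  have hp : p.Prime := Fact.out
  obtain ⟨i, hi⟩ := PGroup.index_eq_pow hQ (Subgroup.center Q)
  have hi2 : i ≤ 2 := by
    rcases subsingleton_or_nontrivial Q with h | h
    · have h1 : (Subgroup.center Q).index = 1 :=
        Subgroup.index_eq_one.2 (Subsingleton.elim _ _)
      rw [h1] at hi
      have := Nat.pow_right_injective hp.two_le ((pow_zero p).trans hi)
      omega
    · haveI := hQ.center_nontrivial
      obtain ⟨l, hl⟩ := PGroup.card_eq_pow hQ (Subgroup.center Q)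
      have h1 : 1 < Nat.card (Subgroup.center Q) := Finite.one_lt_card
      have hl0 : l ≠ 0 := fun e => by rw [hl, e, pow_zero] at h1; exact lt_irrefl 1 h1
      have h := (Subgroup.center Q).card_mul_index
      rw [hi, hl, hc, ← pow_add] at h
      have := Nat.pow_right_injective hp.two_le h
      omega
  rw [Subgroup.index_eq_card] at hi
  rcases i with _ | _ | _ | i
  · haveI : Subsingleton (Q ⧸ Subgroup.center Q) :=
      (Nat.card_eq_one_iff_unique.1 (by rw [hi, pow_zero])).1
    exact ⟨⟨fun a b => Subsingleton.elim _ _⟩⟩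
  · haveI : IsCyclic (Q ⧸ Subgroup.center Q) :=
      isCyclic_of_prime_card (p := p) (by rw [hi, pow_one])
    exact commutative_of_center (f := MonoidHom.id _) (by simp)
  · exact IsPGroup.isMulCommutative_of_card_eq_prime_sq (p := p) hi
  · omega

theorem index_ne {G : Type*} [Group G] [Finite G] {p : ℕ} [Fact p.Prime] (hG : IsPGroup p G)
    (h : commutator G ≠ ⊥) : (commutator G).index ≠ p := by
  intro hi
  have hlt := PGroup.commutator_top_lt hG (commutator G) h
  set D : Subgroup G := ⁅commutator G, (⊤ : Subgroup G)⁆
  refine hlt.not_ge ?_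
  refine Subgroup.Normal.quotient_commutative_iff_commutator_le.1 ?_
  haveI : IsCyclic (G ⧸ commutator G) := isCyclic_of_prime_card (p := p) hi
  refine commutative_of_center (f := QuotientGroup.map D (commutator G) (MonoidHom.id G)
    (by rw [Subgroup.comap_id]; exact hlt.le)) ?_
  rintro ⟨x⟩ hx
  have hx' : x ∈ commutator G := (QuotientGroup.eq_one_iff x).1 hx
  refine Subgroup.mem_center_iff.2 ?_
  rintro ⟨y⟩
  show QuotientGroup.mk' D y * QuotientGroup.mk' D x = QuotientGroup.mk' D x * QuotientGroup.mk' D y
  rw [← map_mul, ← map_mul]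
  have hmem : ⁅x, y⁆ ∈ D := Subgroup.commutator_mem_commutator hx' (Subgroup.mem_top y)
  refine (QuotientGroup.mk'_eq_mk' _).2 ⟨(y * x)⁻¹ * (x * y), ?_, by group⟩
  have h2 : (y * x)⁻¹ * (x * y) = (y * x)⁻¹ * ⁅x, y⁆ * (y * x) := by
    simp only [commutatorElement_def]; group
  rw [h2]
  exact (inferInstance : D.Normal).conj_mem' _ hmem _


/-- Let p be a prime and P a group of order p^4. Then P' has index p^2 in P if and only if P has maximal nilpotency class, that is, nilpotency class exactly 3. -/
theorem result {P : Type*} [Group P] [Finite P] (p : ℕ) [Fact p.Prime] (hP : Nat.card P = p ^ 4) :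
    (commutator P).index = p ^ 2 ↔ Group.nilpotencyClass P = 3 := by
  have hp : p.Prime := Fact.out
  have hPp : IsPGroup p P := IsPGroup.of_card hP
  haveI hnil : Group.IsNilpotent P := hPp.isNilpotent
  set Z := Subgroup.center P with hZ
  have hcl2 : Group.nilpotencyClass P ≤ 2 ↔ commutator P ≤ Z := by
    rw [← Subgroup.Normal.quotient_commutative_iff_commutator_le,
      ← Group.IsNilpotent.nilpotencyClass_le_one_iff, Group.nilpotencyClass_quotient_center]
    omega
  have hcl3 : Group.nilpotencyClass P ≤ 3 := by
    have hQ : ∃ k, k ≤ 3 ∧ Nat.card (P ⧸ Z) = p ^ k := by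
      haveI : Nontrivial P := by
        rw [← Finite.one_lt_card_iff_nontrivial, hP]; exact one_lt_pow₀ hp.one_lt four_ne_zero
      obtain ⟨k, hk⟩ := PGroup.index_eq_pow hPp Z
      obtain ⟨l, hl⟩ := PGroup.card_eq_pow hPp Z
      refine ⟨k, ?_, hk⟩
      have h1 : 1 < Nat.card Z := by
        haveI := hPp.center_nontrivial
        exact Finite.one_lt_card
      have hl0 : l ≠ 0 := fun h => by rw [hl, h, pow_zero] at h1; exact lt_irrefl 1 h1
      have h := Z.card_mul_index
      rw [hk, hl, hP, ← pow_add] at h
      have := Nat.pow_right_injective hp.two_le h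
      omega
    obtain ⟨k, hk3, hk⟩ := hQ
    suffices h : IsMulCommutative ((P ⧸ Z) ⧸ Subgroup.center (P ⧸ Z)) by
      rw [← Group.IsNilpotent.nilpotencyClass_le_one_iff, Group.nilpotencyClass_quotient_center,
        Group.nilpotencyClass_quotient_center] at h
      omega
    refine isMulCommutative_of_card_le hk3 (hPp.to_quotient Z) hk
  have hcomm_idx : commutator P ≠ ⊥ → (commutator P).index ≠ p := fun h => index_ne hPp h
  obtain ⟨m, hm⟩ := PGroup.card_eq_pow hPp (commutator P)
  obtain ⟨j, hj⟩ := PGroup.index_eq_pow hPp (commutator P)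
  have hmj : m + j = 4 := by
    have h := (commutator P).card_mul_index
    rw [hm, hj, hP, ← pow_add] at h
    exact Nat.pow_right_injective hp.two_le h
  constructor
  · intro h
    rw [hj] at h
    have hj2 : j = 2 := Nat.pow_right_injective hp.two_le h
    have hm2 : m = 2 := by omega
    have hnot : ¬ commutator P ≤ Z := by
      intro hle
      have hZc := Subgroup.card_le_of_le hle
      rw [hm, hm2] at hZc
      have hne : ¬ IsMulCommutative P := by
        intro hc
        have h0 : commutator P = ⊥ := by
          rw [commutator_def, Subgroup.commutator_eq_bot_iff_le_centralizer]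
          exact fun a _ => Subgroup.mem_centralizer_iff.2 fun b _ => hc.is_comm.comm b a
        rw [h0, Subgroup.card_bot, hm2] at hm
        exact absurd hm (one_lt_pow₀ hp.one_lt two_ne_zero).ne
      obtain ⟨i, hi⟩ := PGroup.index_eq_pow hPp Z
      obtain ⟨l, hl⟩ := PGroup.card_eq_pow hPp Z
      rw [hl] at hZc
      have hl2 : 2 ≤ l := (Nat.pow_le_pow_iff_right hp.one_lt).1 hZc
      have hil : l + i = 4 := by
        have h := Z.card_mul_index
        rw [hi, hl, hP, ← pow_add] at h
        exact Nat.pow_right_injective hp.two_le h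
      rcases i with _ | _ | _ | i
      · rw [pow_zero, Subgroup.index_eq_one, hZ, Subgroup.center_eq_top_iff] at hi
        exact hne hi
      · apply hne
        haveI : IsCyclic (P ⧸ Subgroup.center P) :=
          isCyclic_of_prime_card (p := p) (by rw [← pow_one p]; exact hi)
        exact commutative_of_center (f := QuotientGroup.mk' (Subgroup.center P)) (by simp)
      · have := (S4584.result p hP).2 hi
        rw [hm, hm2] at this
        exact absurd (Nat.pow_right_injective hp.two_le (this.trans (pow_one p).symm)) (by omega)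
      · omega
    by_contra hne
    exact hnot (hcl2.1 (by omega))
  · intro h
    have hnot : ¬ commutator P ≤ Z := fun hle => by
      have := hcl2.2 hle
      omega
    have hm1 : m ≠ 1 := fun e => hnot (PGroup.le_center_of_card_eq hPp _ (by rw [hm, e, pow_one]))
    have hm0 : commutator P ≠ ⊥ := fun e => hnot (e ▸ bot_le)
    have hm0' : m ≠ 0 := fun e => hm0 (Subgroup.card_eq_one.1 (by rw [hm, e, pow_zero]))
    have hj0 : j ≠ 0 := by
      intro e
      rw [e, pow_zero, Subgroup.index_eq_one] at hj
      haveI : Nontrivial P := by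
        rw [← Finite.one_lt_card_iff_nontrivial, hP]; exact one_lt_pow₀ hp.one_lt four_ne_zero
      have h1 := PGroup.commutator_top_lt hPp (⊤ : Subgroup P) top_ne_bot
      rw [← commutator_def, hj] at h1
      exact lt_irrefl _ h1
    have hj1 : j ≠ 1 := fun e => hcomm_idx hm0 (by rw [hj, e, pow_one])
    rw [hj, show j = 2 by omega]

end Cfsg.Agent.S4585
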