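import Cfsg.Statements.S4586
import Cfsg.Agent.Lib.PGroup.Basic

set_option autoImplicit false
open Cfsg
open scoped commutatorElement

namespace Cfsg.Agent.S4586

/-- Let p be a prime, P a finite p-group and N a normal subgroup of P of index p. For x ∈ P write c(x) for the number of elements n of N whose commutator x n x⁻¹ n⁻¹ lies in the derived subgroup N' (so c(x)/#N' is the order of the centralizer of x acting on N/N'). Then [P : P'] = p² if and only if c(x) = p·#N' for every x ∈ P outside N, and also if and only if c(x) = p·#N' for some x ∈ P outside N. -/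
theorem result {P : Type*} [Group P] [Finite P] (p : ℕ) [Fact p.Prime] (hP : IsPGroup p P) (N : Subgroup P) [N.Normal] (hN : N.index = p) :
    ((commutator P).index = p ^ 2 ↔ ∀ x : P, x ∉ N →
        Nat.card {n : N // x * n * x⁻¹ * (n : P)⁻¹ ∈ (commutator N).map N.subtype} = p * Nat.card (commutator N)) ∧
    ((commutator P).index = p ^ 2 ↔ ∃ x : P, x ∉ N ∧
        Nat.card {n : N // x * n * x⁻¹ * (n : P)⁻¹ ∈ (commutator N).map N.subtype} = p * Nat.card (commutator N)) := by
  classical
  have hp : p.Prime := Fact.out
  set D : Subgroup P := (commutator N).map N.subtype with hD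
  haveI : D.Normal := by rw [hD]; infer_instance
  have hDN : D ≤ N := Subgroup.map_subtype_le _
  have hDc : D ≤ commutator P := by
    rw [hD, commutator_def, Subgroup.map_commutator, commutator_def]
    exact Subgroup.commutator_mono le_top le_top
  have hcN : commutator P ≤ N := PGroup.commutator_le_of_index_eq N hN
  have hsub : (commutator P).index = p * ((commutator P).relIndex N) := by
    rw [← Subgroup.relIndex_mul_index hcN, hN, mul_comm]
  have key : ∀ x : P, x ∉ N → ((commutator P).index = p ^ 2 ↔
      Nat.card {n : N // x * n * x⁻¹ * (n : P)⁻¹ ∈ D} = p * Nat.card (commutator N)) := by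
    intro x hx
    set π := QuotientGroup.mk' D with hπdef
    let f : N →* P ⧸ D :=
      { toFun := fun n => π (x * n * x⁻¹ * (n : P)⁻¹)
        map_one' := by simp
        map_mul' := fun a b => by
          have hab : ∀ u v : N, π (u : P) * π (v : P) = π (v : P) * π (u : P) := fun u v => by
            rw [← commutatorElement_eq_one_iff_mul_comm, ← map_commutatorElement]
            refine (QuotientGroup.eq_one_iff _).2 ?_
            exact ⟨⁅u, v⁆, Subgroup.commutator_mem_commutator (Subgroup.mem_top u)
              (Subgroup.mem_top v), map_commutatorElement N.subtype u v⟩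
          have e : x * ((a * b : N) : P) * x⁻¹ * ((a * b : N) : P)⁻¹ =
              (x * a * x⁻¹) * ((x * b * x⁻¹ * (b : P)⁻¹) * (a : P)⁻¹) := by
            rw [Subgroup.coe_mul]; group
          let c : N := ⟨x * b * x⁻¹ * (b : P)⁻¹,
            mul_mem ((inferInstance : N.Normal).conj_mem _ b.2 x) (inv_mem b.2)⟩
          rw [e]
          show π (x * a * x⁻¹ * ((c : P) * ((a⁻¹ : N) : P))) =
            π (x * a * x⁻¹ * ((a⁻¹ : N) : P)) * π (c : P)
          calc π (x * a * x⁻¹ * ((c : P) * ((a⁻¹ : N) : P)))
              = π (x * a * x⁻¹) * (π (c : P) * π ((a⁻¹ : N) : P)) := by rw [map_mul π (x * a * x⁻¹), map_mul π (c : P)]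
            _ = π (x * a * x⁻¹) * (π ((a⁻¹ : N) : P) * π (c : P)) := by rw [hab c a⁻¹]
            _ = _ := by rw [map_mul π (x * a * x⁻¹) ((a⁻¹ : N) : P)]; exact (mul_assoc _ _ _).symm }
    have hker : Nat.card {n : N // x * n * x⁻¹ * (n : P)⁻¹ ∈ D} = Nat.card f.ker :=
      Nat.card_congr (Equiv.subtypeEquivRight fun n => by
        rw [MonoidHom.mem_ker]
        exact (QuotientGroup.eq_one_iff _).symm)
    set R : Subgroup P := f.range.comap π with hR
    have hDR : D ≤ R := fun d hd => by
      show π d ∈ f.range
      rw [show π d = 1 from (QuotientGroup.eq_one_iff d).2 hd]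
      exact one_mem _
    have hR1 : R ≤ commutator P := fun r hr => by
      obtain ⟨n, hn⟩ := hr
      have hc : x * n * x⁻¹ * (n : P)⁻¹ ∈ commutator P :=
        Subgroup.commutator_mem_commutator (Subgroup.mem_top x) (Subgroup.mem_top (n : P))
      have h2 := mul_mem hc (hDc (QuotientGroup.eq.1 hn))
      rwa [mul_inv_cancel_left] at h2
    have hgen : ∀ g : P, g ∈ N ⊔ Subgroup.zpowers x := fun g => by
      have : N ⊔ Subgroup.zpowers x = ⊤ := by
        refine (PGroup.isCoatom_of_index_eq (p := p) hN).2 _ (lt_of_le_of_ne le_sup_left fun h => ?_)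
        exact hx (h.ge (Subgroup.mem_sup_right (Subgroup.mem_zpowers x)))
      rw [this]; exact Subgroup.mem_top g
    have hconjn : ∀ (n : N) (y : P), π y ∈ f.range →
        π ((n : P) * y * (n : P)⁻¹) = π y := fun n y hy => by
      obtain ⟨m, hm⟩ := hy
      rw [map_mul, map_mul, ← hm]
      show π (n : P) * π (x * m * x⁻¹ * (m : P)⁻¹) * π ((n : P)⁻¹) = π (x * m * x⁻¹ * (m : P)⁻¹)
      let c : N := ⟨x * m * x⁻¹ * (m : P)⁻¹,
        mul_mem ((inferInstance : N.Normal).conj_mem _ m.2 x) (inv_mem m.2)⟩
      have hnc : π (n : P) * π (c : P) = π (c : P) * π (n : P) := by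
        rw [← commutatorElement_eq_one_iff_mul_comm, ← map_commutatorElement]
        refine (QuotientGroup.eq_one_iff _).2 ?_
        exact ⟨⁅n, c⁆, Subgroup.commutator_mem_commutator (Subgroup.mem_top n)
          (Subgroup.mem_top c), map_commutatorElement N.subtype n c⟩
      show π (n : P) * π (c : P) * π ((n : P)⁻¹) = π (c : P)
      rw [hnc, map_inv, mul_inv_cancel_right]
    haveI hRn : R.Normal := by
      rw [← Subgroup.normalizer_eq_top_iff, eq_top_iff]
      intro g _
      have hle : N ⊔ Subgroup.zpowers x ≤ Subgroup.normalizer (R : Set P) := by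
        refine sup_le (fun n hn => Subgroup.mem_normalizer_fintype fun y hy => ?_) ?_
        · show π (n * y * n⁻¹) ∈ f.range
          rw [hconjn ⟨n, hn⟩ y hy]
          exact hy
        · rw [Subgroup.zpowers_le]
          refine Subgroup.mem_normalizer_fintype fun y hy => ?_
          obtain ⟨m, hm⟩ := hy
          refine ⟨⟨x * m * x⁻¹, (inferInstance : N.Normal).conj_mem _ m.2 x⟩, ?_⟩
          rw [map_mul, map_mul, ← hm]
          show π (x * (x * m * x⁻¹) * x⁻¹ * (x * m * x⁻¹)⁻¹) =
            π x * π (x * m * x⁻¹ * (m : P)⁻¹) * π x⁻¹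
          rw [← map_mul, ← map_mul]
          congr 1
          group
      exact hle (hgen g)
    have hR2 : commutator P ≤ R := by
      refine Subgroup.Normal.quotient_commutative_iff_commutator_le.1 ?_
      let σ := QuotientGroup.mk' R
      have h1 : ∀ (a b : N), σ (a : P) * σ (b : P) = σ (b : P) * σ (a : P) := fun a b => by
        rw [← commutatorElement_eq_one_iff_mul_comm, ← map_commutatorElement]
        refine (QuotientGroup.eq_one_iff _).2 (hDR ?_)
        exact ⟨⁅a, b⁆, Subgroup.commutator_mem_commutator (Subgroup.mem_top a)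
          (Subgroup.mem_top b), map_commutatorElement N.subtype a b⟩
      have h2 : ∀ a : N, σ x * σ (a : P) = σ (a : P) * σ x := fun a => by
        rw [← commutatorElement_eq_one_iff_mul_comm, ← map_commutatorElement]
        exact (QuotientGroup.eq_one_iff _).2 ⟨a, rfl⟩
      have hNc : ∀ a : N, ∀ g : P, σ g * σ (a : P) = σ (a : P) * σ g := fun a g => by
        have hle : N ⊔ Subgroup.zpowers x ≤
            (Subgroup.centralizer ({σ (a : P)} : Set (P ⧸ R))).comap σ := by
          refine sup_le (fun n hn => Subgroup.mem_centralizer_iff.2 fun w hw => ?_) ?_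
          · rw [Set.mem_singleton_iff] at hw; subst hw; exact (h1 ⟨n, hn⟩ a).symm
          · rw [Subgroup.zpowers_le]
            refine Subgroup.mem_centralizer_iff.2 fun w hw => ?_
            rw [Set.mem_singleton_iff] at hw; subst hw; exact (h2 a).symm
        exact (Subgroup.mem_centralizer_iff.1 (hle (hgen g)) _ rfl).symm
      have hxc : ∀ g : P, σ g * σ x = σ x * σ g := fun g => by
        have hle : N ⊔ Subgroup.zpowers x ≤
            (Subgroup.centralizer ({σ x} : Set (P ⧸ R))).comap σ := by
          refine sup_le (fun n hn => Subgroup.mem_centralizer_iff.2 fun w hw => ?_) ?_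
          · rw [Set.mem_singleton_iff] at hw; subst hw; exact h2 ⟨n, hn⟩
          · rw [Subgroup.zpowers_le]
            exact Subgroup.mem_centralizer_iff.2 (by simp)
        exact (Subgroup.mem_centralizer_iff.1 (hle (hgen g)) _ rfl).symm
      refine ⟨⟨fun u v => ?_⟩⟩
      induction u using QuotientGroup.induction_on with | H u => ?_
      induction v using QuotientGroup.induction_on with | H v => ?_
      show σ u * σ v = σ v * σ u
      have hle : N ⊔ Subgroup.zpowers x ≤
          (Subgroup.centralizer ({σ u} : Set (P ⧸ R))).comap σ := by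
        refine sup_le (fun n hn => Subgroup.mem_centralizer_iff.2 fun w hw => ?_) ?_
        · rw [Set.mem_singleton_iff] at hw; subst hw; exact hNc ⟨n, hn⟩ u
        · rw [Subgroup.zpowers_le]
          refine Subgroup.mem_centralizer_iff.2 fun w hw => ?_
          rw [Set.mem_singleton_iff] at hw; subst hw; exact hxc u
      exact Subgroup.mem_centralizer_iff.1 (hle (hgen v)) _ rfl
    have hRc : R = commutator P := le_antisymm hR1 hR2
    have hcardR : Nat.card (commutator P) = Nat.card D * Nat.card f.range := by
      have h1 : D.relIndex R = Nat.card f.range := by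
        have h := Subgroup.relIndex_ker R π
        rwa [hπdef, QuotientGroup.ker_mk', ← hπdef, hR,
          Subgroup.map_comap_eq_self_of_surjective (QuotientGroup.mk'_surjective D)] at h
      rw [← hRc, ← h1, ← Subgroup.relIndex_bot_left D, Subgroup.relIndex_mul_relIndex _ _ _ bot_le hDR,
        Subgroup.relIndex_bot_left]
    have hcardN : Nat.card f.ker * Nat.card f.range = Nat.card N := by
      rw [← Subgroup.index_ker, Subgroup.card_mul_index]
    have hDcard : Nat.card D = Nat.card (commutator N) :=
      Subgroup.card_map_of_injective N.subtype_injective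
    have hrel : Nat.card (commutator P) * (commutator P).relIndex N = Nat.card N := by
      rw [← Subgroup.relIndex_bot_left (commutator P), Subgroup.relIndex_mul_relIndex _ _ _ bot_le hcN,
        Subgroup.relIndex_bot_left]
    rw [hker, hsub, pow_two, Nat.mul_left_cancel_iff hp.pos]
    rw [hcardR, hDcard] at hrel
    have hpos : 0 < Nat.card f.range := Nat.card_pos
    have hker2 : Nat.card f.ker = Nat.card (commutator N) * (commutator P).relIndex N := by
      refine Nat.eq_of_mul_eq_mul_right hpos ?_
      rw [hcardN, ← hrel]; ring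
    rw [hker2, mul_comm p (Nat.card (commutator N)),
      Nat.mul_left_cancel_iff Nat.card_pos]
  obtain ⟨x₀, hx₀⟩ : ∃ x : P, x ∉ N := by
    by_contra h
    push Not at h
    have htop : N = ⊤ := eq_top_iff.2 fun y _ => h y
    rw [htop, Subgroup.index_top] at hN
    exact hp.one_lt.ne hN
  exact ⟨⟨fun h x hx => (key x hx).1 h, fun h => (key x₀ hx₀).2 (h x₀ hx₀)⟩,
    ⟨fun h => ⟨x₀, hx₀, (key x₀ hx₀).1 h⟩, fun ⟨x, hx, h⟩ => (key x hx).2 h⟩⟩

end Cfsg.Agent.S4586
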