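import Cfsg.Statements.S4587
import Cfsg.Agent.Lib.Socle.Factors
import Cfsg.Agent.Lib.Transfer.Tate
import Cfsg.Agent.Lib.PGroup.MaximalClass
import Cfsg.Agent.Lib.LocalStructure.Basic
import Cfsg.Agent.Lib.PCore.Basic
import Cfsg.Agent.Lib.Solvable.Basic
import Cfsg.Agent.Lib.Char.Orthogonality

set_option autoImplicit false
open Cfsg

namespace Cfsg.Agent.S4587

open Subgroup
open scoped commutatorElement

universe u

variable {G : Type u} [Group G] {p : ℕ}

theorem subgroupOf_commutator (P : Subgroup G) :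
    (⁅P, P⁆ : Subgroup G).subgroupOf P = commutator P := by
  rw [← map_subtype_commutator]
  exact comap_map_eq_self_of_injective P.subtype_injective _

theorem card_ab (H : Type u) [Group H] : Nat.card (Abelianization H) = (commutator H).index :=
  (Subgroup.index_eq_card _).symm

/-- In a `p`-group an element with centralizer of order `p²` gives `[G : G'] = p²`. -/
theorem index_of_small_centralizer {H : Type u} [Group H] [Finite H] [Fact p.Prime]
    (hH : IsPGroup p H) (x : H) (hx : Nat.card (centralizer ({x} : Set H)) = p ^ 2) :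
    (commutator H).index = p ^ 2 := by
  classical
  by_cases hc : IsCyclic H
  · haveI := hc.isMulCommutative
    have hb : commutator H = ⊥ := commutator_eq_bot H
    rw [hb, index_bot, ← hx]
    refine le_antisymm ?_ (Nat.card_le_card_of_injective _ Subtype.val_injective)
    refine Nat.card_le_card_of_injective (fun y : H => (⟨y, mem_centralizer_singleton_iff.2
      (mul_comm' _ _)⟩ : centralizer ({x} : Set H))) fun a b h => congrArg Subtype.val h
  refine le_antisymm ?_ (PGroup.sq_le_index_commutator hH hc)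
  have h1 := Agent.Char.card_centralizer_mul_card_conj x
  rw [hx, ← Subgroup.card_mul_index (commutator H)] at h1
  have h2 : Nat.card {y : H // IsConj x y} ≤ Nat.card (commutator H) := by
    refine Nat.card_le_card_of_injective (fun y => ⟨x⁻¹ * y.1, ?_⟩) fun a b h => Subtype.ext
      (mul_left_cancel (congrArg Subtype.val h))
    obtain ⟨c, hc⟩ := isConj_iff.1 y.2
    rw [← hc, show x⁻¹ * (c * x * c⁻¹) = ⁅x⁻¹, c⁆ by simp [commutatorElement_def, mul_assoc]]
    exact commutator_mem_commutator (mem_top _) (mem_top _)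
  have h3 : 0 < Nat.card {y : H // IsConj x y} := by
    haveI : Nonempty {y : H // IsConj x y} := ⟨⟨x, IsConj.refl x⟩⟩
    exact Nat.card_pos
  nlinarith [Nat.zero_le (commutator H).index]

theorem card_centralizer_sylow [Finite G] (P : Subgroup G) (z : G) (hz : z ∈ P) :
    Nat.card (centralizer ({(⟨z, hz⟩ : P)} : Set P)) =
      Nat.card (centralizer ({z} : Set G) ⊓ P : Subgroup G) := by
  rw [← Nat.card_congr (subgroupOfEquivOfLe (inf_le_right : centralizer ({z} : Set G) ⊓ P ≤ P)).toEquiv]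
  congr 2
  ext c
  simp [mem_subgroupOf, mem_centralizer_singleton_iff, Subtype.ext_iff, c.2]

theorem conj_centralizer (g x : G) :
    (centralizer ({x} : Set G)).map (MulAut.conj g).toMonoidHom =
      centralizer ({g * x * g⁻¹} : Set G) := by
  ext c
  rw [LocalStructure.mem_map_conj, mem_centralizer_singleton_iff, mem_centralizer_singleton_iff]
  constructor <;> intro h
  · calc c * (g * x * g⁻¹) = g * (g⁻¹ * c * g * x) * g⁻¹ := by group
      _ = g * (x * (g⁻¹ * c * g)) * g⁻¹ := by rw [h]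
      _ = _ := by group
  · calc g⁻¹ * c * g * x = g⁻¹ * (c * (g * x * g⁻¹)) * g := by group
      _ = g⁻¹ * (g * x * g⁻¹ * c) * g := by rw [h]
      _ = _ := by group

/-- A `p`-element has a conjugate in `P` at which `C_P` has the `p`-part of its centralizer. -/
theorem exists_conj [Finite G] [Fact p.Prime] (P : Sylow p G) (x : G)
    (hx : ∃ k : ℕ, orderOf x = p ^ k) :
    ∃ g : G, g * x * g⁻¹ ∈ (P : Subgroup G) ∧
      Nat.card (centralizer ({g * x * g⁻¹} : Set G) ⊓ (P : Subgroup G) : Subgroup G) =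
        p ^ (Nat.card (centralizer ({x} : Set G))).factorization p := by
  obtain ⟨k, hk⟩ := hx
  set C := centralizer ({x} : Set G)
  have hxC : zpowers x ≤ C := zpowers_le.2 (mem_centralizer_singleton_iff.2 rfl)
  obtain ⟨R, hxR, hR⟩ := LocalStructure.exists_isSylowIn_le
    (IsPGroup.of_card (by rw [Nat.card_zpowers, hk]) : IsPGroup p (zpowers x)) hxC
  obtain ⟨S, hS⟩ := (hR.2.1 : IsPGroup p R).exists_le_sylow
  obtain ⟨g, hg⟩ := MulAction.exists_smul_eq G S P
  have hSP : (S : Subgroup G).map (MulAut.conj g).toMonoidHom = P := by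
    rw [← hg, Sylow.coe_subgroup_smul]; rfl
  refine ⟨g, ?_, ?_⟩
  · rw [← hSP]
    exact mem_map_of_mem _ (hS (hxR (mem_zpowers x)))
  · have hCS : C ⊓ (S : Subgroup G) = R :=
      hR.2.2 _ (le_inf hR.1 hS) inf_le_left (S.2.to_le inf_le_right)
    rw [← conj_centralizer, ← hSP, ← map_inf _ _ _ (MulAut.conj g).injective,
      LocalStructure.card_map_conj, hCS]
    obtain ⟨T, hT⟩ := hR.exists_map_eq
    rw [← hT, card_map_of_injective C.subtype_injective, T.card_eq_multiplicity]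

/-- `⁅P, P⁆` is inside `I` when `P = Q⟨z⟩` and the generators commute modulo `I`. -/
theorem commutator_le_of {P Q I : Subgroup G} {z : G} (hQ : Q ≤ P) (hz : z ∈ P)
    (hgen : P ≤ Q ⊔ zpowers z) (hn : P ≤ normalizer (I : Set G))
    (hQQ : ∀ a ∈ Q, ∀ b ∈ Q, ⁅a, b⁆ ∈ I) (hQz : ∀ a ∈ Q, ⁅a, z⁆ ∈ I) : ⁅P, P⁆ ≤ I := by
  let J : Subgroup P := I.subgroupOf P
  haveI hJ : J.Normal := ⟨fun a ha b => by
    rw [mem_subgroupOf] at ha ⊢
    exact (mem_normalizer_iff.1 (hn b.2) _).1 ha⟩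
  let π := QuotientGroup.mk' J
  have hc : ∀ a b : P, ⁅(a : G), (b : G)⁆ ∈ I → Commute (π a) (π b) := fun a b hab => by
    have : π ⁅a, b⁆ = 1 := (QuotientGroup.eq_one_iff _).2 (mem_subgroupOf.2 hab)
    rwa [map_commutatorElement, commutatorElement_eq_one_iff_commute] at this
  have htop : ∀ s : P, (∀ a : P, (a : G) ∈ Q → Commute (π a) (π s)) → Commute (π ⟨z, hz⟩) (π s) →
      ∀ b : P, Commute (π b) (π s) := fun s h1 h2 b => by
    let K := (centralizer ({π s} : Set (P ⧸ J))).comap π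
    have hle : Q.subgroupOf P ⊔ zpowers (⟨z, hz⟩ : P) ≤ K := sup_le
      (fun a ha => mem_centralizer_singleton_iff.2 (h1 a ha).eq)
      (zpowers_le.2 (mem_centralizer_singleton_iff.2 h2.eq))
    have hbK : b ∈ Q.subgroupOf P ⊔ zpowers (⟨z, hz⟩ : P) := by
      have h3 : (b : G) ∈ (Q.subgroupOf P ⊔ zpowers (⟨z, hz⟩ : P)).map P.subtype := by
        rw [Subgroup.map_sup, MonoidHom.map_zpowers, map_subgroupOf_eq_of_le hQ]
        exact hgen b.2
      obtain ⟨b', hb', hbb⟩ := h3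
      rwa [← (Subtype.ext hbb : b' = b)]
    exact mem_centralizer_singleton_iff.1 (hle hbK)
  have hz' : ∀ b : P, Commute (π b) (π ⟨z, hz⟩) := fun b =>
    htop _ (fun a ha => hc a _ (hQz a ha)) rfl b
  have hall : ∀ a b : P, Commute (π a) (π b) := fun a b =>
    htop b (fun c hcQ => (htop c (fun d hd => hc d c (hQQ d hd c hcQ)) (hz' c).symm b).symm)
      (hz' b).symm a
  rw [Subgroup.commutator_le]
  intro a ha b hb
  have : π ⁅(⟨a, ha⟩ : P), ⟨b, hb⟩⁆ = 1 := by
    rw [map_commutatorElement, commutatorElement_eq_one_iff_commute]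
    exact hall _ _
  exact mem_subgroupOf.1 ((QuotientGroup.eq_one_iff _).1 this)

theorem gen_of_index [Finite G] [Fact p.Prime] {P Q : Subgroup G} {z : G} (hQ : Q ≤ P) (hz : z ∈ P)
    (hzQ : z ∉ Q) (hidx : Q.relIndex P = p) : P ≤ Q ⊔ zpowers z := by
  have h := relIndex_mul_relIndex Q (Q ⊔ zpowers z) P le_sup_left (sup_le hQ (zpowers_le.2 hz))
  rw [hidx] at h
  rcases (Fact.out : p.Prime).eq_one_or_self_of_dvd _ ⟨_, h.symm⟩ with h1 | h1
  · rw [relIndex_eq_one] at h1
    exact absurd (h1 (mem_sup_right (mem_zpowers z))) hzQ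
  · rw [h1] at h
    exact relIndex_eq_one.1 ((mul_eq_left₀ (Fact.out : p.Prime).ne_zero).1 h)

/-- An abelian normal subgroup of index `p` inside a `p`-group `P` with `[P : P'] = p²`: the
centralisers outside it have order at most `p²`. -/
theorem card_centralizer_le [Finite G] [Fact p.Prime] {P Q : Subgroup G} {z : G} (hQP : Q ≤ P)
    (hn : P ≤ normalizer (Q : Set G)) (hidx : Q.relIndex P = p)
    (hD : (⁅P, P⁆ : Subgroup G).relIndex P = p ^ 2) (hab : ∀ a ∈ Q, ∀ b ∈ Q, a * b = b * a)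
    (hz : z ∈ P) (hzQ : z ∉ Q) :
    Nat.card (centralizer ({z} : Set G) ⊓ P : Subgroup G) ≤ p ^ 2 := by
  have hgen := gen_of_index hQP hz hzQ hidx
  have hp : 0 < p := (Fact.out : p.Prime).pos
  have hmem : ∀ a ∈ Q, ⁅a, z⁆ ∈ Q := fun a ha => by
    rw [commutatorElement_def, mul_assoc, mul_assoc]
    exact mul_mem ha (by rw [← mul_assoc]; exact (mem_normalizer_iff.1 (hn hz) _).1 (inv_mem ha))
  let φ : Q →* G := MonoidHom.mk' (fun a => ⁅(a : G), z⁆) fun a b => by
    calc ⁅(a : G) * b, z⁆ = (a : G) * ⁅(b : G), z⁆ * (a : G)⁻¹ * ⁅(a : G), z⁆ := by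
          simp [commutatorElement_def, mul_assoc]
      _ = _ := by
          rw [hab a a.2 _ (hmem b b.2), mul_inv_cancel_right, hab _ (hmem b b.2) _ (hmem a a.2)]
  have hφQ : φ.range ≤ Q := by rintro _ ⟨a, rfl⟩; exact hmem a a.2
  have hnI : P ≤ normalizer (φ.range : Set G) := by
    refine hgen.trans (sup_le (fun a ha => ?_) (zpowers_le.2 ?_))
    · refine centralizer_le_normalizer _ (mem_centralizer_iff.2 fun b hb => ?_)
      exact hab b (hφQ hb) a ha
    · refine LocalStructure.mem_normalizer_of_map_conj_le ?_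
      rintro _ ⟨_, ⟨a, rfl⟩, rfl⟩
      refine ⟨⟨z * a * z⁻¹, (mem_normalizer_iff.1 (hn hz) _).1 a.2⟩, ?_⟩
      simp [φ, commutatorElement_def, mul_assoc]
  have hDI : (⁅P, P⁆ : Subgroup G) ≤ φ.range := commutator_le_of hQP hz hgen hnI
    (fun a ha b hb => by
      rw [commutatorElement_eq_one_iff_mul_comm.2 (hab a ha b hb)]; exact one_mem _)
    (fun a ha => ⟨⟨a, ha⟩, rfl⟩)
  -- counting
  have h1 : Nat.card φ.ker * Nat.card φ.range = Nat.card Q := by
    rw [← Subgroup.card_mul_index φ.ker, Subgroup.index_ker]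
  have h2 : (⁅P, P⁆ : Subgroup G).relIndex Q * p = p * p := by
    conv_lhs => rw [← hidx]
    rw [relIndex_mul_relIndex _ _ _ (hDI.trans hφQ) hQP, hD, sq]
  have h3 : Nat.card Q = Nat.card (⁅P, P⁆ : Subgroup G) * p := by
    have := relIndex_mul_relIndex ⊥ ⁅P, P⁆ Q bot_le (hDI.trans hφQ)
    rw [relIndex_bot_left, relIndex_bot_left, Nat.eq_of_mul_eq_mul_right hp h2] at this
    exact this.symm
  have h4 : Nat.card φ.ker ≤ p := by
    have h5 := card_le_of_le hDI
    have h6 : 0 < Nat.card (⁅P, P⁆ : Subgroup G) := Nat.card_pos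
    by_contra hlt
    rw [not_le] at hlt
    nlinarith
  -- `C_P(z)`
  set C := centralizer ({z} : Set G) ⊓ P
  have h7 : (Q.relIndex C) ≤ p := by
    calc Q.relIndex C ≤ Q.relIndex P := by
          refine Subgroup.relIndex_le_of_le_right inf_le_right ?_
          rw [hidx]; exact hp.ne'
      _ = p := hidx
  have h8 : Nat.card (C ⊓ Q : Subgroup G) ≤ Nat.card φ.ker := by
    refine Nat.card_le_card_of_injective (fun a => (⟨⟨a.1, a.2.2⟩, ?_⟩ : φ.ker)) fun a b h => Subtype.ext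
      (congrArg (fun u : φ.ker => ((u : Q) : G)) h)
    show ⁅(a : G), z⁆ = 1
    exact commutatorElement_eq_one_iff_mul_comm.2 (mem_centralizer_singleton_iff.1 a.2.1.1)
  have h9 := relIndex_mul_relIndex ⊥ (C ⊓ Q) C bot_le inf_le_left
  rw [relIndex_bot_left, relIndex_bot_left, inf_relIndex_left] at h9
  rw [← h9, sq]
  exact Nat.mul_le_mul (h8.trans h4) h7

theorem exists_of_abelian_index [Finite G] [Fact p.Prime] (P : Sylow p G) (N : Subgroup G) [N.Normal]
    (hD : (⁅(P : Subgroup G), (P : Subgroup G)⁆).relIndex (P : Subgroup G) = p ^ 2)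
    (hbig : p ^ 2 ∣ Nat.card G)
    (hidx : ((P : Subgroup G) ⊓ N).relIndex (P : Subgroup G) = p)
    (hab : ∀ a ∈ (P : Subgroup G) ⊓ N, ∀ b ∈ (P : Subgroup G) ⊓ N, a * b = b * a) :
    ∃ x : G, (∃ k : ℕ, orderOf x = p ^ k) ∧
      (Nat.card (centralizer ({x} : Set G))).factorization p = 2 := by
  have hp : p.Prime := Fact.out
  obtain ⟨y, hyP, hyN⟩ : ∃ y ∈ (P : Subgroup G), y ∉ N := by
    by_contra hno
    push Not at hno
    rw [relIndex_eq_one.2 (le_inf le_rfl hno)] at hidx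
    exact hp.ne_one hidx.symm
  obtain ⟨k, hk⟩ := IsPGroup.iff_orderOf.1 P.2 ⟨y, hyP⟩
  rw [Subgroup.orderOf_mk] at hk
  refine ⟨y, ⟨k, hk⟩, ?_⟩
  obtain ⟨g, hgP, hg⟩ := exists_conj P y ⟨k, hk⟩
  set z := g * y * g⁻¹
  have hzQ : z ∉ (P : Subgroup G) ⊓ N := fun h => hyN (by
    have := Normal.conj_mem (inferInstance : N.Normal) _ h.2 g⁻¹
    simpa [z, mul_assoc] using this)
  have hn : (P : Subgroup G) ≤ normalizer (((P : Subgroup G) ⊓ N : Subgroup G) : Set G) :=
    LocalStructure.le_normalizer_inf le_normalizer (by rw [normalizer_eq_top]; exact le_top)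
  have hle := card_centralizer_le inf_le_left hn hidx hD hab hgP hzQ
  set C := centralizer ({z} : Set G) ⊓ (P : Subgroup G)
  rw [hg] at hle
  have hf : (Nat.card (centralizer ({y} : Set G))).factorization p ≤ 2 :=
    (Nat.pow_le_pow_iff_right hp.one_lt).1 hle
  by_contra hne
  have hlt : Nat.card C ≤ p := by
    rw [hg]
    calc p ^ (Nat.card (centralizer ({y} : Set G))).factorization p ≤ p ^ 1 :=
          Nat.pow_le_pow_right hp.pos (by omega)
      _ = p := pow_one p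
  have hz1 : z ≠ 1 := fun h => hzQ (h ▸ one_mem _)
  have hzC : zpowers z ≤ C := zpowers_le.2 ⟨mem_centralizer_singleton_iff.2 rfl, hgP⟩
  obtain ⟨j, hj⟩ := IsPGroup.iff_orderOf.1 P.2 ⟨z, hgP⟩
  rw [Subgroup.orderOf_mk] at hj
  have hpz : p ≤ Nat.card (zpowers z) := by
    rw [Nat.card_zpowers, hj]
    refine Nat.le_self_pow (fun h0 => hz1 ?_) p
    rw [h0, pow_zero] at hj
    exact orderOf_eq_one_iff.1 hj
  have hCz : zpowers z = C := Subgroup.eq_of_le_of_card_ge hzC (hlt.trans hpz)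
  -- the centre of `P`
  haveI : Nontrivial (P : Subgroup G) := ⟨⟨⟨z, hgP⟩, 1, fun h => hz1 (congrArg Subtype.val h)⟩⟩
  haveI := P.2.center_nontrivial
  obtain ⟨w, hw⟩ := exists_ne (1 : Subgroup.center (P : Subgroup G))
  have hwC : ((w : (P : Subgroup G)) : G) ∈ C :=
    ⟨mem_centralizer_singleton_iff.2 (congrArg Subtype.val (mem_center_iff.1 w.2 ⟨z, hgP⟩)).symm,
      (w : (P : Subgroup G)).2⟩
  have hwz : zpowers ((w : (P : Subgroup G)) : G) = C := by
    have hle' : zpowers ((w : (P : Subgroup G)) : G) ≤ C := zpowers_le.2 hwC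
    refine Subgroup.eq_of_le_of_card_ge hle' (hlt.trans ?_)
    obtain ⟨i, hi⟩ := IsPGroup.iff_orderOf.1 P.2 (w : (P : Subgroup G))
    rw [Nat.card_zpowers, Subgroup.orderOf_coe, hi]
    refine Nat.le_self_pow (fun h0 => hw ?_) p
    rw [h0, pow_zero] at hi
    exact Subtype.ext (orderOf_eq_one_iff.1 hi)
  have hall : (P : Subgroup G) ≤ C := fun a ha => by
    refine ⟨mem_centralizer_singleton_iff.2 ?_, ha⟩
    have hzw : z ∈ zpowers ((w : (P : Subgroup G)) : G) :=
      hwz ▸ hzC (mem_zpowers z)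
    obtain ⟨i, hi⟩ := hzw
    rw [← hi]
    have hcw : Commute a ((w : (P : Subgroup G)) : G) :=
      congrArg Subtype.val (mem_center_iff.1 w.2 ⟨a, ha⟩)
    exact (hcw.zpow_right i).eq
  have hPbig : p ^ 2 ∣ Nat.card (P : Subgroup G) := by
    rw [P.card_eq_multiplicity]
    exact pow_dvd_pow p ((hp.pow_dvd_iff_le_factorization Nat.card_pos.ne').1 hbig)
  have h1 := (Nat.le_of_dvd Nat.card_pos hPbig).trans ((card_le_of_le hall).trans hlt)
  nlinarith [hp.two_le]

/-- A normal subgroup of a `p`-group `P` with `[P : P'] = p²` is inside `P'`, all of `P`, or of index `p`. -/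
theorem normal_trichotomy [Finite G] [Fact p.Prime] {P Q : Subgroup G} (hP : IsPGroup p P)
    (hQP : Q ≤ P) (hn : P ≤ normalizer (Q : Set G))
    (hD : (⁅P, P⁆ : Subgroup G).relIndex P = p ^ 2) (hQD : ¬ Q ≤ ⁅P, P⁆) :
    Q = P ∨ (⁅P, P⁆ ≤ Q ∧ Q.relIndex P = p) := by
  have hp : p.Prime := Fact.out
  set Q' := Q.subgroupOf P
  haveI : Q'.Normal := normal_subgroupOf_of_le_normalizer hn
  set D' := commutator P with hD'
  have hDi : D'.index = p ^ 2 := by rw [hD', ← subgroupOf_commutator]; exact hD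
  have hlt : (Q' ⊔ D').index < p ^ 2 := by
    have hne : D' ≠ Q' ⊔ D' := fun h => hQD fun x hx => by
      have h1 : (⟨x, hQP hx⟩ : P) ∈ D' := h ▸ mem_sup_left hx
      rw [hD', ← subgroupOf_commutator] at h1
      exact h1
    exact hDi ▸ Subgroup.index_strictAnti (lt_of_le_of_ne le_sup_right hne)
  by_cases htop : Q' = ⊤
  · exact Or.inl (le_antisymm hQP (subgroupOf_eq_top.1 htop))
  right
  have hquot : IsPGroup p (P ⧸ Q') := hP.to_quotient Q'
  have hci : (commutator (P ⧸ Q')).index ≤ p := by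
    rw [← Subgroup.index_comap_of_surjective _ (QuotientGroup.mk'_surjective Q'),
      _root_.commutator_def, ← map_top_of_surjective _ (QuotientGroup.mk'_surjective Q'),
      ← map_commutator, comap_map_eq, QuotientGroup.ker_mk', sup_comm]
    obtain ⟨i, hi⟩ := PGroup.index_eq_pow hP (Q' ⊔ D')
    rw [hi] at hlt
    show (Q' ⊔ D').index ≤ p
    rw [hi]
    calc p ^ i ≤ p ^ 1 := Nat.pow_le_pow_right hp.pos (by
            have := (Nat.pow_lt_pow_iff_right hp.one_lt).1 hlt; omega)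
      _ = p := pow_one p
  haveI := PGroup.isCyclic_of_index_commutator_le hquot hci
  haveI := (inferInstance : IsCyclic (P ⧸ Q')).isMulCommutative
  have hDQ : D' ≤ Q' := by
    intro a ha
    rw [← QuotientGroup.eq_one_iff]
    have : QuotientGroup.mk' Q' a ∈ commutator (P ⧸ Q') := by
      rw [_root_.commutator_def, ← map_top_of_surjective _ (QuotientGroup.mk'_surjective Q'),
        ← map_commutator]
      exact mem_map_of_mem _ ha
    rwa [commutator_eq_bot, mem_bot] at this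
  refine ⟨fun x hx => ?_, ?_⟩
  · have hxP : x ∈ P := commutator_le_self P hx
    have h1 : (⟨x, hxP⟩ : P) ∈ D' := by rw [hD', ← subgroupOf_commutator]; exact hx
    exact hDQ h1
  · show Q'.index = p
    rw [sup_eq_left.2 hDQ] at hlt
    obtain ⟨i, hi⟩ := PGroup.index_eq_pow hP Q'
    rw [hi] at hlt ⊢
    have h1 := (Nat.pow_lt_pow_iff_right hp.one_lt).1 hlt
    have h0 : i ≠ 0 := fun h0 => htop (index_eq_one.1 (by rw [hi, h0, pow_zero]))
    rw [show i = 1 by omega, pow_one]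

theorem card_eq_of_ab [Finite G] [Fact p.Prime] {R : Subgroup G} (hR : IsPGroup p R) (hne : R ≠ ⊥)
    (h : Nat.card (Abelianization R) ≤ p) : Nat.card R = p := by
  rw [card_ab] at h
  haveI := PGroup.isCyclic_of_index_commutator_le hR h
  haveI := (inferInstance : IsCyclic R).isMulCommutative
  rw [commutator_eq_bot, index_bot] at h
  obtain ⟨i, hi⟩ := hR.exists_card_eq
  have h1 : 1 < Nat.card R := (one_lt_card_iff_ne_bot R).2 hne
  have h2 : i ≠ 0 := fun h0 => by rw [h0, pow_zero] at hi; omega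
  exact le_antisymm h (hi ▸ Nat.le_self_pow h2 p)

/-- The factor case: `k ≥ 2` simple factors. -/
theorem abelian_inf_of_factors [Finite G] [Fact p.Prime] (P : Sylow p G) {N : Subgroup G} [N.Normal]
    {𝒯 : Set (Subgroup G)} (hF : Socle.IsFactors N 𝒯) {T₀ S₀ : Subgroup G} (hT₀ : T₀ ∈ 𝒯)
    (hS₀ : S₀ ∈ 𝒯) (hne : T₀ ≠ S₀)
    (hD : (⁅(P : Subgroup G), (P : Subgroup G)⁆).relIndex (P : Subgroup G) = p ^ 2)
    (hQ : (P : Subgroup G) ⊓ N = P ∨
      (⁅(P : Subgroup G), (P : Subgroup G)⁆ ≤ (P : Subgroup G) ⊓ N ∧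
        ((P : Subgroup G) ⊓ N).relIndex (P : Subgroup G) = p))
    (hQne : (P : Subgroup G) ⊓ N ≠ ⊥) :
    ∀ a ∈ (P : Subgroup G) ⊓ N, ∀ b ∈ (P : Subgroup G) ⊓ N, a * b = b * a := by
  classical
  have hp : p.Prime := Fact.out
  set Pg : Subgroup G := (P : Subgroup G)
  set Q := Pg ⊓ N with hQdef
  have hNT : ∀ T ∈ 𝒯, N ≤ normalizer (T : Set G) := fun T hT n hn =>
    LocalStructure.mem_normalizer_of_map_conj (hF.conjSub_eq_of_mem hT hn)
  have hQsyl : LocalStructure.IsSylowIn p Q N :=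
    (LocalStructure.isSylowIn_of_sylow P le_top).inf_normal le_top
      (by rw [normalizer_eq_top (H := N)])
  have hRsyl : ∀ T ∈ 𝒯, LocalStructure.IsSylowIn p (Q ⊓ T) T := fun T hT =>
    hQsyl.inf_normal (hF.le T hT) (hNT T hT)
  have hcoord : ∀ T (hT : T ∈ 𝒯) (n : N), (n : G) ∈ Pg → hF.coord hT n ∈ Q ⊓ T := by
    intro T hT n hn
    have hE : ((Pg.subgroupOf N).map (hF.coord hT)) = Q ⊓ T := by
      refine (hRsyl T hT).2.2 _ (fun r hr => ?_) ?_ ((P.2.comap_subtype).map _)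
      · exact ⟨⟨r, hF.le T hT hr.2⟩, hr.1.1, hF.coord_self hT hr.2⟩
      · rintro _ ⟨m, -, rfl⟩
        exact hF.coord_mem hT m
    rw [← hE]
    exact mem_map_of_mem _ hn
  have hcard : ∀ T ∈ 𝒯, Nat.card (Q ⊓ T : Subgroup G) = Nat.card (Q ⊓ T₀ : Subgroup G) := by
    intro T hT
    obtain ⟨g, rfl⟩ := hF.exists_conj T₀ hT₀ T hT
    have h' : LocalStructure.IsSylowIn p ((Q ⊓ T₀).map (MulAut.conj g).toMonoidHom) (Socle.conjSub g T₀) := by
      refine ⟨Subgroup.map_mono inf_le_right, LocalStructure.isPGroup_map_conj (hRsyl T₀ hT₀).2.1 g,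
        fun R' h1 h2 h3 => ?_⟩
      have h4 := (hRsyl T₀ hT₀).2.2 (R'.map (MulAut.conj g⁻¹).toMonoidHom)
        (fun r hr => by
          rw [LocalStructure.mem_map_conj, inv_inv]
          exact h1 (LocalStructure.conj_mem_map_conj hr))
        (fun r hr => by
          rw [LocalStructure.mem_map_conj, inv_inv] at hr
          have := Socle.mem_conjSub.1 (h2 hr)
          simpa [mul_assoc] using this)
        (LocalStructure.isPGroup_map_conj h3 _)
      rw [← h4, ← LocalStructure.map_conj_mul, mul_inv_cancel, LocalStructure.map_conj_one]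
    obtain ⟨l, -, hl⟩ := h'.exists_conj_eq (hRsyl _ hT)
    rw [← hl, LocalStructure.card_map_conj, LocalStructure.card_map_conj]
  have hbot : ∀ T ∈ 𝒯, Q ⊓ T ≠ ⊥ := by
    intro T hT h0
    apply hQne
    rw [eq_bot_iff]
    intro n hn
    have hall : ∀ S (hS : S ∈ 𝒯), hF.coord hS ⟨n, hn.2⟩ = hF.coord hS 1 := fun S hS => by
      have h1 : Q ⊓ S = ⊥ := by
        rw [← Subgroup.card_eq_one, hcard S hS, ← hcard T hT, h0, Subgroup.card_bot]
      have := hcoord S hS ⟨n, hn.2⟩ hn.1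
      rw [h1, mem_bot] at this
      rw [this, map_one]
    exact mem_bot.2 (congrArg Subtype.val (hF.coord_ext hall))
  suffices hT : ∀ T ∈ 𝒯, Nat.card (Q ⊓ T : Subgroup G) = p by
    intro a ha b hb
    have : (⟨a, ha.2⟩ * ⟨b, hb.2⟩ : N) = ⟨b, hb.2⟩ * ⟨a, ha.2⟩ := hF.coord_ext fun T hT' => by
      haveI := isCyclic_of_prime_card (hT T hT')
      haveI := (inferInstance : IsCyclic (Q ⊓ T : Subgroup G)).isMulCommutative
      rw [map_mul, map_mul]
      exact congrArg Subtype.val (mul_comm' (⟨_, hcoord T hT' ⟨a, ha.2⟩ ha.1⟩ : (Q ⊓ T : Subgroup G))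
        ⟨_, hcoord T hT' ⟨b, hb.2⟩ hb.1⟩)
    exact congrArg Subtype.val this
  suffices hex : ∃ T ∈ 𝒯, Nat.card (Abelianization (Q ⊓ T : Subgroup G)) ≤ p by
    obtain ⟨T, hT, hle⟩ := hex
    have := card_eq_of_ab (hRsyl T hT).2.1 (hbot T hT) hle
    intro S hS
    rw [hcard S hS, ← hcard T hT, this]
  rcases hQ with hQP | ⟨hDQ, hidx⟩
  · -- `P ≤ N`
    by_contra hno
    push Not at hno
    have hPN : ∀ a : Pg, (a : G) ∈ N := fun a => (hQP.ge a.2).2
    let c : ∀ T ∈ 𝒯, Pg →* (Q ⊓ T : Subgroup G) := fun T hT =>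
      MonoidHom.mk' (fun a => ⟨hF.coord hT ⟨a, hPN a⟩, hcoord T hT _ a.2⟩) fun a b => Subtype.ext
        (map_mul (hF.coord hT) ⟨a, hPN a⟩ ⟨b, hPN b⟩)
    let ψ : Pg →* Abelianization (Q ⊓ T₀ : Subgroup G) × Abelianization (Q ⊓ S₀ : Subgroup G) :=
      (Abelianization.of.comp (c T₀ hT₀)).prod (Abelianization.of.comp (c S₀ hS₀))
    have hsurj : Function.Surjective ψ := by
      rintro ⟨a, b⟩
      obtain ⟨a, rfl⟩ := QuotientGroup.mk_surjective a
      obtain ⟨b, rfl⟩ := QuotientGroup.mk_surjective b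
      refine ⟨⟨(a : G) * b, mul_mem a.2.1.1 b.2.1.1⟩, Prod.ext ?_ ?_⟩
      · refine congrArg Abelianization.of (Subtype.ext ?_)
        show hF.coord hT₀ (⟨a, a.2.1.2⟩ * ⟨b, b.2.1.2⟩) = (a : G)
        rw [map_mul, hF.coord_self hT₀ (n := ⟨(a : G), a.2.1.2⟩) a.2.2,
          hF.coord_of_ne hT₀ hS₀ hne (n := ⟨(b : G), b.2.1.2⟩) b.2.2, mul_one]
      · refine congrArg Abelianization.of (Subtype.ext ?_)
        show hF.coord hS₀ (⟨a, a.2.1.2⟩ * ⟨b, b.2.1.2⟩) = (b : G)
        rw [map_mul, hF.coord_self hS₀ (n := ⟨(b : G), b.2.1.2⟩) b.2.2,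
          hF.coord_of_ne hS₀ hT₀ hne.symm (n := ⟨(a : G), a.2.1.2⟩) a.2.2, one_mul]
    have hle : Nat.card (Abelianization (Q ⊓ T₀ : Subgroup G)) *
        Nat.card (Abelianization (Q ⊓ S₀ : Subgroup G)) ≤ p ^ 2 := by
      have h1 := Subgroup.index_dvd_of_le (Abelianization.commutator_subset_ker ψ)
      rw [Subgroup.index_ker, MonoidHom.range_eq_top.2 hsurj, Subgroup.card_top, Nat.card_prod,
        ← subgroupOf_commutator] at h1
      exact Nat.le_of_dvd (pow_pos hp.pos 2) (h1.trans (dvd_of_eq hD))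
    nlinarith [hno T₀ hT₀, hno S₀ hS₀]
  -- index `p`
  obtain ⟨y, hy, hyQ⟩ : ∃ y ∈ Pg, y ∉ Q := by
    by_contra hno
    push Not at hno
    rw [relIndex_eq_one.2 hno] at hidx
    exact hp.ne_one hidx.symm
  have hgen := gen_of_index (inf_le_left : Q ≤ Pg) hy hyQ hidx
  have hDrel : (⁅Pg, Pg⁆ : Subgroup G).relIndex Q = p := by
    have := relIndex_mul_relIndex _ _ _ hDQ (inf_le_left : Q ≤ Pg)
    rw [hidx, hD, sq] at this
    exact Nat.eq_of_mul_eq_mul_right hp.pos this
  have hQn : Pg ≤ normalizer (Q : Set G) :=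
    LocalStructure.le_normalizer_inf le_normalizer (by rw [normalizer_eq_top (H := N)]; exact le_top)
  have hcq : ∀ q : Q, y * q * y⁻¹ ∈ Q := fun q => (mem_normalizer_iff.1 (hQn hy) _).1 q.2
  by_cases hmove : ∀ T ∈ 𝒯, Socle.conjSub y T = T
  · -- all factors fixed: impossible
    exfalso
    have hPT : ∀ T ∈ 𝒯, Pg ≤ normalizer (T : Set G) := fun T hT =>
      hgen.trans (sup_le (inf_le_right.trans (hNT T hT))
        (zpowers_le.2 (LocalStructure.mem_normalizer_of_map_conj (hmove T hT))))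
    have hfix : ∀ T (hT : T ∈ 𝒯) (g : G) (hg : g ∈ Pg) (n : N),
        hF.coord hT ⟨g * n * g⁻¹, Normal.conj_mem inferInstance _ n.2 g⟩ = g * hF.coord hT n * g⁻¹ :=
      fun T hT g hg n => by
        rw [← hF.coord_conj hT g n]
        exact hF.coord_congr hT _ (Socle.conjSub_eq_self (hPT T hT hg)).symm _
    have key : ∀ T (hT : T ∈ 𝒯), ∃ I : Subgroup G, I = ⁅Pg, Pg⁆ ∧
        ∀ n : N, (n : G) ∈ Q → ((n : G) ∈ I ↔ hF.coord hT n ∈ ⁅Q ⊓ T, Pg⁆) := by
      intro T hT
      set R := Q ⊓ T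
      have hRP : Pg ≤ normalizer (R : Set G) := LocalStructure.le_normalizer_inf hQn (hPT T hT)
      have hCP : Pg ≤ normalizer ((⁅R, Pg⁆ : Subgroup G) : Set G) :=
        LocalStructure.le_normalizer_commutator hRP le_normalizer
      set I : Subgroup G := ((⁅R, Pg⁆ : Subgroup G).comap (hF.coord hT) ⊓ Pg.subgroupOf N).map N.subtype
      have hIQ : I ≤ Q := by rintro _ ⟨n, hn, rfl⟩; exact ⟨hn.2, n.2⟩
      have hmemI : ∀ n : N, (n : G) ∈ Pg → ((n : G) ∈ I ↔ hF.coord hT n ∈ ⁅R, Pg⁆) := fun n hn =>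
        ⟨fun ⟨m, hm, hmn⟩ => (Subtype.ext hmn : m = n) ▸ hm.1, fun h => ⟨n, ⟨h, hn⟩, rfl⟩⟩
      have hnI : Pg ≤ normalizer (I : Set G) := fun g hg => by
        refine LocalStructure.mem_normalizer_of_map_conj_le ?_
        rintro _ ⟨_, ⟨n, hn, rfl⟩, rfl⟩
        refine (hmemI ⟨g * n * g⁻¹, Normal.conj_mem inferInstance _ n.2 g⟩
          (mul_mem (mul_mem hg hn.2) (inv_mem hg))).2 ?_
        rw [hfix T hT g hg n]
        exact (mem_normalizer_iff.1 (hCP hg) _).1 hn.1
      have hDI : ⁅Pg, Pg⁆ ≤ I := by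
        refine commutator_le_of (inf_le_left : Q ≤ Pg) hy hgen hnI (fun a ha b hb => ?_) (fun a ha => ?_)
        · refine (hmemI ⁅(⟨a, ha.2⟩ : N), ⟨b, hb.2⟩⁆ ?_).2 ?_
          · exact mul_mem (mul_mem (mul_mem ha.1 hb.1) (inv_mem ha.1)) (inv_mem hb.1)
          · rw [map_commutatorElement]
            exact commutator_mem_commutator (hcoord T hT _ ha.1) (hcoord T hT _ hb.1).1.1
        · have hm : y * a⁻¹ * y⁻¹ ∈ N := Normal.conj_mem inferInstance _ (inv_mem ha.2) y
          have he : ⁅a, y⁆ = ((⟨a, ha.2⟩ * ⟨y * a⁻¹ * y⁻¹, hm⟩ : N) : G) := by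
            simp [commutatorElement_def, mul_assoc]
          rw [he]
          refine (hmemI _ (Pg.mul_mem ha.1 (Pg.mul_mem (Pg.mul_mem hy (Pg.inv_mem ha.1)) (Pg.inv_mem hy)))).2 ?_
          rw [map_mul]
          have h2 := hfix T hT y hy (⟨a, ha.2⟩⁻¹ : N)
          have h2' : hF.coord hT ⟨y * a⁻¹ * y⁻¹, hm⟩ = y * (hF.coord hT ⟨a, ha.2⟩)⁻¹ * y⁻¹ := by
            rw [← map_inv]; exact h2
          rw [h2', show hF.coord hT ⟨a, ha.2⟩ * (y * (hF.coord hT ⟨a, ha.2⟩)⁻¹ * y⁻¹) =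
            ⁅hF.coord hT ⟨a, ha.2⟩, y⁆ by simp [commutatorElement_def, mul_assoc]]
          exact commutator_mem_commutator (hcoord T hT _ ha.1) hy
      refine ⟨I, ?_, fun n hn => hmemI n hn.1⟩
      have hIne : I ≠ Q := by
        intro hI
        have hRbot := hbot T hT
        haveI : (R.subgroupOf Pg).Normal := normal_subgroupOf_of_le_normalizer hRP
        have hRle : R ≤ Pg := inf_le_left.trans inf_le_left
        have hlt := PGroup.commutator_top_lt (G := Pg) P.2 (R.subgroupOf Pg)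
          (fun h => hRbot (by
            show R = ⊥
            rw [← map_subgroupOf_eq_of_le hRle, h, Subgroup.map_bot]))
        refine hlt.not_ge fun r hr => ?_
        have hrI : (r : G) ∈ I := hI ▸ (hr : (r : G) ∈ R).1
        have h1 := (hmemI ⟨r, hF.le T hT hr.2⟩ r.2).1 hrI
        rw [hF.coord_self hT hr.2] at h1
        have h2 : (⁅R.subgroupOf Pg, (⊤ : Subgroup Pg)⁆).map Pg.subtype = ⁅R, Pg⁆ := by
          rw [map_commutator, map_subgroupOf_eq_of_le hRle, ← MonoidHom.range_eq_map, range_subtype]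
        rw [← h2] at h1
        obtain ⟨r', hr', hrr⟩ := h1
        rwa [← (Subtype.ext hrr : r' = r)]
      have h1 := relIndex_mul_relIndex _ _ _ hDI hIQ
      rw [hDrel] at h1
      rcases (hp.eq_one_or_self_of_dvd _ ⟨_, h1.symm⟩) with h2 | h2
      · exact le_antisymm (relIndex_eq_one.1 h2) hDI
      · rw [h2] at h1
        exact absurd (le_antisymm hIQ (relIndex_eq_one.1 ((mul_eq_left₀ hp.ne_zero).1 h1))) hIne
    obtain ⟨I, hI, hIT⟩ := key T₀ hT₀
    obtain ⟨I', hI', hIS⟩ := key S₀ hS₀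
    have hRbot := hbot T₀ hT₀
    have hRP : Pg ≤ normalizer ((Q ⊓ T₀ : Subgroup G) : Set G) :=
      LocalStructure.le_normalizer_inf hQn (hPT T₀ hT₀)
    haveI : ((Q ⊓ T₀).subgroupOf Pg).Normal := normal_subgroupOf_of_le_normalizer hRP
    have hRle : Q ⊓ T₀ ≤ Pg := inf_le_left.trans inf_le_left
    have hlt := PGroup.commutator_top_lt (G := Pg) P.2 ((Q ⊓ T₀).subgroupOf Pg)
      (fun h => hRbot (by rw [← map_subgroupOf_eq_of_le hRle, h, Subgroup.map_bot]))
    refine hlt.not_ge fun r hr => ?_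
    have hrT : (r : G) ∈ Q ⊓ T₀ := hr
    have hrS : (r : G) ∈ I' := (hIS ⟨r, hF.le T₀ hT₀ hrT.2⟩ hrT.1).2 (by
      rw [hF.coord_of_ne hS₀ hT₀ hne.symm hrT.2]; exact one_mem _)
    rw [hI', ← hI] at hrS
    have h1 := (hIT ⟨r, hF.le T₀ hT₀ hrT.2⟩ hrT.1).1 hrS
    rw [hF.coord_self hT₀ hrT.2] at h1
    have h2 : (⁅(Q ⊓ T₀).subgroupOf Pg, (⊤ : Subgroup Pg)⁆).map Pg.subtype = ⁅Q ⊓ T₀, Pg⁆ := by
      rw [map_commutator, map_subgroupOf_eq_of_le hRle, ← MonoidHom.range_eq_map, range_subtype]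
    rw [← h2] at h1
    obtain ⟨r', hr', hrr⟩ := h1
    rwa [← (Subtype.ext hrr : r' = r)]
  -- a moved factor
  push Not at hmove
  obtain ⟨T, hT, hTy⟩ := hmove
  refine ⟨T, hT, ?_⟩
  have hyp : y ^ p ∈ Q := by
    haveI : (Q.subgroupOf Pg).Normal := normal_subgroupOf_of_le_normalizer hQn
    have := Subgroup.pow_index_mem (Q.subgroupOf Pg) ⟨y, hy⟩
    rwa [show (Q.subgroupOf Pg).index = p from hidx] at this
  have hstab : ∀ i : ℕ, 0 < i → i < p → Socle.conjSub (y ^ i) T ≠ T := by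
    intro i hi hip he
    let K : Subgroup G :=
      { carrier := {g | Socle.conjSub g T = T}
        one_mem' := Socle.conjSub_one T
        mul_mem' := fun {a b} (ha : Socle.conjSub a T = T) (hb : Socle.conjSub b T = T) => by
          show Socle.conjSub (a * b) T = T
          rw [← Socle.conjSub_mul, hb, ha]
        inv_mem' := fun {a} (ha : Socle.conjSub a T = T) => by
          show Socle.conjSub a⁻¹ T = T
          conv_lhs => rw [← ha]
          rw [Socle.conjSub_mul, inv_mul_cancel, Socle.conjSub_one] }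
    have hco : Nat.Coprime p i := hp.coprime_iff_not_dvd.2 (Nat.not_dvd_of_pos_of_lt hi hip)
    have hgcd := Nat.gcd_eq_gcd_ab p i
    rw [hco.gcd_eq_one] at hgcd
    refine hTy ?_
    have hy1 : y = (y ^ p) ^ Nat.gcdA p i * (y ^ i) ^ Nat.gcdB p i := by
      rw [← zpow_natCast, ← zpow_natCast, ← zpow_mul, ← zpow_mul, ← zpow_add, ← hgcd]
      simp
    have hyK : y ∈ K := by
      rw [hy1]
      exact mul_mem (zpow_mem (hF.conjSub_eq_of_mem hT hyp.2) _) (zpow_mem he _)
    exact hyK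
  have hmemR : ∀ (i : ℕ) (n : N), (n : G) ∈ Pg →
      (y ^ i)⁻¹ * hF.coord (hF.conj_mem T hT (y ^ i)) n * y ^ i ∈ Q ⊓ T := by
    intro i n hn
    have h := hcoord _ (hF.conj_mem T hT (y ^ i)) n hn
    refine ⟨?_, Socle.mem_conjSub.1 h.2⟩
    have := (mem_normalizer_iff''.1 (hQn (pow_mem hy i)) _).1 h.1
    exact this
  let f : ℕ → Q →* (Q ⊓ T : Subgroup G) := fun i => MonoidHom.mk'
    (fun q => ⟨_, hmemR i ⟨q, q.2.2⟩ q.2.1⟩) fun q q' => Subtype.ext (by
      show (y ^ i)⁻¹ * hF.coord _ (⟨q, q.2.2⟩ * ⟨q', q'.2.2⟩) * y ^ i = _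
      rw [map_mul]
      simp [mul_assoc])
  let θ : Q →* Abelianization (Q ⊓ T : Subgroup G) :=
    ∏ i ∈ Finset.range p, Abelianization.of.comp (f i)
  have hθ : ∀ q, θ q = ∏ i ∈ Finset.range p, Abelianization.of (f i q) := fun q => by
    simp [θ, MonoidHom.finsetProd_apply]
  have hθy : ∀ q : Q, θ ⟨y * q * y⁻¹, hcq q⟩ = θ q := by
    intro q
    have hstep : ∀ (i : ℕ) (hS : Socle.conjSub (y ^ i) T ∈ 𝒯)
        (hS' : Socle.conjSub (y ^ (i + 1)) T ∈ 𝒯),
        hF.coord hS' ⟨y * q * y⁻¹, (hcq q).2⟩ = y * hF.coord hS ⟨q, q.2.2⟩ * y⁻¹ := by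
      intro i hS hS'
      rw [← hF.coord_conj hS y ⟨q, q.2.2⟩]
      exact hF.coord_congr hS' _ (by rw [Socle.conjSub_mul, pow_succ']) _
    obtain ⟨m, hm⟩ : ∃ m, p = m + 1 := ⟨p - 1, by have := hp.pos; omega⟩
    rw [hθ, hθ]
    conv_lhs => rw [hm, Finset.prod_range_succ']
    conv_rhs => rw [hm, Finset.prod_range_succ]
    congr 1
    · refine Finset.prod_congr rfl fun i _ => congrArg Abelianization.of (Subtype.ext ?_)
      show (y ^ (i + 1))⁻¹ * hF.coord _ ⟨y * q * y⁻¹, (hcq q).2⟩ * y ^ (i + 1) = _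
      rw [hstep i (hF.conj_mem T hT _)]
      show _ = (y ^ i)⁻¹ * hF.coord _ ⟨q, q.2.2⟩ * y ^ i
      rw [pow_succ']
      group
    · -- wrap around
      set r := f m q with hr
      set c : (Q ⊓ T : Subgroup G) := ⟨_, hcoord T hT ⟨y ^ p, hyp.2⟩ hyp.1⟩
      rw [show f 0 ⟨y * q * y⁻¹, hcq q⟩ = c * r * c⁻¹ by
        refine Subtype.ext ?_
        show (y ^ 0)⁻¹ * hF.coord (hF.conj_mem T hT (y ^ 0)) ⟨y * q * y⁻¹, (hcq q).2⟩ * y ^ 0 =
          (c : G) * r * (c : G)⁻¹
        have e0 : Socle.conjSub (y ^ 0) T = Socle.conjSub (y ^ (m + 1)) T := by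
          rw [pow_zero, Socle.conjSub_one, ← hm, hF.conjSub_eq_of_mem hT hyp.2]
        rw [hF.coord_congr (hF.conj_mem T hT (y ^ 0)) (hF.conj_mem T hT (y ^ (m + 1))) e0,
          hstep m (hF.conj_mem T hT _)]
        have hc1 : ∀ v ∈ T, y ^ p * v * (y ^ p)⁻¹ = (c : G) * v * (c : G)⁻¹ := fun v hv => by
          have h := mem_centralizer_iff.1 (hF.coord_spec hT ⟨y ^ p, hyp.2⟩) v hv
          calc y ^ p * v * (y ^ p)⁻¹
              = (c : G) * (((c : G)⁻¹ * y ^ p) * v) * (y ^ p)⁻¹ := by group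
            _ = (c : G) * (v * ((c : G)⁻¹ * y ^ p)) * (y ^ p)⁻¹ := by rw [← h]
            _ = _ := by group
        rw [← hc1 r r.2.2]
        show _ = y ^ p * ((y ^ m)⁻¹ * hF.coord _ ⟨q, q.2.2⟩ * y ^ m) * (y ^ p)⁻¹
        rw [hm, pow_zero, inv_one, one_mul, mul_one, pow_succ']
        group]
      rw [map_mul, map_mul, map_inv, mul_comm (Abelianization.of c), mul_inv_cancel_right]
  have hsurj : Function.Surjective θ := fun a => by
    obtain ⟨r, rfl⟩ := QuotientGroup.mk_surjective a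
    refine ⟨⟨r, r.2.1⟩, ?_⟩
    rw [hθ, Finset.prod_eq_single 0]
    · refine congrArg Abelianization.of (Subtype.ext ?_)
      show (y ^ 0)⁻¹ * hF.coord _ ⟨r, r.2.1.2⟩ * y ^ 0 = (r : G)
      rw [hF.coord_self _ (by rw [pow_zero, Socle.conjSub_one]; exact r.2.2), pow_zero, inv_one,
        one_mul, mul_one]
    · intro i hi hi0
      have h1 : f i ⟨r, r.2.1⟩ = 1 := Subtype.ext (by
        show (y ^ i)⁻¹ * hF.coord _ ⟨r, r.2.1.2⟩ * y ^ i = 1
        rw [hF.coord_of_ne _ hT (hstab i (Nat.pos_of_ne_zero hi0) (Finset.mem_range.1 hi)) r.2.2]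
        group)
      rw [h1, map_one]
    · exact fun h => absurd (Finset.mem_range.2 hp.pos) h
  set I := θ.ker.map Q.subtype
  have hmemI : ∀ q : Q, (q : G) ∈ I ↔ θ q = 1 := fun q =>
    ⟨fun ⟨m, hm, hmq⟩ => (Subtype.ext hmq : m = q) ▸ hm, fun h => ⟨q, h, rfl⟩⟩
  have hnI : Pg ≤ normalizer (I : Set G) := by
    refine hgen.trans (sup_le (fun a ha => ?_) (zpowers_le.2 ?_))
    · refine LocalStructure.mem_normalizer_of_map_conj_le ?_
      rintro _ ⟨_, ⟨q, hq, rfl⟩, rfl⟩
      refine (hmemI (⟨a, ha⟩ * q * ⟨a, ha⟩⁻¹)).2 ?_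
      rw [map_mul, map_mul, MonoidHom.mem_ker.1 hq, map_inv, mul_one, mul_inv_cancel]
    · refine LocalStructure.mem_normalizer_of_map_conj_le ?_
      rintro _ ⟨_, ⟨q, hq, rfl⟩, rfl⟩
      exact (hmemI ⟨_, hcq q⟩).2 ((hθy q).trans hq)
  have hDI : ⁅Pg, Pg⁆ ≤ I := by
    refine commutator_le_of (inf_le_left : Q ≤ Pg) hy hgen hnI (fun a ha b hb => ?_) (fun a ha => ?_)
    · refine (hmemI ⁅(⟨a, ha⟩ : Q), ⟨b, hb⟩⁆).2 ?_
      rw [map_commutatorElement, commutatorElement_eq_one_iff_mul_comm, mul_comm]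
    · have he : ⁅a, y⁆ = ((⟨a, ha⟩ * ⟨_, hcq (⟨a, ha⟩⁻¹)⟩ : Q) : G) := by
        simp [commutatorElement_def, mul_assoc]
      rw [he]
      refine (hmemI _).2 ?_
      rw [map_mul, hθy, map_inv, mul_inv_cancel]
  have h1 : θ.ker.index ∣ p := by
    rw [← hDrel]
    refine Subgroup.index_dvd_of_le fun q hq => ?_
    exact (hmemI q).1 (hDI hq)
  rw [Subgroup.index_ker, MonoidHom.range_eq_top.2 hsurj, Subgroup.card_top] at h1
  exact Nat.le_of_dvd hp.pos h1

theorem tate_notLe [Finite G] [Fact p.Prime] (P : Sylow p G) {N : Subgroup G} [N.Normal]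
    (hne : N ≠ ⊥) (hmin : ∀ K : Subgroup G, K.Normal → K ≤ N → K = ⊥ ∨ K = N)
    (hnc : ¬ IsMulCommutative N) (hcore : Cfsg.pPrimeCore p G = ⊥)
    (hfr : (⁅(P : Subgroup G), (P : Subgroup G)⁆) ≤
      (frattini (P : Subgroup G)).map (P : Subgroup G).subtype) :
    ¬ (P : Subgroup G) ⊓ N ≤ ⁅(P : Subgroup G), (P : Subgroup G)⁆ := by
  intro h
  have hc := Transfer.hasNormalPComplement_normal_of_le_frattini P N
    ((inf_comm N (P : Subgroup G)).le.trans (h.trans hfr))
  rw [Transfer.hasNormalPComplement_iff] at hc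
  haveI := Transfer.pResidual_characteristic (G := N) p
  set K := (Cfsg.pResidual p N).map N.subtype
  haveI : K.Normal := ConjAct.normal_of_characteristic_of_normal
  have hK : K = ⊥ := le_bot_iff.1 (hcore ▸ PCore.le_pPrimeCore (by
    rw [card_map_of_injective N.subtype_injective]
    exact ((Fact.out : p.Prime).coprime_iff_not_dvd.2 hc).symm))
  have hres : Cfsg.pResidual p N = ⊥ :=
    (Subgroup.map_eq_bot_iff_of_injective _ N.subtype_injective).1 hK
  have hNp : IsPGroup p N := by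
    refine LocalStructure.isPGroup_of_forall_coprime fun x hx hco => ?_
    have h1 : (⟨x, hx⟩ : N) ∈ Cfsg.pResidual p N :=
      Transfer.mem_residual_of_coprime (by rwa [Subgroup.orderOf_mk])
    rw [hres, mem_bot] at h1
    exact congrArg Subtype.val h1
  haveI := hNp.isNilpotent
  exact hnc (Solvable.isMulCommutative_of_minimal inferInstance hne hmin)

theorem forward [Finite G] [Fact p.Prime] (P : Sylow p G) (hbig : p ^ 2 ∣ Nat.card G)
    (hcore : Cfsg.pPrimeCore p G = ⊥)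
    (hcore' : (⁅(P : Subgroup G), (P : Subgroup G)⁆).normalCore = ⊥)
    (hnas : ¬ ∃ S : Subgroup G, S.Normal ∧ IsSimpleGroup S ∧ ¬ IsMulCommutative S ∧
      centralizer (S : Set G) = ⊥)
    (hD : (⁅(P : Subgroup G), (P : Subgroup G)⁆).relIndex (P : Subgroup G) = p ^ 2) :
    ∃ x : G, (∃ k : ℕ, orderOf x = p ^ k) ∧
      (Nat.card (centralizer ({x} : Set G))).factorization p = 2 := by
  classical
  have hp : p.Prime := Fact.out
  by_cases hab : IsMulCommutative (P : Subgroup G)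
  · refine ⟨1, ⟨0, by simp⟩, ?_⟩
    rw [show (⁅(P : Subgroup G), (P : Subgroup G)⁆) = ⊥ from
      commutator_self_eq_bot_iff.2 hab, relIndex_bot_left, P.card_eq_multiplicity] at hD
    have : centralizer ({(1 : G)} : Set G) = ⊤ := by
      ext c; simp [mem_centralizer_singleton_iff]
    rw [this, Subgroup.card_top]
    exact Nat.pow_right_injective hp.two_le hD
  have hPD : ⁅(P : Subgroup G), (P : Subgroup G)⁆ ≠ ⊥ := fun h => hab (commutator_self_eq_bot_iff.1 h)
  have hnc : ¬ IsCyclic (P : Subgroup G) := fun h => hab h.isMulCommutative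
  have hfrat : frattini (P : Subgroup G) = commutator (P : Subgroup G) :=
    PGroup.frattini_eq_commutator_of_index_sq P.2 hnc (by rw [← subgroupOf_commutator]; exact hD)
  have hfr : (⁅(P : Subgroup G), (P : Subgroup G)⁆) ≤
      (frattini (P : Subgroup G)).map (P : Subgroup G).subtype := by
    rw [hfrat, map_subtype_commutator]
  haveI hnt : Nontrivial G := by
    rw [← Finite.one_lt_card_iff_nontrivial]
    exact lt_of_lt_of_le (Nat.one_lt_pow two_ne_zero hp.one_lt) (Nat.le_of_dvd Nat.card_pos hbig)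
  have hQnorm : ∀ N : Subgroup G, N.Normal →
      (P : Subgroup G) ≤ normalizer (((P : Subgroup G) ⊓ N : Subgroup G) : Set G) := fun N hN =>
    LocalStructure.le_normalizer_inf le_normalizer (by rw [normalizer_eq_top (H := N)]; exact le_top)
  by_cases hA : ∃ N : Subgroup G, N.Normal ∧ N ≠ ⊥ ∧
      (∀ K : Subgroup G, K.Normal → K ≤ N → K = ⊥ ∨ K = N) ∧ IsMulCommutative N
  · obtain ⟨N, hNn, hNb, hNmin, hNc⟩ := hA
    obtain ⟨r, hr, -, hNr⟩ := Solvable.exists_prime_of_minimal hNb hNmin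
    have hNp : IsPGroup p N := by
      rcases eq_or_ne r p with rfl | hrp
      · exact hNr
      exfalso
      haveI := Fact.mk hr
      obtain ⟨k, hk⟩ := hNr.exists_card_eq
      exact hNb (le_bot_iff.1 (hcore ▸ PCore.le_pPrimeCore (by
        rw [hk]; exact Nat.Coprime.pow_left _ ((Nat.coprime_primes hr hp).2 hrp))))
    have hNP : N ≤ (P : Subgroup G) := (PCore.le_pCore hNp).trans (PCore.pCore_le_sylow P)
    have hQ : (P : Subgroup G) ⊓ N = N := inf_eq_right.2 hNP
    rcases normal_trichotomy P.2 hNP (by rw [normalizer_eq_top (H := N)]; exact le_top) hD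
        (fun h => hNb (le_bot_iff.1 (hcore' ▸ Subgroup.normal_le_normalCore.2 h))) with hE | ⟨-, hidx⟩
    · exact absurd (hE ▸ hNc) hab
    · refine exists_of_abelian_index P N hD hbig (by rw [hQ]; exact hidx) ?_
      rw [hQ]
      exact fun a ha b hb => congrArg Subtype.val (mul_comm' (⟨a, ha⟩ : N) ⟨b, hb⟩)
  push Not at hA
  obtain ⟨N, hNn, -, hNb, hNmin⟩ := Solvable.exists_minimal_normal (K := (⊤ : Subgroup G)) top_ne_bot
  have hnab := hA N hNn hNb hNmin
  have hclass : ∀ M : Subgroup G, M.Normal → M ≠ ⊥ →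
      (∀ K : Subgroup G, K.Normal → K ≤ M → K = ⊥ ∨ K = M) →
      (P : Subgroup G) ⊓ M ≠ ⊥ ∧ ((P : Subgroup G) ⊓ M = P ∨
      (⁅(P : Subgroup G), (P : Subgroup G)⁆ ≤ (P : Subgroup G) ⊓ M ∧
        ((P : Subgroup G) ⊓ M).relIndex (P : Subgroup G) = p)) := by
    intro M hMn hMb hMmin
    have h := tate_notLe P hMb hMmin (hA M hMn hMb hMmin) hcore hfr
    exact ⟨fun h0 => h (h0 ▸ bot_le), normal_trichotomy P.2 inf_le_left (hQnorm M hMn) hD h⟩
  have huniq : ∀ M : Subgroup G, M.Normal → M ≠ ⊥ →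
      (∀ K : Subgroup G, K.Normal → K ≤ M → K = ⊥ ∨ K = M) → M = N := by
    intro M hMn hMb hMmin
    by_contra hne
    have hdis : M ⊓ N = ⊥ := by
      haveI := hMn; haveI := hNn
      rcases hMmin (M ⊓ N) inferInstance inf_le_left with h | h
      · exact h
      rcases hNmin M hMn (inf_eq_left.1 h) with h' | h'
      · exact absurd h' hMb
      · exact absurd h' hne
    obtain ⟨hQM, hM⟩ := hclass M hMn hMb hMmin
    obtain ⟨hQN, hN⟩ := hclass N hNn hNb hNmin
    rcases hM with hM | ⟨hDM, -⟩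
    · refine hQN (le_bot_iff.1 ?_)
      rw [← hdis]
      exact le_inf ((inf_le_left).trans (hM.ge.trans inf_le_right)) inf_le_right
    rcases hN with hN | ⟨hDN, -⟩
    · refine hQM (le_bot_iff.1 ?_)
      rw [← hdis]
      exact le_inf inf_le_right ((inf_le_left).trans (hN.ge.trans inf_le_right))
    refine hPD (le_bot_iff.1 ?_)
    rw [← hdis]
    exact le_inf (hDM.trans inf_le_right) (hDN.trans inf_le_right)
  haveI := hNn
  obtain ⟨𝒯, hF⟩ := Socle.exists_factors N hNb hNmin hnab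
  obtain ⟨hQne, hQcase⟩ := hclass N hNn hNb hNmin
  obtain ⟨T₀, hT₀⟩ := hF.nonempty
  by_cases hsingle : ∀ S ∈ 𝒯, S = T₀
  · exfalso
    have hNT : N = T₀ := by
      rw [← hF.sSup_eq]
      exact le_antisymm (sSup_le fun S hS => (hsingle S hS).le) (le_sSup hT₀)
    apply hnas
    refine ⟨N, hNn, hNT ▸ hF.simple T₀ hT₀, hnab, ?_⟩
    by_contra hC
    obtain ⟨M, hMn, hMle, hMb, hMmin⟩ := Solvable.exists_minimal_normal hC
    obtain rfl := huniq M hMn hMb hMmin
    exact hnab ⟨⟨fun a b => Subtype.ext (mem_centralizer_iff.1 (hMle b.2) a a.2)⟩⟩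
  push Not at hsingle
  obtain ⟨S₀, hS₀, hne⟩ := hsingle
  have habQ := abelian_inf_of_factors P hF hT₀ hS₀ (Ne.symm hne) hD hQcase hQne
  rcases hQcase with hQP | ⟨-, hidx⟩
  · refine absurd ⟨⟨fun a b => Subtype.ext ?_⟩⟩ hab
    exact habQ a (hQP.ge a.2) b (hQP.ge b.2)
  · exact exists_of_abelian_index P N hD hbig hidx habQ

/-- Let G be a finite group, p a prime and P a Sylow p-subgroup of order at least p². Assume that G has no nontrivial normal subgroup of order prime to p, that the derived subgroup P' of P contains no nontrivial normal subgroup of G, and that G is not almost simple (there is no non-abelian simple normal subgroup of G with trivial centralizer). Then [P : P'] = p² if and only if some p-element x of G has centralizer whose order has p-part exactly p². -/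
theorem result {G : Type*} [Group G] [Finite G] (p : ℕ) [Fact p.Prime] (P : Sylow p G) (hbig : p ^ 2 ∣ Nat.card G) (hcore : Cfsg.pPrimeCore p G = ⊥)
    (hcore' : (⁅(P : Subgroup G), (P : Subgroup G)⁆).normalCore = ⊥) (hnas : ¬ ∃ S : Subgroup G, S.Normal ∧ IsSimpleGroup S ∧ ¬ IsMulCommutative S ∧ Subgroup.centralizer (S : Set G) = ⊥) :
    (⁅(P : Subgroup G), (P : Subgroup G)⁆).relIndex (P : Subgroup G) = p ^ 2 ↔
      ∃ x : G, (∃ k : ℕ, orderOf x = p ^ k) ∧ (Nat.card (Subgroup.centralizer ({x} : Set G))).factorization p = 2 := by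
  constructor
  · exact forward P hbig hcore hcore' hnas
  · rintro ⟨x, hx, h2⟩
    obtain ⟨g, hgP, hg⟩ := exists_conj P x hx
    rw [h2, ← card_centralizer_sylow _ _ hgP] at hg
    have := index_of_small_centralizer P.2 _ hg
    rwa [← subgroupOf_commutator] at this

end Cfsg.Agent.S4587
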