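import Cfsg.Statements.S4601
import Cfsg.Agent.Lib.Coprime.Sylow
import Cfsg.Agent.Lib.PCore.PSolvable

set_option autoImplicit false
open Cfsg

namespace Cfsg.Agent.S4601

open Subgroup
open scoped Pointwise

universe u

theorem card_mul_card_inf {G : Type u} [Group G] [Finite G] (N H : Subgroup G) [N.Normal] :
    Nat.card ↥(H ⊔ N) * Nat.card ↥(N ⊓ H) = Nat.card H * Nat.card N := by
  have h1 := relIndex_mul_relIndex ⊥ N (H ⊔ N) bot_le le_sup_right
  have h2 := relIndex_mul_relIndex ⊥ (N ⊓ H) H bot_le inf_le_right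
  rw [relIndex_bot_left, relIndex_bot_left, relIndex_sup_right] at h1
  rw [relIndex_bot_left, relIndex_bot_left, inf_relIndex_right] at h2
  rw [← h1, ← h2]
  ring

theorem exists_sylow_le {G : Type u} [Group G] [Finite G] (p : ℕ) [Fact p.Prime] (H : Subgroup G)
    (h : p ^ (Nat.card G).factorization p ∣ Nat.card H) :
    ∃ P : Sylow p G, (P : Subgroup G) ≤ H := by
  obtain ⟨K, hK⟩ := Sylow.exists_subgroup_card_pow_prime p h
  exact ⟨Sylow.ofCard (K.map H.subtype)
    (by rw [card_map_of_injective H.subtype_injective, hK]), map_subtype_le K⟩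

theorem ordProj_dvd_of_not_dvd_index {G : Type u} [Group G] [Finite G] (p : ℕ) [hp : Fact p.Prime]
    (H : Subgroup G) (h : ¬ p ∣ H.index) : p ^ (Nat.card G).factorization p ∣ Nat.card H := by
  refine (Nat.Coprime.pow_left _ (hp.out.coprime_iff_not_dvd.2 h)).dvd_of_dvd_mul_right ?_
  rw [card_mul_index]
  exact Nat.ordProj_dvd _ _

/-- Every `q`-element of a quotient is the image of a `q`-element. -/
theorem exists_qElement_lift {G H : Type u} [Group G] [Group H] [Finite G] (q : ℕ) [hq : Fact q.Prime]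
    (f : G →* H) (hf : Function.Surjective f) (z : H) (hz : ∃ k : ℕ, orderOf z = q ^ k) :
    ∃ y : G, f y = z ∧ ∃ k : ℕ, orderOf y = q ^ k := by
  obtain ⟨k, hk⟩ := hz
  obtain ⟨g, rfl⟩ := hf z
  set m := orderOf g / q ^ (orderOf g).factorization q
  have hm : Nat.Coprime m (q ^ k) :=
    (Nat.Coprime.pow_left k (Nat.coprime_ordCompl hq.out (orderOf_pos g).ne')).symm
  obtain ⟨j, hj⟩ := exists_pow_eq_self_of_coprime (x := f g) (n := m) (hk ▸ hm)
  refine ⟨g ^ (m * j), by rw [map_pow, pow_mul, hj], ?_⟩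
  have h1 : orderOf (g ^ (m * j)) ∣ q ^ (orderOf g).factorization q := by
    refine orderOf_dvd_of_pow_eq_one ?_
    rw [← pow_mul, mul_right_comm, mul_comm m, Nat.ordProj_mul_ordCompl_eq_self, pow_mul,
      pow_orderOf_eq_one, one_pow]
  obtain ⟨i, -, hi⟩ := (Nat.dvd_prime_pow hq.out).1 h1
  exact ⟨i, hi⟩

/-- A `p`-group normalizes some Sylow `q` of a `p'`-group it normalizes. -/
theorem coprime_case {G : Type u} [Group G] [Finite G] {p q : ℕ} [hp : Fact p.Prime] [Fact q.Prime]
    (P : Sylow p G) (Q : Sylow q G) (K : Subgroup G) (hQK : (Q : Subgroup G) ≤ K)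
    (hK : (Nat.card K).Coprime p) (hPK : (P : Subgroup G) ≤ normalizer (K : Set G)) :
    ∃ Q' : Sylow q G, (P : Subgroup G) ≤ normalizer ((Q' : Subgroup G) : Set G) := by
  haveI := P.isPGroup'.isNilpotent
  obtain ⟨S, hS⟩ := Agent.Coprime.exists_invariant_sylow hPK
    (by rw [P.card_eq_multiplicity]; exact (hK.symm.pow_left _)) (Or.inl inferInstance) q
  refine ⟨Sylow.ofCard ((S : Subgroup K).map K.subtype) ?_, hS⟩
  rw [card_map_of_injective K.subtype_injective, ← Q.card_eq_multiplicity]
  exact (S.card_eq_multiplicity.trans (Q.subtype hQK).card_eq_multiplicity.symm).trans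
    (Nat.card_congr (subgroupOfEquivOfLe hQK).toEquiv)

/-- Some Sylow `p`-subgroup of a normal `q'`-subgroup is centralized by a Sylow `q`-subgroup. -/
theorem exists_centralized {G : Type u} [Group G] [Finite G] {p q : ℕ} [hp : Fact p.Prime] [Fact q.Prime]
    (N : Subgroup G) [N.Normal] (hN : (Nat.card N).Coprime q) (Q : Sylow q G)
    (h : ∀ y : G, (∃ k : ℕ, orderOf y = q ^ k) → ¬ p ∣ (centralizer ({y} : Set G)).index) :
    ∃ R : Sylow p N, (R : Subgroup N).map N.subtype ≤ centralizer ((Q : Subgroup G) : Set G) := by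
  haveI := Q.isPGroup'.isNilpotent
  have hcop : (Nat.card (Q : Subgroup G)).Coprime (Nat.card N) := by
    rw [Q.card_eq_multiplicity]; exact hN.symm.pow_left _
  have hAN : (Q : Subgroup G) ≤ normalizer (N : Set G) := by
    rw [normalizer_eq_top]; exact le_top
  obtain ⟨R, hR⟩ := Agent.Coprime.exists_invariant_sylow hAN hcop (Or.inl inferInstance) p
  refine ⟨R, fun r hr => mem_centralizer_iff.2 fun y hy => ?_⟩
  obtain ⟨k, hk⟩ := IsPGroup.iff_orderOf.1 Q.isPGroup' ⟨y, hy⟩
  rw [Subgroup.orderOf_mk] at hk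
  obtain ⟨P1, hP1⟩ := exists_sylow_le p _ (ordProj_dvd_of_not_dvd_index p _ (h y ⟨k, hk⟩))
  have hyQ : zpowers y ≤ (Q : Subgroup G) := zpowers_le.2 hy
  -- `P1 ∩ N` is a Sylow subgroup of `N`
  have hdvd : p ^ (Nat.card N).factorization p ∣ Nat.card ↥(N ⊓ (P1 : Subgroup G)) := by
    have h1 : p ^ (Nat.card G).factorization p * p ^ (Nat.card N).factorization p ∣
        Nat.card G * Nat.card ↥(N ⊓ (P1 : Subgroup G)) := by
      refine (mul_dvd_mul_left _ (Nat.ordProj_dvd _ p)).trans ?_
      rw [← P1.card_eq_multiplicity, ← card_mul_card_inf N P1]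
      exact mul_dvd_mul_right (card_subgroup_dvd_card _) _
    nth_rw 2 [← Nat.ordProj_mul_ordCompl_eq_self (Nat.card G) p] at h1
    rw [mul_assoc] at h1
    exact (Nat.Coprime.pow_left _ (Nat.coprime_ordCompl hp.out Nat.card_pos.ne')).dvd_of_dvd_mul_left
      (Nat.dvd_of_mul_dvd_mul_left (pow_pos hp.out.pos _) h1)
  set R0 : Subgroup N := (N ⊓ (P1 : Subgroup G)).subgroupOf N
  have hR0 : IsPGroup p R0 :=
    (P1.isPGroup'.to_le (inf_le_right : N ⊓ (P1 : Subgroup G) ≤ _)).comap_subtype
  have hR0c : Nat.card R0 = p ^ (Nat.card N).factorization p := by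
    obtain ⟨S, hS⟩ := hR0.exists_le_sylow
    refine Nat.dvd_antisymm (S.card_eq_multiplicity ▸ card_dvd_of_le hS) ?_
    rw [Nat.card_congr (subgroupOfEquivOfLe inf_le_left).toEquiv]
    exact hdvd
  set R1 : Sylow p N := Sylow.ofCard R0 hR0c
  have hR1c : ∀ x ∈ (R1 : Subgroup N).map N.subtype, y * x = x * y := by
    rintro _ ⟨x, hx, rfl⟩
    exact (mem_centralizer_singleton_iff.1 (hP1 hx.2)).symm
  have hR1n : zpowers y ≤ normalizer (((R1 : Subgroup N).map N.subtype : Subgroup G) : Set G) :=
    le_trans (zpowers_le.2 (mem_centralizer_iff.2 fun x hx => (hR1c x hx).symm))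
      (centralizer_le_normalizer _)
  obtain ⟨c, hc, hcR⟩ := Agent.Coprime.exists_centralizer_smul_sylow (A := zpowers y) (hyQ.trans hAN)
    (hcop.coprime_dvd_left (card_dvd_of_le hyQ))
    (Or.inl inferInstance) R1 R hR1n (hyQ.trans hR)
  rw [← hcR, Sylow.coe_subgroup_smul, Agent.Coprime.map_conj_smul, N.coe_subtype,
    Agent.Coprime.mem_conj_smul_iff] at hr
  have h1 : Commute y ((c : G)⁻¹ * r * c) := hR1c _ hr
  have h2 : Commute y (c : G) := mem_centralizer_iff.1 hc y (mem_zpowers y)
  have h3 := ((h2.mul_right h1).mul_right h2.inv_right)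
  rwa [show (c : G) * ((c : G)⁻¹ * r * c) * (c : G)⁻¹ = r by group] at h3

theorem aux (n : ℕ) : ∀ (G : Type u) [Group G] [Finite G] (p q : ℕ) [Fact p.Prime] [Fact q.Prime],
    Nat.card G = n → p ≠ q → (Cfsg.IsPSolvable p G ∨ Cfsg.IsPSolvable q G) →
    (∀ y : G, (∃ k : ℕ, orderOf y = q ^ k) → ¬ p ∣ (centralizer ({y} : Set G)).index) →
    ∃ (P : Sylow p G) (Q : Sylow q G),
      (P : Subgroup G) ≤ normalizer ((Q : Subgroup G) : Set G) := by
  induction n using Nat.strong_induction_on with
  | _ n ih =>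
    intro G _ _ p q hp hq hn hpq hsolv h
    rcases subsingleton_or_nontrivial G with hG | hG
    · exact ⟨default, default, fun x _ => Subsingleton.elim (1 : G) x ▸ one_mem _⟩
    obtain ⟨N, hNn, hNbot, hN⟩ : ∃ N : Subgroup G, N.Normal ∧ N ≠ ⊥ ∧
        ((Nat.card N).Coprime p ∨ (Nat.card N).Coprime q) := by
      have key : ∀ {r s : ℕ} [Fact r.Prime] [Fact s.Prime], r ≠ s →
          (Nat.card (pCore r G)).Coprime s := fun {r s} _ _ hrs => by
        obtain ⟨k, hk⟩ := Agent.PCore.exists_card_pCore (p := r) (G := G)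
        rw [hk]
        exact Nat.Coprime.pow_left _ ((Nat.coprime_primes Fact.out Fact.out).2 hrs)
      rcases hsolv with hs | hs <;> rcases Agent.PCore.pCore_ne_bot_or_pPrimeCore_ne_bot hs with h' | h'
      · exact ⟨_, inferInstance, h', Or.inr (key hpq)⟩
      · exact ⟨_, inferInstance, h', Or.inl Agent.PCore.coprime_card_pPrimeCore⟩
      · exact ⟨_, inferInstance, h', Or.inl (key hpq.symm)⟩
      · exact ⟨_, inferInstance, h', Or.inr Agent.PCore.coprime_card_pPrimeCore⟩
    have hlt : Nat.card (G ⧸ N) < n := by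
      rw [← hn, card_eq_card_quotient_mul_card_subgroup N]
      refine lt_mul_of_one_lt_right Nat.card_pos ?_
      by_contra hc
      exact hNbot (N.eq_bot_of_card_le (not_lt.1 hc))
    obtain ⟨P0, Q0, hPQ⟩ := ih _ hlt (G ⧸ N) p q rfl hpq
      (hsolv.imp (Agent.PCore.isPSolvable_quotient · N) (Agent.PCore.isPSolvable_quotient · N))
      (fun z hz => by
        obtain ⟨y, rfl, hy⟩ := exists_qElement_lift q (QuotientGroup.mk' N)
          (QuotientGroup.mk'_surjective N) z hz
        refine fun hd => h y hy (hd.trans (dvd_trans (index_dvd_of_le ?_)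
          (index_map_dvd (centralizer ({y} : Set G)) (QuotientGroup.mk'_surjective N))))
        rintro _ ⟨x, hx, rfl⟩
        rw [mem_centralizer_singleton_iff, ← map_mul, ← map_mul,
          mem_centralizer_singleton_iff.1 hx])
    obtain ⟨P, rfl⟩ := Sylow.mapSurjective_surjective (QuotientGroup.mk'_surjective N) p P0
    obtain ⟨Q, rfl⟩ := Sylow.mapSurjective_surjective (QuotientGroup.mk'_surjective N) q Q0
    set K : Subgroup G := (Q : Subgroup G) ⊔ N with hKdef
    have hPK : (P : Subgroup G) ≤ normalizer (K : Set G) := by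
      have hk : (((Q : Subgroup G).map (QuotientGroup.mk' N)).comap (QuotientGroup.mk' N)) = K := by
        rw [comap_map_eq, QuotientGroup.ker_mk']
      rw [← hk]
      refine le_trans ?_ (le_normalizer_comap (QuotientGroup.mk' N))
      rw [← map_le_iff_le_comap]
      exact hPQ
    rcases hN with hN | hN
    · obtain ⟨Q', hQ'⟩ := coprime_case P Q K le_sup_left
        (Agent.PCore.coprime_card_sup N Q hN (by
          rw [Q.card_eq_multiplicity]
          exact ((Nat.coprime_primes Fact.out Fact.out).2 hpq.symm).pow_left _) |>.coprime_dvd_left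
            (by rw [hKdef, sup_comm]))
        hPK
      exact ⟨P, Q', hQ'⟩
    -- `N` is a `q'`-group
    set W := normalizer ((Q : Subgroup G) : Set G) with hW
    set H := normalizer (K : Set G) with hH
    set H0 := H ⊓ W with hH0
    have hH0N : H0 ⊔ N = H := by
      refine le_antisymm (sup_le inf_le_left (le_trans le_sup_right le_normalizer)) fun x hx => ?_
      have hQK : (Q : Subgroup G) ≤ K := le_sup_left
      obtain ⟨k, hk, hkx⟩ := Agent.Coprime.exists_mem_conj_sylow_eq (Q.subtype hQK) hx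
      have hmap : ((Q.subtype hQK : Sylow q K) : Subgroup K).map K.subtype = (Q : Subgroup G) :=
        map_subgroupOf_eq_of_le hQK
      rw [hmap] at hkx
      have hw : k⁻¹ * x ∈ H0 := by
        refine ⟨H.mul_mem (H.inv_mem (le_normalizer hk)) hx,
          Agent.Coprime.mem_normalizer_of_conj_smul_eq ?_⟩
        rw [← Agent.Coprime.conj_smul_smul, ← hkx, Agent.Coprime.conj_smul_smul, inv_mul_cancel,
          map_one, one_smul]
      have hk' : k ∈ H0 ⊔ N := by
        refine (sup_le ?_ le_sup_right : K ≤ H0 ⊔ N) hk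
        exact le_trans (le_inf (hQK.trans le_normalizer) le_normalizer) le_sup_left
      have := mul_mem hk' (mem_sup_left hw : k⁻¹ * x ∈ H0 ⊔ N)
      rwa [mul_inv_cancel_left] at this
    obtain ⟨R, hR⟩ := exists_centralized N hN Q h
    have hRH0 : (R : Subgroup N).map N.subtype ≤ N ⊓ H0 := by
      have hRN := map_subtype_le (R : Subgroup N)
      exact le_inf hRN (le_inf (hRN.trans (le_sup_right.trans le_normalizer))
        (hR.trans (centralizer_le_normalizer _)))
    obtain ⟨P', hP'⟩ := exists_sylow_le p H0 (by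
      have h1 : p ^ (Nat.card G).factorization p * p ^ (Nat.card N).factorization p ∣
          Nat.card H0 * Nat.card N := by
        rw [← card_mul_card_inf N H0, hH0N]
        refine mul_dvd_mul (P.card_eq_multiplicity ▸ card_dvd_of_le hPK) ?_
        rw [← R.card_eq_multiplicity, ← card_map_of_injective N.subtype_injective]
        exact card_dvd_of_le hRH0
      nth_rw 2 [← Nat.ordProj_mul_ordCompl_eq_self (Nat.card N) p] at h1
      rw [mul_comm (Nat.card H0), mul_assoc, mul_comm _ (p ^ (Nat.card N).factorization p)] at h1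
      exact (Nat.Coprime.pow_left _ (Nat.coprime_ordCompl Fact.out Nat.card_pos.ne')).dvd_of_dvd_mul_left
        (Nat.dvd_of_mul_dvd_mul_left (pow_pos (Fact.out : p.Prime).pos _) h1))
    exact ⟨P', Q, hP'.trans inf_le_right⟩

/-- Let p and q be primes and G a finite group that is p-solvable or q-solvable, in which no q-element has conjugacy class size divisible by p. Then some Sylow p-subgroup of G normalizes some Sylow q-subgroup of G. -/
theorem result {G : Type*} [Group G] [Finite G] (p q : ℕ) [Fact p.Prime] [Fact q.Prime] (hsolv : Cfsg.IsPSolvable p G ∨ Cfsg.IsPSolvable q G)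
    (h : ∀ y : G, (∃ k : ℕ, orderOf y = q ^ k) → ¬ p ∣ (Subgroup.centralizer ({y} : Set G)).index) :
    ∃ (P : Sylow p G) (Q : Sylow q G), (P : Subgroup G) ≤ Subgroup.normalizer ((Q : Subgroup G) : Set G) := by
  rcases eq_or_ne p q with rfl | hpq
  · exact ⟨default, default, Subgroup.le_normalizer⟩
  exact aux _ G p q rfl hpq hsolv h

end Cfsg.Agent.S4601
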