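import Cfsg.Statements.S4602
import Cfsg.Agent.Lib.PCore.HallHigman
import Cfsg.Agent.Lib.Coprime.Sylow

set_option autoImplicit false
open Cfsg

namespace Cfsg.Agent.S4602

/-- Let G be a finite p-solvable group and q a prime different from p. Some Sylow p-subgroup of G normalizes some Sylow q-subgroup of G if and only if q does not divide the order of G/O_{p'}(G), the quotient by the largest normal subgroup of order prime to p. -/
theorem result {G : Type*} [Group G] [Finite G] (p q : ℕ) [Fact p.Prime] [Fact q.Prime] (hpq : p ≠ q) (hsolv : Cfsg.IsPSolvable p G) :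
    (∃ (P : Sylow p G) (Q : Sylow q G), (P : Subgroup G) ≤ Subgroup.normalizer ((Q : Subgroup G) : Set G)) ↔ ¬ q ∣ (Cfsg.pPrimeCore p G).index := by
  classical
  set M := Cfsg.pPrimeCore p G with hM
  have hq : q.Prime := Fact.out
  haveI hpM : M.Normal := inferInstance
  constructor
  · rintro ⟨P, Q, hPQ⟩ hdvd
    set π := QuotientGroup.mk' M with hπdef
    have hπ : Function.Surjective π := QuotientGroup.mk'_surjective M
    let P' : Sylow p (G ⧸ M) := P.mapSurjective hπ
    set L := Cfsg.pCore p (G ⧸ M) with hL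
    have hLP : L ≤ (P' : Subgroup (G ⧸ M)) := PCore.pCore_le_sylow P'
    set Q' := (Q : Subgroup G).map π with hQ'
    have hnorm : L ≤ Subgroup.normalizer (Q' : Set (G ⧸ M)) := by
      refine hLP.trans ?_
      show (P : Subgroup G).map π ≤ _
      exact (Subgroup.map_mono hPQ).trans (Subgroup.le_normalizer_map π)
    have hQcard : IsPGroup q Q' := Q.isPGroup'.map π
    have hdisj : L ⊓ Q' = ⊥ :=
      (IsPGroup.disjoint_of_ne p q hpq L Q' (PCore.isPGroup_pCore) hQcard).eq_bot
    have hcen : Q' ≤ Subgroup.centralizer (L : Set (G ⧸ M)) := by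
      intro y hy
      refine Subgroup.mem_centralizer_iff.2 fun x hx => ?_
      have h1 : x * y * x⁻¹ * y⁻¹ ∈ L ⊓ Q' := by
        refine Subgroup.mem_inf.2 ⟨?_, mul_mem ((Subgroup.mem_normalizer_iff.1 (hnorm hx) y).1 hy)
          (inv_mem hy)⟩
        have := mul_mem hx ((inferInstance : L.Normal).conj_mem x⁻¹ (inv_mem hx) y)
        simpa [mul_assoc] using this
      rw [hdisj, Subgroup.mem_bot, mul_inv_eq_one, mul_inv_eq_iff_eq_mul] at h1
      exact h1
    have hQL : Q' ≤ L := hcen.trans (PCore.centralizer_pCore_le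
      (PCore.isPSolvable_quotient hsolv M) PCore.pPrimeCore_quotient_self_eq_bot)
    have hQM : (Q : Subgroup G) ≤ M := by
      have : Q' = ⊥ := by rw [← hdisj, inf_eq_right.2 hQL]
      rwa [hQ', Subgroup.map_eq_bot_iff, hπdef, QuotientGroup.ker_mk'] at this
    exact Q.not_dvd_index (hdvd.trans (Subgroup.index_dvd_of_le hQM))
  · intro hdvd
    obtain ⟨P⟩ : Nonempty (Sylow p G) := inferInstance
    have hnorm : (P : Subgroup G) ≤ Subgroup.normalizer (M : Set G) := by
      rw [Subgroup.normalizer_eq_top_iff.2 hpM]; exact le_top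
    have hcop : (Nat.card (P : Subgroup G)).Coprime (Nat.card M) := by
      obtain ⟨k, hk⟩ := P.isPGroup'.exists_card_eq
      rw [hk]
      exact Nat.Coprime.pow_left k PCore.coprime_card_pPrimeCore.symm
    haveI : Group.IsNilpotent (P : Subgroup G) := P.isPGroup'.isNilpotent
    obtain ⟨R, hR⟩ := Coprime.exists_invariant_sylow (A := (P : Subgroup G)) (K := M) hnorm hcop
      (Or.inl inferInstance) q
    refine ⟨P, Sylow.ofCard ((R : Subgroup M).map M.subtype) ?_, hR⟩
    rw [Subgroup.card_map_of_injective M.subtype_injective, R.card_eq_multiplicity,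
      ← M.card_mul_index, Nat.factorization_mul Nat.card_pos.ne' M.index_ne_zero_of_finite,
      Finsupp.add_apply, Nat.factorization_eq_zero_of_not_dvd hdvd, add_zero]

end Cfsg.Agent.S4602
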