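import Cfsg.Statements.S4604
import Cfsg.Agent.Lib.Char.Congruence
import Cfsg.Agent.Lib.Blocks.LocalRing
import Cfsg.Agent.Lib.Char.SectionIndicator
-- import your own Cfsg.Agent.* helpers here

set_option autoImplicit false
open Cfsg

namespace Cfsg.Agent.S4604

/-- Let G be a finite group, p a prime and p^a the p-part of the order of G. Let x, y ∈ G and let x′, y′ be their p-regular parts: x′ has order prime to p, commutes with x·x′⁻¹, and x·x′⁻¹ has p-power order (likewise for y). Then x′ and y′ are conjugate in G if and only if for every irreducible character χ of G the algebraic integer χ(x)^(p^a) − χ(y)^(p^a) is p times an algebraic integer. -/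
theorem result {G : Type*} [Group G] [Finite G] (p : ℕ) [Fact p.Prime] (x y x' y' : G)
    (hx : (∃ k : ℕ, orderOf (x * x'⁻¹) = p ^ k) ∧ Commute (x * x'⁻¹) x' ∧ ¬ p ∣ orderOf x')
    (hy : (∃ k : ℕ, orderOf (y * y'⁻¹) = p ^ k) ∧ Commute (y * y'⁻¹) y' ∧ ¬ p ∣ orderOf y') :
    IsConj x' y' ↔ ∀ χ : Cfsg.IrrCharacter G, ∃ γ : Cfsg.AlgInt,
      (χ : G → ℂ) x ^ (p ^ (Nat.card G).factorization p) - (χ : G → ℂ) y ^ (p ^ (Nat.card G).factorization p) = (p : ℂ) * (γ : ℂ) := by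
  classical
  haveI := Fintype.ofFinite G
  have hp : p.Prime := Fact.out
  obtain ⟨⟨kx, hkx⟩, hcx, hx'⟩ := hx
  obtain ⟨⟨ky, hky⟩, hcy, hy'⟩ := hy
  set e := (Nat.card G).factorization p with he
  have ex : x * x'⁻¹ * x' = x := by group
  have ey : y * y'⁻¹ * y' = y := by group
  have hcong : ∀ (χ : Cfsg.IrrCharacter G) (u z : G), Commute u z → (∃ k, orderOf u = p ^ k) →
      ∃ γ : Cfsg.AlgInt, χ.1 (u * z) ^ p ^ e - χ.1 (z ^ p ^ e) = (p : ℂ) * (γ : ℂ) := by
    intro χ u z huz ⟨k, hk⟩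
    rw [← Char.pow_pPart_eq hp huz hk e le_rfl]
    exact Char.exists_char_pow_sub hp (Char.irr_isCharacter χ) _ _
  constructor
  · intro hconj χ
    obtain ⟨γ, hγ⟩ := hcong χ _ _ hcx ⟨kx, hkx⟩
    obtain ⟨δ, hδ⟩ := hcong χ _ _ hcy ⟨ky, hky⟩
    rw [ex] at hγ
    rw [ey] at hδ
    refine ⟨γ - δ, ?_⟩
    have : χ.1 (x' ^ p ^ e) = χ.1 (y' ^ p ^ e) := by
      obtain ⟨w, hw⟩ := isConj_iff.1 hconj
      rw [← hw, conj_pow]
      exact (Char.IsCharacter.isClassFunction (Char.irr_isCharacter χ) _ w).symm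
    rw [this] at hγ
    push_cast
    linear_combination hγ - hδ
  · intro h
    by_contra hne
    obtain ⟨c, hc⟩ := Char.exists_section_indicator hp x' hx'
    have h1 := (hc _ x' hcx ⟨kx, hkx⟩ hx').1 (IsConj.refl _)
    have h2 := (hc _ y' hcy ⟨ky, hky⟩ hy').2 fun h' => hne h'.symm
    rw [ex] at h1
    rw [ey] at h2
    set n := Nat.card G / p ^ e with hn
    let V : Cfsg.IrrCharacter G → G → Cfsg.AlgInt := fun χ z =>
      ⟨χ.1 z, CharInt.isIntegral_char (Char.irr_isCharacter χ) z⟩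
    obtain ⟨r, hr⟩ := Char.exists_sum_pow_prime_pow hp e Finset.univ fun χ => c χ * V χ x
    obtain ⟨s, hs⟩ := Char.exists_sum_pow_prime_pow hp e Finset.univ fun χ => c χ * V χ y
    choose γ hγ using h
    have hx0 : ∑ χ, c χ * V χ x = (n : Cfsg.AlgInt) := by
      apply Subtype.ext
      simpa [V] using h1
    have hy0 : ∑ χ, c χ * V χ y = 0 := by
      apply Subtype.ext
      simpa [V] using h2
    rw [hx0] at hr
    rw [hy0, zero_pow (pow_ne_zero e hp.ne_zero)] at hs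
    have hdiv : (p : Cfsg.AlgInt) ∣ (n : Cfsg.AlgInt) ^ p ^ e := by
      refine ⟨(∑ χ, c χ ^ p ^ e * γ χ) + r - s, ?_⟩
      have hd : ∀ χ, (c χ * V χ x) ^ p ^ e - (c χ * V χ y) ^ p ^ e =
          (p : Cfsg.AlgInt) * (c χ ^ p ^ e * γ χ) := fun χ => by
        have : V χ x ^ p ^ e - V χ y ^ p ^ e = (p : Cfsg.AlgInt) * γ χ := by
          apply Subtype.ext
          simpa [V] using hγ χ
        rw [mul_pow, mul_pow, ← mul_sub, this]; ring
      have hsum := Finset.sum_congr rfl fun χ (_ : χ ∈ Finset.univ) => hd χ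
      rw [Finset.sum_sub_distrib, ← Finset.mul_sum] at hsum
      linear_combination hr + hsum - hs
    obtain ⟨q, hq⟩ := hdiv
    obtain ⟨z, hz⟩ := Char.exists_int_of_isIntegral_mul (S := (q : ℂ)) (c := (p : ℤ))
      (N := ((n : ℤ) ^ p ^ e)) q.2 (Int.natCast_ne_zero.2 hp.ne_zero)
      (by have := congrArg (fun w : Cfsg.AlgInt => (w : ℂ)) hq; push_cast at this ⊢; exact this.symm)
    have hz' : ((n : ℤ) ^ p ^ e) = (p : ℤ) * z := by
      have := congrArg (fun w : Cfsg.AlgInt => (w : ℂ)) hq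
      simp [hz] at this
      exact_mod_cast this
    have : p ∣ n ^ p ^ e := by
      have h3 : (p : ℤ) ∣ ((n ^ p ^ e : ℕ) : ℤ) := by push_cast; exact ⟨z, hz'⟩
      exact_mod_cast h3
    exact Nat.not_dvd_ordCompl hp Nat.card_pos.ne' (hp.dvd_of_dvd_pow this)

end Cfsg.Agent.S4604
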