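import Cfsg.Statements.S4608
import Cfsg.Agent.Lib.Blocks.FiveChars.Heights
import Cfsg.Agent.Lib.Blocks.FiveChars.Abelian

set_option autoImplicit false
open Cfsg

namespace Cfsg.Agent.S4608

/-- Let G be a finite group, p a prime, M a maximal ideal of the algebraic integers containing p, and B a p-block of G with defect group D. If B has p-regular rank one and exactly five irreducible characters, then D is cyclic of order 5, or D has order 8 and is non-abelian (dihedral or quaternion). -/
theorem result {G : Type*} [Group G] [Finite G] (p : ℕ) [Fact p.Prime] (M : Ideal Cfsg.AlgInt) (hM : Cfsg.IsPModular p M) (B : Set (Cfsg.IrrCharacter G)) (hB : Cfsg.IsPBlock M B) (D : Subgroup G) (hD : Cfsg.IsDefectGroup p M B D)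
    (hl : Cfsg.blockRank p B = 1) (hk : Nat.card B = 5) :
    (Nat.card D = 5) ∨ (Nat.card D = 8 ∧ ¬ IsMulCommutative D) := by
  classical
  letI := Fintype.ofFinite G
  haveI : M.IsMaximal := hM.2.1
  haveI : CharP (AlgInt ⧸ M) p := Cfsg.Agent.Blocks.charP_residue hM.2.2
  have hDcard := Cfsg.Agent.Blocks.card_defectGroup hM.2.2 hB hD
  rcases Cfsg.Agent.Blocks.FiveChars.defect_data hM.2.2 hB hl hk with h5 | ⟨rfl, hd, χ, hχ, hh, hzero⟩
  · exact Or.inl (hDcard.trans h5)
  have h8 : Nat.card D = 8 := by rw [hDcard, hd]; rfl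
  refine Or.inr ⟨h8, fun hab => ?_⟩
  obtain ⟨c, -, ha⟩ := Cfsg.Agent.BrauerPairs.exists_isMax_of_isDefectGroup hB hD
  exact Cfsg.Agent.Blocks.FiveChars.false_of_abelian hM hB ha
    (fun x hx => Subgroup.mem_centralizer_iff.2 fun y hy =>
      congrArg Subtype.val (hab.is_comm.comm (⟨y, hy⟩ : D) ⟨x, hx⟩))
    h8 hd hk hl hχ hh hzero

end Cfsg.Agent.S4608
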