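import Cfsg.Statements.S4611
import Cfsg.Agent.Lib.Blocks.PConstrained
import Cfsg.Agent.Lib.Char.Monomial

set_option autoImplicit false
open Cfsg

namespace Cfsg.Agent.S4611

/-- Let G be a finite solvable group and π a nonempty set of primes, each dividing the order of G; fix for each p in π a maximal ideal M p of the algebraic integers containing p. Then the only irreducible character lying in the principal p-block for every p in π is the principal character if and only if G is generated by the subgroups O_{p'}(G), p in π (the largest normal subgroups of order prime to p). -/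
theorem result {G : Type*} [Group G] [Finite G] [Group.IsSolvable G] (π : Set ℕ) (hπ : ∀ p ∈ π, p.Prime ∧ p ∣ Nat.card G) (hne : π.Nonempty) (M : ℕ → Ideal Cfsg.AlgInt) (hM : ∀ p ∈ π, Cfsg.IsPModular p (M p)) :
    (∀ χ : Cfsg.IrrCharacter G, (∀ p ∈ π, χ ∈ Cfsg.principalBlock (M p) G) → (χ : G → ℂ) = fun _ => 1) ↔
      ⨆ p ∈ π, Cfsg.pPrimeCore p G = ⊤ := by
  classical
  haveI := Fintype.ofFinite G
  set S : Subgroup G := ⨆ p ∈ π, Cfsg.pPrimeCore p G with hS
  haveI hSn : S.Normal := by
    refine ⟨fun x hx g => ?_⟩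
    have hle : S ≤ S.comap (MulAut.conj g).toMonoidHom := by
      refine iSup₂_le fun p hp y hy => ?_
      exact le_iSup₂ (f := fun p (_ : p ∈ π) => Cfsg.pPrimeCore p G) p hp
        ((inferInstance : (Cfsg.pPrimeCore p G).Normal).conj_mem y hy g)
    exact hle hx
  have hiff : ∀ χ : Cfsg.IrrCharacter G,
      (∀ p ∈ π, χ ∈ Cfsg.principalBlock (M p) G) ↔ ∀ p ∈ π, Agent.Char.TrivOn (Cfsg.pPrimeCore p G) χ.1 :=
    fun χ => forall₂_congr fun p hp => by
      haveI := Fact.mk (hπ p hp).1
      exact Agent.BlockCount.mem_principalBlock_iff_trivOn (hM p hp) χ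
  constructor
  · intro h
    by_contra hne
    haveI := Fintype.ofFinite (G ⧸ S)
    haveI : Nontrivial (G ⧸ S) := by
      obtain ⟨g, hg⟩ : ∃ g, g ∉ S := by
        by_contra hall
        push Not at hall
        exact hne ((Subgroup.eq_top_iff' S).2 hall)
      exact ⟨⟨_, _, fun h1 => hg ((QuotientGroup.eq_one_iff g).1 h1)⟩⟩
    obtain ⟨a, ha⟩ := exists_ne (1 : G ⧸ S)
    have hnc : ¬ IsConj a 1 := fun hc => ha (isConj_one_left.1 hc)
    rw [Agent.Char.isConj_iff_forall_irr] at hnc
    push Not at hnc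
    obtain ⟨ψ, hψ⟩ := hnc
    have htriv := h (Agent.Char.inflate S ψ) ((hiff _).2 fun p hp k hk => by
      have hkS : k ∈ S := le_iSup₂ (f := fun p (_ : p ∈ π) => Cfsg.pPrimeCore p G) p hp hk
      show ψ.1 (k : G ⧸ S) = ψ.1 ((1 : G) : G ⧸ S)
      rw [(QuotientGroup.eq_one_iff k).2 hkS, QuotientGroup.mk_one])
    obtain ⟨b, rfl⟩ := QuotientGroup.mk_surjective a
    exact hψ ((congrFun htriv b).trans (congrFun htriv 1).symm)
  · intro htop χ hχ
    have h1 := (hiff χ).1 hχ
    obtain ⟨d, ρ, hρ, hρχ⟩ := χ.2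
    haveI := hρ
    have hker : S ≤ ρ.ker := by
      refine iSup₂_le fun p hp k hk => ?_
      exact (Agent.CharInt.charKernel_eq_ker ρ ⟨d, ρ, rfl⟩) ▸
        (Agent.CharInt.mem_charKernel (⟨d, ρ, rfl⟩ : Cfsg.IsCharacter G ρ.character)).2
          (by rw [hρχ]; exact h1 p hp k hk)
    have hall : ∀ g, ρ g = 1 := fun g => hker (htop ▸ Subgroup.mem_top g)
    have hd : Module.finrank ℂ (Fin d → ℂ) = 1 :=
      Agent.Char.finrank_eq_one_of_commute ρ fun a b => by rw [hall a, hall b]
    rw [← hρχ]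
    funext g
    rw [Representation.character, hall g, LinearMap.trace_one, hd, Nat.cast_one]

end Cfsg.Agent.S4611
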