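import Cfsg.Statements.S4614
import Cfsg.Agent.Lib.Blocks.OneClassPrincipal
-- import your own Cfsg.Agent.* helpers here

set_option autoImplicit false
open Cfsg

namespace Cfsg.Agent.S4614

open scoped ComplexConjugate Classical
open Cfsg.Agent Cfsg.Agent.Blocks

theorem sq_emod_four (a : ℤ) : a ^ 2 % 4 = 0 ∨ a ^ 2 % 4 = 1 := by
  rw [pow_two, Int.mul_emod]
  have h1 := Int.emod_nonneg a (show (4 : ℤ) ≠ 0 by norm_num)
  have h2 := Int.emod_lt_of_pos a (show (0 : ℤ) < 4 by norm_num)
  generalize a % 4 = r at *
  interval_cases r <;> simp


/-- Let G be a finite group, p a prime and M a maximal ideal of the algebraic integers containing p. If the principal p-block of G contains exactly three irreducible characters, then a Sylow p-subgroup of G has order 3 (so p = 3). -/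
theorem result {G : Type*} [Group G] [Finite G] (p : ℕ) [Fact p.Prime] (M : Ideal Cfsg.AlgInt) (hM : Cfsg.IsPModular p M) (hk : Nat.card (Cfsg.principalBlock M G) = 3) (D : Sylow p G) : Nat.card (D : Subgroup G) = 3 := by
  classical
  haveI := Fintype.ofFinite G
  haveI := hM.2.1
  have hp : p.Prime := Fact.out
  have : CharP (AlgInt ⧸ M) p := charP_residue hM.2.2
  rw [D.card_eq_multiplicity]
  have hG : p ∣ Nat.card G := by
    by_contra h
    rw [OneClass.card_eq_one_of_not_dvd hM h] at hk
    omega
  have hB := isPBlock_principalBlock hM.2.2 (M := M) (G := G)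
  have hlt := OneClass.rank_lt hM hG
  have h1 := ThreeChars.one_le_blockRank (p := p) hB
  have hd := hp.factorization_pos_of_dvd Nat.card_pos.ne' hG
  rcases (show blockRank p (principalBlock M G) = 1 ∨ blockRank p (principalBlock M G) = 2 by
    omega) with hl | hl
  · obtain ⟨h, -⟩ := S4648.card_eq_defect hM.2.2 hB hl (by omega)
      (by rw [OneClass.blockDefect_principal]; omega)
    rw [OneClass.blockDefect_principal] at h
    rw [h, hk]
  · have hk' : Nat.card (principalBlock M G) = blockRank p (principalBlock M G) + 1 := by omega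
    obtain ⟨x, hx⟩ := exists_prime_orderOf_dvd_card' p hG
    set n := (Nat.card G).factorization p
    set Bf := Finset.univ.filter (· ∈ principalBlock M G) with hBf
    have hmem : ∀ χ, χ ∈ Bf ↔ χ ∈ principalBlock M G := fun χ => by simp [hBf]
    have hcard : Bf.card = 3 := by
      rw [← hk, Nat.card_eq_fintype_card, ← Set.toFinset_card]
      congr 1
      ext χ
      simp [hmem]
    set t := Char.trivialChar G with ht
    have htB : t ∈ Bf := (hmem t).2 trivial_mem_principalBlock
    obtain ⟨a, b, hab, hpair⟩ := Finset.card_eq_two.1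
      (show (Bf.erase t).card = 2 by rw [Finset.card_erase_of_mem htB, hcard])
    have ha : a ∈ Bf ∧ a ≠ t := (Finset.mem_erase.1 (by rw [hpair]; simp :
      a ∈ Bf.erase t)).symm
    have hb : b ∈ Bf ∧ b ≠ t := (Finset.mem_erase.1 (by rw [hpair]; simp :
      b ∈ Bf.erase t)).symm
    have hsplit : ∀ {R : Type} [AddCommMonoid R] (f : IrrCharacter G → R),
        ∑ χ ∈ Bf, f χ = f t + (f a + f b) := fun f => by
      rw [← Finset.add_sum_erase _ _ htB, hpair, Finset.sum_pair hab]
    set v := OneClass.v hM hk' hx with hv
    have hv1 : v t = 1 := OneClass.v_trivial hM hk' hx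
    have hq := OneClass.sum_v_sq hM hk' hx
    rw [hsplit, ← hv, hv1, one_pow] at hq
    have hva : v a ≠ 0 := OneClass.v_ne_zero hM hk' hx ((hmem a).1 ha.1)
    have hvb : v b ≠ 0 := OneClass.v_ne_zero hM hk' hx ((hmem b).1 hb.1)
    have hsa : 1 ≤ v a ^ 2 := by have := sq_pos_of_ne_zero hva; omega
    have hsb : 1 ≤ v b ^ 2 := by have := sq_pos_of_ne_zero hvb; omega
    by_cases hp2 : p = 2
    · exfalso
      subst hp2
      rcases (show n = 1 ∨ 2 ≤ n by omega) with hn | hn
      · rw [show (Nat.card G).factorization 2 = 1 from hn] at hq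
        push_cast at hq
        omega
      · obtain ⟨m, hm⟩ := Nat.exists_eq_add_of_le hn
        rw [show (Nat.card G).factorization 2 = 2 + m from hm, pow_add] at hq
        push_cast at hq
        rcases sq_emod_four (v a) with h3 | h3 <;> rcases sq_emod_four (v b) with h4 | h4 <;>
          omega
    · have hfs := OneClass.sum_fs_mul_v hM hk' hp2 hx
      rw [hsplit, ← hv, hv1, ht, OneClass.fs_trivial, Int.cast_one, one_mul,
        add_eq_left] at hfs
      have hconj : ∀ c ∈ Bf, c ≠ t → (Char.conjIrr c = a ∨ Char.conjIrr c = b) := by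
        intro c hc hct
        have h3 : Char.conjIrr c ∈ Bf.erase t := Finset.mem_erase.2 ⟨fun h => hct (by
          rw [← Char.conjIrr_conjIrr c, h, ht, OneClass.conjIrr_trivial]),
          (hmem _).2 (OneClass.conjIrr_mem hM hk' hx ((hmem c).1 hc)).1⟩
        rwa [hpair, Finset.mem_insert, Finset.mem_singleton] at h3
      have hsame : v b = v a ∨ v b = -v a := by
        rcases hconj a ha.1 ha.2 with hca | hca
        · have hcb : Char.conjIrr b = b := (hconj b hb.1 hb.2).resolve_left fun h => hab (by
            rw [← hca, ← h, Char.conjIrr_conjIrr])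
          rcases OneClass.fs_of_real hM hk' hca with e1 | e1 <;>
            rcases OneClass.fs_of_real hM hk' hcb with e2 | e2 <;> rw [e1, e2] at hfs <;>
            simp only [one_mul, neg_mul] at hfs
          · right
            exact_mod_cast (eq_neg_of_add_eq_zero_right hfs)
          · left
            exact_mod_cast (show (v b : ℂ) = v a by linear_combination -hfs)
          · left
            exact_mod_cast (show (v b : ℂ) = v a by linear_combination hfs)
          · right
            exact_mod_cast (show (v b : ℂ) = -v a by linear_combination -hfs)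
        · left
          rw [← hca]
          exact (OneClass.conjIrr_mem hM hk' hx ((hmem a).1 ha.1)).2
      have hdeg := OneClass.sum_v_mul_degree hM hk' hx
      rw [hsplit, ← hv, hv1, ht, show (Char.degree (Char.trivialChar G) : ℤ) = 1 by
        exact_mod_cast (show Char.degree (Char.trivialChar G) = 1 from Nat.cast_injective (R := ℂ) (by rw [← Char.apply_one_eq_degree, Char.trivialChar_apply, Nat.cast_one]))] at hdeg
      have hunit : IsUnit (v a) := by
        rcases hsame with e | e <;> rw [e] at hdeg
        · exact IsUnit.of_mul_eq_one (-((Char.degree a : ℤ) + Char.degree b))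
            (by linear_combination -hdeg)
        · exact IsUnit.of_mul_eq_one ((Char.degree b : ℤ) - Char.degree a)
            (by linear_combination -hdeg)
      have h3 : v a ^ 2 = 1 := Int.isUnit_sq hunit
      have h4 : v b ^ 2 = 1 := by rcases hsame with e | e <;> simp [e, h3]
      rw [h3, h4] at hq
      exact_mod_cast hq.symm

end Cfsg.Agent.S4614
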