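import Cfsg.Statements.S4620
import Cfsg.Agent.S4619
import Cfsg.Agent.Lib.PCore.Basic
import Cfsg.Agent.Lib.Coprime.Sylow
import Cfsg.Agent.Lib.SylowCount.Basic

set_option autoImplicit false
open scoped Pointwise
open Cfsg

namespace Cfsg.Agent.S4620

open scoped Pointwise

theorem inf_subgroupOf' {G : Type*} [Group G] (A B N : Subgroup G) :
    (A ⊓ B).subgroupOf N = A.subgroupOf N ⊓ B.subgroupOf N := rfl

theorem exists_minimal_normal {G : Type*} [Group G] [Finite G] (S : Subgroup G) (hS : S.Normal)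
    (hS0 : S ≠ ⊥) : ∃ M : Subgroup G, (M.Normal ∧ M ≠ ⊥) ∧
      (M ≤ S ∧ ∀ K : Subgroup G, K.Normal → K ≤ M → K = ⊥ ∨ K = M) := by
  obtain ⟨M, ⟨hM, hM0, hMS⟩, hmin⟩ :=
    wellFounded_lt.has_min {K : Subgroup G | K.Normal ∧ K ≠ ⊥ ∧ K ≤ S} ⟨S, hS, hS0, le_rfl⟩
  refine ⟨M, ⟨hM, hM0⟩, hMS, fun K hK hKM => ?_⟩
  rcases eq_or_ne K ⊥ with h | h
  · exact Or.inl h
  · refine Or.inr (eq_of_le_of_not_lt hKM fun hlt => hmin K ⟨hK, h, hKM.trans hMS⟩ hlt)

theorem not_dvd_relIndex_sylow {G : Type*} [Group G] [Finite G] {p : ℕ} [Fact p.Prime]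
    (P : Sylow p G) (K : Subgroup G) [K.Normal] : ¬ p ∣ (P : Subgroup G).relIndex K := by
  obtain ⟨R, hR⟩ := SylowCount.exists_sylow_inf P K
  show ¬ p ∣ ((P : Subgroup G).subgroupOf K).index
  rw [← hR]
  exact R.not_dvd_index

theorem not_dvd_index_inf {G : Type*} [Group G] [Finite G] {p : ℕ} [Fact p.Prime] (P : Sylow p G)
    (N : Subgroup G) [N.Normal] : ¬ p ∣ (((P : Subgroup G) ⊓ N).subgroupOf N).index := by
  rw [Subgroup.inf_subgroupOf_right]
  exact not_dvd_relIndex_sylow P N

theorem not_dvd_of_inf_eq_bot {G : Type*} [Group G] [Finite G] {p : ℕ} [Fact p.Prime]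
    (P : Sylow p G) (K : Subgroup G) [K.Normal] (h : (P : Subgroup G) ⊓ K = ⊥) :
    ¬ p ∣ Nat.card K := by
  have := not_dvd_relIndex_sylow P K
  rwa [← Subgroup.inf_relIndex_right, h, Subgroup.relIndex_bot_left] at this

theorem not_dvd_of_normalized {G : Type*} [Group G] [Finite G] {p : ℕ} [Fact p.Prime]
    (P : Sylow p G) (T : Subgroup G) (hT : T ≤ Subgroup.normalizer ((P : Subgroup G) : Set G))
    (h : (P : Subgroup G) ⊓ T = ⊥) : ¬ p ∣ Nat.card T := by
  intro hd
  obtain ⟨R, hR⟩ := Sylow.exists_subgroup_card_pow_prime p (n := 1) (by rwa [pow_one] : p ^ 1 ∣ Nat.card T)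
  have hRp : IsPGroup p (R.map T.subtype) := (IsPGroup.of_card hR).map _
  have hle : R.map T.subtype ≤ Subgroup.normalizer ((P : Subgroup G) : Set G) :=
    (Subgroup.map_subtype_le R).trans hT
  have hjoin : IsPGroup p ((P : Subgroup G) ⊔ R.map T.subtype : Subgroup G) := by
    rw [sup_comm]
    exact hRp.to_sup_of_normal_right' P.isPGroup' hle
  have heq := P.3 hjoin le_sup_left
  have : R.map T.subtype ≤ (P : Subgroup G) ⊓ T :=
    le_inf (heq ▸ le_sup_right) (Subgroup.map_subtype_le R)
  rw [h, le_bot_iff, Subgroup.map_eq_bot_iff_of_injective _ T.subtype_injective] at this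
  rw [this, Subgroup.card_bot, pow_one] at hR
  exact (Fact.out : p.Prime).one_lt.ne hR


/-- Let H be a finite group with no nontrivial normal p-subgroup and no nontrivial normal subgroup of order prime to p, whose Sylow p-subgroup P is nontrivial and a trivial-intersection set (P meets its conjugates by elements outside N_H(P) trivially). Then H has a unique minimal normal subgroup N; N is non-abelian simple with trivial centralizer in H (so H embeds in Aut(N)), and a Sylow p-subgroup of N is again a nontrivial trivial-intersection set in N. -/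
theorem result {H : Type*} [Group H] [Finite H] (p : ℕ) [Fact p.Prime] (hOp : Cfsg.pCore p H = ⊥) (hOp' : Cfsg.pPrimeCore p H = ⊥) (P : Sylow p H) (hP1 : (P : Subgroup H) ≠ ⊥)
    (hTI : ∀ g : H, g ∉ Subgroup.normalizer ((P : Subgroup H) : Set H) → (P : Subgroup H) ⊓ (MulAut.conj g • (P : Subgroup H)) = ⊥) :
    ∃ N : Subgroup H, N.Normal ∧ N ≠ ⊥ ∧ (∀ K : Subgroup H, K.Normal → K ≠ ⊥ → N ≤ K) ∧
      IsSimpleGroup N ∧ ¬ IsMulCommutative N ∧ Subgroup.centralizer (N : Set H) = ⊥ ∧
      ∀ Q : Sylow p N, (Q : Subgroup N) ≠ ⊥ ∧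
        ∀ n : N, n ∉ Subgroup.normalizer ((Q : Subgroup N) : Set N) → (Q : Subgroup N) ⊓ (MulAut.conj n • (Q : Subgroup N)) = ⊥ := by
  classical
  -- `N(Q) ≤ N(P)` for nontrivial `Q ≤ P`
  have key : ∀ Q : Subgroup H, Q ≤ (P : Subgroup H) → Q ≠ ⊥ →
      Subgroup.normalizer (Q : Set H) ≤ Subgroup.normalizer ((P : Subgroup H) : Set H) :=
    fun Q h1 h2 => (S4619.result p P hTI Q h1 h2).1
  have hmeet : ∀ K : Subgroup H, K.Normal → K ≠ ⊥ → (P : Subgroup H) ⊓ K ≠ ⊥ := by
    intro K hK hK0 hbot
    haveI := hK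
    apply hK0
    rw [eq_bot_iff, ← hOp']
    refine PCore.le_pPrimeCore ((Fact.out : p.Prime).coprime_iff_not_dvd.2 ?_).symm
    exact not_dvd_of_inf_eq_bot P K hbot
  obtain ⟨N, hN, hNmin⟩ :=
    exists_minimal_normal (⊤ : Subgroup H) inferInstance (fun h => hP1 (by
      rw [eq_bot_iff, ← h]; exact le_top))
  haveI := hN.1
  have hQ0 : (P : Subgroup H) ⊓ N ≠ ⊥ := hmeet N hN.1 hN.2
  -- a nontrivial normal subgroup of `N` cannot lie in `N(P)`
  have hnot : ∀ T : Subgroup H, T ≤ N → N ≤ Subgroup.normalizer (T : Set H) → T ≠ ⊥ →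
      T ≤ Subgroup.normalizer ((P : Subgroup H) : Set H) → False := by
    intro T hTN hNT hT0 hTP
    haveI hTn : (T.subgroupOf N).Normal := Subgroup.normal_subgroupOf_iff_le_normalizer hTN |>.2 hNT
    have h1 : Cfsg.pCore p N = ⊥ := PCore.pCore_eq_bot_of_normal N hOp
    have h2 : Cfsg.pPrimeCore p N = ⊥ := PCore.pPrimeCore_eq_bot_of_normal N hOp'
    set A : Subgroup T := (P : Subgroup H).subgroupOf T with hA
    haveI hAn : A.Normal :=
      Subgroup.normal_subgroupOf_of_le_normalizer hTP
    have hAp : IsPGroup p A := P.isPGroup'.comap_subtype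
    have hcore : Cfsg.pCore p T = ⊥ := by
      rw [← PCore.pCore_eq_bot_congr (Subgroup.subgroupOfEquivOfLe hTN)]
      exact PCore.pCore_eq_bot_of_normal _ h1
    have hA0 : A = ⊥ := le_bot_iff.1 (hcore ▸ PCore.le_pCore hAp)
    have hcop : (Nat.card T).Coprime p := by
      refine ((Fact.out : p.Prime).coprime_iff_not_dvd.2 ?_).symm
      refine not_dvd_of_normalized P T hTP ?_
      rw [hA, Subgroup.subgroupOf_eq_bot, disjoint_iff] at hA0
      exact hA0
    apply hT0
    have h3 : T.subgroupOf N ≤ Cfsg.pPrimeCore p N := PCore.le_pPrimeCore (by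
      rwa [Nat.card_congr (Subgroup.subgroupOfEquivOfLe hTN).toEquiv])
    rw [h2, le_bot_iff, Subgroup.subgroupOf_eq_bot, disjoint_iff, inf_eq_left.2 hTN] at h3
    exact h3
  have hC : Subgroup.centralizer (N : Set H) = ⊥ := by
    by_contra hC0
    haveI : (Subgroup.centralizer (N : Set H)).Normal := Subgroup.normal_centralizer
    refine hnot N le_rfl Subgroup.le_normalizer hN.2 ?_
    refine le_trans ?_ (key _ inf_le_left (hmeet (Subgroup.centralizer (N : Set H)) inferInstance hC0))
    refine le_trans ?_ (Subgroup.centralizer_le_normalizer _)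
    intro n hn
    refine Subgroup.mem_centralizer_iff.2 fun x hx => ?_
    exact (Subgroup.mem_centralizer_iff.1 hx.2 n hn).symm
  have huniq : ∀ K : Subgroup H, K.Normal → K ≠ ⊥ → N ≤ K := by
    intro K hK hK0
    haveI := hK
    rcases hNmin.2 (K ⊓ N) inferInstance inf_le_right with h | h
    · exfalso
      apply hK0
      rw [eq_bot_iff, ← hC]
      intro k hk
      refine Subgroup.mem_centralizer_iff.2 fun n hn => ?_
      exact (Subgroup.commute_of_normal_of_disjoint K N hK hN.1 (disjoint_iff.2 h) k n hk hn).symm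
    · exact h ▸ inf_le_left
  have hsimple : IsSimpleGroup N := by
    haveI : Nontrivial N := (Subgroup.nontrivial_iff_ne_bot N).2 hN.2
    refine ⟨fun S hS => ?_⟩
    by_contra hSne
    push Not at hSne
    obtain ⟨hS0, hSt⟩ := hSne
    obtain ⟨S₀, hS₀, hS₀min⟩ := exists_minimal_normal S hS hS0
    haveI := hS₀.1
    set S' : Subgroup H := S₀.map N.subtype with hS'
    have hS'N : S' ≤ N := Subgroup.map_subtype_le _
    have hS'0 : S' ≠ ⊥ := by
      rw [hS', Ne, Subgroup.map_eq_bot_iff_of_injective _ N.subtype_injective]; exact hS₀.2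
    have hnorm : ∀ g : H, N ≤ Subgroup.normalizer ((MulAut.conj g • S' : Subgroup H) : Set H) := by
      intro g n hn
      refine Coprime.mem_normalizer_of_conj_smul_eq ?_
      have h1 : MulAut.conj (g⁻¹ * n * g) • S' = S' := by
        refine Coprime.conj_smul_eq_self_of_mem ?_
        have hm : g⁻¹ * n * g ∈ N := hN.1.conj_mem' n hn g
        have := Subgroup.le_normalizer_map (H := S₀) N.subtype (x := (⟨_, hm⟩ : N))
          ⟨⟨_, hm⟩, by rw [Subgroup.normalizer_eq_top_iff.2 hS₀.1]; exact Subgroup.mem_top _, rfl⟩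
        exact this
      calc MulAut.conj n • MulAut.conj g • S' = MulAut.conj g • MulAut.conj (g⁻¹ * n * g) • S' := by
            rw [smul_smul, smul_smul, ← map_mul, ← map_mul]
            congr 2
            group
        _ = _ := by rw [h1]
    obtain ⟨g, hg⟩ : ∃ g : H, MulAut.conj g • S' ≠ S' := by
      by_contra h
      push Not at h
      have hn : S'.Normal := Subgroup.normalizer_eq_top_iff.1 (eq_top_iff.2 fun g _ =>
        Coprime.mem_normalizer_of_conj_smul_eq (h g))
      rcases hNmin.2 S' hn hS'N with h' | h'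
      · exact hS'0 h'
      · refine hSt (eq_top_iff.2 fun x _ => hS₀min.1 ?_)
        have hx : (x : H) ∈ S' := h'.ge x.2
        obtain ⟨y, hy, hyx⟩ := hx
        rwa [N.subtype_injective hyx] at hy
    set T : Subgroup H := MulAut.conj g • S' with hT
    have hTN : T ≤ N := by
      rintro _ ⟨y, hy, rfl⟩
      exact hN.1.conj_mem y (hS'N hy) g
    have hT0 : T ≠ ⊥ := fun h => hS'0 (Subgroup.card_eq_one.1 (by
      rw [← Coprime.card_conj_smul g, ← hT, h, Subgroup.card_bot]))
    haveI hS'n : (S'.subgroupOf N).Normal :=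
      (Subgroup.normal_subgroupOf_iff_le_normalizer hS'N).2 (by simpa using hnorm 1)
    haveI hTn : (T.subgroupOf N).Normal :=
      (Subgroup.normal_subgroupOf_iff_le_normalizer hTN).2 (hnorm g)
    have hdisj : S' ⊓ T = ⊥ := by
      have h1 : (S' ⊓ T).subgroupOf N ≤ S₀ := by
        intro x hx
        obtain ⟨y, hy, hyx⟩ := hx.1
        rwa [N.subtype_injective hyx] at hy
      haveI : ((S' ⊓ T).subgroupOf N).Normal := by
        rw [inf_subgroupOf']; infer_instance
      rcases hS₀min.2 _ inferInstance h1 with h2 | h2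
      · rwa [Subgroup.subgroupOf_eq_bot, disjoint_iff, inf_eq_left.2 (inf_le_left.trans hS'N)] at h2
      · exfalso
        apply hg
        refine (Subgroup.eq_of_le_of_card_ge ?_ (Coprime.card_conj_smul g S').le).symm
        intro x hx
        have : (⟨x, hS'N hx⟩ : N) ∈ (S' ⊓ T).subgroupOf N := by
          rw [h2]
          obtain ⟨y, hy, hyx⟩ := hx
          rwa [show (⟨x, _⟩ : N) = y from Subtype.ext hyx.symm]
        exact this.2
    have hcomm : ∀ s ∈ S', ∀ t ∈ T, s * t = t * s := fun s hs t ht => by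
      have h := Subgroup.commute_of_normal_of_disjoint (S'.subgroupOf N) (T.subgroupOf N) hS'n hTn
        (disjoint_iff.2 (by
          rw [← inf_subgroupOf', hdisj, Subgroup.bot_subgroupOf]))
        ⟨s, hS'N hs⟩ ⟨t, hTN ht⟩ hs ht
      exact congrArg Subtype.val h
    have hPS : (P : Subgroup H) ⊓ S' ≠ ⊥ := by
      intro hbot
      refine hnot S' hS'N (by simpa using hnorm 1) hS'0 ?_
      exfalso
      apply hS'0
      have hdvd : ¬ p ∣ Nat.card S' := by
        intro hd
        obtain ⟨R, hR⟩ := SylowCount.exists_sylow_inf P N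
        have := not_dvd_relIndex_sylow R (S'.subgroupOf N)
        rw [hR, ← Subgroup.inf_subgroupOf_right] at this
        apply this
        have hb : ((P : Subgroup H) ⊓ N).subgroupOf N ⊓ S'.subgroupOf N = ⊥ := by
          rw [← inf_subgroupOf', inf_assoc, inf_comm N S', ← inf_assoc, hbot, bot_inf_eq,
            Subgroup.bot_subgroupOf]
        rw [← Subgroup.inf_relIndex_right, hb, Subgroup.relIndex_bot_left,
          Nat.card_congr (Subgroup.subgroupOfEquivOfLe hS'N).toEquiv]
        exact hd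
      have hle : S'.subgroupOf N ≤ Cfsg.pPrimeCore p N := PCore.le_pPrimeCore (by
        rw [Nat.card_congr (Subgroup.subgroupOfEquivOfLe hS'N).toEquiv]
        exact ((Fact.out : p.Prime).coprime_iff_not_dvd.2 hdvd).symm)
      rw [PCore.pPrimeCore_eq_bot_of_normal N hOp', le_bot_iff, Subgroup.subgroupOf_eq_bot,
        disjoint_iff, inf_eq_left.2 hS'N] at hle
      exact hle
    refine hnot T hTN (hnorm g) hT0 ?_
    refine le_trans ?_ (key _ inf_le_left hPS)
    refine le_trans ?_ (Subgroup.centralizer_le_normalizer _)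
    intro t ht
    exact Subgroup.mem_centralizer_iff.2 fun x hx => hcomm x hx.2 t ht
  refine ⟨N, hN.1, hN.2, huniq, hsimple, ?_, hC, ?_⟩
  · intro hab
    apply hN.2
    rw [eq_bot_iff, ← hC]
    exact fun n hn => Subgroup.mem_centralizer_iff.2 fun m hm =>
      congrArg Subtype.val (hab.is_comm.comm ⟨m, hm⟩ ⟨n, hn⟩)
  · intro Q
    obtain ⟨P', hP'⟩ := (Q.isPGroup'.map N.subtype).exists_le_sylow
    obtain ⟨a, ha⟩ := MulAction.exists_smul_eq H P P'
    have hQeq : (Q : Subgroup N) = (P' : Subgroup H).subgroupOf N :=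
      (Q.3 P'.isPGroup'.comap_subtype fun x hx => hP' ⟨x, hx, rfl⟩).symm
    have hTI' : ∀ g : H, g ∉ Subgroup.normalizer ((P' : Subgroup H) : Set H) →
        (P' : Subgroup H) ⊓ MulAut.conj g • (P' : Subgroup H) = ⊥ := by
      intro g hg
      rw [← ha, Sylow.coe_subgroup_smul] at hg ⊢
      have hg' : a⁻¹ * g * a ∉ Subgroup.normalizer ((P : Subgroup H) : Set H) := fun h => hg (by
        refine Coprime.mem_normalizer_of_conj_smul_eq ?_
        have h1 := Coprime.conj_smul_eq_self_of_mem h
        calc MulAut.conj g • MulAut.conj a • (P : Subgroup H)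
            = MulAut.conj a • MulAut.conj (a⁻¹ * g * a) • (P : Subgroup H) := by
              rw [smul_smul, smul_smul, ← map_mul, ← map_mul]
              congr 2
              group
          _ = _ := by rw [h1])
      have h2 := hTI _ hg'
      have h3 : MulAut.conj a • ((P : Subgroup H) ⊓ MulAut.conj (a⁻¹ * g * a) • (P : Subgroup H)) = ⊥ := by
        rw [h2, Subgroup.smul_bot]
      rw [Subgroup.smul_inf] at h3
      rw [← h3, smul_smul, smul_smul, ← map_mul, ← map_mul]
      congr 3
      group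
    refine ⟨?_, fun n hn => ?_⟩
    · intro hQ
      have hdvd : ¬ p ∣ Nat.card N := by
        intro hd
        have := Q.not_dvd_index
        rw [hQ, Subgroup.index_bot] at this
        exact this hd
      exact hN.2 (eq_bot_iff.2 (hOp' ▸ PCore.le_pPrimeCore
        ((Fact.out : p.Prime).coprime_iff_not_dvd.2 hdvd).symm))
    · rw [eq_bot_iff]
      rintro x ⟨hx1, hx2⟩
      by_contra hx
      apply hn
      have hn' : (n : H) ∈ Subgroup.normalizer ((P' : Subgroup H) : Set H) := by
        by_contra hn'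
        have h := hTI' n hn'
        have hxm : (x : H) ∈ (P' : Subgroup H) ⊓ MulAut.conj (n : H) • (P' : Subgroup H) := by
          refine Subgroup.mem_inf.2 ⟨?_, ?_⟩
          · rw [hQeq] at hx1; exact hx1
          · obtain ⟨y, hy, hyx⟩ := hx2
            rw [hQeq] at hy
            exact ⟨(y : H), hy, congrArg Subtype.val hyx⟩
        rw [h, Subgroup.mem_bot] at hxm
        exact hx (Subtype.ext hxm)
      rw [hQeq]
      refine Subgroup.mem_normalizer_iff.2 fun y => ?_
      exact Subgroup.mem_normalizer_iff.1 hn' (y : H)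

end Cfsg.Agent.S4620
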