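import Cfsg.Statements.S4624
import Cfsg.Agent.Lib.SylowSquares.Two
import Cfsg.Agent.Lib.Forms.Symp

set_option autoImplicit false
open Cfsg

namespace Cfsg.Agent.S4624

open Matrix Cfsg.Agent.SylowSquares
open scoped MatrixGroups

variable (F : Type*) [Field F] (n : ℕ)

/-- The standard form on one block. -/
def J₀ : Matrix (Fin 2) (Fin 2) F := !![0, -1; 1, 0]

theorem conj_J₀ (M : Matrix (Fin 2) (Fin 2) F) : M * J₀ F * Mᵀ = M.det • J₀ F := by
  ext i j
  fin_cases i <;> fin_cases j <;> simp [J₀, Matrix.mul_apply, Fin.sum_univ_two, det_fin_two] <;> ring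

/-- Pairing the coordinates. -/
def pairEquiv : Fin 2 × Fin n ≃ Fin n ⊕ Fin n :=
  (Equiv.prodCongr finTwoEquiv (Equiv.refl _)).trans (Equiv.boolProdEquivSum _)

theorem reindex_J :
    reindexAlgEquiv F F (pairEquiv n) (blockDiagonal fun _ : Fin n => J₀ F) = Matrix.J (Fin n) F := by
  rw [← (reindexAlgEquiv F F (pairEquiv n)).eq_symm_apply]
  ext ⟨a, i⟩ ⟨b, j⟩
  simp only [symm_reindexAlgEquiv, coe_reindexAlgEquiv, reindex_apply, submatrix_apply, Equiv.symm_symm]
  rw [blockDiagonal_apply]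
  rcases eq_or_ne i j with h | h <;>
    fin_cases a <;> fin_cases b <;>
      simp [pairEquiv, finTwoEquiv, Equiv.boolProdEquivSum, J₀, Matrix.J, h, Matrix.one_apply_ne]

theorem permHom_form (σ : Equiv.Perm (Fin n)) :
    (permHom F (κ := Fin 2) σ : Matrix (Fin 2 × Fin n) (Fin 2 × Fin n) F) * blockDiagonal (fun _ : Fin n => J₀ F) *
      (permHom F (κ := Fin 2) σ : Matrix (Fin 2 × Fin n) (Fin 2 × Fin n) F)ᵀ = blockDiagonal (fun _ : Fin n => J₀ F) := by
  have h1 : (permHom F (κ := Fin 2) σ : Matrix (Fin 2 × Fin n) (Fin 2 × Fin n) F) * (permHom F (κ := Fin 2) σ : Matrix (Fin 2 × Fin n) (Fin 2 × Fin n) F)ᵀ = 1 := by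
    rw [coe_permHom, ← PEquiv.toMatrix_symm, ← PEquiv.toMatrix_trans, ← Equiv.toPEquiv_symm,
      ← Equiv.toPEquiv_trans, Equiv.self_trans_symm, Equiv.toPEquiv_refl, PEquiv.toMatrix_refl]
  rw [permHom_mul_blockDiagonal, mul_assoc, h1, mul_one]
  rfl

/-- Let F be a finite field of odd order and n ≥ 1. A Sylow 2-subgroup P of the symplectic group Sp_{2n}(F) has P/P' elementary abelian: the square of every element of P lies in the derived subgroup of P. -/
theorem result {F : Type*} [Field F] [Fintype F] (hF : Odd (Fintype.card F)) (n : ℕ) (hn : 1 ≤ n) (P : Sylow 2 (Matrix.symplecticGroup (Fin n) F)) :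
    ∀ x : (P : Subgroup (Matrix.symplecticGroup (Fin n) F)), x ^ 2 ∈ commutator (P : Subgroup (Matrix.symplecticGroup (Fin n) F)) := by
  have : Fact (Nat.Prime 2) := ⟨Nat.prime_two⟩
  obtain ⟨S⟩ : Nonempty (Sylow 2 SL(2, F)) := inferInstance
  obtain ⟨T, hT, hTs⟩ := exists_sylow_perm n
  set Q := (S : Subgroup SL(2, F)).map (SpecialLinearGroup.toGL (n := Fin 2) (R := F)) with hQ
  set W := wr (blkHom F (κ := Fin 2) (o := Fin n)) (permHom F (κ := Fin 2)) Q T with hWdef
  have hW : ∀ w : ↥W, reindexAlgEquiv F F (pairEquiv n) (w.1 : Matrix (Fin 2 × Fin n) (Fin 2 × Fin n) F) ∈ Matrix.symplecticGroup (Fin n) F := by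
    rintro ⟨w, hw⟩
    obtain ⟨f, hf, σ, -, rfl⟩ := (setup F).mem_wr_iff.1 hw
    have hdet : ∀ k, (f k : Matrix (Fin 2) (Fin 2) F).det = 1 := by
      intro k
      obtain ⟨A, -, hA⟩ := mem_funs.1 hf k
      rw [← hA]
      exact A.2
    have h1 : ((blkHom F f * permHom F σ : GL (Fin 2 × Fin n) F) : Matrix (Fin 2 × Fin n) (Fin 2 × Fin n) F) *
        blockDiagonal (fun _ : Fin n => J₀ F) *
        ((blkHom F f * permHom F σ : GL (Fin 2 × Fin n) F) : Matrix (Fin 2 × Fin n) (Fin 2 × Fin n) F)ᵀ =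
          blockDiagonal (fun _ : Fin n => J₀ F) := by
      rw [Units.val_mul, transpose_mul,
        show ∀ a b c d e : Matrix (Fin 2 × Fin n) (Fin 2 × Fin n) F, a * b * c * (d * e) = a * (b * c * d) * e from
          fun a b c d e => by simp only [mul_assoc],
        permHom_form, coe_blkHom, blockDiagonal_transpose, ← blockDiagonal_mul, ← blockDiagonal_mul]
      exact congrArg blockDiagonal (funext fun k => by rw [conj_J₀, hdet, one_smul])
    have h2 := congrArg (reindexAlgEquiv F F (pairEquiv n)) h1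
    rw [map_mul, map_mul, reindex_J] at h2
    rw [SymplecticGroup.mem_iff]
    exact h2
  let Φ : ↥W →* Matrix.symplecticGroup (Fin n) F :=
    { toFun := fun w => ⟨_, hW w⟩
      map_one' := Subtype.ext (map_one _)
      map_mul' := fun a b => Subtype.ext (map_mul _ _ _) }
  have hΦ : Function.Injective Φ := fun a b h =>
    Subtype.ext (Units.ext ((reindexAlgEquiv F F (pairEquiv n)).injective (congrArg Subtype.val h)))
  refine SqDer.sylow_of_hom Φ hΦ
    (Setup.sqDer_wr ((sqDer_sylow_SL2 F hF S).map _) hTs) ?_ P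
  have hq := Fintype.one_lt_card (α := F)
  have hsq : Fintype.card F ^ 2 % 4 = 1 := by
    obtain ⟨k, hk⟩ := hF
    rw [hk, pow_two, show (2 * k + 1) * (2 * k + 1) = 4 * (k * k + k) + 1 by ring]
    omega
  rw [hWdef, (setup F).card_wr, hQ, Subgroup.card_map_of_injective SpecialLinearGroup.toGL_injective,
    S.card_eq_multiplicity, hT, Fintype.card_fin, ← pow_mul, ← pow_add, GL.card_SL2,
    Forms.card_symplecticGroup]
  congr 1
  have hne : ∀ i : ℕ, Fintype.card F ^ (2 * (i + 1)) - 1 ≠ 0 := fun i => by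
    have := Nat.one_lt_pow (show 2 * (i + 1) ≠ 0 by omega) hq
    omega
  rw [mul_comm _ (∏ i ∈ Finset.range n, _), factorization_two_mul_odd
      (Finset.prod_ne_zero_iff.2 fun i _ => hne i) hF.pow,
    Nat.factorization_prod fun i _ => hne i, Finsupp.finsetSum_apply,
    mul_comm (Fintype.card F), factorization_two_mul_odd (by simpa using hne 0) hF,
    factorization_factorial_eq]
  simp only [pow_mul]
  rw [Finset.sum_congr rfl fun i _ => factorization_pow_sub_one hsq (fun h => hne 0 (by simp [h])) (i + 1) (by omega),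
    Finset.sum_add_distrib, Finset.sum_const, Finset.card_range, smul_eq_mul, mul_comm n]

end Cfsg.Agent.S4624
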