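import Cfsg.Statements.S4626
import Cfsg.Agent.Lib.Blocks.CentralChar
import Cfsg.Agent.Lib.CharInt.Basic

set_option autoImplicit false
open Cfsg

namespace Cfsg.Agent.S4626

theorem exists_mul_of_fixedPointFree {G : Type*} [Group G] [Finite G] (p : ℕ) [Fact p.Prime]
    (P : Sylow p G) (N : Subgroup G) [N.Normal] (hidx : ¬ p ∣ N.index) (g : G)
    (h : ∀ x : G, IsConj g x → x ∉ Subgroup.centralizer ((P : Subgroup G) : Set G)) :
    ∃ k : ℕ, (Subgroup.centralizer ({g} : Set G)).index =
      k * (Subgroup.centralizer ({(g : G ⧸ N)} : Set (G ⧸ N))).index ∧ p ∣ k := by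
  classical
  set π := QuotientGroup.mk' N with hπ
  set B := (Subgroup.centralizer ({(g : G ⧸ N)} : Set (G ⧸ N))).comap π with hB
  set C := Subgroup.centralizer ({g} : Set G) with hC
  have hCB : C ≤ B := fun c hc => Subgroup.mem_centralizer_iff.2 fun w hw => by
    rw [Set.mem_singleton_iff] at hw
    subst hw
    show π g * π c = π c * π g
    rw [← map_mul, ← map_mul, Subgroup.mem_centralizer_iff.1 hc g rfl]
  have hNB : N ≤ B := fun x hx => Subgroup.mem_centralizer_iff.2 fun w _ => by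
    rw [show π x = 1 from (QuotientGroup.eq_one_iff x).2 hx, mul_one, one_mul]
  refine ⟨C.relIndex B, ?_, ?_⟩
  · rw [← Subgroup.relIndex_mul_index hCB, hB,
      Subgroup.index_comap_of_surjective _ (QuotientGroup.mk'_surjective N)]
  · have hPN : (P : Subgroup G) ≤ N := by
      intro x hx
      rw [← QuotientGroup.eq_one_iff, ← orderOf_eq_one_iff]
      obtain ⟨j, hj⟩ := (IsPGroup.iff_orderOf.1 P.isPGroup') ⟨x, hx⟩
      rw [Subgroup.orderOf_mk] at hj
      have h1 : orderOf (x : G ⧸ N) ∣ p ^ j := hj ▸ orderOf_map_dvd π x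
      have h2 : orderOf (x : G ⧸ N) ∣ N.index := orderOf_dvd_natCard _
      exact Nat.eq_one_of_dvd_coprimes
        (Nat.Coprime.pow_left j ((Fact.out : p.Prime).coprime_iff_not_dvd.2 hidx)) h1 h2
    have hPB : (P : Subgroup G) ≤ B := hPN.trans hNB
    letI : MulAction (P : Subgroup G) (B ⧸ C.subgroupOf B) :=
      MulAction.compHom _ (Subgroup.inclusion hPB)
    have hmod := P.isPGroup'.card_modEq_card_fixedPoints (B ⧸ C.subgroupOf B)
    have hempty : MulAction.fixedPoints (P : Subgroup G) (B ⧸ C.subgroupOf B) = ∅ := by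
      rw [Set.eq_empty_iff_forall_notMem]
      intro q hq
      obtain ⟨b, rfl⟩ := QuotientGroup.mk_surjective q
      refine h ((b : G) * g * (b : G)⁻¹) (isConj_iff.2 ⟨b, rfl⟩)
        (Subgroup.mem_centralizer_iff.2 fun u hu => ?_)
      have h1 := QuotientGroup.eq.1 (hq ⟨u, hu⟩).symm
      have h2 := Subgroup.mem_centralizer_iff.1 (Subgroup.mem_subgroupOf.1 h1) g rfl
      have h3 : g * ((b : G)⁻¹ * (u * b)) = ((b : G)⁻¹ * (u * b)) * g := h2
      calc u * ((b : G) * g * (b : G)⁻¹)
          = (b : G) * (((b : G)⁻¹ * (u * b)) * g) * (b : G)⁻¹ := by group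
        _ = (b : G) * (g * ((b : G)⁻¹ * (u * b))) * (b : G)⁻¹ := by rw [h3]
        _ = _ := by group
    rw [hempty] at hmod
    rw [Subgroup.relIndex, Subgroup.index_eq_card]
    simpa [Nat.modEq_zero_iff_dvd] using hmod


/-- Let G be a finite group, p a prime, M a maximal ideal of the algebraic integers containing p, P a Sylow p-subgroup of G and N a normal subgroup of index prime to p containing the centralizer C_G(P). Then every irreducible character of G whose kernel contains N lies in the principal p-block of G. -/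
theorem result {G : Type*} [Group G] [Finite G] (p : ℕ) [Fact p.Prime] (M : Ideal Cfsg.AlgInt) (hM : Cfsg.IsPModular p M) (P : Sylow p G) (N : Subgroup G) [N.Normal] (hidx : ¬ p ∣ N.index)
    (hC : Subgroup.centralizer ((P : Subgroup G) : Set G) ≤ N) (χ : Cfsg.IrrCharacter G) (hker : ∀ n ∈ N, (χ : G → ℂ) n = (χ : G → ℂ) 1) :
    χ ∈ Cfsg.principalBlock M G := by
  classical
  have hC'' : Subgroup.centralizer ((P : Subgroup G) : Set G) ≤ N := hC
  haveI := hM.2.1
  haveI := hM.2.1.isPrime
  haveI hp : Fact p.Prime := ⟨hM.1⟩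
  refine fun g => ?_
  show Cfsg.MemLocalIdeal M
    (Cfsg.centralChar (fun _ : G => (1 : ℂ)) g - Cfsg.centralChar (χ : G → ℂ) g)
  have hone : (χ : G → ℂ) 1 ≠ 0 := Char.IsIrrCharacter.apply_one_ne_zero χ.2
  obtain ⟨n, ρ, hρ, hρc⟩ := χ.2
  have hρN : N ≤ ρ.ker := fun x hx => by
    rw [← CharInt.charKernel_eq_ker ρ ⟨n, ρ, rfl⟩]
    show ρ.character x = ρ.character 1
    rw [hρc]
    exact hker x hx
  let ρ' : Representation ℂ (G ⧸ N) (Fin n → ℂ) := QuotientGroup.lift N ρ hρN
  have hρ' : ρ'.IsIrreducible := by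
    let e : Subrepresentation ρ' ≃o Subrepresentation ρ :=
      { toFun := fun S => ⟨S.toSubmodule, fun x v hv => S.apply_mem_toSubmodule (x : G ⧸ N) hv⟩
        invFun := fun S => ⟨S.toSubmodule, fun x v hv => by
          obtain ⟨y, rfl⟩ := QuotientGroup.mk_surjective x
          exact S.apply_mem_toSubmodule y hv⟩
        left_inv := fun _ => rfl
        right_inv := fun _ => rfl
        map_rel_iff' := Iff.rfl }
    exact (OrderIso.isSimpleOrder_iff e).2 hρ
  let χ' : Cfsg.IrrCharacter (G ⧸ N) := ⟨ρ'.character, n, ρ', hρ', rfl⟩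
  have hval : ∀ x : G, χ'.1 (x : G ⧸ N) = (χ : G → ℂ) x := fun x => by
    rw [← hρc]; rfl
  set C := Subgroup.centralizer ({g} : Set G) with hC
  set m := (Subgroup.centralizer ({(g : G ⧸ N)} : Set (G ⧸ N))).index with hm
  have hcc : Cfsg.centralChar (fun _ : G => (1 : ℂ)) g = (C.index : ℂ) := by
    simp [Cfsg.centralChar, hC]
  by_cases hconj : ∃ x : G, IsConj g x ∧ x ∈ Subgroup.centralizer ((P : Subgroup G) : Set G)
  · obtain ⟨x, hgx, hx⟩ := hconj
    have h1 : (χ : G → ℂ) g = (χ : G → ℂ) 1 := by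
      rw [Char.IsClassFunction.apply_of_isConj
        (Char.IsCharacter.isClassFunction (Char.IsIrrCharacter.isCharacter χ.2)) hgx]
      exact hker x (hC'' hx)
    rw [hcc, Cfsg.centralChar, h1, ← hC, mul_div_assoc, div_self hone, mul_one, sub_self]
    exact Blocks.memLocalIdeal_zero
  · push Not at hconj
    obtain ⟨k, hk, hkp⟩ := exists_mul_of_fixedPointFree p P N hidx g hconj
    have hfac : Cfsg.centralChar (χ : G → ℂ) g = (k : ℂ) * Cfsg.centralChar χ'.1 (g : G ⧸ N) := by
      rw [Cfsg.centralChar, Cfsg.centralChar, hval, ← QuotientGroup.mk_one, hval, hk]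
      push_cast
      ring
    have hmem : Cfsg.MemLocalIdeal M (k : ℂ) :=
      (Blocks.memLocalIdeal_natCast_iff hM.2.2 k).2 hkp
    rw [hcc, hfac]
    refine Blocks.MemLocalIdeal.sub ?_
      (Blocks.MemLocalIdeal.mul_right hmem (Blocks.memLocalRing_centralChar χ' _))
    rw [hC, hk, Nat.cast_mul]
    exact Blocks.MemLocalIdeal.mul_right hmem (Blocks.memLocalRing_natCast _)

end Cfsg.Agent.S4626
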