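import Cfsg.Statements.S4628
import Cfsg.Agent.Lib.SylowSquares.Linear

set_option autoImplicit false
open Cfsg

namespace Cfsg.Agent.S4628

open Matrix Cfsg.Agent.SylowSquares

/-- Let F be a finite field of odd order q with 4 dividing q + 1, and m ≥ 1. Then a Sylow 2-subgroup P of SL_{2m+1}(F) has P/P' elementary abelian: the square of every element of P lies in the derived subgroup of P. -/
theorem result {F : Type*} [Field F] [Fintype F] (hF : Odd (Fintype.card F)) (hq : 4 ∣ Fintype.card F + 1) (m : ℕ) (hm : 1 ≤ m) (P : Sylow 2 (Matrix.SpecialLinearGroup (Fin (2 * m + 1)) F)) :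
    ∀ x : (P : Subgroup (Matrix.SpecialLinearGroup (Fin (2 * m + 1)) F)), x ^ 2 ∈ commutator (P : Subgroup (Matrix.SpecialLinearGroup (Fin (2 * m + 1)) F)) := by
  have hq' : Fintype.card F % 4 = 3 := by omega
  have : Nonempty (Fin m) := Fin.pos_iff_nonempty.1 hm
  obtain ⟨Q, T, hQs, hTs, -, -, hWc⟩ := exists_wr_GL_three_mod F hq' m
  set W := wr (blkHom F (κ := Fin 2) (o := Fin m)) (permHom F (κ := Fin 2)) Q T
  let e : (Fin 2 × Fin m) ⊕ Unit ≃ Fin (2 * m + 1) := Fintype.equivFinOfCardEq (by simp)
  let emb : GL (Fin 2 × Fin m) F →* SpecialLinearGroup (Fin (2 * m + 1)) F :=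
    { toFun := fun A => ⟨reindexAlgEquiv F F e (fromBlocks (A : Matrix (Fin 2 × Fin m) (Fin 2 × Fin m) F) 0 0
          (((GeneralLinearGroup.det A)⁻¹ : Fˣ) • (1 : Matrix Unit Unit F))), by
        rw [det_reindexAlgEquiv, det_fromBlocks_zero₂₁, Units.smul_def, det_smul, det_one,
          Fintype.card_unit, pow_one, mul_one, ← GeneralLinearGroup.val_det_apply, Units.mul_inv]⟩
      map_one' := Subtype.ext (by
        show reindexAlgEquiv F F e _ = 1
        rw [Units.val_one, map_one, inv_one, one_smul, fromBlocks_one, map_one])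
      map_mul' := fun A B => Subtype.ext (by
        show reindexAlgEquiv F F e _ = reindexAlgEquiv F F e _ * reindexAlgEquiv F F e _
        rw [← map_mul, fromBlocks_multiply]
        congr 1
        simp [mul_smul]) }
  refine SqDer.sylow_of_hom (emb.comp W.subtype) (fun a b h => Subtype.ext (Units.ext ?_))
    (Setup.sqDer_wr hQs hTs) ?_ P
  · exact (fromBlocks_inj.1 ((reindexAlgEquiv F F e).injective (congrArg Subtype.val h))).1
  · have h1 := factorization_card_GL_eq (F := F) (ι := Fin (2 * m + 1))
    rw [hWc, card_GL_congr F (ι := Fin 2 × Fin m) (2 * m) (by simp)]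
    rw [factorization_card_GL F hF, Finset.sum_range_succ, ← factorization_card_GL F hF,
      factorization_pow_sub_one_odd hF (by omega) (odd_two_mul_add_one m)] at h1
    congr 1
    omega

end Cfsg.Agent.S4628
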