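import Cfsg.Statements.S4629
import Cfsg.Agent.Lib.SylowSquares.OrthOrders

set_option autoImplicit false
open Cfsg

namespace Cfsg.Agent.S4629

open Cfsg.Agent.SylowSquares

/-- Let F be a finite field of odd order and m ≥ 3. For the commutator subgroup Ω of the isometry group of the non-singular quadratic form x₀² + Σ x_i y_i in dimension 2m + 1 over F, a Sylow 2-subgroup P of Ω has P/P' elementary abelian: the square of every element of P lies in the derived subgroup of P. -/
theorem result {F : Type*} [Field F] [Fintype F] (hF : Odd (Fintype.card F)) (m : ℕ) (hm : 3 ≤ m) (P : Sylow 2 (Cfsg.Omega F (Cfsg.quadFormOdd m F))) : ∀ x : (P : Subgroup (Cfsg.Omega F (Cfsg.quadFormOdd m F))), x ^ 2 ∈ commutator (P : Subgroup (Cfsg.Omega F (Cfsg.quadFormOdd m F))) := by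
  have h2 := Forms.two_ne_zero_of_odd_card hF
  have hc : ⇑(Forms.quadOdd m F) = quadFormOdd m F := funext Forms.quadOdd_apply
  revert P
  rw [← hc]
  refine fun P => sqDer_omega_odd F hF (Forms.quadOdd_nondegenerate h2 m) (m := m) (by omega)
    (by simp; omega) ?_ P
  obtain ⟨hne, hp⟩ := factorization_prod_even_pow F hF m
  rw [Forms.card_isometryGroup (Forms.quadOdd m F) (fun _ => rfl), Forms.card_isomQ_quadOdd h2,
    Nat.factorization_mul (mul_ne_zero two_ne_zero (pow_ne_zero _ Fintype.card_ne_zero)) hne, Finsupp.add_apply,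
    factorization_two_mul_odd two_ne_zero hF.pow, Nat.prime_two.factorization_self, hp, add_comm]

end Cfsg.Agent.S4629
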