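import Cfsg.Statements.S4630
import Cfsg.Agent.Lib.SylowSquares.OrthOrders

set_option autoImplicit false
open Cfsg

namespace Cfsg.Agent.S4630

open Cfsg.Agent.SylowSquares

/-- Let F be a finite field of odd order and m ≥ 1 with m even or m ≥ 4. For the commutator subgroup Ω of the isometry group of the plus-type quadratic form Σ_{i<m} x_i y_i in dimension 2m over F, a Sylow 2-subgroup P of Ω has P/P' elementary abelian: the square of every element of P lies in the derived subgroup of P. -/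
theorem result {F : Type*} [Field F] [Fintype F] (hF : Odd (Fintype.card F)) (m : ℕ) (hm : 1 ≤ m) (hm' : Even m ∨ 4 ≤ m) (P : Sylow 2 (Cfsg.Omega F (Cfsg.quadFormPlus m F))) : ∀ x : (P : Subgroup (Cfsg.Omega F (Cfsg.quadFormPlus m F))), x ^ 2 ∈ commutator (P : Subgroup (Cfsg.Omega F (Cfsg.quadFormPlus m F))) := by
  obtain ⟨k, rfl⟩ : ∃ k, m = k + 1 := ⟨m - 1, by omega⟩
  have hk : 1 ≤ k := by
    rcases hm' with ⟨c, hc⟩ | h <;> omega
  obtain ⟨a, b, hab⟩ := exists_anisotropic_binary F hF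
  obtain ⟨hlt, hor⟩ := even_orders F hF (k := k) hab
  have hc : ⇑(Forms.quadPlus (k + 1) F) = quadFormPlus (k + 1) F := funext Forms.quadPlus_apply
  revert P
  rw [← hc]
  refine fun P => sqDer_omega_even F hF (Forms.quadPlus_nondegenerate (k + 1)) (Forms.quadMinus_nondegenerate k hab)
    hk (by simp; omega) (by simp; omega) rfl rfl hlt ?_ P
  rw [Forms.card_isometryGroup (Forms.quadPlus (k + 1) F) (fun _ => rfl),
    Forms.card_isometryGroup (Forms.quadMinus k F a b) (fun _ => rfl)]
  rcases hor with ⟨h1, h2, -⟩ | ⟨h1, h2, h3⟩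
  · exact Or.inl ⟨h1, h2⟩
  · refine Or.inr ⟨h1, h2, ?_⟩
    rcases hm' with ⟨c, hc'⟩ | h <;> omega

end Cfsg.Agent.S4630
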