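import Cfsg.Statements.S4632
import Cfsg.Agent.Lib.SylowSquares.Octonion
import Cfsg.Agent.Lib.SylowSquares.Two
import Cfsg.Agent.Lib.Forms.QuadOrder

set_option autoImplicit false
open Cfsg

namespace Cfsg.Agent.S4632

open Matrix Cfsg.Agent.SylowSquares Cfsg.Agent.SylowSquares.Octonion
open scoped MatrixGroups commutatorElement

variable {F : Type*} [Field F]

/-- A matrix commuting with an anticommuting pair of square roots of `-1` is scalar. -/
theorem scalar_of_commute (h2 : (2 : F) ≠ 0) {s t : F} (hst : s * s + t * t = -1) {a : M₂ F}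
    (h1 : a * !![0, 1; -1, 0] = !![0, 1; -1, 0] * a) (h3 : a * !![s, t; t, -s] = !![s, t; t, -s] * a) :
    ∃ e : F, a = Matrix.scalar (Fin 2) e := by
  have e00 := congrFun (congrFun h1 0) 0
  have e01 := congrFun (congrFun h1 0) 1
  have f00 := congrFun (congrFun h3 0) 0
  have f01 := congrFun (congrFun h3 0) 1
  simp [Matrix.mul_apply, Fin.sum_univ_two] at e00 e01 f00 f01
  have hq : a 0 1 = 0 := by
    have hqt : 2 * (a 0 1 * t) = 0 := by linear_combination f00 - t * e00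
    have hqs : 2 * (a 0 1 * s) = 0 := by linear_combination -f01 + t * e01
    simp only [mul_eq_zero, h2, false_or] at hqt hqs
    rcases hqt with h | h
    · exact h
    rcases hqs with h' | h'
    · exact h'
    · subst h h'; simp at hst
  refine ⟨a 0 0, ?_⟩
  ext i j
  fin_cases i <;> fin_cases j <;> simp [hq]
  · linear_combination -e00 - hq
  · linear_combination -e01

variable [Fintype F]

/-- A Sylow subgroup of `GL₂` containing the monomial element and normalised data. -/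
theorem exists_gl2_data (hF : Odd (Fintype.card F)) :
    ∃ (Q : Sylow 2 (GL (Fin 2) F)) (γ : Fˣ) (r w : GL (Fin 2) F),
      r ∈ (Q : Subgroup (GL (Fin 2) F)) ∧ w ∈ (Q : Subgroup (GL (Fin 2) F)) ∧
      GeneralLinearGroup.det r = γ ∧ GeneralLinearGroup.det w = 1 ∧
      (∀ g ∈ (Q : Subgroup (GL (Fin 2) F)), GeneralLinearGroup.det g ∈ Subgroup.zpowers γ) ∧
      r * r = GeneralLinearGroup.scalar (Fin 2) γ * ⁅r, w⁆ ∧
      (∀ a : GL (Fin 2) F,
        (∀ x ∈ (Q : Subgroup (GL (Fin 2) F)), GeneralLinearGroup.det x = 1 → a * x = x * a) →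
          ∃ e : Fˣ, a = GeneralLinearGroup.scalar (Fin 2) e) := by
  classical
  have : Fact (Nat.Prime 2) := ⟨Nat.prime_two⟩
  have h2 := Forms.two_ne_zero_of_odd_card hF
  obtain ⟨C⟩ : Nonempty (Sylow 2 Fˣ) := inferInstance
  obtain ⟨γ, hγ⟩ : ∃ γ : Fˣ, (C : Subgroup Fˣ) = Subgroup.zpowers γ := by
    have hcyc : IsCyclic ↥(C : Subgroup Fˣ) := inferInstance
    obtain ⟨g, hg⟩ := hcyc.exists_generator
    refine ⟨g, le_antisymm (fun x hx => ?_) (Subgroup.zpowers_le.2 g.2)⟩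
    obtain ⟨k, hk⟩ := hg ⟨x, hx⟩
    exact ⟨k, by simpa using congrArg Subtype.val hk⟩
  let w : GL (Fin 2) F := GeneralLinearGroup.mkOfDetNeZero !![0, 1; -1, 0] (by simp [det_fin_two_of])
  have hww : w * w = GeneralLinearGroup.scalar (Fin 2) (-1) := Units.ext (by
    ext i j
    fin_cases i <;> fin_cases j <;> simp [w, GeneralLinearGroup.mkOfDetNeZero, Matrix.mul_apply, Fin.sum_univ_two])
  have hwd : ∀ a b : Fˣ, w * GL.diagHom ![a, b] = GL.diagHom ![b, a] * w := fun a b => Units.ext (by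
    ext i j
    fin_cases i <;> fin_cases j <;>
      simp [w, GeneralLinearGroup.mkOfDetNeZero, Matrix.mul_apply, Fin.sum_univ_two, mul_comm])
  set Dg := (funs (o := Fin 2) (C : Subgroup Fˣ)).map (GL.diagHom (ι := Fin 2) (R := F)) with hDg
  have hconj : ∀ x ∈ Dg, w * x * w⁻¹ ∈ Dg := by
    rintro _ ⟨f, hf, rfl⟩
    rw [show f = ![f 0, f 1] from funext fun i => by fin_cases i <;> rfl, hwd, mul_inv_cancel_right]
    exact Subgroup.mem_map_of_mem _ (mem_funs.2 fun i => by fin_cases i <;> simp [mem_funs.1 hf _])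
  have hw4 : w ^ 4 = 1 := by
    rw [show w ^ 4 = (w * w) * (w * w) by rw [show (4 : ℕ) = 2 + 2 from rfl, pow_add, pow_two], hww, ← map_mul]
    simp
  have hnorm : Subgroup.zpowers w ≤ Subgroup.normalizer (Dg : Set (GL (Fin 2) F)) := by
    rw [Subgroup.zpowers_le]
    refine Subgroup.mem_normalizer_iff.2 fun x => ⟨hconj x, fun hx => ?_⟩
    have := hconj _ (hconj _ (hconj _ hx))
    rwa [show w * (w * (w * (w * x * w⁻¹) * w⁻¹) * w⁻¹) * w⁻¹ = w ^ 4 * x * (w ^ 4)⁻¹ by simp [pow_succ, mul_assoc], hw4, one_mul,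
      inv_one, mul_one] at this
  have hpD : IsPGroup 2 ↥Dg := by
    refine IsPGroup.map (fun f => ?_) _
    obtain ⟨k, hk⟩ := C.isPGroup' ⟨_, mem_funs.1 f.2 0⟩
    obtain ⟨l, hl⟩ := C.isPGroup' ⟨_, mem_funs.1 f.2 1⟩
    have hk' : (f.1 0) ^ 2 ^ k = 1 := congrArg Subtype.val hk
    have hl' : (f.1 1) ^ 2 ^ l = 1 := congrArg Subtype.val hl
    refine ⟨k + l, Subtype.ext (funext fun i => ?_)⟩
    fin_cases i
    · show (f.1 0) ^ 2 ^ (k + l) = 1
      rw [pow_add, pow_mul, hk', one_pow]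
    · show (f.1 1) ^ 2 ^ (k + l) = 1
      rw [pow_add, mul_comm, pow_mul, hl', one_pow]
  have hpw : IsPGroup 2 ↥(Subgroup.zpowers w) := by
    obtain ⟨j, -, hj⟩ := (Nat.dvd_prime_pow Nat.prime_two).1 (orderOf_dvd_of_pow_eq_one (show w ^ 2 ^ 2 = 1 from hw4))
    exact IsPGroup.of_card (n := j) (by rw [Nat.card_zpowers, hj])
  obtain ⟨Q, hQ⟩ := (IsPGroup.to_sup_of_normal_left' hpD hpw hnorm).exists_le_sylow
  set r : GL (Fin 2) F := GL.diagHom ![γ, 1] with hr
  have hγC : γ ∈ (C : Subgroup Fˣ) := hγ ▸ Subgroup.mem_zpowers γ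
  refine ⟨Q, γ, r, w, hQ (Subgroup.mem_sup_left (Subgroup.mem_map_of_mem _
    (mem_funs.2 fun i => by fin_cases i <;> simp [hγC]))), hQ (Subgroup.mem_sup_right (Subgroup.mem_zpowers w)),
    by simp [hr, GL.det_diagHom], Units.ext (by simp [w, GeneralLinearGroup.mkOfDetNeZero, det_fin_two_of]), ?_, ?_, ?_⟩
  · intro g hg
    rw [← hγ]
    exact (Q.isPGroup'.map GeneralLinearGroup.det).le_sylow_of_normal C (Subgroup.mem_map_of_mem _ hg)
  · rw [commutatorElement_def, show r * w * r⁻¹ * w⁻¹ = r * (w * r⁻¹ * w⁻¹) by group, hr, ← map_inv,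
      show (![γ, 1] : Fin 2 → Fˣ)⁻¹ = ![γ⁻¹, 1] from funext fun i => by fin_cases i <;> simp, hwd,
      mul_inv_cancel_right]
    refine Units.ext ?_
    ext i j
    fin_cases i <;> fin_cases j <;> simp [Matrix.mul_apply, Fin.sum_univ_two]
  · obtain ⟨a, b, hab⟩ := FiniteField.exists_root_sum_quadratic (f := Polynomial.X ^ 2)
      (g := Polynomial.X ^ 2 + Polynomial.C (1 : F)) (Polynomial.degree_X_pow 2)
      (Polynomial.degree_X_pow_add_C (by norm_num) 1) (Nat.odd_iff.1 hF)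
    have hab' : a * a + b * b = -1 := by
      simp only [Polynomial.eval_add, Polynomial.eval_pow, Polynomial.eval_X, Polynomial.eval_C] at hab
      linear_combination hab
    let y : GL (Fin 2) F := GeneralLinearGroup.mkOfDetNeZero !![a, b; b, -a] (by
      rw [det_fin_two_of, show a * -a - b * b = 1 by linear_combination -hab']; exact one_ne_zero)
    have hyy : y * y = GeneralLinearGroup.scalar (Fin 2) (-1) := Units.ext (by
      ext i j
      fin_cases i <;> fin_cases j <;>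
        simp [y, GeneralLinearGroup.mkOfDetNeZero, Matrix.mul_apply, Fin.sum_univ_two] <;>
        first | ring1 | linear_combination hab')
    have hdw : GeneralLinearGroup.det w = 1 :=
      Units.ext (by simp [w, GeneralLinearGroup.mkOfDetNeZero, det_fin_two_of])
    have hdy : GeneralLinearGroup.det y = 1 := Units.ext (by
      simp [y, GeneralLinearGroup.mkOfDetNeZero, det_fin_two_of]; linear_combination -hab')
    have hyw : y * w * y⁻¹ = w⁻¹ := by
      rw [mul_inv_eq_iff_eq_mul, show w⁻¹ = (w * w)⁻¹ * w by group, hww, ← map_inv, inv_neg_one]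
      refine Units.ext ?_
      ext i j
      fin_cases i <;> fin_cases j <;>
        simp [y, w, GeneralLinearGroup.mkOfDetNeZero, Matrix.mul_apply, Fin.sum_univ_two]
    have hnw : Subgroup.zpowers y ≤ Subgroup.normalizer (Subgroup.zpowers w : Set (GL (Fin 2) F)) := by
      rw [Subgroup.zpowers_le]
      have hmap : (Subgroup.zpowers w).map (MulAut.conj y).toMonoidHom = Subgroup.zpowers w := by
        rw [MonoidHom.map_zpowers, show (MulAut.conj y).toMonoidHom w = w⁻¹ from hyw, Subgroup.zpowers_inv]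
      refine Subgroup.mem_normalizer_iff.2 fun x => ?_
      conv_rhs => rw [← hmap]
      exact (Subgroup.mem_map_iff_mem (f := (MulAut.conj y).toMonoidHom) (MulAut.conj y).injective).symm
    have hy4 : y ^ 2 ^ 2 = 1 := by
      rw [show y ^ 2 ^ 2 = (y * y) * (y * y) by rw [show (2 : ℕ) ^ 2 = 2 + 2 from rfl, pow_add, pow_two], hyy, ← map_mul]
      simp
    have hpy : IsPGroup 2 ↥(Subgroup.zpowers y) := by
      obtain ⟨j, -, hj⟩ := (Nat.dvd_prime_pow Nat.prime_two).1 (orderOf_dvd_of_pow_eq_one hy4)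
      exact IsPGroup.of_card (n := j) (by rw [Nat.card_zpowers, hj])
    obtain ⟨Q₁, hQ₁⟩ := (IsPGroup.to_sup_of_normal_left' hpw hpy hnw).exists_le_sylow
    obtain ⟨g, hg⟩ := MulAction.exists_smul_eq (GL (Fin 2) F) Q₁ Q
    intro c hc
    have hdetconj : ∀ z : GL (Fin 2) F, GeneralLinearGroup.det (g * z * g⁻¹) = GeneralLinearGroup.det z := fun z => by
      rw [map_mul, map_mul, map_inv, mul_right_comm, mul_inv_cancel, one_mul]
    have hmem : ∀ z ∈ (Q₁ : Subgroup (GL (Fin 2) F)), g * z * g⁻¹ ∈ (Q : Subgroup (GL (Fin 2) F)) := by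
      intro z hz
      rw [← hg, Sylow.coe_subgroup_smul]
      exact Subgroup.smul_mem_pointwise_smul z (MulAut.conj g) _ hz
    have hback : ∀ z ∈ (Q₁ : Subgroup (GL (Fin 2) F)), GeneralLinearGroup.det z = 1 →
        (g⁻¹ * c * g) * z = z * (g⁻¹ * c * g) := by
      intro z hz hz1
      have := hc _ (hmem z hz) (by rw [hdetconj, hz1])
      calc g⁻¹ * c * g * z = g⁻¹ * (c * (g * z * g⁻¹)) * g := by group
        _ = g⁻¹ * (g * z * g⁻¹ * c) * g := by rw [this]
        _ = z * (g⁻¹ * c * g) := by group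
    obtain ⟨e, he⟩ := scalar_of_commute h2 hab' (a := ((g⁻¹ * c * g : GL (Fin 2) F) : M₂ F))
      (congrArg Units.val (hback w (hQ₁ (Subgroup.mem_sup_left (Subgroup.mem_zpowers w))) hdw))
      (congrArg Units.val (hback y (hQ₁ (Subgroup.mem_sup_right (Subgroup.mem_zpowers y))) hdy))
    have he0 : e ≠ 0 := fun h => (g⁻¹ * c * g).ne_zero (by rw [he, h, map_zero])
    refine ⟨Units.mk0 e he0, ?_⟩
    have h5 : g⁻¹ * c * g = GeneralLinearGroup.scalar (Fin 2) (Units.mk0 e he0) := Units.ext he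
    calc c = g * (g⁻¹ * c * g) * g⁻¹ := by group
      _ = GeneralLinearGroup.scalar (Fin 2) (Units.mk0 e he0) := by
        rw [h5, show g * GeneralLinearGroup.scalar (Fin 2) (Units.mk0 e he0) =
          GeneralLinearGroup.scalar (Fin 2) (Units.mk0 e he0) * g from Units.ext
            ((Matrix.scalar_commute e (fun _ => Commute.all _ _) _).eq.symm), mul_inv_cancel_right]

/-- Let F be a finite field of odd order and G₂(F) the automorphism group of the split octonion algebra over F (realized on F⁸ with the Zorn vector-matrix multiplication). A Sylow 2-subgroup P of G₂(F) has P/P' elementary abelian: the square of every element of P lies in the derived subgroup of P. -/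
theorem result {F : Type*} [Field F] [Fintype F] (hF : Odd (Fintype.card F)) (P : Sylow 2 (Cfsg.Lie.G2 F)) : ∀ x : (P : Subgroup (Cfsg.Lie.G2 F)), x ^ 2 ∈ commutator (P : Subgroup (Cfsg.Lie.G2 F)) := by
  classical
  have : Fact (Nat.Prime 2) := ⟨Nat.prime_two⟩
  have : Finite ↥(Lie.G2 F) := inferInstance
  have h2 := Forms.two_ne_zero_of_odd_card hF
  obtain ⟨Q, γ, r, w, hrQ, hwQ, hrdet, hwdet, hQdet, hrr, hQcomm⟩ := exists_gl2_data (F := F) hF
  set GG := GL (Fin 2) F × GL (Fin 2) F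
  have hQQ : Nat.card ↥((Q : Subgroup (GL (Fin 2) F)).prod (Q : Subgroup (GL (Fin 2) F))) =
      2 ^ (Nat.card GG).factorization 2 := by
    rw [Nat.card_congr (Subgroup.prodEquiv _ _).toEquiv, Nat.card_prod, Nat.card_prod, Q.card_eq_multiplicity,
      ← pow_add, Nat.factorization_mul Nat.card_pos.ne' Nat.card_pos.ne', Finsupp.add_apply]
  set X := ((Q : Subgroup (GL (Fin 2) F)).prod (Q : Subgroup (GL (Fin 2) F))).subgroupOf (pairs F) with hX
  have hXc : Nat.card ↥X = 2 ^ (Nat.card ↥(pairs F)).factorization 2 := by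
    rw [← card_inf_normal (pairs F) hQQ, hX, ← Subgroup.subgroupOf_map_subtype,
      Subgroup.card_map_of_injective (pairs F).subtype_injective]
  set Φ := pairHom F
  set P₀ := X.map Φ with hP₀
  have hX2 : IsPGroup 2 ↥X := IsPGroup.of_card hXc
  have hP₀2 : IsPGroup 2 ↥P₀ := hX2.map Φ
  -- squares
  have hQ0 : SqDer ↥((Q : Subgroup (GL (Fin 2) F)) ⊓ (GeneralLinearGroup.det : GL (Fin 2) F →* Fˣ).ker) := by
    obtain ⟨S⟩ : Nonempty (Sylow 2 SL(2, F)) := inferInstance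
    have hK := (sqDer_sylow_SL2 F hF S).map (GL.slEquivDetKer (ι := Fin 2) (R := F)).toMonoidHom
    exact SqDer.inf_normal Q (by
      rw [Subgroup.card_map_of_injective (GL.slEquivDetKer (ι := Fin 2) (R := F)).injective, S.card_eq_multiplicity,
        Nat.card_congr (GL.slEquivDetKer (ι := Fin 2) (R := F)).toEquiv]) hK
  set Q₀ := (Q : Subgroup (GL (Fin 2) F)) ⊓ (GeneralLinearGroup.det : GL (Fin 2) F →* Fˣ).ker with hQ₀
  let j₁ : ↥Q₀ →* ↥(pairs F) :=
    ((MonoidHom.inl (GL (Fin 2) F) (GL (Fin 2) F)).comp Q₀.subtype).codRestrict _ fun x =>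
      (mem_pairs F).2 (by simpa using MonoidHom.mem_ker.1 x.2.2)
  let j₂ : ↥Q₀ →* ↥(pairs F) :=
    ((MonoidHom.inr (GL (Fin 2) F) (GL (Fin 2) F)).comp Q₀.subtype).codRestrict _ fun x =>
      (mem_pairs F).2 (by simpa using (MonoidHom.mem_ker.1 x.2.2).symm)
  have hj₁X : ∀ x, Φ (j₁ x) ∈ P₀ := fun x =>
    Subgroup.mem_map_of_mem _ (Subgroup.mem_subgroupOf.2 ⟨x.2.1, one_mem _⟩)
  have hj₂X : ∀ x, Φ (j₂ x) ∈ P₀ := fun x =>
    Subgroup.mem_map_of_mem _ (Subgroup.mem_subgroupOf.2 ⟨one_mem _, x.2.1⟩)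
  have hsq_j : ∀ (j : ↥Q₀ →* ↥(pairs F)), (∀ x, Φ (j x) ∈ P₀) → ∀ x, Φ (j x) ^ 2 ∈ ⁅P₀, P₀⁆ := by
    intro j hj x
    have h1 := Subgroup.mem_map_of_mem (Φ.comp j) (hQ0 x)
    rw [_root_.commutator_def, Subgroup.map_commutator, map_pow] at h1
    refine Subgroup.commutator_mono ?_ ?_ h1 <;> (rintro _ ⟨y, -, rfl⟩; exact hj y)
  let R : ↥(pairs F) := ⟨(r, r), (mem_pairs F).2 rfl⟩
  let Wp : ↥(pairs F) := ⟨(w, w), (mem_pairs F).2 rfl⟩
  have hRX : Φ R ∈ P₀ := Subgroup.mem_map_of_mem _ (Subgroup.mem_subgroupOf.2 ⟨hrQ, hrQ⟩)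
  have hWX : Φ Wp ∈ P₀ := Subgroup.mem_map_of_mem _ (Subgroup.mem_subgroupOf.2 ⟨hwQ, hwQ⟩)
  have hR2 : Φ R ^ 2 ∈ ⁅P₀, P₀⁆ := by
    have h1 : R ^ 2 = ⟨(GeneralLinearGroup.scalar (Fin 2) γ, GeneralLinearGroup.scalar (Fin 2) γ),
        (mem_pairs F).2 rfl⟩ * ⁅R, Wp⁆ := Subtype.ext (Prod.ext ((pow_two r).trans hrr) ((pow_two r).trans hrr))
    have h2' : Φ ⟨(GeneralLinearGroup.scalar (Fin 2) γ, GeneralLinearGroup.scalar (Fin 2) γ),
        (mem_pairs F).2 rfl⟩ = 1 := by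
      refine lin_injective F fun v => ?_
      rw [lin_pairHom, lin_one, pairLin_scalar F, div_self γ.ne_zero, one_smul]
    rw [← map_pow, h1, map_mul, h2', one_mul, map_commutatorElement]
    exact Subgroup.commutator_mem_commutator hRX hWX
  have hs : SqDer ↥P₀ := by
    refine sqDer_of_mem ?_
    rintro _ ⟨⟨⟨a, b⟩, hab⟩, hmem, rfl⟩
    obtain ⟨haQ, hbQ⟩ := Subgroup.mem_subgroupOf.1 hmem
    obtain ⟨k, hk⟩ := Subgroup.mem_zpowers_iff.1 (hQdet a haQ)
    have hab' : GeneralLinearGroup.det a = GeneralLinearGroup.det b := (mem_pairs F).1 hab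
    let x₁ : ↥Q₀ := ⟨a * (r ^ k)⁻¹, Subgroup.mul_mem _ haQ (Subgroup.inv_mem _ (Subgroup.zpow_mem _ hrQ k)), MonoidHom.mem_ker.2 (by
      rw [map_mul, map_inv, map_zpow, hrdet, hk, mul_inv_cancel])⟩
    let x₂ : ↥Q₀ := ⟨b * (r ^ k)⁻¹, Subgroup.mul_mem _ hbQ (Subgroup.inv_mem _ (Subgroup.zpow_mem _ hrQ k)), MonoidHom.mem_ker.2 (by
      rw [map_mul, map_inv, map_zpow, hrdet, hk, ← hab', mul_inv_cancel])⟩
    have hdec : (⟨(a, b), hab⟩ : ↥(pairs F)) = j₁ x₁ * j₂ x₂ * R ^ k :=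
      Subtype.ext (Prod.ext (by simp [j₁, j₂, x₁, x₂, R]) (by simp [j₁, j₂, x₁, x₂, R]))
    rw [hdec, map_mul, map_mul, map_zpow]
    refine mul_sq_mem (mul_mem (hj₁X _) (hj₂X _)) (zpow_mem hRX k)
      (mul_sq_mem (hj₁X _) (hj₂X _) (hsq_j j₁ hj₁X x₁) (hsq_j j₂ hj₂X x₂)) ?_
    rw [← zpow_natCast, ← _root_.zpow_mul, mul_comm, _root_.zpow_mul, zpow_natCast]
    exact zpow_mem hR2 k
  -- centre
  have hz0 : invo F ≠ 1 := fun h => by
    have := congrArg Prod.snd (congrArg (fun g => lin F g ((0 : M₂ F), (1 : M₂ F))) h)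
    simp only [lin_invo, lin_one] at this
    have := congrFun (congrFun this 0) 0
    simp at this
    exact h2 (by linear_combination -this)
  have hnegQ : (-1 : GL (Fin 2) F) ∈ (Q : Subgroup (GL (Fin 2) F)) := by
    have : (Subgroup.zpowers (-1 : GL (Fin 2) F)).Normal := ⟨fun n hn g => by
      obtain ⟨k, rfl⟩ := hn
      rw [show g * (-1) ^ k = (-1) ^ k * g from ((Commute.neg_one_left g).zpow_left k).eq.symm, mul_inv_cancel_right]
      exact Subgroup.zpow_mem _ (Subgroup.mem_zpowers _) k⟩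
    refine (IsPGroup.le_sylow_of_normal ?_ Q) (Subgroup.mem_zpowers (-1 : GL (Fin 2) F))
    obtain ⟨j, -, hj⟩ := (Nat.dvd_prime_pow Nat.prime_two).1
      (orderOf_dvd_of_pow_eq_one (show (-1 : GL (Fin 2) F) ^ 2 ^ 1 = 1 by simp))
    exact IsPGroup.of_card (n := j) (by rw [Nat.card_zpowers, hj])
  have hz0P : invo F ∈ P₀ := Subgroup.mem_map_of_mem _ (Subgroup.mem_subgroupOf.2 ⟨one_mem _, hnegQ⟩)
  have hz0c : ∀ g ∈ (pairHom F).range, Commute g (invo F) := by
    rintro _ ⟨p, rfl⟩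
    refine Commute.map (Subtype.ext (Prod.ext ?_ ?_) : Commute p _) (pairHom F)
    · simp
    · exact Units.ext (by simp)
  have hcent : ∀ z ∈ P₀, (∀ g ∈ P₀, g * z = z * g) → z = 1 ∨ z = invo F := by
    rintro _ ⟨⟨⟨a, b⟩, hab⟩, hmem, rfl⟩ hc
    have hsc : ∀ (j : ↥Q₀ →* ↥(pairs F)), (∀ x, Φ (j x) ∈ P₀) → ∀ x,
        ∃ e : Fˣ, (⁅(⟨(a, b), hab⟩ : ↥(pairs F)), j x⁆ : ↥(pairs F)).1.1 = GeneralLinearGroup.scalar (Fin 2) e ∧
          (⁅(⟨(a, b), hab⟩ : ↥(pairs F)), j x⁆ : ↥(pairs F)).1.2 = GeneralLinearGroup.scalar (Fin 2) e := by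
      intro j hj x
      refine pairHom_ker F ?_
      rw [map_commutatorElement, commutatorElement_eq_one_iff_mul_comm]
      exact (hc _ (hj x)).symm
    obtain ⟨α, hα⟩ := hQcomm a fun x hx hx1 => by
      obtain ⟨e, he1, he2⟩ := hsc j₁ hj₁X ⟨x, hx, MonoidHom.mem_ker.2 hx1⟩
      have he : e = 1 := by
        refine GL.scalar_injective (he2.symm.trans ?_)
        simp [j₁, commutatorElement_def]
      rw [he, map_one] at he1
      exact commutatorElement_eq_one_iff_mul_comm.1 (by simpa [j₁, commutatorElement_def] using he1)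
    obtain ⟨β, hβ⟩ := hQcomm b fun x hx hx1 => by
      obtain ⟨e, he1, he2⟩ := hsc j₂ hj₂X ⟨x, hx, MonoidHom.mem_ker.2 hx1⟩
      have he : e = 1 := by
        refine GL.scalar_injective (he1.symm.trans ?_)
        simp [j₂, commutatorElement_def]
      rw [he, map_one] at he2
      exact commutatorElement_eq_one_iff_mul_comm.1 (by simpa [j₂, commutatorElement_def] using he2)
    have hαβ : (α : F) * α = β * β := by
      have h1 := congrArg Units.val ((mem_pairs F).1 hab)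
      simpa [hα, hβ, det_fin_two, pow_two] using h1
    have hlin : ∀ v, lin F (Φ ⟨(a, b), hab⟩) v = (v.1, ((β : F) / α) • v.2) := fun v => by
      rw [lin_pairHom]
      subst hα hβ
      exact pairLin_scalar F α β v
    rcases mul_self_eq_mul_self_iff.1 hαβ with h | h
    · left
      refine lin_injective F fun v => ?_
      rw [hlin, lin_one, h, div_self β.ne_zero, one_smul]
    · right
      refine lin_injective F fun v => ?_
      rw [hlin, lin_invo, h, div_neg, div_self β.ne_zero, neg_one_smul]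
  -- `P₀` is a Sylow subgroup
  obtain ⟨P₁, hP₁⟩ := hP₀2.exists_le_sylow
  have hP₀eq : (P₁ : Subgroup ↥(Lie.G2 F)) = P₀ := by
    refine le_antisymm ?_ hP₁
    by_contra hne
    have hlt : P₀.subgroupOf P₁ < ⊤ := lt_top_iff_ne_top.2 fun h => hne (Subgroup.subgroupOf_eq_top.1 h)
    have := P₁.isPGroup'.isNilpotent
    obtain ⟨y, hy, hyn⟩ := SetLike.exists_of_lt (Group.normalizerCondition_of_isNilpotent _ hlt)
    have hyP₀ : (y : ↥(Lie.G2 F)) ∉ P₀ := fun h => hyn (Subgroup.mem_subgroupOf.2 h)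
    have hnorm : ∀ g, g ∈ P₀ ↔ (y : ↥(Lie.G2 F)) * g * (y : ↥(Lie.G2 F))⁻¹ ∈ P₀ := by
      intro g
      constructor
      · intro hg
        have := (Subgroup.mem_normalizer_iff.1 hy ⟨g, hP₁ hg⟩).1 (Subgroup.mem_subgroupOf.2 hg)
        simpa [Subgroup.mem_subgroupOf] using this
      · intro hg
        have hgP₁ : g ∈ (P₁ : Subgroup ↥(Lie.G2 F)) := by
          have := mul_mem (mul_mem (inv_mem y.2) (hP₁ hg)) y.2
          simpa [mul_assoc] using this
        exact Subgroup.mem_subgroupOf.1 ((Subgroup.mem_normalizer_iff.1 hy ⟨g, hgP₁⟩).2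
          (Subgroup.mem_subgroupOf.2 hg))
    have hy0 : (y : ↥(Lie.G2 F)) * invo F * (y : ↥(Lie.G2 F))⁻¹ = invo F := by
      have hc0 : ∀ g ∈ P₀, g * ((y : ↥(Lie.G2 F)) * invo F * (y : ↥(Lie.G2 F))⁻¹) =
          (y : ↥(Lie.G2 F)) * invo F * (y : ↥(Lie.G2 F))⁻¹ * g := fun g hg => by
        have hg' : (y : ↥(Lie.G2 F))⁻¹ * g * y ∈ P₀ := (hnorm _).2 (by simpa [mul_assoc] using hg)
        obtain ⟨p, -, hp⟩ := hg'
        have := hz0c _ ⟨p, hp⟩
        have h' := congrArg (fun e => (y : ↥(Lie.G2 F)) * e * (y : ↥(Lie.G2 F))⁻¹) this.eq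
        simpa [mul_assoc] using h'
      rcases hcent _ ((hnorm _).1 hz0P) hc0 with h | h
      · exact absurd (conj_eq_one_iff.1 h) hz0
      · exact h
    obtain ⟨p, hp⟩ := mem_range_of_commute F h2 (g := (y : ↥(Lie.G2 F))) (mul_inv_eq_iff_eq_mul.1 hy0)
    -- inside the range, the image of a Sylow subgroup is a Sylow subgroup
    let S : Sylow 2 ↥Φ.range := (Sylow.ofCard X hXc).mapSurjective Φ.rangeRestrict_surjective
    let T : Subgroup ↥Φ.range := (P₁ : Subgroup ↥(Lie.G2 F)).comap Φ.range.subtype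
    have hT2 : IsPGroup 2 ↥T := P₁.isPGroup'.comap_subtype
    have hle : (S : Subgroup ↥Φ.range) ≤ T := by
      rintro _ ⟨x, hx, rfl⟩
      exact hP₁ ⟨x, hx, rfl⟩
    have heq := S.is_maximal' hT2 hle
    have hyT : (⟨(y : ↥(Lie.G2 F)), p, hp⟩ : ↥Φ.range) ∈ T := y.2
    rw [heq] at hyT
    obtain ⟨x, hx, hxe⟩ := hyT
    exact hyP₀ ⟨x, hx, congrArg Subtype.val hxe⟩
  rw [← hP₀eq] at hs
  exact SqDer.congr (P₁.equiv P) hs

end Cfsg.Agent.S4632
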