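import Cfsg.Statements.S4633
import Cfsg.Agent.Lib.BrauerPairs.LocalFusion
import Cfsg.Agent.Lib.Blocks.FirstMain
import Mathlib.NumberTheory.Basic
import Mathlib.GroupTheory.SpecificGroups.Cyclic

set_option autoImplicit false
open Cfsg Cfsg.Agent Cfsg.Agent.BrauerPairs
open scoped Cfsg.Agent.Blocks

namespace Cfsg.Agent.S4633

/-- Let B be a block of the finite group G relative to a maximal ideal M of the algebraic integers containing the prime p, with a nontrivial cyclic defect group P. Let c be a block of C_G(P) inducing B and T the stabilizer of c in N_G(P) (the elements of N_G(P) conjugating c to itself); T contains C_G(P). Then T/C_G(P) is cyclic of order dividing p − 1, and it acts freely on the non-identity elements of P: an element of T fixing some non-identity element of P under conjugation lies in C_G(P). -/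
theorem result {G : Type*} [Group G] [Finite G] (p : ℕ) [Fact p.Prime] (M : Ideal Cfsg.AlgInt) (hM : Cfsg.IsPModular p M) (B : Set (Cfsg.IrrCharacter G)) (hB : Cfsg.IsPBlock M B) (P : Subgroup G) (hPD : Cfsg.IsDefectGroup p M B P) (hP1 : P ≠ ⊥) (hcyc : IsCyclic P) (c : Set (Cfsg.IrrCharacter (Subgroup.centralizer (P : Set G)))) (hc : Cfsg.IsInducedBlock M (Subgroup.centralizer (P : Set G)) c B) (T : Subgroup G) (hT : ∀ g : G, g ∈ T ↔ (g ∈ Subgroup.normalizer (P : Set G) ∧ Cfsg.StabilizesBlock (Subgroup.centralizer (P : Set G)) c g)) [hn : ((Subgroup.centralizer (P : Set G)).subgroupOf T).Normal] : IsCyclic (T ⧸ (Subgroup.centralizer (P : Set G)).subgroupOf T) ∧ (Subgroup.centralizer (P : Set G)).relIndex T ∣ p - 1 ∧ ∀ g ∈ T, ∀ x ∈ P, x ≠ 1 → g * x * g⁻¹ = x → g ∈ Subgroup.centralizer (P : Set G) := by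
  classical
  letI := Fintype.ofFinite G
  have : M.IsMaximal := hM.2.1
  have : CharP (AlgInt ⧸ M) p := Blocks.charP_residue hM.2.2
  have hblk : ∀ H : Subgroup G, HasBlocks (AlgInt ⧸ M) H := fun H => hasBlocks M H
  have hBi := isBlockIdem_blkG hB
  obtain ⟨e₀, -, hmax₀⟩ := exists_isMax_of_isDefectGroup hB hPD
  have hP : IsPGroup p P := hmax₀.1.1.1
  have hcommP : ∀ x ∈ P, ∀ y ∈ P, x * y = y * x := by
    intro x hx y hy
    obtain ⟨z, hz⟩ := hcyc.exists_generator
    obtain ⟨i, hi⟩ := Subgroup.mem_zpowers_iff.1 (hz ⟨x, hx⟩)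
    obtain ⟨j, hj⟩ := Subgroup.mem_zpowers_iff.1 (hz ⟨y, hy⟩)
    exact congrArg Subtype.val
      (show (⟨x, hx⟩ : P) * ⟨y, hy⟩ = ⟨y, hy⟩ * ⟨x, hx⟩ by rw [← hi, ← hj, ← zpow_add, ← zpow_add, add_comm])
  have hPC : P ≤ Subgroup.centralizer (P : Set G) := fun x hx =>
    Subgroup.mem_centralizer_iff.2 fun y hy => hcommP y hy x hx
  -- `(P, c)` is a pair of `B`
  obtain ⟨χ, hχ⟩ := nonempty_of_isPBlock hB
  have hpairOf : IsBrauerPairOf p M B P c := by
    refine ⟨⟨hP, hc.1⟩, hB, fun ξ hξ => ?_⟩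
    have h1 := Blocks.IsInducedBlock.omega_sub hc hξ hχ (Blocks.isCentralElt_blockIdem B)
      (Blocks.scoeff_blockIdem hB)
    rw [Blocks.omega_blockIdem, if_pos hχ] at h1
    have h2 := Blocks.memLocalIdeal_omega_resH_sub_brH hM.2.2 hP hPC
      (Subgroup.centralizer_le_normalizer _) (Blocks.isCentralElt_blockIdem B)
      (Blocks.scoeff_blockIdem hB) ξ
    have e1 : brauerOmega P (blockCoeff B) ξ.1 =
        Blocks.omega ξ.1 (Blocks.brH P (Subgroup.centralizer (P : Set G)) (Blocks.blockIdem B)) := by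
      haveI := Fintype.ofFinite (Subgroup.centralizer (P : Set G))
      rw [Blocks.omega, Blocks.chiL_eq_sum, brauerOmega, finsum_eq_sum_of_fintype, Finset.sum_div]
      exact Finset.sum_congr rfl fun x _ => by
        rw [Blocks.coeff_brH, if_pos x.2, Blocks.coeff_blockIdem]
    rw [e1]
    simpa using Blocks.MemLocalIdeal.sub h1 h2
  obtain ⟨hcB, hpair⟩ := (isBrauerPairOf_iff hB).1 hpairOf
  have ha : BrauerPairs.IsMax p (blkG M B) (P, blk M _ c) := by
    obtain ⟨g, hg⟩ := exists_conj_ple hblk hBi hmax₀ hpair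
    have e1 := hg.eq_of_fst_eq (Subgroup.eq_of_le_of_card_ge hg.le (BrauerPairs.card_map_conj g P).ge)
    have h := hmax₀.conj hBi g⁻¹
    rwa [← e1, conjPair_inv_conjPair] at h
  obtain rfl := eq_stabOf hcB hT
  have hle : PLE p (P, blk M _ c) (P, blk M _ c) := Relation.ReflTransGen.refl
  have hD : DefectIn p (stabOf P (blk M _ c)) (blk M _ c) (P ⊓ Subgroup.normalizer (P : Set G)) := by
    obtain ⟨x, hx, hD⟩ := exists_conj_defectIn_stabOf hblk hBi ha hle
    have e1 : P.map (MulAut.conj x).toMonoidHom = P :=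
      Subgroup.eq_of_le_of_card_ge hx.le (BrauerPairs.card_map_conj x P).ge
    have e2 : conjEl x (blk M _ c) = blk M _ c := congrArg Prod.snd (hx.eq_of_fst_eq e1)
    rwa [e1, e2] at hD
  have hindex := not_dvd_index_stabOf hblk ha.1.1 hle hD
  rw [inf_eq_left.2 Subgroup.le_normalizer, sup_eq_right.2 hPC] at hindex
  -- the action on a generator
  obtain ⟨z, hz⟩ := hcyc.exists_generator
  have hgen : ∀ y ∈ P, ∃ i : ℤ, ((z : P) : G) ^ i = y := fun y hy => by
    obtain ⟨i, hi⟩ := Subgroup.mem_zpowers_iff.1 (hz ⟨y, hy⟩)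
    exact ⟨i, by simpa using congrArg Subtype.val hi⟩
  obtain ⟨n, hn⟩ := (IsPGroup.iff_orderOf.1 hP) z
  rw [← Subgroup.orderOf_coe] at hn
  have hpow : ∀ (g : G) (a : ℤ), g * z * g⁻¹ = (z : G) ^ a → ∀ m : ℕ, g ^ m * z * (g ^ m)⁻¹ = (z : G) ^ (a ^ m) := by
    intro g a hga m
    induction m with
    | zero => simp
    | succ m ih =>
      calc g ^ (m + 1) * z * (g ^ (m + 1))⁻¹ = g * (g ^ m * z * (g ^ m)⁻¹) * g⁻¹ := by
            rw [pow_succ']; group
        _ = (g * z * g⁻¹) ^ (a ^ m) := by rw [ih, conj_zpow]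
        _ = _ := by rw [hga, ← zpow_mul, pow_succ']
  have hfree : ∀ g ∈ stabOf P (blk M _ c), ∀ x ∈ P, x ≠ 1 → g * x * g⁻¹ = x →
      g ∈ Subgroup.centralizer (P : Set G) := by
    intro g hg x hx hx1 hgx
    obtain ⟨a, ha'⟩ := hgen _ ((Subgroup.mem_normalizer_iff.1 hg.1 z).1 z.2)
    obtain ⟨b, rfl⟩ := hgen x hx
    have hdvd : (p : ℤ) ∣ a - 1 := by
      rw [← conj_zpow, ← ha', ← zpow_mul] at hgx
      by_contra hp'
      refine hx1 ?_
      rw [zpow_eq_zpow_iff_modEq, hn] at hgx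
      have h1 : ((p ^ n : ℕ) : ℤ) ∣ (a - 1) * b := by
        have := hgx.dvd
        rw [show (a - 1) * b = -(b - a * b) by ring]
        exact dvd_neg.2 this
      push_cast at h1
      have hcop : IsCoprime ((p : ℤ) ^ n) (a - 1) :=
        ((Nat.prime_iff_prime_int.1 (Fact.out : p.Prime)).coprime_iff_not_dvd.2 hp').pow_left
      have h2 := hcop.dvd_of_dvd_mul_left h1
      rw [← orderOf_dvd_iff_zpow_eq_one, hn]
      push_cast
      exact h2
    have h1 : ((p : ℤ) ^ (n + 1)) ∣ a ^ p ^ n - 1 := by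
      have := dvd_sub_pow_of_dvd_sub (p := p) hdvd n
      simpa using this
    have hfix : g ^ p ^ n ∈ Subgroup.centralizer (P : Set G) := by
      rw [Subgroup.mem_centralizer_iff]
      intro y hy
      obtain ⟨i, rfl⟩ := hgen y hy
      have h2 : g ^ p ^ n * z * (g ^ p ^ n)⁻¹ = (z : G) := by
        rw [hpow g a ha'.symm]
        conv_rhs => rw [← zpow_one (z : G)]
        rw [zpow_eq_zpow_iff_modEq, hn]
        refine (Int.ModEq.symm ?_)
        rw [Int.modEq_iff_dvd]
        push_cast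
        exact (pow_dvd_pow _ (Nat.le_succ n)).trans h1
      have h3 : g ^ p ^ n * (z : G) ^ i * (g ^ p ^ n)⁻¹ = (z : G) ^ i := by rw [← conj_zpow, h2]
      calc (z : G) ^ i * g ^ p ^ n = g ^ p ^ n * (z : G) ^ i * (g ^ p ^ n)⁻¹ * g ^ p ^ n := by rw [h3]
        _ = _ := inv_mul_cancel_right _ _
    set C' := (Subgroup.centralizer (P : Set G)).subgroupOf (stabOf P (blk M _ c)) with hC'
    have hq : ((⟨g, hg⟩ : stabOf P (blk M _ c)) : stabOf P (blk M _ c) ⧸ C') ^ p ^ n = 1 := by
      rw [← QuotientGroup.mk_pow, QuotientGroup.eq_one_iff]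
      exact hfix
    have hone : ((⟨g, hg⟩ : stabOf P (blk M _ c)) : stabOf P (blk M _ c) ⧸ C') = 1 :=
      orderOf_eq_one_iff.1 (Nat.eq_one_of_dvd_coprimes
        ((((Fact.out : p.Prime).coprime_iff_not_dvd).2 hindex).pow_left n)
        (orderOf_dvd_of_pow_eq_one hq) (orderOf_dvd_natCard _))
    exact (QuotientGroup.eq_one_iff (⟨g, hg⟩ : stabOf P (blk M _ c))).1 hone
  -- a subgroup of order `p`
  have hn0 : n ≠ 0 := by
    rintro rfl
    rw [pow_zero, orderOf_eq_one_iff] at hn
    refine hP1 ((Subgroup.eq_bot_iff_forall P).2 fun y hy => ?_)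
    obtain ⟨i, rfl⟩ := hgen y hy
    rw [hn, one_zpow]
  set y : G := (z : G) ^ p ^ (n - 1) with hy
  have hyP : y ∈ P := pow_mem z.2 _
  have hyord : orderOf y = p := by
    rw [hy, orderOf_pow_of_dvd (pow_ne_zero _ (Fact.out : p.Prime).ne_zero), hn, Nat.pow_div (Nat.sub_le n 1)
      (Fact.out : p.Prime).pos, Nat.sub_sub_self (Nat.one_le_iff_ne_zero.2 hn0), pow_one]
    rw [hn]
    exact pow_dvd_pow p (Nat.sub_le n 1)
  have hy1 : y ≠ 1 := fun h => (Fact.out : p.Prime).ne_one (by rw [← hyord, h, orderOf_one])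
  have hTy : stabOf P (blk M _ c) ≤ Subgroup.normalizer (Subgroup.zpowers y : Set G) := by
    intro g hg
    refine mem_normalizer_of_conj_le fun u hu => ?_
    obtain ⟨i, rfl⟩ := Subgroup.mem_zpowers_iff.1 hu
    obtain ⟨a, ha'⟩ := hgen _ ((Subgroup.mem_normalizer_iff.1 hg.1 z).1 z.2)
    refine Subgroup.mem_zpowers_iff.2 ⟨a * i, ?_⟩
    rw [← conj_zpow, hy, ← conj_pow, ← ha', zpow_mul]
    congr 1
    rw [← zpow_natCast, ← zpow_natCast, ← zpow_mul, ← zpow_mul, mul_comm]
  let ψ : stabOf P (blk M _ c) →* MulAut (Subgroup.zpowers y) :=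
    (Subgroup.zpowers y).normalizerMonoidHom.comp (Subgroup.inclusion hTy)
  have hker : ψ.ker = (Subgroup.centralizer (P : Set G)).subgroupOf (stabOf P (blk M _ c)) := by
    ext ⟨g, hg⟩
    rw [MonoidHom.mem_ker, Subgroup.mem_subgroupOf]
    constructor
    · intro h
      have h1 := congrArg Subtype.val (DFunLike.congr_fun h (⟨y, Subgroup.mem_zpowers y⟩ : Subgroup.zpowers y))
      exact hfree g hg y hyP hy1 h1
    · intro hgC
      refine MulEquiv.ext fun u => Subtype.ext ?_
      show g * (u : G) * g⁻¹ = u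
      rw [← Subgroup.mem_centralizer_iff.1 hgC u
        ((Subgroup.zpowers_le.2 hyP) u.2), mul_inv_cancel_right]
  let e := IsCyclic.mulAutMulEquiv (Subgroup.zpowers y)
  have hcard : Nat.card (Subgroup.zpowers y) = p := by rw [Nat.card_zpowers, hyord]
  let f : stabOf P (blk M _ c) ⧸ (Subgroup.centralizer (P : Set G)).subgroupOf (stabOf P (blk M _ c)) →*
      (ZMod p)ˣ :=
    (Units.map (ZMod.ringEquivCongr hcard).toRingHom.toMonoidHom).comp (e.toMonoidHom.comp
      (QuotientGroup.lift _ ψ hker.ge))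
  have hf : Function.Injective f := by
    refine (Units.map_injective (ZMod.ringEquivCongr hcard).injective).comp (e.injective.comp ?_)
    intro a b hab
    induction a using QuotientGroup.induction_on with | _ a =>
    induction b using QuotientGroup.induction_on with | _ b =>
    simp only [QuotientGroup.lift_mk'] at hab
    rw [QuotientGroup.eq, ← hker, MonoidHom.mem_ker, map_mul, map_inv, hab, inv_mul_cancel]
  refine ⟨isCyclic_of_injective f hf, ?_, hfree⟩
  have h1 := Subgroup.card_dvd_of_injective f hf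
  rwa [Nat.card_eq_fintype_card (α := (ZMod p)ˣ), ZMod.card_units] at h1

end Cfsg.Agent.S4633
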