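import Cfsg.Statements.S4634
import Cfsg.Agent.Lib.Blocks.CyclicDefect.Frobenius

set_option autoImplicit false
open Cfsg

namespace Cfsg.Agent.S4634

/-- Let B be a block of the finite group G relative to a maximal ideal M of the algebraic integers containing the prime p, with a nontrivial cyclic defect group P, let c be a block of C_G(P) inducing B, T the stabilizer of c in N_G(P) and e the index of C_G(P) in T. Let F be any finite group of order #P · e having a cyclic subgroup Q of order #P that is its own centralizer (F is then the semidirect product of Q by a cyclic group of order e acting faithfully). Then there is a perfect isometry from the set of all irreducible characters of F onto B whose signs agree on all the characters of F that do not contain Q in their kernel. -/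
theorem result {G : Type*} [Group G] [Finite G] (p : ℕ) [Fact p.Prime] (M : Ideal Cfsg.AlgInt) (hM : Cfsg.IsPModular p M) (B : Set (Cfsg.IrrCharacter G)) (hB : Cfsg.IsPBlock M B) (P : Subgroup G) (hPD : Cfsg.IsDefectGroup p M B P) (hP1 : P ≠ ⊥) (hcyc : IsCyclic P) (c : Set (Cfsg.IrrCharacter (Subgroup.centralizer (P : Set G)))) (hc : Cfsg.IsInducedBlock M (Subgroup.centralizer (P : Set G)) c B) (T : Subgroup G) (hT : ∀ g : G, g ∈ T ↔ (g ∈ Subgroup.normalizer (P : Set G) ∧ Cfsg.StabilizesBlock (Subgroup.centralizer (P : Set G)) c g)) (e : ℕ) (he : (Subgroup.centralizer (P : Set G)).relIndex T = e) (F : Type*) [Group F] [Finite F] (hF : Nat.card F = Nat.card P * e) (Q : Subgroup F) (hQ : IsCyclic Q) (hQcard : Nat.card Q = Nat.card P) (hQC : Subgroup.centralizer (Q : Set F) = Q) : ∃ (I : Cfsg.IrrCharacter F → Cfsg.IrrCharacter G) (ε : Cfsg.IrrCharacter F → ℤ), Cfsg.IsPerfectIsometry p M (Set.univ : Set (Cfsg.IrrCharacter F)) B I ε ∧ ∀ η η' : Cfsg.IrrCharacter F, (∃ x ∈ Q, (η :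 F → ℂ) x ≠ (η : F → ℂ) 1) → (∃ x ∈ Q, (η' : F → ℂ) x ≠ (η' : F → ℂ) 1) → ε η = ε η' := by
  classical
  letI := Fintype.ofFinite G
  letI := Fintype.ofFinite F
  have : M.IsMaximal := hM.2.1
  have : CharP (AlgInt ⧸ M) p := Blocks.charP_residue hM.2.2
  obtain ⟨a, hPa⟩ := IsPGroup.iff_card.1
    (IsPGroup.of_card (Blocks.card_defectGroup hM.2.2 hB hPD))
  have ha : 1 ≤ a := Nat.one_le_iff_ne_zero.2 fun h => hP1 (by
    rw [← Subgroup.card_eq_one, hPa, h, pow_zero])
  have d := Blocks.CyclicDefect.datum_of_induced hM hB hPD hP1 hcyc hc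
  obtain rfl := BrauerPairs.eq_stabOf d.local_block hT
  subst he
  obtain ⟨θ, -, hθ, ⟨S⟩⟩ := d.exists_shape
  obtain ⟨c', d', θ', hE, hθ', S', hY⟩ := Blocks.CyclicDefect.exists_frobenius_shape hM
    d.inIndex_pos d.dvd_pred ha (hQcard.trans hPa) hQ (by rw [hQcard]; exact hF) hQC
  obtain ⟨I, ε, hI, hεY, hεX⟩ := Blocks.CyclicDefect.exists_isometry hθ hθ' S S' hQcard hE
  refine ⟨I, ε, hI, fun η η' hη hη' => ?_⟩
  have hη0 : ¬ Char.TrivOn Q η.1 := fun h => by
    obtain ⟨x, hx, hne⟩ := hη; exact hne (h x hx)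
  have hη0' : ¬ Char.TrivOn Q η'.1 := fun h => by
    obtain ⟨x, hx, hne⟩ := hη'; exact hne (h x hx)
  by_cases he1 : Blocks.CyclicDefect.inIndex M P c = 1
  · have key : ∀ ξ, ε ξ = S'.sgn₀ * S.sgn₀ := fun ξ => by
      rcases (S'.mem_iff ξ).1 (Set.mem_univ ξ) with h | h
      · obtain ⟨χ, hχ, he⟩ := hεX ξ h
        rw [he, S'.sgn_eq_of_one (hE.trans he1) h, S.sgn_eq_of_one he1 hχ, neg_mul_neg]
      · exact hεY ξ h
    rw [key, key]
  by_cases hY1 : 1 < S'.Y.card
  · rw [hεY η (hY he1 hY1 η hη0), hεY η' (hY he1 hY1 η' hη0')]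
  · refine congrArg ε ?_
    obtain ⟨hn, hidx⟩ := Blocks.CyclicDefect.normal_of_small_index d.inIndex_pos d.dvd_pred
      (hQcard.trans hPa) (by rw [hQcard]; exact hF)
    haveI := hn
    obtain ⟨hK, -⟩ := Blocks.CyclicDefect.card_trivOn (F := F) hQ hQC
    have htot : (Finset.univ : Finset (Cfsg.IrrCharacter F)).card = S'.X.card + S'.Y.card := by
      rw [← Finset.card_union_of_disjoint S'.disj, ← S'.filter_eq]
      simp
    have h := Finset.card_filter_add_card_filter_not (s := (Finset.univ : Finset (Cfsg.IrrCharacter F)))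
      (fun ξ => Char.TrivOn Q ξ.1)
    rw [hK, hidx, htot, S'.card_X, hE] at h
    have h1 : (Finset.univ.filter fun ξ : Cfsg.IrrCharacter F => ¬ Char.TrivOn Q ξ.1).card ≤ 1 := by omega
    exact Finset.card_le_one.1 h1 η (Finset.mem_filter.2 ⟨Finset.mem_univ _, hη0⟩) η'
      (Finset.mem_filter.2 ⟨Finset.mem_univ _, hη0'⟩)

end Cfsg.Agent.S4634
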