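import Cfsg.Statements.S4635
import Cfsg.Agent.Lib.Blocks.CyclicDefect.Isometry
import Cfsg.Agent.Lib.Blocks.CyclicDefect.Correspondent

set_option autoImplicit false
open Cfsg

namespace Cfsg.Agent.S4635

/-- Let B be a block of the finite group G relative to a maximal ideal M of the algebraic integers containing the prime p, with a nontrivial cyclic defect group P; let Z be the subgroup of order p of P and H = N_G(Z), which contains N_G(P). Let c be the block of H with defect group P that induces B. Then B and c contain the same number of irreducible characters, have the same p-regular rank, and there is a perfect isometry from c onto B. -/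
theorem result {G : Type*} [Group G] [Finite G] (p : ℕ) [Fact p.Prime] (M : Ideal Cfsg.AlgInt) (hM : Cfsg.IsPModular p M) (B : Set (Cfsg.IrrCharacter G)) (hB : Cfsg.IsPBlock M B) (P : Subgroup G) (hPD : Cfsg.IsDefectGroup p M B P) (hP1 : P ≠ ⊥) (hcyc : IsCyclic P) (Z : Subgroup G) (hZ : Z ≤ P) (hZcard : Nat.card Z = p) (H : Subgroup G) (hH : H = Subgroup.normalizer (Z : Set G)) (c : Set (Cfsg.IrrCharacter H)) (hcD : Cfsg.IsDefectGroup p M c (P.subgroupOf H)) (hc : Cfsg.IsInducedBlock M H c B) : Nat.card c = Nat.card B ∧ Cfsg.blockRank p c = Cfsg.blockRank p B ∧ ∃ (I : Cfsg.IrrCharacter H → Cfsg.IrrCharacter G) (ε : Cfsg.IrrCharacter H → ℤ), Cfsg.IsPerfectIsometry p M c B I ε := by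
  classical
  letI := Fintype.ofFinite G
  have : M.IsMaximal := hM.2.1
  have : CharP (AlgInt ⧸ M) p := Blocks.charP_residue hM.2.2
  have hNH : Subgroup.normalizer (P : Set G) ≤ H := by
    intro g hg
    rw [hH]
    refine BrauerPairs.mem_normalizer_of_conj_le fun y hy => ?_
    have hle : Z.map (MulAut.conj g).toMonoidHom ≤ P := by
      rintro _ ⟨z, hz, rfl⟩
      exact (Subgroup.mem_normalizer_iff.1 hg z).1 (hZ hz)
    have he := S4645.le_of_card_eq_cyclic hcyc hle hZ (BrauerPairs.card_map_conj g Z).symm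
    exact he.ge ⟨y, hy, rfl⟩
  have hPH : P ≤ H := Subgroup.le_normalizer.trans hNH
  obtain ⟨b, b', d, d', hE⟩ :=
    Blocks.CyclicDefect.exists_datum_pair hM hB hPD hP1 hcyc hNH hcD hc
  obtain ⟨θ, -, hθ, ⟨S⟩⟩ := d.exists_shape
  obtain ⟨θ', -, hθ', ⟨S'⟩⟩ := d'.exists_shape
  obtain ⟨I, ε, hI, -, -⟩ := Blocks.CyclicDefect.exists_isometry hθ hθ' S S'
    (Nat.card_congr (Subgroup.subgroupOfEquivOfLe hPH).toEquiv) hE
  refine ⟨Nat.card_congr (hI.1.equiv I), ?_, I, ε, hI⟩
  rw [S'.rank_eq, S.rank_eq, hE]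

end Cfsg.Agent.S4635
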