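import Cfsg.Statements.S4636
-- import your own Cfsg.Agent.* helpers here

set_option autoImplicit false
open scoped Pointwise
open Cfsg

namespace Cfsg.Agent.S4636

/-- A cyclic group has at most one subgroup of each order. -/
theorem eq_of_card_eq {G : Type*} [Group G] [Finite G] (P : Subgroup G) [IsCyclic P] (A B : Subgroup G)
    (hA : A ≤ P) (hB : B ≤ P) (n : ℕ) (hn : 0 < n) (cA : Nat.card A = n) (cB : Nat.card B = n) : A = B := by
  classical
  have := Fintype.ofFinite P
  have key : ∀ C : Subgroup G, C ≤ P → Nat.card C = n →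
      (Finset.univ.filter fun a : P => (a : G) ∈ C) = Finset.univ.filter fun a : P => a ^ n = 1 := by
    intro C hC cC
    apply Finset.eq_of_subset_of_card_le
    · intro a ha
      simp only [Finset.mem_filter, Finset.mem_univ, true_and] at ha ⊢
      have h := pow_card_eq_one' (x := (⟨(a : G), ha⟩ : C))
      rw [cC] at h
      exact Subtype.ext (by simpa using congrArg Subtype.val h)
    · refine le_trans (IsCyclic.card_pow_eq_one_le hn) (le_of_eq ?_)
      rw [← cC, ← Fintype.card_subtype, ← Nat.card_eq_fintype_card]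
      exact Nat.card_congr
        { toFun := fun c => ⟨⟨c, hC c.2⟩, c.2⟩
          invFun := fun a => ⟨(a.1 : G), a.2⟩
          left_inv := fun c => rfl
          right_inv := fun a => rfl }
  ext g
  constructor
  · intro hg
    have : (⟨g, hA hg⟩ : P) ∈ Finset.univ.filter fun a : P => (a : G) ∈ A := by simp [hg]
    rw [key A hA cA, ← key B hB cB] at this
    simpa using this
  · intro hg
    have : (⟨g, hB hg⟩ : P) ∈ Finset.univ.filter fun a : P => (a : G) ∈ B := by simp [hg]
    rw [key B hB cB, ← key A hA cA] at this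
    simpa using this


/-- Let P be a nontrivial cyclic p-subgroup of the finite group G and Z its subgroup of order p. For every x outside N_G(Z), P meets its conjugate xPx⁻¹ trivially; consequently N_G(Q) ≤ N_G(Z) for every nontrivial subgroup Q of P. -/
theorem result {G : Type*} [Group G] [Finite G] (p : ℕ) [Fact p.Prime] (P : Subgroup G) (hP : IsPGroup p P) (hP1 : P ≠ ⊥) (hcyc : IsCyclic P) (Z : Subgroup G) (hZ : Z ≤ P) (hZcard : Nat.card Z = p) : (∀ x : G, x ∉ Subgroup.normalizer (Z : Set G) → P ⊓ MulAut.conj x • P = ⊥) ∧ ∀ Q : Subgroup G, Q ≤ P → Q ≠ ⊥ → Subgroup.normalizer (Q : Set G) ≤ Subgroup.normalizer (Z : Set G) := by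
  have hmin : ∀ Q : Subgroup G, Q ≤ P → Q ≠ ⊥ → Z ≤ Q := by
    intro Q hQ hQ1
    have : Nontrivial Q := (Subgroup.nontrivial_iff_ne_bot Q).2 hQ1
    obtain ⟨k, hk0, hk⟩ := (IsPGroup.to_le hP hQ).nontrivial_iff_card.1 this
    obtain ⟨y, hy⟩ := exists_prime_orderOf_dvd_card' p (hk ▸ dvd_pow_self p hk0.ne')
    have hy' : Subgroup.zpowers (y : G) ≤ Q := Subgroup.zpowers_le.2 y.2
    have e := eq_of_card_eq P Z _ hZ (hy'.trans hQ) p (Fact.out : p.Prime).pos hZcard
      (by rw [Nat.card_zpowers, Subgroup.orderOf_coe, hy])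
    exact e ▸ hy'
  have key : ∀ x : G, MulAut.conj x • Z = Z → x ∈ Subgroup.normalizer (Z : Set G) := by
    intro x hx
    rw [Subgroup.mem_normalizer_iff]
    intro h
    constructor
    · intro hh
      rw [← hx]
      exact Subgroup.mem_pointwise_smul_iff_inv_smul_mem.2 (by simpa [mul_assoc] using hh)
    · intro hh
      rw [← hx] at hh
      simpa [mul_assoc] using Subgroup.mem_pointwise_smul_iff_inv_smul_mem.1 hh
  constructor
  · intro x hx
    by_contra hne
    have h1 : Z ≤ MulAut.conj x • P := (hmin _ inf_le_left hne).trans inf_le_right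
    have h2 : (MulAut.conj x)⁻¹ • Z ≤ P := Subgroup.subset_pointwise_smul_iff.1 h1
    have h3 : (MulAut.conj x)⁻¹ • Z = Z := by
      refine eq_of_card_eq P _ _ h2 hZ p (Fact.out : p.Prime).pos ?_ hZcard
      rw [← hZcard]
      exact Nat.card_congr (Subgroup.equivSMul (MulAut.conj x)⁻¹ Z).toEquiv.symm
    exact hx (key x (inv_smul_eq_iff.1 h3).symm)
  · intro Q hQ hQ1 x hx
    apply key
    have h1 : MulAut.conj x • Z ≤ MulAut.conj x • Q :=
      Subgroup.pointwise_smul_le_pointwise_smul_iff.2 (hmin Q hQ hQ1)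
    have h2 : MulAut.conj x • Q = Q := by
      ext h
      rw [Subgroup.mem_pointwise_smul_iff_inv_smul_mem]
      simpa [mul_assoc] using (Subgroup.mem_normalizer_iff''.1 hx h).symm
    have h3 : MulAut.conj x • Z ≤ P := (h1.trans_eq h2).trans hQ
    refine eq_of_card_eq P _ _ h3 hZ p (Fact.out : p.Prime).pos ?_ hZcard
    rw [← hZcard]
    exact Nat.card_congr (Subgroup.equivSMul (MulAut.conj x) Z).toEquiv.symm

end Cfsg.Agent.S4636
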