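import Cfsg.Statements.S4637
import Cfsg.Agent.S4511
import Cfsg.Agent.Lib.Blocks.KleinFour
import Cfsg.Agent.Lib.BrauerPairs.LocalFusion
import Cfsg.Agent.Lib.BrauerPairs.LocalBridge
import Cfsg.Agent.Lib.BlockCount.CentralizerBlocks
import Mathlib.GroupTheory.SpecificGroups.KleinFour

set_option autoImplicit false
open Cfsg Cfsg.Agent

namespace Cfsg.Agent.S4637

open scoped Classical Cfsg.Agent.Blocks ComplexConjugate
open Cfsg.Agent.BrauerPairs

universe u

variable {G : Type u} [Group G] [Finite G] {p : ℕ} [Fact p.Prime] {M : Ideal AlgInt} [M.IsMaximal]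

theorem induced_iff_pair [CharP (AlgInt ⧸ M) p] (hpM : (p : AlgInt) ∈ M) {Q H : Subgroup G}
    (hQ : IsPGroup p Q) (hH : H = Subgroup.centralizer (Q : Set G)) (hQH : Q ≤ H)
    {B : Set (IrrCharacter G)} (hB : IsPBlock M B) {b : Set (IrrCharacter H)} (hb : IsPBlock M b) :
    IsInducedBlock M H b B ↔ IsPairOf p (blkG M B) (Q, blk M H b) := by
  subst hH
  have key : IsInducedBlock M _ b B ↔ IsBrauerPairOf p M B Q b := by
    constructor
    · intro h
      refine ⟨⟨hQ, hb⟩, hB, fun ξ hξ => ?_⟩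
      obtain ⟨χ, hχ⟩ := Blocks.block_nonempty hB
      have h1 := Blocks.IsInducedBlock.omega_sub h hξ hχ (Blocks.isCentralElt_blockIdem B)
        (Blocks.scoeff_blockIdem hB)
      rw [Blocks.omega_blockIdem, if_pos hχ] at h1
      have h2 := Blocks.memLocalIdeal_omega_resH_sub_brH hpM hQ hQH
        (Subgroup.centralizer_le_normalizer _) (Blocks.isCentralElt_blockIdem B)
        (Blocks.scoeff_blockIdem hB) ξ
      rw [BlockCount.brauerOmega_eq_omega]
      simpa using Blocks.MemLocalIdeal.sub h1 h2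
    · intro h
      obtain ⟨ξ, hξ⟩ := Blocks.block_nonempty hb
      refine Blocks.isInducedBlock_of_omega hpM hQ le_rfl (Subgroup.centralizer_le_normalizer _)
        hQH hb hξ hB fun hI => ?_
      have h1 := h.2.2 ξ hξ
      rw [BlockCount.brauerOmega_eq_omega] at h1
      exact Blocks.not_memLocalIdeal_one (M := M) (by simpa using Blocks.MemLocalIdeal.sub hI h1)
  rw [key, isBrauerPairOf_iff hB]
  exact ⟨fun h => h.2, fun h => ⟨hb, h⟩⟩

theorem perm_fin_three : ∀ σ : Equiv.Perm (Fin 3), ∀ i, σ i = i → σ * σ * σ = 1 → σ = 1 := by decide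

theorem perm_three {Ω : Type*} [Finite Ω] (h : Nat.card Ω = 3) {σ : Equiv.Perm Ω} {i : Ω}
    (hi : σ i = i) (h3 : σ ^ 3 = 1) : σ = 1 := by
  have e := Finite.equivFinOfCardEq h
  have h1 := perm_fin_three (e.permCongrHom σ) (e i) (by simp [Equiv.permCongrHom, Equiv.permCongr_apply, hi]) (by
    rw [← map_mul, ← map_mul, show σ * σ * σ = σ ^ 3 by rw [pow_succ, pow_two], h3, map_one])
  exact e.permCongrHom.injective (h1.trans (map_one _).symm)

/-- Let B be a block of the finite group G relative to a maximal ideal M of the algebraic integers containing 2, with a Klein four defect group P. Let c be a block of C_G(P) inducing B, T the stabilizer of c in N_G(P) and e the index of C_G(P) in T (the inertial index). Then e is 1 or 3, B contains exactly four irreducible characters, and the 2-regular rank of B (its number of irreducible Brauer characters) equals e. -/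
theorem result {G : Type*} [Group G] [Finite G] (M : Ideal Cfsg.AlgInt) (hM : Cfsg.IsPModular 2 M) (B : Set (Cfsg.IrrCharacter G)) (hB : Cfsg.IsPBlock M B) (P : Subgroup G) (hPD : Cfsg.IsDefectGroup 2 M B P) (hV : IsKleinFour P) (c : Set (Cfsg.IrrCharacter (Subgroup.centralizer (P : Set G)))) (hc : Cfsg.IsInducedBlock M (Subgroup.centralizer (P : Set G)) c B) (T : Subgroup G) (hT : ∀ g : G, g ∈ T ↔ (g ∈ Subgroup.normalizer (P : Set G) ∧ Cfsg.StabilizesBlock (Subgroup.centralizer (P : Set G)) c g)) (e : ℕ) (he : (Subgroup.centralizer (P : Set G)).relIndex T = e) : (e = 1 ∨ e = 3) ∧ Nat.card B = 4 ∧ Cfsg.blockRank 2 B = e := by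
  classical
  haveI : Fact (Nat.Prime 2) := ⟨Nat.prime_two⟩
  haveI := Fintype.ofFinite G
  have : M.IsMaximal := hM.2.1
  have hpM := hM.2.2
  have : CharP (AlgInt ⧸ M) 2 := Blocks.charP_residue hpM
  have hblk : ∀ H : Subgroup G, HasBlocks (AlgInt ⧸ M) H := fun H => hasBlocks M H
  have hBi := isBlockIdem_blkG hB
  -- the group `P`
  have hP4 : Nat.card P = 4 := hV.card_four
  have hsq : ∀ u ∈ P, u * u = 1 := fun u hu => by
    simpa using congrArg Subtype.val (IsKleinFour.mul_self (⟨u, hu⟩ : P))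
  have hord : ∀ u ∈ P, u ≠ 1 → orderOf u = 2 := fun u hu h1 =>
    orderOf_eq_prime (by rw [pow_two]; exact hsq u hu) h1
  have hcommP : ∀ x ∈ P, ∀ y ∈ P, x * y = y * x := fun x hx y hy => by
    have h := hsq _ (mul_mem hx hy)
    calc x * y = x * ((x * y) * (x * y)) * y := by rw [h, mul_one]
      _ = (x * x) * (y * x) * (y * y) := by group
      _ = _ := by rw [hsq x hx, hsq y hy, one_mul, mul_one]
  have hPC : P ≤ Subgroup.centralizer (P : Set G) := fun x hx =>
    Subgroup.mem_centralizer_iff.2 fun y hy => hcommP y hy x hx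
  obtain ⟨e₀, -, hmax₀⟩ := exists_isMax_of_isDefectGroup hB hPD
  have hP : IsPGroup 2 P := hmax₀.1.1.1
  -- `(P, c)` is a maximal pair of `B`
  have hpair := (induced_iff_pair hpM hP rfl hPC hB hc.1).1 hc
  set E := blk M _ c with hEdef
  have ha : BrauerPairs.IsMax 2 (blkG M B) (P, E) := by
    obtain ⟨g, hg⟩ := exists_conj_ple hblk hBi hmax₀ hpair
    have e1 := hg.eq_of_fst_eq (Subgroup.eq_of_le_of_card_ge hg.le (BrauerPairs.card_map_conj g P).ge)
    have h := hmax₀.conj hBi g⁻¹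
    rwa [← e1, conjPair_inv_conjPair] at h
  have hPE := ha.1.1
  obtain rfl := eq_stabOf hc.1 hT
  set T := stabOf P E with hTdef
  have hCT : Subgroup.centralizer (P : Set G) ≤ T := centralizer_le_stabOf hPE.2
  have hindex : ¬ 2 ∣ ((Subgroup.centralizer (P : Set G)).subgroupOf T).index := by
    have hle : PLE 2 (P, E) (P, E) := Relation.ReflTransGen.refl
    obtain ⟨x, hx, hD⟩ := exists_conj_defectIn_stabOf hblk hBi ha hle
    have e1 : P.map (MulAut.conj x).toMonoidHom = P :=
      Subgroup.eq_of_le_of_card_ge hx.le (BrauerPairs.card_map_conj x P).ge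
    have e2 : conjEl x E = E := congrArg Prod.snd (hx.eq_of_fst_eq e1)
    rw [e1, e2] at hD
    have h := not_dvd_index_stabOf hblk hPE hle hD
    rwa [inf_eq_left.2 Subgroup.le_normalizer, sup_eq_right.2 hPC] at h
  -- the action on the three involutions
  let Ω := {u : G // u ∈ P ∧ u ≠ 1}
  have hΩ : Nat.card Ω = 3 := by
    rw [Nat.card_eq_fintype_card, Fintype.card_subtype,
      show Finset.univ.filter (fun u : G => u ∈ P ∧ u ≠ 1) =
        (Finset.univ.filter (· ∈ P)).erase 1 by ext; simp [and_comm],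
      Finset.card_erase_of_mem (by simp [one_mem]), ← Fintype.card_subtype, ← Nat.card_eq_fintype_card]
    rw [show Nat.card {u : G // u ∈ P} = 4 from hP4]
  have hTN : ∀ t ∈ T, ∀ u ∈ P, t * u * t⁻¹ ∈ P := fun t ht u hu =>
    (Subgroup.mem_normalizer_iff.1 ht.1 u).1 hu
  have hne1 : ∀ t u : G, u ≠ 1 → t * u * t⁻¹ ≠ 1 := fun t u hu h => hu (conj_eq_one_iff.1 h)
  let act : T → Ω → Ω := fun t u =>
    ⟨(t : G) * u * (t : G)⁻¹, hTN t t.2 u u.2.1, hne1 _ _ u.2.2⟩
  let ρ : T →* Equiv.Perm Ω :=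
    { toFun := fun t =>
        { toFun := act t
          invFun := act t⁻¹
          left_inv := fun u => Subtype.ext (by simp [act]; group)
          right_inv := fun u => Subtype.ext (by simp [act]; group) }
      map_one' := Equiv.ext fun u => Subtype.ext (by simp [act])
      map_mul' := fun s t => Equiv.ext fun u => Subtype.ext (by simp [act]; group) }
  have hρ : ∀ (t : T) (u : Ω), ((ρ t u : Ω) : G) = (t : G) * u * (t : G)⁻¹ := fun t u => rfl
  have hker : ρ.ker = (Subgroup.centralizer (P : Set G)).subgroupOf T := by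
    ext t
    rw [MonoidHom.mem_ker, Subgroup.mem_subgroupOf, Subgroup.mem_centralizer_iff]
    constructor
    · intro h u hu
      rcases eq_or_ne u 1 with rfl | h1
      · simp
      · have h2 := congrArg Subtype.val (DFunLike.congr_fun h (⟨u, hu, h1⟩ : Ω))
        rw [hρ] at h2
        exact (mul_inv_eq_iff_eq_mul.1 h2).symm
    · exact fun h => Equiv.ext fun u => Subtype.ext (by
        rw [hρ, ← h u u.2.1, mul_inv_cancel_right]; rfl)
  have he' : Nat.card ρ.range = e := by rw [← Subgroup.index_ker, hker]; exact he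
  have hdvd6 : e ∣ 6 := by
    rw [← he']
    have h := ρ.range.card_subgroup_dvd_card
    rwa [Nat.card_perm, hΩ] at h
  have hodd : ¬ 2 ∣ e := by
    rw [← he]; exact hindex
  have he13 : e = 1 ∨ e = 3 := by
    have hle : e ≤ 6 := Nat.le_of_dvd (by norm_num) hdvd6
    interval_cases e <;> omega
  have hfree : ∀ t : T, ∀ u : Ω, ρ t u = u → ρ t = 1 := fun t u h => by
    refine perm_three hΩ h ?_
    have h1 : (⟨ρ t, t, rfl⟩ : ρ.range) ^ e = 1 := he' ▸ pow_card_eq_one'
    have h2 := congrArg Subtype.val h1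
    rcases he13 with h' | h' <;> rw [h'] at h2
    · simp only [SubmonoidClass.coe_pow, pow_one, OneMemClass.coe_one] at h2
      rw [h2, one_pow]
    · simpa using h2
  -- subpairs at the elements of `P`
  have hex : ∀ u : G, ∃ f : MonoidAlgebra (AlgInt ⧸ M) G, u ∈ P →
      PLE 2 (Subgroup.zpowers u, f) (P, E) := fun u => by
    by_cases hu : u ∈ P
    · obtain ⟨f, hf⟩ := exists_ple hblk hPE _ (Subgroup.zpowers_le.2 hu)
      exact ⟨f, fun _ => hf⟩
    · exact ⟨0, fun h => absurd h hu⟩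
  choose fb hfb using hex
  have hcp : ∀ (g u : G) (f : MonoidAlgebra (AlgInt ⧸ M) G),
      conjPair g (Subgroup.zpowers u, f) = (Subgroup.zpowers (g * u * g⁻¹), conjEl g f) :=
    fun g u f => Prod.ext (by
      show (Subgroup.zpowers u).map _ = _
      rw [MonoidHom.map_zpowers]; rfl) rfl
  have hTu : ∀ t ∈ T, ∀ u ∈ P, conjEl t (fb u) = fb (t * u * t⁻¹) := fun t ht u hu => by
    have h := (hfb u hu).conj t
    rw [hcp, show conjPair t (P, E) = (P, E) from
      Prod.ext (map_conj_eq_of_mem_normalizer ht.1) ht.2] at h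
    exact ple_unique hblk hPE _ _ _ h (hfb _ (hTN t ht u hu))
  have hPcent : ∀ u ∈ P, P ≤ Subgroup.centralizer (Subgroup.zpowers u : Set G) := fun u hu =>
    hPC.trans (Subgroup.centralizer_le (SetLike.coe_subset_coe.2 (Subgroup.zpowers_le.2 hu)))
  have hdef : ∀ u ∈ P, DefectIn 2 (Subgroup.centralizer (Subgroup.zpowers u : Set G)) (fb u) P := by
    intro u hu
    have hinf : P ⊓ Subgroup.centralizer (Subgroup.zpowers u : Set G) = P :=
      inf_eq_left.2 (hPcent u hu)
    obtain ⟨x, -, hD⟩ := exists_conj_defectIn_centralizer hblk hBi ha (hfb u hu)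
    have h1 := hD.conj x⁻¹
    rw [conjEl_inv_conjEl, BrauerPairs.map_conj_centralizer, map_conj_map_conj_inv] at h1
    have hne := br_inf_centralizer_ne_zero hblk hPE (hfb u hu)
    rw [hinf] at hne
    refine h1.of_card_le ((hfb u hu).isPair_left hPE).2.mem.2 hPE.1 (hPcent u hu) hne ?_
    rw [BrauerPairs.card_map_conj]
    exact Subgroup.card_le_of_le inf_le_left
  have hfus : ∀ u ∈ P, ∀ u₀ ∈ P, ∀ h : G, h * u * h⁻¹ = u₀ → conjEl h (fb u) = fb u₀ →
      ∃ t ∈ T, t * u * t⁻¹ = u₀ := by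
    intro u hu u₀ hu₀ h hh hf
    have hQ : (Subgroup.zpowers u).map (MulAut.conj h).toMonoidHom = Subgroup.zpowers u₀ := by
      rw [MonoidHom.map_zpowers, ← hh]; rfl
    have hb : BHom 2 P E h (Subgroup.zpowers u) := by
      refine ⟨Subgroup.zpowers_le.2 hu, fb u, hfb u hu, ?_⟩
      rw [hcp, hh, hf]
      exact hfb u₀ hu₀
    have hinf : P ⊓ Subgroup.centralizer (Subgroup.zpowers u₀ : Set G) = P :=
      inf_eq_left.2 (hPcent u₀ hu₀)
    obtain ⟨c, hc', -, r, hr, hr'⟩ := exists_extension_map hblk hBi ha (hfb u₀ hu₀)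
      (hinf.symm ▸ hdef u₀ hu₀) hb hQ (N := P) (Subgroup.zpowers_le.2 hu)
      (le_inf le_rfl ((hPcent u hu).trans (Subgroup.centralizer_le_normalizer _)))
      (by
        refine le_trans ?_ le_sup_right
        refine (Subgroup.map_mono (hPcent u hu)).trans ?_
        rw [BrauerPairs.map_conj_centralizer, hQ])
    obtain rfl : r = E := ple_unique hblk hPE P _ _ hr Relation.ReflTransGen.refl
    have heq : (conjPair (c * h) (P, E)).1 = P :=
      Subgroup.eq_of_le_of_card_ge hr'.le (BrauerPairs.card_map_conj (c * h) P).ge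
    refine ⟨c * h, ⟨mem_normalizer_of_conj_le fun v hv => heq.le ⟨v, hv, rfl⟩,
      congrArg Prod.snd (hr'.eq_of_fst_eq heq)⟩, ?_⟩
    calc c * h * u * (c * h)⁻¹ = c * (h * u * h⁻¹) * c⁻¹ := by group
      _ = _ := by rw [hh, ← Subgroup.mem_centralizer_iff.1 hc' u₀ (Subgroup.mem_zpowers u₀),
            mul_inv_cancel_right]
  -- orbits of pairs
  let Pset : Finset G := Finset.univ.filter (fun u => u ∈ P ∧ u ≠ 1)
  have hPset : Pset.card = 3 := by
    rw [← hΩ, Nat.card_eq_fintype_card, Fintype.card_subtype]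
  let φ : G × G → G × MonoidAlgebra (AlgInt ⧸ M) G := fun q =>
    (q.1 * q.2 * q.1⁻¹, conjEl q.1 (fb q.2))
  let S := ((Finset.univ : Finset G) ×ˢ Pset).image φ
  let Cset : G → Finset G := fun z => Finset.univ.filter (fun a => a * z = z * a)
  have hCset : ∀ z, (Cset z).card = Nat.card (Subgroup.centralizer ({z} : Set G)) := fun z => by
    rw [Nat.card_eq_fintype_card]
    exact (Fintype.card_of_subtype (Cset z) fun a => by
      simp [Cset, Subgroup.mem_centralizer_singleton_iff]).symm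
  let O : G → Finset G := fun u₀ => Pset.filter (fun u => ∃ t ∈ T, t * u * t⁻¹ = u₀)
  have hO : ∀ u₀ ∈ Pset, (O u₀).card = e := by
    intro u₀ hu₀
    let w : Ω := ⟨u₀, (Finset.mem_filter.1 hu₀).2⟩
    rw [← he', Nat.card_eq_fintype_card, ← Finset.card_univ]
    symm
    refine Finset.card_bij (fun σ _ => ((σ.1 w : Ω) : G)) (fun σ _ => ?_) ?_ ?_
    · obtain ⟨_, t, rfl⟩ := σ
      refine Finset.mem_filter.2 ⟨Finset.mem_filter.2 ⟨Finset.mem_univ _, (ρ t w).2⟩, (t : G)⁻¹,
        inv_mem t.2, ?_⟩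
      rw [hρ]
      show (t : G)⁻¹ * ((t : G) * u₀ * (t : G)⁻¹) * ((t : G)⁻¹)⁻¹ = u₀
      group
    · rintro ⟨_, s, rfl⟩ _ ⟨_, t, rfl⟩ _ h
      have h1 : ρ (t⁻¹ * s) w = w := by
        rw [map_mul, Equiv.Perm.mul_apply, show ρ s w = ρ t w from Subtype.ext h, map_inv,
          ← Equiv.Perm.mul_apply, inv_mul_cancel, Equiv.Perm.one_apply]
      refine Subtype.ext ?_
      have h2 := hfree _ w h1
      rw [map_mul, map_inv, inv_mul_eq_one] at h2
      exact h2.symm
    · intro u hu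
      obtain ⟨hu1, t, ht, htu⟩ := Finset.mem_filter.1 hu
      refine ⟨⟨ρ (⟨t, ht⟩⁻¹), _, rfl⟩, Finset.mem_univ _, ?_⟩
      rw [hρ]
      show t⁻¹ * u₀ * t⁻¹⁻¹ = u
      rw [← htu]
      group
  choose! tsel htsel htsel' using fun u₀ u : G => fun h : u ∈ O u₀ => (Finset.mem_filter.1 h).2
  have hfib : ∀ s ∈ S, (((Finset.univ : Finset G) ×ˢ Pset).filter (fun q => φ q = s)).card =
      (Cset s.1).card * e := by
    intro s hs
    obtain ⟨⟨g₀, u₀⟩, hq, rfl⟩ := Finset.mem_image.1 hs
    have hu₀ : u₀ ∈ Pset := (Finset.mem_product.1 hq).2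
    have hu₀P : u₀ ∈ P := (Finset.mem_filter.1 hu₀).2.1
    have hc0 : (Cset (φ (g₀, u₀)).1).card = (Cset u₀).card := by
      refine Finset.card_equiv (MulAut.conj g₀⁻¹).toEquiv fun a => ?_
      simp only [φ, Cset, Finset.mem_filter, Finset.mem_univ, true_and, MulEquiv.toEquiv_eq_coe,
        MulEquiv.coe_toEquiv, MulAut.conj_apply, inv_inv]
      constructor <;> intro h
      · calc g₀⁻¹ * a * g₀ * u₀ = g₀⁻¹ * (a * (g₀ * u₀ * g₀⁻¹)) * g₀ := by group
          _ = g₀⁻¹ * (g₀ * u₀ * g₀⁻¹ * a) * g₀ := by rw [h]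
          _ = _ := by group
      · calc a * (g₀ * u₀ * g₀⁻¹) = g₀ * (g₀⁻¹ * a * g₀ * u₀) * g₀⁻¹ := by group
          _ = g₀ * (u₀ * (g₀⁻¹ * a * g₀)) * g₀⁻¹ := by rw [h]
          _ = _ := by group
    rw [hc0, ← hO u₀ hu₀, ← Finset.card_product]
    have hts : ∀ u ∈ O u₀, conjEl (tsel u₀ u) (fb u) = fb u₀ := fun u hu => by
      rw [hTu _ (htsel u₀ u hu) u (Finset.mem_filter.1 (Finset.mem_filter.1 hu).1).2.1,
        htsel' u₀ u hu]
    symm
    refine Finset.card_bij (fun q _ => (g₀ * q.1 * tsel u₀ q.2, q.2)) (fun q hq => ?_) ?_ ?_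
    · obtain ⟨h1, h2⟩ := Finset.mem_product.1 hq
      have hc1 := (Finset.mem_filter.1 h1).2
      have hfix : conjEl q.1 (fb u₀) = fb u₀ := (centralizer_le_stabOf
        ((hfb u₀ hu₀P).isPair_left hPE).2 (Blocks.centralizer_zpowers_eq.ge
          (Subgroup.mem_centralizer_singleton_iff.2 hc1))).2
      refine Finset.mem_filter.2 ⟨Finset.mem_product.2 ⟨Finset.mem_univ _, (Finset.mem_filter.1 h2).1⟩,
        Prod.ext ?_ ?_⟩
      · show g₀ * q.1 * tsel u₀ q.2 * q.2 * (g₀ * q.1 * tsel u₀ q.2)⁻¹ = g₀ * u₀ * g₀⁻¹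
        calc _ = g₀ * (q.1 * (tsel u₀ q.2 * q.2 * (tsel u₀ q.2)⁻¹) * q.1⁻¹) * g₀⁻¹ := by group
          _ = _ := by rw [htsel' u₀ q.2 h2, hc1, mul_inv_cancel_right]
      · show conjEl (g₀ * q.1 * tsel u₀ q.2) (fb q.2) = conjEl g₀ (fb u₀)
        rw [conjEl_mul, conjEl_mul, hts _ h2, hfix]
    · intro q _ q' _ h
      have h2 := congrArg Prod.snd h
      simp only at h2
      have h1 := congrArg Prod.fst h
      simp only [h2] at h1
      exact Prod.ext (mul_left_cancel (mul_right_cancel h1)) h2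
    · rintro ⟨g, u⟩ hgu
      obtain ⟨h1, h2⟩ := Finset.mem_filter.1 hgu
      have hu := (Finset.mem_product.1 h1).2
      have hz : g * u * g⁻¹ = g₀ * u₀ * g₀⁻¹ := congrArg Prod.fst h2
      have hf : conjEl g (fb u) = conjEl g₀ (fb u₀) := congrArg Prod.snd h2
      have hk : (g₀⁻¹ * g) * u * (g₀⁻¹ * g)⁻¹ = u₀ := by
        calc _ = g₀⁻¹ * (g * u * g⁻¹) * g₀ := by group
          _ = _ := by rw [hz]; group
      obtain ⟨t, ht, htu⟩ := hfus u (Finset.mem_filter.1 hu).2.1 u₀ hu₀P (g₀⁻¹ * g) hk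
        (by rw [conjEl_mul, hf, conjEl_inv_conjEl])
      have hOu : u ∈ O u₀ := Finset.mem_filter.2 ⟨hu, t, ht, htu⟩
      refine ⟨(g₀⁻¹ * g * (tsel u₀ u)⁻¹, u), Finset.mem_product.2 ⟨Finset.mem_filter.2
        ⟨Finset.mem_univ _, ?_⟩, hOu⟩, Prod.ext (by show g₀ * _ * _ = g; group) rfl⟩
      have h3 := htsel' u₀ u hOu
      have h4 : (tsel u₀ u)⁻¹ * u₀ * tsel u₀ u = u := by
        calc _ = (tsel u₀ u)⁻¹ * (tsel u₀ u * u * (tsel u₀ u)⁻¹) * tsel u₀ u := by rw [h3]
          _ = u := by group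
      show g₀⁻¹ * g * (tsel u₀ u)⁻¹ * u₀ = u₀ * (g₀⁻¹ * g * (tsel u₀ u)⁻¹)
      calc _ = g₀⁻¹ * g * ((tsel u₀ u)⁻¹ * u₀ * tsel u₀ u) * (g₀⁻¹ * g)⁻¹ *
            (g₀⁻¹ * g * (tsel u₀ u)⁻¹) := by group
        _ = _ := by rw [h4, hk]
  have hcount : e * ∑ s ∈ S, (Cset s.1).card = 3 * Nat.card G := by
    rw [Finset.mul_sum]
    calc ∑ s ∈ S, e * (Cset s.1).card
        = ∑ s ∈ S, (((Finset.univ : Finset G) ×ˢ Pset).filter (fun q => φ q = s)).card :=
          Finset.sum_congr rfl fun s hs => by rw [hfib s hs, mul_comm]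
      _ = ((Finset.univ : Finset G) ×ˢ Pset).card := (Finset.card_eq_sum_card_image _ _).symm
      _ = _ := by
          rw [Finset.card_product, hPset, Finset.card_univ, Nat.card_eq_fintype_card, mul_comm]
  -- pairs at nontrivial `2`-elements
  let Zs := Finset.univ.filter (fun z : G => z ≠ 1 ∧ ∃ k, orderOf z = 2 ^ k)
  have hSdata : ∀ s ∈ S, orderOf s.1 = 2 ∧ IsPairOf 2 (blkG M B) (Subgroup.zpowers s.1, s.2) ∧
      ∃ D : Subgroup G, Nat.card D = 4 ∧
        DefectIn 2 (Subgroup.centralizer (Subgroup.zpowers s.1 : Set G)) s.2 D := by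
    intro s hs
    obtain ⟨⟨g, u⟩, hq, rfl⟩ := Finset.mem_image.1 hs
    obtain ⟨-, huP, hu1⟩ := Finset.mem_filter.1 (Finset.mem_product.1 hq).2
    refine ⟨?_, ?_, P.map (MulAut.conj g).toMonoidHom, (BrauerPairs.card_map_conj g P).trans hP4, ?_⟩
    · rw [← hord u huP hu1]
      exact orderOf_injective (MulAut.conj g).toMonoidHom (MulAut.conj g).injective u
    · have h := ((ple_isPairOf_iff hBi (hfb u huP)).1 ha.1).conj hBi g
      rwa [hcp] at h
    · have h := (hdef u huP).conj g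
      rwa [BrauerPairs.map_conj_centralizer, MonoidHom.map_zpowers] at h
  have hSmem : ∀ z ∈ Zs, ∀ f, IsPairOf 2 (blkG M B) (Subgroup.zpowers z, f) → (z, f) ∈ S := by
    intro z hz f hf
    obtain ⟨g, hg⟩ := exists_conj_ple hblk hBi ha hf
    rw [hcp] at hg
    have huP : g * z * g⁻¹ ∈ P := hg.le (Subgroup.mem_zpowers _)
    have h1 := ple_unique hblk hPE _ _ _ hg (hfb _ huP)
    refine Finset.mem_image.2 ⟨(g⁻¹, g * z * g⁻¹), Finset.mem_product.2 ⟨Finset.mem_univ _,
      Finset.mem_filter.2 ⟨Finset.mem_univ _, huP, hne1 g z (Finset.mem_filter.1 hz).2.1⟩⟩,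
      Prod.ext (by show g⁻¹ * (g * z * g⁻¹) * g⁻¹⁻¹ = z; group) ?_⟩
    show conjEl g⁻¹ (fb (g * z * g⁻¹)) = f
    rw [← h1, conjEl_inv_conjEl]
  have hblock : ∀ z ∈ Zs, ∀ b : Set (IrrCharacter (Subgroup.centralizer ({z} : Set G))),
      IsInducedBlock M (Subgroup.centralizer ({z} : Set G)) b B →
        orderOf z = 2 ∧ blockDefect 2 b = 2 ∧ blockRank 2 b = 1 := by
    intro z hz b hb
    haveI := Fintype.ofFinite (Subgroup.centralizer ({z} : Set G))
    have hzp := (Finset.mem_filter.1 hz).2.2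
    have hH : Subgroup.centralizer ({z} : Set G) =
        Subgroup.centralizer (Subgroup.zpowers z : Set G) := Blocks.centralizer_zpowers_eq.symm
    have hp := (induced_iff_pair hpM (Blocks.isPGroup_zpowers hzp) hH
      Blocks.zpowers_le_centralizer hB hb.1).1 hb
    obtain ⟨hz2, -, D, hD4, hD⟩ := hSdata _ (hSmem z hz _ hp)
    rw [← hH] at hD
    have hDG := (isDefectGroup_subgroupOf_iff hb.1 hD.2.1).2 hD
    have hd : blockDefect 2 b = 2 := by
      have h := Blocks.card_defectGroup hpM hb.1 hDG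
      rw [Nat.card_congr (Subgroup.subgroupOfEquivOfLe hD.2.1).toEquiv, hD4] at h
      exact Nat.pow_right_injective le_rfl (h.symm.trans (by norm_num))
    refine ⟨hz2, hd, ?_⟩
    have hcard : Nat.card ((Subgroup.zpowers z).subgroupOf (Subgroup.centralizer ({z} : Set G))) = 2 := by
      rw [Nat.card_congr (Subgroup.subgroupOfEquivOfLe Blocks.zpowers_le_centralizer).toEquiv,
        Nat.card_zpowers, hz2]
    refine Blocks.blockRank_eq_one_of_central_half hpM hb.1
      ((Subgroup.zpowers z).subgroupOf (Subgroup.centralizer ({z} : Set G))) ?_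
      (IsPGroup.of_card (n := 1) (by rw [hcard, pow_one])) (by rw [hd, hcard]; norm_num)
    intro a ha'
    refine Subgroup.mem_center_iff.2 fun c => Subtype.ext ?_
    obtain ⟨i, hi⟩ := Subgroup.mem_zpowers_iff.1 (Subgroup.mem_subgroupOf.1 ha')
    show (c : G) * a = a * c
    rw [← hi]
    exact (Commute.zpow_right (Subgroup.mem_centralizer_singleton_iff.1 c.2) i).eq
  -- all four characters have height zero
  set S0 := Finset.univ.filter (fun χ : IrrCharacter G => χ ∈ B ∧ blockHeight 2 B χ.1 = 0)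
  have hS04 : S0.card = 4 := by
    obtain ⟨u, hu⟩ : ∃ u, u ∈ Pset := Finset.card_pos.1 (by rw [hPset]; norm_num)
    obtain ⟨-, huP, hu1⟩ := Finset.mem_filter.1 hu
    haveI := Fintype.ofFinite (Subgroup.centralizer ({u} : Set G))
    have hus : (u, fb u) ∈ S := Finset.mem_image.2 ⟨(1, u),
      Finset.mem_product.2 ⟨Finset.mem_univ _, hu⟩, Prod.ext (by simp [φ]) (by simp [φ, conjEl_one])⟩
    have hH : Subgroup.centralizer ({u} : Set G) =
        Subgroup.centralizer (Subgroup.zpowers u : Set G) := Blocks.centralizer_zpowers_eq.symm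
    obtain ⟨hu2, hpr, -⟩ := hSdata _ hus
    have hfi : IsBlockIdem (Subgroup.centralizer ({u} : Set G)) (fb u) := hH ▸ hpr.1.2
    obtain ⟨b, hb, hbe⟩ := exists_eq_blk (Subgroup.centralizer ({u} : Set G)) hfi
    have hup : ∃ k, orderOf u = 2 ^ k := ⟨1, by rw [hu2, pow_one]⟩
    have hind := (induced_iff_pair hpM (Blocks.isPGroup_zpowers hup) hH
      Blocks.zpowers_le_centralizer hB hb).2 (by rw [hbe]; exact hpr)
    have hzs : u ∈ Zs := Finset.mem_filter.2 ⟨Finset.mem_univ _, hu1, hup⟩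
    obtain ⟨-, hd, hl⟩ := hblock u hzs b hind
    exact (Blocks.subsection_dichotomy hpM hu2 hB hind hl hd).1
  have hh0 : ∀ χ ∈ B, blockHeight 2 B χ.1 = 0 := by
    intro χ hχ
    by_contra hh
    have hvan : ∀ g : G, ¬ IsPRegular 2 g → χ.1 g = 0 := by
      intro g hg
      obtain ⟨z, hz⟩ := Blocks.exists_isPPart (p := 2) g
      have hzs : z ∈ Zs := by
        refine Finset.mem_filter.2 ⟨Finset.mem_univ _, fun h => hg ?_, Blocks.IsPPart.isPElement hz⟩
        obtain ⟨y, hy, -, -, hr⟩ := hz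
        rw [h, one_mul] at hy
        exact hy ▸ hr
      haveI := Fintype.ofFinite (Subgroup.centralizer ({z} : Set G))
      refine Blocks.vanishes_of_regDot_secFun hpM (Blocks.IsPPart.isPElement hz) hB hχ
        (fun b hb => ?_) hz
      obtain ⟨hz2, hd, hl⟩ := hblock z hzs b hb
      exact (Blocks.subsection_dichotomy hpM hz2 hB hb hl hd).2 χ hχ hh
    obtain ⟨Q⟩ := (inferInstance : Nonempty (Sylow 2 G))
    haveI := Fintype.ofFinite (Q : Subgroup G)
    obtain ⟨k, hk⟩ := Char.IsCharacter.exists_nat_classInner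
      (Char.IsCharacter.restrict (Char.irr_isCharacter χ) (Q : Subgroup G))
      (Char.irr_isCharacter (Char.trivialChar (Q : Subgroup G)))
    have hPsing : ∀ y : (Q : Subgroup G), y ≠ 1 → ¬ IsPRegular 2 (y : G) := fun y hy hr => by
      obtain ⟨m, hm⟩ := Q.2 y
      obtain ⟨j, -, hj⟩ := (Nat.dvd_prime_pow Nat.prime_two).1 (orderOf_dvd_of_pow_eq_one hm)
      rw [IsPRegular, Subgroup.orderOf_coe, hj] at hr
      rcases Nat.eq_zero_or_pos j with hj0 | hj0
      · rw [hj0, pow_zero, orderOf_eq_one_iff] at hj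
        exact hy hj
      · exact absurd (dvd_pow_self 2 hj0.ne') hr
    rw [classInner, inv_mul_eq_iff_eq_mul₀ (Nat.cast_ne_zero.2 Nat.card_pos.ne'),
      Finset.sum_eq_single_of_mem (1 : (Q : Subgroup G)) (Finset.mem_univ _) fun y _ hy => by
        rw [hvan y (hPsing y hy), zero_mul]] at hk
    rw [Char.trivialChar_apply, map_one, mul_one, OneMemClass.coe_one,
      Char.apply_one_eq_degree] at hk
    have hdvd : Nat.card (Q : Subgroup G) ∣ Char.degree χ := ⟨k, by exact_mod_cast hk⟩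
    have hd0 := (Char.degree_pos χ).ne'
    have hdeg : (Char.degree χ).factorization 2 = (Nat.card G).factorization 2 := le_antisymm
      ((Nat.factorization_le_iff_dvd hd0 Nat.card_pos.ne').2 (Char.degree_dvd_natCard χ) 2)
      ((Nat.Prime.pow_dvd_iff_le_factorization Nat.prime_two hd0).1
        (Q.card_eq_multiplicity ▸ hdvd))
    have hsing := (Blocks.blockOf_eq_singleton_iff hpM χ).2 hdeg
    rw [← Blocks.block_eq hB hχ] at hsing
    obtain ⟨ψ, hψ, hψ0⟩ := Blocks.exists_height_zero (p := 2) hpM hB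
    rw [hsing] at hψ
    obtain rfl := Set.mem_singleton_iff.1 hψ
    exact hh hψ0
  have hB4 : Nat.card B = 4 := by
    rw [← hS04, Nat.card_eq_fintype_card]
    exact Fintype.card_of_subtype S0 fun χ => by
      simp only [S0, Finset.mem_filter, Finset.mem_univ, true_and]
      exact ⟨fun h => h.1, fun h => ⟨h, hh0 χ h⟩⟩
  -- the rank
  set SB := Finset.univ.filter (· ∈ B) with hSB
  let F : G → ℂ := fun g => ∑ χ ∈ SB, χ.1 g * conj (χ.1 g)
  have hSBc : SB.card = 4 := by
    rw [← hB4, Nat.card_eq_fintype_card, Fintype.card_subtype]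
  have hG0 : (Nat.card G : ℂ) ≠ 0 := Nat.cast_ne_zero.2 Nat.card_pos.ne'
  have hsingsum : ∑ g ∈ Finset.univ.filter (fun g : G => ¬ IsPRegular 2 g), F g =
      (Nat.card G : ℂ) * (4 - (blockRank 2 B : ℂ)) := by
    have h1 : ∑ g : G, F g = (Nat.card G : ℂ) * 4 := by
      rw [Finset.sum_comm, Finset.sum_congr rfl (g := fun _ => (Nat.card G : ℂ)) fun χ _ => ?_,
        Finset.sum_const, hSBc, nsmul_eq_mul, mul_comm]
      · norm_num
      · have h := Char.classInner_irr_self χ.2
        rw [classInner, inv_mul_eq_one₀ hG0] at h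
        exact h.symm
    have h2 := S4511.sum_regular_block (p := 2) hpM hB
    have h3 := Finset.sum_filter_add_sum_filter_not Finset.univ (fun g : G => IsPRegular 2 g) F
    rw [h1, show ∑ g ∈ Finset.univ.filter (fun g : G => IsPRegular 2 g), F g = _ from h2] at h3
    linear_combination h3
  choose pp hpp using fun g : G => Blocks.exists_isPPart (p := 2) g
  have hsec : ∀ z ∈ Zs, ∑ g ∈ (Finset.univ.filter (fun g : G => ¬ IsPRegular 2 g)).filter
      (fun g => pp g = z), F g = ((Cset z).card : ℂ) * (S.filter (fun s => s.1 = z)).card := by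
    intro z hz
    obtain ⟨-, hz1, hzp⟩ := Finset.mem_filter.1 hz
    rw [show (Finset.univ.filter (fun g : G => ¬ IsPRegular 2 g)).filter (fun g => pp g = z) =
      Finset.univ.filter (fun g => IsPPart 2 g z) by
        ext g
        simp only [Finset.mem_filter, Finset.mem_univ, true_and]
        constructor
        · rintro ⟨-, rfl⟩; exact hpp g
        · intro h
          refine ⟨fun hr => hz1 ?_, Blocks.IsPPart.unique (hpp g) h⟩
          exact Blocks.IsPPart.unique h ⟨g, one_mul g, Commute.one_left g, ⟨0, by simp⟩, hr⟩]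
    rw [S4511.sum_section hpM hB hzp, hCset]
    congr 2
    have hH : Subgroup.centralizer ({z} : Set G) =
        Subgroup.centralizer (Subgroup.zpowers z : Set G) := Blocks.centralizer_zpowers_eq.symm
    rw [finsum_mem_eq_sum_of_inter_support_eq _
      (t := Finset.univ.filter fun b => IsInducedBlock M (Subgroup.centralizer ({z} : Set G)) b B)
      (by ext b; simp), Finset.sum_congr rfl (g := fun _ => 1)
      fun b hb => (hblock z hz b (Finset.mem_filter.1 hb).2).2.2, Finset.sum_const, smul_eq_mul,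
      mul_one]
    refine Finset.card_bij (fun b _ => (z, blk M _ b)) (fun b hb => ?_) ?_ ?_
    · have hb' := (Finset.mem_filter.1 hb).2
      exact Finset.mem_filter.2 ⟨hSmem z hz _ ((induced_iff_pair hpM (Blocks.isPGroup_zpowers hzp)
        hH Blocks.zpowers_le_centralizer hB hb'.1).1 hb'), rfl⟩
    · intro b hb b' hb' h
      exact blk_injective _ (Finset.mem_filter.1 hb).2.1 (Finset.mem_filter.1 hb').2.1
        (congrArg Prod.snd h)
    · rintro ⟨z', f⟩ hs
      obtain ⟨hsS, rfl⟩ := Finset.mem_filter.1 hs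
      obtain ⟨-, hpr, -⟩ := hSdata _ hsS
      have hfi : IsBlockIdem (Subgroup.centralizer ({z'} : Set G)) f := hH ▸ hpr.1.2
      obtain ⟨b, hb, hbe⟩ := exists_eq_blk (Subgroup.centralizer ({z'} : Set G)) hfi
      exact ⟨b, Finset.mem_filter.2 ⟨Finset.mem_univ _, (induced_iff_pair hpM
        (Blocks.isPGroup_zpowers hzp) hH Blocks.zpowers_le_centralizer hB hb).2
        (by rw [hbe]; exact hpr)⟩, by rw [hbe]⟩
  have htot : (Nat.card G : ℂ) * (4 - (blockRank 2 B : ℂ)) = ((∑ s ∈ S, (Cset s.1).card : ℕ) : ℂ) := by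
    rw [← hsingsum, ← Finset.sum_fiberwise_of_maps_to (t := Zs) (g := pp) (fun g hg => ?_),
      Finset.sum_congr rfl hsec, ← Finset.sum_fiberwise_of_maps_to (t := Zs) (g := Prod.fst)
        (s := S) (fun s hs => ?_), Nat.cast_sum]
    · refine Finset.sum_congr rfl fun z hz => ?_
      rw [Finset.sum_congr rfl (g := fun _ => (Cset z).card) fun s hs => by
        rw [(Finset.mem_filter.1 hs).2], Finset.sum_const, smul_eq_mul]
      push_cast
      ring
    · have h := (hSdata s hs).1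
      refine Finset.mem_filter.2 ⟨Finset.mem_univ _, fun h1 => ?_, 1, by rw [h, pow_one]⟩
      rw [h1, orderOf_one] at h
      exact absurd h (by norm_num)
    · refine Finset.mem_filter.2 ⟨Finset.mem_univ _, fun h1 => ?_, Blocks.IsPPart.isPElement (hpp g)⟩
      obtain ⟨y, hy, -, -, hr⟩ := hpp g
      rw [h1, one_mul] at hy
      exact (Finset.mem_filter.1 hg).2 (hy ▸ hr)
  refine ⟨he13, hB4, ?_⟩
  have h1 : ((e * ∑ s ∈ S, (Cset s.1).card : ℕ) : ℂ) = ((3 * Nat.card G : ℕ) : ℂ) := by rw [hcount]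
  rw [Nat.cast_mul, ← htot] at h1
  push_cast at h1
  have h2 : (e : ℂ) * (4 - (blockRank 2 B : ℂ)) = 3 := mul_left_cancel₀ hG0 (by linear_combination h1)
  rcases he13 with h | h <;> subst h <;> push_cast at h2
  · have : ((blockRank 2 B : ℕ) : ℂ) = ((1 : ℕ) : ℂ) := by push_cast; linear_combination -h2
    exact_mod_cast this
  · have : ((blockRank 2 B : ℕ) : ℂ) = ((3 : ℕ) : ℂ) := by
      push_cast; linear_combination (-(1 : ℂ) / 3) * h2
    exact_mod_cast this

end Cfsg.Agent.S4637
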