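import Cfsg.Statements.S4638
import Cfsg.Agent.Lib.BlocksX.KleinIsometry
import Cfsg.Agent.Lib.BlocksX.InducedNested

set_option autoImplicit false
open Cfsg

namespace Cfsg.Agent.S4638

open scoped Cfsg.Agent.Blocks

/-- Let B be a block of the finite group G relative to a maximal ideal M of the algebraic integers containing 2, with a Klein four defect group P, and let c be its Brauer correspondent: the block of N_G(P) with defect group P that induces B. Then there is a perfect isometry from c onto B. -/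
theorem result {G : Type*} [Group G] [Finite G] (M : Ideal Cfsg.AlgInt) (hM : Cfsg.IsPModular 2 M) (B : Set (Cfsg.IrrCharacter G)) (hB : Cfsg.IsPBlock M B) (P : Subgroup G) (hPD : Cfsg.IsDefectGroup 2 M B P) (hV : IsKleinFour P) (c : Set (Cfsg.IrrCharacter (Subgroup.normalizer (P : Set G)))) (hcD : Cfsg.IsDefectGroup 2 M c (P.subgroupOf (Subgroup.normalizer (P : Set G)))) (hc : Cfsg.IsInducedBlock M (Subgroup.normalizer (P : Set G)) c B) : ∃ (I : Cfsg.IrrCharacter (Subgroup.normalizer (P : Set G)) → Cfsg.IrrCharacter G) (ε : Cfsg.IrrCharacter (Subgroup.normalizer (P : Set G)) → ℤ), Cfsg.IsPerfectIsometry 2 M c B I ε := by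
  classical
  haveI := Fintype.ofFinite G
  haveI : Fact (Nat.Prime 2) := ⟨Nat.prime_two⟩
  haveI : M.IsMaximal := hM.2.1
  haveI : CharP (Cfsg.AlgInt ⧸ M) 2 := Blocks.charP_residue hM.2.2
  haveI := Fintype.ofFinite (Subgroup.normalizer (P : Set G))
  have hpM := hM.2.2
  have hPN : P ≤ (Subgroup.normalizer (P : Set G)) := Subgroup.le_normalizer
  set P' := P.subgroupOf (Subgroup.normalizer (P : Set G)) with hP'
  have hV' : IsKleinFour P' :=
    ⟨(Nat.card_congr (Subgroup.subgroupOfEquivOfLe hPN).toEquiv).trans hV.card_four,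
      (Monoid.exponent_eq_of_mulEquiv (Subgroup.subgroupOfEquivOfLe hPN)).trans hV.exponent_two⟩
  have hcB := hc.1
  have hP'p : IsPGroup 2 P' := IsPGroup.of_card (n := 2) (by rw [hV'.card_four]; norm_num)
  set K' := Subgroup.centralizer (P' : Set (Subgroup.normalizer (P : Set G))) with hK'
  obtain ⟨b', hb'⟩ : ∃ b', Cfsg.IsInducedBlock M K' b' c := S4642.exists_inducing_centralizer hpM hP'p hcB hcD
    ⟨1, by rw [map_one]; exact (Subgroup.map_id _).le⟩
  have hK : K'.map (Subgroup.normalizer (P : Set G)).subtype = Subgroup.centralizer (P : Set G) := by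
    refine le_antisymm ?_ fun g hg => ?_
    · rintro _ ⟨k, hk, rfl⟩
      refine Subgroup.mem_centralizer_iff.2 fun q hq => ?_
      exact congrArg Subtype.val (Subgroup.mem_centralizer_iff.1 hk ⟨q, hPN hq⟩
        (Subgroup.mem_subgroupOf.2 hq))
    · exact ⟨⟨g, Subgroup.centralizer_le_normalizer _ hg⟩,
        Subgroup.mem_centralizer_iff.2 fun q hq => Subtype.ext
          (Subgroup.mem_centralizer_iff.1 hg q (Subgroup.mem_subgroupOf.1 hq)), rfl⟩
  set e := (K'.equivMapOfInjective (Subgroup.normalizer (P : Set G)).subtype (Subgroup.normalizer (P : Set G)).subtype_injective).symm with he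
  set b := BrauerPairs.mapBlock e b' with hb
  have hbblock : Cfsg.IsPBlock M b := BrauerPairs.isPBlock_mapBlock e hb'.1
  have hPC : P ≤ Subgroup.centralizer (P : Set G) := fun x hx =>
    Subgroup.mem_centralizer_iff.2 fun y hy => by
      exact congrArg Subtype.val (show (⟨y, hy⟩ : P) * ⟨x, hx⟩ = ⟨x, hx⟩ * ⟨y, hy⟩ from
        mul_comm_of_exponent_two hV.exponent_two _ _)
  have hP : IsPGroup 2 P := IsPGroup.of_card (n := 2) (by rw [hV.card_four]; norm_num)
  obtain ⟨B'', hB''⟩ := Blocks.inducedBlockDefined_of_le hpM hP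
    hK.ge (hK.le.trans (Subgroup.centralizer_le_normalizer _)) (hPC.trans hK.ge) hbblock
  have hBB : B'' = B := Blocks.IsInducedBlock.unique (BlocksX.isInducedBlock_trans hb' hB'') hc
  rw [hBB] at hB''
  -- the two stabilisers
  have hstab : ∀ n : (Subgroup.normalizer (P : Set G)), Cfsg.StabilizesBlock K' b' n →
      Cfsg.StabilizesBlock (K'.map (Subgroup.normalizer (P : Set G)).subtype) b (n : G) := by
    rintro n ⟨-, hn⟩
    refine ⟨?_, ?_⟩
    · rw [hK]
      exact BrauerPairs.normalizer_le_normalizer_centralizer P n.2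
    · rintro _ ⟨η, hη, rfl⟩
      obtain ⟨η', hη', hconj⟩ := hn η hη
      refine ⟨BrauerPairs.compIrr e η', ⟨η', hη', rfl⟩, fun k k' hk => ?_⟩
      rw [BrauerPairs.compIrr_apply, BrauerPairs.compIrr_apply]
      refine hconj (e k) (e k') (Subtype.ext ?_)
      have h1 : ∀ w : (K'.map (Subgroup.normalizer (P : Set G)).subtype : Subgroup G), (((e w : K') : (Subgroup.normalizer (P : Set G))) : G) = (w : G) := fun w =>
        congrArg Subtype.val ((K'.equivMapOfInjective (Subgroup.normalizer (P : Set G)).subtype (Subgroup.normalizer (P : Set G)).subtype_injective).apply_symm_apply w)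
      push_cast
      rw [h1, h1]
      exact hk
  have hstab' : ∀ n : (Subgroup.normalizer (P : Set G)), Cfsg.StabilizesBlock (K'.map (Subgroup.normalizer (P : Set G)).subtype) b (n : G) →
      Cfsg.StabilizesBlock K' b' n := by
    rintro n ⟨-, hn⟩
    refine ⟨BrauerPairs.normalizer_le_normalizer_centralizer P' (Subgroup.mem_normalizer_iff.2 fun q => ?_),
      fun η hη => ?_⟩
    · simp only [hP', Subgroup.mem_subgroupOf]
      exact Subgroup.mem_normalizer_iff.1 n.2 (q : G)
    · obtain ⟨_, ⟨η', hη', rfl⟩, hconj⟩ := hn _ ⟨η, hη, rfl⟩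
      refine ⟨η', hη', fun k k' hk => ?_⟩
      have h := hconj (e.symm k) (e.symm k') (by
        show ((k' : (Subgroup.normalizer (P : Set G))) : G) = (n : G) * ((k : (Subgroup.normalizer (P : Set G))) : G) * (n : G)⁻¹
        rw [hk]; push_cast; rfl)
      rwa [BrauerPairs.compIrr_apply, BrauerPairs.compIrr_apply, MulEquiv.apply_symm_apply,
        MulEquiv.apply_symm_apply] at h
  -- the rank
  set T' := BrauerPairs.stabOf P' (BrauerPairs.blk M K' b')
  have hT' : ∀ g : (Subgroup.normalizer (P : Set G)), g ∈ T' ↔ g ∈ Subgroup.normalizer (P' : Set (Subgroup.normalizer (P : Set G))) ∧ Cfsg.StabilizesBlock K' b' g :=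
    fun g => by
      rw [BrauerPairs.mem_stabOf]
      exact and_congr_right fun hg => (BrauerPairs.stabilizesBlock_iff hb'.1
        (BrauerPairs.normalizer_le_normalizer_centralizer P' hg)).symm
  obtain ⟨he'13, hkc, hlc⟩ := S4637.result M hM c hcB P' hcD hV' b' hb' T' hT' _ rfl
  have hBside : ∀ (C : Subgroup G) (b₀ : Set (Cfsg.IrrCharacter C)),
      C = Subgroup.centralizer (P : Set G) → Cfsg.IsInducedBlock M C b₀ B →
      (∀ n : (Subgroup.normalizer (P : Set G)), Cfsg.StabilizesBlock K' b' n ↔ Cfsg.StabilizesBlock C b₀ (n : G)) →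
      ∃ l, (l = 1 ∨ l = 3) ∧ Nat.card B = 4 ∧ Cfsg.blockRank 2 B = l ∧
        (l = 1 ↔ K'.relIndex T' = 1) := by
    rintro C b₀ rfl hb₀ hst
    set T := BrauerPairs.stabOf P (BrauerPairs.blk M _ b₀)
    have hT : ∀ g : G, g ∈ T ↔ g ∈ (Subgroup.normalizer (P : Set G)) ∧
        Cfsg.StabilizesBlock (Subgroup.centralizer (P : Set G)) b₀ g := fun g => by
      rw [BrauerPairs.mem_stabOf]
      exact and_congr_right fun hg => (BrauerPairs.stabilizesBlock_iff hb₀.1
        (BrauerPairs.normalizer_le_normalizer_centralizer P hg)).symm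
    obtain ⟨h13, h4, hl⟩ := S4637.result M hM B hB P hPD hV b₀ hb₀ T hT _ rfl
    refine ⟨_, h13, h4, hl, ?_⟩
    rw [Subgroup.relIndex_eq_one, Subgroup.relIndex_eq_one]
    constructor
    · intro h n hn
      have h1 := h ((hT (n : G)).2 ⟨n.2, (hst n).1 ((hT' n).1 hn).2⟩)
      exact Subgroup.mem_centralizer_iff.2 fun q hq => Subtype.ext
        (Subgroup.mem_centralizer_iff.1 h1 q (Subgroup.mem_subgroupOf.1 hq))
    · intro h g hg
      obtain ⟨hgN, hgs⟩ := (hT g).1 hg
      have h1 := h ((hT' ⟨g, hgN⟩).2 ⟨Subgroup.mem_normalizer_iff.2 fun q => by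
        simp only [hP', Subgroup.mem_subgroupOf]
        exact Subgroup.mem_normalizer_iff.1 hgN (q : G), (hst ⟨g, hgN⟩).2 hgs⟩)
      exact Subgroup.mem_centralizer_iff.2 fun q hq => congrArg Subtype.val
        (Subgroup.mem_centralizer_iff.1 h1 ⟨q, hPN hq⟩ (Subgroup.mem_subgroupOf.2 hq))
  obtain ⟨l, hl13, hkB, hlB, hiff⟩ :=
    hBside _ b hK hB'' fun n => ⟨hstab n, hstab' n⟩
  have hll : K'.relIndex T' = l := by
    rcases hl13 with h | h <;> rcases he'13 with h' | h' <;> rw [h] at hiff ⊢ <;> rw [h'] at hiff ⊢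
    · exact absurd (hiff.1 rfl) (by norm_num)
    · exact absurd (hiff.2 rfl) (by norm_num)
  exact BlocksX.Klein.exists_isometry hpM hB hPD hV hcB hcD hV' hkB hkc hlB (hlc.trans hll) hl13

end Cfsg.Agent.S4638
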