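import Cfsg.Statements.S4641
import Cfsg.Agent.Lib.BrauerChar.Block

set_option autoImplicit false
open Cfsg

namespace Cfsg.Agent.S4641

open Cfsg.Agent.Blocks in
/-- Let B be a block of the finite group G relative to a maximal ideal M of the algebraic integers containing the prime p, let p^a be the p-part of the order of G and p^d the order of a defect group D of B, and let g be the greatest common divisor of the degrees of the members of B. Then the p-part of g is exactly p^(a−d), and writing g = p^(a−d)·u there is a positive integer v, prime to p and at least the p-regular rank of B (its number of irreducible Brauer characters), with Σ_{χ ∈ B} χ(1)² = p^(2a−d)·u²·v. -/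
theorem result {G : Type*} [Group G] [Finite G] (p : ℕ) [Fact p.Prime] (M : Ideal Cfsg.AlgInt) (hM : Cfsg.IsPModular p M) (B : Set (Cfsg.IrrCharacter G)) (hB : Cfsg.IsPBlock M B) (D : Subgroup G) (hD : Cfsg.IsDefectGroup p M B D) (a d : ℕ) (ha : (Nat.card G).factorization p = a) (hd : Nat.card D = p ^ d) (g : ℕ) (hg1 : ∀ χ ∈ B, g ∣ Cfsg.charDegree (χ : G → ℂ)) (hg2 : ∀ g' : ℕ, (∀ χ ∈ B, g' ∣ Cfsg.charDegree (χ : G → ℂ)) → g' ∣ g) : g.factorization p = a - d ∧ ∃ v : ℕ, 0 < v ∧ ¬ p ∣ v ∧ Cfsg.blockRank p B ≤ v ∧ ∑ᶠ χ ∈ B, Cfsg.charDegree (χ : G → ℂ) ^ 2 = p ^ (2 * a - d) * (g / p ^ (a - d)) ^ 2 * v := by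
  classical
  letI := Fintype.ofFinite G
  haveI : M.IsMaximal := hM.2.1
  haveI : CharP (AlgInt ⧸ M) p := charP_residue hM.2.2
  have hpM := hM.2.2
  have hp : p.Prime := Fact.out
  obtain ⟨g₀, hg₀⟩ := exists_defectClass hB
  set e := (Subgroup.centralizer ({g₀} : Set G)).index.factorization p with he
  have hinf := sInf_degree_eq hpM hB hg₀
  have had : a = e + d := by
    have h1 : d = blockDefect p B := Nat.pow_right_injective hp.two_le
      (hd.symm.trans (card_defectGroup hpM hB hD))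
    rw [h1, blockDefect_eq hpM hB hg₀, ← ha, ← factorization_index (p := p)
      (Subgroup.centralizer ({g₀} : Set G)), add_comm]
  have hae : a - d = e := by omega
  have hle : ∀ χ ∈ B, p ^ e ∣ Char.degree χ := fun χ hχ =>
    (hp.pow_dvd_iff_le_factorization (Char.degree_pos χ).ne').2
      (factorization_index_le_degree hpM χ (hg₀.2.2 χ hχ))
  obtain ⟨χ₀, hχ₀, hh⟩ := exists_height_zero hpM hB (p := p)
  have hχ₀e := (blockHeight_eq_zero_iff hpM hB hg₀ hχ₀).1 hh
  have hg0 : g ≠ 0 := fun h => (Char.degree_pos χ₀).ne' (by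
    simpa [h, charDegree_eq] using hg1 χ₀ hχ₀)
  have hgfac : g.factorization p = e := by
    refine le_antisymm ?_ ((hp.pow_dvd_iff_le_factorization hg0).1
      (hg2 _ fun χ hχ => by rw [charDegree_eq]; exact hle χ hχ))
    rw [he, ← hχ₀e]
    exact (Nat.factorization_le_iff_dvd hg0 (Char.degree_pos χ₀).ne').2
      (charDegree_eq χ₀ ▸ hg1 χ₀ hχ₀) p
  refine ⟨by rw [hgfac, hae], ?_⟩
  haveI := isAlgClosed_residue (M := M)
  haveI : FiniteDimensional (AlgInt ⧸ M) (MonoidAlgebra (AlgInt ⧸ M) G) := TwoChars.moduleFinite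
  obtain ⟨S⟩ := BrauerChar.nonempty_simples (k := AlgInt ⧸ M) (R := MonoidAlgebra (AlgInt ⧸ M) G)
  set u := g / p ^ e with hu
  have hgu : p ^ e * u = g := Nat.mul_div_cancel' ((hp.pow_dvd_iff_le_factorization hg0).2 hgfac.ge)
  have hpu : Nat.Coprime (p ^ a) u := by
    refine Nat.Coprime.pow_left _ ((hp.coprime_iff_not_dvd).2 ?_)
    rw [hu, ← hgfac]
    exact Nat.not_dvd_ordCompl hp hg0
  have hdeg : ∀ χ ∈ B, g ∣ Char.degree χ := fun χ hχ => charDegree_eq χ ▸ hg1 χ hχ
  have hterm : ∀ i ∈ BrauerChar.simplesIn S B, ∃ w : ℕ, 0 < w ∧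
      S.d i * BrauerChar.projDeg S i = p ^ (2 * a - d) * u ^ 2 * w := by
    intro i hi
    have hi' := (BrauerChar.mem_simplesIn S).1 hi
    obtain ⟨x, hx⟩ := BrauerChar.dvd_simple_dim S hpM hB hdeg hi'
    have h1 : p ^ a * u ∣ BrauerChar.projDeg S i :=
      hpu.mul_dvd_of_dvd_of_dvd (ha ▸ BrauerChar.pow_dvd_projDeg S i)
        (dvd_trans ⟨p ^ e, by rw [mul_comm, hgu]⟩ (BrauerChar.dvd_projDeg S hB hdeg hi'))
    obtain ⟨z, hz⟩ := h1
    refine ⟨x * z, Nat.mul_pos (Nat.pos_of_ne_zero fun h => ?_) (Nat.pos_of_ne_zero fun h => ?_), ?_⟩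
    · exact (S.pos i).ne' (by rw [hx, h, mul_zero])
    · exact (BrauerChar.projDeg_pos S i).ne' (by rw [hz, h, mul_zero])
    · rw [hx, hz, ← hgu, show 2 * a - d = e + a by omega, pow_add]
      ring
  choose! w hw0 hw using hterm
  have hT : ∑ᶠ χ ∈ B, charDegree (χ : G → ℂ) ^ 2 =
      p ^ (2 * a - d) * u ^ 2 * ∑ i ∈ BrauerChar.simplesIn S B, w i := by
    rw [finsum_mem_eq_sum_of_inter_support_eq (t := Finset.univ.filter (· ∈ B)) _ (by ext; simp),
      Finset.sum_congr rfl fun χ _ => by rw [charDegree_eq χ],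
      BrauerChar.sum_sq_eq S hpM hB, Finset.mul_sum]
    exact Finset.sum_congr rfl hw
  have hndvd : ¬ p ^ (a + e + 1) ∣
      ∑ χ ∈ Finset.univ.filter (· ∈ B), Char.degree χ ^ 2 := by
    refine BrauerChar.not_dvd_sum_sq hpM hB ha hle hχ₀ fun h => ?_
    have := (hp.pow_dvd_iff_le_factorization (Char.degree_pos χ₀).ne').1 h
    omega
  have hsum : ∑ χ ∈ Finset.univ.filter (· ∈ B), Char.degree χ ^ 2 =
      p ^ (2 * a - d) * u ^ 2 * ∑ i ∈ BrauerChar.simplesIn S B, w i := by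
    rw [BrauerChar.sum_sq_eq S hpM hB, Finset.mul_sum]
    exact Finset.sum_congr rfl hw
  have hpv : ¬ p ∣ ∑ i ∈ BrauerChar.simplesIn S B, w i := fun h => hndvd (by
    rw [hsum, show a + e + 1 = (2 * a - d) + 1 by omega, pow_succ, mul_assoc (p ^ (2 * a - d))]
    exact mul_dvd_mul_left _ (dvd_mul_of_dvd_right h _))
  refine ⟨∑ i ∈ BrauerChar.simplesIn S B, w i, Nat.pos_of_ne_zero fun h => hpv (h ▸ dvd_zero p),
    hpv, ?_, by rw [hae]; exact hT⟩
  refine (BrauerChar.blockRank_le_card S hpM hB).trans ?_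
  rw [Finset.card_eq_sum_ones]
  exact Finset.sum_le_sum fun i hi => hw0 i hi

end Cfsg.Agent.S4641
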