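import Cfsg.Statements.S4644
import Cfsg.Agent.Lib.Watanabe.Main
import Cfsg.Agent.Lib.Blocks.FirstMain

set_option autoImplicit false
open Cfsg Cfsg.Agent Cfsg.Agent.BrauerPairs
open scoped Cfsg.Agent.Blocks

namespace Cfsg.Agent.S4644

/-- Let B be a block of the finite group G relative to a maximal ideal M of the algebraic integers containing the prime p, with a commutative defect group P; let c be a block of C_G(P) inducing B and T the stabilizer of c in N_G(P). Let u be an element of P fixed under conjugation by every element of T, H = C_G(u) (so C_G(P) ≤ H), and f the block of H induced by c inside H. Then B and f have the same p-regular rank and the same number of irreducible characters. -/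
theorem result {G : Type*} [Group G] [Finite G] (p : ℕ) [Fact p.Prime] (M : Ideal Cfsg.AlgInt) (hM : Cfsg.IsPModular p M) (B : Set (Cfsg.IrrCharacter G)) (hB : Cfsg.IsPBlock M B) (P : Subgroup G) (hPD : Cfsg.IsDefectGroup p M B P) (hPab : ∀ x ∈ P, ∀ y ∈ P, x * y = y * x) (c : Set (Cfsg.IrrCharacter (Subgroup.centralizer (P : Set G)))) (hc : Cfsg.IsInducedBlock M (Subgroup.centralizer (P : Set G)) c B) (T : Subgroup G) (hT : ∀ g : G, g ∈ T ↔ (g ∈ Subgroup.normalizer (P : Set G) ∧ Cfsg.StabilizesBlock (Subgroup.centralizer (P : Set G)) c g)) (u : G) (hu : u ∈ P) (huT : ∀ g ∈ T, g * u * g⁻¹ = u) (H : Subgroup G) (hH : H = Subgroup.centralizer ({u} : Set G)) (f : Set (Cfsg.IrrCharacter H)) (hf : Cfsg.IsInducedBlockIn M H (Subgroup.centralizer (P : Set G)) c f) : Cfsg.blockRank p B = Cfsg.blockRank p f ∧ Nat.card B = Nat.card f := by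
  classical
  letI := Fintype.ofFinite G
  have : M.IsMaximal := hM.2.1
  have : CharP (AlgInt ⧸ M) p := Blocks.charP_residue hM.2.2
  have hblk : ∀ K : Subgroup G, HasBlocks (AlgInt ⧸ M) K := fun K => hasBlocks M K
  have hBi := isBlockIdem_blkG hB
  obtain ⟨e₀, -, hmax₀⟩ := exists_isMax_of_isDefectGroup hB hPD
  have hP : IsPGroup p P := hmax₀.1.1.1
  have hPC : P ≤ Subgroup.centralizer (P : Set G) := fun x hx =>
    Subgroup.mem_centralizer_iff.2 fun y hy => hPab y hy x hx
  obtain ⟨χ, hχ⟩ := nonempty_of_isPBlock hB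
  have hpairOf : IsBrauerPairOf p M B P c := by
    refine ⟨⟨hP, hc.1⟩, hB, fun ξ hξ => ?_⟩
    have h1 := Blocks.IsInducedBlock.omega_sub hc hξ hχ (Blocks.isCentralElt_blockIdem B)
      (Blocks.scoeff_blockIdem hB)
    rw [Blocks.omega_blockIdem, if_pos hχ] at h1
    have h2 := Blocks.memLocalIdeal_omega_resH_sub_brH hM.2.2 hP hPC
      (Subgroup.centralizer_le_normalizer _) (Blocks.isCentralElt_blockIdem B)
      (Blocks.scoeff_blockIdem hB) ξ
    have e1 : brauerOmega P (blockCoeff B) ξ.1 =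
        Blocks.omega ξ.1 (Blocks.brH P (Subgroup.centralizer (P : Set G)) (Blocks.blockIdem B)) := by
      haveI := Fintype.ofFinite (Subgroup.centralizer (P : Set G))
      rw [Blocks.omega, Blocks.chiL_eq_sum, brauerOmega, finsum_eq_sum_of_fintype, Finset.sum_div]
      exact Finset.sum_congr rfl fun x _ => by
        rw [Blocks.coeff_brH, if_pos x.2, Blocks.coeff_blockIdem]
    rw [e1]
    simpa using Blocks.MemLocalIdeal.sub h1 h2
  obtain ⟨hcB, hpair⟩ := (isBrauerPairOf_iff hB).1 hpairOf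
  have ha : BrauerPairs.IsMax p (blkG M B) (P, blk M _ c) := by
    obtain ⟨g, hg⟩ := exists_conj_ple hblk hBi hmax₀ hpair
    have e1 := hg.eq_of_fst_eq (Subgroup.eq_of_le_of_card_ge hg.le (BrauerPairs.card_map_conj g P).ge)
    have h := hmax₀.conj hBi g⁻¹
    rwa [← e1, conjPair_inv_conjPair] at h
  have hTeq : T = stabOf P (blk M _ c) := eq_stabOf hcB hT
  have hK : H = Subgroup.centralizer ((Subgroup.zpowers u : Subgroup G) : Set G) := by
    rw [hH, Blocks.centralizer_zpowers_eq]
  have hu' : Subgroup.zpowers u ≤ P := Subgroup.zpowers_le.2 hu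
  obtain ⟨fq, hfq⟩ := exists_ple hblk ha.1.1 _ hu'
  have hst := step_of_ple_comm hblk ha.1.1 hPC hfq
  obtain ⟨f', hf', hf'e⟩ := exists_eq_blk H (hK ▸ (hfq.isPair_left ha.1.1).2)
  have hPH : P ≤ H := hK ▸ le_centralizer_of_le_comm hPC hu'
  have hCH : Subgroup.centralizer (P : Set G) ≤ H := hK ▸ Subgroup.centralizer_le hu'
  have hff : f = f' := isInducedBlockIn_unique hf
    (isInducedBlockIn_of_br hP hPH hCH hcB hf' (by rw [hf'e]; exact hst.2.2.2.2.2))
  subst hff
  obtain ⟨h1, h2⟩ := Watanabe.rho_kap_eq ha.1.1 hK hf' (by rw [hf'e]; exact hfq)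
  obtain ⟨h3, h4⟩ := Watanabe.rho_kap_fixed hM.2.2 hB ha hPC hu
    (fun t ht => huT t (hTeq ▸ ht))
  exact ⟨h3.trans h1.symm, h4.trans h2.symm⟩

end Cfsg.Agent.S4644
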