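import Cfsg.Statements.S4645
import Cfsg.Agent.S4633
import Cfsg.Agent.Lib.BrauerPairs.AbelianDefect
import Cfsg.Agent.Lib.BrauerPairs.InducedIn
import Cfsg.Agent.Lib.BrauerPairs.NilpotentBlock
import Cfsg.Agent.Lib.Blocks.NilpotentRank.Main

set_option autoImplicit false
open Cfsg Cfsg.Agent Cfsg.Agent.BrauerPairs
open scoped Cfsg.Agent.Blocks

namespace Cfsg.Agent.S4645

theorem le_of_card_eq_cyclic {G : Type*} [Group G] [Finite G] {P A A' : Subgroup G} (hcyc : IsCyclic P)
    (hA : A ≤ P) (hA' : A' ≤ P) (hcard : Nat.card A' = Nat.card A) : A' = A := by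
  classical
  letI := Fintype.ofFinite P
  refine Subgroup.eq_of_le_of_card_ge (fun x hx => ?_) hcard.ge
  by_contra hxA
  have h := IsCyclic.card_pow_eq_one_le (α := P) (n := Nat.card A) Nat.card_pos
  let S : Finset P := Finset.univ.filter fun y : P => (y : G) ∈ A
  have hS : S.card = Nat.card A := by
    rw [← Fintype.card_subtype, ← Nat.card_eq_fintype_card]
    exact Nat.card_congr ⟨fun y => ⟨y.1.1, y.2⟩, fun a => ⟨⟨a.1, hA a.2⟩, a.2⟩, fun _ => rfl, fun _ => rfl⟩
  have hsub : insert (⟨x, hA' hx⟩ : P) S ⊆ Finset.univ.filter fun y : P => y ^ Nat.card A = 1 := by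
    intro y hy
    simp only [Finset.mem_filter, Finset.mem_univ, true_and]
    apply Subtype.ext
    simp only [SubmonoidClass.coe_pow, OneMemClass.coe_one]
    rcases Finset.mem_insert.1 hy with rfl | hy
    · exact congrArg Subtype.val (show (⟨x, hx⟩ : A') ^ Nat.card A = 1 from hcard ▸ pow_card_eq_one')
    · exact congrArg Subtype.val
        (show (⟨(y : G), (Finset.mem_filter.1 hy).2⟩ : A) ^ Nat.card A = 1 from pow_card_eq_one')
  have h2 := (Finset.card_le_card hsub).trans h
  have hnot : (⟨x, hA' hx⟩ : P) ∉ S := fun hh => hxA (Finset.mem_filter.1 hh).2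
  rw [Finset.card_insert_of_notMem hnot, hS] at h2
  omega

/-- Let B be a block of the finite group G relative to a maximal ideal M of the algebraic integers containing the prime p, with a nontrivial cyclic defect group P; let c be a block of C_G(P) inducing B and T the stabilizer of c in N_G(P). Let Q be a nontrivial subgroup of P (so C_G(P) ≤ C_G(Q)), f the block of C_G(Q) induced by c inside C_G(Q), and T' the stabilizer of f in N_G(Q). Then T' = T·C_G(Q), the index of C_G(Q) in T' equals the index of C_G(P) in T, f has p-regular rank 1, and f is a nilpotent block of C_G(Q). -/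
theorem result {G : Type*} [Group G] [Finite G] (p : ℕ) [Fact p.Prime] (M : Ideal Cfsg.AlgInt) (hM : Cfsg.IsPModular p M) (B : Set (Cfsg.IrrCharacter G)) (hB : Cfsg.IsPBlock M B) (P : Subgroup G) (hPD : Cfsg.IsDefectGroup p M B P) (hP1 : P ≠ ⊥) (hcyc : IsCyclic P) (c : Set (Cfsg.IrrCharacter (Subgroup.centralizer (P : Set G)))) (hc : Cfsg.IsInducedBlock M (Subgroup.centralizer (P : Set G)) c B) (T : Subgroup G) (hT : ∀ g : G, g ∈ T ↔ (g ∈ Subgroup.normalizer (P : Set G) ∧ Cfsg.StabilizesBlock (Subgroup.centralizer (P : Set G)) c g)) (Q : Subgroup G) (hQP : Q ≤ P) (hQ1 : Q ≠ ⊥) (f : Set (Cfsg.IrrCharacter (Subgroup.centralizer (Q : Set G)))) (hf : Cfsg.IsInducedBlockIn M (Subgroup.centralizer (Q : Set G)) (Subgroup.centralizer (P : Set G)) c f) (T' : Subgroup G) (hT' : ∀ g : G, g ∈ T' ↔ (g ∈ Subgroup.normalizer (Q : Set G) ∧ Cfsg.StabilizesBlock (Subgroup.centralizer (Q : Set G)) f g)) : T' = T ⊔ Subgroup.centralizer (Q : Set G) ∧ (Subgroup.centralizer (Q : Set G)).relIndex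 T' = (Subgroup.centralizer (P : Set G)).relIndex T ∧ Cfsg.blockRank p f = 1 ∧ Cfsg.IsNilpotentBlock p M f := by
  classical
  have : M.IsMaximal := hM.2.1
  have : CharP (AlgInt ⧸ M) p := Blocks.charP_residue hM.2.2
  have hblk : ∀ H : Subgroup G, HasBlocks (AlgInt ⧸ M) H := fun H => hasBlocks M H
  have hBi := isBlockIdem_blkG hB
  obtain ⟨e₀, -, hmax₀⟩ := exists_isMax_of_isDefectGroup hB hPD
  have hP : IsPGroup p P := hmax₀.1.1.1
  have hPC : P ≤ Subgroup.centralizer (P : Set G) := fun x hx =>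
    Subgroup.mem_centralizer_iff.2 fun y hy =>
      congrArg Subtype.val ((hcyc.commGroup.mul_comm ⟨y, hy⟩ ⟨x, hx⟩))
  -- `(P, c)` is a maximal pair of `B`
  obtain ⟨χ, hχ⟩ := nonempty_of_isPBlock hB
  have hpairOf : IsBrauerPairOf p M B P c := by
    refine ⟨⟨hP, hc.1⟩, hB, fun ξ hξ => ?_⟩
    have h1 := Blocks.IsInducedBlock.omega_sub hc hξ hχ (Blocks.isCentralElt_blockIdem B)
      (Blocks.scoeff_blockIdem hB)
    rw [Blocks.omega_blockIdem, if_pos hχ] at h1
    have h2 := Blocks.memLocalIdeal_omega_resH_sub_brH hM.2.2 hP hPC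
      (Subgroup.centralizer_le_normalizer _) (Blocks.isCentralElt_blockIdem B)
      (Blocks.scoeff_blockIdem hB) ξ
    have e1 : brauerOmega P (blockCoeff B) ξ.1 =
        Blocks.omega ξ.1 (Blocks.brH P (Subgroup.centralizer (P : Set G)) (Blocks.blockIdem B)) := by
      haveI := Fintype.ofFinite (Subgroup.centralizer (P : Set G))
      rw [Blocks.omega, Blocks.chiL_eq_sum, brauerOmega, finsum_eq_sum_of_fintype, Finset.sum_div]
      exact Finset.sum_congr rfl fun x _ => by
        rw [Blocks.coeff_brH, if_pos x.2, Blocks.coeff_blockIdem]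
    rw [e1]
    simpa using Blocks.MemLocalIdeal.sub h1 h2
  obtain ⟨hcB, hpair⟩ := (isBrauerPairOf_iff hB).1 hpairOf
  have ha : BrauerPairs.IsMax p (blkG M B) (P, blk M _ c) := by
    obtain ⟨g, hg⟩ := exists_conj_ple hblk hBi hmax₀ hpair
    have e1 := hg.eq_of_fst_eq (Subgroup.eq_of_le_of_card_ge hg.le (BrauerPairs.card_map_conj g P).ge)
    have h := hmax₀.conj hBi g⁻¹
    rwa [← e1, conjPair_inv_conjPair] at h
  have hTN : T ≤ Subgroup.normalizer (P : Set G) := fun g hg => ((hT g).1 hg).1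
  have hTeq : T = stabOf P (blk M _ c) := eq_stabOf hcB hT
  have hCT : Subgroup.centralizer (P : Set G) ≤ T := hTeq ▸ centralizer_le_stabOf ha.1.1.2
  haveI hn : ((Subgroup.centralizer (P : Set G)).subgroupOf T).Normal :=
    Subgroup.normal_subgroupOf_of_le_normalizer
      (hTN.trans (normalizer_le_normalizer_centralizer P))
  obtain ⟨-, -, hfree⟩ := S4633.result p M hM B hB P hPD hP1 hcyc c hc T hT
  have hCle : Subgroup.centralizer (P : Set G) ≤ (Subgroup.centralizer (Q : Set G)) := Subgroup.centralizer_le hQP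
  have hPQ : P ≤ (Subgroup.centralizer (Q : Set G)) := hPC.trans hCle
  -- `f` is the block below `(P, c)`
  obtain ⟨fq, hfq⟩ := exists_ple hblk ha.1.1 Q hQP
  have hst := step_of_ple_comm hblk ha.1.1 hPC hfq
  obtain ⟨f', hf', rfl⟩ := exists_eq_blk (Subgroup.centralizer (Q : Set G)) (hfq.isPair_left ha.1.1).2
  have hff : f = f' := isInducedBlockIn_unique hf
    (isInducedBlockIn_of_br hP hPQ hCle hcB hf' hst.2.2.2.2.2)
  subst hff
  have hT'eq : T' = stabOf Q (blk M (Subgroup.centralizer (Q : Set G)) f) := eq_stabOf hf' hT'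
  -- the stabilizer
  have hTT' : T ≤ T' := by
    intro g hg
    rw [hTeq] at hg
    have hgQ : Q.map (MulAut.conj g).toMonoidHom = Q :=
      le_of_card_eq_cyclic hcyc hQP
        ((Subgroup.map_mono hQP).trans_eq (map_conj_eq_of_mem_normalizer hg.1)) (card_map_conj g Q)
    have h1 := hfq.conj g
    rw [show conjPair g (P, blk M _ c) = (P, blk M _ c) from
      Prod.ext (map_conj_eq_of_mem_normalizer hg.1) hg.2] at h1
    have h1' : PLE p (Q.map (MulAut.conj g).toMonoidHom, conjEl g (blk M (Subgroup.centralizer (Q : Set G)) f)) (P, blk M _ c) := h1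
    rw [hgQ] at h1'
    rw [hT'eq]
    exact ⟨mem_normalizer_of_conj_le fun u hu => hgQ.le ⟨u, hu, rfl⟩,
      ple_unique hblk ha.1.1 Q _ _ h1' hfq⟩
  have hCT' : (Subgroup.centralizer (Q : Set G)) ≤ T' := hT'eq ▸ centralizer_le_stabOf (hfq.isPair_left ha.1.1).2
  have hle' : T' ≤ T ⊔ (Subgroup.centralizer (Q : Set G)) := by
    intro g hg
    rw [hT'eq] at hg
    have hfix : conjPair g (Q, blk M (Subgroup.centralizer (Q : Set G)) f) = (Q, blk M (Subgroup.centralizer (Q : Set G)) f) :=
      Prod.ext (map_conj_eq_of_mem_normalizer hg.1) hg.2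
    obtain ⟨h, hh, hhg⟩ := exists_mul_mem_stabOf_of_comm hblk hBi ha hPC hfq (g := g) (by rwa [hfix])
    rw [map_conj_eq_of_mem_normalizer hg.1] at hh
    rw [← hTeq] at hhg
    rw [show g = h⁻¹ * (h * g) by group]
    exact mul_mem (Subgroup.mem_sup_right (inv_mem hh)) (Subgroup.mem_sup_left hhg)
  have heq : T' = T ⊔ (Subgroup.centralizer (Q : Set G)) := le_antisymm hle' (sup_le hTT' hCT')
  obtain ⟨q, hq, hq1⟩ := (Subgroup.ne_bot_iff_exists_ne_one (H := Q)).1 hQ1 |> fun ⟨q, hq⟩ =>
    (⟨(q : G), q.2, fun h => hq (Subtype.ext h)⟩ : ∃ x, x ∈ Q ∧ x ≠ 1)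
  have hinf : (Subgroup.centralizer (Q : Set G)) ⊓ T = Subgroup.centralizer (P : Set G) := by
    refine le_antisymm (fun g hg => hfree g hg.2 q (hQP hq) hq1 ?_) (le_inf hCle hCT)
    rw [← Subgroup.mem_centralizer_iff.1 hg.1 q hq, mul_inv_cancel_right]
  have hindex : (Subgroup.centralizer (Q : Set G)).relIndex T' = (Subgroup.centralizer (P : Set G)).relIndex T := by
    haveI : ((Subgroup.centralizer (Q : Set G)).subgroupOf T').Normal := Subgroup.normal_subgroupOf_of_le_normalizer
      (fun g hg => normalizer_le_normalizer_centralizer Q ((hT' g).1 hg).1)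
    rw [← hinf, Subgroup.inf_relIndex_right, ← Subgroup.relIndex_subgroupOf hTT']
    rw [← Subgroup.relIndex_sup_right (T.subgroupOf T') ((Subgroup.centralizer (Q : Set G)).subgroupOf T'),
      ← Subgroup.subgroupOf_sup hTT' hCT', ← heq, Subgroup.subgroupOf_self, Subgroup.relIndex_top_right]
    rfl
  -- nilpotency
  have hD : DefectIn p (Subgroup.centralizer (Q : Set G)) (blk M (Subgroup.centralizer (Q : Set G)) f) P := defectIn_centralizer_of_comm hblk hBi ha hPC hfq
  obtain ⟨e', he', hinc⟩ := exists_maximalPair_sub hf' hD hCle hcB hst.2.2.2.2.2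
  obtain ⟨-, hmax'⟩ := (isMaximalBrauerPair_iff hf').1 he'
  have hblkC : ∀ K : Subgroup (Subgroup.centralizer (Q : Set G)), HasBlocks (AlgInt ⧸ M) K := fun K => hasBlocks M K
  have hP₁ : P.subgroupOf (Subgroup.centralizer (Q : Set G)) ≤ Subgroup.centralizer ((P.subgroupOf (Subgroup.centralizer (Q : Set G)) : Subgroup (Subgroup.centralizer (Q : Set G))) : Set (Subgroup.centralizer (Q : Set G))) :=
    fun x hx => Subgroup.mem_centralizer_iff.2 fun y hy =>
      Subtype.ext (Subgroup.mem_centralizer_iff.1 (hPC hx) y hy)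
  have hnil : IsNilpotentBlock p M f := by
    refine (isNilpotentBlock_iff hf').2 (isNilpotentPairs_of_inner hblkC (isBlockIdem_blkG hf') hmax'
      fun g R hg => ⟨1, one_mem _, fun r hr => ?_⟩)
    obtain ⟨hRP, s, hs, hgs⟩ := hg
    have hs1 := step_of_ple_comm hblkC hmax'.1.1 hP₁ hs
    have hgs1 := step_of_ple_comm hblkC hmax'.1.1 hP₁ hgs
    set Q₁ : Subgroup (Subgroup.centralizer (Q : Set G)) := Q.subgroupOf (Subgroup.centralizer (Q : Set G))
    have hcent : ∀ (u : Q₁) (x : (Subgroup.centralizer (Q : Set G))), (u : (Subgroup.centralizer (Q : Set G))) * x = x * u := fun u x =>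
      Subtype.ext (Subgroup.mem_centralizer_iff.1 x.2 _ u.2)
    have hgQ : Q₁.map (MulAut.conj g).toMonoidHom = Q₁ :=
      map_conj_eq_of_mem_normalizer (mem_normalizer_of_conj_le fun u hu => by
        rwa [← hcent ⟨u, hu⟩ g, mul_inv_cancel_right])
    have hQ₁ : Q₁ ≤ P.subgroupOf (Subgroup.centralizer (Q : Set G)) := fun u hu => hQP hu
    have enlarge : ∀ (A : Subgroup (Subgroup.centralizer (Q : Set G))) (a : MonoidAlgebra (AlgInt ⧸ M) (Subgroup.centralizer (Q : Set G))),
        Step p (A, a) (P.subgroupOf (Subgroup.centralizer (Q : Set G)), blk M _ e') →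
        Step p (A ⊔ Q₁, a) (P.subgroupOf (Subgroup.centralizer (Q : Set G)), blk M _ e') := by
      intro A a hA
      have hle : A ⊔ Q₁ ≤ P.subgroupOf (Subgroup.centralizer (Q : Set G)) := sup_le hA.2.2.1 hQ₁
      refine step_of_centralizer_eq hA hle
        ((le_centralizer_of_le_comm hP₁ hle).trans (Subgroup.centralizer_le_normalizer _)) ?_
      refine le_antisymm (Subgroup.centralizer_le (SetLike.coe_subset_coe.2 le_sup_left)) fun x hx => ?_
      have hsup : A ⊔ Q₁ ≤ Subgroup.centralizer ({x} : Set (Subgroup.centralizer (Q : Set G))) := sup_le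
        (fun u hu => Subgroup.mem_centralizer_singleton_iff.2 (Subgroup.mem_centralizer_iff.1 hx u hu))
        (fun u hu => Subgroup.mem_centralizer_singleton_iff.2 (hcent ⟨u, hu⟩ x))
      exact Subgroup.mem_centralizer_iff.2 fun u hu => Subgroup.mem_centralizer_singleton_iff.1 (hsup hu)
    have hS := enlarge _ _ hs1
    have hgS := enlarge _ _ hgs1
    have e1 : ((R ⊔ Q₁).map (MulAut.conj g).toMonoidHom) = R.map (MulAut.conj g).toMonoidHom ⊔ Q₁ := by
      rw [Subgroup.map_sup, hgQ]
    have hQS : Q ≤ (R ⊔ Q₁).map (Subgroup.centralizer (Q : Set G)).subtype := fun x hx =>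
      ⟨⟨x, hPQ (hQP hx)⟩, Subgroup.mem_sup_right hx, rfl⟩
    have hS' := PLE.of_incl (Relation.ReflTransGen.single hS)
      (Subgroup.centralizer_le hQS : Subgroup.centralizer _ ≤ (Subgroup.centralizer (Q : Set G)))
    have hgS' := PLE.of_incl (Relation.ReflTransGen.single hgS)
      (Subgroup.centralizer_le (SetLike.coe_subset_coe.2 (show Q ≤ (R.map (MulAut.conj g).toMonoidHom ⊔ Q₁).map
        (Subgroup.centralizer (Q : Set G)).subtype from
          fun x hx => ⟨⟨x, hPQ (hQP hx)⟩, Subgroup.mem_sup_right hx, rfl⟩)) :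
        Subgroup.centralizer _ ≤ (Subgroup.centralizer (Q : Set G)))
    have etop : inclPair (P.subgroupOf (Subgroup.centralizer (Q : Set G)), blk M (Subgroup.centralizer
        ((P.subgroupOf (Subgroup.centralizer (Q : Set G)) : Subgroup (Subgroup.centralizer (Q : Set G))) : Set (Subgroup.centralizer (Q : Set G)))) e') = (P, blk M _ c) :=
      Prod.ext (Subgroup.map_subgroupOf_eq_of_le hPQ) hinc
    rw [etop] at hS' hgS'
    have hgS'' : PLE p (conjPair (g : G) (inclPair (R ⊔ Q₁, s))) (P, blk M _ c) := by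
      rw [show conjPair (g : G) (inclPair (R ⊔ Q₁, s)) =
        inclPair (conjPair g (R ⊔ Q₁, s)) from
        (Prod.ext (map_map_conj_subtype g _) (conjEl_incl g s)).symm]
      rw [← e1] at hgS'
      exact hgS'
    obtain ⟨h, hh, hhg⟩ := exists_mul_mem_stabOf_of_comm hblk hBi ha hPC hS' hgS''
    have hhC : h ∈ (Subgroup.centralizer (Q : Set G)) := by
      rw [Subgroup.mem_centralizer_iff]
      intro x hx
      refine Subgroup.mem_centralizer_iff.1 hh x ⟨x, hQS hx, ?_⟩
      show (g : G) * x * (g : G)⁻¹ = x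
      rw [← Subgroup.mem_centralizer_iff.1 g.2 x hx, mul_inv_cancel_right]
    have hmem : h * g ∈ Subgroup.centralizer (P : Set G) :=
      hinf.le ⟨mul_mem hhC g.2, hTeq ▸ hhg⟩
    have hrP : (r : G) ∈ P := hRP hr
    have h1 : (g : G) * r * (g : G)⁻¹ * h = h * ((g : G) * r * (g : G)⁻¹) :=
      Subgroup.mem_centralizer_iff.1 hh _
        ⟨r, ⟨r, Subgroup.mem_sup_left hr, rfl⟩, rfl⟩
    have h2 : (r : G) * (h * g) = h * g * r := Subgroup.mem_centralizer_iff.1 hmem _ hrP
    apply Subtype.ext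
    simp only [Subgroup.coe_mul, Subgroup.coe_inv, one_mul, inv_one, mul_one]
    calc (g : G) * r * (g : G)⁻¹ = (g : G) * r * (g : G)⁻¹ * h * h⁻¹ := by rw [mul_inv_cancel_right]
      _ = h * g * r * ((g : G)⁻¹ * h⁻¹) := by rw [h1]; group
      _ = r := by rw [← h2]; group
  letI := Fintype.ofFinite (Subgroup.centralizer (Q : Set G))
  exact ⟨heq, hindex, Blocks.NilRank.blockRank_eq_one_of_nilpotent hM hnil, hnil⟩

end Cfsg.Agent.S4645
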