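import Cfsg.Statements.S4647
import Cfsg.Agent.Lib.BrauerPairs.MinimalRank

set_option autoImplicit false
open Cfsg
open scoped Classical Cfsg.Agent.Blocks

namespace Cfsg.Agent.S4647

/-- Let B be a block of the finite group G relative to a maximal ideal M of the algebraic integers containing the prime p, p^a the p-part of the order of G and p^d the order of a defect group D of B. If Σ_{χ ∈ B} χ(1)² = p^(2a−d) (the least possible value), then B is nilpotent. -/
theorem result {G : Type*} [Group G] [Finite G] (p : ℕ) [Fact p.Prime] (M : Ideal Cfsg.AlgInt) (hM : Cfsg.IsPModular p M) (B : Set (Cfsg.IrrCharacter G)) (hB : Cfsg.IsPBlock M B) (D : Subgroup G) (hD : Cfsg.IsDefectGroup p M B D) (a d : ℕ) (ha : (Nat.card G).factorization p = a) (hd : Nat.card D = p ^ d) (hmin : ∑ᶠ χ ∈ B, Cfsg.charDegree (χ : G → ℂ) ^ 2 = p ^ (2 * a - d)) : Cfsg.IsNilpotentBlock p M B := by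
  haveI := Fintype.ofFinite G
  haveI : M.IsMaximal := hM.2.1
  haveI : CharP (AlgInt ⧸ M) p := Blocks.charP_residue hM.2.2
  have hblk := fun H : Subgroup G => BrauerPairs.hasBlocks M H
  have hBi := BrauerPairs.isBlockIdem_blkG hB
  refine (BrauerPairs.isNilpotentBlock_iff hB).2 fun Q f hQf x hx hreg => ?_
  obtain ⟨P, hQP⟩ := IsPGroup.exists_le_sylow hQf.1.1
  obtain ⟨e₀, he₀, hmax⟩ := BrauerPairs.exists_isMax_of_isDefectGroup (p := p) hB hD
  obtain ⟨R, hDR⟩ := IsPGroup.exists_le_sylow hmax.1.1.1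
  obtain ⟨c, hc⟩ := MulAction.exists_smul_eq G R P
  set D' := D.map (MulAut.conj c).toMonoidHom with hD'
  have hmax' := hmax.conj hBi c
  have hDP : D' ≤ (P : Subgroup G) := by
    rw [hD', ← hc, Sylow.coe_subgroup_smul]
    exact Subgroup.map_mono hDR
  obtain ⟨w, -, v, -, -, ⟨A, hA, htr⟩, -, -⟩ := BrauerPairs.exists_trace_factor hblk hBi hmax'
  have hcl : ∀ g z : G, (BrauerPairs.blkG M B).coeff (g * z * g⁻¹) = (BrauerPairs.blkG M B).coeff z :=
    fun g z => BrauerPairs.mem_fixedBy_iff_coeff.1 hBi.mem.2 g (Subgroup.mem_top g) z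
  have hne : ∀ (S : Subgroup G) (s : MonoidAlgebra (AlgInt ⧸ M) G),
      BrauerPairs.IsPairOf p (BrauerPairs.blkG M B) (S, s) → BrauerPairs.br S (BrauerPairs.blkG M B) ≠ 0 :=
    fun S s hs h => hs.1.2.ne_zero (by rw [← hs.2]; simp only [h, zero_mul])
  have hP : Nat.card (P : Subgroup G) = p ^ a := by rw [Sylow.card_eq_multiplicity, ha]
  have hD'c : Nat.card D' = p ^ d := by rw [hD', BrauerPairs.card_map_conj, hd]
  have hda : d ≤ a := by
    have h := Subgroup.card_le_of_le hDP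
    rw [hP, hD'c] at h
    exact (Nat.pow_le_pow_iff_right (Fact.out : p.Prime).one_lt).1 h
  obtain ⟨u, hu, hact⟩ := BrauerPairs.MinimalRank.exists_conj (p := p) hcl hBi.idem P.isPGroup' hDP
    (hne D' _ hmax'.1) hA htr (by
      rw [BrauerPairs.MinimalRank.rank_blkG_eq hB, hmin, hP, hD'c, ← pow_add, ← pow_add,
        show 2 * a - d + d = a + a by omega]) hQP (hne Q f hQf) (g := x)
    fun q hq => hQP ((Subgroup.mem_normalizer_iff.1 hx.1 q).1 hq)
  have huN : u ∈ Subgroup.normalizer (Q : Set G) := by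
    refine BrauerPairs.mem_normalizer_of_conj_le fun q hq => ?_
    rw [← hact q hq]
    exact (Subgroup.mem_normalizer_iff.1 hx.1 q).1 hq
  have hz : u⁻¹ * x ∈ Subgroup.centralizer (Q : Set G) := by
    rw [Subgroup.mem_centralizer_iff]
    intro q hq
    calc q * (u⁻¹ * x) = u⁻¹ * (u * q * u⁻¹) * x := by group
      _ = u⁻¹ * (x * q * x⁻¹) * x := by rw [hact q hq]
      _ = u⁻¹ * x * q := by group
  obtain ⟨m, hm⟩ := P.isPGroup' ⟨u, hu⟩
  obtain ⟨z, hzC, hxz⟩ := BrauerPairs.exists_pow_eq_mul_centralizer huN hz (p ^ m)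
  rw [show u ^ p ^ m = 1 from congrArg Subtype.val hm, one_mul] at hxz
  have hcop : (p ^ m).Coprime (orderOf x) :=
    (((Fact.out : p.Prime).coprime_iff_not_dvd).2 hreg).pow_left m
  obtain ⟨n, hn⟩ := exists_pow_eq_self_of_coprime hcop
  rw [← hn, hxz]
  exact pow_mem hzC n

end Cfsg.Agent.S4647
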