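import Cfsg.Statements.S4649
import Cfsg.Agent.Lib.Blocks.CyclicDefect.Setup
import Cfsg.Agent.S4687

set_option autoImplicit false
open Cfsg Cfsg.Agent
open Cfsg.Agent.BrauerPairs (blk blkG)

namespace Cfsg.Agent.S4649

/-- A block with cyclic defect group, of a finite group relative to a maximal ideal M of the algebraic integers containing the prime p, is nilpotent if and only if its p-regular rank is 1 (it has a unique irreducible Brauer character). -/
theorem result {G : Type*} [Group G] [Finite G] (p : ℕ) [Fact p.Prime] (M : Ideal Cfsg.AlgInt) (hM : Cfsg.IsPModular p M) (B : Set (Cfsg.IrrCharacter G)) (hB : Cfsg.IsPBlock M B) (P : Subgroup G) (hPD : Cfsg.IsDefectGroup p M B P) (hcyc : IsCyclic P) : Cfsg.IsNilpotentBlock p M B ↔ Cfsg.blockRank p B = 1 := by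
  classical
  letI := Fintype.ofFinite G
  haveI : M.IsMaximal := hM.2.1
  haveI : CharP (AlgInt ⧸ M) p := Blocks.charP_residue hM.2.2
  refine ⟨fun h => Blocks.NilRank.blockRank_eq_one_of_nilpotent hM h, fun h1 => ?_⟩
  obtain ⟨c, hc, hmax⟩ := BrauerPairs.exists_isMax_of_isDefectGroup hB hPD
  have hmax' := (BrauerPairs.isMaximalBrauerPair_iff hB).2 ⟨hc, hmax⟩
  refine (S4687.result p M hM B P c hmax' fun x hx y hy =>
    congrArg Subtype.val (hcyc.commGroup.mul_comm ⟨x, hx⟩ ⟨y, hy⟩)).2 fun x hx hst => ?_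
  by_cases hP : P = ⊥
  · subst hP
    exact Subgroup.mem_centralizer_iff.2 fun y hy => by
      rw [show y = 1 from Subgroup.mem_bot.1 hy, one_mul, mul_one]
  have d : Blocks.CyclicDefect.Datum M p B P c := ⟨hM, hB, hc, hmax, hcyc, hP⟩
  have hle := d.inIndex_le_blockRank
  rw [h1] at hle
  have hone : Blocks.CyclicDefect.inIndex M P c = 1 := le_antisymm hle d.inIndex_pos
  exact Subgroup.relIndex_eq_one.1 hone ((d.mem_inGroup x).2 ⟨hx, hst⟩)

end Cfsg.Agent.S4649
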