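import Cfsg.Statements.S4650
import Cfsg.Agent.Lib.BrauerPairs.InducedIn
import Cfsg.Agent.Lib.BrauerPairs.LocalFusion
import Cfsg.Agent.Lib.Blocks.FirstMain
import Cfsg.Agent.S4687
-- import your own Cfsg.Agent.* helpers here

set_option autoImplicit false
open Cfsg Cfsg.Agent Cfsg.Agent.BrauerPairs
open scoped Cfsg.Agent.Blocks

namespace Cfsg.Agent.S4650

/-- Let B be a block of the finite group G relative to a maximal ideal M of the algebraic integers containing the prime p, with a nontrivial commutative defect group P; let c be a block of C_G(P) inducing B and T the stabilizer of c in N_G(P). Then T/C_G(P) acts freely on the non-identity elements of P (an element of T fixing a non-identity element of P under conjugation lies in C_G(P)) if and only if, for every nontrivial subgroup Q of P, the block of C_G(Q) induced by c inside C_G(Q) is a nilpotent block of C_G(Q). -/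
theorem result {G : Type*} [Group G] [Finite G] (p : ℕ) [Fact p.Prime] (M : Ideal Cfsg.AlgInt) (hM : Cfsg.IsPModular p M) (B : Set (Cfsg.IrrCharacter G)) (hB : Cfsg.IsPBlock M B) (P : Subgroup G) (hPD : Cfsg.IsDefectGroup p M B P) (hPab : ∀ x ∈ P, ∀ y ∈ P, x * y = y * x) (hP1 : P ≠ ⊥) (c : Set (Cfsg.IrrCharacter (Subgroup.centralizer (P : Set G)))) (hc : Cfsg.IsInducedBlock M (Subgroup.centralizer (P : Set G)) c B) (T : Subgroup G) (hT : ∀ g : G, g ∈ T ↔ (g ∈ Subgroup.normalizer (P : Set G) ∧ Cfsg.StabilizesBlock (Subgroup.centralizer (P : Set G)) c g)) : (∀ g ∈ T, ∀ x ∈ P, x ≠ 1 → g * x * g⁻¹ = x → g ∈ Subgroup.centralizer (P : Set G)) ↔ ∀ Q : Subgroup G, Q ≤ P → Q ≠ ⊥ → ∀ f : Set (Cfsg.IrrCharacter (Subgroup.centralizer (Q : Set G))), Cfsg.IsInducedBlockIn M (Subgroup.centralizer (Q : Set G)) (Subgroup.centralizer (P : Set G)) c f → Cfsg.IsNilpotentBlock p M f := by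
  classical
  letI := Fintype.ofFinite G
  have : M.IsMaximal := hM.2.1
  have : CharP (AlgInt ⧸ M) p := Blocks.charP_residue hM.2.2
  have hblk : ∀ H : Subgroup G, HasBlocks (AlgInt ⧸ M) H := fun H => hasBlocks M H
  have hBi := isBlockIdem_blkG hB
  obtain ⟨e₀, -, hmax₀⟩ := exists_isMax_of_isDefectGroup hB hPD
  have hP : IsPGroup p P := hmax₀.1.1.1
  have hcommP : ∀ x ∈ P, ∀ y ∈ P, x * y = y * x := hPab
  have hPC : P ≤ Subgroup.centralizer (P : Set G) := fun x hx =>
    Subgroup.mem_centralizer_iff.2 fun y hy => hcommP y hy x hx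
  -- `(P, c)` is a pair of `B`
  obtain ⟨χ, hχ⟩ := nonempty_of_isPBlock hB
  have hpairOf : IsBrauerPairOf p M B P c := by
    refine ⟨⟨hP, hc.1⟩, hB, fun ξ hξ => ?_⟩
    have h1 := Blocks.IsInducedBlock.omega_sub hc hξ hχ (Blocks.isCentralElt_blockIdem B)
      (Blocks.scoeff_blockIdem hB)
    rw [Blocks.omega_blockIdem, if_pos hχ] at h1
    have h2 := Blocks.memLocalIdeal_omega_resH_sub_brH hM.2.2 hP hPC
      (Subgroup.centralizer_le_normalizer _) (Blocks.isCentralElt_blockIdem B)
      (Blocks.scoeff_blockIdem hB) ξ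
    have e1 : brauerOmega P (blockCoeff B) ξ.1 =
        Blocks.omega ξ.1 (Blocks.brH P (Subgroup.centralizer (P : Set G)) (Blocks.blockIdem B)) := by
      haveI := Fintype.ofFinite (Subgroup.centralizer (P : Set G))
      rw [Blocks.omega, Blocks.chiL_eq_sum, brauerOmega, finsum_eq_sum_of_fintype, Finset.sum_div]
      exact Finset.sum_congr rfl fun x _ => by
        rw [Blocks.coeff_brH, if_pos x.2, Blocks.coeff_blockIdem]
    rw [e1]
    simpa using Blocks.MemLocalIdeal.sub h1 h2
  obtain ⟨hcB, hpair⟩ := (isBrauerPairOf_iff hB).1 hpairOf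
  have ha : BrauerPairs.IsMax p (blkG M B) (P, blk M _ c) := by
    obtain ⟨g, hg⟩ := exists_conj_ple hblk hBi hmax₀ hpair
    have e1 := hg.eq_of_fst_eq (Subgroup.eq_of_le_of_card_ge hg.le (BrauerPairs.card_map_conj g P).ge)
    have h := hmax₀.conj hBi g⁻¹
    rwa [← e1, conjPair_inv_conjPair] at h
  obtain rfl := eq_stabOf hcB hT
  have hPCR : ∀ R : Subgroup G, R ≤ P → P ≤ Subgroup.centralizer (R : Set G) := fun R hR =>
    hPC.trans (Subgroup.centralizer_le hR)
  have hex : ∀ Q : Subgroup G, Q ≤ P → ∃ f : Set (IrrCharacter (Subgroup.centralizer (Q : Set G))),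
      IsPBlock M f ∧ IsInducedBlockIn M (Subgroup.centralizer (Q : Set G))
        (Subgroup.centralizer (P : Set G)) c f ∧
      (IsNilpotentBlock p M f ↔ ∀ x ∈ stabOf P (blk M _ c),
        x ∈ Subgroup.centralizer (Q : Set G) → x ∈ Subgroup.centralizer (P : Set G)) := by
    intro Q hQP
    obtain ⟨fa, hfa⟩ := exists_ple hblk ha.1.1 Q hQP
    obtain ⟨f, hf, rfl⟩ :=
      exists_eq_blk (Subgroup.centralizer (Q : Set G)) (hfa.isPair_left ha.1.1).2
    have hstep := hfa.step_of_le_normalizer hblk (hfa.isPair_left ha.1.1)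
      ((hPCR Q hQP).trans (Subgroup.centralizer_le_normalizer _))
    have hbr : br P (blk M _ f) * blk M _ c = blk M _ c := hstep.2.2.2.2.2
    have hCC : Subgroup.centralizer (P : Set G) ≤ Subgroup.centralizer (Q : Set G) :=
      Subgroup.centralizer_le hQP
    refine ⟨f, hf, isInducedBlockIn_of_br hP (hPCR Q hQP) hCC hcB hf hbr, ?_⟩
    have hD : DefectIn p (Subgroup.centralizer (Q : Set G)) (blk M _ f) P := by
      have h := (forall_centralizer_le_iff hblk hBi ha hfa).1 fun g _ => by
        rw [inf_eq_left.2 (hPCR Q hQP)]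
        exact Subgroup.card_le_of_le inf_le_left
      rwa [inf_eq_left.2 (hPCR Q hQP)] at h
    obtain ⟨e', hmax', hinc⟩ := exists_maximalPair_sub hf hD hCC hcB hbr
    letI := Fintype.ofFinite (Subgroup.centralizer (Q : Set G))
    rw [Cfsg.Agent.S4687.result p M hM f _ e' hmax' fun x hx y hy =>
      Subtype.ext (hPab _ hx _ hy)]
    have he' := ((isMaximalBrauerPair_iff hf).1 hmax').1
    have hNiff : ∀ x : Subgroup.centralizer (Q : Set G),
        x ∈ Subgroup.normalizer ((P.subgroupOf (Subgroup.centralizer (Q : Set G)) :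
          Subgroup (Subgroup.centralizer (Q : Set G))) : Set (Subgroup.centralizer (Q : Set G))) ↔
        (x : G) ∈ Subgroup.normalizer (P : Set G) := by
      intro x
      constructor
      · intro hx
        refine mem_normalizer_of_conj_le fun u hu => ?_
        have h1 := (Subgroup.mem_normalizer_iff.1 hx ⟨u, hPCR Q hQP hu⟩).1 hu
        exact h1
      · intro hx
        refine Subgroup.mem_normalizer_iff.2 fun u => ?_
        exact Subgroup.mem_normalizer_iff.1 hx (u : G)
    have hCiff : ∀ x : Subgroup.centralizer (Q : Set G),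
        x ∈ Subgroup.centralizer ((P.subgroupOf (Subgroup.centralizer (Q : Set G)) :
          Subgroup (Subgroup.centralizer (Q : Set G))) : Set (Subgroup.centralizer (Q : Set G))) ↔
        (x : G) ∈ Subgroup.centralizer (P : Set G) := by
      intro x
      rw [← Subgroup.mem_map_iff_mem (f := (Subgroup.centralizer (Q : Set G)).subtype)
        (Subgroup.subtype_injective _), map_centralizer_sub,
        Subgroup.map_subgroupOf_eq_of_le (hPCR Q hQP), inf_eq_right.2 hCC]
      rfl
    constructor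
    · intro h x hx hxQ
      refine (hCiff ⟨x, hxQ⟩).1 (h ⟨x, hxQ⟩ ((hNiff _).2 hx.1) ?_)
      refine (stabilizesBlock_iff he' (normalizer_le_normalizer_centralizer _ ((hNiff ⟨x, hxQ⟩).2 hx.1))).2 ?_
      refine incl_injective _ ?_
      rw [conjEl_incl, hinc]
      exact hx.2
    · intro h x hxN hst
      refine (hCiff x).2 (h x ⟨(hNiff x).1 hxN, ?_⟩ x.2)
      rw [← hinc, ← conjEl_incl,
        (stabilizesBlock_iff he' (normalizer_le_normalizer_centralizer _ hxN)).1 hst]
  constructor
  · intro hfree Q hQP hQ1 f hf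
    obtain ⟨f₀, -, hind, hiff⟩ := hex Q hQP
    rw [isInducedBlockIn_unique hf hind, hiff]
    intro x hx hxQ
    obtain ⟨q, hq, hq1⟩ := Q.ne_bot_iff_exists_ne_one.1 hQ1 |> fun ⟨q, hq⟩ =>
      (⟨q, q.2, fun h => hq (Subtype.ext h)⟩ : ∃ q : G, q ∈ Q ∧ q ≠ 1)
    refine hfree x hx q (hQP hq) hq1 ?_
    rw [← Subgroup.mem_centralizer_iff.1 hxQ q hq, mul_inv_cancel_right]
  · intro hnil g hg x hx hx1 hgx
    have hle : Subgroup.zpowers x ≤ P := Subgroup.zpowers_le.2 hx
    obtain ⟨f, -, hind, hiff⟩ := hex _ hle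
    refine hiff.1 (hnil _ hle (fun h => hx1 (Subgroup.zpowers_eq_bot.1 h)) f hind) g hg ?_
    rw [Subgroup.mem_centralizer_iff]
    rintro _ ⟨i, rfl⟩
    exact ((Commute.zpow_right (show Commute g x from mul_inv_eq_iff_eq_mul.1 hgx) i).eq).symm

end Cfsg.Agent.S4650
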