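import Cfsg.Statements.S4651
import Cfsg.Agent.Lib.BrauerPairs.AlternatingSum

set_option autoImplicit false
open Cfsg Cfsg.Agent Cfsg.Agent.BrauerPairs

namespace Cfsg.Agent.S4651

/-- An alternating-sum identity over chains of p-subgroups (the character-count form behind the chain reformulation of Alperin's weight conjecture, which holds unconditionally for the difference k − l). Let b be a block of the finite group G relative to a maximal ideal M of the algebraic integers containing the prime p. Consider the nonempty chains s = {Q_0 < Q_1 < ⋯ < Q_m} of nontrivial p-subgroups of G in which every member is normal in the largest member; let N_G(s) be the intersection of the normalizers of the members (the stabilizer of the chain), and let b_s be the set of irreducible characters of N_G(s) lying in blocks of N_G(s) that induce b. Then #G · (k(b) − l(b)) equals the sum over all such chains s of (−1)^m · #N_G(s) · (k(b_s) − l(b_s)), where k counts irreducible characters and l is the p-regular rank; equivalently,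 k(b) − l(b) is the alternating sum of k(b_s) − l(b_s) over representatives of the conjugacy classes of such chains. -/
theorem result {G : Type*} [Group G] [Finite G] (p : ℕ) [Fact p.Prime] (M : Ideal Cfsg.AlgInt) (hM : Cfsg.IsPModular p M) (b : Set (Cfsg.IrrCharacter G)) (hb : Cfsg.IsPBlock M b) : (Nat.card G : ℤ) * ((Nat.card b : ℤ) - (Cfsg.blockRank p b : ℤ)) = ∑ᶠ s ∈ {s : Finset (Subgroup G) | s.Nonempty ∧ (∀ Q ∈ s, ∀ R ∈ s, Q ≤ R ∨ R ≤ Q) ∧ (∀ Q ∈ s, Q ≠ ⊥ ∧ IsPGroup p Q) ∧ ∃ T ∈ s, ∀ Q ∈ s, Q ≤ T ∧ T ≤ Subgroup.normalizer ((Q : Subgroup G) : Set G)}, (-1 : ℤ) ^ (s.card - 1) * (Nat.card (((⨅ Q ∈ s, Subgroup.normalizer ((Q : Subgroup G) : Set G) : Subgroup G))) : ℤ) * ((Nat.card {ψ : Cfsg.IrrCharacter (((⨅ Q ∈ s, Subgroup.normalizer ((Q : Subgroup G) : Set G) : Subgroup G))) | ∃ β : Set (Cfsg.IrrCharacter (((⨅ Q ∈ s, Subgroup.normalizer ((Q : Subgroup G) : Set G) : Subgroup G)))), ψ ∈ β ∧ Cfsg.IsInducedBlock M (((⨅ Q ∈ s, Subgroup.normalizer ((Q : Subgroup G) : Set G) : Subgroup G))) β b} : ℤ) -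 (Cfsg.blockRank p {ψ : Cfsg.IrrCharacter (((⨅ Q ∈ s, Subgroup.normalizer ((Q : Subgroup G) : Set G) : Subgroup G))) | ∃ β : Set (Cfsg.IrrCharacter (((⨅ Q ∈ s, Subgroup.normalizer ((Q : Subgroup G) : Set G) : Subgroup G)))), ψ ∈ β ∧ Cfsg.IsInducedBlock M (((⨅ Q ∈ s, Subgroup.normalizer ((Q : Subgroup G) : Set G) : Subgroup G))) β b} : ℤ)) := by
  classical
  have : M.IsMaximal := hM.2.1
  letI := Fintype.ofFinite G
  letI := Fintype.ofFinite (Subgroup G)
  have hterm : ∀ N : Subgroup G, ((Nat.card N : ℤ) * ((Nat.card (Blocks.inducingSet M N b) : ℤ) -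
      (blockRank p (Blocks.inducingSet M N b) : ℤ)) : ℤ) =
      (∑ g ∈ Finset.univ.filter (fun g : G => ¬ IsPRegular p g), inducedNormSum M b g N : ℂ) := by
    intro N
    letI := Fintype.ofFinite N
    push_cast
    rw [card_sub_blockRank_union hM.2.2 (Blocks.isBlockUnion_inducingSet _ _),
      Finset.sum_filter (fun g : G => ¬ IsPRegular p g)]
    rw [← Finset.sum_subset (Finset.subset_univ (Finset.univ.filter fun g : G => g ∈ N)) fun g _ hgN => by
      rw [inducedNormSum, dif_neg (by simpa using hgN), ite_self]]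
    rw [Finset.sum_subtype (Finset.univ.filter fun g : G => g ∈ N) (p := fun g => g ∈ N) (by simp),
      Finset.sum_filter]
    refine Finset.sum_congr rfl fun g _ => ?_
    rw [inducedNormSum_of_mem b g.2]
    exact if_congr (by rw [IsPRegular, IsPRegular, Subgroup.orderOf_coe]) rfl rfl
  rw [finsum_mem_eq_sum_of_inter_support_eq _
    (t := Finset.univ.filter fun s : Finset (Subgroup G) => NormalChains.IsNChain p s)
    (by ext s; simp only [Finset.coe_filter, Finset.mem_univ, true_and]; rfl)]
  simp only [eq_inducingSet]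
  apply Int.cast_injective (α := ℂ)
  rw [Int.cast_sum]
  have hs : ∀ s : Finset (Subgroup G),
      (((-1 : ℤ) ^ (s.card - 1) * (Nat.card (NormalChains.stab s) : ℤ) *
        ((Nat.card (Blocks.inducingSet M (NormalChains.stab s) b) : ℤ) -
          (blockRank p (Blocks.inducingSet M (NormalChains.stab s) b) : ℤ)) : ℤ) : ℂ) =
      ∑ g ∈ Finset.univ.filter (fun g : G => ¬ IsPRegular p g),
        ((-1 : ℤ) ^ (s.card - 1) : ℂ) * inducedNormSum M b g (NormalChains.stab s) := fun s => by
    rw [mul_assoc, Int.cast_mul, hterm, Finset.mul_sum]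
    push_cast
    rfl
  refine Eq.trans ?_ (Finset.sum_congr rfl fun s _ => (hs s).symm)
  rw [Finset.sum_comm]
  have hU : Blocks.IsBlockUnion M b := fun χ hχ => (Blocks.block_eq hb hχ).ge
  push_cast
  rw [card_sub_blockRank_union hM.2.2 hU]
  refine Finset.sum_congr rfl fun g hg => ?_
  obtain ⟨x, hx⟩ := Blocks.exists_isPPart (p := p) g
  have hgx : g * x = x * g := by
    obtain ⟨n, hn⟩ := Blocks.IsPPart.mem_zpowers hx
    rw [← hn]
    exact (Commute.refl g).zpow_right n
  have hx1 : x ≠ 1 := fun h => by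
    obtain ⟨y, hy, -, -, hreg⟩ := hx
    rw [h, one_mul] at hy
    exact (Finset.mem_filter.1 hg).2 (hy ▸ hreg)
  rw [sum_block_norm_sq hM.2.2 hb hx (Subgroup.mem_centralizer_singleton_iff.2 hgx),
    ← NormalChains.sum_chains hx1 (Blocks.isPGroup_zpowers (Blocks.IsPPart.isPElement hx)) hgx
      (Blocks.IsPPart.mem_zpowers hx) (inducedNormSum M b g),
    ← Finset.filter_filter, Finset.sum_filter]
  refine Finset.sum_congr rfl fun s _ => ?_
  by_cases hgs : g ∈ NormalChains.stab s
  · rw [if_pos hgs, ← inducedNormSum_eq_inf hM.2.2 b hx hgs]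
    push_cast
    rfl
  · rw [if_neg hgs, inducedNormSum, dif_neg hgs, mul_zero]

end Cfsg.Agent.S4651
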