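import Cfsg.Statements.S4655
import Cfsg.Agent.Lib.BrauerPairs.Bridge

set_option autoImplicit false
open Cfsg Cfsg.Agent Cfsg.Agent.BrauerPairs
open scoped Cfsg.Agent.Blocks

namespace Cfsg.Agent.S4655

/-- Fix a prime p and a maximal ideal M of the algebraic integers containing p. Let (P, e) be a Brauer pair of the finite group G (P a p-subgroup, e a p-block of C_G(P)) and Q a subgroup of P. Then there is exactly one p-block f of C_G(Q) such that the Brauer pair (Q, f) lies below (P, e). -/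
theorem result {G : Type*} [Group G] [Fintype G] (p : ℕ) [Fact p.Prime] (M : Ideal Cfsg.AlgInt) (hM : Cfsg.IsPModular p M) (P Q : Subgroup G) (e : Set (Cfsg.IrrCharacter (Subgroup.centralizer (P : Set G)))) (hPe : Cfsg.IsBrauerPair p M P e) (hQP : Q ≤ P) : ∃! f : Set (Cfsg.IrrCharacter (Subgroup.centralizer (Q : Set G))), Cfsg.IsPBlock M f ∧ Cfsg.SubpairLE p M Q f P e := by
  have : M.IsMaximal := hM.2.1
  have : CharP (AlgInt ⧸ M) p := Blocks.charP_residue hM.2.2
  have hblk : ∀ H : Subgroup G, HasBlocks (AlgInt ⧸ M) H := fun H => hasBlocks M H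
  obtain ⟨he, hpair⟩ := isBrauerPair_iff.1 hPe
  obtain ⟨f, hf⟩ := exists_ple hblk hpair Q hQP
  obtain ⟨f', hf', rfl⟩ := exists_eq_blk (Subgroup.centralizer (Q : Set G)) (hf.isPair_left hpair).2
  refine ⟨f', ⟨hf', subpairLE_of_ple hf' he hf⟩, fun g hg => ?_⟩
  exact blk_injective _ hg.1 hf' (ple_unique hblk hpair Q _ _ (ple_of_subpairLE hg.2) hf)

end Cfsg.Agent.S4655
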