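import Cfsg.Statements.S4656
import Cfsg.Agent.Lib.BrauerPairs.Bridge

set_option autoImplicit false
open Cfsg Cfsg.Agent Cfsg.Agent.BrauerPairs
open scoped Cfsg.Agent.Blocks

namespace Cfsg.Agent.S4656

/-- Fix a prime p and a maximal ideal M of the algebraic integers containing p. Let (P, e) be a Brauer pair of the finite group G and Q a normal subgroup of P. Then there is exactly one p-block f of C_G(Q) that is stable under conjugation by P and such that e occurs in the Brauer-map image at P of the idempotent of f; that is, exactly one f with (Q, f) normally below (P, e). -/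
theorem result {G : Type*} [Group G] [Fintype G] (p : ℕ) [Fact p.Prime] (M : Ideal Cfsg.AlgInt) (hM : Cfsg.IsPModular p M) (P Q : Subgroup G) (e : Set (Cfsg.IrrCharacter (Subgroup.centralizer (P : Set G)))) (hPe : Cfsg.IsBrauerPair p M P e) (hQP : Q ≤ P) (hPN : P ≤ Subgroup.normalizer (Q : Set G)) : ∃! f : Set (Cfsg.IrrCharacter (Subgroup.centralizer (Q : Set G))), Cfsg.IsNormalSubpair p M Q f P e := by
  have : M.IsMaximal := hM.2.1
  have : CharP (AlgInt ⧸ M) p := Blocks.charP_residue hM.2.2
  have hblk : ∀ H : Subgroup G, HasBlocks (AlgInt ⧸ M) H := fun H => hasBlocks M H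
  obtain ⟨he, hpair⟩ := isBrauerPair_iff.1 hPe
  obtain ⟨f, hf, huniq⟩ := existsUnique_step hblk hpair hQP hPN
  obtain ⟨f', hf', rfl⟩ := exists_eq_blk (Subgroup.centralizer (Q : Set G)) hf.1.2
  refine ⟨f', isNormalSubpair_iff.2 ⟨hf', he, hf⟩, fun g hg => ?_⟩
  obtain ⟨hg1, -, hg2⟩ := isNormalSubpair_iff.1 hg
  exact blk_injective _ hg1 hf' (huniq _ hg2)

end Cfsg.Agent.S4656
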