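import Cfsg.Statements.S4657
import Cfsg.Agent.Lib.BrauerPairs.Bridge

set_option autoImplicit false
open Cfsg Cfsg.Agent Cfsg.Agent.BrauerPairs
open scoped Cfsg.Agent.Blocks

namespace Cfsg.Agent.S4657

/-- Fix a prime p and a maximal ideal M of the algebraic integers containing p. Every Brauer pair (P, e) of the finite group G is a Brauer pair of exactly one p-block B of G. -/
theorem result {G : Type*} [Group G] [Fintype G] (p : ℕ) [Fact p.Prime] (M : Ideal Cfsg.AlgInt) (hM : Cfsg.IsPModular p M) (P : Subgroup G) (e : Set (Cfsg.IrrCharacter (Subgroup.centralizer (P : Set G)))) (hPe : Cfsg.IsBrauerPair p M P e) : ∃! B : Set (Cfsg.IrrCharacter G), Cfsg.IsBrauerPairOf p M B P e := by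
  have : M.IsMaximal := hM.2.1
  have : CharP (AlgInt ⧸ M) p := Blocks.charP_residue hM.2.2
  have hblk : ∀ H : Subgroup G, HasBlocks (AlgInt ⧸ M) H := fun H => hasBlocks M H
  obtain ⟨he, hpair⟩ := isBrauerPair_iff.1 hPe
  obtain ⟨B, hB, huniq⟩ := existsUnique_pairOf hblk hpair
  obtain ⟨B', hB', rfl⟩ := exists_eq_blk (⊤ : Subgroup G) hB.1
  let ι : G ≃* (⊤ : Subgroup G) := Subgroup.topEquiv.symm
  have hblkeq : blkG M (mapBlock ι B') = blk M (⊤ : Subgroup G) B' := by
    refine Blocks.alg_ext fun g => ?_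
    rw [coeff_blkG, coeff_blk, blockCoeff_mapBlock]
    simp only [subgroupBlockCoeff, Subgroup.mem_top, dif_pos]
    rfl
  have hm := isPBlock_mapBlock ι hB'
  refine ⟨mapBlock ι B', (isBrauerPairOf_iff hm).2 ⟨he, hblkeq ▸ hB.2⟩, fun C hC => ?_⟩
  obtain ⟨-, hC2⟩ := (isBrauerPairOf_iff hC.2.1).1 hC
  exact blkG_injective hC.2.1 hm ((huniq _ ⟨isBlockIdem_blkG hC.2.1, hC2⟩).trans hblkeq.symm)

end Cfsg.Agent.S4657
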