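import Cfsg.Statements.S4662
import Cfsg.Agent.Lib.BrauerPairs.LocalBridge

set_option autoImplicit false
open Cfsg Cfsg.Agent Cfsg.Agent.BrauerPairs
open scoped Cfsg.Agent.Blocks

namespace Cfsg.Agent.S4662

/-- Fix a prime p and a maximal ideal M of the algebraic integers containing p. Let (P, e) be a maximal Brauer pair of the p-block B of the finite group G, Q ≤ P, and f the p-block of C_G(Q) with (Q, f) ≤ (P, e). Let T be the stabilizer of f in N_G(Q). Then the idempotent of f is a block idempotent of T, and N_P(Q) is contained in a defect group of that block of T; moreover for some x in G the conjugate pair (x Q x⁻¹, conjugate of f) again lies below (P, e) and, with T' the stabilizer of the conjugate of f in N_G(x Q x⁻¹), N_P(x Q x⁻¹) is a defect group of the block of T' whose idempotent is that of the conjugate of f. -/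
theorem result {G : Type*} [Group G] [Fintype G] (p : ℕ) [Fact p.Prime] (M : Ideal Cfsg.AlgInt) (hM : Cfsg.IsPModular p M) (B : Set (Cfsg.IrrCharacter G)) (P Q : Subgroup G) (e : Set (Cfsg.IrrCharacter (Subgroup.centralizer (P : Set G)))) (f : Set (Cfsg.IrrCharacter (Subgroup.centralizer (Q : Set G)))) (hmax : Cfsg.IsMaximalBrauerPair p M B P e) (hQP : Q ≤ P) (hf : Cfsg.IsPBlock M f) (hle : Cfsg.SubpairLE p M Q f P e) (T : Subgroup G) (hT : ∀ y : G, y ∈ T ↔ y ∈ Subgroup.normalizer (Q : Set G) ∧ Cfsg.StabilizesBlock (Subgroup.centralizer (Q : Set G)) f y) : (∃ F : Set (Cfsg.IrrCharacter T), Cfsg.IsPBlock M F ∧ (∀ t : T, Cfsg.blockCoeff F t = Cfsg.subgroupBlockCoeff (Subgroup.centralizer (Q : Set G)) f (t : G)) ∧ ∃ D : Subgroup T, Cfsg.IsDefectGroup p M F D ∧ (P ⊓ Subgroup.normalizer (Q : Set G)).subgroupOf T ≤ D) ∧ ∃ x : G, Cfsg.SubpairLE p M (Q.map (MulAut.conj x).toMonoidHom) (Cfsg.conjBlock Q x f) P e ∧ ∀ (T' : Subgroup G), (∀ y : G, y ∈ T' ↔ y ∈ Subgroup.normalizer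 ((Q.map (MulAut.conj x).toMonoidHom) : Set G) ∧ Cfsg.StabilizesBlock (Subgroup.centralizer ((Q.map (MulAut.conj x).toMonoidHom) : Set G)) (Cfsg.conjBlock Q x f) y) → ∃ F' : Set (Cfsg.IrrCharacter T'), Cfsg.IsPBlock M F' ∧ (∀ t : T', Cfsg.blockCoeff F' t = Cfsg.subgroupBlockCoeff (Subgroup.centralizer ((Q.map (MulAut.conj x).toMonoidHom) : Set G)) (Cfsg.conjBlock Q x f) (t : G)) ∧ Cfsg.IsDefectGroup p M F' ((P ⊓ Subgroup.normalizer ((Q.map (MulAut.conj x).toMonoidHom) : Set G)).subgroupOf T') := by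
  have : M.IsMaximal := hM.2.1
  have : CharP (AlgInt ⧸ M) p := Blocks.charP_residue hM.2.2
  have hblk : ∀ H : Subgroup G, HasBlocks (AlgInt ⧸ M) H := fun H => hasBlocks M H
  have hB : IsPBlock M B := hmax.1.2.1
  obtain ⟨he, ha⟩ := (isMaximalBrauerPair_iff hB).1 hmax
  have hp := ple_of_subpairLE hle
  obtain rfl := eq_stabOf hf hT
  have hQf := hp.isPair_left ha.1.1
  constructor
  · obtain ⟨F, hF, hFe, hFc⟩ := exists_block_stab hQf.1 hf (centralizer_le_stabOf hQf.2)
      (self_le_stabOf hQf.2) (stabOf_le _ _) (stabOf_fixes _ _)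
    obtain ⟨D, hD, hPD⟩ := exists_defectIn_stabOf hblk ha.1.1 hp
    refine ⟨F, hF, hFc, D.subgroupOf _, ?_, Subgroup.comap_mono hPD⟩
    rw [isDefectGroup_subgroupOf_iff hF hD.2.1, hFe]
    exact hD
  · obtain ⟨x, hx, hD⟩ := exists_conj_defectIn_stabOf hblk (isBlockIdem_blkG hB) ha hp
    have e1 := blk_conjBlock (M := M) Q x f
    have hf' := isPBlock_conjBlock hf x
    have e2 : blk M _ (conjBlock Q x f) = conjEl x (blk M _ f) := congrArg Prod.snd e1
    refine ⟨x, subpairLE_of_ple hf' he (by rw [e1]; exact hx), fun T' hT' => ?_⟩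
    obtain rfl := eq_stabOf hf' hT'
    have hQf' := hx.isPair_left ha.1.1
    rw [← e1] at hQf'
    obtain ⟨F, hF, hFe, hFc⟩ := exists_block_stab hQf'.1 hf' (centralizer_le_stabOf hQf'.2)
      (self_le_stabOf hQf'.2) (stabOf_le _ _) (stabOf_fixes _ _)
    refine ⟨F, hF, hFc, ?_⟩
    rw [isDefectGroup_subgroupOf_iff hF, hFe, e2]
    · exact hD
    · rw [e2]; exact hD.2.1

end Cfsg.Agent.S4662
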