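import Cfsg.Statements.S4664
import Cfsg.Agent.Lib.Blocks.Core
import Cfsg.Agent.Lib.CharInt.Basic

set_option autoImplicit false
open Cfsg Cfsg.Agent

namespace Cfsg.Agent.S4664

/-- Fix a prime p and a maximal ideal M of the algebraic integers containing p, and let B be a p-block of the finite group G. Let m be the p'-part of the order of G and η = exp(2πi/m). Then every coefficient of the idempotent of B lies in the cyclotomic field ℚ(η). -/
theorem result {G : Type*} [Group G] [Fintype G] (p : ℕ) [Fact p.Prime] (M : Ideal Cfsg.AlgInt) (hM : Cfsg.IsPModular p M) (B : Set (Cfsg.IrrCharacter G)) (hB : Cfsg.IsPBlock M B) (g : G) : Cfsg.blockCoeff B g ∈ IntermediateField.adjoin ℚ ({Complex.exp (2 * Real.pi * Complex.I / ((Nat.card G / p ^ (Nat.card G).factorization p : ℕ) : ℂ))} : Set ℂ) := by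
  classical
  have : M.IsMaximal := hM.2.1
  by_cases hg : IsPRegular p g
  swap
  · rw [Blocks.blockCoeff_eq_zero hM.2.2 hB hg]
    exact zero_mem _
  set m := Nat.card G / p ^ (Nat.card G).factorization p with hm
  have hm0 : m ≠ 0 := (Nat.ordCompl_pos p Nat.card_pos.ne').ne'
  have hord : orderOf g ∣ m := by
    refine (Nat.Coprime.dvd_mul_left (m := p ^ (Nat.card G).factorization p) ?_).1 ?_
    · exact (((Fact.out : p.Prime).coprime_iff_not_dvd).2 hg).symm.pow_right _
    · rw [hm, Nat.ordProj_mul_ordCompl_eq_self]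
      exact orderOf_dvd_natCard g
  have hη := Complex.isPrimitiveRoot_exp m hm0
  have hroot : ∀ z : ℂ, z ^ orderOf g = 1 →
      z ∈ IntermediateField.adjoin ℚ ({Complex.exp (2 * Real.pi * Complex.I / (m : ℂ))} : Set ℂ) := by
    intro z hz
    have : NeZero m := ⟨hm0⟩
    obtain ⟨i, -, rfl⟩ := hη.eq_pow_of_pow_eq_one (ξ := z) (by
      obtain ⟨d, hd⟩ := hord
      rw [hd, pow_mul, hz, one_pow])
    exact pow_mem (IntermediateField.mem_adjoin_simple_self ℚ _) i
  rw [Blocks.blockCoeff_eq_sum]
  refine mul_mem (inv_mem (natCast_mem _ _)) (sum_mem fun χ _ => ?_)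
  have hc : Cfsg.IsCharacter G χ.1 := CharInt.isCharacter_of_isIrr χ.2
  obtain ⟨n, μ, hn, hμ, hpow⟩ := CharInt.exists_roots hc g
  refine mul_mem (by rw [hn]; exact natCast_mem _ _) ?_
  have h1 := hpow 1
  rw [pow_one] at h1
  rw [h1, map_sum]
  refine sum_mem fun i _ => ?_
  rw [pow_one]
  exact hroot _ (by rw [← map_pow, hμ i, map_one])

end Cfsg.Agent.S4664
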