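import Cfsg.Statements.S4665
import Cfsg.Agent.Lib.Char.PRegular
-- import your own Cfsg.Agent.* helpers here

set_option autoImplicit false
open Cfsg

namespace Cfsg.Agent.S4665

/-- Fix a prime p, a maximal ideal M of the algebraic integers containing p, and a p-block B of the finite group G, and let p^a be the p-part of the order of G. Let χ be an integer combination of the irreducible characters in B. If the function that agrees with χ on p-regular elements and vanishes on p-singular elements is again an integer combination of the irreducible characters in B, then p^a divides χ(1). -/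
theorem result {G : Type*} [Group G] [Fintype G] (p : ℕ) [Fact p.Prime] (M : Ideal Cfsg.AlgInt) (hM : Cfsg.IsPModular p M) (B : Set (Cfsg.IrrCharacter G)) (hB : Cfsg.IsPBlock M B) (χ : G → ℂ) (hχ : (∃ n : Cfsg.IrrCharacter G → ℤ, ∀ g : G, χ g = ∑ᶠ ψ ∈ B, (n ψ : ℂ) * (ψ : G → ℂ) g)) (h0 : (∃ n : Cfsg.IrrCharacter G → ℤ, ∀ g : G, Cfsg.pRegularPart p χ g = ∑ᶠ ψ ∈ B, (n ψ : ℂ) * (ψ : G → ℂ) g)) : ∃ k : ℤ, χ 1 = (p ^ (Nat.card G).factorization p : ℂ) * k := by
  classical
  obtain ⟨c, hc⟩ := hχ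
  obtain ⟨c', hc'⟩ := h0
  have hgen : Cfsg.IsGeneralizedCharacter G (Cfsg.pRegularPart p χ) := by
    have : Cfsg.pRegularPart p χ = fun g => ∑ ψ ∈ Finset.univ.filter (· ∈ B), (c' ψ : ℂ) * ψ.1 g := by
      funext g
      rw [hc' g]
      exact finsum_mem_eq_sum_of_inter_support_eq _ (by ext; simp)
    rw [this, show (fun g => ∑ ψ ∈ Finset.univ.filter (· ∈ B), (c' ψ : ℂ) * ψ.1 g) =
      ∑ ψ ∈ Finset.univ.filter (· ∈ B), (c' ψ : ℂ) • ψ.1 by funext g; simp]
    exact Char.IsGeneralizedCharacter.sum _ fun ψ _ =>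
      Char.IsGeneralizedCharacter.intCast_smul (Char.irr_isGeneralized ψ) _
  obtain ⟨z, hz⟩ := Char.exists_int_apply_one_eq_pPow_mul (Fact.out : p.Prime) hgen fun x hx => by
    simp [Cfsg.pRegularPart, Cfsg.IsPRegular, hx]
  refine ⟨z, ?_⟩
  simp only [Cfsg.pRegularPart, Cfsg.IsPRegular, orderOf_one, Nat.dvd_one,
    (Fact.out : p.Prime).ne_one, not_false_iff, if_true] at hz
  rw [hz, Nat.cast_pow]

end Cfsg.Agent.S4665
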