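import Cfsg.Statements.S4666
import Cfsg.Agent.Lib.Char.PRegularBlock
import Cfsg.Agent.Lib.Char.KernelSum
-- import your own Cfsg.Agent.* helpers here

set_option autoImplicit false
open Cfsg

namespace Cfsg.Agent.S4666

/-- Fix a prime p and a maximal ideal M of the algebraic integers containing p, and a p-block B of the finite group G of defect d. For every integer combination χ of the irreducible characters in B, p^d times the function that agrees with χ on p-regular elements and vanishes elsewhere is again an integer combination of the irreducible characters in B. -/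
theorem result {G : Type*} [Group G] [Fintype G] (p : ℕ) [Fact p.Prime] (M : Ideal Cfsg.AlgInt) (hM : Cfsg.IsPModular p M) (B : Set (Cfsg.IrrCharacter G)) (hB : Cfsg.IsPBlock M B) (χ : G → ℂ) (hχ : (∃ n : Cfsg.IrrCharacter G → ℤ, ∀ g : G, χ g = ∑ᶠ ψ ∈ B, (n ψ : ℂ) * (ψ : G → ℂ) g)) : (∃ n : Cfsg.IrrCharacter G → ℤ, ∀ g : G, (p ^ Cfsg.blockDefect p B : ℂ) * Cfsg.pRegularPart p χ g = ∑ᶠ ψ ∈ B, (n ψ : ℂ) * (ψ : G → ℂ) g) := by
  classical
  obtain ⟨hp, hMax, hpM⟩ := hM
  haveI := hMax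
  obtain ⟨n, hn⟩ := hχ
  have hk : ∀ ψ : Cfsg.IrrCharacter G, ψ ∈ B → (Nat.card G).factorization p -
      (Char.degree ψ).factorization p ≤ Cfsg.blockDefect p B := by
    intro ψ hψ
    rw [Cfsg.blockDefect, ← Char.charDegree_eq_degree]
    have hmem : (Cfsg.charDegree (ψ : G → ℂ)).factorization p ∈
        (fun χ : Cfsg.IrrCharacter G => (Cfsg.charDegree (χ : G → ℂ)).factorization p) '' B :=
      ⟨ψ, hψ, rfl⟩
    exact Nat.sub_le_sub_left (Nat.sInf_le hmem) _
  have hex : ∀ ψ : Cfsg.IrrCharacter G, ∃ c : Cfsg.IrrCharacter G → ℤ, (∀ η, η ∉ B → c η = 0) ∧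
      (ψ ∈ B → ∀ x, ((p ^ Cfsg.blockDefect p B : ℕ) : ℂ) * Char.regFun p ψ.1 x =
        ∑ η, (c η : ℂ) * η.1 x) := by
    intro ψ
    by_cases hψ : ψ ∈ B
    · obtain ⟨c, h1, h2⟩ := Char.exists_block_coeff hpM hp hB hψ (hk ψ hψ)
      exact ⟨c, h1, fun _ => h2⟩
    · exact ⟨0, fun _ _ => rfl, fun h => absurd h hψ⟩
  choose c hc0 hc using hex
  have hsum : ∀ f : Cfsg.IrrCharacter G → ℂ,
      ∑ᶠ ψ ∈ B, f ψ = ∑ ψ ∈ Finset.univ.filter (· ∈ B), f ψ := fun f =>
    finsum_mem_eq_sum_of_inter_support_eq _ (by ext; simp)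
  refine ⟨fun η => ∑ ψ ∈ Finset.univ.filter (· ∈ B), n ψ * c ψ η, fun g => ?_⟩
  rw [hsum]
  have h1 : (p ^ Cfsg.blockDefect p B : ℂ) * Cfsg.pRegularPart p χ g =
      ∑ ψ ∈ Finset.univ.filter (· ∈ B), (n ψ : ℂ) *
        (((p ^ Cfsg.blockDefect p B : ℕ) : ℂ) * Char.regFun p ψ.1 g) := by
    simp only [Cfsg.pRegularPart, Cfsg.IsPRegular, Char.regFun, hn g, hsum, Nat.cast_pow]
    split_ifs with h
    · simp
    · rw [Finset.mul_sum]
      exact Finset.sum_congr rfl fun ψ _ => by ring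
  rw [h1, Finset.sum_congr rfl fun ψ hψ => by rw [hc ψ (Finset.mem_filter.1 hψ).2 g, Finset.mul_sum],
    Finset.sum_comm, Finset.sum_filter (s := Finset.univ)]
  refine Finset.sum_congr rfl fun η _ => ?_
  split_ifs with hη
  · push_cast
    rw [Finset.sum_mul]
    exact Finset.sum_congr rfl fun ψ _ => by ring
  · exact Finset.sum_eq_zero fun ψ _ => by simp [hc0 ψ η hη]

end Cfsg.Agent.S4666
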