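import Cfsg.Statements.S4668
import Cfsg.Agent.Lib.BrauerPairs.NormalPSub
import Cfsg.Agent.Lib.Blocks.Core

set_option autoImplicit false
open Cfsg Cfsg.Agent Cfsg.Agent.BrauerPairs
open scoped Cfsg.Agent.Blocks

namespace Cfsg.Agent.S4668

/-- A `p`-regular element centralizing `N_R(U) ∋ U` inside the `p`-group `R` it normalizes centralizes `R`. -/
theorem centralizes_of_normalizer {G : Type*} [Group G] [Finite G] {p : ℕ} [Fact p.Prime]
    {R U : Subgroup G} (hR : IsPGroup p R) (hUR : U ≤ R) {x : G}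
    (hxR : x ∈ Subgroup.normalizer (R : Set G)) (hx : IsPRegular p x)
    (hc : x ∈ Subgroup.centralizer ((R ⊓ Subgroup.normalizer (U : Set G) : Subgroup G) : Set G)) :
    x ∈ Subgroup.centralizer (R : Set G) := by
  set C := R ⊓ Subgroup.centralizer (Subgroup.zpowers x : Set G) with hC
  have hcomm : ∀ y : G, y * x = x * y → y ∈ Subgroup.centralizer (Subgroup.zpowers x : Set G) := by
    intro y hy
    rw [Subgroup.mem_centralizer_iff]
    rintro z ⟨i, rfl⟩
    exact ((Commute.zpow_right hy i).eq).symm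
  have hUC : R ⊓ Subgroup.normalizer (U : Set G) ≤ C := fun y hy =>
    ⟨hy.1, hcomm y (Subgroup.mem_centralizer_iff.1 hc y hy)⟩
  have hfix : ∀ y ∈ C, y * x = x * y := fun y hy =>
    (Subgroup.mem_centralizer_iff.1 hy.2 x (Subgroup.mem_zpowers x)).symm
  by_contra hne
  have hlt : C < R := by
    refine lt_of_le_of_ne inf_le_left fun he => hne ?_
    rw [Subgroup.mem_centralizer_iff]
    exact fun y hy => hfix y (he.ge hy)
  obtain ⟨q, ⟨hqR, hqN⟩, hqC⟩ := SetLike.exists_of_lt (lt_inf_normalizer hR hlt)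
  apply hqC
  -- `z = q⁻¹ (x q x⁻¹)` centralizes `C`, so lies in `C`
  have hxq : x * q * x⁻¹ ∈ R := (Subgroup.mem_normalizer_iff.1 hxR q).1 hqR
  have hzR : q⁻¹ * (x * q * x⁻¹) ∈ R := mul_mem (inv_mem hqR) hxq
  have hzc : ∀ c ∈ C, q⁻¹ * (x * q * x⁻¹) * c = c * (q⁻¹ * (x * q * x⁻¹)) := by
    intro c hc'
    have hd := hfix _ ((Subgroup.mem_normalizer_iff.1 hqN c).1 hc')
    calc q⁻¹ * (x * q * x⁻¹) * c = q⁻¹ * x * q * (x⁻¹ * (c * x)) * x⁻¹ := by group
      _ = q⁻¹ * x * q * (x⁻¹ * (x * c)) * x⁻¹ := by rw [hfix c hc']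
      _ = q⁻¹ * (x * (q * c * q⁻¹)) * q * x⁻¹ := by group
      _ = q⁻¹ * ((q * c * q⁻¹) * x) * q * x⁻¹ := by rw [hd]
      _ = c * (q⁻¹ * (x * q * x⁻¹)) := by group
  have hzC : q⁻¹ * (x * q * x⁻¹) ∈ C := by
    refine hUC ⟨hzR, Subgroup.centralizer_le_normalizer _ (Subgroup.mem_centralizer_iff.2 fun u hu => ?_)⟩
    exact (hzc u (hUC ⟨hUR hu, Subgroup.le_normalizer hu⟩)).symm
  have hpow : ∀ n : ℕ, x ^ n * q * (x ^ n)⁻¹ = q * (q⁻¹ * (x * q * x⁻¹)) ^ n := by
    intro n
    induction n with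
    | zero => simp
    | succ n ih =>
      have hz : x * (q⁻¹ * (x * q * x⁻¹)) ^ n * x⁻¹ = (q⁻¹ * (x * q * x⁻¹)) ^ n := by
        rw [← hfix _ (pow_mem hzC n), mul_inv_cancel_right]
      calc x ^ (n + 1) * q * (x ^ (n + 1))⁻¹ = x * (x ^ n * q * (x ^ n)⁻¹) * x⁻¹ := by
            rw [pow_succ']; group
        _ = (x * q * x⁻¹) * (x * (q⁻¹ * (x * q * x⁻¹)) ^ n * x⁻¹) := by rw [ih]; group
        _ = _ := by rw [hz, pow_succ', ← mul_assoc q]; congr 1; group
  have h1 := hpow (orderOf x)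
  rw [pow_orderOf_eq_one, one_mul, inv_one, mul_one, left_eq_mul] at h1
  obtain ⟨n, hn⟩ := hR ⟨_, hzR⟩
  have hn' : (q⁻¹ * (x * q * x⁻¹)) ^ p ^ n = 1 := congrArg Subtype.val hn
  have hcop : (p ^ n).Coprime (orderOf x) :=
    (((Fact.out : p.Prime).coprime_iff_not_dvd).2 hx).pow_left n
  have hz1 : q⁻¹ * (x * q * x⁻¹) = 1 :=
    orderOf_eq_one_iff.1 (Nat.eq_one_of_dvd_coprimes hcop (orderOf_dvd_of_pow_eq_one hn')
      (orderOf_dvd_of_pow_eq_one h1))
  rw [inv_mul_eq_one] at hz1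
  refine ⟨hqR, hcomm q ?_⟩
  calc q * x = x * q * x⁻¹ * x := by rw [← hz1]
    _ = x * q := inv_mul_cancel_right _ _

/-- Fix a prime p and a maximal ideal M of the algebraic integers containing p. Let Q₀ < Q₁ < ⋯ < Q_m be a strictly increasing chain of p-subgroups of the finite group G and N the intersection of their normalizers. Then every block idempotent of N is supported on C_G(Q_m): for every p-block E of N, the idempotent coefficient of E vanishes at every element of N outside C_G(Q_m). -/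
theorem result {G : Type*} [Group G] [Fintype G] (p : ℕ) [Fact p.Prime] (M : Ideal Cfsg.AlgInt) (hM : Cfsg.IsPModular p M) (m : ℕ) (Q : Fin (m + 1) → Subgroup G) (hQ : StrictMono Q) (hQp : ∀ i, IsPGroup p (Q i)) (N : Subgroup G) (hN : ∀ g : G, g ∈ N ↔ ∀ i, g ∈ Subgroup.normalizer (Q i : Set G)) (E : Set (Cfsg.IrrCharacter N)) (hE : Cfsg.IsPBlock M E) (n : N) (hn : (n : G) ∉ Subgroup.centralizer (Q (Fin.last m) : Set G)) : Cfsg.blockCoeff E n = 0 := by
  have : M.IsMaximal := hM.2.1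
  have : CharP (AlgInt ⧸ M) p := Blocks.charP_residue hM.2.2
  by_contra hne
  have hreg : IsPRegular p n := by
    by_contra h
    exact hne (Blocks.blockCoeff_eq_zero hM.2.2 hE h)
  have hregG : IsPRegular p (n : G) := fun hd => hreg (Subgroup.orderOf_coe n ▸ hd)
  let R : Fin (m + 1) → Subgroup G := fun j =>
    Q (Fin.last m) ⊓ ⨅ (i : Fin (m + 1)) (_ : j ≤ i), Subgroup.normalizer (Q i : Set G)
  have hRmem : ∀ (j : Fin (m + 1)) (y : G), y ∈ R j ↔
      y ∈ Q (Fin.last m) ∧ ∀ i, j ≤ i → y ∈ Subgroup.normalizer (Q i : Set G) := fun j y => by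
    simp only [R, Subgroup.mem_inf, Subgroup.mem_iInf]
  have hR0 : (n : G) ∈ Subgroup.centralizer (R 0 : Set G) := by
    have hR0N : R 0 ≤ N := fun y hy => (hN y).2 fun i => ((hRmem 0 y).1 hy).2 i (Fin.zero_le i)
    have hR0p : IsPGroup p ((R 0).subgroupOf N) :=
      ((hQp (Fin.last m)).to_le inf_le_left).of_equiv (Subgroup.subgroupOfEquivOfLe hR0N).symm
    have : ((R 0).subgroupOf N).Normal := by
      refine ⟨fun y hy t => ?_⟩
      rw [Subgroup.mem_subgroupOf] at hy ⊢
      simp only [Subgroup.coe_mul, Subgroup.coe_inv]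
      refine (hRmem 0 _).2 ⟨(Subgroup.mem_normalizer_iff.1 ((hN t).1 t.2 (Fin.last m)) _).1 hy.1, ?_⟩
      intro i hi
      have h := ((hRmem 0 _).1 hy).2
      exact mul_mem (mul_mem ((hN t).1 t.2 i) (h i hi)) (inv_mem ((hN t).1 t.2 i))
    letI := Fintype.ofFinite N
    have hmem : n ∈ Subgroup.centralizer ((R 0).subgroupOf N : Set N) := by
      by_contra h
      obtain ⟨e, he, hBe⟩ := exists_block_centralizer hR0p hE
      apply hne
      rw [blockCoeff_eq_orbitSum hE he hBe (T := stabOf ((R 0).subgroupOf N) (blk M _ e)) (fun x => by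
        rw [mem_stabOf, and_iff_right (le_normalizer_of_normal ((R 0).subgroupOf N) ⊤ (Subgroup.mem_top x))]) n,
        Finset.sum_eq_zero (fun x _ => ?_), mul_zero]
      unfold subgroupBlockCoeff
      exact dif_neg fun h' => h ((mem_centralizer_normal_iff x n).2 h')
    refine Subgroup.mem_centralizer_iff.2 fun y hy => ?_
    exact congrArg Subtype.val (Subgroup.mem_centralizer_iff.1 hmem ⟨y, hR0N hy⟩ hy)
  have hstep : ∀ j : Fin (m + 1), (n : G) ∈ Subgroup.centralizer (R j : Set G) := by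
    intro j
    induction j using Fin.induction with
    | zero => exact hR0
    | succ j ih =>
      have hQR : Q j.castSucc ≤ R j.succ := by
        refine le_inf (hQ.monotone (Fin.le_last _)) (le_iInf fun i => le_iInf fun hi => ?_)
        exact (hQ.monotone ((Fin.castSucc_lt_succ).le.trans hi)).trans Subgroup.le_normalizer
      refine centralizes_of_normalizer ((hQp (Fin.last m)).to_le inf_le_left) hQR ?_ hregG ?_
      · refine mem_normalizer_of_conj_le fun y hy => (hRmem _ _).2 ⟨?_, ?_⟩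
        · exact (Subgroup.mem_normalizer_iff.1 ((hN n).1 n.2 _) y).1 hy.1
        · intro i hi
          have h := ((hRmem _ _).1 hy).2
          exact mul_mem (mul_mem ((hN n).1 n.2 i) (h i hi)) (inv_mem ((hN n).1 n.2 i))
      · refine Subgroup.centralizer_le ?_ ih
        rintro y ⟨hy12, hy3⟩
        obtain ⟨hy1, hy2⟩ := (hRmem _ _).1 hy12
        refine (hRmem _ _).2 ⟨hy1, ?_⟩
        intro i hi
        rcases eq_or_lt_of_le hi with rfl | hlt
        · exact hy3
        · exact hy2 i (Fin.castSucc_lt_iff_succ_le.1 hlt)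
  refine hn (Subgroup.centralizer_le ?_ (hstep (Fin.last m)))
  intro y hy
  refine (hRmem _ _).2 ⟨hy, ?_⟩
  intro i hi
  rw [Fin.last_le_iff.1 hi]
  exact Subgroup.le_normalizer hy

end Cfsg.Agent.S4668
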