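import Cfsg.Statements.S4670
import Cfsg.Agent.Lib.BrauerPairs.Correspondence

set_option autoImplicit false
open Cfsg Cfsg.Agent Cfsg.Agent.BrauerPairs
open scoped Cfsg.Agent.Blocks

namespace Cfsg.Agent.S4670

/-- Fix a prime p and a maximal ideal M of the algebraic integers containing p. Let P be a p-subgroup of the finite group G and H a subgroup containing N_G(P). For every p-block B of G with defect group P there is exactly one p-block c of H with defect group P whose idempotent agrees with that of B, modulo the local ideal at M, at every element of C_G(P) (their Brauer-map images at P coincide); and every p-block c of H with defect group P arises in this way from exactly one such B. This is the Brauer correspondence over H. -/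
theorem result {G : Type*} [Group G] [Fintype G] (p : ℕ) [Fact p.Prime] (M : Ideal Cfsg.AlgInt) (hM : Cfsg.IsPModular p M) (P H : Subgroup G) (hP : IsPGroup p P) (hH : Subgroup.normalizer (P : Set G) ≤ H) : (∀ B : Set (Cfsg.IrrCharacter G), Cfsg.IsPBlock M B → Cfsg.IsDefectGroup p M B P → ∃! c : Set (Cfsg.IrrCharacter H), Cfsg.IsPBlock M c ∧ Cfsg.IsDefectGroup p M c (P.subgroupOf H) ∧ ∀ x : G, x ∈ Subgroup.centralizer (P : Set G) → Cfsg.MemLocalIdeal M (Cfsg.blockCoeff B x - Cfsg.subgroupBlockCoeff H c x)) ∧ (∀ c : Set (Cfsg.IrrCharacter H), Cfsg.IsPBlock M c → Cfsg.IsDefectGroup p M c (P.subgroupOf H) → ∃! B : Set (Cfsg.IrrCharacter G), Cfsg.IsPBlock M B ∧ Cfsg.IsDefectGroup p M B P ∧ ∀ x : G, x ∈ Subgroup.centralizer (P : Set G) → Cfsg.MemLocalIdeal M (Cfsg.blockCoeff B x - Cfsg.subgroupBlockCoeff H c x)) := by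
  have : M.IsMaximal := hM.2.1
  have : CharP (AlgInt ⧸ M) p := Blocks.charP_residue hM.2.2
  have hblk : ∀ L : Subgroup G, HasBlocks (AlgInt ⧸ M) L := fun L => hasBlocks M L
  obtain ⟨hPH, hCH⟩ := le_sub_of_normalizer_le hH
  have hsub : ∀ (c : Set (IrrCharacter H)), IsPBlock M c → ∀ x, MemLocalRing M (subgroupBlockCoeff H c x) := by
    intro c hc x
    unfold subgroupBlockCoeff
    by_cases hx : x ∈ H
    · rw [dif_pos hx]; exact memLocalRing_blockCoeff hc _
    · rw [dif_neg hx]; exact Blocks.memLocalRing_zero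
  have hagree : ∀ (B : Set (IrrCharacter G)), IsPBlock M B → ∀ c : Set (IrrCharacter H), IsPBlock M c →
      ((∀ x : G, x ∈ Subgroup.centralizer (P : Set G) →
        MemLocalIdeal M (blockCoeff B x - subgroupBlockCoeff H c x)) ↔
        br P (blkG M B) = br P (blk M H c)) := by
    intro B hB c hc
    constructor
    · intro h
      refine Blocks.alg_ext fun x => ?_
      by_cases hx : x ∈ Subgroup.centralizer (P : Set G)
      · rw [coeff_br_of_mem _ hx, coeff_br_of_mem _ hx, coeff_blkG, coeff_blk,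
          Blocks.red_eq_iff (memLocalRing_blockCoeff hB x) (hsub c hc x)]
        exact h x hx
      · rw [coeff_br_of_notMem _ hx, coeff_br_of_notMem _ hx]
    · intro h x hx
      rw [← Blocks.red_eq_iff (memLocalRing_blockCoeff hB x) (hsub c hc x), ← coeff_blkG, ← coeff_blk,
        ← coeff_br_of_mem _ hx, h, coeff_br_of_mem _ hx]
  constructor
  · intro B hB hD
    obtain ⟨e, he, ha⟩ := exists_isMax_of_isDefectGroup hB hD
    obtain ⟨f, ⟨hf, hfe⟩, hfu⟩ := existsUnique_block_sub hblk hH ha.1.1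
    obtain ⟨c, hc, rfl⟩ := exists_eq_blk H hf
    refine ⟨c, ⟨hc, (isDefectGroup_subgroupOf_iff hc hPH).2 (defectIn_of_max hblk hH ha.1.1 hf hfe ha.2),
      (hagree B hB c hc).2 (br_eq_of_common_pair hblk hH (isBlockIdem_blkG hB) ha hf hfe)⟩, ?_⟩
    rintro c' ⟨hc', -, hag⟩
    refine blk_injective H hc' hc (hfu _ ⟨isBlockIdem_blk H hc', ?_⟩)
    rw [← (hagree B hB c' hc').1 hag]
    exact ha.1.2
  · intro c hc hD
    have hD' := (isDefectGroup_subgroupOf_iff hc hPH).1 hD
    have hf := isBlockIdem_blk (M := M) H hc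
    obtain ⟨e, he, hne⟩ := exists_blockIdem_mul_ne_zero hblk (Subgroup.centralizer (P : Set G)) hD'.2.2.1
    have hfe : br P (blk M H c) * e = e :=
      he.mul_eq_self_of_ne (br_mem_centerIn_sub hCH hf) (br_idem_sub hP hPH hf) hne
    obtain ⟨Bk, ⟨hBk, hpair⟩, huniq⟩ := existsUnique_pairOf hblk (a := (P, e)) (p := p) ⟨hP, he⟩
    have hsum := sum_blkG (M := M) (G := G)
    obtain ⟨B, hB, rfl⟩ : ∃ B : Set (IrrCharacter G), IsPBlock M B ∧ blkG M B = Bk := by
      by_contra hno
      apply hBk.ne_zero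
      rw [← one_mul Bk, ← hsum, Finset.sum_mul]
      refine Finset.sum_eq_zero fun A hA => ?_
      obtain ⟨χ, -, rfl⟩ := Finset.mem_image.1 hA
      exact hBk.mul_eq_zero_of_ne (isBlockIdem_blkG (isPBlock_blockOf χ))
        fun h => hno ⟨_, isPBlock_blockOf χ, h.symm⟩
    have ha : BrauerPairs.IsMax p (blkG M B) (P, e) :=
      ⟨hpair, fun b hb => max_of_defectIn hH hf hfe hD' hb⟩
    refine ⟨B, ⟨hB, isDefectGroup_of_isMax hB ha,
      (hagree B hB c hc).2 (br_eq_of_common_pair hblk hH hBk ha hf hfe)⟩, ?_⟩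
    rintro B' ⟨hB', -, hag⟩
    refine blkG_injective hB' hB (huniq _ ⟨isBlockIdem_blkG hB', ⟨hP, he⟩, ?_⟩)
    rw [(hagree B' hB' c hc).1 hag]
    exact hfe

end Cfsg.Agent.S4670
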