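import Cfsg.Statements.S4672
import Cfsg.Agent.Lib.BrauerPairs.NormalPSub
import Cfsg.Agent.Lib.Blocks.Core

set_option autoImplicit false
open Cfsg Cfsg.Agent Cfsg.Agent.BrauerPairs
open scoped Cfsg.Agent.Blocks

namespace Cfsg.Agent.S4672

/-- Fix a prime p and a maximal ideal M of the algebraic integers containing p. Let N be a normal subgroup of the finite group G of p-power index and c a p-block of N stable under conjugation by G. Then the idempotent of c is a block idempotent of G: there is a p-block B of G whose idempotent coefficients agree with those of c on N and vanish off N; and for every defect group P of such a block B, G = NP and P ∩ N is a defect group of c. -/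
theorem result {G : Type*} [Group G] [Fintype G] (p : ℕ) [Fact p.Prime] (M : Ideal Cfsg.AlgInt) (hM : Cfsg.IsPModular p M) (N : Subgroup G) [N.Normal] (hN : ∃ k : ℕ, N.index = p ^ k) (c : Set (Cfsg.IrrCharacter N)) (hc : Cfsg.IsPBlock M c) (hst : ∀ x : G, Cfsg.StabilizesBlock N c x) : (∃ B : Set (Cfsg.IrrCharacter G), Cfsg.IsPBlock M B ∧ ∀ g : G, Cfsg.blockCoeff B g = Cfsg.subgroupBlockCoeff N c g) ∧ ∀ B : Set (Cfsg.IrrCharacter G), Cfsg.IsPBlock M B → (∀ g : G, Cfsg.blockCoeff B g = Cfsg.subgroupBlockCoeff N c g) → ∀ P : Subgroup G, Cfsg.IsDefectGroup p M B P → N ⊔ P = ⊤ ∧ Cfsg.IsDefectGroup p M c ((P ⊓ N).subgroupOf N) := by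
  classical
  have : M.IsMaximal := hM.2.1
  have : CharP (AlgInt ⧸ M) p := Blocks.charP_residue hM.2.2
  have hblk : ∀ H : Subgroup G, HasBlocks (AlgInt ⧸ M) H := fun H => hasBlocks M H
  obtain ⟨k, hk⟩ := hN
  have hNn : ∀ x : G, x ∈ Subgroup.normalizer (N : Set G) := fun x => by
    rw [Subgroup.normalizer_eq_top]; exact Subgroup.mem_top x
  have hzN := isBlockIdem_blk (M := M) N hc
  have hfix : blk M N c ∈ fixedBy (AlgInt ⧸ M) (⊤ : Subgroup G) :=
    fun x _ => (stabilizesBlock_iff hc (hNn x)).1 (hst x)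
  have hzT : blk M N c ∈ centerIn (AlgInt ⧸ M) (⊤ : Subgroup G) :=
    ⟨fun x hx => absurd (Subgroup.mem_top x) hx, hfix⟩
  have hreg : ∀ g : G, IsPRegular p g → g ∈ N := by
    intro g hg
    have h1 : g ^ p ^ k ∈ N := by rw [← hk]; exact Subgroup.pow_index_mem N g
    obtain ⟨m, hm⟩ := exists_pow_eq_self_of_coprime (x := g) (n := p ^ k)
      ((((Fact.out : p.Prime).coprime_iff_not_dvd).2 hg).pow_left k)
    rw [← hm]
    exact pow_mem h1 m
  constructor
  · obtain ⟨B, hB, hne⟩ : ∃ B : Set (IrrCharacter G), IsPBlock M B ∧ blkG M B * blk M N c ≠ 0 := by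
      by_contra h
      refine hzN.ne_zero ?_
      rw [← one_mul (blk M N c), ← sum_blkG (M := M) (G := G), Finset.sum_mul]
      refine Finset.sum_eq_zero fun B hB => by_contra fun hB0 => h ⟨B, ?_, hB0⟩
      obtain ⟨χ, -, rfl⟩ := Finset.mem_image.1 hB
      exact isPBlock_blockOf χ
    have hbi := isBlockIdem_blkG hB
    have hbN : blkG M B ∈ centerIn (AlgInt ⧸ M) N := by
      refine ⟨fun x hx => ?_, fixedBy_anti le_top hbi.mem.2⟩
      rw [coeff_blkG, Blocks.blockCoeff_eq_zero hM.2.2 hB fun h => hx (hreg x h), Blocks.red_zero]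
    have hcomm : Commute (blkG M B) (blk M N c) :=
      centerIn_commute (H := (⊤ : Subgroup G)) (fun x hx => absurd (Subgroup.mem_top x) hx) hfix
    have h1 := hzN.mul_eq_self_of_ne hbN (blkG_mul_self hB) hne
    have h2 := hbi.mul_eq_self_of_ne hzT hzN.idem (by rw [← hcomm.eq]; exact hne)
    rw [← hcomm.eq, h1] at h2
    set u : MonoidAlgebra ℂ G := incl N ℂ (Blocks.blockIdem c) with hu
    have hcoef : ∀ g, u.coeff g = subgroupBlockCoeff N c g := coeff_incl_blockIdem c
    have huc : Blocks.IsCentralElt u := fun a h => by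
      rw [hcoef, hcoef]
      have h3 := subgroupBlockCoeff_conj hc (hNn h⁻¹) (hfix h⁻¹ (Subgroup.mem_top _)) a
      rwa [inv_inv] at h3
    have huu : u * u = u := by rw [hu, ← map_mul, Blocks.blockIdem_mul_self]
    have huS : Blocks.SCoeff M u := fun g => by
      rw [hcoef]
      unfold subgroupBlockCoeff
      by_cases hg : g ∈ N
      · rw [dif_pos hg]; exact memLocalRing_blockCoeff hc _
      · rw [dif_neg hg]; exact Blocks.memLocalRing_zero
    have hred : Blocks.redA M u = blk M N c :=
      Blocks.alg_ext fun g => by rw [Blocks.coeff_redA, hcoef, coeff_blk]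
    have hfin : Blocks.blockIdem B = u :=
      central_idem_ext (Blocks.isCentralElt_blockIdem B) (Blocks.blockIdem_mul_self B) (scoeff_blockIdem hB)
        huc huu huS (by rw [hred]; exact h2.symm)
    exact ⟨B, hB, fun g => by rw [← Blocks.coeff_blockIdem, hfin, hcoef]⟩
  · intro B hB hcoef P hP
    have hz : blkG M B = blk M N c :=
      Blocks.alg_ext fun g => by rw [coeff_blkG, coeff_blk, hcoef]
    have hD := (isDefectGroup_iff_defectIn_top hB P).1 hP
    rw [hz] at hD
    constructor
    · have hzi : IsBlockIdem (⊤ : Subgroup G) (blk M N c) := hz ▸ isBlockIdem_blkG hB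
      obtain ⟨A, -, hA, hzA⟩ := hD.exists_relTr_eq hblk hzi
      letI := Fintype.ofFinite ((⊤ : Subgroup G) ⧸ (N ⊔ P).subgroupOf ⊤)
      set b := trunc (k := AlgInt ⧸ M) (N : Set G) (relTr P (N ⊔ P) A) with hb
      have htr : ∀ (x : G) (a : MonoidAlgebra (AlgInt ⧸ M) G),
          trunc (N : Set G) (conjEl x a) = conjEl x (trunc (N : Set G) a) := by
        intro x a
        refine Blocks.alg_ext fun g => ?_
        rw [coeff_trunc, coeff_conjEl, coeff_conjEl, coeff_trunc]
        exact if_congr (mem_iff_conj_mem (hNn x) g) rfl rfl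
      have hbN : b ∈ centerIn (AlgInt ⧸ M) N := by
        refine ⟨fun x hx => by rw [hb, coeff_trunc]; exact if_neg hx, fun x hx => ?_⟩
        rw [hb, ← htr, relTr_mem_fixedBy hA x ((le_sup_left : N ≤ N ⊔ P) hx)]
      have htz : trunc (N : Set G) (blk M N c) = blk M N c := by
        refine Blocks.alg_ext fun g => ?_
        rw [coeff_trunc]
        by_cases hg : g ∈ N
        · exact if_pos hg
        · exact (if_neg hg).trans (hzN.mem.1 g hg).symm
      have hzb : blk M N c = relTr (N ⊔ P) ⊤ b := by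
        rw [hb]
        rw [← htz, hzA, ← relTr_trans (S := N ⊔ P) le_sup_right le_top hA, relTr, map_sum]
        exact Finset.sum_congr rfl fun q _ => htr _ _
      have hff : blk M N c = relTr (N ⊔ P) ⊤ (b * blk M N c) := by
        rw [← relTr_mul b hfix, ← hzb, hzN.idem]
      have hbf : b * blk M N c ∈ centerIn (AlgInt ⧸ M) N := mul_mem hbN hzN.mem
      have hconj : ∀ t : (⊤ : Subgroup G), conjEl (t : G) (b * blk M N c) ∈ centerIn (AlgInt ⧸ M) N ∧
          omega (blk M N c) (conjEl (t : G) (b * blk M N c)) = omega (blk M N c) (b * blk M N c) := by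
        intro t
        have hm := conjEl_mem_centerIn (t : G) hbf
        rw [map_conj_eq_of_mem_normalizer (hNn (t : G))] at hm
        refine ⟨hm, hzN.omega_eq hm ?_⟩
        have h1 := (hzN.omega_spec hbf).map (conjEl (k := AlgInt ⧸ M) (t : G))
        rwa [map_sub, map_mul, map_smul, hfix _ t.2] at h1
      have h1 := hzN.omega_self
      conv_lhs at h1 => arg 2; rw [hff, relTr]
      rw [hzN.omega_sum _ _ (fun q _ => (hconj q.out).1), Finset.sum_congr rfl (fun q _ => (hconj q.out).2),
        Finset.sum_const, Finset.card_univ, nsmul_eq_mul, ← Nat.card_eq_fintype_card, ← Subgroup.index,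
        ← Subgroup.relIndex, Subgroup.relIndex_top_right] at h1
      have hdvd : (N ⊔ P).index ∣ p ^ k := hk ▸ Subgroup.index_dvd_of_le le_sup_left
      obtain ⟨i, -, hi⟩ := (Nat.dvd_prime_pow (Fact.out : p.Prime)).1 hdvd
      rcases Nat.eq_zero_or_pos i with rfl | hipos
      · rwa [pow_zero, Subgroup.index_eq_one] at hi
      · exfalso
        rw [hi, Nat.cast_pow, CharP.cast_eq_zero, zero_pow hipos.ne', zero_mul] at h1
        exact zero_ne_one h1
    · refine (isDefectGroup_subgroupOf_iff hc inf_le_right).2 ?_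
      have hne : br (P ⊓ N) (blk M N c) ≠ 0 := br_ne_zero_mono inf_le_left hD.2.2.1
      obtain ⟨D, hD', hle⟩ := exists_defectIn hblk hzN (hD.1.to_le inf_le_left) inf_le_right hne
      obtain ⟨g, -, hg⟩ := hD.2.2.2 D hD'.1 le_top hD'.2.2.1
      refine hD'.of_card_le hzN.mem.2 (hD.1.to_le inf_le_left) inf_le_right hne ?_
      rw [← BrauerPairs.card_map_conj g D]
      refine Subgroup.card_le_of_le (le_inf hg ((Subgroup.map_mono hD'.2.1).trans ?_))
      rw [map_conj_eq_of_mem_normalizer (hNn g)]

end Cfsg.Agent.S4672
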