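import Cfsg.Statements.S4673
import Cfsg.Agent.Lib.BrauerPairs.Covering
import Cfsg.Agent.Lib.Blocks.Core
-- import your own Cfsg.Agent.* helpers here

set_option autoImplicit false
open Cfsg Cfsg.Agent Cfsg.Agent.BrauerPairs
open scoped Cfsg.Agent.Blocks

namespace Cfsg.Agent.S4673

/-- Fix a prime p and a maximal ideal M of the algebraic integers containing p. Let N ≤ L be normal subgroups of the finite group G with L/N a p-group, let B be a p-block of G covering the p-block c of N (some member of B has a constituent in c on restriction to N), and suppose that N contains a defect group of B. Then the stabilizer T of c in G satisfies T ∩ L = N. -/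
theorem result {G : Type*} [Group G] [Fintype G] (p : ℕ) [Fact p.Prime] (M : Ideal Cfsg.AlgInt) (hM : Cfsg.IsPModular p M) (N L : Subgroup G) [N.Normal] [L.Normal] [Fintype N] (hNL : N ≤ L) (hLN : ∃ k : ℕ, (N.subgroupOf L).index = p ^ k) (B : Set (Cfsg.IrrCharacter G)) (hB : Cfsg.IsPBlock M B) (c : Set (Cfsg.IrrCharacter N)) (hc : Cfsg.IsPBlock M c) (hcov : (∃ χ ∈ B, ∃ θ ∈ c, Cfsg.classInner (fun n : N => (χ : G → ℂ) n) (θ : N → ℂ) ≠ 0)) (hD : ∃ D : Subgroup G, Cfsg.IsDefectGroup p M B D ∧ D ≤ N) (T : Subgroup G) (hT : ∀ x : G, x ∈ T ↔ Cfsg.StabilizesBlock N c x) : T ⊓ L = N := by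
  classical
  have : M.IsMaximal := hM.2.1
  have : CharP (AlgInt ⧸ M) p := Blocks.charP_residue hM.2.2
  have hblk : ∀ H : Subgroup G, HasBlocks (AlgInt ⧸ M) H := fun H => hasBlocks M H
  have hBi := isBlockIdem_blkG hB
  have hn : ∀ x : G, x ∈ Subgroup.normalizer (N : Set G) := fun x => by
    rw [Subgroup.normalizer_eq_top]; exact Subgroup.mem_top x
  have hci := isBlockIdem_blk N hc
  have hTfix : ∀ x : G, x ∈ T ↔ x ∈ fixGroup (blk M N c) := fun x =>
    (hT x).trans (stabilizesBlock_iff hc (hn x))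
  have hNK : N ≤ T ⊓ L := le_inf (fun x hx => (hTfix x).2 (le_fixGroup hci hx)) hNL
  refine le_antisymm (by_contra fun hle => ?_) hNK
  set K : Subgroup G := T ⊓ L with hK
  obtain ⟨k, hk⟩ := hLN
  have hdvd : N.relIndex K ∣ p ^ k := by
    rw [← hk]
    exact Dvd.intro _ (Subgroup.relIndex_mul_relIndex N K L hNK inf_le_right)
  obtain ⟨j, -, hj⟩ := (Nat.dvd_prime_pow Fact.out).1 hdvd
  have hj0 : j ≠ 0 := fun h => hle (Subgroup.relIndex_eq_one.1 (by rw [hj, h, pow_zero]))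
  -- `c` is a block idempotent of `K`
  have hcK : blk M N c ∈ centerIn (AlgInt ⧸ M) K :=
    ⟨suppIn_mono hNK hci.mem.1, fun x hx => (hTfix x).1 hx.1⟩
  obtain ⟨f', hf', hne⟩ := exists_blockIdem_mul_ne_zero hblk K hci.ne_zero
  obtain ⟨F, hF, rfl⟩ := exists_eq_blk K hf'
  have hFN : blk M K F ∈ centerIn (AlgInt ⧸ M) N := by
    refine ⟨fun x hx => ?_, fixedBy_anti hNK hf'.mem.2⟩
    by_cases hxK : x ∈ K
    · rw [coeff_blk]
      unfold subgroupBlockCoeff
      rw [dif_pos hxK, Blocks.blockCoeff_eq_zero hM.2.2 hF ?_, Blocks.red_zero]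
      intro hreg
      exact hx (BlocksX.mem_of_isPRegular_of_index (G := K) (N := N.subgroupOf K) ⟨j, hj⟩ hreg)
    · exact hf'.mem.1 x hxK
  have hcf : blk M N c = blk M K F := by
    have h1 := hf'.mul_eq_self_of_ne hcK hci.idem hne
    have hcomm : blk M K F * blk M N c = blk M N c * blk M K F := centerIn_commute hf'.mem.1 hcK.2
    have h2 := hci.mul_eq_self_of_ne hFN hf'.idem (hcomm ▸ hne)
    rw [← h1, ← hcomm, h2]
  have hKblk : IsBlockIdem K (blk M N c) := hcf ▸ hf'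
  obtain ⟨R, hR, hRK, hRN, hbrR⟩ := exists_pGroup_not_le hblk hNK (fun x _ => hn x)
    (by rw [hj]; exact dvd_pow_self p hj0) hci hKblk
  obtain ⟨χ, hχ, θ, hθ, hcl⟩ := hcov
  have hcomm : blk M N c * blkG M B = blkG M B * blk M N c :=
    centerIn_commute (suppIn_mono le_top hci.mem.1) hBi.mem.2
  have hKT : K ≤ fixGroup (blk M N c) := fun x hx => (hTfix x).1 hx.1
  have hbe : br R (blkG M B * blk M N c) ≠ 0 := br_ne_zero_of_under hKT
    (fun x hx => by
      refine mem_normalizer_of_conj_le fun u hu => ⟨?_, ‹L.Normal›.conj_mem u hu.2 x⟩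
      exact T.mul_mem (T.mul_mem ((hTfix x).2 hx) hu.1) (T.inv_mem ((hTfix x).2 hx)))
    hKblk (mul_mem_centerIn_fixGroup hBi.mem hci)
    (by rw [mul_assoc, ← mul_assoc (blk M N c), hcomm, mul_assoc, hci.idem, ← mul_assoc, hBi.idem])
    (by rw [mul_assoc, hci.idem]) (mul_ne_zero_of_covers hB hc hχ hθ hcl) hR hRK hbrR
  obtain ⟨D, hD, hDN⟩ := hD
  have hRB : br R (blkG M B) ≠ 0 := fun h => hbe (by
    rw [br_mul hR (mem_fixedBy_of_top hBi.mem _) (fixedBy_anti hRK hKblk.mem.2), h, zero_mul])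
  obtain ⟨g, -, hg⟩ := ((isDefectGroup_iff_defectIn_top hB D).1 hD).2.2.2 R hR le_top hRB
  refine hRN fun r hr => ?_
  have h1 : g * r * g⁻¹ ∈ N := hDN (hg ⟨r, hr, rfl⟩)
  simpa [mul_assoc] using ‹N.Normal›.conj_mem _ h1 g⁻¹

end Cfsg.Agent.S4673
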