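import Cfsg.Statements.S4674
import Cfsg.Agent.Lib.BrauerPairs.CorrespondenceNormal

set_option autoImplicit false
open Cfsg Cfsg.Agent Cfsg.Agent.BrauerPairs
open scoped Cfsg.Agent.Blocks

namespace Cfsg.Agent.S4674

/-- Fix a prime p and a maximal ideal M of the algebraic integers containing p. Let N be a normal subgroup of the finite group G, Q a p-subgroup of N, H = N_G(Q) and L = H ∩ N = N_N(Q). Let d be a p-block of N with defect group Q and e the p-block of L with defect group Q that induces d inside N (its Brauer correspondent). Then block induction from H to G is a bijection from the p-blocks of H covering e onto the p-blocks of G covering d: every block of H covering e induces exactly one block of G, and that block covers d; and every block of G covering d is induced by exactly one block of H covering e. -/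
theorem result {G : Type*} [Group G] [Fintype G] (p : ℕ) [Fact p.Prime] (M : Ideal Cfsg.AlgInt) (hM : Cfsg.IsPModular p M) (N : Subgroup G) [N.Normal] [Fintype N] (Q : Subgroup G) (hQ : IsPGroup p Q) (hQN : Q ≤ N) [Fintype ↥(Subgroup.normalizer (Q : Set G) ⊓ N)] (d : Set (Cfsg.IrrCharacter N)) (hd : Cfsg.IsPBlock M d) (hdQ : Cfsg.IsDefectGroup p M d (Q.subgroupOf N)) (e : Set (Cfsg.IrrCharacter ↥(Subgroup.normalizer (Q : Set G) ⊓ N))) (he : Cfsg.IsPBlock M e) (heQ : Cfsg.IsDefectGroup p M e (Q.subgroupOf (Subgroup.normalizer (Q : Set G) ⊓ N))) (hed : Cfsg.IsInducedBlockIn M N (Subgroup.normalizer (Q : Set G) ⊓ N) e d) : (∀ c : Set (Cfsg.IrrCharacter ↥(Subgroup.normalizer (Q : Set G))), Cfsg.IsPBlock M c → (∃ ψ ∈ c, ∃ ξ ∈ e, Cfsg.classInner (fun l : ↥(Subgroup.normalizer (Q : Set G) ⊓ N) => (ψ : ↥(Subgroup.normalizer (Q : Set G)) → ℂ) (Subgroup.inclusion inf_le_left l)) (ξ : ↥(Subgroup.normalizer (Q : Set G) ⊓ N) → ℂ)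 ≠ 0) → ∃! B : Set (Cfsg.IrrCharacter G), Cfsg.IsInducedBlock M (Subgroup.normalizer (Q : Set G)) c B ∧ (∃ χ ∈ B, ∃ θ ∈ d, Cfsg.classInner (fun n : N => (χ : G → ℂ) n) (θ : N → ℂ) ≠ 0)) ∧ (∀ B : Set (Cfsg.IrrCharacter G), Cfsg.IsPBlock M B → (∃ χ ∈ B, ∃ θ ∈ d, Cfsg.classInner (fun n : N => (χ : G → ℂ) n) (θ : N → ℂ) ≠ 0) → ∃! c : Set (Cfsg.IrrCharacter ↥(Subgroup.normalizer (Q : Set G))), (Cfsg.IsPBlock M c ∧ ∃ ψ ∈ c, ∃ ξ ∈ e, Cfsg.classInner (fun l : ↥(Subgroup.normalizer (Q : Set G) ⊓ N) => (ψ : ↥(Subgroup.normalizer (Q : Set G)) → ℂ) (Subgroup.inclusion inf_le_left l)) (ξ : ↥(Subgroup.normalizer (Q : Set G) ⊓ N) → ℂ) ≠ 0) ∧ Cfsg.IsInducedBlock M (Subgroup.normalizer (Q : Set G)) c B) := by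
  classical
  have : M.IsMaximal := hM.2.1
  have : CharP (AlgInt ⧸ M) p := Blocks.charP_residue hM.2.2
  have hblk : ∀ H : Subgroup G, HasBlocks (AlgInt ⧸ M) H := fun H => hasBlocks M H
  have hQH : Q ≤ Subgroup.normalizer (Q : Set G) := Subgroup.le_normalizer
  have hCH := Subgroup.centralizer_le_normalizer (Q : Set G)
  have hdD := (isDefectGroup_subgroupOf_iff hd hQN).1 hdQ
  have heD := (isDefectGroup_subgroupOf_iff he (le_inf hQH hQN)).1 heQ
  have hbr := br_mul_of_isInducedBlockIn hQ (le_inf hQH hQN) inf_le_right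
    (fun x hx => ⟨hCH hx.2, hx.1⟩) inf_le_left hed
  have hdi := isBlockIdem_blk N hd
  have hei := isBlockIdem_blk _ he
  have hHL : Subgroup.normalizer (Q : Set G) ≤
      Subgroup.normalizer ((Subgroup.normalizer (Q : Set G) ⊓ N : Subgroup G) : Set G) := fun g hg =>
    mem_normalizer_of_conj_le fun u hu =>
      ⟨Subgroup.mul_mem _ (Subgroup.mul_mem _ hg hu.1) (Subgroup.inv_mem _ hg), ‹N.Normal›.conj_mem u hu.2 g⟩
  have hind : ∀ c B, IsPBlock M c → IsPBlock M B →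
      (IsInducedBlock M (Subgroup.normalizer (Q : Set G)) c B ↔
        br Q (blkG M B) * blk M _ c = blk M _ c) :=
    fun c B hc hB => isInducedBlock_iff_br hM.2.2 hQ hQH hCH le_rfl hc hB
  constructor
  · intro c hc hcov
    have hce := (covers_iff_mul_ne_zero inf_le_left hHL hc he).1 hcov
    obtain ⟨B, hB⟩ := Blocks.inducedBlockDefined_of_le hM.2.2 hQ hCH le_rfl hQH hc
    refine ⟨B, ⟨hB, ?_⟩, fun B' h => Blocks.IsInducedBlock.unique h.1 hB⟩
    exact covers_of_mul_ne_zero hB.2.1 hd (mul_ne_zero_of_corr hQ hQN (isBlockIdem_blkG hB.2.1)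
      (isBlockIdem_blk _ hc) hdi hbr ((hind c B hc hB.2.1).1 hB) hce)
  · rintro B hB ⟨χ, hχ, θ, hθ, hcl⟩
    obtain ⟨c', hc', hcB, hce⟩ := exists_covering_corr hblk hQ hQN (isBlockIdem_blkG hB) hdi hdD hei hbr
      (mul_ne_zero_of_covers hB hd hχ hθ hcl)
    obtain ⟨c, hc, rfl⟩ := exists_eq_blk (Subgroup.normalizer (Q : Set G)) hc'
    refine ⟨c, ⟨⟨hc, (covers_iff_mul_ne_zero inf_le_left hHL hc he).2 hce⟩, (hind c B hc hB).2 hcB⟩, ?_⟩
    rintro c₁ ⟨⟨hc₁, hcov⟩, hi⟩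
    have hc₁i := isBlockIdem_blk (Subgroup.normalizer (Q : Set G)) hc₁
    have hce₁ := (covers_iff_mul_ne_zero inf_le_left hHL hc₁ he).1 hcov
    have hne : ∀ a : MonoidAlgebra (AlgInt ⧸ M) G, IsBlockIdem (Subgroup.normalizer (Q : Set G)) a → br Q a ≠ 0 := fun a ha => by
      rw [br_eq_of_normal hQ hQH le_rfl ha]; exact ha.ne_zero
    obtain ⟨D, hD, -⟩ := exists_defectIn hblk hc' hQ hQH (hne _ hc')
    obtain ⟨D₁, hD₁, -⟩ := exists_defectIn hblk hc₁i hQ hQH (hne _ hc₁i)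
    obtain ⟨hQD, hinf, hND⟩ := inf_eq_of_covers hblk hQ hQN hc' hei heD hce hD
    obtain ⟨hQD₁, hinf₁, hND₁⟩ := inf_eq_of_covers hblk hQ hQN hc₁i hei heD hce₁ hD₁
    refine blk_injective _ hc₁ hc (eq_of_common_br hblk le_rfl (isBlockIdem_blkG hB) hc₁i hc' hD₁ hD
      hQD₁ hQD hND₁ hND (fun g hg => mem_normalizer_of_conj_le fun u hu => ?_) ((hind c₁ B hc₁ hB).1 hi) hcB)
    rw [← hinf] at hu
    rw [← hinf₁]
    exact ⟨hg.le ⟨u, hu.1, rfl⟩, ‹N.Normal›.conj_mem u hu.2 g⟩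

end Cfsg.Agent.S4674
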