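import Cfsg.Statements.S4676
import Cfsg.Agent.Lib.Char.HeightZero

set_option autoImplicit false
open Cfsg

namespace Cfsg.Agent.S4676

open scoped ComplexConjugate in
open Cfsg.Agent Cfsg.Agent.Char in
/-- The Brauer–Feit bound with heights. -/
theorem height_sum_le {G : Type*} [Group G] [Fintype G] {p : ℕ} {M : Ideal AlgInt} [M.IsMaximal]
    (hpM : (p : AlgInt) ∈ M) (hp : p.Prime) {B : Set (IrrCharacter G)} (hB : IsPBlock M B) :
    ∑ᶠ χ ∈ B, p ^ (2 * blockHeight p B (χ : G → ℂ)) ≤ (p ^ blockDefect p B) ^ 2 / 4 + 1 := by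
  classical
  haveI := Fact.mk hp
  obtain ⟨χ, hχ, h0⟩ := Blocks.exists_height_zero hpM hB
  set a := (Nat.card G).factorization p with ha
  set b := sInf ((fun χ : IrrCharacter G => (charDegree χ.1).factorization p) '' B) with hb
  have hba : b ≤ a := by
    rw [hb, ← factorization_degree_of_height_zero hχ h0, ha]
    exact (Nat.factorization_le_iff_dvd (degree_pos χ).ne' Nat.card_pos.ne').2
      (degree_dvd_natCard χ) p
  choose N hN using fun ξ => exists_int_regInner (p := p) hp χ ξ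
  have hNdvd : ∀ ξ ∈ B, (p : ℤ) ^ b ∣ N ξ := fun ξ hξ =>
    (pow_dvd_pow _ (sInf_le_factorization_degree hξ)).trans (memLocalRing_n_div hpM hp (hN ξ))
  have hNne : ∀ ξ ∈ B, N ξ ≠ 0 := fun ξ hξ =>
    ((blockHeight_eq_zero_iff_padicValInt hpM hp hB hχ hξ (hN ξ)).1 h0).1
  have hlow : ∀ ξ ∈ B, ((p : ℤ) ^ b) ^ 2 ≤ N ξ ^ 2 := fun ξ hξ => by
    obtain ⟨u, hu⟩ := hNdvd ξ hξ
    have hu0 : u ≠ 0 := fun h => hNne ξ hξ (by rw [hu, h, mul_zero])
    rw [hu, mul_pow]
    refine le_mul_of_one_le_right (sq_nonneg _) ?_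
    exact Int.add_one_le_iff.2 (lt_of_le_of_ne (sq_nonneg u) (pow_ne_zero 2 hu0).symm)
  set f := ((p ^ a : ℕ) : ℂ) • regFun p χ.1 with hf
  have hfc : IsClassFunction G f := isClassFunction_of_mul_left (isClassFunction_regFun p
    (IsCharacter.isClassFunction (irr_isCharacter χ))) _
  have hNf : ∀ ξ : IrrCharacter G, classInner f ξ.1 = N ξ := fun ξ => hN ξ
  -- the key identity
  have hid : (∑ ξ : IrrCharacter G, N ξ ^ 2) = (p : ℤ) ^ a * N χ := by
    have h1 : classInner f f = ((p ^ a : ℕ) : ℂ) * classInner f χ.1 := by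
      simp only [classInner, Finset.mul_sum]
      refine Finset.sum_congr rfl fun g _ => ?_
      simp only [hf, Pi.smul_apply, smul_eq_mul, regFun]
      split_ifs
      · simp
      · simp only [map_mul, map_natCast]; ring
    have h2 : ∀ ξ : IrrCharacter G, classInner ξ.1 f = N ξ := fun ξ => by
      have : classInner ξ.1 f = conj (classInner f ξ.1) := by
        simp only [classInner, map_mul, map_inv₀, map_natCast, map_sum, Complex.conj_conj]
        exact congrArg _ (Finset.sum_congr rfl fun g _ => mul_comm _ _)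
      rw [this, hNf, map_intCast]
    rw [classInner_eq_sum hfc, hNf] at h1
    simp only [hNf, h2] at h1
    have h3 : ((∑ ξ : IrrCharacter G, N ξ ^ 2 : ℤ) : ℂ) = (((p : ℤ) ^ a * N χ : ℤ) : ℂ) := by
      push_cast at h1 ⊢
      simpa [sq] using h1
    exact_mod_cast h3
  let Bf : Finset (IrrCharacter G) := Finset.univ.filter (· ∈ B)
  rw [finsum_mem_eq_sum_of_inter_support_eq (t := Bf) _ (by ext x; simp [Bf])]
  have hmem : χ ∈ Bf := by simp [Bf, hχ]
  have hdef : blockDefect p B = a - b := rfl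
  have hlow' : ∀ ξ ∈ B, ((p : ℤ) ^ b) ^ 2 * ((p ^ (2 * blockHeight p B ξ.1) : ℕ) : ℤ) ≤ N ξ ^ 2 := by
    intro ξ hξ
    have hv : (degree ξ).factorization p = b + blockHeight p B ξ.1 := by
      rw [blockHeight, Blocks.charDegree_eq]
      have := sInf_le_factorization_degree (p := p) hξ
      omega
    obtain ⟨u, hu⟩ := memLocalRing_n_div hpM hp (hN ξ)
    have hu0 : u ≠ 0 := fun h => hNne ξ hξ (by rw [hu, h, mul_zero])
    rw [hu, hv, mul_pow, Nat.cast_pow, ← pow_mul, ← pow_mul, ← pow_add,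
      show b * 2 + 2 * blockHeight p B ξ.1 = (b + blockHeight p B ξ.1) * 2 by ring]
    refine le_mul_of_one_le_right (pow_nonneg (Int.natCast_nonneg p) _) ?_
    exact Int.add_one_le_iff.2 (lt_of_le_of_ne (sq_nonneg u) (pow_ne_zero 2 hu0).symm)
  set S := ∑ ξ ∈ Bf.erase χ, p ^ (2 * blockHeight p B ξ.1) with hS
  have hsum : N χ ^ 2 + ((p : ℤ) ^ b) ^ 2 * (S : ℤ) ≤ (p : ℤ) ^ a * N χ := by
    rw [← hid]
    refine le_trans ?_ (Finset.sum_le_univ_sum_of_nonneg (s := Bf) fun ξ => sq_nonneg _)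
    rw [← Finset.add_sum_erase _ _ hmem, hS, Nat.cast_sum, Finset.mul_sum]
    exact add_le_add le_rfl (Finset.sum_le_sum fun ξ hξ =>
      hlow' ξ (Finset.mem_filter.1 (Finset.mem_of_mem_erase hξ)).2)
  have hpd : (p : ℤ) ^ a = (p : ℤ) ^ (a - b) * (p : ℤ) ^ b := by
    rw [← pow_add, Nat.sub_add_cancel hba]
  have hfin : 4 * (S : ℤ) ≤ ((p : ℤ) ^ (a - b)) ^ 2 := by
    refine le_of_mul_le_mul_right (a := ((p : ℤ) ^ b) ^ 2) ?_
      (pow_pos (pow_pos (by exact_mod_cast hp.pos) _) _)
    rw [← mul_pow, ← hpd]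
    nlinarith [sq_nonneg ((p : ℤ) ^ a - 2 * N χ), hsum]
  rw [← Finset.add_sum_erase _ _ hmem, h0, mul_zero, pow_zero, ← hS, hdef]
  have : 4 * S ≤ (p ^ (a - b)) ^ 2 := by exact_mod_cast hfin
  omega

/-- Fix a prime p and a maximal ideal M of the algebraic integers containing p. Let B be a p-block of the finite group G with defect group P. For χ in B, let the height of χ be the exponent of p in the degree of χ minus the least such exponent over the members of B. Then the sum over χ in B of p raised to twice the height of χ is at most the integer part of (order of P)²/4, plus 1; in particular B has at most that many irreducible characters. -/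
theorem result {G : Type*} [Group G] [Fintype G] (p : ℕ) [Fact p.Prime] (M : Ideal Cfsg.AlgInt) (hM : Cfsg.IsPModular p M) (B : Set (Cfsg.IrrCharacter G)) (hB : Cfsg.IsPBlock M B) (P : Subgroup G) (hP : Cfsg.IsDefectGroup p M B P) : ∑ᶠ χ ∈ B, p ^ (2 * Cfsg.blockHeight p B (χ : G → ℂ)) ≤ Nat.card P ^ 2 / 4 + 1 := by
  have : M.IsMaximal := hM.2.1
  rw [Cfsg.Agent.Blocks.card_defectGroup hM.2.2 hB hP]
  exact height_sum_le hM.2.2 Fact.out hB

end Cfsg.Agent.S4676
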