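import Cfsg.Statements.S4678
import Cfsg.Agent.Lib.BrauerPairs.LocalFusion

set_option autoImplicit false
open Cfsg Cfsg.Agent Cfsg.Agent.BrauerPairs
open scoped Cfsg.Agent.Blocks

namespace Cfsg.Agent.S4678

/-- Fix a prime p and a maximal ideal M of the algebraic integers containing p, a p-block B of the finite group G with maximal Brauer pair (P, e), its fusion system F on P, and a Brauer pair (Q, f) ≤ (P, e). Then Q is fully centralized in F if and only if C_P(Q) is a defect group of f as a block of C_G(Q). -/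
theorem result {G : Type*} [Group G] [Fintype G] (p : ℕ) [Fact p.Prime] (M : Ideal Cfsg.AlgInt) (hM : Cfsg.IsPModular p M) (B : Set (Cfsg.IrrCharacter G)) (P : Subgroup G) (e : Set (Cfsg.IrrCharacter (Subgroup.centralizer (P : Set G)))) (hmax : Cfsg.IsMaximalBrauerPair p M B P e) (F : Cfsg.FusionSystem P) (hF : Cfsg.IsBlockFusionSystemOn p M B P e F) (Q : Subgroup G) (f : Set (Cfsg.IrrCharacter (Subgroup.centralizer (Q : Set G)))) (hQP : Q ≤ P) (hf : Cfsg.IsPBlock M f) (hle : Cfsg.SubpairLE p M Q f P e) : F.IsFullyCentralized Q ↔ Cfsg.IsDefectGroup p M f ((P ⊓ Subgroup.centralizer (Q : Set G)).subgroupOf (Subgroup.centralizer (Q : Set G))) := by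
  have : M.IsMaximal := hM.2.1
  have : CharP (AlgInt ⧸ M) p := Blocks.charP_residue hM.2.2
  have hblk : ∀ H : Subgroup G, HasBlocks (AlgInt ⧸ M) H := fun H => hasBlocks M H
  have hB : IsPBlock M B := hmax.1.2.1
  obtain ⟨he, ha⟩ := (isMaximalBrauerPair_iff hB).1 hmax
  have hp := ple_of_subpairLE hle
  rw [isDefectGroup_subgroupOf_iff hf inf_le_right,
    ← forall_centralizer_le_iff hblk (isBlockIdem_blkG hB) ha hp]
  constructor
  · exact fun h g hg => h.2 _ ((blockSystem_isConj_iff hF he ha.1.1 Q _).2 ⟨g, hg, rfl⟩)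
  · refine fun h => ⟨hQP, fun R hR => ?_⟩
    obtain ⟨g, hg, rfl⟩ := (blockSystem_isConj_iff hF he ha.1.1 Q R).1 hR
    exact h g hg

end Cfsg.Agent.S4678
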