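import Cfsg.Statements.S4679
import Cfsg.Agent.Lib.BrauerPairs.LocalFusion

set_option autoImplicit false
open Cfsg Cfsg.Agent Cfsg.Agent.BrauerPairs
open scoped Cfsg.Agent.Blocks

namespace Cfsg.Agent.S4679

/-- Fix a prime p and a maximal ideal M of the algebraic integers containing p, a p-block B of the finite group G with maximal Brauer pair (P, e), its fusion system F on P, a Brauer pair (Q, f) ≤ (P, e), and let T be the stabilizer of f in N_G(Q). Then Q is fully normalized in F if and only if N_P(Q) is a defect group of the block of T whose idempotent is that of f. -/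
theorem result {G : Type*} [Group G] [Fintype G] (p : ℕ) [Fact p.Prime] (M : Ideal Cfsg.AlgInt) (hM : Cfsg.IsPModular p M) (B : Set (Cfsg.IrrCharacter G)) (P : Subgroup G) (e : Set (Cfsg.IrrCharacter (Subgroup.centralizer (P : Set G)))) (hmax : Cfsg.IsMaximalBrauerPair p M B P e) (F : Cfsg.FusionSystem P) (hF : Cfsg.IsBlockFusionSystemOn p M B P e F) (Q : Subgroup G) (f : Set (Cfsg.IrrCharacter (Subgroup.centralizer (Q : Set G)))) (hQP : Q ≤ P) (hf : Cfsg.IsPBlock M f) (hle : Cfsg.SubpairLE p M Q f P e) (T : Subgroup G) (hT : ∀ y : G, y ∈ T ↔ y ∈ Subgroup.normalizer (Q : Set G) ∧ Cfsg.StabilizesBlock (Subgroup.centralizer (Q : Set G)) f y) : F.IsFullyNormalized Q ↔ ∃ F' : Set (Cfsg.IrrCharacter T), Cfsg.IsPBlock M F' ∧ (∀ t : T, Cfsg.blockCoeff F' t = Cfsg.subgroupBlockCoeff (Subgroup.centralizer (Q : Set G)) f (t : G)) ∧ Cfsg.IsDefectGroup p M F' ((P ⊓ Subgroup.normalizer (Q : Set G)).subgroupOf T) := by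
  have : M.IsMaximal := hM.2.1
  have : CharP (AlgInt ⧸ M) p := Blocks.charP_residue hM.2.2
  have hblk : ∀ H : Subgroup G, HasBlocks (AlgInt ⧸ M) H := fun H => hasBlocks M H
  have hB : IsPBlock M B := hmax.1.2.1
  obtain ⟨he, ha⟩ := (isMaximalBrauerPair_iff hB).1 hmax
  have hp := ple_of_subpairLE hle
  obtain rfl := eq_stabOf hf hT
  have hQf := hp.isPair_left ha.1.1
  have hiff : F.IsFullyNormalized Q ↔
      DefectIn p (stabOf Q (blk M _ f)) (blk M _ f) (P ⊓ Subgroup.normalizer (Q : Set G)) := by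
    rw [← forall_normalizer_le_iff hblk (isBlockIdem_blkG hB) ha hp]
    constructor
    · exact fun h g hg => h.2 _ ((blockSystem_isConj_iff hF he ha.1.1 Q _).2 ⟨g, hg, rfl⟩)
    · refine fun h => ⟨hQP, fun R hR => ?_⟩
      obtain ⟨g, hg, rfl⟩ := (blockSystem_isConj_iff hF he ha.1.1 Q R).1 hR
      exact h g hg
  rw [hiff]
  constructor
  · intro hD
    obtain ⟨F', hF', hFe, hFc⟩ := exists_block_stab hQf.1 hf (centralizer_le_stabOf hQf.2)
      (self_le_stabOf hQf.2) (stabOf_le _ _) (stabOf_fixes _ _)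
    exact ⟨F', hF', hFc, by rw [isDefectGroup_subgroupOf_iff hF' hD.2.1, hFe]; exact hD⟩
  · rintro ⟨F', hF', hFc, hD⟩
    rw [isDefectGroup_subgroupOf_iff hF' (inf_normalizer_le_stabOf hblk ha.1.1 hp),
      blk_eq_of_coeff (centralizer_le_stabOf hQf.2) hFc] at hD
    exact hD

end Cfsg.Agent.S4679
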