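import Cfsg.Statements.S4681
import Cfsg.Agent.Lib.BrauerPairs.Bridge

set_option autoImplicit false
open Cfsg Cfsg.Agent Cfsg.Agent.BrauerPairs
open scoped Cfsg.Agent.Blocks

namespace Cfsg.Agent.S4681

/-- Fix a prime p and a maximal ideal M of the algebraic integers containing p. Let B₀ be the principal p-block of the finite group G, P a Sylow p-subgroup and e₀ the principal p-block of C_G(P). Then (P, e₀) is a maximal Brauer pair of B₀, and the fusion system of B₀ on (P, e₀) is the fusion system of G on P: its maps from each subgroup of P are exactly the conjugation maps into P by elements of G. -/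
theorem result {G : Type*} [Group G] [Fintype G] (p : ℕ) [Fact p.Prime] (M : Ideal Cfsg.AlgInt) (hM : Cfsg.IsPModular p M) (S : Sylow p G) : Cfsg.IsMaximalBrauerPair p M (Cfsg.principalBlock M G) (S : Subgroup G) (Cfsg.principalBlock M (Subgroup.centralizer ((S : Subgroup G) : Set G))) ∧ ∀ F : Cfsg.FusionSystem (S : Subgroup G), Cfsg.IsBlockFusionSystemOn p M (Cfsg.principalBlock M G) (S : Subgroup G) (Cfsg.principalBlock M (Subgroup.centralizer ((S : Subgroup G) : Set G))) F → ∀ Q : Subgroup G, F.Hom Q = (Cfsg.groupFusionSystem (S : Subgroup G)).Hom Q := by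
  have : M.IsMaximal := hM.2.1
  have : CharP (AlgInt ⧸ M) p := Blocks.charP_residue hM.2.2
  have hblk : ∀ H : Subgroup G, HasBlocks (AlgInt ⧸ M) H := fun H => hasBlocks M H
  have hB := isPBlock_principalBlock (M := M) (G := G)
  have he := isPBlock_principalBlock (M := M) (G := Subgroup.centralizer ((S : Subgroup G) : Set G))
  have hmax := isMax_of_sylow (isPairOf_of_isPrincipal (isPrincipal_blkG (M := M)) S.isPGroup'
    (isPrincipal_blk (M := M) (Subgroup.centralizer ((S : Subgroup G) : Set G)))) S rfl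
  refine ⟨(isMaximalBrauerPair_iff hB).2 ⟨he, hmax⟩, fun F hF Q => ?_⟩
  ext φ
  rw [hF.2 Q φ]
  constructor
  · rintro ⟨hQ, g, hg, hle, -⟩
    exact ⟨hQ, fun x => (hg x).symm ▸ hle ⟨x, x.2, rfl⟩, g, hg⟩
  · rintro ⟨hQ, hS, g, hg⟩
    have hle : Q.map (MulAut.conj g).toMonoidHom ≤ (S : Subgroup G) := by
      rintro _ ⟨x, hx, rfl⟩
      have h := hS ⟨x, hx⟩
      rw [hg ⟨x, hx⟩] at h
      exact h
    refine ⟨hQ, g, hg, hle, principalBlock M (Subgroup.centralizer (Q : Set G)),
      subpairLE_of_ple isPBlock_principalBlock he (ple_of_isPrincipal hblk S.isPGroup' (isPrincipal_blk _) Q hQ _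
        (isPrincipal_blk _)), ?_⟩
    rw [conjBlock_principalBlock]
    exact subpairLE_of_ple isPBlock_principalBlock he (ple_of_isPrincipal hblk S.isPGroup' (isPrincipal_blk _) _ hle _
      (isPrincipal_blk _))

end Cfsg.Agent.S4681
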