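import Cfsg.Statements.S4682
import Cfsg.Agent.Lib.BrauerPairs.LocalFusion

set_option autoImplicit false
open Cfsg Cfsg.Agent Cfsg.Agent.BrauerPairs
open scoped Cfsg.Agent.Blocks

namespace Cfsg.Agent.S4682

/-- Fix a prime p and a maximal ideal M of the algebraic integers containing p, a p-block B of the finite group G with maximal Brauer pair (P, e), P abelian, and a Brauer pair (Q, f) ≤ (P, e). Let T_Q be the stabilizer of f in N_G(Q) and T_P the stabilizer of e in N_G(P). Then every element of T_Q is a product of an element of T_P and an element of C_G(Q); and the index of C_G(Q) in T_Q equals the index of T_P ∩ C_G(Q) in T_P ∩ N_G(Q). -/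
theorem result {G : Type*} [Group G] [Fintype G] (p : ℕ) [Fact p.Prime] (M : Ideal Cfsg.AlgInt) (hM : Cfsg.IsPModular p M) (B : Set (Cfsg.IrrCharacter G)) (P : Subgroup G) (e : Set (Cfsg.IrrCharacter (Subgroup.centralizer (P : Set G)))) (hmax : Cfsg.IsMaximalBrauerPair p M B P e) (hab : ∀ x ∈ P, ∀ y ∈ P, x * y = y * x) (Q : Subgroup G) (f : Set (Cfsg.IrrCharacter (Subgroup.centralizer (Q : Set G)))) (hQP : Q ≤ P) (hf : Cfsg.IsPBlock M f) (hle : Cfsg.SubpairLE p M Q f P e) (TQ : Subgroup G) (hTQ : ∀ y : G, y ∈ TQ ↔ y ∈ Subgroup.normalizer (Q : Set G) ∧ Cfsg.StabilizesBlock (Subgroup.centralizer (Q : Set G)) f y) (TP : Subgroup G) (hTP : ∀ y : G, y ∈ TP ↔ y ∈ Subgroup.normalizer (P : Set G) ∧ Cfsg.StabilizesBlock (Subgroup.centralizer (P : Set G)) e y) : (∀ x ∈ TQ, ∃ y ∈ TP, ∃ c ∈ Subgroup.centralizer (Q : Set G), x = y * c) ∧ ((Subgroup.centralizer (Q : Set G)).subgroupOf TQ).index = ((TP ⊓ Subgroup.centralizer (Q : Set G)).subgroupOf (TP ⊓ Subgroup.normalizer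 (Q : Set G))).index := by
  have : M.IsMaximal := hM.2.1
  have : CharP (AlgInt ⧸ M) p := Blocks.charP_residue hM.2.2
  have hblk : ∀ H : Subgroup G, HasBlocks (AlgInt ⧸ M) H := fun H => hasBlocks M H
  have hB : IsPBlock M B := hmax.1.2.1
  obtain ⟨he, ha⟩ := (isMaximalBrauerPair_iff hB).1 hmax
  have hp := ple_of_subpairLE hle
  have hQf := hp.isPair_left ha.1.1
  have hPC : P ≤ (Subgroup.centralizer (Q : Set G)) := fun x hx => Subgroup.mem_centralizer_iff.2 fun y hy => hab y (hQP hy) x hx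
  have hinf : P ⊓ (Subgroup.centralizer (Q : Set G)) = P := inf_eq_left.2 hPC
  have hdef : DefectIn p (Subgroup.centralizer (Q : Set G)) (blk M _ f) P := by
    obtain ⟨x, -, hD⟩ := exists_conj_defectIn_centralizer hblk (isBlockIdem_blkG hB) ha hp
    have h1 := hD.conj x⁻¹
    rw [conjEl_inv_conjEl, BrauerPairs.map_conj_centralizer, map_conj_map_conj_inv] at h1
    have hne := br_inf_centralizer_ne_zero hblk ha.1.1 hp
    rw [hinf] at hne
    refine h1.of_card_le hQf.2.mem.2 ha.1.1.1 hPC hne ?_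
    rw [BrauerPairs.card_map_conj]
    exact Subgroup.card_le_of_le inf_le_left
  have hstep := hp.step_of_le_normalizer hblk hQf (hPC.trans (Subgroup.centralizer_le_normalizer _))
  obtain rfl := eq_stabOf hf hTQ
  obtain rfl := eq_stabOf he hTP
  have hfac : ∀ x ∈ stabOf Q (blk M _ f), ∃ c ∈ (Subgroup.centralizer (Q : Set G)), c * x ∈ stabOf P (blk M _ e) := by
    intro x hx
    have hQx : conjPair x (Q, blk M _ f) = (Q, blk M _ f) :=
      Prod.ext (map_conj_eq_of_mem_normalizer hx.1) hx.2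
    have hb := hstep.conj x
    rw [hQx] at hb
    have hbC : (conjPair x (P, blk M _ e)).1 ≤ (Subgroup.centralizer (Q : Set G)) := by
      show P.map _ ≤ (Subgroup.centralizer (Q : Set G))
      refine (Subgroup.map_mono hPC).trans ?_
      rw [BrauerPairs.map_conj_centralizer, map_conj_eq_of_mem_normalizer hx.1]
    obtain ⟨c, hc, hcx⟩ := exists_conj_ple_sub (p := p) hblk hQf.2 (a := (P, blk M _ e))
      (b := conjPair x (P, blk M _ e)) ha.1.1 hPC (Subgroup.centralizer_le (SetLike.coe_subset_coe.2 hQP))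
      hstep.2.2.2.2.2 hdef hb.2.1 hbC
      (Subgroup.centralizer_le (SetLike.coe_subset_coe.2 hb.2.2.1)) hb.2.2.2.2.2
    rw [← conjPair_mul] at hcx
    have heq : (conjPair (c * x) (P, blk M _ e)).1 = P :=
      Subgroup.eq_of_le_of_card_ge hcx.le (BrauerPairs.card_map_conj (c * x) P).ge
    refine ⟨c, hc, ?_, congrArg Prod.snd (hcx.eq_of_fst_eq heq)⟩
    refine mem_normalizer_of_conj_le fun u hu => ?_
    exact heq.le ⟨u, hu, rfl⟩
  have hTPQ : stabOf P (blk M _ e) ⊓ Subgroup.normalizer (Q : Set G) ≤ stabOf Q (blk M _ f) := by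
    rintro y ⟨⟨hyP, hye⟩, hyQ⟩
    refine ⟨hyQ, conjEl_eq_of_ple hblk ha.1.1 hp hyQ ?_⟩
    have h := hp.conj y
    rwa [show conjPair y (P, blk M _ e) = (P, blk M _ e) from
      Prod.ext (map_conj_eq_of_mem_normalizer hyP) hye] at h
  have hCn : ∀ y ∈ Subgroup.normalizer (Q : Set G), y ∈ Subgroup.normalizer ((Subgroup.centralizer (Q : Set G)) : Set G) :=
    fun y hy => normalizer_le_normalizer_centralizer Q hy
  have hdecomp : ∀ x ∈ stabOf Q (blk M _ f), ∃ y ∈ stabOf P (blk M _ e) ⊓ Subgroup.normalizer (Q : Set G),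
      ∃ c ∈ (Subgroup.centralizer (Q : Set G)), x = y * c := by
    intro x hx
    obtain ⟨c, hc, hcx⟩ := hfac x hx
    have hN : c * x ∈ Subgroup.normalizer (Q : Set G) :=
      mul_mem (Subgroup.centralizer_le_normalizer _ hc) hx.1
    refine ⟨c * x, ⟨hcx, hN⟩, (c * x)⁻¹ * c⁻¹ * (c * x), ?_, by group⟩
    exact (Subgroup.mem_normalizer_iff''.1 (hCn _ hN) _).1 (inv_mem hc)
  refine ⟨fun x hx => ?_, ?_⟩
  · obtain ⟨y, hy, c, hc, h⟩ := hdecomp x hx
    exact ⟨y, hy.1, c, hc, h⟩
  set K := stabOf P (blk M _ e) ⊓ Subgroup.normalizer (Q : Set G) with hK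
  have hKC : stabOf P (blk M _ e) ⊓ (Subgroup.centralizer (Q : Set G)) = (Subgroup.centralizer (Q : Set G)) ⊓ K := by
    rw [hK, inf_left_comm, inf_eq_left.2 (Subgroup.centralizer_le_normalizer _)]
  rw [hKC]
  show (Subgroup.centralizer (Q : Set G)).relIndex (stabOf Q (blk M _ f)) = ((Subgroup.centralizer (Q : Set G)) ⊓ K).relIndex K
  rw [Subgroup.inf_relIndex_right]
  have : ((Subgroup.centralizer (Q : Set G)).subgroupOf (stabOf Q (blk M _ f))).Normal :=
    Subgroup.normal_subgroupOf_of_le_normalizer fun y hy => hCn y hy.1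
  set T := stabOf Q (blk M _ f) with hT
  have htop : K.subgroupOf T ⊔ (Subgroup.centralizer (Q : Set G)).subgroupOf T = ⊤ := by
    rw [eq_top_iff]
    rintro ⟨x, hx⟩ -
    obtain ⟨y, hy, c, hc, rfl⟩ := hdecomp x hx
    exact Subgroup.mul_mem_sup (x := (⟨y, hTPQ hy⟩ : T)) hy
      (y := (⟨c, centralizer_le_stabOf hQf.2 hc⟩ : T)) hc
  have h2 := Subgroup.relIndex_sup_right (H := K.subgroupOf T) (K := (Subgroup.centralizer (Q : Set G)).subgroupOf T)
  rw [htop, Subgroup.relIndex_top_right] at h2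
  rw [show (Subgroup.centralizer (Q : Set G)).relIndex T = ((Subgroup.centralizer (Q : Set G)).subgroupOf T).index from rfl, h2,
    Subgroup.relIndex_subgroupOf hTPQ]

end Cfsg.Agent.S4682
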