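import Cfsg.Statements.S4683
import Cfsg.Agent.Lib.Blocks.SecondMain
import Cfsg.Agent.Lib.BlockCount.CentralizerBlocks
import Cfsg.Agent.Lib.BrauerPairs.Rank

set_option autoImplicit false
set_option linter.style.haveILetI false
set_option linter.unusedSectionVars false
open Cfsg

namespace Cfsg.Agent.S4683

open scoped Classical ComplexConjugate
open Agent

universe u

variable {G : Type u} [Group G] [Finite G]

/-- The `e`-part is a sum against the kernel of `e`. -/
theorem blockPart_eq_sum [Fintype G] (e : Set (IrrCharacter G)) (θ : G → ℂ) (s : G) :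
    blockPart e θ s = ∑ c : G, θ c *
      ((Nat.card G : ℂ)⁻¹ * ∑ η ∈ Finset.univ.filter (· ∈ e), η.1 s * conj (η.1 c)) := by
  obtain rfl : ‹Fintype G› = Fintype.ofFinite G := Subsingleton.elim _ _
  letI := Fintype.ofFinite G
  rw [blockPart, finsum_mem_eq_sum_of_inter_support_eq _
    (t := Finset.univ.filter (· ∈ e)) (by ext; simp)]
  simp only [classInner, Finset.mul_sum, Finset.sum_mul]
  rw [Finset.sum_comm]
  exact Finset.sum_congr rfl fun c _ => Finset.sum_congr rfl fun η _ => by ring

/-- Projection onto `e`. -/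
theorem sum_irr_kernel [Fintype G] (e : Set (IrrCharacter G)) (ψ : IrrCharacter G) (s : G) :
    ∑ c : G, ψ.1 c * ((Nat.card G : ℂ)⁻¹ *
      ∑ η ∈ Finset.univ.filter (· ∈ e), η.1 s * conj (η.1 c)) =
      if ψ ∈ e then ψ.1 s else 0 := by
  rw [← blockPart_eq_sum]
  obtain rfl : ‹Fintype G› = Fintype.ofFinite G := Subsingleton.elim _ _
  letI := Fintype.ofFinite G
  rw [blockPart, finsum_mem_eq_sum_of_inter_support_eq _
    (t := Finset.univ.filter (· ∈ e)) (by ext; simp)]
  simp [Char.classInner_irr, Finset.sum_ite_eq]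

variable {p : ℕ} [Fact p.Prime] {M : Ideal AlgInt} [M.IsMaximal] (hpM : (p : AlgInt) ∈ M)

theorem comm_of_mem {u : G} (c : Subgroup.centralizer (Subgroup.zpowers u : Set G)) : Commute u (c : G) :=
  Subgroup.mem_centralizer_iff.1 c.2 u (Subgroup.mem_zpowers u)

theorem isPPart_trans {u : G} (hu : ∃ k, orderOf u = p ^ k) {c : Subgroup.centralizer (Subgroup.zpowers u : Set G)} (hc : IsPRegular p c) :
    IsPPart p (u * (c : G)) u := by
  refine Blocks.isPPart_mul (comm_of_mem c) hu ?_
  show ¬ p ∣ orderOf (c : G)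
  rw [Subgroup.orderOf_coe]
  exact hc

/-- Conjugacy in `u C°` is conjugacy in `C°`. -/
theorem isConj_trans {u : G} (hu : ∃ k, orderOf u = p ^ k) {c c' : Subgroup.centralizer (Subgroup.zpowers u : Set G)} (hc : IsPRegular p c)
    (hc' : IsPRegular p c') :
    IsConj (u * (c : G)) (u * (c' : G)) ↔ IsConj c c' := by
  constructor
  · intro h
    obtain ⟨a, ha⟩ := isConj_iff.1 h
    have h1 := Blocks.IsPPart.conj (isPPart_trans hu hc) a
    rw [ha] at h1
    have h2 : a * u * a⁻¹ = u := Blocks.IsPPart.unique h1 (isPPart_trans hu hc')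
    obtain ⟨hC, -⟩ := BlockCount.zpowers_facts u
    have haC : a ∈ Subgroup.centralizer (Subgroup.zpowers u : Set G) := hC ▸ Subgroup.mem_centralizer_singleton_iff.2 (mul_inv_eq_iff_eq_mul.1 h2)
    refine isConj_iff.2 ⟨⟨a, haC⟩, Subtype.ext (mul_left_cancel (a := u) ?_)⟩
    rw [← ha]
    show u * (a * c * a⁻¹) = a * (u * c) * a⁻¹
    calc u * (a * c * a⁻¹) = a * u * a⁻¹ * (a * c * a⁻¹) := by rw [h2]
      _ = a * (u * c) * a⁻¹ := by group
  · intro h
    obtain ⟨a, ha⟩ := isConj_iff.1 h
    refine isConj_iff.2 ⟨a, ?_⟩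
    rw [← ha]
    show (a : G) * (u * c) * (a : G)⁻¹ = u * ((a : G) * c * (a : G)⁻¹)
    rw [← mul_assoc, ← (comm_of_mem a).eq]; group

theorem card_centralizer_trans {u : G} (hu : ∃ k, orderOf u = p ^ k) {c : Subgroup.centralizer (Subgroup.zpowers u : Set G)}
    (hc : IsPRegular p c) :
    Nat.card (Subgroup.centralizer ({u * (c : G)} : Set G)) =
      Nat.card (Subgroup.centralizer ({c} : Set (Subgroup.centralizer (Subgroup.zpowers u : Set G)))) := by
  obtain ⟨hC, -⟩ := BlockCount.zpowers_facts u
  have key : ∀ g : G, g * (u * c) = u * c * g → g ∈ Subgroup.centralizer (Subgroup.zpowers u : Set G) := fun g hg => by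
    rw [← hC]
    obtain ⟨i, hi⟩ := Blocks.IsPPart.mem_zpowers (isPPart_trans hu hc)
    have h : Commute g ((u * (c : G)) ^ i) := Commute.zpow_right hg i
    rw [show (u * (c : G)) ^ i = u from hi] at h
    exact Subgroup.mem_centralizer_singleton_iff.2 h.eq
  refine Nat.card_congr
    { toFun := fun g => ⟨⟨g, key g (Subgroup.mem_centralizer_singleton_iff.1 g.2)⟩,
        Subgroup.mem_centralizer_singleton_iff.2 (Subtype.ext (mul_left_cancel (a := u) ?_))⟩
      invFun := fun g => ⟨(g.1 : G), Subgroup.mem_centralizer_singleton_iff.2 ?_⟩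
      left_inv := fun g => rfl
      right_inv := fun g => rfl }
  · have h := Subgroup.mem_centralizer_singleton_iff.1 g.2
    have hcg := (comm_of_mem ⟨_, key g h⟩).eq
    show u * ((g : G) * c) = u * (c * g)
    rw [← mul_assoc, hcg, mul_assoc, h, mul_assoc]
  · rw [← mul_assoc, ← (comm_of_mem g.1).eq, mul_assoc,
      show (g.1 : G) * c = c * (g.1 : G) from congrArg Subtype.val
        (Subgroup.mem_centralizer_singleton_iff.1 g.2), mul_assoc]

include hpM in
/-- The local orthogonality relation. -/
theorem sum_all [Fintype G] {u : G} [Fintype (Subgroup.centralizer (Subgroup.zpowers u : Set G))] (hu : ∃ k, orderOf u = p ^ k)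
    {e : Set (IrrCharacter (Subgroup.centralizer (Subgroup.zpowers u : Set G)))} (he : IsPBlock M e) {s : Subgroup.centralizer (Subgroup.zpowers u : Set G)} (hs : IsPRegular p s) :
    ∑ χ : IrrCharacter G, blockPart e (fun c : Subgroup.centralizer (Subgroup.zpowers u : Set G) => χ.1 (u * c)) s *
        conj (blockPart e (fun c : Subgroup.centralizer (Subgroup.zpowers u : Set G) => χ.1 (u * c)) s) =
      ∑ η ∈ Finset.univ.filter (· ∈ e), η.1 s * conj (η.1 s) := by
  set k : (Subgroup.centralizer (Subgroup.zpowers u : Set G)) → ℂ := fun c => (Nat.card (Subgroup.centralizer (Subgroup.zpowers u : Set G)) : ℂ)⁻¹ *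
    ∑ η ∈ Finset.univ.filter (· ∈ e), η.1 s * conj (η.1 c) with hk
  have hk0 : ∀ c, ¬ IsPRegular p c → k c = 0 := fun c hc => by
    simp only [hk]
    rw [Blocks.weak_orthogonality hpM he hs hc, mul_zero]
  calc _ = ∑ c : Subgroup.centralizer (Subgroup.zpowers u : Set G),
      ∑ c' : Subgroup.centralizer (Subgroup.zpowers u : Set G), (if IsConj (u * (c : G)) (u * (c' : G)) then
        (Nat.card (Subgroup.centralizer ({u * (c' : G)} : Set G)) : ℂ) else 0) *
          (k c * conj (k c')) := by
        rw [Finset.sum_congr rfl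
          (g := fun χ : IrrCharacter G => ∑ c : Subgroup.centralizer (Subgroup.zpowers u : Set G),
            ∑ c' : Subgroup.centralizer (Subgroup.zpowers u : Set G),
              χ.1 (u * (c : G)) * conj (χ.1 (u * (c' : G))) * (k c * conj (k c'))) fun χ _ => by
            rw [blockPart_eq_sum, map_sum, Finset.sum_mul_sum]
            exact Finset.sum_congr rfl fun c _ => Finset.sum_congr rfl fun c' _ => by
              rw [map_mul]; simp only [hk]; ring]
        rw [Finset.sum_comm]
        refine Finset.sum_congr rfl fun c _ => ?_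
        rw [Finset.sum_comm]
        refine Finset.sum_congr rfl fun c' _ => ?_
        rw [← Finset.sum_mul, Char.sum_irr_mul_conj]
        congr
    _ = ∑ c : Subgroup.centralizer (Subgroup.zpowers u : Set G),
      ∑ c' : Subgroup.centralizer (Subgroup.zpowers u : Set G), (∑ ψ : IrrCharacter (Subgroup.centralizer (Subgroup.zpowers u : Set G)), ψ.1 c * conj (ψ.1 c')) * (k c * conj (k c')) := by
        refine Finset.sum_congr rfl fun c _ => Finset.sum_congr rfl fun c' _ => ?_
        by_cases h : IsPRegular p c ∧ IsPRegular p c'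
        · rw [Char.sum_irr_mul_conj, card_centralizer_trans hu h.2]
          exact congrArg (· * _) (by convert if_congr (isConj_trans hu h.1 h.2) rfl rfl)
        · rcases not_and_or.1 h with h | h
          · rw [hk0 c h]; simp
          · rw [hk0 c' h]; simp
    _ = ∑ ψ : IrrCharacter (Subgroup.centralizer (Subgroup.zpowers u : Set G)), (∑ c, ψ.1 c * k c) * conj (∑ c, ψ.1 c * k c) := by
        simp only [map_sum, map_mul, Finset.sum_mul, Finset.mul_sum]
        conv_rhs => rw [Finset.sum_comm]
        conv_lhs => rw [Finset.sum_comm]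
        refine Finset.sum_congr rfl fun c _ => ?_
        rw [Finset.sum_comm]
        exact Finset.sum_congr rfl fun c' _ => Finset.sum_congr rfl fun χ _ => by ring
    _ = _ := by
        simp only [hk, sum_irr_kernel]
        rw [Finset.sum_filter]
        exact Finset.sum_congr rfl fun ψ _ => by split_ifs <;> simp

/-- Fix a prime p and a maximal ideal M of the algebraic integers containing p, a p-block B of the finite group G, a p-element u and a p-block e of C = C_G(u) such that (⟨u⟩, e) is a Brauer pair of B (a Brauer element of B). For χ ∈ B let χ_u be the e-part of the class function c ↦ χ(u c) on C and χ_u' the e-part of c ↦ χ(u⁻¹ c). Then the sum over χ ∈ B and over the p-regular elements s of C of χ_u(s)·χ_u'(s⁻¹) equals the order of C times the p-regular rank of e (the number of irreducible Brauer characters of e). -/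
theorem result {G : Type*} [Group G] [Fintype G] (p : ℕ) [Fact p.Prime] (M : Ideal Cfsg.AlgInt) (hM : Cfsg.IsPModular p M) (B : Set (Cfsg.IrrCharacter G)) (u : G) (hu : ∃ k : ℕ, orderOf u = p ^ k) (e : Set (Cfsg.IrrCharacter (Subgroup.centralizer (Subgroup.zpowers u : Set G)))) (hBe : Cfsg.IsBrauerPairOf p M B (Subgroup.zpowers u) e) : ∑ᶠ χ ∈ B, ∑ᶠ s : Subgroup.centralizer (Subgroup.zpowers u : Set G), Cfsg.pRegularPart p (Cfsg.blockPart e (fun c : Subgroup.centralizer (Subgroup.zpowers u : Set G) => (χ : G → ℂ) (u * c))) s * Cfsg.blockPart e (fun c : Subgroup.centralizer (Subgroup.zpowers u : Set G) => (χ : G → ℂ) (u⁻¹ * c)) s⁻¹ = (Nat.card (Subgroup.centralizer (Subgroup.zpowers u : Set G)) : ℂ) * (Cfsg.blockRank p e : ℂ) := by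
  classical
  obtain ⟨hC, hQ⟩ := BlockCount.zpowers_facts u
  haveI := Fintype.ofFinite (Subgroup.centralizer (Subgroup.zpowers u : Set G))
  haveI := hM.2.1
  have hpM := hM.2.2
  have hQ' : Subgroup.zpowers u ≤ (Subgroup.centralizer (Subgroup.zpowers u : Set G)) := hC ▸ hQ
  obtain ⟨⟨hP, he⟩, hB, hω⟩ := hBe
  -- `e` induces `B`
  have hind : Cfsg.IsInducedBlock M (Subgroup.centralizer (Subgroup.zpowers u : Set G)) e B := by
    obtain ⟨ξ, hξ⟩ := Blocks.block_nonempty he
    refine Blocks.isInducedBlock_of_omega hpM hP le_rfl (Subgroup.centralizer_le_normalizer _) hQ'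
      he hξ hB fun hI => ?_
    have h1 := hω ξ hξ
    rw [BlockCount.brauerOmega_eq_omega] at h1
    exact Blocks.not_memLocalIdeal_one (M := M)
      (by simpa using Blocks.MemLocalIdeal.sub hI h1)
  have hclass : ∀ χ : Cfsg.IrrCharacter G,
      Cfsg.IsClassFunction (Subgroup.centralizer (Subgroup.zpowers u : Set G)) (fun c : (Subgroup.centralizer (Subgroup.zpowers u : Set G)) => χ.1 (u * c)) := fun χ c a => by
    show χ.1 (u * ((a : G) * c * (a : G)⁻¹)) = χ.1 (u * c)
    rw [← Char.IsCharacter.isClassFunction (Char.irr_isCharacter χ) (u * c) a,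
      ← mul_assoc (a : G) u, ← (comm_of_mem a).eq]
    simp only [mul_assoc]
  have hout : ∀ χ : Cfsg.IrrCharacter G, χ ∉ B → ∀ s : (Subgroup.centralizer (Subgroup.zpowers u : Set G)), Cfsg.IsPRegular p s →
      Cfsg.blockPart e (fun c : (Subgroup.centralizer (Subgroup.zpowers u : Set G)) => χ.1 (u * c)) s = 0 := fun χ hχ s hs => by
    rw [← Blocks.sum_mul_blockCoeff (hclass χ),
      ← Blocks.second_main hpM hind (h := ⟨u, hQ' (Subgroup.mem_zpowers u)⟩ * s) (z := u)
        (isPPart_trans hu hs) hC.le hχ, Blocks.chiL_inclA_mul_single]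
    refine (Fintype.sum_equiv (Equiv.mulRight s) _ _ fun k => ?_).symm
    simp only [Equiv.coe_mulRight, mul_inv_cancel_right, Subgroup.coe_mul, Blocks.coeff_blockIdem]
    rw [← mul_assoc, ← mul_assoc, ← (comm_of_mem k).eq, mul_comm]
  have hinv : ∀ (χ : Cfsg.IrrCharacter G) (s : (Subgroup.centralizer (Subgroup.zpowers u : Set G))),
      Cfsg.blockPart e (fun c : (Subgroup.centralizer (Subgroup.zpowers u : Set G)) => χ.1 (u⁻¹ * c)) s⁻¹ =
        (starRingEnd ℂ) (Cfsg.blockPart e (fun c : (Subgroup.centralizer (Subgroup.zpowers u : Set G)) => χ.1 (u * c)) s) := fun χ s => by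
    simp only [blockPart_eq_sum, map_sum, map_mul, map_inv₀, Complex.conj_natCast,
      Char.IsCharacter.conj_apply (Char.irr_isCharacter _)]
    refine Fintype.sum_equiv (Equiv.inv (Subgroup.centralizer (Subgroup.zpowers u : Set G))) _ _ fun c => ?_
    simp only [Equiv.inv_apply, inv_inv, Subgroup.coe_inv]
    congr 1
    rw [mul_inv_rev, inv_inv, ← show Commute u⁻¹ (c : G) from (comm_of_mem c).inv_left]
  rw [finsum_mem_eq_sum_of_inter_support_eq _
    (show B ∩ _ = ↑(Finset.univ.filter (· ∈ B)) ∩ _ by simp)]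
  simp only [finsum_eq_sum_of_fintype]
  calc _ = ∑ s ∈ Finset.univ.filter (fun s : (Subgroup.centralizer (Subgroup.zpowers u : Set G)) => Cfsg.IsPRegular p s),
        ∑ χ ∈ Finset.univ.filter (· ∈ B), Cfsg.blockPart e (fun c : (Subgroup.centralizer (Subgroup.zpowers u : Set G)) => χ.1 (u * c)) s *
          (starRingEnd ℂ) (Cfsg.blockPart e (fun c : (Subgroup.centralizer (Subgroup.zpowers u : Set G)) => χ.1 (u * c)) s) := by
        simp only [hinv]
        rw [Finset.sum_comm, Finset.sum_filter]
        refine Finset.sum_congr rfl fun s _ => ?_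
        unfold Cfsg.pRegularPart
        split_ifs <;> simp
    _ = ∑ s ∈ Finset.univ.filter (fun s : (Subgroup.centralizer (Subgroup.zpowers u : Set G)) => Cfsg.IsPRegular p s),
        ∑ η ∈ Finset.univ.filter (· ∈ e), η.1 s * (starRingEnd ℂ) (η.1 s) := by
        refine Finset.sum_congr rfl fun s hs => ?_
        rw [← sum_all hpM hu he (Finset.mem_filter.1 hs).2]
        refine Finset.sum_subset (Finset.subset_univ _) fun χ _ hχ => ?_
        rw [hout χ (by simpa using hχ) s (Finset.mem_filter.1 hs).2, zero_mul]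
    _ = _ := by
        rw [BrauerPairs.blockRank_eq_sum hpM Fact.out he, Finset.mul_sum, Finset.sum_comm,
          ← Finset.sum_subtype (Finset.univ.filter (· ∈ e)) (by simp)
            (fun η : Cfsg.IrrCharacter (Subgroup.centralizer (Subgroup.zpowers u : Set G)) =>
              (Nat.card (Subgroup.centralizer (Subgroup.zpowers u : Set G)) : ℂ) * Cfsg.classInner (Char.regFun p η.1) η.1)]
        refine Finset.sum_congr rfl fun η _ => ?_
        rw [Cfsg.classInner, ← mul_assoc, mul_inv_cancel₀ (Nat.cast_ne_zero.2 Nat.card_pos.ne'),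
          one_mul, Finset.sum_filter]
        refine Finset.sum_congr rfl fun s _ => ?_
        rw [← BrauerPairs.pRegularPart_eq_regFun]
        unfold Cfsg.pRegularPart
        split_ifs <;> simp

end Cfsg.Agent.S4683
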