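import Cfsg.Statements.S4686
import Cfsg.Agent.Lib.BrauerPairs.NilpotentBlock

set_option autoImplicit false
open Cfsg Cfsg.Agent Cfsg.Agent.BrauerPairs
open scoped Cfsg.Agent.Blocks

namespace Cfsg.Agent.S4686

/-- Fix a prime p and a maximal ideal M of the algebraic integers containing p, a p-block B of the finite group G with maximal Brauer pair (P, e) and fusion system F on P. Then B is nilpotent (for every Brauer pair (Q, f) of B the stabilizer of f in N_G(Q) is C_G(Q) extended by a p-group) if and only if F is the inner fusion system of P: its maps from each subgroup of P are exactly the conjugations by elements of P. -/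
theorem result {G : Type*} [Group G] [Fintype G] (p : ℕ) [Fact p.Prime] (M : Ideal Cfsg.AlgInt) (hM : Cfsg.IsPModular p M) (B : Set (Cfsg.IrrCharacter G)) (P : Subgroup G) (e : Set (Cfsg.IrrCharacter (Subgroup.centralizer (P : Set G)))) (hmax : Cfsg.IsMaximalBrauerPair p M B P e) (F : Cfsg.FusionSystem P) (hF : Cfsg.IsBlockFusionSystemOn p M B P e F) : Cfsg.IsNilpotentBlock p M B ↔ ∀ Q : Subgroup G, F.Hom Q = (Cfsg.innerFusionSystem P).Hom Q := by
  have : M.IsMaximal := hM.2.1
  have : CharP (AlgInt ⧸ M) p := Blocks.charP_residue hM.2.2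
  have hblk : ∀ H : Subgroup G, HasBlocks (AlgInt ⧸ M) H := fun H => hasBlocks M H
  have hB : IsPBlock M B := hmax.1.2.1
  obtain ⟨he, ha⟩ := (isMaximalBrauerPair_iff hB).1 hmax
  have hBi := isBlockIdem_blkG hB
  rw [isNilpotentBlock_iff hB]
  constructor
  · intro hnil Q
    ext φ
    rw [hF.2 Q φ, blockHom_iff he ha.1.1 Q φ]
    constructor
    · rintro ⟨g, hg, hH⟩
      obtain ⟨u, hu, hx⟩ := hnil.exists_mem_conj hblk hBi ha hH
      exact ⟨hH.1, u, hu, fun x => (hg x).trans (hx x x.2)⟩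
    · rintro ⟨hQ, g, hg, hx⟩
      exact ⟨g, hx, BHom.of_mem hblk ha.1.1 hg hQ⟩
  · intro h
    refine isNilpotentPairs_of_inner hblk hBi ha fun g Q hH => ?_
    have hmem : conjHom Q g ∈ F.Hom Q :=
      (hF.2 Q _).2 ((blockHom_iff he ha.1.1 Q _).2 ⟨g, fun _ => rfl, hH⟩)
    rw [h Q] at hmem
    obtain ⟨-, u, hu, hx⟩ := hmem
    exact ⟨u, hu, fun q hq => hx ⟨q, hq⟩⟩

end Cfsg.Agent.S4686
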