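import Cfsg.Statements.S4693
import Cfsg.Agent.Lib.BrauerPairs.NormalPSub
import Cfsg.Agent.Lib.BrauerPairs.NilpotentBlock
-- import your own Cfsg.Agent.* helpers here

set_option autoImplicit false
open Cfsg Cfsg.Agent Cfsg.Agent.BrauerPairs
open scoped Cfsg.Agent.Blocks

namespace Cfsg.Agent.S4693

/-- Fix a prime p and a maximal ideal M of the algebraic integers containing p, a p-block B of the finite group G with maximal Brauer pair (P, e) and fusion system F on P, and a Brauer pair (Q, f) ≤ (P, e) with Q centric in F. Suppose every element of G normalizes Q and stabilizes f. Then the idempotent of B agrees with that of f modulo M at every element of G, and f is the idempotent of a nilpotent block of Q·C_G(Q): some p-block of Q·C_G(Q) has the idempotent coefficients of f and is nilpotent. -/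
theorem result {G : Type*} [Group G] [Fintype G] (p : ℕ) [Fact p.Prime] (M : Ideal Cfsg.AlgInt) (hM : Cfsg.IsPModular p M) (B : Set (Cfsg.IrrCharacter G)) (P : Subgroup G) (e : Set (Cfsg.IrrCharacter (Subgroup.centralizer (P : Set G)))) (hmax : Cfsg.IsMaximalBrauerPair p M B P e) (F : Cfsg.FusionSystem P) (hF : Cfsg.IsBlockFusionSystemOn p M B P e F) (Q : Subgroup G) (f : Set (Cfsg.IrrCharacter (Subgroup.centralizer (Q : Set G)))) (hQP : Q ≤ P) (hf : Cfsg.IsPBlock M f) (hle : Cfsg.SubpairLE p M Q f P e) (hcen : F.IsCentric Q) (hG : ∀ x : G, x ∈ Subgroup.normalizer (Q : Set G) ∧ Cfsg.StabilizesBlock (Subgroup.centralizer (Q : Set G)) f x) : (∀ g : G, Cfsg.MemLocalIdeal M (Cfsg.blockCoeff B g - Cfsg.subgroupBlockCoeff (Subgroup.centralizer (Q : Set G)) f g)) ∧ ∃ F' : Set (Cfsg.IrrCharacter ↥(Q ⊔ Subgroup.centralizer (Q : Set G))), Cfsg.IsPBlock M F' ∧ (∀ t : ↥(Q ⊔ Subgroup.centralizer (Q : Set G)), Cfsg.blockCoeff F' t = Cfsg.subgroupBlockCoeff (Subgroup.centralizer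 (Q : Set G)) f (t : G)) ∧ Cfsg.IsNilpotentBlock p M F' := by
  classical
  have : M.IsMaximal := hM.2.1
  have : CharP (AlgInt ⧸ M) p := Blocks.charP_residue hM.2.2
  have hblk : ∀ H : Subgroup G, HasBlocks (AlgInt ⧸ M) H := fun H => hasBlocks M H
  have hB : IsPBlock M B := hmax.1.2.1
  obtain ⟨he, hmx⟩ := (isMaximalBrauerPair_iff hB).1 hmax
  have hQfle : PLE p (Q, blk M _ f) (P, blk M _ e) := ple_of_subpairLE hle
  have hQf : IsPairOf p (blkG M B) (Q, blk M _ f) :=
    (ple_isPairOf_iff (isBlockIdem_blkG hB) hQfle).1 hmx.1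
  have hQp : IsPGroup p Q := hQf.1.1
  have : Q.Normal := Subgroup.normalizer_eq_top_iff.1 (eq_top_iff.2 fun x _ => (hG x).1)
  have hfix : ∀ x : G, conjEl x (blk M _ f) = blk M _ f := fun x =>
    (stabilizesBlock_iff hf (normalizer_le_normalizer_centralizer Q (hG x).1)).1 (hG x).2
  refine ⟨fun g => ?_, ?_⟩
  · -- the idempotent of `B` is that of `f`
    rw [blockCoeff_eq_orbitSum hB hf hQf (T := (⊤ : Subgroup G))
      (fun x => iff_of_true (Subgroup.mem_top x) (hfix x)) g]
    rw [Finset.sum_congr rfl fun x _ => subgroupBlockCoeff_conj hf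
      (normalizer_le_normalizer_centralizer Q (hG x).1) (hfix x) g, Finset.sum_const, Finset.card_univ,
      nsmul_eq_mul, Subgroup.card_top, ← Nat.card_eq_fintype_card, ← mul_assoc,
      inv_mul_cancel₀ (Nat.cast_ne_zero.2 Nat.card_pos.ne'), one_mul, sub_self]
    exact Blocks.memLocalIdeal_zero
  obtain ⟨F', hF', hFeq, hco⟩ := exists_block_stab hQp hf (T := Q ⊔ (Subgroup.centralizer (Q : Set G))) le_sup_right le_sup_left
    (fun x _ => (hG x).1) (fun x _ => hfix x)
  refine ⟨F', hF', hco, (isNilpotentBlock_iff hF').2 ?_⟩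
  -- `Q` is a defect group of this block
  have hbr : br Q (blk M _ f) ≠ 0 := by
    rw [br_eq_self fun x hx => (isBlockIdem_blk _ hf).mem.1 x hx]
    exact (isBlockIdem_blk _ hf).ne_zero
  obtain ⟨x₀, -, hDC⟩ := exists_conj_defectIn_centralizer hblk (isBlockIdem_blkG hB) hmx hQfle
  rw [map_conj_eq_of_mem_normalizer (hG x₀).1, hfix x₀] at hDC
  have hPC : P ⊓ (Subgroup.centralizer (Q : Set G)) ≤ Q := by
    refine hcen.2 Q ((blockSystem_isConj_iff hF he hmx.1.1 Q Q).2 ⟨1, ?_, ?_⟩)
    · refine (bhom_iff hblk hmx.1.1 hQfle 1).2 ?_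
      rwa [conjPair_one]
    · rw [map_conj_eq_of_mem_normalizer (one_mem _)]
  obtain ⟨D, hD, hQD⟩ := exists_defectIn hblk (isBlockIdem_blk _ hF') hQp le_sup_left
    (by rw [hFeq]; exact hbr)
  have hDQ : D = Q := by
    refine le_antisymm (fun d hd => ?_) hQD
    obtain ⟨q, hq, c, hc, rfl⟩ := Subgroup.mem_sup_of_normal_left.1 (hD.2.1 hd)
    refine mul_mem hq ?_
    have hcD : c ∈ D ⊓ (Subgroup.centralizer (Q : Set G)) := ⟨by simpa using mul_mem (inv_mem (hQD hq)) hd, hc⟩
    have hcard : Nat.card (D ⊓ (Subgroup.centralizer (Q : Set G)) : Subgroup G) ≤ Nat.card (Q ⊓ (Subgroup.centralizer (Q : Set G)) : Subgroup G) := by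
      refine (hDC.card_le (hD.1.to_le inf_le_left) inf_le_right ?_).trans
        (Subgroup.card_le_of_le (le_inf hPC inf_le_right))
      rw [← hFeq]
      exact br_ne_zero_mono inf_le_left hD.2.2.1
    rw [← Subgroup.eq_of_le_of_card_ge (inf_le_inf_right (Subgroup.centralizer (Q : Set G)) hQD) hcard] at hcD
    exact hcD.1
  rw [hDQ] at hD
  obtain ⟨e', hmax'⟩ := (isDefectGroup_iff_exists_isMax hF' _).1
    ((isDefectGroup_subgroupOf_iff hF' le_sup_left).2 hD)
  refine isNilpotentPairs_of_inner (fun K => hasBlocks M K) (isBlockIdem_blkG hF') hmax'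
    fun t R hR => ?_
  obtain ⟨q, hq, c, hc, hqc⟩ := Subgroup.mem_sup_of_normal_left.1 t.2
  refine ⟨⟨q, Subgroup.mem_sup_left hq⟩, hq, fun r hr => Subtype.ext ?_⟩
  have hrQ : (r : G) ∈ Q := hR.1 hr
  simp only [Subgroup.coe_mul, Subgroup.coe_inv, ← hqc]
  rw [show q * c * (r : G) = q * (r : G) * c by
    rw [mul_assoc, ← Subgroup.mem_centralizer_iff.1 hc _ hrQ, mul_assoc]]
  group


end Cfsg.Agent.S4693
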