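import Cfsg.Statements.S4694
import Cfsg.Agent.Lib.BrauerPairs.Covering
import Cfsg.Agent.Lib.Blocks.CentralDefect
import Cfsg.Agent.Lib.Blocks.PrimePowerDegree
import Cfsg.Agent.Lib.Char.HeightZero
-- import your own Cfsg.Agent.* helpers here

set_option autoImplicit false
open Cfsg Cfsg.Agent Cfsg.Agent.BrauerPairs
open scoped Cfsg.Agent.Blocks

namespace Cfsg.Agent.S4694

/-- Fix a prime p and a maximal ideal M of the algebraic integers containing p, a p-block B of the finite group G and a Brauer pair (Q, e) of B. Let T be the stabilizer of e in N_G(Q) and suppose that (Q, e) carries a weight: the block of T whose idempotent is that of e contains an irreducible character χ that is constant on the cosets of Q and whose degree has p-part equal to the p-part of the index of Q in T. Then Z(Q) is a defect group of e as a block of C_G(Q), and Q is the largest normal p-subgroup of T: every p-subgroup of T normalized by T lies in Q. -/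
theorem result {G : Type*} [Group G] [Fintype G] (p : ℕ) [Fact p.Prime] (M : Ideal Cfsg.AlgInt) (hM : Cfsg.IsPModular p M) (B : Set (Cfsg.IrrCharacter G)) (Q : Subgroup G) (e : Set (Cfsg.IrrCharacter (Subgroup.centralizer (Q : Set G)))) (hQe : Cfsg.IsBrauerPairOf p M B Q e) (T : Subgroup G) (hT : ∀ y : G, y ∈ T ↔ y ∈ Subgroup.normalizer (Q : Set G) ∧ Cfsg.StabilizesBlock (Subgroup.centralizer (Q : Set G)) e y) (F' : Set (Cfsg.IrrCharacter T)) (hF' : Cfsg.IsPBlock M F') (hF'e : ∀ t : T, Cfsg.blockCoeff F' t = Cfsg.subgroupBlockCoeff (Subgroup.centralizer (Q : Set G)) e (t : G)) (χ : Cfsg.IrrCharacter T) (hχ : χ ∈ F') (hχQ : ∀ q : G, q ∈ Q → ∀ t : T, ∀ t' : T, (t' : G) = q * (t : G) → (χ : T → ℂ) t' = (χ : T → ℂ) t) (hdeg : (Cfsg.charDegree (χ : T → ℂ)).factorization p + (Nat.card Q).factorization p = (Nat.card T).factorization p) : Cfsg.IsDefectGroup p M e ((Q ⊓ Subgroup.centralizer (Q : Set G)).subgroupOf (Subgroup.centralizer (Q : Set G))) ∧ ∀ R : Subgroup G, R ≤ T → IsPGroup p R → (∀ t ∈ T, t ∈ Subgroup.normalizer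 (R : Set G)) → R ≤ Q := by
  classical
  have : M.IsMaximal := hM.2.1
  have : CharP (AlgInt ⧸ M) p := Blocks.charP_residue hM.2.2
  have hp : p.Prime := Fact.out
  letI := Fintype.ofFinite G
  have hTN : T ≤ Subgroup.normalizer (Q : Set G) := fun y hy => ((hT y).1 hy).1
  have he := hQe.1.2
  have hQp := hQe.1.1
  have hei := isBlockIdem_blk _ he
  have hTe : T = stabOf Q (blk M _ e) := eq_stabOf he hT
  have hCT : Subgroup.centralizer (Q : Set G) ≤ T := hTe ▸ centralizer_le_stabOf hei
  have hQT : Q ≤ T := hTe ▸ self_le_stabOf hei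
  haveI hQn : (Q.subgroupOf T).Normal := ⟨fun q hq t => by
    rw [Subgroup.mem_subgroupOf] at hq ⊢
    simp only [Subgroup.coe_mul, Subgroup.coe_inv]
    exact (Subgroup.mem_normalizer_iff.1 (hTN t.2) _).1 hq⟩
  have hQs : IsPGroup p (Q.subgroupOf T) := hQp.of_equiv (Subgroup.subgroupOfEquivOfLe hQT).symm
  have htriv : Char.TrivOn (Q.subgroupOf T) χ.1 := fun q hq =>
    hχQ q hq 1 q (by rw [OneMemClass.coe_one, mul_one])
  obtain ⟨χb, hχb⟩ := Char.exists_descend (Q.subgroupOf T) χ htriv
  have hdegb : Char.degree χb = Char.degree χ := by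
    apply Nat.cast_injective (R := ℂ)
    rw [← Char.apply_one_eq_degree, ← Char.apply_one_eq_degree, ← hχb 1, QuotientGroup.mk_one]
  have hcardT : Nat.card (T ⧸ Q.subgroupOf T) * Nat.card Q = Nat.card T := by
    rw [← Nat.card_congr (Subgroup.subgroupOfEquivOfLe hQT).toEquiv]
    exact (Subgroup.card_eq_card_quotient_mul_card_subgroup _).symm
  have hzero : (Char.degree χb).factorization p = (Nat.card (T ⧸ Q.subgroupOf T)).factorization p := by
    rw [← hcardT, Nat.factorization_mul Nat.card_pos.ne' Nat.card_pos.ne', Finsupp.add_apply,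
      Blocks.charDegree_eq, ← hdegb] at hdeg
    exact Nat.add_right_cancel hdeg
  refine ⟨?_, fun R hRT hR hRn => ?_⟩
  swap
  · -- radical
    set Rb := (R.subgroupOf T).map (QuotientGroup.mk' (Q.subgroupOf T)) with hRb
    haveI hRnT : (R.subgroupOf T).Normal := ⟨fun r hr t => by
      rw [Subgroup.mem_subgroupOf] at hr ⊢
      simp only [Subgroup.coe_mul, Subgroup.coe_inv]
      exact (Subgroup.mem_normalizer_iff.1 (hRn t t.2) _).1 hr⟩
    haveI : Rb.Normal := Subgroup.Normal.map hRnT _ (QuotientGroup.mk'_surjective _)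
    have hRbp : IsPGroup p Rb := (hR.of_equiv (Subgroup.subgroupOfEquivOfLe hRT).symm).map _
    have hvan : ∀ x ∈ Rb, x ≠ 1 → χb.1 x = 0 := by
      intro x hx hx1
      refine Blocks.apply_eq_zero_of_defect_zero hM.2.2 χb hzero fun hreg => hx1 ?_
      obtain ⟨n, hn⟩ := IsPGroup.iff_orderOf.1 hRbp ⟨x, hx⟩
      rw [Subgroup.orderOf_mk] at hn
      rcases n with _ | n
      · exact orderOf_eq_one_iff.1 (by simpa using hn)
      · exact absurd (hn ▸ dvd_pow_self p n.succ_ne_zero) hreg
    have hone := Char.IsIrrCharacter.apply_one_ne_zero χb.2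
    have htrivb : Char.TrivOn Rb χb.1 := by
      by_contra hno
      haveI := Fintype.ofFinite Rb
      have h := Char.sum_coset_eq_zero_of_not_trivOn Rb χb hno 1
      rw [Finset.sum_eq_single_of_mem (1 : Rb) (Finset.mem_univ _) fun k _ hk => by
        rw [one_mul]; exact hvan k k.2 fun he => hk (Subtype.ext he), OneMemClass.coe_one, mul_one] at h
      exact hone h
    intro r hr
    by_contra hrQ
    have hmem : ((⟨r, hRT hr⟩ : T) : T ⧸ Q.subgroupOf T) ∈ Rb := ⟨⟨r, hRT hr⟩, hr, rfl⟩
    have hne : ((⟨r, hRT hr⟩ : T) : T ⧸ Q.subgroupOf T) ≠ 1 := fun h =>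
      hrQ ((QuotientGroup.eq_one_iff (⟨r, hRT hr⟩ : T)).1 h)
    exact hone ((htrivb _ hmem).symm.trans (hvan _ hmem hne))
  -- centric
  set fb : Subgroup.centralizer (Q : Set G) →* T ⧸ Q.subgroupOf T :=
    (QuotientGroup.mk' (Q.subgroupOf T)).comp (Subgroup.inclusion hCT) with hfb
  haveI hCn : ((Subgroup.centralizer (Q : Set G)).subgroupOf T).Normal := ⟨fun c hc t => by
    rw [Subgroup.mem_subgroupOf] at hc ⊢
    simp only [Subgroup.coe_mul, Subgroup.coe_inv]
    exact (Subgroup.mem_normalizer_iff.1 (normalizer_le_normalizer_centralizer Q (hTN t.2)) _).1 hc⟩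
  haveI : fb.range.Normal := by
    rw [hfb, MonoidHom.range_comp, Subgroup.inclusion_range hCT]
    exact Subgroup.Normal.map hCn _ (QuotientGroup.mk'_surjective _)
  letI := Fintype.ofFinite fb.range
  obtain ⟨θb, hθb⟩ := Char.exists_constituent fb.range χb
  -- `θb` has defect zero
  obtain ⟨cb, hcb, hθcb⟩ : ∃ cb, IsPBlock M cb ∧ θb ∈ cb :=
    ⟨_, isPBlock_blockOf θb, mem_blockOf_self θb⟩
  have hB' : IsPBlock M (blockOf M χb.1) := isPBlock_blockOf χb
  have hne := mul_ne_zero_of_covers (N := fb.range) hB' hcb (mem_blockOf_self χb) hθcb hθb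
  obtain ⟨Db, hDb⟩ := Blocks.exists_defectGroup (p := p) hcb
  have hDb1 : Nat.card Db = 1 := by
    have hd := (isDefectGroup_iff_defectIn hcb Db).1 hDb
    have hci := isBlockIdem_blk fb.range hcb
    have hBi := isBlockIdem_blkG hB'
    have hcomm : blk M fb.range cb * blkG M (blockOf M χb.1) =
        blkG M (blockOf M χb.1) * blk M fb.range cb :=
      centerIn_commute (suppIn_mono le_top hci.mem.1) hBi.mem.2
    have hbe := br_ne_zero_of_under (le_fixGroup hci)
      (fun x _ => by rw [Subgroup.normalizer_eq_top]; exact Subgroup.mem_top x) hci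
      (mul_mem_centerIn_fixGroup hBi.mem hci)
      (by rw [mul_assoc, ← mul_assoc (blk M fb.range cb), hcomm, mul_assoc, hci.idem, ← mul_assoc, hBi.idem])
      (by rw [mul_assoc, hci.idem]) hne hd.1 hd.2.1 hd.2.2.1
    have hRB : br (Db.map fb.range.subtype) (blkG M (blockOf M χb.1)) ≠ 0 := fun h => hbe (by
      rw [br_mul hd.1 (mem_fixedBy_of_top hBi.mem _) (fixedBy_anti hd.2.1 hci.mem.2), h, zero_mul])
    obtain ⟨E, hE⟩ := Blocks.exists_defectGroup (p := p) hB'
    have hE1 : Nat.card E = 1 := by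
      rw [Blocks.card_defectGroup hM.2.2 hB' hE, blockDefect,
        (Blocks.blockOf_eq_singleton_iff hM.2.2 χb).2 hzero, Set.image_singleton, csInf_singleton,
        Blocks.charDegree_eq, hzero, Nat.sub_self, pow_zero]
    obtain ⟨g, -, hg⟩ := ((isDefectGroup_iff_defectIn_top hB' E).1 hE).2.2.2 _ hd.1 le_top hRB
    have := Subgroup.card_le_of_le hg
    rw [BrauerPairs.card_map_conj, hE1, Subgroup.card_map_of_injective fb.range.subtype_injective] at this
    exact le_antisymm this Nat.card_pos
  have hθdeg : (Char.degree θb).factorization p = (Nat.card fb.range).factorization p := by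
    refine le_antisymm ((Nat.factorization_le_iff_dvd (Char.degree_pos θb).ne' Nat.card_pos.ne').2
      (Char.degree_dvd_natCard θb) p) ?_
    have h := Blocks.card_defectGroup hM.2.2 hcb hDb
    rw [hDb1] at h
    have h0 : blockDefect p cb = 0 := by
      rcases Nat.eq_zero_or_pos (blockDefect p cb) with h0 | h0
      · exact h0
      · exact absurd h.symm (one_lt_pow₀ hp.one_lt h0.ne').ne'
    exact (Nat.sub_eq_zero_iff_le.1 h0).trans (Char.sInf_le_factorization_degree hθcb)
  -- pulled back to `C(Q)`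
  let θ : IrrCharacter (Subgroup.centralizer (Q : Set G)) :=
    ⟨fun c => θb.1 (fb.rangeRestrict c),
      Char.IsIrrCharacter.comp_surjective θb.2 fb.rangeRestrict fb.rangeRestrict_surjective⟩
  set Z := (Q ⊓ Subgroup.centralizer (Q : Set G)).subgroupOf (Subgroup.centralizer (Q : Set G)) with hZ
  have hker : fb.rangeRestrict.ker = Z := by
    ext c
    rw [MonoidHom.mem_ker, hZ, Subgroup.mem_subgroupOf, Subgroup.mem_inf]
    refine ⟨fun h => ⟨(QuotientGroup.eq_one_iff (N := Q.subgroupOf T) (Subgroup.inclusion hCT c)).1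
      (congrArg Subtype.val h), c.2⟩, fun h => ?_⟩
    exact Subtype.ext ((QuotientGroup.eq_one_iff (N := Q.subgroupOf T) (Subgroup.inclusion hCT c)).2 h.1)
  have hcardC : Nat.card fb.range * Nat.card Z = Nat.card (Subgroup.centralizer (Q : Set G)) := by
    rw [← hker, Subgroup.card_eq_card_quotient_mul_card_subgroup fb.rangeRestrict.ker,
      Nat.card_congr (QuotientGroup.quotientKerEquivOfSurjective _ fb.rangeRestrict_surjective).toEquiv]
  have hθ1 : Char.degree θ = Char.degree θb := by
    apply Nat.cast_injective (R := ℂ)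
    rw [← Char.apply_one_eq_degree, ← Char.apply_one_eq_degree]
    show θb.1 (fb.rangeRestrict 1) = θb.1 1
    rw [map_one]
  have hθe : θ ∈ e := by
    by_contra hno
    choose k hk using fun η : IrrCharacter fb.range => Char.IsCharacter.exists_nat_classInner
      (Char.IsCharacter.restrict (Char.irr_isCharacter χb) fb.range) (Char.irr_isCharacter η)
    have hres : ∀ y : fb.range, χb.1 (y : T ⧸ Q.subgroupOf T) = ∑ η, (k η : ℂ) * η.1 y := fun y => by
      have h := congrFun (Char.eq_sum_classInner_smul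
        (Char.IsCharacter.isClassFunction (Char.IsCharacter.restrict (Char.irr_isCharacter χb) fb.range) :
          IsClassFunction fb.range (fun x : fb.range => χb.1 x))) y
      simpa [hk] using h
    let lift : IrrCharacter fb.range → IrrCharacter (Subgroup.centralizer (Q : Set G)) := fun η =>
      ⟨fun c => η.1 (fb.rangeRestrict c),
        Char.IsIrrCharacter.comp_surjective η.2 fb.rangeRestrict fb.rangeRestrict_surjective⟩
    have h1 : Blocks.chiL χ.1 (Blocks.blockIdem F') =
        ∑ η, (k η : ℂ) * Blocks.chiL (lift η).1 (Blocks.blockIdem e) := by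
      letI := Fintype.ofFinite T
      simp only [Blocks.chiL_eq_sum, Blocks.coeff_blockIdem, Finset.mul_sum]
      rw [Finset.sum_comm]
      refine (Fintype.sum_of_injective (Subgroup.inclusion hCT) (Subgroup.inclusion_injective hCT) _ _ ?_ ?_).symm
      · intro t ht
        rw [hF'e]
        unfold subgroupBlockCoeff
        rw [dif_neg fun h => ht ⟨⟨t, h⟩, Subtype.ext rfl⟩, zero_mul]
      · intro c
        rw [hF'e]
        unfold subgroupBlockCoeff
        rw [dif_pos (show ((Subgroup.inclusion hCT c : T) : G) ∈ _ from c.2), ← hχb (Subgroup.inclusion hCT c)]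
        rw [show ((Subgroup.inclusion hCT c : T) : T ⧸ Q.subgroupOf T) = ((fb.rangeRestrict c : fb.range) : T ⧸ Q.subgroupOf T)
          from rfl, hres, Finset.mul_sum]
        refine Finset.sum_congr rfl fun η _ => ?_
        show _ = blockCoeff e c * _
        ring
    rw [Blocks.chiL_blockIdem, if_pos hχ] at h1
    have h2 : χ.1 1 = ∑ η, (k η : ℂ) * (lift η).1 1 := by
      rw [← hχb 1]
      show χb.1 ((fb.rangeRestrict 1 : fb.range) : T ⧸ Q.subgroupOf T) = _
      rw [hres]
    have h3 : ∑ η, (k η : ℂ) * (if lift η ∈ e then 0 else (lift η).1 1) = 0 := by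
      have : ∀ η, (k η : ℂ) * (if lift η ∈ e then 0 else (lift η).1 1) =
          (k η : ℂ) * (lift η).1 1 - (k η : ℂ) * Blocks.chiL (lift η).1 (Blocks.blockIdem e) := fun η => by
        rw [Blocks.chiL_blockIdem]; split_ifs <;> simp
      rw [Finset.sum_congr rfl fun η _ => this η, Finset.sum_sub_distrib, ← h1, ← h2, sub_self]
    have h4 : ((∑ η, k η * (if lift η ∈ e then 0 else Char.degree (lift η)) : ℕ) : ℂ) = 0 := by
      push_cast
      refine Eq.trans ?_ h3
      refine Finset.sum_congr rfl fun η _ => ?_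
      split_ifs <;> simp [Char.apply_one_eq_degree]
    have h5 := Finset.sum_eq_zero_iff.1 (Nat.cast_eq_zero.1 h4) θb (Finset.mem_univ _)
    rw [if_neg (show lift θb ∉ e from hno), Nat.mul_eq_zero] at h5
    rcases h5 with h5 | h5
    · exact hθb (by
        show classInner (fun x : fb.range => χb.1 x) θb.1 = 0
        rw [hk, h5, Nat.cast_zero])
    · exact (Char.degree_pos _).ne' h5
  refine (Blocks.isDefectGroup_central_iff Z hM.2.2 he (fun z hz => Subgroup.mem_center_iff.2 fun c =>
    Subtype.ext ?_) ((hQp.to_le inf_le_left).of_equiv (Subgroup.subgroupOfEquivOfLe inf_le_right).symm)).2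
    ⟨θ, hθe, fun z hz => ?_, ?_⟩
  · exact (Subgroup.mem_centralizer_iff.1 c.2 _ (hz : (z : G) ∈ Q ⊓ _).1).symm
  · show θb.1 (fb.rangeRestrict z) = θb.1 (fb.rangeRestrict 1)
    rw [map_one, MonoidHom.mem_ker.1 (hker.ge hz)]
  · rw [hθ1, hθdeg, ← hcardC, Nat.factorization_mul Nat.card_pos.ne' Nat.card_pos.ne', Finsupp.add_apply]

end Cfsg.Agent.S4694
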