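import Cfsg.Statements.S4697
import Cfsg.Agent.Lib.Blocks.CountBound.Main

set_option autoImplicit false
open Cfsg

namespace Cfsg.Agent.S4697

/-- Let p be a prime, M a maximal ideal of the algebraic integers containing p, and B a p-block of the finite group G with an abelian defect group D of order p^d. If D has rank 2 (its least number of generators is 2) then B contains at most p^d irreducible characters; if D has rank 3 then the number k of irreducible characters in B satisfies k^3 ≤ p^(5d). -/
theorem result {G : Type*} [Group G] [Finite G] (p : ℕ) [Fact p.Prime] (M : Ideal Cfsg.AlgInt) (hM : Cfsg.IsPModular p M) (B : Set (Cfsg.IrrCharacter G)) (hB : Cfsg.IsPBlock M B) (D : Subgroup G) (hBD : Cfsg.IsDefectGroup p M B D) (hab : IsMulCommutative D) (d : ℕ) (hDd : Nat.card D = p ^ d) : (Group.rank D = 2 → Nat.card B ≤ p ^ d) ∧ (Group.rank D = 3 → Nat.card B ^ 3 ≤ p ^ (5 * d)) := by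
  classical
  letI := Fintype.ofFinite G
  have : M.IsMaximal := hM.2.1
  refine ⟨fun h2 => ?_, fun h3 => ?_⟩
  · obtain ⟨S, hS2, hS⟩ := Group.rank_spec D
    rw [h2] at hS2
    obtain ⟨u, v, -, rfl⟩ := Finset.card_eq_two.1 hS2
    rw [← hDd]
    refine Blocks.CountBound.card_le_of_two_generators hM hB hBD
      (fun x hx y hy => congrArg Subtype.val (hab.is_comm.comm ⟨x, hx⟩ ⟨y, hy⟩)) u.2 v.2 fun x hx => ?_
    have h : (x : G) ∈ (Subgroup.closure (({u, v} : Finset D) : Set D)).map D.subtype := by
      rw [hS]; exact ⟨⟨x, hx⟩, trivial, rfl⟩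
    rw [MonoidHom.map_closure] at h
    simpa [Set.image_insert_eq] using h
  · rw [mul_comm 5 d, pow_mul, ← hDd]
    exact Blocks.CountBound.card_cube_le hM hB hBD hab h3

end Cfsg.Agent.S4697
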