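import Cfsg.Statements.S4699
import Mathlib.RepresentationTheory.Irreducible
import Mathlib.Algebra.CharP.Algebra
import Mathlib.FieldTheory.Finite.Basic
import Mathlib.LinearAlgebra.Charpoly.Basic
import Mathlib.LinearAlgebra.Eigenspace.Zero
import Mathlib.Algebra.Ring.GeomSum
import Mathlib.GroupTheory.Sylow
import Mathlib.GroupTheory.Perm.Cycle.Type

set_option autoImplicit false
open Cfsg

namespace Cfsg.Agent.S4699

open Module (finrank)
open Polynomial

/-- The relative trace from the trivial subgroup of a cyclic `p`-group, in operator form: if `T` is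
`g ↦ X g X⁻¹ - g` with `X = 1 + y`, then `T^m g` maps `ker y^(i+1)` into the range of `y^(m-i)`. -/
theorem ad_pow_range {F V : Type*} [Field F] [AddCommGroup V] [Module F V] {y X' : Module.End F V}
    (hX : (1 + y) * X' = 1) (hc : Commute y X') (h : Module.End F V) (m i : ℕ) (v : V)
    (hv : (y ^ (i + 1)) v = 0) :
    ∃ w, (((fun g => (1 + y) * g * X' - g)^[m]) h) v = (y ^ (m - i)) w := by
  induction m generalizing i v with
  | zero => exact ⟨h v, by simp⟩
  | succ m ih =>
    set g := ((fun g => (1 + y) * g * X' - g)^[m]) h with hg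
    have hstep : (((fun g => (1 + y) * g * X' - g)^[m + 1]) h) =
        y * g * X' - g * y * X' := by
      rw [Function.iterate_succ_apply', ← hg]
      have h1 : g = g * ((1 + y) * X') := by rw [hX, mul_one]
      nth_rewrite 2 [h1]
      rw [add_mul, one_mul, add_mul, add_mul 1 y X', one_mul, mul_add, ← mul_assoc g y X']
      abel
    have hv' : (y ^ (i + 1)) (X' v) = 0 := by
      have h1 := LinearMap.congr_fun (hc.pow_left (i + 1)).eq v
      rw [Module.End.mul_apply, Module.End.mul_apply] at h1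
      rw [h1, hv, map_zero]
    obtain ⟨w₁, hw₁⟩ := ih i (X' v) hv'
    obtain ⟨w₂, hw₂⟩ : ∃ w, g (y (X' v)) = (y ^ (m + 1 - i)) w := by
      cases i with
      | zero =>
        rw [zero_add, pow_one] at hv'
        exact ⟨0, by rw [hv', map_zero, map_zero]⟩
      | succ i =>
        obtain ⟨w, hw⟩ := ih i (y (X' v)) (by
          rw [← Module.End.mul_apply, ← pow_succ]; exact hv')
        exact ⟨w, by rw [hw, show m + 1 - (i + 1) = m - i by omega]⟩
    rcases Nat.lt_or_ge m i with hmi | hmi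
    · exact ⟨_, by rw [show m + 1 - i = 0 by omega, pow_zero, Module.End.one_apply]⟩
    refine ⟨w₁ - w₂, ?_⟩
    rw [hstep, LinearMap.sub_apply, Module.End.mul_apply, Module.End.mul_apply, Module.End.mul_apply,
      Module.End.mul_apply, hw₁, hw₂, map_sub, show m + 1 - i = m - i + 1 by omega]
    rw [pow_succ' y (m - i), Module.End.mul_apply, Module.End.mul_apply]

/-- In characteristic `p` the sum of the powers of `T` up to `p^n` is `(T - 1)^(p^n - 1)`. -/
theorem sub_one_pow_eq_geom {F : Type*} [Field F] {p : ℕ} [Fact p.Prime] [CharP F p] (n : ℕ) :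
    ((X : F[X]) - 1) ^ (p ^ n - 1) = ∑ i ∈ Finset.range (p ^ n), (X : F[X]) ^ i := by
  have hne : (X : F[X]) - 1 ≠ 0 := by
    simpa using Polynomial.X_sub_C_ne_zero (1 : F)
  refine mul_right_cancel₀ hne ?_
  rw [geom_sum_mul, ← pow_succ,
    Nat.sub_add_cancel (Nat.one_le_pow _ _ (Fact.out : p.Prime).pos), sub_pow_char_pow, one_pow]

/-- Let p be a prime and G a finite group whose Sylow p-subgroup P is cyclic of order p^n with n ≥ 2 and meets every other Sylow p-subgroup trivially. Then every faithful irreducible representation of G on a finite-dimensional space over a finite field of characteristic p has dimension at least p^n − (p − 1). -/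
theorem result {G : Type*} [Group G] [Finite G] (p : ℕ) [Fact p.Prime] (P : Sylow p G) (hcyc : IsCyclic P) (n : ℕ) (hn : 2 ≤ n) (hPn : Nat.card P = p ^ n) (hTI : ∀ Q : Sylow p G, Q ≠ P → (P : Subgroup G) ⊓ (Q : Subgroup G) = ⊥) (F : Type*) [Field F] [Finite F] [CharP F p] (V : Type*) [AddCommGroup V] [Module F V] [FiniteDimensional F V] (ρ : Representation F G V) (hfaith : Function.Injective ρ) (hirr : ρ.IsIrreducible) : p ^ n - (p - 1) ≤ Module.finrank F V := by
  classical
  letI := Fintype.ofFinite G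
  have hp : p.Prime := Fact.out
  have hp2 := hp.two_le
  set q := p ^ n with hq
  obtain ⟨x, hgen⟩ := hcyc.exists_generator
  have hxord : orderOf (x : G) = q := by
    rw [Subgroup.orderOf_coe, orderOf_eq_card_of_forall_mem_zpowers hgen, hPn]
  haveI : NeZero q := ⟨(pow_pos hp.pos n).ne'⟩
  haveI : CharP (Module.End F V) p := by
    haveI : Nontrivial V := by
      by_contra h
      haveI := not_nontrivial_iff_subsingleton.1 h
      have h1 : ρ (x : G) = ρ 1 := LinearMap.ext fun v => Subsingleton.elim _ _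
      have := congrArg orderOf (hfaith h1)
      rw [hxord, orderOf_one] at this
      exact absurd this (Nat.one_lt_pow (by omega) hp.one_lt).ne'
    exact charP_of_injective_algebraMap (FaithfulSMul.algebraMap_injective F (Module.End F V)) p
  set X₀ : Module.End F V := ρ (x : G) with hX₀
  set X' : Module.End F V := ρ (x : G)⁻¹ with hX'
  set y : Module.End F V := X₀ - 1 with hy
  have hXy : X₀ = 1 + y := by rw [hy, add_sub_cancel]
  have hXX' : (1 + y) * X' = 1 := by rw [← hXy, hX₀, hX', ← map_mul, mul_inv_cancel, map_one]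
  have hcX : Commute X₀ X' := by
    rw [hX₀, hX']
    exact (Commute.inv_right (Commute.refl (x : G))).map ρ
  have hcy : Commute y X' := by rw [hy]; exact hcX.sub_left (Commute.one_left _)
  have hypk : ∀ k : ℕ, y ^ (p ^ k) = ρ ((x : G) ^ (p ^ k)) - 1 := fun k => by
    rw [hy, sub_pow_char_pow_of_commute _ _ (Commute.one_right X₀), one_pow, hX₀, map_pow]
  have hnil : ∃ L, y ^ L = 0 := ⟨q, by rw [hq, hypk, ← hq, ← hxord, pow_orderOf_eq_one, map_one, sub_self]⟩
  set L := Nat.find hnil with hL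
  have hyL : y ^ L = 0 := Nat.find_spec hnil
  have hLq : L ≤ q :=
    Nat.find_min' hnil (by rw [hq, hypk, ← hq, ← hxord, pow_orderOf_eq_one, map_one, sub_self])
  have hLlow : p ^ (n - 1) < L := by
    by_contra hle
    push Not at hle
    have h0 : y ^ (p ^ (n - 1)) = 0 := pow_eq_zero_of_le hle hyL
    rw [hypk, sub_eq_zero] at h0
    have h1 := hfaith (h0.trans (map_one ρ).symm)
    have h2 := Nat.le_of_dvd (pow_pos hp.pos _) (orderOf_dvd_of_pow_eq_one h1)
    rw [hxord, hq] at h2
    exact absurd h2 (not_le.2 (Nat.pow_lt_pow_right hp.one_lt (by omega)))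
  have hpL : p ≤ L := le_trans (Nat.le_self_pow (by omega) p) hLlow.le
  have hLdim : L ≤ finrank F V := by
    refine Nat.find_min' hnil ?_
    have h := IsNilpotent.charpoly_eq_X_pow_finrank (φ := y) ⟨L, hyL⟩
    simpa [h] using y.aeval_self_charpoly
  by_contra hlt
  push Not at hlt
  have hbig : L + (p - 1) < q := by omega
  -- the Teichmüller units
  let π : ZMod q →+* F := ZMod.castHom (dvd_pow_self p (by omega : n ≠ 0)) F
  let R : Subgroup (ZMod q)ˣ := (powMonoidHom (p - 1) : (ZMod q)ˣ →* (ZMod q)ˣ).ker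
  letI := Fintype.ofFinite R
  have hR : (Fintype.card R : F) ≠ 0 := by
    rw [Ne, CharP.cast_eq_zero_iff F p]
    intro hdvd
    obtain ⟨r, hr⟩ := exists_prime_orderOf_dvd_card p hdvd
    have h1 : r ^ (p - 1) = 1 := Subtype.ext (MonoidHom.mem_ker.1 r.2)
    have h2 := Nat.le_of_dvd (Nat.sub_pos_of_lt hp.one_lt) (orderOf_dvd_of_pow_eq_one h1)
    rw [hr] at h2
    omega
  let cast : (ZMod q)ˣ → ℕ := fun r => (r : ZMod q).val
  have hXmod : ∀ i j : ℕ, (i : ZMod q) = j → X₀ ^ i = X₀ ^ j := fun i j h => by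
    rw [hX₀, ← map_pow, ← map_pow]
    refine congrArg ρ (pow_eq_pow_iff_modEq.2 ?_)
    rw [hxord]
    exact (ZMod.natCast_eq_natCast_iff i j q).1 h
  set z : Module.End F V :=
    ∑ r : R, π ((r : (ZMod q)ˣ)⁻¹ : (ZMod q)ˣ) • (X₀ ^ cast r - 1) with hz
  -- conjugation by the normalizer
  have hconj : ∀ t ∈ Subgroup.normalizer ((P : Subgroup G) : Set G),
      ρ t * z ^ (p - 1) * ρ t⁻¹ = z ^ (p - 1) := by
    intro t ht
    have htx : t * x * t⁻¹ ∈ (P : Subgroup G) := (Subgroup.mem_normalizer_iff.1 ht _).1 x.2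
    obtain ⟨a, ha⟩ := Subgroup.mem_zpowers_iff.1 (hgen ⟨_, htx⟩)
    have ha' : (x : G) ^ a = t * x * t⁻¹ := by simpa using congrArg Subtype.val ha
    obtain ⟨a₀, ha₀⟩ : ∃ a₀ : ℕ, (x : G) ^ a₀ = t * x * t⁻¹ :=
      ⟨(a % (orderOf (x : G) : ℤ)).toNat, by
        rw [← zpow_natCast, Int.toNat_of_nonneg (Int.emod_nonneg _ (by
          rw [hxord]; exact_mod_cast (NeZero.ne q))), zpow_mod_orderOf, ha']⟩
    have hit : ∀ k : ℕ, t ^ k * x * (t ^ k)⁻¹ = (x : G) ^ (a₀ ^ k) := fun k => by
      induction k with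
      | zero => simp
      | succ k ih =>
        calc t ^ (k + 1) * x * (t ^ (k + 1))⁻¹ = t * (t ^ k * x * (t ^ k)⁻¹) * t⁻¹ := by
              rw [pow_succ']; group
          _ = (t * x * t⁻¹) ^ (a₀ ^ k) := by rw [ih, conj_pow]
          _ = _ := by rw [← ha₀, ← pow_mul, pow_succ']
    -- the multiplier has order dividing `p - 1`
    obtain ⟨i, m, hm, htm⟩ := Nat.exists_eq_pow_mul_and_not_dvd (orderOf_pos t).ne' p hp.ne_one
    have hs : t ^ m ∈ (P : Subgroup G) := by
      have hpel : orderOf (t ^ m) ∣ p ^ i := by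
        refine orderOf_dvd_of_pow_eq_one ?_
        rw [← pow_mul, mul_comm, ← htm, pow_orderOf_eq_one]
      obtain ⟨j, -, hj⟩ := (Nat.dvd_prime_pow hp).1 hpel
      have hZ : IsPGroup p (Subgroup.zpowers (t ^ m)) :=
        IsPGroup.of_card (n := j) (by rw [Nat.card_zpowers, hj])
      have hle := P.isPGroup'.to_sup_of_normal_left' hZ (Subgroup.zpowers_le.2 (pow_mem ht m))
      have := P.is_maximal' hle le_sup_left
      exact this.le (Subgroup.mem_sup_right (Subgroup.mem_zpowers _))
    have ham : ((a₀ : ZMod q)) ^ m = 1 := by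
      have h1 := hit m
      rw [show t ^ m * (x : G) * (t ^ m)⁻¹ = x by
        rw [show t ^ m * (x : G) = x * t ^ m from
          congrArg Subtype.val (hcyc.commGroup.mul_comm (⟨_, hs⟩ : (P : Subgroup G)) x),
          mul_inv_cancel_right]] at h1
      have h2 : (1 : ℕ) ≡ a₀ ^ m [MOD orderOf (x : G)] := pow_eq_pow_iff_modEq.1 (by rw [pow_one]; exact h1)
      rw [hxord, ← ZMod.natCast_eq_natCast_iff] at h2
      push_cast at h2
      exact h2.symm
    obtain ⟨u, hu⟩ : IsUnit (a₀ : ZMod q) := IsUnit.of_pow_eq_one ham (by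
      intro h; rw [h] at hm; exact hm (dvd_zero p))
    have huR : u ∈ R := by
      rw [MonoidHom.mem_ker, powMonoidHom_apply]
      have h1 : u ^ m = 1 := Units.ext (by rw [Units.val_pow_eq_pow_val, hu, ham, Units.val_one])
      have h2 : u ^ (p ^ (n - 1) * (p - 1)) = 1 := by
        have h := ZMod.pow_totient u
        have e : q.totient = p ^ (n - 1) * (p - 1) := by rw [hq, Nat.totient_prime_pow hp (by omega)]
        rwa [e] at h
      have h3 := pow_gcd_eq_one.2 ⟨h1, h2⟩
      have h4 : Nat.gcd m (p ^ (n - 1) * (p - 1)) ∣ p - 1 := by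
        rw [Nat.Coprime.gcd_mul_left_cancel_right _ ((hp.coprime_iff_not_dvd.2 hm).pow_left _)]
        exact Nat.gcd_dvd_right _ _
      obtain ⟨c, hc⟩ := h4
      rw [hc, pow_mul, h3, one_pow]
    have htX : ρ t * X₀ * ρ t⁻¹ = X₀ ^ a₀ := by
      rw [hX₀, ← map_mul, ← map_mul, ← map_pow, ha₀]
    have htz : ρ t * z * ρ t⁻¹ = π (u : ZMod q) • z := by
      have hterm : ∀ i : ℕ, ρ t * (X₀ ^ i - 1) * ρ t⁻¹ = X₀ ^ (a₀ * i) - 1 := fun i => by
        rw [mul_sub, sub_mul, mul_one, ← map_mul ρ t t⁻¹, mul_inv_cancel, map_one]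
        congr 1
        rw [pow_mul, ← htX, hX₀, ← map_pow, ← map_mul, ← map_mul, ← map_mul, ← map_mul, ← map_pow,
          conj_pow]
      rw [hz, Finset.mul_sum, Finset.sum_mul, Finset.smul_sum]
      refine Fintype.sum_equiv (Equiv.mulLeft (⟨u, huR⟩ : R)) _ _ fun r => ?_
      rw [mul_smul_comm, smul_mul_assoc, hterm, smul_smul, ← map_mul]
      congr 2
      · simp only [Equiv.coe_mulLeft, Subgroup.coe_mul, mul_inv_rev, Units.val_mul]
        rw [mul_left_comm, Units.mul_inv, mul_one]
      · refine hXmod _ _ ?_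
        simp [cast, hu]
    have hpow : ∀ k : ℕ, ρ t * z ^ k * ρ t⁻¹ = π (u : ZMod q) ^ k • z ^ k := fun k => by
      induction k with
      | zero => rw [pow_zero, pow_zero, mul_one, ← map_mul, mul_inv_cancel, map_one, one_smul]
      | succ k ih =>
        calc ρ t * z ^ (k + 1) * ρ t⁻¹ = (ρ t * z ^ k * ρ t⁻¹) * (ρ t * z * ρ t⁻¹) := by
              rw [show (ρ t * z ^ k * ρ t⁻¹) * (ρ t * z * ρ t⁻¹) =
                ρ t * z ^ k * (ρ t⁻¹ * ρ t) * z * ρ t⁻¹ by simp only [mul_assoc],
                ← map_mul, inv_mul_cancel, map_one, mul_one, pow_succ]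
              simp only [mul_assoc]
          _ = _ := by rw [ih, htz, smul_mul_assoc, mul_smul_comm, smul_smul, ← pow_succ, ← pow_succ]
    have hu1 : u ^ (p - 1) = 1 := huR
    rw [hpow, ← map_pow, ← Units.val_pow_eq_pow_val, hu1]
    simp
  -- `z` is `y` times a unit
  set w : Module.End F V := ∑ r : R, π ((r : (ZMod q)ˣ)⁻¹ : (ZMod q)ˣ) •
    ∑ i ∈ Finset.range (cast r), X₀ ^ i with hw
  have hzw : z = y * w := by
    rw [hz, hw, Finset.mul_sum]
    refine Finset.sum_congr rfl fun r _ => ?_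
    rw [mul_smul_comm, hy, mul_geom_sum]
  have hyw : Commute y w := by
    rw [hy, hw]
    refine Commute.sum_right _ _ _ fun r _ => Commute.smul_right ?_ _
    exact Commute.sum_right _ _ _ fun i _ =>
      ((Commute.refl X₀).pow_right i).sub_left (Commute.one_left _)
  have hwunit : IsUnit w := by
    set W : Module.End F V := ∑ r : R, π ((r : (ZMod q)ˣ)⁻¹ : (ZMod q)ˣ) •
      ∑ i ∈ Finset.range (cast r), ∑ j ∈ Finset.range i, X₀ ^ j with hW
    have hyW : Commute y W := by
      rw [hy, hW]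
      refine Commute.sum_right _ _ _ fun r _ => Commute.smul_right ?_ _
      exact Commute.sum_right _ _ _ fun i _ => Commute.sum_right _ _ _ fun j _ =>
        ((Commute.refl X₀).pow_right j).sub_left (Commute.one_left _)
    have hweq : w = (Fintype.card R : F) • 1 + y * W := by
      have hone : ∀ r : R, π ((r : (ZMod q)ˣ)⁻¹ : (ZMod q)ˣ) * (cast r : F) = 1 := fun r => by
        rw [show (cast r : F) = π ((r : (ZMod q)ˣ) : ZMod q) by
          rw [← map_natCast π, ZMod.natCast_zmod_val], ← map_mul, Units.inv_mul, map_one]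
      have hcard : (Fintype.card R : F) • (1 : Module.End F V) = ∑ _r : R, (1 : F) • 1 := by
        rw [← Finset.sum_smul, Finset.sum_const, Finset.card_univ, nsmul_eq_mul, mul_one]
      rw [hcard, hw, hW, Finset.mul_sum, ← Finset.sum_add_distrib]
      refine Finset.sum_congr rfl fun r _ => ?_
      rw [mul_smul_comm, ← hone r, mul_smul, ← smul_add]
      congr 1
      rw [Nat.cast_smul_eq_nsmul, Finset.mul_sum, hy]
      simp only [mul_geom_sum]
      rw [Finset.sum_sub_distrib, Finset.sum_const, Finset.card_range, add_sub_cancel]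
    rw [hweq]
    refine IsNilpotent.isUnit_add_left_of_commute (hyW.isNilpotent_mul_right ⟨L, hyL⟩) ?_ ?_
    · exact (isUnit_iff_exists.2 ⟨(Fintype.card R : F)⁻¹ • 1, by
        rw [smul_mul_smul_comm, mul_one, mul_inv_cancel₀ hR, one_smul], by
        rw [smul_mul_smul_comm, mul_one, inv_mul_cancel₀ hR, one_smul]⟩)
    · exact (Commute.one_left _).smul_left _ |>.symm
  -- the trace of `f`
  set N : Subgroup G := Subgroup.normalizer ((P : Subgroup G) : Set G) with hN
  set f := z ^ (p - 1) with hf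
  let Φ : G ⧸ N → Module.End F V := fun Q => ρ Q.out * f * ρ Q.out⁻¹
  have hΦ : ∀ g : G, Φ (g : G ⧸ N) = ρ g * f * ρ g⁻¹ := fun g => by
    obtain ⟨t, ht⟩ := QuotientGroup.mk_out_eq_mul N g
    show ρ ((g : G ⧸ N)).out * f * ρ ((g : G ⧸ N)).out⁻¹ = _
    rw [ht, mul_inv_rev, map_mul, map_mul]
    conv_rhs => rw [← hconj t t.2]
    simp only [mul_assoc]
  have hΦsmul : ∀ (g : G) (Q : G ⧸ N), Φ (g • Q) = ρ g * Φ Q * ρ g⁻¹ := fun g Q => by
    obtain ⟨h, rfl⟩ := QuotientGroup.mk_surjective Q
    rw [show g • (h : G ⧸ N) = ((g * h : G) : G ⧸ N) from rfl, hΦ, hΦ, mul_inv_rev, map_mul, map_mul]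
    simp only [mul_assoc]
  have hfree : ∀ (u : (P : Subgroup G)) (Q : G ⧸ N), Q ≠ ((1 : G) : G ⧸ N) → (u : G) • Q = Q → u = 1 := by
    intro u Q hQ hfix
    obtain ⟨g, rfl⟩ := QuotientGroup.mk_surjective Q
    rw [show (u : G) • (g : G ⧸ N) = (((u : G) * g : G) : G ⧸ N) from rfl, QuotientGroup.eq,
      mul_inv_rev] at hfix
    by_contra hu
    set s := g⁻¹ * (u : G)⁻¹ * g with hs
    have hsN : s ∈ N := hfix
    have hZ : IsPGroup p (Subgroup.zpowers s) := by
      obtain ⟨j, hj⟩ := IsPGroup.iff_orderOf.1 P.isPGroup' u⁻¹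
      refine IsPGroup.of_card (n := j) ?_
      rw [Nat.card_zpowers, hs, show g⁻¹ * (u : G)⁻¹ * g = MulAut.conj g⁻¹ ((u⁻¹ : (P : Subgroup G)) : G) by simp,
        MulEquiv.orderOf_eq, Subgroup.orderOf_coe, hj]
    have hsP : s ∈ (P : Subgroup G) :=
      (P.is_maximal' (P.isPGroup'.to_sup_of_normal_left' hZ (Subgroup.zpowers_le.2 hsN))
        le_sup_left).le (Subgroup.mem_sup_right (Subgroup.mem_zpowers _))
    have hgP : g • P ≠ P := fun h => by
      refine hQ (QuotientGroup.eq.2 ?_)
      rw [mul_one]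
      exact inv_mem (Sylow.smul_eq_iff_mem_normalizer.1 h)
    have h1 := hTI (g • P) hgP
    refine hu (Subtype.ext (inv_eq_one.1 ?_))
    rw [← Subgroup.mem_bot, ← h1]
    refine ⟨Subgroup.inv_mem _ u.2, ?_⟩
    show (u : G)⁻¹ ∈ ((g • P : Sylow p G) : Subgroup G)
    rw [Sylow.coe_subgroup_smul, Subgroup.mem_pointwise_smul_iff_inv_smul_mem]
    simpa [hs, MulAut.smul_def, mul_assoc] using hsP
  letI := Fintype.ofFinite (G ⧸ N)
  letI := Fintype.ofFinite (P : Subgroup G)
  set one' : G ⧸ N := ((1 : G) : G ⧸ N) with hone'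
  have hfix1 : ∀ u : (P : Subgroup G), (u : G) • one' = one' := fun u => by
    show (((u : G) * 1 : G) : G ⧸ N) = ((1 : G) : G ⧸ N)
    rw [mul_one, QuotientGroup.eq, mul_one]
    exact inv_mem (Subgroup.le_normalizer u.2)
  let rep : G ⧸ N → G ⧸ N := fun Q =>
    (Quotient.mk (MulAction.orbitRel (P : Subgroup G) (G ⧸ N)) Q).out
  let h : Module.End F V :=
    ∑ Q : G ⧸ N, if Q ≠ one' ∧ rep Q = Q then Φ Q else 0
  have hsplit : ∑ u : (P : Subgroup G), ρ (u : G) * h * ρ (u : G)⁻¹ =
      ∑ Q ∈ Finset.univ.erase one', Φ Q := by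
    have hstep : ∀ u : (P : Subgroup G), ρ (u : G) * h * ρ (u : G)⁻¹ =
        ∑ Q : G ⧸ N, if (u : G)⁻¹ • Q ≠ one' ∧ rep ((u : G)⁻¹ • Q) = (u : G)⁻¹ • Q then Φ Q else 0 := by
      intro u
      simp only [h, Finset.mul_sum, Finset.sum_mul, mul_ite, ite_mul, mul_zero, zero_mul]
      refine Fintype.sum_equiv (MulAction.toPerm (u : G)) _ _ fun Q => ?_
      rw [MulAction.toPerm_apply, inv_smul_smul, hΦsmul]
    simp only [hstep]
    rw [Finset.sum_comm, Finset.sum_erase_eq_sub (Finset.mem_univ one'),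
      ← Finset.add_sum_erase _ _ (Finset.mem_univ one'),
      ← Finset.add_sum_erase (s := Finset.univ) (f := Φ) (a := one') (Finset.mem_univ _),
      add_sub_cancel_left]
    rw [show ∑ u : (P : Subgroup G), (if (u : G)⁻¹ • one' ≠ one' ∧
        rep ((u : G)⁻¹ • one') = (u : G)⁻¹ • one' then Φ one' else 0) = 0 from
      Finset.sum_eq_zero fun u _ => if_neg fun hh => hh.1 (hfix1 u⁻¹), zero_add]
    refine Finset.sum_congr rfl fun Q hQ => ?_
    have hQ1 : Q ≠ one' := (Finset.mem_erase.1 hQ).1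
    obtain ⟨u, hu⟩ := MulAction.mem_orbit_iff.1 (MulAction.orbitRel_apply.1
      (Quotient.mk_out (s := MulAction.orbitRel (P : Subgroup G) (G ⧸ N)) Q))
    have hu' : (u : G) • Q = rep Q := hu
    have hrep : ∀ v : (P : Subgroup G), rep ((v : G) • Q) = rep Q := fun v =>
      congrArg Quotient.out (Quotient.sound (MulAction.orbitRel_apply.2
        (MulAction.mem_orbit Q v)))
    rw [Finset.sum_eq_single u⁻¹]
    · rw [if_pos]
      rw [Subgroup.coe_inv, inv_inv]
      refine ⟨fun hh => hQ1 ?_, by rw [hrep u, hu']⟩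
      have := congrArg (fun Q' => ((u⁻¹ : (P : Subgroup G)) : G) • Q') hh
      have h1 := hfix1 u⁻¹
      rw [Subgroup.coe_inv] at h1
      simpa [h1] using this
    · intro v _ hv
      rw [if_neg]
      rintro ⟨-, hr⟩
      have hr' : rep ((((v⁻¹ : (P : Subgroup G))) : G) • Q) = (v : G)⁻¹ • Q := hr
      rw [hrep, ← hu'] at hr'
      have h1 : ((v * u : (P : Subgroup G)) : G) • Q = Q := by
        rw [Subgroup.coe_mul, mul_smul, hr', smul_inv_smul]
      exact hv (eq_inv_of_mul_eq_one_left (hfree _ Q hQ1 h1))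
    · intro hh; exact absurd (Finset.mem_univ _) hh
  set T : Module.End F V := ∑ Q : G ⧸ N, Φ Q with hT
  have hTeq : T = f + ∑ u : (P : Subgroup G), ρ (u : G) * h * ρ (u : G)⁻¹ := by
    rw [hsplit, hT, ← Finset.add_sum_erase _ _ (Finset.mem_univ one'), hone', hΦ]
    simp
  -- the trace as an iterate
  have hiter : ∀ v : V, ∀ i : ℕ, (y ^ (i + 1)) v = 0 →
      ∃ w', (∑ u : (P : Subgroup G), ρ (u : G) * h * ρ (u : G)⁻¹) v = (y ^ (q - 1 - i)) w' := by
    intro v i hv
    have hsum : ∑ u : (P : Subgroup G), ρ (u : G) * h * ρ (u : G)⁻¹ =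
        ((fun g => (1 + y) * g * X' - g)^[q - 1]) h := by
      set A : Module.End F (Module.End F V) := LinearMap.mulLeftRight F (1 + y, X') with hA
      have hAeq : ∀ g, A g = (1 + y) * g * X' := fun g => by simp [hA]
      have hit' : ∀ k, ((fun g => (1 + y) * g * X' - g)^[k]) h = ((A - 1) ^ k) h := fun k => by
        induction k with
        | zero => rfl
        | succ k ih =>
          rw [Function.iterate_succ_apply', ih, pow_succ', Module.End.mul_apply, LinearMap.sub_apply,
            Module.End.one_apply, hAeq]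
      rw [hit']
      have hgeom := congrArg (Polynomial.aeval A) (sub_one_pow_eq_geom (F := F) (p := p) n)
      simp only [map_pow, map_sub, map_one, map_sum, Polynomial.aeval_X] at hgeom
      rw [hq, hgeom, LinearMap.sum_apply, ← hq, ← hxord]
      have hpowA : ∀ k, (A ^ k) h = ρ ((x : G) ^ k) * h * ρ ((x : G) ^ k)⁻¹ := fun k => by
        induction k with
        | zero => simp
        | succ k ih =>
          rw [pow_succ', Module.End.mul_apply, ih, hAeq, ← hXy, pow_succ' (x : G), mul_inv_rev,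
            map_mul, map_mul, hX₀, hX']
          simp only [mul_assoc]
      simp only [hpowA]
      refine (Finset.sum_bij (fun k _ => x ^ k) (fun k _ => Finset.mem_univ _) ?_ ?_ ?_).symm
      · intro a ha b hb hab
        rw [Finset.mem_range, Subgroup.orderOf_coe] at ha hb
        exact pow_injOn_Iio_orderOf ha hb hab
      · intro u _
        obtain ⟨k, hk⟩ := Submonoid.mem_powers_iff u x |>.1 ((mem_powers_iff_mem_zpowers).2 (hgen u))
        refine ⟨k % orderOf x, ?_, by rw [pow_mod_orderOf, hk]⟩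
        rw [Finset.mem_range, Subgroup.orderOf_coe]
        exact Nat.mod_lt _ (orderOf_pos x)
      · intro k _
        rfl
    rw [hsum]
    exact ad_pow_range hXX' hcy h (q - 1) i v hv
  have hqL : y ^ (q - 1) = 0 := pow_eq_zero_of_le (by omega) hyL
  have hfy : f = y ^ (p - 1) * w ^ (p - 1) := by rw [hf, hzw, hyw.mul_pow]
  -- Schur
  have hcomm : ∀ g : G, T ∘ₗ ρ g = ρ g ∘ₗ T := fun g => by
    have h1 : ρ g * T * ρ g⁻¹ = T := by
      rw [hT, Finset.mul_sum, Finset.sum_mul]
      exact Fintype.sum_equiv (MulAction.toPerm g) _ _ fun Q => (hΦsmul g Q).symm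
    calc T ∘ₗ ρ g = (ρ g * T * ρ g⁻¹) * ρ g := by rw [h1]; rfl
      _ = ρ g * T := by rw [mul_assoc, ← map_mul, inv_mul_cancel, map_one, mul_one]
  have hT0 : T = 0 := by
    haveI := hirr
    let φ : Representation.IntertwiningMap ρ ρ := ⟨T, hcomm⟩
    rcases Representation.IsIrreducible.bijective_or_eq_zero φ with hb | h0
    · exfalso
      have hne : y ^ (L - 1) ≠ 0 := Nat.find_min hnil (by omega)
      obtain ⟨v, hv⟩ : ∃ v, (y ^ (L - 1)) v ≠ 0 := by
        by_contra hall
        push Not at hall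
        exact hne (LinearMap.ext hall)
      refine hv (hb.1 (show φ ((y ^ (L - 1)) v) = φ 0 from ?_))
      show T ((y ^ (L - 1)) v) = T 0
      have hy0 : (y ^ (0 + 1)) ((y ^ (L - 1)) v) = 0 := by
        rw [zero_add, pow_one, ← Module.End.mul_apply, ← pow_succ', show L - 1 + 1 = L by omega, hyL,
          LinearMap.zero_apply]
      obtain ⟨w', hw'⟩ := hiter _ 0 hy0
      have e1 : f * y ^ (L - 1) = 0 := by
        rw [hfy, mul_assoc, ← (hyw.pow_pow (L - 1) (p - 1)).eq, ← mul_assoc, ← pow_add,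
          pow_eq_zero_of_le (show L ≤ p - 1 + (L - 1) by omega) hyL, zero_mul]
      rw [map_zero, hTeq, LinearMap.add_apply, hw', Nat.sub_zero, hqL, LinearMap.zero_apply, add_zero]
      exact LinearMap.congr_fun e1 v
    · exact congrArg Representation.IntertwiningMap.toLinearMap h0
  -- the contradiction
  have hkey : ∀ v, ∃ w', (y ^ (p - 1)) v = (y ^ (q - L)) w' := by
    intro v
    obtain ⟨v', hv'⟩ := ((Module.End.isUnit_iff _).1 (hwunit.pow (p - 1))).2 v
    obtain ⟨w', hw'⟩ := hiter v' (L - 1) (by rw [show L - 1 + 1 = L by omega, hyL, LinearMap.zero_apply])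
    refine ⟨-w', ?_⟩
    rw [map_neg, show q - L = q - 1 - (L - 1) by omega, ← hw', ← hv', ← Module.End.mul_apply, ← hfy,
      eq_neg_iff_add_eq_zero, ← LinearMap.add_apply, ← hTeq, hT0, LinearMap.zero_apply]
  refine Nat.find_min hnil (show L - 1 < L by omega) (LinearMap.ext fun v => ?_)
  obtain ⟨w', hw'⟩ := hkey v
  rw [show L - 1 = (L - p) + (p - 1) by omega, pow_add, Module.End.mul_apply, hw',
    ← Module.End.mul_apply, ← pow_add, pow_eq_zero_of_le (by omega) hyL]
  rfl

end Cfsg.Agent.S4699
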