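import Cfsg.Statements.S4701
import Mathlib
import Cfsg.Agent.Lib.BrauerPSL.Quotient

set_option autoImplicit false
open Cfsg
open scoped commutatorElement
set_option linter.style.haveILetI false

namespace Cfsg.Agent.S4701

/-- Let G be a finite perfect group and p a prime dividing the order of G with p^3 larger than the order of G. Suppose a Sylow p-subgroup of G is not normal and G has no normal subgroup of order 2. Then p > 3 and G is isomorphic to PSL(2, p), or to SL(2, 2^m) with p = 2^m + 1. -/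
theorem result {G : Type*} [Group G] [Finite G] (hperf : commutator G = ⊤) (p : ℕ) [Fact p.Prime] (hdvd : p ∣ Nat.card G) (hbig : Nat.card G < p ^ 3) (P : Sylow p G) (hP : ¬ (P : Subgroup G).Normal) (h2 : ∀ N : Subgroup G, N.Normal → Nat.card N ≠ 2) : (∃ (F : Type) (_ : Field F) (_ : Fintype F), Fintype.card F = p ∧ 3 < p ∧ Nonempty (G ≃* Matrix.ProjectiveSpecialLinearGroup (Fin 2) F)) ∨ (∃ (m : ℕ) (F : Type) (_ : Field F) (_ : Fintype F), Fintype.card F = 2 ^ m ∧ p = 2 ^ m + 1 ∧ 3 < p ∧ Nonempty (G ≃* Matrix.SpecialLinearGroup (Fin 2) F)) := by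
  classical
  haveI := Fintype.ofFinite G
  have hp : p.Prime := Fact.out
  obtain ⟨hPcard, n, hn', hF⟩ := Agent.BrauerPSL.sylow_data_of_small P hperf hdvd hbig hP
  obtain ⟨h3, -, hres⟩ := Agent.BrauerPSL.brauer_quotient P hperf hPcard hn' hF
  have h5 : 5 ≤ p := by
    obtain ⟨i, hi⟩ := hp.odd_of_ne_two (by omega)
    omega
  have hsmall : Nat.card (pPrimeCore p G) ≤ 2 := by
    by_contra hge
    have hq : (3 : ℕ) * Nat.card (G ⧸ pPrimeCore p G) ≤ Nat.card G := by
      rw [Subgroup.card_eq_card_quotient_mul_card_subgroup (pPrimeCore p G),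
        mul_comm (Nat.card (G ⧸ pPrimeCore p G))]
      exact Nat.mul_le_mul_right _ (by omega)
    rcases hres with ⟨F, iF, iFF, -, hc, -⟩ | ⟨m, F, iF, iFF, -, -, hc, -⟩
    · obtain ⟨r, hr⟩ : ∃ r, p ^ 2 = r + 1 :=
        ⟨p ^ 2 - 1, by have := Nat.one_le_pow 2 p hp.pos; omega⟩
      rw [hr, Nat.add_sub_cancel] at hc
      have hp3 : p ^ 3 = p * p ^ 2 := by ring
      have h25 : 25 ≤ p ^ 2 := Nat.pow_le_pow_left h5 2
      rw [hp3, hr] at hbig
      rw [hr] at h25
      nlinarith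
    · obtain ⟨r, hr⟩ : ∃ r, p = r + 2 := ⟨p - 2, by omega⟩
      rw [hc, hr, show r + 2 - 1 = r + 1 by omega, show r + 2 - 2 = r by omega] at hq
      rw [hr] at hbig
      nlinarith [Nat.mul_le_mul_left ((r + 2) * r) (show 3 ≤ r by omega)]
  have hbot : pPrimeCore p G = ⊥ := by
    have h0 : 0 < Nat.card (pPrimeCore p G) := Nat.card_pos
    have h1 := h2 (pPrimeCore p G) inferInstance
    exact Subgroup.card_eq_one.1 (by omega)
  let e : G ⧸ pPrimeCore p G ≃* G :=
    (QuotientGroup.quotientMulEquivOfEq hbot).trans QuotientGroup.quotientBot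
  rcases hres with ⟨F, iF, iFF, hF', -, ⟨e'⟩⟩ | ⟨m, F, iF, iFF, hF', hpm, -, ⟨e'⟩⟩
  · exact Or.inl ⟨F, iF, iFF, hF', h3, ⟨e.symm.trans e'⟩⟩
  · exact Or.inr ⟨m, F, iF, iFF, hF', hpm, h3, ⟨e.symm.trans e'⟩⟩

end Cfsg.Agent.S4701
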