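import Cfsg.Statements.S4706
import Cfsg.Agent.Lib.Exceptional.Ito
import Cfsg.Agent.Lib.Solvable.Basic
import Cfsg.Agent.Lib.Perm.PrimeDegreeSimple
import Cfsg.Agent.S0676
import Cfsg.Agent.S4702
-- import your own Cfsg.Agent.* helpers here

set_option autoImplicit false
open Cfsg

namespace Cfsg.Agent.S4706

open MulAction Agent
open scoped Classical

section

universe u

variable {α : Type u} [Fintype α] [DecidableEq α] {p : ℕ} [hp : Fact p.Prime]
  {G : Subgroup (Equiv.Perm α)} [Fintype G]

theorem pow_three_eq (n : ℕ) :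
    (n : ℤ) ^ 3 = n.descFactorial 3 + 3 * n.descFactorial 2 + n.descFactorial 1 := by
  rcases n with _ | _ | _ | m <;> simp [Nat.descFactorial_succ]
  ring

theorem pow_four_eq (n : ℕ) :
    (n : ℤ) ^ 4 = n.descFactorial 4 + 6 * n.descFactorial 3 + 7 * n.descFactorial 2 +
      n.descFactorial 1 := by
  rcases n with _ | _ | _ | _ | m <;> simp [Nat.descFactorial_succ]
  ring

theorem pow_two_eq (n : ℕ) : (n : ℤ) ^ 2 = n.descFactorial 2 + n.descFactorial 1 := by
  rcases n with _ | _ | m <;> simp [Nat.descFactorial_succ]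
  ring

variable (hα : Fintype.card α = p) (hp5 : 5 ≤ p) (h3 : IsMultiplyPretransitive G α 3)
  (P : Sylow p G) {c : G} (hc : orderOf c = p) (hPc : (P : Subgroup G) = Subgroup.zpowers c)
  (hN : Nat.card (Subgroup.normalizer ((P : Subgroup G) : Set G)) = 2 * p)

include hα hc hPc hN in
/-- The elements of order `p` are fixed-point-free. -/
theorem card_fixedPointFree :
    Nat.card G * (p - 1) ≤
      2 * p * (Finset.univ.filter fun g : G => Nat.card (fixedBy α g) = 0).card := by
  have hQ : ∀ Q : Sylow p G, Nat.card (Q : Subgroup G) = p := fun Q => by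
    rw [Sylow.card_eq_multiplicity Q, ← Sylow.card_eq_multiplicity P, hPc, Nat.card_zpowers, hc]
  have hord : ∀ (Q : Sylow p G) (x : (Q : Subgroup G)), x ≠ 1 →
      Subgroup.zpowers (x : G) = (Q : Subgroup G) ∧ orderOf (x : G) = p := by
    intro Q x hx
    have hd : orderOf (x : G) = p := by
      have := hQ Q ▸ (Q : Subgroup G).orderOf_dvd_natCard x.2
      exact ((Nat.dvd_prime hp.out).1 this).resolve_left fun h =>
        hx (Subtype.ext (orderOf_eq_one_iff.1 h))
    exact ⟨Subgroup.eq_of_le_of_card_ge (Subgroup.zpowers_le.2 x.2)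
      (by rw [hQ, Nat.card_zpowers, hd]), hd⟩
  let φ : (Σ Q : Sylow p G, {x : (Q : Subgroup G) // x ≠ 1}) →
      {g : G // Nat.card (fixedBy α g) = 0} := fun s =>
    ⟨s.2.1.1, Exceptional.card_fixedBy_eq_zero hα (hord s.1 s.2.1 s.2.2).2
      (Subgroup.mem_zpowers _) fun h => s.2.2 (Subtype.ext h)⟩
  have hinj : Function.Injective φ := by
    rintro ⟨Q, x, hx⟩ ⟨Q', x', hx'⟩ h
    have he : (x : G) = (x' : G) := congrArg Subtype.val h
    obtain rfl : Q = Q' := Sylow.ext (by rw [← (hord Q x hx).1, ← (hord Q' x' hx').1, he])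
    obtain rfl : x = x' := Subtype.ext he
    rfl
  have h1 := Nat.card_le_card_of_injective φ hinj
  rw [Nat.card_sigma] at h1
  replace h1 := le_trans (le_of_eq (Finset.sum_congr (s₁ := (Finset.univ : Finset (Sylow p G))) rfl
    (fun (Q : Sylow p G) _ => show p - 1 = Nat.card {x : (Q : Subgroup G) // x ≠ 1} by
      rw [Nat.card_eq_fintype_card, Fintype.card_subtype_compl, Fintype.card_subtype_eq,
        ← Nat.card_eq_fintype_card, hQ]))) h1
  rw [Finset.sum_const, smul_eq_mul, Finset.card_univ,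
    ← Nat.card_eq_fintype_card, Nat.card_eq_fintype_card (α := {g : G // _}),
    Fintype.card_subtype] at h1
  rw [← (Subgroup.normalizer ((P : Subgroup G) : Set G)).index_mul_card, hN,
    show (Subgroup.normalizer ((P : Subgroup G) : Set G)).index = Nat.card (Sylow p G) from
      P.card_eq_index_normalizer.symm, mul_comm (Nat.card _) (2 * p), mul_assoc]
  exact Nat.mul_le_mul_left _ h1

include hα hp5 h3 hc hPc hN in
/-- The moments of the number of fixed points bound the number of orbits on quadruples. -/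
theorem orbits_four :
    p ≤ 2 * Nat.card (Quotient (orbitRel G (Fin 4 ↪ α))) + 1 := by
  set r := Nat.card (Quotient (orbitRel G (Fin 4 ↪ α))) with hr
  set f : G → ℕ := fun g => Nat.card (fixedBy α g) with hf
  have hle : 3 ≤ Nat.card α := by rw [Nat.card_eq_fintype_card, hα]; omega
  have d1 : ∑ g : G, ((f g).descFactorial 1 : ℤ) = Nat.card G := by
    exact_mod_cast Exceptional.sum_descFactorial_of_transitive (G := G) (k := 1) (by omega)
      (isMultiplyPretransitive_of_le (n := 3) (by norm_num) hle)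
  have d2 : ∑ g : G, ((f g).descFactorial 2 : ℤ) = Nat.card G := by
    exact_mod_cast Exceptional.sum_descFactorial_of_transitive (G := G) (k := 2) (by omega)
      (isMultiplyPretransitive_of_le (n := 3) (by norm_num) hle)
  have d3 : ∑ g : G, ((f g).descFactorial 3 : ℤ) = Nat.card G := by
    exact_mod_cast Exceptional.sum_descFactorial_of_transitive (G := G) (k := 3) (by omega) h3
  have d4 : ∑ g : G, ((f g).descFactorial 4 : ℤ) = r * Nat.card G := by
    exact_mod_cast Exceptional.sum_descFactorial (G := G) 4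
  set A : G → ℤ := fun g => (2 * (f g : ℤ) ^ 2 - (p + 5) * f g + 2 * p) ^ 2 with hA
  have hsum : ∑ g : G, A g = (4 * r + 6 - 2 * p + 2 * p * (p - 1)) * Nat.card G := by
    have e : ∀ g : G, A g = 4 * ((f g).descFactorial 4 : ℤ) + (4 - 4 * p) * (f g).descFactorial 3 +
        (28 - 12 * (p + 5) + (p + 5) ^ 2 + 8 * p) * (f g).descFactorial 2 +
        (4 - 4 * (p + 5) + ((p + 5) ^ 2 + 8 * p) - 4 * p * (p + 5)) * (f g).descFactorial 1 +
        4 * p ^ 2 := by
      intro g
      have e4 := pow_four_eq (f g)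
      have e3 := pow_three_eq (f g)
      have e2 := pow_two_eq (f g)
      have e1 : ((f g).descFactorial 1 : ℤ) = f g := by rw [Nat.descFactorial_one]
      simp only [hA]
      linear_combination 4 * e4 - 4 * ((p : ℤ) + 5) * e3 + (((p : ℤ) + 5) ^ 2 + 8 * p) * e2 +
        4 * (p : ℤ) * (p + 5) * e1
    simp only [e, Finset.sum_add_distrib, ← Finset.mul_sum, d1, d2, d3, d4, Finset.sum_const,
      Finset.card_univ, nsmul_eq_mul, ← Nat.card_eq_fintype_card]
    ring
  set PE := Finset.univ.filter (fun g : G => f g = 0) with hPE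
  have h1 : (1 : G) ∉ PE := by
    simp only [hPE, hf, Finset.mem_filter, Finset.mem_univ, true_and,
      Exceptional.card_fixedBy_one hα]
    omega
  have hlow : A 1 + (PE.card : ℤ) * (4 * p ^ 2) ≤ ∑ g : G, A g := by
    refine le_trans (le_of_eq ?_) (Finset.sum_le_univ_sum_of_nonneg (s := insert 1 PE)
      fun g => sq_nonneg _)
    rw [Finset.sum_insert h1, Finset.sum_congr rfl (g := fun _ => (4 * p ^ 2 : ℤ)) fun g hg => ?_,
      Finset.sum_const, nsmul_eq_mul]
    simp only [hPE, Finset.mem_filter, Finset.mem_univ, true_and] at hg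
    simp only [hA, hg, Nat.cast_zero]
    ring
  have hA1 : 0 < A 1 := by
    have h5 : (5 : ℤ) ≤ p := by exact_mod_cast hp5
    have : (0 : ℤ) < (p : ℤ) * p - 3 * p := by nlinarith
    simp only [hA, hf, Exceptional.card_fixedBy_one hα]
    rw [show 2 * (p : ℤ) ^ 2 - (p + 5) * p + 2 * p = p * p - 3 * p by ring]
    positivity
  have hpel : (Nat.card G : ℤ) * (p - 1) ≤ 2 * p * PE.card := by
    have := card_fixedPointFree hα P hc hPc hN
    have h' : ((Nat.card G * (p - 1) : ℕ) : ℤ) ≤ ((2 * p * PE.card : ℕ) : ℤ) := by exact_mod_cast this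
    push_cast [Nat.cast_sub hp.out.one_le] at h'
    exact h'
  have hG : (0 : ℤ) < Nat.card G := by exact_mod_cast Nat.card_pos
  have hpos : (0 : ℤ) < (4 * r + 6 - 2 * p) * Nat.card G := by
    have h2 : 2 * (p : ℤ) * ((p - 1) * Nat.card G) ≤ (PE.card : ℤ) * (4 * p ^ 2) := by
      have : (0 : ℤ) ≤ 2 * p := by positivity
      nlinarith
    nlinarith
  have hr0 : (0 : ℤ) < 4 * r + 6 - 2 * p := pos_of_mul_pos_left hpos hG.le
  have hr1 : (p : ℤ) ≤ 2 * r + 2 := by omega
  rcases hp.out.eq_two_or_odd with h | h <;> omega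

include hα hp5 h3 hc hPc hN in
set_option maxHeartbeats 1000000 in
/-- Only the identity fixes three letters. -/
theorem eq_one_of_three_fixed (g : G) (hg : 3 ≤ Nat.card (fixedBy α g)) : g = 1 := by
  obtain ⟨a, b, c', hab, hac, hbc⟩ := Fintype.two_lt_card_iff.1 (by omega : 2 < Fintype.card α)
  let Bl : α → α → α → Finset α := fun x y z =>
    Finset.univ.filter fun w => ∀ k : G, k • x = x → k • y = y → k • z = z → k • w = w
  have hmem : ∀ {x y z w : α}, w ∈ Bl x y z ↔
      ∀ k : G, k • x = x → k • y = y → k • z = z → k • w = w := by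
    intro x y z w; simp [Bl]
  have hself : ∀ x y z : α, x ∈ Bl x y z ∧ y ∈ Bl x y z ∧ z ∈ Bl x y z := fun x y z =>
    ⟨hmem.2 fun k h _ _ => h, hmem.2 fun k _ h _ => h, hmem.2 fun k _ _ h => h⟩
  have hcard : ∀ x y z : α, x ≠ y → x ≠ z → y ≠ z → (Bl x y z).card = (Bl a b c').card := by
    intro x y z hxy hxz hyz
    obtain ⟨k, hka, hkb, hkc⟩ := Perm.exists_smul_eq_three h3 hab hac hbc hxy hxz hyz
    refine (Finset.card_equiv (MulAction.toPerm k) fun w => ?_).symm
    rw [hmem, hmem, MulAction.toPerm_apply]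
    constructor
    · intro h l hlx hly hlz
      have := h (k⁻¹ * l * k) (by rw [mul_smul, mul_smul, hka, hlx, inv_smul_eq_iff, hka])
        (by rw [mul_smul, mul_smul, hkb, hly, inv_smul_eq_iff, hkb])
        (by rw [mul_smul, mul_smul, hkc, hlz, inv_smul_eq_iff, hkc])
      rwa [mul_smul, mul_smul, inv_smul_eq_iff] at this
    · intro h l hla hlb hlc
      have := h (k * l * k⁻¹)
        (by rw [mul_smul, mul_smul, ← hka, inv_smul_smul, hla])
        (by rw [mul_smul, mul_smul, ← hkb, inv_smul_smul, hlb])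
        (by rw [mul_smul, mul_smul, ← hkc, inv_smul_smul, hlc])
      rwa [mul_smul, mul_smul, inv_smul_smul, smul_left_cancel_iff] at this
  have hBeq : ∀ {x y z x' y' z' : α}, x ≠ y → x ≠ z → y ≠ z → x' ≠ y' → x' ≠ z' → y' ≠ z' →
      x' ∈ Bl x y z → y' ∈ Bl x y z → z' ∈ Bl x y z → Bl x' y' z' = Bl x y z := by
    intro x y z x' y' z' h1 h2 h3' h4 h5 h6 hx hy hz
    refine Finset.eq_of_subset_of_card_le (fun w hw => hmem.2 fun k kx ky kz => ?_) ?_
    · exact (hmem.1 hw) k (hmem.1 hx k kx ky kz) (hmem.1 hy k kx ky kz) (hmem.1 hz k kx ky kz)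
    · rw [hcard x y z h1 h2 h3', hcard x' y' z' h4 h5 h6]
  set Δ := Bl a b c' with hΔ
  -- the stabiliser of three letters has odd order
  let K : Subgroup G := stabilizer G a ⊓ stabilizer G b ⊓ stabilizer G c'
  have hK : ∀ k ∈ K, k • a = a ∧ k • b = b ∧ k • c' = c' := fun k hk => ⟨hk.1.1, hk.1.2, hk.2⟩
  have hodd : ¬ 2 ∣ Nat.card K := by
    intro h2
    haveI := Fact.mk Nat.prime_two
    obtain ⟨⟨v, hv⟩, hv2⟩ := exists_prime_orderOf_dvd_card' 2 h2
    rw [Subgroup.orderOf_mk] at hv2
    have h1 := Exceptional.card_fixedBy_involution hα hp5 h3 hc (hPc ▸ hN) (v := v)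
      (by rw [← pow_two, ← hv2, pow_orderOf_eq_one]) (fun h => by simp [h] at hv2)
    obtain ⟨hva, hvb, -⟩ := hK v hv
    haveI := (Nat.card_eq_one_iff_unique.1 h1).1
    exact hab (congrArg Subtype.val (Subsingleton.elim (⟨a, hva⟩ : fixedBy α v) ⟨b, hvb⟩))
  -- the orbit count
  have hΔmem : ∀ x, x ∈ Δ ↔ ∀ k : K, (k : G) • x = x := by
    intro x
    rw [hΔ, hmem]
    exact ⟨fun h k => h k (hK k k.2).1 (hK k k.2).2.1 (hK k k.2).2.2,
      fun h k ka kb kc => h ⟨k, ⟨ka, kb⟩, kc⟩⟩
  let Ω := Quotient (orbitRel K α)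
  have hstab : ∀ x : α, Nat.card (orbit K x) = 1 ∨ 3 ≤ Nat.card (orbit K x) := by
    intro x
    have hd : Nat.card (orbit K x) ∣ Nat.card K := by
      rw [Nat.card_coe_set_eq, ← index_stabilizer K x]
      exact Subgroup.index_dvd_card _
    have hne : Nat.card (orbit K x) ≠ 2 := fun h => hodd (h ▸ hd)
    haveI : Nonempty (orbit K x) := ⟨⟨x, mem_orbit_self x⟩⟩
    have : 0 < Nat.card (orbit K x) := Nat.card_pos
    omega
  have horbits : 3 * Fintype.card Ω ≤ p + 2 * Δ.card := by
    have hsum : ∑ q : Ω, Nat.card (orbit K q.out) = p := by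
      rw [← hα, ← Nat.card_eq_fintype_card, Nat.card_congr (selfEquivSigmaOrbits K α),
        Nat.card_sigma]
    have hsmall : (Finset.univ.filter fun q : Ω => Nat.card (orbit K q.out) = 1).card ≤ Δ.card := by
      refine Finset.card_le_card_of_injOn (fun q => q.out) (fun q hq => ?_) fun q _ q' _ h => ?_
      · rw [Finset.mem_coe, hΔmem]
        intro k
        simp only [Finset.coe_filter, Finset.mem_univ, true_and, Set.mem_ofPred_eq] at hq
        haveI := (Nat.card_eq_one_iff_unique.1 hq).1
        exact congrArg Subtype.val (Subsingleton.elim (⟨(k : G) • q.out, mem_orbit q.out k⟩ :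
          orbit K q.out) ⟨q.out, mem_orbit_self _⟩)
      · rw [← Quotient.out_eq q, ← Quotient.out_eq q']; exact congrArg _ h
    have hpoint : ∀ q : Ω,
        3 ≤ Nat.card (orbit K q.out) + 2 * (if Nat.card (orbit K q.out) = 1 then 1 else 0) := by
      intro q
      rcases hstab q.out with h | h <;> split_ifs <;> omega
    calc 3 * Fintype.card Ω = ∑ _q : Ω, 3 := by
          rw [Finset.sum_const, smul_eq_mul, Finset.card_univ, mul_comm]
      _ ≤ ∑ q : Ω, (Nat.card (orbit K q.out) +
            2 * (if Nat.card (orbit K q.out) = 1 then 1 else 0)) :=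
          Finset.sum_le_sum fun q _ => hpoint q
      _ ≤ p + 2 * Δ.card := by
          rw [Finset.sum_add_distrib, hsum, ← Finset.mul_sum, Finset.sum_boole, Nat.cast_id]
          omega
  have hfour : Nat.card (Quotient (orbitRel G (Fin 4 ↪ α))) + 3 ≤ Fintype.card Ω := by
    have hrep : ∀ q : Quotient (orbitRel G (Fin 4 ↪ α)), ∃ e : Fin 4 ↪ α,
        Quotient.mk'' e = q ∧ e 0 = a ∧ e 1 = b ∧ e 2 = c' := by
      intro q
      induction q using Quotient.inductionOn' with
      | h e =>
        obtain ⟨k, k0, k1, k2⟩ := Perm.exists_smul_eq_three h3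
          (fun h => absurd (e.injective h) (by decide) : e 0 ≠ e 1)
          (fun h => absurd (e.injective h) (by decide) : e 0 ≠ e 2)
          (fun h => absurd (e.injective h) (by decide) : e 1 ≠ e 2) hab hac hbc
        exact ⟨k • e, Quotient.sound' ⟨k, rfl⟩, k0, k1, k2⟩
    choose e he he0 he1 he2 using hrep
    let ψ : Quotient (orbitRel G (Fin 4 ↪ α)) ⊕ Fin 3 → Ω :=
      Sum.elim (fun q => Quotient.mk'' (e q 3)) (fun i => Quotient.mk'' (![a, b, c'] i))
    have hfix : ∀ (i : Fin 3) (x : α), Quotient.mk'' (![a, b, c'] i) = (Quotient.mk'' x : Ω) →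
        x = ![a, b, c'] i := by
      intro i x h
      obtain ⟨k, hk⟩ := Quotient.exact' h.symm
      obtain ⟨ka, kb, kc⟩ := hK k k.2
      rw [← hk]
      show (k : G) • ![a, b, c'] i = ![a, b, c'] i
      fin_cases i <;> assumption
    have hψ : Function.Injective ψ := by
      rintro (q | i) (q' | i') h
      · obtain ⟨k, hk⟩ := Quotient.exact' h
        refine congrArg Sum.inl ?_
        rw [← he q, ← he q']
        refine Quotient.sound' ⟨(k : G), Function.Embedding.ext fun j => ?_⟩
        obtain ⟨ka, kb, kc⟩ := hK k k.2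
        show (k : G) • e q' j = e q j
        fin_cases j
        · show (k : G) • e q' 0 = e q 0; rw [he0, he0]; exact ka
        · show (k : G) • e q' 1 = e q 1; rw [he1, he1]; exact kb
        · show (k : G) • e q' 2 = e q 2; rw [he2, he2]; exact kc
        · exact hk
      · exfalso
        have := hfix i' _ h.symm
        fin_cases i'
        · exact absurd ((e q).injective (this.trans (he0 q).symm)) (by decide)
        · exact absurd ((e q).injective (this.trans (he1 q).symm)) (by decide)
        · exact absurd ((e q).injective (this.trans (he2 q).symm)) (by decide)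
      · exfalso
        have := hfix i _ h
        fin_cases i
        · exact absurd ((e q').injective (this.trans (he0 q').symm)) (by decide)
        · exact absurd ((e q').injective (this.trans (he1 q').symm)) (by decide)
        · exact absurd ((e q').injective (this.trans (he2 q').symm)) (by decide)
      · have h' : ![a, b, c'] i' = ![a, b, c'] i := hfix i _ h
        have hinj3 : Function.Injective ![a, b, c'] := by
          intro j j'
          fin_cases j <;> fin_cases j' <;> simp [hab, hac, hbc, hab.symm, hac.symm, hbc.symm]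
        rw [hinj3 h']
    have := Nat.card_le_card_of_injective ψ hψ
    rwa [Nat.card_sum, Nat.card_fin, Nat.card_eq_fintype_card (α := Ω)] at this
  have hr := orbits_four hα hp5 h3 P hc hPc hN
  have hbig : p + 15 ≤ 4 * Δ.card := by
    rcases hp.out.eq_two_or_odd with h | h <;> omega
  -- the blocks through two letters
  have hall : Δ = Finset.univ := by
    by_contra hne
    obtain ⟨x, hx⟩ : ∃ x, x ∉ Δ := by
      by_contra! h; exact hne (Finset.eq_univ_of_forall h)
    obtain ⟨haΔ, -, -⟩ := hself a b c'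
    have hxa : a ≠ x := fun h => hx (h ▸ haΔ)
    let R : α → Finset α := fun y => ((Bl a x y).erase a).erase x
    have hRcard : ∀ y ∈ Δ.erase a, (R y).card = Δ.card - 2 := by
      intro y hy
      obtain ⟨hya, hyΔ⟩ := Finset.mem_erase.1 hy
      have hxy : x ≠ y := fun h => hx (h ▸ hyΔ)
      obtain ⟨h1, h2, -⟩ := hself a x y
      simp only [R]
      rw [Finset.card_erase_of_mem (Finset.mem_erase.2 ⟨hxa.symm, h2⟩),
        Finset.card_erase_of_mem h1, hcard a x y hxa hya.symm hxy]
      rfl
    have hdisj : Set.PairwiseDisjoint (↑(Δ.erase a) : Set α) R := by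
      intro y hy y' hy' hne'
      rw [Function.onFun, Finset.disjoint_left]
      intro z hz hz'
      obtain ⟨hya, hyΔ⟩ := Finset.mem_erase.1 (Finset.mem_coe.1 hy)
      obtain ⟨hya', hyΔ'⟩ := Finset.mem_erase.1 (Finset.mem_coe.1 hy')
      have hxy : x ≠ y := fun h => hx (h ▸ hyΔ)
      have hxy' : x ≠ y' := fun h => hx (h ▸ hyΔ')
      simp only [R, Finset.mem_erase] at hz hz'
      obtain ⟨hzx, hza, hzB⟩ := hz
      obtain ⟨-, -, hzB'⟩ := hz'
      obtain ⟨a1, a2, a3⟩ := hself a x y
      obtain ⟨b1, b2, b3⟩ := hself a x y'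
      have e1 : Bl a x z = Bl a x y :=
        hBeq hxa hya.symm hxy hxa hza.symm hzx.symm a1 a2 hzB
      have e2 : Bl a x z = Bl a x y' :=
        hBeq hxa hya'.symm hxy' hxa hza.symm hzx.symm b1 b2 hzB'
      have hy'B : y' ∈ Bl a x y := e1 ▸ (e2 ▸ b3)
      have e3 : Bl a y y' = Bl a x y :=
        hBeq hxa hya.symm hxy hya.symm hya'.symm hne' a1 a3 hy'B
      have e4 : Bl a y y' = Δ := hBeq hab hac hbc hya.symm hya'.symm hne' haΔ hyΔ hyΔ'
      exact hx (e4 ▸ e3.symm ▸ a2)
    have hsub : (Δ.erase a).biUnion R ⊆ (Finset.univ.erase a).erase x := by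
      intro z hz
      obtain ⟨y, -, hz⟩ := Finset.mem_biUnion.1 hz
      simp only [R, Finset.mem_erase] at hz
      exact Finset.mem_erase.2 ⟨hz.1, Finset.mem_erase.2 ⟨hz.2.1, Finset.mem_univ z⟩⟩
    have hle := Finset.card_le_card hsub
    rw [Finset.card_biUnion hdisj, Finset.sum_congr rfl hRcard, Finset.sum_const, smul_eq_mul,
      Finset.card_erase_of_mem haΔ, Finset.card_erase_of_mem (Finset.mem_erase.2
        ⟨hxa.symm, Finset.mem_univ x⟩), Finset.card_erase_of_mem (Finset.mem_univ a),
      Finset.card_univ, hα] at hle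
    obtain ⟨d, hd⟩ : ∃ d, Δ.card = d + 2 := ⟨Δ.card - 2, by omega⟩
    rw [hd] at hle hbig
    simp only [Nat.add_sub_cancel, show d + 2 - 1 = d + 1 by omega] at hle
    have hp2 : p - 1 - 1 + 2 = p := by omega
    have h1 : d * (d + 1) + 2 ≤ 4 * (d + 2) - 15 := by rw [mul_comm]; omega
    rcases Nat.lt_or_ge d 3 with h | h
    · interval_cases d <;> omega
    · have : 4 * d ≤ d * (d + 1) := by
        rw [mul_comm 4 d]; exact Nat.mul_le_mul_left d (by omega)
      omega
  -- three fixed letters
  have hex : 2 < (fixedBy α g).toFinset.card := by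
    rw [Set.toFinset_card, ← Nat.card_eq_fintype_card]; omega
  obtain ⟨x, hx, y, hy, z, hz, hxy, hxz, hyz⟩ := Finset.two_lt_card.1 hex
  rw [Set.mem_toFinset, mem_fixedBy] at hx hy hz
  refine Subtype.ext (Equiv.ext fun w => ?_)
  have hw : w ∈ Bl x y z := by
    rw [Finset.eq_univ_of_card (Bl x y z) (by
      rw [hcard x y z hxy hxz hyz, hall, Finset.card_univ])]
    exact Finset.mem_univ w
  exact hmem.1 hw g hx hy hz

end

/-- Let p > 2 be a prime and G a permutation group on p letters whose Sylow p-subgroup P has normalizer of order 2p. Then either P is normal in G, or p − 1 = 2^a for some a and G is isomorphic to SL(2, 2^a). -/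
theorem result {α : Type*} [Fintype α] [DecidableEq α] {p : ℕ} [Fact p.Prime] (hp : 2 < p) (hα : Fintype.card α = p) (G : Subgroup (Equiv.Perm α)) (P : Sylow p G) (hN : Nat.card (Subgroup.normalizer ((P : Subgroup G) : Set G)) = 2 * p) : (P : Subgroup G).Normal ∨ ∃ (a : ℕ) (F : Type) (_ : Field F) (_ : Fintype F), p = 2 ^ a + 1 ∧ Fintype.card F = 2 ^ a ∧ Nonempty (G ≃* Matrix.SpecialLinearGroup (Fin 2) F) := by
  classical
  have hpp : p.Prime := Fact.out
  haveI : Fintype G := Fintype.ofFinite G
  -- the Sylow subgroup has order p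
  have hP : Nat.card (P : Subgroup G) = p := by
    obtain ⟨k, hk⟩ := P.2.exists_card_eq
    have h1 : p ^ k ∣ 2 * p := by
      rw [← hk, ← hN]; exact Subgroup.card_dvd_of_le Subgroup.le_normalizer
    have hk2 : k < 2 := by
      by_contra h2
      have := (Nat.Coprime.dvd_of_dvd_mul_left
        (Nat.Coprime.pow_left k ((Nat.coprime_primes hpp Nat.prime_two).2 (by omega))) h1)
      have := Nat.le_of_dvd hpp.pos ((pow_dvd_pow p (not_lt.1 h2)).trans this)
      nlinarith
    have hk0 : k ≠ 0 := by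
      rintro rfl
      rw [pow_zero] at hk
      have hbot : (P : Subgroup G) = ⊥ := Subgroup.card_eq_one.1 hk
      haveI : ((P : Subgroup G)).Normal := by rw [hbot]; infer_instance
      rw [Subgroup.normalizer_eq_top (H := (P : Subgroup G)), Subgroup.card_top] at hN
      have := P.pow_dvd_card_of_pow_dvd_card (n := 1) (by rw [pow_one, hN]; exact dvd_mul_left p 2)
      rw [hk, pow_one, Nat.dvd_one] at this
      omega
    rw [hk, show k = 1 by omega, pow_one]
  obtain ⟨c, hcP, hc⟩ : ∃ c : G, c ∈ (P : Subgroup G) ∧ orderOf c = p := by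
    obtain ⟨⟨c, hcP⟩, hc⟩ := exists_prime_orderOf_dvd_card' (G := (P : Subgroup G)) p (by rw [hP])
    exact ⟨c, hcP, by rwa [Subgroup.orderOf_mk] at hc⟩
  have hPc : (P : Subgroup G) = Subgroup.zpowers c :=
    (Subgroup.eq_of_le_of_card_ge (Subgroup.zpowers_le.2 hcP)
      (by rw [hP, Nat.card_zpowers, hc])).symm
  obtain ⟨e, he⟩ := Agent.Exceptional.exists_coords_pow hα hc
  haveI : IsPretransitive G α := ⟨fun x y => by
    obtain ⟨i, rfl⟩ := e.surjective x
    obtain ⟨j, rfl⟩ := e.surjective y
    exact ⟨c ^ (j - i).val, by rw [he, ZMod.natCast_zmod_val, add_sub_cancel]⟩⟩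
  by_cases hsol : Group.IsSolvable G
  · left
    haveI : IsPreprimitive G α := IsPreprimitive.of_prime_card (by
      rw [Nat.card_eq_fintype_card, hα]; exact hpp)
    haveI := hsol
    obtain ⟨A, r, hAn, -, hA0, -, hAc, hr, hAp⟩ :=
      Agent.Solvable.exists_abelian_minimal_normal (G := G) (K := (⊤ : Subgroup G))
        inferInstance (by
          intro h
          have : Nat.card G = 1 := by rw [← Subgroup.card_top, h, Subgroup.card_bot]
          have h1 := orderOf_dvd_natCard c
          rw [hc, this, Nat.dvd_one] at h1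
          omega)
    haveI := hAn
    haveI : IsPretransitive A α := Agent.Perm.normal_isPretransitive A hA0
    have hpA : p ∣ Nat.card A := by
      haveI : Nonempty α := Fintype.card_pos_iff.1 (hα ▸ hpp.pos)
      rw [← hα, ← Nat.card_eq_fintype_card,
        ← index_stabilizer_of_transitive A (Classical.arbitrary α)]
      exact Subgroup.index_dvd_card _
    haveI : Fact r.Prime := ⟨hr⟩
    obtain ⟨j, hj⟩ := IsPGroup.iff_card.1 hAp
    obtain rfl : p = r := (Nat.prime_dvd_prime_iff_eq hpp hr).1 (hpp.dvd_of_dvd_pow (hj ▸ hpA))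
    have hle : A ≤ (P : Subgroup G) := by
      obtain ⟨Q, hQ⟩ := hAp.exists_le_sylow
      obtain ⟨k, hk⟩ := exists_smul_eq G Q P
      intro x hx
      rw [← hk, Sylow.coe_subgroup_smul]
      refine ⟨k⁻¹ * x * k, hQ (by simpa using hAn.conj_mem x hx k⁻¹), ?_⟩
      simp [MulAut.conj_apply, mul_assoc]
    rw [show (P : Subgroup G) = A from (Subgroup.eq_of_le_of_card_ge hle
      (by rw [hP]; exact Nat.le_of_dvd Nat.card_pos hpA)).symm]
    exact hAn
  · right
    have h3 := Agent.S0676.result hα G hsol P (hN ▸ even_two_mul p)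
    have hp5 : 5 ≤ p := Agent.Perm.PrimeDegree.five_le_of_not_isSolvable e hsol
    obtain ⟨a, -, ha, F, iF, iFF, hF, hiso⟩ := Agent.S4702.result (hα ▸ (by omega : 3 ≤ p))
      (hα ▸ hpp.odd_of_ne_two (by omega)) G h3 (eq_one_of_three_fixed hα hp5 h3 P hc hPc hN)
    exact ⟨a, F, iF, iFF, hα ▸ ha, hF, hiso⟩

end Cfsg.Agent.S4706
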