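import Cfsg.Statements.S4708
import Cfsg.Agent.Lib.BlockCount.Criterion
-- import your own Cfsg.Agent.* helpers here

set_option autoImplicit false
open Cfsg

namespace Cfsg.Agent.S4708

/-- Let p be a prime, M a maximal ideal of the algebraic integers containing p, G a finite group and H a normal subgroup. Write λ(X) for the sum of the squares of the degrees of the irreducible characters in the principal p-block of a group X. Then λ(H) ≤ λ(G) ≤ [G : H]·λ(H). -/
theorem result {G : Type*} [Group G] [Finite G] (p : ℕ) [Fact p.Prime] (M : Ideal Cfsg.AlgInt) (hM : Cfsg.IsPModular p M) (H : Subgroup G) [H.Normal] : (∑ᶠ θ ∈ Cfsg.principalBlock M H, Cfsg.charDegree (θ : H → ℂ) ^ 2) ≤ (∑ᶠ χ ∈ Cfsg.principalBlock M G, Cfsg.charDegree (χ : G → ℂ) ^ 2) ∧ (∑ᶠ χ ∈ Cfsg.principalBlock M G, Cfsg.charDegree (χ : G → ℂ) ^ 2) ≤ H.index * ∑ᶠ θ ∈ Cfsg.principalBlock M H, Cfsg.charDegree (θ : H → ℂ) ^ 2 := by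
  classical
  haveI := Fintype.ofFinite G
  haveI := Fintype.ofFinite H
  rw [finsum_mem_eq_toFinset_sum, finsum_mem_eq_toFinset_sum]
  set S := (Cfsg.principalBlock M G).toFinset with hS
  set T := (Cfsg.principalBlock M H).toFinset with hT
  obtain ⟨k, hk, hk', hdeg, hind⟩ := Agent.BlockCount.exists_multiplicity (G := G) H
  -- a character of the principal block has all its constituents in the principal block
  have hsup : ∀ χ ∈ S, ∀ θ, k χ θ ≠ 0 → θ ∈ T := fun χ hχ θ hθ =>
    Set.mem_toFinset.2 (Agent.BlockCount.constituent_mem_principalBlock H hM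
      (Set.mem_toFinset.1 hχ) (by rw [hk]; exact_mod_cast hθ))
  have hdegS : ∀ χ ∈ S, Cfsg.charDegree (χ : G → ℂ) =
      ∑ θ ∈ T, k χ θ * Cfsg.charDegree (θ : H → ℂ) := fun χ hχ =>
    (hdeg χ).trans (Finset.sum_subset (Finset.subset_univ T) fun θ _ hθ => by
      rw [Nat.eq_zero_of_not_pos fun h => hθ (hsup χ hχ θ h.ne'), zero_mul]).symm
  constructor
  · calc ∑ θ ∈ T, Cfsg.charDegree (θ : H → ℂ) ^ 2
        ≤ ∑ θ ∈ T, ∑ χ ∈ S, k χ θ * Cfsg.charDegree (θ : H → ℂ) ^ 2 := by
          refine Finset.sum_le_sum fun θ hθ => ?_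
          obtain ⟨χ, hχ, hne⟩ :=
            Agent.BlockCount.exists_principalBlock_over H hM (Set.mem_toFinset.1 hθ)
          rw [hk'] at hne
          refine le_trans ?_ (Finset.single_le_sum
            (f := fun χ => k χ θ * Cfsg.charDegree (θ : H → ℂ) ^ 2) (fun _ _ => Nat.zero_le _)
            (Set.mem_toFinset.2 hχ))
          exact Nat.le_mul_of_pos_left _ (Nat.pos_of_ne_zero fun h => hne (by simp [h]))
      _ = ∑ χ ∈ S, ∑ θ ∈ T, k χ θ * Cfsg.charDegree (θ : H → ℂ) ^ 2 := Finset.sum_comm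
      _ ≤ ∑ χ ∈ S, Cfsg.charDegree (χ : G → ℂ) ^ 2 := by
          refine Finset.sum_le_sum fun χ hχ => ?_
          rw [sq (Cfsg.charDegree (χ : G → ℂ))]
          conv_rhs => rw [hdegS χ hχ, Finset.sum_mul]
          refine Finset.sum_le_sum fun θ hθ => ?_
          rw [← hdegS χ hχ, sq, ← mul_assoc]
          rcases Nat.eq_zero_or_pos (k χ θ) with h | h
          · simp [h]
          · refine Nat.mul_le_mul_left _ ?_
            rw [hdegS χ hχ]
            exact (Nat.le_mul_of_pos_left _ h).trans (Finset.single_le_sum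
              (f := fun θ : Cfsg.IrrCharacter H => k χ θ * Cfsg.charDegree (θ : H → ℂ))
              (fun _ _ => Nat.zero_le _) hθ)
  · calc ∑ χ ∈ S, Cfsg.charDegree (χ : G → ℂ) ^ 2
        = ∑ χ ∈ S, ∑ θ ∈ T,
            Cfsg.charDegree (θ : H → ℂ) * (k χ θ * Cfsg.charDegree (χ : G → ℂ)) := by
          refine Finset.sum_congr rfl fun χ hχ => ?_
          conv_lhs => rw [sq]; arg 2; rw [hdegS χ hχ]
          rw [Finset.mul_sum]
          exact Finset.sum_congr rfl fun θ _ => by ring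
      _ = ∑ θ ∈ T, ∑ χ ∈ S,
            Cfsg.charDegree (θ : H → ℂ) * (k χ θ * Cfsg.charDegree (χ : G → ℂ)) := Finset.sum_comm
      _ ≤ ∑ θ ∈ T, H.index * Cfsg.charDegree (θ : H → ℂ) ^ 2 := by
          refine Finset.sum_le_sum fun θ _ => ?_
          rw [← Finset.mul_sum, sq, ← mul_assoc, mul_comm (H.index), mul_assoc, hind θ]
          exact Nat.mul_le_mul_left _ (Finset.sum_le_univ_sum_of_nonneg fun _ => Nat.zero_le _)
      _ = _ := (Finset.mul_sum _ _ _).symm

end Cfsg.Agent.S4708
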