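import Cfsg.Statements.S4709
import Cfsg.Agent.Lib.DefectOne.Shape


set_option autoImplicit false
set_option linter.style.haveILetI false
open Cfsg

namespace Cfsg.Agent.S4709

noncomputable def toIrr {H : Type*} [Group H] (ψ : H →* ℂˣ) : IrrCharacter H :=
  Cfsg.Agent.Char.linIrr ((Units.coeHom ℂ).comp ψ)

theorem toIrr_apply {H : Type*} [Group H] (ψ : H →* ℂˣ) (h : H) :
    (toIrr ψ).1 h = (ψ h : ℂ) := rfl

theorem toIrr_injective {H : Type*} [Group H] : Function.Injective (toIrr (H := H)) :=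
  fun a b hab => MonoidHom.ext fun h => Units.ext (congrFun (congrArg Subtype.val hab) h)

theorem toIrr_surjective {H : Type*} [Group H] [Finite H] (hlin : ∀ l : IrrCharacter H, l.1 1 = 1)
    (l : IrrCharacter H) : ∃ ψ : H →* ℂˣ, toIrr ψ = l := by
  obtain ⟨lam, hlam⟩ := Cfsg.Agent.Char.IsCharacter.exists_monoidHom
    (Cfsg.Agent.Char.irr_isCharacter l) (hlin l)
  exact ⟨lam.toHomUnits, Subtype.ext (funext fun h => congrFun hlam h)⟩

theorem toIrr_eq_trivial {H : Type*} [Group H] {ψ : H →* ℂˣ} :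
    toIrr ψ = Cfsg.Agent.Char.trivialChar H ↔ ψ = 1 := by
  constructor
  · intro h
    exact MonoidHom.ext fun x => Units.ext (congrFun (congrArg Subtype.val h) x)
  · rintro rfl
    rfl

/-- Let p be a prime, M a maximal ideal of the algebraic integers containing p, and G a finite group with a nontrivial abelian Sylow p-subgroup P; put N = N_G(P), C = C_G(P). Suppose N/C is cyclic of order m with 1 < m < #P − 1 (C has index m in N and N is generated by C and one element), and C_G(y) ∩ N = C for every non-identity y ∈ P. Put r = (#P − 1)/m. Then there is s ≤ m such that the principal p-block is the disjoint union of a set X of s characters containing the principal character and a set Y of r characters, with integers a_χ ≠ 0 (χ ∈ X), d and a sign δ = ±1, such that: every χ ∈ X takes the value a_χ at every element whose p-part is a non-identity element of P; there is a map ζ from the non-principal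 linear characters ψ of P onto Y, constant on N-conjugacy classes, with ζ_ψ(z) = d + δ·Σ ψ'(y) for every z whose p-part y is a non-identity element of P, the sum running over the N-conjugates ψ' of ψ; (d − δ)^2 + (r − 1) d^2 + Σ_{χ ∈ X} a_χ^2 = m + 1; all members of Y agree on p-regular elements; and (r d − δ) η(g) + Σ_{χ ∈ X} a_χ χ(g) = 0 for every η ∈ Y and every p-regular g. -/
theorem result {G : Type*} [Group G] [Finite G] (p : ℕ) [Fact p.Prime] (M : Ideal Cfsg.AlgInt) (hM : Cfsg.IsPModular p M) (P : Sylow p G) (hab : IsMulCommutative P) (hP1 : Nat.card P ≠ 1) (m : ℕ) (hm1 : 1 < m) (hm2 : m + 1 < Nat.card P) (hCN : (Subgroup.centralizer ((P : Subgroup G) : Set G)).relIndex (Subgroup.normalizer ((P : Subgroup G) : Set G)) = m) (hcyc : ∃ g : G, g ∈ Subgroup.normalizer ((P : Subgroup G) : Set G) ∧ Subgroup.centralizer ((P : Subgroup G) : Set G) ⊔ Subgroup.zpowers g = Subgroup.normalizer ((P : Subgroup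 G) : Set G)) (hfrob : ∀ y : G, y ∈ (P : Subgroup G) → y ≠ 1 → Subgroup.centralizer ({y} : Set G) ⊓ Subgroup.normalizer ((P : Subgroup G) : Set G) = Subgroup.centralizer ((P : Subgroup G) : Set G)) : ∃ (s : ℕ) (X Y : Set (Cfsg.IrrCharacter G)), s ≤ m ∧ Cfsg.principalBlock M G = X ∪ Y ∧ Disjoint X Y ∧ Nat.card X = s ∧ Nat.card Y = (Nat.card P - 1) / m ∧ (∃ χ₁ ∈ X, (χ₁ : G → ℂ) = fun _ => 1) ∧ ∃ (a : Cfsg.IrrCharacter G → ℤ) (d δ : ℤ) (ζ : (↥(P : Subgroup G) →* ℂˣ) → Cfsg.IrrCharacter G), (δ = 1 ∨ δ = -1) ∧ (∀ χ ∈ X, a χ ≠ 0 ∧ ∀ z y : G, Cfsg.IsPPart p z y → y ∈ (P : Subgroup G) → y ≠ 1 → (χ : G → ℂ) z = (a χ : ℂ)) ∧ (∀ ψ : ↥(P : Subgroup G) →* ℂˣ, ψ ≠ 1 → ζ ψ ∈ Y) ∧ (∀ η ∈ Y, ∃ ψ : ↥(P : Subgroup G) →* ℂˣ, ψ ≠ 1 ∧ ζ ψ = η) ∧ (∀ ψ ψ' : ↥(P : Subgroup G) →* ℂˣ, ψ ≠ 1 → (∃ n : G, n ∈ Subgroup.normalizer ((P : Subgroup G) : Set G) ∧ ∀ w w' : ↥(P : Subgroup G), (w' : G) = n * w * n⁻¹ → ψ' w' = ψ w) → ζ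 ψ' = ζ ψ) ∧ (∀ ψ : ↥(P : Subgroup G) →* ℂˣ, ψ ≠ 1 → ∀ (z : G) (y : ↥(P : Subgroup G)), Cfsg.IsPPart p z (y : G) → (y : G) ≠ 1 → (ζ ψ : G → ℂ) z = (d : ℂ) + (δ : ℂ) * ∑ᶠ ψ' ∈ {ψ' : ↥(P : Subgroup G) →* ℂˣ | ∃ n : G, n ∈ Subgroup.normalizer ((P : Subgroup G) : Set G) ∧ ∀ w w' : ↥(P : Subgroup G), (w' : G) = n * w * n⁻¹ → ψ' w' = ψ w}, ((ψ' y : ℂˣ) : ℂ)) ∧ ((d - δ) ^ 2 + ((Nat.card P - 1) / m - 1 : ℤ) * d ^ 2 + ∑ᶠ χ ∈ X, a χ ^ 2 = (m : ℤ) + 1) ∧ (∀ η ∈ Y, ∀ η' ∈ Y, ∀ g : G, ¬ p ∣ orderOf g → (η : G → ℂ) g = (η' : G → ℂ) g) ∧ (∀ η ∈ Y, ∀ g : G, ¬ p ∣ orderOf g → ((((Nat.card P - 1) / m : ℕ) : ℂ) * d - δ) * (η : G → ℂ) g + ∑ᶠ χ ∈ X, (a χ : ℂ) * (χ : G → ℂ) g = 0) := by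
  classical
  haveI := Fintype.ofFinite G
  obtain ⟨-, hmax, hpM⟩ := hM
  haveI := hmax
  have hd : Cfsg.Agent.DefectOne.FreeData P := ⟨hab, hfrob⟩
  obtain ⟨S⟩ := hd.shape hpM hCN hm2
  set B := (Cfsg.principalBlock M G).toFinset with hB
  set r := (B \ S.X).card with hr
  have hrdiv : (Nat.card P - 1) / m = r := by
    have := S.card_mul
    rw [← hB, ← hr] at this
    rw [← this, Nat.add_sub_cancel, Nat.mul_div_cancel _ (by omega)]
  have hsum : ∀ (F : IrrCharacter G → ℂ), (∑ᶠ χ ∈ (S.X : Set (IrrCharacter G)), F χ) = ∑ χ ∈ S.X, F χ :=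
    fun F => finsum_mem_coe_finset _ _
  refine ⟨S.X.card, (S.X : Set (IrrCharacter G)), ((B \ S.X : Finset _) : Set (IrrCharacter G)),
    ?_, ?_, ?_, Nat.card_coe_set_eq _ |>.trans (Set.ncard_coe_finset _),
    by rw [Nat.card_coe_set_eq, Set.ncard_coe_finset, hrdiv],
    ⟨Cfsg.Agent.Char.trivialChar G, S.trivial_mem, rfl⟩, S.a, S.d, S.δ,
    fun ψ => S.f (toIrr ψ), S.hδ, ?_, ?_, ?_, ?_, ?_, ?_, ?_, ?_⟩
  · have h1 : (S.X.card : ℤ) ≤ ∑ χ ∈ S.X, S.a χ ^ 2 := by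
      rw [Finset.card_eq_sum_ones, Nat.cast_sum]
      refine Finset.sum_le_sum fun χ hχ => ?_
      have := (S.X_val χ hχ).1
      rw [Nat.cast_one]
      exact Int.add_one_le_iff.2 (lt_of_le_of_ne (sq_nonneg _) (Ne.symm (pow_ne_zero 2 this)))
    have h2 := S.norm_eq
    have h3 : 1 ≤ (S.d - S.δ) ^ 2 + ((((B \ S.X).card : ℕ) : ℤ) - 1) * S.d ^ 2 := by
      have hr2 : (2 : ℤ) ≤ r := by
        have := S.card_mul
        rw [← hB, ← hr] at this
        rcases Nat.lt_or_ge r 2 with hlt | hge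
        · have : r * m ≤ 1 * m := Nat.mul_le_mul_right m (by omega)
          omega
        · exact_mod_cast hge
      rw [← hr]
      by_cases h0 : S.d = 0
      · rcases S.hδ with h | h <;> rw [h0, h] <;> norm_num
      · have : 1 ≤ S.d ^ 2 :=
          Int.add_one_le_iff.2 (lt_of_le_of_ne (sq_nonneg _) (Ne.symm (pow_ne_zero 2 h0)))
        nlinarith [sq_nonneg (S.d - S.δ)]
    rw [← hB] at h2
    omega
  · rw [← Finset.coe_union, Finset.union_sdiff_of_subset fun χ hχ => Set.mem_toFinset.2 (S.X_sub χ hχ),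
      Set.coe_toFinset]
  · rw [Finset.disjoint_coe]; exact Finset.disjoint_sdiff
  · intro χ hχ
    refine ⟨(S.X_val χ hχ).1, fun z y hz hy hy1 => ?_⟩
    rw [hd.apply_section hpM (S.X_sub χ hχ) hz hy hy1]
    exact (S.X_val χ hχ).2 ⟨y, hy⟩ fun h => hy1 (congrArg Subtype.val h)
  · intro ψ hψ
    obtain ⟨h1, h2⟩ := S.f_mem _ fun h => hψ (toIrr_eq_trivial.1 h)
    exact Finset.mem_sdiff.2 ⟨Set.mem_toFinset.2 h1, h2⟩
  · intro η hη
    obtain ⟨hηB, hηX⟩ := Finset.mem_sdiff.1 hη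
    obtain ⟨l, hl, rfl⟩ := S.f_surj η (Set.mem_toFinset.1 hηB) hηX
    obtain ⟨ψ, rfl⟩ := toIrr_surjective hd.linear l
    exact ⟨ψ, fun h => hl (toIrr_eq_trivial.2 h), rfl⟩
  · intro ψ ψ' hψ hconj
    obtain ⟨n, hn, h⟩ := hconj
    have hψ' : ψ' ≠ 1 := by
      rintro rfl
      refine hψ (MonoidHom.ext fun w => ?_)
      exact (h w ⟨n * w * n⁻¹, (Subgroup.mem_normalizer_iff.1 hn _).1 w.2⟩ rfl).symm
    refine ((S.f_eq _ _ (fun e => hψ' (toIrr_eq_trivial.1 e)) fun e => hψ (toIrr_eq_trivial.1 e)).2 ?_)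
    exact Cfsg.Agent.DefectOne.nConj_equivalence.symm
      ⟨n, hn, fun w w' hw => congrArg Units.val (h w w' hw)⟩
  · intro ψ hψ z y hz hy1
    have hl : toIrr ψ ≠ Cfsg.Agent.Char.trivialChar _ := fun h => hψ (toIrr_eq_trivial.1 h)
    rw [hd.apply_section hpM (S.f_mem _ hl).1 hz y.2 hy1,
      S.f_val _ hl y fun h => hy1 (congrArg Subtype.val h)]
    congr 2
    haveI : Fintype (↥(P : Subgroup G) →* ℂˣ) := Fintype.ofInjective _ (toIrr_injective)
    rw [finsum_mem_eq_sum_of_inter_support_eq _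
      (t := Finset.univ.filter fun ψ' : ↥(P : Subgroup G) →* ℂˣ => ∃ n : G,
        n ∈ Subgroup.normalizer ((P : Subgroup G) : Set G) ∧
          ∀ w w' : ↥(P : Subgroup G), (w' : G) = n * w * n⁻¹ → ψ' w' = ψ w) (by ext; simp)]
    refine (Finset.sum_bij (fun ψ' _ => toIrr ψ') (fun ψ' h => ?_)
      (fun a _ b _ hab => toIrr_injective hab) (fun μ hμ => ?_) fun ψ' _ => rfl).symm
    · obtain ⟨n, hn, h⟩ := (Finset.mem_filter.1 h).2
      refine Finset.mem_filter.2 ⟨Finset.mem_univ _, Cfsg.Agent.DefectOne.nConj_equivalence.symm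
        ⟨n, hn, fun w w' hw => congrArg Units.val (h w w' hw)⟩⟩
    · obtain ⟨ψ', rfl⟩ := toIrr_surjective hd.linear μ
      obtain ⟨n, hn, h⟩ := Cfsg.Agent.DefectOne.nConj_equivalence.symm (Finset.mem_filter.1 hμ).2
      exact ⟨ψ', Finset.mem_filter.2 ⟨Finset.mem_univ _, n, hn, fun w w' hw => Units.ext (h w w' hw)⟩,
        rfl⟩
  · rw [finsum_mem_coe_finset]
    have h2 := S.norm_eq
    rw [← hB] at h2
    have h3 : ((Nat.card P : ℤ) - 1) / (m : ℤ) = (r : ℤ) := by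
      rw [← hrdiv, Int.natCast_div, Nat.cast_sub Nat.card_pos, Nat.cast_one]
    rw [h3]
    exact h2
  · intro η hη η' hη' g hg
    obtain ⟨h1, h2⟩ := Finset.mem_sdiff.1 hη
    obtain ⟨h3, h4⟩ := Finset.mem_sdiff.1 hη'
    exact S.agree η (Set.mem_toFinset.1 h1) h2 η' (Set.mem_toFinset.1 h3) h4 g hg
  · intro η hη g hg
    obtain ⟨h1, h2⟩ := Finset.mem_sdiff.1 hη
    rw [finsum_mem_coe_finset, hrdiv]
    exact S.relation η (Set.mem_toFinset.1 h1) h2 g hg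

end Cfsg.Agent.S4709
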