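import Cfsg.Statements.S4710
import Cfsg.Agent.Lib.Char.HeightZero
-- import your own Cfsg.Agent.* helpers here

set_option autoImplicit false
open Cfsg

namespace Cfsg.Agent.S4710

open Agent
open scoped Classical ComplexConjugate

universe u

variable {G : Type u} [Group G] [Fintype G] {p : ℕ} {M : Ideal AlgInt}

theorem sum_sq_regInner (hp : p.Prime) (χ : IrrCharacter G) (N : IrrCharacter G → ℤ)
    (hN : ∀ ξ, Char.regInner p χ.1 ξ.1 = N ξ) :
    (∑ ξ : IrrCharacter G, N ξ ^ 2) = (p : ℤ) ^ (Nat.card G).factorization p * N χ := by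
  set a := (Nat.card G).factorization p
  set f := ((p ^ a : ℕ) : ℂ) • Char.regFun p χ.1 with hf
  have hfc : IsClassFunction G f :=
    Char.isClassFunction_of_mul_left (Char.isClassFunction_regFun p
      (Char.IsCharacter.isClassFunction (Char.irr_isCharacter χ))) _
  have hNf : ∀ ξ : IrrCharacter G, classInner f ξ.1 = N ξ := fun ξ => hN ξ
  have h1 : classInner f f = ((p ^ a : ℕ) : ℂ) * classInner f χ.1 := by
    simp only [classInner, Finset.mul_sum]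
    refine Finset.sum_congr rfl fun g _ => ?_
    simp only [hf, Pi.smul_apply, smul_eq_mul, Char.regFun]
    split_ifs
    · simp
    · simp only [map_mul, map_natCast]; ring
  have h2 : ∀ ξ : IrrCharacter G, classInner ξ.1 f = N ξ := fun ξ => by
    have : classInner ξ.1 f = conj (classInner f ξ.1) := by
      simp only [classInner, map_mul, map_inv₀, map_natCast, map_sum, Complex.conj_conj]
      exact congrArg _ (Finset.sum_congr rfl fun g _ => mul_comm _ _)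
    rw [this, hNf, map_intCast]
  rw [Char.classInner_eq_sum hfc, hNf] at h1
  simp only [hNf, h2] at h1
  have h3 : ((∑ ξ : IrrCharacter G, N ξ ^ 2 : ℤ) : ℂ) = (((p : ℤ) ^ a * N χ : ℤ) : ℂ) := by
    push_cast at h1 ⊢
    simpa [sq] using h1
  exact_mod_cast h3

/-- The matrix `p ^ d [χ°, ξ]` of a block. -/
theorem exists_matrix [M.IsMaximal] (hpM : (p : AlgInt) ∈ M) (hp : p.Prime)
    {B : Set (IrrCharacter G)} (hB : IsPBlock M B) :
    ∃ A : IrrCharacter G → IrrCharacter G → ℤ,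
      (∀ χ ∈ B, ∀ s : Finset (IrrCharacter G), (∀ ξ ∈ s, ξ ∈ B ∧ ξ ≠ χ) →
        A χ χ ^ 2 + ∑ ξ ∈ s, A χ ξ ^ 2 ≤ (p : ℤ) ^ blockDefect p B * A χ χ) ∧
      (∀ χ ∈ B, ∀ ξ ∈ B, A χ ξ = A ξ χ) ∧
      (∀ χ ∈ B, ∀ ξ ∈ B, blockHeight p B ξ.1 = 0 →
        ((p : ℤ) ^ blockHeight p B χ.1) ^ 2 ≤ A χ ξ ^ 2) ∧
      (∀ χ ∈ B, blockHeight p B χ.1 ≠ 0 → (p : ℤ) ^ (blockHeight p B χ.1 + 1) ∣ A χ χ) := by
  haveI := Fact.mk hp
  obtain ⟨χ₀, hχ₀, h0⟩ := Blocks.exists_height_zero hpM hB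
  set a := (Nat.card G).factorization p with ha
  set b := sInf ((fun χ : IrrCharacter G => (charDegree χ.1).factorization p) '' B) with hb
  have hba : b ≤ a := by
    rw [hb, ← Char.factorization_degree_of_height_zero hχ₀ h0, ha]
    exact (Nat.factorization_le_iff_dvd (Char.degree_pos χ₀).ne' Nat.card_pos.ne').2
      (Char.degree_dvd_natCard χ₀) p
  have hdeg : ∀ χ ∈ B, (Char.degree χ).factorization p = b + blockHeight p B χ.1 := fun χ hχ => by
    have := Char.sInf_le_factorization_degree (p := p) hχ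
    rw [blockHeight, Blocks.charDegree_eq, ← hb]
    omega
  choose N hN using fun χ ξ => Char.exists_int_regInner (p := p) hp χ (ξ : IrrCharacter G)
  have hNsymm : ∀ χ ξ, N χ ξ = N ξ χ := fun χ ξ => by
    have := Char.regInner_comm (p := p) hp χ ξ
    rw [hN, hN] at this
    exact_mod_cast this
  have hdvd : ∀ χ ξ, ξ ∈ B → (p : ℤ) ^ b ∣ N χ ξ := fun χ ξ hξ =>
    (pow_dvd_pow _ (Char.sInf_le_factorization_degree hξ)).trans
      (Char.memLocalRing_n_div hpM hp (hN χ ξ))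
  have hpb : (0 : ℤ) < (p : ℤ) ^ b := pow_pos (by exact_mod_cast hp.pos) _
  refine ⟨fun χ ξ => N χ ξ / (p : ℤ) ^ b, ?_, fun χ _ ξ _ => by simp only [hNsymm χ ξ], ?_, ?_⟩
  · intro χ hχ s hs
    have h1 : ∀ ξ ∈ B, N χ ξ ^ 2 = ((p : ℤ) ^ b) ^ 2 * (N χ ξ / (p : ℤ) ^ b) ^ 2 := fun ξ hξ => by
      rw [← mul_pow, Int.mul_ediv_cancel' (hdvd χ ξ hξ)]
    have h2 := sum_sq_regInner hp χ (N χ) (hN χ)
    have h3 : N χ χ ^ 2 + ∑ ξ ∈ s, N χ ξ ^ 2 ≤ ∑ ξ : IrrCharacter G, N χ ξ ^ 2 := by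
      have := Finset.sum_le_univ_sum_of_nonneg (s := insert χ s) (f := fun ξ => N χ ξ ^ 2)
        fun ξ => sq_nonneg _
      rwa [Finset.sum_insert fun h => (hs χ h).2 rfl] at this
    rw [h2, h1 χ hχ, Finset.sum_congr rfl fun ξ hξ => h1 ξ (hs ξ hξ).1, ← Finset.mul_sum,
      ← mul_add] at h3
    refine le_of_mul_le_mul_left (h3.trans (le_of_eq ?_)) (pow_pos hpb 2)
    rw [show blockDefect p B = a - b from rfl]
    conv_lhs => rw [← Int.mul_ediv_cancel' (hdvd χ χ hχ), ← ha, ← Nat.sub_add_cancel hba]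
    ring
  · intro χ hχ ξ hξ hξ0
    have h1 := (Char.blockHeight_eq_zero_iff_regInner hpM hp hB hξ hχ (hN ξ χ)).1 hξ0
    have h2 := Char.memLocalRing_n_div hpM hp (hN ξ χ)
    rw [hdeg χ hχ, pow_add] at h2
    rw [← hNsymm χ ξ] at h1 h2
    show ((p : ℤ) ^ blockHeight p B χ.1) ^ 2 ≤ (N χ ξ / (p : ℤ) ^ b) ^ 2
    obtain ⟨u, hu⟩ := h2
    rw [hu, mul_assoc, Int.mul_ediv_cancel_left _ hpb.ne']
    have hu0 : u ≠ 0 := fun h => h1 (by rw [hu, h, mul_zero]; exact dvd_zero _)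
    rw [mul_pow]
    refine le_mul_of_one_le_right (sq_nonneg _) ?_
    exact Int.add_one_le_iff.2 (lt_of_le_of_ne (sq_nonneg u) (pow_ne_zero 2 hu0).symm)
  · intro χ hχ hh
    have h1 := not_not.1 ((not_congr
      (Char.blockHeight_eq_zero_iff_regInner hpM hp hB hχ hχ (hN χ χ))).1 hh)
    rw [hdeg χ hχ, add_assoc, pow_add] at h1
    obtain ⟨u, hu⟩ := h1
    refine ⟨u, ?_⟩
    show N χ χ / (p : ℤ) ^ b = _
    rw [hu, mul_assoc, Int.mul_ediv_cancel_left _ hpb.ne']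


/-- Let p be a prime, M a maximal ideal of the algebraic integers containing p, and B a p-block of defect d of the finite group G containing k irreducible characters. If B contains a character of positive height then 2k ≤ p^(2d − 2); and every character in B has height 0 when d ≤ 1 and height at most d − 2 when d ≥ 2. -/
theorem result {G : Type*} [Group G] [Finite G] (p : ℕ) [Fact p.Prime] (M : Ideal Cfsg.AlgInt) (hM : Cfsg.IsPModular p M) (B : Set (Cfsg.IrrCharacter G)) (hB : Cfsg.IsPBlock M B) (d : ℕ) (hd : Cfsg.blockDefect p B = d) : ((∃ χ ∈ B, 0 < Cfsg.blockHeight p B (χ : G → ℂ)) → 2 * Nat.card B ≤ p ^ (2 * d - 2)) ∧ ∀ χ ∈ B, (d ≤ 1 → Cfsg.blockHeight p B (χ : G → ℂ) = 0) ∧ (2 ≤ d → Cfsg.blockHeight p B (χ : G → ℂ) ≤ d - 2) := by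
  classical
  haveI := Fintype.ofFinite G
  obtain ⟨hp, hmax, hpM⟩ := hM
  haveI := hmax
  subst hd
  obtain ⟨A, hrow, hsymm, hzero, hdiag⟩ := exists_matrix hpM hp hB
  set d := Cfsg.blockDefect p B with hd
  obtain ⟨χ₀, hχ₀, h0⟩ := Agent.Blocks.exists_height_zero (p := p) hpM hB
  have hp0 : (0 : ℤ) < p := by exact_mod_cast hp.pos
  have main : ∀ χ ∈ B, Cfsg.blockHeight p B (χ : G → ℂ) ≠ 0 →
      Cfsg.blockHeight p B (χ : G → ℂ) + 2 ≤ d := by
    intro χ hχ hh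
    have hne : χ₀ ≠ χ := fun h => hh (h ▸ h0)
    have h1 := hrow χ hχ {χ₀} (by simp [hχ₀, hne])
    rw [Finset.sum_singleton] at h1
    have h2 := hzero χ hχ χ₀ hχ₀ h0
    have h3 : (0 : ℤ) < ((p : ℤ) ^ Cfsg.blockHeight p B (χ : G → ℂ)) ^ 2 :=
      pow_pos (pow_pos hp0 _) _
    have hpos : 0 < A χ χ := by
      have : 0 < (p : ℤ) ^ d * A χ χ := by nlinarith [sq_nonneg (A χ χ)]
      exact (mul_pos_iff_of_pos_left (pow_pos hp0 _)).1 this
    have hlt : A χ χ < (p : ℤ) ^ d := by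
      by_contra hge
      nlinarith [mul_le_mul_of_nonneg_right (not_lt.1 hge) hpos.le]
    have h4 := lt_of_le_of_lt (Int.le_of_dvd hpos (hdiag χ hχ hh)) hlt
    have h5 : p ^ (Cfsg.blockHeight p B (χ : G → ℂ) + 1) < p ^ d := by exact_mod_cast h4
    have := (Nat.pow_lt_pow_iff_right hp.one_lt).1 h5
    omega
  refine ⟨?_, fun χ hχ => ⟨fun hd1 => ?_, fun hd2 => ?_⟩⟩
  · rintro ⟨χ, hχ, hh⟩
    have hd3 := main χ hχ hh.ne'
    set S := Finset.univ.filter fun ξ : Cfsg.IrrCharacter G =>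
      ξ ∈ B ∧ Cfsg.blockHeight p B (ξ : G → ℂ) = 0 with hS
    set T := Finset.univ.filter fun ξ : Cfsg.IrrCharacter G =>
      ξ ∈ B ∧ Cfsg.blockHeight p B (ξ : G → ℂ) ≠ 0 with hT
    have hcard : Nat.card B = S.card + T.card := by
      rw [Nat.card_eq_fintype_card, ← Set.toFinset_card,
        ← Finset.card_union_of_disjoint (by
          rw [Finset.disjoint_filter]; exact fun ξ _ h h' => h'.2 h.2)]
      congr 1
      ext ξ
      simp only [Set.mem_toFinset, hS, hT, Finset.mem_union, Finset.mem_filter, Finset.mem_univ,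
        true_and]
      tauto
    have hbound : ∀ ψ ∈ B, ∀ s : Finset (Cfsg.IrrCharacter G), (∀ ξ ∈ s, ξ ∈ B ∧ ξ ≠ ψ) →
        (∀ ξ ∈ s, (p : ℤ) ^ 2 ≤ A ψ ξ ^ 2) → 4 * ((s.card : ℤ) * (p : ℤ) ^ 2) ≤ ((p : ℤ) ^ d) ^ 2 := by
      intro ψ hψ s hs hs2
      have h1 := hrow ψ hψ s hs
      have h2 := Finset.card_nsmul_le_sum s _ _ hs2
      rw [nsmul_eq_mul] at h2
      nlinarith [sq_nonneg ((p : ℤ) ^ d - 2 * A ψ ψ)]
    have hp2 : ∀ n : ℕ, 0 < n → (p : ℤ) ^ 2 ≤ ((p : ℤ) ^ n) ^ 2 := fun n hn => by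
      rw [← pow_mul]
      exact pow_le_pow_right₀ (by exact_mod_cast hp.one_le) (by omega)
    have h1 := hbound χ hχ S (fun ξ hξ => by
        obtain ⟨h1, h2⟩ := (Finset.mem_filter.1 hξ).2
        exact ⟨h1, fun h => hh.ne' (h ▸ h2)⟩) fun ξ hξ => by
      obtain ⟨h1, h2⟩ := (Finset.mem_filter.1 hξ).2
      exact (hp2 _ hh).trans (hzero χ hχ ξ h1 h2)
    have h2 := hbound χ₀ hχ₀ T (fun ξ hξ => by
        obtain ⟨h1, h2⟩ := (Finset.mem_filter.1 hξ).2
        exact ⟨h1, fun h => h2 (h ▸ h0)⟩) fun ξ hξ => by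
      obtain ⟨h1, h2⟩ := (Finset.mem_filter.1 hξ).2
      rw [hsymm χ₀ hχ₀ ξ h1]
      exact (hp2 _ (Nat.pos_of_ne_zero h2)).trans (hzero ξ h1 χ₀ hχ₀ h0)
    have h3 : 2 * (Nat.card B : ℤ) * (p : ℤ) ^ 2 ≤ (p : ℤ) ^ (2 * d - 2) * (p : ℤ) ^ 2 := by
      rw [hcard, ← pow_add, Nat.sub_add_cancel (by omega), pow_mul']
      push_cast
      linarith
    exact_mod_cast le_of_mul_le_mul_right h3 (pow_pos hp0 2)
  · by_contra hh
    have := main χ hχ hh
    omega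
  · by_cases hh : Cfsg.blockHeight p B (χ : G → ℂ) = 0
    · omega
    · have := main χ hχ hh
      omega

end Cfsg.Agent.S4710
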