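import Cfsg.Statements.S4711
import Cfsg.Agent.Lib.BlockPLength.Extend
import Cfsg.Agent.Lib.BlockLow.PrincipalExt
import Cfsg.Agent.Lib.BlockCount.Criterion
import Cfsg.Agent.Lib.PCore.PLength
import Cfsg.Agent.Lib.Char.Monomial
-- import your own Cfsg.Agent.* helpers here

set_option autoImplicit false
open Cfsg

namespace Cfsg.Agent.S4711

open scoped Classical
open Cfsg

set_option linter.style.haveILetI false

universe u

variable {G : Type u} [Group G] [Fintype G] {p : ℕ} [hp : Fact p.Prime] {M : Ideal AlgInt}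

/-- Forward direction. -/
theorem irr_of_pLength (hM : IsPModular p M) (P : Sylow p G) (h : PLengthLE p 1 G)
    {χ : IrrCharacter G} (hχ : χ ∈ principalBlock M G) :
    IsIrrCharacter ↥(Subgroup.normalizer ((P : Subgroup G) : Set G))
      (fun n : ↥(Subgroup.normalizer ((P : Subgroup G) : Set G)) => χ.1 n) := by
  set K := pPrimeCore p G
  set U := (upperPSeries p G 2).1 with hU
  obtain ⟨m, hm⟩ := PCore.relIndex_upperPSeries_of_odd (G := G) (p := p) (n := 1) (by decide)
  rw [PCore.upperPSeries_one] at hm
  have hUi : ¬ p ∣ U.index := by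
    have := PCore.relIndex_upperPSeries_of_even (G := G) (p := p) (n := 2) even_two
    rw [h, Subgroup.relIndex_top_right] at this
    exact hp.out.coprime_iff_not_dvd.1 this.symm
  have hPU : (P : Subgroup G) ≤ U := BlockLow.sylow_le_of_not_dvd_index hUi P
  have hUKP : U ≤ K ⊔ (P : Subgroup G) := by
    rw [← Subgroup.relIndex_eq_one]
    have h1 : (K ⊔ (P : Subgroup G)).relIndex U ∣ p ^ m :=
      hm ▸ Subgroup.relIndex_dvd_of_le_left U le_sup_left
    have h2 : (K ⊔ (P : Subgroup G)).relIndex U ∣ (P : Subgroup G).index :=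
      (Subgroup.relIndex_dvd_of_le_left U le_sup_right).trans
        (Subgroup.relIndex_dvd_index_of_le hPU)
    exact Nat.eq_one_of_dvd_coprimes
      ((hp.out.coprime_iff_not_dvd.2 P.not_dvd_index).pow_left m) h1 h2
  have htop : K ⊔ Subgroup.normalizer ((P : Subgroup G) : Set G) = ⊤ := by
    refine top_le_iff.1 ((Sylow.normalizer_sup_eq_top' P hPU).ge.trans (sup_le le_sup_right ?_))
    exact hUKP.trans (sup_le_sup_left Subgroup.le_normalizer _)
  obtain ⟨ψ, hψ⟩ := Char.exists_descend K χ
    (BlockCount.apply_eq_one_of_mem_principalBlock hM K PCore.not_dvd_card_pPrimeCore hχ)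
  have hsurj : Function.Surjective
      ((QuotientGroup.mk' K).comp (Subgroup.normalizer ((P : Subgroup G) : Set G)).subtype) := by
    intro x
    obtain ⟨g, rfl⟩ := QuotientGroup.mk_surjective x
    obtain ⟨k, hk, n, hn, rfl⟩ := Subgroup.mem_sup_of_normal_left.1 (htop.ge (Subgroup.mem_top g))
    exact ⟨⟨n, hn⟩, by simp [(QuotientGroup.eq_one_iff k).2 hk]⟩
  have := Char.IsIrrCharacter.comp_surjective ψ.2 _ hsurj
  simpa [hψ] using this

section Converse

variable (P : Sylow p G)

/-- A block character with fixed vectors on `P` has `P` in its kernel. -/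
theorem apply_eq_of_fixed [Fintype (P : Subgroup G)] (χ : IrrCharacter G)
    (hirr : IsIrrCharacter ↥(Subgroup.normalizer ((P : Subgroup G) : Set G))
      (fun n : ↥(Subgroup.normalizer ((P : Subgroup G) : Set G)) => χ.1 n))
    (h : classInner (Char.resFun (P : Subgroup G) χ.1) (fun _ => 1) ≠ 0) :
    ∀ u ∈ (P : Subgroup G), χ.1 u = χ.1 1 := by
  set N := Subgroup.normalizer ((P : Subgroup G) : Set G)
  have hPN : (P : Subgroup G) ≤ N := Subgroup.le_normalizer
  set P' := (P : Subgroup G).subgroupOf N
  haveI : P'.Normal := Subgroup.normal_in_normalizer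
  haveI := Fintype.ofFinite N
  haveI := Fintype.ofFinite P'
  let χN : IrrCharacter N := ⟨_, hirr⟩
  have h0 : classInner (Char.resFun P' χN.1) (Char.trivialChar P').1 ≠ 0 := by
    rw [← Char.classInner_comp_mulEquiv (Subgroup.subgroupOfEquivOfLe hPN).symm]
    exact h
  have hcl := Char.resFun_eq_smul_orbitSum P' χN _ h0
  have horb : ∀ x : P', Char.orbitSum P' (Char.trivialChar P') x =
      Char.orbitSum P' (Char.trivialChar P') 1 := by
    intro x
    simp only [Char.orbitSum, Finset.sum_apply]
    refine Finset.sum_congr rfl fun η hη => ?_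
    obtain ⟨g, rfl⟩ := (Char.mem_orbitFinset P').1 hη
    simp [Char.conjFun]
  intro u hu
  have e1 := congrFun hcl ⟨⟨u, hPN hu⟩, hu⟩
  rw [Pi.smul_apply, horb, ← Pi.smul_apply, ← congrFun hcl 1] at e1
  simpa [χN] using e1

/-- The normal closure of `P` is in that kernel too. -/
theorem apply_eq_of_mem_normalClosure [Fintype (P : Subgroup G)] (χ : IrrCharacter G)
    (h : ∀ u ∈ (P : Subgroup G), χ.1 u = χ.1 1) :
    ∀ u ∈ Subgroup.normalClosure ((P : Subgroup G) : Set G), χ.1 u = χ.1 1 := by
  haveI := CharInt.charKernel_normal (Char.irr_isCharacter χ)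
  intro u hu
  exact (CharInt.mem_charKernel (Char.irr_isCharacter χ)).1
    (Subgroup.normalClosure_le_normal (N := CharInt.charKernel (Char.irr_isCharacter χ))
      (fun v hv => (CharInt.mem_charKernel (Char.irr_isCharacter χ)).2 (h v hv)) hu)

/-- In the normal closure of `P` only the trivial character of the principal block has fixed
vectors on `P`. -/
theorem eq_trivial_of_fixed (hM : IsPModular p M)
    (hirr : ∀ χ ∈ principalBlock M G, IsIrrCharacter ↥(Subgroup.normalizer ((P : Subgroup G) : Set G))
      (fun n : ↥(Subgroup.normalizer ((P : Subgroup G) : Set G)) => χ.1 n))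
    (R : Subgroup G) [Fintype R] (hR : R = Subgroup.normalClosure ((P : Subgroup G) : Set G))
    (hPR : (P : Subgroup G) ≤ R) [Fintype ((P : Subgroup G).subgroupOf R)]
    {θ : IrrCharacter R} (hθ : θ ∈ principalBlock M R)
    (h : classInner (Char.resFun ((P : Subgroup G).subgroupOf R) θ.1) (fun _ => 1) ≠ 0) :
    θ = Char.trivialChar R := by
  haveI := hM.2.1
  haveI := Fintype.ofFinite (P : Subgroup G)
  haveI : R.Normal := hR ▸ Subgroup.normalClosure_normal
  obtain ⟨χ, hχ, hne⟩ := BlockCount.exists_principalBlock_over R hM hθ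
  rw [Char.classInner_indFun R _ (Char.IsCharacter.isClassFunction (Char.irr_isCharacter χ)),
    ← Char.conj_classInner, ne_eq, map_eq_zero] at hne
  change classInner (Char.resFun R χ.1) θ.1 ≠ 0 at hne
  choose k hk using fun η : IrrCharacter R => Char.IsCharacter.exists_nat_classInner
    (Char.IsCharacter.restrict (Char.irr_isCharacter χ) R) (Char.irr_isCharacter η)
  choose l hl using fun η : IrrCharacter R => Char.IsCharacter.exists_nat_classInner
    (Char.IsCharacter.restrict (Char.irr_isCharacter η) ((P : Subgroup G).subgroupOf R))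
    (Char.irr_isCharacter (Char.trivialChar ((P : Subgroup G).subgroupOf R)))
  have hfix : classInner (Char.resFun (P : Subgroup G) χ.1) (fun _ => 1) ≠ 0 := by
    rw [← Char.classInner_comp_mulEquiv (Subgroup.subgroupOfEquivOfLe hPR)]
    have h1 : (fun x : ((P : Subgroup G).subgroupOf R) => Char.resFun (P : Subgroup G) χ.1 (Subgroup.subgroupOfEquivOfLe hPR x)) =
        Char.resFun ((P : Subgroup G).subgroupOf R) (Char.resFun R χ.1) := rfl
    rw [h1, Char.eq_sum_classInner_smul (f := Char.resFun R χ.1) (Char.IsCharacter.isClassFunction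
      (Char.IsCharacter.restrict (Char.irr_isCharacter χ) R))]
    have h2 : Char.resFun ((P : Subgroup G).subgroupOf R) (∑ η : IrrCharacter R, classInner (Char.resFun R χ.1) η.1 • η.1) =
        ∑ η : IrrCharacter R, classInner (Char.resFun R χ.1) η.1 • Char.resFun ((P : Subgroup G).subgroupOf R) η.1 := by
      funext x; simp [Finset.sum_apply]
    rw [h2, Char.classInner_sum_left, Finset.sum_congr rfl
      (g := fun η : IrrCharacter R => ((k η * l η : ℕ) : ℂ)) fun η _ => by
        rw [Char.classInner_smul_left, show classInner (Char.resFun R χ.1) η.1 = k η from hk η,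
          Nat.cast_mul, ← hl η]; rfl]
    intro h0
    have h0' : ∑ η : IrrCharacter R, k η * l η = 0 := by exact_mod_cast h0
    rcases mul_eq_zero.1 (Finset.sum_eq_zero_iff.1 h0' θ (Finset.mem_univ _)) with e | e
    · exact hne (by rw [show classInner (Char.resFun R χ.1) θ.1 = k θ from hk θ, e, Nat.cast_zero])
    · have h3 := hl θ
      rw [e, Nat.cast_zero] at h3
      exact h (by convert h3 using 2 <;> rfl)
  have hker := apply_eq_of_mem_normalClosure P χ (apply_eq_of_fixed P χ (hirr χ hχ) hfix)
  by_contra hθ1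
  refine hne ?_
  have : Char.resFun R χ.1 = χ.1 1 • (Char.trivialChar R).1 := funext fun x => by
    simp [hker x (hR ▸ x.2)]
  rw [this, Char.classInner_smul_left, Char.classInner_irr, if_neg (Ne.symm hθ1), mul_zero]

/-- Converse direction. -/
theorem pLength_of_irr (hM : IsPModular p M)
    (hirr : ∀ χ ∈ principalBlock M G, IsIrrCharacter ↥(Subgroup.normalizer ((P : Subgroup G) : Set G))
      (fun n : ↥(Subgroup.normalizer ((P : Subgroup G) : Set G)) => χ.1 n)) :
    PLengthLE p 1 G := by
  set R := Subgroup.normalClosure ((P : Subgroup G) : Set G) with hR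
  haveI : R.Normal := Subgroup.normalClosure_normal
  haveI := Fintype.ofFinite R
  have hPR : (P : Subgroup G) ≤ R := Subgroup.le_normalClosure
  haveI := Fintype.ofFinite ((P : Subgroup G).subgroupOf R)
  letI : Fintype ((P.subtype hPR : Sylow p R) : Subgroup R) :=
    inferInstanceAs (Fintype ((P : Subgroup G).subgroupOf R))
  obtain ⟨Q, K₀, hK₀, hc⟩ := BlockPLength.hasNormalPComplement_of_fixed hM (P.subtype hPR)
    fun θ hθ h => eq_trivial_of_fixed P hM hirr R hR hPR hθ h
  set K := pPrimeCore p G
  have hcop : (Nat.card K₀).Coprime p := by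
    rw [← hc.index_eq_card]
    exact (hp.out.coprime_iff_not_dvd.2 Q.not_dvd_index).symm
  have hK₀K : K₀.map R.subtype ≤ K := (Subgroup.map_mono (PCore.le_pPrimeCore hcop)).trans
    ((PCore.map_pPrimeCore_subtype_of_normal R).le.trans inf_le_left)
  obtain ⟨a, ha⟩ := Q.isPGroup'.exists_card_eq
  let f1 := QuotientGroup.mk' K
  let R' := R.map f1
  haveI : R'.Normal := Subgroup.Normal.map inferInstance f1 (QuotientGroup.mk'_surjective K)
  have hR'p : IsPGroup p R' := by
    have h1 : (K₀.map R.subtype).relIndex R = K₀.index := by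
      rw [Subgroup.relIndex, Subgroup.subgroupOf,
        Subgroup.comap_map_eq_self_of_injective R.subtype_injective]
    have h2 : Nat.card R' ∣ p ^ a := by
      rw [← ha, ← hc.symm.index_eq_card, ← h1, ← PCore.relIndex_eq_card_map_mk']
      exact Subgroup.relIndex_dvd_of_le_left R hK₀K
    exact PCore.isPGroup_of_card_dvd_pow h2
  have hidx : ¬ p ∣ R'.index := fun hd => P.not_dvd_index
    ((hd.trans (Subgroup.index_map_dvd R (QuotientGroup.mk'_surjective K))).trans
      (Subgroup.index_dvd_of_le hPR))
  have h0 : PLengthLE p 0 ((G ⧸ K) ⧸ R') := by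
    rw [PCore.pLengthLE_zero_iff, ← Subgroup.index_eq_card]
    exact (hp.out.coprime_iff_not_dvd.2 hidx).symm
  have h1 : PLengthLE p 1 (G ⧸ K) := PCore.pLengthLE_succ_of_isPGroup_ker (QuotientGroup.mk' R')
    (QuotientGroup.mk'_surjective R')
    (by rw [QuotientGroup.ker_mk']; exact PCore.le_pCore hR'p) h0
  exact PCore.pLengthLE_of_ker_le_pPrimeCore f1 (QuotientGroup.mk'_surjective K)
    (by rw [QuotientGroup.ker_mk']) h1

end Converse

/-- Let p be a prime, M a maximal ideal of the algebraic integers containing p, G a finite group, P a Sylow p-subgroup and N = N_G(P). Then G has p-length 1 (G = O_{p',p,p'}(G)) if and only if every irreducible character in the principal p-block of G restricts to an irreducible character of N. -/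
theorem result {G : Type*} [Group G] [Finite G] (p : ℕ) [Fact p.Prime] (M : Ideal Cfsg.AlgInt) (hM : Cfsg.IsPModular p M) (P : Sylow p G) : Cfsg.PLengthLE p 1 G ↔ ∀ χ ∈ Cfsg.principalBlock M G, Cfsg.IsIrrCharacter ↥(Subgroup.normalizer ((P : Subgroup G) : Set G)) (fun n : ↥(Subgroup.normalizer ((P : Subgroup G) : Set G)) => (χ : G → ℂ) n) := by
  haveI := Fintype.ofFinite G
  exact ⟨fun h χ hχ => irr_of_pLength hM P h hχ, pLength_of_irr P hM⟩

end Cfsg.Agent.S4711
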