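import Cfsg.Statements.S4712
import Cfsg.Agent.Lib.Blocks.PRational.Count
-- import your own Cfsg.Agent.* helpers here

set_option autoImplicit false
open Cfsg

namespace Cfsg.Agent.S4712

/-- Let p be an odd prime, M a maximal ideal of the algebraic integers containing p, G a finite group of order n with p-part p^a, and B a p-block of G. Call an irreducible character χ p-rational when χ(g^k) = χ(g) for every g and every k coprime to n with k ≡ 1 modulo n/p^a (χ is fixed by the Galois automorphisms fixing the roots of unity of order prime to p). Then the number of p-rational irreducible characters in B is at least the p-regular rank of B (the number of irreducible Brauer characters in B). -/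
theorem result {G : Type*} [Group G] [Finite G] (p : ℕ) [Fact p.Prime] (hodd : p ≠ 2) (M : Ideal Cfsg.AlgInt) (hM : Cfsg.IsPModular p M) (B : Set (Cfsg.IrrCharacter G)) (hB : Cfsg.IsPBlock M B) : Cfsg.blockRank p B ≤ Nat.card {χ : Cfsg.IrrCharacter G // χ ∈ B ∧ ∀ k : ℕ, Nat.Coprime k (Nat.card G) → k ≡ 1 [MOD Nat.card G / p ^ (Nat.card G).factorization p] → ∀ g : G, (χ : G → ℂ) (g ^ k) = (χ : G → ℂ) g} := by
  classical
  haveI := Fintype.ofFinite G
  haveI := hM.2.1
  haveI : IsCyclic (ZMod (Agent.Char.PConj.pp G p))ˣ :=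
    ZMod.isCyclic_units_of_prime_pow p Fact.out hodd _
  obtain ⟨u, hu⟩ := IsCyclic.exists_generator (α := (ZMod (Agent.Char.PConj.pp G p))ˣ)
  refine le_trans (Agent.Blocks.PRational.blockRank_le_card_fixed hM.2.2 hB
    (Agent.Char.PConj.kexp_coprime u) (Agent.Char.PConj.kexp_spec G p u).2) ?_
  refine Nat.card_le_card_of_injective (fun χ => ⟨χ.1, χ.2.1, fun k hk hk1 g => ?_⟩)
    (fun a b h => Subtype.ext (congrArg Subtype.val h :))
  have hfix : Agent.Char.PConj.tw χ.1 u = χ.1 := Subtype.ext (funext χ.2.2)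
  have hpk : k.Coprime (Agent.Char.PConj.pp G p) :=
    hk.coprime_dvd_right (Dvd.intro _ (Agent.Char.PConj.pp_mul G p))
  obtain ⟨j, hj⟩ := (mem_powers_iff_mem_zpowers).2 (hu (ZMod.unitOfCoprime k hpk))
  have hall : ∀ j : ℕ, Agent.Char.PConj.tw χ.1 (u ^ j) = χ.1 := by
    intro j
    induction j with
    | zero => rw [pow_zero, Agent.Char.PConj.tw_one]
    | succ j ih => rw [pow_succ, ← Agent.Char.PConj.tw_tw, ih, hfix]
  have h2 := congrFun (congrArg Subtype.val (hall j)) g
  rw [show u ^ j = ZMod.unitOfCoprime k hpk from hj, Agent.Char.PConj.tw_apply] at h2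
  rw [← h2]
  refine congrArg _ (Agent.Char.PConj.pow_congr (Agent.Char.PConj.modEq_card ?_
    (hk1.trans (Agent.Char.PConj.kexp_spec G p _).2.symm)) g)
  refine (Nat.ModEq.trans (Agent.Char.PConj.kexp_spec G p _).1 ?_).symm
  rw [ZMod.coe_unitOfCoprime, ZMod.val_natCast]
  exact Nat.mod_modEq _ _

end Cfsg.Agent.S4712
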