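import Cfsg.Statements.S4713
import Cfsg.Agent.Lib.BlocksX.Normal
import Cfsg.Agent.Lib.Char.Ito
import Cfsg.Agent.Lib.Char.PRegular
import Cfsg.Agent.Lib.Char.Descend
import Cfsg.Agent.Lib.Char.NormalAction
import Cfsg.Agent.Lib.Char.BrauerPermChar
import Cfsg.Agent.Lib.PCore.PSolvable
import Cfsg.Agent.S4035

set_option autoImplicit false
set_option linter.style.haveILetI false
set_option linter.unusedSectionVars false
open Cfsg

namespace Cfsg.Agent.S4713

open scoped Classical Pointwise
open Agent

universe u

variable {G : Type u} [Group G] [Finite G] {p : ℕ} [Fact p.Prime]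

theorem charDegree_eq (χ : IrrCharacter G) : charDegree (χ : G → ℂ) = Char.degree χ := by
  rw [charDegree, Char.apply_one_eq_degree, Complex.natCast_re, Nat.floor_natCast]

/-- Constituents on a normal subgroup: orbit length times degree divides the degree. -/
theorem card_orbit_mul_degree_dvd [Fintype G] (N : Subgroup G) [N.Normal] [Fintype N]
    (χ : IrrCharacter G) (θ : IrrCharacter N)
    (h : classInner (Char.resFun N χ.1) θ.1 ≠ 0) :
    (Char.orbitFinset N θ).card * Char.degree θ ∣ Char.degree χ := by
  obtain ⟨e, he⟩ : ∃ e : ℕ, classInner (Char.resFun N χ.1) θ.1 = (e : ℂ) :=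
    Char.IsCharacter.exists_nat_classInner
    (Char.IsCharacter.restrict (Char.irr_isCharacter χ) N) (Char.irr_isCharacter θ)
  have h1 := Char.apply_one_eq_mul_card_orbit N χ θ h
  rw [he, Char.apply_one_eq_degree, Char.apply_one_eq_degree] at h1
  exact Dvd.intro_left e (show e * ((Char.orbitFinset N θ).card * Char.degree θ) = Char.degree χ by
    exact_mod_cast h1.symm)

/-- The hypothesis passes to normal subgroups. -/
theorem degree_normal (hG : ∀ χ : IrrCharacter G, ¬ p ∣ Char.degree χ) (N : Subgroup G) [N.Normal]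
    (θ : IrrCharacter N) : ¬ p ∣ Char.degree θ := fun hd => by
  haveI := Fintype.ofFinite G
  haveI := Fintype.ofFinite N
  obtain ⟨χ, hχ⟩ := BlocksX.exists_over N θ
  exact hG χ ((hd.trans (dvd_mul_left _ _)).trans (card_orbit_mul_degree_dvd N χ θ hχ))

/-- A normal `p`-subgroup is abelian. -/
theorem comm_of_normal_pSubgroup (hG : ∀ χ : IrrCharacter G, ¬ p ∣ Char.degree χ)
    (Q : Subgroup G) [Q.Normal] (hQ : IsPGroup p Q) : ∀ a b : Q, a * b = b * a := by
  haveI := Fintype.ofFinite G
  refine (Char.forall_apply_one_iff_comm (G := Q)).1 fun θ => ?_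
  obtain ⟨n, hn⟩ := IsPGroup.iff_card.1 hQ
  obtain ⟨j, -, hj⟩ := (Nat.dvd_prime_pow Fact.out).1 (hn ▸ Char.degree_dvd_natCard θ)
  rcases Nat.eq_zero_or_pos j with hj0 | hj0
  · rw [Char.apply_one_eq_degree, hj, hj0, pow_zero, Nat.cast_one]
  · exact absurd (hj ▸ dvd_pow_self p hj0.ne') (degree_normal hG Q θ)

/-- A `p`-subgroup centralizes a normal `p'`-subgroup which it completes to a normal subgroup. -/
theorem le_centralizer_pPrime (hG : ∀ χ : IrrCharacter G, ¬ p ∣ Char.degree χ) (N : Subgroup G)
    [N.Normal] (hN : ¬ p ∣ Nat.card N) (P : Subgroup G) (hP : IsPGroup p P)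
    [(P ⊔ N).Normal] : P ≤ Subgroup.centralizer (N : Set G) := by
  have hp : p.Prime := Fact.out
  haveI := Fintype.ofFinite G
  haveI := Fintype.ofFinite N
  -- every character of `N` is fixed
  have hfix : ∀ (θ : IrrCharacter N), ∀ x ∈ P, Char.conjChar N θ x = θ := by
    intro θ
    letI := Char.irrConjAction (G := G) N
    letI : MulAction P (IrrCharacter N) := MulAction.compHom _ P.subtype
    obtain ⟨n, hn⟩ := hP.card_orbit θ
    -- work inside `P ⊔ N`
    set M := P ⊔ N
    haveI := Fintype.ofFinite M
    let N' : Subgroup M := N.subgroupOf M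
    haveI : N'.Normal := Subgroup.normal_subgroupOf
    haveI := Fintype.ofFinite N'
    let e : N' ≃* N := Subgroup.subgroupOfEquivOfLe le_sup_right
    let θ' : IrrCharacter N' :=
      ⟨_, Char.IsIrrCharacter.comp_surjective θ.2 e.toMonoidHom e.surjective⟩
    obtain ⟨χ, hχ⟩ := BlocksX.exists_over N' θ'
    have hd := card_orbit_mul_degree_dvd N' χ θ' hχ
    have hcard : (Char.orbitFinset N' θ').card = Nat.card (MulAction.orbit P θ) := by
      let tr : IrrCharacter N → IrrCharacter N' := fun η =>
        ⟨_, Char.IsIrrCharacter.comp_surjective η.2 e.toMonoidHom e.surjective⟩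
      have htr : Function.Injective tr := fun a b h => Subtype.ext (funext fun k => by
        obtain ⟨k', rfl⟩ := e.surjective k
        exact congrFun (congrArg Subtype.val h) k')
      have hconj : ∀ m : M, Char.conjChar N' θ' m = tr (Char.conjChar N θ (m : G)) := fun m =>
        Subtype.ext (funext fun k => congrArg θ.1 (Subtype.ext rfl))
      have himg : (Char.orbitFinset N' θ' : Set (IrrCharacter N')) = tr '' MulAction.orbit P θ := by
        ext η
        rw [Finset.mem_coe, Char.mem_orbitFinset]
        constructor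
        · rintro ⟨m, rfl⟩
          obtain ⟨x, hx, k, hk, hxk⟩ := Subgroup.mem_sup_of_normal_right.1 m.2
          refine ⟨_, ⟨⟨x, hx⟩⁻¹, rfl⟩, ?_⟩
          rw [hconj, ← hxk]
          congr 1
          show Char.conjChar N θ (x⁻¹)⁻¹ = Char.conjChar N θ (x * k)
          rw [inv_inv]
          refine Subtype.ext ?_
          rw [Char.conjChar_coe, Char.conjChar_coe, Char.conjFun_mul]
          exact (congrArg Subtype.val (Char.conjChar_of_mem N (Char.conjChar N θ x) hk)).symm
        · rintro ⟨_, ⟨x, rfl⟩, rfl⟩
          exact ⟨⟨(x : G)⁻¹, inv_mem (Subgroup.mem_sup_left x.2)⟩,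
            (hconj ⟨(x : G)⁻¹, inv_mem (Subgroup.mem_sup_left x.2)⟩).symm⟩
      rw [← Set.ncard_coe_finset, himg, Set.ncard_image_of_injective _ htr]
      rfl
    have h1 : n = 0 := by
      by_contra h0
      refine degree_normal hG M χ ((Dvd.dvd.trans ?_ (dvd_mul_right _ _)).trans hd)
      rw [hcard, hn]
      exact dvd_pow_self p h0
    rw [h1, pow_zero, Nat.card_eq_one_iff_unique] at hn
    intro x hx
    have := congrArg Subtype.val (hn.1.elim
      (⟨_, MulAction.mem_orbit θ (⟨x, hx⟩⁻¹ : P)⟩ : MulAction.orbit P θ)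
      ⟨θ, MulAction.mem_orbit_self θ⟩)
    simpa [MulAction.compHom_smul_def, Char.irrConjAction_smul] using this
  -- so every class of `N` is fixed
  intro x hx
  have hclass : ∀ y ∈ P, ∀ c : ConjClasses N, (letI := Char.classConjAction N; y • c) = c := by
    intro y hy c
    letI := Char.classConjAction N
    letI := Char.irrConjAction N
    have hall : ∀ θ : IrrCharacter N, y • θ = θ := fun θ => by
      rw [Char.irrConjAction_smul, hfix θ _ (inv_mem hy)]
    have h := Char.card_fixed_irr_eq_card_fixed_classes (MulAction.toPerm y : Equiv.Perm _)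
      (MulAction.toPerm y) (fun θ c => Char.classValue_conj_smul N y θ c)
    have h := (Char.card_irr (G := N)).symm.trans
      ((Nat.card_congr (Equiv.subtypeUnivEquiv (α := IrrCharacter N) hall)).symm.trans h)
    haveI : Finite (ConjClasses N) := Finite.of_surjective _ ConjClasses.mk_surjective
    by_contra hc
    have := Finite.card_subtype_lt (p := fun d : ConjClasses N =>
      (MulAction.toPerm y : Equiv.Perm _) d = d) hc
    omega
  have htop : (Subgroup.centralizer (P : Set G)).subgroupOf N = ⊤ := by
    refine S4035.eq_top_of_forall_conj_mem _ fun k => ?_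
    letI : MulAction P (ConjClasses N) :=
      @MulAction.compHom _ _ _ _ (Char.classConjAction N) _ P.subtype
    let C := {k' : N // ConjClasses.mk k' = ConjClasses.mk k}
    letI : MulAction P C :=
      { smul := fun y k' => ⟨MulAut.conjNormal (y : G) k'.1, by
          have := hclass y y.2 (ConjClasses.mk k')
          rw [Char.classConjAction_smul_mk] at this
          rw [this, k'.2]⟩
        one_smul := fun k' => Subtype.ext (by show MulAut.conjNormal (1 : G) k'.1 = _; simp)
        mul_smul := fun a b k' => Subtype.ext (by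
          show MulAut.conjNormal ((a : G) * b) k'.1 = MulAut.conjNormal (a : G) (MulAut.conjNormal (b : G) k'.1)
          rw [map_mul, MulAut.mul_apply]) }
    have hC : ¬ p ∣ Nat.card C := fun h => hN (h.trans (by
      have h1 : Nat.card C = Nat.card (MulAction.orbit (ConjAct N) k) := Nat.card_congr
        (Equiv.subtypeEquivRight fun k' => by
          rw [ConjAct.mem_orbit_conjAct, ConjClasses.mk_eq_mk_iff_isConj])
      rw [h1, Nat.card_congr (MulAction.orbitEquivQuotientStabilizer (ConjAct N) k),
        ← Subgroup.index_eq_card]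
      exact Subgroup.index_dvd_card _))
    obtain ⟨⟨k', hk'⟩, hfix'⟩ := hP.nonempty_fixed_point_of_prime_not_dvd_card C hC
    obtain ⟨a, ha⟩ := isConj_iff.1 (ConjClasses.mk_eq_mk_iff_isConj.1 hk')
    refine ⟨a, ?_⟩
    rw [← ha, show a⁻¹ * (a * k' * a⁻¹) * a = k' by group, Subgroup.mem_subgroupOf,
      Subgroup.mem_centralizer_iff]
    intro y hy
    have := congrArg (Subtype.val ∘ Subtype.val) (hfix' ⟨y, hy⟩)
    exact mul_inv_eq_iff_eq_mul.1 this
  rw [Subgroup.subgroupOf_eq_top] at htop
  exact Subgroup.le_centralizer_iff.1 htop hx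

/-- The Sylow subgroup is normal. -/
theorem sylow_normal : ∀ (n : ℕ) (G : Type u) [Group G] [Finite G], Nat.card G = n →
    IsPSolvable p G → (∀ χ : IrrCharacter G, ¬ p ∣ Char.degree χ) →
    ∀ P : Sylow p G, (P : Subgroup G).Normal := by
  intro n
  induction n using Nat.strong_induction_on with
  | _ n ih =>
  intro G _ _ hn hs hG P
  rcases subsingleton_or_nontrivial G with hss | hnt
  · rw [Subsingleton.elim (P : Subgroup G) ⊤]; infer_instance
  obtain ⟨N, hmin⟩ : ∃ N : Subgroup G, Minimal (fun K : Subgroup G => K.Normal ∧ K ≠ ⊥) N :=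
    Set.Finite.exists_minimal (s := {K : Subgroup G | K.Normal ∧ K ≠ ⊥}) (Set.toFinite _)
      ⟨⊤, inferInstance, top_ne_bot⟩
  haveI := hmin.prop.1
  have hlt : Nat.card (G ⧸ N) < n := by
    rw [← hn, ← Subgroup.index_eq_card, ← Subgroup.card_mul_index N]
    exact lt_mul_of_one_lt_left (Nat.pos_of_ne_zero Subgroup.index_ne_zero_of_finite)
      ((Subgroup.one_lt_card_iff_ne_bot N).2 hmin.prop.2)
  have hbar := ih _ hlt (G ⧸ N) rfl (PCore.isPSolvable_quotient hs N)
    (fun ψ h => hG (Char.inflate N ψ) (by
      rwa [← charDegree_eq, show charDegree (Char.inflate N ψ).1 = charDegree ψ.1 by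
        simp [charDegree], charDegree_eq]))
    (P.mapSurjective (QuotientGroup.mk'_surjective N))
  haveI hM : ((P : Subgroup G) ⊔ N).Normal := by
    have := Subgroup.Normal.comap hbar (QuotientGroup.mk' N)
    rwa [Sylow.coe_mapSurjective, Subgroup.comap_map_eq, QuotientGroup.ker_mk'] at this
  rcases PCore.isPGroup_or_coprime_of_minimal_normal hs N (fun K hK hKN => by
      rcases eq_or_ne K ⊥ with h | h
      · exact Or.inl h
      · exact Or.inr (le_antisymm hKN (hmin.le_of_le ⟨hK, h⟩ hKN))) with h | h
  · have hle : N ≤ P := by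
      rw [← sup_eq_left]
      exact P.is_maximal' (P.2.to_sup_of_normal_right h) le_sup_left
    rwa [sup_eq_left.2 hle] at hM
  · have hN : ¬ p ∣ Nat.card N := fun hd => (Fact.out : p.Prime).ne_one
      (Nat.eq_one_of_dvd_coprimes h hd dvd_rfl)
    have hc := le_centralizer_pPrime hG N hN (P : Subgroup G) P.2
    have hMle : (P : Subgroup G) ⊔ N ≤ Subgroup.normalizer ((P : Subgroup G) : Set G) :=
      sup_le Subgroup.le_normalizer
        ((Subgroup.le_centralizer_iff.1 hc).trans (Subgroup.centralizer_le_normalizer _))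
    let Q : Sylow p ((P : Subgroup G) ⊔ N : Subgroup G) := P.subtype le_sup_left
    have h2 := Sylow.normalizer_sup_eq_top Q
    rw [← Subgroup.normalizer_eq_top_iff, eq_top_iff, ← h2]
    refine sup_le (le_of_eq ?_) hMle
    simp [Q]

/-- Let p be a prime and G a finite p-solvable group. Then G has a normal abelian Sylow p-subgroup if and only if the degree of every irreducible character of G is prime to p. -/
theorem result {G : Type*} [Group G] [Finite G] (p : ℕ) [Fact p.Prime] (hsolv : Cfsg.IsPSolvable p G) (P : Sylow p G) : ((P : Subgroup G).Normal ∧ IsMulCommutative P) ↔ ∀ χ : Cfsg.IrrCharacter G, ¬ p ∣ Cfsg.charDegree (χ : G → ℂ) := by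
  constructor
  · rintro ⟨hn, hcomm⟩ χ h
    rw [charDegree_eq] at h
    haveI := Fintype.ofFinite G
    haveI := hn
    exact P.not_dvd_index' Subgroup.index_ne_zero_of_finite (h.trans
      (Char.degree_dvd_index_of_comm (P : Subgroup G) (fun a ha b hb =>
        congrArg Subtype.val (hcomm.is_comm.comm ⟨a, ha⟩ ⟨b, hb⟩)) χ))
  · intro h
    have hG : ∀ χ : IrrCharacter G, ¬ p ∣ Char.degree χ := fun χ => charDegree_eq χ ▸ h χ
    haveI := sylow_normal _ G rfl hsolv hG P
    exact ⟨inferInstance, ⟨⟨comm_of_normal_pSubgroup hG _ P.2⟩⟩⟩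

end Cfsg.Agent.S4713
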