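import Cfsg.Statements.S4715
import Cfsg.Agent.Lib.BrauerPairs.HeightBound
import Cfsg.Agent.Lib.BrauerPairs.LocalBridge

set_option autoImplicit false
open Cfsg
open scoped Classical ComplexConjugate Cfsg.Agent.Blocks

namespace Cfsg.Agent.S4715

/-- Let p be a prime, M a maximal ideal of the algebraic integers containing p, B a p-block of the finite group G with defect group D of order p^d, H = D·C_G(D), b a block of H inducing B, T the stabilizer of b in N_G(D) and e = [T : H] the inertial index of B; let n be the integer with p^n ≤ e < p^(n+1) and p^c the order of the centre of D. Then every irreducible character in B has height h with h + c ≤ n + d. -/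
theorem result {G : Type*} [Group G] [Finite G] (p : ℕ) [Fact p.Prime] (M : Ideal Cfsg.AlgInt) (hM : Cfsg.IsPModular p M) (B : Set (Cfsg.IrrCharacter G)) (hB : Cfsg.IsPBlock M B) (D : Subgroup G) (hBD : Cfsg.IsDefectGroup p M B D) (d : ℕ) (hDd : Nat.card D = p ^ d) (H : Subgroup G) (hH : H = D ⊔ Subgroup.centralizer (D : Set G)) (b : Set (Cfsg.IrrCharacter H)) (hind : Cfsg.IsInducedBlock M H b B) (T : Subgroup G) (hT : ∀ g : G, g ∈ T ↔ (g ∈ Subgroup.normalizer (D : Set G) ∧ ∀ θ ∈ b, ∀ θ' : Cfsg.IrrCharacter H, (∀ h h' : H, (h' : G) = g * h * g⁻¹ → (θ' : H → ℂ) h' = (θ : H → ℂ) h) → θ' ∈ b)) (e : ℕ) (he : H.relIndex T = e) (n : ℕ) (hn : p ^ n ≤ e ∧ e < p ^ (n + 1)) (c : ℕ) (hc : Nat.card (Subgroup.center D) = p ^ c) : ∀ χ ∈ B, Cfsg.blockHeight p B (χ : G → ℂ) + c ≤ n + d := by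
  haveI := Fintype.ofFinite G
  have hp := (Fact.out : p.Prime)
  haveI : M.IsMaximal := hM.2.1
  haveI : CharP (Cfsg.AlgInt ⧸ M) p := Blocks.charP_residue hM.2.2
  have hpM := hM.2.2
  have hblk := fun L : Subgroup G => BrauerPairs.hasBlocks M L
  have hBi := BrauerPairs.isBlockIdem_blkG hB
  have hDtop := (BrauerPairs.isDefectGroup_iff_defectIn_top hB D).1 hBD
  have hDp : IsPGroup p D := hDtop.1
  have hDH : D ≤ H := hH ▸ le_sup_left
  have hCH : Subgroup.centralizer (D : Set G) ≤ H := hH ▸ le_sup_right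
  have hHN : H ≤ Subgroup.normalizer (D : Set G) :=
    hH ▸ sup_le Subgroup.le_normalizer (Subgroup.centralizer_le_normalizer _)
  have hbH := BrauerPairs.isBlockIdem_blk H hind.1
  have hbr := (BrauerPairs.isInducedBlock_iff_br hpM hDp hDH hCH hHN hind.1 hB).1 hind
  obtain ⟨f, hf⟩ : ∃ f, f = BrauerPairs.blk M H b := ⟨_, rfl⟩
  rw [← hf] at hbH hbr
  have hfix : ∀ z ∈ BrauerPairs.centerIn (Cfsg.AlgInt ⧸ M) (Subgroup.centralizer (D : Set G)),
      z ∈ BrauerPairs.centerIn (Cfsg.AlgInt ⧸ M) H := by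
    intro z hz
    let S : Subgroup G :=
      { carrier := {g | BrauerPairs.conjEl g z = z}
        one_mem' := BrauerPairs.conjEl_one z
        mul_mem' := fun {g g'} hg hg' => by
          show BrauerPairs.conjEl (g * g') z = z
          rw [BrauerPairs.conjEl_mul, hg', hg]
        inv_mem' := fun {g} hg => by
          have h1 := BrauerPairs.conjEl_inv_conjEl g z
          rwa [hg] at h1 }
    have hS : H ≤ S := hH ▸ sup_le (fun u hu => BrauerPairs.mem_fixedBy_of_supp_centralizer hz.1 u hu)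
      (fun u hu => hz.2 u hu)
    exact ⟨BrauerPairs.suppIn_mono hCH hz.1, fun u hu => hS hu⟩
  have hfC : BrauerPairs.IsBlockIdem (Subgroup.centralizer (D : Set G)) f := by
    refine ⟨⟨fun x hx => ?_, BrauerPairs.fixedBy_anti hCH hbH.mem.2⟩, hbH.idem, hbH.ne_zero,
      fun z hz => hbH.2.2.2 z (hfix z hz)⟩
    rw [← BrauerPairs.br_eq_of_normal hDp hDH hHN hbH]
    exact BrauerPairs.coeff_br_of_notMem f hx
  have hpair : BrauerPairs.IsPairOf p (BrauerPairs.blkG M B) (D, f) := ⟨⟨hDp, hfC⟩, hbr⟩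
  have hmax : BrauerPairs.IsMax p (BrauerPairs.blkG M B) (D, f) := by
    refine ⟨hpair, fun a ha => (Subgroup.eq_of_le_of_card_ge ha.2.2.1 ?_).symm⟩
    exact hDtop.card_le ha.2.1.1 le_top ((BrauerPairs.step_isPairOf_iff hBi ha).2 hpair).br_ne_zero
  -- the subsections
  obtain ⟨Z, hZ⟩ : ∃ Z : Subgroup G, Z = (Subgroup.center D).map D.subtype := ⟨_, rfl⟩
  have hZc : Nat.card Z = p ^ c := by
    rw [hZ, Subgroup.card_map_of_injective D.subtype_injective, hc]
  have hZD : ∀ a : Z, (a : G) ∈ D := fun a => by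
    obtain ⟨u, -, hu⟩ := Subgroup.mem_map.1 (hZ.le a.2)
    exact hu ▸ u.2
  have hZcomm : ∀ a : Z, ∀ u ∈ D, u * (a : G) = (a : G) * u := fun a u hu => by
    obtain ⟨v, hv, hva⟩ := Subgroup.mem_map.1 (hZ.le a.2)
    exact hva ▸ congrArg Subtype.val (Subgroup.mem_center_iff.1 hv ⟨u, hu⟩)
  have hHz : ∀ a : Z, ∀ u ∈ H, u * (a : G) = (a : G) * u := fun a u hu => by
    have h1 : H ≤ Subgroup.centralizer ({(a : G)} : Set G) := hH ▸ sup_le
      (fun v hv => Subgroup.mem_centralizer_singleton_iff.2 (hZcomm a v hv))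
      (Subgroup.centralizer_le (Set.singleton_subset_iff.2 (hZD a)))
    exact Subgroup.mem_centralizer_singleton_iff.1 (h1 hu)
  have hord : ∀ a : Z, ∃ k, orderOf (a : G) = p ^ k := fun a => by
    obtain ⟨k, hk⟩ := IsPGroup.iff_orderOf.1 hDp ⟨a, hZD a⟩
    exact ⟨k, by simpa using hk⟩
  choose k hk using hord
  obtain ⟨C, hC⟩ : ∃ C : Z → Subgroup G, C = fun a : Z => Subgroup.centralizer ({(a : G)} : Set G) := ⟨_, rfl⟩
  have hCa : ∀ a, C a = Subgroup.centralizer ({(a : G)} : Set G) := fun a => congrFun hC a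
  have hCz : ∀ a : Z, Subgroup.centralizer (Subgroup.zpowers (a : G) : Set G) = C a := fun a => by
    rw [hCa, Blocks.centralizer_zpowers_eq]
  have hDC : ∀ a : Z, D ≤ C a := fun a u hu =>
    (hCa a).ge (Subgroup.mem_centralizer_singleton_iff.2 (hZcomm a u hu))
  choose F hF using fun a : Z => BrauerPairs.exists_ple hblk hpair.1 (Subgroup.zpowers (a : G))
    (Subgroup.zpowers_le.2 (hZD a))
  have hFi : ∀ a, BrauerPairs.IsBlockIdem (C a) (F a) := fun a =>
    hCz a ▸ ((hF a).isPair_left hpair.1).2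
  choose bb hbb hbF using fun a => BrauerPairs.exists_eq_blk (C a) (hFi a)
  have hCN : ∀ a : Z, C a ≤ Subgroup.normalizer ((Subgroup.zpowers (a : G) : Subgroup G) : Set G) :=
    fun a => (hCz a).ge.trans (Subgroup.centralizer_le_normalizer _)
  have hpz : ∀ a : Z, IsPGroup p (Subgroup.zpowers (a : G)) := fun a =>
    hDp.to_le (Subgroup.zpowers_le.2 (hZD a))
  have hzC : ∀ a : Z, Subgroup.zpowers (a : G) ≤ C a := fun a =>
    (hCa a).ge.trans' Blocks.zpowers_le_centralizer
  have hindb : ∀ a, Cfsg.IsInducedBlock M (C a) (bb a) B := fun a => by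
    refine (BrauerPairs.isInducedBlock_iff_br hpM (hpz a) (hzC a) (hCz a).le (hCN a) (hbb a) hB).2 ?_
    rw [hbF a]
    exact ((BrauerPairs.ple_isPairOf_iff hBi (hF a)).1 hpair).2
  have hdefIn : ∀ a, BrauerPairs.DefectIn p (C a) (F a) D := fun a => by
    obtain ⟨E, hE, hDE⟩ := BrauerPairs.exists_defectIn_centralizer hblk hpair.1 (hF a)
    rw [hCz a] at hE hDE
    rw [inf_eq_left.2 (hDC a)] at hDE
    obtain ⟨g, x, -, hx, -⟩ := BrauerPairs.exists_conj_of_step hblk hBi hmax (hF a) hE.1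
      ((Subgroup.zpowers_le.2 (hZD a)).trans hDE)
      ((hE.2.1.trans (hCz a).ge).trans (BrauerPairs.centralizer_le_stabOf
        ((hF a).isPair_left hpair.1).2)) hE.2.2.1
    have h1 : Nat.card E ≤ Nat.card D :=
      BrauerPairs.card_map_conj x E ▸ Subgroup.card_le_of_le hx.le
    rwa [Subgroup.eq_of_le_of_card_ge hDE h1]
  have hdB : Cfsg.blockDefect p B = d :=
    Nat.pow_right_injective hp.two_le ((Blocks.card_defectGroup hpM hB hBD).symm.trans hDd)
  have hdef : ∀ a, Cfsg.blockDefect p (bb a) = d := fun a => by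
    refine Nat.pow_right_injective hp.two_le ?_
    show p ^ Cfsg.blockDefect p (bb a) = p ^ d
    rw [← Blocks.card_defectGroup hpM (hbb a) (D := D.subgroupOf (C a))
      ((BrauerPairs.isDefectGroup_subgroupOf_iff (hbb a) (hDC a)).2 (by rw [hbF a]; exact hdefIn a)),
      Nat.card_congr (Subgroup.subgroupOfEquivOfLe (hDC a)).toEquiv, hDd]
  -- powers
  let act : ℕ → Equiv.Perm Z := fun j =>
    if hj : (Nat.card Z).Coprime j then powCoprime hj else Equiv.refl Z
  have hcop : ∀ j : ℕ, j.Coprime (Nat.card G) → ∀ a : Z, ((act j a : Z) : G) = (a : G) ^ j := by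
    intro j hj a
    have h1 : (Nat.card Z).Coprime j := (hj.coprime_dvd_right Z.card_subgroup_dvd_card).symm
    simp only [act, dif_pos h1]
    simp
  have hzp : ∀ j : ℕ, j.Coprime (Nat.card G) → ∀ a : Z,
      Subgroup.zpowers ((a : G) ^ j) = Subgroup.zpowers (a : G) := by
    intro j hj a
    refine le_antisymm (Subgroup.zpowers_le.2 (pow_mem (Subgroup.mem_zpowers _) j)) ?_
    refine Subgroup.zpowers_le.2 ?_
    obtain ⟨i, hi⟩ := exists_pow_eq_self_of_coprime (hj.coprime_dvd_right (orderOf_dvd_natCard (a : G)))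
    have h1 : ((a : G) ^ j) ^ i ∈ Subgroup.zpowers ((a : G) ^ j) := pow_mem (Subgroup.mem_zpowers _) i
    rwa [hi] at h1
  have hCpow : ∀ (a : Z) (j : ℕ), j.Coprime (Nat.card G) →
      C a = Subgroup.centralizer ({(a : G) ^ j} : Set G) := fun a j hj => by
    rw [← hCz a, ← hzp j hj a, Blocks.centralizer_zpowers_eq]
  intro χ hχ
  have hayC : ∀ a : Z, (a : G) ∈ C a := fun a => hzC a (Subgroup.mem_zpowers _)
  choose cc μ hμ hcomb using fun a =>
    HeightBound.exists_combination hpM (hayC a) (hCpow a) (hbb a) χ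
  obtain ⟨v, hv⟩ : ∃ v : Z → Cfsg.IrrCharacter G → ℂ, v = fun (a : Z) (ψ : Cfsg.IrrCharacter G) =>
      HeightBound.ctr p (C a) (bb a) (a : G) χ.1 ψ.1 := ⟨_, rfl⟩
  obtain ⟨m, hm⟩ : ∃ m : Z → ℝ, m = fun a => ∑ ψ ∈ Finset.univ.filter (· ∈ B), ‖v a ψ‖ ^ 2 :=
    ⟨_, rfl⟩
  have hfacts : ∀ a, v a χ = (m a : ℂ) ∧ v a χ ≠ 0 := fun a => by
    obtain ⟨h1, -, -, h4⟩ := HeightBound.ctr_facts hpM (hCa a) (hk a) (hindb a) χ
    refine ⟨?_, ?_⟩
    · rw [hm, hv]
      dsimp only
      rw [← h1, Complex.ofReal_sum]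
      exact Finset.sum_congr rfl fun ψ _ => by rw [Complex.mul_conj', Complex.ofReal_pow]
    · rw [hv]; exact h4 ((hdef a).trans hdB.symm) hχ
  have hm0 : ∀ a, 0 ≤ m a := fun a => by rw [hm]; exact Finset.sum_nonneg fun _ _ => by positivity
  have hsum : ∑ a, m a ≤ (e : ℝ) := by
    refine HeightBound.sum_le_of_gram (Finset.univ.filter (· ∈ B)) v m χ
      (Finset.mem_filter.2 ⟨Finset.mem_univ _, hχ⟩)
      (fun a a' => ∃ t ∈ T, t * (a : G) * t⁻¹ = (a' : G)) e (fun a => by rw [hm])
      (fun a => (hfacts a).1) ?_ ?_ ?_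
    · intro a a' hn'
      rw [hv]
      refine HeightBound.sum_ctr_mul_conj_eq_zero hpM (hCa a) (hCa a') (hk a) (hk a') (hindb a)
        (hbb a') (fun g hg hgb => hn' ?_) χ
      rw [hbF a, hbF a'] at hgb
      have h1 : BrauerPairs.conjPair g (Subgroup.zpowers (a : G), F a) =
          (Subgroup.zpowers (a' : G), F a') := by
        refine Prod.ext ?_ hgb
        show (Subgroup.zpowers (a : G)).map _ = _
        rw [MonoidHom.map_zpowers, MulEquiv.coe_toMonoidHom, MulAut.conj_apply, hg]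
      have h2 := (hF a).conj g
      rw [h1] at h2
      -- two maximal pairs over the same subpair
      obtain ⟨u, hu, hu'⟩ : ∃ u ∈ C a', BrauerPairs.conjPair u (BrauerPairs.conjPair g (D, f)) = (D, f) := by
        obtain ⟨u, hu, hu'⟩ : ∃ u ∈ C a',
            BrauerPairs.PLE p (BrauerPairs.conjPair u (BrauerPairs.conjPair g (D, f))) (D, f) := by
          have hstep := fun (P : Subgroup G) (q : MonoidAlgebra (Cfsg.AlgInt ⧸ M) G)
              (h : BrauerPairs.PLE p (Subgroup.zpowers (a' : G), F a') (P, q))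
              (hP : P ≤ C a') => h.step_of_le_normalizer hblk ((hF a').isPair_left hpair.1)
                (hP.trans (hCN a'))
          have hgD : D.map (MulAut.conj g).toMonoidHom ≤ C a' := by
            rintro _ ⟨w, hw, rfl⟩
            refine (hCa a').ge (Subgroup.mem_centralizer_singleton_iff.2 ?_)
            show g * w * g⁻¹ * (a' : G) = (a' : G) * (g * w * g⁻¹)
            calc g * w * g⁻¹ * (a' : G) = g * (w * (a : G)) * g⁻¹ := by rw [← hg]; group
              _ = g * ((a : G) * w) * g⁻¹ := by rw [hZcomm a w hw]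
              _ = (a' : G) * (g * w * g⁻¹) := by rw [← hg]; group
          have hCP : ∀ {P : Subgroup G}, Subgroup.zpowers (a' : G) ≤ P →
              Subgroup.centralizer (P : Set G) ≤ C a' := fun {P} hP =>
            (Subgroup.centralizer_le hP).trans (hCz a').le
          exact BrauerPairs.exists_conj_ple_sub hblk (hFi a') hpair.1 (hDC a')
            (hCP (Subgroup.zpowers_le.2 (hZD a')))
            (hstep D f (hF a') (hDC a')).2.2.2.2.2 (hdefIn a') (hpair.1.conj g) hgD
            (hCP h2.le) (hstep _ _ h2 hgD).2.2.2.2.2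
        refine ⟨u, hu, hu'.eq_of_fst_eq (Subgroup.eq_of_le_of_card_ge hu'.le ?_)⟩
        show _ ≤ Nat.card ((D.map _).map _ : Subgroup G)
        rw [BrauerPairs.card_map_conj, BrauerPairs.card_map_conj]
      rw [← BrauerPairs.conjPair_mul] at hu'
      have hN : u * g ∈ Subgroup.normalizer (D : Set G) := BrauerPairs.mem_normalizer_of_conj_le
        fun w hw => (congrArg Prod.fst hu').le ⟨w, hw, rfl⟩
      refine ⟨u * g, (hT _).2 ⟨hN, fun θ hθ θ' hθ' => ?_⟩, ?_⟩
      · have hHn : u * g ∈ Subgroup.normalizer (H : Set G) := by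
          refine BrauerPairs.mem_normalizer_of_conj_le fun w hw => ?_
          have h3 : H.map (MulAut.conj (u * g)).toMonoidHom = H := by
            rw [hH, Subgroup.map_sup, BrauerPairs.map_conj_centralizer, BrauerPairs.map_conj_eq_of_mem_normalizer hN]
          exact h3.le ⟨w, hw, rfl⟩
        have h4 : BrauerPairs.mapBlock (BrauerPairs.conjIso (u * g) (BrauerPairs.mem_iff_conj_mem hHn)) b = b := by
          refine BrauerPairs.blk_injective (M := M) H (BrauerPairs.isPBlock_mapBlock _ hind.1) hind.1 ?_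
          rw [BrauerPairs.blk_mapBlock_conjIso, ← hf]
          exact congrArg Prod.snd hu'
        have h5 : θ' = BrauerPairs.compIrr
            (BrauerPairs.conjIso (u * g) (BrauerPairs.mem_iff_conj_mem hHn)) θ :=
          (BrauerPairs.isConjCharOf_iff (BrauerPairs.mem_iff_conj_mem hHn) θ θ').1 hθ'
        rw [h5]
        exact h4.le ⟨θ, hθ, rfl⟩
      · rw [show u * g * (a : G) * (u * g)⁻¹ = u * (g * (a : G) * g⁻¹) * u⁻¹ by group, hg,
          Subgroup.mem_centralizer_singleton_iff.1 ((hCa a').le hu), mul_inv_cancel_right]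
    · intro a
      rw [← he, Subgroup.relIndex, ← Finset.card_image_of_injective _ Subtype.val_injective]
      let orb : T ⧸ H.subgroupOf T → G := Quotient.lift (fun t : T => (t : G) * (a : G) * (t : G)⁻¹)
        fun t t' htt => by
          have h1 : (t : G)⁻¹ * t' ∈ H := (QuotientGroup.leftRel_apply (s := H.subgroupOf T)).1 htt
          show (t : G) * (a : G) * (t : G)⁻¹ = (t' : G) * (a : G) * (t' : G)⁻¹
          calc (t : G) * (a : G) * (t : G)⁻¹
              = (t : G) * ((a : G) * ((t : G)⁻¹ * t')) * (t' : G)⁻¹ := by group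
            _ = (t : G) * (((t : G)⁻¹ * t') * (a : G)) * (t' : G)⁻¹ := by rw [hHz a _ h1]
            _ = (t' : G) * (a : G) * (t' : G)⁻¹ := by group
      haveI := Fintype.ofFinite (T ⧸ H.subgroupOf T)
      rw [Subgroup.index, Nat.card_eq_fintype_card]
      refine (Finset.card_le_card ?_).trans ((Finset.card_image_le (f := orb) (s := Finset.univ)).trans
        Finset.card_univ.le)
      intro y hy
      obtain ⟨a', ha', rfl⟩ := Finset.mem_image.1 hy
      obtain ⟨t, ht, hta⟩ := (by simpa using ha')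
      exact Finset.mem_image.2 ⟨QuotientGroup.mk (⟨t, ht⟩ : T), Finset.mem_univ _, hta⟩
    · intro a
      rw [← he, Subgroup.relIndex, ← Finset.card_image_of_injective _ Subtype.val_injective]
      let orb : T ⧸ H.subgroupOf T → G := Quotient.lift (fun t : T => (t : G) * (a : G) * (t : G)⁻¹)
        fun t t' htt => by
          have h1 : (t : G)⁻¹ * t' ∈ H := (QuotientGroup.leftRel_apply (s := H.subgroupOf T)).1 htt
          show (t : G) * (a : G) * (t : G)⁻¹ = (t' : G) * (a : G) * (t' : G)⁻¹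
          calc (t : G) * (a : G) * (t : G)⁻¹
              = (t : G) * ((a : G) * ((t : G)⁻¹ * t')) * (t' : G)⁻¹ := by group
            _ = (t : G) * (((t : G)⁻¹ * t') * (a : G)) * (t' : G)⁻¹ := by rw [hHz a _ h1]
            _ = (t' : G) * (a : G) * (t' : G)⁻¹ := by group
      haveI := Fintype.ofFinite (T ⧸ H.subgroupOf T)
      rw [Subgroup.index, Nat.card_eq_fintype_card]
      refine (Finset.card_le_card ?_).trans ((Finset.card_image_le (f := orb) (s := Finset.univ)).trans
        Finset.card_univ.le)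
      intro y hy
      obtain ⟨a', ha', rfl⟩ := Finset.mem_image.1 hy
      obtain ⟨t, ht, hta⟩ := (by simpa using ha')
      refine Finset.mem_image.2 ⟨QuotientGroup.mk (⟨t⁻¹, inv_mem ht⟩ : T), Finset.mem_univ _, ?_⟩
      show t⁻¹ * (a : G) * t⁻¹⁻¹ = (a' : G)
      rw [← hta]; group
  -- the Galois average
  haveI : NeZero (Nat.card G) := ⟨Nat.card_pos.ne'⟩
  have hval : ∀ (a : Z) (j : ℕ), j.Coprime (Nat.card G) →
      ((p ^ d : ℕ) : ℂ) * v (act j a) χ = ∑ i, (cc a i : ℂ) * μ a i ^ j := by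
    intro a j hj
    rw [← hcomb a j hj, hdef a, hv]
    dsimp only
    congr 1
    rw [hcop j hj a]
    have hCe : C (act j a) = C a := by rw [hCa, hcop j hj a, ← hCpow a j hj]
    refine HeightBound.ctr_congr hCe (hbb _) (hbb a) ?_ _ _ _
    rw [hbF, hbF]
    refine BrauerPairs.ple_unique hblk hpair.1 (Subgroup.zpowers (a : G)) _ _ ?_ (hF a)
    have h1 := hF (act j a)
    rwa [hcop j hj a, hzp j hj a] at h1
  have hmain := HeightBound.card_mul_le_sum_norm (N := Nat.card G) act (ι := Σ a : Z,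
      Cfsg.IrrCharacter (C a) × Cfsg.IrrCharacter (C a))
    (fun a i => if i.1 = a then cc i.1 i.2 else 0) (fun _ i => μ i.1 i.2) (fun _ i => hμ i.1 i.2)
    (fun a => ((p ^ d : ℕ) : ℂ) * v a χ)
    (fun a => by
      rw [Fintype.sum_sigma, Finset.sum_eq_single a (fun b _ hb => by simp [hb]) (by simp)]
      have h1 := hcomb a 1 (Nat.coprime_one_left _)
      simp only [pow_one, hdef a] at h1
      simp only [hv, h1, if_true])
    (fun j hj a => by
      rw [Fintype.sum_sigma, Finset.sum_eq_single a (fun b _ hb => by simp [hb]) (by simp), hval a j hj]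
      simp)
    (p ^ Cfsg.blockHeight p B χ.1) (pow_pos hp.pos _)
    (fun a => by
      have h1 := HeightBound.isIntegral_ctr_div hpM (hayC a) (hCpow a) (hk a) (hbb a)
        ((hdef a).trans hdB.symm) χ hχ
      rw [hdef a] at h1
      rw [hv]
      exact h1)
    (fun a => mul_ne_zero (Nat.cast_ne_zero.2 (pow_ne_zero _ hp.ne_zero)) (hfacts a).2)
  have hle : (p ^ c * p ^ Cfsg.blockHeight p B χ.1 : ℕ) ≤ p ^ d * e := by
    rw [← Nat.cast_le (α := ℝ), Nat.cast_mul, Nat.cast_mul]
    rw [← Nat.card_eq_fintype_card, hZc] at hmain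
    refine hmain.trans ((Finset.sum_le_sum (g := fun a => ((p ^ d : ℕ) : ℝ) * m a) fun a _ => ?_).trans ?_)
    · rw [norm_mul, Complex.norm_natCast, (hfacts a).1, Complex.norm_real, Real.norm_eq_abs,
        abs_of_nonneg (hm0 a)]
    · rw [← Finset.mul_sum]
      exact mul_le_mul_of_nonneg_left hsum (Nat.cast_nonneg _)
  have hlt : p ^ (c + Cfsg.blockHeight p B χ.1) < p ^ (d + (n + 1)) := by
    rw [pow_add, pow_add]
    exact hle.trans_lt (Nat.mul_lt_mul_of_pos_left hn.2 (pow_pos hp.pos d))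
  have := (Nat.pow_lt_pow_iff_right hp.one_lt).1 hlt
  omega

end Cfsg.Agent.S4715
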