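import Cfsg.Statements.S4719
import Cfsg.Agent.S4718
import Cfsg.Agent.Lib.BlockCount.CentralizerBlocks
import Cfsg.Agent.Lib.BlockCount.SmallCentralizer
-- import your own Cfsg.Agent.* helpers here

set_option autoImplicit false
universe u
open Cfsg

namespace Cfsg.Agent.S4719

open scoped Classical Cfsg.Agent.Blocks
open Agent

/-- The centraliser of a `2`-group of order `2 ^ r` is bounded when there is no non-principal block
of defect at least `r`. -/
theorem exists_bound_hyperplane (a : ℕ) : ∃ N : ℕ, ∀ (G : Type u) [Group G] [Finite G]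
    (M : Ideal AlgInt) (r : ℕ), IsPModular 2 M → (Nat.card G).factorization 2 ≤ a →
    (∀ B : Set (IrrCharacter G), IsPBlock M B → B ≠ principalBlock M G → blockDefect 2 B < r) →
    ∀ E : Subgroup G, IsMulCommutative E → Nat.card E = 2 ^ r →
    Nat.card (Subgroup.centralizer (E : Set G)) ≤ N := by
  haveI : Fact (Nat.Prime 2) := ⟨Nat.prime_two⟩
  choose N hN using fun a' : ℕ => Agent.S4718.result.{u} 2 a'
  refine ⟨(Finset.range (a + 1)).sup N, fun G _ _ M r hM ha hblk E hE hEc => ?_⟩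
  haveI := hM.2.1
  set K := Subgroup.centralizer (E : Set G) with hK
  have hEK : E ≤ K := Subgroup.le_centralizer_iff_isMulCommutative.2 hE
  have hEp : IsPGroup 2 E := IsPGroup.of_card hEc
  have hKfac : (Nat.card K).factorization 2 ≤ a :=
    ((Nat.factorization_le_iff_dvd Nat.card_pos.ne' Nat.card_pos.ne').2
      (Subgroup.card_subgroup_dvd_card K) 2).trans ha
  refine le_trans (hN _ K M hM rfl fun b hb => ?_)
    (Finset.le_sup (f := N) (Finset.mem_range.2 (Nat.lt_succ_of_le hKfac)))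
  by_contra hne
  have hKN : K ≤ Subgroup.normalizer (E : Set G) := Subgroup.centralizer_le_normalizer _
  obtain ⟨B, hB⟩ := Blocks.inducedBlockDefined_of_le hM.2.2 hEp le_rfl hKN hEK hb
  have hBne : B ≠ principalBlock M G := fun h => hne
    ((BlockCount.isInducedBlock_principal_iff hM.2.2 hEp rfl hEK hb).1 (h ▸ hB))
  obtain ⟨D, hD⟩ := Blocks.exists_defectGroup (p := 2) hb
  obtain ⟨D', hD', hle⟩ := Blocks.IsInducedBlock.exists_defectGroup_ge hM.2.2 hB hD
  haveI := Blocks.normal_subgroupOf_of_le_normalizer hKN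
  have h1 := Subgroup.card_le_of_le (Blocks.normal_le_defectGroup hM.2.2 hb
    (hEp.of_equiv (Subgroup.subgroupOfEquivOfLe hEK).symm) hD)
  have h2 := Subgroup.card_le_of_le hle
  rw [Nat.card_congr (Subgroup.subgroupOfEquivOfLe hEK).toEquiv, hEc] at h1
  rw [Subgroup.card_map_of_injective K.subtype_injective,
    Blocks.card_defectGroup hM.2.2 hB.2.1 hD'] at h2
  have h3 := (Nat.pow_le_pow_iff_right Nat.prime_two.one_lt).1 (h1.trans h2)
  exact absurd (hblk B hB.2.1 hBne) (not_lt.2 h3)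

theorem exists_double {G : Type u} [Group G] [Finite G] {F E : Subgroup G} (hFE : F ≤ E)
    (hexp : ∀ g ∈ E, g * g = 1) {x : G} (hxE : x ∈ E) (hxF : x ∉ F) :
    ∃ F' : Subgroup G, F ≤ F' ∧ F' ≤ E ∧ x ∈ F' ∧ Nat.card F' = 2 * Nat.card F ∧
      ∀ h ∈ F', h ∈ F ∨ x * h ∈ F := by
  have hinv : ∀ g ∈ E, g⁻¹ = g := fun g hg => inv_eq_of_mul_eq_one_right (hexp g hg)
  have hc : ∀ g ∈ E, ∀ h ∈ E, g * h = h * g := fun g hg h hh => by
    rw [← hinv _ (E.mul_mem hg hh), _root_.mul_inv_rev, hinv _ hg, hinv _ hh]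
  have hxx := hexp x hxE
  let F' : Subgroup G :=
    { carrier := {h | h ∈ E ∧ (h ∈ F ∨ x * h ∈ F)}
      one_mem' := ⟨E.one_mem, Or.inl F.one_mem⟩
      mul_mem' := by
        rintro g h ⟨hgE, hg⟩ ⟨hhE, hh⟩
        refine ⟨E.mul_mem hgE hhE, ?_⟩
        rcases hg with hg | hg <;> rcases hh with hh | hh
        · exact Or.inl (F.mul_mem hg hh)
        · refine Or.inr ?_
          rw [← mul_assoc, hc x hxE g hgE, mul_assoc]
          exact F.mul_mem hg hh
        · refine Or.inr ?_
          rw [← mul_assoc]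
          exact F.mul_mem hg hh
        · refine Or.inl ?_
          have := F.mul_mem hg hh
          rwa [hc x hxE g hgE, mul_assoc, ← mul_assoc x, hxx, one_mul] at this
      inv_mem' := by
        rintro g ⟨hgE, hg⟩
        rw [hinv g hgE]
        exact ⟨hgE, hg⟩ }
  have hmem : ∀ h, h ∈ F' ↔ h ∈ E ∧ (h ∈ F ∨ x * h ∈ F) := fun h => Iff.rfl
  refine ⟨F', fun h hh => (hmem h).2 ⟨hFE hh, Or.inl hh⟩, fun h hh => ((hmem h).1 hh).1,
    (hmem x).2 ⟨hxE, Or.inr (by rw [hxx]; exact F.one_mem)⟩, ?_, fun h hh => ((hmem h).1 hh).2⟩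
  have hxh : ∀ f : F, x * (x * (f : G)) = f := fun f => by rw [← mul_assoc, hxx, one_mul]
  let φ : F ⊕ F → F' := Sum.elim (fun f => ⟨f, (hmem _).2 ⟨hFE f.2, Or.inl f.2⟩⟩)
    (fun f => ⟨x * f, (hmem _).2 ⟨E.mul_mem hxE (hFE f.2), Or.inr (by rw [hxh]; exact f.2)⟩⟩)
  have hφ : Function.Bijective φ := by
    refine ⟨?_, fun ⟨h, hh⟩ => ?_⟩
    · rintro (f | f) (f' | f') h <;> simp only [φ, Sum.elim_inl, Sum.elim_inr, Subtype.mk.injEq] at h
      · rw [Subtype.ext h]
      · exact absurd (by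
          have := F.mul_mem f.2 (F.inv_mem f'.2)
          rwa [h, mul_inv_cancel_right] at this) hxF
      · exact absurd (by
          have := F.mul_mem f'.2 (F.inv_mem f.2)
          rwa [← h, mul_inv_cancel_right] at this) hxF
      · rw [Subtype.ext (mul_left_cancel h)]
    · rcases ((hmem h).1 hh).2 with hf | hf
      · exact ⟨Sum.inl ⟨h, hf⟩, rfl⟩
      · exact ⟨Sum.inr ⟨x * h, hf⟩, Subtype.ext (by
          simp only [φ, Sum.elim_inr]
          rw [← mul_assoc, hxx, one_mul])⟩
  rw [← Nat.card_eq_of_bijective φ hφ, Nat.card_sum, two_mul]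

/-- Three involutions of small centraliser in a four-group bound the group. -/
theorem exists_bound_four (a c : ℕ) : ∃ N : ℕ, ∀ (X : Type u) [Group X] [Finite X],
    (Nat.card X).factorization 2 ≤ a → ∀ x y : X, orderOf x = 2 → y * y = 1 → x * y = y * x →
    Nat.card (Subgroup.centralizer ({x} : Set X)) ≤ c →
    Nat.card (Subgroup.centralizer ({y} : Set X)) ≤ c →
    Nat.card (Subgroup.centralizer ({x * y} : Set X)) ≤ c → Nat.card X ≤ N := by
  obtain ⟨N, hN⟩ := BlockCount.exists_card_le_of_centralizer.{u} a (c * (c * c * c))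
  refine ⟨N * (c * c * c), fun X _ _ ha x y hx hy hxy hcx hcy hcxy => ?_⟩
  obtain ⟨R, ⟨hRn, hRodd⟩, hRmax⟩ := (Set.toFinite
    {R : Subgroup X | R.Normal ∧ Odd (Nat.card R)}).exists_maximal
    ⟨⊥, inferInstance, by rw [Subgroup.card_bot]; exact odd_one⟩
  haveI := hRn
  have hRc : Nat.card R ≤ c * c * c := BlockCount.card_le_of_four_group hRodd
    (by rw [← pow_two, ← hx, pow_orderOf_eq_one]) hy hxy (fun k hk => hRn.conj_mem k hk x)
    (fun k hk => hRn.conj_mem k hk y) hcx hcy hcxy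
  have hxR : x ∉ R := fun h => by
    have h1 := Subgroup.orderOf_dvd_natCard R h
    rw [hx] at h1
    obtain ⟨t, ht⟩ := hRodd
    omega
  have hxo : orderOf (x : X ⧸ R) = 2 := orderOf_eq_prime (by
    rw [← QuotientGroup.mk_pow, ← hx, pow_orderOf_eq_one]; rfl)
    (by rwa [ne_eq, QuotientGroup.eq_one_iff])
  have hQ : Nat.card (X ⧸ R) ≤ N := by
    refine hN (X ⧸ R) ?_ ?_ (x : X ⧸ R) hxo
      ((BlockCount.card_centralizer_quotient_le R x).trans (Nat.mul_le_mul hcx hRc))
    · refine le_trans ((Nat.factorization_le_iff_dvd Nat.card_pos.ne' Nat.card_pos.ne').2 ?_ 2) ha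
      exact Subgroup.card_quotient_dvd_card R
    · intro K hKn hKodd
      haveI := hKn
      set R' := K.comap (QuotientGroup.mk' R) with hR'
      have hRR' : R ≤ R' := fun r hr => by
        rw [hR', Subgroup.mem_comap, QuotientGroup.mk'_apply, (QuotientGroup.eq_one_iff r).2 hr]
        exact K.one_mem
      have hrel' : R.relIndex R' = Nat.card K := by
        have h := Subgroup.relIndex_ker (K := R') (QuotientGroup.mk' R)
        rwa [QuotientGroup.ker_mk', hR',
          Subgroup.map_comap_eq_self_of_surjective (QuotientGroup.mk'_surjective R)] at h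
      have hle := hRmax ⟨inferInstance, by
        rw [← Subgroup.relIndex_bot_left, ← Subgroup.relIndex_mul_relIndex ⊥ R R' bot_le hRR',
          hrel', Subgroup.relIndex_bot_left]
        exact hRodd.mul hKodd⟩ hRR'
      rw [← Subgroup.map_comap_eq_self_of_surjective (QuotientGroup.mk'_surjective R) K,
        Subgroup.map_eq_bot_iff, QuotientGroup.ker_mk']
      exact hle
  rw [Subgroup.card_eq_card_quotient_mul_card_subgroup R]
  exact Nat.mul_le_mul hQ hRc

/-- The descending chain of centralisers. -/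
theorem exists_bound_level (a j : ℕ) : ∃ N : ℕ, ∀ (G : Type u) [Group G] [Finite G]
    (M : Ideal AlgInt) (r : ℕ), IsPModular 2 M → (Nat.card G).factorization 2 ≤ a →
    (∀ B : Set (IrrCharacter G), IsPBlock M B → B ≠ principalBlock M G → blockDefect 2 B < r) →
    ∀ E F : Subgroup G, F ≤ E → (∀ g ∈ E, g * g = 1) → Nat.card E = 2 ^ (r + 1) → j ≤ r →
      Nat.card F = 2 ^ (r - j) → Nat.card (Subgroup.centralizer (F : Set G)) ≤ N := by
  induction j with
  | zero =>
    obtain ⟨N, hN⟩ := exists_bound_hyperplane.{u} a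
    refine ⟨N, fun G _ _ M r hM ha hblk E F hFE hexp _ _ hF => hN G M r hM ha hblk F ?_ hF⟩
    refine ⟨⟨fun g h => Subtype.ext ?_⟩⟩
    have hinv : ∀ g ∈ E, g⁻¹ = g := fun g hg => inv_eq_of_mul_eq_one_right (hexp g hg)
    show (g : G) * h = h * g
    rw [← hinv _ (E.mul_mem (hFE g.2) (hFE h.2)), _root_.mul_inv_rev, hinv _ (hFE g.2),
      hinv _ (hFE h.2)]
  | succ j ih =>
    obtain ⟨c, hc⟩ := ih
    obtain ⟨N, hN⟩ := exists_bound_four.{u} a c
    refine ⟨N, fun G _ _ M r hM ha hblk E F hFE hexp hEc hj hF => ?_⟩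
    have hpick : ∀ T : Subgroup G, T ≤ E → Nat.card T < Nat.card E → ∃ x ∈ E, x ∉ T := by
      intro T _ hT
      by_contra h
      simp only [not_exists, not_and, not_not] at h
      exact absurd (Subgroup.card_le_of_le (show E ≤ T from fun g hg => h g hg)) (not_le.2 hT)
    have hlt : 2 * Nat.card F < Nat.card E := by
      rw [hF, hEc, ← pow_succ']
      exact Nat.pow_lt_pow_right Nat.one_lt_two (by omega)
    obtain ⟨x, hxE, hxF⟩ := hpick F hFE (by omega)
    obtain ⟨F₁, hFF₁, hF₁E, hxF₁, hF₁c, -⟩ := exists_double hFE hexp hxE hxF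
    obtain ⟨y, hyE, hyF₁⟩ := hpick F₁ hF₁E (by omega)
    have hcm : ∀ g ∈ E, ∀ h ∈ E, g * h = h * g := fun g hg h hh => by
      rw [← inv_eq_of_mul_eq_one_right (hexp _ (E.mul_mem hg hh)), _root_.mul_inv_rev,
        inv_eq_of_mul_eq_one_right (hexp g hg), inv_eq_of_mul_eq_one_right (hexp h hh)]
    set X := Subgroup.centralizer (F : Set G) with hX
    have hEX : ∀ g ∈ E, g ∈ X := fun g hg =>
      Subgroup.mem_centralizer_iff.2 fun f hf => hcm f (hFE hf) g hg
    have hsmall : ∀ z (hz : z ∈ E), z ∉ F →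
        Nat.card (Subgroup.centralizer ({(⟨z, hEX z hz⟩ : X)} : Set X)) ≤ c := by
      intro z hz hzF
      obtain ⟨F', hFF', hF'E, hzF', hF'c, hF'mem⟩ := exists_double hFE hexp hz hzF
      refine le_trans ?_ (hc G M r hM ha hblk E F' hF'E hexp hEc (by omega) (by
        rw [hF'c, hF, ← pow_succ']
        congr 1
        omega))
      refine Nat.card_le_card_of_injective (fun q => ⟨((q.1 : X) : G), ?_⟩)
        fun q q' h => Subtype.ext (Subtype.ext (congrArg Subtype.val h :))
      rw [Subgroup.mem_centralizer_iff]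
      intro f hf
      -- `f` lies in `F` or `z * f` does
      have hq : z * ((q.1 : X) : G) = ((q.1 : X) : G) * z :=
        (congrArg Subtype.val (Subgroup.mem_centralizer_singleton_iff.1 q.2)).symm
      by_cases hfF : f ∈ F
      · exact Subgroup.mem_centralizer_iff.1 q.1.2 f hfF
      · obtain ⟨f₀, hf₀, rfl⟩ : ∃ f₀ ∈ F, z * f₀ = f := by
          exact ⟨z * f, (hF'mem f hf).resolve_left hfF, by rw [← mul_assoc, hexp z hz, one_mul]⟩
        calc z * f₀ * ((q.1 : X) : G) = z * (f₀ * ((q.1 : X) : G)) := mul_assoc _ _ _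
          _ = z * (((q.1 : X) : G) * f₀) := by rw [Subgroup.mem_centralizer_iff.1 q.1.2 f₀ hf₀]
          _ = ((q.1 : X) : G) * z * f₀ := by rw [← mul_assoc, hq]
          _ = ((q.1 : X) : G) * (z * f₀) := mul_assoc _ _ _
    refine hN X ?_ ⟨x, hEX x hxE⟩ ⟨y, hEX y hyE⟩ ?_ (Subtype.ext (hexp y hyE))
      (Subtype.ext (hcm x hxE y hyE)) (hsmall x hxE hxF)
      (hsmall y hyE fun h => hyF₁ (hFF₁ h)) ?_
    · exact le_trans ((Nat.factorization_le_iff_dvd Nat.card_pos.ne' Nat.card_pos.ne').2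
        (Subgroup.card_subgroup_dvd_card X) 2) ha
    · rw [Subgroup.orderOf_mk]
      exact orderOf_eq_prime (by rw [pow_two]; exact hexp x hxE) fun h => hxF (h ▸ F.one_mem)
    · exact hsmall (x * y) (E.mul_mem hxE hyE) fun h => hyF₁ (by
        have := F₁.mul_mem hxF₁ (hFF₁ h)
        rwa [← mul_assoc, hexp x hxE, one_mul] at this)


/-- For every natural number a there is a bound N with the following property. Let G be a finite group with Sylow 2-subgroups of order 2^a and r ≥ 0 such that G has no non-principal 2-block (relative to a maximal ideal of the algebraic integers containing 2) of defect ≥ r, and suppose a Sylow 2-subgroup of G contains an elementary abelian subgroup of order 2^(r+1). Then the order of G is at most N. -/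
theorem result (a : ℕ) : ∃ N : ℕ, ∀ (G : Type u) [Group G] [Finite G] (M : Ideal Cfsg.AlgInt) (r : ℕ) (P : Sylow 2 G), Cfsg.IsPModular 2 M → Nat.card P = 2 ^ a → (∀ B : Set (Cfsg.IrrCharacter G), Cfsg.IsPBlock M B → B ≠ Cfsg.principalBlock M G → Cfsg.blockDefect 2 B < r) → (∃ E : Subgroup G, E ≤ (P : Subgroup G) ∧ IsMulCommutative E ∧ (∀ x ∈ E, x * x = 1) ∧ Nat.card E = 2 ^ (r + 1)) → Nat.card G ≤ N := by
  haveI : Fact (Nat.Prime 2) := ⟨Nat.prime_two⟩
  choose N hN using exists_bound_level.{u} a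
  refine ⟨(Finset.range (a + 1)).sup N, fun G _ _ M r P hM hP hblk hE => ?_⟩
  obtain ⟨E, hEP, -, hexp, hEc⟩ := hE
  have hfac : (Nat.card G).factorization 2 = a :=
    Nat.pow_right_injective le_rfl (P.card_eq_multiplicity.symm.trans hP)
  have hr : r + 1 ≤ a := (Nat.pow_le_pow_iff_right Nat.one_lt_two).1 (by
    rw [← hEc, ← hP]; exact Subgroup.card_le_of_le hEP)
  have h := hN r G M r hM hfac.le hblk E ⊥ bot_le hexp hEc le_rfl
    (by rw [Subgroup.card_bot, Nat.sub_self, pow_zero])
  rw [show Subgroup.centralizer (((⊥ : Subgroup G) : Set G)) = ⊤ by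
    rw [eq_top_iff]; intro g _; rw [Subgroup.mem_centralizer_iff]; intro t ht
    rw [Subgroup.mem_bot.1 ht, one_mul, mul_one], Subgroup.card_top] at h
  exact h.trans (Finset.le_sup (f := N) (Finset.mem_range.2 (by omega)))

end Cfsg.Agent.S4719
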