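import Cfsg.Statements.S4721
import Cfsg.Agent.Lib.DefectOne.Three
import Cfsg.Agent.S4709
-- import your own Cfsg.Agent.* helpers here

set_option autoImplicit false
open Cfsg

namespace Cfsg.Agent.S4721

set_option linter.style.haveILetI false

open scoped Classical ComplexConjugate
open Cfsg Cfsg.Agent

theorem final {G : Type*} [Group G] [Fintype G] {p : ℕ} [hp : Fact p.Prime] {P : Sylow p G}
    {M : Ideal AlgInt} [M.IsMaximal] (hpM : (p : AlgInt) ∈ M) (h : DefectOne.FreeData P)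
    (hm : (Subgroup.centralizer ((P : Subgroup G) : Set G)).relIndex
      (Subgroup.normalizer ((P : Subgroup G) : Set G)) = 3) (hr : 3 + 1 < Nat.card P)
    {X : Finset (IrrCharacter G)} {a : IrrCharacter G → ℤ} {δ : ℤ}
    {f : IrrCharacter (P : Subgroup G) → IrrCharacter G}
    (hδ : δ = 1 ∨ δ = -1) (hX : X.card = 3) (htriv : Char.trivialChar G ∈ X)
    (ha1 : a (Char.trivialChar G) = 1)
    (hXB : ∀ χ ∈ X, χ ∈ principalBlock M G)
    (hXv : ∀ χ ∈ X, (a χ = 1 ∨ a χ = -1) ∧ ∀ y : (P : Subgroup G), y ≠ 1 → χ.1 y = a χ)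
    (hfmem : ∀ l, l ≠ Char.trivialChar _ → f l ∈ principalBlock M G ∧ f l ∉ X)
    (hfsurj : ∀ χ ∈ principalBlock M G, χ ∉ X → ∃ l, l ≠ Char.trivialChar _ ∧ f l = χ)
    (hfeq : ∀ l μ, l ≠ Char.trivialChar _ → μ ≠ Char.trivialChar _ →
      (f l = f μ ↔ DefectOne.NConj P l μ))
    (hfval : ∀ l, l ≠ Char.trivialChar _ → ∀ y : (P : Subgroup G), y ≠ 1 → (f l).1 y =
      δ * ∑ μ ∈ Finset.univ.filter (fun μ => DefectOne.NConj P μ l), μ.1 y)
    (hcard : ((principalBlock M G).toFinset \ X).card * 3 + 1 = Nat.card P)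
    (hagree : ∀ χ ∈ principalBlock M G, χ ∉ X → ∀ χ' ∈ principalBlock M G, χ' ∉ X → ∀ g,
      IsPRegular p g → χ.1 g = χ'.1 g)
    (hrel : ∀ χ₀ ∈ principalBlock M G, χ₀ ∉ X → ∀ g, IsPRegular p g →
      ∑ χ ∈ X, (a χ : ℂ) * χ.1 g = (δ : ℂ) * χ₀.1 g)
    {t : G} (ht : orderOf t = 2) (hgen : ∀ K : Subgroup G, K.Normal → t ∈ K → K = ⊤)
    {η₀ : IrrCharacter G} (hη₀ : η₀ ∈ principalBlock M G) (hη₀X : η₀ ∉ X) :
    ((X.erase (Char.trivialChar G)).filter (fun χ => a χ = -1)).card + (if δ = 1 then 1 else 0) = 2 ∧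
      IsSquare (Char.degree η₀ * ∏ χ ∈ X.erase (Char.trivialChar G), Char.degree χ) := by
  obtain ⟨χ₂, χ₃, h23, hX'⟩ := Finset.card_eq_two.1
    (show (X.erase (Char.trivialChar G)).card = 2 by rw [Finset.card_erase_of_mem htriv, hX])
  have h2 : χ₂ ≠ Char.trivialChar G ∧ χ₂ ∈ X :=
    Finset.mem_erase.1 (hX' ▸ Finset.mem_insert_self _ _)
  have h3 : χ₃ ≠ Char.trivialChar G ∧ χ₃ ∈ X :=
    Finset.mem_erase.1 (hX' ▸ Finset.mem_insert_of_mem (Finset.mem_singleton_self _))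
  have hsumX : ∀ F : IrrCharacter G → ℂ,
      ∑ χ ∈ X, F χ = F (Char.trivialChar G) + (F χ₂ + F χ₃) := fun F => by
    rw [← Finset.add_sum_erase _ _ htriv, hX', Finset.sum_pair h23]
  set Y := (principalBlock M G).toFinset \ X with hY
  have hmemY : ∀ χ, χ ∈ Y ↔ χ ∈ principalBlock M G ∧ χ ∉ X := fun χ => by
    rw [hY, Finset.mem_sdiff, Set.mem_toFinset]
  set x := Char.degree χ₂ with hx
  set y' := Char.degree χ₃ with hy'
  set v := Char.degree η₀ with hv
  have htriv1 : ∀ g, (Char.trivialChar G).1 g = 1 := fun _ => rfl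
  have hone : IsPRegular p (1 : G) := by simp [IsPRegular, hp.out.ne_one]
  have hdegY : ∀ η ∈ Y, η.1 1 = (v : ℂ) := fun η hη => by
    rw [hv, ← Char.apply_one_eq_degree]
    exact hagree η ((hmemY η).1 hη).1 ((hmemY η).1 hη).2 η₀ hη₀ hη₀X 1 hone
  have e1 := hrel η₀ hη₀ hη₀X 1 hone
  rw [hsumX, htriv1, ha1, Char.apply_one_eq_degree χ₂, Char.apply_one_eq_degree χ₃,
    Char.apply_one_eq_degree η₀, ← hx, ← hy', ← hv, Int.cast_one, one_mul] at e1
  obtain ⟨y, hy, hy1, hgood, hyE⟩ := h.exists_good hm hr hcard ht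
  have hcore := DefectOne.core_relation hpM ht (h.exists_pow_orderOf hy) hgood
  set yP : (P : Subgroup G) := ⟨y, hy⟩ with hyP
  have hyP1 : yP ≠ 1 := fun e => hy1 (congrArg Subtype.val e)
  have hsub : X ⊆ (principalBlock M G).toFinset := fun χ hχ => Set.mem_toFinset.2 (hXB χ hχ)
  rw [← Finset.sum_sdiff hsub, hsumX, ← hY,
    show χ₂.1 y = (a χ₂ : ℂ) from (hXv χ₂ h2.2).2 yP hyP1,
    show χ₃.1 y = (a χ₃ : ℂ) from (hXv χ₃ h3.2).2 yP hyP1, htriv1, htriv1, htriv1, one_mul, div_one,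
    one_mul, Char.apply_one_eq_degree χ₂, Char.apply_one_eq_degree χ₃, ← hx, ← hy'] at hcore
  have hx0 : (x : ℂ) ≠ 0 := Nat.cast_ne_zero.2 (Char.degree_pos χ₂).ne'
  have hy0 : (y' : ℂ) ≠ 0 := Nat.cast_ne_zero.2 (Char.degree_pos χ₃).ne'
  have hv0 : (v : ℂ) ≠ 0 := Nat.cast_ne_zero.2 (Char.degree_pos η₀).ne'
  have hfib : ∀ η ∈ Y, ∀ F : IrrCharacter (P : Subgroup G) → ℂ, ∀ l, l ≠ Char.trivialChar _ → f l = η →
      ∑ μ ∈ (Finset.univ.filter fun μ => μ ≠ Char.trivialChar (P : Subgroup G)).filter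
        (fun μ => f μ = η), F μ = ∑ μ ∈ Finset.univ.filter (fun μ => DefectOne.NConj P μ l), F μ := by
    intro η _ F l hl hlη
    refine Finset.sum_congr (Finset.ext fun μ => ?_) fun _ _ => rfl
    simp only [Finset.mem_filter, Finset.mem_univ, true_and]
    constructor
    · rintro ⟨hμ, e⟩; exact (hfeq μ l hμ hl).1 (e.trans hlη.symm)
    · intro hc
      have hμ : μ ≠ Char.trivialChar _ := fun e => by
        obtain ⟨n, hn⟩ := DefectOne.nConj_iff.1 hc
        subst e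
        exact hl (DefectOne.nChar_eq_trivial_iff.1 hn)
      exact ⟨hμ, ((hfeq μ l hμ hl).2 hc).trans hlη⟩
  by_cases hp2 : p = 2
  · -- impossible
    exfalso
    subst hp2
    obtain ⟨Q, hQ⟩ := (IsPGroup.of_card (p := 2) (n := 1)
      (show Nat.card (Subgroup.zpowers t) = 2 ^ 1 by rw [Nat.card_zpowers, ht, pow_one])).exists_le_sylow
    obtain ⟨g, hg⟩ := MulAction.exists_smul_eq G Q P
    have hb : g * t * g⁻¹ ∈ (P : Subgroup G) := by
      rw [← hg, Sylow.coe_subgroup_smul]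
      exact ⟨t, hQ (Subgroup.mem_zpowers t), rfl⟩
    set b : (P : Subgroup G) := ⟨g * t * g⁻¹, hb⟩ with hbdef
    have hbt : ∀ χ : IrrCharacter G, χ.1 t = χ.1 (b : G) := fun χ => (Blocks.irr_classFun χ t g).symm
    have hb1 : b ≠ 1 := fun e => by
      have := congrArg Subtype.val e
      simp only [hbdef, OneMemClass.coe_one, conj_eq_one_iff] at this
      rw [this, orderOf_one] at ht
      exact one_ne_zero (Nat.succ_injective ht).symm
    have hinvb : ∀ n : Subgroup.normalizer ((P : Subgroup G) : Set G),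
        IsConj t (DefectOne.nAct P n b : G) := fun n => by
      rw [DefectOne.nAct_coe]
      exact (isConj_iff.2 ⟨g, rfl⟩ : IsConj t (g * t * g⁻¹)).trans (isConj_iff.2 ⟨(n : G), rfl⟩)
    have htt : t * t = 1 := by rw [← pow_two, ← ht, pow_orderOf_eq_one]
    have hsq : ∀ τ, IsConj t τ → τ⁻¹ = τ := fun τ hτ => by
      obtain ⟨c, rfl⟩ := isConj_iff.1 hτ
      rw [show (c * t * c⁻¹)⁻¹ = c * t⁻¹ * c⁻¹ by group, inv_eq_of_mul_eq_one_right htt]
    have htriple := h.sum_triple hm (a := b) (y := yP) fun n n' e => by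
      have e' : (DefectOne.nAct P n b : G) * (DefectOne.nAct P n' b : G) * y = 1 :=
        congrArg Subtype.val e
      refine hyE _ _ (hinvb n') (hinvb n) (DefectOne.nAct P n' b).2 (DefectOne.nAct P n b).2 ?_
      rw [← hsq _ (hinvb n'), ← hsq _ (hinvb n), ← mul_inv_rev]
      exact inv_eq_of_mul_eq_one_right e'
    have hYsum : ∑ η ∈ Y, η.1 t * η.1 t / η.1 1 * η.1 y = -9 * (δ : ℂ) / v := by
      rw [Finset.sum_congr rfl fun η hη => show η.1 t * η.1 t / η.1 1 * η.1 y =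
          (η.1 (b : G) ^ 2 * η.1 y) / (v : ℂ) by rw [hdegY η hη, hbt]; ring, ← Finset.sum_div]
      congr 1
      rw [← htriple, Finset.sum_mul,
        ← Finset.sum_fiberwise_of_maps_to (g := f) (t := Y) fun μ hμ =>
          (hmemY _).2 (hfmem μ (Finset.mem_filter.1 hμ).2)]
      refine Finset.sum_congr rfl fun η hη => ?_
      obtain ⟨l, hl, hlη⟩ := hfsurj η ((hmemY η).1 hη).1 ((hmemY η).1 hη).2
      subst hlη
      set θb := ∑ ν ∈ Finset.univ.filter (fun ν => DefectOne.NConj P ν l), ν.1 b with hθb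
      rw [hfval l hl b hb1, show (f l).1 y = (f l).1 (yP : G) from rfl, hfval l hl yP hyP1, ← hθb,
        hfib (f l) hη _ l hl rfl]
      symm
      rw [Finset.sum_congr rfl (g := fun μ => (δ : ℂ) * θb ^ 2 * μ.1 yP) fun μ hμ => ?_]
      · rw [← Finset.mul_sum]
        rcases hδ with e | e <;> rw [e] <;> push_cast <;> ring
      · have hconj := (Finset.mem_filter.1 hμ).2
        rw [show (Finset.univ.filter fun ν => DefectOne.NConj P ν μ) =
          Finset.univ.filter (fun ν => DefectOne.NConj P ν l) from Finset.filter_congr fun ν _ =>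
            ⟨fun hh => DefectOne.nConj_equivalence.trans hh hconj,
              fun hh => DefectOne.nConj_equivalence.trans hh (DefectOne.nConj_equivalence.symm hconj)⟩]
        ring
    have hu : ∀ χ ∈ X, χ.1 t = (a χ : ℂ) := fun χ hχ => by rw [hbt]; exact (hXv χ hχ).2 b hb1
    rw [hYsum, hu χ₂ h2.2, hu χ₃ h3.2] at hcore
    -- congruences
    set q := Nat.card P with hq
    have hq16 : 16 ≤ q := by
      obtain ⟨k, hk⟩ := P.isPGroup'.exists_card_eq
      have hq2 : q = 2 ^ k := hk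
      rw [hq2] at hr hcard ⊢
      rcases Nat.lt_or_ge k 4 with hlt | hge
      · interval_cases k <;> omega
      · exact (show (16 : ℕ) = 2 ^ 4 by norm_num) ▸ Nat.pow_le_pow_right (by norm_num) hge
    have hXcong : ∀ χ ∈ X, (q : ℤ) ∣ (Char.degree χ : ℤ) - a χ := by
      intro χ hχ
      obtain ⟨n, hn⟩ := DefectOne.sum_P_dvd (P := P) χ
      rw [← Finset.add_sum_erase _ _ (Finset.mem_univ (1 : (P : Subgroup G))),
        Finset.sum_congr rfl fun w hw => (hXv χ hχ).2 w (Finset.mem_erase.1 hw).1, Finset.sum_const,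
        Finset.card_erase_of_mem (Finset.mem_univ _), Finset.card_univ, ← Nat.card_eq_fintype_card,
        OneMemClass.coe_one, Char.apply_one_eq_degree, nsmul_eq_mul, Nat.cast_sub Nat.card_pos,
        Nat.cast_one, ← hq] at hn
      refine ⟨(n : ℤ) - a χ, ?_⟩
      rw [← Int.cast_inj (α := ℂ)]
      push_cast
      linear_combination hn
    have hvcong : (q : ℤ) ∣ (v : ℤ) - 3 * δ := by
      obtain ⟨l, hl, hlη⟩ := hfsurj η₀ hη₀ hη₀X
      obtain ⟨n, hn⟩ := DefectOne.sum_P_dvd (P := P) η₀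
      rw [← Finset.add_sum_erase _ _ (Finset.mem_univ (1 : (P : Subgroup G))),
        Finset.sum_congr rfl (g := fun w : (P : Subgroup G) => (δ : ℂ) *
            ∑ μ ∈ Finset.univ.filter (fun μ => DefectOne.NConj P μ l), μ.1 w) (fun w hw => by
          rw [← hfval l hl w (Finset.mem_erase.1 hw).1, hlη]),
        ← Finset.mul_sum, Finset.sum_comm, Finset.sum_congr rfl (g := fun _ => (-1 : ℂ)) (fun μ hμ => ?_), Finset.sum_const,
        h.card_orbit hm hl, OneMemClass.coe_one, Char.apply_one_eq_degree, ← hv, ← hq] at hn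
      · refine ⟨(n : ℤ), ?_⟩
        rw [← Int.cast_inj (α := ℂ)]
        push_cast
        simp only [nsmul_eq_mul] at hn
        push_cast at hn
        linear_combination hn
      · have hμ1 : μ ≠ Char.trivialChar _ := fun e => by
          obtain ⟨n', hn'⟩ := DefectOne.nConj_iff.1 (Finset.mem_filter.1 hμ).2
          subst e
          exact hl (DefectOne.nChar_eq_trivial_iff.1 hn')
        show ∑ w ∈ Finset.univ.erase (1 : (P : Subgroup G)), μ.1 w = -1
        have := Char.sum_apply_eq_zero hμ1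
        rw [← Finset.add_sum_erase _ _ (Finset.mem_univ (1 : (P : Subgroup G))), h.linear μ] at this
        linear_combination this
    have hbig : ∀ χ ∈ X, χ ≠ Char.trivialChar G → 15 ≤ Char.degree χ := by
      intro χ hχ hne
      obtain ⟨j, hj⟩ := hXcong χ hχ
      have hpos := Char.degree_pos χ
      rcases eq_or_ne j 0 with rfl | hj0
      · rcases (hXv χ hχ).1 with e | e
        · refine absurd (DefectOne.eq_trivial_of_kernel hgen χ ?_) hne
          rw [hu χ hχ, Char.apply_one_eq_degree, e, show Char.degree χ = 1 by rw [e] at hj; omega]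
          simp
        · rw [e] at hj; omega
      · have hq' : (16 : ℤ) ≤ q := by exact_mod_cast hq16
        rcases lt_or_gt_of_ne hj0 with hneg | hpos'
        · have : (q : ℤ) * j ≤ (q : ℤ) * (-1) := mul_le_mul_of_nonneg_left (by omega) (by omega)
          rcases (hXv χ hχ).1 with e | e <;> omega
        · have : (q : ℤ) * 1 ≤ (q : ℤ) * j := mul_le_mul_of_nonneg_left (by omega) (by omega)
          rcases (hXv χ hχ).1 with e | e <;> omega
    have hxb : (15 : ℤ) ≤ x := by exact_mod_cast hbig χ₂ h2.2 h2.1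
    have hyb : (15 : ℤ) ≤ y' := by exact_mod_cast hbig χ₃ h3.2 h3.1
    have hvb : (v : ℤ) = 3 ∧ δ = 1 ∨ 13 ≤ (v : ℤ) := by
      obtain ⟨j, hj⟩ := hvcong
      have hpos : (1 : ℤ) ≤ v := by exact_mod_cast Char.degree_pos η₀
      rcases eq_or_ne j 0 with rfl | hj0
      · rcases hδ with e | e <;> rw [e] at hj <;> [left; skip] <;> omega
      · right
        have hq' : (16 : ℤ) ≤ q := by exact_mod_cast hq16
        rcases lt_or_gt_of_ne hj0 with hneg | hpos'
        · have : (q : ℤ) * j ≤ (q : ℤ) * (-1) := mul_le_mul_of_nonneg_left (by omega) (by omega)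
          omega
        · have : (q : ℤ) * 1 ≤ (q : ℤ) * j := mul_le_mul_of_nonneg_left (by omega) (by omega)
          omega
    have hint : (x : ℤ) * y' * v + a χ₂ * y' * v + a χ₃ * x * v = 9 * δ * x * y' := by
      have hsqa : ∀ χ ∈ X, (a χ : ℂ) * (a χ : ℂ) = 1 := fun χ hχ => by
        rcases (hXv χ hχ).1 with e | e <;> rw [e] <;> norm_num
      have s2 := hsqa χ₂ h2.2
      have s3 := hsqa χ₃ h3.2
      rw [← Int.cast_inj (α := ℂ)]
      push_cast
      field_simp at hcore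
      linear_combination hcore - ((a χ₂ : ℂ) * y' * v) * s2 - ((a χ₃ : ℂ) * x * v) * s3
    have hvx : (0 : ℤ) ≤ (v : ℤ) := Int.natCast_nonneg _
    rcases hvb with ⟨e1, e2⟩ | hvb
    · rw [e1, e2] at hint
      rcases (hXv χ₂ h2.2).1 with ea | ea <;> rcases (hXv χ₃ h3.2).1 with eb | eb <;>
        rw [ea, eb] at hint <;> nlinarith
    · rcases (hXv χ₂ h2.2).1 with ea | ea <;> rcases (hXv χ₃ h3.2).1 with eb | eb <;>
        rcases hδ with ed | ed <;> rw [ea, eb, ed] at hint <;>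
        nlinarith [mul_le_mul_of_nonneg_right hvb (by positivity : (0 : ℤ) ≤ (x : ℤ) * y'),
          mul_le_mul_of_nonneg_right hxb (by positivity : (0 : ℤ) ≤ (y' : ℤ) * v),
          mul_le_mul_of_nonneg_right hyb (by positivity : (0 : ℤ) ≤ (x : ℤ) * v)]
  -- `p` odd
  have htreg : IsPRegular p t := by
    rw [IsPRegular, ht]
    exact fun hd => hp2 ((Nat.prime_dvd_prime_iff_eq hp.out Nat.prime_two).1 hd)
  obtain ⟨u, hu⟩ := DefectOne.exists_int_apply ht χ₂
  obtain ⟨w, hw⟩ := DefectOne.exists_int_apply ht χ₃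
  obtain ⟨z, hz⟩ := DefectOne.exists_int_apply ht η₀
  have e2 := hrel η₀ hη₀ hη₀X t htreg
  rw [hsumX, htriv1, ha1, hu, hw, hz, Int.cast_one, one_mul] at e2
  have hYsum : ∑ η ∈ Y, η.1 t * η.1 t / η.1 1 * η.1 y = -(δ : ℂ) * ((z : ℂ) * z / v) := by
    rw [Finset.sum_congr rfl fun η hη => show η.1 t * η.1 t / η.1 1 * η.1 y = (z : ℂ) * z / v * η.1 y by
      rw [hdegY η hη, hagree η ((hmemY η).1 hη).1 ((hmemY η).1 hη).2 η₀ hη₀ hη₀X t htreg, hz],
      ← Finset.mul_sum, mul_comm]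
    congr 1
    rw [← neg_one_mul (δ : ℂ), ← h.sum_nontrivial hyP1, Finset.sum_mul,
      ← Finset.sum_fiberwise_of_maps_to (g := f) (t := Y) fun μ hμ =>
        (hmemY _).2 (hfmem μ (Finset.mem_filter.1 hμ).2)]
    refine Finset.sum_congr rfl fun η hη => ?_
    obtain ⟨l, hl, hlη⟩ := hfsurj η ((hmemY η).1 hη).1 ((hmemY η).1 hη).2
    subst hlη
    rw [show (f l).1 y = (f l).1 (yP : G) from rfl, hfval l hl yP hyP1,
      hfib (f l) hη _ l hl rfl, ← Finset.sum_mul, mul_comm]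
  rw [hYsum, hu, hw] at hcore
  have hA : (x : ℤ) - u ≠ 0 := fun e => h2.1 (DefectOne.eq_trivial_of_kernel hgen χ₂ (by
    rw [hu, Char.apply_one_eq_degree, ← hx, show u = (x : ℤ) by linarith]; push_cast; rfl))
  have hB : (y' : ℤ) - w ≠ 0 := fun e => h3.1 (DefectOne.eq_trivial_of_kernel hgen χ₃ (by
    rw [hw, Char.apply_one_eq_degree, ← hy', show w = (y' : ℤ) by linarith]; push_cast; rfl))
  have hC : (v : ℤ) - z ≠ 0 := fun e => hη₀X (by
    rw [DefectOne.eq_trivial_of_kernel hgen η₀ (by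
      rw [hz, Char.apply_one_eq_degree, ← hv, show z = (v : ℤ) by linarith]; push_cast; rfl)]
    exact htriv)
  have i1 : 1 + a χ₂ * x + a χ₃ * y' + (-δ) * v = 0 := by
    rw [← Int.cast_inj (α := ℂ)]; push_cast; linear_combination e1
  have i2 : a χ₂ * ((x : ℤ) - u) + a χ₃ * ((y' : ℤ) - w) + (-δ) * ((v : ℤ) - z) = 0 := by
    rw [← Int.cast_inj (α := ℂ)]; push_cast; linear_combination e1 - e2
  have i3 : a χ₂ * ((x : ℤ) - u) ^ 2 * y' * v + a χ₃ * ((y' : ℤ) - w) ^ 2 * x * v +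
      (-δ) * ((v : ℤ) - z) ^ 2 * x * y' = 0 := by
    rw [← Int.cast_inj (α := ℂ)]
    push_cast
    field_simp at hcore
    linear_combination ((x : ℂ) * y' * v) * e1 - 2 * ((x : ℂ) * y' * v) * e2 + hcore
  obtain ⟨hcount, hsquare⟩ := DefectOne.signs_of_relations (Char.degree_pos χ₂) (Char.degree_pos χ₃)
    (Char.degree_pos η₀) hA hB hC (hXv χ₂ h2.2).1 (hXv χ₃ h3.2).1 (by omega) i1 i2 i3
  rw [hX', Finset.prod_pair h23]
  refine ⟨?_, hsquare⟩
  rw [Finset.filter_insert, Finset.filter_singleton, show (if δ = 1 then 1 else 0 : ℕ) =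
    if -δ = -1 then 1 else 0 from if_congr (by omega) rfl rfl, ← hcount]
  split_ifs <;> simp_all

/-- Let p be a prime, M a maximal ideal of the algebraic integers containing p, and G a finite group with a nontrivial abelian Sylow p-subgroup P, N = N_G(P), C = C_G(P), such that N/C is cyclic of order 3, #P > 4, and C_G(y) ∩ N = C for every non-identity y ∈ P. Then the principal p-block is the disjoint union of a set X of exactly 3 characters containing the principal character and a set Y of (#P − 1)/3 characters, with signs a_χ = ±1 (χ ∈ X, a = 1 at the principal character) and δ = ±1 such that every χ ∈ X takes the value a_χ at every element whose p-part is a non-identity element of P, and there is a map ζ from the non-principal linear characters of P onto Y, constant on N-conjugacy classes, with ζ_ψ(z) = δ·Σ ψ'(y) over the N-orbit of ψ, for z with p-part y ≠ 1 in P. If moreover G has an involution lying in no proper normal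 subgroup of G, then exactly two of the three numbers −δ and a_χ (χ ∈ X non-principal) equal −1, and the product of the degrees of the two non-principal members of X and of any member of Y is a perfect square. -/
theorem result {G : Type*} [Group G] [Finite G] (p : ℕ) [Fact p.Prime] (M : Ideal Cfsg.AlgInt) (hM : Cfsg.IsPModular p M) (P : Sylow p G) (hab : IsMulCommutative P) (hP1 : Nat.card P ≠ 1) (hCN : (Subgroup.centralizer ((P : Subgroup G) : Set G)).relIndex (Subgroup.normalizer ((P : Subgroup G) : Set G)) = 3) (hcyc : ∃ g : G, g ∈ Subgroup.normalizer ((P : Subgroup G) : Set G) ∧ Subgroup.centralizer ((P : Subgroup G) : Set G) ⊔ Subgroup.zpowers g = Subgroup.normalizer ((P : Subgroup G) : Set G)) (hm2 : 3 + 1 < Nat.card P) (hfrob : ∀ y : G, y ∈ (P : Subgroup G) → y ≠ 1 → Subgroup.centralizer ({y} : Set G) ⊓ Subgroup.normalizer ((P : Subgroup G) : Set G) = Subgroup.centralizer ((P : Subgroup G) : Set G)) : ∃ (X Y : Set (Cfsg.IrrCharacter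 G)), Cfsg.principalBlock M G = X ∪ Y ∧ Disjoint X Y ∧ Nat.card X = 3 ∧ Nat.card Y = (Nat.card P - 1) / 3 ∧ (∃ χ₁ ∈ X, (χ₁ : G → ℂ) = fun _ => 1) ∧ ∃ (a : Cfsg.IrrCharacter G → ℤ) (δ : ℤ) (ζ : (↥(P : Subgroup G) →* ℂˣ) → Cfsg.IrrCharacter G), (δ = 1 ∨ δ = -1) ∧ (∀ χ ∈ X, (a χ = 1 ∨ a χ = -1) ∧ ∀ z y : G, Cfsg.IsPPart p z y → y ∈ (P : Subgroup G) → y ≠ 1 → (χ : G → ℂ) z = (a χ : ℂ)) ∧ (∀ ψ : ↥(P : Subgroup G) →* ℂˣ, ψ ≠ 1 → ζ ψ ∈ Y) ∧ (∀ η ∈ Y, ∃ ψ : ↥(P : Subgroup G) →* ℂˣ, ψ ≠ 1 ∧ ζ ψ = η) ∧ (∀ ψ ψ' : ↥(P : Subgroup G) →* ℂˣ, ψ ≠ 1 → (∃ n : G, n ∈ Subgroup.normalizer ((P : Subgroup G) : Set G) ∧ ∀ w w' : ↥(P : Subgroup G), (w' : G) = n * w * n⁻¹ → ψ' w' = ψ w) → ζ ψ' = ζ ψ) ∧ (∀ ψ : ↥(P : Subgroup G) →* ℂˣ, ψ ≠ 1 → ∀ (z : G) (y : ↥(P : Subgroup G)), Cfsg.IsPPart p z (y : G) → (y : G) ≠ 1 → (ζ ψ : G → ℂ) z = (δ : ℂ) * ∑ᶠ ψ' ∈ {ψ' : ↥(P : Subgroup G) →* ℂˣ | ∃ n : G, n ∈ Subgroup.normalizer ((P : Subgroup G) : Set G) ∧ ∀ w w'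 : ↥(P : Subgroup G), (w' : G) = n * w * n⁻¹ → ψ' w' = ψ w}, ((ψ' y : ℂˣ) : ℂ)) ∧ ((∃ t : G, orderOf t = 2 ∧ ∀ K : Subgroup G, K.Normal → t ∈ K → K = ⊤) → Nat.card {χ : Cfsg.IrrCharacter G // χ ∈ X ∧ (χ : G → ℂ) ≠ (fun _ => 1) ∧ a χ = -1} + (if δ = 1 then 1 else 0) = 2 ∧ ∀ η ∈ Y, IsSquare (Cfsg.charDegree (η : G → ℂ) * ∏ᶠ χ ∈ {χ : Cfsg.IrrCharacter G | χ ∈ X ∧ (χ : G → ℂ) ≠ fun _ => 1}, Cfsg.charDegree (χ : G → ℂ))) := by
  haveI := Fintype.ofFinite G
  obtain ⟨-, hmax, hpM⟩ := hM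
  haveI := hmax
  have hd : DefectOne.FreeData P := ⟨hab, hfrob⟩
  obtain ⟨X, a, δ, f, hδ, hX, htriv, ha1, hXB, hXv, hfmem, hfsurj, hfeq, hfval, hcard, hagree, hrel⟩ :=
    hd.shape_three hpM hCN hm2
  set Y := (principalBlock M G).toFinset \ X with hY
  have hmemY : ∀ χ, χ ∈ Y ↔ χ ∈ principalBlock M G ∧ χ ∉ X := fun χ => by
    rw [hY, Finset.mem_sdiff, Set.mem_toFinset]
  refine ⟨(X : Set (IrrCharacter G)), (Y : Set (IrrCharacter G)), ?_, ?_,
    (Nat.card_coe_set_eq _).trans ((Set.ncard_coe_finset _).trans hX), ?_,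
    ⟨Char.trivialChar G, htriv, rfl⟩, a, δ, fun ψ => f (S4709.toIrr ψ), hδ, ?_, ?_, ?_, ?_, ?_, ?_⟩
  · rw [← Finset.coe_union, Finset.union_sdiff_of_subset fun χ hχ => Set.mem_toFinset.2 (hXB χ hχ),
      Set.coe_toFinset]
  · rw [Finset.disjoint_coe]; exact Finset.disjoint_sdiff
  · rw [Nat.card_coe_set_eq, Set.ncard_coe_finset]
    omega
  · intro χ hχ
    refine ⟨(hXv χ hχ).1, fun z y hz hy hy1 => ?_⟩
    rw [hd.apply_section hpM (hXB χ hχ) hz hy hy1]
    exact (hXv χ hχ).2 ⟨y, hy⟩ fun h => hy1 (congrArg Subtype.val h)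
  · intro ψ hψ
    exact (hmemY _).2 (hfmem _ fun h => hψ (S4709.toIrr_eq_trivial.1 h))
  · intro η hη
    obtain ⟨l, hl, rfl⟩ := hfsurj η ((hmemY η).1 hη).1 ((hmemY η).1 hη).2
    obtain ⟨ψ, rfl⟩ := S4709.toIrr_surjective hd.linear l
    exact ⟨ψ, fun h => hl (S4709.toIrr_eq_trivial.2 h), rfl⟩
  · intro ψ ψ' hψ hconj
    obtain ⟨n, hn, h⟩ := hconj
    have hψ' : ψ' ≠ 1 := by
      rintro rfl
      refine hψ (MonoidHom.ext fun w => ?_)
      exact (h w ⟨n * w * n⁻¹, (Subgroup.mem_normalizer_iff.1 hn _).1 w.2⟩ rfl).symm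
    refine (hfeq _ _ (fun e => hψ' (S4709.toIrr_eq_trivial.1 e))
      fun e => hψ (S4709.toIrr_eq_trivial.1 e)).2 ?_
    exact DefectOne.nConj_equivalence.symm ⟨n, hn, fun w w' hw => congrArg Units.val (h w w' hw)⟩
  · intro ψ hψ z y hz hy1
    have hl : S4709.toIrr ψ ≠ Char.trivialChar _ := fun h => hψ (S4709.toIrr_eq_trivial.1 h)
    rw [hd.apply_section hpM (hfmem _ hl).1 hz y.2 hy1, hfval _ hl y fun h => hy1 (congrArg Subtype.val h)]
    congr 1
    haveI : Fintype (↥(P : Subgroup G) →* ℂˣ) := Fintype.ofInjective _ S4709.toIrr_injective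
    rw [finsum_mem_eq_sum_of_inter_support_eq _
      (t := Finset.univ.filter fun ψ' : ↥(P : Subgroup G) →* ℂˣ => ∃ n : G,
        n ∈ Subgroup.normalizer ((P : Subgroup G) : Set G) ∧
          ∀ w w' : ↥(P : Subgroup G), (w' : G) = n * w * n⁻¹ → ψ' w' = ψ w) (by ext; simp)]
    refine (Finset.sum_bij (fun ψ' _ => S4709.toIrr ψ') (fun ψ' h => ?_)
      (fun a _ b _ hab => S4709.toIrr_injective hab) (fun μ hμ => ?_) fun ψ' _ => rfl).symm
    · obtain ⟨n, hn, h⟩ := (Finset.mem_filter.1 h).2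
      exact Finset.mem_filter.2 ⟨Finset.mem_univ _, DefectOne.nConj_equivalence.symm
        ⟨n, hn, fun w w' hw => congrArg Units.val (h w w' hw)⟩⟩
    · obtain ⟨ψ', rfl⟩ := S4709.toIrr_surjective hd.linear μ
      obtain ⟨n, hn, h⟩ := DefectOne.nConj_equivalence.symm (Finset.mem_filter.1 hμ).2
      exact ⟨ψ', Finset.mem_filter.2 ⟨Finset.mem_univ _, n, hn, fun w w' hw => Units.ext (h w w' hw)⟩,
        rfl⟩
  · rintro ⟨t, ht, hgen⟩
    have key := fun η (hη : η ∈ Y) => final hpM hd hCN hm2 hδ hX htriv ha1 hXB hXv hfmem hfsurj hfeq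
      hfval hcard hagree hrel ht hgen ((hmemY η).1 hη).1 ((hmemY η).1 hη).2
    obtain ⟨η₀, hη₀⟩ : Y.Nonempty := Finset.card_pos.1 (by omega)
    refine ⟨?_, fun η hη => ?_⟩
    · rw [Nat.card_eq_fintype_card, Fintype.card_subtype]
      convert (key η₀ hη₀).1 using 3
      ext χ
      simp only [Finset.mem_filter, Finset.mem_univ, true_and, Finset.mem_erase, Finset.mem_coe]
      exact ⟨fun ⟨h1, h2, h3⟩ => ⟨⟨fun e => h2 (e ▸ rfl), h1⟩, h3⟩,
        fun ⟨⟨h1, h2⟩, h3⟩ => ⟨h2, fun e => h1 (Subtype.ext e), h3⟩⟩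
    · rw [finprod_mem_eq_prod_of_inter_mulSupport_eq _ (t := X.erase (Char.trivialChar G)) ?_,
        Char.charDegree_eq_degree, Finset.prod_congr rfl fun χ _ => Char.charDegree_eq_degree χ]
      · exact (key η hη).2
      · ext χ
        simp only [Set.mem_inter_iff, Set.mem_setOf_eq, Finset.mem_coe, Finset.mem_erase]
        exact ⟨fun ⟨⟨h1, h2⟩, h3⟩ => ⟨⟨fun e => h2 (e ▸ rfl), h1⟩, h3⟩,
          fun ⟨⟨h1, h2⟩, h3⟩ => ⟨⟨h2, fun e => h1 (Subtype.ext e)⟩, h3⟩⟩

end Cfsg.Agent.S4721
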