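import Cfsg.Statements.S4722
import Cfsg.Agent.Lib.Blocks.SecondMain
import Cfsg.Agent.Lib.Char.ClassSum
import Cfsg.Agent.Lib.Char.Generalized
import Cfsg.Agent.Lib.CharInt.Basic
import Cfsg.Agent.Lib.ZStar.SecondPrincipal

set_option autoImplicit false
set_option linter.style.haveILetI false
set_option linter.unusedSectionVars false
open Cfsg

namespace Cfsg.Agent.S4722

open scoped Classical ComplexConjugate
open Agent

universe u

variable {G : Type u} [Group G] [Finite G] {M : Ideal AlgInt}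

theorem conj_irr_apply_of_inv_eq (χ : IrrCharacter G) {t : G} (ht : t⁻¹ = t) :
    conj (χ.1 t) = χ.1 t := by
  rw [Char.IsCharacter.conj_apply (Char.irr_isCharacter χ), ht]

/-- An element of the `2`-section of `u` is no product of two conjugates of `t`, when no conjugate
of `t` inverts `u`. -/
theorem no_product {t u g z : G} (ht : orderOf t = 2)
    (hinv : ∀ a : G, (a * t * a⁻¹) * u * (a * t * a⁻¹)⁻¹ ≠ u⁻¹)
    (hg : IsPPart 2 g z) (hz : IsConj u z) (a b : G) :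
    a * t * a⁻¹ * (b * t * b⁻¹) ≠ g⁻¹ := by
  intro he
  have ht2 : t * t = 1 := by rw [← pow_two, ← ht, pow_orderOf_eq_one]
  have hti : t⁻¹ = t := inv_eq_of_mul_eq_one_right ht2
  set s := a * t * a⁻¹ with hs
  set r := b * t * b⁻¹ with hr
  have hsi : s⁻¹ = s := by rw [hs, mul_inv_rev, mul_inv_rev, inv_inv, hti, mul_assoc]
  have hri : r⁻¹ = r := by rw [hr, mul_inv_rev, mul_inv_rev, inv_inv, hti, mul_assoc]
  have hg' : g = r * s := by rw [← inv_inv g, ← he, mul_inv_rev, hri, hsi]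
  have hsg : s * g * s⁻¹ = g⁻¹ := by rw [← he, hg']; group
  obtain ⟨i, hi⟩ := Blocks.IsPPart.mem_zpowers hg
  have hsz : s * z * s⁻¹ = z⁻¹ := by
    rw [← hi]
    show s * g ^ i * s⁻¹ = (g ^ i)⁻¹
    rw [← conj_zpow, hsg, inv_zpow]
  obtain ⟨n, rfl⟩ := isConj_iff.1 hz
  refine hinv (n⁻¹ * a) ?_
  calc n⁻¹ * a * t * (n⁻¹ * a)⁻¹ * u * (n⁻¹ * a * t * (n⁻¹ * a)⁻¹)⁻¹
      = n⁻¹ * (s * (n * u * n⁻¹) * s⁻¹) * n := by rw [hs]; group
    _ = u⁻¹ := by rw [hsz]; group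

/-- The weighted class sums vanish at `u`. -/
theorem sum_sq_eq_zero [hF : Fintype G] (hM : IsPModular 2 M) {t u : G} (ht : orderOf t = 2)
    (hu : ∃ k, orderOf u = 2 ^ k)
    (hinv : ∀ a : G, (a * t * a⁻¹) * u * (a * t * a⁻¹)⁻¹ ≠ u⁻¹) :
    ∑ χ ∈ Finset.univ.filter (· ∈ principalBlock M G),
      χ.1 t ^ 2 / χ.1 1 * χ.1 u = 0 := by
  haveI : Fact (Nat.Prime 2) := ⟨Nat.prime_two⟩
  haveI := hM.2.1
  obtain rfl : hF = Fintype.ofFinite G := Subsingleton.elim _ _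
  letI := Fintype.ofFinite G
  let f : G → ℂ := fun g => ∑ χ : IrrCharacter G, χ.1 t ^ 2 / χ.1 1 * χ.1 g
  have hf : ∀ v z : G, IsPPart 2 v z → IsConj u z → f v = 0 := by
    intro v z hv hz
    -- `v⁻¹` is not a product of two conjugates of `t`
    have h := Char.card_conj_mul_conj_eq t t v⁻¹
    haveI : IsEmpty {p : G × G // p.1 * t * p.1⁻¹ * (p.2 * t * p.2⁻¹) = v⁻¹} :=
      ⟨fun p => no_product ht hinv hv hz p.1.1 p.1.2 p.2⟩
    rw [Nat.card_of_isEmpty, Nat.cast_zero, eq_comm, mul_eq_zero, inv_inv] at h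
    rcases h with h | h
    · exact absurd h (Nat.cast_ne_zero.2 Nat.card_pos.ne')
    · rw [← h]
      exact Finset.sum_congr rfl fun χ _ => by rw [pow_two]; ring
  have hB : IsPBlock M (principalBlock M G) := ⟨Char.trivialChar G, rfl⟩
  have hu' : IsPPart 2 u u := ⟨1, mul_one u, Commute.one_right u, hu, by simp [IsPRegular]⟩
  have h := Blocks.blockPart_eq_zero_of_section hM.2.2 hf hB hu' (IsConj.refl u)
  rw [blockPart, finsum_mem_eq_sum_of_inter_support_eq _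
    (t := Finset.univ.filter (· ∈ principalBlock M G)) (by ext; simp)] at h
  rw [← h]
  refine Finset.sum_congr rfl fun χ _ => ?_
  congr 1
  have hfs : f = ∑ ψ : IrrCharacter G, (ψ.1 t ^ 2 / ψ.1 1) • ψ.1 := by
    funext g; simp [f]
  rw [hfs, Char.classInner_sum_left]
  simp [Char.classInner_smul_left, Char.classInner_irr]

/-- Orthogonality between `u` and a real `2`-element `t` not conjugate to it. -/
theorem sum_mul_eq_zero [Fintype G] (hM : IsPModular 2 M) {t u : G} (hu : ∃ k, orderOf u = 2 ^ k)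
    (ht : ∃ k, orderOf t = 2 ^ k) (hti : t⁻¹ = t) (hne : ¬ IsConj u t) :
    ∑ χ ∈ Finset.univ.filter (· ∈ principalBlock M G), χ.1 t * χ.1 u = 0 := by
  haveI : Fact (Nat.Prime 2) := ⟨Nat.prime_two⟩
  haveI := hM.2.1
  have hu' : IsPPart 2 u u := ⟨1, mul_one u, Commute.one_right u, hu, by simp [IsPRegular]⟩
  have ht' : IsPPart 2 t t := ⟨1, mul_one t, Commute.one_right t, ht, by simp [IsPRegular]⟩
  rw [← Blocks.block_orthogonality hM.2.2 hu' ht' hne
    (⟨Char.trivialChar G, rfl⟩ : IsPBlock M (principalBlock M G))]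
  exact Finset.sum_congr rfl fun χ _ => by rw [conj_irr_apply_of_inv_eq χ hti, mul_comm]

/-- Equality in the Cauchy–Schwarz inequality. -/
theorem proportional {ι : Type*} (S : Finset ι) (m d v : ι → ℝ) (hd : ∀ i ∈ S, 0 < d i)
    (h1 : ∑ i ∈ S, m i * d i = 0) (h2 : ∑ i ∈ S, m i * v i = 0)
    (h3 : ∑ i ∈ S, m i * (v i ^ 2 / d i) = 0)
    (hone : ∀ i ∈ S, ∀ j ∈ S, 0 < m i → 0 < m j → i = j) :
    ∀ i ∈ S, ∀ j ∈ S, m i ≠ 0 → m j ≠ 0 → v i / d i = v j / d j := by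
  intro i hi j hj hmi hmj
  obtain ⟨o, ho, hmo⟩ : ∃ o ∈ S, 0 < m o := by
    by_contra! hall
    exact hmi (by
      have := (Finset.sum_eq_zero_iff_of_nonpos fun k hk =>
        mul_nonpos_of_nonpos_of_nonneg (hall k hk) (hd k hk).le).1 h1 i hi
      exact (mul_eq_zero.1 this).resolve_right (hd i hi).ne')
  set c := v o / d o with hc
  have hsum : ∑ k ∈ S, m k * ((v k - c * d k) ^ 2 / d k) = 0 := by
    rw [Finset.sum_congr rfl (g := fun k => m k * (v k ^ 2 / d k) - 2 * c * (m k * v k) +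
      c ^ 2 * (m k * d k)) fun k hk => by field_simp [(hd k hk).ne']; ring]
    rw [Finset.sum_add_distrib, Finset.sum_sub_distrib, ← Finset.mul_sum, ← Finset.mul_sum,
      h1, h2, h3]
    ring
  have hzero : ∀ k ∈ S, m k * ((v k - c * d k) ^ 2 / d k) = 0 := by
    refine (Finset.sum_eq_zero_iff_of_nonpos fun k hk => ?_).1 hsum
    rcases le_or_gt (m k) 0 with h | h
    · exact mul_nonpos_of_nonpos_of_nonneg h (div_nonneg (sq_nonneg _) (hd k hk).le)
    · rw [hone k hk o ho h hmo, hc, div_mul_cancel₀ _ (hd o ho).ne', sub_self]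
      simp
  have hval : ∀ k ∈ S, m k ≠ 0 → v k / d k = c := fun k hk hmk => by
    have h4 := (mul_eq_zero.1 (hzero k hk)).resolve_left hmk
    rw [div_eq_zero_iff, or_iff_left (hd k hk).ne', sq_eq_zero_iff, sub_eq_zero] at h4
    rw [h4, mul_div_assoc, div_self (hd k hk).ne', mul_one]
  rw [hval i hi hmi, hval j hj hmj]

theorem exists_normal [Fintype G] (hM : IsPModular 2 M) {t : G} (hti : t⁻¹ = t)
    (m : IrrCharacter G → ℤ) (hm1 : m (Char.trivialChar G) ≠ 0)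
    (h1 : ∑ χ ∈ Finset.univ.filter (· ∈ principalBlock M G), (m χ : ℂ) * χ.1 1 = 0)
    (h2 : ∑ χ ∈ Finset.univ.filter (· ∈ principalBlock M G), (m χ : ℂ) * χ.1 t = 0)
    (h3 : ∑ χ ∈ Finset.univ.filter (· ∈ principalBlock M G),
      (m χ : ℂ) * (χ.1 t ^ 2 / χ.1 1) = 0)
    (hone : Nat.card {χ : IrrCharacter G // χ ∈ principalBlock M G ∧ 0 < m χ} ≤ 1) :
    ∃ K : Subgroup G, K.Normal ∧ K ≠ ⊤ ∧ pPrimeCore 2 G ≤ K ∧ t ∈ K := by
  haveI : Fact (Nat.Prime 2) := ⟨Nat.prime_two⟩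
  haveI := hM.2.1
  set S := Finset.univ.filter (· ∈ principalBlock M G) with hS
  have htriv : Char.trivialChar G ∈ S :=
    Finset.mem_filter.2 ⟨Finset.mem_univ _, Blocks.sameBlock_refl _⟩
  have hre : ∀ χ : IrrCharacter G, χ.1 t = ((χ.1 t).re : ℂ) := fun χ =>
    (Complex.conj_eq_iff_re.1 (conj_irr_apply_of_inv_eq χ hti)).symm
  have hd : ∀ χ : IrrCharacter G, χ.1 1 = ((Char.degree χ : ℝ) : ℂ) := fun χ => by
    rw [Char.apply_one_eq_degree, Complex.ofReal_natCast]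
  have hdpos : ∀ χ : IrrCharacter G, (0 : ℝ) < Char.degree χ := fun χ =>
    Nat.cast_pos.2 (Nat.pos_of_ne_zero fun h => Char.IsIrrCharacter.apply_one_ne_zero χ.2
      (by rw [Char.apply_one_eq_degree, h, Nat.cast_zero]))
  haveI : Subsingleton {χ : IrrCharacter G // χ ∈ principalBlock M G ∧ 0 < m χ} :=
    Finite.card_le_one_iff_subsingleton.1 hone
  have hprop := proportional S (fun χ => (m χ : ℝ)) (fun χ => (Char.degree χ : ℝ))
    (fun χ => (χ.1 t).re) (fun χ _ => hdpos χ)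
    (by
      apply Complex.ofReal_injective
      rw [Complex.ofReal_sum, Complex.ofReal_zero, ← h1]
      exact Finset.sum_congr rfl fun χ _ => by rw [hd χ]; push_cast; rfl)
    (by
      apply Complex.ofReal_injective
      rw [Complex.ofReal_sum, Complex.ofReal_zero, ← h2]
      exact Finset.sum_congr rfl fun χ _ => by rw [hre χ]; push_cast; simp)
    (by
      apply Complex.ofReal_injective
      rw [Complex.ofReal_sum, Complex.ofReal_zero, ← h3]
      exact Finset.sum_congr rfl fun χ _ => by rw [hre χ, hd χ]; push_cast; simp)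
    (fun i hi j hj h h' => congrArg Subtype.val (Subsingleton.elim
      (⟨i, (Finset.mem_filter.1 hi).2, by exact_mod_cast h⟩ :
        {χ : IrrCharacter G // χ ∈ principalBlock M G ∧ 0 < m χ})
      ⟨j, (Finset.mem_filter.1 hj).2, by exact_mod_cast h'⟩))
  obtain ⟨χ, hχS, hmχ, hχ⟩ : ∃ χ ∈ S, m χ ≠ 0 ∧ χ ≠ Char.trivialChar G := by
    by_contra! hall
    rw [Finset.sum_eq_single_of_mem _ htriv fun χ hχ hne => ?_] at h1
    · rcases mul_eq_zero.1 h1 with h | h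
      · exact hm1 (by exact_mod_cast h)
      · simp [Char.trivialChar] at h
    · rw [show m χ = 0 from by_contra fun h => hne (hall χ hχ h), Int.cast_zero, zero_mul]
  have hχt : χ.1 t = χ.1 1 := by
    have h := hprop χ hχS (Char.trivialChar G) htriv (by exact_mod_cast hmχ) (by exact_mod_cast hm1)
    have ht1 : Char.degree (Char.trivialChar G) = 1 := by
      have := Char.apply_one_eq_degree (Char.trivialChar G)
      rw [show (Char.trivialChar G).1 1 = (1 : ℂ) from rfl] at this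
      exact_mod_cast this.symm
    rw [ht1, Nat.cast_one, div_one, show ((Char.trivialChar G).1 t).re = 1 from rfl,
      div_eq_one_iff_eq (hdpos χ).ne'] at h
    rw [hre χ, h, hd χ]
  refine ⟨CharInt.charKernel (Char.irr_isCharacter χ),
    CharInt.charKernel_normal _, fun htop => ?_, fun g hg => ?_, hχt⟩
  · -- the kernel is proper
    have hall : ∀ g : G, χ.1 g = χ.1 1 := fun g =>
      (htop ▸ Subgroup.mem_top g : g ∈ CharInt.charKernel (Char.irr_isCharacter χ))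
    have h := Char.classInner_irr χ (Char.trivialChar G)
    rw [if_neg hχ] at h
    simp only [classInner, hall, show ∀ g, (Char.trivialChar G).1 g = (1 : ℂ) from fun _ => rfl,
      map_one, mul_one, Finset.sum_const, Finset.card_univ, nsmul_eq_mul,
      ← Nat.card_eq_fintype_card] at h
    rw [← mul_assoc, inv_mul_cancel₀ (Nat.cast_ne_zero.2 Nat.card_pos.ne'), one_mul] at h
    exact Char.IsIrrCharacter.apply_one_ne_zero χ.2 h
  · exact ZStar.trivOn_of_mem_principalBlock hM (N := pPrimeCore 2 G)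
      (ZStar.not_two_dvd_iff_odd.1 fun h => Nat.prime_two.ne_one
        (Nat.eq_one_of_dvd_coprimes PCore.coprime_card_pPrimeCore h dvd_rfl))
      (Finset.mem_filter.1 hχS).2 g hg

/-- Let M be a maximal ideal of the algebraic integers containing 2, P a 2-subgroup of the finite group G, U a subset of P, and t an involution of G such that no element of U is inverted by any conjugate of t. Let θ be a generalized character of P vanishing outside U, and for χ in the principal 2-block B₀ put a_χ = #P⁻¹ Σ_{y ∈ P} χ(y) θ(y⁻¹). Then Σ_{χ ∈ B₀} a_χ χ(t)^2/χ(1) = 0, Σ_{χ ∈ B₀} a_χ χ(1) = 0 and Σ_{χ ∈ B₀} a_χ χ(t) = 0. If moreover #P⁻¹ Σ_{y ∈ P} θ(y) ≠ 0, then either at least two of the a_χ have positive real part and at least two have negative real part, or G has a proper normal subgroup containing O_2'(G) and t. -/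
theorem result {G : Type*} [Group G] [Finite G] (M : Ideal Cfsg.AlgInt) (hM : Cfsg.IsPModular 2 M) (P : Subgroup G) (hP : IsPGroup 2 P) (U : Set G) (hUP : U ⊆ (P : Set G)) (t : G) (ht : orderOf t = 2) (hinv : ∀ u ∈ U, ∀ g : G, (g * t * g⁻¹) * u * (g * t * g⁻¹)⁻¹ ≠ u⁻¹) (θ : ↥P → ℂ) (hθ : Cfsg.IsGeneralizedCharacter ↥P θ) (hθU : ∀ y : ↥P, (y : G) ∉ U → θ y = 0) : (∑ᶠ χ ∈ Cfsg.principalBlock M G, ((Nat.card ↥P : ℂ)⁻¹ * ∑ᶠ y : ↥P, (χ : G → ℂ) (y : G) * θ y⁻¹) * (χ : G → ℂ) t ^ 2 / (χ : G → ℂ) 1 = 0) ∧ (∑ᶠ χ ∈ Cfsg.principalBlock M G, ((Nat.card ↥P : ℂ)⁻¹ * ∑ᶠ y : ↥P, (χ : G → ℂ) (y : G) * θ y⁻¹) * (χ : G → ℂ) 1 = 0) ∧ (∑ᶠ χ ∈ Cfsg.principalBlock M G, ((Nat.card ↥P : ℂ)⁻¹ * ∑ᶠ y : ↥P, (χ : G → ℂ) (y : G) * θ y⁻¹) * (χ : G → ℂ) t = 0) ∧ ((Nat.card ↥P : ℂ)⁻¹ * ∑ᶠ y : ↥P, θ y ≠ 0 → (2 ≤ Nat.card {χ : Cfsg.IrrCharacter G // χ ∈ Cfsg.principalBlock M G ∧ 0 < (((Nat.card ↥P : ℂ)⁻¹ * ∑ᶠ y : ↥P, (χ : G → ℂ) (y : G) * θ y⁻¹)).re}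 ∧ 2 ≤ Nat.card {χ : Cfsg.IrrCharacter G // χ ∈ Cfsg.principalBlock M G ∧ (((Nat.card ↥P : ℂ)⁻¹ * ∑ᶠ y : ↥P, (χ : G → ℂ) (y : G) * θ y⁻¹)).re < 0}) ∨ ∃ K : Subgroup G, K.Normal ∧ K ≠ ⊤ ∧ Cfsg.pPrimeCore 2 G ≤ K ∧ t ∈ K) := by
  classical
  haveI := Fintype.ofFinite G
  haveI := Fintype.ofFinite P
  haveI : Fact (Nat.Prime 2) := ⟨Nat.prime_two⟩
  haveI := hM.2.1
  have ht2 : t * t = 1 := by rw [← pow_two, ← ht, pow_orderOf_eq_one]
  have hti : t⁻¹ = t := inv_eq_of_mul_eq_one_right ht2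
  have hpel : ∀ y : P, ∃ k, orderOf (y : G) = 2 ^ k := fun y => by
    obtain ⟨k, hk⟩ := hP y
    obtain ⟨j, -, hj⟩ := (Nat.dvd_prime_pow Nat.prime_two).1 (orderOf_dvd_of_pow_eq_one hk)
    exact ⟨j, by rw [Subgroup.orderOf_coe, hj]⟩
  set S := Finset.univ.filter (· ∈ Cfsg.principalBlock M G) with hS
  set a : Cfsg.IrrCharacter G → ℂ :=
    fun χ => (Nat.card ↥P : ℂ)⁻¹ * ∑ y : P, (χ : G → ℂ) (y : G) * θ y⁻¹ with ha
  have hfin : ∀ f : Cfsg.IrrCharacter G → ℂ,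
      ∑ᶠ χ ∈ Cfsg.principalBlock M G, f χ = ∑ χ ∈ S, f χ := fun f =>
    finsum_mem_eq_sum_of_inter_support_eq _ (by rw [hS]; ext; simp)
  simp only [hfin]
  simp only [finsum_eq_sum_of_fintype]
  simp only [← show ∀ χ : Cfsg.IrrCharacter G, a χ =
    (Nat.card ↥P : ℂ)⁻¹ * ∑ y : P, (χ : G → ℂ) (y : G) * θ y⁻¹ from fun χ => rfl]
  have key : ∀ w : Cfsg.IrrCharacter G → ℂ,
      (∀ y : P, (y : G)⁻¹ ∈ U → ∑ χ ∈ S, w χ * χ.1 (y : G) = 0) → ∑ χ ∈ S, a χ * w χ = 0 := by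
    intro w hw
    simp only [ha, Finset.mul_sum, Finset.sum_mul]
    rw [Finset.sum_comm]
    refine Finset.sum_eq_zero fun y _ => ?_
    by_cases hy : (y : G)⁻¹ ∈ U
    · calc _ = (Nat.card ↥P : ℂ)⁻¹ * θ y⁻¹ * ∑ χ ∈ S, w χ * χ.1 (y : G) := by
            rw [Finset.mul_sum]; exact Finset.sum_congr rfl fun χ _ => by ring
        _ = 0 := by rw [hw y hy, mul_zero]
    · refine Finset.sum_eq_zero fun χ _ => ?_
      rw [hθU y⁻¹ (by simpa using hy), mul_zero, mul_zero, zero_mul]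
  have hyne : ∀ y : P, (y : G)⁻¹ ∈ U → ∀ g : G,
      (g * t * g⁻¹) * (y : G) * (g * t * g⁻¹)⁻¹ ≠ (y : G)⁻¹ := fun y hy g he => by
    refine hinv _ hy g ?_
    rw [← conj_inv, he]
  have hnc : ∀ y : P, (y : G)⁻¹ ∈ U → ¬ IsConj (y : G) t := fun y hy hc => by
    obtain ⟨g, hg⟩ := isConj_iff.1 hc
    refine hyne y hy g⁻¹ ?_
    rw [← hg]
    have hy2 : (y : G) * y = 1 := by
      have : g * ((y : G) * y) * g⁻¹ = 1 := by rw [← ht2, ← hg]; group
      exact conj_eq_one_iff.1 this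
    rw [inv_eq_of_mul_eq_one_right hy2]
    group
  have hy1 : ∀ y : P, (y : G)⁻¹ ∈ U → (y : G) ≠ 1 := fun y hy he => hyne y hy 1 (by simp [he])
  have k3 : ∑ χ ∈ S, a χ * ((χ : G → ℂ) t ^ 2 / (χ : G → ℂ) 1) = 0 :=
    key _ fun y hy => sum_sq_eq_zero hM ht (hpel y) (hyne y hy)
  have k1 : ∑ χ ∈ S, a χ * (χ : G → ℂ) 1 = 0 := key _ fun y hy =>
    sum_mul_eq_zero hM (hpel y) ⟨0, by simp⟩ inv_one fun hc => hy1 y hy
      (isConj_one_left.1 hc)
  have k2 : ∑ χ ∈ S, a χ * (χ : G → ℂ) t = 0 := key _ fun y hy =>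
    sum_mul_eq_zero hM (hpel y) ⟨1, by rw [ht, pow_one]⟩ hti (hnc y hy)
  refine ⟨?_, ?_, ?_, ?_⟩
  · rw [← k3]
    exact Finset.sum_congr rfl fun χ _ => by ring
  · exact k1
  · exact k2
  intro hne
  have hint : ∀ χ : Cfsg.IrrCharacter G, ∃ z : ℤ, a χ = z := fun χ => by
    obtain ⟨z, hz⟩ := Char.IsGeneralizedCharacter.exists_int_classInner
      (Char.IsGeneralizedCharacter.restrict (Char.irr_isGeneralized χ) P) hθ
    refine ⟨z, ?_⟩
    rw [← hz, ha]
    simp only [Cfsg.classInner, Char.IsGeneralizedCharacter.conj_apply hθ]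
  choose m hm using hint
  have hm1 : m (Char.trivialChar G) ≠ 0 := fun h => hne (by
    have h' := hm (Char.trivialChar G)
    rw [h, Int.cast_zero] at h'
    rw [← h', ha]
    refine congrArg _ (Fintype.sum_equiv (Equiv.inv P) _ _ fun y => ?_)
    show θ y = 1 * θ (y⁻¹)⁻¹
    rw [inv_inv, one_mul])
  by_cases hno : ∃ K : Subgroup G, K.Normal ∧ K ≠ ⊤ ∧ Cfsg.pPrimeCore 2 G ≤ K ∧ t ∈ K
  · exact Or.inr hno
  left
  simp only [hm, Complex.intCast_re, Int.cast_pos, Int.cast_lt_zero]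
  simp only [hm] at k1 k2 k3
  constructor
  · by_contra hlt
    exact hno (exists_normal hM hti m hm1 k1 k2 k3 (by omega))
  · by_contra hlt
    refine hno (exists_normal hM hti (fun χ => - m χ) (neg_ne_zero.2 hm1) ?_ ?_ ?_ ?_)
    · simp only [Int.cast_neg, neg_mul, Finset.sum_neg_distrib, ← hS, k1, neg_zero]
    · simp only [Int.cast_neg, neg_mul, Finset.sum_neg_distrib, ← hS, k2, neg_zero]
    · simp only [Int.cast_neg, neg_mul, Finset.sum_neg_distrib, ← hS, k3, neg_zero]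
    · simp only [neg_pos]
      omega

end Cfsg.Agent.S4722
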