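import Cfsg.Statements.S4723
import Cfsg.Agent.Lib.BlocksX.StableHeightZero


set_option autoImplicit false
open Cfsg

namespace Cfsg.Agent.S4723

/-- Let p be a prime, M a maximal ideal of the algebraic integers containing p, H a normal subgroup of the finite group G and b a p-block of H. Let T be the stabilizer of b in G. Then b contains a character θ of height zero whose own stabilizer in G (the elements g with θ(g h g⁻¹) = θ(h) for all h ∈ H) has index prime to p in T, i.e. contains a Sylow p-subgroup of T. -/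
theorem result {G : Type*} [Group G] [Finite G] (p : ℕ) [Fact p.Prime] (M : Ideal Cfsg.AlgInt) (hM : Cfsg.IsPModular p M) (H : Subgroup G) [H.Normal] (b : Set (Cfsg.IrrCharacter ↥H)) (hb : Cfsg.IsPBlock M b) (T : Subgroup G) (hT : (∀ g : G, g ∈ T ↔ ∀ θ ∈ b, ∀ θ' : Cfsg.IrrCharacter ↥H, (∀ h h' : ↥H, (h' : G) = g * h * g⁻¹ → (θ' : ↥H → ℂ) h' = (θ : ↥H → ℂ) h) → θ' ∈ b)) : ∃ θ ∈ b, Cfsg.blockHeight p b (θ : ↥H → ℂ) = 0 ∧ ∃ S : Subgroup G, S ≤ T ∧ (∀ g : G, g ∈ S ↔ (g ∈ T ∧ ∀ h h' : ↥H, (h' : G) = g * h * g⁻¹ → (θ : ↥H → ℂ) h' = (θ : ↥H → ℂ) h)) ∧ ¬ p ∣ S.relIndex T := by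
  classical
  haveI := hM.2.1
  haveI := Fintype.ofFinite G
  have hHT : H ≤ T := fun x hx => by
    rw [hT]
    intro θ hθ θ' h
    have : θ' = θ := Subtype.ext (funext fun k => by
      rw [h ⟨x⁻¹ * k * x, mul_mem (mul_mem (inv_mem hx) k.2) hx⟩ k (by simp [mul_assoc])]
      have hcl := Cfsg.Agent.Blocks.irr_classFun θ k ⟨x⁻¹, inv_mem hx⟩
      rw [← hcl]
      exact congrArg _ (Subtype.ext (by simp)))
    rw [this]; exact hθ
  set K : Subgroup T := H.subgroupOf T with hK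
  haveI : K.Normal := Subgroup.normal_subgroupOf
  haveI : Fintype K := Fintype.ofFinite K
  set e : K ≃* H := Subgroup.subgroupOfEquivOfLe hHT with he
  set b' := Cfsg.Agent.BrauerPairs.mapBlock e b with hb'
  have hinv : ∀ (g : T), ∀ θ ∈ b', Cfsg.Agent.Char.conjChar K θ g ∈ b' := by
    rintro g _ ⟨θ, hθ, rfl⟩
    refine ⟨Cfsg.Agent.Char.conjChar H θ g, ?_, ?_⟩
    · refine (hT (g : G)⁻¹).1 (inv_mem g.2) θ hθ _ fun h h' hh => ?_
      show θ.1 _ = θ.1 h
      exact congrArg θ.1 (Subtype.ext (by simp [hh, mul_assoc]))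
    · refine Subtype.ext (funext fun k => ?_)
      show θ.1 _ = θ.1 _
      exact congrArg θ.1 (Subtype.ext rfl)
  obtain ⟨_, ⟨θ, hθ, rfl⟩, hh, hidx⟩ := Cfsg.Agent.BlocksX.exists_height_zero_stable hM.2.2 K
    (Cfsg.Agent.BrauerPairs.isPBlock_mapBlock e hb) hinv
  refine ⟨θ, hθ, by rwa [Cfsg.Agent.BlocksX.blockHeight_mapBlock] at hh,
    (Cfsg.Agent.Char.inertia K (Cfsg.Agent.BrauerPairs.compIrr e θ).1).map T.subtype,
    Subgroup.map_subtype_le _, fun g => ?_, ?_⟩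
  · constructor
    · rintro ⟨t, ht, rfl⟩
      refine ⟨t.2, fun h h' hh' => ?_⟩
      have := congrFun ((Cfsg.Agent.Char.mem_inertia K).1 ht) (e.symm h)
      rw [Cfsg.Agent.BrauerPairs.compIrr_apply, e.apply_symm_apply] at this
      refine Eq.trans ?_ this
      exact congrArg θ.1 (Subtype.ext (by rw [hh']; rfl))
    · rintro ⟨hg, hfix⟩
      refine ⟨⟨g, hg⟩, (Cfsg.Agent.Char.mem_inertia K).2 (funext fun k => ?_), rfl⟩
      exact hfix (e k) _ rfl
  · rwa [Subgroup.relIndex, Subgroup.subgroupOf,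
      Subgroup.comap_map_eq_self_of_injective T.subtype_injective]

end Cfsg.Agent.S4723
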