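import Cfsg.Statements.S4725
import Cfsg.Agent.Lib.BlockCount.Criterion
-- import your own Cfsg.Agent.* helpers here

set_option autoImplicit false
open Cfsg

namespace Cfsg.Agent.S4725

/-- Let p be a prime, M a maximal ideal of the algebraic integers containing p, H a subgroup of the finite group G, and b a p-block of H inducing the p-block B of G, with b and B of the same defect. Then for every height-zero ζ ∈ b there is a height-zero χ ∈ B whose multiplicity in the character induced from ζ is not divisible by p. -/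
theorem result {G : Type*} [Group G] [Fintype G] (p : ℕ) [Fact p.Prime] (M : Ideal Cfsg.AlgInt) (hM : Cfsg.IsPModular p M) (H : Subgroup G) (b : Set (Cfsg.IrrCharacter ↥H)) (B : Set (Cfsg.IrrCharacter G)) (hind : Cfsg.IsInducedBlock M H b B) (hdef : Cfsg.blockDefect p b = Cfsg.blockDefect p B) (ζ : Cfsg.IrrCharacter ↥H) (hζ : ζ ∈ b) (hζ0 : Cfsg.blockHeight p b (ζ : ↥H → ℂ) = 0) : ∃ χ ∈ B, Cfsg.blockHeight p B (χ : G → ℂ) = 0 ∧ ∃ a : ℕ, Cfsg.classInner (Cfsg.indFun H (ζ : ↥H → ℂ)) (χ : G → ℂ) = (a : ℂ) ∧ ¬ p ∣ a := by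
  classical
  haveI := Fintype.ofFinite H
  haveI := Fintype.ofFinite (ConjClasses G)
  haveI := hM.2.1
  have hp : p.Prime := Fact.out
  obtain ⟨-, hB, hcong⟩ := hind
  obtain ⟨χ₀, hχ₀⟩ := Agent.Blocks.block_nonempty hB
  obtain ⟨k, -, hk, -, -⟩ := Agent.BlockCount.exists_multiplicity (G := G) H
  set S := B.toFinset with hS
  set D := ∑ χ ∈ S, k χ ζ * Cfsg.charDegree (χ : G → ℂ) with hD
  set z := Cfsg.charDegree (ζ : H → ℂ) with hz
  have hdne : ∀ χ : Cfsg.IrrCharacter G, Cfsg.charDegree (χ : G → ℂ) ≠ 0 := fun χ => by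
    rw [Agent.BlockCount.charDegree_eq_degree]; exact (Agent.Char.degree_pos χ).ne'
  have hz1 : z ≠ 0 := by
    rw [hz, Agent.BlockCount.charDegree_eq_degree]; exact (Agent.Char.degree_pos ζ).ne'
  -- the degree of the `B`-part of the induced character, through the idempotent of `B`
  have hX : ∑ h : H, (ζ : H → ℂ) h / (ζ : H → ℂ) 1 * Cfsg.blockCoeff B h =
      (D : ℂ) / ((H.index * z : ℕ) : ℂ) := by
    have hinner : ∀ χ : Cfsg.IrrCharacter G,
        ∑ h : H, (ζ : H → ℂ) h * (starRingEnd ℂ) ((χ : G → ℂ) h) =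
          (Nat.card H : ℂ) * (k χ ζ : ℂ) := by
      intro χ
      have h1 := hk χ ζ
      rw [Agent.Char.classInner_indFun H _ (Agent.Char.IsCharacter.isClassFunction
        (Agent.Char.irr_isCharacter χ)), Cfsg.classInner,
        inv_mul_eq_iff_eq_mul₀ (Nat.cast_ne_zero.2 Nat.card_pos.ne')] at h1
      exact h1
    have hH : (Nat.card H : ℂ) ≠ 0 := Nat.cast_ne_zero.2 Nat.card_pos.ne'
    have hi : (H.index : ℂ) ≠ 0 := Nat.cast_ne_zero.2 Subgroup.index_ne_zero_of_finite
    have hz0 : (ζ : H → ℂ) 1 ≠ 0 := Agent.Char.IsIrrCharacter.apply_one_ne_zero ζ.2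
    calc ∑ h : H, (ζ : H → ℂ) h / (ζ : H → ℂ) 1 * Cfsg.blockCoeff B h
        = ((Nat.card G : ℂ)⁻¹ / (ζ : H → ℂ) 1) * ∑ χ ∈ S, (χ : G → ℂ) 1 *
            ∑ h : H, (ζ : H → ℂ) h * (starRingEnd ℂ) ((χ : G → ℂ) h) := by
          simp only [Cfsg.blockCoeff, finsum_mem_eq_toFinset_sum, Finset.mul_sum]
          rw [Finset.sum_comm]
          exact Finset.sum_congr rfl fun _ _ => Finset.sum_congr rfl fun _ _ => by ring
      _ = _ := by
          simp only [hinner, hD, hz]
          push_cast
          rw [← H.card_mul_index, Nat.cast_mul, ← Agent.BlockCount.apply_one_eq_charDegree ζ,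
            Finset.mul_sum, Finset.sum_div]
          refine Finset.sum_congr rfl fun χ _ => ?_
          rw [← Agent.BlockCount.apply_one_eq_charDegree χ]
          field_simp
  -- it is congruent to one
  have hbc : ∀ h g : G, IsConj g h → Cfsg.blockCoeff B h = Cfsg.blockCoeff B g := fun h g hgh => by
    simp only [Cfsg.blockCoeff]
    congr 1
    refine finsum_mem_congr rfl fun χ _ => ?_
    rw [Agent.Char.IsClassFunction.apply_of_isConj
      (Agent.Char.IsCharacter.isClassFunction (Agent.Char.irr_isCharacter χ)) hgh]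
  have hX1 : Cfsg.MemLocalIdeal M ((D : ℂ) / ((H.index * z : ℕ) : ℂ) - 1) := by
    have h1 : Agent.Blocks.omega χ₀.1 (Agent.Blocks.blockIdem B) = 1 := by
      rw [Agent.Blocks.omega_blockIdem, if_pos hχ₀]
    rw [← hX, ← h1, Agent.Blocks.omega_eq_sum_classes χ₀ (Agent.Blocks.isCentralElt_blockIdem B),
      ← Finset.sum_fiberwise Finset.univ (fun h : H => ConjClasses.mk (h : G)),
      ← Finset.sum_sub_distrib]
    refine Agent.Blocks.MemLocalIdeal.sum _ fun C _ => ?_
    rw [Agent.Blocks.coeff_blockIdem]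
    have hiff : ∀ h : H, ConjClasses.mk (h : G) = C ↔ IsConj C.out (h : G) := fun h => by
      rw [← ConjClasses.mk_eq_mk_iff_isConj, eq_comm,
        show ConjClasses.mk C.out = C from Quotient.out_eq C]
    have h2 : ∑ h ∈ Finset.univ.filter (fun h : H => ConjClasses.mk (h : G) = C),
        (ζ : H → ℂ) h / (ζ : H → ℂ) 1 * Cfsg.blockCoeff B h =
        Cfsg.blockCoeff B C.out * Cfsg.inducedCentralChar H (ζ : H → ℂ) C.out := by
      rw [Cfsg.inducedCentralChar, finsum_mem_eq_toFinset_sum, Finset.mul_sum]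
      refine Finset.sum_congr (Finset.ext fun h => by simp [hiff]) fun h hh => ?_
      rw [Set.mem_toFinset] at hh
      rw [hbc (h : G) C.out hh, mul_comm]
    rw [h2, ← mul_sub]
    exact Agent.Blocks.MemLocalIdeal.mul_left
      (Agent.Blocks.memLocalRing_blockCoeff hB _) (hcong ζ hζ χ₀ hχ₀ _)
  have hden : H.index * z ≠ 0 :=
    mul_ne_zero Subgroup.index_ne_zero_of_finite hz1
  have hD0 : D ≠ 0 := fun h => by
    refine Agent.Blocks.not_memLocalIdeal_one (M := M) ?_
    simpa [h] using Agent.Blocks.MemLocalIdeal.neg hX1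
  have hvD : D.factorization p = (H.index * z).factorization p := by
    refine le_antisymm (not_lt.1 fun hlt => ?_) ?_
    · have h1 := (Agent.Blocks.memLocalIdeal_natCast_div_iff hM.2.2 hD0 hden).2 hlt
      refine Agent.Blocks.not_memLocalIdeal_one (M := M) ?_
      have h2 := Agent.Blocks.MemLocalIdeal.sub h1 hX1
      rwa [sub_sub_cancel] at h2
    · refine (Agent.Blocks.memLocalRing_natCast_div_iff hM.2.2 hD0 hden).1 ?_
      have h2 := Agent.Blocks.MemLocalRing.add (Agent.Blocks.memLocalRing_of_memLocalIdeal hX1)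
        (Agent.Blocks.memLocalRing_one (M := M))
      rwa [sub_add_cancel] at h2
  -- valuations
  have hfac : ∀ χ : Cfsg.IrrCharacter G,
      (Cfsg.charDegree (χ : G → ℂ)).factorization p ≤ (Nat.card G).factorization p := fun χ =>
    (Nat.factorization_le_iff_dvd (hdne χ) Nat.card_pos.ne').2
      (Agent.BlockCount.charDegree_dvd_card χ) p
  have hfacζ : z.factorization p ≤ (Nat.card H).factorization p :=
    (Nat.factorization_le_iff_dvd hz1 Nat.card_pos.ne').2
      (Agent.BlockCount.charDegree_dvd_card ζ) p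
  have hmin : ∀ χ ∈ B, sInf ((fun χ : Cfsg.IrrCharacter G =>
      (Cfsg.charDegree (χ : G → ℂ)).factorization p) '' B) ≤
      (Cfsg.charDegree (χ : G → ℂ)).factorization p := fun χ hχ => Nat.sInf_le ⟨χ, hχ, rfl⟩
  have hm : D.factorization p = sInf ((fun χ : Cfsg.IrrCharacter G =>
      (Cfsg.charDegree (χ : G → ℂ)).factorization p) '' B) := by
    have h1 : sInf ((fun ψ : Cfsg.IrrCharacter H =>
        (Cfsg.charDegree (ψ : H → ℂ)).factorization p) '' b) ≤ z.factorization p :=
      Nat.sInf_le ⟨ζ, hζ, rfl⟩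
    have h2 := hmin χ₀ hχ₀
    have h3 := hfac χ₀
    have h4 := hfacζ
    have h5 : (Nat.card G).factorization p =
        H.index.factorization p + (Nat.card H).factorization p := by
      rw [← H.index_mul_card, Nat.factorization_mul Subgroup.index_ne_zero_of_finite
        Nat.card_pos.ne', Finsupp.add_apply]
    rw [hvD, Nat.factorization_mul Subgroup.index_ne_zero_of_finite hz1, Finsupp.add_apply]
    simp only [Cfsg.blockHeight, Cfsg.blockDefect] at hζ0 hdef
    rw [← hz] at hζ0
    omega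
  by_contra! hno
  refine Nat.pow_succ_factorization_not_dvd hD0 hp (Finset.dvd_sum fun χ hχ => ?_)
  rw [Set.mem_toFinset] at hχ
  rw [hm]
  rcases Nat.eq_or_lt_of_le (hmin χ hχ) with he | hlt
  · have hpk : p ∣ k χ ζ :=
      hno χ hχ (by rw [Cfsg.blockHeight, ← he, Nat.sub_self]) _ (hk χ ζ)
    rw [pow_succ']
    refine Nat.mul_dvd_mul hpk ?_
    rw [he]
    exact Nat.ordProj_dvd _ _
  · exact ((pow_dvd_pow p hlt).trans (Nat.ordProj_dvd _ _)).mul_left _

end Cfsg.Agent.S4725
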