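import Cfsg.Statements.S4726
import Cfsg.Agent.Lib.BlocksX.InducedNested


set_option autoImplicit false
open Cfsg

namespace Cfsg.Agent.S4726

/-- Let p be a prime, M a maximal ideal of the algebraic integers containing p, H a subgroup of the finite group G and b a p-block of H with defect group D₀ such that C_G(D₀) ≤ H. Then b induces a block of G, and for every block B of G induced by b there is a defect group D of B with Z(D) ≤ Z(D₀) ≤ D₀ ≤ D (as subgroups of G). In particular, if the defect groups of B are abelian then D₀ is a defect group of B. -/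
theorem result {G : Type*} [Group G] [Finite G] (p : ℕ) [Fact p.Prime] (M : Ideal Cfsg.AlgInt) (hM : Cfsg.IsPModular p M) (H : Subgroup G) (b : Set (Cfsg.IrrCharacter ↥H)) (hb : Cfsg.IsPBlock M b) (D₀ : Subgroup ↥H) (hD₀ : Cfsg.IsDefectGroup p M b D₀) (hC : Subgroup.centralizer ((D₀.map H.subtype : Subgroup G) : Set G) ≤ H) : Cfsg.InducedBlockDefined M H b ∧ ∀ B : Set (Cfsg.IrrCharacter G), Cfsg.IsInducedBlock M H b B → (∃ D : Subgroup G, Cfsg.IsDefectGroup p M B D ∧ (Subgroup.center ↥D).map D.subtype ≤ ((Subgroup.center ↥D₀).map D₀.subtype).map H.subtype ∧ ((Subgroup.center ↥D₀).map D₀.subtype).map H.subtype ≤ D₀.map H.subtype ∧ D₀.map H.subtype ≤ D) ∧ (∀ D : Subgroup G, Cfsg.IsDefectGroup p M B D → IsMulCommutative ↥D → Cfsg.IsDefectGroup p M B (D₀.map H.subtype)) := by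
  haveI := hM.2.1
  haveI : CharP (Cfsg.AlgInt ⧸ M) p := Cfsg.Agent.Blocks.charP_residue hM.2.2
  refine ⟨Cfsg.Agent.BlocksX.inducedBlockDefined_of_centralizer_le hM.2.2 hb hD₀ hC,
    fun B h => ?_⟩
  obtain ⟨E, hE, hle, hcap⟩ :=
    Cfsg.Agent.BlocksX.exists_defectGroup_nested (p := p) hb hD₀ hC h
  refine ⟨⟨E, hE, ?_, Subgroup.map_mono (Subgroup.map_subtype_le _), hle⟩, fun D hD hcomm => ?_⟩
  · rintro _ ⟨z, hz, rfl⟩
    have hzC : (z : G) ∈ Subgroup.centralizer ((D₀.map H.subtype : Subgroup G) : Set G) :=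
      Subgroup.mem_centralizer_iff.2 fun q hq =>
        congrArg Subtype.val (Subgroup.mem_center_iff.1 hz ⟨q, hle hq⟩)
    obtain ⟨d, hd, hdz⟩ := hcap ⟨z.2, hzC⟩
    refine ⟨d, ⟨⟨d, hd⟩, Subgroup.mem_center_iff.2 fun q => ?_, rfl⟩, hdz⟩
    refine Subtype.ext (Subtype.ext ?_)
    have h3 := Subgroup.mem_centralizer_iff.1 hzC _ ⟨q, q.2, rfl⟩
    rw [← hdz] at h3
    exact h3
  · obtain ⟨x, rfl⟩ := Cfsg.Agent.Blocks.defectGroup_conj hM.2.2 h.2.1 hD hE
    haveI := hcomm
    suffices hEq : E = D₀.map H.subtype by rw [← hEq]; exact hE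
    refine le_antisymm (fun g hg => hcap ⟨hg, Subgroup.mem_centralizer_iff.2 fun q hq => ?_⟩) hle
    have h2 := IsMulCommutative.is_comm.comm
      (⟨_, Subgroup.mem_map_of_mem (MulAut.conj x).toMonoidHom (hle hq)⟩ :
        E.map (MulAut.conj x).toMonoidHom)
      ⟨_, Subgroup.mem_map_of_mem (MulAut.conj x).toMonoidHom hg⟩
    exact (MulAut.conj x).injective (by rw [map_mul, map_mul]; exact congrArg Subtype.val h2)

end Cfsg.Agent.S4726
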