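import Cfsg.Statements.S4727
import Cfsg.Agent.Lib.BrauerPairs.PiKernel
import Cfsg.Agent.Lib.Blocks.SecondMain

set_option autoImplicit false
open Cfsg Cfsg.Agent Cfsg.Agent.BrauerPairs
open scoped Cfsg.Agent.Blocks

namespace Cfsg.Agent.S4727

/-- Let p be a prime, π a set of primes containing p, M a maximal ideal of the algebraic integers containing p, and B a p-block of the finite group G with defect group D; let B₁ be the block of N_G(D) with defect group D that induces B (the Brauer correspondent of B). Suppose every element of O_π'(N_G(D)), the largest normal subgroup of N_G(D) whose order has no prime divisor in π, lies in the kernel of every member of B₁. If y is a p-element whose centralizer C has a normal Hall π'-subgroup (every element of C whose order has no prime divisor in π lies in O_π'(C)), then χ(y x) = χ(y) for every χ ∈ B and every x ∈ C whose order has no prime divisor in π. -/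
theorem result {G : Type*} [Group G] [Finite G] (p : ℕ) [Fact p.Prime] (M : Ideal Cfsg.AlgInt) (hM : Cfsg.IsPModular p M) (π : Set ℕ) (hpπ : p ∈ π) (B : Set (Cfsg.IrrCharacter G)) (hB : Cfsg.IsPBlock M B) (D : Subgroup G) (hBD : Cfsg.IsDefectGroup p M B D) (B₁ : Set (Cfsg.IrrCharacter ↥(Subgroup.normalizer (D : Set G)))) (hB₁ : Cfsg.IsInducedBlock M (Subgroup.normalizer (D : Set G)) B₁ B) (hB₁D : Cfsg.IsDefectGroup p M B₁ (D.subgroupOf (Subgroup.normalizer (D : Set G)))) (hker : ∀ n : ↥(Subgroup.normalizer (D : Set G)), n ∈ Cfsg.piCore {q | q ∉ π} ↥(Subgroup.normalizer (D : Set G)) → n ∈ Cfsg.blockKer B₁) (y : G) (hy : ∃ k : ℕ, orderOf y = p ^ k) (hC : ∀ x : ↥(Subgroup.centralizer ({y} : Set G)), (∀ q : ℕ, q.Prime → q ∣ orderOf x → q ∉ π) → x ∈ Cfsg.piCore {q | q ∉ π} ↥(Subgroup.centralizer ({y} : Set G))) : ∀ χ ∈ B, ∀ x : G, x ∈ Subgroup.centralizer ({y} : Set G) → (∀ q : ℕ, q.Prime → q ∣ orderOf x → q ∉ π) → (χ : G → ℂ) (y * x) = (χ : G → ℂ)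 y := by
  classical
  have : M.IsMaximal := hM.2.1
  have : CharP (AlgInt ⧸ M) p := Blocks.charP_residue hM.2.2
  have hblk : ∀ H : Subgroup G, HasBlocks (AlgInt ⧸ M) H := fun H => hasBlocks M H
  have hσ : p ∉ {q : ℕ | q ∉ π} := fun h => h hpπ
  have hBi := isBlockIdem_blkG hB
  obtain ⟨e, hmax, heB₁⟩ := exists_max_pair_correspondent hM.2.2 hB hBD hB₁
  have hDp : IsPGroup p D := hmax.1.1.1
  have hKN : pairCore {q : ℕ | q ∉ π} D ≤ Subgroup.normalizer (D : Set G) :=
    (pairCore_le D).trans (Subgroup.centralizer_le_normalizer _)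
  have hKc : pairCore {q : ℕ | q ∉ π} D ≤ piCoreOf {q : ℕ | q ∉ π} (Subgroup.normalizer (D : Set G)) :=
    OddOrder.le_piCoreOf hKN (normalizer_le_pairCore D) (OddOrder.isPiGrp_piCoreOf _ _)
  have hKp : ∀ Q : Subgroup G, ¬ p ∣ Nat.card (pairCore {q : ℕ | q ∉ π} Q) := fun Q =>
    not_dvd_card_of_isPiGrp hσ (OddOrder.isPiGrp_piCoreOf _ _)
  have hB₁K := (blk_mul_avgEl_iff hM.2.2 hKN (normalizer_le_pairCore D) (hKp D) hB₁.1).2
    fun θ hθ n hn => hker n (by
      obtain ⟨m, hm, hmn⟩ := hKc hn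
      rwa [Subtype.ext hmn] at hm) θ hθ
  have hP : KerPair {q : ℕ | q ∉ π} (D, e) := by
    show e * avgEl _ (pairCore {q : ℕ | q ∉ π} D) = e
    have hce : e * avgEl (AlgInt ⧸ M) (pairCore {q : ℕ | q ∉ π} D) =
        avgEl (AlgInt ⧸ M) (pairCore {q : ℕ | q ∉ π} D) * e :=
      centerIn_commute hmax.1.1.2.mem.1 (avgEl_pairCore_mem D).2
    conv_rhs => rw [← heB₁, ← hB₁K]
    rw [mul_assoc, ← hce, ← mul_assoc, heB₁]
  set C : Subgroup G := Subgroup.centralizer ({y} : Set G) with hCdef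
  have hQp : IsPGroup p (Subgroup.zpowers y) := Blocks.isPGroup_zpowers hy
  have hQC : Subgroup.zpowers y ≤ C := Blocks.zpowers_le_centralizer
  have hCeq : Subgroup.centralizer ((Subgroup.zpowers y : Subgroup G) : Set G) = C :=
    Blocks.centralizer_zpowers_eq
  have hCN : C ≤ Subgroup.normalizer ((Subgroup.zpowers y : Subgroup G) : Set G) :=
    hCeq ▸ Subgroup.centralizer_le_normalizer _
  intro χ hχ x hx hπx
  have hyC : y ∈ C := hQC (Subgroup.mem_zpowers y)
  have hxcore : (⟨x, hx⟩ : C) ∈ piCore {q : ℕ | q ∉ π} C :=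
    hC ⟨x, hx⟩ fun q hq hd => hπx q hq (by rwa [← Subgroup.orderOf_coe] at hd)
  have hker₁ : ∀ η ∈ Blocks.inducingSet M C B, η.1 (⟨x, hx⟩ : C) = η.1 1 := by
    intro η hη
    have hbP := Blocks.isPBlock_blockOf (M := M) η
    have hbr := (isInducedBlock_iff_br hM.2.2 hQp hQC hCeq.le hCN hbP hB).1 hη
    have hfb : IsBlockIdem (Subgroup.centralizer ((Subgroup.zpowers y : Subgroup G) : Set G))
        (blk M C (blockOf M η.1)) := by
      rw [hCeq]; exact isBlockIdem_blk C hbP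
    have hPQ : blk M C (blockOf M η.1) *
        avgEl _ (pairCore {q : ℕ | q ∉ π} (Subgroup.zpowers y)) = blk M C (blockOf M η.1) :=
      KerPair.of_isMax hblk hσ hBi hmax (b := (Subgroup.zpowers y, blk M C (blockOf M η.1)))
        ⟨⟨hQp, hfb⟩, hbr⟩ hP
    rw [pairCore, hCeq] at hPQ
    exact (blk_mul_avgEl_iff hM.2.2 (OddOrder.piCoreOf_le _ _) (OddOrder.le_normalizer_piCoreOf _ _)
      (not_dvd_card_of_isPiGrp hσ (OddOrder.isPiGrp_piCoreOf _ _)) hbP).1 hPQ η (Blocks.mem_blockOf_self η)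
      ⟨x, hx⟩ ⟨⟨x, hx⟩, hxcore, rfl⟩
  have hcomm : Commute y x := (Subgroup.mem_centralizer_iff.1 hx y rfl : y * x = x * y)
  have h1 := Blocks.chiL_inducingSet hM.2.2 hy hB χ (g := (⟨y * x, C.mul_mem hyC hx⟩ : C))
    ⟨x, rfl, hcomm, hy, fun hd => hπx p Fact.out hd hpπ⟩
  have h2 := Blocks.chiL_inducingSet hM.2.2 hy hB χ (g := (⟨y, hyC⟩ : C))
    ⟨1, mul_one y, Commute.one_right y, hy, by rw [orderOf_one]; exact (Fact.out : p.Prime).not_dvd_one⟩
  rw [if_pos hχ] at h1 h2
  rw [← h1, ← h2]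
  congr 1
  show _ * MonoidAlgebra.single (y * x) 1 = _ * MonoidAlgebra.single y 1
  have hU : Blocks.blockIdem (Blocks.inducingSet M C B) * MonoidAlgebra.single (⟨x, hx⟩ : C) 1 =
      Blocks.blockIdem (Blocks.inducingSet M C B) := Blocks.alg_ext fun h => by
    haveI := Fintype.ofFinite C
    rw [Blocks.coeff_mul_single', mul_one, Blocks.coeff_blockIdem, Blocks.coeff_blockIdem,
      Blocks.blockCoeff_eq_sum, Blocks.blockCoeff_eq_sum]
    congr 1
    refine Finset.sum_congr rfl fun η hη => ?_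
    congr 2
    have hk : η.1 (⟨x, hx⟩ : C)⁻¹ = η.1 1 :=
      (CharInt.charKernel (Char.irr_isCharacter η)).inv_mem (hker₁ η (Finset.mem_filter.1 hη).2)
    rw [show h * (⟨x, hx⟩ : C)⁻¹ = h * (⟨x, hx⟩ : C)⁻¹ * h⁻¹ * h by group]
    exact CharInt.char_mul_of_mem_kernel (Char.irr_isCharacter η)
      ((CharInt.charKernel_normal (Char.irr_isCharacter η)).conj_mem _ hk h) h
  rw [show MonoidAlgebra.single (y * x) (1 : ℂ) =
      MonoidAlgebra.single x 1 * MonoidAlgebra.single y 1 by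
    rw [MonoidAlgebra.single_mul_single, one_mul, hcomm.eq], ← mul_assoc]
  congr 1
  conv_rhs => rw [← hU]
  rw [map_mul, Blocks.inclA_single]

end Cfsg.Agent.S4727
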