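import Cfsg.Statements.S4728
import Cfsg.Agent.Lib.BrauerPairs.PiKernel
import Cfsg.Agent.Lib.Blocks.SecondMain

set_option autoImplicit false
open Cfsg Cfsg.Agent Cfsg.Agent.BrauerPairs
open scoped Cfsg.Agent.Blocks

namespace Cfsg.Agent.S4728

/-- Let p be a prime, π a set of primes containing p, M a maximal ideal of the algebraic integers containing p, B a p-block of the finite group G with defect group D, and B₁ the block of N_G(D) with defect group D inducing B. Let D₀ be a p-subgroup, H₀ = D₀·C_G(D₀), and b a block of H₀ inducing B. Write O_π'(X) for the largest normal subgroup of X whose order has no prime divisor in π. Suppose that O_π'(C_G(D₀)) is a normal Hall π'-subgroup of C_G(D₀) (it contains every element of C_G(D₀) whose order has no prime divisor in π) and that every element of it lies in the kernel of every member of b. Then every element of O_π'(N_G(D)) lies in the kernel of every member of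 B₁. -/
theorem result {G : Type*} [Group G] [Finite G] (p : ℕ) [Fact p.Prime] (M : Ideal Cfsg.AlgInt) (hM : Cfsg.IsPModular p M) (π : Set ℕ) (hpπ : p ∈ π) (B : Set (Cfsg.IrrCharacter G)) (hB : Cfsg.IsPBlock M B) (D : Subgroup G) (hBD : Cfsg.IsDefectGroup p M B D) (B₁ : Set (Cfsg.IrrCharacter ↥(Subgroup.normalizer (D : Set G)))) (hB₁ : Cfsg.IsInducedBlock M (Subgroup.normalizer (D : Set G)) B₁ B) (hB₁D : Cfsg.IsDefectGroup p M B₁ (D.subgroupOf (Subgroup.normalizer (D : Set G)))) (D₀ : Subgroup G) (hD₀ : IsPGroup p D₀) (H₀ : Subgroup G) (hH₀ : H₀ = D₀ ⊔ Subgroup.centralizer (D₀ : Set G)) (b : Set (Cfsg.IrrCharacter ↥H₀)) (hb : Cfsg.IsInducedBlock M H₀ b B) (hcompl : ∀ x : ↥(Subgroup.centralizer (D₀ : Set G)), (∀ q : ℕ, q.Prime → q ∣ orderOf x → q ∉ π) → x ∈ Cfsg.piCore {q | q ∉ π} ↥(Subgroup.centralizer (D₀ : Set G))) (hkerb : ∀ x : ↥(Subgroup.centralizer (D₀ : Set G)), x ∈ Cfsg.piCore {q | q ∉ π} ↥(Subgroup.centralizer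 (D₀ : Set G)) → ∀ θ ∈ b, ∀ h : ↥H₀, (h : G) = (x : G) → (θ : ↥H₀ → ℂ) h = (θ : ↥H₀ → ℂ) 1) : ∀ n : ↥(Subgroup.normalizer (D : Set G)), n ∈ Cfsg.piCore {q | q ∉ π} ↥(Subgroup.normalizer (D : Set G)) → n ∈ Cfsg.blockKer B₁ := by
  classical
  have : M.IsMaximal := hM.2.1
  have : CharP (AlgInt ⧸ M) p := Blocks.charP_residue hM.2.2
  have hblk : ∀ H : Subgroup G, HasBlocks (AlgInt ⧸ M) H := fun H => hasBlocks M H
  have hσ : p ∉ {q : ℕ | q ∉ π} := fun h => h hpπ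
  have hBi := isBlockIdem_blkG hB
  obtain ⟨e, hmax, heB₁⟩ := exists_max_pair_correspondent hM.2.2 hB hBD hB₁
  have hDp : IsPGroup p D := hmax.1.1.1
  have hQH : D₀ ≤ H₀ := hH₀ ▸ le_sup_left
  have hCH : Subgroup.centralizer (D₀ : Set G) ≤ H₀ := hH₀ ▸ le_sup_right
  have hHN : H₀ ≤ Subgroup.normalizer (D₀ : Set G) :=
    hH₀ ▸ sup_le Subgroup.le_normalizer (Subgroup.centralizer_le_normalizer _)
  have hbi := isBlockIdem_blk H₀ hb.1
  have hbB := (isInducedBlock_iff_br hM.2.2 hD₀ hQH hCH hHN hb.1 hB).1 hb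
  have hbb : br D₀ (blk M H₀ b) = blk M H₀ b := br_eq_of_normal hD₀ hQH hHN hbi
  have hbC : blk M H₀ b ∈ centerIn (AlgInt ⧸ M) (Subgroup.centralizer (D₀ : Set G)) :=
    ⟨fun x hx => by rw [← hbb]; exact coeff_br_of_notMem _ hx, fixedBy_anti hCH hbi.mem.2⟩
  obtain ⟨f, hf, hne⟩ := exists_blockIdem_mul_ne_zero hblk (Subgroup.centralizer (D₀ : Set G)) hbi.ne_zero
  have hbf : blk M H₀ b * f = f := hf.mul_eq_self_of_ne hbC hbi.idem hne
  have hpair : IsPairOf p (blkG M B) (D₀, f) := by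
    refine ⟨⟨hD₀, hf⟩, ?_⟩
    show br D₀ (blkG M B) * f = f
    conv_lhs => rw [← hbf, ← mul_assoc, hbB, hbf]
  have hKn : H₀ ≤ Subgroup.normalizer (pairCore {q : ℕ | q ∉ π} D₀ : Set G) :=
    hHN.trans (normalizer_le_pairCore D₀)
  have hbK := (blk_mul_avgEl_iff hM.2.2 ((pairCore_le D₀).trans hCH) hKn
    (not_dvd_card_of_isPiGrp hσ (OddOrder.isPiGrp_piCoreOf _ _)) hb.1).2 fun θ hθ h hh => by
      obtain ⟨x, hx, hxh⟩ := hh
      exact hkerb x hx θ hθ h hxh.symm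
  have hP : KerPair {q : ℕ | q ∉ π} (D₀, f) := by
    show f * avgEl _ (pairCore {q : ℕ | q ∉ π} D₀) = f
    have hc : f * avgEl (AlgInt ⧸ M) (pairCore {q : ℕ | q ∉ π} D₀) =
        avgEl (AlgInt ⧸ M) (pairCore {q : ℕ | q ∉ π} D₀) * f :=
      centerIn_commute hf.mem.1 (avgEl_pairCore_mem D₀).2
    conv_rhs => rw [← hbf, ← hbK]
    rw [mul_assoc, ← hc, ← mul_assoc, hbf]
  have hH : HallPair {q : ℕ | q ∉ π} D₀ := fun x hx hσx =>
    ⟨⟨x, hx⟩, hcompl ⟨x, hx⟩ (fun q hq hd => hσx q hq (by rwa [← Subgroup.orderOf_coe] at hd)), rfl⟩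
  obtain ⟨g, hg⟩ := exists_conj_ple hblk hBi hmax hpair
  obtain ⟨hHD, hPD⟩ := KerPair.up hσ hg (hH.conj g) (hP.conj g)
  set K : Subgroup G := piCoreOf {q : ℕ | q ∉ π} (Subgroup.normalizer (D : Set G)) with hK
  have hKN : K ≤ Subgroup.normalizer (D : Set G) := OddOrder.piCoreOf_le _ _
  have hNK : Subgroup.normalizer (D : Set G) ≤ Subgroup.normalizer (K : Set G) :=
    OddOrder.le_normalizer_piCoreOf _ _
  have hK0 : ¬ p ∣ Nat.card K := not_dvd_card_of_isPiGrp hσ (OddOrder.isPiGrp_piCoreOf _ _)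
  have hKD : K ⊓ D = ⊥ := by
    rw [Subgroup.eq_bot_iff_forall]
    intro x hx
    obtain ⟨m, hm⟩ := hDp ⟨x, hx.2⟩
    have h1 : orderOf x ∣ p ^ m := orderOf_dvd_of_pow_eq_one (congrArg Subtype.val hm)
    have h2 : (p ^ m).Coprime (Nat.card K) := ((Fact.out : p.Prime).coprime_iff_not_dvd.2 hK0).pow_left m
    exact orderOf_eq_one_iff.1 (Nat.eq_one_of_dvd_coprimes h2 h1 (Subgroup.orderOf_dvd_natCard _ hx.1))
  have hKC : K ≤ Subgroup.centralizer (D : Set G) := fun x hx =>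
    Subgroup.mem_centralizer_iff.2 fun d hd => by
      have h1 : x * d * x⁻¹ * d⁻¹ ∈ K ⊓ D := by
        refine ⟨?_, D.mul_mem (((Subgroup.mem_normalizer_iff.1 (hKN hx)) d).1 hd) (D.inv_mem hd)⟩
        have h2 := ((Subgroup.mem_normalizer_iff.1 (hNK (Subgroup.le_normalizer hd))) x⁻¹).1 (K.inv_mem hx)
        rw [show x * d * x⁻¹ * d⁻¹ = x * (d * x⁻¹ * d⁻¹) by group]
        exact K.mul_mem hx h2
      rw [hKD, Subgroup.mem_bot, mul_inv_eq_one, mul_inv_eq_iff_eq_mul] at h1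
      exact h1.symm
  have hKle : K ≤ pairCore {q : ℕ | q ∉ π} D := OddOrder.le_piCoreOf hKC
    ((Subgroup.centralizer_le_normalizer _).trans hNK) (OddOrder.isPiGrp_piCoreOf _ _)
  have heK : e * avgEl (AlgInt ⧸ M) K = e := by
    conv_lhs => rw [← show e * avgEl (AlgInt ⧸ M) (pairCore {q : ℕ | q ∉ π} D) = e from hPD, mul_assoc,
      avgEl_mul_of_le hK0 hKle]
    exact hPD
  have hb1 := isBlockIdem_blk _ hB₁.1
  have hker' : blk M _ B₁ * avgEl (AlgInt ⧸ M) K = blk M _ B₁ := by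
    rw [centerIn_commute hb1.mem.1 (avgEl_mem_fixedBy hNK)]
    refine hb1.mul_eq_self_of_ne (avgEl_mem_centerIn hKN hNK) (avgEl_idem hK0) fun h0 =>
      hmax.1.1.2.ne_zero ?_
    have hc : e * avgEl (AlgInt ⧸ M) K = avgEl (AlgInt ⧸ M) K * e :=
      centerIn_commute hmax.1.1.2.mem.1 (avgEl_mem_fixedBy ((Subgroup.centralizer_le_normalizer _).trans hNK))
    show e = 0
    rw [← heK, hc, ← heB₁, ← mul_assoc, h0, zero_mul]
  intro n hn θ hθ
  exact (blk_mul_avgEl_iff hM.2.2 hKN hNK hK0 hB₁.1).1 hker' θ hθ n ⟨n, hn, rfl⟩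

end Cfsg.Agent.S4728
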