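import Cfsg.Statements.S4729
import Cfsg.Agent.Lib.BlockCount.Involve
import Cfsg.Agent.Lib.Blocks.Core
import Cfsg.Agent.Lib.CharInt.Eigen

set_option autoImplicit false
open Cfsg

namespace Cfsg.Agent.S4729

/-- Let p be a prime, M a maximal ideal of the algebraic integers containing p, G a finite perfect group and P a Sylow p-subgroup. If the principal p-block of G contains a faithful irreducible character of degree less than 2p, then the centralizer of P is a p-group. -/
theorem result {G : Type*} [Group G] [Finite G] (p : ℕ) [Fact p.Prime] (M : Ideal Cfsg.AlgInt) (hM : Cfsg.IsPModular p M) (hperf : commutator G = ⊤) (P : Sylow p G) (χ : Cfsg.IrrCharacter G) (hχ : χ ∈ Cfsg.principalBlock M G) (hfaith : ∀ g : G, (χ : G → ℂ) g = (χ : G → ℂ) 1 → g = 1) (hdeg : Cfsg.charDegree (χ : G → ℂ) < 2 * p) : IsPGroup p ↥(Subgroup.centralizer ((P : Subgroup G) : Set G)) := by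
  classical
  haveI := Fintype.ofFinite G
  have hp : p.Prime := Fact.out
  haveI : M.IsMaximal := hM.2.1
  set C := Subgroup.centralizer ((P : Subgroup G) : Set G) with hCdef
  by_contra hnotp
  obtain ⟨k, hk⟩ : ∃ k : ℕ, k = (Nat.card C).factorization p := ⟨_, rfl⟩
  obtain ⟨q, hq, hqC, hqp⟩ : ∃ q : ℕ, q.Prime ∧ q ∣ Nat.card C ∧ q ≠ p := by
    by_contra hno
    push Not at hno
    exact hnotp (IsPGroup.of_card (n := (Nat.card C).primeFactorsList.length)
      (Nat.eq_prime_pow_of_unique_prime_dvd Nat.card_pos.ne' fun {d} hd hdd => hno d hd hdd))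
  haveI : Fact q.Prime := ⟨hq⟩
  obtain ⟨⟨z, hzC⟩, hzq⟩ := exists_prime_orderOf_dvd_card' q hqC
  rw [Subgroup.orderOf_mk] at hzq
  obtain ⟨m, ρ, hρ, hρχ⟩ := χ.2
  have hn : Cfsg.charDegree (χ : G → ℂ) = Module.finrank ℂ (Fin m → ℂ) := by
    rw [Cfsg.charDegree, ← hρχ, Representation.char_one, Complex.natCast_re, Nat.floor_natCast]
  rw [hn] at hdeg
  set n := Module.finrank ℂ (Fin m → ℂ) with hn'
  have hn0 : n ≠ 0 := fun h => Cfsg.Agent.Char.IsIrrCharacter.apply_one_ne_zero χ.2
    (by rw [← hρχ, Representation.char_one, ← hn', h, Nat.cast_zero])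
  obtain ⟨e, μ, hμ, he⟩ := Cfsg.Agent.CharInt.exists_eigenbasis_rho ρ z
  rw [hzq] at hμ
  have hpow : ∀ j : ℕ, (χ : G → ℂ) (z ^ j) = ∑ i, μ i ^ j := by
    intro j
    rw [← hρχ, Representation.character, map_pow]
    exact Cfsg.Agent.CharInt.trace_of_eigenbasis e
      (Cfsg.Agent.CharInt.pow_apply_eigenvector e he j)
  have hI : ∀ j : ℕ, Cfsg.MemLocalIdeal M (((χ : G → ℂ) (z ^ j) - (n : ℂ)) / (n : ℂ)) := by
    intro j
    have hidx : ¬ p ∣ (Subgroup.centralizer ({z ^ j} : Set G)).index := by
      intro hd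
      refine P.not_dvd_index (hd.trans (Subgroup.index_dvd_of_le ?_))
      intro u hu
      rw [Subgroup.mem_centralizer_singleton_iff]
      exact ((show Commute u z from hzC u hu).pow_right j).eq
    have h1 := hχ (z ^ j)
    rw [Cfsg.centralChar, Cfsg.centralChar, mul_one, div_one] at h1
    have h2 := Cfsg.Agent.Blocks.MemLocalIdeal.mul_left
      (Cfsg.Agent.Blocks.memLocalRing_inv_natCast hM.2.2 hidx)
      (Cfsg.Agent.Blocks.MemLocalIdeal.neg h1)
    rw [neg_sub, mul_sub, mul_div_assoc, inv_mul_cancel_left₀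
      (Nat.cast_ne_zero.mpr Subgroup.index_ne_zero_of_finite),
      inv_mul_cancel₀ (Nat.cast_ne_zero.mpr Subgroup.index_ne_zero_of_finite)] at h2
    rw [sub_div, div_self (Nat.cast_ne_zero.mpr hn0)]
    rwa [show (χ : G → ℂ) 1 = (n : ℂ) by rw [← hρχ, Representation.char_one]] at h2
  -- eigenvalues different from one have multiplicity divisible by `p`, strictly more than `n`
  have hmult : ∀ ζ : ℂ, ζ ≠ 1 → ζ ^ q = 1 → (Finset.univ.filter (fun i => μ i = ζ)).card ≠ 0 →
      n.factorization p < (Finset.univ.filter (fun i => μ i = ζ)).card.factorization p := by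
    intro ζ hζ1 hζ hne
    have hζ0 : ζ ≠ 0 := fun h => by simp [h, hq.ne_zero] at hζ
    have hgeom : ∀ w : ℂ, w ^ q = 1 →
        ∑ j ∈ Finset.range q, w ^ j = if w = 1 then (q : ℂ) else 0 := by
      intro w hw
      split_ifs with h
      · simp [h]
      · have := geom_sum_mul w q
        rw [hw, sub_self, mul_eq_zero] at this
        exact this.resolve_right (sub_ne_zero.mpr h)
    have hzero : ∑ j ∈ Finset.range q, (ζ⁻¹) ^ j = 0 := by
      rw [hgeom _ (by rw [inv_pow, hζ, inv_one]), if_neg (fun h => hζ1 (inv_eq_one.mp h))]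
    have hsum : ∑ j ∈ Finset.range q, ((χ : G → ℂ) (z ^ j) - (n : ℂ)) / (n : ℂ) * (ζ⁻¹) ^ j =
        ((q * (Finset.univ.filter (fun i => μ i = ζ)).card : ℕ) : ℂ) / (n : ℂ) := by
      simp only [div_mul_eq_mul_div, ← Finset.sum_div, sub_mul, Finset.sum_sub_distrib,
        ← Finset.mul_sum, hzero, mul_zero, sub_zero]
      congr 1
      simp only [hpow, Finset.sum_mul, ← mul_pow]
      rw [Finset.sum_comm, Finset.sum_congr rfl (fun i _ => hgeom (μ i * ζ⁻¹)
        (by rw [mul_pow, inv_pow, hζ, hμ i, inv_one, mul_one])), Finset.sum_ite,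
        Finset.sum_const_zero, add_zero, Finset.sum_const, nsmul_eq_mul]
      have : Finset.univ.filter (fun i => μ i * ζ⁻¹ = 1) = Finset.univ.filter (fun i => μ i = ζ) := by
        refine Finset.filter_congr fun i _ => ?_
        exact mul_inv_eq_one₀ hζ0
      rw [this]
      push_cast
      ring
    have hmem : Cfsg.MemLocalIdeal M
        (((q * (Finset.univ.filter (fun i => μ i = ζ)).card : ℕ) : ℂ) / (n : ℂ)) := by
      rw [← hsum]
      refine Cfsg.Agent.Blocks.MemLocalIdeal.sum _ fun j _ => ?_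
      refine Cfsg.Agent.Blocks.MemLocalIdeal.mul_right (hI j)
        (Cfsg.Agent.Blocks.memLocalRing_of_isIntegral (IsIntegral.pow ?_ j))
      exact IsIntegral.of_pow hq.pos (by rw [inv_pow, hζ, inv_one]; exact isIntegral_one)
    have := (Cfsg.Agent.Blocks.memLocalIdeal_natCast_div_iff hM.2.2 (mul_ne_zero hq.ne_zero hne)
      hn0).mp hmem
    rwa [Nat.factorization_mul hq.ne_zero hne, Finsupp.add_apply,
      Nat.factorization_eq_zero_of_not_dvd (fun h => hqp ((Nat.prime_dvd_prime_iff_eq hp hq).mp h).symm),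
      zero_add] at this
  have hz1 : z ≠ 1 := fun h => hq.one_lt.ne (by rw [← hzq, h, orderOf_one])
  obtain ⟨i₀, hi₀⟩ : ∃ i, μ i ≠ 1 := by
    by_contra hall
    push Not at hall
    refine hz1 (hfaith z ?_)
    have h1 := hpow 1
    simp only [pow_one, hall, Finset.sum_const, Finset.card_univ, Fintype.card_fin, nsmul_eq_mul,
      mul_one] at h1
    rw [h1, ← hρχ, Representation.char_one]
  -- every eigenvalue different from one equals `μ i₀` and this occurs exactly `p` times
  have hbig : ∀ i, μ i ≠ 1 → p ≤ (Finset.univ.filter (fun l => μ l = μ i)).card ∧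
      n.factorization p = 0 ∧ (Finset.univ.filter (fun l => μ l = μ i)).card = p := by
    intro i hi
    have hne : (Finset.univ.filter (fun l => μ l = μ i)).card ≠ 0 :=
      Finset.card_ne_zero.mpr ⟨i, by simp⟩
    have h1 := hmult (μ i) hi (hμ i) hne
    set c := (Finset.univ.filter (fun l => μ l = μ i)).card with hc
    have hcn : c ≤ n := by
      rw [hc, hn']
      exact (Finset.card_le_univ _).trans (le_of_eq (Fintype.card_fin _))
    have hdvd : p ^ (n.factorization p + 1) ∣ c := (pow_dvd_pow p h1).trans (Nat.ordProj_dvd c p)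
    have hle := Nat.le_of_dvd (Nat.pos_of_ne_zero hne) hdvd
    obtain ⟨w, hw⟩ := hdvd
    have hpn : n.factorization p = 0 := by
      by_contra hne0
      have h2 : p * p ≤ p ^ (n.factorization p + 1) := by
        rw [← pow_two]; exact Nat.pow_le_pow_right hp.pos (by omega)
      have := hp.two_le
      nlinarith
    rw [hpn, zero_add, pow_one] at hw hle
    refine ⟨hle, hpn, ?_⟩
    have hw1 : w = 1 := by
      rcases w with _ | _ | w
      · omega
      · rfl
      · nlinarith
    rw [hw, hw1, mul_one]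
  have hone : ∀ i, μ i ≠ 1 → μ i = μ i₀ := by
    intro i hi
    by_contra hne
    have h1 := (hbig i hi).1
    have h2 := (hbig i₀ hi₀).1
    have hdisj : Disjoint (Finset.univ.filter (fun l => μ l = μ i))
        (Finset.univ.filter (fun l => μ l = μ i₀)) :=
      Finset.disjoint_filter.mpr fun l _ h h' => hne (h.symm.trans h')
    have h3 := Finset.card_union_of_disjoint hdisj
    have h4 := Finset.card_le_univ ((Finset.univ.filter (fun l => μ l = μ i)) ∪
        (Finset.univ.filter (fun l => μ l = μ i₀)))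
    rw [Fintype.card_fin] at h4
    omega
  -- determinant
  have hdet : ∏ i, μ i = 1 := by
    rw [← Cfsg.Agent.CharInt.det_of_eigenbasis e he]
    have hker : commutator G ≤ ((LinearMap.det.comp ρ : G →* ℂ).toHomUnits).ker :=
      Abelianization.commutator_subset_ker _
    have h1 := congrArg Units.val (MonoidHom.mem_ker.mp (hker (by rw [hperf]; trivial : z ∈ commutator G)))
    simpa using h1
  rw [← Finset.prod_filter_mul_prod_filter_not Finset.univ (fun l => μ l = μ i₀),
    Finset.prod_eq_one (s := Finset.univ.filter (fun l => ¬ μ l = μ i₀)) (fun i hi => by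
      by_contra h; exact (Finset.mem_filter.mp hi).2 (hone i h)), mul_one,
    Finset.prod_congr rfl (fun i hi => (Finset.mem_filter.mp hi).2), Finset.prod_const,
    (hbig i₀ hi₀).2.2] at hdet
  refine hi₀ ?_
  have h1 := (pow_gcd_eq_one (a := μ i₀) (m := q) (n := p)).mpr ⟨hμ i₀, hdet⟩
  rwa [(Nat.coprime_primes hq hp).mpr hqp, pow_one] at h1

end Cfsg.Agent.S4729
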