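import Cfsg.Statements.S4730
import Cfsg.Agent.Lib.BlockCount.Involve
import Cfsg.Agent.Lib.Blocks.Core
import Cfsg.Agent.Lib.CharInt.Central

set_option autoImplicit false
open Cfsg

namespace Cfsg.Agent.S4730

/-- Let p be a prime, M a maximal ideal of the algebraic integers containing p, and G a finite group with trivial centre, Sylow p-subgroup P of order p^a and centre Z(P) of order p^b. If χ is a faithful irreducible character of G whose degree is a power of p, then the p-block of χ has defect at most a − b; in particular, if P is abelian then χ lies in a block of defect zero. -/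
theorem result {G : Type*} [Group G] [Finite G] (p : ℕ) [Fact p.Prime] (M : Ideal Cfsg.AlgInt) (hM : Cfsg.IsPModular p M) (hZ : Subgroup.center G = ⊥) (P : Sylow p G) (a b : ℕ) (ha : Nat.card P = p ^ a) (hb : Nat.card (Subgroup.center ↥(P : Subgroup G)) = p ^ b) (χ : Cfsg.IrrCharacter G) (hfaith : ∀ g : G, (χ : G → ℂ) g = (χ : G → ℂ) 1 → g = 1) (n : ℕ) (hdeg : Cfsg.charDegree (χ : G → ℂ) = p ^ n) : Cfsg.blockDefect p (Cfsg.blockOf M (χ : G → ℂ)) ≤ a - b ∧ (IsMulCommutative ↥(P : Subgroup G) → Cfsg.blockDefect p (Cfsg.blockOf M (χ : G → ℂ)) = 0) := by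
  classical
  haveI := Fintype.ofFinite G
  have hp : p.Prime := Fact.out
  haveI : M.IsMaximal := hM.2.1
  set Z := (Subgroup.center ↥(P : Subgroup G)).map (P : Subgroup G).subtype with hZdef
  have hZcard : Nat.card Z = p ^ b := by
    rw [hZdef, ← Nat.card_congr ((Subgroup.center ↥(P : Subgroup G)).equivMapOfInjective _
      (P : Subgroup G).subtype_injective).toEquiv, hb]
  have hclass : ∀ z ∈ Z, ¬ p ∣ (Subgroup.centralizer ({z} : Set G)).index := by
    rintro _ ⟨⟨z, hzP⟩, hz, rfl⟩ hd
    refine P.not_dvd_index (hd.trans (Subgroup.index_dvd_of_le ?_))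
    intro u hu
    rw [Subgroup.mem_centralizer_singleton_iff]
    exact congrArg Subtype.val (Subgroup.mem_center_iff.mp hz ⟨u, hu⟩)
  have hchar := Cfsg.Agent.Char.irr_isCharacter χ
  have hvan : ∀ z ∈ Z, z ≠ 1 → (χ : G → ℂ) z = 0 := by
    intro z hz hz1
    obtain ⟨m, ρ, hρ, hρχ⟩ := χ.2
    haveI := hρ
    have hm : Module.finrank ℂ (Fin m → ℂ) = p ^ n := by
      rw [← hdeg, Cfsg.charDegree, ← hρχ, Representation.char_one, Complex.natCast_re,
        Nat.floor_natCast]
    have hcop : Nat.Coprime (Module.finrank ℂ (Fin m → ℂ)) (Nat.card {h : G // IsConj z h}) := by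
      rw [hm, Cfsg.Agent.Blocks.card_isConj_eq_index]
      exact Nat.Coprime.pow_left n (hp.coprime_iff_not_dvd.mpr (hclass z hz))
    rcases Cfsg.Agent.CharInt.character_eq_zero_or_norm_eq ρ z hcop with h | h
    · rw [← hρχ]; exact h
    · exfalso
      refine hz1 ?_
      have hnorm : ‖(χ : G → ℂ) z‖ = ‖(χ : G → ℂ) 1‖ := by
        rw [← hρχ, h, Representation.char_one, Complex.norm_natCast]
      rw [← Subgroup.mem_bot, ← hZ, Subgroup.mem_center_iff]
      intro g
      have key : (χ : G → ℂ) (z * (g * z⁻¹ * g⁻¹)) = (χ : G → ℂ) 1 := by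
        have h1 := Cfsg.Agent.CharInt.char_mul_of_mem_centre hchar hnorm (g * z⁻¹ * g⁻¹)
        rw [Cfsg.Agent.CharInt.char_conj_apply hchar z⁻¹ g, Cfsg.Agent.CharInt.char_inv hchar,
          Complex.mul_conj, Complex.normSq_eq_norm_sq, hnorm] at h1
        refine mul_right_cancel₀ (Cfsg.Agent.Char.IsIrrCharacter.apply_one_ne_zero χ.2) (h1.trans ?_)
        obtain ⟨d, hd⟩ := Cfsg.Agent.CharInt.exists_degree hchar
        rw [hd, Complex.norm_natCast]
        push_cast
        ring
      have h2 := hfaith _ key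
      calc g * z = z * (g * z⁻¹ * g⁻¹) * (g * z) := by rw [h2, one_mul]
        _ = z * g := by group
  have hmem : ∀ ψ ∈ Cfsg.blockOf M (χ : G → ℂ),
      b ≤ (Cfsg.charDegree (ψ : G → ℂ)).factorization p := by
    intro ψ hψ
    by_contra hlt
    push Not at hlt
    haveI : Fintype Z := Fintype.ofFinite Z
    obtain ⟨m, hm⟩ := ((Cfsg.Agent.BlockCount.isRepChar_of_isCharacter
      (Cfsg.Agent.Char.irr_isCharacter ψ)).comp Z.subtype).sum_eq
    have hm' : ∑ z : Z, (ψ : G → ℂ) z = (Nat.card Z : ℂ) * m := hm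
    set d := Cfsg.charDegree (ψ : G → ℂ) with hd
    have hd1 : (ψ : G → ℂ) 1 = (d : ℂ) := Cfsg.Agent.BlockCount.apply_one_eq_charDegree ψ
    have hd0 : d ≠ 0 := fun h => Cfsg.Agent.Char.IsIrrCharacter.apply_one_ne_zero ψ.2
      (by rw [hd1, h, Nat.cast_zero])
    have hrest : Cfsg.MemLocalIdeal M ((∑ z : Z, (ψ : G → ℂ) z) / (d : ℂ) - 1) := by
      rw [Finset.sum_div, ← Finset.add_sum_erase _ _ (Finset.mem_univ (1 : Z)), Subgroup.coe_one,
        hd1, div_self (Nat.cast_ne_zero.mpr hd0), add_sub_cancel_left]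
      refine Cfsg.Agent.Blocks.MemLocalIdeal.sum _ fun z hz => ?_
      have hz1 : (z : G) ≠ 1 := fun h => (Finset.mem_erase.mp hz).1 (Subtype.ext h)
      have h1 := hψ (z : G)
      rw [Cfsg.centralChar, hvan z z.2 hz1, mul_zero, zero_div, zero_sub] at h1
      have h2 := Cfsg.Agent.Blocks.MemLocalIdeal.mul_left
        (Cfsg.Agent.Blocks.memLocalRing_inv_natCast hM.2.2 (hclass z z.2))
        (Cfsg.Agent.Blocks.MemLocalIdeal.neg h1)
      rw [neg_neg, Cfsg.centralChar, hd1, mul_div_assoc, inv_mul_cancel_left₀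
        (Nat.cast_ne_zero.mpr Subgroup.index_ne_zero_of_finite)] at h2
      exact h2
    have hI : Cfsg.MemLocalIdeal M ((∑ z : Z, (ψ : G → ℂ) z) / (d : ℂ)) := by
      rw [hm', ← Nat.cast_mul]
      rcases eq_or_ne m 0 with rfl | hm0
      · rw [mul_zero, Nat.cast_zero, zero_div]
        exact Cfsg.Agent.Blocks.memLocalIdeal_zero
      · refine Cfsg.Agent.Blocks.memLocalIdeal_natCast_div hM.2.2
          (mul_ne_zero Nat.card_pos.ne' hm0) hd0 ?_
        rw [hZcard, Nat.factorization_mul (pow_ne_zero _ hp.ne_zero) hm0, Finsupp.add_apply,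
          hp.factorization_pow, Finsupp.single_eq_same]
        omega
    exact Cfsg.Agent.Blocks.not_memLocalIdeal_one (M := M)
      (by simpa using Cfsg.Agent.Blocks.MemLocalIdeal.sub hI hrest)
  have hbound : Cfsg.blockDefect p (Cfsg.blockOf M (χ : G → ℂ)) ≤ a - b := by
    have ha' : (Nat.card G).factorization p = a := by
      have h1 := P.card_eq_multiplicity
      rw [ha] at h1
      exact (Nat.pow_right_injective hp.two_le h1).symm
    rw [Cfsg.blockDefect, ha']
    refine Nat.sub_le_sub_left ?_ a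
    refine le_csInf ((Cfsg.Agent.Blocks.block_nonempty (Cfsg.Agent.Blocks.isPBlock_blockOf χ)).image _) ?_
    rintro _ ⟨ψ, hψ, rfl⟩
    exact hmem ψ hψ
  refine ⟨hbound, fun hab => ?_⟩
  have hba : b = a := by
    have : Subgroup.center ↥(P : Subgroup G) = ⊤ := by
      exact eq_top_iff.mpr fun u _ => Subgroup.mem_center_iff.mpr fun v => mul_comm' v u
    rw [this, Subgroup.card_top, ha] at hb
    exact (Nat.pow_right_injective hp.two_le hb).symm
  omega

end Cfsg.Agent.S4730
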