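import Cfsg.Statements.S4731
import Cfsg.Agent.Lib.BlockCount.Criterion
-- import your own Cfsg.Agent.* helpers here

set_option autoImplicit false
open Cfsg

namespace Cfsg.Agent.S4731

/-- Let p ≠ q be primes, M_p and M_q maximal ideals of the algebraic integers containing p and q respectively, and G a finite group with no element of order pq; let q^b be the q-part of the order of G. For a p-block B_p (relative to M_p), a q-block B_q (relative to M_q) and a p-singular element y, the sum of χ(1)χ(y) over the irreducible characters χ lying in both B_p and B_q is q^b times an algebraic integer. -/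
theorem result {G : Type*} [Group G] [Finite G] (p q : ℕ) [Fact p.Prime] [Fact q.Prime] (hpq : p ≠ q) (Mp Mq : Ideal Cfsg.AlgInt) (hMp : Cfsg.IsPModular p Mp) (hMq : Cfsg.IsPModular q Mq) (hno : ∀ g : G, orderOf g ≠ p * q) (b : ℕ) (hb : (Nat.card G).factorization q = b) (Bp : Set (Cfsg.IrrCharacter G)) (hBp : Cfsg.IsPBlock Mp Bp) (Bq : Set (Cfsg.IrrCharacter G)) (hBq : Cfsg.IsPBlock Mq Bq) (y : G) (hy : p ∣ orderOf y) : ∃ ω : Cfsg.AlgInt, ∑ᶠ χ ∈ Bp ∩ Bq, (Cfsg.charDegree (χ : G → ℂ) : ℂ) * (χ : G → ℂ) y = (q : ℂ) ^ b * (ω : ℂ) := by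
  classical
  haveI := Fintype.ofFinite G
  haveI := hMp.2.1
  haveI := hMq.2.1
  have hp : p.Prime := Fact.out
  have hq : q.Prime := Fact.out
  set N := ∑ᶠ χ ∈ Bp ∩ Bq, (Cfsg.charDegree (χ : G → ℂ) : ℂ) * (χ : G → ℂ) y with hN
  set F : G → ℂ := fun g => ∑ χ ∈ Bp.toFinset, (χ : G → ℂ) y * (χ : G → ℂ) g with hF
  -- the sum is the scalar product of `F` with the idempotent of the q-block
  have hNeq : N = ∑ g : G, F g * Cfsg.blockCoeff Bq g := by
    have hG : (Nat.card G : ℂ) ≠ 0 := Nat.cast_ne_zero.2 Nat.card_pos.ne'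
    have h1 : ∀ χ ψ : Cfsg.IrrCharacter G, ∑ g : G, (χ : G → ℂ) g * (starRingEnd ℂ) ((ψ : G → ℂ) g)
        = if χ = ψ then (Nat.card G : ℂ) else 0 := fun χ ψ => by
      have := Agent.Char.classInner_irr χ ψ
      rw [Cfsg.classInner, inv_mul_eq_iff_eq_mul₀ hG] at this
      rw [this]
      split_ifs <;> simp
    calc N = ∑ χ ∈ Bp.toFinset, ∑ ψ ∈ Bq.toFinset, (χ : G → ℂ) y *
          ((ψ : G → ℂ) 1 * ((Nat.card G : ℂ)⁻¹ * if χ = ψ then (Nat.card G : ℂ) else 0)) := by
          rw [hN, finsum_mem_eq_toFinset_sum, Set.toFinset_inter, ← Finset.filter_mem_eq_inter,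
            Finset.sum_filter]
          refine Finset.sum_congr rfl fun χ _ => ?_
          simp only [mul_ite, mul_zero, Finset.sum_ite_eq]
          refine if_congr Iff.rfl ?_ rfl
          rw [inv_mul_cancel₀ hG, mul_one, ← Agent.BlockCount.apply_one_eq_charDegree, mul_comm]
      _ = _ := by
          simp only [← h1, Finset.mul_sum, hF, Cfsg.blockCoeff, finsum_mem_eq_toFinset_sum,
            Finset.sum_mul]
          conv_rhs =>
            rw [Finset.sum_comm]
            arg 2
            intro ψ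
            rw [Finset.sum_comm]
          conv_rhs => rw [Finset.sum_comm]
          exact Finset.sum_congr rfl fun χ _ => Finset.sum_congr rfl fun ψ _ =>
            Finset.sum_congr rfl fun g _ => by ring
  have hFc : Cfsg.IsClassFunction G F := fun g h => by
    simp only [hF]
    exact Finset.sum_congr rfl fun χ _ => by rw [Agent.Blocks.irr_classFun χ g h]
  have hcl : Cfsg.IsClassFunction G (fun g => F g * Cfsg.blockCoeff Bq g) := fun g h => by
    simp only [hFc g h, Cfsg.blockCoeff]
    congr 2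
    exact finsum_mem_congr rfl fun χ _ => by rw [Agent.Blocks.irr_classFun χ g h]
  have hF0 : ∀ g : G, Cfsg.IsPRegular p g → F g = 0 := by
    intro g hg
    rw [← Agent.Blocks.weak_orthogonality hMp.2.2 hBp hg (y := y⁻¹)
      (by simpa [Cfsg.IsPRegular, orderOf_inv] using hy), hF]
    refine Finset.sum_congr (Finset.ext fun χ => by simp) fun χ _ => ?_
    rw [Agent.Char.IsCharacter.conj_apply (Agent.Char.irr_isCharacter χ), inv_inv, mul_comm]
  -- centralisers of p-singular elements are q'-groups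
  have hidx : ∀ g : G, ¬ Cfsg.IsPRegular p g →
      q ^ b ∣ (Subgroup.centralizer ({g} : Set G)).index := by
    intro g hg
    rw [Cfsg.IsPRegular, not_not] at hg
    have hC : ¬ q ∣ Nat.card (Subgroup.centralizer ({g} : Set G)) := by
      intro h
      obtain ⟨w, hw⟩ := exists_prime_orderOf_dvd_card' q h
      have hwg : Commute g (w : G) :=
        Commute.symm (Subgroup.mem_centralizer_singleton_iff.1 w.2)
      have hu : orderOf (g ^ (orderOf g / p)) = p := by
        rw [orderOf_pow' _ (Nat.div_pos (Nat.le_of_dvd (orderOf_pos g) hg) hp.pos).ne',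
          Nat.gcd_eq_right (Nat.div_dvd_of_dvd hg), Nat.div_div_self hg (orderOf_pos g).ne']
      refine hno (g ^ (orderOf g / p) * (w : G)) ?_
      rw [(hwg.pow_left _).orderOf_mul_eq_mul_orderOf_of_coprime, hu, Subgroup.orderOf_coe, hw]
      rw [hu, Subgroup.orderOf_coe, hw]
      exact (Nat.coprime_primes hp hq).2 hpq
    have h1 : q ^ b ∣ Nat.card (Subgroup.centralizer ({g} : Set G)) *
        (Subgroup.centralizer ({g} : Set G)).index := by
      rw [Subgroup.card_mul_index, ← hb]; exact Nat.ordProj_dvd _ _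
    exact (Nat.Coprime.pow_left b (hq.coprime_iff_not_dvd.2 hC)).dvd_of_dvd_mul_left h1
  have hq0 : (q : ℂ) ^ b ≠ 0 := pow_ne_zero _ (Nat.cast_ne_zero.2 hq.ne_zero)
  -- locally at every ideal over q
  have hloc : ∀ M' : Ideal Cfsg.AlgInt, M'.IsMaximal → (q : Cfsg.AlgInt) ∈ M' →
      Cfsg.MemLocalRing M' (N / (q : ℂ) ^ b) := by
    intro M' hM' hqM'
    haveI := hM'
    obtain ⟨χ₀, hχ₀⟩ := Agent.Blocks.block_nonempty hBq
    have hBq' : Cfsg.IsPBlock M' Bq := ⟨χ₀, by
      rw [Agent.Blocks.block_eq hBq hχ₀]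
      ext ψ
      exact ⟨fun h => Agent.Blocks.sameBlock_indep hMq.2.2 hqM' h,
        fun h => Agent.Blocks.sameBlock_indep hqM' hMq.2.2 h⟩⟩
    have hN0 : N = Agent.BlockCount.pregSum 0 (fun g => F g * Cfsg.blockCoeff Bq g) := by
      rw [hNeq, Agent.BlockCount.pregSum]
      refine (Finset.sum_congr ?_ fun _ _ => rfl).symm
      exact Finset.filter_true_of_mem fun g _ h => (orderOf_pos g).ne' (zero_dvd_iff.mp h)
    rw [hN0, Agent.BlockCount.pregSum_eq_sum_classes 0 hcl, Finset.sum_div]
    refine Agent.Blocks.MemLocalRing.sum _ fun C _ => ?_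
    by_cases hC : Cfsg.IsPRegular p (Quotient.out C)
    · rw [hF0 _ hC, zero_mul, mul_zero, zero_div]
      exact Agent.Blocks.memLocalRing_zero
    obtain ⟨t, ht⟩ := hidx _ hC
    rw [ht, Nat.cast_mul, Nat.cast_pow, mul_assoc, mul_div_cancel_left₀ _ hq0]
    refine Agent.Blocks.MemLocalRing.mul (Agent.Blocks.memLocalRing_natCast _)
      (Agent.Blocks.MemLocalRing.mul (Agent.Blocks.memLocalRing_of_isIntegral ?_)
        (Agent.Blocks.memLocalRing_blockCoeff hBq' _))
    exact IsIntegral.sum _ fun χ _ => (Agent.CharInt.isIntegral_char (Agent.Char.irr_isCharacter χ) _).mul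
      (Agent.CharInt.isIntegral_char (Agent.Char.irr_isCharacter χ) _)
  have hNint : IsIntegral ℤ N := by
    rw [hN, finsum_mem_eq_toFinset_sum]
    refine IsIntegral.sum _ fun χ _ => ?_
    rw [← Agent.BlockCount.apply_one_eq_charDegree]
    exact (Agent.CharInt.isIntegral_char (Agent.Char.irr_isCharacter χ) _).mul
      (Agent.CharInt.isIntegral_char (Agent.Char.irr_isCharacter χ) _)
  -- globally
  let I : Ideal Cfsg.AlgInt :=
    { carrier := {a | IsIntegral ℤ ((a : ℂ) * (N / (q : ℂ) ^ b))}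
      zero_mem' := by simpa using isIntegral_zero
      add_mem' := fun ha ha' => by
        simp only [Set.mem_ofPred_eq] at ha ha' ⊢
        push_cast
        rw [add_mul]
        exact ha.add ha'
      smul_mem' := fun c a ha => by
        simp only [Set.mem_ofPred_eq] at ha ⊢
        show IsIntegral ℤ (((c * a : Cfsg.AlgInt) : ℂ) * _)
        push_cast
        rw [mul_assoc]
        exact c.2.mul ha }
  have hI : I = ⊤ := by
    by_contra h
    obtain ⟨M', hM', hle⟩ := Ideal.exists_le_maximal I h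
    have hqI : (q : Cfsg.AlgInt) ^ b ∈ I := by
      show IsIntegral ℤ ((((q : Cfsg.AlgInt) ^ b : Cfsg.AlgInt) : ℂ) * _)
      push_cast
      rwa [mul_div_cancel₀ _ hq0]
    have hqM' : (q : Cfsg.AlgInt) ∈ M' := hM'.isPrime.mem_of_pow_mem b (hle hqI)
    obtain ⟨x, w, hw, hxw⟩ := hloc M' hM' hqM'
    refine hw (hle ?_)
    show IsIntegral ℤ ((w : ℂ) * _)
    have hw0 : (w : ℂ) ≠ 0 := fun h0 => hw ((ZeroMemClass.coe_eq_zero.mp h0) ▸ M'.zero_mem)
    rw [← hxw, mul_div_cancel₀ _ hw0]
    exact x.2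
  have hone : (1 : Cfsg.AlgInt) ∈ I := hI ▸ Submodule.mem_top
  refine ⟨⟨N / (q : ℂ) ^ b, ?_⟩, ?_⟩
  · refine (mem_integralClosure_iff ℤ ℂ).2 ?_
    simpa [I] using hone
  · exact (mul_div_cancel₀ N hq0).symm

end Cfsg.Agent.S4731
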