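import Cfsg.Statements.S4732
import Cfsg.Agent.Lib.ModularJordan.Main
-- import your own Cfsg.Agent.* helpers here

set_option autoImplicit false
universe u v
open Cfsg

namespace Cfsg.Agent.S4732

/-- Let p be a prime. There is a function f of two natural-number arguments such that every finite group G admitting a faithful representation of degree n over a field of characteristic p, with Sylow p-subgroups of order p^m, has a normal abelian subgroup A with [G : A] < f(m, n). -/
theorem result (p : ℕ) [Fact p.Prime] : ∃ f : ℕ → ℕ → ℕ, ∀ (G : Type u) [Group G] [Finite G] (F : Type v) [Field F] [CharP F p] (n : ℕ) (ρ : Representation F G (Fin n → F)), Function.Injective ρ → ∀ m : ℕ, (Nat.card G).factorization p = m → ∃ A : Subgroup G, A.Normal ∧ IsMulCommutative A ∧ A.index < f m n := by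
  classical
  choose b hb using fun m n => ModularJordan.exists_smallBound.{u, v} p m (n + 1)
  refine ⟨fun m n => (b m n).factorial + 1, fun G _ _ F _ _ n ρ hρ m hm => ?_⟩
  let L := AlgebraicClosure F
  let ι : F →+* L := algebraMap F L
  have : CharP L p := charP_of_injective_algebraMap ι.injective p
  -- the matrix representation, extended to the algebraic closure
  let f : Module.End F (Fin n → F) →* Module.End L (Fin n → L) :=
    ((Matrix.toLinAlgEquiv' : Matrix (Fin n) (Fin n) L ≃ₐ[L] _).toRingEquiv.toMonoidHom.comp
      (ι.mapMatrix.toMonoidHom)).comp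
      (LinearMap.toMatrixAlgEquiv' : _ ≃ₐ[F] Matrix (Fin n) (Fin n) F).toRingEquiv.toMonoidHom
  have hf : Function.Injective f := fun x y h =>
    LinearMap.toMatrixAlgEquiv'.injective (Matrix.map_injective ι.injective
      (Matrix.toLinAlgEquiv'.injective h))
  obtain ⟨A, hAn, hAc, hAi⟩ := ModularJordan.AbBound.exists_normal
    (hb m n L G (Fin n → L) (f.comp ρ) (hf.comp hρ)
      (by rw [Module.finrank_fin_fun]; exact Nat.lt_succ_self n) hm.le)
  exact ⟨A, hAn, hAc, Nat.lt_succ_of_le hAi⟩

end Cfsg.Agent.S4732
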