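import Cfsg.Statements.S4734
import Cfsg.Agent.Lib.BrauerPairs.PiKernel
import Cfsg.Agent.Lib.Blocks.SecondMain

set_option autoImplicit false
open Cfsg Cfsg.Agent Cfsg.Agent.BrauerPairs
open scoped Cfsg.Agent.Blocks

namespace Cfsg.Agent.S4734

/-- Let p be a prime, π a set of primes containing p, M a maximal ideal of the algebraic integers containing p, B a p-block of the finite group G with defect group D, and B₁ the block of N_G(D) with defect group D inducing B. Write O_π'(X) for the largest normal subgroup of X whose order has no prime divisor in π, and suppose every element of O_π'(N_G(D)) lies in the kernel of every member of B₁. Let G₀ be a subgroup and B₀ a block of G₀ with defect group D₀ such that C_G(D₀) ≤ G₀ and B₀ induces B. Then every element of O_π'(G₀) lies in the kernel of every member of B₀. -/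
theorem result {G : Type*} [Group G] [Finite G] (p : ℕ) [Fact p.Prime] (M : Ideal Cfsg.AlgInt) (hM : Cfsg.IsPModular p M) (π : Set ℕ) (hpπ : p ∈ π) (B : Set (Cfsg.IrrCharacter G)) (hB : Cfsg.IsPBlock M B) (D : Subgroup G) (hBD : Cfsg.IsDefectGroup p M B D) (B₁ : Set (Cfsg.IrrCharacter ↥(Subgroup.normalizer (D : Set G)))) (hB₁ : Cfsg.IsInducedBlock M (Subgroup.normalizer (D : Set G)) B₁ B) (hB₁D : Cfsg.IsDefectGroup p M B₁ (D.subgroupOf (Subgroup.normalizer (D : Set G)))) (hker : ∀ n : ↥(Subgroup.normalizer (D : Set G)), n ∈ Cfsg.piCore {q | q ∉ π} ↥(Subgroup.normalizer (D : Set G)) → n ∈ Cfsg.blockKer B₁) (G₀ : Subgroup G) (B₀ : Set (Cfsg.IrrCharacter ↥G₀)) (hB₀ : Cfsg.IsInducedBlock M G₀ B₀ B) (D₀ : Subgroup ↥G₀) (hD₀ : Cfsg.IsDefectGroup p M B₀ D₀) (hC : Subgroup.centralizer ((D₀.map G₀.subtype : Subgroup G) : Set G) ≤ G₀) : ∀ x : ↥G₀, x ∈ Cfsg.piCore {q | q ∉ π} ↥G₀ → x ∈ Cfsg.blockKer B₀ := by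
  classical
  have : M.IsMaximal := hM.2.1
  have : CharP (AlgInt ⧸ M) p := Blocks.charP_residue hM.2.2
  have hblk : ∀ H : Subgroup G, HasBlocks (AlgInt ⧸ M) H := fun H => hasBlocks M H
  have hσ : p ∉ {q : ℕ | q ∉ π} := fun h => h hpπ
  have hBi := isBlockIdem_blkG hB
  obtain ⟨e, hmax, heB₁⟩ := exists_max_pair_correspondent hM.2.2 hB hBD hB₁
  have hDp : IsPGroup p D := hmax.1.1.1
  have hKN : pairCore {q : ℕ | q ∉ π} D ≤ Subgroup.normalizer (D : Set G) :=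
    (pairCore_le D).trans (Subgroup.centralizer_le_normalizer _)
  have hKc : pairCore {q : ℕ | q ∉ π} D ≤ piCoreOf {q : ℕ | q ∉ π} (Subgroup.normalizer (D : Set G)) :=
    OddOrder.le_piCoreOf hKN (normalizer_le_pairCore D) (OddOrder.isPiGrp_piCoreOf _ _)
  have hKp : ∀ Q : Subgroup G, ¬ p ∣ Nat.card (pairCore {q : ℕ | q ∉ π} Q) := fun Q =>
    not_dvd_card_of_isPiGrp hσ (OddOrder.isPiGrp_piCoreOf _ _)
  have hB₁K := (blk_mul_avgEl_iff hM.2.2 hKN (normalizer_le_pairCore D) (hKp D) hB₁.1).2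
    fun θ hθ n hn => hker n (by
      obtain ⟨m, hm, hmn⟩ := hKc hn
      rwa [Subtype.ext hmn] at hm) θ hθ
  have hP : KerPair {q : ℕ | q ∉ π} (D, e) := by
    show e * avgEl _ (pairCore {q : ℕ | q ∉ π} D) = e
    have hce : e * avgEl (AlgInt ⧸ M) (pairCore {q : ℕ | q ∉ π} D) =
        avgEl (AlgInt ⧸ M) (pairCore {q : ℕ | q ∉ π} D) * e :=
      centerIn_commute hmax.1.1.2.mem.1 (avgEl_pairCore_mem D).2
    conv_rhs => rw [← heB₁, ← hB₁K]
    rw [mul_assoc, ← hce, ← mul_assoc, heB₁]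
  obtain ⟨Q, hQdef⟩ : ∃ Q, D₀.map G₀.subtype = Q := ⟨_, rfl⟩
  rw [hQdef] at hC
  have hQD : DefectIn p G₀ (blk M G₀ B₀) Q := hQdef ▸ (isDefectGroup_iff_defectIn hB₀.1 D₀).1 hD₀
  obtain ⟨f, hf, hne⟩ := exists_blockIdem_mul_ne_zero hblk (Subgroup.centralizer (Q : Set G)) hQD.2.2.1
  have hb := isBlockIdem_blk G₀ hB₀.1
  have hbz : br Q (blk M G₀ B₀) ∈ centerIn (AlgInt ⧸ M) (Subgroup.centralizer (Q : Set G)) := by
    have h := br_mem_centerIn (P := Q) hb.mem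
    rwa [inf_eq_right.2 hC] at h
  have hbf : br Q (blk M G₀ B₀) * f = f := hf.mul_eq_self_of_ne hbz
    (by rw [← br_mul hQD.1 (fixedBy_anti hQD.2.1 hb.mem.2) (fixedBy_anti hQD.2.1 hb.mem.2), hb.idem]) hne
  have hpair := isPairOf_of_induced hQD.1 hQD.2.1 hC hB₀ hf hbf
  have hPQ : f * avgEl (AlgInt ⧸ M) (pairCore {q : ℕ | q ∉ π} Q) = f := by
    have h := KerPair.of_isMax (σ := {q : ℕ | q ∉ π}) hblk hσ hBi hmax hpair hP
    unfold KerPair at h
    exact h
  set K : Subgroup G := piCoreOf {q : ℕ | q ∉ π} G₀ with hK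
  have hKG : K ≤ G₀ := OddOrder.piCoreOf_le _ _
  have hGK : G₀ ≤ Subgroup.normalizer (K : Set G) := OddOrder.le_normalizer_piCoreOf _ _
  have hK0 : ¬ p ∣ Nat.card K := not_dvd_card_of_isPiGrp hσ (OddOrder.isPiGrp_piCoreOf _ _)
  have hsmall : K ⊓ Subgroup.centralizer (Q : Set G) ≤ pairCore {q : ℕ | q ∉ π} Q := by
    refine OddOrder.le_piCoreOf inf_le_right (fun c hc => mem_normalizer_of_conj_le fun u hu => ?_)
      ((OddOrder.isPiGrp_piCoreOf _ _).mono inf_le_left)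
    exact ⟨((Subgroup.mem_normalizer_iff.1 (hGK (hC hc))) u).1 hu.1,
      Subgroup.mul_mem _ (Subgroup.mul_mem _ hc hu.2) (Subgroup.inv_mem _ hc)⟩
  have hfK : f * avgEl (AlgInt ⧸ M) (K ⊓ Subgroup.centralizer (Q : Set G) : Subgroup G) = f := by
    conv_lhs => rw [← hPQ, mul_assoc, avgEl_mul_of_le
      (not_dvd_card_of_isPiGrp hσ ((OddOrder.isPiGrp_piCoreOf _ _).mono inf_le_left)) hsmall]
    exact hPQ
  have hker' : blk M G₀ B₀ * avgEl (AlgInt ⧸ M) K = blk M G₀ B₀ := by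
    rw [centerIn_commute hb.mem.1 (avgEl_mem_fixedBy hGK)]
    refine hb.mul_eq_self_of_ne (avgEl_mem_centerIn hKG hGK) (avgEl_idem hK0) fun h0 => hf.ne_zero ?_
    have hc : avgEl (AlgInt ⧸ M) (K ⊓ Subgroup.centralizer (Q : Set G) : Subgroup G) * f =
        f * avgEl (AlgInt ⧸ M) (K ⊓ Subgroup.centralizer (Q : Set G) : Subgroup G) :=
      centerIn_commute (fun x hx => by rw [coeff_avgEl, if_neg fun hx' => hx hx'.2]) hf.mem.2
    calc f = avgEl _ (K ⊓ Subgroup.centralizer (Q : Set G) : Subgroup G) * (br Q (blk M G₀ B₀) * f) := by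
          rw [hbf, hc, hfK]
      _ = 0 := by
          rw [← mul_assoc, ← br_avgEl hQD.1 (hQD.2.1.trans hGK),
            ← br_mul hQD.1 (avgEl_mem_fixedBy (hQD.2.1.trans hGK)) (fixedBy_anti hQD.2.1 hb.mem.2), h0,
            map_zero, zero_mul]
  intro x hx θ hθ
  exact (blk_mul_avgEl_iff hM.2.2 hKG hGK hK0 hB₀.1).1 hker' θ hθ x ⟨x, hx, rfl⟩

end Cfsg.Agent.S4734
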