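import Cfsg.Statements.S4735
import Cfsg.Agent.Lib.BlockCount.GaloisStable
import Cfsg.Agent.Lib.Char.Descend
import Cfsg.Agent.Lib.PCore.Basic
-- import your own Cfsg.Agent.* helpers here

set_option autoImplicit false
open Cfsg

namespace Cfsg.Agent.S4735

open Agent in
/-- The argument for an arbitrary normal subgroup of order prime to `p`. -/
theorem main {G : Type*} [Group G] [Fintype G] (p : ℕ) [Fact p.Prime] (M : Ideal Cfsg.AlgInt)
    (hM : Cfsg.IsPModular p M) (H : Subgroup G) [H.Normal] (hHp : ¬ p ∣ Nat.card H) (x : G) :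
    (∃ n : ℕ, 0 < n ∧
        ∑ᶠ χ ∈ Cfsg.principalBlock M G, Complex.normSq ((χ : G → ℂ) x) = n) ∧
      ∑ᶠ χ ∈ Cfsg.principalBlock M G, Complex.normSq ((χ : G → ℂ) x) =
        ∑ᶠ ψ ∈ Cfsg.principalBlock M (G ⧸ H),
          Complex.normSq ((ψ : G ⧸ H → ℂ) (QuotientGroup.mk x)) ∧
      ∑ᶠ χ ∈ Cfsg.principalBlock M G, Complex.normSq ((χ : G → ℂ) x) ≤
        (Nat.card ↥(Subgroup.centralizer ({(QuotientGroup.mk x : G ⧸ H)} : Set (G ⧸ H))) : ℝ) ∧
      ((∑ᶠ χ ∈ Cfsg.principalBlock M G, Cfsg.charDegree (χ : G → ℂ) ^ 2) = H.index ↔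
        ∀ B : Set (Cfsg.IrrCharacter (G ⧸ H)),
          Cfsg.IsPBlock M B → B = Cfsg.principalBlock M (G ⧸ H)) := by
  classical
  haveI := hM.2.1
  haveI := Fintype.ofFinite H
  haveI := Fintype.ofFinite (G ⧸ H)
  have hp : p.Prime := Fact.out
  have hHreg : ∀ h : H, ¬ p ∣ orderOf h := fun h hdvd =>
    hHp (hdvd.trans (orderOf_dvd_natCard h))
  -- characters of the principal block are trivial on `H`
  have htriv : ∀ χ : Cfsg.IrrCharacter G, χ ∈ Cfsg.principalBlock M G → Char.TrivOn H χ.1 := by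
    intro χ hχ
    by_contra h
    refine BlockCount.pregSum_restrict_ne_zero H hM hχ ?_
    rw [BlockCount.pregSum, Finset.filter_true_of_mem fun h _ => hHreg h]
    simpa using Char.sum_coset_eq_zero_of_not_trivOn H χ h 1
  -- p-regularity in the quotient
  have hreg : ∀ g : G, p ∣ orderOf (g : G ⧸ H) ↔ p ∣ orderOf g := by
    refine fun g => ⟨fun h => h.trans (orderOf_map_dvd (QuotientGroup.mk' H) g), fun h => ?_⟩
    have h1 : g ^ orderOf (g : G ⧸ H) ∈ H :=
      (QuotientGroup.eq_one_iff _).1 (by rw [QuotientGroup.mk_pow, pow_orderOf_eq_one])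
    have h2 : g ^ (orderOf (g : G ⧸ H) * Nat.card H) = 1 := by
      rw [pow_mul]
      exact congrArg Subtype.val (pow_card_eq_one' (x := (⟨_, h1⟩ : H)))
    exact (hp.dvd_mul.1 (h.trans (orderOf_dvd_of_pow_eq_one h2))).resolve_right hHp
  have hpreg : ∀ ψ : Cfsg.IrrCharacter (G ⧸ H),
      BlockCount.pregSum p (Char.inflate H ψ).1 =
        (Nat.card H : ℂ) * BlockCount.pregSum p ψ.1 := by
    intro ψ
    rw [BlockCount.pregSum, BlockCount.pregSum, Finset.mul_sum,
      ← Finset.sum_fiberwise_of_maps_to (g := fun g : G => (g : G ⧸ H))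
        (t := Finset.univ.filter fun q : G ⧸ H => ¬ p ∣ orderOf q)
        (fun g hg => by simpa [hreg] using hg)]
    refine Finset.sum_congr rfl fun q hq => ?_
    simp only [Finset.mem_filter, Finset.mem_univ, true_and] at hq
    rw [Finset.sum_congr rfl (g := fun _ => ψ.1 q) fun g hg => by
      simp [(Finset.mem_filter.1 hg).2], Finset.sum_const, nsmul_eq_mul]
    congr 2
    obtain ⟨a, rfl⟩ := QuotientGroup.mk_surjective q
    rw [Nat.card_eq_fintype_card, ← Finset.card_univ]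
    refine Finset.card_bij' (fun g hg => (⟨a⁻¹ * g, ?_⟩ : H)) (fun h _ => a * h) ?_ ?_ ?_ ?_
    · exact QuotientGroup.eq.1 (Finset.mem_filter.1 hg).2.symm
    · intro g _; exact Finset.mem_univ _
    · intro h _
      have he : ((a * (h : G) : G) : G ⧸ H) = (a : G ⧸ H) :=
        QuotientGroup.eq.2 (by simp)
      simp only [Finset.mem_filter, Finset.mem_univ, true_and]
      exact ⟨fun hd => hq (by rw [← he]; exact (hreg _).2 hd), he⟩
    · intro g _; simp
    · intro h _; ext; simp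
  have hH0 : (Nat.card H : ℂ) ≠ 0 := Nat.cast_ne_zero.2 Nat.card_pos.ne'
  have himg : (Cfsg.principalBlock M G).toFinset =
      (Cfsg.principalBlock M (G ⧸ H)).toFinset.image (Char.inflate H) := by
    ext χ
    simp only [Set.mem_toFinset, Finset.mem_image]
    constructor
    · intro hχ
      obtain ⟨ψ, hψ⟩ := Char.exists_descend H χ (htriv χ hχ)
      have he : Char.inflate H ψ = χ := Subtype.ext (funext hψ)
      refine ⟨ψ, BlockCount.mem_principalBlock_of_pregSum_ne_zero hM fun h0 => ?_, he⟩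
      refine BlockCount.pregSum_ne_zero hM hχ ?_
      rw [← he, hpreg, h0, mul_zero]
    · rintro ⟨ψ, hψ, rfl⟩
      refine BlockCount.mem_principalBlock_of_pregSum_ne_zero hM ?_
      rw [hpreg]
      exact mul_ne_zero hH0 (BlockCount.pregSum_ne_zero hM hψ)
  have heq : ∑ᶠ χ ∈ Cfsg.principalBlock M G, Complex.normSq ((χ : G → ℂ) x) =
      ∑ᶠ ψ ∈ Cfsg.principalBlock M (G ⧸ H),
        Complex.normSq ((ψ : G ⧸ H → ℂ) (QuotientGroup.mk x)) := by
    rw [finsum_mem_eq_toFinset_sum, finsum_mem_eq_toFinset_sum, himg,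
      Finset.sum_image (Char.inflate_injective H).injOn]
    rfl
  refine ⟨?_, heq, ?_, ?_⟩
  · have hstable : ∀ k : ℕ, k.Coprime (Nat.card G) →
        ∀ χ ∈ (Cfsg.principalBlock M G).toFinset, ∀ ψ : Cfsg.IrrCharacter G,
        ((ψ : G → ℂ) = fun g => (χ : G → ℂ) (g ^ k)) →
          ψ ∈ (Cfsg.principalBlock M G).toFinset := by
      intro k hk χ hχ ψ hψ
      rw [Set.mem_toFinset] at hχ ⊢
      refine BlockCount.mem_principalBlock_of_pregSum_ne_zero hM ?_
      rw [hψ, BlockCount.pregSum_powTwist p hk]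
      exact BlockCount.pregSum_ne_zero hM hχ
    obtain ⟨z, hz⟩ := BlockCount.exists_int_sum_normSq _ hstable x
    have h1 : (1 : ℝ) ≤ (z : ℝ) := by
      rw [← hz]
      refine le_trans ?_ (Finset.single_le_sum (fun χ _ => Complex.normSq_nonneg _)
        (Set.mem_toFinset.2 (Blocks.mem_blockOf_self (M := M) (Char.trivialChar G))))
      simp [Char.trivialChar]
    have hz1 : 0 < z := by exact_mod_cast lt_of_lt_of_le one_pos h1
    refine ⟨z.toNat, by omega, ?_⟩
    rw [finsum_mem_eq_toFinset_sum, hz]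
    exact_mod_cast (Int.toNat_of_nonneg hz1.le).symm
  · rw [heq, finsum_mem_eq_toFinset_sum]
    refine (Finset.sum_le_univ_sum_of_nonneg fun _ => Complex.normSq_nonneg _).trans (le_of_eq ?_)
    apply Complex.ofReal_injective
    push_cast
    simp only [← Complex.mul_conj]
    rw [Char.sum_irr_mul_conj, if_pos (IsConj.refl _)]
  · rw [finsum_mem_eq_toFinset_sum, himg, Finset.sum_image (Char.inflate_injective H).injOn]
    have hdeg : ∀ ψ : Cfsg.IrrCharacter (G ⧸ H),
        Cfsg.charDegree (Char.inflate H ψ).1 = Char.degree ψ := by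
      intro ψ
      rw [← BlockCount.charDegree_eq_degree]
      simp [Cfsg.charDegree]
    simp only [hdeg]
    rw [Subgroup.index_eq_card, ← Char.sum_degree_sq]
    constructor
    · intro h B hB
      obtain ⟨χ₀, hχ₀⟩ := Blocks.block_nonempty hB
      refine Blocks.block_eq_of_mem hB (Blocks.isPBlock_principalBlock (p := p) hM.2.2) hχ₀ ?_
      by_contra hn
      refine (Finset.sum_lt_sum_of_subset (Finset.subset_univ _) (Finset.mem_univ χ₀)
        (fun hm => hn (Set.mem_toFinset.1 hm)) (by have := Char.degree_pos χ₀; positivity)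
        (fun _ _ _ => Nat.zero_le _)).ne h
    · intro h
      refine Finset.sum_congr (Finset.eq_univ_iff_forall.2 fun ψ => Set.mem_toFinset.2 ?_)
        fun _ _ => rfl
      rw [← h _ (Blocks.isPBlock_blockOf ψ)]
      exact Blocks.mem_blockOf_self ψ

/-- Let p be a prime, M a maximal ideal of the algebraic integers containing p, G a finite group, H = O_p'(G) and Ḡ = G/H. For x ∈ G write λ(G, x) for the sum of |χ(x)|^2 over the irreducible characters χ in the principal p-block of G. Then λ(G, x) is a positive integer, λ(G, x) = λ(Ḡ, x̄) where x̄ is the image of x, and λ(G, x) ≤ #C_Ḡ(x̄). Moreover λ(G, 1) = [G : H] if and only if the principal block is the only p-block of Ḡ. -/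
theorem result {G : Type*} [Group G] [Finite G] (p : ℕ) [Fact p.Prime] (M : Ideal Cfsg.AlgInt) (hM : Cfsg.IsPModular p M) (x : G) : (∃ n : ℕ, 0 < n ∧ ∑ᶠ χ ∈ Cfsg.principalBlock M G, Complex.normSq ((χ : G → ℂ) x) = n) ∧ ∑ᶠ χ ∈ Cfsg.principalBlock M G, Complex.normSq ((χ : G → ℂ) x) = ∑ᶠ ψ ∈ Cfsg.principalBlock M (G ⧸ Cfsg.pPrimeCore p G), Complex.normSq ((ψ : G ⧸ Cfsg.pPrimeCore p G → ℂ) (QuotientGroup.mk x)) ∧ ∑ᶠ χ ∈ Cfsg.principalBlock M G, Complex.normSq ((χ : G → ℂ) x) ≤ (Nat.card ↥(Subgroup.centralizer ({(QuotientGroup.mk x : G ⧸ Cfsg.pPrimeCore p G)} : Set (G ⧸ Cfsg.pPrimeCore p G))) : ℝ) ∧ ((∑ᶠ χ ∈ Cfsg.principalBlock M G, Cfsg.charDegree (χ : G → ℂ) ^ 2) = (Cfsg.pPrimeCore p G).index ↔ ∀ B : Set (Cfsg.IrrCharacter (G ⧸ Cfsg.pPrimeCore p G)), Cfsg.IsPBlock M B → B = Cfsg.principalBlock M (G ⧸ Cfsg.pPrimeCore p G)) := by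
  haveI := Fintype.ofFinite G
  exact main p M hM _ Agent.PCore.not_dvd_card_pPrimeCore x

end Cfsg.Agent.S4735
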