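import Cfsg.Statements.S4736
import Cfsg.Agent.Lib.Blocks.PConstrained
import Cfsg.Agent.S4713
-- import your own Cfsg.Agent.* helpers here

set_option autoImplicit false
open Cfsg

namespace Cfsg.Agent.S4736

set_option linter.style.haveILetI false

open scoped Classical

universe u

variable {G : Type u} [Group G] [Finite G] {p : ℕ} [Fact p.Prime] {M : Ideal Cfsg.AlgInt}

theorem height_eq (hM : Cfsg.IsPModular p M) (χ : Cfsg.IrrCharacter G) :
    Cfsg.blockHeight p (Cfsg.principalBlock M G) (χ : G → ℂ) = 0 ↔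
      ¬ p ∣ Cfsg.charDegree (χ : G → ℂ) := by
  have hp : p.Prime := Fact.out
  haveI := hM.2.1
  have hz : sInf ((fun ψ : Cfsg.IrrCharacter G => (Cfsg.charDegree (ψ : G → ℂ)).factorization p) ''
      Cfsg.principalBlock M G) = 0 := Nat.sInf_eq_zero.2 (Or.inl ⟨Char.trivialChar G,
        Blocks.sameBlock_refl _, by simp [Cfsg.charDegree, Char.trivialChar]⟩)
  have hne : Cfsg.charDegree (χ : G → ℂ) ≠ 0 := by
    rw [S4713.charDegree_eq]
    intro h
    exact Char.IsIrrCharacter.apply_one_ne_zero χ.2 (by rw [Char.apply_one_eq_degree, h, Nat.cast_zero])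
  rw [Cfsg.blockHeight, hz, Nat.sub_zero, Nat.factorization_eq_zero_iff]
  constructor
  · rintro (h | h | h)
    · exact absurd hp h
    · exact h
    · exact absurd h hne
  · exact fun h => Or.inr (Or.inl h)

theorem principal_iff (hM : Cfsg.IsPModular p M) (hs : Cfsg.IsPSolvable p G) (ψ : Cfsg.IrrCharacter (G ⧸ Cfsg.pPrimeCore p G)) :
    Char.inflate (Cfsg.pPrimeCore p G) ψ ∈ Cfsg.principalBlock M G := by
  haveI := Fintype.ofFinite G
  haveI := Fintype.ofFinite (G ⧸ Cfsg.pPrimeCore p G)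
  exact BlockCount.inflate_mem_principalBlock hM _ PCore.not_dvd_card_pPrimeCore
    (BlockCount.mem_principalBlock_of_centralizer_le hM PCore.isPGroup_pCore
      (PCore.centralizer_pCore_le (PCore.isPSolvable_quotient hs _)
        PCore.pPrimeCore_quotient_self_eq_bot) ψ)

theorem trivOn_of_mem (hM : Cfsg.IsPModular p M) {χ : Cfsg.IrrCharacter G}
    (h : χ ∈ Cfsg.principalBlock M G) : Char.TrivOn (Cfsg.pPrimeCore p G) χ.1 := by
  haveI := Fintype.ofFinite G
  exact BlockCount.apply_eq_one_of_mem_principalBlock hM _ PCore.not_dvd_card_pPrimeCore h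

theorem abelian_iff (hs : Cfsg.IsPSolvable p G) (P : Sylow p G) :
    IsMulCommutative P ↔ ∀ ψ : Cfsg.IrrCharacter (G ⧸ Cfsg.pPrimeCore p G),
      ¬ p ∣ Cfsg.charDegree (ψ : G ⧸ Cfsg.pPrimeCore p G → ℂ) := by
  set K := Cfsg.pPrimeCore p G with hK
  let π := QuotientGroup.mk' K
  let Q : Sylow p (G ⧸ K) := P.mapSurjective (QuotientGroup.mk'_surjective K)
  have hQ : (Q : Subgroup (G ⧸ K)) = (P : Subgroup G).map π := rfl
  have hinj : ∀ x ∈ (P : Subgroup G), π x = 1 → x = 1 := fun x hx h => by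
    have hxK : x ∈ K := (QuotientGroup.eq_one_iff x).1 h
    obtain ⟨j, hj⟩ := (IsPGroup.iff_orderOf.1 P.isPGroup') ⟨x, hx⟩
    rw [Subgroup.orderOf_mk] at hj
    have hd : orderOf x ∣ Nat.card K := (Subgroup.orderOf_mk x hxK) ▸ orderOf_dvd_natCard (⟨x, hxK⟩ : K)
    rcases j with _ | j
    · exact orderOf_eq_one_iff.1 (by rw [hj, pow_zero])
    · exact absurd ((hj ▸ dvd_pow_self p (Nat.succ_ne_zero j) : p ∣ orderOf x).trans hd)
        PCore.not_dvd_card_pPrimeCore
  rw [← S4713.result p (PCore.isPSolvable_quotient hs _) Q]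
  constructor
  · intro hP
    have hcomm : ∀ a ∈ (Q : Subgroup (G ⧸ K)), ∀ b ∈ (Q : Subgroup (G ⧸ K)), a * b = b * a := by
      rintro a ⟨x, hx, rfl⟩ b ⟨y, hy, rfl⟩
      have := congrArg Subtype.val (hP.is_comm.comm (⟨x, hx⟩ : (P : Subgroup G)) ⟨y, hy⟩)
      rw [← map_mul, ← map_mul]
      exact congrArg π this
    refine ⟨?_, ⟨⟨fun a b => Subtype.ext (hcomm a a.2 b b.2)⟩⟩⟩
    have hle : Cfsg.pCore p (G ⧸ K) ≤ (Q : Subgroup (G ⧸ K)) := PCore.pCore_le_sylow Q
    have hge : (Q : Subgroup (G ⧸ K)) ≤ Cfsg.pCore p (G ⧸ K) :=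
      le_trans (fun a ha => Subgroup.mem_centralizer_iff.2 fun b hb => hcomm b (hle hb) a ha)
        (PCore.centralizer_pCore_le (PCore.isPSolvable_quotient hs _)
          PCore.pPrimeCore_quotient_self_eq_bot)
    rw [le_antisymm hge hle]
    infer_instance
  · rintro ⟨-, hQc⟩
    refine ⟨⟨fun x y => Subtype.ext ?_⟩⟩
    have h : π x.1 * π y.1 = π y.1 * π x.1 :=
      congrArg Subtype.val (hQc.is_comm.comm (⟨π x.1, x.1, x.2, rfl⟩ : (Q : Subgroup (G ⧸ K))) ⟨π y.1, y.1, y.2, rfl⟩)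
    have hm : x.1 * y.1 * (y.1 * x.1)⁻¹ ∈ (P : Subgroup G) :=
      mul_mem (mul_mem x.2 y.2) (inv_mem (mul_mem y.2 x.2))
    have := hinj _ hm (by rw [map_mul, map_inv, map_mul, map_mul, h, mul_inv_cancel])
    exact mul_inv_eq_one.1 this

/-- Let p be a prime, M a maximal ideal of the algebraic integers containing p, and G a finite p-solvable group with Sylow p-subgroup P. Then P is abelian if and only if every irreducible character in the principal p-block of G has height zero. -/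
theorem result {G : Type*} [Group G] [Finite G] (p : ℕ) [Fact p.Prime] (M : Ideal Cfsg.AlgInt) (hM : Cfsg.IsPModular p M) (hsolv : Cfsg.IsPSolvable p G) (P : Sylow p G) : IsMulCommutative P ↔ ∀ χ ∈ Cfsg.principalBlock M G, Cfsg.blockHeight p (Cfsg.principalBlock M G) (χ : G → ℂ) = 0 := by
  rw [abelian_iff hsolv P]
  simp only [height_eq hM]
  constructor
  · intro h χ hχ
    obtain ⟨ψ, hψ⟩ := Char.exists_descend (Cfsg.pPrimeCore p G) χ (trivOn_of_mem hM hχ)
    have : Cfsg.charDegree (χ : G → ℂ) = Cfsg.charDegree (ψ : G ⧸ Cfsg.pPrimeCore p G → ℂ) := by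
      show ⌊(χ.1 1).re⌋₊ = ⌊(ψ.1 1).re⌋₊
      rw [← hψ 1]; rfl
    rw [this]
    exact h ψ
  · intro h ψ
    exact h _ (principal_iff hM hsolv ψ)

end Cfsg.Agent.S4736
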