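import Cfsg.Statements.S4737
import Cfsg.Agent.Lib.BlockCount.Involve
import Cfsg.Agent.Lib.Blocks.LocalRing
import Cfsg.Agent.Lib.CharInt.Basic
-- import your own Cfsg.Agent.* helpers here

set_option autoImplicit false
open Cfsg

namespace Cfsg.Agent.S4737

open scoped Classical
open Agent

section

universe u

variable {G : Type u} [Group G] [Fintype G]

/-- If `z` has order three and normalizes no non-trivial 2-subgroup, then `z d` is not an
involution for an element `d` with `d ^ 3 = 1`. -/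
theorem mul_eq_one_of_sq {z d : G} (hz : z * z * z = 1) (hd : d * d * d = 1)
    (hnorm : ∀ Q : Subgroup G, IsPGroup 2 Q → z ∈ Subgroup.normalizer (Q : Set G) → Q = ⊥)
    (h : z * d * (z * d) = 1) : z * d = 1 := by
  set u := z * d with hu
  set v := z * u * z⁻¹ with hv
  set w := z * v * z⁻¹ with hw
  have hzi : z⁻¹ = z * z := inv_eq_of_mul_eq_one_left (by rw [hz])
  have hdi : d⁻¹ = d * d := inv_eq_of_mul_eq_one_left (by rw [hd])
  have hzz : ∀ a : G, z * (z * (z * a)) = a := fun a => by rw [← mul_assoc, ← mul_assoc, hz, one_mul]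
  have hw' : w = d * z := by
    simp only [hw, hv, hu, hzi, mul_assoc, hzz]
  have hwu : z * w * z⁻¹ = u := by rw [hw', hu]; group
  have huu : u * u = 1 := h
  have hvv : v * v = 1 := by
    rw [hv, show z * u * z⁻¹ * (z * u * z⁻¹) = z * (u * u) * z⁻¹ by group, huu]; group
  have hww : w * w = 1 := by
    rw [hw, show z * v * z⁻¹ * (z * v * z⁻¹) = z * (v * v) * z⁻¹ by group, hvv]; group
  have huv : u * v = w := by
    have e1 : d * z = z⁻¹ * d⁻¹ := by
      rw [← _root_.mul_inv_rev, eq_inv_iff_mul_eq_one]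
      rw [hu] at huu
      calc d * z * (d * z) = z⁻¹ * (z * d * (z * d)) * z := by group
        _ = 1 := by rw [huu]; group
    have e2 : z * d = d⁻¹ * z⁻¹ := by
      rw [← _root_.mul_inv_rev, eq_inv_iff_mul_eq_one]; exact huu
    calc u * v = z * (d * z) * (z * d) * z⁻¹ := by simp only [hv, hu]; group
      _ = z * (z⁻¹ * d⁻¹) * (d⁻¹ * z⁻¹) * z⁻¹ := by rw [e1, e2]
      _ = (d * d)⁻¹ * (z * z)⁻¹ := by group
      _ = d * z := by rw [← hzi, ← hdi, inv_inv, inv_inv]
      _ = w := hw'.symm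
  have hvu : v * u = w := by
    have e := congrArg (·⁻¹) huv
    simpa only [_root_.mul_inv_rev, inv_eq_of_mul_eq_one_right huu, inv_eq_of_mul_eq_one_right hvv,
      inv_eq_of_mul_eq_one_right hww] using e
  have huw : u * w = v := by rw [← huv, ← mul_assoc, huu, one_mul]
  have hwu' : w * u = v := by rw [← hvu, mul_assoc, huu, mul_one]
  have hvw : v * w = u := by rw [← hvu, ← mul_assoc, hvv, one_mul]
  have hwv : w * v = u := by rw [← huv, mul_assoc, hvv, mul_one]
  let Q : Subgroup G :=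
    { carrier := {1, u, v, w}
      one_mem' := by simp
      mul_mem' := by
        intro a b ha hb
        simp only [Set.mem_insert_iff, Set.mem_singleton_iff] at ha hb ⊢
        rcases ha with rfl | rfl | rfl | rfl <;> rcases hb with rfl | rfl | rfl | rfl <;>
          simp [huu, hvv, hww, huv, hvu, huw, hwu', hvw, hwv]
      inv_mem' := by
        intro a ha
        simp only [Set.mem_insert_iff, Set.mem_singleton_iff] at ha ⊢
        rcases ha with rfl | rfl | rfl | rfl
        · simp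
        · simp [inv_eq_of_mul_eq_one_right huu]
        · simp [inv_eq_of_mul_eq_one_right hvv]
        · simp [inv_eq_of_mul_eq_one_right hww] }
  have hmem : ∀ a, a ∈ Q ↔ a = 1 ∨ a = u ∨ a = v ∨ a = w := fun a => Iff.rfl
  have h2 : IsPGroup 2 Q := fun a => ⟨1, Subtype.ext (by
    rw [pow_one, Subgroup.coe_pow, pow_two, Subgroup.coe_one]
    rcases (hmem _).1 a.2 with e | e | e | e <;> rw [e]
    · rw [one_mul]
    · exact huu
    · exact hvv
    · exact hww)⟩
  have hfwd : ∀ a ∈ Q, z * a * z⁻¹ ∈ Q := by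
    intro a ha
    rw [hmem] at ha ⊢
    rcases ha with rfl | rfl | rfl | rfl
    · left; group
    · right; right; left; exact hv.symm
    · right; right; right; exact hw.symm
    · right; left; exact hwu
  have hQ := hnorm Q h2 (Subgroup.mem_normalizer_iff.2 fun a => ⟨hfwd a, fun ha => by
    have h1 := hfwd _ (hfwd _ ha)
    rw [show z * (z * (z * a * z⁻¹) * z⁻¹) * z⁻¹ = (z * z * z) * a * (z * z * z)⁻¹ by group,
      hz, one_mul, inv_one, mul_one] at h1
    exact h1⟩)
  exact (Subgroup.eq_bot_iff_forall Q).1 hQ u ((hmem u).2 (Or.inr (Or.inl rfl)))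

/-- The number of ways of writing `c` as a product of two conjugates of `z`, weighted by the
centralizers. -/
noncomputable def pairCount (z c : G) : ℕ :=
  (Finset.univ.filter fun q : G × G => q.1 * z * q.1⁻¹ * (q.2 * z * q.2⁻¹) = c).card

/-- The count is a character sum. -/
theorem pairCount_eq (z c : G) :
    (pairCount z c : ℂ) = ∑ χ : Cfsg.IrrCharacter G,
      ((Nat.card G / Cfsg.charDegree (χ : G → ℂ) : ℕ) : ℂ) *
        ((χ : G → ℂ) z * (χ : G → ℂ) z * (χ : G → ℂ) c⁻¹) := by
  have hG : (Nat.card G : ℂ) ≠ 0 := Char.card_ne_zero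
  refine mul_left_cancel₀ hG ?_
  have h1 : ∀ q : G × G, (if q.1 * z * q.1⁻¹ * (q.2 * z * q.2⁻¹) = c then (Nat.card G : ℂ) else 0) =
      ∑ χ : Cfsg.IrrCharacter G,
        (χ : G → ℂ) 1 * (χ : G → ℂ) (c⁻¹ * (q.1 * z * q.1⁻¹) * (q.2 * z * q.2⁻¹)) := by
    intro q
    rw [Char.sum_irr_degree_mul]
    have : (c⁻¹ * (q.1 * z * q.1⁻¹) * (q.2 * z * q.2⁻¹) = 1) ↔
        q.1 * z * q.1⁻¹ * (q.2 * z * q.2⁻¹) = c := by
      rw [mul_assoc, inv_mul_eq_one, eq_comm]
    split_ifs <;> simp_all
  rw [pairCount, Finset.card_filter, Nat.cast_sum, Finset.mul_sum, Finset.mul_sum]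
  calc ∑ q : G × G, (Nat.card G : ℂ) *
        ((if q.1 * z * q.1⁻¹ * (q.2 * z * q.2⁻¹) = c then 1 else 0 : ℕ) : ℂ)
      = ∑ q : G × G, ∑ χ : Cfsg.IrrCharacter G,
        (χ : G → ℂ) 1 * (χ : G → ℂ) (c⁻¹ * (q.1 * z * q.1⁻¹) * (q.2 * z * q.2⁻¹)) :=
        Finset.sum_congr rfl fun q _ => by rw [← h1 q]; split_ifs <;> simp
    _ = _ := by
      rw [Finset.sum_comm]
      refine Finset.sum_congr rfl fun χ _ => ?_
      have hχ1 : (χ : G → ℂ) 1 ≠ 0 := Char.IsIrrCharacter.apply_one_ne_zero χ.2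
      rw [Fintype.sum_prod_type]
      simp only [← Finset.mul_sum, BlockCount.mul_eq_sum_conj χ.2, ← Finset.sum_div,
        ← Finset.sum_mul]
      rw [Nat.cast_div (BlockCount.charDegree_dvd_card χ)
        (by rw [← BlockCount.apply_one_eq_charDegree]; exact hχ1),
        ← BlockCount.apply_one_eq_charDegree]
      field_simp

/-- Parity of the count: the involution `(x, x') ↦ (c⁻¹ x', c x)`. -/
theorem pairCount_parity {z c : G} (hz : orderOf z = 3) (hc : c * c * c = 1)
    (hnorm : ∀ Q : Subgroup G, IsPGroup 2 Q → z ∈ Subgroup.normalizer (Q : Set G) → Q = ⊥) :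
    pairCount z c ≡ Nat.card {x : G // x * z * x⁻¹ = c⁻¹} [MOD 2] := by
  have hzzz : z * z * z = 1 := by rw [← pow_three', ← hz, pow_orderOf_eq_one]
  set Y := Finset.univ.filter fun q : G × G => q.1 * z * q.1⁻¹ * (q.2 * z * q.2⁻¹) = c with hY
  let τ : G × G → G × G := fun q => (c⁻¹ * q.2, c * q.1)
  have hτ : ∀ q, τ (τ q) = q := fun q => Prod.ext (by simp [τ]) (by simp [τ])
  have hτY : ∀ q ∈ Y, τ q ∈ Y := by
    intro q hq
    simp only [hY, Finset.mem_filter, Finset.mem_univ, true_and, τ] at hq ⊢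
    set A := q.1 * z * q.1⁻¹ with hA
    set B := q.2 * z * q.2⁻¹ with hB
    have hcc : c * c = c⁻¹ := (inv_eq_of_mul_eq_one_left (by rw [hc])).symm
    calc c⁻¹ * q.2 * z * (c⁻¹ * q.2)⁻¹ * (c * q.1 * z * (c * q.1)⁻¹)
        = c⁻¹ * B * (c * c) * A * c⁻¹ := by rw [hA, hB]; group
      _ = c⁻¹ * B * (A * B)⁻¹ * A * c⁻¹ := by rw [hcc, ← hq]
      _ = (c * c)⁻¹ := by group
      _ = c := by rw [hcc, inv_inv]
  -- the fixed points
  have hfix : ∀ q : G × G, q ∈ Y ∧ τ q = q ↔ q.1 * z * q.1⁻¹ = c⁻¹ ∧ q.2 = c * q.1 := by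
    intro q
    simp only [hY, Finset.mem_filter, Finset.mem_univ, true_and, τ, Prod.ext_iff]
    constructor
    · rintro ⟨hq, -, h2⟩
      refine ⟨?_, h2.symm⟩
      rw [← h2] at hq
      set d := q.1⁻¹ * c * q.1 with hd
      have hq' : z * d * (z * d) = d * d * d := by
        have h3 : q.1⁻¹ * (q.1 * z * q.1⁻¹ * (c * q.1 * z * (c * q.1)⁻¹)) * q.1 =
            q.1⁻¹ * c * q.1 := by rw [hq]
        calc z * d * (z * d)
            = q.1⁻¹ * (q.1 * z * q.1⁻¹ * (c * q.1 * z * (c * q.1)⁻¹)) * q.1 * (d * d) := by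
              rw [hd]; group
          _ = d * d * d := by rw [h3, hd]; group
      have hddd : d * d * d = 1 := by
        calc d * d * d = q.1⁻¹ * (c * c * c) * q.1 := by rw [hd]; group
          _ = 1 := by rw [hc]; group
      have h4 := mul_eq_one_of_sq hzzz hddd hnorm (hq'.trans hddd)
      rw [eq_inv_of_mul_eq_one_left h4, hd]
      group
    · rintro ⟨h1, h2⟩
      refine ⟨?_, by rw [h2, inv_mul_cancel_left], h2.symm⟩
      rw [h2, show q.1 * z * q.1⁻¹ * (c * q.1 * z * (c * q.1)⁻¹) =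
        (q.1 * z * q.1⁻¹) * c * (q.1 * z * q.1⁻¹) * c⁻¹ by group, h1, inv_mul_cancel, one_mul]
      calc c⁻¹ * c⁻¹ = (c * c * c)⁻¹ * c := by group
        _ = c := by rw [hc, inv_one, one_mul]
  have heven : Even (Y.filter fun q => τ q ≠ q).card := by
    have h : ∏ x ∈ (Y.filter fun q => τ q ≠ q), (-1 : ℤ) = 1 := by
      refine Finset.prod_involution (fun q _ => τ q) ?_ ?_ ?_ ?_
      · intros; norm_num
      · intro q hq _
        exact (Finset.mem_filter.1 hq).2
      · intro q hq
        rw [Finset.mem_filter] at hq ⊢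
        exact ⟨hτY q hq.1, fun e => hq.2 (by rw [hτ] at e; exact e.symm)⟩
      · intro q _
        exact hτ q
    rw [Finset.prod_const] at h
    exact (neg_one_pow_eq_one_iff_even (by norm_num)).1 h
  have hcard : (Y.filter fun q => τ q = q).card = Nat.card {x : G // x * z * x⁻¹ = c⁻¹} := by
    rw [Nat.card_eq_fintype_card, Fintype.card_subtype]
    refine Finset.card_bij' (fun q _ => q.1) (fun x _ => (x, c * x)) ?_ ?_ ?_ ?_
    · intro q hq
      rw [Finset.mem_filter] at hq
      simpa using ((hfix q).1 hq).1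
    · intro x hx
      rw [Finset.mem_filter]
      exact (hfix (x, c * x)).2 ⟨by simpa using hx, rfl⟩
    · intro q hq
      rw [Finset.mem_filter] at hq
      exact Prod.ext rfl ((hfix q).1 hq).2.symm
    · intro x _; rfl
  obtain ⟨r, hr⟩ := heven
  have hsplit := Finset.card_filter_add_card_filter_not (s := Y) (p := fun q => τ q = q)
  rw [hcard, show (Y.filter fun q => ¬ τ q = q).card = r + r from hr] at hsplit
  rw [pairCount, ← hY, ← hsplit]
  simp [Nat.ModEq, Nat.add_mod]
  omega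

end

/-- Let G be a finite group of order divisible by 6. Then the number of irreducible characters of G whose degree has the same 2-part as the order of G (the characters of 2-defect zero, each forming a 2-block of defect zero on its own) is at least the number of conjugacy classes of elements of order 3 that normalize no nontrivial 2-subgroup of G. In particular G has a 2-block of defect zero as soon as some element of order 3 normalizes no nontrivial 2-subgroup. -/
theorem result {G : Type*} [Group G] [Finite G] (h6 : 6 ∣ Nat.card G) : Nat.card {C : ConjClasses G // ∃ g ∈ C.carrier, orderOf g = 3 ∧ ∀ Q : Subgroup G, IsPGroup 2 ↥Q → g ∈ Subgroup.normalizer (Q : Set G) → Q = ⊥} ≤ Nat.card {χ : Cfsg.IrrCharacter G // (Cfsg.charDegree (χ : G → ℂ)).factorization 2 = (Nat.card G).factorization 2} := by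
  classical
  haveI := Fintype.ofFinite G
  haveI : Fact (Nat.Prime 2) := ⟨Nat.prime_two⟩
  -- a maximal ideal over two
  obtain ⟨M, hMmax, hle⟩ := Ideal.exists_le_maximal (Ideal.span {((2 : ℕ) : Cfsg.AlgInt)}) (by
    rw [Ne, Ideal.span_singleton_eq_top]
    intro hu
    obtain ⟨w, hw⟩ := hu.exists_right_inv
    have hw' : ((2 : ℕ) : ℂ) * (w : ℂ) = 1 := by
      have := congrArg Subtype.val hw
      push_cast at this ⊢
      exact this
    obtain ⟨n, hn⟩ := Agent.BlockCount.exists_int_of_isIntegral (c := 2) (N := 1) w.2 two_ne_zero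
      (by push_cast at hw' ⊢; exact hw')
    rw [hn] at hw'
    have : (2 : ℤ) * n = 1 := by exact_mod_cast hw'
    omega)
  haveI := hMmax
  have hpM : ((2 : ℕ) : Cfsg.AlgInt) ∈ M := hle (Ideal.subset_span rfl)
  haveI hfield : Field (Cfsg.AlgInt ⧸ M) := Ideal.Quotient.field M
  set κ := {C : ConjClasses G // ∃ g ∈ C.carrier, orderOf g = 3 ∧
    ∀ Q : Subgroup G, IsPGroup 2 ↥Q → g ∈ Subgroup.normalizer (Q : Set G) → Q = ⊥} with hκ
  haveI : Fintype κ := Fintype.ofFinite _
  choose g hgC hg3 hgn using fun C : κ => C.2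
  let D := {χ : Cfsg.IrrCharacter G //
    (Cfsg.charDegree (χ : G → ℂ)).factorization 2 = (Nat.card G).factorization 2}
  show Nat.card κ ≤ Nat.card D
  -- the parity matrix is the identity
  have hodd : ∀ C : κ, ¬ 2 ∣ Nat.card (Subgroup.centralizer ({g C} : Set G)) := by
    intro C h
    obtain ⟨⟨v, hv⟩, hv2⟩ := exists_prime_orderOf_dvd_card' 2 h
    rw [Subgroup.orderOf_mk] at hv2
    have hQ := hgn C (Subgroup.zpowers v)
      (IsPGroup.of_card (n := 1) (by rw [Nat.card_zpowers, hv2, pow_one]))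
      (Subgroup.centralizer_le_normalizer _ (by
        rw [Subgroup.mem_centralizer_iff]
        intro a ha
        obtain ⟨k, rfl⟩ := Subgroup.mem_zpowers_iff.1 ha
        exact (Commute.zpow_left (Subgroup.mem_centralizer_singleton_iff.1 hv :
          Commute v (g C)) k).eq))
    rw [Subgroup.zpowers_eq_bot] at hQ
    rw [hQ, orderOf_one] at hv2
    norm_num at hv2
  have hpar : ∀ C C' : κ, (pairCount (g C) (g C')⁻¹ : Cfsg.AlgInt ⧸ M) =
      if C = C' then 1 else 0 := by
    intro C C'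
    have hg' : (g C')⁻¹ * (g C')⁻¹ * (g C')⁻¹ = 1 := by
      rw [← pow_three', inv_pow, ← hg3 C', pow_orderOf_eq_one, inv_one]
    have h1 := pairCount_parity (hg3 C) hg' (hgn C)
    rw [inv_inv] at h1
    haveI : CharP (Cfsg.AlgInt ⧸ M) 2 := Agent.Blocks.charP_residue hpM
    rw [(CharP.natCast_eq_natCast (Cfsg.AlgInt ⧸ M) 2).2 h1]
    split_ifs with hCC
    · subst hCC
      rw [← Nat.cast_one, CharP.natCast_eq_natCast (Cfsg.AlgInt ⧸ M) 2]
      have hcard : Nat.card {x : G // x * g C * x⁻¹ = g C} =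
          Nat.card (Subgroup.centralizer ({g C} : Set G)) :=
        Nat.card_congr (Equiv.subtypeEquivRight fun x => by
          rw [Subgroup.mem_centralizer_singleton_iff, mul_inv_eq_iff_eq_mul, eq_comm])
      rw [hcard]
      have := hodd C
      unfold Nat.ModEq
      omega
    · have : IsEmpty {x : G // x * g C * x⁻¹ = g C'} := ⟨fun x => hCC (Subtype.ext (by
        rw [← ConjClasses.mem_carrier_iff_mk_eq.1 (hgC C),
          ← ConjClasses.mem_carrier_iff_mk_eq.1 (hgC C')]
        exact ConjClasses.mk_eq_mk_iff_isConj.2 (isConj_iff.2 ⟨x.1, x.2⟩)))⟩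
      rw [Nat.card_of_isEmpty, Nat.cast_zero]
  -- characters of positive defect do not contribute
  have hint : ∀ (χ : Cfsg.IrrCharacter G) (a : G), IsIntegral ℤ ((χ : G → ℂ) a) := fun χ a =>
    Agent.CharInt.isIntegral_char (Agent.Char.irr_isCharacter χ) a
  let c : Cfsg.IrrCharacter G → G → Cfsg.AlgInt ⧸ M := fun χ a =>
    Ideal.Quotient.mk M ⟨(χ : G → ℂ) a, hint χ a⟩
  have hexp : ∀ C C' : κ, (pairCount (g C) (g C')⁻¹ : Cfsg.AlgInt ⧸ M) =
      ∑ χ : D, ((Nat.card G / Cfsg.charDegree (χ.1 : G → ℂ) : ℕ) : Cfsg.AlgInt ⧸ M) *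
        (c χ.1 (g C) * c χ.1 (g C)) * c χ.1 (g C') := by
    intro C C'
    have h1 : ((pairCount (g C) (g C')⁻¹ : ℕ) : Cfsg.AlgInt) = ∑ χ : Cfsg.IrrCharacter G,
        ((Nat.card G / Cfsg.charDegree (χ : G → ℂ) : ℕ) : Cfsg.AlgInt) *
          ((⟨(χ : G → ℂ) (g C), hint χ _⟩ : Cfsg.AlgInt) * ⟨(χ : G → ℂ) (g C), hint χ _⟩) *
          ⟨(χ : G → ℂ) (g C'), hint χ _⟩ := by
      apply Subtype.ext
      push_cast
      rw [pairCount_eq]
      exact Finset.sum_congr rfl fun χ _ => by rw [inv_inv]; ring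
    have h2 := congrArg (Ideal.Quotient.mk M) h1
    rw [map_natCast, map_sum] at h2
    simp only [map_mul, map_natCast] at h2
    rw [h2, ← Finset.sum_subtype (Finset.univ.filter fun χ : Cfsg.IrrCharacter G =>
      (Cfsg.charDegree (χ : G → ℂ)).factorization 2 = (Nat.card G).factorization 2) (by simp)
      (fun χ : Cfsg.IrrCharacter G =>
        ((Nat.card G / Cfsg.charDegree (χ : G → ℂ) : ℕ) : Cfsg.AlgInt ⧸ M) *
          (c χ (g C) * c χ (g C)) * c χ (g C'))]
    refine (Finset.sum_subset (Finset.subset_univ _) fun χ _ hχ => ?_).symm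
    simp only [Finset.mem_filter, Finset.mem_univ, true_and] at hχ
    haveI : CharP (Cfsg.AlgInt ⧸ M) 2 := Agent.Blocks.charP_residue hpM
    have hd := Agent.BlockCount.charDegree_dvd_card χ
    have hd0 : Cfsg.charDegree (χ : G → ℂ) ≠ 0 := fun h0 => by
      rw [h0, zero_dvd_iff] at hd; exact Nat.card_pos.ne' hd
    have h2dvd : 2 ∣ Nat.card G / Cfsg.charDegree (χ : G → ℂ) := by
      have hle' := (Nat.factorization_le_iff_dvd hd0 Nat.card_pos.ne').2 hd 2
      refine Nat.dvd_of_factorization_pos ?_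
      rw [Nat.factorization_div hd, Finsupp.tsub_apply]
      omega
    rw [(CharP.cast_eq_zero_iff (Cfsg.AlgInt ⧸ M) 2 _).2 h2dvd, zero_mul, zero_mul]
  let A : Matrix κ D (Cfsg.AlgInt ⧸ M) := Matrix.of fun C χ =>
    ((Nat.card G / Cfsg.charDegree (χ.1 : G → ℂ) : ℕ) : Cfsg.AlgInt ⧸ M) *
      (c χ.1 (g C) * c χ.1 (g C))
  let B : Matrix D κ (Cfsg.AlgInt ⧸ M) := Matrix.of fun χ C' => c χ.1 (g C')
  have hAB : A * B = 1 := by
    ext C C'
    rw [Matrix.mul_apply, Matrix.one_apply, ← hpar, hexp]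
    exact Finset.sum_congr rfl fun χ _ => rfl
  have hrank : (A * B).rank ≤ Fintype.card D :=
    (Matrix.rank_mul_le_left A B).trans (Matrix.rank_le_card_width A)
  rw [hAB, Matrix.rank_one] at hrank
  rwa [Nat.card_eq_fintype_card, Nat.card_eq_fintype_card]

end Cfsg.Agent.S4737
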