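import Cfsg.Statements.S4744
import Cfsg.Agent.Lib.BlockCount.Inverted

set_option autoImplicit false
open Cfsg

namespace Cfsg.Agent.S4744

/-- Let p be an odd prime and G a finite group of even order divisible by p in which the centralizer of every non-identity p-element has odd order. Then either G has an irreducible character of p-defect zero, or the normalizer of every Sylow p-subgroup P of G has even order and P is abelian. -/
theorem result {G : Type*} [Group G] [Finite G] (p : ℕ) [Fact p.Prime] (hp2 : p ≠ 2) (hpG : p ∣ Nat.card G) (h2G : 2 ∣ Nat.card G) (hC : ∀ g : G, g ≠ 1 → (∃ k : ℕ, orderOf g = p ^ k) → Odd (Nat.card ↥(Subgroup.centralizer ({g} : Set G)))) : (∃ χ : Cfsg.IrrCharacter G, (Cfsg.charDegree (χ : G → ℂ)).factorization p = (Nat.card G).factorization p) ∨ ∀ P : Sylow p G, Even (Nat.card ↥(Subgroup.normalizer ((P : Subgroup G) : Set G))) ∧ IsMulCommutative ↥(P : Subgroup G) := by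
  haveI := Fintype.ofFinite G
  rw [or_iff_not_imp_left]
  intro hnd P
  haveI : Fact (Nat.Prime 2) := ⟨Nat.prime_two⟩
  obtain ⟨x, hx⟩ := exists_prime_orderOf_dvd_card' 2 h2G
  obtain ⟨Q, u, hxu, hinv, hab⟩ := Cfsg.Agent.BlockCount.exists_inverted_sylow hp2 hpG hC
    (fun χ h => hnd ⟨χ, h⟩) x hx
  obtain ⟨g, hg⟩ := MulAction.exists_smul_eq G Q P
  have hmem : ∀ q ∈ (P : Subgroup G), g⁻¹ * q * g ∈ (Q : Subgroup G) := by
    intro q hq
    rw [← hg, Sylow.coe_subgroup_smul, Subgroup.mem_smul_pointwise_iff_exists] at hq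
    obtain ⟨r, hr, rfl⟩ := hq
    simp only [MulAut.smul_def, MulAut.conj_apply]
    simpa [mul_assoc] using hr
  refine ⟨?_, ⟨⟨fun q r => Subtype.ext ?_⟩⟩⟩
  · have hu2 : orderOf u = 2 := by
      obtain ⟨c, hc⟩ := isConj_iff.mp hxu
      rw [← hc, show c * x * c⁻¹ = MulAut.conj c x from rfl, MulEquiv.orderOf_eq, hx]
    have hw : orderOf (g * u * g⁻¹) = 2 := by
      rw [show g * u * g⁻¹ = MulAut.conj g u from rfl, MulEquiv.orderOf_eq, hu2]
    refine even_iff_two_dvd.mpr (hw ▸ Subgroup.orderOf_dvd_natCard _ ?_)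
    have huu : u⁻¹ = u := inv_eq_of_mul_eq_one_right (by rw [← pow_two, ← hu2, pow_orderOf_eq_one])
    have key : ∀ q ∈ (P : Subgroup G), g * u * g⁻¹ * q * (g * u * g⁻¹)⁻¹ = q⁻¹ := by
      intro q hq
      calc g * u * g⁻¹ * q * (g * u * g⁻¹)⁻¹ = g * (u * (g⁻¹ * q * g) * u⁻¹) * g⁻¹ := by group
        _ = q⁻¹ := by rw [hinv _ (hmem q hq)]; group
    have hww : g * u * g⁻¹ * (g * u * g⁻¹) = 1 := by
      rw [← pow_two, ← hw, pow_orderOf_eq_one]
    refine Subgroup.mem_normalizer_iff.mpr fun q => ⟨fun hq => ?_, fun hq => ?_⟩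
    · rw [key q hq]; exact (P : Subgroup G).inv_mem hq
    · have h2 := key _ hq
      have h3 : g * u * g⁻¹ * (g * u * g⁻¹ * q * (g * u * g⁻¹)⁻¹) * (g * u * g⁻¹)⁻¹ = q := by
        rw [show g * u * g⁻¹ * (g * u * g⁻¹ * q * (g * u * g⁻¹)⁻¹) * (g * u * g⁻¹)⁻¹ =
          g * u * g⁻¹ * (g * u * g⁻¹) * q * (g * u * g⁻¹ * (g * u * g⁻¹))⁻¹ by group, hww]
        simp
      rw [h3] at h2
      rw [h2]
      exact (P : Subgroup G).inv_mem hq
  · have h := hab _ (hmem q q.2) _ (hmem r r.2)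
    have h2 := congrArg (fun t => g * t * g⁻¹) h
    push_cast
    simpa [mul_assoc] using h2

end Cfsg.Agent.S4744
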