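import Cfsg.Statements.S4738
import Cfsg.Agent.S4744

set_option autoImplicit false
open Cfsg

namespace Cfsg.Agent.S4738

/-- Let p be an odd prime and G a finite group of even order containing no element of order 2p. Then either G has an irreducible character of p-defect zero (its degree has the same p-part as the order of G), or every Sylow p-subgroup of G is abelian and all involutions of G are conjugate. -/
theorem result {G : Type*} [Group G] [Finite G] (p : ℕ) [Fact p.Prime] (hp2 : p ≠ 2) (hG : Even (Nat.card G)) (h2p : ∀ g : G, orderOf g ≠ 2 * p) : (∃ χ : Cfsg.IrrCharacter G, (Cfsg.charDegree (χ : G → ℂ)).factorization p = (Nat.card G).factorization p) ∨ ((∀ P : Sylow p G, IsMulCommutative ↥(P : Subgroup G)) ∧ ∀ s t : G, orderOf s = 2 → orderOf t = 2 → IsConj s t) := by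
  haveI := Fintype.ofFinite G
  rw [or_iff_not_imp_left]
  intro hnd
  haveI : Fact (Nat.Prime 2) := ⟨Nat.prime_two⟩
  have hp : p.Prime := Fact.out
  have hpG : p ∣ Nat.card G := by
    by_contra h
    refine hnd ⟨Cfsg.Agent.Char.trivialChar G, ?_⟩
    rw [Nat.factorization_eq_zero_of_not_dvd h]
    have : Cfsg.charDegree (Cfsg.Agent.Char.trivialChar G : G → ℂ) = 1 := by
      simp [Cfsg.charDegree]
    rw [this]; simp
  have hC : ∀ g : G, g ≠ 1 → (∃ k : ℕ, orderOf g = p ^ k) →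
      Odd (Nat.card ↥(Subgroup.centralizer ({g} : Set G))) := by
    rintro g hg1 ⟨k, hk⟩
    rw [← Nat.not_even_iff_odd, even_iff_two_dvd]
    intro hd
    obtain ⟨⟨v, hv⟩, hvord⟩ := exists_prime_orderOf_dvd_card' 2 hd
    rw [Subgroup.orderOf_mk] at hvord
    have hk0 : 0 < k := Nat.pos_of_ne_zero fun h0 =>
      hg1 (orderOf_eq_one_iff.mp (by rw [hk, h0, pow_zero]))
    set w := g ^ (orderOf g / p) with hw
    have hwp : orderOf w = p :=
      orderOf_pow_orderOf_div (orderOf_pos g).ne' (hk ▸ dvd_pow_self p hk0.ne')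
    have hcomm : Commute v w :=
      (show Commute v g from (Subgroup.mem_centralizer_singleton_iff.mp hv)).pow_right _
    refine h2p (v * w) ?_
    rw [hcomm.orderOf_mul_eq_mul_orderOf_of_coprime
      (by rw [hvord, hwp]; exact (Nat.coprime_primes Nat.prime_two hp).mpr (Ne.symm hp2)), hvord, hwp]
  refine ⟨fun P => ?_, ?_⟩
  · rcases Cfsg.Agent.S4744.result p hp2 hpG (even_iff_two_dvd.mp hG) hC with h | h
    · exact absurd h hnd
    · exact (h P).2
  intro s t hs ht
  obtain ⟨Q, u, hsu, hu, -⟩ := Cfsg.Agent.BlockCount.exists_inverted_sylow hp2 hpG hC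
    (fun χ h => hnd ⟨χ, h⟩) s hs
  obtain ⟨R, v, htv, hv, -⟩ := Cfsg.Agent.BlockCount.exists_inverted_sylow hp2 hpG hC
    (fun χ h => hnd ⟨χ, h⟩) t ht
  obtain ⟨g, hg⟩ := MulAction.exists_smul_eq G R Q
  set v' := g * v * g⁻¹ with hv'
  have hord : ∀ {a b : G}, IsConj a b → orderOf a = orderOf b := by
    intro a b hab
    obtain ⟨c, rfl⟩ := isConj_iff.mp hab
    exact (MulEquiv.orderOf_eq (MulAut.conj c) a).symm
  have hv'inv : ∀ q ∈ (Q : Subgroup G), v' * q * v'⁻¹ = q⁻¹ := by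
    intro q hq
    rw [← hg, Sylow.coe_subgroup_smul, Subgroup.mem_smul_pointwise_iff_exists] at hq
    obtain ⟨r, hr, rfl⟩ := hq
    simp only [MulAut.smul_def, MulAut.conj_apply]
    have h2 := congrArg (fun t => g * t * g⁻¹) (hv r hr)
    simpa [hv', mul_assoc] using h2
  set C := Subgroup.centralizer ((Q : Subgroup G) : Set G) with hCdef
  have hCodd : Odd (Nat.card C) := by
    have hQne : (Q : Subgroup G) ≠ ⊥ := Q.ne_bot_of_dvd_card hpG
    obtain ⟨⟨y, hy⟩, hy1⟩ := by
      haveI := (Subgroup.nontrivial_iff_ne_bot _).mpr hQne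
      exact exists_ne (1 : (Q : Subgroup G))
    simp only [ne_eq, Subgroup.mk_eq_one] at hy1
    obtain ⟨k, hk⟩ := (IsPGroup.iff_orderOf.mp Q.2) ⟨y, hy⟩
    rw [Subgroup.orderOf_mk] at hk
    exact (hC y hy1 ⟨k, hk⟩).of_dvd_nat
      (Subgroup.card_dvd_of_le (Subgroup.centralizer_le (Set.singleton_subset_iff.mpr hy)))
  have hu2 : u * u = 1 := by rw [← pow_two, ← hs, hord hsu, pow_orderOf_eq_one]
  have hv2 : v' * v' = 1 := by
    rw [← pow_two, ← ht, hord (htv.trans (isConj_iff.mpr ⟨g, rfl⟩) : IsConj t v'), pow_orderOf_eq_one]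
  have hmem : u⁻¹ * v' ∈ C := by
    intro q hq
    have h1 := hu q⁻¹ ((Q : Subgroup G).inv_mem hq)
    rw [inv_inv] at h1
    have h2 := hv'inv q hq
    have hu' : u⁻¹ = u := inv_eq_of_mul_eq_one_right hu2
    have h3 : u⁻¹ * v' * q * (u⁻¹ * v')⁻¹ = q := by
      calc u⁻¹ * v' * q * (u⁻¹ * v')⁻¹ = u⁻¹ * (v' * q * v'⁻¹) * u := by group
        _ = u * q⁻¹ * u⁻¹ := by rw [h2, hu']
        _ = q := h1
    exact (mul_inv_eq_iff_eq_mul.mp h3).symm
  obtain ⟨d, -, hd⟩ := Cfsg.Agent.BlockCount.exists_conj_eq_of_coset hCodd hu2 hmem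
    (by rw [mul_inv_cancel_left]; exact hv2)
  rw [mul_inv_cancel_left] at hd
  exact hsu.trans ((isConj_iff.mpr ⟨d, hd⟩).trans (htv.trans (isConj_iff.mpr ⟨g, rfl⟩)).symm)

end Cfsg.Agent.S4738
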