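import Cfsg.Statements.S4740
import Cfsg.Agent.Lib.BlockCount.Involve

set_option autoImplicit false
open Cfsg

namespace Cfsg.Agent.S4740

/-- Let p be an odd prime, G a finite group of even order, x an involution of G and P a subgroup of G of order p ^ c such that no conjugate of x inverts a non-identity element of P. If p ^ a is the p-part of the order of C_G(x), then some irreducible character of G has degree divisible by p ^ (c - a). -/
theorem result {G : Type*} [Group G] [Finite G] (p : ℕ) [Fact p.Prime] (hp2 : p ≠ 2) (hG : Even (Nat.card G)) (x : G) (hx : orderOf x = 2) (P : Subgroup G) (c : ℕ) (hP : Nat.card ↥P = p ^ c) (hinv : ∀ g : G, IsConj x g → ∀ z ∈ P, z ≠ 1 → g * z * g⁻¹ ≠ z⁻¹) (a : ℕ) (ha : (Nat.card ↥(Subgroup.centralizer ({x} : Set G))).factorization p = a) : ∃ χ : Cfsg.IrrCharacter G, p ^ (c - a) ∣ Cfsg.charDegree (χ : G → ℂ) := by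
  haveI := Fintype.ofFinite G
  rcases Nat.lt_or_ge a c with hac | hca
  swap
  · exact ⟨Cfsg.Agent.Char.trivialChar G, by rw [Nat.sub_eq_zero_of_le hca, pow_zero]; exact one_dvd _⟩
  by_contra hcon
  push Not at hcon
  have hx2 : x * x = 1 := by rw [← pow_two, ← hx, pow_orderOf_eq_one]
  have hxinv : x⁻¹ = x := inv_eq_of_mul_eq_one_right hx2
  have hno : ∀ y ∈ P, y ≠ 1 → ∀ u : G, ¬ IsConj (x * (u * x * u⁻¹)) y := by
    intro y hy hy1 u hu
    obtain ⟨d, hd⟩ := isConj_iff.mp hu
    refine hinv (d * x * d⁻¹) (isConj_iff.mpr ⟨d, rfl⟩) y hy hy1 ?_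
    rw [← hd]
    rw [show d * x * d⁻¹ * (d * (x * (u * x * u⁻¹)) * d⁻¹) * (d * x * d⁻¹)⁻¹ =
        d * (x * x) * (u * x * u⁻¹) * x⁻¹ * d⁻¹ by group, hx2, mul_one]
    conv_lhs => rw [show u * x * u⁻¹ = u * x⁻¹ * u⁻¹ by rw [hxinv]]
    group
  have hN : Nat.card {u : G // x * (u * x * u⁻¹) = 1} =
      Nat.card (Subgroup.centralizer ({x} : Set G)) := by
    refine Nat.card_congr (Equiv.subtypeEquivRight fun u => ?_)
    rw [Subgroup.mem_centralizer_singleton_iff, mul_eq_one_iff_inv_eq, hxinv, eq_mul_inv_iff_mul_eq]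
    exact eq_comm
  have he : ∀ χ : Cfsg.IrrCharacter G,
      (Cfsg.charDegree (χ : G → ℂ)).factorization p ≤ c - a - 1 := by
    intro χ
    by_contra hlt
    exact hcon χ (((pow_dvd_pow p (by omega : c - a ≤ _))).trans (Nat.ordProj_dvd _ p))
  have h := Cfsg.Agent.BlockCount.factorization_card_le P x x (c - a - 1) hno
    (hN ▸ Nat.card_pos.ne') he
  rw [hN, ha, hP, (Fact.out : p.Prime).factorization_pow, Finsupp.single_eq_same] at h
  omega

end Cfsg.Agent.S4740
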