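import Cfsg.Statements.S4741
import Cfsg.Agent.Lib.Blocks.Defect
import Cfsg.Agent.Lib.Blocks.Brauer
-- import your own Cfsg.Agent.* helpers here

set_option autoImplicit false
open Cfsg

namespace Cfsg.Agent.S4741

open MonoidAlgebra
open scoped Classical Cfsg.Agent.Blocks
open Agent.Blocks

universe u

variable {G : Type u} [Group G] [Finite G] {M : Ideal AlgInt} [M.IsMaximal]
variable {p : ℕ} [hp : Fact p.Prime]

theorem sum_pElements_eq_zero [Fintype G] (hpM : (p : AlgInt) ∈ M)
    {z : MonoidAlgebra ℂ G} (hz : IsCentralElt z) (hzS : SCoeff M z)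
    (h : ∀ χ : IrrCharacter G, MemLocalIdeal M (omega χ.1 z)) (x : G) {n : ℕ} :
    ∑ g ∈ Finset.univ.filter (fun g : G => g ^ p ^ (Fintype.card (IrrCharacter G) + n) = 1),
      red M (z.coeff (g * x)) = 0 := by
  haveI := charP_residue (M := M) hpM
  set N := p ^ (Fintype.card (IrrCharacter G) + n) with hN
  set w := redA M z * MonoidAlgebra.single x⁻¹ (1 : AlgInt ⧸ M) with hw
  have hnil : redA M z ^ N = 0 := by
    have h0 := mcoeff_pow_of_omega hz hzS h
    rw [← redA_eq_zero_iff (SCoeff.pow hzS _), redA_pow hzS] at h0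
    refine pow_eq_zero_of_le ?_ h0
    calc Fintype.card (IrrCharacter G) ≤ Fintype.card (IrrCharacter G) + n := Nat.le_add_right _ _
      _ ≤ N := (Nat.lt_pow_self hp.out.one_lt).le
  have hwn : w ^ N = 0 := by
    rw [hw, (IsCentralElt.commute (isCentralElt_redA hz) _).mul_pow, hnil, zero_mul]
  have h1 := sum_pow_prime_pow (p := p) w (Fintype.card (IrrCharacter G) + n)
    (φ := fun g : G => if g = 1 then 1 else 0) (fun g h => by simp)
  rw [← hN, hwn] at h1
  simp only [MonoidAlgebra.coeff_zero, Finsupp.coe_zero, Pi.zero_apply, zero_mul,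
    Finset.sum_const_zero, mul_ite, mul_one, mul_zero, ite_self] at h1
  rw [← Finset.sum_filter, hN, ← sum_pow_char_pow, eq_comm, ← hN] at h1
  rw [← eq_zero_of_pow_eq_zero h1]
  refine Finset.sum_congr rfl fun g _ => ?_
  rw [hw, coeff_mul_single', inv_inv, coeff_redA, mul_one]

theorem red_coeff_sum {ι : Type*} (s : Finset ι) (a : ι → ℂ) (f : ι → MonoidAlgebra ℂ G)
    (ha : ∀ j ∈ s, MemLocalRing M (a j)) (hf : ∀ j ∈ s, SCoeff M (f j)) (g : G) :
    red M ((∑ j ∈ s, a j • f j).coeff g) = ∑ j ∈ s, red M (a j) * red M ((f j).coeff g) := by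
  induction s using Finset.induction with
  | empty => simp
  | insert i s hi ih =>
    rw [Finset.sum_insert hi, Finset.sum_insert hi, MonoidAlgebra.coeff_add, Finsupp.add_apply,
      coeff_smul_apply, smul_eq_mul,
      red_add (MemLocalRing.mul (ha i (Finset.mem_insert_self i s))
        (hf i (Finset.mem_insert_self i s) g))
        (SCoeff.sum _ (fun j hj => SCoeff.smul (ha j (Finset.mem_insert_of_mem hj))
          (hf j (Finset.mem_insert_of_mem hj))) g),
      red_mul (ha i (Finset.mem_insert_self i s)) (hf i (Finset.mem_insert_self i s) g),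
      ih (fun j hj => ha j (Finset.mem_insert_of_mem hj))
        (fun j hj => hf j (Finset.mem_insert_of_mem hj))]

theorem red_omega_sum (χ : IrrCharacter G) {r : ℕ} (x : Fin r → G) (a : Fin r → AlgInt) :
    red M (omega χ.1 (∑ j, (a j : ℂ) • classSum ℂ (x j))) =
      ∑ j, Ideal.Quotient.mk M (a j) * red M (centralChar χ.1 (x j)) := by
  rw [omega_sum, red_sum _ fun j _ => by
    rw [omega_smul, omega_classSum (irr_classFun χ)]
    exact MemLocalRing.mul (memLocalRing_coe _) (memLocalRing_centralChar χ _)]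
  refine Finset.sum_congr rfl fun j _ => ?_
  rw [omega_smul, omega_classSum (irr_classFun χ),
    red_mul (memLocalRing_coe _) (memLocalRing_centralChar χ _), red_coe]

theorem red_centralChar_eq {B : Set (IrrCharacter G)} (hB : IsPBlock M B) {χ ψ : IrrCharacter G}
    (hχ : χ ∈ B) (hψ : ψ ∈ B) (g : G) :
    red M (centralChar χ.1 g) = red M (centralChar ψ.1 g) := by
  rw [← sub_eq_zero, ← red_sub (memLocalRing_centralChar χ g) (memLocalRing_centralChar ψ g)]
  exact red_eq_zero_of_mem (sameBlock_of_mem hB hχ hψ g)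

set_option maxHeartbeats 1600000 in
theorem coeff_eq_zero_of_orthogonal (hpM : (p : AlgInt) ∈ M) {D : Subgroup G} {r : ℕ}
    (x : Fin r → G) (hxD : ∀ i, SylIn p (Subgroup.centralizer ({x i} : Set G)) D)
    (hx : ∀ i j : Fin r, IsConj (x i) (x j) → i = j)
    (hsep : ∀ i j : Fin r, ∀ g h : G, IsConj (x i) g → IsConj (x j) h → ∀ k : ℕ, 0 < k →
      orderOf (g * h⁻¹) ≠ p ^ k)
    (c : Fin r → AlgInt ⧸ M)
    (hc : ∀ B, IsPBlock M B → IsDefectGroup p M B D → ∀ χ ∈ B,
      ∑ j, c j * red M (centralChar χ.1 (x j)) = 0) : c = 0 := by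
  haveI := Fintype.ofFinite G
  haveI := charP_residue (M := M) hpM
  choose a ha using fun j => Ideal.Quotient.mk_surjective (I := M) (c j)
  obtain ⟨z, hz⟩ : ∃ z, z = ∑ j, (a j : ℂ) • classSum ℂ (x j) := ⟨_, rfl⟩
  have hzC : IsCentralElt z :=
    hz ▸ IsCentralElt.sum _ fun j _ => IsCentralElt.smul _ (isCentralElt_classSum _)
  have hzS : SCoeff M z :=
    hz ▸ SCoeff.sum _ fun j _ => SCoeff.smul (memLocalRing_coe _) (scoeff_classSum _)
  set T := (Finset.univ.image fun χ : IrrCharacter G => blockOf M χ.1).filter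
    (fun B => ¬ IsDefectGroup p M B D) with hT
  have hTB : ∀ B ∈ T, IsPBlock M B := fun B hB => by
    obtain ⟨χ, -, rfl⟩ := Finset.mem_image.1 (Finset.mem_filter.1 hB).1
    exact isPBlock_blockOf χ
  let rep : Set (IrrCharacter G) → IrrCharacter G :=
    fun B => if h : B.Nonempty then h.choose else Char.trivialChar G
  have hrep : ∀ B ∈ T, rep B ∈ B := fun B hB => by
    simp only [rep, dif_pos (block_nonempty (hTB B hB))]
    exact (block_nonempty (hTB B hB)).choose_spec
  obtain ⟨b, hb⟩ : ∃ b, b = z - ∑ B ∈ T, omega (rep B).1 z • blockIdem B := ⟨_, rfl⟩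
  have hsC : IsCentralElt (∑ B ∈ T, omega (rep B).1 z • blockIdem B) :=
    IsCentralElt.sum _ fun B _ => IsCentralElt.smul _ (isCentralElt_blockIdem B)
  have hsS : SCoeff M (∑ B ∈ T, omega (rep B).1 z • blockIdem B) :=
    SCoeff.sum _ fun B hB => SCoeff.smul (memLocalRing_omega _ hzC hzS) (scoeff_blockIdem (hTB B hB))
  have hbC : IsCentralElt b := hb ▸ IsCentralElt.sub hzC hsC
  have hbS : SCoeff M b := hb ▸ SCoeff.sub hzS hsS
  have homega : ∀ ψ : IrrCharacter G, MemLocalIdeal M (omega ψ.1 b) := by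
    intro ψ
    rw [hb, omega_sub, omega_sum]
    simp only [omega_smul, omega_blockIdem]
    by_cases hψ : IsDefectGroup p M (blockOf M ψ.1) D
    · rw [Finset.sum_eq_zero fun B hB => ?_, sub_zero]
      · rw [← red_eq_zero_iff (memLocalRing_omega ψ hzC hzS), hz, red_omega_sum]
        simp only [ha]
        exact hc _ (isPBlock_blockOf ψ) hψ ψ (mem_blockOf_self ψ)
      · rw [if_neg, mul_zero]
        intro hm
        rw [← block_eq (hTB B hB) hm] at hψ
        exact (Finset.mem_filter.1 hB).2 hψ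
    · have hmem : blockOf M ψ.1 ∈ T :=
        Finset.mem_filter.2 ⟨Finset.mem_image.2 ⟨ψ, Finset.mem_univ _, rfl⟩, hψ⟩
      rw [Finset.sum_eq_single (blockOf M ψ.1), if_pos (mem_blockOf_self ψ), mul_one]
      · exact SameBlock.omega_sub
          (sameBlock_of_mem (isPBlock_blockOf ψ) (mem_blockOf_self ψ) (hrep _ hmem)) hzC hzS
      · intro B hB hne
        rw [if_neg fun hm => hne (block_eq (hTB B hB) hm), mul_zero]
      · exact fun h => absurd hmem h
  funext i
  have h0 := sum_pElements_eq_zero hpM hbC hbS homega (x i) (n := 0)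
  set P := Finset.univ.filter
    (fun g : G => g ^ p ^ (Fintype.card (IrrCharacter G) + 0) = 1) with hP
  have hpord : ∀ g ∈ P, g ≠ 1 → ∃ k, 0 < k ∧ orderOf g = p ^ k := fun g hg h1 => by
    obtain ⟨k, -, hk⟩ := (Nat.dvd_prime_pow hp.out).1
      (orderOf_dvd_of_pow_eq_one (Finset.mem_filter.1 hg).2)
    refine ⟨k, Nat.pos_of_ne_zero fun h => h1 ?_, hk⟩
    rwa [h, pow_zero, orderOf_eq_one_iff] at hk
  have hz0 : ∑ g ∈ P, red M (z.coeff (g * x i)) = c i := by
    have h1 : ∀ g, red M (z.coeff (g * x i)) =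
        ∑ j, if IsConj (x j) (g * x i) then c j else 0 := fun g => by
      rw [hz, red_coeff_sum _ _ _ (fun j _ => memLocalRing_coe _) fun j _ => scoeff_classSum _]
      refine Finset.sum_congr rfl fun j _ => ?_
      rw [red_coe, ha, coeff_classSum, apply_ite (red M), red_one, red_zero, mul_ite, mul_one,
        mul_zero]
      congr
    simp only [h1]
    rw [Finset.sum_comm, Finset.sum_eq_single i]
    · rw [Finset.sum_eq_single (1 : G)]
      · rw [if_pos (by rw [one_mul])]
      · intro g hg hne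
        rw [if_neg]
        intro hconj
        obtain ⟨k, hk, hk'⟩ := hpord g hg hne
        exact hsep i i (g * x i) (x i) hconj (IsConj.refl _) k hk (by rwa [mul_inv_cancel_right])
      · exact fun h => absurd (by simp [hP]) h
    · intro j _ hne
      refine Finset.sum_eq_zero fun g hg => if_neg fun hconj => ?_
      by_cases h1 : g = 1
      · subst h1
        rw [one_mul] at hconj
        exact hne (hx j i hconj)
      · obtain ⟨k, hk, hk'⟩ := hpord g hg h1
        exact hsep j i (g * x i) (x i) hconj (IsConj.refl _) k hk (by rwa [mul_inv_cancel_right])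
    · exact fun h => absurd (Finset.mem_univ i) h
  have hs0 : ∀ B ∈ T, red M (omega (rep B).1 z) *
      ∑ g ∈ P, red M (blockCoeff B (g * x i)) = 0 := by
    intro B hB
    by_cases hω : red M (omega (rep B).1 z) = 0
    · rw [hω, zero_mul]
    obtain ⟨j, hj⟩ : ∃ j, ¬ MemLocalIdeal M (centralChar (rep B).1 (x j)) := by
      by_contra hne
      simp only [not_exists, not_not] at hne
      refine hω ?_
      rw [hz, red_omega_sum]
      exact Finset.sum_eq_zero fun j _ => by rw [red_eq_zero_of_mem (hne j), mul_zero]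
    suffices h : ∑ g ∈ P, red M (blockCoeff B (g * x i)) = 0 by rw [h, mul_zero]
    letI act : MulAction D G := MulAction.compHom G ((MulAut.conj (G := G)).comp D.subtype)
    have hsmul : ∀ (q : D) (y : G), q • y = (q : G) * y * (q : G)⁻¹ := fun q y => rfl
    have hfixx : ∀ q : D, (q : G) * x i * (q : G)⁻¹ = x i := fun q =>
      mul_inv_eq_iff_eq_mul.2 (Subgroup.mem_centralizer_singleton_iff.1 ((hxD i).1 q.2))
    rw [hP, Finset.sum_filter, sum_eq_sum_fixedPoints (SylIn.isPGroup (hxD i))
      (nsmul_residue_eq_zero hpM)]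
    · refine Finset.sum_eq_zero fun g hg => ?_
      rw [ite_eq_right_iff]
      intro _
      have hfix : D ≤ Subgroup.centralizer ({g * x i} : Set G) := fun q hq => by
        have h1 := (Finset.mem_filter.1 hg).2 ⟨q, hq⟩
        rw [hsmul] at h1
        refine Subgroup.mem_centralizer_singleton_iff.2 (mul_inv_eq_iff_eq_mul.1 ?_)
        calc q * (g * x i) * q⁻¹ = (q * g * q⁻¹) * (q * x i * q⁻¹) := by group
          _ = g * x i := by rw [h1, hfixx ⟨q, hq⟩]
      refine red_eq_zero_of_mem (by_contra fun hgB => (Finset.mem_filter.1 hB).2 ?_)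
      obtain ⟨D', hD'⟩ := exists_defectGroup (p := p) (hTB B hB)
      obtain ⟨g₀, hg₀, hg₀D⟩ := isDefectGroup_iff.1 hD'
      obtain ⟨t, ht⟩ := minmax hpM (hTB B hB) (hrep B hB) hj hg₀.2.1 (hxD j)
        (SylIn.isPGroup hg₀D) hg₀D.1
      obtain ⟨t', ht'⟩ := minmax hpM (hTB B hB) (hrep B hB) (hg₀.2.2 _ (hrep B hB)) hgB hg₀D
        (SylIn.isPGroup (hxD i)) hfix
      have he : D'.map (MulAut.conj t).toMonoidHom = D := by
        refine Subgroup.eq_of_le_of_card_ge ht ?_
        have := Subgroup.card_le_of_le ht'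
        rwa [card_map_conj] at this ⊢
      rw [← he]
      exact IsDefectGroup.conj hD' t
    · intro q g
      rw [hsmul, conj_pow, conj_eq_one_iff]
      rw [show (q : G) * g * (q : G)⁻¹ * x i = (q : G) * (g * x i) * (q : G)⁻¹ by
        conv_lhs => rw [← hfixx q]
        group]
      have := isCentralElt_blockIdem B (g * x i) (q : G)
      simp only [coeff_blockIdem] at this
      rw [this]
  have hb0 : ∀ g, red M (b.coeff g) = red M (z.coeff g) -
      ∑ B ∈ T, red M (omega (rep B).1 z) * red M (blockCoeff B g) := fun g => by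
    rw [hb, MonoidAlgebra.coeff_sub, Finsupp.sub_apply, red_sub (hzS g) (hsS g),
      red_coeff_sum _ _ _ (fun B _ => memLocalRing_omega _ hzC hzS)
        fun B hB => scoeff_blockIdem (hTB B hB)]
    simp only [coeff_blockIdem]
  simp only [hb0, Finset.sum_sub_distrib] at h0
  rw [hz0, Finset.sum_comm, Finset.sum_eq_zero fun B hB => by rw [← Finset.mul_sum]; exact hs0 B hB,
    sub_zero] at h0
  exact h0


/-- Let p be a prime, M a maximal ideal of the algebraic integers containing p, and D a subgroup of the finite group G. Let x₁, …, x_r be pairwise non-conjugate elements of G such that D is a Sylow p-subgroup of the centralizer of each xᵢ, and such that for any conjugates g of some xᵢ and h of some xⱼ the element g h⁻¹ is never a non-identity p-element. Then there are r distinct p-blocks B₁, …, B_r of G, each having D as a defect group, such that for every choice of characters χᵢ ∈ Bᵢ of height zero the determinant of the r × r matrix (χᵢ(xⱼ)) does not lie in the local ideal at M. -/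
theorem result {G : Type*} [Group G] [Finite G] (p : ℕ) [Fact p.Prime] (M : Ideal Cfsg.AlgInt) (hM : Cfsg.IsPModular p M) (D : Subgroup G) {r : ℕ} (x : Fin r → G) (hx : ∀ i j : Fin r, IsConj (x i) (x j) → i = j) (hD : ∀ i : Fin r, ∃ S : Sylow p ↥(Subgroup.centralizer ({x i} : Set G)), (S : Subgroup ↥(Subgroup.centralizer ({x i} : Set G))).map (Subgroup.centralizer ({x i} : Set G)).subtype = D) (hsep : ∀ i j : Fin r, ∀ g h : G, IsConj (x i) g → IsConj (x j) h → ∀ k : ℕ, 0 < k → orderOf (g * h⁻¹) ≠ p ^ k) : ∃ B : Fin r → Set (Cfsg.IrrCharacter G), Function.Injective B ∧ (∀ i : Fin r, Cfsg.IsPBlock M (B i) ∧ Cfsg.IsDefectGroup p M (B i) D) ∧ ∀ χ : Fin r → Cfsg.IrrCharacter G, (∀ i : Fin r, χ i ∈ B i ∧ Cfsg.blockHeight p (B i) (χ i : G → ℂ) = 0) → ¬ Cfsg.MemLocalIdeal M (Matrix.det (Matrix.of fun i j : Fin r => (χ i : G → ℂ) (x j))) := by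
  classical
  obtain ⟨-, hmax, hpM⟩ := hM
  haveI := hmax
  haveI := Fintype.ofFinite G
  have hxD : ∀ i, SylIn p (Subgroup.centralizer ({x i} : Set G)) D := fun i => by
    obtain ⟨S, hS⟩ := hD i
    rw [← hS]
    exact sylIn_map _ S
  let v : IrrCharacter G → Fin r → AlgInt ⧸ M := fun χ j =>
    Ideal.Quotient.mk M (centralInt χ (x j))
  have hv : ∀ χ j, v χ j = red M (centralChar χ.1 (x j)) := fun χ j => by
    rw [← coe_centralInt, red_coe]
  let s : Set (Fin r → AlgInt ⧸ M) := v '' {χ | IsDefectGroup p M (blockOf M χ.1) D}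
  have hspan : Submodule.span (AlgInt ⧸ M) s = ⊤ := by
    by_contra hne
    obtain ⟨f, hf0, hf⟩ := Submodule.exists_le_ker_of_lt_top _ (lt_top_iff_ne_top.2 hne)
    have hfe : ∀ w : Fin r → AlgInt ⧸ M, f w = ∑ j, f (Pi.single j 1) * w j := fun w => by
      conv_lhs => rw [pi_eq_sum_univ' w, map_sum]
      refine Finset.sum_congr rfl fun j _ => ?_
      rw [map_smul, smul_eq_mul, mul_comm]
    have h0 := coeff_eq_zero_of_orthogonal hpM x hxD hx hsep (fun j => f (Pi.single j 1))
      fun B hB hBD χ hχ => by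
        simp only [← hv]
        rw [← hfe]
        exact hf (Submodule.subset_span ⟨χ, by simpa [← block_eq hB hχ] using hBD, rfl⟩)
    exact hf0 (LinearMap.ext fun w => by rw [hfe]; simp [congrFun h0])
  obtain ⟨f, hfs, -, hfli⟩ := Submodule.exists_fun_fin_finrank_span_eq (AlgInt ⧸ M) s
  have hr : Module.finrank (AlgInt ⧸ M) (Submodule.span (AlgInt ⧸ M) s) = r := by
    rw [hspan, finrank_top, Module.finrank_pi, Fintype.card_fin]
  let e : Fin r ≃ Fin (Module.finrank (AlgInt ⧸ M) (Submodule.span (AlgInt ⧸ M) s)) :=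
    finCongr hr.symm
  choose ψ hψD hψv using fun i : Fin r => hfs (e i)
  refine ⟨fun i => blockOf M (ψ i).1, ?_, fun i => ⟨isPBlock_blockOf _, hψD i⟩, ?_⟩
  · intro i j hij
    refine e.injective (hfli.injective ?_)
    rw [← hψv i, ← hψv j]
    funext k
    rw [hv, hv]
    refine red_centralChar_eq (isPBlock_blockOf (ψ i)) (mem_blockOf_self _) ?_ _
    rw [show blockOf M (ψ i).1 = blockOf M (ψ j).1 from hij]
    exact mem_blockOf_self _
  intro χ hχ hdet
  let A : Matrix (Fin r) (Fin r) AlgInt := Matrix.of fun i j => centralInt (χ i) (x j)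
  have hA : (Ideal.Quotient.mk M) A.det ≠ 0 := by
    rw [RingHom.map_det]
    have hmat : (Ideal.Quotient.mk M).mapMatrix A = Matrix.of fun i => f (e i) := by
      ext i j
      simp only [A, RingHom.mapMatrix_apply, Matrix.map_apply, Matrix.of_apply]
      rw [← hψv i, hv, ← red_coe, coe_centralInt]
      exact red_centralChar_eq (isPBlock_blockOf (ψ i)) (hχ i).1 (mem_blockOf_self _) _
    rw [hmat]
    exact ((Matrix.linearIndependent_rows_iff_isUnit (A := Matrix.of fun i => f (e i))).1
      (hfli.comp _ e.injective) |> (Matrix.isUnit_iff_isUnit_det _).1).ne_zero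
  set d := (Nat.card D).log p with hd
  have hdeg : ∀ i j, (Char.degree (χ i)).factorization p =
      (Subgroup.centralizer ({x j} : Set G)).index.factorization p := by
    intro i j
    obtain ⟨g, hg, hgD⟩ := isDefectGroup_iff.1 (hψD i)
    have h1 := (blockHeight_eq_zero_iff hpM (isPBlock_blockOf (ψ i)) hg (hχ i).1).1 (hχ i).2
    have h2 := factorization_index (p := p) (Subgroup.centralizer ({g} : Set G))
    have h3 := factorization_index (p := p) (Subgroup.centralizer ({x j} : Set G))
    have h4 := Nat.pow_right_injective (Fact.out : p.Prime).two_le (hgD.2.symm.trans (hxD j).2)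
    omega
  by_cases hr0 : r = 0
  · subst hr0
    rw [Matrix.det_isEmpty] at hdet
    exact not_memLocalIdeal_one hdet
  haveI : Nonempty (Fin r) := ⟨⟨0, Nat.pos_of_ne_zero hr0⟩⟩
  obtain ⟨k⟩ := (inferInstance : Nonempty (Fin r))
  set E := (Subgroup.centralizer ({x k} : Set G)).index.factorization p with hE
  let uu : Fin r → ℕ := fun i => Char.degree (χ i) / p ^ E
  let ww : Fin r → ℕ := fun j => (Subgroup.centralizer ({x j} : Set G)).index / p ^ E
  have hu : ∀ i, Char.degree (χ i) = p ^ E * uu i ∧ ¬ p ∣ uu i := fun i => by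
    have hne : Char.degree (χ i) ≠ 0 := (Char.degree_pos _).ne'
    simp only [uu, hE, ← hdeg i k]
    exact ⟨(Nat.ordProj_mul_ordCompl_eq_self _ p).symm,
      Nat.not_dvd_ordCompl (Fact.out : p.Prime) hne⟩
  have hw : ∀ j, (Subgroup.centralizer ({x j} : Set G)).index = p ^ E * ww j ∧ ¬ p ∣ ww j :=
    fun j => by
    simp only [ww, hE, ← hdeg k k, hdeg k j]
    exact ⟨(Nat.ordProj_mul_ordCompl_eq_self _ p).symm,
      Nat.not_dvd_ordCompl (Fact.out : p.Prime) Subgroup.index_ne_zero_of_finite⟩
  have hwne : ∀ j, (ww j : ℂ) ≠ 0 := fun j => Nat.cast_ne_zero.2 fun h =>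
    (hw j).2 (h ▸ dvd_zero p)
  have hentry : ∀ i j, (ww j : ℂ) * (χ i).1 (x j) = (uu i : ℂ) * (A i j : ℂ) := fun i j => by
    simp only [A, Matrix.of_apply, coe_centralInt, centralChar]
    rw [Char.apply_one_eq_degree, (hu i).1, (hw j).1]
    push_cast
    have hune : (uu i : ℂ) ≠ 0 := Nat.cast_ne_zero.2 fun h => (hu i).2 (h ▸ dvd_zero p)
    have hpe : (p : ℂ) ^ E ≠ 0 := pow_ne_zero _ (Nat.cast_ne_zero.2 (Fact.out : p.Prime).ne_zero)
    field_simp
  have hdet' : (∏ j, (ww j : ℂ)) * Matrix.det (Matrix.of fun i j => (χ i).1 (x j)) =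
      (∏ i, (uu i : ℂ)) * (A.det : ℂ) := by
    have hc : (A.det : ℂ) = Matrix.det (A.map fun a => (a : ℂ)) :=
      RingHom.map_det (algebraMap AlgInt ℂ) A
    rw [hc, ← Matrix.det_mul_row, ← Matrix.det_mul_column]
    congr 1
    ext i j
    exact hentry i j
  refine hA (Ideal.Quotient.eq_zero_iff_mem.2 ((memLocalIdeal_coe_iff _).1 ?_))
  have hloc := MemLocalIdeal.mul_left (M := M)
    (MemLocalRing.prod Finset.univ fun j _ => memLocalRing_natCast (M := M) (ww j)) hdet
  rw [hdet', ← Nat.cast_prod] at hloc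
  refine (MemLocalIdeal.mem_or_mem (memLocalRing_natCast _) (memLocalRing_coe _) hloc).resolve_left
    fun hbad => ?_
  rw [show ((∏ i, uu i : ℕ) : ℂ) = (((∏ i, uu i : ℕ) : AlgInt) : ℂ) by push_cast; rfl,
    memLocalIdeal_coe_iff, ← Ideal.Quotient.eq_zero_iff_mem, map_natCast] at hbad
  haveI := charP_residue (M := M) hpM
  rw [CharP.cast_eq_zero_iff (AlgInt ⧸ M) p, Prime.dvd_finsetProd_iff
    (Fact.out : p.Prime).prime] at hbad
  obtain ⟨i, -, hi⟩ := hbad
  exact (hu i).2 hi

end Cfsg.Agent.S4741
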