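import Cfsg.Statements.S4742
import Cfsg.Agent.Lib.BlockCount.Involve

set_option autoImplicit false
open Cfsg

namespace Cfsg.Agent.S4742

/-- Let p ≠ q be primes dividing the order of the finite group G, and suppose the centralizer of every non-identity p-element of G has order prime to q. Then either G has an irreducible character of p-defect zero, or for every non-identity q-element z of G there are conjugates g, h of z such that g h⁻¹ is a non-identity p-element. -/
theorem result {G : Type*} [Group G] [Finite G] (p q : ℕ) [Fact p.Prime] [Fact q.Prime] (hppq : p ≠ q) (hpG : p ∣ Nat.card G) (hqG : q ∣ Nat.card G) (hC : ∀ g : G, g ≠ 1 → (∃ k : ℕ, orderOf g = p ^ k) → ¬ q ∣ Nat.card ↥(Subgroup.centralizer ({g} : Set G))) : (∃ χ : Cfsg.IrrCharacter G, (Cfsg.charDegree (χ : G → ℂ)).factorization p = (Nat.card G).factorization p) ∨ ∀ z : G, z ≠ 1 → (∃ k : ℕ, orderOf z = q ^ k) → ∃ g h : G, IsConj z g ∧ IsConj z h ∧ g * h⁻¹ ≠ 1 ∧ ∃ k : ℕ, orderOf (g * h⁻¹) = p ^ k := by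
  haveI := Fintype.ofFinite G
  rw [or_iff_not_imp_left]
  intro hnd z hz1 hzq
  by_contra hcon
  obtain ⟨P⟩ : Nonempty (Sylow p G) := inferInstance
  set a := (Nat.card G).factorization p with ha
  have ha1 : 0 < a := Nat.Prime.factorization_pos_of_dvd (Fact.out) Nat.card_pos.ne' hpG
  have hcardP : Nat.card (P : Subgroup G) = p ^ a := P.card_eq_multiplicity
  have hno : ∀ y ∈ (P : Subgroup G), y ≠ 1 → ∀ x : G, ¬ IsConj (z * (x * z⁻¹ * x⁻¹)) y := by
    intro y hy hy1 x hx
    obtain ⟨d, hd⟩ := isConj_iff.mp hx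
    obtain ⟨k, hk⟩ := (IsPGroup.iff_orderOf.mp P.2) ⟨y, hy⟩
    rw [Subgroup.orderOf_mk] at hk
    have hy' : d * z * d⁻¹ * (d * x * z * (d * x)⁻¹)⁻¹ = y := by rw [← hd]; group
    exact hcon ⟨d * z * d⁻¹, d * x * z * (d * x)⁻¹, isConj_iff.mpr ⟨d, rfl⟩,
      isConj_iff.mpr ⟨d * x, rfl⟩, by rw [hy']; exact hy1, k, by rw [hy']; exact hk⟩
  have hN : Nat.card {x : G // z * (x * z⁻¹ * x⁻¹) = 1} =
      Nat.card (Subgroup.centralizer ({z} : Set G)) := by
    refine Nat.card_congr (Equiv.subtypeEquivRight fun x => ?_)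
    rw [Subgroup.mem_centralizer_singleton_iff]
    constructor
    · intro h
      have h2 := congrArg (fun t => t * (x * z)) h
      simp [mul_assoc] at h2
      exact h2.symm
    · intro h
      rw [← mul_assoc, ← mul_assoc, ← h]
      group
  have hCz : ¬ p ∣ Nat.card (Subgroup.centralizer ({z} : Set G)) := by
    intro hd
    obtain ⟨⟨u, hu⟩, huord⟩ := exists_prime_orderOf_dvd_card' p hd
    rw [Subgroup.orderOf_mk] at huord
    have hu1 : u ≠ 1 := fun h => (Fact.out : p.Prime).one_lt.ne (by rw [← huord, h, orderOf_one])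
    refine hC u hu1 ⟨1, by rw [huord, pow_one]⟩ ?_
    obtain ⟨k, hk⟩ := hzq
    have hq : q ∣ orderOf z := by
      rcases Nat.eq_zero_or_pos k with h0 | h0
      · exact absurd (orderOf_eq_one_iff.mp (by rw [hk, h0, pow_zero])) hz1
      · rw [hk]; exact dvd_pow_self q h0.ne'
    refine hq.trans (Subgroup.orderOf_dvd_natCard _ ?_)
    rw [Subgroup.mem_centralizer_singleton_iff] at hu ⊢
    exact hu.symm
  have he : ∀ χ : Cfsg.IrrCharacter G,
      (Cfsg.charDegree (χ : G → ℂ)).factorization p ≤ a - 1 := by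
    intro χ
    have h1 : (Cfsg.charDegree (χ : G → ℂ)).factorization p ≤ a :=
      (Nat.factorization_le_iff_dvd (by rw [Cfsg.Agent.BlockCount.charDegree_eq_degree]
                                        exact (Cfsg.Agent.Char.degree_pos χ).ne')
        Nat.card_pos.ne').mpr (Cfsg.Agent.BlockCount.charDegree_dvd_card χ) p
    have h2 : (Cfsg.charDegree (χ : G → ℂ)).factorization p ≠ a := fun h => hnd ⟨χ, h⟩
    omega
  have h := Cfsg.Agent.BlockCount.factorization_card_le (P : Subgroup G) z z⁻¹ (a - 1) hno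
    (hN ▸ Nat.card_pos.ne') he
  rw [hN, Nat.factorization_eq_zero_of_not_dvd hCz, hcardP,
    (Fact.out : p.Prime).factorization_pow, Finsupp.single_eq_same] at h
  omega

end Cfsg.Agent.S4742
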