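import Cfsg.Statements.S4743
import Cfsg.Agent.S4742

set_option autoImplicit false
open Cfsg

namespace Cfsg.Agent.S4743

/-- A `p`-solvable group of order divisible by `p` has a normal subgroup of order `p'·p^m`, `m > 0`,
above a normal `p'`-subgroup of index `p^m`. -/
theorem exists_p_layer {G : Type*} [Group G] [Finite G] (p : ℕ) [Fact p.Prime]
    (h : Cfsg.IsPSolvable p G) (hpG : p ∣ Nat.card G) :
    ∃ A B : Subgroup G, A.Normal ∧ B.Normal ∧ ¬ p ∣ Nat.card A ∧ p ∣ Nat.card B ∧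
      ∃ m : ℕ, Nat.card B = Nat.card A * p ^ m := by
  obtain ⟨n, H, h0, hlast, hmono, hnorm, hfac⟩ := h
  have key : ∀ i : Fin (n + 1), p ∣ Nat.card (H i) →
      ∃ j : Fin n, ¬ p ∣ Nat.card (H j.castSucc) ∧ p ∣ Nat.card (H j.succ) := by
    intro i
    induction i using Fin.induction with
    | zero =>
      intro hd
      rw [h0, Subgroup.card_bot] at hd
      exact absurd hd (Fact.out : p.Prime).not_dvd_one
    | succ j ih =>
      intro hd
      by_cases hj : p ∣ Nat.card (H j.castSucc)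
      · exact ih hj
      · exact ⟨j, hj, hd⟩
  obtain ⟨j, hj, hj'⟩ := key (Fin.last n) (by rw [hlast, Subgroup.card_top]; exact hpG)
  refine ⟨H j.castSucc, H j.succ, hnorm _, hnorm _, hj, hj', ?_⟩
  have hmul : (H j.castSucc).relIndex (H j.succ) * Nat.card (H j.castSucc) = Nat.card (H j.succ) := by
    rw [← Subgroup.relIndex_bot_left, ← Subgroup.relIndex_bot_left (H := H j.succ), mul_comm]
    exact Subgroup.relIndex_mul_relIndex ⊥ _ _ bot_le (hmono (Fin.castSucc_le_succ j))
  rcases hfac j with ⟨m, hm⟩ | hc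
  · exact ⟨m, by rw [← hmul, hm, mul_comm]⟩
  · rw [← hmul] at hj'
    rcases (Fact.out : p.Prime).dvd_mul.mp hj' with h1 | h1
    · exact absurd h1 ((Fact.out : p.Prime).coprime_iff_not_dvd.mp hc.symm)
    · exact absurd h1 hj

/-- If the centralisers of the non-identity `p`-elements have order prime to `q`, so do those
with `p` and `q` exchanged. -/
theorem centralizer_symm {G : Type*} [Group G] [Finite G] (p q : ℕ) [Fact p.Prime] [Fact q.Prime]
    (hC : ∀ g : G, g ≠ 1 → (∃ k : ℕ, orderOf g = p ^ k) →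
      ¬ q ∣ Nat.card ↥(Subgroup.centralizer ({g} : Set G))) :
    ∀ g : G, g ≠ 1 → (∃ k : ℕ, orderOf g = q ^ k) →
      ¬ p ∣ Nat.card ↥(Subgroup.centralizer ({g} : Set G)) := by
  rintro z hz1 ⟨k, hk⟩ hd
  obtain ⟨⟨u, hu⟩, huord⟩ := exists_prime_orderOf_dvd_card' p hd
  rw [Subgroup.orderOf_mk] at huord
  have hu1 : u ≠ 1 := fun h => (Fact.out : p.Prime).one_lt.ne (by rw [← huord, h, orderOf_one])
  refine hC u hu1 ⟨1, by rw [huord, pow_one]⟩ ?_
  have hq : q ∣ orderOf z := by
    rcases Nat.eq_zero_or_pos k with h0 | h0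
    · exact absurd (orderOf_eq_one_iff.mp (by rw [hk, h0, pow_zero])) hz1
    · rw [hk]; exact dvd_pow_self q h0.ne'
  refine hq.trans (Subgroup.orderOf_dvd_natCard _ ?_)
  rw [Subgroup.mem_centralizer_singleton_iff] at hu ⊢
  exact hu.symm

/-- The case in which the group is solvable for the first prime. -/
theorem main {G : Type*} [Group G] [Finite G] (p q : ℕ) [Fact p.Prime] [Fact q.Prime]
    (hppq : p ≠ q) (hpG : p ∣ Nat.card G) (hqG : q ∣ Nat.card G)
    (hC : ∀ g : G, g ≠ 1 → (∃ k : ℕ, orderOf g = p ^ k) →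
      ¬ q ∣ Nat.card ↥(Subgroup.centralizer ({g} : Set G)))
    (hsolv : Cfsg.IsPSolvable p G) :
    (∃ χ : Cfsg.IrrCharacter G, (Cfsg.charDegree (χ : G → ℂ)).factorization p = (Nat.card G).factorization p) ∨
    (∃ χ : Cfsg.IrrCharacter G, (Cfsg.charDegree (χ : G → ℂ)).factorization q = (Nat.card G).factorization q) := by
  have hp : p.Prime := Fact.out
  have hq : q.Prime := Fact.out
  rcases Cfsg.Agent.S4742.result p q hppq hpG hqG hC with h | hz
  · exact Or.inl h
  rcases Cfsg.Agent.S4742.result q p hppq.symm hqG hpG (centralizer_symm p q hC) with h | hy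
  · exact Or.inr h
  exfalso
  obtain ⟨A, B, hA, hB, hpA, hpB, m, hcard⟩ := exists_p_layer p hsolv hpG
  have hmem : ∀ {N : Subgroup G}, N.Normal → ∀ {z g h : G}, z ∈ N → IsConj z g → IsConj z h →
      g * h⁻¹ ∈ N := by
    intro N hN z g h hzN hg hh
    obtain ⟨a, rfl⟩ := isConj_iff.mp hg
    obtain ⟨b, rfl⟩ := isConj_iff.mp hh
    exact N.mul_mem (hN.conj_mem z hzN a) (N.inv_mem (hN.conj_mem z hzN b))
  have hord : ∀ {r : ℕ}, r.Prime → ∀ {N : Subgroup G} {x : G}, x ∈ N → x ≠ 1 →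
      (∃ k, orderOf x = r ^ k) → r ∣ Nat.card N := by
    rintro r hr N x hxN hx1 ⟨k, hk⟩
    refine dvd_trans ?_ (N.orderOf_dvd_natCard hxN)
    rcases Nat.eq_zero_or_pos k with h0 | h0
    · exact absurd (orderOf_eq_one_iff.mp (by rw [hk, h0, pow_zero])) hx1
    · rw [hk]; exact dvd_pow_self r h0.ne'
  have hqA : ¬ q ∣ Nat.card A := by
    intro hd
    obtain ⟨⟨z, hzA⟩, hzord⟩ := exists_prime_orderOf_dvd_card' q hd
    rw [Subgroup.orderOf_mk] at hzord
    obtain ⟨g, h, hg, hh, hne, hk⟩ := hz z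
      (fun h1 => hq.one_lt.ne (by rw [← hzord, h1, orderOf_one])) ⟨1, by rw [hzord, pow_one]⟩
    exact hpA (hord hp (hmem hA hzA hg hh) hne hk)
  have hqB : ¬ q ∣ Nat.card B := by
    rw [hcard, hq.dvd_mul, not_or]
    exact ⟨hqA, fun h => hppq ((Nat.prime_dvd_prime_iff_eq hq hp).mp (hq.dvd_of_dvd_pow h)).symm⟩
  obtain ⟨⟨y, hyB⟩, hyord⟩ := exists_prime_orderOf_dvd_card' p hpB
  rw [Subgroup.orderOf_mk] at hyord
  obtain ⟨g, h, hg, hh, hne, hk⟩ := hy y
    (fun h1 => hp.one_lt.ne (by rw [← hyord, h1, orderOf_one])) ⟨1, by rw [hyord, pow_one]⟩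
  exact hqB (hord hq (hmem hB hyB hg hh) hne hk)

/-- Let p ≠ q be primes dividing the order of the finite group G, suppose the centralizer of every non-identity p-element has order prime to q, and suppose G is p-solvable or q-solvable. Then G has an irreducible character of p-defect zero or an irreducible character of q-defect zero. -/
theorem result {G : Type*} [Group G] [Finite G] (p q : ℕ) [Fact p.Prime] [Fact q.Prime] (hppq : p ≠ q) (hpG : p ∣ Nat.card G) (hqG : q ∣ Nat.card G) (hC : ∀ g : G, g ≠ 1 → (∃ k : ℕ, orderOf g = p ^ k) → ¬ q ∣ Nat.card ↥(Subgroup.centralizer ({g} : Set G))) (hsolv : Cfsg.IsPSolvable p G ∨ Cfsg.IsPSolvable q G) : (∃ χ : Cfsg.IrrCharacter G, (Cfsg.charDegree (χ : G → ℂ)).factorization p = (Nat.card G).factorization p) ∨ (∃ χ : Cfsg.IrrCharacter G, (Cfsg.charDegree (χ : G → ℂ)).factorization q = (Nat.card G).factorization q) := by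
  rcases hsolv with h | h
  · exact main p q hppq hpG hqG hC h
  · exact (main q p hppq.symm hqG hpG (centralizer_symm p q hC) h).symm

end Cfsg.Agent.S4743
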