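import Cfsg.Statements.S4746
import Cfsg.Agent.Lib.BlockCount.Inverted
import Cfsg.Agent.Lib.Char.RealChar
import Cfsg.Agent.Lib.ZStar.Assemble
import Cfsg.Agent.Lib.CharInt.Central

set_option autoImplicit false
open Cfsg
open scoped Classical ComplexConjugate
open Cfsg.Agent Cfsg.Agent.Char

set_option linter.style.haveILetI false

namespace Cfsg.Agent.S4746

universe u

/-- A real element with centraliser of odd order is incompatible with all degrees being odd. -/
lemma exists_even_degree {G : Type u} [Group G] [Fintype G] (q : G) (hq : q ≠ 1)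
    (hC : Odd (Nat.card (Subgroup.centralizer ({q} : Set G)))) (hreal : IsConj q q⁻¹) :
    ∃ χ : IrrCharacter G, Even (Char.degree χ) := by
  by_contra! hodd
  obtain ⟨M, hM⟩ := ZStar.exists_isPModular_two
  haveI := hM.2.1
  let R := AlgInt ⧸ M
  let e : AlgInt →+* R := Ideal.Quotient.mk M
  have h2 : (2 : R) = 0 := by
    have := Ideal.Quotient.eq_zero_iff_mem.2 hM.2.2
    rwa [map_natCast, Nat.cast_ofNat] at this
  let F : IrrCharacter G → R := fun χ =>
    e ⟨χ.1 q, CharInt.isIntegral_char (irr_isCharacter χ) q⟩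
  have hroot : sqRootCount q = 1 := by
    set C := Subgroup.centralizer ({q} : Set G)
    obtain ⟨j, hj⟩ := hC
    have huniq : ∀ u : G, u * u = q → u = q ^ (j + 1) := by
      intro u hu
      have hmem : u ∈ C := by
        rw [Subgroup.mem_centralizer_singleton_iff, ← hu]
        exact (mul_assoc u u u).symm
      have h1 : u ^ Nat.card C = 1 :=
        congrArg Subtype.val (pow_card_eq_one' (x := (⟨u, hmem⟩ : C)))
      calc u = u ^ (Nat.card C + 1) := by rw [pow_succ, h1, one_mul]
        _ = q ^ (j + 1) := by rw [← hu, ← pow_two, ← pow_mul]; congr 1; omega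
    have hex : q ^ (j + 1) * q ^ (j + 1) = q := by
      have hmem : q ∈ C := by rw [Subgroup.mem_centralizer_singleton_iff]
      have h1 : q ^ Nat.card C = 1 :=
        congrArg Subtype.val (pow_card_eq_one' (x := (⟨q, hmem⟩ : C)))
      rw [← pow_add, show j + 1 + (j + 1) = Nat.card C + 1 by omega, pow_succ, h1, one_mul]
    rw [sqRootCount]
    haveI : Subsingleton {u : G // u * u = q} :=
      ⟨fun a b => Subtype.ext ((huniq a a.2).trans (huniq b b.2).symm)⟩
    haveI : Nonempty {u : G // u * u = q} := ⟨⟨_, hex⟩⟩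
    rw [Nat.card_unique, Nat.cast_one]
  have hqreal : ∀ χ : IrrCharacter G, conj (χ.1 q) = χ.1 q := fun χ => by
    rw [IsCharacter.conj_apply (irr_isCharacter χ)]
    exact (IsClassFunction.apply_of_isConj
      (IsCharacter.isClassFunction (irr_isCharacter χ)) hreal).symm
  let S := Finset.univ.filter fun χ : IrrCharacter G => conjIrr χ = χ
  have hS : ∀ χ, χ ∈ S ↔ ∀ g, (χ.1 g).im = 0 := fun χ => by
    simp [S, conjIrr_eq_self_iff]
  have hall : ∑ χ : IrrCharacter G, F χ = 0 := by
    have hd : ∀ χ : IrrCharacter G, ((Char.degree χ : ℕ) : R) = 1 := fun χ => by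
      obtain ⟨k, hk⟩ := Nat.not_even_iff_odd.1 (hodd χ)
      rw [hk, Nat.cast_add, Nat.cast_mul, Nat.cast_ofNat, h2, zero_mul, zero_add, Nat.cast_one]
    have h := sum_irr_degree_mul q
    rw [if_neg hq] at h
    have h' : ∑ χ : IrrCharacter G, (Char.degree χ : AlgInt) *
        ⟨χ.1 q, CharInt.isIntegral_char (irr_isCharacter χ) q⟩ = 0 := by
      refine Subtype.ext ?_
      push_cast
      rw [← h]
      exact Finset.sum_congr rfl fun χ _ => by rw [apply_one_eq_degree]
    have := congrArg e h'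
    rw [map_sum, map_zero] at this
    rw [← this]
    exact Finset.sum_congr rfl fun χ _ => by rw [map_mul, map_natCast, hd, one_mul]
  have hrealsum : ∑ χ ∈ S, F χ = 1 := by
    have h := sqRootCount_eq_sum q
    rw [hroot, ← Finset.sum_subset (Finset.subset_univ S) fun χ _ hχ => by
      rw [fsIndicator_of_not_real χ fun h' => hχ ((hS χ).2 h'), zero_mul]] at h
    have hν : ∀ χ ∈ S, ∃ z : AlgInt, (z : ℂ) = fsIndicator χ.1 ∧ e z = 1 := by
      intro χ hχ
      rcases fsIndicator_of_real χ ((hS χ).1 hχ) with h' | h'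
      · exact ⟨1, by simp [h'], map_one e⟩
      · refine ⟨-1, by simp [h'], ?_⟩
        rw [map_neg, map_one, neg_eq_iff_add_eq_zero, one_add_one_eq_two, h2]
    choose! z hz hze using hν
    have h' : ∑ χ ∈ S, z χ * ⟨χ.1 q, CharInt.isIntegral_char (irr_isCharacter χ) q⟩ =
        (1 : AlgInt) := by
      refine Subtype.ext ?_
      push_cast
      rw [h]
      exact Finset.sum_congr rfl fun χ hχ => by rw [hz χ hχ]
    have := congrArg e h'
    rw [map_sum, map_one] at this
    rw [← this]
    exact Finset.sum_congr rfl fun χ hχ => by rw [map_mul, hze χ hχ, one_mul]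
  have hpairs : ∑ χ ∈ Sᶜ, F χ = 0 := by
    refine Finset.sum_involution (fun χ _ => conjIrr χ) (fun χ _ => ?_) (fun χ hχ _ he => ?_)
      (fun χ hχ => ?_) (fun χ _ => conjIrr_conjIrr χ)
    · rw [show F (conjIrr χ) = F χ from congrArg e (Subtype.ext (hqreal χ)), ← two_mul, h2, zero_mul]
    · exact Finset.mem_compl.1 hχ (Finset.mem_filter.2 ⟨Finset.mem_univ _, he⟩)
    · rw [Finset.mem_compl] at hχ ⊢
      intro h
      have h' := (Finset.mem_filter.1 h).2
      rw [conjIrr_conjIrr] at h'
      exact hχ (Finset.mem_filter.2 ⟨Finset.mem_univ _, h'.symm⟩)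
  rw [← Finset.sum_add_sum_compl S, hrealsum, hpairs, add_zero] at hall
  exact one_ne_zero hall


/-- Let p be an odd prime and G a finite group of even order divisible by p in which the centralizer of every non-identity p-element has odd order. Then G has an irreducible character of p-defect zero or an irreducible character of even degree. -/
theorem result {G : Type*} [Group G] [Finite G] (p : ℕ) [Fact p.Prime] (hp2 : p ≠ 2) (hpG : p ∣ Nat.card G) (h2G : 2 ∣ Nat.card G) (hC : ∀ g : G, g ≠ 1 → (∃ k : ℕ, orderOf g = p ^ k) → Odd (Nat.card ↥(Subgroup.centralizer ({g} : Set G)))) : (∃ χ : Cfsg.IrrCharacter G, (Cfsg.charDegree (χ : G → ℂ)).factorization p = (Nat.card G).factorization p) ∨ ∃ χ : Cfsg.IrrCharacter G, Even (Cfsg.charDegree (χ : G → ℂ)) := by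
  haveI := Fintype.ofFinite G
  by_contra! hcon
  obtain ⟨hnd, hodd⟩ := hcon
  obtain ⟨t, ht⟩ := exists_prime_orderOf_dvd_card' 2 h2G
  obtain ⟨Q, u, -, hinv, -⟩ := BlockCount.exists_inverted_sylow hp2 hpG hC hnd t ht
  have hQ : (Q : Subgroup G) ≠ ⊥ := Q.ne_bot_of_dvd_card hpG
  obtain ⟨⟨q, hqQ⟩, hq⟩ := Subgroup.ne_bot_iff_exists_ne_one.1 hQ
  have hq1 : q ≠ 1 := fun h => hq (Subtype.ext h)
  obtain ⟨k, hk⟩ := (IsPGroup.iff_orderOf (p := p)).1 Q.2 ⟨q, hqQ⟩
  rw [Subgroup.orderOf_mk] at hk
  obtain ⟨χ, hχ⟩ := exists_even_degree q hq1 (hC q hq1 ⟨k, hk⟩) (isConj_iff.2 ⟨u, hinv q hqQ⟩)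
  rw [← charDegree_eq_degree] at hχ
  exact hodd χ hχ

end Cfsg.Agent.S4746
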