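import Cfsg.Statements.S4748
import Cfsg.Agent.Lib.Char.Orthogonality
import Cfsg.Agent.Lib.Char.Clifford
import Cfsg.Agent.Lib.Char.Linear
import Cfsg.Agent.Lib.Coprime.Commutator
import Cfsg.Agent.Lib.Coprime.Sylow
import Cfsg.Agent.Lib.Coprime.ThreeSubgroup
import Cfsg.Agent.Lib.PCore.PSolvable

/-!
# A faithful character of small degree and a trivial intersection Sylow subgroup

`O_p(G) = 1` unless `P` is normal, so `P` does not centralise `O_{p'}(G)`; a minimal `P`-invariant
`q`-subgroup `Q` of it that `P` does not centralise has class at most two, and the trivial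
intersection property makes every nontrivial element of `P` have the same centraliser in `Q` as
`P`. A constituent of `χ` on `Q` of degree `e` with orbit length `o` then gives
`d² ≥ o² e² > |P|`.
-/

set_option autoImplicit false
set_option linter.style.haveILetI false
open scoped Pointwise
open Cfsg

namespace Cfsg.Agent.S4748

open Subgroup

section Center

variable {K : Type*} [Group K] [Finite K]

/-- In a group of class at most two an irreducible character vanishes off a normal subgroup whose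
index is the square of its degree. -/
theorem exists_vanish {θ : K → ℂ} (hθ : IsIrrCharacter K θ)
    (hcl : ∀ x y : K, y * x * y⁻¹ * x⁻¹ ∈ center K) :
    ∃ (Z : Subgroup K) (e : ℕ), Z.Normal ∧ center K ≤ Z ∧ (∀ x, x ∈ Z ↔ θ x ≠ 0) ∧ θ 1 = e ∧
      0 < e ∧ Z.index = e ^ 2 := by
  classical
  letI : Fintype K := Fintype.ofFinite K
  have hχ : IsCharacter K θ := Char.IsIrrCharacter.isCharacter hθ
  obtain ⟨e, he, h1⟩ := Char.IsIrrCharacter.exists_degree hθ
  have hsum := Char.classInner_irr_self hθ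
  have hconj := fun x => Char.IsCharacter.conj_apply hχ x
  obtain ⟨n, ρ, hρ, rfl⟩ := hθ
  haveI := hρ
  have hne : (n : ℂ) = (e : ℂ) := by simpa using h1
  have hscal : ∀ x : K, (∀ y, ρ y * ρ x = ρ x * ρ y) → ∃ c : ℂ, ρ x = c • 1 := by
    intro x hx
    let f : Representation.IntertwiningMap ρ ρ :=
      { toLinearMap := ρ x, isIntertwining' := fun b => (hx b).symm }
    obtain ⟨c, hc⟩ :=
      (Representation.IsIrreducible.algebraMap_intertwiningMap_bijective_of_isAlgClosed (ρ := ρ)).2 f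
    refine ⟨c, LinearMap.ext fun v => ?_⟩
    have h2 : (algebraMap ℂ (Representation.IntertwiningMap ρ ρ) c) v = f v := by rw [hc]
    rw [show ρ x v = f v from rfl, ← h2, Algebra.algebraMap_eq_smul_one]
    rfl
  let Z : Subgroup K :=
    { carrier := {x | ∀ y, ρ y * ρ x = ρ x * ρ y}
      one_mem' := fun y => by simp
      mul_mem' := fun {a b} ha hb y => by
        rw [map_mul, ← mul_assoc, ha y, mul_assoc, hb y, ← mul_assoc]
      inv_mem' := fun {a} ha y => by
        have h := congrArg (fun t => ρ a⁻¹ * t * ρ a⁻¹) (ha y)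
        simp only [← map_mul] at h ⊢
        simpa [mul_assoc] using h.symm }
  have hmem : ∀ x, x ∈ Z ↔ ∀ y, ρ y * ρ x = ρ x * ρ y := fun x => Iff.rfl
  have hcen : center K ≤ Z := fun x hx y => by
    rw [← map_mul, ← map_mul, mem_center_iff.1 hx y]
  have hZn : Z.Normal := ⟨fun x hx g => by
    have : ρ (g * x * g⁻¹) = ρ x := by
      rw [map_mul, map_mul, hx g, mul_assoc, ← map_mul, mul_inv_cancel, map_one, mul_one]
    intro y
    rw [this]
    exact hx y⟩
  have hin : ∀ x ∈ Z, ρ.character x * starRingEnd ℂ (ρ.character x) = (e : ℂ) ^ 2 := by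
    intro x hx
    obtain ⟨c, hc⟩ := hscal x hx
    obtain ⟨c', hc'⟩ := hscal x⁻¹ (inv_mem hx)
    have hv : ∀ (d : ℂ), LinearMap.trace ℂ (Fin n → ℂ) (d • 1) = d * e := by
      intro d; simp [hne]
    have hcc : c * c' = 1 := by
      have h2 : ρ (x * x⁻¹) = 1 := by simp
      rw [map_mul, hc, hc', smul_mul_smul_comm, mul_one] at h2
      have h3 := congrArg (LinearMap.trace ℂ (Fin n → ℂ)) h2
      rw [hv, ← one_smul ℂ (1 : Module.End ℂ (Fin n → ℂ)), hv, one_mul] at h3
      have hne' : (e : ℂ) ≠ 0 := by exact_mod_cast he.ne'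
      exact mul_right_cancel₀ hne' (h3.trans (one_mul _).symm)
    have hcon : starRingEnd ℂ (ρ.character x) = ρ.character x⁻¹ := hconj x
    rw [hcon]
    show LinearMap.trace ℂ _ (ρ x) * LinearMap.trace ℂ _ (ρ x⁻¹) = _
    rw [hc, hc', hv, hv]
    linear_combination (e : ℂ) ^ 2 * hcc
  have hout : ∀ x, x ∉ Z → ρ.character x = 0 := by
    intro x hx
    rw [hmem] at hx
    obtain ⟨y, hy⟩ := not_forall.1 hx
    obtain ⟨c, hc⟩ := hscal _ (fun z => (hmem _).1 (hcen (hcl x y)) z)
    have hw : ρ (y * x * y⁻¹) = c • ρ x := by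
      rw [show y * x * y⁻¹ = (y * x * y⁻¹ * x⁻¹) * x by group, map_mul, hc, smul_mul_assoc, one_mul]
    have hch : c * ρ.character x = ρ.character x := by
      have h2 := congrArg (LinearMap.trace ℂ (Fin n → ℂ)) hw
      rw [map_smul, smul_eq_mul] at h2
      exact h2.symm.trans (Representation.char_conj ρ x y)
    by_contra h0
    have : c = 1 := mul_right_cancel₀ h0 (hch.trans (one_mul _).symm)
    apply hy
    rw [this, one_smul] at hw
    have h5 : ρ (y * x * y⁻¹) * ρ y = ρ x * ρ y := by rw [hw]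
    rw [← map_mul, inv_mul_cancel_right, map_mul] at h5
    exact h5
  refine ⟨Z, e, hZn, hcen, fun x => ⟨fun hx h0 => ?_, fun h0 => by_contra fun hx => h0 (hout x hx)⟩,
    h1, he, ?_⟩
  · have := hin x hx
    rw [h0, zero_mul] at this
    exact he.ne' (by exact_mod_cast (sq_eq_zero_iff.1 this.symm))
  have h2 : ∑ x : K, ρ.character x * starRingEnd ℂ (ρ.character x) = (Nat.card K : ℂ) := by
    have h := hsum
    rw [classInner] at h
    have hK : (Nat.card K : ℂ) ≠ 0 := Char.card_ne_zero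
    field_simp at h
    exact h
  have h3 : ∑ x : K, ρ.character x * starRingEnd ℂ (ρ.character x)
      = (Nat.card Z : ℂ) * (e : ℂ) ^ 2 := by
    rw [← Finset.sum_subset (Finset.subset_univ (Finset.univ.filter fun x => x ∈ Z))
      (fun x _ hx => by rw [hout x (by simpa using hx), zero_mul]),
      Finset.sum_congr rfl (fun x hx => hin x (by simpa using hx)), Finset.sum_const, nsmul_eq_mul]
    congr 2
    rw [Nat.card_eq_fintype_card, Fintype.card_subtype]
  have h4 : Nat.card Z * e ^ 2 = Nat.card Z * Z.index := by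
    rw [Z.card_mul_index]
    exact_mod_cast h3.symm.trans h2
  exact (Nat.eq_of_mul_eq_mul_left Nat.card_pos h4).symm

end Center

section Count

variable {G : Type*} [Group G] [Finite G]

/-- The counting argument. -/
theorem card_lt_sq {P Q : Subgroup G} (hPQ : P ≤ normalizer (Q : Set G))
    (hcop : (Nat.card P).Coprime (Nat.card Q)) (hQs : Group.IsSolvable Q) (hP : P ≠ ⊥)
    (hQne : Q ≠ ⊥)
    (hfix : ∀ z ∈ P, z ≠ 1 → ∀ c ∈ Q, z * c = c * z → c ∈ centralizer (P : Set G))
    (hCZ : ∀ c ∈ Q, c ∈ centralizer (P : Set G) → ∀ x ∈ Q, c * x = x * c)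
    (hder : ∀ x ∈ Q, ∀ y ∈ Q, ∀ w ∈ Q, (y * x * y⁻¹ * x⁻¹) * w = w * (y * x * y⁻¹ * x⁻¹))
    (hab : (∀ x ∈ Q, ∀ y ∈ Q, x * y = y * x) → ∀ c ∈ Q, c ∈ centralizer (P : Set G) → c = 1)
    (χ : G → ℂ) (hχ : IsCharacter G χ) (hfaith : ∀ g : G, χ g = χ 1 → g = 1)
    {d : ℕ} (hd : χ 1 = d) : Nat.card P < d ^ 2 := by
  classical
  letI : Fintype Q := Fintype.ofFinite Q
  have hn : ∀ a : P, ∀ q : Q, (a : G) * q * (a : G)⁻¹ ∈ Q := fun a q =>
    (mem_normalizer_iff.1 (hPQ a.2) _).1 q.2
  let f : P → Q →* Q := fun a =>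
    { toFun := fun q => ⟨(a : G) * q * (a : G)⁻¹, hn a q⟩
      map_one' := Subtype.ext (by simp)
      map_mul' := fun x y => Subtype.ext (by simp [mul_assoc]) }
  have f_mul : ∀ a b q, f (a * b) q = f a (f b q) := fun a b q =>
    Subtype.ext (by simp [f, mul_assoc])
  have f_one : ∀ q, f 1 q = q := fun q => Subtype.ext (by simp [f])
  have f_inv : ∀ a q, f a (f a⁻¹ q) = q := fun a q => by rw [← f_mul, mul_inv_cancel, f_one]
  have f_inv' : ∀ a q, f a⁻¹ (f a q) = q := fun a q => by rw [← f_mul, inv_mul_cancel, f_one]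
  have f_bij : ∀ a, Function.Bijective (f a) := fun a =>
    Function.bijective_iff_has_inverse.2 ⟨f a⁻¹, f_inv' a, f_inv a⟩
  let r : Q → ℂ := fun q => χ q
  have hr : IsCharacter Q r := Char.IsCharacter.restrict hχ Q
  have hrf : ∀ a q, r (f a q) = r q := fun a q =>
    Char.IsCharacter.isClassFunction hχ (q : G) (a : G)
  obtain ⟨m, hm, hm'⟩ := Char.IsCharacter.exists_decomp hr
  let η : IrrCharacter Q → P → IrrCharacter Q := fun θ a =>
    ⟨fun q => θ.1 (f a q), Char.IsIrrCharacter.comp_surjective θ.2 (f a) (f_bij a).2⟩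
  have hmη : ∀ θ a, m (η θ a) = m θ := by
    intro θ a
    have h : classInner r (η θ a).1 = classInner r θ.1 := by
      simp only [classInner]
      congr 1
      refine Fintype.sum_equiv (Equiv.ofBijective _ (f_bij a)) _ _ fun q => ?_
      show r q * starRingEnd ℂ (θ.1 (f a q)) = r (f a q) * starRingEnd ℂ (θ.1 (f a q))
      rw [hrf]
    rw [hm', hm'] at h
    exact_mod_cast h
  have hdsum : d = ∑ θ, m θ * Char.degree θ := by
    have h := congrFun hm 1
    simp only [r, Finset.sum_apply, Pi.smul_apply, smul_eq_mul, Subgroup.coe_one, hd,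
      Char.apply_one_eq_degree] at h
    exact_mod_cast h
  -- the orbit bound
  have horb : ∀ θ : IrrCharacter Q, m θ ≠ 0 → ∀ S : Subgroup P,
      (∀ a, a ∈ S ↔ η θ a = θ) → S.index * Char.degree θ ≤ d := by
    intro θ hθ S hS
    have hcomp : ∀ a b, η θ (a * b) = η (η θ a) b := fun a b =>
      Subtype.ext (funext fun q => by show θ.1 _ = θ.1 _; rw [f_mul])
    have hout : Function.Injective (fun x : P ⧸ S => η θ (x.out)⁻¹) := by
      intro x y hxy
      rw [← Quotient.out_eq' x, ← Quotient.out_eq' y]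
      refine QuotientGroup.eq.2 ?_
      rw [hS, hcomp]
      have h2 : η θ x.out⁻¹ = η θ y.out⁻¹ := hxy
      rw [h2, ← hcomp, inv_mul_cancel]
      exact Subtype.ext (funext fun q => by show θ.1 _ = θ.1 _; rw [f_one])
    have hdeg : ∀ a, Char.degree (η θ a) = Char.degree θ := by
      intro a
      have h : ((Char.degree (η θ a) : ℕ) : ℂ) = Char.degree θ := by
        rw [← Char.apply_one_eq_degree, ← Char.apply_one_eq_degree]
        show θ.1 (f a 1) = θ.1 1
        rw [map_one]
      exact_mod_cast h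
    letI : Fintype (P ⧸ S) := Fintype.ofFinite _
    calc S.index * Char.degree θ
        = ∑ x : P ⧸ S, Char.degree θ := by
          simp [Subgroup.index, Nat.card_eq_fintype_card]
      _ ≤ ∑ x : P ⧸ S, m (η θ x.out⁻¹) * Char.degree (η θ x.out⁻¹) := by
          refine Finset.sum_le_sum fun x _ => ?_
          rw [hmη, hdeg]
          exact Nat.le_mul_of_pos_left _ (Nat.pos_of_ne_zero hθ)
      _ = ∑ ψ ∈ Finset.univ.image (fun x : P ⧸ S => η θ x.out⁻¹), m ψ * Char.degree ψ :=
          (Finset.sum_image (f := fun ψ : IrrCharacter Q => m ψ * Char.degree ψ)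
            fun x _ y _ h => hout h).symm
      _ ≤ d := hdsum ▸ Finset.sum_le_univ_sum_of_nonneg (fun _ => Nat.zero_le _)
  have hstab : ∀ θ : IrrCharacter Q, ∃ S : Subgroup P, ∀ a, a ∈ S ↔ η θ a = θ := by
    intro θ
    refine ⟨{ carrier := {a | ∀ q, θ.1 (f a q) = θ.1 q}
              one_mem' := fun q => by rw [f_one]
              mul_mem' := fun {a b} ha hb q => by rw [f_mul, ha, hb]
              inv_mem' := fun {a} ha q => by rw [← ha (f a⁻¹ q), f_inv] }, fun a => ?_⟩
    exact ⟨fun h => Subtype.ext (funext h), fun h q => congrFun (congrArg Subtype.val h) q⟩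
  by_cases hbig : ∃ θ, m θ ≠ 0 ∧ 1 < Char.degree θ
  · obtain ⟨θ, hθ, he1⟩ := hbig
    obtain ⟨S, hS⟩ := hstab θ
    have hcl : ∀ x y : Q, y * x * y⁻¹ * x⁻¹ ∈ center Q := fun x y =>
      mem_center_iff.2 fun w => Subtype.ext (by simpa using (hder x x.2 y y.2 w w.2).symm)
    obtain ⟨Z, e, hZn, hcen, hmem, hθ1, he, hidx⟩ := exists_vanish θ.2 hcl
    have hee : e = Char.degree θ := by
      have := Char.apply_one_eq_degree θ
      rw [hθ1] at this
      exact_mod_cast this
    have hZinv : ∀ a ∈ S, ∀ q : Q, f a q ∈ Z ↔ q ∈ Z := fun a ha q => by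
      rw [hmem, hmem, show θ.1 (f a q) = θ.1 q from congrFun (congrArg Subtype.val ((hS a).1 ha)) q]
    have he2 : 1 < e := hee ▸ he1
    obtain ⟨x, hx⟩ : ∃ x, x ∉ Z := by
      by_contra! h
      have : Z = ⊤ := eq_top_iff.2 fun x _ => h x
      rw [this, index_top] at hidx
      nlinarith
    -- the coset of `x` is moved by every nontrivial element of `S`
    have hfree : ∀ z ∈ S, x⁻¹ * f z x ∈ Z → z = 1 := by
      intro z hzS hz
      by_contra hz1
      let T : Subgroup P :=
        { carrier := {a | a ∈ S ∧ x⁻¹ * f a x ∈ Z}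
          one_mem' := ⟨S.one_mem, by rw [f_one, inv_mul_cancel]; exact Z.one_mem⟩
          mul_mem' := fun {a b} ha hb => ⟨S.mul_mem ha.1 hb.1, by
            have h := Z.mul_mem ha.2 ((hZinv a ha.1 _).2 hb.2)
            rw [map_mul, map_inv, ← f_mul] at h
            simpa [mul_assoc] using h⟩
          inv_mem' := fun {a} ha => ⟨S.inv_mem ha.1, by
            rw [← hZinv a ha.1, map_mul, map_inv, f_inv]
            simpa using Z.inv_mem ha.2⟩ }
      have hTn : T.map P.subtype ≤ normalizer ((Z.map Q.subtype : Subgroup G) : Set G) := by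
        have : ∀ a ∈ T, ∀ w ∈ Z.map Q.subtype, (a : G) * w * (a : G)⁻¹ ∈ Z.map Q.subtype := by
          rintro a ha _ ⟨q, hq, rfl⟩
          exact ⟨f a q, (hZinv a ha.1 q).2 hq, rfl⟩
        rintro _ ⟨a, ha, rfl⟩
        refine mem_normalizer_iff.2 fun w => ⟨this a ha w, fun hw => ?_⟩
        have := this a⁻¹ (T.inv_mem ha) _ hw
        simpa [mul_assoc] using this
      have hTP : T.map P.subtype ≤ P := map_subtype_le T
      obtain ⟨c, hc, hcx⟩ := Coprime.exists_mem_inf_centralizer_leftCoset (A := T.map P.subtype)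
        (K := Q) (N := Z.map Q.subtype) (k := (x : G)) hTn (map_subtype_le Z)
        (hcop.coprime_dvd_left (card_dvd_of_le hTP)) (Or.inr hQs) x.2 (by
          rintro _ ⟨a, ha, rfl⟩
          exact ⟨x⁻¹ * f a x, ha.2, by simp [f, mul_assoc]⟩)
      have hcP : c ∈ centralizer (P : Set G) := hfix z z.2 (fun h => hz1 (Subtype.ext h)) c hc.1
        (mem_centralizer_iff.1 hc.2 _ ⟨z, ⟨hzS, hz⟩, rfl⟩)
      have hcZ : (⟨c, hc.1⟩ : Q) ∈ Z := hcen (mem_center_iff.2 fun w =>
        Subtype.ext (hCZ c hc.1 hcP w w.2).symm)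
      obtain ⟨q, hq, hq'⟩ := hcx
      have : q = x⁻¹ * ⟨c, hc.1⟩ := Subtype.ext (by simpa using hq')
      subst this
      exact hx (inv_mem_iff.1 ((Z.mul_mem_cancel_right hcZ).1 hq))
    haveI := hZn
    let g : Option S → Q ⧸ Z := fun o => o.elim 1 fun a => QuotientGroup.mk (f a.1 x)
    have hg : Function.Injective g := by
      rintro (_ | a) (_ | b) h
      · rfl
      · exact absurd ((hZinv b.1 b.2 x).1 ((QuotientGroup.eq_one_iff _).1 h.symm)) hx
      · exact absurd ((hZinv a.1 a.2 x).1 ((QuotientGroup.eq_one_iff _).1 h)) hx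
      · have h2 : (f a.1 x)⁻¹ * f b.1 x ∈ Z := QuotientGroup.eq.1 h
        rw [← hZinv a.1⁻¹ (S.inv_mem a.2), map_mul, map_inv, f_inv', ← f_mul] at h2
        have h3 := hfree _ (S.mul_mem (S.inv_mem a.2) b.2) h2
        rw [inv_mul_eq_one] at h3
        exact congrArg some (Subtype.ext h3)
    have hcount : Nat.card S + 1 ≤ e ^ 2 := by
      rw [← hidx, Subgroup.index, ← Finite.card_option]
      exact Nat.card_le_card_of_injective g hg
    have h1 := horb θ hθ S hS
    rw [← hee] at h1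
    have hi : 1 ≤ S.index := Nat.one_le_iff_ne_zero.2 S.index_ne_zero_of_finite
    have hle : (S.index * e) ^ 2 ≤ d ^ 2 := Nat.pow_le_pow_left h1 2
    rw [← S.card_mul_index]
    calc Nat.card S * S.index < (Nat.card S + 1) * S.index :=
          Nat.mul_lt_mul_of_pos_right (Nat.lt_succ_self _) hi
      _ ≤ e ^ 2 * S.index := Nat.mul_le_mul_right _ hcount
      _ ≤ e ^ 2 * S.index ^ 2 := Nat.mul_le_mul_left _ (Nat.le_self_pow two_ne_zero _)
      _ ≤ d ^ 2 := by rw [mul_pow, mul_comm] at hle; exact hle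
  · push Not at hbig
    have hlin : ∀ θ, m θ ≠ 0 → ∃ lam : Q →* ℂ, ⇑lam = θ.1 := fun θ hθ =>
      Char.IsCharacter.exists_monoidHom (Char.irr_isCharacter θ) (by
        rw [Char.apply_one_eq_degree,
          le_antisymm (hbig θ hθ) (Char.degree_pos θ), Nat.cast_one])
    have hker : ∀ q : Q, (∀ θ, m θ ≠ 0 → θ.1 q = θ.1 1) → q = 1 := by
      intro q hq
      refine Subtype.ext (hfaith _ ?_)
      show r q = χ 1
      rw [show χ 1 = r 1 from rfl, hm]
      simp only [Finset.sum_apply, Pi.smul_apply, smul_eq_mul]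
      refine Finset.sum_congr rfl fun θ _ => ?_
      by_cases h : m θ = 0
      · simp [h]
      · rw [hq θ h]
    have hcomm : ∀ x ∈ Q, ∀ y ∈ Q, x * y = y * x := by
      intro x hx y hy
      have h := hker ((⟨x, hx⟩ : Q) * ⟨y, hy⟩ * (⟨x, hx⟩ : Q)⁻¹ * (⟨y, hy⟩ : Q)⁻¹) fun θ hθ => by
        obtain ⟨lam, hlam⟩ := hlin θ hθ
        rw [← hlam, map_mul, map_mul, map_mul, mul_comm (lam _) (lam ⟨y, hy⟩),
          mul_assoc (lam ⟨y, hy⟩), ← map_mul lam ⟨x, hx⟩, mul_inv_cancel, map_one, mul_one,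
          ← map_mul, mul_inv_cancel, map_one]
      have h2 : x * y * x⁻¹ * y⁻¹ = 1 := congrArg Subtype.val h
      rwa [mul_inv_eq_one, mul_inv_eq_iff_eq_mul] at h2
    obtain ⟨x, hxQ, hx1⟩ := (by by_contra! h; exact hQne (eq_bot_iff_forall _ |>.2 h) : ∃ x ∈ Q, x ≠ 1)
    obtain ⟨θ, hθ, hθx⟩ : ∃ θ, m θ ≠ 0 ∧ ∃ q : Q, θ.1 q ≠ θ.1 1 := by
      by_contra! h
      exact hx1 (congrArg Subtype.val (hker ⟨x, hxQ⟩ fun θ hθ => h θ hθ _))
    obtain ⟨lam, hlam⟩ := hlin θ hθ
    obtain ⟨S, hS⟩ := hstab θ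
    have hS1 : S = ⊥ := by
      rw [eq_bot_iff_forall]
      intro z hz
      by_contra hz1
      obtain ⟨q, hq⟩ := hθx
      have hinj : Function.Injective (fun y : Q => y⁻¹ * f z y) := by
        intro y y' h
        have h' : (y : G)⁻¹ * ((z : G) * y * (z : G)⁻¹) = (y' : G)⁻¹ * ((z : G) * y' * (z : G)⁻¹) :=
          congrArg Subtype.val h
        have hcz : (z : G) * ((y' : G) * (y : G)⁻¹) = ((y' : G) * (y : G)⁻¹) * z := by
          have h3 := congrArg (fun t => (y' : G) * t * (z : G) * (y : G)⁻¹) h'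
          simp [mul_assoc] at h3 ⊢
          exact h3.symm
        have hmemQ : (y' : G) * (y : G)⁻¹ ∈ Q := Q.mul_mem y'.2 (Q.inv_mem y.2)
        have := hab hcomm _ hmemQ (hfix z z.2 (fun h0 => hz1 (Subtype.ext h0)) _ hmemQ hcz)
        exact Subtype.ext (mul_inv_eq_one.1 this).symm
      obtain ⟨y, hy⟩ := (Finite.injective_iff_surjective.1 hinj) q
      apply hq
      rw [← hy, ← hlam, map_mul, hlam,
        show θ.1 (f z y) = θ.1 y from congrFun (congrArg Subtype.val ((hS z).1 hz)) y, ← hlam,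
        ← map_mul, inv_mul_cancel]
    have h1 := horb θ hθ S hS
    rw [hS1, index_bot, le_antisymm (hbig θ hθ) (Char.degree_pos θ), mul_one] at h1
    have h2 : 1 < Nat.card P := (Subgroup.one_lt_card_iff_ne_bot P).2 hP
    nlinarith

end Count

variable {G : Type*} [Group G] [Finite G]

/-- With `O_p(G) = 1`, a Sylow subgroup of a `p`-solvable group centralising `O_{p'}(G)` is
trivial. -/
theorem sylow_eq_bot {p : ℕ} [Fact p.Prime] (hsolv : IsPSolvable p G) (P : Sylow p G)
    (hO : pCore p G = ⊥) (hc : (P : Subgroup G) ≤ centralizer (pPrimeCore p G : Set G)) :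
    (P : Subgroup G) = ⊥ := by
  have hN := PCore.coprime_card_pPrimeCore (G := G) (p := p)
  set N := pPrimeCore p G with hNdef
  haveI : N.Normal := by rw [hNdef]; infer_instance
  let π := QuotientGroup.mk' N
  have hsurj : Function.Surjective π := QuotientGroup.mk'_surjective N
  rcases subsingleton_or_nontrivial (G ⧸ N) with hs | hnt
  · have htop : N = ⊤ := QuotientGroup.subsingleton_iff.1 hs
    rw [htop] at hN
    exact PCore.eq_bot_of_isPGroup_of_coprime P.2
      (hN.coprime_dvd_left (by rw [card_top]; exact card_subgroup_dvd_card _))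
  · have h1 : pCore p (G ⧸ N) ≠ ⊥ :=
      (PCore.pCore_ne_bot_or_pPrimeCore_ne_bot (PCore.isPSolvable_quotient hsolv N)).resolve_right
        (not_not.2 PCore.pPrimeCore_quotient_self_eq_bot)
    exfalso
    refine h1 ?_
    set M := (pCore p (G ⧸ N)).comap π with hM
    haveI : M.Normal := by rw [hM]; exact (inferInstance : (pCore p (G ⧸ N)).Normal).comap π
    have hNM : N ≤ M := fun x hx => by
      rw [hM, mem_comap, show π x = 1 from (QuotientGroup.eq_one_iff x).2 hx]
      exact one_mem _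
    have hMP : M ≤ (P : Subgroup G) ⊔ N := by
      have h := PCore.pCore_le_sylow (P.mapSurjective hsurj)
      rw [Sylow.coe_mapSurjective] at h
      refine (comap_mono h).trans ?_
      rw [comap_map_eq, QuotientGroup.ker_mk']
    have hR : (P : Subgroup G) ⊓ M = ⊥ := by
      have hdec : ∀ m ∈ M, ∃ r ∈ (P : Subgroup G) ⊓ M, ∃ n ∈ N, m = r * n := by
        intro m hm
        obtain ⟨r, hr, n, hn, rfl⟩ := mem_sup_of_normal_right.1 (hMP hm)
        exact ⟨r, ⟨hr, (M.mul_mem_cancel_right (hNM hn)).1 hm⟩, n, hn, rfl⟩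
      have hnorm : (((P : Subgroup G) ⊓ M).subgroupOf M).Normal := by
        refine ⟨fun w hw g => ?_⟩
        rw [mem_subgroupOf] at hw ⊢
        obtain ⟨r, hr, n, hn, hg⟩ := hdec g g.2
        have hcw : n * (w : G) * n⁻¹ = w := by
          rw [mem_centralizer_iff.1 (hc hw.1) n hn, mul_inv_cancel_right]
        push_cast
        rw [hg, show r * n * (w : G) * (r * n)⁻¹ = r * (n * (w : G) * n⁻¹) * r⁻¹ by group, hcw]
        exact mul_mem (mul_mem hr hw) (inv_mem hr)
      have hpg : IsPGroup p ↥(((P : Subgroup G) ⊓ M).subgroupOf M) :=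
        (P.2.to_le inf_le_left).comap_subtype
      have h := PCore.le_pCore (hN := hnorm) hpg
      rw [PCore.pCore_eq_bot_of_normal M hO, le_bot_iff, subgroupOf_eq_bot] at h
      exact le_bot_iff.1 fun w hw => (disjoint_iff_inf_le.1 h) ⟨hw, hw.2⟩
    have hMN : M ≤ N := fun m hm => by
      obtain ⟨r, hr, hrM, n, hn, rfl⟩ : ∃ r, r ∈ (P : Subgroup G) ∧ r ∈ M ∧ ∃ n ∈ N, m = r * n := by
        obtain ⟨r, hr, n, hn, rfl⟩ := mem_sup_of_normal_right.1 (hMP hm)
        exact ⟨r, hr, (M.mul_mem_cancel_right (hNM hn)).1 hm, n, hn, rfl⟩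
      have hr1 : r = 1 := mem_bot.1 (hR ▸ mem_inf.2 ⟨hr, hrM⟩)
      simpa [hr1] using hn
    rw [← map_comap_eq_self_of_surjective hsurj (pCore p (G ⧸ N)), ← hM, Subgroup.map_eq_bot_iff,
      QuotientGroup.ker_mk']
    exact hMN

/-- A group not centralising a group of coprime order fails to centralise an invariant Sylow
subgroup of it. -/
theorem exists_sylow_not_centralized {P N : Subgroup G} (hPN : P ≤ normalizer (N : Set G))
    (hcop : (Nat.card P).Coprime (Nat.card N)) (hPs : Group.IsSolvable P)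
    (h : ¬ P ≤ centralizer (N : Set G)) :
    ∃ (q : ℕ) (Q : Subgroup G), q.Prime ∧ IsPGroup q Q ∧ Q ≤ N ∧
      P ≤ normalizer (Q : Set G) ∧ ¬ P ≤ centralizer (Q : Set G) := by
  by_contra! hall
  apply h
  rw [le_centralizer_iff]
  have hdvd : Nat.card N ∣ Nat.card ↥(N ⊓ centralizer (P : Set G)) := by
    rw [← Nat.factorization_le_iff_dvd Nat.card_pos.ne' Nat.card_pos.ne']
    intro q
    by_cases hq : q.Prime
    · haveI : Fact q.Prime := ⟨hq⟩
      obtain ⟨S, hS⟩ := Coprime.exists_invariant_sylow hPN hcop (Or.inl hPs) q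
      have hle : (S : Subgroup N).map N.subtype ≤ N ⊓ centralizer (P : Set G) :=
        le_inf (map_subtype_le _)
          (le_centralizer_iff.1 (hall q _ hq (S.2.map _) (map_subtype_le _) hS))
      have h2 := card_dvd_of_le hle
      rw [card_map_of_injective N.subtype_injective, Sylow.card_eq_multiplicity] at h2
      exact (hq.pow_dvd_iff_le_factorization Nat.card_pos.ne').1 h2
    · simp [Nat.factorization_eq_zero_of_not_prime _ hq]
  intro x hx
  have := eq_of_le_of_card_ge (inf_le_left : N ⊓ centralizer (P : Set G) ≤ N)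
    (Nat.le_of_dvd Nat.card_pos hdvd)
  exact (this.ge hx).2

/-- Let G be a finite p-solvable group whose Sylow p-subgroup P meets each conjugate g P g⁻¹ with g outside N_G(P) trivially, and let χ be a faithful character of G (χ g = χ 1 only for g = 1) whose degree d satisfies d² ≤ |P|. Then P is normal in G. -/
theorem result {G : Type*} [Group G] [Finite G] (p : ℕ) [Fact p.Prime] (hsolv : Cfsg.IsPSolvable p G) (P : Sylow p G) (hTI : ∀ g : G, g ∉ Subgroup.normalizer ((P : Subgroup G) : Set G) → (P : Subgroup G) ⊓ (MulAut.conj g • (P : Subgroup G)) = ⊥) (χ : G → ℂ) (hχ : Cfsg.IsCharacter G χ) (hfaith : ∀ g : G, χ g = χ 1 → g = 1) (hdeg : Cfsg.charDegree χ ^ 2 ≤ Nat.card ↥(P : Subgroup G)) : (P : Subgroup G).Normal := by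
  by_contra hnn
  have hPne : (P : Subgroup G) ≠ ⊥ := fun h => hnn (h ▸ inferInstance)
  obtain ⟨g₀, hg₀⟩ : ∃ g : G, g ∉ normalizer ((P : Subgroup G) : Set G) := by
    by_contra! h
    exact hnn (normalizer_eq_top_iff.1 (eq_top_iff.2 fun g _ => h g))
  have hO : pCore p G = ⊥ := by
    refine le_bot_iff.1 fun x hx => hTI g₀ hg₀ ▸ mem_inf.2 ⟨PCore.pCore_le_sylow P hx, ?_⟩
    rw [Coprime.mem_conj_smul_iff]
    have h := (inferInstance : (pCore p G).Normal).conj_mem x hx g₀⁻¹
    rw [inv_inv] at h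
    exact PCore.pCore_le_sylow P h
  have hPN : (P : Subgroup G) ≤ normalizer ((pPrimeCore p G : Subgroup G) : Set G) := by
    rw [normalizer_eq_top]; exact le_top
  obtain ⟨k, hk⟩ := P.2.exists_card_eq
  have hcopN : (Nat.card (P : Subgroup G)).Coprime (Nat.card (pPrimeCore p G : Subgroup G)) := by
    rw [hk]; exact PCore.coprime_card_pPrimeCore.symm.pow_left k
  have hPs : Group.IsSolvable (P : Subgroup G) := by
    haveI := P.2.isNilpotent
    infer_instance
  obtain ⟨q, Q₀, hq, hQ₀q, hQ₀N, hQ₀n, hQ₀c⟩ := exists_sylow_not_centralized hPN hcopN hPs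
    fun h => hPne (sylow_eq_bot hsolv P hO h)
  haveI : Fact q.Prime := ⟨hq⟩
  obtain ⟨Q, ⟨hQ0, hQn, hQc⟩, hmin⟩ := (Set.toFinite
    {R : Subgroup G | R ≤ Q₀ ∧ (P : Subgroup G) ≤ normalizer (R : Set G) ∧
      ¬ (P : Subgroup G) ≤ centralizer (R : Set G)}).exists_minimal ⟨Q₀, le_rfl, hQ₀n, hQ₀c⟩
  have hcent : ∀ R : Subgroup G, R < Q → (P : Subgroup G) ≤ normalizer (R : Set G) →
      R ≤ centralizer ((P : Subgroup G) : Set G) := by
    intro R hR hn
    refine le_centralizer_iff.1 ?_
    by_contra hc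
    exact hR.not_ge (hmin ⟨hR.le.trans hQ0, hn, hc⟩ hR.le)
  have hcop : (Nat.card (P : Subgroup G)).Coprime (Nat.card Q) :=
    hcopN.coprime_dvd_right (card_dvd_of_le (hQ0.trans hQ₀N))
  have hQq : IsPGroup q Q := hQ₀q.to_le hQ0
  have hQs : Group.IsSolvable Q := by
    haveI := hQq.isNilpotent
    infer_instance
  have hQne : Q ≠ ⊥ := fun h => hQc (by
    rw [h]; exact fun a _ => mem_centralizer_iff.2 fun x hx => by
      rw [Subgroup.coe_bot, Set.mem_singleton_iff] at hx; simp [hx])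
  have hQP : ⁅Q, (P : Subgroup G)⁆ = Q := by
    refine (Coprime.commutator_le_left_of_le_normalizer hQn).eq_of_not_lt fun hlt => ?_
    refine hQc (Coprime.le_centralizer_of_commutator_le_centralizer hQn hcop (Or.inl hPs) ?_)
    exact le_centralizer_iff.1 (hcent _ hlt (normalizer_commutator_ge_right Q _))
  set D : Subgroup G := ⁅Q, Q⁆ with hD
  have hDQ : D < Q := by
    haveI := hQs
    haveI : Nontrivial Q := (nontrivial_iff_ne_bot Q).2 hQne
    have h := Group.IsSolvable.commutator_lt_top_of_nontrivial (G := Q)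
    have h2 := (map_lt_map_iff_of_injective Q.subtype_injective).2 h
    rw [commutator_def, map_commutator, ← MonoidHom.range_eq_map, range_subtype] at h2
    exact h2
  have hDC : D ≤ centralizer ((P : Subgroup G) : Set G) := hcent D hDQ fun a ha => by
    rw [hD]
    refine Coprime.mem_normalizer_of_conj_smul_eq ?_
    have h1 : MulAut.conj a • Q = Q := Coprime.conj_smul_eq_self_of_mem (hQn ha)
    show Subgroup.map (MulAut.conj a).toMonoidHom ⁅Q, Q⁆ = _
    rw [map_commutator]
    exact congrArg₂ (fun X Y => ⁅X, Y⁆) h1 h1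
  -- `X` centralises `Q` as soon as `P` centralises it and `[X, Q]`
  have hZQ : ∀ X : Subgroup G, X ≤ Q → X ≤ centralizer ((P : Subgroup G) : Set G) →
      ∀ x ∈ X, ∀ y ∈ Q, x * y = y * x := by
    intro X hXQ hXC x hx y hy
    have h1 : ⁅⁅(P : Subgroup G), X⁆, Q⁆ = ⊥ := by
      rw [Coprime.le_centralizer_iff_commutator_eq_bot.1 (le_centralizer_iff.1 hXC) |>
        (commutator_comm (P : Subgroup G) X).trans, commutator_bot_left]
    have h2 : ⁅⁅X, Q⁆, (P : Subgroup G)⁆ = ⊥ :=
      Coprime.le_centralizer_iff_commutator_eq_bot.1 (le_centralizer_iff.1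
        ((commutator_mono hXQ le_rfl).trans hDC))
    have h3 := commutator_commutator_eq_bot_of_rotate h1 h2
    rw [hQP] at h3
    exact (mem_centralizer_iff.1
      ((Coprime.le_centralizer_iff_commutator_eq_bot (A := X) (K := Q)).2 h3 hx) y hy).symm
  have hfix : ∀ z ∈ (P : Subgroup G), z ≠ 1 → ∀ c ∈ Q, z * c = c * z →
      c ∈ centralizer ((P : Subgroup G) : Set G) := by
    intro z hz hz1 c hc hzc
    have hcn : c ∈ normalizer ((P : Subgroup G) : Set G) := by
      by_contra hcn
      refine hz1 (mem_bot.1 (hTI c hcn ▸ mem_inf.2 ⟨hz, ?_⟩))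
      rw [Coprime.mem_conj_smul_iff, show c⁻¹ * z * c = z by rw [mul_assoc, hzc, inv_mul_cancel_left]]
      exact hz
    refine mem_centralizer_iff.2 fun a ha => ?_
    have h1 : c * a * c⁻¹ * a⁻¹ ∈ (P : Subgroup G) :=
      mul_mem ((mem_normalizer_iff.1 hcn a).1 ha) (inv_mem ha)
    have h2 : c * a * c⁻¹ * a⁻¹ ∈ Q := by
      rw [show c * a * c⁻¹ * a⁻¹ = c * (a * c⁻¹ * a⁻¹) by group]
      exact mul_mem hc ((mem_normalizer_iff.1 (hQn ha) _).1 (inv_mem hc))
    have h3 : c * a * c⁻¹ * a⁻¹ = 1 :=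
      mem_bot.1 (Coprime.disjoint_of_coprime_card hcop ▸ mem_inf.2 ⟨h1, h2⟩)
    rw [mul_inv_eq_one, mul_inv_eq_iff_eq_mul] at h3
    exact h3.symm
  obtain ⟨d, hd⟩ := Char.IsCharacter.apply_one hχ
  have hlt := card_lt_sq hQn hcop hQs hPne hQne hfix
    (fun c hc hcP => hZQ (Q ⊓ centralizer ((P : Subgroup G) : Set G)) inf_le_left inf_le_right c
      ⟨hc, hcP⟩)
    (fun x hx y hy w hw => hZQ D hDQ.le hDC _ (by
      rw [hD]; exact commutator_mem_commutator hy hx) w hw)
    (fun hab c hc hcP => by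
      haveI : IsMulCommutative Q := ⟨⟨fun a b => Subtype.ext (hab a a.2 b b.2)⟩⟩
      have h := Coprime.inf_centralizer_inf_commutator_eq_bot hQn hcop
      rw [hQP] at h
      exact mem_bot.1 (h ▸ mem_inf.2 ⟨⟨hc, hcP⟩, hc⟩))
    χ hχ hfaith hd
  have : Cfsg.charDegree χ = d := by simp [charDegree, hd]
  rw [this] at hdeg
  omega

end Cfsg.Agent.S4748
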