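import Cfsg.Statements.S4750
import Cfsg.Agent.Lib.Char.ModularTrace
import Cfsg.Agent.Lib.Char.Induction

set_option autoImplicit false
open scoped Pointwise
open Cfsg

namespace Cfsg.Agent.S4750

/-- Let P be a Sylow p-subgroup of the finite group G that meets each conjugate g P g⁻¹ with g outside N_G(P) trivially, χ a character of G with χ(1)² ≤ |P|, and H a subgroup of G containing N_G(P). Then the inner product of χ with itself over G equals the inner product over H of the restriction of χ to H. -/
theorem result {G : Type*} [Group G] [Fintype G] [DecidableEq G] (p : ℕ) [Fact p.Prime] (P : Sylow p G) (hTI : ∀ g : G, g ∉ Subgroup.normalizer ((P : Subgroup G) : Set G) → (P : Subgroup G) ⊓ (MulAut.conj g • (P : Subgroup G)) = ⊥) (χ : G → ℂ) (hχ : Cfsg.IsCharacter G χ) (hdeg : Cfsg.charDegree χ ^ 2 ≤ Nat.card ↥(P : Subgroup G)) (H : Subgroup G) [Fintype ↥H] (hH : Subgroup.normalizer ((P : Subgroup G) : Set G) ≤ H) : Cfsg.classInner χ χ = Cfsg.classInner (fun h : ↥H => χ h) (fun h : ↥H => χ h) := by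
  classical
  haveI : Fintype ↥(P : Subgroup G) := Fintype.ofFinite _
  rcases eq_or_ne χ 0 with rfl | hχ0
  · simp [classInner]
  set ψ : G → ℂ := χ * fun g => (starRingEnd ℂ) (χ g) with hψdef
  have hψ : IsCharacter G ψ := Agent.Char.IsCharacter.mul hχ (Agent.Char.IsCharacter.conj hχ)
  obtain ⟨m, hm, hm'⟩ := Agent.Char.IsCharacter.exists_decomp hψ
  have h1 : classInner χ χ = classInner ψ (Agent.Char.trivialChar G).1 := by
    simp [classInner, hψdef, Agent.Char.trivialChar]
  have htriv : 1 ≤ m (Agent.Char.trivialChar G) := by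
    rw [Nat.one_le_iff_ne_zero]
    intro h0
    refine hχ0 (Agent.Char.classInner_self_eq_zero ?_)
    have h2 := hm' (Agent.Char.trivialChar G)
    rw [h0, Nat.cast_zero] at h2
    rw [← h2]
    simp [classInner, hψdef, Agent.Char.trivialChar]
  obtain ⟨d, hd⟩ := Agent.Char.IsCharacter.apply_one hχ
  have hdd : charDegree χ = d := by simp [charDegree, hd]
  rw [hdd] at hdeg
  have hsum : ∑ φ : IrrCharacter G, m φ * Agent.Char.degree φ = d ^ 2 := by
    have h2 := congrFun hm 1
    simp only [hψdef, Pi.mul_apply, hd, map_natCast, Finset.sum_apply, Pi.smul_apply, smul_eq_mul,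
      Agent.Char.apply_one_eq_degree] at h2
    rw [pow_two]
    exact_mod_cast h2.symm
  have hzero : ∀ φ : IrrCharacter G, φ ≠ Agent.Char.trivialChar G → m φ ≠ 0 →
      classInner (fun h : H => φ.1 h) (fun _ => 1) = 0 := by
    intro φ hne hmφ
    have hlt : Agent.Char.degree φ < Nat.card ↥(P : Subgroup G) := by
      have h2 : m (Agent.Char.trivialChar G) * Agent.Char.degree (Agent.Char.trivialChar G) +
          m φ * Agent.Char.degree φ ≤ d ^ 2 := by
        rw [← hsum]
        exact Finset.add_le_sum (f := fun ψ => m ψ * Agent.Char.degree ψ)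
          (fun _ _ => Nat.zero_le _) (Finset.mem_univ _) (Finset.mem_univ _) (Ne.symm hne)
      have h3 := Nat.mul_pos htriv (Agent.Char.degree_pos (Agent.Char.trivialChar G))
      have h4 := Nat.le_mul_of_pos_left (Agent.Char.degree φ) (Nat.pos_of_ne_zero hmφ)
      omega
    obtain ⟨n, ρ, hρ, hρχ⟩ := φ.2
    haveI := hρ
    have hn : n = Agent.Char.degree φ := by
      have h2 := congrFun hρχ 1
      rw [Representation.char_one, Module.finrank_fin_fun, Agent.Char.apply_one_eq_degree] at h2
      exact_mod_cast h2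
    let M : G →* Matrix (Fin n) (Fin n) ℂ :=
      LinearMap.toMatrixAlgEquiv'.toAlgHom.toMonoidHom.comp ρ
    have hM : ∀ g v, Matrix.mulVec (M g) v = ρ g v := fun g v => by
      show Matrix.mulVec (LinearMap.toMatrix' (ρ g)) v = ρ g v
      rw [LinearMap.toMatrix'_mulVec]
    have hopG : Agent.Char.opSum (fun _ => (1 : ℂ)) ρ = 0 := by
      obtain ⟨a, ha⟩ := Agent.Char.exists_opSum_eq_smul (c := fun _ : G => (1 : ℂ))
        (fun _ _ => rfl) ρ
      have h2 : Agent.Char.opSum (fun _ => (1 : ℂ)) ρ = a • LinearMap.id := LinearMap.ext ha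
      have h3 := Agent.Char.trace_opSum (fun _ => (1 : ℂ)) ρ
      rw [h2, map_smul, LinearMap.trace_id, smul_eq_mul, hρχ] at h3
      have h4 : classInner φ.1 (Agent.Char.trivialChar G).1 = 0 :=
        Agent.Char.classInner_irr_of_ne φ.2 (Agent.Char.trivialChar G).2
          fun h => hne (Subtype.ext h)
      simp only [classInner, Agent.Char.trivialChar, map_one, mul_one, mul_eq_zero, inv_eq_zero,
        Nat.cast_eq_zero, Nat.card_pos.ne', false_or] at h4
      simp only [one_mul, h4, mul_eq_zero, Nat.cast_eq_zero, Module.finrank_fin_fun] at h3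
      rcases h3 with h3 | h3
      · rw [h2, h3, zero_smul]
      · exact absurd h3 (hn ▸ (Agent.Char.degree_pos φ).ne')
    have hsum0 : ∑ g : G, M g = 0 := by
      refine Matrix.ext_iff_mulVec.2 fun v => ?_
      rw [Matrix.sum_mulVec, Matrix.zero_mulVec, Finset.sum_congr rfl fun g _ => hM g v]
      simpa [Agent.Char.opSum] using LinearMap.congr_fun hopG v
    have hT : (∑ h : H, ρ h) = 0 := by
      refine LinearMap.ext fun v => ?_
      refine Agent.Char.ModularTrace.eq_zero_of_fixed P hTI H hH M (hn ▸ hlt) hsum0 _ fun k hk => ?_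
      rw [hM]
      simp only [LinearMap.coe_sum, Finset.sum_apply, map_sum]
      exact Fintype.sum_equiv (Equiv.mulLeft (⟨k, hk⟩ : H)) _ _ fun h => by
        show (ρ k * ρ h) v = _
        rw [← map_mul]
        rfl
    have h5 : LinearMap.trace ℂ _ (∑ h : H, ρ h) = ∑ h : H, φ.1 h := by
      rw [map_sum, ← hρχ]; rfl
    rw [hT, map_zero] at h5
    simp [classInner, ← h5]
  have h2 : classInner (fun h : H => χ h) (fun h : H => χ h) =
      classInner (fun h : H => ψ h) (fun _ => 1) := by simp [classInner, hψdef]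
  have h3 : (fun h : H => ψ h) = ∑ φ, (m φ : ℂ) • fun h : H => φ.1 h := by
    funext h
    rw [congrFun hm (h : G)]
    simp
  have h4 : classInner (fun h : H => (Agent.Char.trivialChar G).1 h) (fun _ => 1) = 1 :=
    Agent.Char.classInner_irr_self (Agent.Char.trivialChar H).2
  rw [h1, hm', h2, h3, Agent.Char.classInner_sum_left, Finset.sum_eq_single
    (Agent.Char.trivialChar G)]
  · rw [Agent.Char.classInner_smul_left, h4, mul_one]
  · intro φ _ hne
    rw [Agent.Char.classInner_smul_left]
    rcases eq_or_ne (m φ) 0 with h | h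
    · rw [h, Nat.cast_zero, zero_mul]
    · rw [hzero φ hne h, mul_zero]
  · exact fun h => absurd (Finset.mem_univ _) h

end Cfsg.Agent.S4750
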