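import Cfsg.Statements.S4751
import Cfsg.Agent.Lib.Char.TwoDegrees
import Cfsg.Agent.Lib.Char.Ito
import Cfsg.Agent.Lib.Char.PRegular
import Cfsg.Agent.Lib.CharInt.Basic
import Cfsg.Agent.Lib.LocalStructure.Basic

set_option autoImplicit false
open Cfsg
open scoped Classical ComplexConjugate IsMulCommutative commutatorElement
open Cfsg.Agent Cfsg.Agent.Char

set_option linter.style.haveILetI false

namespace Cfsg.Agent.S4751

universe u

variable {G : Type u} [Group G] [Fintype G]

/-- A character with root of unity values on the `p`-singular elements has norm one there. -/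
lemma mul_conj_eq_one {p : ℕ} (χ : IrrCharacter G)
    (hroot : ∀ g : G, p ∣ orderOf g → ∃ n : ℕ, 0 < n ∧ (χ.1 g) ^ n = 1) {g : G}
    (hg : p ∣ orderOf g) : χ.1 g * conj (χ.1 g) = 1 := by
  obtain ⟨n, hn, h⟩ := hroot g hg
  rw [Complex.mul_conj, Complex.normSq_eq_norm_sq, Complex.norm_eq_one_of_pow_eq_one h hn.ne']
  norm_num

lemma prime_dvd_orderOf {p : ℕ} [Fact p.Prime] {N : Subgroup G} (hN : IsPGroup p N) {x : G}
    (hx : x ∈ N) (hx1 : x ≠ 1) : p ∣ orderOf x := by
  obtain ⟨k, hk⟩ := (IsPGroup.iff_orderOf (p := p)).1 hN ⟨x, hx⟩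
  rw [Subgroup.orderOf_mk] at hk
  rcases k with _ | k
  · exact absurd (orderOf_eq_one_iff.1 hk) hx1
  · exact hk ▸ dvd_pow_self p k.succ_ne_zero

lemma sum_mul_conj_eq (N : Subgroup G) [Fintype N] (f : N → ℂ)
    (h : ∀ n : N, n ≠ 1 → f n * conj (f n) = 1) :
    (Nat.card N : ℂ) * classInner f f = f 1 * conj (f 1) + ((Nat.card N : ℂ) - 1) := by
  rw [classInner, ← mul_assoc, mul_inv_cancel₀ card_ne_zero, one_mul,
    ← Finset.add_sum_erase _ _ (Finset.mem_univ (1 : N))]
  refine congrArg (f 1 * conj (f 1) + ·) ?_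
  rw [Finset.sum_congr rfl fun n hn => h n (Finset.ne_of_mem_erase hn), Finset.sum_const, nsmul_one,
    Finset.card_erase_of_mem (Finset.mem_univ _), Finset.card_univ, ← Nat.card_eq_fintype_card,
    Nat.cast_sub Nat.card_pos, Nat.cast_one]

/-- The data forced by the hypothesis. -/
structure Data (p : ℕ) (P : Subgroup G) [P.Normal] [Fintype P] (χ : IrrCharacter G) where
  comm : ∀ a ∈ P, ∀ b ∈ P, a * b = b * a
  θ : IrrCharacter P
  I : Subgroup G
  hPI : P ≤ I
  lam : I →* ℂ
  hI : ∀ g, g ∈ I ↔ conjFun P θ.1 g = θ.1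
  hlam : ∀ n : P, lam ⟨n, hPI n.2⟩ = θ.1 n
  hind : ∀ g, χ.1 g = (Nat.card I : ℂ)⁻¹ * ∑ x : G, extendByZero I lam (x⁻¹ * g * x)
  hθ : θ ≠ trivialChar P
  hdeg : degree χ = Nat.card P - 1
  hres : ∀ n : P, χ.1 n = ∑ η ∈ Finset.univ.erase (trivialChar P), η.1 n
  htrans : ∀ η : IrrCharacter P, η ≠ trivialChar P → ∃ g, η.1 = conjFun P θ.1 g

lemma exists_data (p : ℕ) [Fact p.Prime] (P : Subgroup G) [P.Normal] [Fintype P] (hPp : IsPGroup p P)
    (hP1 : P ≠ ⊥) (χ : IrrCharacter G) (hfaith : ∀ g, χ.1 g = χ.1 1 → g = 1) (hnl : χ.1 1 ≠ 1)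
    (hroot : ∀ g : G, p ∣ orderOf g → ∃ n : ℕ, 0 < n ∧ (χ.1 g) ^ n = 1) :
    Nonempty (Data p P χ) := by
  obtain ⟨θ, hθ⟩ := exists_constituent P χ
  obtain ⟨k, hk⟩ := IsCharacter.exists_nat_classInner
    (IsCharacter.restrict (irr_isCharacter χ) P) (irr_isCharacter θ)
  have hk' : classInner (resFun P χ.1) θ.1 = (k : ℂ) := hk
  have hcl := resFun_eq_smul_orbitSum P χ θ hθ
  rw [hk'] at hcl
  set S := orbitFinset P θ
  have hk0 : k ≠ 0 := fun h => hθ (by rw [hk', h, Nat.cast_zero])
  -- the norm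
  have hnorm : classInner (resFun P χ.1) (resFun P χ.1) = (k : ℂ) * k * S.card := by
    nth_rw 2 [hcl]
    rw [classInner_smul_right, map_natCast, orbitSum, classInner_sum_right, Finset.sum_congr rfl
      fun η hη => ?_, Finset.sum_const, nsmul_eq_mul]
    · ring
    · obtain ⟨g, rfl⟩ := (mem_orbitFinset P).1 hη
      rw [conjChar_coe, classInner_resFun_conjFun P (IsCharacter.isClassFunction (irr_isCharacter χ)),
        hk']
  have hd : χ.1 1 = (k : ℂ) * (S.card * θ.1 1) := by
    rw [← hk']; exact apply_one_eq_mul_card_orbit P χ θ hθ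
  have heq := sum_mul_conj_eq P (resFun P χ.1) fun n hn => mul_conj_eq_one χ hroot
    (prime_dvd_orderOf hPp n.2 (fun h => hn (Subtype.ext h)))
  rw [hnorm, resFun_apply, Subgroup.coe_one, apply_one_eq_degree, map_natCast] at heq
  rw [apply_one_eq_degree, apply_one_eq_degree] at hd
  have hd' : degree χ = k * (S.card * degree θ) := by exact_mod_cast hd
  have heq' : Nat.card P * (k * k * S.card) + 1 = degree χ * degree χ + Nat.card P := by
    have : ((Nat.card P * (k * k * S.card) + 1 : ℕ) : ℂ) = ((degree χ * degree χ + Nat.card P : ℕ) : ℂ) := by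
      push_cast; linear_combination heq
    exact_mod_cast this
  obtain ⟨e, he⟩ := hPp.exists_card_eq
  have he0 : e ≠ 0 := fun h => hP1 (Subgroup.card_eq_one.1 (by rw [he, h, pow_zero]))
  have hpP : p ∣ Nat.card P := he ▸ dvd_pow_self p he0
  -- the constituent is linear
  have ha : degree θ = 1 := by
    obtain ⟨j, -, hj⟩ := (Nat.dvd_prime_pow Fact.out).1 (he ▸ degree_dvd_natCard θ)
    rcases j with _ | j
    · simpa using hj
    · exfalso
      have h1 : p ∣ degree χ := hd' ▸ ((hj ▸ dvd_pow_self p j.succ_ne_zero : p ∣ degree θ).mul_left _).mul_left _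
      have h2 : p ∣ Nat.card P * (k * k * S.card) + 1 := heq' ▸ dvd_add (h1.mul_left _) hpP
      exact (Fact.out : p.Prime).not_dvd_one ((Nat.dvd_add_right (hpP.mul_right _)).1 h2)
  have hS1 : ∀ η ∈ S, η.1 1 = 1 := by
    intro η hη
    obtain ⟨g, rfl⟩ := (mem_orbitFinset P).1 hη
    rw [conjChar_coe, conjFun_apply_one, apply_one_eq_degree, ha, Nat.cast_one]
  have hlin : ∀ η ∈ S, ∃ l : P →* ℂ, ⇑l = η.1 := fun η hη =>
    IsCharacter.exists_monoidHom (irr_isCharacter η) (hS1 η hη)
  have hres' : ∀ n : P, χ.1 n = (k : ℂ) * ∑ η ∈ S, η.1 n := fun n => by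
    have := congrFun hcl n
    rwa [resFun_apply, Pi.smul_apply, orbitSum, Finset.sum_apply, smul_eq_mul] at this
  have hker : ∀ n : P, (∀ η ∈ S, η.1 n = 1) → n = 1 := fun n hn => Subtype.ext (hfaith n (by
    rw [hres', show χ.1 1 = χ.1 ((1 : P) : G) from rfl, hres', Finset.sum_congr rfl hn,
      Finset.sum_congr rfl hS1]))
  have hab : ∀ a b : P, a * b = b * a := fun a b => by
    have h := hker (a * b * a⁻¹ * b⁻¹) fun η hη => by
      obtain ⟨l, hl⟩ := hlin η hη
      rw [← hl, map_mul, map_mul, map_mul,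
        show l a * l b * l a⁻¹ * l b⁻¹ = (l a * l a⁻¹) * (l b * l b⁻¹) by ring, ← map_mul, ← map_mul,
        mul_inv_cancel, mul_inv_cancel, map_one, mul_one]
    exact commutatorElement_eq_one_iff_commute.1 h
  have hall : ∀ η : IrrCharacter P, degree η = 1 := fun η =>
    degree_eq_of_apply_one (by rw [apply_one_of_comm hab η, Nat.cast_one])
  have hcard : Fintype.card (IrrCharacter P) = Nat.card P := by
    rw [← sum_degree_sq (G := P), Finset.sum_congr rfl fun η _ => by rw [hall η, one_pow],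
      Finset.sum_const, smul_eq_mul, mul_one, Finset.card_univ]
  have htriv : trivialChar P ∉ S := fun h => by
    obtain ⟨g, hg⟩ := (mem_orbitFinset P).1 h
    refine hP1 ((Subgroup.eq_bot_iff_forall _).2 fun x hx => ?_)
    refine congrArg Subtype.val (hker ⟨x, hx⟩ fun η hη => ?_)
    obtain ⟨g', rfl⟩ := (mem_orbitFinset P).1 hη
    have hθ1 : ∀ n, θ.1 n = 1 := fun n => by
      have := congrFun (congrArg Subtype.val hg) ((MulAut.conjNormal g).symm n)
      simp only [trivialChar_apply, conjChar_coe, conjFun, MulEquiv.apply_symm_apply] at this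
      exact this.symm
    exact hθ1 _
  have hsub : S ⊆ Finset.univ.erase (trivialChar P) := fun η hη =>
    Finset.mem_erase.2 ⟨fun h => htriv (h ▸ hη), Finset.mem_univ _⟩
  have herase : (Finset.univ.erase (trivialChar P)).card = Nat.card P - 1 := by
    rw [Finset.card_erase_of_mem (Finset.mem_univ _), Finset.card_univ, hcard]
  have htpos : 0 < S.card := Finset.card_pos.2 ⟨θ, (mem_orbitFinset P).2 ⟨1, Subtype.ext (by simp)⟩⟩
  have htle : S.card + 1 ≤ Nat.card P := by
    have h1 := Finset.card_le_card hsub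
    have h2 := Nat.card_pos (α := P)
    rw [herase] at h1; omega
  rw [ha, mul_one] at hd'
  rw [hd'] at heq'
  obtain ⟨r, hr⟩ := Nat.exists_eq_add_of_le htle
  have hst : k = 1 ∧ (S.card = 1 ∨ r = 0) := by
    rw [hr] at heq'
    obtain ⟨s, hs⟩ := Nat.exists_eq_add_of_le htpos
    rw [hs] at heq'
    have h1 : k * k * (1 + s) * (1 + r) = 1 + s + r := by nlinarith
    have h2 : 1 ≤ k * k := Nat.mul_pos (Nat.pos_of_ne_zero hk0) (Nat.pos_of_ne_zero hk0)
    have h4 : k * k = 1 := by
      rcases h2.lt_or_eq with h | h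
      · have h3 := Nat.mul_le_mul_right ((1 + s) * (1 + r)) (show 2 ≤ k * k from h)
        nlinarith
      · exact h.symm
    rw [h4, one_mul] at h1
    have : s * r = 0 := by nlinarith
    refine ⟨Nat.eq_one_of_mul_eq_one_right h4, ?_⟩
    rcases Nat.mul_eq_zero.1 this with h | h
    · exact Or.inl (by omega)
    · exact Or.inr h
  obtain ⟨hk1, ht⟩ := hst
  rw [hk1, one_mul] at hd'
  have hr0 : r = 0 := ht.resolve_left fun h => hnl (by rw [apply_one_eq_degree, hd', h, Nat.cast_one])
  have hSeq : S = Finset.univ.erase (trivialChar P) :=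
    Finset.eq_of_subset_of_card_le hsub (by rw [herase]; omega)
  haveI : Fintype (inertia P θ.1) := Fintype.ofFinite _
  obtain ⟨ψ, e', -, hψ, hind⟩ := exists_inertia_character P χ θ hθ
  have hψ1 : ψ.1 1 = 1 := by
    have h := congrFun hind 1
    rw [indFun_apply_one, index_inertia, apply_one_eq_degree, apply_one_eq_degree, hd',
      ← Nat.cast_mul, Nat.cast_inj] at h
    rw [apply_one_eq_degree, (Nat.mul_eq_left htpos.ne').1 h, Nat.cast_one]
  obtain ⟨l, hl⟩ := IsCharacter.exists_monoidHom (irr_isCharacter ψ) hψ1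
  have he' : (e' : ℂ) = 1 := by
    have h := hψ 1
    rw [apply_one_eq_degree, ha, Nat.cast_one, mul_one] at h
    rw [← h, ← hψ1]; rfl
  exact ⟨{
    comm := fun a ha b hb => congrArg Subtype.val (hab ⟨a, ha⟩ ⟨b, hb⟩)
    θ := θ
    I := inertia P θ.1
    hPI := irr_le_inertia P θ
    lam := l
    hI := fun g => mem_inertia P
    hlam := fun n => by rw [hl, hψ n, he', one_mul]
    hind := fun g => by rw [← hind, hl]; rfl
    hθ := fun h => htriv (h ▸ (mem_orbitFinset P).2 ⟨1, Subtype.ext (by simp)⟩)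
    hdeg := by omega
    hres := fun n => by rw [hres', hk1, Nat.cast_one, one_mul, hSeq]
    htrans := fun η hη => by
      have : η ∈ S := hSeq ▸ Finset.mem_erase.2 ⟨hη, Finset.mem_univ _⟩
      obtain ⟨g, rfl⟩ := (mem_orbitFinset P).1 this
      exact ⟨g, rfl⟩ }⟩

variable {p : ℕ} {P : Subgroup G} [P.Normal] [Fintype P] {χ : IrrCharacter G}

/-- The basic identity. -/
lemma Data.count (D : Data p P χ)
    (hroot : ∀ g : G, p ∣ orderOf g → ∃ n : ℕ, 0 < n ∧ (χ.1 g) ^ n = 1) (y : G)
    (hy : ∀ n : P, n ≠ 1 → p ∣ orderOf ((n : G) * y)) :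
    χ.1 y * conj (χ.1 y) + ((Nat.card P : ℂ) - 1) = (Nat.card P : ℂ) *
      ((Finset.univ.erase (trivialChar P)).filter fun η => conjFun P η.1 y = η.1).card := by
  set f : P → ℂ := fun n => χ.1 ((n : G) * y) with hf
  have hfc : IsClassFunction P f := fun a b => by
    rw [show b * a * b⁻¹ = a by
      rw [show b * a = a * b from Subtype.ext (D.comm b b.2 a a.2), mul_inv_cancel_right]]
  have h := sum_mul_conj_eq P f fun n hn => mul_conj_eq_one χ hroot (hy n hn)
  rw [show f 1 = χ.1 y by simp [hf]] at h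
  rw [← h]
  congr 1
  have hext : ∀ (n : P) (x : G), extendByZero D.I D.lam (x⁻¹ * ((n : G) * y) * x) =
      (conjChar P D.θ x⁻¹).1 n * extendByZero D.I D.lam (x⁻¹ * y * x) := by
    intro n x
    have hn : x⁻¹ * (n : G) * x ∈ P := by simpa using ‹P.Normal›.conj_mem _ n.2 x⁻¹
    rw [show x⁻¹ * ((n : G) * y) * x = (x⁻¹ * (n : G) * x) * (x⁻¹ * y * x) by group]
    by_cases hx : x⁻¹ * y * x ∈ D.I
    · have e1 : extendByZero D.I D.lam (x⁻¹ * y * x) = D.lam ⟨_, hx⟩ :=
        extendByZero_coe D.I D.lam ⟨_, hx⟩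
      rw [e1, show x⁻¹ * (n : G) * x * (x⁻¹ * y * x) =
        (((⟨_, D.hPI hn⟩ : D.I) * ⟨_, hx⟩ : D.I) : G) from rfl, extendByZero_coe, map_mul,
        D.hlam ⟨_, hn⟩, conjChar_coe]
      refine congrArg (· * _) (congrArg D.θ.1 (Subtype.ext ?_))
      simp [mul_assoc]
    · rw [extendByZero_of_notMem _ _ hx, extendByZero_of_notMem _ _
        (fun h' => hx ((Subgroup.mul_mem_cancel_left _ (D.hPI hn)).1 h')), mul_zero]
  have hfexp : f = (Nat.card D.I : ℂ)⁻¹ • ∑ x : G,
      extendByZero D.I D.lam (x⁻¹ * y * x) • (conjChar P D.θ x⁻¹).1 := by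
    funext n
    simp only [hf, D.hind, hext, Pi.smul_apply, Finset.sum_apply, smul_eq_mul]
    exact congrArg _ (Finset.sum_congr rfl fun x _ => mul_comm _ _)
  have hcoef : ∀ η : IrrCharacter P, classInner f η.1 = (Nat.card D.I : ℂ)⁻¹ *
      ∑ x ∈ Finset.univ.filter (fun x : G => conjChar P D.θ x⁻¹ = η),
        extendByZero D.I D.lam (x⁻¹ * y * x) := by
    intro η
    rw [hfexp, classInner_smul_left, classInner_sum_left, Finset.sum_filter]
    refine congrArg _ (Finset.sum_congr rfl fun x _ => ?_)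
    rw [classInner_smul_left, classInner_irr]
    split_ifs <;> simp
  have hconj : ∀ (i : D.I) (w : G), extendByZero D.I D.lam ((i : G) * w * (i : G)⁻¹) =
      extendByZero D.I D.lam w := by
    intro i w
    by_cases hw : w ∈ D.I
    · rw [show (i : G) * w * (i : G)⁻¹ = ((i * ⟨w, hw⟩ * i⁻¹ : D.I) : G) from rfl, extendByZero_coe,
        map_mul, map_mul, mul_right_comm, ← map_mul, mul_inv_cancel, map_one, one_mul]
      exact (extendByZero_coe D.I D.lam ⟨w, hw⟩).symm
    · rw [extendByZero_of_notMem _ _ hw, extendByZero_of_notMem _ _ fun h' => hw ?_]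
      have := D.I.mul_mem (D.I.mul_mem (D.I.inv_mem i.2) h') i.2
      simpa [mul_assoc] using this
  have hsq : ∀ η : IrrCharacter P, classInner f η.1 * classInner η.1 f =
      if η ≠ trivialChar P ∧ conjFun P η.1 y = η.1 then 1 else 0 := by
    intro η
    by_cases hη : η = trivialChar P
    · rw [if_neg fun h => h.1 hη, hcoef, Finset.sum_eq_zero fun x hx => absurd ?_ D.hθ, mul_zero,
        zero_mul]
      have hx' := congrArg Subtype.val ((Finset.mem_filter.1 hx).2.trans hη)
      refine Subtype.ext (funext fun n => ?_)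
      have h2 := congrFun hx' ((MulAut.conjNormal x⁻¹).symm n)
      simpa [conjFun, trivialChar] using h2
    obtain ⟨g, hg⟩ := D.htrans η hη
    have hmem : ∀ x : G, conjChar P D.θ x⁻¹ = η ↔ x⁻¹ * g⁻¹ ∈ D.I := by
      intro x
      rw [Subtype.ext_iff, conjChar_coe, hg, D.hI, conjFun_mul]
      constructor
      · intro h'
        rw [h', ← conjFun_mul, mul_inv_cancel, conjFun_one]
      · intro h'
        calc conjFun P D.θ.1 x⁻¹ = conjFun P (conjFun P (conjFun P D.θ.1 x⁻¹) g⁻¹) g := by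
              rw [← conjFun_mul, ← conjFun_mul, inv_mul_cancel, mul_one]
          _ = _ := by rw [h']
    have hval : classInner f η.1 = extendByZero D.I D.lam (g * y * g⁻¹) := by
      rw [hcoef, Finset.sum_congr rfl (g := fun _ => extendByZero D.I D.lam (g * y * g⁻¹))
        fun x hx => ?_, Finset.sum_const, nsmul_eq_mul]
      · rw [← mul_assoc, show (Finset.univ.filter fun x : G => conjChar P D.θ x⁻¹ = η).card =
            Nat.card D.I from ?_, inv_mul_cancel₀ card_ne_zero, one_mul]
        rw [Nat.card_eq_fintype_card, ← Finset.card_univ]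
        refine Finset.card_bij' (fun x hx => (⟨x⁻¹ * g⁻¹, (hmem x).1 (Finset.mem_filter.1 hx).2⟩ : D.I))
          (fun i _ => ((i : G) * g)⁻¹) (fun _ _ => Finset.mem_univ _)
          (fun i _ => Finset.mem_filter.2 ⟨Finset.mem_univ _, (hmem _).2 (by simp)⟩)
          (fun x _ => by simp) (fun i _ => Subtype.ext (by simp))
      · have h' := (hmem x).1 (Finset.mem_filter.1 hx).2
        rw [← hconj ⟨_, h'⟩ (g * y * g⁻¹)]
        exact congrArg _ (by simp [mul_assoc])
    have hfix : conjFun P η.1 y = η.1 ↔ g * y * g⁻¹ ∈ D.I := by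
      rw [D.hI, hg, ← conjFun_mul, show g * y * g⁻¹ = (g * y) * g⁻¹ from rfl,
        conjFun_mul P D.θ.1 (g * y) g⁻¹]
      constructor
      · intro h'; rw [h', ← conjFun_mul, mul_inv_cancel, conjFun_one]
      · intro h'
        calc conjFun P D.θ.1 (g * y) = conjFun P (conjFun P (conjFun P D.θ.1 (g * y)) g⁻¹) g := by
              rw [← conjFun_mul, ← conjFun_mul, inv_mul_cancel, mul_one]
          _ = _ := by rw [h']
    rw [← conj_classInner f η.1, hval]
    by_cases hgy : g * y * g⁻¹ ∈ D.I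
    · rw [if_pos ⟨hη, hfix.2 hgy⟩, show g * y * g⁻¹ = ((⟨_, hgy⟩ : D.I) : G) from rfl, extendByZero_coe]
      exact normSq_linear D.lam _
    · rw [if_neg fun h' => hgy (hfix.1 h'.2), extendByZero_of_notMem _ _ hgy, zero_mul]
  rw [classInner_eq_sum hfc, Finset.sum_congr rfl fun η _ => hsq η, Finset.sum_boole]
  congr 1
  congr 1
  ext η; simp [and_comm]

/-- A nontrivial normal subgroup inside `P` is `P`. -/
lemma Data.normal_le (D : Data p P χ) (hfaith : ∀ g, χ.1 g = χ.1 1 → g = 1) (M : Subgroup G)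
    [M.Normal] (hMP : M ≤ P) (hM : M ≠ ⊥) : M = P := by
  refine le_antisymm hMP fun x hx => by_contra fun hxM => hM ?_
  haveI : IsMulCommutative P := ⟨⟨fun a b => Subtype.ext (D.comm a a.2 b b.2)⟩⟩
  haveI : (M.subgroupOf P).Normal := Subgroup.normal_subgroupOf
  letI : CommGroup (P ⧸ M.subgroupOf P) := QuotientGroup.Quotient.commGroup _
  have hne : ((⟨x, hx⟩ : P) : P ⧸ M.subgroupOf P) ≠ 1 := fun h => hxM (Subgroup.mem_subgroupOf.1 ((QuotientGroup.eq_one_iff (N := M.subgroupOf P) (⟨x, hx⟩ : P)).1 h))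
  obtain ⟨φ, hφ⟩ := CommGroup.exists_apply_ne_one_of_hasEnoughRootsOfUnity _ ℂ hne
  let l : P →* ℂ := ((Units.coeHom ℂ).comp φ).comp (QuotientGroup.mk' _)
  let μ : IrrCharacter P := ⟨l, isIrrCharacter_of_monoidHom l⟩
  have hμ : μ ≠ trivialChar P := fun h => hφ (Units.ext (by
    have := congrFun (congrArg Subtype.val h) ⟨x, hx⟩
    simpa [μ, l, trivialChar] using this))
  obtain ⟨g, hg⟩ := D.htrans μ hμ
  refine (Subgroup.eq_bot_iff_forall _).2 fun m hm => hfaith m ?_
  have hm1 : ∀ η ∈ Finset.univ.erase (trivialChar P), η.1 (⟨m, hMP hm⟩ : P) = η.1 1 := by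
    intro η hη
    obtain ⟨g', hg'⟩ := D.htrans η (Finset.ne_of_mem_erase hη)
    have h1 : ∀ k : G, conjFun P μ.1 k (⟨m, hMP hm⟩ : P) = 1 := fun k => by
      show l _ = 1
      have : ((MulAut.conjNormal k (⟨m, hMP hm⟩ : P)) : P ⧸ M.subgroupOf P) = 1 :=
        (QuotientGroup.eq_one_iff _).2 (by
          rw [Subgroup.mem_subgroupOf]; simpa using ‹M.Normal›.conj_mem m hm k)
      simp [l, this]
    have h2 : η.1 = conjFun P μ.1 (g⁻¹ * g') := by
      rw [hg', hg, ← conjFun_mul, mul_inv_cancel_left]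
    rw [h2, h1, conjFun_apply_one]
    show (1 : ℂ) = l 1
    rw [map_one]
  rw [show χ.1 m = χ.1 ((⟨m, hMP hm⟩ : P) : G) from rfl, D.hres, Finset.sum_congr rfl hm1,
    ← D.hres 1, Subgroup.coe_one]

/-- The four-group case. -/
lemma four_case (D : Data 2 P χ) (hPp : IsPGroup 2 P) (hP1 : P ≠ ⊥)
    (hfaith : ∀ g, χ.1 g = χ.1 1 → g = 1)
    (hC : Subgroup.centralizer (P : Set G) = P ⊔ Subgroup.center G)
    (hCab : ∀ a ∈ Subgroup.centralizer (P : Set G), ∀ b ∈ Subgroup.centralizer (P : Set G), a * b = b * a)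
    (hPZ : P ⊓ Subgroup.center G = ⊥) (hcard : Nat.card P = 4)
    (hmax : ∀ M : Subgroup G, M.Normal → IsPGroup 2 M → M ≤ P)
    (y : G) (η0 : IrrCharacter P) (hη0 : η0 ≠ trivialChar P) (hyη : conjFun P η0.1 y = η0.1)
    (hyC : y ∉ Subgroup.centralizer (P : Set G)) :
    Odd (Nat.card (Subgroup.center G)) ∧ ∃ H : Subgroup G, Nonempty (H ≃* Equiv.Perm (Fin 4)) ∧
      H ⊓ Subgroup.center G = ⊥ ∧ H ⊔ Subgroup.center G = ⊤ := by
  haveI : Fact (Nat.Prime 2) := ⟨Nat.prime_two⟩
  haveI : Fact (Nat.Prime 3) := ⟨Nat.prime_three⟩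
  set C := Subgroup.centralizer (P : Set G) with hCdef
  set Z := Subgroup.center G with hZdef
  have hCn : C.Normal := by rw [hCdef]; infer_instance
  haveI := hCn
  -- the action on the three nontrivial characters
  let T := {η : IrrCharacter P // η ≠ trivialChar P}
  have hstab : ∀ (η : IrrCharacter P) (g : G), η ≠ trivialChar P → conjChar P η g ≠ trivialChar P := by
    intro η g hη h
    refine hη (Subtype.ext (funext fun n => ?_))
    have := congrFun (congrArg Subtype.val h) ((MulAut.conjNormal g).symm n)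
    simpa [conjFun, trivialChar] using this
  letI : MulAction G T :=
    { smul := fun g η => ⟨conjChar P η.1 g⁻¹, hstab _ _ η.2⟩
      one_smul := fun η => Subtype.ext (Subtype.ext (by
        show conjFun P η.1.1 1⁻¹ = η.1.1
        rw [inv_one, conjFun_one]))
      mul_smul := fun a b η => Subtype.ext (Subtype.ext (by
        show conjFun P η.1.1 (a * b)⁻¹ = conjFun P (conjFun P η.1.1 b⁻¹) a⁻¹
        rw [mul_inv_rev, conjFun_mul])) }
  have hsm : ∀ (g : G) (η : T), (g • η).1.1 = conjFun P η.1.1 g⁻¹ := fun g η => rfl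
  have hT : Nat.card T = 3 := by
    have hPab : ∀ a b : P, a * b = b * a := fun a b => Subtype.ext (D.comm a a.2 b b.2)
    have hc : Fintype.card (IrrCharacter P) = 4 := by
      rw [← hcard, ← sum_degree_sq (G := P), Finset.sum_congr rfl fun η _ => by
        rw [degree_eq_of_apply_one (n := 1) (by rw [apply_one_of_comm hPab η, Nat.cast_one]), one_pow],
        Finset.sum_const, smul_eq_mul, mul_one, Finset.card_univ]
    rw [Nat.card_eq_fintype_card, Fintype.card_subtype_compl, Fintype.card_subtype_eq, hc]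
  haveI : MulAction.IsPretransitive G T := ⟨fun a b => by
    obtain ⟨g, hg⟩ := D.htrans a.1 a.2
    obtain ⟨h, hh⟩ := D.htrans b.1 b.2
    refine ⟨(g⁻¹ * h)⁻¹, Subtype.ext (Subtype.ext ?_)⟩
    rw [hsm, inv_inv, hg, hh, ← conjFun_mul, mul_inv_cancel_left]⟩
  set α := MulAction.toPermHom G T
  have hαker : α.ker = C := by
    ext g
    constructor
    · intro hg
      rw [Subgroup.mem_centralizer_iff]
      intro n hn
      have key : ∀ η : T, conjFun P η.1.1 g⁻¹ = η.1.1 := fun η => by
        rw [← hsm]; exact congrArg (fun e : Equiv.Perm T => (e η).1.1) hg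
      have h1 : MulAut.conjNormal g⁻¹ (⟨n, hn⟩ : P) * (⟨n, hn⟩ : P)⁻¹ = 1 := Subtype.ext (hfaith _ (by
        rw [D.hres, show χ.1 1 = χ.1 ((1 : P) : G) from rfl, D.hres]
        refine Finset.sum_congr rfl fun η hη => ?_
        obtain ⟨l, hl⟩ := IsCharacter.exists_monoidHom (irr_isCharacter η) (apply_one_of_comm
          (fun a b : P => Subtype.ext (D.comm a a.2 b b.2)) η)
        have h2 := congrFun (key ⟨η, Finset.ne_of_mem_erase hη⟩) ⟨n, hn⟩
        change η.1 (MulAut.conjNormal g⁻¹ _) = η.1 _ at h2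
        rw [← hl] at h2 ⊢
        rw [map_mul, h2, ← map_mul, mul_inv_cancel]))
      have h2 : g⁻¹ * n * g = n := by
        simpa [mul_assoc, Subtype.ext_iff] using mul_inv_eq_one.1 h1
      rw [mul_assoc, inv_mul_eq_iff_eq_mul] at h2
      exact h2
    · intro hg
      rw [MonoidHom.mem_ker]
      refine Equiv.ext fun η => Subtype.ext (Subtype.ext ?_)
      show conjFun P η.1.1 g⁻¹ = η.1.1
      funext n
      refine congrArg η.1.1 (Subtype.ext ?_)
      have := Subgroup.mem_centralizer_iff.1 hg n n.2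
      simp [mul_assoc, this]
  have hyT : α y ⟨η0, hη0⟩ = ⟨η0, hη0⟩ := by
    refine Subtype.ext (Subtype.ext ?_)
    show conjFun P η0.1 y⁻¹ = η0.1
    conv_lhs => rw [← hyη, ← conjFun_mul, mul_inv_cancel, conjFun_one]
  -- the index of the centraliser
  have hperm : Nat.card (Equiv.Perm T) = 6 := by rw [Nat.card_perm, hT]; rfl
  have hidx6 : C.index ∣ 6 := by
    rw [← hαker, Subgroup.index_ker, ← hperm]; exact Subgroup.card_subgroup_dvd_card _
  have hidx : C.index = 6 := by
    have h2 : 2 ∣ C.index := by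
      have hy2 : orderOf (α y) = 2 := by
        have hne : α y ≠ 1 := fun h => hyC (hαker ▸ h)
        refine orderOf_eq_prime ?_ hne
        have hT' : Fintype.card T = 3 := by rw [← Nat.card_eq_fintype_card, hT]
        have h3 : (α y).support.card ≤ 2 := by
          have : (α y).support ⊆ Finset.univ.erase ⟨η0, hη0⟩ := fun t ht =>
            Finset.mem_erase.2 ⟨fun e => Equiv.Perm.mem_support.1 ht (e ▸ hyT), Finset.mem_univ _⟩
          refine (Finset.card_le_card this).trans ?_
          rw [Finset.card_erase_of_mem (Finset.mem_univ _), Finset.card_univ, hT']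
        have h4 : (α y).support.card = 2 := le_antisymm h3 (Equiv.Perm.two_le_card_support_of_ne_one hne)
        obtain ⟨a, b, hab, he⟩ := Equiv.Perm.card_support_eq_two.1 h4
        rw [he, pow_two, Equiv.swap_mul_self]
      rw [← hαker, Subgroup.index_ker, ← hy2]
      exact Subgroup.orderOf_dvd_natCard _ ⟨y, rfl⟩
    have h3 : 3 ∣ C.index := by
      rw [← hT, ← MulAction.index_stabilizer_of_transitive G (⟨η0, hη0⟩ : T)]
      refine Subgroup.index_dvd_of_le fun g hg => ?_
      rw [← hαker, MonoidHom.mem_ker] at hg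
      exact congrArg (fun e : Equiv.Perm T => e ⟨η0, hη0⟩) hg
    exact Nat.dvd_antisymm hidx6 (Nat.Coprime.mul_dvd_of_dvd_of_dvd (by norm_num) h2 h3)
  -- the centre
  have hZ2 : Odd (Nat.card Z) := by
    rw [← Nat.not_even_iff_odd, even_iff_two_dvd]
    intro h
    obtain ⟨z, hz⟩ := exists_prime_orderOf_dvd_card' 2 h
    rw [← Subgroup.orderOf_coe] at hz
    haveI : (Subgroup.zpowers (z : G)).Normal := ⟨fun w hw g => by
      have hwz : w ∈ Z := (Subgroup.zpowers_le.2 z.2) hw
      rwa [Subgroup.mem_center_iff.1 hwz g, mul_inv_cancel_right]⟩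
    have hzP := hmax _ inferInstance (IsPGroup.of_card (n := 1) (p := 2)
      (by rw [Nat.card_zpowers, hz, pow_one])) (Subgroup.mem_zpowers (z : G))
    have : (z : G) ∈ P ⊓ Z := ⟨hzP, z.2⟩
    rw [hPZ, Subgroup.mem_bot] at this
    rw [this, orderOf_one] at hz
    exact absurd hz (by norm_num)
  have hPG : P ≤ commutator G := by
    have hne : P ⊓ commutator G ≠ ⊥ := by
      intro h
      obtain ⟨⟨n, hn⟩, hne1⟩ := Subgroup.ne_bot_iff_exists_ne_one.1 hP1
      have hn1 : n ≠ 1 := fun e => hne1 (Subtype.ext e)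
      have : n ∈ P ⊓ Z := ⟨hn, Subgroup.mem_center_iff.2 fun g => by
        refine commutatorElement_eq_one_iff_commute.1 ((Subgroup.eq_bot_iff_forall _).1 h _ ⟨?_,
          Subgroup.commutator_mem_commutator (Subgroup.mem_top g) (Subgroup.mem_top n)⟩)
        rw [commutatorElement_def]
        exact P.mul_mem (‹P.Normal›.conj_mem n hn g) (P.inv_mem hn)⟩
      rw [hPZ, Subgroup.mem_bot] at this
      exact hn1 this
    rw [← D.normal_le hfaith (P ⊓ commutator G) inf_le_left hne]
    exact inf_le_right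
  let σ : G →* ℤˣ := Equiv.Perm.sign.comp α
  have hCσ : C ≤ σ.ker := fun g hg => by
    rw [← hαker, MonoidHom.mem_ker] at hg
    simp [σ, hg]
  have hσ2 : σ.ker.index ∣ 2 := by
    rw [Subgroup.index_ker]
    exact (Subgroup.card_subgroup_dvd_card _).trans (by simp)
  have hcomm : ¬ commutator G ≤ C := by
    intro hle
    refine hyC (hαker ▸ ?_)
    rw [MonoidHom.mem_ker]
    refine Equiv.ext fun η => ?_
    obtain ⟨g, rfl⟩ := MulAction.exists_smul_eq G (⟨η0, hη0⟩ : T) η
    have h1 : α (y * g) = α (g * y) := by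
      have : α ⁅y, g⁆ = 1 := by
        rw [← MonoidHom.mem_ker, hαker]
        exact hle (Subgroup.commutator_mem_commutator (Subgroup.mem_top y) (Subgroup.mem_top g))
      rw [map_commutatorElement, commutatorElement_eq_one_iff_commute] at this
      rw [map_mul, map_mul]; exact this
    have h2 := congrArg (fun e : Equiv.Perm T => e ⟨η0, hη0⟩) h1
    simp only [map_mul, Equiv.Perm.mul_apply, hyT] at h2
    exact h2
  have hGσ : commutator G ≤ σ.ker := Abelianization.commutator_subset_ker σ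
  have hGC : (commutator G ⊔ C).index ∣ 2 := by
    have h1 := Subgroup.relIndex_mul_index (show C ≤ commutator G ⊔ C from le_sup_right)
    have h2 : σ.ker.index = 2 ∨ σ.ker.index = 1 := by
      rcases (Nat.dvd_prime Nat.prime_two).1 hσ2 with h | h
      · exact Or.inr h
      · exact Or.inl h
    have h3 : C.relIndex (commutator G ⊔ C) ≠ 1 := fun h =>
      hcomm (le_sup_left.trans (Subgroup.relIndex_eq_one.1 h))
    rw [hidx] at h1
    have h4 : C.relIndex (commutator G ⊔ C) ∣ 6 := ⟨_, h1.symm⟩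
    by_contra hbad
    -- otherwise the relative index is `2`
    have h5 : C.relIndex (commutator G ⊔ C) = 2 := by
      rcases (Nat.dvd_mul.1 (show C.relIndex (commutator G ⊔ C) ∣ 2 * 3 from h4)) with ⟨a, b, ha, hb, hab⟩
      rcases (Nat.dvd_prime Nat.prime_two).1 ha with rfl | rfl <;>
        rcases (Nat.dvd_prime Nat.prime_three).1 hb with rfl | rfl
      · exact absurd hab.symm h3
      · exfalso; apply hbad
        rw [← hab] at h1
        exact ⟨1, by omega⟩
      · exact hab.symm
      · exfalso; apply hbad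
        rw [← hab] at h1
        exact ⟨2, by omega⟩
    have h6 := Subgroup.relIndex_mul_index (show commutator G ⊔ C ≤ σ.ker from sup_le hGσ hCσ)
    have h7 : (commutator G ⊔ C).index = 3 := by rw [h5] at h1; omega
    rw [h7] at h6
    rcases h2 with h | h
    · rw [h] at h6; omega
    · -- `y` is odd
      have hy1 : y ∈ σ.ker := by rw [Subgroup.index_eq_one.1 h]; exact Subgroup.mem_top _
      rw [MonoidHom.mem_ker] at hy1
      have hne : α y ≠ 1 := fun e => hyC (hαker ▸ e)
      have h3' : (α y).support.card ≤ 2 := by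
        have : (α y).support ⊆ Finset.univ.erase ⟨η0, hη0⟩ := fun t ht =>
          Finset.mem_erase.2 ⟨fun e => Equiv.Perm.mem_support.1 ht (e ▸ hyT), Finset.mem_univ _⟩
        refine (Finset.card_le_card this).trans ?_
        rw [Finset.card_erase_of_mem (Finset.mem_univ _), Finset.card_univ, ← Nat.card_eq_fintype_card, hT]
      obtain ⟨a, b, hab, he⟩ := Equiv.Perm.card_support_eq_two.1
        (le_antisymm h3' (Equiv.Perm.two_le_card_support_of_ne_one hne))
      rw [show σ y = -1 by
        show Equiv.Perm.sign (α y) = -1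
        rw [he, Equiv.Perm.sign_swap hab]] at hy1
      exact absurd hy1 (by decide)
  have hGZ : (commutator G ⊔ Z).index ∣ 2 := by
    rwa [show commutator G ⊔ Z = commutator G ⊔ C by rw [hC, ← sup_assoc, sup_eq_left.2 hPG]]
  -- a Sylow 3-subgroup
  let R : Sylow 3 G := default
  have hRC : ∀ c ∈ (R : Subgroup G), c ∈ C → c ∈ Z := by
    intro c hc hcC
    rw [hC] at hcC
    obtain ⟨n, hn, z, hz, rfl⟩ := Subgroup.mem_sup_of_normal_left.1 hcC
    obtain ⟨j, hj⟩ := (IsPGroup.iff_orderOf (p := 3)).1 R.2 ⟨_, hc⟩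
    rw [Subgroup.orderOf_mk] at hj
    have hcom : Commute n z := Subgroup.mem_center_iff.1 hz n
    have h1 : n ^ 3 ^ j * z ^ 3 ^ j = 1 := by rw [← hcom.mul_pow, ← hj, pow_orderOf_eq_one]
    have h2 : n ^ 3 ^ j ∈ P ⊓ Z := ⟨P.pow_mem hn _, by
      rw [eq_inv_of_mul_eq_one_left h1]; exact Z.inv_mem (Z.pow_mem hz _)⟩
    rw [hPZ, Subgroup.mem_bot] at h2
    obtain ⟨i, hi⟩ := (IsPGroup.iff_orderOf (p := 2)).1 hPp ⟨n, hn⟩
    rw [Subgroup.orderOf_mk] at hi
    have : n = 1 := orderOf_eq_one_iff.1 (Nat.eq_one_of_dvd_coprimes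
      (Nat.Coprime.pow i j (by norm_num : Nat.Coprime 2 3)) (by rw [hi]) (orderOf_dvd_of_pow_eq_one h2))
    rwa [this, one_mul]
  haveI hRab : IsMulCommutative (R : Subgroup G) := by
    let f : (R : Subgroup G) →* G ⧸ C := (QuotientGroup.mk' C).comp (R : Subgroup G).subtype
    haveI : IsCyclic f.range := by
      obtain ⟨j, hj⟩ := (R.2.of_surjective f.rangeRestrict f.rangeRestrict_surjective).exists_card_eq
      have h6 : Nat.card f.range ∣ 6 := hidx ▸ Subgroup.index_eq_card C ▸ Subgroup.card_subgroup_dvd_card _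
      rcases j with _ | j
      · haveI : Subsingleton f.range := (Nat.card_eq_one_iff_unique.1 (by rw [hj, pow_zero])).1
        infer_instance
      · rcases j with _ | j
        · exact isCyclic_of_prime_card (p := 3) (by rw [hj, pow_one])
        · rw [hj] at h6
          exact absurd ((pow_dvd_pow 3 (show 2 ≤ j + 1 + 1 by omega)).trans h6) (by norm_num)
    refine MonoidHom.isMulCommutative_of_isCyclic_of_ker_le_center f.rangeRestrict fun c hc => ?_
    rw [MonoidHom.ker_rangeRestrict, MonoidHom.mem_ker] at hc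
    have := hRC c c.2 ((QuotientGroup.eq_one_iff _).1 hc)
    exact Subgroup.mem_center_iff.2 fun d => Subtype.ext (Subgroup.mem_center_iff.1 this d)
  have hGZ1 : ∀ z ∈ Z, z ∈ commutator G → z = 1 := by
    intro z hz hzG
    have key : ∀ (K : Subgroup G) [IsMulCommutative K], z ∈ K → z ^ K.index = 1 := by
      intro K _ hzK
      have h := MonoidHom.transfer_eq_pow (MonoidHom.id K) z (fun k g₀ _ => by
        rw [Subgroup.mem_center_iff.1 (Z.inv_mem (Z.inv_mem (Z.pow_mem hz k)) |> (inv_inv (z ^ k) ▸ ·)) g₀⁻¹,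
          inv_mul_cancel_right])
      rw [show (MonoidHom.transfer (MonoidHom.id K)) z = 1 from Abelianization.commutator_subset_ker _ hzG] at h
      exact (congrArg Subtype.val h).symm
    haveI : IsMulCommutative C := ⟨⟨fun a b => Subtype.ext (hCab a a.2 b b.2)⟩⟩
    have h6 := key C (by rw [hC]; exact Subgroup.mem_sup_right hz)
    rw [hidx] at h6
    have h3 : orderOf z ∣ 3 := by
      have h2 : (orderOf z).Coprime 2 := Nat.coprime_two_right.2
        (hZ2.of_dvd_nat (Subgroup.orderOf_dvd_natCard Z hz))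
      exact h2.dvd_of_dvd_mul_left (show orderOf z ∣ 2 * 3 from orderOf_dvd_of_pow_eq_one h6)
    haveI : (Subgroup.zpowers z).Normal := ⟨fun w hw g => by
      rwa [Subgroup.mem_center_iff.1 ((Subgroup.zpowers_le.2 hz) hw) g, mul_inv_cancel_right]⟩
    obtain ⟨j, -, hj⟩ := (Nat.dvd_prime_pow Nat.prime_three).1 (show orderOf z ∣ 3 ^ 1 from h3)
    have hzR : z ∈ (R : Subgroup G) := by
      have h := (IsPGroup.of_card (n := j) (p := 3) (G := Subgroup.zpowers z)
        (by rw [Nat.card_zpowers, hj])).to_sup_of_normal_left R.2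
      exact (R.3 h le_sup_right) ▸ Subgroup.mem_sup_left (Subgroup.mem_zpowers z)
    have hR := key (R : Subgroup G) hzR
    exact orderOf_eq_one_iff.1 (Nat.eq_one_of_dvd_coprimes
      ((Nat.prime_three.coprime_iff_not_dvd).2 R.not_dvd_index) h3 (orderOf_dvd_of_pow_eq_one hR))
  refine ⟨hZ2, ?_⟩
  let H : Subgroup G := ((powMonoidHom 2).comp (Abelianization.of (G := G))).ker
  have hH : ∀ g, g ∈ H ↔ g ^ 2 ∈ commutator G := fun g => by
    rw [← Abelianization.ker_of, MonoidHom.mem_ker, MonoidHom.mem_ker, map_pow]; rfl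
  have hHZ : H ⊓ Z = ⊥ := (Subgroup.eq_bot_iff_forall _).2 fun z hz => by
    have h1 := hGZ1 _ (Z.pow_mem hz.2 2) ((hH z).1 hz.1)
    exact orderOf_eq_one_iff.1 (Nat.eq_one_of_dvd_coprimes
      (Nat.coprime_two_left.2 (hZ2.of_dvd_nat (Subgroup.orderOf_dvd_natCard Z hz.2))).symm
      dvd_rfl (orderOf_dvd_of_pow_eq_one h1))
  have hHZtop : H ⊔ Z = ⊤ := by
    refine eq_top_iff.2 fun g _ => ?_
    haveI : (commutator G ⊔ Z).Normal := inferInstance
    have hg : g ^ 2 ∈ commutator G ⊔ Z := by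
      obtain ⟨m, hm⟩ := hGZ
      rw [hm, pow_mul]
      exact Subgroup.pow_mem _ (Subgroup.pow_index_mem _ g) _
    obtain ⟨c, hc, z, hz, hcz⟩ := Subgroup.mem_sup_of_normal_left.1 hg
    obtain ⟨m, hm⟩ := exists_pow_eq_self_of_coprime (x := z) (n := 2)
      (Nat.coprime_two_left.2 (hZ2.of_dvd_nat (Subgroup.orderOf_dvd_natCard Z hz)))
    have hzm : z ^ m ∈ Z := Z.pow_mem hz m
    have hgz : g * (z ^ m)⁻¹ ∈ H := by
      rw [hH, (show Commute g (z ^ m)⁻¹ from Subgroup.mem_center_iff.1 (Z.inv_mem hzm) g).mul_pow,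
        inv_pow, ← pow_mul, mul_comm m 2, pow_mul, hm, ← hcz, mul_inv_cancel_right]
      exact hc
    simpa using Subgroup.mul_mem_sup hgz hzm
  refine ⟨H, ?_, hHZ, hHZtop⟩
  -- the Sylow 3-subgroups
  have hRnC : ¬ (R : Subgroup G) ≤ C := fun h => R.not_dvd_index
    ((show 3 ∣ C.index by rw [hidx]; norm_num).trans (Subgroup.index_dvd_of_le h))
  have hker2 : σ.ker.index = 2 ∨ σ.ker.index = 1 := by
    rcases (Nat.dvd_prime Nat.prime_two).1 hσ2 with h | h
    · exact Or.inr h
    · exact Or.inl h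
  have hGR : Subgroup.normalizer ((R : Subgroup G) : Set G) ⊔ C = ⊤ := by
    have hRn : ((R : Subgroup G) ⊔ C).Normal := by
      have h1 : (R : Subgroup G) ⊔ C = σ.ker ∨ (R : Subgroup G) ⊔ C = ⊤ := by
        have hle : (R : Subgroup G) ⊔ C ≤ σ.ker := by
          refine sup_le (fun r hr => ?_) hCσ
          rw [MonoidHom.mem_ker]
          obtain ⟨j, hj⟩ := (IsPGroup.iff_orderOf (p := 3)).1 R.2 ⟨r, hr⟩
          rw [Subgroup.orderOf_mk] at hj
          exact orderOf_eq_one_iff.1 (Nat.eq_one_of_dvd_coprimes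
            (Nat.Coprime.pow j 1 (by norm_num : Nat.Coprime 3 2)) (hj ▸ orderOf_map_dvd σ r)
            (orderOf_dvd_of_pow_eq_one (by rw [pow_one]; exact Int.units_sq _)))
        have h2 := Subgroup.relIndex_mul_index hle
        have h3 := Subgroup.relIndex_mul_index (show C ≤ (R : Subgroup G) ⊔ C from le_sup_right)
        rw [hidx] at h3
        have h4 : 3 ∣ C.relIndex ((R : Subgroup G) ⊔ C) := by
          refine ((Nat.Prime.dvd_mul Nat.prime_three).1 (h3 ▸ (by norm_num : 3 ∣ 6))).resolve_right fun h => ?_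
          exact R.not_dvd_index (h.trans (Subgroup.index_dvd_of_le le_sup_left))
        have h5 : ((R : Subgroup G) ⊔ C).index ∣ 2 := by
          obtain ⟨q, hq⟩ := h4
          rw [hq, mul_assoc] at h3
          exact ⟨q, by rw [mul_comm]; omega⟩
        rcases (Nat.dvd_prime Nat.prime_two).1 h5 with h | h
        · exact Or.inr (Subgroup.index_eq_one.1 h)
        · left
          rw [h] at h2
          rcases hker2 with h' | h'
          · rw [h'] at h2
            exact le_antisymm hle (Subgroup.relIndex_eq_one.1 (by omega))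
          · exfalso
            have hy1 : y ∈ σ.ker := by rw [Subgroup.index_eq_one.1 h']; exact Subgroup.mem_top _
            rw [MonoidHom.mem_ker] at hy1
            have hne : α y ≠ 1 := fun e => hyC (hαker ▸ e)
            have h3' : (α y).support.card ≤ 2 := by
              have : (α y).support ⊆ Finset.univ.erase ⟨η0, hη0⟩ := fun t ht =>
                Finset.mem_erase.2 ⟨fun e => Equiv.Perm.mem_support.1 ht (e ▸ hyT), Finset.mem_univ _⟩
              refine (Finset.card_le_card this).trans ?_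
              rw [Finset.card_erase_of_mem (Finset.mem_univ _), Finset.card_univ, ← Nat.card_eq_fintype_card, hT]
            obtain ⟨a, b, hab, he⟩ := Equiv.Perm.card_support_eq_two.1
              (le_antisymm h3' (Equiv.Perm.two_le_card_support_of_ne_one hne))
            rw [show σ y = -1 by
              show Equiv.Perm.sign (α y) = -1
              rw [he, Equiv.Perm.sign_swap hab]] at hy1
            exact absurd hy1 (by decide)
      rcases h1 with h | h <;> rw [h] <;> infer_instance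
    haveI := hRn
    have h := Sylow.normalizer_sup_eq_top (R.subtype (le_sup_left (b := C)))
    rw [show ((R.subtype (le_sup_left (b := C)) : Subgroup _)).map ((R : Subgroup G) ⊔ C).subtype =
      (R : Subgroup G) by rw [Sylow.coe_subtype, Subgroup.subgroupOf_map_subtype, inf_eq_left.2 le_sup_left],
      ← sup_assoc, sup_eq_left.2 Subgroup.le_normalizer] at h
    exact h
  set N := Subgroup.normalizer ((R : Subgroup G) : Set G) with hNdef
  have hZN : Z ≤ N := Subgroup.center_le_normalizer _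
  have hGP : N ⊔ P = ⊤ := by
    rw [eq_top_iff, ← hGR, hC, ← sup_assoc]
    exact sup_le le_rfl (hZN.trans le_sup_left)
  have hNP : N ⊓ P = ⊥ := by
    haveI hn : (N ⊓ P).Normal := by
      refine ⟨fun x hx g => ?_⟩
      obtain ⟨h, hh, n, hn, rfl⟩ := Subgroup.mem_sup_of_normal_right.1
        (hGP ▸ Subgroup.mem_top g : g ∈ N ⊔ P)
      rw [show h * n * x * (h * n)⁻¹ = h * (n * x * n⁻¹) * h⁻¹ by group, D.comm n hn x hx.2,
        mul_inv_cancel_right]
      exact ⟨N.mul_mem (N.mul_mem hh hx.1) (N.inv_mem hh), ‹P.Normal›.conj_mem x hx.2 h⟩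
    by_contra hne
    have hle : P ≤ N := (D.normal_le hfaith _ inf_le_right hne) ▸ inf_le_left
    refine hRnC fun r hr => Subgroup.mem_centralizer_iff.2 fun n hn => ?_
    have h1 : ⁅n, r⁆ ∈ (R : Subgroup G) := by
      rw [commutatorElement_def]
      exact (R : Subgroup G).mul_mem ((Subgroup.mem_normalizer_iff.1 (hle hn) r).1 hr)
        ((R : Subgroup G).inv_mem hr)
    have h2 : ⁅n, r⁆ ∈ P := by
      rw [commutatorElement_def, show n * r * n⁻¹ * r⁻¹ = n * (r * n⁻¹ * r⁻¹) by group]
      exact P.mul_mem hn (‹P.Normal›.conj_mem _ (P.inv_mem hn) r)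
    have h3 : ⁅n, r⁆ = 1 := by
      refine Subgroup.mem_bot.1 (Subgroup.disjoint_of_coprime_natCard (H := P) (K := (R : Subgroup G)) ?_
        |>.le_bot ⟨h2, h1⟩)
      obtain ⟨j, hj⟩ := R.2.exists_card_eq
      rw [hcard, hj]
      exact Nat.Coprime.pow_right _ (by norm_num)
    exact (commutatorElement_eq_one_iff_commute.1 h3).eq
  have hS4 : Nat.card (Sylow 3 G) = 4 := by
    rw [← hcard]
    refine (Nat.card_eq_of_bijective (fun n : P => (n : G) • R) ⟨fun a b hab => ?_, fun S => ?_⟩).symm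
    · have h1 : (a : G)⁻¹ * b ∈ N ⊓ P := ⟨by
        show (a : G)⁻¹ * b ∈ N
        refine (Sylow.smul_eq_iff_mem_normalizer (P := R)).1 ?_
        rw [mul_smul]
        exact inv_smul_eq_iff.2 hab.symm, P.mul_mem (P.inv_mem a.2) b.2⟩
      rw [hNP, Subgroup.mem_bot, inv_mul_eq_one] at h1
      exact Subtype.ext h1
    · obtain ⟨g, rfl⟩ := MulAction.exists_smul_eq G R S
      obtain ⟨n, hn, h, hh, rfl⟩ := Subgroup.mem_sup_of_normal_left.1
        (by rw [sup_comm, hGP]; exact Subgroup.mem_top g : g ∈ P ⊔ N)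
      refine ⟨⟨n, hn⟩, ?_⟩
      show n • R = (n * h) • R
      rw [mul_smul, Sylow.smul_eq_iff_mem_normalizer.2 hh]
  let β : H →* Equiv.Perm (Sylow 3 G) := (MulAction.toPermHom G (Sylow 3 G)).comp H.subtype
  have hβinj : Function.Injective β := by
    rw [← MonoidHom.ker_eq_bot_iff, Subgroup.eq_bot_iff_forall]
    intro h hh
    set K := (MulAction.toPermHom G (Sylow 3 G)).ker
    have hKN : K ≤ N := fun k hk => by
      rw [MonoidHom.mem_ker] at hk
      refine (Sylow.smul_eq_iff_mem_normalizer (P := R)).1 ?_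
      exact congrArg (fun e : Equiv.Perm (Sylow 3 G) => e R) hk
    have hKP : ∀ k ∈ K, k ∈ P → k = 1 := fun k hk hk' => by
      have : k ∈ N ⊓ P := ⟨hKN hk, hk'⟩
      rwa [hNP, Subgroup.mem_bot] at this
    have hKC : (h : G) ∈ C := Subgroup.mem_centralizer_iff.2 fun n hn => by
      refine (commutatorElement_eq_one_iff_commute.1 (hKP ⁅n, (h : G)⁆ ?_ ?_)).eq
      · rw [commutatorElement_def]
        exact K.mul_mem ((inferInstance : K.Normal).conj_mem _ hh n) (K.inv_mem hh)
      · rw [commutatorElement_def, show n * (h : G) * n⁻¹ * (h : G)⁻¹ = n * ((h : G) * n⁻¹ * (h : G)⁻¹) by group]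
        exact P.mul_mem hn (‹P.Normal›.conj_mem _ (P.inv_mem hn) _)
    rw [hC] at hKC
    obtain ⟨n, hn, z, hz, hnz⟩ := Subgroup.mem_sup_of_normal_left.1 hKC
    have hzK : z ∈ K := by
      rw [MonoidHom.mem_ker]
      exact Equiv.ext fun S => Sylow.smul_eq_iff_mem_normalizer.2 (Subgroup.center_le_normalizer _ hz)
    have hn1 : n = 1 := hKP n (by
      rw [show n = (h : G) * z⁻¹ from eq_mul_inv_of_mul_eq hnz]
      exact K.mul_mem hh (K.inv_mem hzK)) hn
    have : (h : G) ∈ H ⊓ Z := ⟨h.2, by rw [← hnz, hn1, one_mul]; exact hz⟩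
    rw [hHZ, Subgroup.mem_bot] at this
    exact Subtype.ext this
  have hcardH : Nat.card H = 24 := by
    have hc1 : Nat.card C = 4 * Nat.card Z := by
      rw [← hcard, ← Nat.card_prod]
      refine (Nat.card_eq_of_bijective (fun w : P × Z => (⟨(w.1 : G) * w.2, by
        rw [hC]; exact Subgroup.mul_mem_sup w.1.2 w.2.2⟩ : C)) ⟨fun a b hab => ?_, fun c => ?_⟩).symm
      · have e := congrArg Subtype.val hab
        simp only at e
        have h1 : (b.1 : G)⁻¹ * a.1 ∈ P ⊓ Z := ⟨P.mul_mem (P.inv_mem b.1.2) a.1.2, by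
          rw [show (b.1 : G)⁻¹ * a.1 = b.2 * (a.2 : G)⁻¹ by
            rw [eq_mul_inv_iff_mul_eq, mul_assoc, e, inv_mul_cancel_left]]
          exact Z.mul_mem b.2.2 (Z.inv_mem a.2.2)⟩
        rw [hPZ, Subgroup.mem_bot, inv_mul_eq_one] at h1
        rw [← h1] at e
        exact Prod.ext (Subtype.ext h1.symm) (Subtype.ext (mul_left_cancel e))
      · have hc := c.2
        simp only [hC] at hc
        obtain ⟨n, hn, z, hz, h⟩ := Subgroup.mem_sup_of_normal_left.1 hc
        exact ⟨(⟨n, hn⟩, ⟨z, hz⟩), Subtype.ext h⟩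
    have h1 := Subgroup.card_mul_index C
    rw [hidx, hc1] at h1
    have h2 := (Subgroup.isComplement'_of_disjoint_and_mul_eq_univ (disjoint_iff.2 hHZ)
      (by rw [← Subgroup.mul_normal, hHZtop, Subgroup.coe_top])).card_mul_card
    rw [← h1] at h2
    exact Nat.eq_of_mul_eq_mul_right (Nat.card_pos (α := Z)) (by rw [h2]; ring)
  refine ⟨(MulEquiv.ofBijective β ((Nat.bijective_iff_injective_and_card _).2 ⟨hβinj, ?_⟩)).trans
    (Equiv.permCongrHom (Finite.equivFinOfCardEq hS4))⟩
  rw [hcardH, Nat.card_perm, hS4]; rfl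

/-- Let χ be a faithful, non-linear irreducible character of the finite group G (χ g = χ 1 only for g = 1, χ 1 ≠ 1) whose value at every element of order divisible by p is a root of unity, and suppose P = O_p(G) ≠ 1. Then either P is an elementary abelian Sylow p-subgroup of G, C_G(P) is the internal direct product of P and Z(G), G acts transitively by conjugation on the non-principal linear characters of P, and χ 1 = |P| − 1; or p = 2 and G is the internal direct product of a subgroup isomorphic to the symmetric group S₄ and the centre Z(G), which has odd order. -/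
theorem result {G : Type*} [Group G] [Finite G] (p : ℕ) [Fact p.Prime] (χ : Cfsg.IrrCharacter G) (hfaith : ∀ g : G, (χ : G → ℂ) g = (χ : G → ℂ) 1 → g = 1) (hnl : (χ : G → ℂ) 1 ≠ 1) (hroot : ∀ g : G, p ∣ orderOf g → ∃ n : ℕ, 0 < n ∧ ((χ : G → ℂ) g) ^ n = 1) (hP : Cfsg.pCore p G ≠ ⊥) : ((Nat.card ↥(Cfsg.pCore p G)).factorization p = (Nat.card G).factorization p ∧ Cfsg.IsElementaryAbelian p (Cfsg.pCore p G) ∧ Subgroup.centralizer ((Cfsg.pCore p G : Subgroup G) : Set G) = Cfsg.pCore p G ⊔ Subgroup.center G ∧ Cfsg.pCore p G ⊓ Subgroup.center G = ⊥ ∧ (∀ lam mu : ↥(Cfsg.pCore p G) → ℂ, Cfsg.IsCharacter ↥(Cfsg.pCore p G) lam → lam 1 = 1 → lam ≠ (fun _ => (1 : ℂ)) → Cfsg.IsCharacter ↥(Cfsg.pCore p G) mu → mu 1 = 1 → mu ≠ (fun _ => (1 : ℂ)) → ∃ g : G, ∀ (x : G) (hx : x ∈ Cfsg.pCore p G) (hgx : g * x * g⁻¹ ∈ Cfsg.pCore p G), mu ⟨x, hx⟩ = lam ⟨g * x * g⁻¹, hgx⟩) ∧ (χ : G → ℂ) 1 = (Nat.card ↥(Cfsg.pCore p G) : ℂ) - 1) ∨ (p = 2 ∧ Odd (Nat.card ↥(Subgroup.center G)) ∧ ∃ H : Subgroup G, Nonempty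 (↥H ≃* Equiv.Perm (Fin 4)) ∧ H ⊓ Subgroup.center G = ⊥ ∧ H ⊔ Subgroup.center G = ⊤) := by
  haveI := Fintype.ofFinite G
  set P := Cfsg.pCore p G with hPdef
  haveI hPn : P.Normal := LocalStructure.pCore_normal p G
  have hPp : IsPGroup p P := LocalStructure.isPGroup_pCore p
  haveI := Fintype.ofFinite ↥P
  obtain ⟨D⟩ := exists_data p P hPp hP χ hfaith hnl hroot
  have hmax : ∀ M : Subgroup G, M.Normal → IsPGroup p M → M ≤ P :=
    fun M h1 h2 => LocalStructure.le_pCore h1 h2
  have hPab : ∀ a b : P, a * b = b * a := fun a b => Subtype.ext (D.comm a a.2 b b.2)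
  haveI : IsMulCommutative P := ⟨⟨hPab⟩⟩
  have hall : ∀ η : IrrCharacter P, ∃ l : P →* ℂ, ⇑l = η.1 := fun η =>
    IsCharacter.exists_monoidHom (irr_isCharacter η) (apply_one_of_comm hPab η)
  have hdeg : χ.1 1 = (Nat.card P : ℂ) - 1 := by
    rw [apply_one_eq_degree, D.hdeg, Nat.cast_sub Nat.card_pos, Nat.cast_one]
  have hcardT : (Finset.univ.erase (trivialChar P)).card + 1 = Nat.card P := by
    have h := D.hres 1
    rw [Subgroup.coe_one, hdeg, Finset.sum_congr rfl fun η _ => apply_one_of_comm hPab η,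
      Finset.sum_const, nsmul_one] at h
    have h' : ((Finset.univ.erase (trivialChar P)).card + 1 : ℕ) = ((Nat.card P : ℕ) : ℂ) := by
      push_cast; linear_combination -h
    exact_mod_cast h'
  -- elementary abelian
  have helem : ∀ a ∈ P, a ^ p = 1 := by
    have hns : ¬ Function.Surjective (powMonoidHom p : P →* P) := by
      intro h
      have hb := Finite.injective_iff_surjective.2 h
      obtain ⟨j, hj⟩ := hPp.exists_card_eq
      have hj0 : j ≠ 0 := fun h0 => hP (Subgroup.card_eq_one.1 (by rw [hj, h0, pow_zero]))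
      obtain ⟨x, hx⟩ := exists_prime_orderOf_dvd_card' (G := P) p (hj ▸ dvd_pow_self p hj0)
      have : x = 1 := hb (by simp [← hx, pow_orderOf_eq_one])
      rw [this, orderOf_one] at hx
      exact (Fact.out : p.Prime).one_lt.ne hx
    obtain ⟨x, hx⟩ : ∃ x : P, x ∉ (powMonoidHom p : P →* P).range := by
      by_contra! h; exact hns fun x => h x
    haveI : ((powMonoidHom p : P →* P).range).Normal := inferInstance
    letI : CommGroup (P ⧸ (powMonoidHom p : P →* P).range) := QuotientGroup.Quotient.commGroup _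
    obtain ⟨φ, hφ⟩ := CommGroup.exists_apply_ne_one_of_hasEnoughRootsOfUnity
      (P ⧸ (powMonoidHom p : P →* P).range) ℂ
      (fun h => hx ((QuotientGroup.eq_one_iff x).1 h) : (x : P ⧸ (powMonoidHom p : P →* P).range) ≠ 1)
    let l : P →* ℂ := ((Units.coeHom ℂ).comp φ).comp (QuotientGroup.mk' _)
    let μ : IrrCharacter P := ⟨l, isIrrCharacter_of_monoidHom l⟩
    have hμ : μ ≠ trivialChar P := fun h => hφ (Units.ext (by
      have := congrFun (congrArg Subtype.val h) x
      simpa [μ, l, trivialChar] using this))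
    obtain ⟨g, hg⟩ := D.htrans μ hμ
    intro a ha
    refine hfaith _ ?_
    rw [show χ.1 (a ^ p) = χ.1 (((⟨a, ha⟩ : P) ^ p : P) : G) from rfl, D.hres,
      show χ.1 1 = χ.1 ((1 : P) : G) from rfl, D.hres]
    refine Finset.sum_congr rfl fun η hη => ?_
    obtain ⟨g', hg'⟩ := D.htrans η (Finset.ne_of_mem_erase hη)
    have h2 : η.1 = conjFun P μ.1 (g⁻¹ * g') := by rw [hg', hg, ← conjFun_mul, mul_inv_cancel_left]
    rw [h2, conjFun_apply_one]
    show l (MulAut.conjNormal (g⁻¹ * g') ((⟨a, ha⟩ : P) ^ p)) = l 1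
    rw [map_pow]
    have : ((MulAut.conjNormal (g⁻¹ * g') (⟨a, ha⟩ : P)) ^ p : P ⧸ (powMonoidHom p : P →* P).range) = 1 := by
      rw [← QuotientGroup.mk_pow, QuotientGroup.eq_one_iff]; exact ⟨_, rfl⟩
    simp only [l, MonoidHom.comp_apply, map_pow, QuotientGroup.mk'_apply, map_one]
    rw [← map_pow, ← map_pow, this, map_one, map_one]
  set C := Subgroup.centralizer (P : Set G) with hCdef
  haveI hCn : C.Normal := by rw [hCdef]; infer_instance
  have hfixC : ∀ c ∈ C, ∀ η : IrrCharacter P, conjFun P η.1 c = η.1 := fun c hc η => funext fun n =>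
    congrArg η.1 (Subtype.ext (by
      rw [MulAut.conjNormal_apply, ← Subgroup.mem_centralizer_iff.1 hc n n.2, mul_inv_cancel_right]))
  have hCI : C ≤ D.I := fun c hc => (D.hI c).2 (hfixC c hc D.θ)
  have hCab : ∀ a ∈ C, ∀ b ∈ C, a * b = b * a := fun a ha b hb => by
    refine commutatorElement_eq_one_iff_commute.1 (hfaith _ ?_)
    rw [D.hind, D.hind]
    refine congrArg _ (Finset.sum_congr rfl fun x _ => ?_)
    have hx : ∀ c ∈ C, x⁻¹ * c * x ∈ D.I := fun c hc => hCI (by simpa using hCn.conj_mem c hc x⁻¹)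
    rw [show x⁻¹ * ⁅a, b⁆ * x = ((⁅(⟨_, hx a ha⟩ : D.I), ⟨_, hx b hb⟩⁆ : D.I) : G) by
      simp [commutatorElement_def, mul_assoc], show x⁻¹ * 1 * x = ((1 : D.I) : G) by simp,
      extendByZero_coe, extendByZero_coe, commutatorElement_def, map_mul, map_mul, map_mul, map_one]
    set u := (⟨_, hx a ha⟩ : D.I)
    set v := (⟨_, hx b hb⟩ : D.I)
    rw [show D.lam u * D.lam v * D.lam u⁻¹ * D.lam v⁻¹ = (D.lam u * D.lam u⁻¹) * (D.lam v * D.lam v⁻¹) by ring,
      ← map_mul, ← map_mul, mul_inv_cancel, mul_inv_cancel, map_one, mul_one]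
  have hPC : P ≤ C := fun x hx => Subgroup.mem_centralizer_iff.2 fun n hn => D.comm n hn x hx
  have hPZ : P ⊓ Subgroup.center G = ⊥ := (Subgroup.eq_bot_iff_forall _).2 fun x hx => by
    by_contra hne
    have hfx : ∀ η ∈ Finset.univ.erase (trivialChar P), η.1 ⟨x, hx.1⟩ = D.θ.1 ⟨x, hx.1⟩ := fun η hη => by
      obtain ⟨g, hg⟩ := D.htrans η (Finset.ne_of_mem_erase hη)
      rw [hg]
      exact congrArg D.θ.1 (Subtype.ext (by
        rw [MulAut.conjNormal_apply, Subgroup.mem_center_iff.1 hx.2 g, mul_inv_cancel_right]))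
    obtain ⟨l, hl⟩ := hall D.θ
    have h := mul_conj_eq_one χ hroot (prime_dvd_orderOf hPp hx.1 hne)
    rw [show χ.1 x = χ.1 ((⟨x, hx.1⟩ : P) : G) from rfl, D.hres, Finset.sum_congr rfl hfx,
      Finset.sum_const, nsmul_eq_mul, ← hl, map_mul, map_natCast,
      mul_mul_mul_comm, normSq_linear, mul_one] at h
    have h1 : (Finset.univ.erase (trivialChar P)).card = 1 := Nat.eq_one_of_mul_eq_one_right (by exact_mod_cast h)
    refine hnl ?_
    rw [hdeg, ← hcardT, h1]; norm_num
  have hCpart : ∀ c ∈ C, (∃ j : ℕ, orderOf c = p ^ j) → c ∈ P := by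
    haveI : IsMulCommutative C := ⟨⟨fun a b => Subtype.ext (hCab a a.2 b b.2)⟩⟩
    let S : Subgroup G :=
      { carrier := {c | c ∈ C ∧ ∃ j : ℕ, c ^ p ^ j = 1}
        one_mem' := ⟨C.one_mem, 0, one_pow _⟩
        mul_mem' := fun {a b} ha hb => by
          obtain ⟨i, hi⟩ := ha.2
          obtain ⟨j, hj⟩ := hb.2
          refine ⟨C.mul_mem ha.1 hb.1, i + j, ?_⟩
          rw [(show Commute a b from hCab a ha.1 b hb.1).mul_pow, pow_add, pow_mul, hi, one_pow,
            mul_comm (p ^ i), pow_mul, hj, one_pow, mul_one]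
        inv_mem' := fun {a} ha => ⟨C.inv_mem ha.1, ha.2.choose, by
          rw [inv_pow, ha.2.choose_spec, inv_one]⟩ }
    have hSn : S.Normal := ⟨fun c hc g => ⟨hCn.conj_mem c hc.1 g, hc.2.choose, by
      rw [conj_pow, hc.2.choose_spec, mul_one, mul_inv_cancel]⟩⟩
    have hSp : IsPGroup p S := fun c => ⟨c.2.2.choose, Subtype.ext c.2.2.choose_spec⟩
    intro c hc ⟨j, hj⟩
    exact hmax S hSn hSp ⟨hc, j, hj ▸ pow_orderOf_eq_one c⟩
  have hCeq : C = P ⊔ Subgroup.center G := by
    refine le_antisymm ?_ (sup_le hPC (Subgroup.center_le_centralizer _))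
    intro c hc
    obtain ⟨j, m, hm, hjm⟩ := Nat.exists_eq_pow_mul_and_not_dvd (orderOf_pos c).ne' p (Fact.out : p.Prime).ne_one
    have hcop : (p ^ j).Coprime m := Nat.Coprime.pow_left j ((Fact.out : p.Prime).coprime_iff_not_dvd.2 hm)
    have hB := Nat.gcd_eq_gcd_ab (p ^ j) m
    rw [Nat.coprime_iff_gcd_eq_one.1 hcop] at hB
    have hsplit : c = (c ^ m) ^ ((p ^ j).gcdB m) * (c ^ p ^ j) ^ ((p ^ j).gcdA m) := by
      rw [← zpow_natCast, ← zpow_natCast, ← zpow_mul, ← zpow_mul, ← zpow_add, add_comm]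
      conv_lhs => rw [← zpow_one c, show (1 : ℤ) = _ from hB]
    rw [hsplit]
    refine Subgroup.mul_mem_sup (Subgroup.zpow_mem _ (hCpart _ (C.pow_mem hc _) ?_) _) (Subgroup.zpow_mem _ ?_ _)
    · refine ⟨j, ?_⟩
      rw [orderOf_pow_of_dvd (by rintro rfl; exact hm (dvd_zero p)) ⟨p ^ j, by rw [hjm, mul_comm]⟩, hjm,
        Nat.mul_div_cancel _ (Nat.pos_of_ne_zero (by rintro rfl; exact hm (dvd_zero p)))]
    · set v := c ^ p ^ j
      have hv : ¬ p ∣ orderOf v := by
        rw [orderOf_pow_of_dvd (pow_ne_zero _ (Fact.out : p.Prime).ne_zero) ⟨m, hjm⟩, hjm,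
          Nat.mul_div_cancel_left _ (pow_pos (Fact.out : p.Prime).pos j)]
        exact hm
      have hvC : v ∈ C := C.pow_mem hc _
      have hsing : ∀ n : P, n ≠ 1 → p ∣ orderOf ((n : G) * v) := fun n hn => by
        have hcom : Commute (n : G) v := Subgroup.mem_centralizer_iff.1 hvC n n.2
        obtain ⟨i, hi⟩ := (IsPGroup.iff_orderOf (p := p)).1 hPp n
        have hi' : orderOf (n : G) = p ^ i := by rw [Subgroup.orderOf_coe, hi]
        rw [hcom.orderOf_mul_eq_mul_orderOf_of_coprime (by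
          rw [hi']; exact Nat.Coprime.pow_left i ((Fact.out : p.Prime).coprime_iff_not_dvd.2 hv))]
        exact (prime_dvd_orderOf hPp n.2 (fun h => hn (Subtype.ext h))).mul_right _
      have h := D.count hroot v hsing
      rw [Finset.filter_true_of_mem fun η _ => hfixC v hvC η] at h
      set t : ℕ := (Finset.univ.erase (trivialChar P)).card
      have hn : ‖χ.1 v‖ = ‖χ.1 1‖ := by
        have h1 : χ.1 v * conj (χ.1 v) = ((t : ℝ) * t : ℝ) := by
          rw [← hcardT] at h; push_cast at h ⊢; linear_combination h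
        rw [Complex.mul_conj] at h1
        have h2 : Complex.normSq (χ.1 v) = (t : ℝ) * t := by exact_mod_cast h1
        rw [hdeg, ← hcardT, Nat.cast_add, Nat.cast_one, add_sub_cancel_right, Complex.norm_natCast,
          Complex.norm_def, h2, Real.sqrt_mul_self (Nat.cast_nonneg t)]
      obtain ⟨d, ρ, -, hρ⟩ := χ.2
      rw [← hρ] at hn
      obtain ⟨a, ha⟩ := (CharInt.norm_eq_iff_scalar ρ v).1 hn
      refine Subgroup.mem_center_iff.2 fun g => commutatorElement_eq_one_iff_commute.1 (hfaith _ ?_)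
      rw [← hρ]
      have hval : ρ ⁅g, v⁆ = 1 := by
        rw [commutatorElement_def, map_mul, map_mul, map_mul, ha, mul_smul_comm, mul_one, smul_mul_assoc,
          ← map_mul, mul_inv_cancel, map_one, ← ha, ← map_mul, mul_inv_cancel, map_one]
      show LinearMap.trace ℂ _ (ρ ⁅g, v⁆) = LinearMap.trace ℂ _ (ρ 1)
      rw [hval, map_one ρ]
  by_cases hsyl : p ∣ P.index
  · right
    obtain ⟨y, hy, hyP⟩ : ∃ y : G, (∃ j : ℕ, orderOf y = p ^ j) ∧ y ∉ P := by
      by_contra! hall
      let R : Sylow p G := default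
      refine R.not_dvd_index (hsyl.trans (Subgroup.index_dvd_of_le fun x hx => ?_))
      obtain ⟨j, hj⟩ := (IsPGroup.iff_orderOf (p := p)).1 R.2 ⟨x, hx⟩
      exact hall x ⟨j, by rwa [Subgroup.orderOf_mk] at hj⟩
    obtain ⟨j, hj⟩ := hy
    -- a `p`-element outside `P` whose `p`th power is inside
    obtain ⟨w, hwP, hwp, i, hwi⟩ : ∃ w : G, w ∉ P ∧ w ^ p ∈ P ∧ ∃ i, orderOf w = p ^ i := by
      by_contra! hcon
      have : ∀ i, y ^ p ^ i ∉ P := by
        intro i
        induction i with
        | zero => simpa using hyP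
        | succ i ih =>
          intro h
          obtain ⟨k, -, hk⟩ := (Nat.dvd_prime_pow Fact.out).1
            ((orderOf_pow_dvd (x := y) (p ^ i)).trans hj.dvd)
          exact hcon _ ih (by rwa [← pow_mul, ← pow_succ]) k hk
      exact this j (by rw [← hj, pow_orderOf_eq_one]; exact P.one_mem)
    have hsing : ∀ n : P, p ∣ orderOf ((n : G) * w) := fun n => by
      have hne : (n : G) * w ≠ 1 := fun h => hwP (by
        rw [eq_inv_of_mul_eq_one_right h]; exact P.inv_mem n.2)
      exact prime_dvd_orderOf (hPp.to_sup_of_normal_left (IsPGroup.of_card (n := i)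
        (G := Subgroup.zpowers w) (p := p) (by rw [Nat.card_zpowers, hwi])))
        (Subgroup.mul_mem_sup n.2 (Subgroup.mem_zpowers w)) hne
    have h := D.count hroot w fun n _ => hsing n
    have hw1 := mul_conj_eq_one χ hroot (by simpa using hsing 1)
    rw [hw1, add_sub_cancel] at h
    have hF : ((Finset.univ.erase (trivialChar P)).filter fun η => conjFun P η.1 w = η.1).card = 1 := by
      refine Nat.eq_of_mul_eq_mul_left (Nat.card_pos (α := P)) ?_
      rw [mul_one]; exact_mod_cast h.symm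
    obtain ⟨η0, hη0⟩ := Finset.card_eq_one.1 hF
    have hη0' := Finset.mem_filter.1 (hη0 ▸ Finset.mem_singleton_self η0)
    obtain ⟨l0, hl0⟩ := hall η0
    have hl0f : ∀ n, l0 (MulAut.conjNormal w n) = l0 n := fun n => by
      rw [hl0]; exact congrFun hη0'.2 n
    have huniq : ∀ l : P →* ℂ, (∀ n, l (MulAut.conjNormal w n) = l n) → l = 1 ∨ l = l0 := by
      intro l hl
      by_cases h1 : l = 1
      · exact Or.inl h1
      · right
        have hm : (⟨l, isIrrCharacter_of_monoidHom l⟩ : IrrCharacter P) ∈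
            (Finset.univ.erase (trivialChar P)).filter fun η => conjFun P η.1 w = η.1 :=
          Finset.mem_filter.2 ⟨Finset.mem_erase.2 ⟨fun e => h1 (MonoidHom.ext fun n => by
            simpa [trivialChar] using congrFun (congrArg Subtype.val e) n), Finset.mem_univ _⟩, funext hl⟩
        rw [hη0, Finset.mem_singleton] at hm
        refine MonoidHom.ext fun n => ?_
        rw [hl0]
        exact congrFun (congrArg Subtype.val hm) n
    have hl01 : l0 ≠ 1 := fun e => Finset.ne_of_mem_erase hη0'.1 (Subtype.ext (by rw [← hl0, e]; rfl))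
    have hp2 : p = 2 := by
      rcases huniq (l0 * l0) (fun n => by simp [hl0f n]) with h2 | h2
      · by_contra hne
        refine hl01 (MonoidHom.ext fun n => ?_)
        have h3 : l0 n * l0 n = 1 := by simpa using DFunLike.congr_fun h2 n
        have h4 : l0 n ^ p = 1 := by
          rw [← map_pow, show n ^ p = 1 from Subtype.ext (helem n n.2), map_one]
        obtain ⟨k, hk⟩ := (Fact.out : p.Prime).odd_of_ne_two hne
        rw [hk, pow_add, pow_mul, pow_two, h3, one_pow, one_mul, pow_one] at h4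
        rw [MonoidHom.one_apply]; exact h4
      · refine absurd (MonoidHom.ext fun n => ?_) hl01
        have h3 : l0 n * l0 n = l0 n := by simpa using DFunLike.congr_fun h2 n
        have h4 : l0 n ≠ 0 := fun e => by
          have := map_mul l0 n n⁻¹
          rw [mul_inv_cancel, map_one, e, zero_mul] at this
          exact one_ne_zero this
        rw [MonoidHom.one_apply]
        exact (mul_eq_left₀ h4).1 h3
    subst hp2
    have hwC : w ∉ C := fun h => hwP (hCpart w h ⟨i, hwi⟩)
    -- conjugation by `w` on the linear characters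
    let cw : (P →* ℂ) → (P →* ℂ) := fun l => l.comp (MulAut.conjNormal w).toMonoidHom
    have hsq : ∀ l : P →* ℂ, l * l = 1 := fun l => MonoidHom.ext fun n => by
      rw [MonoidHom.mul_apply, MonoidHom.one_apply, ← map_mul,
        show n * n = 1 from Subtype.ext (by rw [Subgroup.coe_mul, ← pow_two]; exact helem n n.2), map_one]
    have hcw2 : ∀ l, cw (cw l) = l := fun l => MonoidHom.ext fun n => by
      show l (MulAut.conjNormal w (MulAut.conjNormal w n)) = l n
      refine congrArg l (Subtype.ext ?_)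
      rw [MulAut.conjNormal_apply, MulAut.conjNormal_apply,
        show w * (w * n * w⁻¹) * w⁻¹ = (w ^ 2) * n * (w ^ 2)⁻¹ by simp [pow_two, mul_assoc],
        D.comm _ hwp n n.2, mul_inv_cancel_right]
    have hstep : ∀ l, cw l = l ∨ cw l = l * l0 := fun l => by
      rcases huniq (cw l * l) (fun n => by
        have := DFunLike.congr_fun (hcw2 l) n
        show l (MulAut.conjNormal w (MulAut.conjNormal w n)) * l (MulAut.conjNormal w n) = _
        rw [show l (MulAut.conjNormal w (MulAut.conjNormal w n)) = l n from this, mul_comm]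
        rfl) with h2 | h2
      · left
        rw [← mul_one (cw l), ← hsq l, ← mul_assoc, h2, one_mul]
      · right
        rw [mul_comm l l0, ← h2, mul_assoc, hsq, mul_one]
    obtain ⟨l1, hl1⟩ : ∃ l, cw l ≠ l := by
      by_contra! hall'
      refine hwC (Subgroup.mem_centralizer_iff.2 fun n hn => ?_)
      have h1 : (MulAut.conjNormal w (⟨n, hn⟩ : P)) * (⟨n, hn⟩ : P)⁻¹ = 1 := Subtype.ext (hfaith _ (by
        rw [D.hres, show χ.1 1 = χ.1 ((1 : P) : G) from rfl, D.hres]
        refine Finset.sum_congr rfl fun η _ => ?_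
        obtain ⟨l, hl⟩ := hall η
        rw [← hl, map_mul, show l (MulAut.conjNormal w _) = l _ from DFunLike.congr_fun (hall' l) _,
          ← map_mul, mul_inv_cancel]))
      have h2 := congrArg Subtype.val (mul_inv_eq_one.1 h1)
      rw [MulAut.conjNormal_apply, mul_inv_eq_iff_eq_mul] at h2
      exact h2.symm
    have hthree : ∀ l : P →* ℂ, l = 1 ∨ l = l0 ∨ l = l1 ∨ l = l1 * l0 := by
      intro l
      by_cases hl : cw l = l
      · rcases huniq l (fun n => DFunLike.congr_fun hl n) with h2 | h2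
        · exact Or.inl h2
        · exact Or.inr (Or.inl h2)
      · have e1 := (hstep l).resolve_left hl
        have e2 := (hstep l1).resolve_left hl1
        have h3 : ∀ n, (l * l1) (MulAut.conjNormal w n) = (l * l1) n := fun n => by
          have a1 := DFunLike.congr_fun e1 n
          have a2 := DFunLike.congr_fun e2 n
          have a3 := DFunLike.congr_fun (hsq l0) n
          simp only [MonoidHom.mul_apply, MonoidHom.one_apply] at a1 a2 a3 ⊢
          change l (MulAut.conjNormal w n) = _ at a1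
          change l1 (MulAut.conjNormal w n) = _ at a2
          rw [a1, a2]; linear_combination (l n * l1 n) * a3
        rcases huniq _ h3 with h2 | h2
        · refine Or.inr (Or.inr (Or.inl ?_))
          rw [← mul_one l, ← hsq l1, ← mul_assoc, h2, one_mul]
        · refine Or.inr (Or.inr (Or.inr ?_))
          rw [mul_comm l1 l0, ← h2, mul_assoc, hsq, mul_one]
    have hle : (Finset.univ.erase (trivialChar P)).card ≤ 3 := by
      let mk : (P →* ℂ) → IrrCharacter P := fun l => ⟨l, isIrrCharacter_of_monoidHom l⟩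
      refine (Finset.card_le_card (t := {mk l0, mk l1, mk (l1 * l0)}) fun η hη => ?_).trans Finset.card_le_three
      obtain ⟨l, hl⟩ := hall η
      have he : η = mk l := Subtype.ext hl.symm
      rcases hthree l with h2 | h2 | h2 | h2
      · exact absurd (he.trans (Subtype.ext (by rw [h2]; rfl))) (Finset.ne_of_mem_erase hη)
      all_goals rw [he, h2]; simp
    have hP4 : Nat.card P = 4 := by
      obtain ⟨e, he⟩ := hPp.exists_card_eq
      have h2 : Nat.card P ≠ 2 := fun e2 => hnl (by rw [hdeg, e2]; norm_num)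
      have h1 : Nat.card P ≠ 1 := fun e1 => hP (Subgroup.card_eq_one.1 e1)
      rcases e with _ | _ | _ | e
      · exact absurd (he.trans (pow_zero 2)) h1
      · exact absurd (he.trans (pow_one 2)) h2
      · exact he.trans (by norm_num)
      · exfalso
        have : 2 ^ 3 ≤ Nat.card P := he ▸ Nat.pow_le_pow_right two_pos (by omega)
        omega
    exact ⟨rfl, four_case D hPp hP hfaith hCeq hCab hPZ hP4 hmax w η0
      (Finset.ne_of_mem_erase hη0'.1) hη0'.2 hwC⟩
  · left
    refine ⟨?_, ⟨inferInstance, helem⟩, hCeq, hPZ, fun lam mu hlam hlam1 hlam2 hmu hmu1 hmu2 => ?_, hdeg⟩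
    · have h := congrArg (fun x => x.factorization p) (Subgroup.card_mul_index P).symm
      simp only [Nat.factorization_mul Nat.card_pos.ne' Subgroup.index_ne_zero_of_finite,
        Finsupp.add_apply, Nat.factorization_eq_zero_of_not_dvd hsyl, add_zero] at h
      exact h.symm
    · obtain ⟨l, rfl⟩ := IsCharacter.exists_monoidHom hlam hlam1
      obtain ⟨m, rfl⟩ := IsCharacter.exists_monoidHom hmu hmu1
      obtain ⟨g1, hg1⟩ := D.htrans ⟨m, isIrrCharacter_of_monoidHom m⟩ fun e =>
        hmu2 (congrArg Subtype.val e)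
      obtain ⟨g2, hg2⟩ := D.htrans ⟨l, isIrrCharacter_of_monoidHom l⟩ fun e =>
        hlam2 (congrArg Subtype.val e)
      refine ⟨g2⁻¹ * g1, fun x hx hgx => ?_⟩
      have h : (⇑m : P → ℂ) = conjFun P l (g2⁻¹ * g1) := by
        rw [show (⇑l : P → ℂ) = conjFun P D.θ.1 g2 from hg2, ← conjFun_mul, mul_inv_cancel_left]
        exact hg1
      rw [h]
      exact congrArg l (Subtype.ext (by simp [mul_assoc]))

end Cfsg.Agent.S4751
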