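import Cfsg.Statements.S4752
import Cfsg.Agent.Lib.ThreeExtra.Lift
import Cfsg.Agent.Lib.ThreeExtra.EOne
import Cfsg.Agent.Lib.Char.KernelSum

set_option autoImplicit false
open Cfsg

namespace Cfsg.Agent.S4752

/-- Let G be a finite group whose Sylow 3-subgroup P is extraspecial of order 27 and exponent 3, with N_G(P) ≤ C_G(Z(P)), and let M be a maximal ideal of the algebraic integers containing 3, B the principal 3-block of G, k its number of irreducible characters, k₀ the number of those of height zero, l its 3-regular rank (number of irreducible Brauer characters), and e the index of P·C_G(P) in N_G(P) (the order of the inertial quotient). Then e = 1 gives (k, k₀, l) = (11, 9, 1); e = 2 gives (10, 6, 2); e = 4 gives (14, 6, 4); e = 8 gives (16, 6, 5). -/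
theorem result {G : Type*} [Group G] [Finite G] (P : Sylow 3 G) (hE : Cfsg.IsExtraspecial 3 ↥(P : Subgroup G)) (h27 : Nat.card ↥(P : Subgroup G) = 27) (hexp : ∀ x ∈ (P : Subgroup G), x ^ 3 = 1) (hNC : ∀ g ∈ Subgroup.normalizer ((P : Subgroup G) : Set G), ∀ z ∈ (P : Subgroup G), (∀ y ∈ (P : Subgroup G), z * y = y * z) → g * z = z * g) (M : Ideal Cfsg.AlgInt) (hM : Cfsg.IsPModular 3 M) (k k₀ l e : ℕ) (hk : Nat.card ↥(Cfsg.principalBlock M G) = k) (hk₀ : Nat.card {χ : Cfsg.IrrCharacter G // χ ∈ Cfsg.principalBlock M G ∧ Cfsg.blockHeight 3 (Cfsg.principalBlock M G) (χ : G → ℂ) = 0} = k₀) (hl : Cfsg.blockRank 3 (Cfsg.principalBlock M G) = l) (he : ((P : Subgroup G) ⊔ Subgroup.centralizer ((P : Subgroup G) : Set G)).relIndex (Subgroup.normalizer ((P : Subgroup G) : Set G)) = e) : (e = 1 → k = 11 ∧ k₀ = 9 ∧ l = 1) ∧ (e = 2 → k = 10 ∧ k₀ = 6 ∧ l = 2) ∧ (e = 4 → k = 14 ∧ k₀ = 6 ∧ l = 4) ∧ (e = 8 → k = 16 ∧ k₀ = 6 ∧ l = 5) := by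
  classical
  haveI : Fintype G := Fintype.ofFinite G
  haveI : Fact (Nat.Prime 3) := ⟨Nat.prime_three⟩
  haveI : M.IsMaximal := hM.2.1
  obtain ⟨z, h⟩ := Cfsg.Agent.ThreeExtra.exists_hyp P hE h27 hexp hNC
  have hh : ∀ χ : Cfsg.IrrCharacter G,
      Cfsg.blockHeight 3 (Cfsg.principalBlock M G) χ.1 = 0 ↔
        ¬ (3 : ℤ) ∣ (Cfsg.Agent.Char.degree χ : ℤ) := by
    intro χ
    have h0 : sInf ((fun ψ : Cfsg.IrrCharacter G =>
        (Cfsg.charDegree (ψ : G → ℂ)).factorization 3) '' Cfsg.principalBlock M G) = 0 :=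
      Nat.sInf_eq_zero.2 (Or.inl ⟨_, Cfsg.Agent.Blocks.trivial_mem_principalBlock, by
        show (Cfsg.charDegree (Cfsg.Agent.Char.trivialChar G).1).factorization 3 = 0; rw [Cfsg.Agent.Char.charDegree_eq_degree]
        rw [show Cfsg.Agent.Char.degree (Cfsg.Agent.Char.trivialChar G) = 1 from
          Nat.cast_injective (R := ℂ) (by rw [← Cfsg.Agent.Char.apply_one_eq_degree]; simp [Cfsg.Agent.Char.trivialChar])]
        simp⟩)
    rw [Cfsg.blockHeight, h0, tsub_zero, Cfsg.Agent.Char.charDegree_eq_degree,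
      Nat.factorization_eq_zero_iff]
    constructor
    · rintro (h3 | h3 | h3)
      · exact absurd Nat.prime_three h3
      · exact fun h' => h3 (Int.natCast_dvd_natCast.1 h')
      · exact absurd h3 (Cfsg.Agent.Char.degree_pos χ).ne'
    · exact fun h' => Or.inr (Or.inl fun h3 => h' (Int.natCast_dvd_natCast.2 h3))
  have hcongr : Nat.card {χ : Cfsg.IrrCharacter G // χ ∈ Cfsg.principalBlock M G ∧
      ¬ (3 : ℤ) ∣ (Cfsg.Agent.Char.degree χ : ℤ)} = k₀ := by
    rw [← hk₀]
    exact Nat.card_congr (Equiv.subtypeEquivRight fun χ => and_congr_right fun _ => (hh χ).symm)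
  have key : 2 ∣ e → (e = 2 ∨ e = 4 ∨ e = 8) → k + 2 * (8 / e) = 18 ∧ k₀ = 6 ∧ l + 8 / e = 6 := by
    intro hev he'
    obtain ⟨r, x, hre, hr⟩ := h.exists_reps he hev
    have hr' : r = 1 ∨ r = 2 ∨ r = 4 := by
      rcases he' with rfl | rfl | rfl <;> omega
    obtain ⟨l', h1, h2, h3, h4⟩ := Cfsg.Agent.ThreeExtra.principal_invariants
      (fun j => h.le_centralizer_z (hr.mem j)) (h.toData hr) (h.toDataCentralizer hr) hM hr'
    have hd : 8 / e = r := by
      rcases he' with rfl | rfl | rfl <;> omega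
    rw [hk] at h2
    rw [hl] at h3
    rw [hcongr] at h4
    omega
  refine ⟨fun h1 => ?_, fun h2 => ?_, fun h4 => ?_, fun h8 => ?_⟩
  · subst h1
    obtain ⟨a, b, c⟩ := Cfsg.Agent.ThreeExtra.invariants_of_trivial h hE he hM
    rw [hk] at a; rw [hl] at b; rw [hcongr] at c
    exact ⟨a, c, b⟩
  · subst h2; have := key (by norm_num) (Or.inl rfl); omega
  · subst h4; have := key (by norm_num) (Or.inr (Or.inl rfl)); omega
  · subst h8; have := key (by norm_num) (Or.inr (Or.inr rfl)); omega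

end Cfsg.Agent.S4752
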