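import Cfsg.Statements.S4754
import Cfsg.Agent.Lib.BlockCount.Involve

set_option autoImplicit false
open Cfsg

namespace Cfsg.Agent.S4754

/-- For elements x, y of a finite group G, the conjugacy class of x y equals the set of all products of a conjugate of x with a conjugate of y if and only if χ(1) χ(a x a⁻¹ b y b⁻¹) = χ(x) χ(y) for all a, b ∈ G and every irreducible character χ. -/
theorem result {G : Type*} [Group G] [Finite G] (x y : G) : (∀ z : G, IsConj (x * y) z ↔ ∃ a b : G, z = a * x * a⁻¹ * (b * y * b⁻¹)) ↔ ∀ (a b : G) (χ : Cfsg.IrrCharacter G), (χ : G → ℂ) 1 * (χ : G → ℂ) (a * x * a⁻¹ * (b * y * b⁻¹)) = (χ : G → ℂ) x * (χ : G → ℂ) y := by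
  haveI := Fintype.ofFinite G
  constructor
  · intro h a b χ
    have hcl := Cfsg.Agent.Char.IsCharacter.isClassFunction (Cfsg.Agent.Char.irr_isCharacter χ)
    have key : ∀ c d : G, (χ : G → ℂ) (c * x * c⁻¹ * (d * y * d⁻¹)) = (χ : G → ℂ) (x * y) :=
      fun c d => (Cfsg.Agent.Char.IsClassFunction.apply_of_isConj hcl ((h _).mpr ⟨c, d, rfl⟩)).symm
    have h2 := Cfsg.Agent.BlockCount.mul_eq_sum_conj χ.2 x y
    have h3 : ∀ g : G, (χ : G → ℂ) (x * (g * y * g⁻¹)) = (χ : G → ℂ) (x * y) := fun g => by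
      simpa using key 1 g
    rw [Finset.sum_congr rfl (fun g _ => h3 g), Finset.sum_const, Finset.card_univ, nsmul_eq_mul,
      ← Nat.card_eq_fintype_card, mul_assoc, mul_div_assoc] at h2
    have h4 := mul_left_cancel₀ Cfsg.Agent.Char.card_ne_zero h2
    rw [key a b, h4, mul_div_cancel₀ _ (Cfsg.Agent.Char.IsIrrCharacter.apply_one_ne_zero χ.2)]
  · intro h z
    constructor
    · intro hz
      obtain ⟨c, rfl⟩ := isConj_iff.mp hz
      exact ⟨c, c, by group⟩
    · rintro ⟨a, b, rfl⟩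
      rw [Cfsg.Agent.Char.isConj_iff_forall_irr]
      intro χ
      refine mul_left_cancel₀ (Cfsg.Agent.Char.IsIrrCharacter.apply_one_ne_zero χ.2) ?_
      have h1 := h 1 1 χ
      simp only [one_mul, inv_one, mul_one] at h1
      rw [h a b χ, h1]

end Cfsg.Agent.S4754
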