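import Cfsg.Statements.S4755
import Cfsg.Agent.S4754
import Cfsg.Agent.Lib.Char.Linear

set_option autoImplicit false
open scoped commutatorElement
open Cfsg

namespace Cfsg.Agent.S4755

/-- Let x, y be non-identity elements of the finite group G such that χ(x' y') = χ(x') χ(y') for all conjugates x' of x, y' of y and every irreducible character χ. Then the conjugacy class of x y is the set of all products of a conjugate of x with a conjugate of y; every irreducible character of degree greater than 1 vanishes at x y; and the conjugacy class of x y is the coset of the commutator subgroup containing x y. -/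
theorem result {G : Type*} [Group G] [Finite G] (x y : G) (hx : x ≠ 1) (hy : y ≠ 1) (h : ∀ (a b : G) (χ : Cfsg.IrrCharacter G), (χ : G → ℂ) (a * x * a⁻¹ * (b * y * b⁻¹)) = (χ : G → ℂ) (a * x * a⁻¹) * (χ : G → ℂ) (b * y * b⁻¹)) : (∀ z : G, IsConj (x * y) z ↔ ∃ a b : G, z = a * x * a⁻¹ * (b * y * b⁻¹)) ∧ (∀ χ : Cfsg.IrrCharacter G, (χ : G → ℂ) 1 ≠ 1 → (χ : G → ℂ) (x * y) = 0) ∧ (∀ z : G, IsConj (x * y) z ↔ (x * y)⁻¹ * z ∈ commutator G) := by
  haveI := Fintype.ofFinite G
  have hcl := fun χ : Cfsg.IrrCharacter G =>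
    Cfsg.Agent.Char.IsCharacter.isClassFunction (Cfsg.Agent.Char.irr_isCharacter χ)
  have hval : ∀ (a b : G) (χ : Cfsg.IrrCharacter G),
      (χ : G → ℂ) (a * x * a⁻¹ * (b * y * b⁻¹)) = (χ : G → ℂ) (x * y) := by
    intro a b χ
    have h1 := h 1 1 χ
    simp only [one_mul, inv_one, mul_one] at h1
    rw [h a b χ, hcl χ x a, hcl χ y b, h1]
  have hvan : ∀ χ : Cfsg.IrrCharacter G, (χ : G → ℂ) 1 ≠ 1 → (χ : G → ℂ) (x * y) = 0 := by
    intro χ hne
    have h2 := Cfsg.Agent.BlockCount.mul_eq_sum_conj χ.2 x y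
    have h3 : ∀ g : G, (χ : G → ℂ) (x * (g * y * g⁻¹)) = (χ : G → ℂ) (x * y) := fun g => by
      simpa using hval 1 g χ
    have h1 := h 1 1 χ
    simp only [one_mul, inv_one, mul_one] at h1
    rw [Finset.sum_congr rfl (fun g _ => h3 g), Finset.sum_const, Finset.card_univ, nsmul_eq_mul,
      ← Nat.card_eq_fintype_card, mul_assoc, mul_div_assoc] at h2
    have h4 := mul_left_cancel₀ Cfsg.Agent.Char.card_ne_zero h2
    rw [eq_div_iff (Cfsg.Agent.Char.IsIrrCharacter.apply_one_ne_zero χ.2), ← h1] at h4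
    have h5 : (χ : G → ℂ) (x * y) * ((χ : G → ℂ) 1 - 1) = 0 := by rw [mul_sub, h4, mul_one, sub_self]
    exact (mul_eq_zero.mp h5).resolve_right (sub_ne_zero.mpr hne)
  have hclass : ∀ z : G, IsConj (x * y) z ↔ ∃ a b : G, z = a * x * a⁻¹ * (b * y * b⁻¹) := by
    intro z
    constructor
    · intro hz
      obtain ⟨c, rfl⟩ := isConj_iff.mp hz
      exact ⟨c, c, by group⟩
    · rintro ⟨a, b, rfl⟩
      rw [Cfsg.Agent.Char.isConj_iff_forall_irr]
      exact fun χ => (hval a b χ).symm
  refine ⟨hclass, hvan, fun z => ⟨?_, ?_⟩⟩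
  · intro hz
    obtain ⟨c, rfl⟩ := isConj_iff.mp hz
    have : (x * y)⁻¹ * (c * (x * y) * c⁻¹) = ⁅(x * y)⁻¹, c⁆ := by rw [commutatorElement_def]; group
    rw [this]
    exact Subgroup.commutator_mem_commutator (Subgroup.mem_top _) (Subgroup.mem_top _)
  · intro hz
    classical
    by_contra hn
    have h0 := Cfsg.Agent.Char.sum_irr_mul_conj (x * y) z
    rw [if_neg hn] at h0
    have hterm : ∀ χ : Cfsg.IrrCharacter G, (χ : G → ℂ) (x * y) * (starRingEnd ℂ) ((χ : G → ℂ) z) =
        if (χ : G → ℂ) 1 = 1 then 1 else 0 := by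
      intro χ
      split_ifs with h1
      · obtain ⟨lam, hlam⟩ :=
          Cfsg.Agent.Char.IsCharacter.exists_monoidHom (Cfsg.Agent.Char.irr_isCharacter χ) h1
        have hv : ∀ g, (χ : G → ℂ) g = lam g := fun g => by rw [← hlam]
        have hk : lam z = lam (x * y) := by
          have hcomm : commutator G ≤ (lam.toHomUnits).ker := Abelianization.commutator_subset_ker _
          have h6 := congrArg Units.val (MonoidHom.mem_ker.mp (hcomm hz))
          simp only [MonoidHom.coe_toHomUnits, Units.val_one] at h6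
          calc lam z = lam (x * y * ((x * y)⁻¹ * z)) := by rw [mul_inv_cancel_left]
            _ = lam (x * y) := by
              rw [map_mul lam (x * y), h6, mul_one]
        rw [hv, hv, hk]
        exact Cfsg.Agent.Char.normSq_linear lam _
      · rw [hvan χ h1, zero_mul]
    rw [Finset.sum_congr rfl (fun χ _ => hterm χ), Finset.sum_boole, Nat.cast_eq_zero,
      Finset.card_eq_zero, Finset.filter_eq_empty_iff] at h0
    exact h0 (Finset.mem_univ (Cfsg.Agent.Char.trivialChar G)) (by simp)

end Cfsg.Agent.S4755
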