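import Cfsg.Statements.S4756
import Cfsg.Agent.Lib.Char.TwoDegrees
import Cfsg.Agent.Lib.BlockCount.Involve
import Cfsg.Agent.Lib.Coprime.Commutator
import Cfsg.Agent.Lib.Frobenius.FixedPointFree

set_option autoImplicit false
open Cfsg
open scoped Classical ComplexConjugate commutatorElement IsMulCommutative
open Cfsg.Agent Cfsg.Agent.Char

set_option linter.style.haveILetI false

namespace Cfsg.Agent.S4756

universe u

variable {G : Type u} [Group G] [Fintype G]

lemma comm_apply_linear {χ : IrrCharacter G} (h : Char.degree χ = 1) (a b : G) :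
    χ.1 (a * b) = χ.1 a * χ.1 b := by
  obtain ⟨l, hl⟩ := IsCharacter.exists_monoidHom (irr_isCharacter χ)
    (by rw [apply_one_eq_degree, h, Nat.cast_one])
  rw [← hl, map_mul]

lemma card_linear_filter :
    (Finset.univ.filter fun χ : IrrCharacter G => Char.degree χ = 1).card = (commutator G).index := by
  rw [← card_linear (G := G), Nat.card_eq_fintype_card, Fintype.card_subtype]
  congr 1
  refine Finset.filter_congr fun χ _ => ?_
  rw [apply_one_eq_degree, Nat.cast_eq_one]

lemma sum_linear_normSq (g : G) :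
    ∑ χ ∈ Finset.univ.filter (fun χ : IrrCharacter G => Char.degree χ = 1), χ.1 g * conj (χ.1 g) =
      ((commutator G).index : ℂ) := by
  rw [Finset.sum_congr rfl fun χ hχ => ?_, Finset.sum_const, card_linear_filter, nsmul_eq_mul, mul_one]
  obtain ⟨l, hl⟩ := IsCharacter.exists_monoidHom (irr_isCharacter χ)
    (by rw [apply_one_eq_degree, (Finset.mem_filter.1 hχ).2, Nat.cast_one])
  rw [← hl]
  exact normSq_linear l g

/-- Vanishing of all nonlinear characters gives the order of the centraliser. -/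
lemma card_centralizer_eq {g : G} (h : ∀ χ : IrrCharacter G, Char.degree χ ≠ 1 → χ.1 g = 0) :
    Nat.card (Subgroup.centralizer ({g} : Set G)) = (commutator G).index := by
  have hs := sum_irr_mul_conj g g
  rw [if_pos (IsConj.refl g), ← Finset.sum_subset (Finset.subset_univ
    (Finset.univ.filter fun χ : IrrCharacter G => Char.degree χ = 1)) (fun χ _ hχ => by
      rw [h χ fun h' => hχ (Finset.mem_filter.2 ⟨Finset.mem_univ _, h'⟩), zero_mul]),
    sum_linear_normSq] at hs
  exact_mod_cast hs.symm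

/-- A small centraliser forces the nonlinear characters to vanish. -/
lemma vanish_of_small_centralizer {g : G}
    (h : ∀ d ∈ commutator G, d * g = g * d → d = 1) :
    ∀ χ : IrrCharacter G, Char.degree χ ≠ 1 → χ.1 g = 0 := by
  have hle : Nat.card (Subgroup.centralizer ({g} : Set G)) ≤ (commutator G).index := by
    rw [Subgroup.index_eq_card]
    refine Nat.card_le_card_of_injective (fun c => ((c : G) : G ⧸ commutator G)) fun a b hab => ?_
    refine Subtype.ext (inv_mul_eq_one.1 (h _ (QuotientGroup.eq.1 hab) ?_))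
    exact Subgroup.mem_centralizer_singleton_iff.1
      ((Subgroup.centralizer ({g} : Set G)).mul_mem ((Subgroup.centralizer _).inv_mem a.2) b.2)
  intro χ hχ
  set S := Finset.univ.filter fun χ : IrrCharacter G => Char.degree χ = 1
  have hs := sum_irr_mul_conj g g
  rw [if_pos (IsConj.refl g), ← Finset.sum_add_sum_compl S, sum_linear_normSq] at hs
  simp only [Complex.mul_conj, ← Complex.ofReal_sum] at hs
  have hs' : ((commutator G).index : ℝ) + ∑ χ ∈ Sᶜ, Complex.normSq (χ.1 g) =
      (Nat.card (Subgroup.centralizer ({g} : Set G)) : ℝ) := by exact_mod_cast hs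
  have hle' : (Nat.card (Subgroup.centralizer ({g} : Set G)) : ℝ) ≤ (commutator G).index := by
    exact_mod_cast hle
  have h0 : ∑ χ ∈ Sᶜ, Complex.normSq (χ.1 g) = 0 :=
    le_antisymm (by linarith) (Finset.sum_nonneg fun χ _ => Complex.normSq_nonneg _)
  exact Complex.normSq_eq_zero.1 ((Finset.sum_eq_zero_iff_of_nonneg
    fun χ _ => Complex.normSq_nonneg _).1 h0 χ (by simp [S, hχ]))

/-- Elements of prime power orders for different primes. -/
def Mixed (x y : G) : Prop :=
  x ≠ 1 ∧ y ≠ 1 ∧ ∃ p q a b : ℕ, p.Prime ∧ q.Prime ∧ p ≠ q ∧ orderOf x = p ^ a ∧ orderOf y = q ^ b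

lemma mul_eq_zero_of_mult (hyp : ∀ (x y : G) (χ : IrrCharacter G), Mixed x y →
      χ.1 (x * y) = χ.1 x * χ.1 y)
    {x y : G} (hxy : Mixed x y) (χ : IrrCharacter G) (hχ : Char.degree χ ≠ 1) :
    χ.1 x * χ.1 y = 0 := by
  obtain ⟨hx, hy, p, q, a, b, hp, hq, hpq, hox, hoy⟩ := hxy
  have h := BlockCount.mul_eq_sum_conj χ.2 x y
  rw [Finset.sum_congr rfl (g := fun _ => χ.1 x * χ.1 y) fun t _ => ?_, Finset.sum_const,
    Finset.card_univ, nsmul_eq_mul, ← Nat.card_eq_fintype_card, mul_assoc (Nat.card G : ℂ),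
    mul_div_assoc] at h
  · have h1 := mul_left_cancel₀ card_ne_zero h
    rw [apply_one_eq_degree, eq_div_iff (Nat.cast_ne_zero.2 (Char.degree_pos χ).ne')] at h1
    have h2 : χ.1 x * χ.1 y * ((Char.degree χ : ℂ) - 1) = 0 := by linear_combination h1
    exact (mul_eq_zero.1 h2).resolve_right (sub_ne_zero.2 (by exact_mod_cast hχ))
  · have ho : orderOf (t * y * t⁻¹) = orderOf y :=
      orderOf_injective (MulAut.conj t).toMonoidHom (MulAut.conj t).injective y
    rw [hyp x _ χ ⟨hx, fun h => hy (conj_eq_one_iff.1 h), p, q, a, b, hp, hq, hpq, hox, ho.trans hoy⟩,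
      IsCharacter.isClassFunction (irr_isCharacter χ) y t]

lemma isSolvable_sylow {p : ℕ} [Fact p.Prime] (P : Sylow p G) : Group.IsSolvable (P : Subgroup G) := by
  haveI := P.2.isNilpotent
  infer_instance

/-- A character vanishing on the nontrivial elements of a Sylow subgroup. -/
lemma card_dvd_degree {r : ℕ} (R : Sylow r G) (χ : IrrCharacter G)
    (h : ∀ x ∈ (R : Subgroup G), x ≠ 1 → χ.1 x = 0) :
    Nat.card (R : Subgroup G) ∣ Char.degree χ := by
  haveI := Fintype.ofFinite (R : Subgroup G)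
  obtain ⟨k, hk⟩ := IsCharacter.exists_nat_classInner
    (IsCharacter.restrict (irr_isCharacter χ) (R : Subgroup G))
    (irr_isCharacter (trivialChar (R : Subgroup G)))
  rw [classInner, Finset.sum_eq_single (1 : (R : Subgroup G))
    (fun z _ hz => by
      show χ.1 (z : G) * _ = 0
      rw [h z z.2 (fun h' => hz (Subtype.ext h')), zero_mul])
    (fun h' => absurd (Finset.mem_univ _) h')] at hk
  rw [Subgroup.coe_one, apply_one_eq_degree] at hk
  refine ⟨k, ?_⟩
  rw [inv_mul_eq_iff_eq_mul₀ card_ne_zero] at hk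
  have h1 : ((Char.degree χ : ℕ) : ℂ) = ((Nat.card (R : Subgroup G) * k : ℕ) : ℂ) := by
    push_cast
    simpa [trivialChar] using hk
  exact_mod_cast h1

lemma sq_degree_lt (χ : IrrCharacter G) (hnt : χ ≠ trivialChar G) :
    Char.degree χ * Char.degree χ < Nat.card G := by
  rw [← sum_degree_sq (G := G), ← Finset.add_sum_erase _ _ (Finset.mem_univ (trivialChar G)),
    show Char.degree (trivialChar G) = 1 from degree_eq_of_apply_one (by simp [trivialChar]),
    one_pow, ← sq]
  have := Finset.single_le_sum (f := fun ψ : IrrCharacter G => Char.degree ψ ^ 2)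
    (fun _ _ => Nat.zero_le _) (Finset.mem_erase.2 ⟨hnt, Finset.mem_univ χ⟩)
  omega

lemma mult_of_structure (p : ℕ) [Fact p.Prime] (P : Sylow p G) (A : Subgroup G)
    (hPn : (P : Subgroup G).Normal) (hAcyc : IsCyclic A) (hAp : (Nat.card A).Coprime p)
    (hAP : A ⊔ (P : Subgroup G) = ⊤)
    (hC : IsMulCommutative ↥((P : Subgroup G) ⊓ Subgroup.centralizer (A : Set G)))
    (hDn : (⁅A, (P : Subgroup G)⁆).Normal)
    (hsup : ((P : Subgroup G) ⊓ Subgroup.centralizer (A : Set G)) ⊔ ⁅A, (P : Subgroup G)⁆ =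
      (P : Subgroup G))
    (hfpf : ∀ a ∈ A, a ≠ 1 → ∀ d ∈ ⁅A, (P : Subgroup G)⁆, a * d = d * a → d = 1)
    (x y : G) (χ : IrrCharacter G) (hxy : Mixed x y) :
    χ.1 (x * y) = χ.1 x * χ.1 y := by
  by_cases hd : Char.degree χ = 1
  · exact comm_apply_linear hd x y
  obtain ⟨hx, hy, q, r, a, b, hq, hr, hqr, hox, hoy⟩ := hxy
  haveI := hPn
  set D := ⁅A, (P : Subgroup G)⁆ with hDdef
  haveI := hDn
  have hAab : ∀ u ∈ A, ∀ v ∈ A, Commute u v := fun u hu v hv => by
    haveI := hAcyc
    exact congrArg Subtype.val (IsCyclic.commGroup.mul_comm (⟨u, hu⟩ : A) ⟨v, hv⟩)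
  have hG'D : commutator G ≤ D := by
    have hgen : ∀ g : G, ∃ u ∈ A, ∃ c ∈ (P : Subgroup G) ⊓ Subgroup.centralizer (A : Set G),
        (g : G ⧸ D) = (u : G ⧸ D) * (c : G ⧸ D) := by
      intro g
      obtain ⟨u, hu, w, hw, rfl⟩ := Subgroup.mem_sup_of_normal_right.1
        (hAP.symm ▸ Subgroup.mem_top g : g ∈ A ⊔ (P : Subgroup G))
      rw [← hsup] at hw
      obtain ⟨c, hc, d, hd', rfl⟩ := Subgroup.mem_sup_of_normal_right.1 hw
      refine ⟨u, hu, c, hc, ?_⟩
      rw [← QuotientGroup.mk_mul, QuotientGroup.eq, show (u * (c * d))⁻¹ * (u * c) = d⁻¹ by group]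
      exact D.inv_mem hd'
    rw [commutator_def, Subgroup.commutator_le]
    intro g _ h _
    obtain ⟨u, hu, c, hc, hg⟩ := hgen g
    obtain ⟨v, hv, e, he, hh⟩ := hgen h
    rw [← QuotientGroup.eq_one_iff, ← QuotientGroup.mk'_apply, map_commutatorElement]
    refine commutatorElement_eq_one_iff_commute.2 ?_
    simp only [QuotientGroup.mk'_apply]
    rw [hg, hh]
    let f := QuotientGroup.mk' D
    have c1 : Commute (f u) (f v) := (hAab u hu v hv).map f
    have c2 : Commute (f c) (f e) := Commute.map (congrArg Subtype.val (hC.is_comm.comm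
      (⟨c, hc⟩ : ↥((P : Subgroup G) ⊓ Subgroup.centralizer (A : Set G))) ⟨e, he⟩)) f
    have c3 : Commute (f u) (f e) := Commute.map (Subgroup.mem_centralizer_iff.1 he.2 u hu) f
    have c4 : Commute (f v) (f c) := Commute.map (Subgroup.mem_centralizer_iff.1 hc.2 v hv) f
    exact (c1.mul_right c3).mul_left (c4.symm.mul_right c2)
  -- outside `P` the nonlinear characters vanish
  have hvan : ∀ g : G, g ∉ (P : Subgroup G) → χ.1 g = 0 := by
    intro g hg
    refine vanish_of_small_centralizer (fun d hd' hdg => ?_) χ hd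
    have hg1 : orderOf (g : G ⧸ (P : Subgroup G)) ≠ 1 := fun h =>
      hg ((QuotientGroup.eq_one_iff g).1 (orderOf_eq_one_iff.1 h))
    obtain ⟨s, hs, hsd⟩ := Nat.exists_prime_and_dvd hg1
    haveI := Fact.mk hs
    have hsp : s ≠ p := by
      rintro rfl
      have := hsd.trans (orderOf_dvd_natCard _)
      rw [← Subgroup.index_eq_card] at this
      exact P.not_dvd_index this
    have hsg : s ∣ orderOf g := hsd.trans (orderOf_map_dvd (QuotientGroup.mk' (P : Subgroup G)) g)
    set z := g ^ (orderOf g / s)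
    have hz : orderOf z = s := by
      have hpos : 0 < orderOf g / s := Nat.div_pos (Nat.le_of_dvd (orderOf_pos g) hsg) hs.pos
      rw [orderOf_pow' g hpos.ne', Nat.gcd_eq_right (Nat.div_dvd_of_dvd hsg),
        Nat.div_div_self hsg (orderOf_pos g).ne']
    obtain ⟨S, hS⟩ := (IsPGroup.of_card (n := 1) (G := Subgroup.zpowers z) (p := s)
      (by rw [Nat.card_zpowers, hz, pow_one])).exists_le_sylow
    have hAidx : ¬ s ∣ A.index := by
      intro h
      have hsdis : Disjoint A (P : Subgroup G) := by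
        obtain ⟨k, hk⟩ := (IsPGroup.iff_card (p := p)).1 P.2
        exact disjoint_iff.2 (Subgroup.inf_eq_bot_of_coprime (by rw [hk]; exact hAp.pow_right k))
      have hcomp := (Subgroup.isComplement'_of_disjoint_and_mul_eq_univ hsdis
        (by rw [← Subgroup.mul_normal, hAP, Subgroup.coe_top])).card_mul_card
      rw [← A.card_mul_index] at hcomp
      rw [← Nat.eq_of_mul_eq_mul_left Nat.card_pos hcomp] at h
      obtain ⟨k, hk⟩ := (IsPGroup.iff_card (p := p)).1 P.2
      rw [hk] at h
      exact hsp ((Nat.prime_dvd_prime_iff_eq hs Fact.out).1 (hs.dvd_of_dvd_pow h))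
    let SA : Sylow s A := default
    have hSA : ¬ s ∣ ((SA : Subgroup A).map A.subtype).index := by
      rw [Subgroup.index_map_of_injective _ A.subtype_injective, Subgroup.range_subtype]
      exact hs.not_dvd_mul SA.not_dvd_index hAidx
    let S' : Sylow s G := (SA.2.map A.subtype).toSylow hSA
    obtain ⟨t, ht⟩ := MulAction.exists_smul_eq G S S'
    have hzS : t * z * t⁻¹ ∈ (S' : Subgroup G) := by
      rw [← ht, Sylow.smul_def, Sylow.pointwise_smul_def]
      exact ⟨z, hS (Subgroup.mem_zpowers z), rfl⟩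
    have hzA : t * z * t⁻¹ ∈ A := by
      obtain ⟨w, -, hw⟩ := hzS
      rw [← hw]; exact w.2
    have hd2 : t * d * t⁻¹ ∈ D := hDn.conj_mem d (hG'D hd') t
    have hcomm : Commute z d := ((show Commute d g from hdg).pow_right _).symm
    have h1 := hfpf _ hzA (fun h => by
      rw [conj_eq_one_iff] at h
      rw [h, orderOf_one] at hz
      exact hs.one_lt.ne hz) _ hd2 (by
        calc t * z * t⁻¹ * (t * d * t⁻¹) = t * (z * d) * t⁻¹ := by group
          _ = t * (d * z) * t⁻¹ := by rw [hcomm.eq]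
          _ = _ := by group)
    exact conj_eq_one_iff.1 h1
  -- one of the two lies outside `P`
  have hout : ∀ {w : G} {s k : ℕ}, s.Prime → s ≠ p → orderOf w = s ^ k → w ∈ (P : Subgroup G) → w = 1 := by
    intro w s k hs hsp how hw
    obtain ⟨j, hj⟩ := (IsPGroup.iff_orderOf (p := p)).1 P.2 ⟨w, hw⟩
    rw [Subgroup.orderOf_mk, how] at hj
    rw [← orderOf_eq_one_iff, how]
    exact Nat.eq_one_of_dvd_coprimes (Nat.Coprime.pow _ _ ((Nat.coprime_primes hs Fact.out).2 hsp))
      dvd_rfl (by rw [hj])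
  have hxy' : x ∉ (P : Subgroup G) ∨ y ∉ (P : Subgroup G) := by
    by_cases hqp : q = p
    · exact Or.inr fun h => hy (hout hr (fun hrp => hqr (hqp.trans hrp.symm)) hoy h)
    · exact Or.inl fun h => hx (hout hq hqp hox h)
  have hprod : x * y ∉ (P : Subgroup G) := by
    intro h
    have h1 : (x : G ⧸ (P : Subgroup G)) * (y : G ⧸ (P : Subgroup G)) = 1 := by
      rw [← QuotientGroup.mk_mul, QuotientGroup.eq_one_iff]; exact h
    have h2 : orderOf (x : G ⧸ (P : Subgroup G)) = 1 := by
      refine Nat.eq_one_of_dvd_coprimes (Nat.Coprime.pow a b ((Nat.coprime_primes hq hr).2 hqr))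
        (hox ▸ orderOf_map_dvd (QuotientGroup.mk' (P : Subgroup G)) x) ?_
      rw [eq_inv_of_mul_eq_one_left h1, orderOf_inv]
      exact hoy ▸ orderOf_map_dvd (QuotientGroup.mk' (P : Subgroup G)) y
    have h3 : (x : G ⧸ (P : Subgroup G)) = 1 := orderOf_eq_one_iff.1 h2
    rw [h3, one_mul] at h1
    exact hxy'.elim (fun hh => hh ((QuotientGroup.eq_one_iff x).1 h3))
      fun hh => hh ((QuotientGroup.eq_one_iff y).1 h1)
  rw [hvan _ hprod]
  rcases hxy' with h | h <;> rw [hvan _ h] <;> simp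

/-- The converse. -/
lemma structure_of_mult (hyp : ∀ (x y : G) (χ : IrrCharacter G), Mixed x y →
      χ.1 (x * y) = χ.1 x * χ.1 y)
    (hnp : ¬ ∃ p : ℕ, p.Prime ∧ IsPGroup p G) (hna : ¬ IsMulCommutative G) :
    ∃ (p : ℕ) (_ : Fact p.Prime) (P : Sylow p G) (A : Subgroup G), (P : Subgroup G).Normal ∧
      IsCyclic ↥A ∧ A ≠ ⊥ ∧ (Nat.card ↥A).Coprime p ∧ A ⊔ (P : Subgroup G) = ⊤ ∧
      IsMulCommutative ↥((P : Subgroup G) ⊓ Subgroup.centralizer (A : Set G)) ∧
      (⁅A, (P : Subgroup G)⁆).Normal ∧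
      ((P : Subgroup G) ⊓ Subgroup.centralizer (A : Set G)) ⊔ ⁅A, (P : Subgroup G)⁆ = (P : Subgroup G) ∧
      ((P : Subgroup G) ⊓ Subgroup.centralizer (A : Set G)) ⊓ ⁅A, (P : Subgroup G)⁆ = ⊥ ∧
      ∀ a ∈ A, a ≠ 1 → ∀ d ∈ ⁅A, (P : Subgroup G)⁆, a * d = d * a → d = 1 := by
  obtain ⟨χ₀, hχ₀⟩ : ∃ χ : IrrCharacter G, Char.degree χ ≠ 1 := by
    by_contra! h
    exact hna ⟨⟨forall_apply_one_iff_comm.1 fun χ => by rw [apply_one_eq_degree, h χ, Nat.cast_one]⟩⟩
  -- the exceptional prime of a nonlinear character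
  have hexc : ∀ χ : IrrCharacter G, Char.degree χ ≠ 1 →
      ∃ p, p.Prime ∧ ∀ r : ℕ, r.Prime → r ≠ p → ∀ R : Sylow r G,
        Nat.card (R : Subgroup G) ∣ Char.degree χ := by
    intro χ hχ
    by_cases h : ∀ (r : ℕ) (x : G) (a : ℕ), r.Prime → x ≠ 1 → orderOf x = r ^ a → χ.1 x = 0
    · refine ⟨2, Nat.prime_two, fun r hr _ R => card_dvd_degree R χ fun x hx hx1 => ?_⟩
      haveI := Fact.mk hr
      obtain ⟨a, ha⟩ := (IsPGroup.iff_orderOf (p := r)).1 R.2 ⟨x, hx⟩
      exact h r x a hr hx1 (by rwa [Subgroup.orderOf_mk] at ha)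
    push Not at h
    obtain ⟨p, x, a, hp, hx, hox, hne⟩ := h
    refine ⟨p, hp, fun r hr hrp R => card_dvd_degree R χ fun y hy hy1 => ?_⟩
    haveI := Fact.mk hr
    obtain ⟨b, hb⟩ := (IsPGroup.iff_orderOf (p := r)).1 R.2 ⟨y, hy⟩
    rw [Subgroup.orderOf_mk] at hb
    exact (mul_eq_zero.1 (mul_eq_zero_of_mult hyp
      ⟨hx, hy1, p, r, a, b, hp, hr, Ne.symm hrp, hox, hb⟩ χ hχ)).resolve_left hne
  choose! E hE using hexc
  set p := E χ₀
  haveI : Fact p.Prime := ⟨(hE χ₀ hχ₀).1⟩
  -- the index of the Sylow `E χ`-subgroup divides the degree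
  have hidx : ∀ χ : IrrCharacter G, Char.degree χ ≠ 1 → ∀ Q : Sylow (E χ) G,
      (Q : Subgroup G).index ∣ Char.degree χ := by
    intro χ hχ Q
    haveI : Fact (E χ).Prime := ⟨(hE χ hχ).1⟩
    refine (Nat.dvd_iff_prime_pow_dvd_dvd (Char.degree χ) _).2 fun r k hr hd => ?_
    rcases Nat.eq_zero_or_pos k with rfl | hk
    · simp
    haveI := Fact.mk hr
    have hne : r ≠ E χ := by
      intro h
      have h' := (dvd_pow_self r hk.ne').trans hd
      rw [h] at h'
      exact Q.not_dvd_index h'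
    let R : Sylow r G := default
    refine (Nat.dvd_trans ?_ ((hE χ hχ).2 r hr hne R))
    rw [R.card_eq_multiplicity]
    exact pow_dvd_pow r ((hr.pow_dvd_iff_le_factorization Nat.card_pos.ne').1
      (hd.trans (Subgroup.index_dvd_card _)))
  have hbig : ∀ χ : IrrCharacter G, Char.degree χ ≠ 1 → E χ = p := by
    intro χ hχ
    by_contra hne
    haveI : Fact (E χ).Prime := ⟨(hE χ hχ).1⟩
    let Q : Sylow (E χ) G := default
    let P : Sylow p G := default
    have key : ∀ ψ : IrrCharacter G, Char.degree ψ ≠ 1 → ∀ R : Sylow (E ψ) G,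
        (R : Subgroup G).index < Nat.card (R : Subgroup G) := by
      intro ψ hψ R
      have h1 := Nat.le_of_dvd (Char.degree_pos ψ) (hidx ψ hψ R)
      have h2 := sq_degree_lt ψ fun h => hψ (by
        rw [h]; exact degree_eq_of_apply_one (by simp [trivialChar]))
      have h3 := (R : Subgroup G).card_mul_index
      by_contra hle
      push Not at hle
      have := Nat.mul_le_mul_right (R : Subgroup G).index hle
      have := Nat.mul_le_mul h1 h1
      omega
    have h4 : Nat.card (Q : Subgroup G) ≤ (P : Subgroup G).index := by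
      refine Nat.le_of_dvd (Nat.pos_of_ne_zero Subgroup.index_ne_zero_of_finite) ?_
      refine (Nat.Coprime.dvd_of_dvd_mul_left ?_ ((P : Subgroup G).card_mul_index.symm ▸
        (Q : Subgroup G).card_subgroup_dvd_card))
      rw [Q.card_eq_multiplicity, P.card_eq_multiplicity]
      exact Nat.Coprime.pow _ _ ((Nat.coprime_primes Fact.out Fact.out).2 hne)
    have h5 : Nat.card (P : Subgroup G) ≤ (Q : Subgroup G).index := by
      refine Nat.le_of_dvd (Nat.pos_of_ne_zero Subgroup.index_ne_zero_of_finite) ?_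
      refine (Nat.Coprime.dvd_of_dvd_mul_left ?_ ((Q : Subgroup G).card_mul_index.symm ▸
        (P : Subgroup G).card_subgroup_dvd_card))
      rw [Q.card_eq_multiplicity, P.card_eq_multiplicity]
      exact Nat.Coprime.pow _ _ ((Nat.coprime_primes Fact.out Fact.out).2 (Ne.symm hne))
    have := key χ hχ Q
    have := key χ₀ hχ₀ P
    omega
  let P : Sylow p G := default
  have hn : ∀ χ : IrrCharacter G, Char.degree χ ≠ 1 → (P : Subgroup G).index ∣ Char.degree χ := by
    intro χ hχ
    have := hbig χ hχ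
    obtain ⟨Q, hQ⟩ : ∃ Q : Sylow (E χ) G, (Q : Subgroup G).index = (P : Subgroup G).index := by
      rw [this]; exact ⟨P, rfl⟩
    exact hQ ▸ hidx χ hχ Q
  have hn1 : (P : Subgroup G).index ≠ 1 := fun h =>
    hnp ⟨p, Fact.out, (Subgroup.index_eq_one.1 h ▸ P.2 : IsPGroup p (⊤ : Subgroup G)).of_equiv
      Subgroup.topEquiv⟩
  -- `P` is normal
  have hPn : (P : Subgroup G).Normal := by
    set K : Subgroup G := ⨅ r : (P : Subgroup G).index.primeFactors, Cfsg.pResidual r G
    haveI hKn : K.Normal := Subgroup.normal_iInf_normal fun r => Transfer.pResidual_normal _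
    have hcard : ∀ r : ℕ, r.Prime → r ≠ p → ¬ r ∣ Nat.card K := by
      intro r hr hrp hd
      haveI := Fact.mk hr
      by_cases hri : r ∈ (P : Subgroup G).index.primeFactors
      · refine not_dvd_card_pResidual_of_dvd_degree r hr (fun χ hχ =>
          (Nat.dvd_of_mem_primeFactors hri).trans (hn χ hχ)) (hd.trans (Subgroup.card_dvd_of_le ?_))
        exact iInf_le (fun r : (P : Subgroup G).index.primeFactors => Cfsg.pResidual r G) ⟨r, hri⟩
      · refine hri (hr.mem_primeFactors ?_ Subgroup.index_ne_zero_of_finite)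
        have h1 := hd.trans (Subgroup.card_subgroup_dvd_card K)
        rw [← (P : Subgroup G).card_mul_index] at h1
        refine (hr.dvd_mul.1 h1).resolve_left fun h => hrp ?_
        rw [P.card_eq_multiplicity] at h
        exact (Nat.prime_dvd_prime_iff_eq hr Fact.out).1 (hr.dvd_of_dvd_pow h)
    have hPK : (P : Subgroup G) ≤ K := by
      intro x hx
      refine Subgroup.mem_iInf.2 fun r => Subgroup.subset_closure ?_
      obtain ⟨j, hj⟩ := (IsPGroup.iff_orderOf (p := p)).1 P.2 ⟨x, hx⟩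
      rw [Subgroup.orderOf_mk] at hj
      show (orderOf x).Coprime r
      rw [hj]
      refine Nat.Coprime.pow_left j ((Nat.coprime_primes Fact.out (Nat.prime_of_mem_primeFactors r.2)).2
        fun h => P.not_dvd_index ((dvd_of_eq h).trans (Nat.dvd_of_mem_primeFactors r.2)))
    have hK : IsPGroup p K := IsPGroup.of_card (n := (Nat.card K).factorization p)
      (Nat.eq_prime_pow_of_unique_prime_dvd Nat.card_pos.ne' (fun {r} hr hd => by
        by_contra h; exact hcard r hr h hd) |>.trans (by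
          congr 1
          have := Nat.eq_prime_pow_of_unique_prime_dvd (p := p) (Nat.card_pos (α := K)).ne'
            (fun {r} hr hd => by by_contra h; exact hcard r hr h hd)
          conv_rhs => rw [this, (Fact.out : p.Prime).factorization_pow, Finsupp.single_eq_same]))
    have := P.3 hK hPK
    exact this ▸ hKn
  haveI := hPn
  have hcop : (Nat.card (P : Subgroup G)).Coprime (P : Subgroup G).index := by
    rw [P.card_eq_multiplicity]
    exact Nat.Coprime.pow_left _ ((Fact.out : p.Prime).coprime_iff_not_dvd.2 P.not_dvd_index)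
  obtain ⟨A, hA⟩ := Subgroup.exists_right_complement'_of_coprime hcop
  have hAcard : Nat.card A = (P : Subgroup G).index := by
    refine Nat.eq_of_mul_eq_mul_left (Nat.card_pos (α := (P : Subgroup G))) ?_
    rw [hA.card_mul, Subgroup.card_mul_index]
  have hAP : A ⊔ (P : Subgroup G) = ⊤ := by rw [sup_comm]; exact hA.sup_eq_top
  have hAp : (Nat.card A).Coprime p := by
    rw [hAcard]; exact ((Fact.out : p.Prime).coprime_iff_not_dvd.2 P.not_dvd_index).symm
  -- the quotient by `P` is abelian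
  haveI : Fintype (G ⧸ (P : Subgroup G)) := Fintype.ofFinite _
  have hquo : ∀ u v : G ⧸ (P : Subgroup G), u * v = v * u := by
    refine forall_apply_one_iff_comm.1 fun ψ => ?_
    by_contra h
    have h' : Char.degree ψ ≠ 1 := fun e => h (by rw [apply_one_eq_degree, e, Nat.cast_one])
    have hdi : Char.degree (inflate (P : Subgroup G) ψ) = Char.degree ψ :=
      degree_eq_of_apply_one (by simp [apply_one_eq_degree])
    have h1 := Nat.le_of_dvd (Char.degree_pos ψ) (hdi ▸ hn _ (hdi.symm ▸ h'))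
    have h2 := sq_degree_lt ψ fun e => h' (by rw [e]; exact degree_eq_of_apply_one (by simp [trivialChar]))
    rw [← Subgroup.index_eq_card] at h2
    have h3 := Nat.mul_le_mul h1 h1
    have h4 := Nat.le_mul_self (P : Subgroup G).index
    omega
  have hG'P : commutator G ≤ (P : Subgroup G) := by
    rw [commutator_def, Subgroup.commutator_le]
    intro a _ b _
    rw [← QuotientGroup.eq_one_iff, ← QuotientGroup.mk'_apply, map_commutatorElement]
    exact commutatorElement_eq_one_iff_commute.2 (hquo _ _)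
  have hdisj : A ⊓ (P : Subgroup G) = ⊥ := by rw [inf_comm]; exact hA.disjoint.eq_bot
  have hAab : ∀ a ∈ A, ∀ b ∈ A, a * b = b * a := by
    intro a ha b hb
    have h1 : ⁅a, b⁆ ∈ A ⊓ (P : Subgroup G) := ⟨by
      rw [commutatorElement_def]
      exact A.mul_mem (A.mul_mem (A.mul_mem ha hb) (A.inv_mem ha)) (A.inv_mem hb),
      hG'P (Subgroup.commutator_mem_commutator (Subgroup.mem_top a) (Subgroup.mem_top b))⟩
    rw [hdisj, Subgroup.mem_bot, commutatorElement_eq_one_iff_commute] at h1
    exact h1.eq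
  -- centralisers of elements of prime order in `A`
  have hCz : ∀ z ∈ A, (orderOf z).Prime →
      Nat.card (Subgroup.centralizer ({z} : Set G)) = (commutator G).index := by
    intro z hz hzp
    refine card_centralizer_eq fun χ hχ => ?_
    set r := orderOf z
    haveI := Fact.mk hzp
    have hrp : r ≠ p := fun h => (Fact.out : p.Prime).one_lt.ne'
      (Nat.eq_one_of_dvd_coprimes hAp (h ▸ Subgroup.orderOf_dvd_natCard A hz) dvd_rfl)
    have := hbig χ hχ
    obtain ⟨R, hR⟩ := (IsPGroup.of_card (n := 1) (G := Subgroup.zpowers z) (p := r)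
      (by rw [Nat.card_zpowers, pow_one])).exists_le_sylow
    -- vanishing from the degree
    obtain ⟨x, a, hxp, hxne, hox, hne⟩ : ∃ (x : G) (a : ℕ), p.Prime ∧ x ≠ 1 ∧ orderOf x = p ^ a ∧
        χ.1 x ≠ 0 := by
      by_contra! hall
      have hdvd : Nat.card (P : Subgroup G) ∣ Char.degree χ := card_dvd_degree P χ fun x hx hx1 => by
        obtain ⟨j, hj⟩ := (IsPGroup.iff_orderOf (p := p)).1 P.2 ⟨x, hx⟩
        rw [Subgroup.orderOf_mk] at hj
        exact hall x j Fact.out hx1 hj
      have h1 := Nat.le_of_dvd (Char.degree_pos χ) (hcop.mul_dvd_of_dvd_of_dvd hdvd (hn χ hχ))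
      rw [Subgroup.card_mul_index] at h1
      have h2 := sq_degree_lt χ fun e => hχ (by rw [e]; exact degree_eq_of_apply_one (by simp [trivialChar]))
      have h3 := Nat.le_mul_self (Char.degree χ)
      omega
    refine (mul_eq_zero.1 (mul_eq_zero_of_mult hyp ⟨hxne, fun h => hzp.ne_one (orderOf_eq_one_iff.2 h),
      p, r, a, 1, hxp, hzp, Ne.symm hrp, hox, (pow_one r).symm⟩ χ hχ)).resolve_left hne
  set C := (P : Subgroup G) ⊓ Subgroup.centralizer (A : Set G) with hCdef
  set D := ⁅A, (P : Subgroup G)⁆ with hDdef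
  have hAN : A ≤ Subgroup.normalizer ((P : Subgroup G) : Set G) := by
    rw [Subgroup.normalizer_eq_top_iff.2 hPn]; exact le_top
  have hcopAP : (Nat.card A).Coprime (Nat.card (P : Subgroup G)) := by
    rw [P.card_eq_multiplicity]; exact hAp.pow_right _
  have hsup : C ⊔ D = (P : Subgroup G) := by
    rw [sup_comm, hDdef, Subgroup.commutator_comm]
    exact Coprime.commutator_sup_centralizer hAN hcopAP (Or.inr (isSolvable_sylow P))
  have hDG : D ≤ commutator G := Subgroup.commutator_mono le_top le_top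
  obtain ⟨z, hz, hzp⟩ : ∃ z ∈ A, (orderOf z).Prime := by
    obtain ⟨r, hr, hrd⟩ := Nat.exists_prime_and_dvd (hAcard ▸ hn1 : Nat.card A ≠ 1)
    haveI := Fact.mk hr
    obtain ⟨z, hz⟩ := exists_prime_orderOf_dvd_card' r hrd
    exact ⟨z, z.2, by rw [Subgroup.orderOf_coe, hz]; exact hr⟩
  have hcnt : ∀ z ∈ A, (orderOf z).Prime → C = (P : Subgroup G) ⊓ Subgroup.centralizer ({z} : Set G) ∧
      C ⊓ D = ⊥ ∧ commutator G = D := by
    intro z hz hzp
    set Cz := (P : Subgroup G) ⊓ Subgroup.centralizer ({z} : Set G)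
    have hCle : C ≤ Cz := inf_le_inf_left _ (Subgroup.centralizer_le (Set.singleton_subset_iff.2 hz))
    -- `A × Cz` lies in the centraliser
    have h1 : Nat.card A * Nat.card Cz ≤ Nat.card (Subgroup.centralizer ({z} : Set G)) := by
      rw [← Nat.card_prod]
      refine Nat.card_le_card_of_injective
        (fun w : A × Cz => (⟨(w.1 : G) * w.2, Subgroup.mul_mem _
          (Subgroup.mem_centralizer_singleton_iff.2 (hAab w.1 w.1.2 z hz)) w.2.2.2⟩ :
            Subgroup.centralizer ({z} : Set G))) fun w w' h => ?_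
      have h' := congrArg Subtype.val h
      simp only at h'
      have h2 : (w'.1 : G)⁻¹ * w.1 ∈ A ⊓ (P : Subgroup G) :=
        ⟨A.mul_mem (A.inv_mem w'.1.2) w.1.2, by
          rw [show (w'.1 : G)⁻¹ * w.1 = w'.2 * (w.2 : G)⁻¹ by
            rw [eq_mul_inv_iff_mul_eq, mul_assoc, h', inv_mul_cancel_left]]
          exact Subgroup.mul_mem _ w'.2.2.1 (Subgroup.inv_mem _ w.2.2.1)⟩
      rw [hdisj, Subgroup.mem_bot, inv_mul_eq_one] at h2
      rw [← h2] at h'
      exact Prod.ext (Subtype.ext h2.symm) (Subtype.ext (mul_left_cancel h'))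
    rw [hCz z hz hzp, ← Subgroup.relIndex_mul_index hG'P, ← hAcard, mul_comm] at h1
    have h2 : Nat.card Cz ≤ (commutator G).relIndex P := Nat.le_of_mul_le_mul_right h1 Nat.card_pos
    -- `|P : D| ≤ |C|`
    have h3 : Nat.card (P : Subgroup G) ≤ Nat.card C * Nat.card D := by
      rw [← Nat.card_prod]
      refine Nat.card_le_card_of_surjective
        (fun w : C × D => (⟨(w.1 : G) * w.2, hsup ▸ Subgroup.mul_mem_sup w.1.2 w.2.2⟩ : (P : Subgroup G))) ?_
      rintro ⟨x, hx⟩
      obtain ⟨c, hc, m, hm, rfl⟩ := Coprime.exists_centralizer_mul_commutator hAN hcopAP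
        (Or.inr (isSolvable_sylow P)) hx
      refine ⟨(⟨c, hc⟩, ⟨m, ?_⟩), rfl⟩
      rw [hDdef, Subgroup.commutator_comm]; exact hm
    have h4 := Subgroup.card_mul_index ((commutator G).subgroupOf (P : Subgroup G))
    rw [← Subgroup.relIndex, Nat.card_congr (Subgroup.subgroupOfEquivOfLe hG'P).toEquiv] at h4
    have h5 := Nat.le_of_dvd Nat.card_pos (Subgroup.card_dvd_of_le hDG)
    have h6 := Nat.le_of_dvd Nat.card_pos (Subgroup.card_dvd_of_le hCle)
    have hg0 : 0 < Nat.card (commutator G) := Nat.card_pos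
    -- all inequalities are equalities
    have e1 : Nat.card (commutator G) * (commutator G).relIndex P ≤
        Nat.card (commutator G) * Nat.card C := by
      calc _ = Nat.card (P : Subgroup G) := h4
        _ ≤ Nat.card C * Nat.card D := h3
        _ ≤ Nat.card C * Nat.card (commutator G) := Nat.mul_le_mul_left _ h5
        _ = _ := mul_comm _ _
    have e2 := Nat.le_of_mul_le_mul_left e1 hg0
    have e3 : Nat.card C = (commutator G).relIndex P := by omega
    have e4 : Nat.card (commutator G) ≤ Nat.card D := by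
      rw [← h4, ← e3, mul_comm] at h3
      exact Nat.le_of_mul_le_mul_left h3 Nat.card_pos
    have hG'D : commutator G = D := (Subgroup.eq_of_le_of_card_ge hDG e4).symm
    refine ⟨Subgroup.eq_of_le_of_card_ge hCle (by omega), ?_, hG'D⟩
    have hsurj : Function.Surjective (fun w : C × D =>
        (⟨(w.1 : G) * w.2, hsup ▸ Subgroup.mul_mem_sup w.1.2 w.2.2⟩ : (P : Subgroup G))) := by
      rintro ⟨x, hx⟩
      obtain ⟨c, hc, m, hm, rfl⟩ := Coprime.exists_centralizer_mul_commutator hAN hcopAP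
        (Or.inr (isSolvable_sylow P)) hx
      refine ⟨(⟨c, hc⟩, ⟨m, ?_⟩), rfl⟩
      rw [hDdef, Subgroup.commutator_comm]; exact hm
    have hinj := ((Nat.bijective_iff_surjective_and_card _).2 ⟨hsurj, by
      rw [Nat.card_prod, ← h4, ← e3, hG'D, mul_comm]⟩).1
    rw [Subgroup.eq_bot_iff_forall]
    rintro x ⟨hxC, hxD⟩
    have := @hinj (⟨x, hxC⟩, 1) (1, ⟨x, hxD⟩) (Subtype.ext (by simp))
    exact congrArg Subtype.val (Prod.mk.inj this).1
  obtain ⟨-, hCD, hG'D⟩ := hcnt z hz hzp
  have hDn : D.Normal := hG'D ▸ (inferInstance : (commutator G).Normal)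
  have hfpf : ∀ a ∈ A, a ≠ 1 → ∀ d ∈ D, a * d = d * a → d = 1 := by
    intro a ha ha1 d hd hcomm
    obtain ⟨r, hr, hrd⟩ := Nat.exists_prime_and_dvd (fun h => ha1 (orderOf_eq_one_iff.1 h))
    have hpos : 0 < orderOf a / r := Nat.div_pos (Nat.le_of_dvd (orderOf_pos a) hrd) hr.pos
    have hz' : orderOf (a ^ (orderOf a / r)) = r := by
      rw [orderOf_pow' a hpos.ne', Nat.gcd_eq_right (Nat.div_dvd_of_dvd hrd),
        Nat.div_div_self hrd (orderOf_pos a).ne']
    obtain ⟨hCeq, hbot, -⟩ := hcnt _ (A.pow_mem ha _) (hz'.symm ▸ hr)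
    have hdC : d ∈ C := by
      rw [hCeq]
      refine ⟨hsup ▸ Subgroup.mem_sup_right hd, Subgroup.mem_centralizer_singleton_iff.2 ?_⟩
      exact ((show Commute d a from hcomm.symm).pow_right _).eq
    exact Subgroup.mem_bot.1 (hbot ▸ Subgroup.mem_inf.2 ⟨hdC, hd⟩)
  have hD1 : D ≠ ⊥ := fun h => hna ⟨⟨fun a b => by
    refine commutatorElement_eq_one_iff_commute.1 ?_
    rw [← Subgroup.mem_bot, ← h, ← hG'D]
    exact Subgroup.commutator_mem_commutator (Subgroup.mem_top a) (Subgroup.mem_top b)⟩⟩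
  have hAcyc : IsCyclic A := by
    haveI := hDn
    set V : Subgroup G := (Subgroup.center D).map D.subtype with hVdef
    haveI hVn : V.Normal := by rw [hVdef]; infer_instance
    haveI : IsMulCommutative V := by rw [hVdef]; infer_instance
    have hDp : IsPGroup p D := P.2.to_le (hsup ▸ le_sup_right)
    haveI : Nontrivial D := D.nontrivial_iff_ne_bot.2 hD1
    haveI : Nontrivial V := by
      rw [Subgroup.nontrivial_iff_ne_bot, hVdef, Ne, Subgroup.map_eq_bot_iff_of_injective _ D.subtype_injective]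
      exact (Subgroup.nontrivial_iff_ne_bot _).1 hDp.center_nontrivial
    refine Frobenius.Fpf.isCyclic_of_comm (V := V)
      (φ := (MulAut.conjNormal (H := V)).comp A.subtype) ?_ fun a b => Subtype.ext (hAab a a.2 b b.2)
    intro a ha v hv
    obtain ⟨w, -, hw⟩ := v.2
    have h1 := congrArg Subtype.val hv
    simp only [MonoidHom.comp_apply, Subgroup.coe_subtype, MulAut.conjNormal_apply] at h1
    exact Subtype.ext (hfpf a a.2 (fun h => ha (Subtype.ext h)) v (hw ▸ w.2)
      (mul_inv_eq_iff_eq_mul.1 h1))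
  refine ⟨p, inferInstance, P, A, hPn, hAcyc, fun h => ?_, hAp, hAP, ⟨⟨fun a b => Subtype.ext ?_⟩⟩,
    hDn, hsup, hCD, hfpf⟩
  · rw [h, Subgroup.card_bot] at hAcard; exact hn1 hAcard.symm
  · show (a : G) * b = b * a
    refine commutatorElement_eq_one_iff_commute.1 ?_
    rw [← Subgroup.mem_bot, ← hCD]
    refine ⟨?_, hG'D ▸ Subgroup.commutator_mem_commutator (Subgroup.mem_top (a : G)) (Subgroup.mem_top (b : G))⟩
    rw [commutatorElement_def]
    exact C.mul_mem (C.mul_mem (C.mul_mem a.2 b.2) (C.inv_mem a.2)) (C.inv_mem b.2)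


/-- For a finite group G the following are equivalent. (1) χ(x y) = χ(x) χ(y) for every irreducible character χ and all non-identity elements x, y of prime power orders for two different primes. (2) G is a p-group for some prime p, or G is abelian, or for some prime p: G = A P with P a normal Sylow p-subgroup and A a nontrivial cyclic subgroup of order prime to p such that, with C = C_P(A) and D = [A, P], one has P = C D, C abelian, D normal in G, C ∩ D = 1, and A acts fixed-point-freely on D (no non-identity element of A centralizes a non-identity element of D). -/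
theorem result {G : Type*} [Group G] [Finite G] : (∀ (x y : G) (χ : Cfsg.IrrCharacter G), x ≠ 1 → y ≠ 1 → (∃ p q a b : ℕ, p.Prime ∧ q.Prime ∧ p ≠ q ∧ orderOf x = p ^ a ∧ orderOf y = q ^ b) → (χ : G → ℂ) (x * y) = (χ : G → ℂ) x * (χ : G → ℂ) y) ↔ ((∃ p : ℕ, p.Prime ∧ IsPGroup p G) ∨ IsMulCommutative G ∨ ∃ (p : ℕ) (_ : Fact p.Prime) (P : Sylow p G) (A : Subgroup G), (P : Subgroup G).Normal ∧ IsCyclic ↥A ∧ A ≠ ⊥ ∧ (Nat.card ↥A).Coprime p ∧ A ⊔ (P : Subgroup G) = ⊤ ∧ IsMulCommutative ↥((P : Subgroup G) ⊓ Subgroup.centralizer (A : Set G)) ∧ (⁅A, (P : Subgroup G)⁆).Normal ∧ ((P : Subgroup G) ⊓ Subgroup.centralizer (A : Set G)) ⊔ ⁅A, (P : Subgroup G)⁆ = (P : Subgroup G) ∧ ((P : Subgroup G) ⊓ Subgroup.centralizer (A : Set G)) ⊓ ⁅A, (P : Subgroup G)⁆ = ⊥ ∧ ∀ a ∈ A, a ≠ 1 → ∀ d ∈ ⁅A, (P : Subgroup G)⁆, a * d = d * a → d = 1) := by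
  haveI := Fintype.ofFinite G
  constructor
  · intro h
    by_cases hp : ∃ p : ℕ, p.Prime ∧ IsPGroup p G
    · exact Or.inl hp
    by_cases ha : IsMulCommutative G
    · exact Or.inr (Or.inl ha)
    exact Or.inr (Or.inr (structure_of_mult (fun x y χ hm => h x y χ hm.1 hm.2.1 hm.2.2) hp ha))
  · intro h x y χ hx hy hxy
    rcases h with ⟨p, hp, hP⟩ | hab | ⟨p, hp, P, A, hPn, hAc, -, hAp, hAP, hC, hDn, hsup, -, hf⟩
    · exfalso
      obtain ⟨q, r, a, b, hq, hr, hqr, hox, hoy⟩ := hxy
      have key : ∀ {w : G} {s k : ℕ}, s.Prime → w ≠ 1 → orderOf w = s ^ k → s = p := by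
        intro w s k hs hw how
        haveI := Fact.mk hp
        obtain ⟨j, hj⟩ := (IsPGroup.iff_orderOf (p := p)).1 hP w
        rw [how] at hj
        rcases k with _ | k
        · rw [pow_zero] at how; exact absurd (orderOf_eq_one_iff.1 how) hw
        · exact (Nat.prime_dvd_prime_iff_eq hs hp).1 (hs.dvd_of_dvd_pow (hj ▸ dvd_pow_self s k.succ_ne_zero))
      exact hqr ((key hq hx hox).trans (key hr hy hoy).symm)
    · exact comm_apply_linear (degree_eq_of_apply_one (by
        rw [apply_one_of_comm (fun a b => hab.is_comm.comm a b) χ, Nat.cast_one])) x y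
    · exact mult_of_structure p P A hPn hAc hAp hAP hC hDn hsup hf x y χ ⟨hx, hy, hxy⟩

end Cfsg.Agent.S4756
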