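import Cfsg.Statements.S4757
import Cfsg.Agent.Lib.Char.Linear
import Cfsg.Agent.Lib.SolvableTwo.Basic

set_option autoImplicit false
open Cfsg
open scoped Classical ComplexConjugate
open Cfsg.Agent Cfsg.Agent.Char

set_option linter.style.haveILetI false

namespace Cfsg.Agent.S4757

set_option linter.unusedSectionVars false

universe v

variable {G : Type v} [Group G] [Fintype G]

/-- Column orthogonality against the identity, with the principal character split off. -/
lemma one_add_sum {u : G} (hu : u ≠ 1) :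
    (1 : ℂ) + ∑ χ ∈ Finset.univ.erase (trivialChar G), χ.1 1 * χ.1 u = 0 := by
  have h := sum_irr_degree_mul u
  rw [if_neg hu, ← Finset.add_sum_erase _ _ (Finset.mem_univ (trivialChar G))] at h
  simpa [trivialChar] using h

lemma ne_trivialChar {χ : IrrCharacter G} (h : χ ≠ trivialChar G) : χ.1 ≠ fun _ => (1 : ℂ) :=
  fun e => h (Subtype.ext e)

lemma linIrr_ne_trivialChar {l : G →* ℂ} (h : l ≠ 1) : linIrr l ≠ trivialChar G := fun e =>
  h (MonoidHom.ext fun g => congrFun (congrArg Subtype.val e) g)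

lemma hom_apply_ne_zero (l : G →* ℂ) (u : G) : l u ≠ 0 := fun h => by
  simpa [h] using normSq_linear l u

lemma linear_value {u : G} {c : ℂ}
    (hyp : ∀ χ : IrrCharacter G, χ.1 ≠ (fun _ => (1 : ℂ)) → (χ.1 1 - χ.1 u = c ∨ χ.1 u = 0))
    {l : G →* ℂ} (h : l ≠ 1) : l u = 1 - c := by
  have := (hyp (linIrr l) (ne_trivialChar (linIrr_ne_trivialChar h))).resolve_right
    (hom_apply_ne_zero l u)
  simp only [linIrr_apply, map_one] at this
  rw [← this]; ring

lemma eq_two_of_not_perfect {u : G} (hu : u ≠ 1) {c : ℂ}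
    (hyp : ∀ χ : IrrCharacter G, χ.1 ≠ (fun _ => (1 : ℂ)) → (χ.1 1 - χ.1 u = c ∨ χ.1 u = 0))
    (hG : commutator G ≠ ⊤) : c = 2 := by
  obtain ⟨l, hl⟩ : ∃ l : G →* ℂ, l ≠ 1 := by
    by_contra! h
    haveI : Subsingleton (G →* ℂ) := ⟨fun a b => (h a).trans (h b).symm⟩
    haveI : Nonempty (G →* ℂ) := ⟨1⟩
    exact hG (Subgroup.index_eq_one.1 (card_monoidHom_complex.symm.trans Nat.card_unique))
  have hc : c ≠ 0 := by
    rintro rfl
    set S := Finset.univ.erase (trivialChar G) with hS
    have hnn : ∀ χ ∈ S, ∃ r : ℕ, χ.1 1 * χ.1 u = r := fun χ hχ => by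
      rcases hyp χ (ne_trivialChar (Finset.mem_erase.1 hχ).1) with h | h
      · exact ⟨degree χ * degree χ, by
          rw [← sub_eq_zero.1 h, apply_one_eq_degree, Nat.cast_mul]⟩
      · exact ⟨0, by rw [h, mul_zero, Nat.cast_zero]⟩
    choose! r hr using hnn
    have h := one_add_sum hu
    rw [Finset.sum_congr rfl hr, ← Nat.cast_sum, ← Nat.cast_one, ← Nat.cast_add] at h
    exact Nat.succ_ne_zero _ (by rw [Nat.succ_eq_one_add]; exact Nat.cast_eq_zero.1 h)
  have hlu := linear_value hyp hl
  by_cases h2 : l * l = 1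
  · have h3 : (l u) * (l u) = 1 := DFunLike.congr_fun h2 u
    rcases mul_self_eq_one_iff.1 h3 with h | h
    · exact absurd (by linear_combination hlu - h) hc
    · linear_combination hlu - h
  · have h3 : l u * l u = 1 - c := linear_value hyp h2
    rw [hlu] at h3
    rcases mul_eq_zero.1 (show (1 - c) * c = 0 by linear_combination -h3) with h | h
    · exact absurd (hlu.trans h) (hom_apply_ne_zero l u)
    · exact absurd h hc

lemma structure_of_two {u : G} (hu : u ≠ 1)
    (hyp : ∀ χ : IrrCharacter G, χ.1 ≠ (fun _ => (1 : ℂ)) → (χ.1 1 - χ.1 u = 2 ∨ χ.1 u = 0)) :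
    commutator G ≠ ⊤ ∧ orderOf u = 2 ∧ Subgroup.zpowers u ⊔ Cfsg.oddCore G = ⊤ ∧
      Subgroup.centralizer ({u} : Set G) = Subgroup.zpowers u := by
  set S := Finset.univ.erase (trivialChar G) with hS
  have hterm : ∀ χ ∈ S, ∃ t : ℤ, χ.1 1 * χ.1 u = t ∧
      ((χ.1 u = 0 ∧ t = 0) ∨ (χ.1 u = (degree χ : ℂ) - 2 ∧ t = (degree χ : ℤ) * (degree χ - 2))) := by
    intro χ hχ
    rcases hyp χ (ne_trivialChar (Finset.mem_erase.1 hχ).1) with h | h
    · rw [apply_one_eq_degree] at h ⊢
      have h' : χ.1 u = (degree χ : ℂ) - 2 := by linear_combination -h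
      exact ⟨(degree χ : ℤ) * (degree χ - 2), by rw [h']; push_cast; ring, Or.inr ⟨h', rfl⟩⟩
    · exact ⟨0, by rw [h, mul_zero, Int.cast_zero], Or.inl ⟨h, rfl⟩⟩
  choose! t ht1 ht2 using hterm
  have hsum : (1 : ℤ) + ∑ χ ∈ S, t χ = 0 := by
    have := one_add_sum hu
    rw [Finset.sum_congr rfl ht1] at this
    exact_mod_cast this
  have hnonneg : ∀ χ ∈ S, degree χ ≠ 1 → 0 ≤ t χ := by
    intro χ hχ h1
    rcases ht2 χ hχ with ⟨-, h⟩ | ⟨-, h⟩
    · exact h.ge
    · have := degree_pos χ
      rw [h]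
      exact mul_nonneg (by positivity) (by omega)
  obtain ⟨χ₀, hχ₀, hd₀⟩ : ∃ χ ∈ S, degree χ = 1 := by
    by_contra! h
    have := Finset.sum_nonneg fun χ hχ => hnonneg χ hχ (h χ hχ)
    omega
  obtain ⟨l, hl⟩ := IsCharacter.exists_monoidHom (irr_isCharacter χ₀)
    (by rw [apply_one_eq_degree, hd₀, Nat.cast_one])
  have hl1 : l ≠ 1 := by
    rintro rfl
    exact (Finset.mem_erase.1 hχ₀).1 (Subtype.ext hl.symm)
  have hlu : ∀ l : G →* ℂ, l ≠ 1 → l u = -1 := fun l h => by
    rw [linear_value hyp h]; norm_num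
  have huniq : ∀ m : G →* ℂ, m ≠ 1 → m = l := by
    intro m hm
    by_contra hne
    have hml : m * l ≠ 1 := fun h => hne (MonoidHom.ext fun g => by
      have h1 : m g * l g = 1 := DFunLike.congr_fun h g
      have h2 : l g * l g = 1 := by
        by_cases hll : l * l = 1
        · exact DFunLike.congr_fun hll g
        · exfalso
          have := hlu _ hll
          rw [MonoidHom.mul_apply, hlu l hl1] at this
          norm_num at this
      exact mul_right_cancel₀ (hom_apply_ne_zero l g) (h1.trans h2.symm))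
    have := hlu _ hml
    rw [MonoidHom.mul_apply, hlu m hm, hlu l hl1] at this
    norm_num at this
  have hzero : ∀ χ ∈ S, χ ≠ χ₀ → χ.1 u = 0 := by
    intro χ hχ hne
    have hdeg : degree χ ≠ 1 := fun h => hne (Subtype.ext (by
      obtain ⟨m, hm⟩ := IsCharacter.exists_monoidHom (irr_isCharacter χ)
        (by rw [apply_one_eq_degree, h, Nat.cast_one])
      have : m ≠ 1 := by rintro rfl; exact (Finset.mem_erase.1 hχ).1 (Subtype.ext hm.symm)
      rw [← hm, huniq m this, hl]))
    have h0 : t χ₀ = -1 := by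
      rcases ht2 χ₀ hχ₀ with ⟨h, -⟩ | ⟨-, h⟩
      · exact absurd h (by rw [← hl]; exact hom_apply_ne_zero l u)
      · rw [h, hd₀]; norm_num
    rw [← Finset.add_sum_erase _ _ hχ₀, h0] at hsum
    have hothers : ∀ ψ ∈ S.erase χ₀, 0 ≤ t ψ := fun ψ hψ => by
      obtain ⟨h1, h2⟩ := Finset.mem_erase.1 hψ
      refine hnonneg ψ h2 fun h => h1 (Subtype.ext ?_)
      obtain ⟨m, hm⟩ := IsCharacter.exists_monoidHom (irr_isCharacter ψ)
        (by rw [apply_one_eq_degree, h, Nat.cast_one])
      have : m ≠ 1 := by rintro rfl; exact (Finset.mem_erase.1 h2).1 (Subtype.ext hm.symm)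
      rw [← hm, huniq m this, hl]
    have hz := (Finset.sum_eq_zero_iff_of_nonneg hothers).1 (by linarith) χ
      (Finset.mem_erase.2 ⟨hne, hχ⟩)
    rcases ht2 χ hχ with ⟨h, -⟩ | ⟨h, h'⟩
    · exact h
    · rw [hz, eq_comm, mul_eq_zero] at h'
      have := degree_pos χ
      have h2 : degree χ = 2 := by omega
      rw [h, h2]; norm_num
  -- the centraliser
  have hC : Nat.card (Subgroup.centralizer ({u} : Set G)) = 2 := by
    have h := sum_irr_mul_conj u u
    rw [if_pos (IsConj.refl u), ← Finset.add_sum_erase _ _ (Finset.mem_univ (trivialChar G)), ← hS,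
      Finset.sum_eq_single χ₀ (fun χ hχ hne => by rw [hzero χ hχ hne, zero_mul])
        (fun h => absurd hχ₀ h), ← hl, hlu l hl1] at h
    simp [trivialChar] at h
    norm_num at h
    rw [Nat.card_eq_fintype_card]
    exact_mod_cast h.symm
  have hz : Subgroup.zpowers u ≤ Subgroup.centralizer ({u} : Set G) :=
    Subgroup.zpowers_le.2 (Subgroup.mem_centralizer_singleton_iff.2 rfl)
  have hord : orderOf u = 2 := by
    have h2 := Subgroup.card_dvd_of_le hz
    rw [hC, Nat.card_zpowers] at h2
    exact ((Nat.dvd_prime Nat.prime_two).1 h2).resolve_left fun h => hu (orderOf_eq_one_iff.1 h)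
  have hCz : Subgroup.centralizer ({u} : Set G) = Subgroup.zpowers u :=
    (Subgroup.eq_of_le_of_card_ge hz (by rw [hC, Nat.card_zpowers, hord])).symm
  have hidx : (commutator G).index = 2 := by
    rw [← card_monoidHom_complex, Nat.card_eq_two_iff' (1 : G →* ℂ)]
    exact ⟨l, hl1, fun m hm => huniq m hm⟩
  have hnp : commutator G ≠ ⊤ := fun h => by
    rw [h, Subgroup.index_top] at hidx
    exact absurd hidx (by norm_num)
  have huK : u ∉ commutator G := fun h => by
    have h1 := hlu l hl1
    rw [show l u = 1 from congrArg Units.val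
      (MonoidHom.mem_ker.1 (Abelianization.commutator_subset_ker l.toHomUnits h))] at h1
    norm_num at h1
  -- the derived subgroup has odd order
  have hodd : Odd (Nat.card (commutator G)) := by
    rw [← Nat.not_even_iff_odd, even_iff_two_dvd, ← ZMod.natCast_eq_zero_iff,
      Nat.card_eq_fintype_card, ← Finset.card_univ,
      ← Finset.card_erase_add_one (Finset.mem_univ (1 : commutator G)), Nat.cast_add, Nat.cast_one]
    have h0 : (((Finset.univ.erase (1 : commutator G)).card : ℕ) : ZMod 2) = 0 := by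
      rw [Finset.cast_card]
      have hmem : ∀ x : commutator G, u * (x : G) * u⁻¹ ∈ commutator G := fun x =>
        (inferInstance : (commutator G).Normal).conj_mem _ x.2 u
      refine Finset.sum_involution (fun x _ => ⟨_, hmem x⟩) (fun _ _ => by decide)
        (fun x hx _ he => ?_) (fun x hx => ?_) (fun x _ => ?_)
      · have he' : u * (x : G) * u⁻¹ = x := congrArg Subtype.val he
        have hxC : (x : G) ∈ Subgroup.centralizer ({u} : Set G) :=
          Subgroup.mem_centralizer_singleton_iff.2 (mul_inv_eq_iff_eq_mul.1 he').symm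
        rw [hCz, Subgroup.mem_zpowers_iff] at hxC
        obtain ⟨i, hi⟩ := hxC
        rcases Int.emod_two_eq_zero_or_one i with h | h
        · refine (Finset.mem_erase.1 hx).1 (Subtype.ext ?_)
          rw [← hi, ← zpow_mod_orderOf, hord, Nat.cast_two, h, zpow_zero]
          rfl
        · rw [← zpow_mod_orderOf, hord, Nat.cast_two, h, zpow_one] at hi
          exact huK (hi ▸ x.2)
      · refine Finset.mem_erase.2 ⟨fun h => (Finset.mem_erase.1 hx).1 (Subtype.ext ?_), Finset.mem_univ _⟩
        simpa [mul_inv_eq_one, mul_eq_left] using congrArg Subtype.val h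
      · refine Subtype.ext ?_
        have hu2 : u * u = 1 := by rw [← pow_two, ← hord, pow_orderOf_eq_one]
        have hui : u⁻¹ = u := inv_eq_of_mul_eq_one_left hu2
        show u * (u * (x : G) * u⁻¹) * u⁻¹ = x
        rw [hui]
        simp only [← mul_assoc, hu2, one_mul]
        rw [mul_assoc, hu2, mul_one]
    rw [h0]
    decide
  refine ⟨hnp, hord, ?_, hCz⟩
  rw [← Subgroup.index_eq_one]
  have hle : commutator G ≤ Subgroup.zpowers u ⊔ Cfsg.oddCore G :=
    le_trans (SolvableTwo.le_oddCore inferInstance hodd) le_sup_right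
  rcases (Nat.dvd_prime Nat.prime_two).1 (hidx ▸ Subgroup.index_dvd_of_le hle) with h | h
  · exact h
  · exfalso
    apply huK
    have := Subgroup.eq_of_le_of_card_ge hle (le_of_eq (by
      have h1 := (Subgroup.zpowers u ⊔ Cfsg.oddCore G).card_mul_index
      have h2 := (commutator G).card_mul_index
      rw [h] at h1; rw [hidx] at h2; omega))
    rw [this]
    exact le_sup_left (a := Subgroup.zpowers u) (Subgroup.mem_zpowers u)

lemma not_perfect_of_structure {u : G} (h : orderOf u = 2)
    (hsup : Subgroup.zpowers u ⊔ Cfsg.oddCore G = ⊤) : commutator G ≠ ⊤ := by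
  intro hc
  haveI : (Cfsg.oddCore G).Normal := SolvableTwo.oddCore_normal
  have hgen : Subgroup.zpowers (u : G ⧸ Cfsg.oddCore G) = ⊤ := by
    have := congrArg (Subgroup.map (QuotientGroup.mk' (Cfsg.oddCore G))) hsup
    rwa [Subgroup.map_sup, MonoidHom.map_zpowers, QuotientGroup.map_mk'_self, sup_bot_eq,
      Subgroup.map_top_of_surjective _ (QuotientGroup.mk'_surjective _)] at this
  haveI : IsCyclic (G ⧸ Cfsg.oddCore G) := isCyclic_iff_exists_zpowers_eq_top.2 ⟨_, hgen⟩
  have hle : commutator G ≤ Cfsg.oddCore G := by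
    rw [commutator_def, Subgroup.commutator_le]
    intro a _ b _
    rw [← QuotientGroup.eq_one_iff, ← QuotientGroup.mk'_apply, map_commutatorElement]
    exact commutatorElement_eq_one_iff_commute.2 (IsCyclic.commGroup.mul_comm _ _)
  rw [hc, top_le_iff] at hle
  have hodd := SolvableTwo.odd_card_oddCore (G := G)
  rw [hle, Subgroup.card_top] at hodd
  exact Nat.not_even_iff_odd.2 hodd (even_iff_two_dvd.2 (h ▸ orderOf_dvd_natCard u))


/-- Let u ≠ 1 be an element of the finite group G and c a complex number such that every non-principal irreducible character χ satisfies χ(1) − χ(u) = c or χ(u) = 0. Then the following are equivalent: (a) u has order 2, G is generated by u together with O(G), the largest normal subgroup of G of odd order, and the centralizer of u is {1, u}; (b) G is not perfect; (c) c = 2. -/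
theorem result {G : Type*} [Group G] [Finite G] (u : G) (hu : u ≠ 1) (c : ℂ) (hyp : ∀ χ : Cfsg.IrrCharacter G, (χ : G → ℂ) ≠ (fun _ => (1 : ℂ)) → ((χ : G → ℂ) 1 - (χ : G → ℂ) u = c ∨ (χ : G → ℂ) u = 0)) : ((orderOf u = 2 ∧ Subgroup.zpowers u ⊔ Cfsg.oddCore G = ⊤ ∧ Subgroup.centralizer ({u} : Set G) = Subgroup.zpowers u) ↔ commutator G ≠ ⊤) ∧ (commutator G ≠ ⊤ ↔ c = 2) := by
  haveI := Fintype.ofFinite G
  refine ⟨⟨fun h => not_perfect_of_structure h.1 h.2.1, fun h => ?_⟩,
    fun h => eq_two_of_not_perfect hu hyp h, fun h => ?_⟩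
  · obtain rfl := eq_two_of_not_perfect hu hyp h
    exact (structure_of_two hu hyp).2
  · subst h
    exact (structure_of_two hu hyp).1

end Cfsg.Agent.S4757
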