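import Cfsg.Statements.S4759
import Cfsg.Agent.Lib.SpinExt.Extension

set_option autoImplicit false
open Cfsg

namespace Cfsg.Agent.S4759

/-- Let G be a finite group that is the semidirect product of a normal extraspecial 2-subgroup E and a complement H acting faithfully on E (no non-identity element of H centralizes E), and suppose H has a normal subgroup K of odd order with [E, K] = E. Then every faithful irreducible character θ of E (there is exactly one) extends to G: some irreducible character of G restricts to θ on E. -/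
theorem result {G : Type*} [Group G] [Finite G] (E H : Subgroup G) [E.Normal] (hE : Cfsg.IsExtraspecial 2 ↥E) (hEH : E ⊓ H = ⊥) (hEHtop : E ⊔ H = ⊤) (hfaith : ∀ h ∈ H, (∀ e ∈ E, h * e = e * h) → h = 1) (K : Subgroup G) (hKH : K ≤ H) (hKn : ∀ h ∈ H, ∀ k ∈ K, h * k * h⁻¹ ∈ K) (hKodd : Odd (Nat.card ↥K)) (hEK : ⁅E, K⁆ = E) (θ : Cfsg.IrrCharacter ↥E) (hθ : ∀ e : ↥E, (θ : ↥E → ℂ) e = (θ : ↥E → ℂ) 1 → e = 1) : ∃ χ : Cfsg.IrrCharacter G, ∀ e : ↥E, (χ : G → ℂ) e = (θ : ↥E → ℂ) e := by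
  obtain ⟨n, π, hπ, hθπ⟩ := θ.2
  haveI := hπ
  haveI : Nontrivial (Fin n → ℂ) := Cfsg.Agent.Char.nontrivial_of_isIrreducible π
  have hspin : Cfsg.Agent.SpinExt.Spin π := fun c hc hc1 => by
    obtain ⟨z, -, -, hzz, hor⟩ := Cfsg.Agent.SpinExt.exists_z hE
    obtain rfl := (hor c hc).resolve_left hc1
    obtain ⟨a, ha⟩ := Cfsg.Agent.CharInt.exists_smul_one_of_mem_center π hc
    have h1 : (a * a) • (1 : Module.End ℂ (Fin n → ℂ)) = (1 : ℂ) • 1 := by
      have h : π c * π c = 1 := by rw [← map_mul, hzz, map_one]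
      rw [ha, smul_mul_assoc, one_mul, smul_smul] at h
      rw [h, one_smul]
    have h3 : a * a = 1 := smul_left_injective ℂ (one_ne_zero (α := Module.End ℂ (Fin n → ℂ))) h1
    have ha1 : a ≠ 1 := fun h => hc1 (hθ c (by
      rw [← hθπ]
      show LinearMap.trace ℂ _ (π c) = LinearMap.trace ℂ _ (π 1)
      rw [ha, h, one_smul, map_one π]))
    rw [ha, (mul_self_eq_one_iff.1 h3).resolve_left ha1]
    exact neg_one_smul ℂ (1 : Module.End ℂ (Fin n → ℂ))
  obtain ⟨χ, hχ, hres⟩ := Cfsg.Agent.Clifford.exists_irrCharacter_extension π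
    (Cfsg.Agent.SpinExt.exists_extension hE H hEH hEHtop K hKn hKodd hEK π hspin)
  exact ⟨⟨χ, hχ⟩, fun e => (hres e).trans (congrFun hθπ e)⟩

end Cfsg.Agent.S4759
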