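import Cfsg.Statements.S4762
import Cfsg.Agent.Lib.CharInt.Extraspecial
import Cfsg.Agent.Lib.Char.Ito
import Cfsg.Agent.Lib.Char.Descend
import Cfsg.Agent.Lib.Char.PRegular
import Cfsg.Agent.Lib.PGroup.Frattini
import Cfsg.Agent.S1492
-- import your own Cfsg.Agent.* helpers here

set_option autoImplicit false
open Cfsg

namespace Cfsg.Agent.S4762

universe u

open scoped commutatorElement

variable {G : Type u} [Group G] [Finite G]

theorem exists_linear_ne_one [Nontrivial G] [Group.IsNilpotent G] :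
    ∃ lam : G →* ℂ, lam ≠ 1 := by
  have h1 : (commutator G).index ≠ 1 := fun h =>
    (Group.IsSolvable.commutator_lt_top_of_nontrivial G).ne (Subgroup.index_eq_one.1 h)
  by_contra! h
  haveI : Subsingleton (G →* ℂ) := ⟨fun a b => (h a).trans (h b).symm⟩
  haveI : Nonempty (G →* ℂ) := ⟨1⟩
  exact h1 (Char.card_monoidHom_complex.symm.trans (Nat.card_unique))

theorem dvd_degree_iff {p : ℕ} [Fact p.Prime] (hG : IsPGroup p G) (χ : Cfsg.IrrCharacter G) :
    p ∣ Cfsg.charDegree χ.1 ↔ χ.1 1 ≠ 1 := by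
  have hp : p.Prime := Fact.out
  obtain ⟨k, hk⟩ := hG.exists_card_eq
  obtain ⟨j, -, hj⟩ := (Nat.dvd_prime_pow hp).1 (hk ▸ Char.charDegree_dvd_card χ)
  rw [← Char.charDegree_cast, hj]
  constructor
  · intro h he
    have : p ^ j = 1 := by exact_mod_cast he
    rw [this] at h
    exact hp.one_lt.ne' (Nat.dvd_one.1 h)
  · intro h
    refine dvd_pow_self p fun h0 => h ?_
    rw [h0, pow_zero, Nat.cast_one]

theorem of_extraspecial (h : Cfsg.IsExtraspecial 2 G) :
    Nat.card {χ : Cfsg.IrrCharacter G // 2 ∣ Cfsg.charDegree (χ : G → ℂ)} = 1 := by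
  classical
  haveI := Fintype.ofFinite G
  haveI : Fact (Nat.Prime 2) := ⟨Nat.prime_two⟩
  obtain ⟨n, hn, hcard, -⟩ := PGroup.extraspecial_card h
  have hlin := Char.card_linear (G := G)
  have hidx : (commutator G).index * 2 = Nat.card G := by
    rw [← PGroup.extraspecial_commutator_card h, Subgroup.index_mul_card]
  have hsq := Char.sum_degree_sq (G := G)
  rw [← Finset.sum_filter_add_sum_filter_not Finset.univ
    (fun χ : Cfsg.IrrCharacter G => χ.1 1 = 1)] at hsq
  have h1 : ∀ χ ∈ Finset.univ.filter (fun χ : Cfsg.IrrCharacter G => χ.1 1 = 1),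
      Char.degree χ ^ 2 = 1 := fun χ hχ => by
    have := (Finset.mem_filter.1 hχ).2
    rw [Char.apply_one_eq_degree, Nat.cast_eq_one] at this
    rw [this, one_pow]
  have h2 : ∀ χ ∈ Finset.univ.filter (fun χ : Cfsg.IrrCharacter G => ¬χ.1 1 = 1),
      Char.degree χ ^ 2 = (2 ^ n) ^ 2 := fun χ hχ => by
    rcases CharInt.extraspecial_irr_dichotomy h hcard χ with ⟨he, -⟩ | ⟨he, -, -⟩
    · exact absurd he (Finset.mem_filter.1 hχ).2
    · rw [Char.apply_one_eq_degree] at he
      rw [show Char.degree χ = 2 ^ n by exact_mod_cast he]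
  rw [Finset.sum_congr rfl h1, Finset.sum_congr rfl h2, Finset.sum_const, Finset.sum_const,
    smul_eq_mul, smul_eq_mul, mul_one, ← Fintype.card_subtype, ← Fintype.card_subtype,
    ← Nat.card_eq_fintype_card, ← Nat.card_eq_fintype_card, hlin] at hsq
  have heq : {χ : Cfsg.IrrCharacter G // 2 ∣ Cfsg.charDegree (χ : G → ℂ)} ≃
      {χ : Cfsg.IrrCharacter G // ¬χ.1 1 = 1} :=
    Equiv.subtypeEquivRight fun χ => dvd_degree_iff h.1.1 χ
  rw [Nat.card_congr heq]
  rw [hcard, pow_succ] at hidx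
  have hidx' : (commutator G).index = 2 ^ (2 * n) := Nat.eq_of_mul_eq_mul_right two_pos hidx
  rw [hidx', hcard, show (2 ^ n) ^ 2 = 2 ^ (2 * n) by rw [← pow_mul, mul_comm], pow_succ,
    mul_two] at hsq
  exact Nat.eq_of_mul_eq_mul_right (pow_pos two_pos (2 * n))
    ((Nat.add_left_cancel hsq).trans (one_mul _).symm)

theorem to_extraspecial [Group.IsNilpotent G] {p : ℕ} [Fact p.Prime]
    (h : Nat.card {χ : Cfsg.IrrCharacter G // p ∣ Cfsg.charDegree (χ : G → ℂ)} = 1) :
    p = 2 ∧ Cfsg.IsExtraspecial 2 G := by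
  classical
  haveI := Fintype.ofFinite G
  have hp : p.Prime := Fact.out
  obtain ⟨⟨hss⟩, ⟨χ₀, hχ₀⟩⟩ := Nat.card_eq_one_iff_unique.1 h
  have huniq : ∀ χ : Cfsg.IrrCharacter G, p ∣ Cfsg.charDegree χ.1 → χ = χ₀ := fun χ hχ =>
    congrArg Subtype.val (hss ⟨χ, hχ⟩ ⟨χ₀, hχ₀⟩)
  obtain ⟨V, hVn, hVmem, hVcop, hVidx⟩ := Char.exists_primeTo_subgroup (E := G) p
  obtain ⟨P⟩ : Nonempty (Sylow p G) := inferInstance
  have hVp : IsPGroup p (G ⧸ V) := by
    refine IsPGroup.of_card (n := V.index.factorization p)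
      ((Subgroup.index_eq_card V).symm.trans ?_)
    refine Nat.eq_of_factorization_eq Subgroup.index_ne_zero_of_finite (pow_ne_zero _ hp.ne_zero)
      fun q => ?_
    rw [hp.factorization_pow]
    rcases eq_or_ne q p with rfl | hqp
    · rw [Finsupp.single_eq_same]
    · rw [Finsupp.single_eq_of_ne hqp]
      by_cases hq : q.Prime
      · exact Nat.factorization_eq_zero_of_not_dvd
          (hVidx q hq fun hd => hqp ((Nat.prime_dvd_prime_iff_eq hq hp).1 hd))
      · exact Nat.factorization_eq_zero_of_not_prime _ hq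
  -- the Sylow subgroup is non-abelian
  have hnab : ∃ a ∈ (P : Subgroup G), ∃ b ∈ (P : Subgroup G), a * b ≠ b * a := by
    by_contra! hab
    have h2 := (hχ₀.trans (Char.charDegree_eq_degree χ₀).dvd).trans
      (Char.degree_dvd_index_of_comm (P : Subgroup G) hab χ₀)
    exact P.not_dvd_index h2
  -- so `G / V` has a non-linear character
  obtain ⟨ψ, hψ⟩ : ∃ ψ : Cfsg.IrrCharacter (G ⧸ V), ψ.1 1 ≠ 1 := by
    by_contra! hall
    have hc := Char.forall_apply_one_iff_comm.1 hall
    obtain ⟨a, ha, b, hb, hab⟩ := hnab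
    apply hab
    have h1 : (a * b)⁻¹ * (b * a) ∈ V :=
      QuotientGroup.eq.1 (by rw [QuotientGroup.mk_mul, QuotientGroup.mk_mul]; exact hc _ _)
    have h2 : (a * b)⁻¹ * (b * a) ∈ (P : Subgroup G) :=
      mul_mem (inv_mem (mul_mem ha hb)) (mul_mem hb ha)
    have h3 : orderOf ((a * b)⁻¹ * (b * a)) = 1 := by
      refine Nat.eq_one_of_dvd_coprimes ((hVmem _).1 h1) dvd_rfl ?_
      obtain ⟨k, hk⟩ := IsPGroup.iff_orderOf.1 P.2 ⟨_, h2⟩
      rw [Subgroup.orderOf_mk] at hk
      rcases k with _ | k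
      · rw [hk, pow_zero]; exact one_dvd p
      · exfalso
        have := (hVmem _).1 h1
        rw [hk, Nat.coprime_pow_left_iff (Nat.succ_pos k)] at this
        exact (Nat.Prime.coprime_iff_not_dvd hp).1 this dvd_rfl
    exact inv_mul_eq_one.1 (orderOf_eq_one_iff.1 h3)
  have hinf : Char.inflate V ψ = χ₀ := huniq _ (by
    have hd : Cfsg.charDegree (Char.inflate V ψ).1 = Cfsg.charDegree ψ.1 := by
      unfold Cfsg.charDegree; rw [Char.inflate_apply, QuotientGroup.mk_one]
    rw [hd]; exact (dvd_degree_iff hVp ψ).2 hψ)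
  have hχV : Char.TrivOn V χ₀.1 := hinf ▸ Char.trivOn_inflate V ψ
  -- hence `V` is trivial
  have hVbot : V = ⊥ := by
    by_contra hne
    haveI hPn : (P : Subgroup G).Normal := inferInstance
    haveI : Nontrivial (G ⧸ (P : Subgroup G)) := by
      obtain ⟨v, hv, hv1⟩ := (Subgroup.bot_or_exists_ne_one V).resolve_left hne
      refine ⟨⟨(v : G ⧸ (P : Subgroup G)), 1, fun he => hv1 ?_⟩⟩
      obtain ⟨k, hk⟩ := IsPGroup.iff_orderOf.1 P.2 ⟨v, (QuotientGroup.eq_one_iff v).1 he⟩
      rw [Subgroup.orderOf_mk] at hk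
      refine orderOf_eq_one_iff.1 (Nat.eq_one_of_dvd_coprimes
        ((hVmem v).1 hv |>.pow_right k) dvd_rfl hk.dvd)
    obtain ⟨lam, hlam⟩ := exists_linear_ne_one (G := G ⧸ (P : Subgroup G))
    let mu : G →* ℂ := lam.comp (QuotientGroup.mk' (P : Subgroup G))
    have htw : (⟨⇑mu * χ₀.1, Char.IsIrrCharacter.mul_linear χ₀.2 mu⟩ : Cfsg.IrrCharacter G) = χ₀ :=
      huniq _ (by
        have : Cfsg.charDegree (⇑mu * χ₀.1) = Cfsg.charDegree χ₀.1 := by
          unfold Cfsg.charDegree; simp [mu]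
        show p ∣ Cfsg.charDegree (⇑mu * χ₀.1)
        rw [this]; exact hχ₀)
    apply hlam
    have hsup : V ⊔ (P : Subgroup G) = ⊤ := by
      rw [← Subgroup.index_eq_one]
      refine Nat.eq_one_of_dvd_coprimes ?_ (Subgroup.index_dvd_of_le le_sup_left)
        (Subgroup.index_dvd_of_le le_sup_right)
      obtain ⟨k, hk⟩ := hVp.exists_card_eq
      rw [← Subgroup.index_eq_card] at hk
      rw [hk]
      exact Nat.Coprime.pow_left k ((Nat.Prime.coprime_iff_not_dvd hp).2 P.not_dvd_index)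
    refine MonoidHom.ext fun q => ?_
    obtain ⟨g, rfl⟩ := QuotientGroup.mk'_surjective (P : Subgroup G) q
    obtain ⟨v, hv, w, hw, rfl⟩ := Subgroup.mem_sup_of_normal_left.1
      (hsup ▸ Subgroup.mem_top g : g ∈ V ⊔ (P : Subgroup G))
    have h1 := congrFun (congrArg Subtype.val htw) v
    simp only [Pi.mul_apply, hχV v hv] at h1
    rw [mul_eq_right₀ (CharInt.irr_one_ne_zero χ₀.2)] at h1
    have h2 : (QuotientGroup.mk' (P : Subgroup G)) w = 1 := (QuotientGroup.eq_one_iff w).2 hw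
    show lam _ = 1
    rw [map_mul (QuotientGroup.mk' (P : Subgroup G)), h2, mul_one]
    exact h1
  have hG : IsPGroup p G := by
    subst hVbot
    exact hVp.of_equiv QuotientGroup.quotientBot
  -- exactly one non-linear character
  have hsq := Char.sum_degree_sq (G := G)
  rw [← Finset.sum_filter_add_sum_filter_not Finset.univ
    (fun χ : Cfsg.IrrCharacter G => χ.1 1 = 1)] at hsq
  have h1 : ∀ χ ∈ Finset.univ.filter (fun χ : Cfsg.IrrCharacter G => χ.1 1 = 1),
      Char.degree χ ^ 2 = 1 := fun χ hχ => by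
    have := (Finset.mem_filter.1 hχ).2
    rw [Char.apply_one_eq_degree, Nat.cast_eq_one] at this
    rw [this, one_pow]
  have hsingle : Finset.univ.filter (fun χ : Cfsg.IrrCharacter G => ¬χ.1 1 = 1) = {χ₀} := by
    ext χ
    simp only [Finset.mem_filter, Finset.mem_univ, true_and, Finset.mem_singleton]
    exact ⟨fun hχ => huniq χ ((dvd_degree_iff hG χ).2 hχ),
      fun hχ => hχ ▸ (dvd_degree_iff hG χ₀).1 hχ₀⟩
  rw [hsingle, Finset.sum_singleton, Finset.sum_congr rfl h1, Finset.sum_const, smul_eq_mul,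
    mul_one, ← Fintype.card_subtype, ← Nat.card_eq_fintype_card, Char.card_linear] at hsq
  rw [← Char.charDegree_eq_degree] at hsq
  obtain ⟨m, hm⟩ := hG.exists_card_eq
  obtain ⟨a, -, ha⟩ := (Nat.dvd_prime_pow hp).1 (hm ▸ (commutator G).index_dvd_card)
  obtain ⟨e, -, he⟩ := (Nat.dvd_prime_pow hp).1 (hm ▸ Char.charDegree_dvd_card χ₀)
  rw [ha, he, hm, ← pow_mul] at hsq
  have ham : a < m := by
    refine (Nat.pow_lt_pow_iff_right hp.one_lt).1 ?_
    have : 0 < p ^ (e * 2) := pow_pos hp.pos _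
    omega
  obtain ⟨i, rfl⟩ : ∃ i, m = a + (i + 1) := ⟨m - a - 1, by omega⟩
  have h2 : p ^ (e * 2) = p ^ a * (p ^ (i + 1) - 1) := by
    rw [Nat.mul_sub, ← pow_add, mul_one]; omega
  have hone : p ^ (i + 1) - 1 = 1 := by
    obtain ⟨j, -, hj⟩ := (Nat.dvd_prime_pow hp).1 (Dvd.intro_left _ h2.symm)
    rcases j with _ | j
    · rw [hj, pow_zero]
    · exfalso
      have h3 : p ∣ p ^ (i + 1) - 1 := hj ▸ dvd_pow_self p (Nat.succ_ne_zero j)
      have h4 : p ∣ 1 := (Nat.dvd_add_iff_right h3).2 (by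
        rw [Nat.sub_add_cancel (Nat.one_le_pow _ _ hp.pos)]; exact dvd_pow_self p (Nat.succ_ne_zero i))
      exact hp.one_lt.ne' (Nat.dvd_one.1 h4)
  have h5 : p ^ (i + 1) = 2 := by omega
  have hp2 : p = 2 :=
    (Nat.prime_dvd_prime_iff_eq hp Nat.prime_two).1 (h5 ▸ dvd_pow_self p (Nat.succ_ne_zero i))
  subst hp2
  have hi : i = 0 := by
    have := Nat.pow_right_injective (le_refl 2) (h5.trans (pow_one 2).symm)
    omega
  subst hi
  rw [hone, mul_one] at h2
  have hG' : Nat.card (commutator G) = 2 := by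
    have := Subgroup.index_mul_card (commutator G)
    rw [ha, hm, pow_succ] at this
    exact Nat.eq_of_mul_eq_mul_left (pow_pos two_pos a) this
  have hle : commutator G ≤ Subgroup.center G := by
    intro z hz
    rw [Subgroup.mem_center_iff]
    intro g
    obtain ⟨x, y, hxy, hset⟩ := Nat.card_eq_two_iff.1 hG'
    by_cases hz1 : z = 1
    · subst hz1; simp
    · have hu : ∀ w ∈ commutator G, w = 1 ∨ w = z := by
        intro w hw
        have hmem : ∀ v : commutator G, v = x ∨ v = y := fun v => by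
          have : v ∈ ({x, y} : Set (commutator G)) := hset ▸ Set.mem_univ v
          simpa using this
        have hne : (⟨z, hz⟩ : commutator G) ≠ 1 := fun e => hz1 (congrArg Subtype.val e)
        rcases hmem 1 with e1 | e1 <;> rcases hmem ⟨z, hz⟩ with e2 | e2 <;>
          rcases hmem ⟨w, hw⟩ with e3 | e3
        all_goals
          first
            | exact absurd (e2.trans e1.symm) hne
            | exact Or.inl (congrArg Subtype.val (e3.trans e1.symm))
            | exact Or.inr (congrArg Subtype.val (e3.trans e2.symm))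
      rcases hu _ ((inferInstance : (commutator G).Normal).conj_mem z hz g) with e | e
      · exact absurd (conj_eq_one_iff.1 e) hz1
      · exact mul_inv_eq_iff_eq_mul.1 e
  have hb := S1492.result χ₀.1 χ₀.2 ⊥ ⊤ (Subgroup.center G) bot_le le_top
    (fun c _ b hb => by rw [Subgroup.mem_bot.1 hb]; simp)
    (fun d hd c _ => by
      rw [Subgroup.mem_bot, ← Subgroup.mem_center_iff.1 hd c]
      group)
    (fun b hb => by rw [Subgroup.mem_bot.1 hb])
  rw [← Char.charDegree_cast, Complex.norm_natCast, Subgroup.card_top, he] at hb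
  have hb' : (2 ^ e) ^ 2 * Nat.card G * Nat.card (Subgroup.center G) ≤ Nat.card G ^ 2 := by
    exact_mod_cast hb
  rw [← pow_mul, h2, hm, sq, mul_assoc, mul_comm (2 ^ a), mul_assoc] at hb'
  have hZ : Nat.card (Subgroup.center G) * 2 ^ a ≤ 2 ^ (a + (0 + 1)) :=
    Nat.le_of_mul_le_mul_left hb' (pow_pos two_pos _)
  have hZ2 : Nat.card (Subgroup.center G) ≤ 2 := by
    rw [pow_add, mul_comm] at hZ
    exact Nat.le_of_mul_le_mul_left hZ (pow_pos two_pos a)
  have hZeq : commutator G = Subgroup.center G :=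
    Subgroup.eq_of_le_of_card_ge hle (by rw [hG']; exact hZ2)
  have hpow : ∀ x : G, x ^ 2 ∈ Subgroup.center G := fun x => by
    rw [Subgroup.mem_center_iff]
    intro g
    have hc : ⁅x, g⁆ ∈ commutator G :=
      Subgroup.commutator_mem_commutator (Subgroup.mem_top _) (Subgroup.mem_top _)
    have hsq1 : ⁅x, g⁆ ^ 2 = 1 := by
      have := congrArg Subtype.val (pow_card_eq_one' (x := (⟨_, hc⟩ : commutator G)))
      rwa [hG'] at this
    have hcx : Commute x ⁅x, g⁆ := Subgroup.mem_center_iff.1 (hle hc) x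
    have hxg : x * g = ⁅x, g⁆ * g * x := by rw [commutatorElement_def]; group
    have : x ^ 2 * g = ⁅x, g⁆ ^ 2 * g * x ^ 2 := by
      calc x ^ 2 * g = x * (⁅x, g⁆ * g * x) := by rw [sq, mul_assoc, hxg]
        _ = ⁅x, g⁆ * (x * g) * x := by simp only [← mul_assoc, hcx.eq]
        _ = ⁅x, g⁆ * (⁅x, g⁆ * g * x) * x := by rw [← hxg]
        _ = _ := by simp only [sq, mul_assoc]
    rw [this, hsq1, one_mul]
  refine ⟨rfl, ⟨hG, le_antisymm (PGroup.frattini_le (p := 2) hZeq.le hpow) ?_, hZeq⟩, ?_⟩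
  · rw [← hZeq]; exact PGroup.commutator_le_frattini hG
  · rw [← hZeq]; exact hG'

/-- Let p be a prime and G a finite nilpotent group. Then G has exactly one irreducible complex character of degree divisible by p if and only if p = 2 and G is an extraspecial 2-group. -/
theorem result {G : Type*} [Group G] [Finite G] [Group.IsNilpotent G] (p : ℕ) [Fact p.Prime] : Nat.card {χ : Cfsg.IrrCharacter G // p ∣ Cfsg.charDegree (χ : G → ℂ)} = 1 ↔ (p = 2 ∧ Cfsg.IsExtraspecial 2 G) := by
  constructor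
  · exact to_extraspecial
  · rintro ⟨rfl, h⟩
    exact of_extraspecial h

end Cfsg.Agent.S4762
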