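import Cfsg.Statements.S4763
import Cfsg.Agent.Lib.Clifford.CoprimeExtension
import Cfsg.Agent.Lib.Glauberman.Solvable
import Cfsg.Agent.Lib.Char.FixedIrr
import Cfsg.Agent.Lib.Char.Ito
import Cfsg.Agent.Lib.Char.KernelSum
import Cfsg.Agent.Lib.Char.PRegular

set_option autoImplicit false
set_option linter.style.haveILetI false
set_option linter.unusedSectionVars false
open Cfsg
open scoped Classical

namespace Cfsg.Agent.S4763

open Cfsg.Agent.Char

universe u

variable {G : Type u} [Group G] [Fintype G] {p : ℕ} [Fact p.Prime] {N : Subgroup G} [N.Normal]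

theorem not_dvd_degree (hN : (Nat.card N).Coprime p) (θ : IrrCharacter N) : ¬ p ∣ degree θ := fun h =>
  (Fact.out : p.Prime).one_lt.ne' (Nat.eq_one_of_dvd_coprimes hN
    (h.trans (degree_dvd_natCard θ)) dvd_rfl)

theorem classInner_const_ne_zero {θ : IrrCharacter N} {c : ℂ}
    (h : classInner (fun _ : N => c) θ.1 ≠ 0) : θ = trivialChar N := by
  by_contra hne
  apply h
  have h1 : (fun _ : N => c) = c • (trivialChar N).1 := by funext x; simp
  rw [h1, classInner_smul_left,
    classInner_irr_of_ne (trivialChar N).2 θ.2 fun e => hne (Subtype.ext e.symm), mul_zero]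

theorem exists_above (θ : IrrCharacter N) :
    ∃ χ : IrrCharacter G, classInner (resFun N χ.1) θ.1 ≠ 0 :=
  Glauberman.exists_over N.subtype N.subtype_injective θ

theorem dvd_of_moved {k : ℕ} (hk : N.index = p ^ k) (θ : IrrCharacter N)
    (hθ : ¬ ∀ g, conjFun N θ.1 g = θ.1) (χ : IrrCharacter G)
    (hχ : classInner (resFun N χ.1) θ.1 ≠ 0) : p ∣ degree χ := by
  obtain ⟨m, hm⟩ := IsCharacter.exists_nat_classInner
    (IsCharacter.restrict (irr_isCharacter χ) N) (irr_isCharacter θ)
  have h1 := apply_one_eq_mul_card_orbit N χ θ hχ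
  rw [apply_one_eq_degree, apply_one_eq_degree,
    show classInner (resFun N χ.1) θ.1 = (m : ℂ) from hm] at h1
  have h2 : degree χ = m * ((orbitFinset N θ).card * degree θ) := by exact_mod_cast h1
  have h3 : (orbitFinset N θ).card ∣ p ^ k := by
    rw [← index_inertia N θ, ← hk]
    exact Subgroup.index_dvd_of_le (irr_le_inertia N θ)
  obtain ⟨j, -, hj⟩ := (Nat.dvd_prime_pow (Fact.out : p.Prime)).1 h3
  rcases Nat.eq_zero_or_pos j with rfl | hj0
  · refine absurd (fun g => ?_) hθ
    rw [pow_zero, ← index_inertia N θ, Subgroup.index_eq_one] at hj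
    exact (mem_inertia N).1 (hj ▸ Subgroup.mem_top g)
  · rw [h2, hj]
    exact Dvd.dvd.mul_left (Dvd.dvd.mul_right (dvd_pow_self p hj0.ne') _) _

theorem exists_ext (hcop : Nat.Coprime N.index (Nat.card N)) (θ : IrrCharacter N)
    (hinv : ∀ g, conjFun N θ.1 g = θ.1) : ∃ χ : IrrCharacter G, resFun N χ.1 = θ.1 := by
  obtain ⟨χ, hχ, -⟩ := (Clifford.existsUnique_extension_of_coprime_card θ hinv hcop).exists
  exact ⟨χ, funext hχ⟩

theorem inertia_eq (hcop : Nat.Coprime N.index (Nat.card N)) (θ : IrrCharacter N)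
    (χ : IrrCharacter G)
    (huniq : ∀ ψ : IrrCharacter G, classInner (resFun N ψ.1) θ.1 ≠ 0 → ψ = χ) :
    (orbitFinset N θ).card = N.index ∧ inertia N θ.1 = N := by
  haveI : Fintype (inertia N θ.1) := Fintype.ofFinite _
  set I := inertia N θ.1 with hI
  have hNI : N ≤ I := irr_le_inertia N θ
  haveI : Fintype (N.subgroupOf I) := Fintype.ofFinite _
  let e : N.subgroupOf I ≃* N := Subgroup.subgroupOfEquivOfLe hNI
  let θ' : IrrCharacter (N.subgroupOf I) :=
    ⟨fun x => θ.1 (e x), IsIrrCharacter.comp_surjective θ.2 e.toMonoidHom e.surjective⟩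
  have hinv : ∀ g : I, conjFun (N.subgroupOf I) θ'.1 g = θ'.1 := fun g => funext fun x => by
    have := congrFun ((mem_inertia N).1 g.2) (e x)
    refine Eq.trans ?_ this
    exact congrArg θ.1 (Subtype.ext (by simp [e, Subgroup.subgroupOfEquivOfLe]))
  have hcop' : Nat.Coprime (N.subgroupOf I).index (Nat.card (N.subgroupOf I)) := by
    rw [Nat.card_congr e.toEquiv]
    exact hcop.coprime_dvd_left (Subgroup.relIndex_dvd_index_of_le hNI)
  obtain ⟨ψ, hψ, -⟩ := (Clifford.existsUnique_extension_of_coprime_card θ' hinv hcop').exists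
  have hres : resIncl N hNI ψ.1 = θ.1 := funext fun n => by
    have := hψ (e.symm n)
    simp only [θ', MulEquiv.apply_symm_apply] at this
    exact this
  have h1 : classInner (resIncl N hNI ψ.1) θ.1 = 1 := by rw [hres, classInner_irr_self θ.2]
  set χ' := cliffordInduce N θ ⟨ψ, by rw [h1]; exact one_ne_zero⟩
  have hm : classInner (resFun N χ'.1) θ.1 = 1 :=
    (classInner_resFun_cliffordInduce N θ _).trans h1
  have hχ : χ' = χ := huniq χ' (by rw [hm]; exact one_ne_zero)
  rw [hχ] at hm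
  have hind : indFun N θ.1 = χ.1 := by
    rw [eq_sum_classInner_smul (isClassFunction_indFun N θ.1), Finset.sum_eq_single χ]
    · rw [classInner_indFun N θ.1 (IsCharacter.isClassFunction (irr_isCharacter χ)),
        ← conj_classInner]
      rw [show classInner (fun h : N => χ.1 h) θ.1 = 1 from hm, map_one, one_smul]
    · intro b _ hb
      rw [classInner_indFun N θ.1 (IsCharacter.isClassFunction (irr_isCharacter b)),
        ← conj_classInner]
      have : classInner (fun h : N => b.1 h) θ.1 = 0 := by_contra fun h => hb (huniq b h)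
      rw [this, map_zero, zero_smul]
    · exact fun h => absurd (Finset.mem_univ χ) h
  have h2 := congrFun hind 1
  rw [indFun_apply_one, apply_one_eq_mul_card_orbit N χ θ (by rw [hm]; exact one_ne_zero), hm,
    one_mul] at h2
  have h3 : N.index = (orbitFinset N θ).card := by
    exact_mod_cast mul_right_cancel₀ (IsIrrCharacter.apply_one_ne_zero θ.2) h2
  refine ⟨h3.symm, ?_⟩
  have h4 : (inertia N θ.1).index = N.index := by rw [index_inertia, h3]
  have h5 := Subgroup.relIndex_mul_index hNI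
  rw [hI, h4] at h5
  exact le_antisymm (Subgroup.relIndex_eq_one.1
    ((Nat.mul_eq_right Subgroup.index_ne_zero_of_finite).1 h5)) hNI

theorem index_centralizer_eq (a : G) :
    Nat.card (ConjClasses.mk a).carrier = (Subgroup.centralizer ({a} : Set G)).index := by
  rw [← ConjAct.orbit_eq_carrier_conjClasses, Nat.card_congr
    (MulAction.orbitEquivQuotientStabilizer (ConjAct G) a), ← Subgroup.index,
    Subgroup.centralizer_eq_comap_stabilizer]
  exact (Subgroup.index_comap_of_surjective _ ConjAct.toConjAct.surjective).symm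

theorem result' (hnil : ¬ Group.IsNilpotent G) (hN : (Nat.card N).Coprime p) {k : ℕ}
    (hk : N.index = p ^ k)
    (hone : Nat.card {χ : IrrCharacter G // p ∣ charDegree (χ : G → ℂ)} = 1) :
    Nat.card {C : ConjClasses G // p ∣ Nat.card C.carrier} = 1 := by
  have hp : p.Prime := Fact.out
  have hcop : Nat.Coprime N.index (Nat.card N) := by rw [hk]; exact hN.symm.pow_left k
  simp only [charDegree_eq_degree] at hone
  rw [Nat.card_eq_one_iff_unique] at hone
  obtain ⟨hsub, ⟨⟨χ0, hχ0⟩⟩⟩ := hone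
  have huniq : ∀ χ : IrrCharacter G, p ∣ degree χ → χ = χ0 := fun χ h =>
    congrArg Subtype.val (@Subsingleton.elim _ hsub ⟨χ, h⟩ ⟨χ0, hχ0⟩)
  have hNne : N ≠ ⊥ := by
    intro hb
    apply hnil
    have hG : IsPGroup p G := IsPGroup.of_card (n := k) (by rw [← Subgroup.index_bot, ← hb, hk])
    exact hG.isNilpotent
  haveI : Nontrivial N := (Subgroup.nontrivial_iff_ne_bot N).2 hNne
  have hQ1 : ∀ β : IrrCharacter (G ⧸ N), β.1 1 = 1 := by
    intro β
    have hd : degree β ∣ p ^ k := by
      rw [← hk]; exact degree_dvd_natCard β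
    obtain ⟨j, -, hj⟩ := (Nat.dvd_prime_pow hp).1 hd
    rcases Nat.eq_zero_or_pos j with rfl | hj0
    · rw [apply_one_eq_degree, hj, pow_zero, Nat.cast_one]
    exfalso
    let χβ : IrrCharacter G := ⟨fun g => β.1 (g : G ⧸ N),
      IsIrrCharacter.comp_surjective β.2 (QuotientGroup.mk' N) (QuotientGroup.mk'_surjective N)⟩
    have hres : resFun N χβ.1 = fun _ : N => β.1 1 := funext fun n => by
      show β.1 ((n : G) : G ⧸ N) = β.1 1
      rw [(QuotientGroup.eq_one_iff _).2 n.2]
    have hdeg : p ∣ degree χβ := by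
      have h1 : (degree χβ : ℂ) = degree β := by
        rw [← apply_one_eq_degree, ← apply_one_eq_degree]; rfl
      rw [Nat.cast_inj.1 h1, hj]
      exact dvd_pow_self p hj0.ne'
    have hχβ := huniq χβ hdeg
    obtain ⟨θ, hθ⟩ : ∃ θ : IrrCharacter N, θ ≠ trivialChar N := by
      haveI : Nontrivial (IrrCharacter N) := by
        rw [← Finite.one_lt_card_iff_nontrivial, card_irr, Finite.one_lt_card_iff_nontrivial]
        obtain ⟨x, hx⟩ := exists_ne (1 : N)
        exact ⟨⟨ConjClasses.mk x, ConjClasses.mk 1, fun h => hx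
          (isConj_one_left.1 (ConjClasses.mk_eq_mk_iff_isConj.1 h))⟩⟩
      exact exists_ne _
    by_cases hinv : ∀ g, conjFun N θ.1 g = θ.1
    · obtain ⟨χθ, hχθ⟩ := exists_ext hcop θ hinv
      have hirr : IsIrrCharacter N (resFun N χθ.1) := by rw [hχθ]; exact θ.2
      let ψ : IrrCharacter G :=
        ⟨mulQuotient N χθ.1 β.1, isIrrCharacter_mulQuotient N χθ hirr β⟩
      have hψd : p ∣ degree ψ := by
        have h1 : (degree ψ : ℂ) = (degree χθ * degree β : ℕ) := by
          rw [Nat.cast_mul, ← apply_one_eq_degree, ← apply_one_eq_degree, ← apply_one_eq_degree]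
          show χθ.1 1 * β.1 ((1 : G) : G ⧸ N) = _
          rw [QuotientGroup.mk_one]
        rw [Nat.cast_inj.1 h1, hj]
        exact Dvd.dvd.mul_left (dvd_pow_self p hj0.ne') _
      have h1 : resFun N ψ.1 = resFun N χβ.1 := by rw [huniq ψ hψd, hχβ]
      rw [show resFun N ψ.1 = β.1 1 • resFun N χθ.1 from resFun_mulQuotient N χθ.1 β.1,
        hres, hχθ] at h1
      refine hθ (classInner_const_ne_zero (c := β.1 1) ?_)
      rw [← h1, classInner_smul_left, classInner_irr_self θ.2, mul_one]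
      exact IsIrrCharacter.apply_one_ne_zero β.2
    · obtain ⟨χ, hχ⟩ := exists_above θ
      rw [huniq χ (dvd_of_moved hk θ hinv χ hχ), ← hχβ, hres] at hχ
      exact hθ (classInner_const_ne_zero hχ)
  have hQc : ∀ a b : G ⧸ N, a * b = b * a := forall_apply_one_iff_comm.1 hQ1
  obtain ⟨θ0, hθ0, hmv0⟩ : ∃ θ : IrrCharacter N,
      classInner (resFun N χ0.1) θ.1 ≠ 0 ∧ ¬ ∀ g, conjFun N θ.1 g = θ.1 := by
    obtain ⟨θ, hθ⟩ := exists_constituent N χ0
    refine ⟨θ, hθ, fun hinv => ?_⟩
    obtain ⟨χθ, hχθ⟩ := exists_ext hcop θ hinv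
    have hirr : IsIrrCharacter N (resFun N χθ.1) := by rw [hχθ]; exact θ.2
    obtain ⟨β, hβ⟩ := exists_mulQuotient_eq N χθ hirr χ0 (by rw [hχθ]; exact hθ)
    have h1 : (degree χ0 : ℂ) = degree θ := by
      rw [← apply_one_eq_degree, ← apply_one_eq_degree, ← hβ]
      show χθ.1 1 * β.1 ((1 : G) : G ⧸ N) = _
      rw [QuotientGroup.mk_one, hQ1 β, mul_one, ← hχθ]
      rfl
    exact not_dvd_degree hN θ (Nat.cast_inj.1 h1 ▸ hχ0)
  have hmoved : ∀ θ : IrrCharacter N, (¬ ∀ g, conjFun N θ.1 g = θ.1) →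
      inertia N θ.1 = N ∧ θ ∈ orbitFinset N θ0 := by
    intro θ hθ
    obtain ⟨χ, hχ⟩ := exists_above θ
    refine ⟨(inertia_eq hcop θ χ0 fun ψ hψ => huniq ψ (dvd_of_moved hk θ hθ ψ hψ)).2, ?_⟩
    rw [huniq χ (dvd_of_moved hk θ hθ χ hχ)] at hχ
    exact (mem_orbitFinset N).2 (exists_conjChar_of_constituents N χ0 θ0 θ hθ0 hχ)
  have hcard : (orbitFinset N θ0).card = N.index :=
    (inertia_eq hcop θ0 χ0 fun ψ hψ => huniq ψ (dvd_of_moved hk θ0 hmv0 ψ hψ)).1
  have hmvset : ∀ θ : IrrCharacter N,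
      θ ∈ orbitFinset N θ0 ↔ ¬ ∀ g, conjFun N θ.1 g = θ.1 := by
    refine fun θ => ⟨fun h hinv => hmv0 ?_, fun h => (hmoved θ h).2⟩
    obtain ⟨g, rfl⟩ := (mem_orbitFinset N).1 h
    have : θ0.1 = (conjChar N θ0 g).1 := by
      have h1 := hinv g⁻¹
      rw [conjChar_coe, ← conjFun_mul, mul_inv_cancel, conjFun_one] at h1
      exact h1
    intro x
    rw [this]
    exact hinv x
  -- a complement
  obtain ⟨P, hNP⟩ := Subgroup.exists_right_complement'_of_coprime hcop.symm
  have hPcard : Nat.card P = N.index := by rw [hNP.symm.index_eq_card]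
  have hPp : IsPGroup p P := IsPGroup.of_card (n := k) (hPcard.trans hk)
  have hPi : ¬ p ∣ P.index := by
    rw [hNP.index_eq_card]
    exact fun h => hp.one_lt.ne' (Nat.eq_one_of_dvd_coprimes hN h dvd_rfl)
  have hPab : ∀ a ∈ P, ∀ b ∈ P, a * b = b * a := by
    intro a ha b hb
    have h1 : a * b * (b * a)⁻¹ ∈ N := (QuotientGroup.eq_one_iff _).1 (by
      rw [QuotientGroup.mk_mul, QuotientGroup.mk_inv, QuotientGroup.mk_mul, QuotientGroup.mk_mul,
        hQc (a : G ⧸ N) b, mul_inv_cancel])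
    have h2 : a * b * (b * a)⁻¹ ∈ N ⊓ P :=
      ⟨h1, P.mul_mem (P.mul_mem ha hb) (P.inv_mem (P.mul_mem hb ha))⟩
    rw [hNP.disjoint.eq_bot, Subgroup.mem_bot] at h2
    exact mul_inv_eq_one.1 h2
  let φ : P →* MulAut N := MulAut.conjNormal.comp P.subtype
  have hPcop : (Nat.card N).Coprime (Nat.card P) := by rw [hPcard]; exact hcop.symm
  have hpN : ¬ p ∣ Nat.card N := fun h => hp.one_lt.ne' (Nat.eq_one_of_dvd_coprimes hN h dvd_rfl)
  -- fixed characters
  have hfixP : ∀ θ : IrrCharacter N, Glauberman.IsFix φ θ.1 ↔ ∀ g, conjFun N θ.1 g = θ.1 := by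
    intro θ
    refine ⟨fun h => ?_, fun h t x => congrFun (h t) x⟩
    have h1 : N ⊔ P ≤ inertia N θ.1 := sup_le (irr_le_inertia N θ) fun a ha =>
      (mem_inertia N).2 (funext fun x => h ⟨a, ha⟩ x)
    rw [hNP.sup_eq_top] at h1
    exact fun g => (mem_inertia N).1 (h1 (Subgroup.mem_top g))
  have hfixa : ∀ a : P, a ≠ 1 → ∀ θ : IrrCharacter N,
      (fun x => θ.1 (φ a x)) = θ.1 ↔ Glauberman.IsFix φ θ.1 := by
    intro a ha θ
    refine ⟨fun h => (hfixP θ).2 (by_contra fun hm => ?_), fun h => funext fun x => h a x⟩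
    have h1 : (a : G) ∈ inertia N θ.1 := (mem_inertia N).2 h
    rw [(hmoved θ hm).1] at h1
    have h2 : (a : G) ∈ N ⊓ P := ⟨h1, a.2⟩
    rw [hNP.disjoint.eq_bot, Subgroup.mem_bot] at h2
    exact ha (Subtype.ext h2)
  haveI : Finite (ConjClasses N) := Finite.of_surjective _ ConjClasses.mk_surjective
  let Fix : ConjClasses N → Prop := fun K => ∀ t : P, ConjClasses.map (φ t).toMonoidHom K = K
  have hF : Nat.card {θ : IrrCharacter N // Glauberman.IsFix φ θ.1} = Nat.card {K // Fix K} :=
    Glauberman.card_fix_irr_eq_card_fix_classes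
      (haveI := hPp.isNilpotent; inferInstance) φ hPcop
  have hclass : ∀ a : P, a ≠ 1 → ∀ K : ConjClasses N,
      ConjClasses.map (φ a).toMonoidHom K = K → Fix K := by
    intro a ha K hK
    have h1 : Nat.card {C : ConjClasses N // classPerm (φ a) C = C} = Nat.card {K // Fix K} := by
      rw [← card_fixed_irr_eq_card_fixed_class, ← hF]
      exact Nat.card_congr (Equiv.subtypeEquivRight (hfixa a ha))
    let f : {K // Fix K} → {C : ConjClasses N // classPerm (φ a) C = C} := fun K => ⟨K.1, K.2 a⟩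
    have hf : Function.Bijective f :=
      (Nat.bijective_iff_injective_and_card f).2
        ⟨fun x y e => Subtype.ext (congrArg (fun z : {C : ConjClasses N // classPerm (φ a) C = C} =>
          z.1) e), h1.symm⟩
    obtain ⟨⟨K', hK'⟩, e⟩ := hf.2 ⟨K, hK⟩
    have : K' = K := congrArg Subtype.val e
    exact this ▸ hK'
  have hnum : Nat.card {K : ConjClasses N // ¬ Fix K} = Nat.card P := by
    have h1 : Nat.card {θ : IrrCharacter N // ¬ Glauberman.IsFix φ θ.1} = Nat.card P := by
      rw [hPcard, ← hcard, ← Nat.card_eq_finsetCard]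
      refine Nat.card_congr (Equiv.subtypeEquivRight fun θ => ?_)
      rw [hfixP, hmvset]
    have h2 := card_irr (G := N)
    rw [← Nat.card_congr (Equiv.sumCompl fun θ : IrrCharacter N => Glauberman.IsFix φ θ.1),
      ← Nat.card_congr (Equiv.sumCompl Fix), Nat.card_sum, Nat.card_sum, hF, h1] at h2
    omega
  -- classes
  have hsize : ∀ x : N, p ∣ Nat.card (ConjClasses.mk (x : G)).carrier ↔
      ¬ Fix (ConjClasses.mk x) := by
    intro x
    rw [index_centralizer_eq]
    constructor
    · intro hd hfx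
      letI : MulAction P N := MulAction.compHom N φ
      let X : SubMulAction P N :=
        { carrier := {y | ConjClasses.mk y = ConjClasses.mk x}
          smul_mem' := fun t y (hy : ConjClasses.mk y = ConjClasses.mk x) => by
            show ConjClasses.mk (φ t y) = ConjClasses.mk x
            exact (congrArg (ConjClasses.map (φ t).toMonoidHom) hy).trans (hfx t) }
      have hX : ¬ p ∣ Nat.card X := by
        intro hdX
        apply hpN
        refine hdX.trans ?_
        rw [← card_centralizer_mul_card_conj x]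
        refine Dvd.dvd.mul_left (dvd_of_eq (Nat.card_congr (Equiv.subtypeEquivRight fun y => ?_))) _
        show ConjClasses.mk y = ConjClasses.mk x ↔ _
        rw [ConjClasses.mk_eq_mk_iff_isConj]
        exact isConj_comm
      obtain ⟨⟨y, hy⟩, hyfix⟩ := hPp.nonempty_fixed_point_of_prime_not_dvd_card X hX
      have hyc : P ≤ Subgroup.centralizer ({(y : G)} : Set G) := fun a ha => by
        have h := congrArg (fun z : X => ((z.1 : N) : G)) (hyfix ⟨a, ha⟩)
        rw [Subgroup.mem_centralizer_singleton_iff]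
        exact mul_inv_eq_iff_eq_mul.1 h
      refine hPi (dvd_trans ?_ (Subgroup.index_dvd_of_le hyc))
      have hyx : ConjClasses.mk (y : G) = ConjClasses.mk (x : G) :=
        ConjClasses.mk_eq_mk_iff_isConj.2
          (N.subtype.map_isConj (ConjClasses.mk_eq_mk_iff_isConj.1 hy))
      rw [← index_centralizer_eq, hyx, index_centralizer_eq]
      exact hd
    · intro hnf
      by_contra hd
      apply hnf
      set C := Subgroup.centralizer ({(x : G)} : Set G)
      obtain ⟨Q⟩ : Nonempty (Sylow p C) := inferInstance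
      obtain ⟨g, hg⟩ := MulAction.exists_smul_eq G (hPp.toSylow hPi)
        ((Q.2.map C.subtype).toSylow (p := p) (P := Q.1.map C.subtype) (by
          rw [Subgroup.index_map, C.subtype.ker_eq_bot C.subtype_injective, sup_bot_eq,
            Subgroup.range_subtype]
          exact fun h => (hp.dvd_mul.1 h).elim Q.not_dvd_index hd))
      obtain ⟨n, hn, a, ha, rfl⟩ : ∃ n ∈ N, ∃ a ∈ P, n * a = g := by
        have := Subgroup.mem_top g
        rw [← hNP.sup_eq_top, ← SetLike.mem_coe, Subgroup.normal_mul] at this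
        exact Set.mem_mul.1 this
      have hle : ∀ b ∈ P, n * b * n⁻¹ ∈ C := by
        intro b hb
        have h1 : (n * a) * (a⁻¹ * b * a) * (n * a)⁻¹ ∈
            ((n * a) • hPp.toSylow hPi : Sylow p G).toSubgroup := by
          rw [Sylow.coe_subgroup_smul]
          exact ⟨a⁻¹ * b * a, P.mul_mem (P.mul_mem (P.inv_mem ha) hb) ha, rfl⟩
        rw [hg] at h1
        obtain ⟨c, -, hc⟩ := h1
        have h2 : n * b * n⁻¹ = (n * a) * (a⁻¹ * b * a) * (n * a)⁻¹ := by group
        rw [h2, ← hc]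
        exact c.2
      intro t
      obtain ⟨y, hy⟩ : ∃ y : N, y = MulAut.conjNormal n⁻¹ x := ⟨_, rfl⟩
      have hyx : ConjClasses.mk x = ConjClasses.mk y := by
        refine ConjClasses.mk_eq_mk_iff_isConj.2 (isConj_iff.2 ⟨⟨n⁻¹, N.inv_mem hn⟩, ?_⟩)
        exact Subtype.ext (by simp [hy])
      have hfy : φ t y = y := by
        apply Subtype.ext
        have := Subgroup.mem_centralizer_singleton_iff.1 (hle t t.2)
        rw [hy]
        show (t : G) * (n⁻¹ * (x : G) * n⁻¹⁻¹) * (t : G)⁻¹ = n⁻¹ * (x : G) * n⁻¹⁻¹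
        calc (t : G) * (n⁻¹ * (x : G) * n⁻¹⁻¹) * (t : G)⁻¹
            = n⁻¹ * (n * t * n⁻¹ * (x : G)) * (n * (t : G)⁻¹) := by group
          _ = n⁻¹ * ((x : G) * (n * t * n⁻¹)) * (n * (t : G)⁻¹) := by rw [this]
          _ = _ := by group
      rw [hyx]
      exact congrArg ConjClasses.mk hfy
  have hout : ∀ g : G, g ∉ N → ¬ p ∣ Nat.card (ConjClasses.mk g).carrier := by
    intro g hg
    obtain ⟨u, v, huv⟩ : ∃ u v : ℤ, (Nat.card N : ℤ) * u + (N.index : ℤ) * v = 1 := by
      obtain ⟨u, v, h⟩ := Nat.Coprime.isCoprime hcop.symm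
      exact ⟨u, v, by linarith⟩
    have hpow : ∀ x : G, x ^ ((Nat.card N : ℤ) * N.index) = 1 := fun x => by
      rw [← Nat.cast_mul, zpow_natCast, N.card_mul_index]
      exact pow_card_eq_one'
    set gp := g ^ ((Nat.card N : ℤ) * u)
    set gq := g ^ ((N.index : ℤ) * v)
    have hprod : gq * gp = g := by
      rw [← zpow_add, add_comm, huv, zpow_one]
    have hqN : gq ∈ N := by
      rw [← QuotientGroup.eq_one_iff, QuotientGroup.mk_zpow, zpow_mul, zpow_natCast,
        show N.index = Nat.card (G ⧸ N) from rfl, pow_card_eq_one', one_zpow]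
    have hpp : IsPGroup p (Subgroup.zpowers gp) := by
      rintro ⟨x, i, rfl⟩
      refine ⟨k, Subtype.ext ?_⟩
      push_cast
      rw [← hk, ← zpow_natCast, ← zpow_mul, ← zpow_mul,
        show (Nat.card N : ℤ) * u * (i * N.index) = (Nat.card N * N.index) * (u * i) by ring,
        zpow_mul, hpow, one_zpow]
    obtain ⟨Q, hQ⟩ := hpp.exists_le_sylow
    obtain ⟨c, hc⟩ := MulAction.exists_smul_eq G Q (hPp.toSylow hPi)
    have ha : c * gp * c⁻¹ ∈ P := by
      have h1 : c * gp * c⁻¹ ∈ (c • Q : Sylow p G).toSubgroup := by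
        rw [Sylow.coe_subgroup_smul]
        exact ⟨gp, hQ (Subgroup.mem_zpowers gp), rfl⟩
      rw [hc] at h1
      exact h1
    set a : P := ⟨c * gp * c⁻¹, ha⟩
    let x : N := ⟨c * gq * c⁻¹, Subgroup.Normal.conj_mem inferInstance _ hqN c⟩
    have hax : φ a x = x := by
      apply Subtype.ext
      show c * gp * c⁻¹ * (c * gq * c⁻¹) * (c * gp * c⁻¹)⁻¹ = c * gq * c⁻¹
      have : gp * gq = gq * gp := ((Commute.refl g).zpow_zpow _ _).eq
      calc c * gp * c⁻¹ * (c * gq * c⁻¹) * (c * gp * c⁻¹)⁻¹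
          = c * (gp * gq) * gp⁻¹ * c⁻¹ := by group
        _ = c * (gq * gp) * gp⁻¹ * c⁻¹ := by rw [this]
        _ = _ := by group
    have ha1 : a ≠ 1 := by
      intro h
      apply hg
      have h1 : gp = 1 := conj_eq_one_iff.1 (congrArg Subtype.val h)
      rw [← hprod, h1, mul_one]
      exact hqN
    have hfx : Fix (ConjClasses.mk x) := hclass a ha1 _ (congrArg ConjClasses.mk hax)
    -- a fixed point in the class
    letI : MulAction P N := MulAction.compHom N φ
    let X : SubMulAction P N :=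
      { carrier := {y | ConjClasses.mk y = ConjClasses.mk x}
        smul_mem' := fun t y (hy : ConjClasses.mk y = ConjClasses.mk x) => by
          show ConjClasses.mk (φ t y) = ConjClasses.mk x
          exact (congrArg (ConjClasses.map (φ t).toMonoidHom) hy).trans (hfx t) }
    have hX : ¬ p ∣ Nat.card X := by
      intro hdX
      apply hpN
      refine hdX.trans ?_
      rw [← card_centralizer_mul_card_conj x]
      refine Dvd.dvd.mul_left (dvd_of_eq (Nat.card_congr (Equiv.subtypeEquivRight fun y => ?_))) _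
      show ConjClasses.mk y = ConjClasses.mk x ↔ _
      rw [ConjClasses.mk_eq_mk_iff_isConj]
      exact isConj_comm
    obtain ⟨⟨w, hw⟩, hwfix⟩ := hPp.nonempty_fixed_point_of_prime_not_dvd_card X hX
    have hw' : ∀ t : P, φ t w = w := fun t => congrArg (fun z : X => z.1) (hwfix t)
    let ψ : Subgroup.zpowers a →* MulAut N := φ.comp (Subgroup.zpowers a).subtype
    have hxm : x ∈ Coprime.fixedBy ψ := by
      rintro ⟨t, ht⟩
      have hle : Subgroup.zpowers a ≤ MulAction.stabilizer P x := Subgroup.zpowers_le.2 hax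
      exact hle ht
    have hwm : w ∈ Coprime.fixedBy ψ := fun t => hw' _
    haveI : Fintype (Coprime.fixedBy ψ) := Fintype.ofFinite _
    obtain ⟨d, hd⟩ := isConj_iff.1 (Glauberman.exists_conj_of_isConj (p := p) (φ := ψ)
      (ι := (Coprime.fixedBy ψ).subtype) (hPp.to_subgroup _) (Glauberman.fixedBy_isFixedEmbedding ψ)
      hpN (c := ⟨x, hxm⟩) (c' := ⟨w, hwm⟩)
      (ConjClasses.mk_eq_mk_iff_isConj.1 hw.symm))
    have hda : φ a d.1 = d.1 := d.2 ⟨a, Subgroup.mem_zpowers a⟩
    set D : G := ((d.1 : N) : G)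
    have hdA : D * (c * gp * c⁻¹) * D⁻¹ = c * gp * c⁻¹ := by
      have h1 : c * gp * c⁻¹ * D * (c * gp * c⁻¹)⁻¹ = D :=
        congrArg Subtype.val hda
      rw [← mul_inv_eq_iff_eq_mul.1 h1, mul_inv_cancel_right]
    have hdx : D * (c * gq * c⁻¹) * D⁻¹ = (w : G) :=
      congrArg (fun z : Coprime.fixedBy ψ => ((z.1 : N) : G)) hd
    have hz : IsConj g ((w : G) * (a : G)) := by
      refine isConj_iff.2 ⟨D * c, ?_⟩
      rw [← hdx, show (a : G) = c * gp * c⁻¹ from rfl]
      conv_rhs => arg 2; rw [← hdA]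
      rw [← hprod]
      group
    rw [ConjClasses.mk_eq_mk_iff_isConj.2 hz, index_centralizer_eq]
    refine fun h => hPi (h.trans (Subgroup.index_dvd_of_le fun b hb => ?_))
    rw [Subgroup.mem_centralizer_singleton_iff]
    have h1 : b * (w : G) = (w : G) * b :=
      mul_inv_eq_iff_eq_mul.1 (congrArg Subtype.val (hw' ⟨b, hb⟩))
    calc b * ((w : G) * a) = b * w * a := by group
      _ = w * (b * a) := by rw [h1]; group
      _ = w * (a * b) := by rw [hPab b hb a a.2]
      _ = _ := by group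
  -- conclusion
  rw [Nat.card_eq_one_iff_exists]
  haveI hne : Nonempty {K : ConjClasses N // ¬ Fix K} := by
    rw [← not_isEmpty_iff]; intro h
    rw [Nat.card_of_isEmpty] at hnum
    exact Nat.card_pos.ne hnum
  obtain ⟨⟨K0, hK0⟩⟩ := hne
  obtain ⟨x0, rfl⟩ := ConjClasses.exists_rep K0
  refine ⟨⟨ConjClasses.mk (x0 : G), (hsize x0).2 hK0⟩, ?_⟩
  rintro ⟨C, hC⟩
  obtain ⟨g, rfl⟩ := ConjClasses.exists_rep C
  have hgN : g ∈ N := by_contra fun h => hout g h hC
  have hKg : ¬ Fix (ConjClasses.mk (⟨g, hgN⟩ : N)) := (hsize ⟨g, hgN⟩).1 hC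
  have hmv : ∀ t : P, ¬ Fix (ConjClasses.map (φ t).toMonoidHom (ConjClasses.mk x0)) := by
    intro t h
    apply hK0
    have h1 := h t⁻¹
    have h2 : ConjClasses.map (φ t⁻¹).toMonoidHom
        (ConjClasses.map (φ t).toMonoidHom (ConjClasses.mk x0)) = ConjClasses.mk x0 :=
      congrArg ConjClasses.mk (show φ t⁻¹ (φ t x0) = x0 by simp)
    rw [h2] at h1
    rwa [← h1] at h
  let F : P → {K : ConjClasses N // ¬ Fix K} := fun t => ⟨_, hmv t⟩
  have hF : Function.Bijective F := by
    refine (Nat.bijective_iff_injective_and_card F).2 ⟨fun s t h => ?_, hnum.symm⟩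
    by_contra hne
    apply hK0
    refine hclass (s⁻¹ * t) (fun e => hne (inv_mul_eq_one.1 e)) _ ?_
    have h1 : ConjClasses.map (φ s).toMonoidHom (ConjClasses.mk x0) =
        ConjClasses.map (φ t).toMonoidHom (ConjClasses.mk x0) :=
      congrArg (fun z : {K : ConjClasses N // ¬ Fix K} => z.1) h
    have h2 := congrArg (ConjClasses.map (φ s⁻¹).toMonoidHom) h1
    have h3 : ∀ t : P, ConjClasses.map (φ s⁻¹).toMonoidHom
        (ConjClasses.map (φ t).toMonoidHom (ConjClasses.mk x0)) =
        ConjClasses.map (φ (s⁻¹ * t)).toMonoidHom (ConjClasses.mk x0) := fun t =>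
      congrArg ConjClasses.mk (show φ s⁻¹ (φ t x0) = φ (s⁻¹ * t) x0 by simp)
    rw [h3, h3, inv_mul_cancel] at h2
    rw [← h2]
    exact congrArg ConjClasses.mk (show φ 1 x0 = x0 by simp)
  obtain ⟨t, ht⟩ := hF.2 ⟨_, hKg⟩
  apply Subtype.ext
  refine (ConjClasses.mk_eq_mk_iff_isConj.2 ?_).symm
  have h1 : IsConj (φ t x0) (⟨g, hgN⟩ : N) :=
    ConjClasses.mk_eq_mk_iff_isConj.1 (congrArg Subtype.val ht)
  exact (isConj_iff.2 ⟨(t : G), rfl⟩).trans (N.subtype.map_isConj h1)

/-- A group with a normal p-complement and exactly one irreducible character of degree divisible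
by p has exactly one class of size divisible by p. -/
theorem result {G : Type*} [Group G] [Finite G] (p : ℕ) [Fact p.Prime] (hnil : ¬ Group.IsNilpotent G) (N : Subgroup G) [N.Normal] (hN : (Nat.card N).Coprime p) (hidx : ∃ k : ℕ, N.index = p ^ k) (hone : Nat.card {χ : Cfsg.IrrCharacter G // p ∣ Cfsg.charDegree (χ : G → ℂ)} = 1) : Nat.card {C : ConjClasses G // p ∣ Nat.card C.carrier} = 1 := by
  haveI := Fintype.ofFinite G
  obtain ⟨k, hk⟩ := hidx
  exact result' hnil hN hk hone

end Cfsg.Agent.S4763
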