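import Cfsg.Statements.S4768
import Cfsg.Agent.S4713
import Cfsg.Agent.Lib.BlockPLength.Kernel
import Cfsg.Agent.Lib.BlockPLength.TwoPrimes
import Mathlib.GroupTheory.Transfer
-- import your own Cfsg.Agent.* helpers here

set_option autoImplicit false
open Cfsg

namespace Cfsg.Agent.S4768

open scoped Classical
open Cfsg

set_option linter.style.haveILetI false

universe u

variable {G : Type u} [Group G] [Fintype G] {p : ℕ} [hp : Fact p.Prime]

theorem exists_over (X : Subgroup G) [Fintype X] (η : IrrCharacter X) :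
    ∃ χ : IrrCharacter G, classInner (Char.resFun X χ.1) η.1 ≠ 0 := by
  obtain ⟨k, hk, -, -, hdeg⟩ := BlockCount.exists_multiplicity (G := G) (H := X)
  by_contra! h
  have h0 : ∀ χ : IrrCharacter G, k χ η = 0 := fun χ => by
    have := h χ
    rw [hk] at this
    exact_mod_cast this
  have := hdeg η
  simp only [h0, zero_mul, Finset.sum_const_zero, mul_eq_zero] at this
  exact this.elim Subgroup.index_ne_zero_of_finite (Char.charDegree_pos η).ne'

/-- An invariant linear character of a normal `p`-subgroup extends if it extends to a Sylow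
subgroup. -/
theorem exists_linear_extension (N : Subgroup G) [N.Normal] (P : Sylow p G)
    (hNP : N ≤ (P : Subgroup G)) (lam : N →* ℂ)
    (hinv : ∀ (g : G) (n : N), lam (MulAut.conjNormal g n) = lam n)
    (μ : (P : Subgroup G) →* ℂ) (hμ : ∀ n : N, μ (Subgroup.inclusion hNP n) = lam n) :
    ∃ Λ : G →* ℂ, ∀ n : N, Λ n = lam n := by
  set K := lam.ker.map N.subtype
  haveI : K.Normal := ⟨by
    rintro _ ⟨n, hn, rfl⟩ g
    exact ⟨MulAut.conjNormal g n, MonoidHom.mem_ker.2 ((hinv g n).trans (MonoidHom.mem_ker.1 hn)),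
      by simp⟩⟩
  haveI := Fintype.ofFinite (G ⧸ K)
  let Pb : Sylow p (G ⧸ K) := P.mapSurjective (QuotientGroup.mk'_surjective K)
  let g : (P : Subgroup G) →* (Pb : Subgroup (G ⧸ K)) :=
    (QuotientGroup.mk' K).subgroupMap (P : Subgroup G)
  have hg : Function.Surjective g := MonoidHom.subgroupMap_surjective _ _
  have hker : g.ker ≤ μ.toHomUnits.ker := by
    intro v hv
    have h1 : (v : G) ∈ K := (QuotientGroup.eq_one_iff (v : G)).1
      (congrArg Subtype.val (MonoidHom.mem_ker.1 hv))
    obtain ⟨n, hn, hnv⟩ := h1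
    rw [MonoidHom.mem_ker]
    ext
    rw [MonoidHom.coe_toHomUnits, show v = Subgroup.inclusion hNP n from Subtype.ext hnv.symm, hμ,
      MonoidHom.mem_ker.1 hn, Units.val_one]
  let μb : (Pb : Subgroup (G ⧸ K)) →* ℂˣ := g.liftOfSurjective hg ⟨μ.toHomUnits, hker⟩
  have hcop : Nat.Coprime (Pb : Subgroup (G ⧸ K)).index (Nat.card N) := by
    obtain ⟨a, ha⟩ := (P.isPGroup'.to_le hNP).exists_card_eq
    rw [ha]
    exact ((hp.out.coprime_iff_not_dvd.2 Pb.not_dvd_index).pow_left a).symm
  set i := (Pb : Subgroup (G ⧸ K)).index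
  set j := ((i : ZMod (Nat.card N))⁻¹).val
  let V : (G ⧸ K) →* ℂˣ := MonoidHom.transfer μb
  refine ⟨(powMonoidHom j).comp ((Units.coeHom ℂ).comp (V.comp (QuotientGroup.mk' K))), fun n => ?_⟩
  have hz : ∀ (x : G) (k : ℕ), (x : G ⧸ K) * ((n : G) : G ⧸ K) ^ k =
      ((n : G) : G ⧸ K) ^ k * (x : G ⧸ K) := by
    intro x k
    rw [← QuotientGroup.mk_pow, ← QuotientGroup.mk_mul, ← QuotientGroup.mk_mul, QuotientGroup.eq]
    refine ⟨((n ^ k : N))⁻¹ * (MulAut.conjNormal x⁻¹ (n ^ k : N) : N), ?_, by
      rw [N.subtype_apply, Subgroup.coe_mul, Subgroup.coe_inv, MulAut.conjNormal_apply,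
        Subgroup.coe_pow, inv_inv, mul_inv_rev]
      simp only [mul_assoc]⟩
    rw [SetLike.mem_coe, MonoidHom.mem_ker, map_mul, hinv, ← map_mul, inv_mul_cancel, map_one]
  have hcard : NeZero (Nat.card N) := ⟨Nat.card_pos.ne'⟩
  have hij : ((n : N) ^ (i * j) : N) = n := by
    conv_rhs => rw [← pow_one n]
    rw [pow_eq_pow_iff_modEq]
    refine Nat.ModEq.of_dvd (orderOf_dvd_natCard n) ((ZMod.natCast_eq_natCast_iff _ _ _).1 ?_)
    rw [Nat.cast_mul, ZMod.natCast_zmod_val, Nat.cast_one]
    exact ZMod.coe_mul_inv_eq_one i hcop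
  have hV := MonoidHom.transfer_eq_pow (ϕ := μb) ((n : G) : G ⧸ K) fun k g₀ _ => by
    induction g₀ using QuotientGroup.induction_on with
    | _ x => rw [mul_assoc, ← hz x k, inv_mul_cancel_left]
  show ((V ((n : G) : G ⧸ K) : ℂˣ) : ℂ) ^ j = lam n
  rw [hV]
  have h2 : ∀ h : ((n : G) : G ⧸ K) ^ i ∈ (Pb : Subgroup (G ⧸ K)),
      μb ⟨_, h⟩ = μ.toHomUnits (Subgroup.inclusion hNP n) ^ i := by
    intro h
    rw [← map_pow, show (⟨_, h⟩ : (Pb : Subgroup (G ⧸ K))) =
      g (Subgroup.inclusion hNP n ^ i) from Subtype.ext (by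
        rw [map_pow, Subgroup.coe_pow]
        rfl)]
    exact g.liftOfRightInverse_comp_apply _ _ _ _
  rw [h2, Units.val_pow_eq_pow_val, MonoidHom.coe_toHomUnits, hμ, ← pow_mul, ← map_pow, hij]

/-- If every character over a nontrivial linear character of a normal `p`-subgroup has degree
prime to `p`, the second derived subgroup of a Sylow subgroup is trivial. -/
theorem derivedSeries_two_eq_bot (hs : IsPSolvable p G) (N : Subgroup G) [N.Normal] [Fintype N]
    (hN : IsPGroup p N) (hNab : commutator N = ⊥) (hN1 : N ≠ ⊥)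
    (hdeg : ∀ χ : IrrCharacter G, p ∣ charDegree χ.1 → Char.TrivOn N χ.1) (P : Sylow p G) :
    derivedSeries (P : Subgroup G) 2 = ⊥ := by
  obtain ⟨⟨u, hu⟩, hu1⟩ : ∃ u : N, u ≠ 1 := by
    obtain ⟨x, hx⟩ := (N.ne_bot_iff_exists_ne_one).1 hN1
    exact ⟨x, hx⟩
  obtain ⟨lam0, hlam0⟩ : ∃ μ : N →* ℂ, μ ⟨u, hu⟩ ≠ 1 := by
    by_contra! h
    have := BlockPLength.commutator_mem_of_linear h
    rw [hNab] at this
    exact hu1 (Subgroup.mem_bot.1 this)
  let lam : IrrCharacter N := ⟨_, Char.isIrrCharacter_of_monoidHom lam0⟩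
  set T := Char.inertia N lam.1
  haveI := Fintype.ofFinite T
  have hNT : N ≤ T := Char.irr_le_inertia N lam
  have hlam1 : lam ≠ Char.trivialChar N := fun h =>
    hlam0 (congrFun (congrArg Subtype.val h) ⟨u, hu⟩)
  have hover : ∀ η : IrrCharacter T, classInner (Char.resIncl N hNT η.1) lam.1 ≠ 0 →
      ¬ p ∣ T.index * Char.degree η := by
    intro η hη hdvd
    let χ := Char.cliffordInduce N lam ⟨η, hη⟩
    have hd : charDegree χ.1 = T.index * Char.degree η := by
      apply Nat.cast_injective (R := ℂ)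
      rw [Char.charDegree_cast, Char.cliffordInduce_apply_one, Char.apply_one_eq_degree, Nat.cast_mul]
    have htriv := hdeg χ (hd ▸ hdvd)
    have hres : Char.resFun N χ.1 = χ.1 1 • (Char.trivialChar N).1 :=
      funext fun x => by simp [htriv x x.2]
    refine hη ?_
    rw [← Char.classInner_resFun_cliffordInduce N lam ⟨η, hη⟩, hres, Char.classInner_smul_left,
      Char.classInner_irr, if_neg (Ne.symm hlam1), mul_zero]
  haveI := Fintype.ofFinite (N.subgroupOf T)
  let e := Subgroup.subgroupOfEquivOfLe hNT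
  let lam' : IrrCharacter (N.subgroupOf T) :=
    ⟨_, Char.IsIrrCharacter.comp_surjective lam.2 e.toMonoidHom e.surjective⟩
  obtain ⟨η, hη'⟩ := exists_over (N.subgroupOf T) lam'
  have hη : classInner (Char.resIncl N hNT η.1) lam.1 ≠ 0 := by
    rw [← Char.classInner_comp_mulEquiv e]
    exact hη'
  have hTi : ¬ p ∣ T.index := fun h => hover η hη (h.mul_right _)
  have hηd : ¬ p ∣ Char.degree η := fun h => hover η hη (h.mul_left _)
  obtain ⟨P1⟩ : Nonempty (Sylow p T) := inferInstance
  haveI := Fintype.ofFinite (P1 : Subgroup T)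
  have hNP1 : N.subgroupOf T ≤ (P1 : Subgroup T) :=
    (PCore.le_pCore (hN.comap_of_injective T.subtype T.subtype_injective)).trans
      (PCore.pCore_le_sylow P1)
  obtain ⟨k, hk, -, hdeg1, -⟩ := BlockCount.exists_multiplicity (G := T) (H := (P1 : Subgroup T))
  obtain ⟨β, hβ⟩ : ∃ β : IrrCharacter (P1 : Subgroup T), ¬ p ∣ k η β * charDegree β.1 := by
    by_contra! hall
    exact hηd (Char.charDegree_eq_degree η ▸ hdeg1 η ▸ Finset.dvd_sum fun β _ => hall β)
  have hβ1 : β.1 1 = 1 := by
    obtain ⟨a, ha⟩ := P1.isPGroup'.exists_card_eq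
    obtain ⟨b, -, hb⟩ := (Nat.dvd_prime_pow hp.out).1 (ha ▸ Char.charDegree_dvd_card β)
    rw [← Char.charDegree_cast, hb]
    rcases Nat.eq_zero_or_pos b with rfl | hb0
    · simp
    · exact absurd ((hb ▸ dvd_pow_self p hb0.ne').mul_left _) hβ
  obtain ⟨μ, hμ⟩ := Char.IsCharacter.exists_monoidHom (Char.irr_isCharacter β) hβ1
  have hβη : classInner (Char.resFun (P1 : Subgroup T) η.1) β.1 ≠ 0 := by
    rw [hk]
    exact Nat.cast_ne_zero.2 fun h0 => hβ (by rw [h0, zero_mul]; exact dvd_zero p)
  obtain ⟨m, -, -, hm⟩ := Char.exists_mult_of_over_inertia N lam η hη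
  have hμlam : ∀ n : N.subgroupOf T, μ (Subgroup.inclusion hNP1 n) = lam0 (e n) := by
    haveI := Fintype.ofFinite ((N.subgroupOf T).subgroupOf (P1 : Subgroup T))
    let e' := Subgroup.subgroupOfEquivOfLe hNP1
    let θ1 : IrrCharacter ((N.subgroupOf T).subgroupOf (P1 : Subgroup T)) :=
      ⟨_, Char.isIrrCharacter_of_monoidHom (μ.comp (Subgroup.subtype _))⟩
    let θ2 : IrrCharacter ((N.subgroupOf T).subgroupOf (P1 : Subgroup T)) :=
      ⟨_, Char.isIrrCharacter_of_monoidHom ((lam0.comp e.toMonoidHom).comp e'.toMonoidHom)⟩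
    have h2 : classInner (Char.resFun ((N.subgroupOf T).subgroupOf (P1 : Subgroup T)) β.1) θ1.1 ≠ 0 := by
      rw [show Char.resFun ((N.subgroupOf T).subgroupOf (P1 : Subgroup T)) β.1 = θ1.1 from
        funext fun x => (congrFun hμ x.1).symm, Char.classInner_irr_self θ1.2]
      exact one_ne_zero
    have h3 := BlockPLength.constituent_trans
      (Char.IsCharacter.restrict (Char.irr_isCharacter η) (P1 : Subgroup T)) _ β θ1 hβη h2
    have h4 : Char.resFun ((N.subgroupOf T).subgroupOf (P1 : Subgroup T))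
        (Char.resFun (P1 : Subgroup T) η.1) = (m : ℂ) • θ2.1 := funext fun x => hm (e (e' x))
    have h5 : θ2 = θ1 := by
      by_contra hne
      refine h3 ?_
      show classInner (Char.resFun _ (Char.resFun (P1 : Subgroup T) η.1)) θ1.1 = 0
      rw [h4, Char.classInner_smul_left, Char.classInner_irr, if_neg hne, mul_zero]
    intro n
    exact (congrFun (congrArg Subtype.val h5) (e'.symm n)).symm.trans
      (by show lam0 (e (e' (e'.symm n))) = _; rw [e'.apply_symm_apply])
  obtain ⟨Λ, hΛ⟩ := exists_linear_extension (N.subgroupOf T) P1 hNP1 (lam0.comp e.toMonoidHom)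
    (fun g n => by
      have hconj : e (MulAut.conjNormal g n) = MulAut.conjNormal (g : G) (e n) :=
        Subtype.ext (by simp [e])
      show lam0 (e (MulAut.conjNormal g n)) = lam0 (e n)
      rw [hconj]
      exact congrFun g.2 (e n)) μ hμlam
  haveI := Fintype.ofFinite (T ⧸ N.subgroupOf T)
  let Pb : Sylow p (T ⧸ N.subgroupOf T) :=
    P1.mapSurjective (QuotientGroup.mk'_surjective (N.subgroupOf T))
  obtain ⟨-, hcomm⟩ := (S4713.result p (PCore.isPSolvable_quotient (PCore.isPSolvable_subgroup hs T)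
    (N.subgroupOf T)) Pb).2 fun ψ hd => by
      let η' : IrrCharacter T := ⟨_, Char.IsIrrCharacter.mul_linear (Char.inflate _ ψ).2 Λ⟩
      have hval : ∀ n : N, η'.1 (Subgroup.inclusion hNT n) = ψ.1 1 * lam.1 n := by
        intro n
        have h1 : ((Subgroup.inclusion hNT n : T) : T ⧸ N.subgroupOf T) = 1 :=
          (QuotientGroup.eq_one_iff _).2 n.2
        have h2 : Λ (Subgroup.inclusion hNT n) = lam0 n := hΛ ⟨Subgroup.inclusion hNT n, n.2⟩
        show Λ _ * (Char.inflate _ ψ).1 _ = _
        rw [h2, Char.inflate_apply, h1]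
        exact mul_comm _ _
      have h1 : classInner (Char.resIncl N hNT η'.1) lam.1 ≠ 0 := by
        rw [show Char.resIncl N hNT η'.1 = ψ.1 1 • lam.1 from funext fun n => hval n,
          Char.classInner_smul_left, Char.classInner_irr_self lam.2, mul_one]
        exact Char.IsIrrCharacter.apply_one_ne_zero ψ.2
      have h2 : Char.degree η' = charDegree ψ.1 := by
        apply Nat.cast_injective (R := ℂ)
        rw [← Char.apply_one_eq_degree, Char.charDegree_cast]
        show Λ 1 * (Char.inflate _ ψ).1 1 = _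
        simp [Char.inflate_apply]
      exact hover η' h1 ((h2 ▸ hd).mul_left _)
  let g := (QuotientGroup.mk' (N.subgroupOf T)).subgroupMap (P1 : Subgroup T)
  have hd1 : derivedSeries (P1 : Subgroup T) 1 ≤ (N.subgroupOf T).subgroupOf (P1 : Subgroup T) := by
    rw [derivedSeries_one, commutator_def, Subgroup.commutator_le]
    rintro a - b -
    rw [Subgroup.mem_subgroupOf, ← QuotientGroup.eq_one_iff]
    have h := hcomm.is_comm.comm (g a) (g b)
    have h' : ((a : T) : T ⧸ N.subgroupOf T) * (b : T) = ((b : T) : T ⧸ N.subgroupOf T) * (a : T) :=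
      congrArg Subtype.val h
    simp only [commutatorElement_def, Subgroup.coe_mul, Subgroup.coe_inv, QuotientGroup.mk_mul,
      QuotientGroup.mk_inv, h']
    group
  have hd2 : derivedSeries (P1 : Subgroup T) 2 = ⊥ := by
    rw [derivedSeries_succ, Subgroup.commutator_eq_bot_iff_le_centralizer]
    intro a ha
    rw [Subgroup.mem_centralizer_iff]
    intro b hb
    have hc : ∀ x y : N, x * y = y * x := fun x y => by
      have := Subgroup.commutator_mem_commutator (Subgroup.mem_top x) (Subgroup.mem_top y)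
      rw [← commutator_def, hNab, Subgroup.mem_bot, commutatorElement_eq_one_iff_mul_comm] at this
      exact this
    have := hc ⟨_, hd1 hb⟩ ⟨_, hd1 ha⟩
    have h1 := congrArg (Subtype.val : N → G) this
    exact Subtype.ext (Subtype.ext h1)
  let Q : Sylow p G := (P1.isPGroup'.map T.subtype).toSylow (show
      ¬ p ∣ ((P1 : Subgroup T).map T.subtype).index by
    rw [← Subgroup.relIndex_mul_index (Subgroup.map_subtype_le _)]
    exact hp.out.not_dvd_mul (BlockPLength.not_dvd_relIndex_map_sylow P1) hTi)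
  let iso : (P1 : Subgroup T) ≃* (P : Subgroup G) :=
    ((P1 : Subgroup T).equivMapOfInjective T.subtype T.subtype_injective).trans (Sylow.equiv Q P)
  rw [← map_derivedSeries_eq (f := iso.toMonoidHom) iso.surjective 2, hd2, Subgroup.map_bot]

theorem aux : ∀ (n : ℕ) (G : Type u) [Group G] [Fintype G], Nat.card G = n → IsPSolvable p G →
    ∀ P : Sylow p G, derivedSeries ↥(P : Subgroup G)
      (Nat.card {χ : IrrCharacter G // p ∣ charDegree χ.1} + 1) = ⊥ := by
  intro n
  induction n using Nat.strong_induction_on with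
  | _ n ih =>
  intro G _ _ hn hs P
  by_cases hall : ∀ χ : IrrCharacter G, ¬ p ∣ charDegree χ.1
  · obtain ⟨-, hc⟩ := (S4713.result p hs P).2 hall
    have h1 : derivedSeries (P : Subgroup G) 1 = ⊥ := by
      rw [derivedSeries_one, commutator_def, Subgroup.commutator_eq_bot_iff_le_centralizer]
      intro a _
      exact Subgroup.mem_centralizer_iff.2 fun b _ => hc.is_comm.comm b a
    exact le_bot_iff.1 (h1 ▸ derivedSeries_antitone _ (by omega))
  push Not at hall
  obtain ⟨χ₀, hχ₀⟩ := hall
  have hk1 : 1 ≤ Nat.card {χ : IrrCharacter G // p ∣ charDegree χ.1} :=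
    Finite.card_pos_iff.2 ⟨⟨χ₀, hχ₀⟩⟩
  have hG : Nontrivial G := by
    by_contra hG
    rw [not_nontrivial_iff_subsingleton] at hG
    have h1 := hχ₀.trans (Char.charDegree_dvd_card χ₀)
    rw [Nat.card_unique] at h1
    exact hp.out.not_dvd_one h1
  obtain ⟨N, hNn, -, hN1, hmin⟩ := Solvable.exists_minimal_normal (K := (⊤ : Subgroup G)) top_ne_bot
  haveI := hNn
  haveI := Fintype.ofFinite N
  haveI := Fintype.ofFinite (G ⧸ N)
  set f := QuotientGroup.mk' N
  let Pb : Sylow p (G ⧸ N) := P.mapSurjective (QuotientGroup.mk'_surjective N)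
  set k := Nat.card {χ : IrrCharacter G // p ∣ charDegree χ.1}
  set kb := Nat.card {χ : IrrCharacter (G ⧸ N) // p ∣ charDegree χ.1}
  have hdinfl : ∀ ψ : IrrCharacter (G ⧸ N), charDegree (Char.inflate N ψ).1 = charDegree ψ.1 :=
    fun ψ => by simp [charDegree, Char.inflate_apply]
  let ι : {χ : IrrCharacter (G ⧸ N) // p ∣ charDegree χ.1} →
      {χ : IrrCharacter G // p ∣ charDegree χ.1} :=
    fun ψ => ⟨Char.inflate N ψ.1, (hdinfl ψ.1).symm ▸ ψ.2⟩
  have hι : Function.Injective ι := fun a b h =>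
    Subtype.ext (Char.inflate_injective N (congrArg Subtype.val h))
  have hkb : kb ≤ k := Nat.card_le_card_of_injective ι hι
  have hlt : Nat.card (G ⧸ N) < n := by
    rw [← hn, ← Subgroup.index_eq_card, ← Subgroup.card_mul_index N]
    exact lt_mul_left (Nat.pos_of_ne_zero Subgroup.index_ne_zero_of_finite)
      (N.one_lt_card_iff_ne_bot.2 hN1)
  have hIH := ih _ hlt (G ⧸ N) rfl (PCore.isPSolvable_quotient hs N) Pb
  let g : (P : Subgroup G) →* (Pb : Subgroup (G ⧸ N)) := f.subgroupMap (P : Subgroup G)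
  have hsub : derivedSeries (P : Subgroup G) (kb + 1) ≤ N.subgroupOf (P : Subgroup G) := by
    intro x hx
    have h1 : g x ∈ derivedSeries (Pb : Subgroup (G ⧸ N)) (kb + 1) :=
      map_derivedSeries_le_derivedSeries g _ (Subgroup.mem_map_of_mem g hx)
    rw [show derivedSeries (Pb : Subgroup (G ⧸ N)) (kb + 1) = ⊥ from hIH, Subgroup.mem_bot] at h1
    exact (QuotientGroup.eq_one_iff (x : G)).1 (congrArg Subtype.val h1)
  rcases PCore.isPGroup_or_coprime_of_minimal_normal hs N hmin with hNp | hNp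
  swap
  · refine le_bot_iff.1 ((derivedSeries_antitone _ (by omega : kb + 1 ≤ k + 1)).trans
      (hsub.trans ?_))
    intro x hx
    obtain ⟨a, ha⟩ := IsPGroup.iff_orderOf.1 P.isPGroup' x
    rw [Subgroup.mem_bot, ← orderOf_eq_one_iff]
    refine Nat.eq_one_of_dvd_coprimes (hNp.symm.pow_left a) ha.dvd ?_
    rw [← Subgroup.orderOf_coe, ← Subgroup.orderOf_mk (x : G) hx]
    exact orderOf_dvd_natCard _
  have hNab : commutator N = ⊥ := by
    haveI : Nontrivial N := (Subgroup.nontrivial_iff_ne_bot N).2 hN1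
    haveI : Group.IsNilpotent N := hNp.isNilpotent
    have hlt' := Group.IsSolvable.commutator_lt_top_of_nontrivial (G := N)
    have hle : (commutator N).map N.subtype ≤ N := Subgroup.map_subtype_le _
    rcases hmin _ inferInstance hle with h | h
    · exact (Subgroup.map_eq_bot_iff_of_injective _ N.subtype_injective).1 h
    · refine absurd ?_ hlt'.ne
      apply Subgroup.map_injective N.subtype_injective
      rw [h, ← MonoidHom.range_eq_map, Subgroup.range_subtype]
  rcases hkb.lt_or_eq with hlt2 | heq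
  · refine le_bot_iff.1 ((derivedSeries_antitone _ (by omega : kb + 1 + 1 ≤ k + 1)).trans ?_)
    rw [derivedSeries_succ]
    refine (Subgroup.commutator_mono hsub hsub).trans ?_
    rw [Subgroup.commutator_le]
    intro a ha b hb
    rw [Subgroup.mem_bot]
    have := Subgroup.commutator_mem_commutator (Subgroup.mem_top (⟨a, ha⟩ : N))
      (Subgroup.mem_top (⟨b, hb⟩ : N))
    rw [← commutator_def, hNab, Subgroup.mem_bot] at this
    exact Subtype.ext (congrArg (Subtype.val : N → G) this)
  · have hbij := (Nat.bijective_iff_injective_and_card ι).2 ⟨hι, heq⟩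
    have h2 := derivedSeries_two_eq_bot hs N hNp hNab hN1 (fun χ hχ => by
      obtain ⟨ψ, hψ⟩ := hbij.2 ⟨χ, hχ⟩
      have : Char.inflate N ψ.1 = χ := congrArg Subtype.val hψ
      exact this ▸ Char.trivOn_inflate N ψ.1) P
    exact le_bot_iff.1 (h2 ▸ derivedSeries_antitone _ (by omega))

/-- Let p be a prime, G a finite p-solvable group and P a Sylow p-subgroup of G. If n is the number of irreducible complex characters of G whose degree is divisible by p, then the (n+1)-st term of the derived series of P is trivial. (The p-solvable case has a direct inductive proof.) -/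
theorem result {G : Type*} [Group G] [Finite G] (p : ℕ) [Fact p.Prime] (hG : Cfsg.IsPSolvable p G) (P : Sylow p G) : derivedSeries ↥(P : Subgroup G) (Nat.card {χ : Cfsg.IrrCharacter G // p ∣ Cfsg.charDegree (χ : G → ℂ)} + 1) = ⊥ := by
  haveI := Fintype.ofFinite G
  exact aux _ G rfl hG P

end Cfsg.Agent.S4768
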