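import Cfsg.Statements.S4775
import Cfsg.Agent.Lib.Sz.Degrees
import Cfsg.Agent.Lib.Sz.Lie
import Cfsg.Agent.Lib.GL2Char.DegreeGraphAux

set_option autoImplicit false
open Cfsg

namespace Cfsg.Agent.S4775

/-- Let F be a finite field with q = 2^(2m+1) ≥ 8 elements and let S be isomorphic to the Suzuki group over F. Then the vertices of the character degree graph of S are 2 and the primes dividing (q − 1)(q² + 1); the primes dividing (q − 1)(q² + 1) are pairwise adjacent, and 2 is adjacent exactly to the primes dividing q − 1. -/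
theorem result (F : Type*) [Field F] [Fintype F] (m : ℕ) (hm : 1 ≤ m) (q : ℕ) (hq : Fintype.card F = q) (hqm : q = 2 ^ (2 * m + 1)) {S : Type*} [Group S] [Finite S] (hS : Nonempty (S ≃* ↥(Cfsg.Lie.Sz F (2 ^ (m + 1))))) : Cfsg.degreePrimes S = {r : ℕ | r.Prime ∧ (r = 2 ∨ r ∣ (q - 1) * (q ^ 2 + 1))} ∧ ∀ r s : ℕ, (Cfsg.degreeGraph S).Adj r s ↔ (r ≠ s ∧ r.Prime ∧ s.Prime ∧ ((r ∣ (q - 1) * (q ^ 2 + 1) ∧ s ∣ (q - 1) * (q ^ 2 + 1)) ∨ (r = 2 ∧ s ∣ q - 1) ∨ (s = 2 ∧ r ∣ q - 1))) := by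
  classical
  have hF : Fintype.card F = 2 ^ (2 * m + 1) := hq.trans hqm
  obtain ⟨k, k', hprod, hf⟩ := SZ.degreeFacts_Sz hm hF
  rw [hq] at hprod hf
  obtain ⟨e⟩ := hS
  have hcd : Cfsg.charDegrees S = Cfsg.charDegrees (Cfsg.Sz F m) :=
    GL2Char.charDegrees_congr (e.trans (SZ.szEquiv hm hF).symm)
  haveI := Fintype.ofFinite (Cfsg.Sz F m)
  have hcard : Nat.card (Cfsg.Sz F m) = q ^ 2 * (q ^ 2 + 1) * (q - 1) := by
    rw [SZ.card_Sz hm hF, hq]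
  have hq3 : 8 ∣ q := hqm ▸ pow_dvd_pow 2 (show 3 ≤ 2 * m + 1 by omega)
  have h2q : ¬ 2 ∣ (q - 1) * (q ^ 2 + 1) := fun h => by
    rcases Nat.prime_two.dvd_mul.1 h with h | h
    · have : 0 < q := hq ▸ Fintype.card_pos
      omega
    · have := dvd_pow (show 2 ∣ q by omega) two_ne_zero
      omega
  have hprimes : ∀ d ∈ Cfsg.charDegrees S, ∀ r : ℕ, r.Prime → r ∣ d →
      r = 2 ∨ r ∣ (q - 1) * (q ^ 2 + 1) := by
    intro d hd r hr hrd
    rw [hcd] at hd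
    obtain ⟨χ, rfl⟩ := hd
    have h := hrd.trans (Char.charDegree_dvd_card χ)
    rw [hcard, hqm, ← pow_mul] at h
    rw [hqm, Nat.mul_comm, ← pow_mul]
    rcases hr.dvd_mul.1 h with h | h
    · rcases hr.dvd_mul.1 h with h | h
      · exact .inl ((Nat.prime_dvd_prime_iff_eq hr Nat.prime_two).1 (hr.dvd_of_dvd_pow h))
      · exact .inr (h.mul_right _)
    · exact .inr (h.mul_left _)
  have mem : ∀ {d : ℕ}, (∃ χ : Cfsg.IrrCharacter (Cfsg.Sz F m), Char.degree χ = d) →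
      d ∈ Cfsg.charDegrees S := fun {d} ⟨χ, h⟩ => hcd ▸ ⟨χ, (Char.charDegree_eq_degree χ).trans h⟩
  obtain ⟨χe, hχe2, hχeq⟩ := hf.mem_even
  refine ⟨Set.ext fun r => ⟨fun ⟨hr, d, hd, hrd⟩ => ⟨hr, hprimes d hd r hr hrd⟩, ?_⟩,
    fun r s => ⟨?_, ?_⟩⟩
  · rintro ⟨hr, rfl | h⟩
    · exact ⟨hr, _, mem ⟨χe, rfl⟩, hχe2⟩
    · rcases hr.dvd_mul.1 h with h | h
      · exact ⟨hr, _, mem ⟨χe, rfl⟩, h.trans hχeq⟩
      · exact ⟨hr, _, mem hf.mem_sq, h⟩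
  · rintro ⟨hne, hr, hs, d, hd, hrs⟩
    refine ⟨hne, hr, hs, ?_⟩
    have key : ∀ t : ℕ, t.Prime → t ∣ (q - 1) * (q ^ 2 + 1) → 2 ∣ d → t ∣ d → t ∣ q - 1 := by
      intro t ht htS h2 htd
      refine (ht.dvd_mul.1 htS).resolve_right fun h => ht.one_lt.ne' ?_
      rw [hcd] at hd
      obtain ⟨χ, rfl⟩ := hd
      rw [Char.charDegree_eq_degree] at h2 htd
      exact Nat.eq_one_of_dvd_coprimes (hf.even_coprime χ h2) htd h
    rcases hprimes d hd r hr (dvd_of_mul_right_dvd hrs) with rfl | hr'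
    · rcases hprimes d hd s hs (dvd_of_mul_left_dvd hrs) with rfl | hs'
      · exact absurd rfl hne
      · exact .inr (.inl ⟨rfl, key s hs hs' (dvd_of_mul_right_dvd hrs) (dvd_of_mul_left_dvd hrs)⟩)
    · rcases hprimes d hd s hs (dvd_of_mul_left_dvd hrs) with rfl | hs'
      · exact .inr (.inr ⟨rfl, key r hr hr' (dvd_of_mul_left_dvd hrs) (dvd_of_mul_right_dvd hrs)⟩)
      · exact .inl ⟨hr', hs'⟩
  · rintro ⟨hne, hr, hs, h⟩
    refine ⟨hne, hr, hs, ?_⟩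
    have hco : r.Coprime s := (Nat.coprime_primes hr hs).2 hne
    have two : ∀ t : ℕ, t.Prime → t ∣ q - 1 → 2 * t ∣ Char.degree χe := fun t ht htq =>
      Nat.Coprime.mul_dvd_of_dvd_of_dvd ((Nat.coprime_primes Nat.prime_two ht).2 fun e =>
        h2q (by subst e; exact htq.mul_right _)) hχe2 (htq.trans hχeq)
    have mixed : ∀ t u : ℕ, t.Prime → u.Prime → t ∣ q - 1 → u ∣ q ^ 2 + 1 →
        ∃ d ∈ Cfsg.charDegrees S, t * u ∣ d := fun t u ht hu htq huk => by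
      rcases hu.dvd_mul.1 (hprod ▸ huk : u ∣ k * k') with h | h
      · exact ⟨_, mem hf.mem_left, Nat.mul_dvd_mul htq h⟩
      · exact ⟨_, mem hf.mem_right, Nat.mul_dvd_mul htq h⟩
    rcases h with ⟨h1, h2⟩ | ⟨rfl, h2⟩ | ⟨rfl, h1⟩
    · rcases hr.dvd_mul.1 h1 with a | a <;> rcases hs.dvd_mul.1 h2 with b | b
      · exact ⟨_, mem hf.mem_left, (hco.mul_dvd_of_dvd_of_dvd a b).mul_right k⟩
      · exact mixed r s hr hs a b
      · rw [Nat.mul_comm r s]; exact mixed s r hs hr b a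
      · exact ⟨_, mem hf.mem_sq, hco.mul_dvd_of_dvd_of_dvd a b⟩
    · exact ⟨_, mem ⟨χe, rfl⟩, two s hs h2⟩
    · exact ⟨_, mem ⟨χe, rfl⟩, by rw [Nat.mul_comm]; exact two r hr h1⟩

end Cfsg.Agent.S4775
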