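import Cfsg.Statements.S4779
import Cfsg.Agent.Lib.RelDeg.Disconnected
import Cfsg.Agent.S4776
-- import your own Cfsg.Agent.* helpers here

set_option autoImplicit false
open Cfsg

namespace Cfsg.Agent.S4779

/-- Let N be a solvable normal subgroup of the finite group G contained in the derived subgroup of G, and consider the common-divisor graph on the relative degree set cd(G|N) (degrees of irreducible complex characters of G whose kernel does not contain N, two distinct degrees adjacent when not coprime). If this graph has two vertices that are not joined by any path, then there is a vertex a₀ such that any two distinct vertices in the component of a₀ are adjacent, and any two distinct vertices outside that component are adjacent or have a common neighbour (one component is complete, the other has diameter at most 2). -/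
theorem result {G : Type*} [Group G] [Finite G] (N : Subgroup G) [N.Normal] [Group.IsSolvable N] (hNG : N ≤ commutator G) (hdisc : ¬ (Cfsg.commonDivisorGraph.induce (Cfsg.relCharDegrees N)).Preconnected) : ∃ a₀ : ↥(Cfsg.relCharDegrees N), (∀ b c : ↥(Cfsg.relCharDegrees N), (Cfsg.commonDivisorGraph.induce (Cfsg.relCharDegrees N)).Reachable a₀ b → (Cfsg.commonDivisorGraph.induce (Cfsg.relCharDegrees N)).Reachable a₀ c → b ≠ c → (Cfsg.commonDivisorGraph.induce (Cfsg.relCharDegrees N)).Adj b c) ∧ (∀ b c : ↥(Cfsg.relCharDegrees N), ¬ (Cfsg.commonDivisorGraph.induce (Cfsg.relCharDegrees N)).Reachable a₀ b → ¬ (Cfsg.commonDivisorGraph.induce (Cfsg.relCharDegrees N)).Reachable a₀ c → b ≠ c → (Cfsg.commonDivisorGraph.induce (Cfsg.relCharDegrees N)).Adj b c ∨ ∃ d : ↥(Cfsg.relCharDegrees N), (Cfsg.commonDivisorGraph.induce (Cfsg.relCharDegrees N)).Adj b d ∧ (Cfsg.commonDivisorGraph.induce (Cfsg.relCharDegrees N)).Adj d c) := by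
  classical
  haveI := Fintype.ofFinite G
  haveI := Fintype.ofFinite N
  obtain ⟨u, v, huv⟩ : ∃ u v, ¬ (Cfsg.commonDivisorGraph.induce (Cfsg.relCharDegrees N)).Reachable u v := by
    simpa [SimpleGraph.Preconnected] using hdisc
  have hne : N ≠ ⊥ := fun e => by
    obtain ⟨χ, ⟨x, hx, hne⟩, -⟩ := u.2
    rw [e, Subgroup.mem_bot] at hx
    exact hne (by rw [hx])
  haveI := (Subgroup.nontrivial_iff_ne_bot N).2 hne
  have hlt : ⁅N, N⁆ < N := lt_of_le_of_ne (Subgroup.commutator_le_self N) fun e => by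
    have h1 : (_root_.commutator N).index = 1 := by
      rw [← RelDeg.relIndex_commutator, e, Subgroup.relIndex_self]
    exact (Group.IsSolvable.commutator_lt_top_of_nontrivial (G := N)).ne (Subgroup.index_eq_one.1 h1)
  have hdich := (Cfsg.Agent.S4776.result N hlt hNG).2
  simp only [RelDeg.relIndex_commutator] at hdich
  obtain ⟨r, hr, hrm⟩ := Nat.exists_prime_and_dvd (n := (_root_.commutator N).index) fun h =>
    hlt.not_ge (Subgroup.relIndex_eq_one.1 ((RelDeg.relIndex_commutator N).trans h))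
  obtain ⟨x, y, hxy, hy⟩ : ∃ x y, ¬ (Cfsg.commonDivisorGraph.induce (Cfsg.relCharDegrees N)).Reachable x y ∧
      ∀ s : ℕ, s.Prime → s ∣ (_root_.commutator N).index → s ∣ (y : ℕ) := by
    rcases hdich u v u.2 v.2 huv with ⟨-, h⟩ | ⟨-, h⟩
    · exact ⟨u, v, huv, h⟩
    · exact ⟨v, u, fun e => huv e.symm, h⟩
  -- degrees outside the component of `y` are prime to `|N : N'|`
  have hout : ∀ b, ¬ (Cfsg.commonDivisorGraph.induce (Cfsg.relCharDegrees N)).Reachable y b →
      Nat.Coprime (b : ℕ) (_root_.commutator N).index := by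
    intro b hb
    rcases hdich y b y.2 b.2 hb with ⟨h, -⟩ | ⟨h, -⟩
    · exact absurd (Nat.eq_one_of_dvd_coprimes h (hy r hr hrm) hrm) hr.one_lt.ne'
    · exact h
  have hadj : ∀ b c : ↥(Cfsg.relCharDegrees N), b ≠ c →
      ∀ q : ℕ, q.Prime → q ∣ (b : ℕ) → q ∣ (c : ℕ) →
        (Cfsg.commonDivisorGraph.induce (Cfsg.relCharDegrees N)).Adj b c := fun b c hbc q hq h1 h2 =>
    ⟨fun e => hbc (Subtype.ext e), lt_of_lt_of_le hq.one_lt
      (Nat.le_of_dvd (Nat.gcd_pos_of_pos_left _ (RelDeg.pos_of_mem N b.2)) (Nat.dvd_gcd h1 h2))⟩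
  refine ⟨y, fun b c hb hc hbc => ?_, fun b c hb hc hbc => ?_⟩
  · have hxout := hout x fun e => hxy e.symm
    have hall : ∀ b, (Cfsg.commonDivisorGraph.induce (Cfsg.relCharDegrees N)).Reachable y b →
        r ∣ (b : ℕ) := by
      intro b hb
      rcases hdich x b x.2 b.2 (fun e => hxy (e.trans hb.symm)) with ⟨-, h⟩ | ⟨-, h⟩
      · exact h r hr hrm
      · exact absurd (Nat.eq_one_of_dvd_coprimes hxout (h r hr hrm) hrm) hr.one_lt.ne'
    exact hadj b c hbc r hr (hall b hb) (hall c hc)
  · have haway : ∀ b, ¬ (Cfsg.commonDivisorGraph.induce (Cfsg.relCharDegrees N)).Reachable y b →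
        RelDeg.Away N (b : ℕ) := by
      intro b hb d hd hq
      obtain ⟨q, hq, h1, h2⟩ := hq
      refine hout ⟨d, hd⟩ fun e => hb ?_
      by_cases he : b = ⟨d, hd⟩
      · exact he ▸ e
      · exact e.trans (hadj b ⟨d, hd⟩ he q hq h1 h2).reachable.symm
    rcases RelDeg.near_of_away N hNG b.2 c.2 (haway b hb) (haway c hc) with
      ⟨q, hq, h1, h2⟩ | ⟨d, hd, ⟨q, hq, h1, h2⟩, ⟨p, hp, h3, h4⟩⟩
    · exact .inl (hadj b c hbc q hq h1 h2)
    · by_cases hbd : b = ⟨d, hd⟩
      · exact .inl (hadj b c hbc p hp (by rw [hbd]; exact h4) h3)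
      · by_cases hcd : c = ⟨d, hd⟩
        · exact .inl (hadj b c hbc q hq h1 (by rw [hcd]; exact h2))
        · exact .inr ⟨⟨d, hd⟩, hadj b _ hbd q hq h1 h2, (hadj c _ hcd p hp h3 h4).symm⟩


end Cfsg.Agent.S4779
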