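import Cfsg.Statements.S4782
import Cfsg.Agent.Lib.CharInt.Burnside
import Cfsg.Agent.Lib.Char.Clifford
import Cfsg.Agent.Lib.Char.MaxDegree
import Cfsg.Agent.Lib.Char.Descend
import Cfsg.Agent.Lib.Char.KernelSum

set_option autoImplicit false
open Cfsg

namespace Cfsg.Agent.S4782

open Cfsg.Agent
open scoped ComplexConjugate Classical

set_option linter.style.haveILetI false

universe u

/-- In a simple group of composite order the degree primes are not among two primes. -/
theorem false_of_simple {S : Type u} [Group S] [Finite S] [IsSimpleGroup S]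
    (hnp : ¬ (Nat.card S).Prime) {p q : ℕ} (hp : p.Prime) (hq : q.Prime) (hqS : q ∣ Nat.card S)
    (hD : ∀ χ : IrrCharacter S, ∀ r : ℕ, r.Prime → r ∣ Char.degree χ → r = p ∨ r = q) : False := by
  haveI := Fintype.ofFinite S
  haveI := Fact.mk hq
  obtain ⟨Q⟩ : Nonempty (Sylow q S) := inferInstance
  haveI : Nontrivial (Q : Subgroup S) := (Subgroup.nontrivial_iff_ne_bot _).2 (Q.ne_bot_of_dvd_card hqS)
  haveI := Q.2.center_nontrivial
  obtain ⟨z, hz⟩ := exists_ne (1 : Subgroup.center (Q : Subgroup S))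
  set g : S := ((z : (Q : Subgroup S)) : S) with hgdef
  have hg : g ≠ 1 := fun h => hz (Subtype.ext (Subtype.ext h))
  have hQC : (Q : Subgroup S) ≤ Subgroup.centralizer ({g} : Set S) := fun x hx =>
    Subgroup.mem_centralizer_singleton_iff.2
      (congrArg Subtype.val (Subgroup.mem_center_iff.1 z.2 ⟨x, hx⟩))
  have hidx : ¬ q ∣ (Subgroup.centralizer ({g} : Set S)).index := fun h =>
    Q.not_dvd_index (h.trans (Subgroup.index_dvd_of_le hQC))
  have hcen : Subgroup.center S = ⊥ := by
    rcases (inferInstance : (Subgroup.center S).Normal).eq_bot_or_eq_top with h | h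
    · exact h
    · exact absurd (CharInt.card_prime_of_simple_comm fun a b =>
        Subgroup.mem_center_iff.1 (h ▸ Subgroup.mem_top b) a) hnp
  have hvan : ∀ χ : IrrCharacter S, χ.1 ≠ (fun _ => 1) → ¬ p ∣ Char.degree χ → χ.1 g = 0 := by
    intro χ hχ hpd
    obtain ⟨n, ρ, hρ, hρχ⟩ := χ.2
    have hn : Char.degree χ = n := by
      have := Char.apply_one_eq_degree χ
      rw [← hρχ, ρ.char_one, Module.finrank_fin_fun] at this
      exact_mod_cast this.symm
    have := hρ
    rcases CharInt.character_eq_zero_or_norm_eq ρ g (by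
      rw [CharInt.natCard_isConj, Module.finrank_fin_fun, ← hn]
      refine Nat.coprime_of_dvd fun r hr h1 h2 => ?_
      rcases hD χ r hr h1 with rfl | rfl
      · exact hpd h1
      · exact hidx h2) with h | h
    · rw [← hρχ]; exact h
    · exfalso
      have hgc : g ∈ Subgroup.center S := CharInt.mem_center_of_norm_eq χ.2 hχ (by
        rw [← hρχ, h, ρ.char_one, Complex.norm_natCast])
      rw [hcen, Subgroup.mem_bot] at hgc
      exact hg hgc
  have hsum := Char.sum_irr_mul_conj g (1 : S)
  rw [if_neg fun h => hg (isConj_one_left.1 h)] at hsum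
  rw [← Finset.add_sum_erase _ _ (Finset.mem_univ (Char.trivialChar S))] at hsum
  simp only [Char.trivialChar_apply, map_one, mul_one] at hsum
  let w : IrrCharacter S → ℂ := fun χ => χ.1 g * ((Char.degree χ / p : ℕ) : ℂ)
  have hw : ∀ χ ∈ Finset.univ.erase (Char.trivialChar S),
      χ.1 g * conj (χ.1 1) = (p : ℂ) * w χ := by
    intro χ hχ
    rw [Char.apply_one_eq_degree, Complex.conj_natCast]
    by_cases hd : p ∣ Char.degree χ
    · simp only [w]
      rw [mul_left_comm, ← Nat.cast_mul, Nat.mul_div_cancel' hd]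
    · simp only [w]
      rw [hvan χ (fun he => (Finset.mem_erase.1 hχ).1 (Subtype.ext he)) hd]
      simp
  rw [Finset.sum_congr rfl hw, ← Finset.mul_sum] at hsum
  set s := ∑ χ ∈ Finset.univ.erase (Char.trivialChar S), w χ
  have hint : IsIntegral ℤ s := IsIntegral.sum _ fun χ _ =>
    (CharInt.isIntegral_char (Char.irr_isCharacter χ) g).mul
      (isIntegral_algebraMap (R := ℤ) (A := ℂ) (x := ((Char.degree χ / p : ℕ) : ℤ)))
  have hs : s = algebraMap ℚ ℂ (-1 / (p : ℚ)) := by
    have hp0 : (p : ℂ) ≠ 0 := Nat.cast_ne_zero.2 hp.ne_zero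
    rw [eq_ratCast]
    push_cast
    field_simp
    linear_combination hsum
  rw [hs, isIntegral_algebraMap_iff (algebraMap ℚ ℂ).injective] at hint
  obtain ⟨z', hz'⟩ := IsIntegrallyClosed.isIntegral_iff.1 hint
  rw [eq_intCast, eq_div_iff (Nat.cast_ne_zero.2 hp.ne_zero)] at hz'
  have hz'' : z' * (p : ℤ) = -1 := by exact_mod_cast hz'
  have : (p : ℤ) ∣ 1 := ⟨-z', by linear_combination hz''⟩
  exact hp.not_dvd_one (by exact_mod_cast this)

theorem degreePrimes_subgroup {G : Type u} [Group G] [Finite G] (N : Subgroup G) [N.Normal] :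
    degreePrimes N ⊆ degreePrimes G := by
  rintro r ⟨hr, _, ⟨θ, rfl⟩, hrd⟩
  letI := Fintype.ofFinite G
  obtain ⟨χ, hχ⟩ := Char.MaxDegree.exists_over N θ
  have hχ' : classInner (Char.resFun N χ.1) θ.1 ≠ 0 := Char.MaxDegree.classInner_ne_zero_symm hχ
  have h := Char.apply_one_eq_mul_card_orbit N χ θ hχ'
  obtain ⟨k, hk⟩ := Char.IsCharacter.exists_nat_classInner
    (Char.IsCharacter.restrict (Char.irr_isCharacter χ) N) (Char.irr_isCharacter θ)
  refine ⟨hr, _, ⟨χ, rfl⟩, hrd.trans ⟨k * (Char.orbitFinset N θ).card, ?_⟩⟩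
  apply Nat.cast_injective (R := ℂ)
  push_cast
  rw [Char.charDegree_cast, Char.charDegree_cast, h]
  rw [show classInner (Char.resFun N χ.1) θ.1 = (k : ℂ) from hk]
  ring

theorem degreePrimes_quotient {G : Type u} [Group G] [Finite G] (N : Subgroup G) [N.Normal] :
    degreePrimes (G ⧸ N) ⊆ degreePrimes G := by
  rintro r ⟨hr, _, ⟨ψ, rfl⟩, hrd⟩
  letI := Fintype.ofFinite G
  refine ⟨hr, _, ⟨Char.inflate N ψ, rfl⟩, ?_⟩
  have : charDegree (Char.inflate N ψ).1 = charDegree ψ.1 := by unfold charDegree; simp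
  rwa [this]

/-- A nonsolvable group has at least three degree primes. -/
theorem isSolvable_of_subset (n : ℕ) : ∀ (G : Type u) [Group G] [Finite G], Nat.card G = n →
    ∀ a b : ℕ, degreePrimes G ⊆ {a, b} → Group.IsSolvable G := by
  induction n using Nat.strong_induction_on with
  | _ n ih =>
  intro G _ _ hn a b hab
  rcases subsingleton_or_nontrivial G with hs | hnt
  · infer_instance
  by_cases hsimple : IsSimpleGroup G
  · refine Group.isSolvable_of_comm fun x y => ?_
    by_cases hpr : (Nat.card G).Prime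
    · haveI := Fact.mk hpr
      haveI : IsCyclic G := isCyclic_of_prime_card rfl
      letI := IsCyclic.commGroup (α := G)
      exact mul_comm x y
    exfalso
    have hn1 : Nat.card G ≠ 1 := Finite.one_lt_card.ne'
    refine false_of_simple (p := if a.Prime then a else 2)
      (q := if b.Prime ∧ b ∣ Nat.card G then b else (Nat.card G).minFac) hpr ?_ ?_ ?_ ?_
    · split_ifs with h
      · exact h
      · exact Nat.prime_two
    · split_ifs with h
      · exact h.1
      · exact Nat.minFac_prime hn1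
    · split_ifs with h
      · exact h.2
      · exact Nat.minFac_dvd _
    · intro χ r hr hrd
      letI := Fintype.ofFinite G
      have hrd' : r ∣ charDegree χ.1 := (Char.charDegree_eq_degree χ).symm ▸ hrd
      rcases hab ⟨hr, _, ⟨χ, rfl⟩, hrd'⟩ with h | h
      · exact Or.inl (by rw [← h, if_pos hr])
      · rw [Set.mem_singleton_iff] at h
        exact Or.inr (by rw [← h, if_pos ⟨hr, hrd'.trans (Char.charDegree_dvd_card χ)⟩])
  · obtain ⟨N, hN, hNb, hNt⟩ : ∃ N : Subgroup G, N.Normal ∧ N ≠ ⊥ ∧ N ≠ ⊤ := by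
      by_contra! hcon
      exact hsimple ⟨fun H hH => or_iff_not_imp_left.2 (hcon H hH)⟩
    haveI := hN
    have hmul := N.index_mul_card
    have h1 : 1 < Nat.card N := N.one_lt_card_iff_ne_bot.2 hNb
    have h2 : 1 < N.index := Subgroup.one_lt_index_of_ne_top hNt
    haveI := ih _ (by nlinarith) N rfl a b ((degreePrimes_subgroup N).trans hab)
    haveI := ih (Nat.card (G ⧸ N)) (by rw [← Subgroup.index_eq_card]; nlinarith) (G ⧸ N) rfl a b
      ((degreePrimes_quotient N).trans hab)
    exact Group.isSolvable_of_ker_le_range N.subtype (QuotientGroup.mk' N) (by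
      rw [QuotientGroup.ker_mk', Subgroup.range_subtype])


/-- If the finite group G is not solvable, then at least three distinct primes each divide some irreducible complex character degree of G. -/
theorem result {G : Type*} [Group G] [Finite G] (hG : ¬ Group.IsSolvable G) : ∃ p q r : ℕ, p ≠ q ∧ q ≠ r ∧ p ≠ r ∧ p ∈ Cfsg.degreePrimes G ∧ q ∈ Cfsg.degreePrimes G ∧ r ∈ Cfsg.degreePrimes G := by
  by_contra! hcon
  refine hG ?_
  by_cases h1 : (Cfsg.degreePrimes G).Nonempty
  · obtain ⟨a, ha⟩ := h1
    by_cases h2 : ∃ b ∈ Cfsg.degreePrimes G, b ≠ a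
    · obtain ⟨b, hb, hba⟩ := h2
      refine isSolvable_of_subset _ G rfl a b fun r hr => ?_
      by_contra hne
      simp only [Set.mem_insert_iff, Set.mem_singleton_iff, not_or] at hne
      exact hcon a b r hba.symm (Ne.symm hne.2) (Ne.symm hne.1) ha hb hr
    · push Not at h2
      exact isSolvable_of_subset _ G rfl a a fun r hr => Or.inl (h2 r hr)
  · exact isSolvable_of_subset _ G rfl 2 2 fun r hr => absurd ⟨r, hr⟩ h1

end Cfsg.Agent.S4782
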