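import Cfsg.Statements.S4784
import Cfsg.Agent.Lib.Char.RealChar
import Cfsg.Agent.Lib.Char.Induction
import Cfsg.Agent.Lib.Char.KernelSum
import Cfsg.Agent.Lib.Char.Descend
import Cfsg.Agent.S0161
-- import your own Cfsg.Agent.* helpers here

set_option autoImplicit false
open Cfsg

namespace Cfsg.Agent.S4784

/-- Let H be a subgroup of the finite group G and consider the permutation character of G on the cosets of H (the function induced from the principal character of H). Then exactly one irreducible constituent of it is real-valued with Frobenius–Schur indicator +1 (namely the principal character) if and only if the normal core of H has odd index in G. -/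
theorem result {G : Type*} [Group G] [Fintype G] (H : Subgroup G) : Nat.card {χ : Cfsg.IrrCharacter G // Cfsg.classInner (Cfsg.indFun H (fun _ : H => (1 : ℂ))) (χ : G → ℂ) ≠ 0 ∧ (∀ g : G, (starRingEnd ℂ) ((χ : G → ℂ) g) = (χ : G → ℂ) g) ∧ (Nat.card G : ℂ)⁻¹ * ∑ g : G, (χ : G → ℂ) (g * g) = 1} = 1 ↔ Odd H.normalCore.index := by
  classical
  have hG : (Nat.card G : ℂ) ≠ 0 := Nat.cast_ne_zero.2 Nat.card_pos.ne'
  let one : H → ℂ := fun _ => 1
  have hone : Cfsg.IsCharacter H one := Cfsg.Agent.Char.isCharacter_one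
  let T : G → ℂ := Cfsg.indFun H one
  have hT : Cfsg.IsCharacter G T := Cfsg.Agent.Char.isCharacter_indFun H hone
  obtain ⟨m, hm, hm'⟩ := Cfsg.Agent.Char.IsCharacter.exists_decomp hT
  have hres : ∀ χ : Cfsg.IrrCharacter G,
      Cfsg.classInner T χ.1 = Cfsg.classInner one (fun h : H => χ.1 h) := fun χ =>
    Cfsg.Agent.Char.classInner_indFun H one
      (Cfsg.Agent.Char.IsCharacter.isClassFunction (Cfsg.Agent.Char.irr_isCharacter χ))
  have htriv : m (Cfsg.Agent.Char.trivialChar G) = 1 := by
    have h1 := hm' (Cfsg.Agent.Char.trivialChar G)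
    rw [hres] at h1
    rw [show (fun h : H => (Cfsg.Agent.Char.trivialChar G).1 (h : G)) = one from rfl,
      Cfsg.Agent.Char.classInner_irr_self Cfsg.Agent.Char.isIrrCharacter_one] at h1
    exact_mod_cast h1.symm
  let p : Cfsg.IrrCharacter G → Prop := fun χ =>
    Cfsg.classInner T (χ : G → ℂ) ≠ 0 ∧
      (∀ g : G, (starRingEnd ℂ) ((χ : G → ℂ) g) = (χ : G → ℂ) g) ∧
        (Nat.card G : ℂ)⁻¹ * ∑ g : G, (χ : G → ℂ) (g * g) = 1
  have hp1 : p (Cfsg.Agent.Char.trivialChar G) := by
    refine ⟨by rw [hm', htriv]; simp, fun g => by simp, ?_⟩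
    simp only [Cfsg.Agent.Char.trivialChar_apply, Finset.sum_const, Finset.card_univ, nsmul_eq_mul,
      mul_one, ← Nat.card_eq_fintype_card]
    exact inv_mul_cancel₀ hG
  have huniq : Nat.card {χ : Cfsg.IrrCharacter G // p χ} = 1 ↔
      ∀ χ, p χ → χ = Cfsg.Agent.Char.trivialChar G := by
    constructor
    · intro h χ hχ
      have := (Nat.card_eq_one_iff_unique.1 h).1
      exact congrArg Subtype.val (Subsingleton.elim (⟨χ, hχ⟩ : {χ : Cfsg.IrrCharacter G // p χ})
        ⟨_, hp1⟩)
    · intro h
      exact Nat.card_eq_one_iff_unique.2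
        ⟨⟨fun a b => Subtype.ext ((h _ a.2).trans (h _ b.2).symm)⟩, ⟨⟨_, hp1⟩⟩⟩
  refine huniq.trans ?_
  constructor
  · intro h
    by_contra hodd
    rw [Nat.not_odd_iff_even] at hodd
    -- some element outside the core squares into the core
    obtain ⟨q, hq⟩ := exists_prime_orderOf_dvd_card' (G := G ⧸ H.normalCore) 2
      (by rw [← Subgroup.index_eq_card]; exact hodd.two_dvd)
    obtain ⟨g, rfl⟩ := QuotientGroup.mk_surjective q
    have hg : g ∉ H.normalCore := fun hg => by
      rw [(QuotientGroup.eq_one_iff g).2 hg, orderOf_one] at hq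
      exact absurd hq (by norm_num)
    have hg2 : g * g ∈ H.normalCore := by
      rw [← QuotientGroup.eq_one_iff, QuotientGroup.mk_mul]
      have h2 := pow_orderOf_eq_one (g : G ⧸ H.normalCore)
      rwa [hq, pow_two] at h2
    obtain ⟨x, hx⟩ : ∃ x : G, x * g * x⁻¹ ∉ H := by
      by_contra hh
      push Not at hh
      exact hg fun y => hh y
    have hxx : (x * g * x⁻¹) * (x * g * x⁻¹) ∈ H := by
      have := hg2 x
      simpa [mul_assoc] using this
    -- indicator sum
    set Q := Finset.univ.filter (fun u : G => u * u ∈ H) with hQ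
    have hsum : ∑ u : G, T (u * u) = (Nat.card G : ℂ) * (Nat.card H : ℂ)⁻¹ * Q.card := by
      simp only [T, Cfsg.indFun, ← Finset.mul_sum]
      rw [Finset.sum_comm]
      have : ∀ y : G, ∑ u : G, Cfsg.extendByZero H one (y⁻¹ * (u * u) * y) = Q.card := by
        intro y
        rw [hQ, ← Finset.sum_boole]
        refine Fintype.sum_equiv (MulAut.conj y⁻¹).toEquiv _ _ fun u => ?_
        have e : (MulAut.conj y⁻¹).toEquiv u * (MulAut.conj y⁻¹).toEquiv u = y⁻¹ * (u * u) * y := by
          simp [mul_assoc]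
        rw [e]
        split_ifs with hu
        · rw [Cfsg.Agent.Char.extendByZero_of_mem _ _ hu]
        · rw [Cfsg.Agent.Char.extendByZero_of_notMem _ _ hu]
      rw [Finset.sum_congr rfl fun y _ => this y, Finset.sum_const, Finset.card_univ, nsmul_eq_mul,
        ← Nat.card_eq_fintype_card]
      ring
    have hgt : Nat.card H < Q.card := by
      rw [Nat.card_eq_fintype_card, Fintype.card_subtype]
      refine Finset.card_lt_card ((Finset.ssubset_iff_of_subset ?_).2
        ⟨x * g * x⁻¹, Finset.mem_filter.2 ⟨Finset.mem_univ _, hxx⟩, fun h => hx (Finset.mem_filter.1 h).2⟩)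
      intro u hu
      rw [Finset.mem_filter] at hu ⊢
      exact ⟨hu.1, H.mul_mem hu.2 hu.2⟩
    -- all other terms of the decomposition have non-positive indicator
    have hdec : (Nat.card H : ℂ)⁻¹ * Q.card =
        ∑ χ : Cfsg.IrrCharacter G, (m χ : ℂ) * Cfsg.Agent.Char.fsIndicator χ.1 := by
      have h1 : (Nat.card G : ℂ)⁻¹ * ∑ u : G, T (u * u) = (Nat.card H : ℂ)⁻¹ * Q.card := by
        rw [hsum]; field_simp
      rw [← h1, hm]
      simp only [Finset.sum_apply, Pi.smul_apply, smul_eq_mul, Cfsg.Agent.Char.fsIndicator_eq_sum,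
        Finset.mul_sum]
      rw [Finset.sum_comm]
      exact Finset.sum_congr rfl fun χ _ => Finset.sum_congr rfl fun u _ => by ring
    have hle : ∀ χ ∈ Finset.univ.erase (Cfsg.Agent.Char.trivialChar G),
        ((m χ : ℂ) * Cfsg.Agent.Char.fsIndicator χ.1).re ≤ 0 := by
      intro χ hχ
      by_cases hre : ∀ u, (χ.1 u).im = 0
      · rcases Cfsg.Agent.Char.fsIndicator_of_real χ hre with e | e
        · rcases eq_or_ne (m χ) 0 with h0 | h0
          · simp [h0]
          · exact absurd (h χ ⟨by rw [hm']; exact_mod_cast h0,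
              fun u => Complex.conj_eq_iff_im.2 (hre u),
              by rw [← Cfsg.Agent.Char.fsIndicator_eq_sum]; exact e⟩) (Finset.mem_erase.1 hχ).1
        · simp [e]
      · simp [Cfsg.Agent.Char.fsIndicator_of_not_real χ hre]
    rw [← Finset.add_sum_erase _ _ (Finset.mem_univ (Cfsg.Agent.Char.trivialChar G))] at hdec
    have hre1 := congrArg Complex.re hdec
    have ht : Cfsg.Agent.Char.fsIndicator (Cfsg.Agent.Char.trivialChar G).1 = 1 := by
      rw [Cfsg.Agent.Char.fsIndicator_eq_sum]; exact hp1.2.2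
    rw [htriv, ht, Complex.add_re, Complex.re_sum] at hre1
    have hneg := Finset.sum_nonpos hle
    have hH : (0 : ℝ) < Nat.card H := by exact_mod_cast Nat.card_pos (α := H)
    have : ((Nat.card H : ℂ)⁻¹ * (Q.card : ℂ)).re = (Q.card : ℝ) / Nat.card H := by
      rw [mul_comm, ← div_eq_mul_inv, Complex.div_natCast_re, Complex.natCast_re]
    rw [this] at hre1
    have h2 : (1 : ℝ) < (Q.card : ℝ) / Nat.card H := by
      rw [one_lt_div hH]; exact_mod_cast hgt
    simp only [Nat.cast_one, one_mul, Complex.one_re] at hre1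
    linarith
  · intro hodd χ ⟨h1, h2, h3⟩
    set N := H.normalCore with hN
    haveI : N.Normal := H.normalCore_normal
    have : Fintype N := Fintype.ofFinite N
    have htrivN : Cfsg.Agent.Char.TrivOn N χ.1 := by
      by_contra hnt
      have h0 := Cfsg.Agent.Char.sum_coset_eq_zero_of_not_trivOn N χ hnt 1
      simp only [one_mul] at h0
      obtain ⟨mu, hmu, hmu'⟩ := Cfsg.Agent.Char.IsCharacter.exists_decomp
        (Cfsg.Agent.Char.IsCharacter.restrict (Cfsg.Agent.Char.irr_isCharacter χ) H)
      have hmu1 : mu (Cfsg.Agent.Char.trivialChar H) ≠ 0 := by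
        intro hz
        apply h1
        rw [hres, ← Cfsg.Agent.Char.conj_classInner,
          show one = (Cfsg.Agent.Char.trivialChar H).1 from rfl, hmu', hz]
        simp
      let ι : N →* H := Subgroup.inclusion H.normalCore_le
      choose k hk using fun ψ : Cfsg.IrrCharacter H =>
        Cfsg.Agent.Char.IsCharacter.exists_nat_classInner
          (Cfsg.Agent.Char.IsCharacter.comp (Cfsg.Agent.Char.irr_isCharacter ψ) ι)
          (Cfsg.Agent.Char.isCharacter_one (G := N))
      have hk1 : k (Cfsg.Agent.Char.trivialChar H) = 1 := by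
        have := hk (Cfsg.Agent.Char.trivialChar H)
        simp only [Cfsg.Agent.Char.trivialChar_apply] at this
        rw [Cfsg.Agent.Char.classInner_irr_self Cfsg.Agent.Char.isIrrCharacter_one] at this
        exact_mod_cast this.symm
      have hzero : ∑ ψ : Cfsg.IrrCharacter H, (mu ψ : ℂ) * (k ψ : ℂ) = 0 := by
        have e : ∀ n : N, χ.1 (n : G) = ∑ ψ : Cfsg.IrrCharacter H, (mu ψ : ℂ) * ψ.1 (ι n) := fun n => by
          have := congrFun hmu (ι n)
          simp only [Finset.sum_apply, Pi.smul_apply, smul_eq_mul] at this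
          exact this
        rw [Finset.sum_congr rfl fun n _ => e n, Finset.sum_comm] at h0
        simp only [← hk, Cfsg.classInner, map_one, mul_one, Finset.mul_sum]
        have h00 := congrArg (fun z => (Nat.card N : ℂ)⁻¹ * z) h0
        simp only [mul_zero, Finset.mul_sum] at h00
        rw [← h00]
        exact Finset.sum_congr rfl fun ψ _ => Finset.sum_congr rfl fun n _ => by ring
      have hz : ∑ ψ : Cfsg.IrrCharacter H, mu ψ * k ψ = 0 := by exact_mod_cast hzero
      have := Finset.sum_eq_zero_iff.1 hz (Cfsg.Agent.Char.trivialChar H) (Finset.mem_univ _)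
      rw [hk1, mul_one] at this
      exact hmu1 this
    obtain ⟨ψ, hψ⟩ := Cfsg.Agent.Char.exists_descend N χ htrivN
    refine Subtype.ext (funext fun g => ?_)
    rw [← hψ g, Cfsg.Agent.S0161.result (by rwa [← Subgroup.index_eq_card]) ψ fun q => by
      obtain ⟨u, rfl⟩ := QuotientGroup.mk_surjective q
      rw [hψ u]; exact Complex.conj_eq_iff_im.1 (h2 u)]
    rfl

end Cfsg.Agent.S4784
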