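import Cfsg.Statements.S4796
import Cfsg.Agent.Lib.Char.InducedEq
import Cfsg.Agent.Lib.Char.CliffordCorrespondence
import Cfsg.Agent.Lib.Char.Linear
import Cfsg.Agent.Lib.Frobenius.Basic
import Mathlib.GroupTheory.SchurZassenhaus
-- import your own Cfsg.Agent.* helpers here

set_option autoImplicit false
open Cfsg

namespace Cfsg.Agent.S4796

open scoped Pointwise

theorem structure_of_codegree {G : Type*} [Group G] [Finite G] (χ : Cfsg.IrrCharacter G)
    (hfaith : ∀ g : G, (χ : G → ℂ) g = (χ : G → ℂ) 1 → g = 1) (p : ℕ) (hp : p.Prime)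
    (hcod : Nat.card G = p * Cfsg.charDegree (χ : G → ℂ)) :
    (IsCyclic G ∧ Nat.card G = p) ∨
      (1 < Cfsg.charDegree (χ : G → ℂ) ∧ ∃ P : Subgroup G, P.Normal ∧ Nat.card P = p ∧
        P.index = Cfsg.charDegree (χ : G → ℂ) ∧ Nat.Coprime p P.index ∧
        ∀ g : G, (∀ x ∈ P, g * x = x * g) → g ∈ P) := by
  classical
  haveI := Fintype.ofFinite G
  haveI := Fact.mk hp
  set n := Cfsg.charDegree (χ : G → ℂ) with hn
  have hnpos : 0 < n := Char.charDegree_pos χ
  by_cases hn1 : n = 1
  · rw [hn1, mul_one] at hcod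
    exact Or.inl ⟨isCyclic_of_prime_card hcod, hcod⟩
  refine Or.inr ⟨by omega, ?_⟩
  have hne : χ ≠ Char.trivialChar G := fun h => hn1 (by simp [hn, h, Cfsg.charDegree])
  have hlt : n < p := by
    have h := Char.sum_degree_sq (G := G)
    simp only [← Char.charDegree_eq_degree] at h
    rw [← Finset.add_sum_erase _ _ (Finset.mem_univ χ)] at h
    have h1 : 1 ≤ ∑ ψ ∈ Finset.univ.erase χ, Cfsg.charDegree ψ.1 ^ 2 := by
      refine le_trans ?_ (Finset.single_le_sum (f := fun ψ : Cfsg.IrrCharacter G => Cfsg.charDegree ψ.1 ^ 2)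
        (fun _ _ => Nat.zero_le _) (Finset.mem_erase.2 ⟨hne.symm, Finset.mem_univ _⟩))
      exact Nat.one_le_pow _ _ (Char.charDegree_pos _)
    have h2 : n * n < n * p := by rw [← hn, hcod, pow_two] at h; rw [mul_comm n p]; omega
    exact Nat.lt_of_mul_lt_mul_left h2
  have hcop : Nat.Coprime p n := (Nat.Prime.coprime_iff_not_dvd hp).2
    fun h => absurd (Nat.le_of_dvd hnpos h) (by omega)
  obtain ⟨S⟩ : Nonempty (Sylow p G) := inferInstance
  have hS : Nat.card (S : Subgroup G) = p := by
    rw [S.card_eq_multiplicity, hcod, Nat.factorization_mul hp.pos.ne' hnpos.ne', Finsupp.add_apply,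
      hp.factorization_self,
      Nat.factorization_eq_zero_of_not_dvd (fun h => hp.coprime_iff_not_dvd.1 hcop h),
      add_zero, pow_one]
  have hidx : (S : Subgroup G).index = n := by
    refine Nat.eq_of_mul_eq_mul_left hp.pos ?_
    rw [← hcod, ← (S : Subgroup G).card_mul_index, hS]
  have hSn : (S : Subgroup G).Normal := by
    have hd : Nat.card (Sylow p G) ∣ n := hidx ▸ S.card_dvd_index
    have hmod : Nat.card (Sylow p G) ≡ 1 [MOD p] := card_sylow_modEq_one p G
    have hle := Nat.le_of_dvd hnpos hd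
    unfold Nat.ModEq at hmod
    rw [Nat.mod_eq_of_lt (by omega), Nat.mod_eq_of_lt hp.one_lt] at hmod
    haveI : Subsingleton (Sylow p G) := (Nat.card_eq_one_iff_unique.1 hmod).1
    exact Sylow.normal_of_subsingleton S
  haveI := hSn
  haveI := Fintype.ofFinite (S : Subgroup G)
  refine ⟨S, hSn, hS, hidx, hidx.symm ▸ hcop, fun g hg => ?_⟩
  have hScomm : ∀ a b : (S : Subgroup G), a * b = b * a := by
    haveI := isCyclic_of_prime_card hS
    exact fun a b => (IsCyclic.isMulCommutative.1).1 a b
  obtain ⟨m, hm, hsum⟩ := Char.exists_res_decomp (S : Subgroup G) χ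
  obtain ⟨θ, hθ⟩ : ∃ θ, m θ ≠ 0 := by
    by_contra h
    push Not at h
    simp [h, ← hn, hnpos.ne] at hsum
  have hθ1 := Char.apply_one_of_comm hScomm θ
  have heq : χ.1 = Cfsg.indFun (S : Subgroup G) θ.1 :=
    Char.eq_indFun_of_degree _ χ (Char.irr_isCharacter θ) (by rw [hm θ]; exact_mod_cast hθ)
      (by rw [hθ1, mul_one, hidx, ← Char.charDegree_cast χ])
  have hnorm := Char.classInner_irr_self χ.2
  rw [heq, Char.classInner_indFun _ _ (Char.isClassFunction_indFun _ _)] at hnorm
  have hres : (fun h : (S : Subgroup G) => Cfsg.indFun (S : Subgroup G) θ.1 (h : G)) =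
      Char.resFun (S : Subgroup G) (Cfsg.indFun (S : Subgroup G) θ.1) := rfl
  rw [hres, Char.resFun_indFun, Char.classInner_smul_right, Char.classInner_sum_right] at hnorm
  have hterm : ∀ x : G, Cfsg.classInner θ.1 (Char.conjFun (S : Subgroup G) θ.1 x) =
      if x ∈ Char.inertia (S : Subgroup G) θ.1 then 1 else 0 := by
    intro x
    split_ifs with hx
    · rw [(Char.mem_inertia _).1 hx, Char.classInner_irr_self θ.2]
    · exact Char.classInner_irr_of_ne θ.2 (Char.conjChar _ θ x).2 fun h => hx ((Char.mem_inertia _).2 h.symm)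
  rw [Finset.sum_congr rfl fun x _ => hterm x, Finset.sum_boole, map_inv₀, map_natCast,
    inv_mul_eq_one₀ (Nat.cast_ne_zero.2 Nat.card_pos.ne')] at hnorm
  have hcard : Nat.card (Char.inertia (S : Subgroup G) θ.1) = Nat.card (S : Subgroup G) := by
    rw [Nat.card_eq_fintype_card, Fintype.card_subtype]
    exact_mod_cast hnorm.symm
  have hI := Subgroup.eq_of_le_of_card_ge (Char.irr_le_inertia (S : Subgroup G) θ) hcard.le
  rw [hI]
  refine (Char.mem_inertia _).2 ((Char.conjFun_eq_self_iff _ θ.1 g).2 fun u u' hu => ?_)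
  rw [show u' = u from Subtype.ext (by rw [hu, hg u u.2, mul_inv_cancel_right])]

/-- Let G be a finite group with a faithful irreducible complex character χ whose codegree #G / χ(1) is a prime p (for a faithful character the kernel is trivial, so the codegree is #G / χ(1)). Then either G is cyclic of order p, or G is a Frobenius group whose Frobenius kernel has order p: some proper non-trivial subgroup H satisfies H ∩ gHg⁻¹ = 1 for every element g outside H, and the set of elements lying in no conjugate of H, together with the identity, has exactly p elements. -/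
theorem result {G : Type*} [Group G] [Finite G] (χ : Cfsg.IrrCharacter G) (hfaith : ∀ g : G, (χ : G → ℂ) g = (χ : G → ℂ) 1 → g = 1) (p : ℕ) (hp : p.Prime) (hcod : Nat.card G = p * Cfsg.charDegree (χ : G → ℂ)) : (IsCyclic G ∧ Nat.card G = p) ∨ ∃ H : Subgroup G, Cfsg.IsFrobeniusComplement H ∧ Nat.card ↥(Cfsg.frobeniusKernel H) = p := by
  classical
  haveI := Fact.mk hp
  rcases structure_of_codegree χ hfaith p hp hcod with h | ⟨hn, P, hPn, hP, hidx, hcop, hcent⟩
  · exact Or.inl h
  refine Or.inr ?_
  obtain ⟨H, hH⟩ := Subgroup.exists_right_complement'_of_coprime (N := P) (by rwa [hP])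
  have hHcard : Nat.card H = Cfsg.charDegree (χ : G → ℂ) := hidx ▸ hH.symm.index_eq_card.symm
  have hHidx : H.index = p := hH.index_eq_card.trans hP
  have hdisj : ∀ x, x ∈ P → x ∈ H → x = 1 := fun x h1 h2 =>
    Subgroup.disjoint_def.1 hH.disjoint h1 h2
  have hF : Cfsg.IsFrobeniusComplement H := by
    refine ⟨fun h => ?_, fun h => ?_, fun g hg => ?_⟩
    · rw [h, Subgroup.card_bot] at hHcard; omega
    · rw [h, Subgroup.index_top] at hHidx; exact hp.one_lt.ne hHidx
    rw [eq_bot_iff]
    rintro x ⟨hxH, hx⟩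
    rw [Subgroup.mem_bot]
    obtain ⟨⟨⟨u, hu⟩, ⟨h, hh⟩⟩, hgu⟩ := hH.2 g
    change u * h = g at hgu
    subst hgu
    have hu1 : u ≠ 1 := fun e => hg (by simpa [e] using hh)
    replace hxH : x ∈ H := hxH
    replace hx : x ∈ MulAut.conj (u * h) • H := hx
    rw [Coprime.mem_conj_smul_iff] at hx
    have hy : u⁻¹ * x * u ∈ H := by
      have := H.mul_mem (H.mul_mem hh hx) (H.inv_mem hh)
      simpa [mul_assoc] using this
    have hc : x⁻¹ * (u⁻¹ * x * u) = 1 := by
      refine hdisj _ ?_ (H.mul_mem (H.inv_mem hxH) hy)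
      have := P.mul_mem (hPn.conj_mem u⁻¹ (P.inv_mem hu) x⁻¹) hu
      simpa [mul_assoc] using this
    have hxu : Commute x u := by
      have := inv_mul_eq_one.1 hc
      show x * u = u * x
      conv_rhs => rw [this]
      group
    refine hdisj x (hcent x fun y hy' => ?_) hxH
    have hz : Subgroup.zpowers u = P := Subgroup.eq_of_le_of_card_ge
      (Subgroup.zpowers_le.2 hu) (by
        rw [hP, Nat.card_zpowers, orderOf_eq_prime (x := u) (p := p) ?_ hu1]
        have := Subgroup.orderOf_dvd_natCard P hu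
        rw [hP] at this
        exact orderOf_dvd_iff_pow_eq_one.1 this)
    rw [← hz] at hy'
    obtain ⟨k, rfl⟩ := Subgroup.mem_zpowers_iff.1 hy'
    exact (hxu.zpow_right k).eq
  exact ⟨H, hF, (Frobenius.card_kernel hF).trans hHidx⟩

end Cfsg.Agent.S4796
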