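import Cfsg.Statements.S4797
import Cfsg.Agent.S4796
import Cfsg.Agent.Lib.Char.Descend
-- import your own Cfsg.Agent.* helpers here

set_option autoImplicit false
open Cfsg

namespace Cfsg.Agent.S4797

open scoped commutatorElement

/-- The codegree of an irreducible complex character χ of a finite group G is [G : ker χ] / χ(1), where ker χ is the set of elements at which χ takes the value χ(1). A non-trivial finite group is perfect if and only if no irreducible complex character of it has prime codegree. -/
theorem result {G : Type*} [Group G] [Finite G] [Nontrivial G] : commutator G = ⊤ ↔ ∀ χ : Cfsg.IrrCharacter G, ¬ ((Nat.card G / (Nat.card {g : G // (χ : G → ℂ) g = (χ : G → ℂ) 1} * Cfsg.charDegree (χ : G → ℂ)))).Prime := by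
  classical
  haveI := Fintype.ofFinite G
  have hcardker : ∀ χ : Cfsg.IrrCharacter G, Nat.card {g : G // (χ : G → ℂ) g = (χ : G → ℂ) 1} =
      Nat.card (CharInt.charKernel (Char.irr_isCharacter χ)) := fun χ =>
    Nat.card_congr (Equiv.subtypeEquivRight fun g => (CharInt.mem_charKernel _).symm)
  constructor
  · intro hperf χ hprime
    haveI := CharInt.charKernel_normal (Char.irr_isCharacter χ)
    set K := CharInt.charKernel (Char.irr_isCharacter χ) with hK
    obtain ⟨ψ, hψ⟩ := Char.exists_descend K χ fun k hk => (CharInt.mem_charKernel _).1 hk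
    have hdeg : Cfsg.charDegree (ψ : G ⧸ K → ℂ) = Cfsg.charDegree (χ : G → ℂ) := by
      unfold Cfsg.charDegree; rw [← hψ 1, QuotientGroup.mk_one]
    have hfaith : ∀ q : G ⧸ K, (ψ : G ⧸ K → ℂ) q = (ψ : G ⧸ K → ℂ) 1 → q = 1 := by
      intro q hq
      obtain ⟨g, rfl⟩ := QuotientGroup.mk_surjective q
      rw [← QuotientGroup.mk_one, hψ, hψ] at hq
      exact (QuotientGroup.eq_one_iff g).2 ((CharInt.mem_charKernel _).2 hq)
    obtain ⟨c, hc⟩ := Char.card_kernel_mul_charDegree_dvd χ
    rw [hcardker χ] at hc hprime
    rw [hc, Nat.mul_div_cancel_left _ (Nat.mul_pos Nat.card_pos (Char.charDegree_pos χ))] at hprime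
    rw [Subgroup.card_eq_card_quotient_mul_card_subgroup K, mul_comm, mul_assoc] at hc
    have hcod : Nat.card (G ⧸ K) = c * Cfsg.charDegree (ψ : G ⧸ K → ℂ) := by
      rw [Nat.eq_of_mul_eq_mul_left Nat.card_pos hc, hdeg, mul_comm]
    have hperfQ : ∀ g : G, (g : G ⧸ K) ∈ commutator (G ⧸ K) := fun g => by
      have h1 : (g : G ⧸ K) ∈ (commutator G).map (QuotientGroup.mk' K) :=
        ⟨g, hperf ▸ Subgroup.mem_top g, rfl⟩
      rw [commutator_def, Subgroup.map_commutator] at h1
      exact Subgroup.commutator_mono le_top le_top h1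
    have hne : ∃ g : G, (g : G ⧸ K) ∉ commutator (G ⧸ K) := by
      haveI := Fact.mk hprime
      rcases S4796.structure_of_codegree ψ hfaith c hprime hcod with ⟨hcyc, hcard⟩ | ⟨hn, P, hPn, hP, hidx, -, hcent⟩
      · haveI : Nontrivial (G ⧸ K) := by
          rw [← Finite.one_lt_card_iff_nontrivial, hcard]; exact hprime.one_lt
        obtain ⟨q, hq⟩ := exists_ne (1 : G ⧸ K)
        obtain ⟨g, rfl⟩ := QuotientGroup.mk_surjective q
        refine ⟨g, fun h => hq (Subgroup.mem_bot.1 ?_)⟩
        haveI := hcyc
        have hb : commutator (G ⧸ K) = ⊥ := by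
          rw [commutator_def, Subgroup.commutator_eq_bot_iff_le_centralizer]
          intro a _
          exact Subgroup.mem_centralizer_iff.2 fun b _ => (IsCyclic.isMulCommutative.1).1 b a
        exact hb ▸ h
      · -- the quotient by `P` embeds in the abelian group of automorphisms of `P`
        haveI := hPn
        haveI := isCyclic_of_prime_card hP
        have hcomm : ∀ a b : MulAut P, a * b = b * a := by
          intro a b
          refine MulEquiv.ext fun x => ?_
          obtain ⟨z, hz⟩ := IsCyclic.exists_generator (α := P)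
          obtain ⟨i, hi⟩ := Subgroup.mem_zpowers_iff.1 (hz (a z))
          obtain ⟨j, hj⟩ := Subgroup.mem_zpowers_iff.1 (hz (b z))
          obtain ⟨k, rfl⟩ := Subgroup.mem_zpowers_iff.1 (hz x)
          simp only [MulAut.mul_apply, map_zpow, ← hi, ← hj, ← zpow_mul, mul_comm, mul_left_comm]
        have hle : commutator (G ⧸ K) ≤ P := by
          rw [commutator_def, Subgroup.commutator_le]
          intro a _ b _
          refine hcent _ fun x hx => ?_
          have h1 : MulAut.conjNormal (H := P) (a * b * a⁻¹ * b⁻¹) = 1 := by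
            simp only [map_mul, map_inv]
            rw [hcomm (MulAut.conjNormal a) (MulAut.conjNormal b), mul_inv_cancel_right, mul_inv_cancel]
          have h2 := congrArg (fun f : MulAut P => ((f ⟨x, hx⟩ : P) : G ⧸ K)) h1
          simp only [MulAut.conjNormal_apply, MulAut.one_apply] at h2
          rw [commutatorElement_def]
          exact (mul_inv_eq_iff_eq_mul.1 h2)
        obtain ⟨q, hq⟩ : ∃ q : G ⧸ K, q ∉ P := by
          by_contra hall
          push Not at hall
          have : P = ⊤ := eq_top_iff.2 fun q _ => hall q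
          rw [this, Subgroup.index_top] at hidx
          omega
        obtain ⟨g, rfl⟩ := QuotientGroup.mk_surjective q
        exact ⟨g, fun h => hq (hle h)⟩
    obtain ⟨g, hg⟩ := hne
    exact hg (hperfQ g)
  · intro h
    by_contra hne
    obtain ⟨K, hK, hle⟩ := (eq_top_or_exists_le_coatom (commutator G)).resolve_left hne
    haveI hKn : K.Normal := ⟨fun x hx g => by
      have h1 : g * x * g⁻¹ * x⁻¹ ∈ K :=
        hle (Subgroup.commutator_mem_commutator (Subgroup.mem_top g) (Subgroup.mem_top x))
      simpa using K.mul_mem h1 hx⟩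
    have hcomm : ∀ a b : G ⧸ K, a * b = b * a := by
      intro a b
      obtain ⟨a, rfl⟩ := QuotientGroup.mk_surjective a
      obtain ⟨b, rfl⟩ := QuotientGroup.mk_surjective b
      rw [← QuotientGroup.mk_mul, ← QuotientGroup.mk_mul, QuotientGroup.eq]
      have := hle (Subgroup.commutator_mem_commutator (Subgroup.mem_top b⁻¹) (Subgroup.mem_top a⁻¹))
      simpa [commutatorElement_def, mul_assoc] using this
    have hidx : K.index.Prime := by
      have h1 : 1 < K.index := Nat.lt_of_le_of_ne (Nat.pos_of_ne_zero Subgroup.index_ne_zero_of_finite)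
        fun e => hK.1 (Subgroup.index_eq_one.1 e.symm)
      obtain ⟨r, hr, hrd⟩ := Nat.exists_prime_and_dvd h1.ne'
      haveI := Fact.mk hr
      rw [Subgroup.index_eq_card] at hrd ⊢
      obtain ⟨q, hq⟩ := exists_prime_orderOf_dvd_card' r hrd
      have htop : Subgroup.zpowers q = ⊤ := by
        have hlt : K < (Subgroup.zpowers q).comap (QuotientGroup.mk' K) := by
          refine lt_of_le_of_ne (fun k hk => ?_) fun e => ?_
          · rw [Subgroup.mem_comap, QuotientGroup.mk'_apply, (QuotientGroup.eq_one_iff k).2 hk]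
            exact one_mem _
          · obtain ⟨g, rfl⟩ := QuotientGroup.mk_surjective q
            have : g ∈ K := e ▸ (Subgroup.mem_comap.2 (Subgroup.mem_zpowers _))
            rw [(QuotientGroup.eq_one_iff g).2 this, orderOf_one] at hq
            exact hr.one_lt.ne hq
        refine Subgroup.comap_injective (QuotientGroup.mk'_surjective K) ?_
        rw [hK.2 _ hlt, Subgroup.comap_top]
      rw [← Subgroup.card_top, ← htop, Nat.card_zpowers, hq]
      exact hr
    have hsum := Char.sum_trivOn_degree_sq K
    obtain ⟨χ, hχK, hχ1⟩ : ∃ χ : Cfsg.IrrCharacter G, Char.TrivOn K χ.1 ∧ χ ≠ Char.trivialChar G := by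
      by_contra hcon
      push Not at hcon
      rw [Finset.sum_eq_single_of_mem (Char.trivialChar G)
        (Finset.mem_filter.2 ⟨Finset.mem_univ _, Char.trivOn_trivialChar K⟩)
        (fun χ hχ hne => absurd (hcon χ (Finset.mem_filter.1 hχ).2) hne)] at hsum
      exact hidx.one_lt.ne (by simpa [Cfsg.charDegree] using hsum)
    obtain ⟨ψ, hψ⟩ := Char.exists_descend K χ hχK
    have hdeg : Cfsg.charDegree (χ : G → ℂ) = 1 := by
      unfold Cfsg.charDegree
      rw [← hψ 1, QuotientGroup.mk_one, Char.apply_one_of_comm hcomm ψ]; simp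
    have hker : CharInt.charKernel (Char.irr_isCharacter χ) = K := by
      by_contra hne'
      have hlt : K < CharInt.charKernel (Char.irr_isCharacter χ) :=
        lt_of_le_of_ne (fun k hk => (CharInt.mem_charKernel _).2 (hχK k hk)) (Ne.symm hne')
      have hall : ∀ g, χ.1 g = χ.1 1 := fun g => (CharInt.mem_charKernel (Char.irr_isCharacter χ)).1
        (hK.2 _ hlt ▸ Subgroup.mem_top g)
      have h0 := Char.sum_apply_eq_zero hχ1
      simp only [hall, Finset.sum_const, Finset.card_univ, nsmul_eq_mul, mul_eq_zero,
        Nat.cast_eq_zero, Fintype.card_ne_zero, false_or] at h0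
      exact Char.IsIrrCharacter.apply_one_ne_zero χ.2 h0
    refine h χ ?_
    rw [hcardker χ, hker, hdeg, mul_one, ← K.card_mul_index, Nat.mul_div_cancel_left _ Nat.card_pos]
    exact hidx

end Cfsg.Agent.S4797
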