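import Cfsg.Statements.S4798
import Cfsg.Agent.Lib.Char.InducedEq
import Cfsg.Agent.Lib.Char.Descend
-- import your own Cfsg.Agent.* helpers here

set_option autoImplicit false
open Cfsg

namespace Cfsg.Agent.S4798

/-- Let p be a prime and χ a faithful irreducible complex character of the finite group G (χ(g) = χ(1) only for g = 1), so that its codegree is #G / χ(1). Then #G / χ(1) is a power of p if and only if χ is induced from a character of a Sylow p-subgroup of G. -/
theorem result {G : Type*} [Group G] [Fintype G] (p : ℕ) [Fact p.Prime] (χ : Cfsg.IrrCharacter G) (hfaith : ∀ g : G, (χ : G → ℂ) g = (χ : G → ℂ) 1 → g = 1) : (∃ k : ℕ, Nat.card G = p ^ k * Cfsg.charDegree (χ : G → ℂ)) ↔ ∃ (P : Sylow p G) (θ : ↥(P : Subgroup G) → ℂ), Cfsg.IsCharacter ↥(P : Subgroup G) θ ∧ (χ : G → ℂ) = Cfsg.indFun (P : Subgroup G) θ := by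
  classical
  set n := Cfsg.charDegree (χ : G → ℂ) with hn
  have hnpos : 0 < n := Char.charDegree_pos χ
  have hp : p.Prime := Fact.out
  constructor
  · rintro ⟨k, hk⟩
    obtain ⟨P⟩ : Nonempty (Sylow p G) := inferInstance
    haveI := Fintype.ofFinite (P : Subgroup G)
    obtain ⟨a, ha⟩ := IsPGroup.iff_card.1 P.isPGroup'
    have hcop : Nat.Coprime (P : Subgroup G).index (p ^ k) :=
      ((Nat.Prime.coprime_iff_not_dvd hp).2 P.not_dvd_index).symm.pow_right k
    obtain ⟨r, hr⟩ : (P : Subgroup G).index ∣ n :=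
      hcop.dvd_of_dvd_mul_left (hk ▸ (P : Subgroup G).index_dvd_card)
    have hr' : p ^ k * r = p ^ a := by
      refine Nat.eq_of_mul_eq_mul_right (Nat.pos_of_ne_zero (Subgroup.index_ne_zero_of_finite (H := (P : Subgroup G)))) ?_
      rw [← ha, Subgroup.card_mul_index, hk, hr]; ring
    obtain ⟨b, -, hb⟩ := (Nat.dvd_prime_pow hp).1 (Dvd.intro_left _ hr' : r ∣ p ^ a)
    obtain ⟨m, hm, hsum⟩ := Char.exists_res_decomp (P : Subgroup G) χ
    obtain ⟨θ, hmθ, hθ⟩ : ∃ θ, m θ ≠ 0 ∧ Cfsg.charDegree θ.1 = r := by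
      by_contra hcon
      push Not at hcon
      have hdvd : p ^ (b + 1) ∣ n := by
        rw [hn, ← hsum]
        refine Finset.dvd_sum fun θ _ => ?_
        by_cases h0 : m θ = 0
        · simp [h0]
        refine Dvd.dvd.mul_left ?_ _
        have hd := Char.charDegree_dvd_card θ
        rw [ha] at hd
        obtain ⟨i, -, hi⟩ := (Nat.dvd_prime_pow hp).1 hd
        have hge : r ≤ Cfsg.charDegree θ.1 := by
          refine Nat.le_of_mul_le_mul_left ((hn.symm.trans hr) ▸ Char.degree_le_index_mul (P : Subgroup G) χ θ ?_)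
            (Nat.pos_of_ne_zero Subgroup.index_ne_zero_of_finite)
          rw [hm θ]; exact_mod_cast h0
        have hne := hcon θ h0
        rw [hi, hb] at hne hge
        rw [hi]
        refine pow_dvd_pow p (Nat.lt_of_le_of_ne ((Nat.pow_le_pow_iff_right hp.one_lt).1 hge) ?_)
        exact fun e => hne (e ▸ rfl)
      rw [hr, hb, pow_succ, mul_comm (p ^ b) p] at hdvd
      exact P.not_dvd_index (Nat.dvd_of_mul_dvd_mul_right (pow_pos hp.pos b) hdvd)
    refine ⟨P, θ.1, Char.irr_isCharacter θ, Char.eq_indFun_of_degree _ χ (Char.irr_isCharacter θ)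
      (by rw [hm θ]; exact_mod_cast hmθ) ?_⟩
    rw [← Char.charDegree_cast θ, ← Char.charDegree_cast χ, hθ, ← hn, hr, Nat.cast_mul]
  · rintro ⟨P, θ, hθ, hχ⟩
    obtain ⟨t, ht⟩ := Char.IsCharacter.apply_one hθ
    have hnt : n = (P : Subgroup G).index * t := by
      have := congrFun hχ 1
      rw [Char.indFun_apply_one, ht, ← Char.charDegree_cast χ] at this
      exact_mod_cast this
    obtain ⟨c, hc⟩ := Char.charDegree_dvd_card χ
    obtain ⟨a, ha⟩ := IsPGroup.iff_card.1 P.isPGroup'
    have htc : t * c = p ^ a := by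
      refine Nat.eq_of_mul_eq_mul_left (Nat.pos_of_ne_zero (Subgroup.index_ne_zero_of_finite (H := (P : Subgroup G)))) ?_
      rw [← ha, Subgroup.index_mul_card, hc, ← hn, hnt]; ring
    obtain ⟨k, -, hk⟩ := (Nat.dvd_prime_pow hp).1 (Dvd.intro_left _ htc : c ∣ p ^ a)
    exact ⟨k, by rw [hc, hk, mul_comm]⟩

end Cfsg.Agent.S4798
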