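import Cfsg.Statements.S4801
import Cfsg.Agent.Lib.Char.Descend
-- import your own Cfsg.Agent.* helpers here

set_option autoImplicit false
open Cfsg

namespace Cfsg.Agent.S4801

/-- The codegree of an irreducible complex character χ of a finite group G is [G : ker χ] / χ(1), where ker χ is the set of elements at which χ takes the value χ(1). Let S be a finite simple group and G a finite group such that every codegree of an irreducible character of S is a codegree of an irreducible character of G. Then the order of S divides the order of G. -/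
theorem result {S : Type*} [Group S] [Finite S] (hS : IsSimpleGroup S) {G : Type*} [Group G] [Finite G] (hsub : ∀ χ : Cfsg.IrrCharacter S, ∃ ψ : Cfsg.IrrCharacter G, (Nat.card S / (Nat.card {g : S // (χ : S → ℂ) g = (χ : S → ℂ) 1} * Cfsg.charDegree (χ : S → ℂ))) = (Nat.card G / (Nat.card {g : G // (ψ : G → ℂ) g = (ψ : G → ℂ) 1} * Cfsg.charDegree (ψ : G → ℂ)))) : Nat.card S ∣ Nat.card G := by
  classical
  haveI := Fintype.ofFinite S
  haveI : Nontrivial S := hS.toNontrivial
  refine Nat.dvd_iff_prime_pow_dvd_dvd _ _ |>.2 fun r k hr hk => ?_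
  rcases Nat.eq_zero_or_pos k with rfl | hk0
  · simp
  obtain ⟨χ, hχ1, hχr⟩ : ∃ χ : Cfsg.IrrCharacter S, χ ≠ Char.trivialChar S ∧
      ¬ r ∣ Cfsg.charDegree χ.1 := by
    by_contra hcon
    push Not at hcon
    have h := Char.sum_degree_sq (G := S)
    simp only [← Char.charDegree_eq_degree] at h
    rw [← Finset.add_sum_erase _ _ (Finset.mem_univ (Char.trivialChar S))] at h
    have h1 : r ∣ Cfsg.charDegree (Char.trivialChar S).1 ^ 2 :=
      (Nat.dvd_add_left (Finset.dvd_sum fun χ hχ =>
        dvd_pow (hcon χ (Finset.ne_of_mem_erase hχ)) two_ne_zero)).1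
        (h ▸ (dvd_pow_self r hk0.ne').trans hk)
    simp [Cfsg.charDegree] at h1
    exact hr.one_lt.ne' h1
  obtain ⟨ψ, hψ⟩ := hsub χ
  haveI := CharInt.charKernel_normal (Char.irr_isCharacter χ)
  have hker : CharInt.charKernel (Char.irr_isCharacter χ) = ⊥ := by
    refine (IsSimpleGroup.eq_bot_or_eq_top_of_normal _ ‹_›).resolve_right fun htop => hχ1 ?_
    have hall : ∀ g, χ.1 g = χ.1 1 := fun g =>
      (CharInt.mem_charKernel (Char.irr_isCharacter χ)).1 (htop ▸ Subgroup.mem_top g)
    by_contra hne
    have h0 := Char.sum_apply_eq_zero hne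
    simp only [hall, Finset.sum_const, Finset.card_univ, nsmul_eq_mul, mul_eq_zero,
      Nat.cast_eq_zero, Fintype.card_ne_zero, false_or] at h0
    exact Char.IsIrrCharacter.apply_one_ne_zero χ.2 h0
  have hone : Nat.card {g : S // χ.1 g = χ.1 1} = 1 := by
    rw [Nat.card_congr (Equiv.subtypeEquivRight fun g =>
      (CharInt.mem_charKernel (Char.irr_isCharacter χ)).symm), hker]
    exact Subgroup.card_bot
  have hd := Char.charDegree_dvd_card χ
  obtain ⟨c, hc⟩ := hd
  rw [hone, one_mul] at hψ
  refine dvd_trans ?_ (hψ ▸ (Nat.div_dvd_of_dvd (Char.card_kernel_mul_charDegree_dvd ψ)))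
  rw [hc, Nat.mul_div_cancel_left _ (Char.charDegree_pos χ)]
  rw [hc] at hk
  exact (Nat.Coprime.pow_left k ((Nat.Prime.coprime_iff_not_dvd hr).2 hχr)).dvd_of_dvd_mul_left hk

end Cfsg.Agent.S4801
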