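import Cfsg.Statements.S4802
import Cfsg.Agent.Lib.Char.KernelSum
-- import your own Cfsg.Agent.* helpers here

set_option autoImplicit false
open Cfsg

namespace Cfsg.Agent.S4802

/-- Let N < M be normal subgroups of the finite group G and g ∈ M ∖ N. Then the conjugacy class of g is exactly M ∖ N if and only if every irreducible complex character of G whose kernel contains N takes the same value at all elements of M ∖ N, and every irreducible complex character of G whose kernel does not contain N vanishes at g. -/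
theorem result {G : Type*} [Group G] [Finite G] (N M : Subgroup G) [N.Normal] [M.Normal] (hNM : N < M) (g : G) (hgM : g ∈ M) (hgN : g ∉ N) : {h : G | IsConj g h} = (M : Set G) \ (N : Set G) ↔ ((∀ χ : Cfsg.IrrCharacter G, (∀ x ∈ N, (χ : G → ℂ) x = (χ : G → ℂ) 1) → ∀ x ∈ M, x ∉ N → ∀ y ∈ M, y ∉ N → (χ : G → ℂ) x = (χ : G → ℂ) y) ∧ (∀ χ : Cfsg.IrrCharacter G, (∃ x ∈ N, (χ : G → ℂ) x ≠ (χ : G → ℂ) 1) → (χ : G → ℂ) g = 0)) := by
  classical
  haveI := Fintype.ofFinite G
  haveI := Fintype.ofFinite N
  constructor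
  · intro heq
    have hconj : ∀ x ∈ M, x ∉ N → IsConj g x := fun x hx hxN => by
      have : x ∈ {h : G | IsConj g h} := heq ▸ ⟨hx, hxN⟩
      exact this
    refine ⟨fun χ _ x hx hxN y hy hyN => ?_, fun χ hχ => ?_⟩
    · have hc := Char.IsCharacter.isClassFunction (Char.irr_isCharacter χ)
      rw [← Char.IsClassFunction.apply_of_isConj hc (hconj x hx hxN),
        ← Char.IsClassFunction.apply_of_isConj hc (hconj y hy hyN)]
    · have h0 := Char.sum_coset_eq_zero_of_not_trivOn N χ
        (fun h => hχ.elim fun x hx => hx.2 (h x hx.1)) g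
      have hconst : ∀ k : N, χ.1 (g * k) = χ.1 g := fun k =>
        (Char.IsClassFunction.apply_of_isConj (Char.IsCharacter.isClassFunction (Char.irr_isCharacter χ))
          (hconj _ (mul_mem hgM (hNM.le k.2)) fun h => hgN ((N.mul_mem_cancel_right k.2).1 h))).symm
      simpa [hconst, Finset.card_univ] using h0
  · rintro ⟨h1, h2⟩
    ext y
    simp only [Set.mem_setOf_eq, Set.mem_diff, SetLike.mem_coe]
    refine ⟨fun hgy => ?_, fun ⟨hyM, hyN⟩ => ?_⟩
    · obtain ⟨c, rfl⟩ := isConj_iff.1 hgy
      refine ⟨‹M.Normal›.conj_mem g hgM c, fun h => hgN ?_⟩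
      simpa [mul_assoc] using ‹N.Normal›.conj_mem _ h c⁻¹
    · by_contra hne
      have h0 := Char.sum_irr_mul_conj g y
      rw [if_neg hne] at h0
      have hterm : ∀ χ : Cfsg.IrrCharacter G, χ.1 g * starRingEnd ℂ (χ.1 y) =
          ((if Char.TrivOn N χ.1 then Complex.normSq (χ.1 g) else 0 : ℝ) : ℂ) := by
        intro χ
        split_ifs with hχ
        · rw [← h1 χ hχ g hgM hgN y hyM hyN, Complex.mul_conj]
        · rw [h2 χ (by simpa [Char.TrivOn] using hχ)]; simp
      rw [Finset.sum_congr rfl fun χ _ => hterm χ, ← Complex.ofReal_sum, Complex.ofReal_eq_zero,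
        Finset.sum_eq_zero_iff_of_nonneg (fun χ _ => by
          split_ifs
          exacts [Complex.normSq_nonneg _, le_rfl])] at h0
      have := h0 (Char.trivialChar G) (Finset.mem_univ _)
      simp [Char.trivOn_trivialChar] at this

end Cfsg.Agent.S4802
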