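import Cfsg.Statements.S4805
import Cfsg.Agent.Lib.OneNonlinear.CaseTwo
import Cfsg.Agent.Lib.OneNonlinear.CaseBig
import Cfsg.Agent.Lib.Char.Descend
import Cfsg.Agent.Lib.Char.Linear
import Mathlib.GroupTheory.GroupAction.ConjAct
-- import your own Cfsg.Agent.* helpers here

set_option autoImplicit false
open Cfsg

namespace Cfsg.Agent.S4805

open scoped commutatorElement

set_option linter.style.haveILetI false

open Subgroup in
theorem solvable_aux {G : Type*} [Group G] [Finite G] (A K : Subgroup G) [A.Normal] [K.Normal]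
    (hA : A = commutator G) (hKA : K ≤ A) (g : G) (hgA : g ∈ A) (hgK : g ∉ K)
    (hclass : ∀ a ∈ A, a ∉ K → IsConj g a)
    (hcent : ∀ x, x ∉ A → ∃ y, ⁅x, y⁆ ∉ K) : Group.IsSolvable G := by
  classical
  set π := QuotientGroup.mk' K
  have hπ : ∀ x, π x = 1 ↔ x ∈ K := fun x => QuotientGroup.eq_one_iff x
  set V := A.map π
  haveI hVn : V.Normal := Normal.map inferInstance π (QuotientGroup.mk'_surjective K)
  have hconj : ∀ a ∈ A, a ∉ K → ∀ b ∈ A, b ∉ K → IsConj a b := fun a ha haK b hb hbK =>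
    (hclass a ha haK).symm.trans (hclass b hb hbK)
  have hcard : ∀ x ∈ A, x ∉ K →
      Nat.card (centralizer ({x} : Set G)) * (Nat.card V - 1) = K.index := by
    intro x hx hxK
    have hcl : (ConjClasses.mk x).carrier = (A : Set G) \ (K : Set G) := by
      ext y
      rw [ConjClasses.mem_carrier_iff_mk_eq, ConjClasses.mk_eq_mk_iff_isConj, isConj_comm]
      refine ⟨fun h => ?_, fun ⟨hy, hyK⟩ => hconj x hx hxK y hy hyK⟩
      obtain ⟨c, rfl⟩ := isConj_iff.1 h
      exact ⟨(inferInstance : A.Normal).conj_mem x hx c, fun h' => hxK (by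
        simpa [mul_assoc] using (inferInstance : K.Normal).conj_mem _ h' c⁻¹)⟩
    have h1 := PrimeParts.ncard_carrier x
    rw [hcl, Set.ncard_sdiff hKA, ← Nat.card_coe_set_eq, ← Nat.card_coe_set_eq] at h1
    have h2 : Nat.card A = Nat.card V * Nat.card K := by
      have h := relIndex_ker (K := A) π
      rw [QuotientGroup.ker_mk'] at h
      rw [← h, ← relIndex_bot_left, ← relIndex_bot_left K, mul_comm]
      exact (relIndex_mul_relIndex _ _ _ bot_le hKA).symm
    have h3 := (centralizer ({x} : Set G)).card_mul_index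
    rw [← h1, ← K.card_mul_index, SetLike.coe_sort_coe, SetLike.coe_sort_coe, h2] at h3
    refine Nat.eq_of_mul_eq_mul_left (Nat.card_pos (α := K)) (Eq.trans ?_ h3)
    rw [show Nat.card V * Nat.card K - Nat.card K = (Nat.card V - 1) * Nat.card K by
      rw [Nat.sub_mul, one_mul]]
    ring
  by_cases htwo : ∀ a ∈ A, a ∈ K ∨ g⁻¹ * a ∈ K
  · refine OneNonlinear.isSolvable_case_two A K hA g hgA hgK htwo hcent ?_
    have hV2 : Nat.card V = 2 := by
      rw [← SetLike.coe_sort_coe, Nat.card_coe_set_eq]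
      have : (V : Set (G ⧸ K)) = {1, π g} := by
        ext v
        constructor
        · rintro ⟨a, ha, rfl⟩
          rcases htwo a ha with h | h
          · exact Or.inl ((hπ a).2 h)
          · refine Or.inr ?_
            show π a = π g
            rw [eq_comm, ← inv_mul_eq_one, ← map_inv, ← map_mul]; exact (hπ _).2 h
        · rintro (rfl | rfl)
          · exact one_mem V
          · exact mem_map_of_mem π hgA
      rw [this, Set.ncard_pair fun h => hgK ((hπ g).1 h.symm)]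
    simpa [hV2] using hcard g hgA hgK
  push Not at htwo
  obtain ⟨b, hbA, hbK, hb⟩ := htwo
  -- all nonidentity elements of `V` are conjugate
  have hVconj : ∀ v ∈ V, v ≠ 1 → ∃ c : G ⧸ K, c * π g * c⁻¹ = v := by
    rintro _ ⟨a, ha, rfl⟩ hv
    obtain ⟨c, rfl⟩ := isConj_iff.1 (hclass a ha fun h => hv ((hπ a).2 h))
    exact ⟨π c, by simp [map_mul, map_inv]⟩
  have hg1 : π g ≠ 1 := fun h => hgK ((hπ g).1 h)
  have hord : ∀ v ∈ V, v ≠ 1 → orderOf v = orderOf (π g) := fun v hv hv1 => by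
    obtain ⟨c, rfl⟩ := hVconj v hv hv1
    exact MulEquiv.orderOf_eq (MulAut.conj c) (π g)
  obtain ⟨p, hp, hdvd⟩ := Nat.exists_prime_and_dvd (fun h => hg1 (orderOf_eq_one_iff.1 h) :
    orderOf (π g) ≠ 1)
  haveI : Fact p.Prime := ⟨hp⟩
  have hgp : orderOf (π g) = p := by
    set m := orderOf (π g)
    have hm : 0 < m := orderOf_pos _
    have hd : m / p ∣ m := Nat.div_dvd_of_dvd hdvd
    have hne : π g ^ (m / p) ≠ 1 := by
      rw [Ne, ← orderOf_dvd_iff_pow_eq_one]
      intro h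
      have := Nat.le_of_dvd (Nat.div_pos (Nat.le_of_dvd hm hdvd) hp.pos) h
      exact absurd (Nat.div_lt_self hm hp.one_lt) (by omega)
    have h := hord _ (pow_mem (mem_map_of_mem π hgA) _) hne
    rw [orderOf_pow_of_dvd (Nat.pos_iff_ne_zero.1 (Nat.div_pos (Nat.le_of_dvd hm hdvd) hp.pos)) hd,
      Nat.div_div_self hdvd hm.ne'] at h
    exact h.symm
  have hexp : ∀ a ∈ A, a ^ p ∈ K := fun a ha => by
    rw [← hπ, map_pow, ← orderOf_dvd_iff_pow_eq_one]
    rcases eq_or_ne (π a) 1 with h | h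
    · rw [h, orderOf_one]; exact one_dvd _
    · rw [hord _ (mem_map_of_mem π ha) h, hgp]
  -- `V` is its own centre
  have hVp : IsPGroup p V := by
    rintro ⟨_, a, ha, rfl⟩
    exact ⟨1, Subtype.ext (by
      show π a ^ p ^ 1 = 1
      rw [pow_one, ← map_pow, hπ]; exact hexp a ha)⟩
  haveI : Nontrivial V := ⟨⟨⟨π g, mem_map_of_mem π hgA⟩, 1, fun h => hg1 (congrArg Subtype.val h)⟩⟩
  haveI := hVp.center_nontrivial
  obtain ⟨⟨z, hz⟩, hz1⟩ := exists_ne (1 : Subgroup.center V)
  set Z := (Subgroup.center V).map V.subtype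
  haveI hZn : Z.Normal := inferInstance
  have hVZ : ∀ v ∈ V, v ∈ Z := by
    intro v hv
    rcases eq_or_ne v 1 with rfl | hv1
    · exact one_mem Z
    obtain ⟨c, hc⟩ := hVconj (z : G ⧸ K) z.2 fun h => hz1 (Subtype.ext (Subtype.ext h))
    obtain ⟨d, rfl⟩ := hVconj v hv hv1
    have hgZ : π g ∈ Z := by
      have := hZn.conj_mem _ ⟨z, hz, rfl⟩ c⁻¹
      simp only [Subgroup.coe_subtype, ← hc] at this
      simpa [mul_assoc] using this
    exact hZn.conj_mem _ hgZ d
  have habel : ∀ a ∈ A, ∀ c ∈ A, ⁅a, c⁆ ∈ K := by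
    intro a ha c hc
    rw [← hπ, map_commutatorElement, commutatorElement_eq_one_iff_mul_comm]
    obtain ⟨⟨w, hw⟩, hw', e⟩ := hVZ _ (mem_map_of_mem π ha)
    change w = π a at e
    have := congrArg Subtype.val (mem_center_iff.1 hw' ⟨π c, mem_map_of_mem π hc⟩)
    change π c * w = w * π c at this
    rw [← e]
    exact this.symm
  exact OneNonlinear.isSolvable_case_big A K hA hKA hexp habel hconj hcent g hgA hgK
    ⟨b, hbA, hbK, hb⟩ hcard

/-- Let G be a finite group, g an element outside the centre of G, and χ an irreducible complex character of degree greater than one with χ(g) ≠ 0 such that every other irreducible character of degree greater than one vanishes at g. Then g lies in the derived subgroup G′ and χ(g) = −[G : G′]/χ(1); G′ is the union of the kernel of χ (the elements where χ takes the value χ(1)) and the conjugacy class of g, and χ vanishes outside G′; every irreducible character of degree greater than one whose kernel contains that of χ equals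 χ; and G is solvable. -/
theorem result {G : Type*} [Group G] [Finite G] (g : G) (hg : g ∉ Subgroup.center G) (χ : Cfsg.IrrCharacter G) (hχ1 : Cfsg.charDegree (χ : G → ℂ) ≠ 1) (hχg : (χ : G → ℂ) g ≠ 0) (hother : ∀ ψ : Cfsg.IrrCharacter G, Cfsg.charDegree (ψ : G → ℂ) ≠ 1 → ψ ≠ χ → (ψ : G → ℂ) g = 0) : g ∈ commutator G ∧ (χ : G → ℂ) g = -(((commutator G).index : ℂ) / (χ : G → ℂ) 1) ∧ ((commutator G : Set G) = {x : G | (χ : G → ℂ) x = (χ : G → ℂ) 1} ∪ {h : G | IsConj g h}) ∧ (∀ x : G, x ∉ commutator G → (χ : G → ℂ) x = 0) ∧ (∀ ψ : Cfsg.IrrCharacter G, Cfsg.charDegree (ψ : G → ℂ) ≠ 1 → (∀ x : G, (χ : G → ℂ) x = (χ : G → ℂ) 1 → (ψ : G → ℂ) x = (ψ : G → ℂ) 1) → ψ = χ) ∧ Group.IsSolvable G := by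
  classical
  haveI := Fintype.ofFinite G
  set A := commutator G with hA
  haveI := Fintype.ofFinite A
  set N : ℂ := (A.index : ℂ) with hN
  have hone : χ.1 1 ≠ 0 := CharInt.irr_one_ne_zero χ.2
  have hdeg : ∀ ψ : Cfsg.IrrCharacter G, Cfsg.charDegree ψ.1 = 1 ↔ ψ.1 1 = 1 := fun ψ => by
    rw [← Char.charDegree_cast ψ, Nat.cast_eq_one]
  -- the linear characters
  have htriv : ∀ ψ : Cfsg.IrrCharacter G, Char.TrivOn A ψ.1 ↔ ψ.1 1 = 1 := by
    intro ψ
    constructor
    · intro h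
      obtain ⟨ψ', hψ'⟩ := Char.exists_descend A ψ h
      rw [← hψ' 1, QuotientGroup.mk_one]
      refine Char.apply_one_of_comm (fun a b => ?_) ψ'
      obtain ⟨a, rfl⟩ := QuotientGroup.mk_surjective a
      obtain ⟨b, rfl⟩ := QuotientGroup.mk_surjective b
      rw [← QuotientGroup.mk_mul, ← QuotientGroup.mk_mul, QuotientGroup.eq]
      rw [show (a * b)⁻¹ * (b * a) = ⁅b⁻¹, a⁻¹⁆ by rw [commutatorElement_def]; group]
      exact Subgroup.commutator_mem_commutator (Subgroup.mem_top _) (Subgroup.mem_top _)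
    · intro h
      obtain ⟨lam, hl⟩ := Char.IsCharacter.exists_monoidHom (Char.irr_isCharacter ψ) h
      intro k hk
      rw [← hl, map_one]
      have : A ≤ (lam.toHomUnits).ker := Abelianization.commutator_subset_ker _
      exact congrArg Units.val (MonoidHom.mem_ker.1 (this hk))
  set Lin := Finset.univ.filter (fun ψ : Cfsg.IrrCharacter G => Char.TrivOn A ψ.1)
  have hL : ∀ x : G, ∑ ψ ∈ Lin, ψ.1 x = if x ∈ A then N else 0 := by
    intro x
    have h := Char.sum_trivOn_mul_conj A x (1 : G)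
    have hc : Nat.card (Subgroup.centralizer ({1} : Set G)) = Nat.card G := by
      rw [Subgroup.centralizer_eq_top_iff_subset.2 (by simp), Subgroup.card_top]
    have hk : Nat.card {k : A // IsConj (x * k) 1} = if x ∈ A then 1 else 0 := by
      split_ifs with hx
      · haveI : Subsingleton {k : A // IsConj (x * k) 1} := ⟨fun a b => Subtype.ext (Subtype.ext
          (mul_left_cancel (a := x) ((isConj_one_left.1 a.2).trans (isConj_one_left.1 b.2).symm)))⟩
        haveI : Nonempty {k : A // IsConj (x * k) 1} :=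
          ⟨⟨⟨x⁻¹, inv_mem hx⟩, by simp⟩⟩
        exact Nat.card_unique
      · haveI : IsEmpty {k : A // IsConj (x * k) 1} := ⟨fun a => hx (by
          have := isConj_one_left.1 a.2
          rw [eq_inv_of_mul_eq_one_left this]; exact inv_mem a.1.2)⟩
        exact Nat.card_of_isEmpty
    rw [hc, hk] at h
    have e : ∀ ψ ∈ Lin, ψ.1 x * starRingEnd ℂ (ψ.1 1) = ψ.1 x := fun ψ hψ => by
      rw [(htriv ψ).1 (Finset.mem_filter.1 hψ).2, map_one, mul_one]
    rw [Finset.sum_congr rfl e, ← A.card_mul_index] at h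
    refine mul_left_cancel₀ (Nat.cast_ne_zero.2 (Nat.card_pos (α := A)).ne' : (Nat.card A : ℂ) ≠ 0) (h.trans ?_)
    split_ifs <;> simp [hN]
  have hχL : χ ∉ Lin := fun h => hχ1 ((hdeg χ).2 ((htriv χ).1 (Finset.mem_filter.1 h).2))
  have hother' : ∀ ψ, ψ ∉ Lin → ψ ≠ χ → ψ.1 g = 0 := fun ψ h1 h2 =>
    hother ψ (fun h => h1 (Finset.mem_filter.2 ⟨Finset.mem_univ _, (htriv ψ).2 ((hdeg ψ).1 h)⟩)) h2
  have hlinA : ∀ ψ ∈ Lin, ∀ x ∈ A, ψ.1 x = 1 := fun ψ hψ x hx =>
    ((Finset.mem_filter.1 hψ).2 x hx).trans ((htriv ψ).1 (Finset.mem_filter.1 hψ).2)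
  have hg1 : g ≠ 1 := fun h => hg (h ▸ one_mem _)
  have hsum : ∀ h : G, ∑ ψ : Cfsg.IrrCharacter G, ψ.1 h * starRingEnd ℂ (ψ.1 g) =
      ∑ ψ ∈ Lin, ψ.1 h * starRingEnd ℂ (ψ.1 g) + χ.1 h * starRingEnd ℂ (χ.1 g) := by
    intro h
    rw [← Finset.sum_add_sum_compl Lin]
    congr 1
    refine Finset.sum_eq_single χ (fun ψ hψ hne => ?_) fun h' =>
      absurd (Finset.mem_compl.2 hχL) h'
    rw [hother' ψ (Finset.mem_compl.1 hψ) hne, map_zero, mul_zero]
  -- `g` lies in the derived subgroup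
  have hgA : g ∈ A := by
    by_contra hgA
    have h := Char.sum_irr_mul_conj (1 : G) g
    rw [hsum, if_neg (fun h => hg1 (isConj_one_right.1 h))] at h
    have e : ∑ ψ ∈ Lin, ψ.1 1 * starRingEnd ℂ (ψ.1 g) = starRingEnd ℂ (∑ ψ ∈ Lin, ψ.1 g) := by
      rw [map_sum]
      exact Finset.sum_congr rfl fun ψ hψ => by
        rw [(htriv ψ).1 (Finset.mem_filter.1 hψ).2, one_mul]
    rw [e, hL, if_neg hgA, map_zero, zero_add, mul_eq_zero, map_eq_zero] at h
    exact h.elim hone hχg
  have hsum' : ∀ h : G, ∑ ψ : Cfsg.IrrCharacter G, ψ.1 h * starRingEnd ℂ (ψ.1 g) =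
      (if h ∈ A then N else 0) + χ.1 h * starRingEnd ℂ (χ.1 g) := by
    intro h
    rw [hsum, ← hL h]
    congr 1
    exact Finset.sum_congr rfl fun ψ hψ => by rw [hlinA ψ hψ g hgA, map_one, mul_one]
  have hval' : starRingEnd ℂ (χ.1 g) = -(N / χ.1 1) := by
    have h := Char.sum_irr_mul_conj (1 : G) g
    rw [hsum', if_neg (fun h => hg1 (isConj_one_right.1 h)), if_pos (one_mem A)] at h
    rw [← neg_div, eq_div_iff hone]
    linear_combination h
  have hval : χ.1 g = -(N / χ.1 1) := by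
    have h := congrArg (starRingEnd ℂ) hval'
    rwa [Complex.conj_conj, map_neg, map_div₀, hN, map_natCast, ← Char.charDegree_cast χ, map_natCast,
      Char.charDegree_cast χ, ← hN] at h
  have hN0 : N ≠ 0 := Nat.cast_ne_zero.2 Subgroup.FiniteIndex.index_ne_zero
  have hout : ∀ x : G, x ∉ A → χ.1 x = 0 := by
    intro x hx
    have h := Char.sum_irr_mul_conj x g
    rw [hsum', if_neg hx, zero_add, if_neg (fun h => hx (by
      obtain ⟨c, hc⟩ := isConj_iff.1 h.symm
      exact hc ▸ (inferInstance : A.Normal).conj_mem g hgA c)), mul_eq_zero] at h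
    exact h.resolve_right (by rw [map_eq_zero]; exact hχg)
  have hin : ∀ x ∈ A, ¬ IsConj g x → χ.1 x = χ.1 1 := by
    intro x hx hxg
    have h := Char.sum_irr_mul_conj x g
    rw [hsum', if_pos hx, if_neg (fun h => hxg h.symm), hval'] at h
    field_simp at h
    have h' : N * (χ.1 1 - χ.1 x) = 0 := by linear_combination h
    exact (sub_eq_zero.1 ((mul_eq_zero.1 h').resolve_left hN0)).symm
  have hgker : χ.1 g ≠ χ.1 1 := by
    intro h
    rw [hval, eq_comm] at h
    have h2 : (Cfsg.charDegree χ.1 : ℂ) * Cfsg.charDegree χ.1 + (A.index : ℂ) = 0 := by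
      rw [Char.charDegree_cast]
      field_simp at h
      linear_combination h
    exact Subgroup.FiniteIndex.index_ne_zero (H := A) (by
      have h3 : Cfsg.charDegree χ.1 * Cfsg.charDegree χ.1 + A.index = 0 := by exact_mod_cast h2
      omega)
  have hkerA : ∀ x, χ.1 x = χ.1 1 → x ∈ A := fun x hx => by
    by_contra h
    exact hone (hx ▸ hout x h)
  have hset : (A : Set G) = {x : G | χ.1 x = χ.1 1} ∪ {h : G | IsConj g h} := by
    ext x
    refine ⟨fun hx => ?_, ?_⟩
    · by_cases h : IsConj g x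
      · exact Or.inr h
      · exact Or.inl (hin x hx h)
    · rintro (h | h)
      · exact hkerA x h
      · obtain ⟨c, rfl⟩ := isConj_iff.1 (h : IsConj g x)
        exact (inferInstance : A.Normal).conj_mem g hgA c
  have hclassval : ∀ ψ : Cfsg.IrrCharacter G, ∀ x, IsConj g x → ψ.1 x = ψ.1 g := fun ψ x hx =>
    (CharInt.char_eq_of_isConj (Char.irr_isCharacter ψ) hx).symm
  have huniq : ∀ ψ : Cfsg.IrrCharacter G, Cfsg.charDegree ψ.1 ≠ 1 →
      (∀ x : G, χ.1 x = χ.1 1 → ψ.1 x = ψ.1 1) → ψ = χ := by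
    intro ψ hψ1 hker
    by_contra hne
    have hψL : ¬ Char.TrivOn A ψ.1 := fun h => hψ1 ((hdeg ψ).2 ((htriv ψ).1 h))
    have h := Char.sum_coset_eq_zero_of_not_trivOn A ψ hψL 1
    simp only [one_mul] at h
    have hg0 := hother ψ hψ1 hne
    have e : ∀ a : A, ψ.1 (a : G) = if χ.1 (a : G) = χ.1 1 then ψ.1 1 else 0 := fun a => by
      split_ifs with ha
      · exact hker _ ha
      · rw [hclassval ψ _ (by_contra fun hc => ha (hin _ a.2 hc)), hg0]
    rw [Finset.sum_congr rfl fun a _ => e a, ← Finset.sum_filter, Finset.sum_const, nsmul_eq_mul,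
      mul_eq_zero, Nat.cast_eq_zero, Finset.card_eq_zero] at h
    rcases h with h | h
    · exact Finset.notMem_empty (1 : A) (h ▸ Finset.mem_filter.2 ⟨Finset.mem_univ _, rfl⟩)
    · exact CharInt.irr_one_ne_zero ψ.2 h
  refine ⟨hgA, hval, hset, hout, huniq, ?_⟩
  -- solvability
  set K := CharInt.charKernel (Char.irr_isCharacter χ)
  haveI : K.Normal := CharInt.charKernel_normal _
  haveI := Fintype.ofFinite K
  have hK : ∀ x, x ∈ K ↔ χ.1 x = χ.1 1 := fun x => CharInt.mem_charKernel _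
  have hKA : K ≤ A := fun x hx => hkerA x ((hK x).1 hx)
  refine solvable_aux A K rfl hKA g hgA (fun h => hgker ((hK g).1 h))
    (fun a ha haK => by_contra fun h => haK ((hK a).2 (hin a ha h))) fun x hx => ?_
  by_contra hall
  push Not at hall
  have h := Char.sum_trivOn_mul_conj K x x
  have e : ∀ ψ ∈ Finset.univ.filter (fun ψ : Cfsg.IrrCharacter G => Char.TrivOn K ψ.1),
      ψ.1 x * starRingEnd ℂ (ψ.1 x) = if ψ ∈ Lin then 1 else 0 := by
    intro ψ hψ
    split_ifs with hl
    · obtain ⟨lam, hlam⟩ := Char.IsCharacter.exists_monoidHom (Char.irr_isCharacter ψ)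
        ((htriv ψ).1 (Finset.mem_filter.1 hl).2)
      rw [← hlam]
      exact Char.normSq_linear lam x
    · have hψd : Cfsg.charDegree ψ.1 ≠ 1 := fun h1 =>
        hl (Finset.mem_filter.2 ⟨Finset.mem_univ _, (htriv ψ).2 ((hdeg ψ).1 h1)⟩)
      rw [huniq ψ hψd fun y hy => (Finset.mem_filter.1 hψ).2 y ((hK y).2 hy), hout x hx, zero_mul]
  have hsub : Lin ⊆ Finset.univ.filter (fun ψ : Cfsg.IrrCharacter G => Char.TrivOn K ψ.1) := fun ψ hψ =>
    Finset.mem_filter.2 ⟨Finset.mem_univ _, fun k hk => (Finset.mem_filter.1 hψ).2 k (hKA hk)⟩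
  rw [Finset.sum_congr rfl e, Finset.sum_ite_mem, Finset.inter_eq_right.2 hsub] at h
  have hcount : Nat.card {k : K // IsConj (x * k) x} = (ConjClasses.mk x).carrier.ncard := by
    rw [← Nat.card_coe_set_eq]
    refine Nat.card_congr (Equiv.ofBijective
      (fun k => (⟨x * k.1, ConjClasses.mem_carrier_iff_mk_eq.2
        (ConjClasses.mk_eq_mk_iff_isConj.2 k.2)⟩ : (ConjClasses.mk x).carrier)) ⟨fun a b hab => ?_, ?_⟩)
    · exact Subtype.ext (Subtype.ext (mul_left_cancel (congrArg Subtype.val hab)))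
    · rintro ⟨y, hy⟩
      have hy' : IsConj y x := ConjClasses.mk_eq_mk_iff_isConj.1
        (ConjClasses.mem_carrier_iff_mk_eq.1 hy)
      obtain ⟨c, hc⟩ := isConj_iff.1 hy'.symm
      have hmem : x⁻¹ * y ∈ K := by
        have hk := inv_mem ((inferInstance : K.Normal).conj_mem _ (hall c) x⁻¹)
        subst hc
        simpa [commutatorElement_def, mul_assoc] using hk
      exact ⟨⟨⟨x⁻¹ * y, hmem⟩, by simpa using hy'⟩, Subtype.ext (mul_inv_cancel_left x y)⟩
  rw [hcount, PrimeParts.ncard_carrier, ← Nat.cast_mul, Subgroup.card_mul_index] at h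
  have hlin1 : (∑ _ψ ∈ Lin, (1 : ℂ)) = N := by
    have := hL 1
    rw [if_pos (one_mem A)] at this
    rw [← this]
    exact Finset.sum_congr rfl fun ψ hψ => (hlinA ψ hψ 1 (one_mem A)).symm
  rw [hlin1, hN, ← Nat.cast_mul, Nat.cast_inj, ← A.card_mul_index] at h
  have hKA' : Nat.card K = Nat.card A :=
    Nat.eq_of_mul_eq_mul_right (Nat.pos_of_ne_zero Subgroup.FiniteIndex.index_ne_zero) h
  exact hgker ((hK g).1 ((Subgroup.eq_of_le_of_card_ge hKA hKA'.ge).symm ▸ hgA))

end Cfsg.Agent.S4805
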