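import Cfsg.Statements.S4808
import Cfsg.Agent.Lib.Char.Descend
import Mathlib.GroupTheory.Sylow
-- import your own Cfsg.Agent.* helpers here

set_option autoImplicit false
open Cfsg

namespace Cfsg.Agent.S4808

/-- The codegree of an irreducible complex character χ of a finite group G is [G : ker χ] / χ(1), where ker χ is the set of elements at which χ takes the value χ(1). A prime divides the order of G if and only if it divides the codegree of some irreducible complex character of G. -/
theorem result {G : Type*} [Group G] [Finite G] (p : ℕ) (hp : p.Prime) : p ∣ Nat.card G ↔ ∃ χ : Cfsg.IrrCharacter G, p ∣ (Nat.card G / (Nat.card {g : G // (χ : G → ℂ) g = (χ : G → ℂ) 1} * Cfsg.charDegree (χ : G → ℂ))) := by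
  classical
  haveI := Fintype.ofFinite G
  refine ⟨fun hp' => ?_, fun ⟨χ, hχ⟩ => ?_⟩
  · by_contra hno
    push Not at hno
    haveI := Fact.mk hp
    let S : Set G := {g : G | ∃ k : ℕ, orderOf g = p ^ k}
    let K : Subgroup G := Subgroup.normalClosure S
    haveI := Fintype.ofFinite K
    have hK : ¬ p ∣ K.index := by
      obtain ⟨P⟩ : Nonempty (Sylow p G) := inferInstance
      have hPK : (P : Subgroup G) ≤ K := fun g hg => Subgroup.subset_normalClosure (by
        obtain ⟨k, hk⟩ := (IsPGroup.iff_orderOf.1 P.isPGroup') ⟨g, hg⟩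
        exact ⟨k, by rw [← hk, Subgroup.orderOf_mk]⟩)
      exact fun h => P.not_dvd_index (h.trans (Subgroup.index_dvd_of_le hPK))
    have hdiv : ∀ χ : Cfsg.IrrCharacter G, ¬ Char.TrivOn K χ.1 →
        p ∣ Cfsg.charDegree χ.1 := by
      intro χ hχ
      by_contra hd
      have hcard : Nat.card {g : G // χ.1 g = χ.1 1} =
          Nat.card (CharInt.charKernel (Char.irr_isCharacter χ)) :=
        Nat.card_congr (Equiv.subtypeEquivRight fun g => (CharInt.mem_charKernel _).symm)
      have h2 : ¬ p ∣ (CharInt.charKernel (Char.irr_isCharacter χ)).index := by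
        intro h3
        obtain ⟨c, hc⟩ := Char.card_kernel_mul_charDegree_dvd χ
        have hpos : 0 < Nat.card {g : G // χ.1 g = χ.1 1} * Cfsg.charDegree χ.1 :=
          Nat.pos_of_ne_zero fun h0 => (Nat.card_pos (α := G)).ne' (by rw [hc, h0, zero_mul])
        have hp1 := hno χ
        rw [hc, Nat.mul_div_cancel_left _ hpos] at hp1
        rw [hcard] at hc
        have h4 : (CharInt.charKernel (Char.irr_isCharacter χ)).index = Cfsg.charDegree χ.1 * c := by
          refine Nat.eq_of_mul_eq_mul_left (Nat.card_pos (α := CharInt.charKernel (Char.irr_isCharacter χ))) ?_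
          rw [Subgroup.card_mul_index, hc, mul_assoc]
        rw [h4] at h3
        exact (hp.dvd_mul.1 h3).elim hd hp1
      haveI := CharInt.charKernel_normal (Char.irr_isCharacter χ)
      have hle : K ≤ CharInt.charKernel (Char.irr_isCharacter χ) := by
        refine Subgroup.normalClosure_le_normal fun g ⟨k, hk⟩ => ?_
        have h5 : orderOf (g : G ⧸ CharInt.charKernel (Char.irr_isCharacter χ)) = 1 := by
          refine Nat.eq_one_of_dvd_coprimes (Nat.Coprime.pow_left k
            ((Nat.Prime.coprime_iff_not_dvd hp).2 h2)) ?_ ?_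
          · rw [← hk]; exact orderOf_map_dvd (QuotientGroup.mk' _) g
          · rw [Subgroup.index_eq_card]; exact orderOf_dvd_natCard _
        exact (QuotientGroup.eq_one_iff g).1 (orderOf_eq_one_iff.1 h5)
      exact hχ fun k hk => (CharInt.mem_charKernel _).1 (hle hk)
    have h := Char.sum_degree_sq (G := G)
    simp only [← Char.charDegree_eq_degree] at h
    rw [← Finset.sum_filter_add_sum_filter_not Finset.univ
      (fun χ : Cfsg.IrrCharacter G => Char.TrivOn K χ.1), Char.sum_trivOn_degree_sq K] at h
    refine hK ((Nat.dvd_add_left ?_).1 (h ▸ hp'))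
    exact Finset.dvd_sum fun χ hχ => dvd_pow (hdiv χ (Finset.mem_filter.1 hχ).2) two_ne_zero
  · exact hχ.trans (Nat.div_dvd_of_dvd (Char.card_kernel_mul_charDegree_dvd χ))

end Cfsg.Agent.S4808
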