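import Cfsg.Statements.S4813
import Cfsg.Agent.S4811
import Cfsg.Agent.S4466

set_option autoImplicit false
open Cfsg

namespace Cfsg.Agent.S4813

open Cfsg.Agent.S4811 (structure_quot resFun_irr exists_full_degree)
open scoped commutatorElement

/-- If every irreducible complex character of the finite group G of degree greater than one has prime degree, then G has at most three distinct irreducible character degrees. -/
theorem result {G : Type*} [Group G] [Finite G] (hprime : ∀ d ∈ Cfsg.charDegrees G, d = 1 ∨ d.Prime) : Nat.card ↥(Cfsg.charDegrees G) ≤ 3 := by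
  classical
  haveI := Fintype.ofFinite G
  haveI : Group.IsSolvable G := S4466.result fun χ hχ => (hprime _ ⟨χ, rfl⟩).resolve_left hχ
  have small : ∀ T : Set ℕ, T.Finite ∧ Cfsg.charDegrees G ⊆ T → T.ncard ≤ 3 →
      Nat.card ↥(Cfsg.charDegrees G) ≤ 3 := fun T hT h3 => by
    rw [Nat.card_coe_set_eq]; exact (Set.ncard_le_ncard hT.2 hT.1).trans h3
  -- if `G` is abelian all degrees are one
  by_cases hna : commutator G = ⊥
  · refine small {1} ⟨Set.finite_singleton _, ?_⟩ (by simp)
    rintro _ ⟨χ, rfl⟩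
    show Cfsg.charDegree χ.1 = 1
    apply Nat.cast_injective (R := ℂ)
    rw [Char.charDegree_cast, Nat.cast_one]
    exact Char.apply_one_of_comm (fun a b => commutatorElement_eq_one_iff_mul_comm.1
        (Subgroup.mem_bot.1 (hna ▸ Subgroup.commutator_mem_commutator (Subgroup.mem_top a) (Subgroup.mem_top b)))) χ
  obtain ⟨K, ⟨hKn, hK1⟩, hKmax⟩ := Set.Finite.exists_maximal
    (s := {K : Subgroup G | K.Normal ∧ ¬ commutator G ≤ K}) (Set.toFinite _)
    ⟨⊥, inferInstance, fun h => hna (le_bot_iff.1 h)⟩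
  haveI := hKn
  have hmk : (commutator G).map (QuotientGroup.mk' K) = commutator (G ⧸ K) := by
    rw [commutator_def, Subgroup.map_commutator, Subgroup.map_top_of_surjective _ (QuotientGroup.mk'_surjective K), commutator_def]
  haveI : Group.IsSolvable (G ⧸ K) := solvable_of_surjective (QuotientGroup.mk'_surjective K)
  have hQna : commutator (G ⧸ K) ≠ ⊥ := by
    intro h
    rw [← hmk, Subgroup.map_eq_bot_iff, QuotientGroup.ker_mk'] at h
    exact hK1 h
  have hQmin : ∀ L : Subgroup (G ⧸ K), L.Normal → L ≠ ⊥ → commutator (G ⧸ K) ≤ L := by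
    intro L hL hne
    rw [← hmk, Subgroup.map_le_iff_le_comap]
    by_contra hnle
    have hle : K ≤ L.comap (QuotientGroup.mk' K) := fun k hk => by
      rw [Subgroup.mem_comap, QuotientGroup.mk'_apply, (QuotientGroup.eq_one_iff k).2 hk]
      exact one_mem _
    have h2 := le_antisymm (hKmax (y := L.comap (QuotientGroup.mk' K)) ⟨hL.comap _, hnle⟩ hle) hle
    refine hne (Subgroup.comap_injective (QuotientGroup.mk'_surjective K) ?_)
    rw [h2, MonoidHom.comap_bot, QuotientGroup.ker_mk']
  rcases structure_quot hQna hQmin with ⟨p, hp, hpQ⟩ | ⟨q, hq, hexp, hMab, hMtop, hfix⟩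
  · -- a nonabelian p-group quotient: one component
    haveI := Fact.mk hp
    haveI := Fintype.ofFinite K
    obtain ⟨k, hk⟩ := IsPGroup.iff_card.1 hpQ
    obtain ⟨ψ, hψ⟩ : ∃ ψ : Cfsg.IrrCharacter (G ⧸ K), ψ.1 1 ≠ 1 := by
      by_contra hcon
      push Not at hcon
      refine hQna ?_
      rw [commutator_def, eq_bot_iff, Subgroup.commutator_le]
      intro a _ b _
      exact Subgroup.mem_bot.2 (commutatorElement_eq_one_iff_mul_comm.2
        (Char.forall_apply_one_iff_comm.1 hcon a b))
    obtain ⟨i, -, hi⟩ := (Nat.dvd_prime_pow hp).1 (hk ▸ Char.charDegree_dvd_card ψ)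
    have hpψ : p ∣ Cfsg.charDegree ψ.1 := by
      rcases Nat.eq_zero_or_pos i with rfl | h0
      · exact absurd (by rw [← Char.charDegree_cast ψ, hi]; simp) hψ
      · exact hi ▸ dvd_pow_self p h0.ne'
    refine small {1, p} ⟨Set.toFinite _, ?_⟩ (by rw [Set.ncard_pair hp.one_lt.ne]; omega)
    rintro _ ⟨χ, rfl⟩
    rcases hprime _ ⟨χ, rfl⟩ with h1 | h1
    · exact Or.inl h1
    refine Or.inr ?_
    by_cases hp' : p ∣ Cfsg.charDegree χ.1
    · exact ((Nat.prime_dvd_prime_iff_eq hp h1).1 hp').symm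
    exfalso
    have hres := resFun_irr K hp ⟨k, by rw [Subgroup.index_eq_card, hk]⟩ χ hp'
    have hdeg : Cfsg.charDegree (Char.mulQuotient K χ.1 ψ.1) = Cfsg.charDegree χ.1 * Cfsg.charDegree ψ.1 := by
      apply Nat.cast_injective (R := ℂ)
      rw [Nat.cast_mul, Char.charDegree_cast χ, Char.charDegree_cast ψ,
        Char.charDegree_cast ⟨_, Char.isIrrCharacter_mulQuotient K χ hres ψ⟩]
      simp [Char.mulQuotient_apply]
    have hψp : Cfsg.charDegree ψ.1 ≠ 1 := fun h => hp.one_lt.ne' (Nat.dvd_one.1 (h ▸ hpψ))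
    rcases hprime _ ⟨⟨_, Char.isIrrCharacter_mulQuotient K χ hres ψ⟩, hdeg⟩ with h2 | h2
    · exact h1.one_lt.ne' (Nat.eq_one_of_mul_eq_one_right h2)
    · exact Nat.not_prime_mul h1.one_lt.ne' hψp h2
  · -- a Frobenius quotient
    set F := (commutator (G ⧸ K)).comap (QuotientGroup.mk' K) with hF
    haveI : F.Normal := Subgroup.Normal.comap inferInstance _
    haveI := Fintype.ofFinite F
    have hmemF : ∀ x : G, x ∈ F ↔ (x : G ⧸ K) ∈ commutator (G ⧸ K) := fun x => Iff.rfl
    have hG'F : commutator G ≤ F := by rw [hF, ← Subgroup.map_le_iff_le_comap, hmk]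
    have hKF : ∀ x ∈ F, x ^ q ∈ K := fun x hx => by
      rw [← QuotientGroup.eq_one_iff, QuotientGroup.mk_pow]; exact hexp _ hx
    have hfixν : ∀ g : G, g ∉ F → ∀ ν : F →* ℂ, (∀ k : F, (k : G) ∈ K → ν k = 1) →
        (∀ x : F, ν (MulAut.conjNormal g x) = ν x) → ν = 1 := by
      intro g hg ν hνK hνg
      let φ : commutator (G ⧸ K) → commutator (G ⧸ K) := fun x => ⟨⁅(g : G ⧸ K), x.1⁆,
        Subgroup.commutator_mem_commutator (Subgroup.mem_top _) (Subgroup.mem_top _)⟩
      have hinj : Function.Injective φ := by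
        intro x y hxy
        have h1 : (g : G ⧸ K) * x.1 * (g : G ⧸ K)⁻¹ * x.1⁻¹ = (g : G ⧸ K) * y.1 * (g : G ⧸ K)⁻¹ * y.1⁻¹ :=
          congrArg Subtype.val hxy
        set a := (g : G ⧸ K) * x.1 * (g : G ⧸ K)⁻¹ with ha
        set b := (g : G ⧸ K) * y.1 * (g : G ⧸ K)⁻¹ with hb
        have hbM : b ∈ commutator (G ⧸ K) := (inferInstance : (commutator (G ⧸ K)).Normal).conj_mem _ y.2 _
        have h2 : b⁻¹ * a = y.1⁻¹ * x.1 := by
          have : a = b * y.1⁻¹ * x.1 := by rw [← h1]; group
          rw [this]; group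
        have h3 := hfix (g : G ⧸ K) hg (y.1⁻¹ * x.1) (mul_mem (inv_mem y.2) x.2) (by
          have : b⁻¹ * a = (g : G ⧸ K) * (y.1⁻¹ * x.1) * (g : G ⧸ K)⁻¹ := by rw [ha, hb]; group
          rw [this] at h2
          exact mul_inv_eq_iff_eq_mul.1 h2)
        exact Subtype.ext (inv_mul_eq_one.1 h3).symm
      haveI : Finite (commutator (G ⧸ K)) := inferInstance
      refine MonoidHom.ext fun y => ?_
      obtain ⟨⟨x, hx⟩, hxy⟩ := (Finite.injective_iff_surjective.1 hinj) ⟨(y : G ⧸ K), y.2⟩
      obtain ⟨x, rfl⟩ := QuotientGroup.mk_surjective x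
      let u : F := ⟨x, hx⟩
      have hk : ((MulAut.conjNormal g u * u⁻¹ * y⁻¹ : F) : G) ∈ K := by
        rw [← QuotientGroup.eq_one_iff]
        simp only [Subgroup.coe_mul, Subgroup.coe_inv, MulAut.conjNormal_apply, QuotientGroup.mk_mul,
          QuotientGroup.mk_inv]
        exact mul_inv_eq_one.2 (congrArg Subtype.val hxy)
      have := hνK _ hk
      rw [map_mul, map_mul, hνg, ← map_mul, mul_inv_cancel, map_one, one_mul] at this
      have h4 : ν y * ν y⁻¹ = 1 := by rw [← map_mul, mul_inv_cancel, map_one]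
      rwa [this, mul_one] at h4
    have hKnormal : ∀ h : G, ∀ k ∈ K, h * k * h⁻¹ ∈ K := fun h k hk => hKn.conj_mem k hk h
    have hexν : ∃ ν : F →* ℂ, (∀ k : F, (k : G) ∈ K → ν k = 1) ∧ ν ≠ 1 := by
      haveI : (K.subgroupOf F).Normal := inferInstance
      have hcomm : ∀ a b : F ⧸ K.subgroupOf F, a * b = b * a := by
        intro a b
        obtain ⟨a, rfl⟩ := QuotientGroup.mk_surjective a
        obtain ⟨b, rfl⟩ := QuotientGroup.mk_surjective b
        rw [← QuotientGroup.mk_mul, ← QuotientGroup.mk_mul, QuotientGroup.eq, Subgroup.mem_subgroupOf]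
        rw [← QuotientGroup.eq_one_iff]
        simp only [Subgroup.coe_mul, Subgroup.coe_inv, QuotientGroup.mk_mul, QuotientGroup.mk_inv]
        rw [inv_mul_eq_one]
        exact hMab _ a.2 _ b.2
      obtain ⟨χ, hχ⟩ : ∃ χ : Cfsg.IrrCharacter (F ⧸ K.subgroupOf F), χ ≠ Char.trivialChar _ := by
        by_contra hcon
        push Not at hcon
        haveI := Fintype.ofFinite (F ⧸ K.subgroupOf F)
        have hs := Char.sum_degree_sq (G := F ⧸ K.subgroupOf F)
        rw [Finset.sum_eq_single_of_mem (Char.trivialChar _) (Finset.mem_univ _)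
          (fun χ _ h => absurd (hcon χ) h)] at hs
        rw [show Char.degree (Char.trivialChar (F ⧸ K.subgroupOf F)) = 1 by
          simp [← Char.charDegree_eq_degree, Cfsg.charDegree], one_pow, ← Subgroup.index_eq_card] at hs
        have hle := Subgroup.subgroupOf_eq_top.1 (Subgroup.index_eq_one.1 hs.symm)
        refine hQna (eq_bot_iff.2 fun z hz => ?_)
        obtain ⟨z, rfl⟩ := QuotientGroup.mk_surjective z
        exact Subgroup.mem_bot.2 ((QuotientGroup.eq_one_iff z).2 (hle hz))
      obtain ⟨lam, hlam⟩ := Char.IsCharacter.exists_monoidHom (Char.irr_isCharacter χ)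
        (Char.apply_one_of_comm hcomm χ)
      refine ⟨lam.comp (QuotientGroup.mk' _), fun k hk => ?_, fun h => hχ (Subtype.ext ?_)⟩
      · rw [MonoidHom.comp_apply, QuotientGroup.mk'_apply,
          (QuotientGroup.eq_one_iff k).2 (Subgroup.mem_subgroupOf.2 hk), map_one]
      · funext z
        obtain ⟨z, rfl⟩ := QuotientGroup.mk_surjective z
        rw [← hlam]
        exact DFunLike.congr_fun h z
    have hfull := exists_full_degree F K hKnormal hG'F q hq hKF hfixν hexν
    have hf1 : F.index ≠ 1 := by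
      rw [Ne, Subgroup.index_eq_one, hF, ← Subgroup.comap_top (QuotientGroup.mk' K)]
      exact fun h => hMtop (Subgroup.comap_injective (QuotientGroup.mk'_surjective K) h)
    have h1F : ¬ q ∣ Cfsg.charDegree (Char.trivialChar F).1 := by
      simp [Cfsg.charDegree, hq.one_lt.ne']
    have hfp : F.index.Prime := by
      have := hprime _ (hfull (Char.trivialChar F) h1F)
      rw [show Cfsg.charDegree (Char.trivialChar F).1 = 1 by simp [Cfsg.charDegree], mul_one] at this
      exact this.resolve_left hf1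
    refine small {1, F.index, q} ⟨Set.toFinite _, ?_⟩ ((Set.ncard_insert_le _ _).trans
      (Nat.add_le_add_right ((Set.ncard_insert_le _ _).trans (by simp)) 1))
    rintro _ ⟨χ, rfl⟩
    obtain ⟨θ, hθ⟩ := Char.exists_constituent F χ
    obtain ⟨h1, h2⟩ := S0887.result F χ.1 χ.2 θ.1 θ.2 hθ _ _ (Char.charDegree_cast χ).symm
      (Char.charDegree_cast θ).symm
    obtain ⟨s, hs⟩ := h1
    rw [hs, Nat.mul_div_cancel_left _ (Char.charDegree_pos θ)] at h2
    by_cases hqθ : q ∣ Cfsg.charDegree θ.1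
    · rcases hprime _ ⟨χ, rfl⟩ with h | h
      · exact Or.inl h
      · exact Or.inr (Or.inr ((Nat.prime_dvd_prime_iff_eq hq h).1 (hs ▸ hqθ.mul_right s)).symm)
    · have hθ1 : Cfsg.charDegree θ.1 = 1 := by
        rcases hprime _ (hfull θ hqθ) with h | h
        · exact Nat.eq_one_of_mul_eq_one_left h
        · by_contra hne
          exact Nat.not_prime_mul hf1 hne h
      rw [hθ1, one_mul] at hs
      rcases (Nat.dvd_prime hfp).1 h2 with h | h
      · exact Or.inl (hs.trans h)
      · exact Or.inr (Or.inl (hs.trans h))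

end Cfsg.Agent.S4813
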