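import Cfsg.Statements.S4814
import Cfsg.Agent.Lib.Char.Orthogonality
import Cfsg.Agent.Lib.CharInt.Basic
import Mathlib.Analysis.Complex.Polynomial.Basic
-- import your own Cfsg.Agent.* helpers here

set_option autoImplicit false
open Cfsg


set_option linter.style.haveILetI false

namespace Cfsg.Agent.S4814

open Representation Module
universe u
variable {G : Type u} [Group G] [Fintype G]

theorem sum_conj_apply {n : ℕ} (ρ : Representation ℂ G (Fin n → ℂ)) (hρ : ρ.IsIrreducible)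
    (x y : G) :
    (n : ℂ) * ∑ b : G, ρ.character (b * x * b⁻¹ * y)
      = (Fintype.card G : ℂ) * ρ.character x * ρ.character y := by
  haveI := hρ
  set T : Module.End ℂ (Fin n → ℂ) := ∑ b : G, ρ (b * x * b⁻¹) with hT
  have hcomm : ∀ g, T ∘ₗ ρ g = ρ g ∘ₗ T := by
    intro g
    change T * ρ g = ρ g * T
    rw [hT, Finset.sum_mul, Finset.mul_sum]
    refine Fintype.sum_equiv (Equiv.mulLeft g⁻¹) _ _ fun b => ?_
    rw [← map_mul, ← map_mul]
    congr 1
    simp [mul_assoc]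
  let F : IntertwiningMap ρ ρ := ⟨T, hcomm⟩
  obtain ⟨c, hc⟩ := (IsIrreducible.algebraMap_intertwiningMap_bijective_of_isAlgClosed (ρ := ρ) (k := ℂ)).2 F
  have hTc : T = c • (1 : Module.End ℂ (Fin n → ℂ)) := by
    have := congrArg IntertwiningMap.toLinearMap hc
    rw [Algebra.algebraMap_eq_smul_one] at this
    rw [← show IntertwiningMap.toLinearMap F = T from rfl, ← this]
    rfl
  have htr : (Fintype.card G : ℂ) * ρ.character x = c * n := by
    have h1 : LinearMap.trace ℂ _ T = ∑ b : G, ρ.character (b * x * b⁻¹) := by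
      simp [hT, map_sum, Representation.character]
    rw [hTc] at h1
    simpa [Representation.char_conj, mul_comm] using h1.symm
  have hs : ∑ b : G, ρ.character (b * x * b⁻¹ * y) = c * ρ.character y := by
    have h1 : LinearMap.trace ℂ _ (T * ρ y) = ∑ b : G, ρ.character (b * x * b⁻¹ * y) := by
      simp [hT, Finset.sum_mul, map_sum, Representation.character]
    rw [← h1, hTc]
    simp [Representation.character]
  rw [hs]
  calc (n : ℂ) * (c * ρ.character y) = (c * n) * ρ.character y := by ring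
    _ = _ := by rw [← htr]



theorem sum_inv_mul {n : ℕ} (ρ : Representation ℂ G (Fin n → ℂ)) (hρ : ρ.IsIrreducible) (y : G) :
    (n : ℂ) * ∑ a : G, ρ.character a⁻¹ * ρ.character (y * a)
      = (Fintype.card G : ℂ) * ρ.character y := by
  haveI := hρ
  haveI : Invertible (Nat.card G : ℂ) := invertibleOfNonzero (Nat.cast_ne_zero.2 Nat.card_pos.ne')
  have hnorm : ∑ a : G, ρ.character a * ρ.character a⁻¹ = (Fintype.card G : ℂ) := by
    have h := Representation.char_orthonormal ρ ρ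
    rw [if_pos ⟨Representation.Equiv.refl ρ⟩, Nat.card_eq_fintype_card] at h
    have hG : (Fintype.card G : ℂ) ≠ 0 := Nat.cast_ne_zero.2 Fintype.card_ne_zero
    field_simp at h
    simpa using h
  set S : ℂ := ∑ a : G, ρ.character a⁻¹ * ρ.character (y * a) with hS
  have key : (Fintype.card G : ℂ) * ((n : ℂ) * S) = (Fintype.card G : ℂ) * ((Fintype.card G : ℂ) * ρ.character y) := by
    have h1 : ∀ b : G, S = ∑ a : G, ρ.character a⁻¹ * ρ.character (b * a * b⁻¹ * y) := by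
      intro b
      rw [hS, ← Equiv.sum_comp (MulAut.conj b).toEquiv]
      refine Finset.sum_congr rfl fun a _ => ?_
      simp only [MulEquiv.toEquiv_eq_coe, MulEquiv.coe_toEquiv, MulAut.conj_apply]
      rw [show (b * a * b⁻¹)⁻¹ = b * a⁻¹ * b⁻¹ by group, Representation.char_conj,
        Representation.char_mul_comm]
    calc (Fintype.card G : ℂ) * ((n : ℂ) * S) = (n : ℂ) * ∑ _b : G, S := by
          rw [Finset.sum_const, Finset.card_univ, nsmul_eq_mul]; ring
      _ = (n : ℂ) * ∑ b : G, ∑ a : G, ρ.character a⁻¹ * ρ.character (b * a * b⁻¹ * y) := by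
          rw [Finset.sum_congr rfl fun b _ => h1 b]
      _ = ∑ a : G, ρ.character a⁻¹ * ((n : ℂ) * ∑ b : G, ρ.character (b * a * b⁻¹ * y)) := by
          rw [Finset.sum_comm]; simp [Finset.mul_sum, mul_left_comm]
      _ = ∑ a : G, (ρ.character a * ρ.character a⁻¹) * ((Fintype.card G : ℂ) * ρ.character y) :=
          Finset.sum_congr rfl fun a _ => by rw [sum_conj_apply ρ hρ]; ring
      _ = _ := by rw [← Finset.sum_mul, hnorm]
  exact mul_left_cancel₀ (Nat.cast_ne_zero.2 Fintype.card_ne_zero) key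

theorem sum_commutator {n : ℕ} (ρ : Representation ℂ G (Fin n → ℂ)) (hρ : ρ.IsIrreducible) (y : G) :
    (n : ℂ) ^ 2 * ∑ p : G × G, ρ.character (p.1 * p.2 * p.1⁻¹ * p.2⁻¹ * y)
      = (Fintype.card G : ℂ) ^ 2 * ρ.character y := by
  rw [Fintype.sum_prod_type, pow_two, pow_two, mul_assoc, Finset.mul_sum]
  have h : ∀ a : G, (n : ℂ) * ∑ b : G, ρ.character (a * b * a⁻¹ * b⁻¹ * y)
      = (Fintype.card G : ℂ) * (ρ.character a⁻¹ * ρ.character (y * a)) := by
    intro a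
    have : ∀ b : G, ρ.character (a * b * a⁻¹ * b⁻¹ * y) = ρ.character (b * a⁻¹ * b⁻¹ * (y * a)) := by
      intro b
      rw [show a * b * a⁻¹ * b⁻¹ * y = a * (b * a⁻¹ * b⁻¹ * y) by group,
        ← Representation.char_mul_comm]
      congr 1; group
    rw [Finset.sum_congr rfl fun b _ => this b, sum_conj_apply ρ hρ, mul_assoc]
  simp only [h]
  rw [← Finset.mul_sum, mul_left_comm, sum_inv_mul ρ hρ, ← mul_assoc]

theorem sum_two_commutators {n : ℕ} (ρ : Representation ℂ G (Fin n → ℂ)) (hρ : ρ.IsIrreducible) (y : G) :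
    (n : ℂ) ^ 4 * ∑ q : (G × G) × (G × G), ρ.character
        ((q.1.1 * q.1.2 * q.1.1⁻¹ * q.1.2⁻¹) * (q.2.1 * q.2.2 * q.2.1⁻¹ * q.2.2⁻¹) * y)
      = (Fintype.card G : ℂ) ^ 4 * ρ.character y := by
  set C : G × G → G := fun p => p.1 * p.2 * p.1⁻¹ * p.2⁻¹ with hC
  have h2 : ∀ z, (n : ℂ) ^ 2 * ∑ p : G × G, ρ.character (C p * z)
      = (Fintype.card G : ℂ) ^ 2 * ρ.character z := sum_commutator ρ hρ
  change (n : ℂ) ^ 4 * ∑ q : (G × G) × (G × G), ρ.character (C q.1 * C q.2 * y) = _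
  rw [Fintype.sum_prod_type, Finset.sum_comm]
  calc (n : ℂ) ^ 4 * ∑ b : G × G, ∑ a : G × G, ρ.character (C a * C b * y)
      = (n : ℂ) ^ 2 * ∑ b : G × G, (n : ℂ) ^ 2 * ∑ a : G × G, ρ.character (C a * (C b * y)) := by
        rw [Finset.mul_sum, Finset.mul_sum]
        exact Finset.sum_congr rfl fun b _ => by rw [← mul_assoc, ← pow_add]; simp [mul_assoc]
    _ = (Fintype.card G : ℂ) ^ 2 * ((n : ℂ) ^ 2 * ∑ b : G × G, ρ.character (C b * y)) := by
        rw [Finset.sum_congr rfl fun b _ => h2 (C b * y), ← Finset.mul_sum]; ring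
    _ = _ := by rw [h2]; ring


/-- Let G be a finite group such that the sum, over the irreducible complex characters χ of G, of 1/χ(1)² is less than 2. Then every element of G is a product of two commutators. -/
theorem result {G : Type*} [Group G] [Finite G]
    (h : ∑ᶠ χ : Cfsg.IrrCharacter G, 1 / ‖(χ : G → ℂ) 1‖ ^ 2 < (2 : ℝ)) (g : G) :
    ∃ a b c d : G, (a * b * a⁻¹ * b⁻¹) * (c * d * c⁻¹ * d⁻¹) = g := by
  classical
  haveI := Fintype.ofFinite G
  by_contra hno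
  push Not at hno
  have hC : ∀ q : (G × G) × (G × G),
      (q.1.1 * q.1.2 * q.1.1⁻¹ * q.1.2⁻¹) * (q.2.1 * q.2.2 * q.2.1⁻¹ * q.2.2⁻¹) * g⁻¹ ≠ 1 :=
    fun q h => hno q.1.1 q.1.2 q.2.1 q.2.2 (mul_inv_eq_one.1 h)
  have key : ∀ χ : Cfsg.IrrCharacter G, χ.1 1 *
      ∑ q : (G × G) × (G × G), χ.1 ((q.1.1 * q.1.2 * q.1.1⁻¹ * q.1.2⁻¹) *
        (q.2.1 * q.2.2 * q.2.1⁻¹ * q.2.2⁻¹) * g⁻¹)
      = (Fintype.card G : ℂ) ^ 4 * (χ.1 g⁻¹ / χ.1 1 ^ 3) := by
    intro χ
    obtain ⟨n, ρ, hρ, hχ⟩ := χ.2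
    have h0 := Char.IsIrrCharacter.apply_one_ne_zero χ.2
    rw [← hχ] at h0 ⊢
    have hn : (n : ℂ) ≠ 0 := by simpa using h0
    have hs := sum_two_commutators ρ hρ g⁻¹
    rw [Representation.char_one, Module.finrank_fin_fun]
    field_simp
    linear_combination hs
  have hz : ∑ χ : Cfsg.IrrCharacter G, χ.1 g⁻¹ / χ.1 1 ^ 3 = 0 := by
    have : (Fintype.card G : ℂ) ^ 4 * ∑ χ : Cfsg.IrrCharacter G, χ.1 g⁻¹ / χ.1 1 ^ 3 = 0 := by
      rw [Finset.mul_sum, ← Finset.sum_congr rfl fun χ _ => key χ]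
      simp only [Finset.mul_sum]
      rw [Finset.sum_comm]
      refine Finset.sum_eq_zero fun q _ => ?_
      rw [Char.sum_irr_degree_mul, if_neg (hC q)]
    exact (mul_eq_zero.1 this).resolve_left (pow_ne_zero _ (Nat.cast_ne_zero.2 Fintype.card_ne_zero))
  set t := Char.trivialChar G with ht
  have hb : ∀ χ : Cfsg.IrrCharacter G,
      ‖χ.1 g⁻¹ / χ.1 1 ^ 3‖ ≤ 1 / ‖χ.1 1‖ ^ 2 := by
    intro χ
    have h0 : 0 < ‖χ.1 1‖ := norm_pos_iff.2 (Char.IsIrrCharacter.apply_one_ne_zero χ.2)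
    rw [norm_div, norm_pow, div_le_div_iff₀ (by positivity) (by positivity), one_mul]
    calc ‖χ.1 g⁻¹‖ * ‖χ.1 1‖ ^ 2 ≤ ‖χ.1 1‖ * ‖χ.1 1‖ ^ 2 :=
          mul_le_mul_of_nonneg_right (CharInt.norm_char_le (Char.irr_isCharacter χ) g⁻¹) (by positivity)
      _ = _ := by ring
  rw [finsum_eq_sum_of_fintype, ← Finset.add_sum_erase _ _ (Finset.mem_univ t)] at h
  rw [← Finset.add_sum_erase _ _ (Finset.mem_univ t)] at hz
  have ht1 : ∀ x : G, t.1 x = 1 := fun x => rfl
  rw [ht1, ht1, one_pow, div_one] at hz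
  have h1 : (1 : ℝ) ≤ ∑ χ ∈ Finset.univ.erase t, 1 / ‖χ.1 1‖ ^ 2 := by
    have e : ‖∑ χ ∈ Finset.univ.erase t, χ.1 g⁻¹ / χ.1 1 ^ 3‖ = 1 := by
      rw [eq_neg_of_add_eq_zero_right hz, norm_neg, norm_one]
    calc (1 : ℝ) = _ := e.symm
      _ ≤ _ := (norm_sum_le _ _).trans (Finset.sum_le_sum fun χ _ => hb χ)
  rw [ht1, norm_one, one_pow, div_one] at h
  linarith

end Cfsg.Agent.S4814
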