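import Cfsg.Statements.S4825
import Cfsg.Agent.Lib.Blocks.Core
import Cfsg.Agent.Lib.Char.Clifford
import Cfsg.Agent.Lib.Char.KernelSum
-- import your own Cfsg.Agent.* helpers here

set_option autoImplicit false
open Cfsg

namespace Cfsg.Agent.S4825

/-- Let p be a prime, G a finite group with Sylow p-subgroup P, M a maximal ideal of the algebraic integers containing p, and B a p-block of G with defect group P. Let N be a normal subgroup of G not containing P and θ an irreducible character of N. Then the number of irreducible characters in B of degree prime to p lying over θ (having θ as a constituent on restriction to N) is either 0 or at least 2, and when p ≤ 3 it is divisible by p. -/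
theorem result {G : Type*} [Group G] [Fintype G] (p : ℕ) [Fact p.Prime] (P : Sylow p G) (M : Ideal Cfsg.AlgInt) (hM : Cfsg.IsPModular p M) (B : Set (Cfsg.IrrCharacter G)) (hB : Cfsg.IsPBlock M B) (hBP : Cfsg.IsDefectGroup p M B P) (N : Subgroup G) [N.Normal] [Fintype N] (hPN : ¬ (P : Subgroup G) ≤ N) (θ : Cfsg.IrrCharacter N) :
    (Nat.card {χ : Cfsg.IrrCharacter G // χ ∈ B ∧ ¬ p ∣ Cfsg.charDegree (χ : G → ℂ) ∧ Cfsg.classInner (fun n : N => (χ : G → ℂ) n) (θ : N → ℂ) ≠ 0} = 0 ∨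
      2 ≤ Nat.card {χ : Cfsg.IrrCharacter G // χ ∈ B ∧ ¬ p ∣ Cfsg.charDegree (χ : G → ℂ) ∧ Cfsg.classInner (fun n : N => (χ : G → ℂ) n) (θ : N → ℂ) ≠ 0}) ∧
    (p ≤ 3 → p ∣ Nat.card {χ : Cfsg.IrrCharacter G // χ ∈ B ∧ ¬ p ∣ Cfsg.charDegree (χ : G → ℂ) ∧ Cfsg.classInner (fun n : N => (χ : G → ℂ) n) (θ : N → ℂ) ≠ 0}) := by
  classical
  obtain ⟨hp, hMmax, hpM⟩ := hM
  haveI := hMmax
  haveI : M.IsPrime := hMmax.isPrime
  choose a ha using fun χ : Cfsg.IrrCharacter G => Char.IsCharacter.exists_nat_classInner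
    (Char.IsCharacter.restrict (Char.irr_isCharacter χ) N) (Char.irr_isCharacter θ)
  have hpN : p ∣ N.index := by
    by_contra h
    refine hPN fun g hg => ?_
    obtain ⟨k, hk⟩ := IsPGroup.iff_orderOf.1 P.isPGroup' ⟨g, hg⟩
    rw [Subgroup.orderOf_mk] at hk
    have h1 : orderOf (g : G ⧸ N) = 1 := by
      refine Nat.eq_one_of_dvd_coprimes (Nat.Coprime.pow_left k
        ((Nat.Prime.coprime_iff_not_dvd hp).2 h)) ?_ ?_
      · rw [← hk]; exact orderOf_map_dvd (QuotientGroup.mk' N) g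
      · rw [Subgroup.index_eq_card]; exact orderOf_dvd_natCard _
    exact (QuotientGroup.eq_one_iff g).1 (orderOf_eq_one_iff.1 h1)
  -- the key congruence
  set T : ℕ := ∑ χ ∈ Finset.univ.filter (· ∈ B), Cfsg.charDegree χ.1 * a χ with hT
  have hTeq : (T : ℂ) = (N.index : ℂ) * ∑ n : N, θ.1 n * Cfsg.blockCoeff B (n : G) := by
    have h1 : (T : ℂ) = ∑ χ ∈ Finset.univ.filter (· ∈ B),
        χ.1 1 * Cfsg.classInner θ.1 (fun n : N => χ.1 n) := by
      rw [hT, Nat.cast_sum]
      refine Finset.sum_congr rfl fun χ _ => ?_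
      rw [Nat.cast_mul, Char.charDegree_cast, ← Char.conj_classInner, ha, map_natCast]
    rw [h1]
    simp only [Blocks.blockCoeff_eq_sum, Cfsg.classInner, Finset.mul_sum]
    rw [Finset.sum_comm]
    refine Finset.sum_congr rfl fun n _ => Finset.sum_congr rfl fun χ _ => ?_
    have hc : (Nat.card G : ℂ) = Nat.card N * N.index := by exact_mod_cast N.card_mul_index.symm
    rw [hc]
    field_simp [Char.card_ne_zero, Nat.cast_ne_zero.2 (Subgroup.index_ne_zero_of_finite (H := N))]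
  have hTp : p ∣ T := by
    rw [← Blocks.memLocalIdeal_natCast_iff (p := p) hpM T, hTeq]
    refine Blocks.MemLocalIdeal.mul_right
      ((Blocks.memLocalIdeal_natCast_iff (p := p) hpM N.index).2 hpN) ?_
    exact Blocks.MemLocalRing.sum _ fun n _ => Blocks.MemLocalRing.mul
      (Blocks.memLocalRing_of_isIntegral (CharInt.isIntegral_char (Char.irr_isCharacter θ) n))
      (Blocks.memLocalRing_blockCoeff hB (n : G))
  set S := Finset.univ.filter fun χ : Cfsg.IrrCharacter G =>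
    χ ∈ B ∧ ¬ p ∣ Cfsg.charDegree χ.1 ∧ Cfsg.classInner (fun n : N => χ.1 n) θ.1 ≠ 0 with hS
  have hcard : Nat.card {χ : Cfsg.IrrCharacter G // χ ∈ B ∧ ¬ p ∣ Cfsg.charDegree χ.1 ∧
      Cfsg.classInner (fun n : N => χ.1 n) θ.1 ≠ 0} = S.card := by
    rw [Nat.card_eq_fintype_card, Fintype.card_subtype]
  rw [hcard]
  rcases Finset.eq_empty_or_nonempty S with hemp | ⟨χ₀, hχ₀⟩
  · simp [hemp]
  set D := (Char.orbitFinset N θ).card * Cfsg.charDegree θ.1 with hD
  have hdeg : ∀ χ : Cfsg.IrrCharacter G, a χ ≠ 0 → Cfsg.charDegree χ.1 = a χ * D := by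
    intro χ h
    have := Char.apply_one_eq_mul_card_orbit N χ θ (by
      show Cfsg.classInner (fun n : N => χ.1 n) θ.1 ≠ 0
      rw [ha]; exact_mod_cast h)
    rw [show Char.resFun N χ.1 = fun n : N => χ.1 n from rfl, ha, ← Char.charDegree_cast χ,
      ← Char.charDegree_cast θ] at this
    rw [hD]
    exact_mod_cast this
  have hmem : ∀ χ ∈ S, χ ∈ B ∧ ¬ p ∣ a χ ∧ ¬ p ∣ D := by
    intro χ hχ
    obtain ⟨hB', hpd, hne⟩ := (Finset.mem_filter.1 hχ).2
    rw [ha, Nat.cast_ne_zero] at hne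
    rw [hdeg χ hne] at hpd
    exact ⟨hB', fun h => hpd (h.mul_right _), fun h => hpd (h.mul_left _)⟩
  have hsq : p ∣ ∑ χ ∈ S, a χ * a χ := by
    have h1 : T = (∑ χ ∈ S, a χ * a χ) * D +
        ∑ χ ∈ (Finset.univ.filter (· ∈ B)).filter (· ∉ S), Cfsg.charDegree χ.1 * a χ := by
      rw [hT, ← Finset.sum_filter_add_sum_filter_not (Finset.univ.filter (· ∈ B)) (· ∈ S)]
      congr 1
      rw [Finset.sum_mul]
      refine Finset.sum_congr ?_ fun χ hχ => ?_
      · ext χ
        simp only [Finset.mem_filter, Finset.mem_univ, true_and]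
        exact ⟨fun h => h.2, fun h => ⟨(hmem χ h).1, h⟩⟩
      · rw [hdeg χ (fun h0 => (hmem χ hχ).2.1 (by simp [h0]))]; ring
    have h2 : p ∣ ∑ χ ∈ (Finset.univ.filter (· ∈ B)).filter (· ∉ S), Cfsg.charDegree χ.1 * a χ := by
      refine Finset.dvd_sum fun χ hχ => ?_
      simp only [Finset.mem_filter, Finset.mem_univ, true_and, hS] at hχ
      by_cases h0 : a χ = 0
      · simp [h0]
      · refine Dvd.dvd.mul_right ?_ _
        by_contra hnd
        exact hχ.2 ⟨hχ.1, hnd, by rw [ha]; exact_mod_cast h0⟩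
    rw [h1, Nat.dvd_add_left h2] at hTp
    exact (hp.dvd_mul.1 hTp).resolve_right (hmem χ₀ hχ₀).2.2
  refine ⟨Or.inr ?_, fun hp3 => ?_⟩
  · by_contra hlt
    have h1 : S.card = 1 := by
      have := Finset.card_pos.2 ⟨χ₀, hχ₀⟩
      omega
    obtain ⟨χ₁, hχ₁⟩ := Finset.card_eq_one.1 h1
    rw [hχ₁, Finset.sum_singleton] at hsq
    exact (hmem χ₁ (by simp [hχ₁])).2.1 ((hp.dvd_mul.1 hsq).elim id id)
  · rw [Finset.card_eq_sum_ones, ← Nat.modEq_zero_iff_dvd]
    refine Nat.ModEq.trans ?_ (Nat.modEq_zero_iff_dvd.2 hsq)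
    refine Nat.ModEq.sum fun χ hχ => ?_
    have hnd := (hmem χ hχ).2.1
    rw [Nat.dvd_iff_mod_eq_zero] at hnd
    show 1 % p = (a χ * a χ) % p
    rw [Nat.mul_mod]
    have hp2 := hp.two_le
    interval_cases p
    · have : a χ % 2 = 1 := by omega
      rw [this]
    · rcases (show a χ % 3 = 1 ∨ a χ % 3 = 2 by omega) with h | h <;> rw [h]

end Cfsg.Agent.S4825
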