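import Cfsg.Statements.S4828
import Cfsg.Agent.Lib.Blocks.CentralDefect
import Cfsg.Agent.Lib.BrauerPairs.LocalFusion
import Cfsg.Agent.S4657

set_option autoImplicit false
set_option maxHeartbeats 200000
open Cfsg Cfsg.Agent Cfsg.Agent.BrauerPairs
open scoped Cfsg.Agent.Blocks Pointwise

set_option autoImplicit false
set_option maxHeartbeats 200000
open Cfsg

namespace Cfsg.Agent.S4828

theorem char_iff_defectIn {G : Type*} [Group G] [Finite G] {p : ℕ} [Fact p.Prime] {M : Ideal AlgInt}
    [M.IsMaximal] [CharP (AlgInt ⧸ M) p] (hpM : (p : AlgInt) ∈ M) {Q : Subgroup G} (hQ : IsPGroup p Q)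
    {e : Set (IrrCharacter (Subgroup.centralizer (Q : Set G)))} (heB : IsPBlock M e) :
    (∃ θ ∈ e, (∀ z : Subgroup.centralizer (Q : Set G), (z : G) ∈ Q → θ.1 z = θ.1 1) ∧
      (Cfsg.charDegree θ.1).factorization p +
        (Nat.card ↥(Q ⊓ Subgroup.centralizer (Q : Set G))).factorization p =
        (Nat.card (Subgroup.centralizer (Q : Set G))).factorization p) ↔
    DefectIn p (Subgroup.centralizer (Q : Set G)) (blk M (Subgroup.centralizer (Q : Set G)) e)
      (Q ⊓ Subgroup.centralizer (Q : Set G)) := by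
  set C := Subgroup.centralizer (Q : Set G) with hC
  set Z := Q ⊓ C with hZdef
  rw [← isDefectGroup_subgroupOf_iff heB inf_le_right,
    Blocks.isDefectGroup_central_iff (Z.subgroupOf C) hpM heB ?_ ?_]
  · refine exists_congr fun θ => and_congr_right fun _ => and_congr ?_ ?_
    · exact ⟨fun h z hz => h z (Subgroup.mem_inf.1 (Subgroup.mem_subgroupOf.1 hz)).1,
        fun h z hz => h z (Subgroup.mem_subgroupOf.2 (Subgroup.mem_inf.2 ⟨hz, z.2⟩))⟩
    · rw [Blocks.charDegree_eq, Nat.card_congr (Subgroup.subgroupOfEquivOfLe (inf_le_right : Z ≤ C)).toEquiv]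
  · intro z hz
    refine Subgroup.mem_center_iff.2 fun c => Subtype.ext ?_
    exact (Subgroup.mem_centralizer_iff.1 c.2 _ (Subgroup.mem_inf.1 (Subgroup.mem_subgroupOf.1 hz)).1).symm
  · exact (hQ.to_le inf_le_left).of_equiv (Subgroup.subgroupOfEquivOfLe (inf_le_right : Z ≤ C)).symm

/-- Let p be a prime, M a maximal ideal of the algebraic integers containing p, and (Q, e) a Brauer pair of the finite group G (Q a p-subgroup, e a block of C_G(Q)). Then (Q, e) is a maximal Brauer pair of some block of G if and only if e contains an irreducible character θ such that θ takes the value θ(1) at every element of Z(Q) = Q ∩ C_G(Q), the p-part of θ(1) times the p-part of the order of Z(Q) equals the p-part of the order of C_G(Q) (θ has defect zero as a character of C_G(Q)/Z(Q)), and every element of N_G(Q) of p-power order that stabilizes e lies in Q·C_G(Q) (the stabilizer of e in N_G(Q) has index prime to p over Q·C_G(Q)). -/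
theorem result {G : Type*} [Group G] [Finite G] (p : ℕ) [Fact p.Prime] (M : Ideal Cfsg.AlgInt) (hM : Cfsg.IsPModular p M) (Q : Subgroup G) (e : Set (Cfsg.IrrCharacter (Subgroup.centralizer (Q : Set G)))) (he : Cfsg.IsBrauerPair p M Q e) :
    (∃ B : Set (Cfsg.IrrCharacter G), Cfsg.IsMaximalBrauerPair p M B Q e) ↔
      ∃ θ ∈ e, (∀ z : Subgroup.centralizer (Q : Set G), (z : G) ∈ Q → (θ : Subgroup.centralizer (Q : Set G) → ℂ) z = (θ : Subgroup.centralizer (Q : Set G) → ℂ) 1) ∧
        (Cfsg.charDegree (θ : Subgroup.centralizer (Q : Set G) → ℂ)).factorization p + (Nat.card ↥(Q ⊓ Subgroup.centralizer (Q : Set G))).factorization p = (Nat.card (Subgroup.centralizer (Q : Set G))).factorization p ∧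
        (∀ g : G, g ∈ Subgroup.normalizer (Q : Set G) → Cfsg.StabilizesBlock (Subgroup.centralizer (Q : Set G)) e g → (∃ k : ℕ, orderOf g = p ^ k) → g ∈ Q ⊔ Subgroup.centralizer (Q : Set G)) := by
  classical
  have hMmax : M.IsMaximal := hM.2.1
  have hpM := hM.2.2
  have : CharP (AlgInt ⧸ M) p := Blocks.charP_residue hpM
  haveI := Fintype.ofFinite G
  have hblk : ∀ H : Subgroup G, HasBlocks (AlgInt ⧸ M) H := fun H => hasBlocks M H
  have hQ : IsPGroup p Q := he.1
  have heB : IsPBlock M e := he.2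
  have hpair : IsPair p (Q, (blk M (Subgroup.centralizer (Q : Set G)) e)) := ⟨hQ, isBlockIdem_blk (Subgroup.centralizer (Q : Set G)) heB⟩
  have hQN : Q ≤ Subgroup.normalizer ((Subgroup.centralizer (Q : Set G)) : Set G) :=
    Subgroup.le_normalizer.trans (normalizer_le_normalizer_centralizer Q)
  have hchar := char_iff_defectIn hpM hQ heB
  constructor
  · rintro ⟨B, hB⟩
    have hBb : IsPBlock M B := hB.1.2.1
    have hBi := isBlockIdem_blkG hBb
    obtain ⟨-, ha⟩ := (isMaximalBrauerPair_iff hBb).1 hB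
    have hle : PLE p (Q, (blk M (Subgroup.centralizer (Q : Set G)) e)) (Q, (blk M (Subgroup.centralizer (Q : Set G)) e)) := Relation.ReflTransGen.refl
    have hcent : DefectIn p (Subgroup.centralizer (Q : Set G)) (blk M (Subgroup.centralizer (Q : Set G)) e) (Q ⊓ (Subgroup.centralizer (Q : Set G))) := by
      refine (forall_centric_iff hblk hBi ha hle).1 fun g hg => ?_
      have h1 := hg.map_le
      have h2 : Q.map (MulAut.conj g).toMonoidHom = Q :=
        Subgroup.eq_of_le_of_card_ge h1 (card_map_conj g Q).ge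
      rw [h2]; exact inf_le_left
    obtain ⟨θ, hθ, hθ1, hθ2⟩ := hchar.2 hcent
    refine ⟨θ, hθ, hθ1, hθ2, fun g hgN hst hord => ?_⟩
    obtain ⟨x, hx, hD⟩ := exists_conj_defectIn_stabOf hblk hBi ha hle
    have hxQ : Q.map (MulAut.conj x).toMonoidHom = Q :=
      Subgroup.eq_of_le_of_card_ge hx.le (card_map_conj x Q).ge
    have hxE : conjEl x (blk M (Subgroup.centralizer (Q : Set G)) e) = (blk M (Subgroup.centralizer (Q : Set G)) e) := congrArg Prod.snd (hx.eq_of_fst_eq hxQ)
    rw [hxQ, hxE] at hD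
    have hndvd := not_dvd_index_stabOf hblk hpair hle hD
    rw [inf_eq_left.2 (Subgroup.le_normalizer : Q ≤ Subgroup.normalizer (Q : Set G))] at hndvd
    have hgT : g ∈ stabOf Q (blk M (Subgroup.centralizer (Q : Set G)) e) :=
      ⟨hgN, (stabilizesBlock_iff heB (normalizer_le_normalizer_centralizer Q hgN)).1 hst⟩
    set H := (Q ⊔ (Subgroup.centralizer (Q : Set G))).subgroupOf (stabOf Q (blk M (Subgroup.centralizer (Q : Set G)) e)) with hH
    have hnorm : stabOf Q (blk M (Subgroup.centralizer (Q : Set G)) e) ≤ Subgroup.normalizer ((Q ⊔ (Subgroup.centralizer (Q : Set G)) : Subgroup G) : Set G) := by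
      intro u hu
      have h1 : (Q ⊔ (Subgroup.centralizer (Q : Set G))).map (MulAut.conj u).toMonoidHom = Q ⊔ (Subgroup.centralizer (Q : Set G)) := by
        rw [Subgroup.map_sup, map_conj_eq_of_mem_normalizer hu.1,
          map_conj_eq_of_mem_normalizer (normalizer_le_normalizer_centralizer Q hu.1)]
      rw [Subgroup.mem_normalizer_iff]
      intro y
      constructor
      · intro hy
        rw [← h1]; exact ⟨y, hy, rfl⟩
      · intro hy
        rw [← h1] at hy
        obtain ⟨z, hz, hzy⟩ := hy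
        have : z = y := mul_left_cancel (mul_right_cancel hzy)
        rwa [← this]
    haveI hHn : H.Normal := Subgroup.normal_subgroupOf_of_le_normalizer hnorm
    have h1 : ((⟨g, hgT⟩ : stabOf Q (blk M (Subgroup.centralizer (Q : Set G)) e)) : stabOf Q (blk M (Subgroup.centralizer (Q : Set G)) e) ⧸ H) = 1 := by
      obtain ⟨k, hk⟩ := hord
      rw [← orderOf_eq_one_iff]
      refine Nat.eq_one_of_dvd_coprimes ?_ (orderOf_map_dvd (QuotientGroup.mk' H) _) (orderOf_dvd_natCard _)
      rw [Subgroup.orderOf_mk, hk, ← Subgroup.index_eq_card]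
      exact Nat.Coprime.pow_left _ ((Nat.Prime.coprime_iff_not_dvd Fact.out).2 hndvd)
    exact Subgroup.mem_subgroupOf.1 ((QuotientGroup.eq_one_iff _).1 h1)
  · rintro ⟨θ, hθ, hθ1, hθ2, hstab⟩
    obtain ⟨B, hB, -⟩ := S4657.result p M hM Q e he
    refine ⟨B, (isMaximalBrauerPair_iff hB.2.1).2 ⟨heB, ((isBrauerPairOf_iff hB.2.1).1 hB).2, ?_⟩⟩
    rintro ⟨R, r⟩ hstep
    have hD := hchar.1 ⟨θ, hθ, hθ1, hθ2⟩
    obtain ⟨-, ⟨hR, -⟩, hQR, hRN, hfix, -⟩ := id hstep
    have hRQC : ∀ u ∈ R, u ∈ ((Q : Set G) * ((Subgroup.centralizer (Q : Set G)) : Set G)) := by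
      intro u hu
      rw [← Subgroup.coe_mul_of_left_le_normalizer_right Q (Subgroup.centralizer (Q : Set G)) hQN]
      refine hstab u (hRN hu) ((stabilizesBlock_iff heB
        (normalizer_le_normalizer_centralizer Q (hRN hu))).2 (hfix u hu)) ?_
      obtain ⟨k, hk⟩ := IsPGroup.iff_orderOf.1 hR ⟨u, hu⟩
      exact ⟨k, by rw [← hk, Subgroup.orderOf_mk]⟩
    have hZR : (Q ⊓ (Subgroup.centralizer (Q : Set G))) ≤ R ⊓ (Subgroup.centralizer (Q : Set G)) := le_inf (inf_le_left.trans hQR) inf_le_right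
    have heq : (Q ⊓ (Subgroup.centralizer (Q : Set G))) = R ⊓ (Subgroup.centralizer (Q : Set G)) := Subgroup.eq_of_le_of_card_ge hZR (hD.card_le (hR.to_le inf_le_left)
      inf_le_right (br_ne_zero_mono inf_le_left hstep.br_ne_zero))
    refine le_antisymm (fun u hu => ?_) hQR
    obtain ⟨q, hq, c, hc, rfl⟩ := hRQC u hu
    have hcR : c ∈ R ⊓ (Subgroup.centralizer (Q : Set G)) := Subgroup.mem_inf.2 ⟨(Subgroup.mul_mem_cancel_left R (hQR hq)).1 hu, hc⟩
    rw [← heq] at hcR
    exact Q.mul_mem hq (Subgroup.mem_inf.1 hcR).1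

end Cfsg.Agent.S4828
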