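import Cfsg.Statements.S4838
import Cfsg.Agent.Lib.Gagola.Sylow
import Mathlib.GroupTheory.Nilpotent
-- import your own Cfsg.Agent.* helpers here

set_option autoImplicit false
open Cfsg

namespace Cfsg.Agent.S4838

open scoped commutatorElement

theorem card_cent_quot {G : Type*} [Group G] [Finite G] (χ : Cfsg.IrrCharacter G) (hG : 2 < Nat.card G)
    (hχ : Gagola.TwoClasses χ) (N : Subgroup G) [N.Normal]
    (hN : ∀ g : G, g ∈ N ↔ (χ : G → ℂ) g ≠ 0) (x : G) (hx : x ∉ N) :
    Nat.card (Subgroup.centralizer ({x} : Set G)) =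
      Nat.card (Subgroup.centralizer ({(x : G ⧸ N)} : Set (G ⧸ N))) := by
  classical
  haveI := Fintype.ofFinite G
  haveI := Fintype.ofFinite N
  have hsupp := Gagola.eq_supp hG hχ hN
  have hx0 : (χ : G → ℂ) x = 0 := by_contra fun h => hx ((hN x).2 h)
  have hall : ∑ ψ ∈ Finset.univ.filter (fun ψ : Cfsg.IrrCharacter G => Char.TrivOn N ψ.1),
      ψ.1 x * starRingEnd ℂ (ψ.1 x) = (Nat.card (Subgroup.centralizer ({x} : Set G)) : ℂ) := by
    have h := Char.sum_irr_mul_conj x x
    rw [if_pos (IsConj.refl x)] at h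
    rw [← h]
    refine Finset.sum_subset (Finset.filter_subset _ _) fun ψ _ hψ => ?_
    have : ψ = χ := by
      by_contra hne
      exact hψ (Finset.mem_filter.2 ⟨Finset.mem_univ _, fun k hk =>
        Gagola.mem_supp_iff.1 (hsupp ▸ hk) ψ hne⟩)
    rw [this, hx0, zero_mul]
  have h1 := Char.sum_trivOn_mul_conj N x x
  rw [hall] at h1
  have hk : Nat.card {k : N // IsConj (x * k) x} = Nat.card N := by
    have hne : (Nat.card (Subgroup.centralizer ({x} : Set G)) : ℂ) ≠ 0 :=
      Nat.cast_ne_zero.2 Nat.card_pos.ne'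
    rw [mul_comm] at h1
    exact_mod_cast (mul_left_cancel₀ hne h1).symm
  have hconj : ∀ k : N, IsConj (x * k) x := by
    intro k
    rw [Nat.card_eq_fintype_card, Nat.card_eq_fintype_card, Fintype.card_subtype,
      ← Finset.card_univ, Finset.card_filter_eq_iff] at hk
    exact hk k (Finset.mem_univ _)
  have hclass : ∀ y : G, IsConj x y ↔ IsConj (x : G ⧸ N) (y : G ⧸ N) := by
    refine fun y => ⟨fun h => MonoidHom.map_isConj (QuotientGroup.mk' N) h, fun h => ?_⟩
    obtain ⟨c, hc⟩ := isConj_iff.1 h
    obtain ⟨c, rfl⟩ := QuotientGroup.mk_surjective c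
    rw [← QuotientGroup.mk_inv, ← QuotientGroup.mk_mul, ← QuotientGroup.mk_mul,
      QuotientGroup.eq] at hc
    have hk' := hconj ⟨c⁻¹ * ((c * x * c⁻¹)⁻¹ * y) * c, by
      simpa using ‹N.Normal›.conj_mem _ hc c⁻¹⟩
    refine hk'.symm.trans (isConj_iff.2 ⟨c, ?_⟩)
    group
  haveI := Fintype.ofFinite (G ⧸ N)
  have hm : Nat.card {y : G // IsConj x y} =
      Nat.card N * Nat.card {q : G ⧸ N // IsConj (x : G ⧸ N) q} := by
    rw [Nat.card_congr (Equiv.subtypeEquivRight hclass)]
    refine (Nat.card_congr (QuotientGroup.preimageMkEquivSubgroupProdSet N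
      {q : G ⧸ N | IsConj (x : G ⧸ N) q})).trans ?_
    rw [Nat.card_prod]
    rfl
  refine Nat.eq_of_mul_eq_mul_right (m := Nat.card {y : G // IsConj x y}) ?_ ?_
  · exact Nat.card_pos_iff.2 ⟨⟨⟨x, IsConj.refl x⟩⟩, inferInstance⟩
  · rw [Char.card_centralizer_mul_card_conj, hm, ← mul_assoc, mul_right_comm,
      Char.card_centralizer_mul_card_conj, Subgroup.card_eq_card_quotient_mul_card_subgroup N]

/-- Let G be a finite group of order greater than 2 with an irreducible character χ nonzero on exactly two conjugacy classes, N the normal p-subgroup of elements where χ is nonzero, and P a Sylow p-subgroup of G. Then (a) for every x outside N the centralizer of x in G has the same order as the centralizer of xN in G/N; (b) the centre of P lies in N, and equals N exactly when P is normal in G; (c) N, viewed inside P, is a term of the upper central series of P. -/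
theorem result {G : Type*} [Group G] [Finite G] (hG : 2 < Nat.card G) (χ : Cfsg.IrrCharacter G) (hχ : Nat.card {C : ConjClasses G // ∃ g ∈ C.carrier, (χ : G → ℂ) g ≠ 0} = 2) (p : ℕ) [Fact p.Prime] (N : Subgroup G) [N.Normal] (hN : ∀ g : G, g ∈ N ↔ (χ : G → ℂ) g ≠ 0) (hNp : IsPGroup p N) (hN1 : N ≠ ⊥) (P : Sylow p G) :
    (∀ x : G, x ∉ N → Nat.card (Subgroup.centralizer ({x} : Set G)) = Nat.card (Subgroup.centralizer ({(x : G ⧸ N)} : Set (G ⧸ N)))) ∧
      ((Subgroup.center ↥(P : Subgroup G)).map (P : Subgroup G).subtype ≤ N ∧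
        ((Subgroup.center ↥(P : Subgroup G)).map (P : Subgroup G).subtype = N ↔ (P : Subgroup G).Normal)) ∧
      (∃ i : ℕ, Subgroup.upperCentralSeries ↥(P : Subgroup G) i = N.subgroupOf (P : Subgroup G)) := by
  classical
  haveI := Fintype.ofFinite G
  have hcent := card_cent_quot χ hG hχ N hN
  -- a `p`-subgroup commuting with an element outside `N`
  have hbound : ∀ z : G, z ∉ N → ∀ H : Subgroup G, IsPGroup p H →
      H ≤ Subgroup.centralizer ({z} : Set G) → Nat.card H * Nat.card N ∣ Nat.card (P : Subgroup G) := by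
    intro z hz H hH hle
    have h1 : Nat.card H ∣ Nat.card (G ⧸ N) :=
      ((Subgroup.card_dvd_of_le hle).trans (hcent z hz).dvd).trans (Subgroup.card_subgroup_dvd_card _)
    have h2 : Nat.card H * Nat.card N ∣ Nat.card G := by
      rw [Subgroup.card_eq_card_quotient_mul_card_subgroup N]
      exact Nat.mul_dvd_mul h1 dvd_rfl
    obtain ⟨i, hi⟩ := IsPGroup.iff_card.1 hH
    obtain ⟨j, hj⟩ := IsPGroup.iff_card.1 hNp
    rw [hi, hj, ← pow_add] at h2 ⊢
    exact P.pow_dvd_card_of_pow_dvd_card h2
  have hPpos : 0 < Nat.card (P : Subgroup G) := Nat.card_pos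
  have hN2 : 1 < Nat.card N :=
    lt_of_le_of_ne Nat.card_pos fun h => hN1 (N.eq_bot_of_card_eq h.symm)
  refine ⟨hcent, ⟨?_, ?_, ?_⟩, ?_⟩
  · rintro z ⟨⟨z, hzP⟩, hzc, rfl⟩
    by_contra hz
    have hle : (P : Subgroup G) ≤ Subgroup.centralizer ({z} : Set G) := fun g hg => by
      rw [Subgroup.mem_centralizer_singleton_iff]
      exact congrArg Subtype.val (Subgroup.mem_center_iff.1 hzc ⟨g, hg⟩)
    have := Nat.le_of_dvd hPpos (hbound z hz _ P.isPGroup' hle)
    have := (Nat.mul_lt_mul_left hPpos).2 hN2
    omega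
  · intro heq
    have hPeq : ∀ y ∈ N, y ≠ 1 → (P : Subgroup G) = Subgroup.centralizer ({y} : Set G) := by
      intro y hy hy1
      obtain ⟨Q, hQ⟩ := Gagola.centralizer_isSylow hG hχ N hN hNp hN1 hy hy1
      rw [hQ]
      refine (P.is_maximal' Q.isPGroup' ?_).symm
      intro g hg
      rw [← hQ, Subgroup.mem_centralizer_singleton_iff]
      rw [← heq] at hy
      obtain ⟨⟨y', hy'⟩, hyc, rfl⟩ := hy
      exact congrArg Subtype.val (Subgroup.mem_center_iff.1 hyc ⟨g, hg⟩)
    obtain ⟨x, hx, hx1⟩ : ∃ x ∈ N, x ≠ (1 : G) := by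
      by_contra h'
      push Not at h'
      exact hN1 (eq_bot_iff.2 fun x hx => Subgroup.mem_bot.2 (h' x hx))
    refine ⟨fun g hg c => ?_⟩
    have hy : c⁻¹ * x * c ∈ N := by simpa using ‹N.Normal›.conj_mem x hx c⁻¹
    have hy1 : c⁻¹ * x * c ≠ 1 := fun h => hx1 (by
      have := congrArg (fun t => c * t * c⁻¹) h
      simpa [mul_assoc] using this)
    rw [hPeq _ hy hy1, Subgroup.mem_centralizer_singleton_iff] at hg
    rw [hPeq x hx hx1, Subgroup.mem_centralizer_singleton_iff]
    have := congrArg (fun t => c * t * c⁻¹) hg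
    simpa [mul_assoc] using this
  · intro hPn
    have hPle : (Subgroup.center ↥(P : Subgroup G)).map (P : Subgroup G).subtype ≤ N := by
      rintro z ⟨⟨z, hzP⟩, hzc, rfl⟩
      by_contra hz
      have hle : (P : Subgroup G) ≤ Subgroup.centralizer ({z} : Set G) := fun g hg => by
        rw [Subgroup.mem_centralizer_singleton_iff]
        exact congrArg Subtype.val (Subgroup.mem_center_iff.1 hzc ⟨g, hg⟩)
      have := Nat.le_of_dvd hPpos (hbound z hz _ P.isPGroup' hle)
      have := (Nat.mul_lt_mul_left hPpos).2 hN2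
      omega
    refine le_antisymm hPle fun y hy => ?_
    have hNP : N ≤ (P : Subgroup G) := by
      haveI : Subsingleton (Sylow p G) := by
        haveI := hPn
        haveI := Sylow.unique_of_normal P hPn
        infer_instance
      obtain ⟨Q, hQ⟩ := hNp.exists_le_sylow
      rwa [Subsingleton.elim Q P] at hQ
    refine ⟨⟨y, hNP hy⟩, Subgroup.mem_center_iff.2 fun g => Subtype.ext ?_, rfl⟩
    rcases eq_or_ne y 1 with rfl | hy1
    · simp
    obtain ⟨Q, hQ⟩ := Gagola.centralizer_isSylow hG hχ N hN hNp hN1 hy hy1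
    haveI := Sylow.unique_of_normal P hPn
    rw [Subsingleton.elim Q P] at hQ
    exact Subgroup.mem_centralizer_singleton_iff.1
      (show (g : G) ∈ Subgroup.centralizer ({y} : Set G) by rw [hQ]; exact g.2)
  · set S := N.subgroupOf (P : Subgroup G) with hS
    have hdich : ∀ j, Subgroup.upperCentralSeries ↥(P : Subgroup G) j ≤ S ∨
        ∃ i, Subgroup.upperCentralSeries ↥(P : Subgroup G) i = S := by
      intro j
      induction j with
      | zero => exact Or.inl (by rw [Subgroup.upperCentralSeries_zero]; exact bot_le)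
      | succ j ih =>
        rcases ih with ih | ih
        swap
        · exact Or.inr ih
        rcases eq_or_lt_of_le ih with he | hlt
        · exact Or.inr ⟨j, he⟩
        refine Or.inl fun z hz => ?_
        by_contra hzS
        have hz' : (z : G) ∉ N := hzS
        set Z := Subgroup.upperCentralSeries ↥(P : Subgroup G) j with hZ
        have hcls : Nat.card {w : ↥(P : Subgroup G) // IsConj z w} ≤ Nat.card Z :=
          Nat.card_le_card_of_injective (fun w => (⟨z * w.1⁻¹, by
            obtain ⟨c, hc⟩ := isConj_iff.1 w.2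
            have h := Subgroup.mem_upperCentralSeries_succ_iff.1 hz c
            rw [commutatorElement_def] at h
            rw [← hc]
            simpa [mul_assoc] using h⟩ : Z))
            (fun w w' h => Subtype.ext (inv_injective (mul_left_cancel (congrArg Subtype.val h))))
        have hCp : IsPGroup p ((Subgroup.centralizer ({z} : Set ↥(P : Subgroup G))).map
            (P : Subgroup G).subtype) :=
          (P.isPGroup'.to_subgroup _).map _
        have hd := hbound z hz' _ hCp (by
          rintro g ⟨g', hg', rfl⟩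
          rw [Subgroup.mem_centralizer_singleton_iff]
          exact congrArg Subtype.val (Subgroup.mem_centralizer_singleton_iff.1 hg'))
        rw [Subgroup.card_map_of_injective (P : Subgroup G).subtype_injective] at hd
        rw [← Char.card_centralizer_mul_card_conj z] at hd
        have hdd := Nat.dvd_of_mul_dvd_mul_left Nat.card_pos hd
        have hpos : 0 < Nat.card {w : ↥(P : Subgroup G) // IsConj z w} :=
          Nat.card_pos_iff.2 ⟨⟨⟨z, IsConj.refl z⟩⟩, inferInstance⟩
        have h1 := Nat.le_of_dvd hpos hdd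
        have h2 : Nat.card Z < Nat.card S := by
          rw [← SetLike.coe_ssubset_coe] at hlt
          exact Set.ncard_lt_ncard hlt (Set.toFinite _)
        have h3 : Nat.card S ≤ Nat.card N :=
          Nat.card_le_card_of_injective (fun s => (⟨(s.1 : G), s.2⟩ : N))
            (fun s t h => Subtype.ext (Subtype.ext (congrArg (fun u : N => (u : G)) h)))
        omega
    obtain ⟨n, hn⟩ : ∃ n, Subgroup.upperCentralSeries ↥(P : Subgroup G) n = ⊤ :=
      (IsPGroup.isNilpotent P.isPGroup').nilpotent'
    rcases hdich n with h | h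
    · exact ⟨n, le_antisymm h (hn ▸ le_top)⟩
    · exact h

end Cfsg.Agent.S4838
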