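import Cfsg.Statements.S4840
import Cfsg.Agent.Lib.Gagola.Sylow
import Cfsg.Agent.Lib.Gagola.SolvableQuotient
import Cfsg.Agent.Lib.LocalStructure.Basic

set_option autoImplicit false
open Cfsg

namespace Cfsg.Agent.S4840

open scoped commutatorElement

/-- A normal `p'`-subgroup with abelian `p`-group factor gives the conclusion. -/
theorem of_goodQuotient {H : Type*} [Group H] [Finite H] {p : ℕ} [hp : Fact p.Prime]
    (h : Gagola.GoodQuotient p H) :
    Cfsg.HasNormalPComplement p H ∧ ∀ Q : Sylow p H, IsMulCommutative (Q : Subgroup H) := by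
  obtain ⟨K, hKn, hKp, hcomm, hpow⟩ := h
  haveI := hKn
  have hdisj : ∀ (Q : Sylow p H) (x : H), x ∈ K → x ∈ (Q : Subgroup H) → x = 1 := by
    intro Q x hxK hxQ
    obtain ⟨k, hk⟩ := Q.isPGroup' ⟨x, hxQ⟩
    have h1 : x ^ p ^ k = 1 := congrArg Subtype.val hk
    have h2 := (Gagola.coprime_orderOf_of_mem (p := p) hKp hxK).pow_right k
    exact orderOf_eq_one_iff.1 (Nat.Coprime.eq_one_of_dvd h2 (orderOf_dvd_of_pow_eq_one h1))
  refine ⟨?_, fun Q => ⟨⟨fun a b => Subtype.ext ?_⟩⟩⟩
  · obtain ⟨P⟩ := (inferInstance : Nonempty (Sylow p H))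
    refine ⟨P, K, hKn, ?_⟩
    have hq : IsPGroup p (H ⧸ K) := fun a => by
      obtain ⟨x, rfl⟩ := QuotientGroup.mk_surjective a
      obtain ⟨i, hi⟩ := hpow x
      exact ⟨i, by rw [← QuotientGroup.mk_pow, QuotientGroup.eq_one_iff]; exact hi⟩
    obtain ⟨n, hn⟩ := IsPGroup.iff_card.1 hq
    obtain ⟨m, hm⟩ := IsPGroup.iff_card.1 P.isPGroup'
    refine Subgroup.isComplement'_of_card_mul_and_disjoint (le_antisymm ?_ ?_) ?_
    · exact Nat.le_of_dvd Nat.card_pos (Nat.Coprime.mul_dvd_of_dvd_of_dvd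
        (by rw [hm]; exact ((hp.out.coprime_iff_not_dvd.2 hKp).pow_left m).symm)
        (Subgroup.card_subgroup_dvd_card _) (Subgroup.card_subgroup_dvd_card _))
    · rw [← Subgroup.card_mul_index K]
      refine Nat.mul_le_mul_left _ (Nat.le_of_dvd Nat.card_pos ?_)
      rw [Subgroup.index_eq_card, hn, P.card_eq_multiplicity]
      refine pow_dvd_pow p ((hp.out.pow_dvd_iff_le_factorization Nat.card_pos.ne').1 ?_)
      rw [← hn, ← Subgroup.index_eq_card]
      exact Subgroup.index_dvd_card K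
    · exact Subgroup.disjoint_def.2 fun {x} h1 h2 => hdisj P x h1 h2
  · exact commutatorElement_eq_one_iff_mul_comm.1
      (hdisj Q ⁅(a : H), (b : H)⁆ (hcomm _ _) (by
        rw [commutatorElement_def]
        exact mul_mem (mul_mem (mul_mem a.2 b.2) (inv_mem a.2)) (inv_mem b.2)))

/-- Let G be a finite solvable group of order greater than 2 with an irreducible character nonzero on exactly two conjugacy classes. Then there is exactly one prime p with O_p(G) ≠ 1, and the quotient G/O_p(G) has a normal p-complement and commutative Sylow p-subgroups. -/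
theorem result {G : Type*} [Group G] [Finite G] [hs : Group.IsSolvable G] (hG : 2 < Nat.card G) (χ : Cfsg.IrrCharacter G) (hχ : Nat.card {C : ConjClasses G // ∃ g ∈ C.carrier, (χ : G → ℂ) g ≠ 0} = 2) :
    ∃ p : ℕ, p.Prime ∧ (∀ q : ℕ, q.Prime → (Cfsg.pCore q G ≠ ⊥ ↔ q = p)) ∧
      Cfsg.HasNormalPComplement p (G ⧸ Cfsg.pCore p G) ∧ ∀ Q : Sylow p (G ⧸ Cfsg.pCore p G), IsMulCommutative (Q : Subgroup (G ⧸ Cfsg.pCore p G)) := by
  classical
  haveI := Fintype.ofFinite G
  obtain ⟨p, hp, hE⟩ := Gagola.exists_prime_supp hG hχ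
  haveI := Fact.mk hp
  set N := Gagola.supp χ
  haveI := Gagola.supp_normal χ
  have hN : ∀ g : G, g ∈ N ↔ (χ : G → ℂ) g ≠ 0 := fun g => Gagola.mem_supp hG hχ g
  have hN1 := Gagola.supp_ne_bot hG hχ
  have hNp : IsPGroup p N := fun x => ⟨1, Subtype.ext (by simpa using hE.2 x x.2)⟩
  have hle : N ≤ Cfsg.pCore p G := LocalStructure.le_pCore (Gagola.supp_normal χ) hNp
  refine ⟨p, hp, fun q hq => ⟨fun hne => ?_, fun e => ?_⟩, ?_⟩
  · by_contra hqp
    haveI := Fact.mk hq
    obtain ⟨x, hx, hx1⟩ := (Subgroup.bot_or_exists_ne_one N).resolve_left hN1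
    haveI := LocalStructure.pCore_normal q G
    have h1 : N ≤ Cfsg.pCore q G := Gagola.supp_le_of_normal hG hχ _ hne
    obtain ⟨k, hk⟩ := (LocalStructure.isPGroup_pCore q) ⟨x, h1 hx⟩
    have h2 : orderOf x ∣ q ^ k := orderOf_dvd_of_pow_eq_one (congrArg Subtype.val hk)
    rw [orderOf_eq_prime (hE.2 x hx) hx1] at h2
    exact hqp ((Nat.prime_dvd_prime_iff_eq hp hq).1 (hp.dvd_of_dvd_pow h2)).symm
  · subst e
    exact fun h => hN1 (le_bot_iff.1 (h ▸ hle))
  -- the action on `N`
  letI : CommGroup N :=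
    { (inferInstance : Group N) with mul_comm := fun a b => hE.1.1.1 a b }
  let φ : G →* MulAut N := MulAut.conjNormal
  let ψ : φ.range →* MulAut N := φ.range.subtype
  haveI : Group.IsSolvable φ.range := solvable_of_surjective φ.rangeRestrict_surjective
  have hcent : ∀ x ∈ N, x ≠ 1 → IsPGroup p (Subgroup.centralizer ({x} : Set G)) := by
    intro x hx hx1
    obtain ⟨P, hP⟩ := Gagola.centralizer_isSylow hG hχ N hN hNp hN1 hx hx1
    rw [hP]
    exact P.isPGroup'
  have hps : Gagola.PStab p ψ := by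
    refine ⟨φ.range.subtype_injective, fun v => Subtype.ext (by simpa using hE.2 v v.2),
      (Subgroup.nontrivial_iff_ne_bot N).2 hN1, fun v w hv hw => ?_, fun γ hγ v hv hfix => ?_⟩
    · obtain ⟨c, hc⟩ := isConj_iff.1 (Gagola.isConj_of_mem_supp hG hχ v.2 w.2
        (fun e => hv (Subtype.ext e)) (fun e => hw (Subtype.ext e)))
      exact ⟨⟨φ c, c, rfl⟩, Subtype.ext hc⟩
    · obtain ⟨_, g, rfl⟩ := γ
      have hgv : g * v * g⁻¹ = (v : G) := congrArg Subtype.val hfix
      obtain ⟨k, hk⟩ := hcent (v : G) v.2 (fun e => hv (Subtype.ext e))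
        ⟨g, Subgroup.mem_centralizer_iff.2 fun y hy => by
          rw [Set.mem_singleton_iff.1 hy]; exact (mul_inv_eq_iff_eq_mul.1 hgv).symm⟩
      refine orderOf_eq_one_iff.1 (Nat.Coprime.eq_one_of_dvd (hγ.pow_right k)
        (orderOf_dvd_of_pow_eq_one (Subtype.ext ?_)))
      show φ g ^ p ^ k = 1
      rw [← map_pow, show g ^ p ^ k = 1 from congrArg Subtype.val hk, map_one]
  obtain ⟨v, hv⟩ := (Subgroup.bot_or_exists_ne_one N).resolve_left hN1
  have hker : φ.ker = Cfsg.pCore p G := by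
    refine le_antisymm (LocalStructure.le_pCore φ.normal_ker ?_) ?_
    · refine (hcent v hv.1 hv.2).to_le fun g hg => Subgroup.mem_centralizer_iff.2 fun y hy => ?_
      rw [Set.mem_singleton_iff.1 hy]
      have h1 : g * v * g⁻¹ = v :=
        congrArg Subtype.val (DFunLike.congr_fun (MonoidHom.mem_ker.1 hg) (⟨v, hv.1⟩ : N))
      exact (mul_inv_eq_iff_eq_mul.1 h1).symm
    · intro g hg
      haveI := LocalStructure.pCore_normal p G
      have h1 : N ≤ (Subgroup.center (Cfsg.pCore p G)).map (Cfsg.pCore p G).subtype := by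
        refine Gagola.supp_le_of_normal hG hχ _ ?_
        rw [Ne, Subgroup.map_eq_bot_iff_of_injective _ (Subgroup.subtype_injective _)]
        haveI : Nontrivial (Cfsg.pCore p G) := (Subgroup.nontrivial_iff_ne_bot _).2
          fun h => hN1 (le_bot_iff.1 (h ▸ hle))
        exact ((LocalStructure.isPGroup_pCore (G := G) p).center_nontrivial |>
          (Subgroup.nontrivial_iff_ne_bot _).1)
      refine MonoidHom.mem_ker.2 (MulEquiv.ext fun w => Subtype.ext ?_)
      obtain ⟨z, hz, hzw⟩ := h1 w.2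
      have h2 := congrArg Subtype.val (Subgroup.mem_center_iff.1 hz ⟨g, hg⟩)
      show g * w * g⁻¹ = (w : G)
      rw [← hzw]
      exact mul_inv_eq_iff_eq_mul.2 h2
  let e : G ⧸ Cfsg.pCore p G →* φ.range :=
    haveI := LocalStructure.pCore_normal p G
    QuotientGroup.lift _ φ.rangeRestrict fun g hg =>
      MonoidHom.mem_ker.2 (Subtype.ext (MonoidHom.mem_ker.1 (hker ▸ hg : g ∈ φ.ker)))
  obtain ⟨K, hKn, hKp, hKc, hKi⟩ := hps.goodQuotient
  have hinj : Function.Injective e := by
    haveI := LocalStructure.pCore_normal p G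
    refine (injective_iff_map_eq_one e).2 fun a ha => ?_
    obtain ⟨g, rfl⟩ := QuotientGroup.mk_surjective a
    rw [QuotientGroup.eq_one_iff, ← hker]
    exact MonoidHom.mem_ker.2 (congrArg Subtype.val ha)
  refine of_goodQuotient ⟨K.comap e, inferInstance, fun hd => hKp (hd.trans ?_), fun x y => ?_,
    fun x => ?_⟩
  · exact (Nat.card_congr (Subgroup.equivMapOfInjective _ e hinj).toEquiv).dvd.trans
      (Subgroup.card_dvd_of_le (Subgroup.map_comap_le e K))
  · rw [Subgroup.mem_comap, map_commutatorElement]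
    exact hKc _ _
  · obtain ⟨i, hi⟩ := hKi (e x)
    exact ⟨i, by rw [Subgroup.mem_comap, map_pow]; exact hi⟩

end Cfsg.Agent.S4840
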