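import Cfsg.Statements.S4843
import Cfsg.Agent.Lib.Char.ConjugationConstituent
import Cfsg.Agent.Lib.CharInt.Galois
import Cfsg.Agent.Lib.CharInt.Basic
import Cfsg.Agent.Lib.CharInt.Central
import Cfsg.Agent.Lib.Components.Fitting
import Mathlib.GroupTheory.Nilpotent

set_option autoImplicit false

set_option autoImplicit false
open Cfsg

namespace Cfsg.Agent.S4843

open scoped commutatorElement
open ComplexConjugate

universe u

section Commutators
variable {G : Type u} [Group G] {K Z : Subgroup G}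

/-- The elements of `K` whose commutator with `g` lies in `Z`. -/
def comSub [hZn : Z.Normal] (g : G)
    (hmul : ∀ g : G, ∀ x ∈ K, ∀ y ∈ K, ⁅g, x⁆ ∈ Z → ⁅g, y⁆ ∈ Z → ⁅g, x * y⁆ = ⁅g, x⁆ * ⁅g, y⁆) :
    Subgroup G where
  carrier := {x | x ∈ K ∧ ⁅g, x⁆ ∈ Z}
  one_mem' := ⟨one_mem K, by rw [commutatorElement_one_right]; exact one_mem Z⟩
  mul_mem' := fun {a b} ha hb => ⟨mul_mem ha.1 hb.1, by
    rw [hmul g a ha.1 b hb.1 ha.2 hb.2]; exact mul_mem ha.2 hb.2⟩
  inv_mem' := fun {a} ha => by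
    refine ⟨inv_mem ha.1, ?_⟩
    have e : ⁅g, a⁻¹⁆ = a⁻¹ * ⁅g, a⁆⁻¹ * a := by simp only [commutatorElement_def]; group
    rw [e]
    simpa using hZn.conj_mem _ (inv_mem ha.2) a⁻¹

variable [hKn : K.Normal] [hZn : Z.Normal]
  (hmul : ∀ g : G, ∀ x ∈ K, ∀ y ∈ K, ⁅g, x⁆ ∈ Z → ⁅g, y⁆ ∈ Z → ⁅g, x * y⁆ = ⁅g, x⁆ * ⁅g, y⁆)

/-- The map `x ↦ [g, x]` on `comSub g`. -/
def comHom (g : G) : comSub g hmul →* G where
  toFun x := ⁅g, (x : G)⁆
  map_one' := commutatorElement_one_right g
  map_mul' := fun a b => hmul g a a.2.1 b b.2.1 a.2.2 b.2.2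

theorem comSub_pow_le (g : G) (m : ℕ) : comSub g hmul ≤ comSub (g ^ m) hmul := by
  intro x hx
  induction m with
  | zero => exact ⟨hx.1, by rw [pow_zero, commutatorElement_one_left]; exact one_mem Z⟩
  | succ m ih =>
    refine ⟨hx.1, ?_⟩
    have e : ⁅g ^ (m + 1), x⁆ = g * ⁅g ^ m, x⁆ * g⁻¹ * ⁅g, x⁆ := by
      rw [pow_succ']; simp only [commutatorElement_def]; group
    rw [e]
    exact mul_mem (hZn.conj_mem _ ih.2 g) hx.2

theorem conj_mem_comSub (g : G) {x : G} (hx : x ∈ comSub g hmul) (m : ℕ) :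
    g ^ m * x * (g ^ m)⁻¹ ∈ comSub g hmul := by
  refine ⟨hKn.conj_mem x hx.1 _, ?_⟩
  have e : ⁅g, g ^ m * x * (g ^ m)⁻¹⁆ = g ^ m * ⁅g, x⁆ * (g ^ m)⁻¹ := by
    simp only [commutatorElement_def]; group
  rw [e]
  exact hZn.conj_mem _ hx.2 _

theorem commutator_pow_mem_range (g : G) {x : G} (hx : x ∈ comSub g hmul) (m : ℕ) :
    ⁅g ^ m, x⁆ ∈ (comHom hmul g).range := by
  induction m with
  | zero => rw [pow_zero, commutatorElement_one_left]; exact one_mem _
  | succ m ih =>
    have e : ⁅g ^ (m + 1), x⁆ = ⁅g, g ^ m * x * (g ^ m)⁻¹⁆ * ⁅g ^ m, x⁆ := by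
      rw [pow_succ']; simp only [commutatorElement_def]; group
    rw [e]
    exact mul_mem ⟨⟨_, conj_mem_comSub hmul g hx m⟩, rfl⟩ ih

theorem sum_commutator_range (g : G) [Fintype (comSub g hmul)] [Fintype (comHom hmul g).range]
    (f : G → ℂ) :
    (Fintype.card (comHom hmul g).range : ℂ) * ∑ x : comSub g hmul, f ⁅g, (x : G)⁆ =
      (Fintype.card (comSub g hmul) : ℂ) * ∑ y : (comHom hmul g).range, f y := by
  have h1 : ∀ y : (comHom hmul g).range,
      ∑ x : comSub g hmul, f (comHom hmul g x * y) = ∑ x : comSub g hmul, f ⁅g, (x : G)⁆ := by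
    rintro ⟨y, z, rfl⟩
    refine Fintype.sum_equiv (Equiv.mulRight z) _ _ fun x => ?_
    show f (comHom hmul g x * comHom hmul g z) = f (comHom hmul g (x * z))
    rw [map_mul]
  have h2 : ∀ x : comSub g hmul,
      ∑ y : (comHom hmul g).range, f (comHom hmul g x * y) = ∑ y : (comHom hmul g).range, f y := by
    intro x
    exact Fintype.sum_equiv (Equiv.mulLeft (⟨comHom hmul g x, x, rfl⟩ : (comHom hmul g).range))
      _ _ fun y => rfl
  rw [← nsmul_eq_mul, ← nsmul_eq_mul, ← Finset.card_univ, ← Finset.card_univ, ← Finset.sum_const,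
    ← Finset.sum_const, ← Finset.sum_congr rfl fun y _ => h1 y, Finset.sum_comm]
  exact Finset.sum_congr rfl fun x _ => h2 x

end Commutators

section Main
variable {G : Type u} [Group G] [Fintype G] (χ : Cfsg.IrrCharacter G)

theorem not_noncentral_of_hom {k : ℕ} (hk : k.Coprime (Nat.card G))
    (hfaith : ∀ g : G, χ.1 g = χ.1 1 → g = 1)
    (hirr : Cfsg.IsIrrCharacter G (fun g => χ.1 g * χ.1 (g ^ k)))
    (K Z : Subgroup G) [K.Normal] [Z.Normal]
    (hoff : ∀ y ∈ K, y ∉ Z → χ.1 y = 0)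
    (hmul : ∀ g : G, ∀ x ∈ K, ∀ y ∈ K, ⁅g, x⁆ ∈ Z → ⁅g, y⁆ ∈ Z → ⁅g, x * y⁆ = ⁅g, x⁆ * ⁅g, y⁆) :
    K ≤ Subgroup.center G := by
  classical
  have hchar := Char.irr_isCharacter χ
  set W : G → ℂ := fun g => ∑ x : K, χ.1 ⁅g, (x : G)⁆ with hW
  have hWcl : Cfsg.IsClassFunction G W := by
    intro g a
    refine Fintype.sum_equiv (MulAut.conjNormal a⁻¹).toEquiv _ _ fun x => ?_
    show χ.1 ⁅a * g * a⁻¹, (x : G)⁆ = χ.1 ⁅g, ((MulAut.conjNormal a⁻¹ x : K) : G)⁆
    rw [← Char.IsCharacter.isClassFunction hchar ⁅g, ((MulAut.conjNormal a⁻¹ x : K) : G)⁆ a]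
    congr 1
    simp only [MulAut.conjNormal_apply, commutatorElement_def]
    group
  have hWsub : ∀ g, W g = ∑ x : comSub g hmul, χ.1 ⁅g, (x : G)⁆ := by
    intro g
    show ∑ x : K, χ.1 ⁅g, (x : G)⁆ = _
    rw [← Finset.sum_filter_of_ne (p := fun x : K => ⁅g, (x : G)⁆ ∈ Z) (fun x _ hx => ?_)]
    · refine Finset.sum_bij' (fun x hx => (⟨x.1, x.2, (Finset.mem_filter.1 hx).2⟩ : comSub g hmul))
        (fun x _ => (⟨x.1, x.2.1⟩ : K)) (fun _ _ => Finset.mem_univ _)
        (fun x _ => Finset.mem_filter.2 ⟨Finset.mem_univ _, x.2.2⟩) (fun _ _ => rfl) (fun _ _ => rfl)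
        (fun _ _ => rfl)
    · by_contra hz
      refine hx (hoff _ ?_ hz)
      have : ⁅g, (x : G)⁆ = (g * x * g⁻¹) * (x : G)⁻¹ := commutatorElement_def _ _
      rw [this]
      exact mul_mem ((inferInstance : K.Normal).conj_mem _ x.2 g) (inv_mem x.2)
  have hbij : Function.Bijective (fun g : G => g ^ k) :=
    (powCoprime hk.symm).bijective
  have hWk : ∀ g, W (g ^ k) = W g := by
    intro g
    obtain ⟨l, hl⟩ : ∃ l : ℕ, (g ^ k) ^ l = g :=
      exists_pow_eq_self_of_coprime (hk.coprime_dvd_right (orderOf_dvd_natCard g))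
    have hsub : comSub (g ^ k) hmul = comSub g hmul := by
      refine le_antisymm ?_ (comSub_pow_le hmul g k)
      have := comSub_pow_le hmul (g ^ k) l
      rwa [hl] at this
    have hrange : (comHom hmul (g ^ k)).range = (comHom hmul g).range := by
      refine le_antisymm ?_ ?_
      · rintro y ⟨⟨x, hx⟩, rfl⟩
        exact commutator_pow_mem_range hmul g (hsub ▸ hx) k
      · rintro y ⟨⟨x, hx⟩, rfl⟩
        have := commutator_pow_mem_range hmul (g ^ k) (hsub ▸ hx : x ∈ comSub (g ^ k) hmul) l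
        rw [hl] at this
        exact this
    have h1 := sum_commutator_range hmul (g ^ k) χ.1
    have h2 := sum_commutator_range hmul g χ.1
    rw [← hWsub] at h1 h2
    have e1 : Fintype.card (comHom hmul (g ^ k)).range = Fintype.card (comHom hmul g).range :=
      Fintype.card_congr ((MulEquiv.subgroupCongr hrange).toEquiv)
    have e2 : Fintype.card (comSub (g ^ k) hmul) = Fintype.card (comSub g hmul) :=
      Fintype.card_congr ((MulEquiv.subgroupCongr hsub).toEquiv)
    have e3 : ∑ y : (comHom hmul (g ^ k)).range, χ.1 y = ∑ y : (comHom hmul g).range, χ.1 y :=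
      Fintype.sum_equiv ((MulEquiv.subgroupCongr hrange).toEquiv) _ _ fun _ => rfl
    rw [e1, e2, e3, ← h2] at h1
    exact mul_left_cancel₀ (Nat.cast_ne_zero.2 Fintype.card_ne_zero) h1
  intro z hz
  by_contra hzc
  obtain ⟨g₀, hg₀⟩ : ∃ g : G, ⁅g, z⁆ ≠ 1 := by
    by_contra hcon
    push Not at hcon
    exact hzc (Subgroup.mem_center_iff.2 fun g => commutatorElement_eq_one_iff_mul_comm.1 (hcon g))
  have hW0 : W g₀ ≠ W 1 := by
    intro h
    obtain ⟨n, hn⟩ := CharInt.exists_degree hchar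
    have h1 : W 1 = (Fintype.card K : ℂ) * n := by
      show ∑ x : K, χ.1 ⁅(1 : G), (x : G)⁆ = _
      simp [hn]
    have hle : ∀ x : K, (χ.1 ⁅g₀, (x : G)⁆).re ≤ n := fun x => by
      refine (Complex.re_le_norm _).trans ?_
      have := CharInt.norm_char_le hchar ⁅g₀, (x : G)⁆
      rwa [hn, Complex.norm_natCast] at this
    have hsum : ∑ x : K, (χ.1 ⁅g₀, (x : G)⁆).re = ∑ _x : K, (n : ℝ) := by
      rw [← Complex.re_sum, show ∑ x : K, χ.1 ⁅g₀, (x : G)⁆ = W g₀ from rfl, h, h1]
      simp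
    have hre := (Finset.sum_eq_sum_iff_of_le (fun x _ => hle x)).1 hsum ⟨z, hz⟩ (Finset.mem_univ _)
    refine hg₀ (hfaith _ ?_)
    have hnorm := CharInt.norm_char_le hchar ⁅g₀, z⁆
    rw [hn, Complex.norm_natCast] at hnorm
    have hre' : (χ.1 ⁅g₀, z⁆).re = n := hre
    rw [hn]
    apply Complex.ext
    · simpa using hre'
    · rw [Complex.natCast_im]
      have h2 : (χ.1 ⁅g₀, z⁆).re * (χ.1 ⁅g₀, z⁆).re + (χ.1 ⁅g₀, z⁆).im * (χ.1 ⁅g₀, z⁆).im
          ≤ (n : ℝ) * n := by
        rw [← Complex.normSq_apply, ← Complex.norm_mul_self_eq_normSq]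
        exact mul_self_le_mul_self (norm_nonneg _) hnorm
      rw [hre'] at h2
      nlinarith
  obtain ⟨ψ, hψ1, hψW⟩ : ∃ ψ : Cfsg.IrrCharacter G, ψ ≠ Char.trivialChar G ∧ classInner W ψ.1 ≠ 0 := by
    by_contra hcon
    push Not at hcon
    refine hW0 ?_
    have he := Char.eq_sum_classInner_smul hWcl
    rw [Finset.sum_eq_single_of_mem (Char.trivialChar G) (Finset.mem_univ _)
      (fun ψ _ h => by rw [hcon ψ h, zero_smul])] at he
    rw [congrFun he g₀, congrFun he 1]
    simp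
  -- constituents of `χ χ̄`
  set A : G → ℂ := fun g => χ.1 g * conj (χ.1 g) with hA
  have key : ∀ φ : Cfsg.IrrCharacter G, classInner W φ.1 ≠ 0 → classInner A φ.1 ≠ 0 := by
    intro φ hφ h0
    apply hφ
    rw [classInner]
    simp only [hW, Finset.sum_mul]
    rw [Finset.sum_comm, Finset.sum_eq_zero, mul_zero]
    intro x _
    rw [← Char.sum_conj_mul_commutator_eq_zero χ φ h0 x]
    exact Finset.sum_congr rfl fun g _ => by rw [commutatorElement_def]; ring
  let ψ' : Cfsg.IrrCharacter G := ⟨fun g => ψ.1 (g ^ k), CharInt.isIrrCharacter_pow ψ.2 hk⟩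
  have hψ'1 : ψ' ≠ Char.trivialChar G := by
    intro h
    refine hψ1 (Subtype.ext (funext fun g => ?_))
    obtain ⟨y, rfl⟩ := hbij.2 g
    have := congrFun (congrArg Subtype.val h) y
    simp only [Char.trivialChar_apply] at this ⊢
    exact this
  have hψ'W : classInner W ψ'.1 ≠ 0 := by
    have : classInner W ψ'.1 = classInner W ψ.1 := by
      simp only [classInner]
      congr 1
      refine Fintype.sum_bijective _ hbij _ _ fun g => ?_
      rw [hWk]
    rwa [this]
  -- the norm of `χ χ^σ`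
  let χ' : Cfsg.IrrCharacter G := ⟨fun g => χ.1 (g ^ k), CharInt.isIrrCharacter_pow χ.2 hk⟩
  set B : G → ℂ := fun g => χ'.1 g * conj (χ'.1 g) with hB
  have hnorm : classInner A B = 1 := by
    rw [← Char.classInner_irr_self hirr]
    simp only [classInner, hA, hB]
    congr 1
    refine Finset.sum_congr rfl fun g _ => ?_
    simp only [map_mul, Complex.conj_conj, χ']
    ring
  have hAc : Cfsg.IsCharacter G A := Char.IsCharacter.mul hchar (Char.IsCharacter.conj hchar)
  have hBc : Cfsg.IsCharacter G B :=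
    Char.IsCharacter.mul (Char.irr_isCharacter χ') (Char.IsCharacter.conj (Char.irr_isCharacter χ'))
  obtain ⟨a, -, ha⟩ := Char.IsCharacter.exists_decomp hAc
  obtain ⟨b, -, hb⟩ := Char.IsCharacter.exists_decomp hBc
  rw [Char.classInner_eq_sum (Char.IsCharacter.isClassFunction hAc)] at hnorm
  have hterm : ∀ φ : Cfsg.IrrCharacter G, classInner A φ.1 * classInner φ.1 B = ((a φ * b φ : ℕ) : ℂ) := by
    intro φ
    rw [ha, ← Char.conj_classInner B φ.1, hb, Complex.conj_natCast, Nat.cast_mul]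
  rw [Finset.sum_congr rfl fun φ _ => hterm φ, ← Nat.cast_sum] at hnorm
  have hn1 : ∑ φ, a φ * b φ = 1 := by exact_mod_cast hnorm
  have hpos : ∀ φ : Cfsg.IrrCharacter G, classInner A φ.1 ≠ 0 → classInner B φ.1 ≠ 0 → 0 < a φ * b φ := by
    intro φ h1 h2
    rw [ha] at h1
    rw [hb] at h2
    exact Nat.mul_pos (Nat.pos_of_ne_zero fun h => h1 (by simp [h])) (Nat.pos_of_ne_zero fun h => h2 (by simp [h]))
  have hBtwist : ∀ φ φ' : Cfsg.IrrCharacter G, (∀ g, φ'.1 g = φ.1 (g ^ k)) →
      classInner B φ'.1 = classInner A φ.1 := by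
    intro φ φ' h
    simp only [classInner, hA, hB]
    congr 1
    refine Fintype.sum_bijective _ hbij _ _ fun g => ?_
    rw [h]
  have hone : ∀ η : Cfsg.IrrCharacter G, classInner (fun g => η.1 g * conj (η.1 g)) (Char.trivialChar G).1 ≠ 0 := by
    intro η h
    have h1 := Char.classInner_irr_self η.2
    have : classInner (fun g => η.1 g * conj (η.1 g)) (Char.trivialChar G).1 = classInner η.1 η.1 := by
      simp [classInner]
    rw [this, h1] at h
    exact one_ne_zero h
  have p1 := hpos (Char.trivialChar G) (hone χ) (hone χ')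
  have p2 := hpos ψ' (key ψ' hψ'W) (by rw [hBtwist ψ ψ' fun _ => rfl]; exact key ψ hψW)
  have := Finset.sum_le_sum_of_subset (f := fun φ => a φ * b φ)
    (Finset.subset_univ ({Char.trivialChar G, ψ'} : Finset (Cfsg.IrrCharacter G)))
  rw [Finset.sum_pair hψ'1.symm, hn1] at this
  omega

end Main

/-- Let G be a finite group with a faithful irreducible character χ (taking the value χ(1) only at the identity) and let k be prime to the order of G, so that g ↦ χ(g^k) is a Galois conjugate of χ. If the pointwise product g ↦ χ(g)·χ(g^k) is again an irreducible character, then the Fitting subgroup of G equals its centre. -/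
theorem result {G : Type*} [Group G] [Finite G] (χ : Cfsg.IrrCharacter G) (hfaith : ∀ g : G, (χ : G → ℂ) g = (χ : G → ℂ) 1 → g = 1) (k : ℕ) (hk : Nat.Coprime k (Nat.card G)) (hirr : Cfsg.IsIrrCharacter G (fun g => (χ : G → ℂ) g * (χ : G → ℂ) (g ^ k))) : Cfsg.fittingSubgroup G = Subgroup.center G := by
  classical
  haveI := Fintype.ofFinite G
  have hchar := Char.irr_isCharacter χ
  haveI hFn : (Cfsg.fittingSubgroup G).Normal := inferInstance
  have : Group.IsNilpotent (Subgroup.center G) := ⟨⟨1, by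
    rw [Subgroup.upperCentralSeries_one, eq_top_iff]
    exact fun x _ => Subgroup.mem_center_iff.2 fun y => Subtype.ext (Subgroup.mem_center_iff.1 x.2 y.1)⟩⟩
  have hZF : Subgroup.center G ≤ Cfsg.fittingSubgroup G :=
    Components.le_fittingSubgroup (inferInstance : (Subgroup.center G).Normal)
  refine le_antisymm ?_ hZF
  have habel : ∀ K : Subgroup G, K.Normal → (∀ a ∈ K, ∀ b ∈ K, a * b = b * a) → K ≤ Subgroup.center G := by
    intro K hK hab
    refine not_noncentral_of_hom χ hk hfaith hirr K K (fun y hy hy' => absurd hy hy') fun g x hx y hy hgx hgy => ?_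
    have e : ⁅g, x * y⁆ = ⁅g, x⁆ * (x * ⁅g, y⁆ * x⁻¹) := by simp only [commutatorElement_def]; group
    rw [e, hab x hx _ hgy, mul_inv_cancel_right]
  haveI : Group.IsNilpotent (Cfsg.fittingSubgroup G) := Components.fittingSubgroup_isNilpotent G
  set F := Cfsg.fittingSubgroup G with hF
  have hZeq : (Subgroup.center F).map F.subtype = Subgroup.center G := by
    refine le_antisymm (habel _ inferInstance ?_) fun z hz => ⟨⟨z, hZF hz⟩, ?_, rfl⟩
    · rintro _ ⟨a, ha, rfl⟩ _ ⟨b, -, rfl⟩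
      exact congrArg Subtype.val (Subgroup.mem_center_iff.1 ha b).symm
    · exact Subgroup.mem_center_iff.2 fun y => Subtype.ext (Subgroup.mem_center_iff.1 hz y.1)
  set K := (Subgroup.upperCentralSeries F 2).map F.subtype with hKdef
  haveI : K.Normal := inferInstance
  have hKF : K ≤ F := Subgroup.map_subtype_le _
  have hcom : ∀ x ∈ K, ∀ y ∈ F, ⁅x, y⁆ ∈ Subgroup.center G := by
    rintro _ ⟨x, hx, rfl⟩ y hy
    rw [← hZeq, ← Subgroup.upperCentralSeries_one F]
    exact ⟨⁅x, (⟨y, hy⟩ : F)⁆, by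
      rw [commutatorElement_def]; exact Subgroup.mem_upperCentralSeries_succ_iff.1 hx ⟨y, hy⟩, rfl⟩
  have hK : K ≤ Subgroup.center G := by
    refine not_noncentral_of_hom χ hk hfaith hirr K (Subgroup.center G) (fun y hy hyZ => ?_)
      fun g x hx y hy hgx hgy => ?_
    · obtain ⟨h, hhF, hne⟩ : ∃ h ∈ F, ⁅h, y⁆ ≠ 1 := by
        by_contra hcon
        push Not at hcon
        refine hyZ (hZeq ▸ ⟨⟨y, hKF hy⟩, Subgroup.mem_center_iff.2 fun b =>
          Subtype.ext (commutatorElement_eq_one_iff_mul_comm.1 (hcon b.1 b.2)), rfl⟩)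
      have hz : ⁅h, y⁆ ∈ Subgroup.center G := by
        rw [← commutatorElement_inv y h]
        exact inv_mem (hcom y hy h hhF)
      by_contra hy0
      obtain ⟨n, ρ, hρ, hρc⟩ := χ.2
      haveI := hρ
      obtain ⟨c, hc⟩ := CharInt.exists_smul_one_of_mem_center ρ hz
      have e1 : ∀ w : G, χ.1 (⁅h, y⁆ * w) = c * χ.1 w := fun w => by
        rw [← hρc]
        simp [Representation.character, map_mul, hc]
      have e2 : χ.1 (⁅h, y⁆ * y) = χ.1 y := by
        rw [show ⁅h, y⁆ * y = h * y * h⁻¹ by simp [commutatorElement_def],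
          Char.IsCharacter.isClassFunction hchar y h]
      have hc1 : c = 1 := mul_right_cancel₀ hy0 (by rw [← e1, e2, one_mul])
      refine hne (hfaith _ ?_)
      simpa [hc1] using e1 1
    · have e : ⁅g, x * y⁆ = ⁅g, x⁆ * (x * ⁅g, y⁆ * x⁻¹) := by simp only [commutatorElement_def]; group
      rw [e, Subgroup.mem_center_iff.1 hgy x, mul_inv_cancel_right]
  -- so the upper central series of `F` stops at the centre
  have h12 : Subgroup.upperCentralSeries F 2 ≤ Subgroup.upperCentralSeries F 1 := by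
    rw [Subgroup.upperCentralSeries_one, ← Subgroup.map_subtype_le_map_subtype, hZeq]
    exact hK
  have hall : ∀ m, Subgroup.upperCentralSeries F m ≤ Subgroup.upperCentralSeries F 1 := by
    intro m
    induction m with
    | zero => simp
    | succ m ih =>
      intro x hx
      refine h12 (Subgroup.mem_upperCentralSeries_succ_iff.2 fun y => ?_)
      exact ih (Subgroup.mem_upperCentralSeries_succ_iff.1 hx y)
  obtain ⟨m, hm⟩ := Group.IsNilpotent.nilpotent (G := F)
  intro x hx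
  rw [← hZeq, ← Subgroup.upperCentralSeries_one F]
  exact ⟨⟨x, hx⟩, hall m (hm ▸ Subgroup.mem_top _), rfl⟩

end Cfsg.Agent.S4843
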