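import Cfsg.Statements.S4845
import Cfsg.Agent.Lib.Char.Descend
import Cfsg.Agent.Lib.Char.KernelSum
import Cfsg.Agent.Lib.Char.Linear
import Cfsg.Agent.Lib.Char.Orthogonality
import Cfsg.Agent.Lib.CharInt.Central
import Cfsg.Agent.Lib.PGroup.Basic

set_option autoImplicit false
set_option linter.style.haveILetI false

set_option autoImplicit false
open Cfsg

namespace Cfsg.Agent.S4845

open scoped commutatorElement
open ComplexConjugate

universe u

variable {Q : Type u} [Group Q]

theorem com_mul_right (g a b : Q) : ⁅g, a * b⁆ = ⁅g, a⁆ * (a * ⁅g, b⁆ * a⁻¹) := by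
  simp only [commutatorElement_def]; group

theorem com_mul_left (a b x : Q) : ⁅a * b, x⁆ = a * ⁅b, x⁆ * a⁻¹ * ⁅a, x⁆ := by
  simp only [commutatorElement_def]; group

theorem com_mem_commutator (a b : Q) : ⁅a, b⁆ ∈ commutator Q :=
  Subgroup.commutator_mem_commutator (Subgroup.mem_top a) (Subgroup.mem_top b)

theorem com_pow_right {g y : Q} (h : ⁅g, y⁆ ∈ Subgroup.center Q) (n : ℕ) :
    ⁅g, y ^ n⁆ = ⁅g, y⁆ ^ n := by
  induction n with
  | zero => simp
  | succ n ih =>
    rw [pow_succ', com_mul_right, ih, Subgroup.mem_center_iff.1 (Subgroup.pow_mem _ h n) y,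
      mul_inv_cancel_right, ← pow_succ']

theorem pow_mem_center {A : Subgroup Q} (hA : A ≤ Subgroup.center Q) (p : ℕ)
    (hAp : ∀ a ∈ A, a ^ p = 1) {y : Q} (hy : ∀ g : Q, ⁅g, y⁆ ∈ A) : y ^ p ∈ Subgroup.center Q :=
  Subgroup.mem_center_iff.2 fun g => commutatorElement_eq_one_iff_mul_comm.1 (by
    rw [com_pow_right (hA (hy g)), hAp _ (hy g)])

variable [Finite Q]

/-- The kernel of an irreducible character. -/
abbrev kerS (χ : Cfsg.IrrCharacter Q) : Subgroup Q := CharInt.charKernel (Char.irr_isCharacter χ)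

instance kerS_normal (χ : Cfsg.IrrCharacter Q) : (kerS χ).Normal :=
  CharInt.charKernel_normal _

/-- The centre of an irreducible character. -/
def centreSub (χ : Cfsg.IrrCharacter Q) : Subgroup Q where
  carrier := {y | ∀ g : Q, ⁅g, y⁆ ∈ kerS χ}
  one_mem' g := by rw [commutatorElement_one_right]; exact one_mem _
  mul_mem' := fun {a b} ha hb g => by
    rw [com_mul_right]; exact mul_mem (ha g) ((kerS_normal χ).conj_mem _ (hb g) a)
  inv_mem' := fun {a} ha g => by
    have e : ⁅g, a⁻¹⁆ = a⁻¹ * ⁅g, a⁆⁻¹ * a := by simp only [commutatorElement_def]; group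
    rw [e]
    simpa using (kerS_normal χ).conj_mem _ (inv_mem (ha g)) a⁻¹

theorem center_le_centreSub (χ : Cfsg.IrrCharacter Q) : Subgroup.center Q ≤ centreSub χ :=
  fun y hy g => by
    rw [commutatorElement_eq_one_iff_mul_comm.2 (Subgroup.mem_center_iff.1 hy g)]
    exact one_mem _

theorem centreSub_eq_center {χ : Cfsg.IrrCharacter Q} (h : kerS χ = ⊥) :
    centreSub χ = Subgroup.center Q :=
  le_antisymm (fun _ hy => Subgroup.mem_center_iff.2 fun g =>
    commutatorElement_eq_one_iff_mul_comm.1 (Subgroup.mem_bot.1 (h ▸ hy g))) (center_le_centreSub χ)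

theorem mul_centre (χ : Cfsg.IrrCharacter Q) {y : Q} (hy : y ∈ centreSub χ) (x : Q) :
    χ.1 (x * y) * χ.1 1 = χ.1 x * χ.1 y := by
  obtain ⟨n, ρ, hρ, hχ⟩ := χ.2
  haveI := hρ
  obtain ⟨c, hc⟩ := CharInt.exists_eq_smul_one_of_commute ρ (ρ y) fun g => by
    have h1 : ρ ⁅g, y⁆ = 1 := by
      have h2 := (CharInt.mem_charKernel _).1 (hy g)
      rw [← hχ, ρ.char_one] at h2
      exact (CharInt.character_eq_finrank_iff ρ _).1 h2
    have e : g * y = ⁅g, y⁆ * (y * g) := by simp [commutatorElement_def, mul_assoc]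
    rw [← map_mul, ← map_mul, e, map_mul ρ ⁅g, y⁆, h1, one_mul]
  rw [← hχ]
  simp only [Representation.character, map_mul, map_one, hc, mul_smul_comm, mul_one, map_smul,
    smul_eq_mul, LinearMap.trace_one]
  ring

/-- The scalar by which the centre of `χ` acts. -/
noncomputable def omegaHom (χ : Cfsg.IrrCharacter Q) : centreSub χ →* ℂ where
  toFun y := χ.1 (y : Q) / χ.1 1
  map_one' := div_self (Char.IsIrrCharacter.apply_one_ne_zero χ.2)
  map_mul' := fun a b => by
    have h0 := Char.IsIrrCharacter.apply_one_ne_zero χ.2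
    rw [div_mul_div_comm, eq_div_iff (mul_ne_zero h0 h0), Subgroup.coe_mul,
      div_mul_eq_mul_div, ← mul_centre χ b.2]
    field_simp

theorem apply_centre (χ : Cfsg.IrrCharacter Q) (y : centreSub χ) :
    χ.1 (y : Q) = χ.1 1 * omegaHom χ y := by
  show _ = χ.1 1 * (χ.1 (y : Q) / χ.1 1)
  rw [mul_div_cancel₀ _ (Char.IsIrrCharacter.apply_one_ne_zero χ.2)]

theorem omegaHom_eq_one_iff (χ : Cfsg.IrrCharacter Q) (y : centreSub χ) :
    omegaHom χ y = 1 ↔ (y : Q) ∈ kerS χ := by
  show χ.1 (y : Q) / χ.1 1 = 1 ↔ _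
  rw [div_eq_one_iff_eq (Char.IsIrrCharacter.apply_one_ne_zero χ.2)]
  exact (CharInt.mem_charKernel _).symm

section Degree
variable (χ : Cfsg.IrrCharacter Q) (hcl : ∀ x g y : Q, ⁅x, ⁅g, y⁆⁆ ∈ kerS χ)

include hcl

theorem off_centre {y : Q} (hy : y ∉ centreSub χ) : χ.1 y = 0 := by
  obtain ⟨g, hg⟩ : ∃ g, ⁅g, y⁆ ∉ kerS χ := by
    by_contra hcon; push Not at hcon; exact hy hcon
  have h := mul_centre χ (show ⁅g, y⁆ ∈ centreSub χ from fun x => hcl x g y) y
  rw [CharInt.char_mul_comm (Char.irr_isCharacter χ) y ⁅g, y⁆,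
    show ⁅g, y⁆ * y = g * y * g⁻¹ by simp [commutatorElement_def],
    CharInt.char_conj_apply (Char.irr_isCharacter χ) y g] at h
  rcases mul_eq_mul_left_iff.1 h with h1 | h1
  · exact absurd ((CharInt.mem_charKernel _).2 h1.symm) hg
  · exact h1

theorem degree_sq_mul : Cfsg.charDegree χ.1 ^ 2 * Nat.card (centreSub χ) = Nat.card Q := by
  classical
  haveI := Fintype.ofFinite Q
  apply Nat.cast_injective (R := ℂ)
  have h := Char.classInner_irr_self χ.2
  rw [classInner, inv_mul_eq_one₀ Char.card_ne_zero] at h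
  rw [h, Nat.cast_mul, Nat.cast_pow, Char.charDegree_cast, mul_comm,
    ← Finset.sum_filter_of_ne (p := fun g => g ∈ centreSub χ) (fun g _ hg => by
      by_contra hn; exact hg (by rw [off_centre χ hcl hn, zero_mul]))]
  rw [Finset.sum_congr rfl (g := fun _ => χ.1 1 ^ 2) fun g hg => ?_]
  · rw [Finset.sum_const, nsmul_eq_mul, Nat.card_eq_fintype_card, Fintype.card_subtype]
  · have hy := (Finset.mem_filter.1 hg).2
    rw [show g = ((⟨g, hy⟩ : centreSub χ) : Q) from rfl, apply_centre χ ⟨g, hy⟩, map_mul,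
      mul_mul_mul_comm, Complex.mul_conj', Complex.mul_conj']
    have h1 : omegaHom χ ⟨g, hy⟩ ^ Nat.card (centreSub χ) = 1 := by
      rw [← map_pow, pow_card_eq_one', map_one]
    rw [Complex.norm_eq_one_of_pow_eq_one h1 Nat.card_pos.ne']
    obtain ⟨n, hn⟩ := CharInt.exists_degree (Char.irr_isCharacter χ)
    rw [hn, Complex.norm_natCast]
    simp

end Degree

theorem deg_eq_one_iff (χ : Cfsg.IrrCharacter Q) : Cfsg.charDegree χ.1 = 1 ↔ χ.1 1 = 1 := by
  rw [← Char.charDegree_cast χ, Nat.cast_eq_one]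

theorem not_le_kerS {χ : Cfsg.IrrCharacter Q} (h : Cfsg.charDegree χ.1 ≠ 1) :
    ¬ commutator Q ≤ kerS χ := by
  intro hle
  apply h
  obtain ⟨ψ, hψ⟩ := Char.exists_descend (commutator Q) χ fun k hk => (CharInt.mem_charKernel _).1 (hle hk)
  rw [deg_eq_one_iff, ← hψ 1]
  refine Char.apply_one_of_comm (fun a b => ?_) ψ
  obtain ⟨a, rfl⟩ := QuotientGroup.mk_surjective a
  obtain ⟨b, rfl⟩ := QuotientGroup.mk_surjective b
  rw [← QuotientGroup.mk_mul, ← QuotientGroup.mk_mul, QuotientGroup.eq]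
  have e : (a * b)⁻¹ * (b * a) = ⁅b⁻¹, a⁻¹⁆ := by simp only [commutatorElement_def]; group
  rw [e]
  exact com_mem_commutator _ _

theorem mem_commutator_of_linear {x : Q} (h : ∀ lam : Q →* ℂ, lam x = 1) : x ∈ commutator Q := by
  haveI := Fintype.ofFinite (Q ⧸ commutator Q)
  rw [← QuotientGroup.eq_one_iff]
  refine isConj_one_right.1 ((Char.isConj_iff_forall_irr _ _).2 fun ψ => ?_).symm
  have hc : ∀ a b : Q ⧸ commutator Q, a * b = b * a := by
    intro a b
    obtain ⟨a, rfl⟩ := QuotientGroup.mk_surjective a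
    obtain ⟨b, rfl⟩ := QuotientGroup.mk_surjective b
    rw [← QuotientGroup.mk_mul, ← QuotientGroup.mk_mul, QuotientGroup.eq]
    have e : (a * b)⁻¹ * (b * a) = ⁅b⁻¹, a⁻¹⁆ := by simp only [commutatorElement_def]; group
    rw [e]
    exact com_mem_commutator _ _
  obtain ⟨lam, hlam⟩ := Char.IsCharacter.exists_monoidHom (Char.irr_isCharacter ψ)
    (Char.apply_one_of_comm hc ψ)
  rw [← hlam, map_one]
  exact h (lam.comp (QuotientGroup.mk' _))

variable (Q) in
/-- Equal nonlinear degrees force Galois conjugacy. -/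
def EqDeg : Prop :=
  ∀ χ ψ : Cfsg.IrrCharacter Q, Cfsg.charDegree χ.1 ≠ 1 →
    Cfsg.charDegree χ.1 = Cfsg.charDegree ψ.1 →
      ∃ k : ℕ, Nat.Coprime k (Nat.card Q) ∧ ∀ g : Q, ψ.1 g = χ.1 (g ^ k)

theorem kerS_eq_of_deg (hQ : EqDeg Q) {χ ψ : Cfsg.IrrCharacter Q} (h1 : Cfsg.charDegree χ.1 ≠ 1)
    (h2 : Cfsg.charDegree χ.1 = Cfsg.charDegree ψ.1) : kerS χ = kerS ψ := by
  obtain ⟨k, hk, hψ⟩ := hQ χ ψ h1 h2
  have e : ψ.1 1 = χ.1 1 := by rw [hψ, one_pow]
  ext g
  simp only [CharInt.mem_charKernel]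
  rw [hψ g, hψ 1, one_pow]
  refine ⟨fun h => ?_, fun h => ?_⟩
  · exact (CharInt.mem_charKernel (Char.irr_isCharacter χ)).1
      (Subgroup.pow_mem _ ((CharInt.mem_charKernel _).2 h) k)
  · obtain ⟨l, hl⟩ := exists_pow_eq_self_of_coprime
      (Nat.Coprime.coprime_dvd_right (orderOf_dvd_natCard g) hk)
    rw [← hl]
    exact (CharInt.mem_charKernel (Char.irr_isCharacter χ)).1
      (Subgroup.pow_mem _ ((CharInt.mem_charKernel _).2 h) l)

theorem kerS_le (hQ : EqDeg Q) {χ : Cfsg.IrrCharacter Q} (h : Cfsg.charDegree χ.1 ≠ 1) :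
    kerS χ ≤ commutator Q := by
  intro x hx
  refine mem_commutator_of_linear fun lam => ?_
  let ψ : Cfsg.IrrCharacter Q := ⟨⇑lam * χ.1, Char.IsIrrCharacter.mul_linear χ.2 lam⟩
  have hd : Cfsg.charDegree χ.1 = Cfsg.charDegree ψ.1 := by
    unfold Cfsg.charDegree; simp [ψ]
  have h2 : x ∈ kerS ψ := kerS_eq_of_deg hQ h hd ▸ hx
  rw [CharInt.mem_charKernel] at h2 hx
  have : lam x * χ.1 1 = 1 * χ.1 1 := by simpa [ψ, hx] using h2
  exact mul_right_cancel₀ (Char.IsIrrCharacter.apply_one_ne_zero χ.2) this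

theorem exists_nonlinear_trivOn (A : Subgroup Q) [A.Normal] (h : ¬ commutator Q ≤ A) :
    ∃ χ : Cfsg.IrrCharacter Q, Cfsg.charDegree χ.1 ≠ 1 ∧ A ≤ kerS χ := by
  obtain ⟨ψ, hψ⟩ : ∃ ψ : Cfsg.IrrCharacter (Q ⧸ A), ψ.1 1 ≠ 1 := by
    by_contra hcon
    push Not at hcon
    refine h (Subgroup.commutator_le.2 fun a _ b _ => ?_)
    have hc := Char.forall_apply_one_iff_comm.1 hcon (a : Q ⧸ A) (b : Q ⧸ A)
    rw [← QuotientGroup.eq_one_iff, commutatorElement_def, QuotientGroup.mk_mul, QuotientGroup.mk_mul,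
      QuotientGroup.mk_mul, QuotientGroup.mk_inv, QuotientGroup.mk_inv, hc]
    group
  refine ⟨Char.inflate A ψ, ?_, fun a ha => (CharInt.mem_charKernel _).2 (Char.trivOn_inflate A ψ a ha)⟩
  rw [Ne, deg_eq_one_iff]
  simpa using hψ

theorem exists_not_le_kerS (A : Subgroup Q) (hA : A ≠ ⊥) :
    ∃ χ : Cfsg.IrrCharacter Q, ¬ A ≤ kerS χ := by
  haveI := Fintype.ofFinite Q
  obtain ⟨⟨a, ha⟩, hne⟩ := Subgroup.ne_bot_iff_exists_ne_one.1 hA
  by_contra hcon
  push Not at hcon
  refine hne (Subtype.ext ?_)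
  exact isConj_one_right.1 ((Char.isConj_iff_forall_irr _ _).2 fun χ =>
    (CharInt.mem_charKernel _).1 (hcon χ ha)).symm

section PGroup
variable {p : ℕ} [Fact p.Prime] (hP : IsPGroup p Q)

include hP

theorem degree_is_pow (χ : Cfsg.IrrCharacter Q) : ∃ j, Cfsg.charDegree χ.1 = p ^ j := by
  obtain ⟨n, hn⟩ := IsPGroup.iff_card.1 hP
  obtain ⟨j, -, hj⟩ := (Nat.dvd_prime_pow (Fact.out : p.Prime)).1 (hn ▸ Char.charDegree_dvd_card χ)
  exact ⟨j, hj⟩

omit hP in
theorem eq_of_sq_mul {a b e f : ℕ} (ha : 0 < a) (hb : 0 < b) (he : e = 1 ∨ e = p) (hf : f = 1 ∨ f = p)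
    (h : a ^ 2 * e = b ^ 2 * f) : a = b ∧ e = f := by
  have hp : p.Prime := Fact.out
  have h1 := congrArg (fun n => n.factorization p) h
  have he0 : e ≠ 0 := by rcases he with rfl | rfl <;> simp [hp.ne_zero]
  have hf0 : f ≠ 0 := by rcases hf with rfl | rfl <;> simp [hp.ne_zero]
  simp only [Nat.factorization_mul (pow_ne_zero 2 ha.ne') he0,
    Nat.factorization_mul (pow_ne_zero 2 hb.ne') hf0, Finsupp.coe_add, Pi.add_apply,
    Nat.factorization_pow, Finsupp.coe_smul, Pi.smul_apply, smul_eq_mul] at h1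
  have hef : e = f := by
    rcases he with rfl | rfl <;> rcases hf with rfl | rfl
    · rfl
    · rw [Nat.factorization_one, hp.factorization_self] at h1; simp at h1; omega
    · rw [Nat.factorization_one, hp.factorization_self] at h1; simp at h1; omega
    · rfl
  refine ⟨?_, hef⟩
  rw [hef] at h
  exact Nat.pow_left_injective two_ne_zero (Nat.eq_of_mul_eq_mul_right (Nat.pos_of_ne_zero hf0) h)

omit hP in
theorem card_le_mul {Y W : Subgroup Q} (y₀ : Q) (hy₀ : y₀ ^ p ∈ W)
    (hY : ∀ y ∈ Y, ∃ i : ℤ, ∃ w ∈ W, y = y₀ ^ i * w) : Nat.card Y ≤ p * Nat.card W := by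
  have hp : p.Prime := Fact.out
  choose f w hw hf using hY
  have key : ∀ y (hy : y ∈ Y), ∃ v : W, y = y₀ ^ ((f y hy % p).toNat) * v := by
    intro y hy
    refine ⟨⟨(y₀ ^ p) ^ (f y hy / p) * w y hy, mul_mem (Subgroup.zpow_mem _ hy₀ _) (hw y hy)⟩, ?_⟩
    show y = y₀ ^ _ * ((y₀ ^ p) ^ (f y hy / p) * w y hy)
    rw [← mul_assoc, ← zpow_natCast y₀ (f y hy % p).toNat, ← zpow_natCast y₀ p, ← zpow_mul,
      ← zpow_add, Int.toNat_of_nonneg (Int.emod_nonneg _ (by exact_mod_cast hp.ne_zero)),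
      Int.emod_add_mul_ediv]
    exact hf y hy
  choose v hv using key
  have hlt : ∀ y (hy : y ∈ Y), (f y hy % p).toNat < p := fun y hy => by
    have h1 := Int.emod_lt_of_pos (f y hy) (show (0 : ℤ) < p by exact_mod_cast hp.pos)
    have h2 := hp.pos
    omega
  refine (Nat.card_le_card_of_injective
    (fun y : Y => ((⟨_, hlt y.1 y.2⟩ : Fin p), v y.1 y.2)) fun a b hab => ?_).trans
    (by rw [Nat.card_prod, Nat.card_fin])
  simp only [Prod.mk.injEq, Fin.mk.injEq] at hab
  apply Subtype.ext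
  rw [hv a.1 a.2, hv b.1 b.2, hab.1, hab.2]

theorem not_card_sq (hQ : EqDeg Q) : Nat.card (commutator Q) ≠ p ^ 2 := by
  classical
  intro hcard
  have hp : p.Prime := Fact.out
  set D := commutator Q with hD
  -- facts about a central subgroup of order `p` in `Q'`
  have factsA : ∀ A : Subgroup Q, A ≤ D → A ≤ Subgroup.center Q → Nat.card A = p →
      (∀ g : Q, ∀ c ∈ D, ⁅g, c⁆ ∈ A) ∧ (∀ c ∈ D, c ^ p ∈ A) ∧
        ∃ χ : Cfsg.IrrCharacter Q, Cfsg.charDegree χ.1 ≠ 1 ∧ kerS χ = A := by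
    intro A hAD hAZ hA
    haveI : A.Normal := ⟨fun a ha g => by
      rwa [Subgroup.mem_center_iff.1 (hAZ ha) g, mul_inv_cancel_right]⟩
    set f := QuotientGroup.mk' A with hf
    haveI : (D.map f).Normal := Subgroup.Normal.map inferInstance f (QuotientGroup.mk'_surjective A)
    have hN : Nat.card (D.map f) = p := by
      have h1 := (f.comp D.subtype).ker.index_mul_card
      rw [Subgroup.index_ker, MonoidHom.range_comp, Subgroup.range_subtype,
        ← MonoidHom.comap_ker, QuotientGroup.ker_mk'] at h1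
      have h2 : Nat.card (A.comap D.subtype) = p := by
        rw [← hA]; exact Nat.card_congr (Subgroup.subgroupOfEquivOfLe hAD).toEquiv
      rw [h2, hcard, pow_two] at h1
      exact Nat.eq_of_mul_eq_mul_right hp.pos h1
    have hNc := PGroup.le_center_of_card_eq (hP.to_quotient A) (D.map f) hN
    refine ⟨fun g c hc => ?_, fun c hc => ?_, ?_⟩
    · rw [← QuotientGroup.eq_one_iff]
      show f ⁅g, c⁆ = 1
      rw [map_commutatorElement, commutatorElement_eq_one_iff_mul_comm]
      exact Subgroup.mem_center_iff.1 (hNc ⟨c, hc, rfl⟩) (f g)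
    · rw [← QuotientGroup.eq_one_iff]
      show f (c ^ p) = 1
      have h1 : (⟨f c, c, hc, rfl⟩ : D.map f) ^ Nat.card (D.map f) = 1 := pow_card_eq_one'
      rw [hN] at h1
      rw [map_pow]
      exact congrArg Subtype.val h1
    · obtain ⟨χ, hd, hle⟩ := exists_nonlinear_trivOn A (fun h => by
        have := Subgroup.card_le_of_le h
        rw [← hD, hcard, hA] at this
        nlinarith [hp.two_le])
      refine ⟨χ, hd, (eq_comm.1 (Subgroup.eq_of_le_of_card_ge hle ?_))⟩
      have hk := Subgroup.card_dvd_of_le (kerS_le hQ hd)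
      rw [← hD, hcard] at hk
      obtain ⟨j, hj, hj'⟩ := (Nat.dvd_prime_pow hp).1 hk
      have hj2 : j ≠ 2 := by
        rintro rfl
        exact not_le_kerS hd (Subgroup.eq_of_le_of_card_ge (kerS_le hQ hd) (by rw [← hD, hcard, hj'])).ge
      rw [hj', hA]
      exact (Nat.pow_le_pow_right hp.pos (show j ≤ 1 by omega)).trans (le_of_eq (pow_one p))
  -- the centre of the character with kernel `A`
  have factsY : ∀ A : Subgroup Q, A ≤ D → A ≤ Subgroup.center Q → Nat.card A = p →
      ∀ χ : Cfsg.IrrCharacter Q, kerS χ = A →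
        Cfsg.charDegree χ.1 ^ 2 * Nat.card (centreSub χ) = Nat.card Q ∧
        (∃ e, (e = 1 ∨ e = p) ∧ Nat.card (centreSub χ) = e * Nat.card (Subgroup.center Q)) ∧
        ∃ y₀ : centreSub χ, ((y₀ : Q) ^ p ∈ Subgroup.center Q) ∧
          ∀ y ∈ centreSub χ, ∃ i : ℤ, ∃ w ∈ A, y = (y₀ : Q) ^ i * w := by
    intro A hAD hAZ hA χ hχ
    have hAp : ∀ a ∈ A, a ^ p = 1 := fun a ha => by
      have h1 : (⟨a, ha⟩ : A) ^ Nat.card A = 1 := pow_card_eq_one'
      rw [hA] at h1
      exact congrArg Subtype.val h1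
    haveI : Finite (omegaHom χ).toHomUnits.range :=
      Finite.of_surjective _ (omegaHom χ).toHomUnits.rangeRestrict_surjective
    haveI : IsCyclic (omegaHom χ).toHomUnits.range := isCyclic_of_subgroup_isDomain
      ((Units.coeHom ℂ).comp (omegaHom χ).toHomUnits.range.subtype)
      (Units.val_injective.comp Subtype.val_injective)
    obtain ⟨⟨u, hu⟩, hgen⟩ := IsCyclic.exists_generator (α := (omegaHom χ).toHomUnits.range)
    obtain ⟨y₀, rfl⟩ := hu
    have hy0 : (y₀ : Q) ^ p ∈ Subgroup.center Q := pow_mem_center hAZ p hAp fun g => hχ ▸ y₀.2 g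
    have hrep : ∀ y ∈ centreSub χ, ∃ i : ℤ, ∃ w ∈ A, y = (y₀ : Q) ^ i * w := by
      intro y hy
      obtain ⟨i, hi⟩ := Subgroup.mem_zpowers_iff.1 (hgen ⟨_, ⟨⟨y, hy⟩, rfl⟩⟩)
      refine ⟨i, ((y₀ ^ i)⁻¹ * ⟨y, hy⟩ : centreSub χ), hχ ▸ (omegaHom_eq_one_iff χ _).1 ?_, by simp⟩
      have hi' : (omegaHom χ).toHomUnits (y₀ ^ i) = (omegaHom χ).toHomUnits ⟨y, hy⟩ := by
        rw [map_zpow]; exact congrArg Subtype.val hi
      rw [← MonoidHom.coe_toHomUnits, map_mul, map_inv, hi', inv_mul_cancel, Units.val_one]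
    refine ⟨degree_sq_mul χ fun x g y => hχ ▸ (factsA A hAD hAZ hA).1 x _ (com_mem_commutator g y),
      ?_, y₀, hy0, hrep⟩
    obtain ⟨e, he⟩ := Subgroup.card_dvd_of_le (center_le_centreSub χ)
    have hle : Nat.card (centreSub χ) ≤ p * Nat.card (Subgroup.center Q) :=
      card_le_mul (y₀ : Q) hy0 fun y hy => let ⟨i, w, hw, h⟩ := hrep y hy; ⟨i, w, hAZ hw, h⟩
    refine ⟨e, ?_, by rw [he, mul_comm]⟩
    obtain ⟨n, hn⟩ := IsPGroup.iff_card.1 (hP.to_subgroup (centreSub χ))
    obtain ⟨j, -, rfl⟩ := (Nat.dvd_prime_pow hp).1 (hn ▸ Dvd.intro_left _ he.symm : e ∣ p ^ n)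
    rw [he, mul_comm p] at hle
    have hjp : p ^ j ≤ p ^ 1 := by rw [pow_one]; exact Nat.le_of_mul_le_mul_left hle Nat.card_pos
    rcases Nat.le_one_iff_eq_zero_or_eq_one.1 ((Nat.pow_le_pow_iff_right hp.one_lt).1 hjp) with rfl | rfl
    · exact Or.inl (pow_zero p)
    · exact Or.inr (pow_one p)
  have hZpos : 0 < Nat.card (Subgroup.center Q) := Nat.card_pos
  -- there is only one such subgroup
  have huniq : ∀ A B : Subgroup Q, A ≤ D → A ≤ Subgroup.center Q → Nat.card A = p →
      B ≤ D → B ≤ Subgroup.center Q → Nat.card B = p → A = B := by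
    intro A B hA1 hA2 hA3 hB1 hB2 hB3
    obtain ⟨-, -, χ, hχd, hχ⟩ := factsA A hA1 hA2 hA3
    obtain ⟨-, -, ψ, hψd, hψ⟩ := factsA B hB1 hB2 hB3
    obtain ⟨h1, ⟨e, he, hYe⟩, -⟩ := factsY A hA1 hA2 hA3 χ hχ
    obtain ⟨h2, ⟨f, hf, hYf⟩, -⟩ := factsY B hB1 hB2 hB3 ψ hψ
    rw [hYe, ← mul_assoc] at h1
    rw [hYf, ← mul_assoc] at h2
    have := Nat.eq_of_mul_eq_mul_right hZpos (h1.trans h2.symm)
    have hd := (eq_of_sq_mul (Char.charDegree_pos χ) (Char.charDegree_pos ψ) he hf this).1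
    rw [← hχ, ← hψ]
    exact kerS_eq_of_deg hQ hχd hd
  have hD0 : D ≠ ⊥ := fun h => by
    rw [h, Subgroup.card_bot] at hcard
    exact (Nat.one_lt_pow two_ne_zero hp.one_lt).ne hcard
  obtain ⟨z, hzD, hzZ, hz⟩ := PGroup.exists_orderOf_eq_mem_center hP D hD0
  set A := Subgroup.zpowers z with hAdef
  have hAD : A ≤ D := Subgroup.zpowers_le.2 hzD
  have hAZ : A ≤ Subgroup.center Q := Subgroup.zpowers_le.2 hzZ
  have hA : Nat.card A = p := by rw [hAdef, Nat.card_zpowers, hz]
  obtain ⟨hcomA, hpowA, χA, hχAd, hχA⟩ := factsA A hAD hAZ hA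
  obtain ⟨χ, hχ⟩ := exists_not_le_kerS A (fun h => by rw [h, Subgroup.card_bot] at hA; exact hp.one_lt.ne hA)
  have hχd : Cfsg.charDegree χ.1 ≠ 1 := fun h => hχ fun a ha => by
    obtain ⟨lam, hlam⟩ := Char.IsCharacter.exists_monoidHom (Char.irr_isCharacter χ) ((deg_eq_one_iff χ).1 h)
    have hle : D ≤ lam.toHomUnits.ker := Abelianization.commutator_subset_ker _
    rw [CharInt.mem_charKernel, ← hlam, map_one]
    simpa [Units.ext_iff] using MonoidHom.mem_ker.1 (hle (hAD ha))
  have hker : kerS χ = ⊥ := by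
    by_contra hne
    obtain ⟨w, hwk, hwZ, hw⟩ := PGroup.exists_orderOf_eq_mem_center hP (kerS χ) hne
    have hwA : Subgroup.zpowers w = A := huniq _ _ (Subgroup.zpowers_le.2 (kerS_le hQ hχd hwk))
      (Subgroup.zpowers_le.2 hwZ) (by rw [Nat.card_zpowers, hw]) hAD hAZ hA
    exact hχ (hwA ▸ Subgroup.zpowers_le.2 hwk)
  have hdne : Cfsg.charDegree χA.1 ≠ Cfsg.charDegree χ.1 := fun h => by
    have := kerS_eq_of_deg hQ hχAd h
    rw [hχA, hker] at this
    rw [this, Subgroup.card_bot] at hA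
    exact hp.one_lt.ne hA
  obtain ⟨hAsq, ⟨e, he, hYe⟩, y₀, hy0, hrep⟩ := factsY A hAD hAZ hA χA hχA
  by_cases hDZ : D ≤ Subgroup.center Q
  · -- `Q'` central
    have h2 : Cfsg.charDegree χ.1 ^ 2 * Nat.card (Subgroup.center Q) = Nat.card Q := by
      rw [← centreSub_eq_center hker]
      refine degree_sq_mul χ fun x g y => ?_
      rw [commutatorElement_eq_one_iff_mul_comm.2
        (Subgroup.mem_center_iff.1 (hDZ (com_mem_commutator g y)) x)]
      exact one_mem _
    rw [hYe, ← mul_assoc, ← h2] at hAsq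
    have h3 := Nat.eq_of_mul_eq_mul_right hZpos hAsq
    exact hdne (eq_of_sq_mul (Char.charDegree_pos χA) (Char.charDegree_pos χ) he (Or.inl rfl)
      (by rw [h3, mul_one])).1
  · -- `Q'` not central
    obtain ⟨b, hbD, hbZ⟩ := SetLike.not_le_iff_exists.1 hDZ
    have hDY : D ≤ centreSub χA := fun c hc g => hχA ▸ hcomA g c hc
    obtain ⟨i, w, hw, hb⟩ := hrep b (hDY hbD)
    have hi : ¬ (p : ℤ) ∣ i := by
      rintro ⟨l, rfl⟩
      apply hbZ
      rw [hb, zpow_mul, zpow_natCast]
      exact mul_mem (Subgroup.zpow_mem _ hy0 _) (hAZ hw)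
    have hy0A : (y₀ : Q) ^ p ∈ A := by
      have h1 : b ^ p ∈ A := hpowA b hbD
      have hcom : Commute ((y₀ : Q) ^ i) w := (Subgroup.mem_center_iff.1 (hAZ hw) _)
      rw [hb, hcom.mul_pow, Subgroup.mul_mem_cancel_right _ (Subgroup.pow_mem _ hw p),
        ← zpow_natCast, ← zpow_mul, mul_comm, zpow_mul, zpow_natCast] at h1
      rw [← hχA, ← SubmonoidClass.coe_pow, ← omegaHom_eq_one_iff, ← MonoidHom.coe_toHomUnits,
        Units.val_eq_one]
      have h2 : (omegaHom χA).toHomUnits ((y₀ ^ p) ^ i) = 1 := by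
        rw [← Units.val_eq_one, MonoidHom.coe_toHomUnits, omegaHom_eq_one_iff, hχA]
        simpa using h1
      rw [map_zpow, ← orderOf_dvd_iff_zpow_eq_one] at h2
      obtain ⟨n, hn⟩ := IsPGroup.iff_card.1 (hP.to_subgroup (centreSub χA))
      have h3 : orderOf ((omegaHom χA).toHomUnits (y₀ ^ p)) ∣ p ^ n :=
        hn ▸ (orderOf_map_dvd _ _).trans (orderOf_dvd_natCard _)
      obtain ⟨j, -, hj⟩ := (Nat.dvd_prime_pow hp).1 h3
      rw [← orderOf_eq_one_iff, hj]
      rcases Nat.eq_zero_or_pos j with rfl | hj0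
      · exact pow_zero p
      · refine absurd ((Int.natCast_dvd_natCast.2 ?_).trans h2) hi
        rw [hj]; exact dvd_pow_self p hj0.ne'
    have hY2 : Nat.card (centreSub χA) ≤ p ^ 2 := by
      rw [pow_two]; conv_rhs => arg 2; rw [← hA]
      exact card_le_mul (y₀ : Q) hy0A hrep
    have hYD : centreSub χA = D := (Subgroup.eq_of_le_of_card_ge hDY (hcard.symm ▸ hY2)).symm
    have hZD : ∀ c ∈ D, c ∈ Subgroup.center Q → c ∈ A := by
      intro c hcD hcZ
      have hk := Subgroup.card_dvd_of_le (inf_le_left : D ⊓ Subgroup.center Q ≤ D)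
      rw [hcard] at hk
      obtain ⟨j, hj, hj'⟩ := (Nat.dvd_prime_pow hp).1 hk
      have hj1 : j ≤ 1 := by
        by_contra hj1
        refine hDZ (inf_eq_left.1 (Subgroup.eq_of_le_of_card_ge inf_le_left ?_))
        rw [hj', hcard, show j = 2 by omega]
      have := Subgroup.eq_of_le_of_card_ge (le_inf hAD hAZ)
        (by rw [hj', hA]; exact (Nat.pow_le_pow_right hp.pos hj1).trans (le_of_eq (pow_one p)))
      exact this ▸ ⟨hcD, hcZ⟩
    set C := Subgroup.centralizer ({b} : Set Q) with hC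
    have hCp : C.index ≤ p := by
      rw [← hA, Subgroup.index_eq_card]
      refine Nat.card_le_card_of_injective (fun q => (⟨⁅q.out, b⁆, hcomA _ b hbD⟩ : A)) fun q r hqr => ?_
      rw [← QuotientGroup.out_eq' q, ← QuotientGroup.out_eq' r, QuotientGroup.eq]
      refine Subgroup.mem_centralizer_singleton_iff.2 ?_
      have h1 : q.out * b * q.out⁻¹ = r.out * b * r.out⁻¹ := by
        have := congrArg Subtype.val hqr
        simpa [commutatorElement_def] using this
      calc q.out⁻¹ * r.out * b = q.out⁻¹ * (r.out * b * r.out⁻¹) * r.out := by group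
        _ = _ := by rw [← h1]; group
    have hCtop : C ≠ ⊤ := fun h => hbZ (Subgroup.mem_center_iff.2 fun g =>
      Subgroup.mem_centralizer_singleton_iff.1 (show g ∈ C from h ▸ Subgroup.mem_top g))
    obtain ⟨t, ht⟩ : ∃ t, t ∉ C := by
      by_contra hcon; push Not at hcon; exact hCtop ((Subgroup.eq_top_iff' C).2 hcon)
    have hCcent : ∀ c ∈ C, ∀ d ∈ D, c * d = d * c := by
      intro c hc d hd
      have hle : A ≤ D ⊓ Subgroup.centralizer {c} := le_inf hAD fun a ha =>
        Subgroup.mem_centralizer_singleton_iff.2 (Subgroup.mem_center_iff.1 (hAZ ha) c).symm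
      have hbm : b ∈ D ⊓ Subgroup.centralizer {c} := ⟨hbD,
        Subgroup.mem_centralizer_singleton_iff.2 (Subgroup.mem_centralizer_singleton_iff.1 hc).symm⟩
      have hk := Subgroup.card_dvd_of_le (inf_le_left : D ⊓ Subgroup.centralizer {c} ≤ D)
      rw [hcard] at hk
      obtain ⟨j, hj, hj'⟩ := (Nat.dvd_prime_pow hp).1 hk
      have hall : D ⊓ Subgroup.centralizer {c} = D := by
        refine Subgroup.eq_of_le_of_card_ge inf_le_left ?_
        rw [hcard, hj']
        refine Nat.pow_le_pow_right hp.pos ?_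
        by_contra hj1
        have := Subgroup.eq_of_le_of_card_ge hle
          (by rw [hj', hA]; exact (Nat.pow_le_pow_right hp.pos (by omega : j ≤ 1)).trans (le_of_eq (pow_one p)))
        exact hbZ (hAZ (this.symm ▸ hbm))
      exact (Subgroup.mem_centralizer_singleton_iff.1 (hall.symm ▸ hd : d ∈ D ⊓ Subgroup.centralizer {c}).2).symm
    have hCC : ∀ a ∈ C, ∀ c ∈ C, ⁅a, c⁆ ∈ A := by
      have h0 : ⁅⁅(⊤ : Subgroup Q), C⁆, C⁆ = ⊥ := Subgroup.commutator_eq_bot_iff_le_centralizer.2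
        fun x hx => Subgroup.mem_centralizer_iff.2 fun c hc =>
          hCcent c hc x (Subgroup.commutator_mono le_rfl le_top hx)
      have h0' : ⁅⁅C, (⊤ : Subgroup Q)⁆, C⁆ = ⊥ := by rwa [Subgroup.commutator_comm C ⊤]
      have h := Subgroup.commutator_commutator_eq_bot_of_rotate h0' h0
      intro a ha c hc
      refine hZD _ (com_mem_commutator a c) (Subgroup.mem_center_iff.2 fun g => ?_)
      exact Subgroup.mem_centralizer_iff.1
        (Subgroup.commutator_eq_bot_iff_le_centralizer.1 h (Subgroup.commutator_mem_commutator ha hc))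
        g (Subgroup.mem_top g)
    haveI : A.Normal := ⟨fun a ha g => by
      rwa [Subgroup.mem_center_iff.1 (hAZ ha) g, mul_inv_cancel_right]⟩
    let φ : C →* Q ⧸ A :=
      { toFun := fun c => ((⁅t, (c : Q)⁆ : Q) : Q ⧸ A)
        map_one' := by simp
        map_mul' := fun a c => by
          rw [Subgroup.coe_mul, com_mul_right, QuotientGroup.mk_mul]
          congr 1
          rw [QuotientGroup.eq]
          have e : ((a : Q) * ⁅t, (c : Q)⁆ * (a : Q)⁻¹)⁻¹ * ⁅t, (c : Q)⁆ =
              ⁅(a : Q), ⁅t, (c : Q)⁆⁻¹⁆ := by simp only [commutatorElement_def]; group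
          rw [e]
          exact hcomA _ _ (inv_mem (com_mem_commutator _ _)) }
    have hφker : φ.ker ≤ D.subgroupOf C := by
      intro c hc
      rw [Subgroup.mem_subgroupOf, ← hYD]
      have htc : ⁅t, (c : Q)⁆ ∈ A := (QuotientGroup.eq_one_iff _).1 hc
      intro g
      rw [hχA]
      let S : Subgroup Q :=
        { carrier := {g | ⁅g, (c : Q)⁆ ∈ A}
          one_mem' := by simp
          mul_mem' := fun {x y} hx hy => by
            show ⁅x * y, (c : Q)⁆ ∈ A
            rw [com_mul_left]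
            exact mul_mem ((inferInstance : A.Normal).conj_mem _ hy x) hx
          inv_mem' := fun {x} hx => by
            show ⁅x⁻¹, (c : Q)⁆ ∈ A
            have e : ⁅x⁻¹, (c : Q)⁆ = x⁻¹ * ⁅x, (c : Q)⁆⁻¹ * x⁻¹⁻¹ := by
              simp only [commutatorElement_def]; group
            rw [e]
            exact (inferInstance : A.Normal).conj_mem _ (inv_mem hx) _ }
      have hCS : C ≤ S := fun a ha => hCC a ha c c.2
      have hlt : C < S := lt_of_le_of_ne hCS fun h => ht (h ▸ (htc : t ∈ S))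
      have h1 := Subgroup.index_strictAnti hlt
      obtain ⟨n, hn⟩ := IsPGroup.iff_card.1 hP
      obtain ⟨j, -, hj⟩ := (Nat.dvd_prime_pow hp).1 (hn ▸ S.index_dvd_card)
      have hS : S = ⊤ := by
        rw [← Subgroup.index_eq_one, hj]
        rcases Nat.eq_zero_or_pos j with rfl | hj0
        · exact pow_zero p
        · have := Nat.le_self_pow hj0.ne' p
          omega
      exact (hS.symm ▸ Subgroup.mem_top g : g ∈ S)
    have hφrange : Nat.card φ.range ≤ p := by
      have hN : φ.range ≤ D.map (QuotientGroup.mk' A) := by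
        rintro _ ⟨c, rfl⟩
        exact ⟨_, com_mem_commutator _ _, rfl⟩
      refine (Subgroup.card_le_of_le hN).trans ?_
      have h1 := ((QuotientGroup.mk' A).comp D.subtype).ker.index_mul_card
      rw [Subgroup.index_ker, MonoidHom.range_comp, Subgroup.range_subtype,
        ← MonoidHom.comap_ker, QuotientGroup.ker_mk'] at h1
      have h2 : Nat.card (A.comap D.subtype) = p := by
        rw [← hA]; exact Nat.card_congr (Subgroup.subgroupOfEquivOfLe hAD).toEquiv
      rw [h2, hcard, pow_two] at h1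
      exact (Nat.eq_of_mul_eq_mul_right hp.pos h1).le
    have hQ4 : Nat.card Q ≤ p ^ 4 := by
      rw [← C.index_mul_card, ← φ.ker.index_mul_card, Subgroup.index_ker]
      have h1 : Nat.card φ.ker ≤ p ^ 2 := by
        refine (Subgroup.card_le_of_le hφker).trans ?_
        rw [← hcard]
        exact Nat.card_le_card_of_injective (fun c : D.subgroupOf C => (⟨((c : C) : Q), c.2⟩ : D))
          fun x y h => Subtype.ext (Subtype.ext (congrArg (fun z : D => (z : Q)) h))
      calc _ ≤ p * (p * p ^ 2) := Nat.mul_le_mul hCp (Nat.mul_le_mul hφrange h1)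
        _ = _ := by ring
    have hdeg : ∀ η : Cfsg.IrrCharacter Q, Cfsg.charDegree η.1 ≠ 1 → Cfsg.charDegree η.1 = p := by
      intro η hη
      haveI := Fintype.ofFinite Q
      obtain ⟨j, hj⟩ := degree_is_pow hP η
      have hne : Char.trivialChar Q ≠ η := fun h => hη (by simp [← h, Cfsg.charDegree])
      have hs := Finset.sum_le_sum_of_subset (f := fun χ : Cfsg.IrrCharacter Q => Char.degree χ ^ 2)
        (Finset.subset_univ ({Char.trivialChar Q, η} : Finset (Cfsg.IrrCharacter Q)))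
      rw [Finset.sum_pair hne, Char.sum_degree_sq, ← Char.charDegree_eq_degree η, hj] at hs
      have h1 : 0 < Char.degree (Char.trivialChar Q) ^ 2 := pow_pos (Char.degree_pos _) 2
      have h2 : p ^ (j * 2) < p ^ 4 := by rw [pow_mul]; omega
      have h3 := (Nat.pow_lt_pow_iff_right hp.one_lt).1 h2
      have hj1 : j = 1 := by
        rcases j with _ | j
        · exact absurd (by rw [hj, pow_zero]) hη
        · omega
      rw [hj, hj1, pow_one]
    exact hdne ((hdeg χA hχAd).trans (hdeg χ hχd).symm)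

end PGroup

theorem eqDeg_quotient (hQ : EqDeg Q) (A : Subgroup Q) [A.Normal] : EqDeg (Q ⧸ A) := by
  intro χ ψ h1 h2
  have hd : ∀ η : Cfsg.IrrCharacter (Q ⧸ A),
      Cfsg.charDegree (Char.inflate A η).1 = Cfsg.charDegree η.1 := fun η => by
    unfold Cfsg.charDegree; simp
  obtain ⟨k, hk, h⟩ := hQ (Char.inflate A χ) (Char.inflate A ψ) (by rwa [hd]) (by rwa [hd, hd])
  refine ⟨k, hk.coprime_dvd_right (Subgroup.card_quotient_dvd_card A), fun x => ?_⟩
  obtain ⟨g, rfl⟩ := QuotientGroup.mk_surjective x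
  simpa using h g

theorem derived_card_dvd {p : ℕ} [Fact p.Prime] :
    ∀ (n : ℕ) (Q : Type u) [Group Q] [Finite Q], Nat.card Q = n → IsPGroup p Q → EqDeg Q →
      Nat.card (commutator Q) ∣ p := by
  intro n
  induction n using Nat.strong_induction_on with
  | _ n ih =>
    intro Q _ _ hn hP hQ
    have hp : p.Prime := Fact.out
    obtain ⟨j, hj⟩ := IsPGroup.iff_card.1 (hP.to_subgroup (commutator Q))
    have h2 : j ≠ 2 := fun h => not_card_sq hP hQ (h ▸ hj)
    by_contra hnot
    have hj3 : 3 ≤ j := by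
      rcases j with _ | _ | _ | j
      · exact absurd (by rw [hj, pow_zero]; exact one_dvd p) hnot
      · exact absurd (by rw [hj, pow_one]) hnot
      · omega
      · omega
    have hne : commutator Q ≠ ⊥ := fun h => hnot (by rw [h, Subgroup.card_bot]; exact one_dvd p)
    obtain ⟨z, hzD, hzZ, hz⟩ := PGroup.exists_orderOf_eq_mem_center hP _ hne
    set A := Subgroup.zpowers z with hAdef
    haveI : A.Normal := ⟨fun a ha g => by
      rwa [Subgroup.mem_center_iff.1 (Subgroup.zpowers_le.2 hzZ ha) g, mul_inv_cancel_right]⟩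
    have hA : Nat.card A = p := by rw [hAdef, Nat.card_zpowers, hz]
    have hlt : Nat.card (Q ⧸ A) < n := by
      rw [← hn, Subgroup.card_eq_card_quotient_mul_card_subgroup A, hA]
      exact lt_mul_of_one_lt_right Nat.card_pos hp.one_lt
    have hdvd := ih _ hlt (Q ⧸ A) rfl (hP.to_quotient A) (eqDeg_quotient hQ A)
    set f := QuotientGroup.mk' A
    have hmap : (commutator Q).map f = commutator (Q ⧸ A) := by
      rw [commutator_def, Subgroup.map_commutator,
        Subgroup.map_top_of_surjective _ (QuotientGroup.mk'_surjective A), commutator_def]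
    have h1 := (f.comp (commutator Q).subtype).ker.index_mul_card
    rw [Subgroup.index_ker, MonoidHom.range_comp, Subgroup.range_subtype, hmap,
      ← MonoidHom.comap_ker, QuotientGroup.ker_mk'] at h1
    have h3 : Nat.card (A.comap (commutator Q).subtype) = p := by
      rw [← hA]
      exact Nat.card_congr (Subgroup.subgroupOfEquivOfLe (Subgroup.zpowers_le.2 hzD)).toEquiv
    rw [h3, hj] at h1
    have h4 : p ^ j ∣ p ^ 2 := by rw [← h1, pow_two]; exact Nat.mul_dvd_mul hdvd dvd_rfl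
    have := (Nat.pow_dvd_pow_iff_le_right hp.one_lt).1 h4
    omega

/-- Let p be a prime and P a finite non-commutative p-group. Then every two irreducible characters of P of the same degree greater than 1 are Galois conjugate (one is obtained from the other by composing with g ↦ g^k for some k prime to the order of P) if and only if the centre of P is cyclic and the derived subgroup of P has order p. -/
theorem result {P : Type*} [Group P] [Finite P] (p : ℕ) [Fact p.Prime] (hP : IsPGroup p P) (hna : ¬ IsMulCommutative P) :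
    (∀ χ ψ : Cfsg.IrrCharacter P, Cfsg.charDegree (χ : P → ℂ) ≠ 1 → Cfsg.charDegree (χ : P → ℂ) = Cfsg.charDegree (ψ : P → ℂ) → ∃ k : ℕ, Nat.Coprime k (Nat.card P) ∧ ∀ g : P, (ψ : P → ℂ) g = (χ : P → ℂ) (g ^ k)) ↔
      (IsCyclic (Subgroup.center P) ∧ Nat.card (commutator P) = p) := by
  classical
  have hp : p.Prime := Fact.out
  have hne : commutator P ≠ ⊥ := fun h => hna ⟨⟨fun a b => commutatorElement_eq_one_iff_mul_comm.1
    (Subgroup.mem_bot.1 (h ▸ com_mem_commutator a b))⟩⟩
  constructor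
  · intro hQ
    have hc : Nat.card (commutator P) = p :=
      ((Nat.dvd_prime hp).1 (derived_card_dvd (p := p) _ P rfl hP hQ)).resolve_left
        fun h => hne ((commutator P).eq_bot_of_card_eq h)
    refine ⟨?_, hc⟩
    obtain ⟨χ, hd, -⟩ := exists_nonlinear_trivOn (⊥ : Subgroup P) (fun h => hne (le_bot_iff.1 h))
    have hk : kerS χ = ⊥ := by
      have h1 := Subgroup.card_dvd_of_le (kerS_le hQ hd)
      rw [hc] at h1
      rcases (Nat.dvd_prime hp).1 h1 with h | h
      · exact (kerS χ).eq_bot_of_card_eq h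
      · exact absurd (Subgroup.eq_of_le_of_card_ge (kerS_le hQ hd) (by rw [hc, h])).ge (not_le_kerS hd)
    refine isCyclic_of_subgroup_isDomain
      ((omegaHom χ).comp (Subgroup.inclusion (center_le_centreSub χ))) ?_
    rw [injective_iff_map_eq_one]
    intro y hy
    have := (omegaHom_eq_one_iff χ _).1 hy
    rw [hk, Subgroup.mem_bot] at this
    exact Subtype.ext this
  · rintro ⟨hcyc, hc⟩ χ ψ hd hdeg
    haveI := hcyc
    have hDZ : commutator P ≤ Subgroup.center P := PGroup.le_center_of_card_eq hP _ hc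
    have hker : ∀ η : Cfsg.IrrCharacter P, Cfsg.charDegree η.1 ≠ 1 → kerS η = ⊥ := by
      intro η hη
      by_contra hk
      obtain ⟨z, hzk, hzZ, hz⟩ := PGroup.exists_orderOf_eq_mem_center hP (kerS η) hk
      refine not_le_kerS hη fun c hcD => ?_
      haveI := Fintype.ofFinite (Subgroup.center P)
      set S : Finset (Subgroup.center P) := Finset.univ.filter fun x => x ^ p = 1
      have hS : S.card ≤ p := IsCyclic.card_pow_eq_one_le hp.pos
      have hzS : ∀ x : Subgroup.zpowers z, (⟨x.1, Subgroup.zpowers_le.2 hzZ x.2⟩ : Subgroup.center P) ∈ S := by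
        intro x
        refine Finset.mem_filter.2 ⟨Finset.mem_univ _, Subtype.ext ?_⟩
        have h1 : x ^ Nat.card (Subgroup.zpowers z) = 1 := pow_card_eq_one'
        rw [Nat.card_zpowers, hz] at h1
        simpa using congrArg Subtype.val h1
      have hcS : (⟨c, hDZ hcD⟩ : Subgroup.center P) ∈ S := by
        refine Finset.mem_filter.2 ⟨Finset.mem_univ _, Subtype.ext ?_⟩
        have h1 : (⟨c, hcD⟩ : commutator P) ^ Nat.card (commutator P) = 1 := pow_card_eq_one'
        rw [hc] at h1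
        simpa using congrArg Subtype.val h1
      have hbij : Function.Bijective
          (fun x : Subgroup.zpowers z => (⟨_, hzS x⟩ : S)) := by
        rw [Nat.bijective_iff_injective_and_card]
        have hinj : Function.Injective (fun x : Subgroup.zpowers z => (⟨_, hzS x⟩ : S)) :=
          fun a b h => Subtype.ext (congrArg (fun w : S => ((w.1 : Subgroup.center P) : P)) h)
        refine ⟨hinj, le_antisymm (Nat.card_le_card_of_injective _ hinj) ?_⟩
        rw [Nat.card_zpowers, hz, Nat.card_eq_fintype_card, Fintype.card_coe]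
        exact hS
      obtain ⟨x, hx⟩ := hbij.2 ⟨_, hcS⟩
      have hxc : (x : P) = c := congrArg (fun w : S => ((w.1 : Subgroup.center P) : P)) hx
      exact hxc ▸ Subgroup.zpowers_le.2 hzk x.2
    have hψd : Cfsg.charDegree ψ.1 ≠ 1 := hdeg ▸ hd
    have hcl : ∀ η : Cfsg.IrrCharacter P, ∀ x g y : P, ⁅x, ⁅g, y⁆⁆ ∈ kerS η := fun η x g y => by
      rw [commutatorElement_eq_one_iff_mul_comm.2
        (Subgroup.mem_center_iff.1 (hDZ (com_mem_commutator g y)) x)]
      exact one_mem _
    let ω : ∀ η : Cfsg.IrrCharacter P, Subgroup.center P →* ℂ := fun η =>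
      (omegaHom η).comp (Subgroup.inclusion (center_le_centreSub η))
    have hinj : ∀ η : Cfsg.IrrCharacter P, Cfsg.charDegree η.1 ≠ 1 → Function.Injective (ω η) := by
      intro η hη
      rw [injective_iff_map_eq_one]
      intro y hy
      have := (omegaHom_eq_one_iff η _).1 hy
      rw [hker η hη, Subgroup.mem_bot] at this
      exact Subtype.ext this
    obtain ⟨z₀, hz₀⟩ := IsCyclic.exists_generator (α := Subgroup.center P)
    have hord : ∀ η : Cfsg.IrrCharacter P, Cfsg.charDegree η.1 ≠ 1 →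
        IsPrimitiveRoot (ω η z₀) (Nat.card (Subgroup.center P)) := fun η hη => by
      rw [IsPrimitiveRoot.iff_orderOf, orderOf_injective (ω η) (hinj η hη),
        orderOf_eq_card_of_forall_mem_zpowers hz₀]
    haveI : NeZero (Nat.card (Subgroup.center P)) := ⟨Nat.card_pos.ne'⟩
    obtain ⟨i, hi, hie⟩ := (hord χ hd).eq_pow_of_pow_eq_one (hord ψ hψd).pow_eq_one
    have hcop : i.Coprime (Nat.card (Subgroup.center P)) :=
      ((hord χ hd).pow_iff_coprime Nat.card_pos i).1 (hie ▸ hord ψ hψd)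
    obtain ⟨m, hm⟩ := IsPGroup.iff_card.1 hP
    have hpz : p ∣ Nat.card (Subgroup.center P) := hc ▸ Subgroup.card_dvd_of_le hDZ
    have hcopP : i.Coprime (Nat.card P) := by
      rw [hm]; exact Nat.Coprime.pow_right m (hcop.coprime_dvd_right hpz)
    refine ⟨i, hcopP, fun g => ?_⟩
    have hone : χ.1 1 = ψ.1 1 := by
      rw [← Char.charDegree_cast χ, ← Char.charDegree_cast ψ, hdeg]
    by_cases hg : g ∈ Subgroup.center P
    · obtain ⟨j, hj⟩ := mem_powers_iff_mem_zpowers.2 (hz₀ ⟨g, hg⟩)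
      have e1 : ψ.1 g = ψ.1 1 * ω ψ z₀ ^ j := by
        rw [← map_pow, show z₀ ^ j = ⟨g, hg⟩ from hj]
        exact apply_centre ψ ⟨g, _⟩
      have e2 : χ.1 (g ^ i) = χ.1 1 * ω χ z₀ ^ (j * i) := by
        rw [← map_pow, pow_mul, show z₀ ^ j = ⟨g, hg⟩ from hj]
        exact apply_centre χ ⟨g ^ i, _⟩
      rw [e1, e2, ← hone, ← hie, ← pow_mul, mul_comm i]
    · have hgi : g ^ i ∉ centreSub χ := by
        rw [centreSub_eq_center (hker χ hd)]
        intro h
        obtain ⟨l, hl⟩ := exists_pow_eq_self_of_coprime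
          (hcopP.coprime_dvd_right (orderOf_dvd_natCard g))
        exact hg (hl ▸ Subgroup.pow_mem _ h l)
      rw [off_centre χ (hcl χ) hgi, off_centre ψ (hcl ψ) (by rwa [centreSub_eq_center (hker ψ hψd)])]

end Cfsg.Agent.S4845
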