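import Cfsg.Statements.S4847
import Cfsg.Agent.Lib.ThreePrimes.CaseOne
import Cfsg.Agent.Lib.ThreePrimes.CaseTwo
import Cfsg.Agent.Lib.Solvable.Basic

set_option autoImplicit false
set_option linter.style.haveILetI false
open Cfsg

namespace Cfsg.Agent.S4847

open Cfsg.Agent.ThreePrimes Cfsg.Agent.Char

universe u

/-- Pálfy's three primes theorem. -/
theorem three_primes : ∀ (n : ℕ) (G : Type u) [Group G] [Finite G], Nat.card G = n →
    Group.IsSolvable G → ∀ p q r : ℕ, p.Prime → q.Prime → r.Prime → p ≠ q → q ≠ r → p ≠ r →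
    HasDeg G p → HasDeg G q → HasDeg G r →
    HasDeg G (p * q) ∨ HasDeg G (q * r) ∨ HasDeg G (p * r) := by
  intro n
  induction n using Nat.strong_induction_on with
  | _ n ih =>
    intro G _ _ hn hsolv p q r hp hq hr hpq hqr hpr hdp hdq hdr
    haveI := hsolv
    by_contra hcon
    obtain ⟨h1, h2, h3⟩ : ¬ HasDeg G (p * q) ∧ ¬ HasDeg G (q * r) ∧ ¬ HasDeg G (p * r) :=
      ⟨fun h => hcon (Or.inl h), fun h => hcon (Or.inr (Or.inl h)),
        fun h => hcon (Or.inr (Or.inr h))⟩
    haveI : Nontrivial G := by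
      by_contra hG
      haveI := not_nontrivial_iff_subsingleton.1 hG
      obtain ⟨χ, hχ⟩ := hdp
      haveI := Fintype.ofFinite G
      have h := apply_one_of_comm (fun a b : G => Subsingleton.elim _ _) χ
      rw [degree_eq_of_apply_one (n := 1) (by rw [h, Nat.cast_one])] at hχ
      exact hp.not_dvd_one hχ
    obtain ⟨N, hNn, -, hN, hmin⟩ :=
      Solvable.exists_minimal_normal (G := G) (K := ⊤) (top_ne_bot : (⊤ : Subgroup G) ≠ ⊥)
    haveI := hNn
    haveI : IsMulCommutative N := Solvable.isMulCommutative_of_minimal inferInstance hN hmin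
    obtain ⟨l, hl, he, -⟩ := Solvable.exists_prime_of_minimal hN hmin
    have core : ∀ {a b c : ℕ}, a.Prime → b.Prime → c.Prime → a ≠ b → b ≠ c → a ≠ c →
        HasDeg G a → HasDeg G b → HasDeg G c → ¬ HasDeg G (a * b) → ¬ HasDeg G (c * a) →
        ¬ HasDeg G (c * b) → HasDeg (G ⧸ N) c := by
      intro a b c ha hb hc hab hbc hac hda hdb hdc hnab hnca hncb
      by_contra hmiss
      rcases eq_or_ne c l with rfl | hcl
      · exact case_two hsolv ha hb hc hab hbc hac N hN hmin he hda hdb hdc hnab hnca hncb hmiss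
      · exact case_one hsolv ha hb hc hl hab hbc hac N hN hmin he hcl hda hdb hdc hnab hnca hncb
          hmiss
    have h1' : ¬ HasDeg G (q * p) := by rwa [mul_comm]
    have h2' : ¬ HasDeg G (r * q) := by rwa [mul_comm]
    have h3' : ¬ HasDeg G (r * p) := by rwa [mul_comm]
    have hlt : Nat.card (G ⧸ N) < n := by
      rw [← hn, Subgroup.card_eq_card_quotient_mul_card_subgroup N]
      exact lt_mul_of_one_lt_right Nat.card_pos ((Subgroup.one_lt_card_iff_ne_bot N).2 hN)
    rcases ih _ hlt (G ⧸ N) rfl inferInstance p q r hp hq hr hpq hqr hpr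
      (core hq hr hp hqr hpr.symm hpq.symm hdq hdr hdp h2 h1 h3)
      (core hp hr hq hpr hqr.symm hpq hdp hdr hdq h3 h1' h2)
      (core hp hq hr hpq hqr hpr hdp hdq hdr h1 h3' h2') with h | h | h
    · exact h1 (h.of_quotient N)
    · exact h2 (h.of_quotient N)
    · exact h3 (h.of_quotient N)

/-- Let G be a finite solvable group and p, q, r three distinct primes each dividing the degree of some irreducible character of G. Then for some two of them the product divides the degree of some irreducible character of G (the character degree graph of a solvable group has no three pairwise non-adjacent vertices). -/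
theorem result {G : Type*} [Group G] [Finite G] [hs : Group.IsSolvable G] (p q r : ℕ) (hp : p.Prime) (hq : q.Prime) (hr : r.Prime) (hpq : p ≠ q) (hqr : q ≠ r) (hpr : p ≠ r)
    (hpd : ∃ χ : Cfsg.IrrCharacter G, p ∣ Cfsg.charDegree (χ : G → ℂ)) (hqd : ∃ χ : Cfsg.IrrCharacter G, q ∣ Cfsg.charDegree (χ : G → ℂ)) (hrd : ∃ χ : Cfsg.IrrCharacter G, r ∣ Cfsg.charDegree (χ : G → ℂ)) :
    (∃ χ : Cfsg.IrrCharacter G, p * q ∣ Cfsg.charDegree (χ : G → ℂ)) ∨ (∃ χ : Cfsg.IrrCharacter G, q * r ∣ Cfsg.charDegree (χ : G → ℂ)) ∨ (∃ χ : Cfsg.IrrCharacter G, p * r ∣ Cfsg.charDegree (χ : G → ℂ)) := by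
  haveI := Fintype.ofFinite G
  simp only [charDegree_eq_degree] at hpd hqd hrd ⊢
  exact three_primes _ G rfl hs p q r hp hq hr hpq hqr hpr hpd hqd hrd

end Cfsg.Agent.S4847
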