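import Cfsg.Statements.S4850
import Cfsg.Agent.Lib.VanishingP.Main
import Cfsg.Agent.Lib.PRed.Basic

set_option autoImplicit false
set_option linter.style.haveILetI false
open Cfsg

namespace Cfsg.Agent.S4850

/-- Let p be a prime and G a finite solvable group whose vanishing elements (elements at which some irreducible character is zero) of order divisible by p all have the same order, with at least one such element. Let P be a Sylow p-subgroup of G. Then the derived subgroup of P is subnormal in G and the image of P in G/O_p(G) is cyclic. -/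
theorem result {G : Type*} [Group G] [Finite G] [hs : Group.IsSolvable G] (p : ℕ) [Fact p.Prime] (b : ℕ) (hvo : {n : ℕ | p ∣ n ∧ ∃ (g : G) (χ : Cfsg.IrrCharacter G), orderOf g = n ∧ (χ : G → ℂ) g = 0} = {b}) (P : Sylow p G) :
    ((commutator ↥(P : Subgroup G)).map (P : Subgroup G).subtype).IsSubnormal ∧ IsCyclic ↥((P : Subgroup G).map (QuotientGroup.mk' (Cfsg.pCore p G))) := by
  have hone : ∀ a c : G, Agent.VanishingP.Vanishing a → Agent.VanishingP.Vanishing c →
      p ∣ orderOf a → p ∣ orderOf c → orderOf a = orderOf c := by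
    intro a c ⟨χ, hχ⟩ ⟨ψ, hψ⟩ ha hc
    have h1 : orderOf a ∈ ({b} : Set ℕ) := hvo ▸ ⟨ha, a, χ, rfl, hχ⟩
    have h2 : orderOf c ∈ ({b} : Set ℕ) := hvo ▸ ⟨hc, c, ψ, rfl, hψ⟩
    rw [Set.mem_singleton_iff.1 h1, Set.mem_singleton_iff.1 h2]
  obtain ⟨-, h⟩ := Agent.VanishingP.card_sylow_le hone P
  set π := QuotientGroup.mk' (Cfsg.pCore p G) with hπ
  set T := (P : Subgroup G).map π with hT
  have hcyc : IsCyclic ↥T := by
    obtain ⟨k, hk⟩ := IsPGroup.iff_card.1 (P.2.map π)
    rw [← hT] at hk
    rw [hk] at h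
    have hk1 : k ≤ 1 :=
      (Nat.pow_le_pow_iff_right (Fact.out : p.Prime).one_lt).1 (le_of_le_of_eq h (pow_one p).symm)
    interval_cases k
    · haveI : Subsingleton ↥T := (Nat.card_eq_one_iff_unique.1 (by simpa using hk)).1
      exact isCyclic_of_subsingleton
    · exact isCyclic_of_prime_card (p := p) (by simpa using hk)
  refine ⟨?_, hcyc⟩
  have hle : (commutator ↥(P : Subgroup G)).map (P : Subgroup G).subtype ≤ Cfsg.pCore p G := by
    rw [Subgroup.map_le_iff_le_comap]
    refine Subgroup.commutator_le.2 fun a _ c _ => ?_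
    rw [Subgroup.mem_comap, ← QuotientGroup.eq_one_iff]
    letI := hcyc.commGroup
    have hcom : π (a : G) * π (c : G) = π (c : G) * π (a : G) :=
      congrArg Subtype.val (mul_comm (⟨π a, Subgroup.mem_map_of_mem π a.2⟩ : T)
        ⟨π c, Subgroup.mem_map_of_mem π c.2⟩)
    rw [commutatorElement_def]
    change π ((a * c * a⁻¹ * c⁻¹ : ↥(P : Subgroup G)) : G) = 1
    push_cast
    rw [map_mul, map_mul, map_mul, map_inv, map_inv, hcom, mul_inv_cancel_right, mul_inv_cancel]
  haveI := (Agent.PCore.isPGroup_pCore (p := p) (G := G)).isNilpotent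
  exact Subgroup.IsSubnormal.trans hle
    (Agent.PRed.isSubnormal_of_isNilpotent _) Agent.PCore.pCore_normal.isSubnormal

end Cfsg.Agent.S4850
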