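import Cfsg.Statements.S4856
import Cfsg.Agent.Lib.Char.Orthogonality
import Mathlib.Analysis.Complex.Polynomial.Basic

set_option linter.style.haveILetI false

set_option autoImplicit false
open Cfsg

namespace Cfsg.Agent.S4856

section


open scoped ComplexConjugate
open Cfsg.Agent.Char

variable {G : Type*} [Group G] [Fintype G]

theorem sum_char_conj_mul {n : ℕ} (ρ : Representation ℂ G (Fin n → ℂ)) [ρ.IsIrreducible]
    (a b : G) :
    (∑ y : G, ρ.character (b * (y * a * y⁻¹))) * ρ.character 1 =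
      (Nat.card G : ℂ) * ρ.character a * ρ.character b := by
  classical
  set T : (Fin n → ℂ) →ₗ[ℂ] (Fin n → ℂ) := ∑ y : G, ρ (y * a * y⁻¹) with hT
  have hcomm : ∀ g : G, T ∘ₗ ρ g = ρ g ∘ₗ T := fun g => by
    change T * ρ g = ρ g * T
    rw [hT, Finset.sum_mul, Finset.mul_sum]
    refine Fintype.sum_equiv (Equiv.mulLeft g⁻¹) _ _ fun y => ?_
    simp only [Equiv.coe_mulLeft, ← map_mul]
    group
  let φ : Representation.IntertwiningMap ρ ρ :=
    { toLinearMap := T
      isIntertwining' := hcomm }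
  obtain ⟨c, hc⟩ :=
    (Representation.IsIrreducible.algebraMap_intertwiningMap_bijective_of_isAlgClosed (ρ := ρ)).2 φ
  have hTc : T = c • LinearMap.id := by
    have := congrArg Representation.IntertwiningMap.toLinearMap hc
    exact this.symm
  have h1 : ∑ y : G, ρ.character (b * (y * a * y⁻¹)) = c * ρ.character b := by
    calc ∑ y : G, ρ.character (b * (y * a * y⁻¹)) = LinearMap.trace ℂ _ (ρ b * T) := by
          simp [hT, Representation.character, Finset.mul_sum, map_sum, map_mul]
      _ = c * ρ.character b := by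
          rw [hTc]; simp [Representation.character, ← Module.End.one_eq_id]
  have h2 : (Nat.card G : ℂ) * ρ.character a = c * ρ.character 1 := by
    calc (Nat.card G : ℂ) * ρ.character a = LinearMap.trace ℂ _ T := by
          rw [hT, map_sum]
          simp only [← Representation.character.eq_def, Representation.char_conj, Finset.sum_const,
            Finset.card_univ, nsmul_eq_mul, Nat.card_eq_fintype_card]
      _ = c * ρ.character 1 := by rw [hTc]; simp [Representation.character, ← Module.End.one_eq_id]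
  rw [h1, mul_right_comm, ← h2]

theorem commutator_count_inner (χ : Cfsg.IrrCharacter G) (f : G → ℂ)
    (hf : ∀ z, f z = (Nat.card {xy : G × G // xy.1 * xy.2 * xy.1⁻¹ * xy.2⁻¹ = z} : ℂ)) :
    classInner f χ.1 = (Nat.card G : ℂ) / χ.1 1 *
      classInner χ.1 χ.1 := by
  classical
  obtain ⟨n, ρ, hρ, hχ⟩ := χ.2
  haveI := hρ
  have h0 : χ.1 1 ≠ 0 := IsIrrCharacter.apply_one_ne_zero χ.2
  have hN : (Nat.card G : ℂ) ≠ 0 := Cfsg.Agent.Char.card_ne_zero
  have hconj : ∀ g, conj (χ.1 g) = χ.1 g⁻¹ := IsCharacter.conj_apply (irr_isCharacter χ)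
  have e1 : ∑ z : G, f z * conj (χ.1 z) =
      ∑ x : G, ∑ y : G, χ.1 (y * x * y⁻¹ * x⁻¹) := by
    calc ∑ z : G, f z * conj (χ.1 z)
        = ∑ z : G, ∑ xy : G × G with xy.1 * xy.2 * xy.1⁻¹ * xy.2⁻¹ = z, χ.1 z⁻¹ := by
          refine Finset.sum_congr rfl fun z _ => ?_
          rw [Finset.sum_const, nsmul_eq_mul, hf, hconj, Nat.card_eq_fintype_card,
            Fintype.card_subtype]
      _ = ∑ z : G, ∑ xy : G × G with xy.1 * xy.2 * xy.1⁻¹ * xy.2⁻¹ = z,
            χ.1 (xy.2 * xy.1 * xy.2⁻¹ * xy.1⁻¹) := by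
          refine Finset.sum_congr rfl fun z _ => Finset.sum_congr rfl fun xy hxy => ?_
          rw [← (Finset.mem_filter.1 hxy).2]
          congr 1
          group
      _ = _ := (Finset.sum_fiberwise (Finset.univ : Finset (G × G))
            (fun xy => xy.1 * xy.2 * xy.1⁻¹ * xy.2⁻¹)
            (fun xy => χ.1 (xy.2 * xy.1 * xy.2⁻¹ * xy.1⁻¹))).trans (Fintype.sum_prod_type _)
  have e2 : ∀ x : G, (∑ y : G, χ.1 (y * x * y⁻¹ * x⁻¹)) * χ.1 1 =
      (Nat.card G : ℂ) * χ.1 x * χ.1 x⁻¹ := fun x => by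
    have := sum_char_conj_mul ρ x x⁻¹
    rw [hχ] at this
    rw [← this]
    congr 1
    refine Finset.sum_congr rfl fun y _ => ?_
    exact IsClassFunction.apply_mul_comm (IsCharacter.isClassFunction (irr_isCharacter χ)) _ _
  simp only [classInner, e1]
  rw [div_mul_eq_mul_div, eq_div_iff h0, mul_assoc, Finset.sum_mul, Finset.sum_congr rfl fun x _ => e2 x,
    ← mul_assoc (Nat.card G : ℂ), mul_inv_cancel₀ hN, one_mul, Finset.mul_sum]
  refine Finset.sum_congr rfl fun x _ => ?_
  rw [hconj, ← mul_assoc, ← mul_assoc, inv_mul_cancel₀ hN, one_mul]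


end

/-- For an element z of a finite group G, the number of pairs (x, y) of elements with x y x⁻¹ y⁻¹ = z equals the order of G times the sum over the irreducible characters χ of χ(z)/χ(1). -/
theorem result {G : Type*} [Group G] [Finite G] (z : G) : (Nat.card {xy : G × G // xy.1 * xy.2 * xy.1⁻¹ * xy.2⁻¹ = z} : ℂ) = (Nat.card G : ℂ) * ∑ᶠ χ : Cfsg.IrrCharacter G, (χ : G → ℂ) z / (χ : G → ℂ) 1 := by
  haveI := Fintype.ofFinite G
  set f : G → ℂ := fun z => (Nat.card {xy : G × G // xy.1 * xy.2 * xy.1⁻¹ * xy.2⁻¹ = z} : ℂ) with hfdef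
  have hcf : Cfsg.IsClassFunction G f := fun a b => by
    simp only [hfdef]
    rw [Nat.card_congr (((MulAut.conj b).toEquiv.prodCongr (MulAut.conj b).toEquiv).subtypeEquiv
      (p := fun xy : G × G => xy.1 * xy.2 * xy.1⁻¹ * xy.2⁻¹ = a)
      (q := fun xy : G × G => xy.1 * xy.2 * xy.1⁻¹ * xy.2⁻¹ = b * a * b⁻¹) fun xy => by
        simp only [Equiv.prodCongr_apply, Prod.map_fst, Prod.map_snd, MulEquiv.toEquiv_eq_coe,
          EquivLike.coe_coe, ← map_mul, ← map_inv]
        rw [← MulAut.conj_apply b a]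
        exact (MulAut.conj b).injective.eq_iff.symm)]
  have hz : f z = ∑ χ : Cfsg.IrrCharacter G, Cfsg.classInner f χ.1 * χ.1 z := by
    have := congrFun (Cfsg.Agent.Char.eq_sum_classInner_smul hcf) z
    simpa using this
  rw [finsum_eq_sum_of_fintype, Finset.mul_sum]
  refine hz.trans (Finset.sum_congr rfl fun χ _ => ?_)
  rw [commutator_count_inner χ f fun _ => rfl, Cfsg.Agent.Char.classInner_irr_self χ.2, mul_one]
  ring

end Cfsg.Agent.S4856
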