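import Cfsg.Statements.S4859
import Cfsg.Agent.Lib.Char.RealChar
import Mathlib.GroupTheory.Perm.Cycle.Type

set_option autoImplicit false
open Cfsg

namespace Cfsg.Agent.S4859



theorem not_square {G : Type*} [Group G] [Finite G] (p : ℕ) [Fact p.Prime] (hp : p ≠ 2) (x : G)
    (hx : ∃ k : ℕ, orderOf x = p ^ k)
    (heven : Even (Nat.card (Subgroup.centralizer ({x} : Set G)))) (y : G)
    (hy : y ∈ Subgroup.centralizer ({x} : Set G)) (hy2 : ∃ k : ℕ, orderOf y = 2 ^ k)
    (hmax : ∀ z ∈ Subgroup.centralizer ({x} : Set G), (∃ k : ℕ, orderOf z = 2 ^ k) →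
      orderOf z ≤ orderOf y) :
    ¬ ∃ u : G, u * u = x * y := by
  rintro ⟨u, hu⟩
  obtain ⟨a, ha⟩ := hx
  obtain ⟨b, hb⟩ := hy2
  have hxy : Commute x y := Subgroup.mem_centralizer_singleton_iff.1 hy |>.symm
  -- `y ≠ 1`
  have hb0 : b ≠ 0 := by
    rintro rfl
    obtain ⟨t, ht⟩ := exists_prime_orderOf_dvd_card' (G := Subgroup.centralizer ({x} : Set G)) 2
      heven.two_dvd
    have ht' : orderOf (t : G) = 2 ^ 1 := by rw [Subgroup.orderOf_coe, ht, pow_one]
    have := hmax t t.2 ⟨1, ht'⟩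
    rw [hb, ht'] at this
    norm_num at this
  have hodd : Nat.Coprime (p ^ a) (2 ^ b) :=
    (((Nat.coprime_primes Fact.out Nat.prime_two).2 hp)).pow a b
  have hord : orderOf (x * y) = p ^ a * 2 ^ b := by
    rw [hxy.orderOf_mul_eq_mul_orderOf_of_coprime (by rw [ha, hb]; exact hodd), ha, hb]
  have hu2 : orderOf (u ^ 2) = p ^ a * 2 ^ b := by rw [pow_two, hu, hord]
  -- the order of `u` is twice that
  have hdvd : 2 ∣ orderOf u := (dvd_mul_of_dvd_right (dvd_pow_self 2 hb0) (p ^ a)).trans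
    (hu2 ▸ orderOf_pow_dvd 2)
  have hou : orderOf u = 2 * (p ^ a * 2 ^ b) := by
    rw [← hu2, orderOf_pow' u two_ne_zero, Nat.gcd_eq_right hdvd, Nat.mul_div_cancel' hdvd]
  -- its 2-part lies in the centraliser of `x`
  have hcomm : Commute u x := by
    obtain ⟨m, hm⟩ := exists_pow_eq_self_of_coprime (x := x) (n := 2 ^ b) (by rw [ha]; exact hodd.symm)
    have h1 : Commute u (x * y) := hu ▸ (Commute.refl u).mul_right (Commute.refl u)
    have h2 : (x * y) ^ (2 ^ b) = x ^ (2 ^ b) := by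
      rw [hxy.mul_pow, ← hb, pow_orderOf_eq_one, mul_one]
    have h3 := (h1.pow_right (2 ^ b)).pow_right m
    rwa [h2, hm] at h3
  have hz : orderOf (u ^ (p ^ a)) = 2 ^ (b + 1) := by
    have hdv : p ^ a ∣ orderOf u := ⟨2 * 2 ^ b, by rw [hou]; ring⟩
    rw [orderOf_pow_of_dvd (pow_ne_zero a (Fact.out : p.Prime).ne_zero) hdv, hou,
      show 2 * (p ^ a * 2 ^ b) = p ^ a * 2 ^ (b + 1) by ring,
      Nat.mul_div_cancel_left _ (pow_pos (Fact.out : p.Prime).pos a)]
  have := hmax (u ^ (p ^ a)) (Subgroup.mem_centralizer_singleton_iff.2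
    (hcomm.pow_left _).eq) ⟨b + 1, hz⟩
  rw [hb, hz] at this
  exact absurd this (not_le.2 (Nat.pow_lt_pow_right (by norm_num) (Nat.lt_succ_self b)))



/-- Let p be an odd prime, G a finite group and x an element of G whose order is a power of p (possibly 1) and whose centralizer has even order. Let y be a 2-element of the centralizer of x whose order is largest among the 2-elements of that centralizer. Then x * y is not a square in G, and some non-principal real-valued irreducible character of G does not vanish at x * y. -/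
theorem result {G : Type*} [Group G] [Finite G] (p : ℕ) [Fact p.Prime] (hp : p ≠ 2) (x : G) (hx : ∃ k : ℕ, orderOf x = p ^ k) (heven : Even (Nat.card (Subgroup.centralizer ({x} : Set G)))) (y : G) (hy : y ∈ Subgroup.centralizer ({x} : Set G)) (hy2 : ∃ k : ℕ, orderOf y = 2 ^ k) (hmax : ∀ z ∈ Subgroup.centralizer ({x} : Set G), (∃ k : ℕ, orderOf z = 2 ^ k) → orderOf z ≤ orderOf y) : (¬ ∃ u : G, u * u = x * y) ∧ ∃ χ : Cfsg.IrrCharacter G, ¬ ((χ : G → ℂ) = fun _ => (1 : ℂ)) ∧ (∀ g : G, ((χ : G → ℂ) g).im = 0) ∧ (χ : G → ℂ) (x * y) ≠ 0 := by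
  have h1 := not_square p hp x hx heven y hy hy2 hmax
  refine ⟨h1, ?_⟩
  haveI := Fintype.ofFinite G
  classical
  have h0 : Cfsg.Agent.Char.sqRootCount (x * y) = 0 := by
    haveI : IsEmpty {u : G // u * u = x * y} := ⟨fun u => h1 ⟨u.1, u.2⟩⟩
    simp [Cfsg.Agent.Char.sqRootCount]
  rw [Cfsg.Agent.Char.sqRootCount_eq_sum,
    ← Finset.add_sum_erase _ _ (Finset.mem_univ (Cfsg.Agent.Char.trivialChar G))] at h0
  have ht : Cfsg.Agent.Char.fsIndicator (Cfsg.Agent.Char.trivialChar G).1 = 1 := by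
    simp [Cfsg.Agent.Char.fsIndicator_eq_sum, Cfsg.Agent.Char.card_ne_zero]
  rw [ht, Cfsg.Agent.Char.trivialChar_apply, mul_one] at h0
  obtain ⟨χ, hχ, hne⟩ := Finset.exists_ne_zero_of_sum_ne_zero (fun hs => by
    rw [hs, add_zero] at h0
    exact one_ne_zero h0)
  obtain ⟨hν, hxy⟩ := mul_ne_zero_iff.1 hne
  exact ⟨χ, fun he => Finset.ne_of_mem_erase hχ (Subtype.ext he),
    (Cfsg.Agent.Char.fsIndicator_ne_zero_iff χ).1 hν, hxy⟩

end Cfsg.Agent.S4859
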