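import Cfsg.Statements.S4860
import Cfsg.Agent.Lib.Char.RealChar
import Cfsg.Agent.Lib.BlockCount.Criterion
import Cfsg.Agent.Lib.BlockCount.PRegularSum

set_option autoImplicit false
set_option linter.style.haveILetI false
open Cfsg

namespace Cfsg.Agent.S4860

/-- Frobenius-Schur: the sum of indicator times the sum over the regular elements counts them. -/
theorem sum_fs_pregSum {G : Type*} [Group G] [Fintype G] {p : ℕ} [Fact p.Prime] (hp : p ≠ 2) :
    ∑ χ : Cfsg.IrrCharacter G, Char.fsIndicator χ.1 * BlockCount.pregSum p χ.1 =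
      BlockCount.pregSum p (fun _ : G => (1 : ℂ)) := by
  classical
  have hpp : p.Prime := Fact.out
  have hsq : ∀ u : G, (¬ p ∣ orderOf (u * u)) ↔ ¬ p ∣ orderOf u := by
    intro u
    refine not_congr ⟨fun h => h.trans (by rw [← pow_two]; exact orderOf_pow_dvd 2), fun h => ?_⟩
    rw [← pow_two]
    have h1 : orderOf u ∣ 2 * orderOf (u ^ 2) := orderOf_dvd_of_pow_eq_one (by
      rw [pow_mul, pow_orderOf_eq_one])
    exact (hpp.dvd_mul.1 (h.trans h1)).resolve_left fun h2 =>
      hp ((Nat.prime_dvd_prime_iff_eq hpp Nat.prime_two).1 h2)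
  have key := Char.sum_mul_eq_sum_sq (G := G) (fun g => if ¬ p ∣ orderOf g then (1 : ℂ) else 0)
  simp only [Char.sqRootCount_eq_sum, Finset.sum_mul] at key
  rw [Finset.sum_comm] at key
  calc ∑ χ : Cfsg.IrrCharacter G, Char.fsIndicator χ.1 * BlockCount.pregSum p χ.1
      = ∑ χ : Cfsg.IrrCharacter G, ∑ g : G,
          Char.fsIndicator χ.1 * χ.1 g * (if ¬ p ∣ orderOf g then (1 : ℂ) else 0) := by
        refine Finset.sum_congr rfl fun χ _ => ?_
        rw [BlockCount.pregSum, Finset.mul_sum, Finset.sum_filter]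
        refine Finset.sum_congr rfl fun g _ => ?_
        split_ifs <;> simp
    _ = _ := key
    _ = BlockCount.pregSum p (fun _ : G => (1 : ℂ)) := by
        rw [BlockCount.pregSum, Finset.sum_filter]
        exact Finset.sum_congr rfl fun u _ => if_congr (hsq u) rfl rfl

/-- A field automorphism keeps the indicator and the sum over the regular elements. -/
theorem galois_term {G : Type*} [Group G] [Fintype G] (p : ℕ) [Fact p.Prime] (σ : ℂ ≃+* ℂ)
    (α β : Cfsg.IrrCharacter G) (hα : ∀ g : G, ((α : G → ℂ) g).im = 0)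
    (hσ : (β : G → ℂ) = (σ : ℂ → ℂ) ∘ (α : G → ℂ)) :
    Char.fsIndicator β.1 * BlockCount.pregSum p β.1 =
      Char.fsIndicator α.1 * BlockCount.pregSum p α.1 := by
  classical
  obtain ⟨z, hz⟩ := BlockCount.pregSum_dvd p (BlockCount.isRepChar_of_isCharacter (Char.irr_isCharacter α))
  have h1 : BlockCount.pregSum p β.1 = BlockCount.pregSum p α.1 := by
    have h : BlockCount.pregSum p β.1 = σ (BlockCount.pregSum p α.1) := by
      rw [BlockCount.pregSum, BlockCount.pregSum, map_sum]
      exact Finset.sum_congr rfl fun g _ => congrFun hσ g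
    rw [h, hz, map_mul, map_natCast, map_intCast]
  have h2 : Char.fsIndicator β.1 = Char.fsIndicator α.1 := by
    have h : Char.fsIndicator β.1 = σ (Char.fsIndicator α.1) := by
      rw [Char.fsIndicator_eq_sum, Char.fsIndicator_eq_sum, map_mul, map_inv₀, map_natCast, map_sum]
      exact congrArg _ (Finset.sum_congr rfl fun g _ => congrFun hσ _)
    rcases Char.fsIndicator_of_real α hα with e | e <;> rw [h, e] <;> simp
  rw [h1, h2]

/-- Let G be a finite group, p an odd prime and M a maximal ideal of the algebraic integers containing p. If the principal p-block of G contains a non-principal real-valued irreducible character α, then it contains a non-principal real-valued irreducible character β different from α, and β may be chosen so that no field automorphism of ℂ carries α to β. -/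
theorem result {G : Type*} [Group G] [Finite G] (p : ℕ) [Fact p.Prime] (hp : p ≠ 2) (M : Ideal Cfsg.AlgInt) (hM : Cfsg.IsPModular p M) (α : Cfsg.IrrCharacter G) (hα : α ∈ Cfsg.principalBlock M G) (hα1 : ¬ ((α : G → ℂ) = fun _ => (1 : ℂ))) (hαr : (∀ g : G, ((α : G → ℂ) g).im = 0)) : ∃ β : Cfsg.IrrCharacter G, β ∈ Cfsg.principalBlock M G ∧ ¬ ((β : G → ℂ) = fun _ => (1 : ℂ)) ∧ (∀ g : G, ((β : G → ℂ) g).im = 0) ∧ β ≠ α ∧ ∀ σ : ℂ ≃+* ℂ, (β : G → ℂ) ≠ (σ : ℂ → ℂ) ∘ (α : G → ℂ) := by
  classical
  haveI := Fintype.ofFinite G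
  by_contra hno
  push Not at hno
  have hsum := sum_fs_pregSum (G := G) hp
  rw [← Finset.add_sum_erase _ _ (Finset.mem_univ (Char.trivialChar G))] at hsum
  have ht : Char.fsIndicator (Char.trivialChar G).1 = 1 := by
    simp [Char.fsIndicator_eq_sum]
  rw [ht, one_mul, show (Char.trivialChar G).1 = fun _ : G => (1 : ℂ) from rfl, add_eq_left] at hsum
  set c := Char.fsIndicator α.1 * BlockCount.pregSum p α.1 with hc
  have hc0 : c ≠ 0 := mul_ne_zero ((Char.fsIndicator_ne_zero_iff α).2 hαr)
    (BlockCount.pregSum_ne_zero hM hα)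
  have hterm : ∀ β ∈ Finset.univ.erase (Char.trivialChar G),
      Char.fsIndicator β.1 * BlockCount.pregSum p β.1 = 0 ∨
        Char.fsIndicator β.1 * BlockCount.pregSum p β.1 = c := by
    intro β hβ
    by_cases h0 : Char.fsIndicator β.1 * BlockCount.pregSum p β.1 = 0
    · exact Or.inl h0
    refine Or.inr ?_
    obtain ⟨h1, h2⟩ := mul_ne_zero_iff.1 h0
    have hβB := BlockCount.mem_principalBlock_of_pregSum_ne_zero hM h2
    by_cases hβα : β = α
    · rw [hβα]
    obtain ⟨σ, hσ⟩ := hno β hβB (fun he => Finset.ne_of_mem_erase hβ (Subtype.ext he))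
      ((Char.fsIndicator_ne_zero_iff β).1 h1) hβα
    exact galois_term p σ α β hαr hσ
  rw [← Finset.sum_filter_ne_zero, Finset.sum_congr rfl fun β hβ =>
    (hterm β (Finset.mem_filter.1 hβ).1).resolve_left (Finset.mem_filter.1 hβ).2,
    Finset.sum_const, nsmul_eq_mul, mul_eq_zero, Nat.cast_eq_zero, Finset.card_eq_zero] at hsum
  rcases hsum with h | h
  · have hmem : α ∈ (Finset.univ.erase (Char.trivialChar G)).filter
        (fun β => Char.fsIndicator β.1 * BlockCount.pregSum p β.1 ≠ 0) :=
      Finset.mem_filter.2 ⟨Finset.mem_erase.2 ⟨fun he => hα1 (by rw [he]; rfl), Finset.mem_univ _⟩, hc0⟩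
    rw [h] at hmem
    exact Finset.notMem_empty _ hmem
  · exact hc0 h

end Cfsg.Agent.S4860
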