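import Cfsg.Statements.S4863
import Cfsg.Agent.Lib.Char.IndIndicator
import Cfsg.Agent.Lib.Char.Ito
import Cfsg.Agent.Lib.Char.Descend
import Cfsg.Agent.Lib.Char.KernelSum

set_option autoImplicit false
open Cfsg
open scoped ComplexConjugate IsMulCommutative commutatorElement
open Cfsg.Agent Cfsg.Agent.Char

set_option linter.style.haveILetI false

namespace Cfsg.Agent.S4863

universe u

/-- The subgroup generated by the elements of `p`-power order. -/
abbrev pEl (p : ℕ) (G : Type*) [Group G] : Subgroup G :=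
  Subgroup.closure {g : G | ∃ k : ℕ, orderOf g = p ^ k}

variable {G : Type u} [Group G] [Finite G]

lemma mem_pEl {p : ℕ} [Fact p.Prime] {P : Subgroup G} (hP : IsPGroup p P) : P ≤ pEl p G := by
  intro x hx
  obtain ⟨k, hk⟩ := (IsPGroup.iff_orderOf (p := p)).1 hP ⟨x, hx⟩
  exact Subgroup.subset_closure ⟨k, by rwa [Subgroup.orderOf_mk] at hk⟩

lemma pEl_normal (p : ℕ) : (pEl p G).Normal := by
  refine ⟨fun x hx g => ?_⟩
  induction hx using Subgroup.closure_induction with
  | mem y hy =>
    obtain ⟨k, hk⟩ := hy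
    refine Subgroup.subset_closure ⟨k, ?_⟩
    rw [← hk]
    exact orderOf_injective (MulAut.conj g).toMonoidHom (MulAut.conj g).injective y
  | one => simpa using Subgroup.one_mem _
  | mul a b _ _ ha hb =>
    rw [show g * (a * b) * g⁻¹ = (g * a * g⁻¹) * (g * b * g⁻¹) by group]
    exact Subgroup.mul_mem _ ha hb
  | inv a _ ha =>
    rw [show g * a⁻¹ * g⁻¹ = (g * a * g⁻¹)⁻¹ by group]
    exact Subgroup.inv_mem _ ha

lemma pEl_eq_iSup (p : ℕ) [Fact p.Prime] : pEl p G = ⨆ P : Sylow p G, (P : Subgroup G) := by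
  refine le_antisymm ((Subgroup.closure_le _).2 fun g hg => ?_) (iSup_le fun P => mem_pEl P.2)
  obtain ⟨k, hk⟩ := hg
  obtain ⟨P, hP⟩ := (IsPGroup.of_card (n := k) (G := Subgroup.zpowers g) (p := p)
    (by rw [Nat.card_zpowers, hk])).exists_le_sylow
  exact Subgroup.mem_iSup_of_mem P (hP (Subgroup.mem_zpowers g))

lemma not_dvd_index_pEl (p : ℕ) [Fact p.Prime] : ¬ p ∣ (pEl p G).index := fun h =>
  (default : Sylow p G).not_dvd_index (h.trans (Subgroup.index_dvd_of_le (mem_pEl (default : Sylow p G).2)))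

lemma odd_index_pEl_two : Odd (pEl 2 G).index :=
  Nat.not_even_iff_odd.1 fun h => not_dvd_index_pEl (G := G) 2 (even_iff_two_dvd.1 h)

lemma pEl_map {H : Type*} [Group H] [Finite H] (f : G →* H) (hf : Function.Surjective f) (p : ℕ)
    [Fact p.Prime] : (pEl p G).map f = pEl p H := by
  refine le_antisymm ?_ ?_
  · rw [pEl_eq_iSup, Subgroup.map_iSup]
    exact iSup_le fun P => mem_pEl (P.2.map f)
  · rw [pEl_eq_iSup (G := H)]
    refine iSup_le fun Q => ?_
    obtain ⟨h, rfl⟩ := MulAction.exists_smul_eq H (Sylow.mapSurjective hf (default : Sylow p G)) Q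
    intro x hx
    rw [Sylow.smul_def, Sylow.pointwise_smul_def] at hx
    obtain ⟨y, hy, rfl⟩ := hx
    haveI := pEl_normal (G := G) p
    exact ((pEl_normal (G := G) p).map f hf).conj_mem _
      (Subgroup.map_mono (mem_pEl (default : Sylow p G).2) hy) h

/-- A real character of a normal subgroup of odd index lies below a real character. -/
lemma exists_real_over [Fintype G] (M : Subgroup G) [M.Normal] [Fintype M] (hodd : Odd M.index)
    (θ : IrrCharacter M) (hθ : ∀ m, (θ.1 m).im = 0) :
    ∃ χ : IrrCharacter G, (∀ g, (χ.1 g).im = 0) ∧ degree θ ∣ degree χ := by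
  classical
  have hν : fsIndicator (indFun M θ.1) ≠ 0 := by
    rw [fsIndicator_indFun]
    refine mul_ne_zero (inv_ne_zero card_ne_zero) ?_
    have h : ∑ g : G, extendByZero M θ.1 (g * g) = ∑ m : M, θ.1 (m * m) := by
      refine (Fintype.sum_of_injective (Subtype.val : M → G) Subtype.val_injective _ _ ?_ ?_).symm
      · intro g hg
        refine extendByZero_of_notMem _ _ fun h => hg ⟨⟨g, ?_⟩, rfl⟩
        exact mem_of_sq_mem_of_odd_index M hodd h
      · intro m
        exact (extendByZero_coe M θ.1 (m * m)).symm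
    rw [h]
    intro h0
    refine (fsIndicator_ne_zero_iff θ).2 hθ ?_
    rw [fsIndicator_eq_sum, h0, mul_zero]
  rw [fsIndicator_indFun_eq_sum] at hν
  obtain ⟨χ, -, hne⟩ := Finset.exists_ne_zero_of_sum_ne_zero hν
  obtain ⟨hc, hr⟩ := mul_ne_zero_iff.1 hne
  refine ⟨χ, (fsIndicator_ne_zero_iff χ).1 hr, ?_⟩
  rw [classInner_indFun M θ.1 (IsCharacter.isClassFunction (irr_isCharacter χ))] at hc
  have hc' : classInner (resFun M χ.1) θ.1 ≠ 0 := fun h => hc (by
    rw [← conj_classInner]; exact (congrArg (starRingEnd ℂ) h).trans (map_zero _))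
  obtain ⟨k, hk⟩ := IsCharacter.exists_nat_classInner
    (IsCharacter.restrict (irr_isCharacter χ) M) (irr_isCharacter θ)
  have h := apply_one_eq_mul_card_orbit M χ θ hc'
  rw [show classInner (resFun M χ.1) θ.1 = (k : ℂ) from hk, apply_one_eq_degree,
    apply_one_eq_degree] at h
  have h' : degree χ = k * ((orbitFinset M θ).card * degree θ) := by exact_mod_cast h
  exact h' ▸ (dvd_mul_left (degree θ) _).trans (dvd_mul_left _ _)

/-- A real character of degree divisible by `p` in a split extension. -/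
lemma exists_real_split [Fintype G] (p : ℕ) [Fact p.Prime] (N L : Subgroup G) [N.Normal]
    [IsMulCommutative N] (hdisj : N ⊓ L = ⊥) (hsup : N ⊔ L = ⊤) (P : Sylow p G)
    (hP : ⁅N, (P : Subgroup G)⁆ = N) (z : G) (hz : z ∈ L) (μ : N →* ℂ)
    (hμ : ∃ n, μ n ≠ 1) (hzμ : ∀ n : N, μ (MulAut.conjNormal z n) = μ n⁻¹) :
    ∃ χ : IrrCharacter G, (∀ g, (χ.1 g).im = 0) ∧ p ∣ degree χ := by
  classical
  haveI : Fintype N := Fintype.ofFinite N
  let θ : IrrCharacter N := ⟨μ, isIrrCharacter_of_monoidHom μ⟩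
  set I := inertia N θ.1
  haveI : Fintype I := Fintype.ofFinite I
  have hNI : N ≤ I := irr_le_inertia N θ
  have hfix : ∀ i ∈ I, ∀ n : N, μ (MulAut.conjNormal i n) = μ n := fun i hi n => congrFun hi n
  have hdec : ∀ g : G, ∃ n : N, (n : G)⁻¹ * g ∈ L := fun g => by
    obtain ⟨n, hn, l, hl, h⟩ := Subgroup.mem_sup_of_normal_left.1
      (hsup ▸ Subgroup.mem_top g : g ∈ N ⊔ L)
    exact ⟨⟨n, hn⟩, by rw [← h, inv_mul_cancel_left]; exact hl⟩
  choose ν hν using hdec
  have huniq : ∀ (g : G) (n : N), (n : G)⁻¹ * g ∈ L → ν g = n := fun g n hn => by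
    have h : (n : G)⁻¹ * ν g ∈ N ⊓ L := ⟨N.mul_mem (N.inv_mem n.2) (ν g).2, by
      rw [show (n : G)⁻¹ * ν g = ((n : G)⁻¹ * g) * (((ν g : G))⁻¹ * g)⁻¹ by group]
      exact L.mul_mem hn (L.inv_mem (hν g))⟩
    rw [hdisj, Subgroup.mem_bot, inv_mul_eq_one] at h
    exact Subtype.ext h.symm
  -- the extension of `μ` to the inertia group
  have hmul : ∀ a b : I, μ (ν ((a * b : I) : G)) = μ (ν (a : G)) * μ (ν (b : G)) := by
    intro a b
    set l := ((ν (a : G) : G))⁻¹ * a with hl
    have hlI : l ∈ I := I.mul_mem (I.inv_mem (hNI (ν (a : G)).2)) a.2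
    rw [huniq _ (ν (a : G) * MulAut.conjNormal l (ν (b : G))) ?_, map_mul, hfix l hlI]
    rw [show ((ν (a : G) * MulAut.conjNormal l (ν (b : G)) : N) : G)⁻¹ * ((a * b : I) : G) =
      l * (((ν (b : G) : G))⁻¹ * b) by simp [hl]; group]
    exact L.mul_mem (hν _) (hν _)
  have hν1 : ν ((1 : I) : G) = 1 := huniq _ 1 (by simp)
  let ψ : IrrCharacter I := ⟨_, isIrrCharacter_of_monoidHom
    { toFun := fun a : I => μ (ν (a : G))
      map_one' := by rw [hν1, map_one]
      map_mul' := hmul }⟩
  have hψv : ∀ a : I, ψ.1 a = μ (ν (a : G)) := fun _ => rfl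
  have hres : ∀ n : N, ψ.1 ⟨n, hNI n.2⟩ = (1 : ℕ) * θ.1 n := fun n => by
    rw [hψv, huniq _ n (by simp), Nat.cast_one, one_mul]
  let χ : IrrCharacter G := ⟨_, isIrrCharacter_indFun_inertia N I hNI θ (fun _ h => h) one_ne_zero hres⟩
  refine ⟨χ, fun g => ?_, ?_⟩
  · -- `z` carries the extension to its conjugate
    have hinv : ∀ m : N, μ (MulAut.conjNormal z⁻¹ m) = μ m⁻¹ := fun m => by
      have h := hzμ (MulAut.conjNormal z⁻¹ m⁻¹)
      rw [← MulAut.mul_apply, ← map_mul, mul_inv_cancel, map_one, MulAut.one_apply, ← map_inv, inv_inv] at h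
      exact h.symm
    have hzI : ∀ w ∈ I, z⁻¹ * w * z ∈ I := fun w hw => by
      refine funext fun n => ?_
      show μ (MulAut.conjNormal (z⁻¹ * w * z) n) = μ n
      rw [map_mul, map_mul, MulAut.mul_apply, MulAut.mul_apply, hinv, ← map_inv, hfix w hw, ← map_inv,
        hzμ, inv_inv]
    have hzI' : ∀ w, z⁻¹ * w * z ∈ I → w ∈ I := fun w hw => by
      refine funext fun n => ?_
      show μ (MulAut.conjNormal w n) = μ n
      have h := hfix _ hw (MulAut.conjNormal z⁻¹ n)
      rw [← MulAut.mul_apply, ← map_mul, show z⁻¹ * w * z * z⁻¹ = z⁻¹ * w by group, map_mul,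
        MulAut.mul_apply, hinv, hinv] at h
      have h2 : ∀ m : N, μ m * μ m⁻¹ = 1 := fun m => by rw [← map_mul, mul_inv_cancel, map_one]
      have h3 := h2 (MulAut.conjNormal w n)
      rw [h] at h3
      exact mul_right_cancel₀ (right_ne_zero_of_mul_eq_one h3) (h3.trans (h2 n).symm)
    have hext : ∀ w, conj (extendByZero I ψ.1 w) = extendByZero I ψ.1 (z⁻¹ * w * z) := fun w => by
      by_cases hw : w ∈ I
      · rw [show w = ((⟨w, hw⟩ : I) : G) from rfl, extendByZero_coe,
          show z⁻¹ * ((⟨w, hw⟩ : I) : G) * z = ((⟨_, hzI w hw⟩ : I) : G) from rfl, extendByZero_coe,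
          hψv, hψv, huniq (z⁻¹ * w * z) (MulAut.conjNormal z⁻¹ (ν w)) ?_, hinv]
        · exact IsCharacter.conj_apply (irr_isCharacter θ) _
        · rw [show ((MulAut.conjNormal z⁻¹ (ν w) : N) : G)⁻¹ * (z⁻¹ * w * z) =
            z⁻¹ * (((ν w : G))⁻¹ * w) * z by simp; group]
          exact L.mul_mem (L.mul_mem (L.inv_mem hz) (hν w)) hz
      · rw [extendByZero_of_notMem _ _ hw, extendByZero_of_notMem _ _ (fun h => hw (hzI' w h)), map_zero]
    refine Complex.conj_eq_iff_im.1 ?_
    show conj (indFun I ψ.1 g) = indFun I ψ.1 g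
    simp only [indFun, map_mul, map_inv₀, Complex.conj_natCast, map_sum, hext]
    refine congrArg _ (Fintype.sum_equiv (Equiv.mulRight z) _ _ fun x => ?_)
    simp [mul_assoc]
  · -- the index of the inertia group is divisible by `p`
    have hdeg : degree χ = I.index := Nat.cast_injective (R := ℂ) (by
      rw [← apply_one_eq_degree]
      show indFun I ψ.1 1 = _
      rw [indFun_apply_one, hψv, hν1, map_one, mul_one])
    rw [hdeg]
    by_contra hdvd
    obtain ⟨n0, hn0⟩ := hμ
    let PI : Sylow p I := default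
    have hPI : ¬ p ∣ ((PI : Subgroup I).map I.subtype).index := by
      rw [Subgroup.index_map_of_injective _ I.subtype_injective, Subgroup.range_subtype]
      exact (Fact.out : p.Prime).not_dvd_mul PI.not_dvd_index hdvd
    obtain ⟨g, hg⟩ := MulAction.exists_smul_eq G P ((PI.2.map I.subtype).toSylow hPI)
    obtain ⟨a, ha, l, hl, rfl⟩ := Subgroup.mem_sup_of_normal_left.1
      (hsup ▸ Subgroup.mem_top g : g ∈ N ⊔ L)
    have hPle : ∀ x ∈ (P : Subgroup G), l * x * l⁻¹ ∈ I := fun x hx => by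
      have h : (a * l) * x * (a * l)⁻¹ ∈ ((PI : Subgroup I).map I.subtype) := by
        have h2 : (a * l) * x * (a * l)⁻¹ ∈ (((a * l) • P : Sylow p G) : Subgroup G) := by
          rw [Sylow.smul_def, Sylow.pointwise_smul_def]
          exact ⟨x, hx, rfl⟩
        rw [hg] at h2
        exact h2
      obtain ⟨w, -, hw⟩ := h
      have h3 : l * x * l⁻¹ = a⁻¹ * (w : G) * a := by
        rw [show (w : G) = a * l * x * (a * l)⁻¹ from hw]; group
      rw [h3]
      exact I.mul_mem (I.mul_mem (I.inv_mem (hNI ha)) w.2) (hNI ha)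
    let f : N →* ℂ := μ.comp (MulAut.conjNormal l).toMonoidHom
    have hker : ⁅N, (P : Subgroup G)⁆ ≤ f.ker.map N.subtype := by
      rw [Subgroup.commutator_le]
      intro n hn x hx
      refine ⟨⟨⁅n, x⁆, ?_⟩, ?_, rfl⟩
      · rw [commutatorElement_def, mul_assoc, mul_assoc]
        exact N.mul_mem hn (by simpa [mul_assoc] using ‹N.Normal›.conj_mem _ (N.inv_mem hn) x)
      · show μ (MulAut.conjNormal l ⟨⁅n, x⁆, _⟩) = 1
        have h := hfix _ (hPle x hx) (MulAut.conjNormal l (⟨n, hn⟩ : N)⁻¹)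
        rw [show MulAut.conjNormal l ⟨⁅n, x⁆, _⟩ = MulAut.conjNormal l (⟨n, hn⟩ : N) *
          MulAut.conjNormal (l * x * l⁻¹) (MulAut.conjNormal l (⟨n, hn⟩ : N)⁻¹) from Subtype.ext (by
            simp [commutatorElement_def]; group), map_mul, h, ← map_mul, ← map_mul, mul_inv_cancel,
          map_one, map_one]
    rw [hP] at hker
    obtain ⟨m, hm, hm'⟩ := hker ((MulAut.conjNormal l).symm n0).2
    refine hn0 ?_
    have : μ (MulAut.conjNormal l m) = 1 := hm
    rwa [show m = (MulAut.conjNormal l).symm n0 from Subtype.ext hm', MulEquiv.apply_symm_apply] at this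

lemma main (p : ℕ) [Fact p.Prime] : ∀ (n : ℕ) (H : Type u) [Group H] [Finite H], Nat.card H ≤ n →
    Group.IsSolvable (pEl p H) →
    (∀ χ : IrrCharacter H, (∀ g, (χ.1 g).im = 0) → ¬ p ∣ charDegree χ.1) →
    (∃ a : ℕ, (pEl 2 H).index = p ^ a) → ∀ P : Sylow p H, (P : Subgroup H).Normal := by
  intro n
  induction n with
  | zero => intro H _ _ h; exact absurd h (by have := Nat.card_pos (α := H); omega)
  | succ n ih =>
    intro H _ _ hcard hsolv hreal hidx P
    haveI : Fintype H := Fintype.ofFinite H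
    haveI := pEl_normal (G := H) p
    haveI := hsolv
    by_contra hPn
    have hW : pEl p H ≠ ⊥ := fun h => hPn (by
      rw [le_bot_iff.1 (h ▸ mem_pEl P.2 : (P : Subgroup H) ≤ ⊥)]; infer_instance)
    obtain ⟨N, ⟨hN1, hNn, hNW⟩, hmin⟩ := (Set.toFinite {N : Subgroup H | N ≠ ⊥ ∧ N.Normal ∧ N ≤ pEl p H}
      ).exists_minimal ⟨pEl p H, hW, inferInstance, le_rfl⟩
    haveI := hNn
    have hminN : ∀ K : Subgroup H, K.Normal → K ≤ N → K = ⊥ ∨ K = N := fun K hK hle =>
      or_iff_not_imp_left.2 fun h => le_antisymm hle (hmin ⟨h, hK, hle.trans hNW⟩ hle)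
    haveI : Nontrivial N := N.nontrivial_iff_ne_bot.2 hN1
    haveI : Group.IsSolvable N := Group.isSolvable_of_isSolvable_injective
      (Subgroup.inclusion_injective hNW)
    have hNab : ⁅N, N⁆ = ⊥ := (hminN _ inferInstance (Subgroup.commutator_le_left N N)).resolve_right
      fun h => by
        have hlt := Group.IsSolvable.commutator_lt_top_of_nontrivial N
          (hG := inferInstance)
        refine hlt.ne ?_
        apply Subgroup.map_injective N.subtype_injective
        rw [commutator_def, Subgroup.map_commutator, ← MonoidHom.range_eq_map, Subgroup.range_subtype, h]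
    haveI : IsMulCommutative N := ⟨⟨fun a b => Subtype.ext (show (a : H) * b = b * a from
      commutatorElement_eq_one_iff_commute.1 ((Subgroup.eq_bot_iff_forall _).1 hNab _
        (Subgroup.commutator_mem_commutator a.2 b.2)))⟩⟩
    obtain ⟨s, hs, hsd⟩ := Nat.exists_prime_and_dvd (Finite.one_lt_card (α := N)).ne'
    haveI := Fact.mk hs
    have hexp : ∀ x ∈ N, x ^ s = 1 := by
      let S : Subgroup H :=
        { carrier := {x | x ∈ N ∧ x ^ s = 1}
          one_mem' := ⟨N.one_mem, one_pow s⟩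
          mul_mem' := fun {a b} ha hb => ⟨N.mul_mem ha.1 hb.1, by
            have hab : Commute a b := congrArg Subtype.val (mul_comm (⟨a, ha.1⟩ : N) ⟨b, hb.1⟩)
            rw [hab.mul_pow,
              ha.2, hb.2, one_mul]⟩
          inv_mem' := fun {a} ha => ⟨N.inv_mem ha.1, by rw [inv_pow, ha.2, inv_one]⟩ }
      have hS : S.Normal := ⟨fun x hx g => ⟨hNn.conj_mem x hx.1 g, by rw [conj_pow, hx.2]; group⟩⟩
      rcases hminN S hS (fun x hx => hx.1) with h | h
      · exfalso
        obtain ⟨x, hx⟩ := exists_prime_orderOf_dvd_card' s hsd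
        have : (x : H) ∈ S := ⟨x.2, by rw [← hx, ← Subgroup.orderOf_coe]; exact pow_orderOf_eq_one _⟩
        rw [h, Subgroup.mem_bot] at this
        rw [← Subgroup.orderOf_coe, this, orderOf_one] at hx
        exact hs.one_lt.ne hx
      · exact fun x hx => (h.symm ▸ hx : x ∈ S).2
    have hNs : IsPGroup s N := fun x => ⟨1, by
      rw [pow_one]; exact Subtype.ext (hexp x x.2)⟩
    -- the quotient
    have hPN : ((P : Subgroup H) ⊔ N).Normal := by
      have hlt : Nat.card (H ⧸ N) ≤ n := by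
        have h := N.card_eq_card_quotient_mul_card_subgroup
        have h1 : 1 < Nat.card N := Finite.one_lt_card
        have h2 : 0 < Nat.card (H ⧸ N) := Nat.card_pos
        nlinarith
      have hsurj := QuotientGroup.mk'_surjective N
      have := ih (H ⧸ N) hlt (by
          rw [← pEl_map _ hsurj]
          exact Group.isSolvable_of_surjective (f := (QuotientGroup.mk' N).subgroupMap (pEl p H))
            (MonoidHom.subgroupMap_surjective _ _))
        (fun χ hχ => by
          have h := hreal (inflate N χ) (fun g => hχ _)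
          have hd : charDegree (inflate N χ).1 = charDegree χ.1 := by simp [charDegree]
          rwa [hd] at h)
        (by
          obtain ⟨a, ha⟩ := hidx
          have h : (pEl 2 (H ⧸ N)).index ∣ p ^ a := by
            rw [← pEl_map _ hsurj, ← ha]; exact Subgroup.index_map_dvd _ hsurj
          obtain ⟨b, -, hb⟩ := (Nat.dvd_prime_pow Fact.out).1 h
          exact ⟨b, hb⟩) (Sylow.mapSurjective hsurj P)
      rw [show (P : Subgroup H) ⊔ N = ((P : Subgroup H).map (QuotientGroup.mk' N)).comap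
        (QuotientGroup.mk' N) by rw [Subgroup.comap_map_eq, QuotientGroup.ker_mk']]
      exact this.comap _
    have hsp : s ≠ p := by
      rintro rfl
      exact hPn (P.3 (P.2.to_sup_of_normal_right hNs) le_sup_left ▸ hPN)
    set L := Subgroup.normalizer ((P : Subgroup H) : Set H) with hLdef
    have hsup : N ⊔ L = ⊤ := by
      haveI := hPN
      have h := Sylow.normalizer_sup_eq_top (P.subtype (le_sup_left (b := N)))
      rw [show ((P.subtype (le_sup_left (b := N)) : Subgroup _)).map ((P : Subgroup H) ⊔ N).subtype =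
        (P : Subgroup H) by rw [Sylow.coe_subtype, Subgroup.subgroupOf_map_subtype, inf_eq_left.2 le_sup_left]] at h
      rw [← sup_assoc, sup_comm L, sup_assoc] at h
      rw [eq_top_iff, ← h]
      exact sup_le (Subgroup.le_normalizer.trans le_sup_right) (sup_le le_sup_right le_sup_left)
    have hPNd : ∀ x ∈ N, x ∈ (P : Subgroup H) → x = 1 := fun x hx hx' =>
      (Subgroup.mem_bot).1 (Subgroup.disjoint_of_coprime_natCard (by
        obtain ⟨i, hi⟩ := hNs.exists_card_eq
        obtain ⟨j, hj⟩ := P.2.exists_card_eq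
        rw [hi, hj]
        exact Nat.Coprime.pow _ _ ((Nat.coprime_primes hs Fact.out).2 hsp)) |>.le_bot ⟨hx, hx'⟩)
    have hdisj : N ⊓ L = ⊥ := by
      have hn : (N ⊓ L).Normal := by
        refine ⟨fun x hx g => ?_⟩
        obtain ⟨a, ha, l, hl, rfl⟩ := Subgroup.mem_sup_of_normal_left.1
          (hsup ▸ Subgroup.mem_top g : g ∈ N ⊔ L)
        have hy : l * x * l⁻¹ ∈ N ⊓ L :=
          ⟨hNn.conj_mem x hx.1 l, L.mul_mem (L.mul_mem hl hx.2) (L.inv_mem hl)⟩
        have hc : Commute a (l * x * l⁻¹) := congrArg Subtype.val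
          (mul_comm (⟨a, ha⟩ : N) ⟨_, hy.1⟩)
        rwa [show a * l * x * (a * l)⁻¹ = a * (l * x * l⁻¹) * a⁻¹ by group, hc.eq, mul_inv_cancel_right]
      refine (hminN _ hn inf_le_left).resolve_right fun h => hPn ?_
      rw [← Subgroup.normalizer_eq_top_iff, ← hLdef, eq_top_iff, ← hsup]
      exact sup_le (inf_eq_left.1 h) le_rfl
    have hNP : ⁅N, (P : Subgroup H)⁆ = N := by
      have hle : ⁅N, (P : Subgroup H)⁆ ≤ N := Subgroup.commutator_le_left N _
      have hn : (⁅N, (P : Subgroup H)⁆).Normal := by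
        refine ⟨fun x hx g => ?_⟩
        obtain ⟨a, ha, l, hl, rfl⟩ := Subgroup.mem_sup_of_normal_left.1
          (hsup ▸ Subgroup.mem_top g : g ∈ N ⊔ L)
        have h1 : l * x * l⁻¹ ∈ (⁅N, (P : Subgroup H)⁆).map (MulAut.conj l).toMonoidHom :=
          ⟨x, hx, rfl⟩
        rw [Subgroup.map_commutator] at h1
        have h2 : l * x * l⁻¹ ∈ ⁅N, (P : Subgroup H)⁆ := by
          refine Subgroup.commutator_mono ?_ ?_ h1
          · rintro _ ⟨y, hy, rfl⟩; exact hNn.conj_mem y hy l
          · rintro _ ⟨y, hy, rfl⟩; exact (Subgroup.mem_normalizer_iff.1 hl y).1 hy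
        have hc : Commute a (l * x * l⁻¹) := congrArg Subtype.val
          (mul_comm (⟨a, ha⟩ : N) ⟨_, hle h2⟩)
        rwa [show a * l * x * (a * l)⁻¹ = a * (l * x * l⁻¹) * a⁻¹ by group, hc.eq, mul_inv_cancel_right]
      refine (hminN _ hn hle).resolve_left fun h => hN1 ?_
      rw [eq_bot_iff, ← hdisj]
      refine le_inf le_rfl fun x hx => Subgroup.mem_normalizer_iff.2 fun y => ?_
      have hc : ∀ y ∈ (P : Subgroup H), x * y * x⁻¹ = y := fun y hy => mul_inv_eq_iff_eq_mul.2
        (commutatorElement_eq_one_iff_commute.1 ((Subgroup.eq_bot_iff_forall _).1 h _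
          (Subgroup.commutator_mem_commutator hx hy))).eq
      refine ⟨fun hy => (hc y hy).symm ▸ hy, fun hy => ?_⟩
      have := hc _ hy
      have hy' : x * y * x⁻¹ = y := mul_left_cancel (a := x) (mul_right_cancel (b := x⁻¹)
        (by simpa [mul_assoc] using this))
      rwa [hy'] at hy
    -- a suitable character of `N`
    obtain ⟨z, hz, μ, hμ, hzμ⟩ : ∃ z ∈ L, ∃ μ : N →* ℂ, (∃ n, μ n ≠ 1) ∧
        ∀ n : N, μ (MulAut.conjNormal z n) = μ n⁻¹ := by
      by_cases hs2 : s = 2
      · obtain ⟨n0, hn0⟩ := exists_ne (1 : N)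
        obtain ⟨φ, hφ⟩ := CommGroup.exists_apply_ne_one_of_hasEnoughRootsOfUnity N ℂ hn0
        refine ⟨1, L.one_mem, (Units.coeHom ℂ).comp φ, ⟨n0, fun h => hφ (Units.ext h)⟩, fun n => ?_⟩
        rw [map_one, MulAut.one_apply, inv_eq_of_mul_eq_one_left
          (Subtype.ext (show (n : H) * n = 1 by rw [← pow_two, ← hs2]; exact hexp n n.2))]
      by_contra hno
      -- all 2-elements centralize `N`
      have hcen : ∀ y ∈ L, (∃ k : ℕ, orderOf y = 2 ^ k) → ∀ x ∈ N, y * x * y⁻¹ = x := by
        intro y hy hk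
        by_contra hne
        obtain ⟨k, hk⟩ := hk
        obtain ⟨z, hzL, ⟨w, hw, hwz⟩, hz2⟩ : ∃ z ∈ L, (∃ x ∈ N, z * x * z⁻¹ ≠ x) ∧
            ∀ x ∈ N, (z * z) * x * (z * z)⁻¹ = x := by
          obtain ⟨j, hj1, hj2⟩ : ∃ j, (¬ ∀ x ∈ N, y ^ 2 ^ j * x * (y ^ 2 ^ j)⁻¹ = x) ∧
              ∀ x ∈ N, y ^ 2 ^ (j + 1) * x * (y ^ 2 ^ (j + 1))⁻¹ = x := by
            by_contra! hj
            have : ∀ j, ¬ ∀ x ∈ N, y ^ 2 ^ j * x * (y ^ 2 ^ j)⁻¹ = x := by
              intro j
              induction j with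
              | zero => rwa [pow_zero, pow_one]
              | succ j ihj =>
                intro h; obtain ⟨x, hx, hne'⟩ := hj j (by push Not at ihj; exact ihj); exact hne' (h x hx)
            refine this k fun x _ => ?_
            rw [← hk, pow_orderOf_eq_one]; simp
          push Not at hj1
          refine ⟨y ^ 2 ^ j, L.pow_mem hy _, hj1, ?_⟩
          rwa [← pow_two, ← pow_mul, ← pow_succ]
        refine hno ⟨z, hzL, ?_⟩
        set n0 : N := (⟨w, hw⟩ : N)⁻¹ * MulAut.conjNormal z ⟨w, hw⟩ with hn0def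
        have hn0 : n0 ≠ 1 := fun h => hwz (congrArg Subtype.val (inv_mul_eq_one.1 h)).symm
        have hodd : ∀ a : N, a * a = 1 → a = 1 := fun a ha => by
          have h2 : orderOf a ∣ 2 := orderOf_dvd_of_pow_eq_one (by rw [pow_two, ha])
          have h3 : orderOf a ∣ s := orderOf_dvd_of_pow_eq_one (Subtype.ext (hexp a a.2))
          exact orderOf_eq_one_iff.1 (Nat.eq_one_of_dvd_coprimes
            ((Nat.coprime_primes hs Nat.prime_two).2 hs2) h3 h2)
        obtain ⟨φ, hφ⟩ := CommGroup.exists_apply_ne_one_of_hasEnoughRootsOfUnity N ℂ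
          (fun h => hn0 (hodd _ h) : n0 * n0 ≠ 1)
        let φ' : N →* ℂˣ := φ / φ.comp (MulAut.conjNormal z).toMonoidHom
        have hzz : ∀ n : N, MulAut.conjNormal z (MulAut.conjNormal z n) = n := fun n => Subtype.ext (by
          simpa [mul_assoc] using hz2 n n.2)
        have hn0z : MulAut.conjNormal z n0 = n0⁻¹ := by
          rw [hn0def, map_mul, map_inv, hzz, mul_inv_rev, inv_inv]
        refine ⟨(Units.coeHom ℂ).comp φ', ⟨n0, fun h => hφ ?_⟩, fun n => ?_⟩
        · have h' : φ' n0 = 1 := Units.ext h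
          simpa [φ', hn0z, div_eq_mul_inv, map_mul] using h'
        · simp [φ', hzz, div_eq_mul_inv, mul_comm]
      let SL : Sylow 2 L := default
      have hLi : ¬ 2 ∣ L.index := by
        intro h
        have hc : Subgroup.IsComplement' N L := Subgroup.isComplement'_of_disjoint_and_mul_eq_univ
          (disjoint_iff.2 hdisj) (by rw [← Subgroup.normal_mul, hsup, Subgroup.coe_top])
        obtain ⟨i, hi⟩ := hNs.exists_card_eq
        rw [hc.index_eq_card, hi] at h
        exact hs2 ((Nat.prime_dvd_prime_iff_eq Nat.prime_two hs).1 (Nat.prime_two.dvd_of_dvd_pow h)).symm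
      have hS : ¬ 2 ∣ ((SL : Subgroup L).map L.subtype).index := by
        rw [Subgroup.index_map_of_injective _ L.subtype_injective, Subgroup.range_subtype]
        exact Nat.prime_two.not_dvd_mul SL.not_dvd_index hLi
      let S : Sylow 2 H := (SL.2.map L.subtype).toSylow hS
      let C := Subgroup.centralizer (N : Set H) ⊓ L
      have hC : C.Normal := by
        refine ⟨fun x hx g => ?_⟩
        obtain ⟨a, ha, l, hl, rfl⟩ := Subgroup.mem_sup_of_normal_left.1
          (hsup ▸ Subgroup.mem_top g : g ∈ N ⊔ L)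
        have hy : l * x * l⁻¹ ∈ C := ⟨(inferInstance :
          (Subgroup.centralizer (N : Set H)).Normal).conj_mem x hx.1 l,
          L.mul_mem (L.mul_mem hl hx.2) (L.inv_mem hl)⟩
        rwa [show a * l * x * (a * l)⁻¹ = a * (l * x * l⁻¹) * a⁻¹ by group,
          Subgroup.mem_centralizer_iff.1 hy.1 a ha, mul_inv_cancel_right]
      have hK : pEl 2 H ≤ C := by
        rw [pEl_eq_iSup]
        refine iSup_le fun Q => ?_
        obtain ⟨g, rfl⟩ := MulAction.exists_smul_eq H S Q
        intro x hx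
        rw [Sylow.smul_def, Sylow.pointwise_smul_def] at hx
        obtain ⟨y, hy, rfl⟩ := hx
        refine hC.conj_mem y ?_ g
        obtain ⟨w, hw, rfl⟩ := hy
        refine ⟨Subgroup.mem_centralizer_iff.2 fun m hm => ?_, w.2⟩
        obtain ⟨k, hk⟩ := (IsPGroup.iff_orderOf (p := 2)).1 SL.2 ⟨w, hw⟩
        rw [Subgroup.orderOf_mk, ← Subgroup.orderOf_coe] at hk
        exact (mul_inv_eq_iff_eq_mul.1 (hcen w w.2 ⟨k, hk⟩ m hm)).symm
      refine hN1 (eq_bot_iff.2 fun x hx => hdisj ▸ Subgroup.mem_inf.2 ⟨hx, (hK ?_).2⟩)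
      haveI := pEl_normal (G := H) 2
      obtain ⟨a, ha⟩ := hidx
      rw [← QuotientGroup.eq_one_iff (N := pEl 2 H)]
      have h1 : orderOf (x : H ⧸ pEl 2 H) ∣ p ^ a := by
        rw [← ha, Subgroup.index_eq_card]; exact orderOf_dvd_natCard _
      have h2 : orderOf (x : H ⧸ pEl 2 H) ∣ s ^ 1 := by
        refine orderOf_dvd_of_pow_eq_one ?_
        rw [pow_one, ← QuotientGroup.mk_pow, hexp x hx, QuotientGroup.mk_one]
      exact orderOf_eq_one_iff.1 (Nat.eq_one_of_dvd_coprimes
        (Nat.Coprime.pow a 1 ((Nat.coprime_primes Fact.out hs).2 hsp.symm)) h1 h2)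
    obtain ⟨χ, hχr, hχd⟩ := exists_real_split p N L hdisj hsup P hNP z hz μ hμ hzμ
    exact hreal χ hχr (charDegree_eq_degree χ ▸ hχd)

/-- Let p be a prime and G a finite group such that the subgroup generated by the p-elements of G (the smallest normal subgroup of index prime to p) is solvable and every real-valued irreducible complex character of G has degree prime to p. Let K be the subgroup generated by the 2-elements of G (the smallest normal subgroup of odd index). Let U be the largest normal subgroup of G containing K such that the index of K in U is a power of p (so that U/K is the p-core of G/K). Then the Sylow p-subgroups of U are normal in U. -/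
theorem result {G : Type*} [Group G] [Finite G] (p : ℕ) [Fact p.Prime] (hsolv : Group.IsSolvable ↥(Subgroup.closure {g : G | ∃ k : ℕ, orderOf g = p ^ k})) (hreal : ∀ χ : Cfsg.IrrCharacter G, (∀ g : G, ((χ : G → ℂ) g).im = 0) → ¬ p ∣ Cfsg.charDegree (χ : G → ℂ)) (U : Subgroup G) (hU : U.Normal) (hKU : (Subgroup.closure {g : G | ∃ k : ℕ, orderOf g = 2 ^ k}) ≤ U) (hUp : ∃ a : ℕ, (Subgroup.closure {g : G | ∃ k : ℕ, orderOf g = 2 ^ k}).relIndex U = p ^ a) (hmax : ∀ V : Subgroup G, V.Normal → (Subgroup.closure {g : G | ∃ k : ℕ, orderOf g = 2 ^ k}) ≤ V → (∃ b : ℕ, (Subgroup.closure {g : G | ∃ k : ℕ, orderOf g = 2 ^ k}).relIndex V = p ^ b) → V ≤ U) (Q : Sylow p ↥U) : (Q : Subgroup ↥U).Normal := by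
  haveI := Fintype.ofFinite G
  haveI := Fintype.ofFinite U
  haveI := hU
  have hsub : ∀ (q : ℕ), ∀ _ : Fact q.Prime, (pEl q U).map U.subtype ≤ pEl q G := fun q _ => by
    rw [pEl_eq_iSup, Subgroup.map_iSup]
    exact iSup_le fun S => mem_pEl (S.2.map U.subtype)
  have h2 : pEl 2 U = (pEl 2 G).subgroupOf U := by
    refine le_antisymm ?_ fun x hx => ?_
    · rw [Subgroup.subgroupOf, ← Subgroup.map_le_iff_le_comap]; exact hsub 2 inferInstance
    · have : pEl 2 G ≤ (pEl 2 U).map U.subtype := (Subgroup.closure_le _).2 fun g hg =>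
        ⟨⟨g, hKU (Subgroup.subset_closure hg)⟩, Subgroup.subset_closure (by
          simpa [Subgroup.orderOf_mk] using hg), rfl⟩
      obtain ⟨w, hw, hwx⟩ := this hx
      exact Subtype.ext hwx ▸ hw
  have hoddU : Odd U.index := (odd_index_pEl_two (G := G)).of_dvd_nat (Subgroup.index_dvd_of_le hKU)
  refine main p (Nat.card U) U le_rfl ?_ (fun θ hθ hd => ?_) ?_ Q
  · haveI : Group.IsSolvable (pEl p G) := hsolv
    exact Group.isSolvable_of_isSolvable_injective
      (f := ((U.subtype.comp (pEl p U).subtype).codRestrict (pEl p G) fun x => hsub p inferInstance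
        ⟨x.1, x.2, rfl⟩)) (fun a b h => Subtype.ext (Subtype.ext (by simpa using congrArg Subtype.val h)))
  · obtain ⟨χ, hχ, hdvd⟩ := exists_real_over U hoddU θ hθ
    rw [charDegree_eq_degree] at hd
    exact hreal χ hχ (charDegree_eq_degree χ ▸ hd.trans hdvd)
  · obtain ⟨a, ha⟩ := hUp
    exact ⟨a, by rw [h2]; exact ha⟩

end Cfsg.Agent.S4863
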