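import Cfsg.Statements.S4864
import Cfsg.Agent.Lib.Char.RealPPrimeSylow
import Cfsg.Agent.Lib.Char.RealOrbits
import Cfsg.Agent.Lib.Blocks.CentralChar
-- import your own Cfsg.Agent.* helpers here

set_option autoImplicit false
open Cfsg

namespace Cfsg.Agent.S4864

universe u

private theorem key {G : Type u} [Group G] [Finite G] (p : ℕ) [hp : Fact p.Prime]
    (hsolv : Group.IsSolvable ↥(Char.powGen G p))
    (hreal : ∀ χ : Cfsg.IrrCharacter G, (∀ g : G, ((χ : G → ℂ) g).im = 0) →
      ¬ p ∣ Cfsg.charDegree (χ : G → ℂ))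
    (P : Sylow p G) (x : G) (hx : IsConj x x⁻¹) :
    ∃ y ∈ Subgroup.normalizer ((P : Subgroup G) : Set G), IsConj x y := by
  classical
  haveI := Fintype.ofFinite G
  let Q : Sylow p ↥(Char.powGen G 2) := default
  haveI hR := Char.sylow_normal_of_real_pPrime _ G rfl hsolv hreal Q
  set R := (Q : Subgroup ↥(Char.powGen G 2)).map (Char.powGen G 2).subtype with hRdef
  have hRp : IsPGroup p R := Q.isPGroup'.map _
  have hRP : R ≤ (P : Subgroup G) := by
    have h := P.is_maximal' (hRp.to_sup_of_normal_left P.isPGroup') le_sup_right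
    rw [← h]
    exact le_sup_left
  by_cases hp2 : p = 2
  · subst hp2
    have hPR : (P : Subgroup G) ≤ R := by
      intro y hy
      have hyK : y ∈ Char.powGen G 2 := Subgroup.subset_closure (by
        obtain ⟨j, hj⟩ := IsPGroup.iff_orderOf.1 P.isPGroup' ⟨y, hy⟩
        exact ⟨j, by rw [← hj, ← Subgroup.orderOf_coe]⟩)
      haveI hPn : (Q : Subgroup ↥(Char.powGen G 2)).Normal := by
        have hQ : (Q : Subgroup ↥(Char.powGen G 2)) = R.subgroupOf (Char.powGen G 2) :=
          ((Q : Subgroup ↥(Char.powGen G 2)).comap_map_eq_self_of_injective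
            (Char.powGen G 2).subtype_injective).symm
        rw [hQ]
        infer_instance
      have hz : IsPGroup 2 (Subgroup.zpowers (⟨y, hyK⟩ : Char.powGen G 2)) := by
        obtain ⟨j, hj⟩ := IsPGroup.iff_orderOf.1 P.isPGroup' ⟨y, hy⟩
        exact IsPGroup.of_card (n := j) (by
          rw [Nat.card_zpowers, Subgroup.orderOf_mk, ← hj, Subgroup.orderOf_mk])
      have h := Q.is_maximal' (Q.isPGroup'.to_sup_of_normal_left hz) le_sup_left
      exact ⟨⟨y, hyK⟩, h ▸ Subgroup.mem_sup_right (Subgroup.mem_zpowers _), rfl⟩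
    refine ⟨x, ?_, IsConj.refl x⟩
    rw [show (P : Subgroup G) = R from le_antisymm hPR hRP, Subgroup.normalizer_eq_top]
    exact Subgroup.mem_top x
  let f := QuotientGroup.mk' R
  have hf : Function.Surjective f := QuotientGroup.mk'_surjective R
  set K := Char.powGen (G ⧸ R) 2 with hK
  haveI : K.Normal := Char.powGen_normal 2
  haveI := Fintype.ofFinite K
  have hKmap : K = (Char.powGen G 2).map f := Char.map_powGen f hf Nat.prime_two
  have hKp : ¬ p ∣ Nat.card K := by
    have h1 : Nat.card K ∣ (Q : Subgroup ↥(Char.powGen G 2)).index := by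
      rw [hKmap]
      let φ : ↥(Char.powGen G 2) →* ↥((Char.powGen G 2).map f) := f.subgroupMap _
      have hle : (Q : Subgroup ↥(Char.powGen G 2)) ≤ φ.ker := fun y hy => by
        rw [MonoidHom.mem_ker]
        exact Subtype.ext ((QuotientGroup.eq_one_iff (y : G)).2 ⟨y, hy, rfl⟩)
      have h2 := Subgroup.index_dvd_of_le hle
      rwa [Subgroup.index_ker, MonoidHom.range_eq_top.2 (MonoidHom.subgroupMap_surjective _ _),
        Subgroup.card_top] at h2
    exact fun hd => Q.not_dvd_index (hd.trans h1)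
  have h2 : ∀ g : G ⧸ R, (∃ j : ℕ, orderOf g = 2 ^ j) → g ∈ K := fun g hg =>
    Subgroup.subset_closure hg
  have hodd : Odd K.index := by
    haveI : Fact (Nat.Prime 2) := ⟨Nat.prime_two⟩
    let S : Sylow 2 (G ⧸ R) := default
    rw [← Nat.not_even_iff_odd, even_iff_two_dvd]
    refine fun hd => S.not_dvd_index (hd.trans (Subgroup.index_dvd_of_le fun y hy => h2 y ?_))
    obtain ⟨j, hj⟩ := IsPGroup.iff_orderOf.1 S.isPGroup' ⟨y, hy⟩
    exact ⟨j, by rw [← hj, ← Subgroup.orderOf_coe]⟩
  have hxr : IsConj (f x) (f x)⁻¹ := by rw [← map_inv]; exact f.map_isConj hx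
  have hidx := Char.real_class_pPrime hp2 K hodd h2 hKp (Char.hreal_quotient R hreal) (f x) hxr
  letI : MulAction ↥(P : Subgroup G) {z : G ⧸ R // IsConj (f x) z} :=
    { smul := fun q z => ⟨f q * z.1 * (f q)⁻¹, z.2.trans (isConj_iff.2 ⟨f q, rfl⟩)⟩
      one_smul := fun z => Subtype.ext (by
        show f ((1 : (P : Subgroup G)) : G) * z.1 * _ = z.1
        simp)
      mul_smul := fun a b z => Subtype.ext (by
        show f ((a * b : (P : Subgroup G)) : G) * z.1 * (f ((a * b : (P : Subgroup G)) : G))⁻¹ =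
          f a * (f b * z.1 * (f b)⁻¹) * (f a)⁻¹
        rw [Subgroup.coe_mul, map_mul, mul_inv_rev]
        group) }
  obtain ⟨⟨z, hz⟩, hfix⟩ := P.isPGroup'.nonempty_fixed_point_of_prime_not_dvd_card
    {z : G ⧸ R // IsConj (f x) z} (by rwa [Blocks.card_isConj_eq_index])
  obtain ⟨c, hc⟩ := isConj_iff.1 hz
  obtain ⟨g, rfl⟩ := hf c
  refine ⟨g * x * g⁻¹, Subgroup.mem_normalizer_fintype fun q hq => ?_, isConj_iff.2 ⟨g, rfl⟩⟩
  have h1 : f q * z * (f q)⁻¹ = z := congrArg Subtype.val (hfix ⟨q, hq⟩)
  have h3 : f (g * x * g⁻¹ * q * (g * x * g⁻¹)⁻¹) = f q := by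
    simp only [map_mul, map_inv]
    rw [hc]
    calc z * f q * z⁻¹ = (f q * z * (f q)⁻¹) * f q * z⁻¹ := by rw [h1]
      _ = f q := by group
  have h4 := hRP (QuotientGroup.eq.1 h3.symm)
  have := (P : Subgroup G).mul_mem hq h4
  rwa [mul_inv_cancel_left] at this

/-- Let p be a prime and G a finite group such that the subgroup generated by the p-elements of G is solvable and every real-valued irreducible complex character of G has degree prime to p. Then the normalizer of a Sylow p-subgroup of G contains an element of every real conjugacy class of G: every element conjugate to its inverse is conjugate to an element of that normalizer. -/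
theorem result {G : Type*} [Group G] [Finite G] (p : ℕ) [Fact p.Prime] (hsolv : Group.IsSolvable ↥(Subgroup.closure {g : G | ∃ k : ℕ, orderOf g = p ^ k})) (hreal : ∀ χ : Cfsg.IrrCharacter G, (∀ g : G, ((χ : G → ℂ) g).im = 0) → ¬ p ∣ Cfsg.charDegree (χ : G → ℂ)) (P : Sylow p G) (x : G) (hx : IsConj x x⁻¹) : ∃ y ∈ Subgroup.normalizer ((P : Subgroup G) : Set G), IsConj x y := by
  exact key p hsolv hreal P x hx

end Cfsg.Agent.S4864
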