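import Cfsg.Statements.S4914
import Cfsg.Agent.Lib.Glauberman.Relative
import Cfsg.Agent.Lib.Glauberman.Operators

set_option autoImplicit false
set_option linter.style.haveILetI false
open Cfsg

namespace Cfsg.Agent.S4914

open Cfsg.Agent.Char Cfsg.Agent.Glauberman Cfsg.Agent.RelGlauberman

attribute [local instance 10] Fintype.ofFinite

/-- Let P and K be subgroups of a finite group G with P a p-group normalizing K, and suppose K has a normal Sylow p-subgroup Q. Let C be the subgroup of those k ∈ K whose commutator with every element of P lies in Q (so that C/Q is the fixed-point subgroup of P on K/Q). Then there is a bijection f from the P-invariant irreducible complex characters of K onto the P-invariant irreducible complex characters of C such that, for every P-invariant irreducible character χ of K, the multiplicity of f(χ) in the restriction of χ to C is a natural number congruent to 1 or to −1 modulo p, every other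 P-invariant irreducible character of C occurs in that restriction with multiplicity divisible by p, and the degrees of χ and f(χ) are congruent modulo p up to sign. -/
theorem result {G : Type*} [Group G] [Finite G] (p : ℕ) [Fact p.Prime] (P K Q C : Subgroup G) (hP : IsPGroup p ↥P) (hPK : P ≤ Subgroup.normalizer (K : Set G)) (hQK : Q ≤ K) (hQn : ∀ k ∈ K, ∀ q ∈ Q, k * q * k⁻¹ ∈ Q) (hQp : ∃ a : ℕ, Nat.card ↥Q = p ^ a) (hQsyl : ¬ p ∣ Q.relIndex K) (hCK : C ≤ K) (hC : ∀ k : G, k ∈ C ↔ (k ∈ K ∧ ∀ x ∈ P, x * k * x⁻¹ * k⁻¹ ∈ Q)) : ∃ f : {χ : Cfsg.IrrCharacter ↥K // (∀ x ∈ P, ∀ k k' : ↥K, (k' : G) = x * (k : G) * x⁻¹ → (χ : ↥K → ℂ) k' = (χ : ↥K → ℂ) k)} → {ξ : Cfsg.IrrCharacter ↥C // (∀ x ∈ P, ∀ k k' : ↥C, (k' : G) = x * (k : G) * x⁻¹ → (ξ : ↥C → ℂ) k' = (ξ : ↥C → ℂ) k)}, Function.Bijective f ∧ ∀ χ, (∀ ξ : {ξ : Cfsg.IrrCharacter ↥C // (∀ x ∈ P, ∀ k k' : ↥C, (k' : G) = x * (k : G) * x⁻¹ → (ξ : ↥C → ℂ) k' = (ξ : ↥C → ℂ) k)}, ∃ m : ℕ,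 (Nat.card ↥C : ℂ)⁻¹ * ∑ᶠ c : ↥C, (χ.1 : ↥K → ℂ) (Subgroup.inclusion hCK c) * (starRingEnd ℂ) ((ξ.1 : ↥C → ℂ) c) = (m : ℂ) ∧ (ξ = f χ → ((m : ZMod p) = 1 ∨ (m : ZMod p) = -1)) ∧ (ξ ≠ f χ → p ∣ m)) ∧ ((Cfsg.charDegree ((f χ).1 : ↥C → ℂ) : ZMod p) = (Cfsg.charDegree (χ.1 : ↥K → ℂ) : ZMod p) ∨ (Cfsg.charDegree ((f χ).1 : ↥C → ℂ) : ZMod p) = -(Cfsg.charDegree (χ.1 : ↥K → ℂ) : ZMod p)) := by
  have hnorm : ∀ s ∈ P, ∀ g ∈ K, s * g * s⁻¹ ∈ K := fun s hs g hg =>
    (Subgroup.mem_normalizer_iff.1 (hPK hs) g).1 hg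
  haveI : (Q.subgroupOf K).Normal :=
    ⟨fun q hq k => Subgroup.mem_subgroupOf.2 (hQn k k.2 q (Subgroup.mem_subgroupOf.1 hq))⟩
  have hPQ : ∀ x ∈ P, ∀ q ∈ Q, x * q * x⁻¹ ∈ Q := fun x hx q hq => by
    obtain ⟨a, ha⟩ := hQp
    have hchar : ∀ k : K, k ∈ Q.subgroupOf K ↔ ∃ n, k ^ p ^ n = 1 := fun k => by
      constructor
      · intro hk
        refine ⟨a, Subtype.ext ?_⟩
        have h1 := congrArg Subtype.val (pow_card_eq_one' (x := (⟨(k : G), hk⟩ : Q)))
        rw [ha] at h1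
        simpa using h1
      · rintro ⟨n, hn⟩
        rw [← QuotientGroup.eq_one_iff]
        obtain ⟨j, hj⟩ := exists_pow_eq_self_of_coprime (x := (k : K ⧸ Q.subgroupOf K)) (n := p ^ n)
          (Nat.Coprime.pow_left n ((Fact.out : p.Prime).coprime_iff_not_dvd.2 fun h => hQsyl
            (h.trans ((orderOf_dvd_natCard _).trans (Subgroup.index_eq_card _).symm.dvd))))
        rw [← hj, ← QuotientGroup.mk_pow, hn, QuotientGroup.mk_one, one_pow]
    obtain ⟨n, hn⟩ := (hchar ⟨q, hQK hq⟩).1 hq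
    refine Subgroup.mem_subgroupOf.1
      ((hchar ⟨x * q * x⁻¹, hnorm x hx q (hQK hq)⟩).2 ⟨n, Subtype.ext ?_⟩)
    have h1 : q ^ p ^ n = 1 := by simpa using congrArg Subtype.val hn
    show (x * q * x⁻¹) ^ p ^ n = 1
    rw [conj_pow, h1, mul_one, mul_inv_cancel]
  have hS : RelSetting p (conjOn hnorm) (Q.subgroupOf K) (C.subgroupOf K) := by
    refine ⟨hP, ?_, hQsyl, fun t q hq => ?_, fun k => ?_⟩
    · obtain ⟨a, ha⟩ := hQp
      exact ⟨a, by rw [Nat.card_congr (Subgroup.subgroupOfEquivOfLe hQK).toEquiv, ha]⟩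
    · exact Subgroup.mem_subgroupOf.2 (hPQ t t.2 q (Subgroup.mem_subgroupOf.1 hq))
    · rw [Subgroup.mem_subgroupOf, hC]
      constructor
      · exact fun h t => Subgroup.mem_subgroupOf.2 (h.2 t t.2)
      · exact fun h => ⟨k.2, fun x hx => Subgroup.mem_subgroupOf.1 (h ⟨x, hx⟩)⟩
  set e := Subgroup.subgroupOfEquivOfLe hCK
  let down : Cfsg.IrrCharacter (C.subgroupOf K) → Cfsg.IrrCharacter C := fun η =>
    ⟨fun c => η.1 (e.symm c), IsIrrCharacter.comp_surjective η.2 e.symm.toMonoidHom e.symm.surjective⟩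
  let up : Cfsg.IrrCharacter C → Cfsg.IrrCharacter (C.subgroupOf K) := fun ξ =>
    ⟨fun c => ξ.1 (e c), IsIrrCharacter.comp_surjective ξ.2 e.toMonoidHom e.surjective⟩
  have hdu : ∀ ξ, down (up ξ) = ξ := fun ξ =>
    Subtype.ext (funext fun c => congrArg ξ.1 (e.apply_symm_apply c))
  have hud : ∀ η, up (down η) = η := fun η =>
    Subtype.ext (funext fun c => congrArg η.1 (e.symm_apply_apply c))
  have hinv : ∀ η : Cfsg.IrrCharacter (C.subgroupOf K), IsFix (actC hS) η.1 ↔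
      ∀ x ∈ P, ∀ k k' : ↥C, (k' : G) = x * (k : G) * x⁻¹ → (down η).1 k' = (down η).1 k := by
    intro η
    constructor
    · intro h x hx k k' hk
      show η.1 (e.symm k') = η.1 (e.symm k)
      rw [show e.symm k' = actC hS ⟨x, hx⟩ (e.symm k) from Subtype.ext (Subtype.ext hk)]
      exact h _ _
    · intro h t c
      have h1 := h t t.2 (e c) (e (actC hS t c)) rfl
      show η.1 (actC hS t c) = η.1 c
      simpa [down] using h1
  let F : {χ : Cfsg.IrrCharacter ↥K // (∀ x ∈ P, ∀ k k' : ↥K, (k' : G) = x * (k : G) * x⁻¹ →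
      (χ : ↥K → ℂ) k' = (χ : ↥K → ℂ) k)} → Cfsg.IrrCharacter (C.subgroupOf K) := fun χ =>
    (exists_relCorr_right hS ((isFix_conjOn_iff hnorm χ.1.1).2 χ.2)).choose
  have hF : ∀ χ, RelCorr hS χ.1 (F χ) := fun χ =>
    (exists_relCorr_right hS ((isFix_conjOn_iff hnorm χ.1.1).2 χ.2)).choose_spec
  refine ⟨fun χ => ⟨down (F χ), (hinv (F χ)).1 (hF χ).2.1⟩, ⟨fun χ χ' h => ?_, fun ξ => ?_⟩,
    fun χ => ⟨fun ξ => ?_, ?_⟩⟩
  · have h1 : F χ = F χ' := by rw [← hud (F χ), ← hud (F χ')]; exact congrArg up (congrArg Subtype.val h)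
    exact Subtype.ext (relCorr_left_unique hS (hF χ) (h1 ▸ hF χ'))
  · have hξ : IsFix (actC hS) (up ξ.1).1 := (hinv _).2 (by rw [hdu]; exact ξ.2)
    obtain ⟨χ, hχ⟩ := exists_relCorr_left hS hξ
    refine ⟨⟨χ, (isFix_conjOn_iff hnorm χ.1).1 hχ.1⟩, Subtype.ext ?_⟩
    show down (F _) = ξ.1
    exact (congrArg down (relCorr_right_unique hS (hF _) hχ)).trans (hdu ξ.1)
  · refine ⟨mult (C.subgroupOf K).subtype χ.1 (up ξ.1), ?_, fun h => ?_, fun h => ?_⟩
    · rw [← mult_eq, finsum_eq_sum_of_fintype, classInner, Nat.card_congr e.toEquiv]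
      congr 1
      exact Fintype.sum_equiv e.toEquiv.symm _ _ fun c => by
        show _ = χ.1.1 ((e.symm c : C.subgroupOf K) : K) *
          (starRingEnd ℂ) (ξ.1.1 (e (e.symm c)))
        rw [e.apply_symm_apply]
        rfl
    · rw [h]
      show (mult _ χ.1 (up (down (F χ))) : ZMod p) = 1 ∨ _
      rw [hud]
      exact relCorr_mult_cast hS (hF χ)
    · by_contra hd
      refine h (Subtype.ext ?_)
      show ξ.1 = down (F χ)
      rw [← hdu ξ.1]
      exact congrArg down (relCorr_right_unique hS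
        ⟨(hF χ).1, (hinv _).2 (by rw [hdu]; exact ξ.2), hd⟩ (hF χ))
  · show (Cfsg.charDegree (down (F χ)).1 : ZMod p) = _ ∨ (Cfsg.charDegree (down (F χ)).1 : ZMod p) = _
    have hd : degree (down (F χ)) = degree (F χ) := by
      have h1 : (down (F χ)).1 1 = (F χ).1 1 := congrArg (F χ).1 (map_one e.symm)
      rw [apply_one_eq_degree, apply_one_eq_degree] at h1
      exact_mod_cast h1
    rw [charDegree_eq_degree, charDegree_eq_degree, hd, relCorr_degree_cast hS (hF χ)]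
    rcases relCorr_mult_cast hS (hF χ) with h | h <;> rw [h]
    · left; rw [one_mul]
    · right; rw [neg_one_mul, neg_neg]

end Cfsg.Agent.S4914
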