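import Cfsg.Statements.S4865
import Cfsg.Agent.Lib.Char.OddIndexReal
import Cfsg.Agent.Lib.Char.RealPPrimeSylow
import Cfsg.Agent.S4914
-- import your own Cfsg.Agent.* helpers here

set_option autoImplicit false
open Cfsg

namespace Cfsg.Agent.S4865

open Cfsg.Agent Cfsg.Agent.Char

set_option linter.style.haveILetI false

universe u

variable {G : Type u} [Group G] [Finite G]

/-- Two fixed points of a Sylow subgroup in one orbit are conjugate under its normaliser. -/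
theorem exists_normalizer_smul {X : Type*} [MulAction G X] {p : ℕ} [Fact p.Prime] (P : Sylow p G)
    (x : X) (g : G) (hx : ∀ u ∈ (P : Subgroup G), u • x = x)
    (hy : ∀ u ∈ (P : Subgroup G), u • (g • x) = g • x) :
    ∃ n ∈ Subgroup.normalizer ((P : Subgroup G) : Set G), n • x = g • x := by
  set St := MulAction.stabilizer G x
  have hPS : (P : Subgroup G) ≤ St := fun u hu => hx u hu
  have hQS : ((g⁻¹ • P : Sylow p G) : Subgroup G) ≤ St := by
    intro v hv
    rw [Sylow.coe_subgroup_smul, Subgroup.mem_pointwise_smul_iff_inv_smul_mem] at hv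
    have h2 : g * v * g⁻¹ ∈ (P : Subgroup G) := by simpa [← map_inv] using hv
    have h3 := hy _ h2
    rw [← mul_smul, show g * v * g⁻¹ * g = g * v by group, mul_smul] at h3
    exact MulAction.injective g h3
  obtain ⟨t, ht⟩ := MulAction.exists_smul_eq St (P.subtype hPS) ((g⁻¹ • P).subtype hQS)
  rw [Sylow.smul_subtype] at ht
  have ht' := Sylow.subtype_injective ht
  refine ⟨g * (t : G), ?_, ?_⟩
  · refine Sylow.smul_eq_iff_mem_normalizer.1 ?_
    rw [mul_smul]
    rw [show ((t : G) • P) = g⁻¹ • P from ht', smul_inv_smul]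
  · rw [mul_smul]
    exact congrArg (g • ·) t.2

/-- An orbit and its part fixed by a Sylow subgroup have congruent sizes. -/
theorem card_orbit_cast {X : Type*} [MulAction G X] [Finite X] {p : ℕ} [Fact p.Prime] (P : Sylow p G)
    (x : X) (hx : ∀ u ∈ (P : Subgroup G), u • x = x) :
    (Nat.card (MulAction.orbit G x) : ZMod p) =
      (Nat.card (MulAction.orbit (Subgroup.normalizer ((P : Subgroup G) : Set G)) x) : ZMod p) := by
  have h := IsPGroup.card_modEq_card_fixedPoints P.isPGroup' (MulAction.orbit G x)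
  rw [(ZMod.natCast_eq_natCast_iff _ _ p).2 h]
  refine congrArg _ (Nat.card_congr
    { toFun := fun y => ⟨y.1.1, by
        obtain ⟨g, hg⟩ := y.1.2
        obtain ⟨n, hn, he⟩ := exists_normalizer_smul P x g hx fun u hu => by
          have h1 := congrArg Subtype.val (y.2 ⟨u, hu⟩)
          rw [show g • x = y.1.1 from hg]
          exact h1
        exact ⟨⟨n, hn⟩, he.trans hg⟩⟩
      invFun := fun y => ⟨⟨y.1, by
          obtain ⟨n, hn⟩ := y.2
          exact ⟨(n : G), hn⟩⟩, fun u => Subtype.ext (by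
          obtain ⟨n, hn⟩ := y.2
          have hn' : (n : G) • x = y.1 := hn
          show (u : G) • y.1 = y.1
          have hc : (n : G)⁻¹ * (u : G) * (n : G) ∈ (P : Subgroup G) := by
            have := (Subgroup.mem_normalizer_iff.1 (inv_mem n.2) (u : G)).1 u.2
            simpa using this
          rw [← hn', ← mul_smul, show (u : G) * (n : G) = (n : G) * ((n : G)⁻¹ * (u : G) * (n : G)) by group,
            mul_smul, hx _ hc])⟩
      left_inv := fun y => rfl
      right_inv := fun y => rfl })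

theorem odd_index_powGen [Fintype G] : Odd (powGen G 2).index := by
  haveI := powGen_normal (G := G) 2
  rw [Nat.odd_iff, ← Nat.two_dvd_ne_zero]
  intro hd
  rw [Subgroup.index_eq_card] at hd
  haveI := Fact.mk Nat.prime_two
  obtain ⟨y, hy⟩ := exists_prime_orderOf_dvd_card' 2 hd
  obtain ⟨x, c, rfl, hx⟩ := PrimeParts.exists_primePow_lift (QuotientGroup.mk' (powGen G 2))
    (QuotientGroup.mk'_surjective _) Nat.prime_two (b := 1) (by rw [hy, pow_one])
  have h1 : (QuotientGroup.mk' (powGen G 2)) x = 1 :=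
    (QuotientGroup.eq_one_iff x).2 (Subgroup.subset_closure ⟨c, hx⟩)
  rw [h1, orderOf_one] at hy
  omega

theorem main [Fintype G] (p : ℕ) [hp : Fact p.Prime] (hsolv : Group.IsSolvable ↥(powGen G p))
    (hreal : ∀ χ : IrrCharacter G, (∀ g : G, (χ.1 g).im = 0) → ¬ p ∣ charDegree χ.1) (P : Sylow p G)
    [Fintype (Subgroup.normalizer ((P : Subgroup G) : Set G))] :
    ∃ f : {χ : IrrCharacter G // ∀ g : G, (χ.1 g).im = 0} →
        {ξ : IrrCharacter ↥(Subgroup.normalizer ((P : Subgroup G) : Set G)) //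
          (∀ n, (ξ.1 n).im = 0) ∧ ¬ p ∣ charDegree ξ.1},
      Function.Bijective f ∧ ∀ χ, ((charDegree (f χ).1.1 : ZMod p) = (charDegree χ.1.1 : ZMod p) ∨
        (charDegree (f χ).1.1 : ZMod p) = -(charDegree χ.1.1 : ZMod p)) := by
  classical
  haveI hKn := powGen_normal (G := G) 2
  have hodd := odd_index_powGen (G := G)
  set K := powGen G 2 with hKdef
  haveI := Fintype.ofFinite K
  set N := Subgroup.normalizer ((P : Subgroup G) : Set G) with hN
  set C' := K.subgroupOf N with hC'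
  haveI := Fintype.ofFinite C'
  have hoddC : Odd C'.index := hodd.of_dvd_nat (Subgroup.relIndex_dvd_index_of_normal K N)
  -- the setting of the relative correspondence
  have hPN : (P : Subgroup G) ≤ N := Subgroup.le_normalizer
  have hPKp : IsPGroup p ((P : Subgroup G) ⊓ K : Subgroup G) := P.isPGroup'.to_le inf_le_left
  obtain ⟨hRn, hnot⟩ : (∀ k ∈ K, ∀ q ∈ (P : Subgroup G) ⊓ K, k * q * k⁻¹ ∈ (P : Subgroup G) ⊓ K) ∧
      ¬ p ∣ ((P : Subgroup G) ⊓ K).relIndex K := by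
    let Q : Sylow p K := default
    have hn := sylow_normal_of_real_pPrime _ G rfl hsolv hreal Q
    set R := (Q : Subgroup K).map K.subtype with hR
    haveI : R.Normal := hn
    have hle : R ≤ (P : Subgroup G) := by
      have h := P.is_maximal' ((Q.isPGroup'.map K.subtype).to_sup_of_normal_left P.isPGroup') le_sup_right
      rw [← h]
      exact le_sup_left
    have heq : (P : Subgroup G) ⊓ K = R := by
      refine le_antisymm ?_ (le_inf hle (Subgroup.map_subtype_le _))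
      intro x hx
      have h1 : ((P : Subgroup G) ⊓ K).subgroupOf K = (Q : Subgroup K) :=
        Q.is_maximal' hPKp.comap_subtype fun y hy => ⟨hle ⟨y, hy, rfl⟩, y.2⟩
      exact ⟨⟨x, hx.2⟩, h1.le hx, rfl⟩
    refine ⟨fun k _ q hq => ?_, ?_⟩
    · rw [heq] at hq ⊢
      exact hn.conj_mem q hq k
    · rw [heq, hR, Subgroup.relIndex, Subgroup.subgroupOf,
        Subgroup.comap_map_eq_self_of_injective K.subtype_injective]
      haveI : (Q : Subgroup K).Normal := ⟨fun a ha b => by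
        obtain ⟨z, hz, he⟩ := hn.conj_mem (a : G) ⟨a, ha, rfl⟩ (b : G)
        rwa [show b * a * b⁻¹ = z from Subtype.ext he.symm]⟩
      exact Q.not_dvd_index
  obtain ⟨f, hf, hprop⟩ := Cfsg.Agent.S4914.result p (P : Subgroup G) K ((P : Subgroup G) ⊓ K) (K ⊓ N)
    P.isPGroup' Subgroup.le_normalizer_of_normal inf_le_right hRn hPKp.exists_card_eq hnot inf_le_left (fun k => by
      constructor
      · rintro ⟨hkK, hkN⟩
        refine ⟨hkK, fun x hx => ⟨?_, ?_⟩⟩
        · have h1 := (Subgroup.mem_normalizer_iff.1 hkN x⁻¹).1 ((P : Subgroup G).inv_mem hx)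
          rw [show x * k * x⁻¹ * k⁻¹ = x * (k * x⁻¹ * k⁻¹) by group]
          exact mul_mem hx h1
        · exact mul_mem (hKn.conj_mem k hkK x) (K.inv_mem hkK)
      · rintro ⟨hkK, hk⟩
        refine ⟨hkK, Sylow.smul_eq_iff_mem_normalizer.1 (Sylow.ext ?_)⟩
        rw [Sylow.coe_subgroup_smul]
        refine Subgroup.eq_of_le_of_card_ge ?_ (Nat.card_congr
          (Subgroup.equivSMul (MulAut.conj k) (P : Subgroup G)).toEquiv).le
        intro y hy
        rw [Subgroup.mem_pointwise_smul_iff_inv_smul_mem] at hy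
        have hx : k⁻¹ * y * k ∈ (P : Subgroup G) := by simpa [← map_inv] using hy
        have h1 := (hk (k⁻¹ * y * k)⁻¹ ((P : Subgroup G).inv_mem hx)).1
        have h2 := mul_mem hx h1
        rw [show y = k⁻¹ * y * k * ((k⁻¹ * y * k)⁻¹ * k * (k⁻¹ * y * k)⁻¹⁻¹ * k⁻¹) by group]
        exact h2)
  letI aK := irrConjAction K
  letI aC := irrConjAction C'
  -- transport to `C'`
  let e : C' ≃* ↥(K ⊓ N) :=
    { toFun := fun c => ⟨((c : N) : G), c.2, (c : N).2⟩
      invFun := fun c => ⟨⟨(c : G), c.2.2⟩, c.2.1⟩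
      left_inv := fun c => rfl
      right_inv := fun c => rfl
      map_mul' := fun a b => rfl }
  let PK := {θ : IrrCharacter K // ∀ u ∈ (P : Subgroup G), u • θ = θ}
  let PC := {φ : IrrCharacter C' // ∀ u : N, (u : G) ∈ (P : Subgroup G) → u • φ = φ}
  have hinvK : ∀ θ : IrrCharacter K, (∀ u ∈ (P : Subgroup G), u • θ = θ) ↔
      ∀ x ∈ (P : Subgroup G), ∀ k k' : K, (k' : G) = x * (k : G) * x⁻¹ → θ.1 k' = θ.1 k := by
    intro θ
    constructor
    · intro h x hx k k' hk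
      have h1 := congrFun (congrArg Subtype.val (h x⁻¹ ((P : Subgroup G).inv_mem hx))) k
      rw [irrConjAction_smul, conjChar_coe] at h1
      rw [← h1, inv_inv]
      exact congrArg θ.1 (Subtype.ext (by simp [hk]))
    · intro h u hu
      rw [irrConjAction_smul]
      exact Subtype.ext (funext fun k => h u⁻¹ ((P : Subgroup G).inv_mem hu) k _ (by simp))
  let down : IrrCharacter ↥(K ⊓ N) → IrrCharacter C' := fun ξ =>
    ⟨fun c => ξ.1 (e c), IsIrrCharacter.comp_surjective ξ.2 e.toMonoidHom e.surjective⟩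
  let up : IrrCharacter C' → IrrCharacter ↥(K ⊓ N) := fun φ =>
    ⟨fun c => φ.1 (e.symm c), IsIrrCharacter.comp_surjective φ.2 e.symm.toMonoidHom e.symm.surjective⟩
  have hinvC : ∀ ξ : IrrCharacter ↥(K ⊓ N),
      (∀ u : N, (u : G) ∈ (P : Subgroup G) → u • down ξ = down ξ) ↔
      ∀ x ∈ (P : Subgroup G), ∀ k k' : ↥(K ⊓ N), (k' : G) = x * (k : G) * x⁻¹ → ξ.1 k' = ξ.1 k := by
    intro ξ
    constructor
    · intro h x hx k k' hk
      have h1 := congrFun (congrArg Subtype.val (h ⟨x⁻¹, hPN ((P : Subgroup G).inv_mem hx)⟩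
        ((P : Subgroup G).inv_mem hx))) (e.symm k)
      rw [irrConjAction_smul, conjChar_coe] at h1
      calc ξ.1 k' = ξ.1 (e (MulAut.conjNormal (⟨x⁻¹, hPN ((P : Subgroup G).inv_mem hx)⟩ : N)⁻¹ (e.symm k))) :=
            congrArg ξ.1 (Subtype.ext (by simp [e, hk]))
        _ = ξ.1 (e (e.symm k)) := h1
        _ = ξ.1 k := by rw [e.apply_symm_apply]
    · intro h u hu
      rw [irrConjAction_smul]
      exact Subtype.ext (funext fun k => h (u : G)⁻¹ ((P : Subgroup G).inv_mem hu) (e k) _ (by simp [e]))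
  let T : PK → PC := fun θ =>
    ⟨down (f ⟨θ.1, (hinvK θ.1).1 θ.2⟩).1, (hinvC _).2 (f ⟨θ.1, (hinvK θ.1).1 θ.2⟩).2⟩
  have hTinj : Function.Injective T := by
    intro a b h
    have h1 : down (f ⟨a.1, (hinvK a.1).1 a.2⟩).1 = down (f ⟨b.1, (hinvK b.1).1 b.2⟩).1 :=
      congrArg Subtype.val h
    have h2 : (f ⟨a.1, (hinvK a.1).1 a.2⟩) = f ⟨b.1, (hinvK b.1).1 b.2⟩ :=
      Subtype.ext (Subtype.ext (funext fun c => by
        rw [← e.apply_symm_apply c]
        exact congrFun (congrArg Subtype.val h1) (e.symm c)))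
    have h3 := hf.1 h2
    exact Subtype.ext (show a.1 = b.1 from congrArg (fun z => z.1) h3)
  have hdu : ∀ φ, down (up φ) = φ := fun φ =>
    Subtype.ext (funext fun c => congrArg φ.1 (e.symm_apply_apply c))
  have hTsur : Function.Surjective T := by
    rintro ⟨φ, hφ⟩
    obtain ⟨θ, hθ⟩ := hf.2 ⟨up φ, (hinvC _).1 (by rw [hdu]; exact hφ)⟩
    refine ⟨⟨θ.1, (hinvK θ.1).2 θ.2⟩, Subtype.ext ?_⟩
    show down (f ⟨θ.1, _⟩).1 = φ
    rw [show (⟨θ.1, (hinvK θ.1).1 ((hinvK θ.1).2 θ.2)⟩ : {χ : IrrCharacter K // ∀ x ∈ (P : Subgroup G),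
        ∀ k k' : K, (k' : G) = x * (k : G) * x⁻¹ → χ.1 k' = χ.1 k}) = θ from rfl, hθ]
    exact hdu φ
  let M : IrrCharacter K → IrrCharacter C' → ℂ := fun θ φ =>
    classInner (fun c : C' => θ.1 ⟨((c : N) : G), c.2⟩) φ.1
  have hM : ∀ (θ : PK) (φ : PC), ∃ m : ℕ, M θ.1 φ.1 = (m : ℂ) ∧ (¬ p ∣ m ↔ φ = T θ) := by
    intro θ φ
    obtain ⟨m, hm, hmeq, hmne⟩ := (hprop ⟨θ.1, (hinvK θ.1).1 θ.2⟩).1
      ⟨up φ.1, (hinvC _).1 (by rw [hdu]; exact φ.2)⟩
    refine ⟨m, ?_, ⟨fun h => ?_, fun h hd => ?_⟩⟩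
    · rw [← hm, finsum_eq_sum_of_fintype]
      show classInner (fun c : C' => θ.1.1 ⟨((c : N) : G), c.2⟩) φ.1.1 = _
      rw [classInner, Nat.card_congr e.toEquiv]
      congr 1
      refine Fintype.sum_equiv e.toEquiv _ _ fun c => ?_
      show θ.1.1 ⟨((c : N) : G), c.2⟩ * _ =
        θ.1.1 (Subgroup.inclusion inf_le_left (e c)) * (starRingEnd ℂ) (φ.1.1 (e.symm (e c)))
      rw [e.symm_apply_apply]
      rfl
    · by_contra hne
      refine h (hmne fun heq => hne (Subtype.ext ?_))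
      show φ.1 = down (f ⟨θ.1, _⟩).1
      rw [← heq]
      exact (hdu φ.1).symm
    · have h1 : (⟨up φ.1, (hinvC _).1 (by rw [hdu]; exact φ.2)⟩ : {ξ : IrrCharacter ↥(K ⊓ N) //
          ∀ x ∈ (P : Subgroup G), ∀ k k' : ↥(K ⊓ N), (k' : G) = x * (k : G) * x⁻¹ → ξ.1 k' = ξ.1 k}) =
          f ⟨θ.1, (hinvK θ.1).1 θ.2⟩ := by
        refine Subtype.ext (Subtype.ext (funext fun c => ?_))
        show φ.1.1 (e.symm c) = _
        rw [h]
        show (f ⟨θ.1, _⟩).1.1 (e (e.symm c)) = _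
        rw [e.apply_symm_apply]
      rw [← ZMod.natCast_eq_zero_iff] at hd
      rcases hmeq h1 with h2 | h2 <;> rw [hd] at h2
      · exact zero_ne_one h2
      · exact one_ne_zero (neg_eq_zero.1 h2.symm)
  have hTdeg : ∀ θ : PK, (charDegree (T θ).1.1 : ZMod p) = (charDegree θ.1.1 : ZMod p) ∨
      (charDegree (T θ).1.1 : ZMod p) = -(charDegree θ.1.1 : ZMod p) := by
    intro θ
    have hd : charDegree (T θ).1.1 = charDegree (f ⟨θ.1, (hinvK θ.1).1 θ.2⟩).1.1 := by
      have h1 : ((charDegree (T θ).1.1 : ℕ) : ℂ) = (charDegree (f ⟨θ.1, (hinvK θ.1).1 θ.2⟩).1.1 : ℕ) := by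
        rw [charDegree_cast, charDegree_cast]
        exact congrArg (f ⟨θ.1, (hinvK θ.1).1 θ.2⟩).1.1 (map_one e)
      exact_mod_cast h1
    rw [hd]
    exact (hprop ⟨θ.1, (hinvK θ.1).1 θ.2⟩).2
  -- compatibility with the normaliser and with complex conjugation
  have hconjK : ∀ θ : IrrCharacter K, (∀ u ∈ (P : Subgroup G), u • θ = θ) →
      ∀ u ∈ (P : Subgroup G), u • conjIrr θ = conjIrr θ := fun θ h u hu =>
    Subtype.ext (funext fun k => congrArg (starRingEnd ℂ) (congrFun (congrArg Subtype.val (h u hu)) k))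
  have hnK : ∀ (n : N) (θ : IrrCharacter K), (∀ u ∈ (P : Subgroup G), u • θ = θ) →
      ∀ u ∈ (P : Subgroup G), u • (n : G) • θ = (n : G) • θ := by
    intro n θ h u hu
    have hc : (n : G)⁻¹ * u * (n : G) ∈ (P : Subgroup G) := by
      simpa using (Subgroup.mem_normalizer_iff.1 (inv_mem n.2) u).1 hu
    rw [← mul_smul, show u * (n : G) = (n : G) * ((n : G)⁻¹ * u * (n : G)) by group, mul_smul, h _ hc]
  have hnC : ∀ (n : N) (φ : IrrCharacter C'), (∀ u : N, (u : G) ∈ (P : Subgroup G) → u • φ = φ) →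
      ∀ u : N, (u : G) ∈ (P : Subgroup G) → u • n • φ = n • φ := by
    intro n φ h u hu
    have hc : ((n⁻¹ * u * n : N) : G) ∈ (P : Subgroup G) := by
      simpa using (Subgroup.mem_normalizer_iff.1 (inv_mem n.2) (u : G)).1 hu
    rw [← mul_smul, show u * n = n * (n⁻¹ * u * n) by group, mul_smul, h _ hc]
  have hTn : ∀ (n : N) (θ : PK), (T ⟨(n : G) • θ.1, hnK n θ.1 θ.2⟩).1 = n • (T θ).1 := by
    intro n θ
    obtain ⟨m, hm, hm'⟩ := hM θ (T θ)
    obtain ⟨l, hl, hl'⟩ := hM ⟨(n : G) • θ.1, hnK n θ.1 θ.2⟩ ⟨n • (T θ).1, hnC n _ (T θ).2⟩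
    have heq : (l : ℂ) = (m : ℂ) := by
      rw [← hl, ← hm]
      show classInner (fun c : C' => (conjFun K θ.1.1 (n : G)⁻¹) ⟨((c : N) : G), c.2⟩)
        (conjFun C' (T θ).1.1 n⁻¹) = _
      rw [show (fun c : C' => (conjFun K θ.1.1 (n : G)⁻¹) ⟨((c : N) : G), c.2⟩) =
        conjFun C' (fun c : C' => θ.1.1 ⟨((c : N) : G), c.2⟩) n⁻¹ from funext fun c =>
          congrArg θ.1.1 (Subtype.ext (by simp)), classInner_conjFun]
    have h1 : ¬ p ∣ l := by rw [Nat.cast_injective heq]; exact hm'.2 rfl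
    exact (congrArg Subtype.val (hl'.1 h1)).symm
  have hTc : ∀ (θ : PK), (T ⟨conjIrr θ.1, hconjK θ.1 θ.2⟩).1 = conjIrr (T θ).1 := by
    intro θ
    obtain ⟨m, hm, hm'⟩ := hM θ (T θ)
    obtain ⟨l, hl, hl'⟩ := hM ⟨conjIrr θ.1, hconjK θ.1 θ.2⟩ ⟨conjIrr (T θ).1, fun u hu =>
      Subtype.ext (funext fun k => congrArg (starRingEnd ℂ)
        (congrFun (congrArg Subtype.val ((T θ).2 u hu)) k))⟩
    have heq : (l : ℂ) = (m : ℂ) := by
      rw [← hl, ← Complex.conj_natCast m, ← hm]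
      simp [M, classInner, map_sum]
    have h1 : ¬ p ∣ l := by rw [Nat.cast_injective heq]; exact hm'.2 rfl
    exact (congrArg Subtype.val (hl'.1 h1)).symm
  -- a fixed real constituent of a real character
  have hθ : ∀ χ : OddIndexReal.RealIrr G, ∃ θ : PK,
      classInner (resFun K χ.1.1) θ.1.1 ≠ 0 := by
    intro χ
    obtain ⟨θ, hθ⟩ := exists_constituent K χ.1
    have hdeg := OddIndexReal.degree_eq hodd χ.2 hθ
    have hnd : ¬ p ∣ Nat.card (MulAction.orbit G θ) := fun h =>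
      hreal χ.1 χ.2 (hdeg ▸ Dvd.dvd.mul_right h _)
    obtain ⟨y, hy⟩ := P.isPGroup'.nonempty_fixed_point_of_prime_not_dvd_card (MulAction.orbit G θ) hnd
    exact ⟨⟨y.1, fun u hu => congrArg Subtype.val (hy ⟨u, hu⟩)⟩, OddIndexReal.over_of_mem_orb hθ y.2⟩
  choose c hc using hθ
  have hcreal : ∀ χ, conjIrr (c χ).1 = (c χ).1 := fun χ => OddIndexReal.real_of_over hodd χ.2 (hc χ)
  have hTreal : ∀ θ : PK, conjIrr θ.1 = θ.1 → conjIrr (T θ).1 = (T θ).1 := fun θ h => by
    rw [← hTc θ]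
    exact congrArg (fun a => (T a).1) (Subtype.ext h)
  have hxi : ∀ χ, ∃ ξ : IrrCharacter N, (∀ n, (ξ.1 n).im = 0) ∧
      classInner (resFun C' ξ.1) (T (c χ)).1.1 ≠ 0 := fun χ =>
    exists_real_irr_over_of_odd_index C' hoddC (T (c χ)).1
      ((conjIrr_eq_self_iff _).1 (hTreal _ (hcreal χ)))
  choose x hxr hxo using hxi
  have hfix : ∀ θ : PK, (Nat.card (MulAction.orbit G θ.1) : ZMod p) =
      (Nat.card (MulAction.orbit N (T θ).1) : ZMod p) := by
    intro θ
    rw [card_orbit_cast P θ.1 θ.2]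
    refine congrArg _ (Nat.card_congr (Equiv.ofBijective (fun y : MulAction.orbit N θ.1 =>
      (⟨(T ⟨y.1, by obtain ⟨n, hn⟩ := y.2; exact hn ▸ hnK n θ.1 θ.2⟩).1, by
        obtain ⟨⟨_, n, rfl⟩, rfl⟩ : ∃ z : MulAction.orbit N θ.1, z = y := ⟨y, rfl⟩
        exact ⟨n, (hTn n θ).symm⟩⟩ : MulAction.orbit N (T θ).1)) ⟨fun a b h => ?_, ?_⟩))
    · have h1 := hTinj (Subtype.ext (congrArg (fun z : MulAction.orbit N (T θ).1 => z.1) h))
      exact Subtype.ext (show a.1 = b.1 from congrArg (fun z => z.1) h1)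
    · rintro ⟨_, n, rfl⟩
      exact ⟨⟨(n : G) • θ.1, n, rfl⟩, Subtype.ext (hTn n θ)⟩
  have hdeg : ∀ χ, (charDegree (x χ).1 : ZMod p) = (charDegree χ.1.1 : ZMod p) ∨
      (charDegree (x χ).1 : ZMod p) = -(charDegree χ.1.1 : ZMod p) := by
    intro χ
    rw [OddIndexReal.degree_eq hodd χ.2 (hc χ), OddIndexReal.degree_eq hoddC (hxr χ) (hxo χ),
      Nat.cast_mul, Nat.cast_mul]
    rw [show (Nat.card (OddIndexReal.orb C' (T (c χ)).1) : ZMod p) =
      (Nat.card (OddIndexReal.orb K (c χ).1) : ZMod p) from (hfix (c χ)).symm]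
    rcases hTdeg (c χ) with h | h <;> rw [h]
    · exact Or.inl rfl
    · exact Or.inr (mul_neg _ _)
  refine ⟨fun χ => ⟨x χ, hxr χ, fun h => ?_⟩, ⟨fun χ χ' h => ?_, fun ξ => ?_⟩, hdeg⟩
  · rw [← ZMod.natCast_eq_zero_iff] at h
    have h0 : ¬ ((charDegree χ.1.1 : ZMod p) = 0) := fun h0 =>
      hreal χ.1 χ.2 ((ZMod.natCast_eq_zero_iff _ _).1 h0)
    rcases hdeg χ with e1 | e1 <;> rw [h] at e1
    · exact h0 e1.symm
    · exact h0 (neg_eq_zero.1 e1.symm)
  · have h1 : x χ = x χ' := congrArg Subtype.val h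
    have h2 : (T (c χ')).1 ∈ OddIndexReal.orb C' (T (c χ)).1 :=
      OddIndexReal.mem_orb_of_over (hxo χ) (by rw [h1]; exact hxo χ')
    obtain ⟨n, hn⟩ := h2
    have h3 : c χ' = ⟨(n : G) • (c χ).1, hnK n _ (c χ).2⟩ :=
      hTinj (Subtype.ext (hn.symm.trans (hTn n (c χ)).symm))
    refine Subtype.ext (OddIndexReal.real_unique hodd χ.2 χ'.2 ?_ (hc χ'))
    rw [h3]
    exact OddIndexReal.over_of_mem_orb (hc χ) ⟨(n : G), rfl⟩
  · obtain ⟨φ, hφ⟩ := exists_constituent C' ξ.1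
    have hd := OddIndexReal.degree_eq hoddC ξ.2.1 hφ
    have hφr := OddIndexReal.real_of_over hoddC ξ.2.1 hφ
    have hnd : ¬ p ∣ Nat.card (MulAction.orbit N φ) := fun h =>
      ξ.2.2 (hd ▸ Dvd.dvd.mul_right h _)
    have hP0 : IsPGroup p ((P : Subgroup G).subgroupOf N) := P.isPGroup'.comap_subtype
    obtain ⟨y, hy⟩ := hP0.nonempty_fixed_point_of_prime_not_dvd_card (MulAction.orbit N φ) hnd
    have hφP : ∀ u : N, (u : G) ∈ (P : Subgroup G) → u • φ = φ := by
      obtain ⟨n, hn⟩ := y.2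
      have hy' : ∀ u : N, (u : G) ∈ (P : Subgroup G) → u • n • φ = n • φ := fun u hu => by
        rw [show n • φ = y.1 from hn]
        exact congrArg Subtype.val (hy ⟨u, hu⟩)
      intro u hu
      have := hnC n⁻¹ (n • φ) hy' u hu
      rwa [inv_smul_smul] at this
    obtain ⟨θ, hθT⟩ := hTsur ⟨φ, hφP⟩
    have hθT' : (T θ).1 = φ := congrArg Subtype.val hθT
    have hθr : conjIrr θ.1 = θ.1 := by
      have h1 : T ⟨conjIrr θ.1, hconjK θ.1 θ.2⟩ = T θ :=
        Subtype.ext (by rw [hTc θ, hθT', hφr])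
      exact congrArg Subtype.val (hTinj h1)
    obtain ⟨χ, hχr, hχo⟩ := exists_real_irr_over_of_odd_index K hodd θ.1
      ((conjIrr_eq_self_iff _).1 hθr)
    refine ⟨⟨χ, hχr⟩, Subtype.ext ?_⟩
    show x ⟨χ, hχr⟩ = ξ.1
    obtain ⟨g, hg⟩ : (c ⟨χ, hχr⟩).1 ∈ OddIndexReal.orb K θ.1 :=
      OddIndexReal.mem_orb_of_over hχo (hc ⟨χ, hχr⟩)
    obtain ⟨n, hn, hne⟩ := exists_normalizer_smul P θ.1 g θ.2 (fun u hu => by
      rw [show g • θ.1 = (c ⟨χ, hχr⟩).1 from hg]
      exact (c ⟨χ, hχr⟩).2 u hu)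
    have h4 : c ⟨χ, hχr⟩ = ⟨((⟨n, hn⟩ : N) : G) • θ.1, hnK ⟨n, hn⟩ _ θ.2⟩ :=
      Subtype.ext (hg.symm.trans hne.symm)
    refine OddIndexReal.real_unique hoddC (hxr _) ξ.2.1 (hxo ⟨χ, hχr⟩) ?_
    rw [h4, hTn ⟨n, hn⟩ θ, hθT']
    exact OddIndexReal.over_of_mem_orb hφ ⟨_, rfl⟩


/-- Let p be a prime and G a finite group such that the subgroup generated by the p-elements of G is solvable and every real-valued irreducible complex character of G has degree prime to p. Let N be the normalizer of a Sylow p-subgroup of G. Then there is a bijection from the real-valued irreducible characters of G onto the real-valued irreducible characters of N of degree prime to p under which corresponding degrees are congruent modulo p up to sign. -/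
theorem result {G : Type*} [Group G] [Finite G] (p : ℕ) [Fact p.Prime] (hsolv : Group.IsSolvable ↥(Subgroup.closure {g : G | ∃ k : ℕ, orderOf g = p ^ k})) (hreal : ∀ χ : Cfsg.IrrCharacter G, (∀ g : G, ((χ : G → ℂ) g).im = 0) → ¬ p ∣ Cfsg.charDegree (χ : G → ℂ)) (P : Sylow p G) : ∃ f : {χ : Cfsg.IrrCharacter G // ∀ g : G, ((χ : G → ℂ) g).im = 0} → {ξ : Cfsg.IrrCharacter ↥(Subgroup.normalizer ((P : Subgroup G) : Set G)) // (∀ n, ((ξ : ↥(Subgroup.normalizer ((P : Subgroup G) : Set G)) → ℂ) n).im = 0) ∧ ¬ p ∣ Cfsg.charDegree (ξ : ↥(Subgroup.normalizer ((P : Subgroup G) : Set G)) → ℂ)}, Function.Bijective f ∧ ∀ χ, ((Cfsg.charDegree ((f χ).1 : ↥(Subgroup.normalizer ((P : Subgroup G) : Set G)) → ℂ) : ZMod p) = (Cfsg.charDegree (χ.1 : G → ℂ) : ZMod p) ∨ (Cfsg.charDegree ((f χ).1 : ↥(Subgroup.normalizer ((P : Subgroup G) : Set G)) → ℂ) : ZMod p) = -(Cfsg.charDegree (χ.1 : G → ℂ) : ZMod p)) := by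
  classical
  haveI := Fintype.ofFinite G
  haveI := Fintype.ofFinite (Subgroup.normalizer ((P : Subgroup G) : Set G))
  exact main p hsolv hreal P

end Cfsg.Agent.S4865
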