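import Cfsg.Statements.S4866
import Cfsg.Agent.Lib.Char.NormalAction

set_option linter.style.haveILetI false

set_option autoImplicit false
open Cfsg

namespace Cfsg.Agent.S4866

open Cfsg.Agent.Char

variable {A : Type*} [Group A]

theorem fixed_of_mem_orbit {α : Type*} [MulAction A α] (σ : Equiv.Perm α)
    (hcomm : ∀ (a : A) (x : α), σ (a • x) = a • σ x) (hinv : ∀ x, σ (σ x) = x)
    (K : Subgroup A) [K.Normal] [Finite A] (hodd : Odd K.index)
    (hK : ∀ k ∈ K, ∀ x : α, k • x = x) (a : A) (x : α) (h : a • x = σ x) : σ x = x := by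
  have h2 : (a ^ 2) • x = x := by rw [pow_two, mul_smul, h, ← hcomm, h, hinv]
  have hm : a ^ orderOf (a : A ⧸ K) ∈ K := by
    rw [← QuotientGroup.eq_one_iff, QuotientGroup.mk_pow, pow_orderOf_eq_one]
  obtain ⟨j, hj⟩ : Odd (orderOf (a : A ⧸ K)) :=
    hodd.of_dvd_nat (by rw [Subgroup.index_eq_card]; exact orderOf_dvd_natCard _)
  have h3 : (a ^ (2 * j)) • x = x := by
    rw [pow_mul]
    exact (MulAction.mem_stabilizer_iff).1
      (Subgroup.pow_mem (MulAction.stabilizer A x) (MulAction.mem_stabilizer_iff.2 h2) j)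
  rw [← h]
  have h4 := hK _ hm x
  rwa [hj, pow_succ', mul_smul, h3] at h4

variable {α β : Type*} [MulAction A α] [MulAction A β] [Finite A] [Finite α] [Finite β]

theorem card_quot_fixed (σ : Equiv.Perm α) (τ : Equiv.Perm β)
    (hcs : ∀ (a : A) (x : α), σ (a • x) = a • σ x) (hct : ∀ (a : A) (x : β), τ (a • x) = a • τ x)
    (hσ : ∀ (a : A) (x : α), a • x = σ x → σ x = x) (hτ : ∀ (a : A) (x : β), a • x = τ x → τ x = x)
    (h : ∀ a : A, Nat.card {x : α // σ (a • x) = x} = Nat.card {x : β // τ (a • x) = x})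
    (hσ2 : ∀ x, σ (σ x) = x) (hτ2 : ∀ x, τ (τ x) = x) :
    Nat.card (Quot fun x y : {x : α // σ x = x} => ∃ a : A, a • x.1 = y.1) =
      Nat.card (Quot fun x y : {x : β // τ x = x} => ∃ a : A, a • x.1 = y.1) := by
  let F : SubMulAction A α :=
    { carrier := {x | σ x = x}
      smul_mem' := fun a x hx => by show σ (a • x) = a • x; rw [hcs, hx] }
  let F' : SubMulAction A β :=
    { carrier := {x | τ x = x}
      smul_mem' := fun a x hx => by show τ (a • x) = a • x; rw [hct, hx] }
  have key : ∀ a : A, Nat.card (MulAction.fixedBy F a) = Nat.card (MulAction.fixedBy F' a) := by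
    intro a
    refine Eq.trans ?_ ((h a).trans ?_)
    · refine Nat.card_congr
        { toFun := fun x => ⟨x.1.1, by rw [show a • x.1.1 = x.1.1 from congrArg Subtype.val x.2]; exact x.1.2⟩
          invFun := fun x => ⟨⟨x.1, hσ a x.1 (by rw [← hσ2 (a • x.1), x.2])⟩, Subtype.ext (by
            show a • x.1 = x.1
            rw [← hσ2 (a • x.1), x.2]
            exact hσ a x.1 (by rw [← hσ2 (a • x.1), x.2]))⟩
          left_inv := fun _ => rfl
          right_inv := fun _ => rfl }
    · refine Nat.card_congr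
        { invFun := fun x => ⟨x.1.1, by rw [show a • x.1.1 = x.1.1 from congrArg Subtype.val x.2]; exact x.1.2⟩
          toFun := fun x => ⟨⟨x.1, hτ a x.1 (by rw [← hτ2 (a • x.1), x.2])⟩, Subtype.ext (by
            show a • x.1 = x.1
            rw [← hτ2 (a • x.1), x.2]
            exact hτ a x.1 (by rw [← hτ2 (a • x.1), x.2]))⟩
          left_inv := fun _ => rfl
          right_inv := fun _ => rfl }
  haveI : Finite F := Subtype.finite
  haveI : Finite F' := Subtype.finite
  have hc := card_orbits_eq_of_fixed key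
  refine Eq.trans (Eq.trans ?_ hc) ?_
  · refine Nat.card_congr (Quot.congr (Equiv.refl F) fun x y => ?_)
    show _ ↔ @Membership.mem F (Set F) _ (MulAction.orbit A (y : F)) (x : F)
    refine Iff.trans ?_ MulAction.mem_orbit_symm.symm
    exact ⟨fun ⟨a, ha⟩ => ⟨a, Subtype.ext ha⟩, fun ⟨a, ha⟩ => ⟨a, congrArg Subtype.val ha⟩⟩
  · refine Nat.card_congr (Quot.congr (Equiv.refl F') fun x y => ?_)
    show @Membership.mem F' (Set F') _ (MulAction.orbit A (y : F')) (x : F') ↔ _
    refine MulAction.mem_orbit_symm.trans ?_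
    exact ⟨fun ⟨a, ha⟩ => ⟨a, congrArg Subtype.val ha⟩, fun ⟨a, ha⟩ => ⟨a, Subtype.ext ha⟩⟩


/-- Let K be a normal subgroup of odd index in the finite group G. Then G has as many orbits on the real-valued irreducible complex characters of K (acting by conjugation) as it has orbits on the conjugacy classes of K that are real in K; equivalently, the number of G-orbits of real-valued irreducible characters of K equals the number of G-conjugacy classes of elements of K that are conjugate in K to their inverses. -/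
theorem result {G : Type*} [Group G] [Finite G] (K : Subgroup G) [K.Normal] (hodd : Odd K.index) : Nat.card (Quot (fun θ η : {θ : Cfsg.IrrCharacter ↥K // (∀ k : ↥K, ((θ : ↥K → ℂ) k).im = 0)} => ∃ g : G, ∀ k k' : ↥K, (k' : G) = g * (k : G) * g⁻¹ → (η.1 : ↥K → ℂ) k' = (θ.1 : ↥K → ℂ) k)) = Nat.card (Quot (fun x y : {x : ↥K // IsConj x x⁻¹} => ∃ g : G, (y.1 : G) = g * x.1 * g⁻¹)) := by
  haveI := Fintype.ofFinite G
  haveI := Fintype.ofFinite K
  haveI : Finite (ConjClasses K) := Finite.of_surjective _ ConjClasses.mk_surjective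
  letI := irrConjAction K
  letI := classConjAction K
  have hcσ : ∀ (g : G) (θ : IrrCharacter K), conjPerm (g • θ) = g • conjPerm θ := fun g θ =>
    Subtype.ext (funext fun _ => rfl)
  have hcτ : ∀ (g : G) (c : ConjClasses K), classInvPerm (g • c) = g • classInvPerm c := fun g c => by
    obtain ⟨k, rfl⟩ := ConjClasses.mk_surjective c
    rw [classConjAction_smul_mk, classInvPerm_mk, classInvPerm_mk, classConjAction_smul_mk, map_inv]
  have hσ2 : ∀ θ : IrrCharacter K, conjPerm (conjPerm θ) = θ := conjIrr_conjIrr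
  have hτ2 : ∀ c : ConjClasses K, classInvPerm (classInvPerm c) = c := fun c => by
    obtain ⟨k, rfl⟩ := ConjClasses.mk_surjective c
    rw [classInvPerm_mk, classInvPerm_mk, inv_inv]
  have key := card_quot_fixed (A := G) (conjPerm (G := K)) (classInvPerm (G := K)) hcσ hcτ
    (fixed_of_mem_orbit _ hcσ hσ2 K hodd fun k hk θ => by
      show conjChar K θ k⁻¹ = θ
      exact conjChar_of_mem K θ (inv_mem hk))
    (fixed_of_mem_orbit _ hcτ hτ2 K hodd fun k hk c => classConj_of_mem K c hk)
    (fun g => card_fixed_irr_eq_card_fixed_classes ((MulAction.toPerm g).trans conjPerm)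
      ((MulAction.toPerm g).trans classInvPerm) fun θ c => by
        rw [Equiv.trans_apply, Equiv.trans_apply, classValue_conjPerm]
        exact classValue_conj_smul K g θ c)
    hσ2 hτ2
  refine Eq.trans (Nat.card_congr (Quot.congr
    (Equiv.subtypeEquivRight fun θ => (conjIrr_eq_self_iff θ).symm) fun θ η => ?_))
    (key.trans ?_)
  · constructor
    · rintro ⟨g, hg⟩
      refine ⟨g, Subtype.ext (funext fun k => ?_)⟩
      show θ.1.1 (MulAut.conjNormal g⁻¹ k) = η.1.1 k
      exact (hg (MulAut.conjNormal g⁻¹ k) k (by simp [mul_assoc])).symm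
    · rintro ⟨g, hg⟩
      refine ⟨g, fun k k' hk => ?_⟩
      have h1 : η.1.1 k' = θ.1.1 (MulAut.conjNormal g⁻¹ k') :=
        (congrFun (congrArg Subtype.val hg) k').symm
      rw [h1, show MulAut.conjNormal g⁻¹ k' = k from Subtype.ext (by simp [hk, mul_assoc])]
  · have hr : ∀ x : K, classInvPerm (ConjClasses.mk x) = ConjClasses.mk x ↔ IsConj x x⁻¹ := fun x => by
      rw [classInvPerm_mk, ConjClasses.mk_eq_mk_iff_isConj, isConj_comm]
    let R := fun x y : {x : ↥K // IsConj x x⁻¹} => ∃ g : G, (y.1 : G) = g * x.1 * g⁻¹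
    let S := fun x y : {c : ConjClasses K // classInvPerm c = c} => ∃ g : G, g • x.1 = y.1
    let f : Quot R → Quot S := Quot.lift (fun x => Quot.mk S ⟨ConjClasses.mk x.1, (hr x.1).2 x.2⟩)
      fun x y ⟨g, hg⟩ => Quot.sound ⟨g, by
        show g • ConjClasses.mk x.1 = ConjClasses.mk y.1
        rw [classConjAction_smul_mk,
          show MulAut.conjNormal g x.1 = y.1 from Subtype.ext (by simp [hg])]⟩
    refine (Nat.card_eq_of_bijective f ⟨?_, ?_⟩).symm
    · rintro ⟨x⟩ ⟨y⟩ h
      have hS : Equivalence S :=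
        { refl := fun x => ⟨1, one_smul _ _⟩
          symm := fun ⟨g, h⟩ => ⟨g⁻¹, by rw [← h, inv_smul_smul]⟩
          trans := fun ⟨g, h⟩ ⟨g', h'⟩ => ⟨g' * g, by rw [mul_smul, h, h']⟩ }
      obtain ⟨g, hg⟩ := (hS.eqvGen_iff.1 (Quot.eqvGen_exact h))
      rw [classConjAction_smul_mk, ConjClasses.mk_eq_mk_iff_isConj] at hg
      obtain ⟨c, hc⟩ := isConj_iff.1 hg
      refine Quot.sound ⟨(c : G) * g, ?_⟩
      have := congrArg Subtype.val hc
      simp only [Subgroup.coe_mul, Subgroup.coe_inv, MulAut.conjNormal_apply] at this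
      rw [← this]; group
    · rintro ⟨⟨c, hc⟩⟩
      obtain ⟨x, rfl⟩ := ConjClasses.mk_surjective c
      exact ⟨Quot.mk R ⟨x, (hr x).1 hc⟩, rfl⟩

end Cfsg.Agent.S4866
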