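import Cfsg.Statements.S4871
import Cfsg.Agent.Lib.Char.LinearTwist
import Cfsg.Agent.Lib.Char.IndIndicator
import Mathlib.RingTheory.IntegralDomain

set_option linter.style.haveILetI false

set_option autoImplicit false
open Cfsg

namespace Cfsg.Agent.S4871

open Cfsg.Agent.Char
open scoped ComplexConjugate

variable {G : Type*} [Group G] [Finite G] {N P : Subgroup G} [N.Normal]

theorem sum_hom_eq_zero {H : Type*} [Group H] [Fintype H] {f : H →* ℂ} (h : f ≠ 1) :
    ∑ x : H, f x = 0 := by
  obtain ⟨a, ha⟩ : ∃ a, f a ≠ 1 := by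
    by_contra! hc
    exact h (MonoidHom.ext hc)
  have : ∑ x : H, f x = f a * ∑ x : H, f x := by
    rw [Finset.mul_sum]
    exact (Fintype.sum_equiv (Equiv.mulLeft a) _ _ fun x => (map_mul f a x).symm).symm
  by_contra hne
  exact ha ((mul_eq_right₀ hne).1 this.symm)

theorem proj_data (hdisj : N ⊓ P = ⊥) (hprod : N ⊔ P = ⊤) :
    ∃ π : G →* P, Function.Surjective π ∧ (∀ p : P, π (p : G) = p) ∧
      (∀ g, π g = 1 ↔ g ∈ N) ∧ ∀ g, g * (π g : G)⁻¹ ∈ N := by
  set f : P →* G ⧸ N := (QuotientGroup.mk' N).comp P.subtype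
  have hf : Function.Bijective f := by
    constructor
    · rw [injective_iff_map_eq_one]
      intro p hp
      have : (p : G) ∈ N := (QuotientGroup.eq_one_iff _).1 hp
      exact Subtype.ext (Subgroup.mem_bot.1 (hdisj ▸ Subgroup.mem_inf.2 ⟨this, p.2⟩))
    · intro x
      obtain ⟨g, rfl⟩ := QuotientGroup.mk_surjective x
      obtain ⟨n, hn, p, hp, rfl⟩ := Subgroup.mem_sup_of_normal_left.1
        (hprod ▸ Subgroup.mem_top g)
      refine ⟨⟨p, hp⟩, ?_⟩
      show (p : G ⧸ N) = ((n * p : G) : G ⧸ N)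
      rw [QuotientGroup.mk_mul, (QuotientGroup.eq_one_iff n).2 hn, one_mul]
  set e := MulEquiv.ofBijective f hf
  refine ⟨e.symm.toMonoidHom.comp (QuotientGroup.mk' N), ?_, fun p => e.symm_apply_apply p,
    fun g => ?_, fun g => ?_⟩
  · exact e.symm.surjective.comp QuotientGroup.mk_surjective
  · show e.symm (g : G ⧸ N) = 1 ↔ _
    rw [e.symm.map_eq_one_iff, QuotientGroup.eq_one_iff]
  · rw [← QuotientGroup.eq_one_iff]
    have h2 : f (e.symm (g : G ⧸ N)) = (g : G ⧸ N) := e.apply_symm_apply _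
    show (g : G ⧸ N) * ((e.symm (g : G ⧸ N) : G) : G ⧸ N)⁻¹ = 1
    exact mul_inv_eq_one.2 h2.symm

theorem conj_comm_of_abelian (hab : IsMulCommutative N) {a b : G} (ha : a ∈ N) (hb : b ∈ N) :
    a * b = b * a :=
  congrArg Subtype.val (hab.is_comm.comm (⟨a, ha⟩ : N) ⟨b, hb⟩)

/-- A central involution of `P` inverts `N`. -/
theorem inverts (hab : IsMulCommutative N) (hprod : N ⊔ P = ⊤) (hdisj : N ⊓ P = ⊥)
    (hmin : N ≠ ⊥ ∧ ∀ M : Subgroup G, M.Normal → M ≠ ⊥ → N ≤ M) (z : G) (hz : z ∈ P) (hz1 : z ≠ 1)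
    (hz2 : z * z = 1) (hcen : ∀ p ∈ P, p * z = z * p) (n : G) (hn : n ∈ N) :
    z * n * z⁻¹ = n⁻¹ := by
  have hNn := fun g x (hx : x ∈ N) => Subgroup.Normal.conj_mem ‹N.Normal› x hx g
  have hcomm : ∀ g : G, ∀ x ∈ N, z * (g * x * g⁻¹) * z⁻¹ = g * (z * x * z⁻¹) * g⁻¹ := fun g x hx => by
    obtain ⟨m, hm, p, hp, rfl⟩ := Subgroup.mem_sup_of_normal_left.1 (hprod ▸ Subgroup.mem_top g)
    have key : ∀ a ∈ N, ∀ y ∈ N, a * y * a⁻¹ = y := fun a ha y hy => by
      rw [conj_comm_of_abelian hab ha hy, mul_inv_cancel_right]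
    rw [show m * p * x * (m * p)⁻¹ = m * (p * x * p⁻¹) * m⁻¹ by group,
      key m hm _ (hNn p x hx),
      show m * p * (z * x * z⁻¹) * (m * p)⁻¹ = m * (p * (z * x * z⁻¹) * p⁻¹) * m⁻¹ by group,
      key m hm _ (hNn p _ (hNn z x hx)),
      show p * (z * x * z⁻¹) * p⁻¹ = p * z * x * (p * z)⁻¹ by group, hcen p hp]
    group
  let M : Subgroup G :=
    { carrier := {x | x ∈ N ∧ z * x * z⁻¹ = x}
      one_mem' := ⟨N.one_mem, by simp⟩
      mul_mem' := fun {a b} ha hb => ⟨N.mul_mem ha.1 hb.1, by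
        rw [show z * (a * b) * z⁻¹ = z * a * z⁻¹ * (z * b * z⁻¹) by group, ha.2, hb.2]⟩
      inv_mem' := fun {a} ha => ⟨N.inv_mem ha.1, by
        rw [show z * a⁻¹ * z⁻¹ = (z * a * z⁻¹)⁻¹ by group, ha.2]⟩ }
  have hMn : M.Normal := ⟨fun x hx g => ⟨hNn g x hx.1, by rw [hcomm g x hx.1, hx.2]⟩⟩
  have hM : M = ⊥ := by
    by_contra hne
    have hle := hmin.2 M hMn hne
    have hzN : z ∈ Subgroup.centralizer (N : Set G) := fun x hx => by
      conv_lhs => rw [← (hle hx).2]
      group
    -- the centraliser of `N` meets `P` in a normal subgroup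
    let C : Subgroup G := Subgroup.centralizer (N : Set G) ⊓ P
    have hC : C.Normal := ⟨fun x hx g => by
      obtain ⟨m, hm, p, hp, rfl⟩ := Subgroup.mem_sup_of_normal_left.1 (hprod ▸ Subgroup.mem_top g)
      have h1 : p * x * p⁻¹ ∈ Subgroup.centralizer (N : Set G) :=
        Subgroup.Normal.conj_mem inferInstance x hx.1 p
      rw [show m * p * x * (m * p)⁻¹ = m * (p * x * p⁻¹) * m⁻¹ by group,
        show m * (p * x * p⁻¹) = p * x * p⁻¹ * m from h1 m hm, mul_inv_cancel_right]
      exact ⟨h1, P.mul_mem (P.mul_mem hp hx.2) (P.inv_mem hp)⟩⟩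
    have hC1 : C ≠ ⊥ := fun h => hz1 (Subgroup.mem_bot.1 (h ▸ (⟨hzN, hz⟩ : z ∈ C)))
    exact hmin.1 (le_bot_iff.1 (hdisj ▸ le_inf le_rfl ((hmin.2 C hC hC1).trans inf_le_right)))
  have hfix : n * (z * n * z⁻¹) ∈ M := ⟨N.mul_mem hn (hNn z n hn), by
    rw [show z * (n * (z * n * z⁻¹)) * z⁻¹ = z * n * z⁻¹ * (z * z * n * (z * z)⁻¹) by group, hz2,
      one_mul, inv_one, mul_one, conj_comm_of_abelian hab (hNn z n hn) hn]⟩
  rw [hM, Subgroup.mem_bot] at hfix
  exact eq_inv_of_mul_eq_one_right hfix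

section Orbit

variable [Fintype G] [Fintype N] {π : G →* P} (hπN : ∀ g, π g = 1 ↔ g ∈ N)
  (hπd : ∀ g, g * (π g : G)⁻¹ ∈ N) (lam : N →* ℂ) (hlam : lam ≠ 1)

/-- The twist of an extension of a linear character to its inertia group. -/
noncomputable def extHom (lam : N →* ℂ) (hπd : ∀ g, g * (π g : G)⁻¹ ∈ N)
    (μ : (inertia N ⇑lam).comap P.subtype →* ℂ)
    (hπI : ∀ h : inertia N ⇑lam, π (h : G) ∈ (inertia N ⇑lam).comap P.subtype) :
    inertia N ⇑lam →* ℂ where
  toFun h := lam ⟨(h : G) * (π (h : G) : G)⁻¹, hπd _⟩ * μ ⟨π (h : G), hπI h⟩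
  map_one' := by
    rw [show (⟨((1 : inertia N ⇑lam) : G) * (π ((1 : inertia N ⇑lam) : G) : G)⁻¹, hπd _⟩ : N) = 1
        from Subtype.ext (by simp),
      show (⟨π ((1 : inertia N ⇑lam) : G), hπI 1⟩ : (inertia N ⇑lam).comap P.subtype) = 1
        from Subtype.ext (by simp), map_one, map_one, one_mul]
  map_mul' a b := by
    have h2 : (⟨π ((a * b : inertia N ⇑lam) : G), hπI (a * b)⟩ : (inertia N ⇑lam).comap P.subtype) =
        ⟨π (a : G), hπI a⟩ * ⟨π (b : G), hπI b⟩ := Subtype.ext (map_mul π _ _)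
    have h1 : (⟨((a * b : inertia N ⇑lam) : G) * (π ((a * b : inertia N ⇑lam) : G) : G)⁻¹, hπd _⟩ : N) =
        ⟨(a : G) * (π (a : G) : G)⁻¹, hπd _⟩ *
          MulAut.conjNormal (π (a : G) : G) ⟨(b : G) * (π (b : G) : G)⁻¹, hπd _⟩ :=
      Subtype.ext (by simp [map_mul, mul_assoc])
    rw [h2, h1, map_mul, map_mul]
    rw [show lam (MulAut.conjNormal (π (a : G) : G) ⟨(b : G) * (π (b : G) : G)⁻¹, hπd _⟩) =
      lam ⟨(b : G) * (π (b : G) : G)⁻¹, hπd _⟩ from congrFun (hπI a) _]
    ring

end Orbit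

/-- Let G be a finite group that is the semidirect product of a normal elementary abelian subgroup N of odd order by a non-trivial 2-subgroup P, with N the unique minimal normal subgroup of G. Consider the strongly real irreducible complex characters of G (Frobenius–Schur indicator +1) whose degree is 1 or even. Then their average degree is at least 4/3: four times their number is at most three times the sum of their degrees. -/
theorem result {G : Type*} [Group G] [Finite G] (N P : Subgroup G) (hN : N.Normal) (q : ℕ) [Fact q.Prime] (hq : q ≠ 2) (hNel : Cfsg.IsElementaryAbelian q N) (hP : IsPGroup 2 ↥P) (hP1 : P ≠ ⊥) (hdisj : N ⊓ P = ⊥) (hprod : N ⊔ P = ⊤) (hmin : N ≠ ⊥ ∧ ∀ M : Subgroup G, M.Normal → M ≠ ⊥ → N ≤ M) : 4 * Nat.card {χ : Cfsg.IrrCharacter G // (Cfsg.charDegree (χ : G → ℂ) = 1 ∨ 2 ∣ Cfsg.charDegree (χ : G → ℂ)) ∧ (Nat.card G : ℂ)⁻¹ * ∑ᶠ g : G, (χ : G → ℂ) (g * g) = 1} ≤ 3 * (∑ᶠ χ : {χ : Cfsg.IrrCharacter G // (Cfsg.charDegree (χ : G → ℂ) = 1 ∨ 2 ∣ Cfsg.charDegree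 (χ : G → ℂ)) ∧ (Nat.card G : ℂ)⁻¹ * ∑ᶠ g : G, (χ : G → ℂ) (g * g) = 1}, Cfsg.charDegree (χ.1 : G → ℂ)) := by
  classical
  haveI := Fintype.ofFinite G
  haveI := hN
  haveI := Fintype.ofFinite N
  haveI := Fintype.ofFinite P
  have hab := hNel.1
  obtain ⟨π, hπs, hπp, hπN, hπd⟩ := proj_data hdisj hprod
  haveI : Nontrivial P := (Subgroup.nontrivial_iff_ne_bot P).2 hP1
  haveI hZnt : Nontrivial (Subgroup.center P) := hP.center_nontrivial
  obtain ⟨zc, hzc⟩ : ∃ zc : Subgroup.center P, orderOf zc = 2 := by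
    obtain ⟨k, hk⟩ := (hP.to_subgroup (Subgroup.center P)).exists_card_eq
    have : 2 ∣ Nat.card (Subgroup.center P) := by
      rw [hk]
      exact dvd_pow_self 2 fun h0 => by
        rw [h0, pow_zero] at hk
        exact Finite.one_lt_card.ne' hk
    exact exists_prime_orderOf_dvd_card' 2 this
  set z : G := ((zc : P) : G) with hzdef
  have hzord : orderOf z = 2 := by rw [hzdef, Subgroup.orderOf_coe, Subgroup.orderOf_coe, hzc]
  have hz2 : z * z = 1 := by rw [← pow_two, ← hzord, pow_orderOf_eq_one]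
  have hz1 : z ≠ 1 := fun h => by rw [h, orderOf_one] at hzord; exact absurd hzord (by norm_num)
  have hcen : ∀ p ∈ P, p * z = z * p := fun p hp =>
    congrArg Subtype.val ((Subgroup.mem_center_iff.1 zc.2) ⟨p, hp⟩)
  have hinv := inverts hab hprod hdisj hmin z (zc : P).2 hz1 hz2 hcen
  -- a nontrivial linear character of `N`
  obtain ⟨lam, hlam⟩ : ∃ lam : N →* ℂ, lam ≠ 1 := by
    by_contra! h
    haveI : Subsingleton (N →* ℂ) := ⟨fun a b => (h a).trans (h b).symm⟩
    have h1 : Nat.card (N →* ℂ) = 1 := Nat.card_eq_one_iff_unique.2 ⟨inferInstance, ⟨1⟩⟩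
    have hbot : commutator N = ⊥ := by
      rw [commutator_def, Subgroup.commutator_eq_bot_iff_le_centralizer]
      exact fun x _ y _ => hab.is_comm.comm y x
    rw [card_monoidHom_complex, hbot, Subgroup.index_bot, Subgroup.card_eq_one] at h1
    exact hmin.1 h1
  have hlamq : ∀ n : N, lam n ^ q = 1 := fun n => by
    rw [← map_pow, show n ^ q = 1 from Subtype.ext (hNel.2 n n.2), map_one]
  have hodd : Odd q := (Fact.out : q.Prime).odd_of_ne_two hq
  have hsq : ∀ n : N, lam n * lam n = 1 → lam n = 1 := fun n h => by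
    obtain ⟨j, hj⟩ := hodd
    have := hlamq n
    rwa [hj, pow_succ, pow_mul, pow_two, h, one_pow, one_mul] at this
  set φ : IrrCharacter N := linIrr lam with hφ
  set I := inertia N ⇑lam with hIdef
  haveI := Fintype.ofFinite I
  set SP : Subgroup P := I.comap P.subtype with hSP
  haveI := Fintype.ofFinite SP
  have hNI : N ≤ I := irr_le_inertia N φ
  have hmem : ∀ g : G, g ∈ I ↔ π g ∈ SP := fun g => by
    show g ∈ I ↔ (π g : G) ∈ I
    conv_lhs => rw [← inv_mul_cancel_right g (π g : G)]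
    exact Subgroup.mul_mem_cancel_left I (hNI (hπd g))
  have hπI : ∀ h : I, π (h : G) ∈ SP := fun h => (hmem h).1 h.2
  have hcomap : I = SP.comap π := Subgroup.ext hmem
  have hindex : I.index = SP.index := by rw [hcomap, Subgroup.index_comap_of_surjective _ hπs]
  -- `z` maps `lam` to its inverse
  have hzlam : ∀ n : N, lam (MulAut.conjNormal z n) * lam n = 1 := fun n => by
    rw [← map_mul, show MulAut.conjNormal z n * n = 1 from Subtype.ext (by simp [hinv n n.2]), map_one]
  have hzI : z ∉ I := fun h => hlam (MonoidHom.ext fun n => by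
    refine hsq n ?_
    have h1 := hzlam n
    rwa [show lam (MulAut.conjNormal z n) = lam n from congrFun h n] at h1)
  have ht : 2 ≤ I.index ∧ 2 ∣ I.index := by
    have hne : SP.index ≠ 1 := fun h => hzI (by
      have : (zc : P) ∈ SP := by rw [Subgroup.index_eq_one.1 h]; trivial
      exact this)
    obtain ⟨k, hk⟩ := hP.index SP
    have hk0 : k ≠ 0 := fun h => hne (by rw [hk, h, pow_zero])
    rw [hindex, hk]
    exact ⟨Nat.le_self_pow hk0 2, dvd_pow_self 2 hk0⟩
  let R : Set (SP →* ℂ) := {μ | ∀ s, μ (s * s) = 1}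
  have hext : ∀ (μ : SP →* ℂ) (n : N),
      (linIrr (extHom (π := π) lam hπd μ hπI)).1 ⟨n, hNI n.2⟩ = ((1 : ℕ) : ℂ) * φ.1 n := fun μ n => by
    rw [Nat.cast_one, one_mul, hφ, linIrr_apply, linIrr_apply]
    show lam ⟨(n : G) * (π (n : G) : G)⁻¹, hπd _⟩ * μ ⟨π (n : G), _⟩ = lam n
    have hn : π (n : G) = 1 := (hπN _).2 n.2
    rw [show (⟨π (n : G), hπI ⟨n, hNI n.2⟩⟩ : SP) = 1 from Subtype.ext hn, map_one, mul_one]
    exact congrArg lam (Subtype.ext (by simp [hn]))
  have hIstab : ∀ g, conjFun N φ.1 g = φ.1 → g ∈ I := fun g h => h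
  let ind : (SP →* ℂ) → IrrCharacter G := fun μ =>
    ⟨indFun I (linIrr (extHom (π := π) lam hπd μ hπI)).1,
      isIrrCharacter_indFun_inertia N I hNI φ hIstab one_ne_zero (hext μ)⟩
  have hinj : Function.Injective ind := fun a b h => by
    have h1 := indFun_inertia_injective N I hNI φ hIstab one_ne_zero one_ne_zero (hext a) (hext b)
      (congrArg Subtype.val h)
    refine MonoidHom.ext fun s => ?_
    have hs : ((s : P) : G) ∈ I := s.2
    have h2 : extHom (π := π) lam hπd a hπI ⟨((s : P) : G), hs⟩ =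
        extHom (π := π) lam hπd b hπI ⟨((s : P) : G), hs⟩ :=
      congrFun (congrArg Subtype.val h1) ⟨((s : P) : G), hs⟩
    have h3 : ∀ μ : SP →* ℂ, extHom (π := π) lam hπd μ hπI ⟨((s : P) : G), hs⟩ = μ s := fun μ => by
      show lam ⟨((s : P) : G) * (π ((s : P) : G) : G)⁻¹, hπd _⟩ * μ ⟨π ((s : P) : G), _⟩ = μ s
      have hp := hπp (s : P)
      rw [show (⟨((s : P) : G) * (π ((s : P) : G) : G)⁻¹, hπd _⟩ : N) = 1 from
          Subtype.ext (by simp [hp]), map_one, one_mul]
      exact congrArg μ (Subtype.ext hp)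
    rwa [h3, h3] at h2
  have hdeg : ∀ μ, Cfsg.charDegree (ind μ).1 = I.index := fun μ => by
    apply Nat.cast_injective (R := ℂ)
    rw [charDegree_cast]
    show indFun I _ 1 = _
    rw [indFun_apply_one, linIrr_apply, map_one, mul_one]
  -- their indicator is one
  have hnu : ∀ μ ∈ R, fsIndicator (ind μ).1 = 1 := fun μ hμ => by
    show fsIndicator (indFun I _) = 1
    rw [fsIndicator_indFun]
    let ev : (P × N) ≃ G :=
      { toFun := fun x => (x.2 : G) * (x.1 : G)
        invFun := fun g => (π g, ⟨g * (π g : G)⁻¹, hπd g⟩)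
        left_inv := fun x => by
          have h1 : π ((x.2 : G) * (x.1 : G)) = x.1 := by
            rw [map_mul, (hπN _).2 x.2.2, one_mul, hπp]
          exact Prod.ext h1 (Subtype.ext (by simp [h1]))
        right_inv := fun g => inv_mul_cancel_right g _ }
    set T : Finset P := Finset.univ.filter fun p : P => (zc : P) * p ∈ SP with hT
    have hval : ∀ p : P, ∑ n : N, extendByZero I (linIrr (extHom (π := π) lam hπd μ hπI)).1
        ((n : G) * p * ((n : G) * p)) = if p ∈ T then (Nat.card N : ℂ) else 0 := fun p => by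
      by_cases hp2 : p * p ∈ SP
      · have hexp : ∀ n : N, extendByZero I (linIrr (extHom (π := π) lam hπd μ hπI)).1
            ((n : G) * p * ((n : G) * p)) =
            lam n * lam (MulAut.conjNormal (p : G) n) * μ ⟨p * p, hp2⟩ := fun n => by
          have hπv : π ((n : G) * p * ((n : G) * p)) = p * p := by
            rw [map_mul, map_mul, (hπN _).2 n.2, one_mul, hπp]
          have hI2 : (n : G) * p * ((n : G) * p) ∈ I := (hmem _).2 (by rw [hπv]; exact hp2)
          rw [extendByZero_of_mem _ _ hI2, linIrr_apply]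
          show lam _ * μ _ = _
          rw [← map_mul lam]
          congr 1
          · exact congrArg lam (Subtype.ext (by
              show (n : G) * p * ((n : G) * p) * (π ((n : G) * p * ((n : G) * p)) : G)⁻¹ = _
              rw [hπv, Subgroup.coe_mul, Subgroup.coe_mul, MulAut.conjNormal_apply]
              group))
          · exact congrArg μ (Subtype.ext hπv)
        rw [Finset.sum_congr rfl fun n _ => hexp n, ← Finset.sum_mul]
        by_cases hzp : (zc : P) * p ∈ SP
        · rw [if_pos (show p ∈ T from Finset.mem_filter.2 ⟨Finset.mem_univ _, hzp⟩)]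
          have hone : ∀ n : N, lam n * lam (MulAut.conjNormal (p : G) n) = 1 := fun n => by
            have h2 : lam (MulAut.conjNormal z (MulAut.conjNormal (p : G) n)) = lam n := by
              have := congrFun (show conjFun N ⇑lam (z * (p : G)) = ⇑lam from hzp) n
              rwa [conjFun, map_mul, MulAut.mul_apply] at this
            rw [← h2]
            exact hzlam _
          have hμ1 : μ ⟨p * p, hp2⟩ = 1 := by
            rw [show (⟨p * p, hp2⟩ : SP) = ⟨(zc : P) * p, hzp⟩ * ⟨(zc : P) * p, hzp⟩ from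
              Subtype.ext ?_, hμ]
            have hc : ∀ x : P, x * (zc : P) = (zc : P) * x := Subgroup.mem_center_iff.1 zc.2
            have h2' : (zc : P) * (zc : P) = 1 := by
              rw [← pow_two, ← hzc, ← SubmonoidClass.coe_pow, pow_orderOf_eq_one, OneMemClass.coe_one]
            show p * p = (zc : P) * p * ((zc : P) * p)
            rw [mul_assoc (zc : P), ← mul_assoc p (zc : P), hc p, mul_assoc, ← mul_assoc (zc : P),
              h2', one_mul]
          rw [Finset.sum_congr rfl fun n _ => hone n, hμ1]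
          simp [Nat.card_eq_fintype_card]
        · rw [if_neg (show ¬ p ∈ T from fun h => hzp (Finset.mem_filter.1 h).2)]
          let f : N →* ℂ :=
            { toFun := fun n => lam n * lam (MulAut.conjNormal (p : G) n)
              map_one' := by simp
              map_mul' := fun a b => by rw [map_mul, map_mul, map_mul]; ring }
          rw [show ∑ n : N, lam n * lam (MulAut.conjNormal (p : G) n) = 0 from
            sum_hom_eq_zero (f := f) fun hf => hzp ?_, zero_mul]
          show conjFun N ⇑lam (((zc : P) * p : P) : G) = ⇑lam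
          funext n
          have h1 : lam n * lam (MulAut.conjNormal (p : G) n) = 1 :=
            congrArg (fun f : N →* ℂ => f n) hf
          have h2 := hzlam (MulAut.conjNormal (p : G) n)
          show lam (MulAut.conjNormal (((zc : P) * p : P) : G) n) = lam n
          rw [Subgroup.coe_mul, map_mul, MulAut.mul_apply]
          exact mul_right_cancel₀ (right_ne_zero_of_mul_eq_one h1) (h2.trans h1.symm)
      · rw [if_neg fun h => hp2 ?_]
        · refine Finset.sum_eq_zero fun n _ => extendByZero_of_notMem _ _ fun h => hp2 ?_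
          have := (hmem _).1 h
          rwa [map_mul, map_mul, (hπN _).2 n.2, one_mul, hπp] at this
        · have h1 := SP.mul_mem (Finset.mem_filter.1 h).2 (Finset.mem_filter.1 h).2
          have hc : ∀ x : P, x * (zc : P) = (zc : P) * x := Subgroup.mem_center_iff.1 zc.2
          have h2' : (zc : P) * (zc : P) = 1 := by
            rw [← pow_two, ← hzc, ← SubmonoidClass.coe_pow, pow_orderOf_eq_one, OneMemClass.coe_one]
          rwa [mul_assoc (zc : P), ← mul_assoc p (zc : P), hc p, mul_assoc, ← mul_assoc (zc : P),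
            h2', one_mul] at h1
    rw [← ev.sum_comp, Fintype.sum_prod_type]
    simp only [ev, Equiv.coe_fn_mk]
    rw [Finset.sum_congr rfl fun p _ => hval p,
      Finset.sum_ite_mem, Finset.univ_inter, Finset.sum_const, nsmul_eq_mul]
    have hTc : T.card = Nat.card SP := by
      rw [hT, ← Fintype.card_subtype, ← Nat.card_eq_fintype_card]
      exact Nat.card_congr ((Equiv.mulLeft (zc : P)).subtypeEquiv fun p => Iff.rfl)
    rw [hTc, show (Nat.card I : ℂ) = Nat.card SP * Nat.card N from ?_,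
      inv_mul_cancel₀ (mul_ne_zero card_ne_zero card_ne_zero)]
    norm_cast
    refine Nat.eq_of_mul_eq_mul_right (Nat.pos_of_ne_zero (Subgroup.index_ne_zero_of_finite (H := I))) ?_
    rw [I.card_mul_index, hindex, mul_right_comm, SP.card_mul_index, ← Nat.card_congr ev,
      Nat.card_prod]
  -- linear characters with indicator one
  haveI : Finite (G →* ℂ) := Finite.of_injective _ (linIrr_injective (G := G))
  haveI : Finite (P →* ℂ) := Finite.of_injective _ (linIrr_injective (G := P))
  haveI : Finite (SP →* ℂ) := Finite.of_injective _ (linIrr_injective (G := SP))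
  haveI := Fintype.ofFinite (SP →* ℂ)
  haveI := Fintype.ofFinite (G →* ℂ)
  have hfib : Nat.card {a : G →* ℂ // ∀ g, a (g * g) = 1} ≤ I.index * Nat.card R := by
    have hone : ∀ (a : G →* ℂ), (∀ g, a (g * g) = 1) → ∀ n ∈ N, a n = 1 := fun a ha n hn => by
      obtain ⟨j, hj⟩ := hodd
      have h1 : a n ^ q = 1 := by rw [← map_pow, hNel.2 n hn, map_one]
      rw [hj, pow_succ, pow_mul, pow_two, ← map_mul, ha, one_pow, one_mul] at h1
      exact h1
    rw [Nat.card_eq_fintype_card, Fintype.card_subtype, Nat.card_eq_card_toFinset R]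
    refine Finset.card_le_mul_card_image_of_maps_to
      (f := fun a : G →* ℂ => (a.comp P.subtype).comp SP.subtype) (fun a ha => ?_) _ fun μ _ => ?_
    · refine Set.mem_toFinset.2 fun s => ?_
      exact (Finset.mem_filter.1 ha).2 ((s : P) : G)
    · rcases (((Finset.univ.filter fun a : G →* ℂ => ∀ g, a (g * g) = 1).filter fun a =>
          (a.comp P.subtype).comp SP.subtype = μ)).eq_empty_or_nonempty with h0 | ⟨b, hb⟩
      · rw [h0]; simp
      · rw [← Nat.card_eq_finsetCard, hindex]
        refine le_trans ?_ (card_linear_trivial_on_le SP)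
        have hb1 := (Finset.mem_filter.1 (Finset.mem_filter.1 hb).1).2
        refine Nat.card_le_card_of_injective (fun a =>
          ⟨{ toFun := fun p : P => a.1 (p : G) * b (p : G)
             map_one' := by simp
             map_mul' := fun x y => by rw [Subgroup.coe_mul, map_mul, map_mul]; ring },
            fun p hp => ?_⟩) fun a a' h => Subtype.ext (MonoidHom.ext fun g => ?_)
        · show a.1 (p : G) * b (p : G) = 1
          have h1 : (a.1.comp P.subtype).comp SP.subtype = (b.comp P.subtype).comp SP.subtype :=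
            (Finset.mem_filter.1 a.2).2.trans (Finset.mem_filter.1 hb).2.symm
          rw [show a.1 (p : G) = b (p : G) from
            congrArg (fun f : SP →* ℂ => f ⟨p, hp⟩) h1, ← map_mul, hb1]
        · have h1 : a.1 (π g : G) * b (π g : G) = a'.1 (π g : G) * b (π g : G) :=
            congrArg (fun f : {lam : P →* ℂ // ∀ g ∈ SP, lam g = 1} => f.1 (π g)) h
          have h2 : b (π g : G) ≠ 0 := fun h0 => by
            have := hb1 (π g : G); rw [map_mul, h0, mul_zero] at this; exact zero_ne_one this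
          have h3 : ∀ a : G →* ℂ, (∀ g, a (g * g) = 1) → a g = a (π g : G) := fun a ha => by
            conv_lhs => rw [← inv_mul_cancel_right g (π g : G)]
            rw [map_mul, hone a ha _ (hπd g), one_mul]
          rw [h3 _ (Finset.mem_filter.1 (Finset.mem_filter.1 a.2).1).2,
            h3 _ (Finset.mem_filter.1 (Finset.mem_filter.1 a'.2).1).2]
          exact mul_right_cancel₀ h2 h1
  -- the count
  set X : Finset (IrrCharacter G) := Finset.univ.filter fun χ : IrrCharacter G =>
    (Cfsg.charDegree (χ : G → ℂ) = 1 ∨ 2 ∣ Cfsg.charDegree (χ : G → ℂ)) ∧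
      (Nat.card G : ℂ)⁻¹ * ∑ᶠ g : G, (χ : G → ℂ) (g * g) = 1 with hX
  rw [finsum_eq_sum_of_fintype, Nat.card_eq_fintype_card, Fintype.card_subtype, ← hX,
    show (∑ χ : {χ : IrrCharacter G // (Cfsg.charDegree (χ : G → ℂ) = 1 ∨
        2 ∣ Cfsg.charDegree (χ : G → ℂ)) ∧ (Nat.card G : ℂ)⁻¹ * ∑ᶠ g : G, (χ : G → ℂ) (g * g) = 1},
        Cfsg.charDegree (χ.1 : G → ℂ)) = ∑ χ ∈ X, Cfsg.charDegree χ.1 from
      (Finset.sum_subtype X (fun χ => by simp [hX]) fun χ => Cfsg.charDegree χ.1).symm]
  set L := X.filter fun χ => Cfsg.charDegree χ.1 = 1 with hL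
  set M := X.filter fun χ => ¬ Cfsg.charDegree χ.1 = 1 with hM
  have hcard : X.card = L.card + M.card := (Finset.card_filter_add_card_filter_not _).symm
  have hsum : ∑ χ ∈ X, Cfsg.charDegree χ.1 = L.card + ∑ χ ∈ M, Cfsg.charDegree χ.1 := by
    rw [← Finset.sum_filter_add_sum_filter_not X fun χ => Cfsg.charDegree χ.1 = 1]
    congr 1
    rw [Finset.card_eq_sum_ones]
    exact Finset.sum_congr rfl fun χ hχ => (Finset.mem_filter.1 hχ).2
  have hLb : L.card ≤ I.index * Nat.card R := by
    refine le_trans ?_ hfib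
    rw [← Nat.card_eq_finsetCard]
    have hlin : ∀ χ : L, ∃ a : {a : G →* ℂ // ∀ g, a (g * g) = 1}, ⇑a.1 = χ.1.1 := fun χ => by
      obtain ⟨a, ha⟩ := IsCharacter.exists_monoidHom (irr_isCharacter χ.1) (by
        rw [← charDegree_cast, (Finset.mem_filter.1 χ.2).2, Nat.cast_one])
      refine ⟨⟨a, sq_eq_one_of_real_linear a ?_⟩, ha⟩
      intro g
      rw [ha]
      exact real_of_fsIndicator_eq_one χ.1 (Finset.mem_filter.1 (Finset.mem_filter.1 χ.2).1).2.2 g
    choose a ha using hlin
    exact Nat.card_le_card_of_injective a fun x y h =>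
      Subtype.ext (Subtype.ext (by rw [← ha, ← ha, h]))
  set W := R.toFinset.image ind with hW
  have hWM : W ⊆ M := by
    intro χ hχ
    obtain ⟨μ, hμ, rfl⟩ := Finset.mem_image.1 hχ
    refine Finset.mem_filter.2 ⟨Finset.mem_filter.2 ⟨Finset.mem_univ _, Or.inr ?_,
      hnu μ (Set.mem_toFinset.1 hμ)⟩, ?_⟩
    · rw [hdeg]; exact ht.2
    · rw [hdeg]; omega
  have hWc : W.card = Nat.card R := by
    rw [hW, Finset.card_image_of_injective _ hinj, Nat.card_eq_card_toFinset]
  have hMs : I.index * W.card + 2 * (M \ W).card ≤ ∑ χ ∈ M, Cfsg.charDegree χ.1 := by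
    rw [← Finset.sum_sdiff hWM, add_comm]
    refine add_le_add ?_ ?_
    · rw [Nat.mul_comm 2, ← smul_eq_mul]
      refine Finset.card_nsmul_le_sum _ _ 2 fun χ hχ => ?_
      obtain ⟨hx, hd⟩ := Finset.mem_filter.1 (Finset.mem_sdiff.1 hχ).1
      exact Nat.le_of_dvd (charDegree_pos χ) ((Finset.mem_filter.1 hx).2.1.resolve_left hd)
    · rw [Nat.mul_comm, ← smul_eq_mul]
      refine Finset.card_nsmul_le_sum _ _ I.index fun χ hχ => ?_
      obtain ⟨μ, -, rfl⟩ := Finset.mem_image.1 hχ
      rw [hdeg]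
  have hMc : (M \ W).card + W.card = M.card := Finset.card_sdiff_add_card_eq_card hWM
  have h2W : 2 * W.card ≤ I.index * W.card := Nat.mul_le_mul_right _ ht.1
  rw [← hWc] at hLb
  rw [hcard, hsum]
  omega

end Cfsg.Agent.S4871
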