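import Cfsg.Statements.S4872
import Cfsg.Agent.Lib.Char.OddFixed
import Cfsg.Agent.Lib.Char.RealChar
import Cfsg.Agent.Lib.Char.Clifford
import Cfsg.Agent.Lib.Blocks.Defect
import Cfsg.Agent.Lib.BlockCount.Involve
import Cfsg.Agent.Lib.ZStar.Assemble
import Cfsg.Agent.S0887

set_option autoImplicit false
open Cfsg
open scoped Classical ComplexConjugate
open Cfsg.Agent Cfsg.Agent.Char

set_option linter.style.haveILetI false

namespace Cfsg.Agent.S4872

universe u

variable {G : Type u} [Group G] [Fintype G]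

/-- A character of defect zero vanishes on `p`-singular elements. -/
lemma eq_zero_of_defect_zero {p : ℕ} [Fact p.Prime] {M : Ideal Cfsg.AlgInt}
    (hM : Cfsg.IsPModular p M) (φ : IrrCharacter G)
    (hdef : p ^ (Nat.card G).factorization p ∣ charDegree φ.1) {g : G} (hg : p ∣ orderOf g) :
    φ.1 g = 0 := by
  haveI := hM.2.1
  have hp : p.Prime := Fact.out
  have hdvd : charDegree φ.1 ∣ Nat.card G := BlockCount.charDegree_dvd_card φ
  have hd0 : charDegree φ.1 ≠ 0 := fun h => Nat.card_pos.ne' (Nat.eq_zero_of_zero_dvd (h ▸ hdvd))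
  have hfac : (Char.degree φ).factorization p = (Nat.card G).factorization p := by
    rw [← Blocks.charDegree_eq]
    exact le_antisymm ((Nat.factorization_le_iff_dvd hd0 Nat.card_pos.ne').2 hdvd p)
      ((hp.pow_dvd_iff_le_factorization hd0).1 hdef)
  have h := Blocks.blockCoeff_eq_zero hM.2.2 (Blocks.isPBlock_blockOf φ)
    (g := g) (show ¬ IsPRegular p g from fun h => h hg)
  rw [Blocks.blockCoeff_eq_sum, (Blocks.blockOf_eq_singleton_iff hM.2.2 φ).2 hfac] at h
  simpa [Finset.filter_eq', Nat.card_pos.ne', IsIrrCharacter.apply_one_ne_zero φ.2] using h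

variable (N : Subgroup G) [N.Normal] [Fintype N]

omit [N.Normal] in
/-- The inner product of the permutation character on a Sylow 2-subgroup with `φ`. -/
lemma inner_perm {M : Ideal Cfsg.AlgInt} (hM : Cfsg.IsPModular 2 M) (φ : IrrCharacter N)
    (hdef : 2 ^ (Nat.card N).factorization 2 ∣ charDegree φ.1) (P : Sylow 2 G)
    [Fintype (P : Subgroup G)] :
    (Nat.card N : ℂ) * Nat.card (P : Subgroup G) *
      classInner (resFun N (indFun (P : Subgroup G) (fun _ => (1 : ℂ)))) φ.1 =
      Nat.card G * φ.1 1 := by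
  have hN0 : (Nat.card N : ℂ) ≠ 0 := card_ne_zero
  have hP0 : (Nat.card (P : Subgroup G) : ℂ) ≠ 0 := card_ne_zero
  rw [classInner]
  simp only [resFun_apply, indFun, Finset.mul_sum, Finset.sum_mul]
  rw [Finset.sum_comm]
  calc _ = ∑ _x : G, φ.1 1 := ?_
    _ = _ := by rw [Finset.sum_const, Finset.card_univ, nsmul_eq_mul, Nat.card_eq_fintype_card (α := G)]
  refine Finset.sum_congr rfl fun x _ => ?_
  rw [Finset.sum_eq_single (1 : N)]
  · rw [Subgroup.coe_one, mul_one, inv_mul_cancel,
      extendByZero_of_mem _ _ (Subgroup.one_mem (P : Subgroup G))]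
    have h1 : conj (φ.1 1) = φ.1 1 := by
      rw [Char.apply_one_eq_degree, map_natCast]
    rw [h1]
    field_simp
  · intro n _ hn
    by_cases hx : x⁻¹ * (n : G) * x ∈ (P : Subgroup G)
    · have hφ : φ.1 n = 0 := by
        refine eq_zero_of_defect_zero hM φ hdef ?_
        obtain ⟨k, hk⟩ := (IsPGroup.iff_orderOf (p := 2)).1 P.2 ⟨_, hx⟩
        rw [Subgroup.orderOf_mk] at hk
        have he : orderOf (x⁻¹ * (n : G) * x) = orderOf n := by
          rw [← Subgroup.orderOf_coe n]
          simpa using orderOf_injective (MulAut.conj x⁻¹).toMonoidHom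
            (MulAut.conj x⁻¹).injective (n : G)
        rw [he] at hk
        rcases k with _ | k
        · exact absurd (orderOf_eq_one_iff.1 hk) hn
        · rw [hk]; exact dvd_pow_self 2 k.succ_ne_zero
      simp [hφ]
    · simp [extendByZero_of_notMem _ _ hx]
  · exact fun h => absurd (Finset.mem_univ _) h

/-- The parity argument. -/
lemma exists_real_odd {M : Ideal Cfsg.AlgInt} (hM : Cfsg.IsPModular 2 M) (φ : IrrCharacter N)
    (hdef : 2 ^ (Nat.card N).factorization 2 ∣ charDegree φ.1) (P : Sylow 2 G)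
    [Fintype (P : Subgroup G)] (hconj : ∃ g : G, conjFun N φ.1 g = fun n => conj (φ.1 n)) :
    ∃ (χ : IrrCharacter G) (a b : ℕ), (∀ g, (χ.1 g).im = 0) ∧ Odd a ∧ Odd b ∧
      classInner (fun x : (P : Subgroup G) => χ.1 x) (fun _ => (1 : ℂ)) = a ∧
      classInner (resFun N χ.1) φ.1 = b := by
  choose a ha using fun χ : IrrCharacter G => IsCharacter.exists_nat_classInner
    (IsCharacter.restrict (irr_isCharacter χ) (P : Subgroup G))
    (irr_isCharacter (trivialChar (P : Subgroup G)))
  choose b hb using fun χ : IrrCharacter G => IsCharacter.exists_nat_classInner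
    (IsCharacter.restrict (irr_isCharacter χ) N) (irr_isCharacter φ)
  have ha' : ∀ χ : IrrCharacter G,
      classInner (fun x : (P : Subgroup G) => χ.1 x) (fun _ => (1 : ℂ)) = a χ := ha
  have hb' : ∀ χ : IrrCharacter G, classInner (resFun N χ.1) φ.1 = b χ := hb
  -- the sum is odd
  have hK : (Nat.card N : ℂ) * Nat.card (P : Subgroup G) * (∑ χ, a χ * b χ : ℕ) =
      Nat.card G * φ.1 1 := by
    rw [← inner_perm N hM φ hdef P]
    congr 1
    have hdec : resFun N (indFun (P : Subgroup G) fun _ => (1 : ℂ)) =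
        ∑ χ : IrrCharacter G, (a χ : ℂ) • resFun N χ.1 := by
      conv_lhs => rw [eq_sum_classInner_smul (isClassFunction_indFun (P : Subgroup G) fun _ => (1 : ℂ))]
      funext n
      simp only [resFun_apply, Finset.sum_apply, Pi.smul_apply, smul_eq_mul]
      refine Finset.sum_congr rfl fun χ _ => ?_
      rw [classInner_indFun (P : Subgroup G) _ (IsCharacter.isClassFunction (irr_isCharacter χ)),
        ← conj_classInner, ha', map_natCast]
    rw [hdec, classInner_sum_left, Nat.cast_sum]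
    refine Finset.sum_congr rfl fun χ _ => ?_
    rw [classInner_smul_left, hb', Nat.cast_mul]
  set K := ∑ χ, a χ * b χ with hKdef
  rw [Char.apply_one_eq_degree, ← Blocks.charDegree_eq] at hK
  have hK' : Nat.card N * Nat.card (P : Subgroup G) * K = Nat.card G * charDegree φ.1 := by
    exact_mod_cast hK
  have hdvd : charDegree φ.1 ∣ Nat.card N := BlockCount.charDegree_dvd_card φ
  have hd0 : charDegree φ.1 ≠ 0 := fun h => Nat.card_pos.ne' (Nat.eq_zero_of_zero_dvd (h ▸ hdvd))
  have hK0 : K ≠ 0 := fun h => by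
    rw [h, mul_zero] at hK'
    exact mul_ne_zero Nat.card_pos.ne' hd0 hK'.symm
  have hKodd : ¬ 2 ∣ K := by
    rw [Nat.prime_two.dvd_iff_one_le_factorization hK0]
    have h1 := congrArg (fun m => Nat.factorization m 2) hK'
    simp only [Nat.factorization_mul (mul_ne_zero Nat.card_pos.ne' Nat.card_pos.ne') hK0,
      Nat.factorization_mul (Nat.card_pos (α := N)).ne' (Nat.card_pos (α := (P : Subgroup G))).ne',
      Nat.factorization_mul (Nat.card_pos (α := G)).ne' hd0, Finsupp.add_apply] at h1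
    have h2 : (Nat.card (P : Subgroup G)).factorization 2 = (Nat.card G).factorization 2 := by
      rw [P.card_eq_multiplicity, Nat.prime_two.factorization_pow, Finsupp.single_eq_same]
    have h3 : (charDegree φ.1).factorization 2 = (Nat.card N).factorization 2 :=
      le_antisymm ((Nat.factorization_le_iff_dvd hd0 Nat.card_pos.ne').2 hdvd 2)
        ((Nat.prime_two.pow_dvd_iff_le_factorization hd0).1 hdef)
    omega
  -- pairs cancel
  have hinvar : ∀ χ, a (conjIrr χ) = a χ ∧ b (conjIrr χ) = b χ := by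
    intro χ
    refine ⟨Nat.cast_injective (R := ℂ) ?_, Nat.cast_injective (R := ℂ) ?_⟩
    · rw [← ha', ← map_natCast (starRingEnd ℂ) (a χ), ← ha']
      simp [classInner]
    · obtain ⟨g, hg⟩ := hconj
      rw [← hb', ← map_natCast (starRingEnd ℂ) (b χ), ← hb',
        ← classInner_resFun_conjFun N (IsCharacter.isClassFunction (irr_isCharacter χ)) φ.1 g, hg]
      simp [classInner]
  obtain ⟨χ, hχr, hodd⟩ : ∃ χ, conjIrr χ = χ ∧ ¬ 2 ∣ a χ * b χ := by
    by_contra! h
    apply hKodd
    rw [← ZMod.natCast_eq_zero_iff, hKdef, Nat.cast_sum]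
    refine Finset.sum_involution (fun χ _ => conjIrr χ) (fun χ _ => ?_) (fun χ _ hne he => ?_)
      (fun χ _ => Finset.mem_univ _) (fun χ _ => conjIrr_conjIrr χ)
    · rw [(hinvar χ).1, (hinvar χ).2, ← Nat.cast_add, ZMod.natCast_eq_zero_iff]
      exact ⟨a χ * b χ, by ring⟩
    · exact hne ((ZMod.natCast_eq_zero_iff _ _).2 (h χ he))
  exact ⟨χ, a χ, b χ, (conjIrr_eq_self_iff χ).1 hχr,
    Nat.not_even_iff_odd.1 fun h => hodd (h.two_dvd.mul_right _),
    Nat.not_even_iff_odd.1 fun h => hodd (h.two_dvd.mul_left _), ha' χ, hb' χ⟩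

/-- An odd multiplicity over a normal subgroup with a 2-group quotient is one. -/
lemma multiplicity_eq_one (h2 : IsPGroup 2 (G ⧸ N)) (φ : IrrCharacter N) (χ : IrrCharacter G)
    {b : ℕ} (hb : classInner (resFun N χ.1) φ.1 = b) (hodd : Odd b) : b = 1 := by
  have hb0 : classInner (resFun N χ.1) φ.1 ≠ 0 := by
    rw [hb]; exact Nat.cast_ne_zero.2 hodd.pos.ne'
  have h1 := apply_one_eq_mul_card_orbit N χ φ hb0
  rw [hb, Char.apply_one_eq_degree, Char.apply_one_eq_degree] at h1
  have h1' : Char.degree χ = b * (orbitFinset N φ).card * Char.degree φ := by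
    rw [mul_assoc]; exact_mod_cast h1
  obtain ⟨-, h3⟩ := S0887.result N χ.1 χ.2 φ.1 φ.2 hb0 (Char.degree χ) (Char.degree φ)
    (Char.apply_one_eq_degree χ) (Char.apply_one_eq_degree φ)
  rw [h1', Nat.mul_div_cancel _ (Char.degree_pos φ)] at h3
  obtain ⟨k, hk⟩ := (IsPGroup.iff_card (p := 2)).1 h2
  rw [Subgroup.index_eq_card, hk] at h3
  obtain ⟨j, -, hj⟩ := (Nat.dvd_prime_pow Nat.prime_two).1 ((dvd_mul_right b _).trans h3)
  rcases j with _ | j
  · simpa using hj
  · exact absurd hodd (Nat.not_odd_iff_even.2 ⟨2 ^ j, by rw [hj]; ring⟩)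


/-- Let N be a normal subgroup of the finite group G with G/N a 2-group, and let φ be an irreducible complex character of N of 2-defect zero (the 2-part of #N divides φ(1)) whose complex conjugate is G-conjugate to φ. Then some irreducible character of G with Frobenius–Schur indicator +1 contains φ with multiplicity exactly one on restriction to N. -/
theorem result {G : Type*} [Group G] [Finite G] (N : Subgroup G) [N.Normal] (h2 : IsPGroup 2 (G ⧸ N)) (φ : Cfsg.IrrCharacter ↥N) (hdef : 2 ^ (Nat.card ↥N).factorization 2 ∣ Cfsg.charDegree (φ : ↥N → ℂ)) (hconj : ∃ g : G, ∀ n n' : ↥N, (n' : G) = g * (n : G) * g⁻¹ → (φ : ↥N → ℂ) n' = (starRingEnd ℂ) ((φ : ↥N → ℂ) n)) : ∃ χ : Cfsg.IrrCharacter G, (Nat.card G : ℂ)⁻¹ * ∑ᶠ g : G, (χ : G → ℂ) (g * g) = 1 ∧ (Nat.card ↥N : ℂ)⁻¹ * ∑ᶠ n : ↥N, (χ : G → ℂ) n * (starRingEnd ℂ) ((φ : ↥N → ℂ) n) = 1 := by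
  haveI := Fintype.ofFinite G
  haveI := Fintype.ofFinite N
  obtain ⟨M, hM⟩ := ZStar.exists_isPModular_two
  haveI : Fact (Nat.Prime 2) := ⟨Nat.prime_two⟩
  let P : Sylow 2 G := default
  haveI := Fintype.ofFinite (P : Subgroup G)
  have hconj' : ∃ g : G, conjFun N φ.1 g = fun n => conj (φ.1 n) := by
    obtain ⟨g, hg⟩ := hconj
    exact ⟨g, funext fun n => hg n _ (MulAut.conjNormal_apply g n)⟩
  obtain ⟨χ, a, b, hreal, ha, hb, hχa, hχb⟩ := exists_real_odd N hM φ hdef P hconj'
  refine ⟨χ, fsIndicator_eq_one_of_odd_fixed χ.2 hreal (P : Subgroup G) hχa ha, ?_⟩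
  rw [multiplicity_eq_one N h2 φ χ hχb hb, Nat.cast_one] at hχb
  rw [finsum_eq_sum_of_fintype]
  exact hχb

end Cfsg.Agent.S4872
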