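import Cfsg.Statements.S4873
import Cfsg.Agent.Lib.Char.RealInduction

set_option linter.style.haveILetI false

set_option autoImplicit false
open Cfsg

namespace Cfsg.Agent.S4873

open scoped ComplexConjugate
open Cfsg.Agent.Char

variable {G : Type*} [Group G] [Fintype G] (N : Subgroup G) [N.Normal] [Fintype N]

theorem classInner_orbitSum (χ : IrrCharacter G) (φ : IrrCharacter N) :
    classInner (resFun N χ.1) (orbitSum N φ) =
      (orbitFinset N φ).card * classInner (resFun N χ.1) φ.1 := by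
  rw [orbitSum, classInner_sum_right, Finset.sum_congr rfl fun η hη => ?_, Finset.sum_const,
    nsmul_eq_mul]
  obtain ⟨g, rfl⟩ := (mem_orbitFinset N).1 hη
  exact classInner_resFun_conjFun N (IsCharacter.isClassFunction (irr_isCharacter χ)) _ _

theorem orbitSum_conjFun (φ : IrrCharacter N) (g : G) :
    conjFun N (orbitSum N φ) g = orbitSum N φ := by
  classical
  funext n
  simp only [orbitSum, conjFun, Finset.sum_apply]
  refine Finset.sum_bij (fun η _ => conjChar N η g) (fun η hη => ?_) (fun a _ b _ h => ?_)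
    (fun η hη => ?_) fun η _ => rfl
  · obtain ⟨x, rfl⟩ := (mem_orbitFinset N).1 hη
    exact (mem_orbitFinset N).2 ⟨x * g, Subtype.ext (conjFun_mul N φ.1 x g).symm⟩
  · exact Subtype.ext (((conjFun_eq_iff N _ _ g).1 (congrArg Subtype.val h)).symm.trans
      ((conjFun_eq_iff N _ _ g).1 rfl))
  · obtain ⟨x, rfl⟩ := (mem_orbitFinset N).1 hη
    exact ⟨conjChar N φ (x * g⁻¹), (mem_orbitFinset N).2 ⟨_, rfl⟩, Subtype.ext (by
      simp [← conjFun_mul])⟩

/-- Multiplication by the idempotent of the orbit of `φ`. -/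
theorem orbit_indicator (χ : IrrCharacter G) (φ : IrrCharacter N) (g : G) :
    φ.1 1 * ∑ n : N, conj (orbitSum N φ n) * χ.1 ((n : G) * g) =
      if classInner (resFun N χ.1) φ.1 ≠ 0 then (Nat.card N : ℂ) * χ.1 g else 0 := by
  obtain ⟨d, ρ, hρ, hχ⟩ := χ.2
  haveI := hρ
  set c : G → ℂ := extendByZero N fun n => conj (orbitSum N φ n) with hcdef
  have hc : IsClassFunction G c := by
    intro a b
    by_cases ha : a ∈ N
    · have hb : b * a * b⁻¹ ∈ N := Subgroup.Normal.conj_mem ‹N.Normal› a ha b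
      rw [hcdef, extendByZero_of_mem _ _ hb, extendByZero_of_mem _ _ ha]
      refine congrArg _ (Eq.trans ?_ (congrFun (orbitSum_conjFun N φ b) ⟨a, ha⟩))
      exact congrArg _ (Subtype.ext (by simp))
    · have hb : b * a * b⁻¹ ∉ N := fun h => ha (by
        simpa [mul_assoc] using Subgroup.Normal.conj_mem ‹N.Normal› _ h b⁻¹)
      rw [hcdef, extendByZero_of_notMem _ _ hb, extendByZero_of_notMem _ _ ha]
  obtain ⟨a, ha⟩ := exists_opSum_eq_smul hc ρ
  have key : ∀ x : G, ∑ n : N, conj (orbitSum N φ n) * χ.1 ((n : G) * x) = a * χ.1 x := fun x => by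
    rw [← sum_extendByZero_mul N (fun n => conj (orbitSum N φ n)) fun y => χ.1 (y * x), ← hχ]
    calc ∑ y : G, c y * ρ.character (y * x)
        = LinearMap.trace ℂ _ (opSum c ρ ∘ₗ ρ x) := by
          change _ = LinearMap.trace ℂ _ ((∑ g, c g • ρ g) * ρ x)
          simp [Representation.character, Finset.sum_mul, map_sum, map_mul]
      _ = a * ρ.character x := by
          rw [show opSum c ρ = a • LinearMap.id from LinearMap.ext ha, LinearMap.smul_comp,
            LinearMap.id_comp, map_smul, smul_eq_mul]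
          rfl
  have h1 : a * χ.1 1 =
      (Nat.card N : ℂ) * ((orbitFinset N φ).card * classInner (resFun N χ.1) φ.1) := by
    rw [← key 1, ← classInner_orbitSum, classInner, ← mul_assoc, mul_inv_cancel₀ card_ne_zero,
      one_mul]
    exact Finset.sum_congr rfl fun n _ => by simp [mul_comm]
  rw [key g, ← mul_assoc]
  split_ifs with h
  · rw [apply_one_eq_mul_card_orbit N χ φ h] at h1
    have hcard : ((orbitFinset N φ).card : ℂ) ≠ 0 := Nat.cast_ne_zero.2 (Finset.card_ne_zero.2
      ⟨conjChar N φ 1, (mem_orbitFinset N).2 ⟨1, rfl⟩⟩)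
    congr 1
    refine mul_right_cancel₀ (mul_ne_zero hcard h) ?_
    linear_combination h1
  · rw [not_not] at h
    rw [h, mul_zero, mul_zero] at h1
    rw [(mul_eq_zero.1 h1).resolve_right (IsIrrCharacter.apply_one_ne_zero χ.2), mul_zero, zero_mul]

open scoped Classical in
theorem unique_real (hodd : Odd N.index) (φ : IrrCharacter N) (hφ : ∀ n, (φ.1 n).im = 0) :
    (Finset.univ.filter fun χ : IrrCharacter G =>
      classInner (resFun N χ.1) φ.1 ≠ 0 ∧ conjIrr χ = χ).card = 1 := by
  set S := Finset.univ.filter fun χ : IrrCharacter G => classInner (resFun N χ.1) φ.1 ≠ 0 with hS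
  have hφ1 : φ.1 1 ≠ 0 := IsIrrCharacter.apply_one_ne_zero φ.2
  have hN0 : (Nat.card N : ℂ) ≠ 0 := card_ne_zero
  -- the sum of squares vanishes off `N`
  have hoff : ∀ g : G, g ∉ N → ∑ χ ∈ S, χ.1 g * χ.1 g = 0 := fun g hg => by
    refine mul_left_cancel₀ hN0 ?_
    rw [mul_zero, Finset.mul_sum, hS, Finset.sum_filter]
    calc ∑ χ : IrrCharacter G, (if classInner (resFun N χ.1) φ.1 ≠ 0 then
            (Nat.card N : ℂ) * (χ.1 g * χ.1 g) else 0)
        = ∑ χ : IrrCharacter G, (φ.1 1 * ∑ n : N, conj (orbitSum N φ n) * χ.1 ((n : G) * g)) * χ.1 g := by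
          refine Finset.sum_congr rfl fun χ _ => ?_
          rw [orbit_indicator N χ φ g]
          split_ifs <;> ring
      _ = φ.1 1 * ∑ n : N, conj (orbitSum N φ n) *
            ∑ χ : IrrCharacter G, χ.1 ((n : G) * g) * conj (χ.1 g⁻¹) := by
          simp only [Finset.mul_sum, Finset.sum_mul]
          rw [Finset.sum_comm]
          refine Finset.sum_congr rfl fun n _ => Finset.sum_congr rfl fun χ _ => ?_
          rw [IsCharacter.conj_apply (irr_isCharacter χ) g⁻¹, inv_inv]
          ring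
      _ = 0 := by
          rw [Finset.sum_eq_zero fun n _ => ?_, mul_zero]
          rw [sum_irr_mul_conj, if_neg fun h => hg (mem_of_conj_inv_of_odd_index N hodd n.2 h),
            mul_zero]
  have hreal : ∀ η ∈ orbitFinset N φ, ∀ n, conj (η.1 n) = η.1 n := fun η hη n => by
    obtain ⟨g, rfl⟩ := (mem_orbitFinset N).1 hη
    exact Complex.conj_eq_iff_im.2 (hφ _)
  -- the sum of squares on `N`
  have hon : ∀ χ ∈ S, φ.1 1 * ∑ n : N, χ.1 n * χ.1 n =
      (Nat.card N : ℂ) * (classInner (indFun N φ.1) χ.1 * χ.1 1) := fun χ hχ => by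
    have he : classInner (resFun N χ.1) φ.1 ≠ 0 := (Finset.mem_filter.1 hχ).2
    have hr : ∀ n : N, conj (orbitSum N φ n) = orbitSum N φ n := fun n => by
      simp only [orbitSum, Finset.sum_apply, map_sum]
      exact Finset.sum_congr rfl fun η hη => hreal η hη n
    obtain ⟨k, hk⟩ := IsCharacter.exists_nat_classInner
      (IsCharacter.restrict (irr_isCharacter χ) N) (irr_isCharacter φ)
    have hk' : classInner (resFun N χ.1) φ.1 = k := hk
    have h2 : classInner (resFun N χ.1) (resFun N χ.1) =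
        (k : ℂ) * ((orbitFinset N φ).card * k) := by
      nth_rewrite 2 [resFun_eq_smul_orbitSum N χ φ he]
      rw [classInner_smul_right, classInner_orbitSum, hk', map_natCast]
    have h3 : ∑ n : N, χ.1 n * χ.1 n = (Nat.card N : ℂ) * classInner (resFun N χ.1) (resFun N χ.1) := by
      rw [classInner, ← mul_assoc, mul_inv_cancel₀ hN0, one_mul]
      refine Finset.sum_congr rfl fun n _ => congrArg (χ.1 n * ·) ?_
      have := congrFun (resFun_eq_smul_orbitSum N χ φ he) n
      simp only [resFun_apply, Pi.smul_apply, smul_eq_mul, hk'] at this ⊢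
      rw [this, map_mul, map_natCast, hr]
    rw [h3, h2, classInner_indFun N _ (IsCharacter.isClassFunction (irr_isCharacter χ)),
      show classInner φ.1 (fun h : N => χ.1 h) = (k : ℂ) by
        rw [← conj_classInner, show (fun h : N => χ.1 h) = resFun N χ.1 from rfl, hk', map_natCast],
      apply_one_eq_mul_card_orbit N χ φ he, hk']
    ring
  -- evaluate at `1`
  have hdeg : ∑ χ ∈ S, classInner (indFun N φ.1) χ.1 * χ.1 1 = (N.index : ℂ) * φ.1 1 := by
    rw [← indFun_apply_one]
    conv_rhs => rw [eq_sum_classInner_smul (isClassFunction_indFun N φ.1)]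
    simp only [Finset.sum_apply, Pi.smul_apply, smul_eq_mul]
    refine Finset.sum_subset (Finset.subset_univ S) fun χ _ hχ => ?_
    have h0 : classInner (resFun N χ.1) φ.1 = 0 := by_contra fun h => hχ (Finset.mem_filter.2 ⟨Finset.mem_univ χ, h⟩)
    rw [classInner_indFun N _ (IsCharacter.isClassFunction (irr_isCharacter χ)), ← conj_classInner,
      show (fun h : N => χ.1 h) = resFun N χ.1 from rfl, h0, map_zero, zero_mul]
  have hG : (Nat.card G : ℂ) = Nat.card N * N.index := by exact_mod_cast N.card_mul_index.symm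
  have htot : ∑ g : G, ∑ χ ∈ S, χ.1 g * χ.1 g = (Nat.card G : ℂ) := by
    refine mul_left_cancel₀ hφ1 ?_
    rw [← Fintype.sum_of_injective (Subtype.val : N → G) Subtype.val_injective
      (fun n => ∑ χ ∈ S, χ.1 n * χ.1 n) _
      (fun g hg => hoff g fun h => hg ⟨⟨g, h⟩, rfl⟩) (fun n => rfl),
      Finset.sum_comm, Finset.mul_sum, Finset.sum_congr rfl hon, ← Finset.mul_sum, hdeg, hG]
    ring
  have : ((Finset.univ.filter fun χ : IrrCharacter G =>
      classInner (resFun N χ.1) φ.1 ≠ 0 ∧ conjIrr χ = χ).card : ℂ) = 1 := by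
    rw [← Finset.filter_filter, ← hS, Finset.natCast_card_filter]
    calc ∑ χ ∈ S, (if conjIrr χ = χ then (1 : ℂ) else 0)
        = ∑ χ ∈ S, (Nat.card G : ℂ)⁻¹ * ∑ g : G, χ.1 g * χ.1 g :=
          Finset.sum_congr rfl fun χ _ => by
            rw [avg_sq_eq_classInner, classInner_irr]
            exact if_congr eq_comm rfl rfl
      _ = 1 := by rw [← Finset.mul_sum, Finset.sum_comm, htot, inv_mul_cancel₀ card_ne_zero]
  exact_mod_cast this

/-- Let N be a normal subgroup of odd index in the finite group G. Then every irreducible complex character of N with Frobenius–Schur indicator +1 lies under exactly one irreducible character of G with Frobenius–Schur indicator +1. -/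
theorem result {G : Type*} [Group G] [Finite G] (N : Subgroup G) [N.Normal] (hodd : Odd N.index) (φ : Cfsg.IrrCharacter ↥N) (hφ : (Nat.card ↥N : ℂ)⁻¹ * ∑ᶠ g : ↥N, (φ : ↥N → ℂ) (g * g) = 1) : ∃! χ : Cfsg.IrrCharacter G, (Nat.card G : ℂ)⁻¹ * ∑ᶠ g : G, (χ : G → ℂ) (g * g) = 1 ∧ (∑ᶠ n : ↥N, (χ : G → ℂ) n * (starRingEnd ℂ) ((φ : ↥N → ℂ) n)) ≠ 0 := by
  classical
  haveI := Fintype.ofFinite G
  haveI := Fintype.ofFinite N
  have hφ' : fsIndicator φ.1 = 1 := hφ
  have hreal := real_of_fsIndicator_eq_one φ hφ'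
  have hover : ∀ χ : IrrCharacter G,
      (∑ᶠ n : ↥N, χ.1 n * conj (φ.1 n)) ≠ 0 ↔ classInner (resFun N χ.1) φ.1 ≠ 0 := fun χ => by
    rw [finsum_eq_sum_of_fintype, classInner, mul_ne_zero_iff]
    simp
  obtain ⟨χ₀, hχ₀⟩ := Finset.card_eq_one.1 (unique_real N hodd φ hreal)
  have huniq : ∀ χ : IrrCharacter G, fsIndicator χ.1 ≠ 0 → classInner (resFun N χ.1) φ.1 ≠ 0 →
      χ = χ₀ := fun χ h1 h2 => by
    rw [← Finset.mem_singleton, ← hχ₀]
    exact Finset.mem_filter.2 ⟨Finset.mem_univ _, h2,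
      (conjIrr_eq_self_iff χ).2 ((fsIndicator_ne_zero_iff χ).1 h1)⟩
  have hmem : χ₀ ∈ (Finset.univ.filter fun χ : IrrCharacter G =>
      classInner (resFun N χ.1) φ.1 ≠ 0 ∧ conjIrr χ = χ) := by rw [hχ₀]; simp
  obtain ⟨-, hov, hr⟩ := Finset.mem_filter.1 hmem
  -- its indicator is one
  have hsum : fsIndicator (indFun N φ.1) = 1 := by
    rw [fsIndicator_indFun, ← hφ', fsIndicator_eq_sum]
    refine congrArg _ ?_
    refine (Fintype.sum_of_injective (Subtype.val : N → G) Subtype.val_injective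
      (fun n => φ.1 (n * n)) _ (fun g hg => ?_) (fun n => ?_)).symm
    · exact extendByZero_of_notMem _ _ fun h =>
        hg ⟨⟨g, mem_of_sq_mem_of_odd_index N hodd h⟩, rfl⟩
    · exact (extendByZero_coe N φ.1 (n * n)).symm
  obtain ⟨k, hk⟩ := IsCharacter.exists_nat_classInner
    (isCharacter_indFun N (irr_isCharacter φ)) (irr_isCharacter χ₀)
  rw [fsIndicator_indFun_eq_sum, Finset.sum_eq_single χ₀, hk] at hsum
  · have hν : fsIndicator χ₀.1 = 1 := by
      rcases fsIndicator_of_real χ₀ ((conjIrr_eq_self_iff χ₀).1 hr) with h | h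
      · exact h
      · rw [h, mul_neg, mul_one] at hsum
        have h1 : (((k : ℤ) + 1 : ℤ) : ℂ) = 0 := by push_cast; linear_combination -hsum
        have h2 : (k : ℤ) + 1 = 0 := by exact_mod_cast h1
        omega
    refine ⟨χ₀, ⟨hν, (hover χ₀).2 hov⟩, fun χ hχ => huniq χ ?_ ((hover χ).1 hχ.2)⟩
    rw [show fsIndicator χ.1 = 1 from hχ.1]
    exact one_ne_zero
  · intro χ _ hne
    by_contra h
    obtain ⟨h1, h2⟩ := mul_ne_zero_iff.1 h
    refine hne (huniq χ h2 fun h0 => h1 ?_)
    rw [classInner_indFun N _ (IsCharacter.isClassFunction (irr_isCharacter χ)), ← conj_classInner,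
      show (fun h : N => χ.1 h) = resFun N χ.1 from rfl, h0, map_zero]
  · exact fun h => absurd (Finset.mem_univ _) h

end Cfsg.Agent.S4873
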