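import Cfsg.Statements.S4885
import Cfsg.Agent.Lib.BlockPLength.Kernel
-- import your own Cfsg.Agent.* helpers here

set_option autoImplicit false
open Cfsg

namespace Cfsg.Agent.S4885

/-- Let p and q be primes dividing the order of the finite group G, and suppose G is p-solvable and q-solvable. Fix maximal ideals of the algebraic integers containing p and q, defining the principal p-block and the principal q-block. If the irreducible characters of degree prime to p in the principal p-block are exactly the irreducible characters of degree prime to q in the principal q-block, then p = q. -/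
theorem result {G : Type*} [Group G] [Finite G] (p q : ℕ) [Fact p.Prime] [Fact q.Prime] (hp : p ∣ Nat.card G) (hq : q ∣ Nat.card G) (hps : Cfsg.IsPSolvable p G) (hqs : Cfsg.IsPSolvable q G) (Mp Mq : Ideal Cfsg.AlgInt) (hMp : Cfsg.IsPModular p Mp) (hMq : Cfsg.IsPModular q Mq) (h : ∀ χ : Cfsg.IrrCharacter G, (χ ∈ Cfsg.principalBlock Mp G ∧ ¬ p ∣ Cfsg.charDegree (χ : G → ℂ)) ↔ (χ ∈ Cfsg.principalBlock Mq G ∧ ¬ q ∣ Cfsg.charDegree (χ : G → ℂ))) : p = q := by
  classical
  haveI := Fintype.ofFinite G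
  by_contra hpq
  haveI := hMp.2.1
  haveI := hMq.2.1
  let X : Set (Cfsg.IrrCharacter G) :=
    {χ | χ ∈ Cfsg.principalBlock Mp G ∧ ¬ p ∣ Cfsg.charDegree (χ : G → ℂ)}
  let N : Subgroup G := ⨅ χ : X, CharInt.charKernel (Char.irr_isCharacter χ.1)
  haveI hNn : N.Normal := Subgroup.normal_iInf_normal fun χ => CharInt.charKernel_normal _
  have hmem : ∀ g, g ∈ N ↔ ∀ χ ∈ X, χ.1 g = χ.1 1 := fun g => by
    simp [N, Subgroup.mem_iInf, CharInt.mem_charKernel]
  have htp : ∀ χ ∈ Cfsg.principalBlock Mp G, ¬ p ∣ Cfsg.charDegree (χ : G → ℂ) →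
      Char.TrivOn N χ.1 := fun χ h1 h2 g hg => (hmem g).1 hg χ ⟨h1, h2⟩
  have htq : ∀ χ ∈ Cfsg.principalBlock Mq G, ¬ q ∣ Cfsg.charDegree (χ : G → ℂ) →
      Char.TrivOn N χ.1 := fun χ h1 h2 g hg => (hmem g).1 hg χ ((h χ).2 ⟨h1, h2⟩)
  have hAp : Cfsg.pPrimeCore p G ≤ N := fun g hg => (hmem g).2 fun χ hχ =>
    BlockCount.apply_eq_one_of_mem_principalBlock hMp _ PCore.not_dvd_card_pPrimeCore hχ.1 g hg
  have hAq : Cfsg.pPrimeCore q G ≤ N := fun g hg => (hmem g).2 fun χ hχ =>
    BlockCount.apply_eq_one_of_mem_principalBlock hMq _ PCore.not_dvd_card_pPrimeCore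
      ((h χ).1 hχ).1 g hg
  obtain ⟨P⟩ : Nonempty (Sylow p G) := inferInstance
  obtain ⟨Q⟩ : Nonempty (Sylow q G) := inferInstance
  have hLp := BlockPLength.pPrimeCore_quotient_eq_bot hMp hps P N htp hAp
  have hLq := BlockPLength.pPrimeCore_quotient_eq_bot hMq hqs Q N htq hAq
  have hpc : Cfsg.pCore p (G ⧸ N) = ⊥ := le_bot_iff.1 (hLq ▸ PCore.pCore_le_pPrimeCore hpq)
  have hN : N = ⊤ := by
    have h1 := PCore.centralizer_pCore_le (PCore.isPSolvable_quotient hps N) hLp
    rw [hpc] at h1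
    refine top_le_iff.1 fun g _ => (QuotientGroup.eq_one_iff g).1 (Subgroup.mem_bot.1 (h1 ?_))
    rw [Subgroup.mem_centralizer_iff]
    intro y hy
    rw [Subgroup.coe_bot, Set.mem_singleton_iff] at hy
    rw [hy, one_mul, mul_one]
  have hP := BlockPLength.inf_sylow_le_commutator hMp hps P N htp
  rw [hN, top_inf_eq] at hP
  haveI : Nontrivial (P : Subgroup G) := (Subgroup.nontrivial_iff_ne_bot _).2 fun e =>
    P.not_dvd_index (by rw [e, Subgroup.index_bot]; exact hp)
  haveI : Group.IsNilpotent (P : Subgroup G) := P.isPGroup'.isNilpotent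
  refine (Group.IsSolvable.commutator_lt_top_of_nontrivial (G := (P : Subgroup G))).ne
    (top_le_iff.1 fun v _ => ?_)
  obtain ⟨w, hw, hwv⟩ := hP v.2
  exact (Subtype.ext hwv : w = v) ▸ hw

end Cfsg.Agent.S4885
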