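import Cfsg.Statements.S4886
import Cfsg.Agent.Lib.BlockPLength.TwoPrimes
import Cfsg.Agent.Lib.BlockLow.PrincipalExt
import Cfsg.Agent.S4602
-- import your own Cfsg.Agent.* helpers here

set_option autoImplicit false
open Cfsg

namespace Cfsg.Agent.S4886

open scoped Classical
open Cfsg

set_option linter.style.haveILetI false

universe u

variable {G : Type u} [Group G] [Fintype G] {p q : ℕ} [hp : Fact p.Prime] [hq : Fact q.Prime]
  {M : Ideal AlgInt}

theorem not_dvd_degree (hM : IsPModular p M) (hidx : ¬ q ∣ (pPrimeCore p G).index)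
    (χ : IrrCharacter G) (hχ : χ ∈ principalBlock M G) : ¬ q ∣ charDegree χ.1 := by
  obtain ⟨ψ, hψ⟩ := Char.exists_descend (pPrimeCore p G) χ
    (BlockCount.apply_eq_one_of_mem_principalBlock hM _ PCore.not_dvd_card_pPrimeCore hχ)
  haveI := Fintype.ofFinite (G ⧸ pPrimeCore p G)
  have hd : charDegree χ.1 = charDegree ψ.1 := by
    simp only [charDegree]
    rw [← hψ 1]
    rfl
  rw [hd]
  intro h
  exact hidx (Subgroup.index_eq_card (pPrimeCore p G) ▸ h.trans (Char.charDegree_dvd_card ψ))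

theorem index_of_degrees (hM : IsPModular p M) (hpq : p ≠ q) (hps : IsPSolvable p G)
    (hqs : IsPSolvable q G)
    (h : ∀ χ : IrrCharacter G, χ ∈ principalBlock M G → ¬ p ∣ charDegree χ.1 →
      ¬ q ∣ charDegree χ.1) : ¬ q ∣ (pPrimeCore p G).index :=
  BlockPLength.not_dvd_index_pPrimeCore hpq hps hqs fun χ hχ hd =>
    h χ (BlockPLength.mem_principalBlock_of_trivOn hM hps hχ) hd

theorem exists_commuting (hA : ¬ q ∣ (pPrimeCore p G).index)
    (hB : ¬ p ∣ (pPrimeCore q G).index) :
    ∃ (P : Sylow p G) (Q : Sylow q G), ∀ x ∈ (P : Subgroup G), ∀ y ∈ (Q : Subgroup G),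
      x * y = y * x := by
  obtain ⟨P⟩ : Nonempty (Sylow p G) := inferInstance
  set A := pPrimeCore p G
  set B := pPrimeCore q G
  have hPB : (P : Subgroup G) ≤ B := BlockLow.sylow_le_of_not_dvd_index hB P
  haveI : Group.IsNilpotent (P : Subgroup G) := P.isPGroup'.isNilpotent
  obtain ⟨Qs, hQs⟩ := Coprime.exists_invariant_sylow (A := (P : Subgroup G)) (K := A)
    (by rw [Subgroup.normalizer_eq_top_iff.2 (inferInstance : A.Normal)]; exact le_top)
    (BlockPLength.coprime_card_of_isPGroup P.isPGroup' PCore.not_dvd_card_pPrimeCore)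
    (Or.inl inferInstance) q
  have hidx : ¬ q ∣ ((Qs : Subgroup A).map A.subtype).index := by
    rw [← Subgroup.relIndex_mul_index (Subgroup.map_subtype_le _)]
    exact hq.out.not_dvd_mul (BlockPLength.not_dvd_relIndex_map_sylow Qs) hA
  let Q : Sylow q G := (BlockPLength.isPGroup_map_sylow Qs).toSylow hidx
  refine ⟨P, Q, fun x hx y hy => ?_⟩
  have hz1 : x * y * x⁻¹ * y⁻¹ ∈ (Q : Subgroup G) :=
    mul_mem ((Subgroup.mem_normalizer_iff.1 (hQs hx) y).1 hy) (inv_mem hy)
  have hz2 : x * y * x⁻¹ * y⁻¹ ∈ B := by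
    have := mul_mem (hPB hx) ((inferInstance : B.Normal).conj_mem x⁻¹ (inv_mem (hPB hx)) y)
    simpa [mul_assoc] using this
  have hz : x * y * x⁻¹ * y⁻¹ = 1 := by
    obtain ⟨k, hk⟩ := IsPGroup.iff_orderOf.1 Q.isPGroup' ⟨_, hz1⟩
    rw [Subgroup.orderOf_mk] at hk
    rw [← orderOf_eq_one_iff]
    refine Nat.eq_one_of_dvd_coprimes (b := Nat.card B) (PCore.coprime_card_pPrimeCore.symm.pow_left k) (dvd_of_eq hk) ?_
    rw [← Subgroup.orderOf_mk _ hz2]
    exact orderOf_dvd_natCard _
  rwa [mul_inv_eq_one, mul_inv_eq_iff_eq_mul] at hz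

/-- Let p ≠ q be primes and G a finite group that is p-solvable and q-solvable. Fix maximal ideals of the algebraic integers containing p and q, defining the principal p-block and the principal q-block. Then every irreducible character of degree prime to p in the principal p-block has degree prime to q and every irreducible character of degree prime to q in the principal q-block has degree prime to p, if and only if some Sylow p-subgroup of G commutes elementwise with some Sylow q-subgroup. -/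
theorem result {G : Type*} [Group G] [Finite G] (p q : ℕ) [Fact p.Prime] [Fact q.Prime] (hpq : p ≠ q) (Mp Mq : Ideal Cfsg.AlgInt) (hMp : Cfsg.IsPModular p Mp) (hMq : Cfsg.IsPModular q Mq) (hps : Cfsg.IsPSolvable p G) (hqs : Cfsg.IsPSolvable q G) : ((∀ χ : Cfsg.IrrCharacter G, χ ∈ Cfsg.principalBlock Mp G → ¬ p ∣ Cfsg.charDegree (χ : G → ℂ) → ¬ q ∣ Cfsg.charDegree (χ : G → ℂ)) ∧ (∀ χ : Cfsg.IrrCharacter G, χ ∈ Cfsg.principalBlock Mq G → ¬ q ∣ Cfsg.charDegree (χ : G → ℂ) → ¬ p ∣ Cfsg.charDegree (χ : G → ℂ))) ↔ ∃ (P : Sylow p G) (Q : Sylow q G), ∀ x ∈ (P : Subgroup G), ∀ y ∈ (Q : Subgroup G), x * y = y * x := by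
  haveI := Fintype.ofFinite G
  constructor
  · rintro ⟨h1, h2⟩
    exact exists_commuting (index_of_degrees hMp hpq hps hqs h1)
      (index_of_degrees hMq hpq.symm hqs hps h2)
  · rintro ⟨P, Q, h⟩
    have hA := (S4602.result p q hpq hps).1 ⟨P, Q, fun x hx =>
      Subgroup.centralizer_le_normalizer _
        (Subgroup.mem_centralizer_iff.2 fun y hy => (h x hx y hy).symm)⟩
    have hB := (S4602.result q p hpq.symm hqs).1 ⟨Q, P, fun y hy =>
      Subgroup.centralizer_le_normalizer _
        (Subgroup.mem_centralizer_iff.2 fun x hx => h x hx y hy)⟩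
    exact ⟨fun χ hχ _ => not_dvd_degree hMp hA χ hχ, fun χ hχ _ => not_dvd_degree hMq hB χ hχ⟩

end Cfsg.Agent.S4886
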