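import Cfsg.Statements.S4888
import Cfsg.Agent.Lib.Clifford.GallagherExtension
import Cfsg.Agent.Lib.Transfer.Residual
import Cfsg.Agent.Lib.Char.NormalAction
import Cfsg.Agent.Lib.Char.KernelSum
import Cfsg.Agent.Lib.Char.HeightZeroInduced
import Cfsg.Agent.Lib.Blocks.PPrimeNormal
import Cfsg.Agent.Lib.BlockCount.Criterion
import Cfsg.Agent.Lib.Glauberman.PGroup
import Cfsg.Agent.S0887

set_option autoImplicit false
set_option linter.style.haveILetI false
open Cfsg

namespace Cfsg.Agent.S4888

open Cfsg.Agent
open Cfsg.Agent.Char (conjChar irrConjAction linIrr)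

section Residual

variable {G : Type*} [Group G] [Finite G] {p : ℕ} [Fact p.Prime]

/-- An invariant linear character of `O^p(G)` of order `p` is trivial. -/
theorem invariant_pow_eq_one {K : Subgroup G} [K.Normal] (hK : K = Cfsg.pResidual p G)
    (f : K →* ℂˣ) (hinv : ∀ g n, f (MulAut.conjNormal (g : G) n) = f n) (hf : f ^ p = 1) :
    f = 1 := by
  obtain ⟨a, ha⟩ := Transfer.index_pResidual_eq_pow (G := G) p
  rw [← hK] at ha
  set M : Subgroup G := f.ker.map K.subtype
  haveI : M.Normal := ⟨by
    rintro _ ⟨n, hn, rfl⟩ g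
    refine ⟨MulAut.conjNormal g n, ?_, by simp⟩
    show f (MulAut.conjNormal g n) = 1
    rw [hinv]
    exact hn⟩
  have hquot : IsPGroup p (G ⧸ M) := fun q => by
    obtain ⟨g, rfl⟩ := QuotientGroup.mk_surjective q
    refine ⟨a + 1, ?_⟩
    rw [← QuotientGroup.mk_pow, QuotientGroup.eq_one_iff, pow_succ, pow_mul, ← ha]
    refine ⟨⟨_, K.pow_index_mem g⟩ ^ p, ?_, rfl⟩
    show f (⟨_, K.pow_index_mem g⟩ ^ p) = 1
    rw [map_pow]
    exact DFunLike.congr_fun hf _
  refine MonoidHom.ext fun n => ?_
  obtain ⟨n', hn', he⟩ := Transfer.pResidual_le_of_isPGroup_quotient M hquot (hK.le n.2)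
  rw [← show n' = n from Subtype.ext he]
  exact hn'

end Residual

/-- An irreducible character trivial on a normal subgroup of `p`-power index with degree prime to
`p` is linear. -/
theorem degree_eq_one_of_ker {G : Type*} [Group G] [Fintype G] {p : ℕ} (hp : p.Prime)
    {K : Subgroup G} [K.Normal] {k : ℕ} (hk : K.index = p ^ k) (χ : Cfsg.IrrCharacter G)
    (h : ∀ n ∈ K, χ.1 n = χ.1 1) (hχ : ¬ p ∣ Char.degree χ) : Char.degree χ = 1 := by
  haveI := Fintype.ofFinite K
  have hcon : classInner (fun n : K => χ.1 n) (Char.trivialChar K).1 ≠ 0 := by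
    rw [show (fun n : K => χ.1 n) = χ.1 1 • (Char.trivialChar K).1 from funext fun n => by
        rw [Pi.smul_apply, Char.trivialChar_apply, smul_eq_mul, mul_one, h n n.2],
      Char.classInner_smul_left, Char.classInner_irr_self (Char.trivialChar K).2, mul_one]
    exact Char.IsIrrCharacter.apply_one_ne_zero χ.2
  obtain ⟨-, hd⟩ := Cfsg.Agent.S0887.result K χ.1 χ.2 (Char.trivialChar K).1 (Char.trivialChar K).2
    hcon (Char.degree χ) 1 (Char.apply_one_eq_degree χ) (by simp)
  rw [Nat.div_one, hk] at hd
  exact ((hp.coprime_iff_not_dvd.2 hχ).pow_left k).symm.eq_one_of_dvd hd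

/-- Let G be a finite group, p a prime and M a maximal ideal of the algebraic integers containing p. Then all height-zero irreducible characters of the principal p-block of G (equivalently, all its characters of degree prime to p) have the same degree if and only if G has a normal p-complement. -/
theorem result {G : Type*} [Group G] [Finite G] (p : ℕ) [Fact p.Prime] (M : Ideal Cfsg.AlgInt) (hM : Cfsg.IsPModular p M) : (∃ d : ℕ, ∀ χ : Cfsg.IrrCharacter G, χ ∈ (Cfsg.principalBlock M G) → Cfsg.blockHeight p (Cfsg.principalBlock M G) (χ : G → ℂ) = 0 → Cfsg.charDegree (χ : G → ℂ) = d) ↔ Cfsg.HasNormalPComplement p G := by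
  classical
  have hp : p.Prime := Fact.out
  haveI := hM.2.1
  haveI := Fintype.ofFinite G
  haveI : (Cfsg.pResidual p G).Normal := Transfer.pResidual_normal p
  have h1mem : ∀ (H : Type _) [Group H], Char.trivialChar H ∈ Cfsg.principalBlock M H :=
    fun H _ g => by
      rw [show Cfsg.centralChar (fun _ : H => (1 : ℂ)) g =
        Cfsg.centralChar (Char.trivialChar H : H → ℂ) g from rfl, sub_self]
      exact Blocks.memLocalIdeal_zero
  have hdeg1 : ∀ (H : Type _) [Group H] [Finite H], Char.degree (Char.trivialChar H) = 1 :=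
    fun H _ _ => by
      have h := Char.apply_one_eq_degree (Char.trivialChar H)
      exact_mod_cast (h.symm.trans (Char.trivialChar_apply (G := H) 1))
  have hinf : sInf ((fun ψ : Cfsg.IrrCharacter G =>
      (Cfsg.charDegree (ψ : G → ℂ)).factorization p) '' Cfsg.principalBlock M G) = 0 :=
    Nat.eq_zero_of_le_zero ((Char.sInf_le_factorization_degree (h1mem G)).trans
      (by rw [hdeg1]; simp))
  have hheight : ∀ χ : Cfsg.IrrCharacter G,
      Cfsg.blockHeight p (Cfsg.principalBlock M G) (χ : G → ℂ) = 0 ↔ ¬ p ∣ Char.degree χ :=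
    fun χ => by
      rw [Cfsg.blockHeight, hinf, Nat.sub_zero, Char.charDegree_eq_degree,
        Nat.factorization_eq_zero_iff]
      simp [hp, (Char.degree_pos χ).ne']
  obtain ⟨a, ha⟩ := Transfer.index_pResidual_eq_pow (G := G) p
  constructor
  · rintro ⟨d, hd⟩
    have hd1 : d = 1 := by
      rw [← hd _ (h1mem G) ((hheight _).2 (by rw [hdeg1]; exact hp.not_dvd_one)),
        Char.charDegree_eq_degree, hdeg1]
    have hlin : ∀ χ : Cfsg.IrrCharacter G, χ ∈ Cfsg.principalBlock M G → ¬ p ∣ Char.degree χ →
        Char.degree χ = 1 := fun χ hχ hχp => by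
      rw [← Char.charDegree_eq_degree, hd χ hχ ((hheight χ).2 hχp), hd1]
    refine Transfer.hasNormalPComplement_of_coprime fun hpK => ?_
    set K := Cfsg.pResidual p G with hK
    haveI := Fintype.ofFinite K
    set B := Cfsg.principalBlock M K with hB
    have hco : ∀ n : ℕ, ¬ p ∣ n → Nat.Coprime K.index n := fun n hn => by
      rw [ha]; exact (hp.coprime_iff_not_dvd.2 hn).pow_left a
    have hBinv : ∀ (θ : Cfsg.IrrCharacter K) (g : G), θ ∈ B → conjChar K θ g ∈ B := fun θ g h => by
      rw [hB, BlockCount.mem_principalBlock_iff hM] at h ⊢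
      rw [Char.conjChar_coe, BlockCount.pregSum_conjFun]
      exact h
    -- the invariant `p'`-order linear characters
    let Λ : Subgroup (K →* ℂˣ) :=
      { carrier := {f | linIrr ((Units.coeHom ℂ).comp f) ∈ B ∧
          ∀ g n, f (MulAut.conjNormal (g : G) n) = f n}
        one_mem' := ⟨by
          rw [show linIrr ((Units.coeHom ℂ).comp (1 : K →* ℂˣ)) = Char.trivialChar K from
            Subtype.ext (funext fun x => by simp)]
          exact h1mem K, fun _ _ => rfl⟩
        mul_mem' := fun {f f'} hf hf' => ⟨fun x => by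
          have h1 := Blocks.MemLocalIdeal.mul_right (hf.1 x) (Blocks.memLocalRing_of_isIntegral (M := M)
            (Glauberman.isIntegral_irr (linIrr ((Units.coeHom ℂ).comp f')) x))
          convert Blocks.MemLocalIdeal.add h1 (hf'.1 x) using 1
          simp [Cfsg.centralChar]
          ring, fun g n => by simp [hf.2, hf'.2]⟩
        inv_mem' := fun {f} hf => ⟨fun x => by
          have h1 := Blocks.MemLocalIdeal.neg (Blocks.MemLocalIdeal.mul_right (hf.1 x)
            (Blocks.memLocalRing_of_isIntegral (M := M)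
              (Glauberman.isIntegral_irr (linIrr ((Units.coeHom ℂ).comp f⁻¹)) x)))
          convert h1 using 1
          simp [Cfsg.centralChar]
          ring_nf
          simp, fun g n => by simp [hf.2]⟩ }
    haveI : Finite (K →* ℂˣ) := Finite.of_injective
      (fun f : K →* ℂˣ => linIrr ((Units.coeHom ℂ).comp f)) fun u v huv =>
        MonoidHom.ext fun x => Units.ext (congrFun (congrArg Subtype.val huv) x)
    haveI := Fintype.ofFinite Λ
    have hΛ : ¬ p ∣ Nat.card Λ := fun hd => by
      obtain ⟨f, hf⟩ := exists_prime_orderOf_dvd_card' p hd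
      have h1 : (f : K →* ℂˣ) = 1 := invariant_pow_eq_one hK (f : K →* ℂˣ) f.2.2
        (by rw [← Subgroup.coe_pow, ← hf, pow_orderOf_eq_one]; rfl)
      rw [show f = 1 from Subtype.ext h1, orderOf_one] at hf
      exact hp.one_lt.ne hf
    -- the sum of squares of the degrees in the block
    have hKB : Cfsg.IsPBlock M B := ⟨Char.trivialChar K, rfl⟩
    have hS := Char.factorization_sum_degree_sq hM.2.2 hp hKB
    have h0 : sInf ((fun χ : Cfsg.IrrCharacter K =>
        (Cfsg.charDegree (χ : K → ℂ)).factorization p) '' B) = 0 :=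
      Nat.eq_zero_of_le_zero ((Char.sInf_le_factorization_degree (h1mem K)).trans
        (by rw [hdeg1]; simp))
    rw [Cfsg.blockDefect, h0, Nat.sub_zero] at hS
    have hapos : 0 < (Nat.card K).factorization p :=
      hp.factorization_pos_of_dvd Nat.card_pos.ne' hpK
    set S := ∑ χ ∈ Finset.univ.filter (· ∈ B), Char.degree χ ^ 2 with hSdef
    have hpS : p ∣ S := Nat.dvd_of_factorization_pos (by omega)
    -- orbit count under a Sylow subgroup
    obtain ⟨P⟩ : Nonempty (Sylow p G) := inferInstance
    letI := irrConjAction (G := G) K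
    letI : MulAction (P : Subgroup G) (Cfsg.IrrCharacter K) :=
      MulAction.compHom _ (P : Subgroup G).subtype
    have hfix : ∀ θ : Cfsg.IrrCharacter K,
        θ ∈ MulAction.fixedPoints (P : Subgroup G) (Cfsg.IrrCharacter K) →
          ∀ g, Char.conjFun K θ.1 g = θ.1 := fun θ h g => by
      have hmem : g ∈ (P : Subgroup G) ⊔ K :=
        (Transfer.sylow_sup_pResidual_eq_top P).symm ▸ Subgroup.mem_top g
      obtain ⟨x, hx, k, hk, rfl⟩ := Subgroup.mem_sup_of_normal_right.1 hmem
      have hx' : Char.conjFun K θ.1 x = θ.1 := by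
        have h1 : conjChar K θ (x⁻¹)⁻¹ = θ := h ⟨x⁻¹, inv_mem hx⟩
        rw [inv_inv] at h1
        exact congrArg Subtype.val h1
      rw [Char.conjFun_mul, hx']
      exact congrArg Subtype.val (Char.conjChar_of_mem K θ hk)
    let F : Cfsg.IrrCharacter K → ℕ := fun θ => if θ ∈ B then Char.degree θ ^ 2 else 0
    have hcong := Glauberman.pCong_sum_fixedPoints (p := p) P.isPGroup'
      (fun θ : Cfsg.IrrCharacter K => (F θ : ℂ)) (fun x θ => by
        have hd : Char.degree (conjChar K θ ((x : G))⁻¹) = Char.degree θ := by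
          have h1 : (conjChar K θ ((x : G))⁻¹).1 1 = θ.1 1 := Char.conjFun_apply_one K _ _
          rw [Char.apply_one_eq_degree, Char.apply_one_eq_degree] at h1
          exact Nat.cast_injective h1
        have hm : conjChar K θ ((x : G))⁻¹ ∈ B ↔ θ ∈ B := by
          rw [hB, BlockCount.mem_principalBlock_iff hM, BlockCount.mem_principalBlock_iff hM,
            Char.conjChar_coe, BlockCount.pregSum_conjFun]
        show ((F (conjChar K θ ((x : G))⁻¹) : ℕ) : ℂ) = _
        simp only [F, hd, hm])
      (fun θ => by rw [← Int.cast_natCast]; exact isIntegral_intCast _)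
    rw [← Nat.cast_sum, ← Nat.cast_sum,
      show ∑ θ, F θ = S from (Finset.sum_filter _ _).symm] at hcong
    set R := Finset.univ.filter (fun θ : Cfsg.IrrCharacter K =>
      θ ∈ MulAction.fixedPoints (P : Subgroup G) (Cfsg.IrrCharacter K))
    have hdvd : p ∣ ∑ θ ∈ R, F θ := by
      have h2 := Glauberman.dvd_sub_of_pCong (m := (S : ℤ)) (n := ((∑ θ ∈ R, F θ : ℕ) : ℤ))
        (by exact_mod_cast hcong)
      exact Int.natCast_dvd_natCast.1 ((dvd_iff_dvd_of_dvd_sub h2).1 (Int.natCast_dvd_natCast.2 hpS))
    -- invariant `p'`-degree members of the block are linear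
    have hlinear : ∀ θ ∈ R, θ ∈ B → ¬ p ∣ Char.degree θ → Char.degree θ = 1 := fun θ hθR hθB hθp => by
      have hinv := hfix θ (Finset.mem_filter.1 hθR).2
      have ho : ¬ p ∣ Cfsg.detOrder θ.1 := fun ⟨o, ho⟩ => by
        have hinv' : ∀ (g : G) (n : K), Clifford.detChar θ (MulAut.conjNormal g n) =
            Clifford.detChar θ n := fun g n =>
          (Clifford.detChar_comp θ (MulAut.conjNormal g : MulAut K).toMonoidHom θ
            (fun x => (congrFun (hinv g) x).symm) n).symm
        set f : K →* ℂˣ := (Clifford.detChar θ).toHomUnits ^ o with hf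
        have h1 : f = 1 := invariant_pow_eq_one hK f
          (fun g n => Units.ext (by simp [hf, hinv']))
          (MonoidHom.ext fun n => Units.ext (by
            have := (Clifford.detOrder_dvd_iff θ).1 dvd_rfl n
            rw [ho, mul_comm, pow_mul] at this
            simpa [hf] using this))
        have h2 : Cfsg.detOrder θ.1 ∣ o := (Clifford.detOrder_dvd_iff θ).2 fun n => by
          have := congrArg Units.val (DFunLike.congr_fun h1 n)
          simpa [hf] using this
        have hpos := Clifford.detOrder_pos θ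
        rw [ho] at h2 hpos
        have ho0 : 0 < o := Nat.pos_of_mul_pos_left hpos
        exact absurd (Nat.le_of_dvd ho0 h2) (by nlinarith [hp.two_le])
      obtain ⟨χ, ⟨hχN, -⟩, -⟩ := Clifford.existsUnique_extension_of_coprime θ hinv
        (Clifford.detOrder_pos θ).ne' (fun n => (Clifford.detOrder_dvd_iff θ).1 dvd_rfl n)
        (Nat.Coprime.mul_right (hco _ hθp) (hco _ ho))
      have hχd := Clifford.degree_eq_of_extension θ χ hχN
      have hχB : χ ∈ Cfsg.principalBlock M G := by
        rw [BlockCount.mem_principalBlock_iff hM]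
        rw [hB, BlockCount.mem_principalBlock_iff hM,
          show (θ : K → ℂ) = fun n : K => χ.1 n from (funext hχN).symm,
          BlockCount.pregSum_subgroup] at hθB
        refine fun h3 => hθB (Eq.trans (Finset.sum_congr rfl fun g hg => ?_) h3)
        have hgK : g ∈ K := Transfer.mem_residual_of_coprime
          ((hp.coprime_iff_not_dvd.2 (Finset.mem_filter.1 hg).2).symm)
        show (if g ∈ K then (1 : ℂ) else 0) * χ.1 g = χ.1 g
        rw [if_pos hgK, one_mul]
      rw [← hχd]
      exact hlin χ hχB (by rwa [hχd])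
    have hsplit : p ∣ ∑ θ ∈ R.filter (fun θ => θ ∈ B ∧ ¬ p ∣ Char.degree θ), F θ := by
      rw [← Finset.sum_filter_add_sum_filter_not R (fun θ => θ ∈ B ∧ ¬ p ∣ Char.degree θ)] at hdvd
      refine (Nat.dvd_add_left (Finset.dvd_sum fun θ hθ => ?_)).1 hdvd
      have h3 := (Finset.mem_filter.1 hθ).2
      by_cases hb : θ ∈ B
      · simp only [F, if_pos hb]
        exact Dvd.dvd.pow (not_not.1 fun h => h3 ⟨hb, h⟩) two_ne_zero
      · simp only [F, if_neg hb]
        exact dvd_zero p
    rw [Finset.sum_congr rfl fun θ hθ => show F θ = 1 by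
      obtain ⟨hθR, hθB, hθp⟩ := Finset.mem_filter.1 hθ
      simp only [F, if_pos hθB, hlinear θ hθR hθB hθp, one_pow], Finset.sum_const, smul_eq_mul,
      mul_one] at hsplit
    refine hΛ ?_
    rw [Nat.card_eq_fintype_card, ← Finset.card_univ]
    refine (Finset.card_bij (fun (f : Λ) _ => linIrr ((Units.coeHom ℂ).comp (f : K →* ℂˣ)))
      (fun f _ => ?_) (fun u _ v _ huv => ?_) (fun θ hθ => ?_)) ▸ hsplit
    · have h1 : Char.degree (linIrr ((Units.coeHom ℂ).comp (f : K →* ℂˣ))) = 1 := by
        have h2 := Char.apply_one_eq_degree (linIrr ((Units.coeHom ℂ).comp (f : K →* ℂˣ)))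
        rw [Char.linIrr_apply, map_one] at h2
        exact_mod_cast h2.symm
      refine Finset.mem_filter.2 ⟨Finset.mem_filter.2 ⟨Finset.mem_univ _, fun x => Subtype.ext ?_⟩,
        f.2.1, by rw [h1]; exact hp.not_dvd_one⟩
      funext n
      exact congrArg Units.val (f.2.2 _ n)
    · exact Subtype.ext (MonoidHom.ext fun x => Units.ext (congrFun (congrArg Subtype.val huv) x))
    · obtain ⟨hθR, hθB, hθp⟩ := Finset.mem_filter.1 hθ
      obtain ⟨f, hf⟩ := Char.IsCharacter.exists_monoidHom (Char.irr_isCharacter θ)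
        (by rw [Char.apply_one_eq_degree, hlinear θ hθR hθB hθp, Nat.cast_one])
      have he : linIrr ((Units.coeHom ℂ).comp f.toHomUnits) = θ :=
        Subtype.ext (funext fun x => congrFun hf x)
      refine ⟨⟨f.toHomUnits, by rw [he]; exact hθB, fun g n => Units.ext ?_⟩, Finset.mem_univ _, he⟩
      show f (MulAut.conjNormal g n) = f n
      rw [hf]
      exact congrFun (hfix θ (Finset.mem_filter.1 hθR).2 g) n
  · intro h
    have hK : ¬ p ∣ Nat.card (Cfsg.pResidual p G) :=
      (Transfer.hasNormalPComplement_iff).1 h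
    refine ⟨1, fun χ hχ h0 => ?_⟩
    rw [Char.charDegree_eq_degree]
    haveI := Fintype.ofFinite (Cfsg.pResidual p G)
    exact degree_eq_one_of_ker hp ha χ (Blocks.apply_eq_of_sameBlock hM.2.2 (Cfsg.pResidual p G) hK
      (χ := Char.trivialChar G) hχ (fun _ _ => rfl)) ((hheight χ).1 h0)

end Cfsg.Agent.S4888
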