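import Cfsg.Statements.S4889
import Cfsg.Agent.Lib.BrauerChar.AbelianEqualDegrees
import Cfsg.Agent.Lib.Blocks.NilpotentRank.Bijection
import Cfsg.Agent.S4687

set_option autoImplicit false
open Cfsg

namespace Cfsg.Agent.S4889

open Cfsg.Agent.Blocks in
/-- Let G be a finite group, p a prime, M a maximal ideal of the algebraic integers containing p, and B a p-block of G that has an abelian defect group and in which every irreducible character has height zero. Then all irreducible characters of B have the same degree if and only if B is a nilpotent block. -/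
theorem result {G : Type*} [Group G] [Finite G] (p : ℕ) [Fact p.Prime] (M : Ideal Cfsg.AlgInt) (hM : Cfsg.IsPModular p M) (B : Set (Cfsg.IrrCharacter G)) (hB : Cfsg.IsPBlock M B) (D : Subgroup G) (hD : Cfsg.IsDefectGroup p M B D) (hDab : IsMulCommutative ↥D) (h0 : ∀ χ : Cfsg.IrrCharacter G, χ ∈ B → Cfsg.blockHeight p B (χ : G → ℂ) = 0) : (∃ d : ℕ, ∀ χ : Cfsg.IrrCharacter G, χ ∈ B → Cfsg.charDegree (χ : G → ℂ) = d) ↔ Cfsg.IsNilpotentBlock p M B := by
  classical
  letI := Fintype.ofFinite G
  haveI : M.IsMaximal := hM.2.1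
  haveI : CharP (AlgInt ⧸ M) p := charP_residue hM.2.2
  have hab : ∀ x ∈ D, ∀ y ∈ D, x * y = y * x := fun x hx y hy =>
    congrArg Subtype.val (hDab.is_comm.comm (⟨x, hx⟩ : D) ⟨y, hy⟩)
  constructor
  · rintro ⟨f, hf⟩
    have hcomm : D ≤ Subgroup.centralizer (D : Set G) := fun x hx =>
      Subgroup.mem_centralizer_iff.2 fun y hy => hab y hy x hx
    obtain ⟨e, hmax, htriv⟩ := BrauerChar.exists_trivial_inertia_of_equal_degrees hM hB hD hcomm h0
      (f := f) fun χ hχ => charDegree_eq χ ▸ hf χ hχ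
    obtain ⟨b, hb, hbe⟩ := BrauerPairs.exists_eq_blk (Subgroup.centralizer (D : Set G)) hmax.1.1.2
    refine (S4687.result p M hM B D b
      ((BrauerPairs.isMaximalBrauerPair_iff hB).2 ⟨hb, by rw [hbe]; exact hmax⟩) hab).2
      fun x hxN hst => htriv x ⟨hxN, ?_⟩
    show BrauerPairs.conjEl x e = e
    replace hbe : BrauerPairs.blk M (Subgroup.centralizer (D : Set G)) b = e := hbe
    rw [← hbe]
    exact (BrauerPairs.stabilizesBlock_iff hb
      (BrauerPairs.normalizer_le_normalizer_centralizer D hxN)).1 hst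
  · intro hnil
    obtain ⟨ν, d, href⟩ := FreeInertia.exists_ref hM hnil
    obtain ⟨Φ, -⟩ := NilRank.exists_height_preserving_equiv hM hnil hD
    have hcard : Nat.card B = p ^ blockDefect p B := by
      rw [Nat.card_congr Φ, Char.card_irr, ← card_defectGroup hM.2.2 hB hD]
      refine (Nat.card_congr (Equiv.ofBijective ConjClasses.mk ⟨fun a b h => ?_,
        ConjClasses.mk_surjective⟩)).symm
      obtain ⟨c, hc⟩ := isConj_iff.1 (ConjClasses.mk_eq_mk_iff_isConj.1 h)
      rwa [hDab.is_comm.comm c a, mul_inv_cancel_right] at hc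
    have hpos : ∀ η ∈ B, 1 ≤ d η := fun η hη => Nat.one_le_iff_ne_zero.2 fun h => by
      have h' := href.reg η hη 1 FreeInertia.isPRegular_one
      rw [h, Nat.cast_zero, zero_mul] at h'
      exact irr_one_ne_zero η h'
    have hone : ∀ η ∈ B, d η = 1 := by
      intro η hη
      have hle : ∀ x ∈ Finset.univ.filter (· ∈ B), 1 ≤ d x ^ 2 := fun x hx =>
        Nat.one_le_pow _ _ (hpos x (Finset.mem_filter.1 hx).2)
      have heq : ∑ _x ∈ Finset.univ.filter (· ∈ B), 1 =
          ∑ x ∈ Finset.univ.filter (· ∈ B), d x ^ 2 := by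
        rw [href.sum_sq, ← hcard, Finset.sum_const, smul_eq_mul, mul_one, Nat.card_eq_fintype_card,
          Fintype.card_subtype]
      have h := (Finset.sum_eq_sum_iff_of_le hle).1 heq η (by simpa using hη)
      nlinarith [hpos η hη]
    obtain ⟨ν₀, -, rfl⟩ := href.mem
    refine ⟨Char.degree ν₀, fun χ hχ => ?_⟩
    rw [charDegree_eq]
    have h := href.reg χ hχ 1 FreeInertia.isPRegular_one
    rw [hone χ hχ, Nat.cast_one, one_mul, Char.apply_one_eq_degree, Char.apply_one_eq_degree] at h
    exact_mod_cast h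

end Cfsg.Agent.S4889
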