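import Cfsg.Statements.S4911
import Cfsg.Agent.Lib.Glauberman.PGroup
import Cfsg.Agent.Lib.Glauberman.Operators
import Cfsg.Agent.S0160

set_option linter.style.haveILetI false

set_option autoImplicit false
open Cfsg
open Cfsg.Agent.Glauberman

namespace Cfsg.Agent.S4911

section

open Cfsg.Agent.Glauberman
open Cfsg.Agent.Char (conjIrr conjIrr_apply conjIrr_eq_self_iff)

variable {p : ℕ} [Fact p.Prime] {T G C : Type*} [Group T] [Finite T] [Group G] [Fintype G]
  [Group C] [Fintype C] {φ : T →* MulAut G} {ι : C →* G}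

theorem mult_conjIrr (χ : Cfsg.IrrCharacter G) (β : Cfsg.IrrCharacter C) :
    mult ι (conjIrr χ) (conjIrr β) = mult ι χ β := by
  apply Nat.cast_injective (R := ℂ)
  rw [← mult_eq, ← Complex.conj_natCast (mult ι χ β), ← mult_eq]
  simp [Cfsg.classInner, map_sum]

theorem corr_conjIrr {χ : Cfsg.IrrCharacter G} {β : Cfsg.IrrCharacter C}
    (h : Corr p φ ι χ β) : Corr p φ ι (conjIrr χ) (conjIrr β) :=
  ⟨fun t g => by simp [h.1 t g], by rw [mult_conjIrr]; exact h.2⟩

variable (hT : IsPGroup p T) (hι : IsFixedEmbedding φ ι) (hG : ¬ p ∣ Nat.card G)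
include hT hι hG

theorem card_fixed_real :
    Nat.card {χ : Cfsg.IrrCharacter G // IsFix φ χ.1 ∧ ∀ g, (χ.1 g).im = 0} =
      Nat.card {β : Cfsg.IrrCharacter C // ∀ c, (β.1 c).im = 0} := by
  refine (Nat.card_congr (Equiv.subtypeSubtypeEquivSubtypeInter (fun χ : Cfsg.IrrCharacter G => IsFix φ χ.1)
    fun χ => ∀ g, (χ.1 g).im = 0).symm).trans (Nat.card_congr ((corrEquiv hT hι hG).subtypeEquiv ?_))
  intro χ
  have h := corr_corrEquiv hT hι hG χ
  rw [← conjIrr_eq_self_iff, ← conjIrr_eq_self_iff]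
  constructor
  · intro hr
    have h' := corr_conjIrr h
    rw [hr] at h'
    exact corr_right_unique hT hι hG h' h
  · intro hr
    have h' := corr_conjIrr h
    rw [hr] at h'
    exact corr_left_unique hT hι hG h' h

theorem exists_fixed_in_class (k : G) (hfix : ∀ t, IsConj k (φ t k)) : ∃ c, IsConj k (ι c) := by
  letI : MulAction T G := MulAction.compHom G φ
  let X : SubMulAction T G :=
    { carrier := {x | IsConj k x}
      smul_mem' := fun t x (hx : IsConj k x) => (hfix t).trans ((φ t).toMonoidHom.map_isConj hx) }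
  have hX : ¬ p ∣ Nat.card X := by
    intro hd
    refine hG (hd.trans ⟨Nat.card (Subgroup.centralizer ({k} : Set G)), ?_⟩)
    rw [mul_comm]
    exact (Cfsg.Agent.Char.card_centralizer_mul_card_conj k).symm
  obtain ⟨⟨x, hx⟩, hxf⟩ := hT.nonempty_fixed_point_of_prime_not_dvd_card X hX
  obtain ⟨c, rfl⟩ := (hι.mem_range x).2 fun t => congrArg Subtype.val (hxf t)
  exact ⟨c, hx⟩

theorem card_fixed_real_classes :
    Nat.card {d : ConjClasses G // ∀ k, ConjClasses.mk k = d → IsConj k k⁻¹ ∧ ∀ t, IsConj k (φ t k)} =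
      Nat.card {d : ConjClasses C // ∀ c, ConjClasses.mk c = d → IsConj c c⁻¹} := by
  haveI : Finite (ConjClasses C) := Finite.of_surjective _ ConjClasses.mk_surjective
  have key : ∀ d : {d : ConjClasses C // ∀ c, ConjClasses.mk c = d → IsConj c c⁻¹}, ∀ k : G,
      ConjClasses.mk k = ConjClasses.map ι d.1 → IsConj k k⁻¹ ∧ ∀ t, IsConj k (φ t k) := by
    intro d k hk
    obtain ⟨⟨c, hd⟩⟩ : Nonempty {c // ConjClasses.mk c = d.1} :=
      let ⟨c, hc⟩ := ConjClasses.mk_surjective d.1; ⟨⟨c, hc⟩⟩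
    rw [← hd] at hk
    have hkc : IsConj k (ι c) := ConjClasses.mk_eq_mk_iff_isConj.1 hk
    obtain ⟨a, ha⟩ := isConj_iff.1 hkc
    refine ⟨(hkc.trans (ι.map_isConj (d.2 c hd))).trans ?_, fun t => hkc.trans ?_⟩
    · rw [map_inv]
      exact (isConj_iff.2 ⟨a, by rw [← ha]; group⟩ : IsConj k⁻¹ (ι c)⁻¹).symm
    · have h1 := ((φ t).toMonoidHom.map_isConj hkc).symm
      simpa [hι.map_fixed] using h1
  refine (Nat.card_eq_of_bijective (fun d => (⟨ConjClasses.map ι d.1, key d⟩ :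
    {d : ConjClasses G // ∀ k, ConjClasses.mk k = d → IsConj k k⁻¹ ∧ ∀ t, IsConj k (φ t k)}))
    ⟨?_, ?_⟩).symm
  · intro d e h
    obtain ⟨c, hc⟩ := ConjClasses.mk_surjective d.1
    obtain ⟨c', hc'⟩ := ConjClasses.mk_surjective e.1
    apply Subtype.ext
    rw [← hc, ← hc', ConjClasses.mk_eq_mk_iff_isConj]
    refine exists_conj_of_isConj hT hι hG (ConjClasses.mk_eq_mk_iff_isConj.1 ?_)
    have h1 : ConjClasses.map ι d.1 = ConjClasses.map ι e.1 := congrArg Subtype.val h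
    rw [← hc, ← hc'] at h1
    exact h1
  · rintro ⟨d, hd⟩
    obtain ⟨k, rfl⟩ := ConjClasses.mk_surjective d
    obtain ⟨c, hc⟩ := exists_fixed_in_class hT hι hG k (hd k rfl).2
    refine ⟨⟨ConjClasses.mk c, fun c' hc' => ?_⟩,
      Subtype.ext (ConjClasses.mk_eq_mk_iff_isConj.2 hc.symm)⟩
    refine exists_conj_of_isConj hT hι hG ?_
    have h1 : IsConj k (ι c') :=
      hc.trans (ι.map_isConj (ConjClasses.mk_eq_mk_iff_isConj.1 hc').symm)
    obtain ⟨a, ha⟩ := isConj_iff.1 h1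
    rw [map_inv]
    exact (h1.symm.trans (hd k rfl).1).trans (isConj_iff.2 ⟨a, by rw [← ha]; group⟩)

end

/-- Let P and K be subgroups of a finite group with P a p-group normalizing K and K of order prime to p. Then the number of P-invariant real-valued irreducible complex characters of K equals the number of conjugacy classes of K that are real (closed under inversion) and P-invariant. Moreover, if every real-valued irreducible character of K is P-invariant, then every real element of K (one conjugate in K to its inverse) is conjugate in K to an element centralized by P. -/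
theorem result {G : Type*} [Group G] [Finite G] (p : ℕ) [Fact p.Prime] (P K : Subgroup G) (hP : IsPGroup p ↥P) (hK : ¬ p ∣ Nat.card ↥K) (hPK : P ≤ Subgroup.normalizer (K : Set G)) : Nat.card {θ : Cfsg.IrrCharacter ↥K // (∀ k : ↥K, ((θ : ↥K → ℂ) k).im = 0) ∧ (∀ x ∈ P, ∀ k k' : ↥K, (k' : G) = x * (k : G) * x⁻¹ → (θ : ↥K → ℂ) k' = (θ : ↥K → ℂ) k)} = Nat.card {c : ConjClasses ↥K // (∀ k : ↥K, ConjClasses.mk k = c → IsConj k k⁻¹) ∧ ∀ k : ↥K, ConjClasses.mk k = c → ∀ x ∈ P, ∀ k' : ↥K, (k' : G) = x * (k : G) * x⁻¹ → ConjClasses.mk k' = c} ∧ ((∀ θ : Cfsg.IrrCharacter ↥K, (∀ k : ↥K, ((θ : ↥K → ℂ) k).im = 0) → (∀ x ∈ P, ∀ k k' : ↥K, (k' : G) = x * (k : G) * x⁻¹ → (θ : ↥K → ℂ) k' = (θ : ↥K → ℂ) k)) → ∀ k : ↥K, IsConj k k⁻¹ → ∃ k' : ↥K, IsConj k k' ∧ ∀ x ∈ P, x * (k' : G) * x⁻¹ = (k' : G)) := by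
  haveI := Fintype.ofFinite G
  haveI := Fintype.ofFinite K
  have hnorm : ∀ s ∈ P, ∀ g ∈ K, s * g * s⁻¹ ∈ K := fun s hs g hg =>
    (Subgroup.mem_normalizer_iff.1 (hPK hs) g).1 hg
  set φ := conjOn hnorm with hφ
  set C : Subgroup K := (Subgroup.centralizer (P : Set G)).subgroupOf K with hC
  haveI := Fintype.ofFinite C
  have hι : IsFixedEmbedding φ C.subtype :=
    ⟨Subtype.val_injective, fun g => by
      constructor
      · rintro ⟨c, rfl⟩ t
        have h := Subgroup.mem_centralizer_iff.1 (Subgroup.mem_subgroupOf.1 c.2) t t.2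
        exact Subtype.ext (by rw [coe_conjOn, Subgroup.coe_subtype, h, mul_inv_cancel_right])
      · intro h
        refine ⟨⟨g, Subgroup.mem_subgroupOf.2 (Subgroup.mem_centralizer_iff.2 fun t ht => ?_)⟩, rfl⟩
        have := congrArg Subtype.val (h ⟨t, ht⟩)
        rw [coe_conjOn] at this
        exact mul_inv_eq_iff_eq_mul.1 this⟩
  have hfix := fun θ : Cfsg.IrrCharacter K => isFix_conjOn_iff hnorm θ.1
  have hcls : ∀ (k : K), (∀ t : P, IsConj k (φ t k)) ↔
      ∀ x ∈ P, ∀ k' : K, (k' : G) = x * (k : G) * x⁻¹ → ConjClasses.mk k' = ConjClasses.mk k := by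
    intro k
    constructor
    · intro h x hx k' hk'
      rw [show k' = φ ⟨x, hx⟩ k from Subtype.ext hk', ConjClasses.mk_eq_mk_iff_isConj]
      exact (h ⟨x, hx⟩).symm
    · intro h t
      exact (ConjClasses.mk_eq_mk_iff_isConj.1 (h t t.2 _ rfl)).symm
  have hchar := card_fixed_real (p := p) hP hι hK
  have hclass := card_fixed_real_classes (p := p) hP hι hK
  have hC160 := Cfsg.Agent.S0160.result (G := C)
  have e1 : Nat.card {θ : Cfsg.IrrCharacter ↥K // (∀ k : ↥K, ((θ : ↥K → ℂ) k).im = 0) ∧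
      (∀ x ∈ P, ∀ k k' : ↥K, (k' : G) = x * (k : G) * x⁻¹ → (θ : ↥K → ℂ) k' = (θ : ↥K → ℂ) k)} =
      Nat.card {χ : Cfsg.IrrCharacter K // IsFix φ χ.1 ∧ ∀ g, (χ.1 g).im = 0} :=
    Nat.card_congr (Equiv.subtypeEquivRight fun θ => by rw [hfix, and_comm])
  have e2 : Nat.card {c : ConjClasses ↥K // (∀ k : ↥K, ConjClasses.mk k = c → IsConj k k⁻¹) ∧
      ∀ k : ↥K, ConjClasses.mk k = c → ∀ x ∈ P, ∀ k' : ↥K, (k' : G) = x * (k : G) * x⁻¹ →
        ConjClasses.mk k' = c} =
      Nat.card {d : ConjClasses K // ∀ k, ConjClasses.mk k = d →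
        IsConj k k⁻¹ ∧ ∀ t, IsConj k (φ t k)} :=
    Nat.card_congr (Equiv.subtypeEquivRight fun c => by
      constructor
      · exact fun h k hk => ⟨h.1 k hk, (hcls k).2 fun x hx k' hk' => (h.2 k hk x hx k' hk').trans hk.symm⟩
      · exact fun h => ⟨fun k hk => (h k hk).1,
          fun k hk x hx k' hk' => ((hcls k).1 (h k hk).2 x hx k' hk').trans hk⟩)
  have main : Nat.card {χ : Cfsg.IrrCharacter K // IsFix φ χ.1 ∧ ∀ g, (χ.1 g).im = 0} =
      Nat.card {d : ConjClasses K // ∀ k, ConjClasses.mk k = d →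
        IsConj k k⁻¹ ∧ ∀ t, IsConj k (φ t k)} := hchar.trans (hC160.trans hclass.symm)
  refine ⟨e1.trans (main.trans e2.symm), fun hall k hk => ?_⟩
  -- every real class is fixed
  haveI : Finite (ConjClasses K) := Finite.of_surjective _ ConjClasses.mk_surjective
  have hK160 := Cfsg.Agent.S0160.result (G := K)
  have heq : Nat.card {χ : Cfsg.IrrCharacter K // ∀ g, (χ.1 g).im = 0} =
      Nat.card {χ : Cfsg.IrrCharacter K // IsFix φ χ.1 ∧ ∀ g, (χ.1 g).im = 0} :=
    Nat.card_congr (Equiv.subtypeEquivRight fun θ => ⟨fun h => ⟨(hfix θ).2 (hall θ h), h⟩, And.right⟩)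
  rw [hK160, main] at heq
  let f : {d : ConjClasses K // ∀ k, ConjClasses.mk k = d → IsConj k k⁻¹ ∧ ∀ t, IsConj k (φ t k)} →
      {d : ConjClasses K // ∀ k, ConjClasses.mk k = d → IsConj k k⁻¹} :=
    fun d => ⟨d.1, fun k hk => (d.2 k hk).1⟩
  have hf : Function.Injective f := fun a b h =>
    Subtype.ext (congrArg (fun x => x.1) h)
  haveI := Fintype.ofFinite {d : ConjClasses K // ∀ k, ConjClasses.mk k = d →
    IsConj k k⁻¹ ∧ ∀ t, IsConj k (φ t k)}
  haveI := Fintype.ofFinite {d : ConjClasses K // ∀ k, ConjClasses.mk k = d → IsConj k k⁻¹}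
  have hsurj : Function.Surjective f :=
    ((Fintype.bijective_iff_injective_and_card f).2 ⟨hf, by
      rw [← Nat.card_eq_fintype_card, ← Nat.card_eq_fintype_card, heq]⟩).2
  obtain ⟨d, hd⟩ := hsurj ⟨ConjClasses.mk k, fun k' hk' => by
    have h1 := ConjClasses.mk_eq_mk_iff_isConj.1 hk'
    obtain ⟨a, ha⟩ := isConj_iff.1 h1
    exact (h1.trans hk).trans (isConj_iff.2 ⟨a, by rw [← ha]; group⟩ : IsConj k'⁻¹ k⁻¹).symm⟩
  have hd' : ConjClasses.mk k = d.1 := (congrArg (fun x => x.1) hd).symm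
  obtain ⟨c, hc⟩ := exists_fixed_in_class hP hι hK k (d.2 k hd').2
  refine ⟨C.subtype c, hc, fun x hx => ?_⟩
  have := congrArg Subtype.val (hι.map_fixed c ⟨x, hx⟩)
  rwa [coe_conjOn] at this

end Cfsg.Agent.S4911
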