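import Cfsg.Statements.S4912
import Cfsg.Agent.Lib.Char.LinearTwist
import Cfsg.Agent.Lib.Char.IndIndicator

set_option linter.style.haveILetI false

set_option autoImplicit false
open Cfsg

namespace Cfsg.Agent.S4912

/-- Let G be a finite group with a non-abelian minimal normal subgroup N, and let φ be an irreducible complex character of N with stabilizer I in G such that φ extends to an irreducible character of I with Frobenius–Schur indicator +1. Put d = φ(1)·[G : I]. Then the number of linear characters of G with Frobenius–Schur indicator +1 is at most [G : I] times the number of irreducible characters of G of degree d with Frobenius–Schur indicator +1. -/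
theorem result {G : Type*} [Group G] [Finite G] (N : Subgroup G) (hN : N.Normal) (hN1 : N ≠ ⊥) (hmin : ∀ M : Subgroup G, M.Normal → M ≤ N → M = ⊥ ∨ M = N) (hna : ¬ IsMulCommutative ↥N) (φ : Cfsg.IrrCharacter ↥N) (I : Subgroup G) (hI : ∀ g : G, g ∈ I ↔ ∀ n n' : ↥N, (n' : G) = g * (n : G) * g⁻¹ → (φ : ↥N → ℂ) n' = (φ : ↥N → ℂ) n) (hNI : N ≤ I) (hext : ∃ ψ : Cfsg.IrrCharacter ↥I, (Nat.card ↥I : ℂ)⁻¹ * ∑ᶠ g : ↥I, (ψ : ↥I → ℂ) (g * g) = 1 ∧ ∀ n : ↥N, (ψ : ↥I → ℂ) (Subgroup.inclusion hNI n) = (φ : ↥N → ℂ) n) : Nat.card {χ : Cfsg.IrrCharacter G // Cfsg.charDegree (χ : G → ℂ) = 1 ∧ (Nat.card G : ℂ)⁻¹ * ∑ᶠ g : G, (χ : G → ℂ) (g * g) = 1} ≤ I.index * Nat.card {χ : Cfsg.IrrCharacter G // Cfsg.charDegree (χ : G → ℂ) = Cfsg.charDegree (φ : ↥N → ℂ) * I.index ∧ (Nat.card G : ℂ)⁻¹ * ∑ᶠ g : G, (χ : G → ℂ) (g * g) = 1} := by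
  haveI := Fintype.ofFinite G
  haveI := Fintype.ofFinite N
  haveI := Fintype.ofFinite I
  haveI := hN
  have hperf := Cfsg.Agent.Char.commutator_map_eq_of_minimal N hmin hna
  have hI' : ∀ g, Cfsg.Agent.Char.conjFun N φ.1 g = φ.1 → g ∈ I := fun g hg =>
    (hI g).2 ((Cfsg.Agent.Char.conjFun_eq_self_iff N φ.1 g).1 hg)
  obtain ⟨ψ, hν, hψ⟩ := hext
  have hν' : Cfsg.Agent.Char.fsIndicator ψ.1 = 1 := hν
  have hψr := Cfsg.Agent.Char.real_of_fsIndicator_eq_one ψ hν'
  have hφr : ∀ n, (φ.1 n).im = 0 := fun n => by rw [← hψ n]; exact hψr _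
  refine le_trans (le_of_eq ?_)
    (Cfsg.Agent.Char.card_linear_le hNI hψ hperf hI' {lam : G →* ℂ | ∀ g, lam (g * g) = 1} _
      fun lam hlam => ?_)
  · refine (Nat.card_congr (Equiv.ofBijective (fun lam : {lam : G →* ℂ | ∀ g, lam (g * g) = 1} =>
      (⟨Cfsg.Agent.Char.linIrr lam.1, ?_, ?_⟩ : {χ : Cfsg.IrrCharacter G //
        Cfsg.charDegree (χ : G → ℂ) = 1 ∧
          (Nat.card G : ℂ)⁻¹ * ∑ᶠ g : G, (χ : G → ℂ) (g * g) = 1})) ⟨?_, ?_⟩)).symm
    · apply Nat.cast_injective (R := ℂ)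
      rw [Cfsg.Agent.Char.charDegree_cast, Nat.cast_one]
      exact map_one lam.1
    · rw [finsum_eq_sum_of_fintype, Finset.sum_congr rfl fun g _ =>
          (show (Cfsg.Agent.Char.linIrr lam.1).1 (g * g) = 1 from lam.2 g), Finset.sum_const,
        Finset.card_univ, nsmul_eq_mul, mul_one, ← Nat.card_eq_fintype_card,
        inv_mul_cancel₀ Cfsg.Agent.Char.card_ne_zero]
    · exact fun a b h => Subtype.ext (Cfsg.Agent.Char.linIrr_injective (congrArg (fun x => x.1) h))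
    · rintro ⟨χ, h1, h2⟩
      obtain ⟨lam, hlam⟩ := Cfsg.Agent.Char.IsCharacter.exists_monoidHom
        (Cfsg.Agent.Char.irr_isCharacter χ) (by
          rw [← Cfsg.Agent.Char.charDegree_cast, h1, Nat.cast_one])
      refine ⟨⟨lam, Cfsg.Agent.Char.sq_eq_one_of_real_linear lam ?_⟩, Subtype.ext (Subtype.ext hlam)⟩
      intro g
      rw [hlam]
      exact Cfsg.Agent.Char.real_of_fsIndicator_eq_one χ h2 g
  · refine ⟨?_, ?_⟩
    · apply Nat.cast_injective (R := ℂ)
      rw [Nat.cast_mul, Cfsg.Agent.Char.charDegree_cast, Cfsg.Agent.Char.charDegree_cast,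
        Cfsg.Agent.Char.twistInd_apply_one, mul_comm]
    · show Cfsg.Agent.Char.fsIndicator
        (indFun I (⇑(lam.comp I.subtype) * ψ.1)) = 1
      rw [Cfsg.Agent.Char.fsIndicator_indFun_inertia N hNI φ
        (ψ := ⟨_, Cfsg.Agent.Char.IsIrrCharacter.mul_linear ψ.2 (lam.comp I.subtype)⟩) ?_ hφr hI',
        ← hν', Cfsg.Agent.Char.fsIndicator_eq_sum, Cfsg.Agent.Char.fsIndicator_eq_sum]
      · refine congrArg _ (Finset.sum_congr rfl fun g _ => ?_)
        show lam ((g * g : I) : G) * ψ.1 (g * g) = ψ.1 (g * g)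
        rw [Subgroup.coe_mul, hlam, one_mul]
      · intro n
        show lam (n : G) * ψ.1 (Subgroup.inclusion hNI n) = φ.1 n
        rw [Cfsg.Agent.Char.linear_eq_one_of_perfect N hperf lam n.2, one_mul, hψ]

end Cfsg.Agent.S4912
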