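import Cfsg.Statements.S4916
import Cfsg.Agent.Lib.Char.HeightZeroInduced
-- import your own Cfsg.Agent.* helpers here

set_option autoImplicit false
open Cfsg

namespace Cfsg.Agent.S4916

/-- Let G be a finite group, p a prime and M a maximal ideal of the algebraic integers containing p. Then the principal character is the only irreducible character of degree prime to p in the principal p-block of G if and only if p does not divide the order of G. -/
theorem result {G : Type*} [Group G] [Finite G] (p : ℕ) [Fact p.Prime] (M : Ideal Cfsg.AlgInt) (hM : Cfsg.IsPModular p M) : (∀ χ : Cfsg.IrrCharacter G, χ ∈ Cfsg.principalBlock M G → ¬ p ∣ Cfsg.charDegree (χ : G → ℂ) → (χ : G → ℂ) = fun _ => (1 : ℂ)) ↔ ¬ p ∣ Nat.card G := by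
  classical
  haveI := Fintype.ofFinite G
  haveI := hM.2.1
  have hp : p.Prime := Fact.out
  have hpB : Cfsg.IsPBlock M (Cfsg.principalBlock M G) := ⟨Cfsg.Agent.Char.trivialChar G, rfl⟩
  have h1 : Cfsg.Agent.Char.trivialChar G ∈ Cfsg.principalBlock M G := fun g => by
    rw [show Cfsg.centralChar (fun _ : G => (1 : ℂ)) g =
      Cfsg.centralChar (Cfsg.Agent.Char.trivialChar G : G → ℂ) g from rfl, sub_self]
    exact Cfsg.Agent.Blocks.memLocalIdeal_zero
  have hdeg1 : Cfsg.Agent.Char.degree (Cfsg.Agent.Char.trivialChar G) = 1 := by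
    have h := Cfsg.Agent.Char.apply_one_eq_degree (Cfsg.Agent.Char.trivialChar G)
    exact_mod_cast (h.symm.trans (Cfsg.Agent.Char.trivialChar_apply (G := G) 1))
  constructor
  · intro hall hdvd
    have hS := Cfsg.Agent.Char.factorization_sum_degree_sq hM.2.2 hp hpB
    have h0 : sInf ((fun χ : Cfsg.IrrCharacter G =>
        (Cfsg.charDegree (χ : G → ℂ)).factorization p) '' Cfsg.principalBlock M G) = 0 :=
      Nat.eq_zero_of_le_zero ((Cfsg.Agent.Char.sInf_le_factorization_degree h1).trans
        (by rw [hdeg1]; simp))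
    rw [Cfsg.blockDefect, h0, Nat.sub_zero] at hS
    have ha : 0 < (Nat.card G).factorization p :=
      hp.factorization_pos_of_dvd Nat.card_pos.ne' hdvd
    set S := ∑ χ ∈ Finset.univ.filter (· ∈ Cfsg.principalBlock M G),
      Cfsg.Agent.Char.degree χ ^ 2 with hSdef
    have hpS : p ∣ S := Nat.dvd_of_factorization_pos (by omega)
    rw [hSdef, ← Finset.add_sum_erase _ _ (Finset.mem_filter.2 ⟨Finset.mem_univ _, h1⟩), hdeg1,
      one_pow] at hpS
    refine hp.not_dvd_one ((Nat.dvd_add_left (Finset.dvd_sum fun χ hχ => ?_)).1 hpS)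
    obtain ⟨hne, hχB⟩ := Finset.mem_erase.1 hχ
    refine Dvd.dvd.pow ?_ two_ne_zero
    by_contra hnd
    exact hne (Subtype.ext (hall χ (Finset.mem_filter.1 hχB).2
      (by rwa [Cfsg.Agent.Blocks.charDegree_eq])))
  · intro hnd χ hχ _
    have hsing : Cfsg.blockOf M (Cfsg.Agent.Char.trivialChar G : G → ℂ) =
        {Cfsg.Agent.Char.trivialChar G} :=
      (Cfsg.Agent.Blocks.blockOf_eq_singleton_iff hM.2.2 _).2 (by
        rw [hdeg1, Nat.factorization_one, Nat.factorization_eq_zero_of_not_dvd hnd]; rfl)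
    have h : χ ∈ Cfsg.blockOf M (Cfsg.Agent.Char.trivialChar G : G → ℂ) := hχ
    rw [hsing] at h
    rw [Set.mem_singleton_iff.1 h]
    rfl

end Cfsg.Agent.S4916
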