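import Cfsg.Statements.S4923
import Cfsg.Agent.Lib.PGroup.MaximalClass
import Cfsg.Agent.Lib.TwoGroupValues.Field
import Mathlib

set_option autoImplicit false
open Cfsg

namespace Cfsg.Agent.S4923

section Helpers

open Cfsg.Agent.TwoGroupValues
open scoped commutatorElement

variable {G : Type*} [Group G] [Finite G] (P : Sylow 2 G)

/-- An element of index 2 in `P`, and the covering of `P`. -/
theorem cover {m : ℕ} (hP : Nat.card P = 2 ^ (m + 1)) {g b : G} (hgP : g ∈ (P : Subgroup G))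
    (hbP : b ∈ (P : Subgroup G)) (hg : orderOf g = 2 ^ m) (hb : b ∉ Subgroup.zpowers g) :
    b * g * b⁻¹ ∈ Subgroup.zpowers g ∧
      ∀ x ∈ (P : Subgroup G), ∃ i : ℤ, x = g ^ i ∨ x = b * g ^ i := by
  set C : Subgroup ↥(P : Subgroup G) := Subgroup.zpowers ⟨g, hgP⟩ with hC
  have hCi : C.index = 2 := by
    have h := Subgroup.card_mul_index C
    rw [hC, Nat.card_zpowers, Subgroup.orderOf_mk, hg, hP, pow_succ] at h
    exact Nat.eq_of_mul_eq_mul_left (by positivity) h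
  haveI := Subgroup.normal_of_index_eq_two hCi
  have hmemC : ∀ {y : ↥(P : Subgroup G)}, y ∈ C → (y : G) ∈ Subgroup.zpowers g := by
    intro y hy
    obtain ⟨i, rfl⟩ := hy
    exact ⟨i, by simp⟩
  have hbC : (⟨b, hbP⟩ : ↥(P : Subgroup G)) ∉ C := fun h => hb (hmemC h)
  refine ⟨hmemC (Subgroup.Normal.conj_mem ‹C.Normal› _ (Subgroup.mem_zpowers _) ⟨b, hbP⟩),
    fun x hx => ?_⟩
  by_cases hxC : (⟨x, hx⟩ : ↥(P : Subgroup G)) ∈ C
  · obtain ⟨i, hi⟩ := hmemC hxC
    exact ⟨i, Or.inl hi.symm⟩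
  · have h := (Subgroup.mul_mem_iff_of_index_two hCi
      (a := (⟨b, hbP⟩ : ↥(P : Subgroup G))⁻¹) (b := ⟨x, hx⟩)).2
        (iff_of_false (fun h => hbC (inv_mem_iff.1 h)) hxC)
    obtain ⟨i, hi⟩ := hmemC h
    refine ⟨i, Or.inr ?_⟩
    simp only at hi
    rw [hi]
    simp

/-- A conjugate of `g` which is a power of `g` is already one under `P`. -/
theorem pow_conj_cases {g : G} {m : ℕ} (hg : orderOf g = 2 ^ m) {b : G}
    (hnorm : b * g * b⁻¹ ∈ Subgroup.zpowers g)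
    (hcover : ∀ x ∈ (P : Subgroup G), ∃ i : ℤ, x = g ^ i ∨ x = b * g ^ i)
    {x : G} (hx : x * g * x⁻¹ ∈ Subgroup.zpowers g) :
    x * g * x⁻¹ = g ∨ x * g * x⁻¹ = b * g * b⁻¹ := by
  classical
  haveI : Fact (Nat.Prime 2) := ⟨Nat.prime_two⟩
  set C := Subgroup.zpowers g with hC
  set N := Subgroup.normalizer (C : Set G) with hN
  have hxN : x ∈ N := Cfsg.Agent.PGroup.mem_normalizer_of_conj_mem_zpowers hx
  have hbN : b ∈ N := Cfsg.Agent.PGroup.mem_normalizer_of_conj_mem_zpowers hnorm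
  have hgN : g ∈ N := Subgroup.le_normalizer (Subgroup.mem_zpowers g)
  have hPN : (P : Subgroup G) ≤ N := by
    intro y hy
    obtain ⟨i, rfl | rfl⟩ := hcover y hy
    · exact N.zpow_mem hgN i
    · exact N.mul_mem hbN (N.zpow_mem hgN i)
  haveI : (C.subgroupOf N).Normal := Subgroup.normal_in_normalizer
  let e : ↥(C.subgroupOf N) ≃* ↥C := Subgroup.subgroupOfEquivOfLe Subgroup.le_normalizer
  let ψ : ↥N →* MulAut ↥(C.subgroupOf N) := MulAut.conjNormal
  haveI : IsCyclic ↥(C.subgroupOf N) := isCyclic_of_surjective e.symm e.symm.surjective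
  have hcard : Nat.card (MulAut ↥(C.subgroupOf N)) ∣ 2 ^ m := by
    rw [IsCyclic.card_mulAut, Nat.card_congr e.toEquiv, hC, Nat.card_zpowers, hg]
    rcases m with _ | m
    · simp
    · rw [Nat.totient_prime_pow Nat.prime_two (by omega)]
      simp [pow_succ]
  set Q : Subgroup ↥N := (P : Subgroup G).subgroupOf N with hQ
  have hQodd : ¬ 2 ∣ Q.index := by
    intro h
    exact P.not_dvd_index (h.trans (Dvd.intro _ (Subgroup.relIndex_mul_index hPN)))
  have hrange : ψ.range ≤ Q.map ψ := by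
    have h1 : (Q.map ψ).relIndex ψ.range ∣ Q.index := by
      rw [MonoidHom.range_eq_map, Subgroup.relIndex_map_map, top_sup_eq, Subgroup.relIndex_top_right]
      exact Subgroup.index_dvd_of_le le_sup_left
    have h2 : (Q.map ψ).relIndex ψ.range ∣ 2 ^ m :=
      ((Subgroup.index_dvd_card _).trans (Subgroup.card_subgroup_dvd_card _)).trans hcard
    have h3 : (Nat.Coprime Q.index (2 ^ m)) :=
      ((Nat.prime_two.coprime_iff_not_dvd.2 hQodd).symm).pow_right m
    exact Subgroup.relIndex_eq_one.1 (Nat.eq_one_of_dvd_coprimes h3 h1 h2)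
  obtain ⟨q, hq, hqx⟩ := hrange ⟨⟨x, hxN⟩, rfl⟩
  have hval : x * g * x⁻¹ = (q : G) * g * (q : G)⁻¹ := by
    have h := congrArg (fun a : MulAut ↥(C.subgroupOf N) =>
      ((a ⟨⟨g, hgN⟩, Subgroup.mem_zpowers g⟩ : ↥N) : G)) hqx
    simpa [ψ, MulAut.conjNormal_apply] using h.symm
  obtain ⟨i, hi | hi⟩ := hcover q hq
  · left
    rw [hval, hi]
    group
  · right
    rw [hval, hi]
    group

/-- An element of order `2 ^ m` of a nonabelian Sylow 2-subgroup of order `2 ^ (m + 1)` has a class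
of even size. -/
theorem even_class {g : G} (hgP : g ∈ (P : Subgroup G)) {m : ℕ} (hg : orderOf g = 2 ^ m)
    (hP : Nat.card P = 2 ^ (m + 1))
    (hna : ¬ ∀ a ∈ (P : Subgroup G), ∀ b ∈ (P : Subgroup G), a * b = b * a) :
    2 ∣ (Subgroup.centralizer ({g} : Set G)).index := by
  classical
  haveI : Fact (Nat.Prime 2) := ⟨Nat.prime_two⟩
  by_contra hodd
  set W := Subgroup.centralizer ({g} : Set G)
  have hgW : g ∈ W := Subgroup.mem_centralizer_singleton_iff.2 rfl
  let Q : Sylow 2 ↥W := default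
  have hQcard : ¬ 2 ∣ ((Q : Subgroup ↥W).map W.subtype).index := by
    rw [Subgroup.index_map_subtype, Nat.prime_two.dvd_mul]
    rintro (h | h)
    · exact Q.not_dvd_index h
    · exact hodd h
  let R : Sylow 2 G := (Q.2.map W.subtype).toSylow hQcard
  have hgR : g ∈ (R : Subgroup G) := by
    have hcent : Subgroup.zpowers (⟨g, hgW⟩ : ↥W) ≤ Subgroup.center ↥W := by
      refine Subgroup.zpowers_le.2 (Subgroup.mem_center_iff.2 fun w => Subtype.ext ?_)
      exact Subgroup.mem_centralizer_singleton_iff.1 w.2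
    have hp : IsPGroup 2 ↥(Subgroup.zpowers (⟨g, hgW⟩ : ↥W)) :=
      IsPGroup.of_card (n := m) (by rw [Nat.card_zpowers, Subgroup.orderOf_mk, hg])
    obtain ⟨Q', hQ'⟩ := hp.exists_le_sylow
    obtain ⟨w, hw⟩ := MulAction.exists_smul_eq ↥W Q' Q
    refine ⟨⟨g, hgW⟩, ?_, rfl⟩
    rw [← hw, Sylow.coe_subgroup_smul, SetLike.mem_coe,
      Subgroup.mem_pointwise_smul_iff_inv_smul_mem]
    have hmem : (⟨g, hgW⟩ : ↥W) ∈ (Q' : Subgroup ↥W) := hQ' (Subgroup.mem_zpowers _)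
    have hc := Subgroup.mem_center_iff.1 (hcent (Subgroup.mem_zpowers (⟨g, hgW⟩ : ↥W))) w⁻¹
    have : w⁻¹ * (⟨g, hgW⟩ : ↥W) * w = ⟨g, hgW⟩ := by rw [hc, inv_mul_cancel_right]
    simpa [MulAut.smul_def, this] using hmem
  obtain ⟨x, hx⟩ := MulAction.exists_smul_eq G R P
  let g' : ↥(P : Subgroup G) := ⟨x * g * x⁻¹, by
    rw [← hx, Sylow.coe_subgroup_smul]
    exact Subgroup.smul_mem_pointwise_smul g (MulAut.conj x) _ hgR⟩
  have hord : orderOf g' = 2 ^ m := by
    rw [← Subgroup.orderOf_coe]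
    show orderOf (MulAut.conj x g) = _
    rw [MulEquiv.orderOf_eq, hg]
  have hg'c : g' ∈ Subgroup.center ↥(P : Subgroup G) := by
    refine Subgroup.mem_center_iff.2 fun y => Subtype.ext ?_
    show (y : G) * (x * g * x⁻¹) = x * g * x⁻¹ * y
    have hy : x⁻¹ * y * x ∈ (R : Subgroup G) := by
      have h : (y : G) ∈ ((x • R : Sylow 2 G) : Subgroup G) := by rw [hx]; exact y.2
      rw [Sylow.coe_subgroup_smul, Subgroup.mem_pointwise_smul_iff_inv_smul_mem] at h
      simpa [MulAut.smul_def] using h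
    have hyW : x⁻¹ * y * x ∈ W := by
      obtain ⟨w, -, hw⟩ := hy
      rw [← hw]
      exact w.2
    have hc := Subgroup.mem_centralizer_singleton_iff.1 hyW
    calc (y : G) * (x * g * x⁻¹) = x * ((x⁻¹ * y * x) * g) * x⁻¹ := by group
      _ = x * (g * (x⁻¹ * y * x)) * x⁻¹ := by rw [hc]
      _ = x * g * x⁻¹ * y := by group
  have hidx : (Subgroup.center ↥(P : Subgroup G)).index ∣ 2 := by
    have h1 : 2 ^ m ∣ Nat.card ↥(Subgroup.center ↥(P : Subgroup G)) := by
      rw [← hord]; exact Subgroup.orderOf_dvd_natCard _ hg'c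
    obtain ⟨c, hc⟩ := h1
    have h2 := Subgroup.card_mul_index (Subgroup.center ↥(P : Subgroup G))
    rw [hc, hP, pow_succ, mul_assoc] at h2
    exact Dvd.intro_left _ (Nat.eq_of_mul_eq_mul_left (by positivity) h2)
  haveI : IsCyclic (↥(P : Subgroup G) ⧸ Subgroup.center ↥(P : Subgroup G)) := by
    rcases (Nat.dvd_prime Nat.prime_two).1 hidx with h | h
    · haveI : Subsingleton (↥(P : Subgroup G) ⧸ Subgroup.center ↥(P : Subgroup G)) :=
        (Nat.card_eq_one_iff_unique.1 h).1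
      exact isCyclic_of_subsingleton
    · exact isCyclic_of_prime_card h
  exact hna fun a ha b hb => congrArg Subtype.val
    (commutative_of_cyclic_center_quotient (QuotientGroup.mk' (Subgroup.center ↥(P : Subgroup G)))
      (by rw [QuotientGroup.ker_mk']) ⟨a, ha⟩ ⟨b, hb⟩)

/-- The forward direction. -/
theorem forward {m : ℕ} (hm : 2 ≤ m) (hP : Nat.card P = 2 ^ (m + 1)) {ζ : ℂ}
    (hζ : IsPrimitiveRoot ζ (2 ^ m)) (hc : (commutator ↥(P : Subgroup G)).index = 4) :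
    ∃ g : G, g ∈ (P : Subgroup G) ∧ 2 ∣ (Subgroup.centralizer ({g} : Set G)).index ∧
      (valueField g = IntermediateField.adjoin ℚ ({ζ + ζ⁻¹} : Set ℂ) ∨
        valueField g = IntermediateField.adjoin ℚ ({ζ - ζ⁻¹} : Set ℂ)) := by
  haveI : Fact (Nat.Prime 2) := ⟨Nat.prime_two⟩
  have hζ0 : ζ ≠ 0 := hζ.ne_zero (pow_ne_zero _ two_ne_zero)
  obtain ⟨a, b, ha, hb, -, hrel⟩ :=
    Cfsg.Agent.PGroup.two_group_commutator_index_four hm hP hc
  have haG : orderOf (a : G) = 2 ^ m := by rw [Subgroup.orderOf_coe, ha]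
  have hbG : (b : G) ∉ Subgroup.zpowers (a : G) := by
    rintro ⟨i, hi⟩
    exact hb ⟨i, Subtype.ext (by simpa using hi)⟩
  obtain ⟨hnorm, hcov⟩ := cover P hP a.2 b.2 haG hbG
  have hinv : ∀ j : ℕ, ζ ^ (2 ^ j - 1) = ζ ^ (2 ^ j) * ζ⁻¹ := fun j => by
    rw [eq_mul_inv_iff_mul_eq₀ hζ0, ← pow_succ, Nat.sub_add_cancel Nat.one_le_two_pow]
  have hinvg : (b * a * b⁻¹ = a⁻¹) → (b : G) * a * (b : G)⁻¹ = (a : G) ^ (2 ^ m - 1) := by
    intro h
    have h' := congrArg Subtype.val h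
    simp only [Subgroup.coe_mul, Subgroup.coe_inv] at h'
    rw [h', inv_eq_iff_mul_eq_one, ← pow_succ', Nat.sub_add_cancel Nat.one_le_two_pow, ← haG,
      pow_orderOf_eq_one]
  obtain ⟨k₀, ε, hconj, hε, hζk⟩ : ∃ (k₀ : ℕ) (ε : ℂ),
      (b : G) * a * (b : G)⁻¹ = (a : G) ^ k₀ ∧ (ε = 1 ∨ ε = -1) ∧ ζ ^ k₀ = ε * ζ⁻¹ := by
    rcases hrel with ⟨-, h⟩ | ⟨-, h⟩ | ⟨-, -, h⟩
    · exact ⟨_, 1, hinvg h, Or.inl rfl, by rw [hinv, hζ.pow_eq_one]⟩
    · exact ⟨_, 1, hinvg h, Or.inl rfl, by rw [hinv, hζ.pow_eq_one]⟩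
    · exact ⟨2 ^ (m - 1) - 1, -1, by simpa using congrArg Subtype.val h, Or.inr rfl,
        by rw [hinv, pow_half (by omega) hζ]⟩
  have hna : ¬ ∀ x ∈ (P : Subgroup G), ∀ y ∈ (P : Subgroup G), x * y = y * x := by
    intro h
    have h0 : commutator ↥(P : Subgroup G) = ⊥ :=
      (commutator_eq_bot_iff _).2 ⟨⟨fun x y => Subtype.ext (h x x.2 y y.2)⟩⟩
    rw [h0, Subgroup.index_bot, hP] at hc
    have : 2 ^ 3 ≤ 2 ^ (m + 1) := Nat.pow_le_pow_right two_pos (by omega)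
    omega
  refine ⟨a, a.2, even_class P a.2 haG hP hna, ?_⟩
  have h := valueField_eq haG hζ hε hζk (isConj_iff.2 ⟨b, hconj⟩) fun k hk => by
    obtain ⟨x, hx⟩ := isConj_iff.1 hk
    rcases pow_conj_cases P haG hnorm hcov (x := x)
      (by rw [hx]; exact Subgroup.pow_mem _ (Subgroup.mem_zpowers _) k) with h | h
    · exact Or.inl (hx.symm.trans h)
    · exact Or.inr ((hx.symm.trans h).trans hconj)
  rcases hε with rfl | rfl
  · exact Or.inl (by rw [one_mul] at h; exact h)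
  · exact Or.inr (by rw [neg_one_mul, ← sub_eq_add_neg] at h; exact h)

/-- The converse direction. -/
theorem backward {m : ℕ} (hm : 2 ≤ m) (hP : Nat.card P = 2 ^ (m + 1)) {ζ : ℂ}
    (hζ : IsPrimitiveRoot ζ (2 ^ m)) {g : G} (hgP : g ∈ (P : Subgroup G))
    (heven : 2 ∣ (Subgroup.centralizer ({g} : Set G)).index) {ε : ℂ} (hε : ε = 1 ∨ ε = -1)
    (hfield : valueField g = IntermediateField.adjoin ℚ ({ζ + ε * ζ⁻¹} : Set ℂ)) :
    (commutator ↥(P : Subgroup G)).index = 4 := by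
  haveI : Fact (Nat.Prime 2) := ⟨Nat.prime_two⟩
  haveI : NeZero (2 ^ m) := ⟨pow_ne_zero _ two_ne_zero⟩
  have hζ0 : ζ ≠ 0 := hζ.ne_zero (NeZero.ne _)
  have hna : ¬ ∀ x ∈ (P : Subgroup G), ∀ y ∈ (P : Subgroup G), x * y = y * x := by
    intro h
    have hle : (P : Subgroup G) ≤ Subgroup.centralizer ({g} : Set G) := fun x hx =>
      Subgroup.mem_centralizer_singleton_iff.2 (h x hx g hgP)
    exact P.not_dvd_index (heven.trans (Subgroup.index_dvd_of_le hle))
  have hncyc : ¬ IsCyclic ↥(P : Subgroup G) := by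
    intro hc
    exact hna fun x hx y hy => congrArg Subtype.val
      (IsCyclic.isMulCommutative.is_comm.comm (⟨x, hx⟩ : ↥(P : Subgroup G)) ⟨y, hy⟩)
  have hge : 4 ≤ (commutator ↥(P : Subgroup G)).index := by
    simpa using Cfsg.Agent.PGroup.sq_le_index_commutator P.2 hncyc
  have hne : commutator ↥(P : Subgroup G) ≠ ⊥ := fun h => hna fun x hx y hy =>
    congrArg Subtype.val (((commutator_eq_bot_iff _).1 h).is_comm.comm
      (⟨x, hx⟩ : ↥(P : Subgroup G)) ⟨y, hy⟩)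
  rcases Nat.lt_or_ge m 3 with hm3 | hm3
  · have hm2 : m = 2 := by omega
    subst hm2
    have h := Subgroup.card_mul_index (commutator ↥(P : Subgroup G))
    rw [hP] at h
    have h2 : 1 < Nat.card ↥(commutator ↥(P : Subgroup G)) :=
      (Subgroup.one_lt_card_iff_ne_bot _).2 hne
    have h3 := Nat.mul_le_mul_right (commutator ↥(P : Subgroup G)).index h2
    rw [h] at h3
    norm_num at h3
    omega
  obtain ⟨j, hjle, hj⟩ : ∃ j ≤ m + 1, orderOf g = 2 ^ j := by
    rw [← Nat.dvd_prime_pow Nat.prime_two, ← hP]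
    exact Subgroup.orderOf_dvd_natCard _ hgP
  have hjn : j ≠ m + 1 := fun h => hncyc (isCyclic_of_orderOf_eq_card ⟨g, hgP⟩
    (by rw [Subgroup.orderOf_mk, hj, h, hP]))
  have hge' := le_log_orderOf hm3 hj hζ hε hfield
  obtain rfl : j = m := by omega
  obtain ⟨b, hbP, hb⟩ : ∃ b ∈ (P : Subgroup G), b ∉ Subgroup.zpowers g := by
    by_contra hcon
    push Not at hcon
    exact hna fun x hx y hy => by
      obtain ⟨i, rfl⟩ := hcon x hx
      obtain ⟨l, rfl⟩ := hcon y hy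
      exact zpow_mul_comm g i l
  obtain ⟨hnorm, hcov⟩ := cover P hP hgP hbP hj hb
  obtain ⟨k, hk⟩ : ∃ k : ℕ, g ^ k = b * g * b⁻¹ := mem_powers_iff_mem_zpowers.2 hnorm
  have hkc : k.Coprime (2 ^ j) := by
    have h : orderOf (g ^ k) = orderOf g := by
      rw [hk]; exact MulEquiv.orderOf_eq (MulAut.conj b) g
    rw [orderOf_pow, hj] at h
    rcases Nat.div_eq_self.1 h with h | h
    · exact absurd h (NeZero.ne _)
    · exact Nat.Coprime.symm h
  obtain ⟨f, hf⟩ := Cfsg.Agent.CharInt.exists_ringHom_pow (NeZero.ne (2 ^ j)) hkc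
  have h := twist_of_fix hζ hε hfield f hf fun χ => by
    rw [map_value χ g (hj ▸ dvd_rfl) hf, hk]
    exact Cfsg.Agent.Char.IsClassFunction.apply_of_isConj
      (Cfsg.Agent.Char.IsCharacter.isClassFunction (Cfsg.Agent.Char.irr_isCharacter χ))
      (isConj_iff.2 ⟨b, rfl⟩).symm
  rw [twist_eq_iff hζ0 (by rcases hε with rfl | rfl <;> norm_num)] at h
  rcases h with hc | hc
  · exfalso
    have hgb : b * g * b⁻¹ = g := by
      rw [← hk]
      conv_rhs => rw [← pow_one g]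
      rw [pow_eq_pow_iff_modEq, hj, hζ.eq_orderOf]
      obtain ⟨u, hu⟩ := hζ.isUnit (NeZero.ne _)
      rw [← hu, orderOf_units, ← pow_eq_pow_iff_modEq, Units.ext_iff, Units.val_pow_eq_pow_val,
        Units.val_pow_eq_pow_val, hu, pow_one, hc]
    refine hna fun x hx y hy => ?_
    have hcomm : Commute b g := mul_inv_eq_iff_eq_mul.1 hgb
    have hxg : ∀ z ∈ (P : Subgroup G), Commute z g ∧ Commute z b := by
      intro z hz
      obtain ⟨i, rfl | rfl⟩ := hcov z hz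
      · exact ⟨(Commute.refl g).zpow_left i, hcomm.symm.zpow_left i⟩
      · exact ⟨hcomm.mul_left ((Commute.refl g).zpow_left i),
          (Commute.refl b).mul_left (hcomm.symm.zpow_left i)⟩
    obtain ⟨i, rfl | rfl⟩ := hcov y hy
    · exact ((hxg x hx).1.zpow_right i).eq
    · exact ((hxg x hx).2.mul_right ((hxg x hx).1.zpow_right i)).eq
  · -- `g ^ 2` is a power of the commutator `g ^ (k - 1)`
    set g₀ : ↥(P : Subgroup G) := ⟨g, hgP⟩ with hg₀
    have hg₀ord : orderOf g₀ = 2 ^ j := by rw [hg₀, Subgroup.orderOf_mk, hj]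
    have hmem : g₀ ^ ((k : ℤ) - 1) ∈ commutator ↥(P : Subgroup G) := by
      have : g₀ ^ ((k : ℤ) - 1) = ⁅(⟨b, hbP⟩ : ↥(P : Subgroup G)), g₀⁆ := by
        apply Subtype.ext
        simp [commutatorElement_def, hg₀, ← hk, zpow_sub]
      rw [this]
      exact Subgroup.commutator_mem_commutator (Subgroup.mem_top _) (Subgroup.mem_top _)
    have hdvd : 4 ∣ k + 1 := by
      have h1 : ζ ^ (2 * (k + 1)) = 1 := by
        rw [two_mul, pow_add, pow_succ, hc, inv_mul_cancel_right₀ hζ0]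
        rcases hε with rfl | rfl <;> norm_num
      have h2 := hζ.dvd_of_pow_eq_one _ h1
      have h3 : 2 * 4 ∣ 2 ^ j := Nat.pow_dvd_pow 2 hm3
      exact (Nat.mul_dvd_mul_iff_left two_pos).1 (h3.trans h2)
    obtain ⟨u, hu, hu2⟩ : ∃ u : ℤ, (k : ℤ) - 1 = 2 * u ∧ ¬ (2 : ℤ) ∣ u := by
      obtain ⟨q, hq⟩ := hdvd
      exact ⟨2 * q - 1, by omega, by omega⟩
    have hsq : g₀ ^ (2 : ℤ) ∈ commutator ↥(P : Subgroup G) := by
      have hco : IsCoprime u ((2 : ℤ) ^ j) :=
        ((Int.prime_two.coprime_iff_not_dvd.2 hu2).symm).pow_right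
      obtain ⟨a, c, hac⟩ := hco
      have h1 : g₀ ^ ((2 : ℤ) ^ j) = 1 := by
        rw [show ((2 : ℤ) ^ j) = ((2 ^ j : ℕ) : ℤ) by push_cast; rfl, zpow_natCast, ← hg₀ord,
          pow_orderOf_eq_one]
      rw [show (2 : ℤ) = ((k : ℤ) - 1) * a + 2 ^ j * (2 * c) by
        linear_combination (-2 : ℤ) * hac - a * hu, zpow_add, zpow_mul, zpow_mul, h1, one_zpow,
        mul_one]
      exact Subgroup.zpow_mem _ hmem _
    rw [show (2 : ℤ) = ((2 : ℕ) : ℤ) from rfl, zpow_natCast] at hsq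
    have hbig : 2 ^ (j - 1) ≤ Nat.card ↥(commutator ↥(P : Subgroup G)) := by
      refine le_trans (le_of_eq ?_) (Nat.le_of_dvd Nat.card_pos
        (Subgroup.orderOf_dvd_natCard _ hsq))
      rw [orderOf_pow, hg₀ord, Nat.gcd_eq_right (dvd_pow_self 2 (by omega))]
      obtain ⟨i, rfl⟩ : ∃ i, j = i + 1 := ⟨j - 1, by omega⟩
      rw [pow_succ, Nat.mul_div_cancel _ two_pos, Nat.add_sub_cancel]
    have h := Subgroup.card_mul_index (commutator ↥(P : Subgroup G))
    rw [hP, show (2 : ℕ) ^ (j + 1) = 2 ^ (j - 1) * 4 by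
      rw [show (4 : ℕ) = 2 ^ 2 from rfl, ← pow_add]; congr 1; omega] at h
    have := Nat.two_pow_pos (j - 1)
    nlinarith

end Helpers

/-- Let G be a finite group with Sylow 2-subgroup P of order 2^n ≥ 8, and let ζ be a primitive 2^(n−1)-th root of unity in ℂ. Then the commutator subgroup of P has index 4 in P if and only if there is an element g of P whose conjugacy class in G has even size and such that the field generated over ℚ by the values at g of all irreducible complex characters of G equals ℚ(ζ + ζ⁻¹) or ℚ(ζ − ζ⁻¹). -/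
theorem result {G : Type*} [Group G] [Finite G] (P : Sylow 2 G) (n : ℕ) (hn : 3 ≤ n) (hP : Nat.card P = 2 ^ n) (ζ : ℂ) (hζ : IsPrimitiveRoot ζ (2 ^ (n - 1))) :
    (commutator ↥P).index = 4 ↔
      ∃ g : G, g ∈ (P : Subgroup G) ∧ 2 ∣ (Subgroup.centralizer ({g} : Set G)).index ∧
        (IntermediateField.adjoin ℚ {z : ℂ | ∃ χ : Cfsg.IrrCharacter G, (χ : G → ℂ) g = z} = IntermediateField.adjoin ℚ ({ζ + ζ⁻¹} : Set ℂ) ∨
          IntermediateField.adjoin ℚ {z : ℂ | ∃ χ : Cfsg.IrrCharacter G, (χ : G → ℂ) g = z} = IntermediateField.adjoin ℚ ({ζ - ζ⁻¹} : Set ℂ)) := by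
  obtain ⟨m, rfl⟩ : ∃ m, n = m + 1 := ⟨n - 1, by omega⟩
  simp only [Nat.add_sub_cancel] at hζ
  constructor
  · exact forward P (by omega) hP hζ
  · rintro ⟨g, hgP, heven, h | h⟩
    · exact backward P (by omega) hP hζ hgP heven (ε := 1) (Or.inl rfl)
        (by rw [one_mul]; exact h)
    · exact backward P (by omega) hP hζ hgP heven (ε := -1) (Or.inr rfl)
        (by rw [neg_one_mul, ← sub_eq_add_neg]; exact h)

end Cfsg.Agent.S4923
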