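import Cfsg.Statements.S4931
import Cfsg.Agent.Lib.Char.Ito
import Cfsg.Agent.Lib.Char.KernelSum
import Cfsg.Agent.Lib.CharInt.Central
import Cfsg.Agent.Lib.CharInt.Eigen
import Cfsg.Agent.Lib.PGroup.Frattini
import Cfsg.Agent.Lib.Transfer.Tate
import Cfsg.Agent.Lib.Transfer.Burnside

set_option autoImplicit false
set_option linter.style.haveILetI false
set_option linter.unusedSectionVars false
set_option linter.unusedVariables false
open Cfsg
open scoped ComplexConjugate commutatorElement

namespace Cfsg.Agent.S4931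

universe u

variable {G : Type u} [Group G] [Finite G]

/-- The characters trivial on a normal subgroup separate it from the rest of the group. -/
theorem mem_of_forall_trivOn (K : Subgroup G) [K.Normal] {x : G}
    (h : ∀ θ : IrrCharacter G, Char.TrivOn K θ.1 → θ.1 x = θ.1 1) : x ∈ K := by
  classical
  haveI := Fintype.ofFinite G
  haveI := Fintype.ofFinite K
  by_contra hx
  have h1 := Char.sum_trivOn_mul_conj K (1 : G) x
  have hzero : Nat.card {k : K // IsConj ((1 : G) * k) x} = 0 := by
    rw [Nat.card_eq_zero]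
    refine Or.inl ⟨fun ⟨k, hk⟩ => hx ?_⟩
    obtain ⟨c, hc⟩ := isConj_iff.1 hk
    rw [← hc, one_mul]
    exact (inferInstance : K.Normal).conj_mem k k.2 c
  rw [hzero, Nat.cast_zero, mul_zero] at h1
  have h2 := (mul_eq_zero.1 h1).resolve_left (Nat.cast_ne_zero.2 Nat.card_pos.ne')
  rw [Finset.sum_congr rfl fun χ hχ => by
    rw [h χ (Finset.mem_filter.1 hχ).2, ← Char.charDegree_cast, map_natCast, ← Nat.cast_mul]] at h2
  rw [← Nat.cast_sum, Nat.cast_eq_zero, Finset.sum_eq_zero_iff] at h2
  have h3 := h2 (Char.trivialChar G)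
    (Finset.mem_filter.2 ⟨Finset.mem_univ _, Char.trivOn_trivialChar K⟩)
  have := Char.charDegree_pos (Char.trivialChar G)
  nlinarith

/-- A character trivial on a normal subgroup with abelian Sylow quotient has `p'`-degree. -/
theorem not_dvd_charDegree {p : ℕ} [Fact p.Prime] (S : Sylow p G) [(S : Subgroup G).Normal]
    (D : Subgroup G) [D.Normal] (hSD : ⁅(S : Subgroup G), (S : Subgroup G)⁆ ≤ D)
    (θ : IrrCharacter G) (hθ : Char.TrivOn D θ.1) : ¬ p ∣ charDegree θ.1 := by
  haveI := Fintype.ofFinite (G ⧸ D)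
  haveI := Fintype.ofFinite G
  obtain ⟨n, ρ, hρ, hχ⟩ := θ.2
  haveI := hρ
  have hker : D ≤ MonoidHom.ker (ρ : G →* Module.End ℂ (Fin n → ℂ)) := fun k hk => by
    rw [MonoidHom.mem_ker, ← CharInt.character_eq_finrank_iff]
    have := hθ k hk
    rwa [← hχ, Representation.char_one] at this
  let σ : Representation ℂ (G ⧸ D) (Fin n → ℂ) := QuotientGroup.lift D ρ hker
  have hπ := QuotientGroup.mk'_surjective D
  let χ' : IrrCharacter (G ⧸ D) := ⟨σ.character, Char.isIrrCharacter_character σ
    (CharInt.irreducible_of_comp_surjective ρ (QuotientGroup.mk' D) hπ σ rfl)⟩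
  haveI : ((S : Subgroup G).map (QuotientGroup.mk' D)).Normal :=
    Subgroup.Normal.map inferInstance _ hπ
  have hdvd := Char.degree_dvd_index_of_comm (N := (S : Subgroup G).map (QuotientGroup.mk' D))
    (by
      rintro _ ⟨a, ha, rfl⟩ _ ⟨b, hb, rfl⟩
      rw [← commutatorElement_eq_one_iff_mul_comm, ← map_commutatorElement,
        QuotientGroup.mk'_apply, QuotientGroup.eq_one_iff]
      exact hSD (Subgroup.commutator_mem_commutator ha hb)) χ'
  have hdeg : charDegree θ.1 = Char.degree χ' := by
    rw [Char.charDegree_eq_degree]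
    apply Nat.cast_injective (R := ℂ)
    rw [← Char.apply_one_eq_degree, ← Char.apply_one_eq_degree, ← hχ]
    show _ = σ.character 1
    rw [Representation.char_one, Representation.char_one]
  rw [hdeg]
  exact fun h => Sylow.not_dvd_index S (h.trans (hdvd.trans (Subgroup.index_map_dvd _ hπ)))

variable (N : Subgroup G)

/-- The common kernel of the characters of `G` restricting to characters of `N` trivial on `K`. -/
def extKer (K : Subgroup N) : Subgroup G :=
  ⨅ (χ : IrrCharacter G) (_ : ∃ θ : IrrCharacter N, Char.TrivOn K θ.1 ∧ ∀ x : N, χ.1 x = θ.1 x),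
    CharInt.charKernel (Char.irr_isCharacter χ)

theorem extKer_normal (K : Subgroup N) : (extKer N K).Normal :=
  Subgroup.normal_iInf_normal fun χ => Subgroup.normal_iInf_normal fun _ =>
    CharInt.charKernel_normal _

/-- If the characters trivial on `K` extend, the common kernel meets `N` in `K`. -/
theorem extKer_subgroupOf (K : Subgroup N) [K.Normal]
    (hext : ∀ θ : IrrCharacter N, Char.TrivOn K θ.1 →
      ∃ χ : IrrCharacter G, ∀ x : N, χ.1 x = θ.1 x) :
    (extKer N K).subgroupOf N = K := by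
  refine le_antisymm (fun x hx => mem_of_forall_trivOn K fun θ hθ => ?_) fun x hx => ?_
  · obtain ⟨χ, hχ⟩ := hext θ hθ
    have h := (iInf₂_le χ ⟨θ, hθ, hχ⟩ : extKer N K ≤ _) hx
    rw [CharInt.mem_charKernel] at h
    rw [← hχ x]
    refine Eq.trans h ?_
    rw [← hχ 1, Subgroup.coe_one]
  · rw [Subgroup.mem_subgroupOf, extKer]
    simp only [Subgroup.mem_iInf, CharInt.mem_charKernel]
    rintro χ ⟨θ, hθ, hres⟩
    rw [hres, hθ x hx, ← hres 1, Subgroup.coe_one]

variable {p : ℕ} [Fact p.Prime]

/-- The forward direction. -/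
theorem exists_complement (P : Sylow p G)
    (hext : ∀ θ : IrrCharacter (Subgroup.normalizer ((P : Subgroup G) : Set G)),
      ¬ p ∣ charDegree θ.1 →
        ∃ χ : IrrCharacter G, ∀ x : Subgroup.normalizer ((P : Subgroup G) : Set G),
          χ.1 x = θ.1 x) :
    ∃ K : Subgroup G, K.Normal ∧ K ⊔ Subgroup.normalizer ((P : Subgroup G) : Set G) = ⊤ ∧
      K ⊓ Subgroup.normalizer ((P : Subgroup G) : Set G) = ⊥ := by
  set N := Subgroup.normalizer ((P : Subgroup G) : Set G) with hNdef
  have hPN : (P : Subgroup G) ≤ N := Subgroup.le_normalizer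
  set S : Sylow p N := P.subtype hPN with hS
  haveI hSn : (S : Subgroup N).Normal := by
    rw [hS, Sylow.coe_subtype]; exact Subgroup.normal_in_normalizer
  set D : Subgroup N := ⁅(S : Subgroup N), (S : Subgroup N)⁆ with hD
  haveI hDn : D.Normal := Subgroup.commutator_normal _ _
  have hDS : D ≤ (S : Subgroup N) := Subgroup.commutator_le_self _
  have hDG : D.map N.subtype = ⁅(P : Subgroup G), (P : Subgroup G)⁆ := by
    rw [hD, Subgroup.map_commutator, hS, Sylow.coe_subtype, Subgroup.map_subgroupOf_eq_of_le hPN]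
  set L := extKer N D with hL
  set T := extKer N (S : Subgroup N) with hT
  haveI hLn : L.Normal := extKer_normal N D
  haveI hTn : T.Normal := extKer_normal N _
  have hLN : L.subgroupOf N = D := extKer_subgroupOf N D fun θ hθ =>
    hext θ (not_dvd_charDegree S D le_rfl θ hθ)
  have hTN : T.subgroupOf N = (S : Subgroup N) := extKer_subgroupOf N _ fun θ hθ =>
    hext θ (not_dvd_charDegree S D le_rfl θ fun k hk => hθ k (hDS hk))
  have hNTP : ∀ x : G, x ∈ N → x ∈ T → x ∈ (P : Subgroup G) := fun x hx hxT => by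
    have h : (⟨x, hx⟩ : N) ∈ T.subgroupOf N := hxT
    rwa [hTN] at h
  have hPT : (P : Subgroup G) ≤ T := fun x hx => by
    have h : (⟨x, hPN hx⟩ : N) ∈ (S : Subgroup N) := hx
    rwa [← hTN] at h
  -- the quotient of `T` by `L`
  haveI : (L.subgroupOf T).Normal := Subgroup.Normal.subgroupOf hLn T
  set π := QuotientGroup.mk' (L.subgroupOf T) with hπdef
  have hπ : Function.Surjective π := QuotientGroup.mk'_surjective _
  set PT : Sylow p T := P.subtype hPT with hPTdef
  set PB : Sylow p (T ⧸ L.subgroupOf T) := PT.mapSurjective hπ with hPB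
  have hPBc : (PB : Subgroup (T ⧸ L.subgroupOf T)) = (PT : Subgroup T).map π := rfl
  have hker : ∀ t : T, π t = 1 ↔ (t : G) ∈ L := fun t => QuotientGroup.eq_one_iff t
  have hcomm : IsMulCommutative (PB : Subgroup (T ⧸ L.subgroupOf T)) := by
    refine ⟨⟨fun a b => Subtype.ext ?_⟩⟩
    obtain ⟨a, x, hx, rfl⟩ := a
    obtain ⟨b, y, hy, rfl⟩ := b
    show π x * π y = π y * π x
    rw [← commutatorElement_eq_one_iff_mul_comm, ← map_commutatorElement, hker]
    have h : ((⁅x, y⁆ : T) : G) ∈ D.map N.subtype := by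
      rw [hDG, ← T.subtype_apply, map_commutatorElement]
      exact Subgroup.commutator_mem_commutator hx hy
    obtain ⟨d, hd, hde⟩ := h
    rw [← hLN] at hd
    rw [← hde]
    exact hd
  -- the image of `P` is self-normalizing
  have hself : Subgroup.normalizer ((PB : Subgroup (T ⧸ L.subgroupOf T)) : Set _) ≤
      (PB : Subgroup (T ⧸ L.subgroupOf T)) := by
    intro q hq
    obtain ⟨t, rfl⟩ := hπ q
    let J : Subgroup T := ((PT : Subgroup T).map π).comap π
    have hPJ : (PT : Subgroup T) ≤ J := Subgroup.le_comap_map _ _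
    have htJ : ((t • PT : Sylow p T) : Subgroup T) ≤ J := by
      rintro _ ⟨y, hy, rfl⟩
      show π (t * y * t⁻¹) ∈ (PT : Subgroup T).map π
      rw [map_mul, map_mul, map_inv]
      exact (Subgroup.mem_normalizer_iff.1 hq (π y)).1 ⟨y, hy, rfl⟩
    obtain ⟨j, hj⟩ := MulAction.exists_smul_eq J ((t • PT).subtype htJ) (PT.subtype hPJ)
    rw [Sylow.smul_subtype] at hj
    have hj2 := Sylow.subtype_injective hj
    rw [Subgroup.smul_def, ← mul_smul] at hj2
    have hjt := Sylow.smul_eq_iff_mem_normalizer.1 hj2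
    have hmem : (j : T) * t ∈ (PT : Subgroup T) := by
      refine hNTP _ ?_ ((j : T) * t).2
      rw [hNdef, Subgroup.mem_normalizer_iff]
      intro y
      constructor
      · intro hy
        have := (Subgroup.mem_normalizer_iff.1 hjt ⟨y, hPT hy⟩).1 hy
        exact this
      · intro hy
        have hyT : y ∈ T := by
          have h1 := mul_mem (mul_mem (inv_mem ((j : T) * t).2) (hPT hy)) ((j : T) * t).2
          simpa [mul_assoc] using h1
        exact (Subgroup.mem_normalizer_iff.1 hjt ⟨y, hyT⟩).2 hy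
    have htmem : π ((j : T) * t) ∈ (PT : Subgroup T).map π := Subgroup.mem_map_of_mem π hmem
    rw [map_mul] at htmem
    have := mul_mem (inv_mem (j.2 : π (j : T) ∈ (PT : Subgroup T).map π)) htmem
    rwa [inv_mul_cancel_left] at this
  have hbar : Cfsg.HasNormalPComplement p (T ⧸ L.subgroupOf T) := by
    haveI := hcomm
    exact Transfer.hasNormalPComplement_of_normalizer_le_centralizer PB
      (hself.trans (Subgroup.le_centralizer _))
  -- Tate
  have hTc : Cfsg.HasNormalPComplement p T := by
    refine Transfer.hasNormalPComplement_of_inf_pResidual_le_frattini PT ?_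
    rintro x ⟨hxP, hxR⟩
    have h1 : π x ∈ (PB : Subgroup _) ⊓ Cfsg.pResidual p (T ⧸ L.subgroupOf T) :=
      ⟨⟨x, hxP, rfl⟩, Transfer.map_residual_le π p ⟨x, hxR, rfl⟩⟩
    rw [(Transfer.hasNormalPComplement_iff_inf_eq_bot PB).1 hbar, Subgroup.mem_bot, hker] at h1
    have h2 : (⟨x, hPN hxP⟩ : N) ∈ L.subgroupOf N := h1
    rw [hLN] at h2
    have h3 : (x : G) ∈ (⁅(PT : Subgroup T), (PT : Subgroup T)⁆).map T.subtype := by
      rw [Subgroup.map_commutator, hPTdef, Sylow.coe_subtype,
        Subgroup.map_subgroupOf_eq_of_le hPT, ← hDG]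
      exact ⟨_, h2, rfl⟩
    obtain ⟨y, hy, hyx⟩ := h3
    obtain rfl : y = x := Subtype.ext hyx
    refine Subgroup.map_mono (PGroup.commutator_le_frattini PT.2) ?_
    rwa [commutator_def, Subgroup.map_commutator, ← MonoidHom.range_eq_map,
      Subgroup.range_subtype]
  haveI := Transfer.pResidual_characteristic (G := T) p
  haveI := Transfer.pResidual_normal (G := T) p
  refine ⟨(Cfsg.pResidual p T).map T.subtype, inferInstance, ?_, ?_⟩
  · refine top_unique ((Sylow.normalizer_sup_eq_top' P hPT).ge.trans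
      (sup_le le_sup_right (le_trans ?_ (sup_le_sup_left hPN _))))
    have h := congrArg (Subgroup.map T.subtype) (Transfer.sylow_sup_pResidual_eq_top PT)
    rw [Subgroup.map_sup, ← MonoidHom.range_eq_map, Subgroup.range_subtype, hPTdef,
      Sylow.coe_subtype, Subgroup.map_subgroupOf_eq_of_le hPT] at h
    rw [sup_comm] at h
    exact h.ge
  · rw [eq_bot_iff]
    rintro x ⟨⟨y, hy, rfl⟩, hyN⟩
    have h := (Transfer.hasNormalPComplement_iff_inf_eq_bot PT).1 hTc
    have h1 : y ∈ (PT : Subgroup T) ⊓ Cfsg.pResidual p T := ⟨hNTP _ hyN y.2, hy⟩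
    rw [h, Subgroup.mem_bot] at h1
    simp [h1]

/-- The converse direction. -/
theorem exists_extension (K : Subgroup G) [K.Normal] (h1 : K ⊔ N = ⊤) (h2 : K ⊓ N = ⊥)
    (θ : IrrCharacter N) : ∃ χ : IrrCharacter G, ∀ x : N, χ.1 x = θ.1 x := by
  let f : N →* G ⧸ K := (QuotientGroup.mk' K).comp N.subtype
  have hf : Function.Bijective f := by
    constructor
    · rw [injective_iff_map_eq_one]
      intro x hx
      have : (x : G) ∈ K ⊓ N := ⟨(QuotientGroup.eq_one_iff _).1 hx, x.2⟩
      rw [h2, Subgroup.mem_bot] at this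
      exact Subtype.ext this
    · intro q
      obtain ⟨g, rfl⟩ := QuotientGroup.mk'_surjective K q
      obtain ⟨k, hk, x, hx, rfl⟩ := Subgroup.mem_sup_of_normal_left.1 (h1 ▸ Subgroup.mem_top g)
      refine ⟨⟨x, hx⟩, ?_⟩
      rw [map_mul, (QuotientGroup.eq_one_iff k).2 hk |> (fun h : QuotientGroup.mk' K k = 1 => h),
        one_mul]
      rfl
  let e := MulEquiv.ofBijective f hf
  let r : G →* N := e.symm.toMonoidHom.comp (QuotientGroup.mk' K)
  have hr : Function.Surjective r := e.symm.surjective.comp (QuotientGroup.mk'_surjective K)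
  refine ⟨⟨fun g => θ.1 (r g), Char.IsIrrCharacter.comp_surjective θ.2 r hr⟩, fun x => ?_⟩
  exact congrArg θ.1 (e.symm_apply_apply x)

/-- Let G be a finite group, p a prime and P a Sylow p-subgroup of G with normalizer N. Then every irreducible complex character of N of degree not divisible by p is the restriction of an irreducible character of G if and only if there is a normal subgroup K of G with KN = G and K ∩ N = 1. -/
theorem result {G : Type*} [Group G] [Finite G] (p : ℕ) [Fact p.Prime] (P : Sylow p G) :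
    (∀ θ : Cfsg.IrrCharacter ↥(Subgroup.normalizer ((P : Subgroup G) : Set G)), ¬ p ∣ Cfsg.charDegree (θ : ↥(Subgroup.normalizer ((P : Subgroup G) : Set G)) → ℂ) →
        ∃ χ : Cfsg.IrrCharacter G, ∀ x : ↥(Subgroup.normalizer ((P : Subgroup G) : Set G)), (χ : G → ℂ) x = (θ : ↥(Subgroup.normalizer ((P : Subgroup G) : Set G)) → ℂ) x) ↔
      ∃ K : Subgroup G, K.Normal ∧ K ⊔ Subgroup.normalizer ((P : Subgroup G) : Set G) = ⊤ ∧ K ⊓ Subgroup.normalizer ((P : Subgroup G) : Set G) = ⊥ := by
  refine ⟨exists_complement P, ?_⟩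
  rintro ⟨K, hK, h1, h2⟩ θ -
  haveI := hK
  exact exists_extension _ K h1 h2 θ

end Cfsg.Agent.S4931
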