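import Cfsg.Statements.S4937
import Cfsg.Agent.Lib.Blocks.CentralChar
import Cfsg.Agent.Lib.Char.Gallagher
import Cfsg.Agent.Lib.CharInt.Central
import Cfsg.Agent.Lib.CharInt.Basic
import Mathlib.RingTheory.RootsOfUnity.Complex

set_option autoImplicit false
set_option linter.style.haveILetI false
set_option linter.unusedSectionVars false
open Cfsg
open scoped Classical

namespace Cfsg.Agent.S4937

open Cfsg.Agent.Blocks

universe u

variable {G : Type u} [Group G] [Fintype G]

section Orbits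

variable (N : Subgroup G)

/-- The orbit of an element under conjugation by `N`. -/
noncomputable def orb (g : G) : Finset G :=
  Finset.univ.filter fun z => ∃ n ∈ N, n * g * n⁻¹ = z

theorem mem_orb {g z : G} : z ∈ orb N g ↔ ∃ n ∈ N, n * g * n⁻¹ = z := by simp [orb]

theorem self_mem_orb (g : G) : g ∈ orb N g := (mem_orb N).2 ⟨1, N.one_mem, by simp⟩

theorem orb_eq {g z : G} (h : z ∈ orb N g) : orb N z = orb N g := by
  obtain ⟨n, hn, rfl⟩ := (mem_orb N).1 h
  ext w
  simp only [mem_orb]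
  constructor
  · rintro ⟨m, hm, rfl⟩
    exact ⟨m * n, mul_mem hm hn, by group⟩
  · rintro ⟨m, hm, rfl⟩
    exact ⟨m * n⁻¹, mul_mem hm (inv_mem hn), by group⟩

theorem orb_one : orb N (1 : G) = {1} := by
  ext z
  simp only [mem_orb, Finset.mem_singleton, mul_one, mul_inv_cancel]
  exact ⟨fun ⟨_, _, h⟩ => h.symm, fun h => ⟨1, N.one_mem, h.symm⟩⟩

theorem filter_orb_eq {s : Finset G} (hs : ∀ z ∈ s, orb N z ⊆ s) {g : G} (hg : g ∈ s) :
    s.filter (fun z => orb N z = orb N g) = orb N g := by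
  ext z
  simp only [Finset.mem_filter]
  exact ⟨fun h => h.2 ▸ self_mem_orb N z, fun h => ⟨hs g hg h, orb_eq N h⟩⟩

/-- Orbit by orbit summation over an invariant finite set. -/
theorem sum_eq_sum_orbits {A : Type*} [AddCommMonoid A] {s : Finset G}
    (hs : ∀ z ∈ s, orb N z ⊆ s) (f : G → A) :
    ∑ z ∈ s, f z = ∑ O ∈ s.image (orb N), ∑ z ∈ O, f z := by
  rw [← Finset.sum_fiberwise_of_maps_to (fun z hz => Finset.mem_image_of_mem (orb N) hz) f]
  refine Finset.sum_congr rfl fun O hO => ?_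
  obtain ⟨g, hg, rfl⟩ := Finset.mem_image.1 hO
  rw [filter_orb_eq N hs hg]

theorem card_orb (g : G) :
    (orb N g).card = ((Subgroup.centralizer ({g} : Set G)).subgroupOf N).index := by
  letI : MulAction N G := MulAction.compHom G ((MulAut.conj (G := G)).comp N.subtype)
  have hsmul : ∀ (n : N) (z : G), n • z = (n : G) * z * (n : G)⁻¹ := fun n z => rfl
  have h1 : MulAction.orbit N g = (orb N g : Set G) := by
    ext z
    simp only [MulAction.mem_orbit_iff, hsmul, Finset.mem_coe, mem_orb]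
    exact ⟨fun ⟨n, hn⟩ => ⟨n, n.2, hn⟩, fun ⟨n, hn, h⟩ => ⟨⟨n, hn⟩, h⟩⟩
  have h2 : MulAction.stabilizer N g = (Subgroup.centralizer ({g} : Set G)).subgroupOf N := by
    ext n
    simp only [MulAction.mem_stabilizer_iff, hsmul, Subgroup.mem_subgroupOf,
      Subgroup.mem_centralizer_singleton_iff, mul_inv_eq_iff_eq_mul]
  rw [← h2, MulAction.index_stabilizer, h1, Set.ncard_coe_finset]

theorem orb_subset_coset [N.Normal] {g z : G} (h : z ∈ orb N g) : g⁻¹ * z ∈ N := by
  obtain ⟨n, hn, rfl⟩ := (mem_orb N).1 h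
  have := mul_mem ((inferInstance : N.Normal).conj_mem n hn g⁻¹) (inv_mem hn)
  simpa [mul_assoc] using this

theorem orb_product_subset {a b z : G} {n : G} (hn : n ∈ N) (ha : z ∈ orb N a)
    (hb : b = n * z * n⁻¹) : b ∈ orb N a := by
  obtain ⟨m, hm, rfl⟩ := (mem_orb N).1 ha
  exact (mem_orb N).2 ⟨n * m, mul_mem hn hm, by rw [hb]; group⟩

end Orbits

section Scalar

variable (N : Subgroup G) {V : Type*} [AddCommGroup V] [Module ℂ V] [FiniteDimensional ℂ V]
  (ρ : Representation ℂ G V)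

/-- The scalar by which the orbit sum acts. -/
noncomputable def omN (g : G) : ℂ :=
  ∑ z ∈ orb N g, ρ.character z / (Module.finrank ℂ V : ℂ)

variable [hirr : Representation.IsIrreducible (ρ.comp N.subtype : Representation ℂ N V)]

theorem sum_orb_eq_smul (g : G) : ∑ z ∈ orb N g, ρ z = omN N ρ g • (1 : Module.End ℂ V) := by
  have hnt := CharInt.nontrivial_of_irreducible (ρ.comp N.subtype : Representation ℂ N V)
  obtain ⟨c, hc⟩ := CharInt.exists_eq_smul_one_of_commute
    (ρ.comp N.subtype : Representation ℂ N V) (∑ z ∈ orb N g, ρ z) fun n => by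
      show (∑ z ∈ orb N g, ρ z) * ρ n = ρ n * ∑ z ∈ orb N g, ρ z
      rw [Finset.sum_mul, Finset.mul_sum]
      refine Finset.sum_bij' (fun z _ => (n : G)⁻¹ * z * n) (fun z _ => (n : G) * z * (n : G)⁻¹)
        ?_ ?_ ?_ ?_ ?_
      · exact fun z hz => orb_product_subset N (inv_mem n.2) hz (by group)
      · exact fun z hz => orb_product_subset N n.2 hz rfl
      · intro z _; group
      · intro z _; group
      · intro z _; rw [← map_mul, ← map_mul]; congr 1; group
  rw [hc]
  congr 1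
  have h := congrArg (LinearMap.trace ℂ V) hc
  rw [map_sum, map_smul, LinearMap.trace_one, smul_eq_mul] at h
  rw [omN, ← Finset.sum_div]
  show c = (∑ z ∈ orb N g, LinearMap.trace ℂ V (ρ z)) / _
  rw [h, mul_div_cancel_right₀ _ (Nat.cast_ne_zero.2 Module.finrank_pos.ne')]

theorem isIntegral_omN (g : G) : IsIntegral ℤ (omN N ρ g) := by
  have hnt := CharInt.nontrivial_of_irreducible (ρ.comp N.subtype : Representation ℂ N V)
  let Φ : MonoidAlgebra ℤ G →ₐ[ℤ] Module.End ℂ V := MonoidAlgebra.lift ℤ (Module.End ℂ V) G ρ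
  haveI : Module.Finite ℤ (MonoidAlgebra ℤ G) := inferInstance
  have hint := (IsIntegral.of_finite ℤ (∑ z ∈ orb N g, MonoidAlgebra.of ℤ G z)).map Φ
  have hΦ : Φ (∑ z ∈ orb N g, MonoidAlgebra.of ℤ G z) = ∑ z ∈ orb N g, ρ z := by
    simp [Φ, map_sum]
  rw [hΦ, sum_orb_eq_smul, ← Algebra.algebraMap_eq_smul_one] at hint
  exact (isIntegral_algebraMap_iff (algebraMap ℂ (Module.End ℂ V)).injective).1 hint

theorem omN_mul (a b : G) : omN N ρ a * omN N ρ b =
    ∑ q ∈ orb N a ×ˢ orb N b, ρ.character (q.1 * q.2) / (Module.finrank ℂ V : ℂ) := by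
  have hnt := CharInt.nontrivial_of_irreducible (ρ.comp N.subtype : Representation ℂ N V)
  have h : (∑ z ∈ orb N a, ρ z) * (∑ z ∈ orb N b, ρ z) =
      (omN N ρ a * omN N ρ b) • (1 : Module.End ℂ V) := by
    rw [sum_orb_eq_smul, sum_orb_eq_smul, smul_mul_smul_comm, one_mul]
  rw [Finset.sum_mul_sum, ← Finset.sum_product'] at h
  have h' := congrArg (LinearMap.trace ℂ V) h
  rw [map_sum, map_smul, LinearMap.trace_one, smul_eq_mul] at h'
  simp only [← map_mul] at h'
  rw [← Finset.sum_div, eq_div_iff (Nat.cast_ne_zero.2 Module.finrank_pos.ne')]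
  exact h'.symm

end Scalar

section Congruence

variable {p : ℕ} [hp : Fact p.Prime] {M : Ideal AlgInt} [M.IsMaximal]
  (hpM : (p : AlgInt) ∈ M) {N : Subgroup G} [N.Normal] (P : Sylow p N)
  {V : Type*} [AddCommGroup V] [Module ℂ V] [FiniteDimensional ℂ V]
  (ρ : Representation ℂ G V)
  [hirr : Representation.IsIrreducible (ρ.comp N.subtype : Representation ℂ N V)]

open scoped Cfsg.Agent.Blocks

/-- The centralizer of the Sylow subgroup of `N`. -/
abbrev cenP : Subgroup G :=
  Subgroup.centralizer (((P : Subgroup N).map N.subtype : Subgroup G) : Set G)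

theorem mem_cenP {g : G} : g ∈ cenP P ↔ ∀ u ∈ (P : Subgroup N), (u : G) * g = g * u := by
  rw [Subgroup.mem_centralizer_iff]
  exact ⟨fun h u hu => h u ⟨u, hu, rfl⟩, fun h _ ⟨u, hu, hu'⟩ => hu' ▸ h u hu⟩

theorem not_dvd_card_orb {g : G} (hg : g ∈ cenP P) : ¬ p ∣ (orb N g).card := by
  rw [card_orb]
  refine fun hd => Sylow.not_dvd_index P (hd.trans (Subgroup.index_dvd_of_le fun u hu => ?_))
  rw [Subgroup.mem_subgroupOf, Subgroup.mem_centralizer_singleton_iff]
  exact (mem_cenP P).1 hg u hu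

include hpM in
theorem cast_card_orb_ne_zero {g : G} (hg : g ∈ cenP P) :
    ((orb N g).card : AlgInt ⧸ M) ≠ 0 := by
  haveI := charP_residue hpM
  rw [Ne, CharP.cast_eq_zero_iff (AlgInt ⧸ M) p]
  exact not_dvd_card_orb P hg

theorem nsmul_res_eq_zero (hpM : (p : AlgInt) ∈ M) (a : AlgInt ⧸ M) : p • a = 0 := by
  haveI := charP_residue hpM
  rw [nsmul_eq_mul, CharP.cast_eq_zero, zero_mul]

include hpM in
/-- Only the elements centralising `P` count modulo `p`. -/
theorem card_orb_cast (g : G) :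
    ((orb N g).card : AlgInt ⧸ M) = ((orb N g).filter (· ∈ cenP P)).card := by
  letI act : MulAction (P : Subgroup N) (orb N g) :=
    { smul := fun u z => ⟨((u : N) : G) * z.1 * ((u : N) : G)⁻¹,
        orb_product_subset N (u : N).2 z.2 rfl⟩
      one_smul := fun z => Subtype.ext (show (1 : G) * z.1 * (1 : G)⁻¹ = z.1 by simp)
      mul_smul := fun u v z => Subtype.ext (by
        show ((u * v : N) : G) * z.1 * ((u * v : N) : G)⁻¹ =
          ((u : N) : G) * (((v : N) : G) * z.1 * ((v : N) : G)⁻¹) * ((u : N) : G)⁻¹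
        push_cast
        group) }
  have h := sum_eq_sum_fixedPoints (Q := (P : Subgroup N)) P.isPGroup' (α := orb N g)
    (nsmul_res_eq_zero (M := M) hpM) (fun _ => (1 : AlgInt ⧸ M)) (fun _ _ => rfl)
  rw [Finset.sum_const, Finset.sum_const, nsmul_one, nsmul_one, Finset.card_univ,
    Fintype.card_coe] at h
  rw [h]
  congr 1
  refine Finset.card_bij (fun z _ => z.1) (fun z hz => ?_) (fun a _ b _ hab => Subtype.ext hab)
    (fun z hz => ?_)
  · refine Finset.mem_filter.2 ⟨z.2, (mem_cenP P).2 fun u hu => ?_⟩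
    have := congrArg Subtype.val ((Finset.mem_filter.1 hz).2 ⟨u, hu⟩)
    exact mul_inv_eq_iff_eq_mul.1 this
  · obtain ⟨hz1, hz2⟩ := Finset.mem_filter.1 hz
    refine ⟨⟨z, hz1⟩, Finset.mem_filter.2 ⟨Finset.mem_univ _, fun u => Subtype.ext ?_⟩, rfl⟩
    exact mul_inv_eq_iff_eq_mul.2 ((mem_cenP P).1 hz2 u u.2)

/-- The residue of the normalised character value. -/
noncomputable def phi (g : G) : AlgInt ⧸ M :=
  red M (omN N ρ g) / ((orb N g).card : AlgInt ⧸ M)

theorem omN_congr {g z : G} (h : z ∈ orb N g) : omN N ρ z = omN N ρ g := by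
  simp only [omN, orb_eq N h]

theorem phi_congr {g z : G} (h : z ∈ orb N g) :
    phi (M := M) (N := N) ρ z = phi (M := M) (N := N) ρ g := by
  simp only [phi, omN, orb_eq N h]

theorem memLocalRing_omN (g : G) : MemLocalRing M (omN N ρ g) :=
  memLocalRing_of_isIntegral (isIntegral_omN N ρ g)

/-- The orbits off the centralizer of `P` are killed. -/
def Vanishes (g : G) : Prop :=
  (∀ z ∈ orb N g, z ∉ cenP P) → red M (omN N ρ g) = 0

include hpM in
theorem red_omN {g : G} (h0 : Vanishes (M := M) P ρ g) :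
    red M (omN N ρ g) = ∑ z ∈ (orb N g).filter (· ∈ cenP P), phi ρ z (M := M) (N := N) := by
  rw [Finset.sum_congr rfl fun z hz => phi_congr ρ (Finset.mem_filter.1 hz).1, Finset.sum_const,
    nsmul_eq_mul, ← card_orb_cast hpM P g]
  by_cases h : ∃ z ∈ orb N g, z ∈ cenP P
  · obtain ⟨z, hz, hzC⟩ := h
    have hne := cast_card_orb_ne_zero hpM P hzC
    rw [orb_eq N hz] at hne
    rw [phi, mul_div_cancel₀ _ hne]
  · push Not at h
    rw [h0 h, card_orb_cast hpM P g, Finset.filter_eq_empty_iff.2 fun z hz => h z hz,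
      Finset.card_empty, Nat.cast_zero, zero_mul]

include hpM in
/-- Products of orbit scalars. -/
theorem red_omN_mul (a b : G) (h0 : ∀ q ∈ orb N a ×ˢ orb N b, Vanishes (M := M) P ρ (q.1 * q.2)) :
    red M (omN N ρ a) * red M (omN N ρ b) =
      ∑ q ∈ ((orb N a).filter (· ∈ cenP P)) ×ˢ ((orb N b).filter (· ∈ cenP P)),
        phi ρ (q.1 * q.2) (M := M) (N := N) := by
  rw [← red_mul (memLocalRing_omN ρ a) (memLocalRing_omN ρ b), omN_mul]
  set S := orb N a ×ˢ orb N b with hSdef
  set s := S.image (fun q => q.1 * q.2) with hsdef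
  set m : G → ℕ := fun z => (S.filter fun q => q.1 * q.2 = z).card with hmdef
  have hs : ∀ z ∈ s, orb N z ⊆ s := by
    intro z hz w hw
    obtain ⟨q, hq, rfl⟩ := Finset.mem_image.1 hz
    obtain ⟨n, hn, rfl⟩ := (mem_orb N).1 hw
    obtain ⟨h1, h2⟩ := Finset.mem_product.1 hq
    exact Finset.mem_image.2 ⟨(n * q.1 * n⁻¹, n * q.2 * n⁻¹), Finset.mem_product.2
      ⟨orb_product_subset N hn h1 rfl, orb_product_subset N hn h2 rfl⟩, by group⟩
  have hm : ∀ z : G, ∀ w ∈ orb N z, m w = m z := by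
    intro z w hw
    obtain ⟨n, hn, rfl⟩ := (mem_orb N).1 hw
    refine (Finset.card_bij' (fun q _ => (n * q.1 * n⁻¹, n * q.2 * n⁻¹))
      (fun q _ => (n⁻¹ * q.1 * n, n⁻¹ * q.2 * n)) ?_ ?_ ?_ ?_).symm
    · intro q hq
      obtain ⟨hq, hqe⟩ := Finset.mem_filter.1 hq
      obtain ⟨h1, h2⟩ := Finset.mem_product.1 hq
      refine Finset.mem_filter.2 ⟨Finset.mem_product.2
        ⟨orb_product_subset N hn h1 rfl, orb_product_subset N hn h2 rfl⟩, ?_⟩
      rw [← hqe]; group
    · intro q hq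
      obtain ⟨hq, hqe⟩ := Finset.mem_filter.1 hq
      obtain ⟨h1, h2⟩ := Finset.mem_product.1 hq
      refine Finset.mem_filter.2 ⟨Finset.mem_product.2
        ⟨orb_product_subset N (inv_mem hn) h1 (by group),
          orb_product_subset N (inv_mem hn) h2 (by group)⟩, ?_⟩
      calc n⁻¹ * q.1 * n * (n⁻¹ * q.2 * n) = n⁻¹ * (q.1 * q.2) * n := by group
        _ = z := by rw [hqe]; group
    · intro q _; ext <;> (simp only []; group)
    · intro q _; ext <;> (simp only []; group)
  have e1 : ∑ q ∈ S, ρ.character (q.1 * q.2) / (Module.finrank ℂ V : ℂ) =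
      ∑ O ∈ s.image (orb N), ∑ z ∈ O, (m z : ℂ) * (ρ.character z / (Module.finrank ℂ V : ℂ)) := by
    rw [← sum_eq_sum_orbits N hs fun z => (m z : ℂ) * (ρ.character z / (Module.finrank ℂ V : ℂ)),
      ← Finset.sum_fiberwise_of_maps_to (t := s) (g := fun q : G × G => q.1 * q.2)
        (fun q hq => Finset.mem_image_of_mem _ hq)]
    refine Finset.sum_congr rfl fun z _ => ?_
    rw [Finset.sum_congr rfl fun q hq => by rw [(Finset.mem_filter.1 hq).2], Finset.sum_const,
      nsmul_eq_mul]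
  have e2 : ∀ g ∈ s, red M (∑ z ∈ orb N g, (m z : ℂ) * (ρ.character z / (Module.finrank ℂ V : ℂ))) =
      ∑ z ∈ orb N g, if z ∈ cenP P then (m z : AlgInt ⧸ M) * phi ρ z (M := M) (N := N) else 0 := by
    intro g hg
    rw [Finset.sum_congr rfl fun z hz => by rw [hm g z hz], ← Finset.mul_sum]
    show red M ((m g : ℂ) * omN N ρ g) = _
    obtain ⟨q, hq, rfl⟩ := Finset.mem_image.1 hg
    rw [red_mul (memLocalRing_natCast _) (memLocalRing_omN ρ _), red_natCast,
      red_omN hpM P ρ (h0 q hq), Finset.mul_sum, ← Finset.sum_filter]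
    exact Finset.sum_congr rfl fun z hz => by rw [hm _ z (Finset.mem_filter.1 hz).1]
  rw [e1, red_sum]
  swap
  · intro O hO
    obtain ⟨g, hg, rfl⟩ := Finset.mem_image.1 hO
    rw [Finset.sum_congr rfl fun z hz => by rw [hm g z hz], ← Finset.mul_sum]
    exact MemLocalRing.mul (memLocalRing_natCast _) (memLocalRing_omN ρ g)
  rw [Finset.sum_congr rfl (g := fun O => ∑ z ∈ O,
    if z ∈ cenP P then (m z : AlgInt ⧸ M) * phi ρ z (M := M) (N := N) else 0) fun O hO => by
    obtain ⟨g, hg, rfl⟩ := Finset.mem_image.1 hO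
    exact e2 g hg]
  rw [← sum_eq_sum_orbits N hs]
  have e3 : ∑ z ∈ s, (if z ∈ cenP P then (m z : AlgInt ⧸ M) * phi ρ z (M := M) (N := N) else 0) =
      ∑ q ∈ S, if q.1 * q.2 ∈ cenP P then phi ρ (q.1 * q.2) (M := M) (N := N) else 0 := by
    rw [← Finset.sum_fiberwise_of_maps_to (t := s) (g := fun q : G × G => q.1 * q.2)
        (fun q hq => Finset.mem_image_of_mem _ hq)]
    refine Finset.sum_congr rfl fun z _ => ?_
    rw [Finset.sum_congr rfl fun q hq => by rw [(Finset.mem_filter.1 hq).2], Finset.sum_const,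
      nsmul_eq_mul]
    split_ifs <;> simp [hmdef]
  rw [e3, ← Finset.sum_coe_sort S]
  letI act : MulAction (P : Subgroup N) S :=
    { smul := fun u q => ⟨(((u : N) : G) * q.1.1 * ((u : N) : G)⁻¹,
          ((u : N) : G) * q.1.2 * ((u : N) : G)⁻¹), Finset.mem_product.2
        ⟨orb_product_subset N (u : N).2 (Finset.mem_product.1 q.2).1 rfl,
          orb_product_subset N (u : N).2 (Finset.mem_product.1 q.2).2 rfl⟩⟩
      one_smul := fun q => Subtype.ext (show ((1 : G) * q.1.1 * (1 : G)⁻¹,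
        (1 : G) * q.1.2 * (1 : G)⁻¹) = q.1 by simp)
      mul_smul := fun u v q => Subtype.ext (by
        show (((u * v : N) : G) * q.1.1 * ((u * v : N) : G)⁻¹,
            ((u * v : N) : G) * q.1.2 * ((u * v : N) : G)⁻¹) =
          (((u : N) : G) * (((v : N) : G) * q.1.1 * ((v : N) : G)⁻¹) * ((u : N) : G)⁻¹,
            ((u : N) : G) * (((v : N) : G) * q.1.2 * ((v : N) : G)⁻¹) * ((u : N) : G)⁻¹)
        push_cast
        ext <;> (simp only []; group)) }
  rw [sum_eq_sum_fixedPoints (Q := (P : Subgroup N)) P.isPGroup' (α := S)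
    (nsmul_res_eq_zero (M := M) hpM)]
  · refine Finset.sum_bij (fun q _ => q.1) (fun q hq => ?_) (fun a _ b _ hab => Subtype.ext hab)
      (fun q hq => ?_) (fun q hq => ?_)
    · have h := (Finset.mem_filter.1 hq).2
      obtain ⟨h1, h2⟩ := Finset.mem_product.1 q.2
      exact Finset.mem_product.2 ⟨Finset.mem_filter.2 ⟨h1, (mem_cenP P).2 fun u hu =>
          mul_inv_eq_iff_eq_mul.1 (congrArg (fun x => x.1.1) (h ⟨u, hu⟩))⟩,
        Finset.mem_filter.2 ⟨h2, (mem_cenP P).2 fun u hu =>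
          mul_inv_eq_iff_eq_mul.1 (congrArg (fun x => x.1.2) (h ⟨u, hu⟩))⟩⟩
    · obtain ⟨h1, h2⟩ := Finset.mem_product.1 hq
      obtain ⟨h1, h1'⟩ := Finset.mem_filter.1 h1
      obtain ⟨h2, h2'⟩ := Finset.mem_filter.1 h2
      refine ⟨⟨q, Finset.mem_product.2 ⟨h1, h2⟩⟩,
        Finset.mem_filter.2 ⟨Finset.mem_univ _, fun u => Subtype.ext (Prod.ext ?_ ?_)⟩, rfl⟩
      · exact mul_inv_eq_iff_eq_mul.2 ((mem_cenP P).1 h1' u u.2)
      · exact mul_inv_eq_iff_eq_mul.2 ((mem_cenP P).1 h2' u u.2)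
    · have h := (Finset.mem_filter.1 hq).2
      rw [if_pos]
      exact mul_mem
        ((mem_cenP P).2 fun u hu => mul_inv_eq_iff_eq_mul.1
          (congrArg (fun x => x.1.1) (h ⟨u, hu⟩)))
        ((mem_cenP P).2 fun u hu => mul_inv_eq_iff_eq_mul.1
          (congrArg (fun x => x.1.2) (h ⟨u, hu⟩)))
  · intro u q
    show (if ((u : N) : G) * q.1.1 * ((u : N) : G)⁻¹ * (((u : N) : G) * q.1.2 * ((u : N) : G)⁻¹) ∈
        cenP P then phi ρ (((u : N) : G) * q.1.1 * ((u : N) : G)⁻¹ *
          (((u : N) : G) * q.1.2 * ((u : N) : G)⁻¹)) (M := M) (N := N) else 0) =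
      if q.1.1 * q.1.2 ∈ cenP P then phi ρ (q.1.1 * q.1.2) (M := M) (N := N) else 0
    rw [show ((u : N) : G) * q.1.1 * ((u : N) : G)⁻¹ * (((u : N) : G) * q.1.2 * ((u : N) : G)⁻¹) =
      ((u : N) : G) * (q.1.1 * q.1.2) * ((u : N) : G)⁻¹ by group]
    set z := q.1.1 * q.1.2
    have hiff : ((u : N) : G) * z * ((u : N) : G)⁻¹ ∈ cenP P ↔ z ∈ cenP P := by
      constructor <;> intro hz
      · have h := (mem_cenP P).1 hz (u : N) u.2
        have e : ((u : N) : G) * z * ((u : N) : G)⁻¹ = z := by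
          have h' := congrArg (fun x => ((u : N) : G)⁻¹ * x) h
          simpa [mul_assoc] using h'
        rwa [e] at hz
      · have h := (mem_cenP P).1 hz (u : N) u.2
        rwa [h, mul_inv_cancel_right]
    rw [phi_congr ρ ((mem_orb N).2 ⟨((u : N) : G), (u : N).2, rfl⟩)]
    simp only [hiff]

variable (hcov : N ⊔ cenP P = ⊤) (hN : ∀ h ∈ N, red M (omN N ρ h) = ((orb N h).card : AlgInt ⧸ M))

include hcov in
theorem exists_coset_rep (g : G) : ∃ c ∈ cenP P, g⁻¹ * c ∈ N := by
  obtain ⟨n, hn, c, hc, rfl⟩ := Subgroup.mem_sup_of_normal_left.1 (hcov ▸ Subgroup.mem_top g)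
  refine ⟨c, hc, ?_⟩
  have := (inferInstance : N.Normal).conj_mem _ (inv_mem hn) c⁻¹
  simpa [mul_assoc] using this

include hpM hN in
theorem vanishes_of_mem {g : G} (hg : g ∈ N) : Vanishes (M := M) P ρ g := fun h => by
  rw [hN g hg, card_orb_cast hpM P g, Finset.filter_eq_empty_iff.2 fun z hz => h z hz,
    Finset.card_empty, Nat.cast_zero]

include hpM hN in
theorem phi_of_mem {g : G} (hg : g ∈ N) (hgC : g ∈ cenP P) :
    phi (M := M) (N := N) ρ g = 1 := by
  rw [phi, hN g hg, div_self (cast_card_orb_ne_zero hpM P hgC)]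

theorem mul_mem_of_orb {a b a' b' : G} (ha : a' ∈ orb N a) (hb : b' ∈ orb N b) :
    (a * b)⁻¹ * (a' * b') ∈ N := by
  have h1 := (inferInstance : N.Normal).conj_mem _ (orb_subset_coset N ha) b⁻¹
  have h2 := mul_mem h1 (orb_subset_coset N hb)
  simpa [mul_assoc] using h2

include hpM P hN in
theorem red_omN_mul_of_mem {a b : G} (hab : a * b ∈ N) :
    red M (omN N ρ a) * red M (omN N ρ b) =
      ((orb N a).card : AlgInt ⧸ M) * (orb N b).card := by
  have hmem : ∀ q ∈ orb N a ×ˢ orb N b, q.1 * q.2 ∈ N := fun q hq => by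
    have h := mul_mem hab
      (mul_mem_of_orb (Finset.mem_product.1 hq).1 (Finset.mem_product.1 hq).2)
    rwa [mul_inv_cancel_left] at h
  rw [red_omN_mul hpM P ρ a b fun q hq => vanishes_of_mem hpM P ρ hN (hmem q hq),
    Finset.sum_congr rfl (g := fun _ => (1 : AlgInt ⧸ M)) fun q hq => ?_, Finset.sum_const,
    Finset.card_product, nsmul_one, Nat.cast_mul, ← card_orb_cast hpM P a, ← card_orb_cast hpM P b]
  obtain ⟨h1, h2⟩ := Finset.mem_product.1 hq
  exact phi_of_mem hpM P ρ hN
    (hmem q (Finset.mem_product.2 ⟨(Finset.mem_filter.1 h1).1, (Finset.mem_filter.1 h2).1⟩))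
    (mul_mem (Finset.mem_filter.1 h1).2 (Finset.mem_filter.1 h2).2)

include hpM hN in
theorem phi_mul_phi_of_mem {a b : G} (ha : a ∈ cenP P) (hb : b ∈ cenP P) (hab : a * b ∈ N) :
    phi (M := M) (N := N) ρ a * phi (M := M) (N := N) ρ b = 1 := by
  rw [phi, phi, div_mul_div_comm, red_omN_mul_of_mem hpM P ρ hN hab,
    div_self (mul_ne_zero (cast_card_orb_ne_zero hpM P ha) (cast_card_orb_ne_zero hpM P hb))]

include hpM hN in
theorem phi_coset {a b : G} (ha : a ∈ cenP P) (hb : b ∈ cenP P) (hab : a⁻¹ * b ∈ N) :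
    phi (M := M) (N := N) ρ a = phi (M := M) (N := N) ρ b := by
  have h1 := phi_mul_phi_of_mem hpM P ρ hN (inv_mem ha) ha (by simp [N.one_mem])
  have h2 := phi_mul_phi_of_mem hpM P ρ hN (inv_mem ha) hb hab
  exact mul_left_cancel₀ (fun h0 => zero_ne_one (by rw [← h1, h0, zero_mul])) (h1.trans h2.symm)

include hpM hcov hN in
theorem vanishes_all (g : G) : Vanishes (M := M) P ρ g := by
  intro h
  obtain ⟨c, hc, hgc⟩ := exists_coset_rep P hcov g
  have hgN : g * c⁻¹ ∈ N := by
    have := (inferInstance : N.Normal).conj_mem _ (inv_mem hgc) c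
    simpa [mul_assoc] using this
  have h1 := red_omN_mul_of_mem hpM P ρ hN hgN
  rw [card_orb_cast hpM P g, Finset.filter_eq_empty_iff.2 fun z hz => h z hz, Finset.card_empty,
    Nat.cast_zero, zero_mul, mul_eq_zero] at h1
  refine h1.resolve_right fun h0 => ?_
  have h2 := phi_mul_phi_of_mem hpM P ρ hN hc (inv_mem hc) (by simp [N.one_mem])
  rw [phi, phi, h0, zero_div, mul_zero] at h2
  exact zero_ne_one h2

include hpM hcov hN in
theorem phi_mul {a b : G} (ha : a ∈ cenP P) (hb : b ∈ cenP P) :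
    phi (M := M) (N := N) ρ a * phi (M := M) (N := N) ρ b =
      phi (M := M) (N := N) ρ (a * b) := by
  have h := red_omN_mul hpM P ρ a b fun q _ => vanishes_all hpM P ρ hcov hN _
  rw [Finset.sum_congr rfl (g := fun _ => phi (M := M) (N := N) ρ (a * b)) fun q hq => by
    obtain ⟨h1, h2⟩ := Finset.mem_product.1 hq
    exact (phi_coset hpM P ρ hN (mul_mem ha hb)
      (mul_mem (Finset.mem_filter.1 h1).2 (Finset.mem_filter.1 h2).2)
      (mul_mem_of_orb (Finset.mem_filter.1 h1).1 (Finset.mem_filter.1 h2).1)).symm,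
    Finset.sum_const, Finset.card_product, nsmul_eq_mul, Nat.cast_mul,
    ← card_orb_cast hpM P a, ← card_orb_cast hpM P b] at h
  rw [phi, phi, div_mul_div_comm, h, mul_div_cancel_left₀]
  exact mul_ne_zero (cast_card_orb_ne_zero hpM P ha) (cast_card_orb_ne_zero hpM P hb)

include hpM hcov hN in
/-- The linear character modulo `M`. -/
theorem exists_residue_hom : ∃ Φ : G →* AlgInt ⧸ M, (∀ n ∈ N, Φ n = 1) ∧
    ∀ c ∈ cenP P, Φ c * phi (M := M) (N := N) ρ c = 1 := by
  choose r hr hr' using fun g => exists_coset_rep P hcov g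
  have hval : ∀ g c, c ∈ cenP P → g⁻¹ * c ∈ N →
      phi (M := M) (N := N) ρ (r g)⁻¹ = phi (M := M) (N := N) ρ c⁻¹ := fun g c hc hgc => by
    refine phi_coset hpM P ρ hN (inv_mem (hr g)) (inv_mem hc) ?_
    have := (inferInstance : N.Normal).conj_mem _ (mul_mem (inv_mem (hr' g)) hgc) (r g)
    simp only [inv_inv, mul_inv_rev, mul_assoc, mul_inv_cancel_left] at this ⊢
    have := inv_mem this
    simpa [mul_assoc] using this
  refine ⟨{ toFun := fun g => phi (M := M) (N := N) ρ (r g)⁻¹, map_one' := ?_, map_mul' := ?_ },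
    fun n hn => ?_, fun c hc => ?_⟩
  · rw [hval 1 1 (one_mem _) (by simp [N.one_mem])]
    exact phi_of_mem hpM P ρ hN (by simp [N.one_mem]) (by simp [one_mem])
  · intro g h
    rw [hval (g * h) (r g * r h) (mul_mem (hr g) (hr h)) ?_, mul_inv_rev,
      ← phi_mul hpM P ρ hcov hN (inv_mem (hr h)) (inv_mem (hr g)), mul_comm]
    have := mul_mem ((inferInstance : N.Normal).conj_mem _ (hr' g) h⁻¹) (hr' h)
    simpa [mul_assoc] using this
  · show phi (M := M) (N := N) ρ (r n)⁻¹ = 1
    rw [hval n 1 (one_mem _) (by simpa using inv_mem hn)]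
    exact phi_of_mem hpM P ρ hN (by simp [N.one_mem]) (by simp [one_mem])
  · show phi (M := M) (N := N) ρ (r c)⁻¹ * _ = 1
    rw [hval c c hc (by simp [N.one_mem])]
    exact phi_mul_phi_of_mem hpM P ρ hN (inv_mem hc) hc (by simp [N.one_mem])

end Congruence

section Lift

variable {p : ℕ} [hp : Fact p.Prime] {M : Ideal AlgInt} [M.IsMaximal]

open scoped Cfsg.Agent.Blocks

theorem isIntegral_of_pow_eq_one {ζ : ℂ} {n : ℕ} (hn : 0 < n) (h : ζ ^ n = 1) : IsIntegral ℤ ζ :=
  IsIntegral.of_pow hn (h ▸ isIntegral_one)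

/-- Homomorphisms to the residue field lift to linear characters. -/
theorem exists_lift (hpM : (p : AlgInt) ∈ M) (Φ : G →* AlgInt ⧸ M) :
    ∃ lam : G →* ℂ, ∀ g, MemLocalRing M (lam g) ∧ red M (lam g) = Φ g ∧
      (Φ g = 1 → lam g = 1) := by
  haveI := charP_residue hpM
  set a := (Nat.card G).factorization p
  set n := Nat.card G / p ^ a with hndef
  have hn : p ^ a * n = Nat.card G := Nat.ordProj_mul_ordCompl_eq_self _ p
  have hn0 : 0 < n := Nat.pos_of_ne_zero fun h0 => (Nat.card_pos (α := G)).ne' (by rw [← hn, h0, mul_zero])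
  have hnd : ¬ p ∣ n := Nat.not_dvd_ordCompl hp.out Nat.card_pos.ne'
  have hloc : ∀ ζ : ℂ, ζ ^ n = 1 → MemLocalRing M ζ := fun ζ h =>
    memLocalRing_of_isIntegral (isIntegral_of_pow_eq_one hn0 h)
  have hinj : ∀ ζ η : ℂ, ζ ^ n = 1 → η ^ n = 1 → red M ζ = red M η → ζ = η := by
    have key : ∀ ζ : ℂ, ζ ^ n = 1 → red M ζ = 1 → ζ = 1 := by
      intro ζ hζ hr
      by_contra hne
      have h0 : ∑ i ∈ Finset.range n, ζ ^ i = 0 := by
        have := geom_sum_mul ζ n
        rw [hζ, sub_self, mul_eq_zero] at this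
        exact this.resolve_right (sub_ne_zero.2 hne)
      have h1 := congrArg (red M) h0
      rw [red_sum _ fun i _ => MemLocalRing.pow (hloc ζ hζ) i, red_zero] at h1
      simp only [red_pow (hloc ζ hζ), hr, one_pow, Finset.sum_const, Finset.card_range,
        nsmul_one] at h1
      exact hnd ((CharP.cast_eq_zero_iff (AlgInt ⧸ M) p n).1 h1)
    intro ζ η hζ hη h
    have hη0 : η ≠ 0 := by rintro rfl; rw [zero_pow hn0.ne'] at hη; exact zero_ne_one hη
    have hi : η⁻¹ ^ n = 1 := by rw [inv_pow, hη, inv_one]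
    have := key (ζ * η⁻¹) (by rw [mul_pow, hζ, hi, one_mul]) (by
      rw [red_mul (hloc ζ hζ) (hloc _ hi), h, ← red_mul (hloc η hη) (hloc _ hi),
        mul_inv_cancel₀ hη0, red_one])
    exact (mul_inv_eq_one₀ hη0).1 this
  have himg : (Polynomial.nthRootsFinset n (1 : ℂ)).image (red M) =
      Polynomial.nthRootsFinset n (1 : AlgInt ⧸ M) := by
    refine Finset.eq_of_subset_of_card_le (fun x hx => ?_) ?_
    · obtain ⟨ζ, hζ, rfl⟩ := Finset.mem_image.1 hx
      rw [Polynomial.mem_nthRootsFinset hn0] at hζ ⊢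
      rw [← red_pow (hloc ζ hζ), hζ, red_one]
    · rw [Finset.card_image_of_injOn fun ζ hζ η hη h => hinj ζ η
        ((Polynomial.mem_nthRootsFinset hn0 1).1 hζ) ((Polynomial.mem_nthRootsFinset hn0 1).1 hη) h,
        (Complex.isPrimitiveRoot_exp n hn0.ne').card_nthRootsFinset, Polynomial.nthRootsFinset_def]
      exact (Multiset.toFinset_card_le _).trans (Polynomial.card_nthRoots n 1)
  have hΦn : ∀ g, Φ g ^ n = 1 := fun g => by
    haveI : ExpChar (AlgInt ⧸ M) p := ExpChar.prime hp.out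
    have h : (Φ g ^ n) ^ p ^ a = 1 := by
      rw [← pow_mul, Nat.mul_comm n, hn, ← map_pow, pow_card_eq_one', map_one]
    exact iterateFrobenius_inj (AlgInt ⧸ M) p a (by simpa [iterateFrobenius_def] using h)
  have hex : ∀ g, ∃ ζ : ℂ, ζ ^ n = 1 ∧ red M ζ = Φ g := fun g => by
    have h : Φ g ∈ (Polynomial.nthRootsFinset n (1 : ℂ)).image (red M) := by
      rw [himg, Polynomial.mem_nthRootsFinset hn0]
      exact hΦn g
    obtain ⟨ζ, hζ, h⟩ := Finset.mem_image.1 h
    exact ⟨ζ, (Polynomial.mem_nthRootsFinset hn0 1).1 hζ, h⟩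
  choose f hf hf' using hex
  refine ⟨{ toFun := f, map_one' := ?_, map_mul' := ?_ }, fun g => ⟨hloc _ (hf g), hf' g, ?_⟩⟩
  · exact hinj _ _ (hf 1) (one_pow n) (by rw [hf', map_one, red_one])
  · intro x y
    exact hinj _ _ (hf _) (by rw [mul_pow, hf, hf, one_mul])
      (by rw [hf', map_mul, red_mul (hloc _ (hf x)) (hloc _ (hf y)), hf', hf'])
  · intro h
    exact hinj _ _ (hf g) (one_pow n) ((hf' g).trans (h.trans red_one.symm))

end Lift

theorem irreducible_of_subgroup {V : Type*} [AddCommGroup V] [Module ℂ V] (N J : Subgroup G)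
    (hNJ : N ≤ J) (ρ : Representation ℂ G V)
    [hirr : Representation.IsIrreducible (ρ.comp N.subtype : Representation ℂ N V)] :
    Representation.IsIrreducible (ρ.comp J.subtype : Representation ℂ J V) := by
  let e : Subrepresentation (ρ.comp J.subtype : Representation ℂ J V) →
      Subrepresentation (ρ.comp N.subtype : Representation ℂ N V) :=
    fun W => ⟨W.toSubmodule, fun n _ hv => W.apply_mem_toSubmodule ⟨n, hNJ n.2⟩ hv⟩
  haveI := CharInt.nontrivial_of_irreducible (ρ.comp N.subtype : Representation ℂ N V)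
  have hne : (⊥ : Subrepresentation (ρ.comp J.subtype : Representation ℂ J V)) ≠ ⊤ :=
    fun h => bot_ne_top (α := Submodule ℂ V) (congrArg Subrepresentation.toSubmodule h)
  haveI : Nontrivial (Subrepresentation (ρ.comp J.subtype : Representation ℂ J V)) := ⟨⊥, ⊤, hne⟩
  exact ⟨fun W => (IsSimpleOrder.eq_bot_or_eq_top (e W)).imp
    (fun (h : e W = ⊥) => Subrepresentation.toSubmodule_injective
      (congrArg Subrepresentation.toSubmodule h :))
    (fun (h : e W = ⊤) => Subrepresentation.toSubmodule_injective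
      (congrArg Subrepresentation.toSubmodule h :))⟩

/-- Let G be a finite group, p a prime, M a maximal ideal of the algebraic integers containing p, N a normal subgroup of G and P a Sylow p-subgroup of N such that G = N·C_G(P). Let θ be an irreducible character in the principal p-block of N that is the restriction of some irreducible character of G. Then θ is the restriction of an irreducible character χ of G lying in the principal p-block of G such that, for every subgroup J of G containing N, the restriction of χ to J is an irreducible character of J lying in the principal p-block of J. -/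
theorem result {G : Type*} [Group G] [Finite G] (p : ℕ) [Fact p.Prime] (M : Ideal Cfsg.AlgInt) (hM : Cfsg.IsPModular p M) (N : Subgroup G) [N.Normal] (P : Sylow p ↥N)
    (hcov : N ⊔ Subgroup.centralizer (((P : Subgroup ↥N).map N.subtype : Subgroup G) : Set G) = ⊤)
    (θ : Cfsg.IrrCharacter ↥N) (hθ : θ ∈ Cfsg.principalBlock M ↥N)
    (hext : ∃ ψ : Cfsg.IrrCharacter G, ∀ x : ↥N, (ψ : G → ℂ) x = (θ : ↥N → ℂ) x) :
    ∃ χ : Cfsg.IrrCharacter G, χ ∈ Cfsg.principalBlock M G ∧ (∀ x : ↥N, (χ : G → ℂ) x = (θ : ↥N → ℂ) x) ∧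
      ∀ J : Subgroup G, N ≤ J → ∃ ξ : Cfsg.IrrCharacter ↥J, ξ ∈ Cfsg.principalBlock M ↥J ∧ ∀ y : ↥J, (ξ : ↥J → ℂ) y = (χ : G → ℂ) y := by
  haveI := hM.2.1
  have hpM := hM.2.2
  haveI := Fintype.ofFinite G
  obtain ⟨ψ, hψ⟩ := hext
  obtain ⟨d, ρ, hρ, hρψ⟩ := ψ.2
  set d' := Module.finrank ℂ (Fin d → ℂ) with hd'
  haveI hirr : Representation.IsIrreducible (ρ.comp N.subtype : Representation ℂ N (Fin d → ℂ)) := by
    refine Char.isIrreducible_of_classInner_eq_one _ ?_
    have : Representation.character (ρ.comp N.subtype : Representation ℂ N (Fin d → ℂ)) = θ.1 := funext fun x => by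
      rw [← hψ x, ← hρψ]; rfl
    rw [this]
    exact Char.classInner_irr_self θ.2
  have hd : (d' : ℂ) = θ.1 1 := by
    rw [← hψ 1, Subgroup.coe_one, ← hρψ, Representation.char_one, hd']
  have hd0 : (d' : ℂ) ≠ 0 := hd ▸ Char.IsIrrCharacter.apply_one_ne_zero θ.2
  -- the principal block condition on `N`
  have hN : ∀ h ∈ N, red M (omN N ρ h) = ((orb N h).card : AlgInt ⧸ M) := by
    intro h hh
    have hidx : (Subgroup.centralizer ({(⟨h, hh⟩ : N)} : Set N)).index = (orb N h).card := by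
      rw [card_orb]
      congr 1
      ext n
      simp only [Subgroup.mem_subgroupOf, Subgroup.mem_centralizer_singleton_iff, Subtype.ext_iff,
        Subgroup.coe_mul]
    have hsame : MemLocalIdeal M (centralChar (fun _ : N => (1 : ℂ)) ⟨h, hh⟩ -
        centralChar θ.1 ⟨h, hh⟩) := hθ ⟨h, hh⟩
    have e1 : centralChar (fun _ : N => (1 : ℂ)) ⟨h, hh⟩ = ((orb N h).card : ℂ) := by
      simp [centralChar, hidx]
    have e2 : centralChar θ.1 ⟨h, hh⟩ = omN N ρ h := by
      rw [centralChar, hidx, omN, ← hd, ← hψ ⟨h, hh⟩, ← hρψ, Finset.sum_congr rfl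
        (g := fun _ => ρ.character h / (d' : ℂ)) fun z hz => ?_, Finset.sum_const, nsmul_eq_mul,
        mul_div_assoc]
      obtain ⟨n, -, rfl⟩ := (mem_orb N).1 hz
      rw [ρ.char_conj, hd']
    rw [e1, e2] at hsame
    exact ((red_eq_iff (memLocalRing_natCast _) (memLocalRing_omN ρ h)).2 hsame).symm.trans
      (red_natCast _)
  obtain ⟨Φ, hΦN, hΦC⟩ := exists_residue_hom hpM P ρ hcov hN
  obtain ⟨lam, hlam⟩ := exists_lift hpM Φ
  have hlamN : ∀ n ∈ N, lam n = 1 := fun n hn => (hlam n).2.2 (hΦN n hn)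
  set f : G → ℂ := fun z => lam z * ρ.character z / (d' : ℂ) with hf
  -- the twisted orbit sums
  have hf1 : ∀ g, MemLocalRing M (∑ z ∈ orb N g, f z) ∧
      red M (∑ z ∈ orb N g, f z) = ((orb N g).card : AlgInt ⧸ M) := by
    intro g
    have e : ∑ z ∈ orb N g, f z = lam g * omN N ρ g := by
      rw [omN, Finset.mul_sum]
      refine Finset.sum_congr rfl fun z hz => ?_
      have : lam z = lam g := by
        rw [show z = g * (g⁻¹ * z) by group, map_mul, hlamN _ (orb_subset_coset N hz), mul_one]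
      rw [hf]
      simp only [this, hd', mul_div_assoc]
    refine ⟨e ▸ MemLocalRing.mul (hlam g).1 (memLocalRing_omN ρ g), ?_⟩
    rw [e, red_mul (hlam g).1 (memLocalRing_omN ρ g), (hlam g).2.1]
    by_cases hex : ∃ z ∈ orb N g, z ∈ cenP P
    · obtain ⟨z, hz, hzC⟩ := hex
      have h1 := hΦC z hzC
      have hΦz : Φ z = Φ g := by
        rw [show z = g * (g⁻¹ * z) by group, map_mul, hΦN _ (orb_subset_coset N hz), mul_one]
      rw [hΦz, phi_congr ρ hz, phi, ← mul_div_assoc, div_eq_one_iff_eq] at h1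
      · exact h1
      · have := cast_card_orb_ne_zero hpM P hzC
        rwa [orb_eq N hz] at this
    · push Not at hex
      rw [vanishes_all hpM P ρ hcov hN g hex, mul_zero, card_orb_cast hpM P g,
        Finset.filter_eq_empty_iff.2 fun z hz => hex z hz, Finset.card_empty, Nat.cast_zero]
  have hsum : ∀ s : Finset G, (∀ z ∈ s, orb N z ⊆ s) →
      MemLocalIdeal M ((s.card : ℂ) - ∑ z ∈ s, f z) := by
    intro s hs
    have hloc : MemLocalRing M (∑ z ∈ s, f z) := by
      rw [sum_eq_sum_orbits N hs]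
      refine MemLocalRing.sum _ fun O hO => ?_
      obtain ⟨g, -, rfl⟩ := Finset.mem_image.1 hO
      exact (hf1 g).1
    refine (red_eq_iff (memLocalRing_natCast _) hloc).1 ?_
    rw [red_natCast, sum_eq_sum_orbits N hs, red_sum, Finset.sum_congr rfl
      (g := fun O => (O.card : AlgInt ⧸ M)) fun O hO => ?_, Finset.card_eq_sum_ones,
      sum_eq_sum_orbits N hs, Nat.cast_sum]
    · exact Finset.sum_congr rfl fun O _ => by rw [← Finset.card_eq_sum_ones]
    · obtain ⟨g, -, rfl⟩ := Finset.mem_image.1 hO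
      exact (hf1 g).2
    · intro O hO
      obtain ⟨g, -, rfl⟩ := Finset.mem_image.1 hO
      exact (hf1 g).1
  -- the extension
  let χ : IrrCharacter G := ⟨⇑lam * ψ.1, Char.IsIrrCharacter.mul_linear ψ.2 lam⟩
  have hχ : ∀ g, χ.1 g = lam g * ρ.character g := fun g => by
    show lam g * ψ.1 g = _
    rw [hρψ]
  have hχ1 : χ.1 1 = (d' : ℂ) := by rw [hχ, map_one, one_mul, Representation.char_one, hd']
  -- membership in the principal blocks
  have key : ∀ (H : Subgroup G), N ≤ H → ∀ y : H,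
      MemLocalIdeal M (centralChar (fun _ : H => (1 : ℂ)) y -
        centralChar (fun z : H => χ.1 z) y) := by
    intro H hNH y
    set s := (Finset.univ.filter fun z : H => IsConj y z).map ⟨Subtype.val, Subtype.val_injective⟩
      with hsdef
    have hstab : ∀ z ∈ s, orb N z ⊆ s := by
      intro z hz w hw
      obtain ⟨n, hn, rfl⟩ := (mem_orb N).1 hw
      obtain ⟨z', hz', rfl⟩ := Finset.mem_map.1 hz
      refine Finset.mem_map.2 ⟨⟨n, hNH hn⟩ * z' * ⟨n, hNH hn⟩⁻¹,
        Finset.mem_filter.2 ⟨Finset.mem_univ _, ?_⟩, rfl⟩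
      exact (Finset.mem_filter.1 hz').2.trans (isConj_iff.2 ⟨⟨n, hNH hn⟩, rfl⟩)
    have hcard : s.card = (Subgroup.centralizer ({y} : Set H)).index := by
      rw [hsdef, Finset.card_map, ← CharInt.natCard_isConj, Nat.card_eq_fintype_card,
        Fintype.card_subtype]
    have e2 : centralChar (fun z : H => χ.1 z) y = ∑ z ∈ s, f z := by
      rw [centralChar, ← hcard, hsdef, Finset.sum_map, Finset.card_map, Finset.sum_congr rfl
        (g := fun _ => χ.1 y / (d' : ℂ)) fun z hz => ?_, Finset.sum_const, nsmul_eq_mul,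
        Subgroup.coe_one, hχ1, mul_div_assoc]
      obtain ⟨c, hc⟩ := isConj_iff.1 (Finset.mem_filter.1 hz).2
      show lam (z : G) * ρ.character (z : G) / (d' : ℂ) = _
      rw [← hχ (z : G)]
      simp only [← hc, Subgroup.coe_mul, Subgroup.coe_inv]
      rw [CharInt.char_conj_apply (Char.irr_isCharacter χ)]
    have e1 : centralChar (fun _ : H => (1 : ℂ)) y = (s.card : ℂ) := by simp [centralChar, hcard]
    rw [e1, e2]
    exact hsum s hstab
  refine ⟨χ, fun g => ?_, fun x => ?_, fun J hNJ => ?_⟩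
  · have h := hsum (Finset.univ.filter fun z : G => IsConj g z) fun z hz w hw => by
      obtain ⟨n, -, rfl⟩ := (mem_orb N).1 hw
      exact Finset.mem_filter.2 ⟨Finset.mem_univ _,
        (Finset.mem_filter.1 hz).2.trans (isConj_iff.2 ⟨n, rfl⟩)⟩
    have hcard : (Finset.univ.filter fun z : G => IsConj g z).card =
        (Subgroup.centralizer ({g} : Set G)).index := by
      rw [← CharInt.natCard_isConj, Nat.card_eq_fintype_card, Fintype.card_subtype]
    show MemLocalIdeal M (centralChar (fun _ : G => (1 : ℂ)) g - centralChar χ.1 g)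
    have e1 : centralChar (fun _ : G => (1 : ℂ)) g =
        ((Finset.univ.filter fun z : G => IsConj g z).card : ℂ) := by rw [hcard]; simp [centralChar]
    have e2 : centralChar χ.1 g = ∑ z ∈ Finset.univ.filter (fun z : G => IsConj g z), f z := by
      rw [centralChar, ← hcard, Finset.sum_congr rfl (g := fun _ => χ.1 g / (d' : ℂ))
        fun z hz => ?_, Finset.sum_const, nsmul_eq_mul, hχ1, mul_div_assoc]
      obtain ⟨c, hc⟩ := isConj_iff.1 (Finset.mem_filter.1 hz).2
      show lam z * ρ.character z / (d' : ℂ) = _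
      rw [← hχ z, ← hc]
      rw [CharInt.char_conj_apply (Char.irr_isCharacter χ)]
    rw [e1, e2]
    exact h
  · rw [hχ, hlamN x x.2, one_mul, ← hψ x, hρψ]
  · let ρ' : Representation ℂ G (Fin d → ℂ) :=
      { toFun := fun g => lam g • ρ g
        map_one' := by simp
        map_mul' := fun a b => by rw [map_mul, map_mul, smul_mul_smul_comm] }
    haveI : Representation.IsIrreducible (ρ'.comp N.subtype : Representation ℂ N (Fin d → ℂ)) := by
      have e : (ρ'.comp N.subtype : Representation ℂ N (Fin d → ℂ)) = ρ.comp N.subtype :=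
        MonoidHom.ext fun n => by
          show lam n • ρ n = ρ n
          rw [hlamN n n.2, one_smul]
      rw [e]; exact hirr
    have hJ := irreducible_of_subgroup N J hNJ ρ'
    have hval : ∀ y : J, Representation.character (ρ'.comp J.subtype : Representation ℂ J (Fin d → ℂ)) y =
        χ.1 y := fun y => by
      rw [hχ]
      show LinearMap.trace ℂ _ (lam y • ρ y) = _
      rw [map_smul, smul_eq_mul]
      rfl
    exact ⟨⟨fun y : J => χ.1 y, _, ρ'.comp J.subtype, hJ, funext hval⟩, key J hNJ, fun y => rfl⟩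

end Cfsg.Agent.S4937
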