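import Cfsg.Statements.S4955
import Cfsg.Agent.Lib.Char.Ito
import Cfsg.Agent.Lib.CharInt.GaloisAverage
import Mathlib

set_option autoImplicit false
open Cfsg

namespace Cfsg.Agent.S4955

open Polynomial in
/-- A sum of `n` roots of unity of `p`-power order vanishes only if `p ∣ n`. -/
theorem dvd_card_of_sum_eq_zero {p a n : ℕ} [Fact p.Prime] (μ : Fin n → ℂ)
    (hμ : ∀ i, μ i ^ (p ^ a) = 1) (h : ∑ i, μ i = 0) : p ∣ n := by
  rcases a with _ | a
  · have h1 : ∀ i, μ i = 1 := fun i => by simpa using hμ i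
    simp [h1] at h
    subst h
    exact dvd_zero p
  have : NeZero (p ^ (a + 1)) := ⟨pow_ne_zero _ (Fact.out : p.Prime).ne_zero⟩
  obtain ⟨ζ, hζ⟩ : ∃ ζ : ℂ, IsPrimitiveRoot ζ (p ^ (a + 1)) :=
    ⟨_, Complex.isPrimitiveRoot_exp _ (NeZero.ne _)⟩
  choose e he he' using fun i => hζ.eq_pow_of_pow_eq_one (hμ i)
  let f : ℤ[X] := ∑ i, X ^ e i
  have h0 : aeval ζ f = 0 := by simp [f, he', h]
  have hd := minpoly.isIntegrallyClosed_dvd (hζ.isIntegral (NeZero.pos _)) h0
  rw [← cyclotomic_eq_minpoly hζ (NeZero.pos _)] at hd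
  obtain ⟨q, hq⟩ := hd
  have h1 := congrArg (eval (1 : ℤ)) hq
  rw [eval_mul, eval_one_cyclotomic_prime_pow] at h1
  simp [f, eval_finset_sum] at h1
  exact Int.natCast_dvd_natCast.1 ⟨_, h1⟩

/-- Let X be a finite group with an abelian normal Sylow p-subgroup V (a normal p-subgroup of index prime to p in which any two elements commute), and let G be a complement to V in X. Then for every v in V, writing C for the centralizer of v in G, the number k(X) of conjugacy classes of X satisfies k(X) ≤ (order of C)·(order of V) − ((order of G) − k(G)); the statement is written with the subtracted term moved to the left. In particular, if some v in V is centralized by no nonidentity element of G, then k(X) is at most the order of V. -/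
theorem result {X : Type*} [Group X] [Finite X] (p : ℕ) [Fact p.Prime] (V : Subgroup X) [V.Normal] (hVp : IsPGroup p V) (hidx : ¬ p ∣ V.index) (hab : ∀ a ∈ V, ∀ b ∈ V, a * b = b * a) (G : Subgroup X) (hGV : Subgroup.IsComplement' V G) (v : X) (hv : v ∈ V) : Nat.card (ConjClasses X) + Nat.card G ≤ Nat.card ↥(G ⊓ Subgroup.centralizer ({v} : Set X)) * Nat.card V + Nat.card (ConjClasses G) := by
  classical
  have := Fintype.ofFinite X
  have := Fintype.ofFinite ↥G
  set W : Subgroup X := Subgroup.centralizer ({v} : Set X) with hW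
  obtain ⟨a, ha⟩ := hVp.exists_card_eq
  let S : Finset X := Finset.univ.filter fun g => Subgroup.zpowers g = Subgroup.zpowers v
  have hSne : v ∈ S := by simp [S]
  have hSclosed : ∀ g ∈ S, ∀ k : ℕ, k.Coprime (Nat.card X) → g ^ k ∈ S := by
    intro g hg k hk
    simp only [S, Finset.mem_filter, Finset.mem_univ, true_and] at hg ⊢
    rw [← hg]
    refine le_antisymm (Subgroup.zpowers_le.2 ⟨k, by simp⟩) (Subgroup.zpowers_le.2 ?_)
    obtain ⟨m, hm⟩ := exists_pow_eq_self_of_coprime
      (hk.coprime_dvd_right (orderOf_dvd_natCard g))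
    exact ⟨m, by simpa using hm⟩
  have hScent : ∀ g ∈ S, Subgroup.centralizer ({g} : Set X) = W := by
    intro g hg
    simp only [S, Finset.mem_filter, Finset.mem_univ, true_and] at hg
    rw [hW, ← Subgroup.centralizer_closure, ← Subgroup.zpowers_eq_closure, hg,
      Subgroup.zpowers_eq_closure, Subgroup.centralizer_closure]
  have horth : ∀ g ∈ S, ∑ χ : Cfsg.IrrCharacter X, ‖χ.1 g‖ ^ 2 = (Nat.card W : ℝ) := by
    intro g hg
    have h := Cfsg.Agent.Char.sum_irr_mul_conj g g
    rw [if_pos (IsConj.refl g), hScent g hg] at h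
    simp only [Complex.mul_conj, Complex.normSq_eq_norm_sq] at h
    exact_mod_cast h
  have hneS : ∀ (χ : Cfsg.IrrCharacter X), ∀ g ∈ S, χ.1 g ≠ 0 := by
    intro χ g hg
    simp only [S, Finset.mem_filter, Finset.mem_univ, true_and] at hg
    obtain ⟨n, μ, hn, hμ, hval⟩ :=
      Cfsg.Agent.CharInt.exists_roots (Cfsg.Agent.Char.irr_isCharacter χ) g
    have hgV : g ∈ V := (Subgroup.zpowers_le.2 hv : Subgroup.zpowers v ≤ V)
      (hg ▸ Subgroup.mem_zpowers g)
    intro h0
    have hord : ∀ i, μ i ^ (p ^ a) = 1 := fun i => by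
      have h1 : orderOf g ∣ p ^ a := by
        rw [← ha, ← Subgroup.orderOf_mk g hgV]
        exact orderOf_dvd_natCard _
      obtain ⟨d, hd⟩ := h1
      rw [hd, pow_mul, hμ i, one_pow]
    have h1 := hval 1
    rw [pow_one, h0] at h1
    have hdvd := dvd_card_of_sum_eq_zero μ hord (by simpa using h1.symm)
    have hdeg : Cfsg.Agent.Char.degree χ = n := by
      have := Cfsg.Agent.Char.apply_one_eq_degree χ
      rw [hn] at this
      exact_mod_cast this.symm
    exact hidx (hdvd.trans (hdeg ▸ Cfsg.Agent.Char.degree_dvd_index_of_comm V hab χ))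
  let r : X →* ↥G := (hGV.symm.QuotientMulEquiv).toMonoidHom.comp (QuotientGroup.mk' V)
  have hr : Function.Surjective r :=
    hGV.symm.QuotientMulEquiv.surjective.comp (QuotientGroup.mk'_surjective V)
  have hrV : ∀ g ∈ V, r g = 1 := fun g hg => by
    show hGV.symm.QuotientMulEquiv (QuotientGroup.mk' V g) = 1
    rw [show QuotientGroup.mk' V g = 1 from (QuotientGroup.eq_one_iff g).2 hg]
    exact map_one hGV.symm.QuotientMulEquiv
  let inf : Cfsg.IrrCharacter ↥G → Cfsg.IrrCharacter X :=
    fun θ => ⟨_, Cfsg.Agent.Char.IsIrrCharacter.comp_surjective θ.2 r hr⟩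
  have hinf : Function.Injective inf := by
    intro θ θ' h
    refine Subtype.ext (funext fun y => ?_)
    obtain ⟨x, rfl⟩ := hr y
    exact congrFun (congrArg Subtype.val h) x
  let K := Finset.univ.image inf
  have hKcard : K.card = Nat.card (ConjClasses ↥G) := by
    rw [Finset.card_image_of_injective _ hinf, Finset.card_univ, ← Nat.card_eq_fintype_card,
      Cfsg.Agent.Char.card_irr]
  have hlow : ∀ χ : Cfsg.IrrCharacter X, (S.card : ℝ) *
      (if χ ∈ K then (Cfsg.Agent.Char.degree χ : ℝ) ^ 2 else 1) ≤ ∑ g ∈ S, ‖χ.1 g‖ ^ 2 := by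
    intro χ
    split_ifs with h
    · obtain ⟨θ, -, rfl⟩ := Finset.mem_image.1 h
      refine le_of_eq ?_
      rw [← nsmul_eq_mul, ← Finset.sum_const]
      refine Finset.sum_congr rfl fun g hg => ?_
      simp only [S, Finset.mem_filter, Finset.mem_univ, true_and] at hg
      have hgV : g ∈ V := (Subgroup.zpowers_le.2 hv : Subgroup.zpowers v ≤ V)
        (hg ▸ Subgroup.mem_zpowers g)
      have : (inf θ).1 g = (inf θ).1 1 := by
        show θ.1 (r g) = θ.1 (r 1)
        rw [hrV g hgV, map_one]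
      rw [this, Cfsg.Agent.Char.apply_one_eq_degree, Complex.norm_natCast]
    · rw [mul_one]
      exact Cfsg.Agent.CharInt.card_le_sum_norm_sq (Cfsg.Agent.Char.irr_isCharacter χ) S hSclosed
        (hneS χ)
  have hsum := Finset.sum_le_sum fun χ (_ : χ ∈ Finset.univ) => hlow χ
  rw [← Finset.mul_sum, Finset.sum_comm, Finset.sum_congr rfl horth, Finset.sum_const,
    nsmul_eq_mul] at hsum
  have hmain := le_of_mul_le_mul_left hsum
    (by exact_mod_cast Finset.card_pos.2 ⟨v, hSne⟩)
  have hdegsum : ∑ χ ∈ K, (Cfsg.Agent.Char.degree χ : ℝ) ^ 2 = Nat.card ↥G := by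
    rw [Finset.sum_image (fun x _ y _ h => hinf h), ← Cfsg.Agent.Char.sum_degree_sq]
    push_cast
    refine Finset.sum_congr rfl fun θ _ => ?_
    have h1 := Cfsg.Agent.Char.apply_one_eq_degree (inf θ)
    rw [show (inf θ).1 1 = θ.1 (r 1) from rfl, map_one,
      Cfsg.Agent.Char.apply_one_eq_degree] at h1
    rw [show Cfsg.Agent.Char.degree (inf θ) = Cfsg.Agent.Char.degree θ by exact_mod_cast h1.symm]
  rw [← Finset.sum_add_sum_compl K,
    Finset.sum_congr rfl (fun χ hχ => if_pos hχ),
    Finset.sum_congr (s₁ := Kᶜ) rfl (fun χ hχ => if_neg (Finset.mem_compl.1 hχ)),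
    hdegsum, Finset.sum_const, nsmul_eq_mul, mul_one] at hmain
  have hWcard : Nat.card W = Nat.card ↥(G ⊓ W) * Nat.card V := by
    rw [← Nat.card_prod]
    refine (Nat.card_congr (Equiv.ofBijective (fun z : ↥(G ⊓ W) × ↥V =>
      (⟨(z.2 : X) * z.1, W.mul_mem ?_ z.1.2.2⟩ : W)) ⟨?_, ?_⟩)).symm
    · refine Subgroup.mem_centralizer_singleton_iff.2 ?_
      exact hab _ z.2.2 _ hv
    · intro z z' h
      have h' := congrArg Subtype.val h
      have := hGV.injective (a₁ := (z.2, ⟨z.1.1, z.1.2.1⟩)) (a₂ := (z'.2, ⟨z'.1.1, z'.1.2.1⟩)) h'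
      simp only [Prod.mk.injEq, Subtype.mk.injEq] at this
      exact Prod.ext (Subtype.ext this.2) this.1
    · intro w
      obtain ⟨⟨x, g⟩, hxg⟩ := hGV.surjective w.1
      have hxW : (x : X) ∈ W := Subgroup.mem_centralizer_singleton_iff.2 (hab _ x.2 _ hv)
      have hgW : (g : X) ∈ W := by
        have : (g : X) = (x : X)⁻¹ * w.1 := by rw [← hxg]; simp
        rw [this]
        exact W.mul_mem (W.inv_mem hxW) w.2
      exact ⟨(⟨g, g.2, hgW⟩, x), Subtype.ext hxg⟩
  have hcount : (Kᶜ.card : ℝ) + Nat.card (ConjClasses ↥G) = Nat.card (ConjClasses X) := by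
    rw [← hKcard, ← Cfsg.Agent.Char.card_irr (G := X), Nat.card_eq_fintype_card]
    exact_mod_cast Finset.card_compl_add_card K
  have hfinal : (Nat.card (ConjClasses X) : ℝ) + Nat.card ↥G ≤
      ((Nat.card ↥(G ⊓ W) * Nat.card V + Nat.card (ConjClasses ↥G) : ℕ) : ℝ) := by
    rw [hWcard] at hmain
    push_cast at hmain ⊢
    linarith
  exact_mod_cast hfinal

end Cfsg.Agent.S4955
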