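import Cfsg.Statements.S4958
import Cfsg.Agent.Lib.KGV.CoprimeWeight
import Cfsg.Agent.Lib.Char.Ito
import Cfsg.Agent.Lib.CharInt.GaloisAverage
import Cfsg.Agent.S4955
import Mathlib

set_option autoImplicit false
open Cfsg

namespace Cfsg.Agent.S4958

/-- Let X be a finite group and V a normal subgroup of X in which every element has order dividing the prime p, whose index in X is prime to p and which is its own centralizer in X; so V is an elementary abelian normal Sylow p-subgroup, and any complement G to V in X is a group of order prime to p acting faithfully on the vector space V by conjugation (the coprime linear setting of the k(GV) problem). Let G be a complement to V in X and suppose that for some v in V the centralizer of v in G is abelian. Then the number of conjugacy classes of X is at most the order of V (the abelian-stabilizer criterion for the k(GV) problem). -/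
theorem result {X : Type*} [Group X] [Finite X] (p : ℕ) [Fact p.Prime] (V : Subgroup X) [V.Normal] (hVexp : ∀ v ∈ V, v ^ p = 1) (hidx : ¬ p ∣ V.index) (hself : Subgroup.centralizer (V : Set X) = V) (G : Subgroup X) (hGV : Subgroup.IsComplement' V G) (v : X) (hv : v ∈ V) (hab : ∀ a ∈ G ⊓ Subgroup.centralizer ({v} : Set X), ∀ b ∈ G ⊓ Subgroup.centralizer ({v} : Set X), a * b = b * a) : Nat.card (ConjClasses X) ≤ Nat.card V := by
  classical
  have := Fintype.ofFinite X
  set A : Subgroup X := G ⊓ Subgroup.centralizer ({v} : Set X) with hA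
  letI : CommGroup ↥A :=
    { (inferInstance : Group ↥A) with mul_comm := fun a b => Subtype.ext (hab a a.2 b b.2) }
  have habV : ∀ a ∈ V, ∀ b ∈ V, a * b = b * a := fun a ha b hb => by
    have h1 : a ∈ Subgroup.centralizer (V : Set X) := hself.symm ▸ ha
    exact (Subgroup.mem_centralizer_iff.1 h1 b hb).symm
  letI : CommGroup ↥V :=
    { (inferInstance : Group ↥V) with mul_comm := fun a b => Subtype.ext (habV a a.2 b b.2) }
  have := Fintype.ofFinite ↥A
  have hVp : IsPGroup p ↥V := fun x => ⟨1, Subtype.ext (by simpa using hVexp x x.2)⟩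
  obtain ⟨q, hq⟩ := hVp.exists_card_eq
  have hGidx : Nat.card ↥G = V.index := hGV.symm.index_eq_card.symm
  have hcopVG : (Nat.card ↥V).Coprime (Nat.card ↥G) := by
    rw [hq, hGidx]
    exact ((Fact.out : p.Prime).coprime_iff_not_dvd.2 hidx).pow_left q
  have hAG : Nat.card ↥A ∣ Nat.card ↥G := Subgroup.card_dvd_of_le inf_le_left
  have hGVbot : ∀ x : X, x ∈ V → x ∈ G → x = 1 := fun x h1 h2 =>
    Subgroup.disjoint_def.1 hGV.disjoint h1 h2
  let φ : ↥A →* MulAut ↥V := MulAut.conjNormal.comp A.subtype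
  have hφval : ∀ (a : ↥A) (x : ↥V), ((φ a x : ↥V) : X) = a * x * (a : X)⁻¹ := fun a x => by
    simp [φ, MulAut.conjNormal_apply]
  have hinj : Function.Injective φ := by
    refine (injective_iff_map_eq_one φ).2 fun a ha => Subtype.ext (hGVbot _ ?_ a.2.1)
    rw [← hself]
    refine Subgroup.mem_centralizer_iff.2 fun x hx => ?_
    have h := hφval a ⟨x, hx⟩
    rw [ha] at h
    simp only [MulAut.one_apply] at h
    exact (mul_inv_eq_iff_eq_mul.1 h.symm).symm
  have hgood := Cfsg.Agent.KGV.good_idxWeight φ hinj (hcopVG.symm.coprime_dvd_left hAG)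
  obtain ⟨e, he0, he1⟩ := Nat.chineseRemainder hcopVG 0 1
  -- the centraliser of `v' * a`
  have hcent : ∀ v' : X, Subgroup.zpowers v' = Subgroup.zpowers v → ∀ a : ↥A,
      Nat.card ↥(Subgroup.centralizer ({v' * (a : X)} : Set X)) =
        Nat.card ↥(Cfsg.Agent.KGV.fixSub φ a) * Nat.card ↥A := by
    intro v' hv' a
    have hv'V : v' ∈ V :=
      (Subgroup.zpowers_le.2 hv : Subgroup.zpowers v ≤ V) (hv' ▸ Subgroup.mem_zpowers v')
    have hcc : ∀ x : X, Commute x v' ↔ Commute x v := fun x => by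
      constructor <;> intro h
      · obtain ⟨i, hi⟩ := Subgroup.mem_zpowers_iff.1
          (show v ∈ Subgroup.zpowers v' from hv' ▸ Subgroup.mem_zpowers v)
        exact hi ▸ h.zpow_right i
      · obtain ⟨i, hi⟩ := Subgroup.mem_zpowers_iff.1
          (show v' ∈ Subgroup.zpowers v from hv' ▸ Subgroup.mem_zpowers v')
        exact hi ▸ h.zpow_right i
    have hAv : ∀ b : ↥A, Commute (b : X) v := fun b =>
      Subgroup.mem_centralizer_singleton_iff.1 b.2.2
    have hav' : Commute v' (a : X) := ((hcc _).2 (hAv a)).symm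
    have hpow : (v' * (a : X)) ^ e = a := by
      rw [hav'.mul_pow, orderOf_dvd_iff_pow_eq_one.1
        ((V.orderOf_dvd_natCard hv'V).trans (Nat.modEq_zero_iff_dvd.1 he0)), one_mul]
      conv_rhs => rw [← pow_one (a : X)]
      rw [pow_eq_pow_iff_modEq]
      exact he1.of_dvd (G.orderOf_dvd_natCard a.2.1)
    rw [← Nat.card_prod]
    refine (Nat.card_congr (Equiv.ofBijective
      (fun z : ↥(Cfsg.Agent.KGV.fixSub φ a) × ↥A =>
        (⟨((z.1 : ↥V) : X) * z.2, ?_⟩ : Subgroup.centralizer ({v' * (a : X)} : Set X)))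
      ⟨?_, ?_⟩)).symm
    · refine Subgroup.mem_centralizer_singleton_iff.2 (Commute.mul_left ?_ ?_).eq
      · refine Commute.mul_right (habV _ z.1.1.2 _ hv'V) ?_
        have h := hφval a z.1.1
        rw [show φ a z.1.1 = z.1.1 from z.1.2] at h
        exact (eq_mul_inv_iff_mul_eq.1 h)
      · exact Commute.mul_right ((hcc _).2 (hAv z.2)) (hab _ z.2.2 _ a.2)
    · intro z z' h
      have := hGV.injective (a₁ := ((z.1 : ↥V), ⟨z.2.1, z.2.2.1⟩))
        (a₂ := ((z'.1 : ↥V), ⟨z'.2.1, z'.2.2.1⟩)) (congrArg Subtype.val h)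
      simp only [Prod.mk.injEq, Subtype.mk.injEq] at this
      exact Prod.ext (Subtype.ext this.1) (Subtype.ext this.2)
    · intro x
      obtain ⟨⟨u, h⟩, huh⟩ := hGV.surjective x.1
      have hx : Commute (x : X) (v' * a) := Subgroup.mem_centralizer_singleton_iff.1 x.2
      have hxa : Commute (x : X) a := by
        have := hx.pow_right e
        rwa [hpow] at this
      have hxv : Commute (x : X) v' := by
        have := hx.mul_right hxa.inv_right
        rwa [mul_inv_cancel_right] at this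
      have hh' : Commute (h : X) v' := by
        have h1 : (h : X) = (u : X)⁻¹ * x := by rw [← huh]; simp
        rw [h1]
        exact (Commute.inv_left (habV _ u.2 _ hv'V)).mul_left hxv
      have hhA : (h : X) ∈ A :=
        ⟨h.2, Subgroup.mem_centralizer_singleton_iff.2 ((hcc _).1 hh').eq⟩
      have hua : Commute (u : X) a := by
        have h1 : (u : X) = x * (h : X)⁻¹ := by rw [← huh]; simp
        rw [h1]
        exact hxa.mul_left (Commute.inv_left (hab _ hhA _ a.2))
      refine ⟨(⟨u, ?_⟩, ⟨h, hhA⟩), Subtype.ext huh⟩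
      show φ a u = u
      exact Subtype.ext (by rw [hφval, ← hua.eq, mul_inv_cancel_right])
  -- the abelian group `⟨v⟩ × A`
  have hcomm : ∀ (z : ↥(Subgroup.zpowers v)) (b : ↥A), Commute (z : X) (b : X) := fun z b => by
    obtain ⟨i, hi⟩ := Subgroup.mem_zpowers_iff.1 z.2
    rw [← hi]
    exact ((show Commute (b : X) v from
      Subgroup.mem_centralizer_singleton_iff.1 b.2.2).symm).zpow_left i
  let π : ↥(Subgroup.zpowers v) × ↥A →* X :=
    MonoidHom.noncommCoprod (Subgroup.zpowers v).subtype A.subtype hcomm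
  have hPcomm : ∀ a b : ↥(Subgroup.zpowers v) × ↥A, a * b = b * a := fun a b =>
    Prod.ext (Subtype.ext (habV _ ((Subgroup.zpowers_le.2 hv) a.1.2) _
      ((Subgroup.zpowers_le.2 hv) b.1.2))) (mul_comm a.2 b.2)
  set v₀ : ↥(Subgroup.zpowers v) := ⟨v, Subgroup.mem_zpowers v⟩ with hv₀
  have := Fintype.ofFinite (↥(Subgroup.zpowers v) × ↥A)
  choose lam hlam using fun η : Cfsg.IrrCharacter (↥(Subgroup.zpowers v) × ↥A) =>
    Cfsg.Agent.Char.IsCharacter.exists_monoidHom (Cfsg.Agent.Char.irr_isCharacter η)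
      (Cfsg.Agent.Char.apply_one_of_comm hPcomm η)
  let μ : Cfsg.IrrCharacter (↥(Subgroup.zpowers v) × ↥A) → ℂ := fun η => lam η (v₀, 1)
  let r : Cfsg.IrrCharacter (↥(Subgroup.zpowers v) × ↥A) → (↥A →* ℂˣ) := fun η =>
    ((lam η).comp (MonoidHom.inr _ _)).toHomUnits
  have := Cfsg.Agent.KGV.finite_dual ↥A
  have := Fintype.ofFinite (↥A →* ℂˣ)
  have : NeZero (Nat.card X) := ⟨Nat.card_pos.ne'⟩
  obtain ⟨m, k, hm, hk, hmain⟩ := Cfsg.Agent.CharInt.exists_twists (Nat.card X)
  have hμ : ∀ η, μ η ^ Nat.card X = 1 := fun η => by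
    have h1 : (v₀, (1 : ↥A)) ^ Nat.card X = 1 :=
      Prod.ext (Subtype.ext (by simp [hv₀])) (one_pow _)
    show lam η (v₀, 1) ^ Nat.card X = 1
    rw [← map_pow, h1, map_one]
  set w : ↥A → ℝ := Cfsg.Agent.KGV.idxWeight φ with hw
  have hper : ∀ χ : Cfsg.IrrCharacter X, (m : ℝ) * (Nat.card ↥A : ℝ) ^ 2 ≤
      ∑ j : Fin m, ∑ a : ↥A, w a * ‖χ.1 (v ^ k j * (a : X))‖ ^ 2 := by
    intro χ
    obtain ⟨M, hM, -⟩ := Cfsg.Agent.Char.IsCharacter.exists_decomp
      (Cfsg.Agent.Char.IsCharacter.comp (Cfsg.Agent.Char.irr_isCharacter χ) π)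
    let c : (↥A →* ℂˣ) → Cfsg.IrrCharacter (↥(Subgroup.zpowers v) × ↥A) → ℤ :=
      fun l η => if r η = l then (M η : ℤ) else 0
    let d : ℕ → (↥A →* ℂˣ) → ℂ := fun i l => ∑ η, (c l η : ℂ) * μ η ^ i
    have hval : ∀ (i : ℕ) (a : ↥A), χ.1 (v ^ i * (a : X)) = ∑ l, d i l * (l a : ℂ) := by
      intro i a
      have h := congrFun hM ((v₀, 1) ^ i * (1, a))
      have h1 : π ((v₀, 1) ^ i * (1, a)) = v ^ i * (a : X) := by
        rw [map_mul, map_pow]
        show ((v₀ : X) * ((1 : ↥A) : X)) ^ i * (((1 : ↥(Subgroup.zpowers v)) : X) * (a : X)) = _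
        simp [hv₀]
      simp only [h1, Finset.sum_apply, Pi.smul_apply, smul_eq_mul] at h
      rw [h]
      simp only [d, Finset.sum_mul]
      rw [Finset.sum_comm]
      refine Finset.sum_congr rfl fun η _ => ?_
      rw [Finset.sum_eq_single (r η) (fun l _ hl => by simp [c, Ne.symm hl]) (by simp)]
      rw [← hlam η, map_mul, map_pow]
      simp [c, μ, r, mul_assoc]
    set S : Finset (↥A →* ℂˣ) := Finset.univ.filter fun l => d 1 l ≠ 0 with hS
    have hzero : ∀ (i : ℕ), i.Coprime (Nat.card X) → ∀ l, d 1 l = 0 → d i l = 0 := by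
      intro i hi l hl
      obtain ⟨i', hi'⟩ : ∃ i', i * i' ≡ 1 [MOD Nat.card X] := by
        refine ⟨((ZMod.unitOfCoprime i hi)⁻¹ : (ZMod (Nat.card X))ˣ).1.val, ?_⟩
        rw [← ZMod.natCast_eq_natCast_iff, Nat.cast_mul, ZMod.natCast_zmod_val,
          ← ZMod.coe_unitOfCoprime i hi, ← Units.val_mul, mul_inv_cancel, Units.val_one,
          Nat.cast_one]
      have hone : ∀ η, (μ η ^ i) ^ i' = μ η := fun η => by
        have hd := orderOf_dvd_of_pow_eq_one (hμ η)
        rw [← pow_mul]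
        conv_rhs => rw [← pow_one (μ η)]
        exact pow_eq_pow_of_modEq hi' (hμ η)
      have hi'c : i'.Coprime (Nat.card X) := by
        refine Nat.coprime_of_mul_modEq_one i ?_
        rw [mul_comm]
        exact hi'
      refine Cfsg.Agent.CharInt.sum_eq_zero_of_twist_eq_zero (c l) (fun η => μ η ^ i)
        (fun η => by rw [← pow_mul, mul_comm, pow_mul, hμ η, one_pow]) hi'c ?_
      simp only [hone]
      simpa [d] using hl
    have hSval : ∀ j (a : ↥A), χ.1 (v ^ k j * (a : X)) = ∑ l ∈ S, d (k j) l * (l a : ℂ) := by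
      intro j a
      rw [hval]
      refine (Finset.sum_subset (Finset.subset_univ _) fun l _ hl => ?_).symm
      have h0 : d 1 l = 0 := by simpa [hS] using hl
      rw [hzero _ (hk j) l h0, zero_mul]
    have hSne : S.Nonempty := by
      by_contra hne
      rw [Finset.not_nonempty_iff_eq_empty] at hne
      have h0 : χ.1 v = 0 := by
        have h1 := hval 1 1
        rw [pow_one, Subgroup.coe_one, mul_one] at h1
        rw [h1]
        refine Finset.sum_eq_zero fun l _ => ?_
        have : l ∉ S := by simp [hne]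
        rw [show d 1 l = 0 by simpa [hS] using this, zero_mul]
      obtain ⟨n, ν, hn, hν, hνval⟩ :=
        Cfsg.Agent.CharInt.exists_roots (Cfsg.Agent.Char.irr_isCharacter χ) v
      have hord : ∀ i, ν i ^ (p ^ 1) = 1 := fun i => by
        obtain ⟨d', hd'⟩ : orderOf v ∣ p ^ 1 := orderOf_dvd_of_pow_eq_one (by simpa using hVexp v hv)
        rw [hd', pow_mul, hν i, one_pow]
      have h1 := hνval 1
      rw [pow_one, h0] at h1
      have hdvd := Cfsg.Agent.S4955.dvd_card_of_sum_eq_zero ν hord (by simpa using h1.symm)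
      have hdeg : Cfsg.Agent.Char.degree χ = n := by
        have := Cfsg.Agent.Char.apply_one_eq_degree χ
        rw [hn] at this
        exact_mod_cast this.symm
      exact hidx (hdvd.trans (hdeg ▸ Cfsg.Agent.Char.degree_dvd_index_of_comm V habV χ))
    obtain ⟨C, hC0, hCsum, hCbound⟩ := hgood S hSne
    calc (m : ℝ) * (Nat.card ↥A : ℝ) ^ 2 ≤ (m : ℝ) * ∑ l ∈ S, C l :=
          mul_le_mul_of_nonneg_left hCsum (Nat.cast_nonneg _)
      _ = ∑ l ∈ S, C l * m := by rw [mul_comm, Finset.sum_mul]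
      _ ≤ ∑ l ∈ S, C l * ∑ j : Fin m, ‖d (k j) l‖ ^ 2 := by
          refine Finset.sum_le_sum fun l hl => mul_le_mul_of_nonneg_left ?_ (hC0 l)
          exact hmain _ (c l) μ hμ (by
            have h1 : d 1 l ≠ 0 := (Finset.mem_filter.1 hl).2
            simpa [d] using h1)
      _ = ∑ j : Fin m, ∑ l ∈ S, C l * ‖d (k j) l‖ ^ 2 := by
          simp only [Finset.mul_sum]
          exact Finset.sum_comm
      _ ≤ _ := by
          refine Finset.sum_le_sum fun j _ => (hCbound (d (k j))).trans_eq ?_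
          exact Finset.sum_congr rfl fun a _ => by rw [hSval]
  have horth : ∀ (j : Fin m) (a : ↥A), ∑ χ : Cfsg.IrrCharacter X, ‖χ.1 (v ^ k j * (a : X))‖ ^ 2 =
      (Nat.card ↥(Cfsg.Agent.KGV.fixSub φ a) : ℝ) * (Nat.card ↥A : ℝ) := by
    intro j a
    have h := Cfsg.Agent.Char.sum_irr_mul_conj (v ^ k j * (a : X)) (v ^ k j * (a : X))
    rw [if_pos (IsConj.refl _)] at h
    simp only [Complex.mul_conj, Complex.normSq_eq_norm_sq] at h
    have hz : Subgroup.zpowers (v ^ k j) = Subgroup.zpowers v := by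
      refine le_antisymm (Subgroup.zpowers_le.2 ⟨k j, by simp⟩) (Subgroup.zpowers_le.2 ?_)
      obtain ⟨i, hi⟩ := exists_pow_eq_self_of_coprime
        ((hk j).coprime_dvd_right (orderOf_dvd_natCard v))
      exact ⟨i, by simpa using hi⟩
    rw [hcent _ hz a] at h
    exact_mod_cast h
  have hsum := Finset.sum_le_sum fun χ (_ : χ ∈ Finset.univ) => hper χ
  rw [Finset.sum_const, Finset.card_univ, nsmul_eq_mul, ← Nat.card_eq_fintype_card,
    Cfsg.Agent.Char.card_irr, Finset.sum_comm] at hsum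
  have hterm : ∀ (j : Fin m), ∑ χ : Cfsg.IrrCharacter X, ∑ a : ↥A,
      w a * ‖χ.1 (v ^ k j * (a : X))‖ ^ 2 = (Nat.card ↥V : ℝ) * (Nat.card ↥A : ℝ) ^ 2 := by
    intro j
    rw [Finset.sum_comm]
    simp only [← Finset.mul_sum, horth]
    rw [Finset.sum_congr rfl (g := fun _ => (Nat.card ↥V : ℝ) * (Nat.card ↥A : ℝ))
      (fun a _ => by
        have h0 : (Nat.card ↥(Cfsg.Agent.KGV.fixSub φ a) : ℝ) ≠ 0 :=
          Nat.cast_ne_zero.2 Nat.card_pos.ne'
        rw [hw, Cfsg.Agent.KGV.idxWeight, ← mul_assoc, div_mul_cancel₀ _ h0]),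
      Finset.sum_const, Finset.card_univ, nsmul_eq_mul, ← Nat.card_eq_fintype_card]
    ring
  rw [Finset.sum_congr rfl (fun j _ => hterm j), Finset.sum_const, Finset.card_univ,
    Fintype.card_fin, nsmul_eq_mul] at hsum
  have hpos : (0 : ℝ) < (m : ℝ) * (Nat.card ↥A : ℝ) ^ 2 := by
    have hm' : (0 : ℝ) < m := by exact_mod_cast hm
    have hA' : (0 : ℝ) < (Nat.card ↥A : ℝ) := by exact_mod_cast Nat.card_pos
    positivity
  have hfinal : (Nat.card (ConjClasses X) : ℝ) ≤ (Nat.card ↥V : ℝ) :=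
    le_of_mul_le_mul_right (hsum.trans_eq (by ring)) hpos
  exact_mod_cast hfinal

end Cfsg.Agent.S4958
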