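import Cfsg.Statements.S4959
import Cfsg.Agent.Lib.KGV.SqrtIndexForm
import Cfsg.Agent.Lib.CharInt.Kazarin
import Cfsg.Agent.Lib.Char.Ito

set_option autoImplicit false
set_option linter.style.haveILetI false
open Cfsg

namespace Cfsg.Agent.S4959

open Cfsg.Agent Cfsg.Agent.Blocks Cfsg.Agent.KGV
open scoped ComplexConjugate Classical

universe u

variable {X : Type u} [Group X]

/-- Parseval, for the squared absolute values. -/
theorem sum_norm_classInner_sq {K : Type u} [Group K] [Fintype K] {f : K → ℂ}
    (hf : IsClassFunction K f) :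
    ∑ φ : IrrCharacter K, ‖classInner f φ.1‖ ^ 2 =
      (Nat.card K : ℝ)⁻¹ * ∑ h, ‖f h‖ ^ 2 := by
  apply Complex.ofReal_injective
  have h := Char.classInner_eq_sum (f' := f) hf
  rw [classInner] at h
  push_cast
  simp only [← Complex.ofReal_pow, ← Complex.normSq_eq_norm_sq, ← Complex.mul_conj,
    Char.conj_classInner]
  exact h.symm

/-- The sum of the centralizer orders is the order times the class number. -/
theorem sum_card_centralizer (K : Type u) [Group K] [Fintype K] :
    ∑ h : K, (Nat.card (Subgroup.centralizer ({h} : Set K)) : ℝ) =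
      (Nat.card K : ℝ) * Nat.card (IrrCharacter K) := by
  apply Complex.ofReal_injective
  push_cast
  rw [Finset.sum_congr rfl (g := fun h => ∑ χ : IrrCharacter K, χ.1 h * conj (χ.1 h)) fun h _ => by
    rw [Char.sum_irr_mul_conj, if_pos (IsConj.refl h)], Finset.sum_comm]
  have h1 : ∀ χ : IrrCharacter K, ∑ h, χ.1 h * conj (χ.1 h) = (Nat.card K : ℂ) := fun χ => by
    have h := Char.classInner_irr_self χ.2
    rw [classInner] at h
    rwa [inv_mul_eq_one₀ Char.card_ne_zero, eq_comm] at h
  rw [Finset.sum_congr rfl fun χ _ => h1 χ, Finset.sum_const, Finset.card_univ, nsmul_eq_mul,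
    Nat.card_eq_fintype_card (α := IrrCharacter K), mul_comm]

variable [Finite X] {p : ℕ} [hp : Fact p.Prime] {V G : Subgroup X} [V.Normal]

omit [Finite X] hp [V.Normal] in
theorem decomp_unique (hGV : Subgroup.IsComplement' V G) {w w' g g' : X} (hw : w ∈ V)
    (hw' : w' ∈ V) (hg : g ∈ G) (hg' : g' ∈ G) (h : w * g = w' * g') : w = w' ∧ g = g' := by
  have hb : Subgroup.IsComplement (V : Set X) (G : Set X) := hGV
  have e := hb.1 (a₁ := (⟨w, hw⟩, ⟨g, hg⟩)) (a₂ := (⟨w', hw'⟩, ⟨g', hg'⟩)) h
  simp only [Prod.mk.injEq, Subtype.mk.injEq] at e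
  exact e

/-- The centralizer of `v h`, for `h` in the centralizer of `v` in the complement. -/
theorem card_centralizer_le (hVexp : ∀ w ∈ V, w ^ p = 1) (hidx : ¬ p ∣ V.index)
    (hab : ∀ a ∈ V, ∀ b ∈ V, a * b = b * a) (hGV : Subgroup.IsComplement' V G) {v : X} (hv : v ∈ V)
    (h : ↥(G ⊓ Subgroup.centralizer {v})) :
    Nat.card (Subgroup.centralizer ({v * h} : Set X)) ≤
      Nat.card ((Subgroup.centralizer ({(h : X)} : Set X)).subgroupOf V) *
        Nat.card (Subgroup.centralizer ({h} : Set ↥(G ⊓ Subgroup.centralizer {v}))) := by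
  have hvh : Commute v h := Commute.symm (Subgroup.mem_centralizer_singleton_iff.1 h.2.2)
  have hdec : ∀ x : Subgroup.centralizer ({v * h} : Set X),
      ∃ wg : (Subgroup.centralizer ({(h : X)} : Set X)).subgroupOf V ×
          Subgroup.centralizer ({h} : Set ↥(G ⊓ Subgroup.centralizer {v})),
        (wg.1.1 : X) * (wg.2.1 : X) = x := by
    intro x
    have hx : Commute (x : X) (v * h) := Subgroup.mem_centralizer_singleton_iff.1 x.2
    -- `x` commutes with both factors
    have hcard : Nat.card G = V.index := (Subgroup.IsComplement'.index_eq_card hGV.symm).symm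
    have hcop : p.Coprime (orderOf (h : X)) := by
      refine hp.out.coprime_iff_not_dvd.2 fun hd => hidx (hd.trans ?_)
      rw [← hcard, show orderOf (h : X) = orderOf (⟨h, h.2.1⟩ : G) from
        (Subgroup.orderOf_mk _ h.2.1).symm ▸ rfl]
      exact orderOf_dvd_natCard _
    obtain ⟨k, hk1, hk2⟩ := Nat.chineseRemainder hcop 1 0
    have hxv : Commute (x : X) v := by
      have e : (v * h : X) ^ k = v := by
        rw [hvh.mul_pow, pow_eq_pow_mod k (hVexp v hv),
          orderOf_dvd_iff_pow_eq_one.1 (Nat.modEq_zero_iff_dvd.1 hk2), mul_one, hk1,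
          ← pow_eq_pow_mod 1 (hVexp v hv), pow_one]
      have h' := hx.pow_right k
      rwa [e] at h'
    have hxh : Commute (x : X) h := by
      have e := (hxv.inv_right.mul_right hx)
      rwa [inv_mul_cancel_left] at e
    have hb : Subgroup.IsComplement (V : Set X) (G : Set X) := hGV
    obtain ⟨⟨⟨w, hw⟩, ⟨g, hg⟩⟩, (hwg : w * g = x)⟩ := hb.2 x
    have hg' : g ∈ Subgroup.centralizer ({v} : Set X) := by
      rw [Subgroup.mem_centralizer_singleton_iff]
      have h1 : w * g * v = v * (w * g) := by rw [hwg]; exact hxv.eq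
      rw [← mul_assoc, ← hab w hw v hv, mul_assoc, mul_assoc] at h1
      exact mul_left_cancel h1
    have hc : (g * h * g⁻¹) * w⁻¹ * (g * h * g⁻¹)⁻¹ ∈ V :=
      Subgroup.Normal.conj_mem inferInstance _ (inv_mem hw) _
    have h2 := decomp_unique hGV (mul_mem hw hc) (one_mem V)
      (mul_mem (mul_mem hg h.2.1) (inv_mem hg)) h.2.1 (by
        rw [one_mul]
        have h1 : w * g * h = h * (w * g) := by rw [hwg]; exact hxh.eq
        calc w * (g * h * g⁻¹ * w⁻¹ * (g * h * g⁻¹)⁻¹) * (g * h * g⁻¹)
            = w * g * h * g⁻¹ * w⁻¹ := by group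
          _ = h := by rw [h1]; group)
    have hgh : Commute g (h : X) := mul_inv_eq_iff_eq_mul.1 h2.2
    have hwh : Commute w (h : X) := by
      have h3 := h2.1
      rw [h2.2] at h3
      show w * h = h * w
      calc w * h = w * (h * w⁻¹ * (h : X)⁻¹) * (h * w) := by group
        _ = h * w := by rw [h3, one_mul]
    exact ⟨(⟨⟨w, hw⟩, Subgroup.mem_centralizer_singleton_iff.2 hwh⟩,
      ⟨⟨g, hg, hg'⟩, Subgroup.mem_centralizer_singleton_iff.2 (Subtype.ext hgh)⟩), hwg⟩
  choose F hF using hdec
  rw [← Nat.card_prod]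
  exact Nat.card_le_card_of_injective F fun a b hab' => Subtype.ext (by rw [← hF a, hab', hF b])

/-- Let X be a finite group and V a normal subgroup of X in which every element has order dividing the prime p, whose index in X is prime to p and which is its own centralizer in X; so V is an elementary abelian normal Sylow p-subgroup, and any complement G to V in X is a group of order prime to p acting faithfully on the vector space V by conjugation (the coprime linear setting of the k(GV) problem). Let G be a complement to V in X, let v be in V and let H be the centralizer of v in G. Suppose there is a subgroup U of V normalized by H, on which H acts faithfully, and carrying an H-invariant bi-additive pairing β with values in the integers modulo p that is nondegenerate on U (equivalently: the restriction of the module V to H has a faithful self-dual submodule; such a v is called a real vector for G). Then the number of conjugacy classes of X is at most the order of V (the real-vector criterion for the k(GV)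 problem). The pairing is given as a function on X whose relevant values are those on pairs from U. -/
theorem result {X : Type*} [Group X] [Finite X] (p : ℕ) [Fact p.Prime] (V : Subgroup X) [V.Normal] (hVexp : ∀ v ∈ V, v ^ p = 1) (hidx : ¬ p ∣ V.index) (hself : Subgroup.centralizer (V : Set X) = V) (G : Subgroup X) (hGV : Subgroup.IsComplement' V G) (v : X) (hv : v ∈ V) (U : Subgroup X) (hUV : U ≤ V) (hUinv : ∀ h ∈ G, h * v * h⁻¹ = v → ∀ u ∈ U, h * u * h⁻¹ ∈ U) (hUfaith : ∀ h ∈ G, h * v * h⁻¹ = v → (∀ u ∈ U, h * u * h⁻¹ = u) → h = 1) (β : X → X → ZMod p) (hβl : ∀ u ∈ U, ∀ u' ∈ U, ∀ w ∈ U, β (u * u') w = β u w + β u' w) (hβr : ∀ u ∈ U, ∀ w ∈ U, ∀ w' ∈ U, β u (w * w') = β u w + β u w') (hβinv : ∀ h ∈ G, h * v * h⁻¹ = v → ∀ u ∈ U, ∀ w ∈ U, β (h * u * h⁻¹) (h * w * h⁻¹) = β u w) (hβnd : ∀ u ∈ U, (∀ w ∈ U, β u w = 0) → u = 1) : Nat.card (ConjClasses X) ≤ Nat.card V := by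
  haveI := Fintype.ofFinite X
  have hp' : p.Prime := Fact.out
  have hab : ∀ a ∈ V, ∀ b ∈ V, a * b = b * a := fun a ha b hb => by
    rw [← hself, Subgroup.mem_centralizer_iff] at ha
    exact (ha b hb).symm
  set H := G ⊓ Subgroup.centralizer ({v} : Set X) with hH
  have hcv : ∀ h : H, (h : X) * v * (h : X)⁻¹ = v := fun h => by
    rw [mul_inv_eq_iff_eq_mul]
    exact Subgroup.mem_centralizer_singleton_iff.1 h.2.2
  have hcard : Nat.card G = V.index := (Subgroup.IsComplement'.index_eq_card hGV.symm).symm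
  have hcop : ¬ p ∣ Nat.card H := fun hd =>
    hidx (hcard ▸ hd.trans (Subgroup.card_dvd_of_le inf_le_left))
  letI : CommGroup U :=
    { (inferInstance : Group U) with
      mul_comm := fun a b => Subtype.ext (hab a (hUV a.2) b (hUV b.2)) }
  let φ : H →* MulAut U :=
    { toFun := fun h =>
        { toFun := fun a => ⟨h * a * (h : X)⁻¹, hUinv h h.2.1 (hcv h) a a.2⟩
          invFun := fun a => ⟨(h : X)⁻¹ * a * (h : X)⁻¹⁻¹,
            hUinv _ (inv_mem h.2.1) (hcv h⁻¹) a a.2⟩
          left_inv := fun a => Subtype.ext (by simp [mul_assoc])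
          right_inv := fun a => Subtype.ext (by simp [mul_assoc])
          map_mul' := fun a b => Subtype.ext (by simp [mul_assoc]) }
      map_one' := by ext a; simp
      map_mul' := fun g h => by ext a; simp [MulAut.mul_apply, mul_assoc] }
  let τ : U → U → ℂ := fun a b => ZMod.stdAddChar (β a b)
  have hτ : IsForm p φ τ := by
    refine ⟨fun a b c => ?_, fun a b c => ?_, fun a b => ?_, fun h a b => ?_⟩
    · show ZMod.stdAddChar (β ((a : X) * b) c) = _
      rw [hβl _ a.2 _ b.2 _ c.2, AddChar.map_add_eq_mul]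
    · show ZMod.stdAddChar (β (a : X) ((b : X) * c)) = _
      rw [hβr _ a.2 _ b.2 _ c.2, AddChar.map_add_eq_mul]
    · show ZMod.stdAddChar (β a b) ^ p = 1
      rw [← AddChar.map_nsmul_eq_pow, nsmul_eq_mul, ZMod.natCast_self, zero_mul,
        AddChar.map_zero_eq_one]
    · show ZMod.stdAddChar (β ((h : X) * a * (h : X)⁻¹) ((h : X) * b * (h : X)⁻¹)) =
        ZMod.stdAddChar (β a b)
      rw [hβinv h h.2.1 (hcv h) _ a.2 _ b.2]
  have hnd : Nondeg τ := fun a ha => Subtype.ext (hβnd a a.2 fun w hw => by
    have := ha ⟨w, hw⟩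
    exact ZMod.injective_stdAddChar (this.trans (AddChar.map_zero_eq_one _).symm))
  set N := p * Nat.card X with hN
  have hN0 : 0 < N := Nat.mul_pos hp'.pos Nat.card_pos
  have hpN : p ∣ N := Dvd.intro _ rfl
  have hHN : Nat.card H ∣ N := (Subgroup.card_subgroup_dvd_card H).trans (Dvd.intro_left _ rfl)
  obtain ⟨E, hE, hE1, hEp⟩ := sqrtIndex_of_form (φ := φ) (N := N) hcop hpN hHN _ rfl
    (fun a => Subtype.ext (by simpa using hVexp _ (hUV a.2))) hτ hnd
  obtain ⟨M, -, hM, hpM⟩ := CharInt.exists_isPModular_of_prime hp'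
  haveI := hM
  haveI := Blocks.charP_residue hpM
  -- the restrictions of the twisted characters
  have hη : ∀ χ : IrrCharacter X, IntVC (fun h : H => χ.1 (v * h)) ∧
      ∀ h : H, InCyc N (χ.1 (v * h)) := by
    intro χ
    obtain ⟨d, σ, -, hχ⟩ := χ.2
    have hcomm : ∀ h : H, Commute (σ v) ((σ.comp H.subtype) h) := fun h => by
      show σ v * σ h = σ h * σ v
      rw [← map_mul, ← map_mul, Subgroup.mem_centralizer_singleton_iff.1 h.2.2]
    have hT : σ v ^ p = 1 := by rw [← map_pow, hVexp v hv, map_one]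
    let ρ : Representation ℂ H (Fin d → ℂ) := σ.comp H.subtype
    have h1 := intVC_trace (N := N) ρ (σ v) hp'.pos hT hcomm
    have e : (fun h : H => χ.1 (v * h)) = fun h : H =>
        LinearMap.trace ℂ _ (σ v * (σ.comp H.subtype) h) := by
      funext h
      rw [← hχ]
      show LinearMap.trace ℂ _ (σ (v * h)) = LinearMap.trace ℂ _ (σ v * σ h)
      rw [map_mul]
    exact ⟨e ▸ h1.1, fun h => by rw [congrFun e h]; exact h1.2 hpN hHN h⟩
  let a : IrrCharacter X × IrrCharacter H → ℂ := fun i =>
    classInner ((fun h : H => i.1.1 (v * h)) * E) i.2.1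
  have haK : ∀ i, InCyc N (a i) := fun i => by
    show InCyc N ((Nat.card H : ℂ)⁻¹ * ∑ h : H, i.1.1 (v * h) * E h * conj (i.2.1 h))
    exact (inCyc_natCast N _).inv.mul (InCyc.sum _ fun h _ => (((hη i.1).2 h).mul (hEp h).1).mul
      (conj_mem_and_map hN0 (inCyc_character (Char.irr_isCharacter i.2) hHN h)).1)
  have haint : ∀ i, IsIntegral ℤ (a i) := fun i =>
    (IntVC.mul (hη i.1).1 hE).isIntegral_classInner i.2
  -- no coefficient vanishes
  have ha0 : ∀ i, a i ≠ 0 := by
    rintro ⟨χ, ψ⟩ h0
    have hsum : ∑ h : H, χ.1 (v * h) * E h * conj (ψ.1 h) = 0 := by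
      have h1 : (Nat.card H : ℂ)⁻¹ * ∑ h : H, χ.1 (v * h) * E h * conj (ψ.1 h) = 0 := h0
      exact (mul_eq_zero.1 h1).resolve_left (inv_ne_zero Char.card_ne_zero)
    rw [← Finset.add_sum_erase _ _ (Finset.mem_univ (1 : H)), hE1, mul_one,
      Subgroup.coe_one, mul_one, Char.apply_one_eq_degree, map_natCast] at hsum
    have hrest : MemLocalIdeal M
        (∑ h ∈ Finset.univ.erase (1 : H), χ.1 (v * h) * E h * conj (ψ.1 h)) := by
      refine MemLocalIdeal.sum _ fun h hh => MemLocalIdeal.mul_right (MemLocalIdeal.mul_left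
        (memLocalRing_of_isIntegral ((hη χ).1.isIntegral_apply h))
        ((hEp h).2.2 (fun htop => ?_) M hM hpM))
        (memLocalRing_of_isIntegral (isIntegral_conj
          (CharInt.isIntegral_char (Char.irr_isCharacter ψ) h)))
      refine (Finset.mem_erase.1 hh).1 (Subtype.ext (hUfaith h h.2.1 (hcv h) fun w hw => ?_))
      have : (⟨w, hw⟩ : U) ∈ fixPts φ h := htop ▸ Subgroup.mem_top _
      exact congrArg Subtype.val this
    obtain ⟨d, μ, hd, hμ, hval⟩ := CharInt.exists_roots (Char.irr_isCharacter χ) v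
    have hv1 : MemLocalIdeal M (χ.1 v - χ.1 1) := by
      have e0 := hval 0
      rw [pow_zero] at e0
      have e1 := hval 1
      rw [pow_one] at e1
      rw [e1, e0, ← Finset.sum_sub_distrib]
      refine MemLocalIdeal.sum _ fun i _ => ?_
      rw [pow_one, pow_zero]
      refine memLocalIdeal_sub_one hpM ?_
      obtain ⟨c, hc⟩ := orderOf_dvd_of_pow_eq_one (hVexp v hv)
      rw [hc, pow_mul, hμ i, one_pow]
    have hprod : MemLocalIdeal M (((Char.degree χ * Char.degree ψ : ℕ) : ℂ)) := by
      have h1 : ((Char.degree χ * Char.degree ψ : ℕ) : ℂ) = -((χ.1 v - χ.1 1) * Char.degree ψ) +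
          -(∑ h ∈ Finset.univ.erase (1 : H), χ.1 (v * h) * E h * conj (ψ.1 h)) := by
        rw [Nat.cast_mul, ← Char.apply_one_eq_degree χ]
        linear_combination hsum
      rw [h1]
      exact MemLocalIdeal.add (MemLocalIdeal.neg (MemLocalIdeal.mul_right hv1 (memLocalRing_natCast _)))
        (MemLocalIdeal.neg hrest)
    have h2 := (red_eq_zero_iff (memLocalRing_natCast _)).2 hprod
    rw [red_natCast, CharP.cast_eq_zero_iff (AlgInt ⧸ M) p] at h2
    rcases hp'.dvd_mul.1 h2 with h3 | h3
    · exact hidx (h3.trans (Char.degree_dvd_index_of_comm (N := V) hab χ))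
    · refine hcop (h3.trans ?_)
      have h4 := Char.degree_dvd_index_of_comm (N := (⊥ : Subgroup H))
        (fun a ha b hb => by rw [Subgroup.mem_bot.1 ha, Subgroup.mem_bot.1 hb]) ψ
      rwa [Subgroup.index_bot] at h4
  -- the sum of the squares
  set q : ℚ := (Nat.card H : ℚ)⁻¹ * ∑ h : H,
    (Nat.card (Subgroup.centralizer ({v * h} : Set X)) : ℚ) *
      ((Nat.card U : ℚ) / Nat.card (fixPts φ h)) with hq
  have hqsum : ∑ i, ‖a i‖ ^ 2 = (q : ℝ) := by
    rw [Fintype.sum_prod_type, Finset.sum_congr rfl fun χ _ =>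
      sum_norm_classInner_sq (IntVC.mul (hη χ).1 hE).isClassFunction, ← Finset.mul_sum,
      Finset.sum_comm, hq]
    push_cast
    congr 1
    refine Finset.sum_congr rfl fun h _ => ?_
    simp only [Pi.mul_apply, norm_mul, mul_pow]
    rw [← Finset.sum_mul]
    congr 1
    · apply Complex.ofReal_injective
      have h1 := Char.sum_irr_mul_conj (v * h : X) (v * h)
      rw [if_pos (IsConj.refl _)] at h1
      push_cast
      rw [← h1]
      exact Finset.sum_congr rfl fun χ _ => by
        rw [Complex.mul_conj, Complex.normSq_eq_norm_sq]; push_cast; ring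
    · rw [eq_div_iff (Nat.cast_ne_zero.2 Nat.card_pos.ne')]
      exact (hEp h).2.1
  have hle := card_le_of_norm_sum hN0 a haK haint q hqsum Finset.univ fun i _ => ha0 i
  rw [Finset.card_univ, Fintype.card_prod, ← Nat.card_eq_fintype_card,
    ← Nat.card_eq_fintype_card, Char.card_irr (G := X)] at hle
  have hU : ∀ h : H, Nat.card ((Subgroup.centralizer ({(h : X)} : Set X)).subgroupOf V) *
      Nat.card U ≤ Nat.card V * Nat.card (fixPts φ h) := by
    intro h
    set C := Subgroup.centralizer ({(h : X)} : Set X)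
    have hfix : fixPts φ h = C.subgroupOf U := by
      ext a
      rw [mem_fixPts, Subgroup.mem_subgroupOf, Subgroup.mem_centralizer_singleton_iff,
        Subtype.ext_iff]
      exact mul_inv_eq_iff_eq_mul.trans eq_comm
    have hUc : Nat.card (C.subgroupOf U) * C.relIndex U = Nat.card U :=
      (C.subgroupOf U).card_mul_index
    have hVc : Nat.card (C.subgroupOf V) * C.relIndex V = Nat.card V :=
      (C.subgroupOf V).card_mul_index
    rw [hfix, ← hUc, ← hVc]
    calc Nat.card (C.subgroupOf V) * (Nat.card (C.subgroupOf U) * C.relIndex U)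
        ≤ Nat.card (C.subgroupOf V) * (Nat.card (C.subgroupOf U) * C.relIndex V) :=
          Nat.mul_le_mul_left _ (Nat.mul_le_mul_left _ (Subgroup.relIndex_le_of_le_right hUV
            Subgroup.FiniteIndex.index_ne_zero))
      _ = _ := by ring
  have hq' : (q : ℝ) ≤ (Nat.card V : ℝ) * Nat.card (IrrCharacter H) := by
    rw [hq]
    push_cast
    rw [inv_mul_le_iff₀ (Nat.cast_pos.2 Nat.card_pos),
      show (Nat.card H : ℝ) * ((Nat.card V : ℝ) * Nat.card (IrrCharacter H)) =
        (Nat.card V : ℝ) * ∑ h : H, (Nat.card (Subgroup.centralizer ({h} : Set H)) : ℝ) by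
        rw [sum_card_centralizer]; ring, Finset.mul_sum]
    refine Finset.sum_le_sum fun h _ => ?_
    rw [← mul_div_assoc, div_le_iff₀ (Nat.cast_pos.2 Nat.card_pos)]
    have h1 := Nat.mul_le_mul_right (Nat.card U) (card_centralizer_le hVexp hidx hab hGV hv h)
    have h2 := Nat.mul_le_mul_right (Nat.card (Subgroup.centralizer ({h} : Set H))) (hU h)
    have h3 : Nat.card (Subgroup.centralizer ({v * h} : Set X)) * Nat.card U ≤
        Nat.card V * Nat.card (Subgroup.centralizer ({h} : Set H)) * Nat.card (fixPts φ h) := by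
      rw [mul_right_comm] at h1
      rw [mul_right_comm (Nat.card V)]
      exact h1.trans h2
    exact_mod_cast h3
  have hk : Nat.card (ConjClasses X) * Nat.card (IrrCharacter H) ≤
      Nat.card V * Nat.card (IrrCharacter H) := by
    exact_mod_cast hle.trans hq'
  refine Nat.le_of_mul_le_mul_right hk ?_
  haveI : Nonempty (IrrCharacter H) := ⟨⟨1, Char.isIrrCharacter_one⟩⟩
  exact Nat.card_pos

end Cfsg.Agent.S4959
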