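import Cfsg.Statements.S4964
import Cfsg.Agent.Lib.Blocks.Defect
import Cfsg.Agent.Lib.Blocks.PPart
import Cfsg.Agent.Lib.Char.KernelSum
import Cfsg.Agent.Lib.CharInt.Central
import Cfsg.Agent.Lib.CharInt.Eigen
import Cfsg.Agent.Lib.Coprime.Commutator
import Cfsg.Agent.Lib.PGroup.Frattini

set_option autoImplicit false
set_option linter.style.haveILetI false
open Cfsg
open scoped ComplexConjugate

namespace Cfsg.Agent.S4964

open Cfsg.Agent.Blocks

universe u

variable {G : Type u} [Group G] [Finite G]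

omit [Finite G] in
/-- The central character of an inflation is a natural multiple of the central character. -/
theorem exists_centralChar_comp {S : Type u} [Group S] (π : G →* S)
    (hπ : Function.Surjective π) (g : G) :
    ∃ r : ℕ, ∀ χ : S → ℂ, centralChar (fun x => χ (π x)) g = (r : ℂ) * centralChar χ (π g) := by
  have hle : (Subgroup.centralizer ({g} : Set G)).map π ≤
      Subgroup.centralizer ({π g} : Set S) := by
    rintro _ ⟨h, hh, rfl⟩
    rw [Subgroup.mem_centralizer_singleton_iff, ← map_mul, ← map_mul,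
      Subgroup.mem_centralizer_singleton_iff.1 hh]
  obtain ⟨r, hr⟩ := (Subgroup.index_dvd_of_le hle).trans
    (Subgroup.index_map_dvd (Subgroup.centralizer ({g} : Set G)) hπ)
  refine ⟨r, fun χ => ?_⟩
  simp only [centralChar, map_one, hr, Nat.cast_mul]
  ring

variable {p : ℕ} [Fact p.Prime] {M : Ideal AlgInt} [M.IsMaximal]

theorem sameBlock_of_inflation (hpM : (p : AlgInt) ∈ M) (D : Subgroup G) [D.Normal]
    (hD : IsPGroup p D) (χ ψ : IrrCharacter (G ⧸ ⁅D, D⁆))
    (h : SameBlock M (fun x : G => χ.1 (QuotientGroup.mk' ⁅D, D⁆ x))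
      (fun x : G => ψ.1 (QuotientGroup.mk' ⁅D, D⁆ x))) :
    SameBlock M χ.1 ψ.1 := by
  set π := QuotientGroup.mk' ⁅D, D⁆ with hπdef
  have hπ : Function.Surjective π := QuotientGroup.mk'_surjective _
  have hKD : ⁅D, D⁆ ≤ D := Subgroup.commutator_le_self D
  refine sameBlock_of_regular hpM fun s hs => ?_
  by_cases hboth : MemLocalIdeal M (centralChar χ.1 s) ∧ MemLocalIdeal M (centralChar ψ.1 s)
  · exact MemLocalIdeal.sub hboth.1 hboth.2
  haveI hDS : (D.map π).Normal := Subgroup.Normal.map inferInstance π hπ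
  have hDSp : IsPGroup p (D.map π) := hD.map π
  -- `s` centralises the image of `D`
  obtain ⟨t, hst, ht⟩ : ∃ t, IsConj s t ∧ t ∈ Subgroup.centralizer (D.map π : Set _) := by
    rcases not_and_or.1 hboth with h1 | h1 <;>
      exact exists_conj_mem_centralizer hpM hDSp h1
  have hsC : s ∈ Subgroup.centralizer (D.map π : Set _) := by
    obtain ⟨c, rfl⟩ := isConj_iff.1 hst.symm
    exact (inferInstance : (Subgroup.centralizer (D.map π : Set (G ⧸ ⁅D, D⁆))).Normal).conj_mem
      t ht c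
  -- a regular lift
  obtain ⟨g0, rfl⟩ := hπ s
  obtain ⟨u, x, hux, hc, ⟨k, hk⟩, hxr⟩ := exists_isPPart (p := p) g0
  have hu1 : π u = 1 := by
    have hxr' : IsPRegular p (π x) := fun hd => hxr (hd.trans (orderOf_map_dvd π x))
    obtain ⟨j, -, hj⟩ := (Nat.dvd_prime_pow (Fact.out : p.Prime)).1 (hk ▸ orderOf_map_dvd π u)
    refine (isPRegular_mul_iff (hc.map π).symm hxr' ⟨j, hj⟩).1 ?_
    rwa [← map_mul, ← hc.eq, hux]
  have hπx : π x = π g0 := by rw [← hux, map_mul, hu1, one_mul]
  rw [← hπx] at hsC ⊢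
  -- `x` centralises `D`
  have hcop : (Nat.card (Subgroup.zpowers x)).Coprime (Nat.card (frattini D)) := by
    rw [Nat.card_zpowers]
    obtain ⟨n, hn⟩ := IsPGroup.iff_card.1 hD
    refine Nat.Coprime.coprime_dvd_right (Subgroup.card_subgroup_dvd_card _) ?_
    rw [hn]
    exact (((Fact.out : p.Prime).coprime_iff_not_dvd).2 hxr).symm.pow_right _
  have hKF : ⁅D, D⁆ ≤ (frattini D).map D.subtype := by
    refine le_trans (le_of_eq ?_) (Subgroup.map_mono (PGroup.commutator_le_frattini hD))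
    rw [commutator_def, Subgroup.map_commutator, ← MonoidHom.range_eq_map, Subgroup.range_subtype]
  have hxD : x ∈ Subgroup.centralizer (D : Set G) := by
    refine Coprime.le_centralizer_of_frattini (A := Subgroup.zpowers x) (K := D)
      (by rw [Subgroup.normalizer_eq_top]; exact le_top) hcop (fun a ha d hd => hKF ?_)
      (Subgroup.mem_zpowers x)
    obtain ⟨i, rfl⟩ := ha
    rw [← QuotientGroup.eq_one_iff]
    show π (x ^ i * d * (x ^ i)⁻¹ * d⁻¹) = 1
    have h2 := Subgroup.mem_centralizer_iff.1 (zpow_mem hsC i) (π d)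
      (Subgroup.mem_map_of_mem π hd)
    simp only [map_mul, map_inv, map_zpow, ← h2, mul_inv_cancel_right, mul_inv_cancel]
  -- the centralisers correspond
  have hcent : Subgroup.centralizer ({x} : Set G) =
      (Subgroup.centralizer ({π x} : Set (G ⧸ ⁅D, D⁆))).comap π := by
    ext y
    simp only [Subgroup.mem_comap, Subgroup.mem_centralizer_singleton_iff]
    refine ⟨fun hy => by rw [← map_mul, ← map_mul, hy], fun hy => ?_⟩
    set z := x⁻¹ * (y * x * y⁻¹) with hz
    have hzK : z ∈ ⁅D, D⁆ := by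
      rw [← QuotientGroup.eq_one_iff]
      show π z = 1
      simp [hz, map_mul, hy]
    have hzx : Commute x z :=
      ((Subgroup.mem_centralizer_iff.1 hxD z (hKD hzK)).symm : x * z = z * x)
    have hzo : ∃ j, orderOf z = p ^ j := by
      obtain ⟨j, hj⟩ := IsPGroup.iff_orderOf.1 hD ⟨z, hKD hzK⟩
      exact ⟨j, by rw [← hj]; exact (Subgroup.orderOf_mk _ _).symm⟩
    have hreg : IsPRegular p (x * z) := by
      rw [hz, mul_inv_cancel_left, IsPRegular,
        show y * x * y⁻¹ = MulAut.conj y x from rfl, MulEquiv.orderOf_eq]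
      exact hxr
    have hz1 := (isPRegular_mul_iff hzx hxr hzo).1 hreg
    rw [hz, inv_mul_eq_one] at hz1
    calc y * x = y * x * y⁻¹ * y := by group
      _ = x * y := by rw [← hz1]
  have hxh := h x
  have hidx : (Subgroup.centralizer ({x} : Set G)).index =
      (Subgroup.centralizer ({π x} : Set (G ⧸ ⁅D, D⁆))).index := by
    rw [hcent, Subgroup.index_comap_of_surjective _ hπ]
  simp only [centralChar, hidx, map_one] at hxh
  exact hxh

theorem exists_mem_trivOn (hpM : (p : AlgInt) ∈ M) (K : Subgroup G) [K.Normal]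
    (hK : IsPGroup p K) {B : Set (IrrCharacter G)} (hB : IsPBlock M B) :
    ∃ θ ∈ B, Char.TrivOn K θ.1 := by
  classical
  haveI := Fintype.ofFinite G
  by_contra hno
  push Not at hno
  have h0 : ∑ d : K, blockCoeff B (d : G) = blockCoeff B 1 := by
    rw [Fintype.sum_eq_single (1 : K)]
    · simp
    · intro d hd
      refine blockCoeff_eq_zero hpM hB fun hreg => hd ?_
      obtain ⟨k, hk⟩ := IsPGroup.iff_orderOf.1 hK d
      rcases Nat.eq_zero_or_pos k with rfl | hk'
      · rwa [pow_zero, orderOf_eq_one_iff] at hk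
      · exact absurd (by rw [Subgroup.orderOf_coe, hk]; exact dvd_pow_self p hk'.ne') hreg
  have h1 : ∑ d : K, blockCoeff B (d : G) = 0 := by
    simp only [blockCoeff_eq_sum, ← Finset.mul_sum]
    rw [Finset.sum_comm]
    refine mul_eq_zero_of_right _ (Finset.sum_eq_zero fun χ hχ => ?_)
    have := Char.sum_coset_eq_zero_of_not_trivOn K χ (hno χ (Finset.mem_filter.1 hχ).2) 1
    simp only [one_mul] at this
    rw [← Finset.mul_sum, ← map_sum, this, map_zero, mul_zero]
  rw [h0, blockCoeff_eq_sum, mul_eq_zero] at h1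
  have h2 := h1.resolve_left (inv_ne_zero (Nat.cast_ne_zero.2 Nat.card_pos.ne'))
  obtain ⟨χ, hχ⟩ := block_nonempty hB
  simp only [Char.apply_one_eq_degree, map_natCast, ← Nat.cast_mul, ← Nat.cast_sum,
    Nat.cast_eq_zero, Finset.sum_eq_zero_iff] at h2
  have := h2 χ (Finset.mem_filter.2 ⟨Finset.mem_univ _, hχ⟩)
  have := Char.degree_pos χ
  nlinarith

/-- Let D be a normal p-subgroup of the finite group G, let D′ be its commutator subgroup (normal in G), and fix a maximal ideal M of the algebraic integers containing p. Then (i) two irreducible characters of G ⧸ D′ lie in the same p-block if and only if their inflations to G do, and (ii) every p-block of G contains the inflation of some irreducible character of G ⧸ D′; so inflation induces a bijection between the p-blocks of G ⧸ D′ and the p-blocks of G. -/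
theorem result {G : Type*} [Group G] [Finite G] (p : ℕ) [Fact p.Prime] (M : Ideal Cfsg.AlgInt) (hM : Cfsg.IsPModular p M) (D : Subgroup G) [D.Normal] (hD : IsPGroup p D) : (∀ χ ψ : Cfsg.IrrCharacter (G ⧸ ⁅D, D⁆), Cfsg.SameBlock M (χ : G ⧸ ⁅D, D⁆ → ℂ) (ψ : G ⧸ ⁅D, D⁆ → ℂ) ↔ Cfsg.SameBlock M ((χ : G ⧸ ⁅D, D⁆ → ℂ) ∘ QuotientGroup.mk) ((ψ : G ⧸ ⁅D, D⁆ → ℂ) ∘ QuotientGroup.mk)) ∧ ∀ B : Set (Cfsg.IrrCharacter G), Cfsg.IsPBlock M B → ∃ χ : Cfsg.IrrCharacter (G ⧸ ⁅D, D⁆), ∃ θ ∈ B, (θ : G → ℂ) = (χ : G ⧸ ⁅D, D⁆ → ℂ) ∘ QuotientGroup.mk := by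
  haveI := hM.2.1
  have hpM := hM.2.2
  have hπ : Function.Surjective (QuotientGroup.mk' ⁅D, D⁆) := QuotientGroup.mk'_surjective _
  refine ⟨fun χ ψ => ⟨fun h g => ?_, sameBlock_of_inflation hpM D hD χ ψ⟩, fun B hB => ?_⟩
  · obtain ⟨r, hr⟩ := exists_centralChar_comp (QuotientGroup.mk' ⁅D, D⁆) hπ g
    show MemLocalIdeal M (centralChar (fun x => χ.1 (QuotientGroup.mk' ⁅D, D⁆ x)) g -
      centralChar (fun x => ψ.1 (QuotientGroup.mk' ⁅D, D⁆ x)) g)
    rw [hr χ.1, hr ψ.1, ← mul_sub]
    exact MemLocalIdeal.mul_left (memLocalRing_natCast r) (h _)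
  · obtain ⟨θ, hθB, hθ⟩ := exists_mem_trivOn hpM ⁅D, D⁆
      (hD.to_le (Subgroup.commutator_le_self D)) hB
    obtain ⟨n, ρ, hρ, hχ⟩ := θ.2
    haveI := hρ
    have hker : ⁅D, D⁆ ≤ MonoidHom.ker (ρ : G →* Module.End ℂ (Fin n → ℂ)) := fun k hk => by
      rw [MonoidHom.mem_ker, ← CharInt.character_eq_finrank_iff]
      have := hθ k hk
      rwa [← hχ, Representation.char_one] at this
    let σ : Representation ℂ (G ⧸ ⁅D, D⁆) (Fin n → ℂ) := QuotientGroup.lift ⁅D, D⁆ ρ hker
    have hσ : σ.comp (QuotientGroup.mk' ⁅D, D⁆) = ρ := MonoidHom.ext fun g => rfl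
    have hirr := CharInt.irreducible_of_comp_surjective ρ _ hπ σ hσ
    exact ⟨⟨σ.character, Char.isIrrCharacter_character σ hirr⟩, θ, hθB, hχ.symm.trans (funext fun g => rfl)⟩

end Cfsg.Agent.S4964
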