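import Cfsg.Statements.S4965
import Mathlib

set_option autoImplicit false
open Cfsg

namespace Cfsg.Agent.S4965

/-- Let X be a finite group with an abelian normal subgroup V (any two elements of V commute), and let φ be the action of X ⧸ V on V induced by conjugation (well defined because V is abelian; the hypothesis hφ says that the class of x acts as conjugation by x). Then X has at most as many conjugacy classes as the semidirect product of V by X ⧸ V formed with this action: the split extension has the largest class number among extensions with the given action. -/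
theorem result {X : Type*} [Group X] [Finite X] (V : Subgroup X) [V.Normal] (hab : ∀ a ∈ V, ∀ b ∈ V, a * b = b * a) (φ : X ⧸ V →* MulAut ↥V) (hφ : ∀ (x : X) (v : ↥V), ((φ (QuotientGroup.mk x) v : ↥V) : X) = x * v * x⁻¹) : Nat.card (ConjClasses X) ≤ Nat.card (ConjClasses (SemidirectProduct ↥V (X ⧸ V) φ)) := by
  classical
  let π : X → X ⧸ V := QuotientGroup.mk
  let ok : (X ⧸ V) × (X ⧸ V) → X × X → Prop := fun qr z =>
    Commute z.1 z.2 ∧ π z.1 = qr.1 ∧ π z.2 = qr.2
  let s : (X ⧸ V) × (X ⧸ V) → X × X := fun qr => Classical.epsilon (ok qr)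
  have hs : ∀ z : {z : X × X // Commute z.1 z.2}, ok (π z.1.1, π z.1.2) (s (π z.1.1, π z.1.2)) :=
    fun z => Classical.epsilon_spec (p := ok (π z.1.1, π z.1.2)) ⟨z.1, z.2, rfl, rfl⟩
  have hmem : ∀ x y : X, π x = π y → x * y⁻¹ ∈ V := by
    intro x y h
    have h1 : y⁻¹ * x ∈ V := (QuotientGroup.eq.1 h.symm)
    have h2 := Subgroup.Normal.conj_mem ‹V.Normal› _ h1 y
    rwa [mul_inv_cancel_left] at h2
  let f : {z : X × X // Commute z.1 z.2} →
      SemidirectProduct ↥V (X ⧸ V) φ × SemidirectProduct ↥V (X ⧸ V) φ := fun z =>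
    (⟨⟨_, hmem z.1.1 (s (π z.1.1, π z.1.2)).1 (hs z).2.1.symm⟩, π z.1.1⟩,
     ⟨⟨_, hmem z.1.2 (s (π z.1.1, π z.1.2)).2 (hs z).2.2.symm⟩, π z.1.2⟩)
  have hconj : ∀ (x x0 : X) (b : ↥V), π x0 = π x → ((φ (π x) b : ↥V) : X) = x0 * b * x0⁻¹ := by
    intro x x0 b h
    rw [← h]
    exact hφ x0 b
  have hf : ∀ z, Commute (f z).1 (f z).2 := by
    intro z
    obtain ⟨⟨x, y⟩, hxy⟩ := z
    obtain ⟨h0, h1, h2⟩ := hs ⟨(x, y), hxy⟩
    set x0 := (s (π x, π y)).1
    set y0 := (s (π x, π y)).2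
    refine SemidirectProduct.ext (Subtype.ext ?_) ?_
    · show x * x0⁻¹ * ((φ (π x) ⟨y * y0⁻¹, _⟩ : ↥V) : X) =
        y * y0⁻¹ * ((φ (π y) ⟨x * x0⁻¹, _⟩ : ↥V) : X)
      rw [hconj x x0 _ h1, hconj y y0 _ h2]
      have h3 : y0⁻¹ * x0⁻¹ = x0⁻¹ * y0⁻¹ := (h0.inv_inv).eq.symm
      calc x * x0⁻¹ * (x0 * (y * y0⁻¹) * x0⁻¹) = (x * y) * (y0⁻¹ * x0⁻¹) := by group
        _ = (y * x) * (x0⁻¹ * y0⁻¹) := by rw [hxy.eq, h3]
        _ = y * y0⁻¹ * (y0 * (x * x0⁻¹) * y0⁻¹) := by group
    · show π x * π y = π y * π x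
      show (x : X ⧸ V) * (y : X ⧸ V) = (y : X ⧸ V) * (x : X ⧸ V)
      rw [← QuotientGroup.mk_mul, ← QuotientGroup.mk_mul, hxy.eq]
  have hinj : Function.Injective (fun z => (⟨f z, hf z⟩ :
      {z : SemidirectProduct ↥V (X ⧸ V) φ × SemidirectProduct ↥V (X ⧸ V) φ //
        Commute z.1 z.2})) := by
    intro z w h
    have h' : f z = f w := congrArg Subtype.val h
    have hq1 : π z.1.1 = π w.1.1 := congrArg (fun t => t.1.right) h'
    have hq2 : π z.1.2 = π w.1.2 := congrArg (fun t => t.2.right) h'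
    have hl1 := congrArg (fun t => (t.1.left : X)) h'
    have hl2 := congrArg (fun t => (t.2.left : X)) h'
    simp only [f, hq1, hq2] at hl1 hl2
    exact Subtype.ext (Prod.ext (mul_right_cancel hl1) (mul_right_cancel hl2))
  haveI : Finite (SemidirectProduct ↥V (X ⧸ V) φ) :=
    Finite.of_equiv _ SemidirectProduct.equivProd.symm
  have h := Nat.card_le_card_of_injective _ hinj
  rw [card_comm_eq_card_conjClasses_mul_card, card_comm_eq_card_conjClasses_mul_card,
    SemidirectProduct.card, mul_comm (Nat.card ↥V),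
    ← Subgroup.card_eq_card_quotient_mul_card_subgroup] at h
  exact Nat.le_of_mul_le_mul_right h Nat.card_pos

end Cfsg.Agent.S4965
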