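import Cfsg.Statements.S4966
import Mathlib

set_option autoImplicit false
open Cfsg

namespace Cfsg.Agent.S4966

section Helpers

variable {F : Type*} [Field F] {G : Type*} [Group G] {V : Type*} [AddCommGroup V] [Module F V]
  (ρ : Representation F G V) (B : LinearMap.BilinForm F V)

/-- `G`-invariance of a subspace. -/
def Inv (M : Submodule F V) : Prop := ∀ g : G, ∀ x ∈ M, ρ g x ∈ M

theorem Inv.inf {M N : Submodule F V} (hM : Inv ρ M) (hN : Inv ρ N) : Inv ρ (M ⊓ N) :=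
  fun g _ hx => ⟨hM g _ hx.1, hN g _ hx.2⟩

theorem Inv.sup {M N : Submodule F V} (hM : Inv ρ M) (hN : Inv ρ N) : Inv ρ (M ⊔ N) := by
  intro g x hx
  obtain ⟨a, ha, b, hb, rfl⟩ := Submodule.mem_sup.1 hx
  rw [map_add]
  exact Submodule.add_mem_sup (hM g a ha) (hN g b hb)

theorem inv_symm {B : LinearMap.BilinForm F V} (hB : ∀ g x y, B (ρ g x) (ρ g y) = B x y)
    (g : G) (x y : V) : B x (ρ g y) = B (ρ g⁻¹ x) y := by
  conv_lhs => rw [← hB g⁻¹, ← Module.End.mul_apply (ρ g⁻¹) (ρ g), ← map_mul, inv_mul_cancel,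
    map_one, Module.End.one_apply]

theorem inv_symm' {B : LinearMap.BilinForm F V} (hB : ∀ g x y, B (ρ g x) (ρ g y) = B x y)
    (g : G) (x y : V) : B (ρ g y) x = B y (ρ g⁻¹ x) := by
  conv_lhs => rw [← hB g⁻¹, ← Module.End.mul_apply (ρ g⁻¹) (ρ g), ← map_mul, inv_mul_cancel,
    map_one, Module.End.one_apply]

/-- The right orthogonal of `N` inside `M`. -/
def rightPerp (N M : Submodule F V) : Submodule F V where
  carrier := {x | x ∈ M ∧ ∀ y ∈ N, B y x = 0}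
  zero_mem' := ⟨M.zero_mem, fun y _ => map_zero _⟩
  add_mem' := fun {a b} ha hb => ⟨M.add_mem ha.1 hb.1,
    fun y hy => by rw [map_add, ha.2 y hy, hb.2 y hy, add_zero]⟩
  smul_mem' := fun c x hx => ⟨M.smul_mem c hx.1,
    fun y hy => by rw [map_smul, hx.2 y hy, smul_zero]⟩

theorem mem_rightPerp {N M : Submodule F V} {x : V} :
    x ∈ rightPerp B N M ↔ x ∈ M ∧ ∀ y ∈ N, B y x = 0 := Iff.rfl

theorem Inv.rightPerp {B : LinearMap.BilinForm F V} (hB : ∀ g x y, B (ρ g x) (ρ g y) = B x y)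
    {N M : Submodule F V} (hN : Inv ρ N) (hM : Inv ρ M) : Inv ρ (rightPerp B N M) :=
  fun g x hx => ⟨hM g x hx.1, fun y hy => by rw [inv_symm ρ hB]; exact hx.2 _ (hN _ y hy)⟩

/-- Right nondegeneracy on a subspace. -/
def ND (M : Submodule F V) : Prop := ∀ x ∈ M, (∀ y ∈ M, B y x = 0) → x = 0

variable [FiniteDimensional F V]

theorem exists_repr {N : Submodule F V} (hN : ND B N) (f : Module.Dual F N) :
    ∃ n ∈ N, ∀ y : N, B y n = f y := by
  let T : N →ₗ[F] Module.Dual F N := (B.domRestrict₁₂ N N).flip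
  have hinj : Function.Injective T := by
    rw [← LinearMap.ker_eq_bot, LinearMap.ker_eq_bot']
    intro x hx
    exact Subtype.ext (hN x x.2 fun y hy => DFunLike.congr_fun hx ⟨y, hy⟩)
  obtain ⟨n, hn⟩ :=
    (LinearMap.injective_iff_surjective_of_finrank_eq_finrank Subspace.dual_finrank_eq.symm).1
      hinj f
  exact ⟨n, n.2, fun y => DFunLike.congr_fun hn y⟩

theorem split_rightPerp {N M : Submodule F V} (hNM : N ≤ M) (hM : ND B M) (hN : ND B N) :
    N ⊔ rightPerp B N M = M ∧ N ⊓ rightPerp B N M = ⊥ ∧ ND B (rightPerp B N M) := by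
  have hsup : N ⊔ rightPerp B N M = M := by
    refine le_antisymm (sup_le hNM fun x hx => hx.1) fun x hx => ?_
    obtain ⟨n, hn, hrepr⟩ := exists_repr B hN ((B.flip x).comp N.subtype)
    rw [← add_sub_cancel n x]
    refine Submodule.add_mem_sup hn ⟨M.sub_mem hx (hNM hn), fun y hy => ?_⟩
    have h := hrepr ⟨y, hy⟩
    simp only [LinearMap.comp_apply, Submodule.coe_subtype] at h
    rw [map_sub, h, sub_eq_zero]
    rfl
  refine ⟨hsup, ?_, fun x hx h => ?_⟩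
  · rw [Submodule.eq_bot_iff]
    exact fun x hx => hN x hx.1 hx.2.2
  · refine hM x hx.1 fun y hy => ?_
    rw [← hsup] at hy
    obtain ⟨a, ha, b, hb, rfl⟩ := Submodule.mem_sup.1 hy
    rw [map_add, LinearMap.add_apply, hx.2 a ha, h b hb, add_zero]

theorem nondeg_left {M : Submodule F V} (hM : ND B M) (x : V) (hx : x ∈ M)
    (h : ∀ y ∈ M, B x y = 0) : x = 0 := by
  by_contra hx0
  obtain ⟨f, hf⟩ : ∃ f : Module.Dual F M, f ⟨x, hx⟩ ≠ 0 := by
    by_contra hcon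
    push Not at hcon
    have h0 : (⟨x, hx⟩ : M) = 0 :=
      (Module.forall_dual_apply_eq_zero_iff F (⟨x, hx⟩ : M)).1 hcon
    exact hx0 (congrArg Subtype.val h0)
  obtain ⟨n, hn, hrepr⟩ := exists_repr B hM f
  exact hf ((hrepr ⟨x, hx⟩).symm.trans (h n hn))

/-- The required decomposition of a subspace. -/
def Dec (p : ℕ) (M : Submodule F V) : Prop :=
  ∃ U W : Submodule F V, U ⊓ W = ⊥ ∧ U ⊔ W = M ∧ Inv ρ U ∧ Inv ρ W ∧
    (∃ A : LinearMap.BilinForm F V, (∀ x, A x x = 0) ∧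
      (∀ g : G, ∀ x ∈ U, ∀ y ∈ U, A (ρ g x) (ρ g y) = A x y) ∧
      (∀ x ∈ U, (∀ y ∈ U, A x y = 0) → x = 0)) ∧
    (∃ S : LinearMap.BilinForm F V, (∀ x y, S x y = S y x) ∧
      (∀ g : G, ∀ x ∈ W, ∀ y ∈ W, S (ρ g x) (ρ g y) = S x y) ∧
      (∀ x ∈ W, (∀ y ∈ W, S x y = 0) → x = 0)) ∧
    (p = 2 → ∀ g : G, ∀ w ∈ W, ρ g w = w)

theorem Dec.alt {p : ℕ} {N : Submodule F V} (hN : Inv ρ N) (A : LinearMap.BilinForm F V)
    (h1 : ∀ x, A x x = 0) (h2 : ∀ g : G, ∀ x ∈ N, ∀ y ∈ N, A (ρ g x) (ρ g y) = A x y)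
    (h3 : ∀ x ∈ N, (∀ y ∈ N, A x y = 0) → x = 0) : Dec ρ p N :=
  ⟨N, ⊥, by simp, by simp, hN, fun g x hx => by simp [(Submodule.mem_bot F).1 hx],
    ⟨A, h1, h2, h3⟩, ⟨0, fun _ _ => rfl, fun _ _ _ _ _ => rfl,
      fun x hx _ => (Submodule.mem_bot F).1 hx⟩,
    fun _ g w hw => by simp [(Submodule.mem_bot F).1 hw]⟩

theorem Dec.symm {p : ℕ} {N : Submodule F V} (hN : Inv ρ N) (S : LinearMap.BilinForm F V)
    (h1 : ∀ x y, S x y = S y x) (h2 : ∀ g : G, ∀ x ∈ N, ∀ y ∈ N, S (ρ g x) (ρ g y) = S x y)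
    (h3 : ∀ x ∈ N, (∀ y ∈ N, S x y = 0) → x = 0)
    (h4 : p = 2 → ∀ g : G, ∀ w ∈ N, ρ g w = w) : Dec ρ p N :=
  ⟨⊥, N, by simp, by simp, fun g x hx => by simp [(Submodule.mem_bot F).1 hx], hN,
    ⟨0, fun _ => rfl, fun _ _ _ _ _ => rfl, fun x hx _ => (Submodule.mem_bot F).1 hx⟩,
    ⟨S, h1, h2, h3⟩, h4⟩

/-- A linear map which is the identity on `N` and vanishes on `M`. -/
theorem exists_proj {N M : Submodule F V} (h : N ⊓ M = ⊥) :
    ∃ P : V →ₗ[F] V, (∀ x ∈ N, P x = x) ∧ ∀ x ∈ M, P x = 0 := by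
  obtain ⟨C, hC⟩ := Submodule.exists_isCompl (N ⊔ M)
  have hd : IsCompl N (M ⊔ C) := by
    refine ⟨disjoint_iff.2 ?_, codisjoint_iff.2 (by rw [← sup_assoc]; exact hC.sup_eq_top)⟩
    rw [Submodule.eq_bot_iff]
    rintro x ⟨hxN, hxMC⟩
    obtain ⟨m, hm, c, hc, rfl⟩ := Submodule.mem_sup.1 hxMC
    have hc' : c ∈ N ⊔ M := by
      rw [show c = (m + c) + -m by abel]
      exact Submodule.add_mem_sup hxN (M.neg_mem hm)
    have : c ∈ (N ⊔ M) ⊓ C := ⟨hc', hc⟩
    rw [hC.inf_eq_bot, Submodule.mem_bot] at this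
    subst this
    rw [add_zero] at hxN ⊢
    exact (Submodule.mem_bot F).1 (h ▸ ⟨hxN, hm⟩)
  refine ⟨N.subtype ∘ₗ N.projectionOnto (M ⊔ C) hd, fun x hx => ?_, fun x hx => ?_⟩
  · simp [Submodule.projectionOnto_apply_left hd ⟨x, hx⟩]
  · simp [Submodule.projectionOnto_apply_eq_zero_iff hd |>.2 (Submodule.mem_sup_left hx)]

theorem Dec.combine {p : ℕ} {N M' : Submodule F V} (hdis : N ⊓ M' = ⊥) (h₁ : Dec ρ p N)
    (h₂ : Dec ρ p M') : Dec ρ p (N ⊔ M') := by
  obtain ⟨U₁, W₁, hd₁, hs₁, hU₁, hW₁, ⟨A₁, a₁, b₁, c₁⟩, ⟨S₁, d₁, e₁, f₁⟩, t₁⟩ := h₁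
  obtain ⟨U₂, W₂, hd₂, hs₂, hU₂, hW₂, ⟨A₂, a₂, b₂, c₂⟩, ⟨S₂, d₂, e₂, f₂⟩, t₂⟩ := h₂
  obtain ⟨P, hP, hP'⟩ := exists_proj hdis
  have hU₁N : U₁ ≤ N := hs₁ ▸ le_sup_left
  have hW₁N : W₁ ≤ N := hs₁ ▸ le_sup_right
  have hU₂M : U₂ ≤ M' := hs₂ ▸ le_sup_left
  have hW₂M : W₂ ≤ M' := hs₂ ▸ le_sup_right
  have hPd : ∀ a ∈ N, ∀ b ∈ M', P (a + b) = a := fun a ha b hb => by
    rw [map_add, hP a ha, hP' b hb, add_zero]
  have hQd : ∀ a ∈ N, ∀ b ∈ M', (1 - P : V →ₗ[F] V) (a + b) = b := fun a ha b hb => by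
    rw [LinearMap.sub_apply, Module.End.one_apply, hPd a ha b hb, add_sub_cancel_left]
  refine ⟨U₁ ⊔ U₂, W₁ ⊔ W₂, ?_, ?_, hU₁.sup ρ hU₂, hW₁.sup ρ hW₂, ?_, ?_, ?_⟩
  · rw [Submodule.eq_bot_iff]
    rintro x ⟨hxU, hxW⟩
    obtain ⟨a, ha, b, hb, rfl⟩ := Submodule.mem_sup.1 hxU
    obtain ⟨c, hc, d, hd, hcd⟩ := Submodule.mem_sup.1 hxW
    have h1 := congrArg P hcd
    have h2 := congrArg (1 - P : V →ₗ[F] V) hcd
    rw [hPd c (hW₁N hc) d (hW₂M hd), hPd a (hU₁N ha) b (hU₂M hb)] at h1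
    rw [hQd c (hW₁N hc) d (hW₂M hd), hQd a (hU₁N ha) b (hU₂M hb)] at h2
    subst h1 h2
    have hc0 : c ∈ U₁ ⊓ W₁ := ⟨ha, hc⟩
    have hd0 : d ∈ U₂ ⊓ W₂ := ⟨hb, hd⟩
    rw [hd₁, Submodule.mem_bot] at hc0
    rw [hd₂, Submodule.mem_bot] at hd0
    rw [hc0, hd0, add_zero]
  · rw [sup_sup_sup_comm, hs₁, hs₂]
  · refine ⟨A₁.compl₁₂ P P + A₂.compl₁₂ (1 - P : V →ₗ[F] V) (1 - P : V →ₗ[F] V),
      fun x => by simp only [LinearMap.add_apply, LinearMap.compl₁₂_apply, a₁, a₂, add_zero],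
      ?_, ?_⟩
    · intro g x hx y hy
      obtain ⟨a, ha, b, hb, rfl⟩ := Submodule.mem_sup.1 hx
      obtain ⟨c, hc, d, hd, rfl⟩ := Submodule.mem_sup.1 hy
      simp only [LinearMap.add_apply, LinearMap.compl₁₂_apply]
      rw [map_add (ρ g) a b, map_add (ρ g) c d, hPd a (hU₁N ha) b (hU₂M hb),
        hPd c (hU₁N hc) d (hU₂M hd), hQd a (hU₁N ha) b (hU₂M hb), hQd c (hU₁N hc) d (hU₂M hd),
        hPd _ (hU₁N (hU₁ g a ha)) _ (hU₂M (hU₂ g b hb)),
        hPd _ (hU₁N (hU₁ g c hc)) _ (hU₂M (hU₂ g d hd)),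
        hQd _ (hU₁N (hU₁ g a ha)) _ (hU₂M (hU₂ g b hb)),
        hQd _ (hU₁N (hU₁ g c hc)) _ (hU₂M (hU₂ g d hd)), b₁ g a ha c hc, b₂ g b hb d hd]
    · intro x hx hall
      obtain ⟨a, ha, b, hb, rfl⟩ := Submodule.mem_sup.1 hx
      have h1 : a = 0 := c₁ a ha fun y hy => by
        have h := hall (y + 0) (Submodule.add_mem_sup hy U₂.zero_mem)
        simp only [LinearMap.add_apply, LinearMap.compl₁₂_apply] at h
        rw [hPd a (hU₁N ha) b (hU₂M hb), hPd y (hU₁N hy) 0 M'.zero_mem,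
          hQd y (hU₁N hy) 0 M'.zero_mem] at h
        simpa using h
      have h2 : b = 0 := c₂ b hb fun y hy => by
        have h := hall (0 + y) (Submodule.add_mem_sup U₁.zero_mem hy)
        simp only [LinearMap.add_apply, LinearMap.compl₁₂_apply] at h
        rw [hQd a (hU₁N ha) b (hU₂M hb), hPd 0 N.zero_mem y (hU₂M hy),
          hQd 0 N.zero_mem y (hU₂M hy)] at h
        simpa using h
      rw [h1, h2, add_zero]
  · refine ⟨S₁.compl₁₂ P P + S₂.compl₁₂ (1 - P : V →ₗ[F] V) (1 - P : V →ₗ[F] V),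
      fun x y => by
        simp only [LinearMap.add_apply, LinearMap.compl₁₂_apply]
        rw [d₁ (P x), d₂ ((1 - P : V →ₗ[F] V) x)], ?_, ?_⟩
    · intro g x hx y hy
      obtain ⟨a, ha, b, hb, rfl⟩ := Submodule.mem_sup.1 hx
      obtain ⟨c, hc, d, hd, rfl⟩ := Submodule.mem_sup.1 hy
      simp only [LinearMap.add_apply, LinearMap.compl₁₂_apply]
      rw [map_add (ρ g) a b, map_add (ρ g) c d, hPd a (hW₁N ha) b (hW₂M hb),
        hPd c (hW₁N hc) d (hW₂M hd), hQd a (hW₁N ha) b (hW₂M hb), hQd c (hW₁N hc) d (hW₂M hd),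
        hPd _ (hW₁N (hW₁ g a ha)) _ (hW₂M (hW₂ g b hb)),
        hPd _ (hW₁N (hW₁ g c hc)) _ (hW₂M (hW₂ g d hd)),
        hQd _ (hW₁N (hW₁ g a ha)) _ (hW₂M (hW₂ g b hb)),
        hQd _ (hW₁N (hW₁ g c hc)) _ (hW₂M (hW₂ g d hd)), e₁ g a ha c hc, e₂ g b hb d hd]
    · intro x hx hall
      obtain ⟨a, ha, b, hb, rfl⟩ := Submodule.mem_sup.1 hx
      have h1 : a = 0 := f₁ a ha fun y hy => by
        have h := hall (y + 0) (Submodule.add_mem_sup hy W₂.zero_mem)
        simp only [LinearMap.add_apply, LinearMap.compl₁₂_apply] at h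
        rw [hPd a (hW₁N ha) b (hW₂M hb), hPd y (hW₁N hy) 0 M'.zero_mem,
          hQd y (hW₁N hy) 0 M'.zero_mem] at h
        simpa using h
      have h2 : b = 0 := f₂ b hb fun y hy => by
        have h := hall (0 + y) (Submodule.add_mem_sup W₁.zero_mem hy)
        simp only [LinearMap.add_apply, LinearMap.compl₁₂_apply] at h
        rw [hQd a (hW₁N ha) b (hW₂M hb), hPd 0 N.zero_mem y (hW₂M hy),
          hQd 0 N.zero_mem y (hW₂M hy)] at h
        simpa using h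
      rw [h1, h2, add_zero]
  · intro hp g w hw
    obtain ⟨a, ha, b, hb, rfl⟩ := Submodule.mem_sup.1 hw
    rw [map_add, t₁ hp g a ha, t₂ hp g b hb]

/-- A minimal nonzero invariant subspace. -/
def Simple (S : Submodule F V) : Prop :=
  S ≠ ⊥ ∧ Inv ρ S ∧ ∀ T ≤ S, Inv ρ T → T = ⊥ ∨ T = S

theorem exists_simple {M : Submodule F V} (hM : Inv ρ M) (hne : M ≠ ⊥) :
    ∃ S ≤ M, Simple ρ S := by
  have h := (IsArtinian.set_has_minimal {T : Submodule F V | T ≠ ⊥ ∧ T ≤ M ∧ Inv ρ T}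
    ⟨M, hne, le_rfl, hM⟩)
  obtain ⟨S, ⟨hS0, hSM, hSi⟩, hmin⟩ := h
  refine ⟨S, hSM, hS0, hSi, fun T hT hTi => ?_⟩
  by_contra hcon
  push Not at hcon
  exact hmin T ⟨hcon.1, hT.trans hSM, hTi⟩ (lt_of_le_of_ne hT hcon.2)

variable [Fintype G]

/-- Maschke. -/
theorem exists_compl_inv (hG : (Fintype.card G : F) ≠ 0) {N M : Submodule F V} (hN : Inv ρ N)
    (hM : Inv ρ M) (hNM : N ≤ M) :
    ∃ C ≤ M, Inv ρ C ∧ N ⊓ C = ⊥ ∧ N ⊔ C = M := by
  obtain ⟨C₀, hC₀⟩ := Submodule.exists_isCompl N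
  let P₀ : V →ₗ[F] V := N.subtype ∘ₗ N.projectionOnto C₀ hC₀
  let P : V →ₗ[F] V := (Fintype.card G : F)⁻¹ • ∑ g : G, (ρ g⁻¹).comp (P₀.comp (ρ g))
  have hP0 : ∀ x, P₀ x ∈ N := fun x => (N.projectionOnto C₀ hC₀ x).2
  have hPN : ∀ x, P x ∈ N := fun x => by
    simp only [P, LinearMap.smul_apply, LinearMap.sum_apply, LinearMap.comp_apply]
    exact N.smul_mem _ (N.sum_mem fun g _ => hN _ _ (hP0 _))
  have hPid : ∀ x ∈ N, P x = x := by
    intro x hx
    have h0 : ∀ g : G, ρ g⁻¹ (P₀ (ρ g x)) = x := fun g => by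
      rw [show P₀ (ρ g x) = ρ g x by
        simp [P₀, Submodule.projectionOnto_apply_left hC₀ ⟨_, hN g x hx⟩],
        ← Module.End.mul_apply, ← map_mul, inv_mul_cancel, map_one, Module.End.one_apply]
    simp only [P, LinearMap.smul_apply, LinearMap.sum_apply, LinearMap.comp_apply, h0,
      Finset.sum_const, Finset.card_univ, ← Nat.cast_smul_eq_nsmul F, smul_smul,
      inv_mul_cancel₀ hG, one_smul]
  have hPcomm : ∀ (h : G) x, P (ρ h x) = ρ h (P x) := by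
    intro h x
    simp only [P, LinearMap.smul_apply, LinearMap.sum_apply, LinearMap.comp_apply, map_smul,
      map_sum]
    congr 1
    refine Fintype.sum_equiv (Equiv.mulRight h) _ _ fun g => ?_
    simp only [Equiv.coe_mulRight]
    have h1 : ρ (g * h) x = ρ g (ρ h x) := by rw [map_mul, Module.End.mul_apply]
    have h2 : ∀ z, ρ h (ρ (g * h)⁻¹ z) = ρ g⁻¹ z := fun z => by
      rw [← Module.End.mul_apply, ← map_mul, mul_inv_rev, mul_inv_cancel_left]
    rw [h2, h1]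
  refine ⟨LinearMap.ker P ⊓ M, inf_le_right, fun g x hx => ⟨?_, hM g x hx.2⟩, ?_, ?_⟩
  · show P (ρ g x) = 0
    rw [hPcomm, show P x = 0 from hx.1, map_zero]
  · rw [Submodule.eq_bot_iff]
    intro x hx
    exact (hPid x hx.1).symm.trans hx.2.1
  · refine le_antisymm (sup_le hNM inf_le_right) fun x hx => ?_
    rw [← add_sub_cancel (P x) x]
    refine Submodule.add_mem_sup (hPN x) ⟨?_, M.sub_mem hx (hNM (hPN x))⟩
    show P (x - P x) = 0
    rw [map_sub, hPid _ (hPN x), sub_self]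

/-- An invariant subspace is spanned by its simple invariant subspaces. -/
theorem le_of_simple_le (hG : (Fintype.card G : F) ≠ 0) {M R : Submodule F V} (hM : Inv ρ M)
    (hR : Inv ρ R) (h : ∀ T ≤ M, Simple ρ T → T ≤ R) : M ≤ R := by
  obtain ⟨C, hCM, hCi, hdis, hsup⟩ := exists_compl_inv ρ hG (hR.inf ρ hM) hM inf_le_right
  by_cases hC : C = ⊥
  · rw [hC, sup_bot_eq] at hsup
    exact hsup ▸ inf_le_left
  · obtain ⟨T, hTC, hT⟩ := exists_simple ρ hCi hC
    exact absurd ((Submodule.eq_bot_iff _).2 fun x hx => (Submodule.mem_bot F).1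
      (hdis ▸ ⟨⟨h T (hTC.trans hCM) hT hx, (hTC.trans hCM) hx⟩, hTC hx⟩)) hT.1

variable {B}

theorem nd_of_simple (hB : ∀ g x y, B (ρ g x) (ρ g y) = B x y) {S : Submodule F V}
    (hS : Simple ρ S) (hne : ∃ x ∈ S, ∃ y ∈ S, B x y ≠ 0) : ND B S := by
  intro x hx h
  rcases hS.2.2 (rightPerp B S S) (fun _ hy => hy.1) (hS.2.1.rightPerp ρ hB hS.2.1) with h0 | h0
  · exact (Submodule.mem_bot F).1 (h0 ▸ ⟨hx, h⟩)
  · obtain ⟨a, ha, b, hb, hab⟩ := hne
    rw [← h0] at hb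
    exact absurd (hb.2 a ha) hab

/-- Two simple subspaces with a nonzero pairing are paired without kernel. -/
theorem pairing_left (hB : ∀ g x y, B (ρ g x) (ρ g y) = B x y) {S T : Submodule F V}
    (hS : Simple ρ S) (hT : Simple ρ T) (hne : ∃ x ∈ T, ∃ s ∈ S, B s x ≠ 0) :
    ∀ x ∈ T, (∀ s ∈ S, B s x = 0) → x = 0 := by
  intro x hx h
  rcases hT.2.2 (rightPerp B S T) (fun _ hy => hy.1) (hS.2.1.rightPerp ρ hB hT.2.1) with h0 | h0
  · exact (Submodule.mem_bot F).1 (h0 ▸ ⟨hx, h⟩)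
  · obtain ⟨a, ha, s, hs, hne⟩ := hne
    rw [← h0] at ha
    exact absurd (ha.2 s hs) hne

theorem exists_pairing (hB : ∀ g x y, B (ρ g x) (ρ g y) = B x y) {S T : Submodule F V}
    (hS : Simple ρ S) (hT : Simple ρ T) (hne : ∃ x ∈ T, ∃ s ∈ S, B x s ≠ 0)
    (f : Module.Dual F S) : ∃ t ∈ T, ∀ s : S, B t s = f s := by
  have hBf : ∀ g x y, B.flip (ρ g x) (ρ g y) = B.flip x y := fun g x y => hB g y x
  let Φ : T →ₗ[F] Module.Dual F S := B.domRestrict₁₂ T S
  let Ψ : S →ₗ[F] Module.Dual F T := Φ.flip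
  obtain ⟨x, hx, s, hs, hxs⟩ := hne
  have hΦ : Function.Injective Φ := by
    rw [← LinearMap.ker_eq_bot, LinearMap.ker_eq_bot']
    intro t ht
    exact Subtype.ext (pairing_left ρ hBf hS hT ⟨x, hx, s, hs, hxs⟩ t t.2
      fun s hs => DFunLike.congr_fun ht ⟨s, hs⟩)
  have hΨ : Function.Injective Ψ := by
    rw [← LinearMap.ker_eq_bot, LinearMap.ker_eq_bot']
    intro t ht
    exact Subtype.ext (pairing_left ρ hB hT hS ⟨s, hs, x, hx, hxs⟩ t t.2
      fun y hy => DFunLike.congr_fun ht ⟨y, hy⟩)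
  have h1 := LinearMap.finrank_le_finrank_of_injective hΦ
  have h2 := LinearMap.finrank_le_finrank_of_injective hΨ
  rw [Subspace.dual_finrank_eq] at h1 h2
  have hsurj := (LinearMap.injective_iff_surjective_of_finrank_eq_finrank
    (by rw [Subspace.dual_finrank_eq]; omega)).1 hΦ
  obtain ⟨t, ht⟩ := hsurj f
  exact ⟨t, t.2, fun s => DFunLike.congr_fun ht s⟩

theorem dec_of_simple {p : ℕ} [Fact p.Prime] [CharP F p]
    (hB : ∀ g x y, B (ρ g x) (ρ g y) = B x y) {S : Submodule F V} (hS : Simple ρ S)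
    (hne : ∃ x ∈ S, ∃ y ∈ S, B x y ≠ 0) : Dec ρ p S := by
  have hleft : ∀ (C : LinearMap.BilinForm F V), (∀ g x y, C (ρ g x) (ρ g y) = C x y) →
      (∃ x ∈ S, ∃ y ∈ S, C x y ≠ 0) → ∀ x ∈ S, (∀ y ∈ S, C x y = 0) → x = 0 := by
    intro C hC hCne x hx h
    obtain ⟨a, ha, b, hb, hab⟩ := hCne
    exact nd_of_simple ρ (B := C.flip) (fun g x y => hC g y x) hS ⟨b, hb, a, ha, hab⟩ x hx h
  by_cases hsym : ∀ x ∈ S, ∀ y ∈ S, B x y = B y x
  · by_cases hodd : p = 2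
    · subst hodd
      by_cases halt : ∀ x ∈ S, B x x = 0
      · -- alternating on `S`
        obtain ⟨P, hP, -⟩ := exists_proj (N := S) (M := ⊥) (inf_bot_eq S)
        obtain ⟨C₀, hC₀⟩ := Submodule.exists_isCompl S
        let P : V →ₗ[F] V := S.subtype ∘ₗ S.projectionOnto C₀ hC₀
        have hPid : ∀ x ∈ S, P x = x := fun x hx => by
          simp [P, Submodule.projectionOnto_apply_left hC₀ ⟨x, hx⟩]
        refine Dec.alt ρ hS.2.1 (B.compl₁₂ P P)
          (fun x => halt _ (S.projectionOnto C₀ hC₀ x).2)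
          (fun g x hx y hy => ?_) (fun x hx h => hleft B hB hne x hx fun y hy => ?_)
        · simp only [LinearMap.compl₁₂_apply]
          rw [hPid _ hx, hPid _ hy, hPid _ (hS.2.1 g x hx), hPid _ (hS.2.1 g y hy), hB]
        · have := h y hy
          simp only [LinearMap.compl₁₂_apply] at this
          rwa [hPid _ hx, hPid _ hy] at this
      · -- trivial action
        let K : Submodule F V :=
          { carrier := {x | x ∈ S ∧ B x x = 0}
            zero_mem' := ⟨S.zero_mem, by simp⟩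
            add_mem' := fun {a b} ha hb => ⟨S.add_mem ha.1 hb.1, by
              simp only [map_add, LinearMap.add_apply, ha.2, hb.2, hsym b hb.1 a ha.1, zero_add,
                add_zero]
              exact CharTwo.add_self_eq_zero _⟩
            smul_mem' := fun c x hx => ⟨S.smul_mem c hx.1, by simp [hx.2]⟩ }
        have hKi : Inv ρ K := fun g x hx => ⟨hS.2.1 g x hx.1, by rw [hB]; exact hx.2⟩
        rcases hS.2.2 K (fun _ hx => hx.1) hKi with hK | hK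
        · have htriv : ∀ g : G, ∀ w ∈ S, ρ g w = w := by
            intro g w hw
            rw [← sub_eq_zero]
            refine (Submodule.mem_bot F).1 (hK ▸ ⟨S.sub_mem (hS.2.1 g w hw) hw, ?_⟩)
            simp only [map_sub, LinearMap.sub_apply, hB, hsym w hw _ (hS.2.1 g w hw)]
            rw [sub_sub, CharTwo.sub_eq_add, CharTwo.sub_eq_add]
            rw [show B w w + (B (ρ g w) w + (B (ρ g w) w + B w w)) =
              (B w w + B w w) + (B (ρ g w) w + B (ρ g w) w) by abel]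
            rw [CharTwo.add_self_eq_zero, CharTwo.add_self_eq_zero, add_zero]
          obtain ⟨C₀, hC₀⟩ := Submodule.exists_isCompl S
          let P : V →ₗ[F] V := S.subtype ∘ₗ S.projectionOnto C₀ hC₀
          have hPid : ∀ x ∈ S, P x = x := fun x hx => by
            simp [P, Submodule.projectionOnto_apply_left hC₀ ⟨x, hx⟩]
          refine Dec.symm ρ hS.2.1 (B.compl₁₂ P P)
            (fun x y => hsym _ (S.projectionOnto C₀ hC₀ x).2 _ (S.projectionOnto C₀ hC₀ y).2)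
            (fun g x hx y hy => by rw [htriv g x hx, htriv g y hy])
            (fun x hx h => hleft B hB hne x hx fun y hy => ?_) (fun _ => htriv)
          have := h y hy
          simp only [LinearMap.compl₁₂_apply] at this
          rwa [hPid _ hx, hPid _ hy] at this
        · exact absurd (fun x hx => (hK.symm ▸ hx : x ∈ K).2) halt
    · have h2 : (2 : F) ≠ 0 := by
        intro h
        have h' : ((2 : ℕ) : F) = 0 := by exact_mod_cast h
        rw [CharP.cast_eq_zero_iff F p] at h'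
        exact hodd ((Nat.prime_dvd_prime_iff_eq Fact.out Nat.prime_two).1 h')
      refine Dec.symm ρ hS.2.1 (B + B.flip)
        (fun x y => by simp [add_comm]) (fun g x _ y _ => by simp [hB])
        (hleft _ (fun g x y => by simp [hB]) ?_) (fun h => absurd h hodd)
      obtain ⟨a, ha, b, hb, hab⟩ := hne
      refine ⟨a, ha, b, hb, ?_⟩
      show B a b + B b a ≠ 0
      rw [← hsym a ha b hb, ← two_mul]
      exact mul_ne_zero h2 hab
  · refine Dec.alt ρ hS.2.1 (B - B.flip) (fun x => by simp)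
      (fun g x _ y _ => by simp [hB])
      (hleft _ (fun g x y => by simp [LinearMap.sub_apply, hB]) ?_)
    push Not at hsym
    obtain ⟨a, ha, b, hb, hab⟩ := hsym
    exact ⟨a, ha, b, hb, by simpa [sub_eq_zero] using hab⟩

theorem dec_aux {p : ℕ} [Fact p.Prime] [CharP F p] (hG : (Fintype.card G : F) ≠ 0)
    (hB : ∀ g x y, B (ρ g x) (ρ g y) = B x y) :
    ∀ (n : ℕ) (M : Submodule F V), Module.finrank F M ≤ n → Inv ρ M → ND B M → Dec ρ p M := by
  intro n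
  induction n with
  | zero =>
    intro M hn _ _
    rw [Nat.le_zero, Submodule.finrank_eq_zero] at hn
    subst hn
    exact Dec.alt ρ (fun g x hx => by simp [(Submodule.mem_bot F).1 hx]) 0 (fun _ => rfl)
      (fun _ _ _ _ _ => rfl) (fun x hx _ => (Submodule.mem_bot F).1 hx)
  | succ n ih =>
    intro M hn hMi hMnd
    by_cases hM : M = ⊥
    · exact ih M (by subst hM; rw [finrank_bot]; exact Nat.zero_le _) hMi hMnd
    suffices h : ∃ N ≤ M, N ≠ ⊥ ∧ Inv ρ N ∧ ND B N ∧ Dec ρ p N by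
      obtain ⟨N, hNM, hN0, hNi, hNnd, hNdec⟩ := h
      obtain ⟨hsup, hdis, hnd'⟩ := split_rightPerp B hNM hMnd hNnd
      rw [← hsup]
      refine Dec.combine ρ hdis hNdec (ih _ ?_ (hNi.rightPerp ρ hB hMi) hnd')
      have hlt : rightPerp B N M < M := by
        refine lt_of_le_of_ne (fun _ hx => hx.1) fun h => hN0 ?_
        rw [h, inf_eq_left.2 hNM] at hdis
        exact hdis
      have := Submodule.finrank_lt_finrank_of_lt hlt
      omega
    by_cases hex : ∃ S ≤ M, Simple ρ S ∧ ∃ x ∈ S, ∃ y ∈ S, B x y ≠ 0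
    · obtain ⟨S, hSM, hS, hne⟩ := hex
      exact ⟨S, hSM, hS.1, hS.2.1, nd_of_simple ρ hB hS hne, dec_of_simple ρ hB hS hne⟩
    push Not at hex
    -- every simple invariant subspace is totally isotropic
    obtain ⟨S, hSM, hS⟩ := exists_simple ρ hMi hM
    -- left orthogonal, as a right orthogonal of the flipped form
    have hBf : ∀ g x y, B.flip (ρ g x) (ρ g y) = B.flip x y := fun g x y => hB g y x
    obtain ⟨T₁, hT₁M, hT₁, x₁, hx₁, s₁, hs₁, hne₁⟩ :
        ∃ T ≤ M, Simple ρ T ∧ ∃ x ∈ T, ∃ s ∈ S, B s x ≠ 0 := by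
      by_contra hcon
      push Not at hcon
      have hle : M ≤ rightPerp B S M := le_of_simple_le ρ hG hMi (hS.2.1.rightPerp ρ hB hMi)
        fun T hT hTs x hx => ⟨hT hx, fun s hs => hcon T hT hTs x hx s hs⟩
      -- then `S` is orthogonal to `M` on the left, so is zero
      refine hS.1 ((Submodule.eq_bot_iff _).2 fun s hs => ?_)
      refine nondeg_left B hMnd s (hSM hs) fun y hy => (hle hy).2 s hs
    obtain ⟨T₂, hT₂M, hT₂, x₂, hx₂, s₂, hs₂, hne₂⟩ :
        ∃ T ≤ M, Simple ρ T ∧ ∃ x ∈ T, ∃ s ∈ S, B x s ≠ 0 := by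
      by_contra hcon
      push Not at hcon
      have hle : M ≤ rightPerp B.flip S M :=
        le_of_simple_le ρ hG hMi (hS.2.1.rightPerp ρ hBf hMi)
          fun T hT hTs x hx => ⟨hT hx, fun s hs => hcon T hT hTs x hx s hs⟩
      exact hS.1 ((Submodule.eq_bot_iff _).2 fun s hs =>
        hMnd s (hSM hs) fun y hy => (hle hy).2 s hs)
    -- `T'` : vectors of `T₁ ⊔ T₂` pairing symmetrically with `S`
    let T' : Submodule F V :=
      { carrier := {x | x ∈ T₁ ⊔ T₂ ∧ ∀ s ∈ S, B s x = B x s}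
        zero_mem' := ⟨Submodule.zero_mem _, fun s _ => by simp⟩
        add_mem' := fun {a b} ha hb => ⟨Submodule.add_mem _ ha.1 hb.1, fun s hs => by
          simp [ha.2 s hs, hb.2 s hs]⟩
        smul_mem' := fun c x hx => ⟨Submodule.smul_mem _ c hx.1, fun s hs => by
          simp [hx.2 s hs]⟩ }
    have hT'i : Inv ρ T' := fun g x hx => ⟨(hT₁.2.1.sup ρ hT₂.2.1) g x hx.1, fun s hs => by
      rw [inv_symm ρ hB g s x, inv_symm' ρ hB g s x]
      exact hx.2 _ (hS.2.1 _ s hs)⟩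
    -- a simple `T` pairing nontrivially with `S` on both sides
    obtain ⟨T, hTM, hT, hTS, hST⟩ : ∃ T ≤ M, Simple ρ T ∧ (∃ x ∈ T, ∃ s ∈ S, B x s ≠ 0) ∧
        ∃ x ∈ T, ∃ s ∈ S, B s x ≠ 0 := by
      by_cases h1 : ∃ x ∈ T₁, ∃ s ∈ S, B x s ≠ 0
      · exact ⟨T₁, hT₁M, hT₁, h1, x₁, hx₁, s₁, hs₁, hne₁⟩
      by_cases h2 : ∃ x ∈ T₂, ∃ s ∈ S, B s x ≠ 0
      · exact ⟨T₂, hT₂M, hT₂, ⟨x₂, hx₂, s₂, hs₂, hne₂⟩, h2⟩
      push Not at h1 h2
      obtain ⟨t, ht, htrepr⟩ := exists_pairing ρ hB hS hT₂ ⟨x₂, hx₂, s₂, hs₂, hne₂⟩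
        ((B.flip x₁).comp S.subtype)
      have hmem : x₁ + t ∈ T' := by
        refine ⟨Submodule.add_mem_sup hx₁ ht, fun s hs => ?_⟩
        have h : B t s = B s x₁ := htrepr ⟨s, hs⟩
        rw [map_add, map_add, LinearMap.add_apply, h2 t ht s hs, h1 x₁ hx₁ s hs, h, add_zero,
          zero_add]
      have hT'0 : T' ≠ ⊥ := by
        intro h0
        rw [h0, Submodule.mem_bot] at hmem
        have : B s₁ (x₁ + t) = 0 := by rw [hmem, map_zero]
        rw [map_add, h2 t ht s₁ hs₁, add_zero] at this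
        exact hne₁ this
      obtain ⟨T, hTT', hT⟩ := exists_simple ρ hT'i hT'0
      have hpair : ∀ x ∈ T', x ≠ 0 → ∃ s ∈ S, B s x ≠ 0 := by
        intro x hx hx0
        by_contra hcon
        push Not at hcon
        obtain ⟨a, ha, b, hb, rfl⟩ := Submodule.mem_sup.1 hx.1
        have ha0 : a = 0 := by
          refine pairing_left ρ hB hS hT₁ ⟨x₁, hx₁, s₁, hs₁, hne₁⟩ a ha fun s hs => ?_
          have := hcon s hs
          rwa [map_add, h2 b hb s hs, add_zero] at this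
        subst ha0
        rw [zero_add] at hx hx0 hcon
        refine hx0 (pairing_left ρ hBf hS hT₂ ⟨x₂, hx₂, s₂, hs₂, hne₂⟩ b hb fun s hs => ?_)
        show B b s = 0
        rw [← hx.2 s hs, hcon s hs]
      obtain ⟨x, hx, hx0⟩ := (Submodule.ne_bot_iff _).1 hT.1
      obtain ⟨s, hs, hsx⟩ := hpair x (hTT' hx) hx0
      refine ⟨T, fun y hy => ?_, hT, ⟨x, hx, s, hs, ?_⟩, ⟨x, hx, s, hs, hsx⟩⟩
      · exact (sup_le hT₁M hT₂M) (hTT' hy).1
      · rw [← (hTT' hx).2 s hs]; exact hsx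
    have hSiso : ∀ a ∈ S, ∀ b ∈ S, B a b = 0 := fun a ha b hb => hex S hSM hS a ha b hb
    have hTiso : ∀ a ∈ T, ∀ b ∈ T, B a b = 0 := fun a ha b hb => hex T hTM hT a ha b hb
    have hdisST : S ⊓ T = ⊥ := by
      rcases hS.2.2 (S ⊓ T) inf_le_left (hS.2.1.inf ρ hT.2.1) with h | h
      · exact h
      · exfalso
        obtain ⟨x, hx, s, hs, hne⟩ := hST
        exact hne (hTiso s ((inf_eq_left.1 h) hs) x hx)
    obtain ⟨a₁, ha₁, b₁, hb₁, hab₁⟩ := hST
    obtain ⟨a₂, ha₂, b₂, hb₂, hab₂⟩ := hTS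
    refine ⟨S ⊔ T, sup_le hSM hTM, fun h => hS.1 (le_bot_iff.1 (h ▸ le_sup_left)),
      hS.2.1.sup ρ hT.2.1, ?_, ?_⟩
    · intro x hx h
      obtain ⟨s, hs, t, ht, rfl⟩ := Submodule.mem_sup.1 hx
      have hs0 : s = 0 := by
        refine pairing_left ρ hB hT hS ⟨b₂, hb₂, a₂, ha₂, hab₂⟩ s hs fun y hy => ?_
        have := h y (Submodule.mem_sup_right hy)
        rwa [map_add, hTiso y hy t ht, add_zero] at this
      have ht0 : t = 0 := by
        refine pairing_left ρ hB hS hT ⟨a₁, ha₁, b₁, hb₁, hab₁⟩ t ht fun y hy => ?_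
        have := h y (Submodule.mem_sup_left hy)
        rwa [map_add, hSiso y hy s hs, zero_add] at this
      rw [hs0, ht0, add_zero]
    · obtain ⟨P, hP, hP'⟩ := exists_proj hdisST
      obtain ⟨Q, hQ, hQ'⟩ := exists_proj (show T ⊓ S = ⊥ by rw [inf_comm]; exact hdisST)
      refine Dec.alt ρ (hS.2.1.sup ρ hT.2.1) (B.compl₁₂ P Q - (B.compl₁₂ P Q).flip)
        (fun x => by simp) ?_ ?_
      · intro g x hx y hy
        obtain ⟨s, hs, t, ht, rfl⟩ := Submodule.mem_sup.1 hx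
        obtain ⟨s', hs', t', ht', rfl⟩ := Submodule.mem_sup.1 hy
        have e1 : ∀ a ∈ S, ∀ b ∈ T, P (a + b) = a := fun a ha b hb => by
          rw [map_add, hP a ha, hP' b hb, add_zero]
        have e2 : ∀ a ∈ S, ∀ b ∈ T, Q (a + b) = b := fun a ha b hb => by
          rw [map_add, hQ' a ha, hQ b hb, zero_add]
        rw [map_add (ρ g) s t, map_add (ρ g) s' t']
        show B (P _) (Q _) - B (P _) (Q _) = B (P _) (Q _) - B (P _) (Q _)
        rw [e1 _ (hS.2.1 g _ hs) _ (hT.2.1 g _ ht), e1 _ (hS.2.1 g _ hs') _ (hT.2.1 g _ ht'),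
          e2 _ (hS.2.1 g _ hs) _ (hT.2.1 g _ ht), e2 _ (hS.2.1 g _ hs') _ (hT.2.1 g _ ht'),
          e1 s hs t ht, e1 s' hs' t' ht', e2 s hs t ht, e2 s' hs' t' ht', hB, hB]
      · intro x hx h
        obtain ⟨s, hs, t, ht, rfl⟩ := Submodule.mem_sup.1 hx
        have hs0 : s = 0 := by
          refine pairing_left ρ hBf hT hS ⟨b₁, hb₁, a₁, ha₁, hab₁⟩ s hs fun y hy => ?_
          have := h y (Submodule.mem_sup_right hy)
          simpa [LinearMap.sub_apply, LinearMap.compl₁₂_apply, hP _ hs, hP' _ ht, hP' _ hy,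
            hQ _ hy] using this
        have ht0 : t = 0 := by
          refine pairing_left ρ hB hS hT ⟨a₁, ha₁, b₁, hb₁, hab₁⟩ t ht fun y hy => ?_
          have := h y (Submodule.mem_sup_left hy)
          simpa [LinearMap.sub_apply, LinearMap.compl₁₂_apply, hP _ hy, hQ' _ hy, hQ' _ hs,
            hQ _ ht] using this
        rw [hs0, ht0, add_zero]

end Helpers

/-- Let F be a finite field of characteristic p, G a finite group of order prime to p, and V a finite-dimensional representation of G over F carrying a nondegenerate G-invariant bilinear form (equivalently, V is self-dual). Then V is the direct sum of two G-invariant subspaces U and W such that U carries a G-invariant alternating bilinear form that is nondegenerate on U and W carries a G-invariant symmetric bilinear form that is nondegenerate on W; moreover when p = 2 the decomposition can be chosen with G acting trivially on W. -/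
theorem result {F : Type*} [Field F] [Fintype F] (p : ℕ) [Fact p.Prime] [CharP F p] {G : Type*} [Group G] [Finite G] (hcop : ¬ p ∣ Nat.card G) {V : Type*} [AddCommGroup V] [Module F V] [FiniteDimensional F V] (ρ : Representation F G V) (B : LinearMap.BilinForm F V) (hB : B.Nondegenerate) (hBinv : ∀ g : G, ∀ x y : V, B (ρ g x) (ρ g y) = B x y) : ∃ U W : Submodule F V, IsCompl U W ∧ (∀ g : G, ∀ u ∈ U, ρ g u ∈ U) ∧ (∀ g : G, ∀ w ∈ W, ρ g w ∈ W) ∧ (∃ A : LinearMap.BilinForm F V, (∀ x : V, A x x = 0) ∧ (∀ g : G, ∀ x ∈ U, ∀ y ∈ U, A (ρ g x) (ρ g y) = A x y) ∧ (∀ x ∈ U, (∀ y ∈ U, A x y = 0) → x = 0)) ∧ (∃ S : LinearMap.BilinForm F V, (∀ x y : V, S x y = S y x) ∧ (∀ g : G, ∀ x ∈ W, ∀ y ∈ W, S (ρ g x) (ρ g y) = S x y) ∧ (∀ x ∈ W, (∀ y ∈ W, S x y = 0) → x = 0)) ∧ (p = 2 → ∀ g : G, ∀ w ∈ W, ρ g w = w) := by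
  have := Fintype.ofFinite G
  have hG : (Fintype.card G : F) ≠ 0 := by
    rw [Ne, CharP.cast_eq_zero_iff F p, ← Nat.card_eq_fintype_card]
    exact hcop
  obtain ⟨U, W, hd, hs, hU, hW, hA, hS, ht⟩ := dec_aux (p := p) ρ hG hBinv _ ⊤ le_rfl
    (fun g x _ => Submodule.mem_top) (fun x _ h => hB.2 x fun y => h y Submodule.mem_top)
  exact ⟨U, W, ⟨disjoint_iff.2 hd, codisjoint_iff.2 hs⟩, hU, hW, hA, hS, ht⟩

end Cfsg.Agent.S4966
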