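import Cfsg.Statements.S4967
import Mathlib.RingTheory.IntegralDomain
import Mathlib.FieldTheory.Finite.Basic
import Mathlib.RingTheory.Adjoin.Basic

set_option autoImplicit false
set_option linter.style.haveILetI false
set_option linter.unusedSectionVars false
set_option linter.unusedVariables false
set_option linter.deprecated false
open Cfsg

namespace Cfsg.Agent.S4967

variable {F : Type*} [Field F] {H : Type*} [CommGroup H] [Finite H]
  {V : Type*} [AddCommGroup V] [Module F V]

section Model

variable [Fintype F] {A : Type*} [Field A] [Algebra F A] [Finite A] (χ : H →* A)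
  (hinj : Function.Injective χ) (hgen : Algebra.adjoin F (Set.range χ) = ⊤)

omit [Finite H] [Finite A] in
theorem frob_pow_apply (d : ℕ) (a : A) :
    (FiniteField.frobeniusAlgHom F A ^ d) a = a ^ Fintype.card F ^ d := by
  rw [AlgHom.coe_pow, FiniteField.coe_frobeniusAlgHom, pow_iterate]

include hgen in
omit [Finite H] in
theorem finrank_dvd_of_fixed (d : ℕ) (h : ∀ x, χ x ^ Fintype.card F ^ d = χ x) :
    Module.finrank F A ∣ d := by
  rw [← FiniteField.orderOf_frobeniusAlgHom F A]
  refine orderOf_dvd_of_pow_eq_one (AlgHom.ext_of_adjoin_eq_top hgen ?_)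
  rintro _ ⟨x, rfl⟩
  simp [frob_pow_apply, h]

include hgen in
omit [Finite H] in
/-- An invariant form gives an automorphism inverting the image of `H`. -/
theorem exists_inverting (B : LinearMap.BilinForm F A) (hB : B.Nondegenerate)
    (hinv : ∀ h x y, B (χ h * x) (χ h * y) = B x y) :
    ∃ τ : A →ₐ[F] A, ∀ h, τ (χ h) = χ h⁻¹ := by
  let T : Subalgebra F (A × A) :=
    { carrier := {q | ∀ x y, B (q.1 * x) y = B x (q.2 * y)}
      mul_mem' := fun {a b} ha hb x y => by
        simp only [Prod.fst_mul, Prod.snd_mul]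
        rw [mul_assoc, ha, hb, ← mul_assoc, mul_comm b.2]
      one_mem' := fun x y => by simp
      add_mem' := fun {a b} ha hb x y => by
        simp only [Prod.fst_add, Prod.snd_add, add_mul, map_add, LinearMap.add_apply, ha x y,
          hb x y]
      zero_mem' := fun x y => by simp
      algebraMap_mem' := fun c x y => by simp [← Algebra.smul_def] }
  have hgenT : ∀ h, (χ h, χ h⁻¹) ∈ T := fun h x y => by
    have := hinv h x (χ h⁻¹ * y)
    rwa [← mul_assoc, ← map_mul χ, mul_inv_cancel, map_one, one_mul] at this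
  let fs : T →ₐ[F] A := (AlgHom.fst F A A).comp T.val
  have hbij : Function.Bijective fs := by
    constructor
    · rw [injective_iff_map_eq_zero]
      rintro ⟨⟨a, b⟩, hab⟩ (ha : a = 0)
      subst ha
      by_contra hb
      replace hb : b ≠ 0 := fun h0 => hb (Subtype.ext (Prod.ext rfl h0))
      refine one_ne_zero (α := A) (hB.1 1 fun z => ?_)
      have h1 := hab 1 (b⁻¹ * z)
      simp only [zero_mul, map_zero, LinearMap.zero_apply] at h1
      rwa [← mul_assoc, mul_inv_cancel₀ hb, one_mul, eq_comm] at h1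
    · rw [← AlgHom.range_eq_top, eq_top_iff, ← hgen, Algebra.adjoin_le_iff]
      rintro _ ⟨h, rfl⟩
      exact ⟨⟨_, hgenT h⟩, rfl⟩
  refine ⟨((AlgHom.snd F A A).comp T.val).comp (AlgEquiv.ofBijective fs hbij).symm.toAlgHom,
    fun h => ?_⟩
  have h1 : (AlgEquiv.ofBijective fs hbij).symm (χ h) = ⟨_, hgenT h⟩ :=
    (AlgEquiv.ofBijective fs hbij).injective (by rw [AlgEquiv.apply_symm_apply]; rfl)
  show ((AlgEquiv.ofBijective fs hbij).symm (χ h) : A × A).2 = _
  rw [h1]

include hinj hgen in
theorem exists_frobenius_exponent (B : LinearMap.BilinForm F A) (hB : B.Nondegenerate)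
    (hinv : ∀ h x y, B (χ h * x) (χ h * y) = B x y) :
    ∃ j < Module.finrank F A, Nat.card H ∣ Fintype.card F ^ j + 1 := by
  obtain ⟨τ, hτ⟩ := exists_inverting χ hgen B hB hinv
  obtain ⟨j, hj⟩ := (FiniteField.bijective_frobeniusAlgHom_pow F A).2 τ
  haveI : IsCyclic H := isCyclic_of_injective_ringHom χ hinj
  obtain ⟨g, hg⟩ := IsCyclic.exists_generator (α := H)
  refine ⟨j, j.2, ?_⟩
  rw [← orderOf_eq_card_of_forall_mem_zpowers hg]
  refine orderOf_dvd_of_pow_eq_one (hinj ?_)
  have h1 := hτ g
  rw [← hj, frob_pow_apply] at h1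
  rw [map_pow, pow_succ, h1, ← map_mul, inv_mul_cancel]

include hgen in
theorem even_and_dvd (hn : 2 ≤ Module.finrank F A) {j : ℕ} (hj : j < Module.finrank F A)
    (hdvd : Nat.card H ∣ Fintype.card F ^ j + 1) :
    Even (Module.finrank F A) ∧
      Nat.card H ∣ Fintype.card F ^ (Module.finrank F A / 2) + 1 := by
  set r := Fintype.card F with hr
  have hpow : ∀ h, χ h ^ (r ^ j + 1) = 1 := fun h => by
    obtain ⟨k, hk⟩ := hdvd
    rw [hk, pow_mul, ← map_pow, pow_card_eq_one', map_one, one_pow]
  rcases Nat.eq_zero_or_pos j with rfl | hj0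
  · have h1 : ∀ h, χ h ^ r ^ 1 = χ h := fun h => by
      rw [pow_one]
      rcases mul_self_eq_one_iff.1 (by simpa [pow_two] using hpow h : χ h * χ h = 1) with he | he
      · rw [he, one_pow]
      · rw [he, show (-1 : A) = algebraMap F A (-1) by simp, ← map_pow, hr, FiniteField.pow_card]
    have := Nat.le_of_dvd one_pos (finrank_dvd_of_fixed χ hgen 1 h1)
    omega
  · have h2 : ∀ h, χ h ^ r ^ (j + j) = χ h := fun h => by
      have e1 : χ h ^ r ^ j = (χ h)⁻¹ := eq_inv_of_mul_eq_one_left (by rw [← pow_succ]; exact hpow h)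
      rw [pow_add, pow_mul, e1, inv_pow, e1, inv_inv]
    obtain ⟨k, hk⟩ := finrank_dvd_of_fixed χ hgen (j + j) h2
    have hk1 : k = 1 := by
      rcases k with _ | _ | k
      · omega
      · rfl
      · exfalso
        nlinarith
    subst hk1
    rw [mul_one] at hk
    exact ⟨⟨j, hk.symm⟩, by rwa [show Module.finrank F A / 2 = j by omega]⟩

theorem exists_invariant_form {j : ℕ} (hdvd : Nat.card H ∣ Fintype.card F ^ j + 1) :
    ∃ B : LinearMap.BilinForm F A, B.Nondegenerate ∧ ∀ h x y, B (χ h * x) (χ h * y) = B x y := by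
  haveI : Module.Finite F A := Module.Finite.of_finite
  obtain ⟨φ, hφ⟩ : ∃ φ : A →ₗ[F] F, φ ≠ 0 :=
    ⟨(Module.finBasis F A).coord ⟨0, Module.finrank_pos⟩, fun h =>
      one_ne_zero (α := F) (by
        simpa using LinearMap.congr_fun h (Module.finBasis F A ⟨0, Module.finrank_pos⟩))⟩
  let τ := FiniteField.frobeniusAlgHom F A ^ j
  have hτinj : Function.Injective τ := τ.toRingHom.injective
  have hτ : Function.Surjective τ := Finite.injective_iff_surjective.1 hτinj
  refine ⟨((LinearMap.mul F A).compr₂ φ).compl₂ τ.toLinearMap, ⟨fun a ha => ?_, fun b hb => ?_⟩,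
    fun h x y => ?_⟩
  · by_contra hne
    refine hφ (LinearMap.ext fun z => ?_)
    obtain ⟨b, hb⟩ := hτ (a⁻¹ * z)
    simpa [hb, ← mul_assoc, mul_inv_cancel₀ hne] using ha b
  · by_contra hne
    refine hφ (LinearMap.ext fun z => ?_)
    have hne' : τ b ≠ 0 := fun h0 => hne (hτinj (h0.trans (map_zero τ).symm))
    simpa [mul_assoc, inv_mul_cancel₀ hne'] using hb (z * (τ b)⁻¹)
  · have h1 : χ h * τ (χ h) = 1 := by
      obtain ⟨k, hk⟩ := hdvd
      rw [frob_pow_apply, ← pow_succ', hk, pow_mul, ← map_pow, pow_card_eq_one', map_one, one_pow]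
    show φ (χ h * x * τ (χ h * y)) = φ (x * τ y)
    rw [map_mul τ, mul_mul_mul_comm, h1, one_mul]

end Model

theorem of_model [Fintype F] {A : Type*} [Field A] [Algebra F A] [Finite A]
    (χ : H →* A) (hinj : Function.Injective χ) (hgen : Algebra.adjoin F (Set.range χ) = ⊤)
    (ρ : Representation F H V) (e : A ≃ₗ[F] V) (he : ∀ h a, ρ h (e a) = e (χ h * a)) :
    (Module.finrank F V = 1 →
      (∃ B : LinearMap.BilinForm F V, B.Nondegenerate ∧ ∀ h : H, ∀ x y : V,
        B (ρ h x) (ρ h y) = B x y) → Nat.card H ≤ 2) ∧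
    (2 ≤ Module.finrank F V →
      ((∃ B : LinearMap.BilinForm F V, B.Nondegenerate ∧ ∀ h : H, ∀ x y : V,
        B (ρ h x) (ρ h y) = B x y) ↔ (Even (Module.finrank F V) ∧
          Nat.card H ∣ Fintype.card F ^ (Module.finrank F V / 2) + 1))) := by
  rw [← e.finrank_eq]
  have key : (∃ B : LinearMap.BilinForm F V, B.Nondegenerate ∧ ∀ h : H, ∀ x y : V,
      B (ρ h x) (ρ h y) = B x y) →
      ∃ j < Module.finrank F A, Nat.card H ∣ Fintype.card F ^ j + 1 := by
    rintro ⟨B, hB, hinv⟩
    refine exists_frobenius_exponent χ hinj hgen (LinearMap.BilinForm.congr e.symm B)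
      (LinearMap.BilinForm.Nondegenerate.congr e.symm hB) fun h x y => ?_
    simp [← he, hinv]
  refine ⟨fun h1 hex => ?_, fun h2 => ⟨fun hex => ?_, fun h => ?_⟩⟩
  · obtain ⟨j, hj, hdvd⟩ := key hex
    rw [h1, Nat.lt_one_iff] at hj
    subst hj
    exact Nat.le_of_dvd (by norm_num) (by simpa using hdvd)
  · obtain ⟨j, hj, hdvd⟩ := key hex
    exact even_and_dvd χ hgen h2 hj hdvd
  · obtain ⟨B, hB, hinv⟩ := exists_invariant_form (A := A) χ h.2
    refine ⟨LinearMap.BilinForm.congr e B, LinearMap.BilinForm.Nondegenerate.congr e hB,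
      fun g x y => ?_⟩
    obtain ⟨a, rfl⟩ := e.surjective x
    obtain ⟨b, rfl⟩ := e.surjective y
    simp [he, hinv]

/-- Let F be a finite field with r elements and of characteristic p, H a finite abelian group of order prime to p, and V a faithful irreducible representation of H over F of dimension n (faithful: distinct elements act differently; irreducible: the only H-invariant subspaces are 0 and V). Call V self-dual when it carries a nondegenerate H-invariant bilinear form. If n = 1 and V is self-dual then H has order at most 2. If n ≥ 2 then V is self-dual if and only if n is even and the order of H divides r^(n/2) + 1. -/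
theorem result {F : Type*} [Field F] [Fintype F] (p : ℕ) [Fact p.Prime] [CharP F p] {H : Type*} [CommGroup H] [Finite H] (hcop : ¬ p ∣ Nat.card H) {V : Type*} [AddCommGroup V] [Module F V] [FiniteDimensional F V] (ρ : Representation F H V) (hfaith : Function.Injective ρ) (hirr : ∀ U : Submodule F V, (∀ h : H, ∀ u ∈ U, ρ h u ∈ U) → U = ⊥ ∨ U = ⊤) : (Module.finrank F V = 1 → (∃ B : LinearMap.BilinForm F V, B.Nondegenerate ∧ ∀ h : H, ∀ x y : V, B (ρ h x) (ρ h y) = B x y) → Nat.card H ≤ 2) ∧ (2 ≤ Module.finrank F V → ((∃ B : LinearMap.BilinForm F V, B.Nondegenerate ∧ ∀ h : H, ∀ x y : V, B (ρ h x) (ρ h y) = B x y) ↔ (Even (Module.finrank F V) ∧ Nat.card H ∣ Fintype.card F ^ (Module.finrank F V / 2) + 1))) := by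
  rcases Nat.eq_zero_or_pos (Module.finrank F V) with h0 | hpos
  · omega
  haveI : Nontrivial V := Module.nontrivial_of_finrank_pos hpos
  obtain ⟨v, hv⟩ := exists_ne (0 : V)
  let A := Algebra.adjoin F (Set.range ρ)
  have hcomm : ∀ a ∈ Set.range ρ, ∀ b ∈ Set.range ρ, a * b = b * a := by
    rintro _ ⟨x, rfl⟩ _ ⟨y, rfl⟩
    rw [← map_mul, ← map_mul, mul_comm]
  letI : CommRing A := Algebra.adjoinCommRingOfComm F hcomm
  let χ : H →* A := ρ.codRestrict A fun h => Algebra.subset_adjoin ⟨h, rfl⟩
  have hinj : Function.Injective χ := fun a b hab => hfaith (congrArg Subtype.val hab)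
  have hgen : Algebra.adjoin F (Set.range χ) = ⊤ := by
    rw [← Algebra.adjoin_adjoin_coe_preimage (R := F) (s := Set.range ρ)]
    congr 1
    ext a
    exact ⟨fun ⟨h, hh⟩ => ⟨h, congrArg Subtype.val hh⟩, fun ⟨h, hh⟩ => ⟨h, Subtype.ext hh⟩⟩
  let ev : A →ₗ[F] V := (LinearMap.applyₗ v).comp A.val.toLinearMap
  have hc : ∀ (a : A) h x, (a : Module.End F V) (ρ h x) = ρ h ((a : Module.End F V) x) :=
    fun a h x => LinearMap.congr_fun (congrArg Subtype.val (mul_comm a (χ h))) x
  have hker : ∀ a : A, a ≠ 0 → LinearMap.ker (a : Module.End F V) = ⊥ := by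
    intro a ha
    refine (hirr _ fun h u hu => ?_).resolve_right fun htop => ha ?_
    · rw [LinearMap.mem_ker] at hu ⊢
      rw [hc, hu, map_zero]
    · exact Subtype.ext (LinearMap.ker_eq_top.1 htop)
  have hev : Function.Bijective ev := by
    constructor
    · rw [injective_iff_map_eq_zero]
      intro a (ha : (a : Module.End F V) v = 0)
      by_contra hne
      exact hv (LinearMap.ker_eq_bot'.1 (hker a hne) v ha)
    · rw [← LinearMap.range_eq_top]
      refine (hirr _ ?_).resolve_left fun hbot => hv ?_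
      · rintro h _ ⟨a, rfl⟩
        exact ⟨χ h * a, rfl⟩
      · exact (Submodule.eq_bot_iff _).1 hbot v ⟨1, rfl⟩
  let e : A ≃ₗ[F] V := LinearEquiv.ofBijective ev hev
  haveI : Nontrivial A := e.toEquiv.nontrivial
  haveI : NoZeroDivisors A := ⟨fun {a b} hab => or_iff_not_imp_left.2 fun ha =>
    hev.1 (LinearMap.ker_eq_bot'.1 (hker a ha) _
      (LinearMap.congr_fun (congrArg Subtype.val hab) v) |>.trans (map_zero ev).symm)⟩
  haveI : Finite V := Module.finite_of_finite F
  haveI : Finite A := Finite.of_equiv V e.symm.toEquiv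
  haveI : IsDomain A := NoZeroDivisors.to_isDomain A
  letI : Field A := (Finite.isField_of_domain A).toField
  exact of_model χ hinj hgen ρ e fun h a => rfl

end Cfsg.Agent.S4967
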