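import Cfsg.Statements.S4978
import Cfsg.Agent.S5197
import Cfsg.Agent.Lib.Star.Focal
import Cfsg.Agent.Lib.BrauerPairs.Bridge
import Cfsg.Agent.Lib.Char.HeightZeroInduced
import Cfsg.Agent.Lib.Fusion.FocalProper
import Cfsg.Agent.Lib.Fusion.FocalKInf
import Cfsg.Agent.Lib.Blocks.Defect
import Mathlib.NumberTheory.LegendreSymbol.Basic

set_option autoImplicit false
open Cfsg
open scoped Classical Cfsg.Agent.Blocks

namespace Cfsg.Agent.S4978

universe u

/-- Counting with multiplicities: a sum of `M` squares of units vanishing modulo `p` (`p > 3`) has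
`M ≥ 2`, and `M ≥ 3` when `-1` is not a square. -/
theorem two_le_card {p : ℕ} [Fact p.Prime] (hp : 3 < p) {ι : Type*} (s : Finset ι) (m : ι → ℕ)
    (r : ι → ZMod p) (hr : ∀ i ∈ s, r i ≠ 0) (hm : ∀ i ∈ s, 0 < m i) (hne : s.Nonempty)
    (h : ∑ i ∈ s, (m i : ZMod p) * r i ^ 2 = 0) :
    2 ≤ ∑ i ∈ s, m i ∧ (p % 4 = 3 → 3 ≤ ∑ i ∈ s, m i) := by
  have hone : ∀ i, s = {i} → 2 < m i := by
    intro i hs
    rw [hs, Finset.sum_singleton] at h
    have hi := hr i (hs ▸ Finset.mem_singleton_self i)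
    have h0 := (mul_eq_zero.1 h).resolve_right (pow_ne_zero 2 hi)
    rw [ZMod.natCast_eq_zero_iff] at h0
    have := Nat.le_of_dvd (hm i (hs ▸ Finset.mem_singleton_self i)) h0
    omega
  have hle : s.card ≤ ∑ i ∈ s, m i := by
    rw [Finset.card_eq_sum_ones]
    exact Finset.sum_le_sum fun i hi => hm i hi
  have hne' := hne.card_pos
  rcases Nat.lt_or_ge s.card 2 with hc | hc
  · obtain ⟨i, hi⟩ := Finset.card_eq_one.1 (by omega : s.card = 1)
    have := hone i hi
    rw [hi, Finset.sum_singleton]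
    exact ⟨by omega, fun _ => this⟩
  refine ⟨hc.trans hle, fun h4 => ?_⟩
  by_contra hlt
  obtain ⟨i, j, hij, hs⟩ := Finset.card_eq_two.1 (by omega : s.card = 2)
  rw [hs, Finset.sum_pair hij] at h hlt
  have hi := hm i (hs ▸ Finset.mem_insert_self i _)
  have hj := hm j (hs ▸ Finset.mem_insert_of_mem (Finset.mem_singleton_self j))
  rw [show m i = 1 by omega, show m j = 1 by omega, Nat.cast_one, one_mul, one_mul] at h
  have hi' := hr i (hs ▸ Finset.mem_insert_self i _)
  have hsq : IsSquare (-1 : ZMod p) := ⟨r j / r i, by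
    field_simp
    linear_combination -h⟩
  exact ZMod.exists_sq_eq_neg_one_iff.1 hsq h4

/-- The focal subgroup of a saturated system with `p`-group automiser of the top is proper (`p ≥ 5`). -/
theorem focal_lt {p : ℕ} [Fact p.Prime] (hp : 5 ≤ p) {Ω : Type u} [Group Ω] {S : Subgroup Ω}
    [Finite S] (hS : IsPGroup p S) (F : FusionSystem S) (hF : F.IsSaturated p) (hne : S ≠ ⊥)
    (haut : IsPGroup p ↥(F.autGroup S)) : F.focalSubgroup < S := by
  obtain ⟨h1, h2⟩ := Agent.KInf.isCharPFunctor_kInfLower.{u} (p := p)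
  exact Agent.Fusion.focal_lt_of_controls (p := p) Cfsg.kInfLower h1 h2
    (fun hT F hF N hN => Agent.S5197.result Cfsg.kInfLower h1 h2
      (fun G _ _ P _ => Agent.Fusion.kInfLower_local_transfer hp G P) hT F hF N hN) _ F rfl hS hF hne haut

/-- Let p be a prime and B a p-block of the finite group G (relative to a maximal ideal M of the algebraic integers containing p) with a nontrivial defect group D whose automorphism group is a p-group (for a p-group D this is the same as its outer automorphism group being a p-group). Then the number of irreducible characters of height zero in B is divisible by p; if p > 3 this number is at least 2p, and if moreover p ≡ 3 (mod 4) it is at least 3p. -/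
theorem result {G : Type*} [Group G] [Finite G] (p : ℕ) [Fact p.Prime] (M : Ideal Cfsg.AlgInt) (hM : Cfsg.IsPModular p M) (B : Set (Cfsg.IrrCharacter G)) (hB : Cfsg.IsPBlock M B) (D : Subgroup G) (hD : Cfsg.IsDefectGroup p M B D) (hD1 : D ≠ ⊥) (hAut : IsPGroup p (MulAut ↥D)) : p ∣ Nat.card {χ : Cfsg.IrrCharacter G // χ ∈ B ∧ Cfsg.blockHeight p B (χ : G → ℂ) = 0} ∧ (3 < p → 2 * p ≤ Nat.card {χ : Cfsg.IrrCharacter G // χ ∈ B ∧ Cfsg.blockHeight p B (χ : G → ℂ) = 0}) ∧ (3 < p → p % 4 = 3 → 3 * p ≤ Nat.card {χ : Cfsg.IrrCharacter G // χ ∈ B ∧ Cfsg.blockHeight p B (χ : G → ℂ) = 0}) := by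
  haveI := Fintype.ofFinite G
  haveI : M.IsMaximal := hM.2.1
  haveI : CharP (AlgInt ⧸ M) p := Agent.Blocks.charP_residue hM.2.2
  have hblk := fun H : Subgroup G => Agent.BrauerPairs.hasBlocks M H
  have hpp : p.Prime := Fact.out
  set a := (Nat.card G).factorization p with ha
  set d := blockDefect p B with hddef
  set b := sInf ((fun χ : IrrCharacter G => (charDegree (χ : G → ℂ)).factorization p) '' B) with hb
  have hDd : Nat.card D = p ^ d := Agent.Blocks.card_defectGroup hM.2.2 hB hD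
  have hd1 : 1 ≤ d := by
    rcases Nat.eq_zero_or_pos d with h | h
    · exact absurd (Subgroup.card_eq_one.1 (by rw [hDd, h, pow_zero])) hD1
    · exact h
  have hd2 : 3 < p → 2 ≤ d := by
    intro hp3
    by_contra h
    have hd : d = 1 := by omega
    rw [hd, pow_one] at hDd
    haveI : Fact (Nat.card D).Prime := ⟨hDd ▸ hpp⟩
    haveI : IsCyclic D := isCyclic_of_prime_card rfl
    obtain ⟨n, hn⟩ := IsPGroup.iff_card.1 hAut
    rw [Nat.card_congr (IsCyclic.mulAutMulEquiv D).toEquiv, Nat.card_eq_fintype_card,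
      ZMod.card_units_eq_totient, hDd, Nat.totient_prime hpp] at hn
    rcases Nat.eq_zero_or_pos n with h0 | h0
    · rw [h0, pow_zero] at hn; omega
    · have : p ≤ p - 1 := hn.symm ▸ Nat.le_self_pow h0.ne' p
      omega
  set r : IrrCharacter G → ℕ := fun χ => Agent.Char.degree χ / p ^ b with hr
  have hrB : ∀ χ ∈ B, Agent.Char.degree χ = p ^ b * r χ := fun χ hχ =>
    (Nat.mul_div_cancel' ((hpp.pow_dvd_iff_le_factorization (Agent.Char.degree_pos χ).ne').2
      (Agent.Char.sInf_le_factorization_degree hχ))).symm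
  have hrh : ∀ χ ∈ B, (p ∣ r χ ↔ blockHeight p B (χ : G → ℂ) ≠ 0) := by
    intro χ hχ
    have h1 : b ≤ (Agent.Char.degree χ).factorization p := Agent.Char.sInf_le_factorization_degree hχ
    rw [blockHeight, ← hb, Agent.Blocks.charDegree_eq, ← Nat.mul_dvd_mul_iff_left (pow_pos hpp.pos b),
      ← hrB χ hχ, ← pow_succ, hpp.pow_dvd_iff_le_factorization (Agent.Char.degree_pos χ).ne']
    omega
  -- the congruence for the degrees of height zero
  obtain ⟨χ₀, hχ₀, hχ₀0⟩ := Agent.Blocks.exists_height_zero hM.2.2 hB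
  have hba : b ≤ a := by
    have h1 : (Agent.Char.degree χ₀).factorization p = b :=
      Agent.Char.factorization_degree_of_height_zero hχ₀ hχ₀0
    rw [← h1, ha]
    exact (Nat.factorization_le_iff_dvd (Agent.Char.degree_pos χ₀).ne' Nat.card_pos.ne').2
      (Agent.Char.degree_dvd_natCard χ₀) p
  have hall : p ^ d ∣ ∑ χ ∈ Finset.univ.filter (· ∈ B), r χ ^ 2 := by
    have hS0 : (∑ χ ∈ Finset.univ.filter (· ∈ B), Agent.Char.degree χ ^ 2) ≠ 0 :=
      (Finset.sum_pos (fun χ _ => pow_pos (Agent.Char.degree_pos χ) 2) ⟨χ₀, by simp [hχ₀]⟩).ne'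
    have h := (hpp.pow_dvd_iff_le_factorization hS0).2
      (Agent.Char.factorization_sum_degree_sq hM.2.2 hpp hB).ge
    rw [← hddef, ← ha, show 2 * a - d = b * 2 + d by rw [hddef, blockDefect, ← ha, ← hb]; omega,
      pow_add, pow_mul, Finset.sum_congr rfl fun χ hχ => by
        rw [hrB χ (Finset.mem_filter.1 hχ).2, mul_pow],
      ← Finset.mul_sum, Nat.mul_dvd_mul_iff_left (pow_pos (pow_pos hpp.pos b) 2)] at h
    exact h
  have hzero : ∀ j, j ≤ 2 → j ≤ d →
      p ^ j ∣ ∑ χ : Agent.Star.HeightSet (G := G) p B 0, r χ.1 ^ 2 := by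
    intro j hj hjd
    have h1 : p ^ j ∣ ∑ χ ∈ (Finset.univ.filter (· ∈ B)).filter
        (fun χ : IrrCharacter G => ¬ blockHeight p B (χ : G → ℂ) = 0), r χ ^ 2 :=
      Finset.dvd_sum fun χ hχ => by
        obtain ⟨hχB, hχh⟩ := Finset.mem_filter.1 hχ
        exact (pow_dvd_pow p hj).trans
          (pow_dvd_pow_of_dvd ((hrh χ (Finset.mem_filter.1 hχB).2).2 hχh) 2)
    have h2 := (pow_dvd_pow p hjd).trans hall
    rw [← Finset.sum_filter_add_sum_filter_not _ (fun χ : IrrCharacter G => blockHeight p B (χ : G → ℂ) = 0),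
      Nat.dvd_add_left h1, Finset.filter_filter] at h2
    rwa [Finset.sum_subtype (p := fun χ : IrrCharacter G => χ ∈ B ∧ blockHeight p B (χ : G → ℂ) = 0) _
      (fun χ => by simp)] at h2
  by_cases hp3 : p ≤ 3
  · refine ⟨?_, fun h => by omega, fun h => by omega⟩
    have h1 := hzero 1 (by norm_num) hd1
    rw [pow_one, ← ZMod.natCast_eq_zero_iff, Nat.cast_sum,
      Finset.sum_congr rfl fun χ _ => show ((r χ.1 ^ 2 : ℕ) : ZMod p) = 1 by
        have hχ : ¬ p ∣ r χ.1 := fun h => (hrh _ χ.2.1).1 h χ.2.2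
        rw [← ZMod.natCast_eq_zero_iff] at hχ
        rw [Nat.cast_pow]
        have hp' : p - 1 ∣ 2 := by
          have := hpp.two_le
          interval_cases p <;> norm_num
        obtain ⟨c, hc⟩ := hp'
        rw [hc, pow_mul, ZMod.pow_card_sub_one_eq_one hχ, one_pow],
      Finset.sum_const, nsmul_one, ZMod.natCast_eq_zero_iff, Finset.card_univ,
      ← Nat.card_eq_fintype_card] at h1
    exact h1
  -- the block fusion system
  have hp5 : 5 ≤ p := by
    rcases lt_or_ge p 5 with h | h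
    · have h4 : p = 4 := by omega
      exact absurd (h4 ▸ hpp) (by norm_num)
    · exact h
  have hBi := Agent.BrauerPairs.isBlockIdem_blkG hB
  obtain ⟨e, he, hmax⟩ := Agent.BrauerPairs.exists_isMax_of_isDefectGroup hB hD
  have hmax' : IsMaximalBrauerPair p M B D e :=
    (Agent.BrauerPairs.isMaximalBrauerPair_iff hB).2 ⟨he, hmax⟩
  set F := Agent.BrauerPairs.blockSystem hblk hmax.1.1
  have hF : IsBlockFusionSystemOn p M B D e F :=
    Agent.BrauerPairs.isBlockFusionSystemOn_blockSystem hblk hmax' he hmax.1.1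
  haveI := Agent.Star.focal_normal F
  have hlt : F.focalSubgroup < D := focal_lt hp5 hmax.1.1.1 F
    (Agent.BrauerPairs.isSaturated_blockSystem hblk hBi hmax) hD1 (hAut.to_subgroup _)
  have hidx : p ∣ (F.focalSubgroup.subgroupOf D).index := by
    obtain ⟨n, hn⟩ := (Nat.dvd_prime_pow hpp).1
      (hDd ▸ (F.focalSubgroup.subgroupOf D).index_dvd_card)
    rcases Nat.eq_zero_or_pos n with h0 | h0
    · rw [h0, pow_zero] at hn
      exact absurd (fun x hx => Subgroup.mem_subgroupOf.1
        ((Subgroup.index_eq_one.1 hn.2) ▸ Subgroup.mem_top (⟨x, hx⟩ : D))) hlt.not_ge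
    · rw [hn.2]; exact dvd_pow_self p h0.ne'
  refine ⟨hidx.trans (Agent.Star.focal_index_dvd_height_zero hM.2.2 hB hmax he hF), ?_⟩
  letI := Agent.Star.quotCommGroup F
  letI := Agent.Star.heightAction hM.2.2 hB hmax he hF 0
  haveI : NeZero (Monoid.exponent (D ⧸ F.focalSubgroup.subgroupOf D)) :=
    ⟨Monoid.exponent_ne_zero_of_finite⟩
  have hdeg : ∀ (φ : (D ⧸ F.focalSubgroup.subgroupOf D) →* ℂˣ)
      (χ : Agent.Star.HeightSet (G := G) p B 0),
      Agent.Char.degree (φ • χ).1 = Agent.Char.degree χ.1 := by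
    intro φ χ
    have hl := Agent.Star.isStable_lamOf hmax he hF φ
    obtain ⟨ψ, h1, -, h3⟩ := Agent.Star.exists_star_irr hM.2.2 hB hmax hl χ.2.1
    have h4 : (φ • χ).1 = ψ := Subtype.ext
      ((Agent.Star.exists_image hM.2.2 hB hmax he hF 0 φ χ).choose_spec.trans h1.symm)
    rw [h4]
    rw [Agent.Char.apply_one_eq_degree, Agent.Char.apply_one_eq_degree] at h3
    exact_mod_cast h3
  have hfib : ∀ δ : ℕ, p ∣ Nat.card {χ : Agent.Star.HeightSet (G := G) p B 0 // r χ.1 = δ} := by
    intro δ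
    letI : MulAction ((D ⧸ F.focalSubgroup.subgroupOf D) →* ℂˣ)
        {χ : Agent.Star.HeightSet (G := G) p B 0 // r χ.1 = δ} :=
      { smul := fun φ χ => ⟨φ • χ.1, by
          show Agent.Char.degree (φ • χ.1).1 / p ^ b = δ
          rw [hdeg]; exact χ.2⟩
        one_smul := fun χ => Subtype.ext (one_smul _ χ.1)
        mul_smul := fun φ ψ χ => Subtype.ext (mul_smul φ ψ χ.1) }
    have hcard : Nat.card ((D ⧸ F.focalSubgroup.subgroupOf D) →* ℂˣ) =
        (F.focalSubgroup.subgroupOf D).index :=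
      CommGroup.card_monoidHom_of_hasEnoughRootsOfUnity _ _
    have h := Agent.Star.index_dvd_card_of_stabilizer_le
      (X := {χ : Agent.Star.HeightSet (G := G) p B 0 // r χ.1 = δ})
      (⊥ : Subgroup ((D ⧸ F.focalSubgroup.subgroupOf D) →* ℂˣ)) fun χ φ hφ => ?_
    · rw [Subgroup.index_bot, hcard] at h
      exact hidx.trans h
    rw [Subgroup.mem_bot]
    refine MonoidHom.ext fun x => ?_
    induction x using QuotientGroup.induction_on with
    | H x =>
      have h1 := Agent.Star.lam_eq_one_of_height_zero hM.2.2 hB hmax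
        (Agent.Star.isStable_lamOf hmax he hF φ) χ.1.2.1 χ.1.2.2
        (Agent.Star.fixed_eq_star hM.2.2 hB hmax he hF 0 φ χ.1 (congrArg Subtype.val hφ)) x.2
      rw [Agent.Star.lamOf_mk] at h1
      exact Units.ext h1
  set f : Agent.Star.HeightSet (G := G) p B 0 → ℕ := fun χ => r χ.1 with hf
  set s := Finset.univ.image f with hs
  set m : ℕ → ℕ := fun δ => (Finset.univ.filter fun χ => f χ = δ).card / p with hmdef
  have hmc : ∀ δ, (Finset.univ.filter fun χ => f χ = δ).card = p * m δ := by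
    intro δ
    have h := hfib δ
    rw [Nat.card_eq_fintype_card, Fintype.card_subtype] at h
    exact (Nat.mul_div_cancel' h).symm
  have hsum : Nat.card (Agent.Star.HeightSet (G := G) p B 0) = p * ∑ δ ∈ s, m δ := by
    rw [Nat.card_eq_fintype_card, ← Finset.card_univ,
      Finset.card_eq_sum_card_image f Finset.univ, Finset.mul_sum]
    exact Finset.sum_congr rfl fun δ _ => hmc δ
  have hrel : ∑ δ ∈ s, (m δ : ZMod p) * (δ : ZMod p) ^ 2 = 0 := by
    have h2 := hzero 2 le_rfl (hd2 (by omega))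
    rw [← Finset.sum_fiberwise_of_maps_to (t := s)
      (fun χ _ => Finset.mem_image_of_mem f (Finset.mem_univ χ)),
      Finset.sum_congr rfl (g := fun δ => p * (m δ * δ ^ 2)) fun δ _ => by
        rw [Finset.sum_congr rfl (g := fun _ => δ ^ 2) fun χ hχ => by
          rw [← (Finset.mem_filter.1 hχ).2], Finset.sum_const, smul_eq_mul, hmc, mul_assoc],
      ← Finset.mul_sum, sq p, Nat.mul_dvd_mul_iff_left hpp.pos, ← ZMod.natCast_eq_zero_iff] at h2
    push_cast at h2
    exact h2
  have hnz : ∀ δ ∈ s, (δ : ZMod p) ≠ 0 := by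
    intro δ hδ
    obtain ⟨χ, -, rfl⟩ := Finset.mem_image.1 hδ
    rw [Ne, ZMod.natCast_eq_zero_iff]
    exact fun h => (hrh _ χ.2.1).1 h χ.2.2
  have hmpos : ∀ δ ∈ s, 0 < m δ := by
    intro δ hδ
    obtain ⟨χ, -, rfl⟩ := Finset.mem_image.1 hδ
    by_contra h
    have h1 := hmc (f χ)
    rw [show m (f χ) = 0 by omega, mul_zero, Finset.card_eq_zero] at h1
    exact Finset.notMem_empty χ (h1 ▸ Finset.mem_filter.2 ⟨Finset.mem_univ _, rfl⟩)
  obtain ⟨k2, k3⟩ := two_le_card (by omega : 3 < p) s m (fun δ => (δ : ZMod p)) hnz hmpos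
    ⟨f ⟨χ₀, hχ₀, hχ₀0⟩, Finset.mem_image_of_mem f (Finset.mem_univ _)⟩ hrel
  refine ⟨fun _ => ?_, fun _ h4 => ?_⟩
  · rw [hsum, mul_comm]
    exact Nat.mul_le_mul_left p k2
  · rw [hsum, mul_comm]
    exact Nat.mul_le_mul_left p (k3 h4)

end Cfsg.Agent.S4978
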