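import Cfsg.Statements.S4989
import Cfsg.Agent.Lib.Char.Orthogonality
import Cfsg.Agent.Lib.CharInt.GaloisAverage
import Mathlib

set_option autoImplicit false
open Cfsg

namespace Cfsg.Agent.S4989

/-- Let H be a subgroup of the finite group G and χ an irreducible complex character of G. Then the inner product of the restriction of χ to H with itself, (1/#H)·Σ_{h ∈ H} |χ(h)|², is at most 1 + #(Z ∖ H)/#H, where Z is the set of zeros of χ in G. -/
theorem result {G : Type*} [Group G] [Finite G] (H : Subgroup G) (χ : Cfsg.IrrCharacter G) : (Nat.card ↥H : ℝ)⁻¹ * ∑ᶠ h : ↥H, ‖(χ : G → ℂ) h‖ ^ 2 ≤ 1 + (Set.ncard ({x : G | (χ : G → ℂ) x = 0} \ (H : Set G)) : ℝ) / (Nat.card ↥H : ℝ) := by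
  classical
  have := Fintype.ofFinite G
  have hχ := Cfsg.Agent.Char.irr_isCharacter χ
  have hnorm : ∑ x : G, ‖(χ : G → ℂ) x‖ ^ 2 = (Nat.card G : ℝ) := by
    have h := Cfsg.Agent.Char.classInner_irr_self χ.2
    rw [Cfsg.classInner, inv_mul_eq_one₀ Cfsg.Agent.Char.card_ne_zero] at h
    simp only [Complex.mul_conj, Complex.normSq_eq_norm_sq] at h
    exact_mod_cast h.symm
  let T : Finset G := Finset.univ.filter fun x => x ∉ H
  let Z : Finset G := T.filter fun x => (χ : G → ℂ) x = 0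
  let S : Finset G := T.filter fun x => ¬ (χ : G → ℂ) x = 0
  have hZ : (Set.ncard ({x : G | (χ : G → ℂ) x = 0} \ (H : Set G)) : ℝ) = (Z.card : ℝ) := by
    rw [← Set.ncard_coe_finset Z]
    congr 2
    ext x
    simp [Z, T, and_comm]
  have hback : ∀ (x : G) (k : ℕ), k.Coprime (Nat.card G) → x ∈ Subgroup.zpowers (x ^ k) := by
    intro x k hk
    obtain ⟨m, hm⟩ := exists_pow_eq_self_of_coprime
      (hk.coprime_dvd_right (orderOf_dvd_natCard x))
    exact ⟨m, by simpa using hm⟩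
  have hclosed : ∀ x ∈ S, ∀ j : ℕ, j.Coprime (Nat.card G) → (χ : G → ℂ) (x ^ j) ≠ 0 →
      x ^ j ∈ S := by
    intro x hx j hj hne
    simp only [S, T, Finset.mem_filter, Finset.mem_univ, true_and] at hx ⊢
    exact ⟨fun h => hx.1 ((Subgroup.zpowers_le.2 h) (hback x j hj)), hne⟩
  have hout : (S.card : ℝ) ≤ ∑ x ∈ S, ‖(χ : G → ℂ) x‖ ^ 2 := by
    refine Cfsg.Agent.CharInt.card_le_sum_norm_sq hχ S (fun x hx j hj => hclosed x hx j hj ?_)
      (fun x hx => (Finset.mem_filter.1 hx).2)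
    exact Cfsg.Agent.CharInt.char_pow_ne_zero hχ x hj (Finset.mem_filter.1 hx).2
  have hsplit : ∑ x : G, ‖(χ : G → ℂ) x‖ ^ 2 =
      (∑ h : ↥H, ‖(χ : G → ℂ) h‖ ^ 2) + ∑ x ∈ T, ‖(χ : G → ℂ) x‖ ^ 2 := by
    rw [← Finset.sum_filter_add_sum_filter_not Finset.univ (fun x => x ∈ H)]
    congr 1
    exact Finset.sum_subtype _ (fun x => by simp) _
  have hTsum : ∑ x ∈ S, ‖(χ : G → ℂ) x‖ ^ 2 ≤ ∑ x ∈ T, ‖(χ : G → ℂ) x‖ ^ 2 :=
    Finset.sum_le_sum_of_subset_of_nonneg (Finset.filter_subset _ _) (fun _ _ _ => by positivity)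
  have hcard : (T.card : ℝ) = Z.card + S.card := by
    exact_mod_cast (Finset.card_filter_add_card_filter_not (s := T)
      (fun x => (χ : G → ℂ) x = 0)).symm
  have hGcard : (Nat.card G : ℝ) = Nat.card ↥H + T.card := by
    have h := Finset.card_filter_add_card_filter_not (s := (Finset.univ : Finset G)) (fun x => x ∈ H)
    rw [Finset.card_univ, ← Nat.card_eq_fintype_card, ← Fintype.card_subtype] at h
    rw [← h, Nat.card_eq_fintype_card]
    push_cast
    rfl
  have hH : (0 : ℝ) < Nat.card ↥H := by exact_mod_cast Nat.card_pos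
  rw [finsum_eq_sum_of_fintype, hZ, inv_mul_le_iff₀ hH]
  field_simp
  linarith

end Cfsg.Agent.S4989
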