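import Cfsg.Statements.S4993
import Cfsg.Agent.Lib.MetanilpotentPrim.Main

set_option autoImplicit false
open Cfsg Cfsg.Agent

namespace Cfsg.Agent.S4993

/-- Let G be a group of odd order whose order has exactly two prime divisors and whose quotient by its Fitting subgroup is nilpotent (G is metanilpotent), and let χ be a primitive irreducible complex character of G (not induced from a character of any proper subgroup). Then χ(1) divides the size of some conjugacy class of G. -/
theorem result {G : Type*} [Group G] [Fintype G] (hodd : Odd (Nat.card G)) (h2 : (Nat.card G).primeFactors.card = 2) [hF : (Cfsg.fittingSubgroup G).Normal] (hmeta : Group.IsNilpotent (G ⧸ Cfsg.fittingSubgroup G)) (χ : Cfsg.IrrCharacter G) (hprim : ¬ ∃ (H : Subgroup G), H ≠ ⊤ ∧ ∃ θ : ↥H → ℂ, Cfsg.IsCharacter ↥H θ ∧ Cfsg.indFun H θ = (χ : G → ℂ)) : ∃ g : G, Cfsg.charDegree (χ : G → ℂ) ∣ (Subgroup.centralizer ({g} : Set G)).index := by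
  classical
  obtain ⟨p, q, hpq, hpf⟩ := Finset.card_eq_two.1 h2
  have hp : p.Prime := Nat.prime_of_mem_primeFactors (n := Nat.card G) (by rw [hpf]; simp)
  have hq : q.Prime := Nat.prime_of_mem_primeFactors (n := Nat.card G) (by rw [hpf]; simp)
  haveI := Fact.mk hp
  haveI := Fact.mk hq
  obtain ⟨n, ρ, hirr, hρ⟩ := χ.2
  haveI := hirr
  let K : Subgroup G := MonoidHom.ker ρ
  let π := QuotientGroup.mk' K
  have hπ : Function.Surjective π := QuotientGroup.mk'_surjective K
  let σ : Representation ℂ (G ⧸ K) (Fin n → ℂ) := QuotientGroup.lift K ρ le_rfl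
  have hσπ : σ.comp π = ρ := MonoidHom.ext fun g => rfl
  haveI := CharInt.irreducible_of_comp_surjective ρ π hπ σ hσπ
  haveI := Fintype.ofFinite (G ⧸ K)
  let χ' : IrrCharacter (G ⧸ K) := ⟨σ.character, Char.isIrrCharacter_character σ inferInstance⟩
  have hval : ∀ g : G, σ.character (π g) = (χ : G → ℂ) g := fun g => by rw [← hρ]; rfl
  have hprim' : MetanilpotentPrim.IsPrim χ' := by
    rintro ⟨H, hH, θ, hθ, hind⟩
    refine hprim ⟨H.comap π, fun h => hH ?_, fun x => θ ⟨π x, x.2⟩,
      Char.IsCharacter.comp hθ ((π.comp (H.comap π).subtype).codRestrict H fun x => x.2),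
      funext fun g => ?_⟩
    · rw [← Subgroup.map_comap_eq_self_of_surjective hπ H, h, Subgroup.map_top_of_surjective π hπ]
    · rw [Char.indFun_comp_surjective π hπ H θ g, hind]
      exact hval g
  have hprimes : ∀ g : G ⧸ K, ∃ i j : ℕ, orderOf g = p ^ i * q ^ j := by
    intro g
    refine ⟨(orderOf g).factorization p, (orderOf g).factorization q, ?_⟩
    have h0 : orderOf g ≠ 0 := (orderOf_pos g).ne'
    have hsub : (orderOf g).primeFactors ⊆ {p, q} := hpf ▸ Nat.primeFactors_mono
      ((orderOf_dvd_natCard g).trans (Subgroup.card_quotient_dvd_card K)) Nat.card_pos.ne'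
    refine (Nat.prod_primeFactors_pow_factorization h0).trans ?_
    rw [Finset.prod_subset hsub (fun l hl hnot => ?_), Finset.prod_pair hpq]
    have h1 : (orderOf g).factorization l = 0 := Finsupp.notMem_support_iff.1
      (by rwa [Nat.support_factorization])
    rw [h1, pow_zero]
  have hmeta' : Group.IsNilpotent ((G ⧸ K) ⧸ Cfsg.fittingSubgroup (G ⧸ K)) := by
    refine Group.nilpotent_of_surjective (QuotientGroup.map _ _ π
      (Subgroup.map_le_iff_le_comap.1 (Components.map_fittingSubgroup_le hπ))) ?_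
    intro w
    obtain ⟨w, rfl⟩ := QuotientGroup.mk_surjective w
    obtain ⟨g, rfl⟩ := hπ w
    exact ⟨g, rfl⟩
  obtain ⟨w, hw⟩ := MetanilpotentPrim.exists_dvd_class_of_faithful hpq hprimes hmeta' σ
    ((QuotientGroup.injective_lift_iff K ρ le_rfl).2 rfl) χ' rfl hprim'
  obtain ⟨g, rfl⟩ := hπ w
  refine ⟨g, ?_⟩
  have hd : Cfsg.charDegree (χ : G → ℂ) = Char.degree χ' := by
    have h1 : (χ : G → ℂ) 1 = (Char.degree χ' : ℂ) := by
      rw [← Char.apply_one_eq_degree, ← hval 1, map_one]
    rw [Cfsg.charDegree, h1, Complex.natCast_re, Nat.floor_natCast]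
  rw [hd]
  refine hw.trans ?_
  rw [← Subgroup.index_comap_of_surjective _ hπ]
  refine Subgroup.index_dvd_of_le fun x hx => ?_
  rw [Subgroup.mem_comap, Subgroup.mem_centralizer_singleton_iff, ← map_mul, ← map_mul,
    Subgroup.mem_centralizer_singleton_iff.1 hx]

end Cfsg.Agent.S4993
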