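import Cfsg.Statements.S4996
import Cfsg.Agent.Lib.CharInt.GaloisAverage
import Cfsg.Agent.Lib.Char.Linear
-- import your own Cfsg.Agent.* helpers here

set_option autoImplicit false
open Cfsg

namespace Cfsg.Agent.S4996

open scoped ComplexConjugate
open Finset

section Aux

variable {G : Type*} [Group G]

/-- As `CharInt.exists_twists`, for the absolute values in place of their squares. -/
theorem exists_twists_norm (M : ℕ) [NeZero M] :
    ∃ (m : ℕ) (k : Fin m → ℕ), 0 < m ∧ (∀ j, (k j).Coprime M) ∧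
      ∀ (d : ℕ) (μ : Fin d → ℂ), (∀ i, μ i ^ M = 1) → (∑ i, μ i) ≠ 0 →
          (m : ℝ) ≤ ∑ j, ‖∑ i, μ i ^ k j‖ := by
  classical
  obtain ⟨ζ, hζ⟩ : ∃ ζ : ℂ, IsPrimitiveRoot ζ M := ⟨_, Complex.isPrimitiveRoot_exp M (NeZero.ne M)⟩
  let K : IntermediateField ℚ ℂ := IntermediateField.adjoin ℚ {ζ}
  have : FiniteDimensional ℚ K :=
    IntermediateField.adjoin.finiteDimensional (hζ.isIntegral (NeZero.pos M)).tower_top
  let g : K := ⟨ζ, IntermediateField.subset_adjoin ℚ _ rfl⟩
  have hg : IsPrimitiveRoot g M :=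
    IsPrimitiveRoot.of_map_of_injective (f := K.val) hζ K.val.injective
  have hσ : ∀ σ : K →ₐ[ℚ] ℂ, ∃ k : ℕ, k.Coprime M ∧ σ g = ζ ^ k := by
    intro σ
    obtain ⟨k, -, hk, hk'⟩ := hζ.isPrimitiveRoot_iff.1 (hg.map_of_injective σ.injective)
    exact ⟨k, hk, hk'.symm⟩
  choose k hk hk' using hσ
  let e := Fintype.equivFin (K →ₐ[ℚ] ℂ)
  refine ⟨Fintype.card (K →ₐ[ℚ] ℂ), fun j => k (e.symm j),
    Fintype.card_pos_iff.2 ⟨K.val⟩, fun j => hk _, fun d μ hμ hne => ?_⟩
  choose a ha ha' using fun i => hζ.eq_pow_of_pow_eq_one (hμ i)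
  let x : K := ∑ i, g ^ a i
  have hval : ∀ σ : K →ₐ[ℚ] ℂ, σ x = ∑ i, μ i ^ k σ := by
    intro σ
    simp only [x, map_sum, map_pow, hk', ← ha', ← pow_mul, mul_comm]
  have hint : IsIntegral ℤ x :=
    IsIntegral.sum _ fun i _ => (hg.isIntegral (NeZero.pos M)).pow _
  have hx0 : x ≠ 0 := by
    intro h
    apply hne
    have := congrArg K.val h
    simpa [x, g, ha'] using this
  have hmain : (Fintype.card (K →ₐ[ℚ] ℂ) : ℝ) ≤ ∑ σ : K →ₐ[ℚ] ℂ, ‖σ x‖ := by
    refine CharInt.card_le_sum_of_one_le_prod _ (fun σ => norm_pos_iff.2 (by simpa using hx0)) ?_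
    obtain ⟨z, hz⟩ : ∃ z : ℤ, (z : ℚ) = Algebra.norm ℚ x := by
      obtain ⟨z, hz⟩ := IsIntegrallyClosed.isIntegral_iff.1 (Algebra.isIntegral_norm ℚ hint)
      exact ⟨z, by simpa using hz⟩
    have hz0 : z ≠ 0 := by
      rintro rfl
      exact hx0 (by simpa using hz.symm)
    rw [← norm_prod, ← Algebra.norm_eq_prod_embeddings ℚ ℂ x, ← hz]
    simp only [eq_ratCast, Rat.cast_intCast, Complex.norm_intCast]
    exact_mod_cast Int.one_le_abs hz0
  calc (Fintype.card (K →ₐ[ℚ] ℂ) : ℝ) ≤ ∑ σ : K →ₐ[ℚ] ℂ, ‖σ x‖ := hmain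
    _ = ∑ j, ‖∑ i, μ i ^ k (e.symm j)‖ := by
        rw [← e.symm.sum_comp]
        simp only [hval]

/-- A character without zeros has absolute values summing to at least the number of non-identity
elements, outside the identity. -/
theorem card_le_sum_norm [Fintype G] [DecidableEq G] {ψ : G → ℂ} (h : IsCharacter G ψ)
    (hne : ∀ g, ψ g ≠ 0) : ((univ.erase (1 : G)).card : ℝ) ≤ ∑ g ∈ univ.erase (1 : G), ‖ψ g‖ := by
  have : NeZero (Nat.card G) := ⟨Nat.card_pos.ne'⟩
  obtain ⟨m, k, hm, hk, hmain⟩ := exists_twists_norm (Nat.card G)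
  have hpoint : ∀ g : G, (m : ℝ) ≤ ∑ j, ‖ψ (g ^ k j)‖ := by
    intro g
    obtain ⟨d, μ, -, hμ, hval⟩ := CharInt.exists_roots h g
    have hN : ∀ i, μ i ^ Nat.card G = 1 := fun i => by
      obtain ⟨c, hc⟩ := orderOf_dvd_natCard g
      rw [hc, pow_mul, hμ i, one_pow]
    have h1 := hval 1
    simp only [pow_one] at h1
    have := hmain d μ hN (h1 ▸ hne g)
    simpa [hval] using this
  have hinv : ∀ j, ∑ g ∈ univ.erase (1 : G), ‖ψ (g ^ k j)‖ = ∑ g ∈ univ.erase (1 : G), ‖ψ g‖ := by
    intro j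
    have hc : (Nat.card G).Coprime (k j) := (hk j).symm
    refine Finset.sum_equiv (powCoprime hc) (fun g => ?_) (fun g _ => rfl)
    simp only [mem_erase, mem_univ, and_true]
    exact ((powCoprime hc).apply_eq_iff_eq.trans Iff.rfl).not.symm.trans (by simp)
  have h1 : ((univ.erase (1 : G)).card : ℝ) * m ≤ (m : ℝ) * ∑ g ∈ univ.erase (1 : G), ‖ψ g‖ := by
    calc ((univ.erase (1 : G)).card : ℝ) * m = ∑ _g ∈ univ.erase (1 : G), (m : ℝ) := by
          rw [sum_const, nsmul_eq_mul]
      _ ≤ ∑ g ∈ univ.erase (1 : G), ∑ j, ‖ψ (g ^ k j)‖ := sum_le_sum fun g _ => hpoint g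
      _ = (m : ℝ) * ∑ g ∈ univ.erase (1 : G), ‖ψ g‖ := by
          rw [sum_comm, Finset.sum_congr rfl (fun j _ => hinv j), sum_const, card_univ, Fintype.card_fin, nsmul_eq_mul]
  exact le_of_mul_le_mul_left (by linarith) (by exact_mod_cast hm : (0 : ℝ) < m)

/-- Averaging over a normal subgroup gives a character. -/
theorem isCharacter_avg [Finite G] (N : Subgroup G) [N.Normal] [Fintype N] {φ : G → ℂ}
    (h : IsCharacter G φ) :
    IsCharacter G (fun x => (Nat.card N : ℂ)⁻¹ * ∑ n : N, φ (n * x)) := by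
  classical
  haveI := Fintype.ofFinite G
  refine Char.IsCharacter.induction_on
    (P := fun φ => IsCharacter G (fun x => (Nat.card N : ℂ)⁻¹ * ∑ n : N, φ (n * x))) h ?_ ?_ ?_
  · convert Char.IsCharacter.zero (G := G) using 1
    funext x; simp
  · intro φ₁ φ₂ _ _ h1 h2
    convert Char.IsCharacter.add h1 h2 using 1
    funext x; simp [Finset.sum_add_distrib, mul_add]
  · intro θ hθ
    obtain ⟨d, ρ, hρ, rfl⟩ := hθ
    haveI := hρ
    have hcl : IsClassFunction G (fun g => if g ∈ N then (1 : ℂ) else 0) := fun g a =>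
      if_congr ((Subgroup.Normal.mem_comm_iff (inferInstance : N.Normal)).trans (by rw [inv_mul_cancel_left]))
        rfl rfl
    obtain ⟨a, ha⟩ := Char.exists_opSum_eq_smul hcl ρ
    have hsum : ∑ n : N, ρ (n : G) = a • 1 := by
      refine LinearMap.ext fun v => ?_
      rw [LinearMap.smul_apply, Module.End.one_apply, ← ha v, Char.opSum_apply, LinearMap.sum_apply]
      simp only [ite_smul, one_smul, zero_smul]
      rw [← Finset.sum_filter]
      exact (Finset.sum_subtype (univ.filter (· ∈ N)) (by simp) (fun g => ρ g v)).symm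
    by_cases ha0 : a = 0
    · convert Char.IsCharacter.zero (G := G) using 1
      funext x
      simp only [Representation.character, map_mul, ← map_sum, ← Finset.sum_mul, hsum, ha0, zero_smul,
        zero_mul, map_zero, mul_zero, Pi.zero_apply]
    · have htriv : ∀ n : N, ρ (n : G) = 1 := by
        intro n
        have h1 : ρ (n : G) * (a • 1) = a • 1 := by
          rw [← hsum, Finset.mul_sum]
          exact Fintype.sum_equiv (Equiv.mulLeft n) _ _ fun u => by simp [map_mul]
        rw [mul_smul_comm, mul_one] at h1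
        exact smul_right_injective _ ha0 h1
      convert CharInt.isCharacter_of_isIrr ⟨d, ρ, hρ, rfl⟩ using 1
      funext x
      simp only [Representation.character, map_mul, htriv, one_mul, Finset.sum_const, Finset.card_univ,
        nsmul_eq_mul, ← Nat.card_eq_fintype_card]
      rw [inv_mul_cancel_left₀ (Nat.cast_ne_zero.2 Nat.card_pos.ne')]

end Aux

/-- Let N be a normal subgroup of the finite group G and χ an irreducible complex character of G. Then the restriction of χ to N is not irreducible if and only if χ vanishes on some whole coset Nx of N in G. -/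
theorem result {G : Type*} [Group G] [Finite G] (N : Subgroup G) [N.Normal] (χ : Cfsg.IrrCharacter G) : ¬ Cfsg.IsIrrCharacter ↥N (fun n : ↥N => (χ : G → ℂ) n) ↔ ∃ x : G, ∀ n : ↥N, (χ : G → ℂ) ((n : G) * x) = 0 := by
  classical
  haveI := Fintype.ofFinite G
  haveI := Fintype.ofFinite N
  have hres := Char.IsCharacter.restrict (Char.irr_isCharacter χ) N
  set r : G → ℝ := fun x => (Nat.card N : ℝ)⁻¹ * ∑ n : N, Complex.normSq (χ.1 ((n : G) * x)) with hr
  have hψ : IsCharacter G (fun x => (r x : ℂ)) := by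
    convert isCharacter_avg N (Char.IsCharacter.mul (Char.irr_isCharacter χ)
      (Char.IsCharacter.conj (Char.irr_isCharacter χ))) using 1
    funext x
    simp [r, Complex.mul_conj]
  have hr0 : ∀ x, 0 ≤ r x := fun x =>
    mul_nonneg (by positivity) (Finset.sum_nonneg fun n _ => Complex.normSq_nonneg _)
  have hzero : ∀ x, r x = 0 ↔ ∀ n : N, χ.1 ((n : G) * x) = 0 := by
    intro x
    simp only [r, mul_eq_zero, inv_eq_zero, Nat.cast_eq_zero, Nat.card_pos.ne', false_or]
    rw [Finset.sum_eq_zero_iff_of_nonneg fun n _ => Complex.normSq_nonneg _]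
    simp
  have hr1 : (r 1 : ℂ) = classInner (fun n : N => χ.1 n) (fun n : N => χ.1 n) := by
    rw [Char.classInner_self]
    simp [r]
  have hsum : ∑ x, r x = Nat.card G := by
    have h1 : ∀ n : N, ∑ x, Complex.normSq (χ.1 ((n : G) * x)) = ∑ x, Complex.normSq (χ.1 x) :=
      fun n => Equiv.sum_comp (Equiv.mulLeft (n : G)) fun x => Complex.normSq (χ.1 x)
    have h2 := Char.classInner_irr_self χ.2
    rw [Char.classInner_self, ← Complex.ofReal_one, Complex.ofReal_inj] at h2
    simp only [r, ← Finset.mul_sum]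
    rw [Finset.sum_comm, Finset.sum_congr rfl (fun n _ => h1 n), Finset.sum_const, Finset.card_univ,
      nsmul_eq_mul, ← Nat.card_eq_fintype_card, ← mul_assoc,
      inv_mul_cancel₀ (Nat.cast_ne_zero.2 Nat.card_pos.ne'), one_mul]
    field_simp at h2
    exact h2
  constructor
  · intro hnot
    by_contra hcon
    push Not at hcon
    have hne : ∀ x, (r x : ℂ) ≠ 0 := by
      intro x h
      rw [Complex.ofReal_eq_zero, hzero] at h
      obtain ⟨n, hn⟩ := hcon x
      exact hn (h n)
    have hle : ((univ.erase (1 : G)).card : ℝ) ≤ ∑ x ∈ univ.erase (1 : G), r x := by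
      refine (card_le_sum_norm hψ hne).trans (le_of_eq (Finset.sum_congr rfl fun x _ => ?_))
      rw [Complex.norm_real, Real.norm_eq_abs, abs_of_nonneg (hr0 x)]
    have hle1 : r 1 ≤ 1 := by
      rw [← Finset.sum_erase_add _ _ (Finset.mem_univ (1 : G)), Nat.card_eq_fintype_card,
        ← Finset.card_univ, ← Finset.card_erase_add_one (Finset.mem_univ (1 : G)), Nat.cast_add,
        Nat.cast_one] at hsum
      linarith
    obtain ⟨k, hk⟩ := Char.IsCharacter.exists_nat_classInner hres hres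
    refine hnot (Char.isIrrCharacter_iff.2 ⟨hres, ?_⟩)
    rw [hk]
    have hk' : r 1 = (k : ℝ) := by rw [hk] at hr1; exact_mod_cast hr1
    have : k ≤ 1 := by exact_mod_cast hk'.symm.trans_le hle1
    have : k ≠ 0 := by
      rintro rfl
      exact hne 1 (by rw [hk']; simp)
    have : k = 1 := by omega
    exact_mod_cast this
  · rintro ⟨x, hx⟩ hirr
    have h1 : (r 1 : ℂ) = 1 := by rw [hr1]; exact Char.classInner_irr_self hirr
    obtain ⟨f, hf⟩ := Char.IsCharacter.exists_monoidHom hψ h1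
    have h2 : f x = 0 := by
      rw [hf]
      simp [(hzero x).2 hx]
    have h3 := map_mul f x x⁻¹
    rw [mul_inv_cancel, map_one, h2, zero_mul] at h3
    exact one_ne_zero h3

end Cfsg.Agent.S4996
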