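import Cfsg.Statements.S4997
import Cfsg.Agent.Lib.VanishingP.Main

set_option autoImplicit false
set_option linter.style.haveILetI false
open Cfsg

namespace Cfsg.Agent.S4997

/-- Let p be an odd prime and G a finite solvable group with exactly one conjugacy class consisting of vanishing elements (elements at which some irreducible complex character is zero) of order divisible by p. Let P be a Sylow p-subgroup of G. Then the order of P is at most p times the order of the largest normal p-subgroup of G. -/
theorem result {G : Type*} [Group G] [Finite G] (hsolv : Group.IsSolvable G) (p : ℕ) [Fact p.Prime] (hp : p ≠ 2) (h1 : Set.ncard {C : ConjClasses G | (∀ g ∈ C.carrier, ∃ χ : Cfsg.IrrCharacter G, (χ : G → ℂ) g = 0) ∧ ∃ g ∈ C.carrier, p ∣ orderOf g} = 1) (P : Sylow p G) : Nat.card ↥(P : Subgroup G) ≤ p * Nat.card ↥(Cfsg.pCore p G) := by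
  haveI := hsolv
  refine (Agent.VanishingP.card_sylow_le (fun a c hva hvc ha hc => ?_) P).1
  obtain ⟨C, hC⟩ := Set.ncard_eq_one.1 h1
  have hmem : ∀ x : G, Agent.VanishingP.Vanishing x → p ∣ orderOf x → ConjClasses.mk x = C := by
    intro x ⟨χ, hχ⟩ hx
    have h2 : ConjClasses.mk x ∈ ({C} : Set (ConjClasses G)) := hC ▸
      ⟨fun y hy => ⟨χ, by
        obtain ⟨t, ht⟩ := isConj_iff.1 (ConjClasses.mk_eq_mk_iff_isConj.1
          (ConjClasses.mem_carrier_iff_mk_eq.1 hy)).symm
        rw [← ht, Agent.Char.IsCharacter.isClassFunction (Agent.Char.irr_isCharacter χ) x t, hχ]⟩,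
        x, ConjClasses.mem_carrier_mk, hx⟩
    exact h2
  obtain ⟨t, ht⟩ := isConj_iff.1 (ConjClasses.mk_eq_mk_iff_isConj.1
    ((hmem a hva ha).trans (hmem c hvc hc).symm))
  rw [← ht]
  exact SemiconjBy.orderOf_eq t (SemiconjBy.conj_mk t a)

end Cfsg.Agent.S4997
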