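import Cfsg.Statements.S5001
import Cfsg.Agent.Lib.Blocks.Defect
import Cfsg.Agent.Lib.Char.Linear
import Cfsg.Agent.Lib.CharInt.Basic
import Cfsg.Agent.Lib.CharInt.Central
-- import your own Cfsg.Agent.* helpers here

set_option autoImplicit false
open Cfsg

namespace Cfsg.Agent.S5001

/-- Let p be a prime, G a finite group and B a p-block of G (relative to a maximal ideal M of the algebraic integers containing p) with defect group D. Let Z be a central p-subgroup of G contained in D and λ a linear character of Z (a homomorphism to the nonzero complex numbers). Say an irreducible character χ of G lies over λ when χ(z) = χ(1)λ(z) for all z ∈ Z. If some irreducible character in B lying over λ has height zero, then λ extends to a linear character of D. -/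
theorem result {G : Type*} [Group G] [Finite G] (p : ℕ) [Fact p.Prime] (M : Ideal Cfsg.AlgInt) (hM : Cfsg.IsPModular p M) (B : Set (Cfsg.IrrCharacter G)) (hB : Cfsg.IsPBlock M B) (D : Subgroup G) (hD : Cfsg.IsDefectGroup p M B D) (Z : Subgroup G) (hZc : Z ≤ Subgroup.center G) (hZp : IsPGroup p ↥Z) (hZD : Z ≤ D) (lam : ↥Z →* ℂˣ) (χ : Cfsg.IrrCharacter G) (hχ : χ ∈ B) (hover : (∀ z : ↥Z, (χ : G → ℂ) z = (χ : G → ℂ) 1 * (lam z : ℂ))) (h0 : Cfsg.blockHeight p B (χ : G → ℂ) = 0) : (∃ μ : ↥D →* ℂˣ, ∀ z : ↥Z, μ ⟨(z : G), hZD z.2⟩ = lam z) := by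
  classical
  haveI := hM.2.1
  have hpM := hM.2.2
  obtain ⟨g, hg, hgD⟩ := Blocks.isDefectGroup_iff.1 hD
  have hDc : D ≤ Subgroup.centralizer ({g} : Set G) := hgD.1
  have hnot : ¬ MemLocalIdeal M (χ.1 g) := by
    intro hm
    refine hg.2.2 χ hχ ?_
    have he : centralChar χ.1 g =
        (((Subgroup.centralizer ({g} : Set G)).index : ℕ) : ℂ) / (Char.degree χ : ℕ) * χ.1 g := by
      rw [centralChar, Char.apply_one_eq_degree]; ring
    rw [he]
    exact Blocks.MemLocalIdeal.mul_left (Blocks.memLocalRing_natCast_div hpM Subgroup.index_ne_zero_of_finite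
      (Char.degree_pos χ).ne' ((Blocks.blockHeight_eq_zero_iff hpM hB hg hχ).1 h0).le) hm
  set C : Subgroup G := D ⊔ Subgroup.zpowers g with hC
  haveI := Fintype.ofFinite C
  have hDC : D ≤ C := le_sup_left
  have hgC : g ∈ C := le_sup_right (a := D) (Subgroup.mem_zpowers g)
  have hgcen : (⟨g, hgC⟩ : C) ∈ Subgroup.center C := by
    refine Subgroup.mem_center_iff.2 fun x => Subtype.ext ?_
    have hCc : C ≤ Subgroup.centralizer ({g} : Set G) := sup_le hDc
      (Subgroup.zpowers_le.2 (Subgroup.mem_centralizer_singleton_iff.2 rfl))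
    exact Subgroup.mem_centralizer_singleton_iff.1 (hCc x.2)
  obtain ⟨m, hm, hmi⟩ := Char.IsCharacter.exists_decomp
    (Char.IsCharacter.restrict (Char.irr_isCharacter χ) C)
  have hθ : ∃ θ : IrrCharacter C, m θ ≠ 0 ∧ θ.1 1 = 1 := by
    by_contra hcon
    push Not at hcon
    refine hnot ?_
    have e := congrFun hm ⟨g, hgC⟩
    simp only [Finset.sum_apply, Pi.smul_apply, smul_eq_mul] at e
    rw [e]
    refine Blocks.MemLocalIdeal.sum _ fun θ _ => ?_
    by_cases hm0 : m θ = 0
    · rw [hm0]; simpa using Blocks.memLocalIdeal_zero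
    obtain ⟨n, ρ, hρ, hρθ⟩ := θ.2
    haveI := hρ
    have hn1 : θ.1 1 = (n : ℂ) := by rw [← hρθ, ρ.char_one, Module.finrank_fin_fun]
    -- the degree of θ is a proper power of p
    have hdvd : p ∣ n := by
      set N : Subgroup C := (Subgroup.zpowers g).subgroupOf C with hN
      have hNc : N ≤ Subgroup.center C := by
        rintro ⟨x, hx⟩ hxN
        obtain ⟨k, rfl⟩ := Subgroup.mem_zpowers_iff.1 (Subgroup.mem_subgroupOf.1 hxN)
        exact zpow_mem hgcen k
      haveI : N.Normal := ⟨fun x hx y => by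
        rw [Subgroup.mem_center_iff.1 (hNc hx) y, mul_inv_cancel_right]; exact hx⟩
      have h1 := CharInt.finrank_dvd_index_of_le_center ρ hNc
      rw [Module.finrank_fin_fun] at h1
      have h2 : D.subgroupOf C ⊔ N = ⊤ := by
        rw [hN, ← Subgroup.subgroupOf_sup hDC le_sup_right, ← hC, Subgroup.subgroupOf_self]
      have h3 : N.index ∣ Nat.card D := by
        rw [← Subgroup.relIndex_top_right, ← h2, Subgroup.relIndex_sup_right,
          ← Nat.card_congr (Subgroup.subgroupOfEquivOfLe hDC).toEquiv]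
        exact Subgroup.relIndex_dvd_card _ _
      obtain ⟨k, hk, rfl⟩ := (Nat.dvd_prime_pow (Fact.out : p.Prime)).1
        ((h1.trans h3).trans hgD.2.dvd)
      rcases k with _ | k
      · exact absurd (hcon θ hm0) (by simp [hn1])
      · exact dvd_pow_self p k.succ_ne_zero
    obtain ⟨c, hc⟩ := CharInt.exists_smul_one_of_mem_center ρ hgcen
    have hn0 : n ≠ 0 := by
      intro h; subst h
      exact Char.IsIrrCharacter.apply_one_ne_zero θ.2 (by simpa using hn1)
    have hval : θ.1 ⟨g, hgC⟩ = (n : ℂ) * c := by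
      rw [← hρθ, Representation.character, hc, map_smul, LinearMap.trace_one, Module.finrank_fin_fun]
      simp [mul_comm]
    have hcint : IsIntegral ℤ c := by
      refine IsIntegral.of_pow (orderOf_pos (⟨g, hgC⟩ : C)) ?_
      have hne : (1 : Module.End ℂ (Fin n → ℂ)) ≠ 0 := by
        intro h
        have := congrArg (LinearMap.trace ℂ _) h
        rw [LinearMap.trace_one, Module.finrank_fin_fun, map_zero] at this
        exact hn0 (by exact_mod_cast this)
      have : c ^ orderOf (⟨g, hgC⟩ : C) • (1 : Module.End ℂ (Fin n → ℂ)) = (1 : ℂ) • 1 := by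
        have h1 : (c • (1 : Module.End ℂ (Fin n → ℂ))) ^ orderOf (⟨g, hgC⟩ : C) = 1 := by
          rw [← hc, ← map_pow, pow_orderOf_eq_one, map_one]
        rw [smul_pow, one_pow] at h1
        rw [h1, one_smul]
      rw [smul_left_injective ℂ hne this]
      exact isIntegral_one
    rw [hval]
    exact Blocks.MemLocalIdeal.mul_left (Blocks.memLocalRing_natCast _)
      (Blocks.MemLocalIdeal.mul_right ((Blocks.memLocalIdeal_natCast_iff hpM n).2 hdvd)
        (Blocks.memLocalRing_of_isIntegral hcint))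
  obtain ⟨θ, hm0, hθ1⟩ := hθ
  obtain ⟨f, hf⟩ := Char.IsCharacter.exists_monoidHom (Char.irr_isCharacter θ) hθ1
  refine ⟨(f.comp (Subgroup.inclusion hDC)).toHomUnits, fun z => Units.ext ?_⟩
  rw [MonoidHom.coe_toHomUnits, MonoidHom.comp_apply]
  set zC : C := Subgroup.inclusion hDC ⟨(z : G), hZD z.2⟩ with hzC
  have hχ1 := Char.IsIrrCharacter.apply_one_ne_zero χ.2
  have hlam : ‖(lam z : ℂ)‖ = 1 := by
    refine Complex.norm_eq_one_of_pow_eq_one (n := orderOf z) ?_ (orderOf_pos z).ne'
    rw [← Units.val_pow_eq_pow_val, ← map_pow, pow_orderOf_eq_one, map_one, Units.val_one]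
  have hmul : ∀ x : G, χ.1 ((z : G) * x) = (lam z : ℂ) * χ.1 x := fun x => by
    have h := CharInt.char_mul_of_mem_centre (Char.irr_isCharacter χ) (g := (z : G))
      (by rw [hover z, norm_mul, hlam, mul_one]) x
    rw [hover z] at h
    exact mul_right_cancel₀ hχ1 (h.trans (by ring))
  have key : (m θ : ℂ) = (lam z : ℂ) * starRingEnd ℂ (f zC) * (m θ : ℂ) := by
    rw [← hmi θ, classInner, mul_left_comm ((lam z : ℂ) * _), Finset.mul_sum (a := (lam z : ℂ) * _)]
    congr 1
    refine (Fintype.sum_equiv (Equiv.mulLeft zC) _ _ fun c => ?_).symm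
    rw [Equiv.coe_mulLeft, Subgroup.coe_mul, hzC, Subgroup.coe_inclusion, hmul, ← hf, map_mul, map_mul]
    ring
  have h1 : (lam z : ℂ) * starRingEnd ℂ (f zC) = 1 :=
    mul_right_cancel₀ (Nat.cast_ne_zero.2 hm0) (by rw [one_mul]; exact key.symm)
  calc f zC = f zC * ((lam z : ℂ) * starRingEnd ℂ (f zC)) := by rw [h1, mul_one]
    _ = (lam z : ℂ) * (f zC * starRingEnd ℂ (f zC)) := by ring
    _ = (lam z : ℂ) := by rw [Char.normSq_linear f zC, mul_one]

end Cfsg.Agent.S5001
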