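import Cfsg.Statements.S5011
-- import your own Cfsg.Agent.* helpers here

set_option autoImplicit false
open Cfsg

namespace Cfsg.Agent.S5011

/-- Let G be a finite non-abelian simple group and ρ an irreducible complex representation of G on a space of dimension greater than one (irreducible in the sense that the only subspaces invariant under every ρ(x) are 0 and the whole space). Then for every non-identity element g of G, the centralizer of g does not act irreducibly: there is a non-zero proper subspace invariant under ρ(c) for every c commuting with g. -/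
theorem result {G : Type*} [Group G] [Finite G] [IsSimpleGroup G]
    (hG : ¬ IsMulCommutative G) {V : Type*} [AddCommGroup V] [Module ℂ V] [FiniteDimensional ℂ V]
    (ρ : Representation ℂ G V)
    (hirr : ∀ W : Submodule ℂ V, (∀ x : G, ∀ v ∈ W, ρ x v ∈ W) → W = ⊥ ∨ W = ⊤)
    (hdim : 1 < Module.finrank ℂ V) (g : G) (hg : g ≠ 1) :
    ∃ W : Submodule ℂ V, W ≠ ⊥ ∧ W ≠ ⊤ ∧ ∀ c ∈ Subgroup.centralizer ({g} : Set G), ∀ v ∈ W, ρ c v ∈ W := by
  classical
  by_contra hc
  push Not at hc
  have hne : Nontrivial V := Module.nontrivial_of_finrank_pos (R := ℂ) (by omega)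
  obtain ⟨μ, hμ⟩ := Module.End.exists_eigenvalue (ρ g)
  have hinv : ∀ c ∈ Subgroup.centralizer ({g} : Set G), ∀ v ∈ Module.End.eigenspace (ρ g) μ,
      ρ c v ∈ Module.End.eigenspace (ρ g) μ := by
    intro c hcg v hv
    rw [Module.End.mem_eigenspace_iff] at hv ⊢
    rw [← Module.End.mul_apply, ← map_mul, ← Subgroup.mem_centralizer_singleton_iff.1 hcg,
      map_mul, Module.End.mul_apply, hv, map_smul]
  have htop : Module.End.eigenspace (ρ g) μ = ⊤ := by
    by_contra h
    obtain ⟨c, hcg, v, hv, h'⟩ := hc _ hμ h
    exact h' (hinv c hcg v hv)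
  have hg' : ∀ v, ρ g v = μ • v := fun v =>
    Module.End.mem_eigenspace_iff.1 (htop.symm ▸ Submodule.mem_top)
  have hker : (MonoidHom.ker ρ) = ⊥ := by
    refine (IsSimpleGroup.eq_bot_or_eq_top_of_normal _ inferInstance).resolve_right fun h => ?_
    have h1 : ∀ x, ρ x = 1 := fun x => MonoidHom.mem_ker.1 (show x ∈ MonoidHom.ker ρ by rw [h]; trivial)
    obtain ⟨v, hv⟩ := exists_ne (0 : V)
    rcases hirr (Submodule.span ℂ {v}) (fun x w hw => by rwa [h1, Module.End.one_apply]) with h2 | h2
    · exact hv (Submodule.span_singleton_eq_bot.1 h2)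
    · rw [← finrank_top ℂ V, ← h2, finrank_span_singleton hv] at hdim
      omega
  have hcen : g ∈ Subgroup.center G := by
    rw [Subgroup.mem_center_iff]
    intro x
    apply (MonoidHom.ker_eq_bot_iff ρ).1 hker
    rw [map_mul, map_mul]
    ext v
    simp [Module.End.mul_apply, hg']
  rcases IsSimpleGroup.eq_bot_or_eq_top_of_normal (Subgroup.center G) inferInstance with h | h
  · rw [h] at hcen; exact hg (Subgroup.mem_bot.1 hcen)
  · exact hG (isMulCommutative_iff.2 fun a b => (Subgroup.mem_center_iff.1 (h ▸ Subgroup.mem_top a) b).symm)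

end Cfsg.Agent.S5011
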