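import Cfsg.Statements.S5015
import Cfsg.Agent.Lib.RootSub.RankOne
-- import your own Cfsg.Agent.* helpers here

set_option autoImplicit false
open Cfsg

namespace Cfsg.Agent.S5015

/-- Let a group Y act doubly transitively on a set Ω with at least three points, and suppose that the stabilizer of a point α contains a nilpotent subgroup A, normalized by that stabilizer, which acts regularly on the points other than α. Then for any y in Y moving α, the subgroups A and y A y⁻¹ are the unipotent subgroups of a rank one group, and the normal closure of A in Y (the subgroup generated by all conjugates of A) is generated by A and y A y⁻¹ alone. -/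
theorem result {Y Ω : Type*} [Group Y] [MulAction Y Ω]
    (h2 : MulAction.IsMultiplyPretransitive Y Ω 2) (hΩ : 3 ≤ ENat.card Ω) (α : Ω) (A : Subgroup Y)
    (hA : A ≤ MulAction.stabilizer Y α) (hAn : ∀ y ∈ MulAction.stabilizer Y α, Cfsg.conjBy A y = A)
    (hnil : Group.IsNilpotent A) (hreg : ∀ β γ : Ω, β ≠ α → γ ≠ α → ∃! a : Y, a ∈ A ∧ a • β = γ)
    (y : Y) (hy : y ∉ MulAction.stabilizer Y α) :
    Cfsg.IsRankOnePair A (Cfsg.conjBy A y) ∧ Subgroup.normalClosure (A : Set Y) = A ⊔ Cfsg.conjBy A y := by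
  classical
  have hreg1 : ∀ a ∈ A, ∀ β : Ω, β ≠ α → a • β = β → a = 1 := fun a ha β hβ e =>
    (hreg β β hβ hβ).unique ⟨ha, e⟩ ⟨one_mem _, one_smul _ _⟩
  have hA' : ∀ a ∈ A, a • α = α := fun a ha => MulAction.mem_stabilizer_iff.1 (hA ha)
  have hpt : ∀ g g' : Y, g • α = g' • α → Cfsg.conjBy A g = Cfsg.conjBy A g' := by
    intro g g' e
    rw [RootSub.conjBy_eq_conjBy_iff]
    exact hAn _ (MulAction.mem_stabilizer_iff.2 (by rw [mul_smul, ← e, inv_smul_smul]))
  set β : Ω := y • α with hβdef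
  have hβ : β ≠ α := fun e => hy (MulAction.mem_stabilizer_iff.2 e)
  obtain ⟨B, hBdef⟩ : ∃ B, B = Cfsg.conjBy A y := ⟨_, rfl⟩
  rw [← hBdef]
  have hB' : ∀ b ∈ B, b • β = β := by
    intro b hb
    rw [hBdef, RootSub.mem_conjBy] at hb
    have := hA' _ hb
    rwa [mul_smul, mul_smul, inv_smul_eq_iff] at this
  have hBreg : ∀ γ δ : Ω, γ ≠ β → δ ≠ β → ∃ b ∈ B, b • γ = δ := by
    intro γ δ hγ hδ
    obtain ⟨a, ⟨ha, e⟩, -⟩ := hreg (y⁻¹ • γ) (y⁻¹ • δ)
      (fun e => hγ (by rw [hβdef, ← e, smul_inv_smul]))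
      (fun e => hδ (by rw [hβdef, ← e, smul_inv_smul]))
    refine ⟨y * a * y⁻¹, hBdef ▸ RootSub.conj_mem_conjBy ha, ?_⟩
    rw [mul_smul, mul_smul, e, smul_inv_smul]
  have hne : A ≠ B := by
    intro e
    obtain ⟨γ, hγα, hγβ⟩ : ∃ γ, γ ≠ α ∧ γ ≠ β := by
      by_contra hc
      push Not at hc
      have hsub : (Set.univ : Set Ω) ⊆ {α, β} := fun γ _ => by
        by_cases h : γ = α
        · exact Or.inl h
        · exact Or.inr (hc γ h)
      have h3 := Set.encard_le_encard hsub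
      rw [Set.encard_univ, Set.encard_pair hβ.symm] at h3
      exact absurd (hΩ.trans h3) (by norm_num)
    obtain ⟨a, ⟨ha, e'⟩, -⟩ := hreg β γ hβ hγα
    exact hγβ (e'.symm.trans (hB' a (e ▸ ha)))
  have hbase : ∀ a ∈ A, Cfsg.conjBy B a = Cfsg.conjBy A (a * y) := fun a _ => by
    rw [hBdef, RootSub.conjBy_conjBy]
  have hcl : ∀ g : Y, Cfsg.conjBy A g ≤ A ⊔ B := by
    intro g
    by_cases h : g • α = α
    · rw [hAn g (MulAction.mem_stabilizer_iff.2 h)]; exact le_sup_left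
    obtain ⟨a, ⟨ha, e⟩, -⟩ := hreg β (g • α) hβ h
    rw [hpt g (a * y) (by rw [mul_smul, e]), ← hbase a ha]
    calc Cfsg.conjBy B a ≤ Cfsg.conjBy (A ⊔ B) a := RootSub.conjBy_le_conjBy.2 le_sup_right
      _ = A ⊔ B := RootSub.conjBy_self (Subgroup.mem_sup_left ha)
  refine ⟨⟨hne, hnil, hBdef ▸ RootSub.conjBy_nilpotent hnil y, ?_, ?_⟩, le_antisymm ?_ ?_⟩
  · intro a ha ha1
    have h1 : a⁻¹ • β ≠ β := fun e => ha1 (inv_eq_one.1 (hreg1 _ (inv_mem ha) β hβ e))
    obtain ⟨b, hb, e⟩ := hBreg α (a⁻¹ • β) hβ.symm h1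
    refine ⟨b⁻¹, inv_mem hb, inv_ne_one.2 (fun e1 => ?_), ?_⟩
    · rw [e1, one_smul] at e
      exact hβ (by rw [← smul_inv_smul a β, ← e, hA' a ha])
    · rw [inv_inv, hbase _ (inv_mem ha), hpt b (a⁻¹ * y) (by rw [mul_smul, e])]
  · intro b hb hb1
    have h1 : b⁻¹ • α ≠ α := by
      intro e
      refine hb1 (inv_eq_one.1 ?_)
      have hb' := inv_mem hb
      rw [hBdef, RootSub.mem_conjBy] at hb'
      have := hreg1 _ hb' (y⁻¹ • α) (fun e' => hβ (by rw [hβdef]; nth_rewrite 1 [← e']; rw [smul_inv_smul]))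
        (by rw [mul_smul, mul_smul, smul_inv_smul, e])
      calc b⁻¹ = y * (y⁻¹ * b⁻¹ * y) * y⁻¹ := by group
        _ = 1 := by rw [this]; group
    obtain ⟨a, ⟨ha, e⟩, -⟩ := hreg β (b⁻¹ • α) hβ h1
    refine ⟨a⁻¹, inv_mem ha, inv_ne_one.2 (fun e1 => ?_), ?_⟩
    · rw [e1, one_smul] at e
      exact hβ (by rw [← smul_inv_smul b α, ← e, hB' b hb])
    · rw [inv_inv, hbase a ha]
      exact hpt _ _ (by rw [mul_smul, e])
  · rw [Subgroup.normalClosure, Subgroup.closure_le]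
    intro x hx
    rw [Group.mem_conjugatesOfSet_iff] at hx
    obtain ⟨a, ha, hc⟩ := hx
    obtain ⟨g, rfl⟩ := isConj_iff.1 hc
    exact hcl g (RootSub.conj_mem_conjBy ha)
  · refine sup_le Subgroup.le_normalClosure ?_
    rw [hBdef]
    rintro x hx
    rw [RootSub.mem_conjBy] at hx
    rw [show x = y * (y⁻¹ * x * y) * y⁻¹ by group]
    exact Subgroup.normalClosure_normal.conj_mem _ (Subgroup.le_normalClosure hx) y

end Cfsg.Agent.S5015
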