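import Cfsg.Statements.S5016
-- import your own Cfsg.Agent.* helpers here

import Cfsg.Agent.Lib.RootSub.RankOne
set_option autoImplicit false
open Cfsg

namespace Cfsg.Agent.S5016


section
variable {k : Type*} [Field k]
open Matrix

/-- lower unitriangular -/
def lo : Multiplicative k →* SpecialLinearGroup (Fin 2) k where
  toFun t := ⟨!![1, 0; t.toAdd, 1], by simp⟩
  map_one' := by ext i j; fin_cases i <;> fin_cases j <;> simp
  map_mul' x y := Subtype.ext (show (!![1, 0; x.toAdd + y.toAdd, 1] : Matrix (Fin 2) (Fin 2) k) = !![1, 0; x.toAdd, 1] * !![1, 0; y.toAdd, 1] by simp [Matrix.mul_fin_two])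

/-- upper unitriangular -/
def up : Multiplicative k →* SpecialLinearGroup (Fin 2) k where
  toFun t := ⟨!![1, t.toAdd; 0, 1], by simp⟩
  map_one' := by ext i j; fin_cases i <;> fin_cases j <;> simp
  map_mul' x y := Subtype.ext (show (!![1, x.toAdd + y.toAdd; 0, 1] : Matrix (Fin 2) (Fin 2) k) = !![1, x.toAdd; 0, 1] * !![1, y.toAdd; 0, 1] by simp [Matrix.mul_fin_two, add_comm])

theorem lo_coe (t : Multiplicative k) : (lo t : Matrix (Fin 2) (Fin 2) k) = !![1, 0; t.toAdd, 1] := rfl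
theorem up_coe (t : Multiplicative k) : (up t : Matrix (Fin 2) (Fin 2) k) = !![1, t.toAdd; 0, 1] := rfl

/-- shorthand -/
def L (t : k) : SpecialLinearGroup (Fin 2) k := lo (Multiplicative.ofAdd t)
/-- shorthand -/
def U (t : k) : SpecialLinearGroup (Fin 2) k := up (Multiplicative.ofAdd t)

theorem L_coe (t : k) : (L t : Matrix (Fin 2) (Fin 2) k) = !![1, 0; t, 1] := rfl
theorem U_coe (t : k) : (U t : Matrix (Fin 2) (Fin 2) k) = !![1, t; 0, 1] := rfl
theorem L_inv (t : k) : (L t)⁻¹ = L (-t) := (map_inv lo (Multiplicative.ofAdd t)).symm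
theorem U_inv (t : k) : (U t)⁻¹ = U (-t) := (map_inv up (Multiplicative.ofAdd t)).symm

theorem lower_eq : Cfsg.lowerUnipotentSL2 k = (lo : Multiplicative k →* _).range := by
  apply le_antisymm
  · rw [Cfsg.lowerUnipotentSL2, Subgroup.closure_le]
    rintro g ⟨h01, h00, h11⟩
    refine ⟨Multiplicative.ofAdd ((g : Matrix (Fin 2) (Fin 2) k) 1 0), ?_⟩
    ext i j; fin_cases i <;> fin_cases j <;> simp [lo_coe, h01, h00, h11]
  · rintro _ ⟨t, rfl⟩
    exact Subgroup.subset_closure ⟨by simp [lo_coe], by simp [lo_coe], by simp [lo_coe]⟩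

theorem upper_eq : Cfsg.upperUnipotentSL2 k = (up : Multiplicative k →* _).range := by
  apply le_antisymm
  · rw [Cfsg.upperUnipotentSL2, Subgroup.closure_le]
    rintro g ⟨h10, h00, h11⟩
    refine ⟨Multiplicative.ofAdd ((g : Matrix (Fin 2) (Fin 2) k) 0 1), ?_⟩
    ext i j; fin_cases i <;> fin_cases j <;> simp [up_coe, h10, h00, h11]
  · rintro _ ⟨t, rfl⟩
    exact Subgroup.subset_closure ⟨by simp [up_coe], by simp [up_coe], by simp [up_coe]⟩

theorem mem_lower {g : SpecialLinearGroup (Fin 2) k} : g ∈ Cfsg.lowerUnipotentSL2 k ↔ ∃ t, g = L t := by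
  rw [lower_eq]
  exact ⟨fun ⟨t, e⟩ => ⟨t.toAdd, e.symm⟩, fun ⟨t, e⟩ => ⟨Multiplicative.ofAdd t, e.symm⟩⟩

theorem mem_upper {g : SpecialLinearGroup (Fin 2) k} : g ∈ Cfsg.upperUnipotentSL2 k ↔ ∃ t, g = U t := by
  rw [upper_eq]
  exact ⟨fun ⟨t, e⟩ => ⟨t.toAdd, e.symm⟩, fun ⟨t, e⟩ => ⟨Multiplicative.ofAdd t, e.symm⟩⟩

theorem key (s t x : k) (h : s * t = 1) :
    U (-s) * L x * U s = L (-t) * U (-(s * s * x)) * L t := by
  ext i j
  fin_cases i <;> fin_cases j <;>
    simp [Matrix.mul_apply, Fin.sum_univ_two, L_coe, U_coe] <;> grind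

theorem conj_eq (s t : k) (h : s * t = 1) :
    Cfsg.conjBy (Cfsg.lowerUnipotentSL2 k) (U s)⁻¹ = Cfsg.conjBy (Cfsg.upperUnipotentSL2 k) (L t)⁻¹ := by
  ext g
  rw [RootSub.mem_conjBy, RootSub.mem_conjBy, inv_inv, inv_inv, mem_lower, mem_upper]
  constructor
  · rintro ⟨x, hx⟩
    refine ⟨-(s * s * x), ?_⟩
    have hg : g = U (-s) * L x * U s := by rw [← hx, ← U_inv]; group
    rw [hg, key s t x h, ← L_inv]; group
  · rintro ⟨y, hy⟩
    refine ⟨-(t * t * y), ?_⟩
    have hg : g = L (-t) * U y * L t := by rw [← hy, ← L_inv]; group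
    have e : y = -(s * s * -(t * t * y)) := by grind
    rw [hg, e, ← key s t _ h, ← U_inv, ← e]; group

theorem decomp (g : SpecialLinearGroup (Fin 2) k) (hc : (g : Matrix (Fin 2) (Fin 2) k) 1 0 ≠ 0) :
    g = U (((g : Matrix (Fin 2) (Fin 2) k) 0 0 - 1) / (g : Matrix (Fin 2) (Fin 2) k) 1 0) *
      L ((g : Matrix (Fin 2) (Fin 2) k) 1 0) *
      U (((g : Matrix (Fin 2) (Fin 2) k) 1 1 - 1) / (g : Matrix (Fin 2) (Fin 2) k) 1 0) := by
  have hd := g.prop
  rw [Matrix.det_fin_two] at hd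
  ext i j
  fin_cases i <;> fin_cases j <;>
    simp [Matrix.mul_apply, Fin.sum_univ_two, L_coe, U_coe] <;> field_simp <;> grind

end

theorem nilp {G : Type*} [Group G] {A : Subgroup G} (h : IsMulCommutative A) : Group.IsNilpotent A :=
  letI : CommGroup A := { (inferInstance : Group A) with mul_comm := fun a b => mul_comm' a b }
  CommGroup.isNilpotent

/-- For any field k, the special linear group SL₂(k) is a special rank one group with abelian unipotent subgroups, the unipotent subgroups being the group of lower unitriangular matrices and the group of upper unitriangular matrices. -/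
theorem result (k : Type*) [Field k] :
    Cfsg.IsRankOneGroup (Matrix.SpecialLinearGroup (Fin 2) k) (Cfsg.lowerUnipotentSL2 k) (Cfsg.upperUnipotentSL2 k) ∧
    Cfsg.IsSpecialRankOnePair (Cfsg.lowerUnipotentSL2 k) (Cfsg.upperUnipotentSL2 k) ∧
    Cfsg.HasAbelianUnipotents (Cfsg.lowerUnipotentSL2 k) (Cfsg.upperUnipotentSL2 k) := by
  have hA : IsMulCommutative (Cfsg.lowerUnipotentSL2 k) := by
    rw [lower_eq]; infer_instance
  have hB : IsMulCommutative (Cfsg.upperUnipotentSL2 k) := by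
    rw [upper_eq]; infer_instance
  have hpair : Cfsg.IsRankOnePair (Cfsg.lowerUnipotentSL2 k) (Cfsg.upperUnipotentSL2 k) := by
    refine ⟨?_, nilp hA, nilp hB, ?_, ?_⟩
    · intro e
      obtain ⟨t, ht⟩ := mem_upper.1 (e ▸ mem_lower.2 ⟨1, rfl⟩ : L (1:k) ∈ Cfsg.upperUnipotentSL2 k)
      have := congrArg (fun g : Matrix.SpecialLinearGroup (Fin 2) k => (g : Matrix (Fin 2) (Fin 2) k) 1 0) ht
      simp [L_coe, U_coe] at this
    · intro a ha ha1
      obtain ⟨t, rfl⟩ := mem_lower.1 ha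
      have ht : t ≠ 0 := by rintro rfl; exact ha1 (map_one lo)
      refine ⟨U t⁻¹, mem_upper.2 ⟨_, rfl⟩, fun e => ?_, conj_eq _ _ (inv_mul_cancel₀ ht)⟩
      have := congrArg (fun g : Matrix.SpecialLinearGroup (Fin 2) k => (g : Matrix (Fin 2) (Fin 2) k) 0 1) e
      simp [U_coe, ht] at this
    · intro b hb hb1
      obtain ⟨s, rfl⟩ := mem_upper.1 hb
      have hs : s ≠ 0 := by rintro rfl; exact hb1 (map_one up)
      refine ⟨L s⁻¹, mem_lower.2 ⟨_, rfl⟩, fun e => ?_, (conj_eq _ _ (mul_inv_cancel₀ hs)).symm⟩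
      have := congrArg (fun g : Matrix.SpecialLinearGroup (Fin 2) k => (g : Matrix (Fin 2) (Fin 2) k) 1 0) e
      simp [L_coe, hs] at this
  refine ⟨⟨?_, hpair⟩, ⟨hpair, ?_⟩, hA, hB⟩
  · rw [eq_top_iff]
    intro g _
    have hL : ∀ t : k, L t ∈ Cfsg.lowerUnipotentSL2 k ⊔ Cfsg.upperUnipotentSL2 k :=
      fun t => Subgroup.mem_sup_left (mem_lower.2 ⟨_, rfl⟩)
    have hU : ∀ t : k, U t ∈ Cfsg.lowerUnipotentSL2 k ⊔ Cfsg.upperUnipotentSL2 k :=
      fun t => Subgroup.mem_sup_right (mem_upper.2 ⟨_, rfl⟩)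
    by_cases hc : (g : Matrix (Fin 2) (Fin 2) k) 1 0 = 0
    · have h' : ((g * L 1 : Matrix.SpecialLinearGroup (Fin 2) k) : Matrix (Fin 2) (Fin 2) k) 1 0 ≠ 0 := by
        have hd := g.prop
        rw [Matrix.det_fin_two, hc, mul_zero, sub_zero] at hd
        simp [Matrix.mul_apply, Fin.sum_univ_two, L_coe, hc]
        exact fun e => by simp [e] at hd
      rw [show g = g * L 1 * (L 1)⁻¹ by group, decomp _ h']
      exact mul_mem (mul_mem (mul_mem (hU _) (hL _)) (hU _)) (inv_mem (hL _))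
    · rw [decomp g hc]
      exact mul_mem (mul_mem (hU _) (hL _)) (hU _)
  · intro a ha ha1 b hb _ e
    obtain ⟨t, rfl⟩ := mem_lower.1 ha
    have ht : t ≠ 0 := by rintro rfl; exact ha1 (map_one lo)
    rw [RootSub.rankOne_unique hpair hb (mem_upper.2 ⟨t⁻¹, rfl⟩) e (conj_eq _ _ (inv_mul_cancel₀ ht))]
    rw [U_inv, L_inv, key _ t t (inv_mul_cancel₀ ht)]
    rw [mul_assoc t⁻¹, inv_mul_cancel₀ ht, mul_one]

end Cfsg.Agent.S5016
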