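import Cfsg.Statements.S5017
import Cfsg.Agent.Lib.RootSub.RankOne
-- import your own Cfsg.Agent.* helpers here

set_option autoImplicit false
open Cfsg

namespace Cfsg.Agent.S5017

/-- Let X be a rank one group with unipotent subgroups A and B and N a normal subgroup of X. Then either X = N A or N lies in the centre of X. Consequently a perfect rank one group is quasisimple. -/
theorem result {X : Type*} [Group X] {A B : Subgroup X} (h : Cfsg.IsRankOneGroup X A B) :
    (∀ N : Subgroup X, N.Normal → N ⊔ A = ⊤ ∨ N ≤ Subgroup.center X) ∧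
    (Group.IsPerfect X → Cfsg.IsQuasisimple X) := by
  obtain ⟨htop, hr⟩ := h
  have hdich : ∀ N : Subgroup X, N.Normal → N ⊔ A = ⊤ ∨ N ≤ Subgroup.center X := by
    intro N hN
    rcases RootSub.rankOne_normal_dichotomy hr N (htop ▸ le_top)
      (fun x _ n hn => hN.conj_mem n hn x) with h | h
    · exact Or.inl (top_le_iff.1 (htop ▸ h))
    · exact Or.inr fun n hn => Subgroup.mem_center_iff.2 fun x => (h n hn x (htop ▸ trivial)).symm
  refine ⟨hdich, fun hperf => ⟨hperf, ?_⟩⟩
  have hnontriv : Nontrivial (X ⧸ Subgroup.center X) := by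
    refine QuotientGroup.nontrivial_iff.2 fun e => RootSub.rankOne_not_commute hr ?_
    exact RootSub.commutator_eq_bot_iff_commute.2 fun a _ b _ =>
      (Subgroup.mem_center_iff.1 (e ▸ Subgroup.mem_top a) b).symm
  constructor
  intro N hN
  rcases hdich (N.comap (QuotientGroup.mk' _)) inferInstance with h | h
  · right
    have hnil : Group.IsNilpotent (X ⧸ N.comap (QuotientGroup.mk' (Subgroup.center X))) := by
      have := hr.nilpotent_left
      refine Group.nilpotent_of_surjective
        ((QuotientGroup.mk' (N.comap (QuotientGroup.mk' (Subgroup.center X)))).comp A.subtype) ?_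
      intro q
      obtain ⟨x, rfl⟩ := QuotientGroup.mk'_surjective _ q
      have hx : x ∈ (N.comap (QuotientGroup.mk' (Subgroup.center X))) ⊔ A := h ▸ Subgroup.mem_top x
      obtain ⟨n, hn, a, ha, rfl⟩ := Subgroup.mem_sup_of_normal_left.1 hx
      refine ⟨⟨a, ha⟩, ?_⟩
      simp only [MonoidHom.coe_comp, Function.comp_apply, Subgroup.coe_subtype]
      rw [map_mul, show QuotientGroup.mk' _ n = 1 from (QuotientGroup.eq_one_iff n).2 hn, one_mul]
    have hsub : Subsingleton (X ⧸ N.comap (QuotientGroup.mk' (Subgroup.center X))) := by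
      by_contra hns
      rw [not_subsingleton_iff_nontrivial] at hns
      exact Group.IsPerfect.not_isNilpotent (X ⧸ N.comap (QuotientGroup.mk' (Subgroup.center X))) hnil
    rw [← Subgroup.map_comap_eq_self_of_surjective (QuotientGroup.mk'_surjective (Subgroup.center X)) N,
      QuotientGroup.subsingleton_iff.1 hsub,
      Subgroup.map_top_of_surjective _ (QuotientGroup.mk'_surjective _)]
  · left
    rw [← Subgroup.map_comap_eq_self_of_surjective (QuotientGroup.mk'_surjective (Subgroup.center X)) N,
      Subgroup.map_eq_bot_iff, QuotientGroup.ker_mk']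
    exact h

end Cfsg.Agent.S5017
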