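import Cfsg.Statements.S5018
import Cfsg.Agent.Lib.RootSub.RankOne
-- import your own Cfsg.Agent.* helpers here

set_option autoImplicit false
open Cfsg

namespace Cfsg.Agent.S5018

/-- A rank one group is not nilpotent, and its second centre equals its centre. -/
theorem result {X : Type*} [Group X] {A B : Subgroup X} (h : Cfsg.IsRankOneGroup X A B) :
    Subgroup.upperCentralSeries X 2 = Subgroup.center X ∧ ¬ Group.IsNilpotent X := by
  obtain ⟨htop, hr⟩ := h
  have h2 : Subgroup.upperCentralSeries X 2 = Subgroup.center X := by
    refine le_antisymm ?_ ?_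
    swap
    · rw [← Subgroup.upperCentralSeries_one]
      exact Subgroup.upperCentralSeries_mono X (by norm_num)
    have hfix : ∀ z ∈ Subgroup.upperCentralSeries X 2, Cfsg.conjBy A z = A := by
      intro z hz
      by_contra hne
      have hle : Cfsg.conjBy A z ≤ Subgroup.normalizer (A : Set X) := by
        intro x hx
        rw [RootSub.mem_conjBy] at hx
        have hc := (Subgroup.mem_upperCentralSeries_succ_iff.1 hz) (z⁻¹ * x * z)
        rw [Subgroup.upperCentralSeries_one] at hc
        simp only [commutatorElement_def] at hc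
        have e : x = z * (z⁻¹ * x * z) * z⁻¹ * (z⁻¹ * x * z)⁻¹ * (z⁻¹ * x * z) := by group
        rw [e]
        exact mul_mem (RootSub.mem_normalizer_of_forall_commute
          fun a _ => (Subgroup.mem_center_iff.1 hc a).symm) (Subgroup.le_normalizer hx)
      have hCA := (RootSub.rankOne_of_unipotentSubgroups hr
        (⟨z, htop ▸ trivial, rfl⟩ : Cfsg.conjBy A z ∈ Cfsg.unipotentSubgroups A B)
        (RootSub.left_mem_unipotentSubgroups A B) hne).1
      refine RootSub.rankOne_left_ne_bot hCA ?_
      exact le_bot_iff.1 ((le_inf le_rfl hle).trans (RootSub.rankOne_inf_normalizer hCA).le)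
    intro z hz
    rcases RootSub.rankOne_normal_dichotomy hr (Subgroup.upperCentralSeries X 2) (htop ▸ le_top)
      (fun x _ n hn => (inferInstance : (Subgroup.upperCentralSeries X 2).Normal).conj_mem n hn x) with h | h
    · exfalso
      have hN : Subgroup.upperCentralSeries X 2 ⊔ A ≤ Subgroup.normalizer (A : Set X) :=
        sup_le (fun n hn => RootSub.conjBy_eq_self_iff.1 (hfix n hn)) Subgroup.le_normalizer
      obtain ⟨x, hx, e⟩ := RootSub.right_mem_unipotentSubgroups hr
      exact hr.ne (e.trans (RootSub.conjBy_eq_self_iff.2 (hN (h hx)))).symm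
    · exact Subgroup.mem_center_iff.2 fun x => (h z hz x (htop ▸ trivial)).symm
  refine ⟨h2, fun hnil => ?_⟩
  obtain ⟨n, hn⟩ := hnil.nilpotent'
  have hle : ∀ m, Subgroup.upperCentralSeries X m ≤ Subgroup.center X := by
    intro m
    induction m with
    | zero => simp
    | succ m ih =>
      intro x hx
      rw [← h2]
      refine Subgroup.mem_upperCentralSeries_succ_iff.2 fun y => ?_
      rw [Subgroup.upperCentralSeries_one]
      exact ih (Subgroup.mem_upperCentralSeries_succ_iff.1 hx y)
  refine RootSub.rankOne_not_commute hr (RootSub.commutator_eq_bot_iff_commute.2 fun a _ b _ => ?_)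
  exact (Subgroup.mem_center_iff.1 (hle n (hn.symm ▸ Subgroup.mem_top a)) b).symm

end Cfsg.Agent.S5018
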