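import Cfsg.Statements.S5019
import Cfsg.Agent.Lib.RootSub.RankOne
-- import your own Cfsg.Agent.* helpers here

set_option autoImplicit false
open Cfsg

namespace Cfsg.Agent.S5019

/-- Let X be a rank one group with abelian unipotent subgroups A and B, and suppose X acts on an abelian group N (written additively) in such a way that A acts quadratically, meaning a' • (a • n − n) = a • n − n for all a, a' in A and n in N, while X as a whole does not: y • (x • n − n) ≠ x • n − n for some x, y in X and n in N. Then X is a special rank one group. -/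
theorem result {X : Type*} [Group X] {A B : Subgroup X} (h : Cfsg.IsRankOneGroup X A B)
    (hab : Cfsg.HasAbelianUnipotents A B) {N : Type*} [AddCommGroup N] [DistribMulAction X N]
    (hq : ∀ a ∈ A, ∀ a' ∈ A, ∀ n : N, a' • (a • n - n) = a • n - n)
    (hX : ∃ x y : X, ∃ n : N, y • (x • n - n) ≠ x • n - n) : Cfsg.IsSpecialRankOnePair A B := by
  classical
  obtain ⟨htop, hr⟩ := h
  have hgen : ∀ S : Subgroup X, A ≤ S → B ≤ S → ∀ x, x ∈ S := fun S hA hB x =>
    sup_le hA hB (htop.symm ▸ Subgroup.mem_top x)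
  obtain ⟨g, -, hg⟩ := RootSub.right_mem_unipotentSubgroups hr
  have hqB : ∀ b ∈ B, ∀ b' ∈ B, ∀ n : N, b' • (b • n - n) = b • n - n := by
    intro b hb b' hb' n
    rw [hg, RootSub.mem_conjBy] at hb hb'
    have := congrArg (fun v => g • v) (hq _ hb _ hb' (g⁻¹ • n))
    simp only [smul_sub, ← mul_smul] at this ⊢
    simpa [mul_assoc] using this
  set U := AddSubgroup.closure {v : N | ∃ a ∈ A, ∃ n : N, v = a • n - n} with hU
  set W := AddSubgroup.closure {v : N | ∃ b ∈ B, ∃ n : N, v = b • n - n} with hW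
  have hAU : ∀ a ∈ A, ∀ u ∈ U, a • u = u := by
    intro a ha u hu
    induction hu using AddSubgroup.closure_induction with
    | mem v hv => obtain ⟨a', ha', n, rfl⟩ := hv; exact hq a' ha' a ha n
    | zero => exact smul_zero _
    | add v w _ _ hv hw => rw [smul_add, hv, hw]
    | neg v _ hv => rw [smul_neg, hv]
  have hBW : ∀ b ∈ B, ∀ w ∈ W, b • w = w := by
    intro b hb w hw
    induction hw using AddSubgroup.closure_induction with
    | mem v hv => obtain ⟨b', hb', n, rfl⟩ := hv; exact hqB b' hb' b hb n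
    | zero => exact smul_zero _
    | add v w _ _ hv hw => rw [smul_add, hv, hw]
    | neg v _ hv => rw [smul_neg, hv]
  have hdU : ∀ a ∈ A, ∀ n : N, a • n - n ∈ U := fun a ha n => AddSubgroup.subset_closure ⟨a, ha, n, rfl⟩
  have hdW : ∀ b ∈ B, ∀ n : N, b • n - n ∈ W := fun b hb n => AddSubgroup.subset_closure ⟨b, hb, n, rfl⟩
  set N1 := U ⊔ W with hN1
  have hinv : ∀ x : X, ∀ v ∈ N1, x • v ∈ N1 := by
    let S : Subgroup X :=
      { carrier := {x | (∀ v ∈ N1, x • v ∈ N1) ∧ ∀ v ∈ N1, x⁻¹ • v ∈ N1}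
        one_mem' := ⟨fun v hv => by rwa [one_smul], fun v hv => by rwa [inv_one, one_smul]⟩
        mul_mem' := fun {x y} hx hy => ⟨fun v hv => by rw [mul_smul]; exact hx.1 _ (hy.1 v hv),
          fun v hv => by rw [mul_inv_rev, mul_smul]; exact hy.2 _ (hx.2 v hv)⟩
        inv_mem' := fun {x} hx => ⟨hx.2, by rw [inv_inv]; exact hx.1⟩ }
    have hA' : ∀ a ∈ A, ∀ v ∈ N1, a • v ∈ N1 := fun a ha v hv => by
      rw [show a • v = (a • v - v) + v by abel]
      exact add_mem ((le_sup_left : U ≤ N1) (hdU a ha v)) hv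
    have hB' : ∀ b ∈ B, ∀ v ∈ N1, b • v ∈ N1 := fun b hb v hv => by
      rw [show b • v = (b • v - v) + v by abel]
      exact add_mem ((le_sup_right : W ≤ N1) (hdW b hb v)) hv
    exact fun x => (hgen S (fun a ha => ⟨hA' a ha, hA' _ (inv_mem ha)⟩)
      (fun b hb => ⟨hB' b hb, hB' _ (inv_mem hb)⟩) x).1
  have hd1 : ∀ x : X, ∀ n : N, x • n - n ∈ N1 := by
    let S : Subgroup X :=
      { carrier := {x | ∀ n : N, x • n - n ∈ N1}
        one_mem' := fun n => by rw [one_smul, sub_self]; exact zero_mem _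
        mul_mem' := fun {x y} hx hy n => by
          rw [mul_smul, show x • y • n - n = (x • y • n - y • n) + (y • n - n) by abel]
          exact add_mem (hx _) (hy n)
        inv_mem' := fun {x} hx n => by
          have := hx (x⁻¹ • n)
          rw [smul_inv_smul] at this
          rw [← neg_sub]; exact neg_mem this }
    exact hgen S (fun a ha n => (le_sup_left : U ≤ N1) (hdU a ha n))
      (fun b hb n => (le_sup_right : W ≤ N1) (hdW b hb n))
  let K : Subgroup X :=
    { carrier := {x | ∀ v ∈ N1, x • v = v}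
      one_mem' := fun v _ => one_smul _ v
      mul_mem' := fun {x y} hx hy v hv => by rw [mul_smul, hy v hv, hx v hv]
      inv_mem' := fun {x} hx v hv => by rw [inv_smul_eq_iff, hx v hv] }
  have hKn : ∀ x ∈ A ⊔ B, ∀ k ∈ K, x * k * x⁻¹ ∈ K := fun x _ k hk v hv => by
    rw [mul_smul, mul_smul, hk _ (hinv _ v hv), smul_inv_smul]
  have hKc : ∀ k ∈ K, ∀ x ∈ A ⊔ B, k * x = x * k := by
    rcases RootSub.rankOne_normal_dichotomy hr K (htop ▸ le_top) hKn with hcov | hcen
    swap
    · exact hcen
    exfalso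
    rw [htop] at hcov
    haveI : K.Normal := ⟨fun k hk x => hKn x (htop.symm ▸ Subgroup.mem_top x) k hk⟩
    have hlike : ∀ x : X, ∃ a ∈ A, ∀ v ∈ N1, x • v = a • v := by
      intro x
      obtain ⟨k, hk, a, ha, rfl⟩ := Subgroup.mem_sup_of_normal_left.1 (hcov (Subgroup.mem_top x))
      exact ⟨a, ha, fun v hv => by rw [mul_smul, hk _ (hinv a v hv)]⟩
    have hBK : B ≤ K := by
      intro b hb v hv
      obtain ⟨a, ha, hba⟩ := hlike b
      obtain ⟨u, hu, w, hw, rfl⟩ := AddSubgroup.mem_sup.1 hv
      rw [smul_add, hBW b hb w hw, hba u ((le_sup_left : U ≤ N1) hu), hAU a ha u hu]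
    have hall : ∀ x, x ∈ K := by
      refine hgen K (fun a ha => ?_) hBK
      obtain ⟨a₀, ha₀, ha₀1⟩ := RootSub.rankOne_exists_ne_one hr
      obtain ⟨b₀, hb₀, -, e⟩ := hr.cond_left a₀ ha₀ ha₀1
      have hm := RootSub.conj_mem_conjBy (g := b₀⁻¹) ha
      rw [e, RootSub.mem_conjBy, inv_inv, inv_inv] at hm
      have h1 := hKn a₀⁻¹ (htop.symm ▸ Subgroup.mem_top _) _ (hBK hm)
      have h2 := hKn b₀ (htop.symm ▸ Subgroup.mem_top _) _ h1
      simpa [mul_assoc] using h2
    obtain ⟨x, y, n, hxy⟩ := hX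
    exact hxy (hall y _ (hd1 x n))
  refine ⟨hr, fun a ha _ b hb _ e => ?_⟩
  set P := b⁻¹ * a * b with hP
  set Q := a⁻¹ * b⁻¹ * a with hQ
  have hb' : ∀ {w}, w ∈ W → b⁻¹ • w = w := fun hw => hBW _ (inv_mem hb) _ hw
  have ha' : ∀ {u}, u ∈ U → a⁻¹ • u = u := fun hu => hAU _ (inv_mem ha) _ hu
  have htrans : ∀ u ∈ U, a • b⁻¹ • u ∈ W := by
    intro u hu
    induction hu using AddSubgroup.closure_induction with
    | mem v hv =>
      obtain ⟨a', ha'', n, rfl⟩ := hv
      have hm := RootSub.conj_mem_conjBy (g := b⁻¹) ha''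
      rw [e, RootSub.mem_conjBy, inv_inv, inv_inv] at hm
      convert hdW _ hm (a • b⁻¹ • n) using 1
      simp only [smul_sub, ← mul_smul, mul_assoc, inv_mul_cancel_left, mul_inv_cancel, mul_one]
    | zero => simp
    | add v w _ _ hv hw => rw [smul_add, smul_add]; exact add_mem hv hw
    | neg v _ hv => rw [smul_neg, smul_neg]; exact neg_mem hv
  have htrans' : ∀ w ∈ W, b • a⁻¹ • w ∈ U := by
    intro w hw
    induction hw using AddSubgroup.closure_induction with
    | mem v hv =>
      obtain ⟨b'', hb'', n, rfl⟩ := hv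
      have hm := RootSub.conj_mem_conjBy (g := a⁻¹) hb''
      rw [← e, RootSub.mem_conjBy, inv_inv, inv_inv] at hm
      convert hdU _ hm (b • a⁻¹ • n) using 1
      simp only [smul_sub, ← mul_smul, mul_assoc, inv_mul_cancel_left, mul_inv_cancel, mul_one]
    | zero => simp
    | add v w _ _ hv hw => rw [smul_add, smul_add]; exact add_mem hv hw
    | neg v _ hv => rw [smul_neg, smul_neg]; exact neg_mem hv
  have heq : ∀ v ∈ N1, P • v = Q • v := by
    intro v hv
    obtain ⟨u, hu, w, hw, rfl⟩ := AddSubgroup.mem_sup.1 hv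
    suffices P • u = Q • u ∧ P • w = Q • w by rw [smul_add, smul_add, this.1, this.2]
    constructor
    ·
      set β := b • u - u with hβ
      have hβW : β ∈ W := hdW b hb u
      have h1 : b • u = u + β := by rw [hβ]; abel
      have h2 : b⁻¹ • u = u - β := by
        rw [inv_smul_eq_iff, smul_sub, h1, hBW b hb β hβW, add_sub_cancel_right]
      set α := a • β - β with hα
      have hαU : α ∈ U := hdU a ha β
      have h3 : a • β = β + α := by rw [hα]; abel
      have h4 : a⁻¹ • β = β - α := by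
        rw [inv_smul_eq_iff, smul_sub, h3, hAU a ha α hαU, add_sub_cancel_right]
      set z := u - α with hz
      have hzW : z ∈ W := by
        have := add_mem (htrans u hu) hβW
        rwa [h2, smul_sub, hAU a ha u hu, h3, show u - (β + α) + β = z by rw [hz]; abel] at this
      have h5 : b⁻¹ • α = α - β := by
        have := hb' hzW
        rw [hz, smul_sub, h2] at this
        linear_combination (norm := abel) -(1 : ℤ) • this
      simp only [hP, hQ, mul_smul, h1, smul_add, hAU a ha u hu, h3, h2, smul_sub, ha' hu, h4, hb' hβW, h5]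
      abel
    ·
      set α := a • w - w with hα
      have hαU : α ∈ U := hdU a ha w
      have h1 : a • w = w + α := by rw [hα]; abel
      have h2 : a⁻¹ • w = w - α := by
        rw [inv_smul_eq_iff, smul_sub, h1, hAU a ha α hαU, add_sub_cancel_right]
      set β := b • α - α with hβ
      have hβW : β ∈ W := hdW b hb α
      have h3 : b • α = α + β := by rw [hβ]; abel
      have h4 : b⁻¹ • α = α - β := by
        rw [inv_smul_eq_iff, smul_sub, h3, hBW b hb β hβW, add_sub_cancel_right]
      set z := w - β with hz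
      have hzU : z ∈ U := by
        have := add_mem (htrans' w hw) hαU
        rwa [h2, smul_sub, hBW b hb w hw, h3, show w - (α + β) + α = z by rw [hz]; abel] at this
      have h5 : a⁻¹ • β = β - α := by
        have := ha' hzU
        rw [hz, smul_sub, h2] at this
        linear_combination (norm := abel) -(1 : ℤ) • this
      simp only [hP, hQ, mul_smul, hBW b hb w hw, h1, smul_add, hb' hw, h4, smul_sub, h2, ha' hαU, h5]
      abel
  have hk : P⁻¹ * Q ∈ K := fun v hv => by rw [mul_smul, ← heq v hv, inv_smul_smul]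
  have hPm : P ∈ Cfsg.conjBy A b⁻¹ := by
    have := RootSub.conj_mem_conjBy (g := b⁻¹) ha
    rwa [inv_inv] at this
  have hQm : Q ∈ Cfsg.conjBy A b⁻¹ := by
    rw [e]
    have := RootSub.conj_mem_conjBy (g := a⁻¹) (inv_mem hb)
    rwa [inv_inv] at this
  have hkA := RootSub.mem_conjBy.1 (mul_mem (inv_mem hPm) hQm)
  have hcomm : ∀ x, (P⁻¹ * Q) * x = x * (P⁻¹ * Q) := fun x => hKc _ hk x (htop.symm ▸ Subgroup.mem_top x)
  rw [inv_inv, mul_assoc, hcomm, ← mul_assoc, mul_inv_cancel, one_mul] at hkA
  exact inv_mul_eq_one.1 (RootSub.rankOne_eq_one_of_normalizes hr hkA (RootSub.conjBy_eq_self_iff.2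
    (RootSub.mem_normalizer_of_forall_commute fun y _ => hcomm y)))

end Cfsg.Agent.S5019
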