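import Cfsg.Statements.S5020
import Cfsg.Agent.Lib.RootSub.SpecialDiagonal
import Cfsg.Agent.Lib.RootSub.SpecialMinimal
import Cfsg.Agent.Lib.Components.Quasisimple
import Cfsg.Agent.S5017
-- import your own Cfsg.Agent.* helpers here

set_option autoImplicit false
open Cfsg

namespace Cfsg.Agent.S5020

/-- Let X be a special rank one group with abelian unipotent subgroups A and B, and H = N(A) ∩ N(B) its diagonal subgroup. Then either A has at most three elements and X is isomorphic to SL₂(2), SL₂(3) or PSL₂(3); or X = X' A with the commutator subgroup X' quasisimple and the commutator subgroup ⁅A, H⁆ having more than three elements. -/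
theorem result {X : Type*} [Group X] {A B : Subgroup X} (h : Cfsg.IsRankOneGroup X A B)
    (hs : Cfsg.IsSpecialRankOnePair A B) (hab : Cfsg.HasAbelianUnipotents A B) :
    (ENat.card A ≤ 3 ∧ (Nonempty (X ≃* Matrix.SpecialLinearGroup (Fin 2) (ZMod 2)) ∨
        Nonempty (X ≃* Matrix.SpecialLinearGroup (Fin 2) (ZMod 3)) ∨
        Nonempty (X ≃* Matrix.ProjectiveSpecialLinearGroup (Fin 2) (ZMod 3)))) ∨
    (commutator X ⊔ A = ⊤ ∧ Cfsg.IsQuasisimple (commutator X) ∧
      3 < ENat.card ↥(⁅A, Cfsg.rankOneDiagonal A B⁆ : Subgroup X)) := by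
  by_cases h3 : 3 < ENat.card A
  · right
    have hperf : commutator X = ⊤ := by
      have := RootSub.special_perfect hs hab h3
      rwa [h.1] at this
    have hq : Cfsg.IsQuasisimple X := (S5017.result h).2 ⟨hperf⟩
    refine ⟨by rw [hperf, top_sup_eq], ?_, by rwa [RootSub.commutator_diagonal hs hab h3]⟩
    rw [hperf]
    exact (Components.isQuasisimple_congr Subgroup.topEquiv).2 hq
  left
  push Not at h3
  refine ⟨h3, ?_⟩
  haveI : Finite A := ENat.card_lt_top.1 (h3.trans_lt (ENat.coe_lt_top 3))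
  have hle : Nat.card A ≤ 3 := by
    have := h3
    rw [ENat.card_eq_coe_natCard] at this
    exact_mod_cast this
  obtain ⟨a, ha, ha1⟩ := RootSub.rankOne_exists_ne_one hs.1
  haveI : Nontrivial A := (Subgroup.nontrivial_iff_ne_bot A).2 (RootSub.rankOne_left_ne_bot hs.1)
  have hgt : 1 < Nat.card A := Finite.one_lt_card
  have hp : (Nat.card A).Prime := by interval_cases hn : Nat.card A <;> norm_num
  haveI := Fact.mk hp
  obtain ⟨b, m⟩ := RootSub.matched_exists hs ha ha1
  have hap : a ^ Nat.card A = 1 := orderOf_dvd_iff_pow_eq_one.1 (Subgroup.orderOf_dvd_natCard A ha)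
  obtain ⟨φ, hφ, hker, hφa, hφb⟩ := RootSub.exists_sl2_hom hs hab m hap
  have hgen : Subgroup.closure ({a, b} : Set X) = ⊤ := by
    haveI : Finite B := ENat.card_lt_top.1 (RootSub.card_right_eq hs hab ▸ ENat.card_lt_top.2 inferInstance)
    have hB : Nat.card B = Nat.card A := by
      have := RootSub.card_right_eq hs hab
      rw [ENat.card_eq_coe_natCard, ENat.card_eq_coe_natCard] at this
      exact_mod_cast this.symm
    have key : ∀ (C : Subgroup X) [Finite C], Nat.card C = Nat.card A → ∀ c ∈ C, c ≠ 1 → C ≤ Subgroup.zpowers c := by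
      intro C _ hC c hc hc1 z hz
      obtain ⟨k, hk⟩ := Subgroup.mem_zpowers_iff.1 (mem_zpowers_of_prime_card hC (g := (⟨c, hc⟩ : C))
        (g' := ⟨z, hz⟩) (fun e => hc1 (congrArg Subtype.val e)))
      exact Subgroup.mem_zpowers_iff.2 ⟨k, congrArg Subtype.val hk⟩
    rw [eq_top_iff, ← h.1]
    exact sup_le ((key A rfl a ha ha1).trans (Subgroup.zpowers_le.2 (Subgroup.subset_closure (by simp))))
      ((key B hB b m.2.2.1 m.2.2.2.1).trans (Subgroup.zpowers_le.2 (Subgroup.subset_closure (by simp))))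
  let ψ := (((MulEquiv.subgroupCongr hgen).trans Subgroup.topEquiv).toMonoidHom).comp φ
  have hψ : Function.Surjective ψ := ((MulEquiv.subgroupCongr hgen).trans Subgroup.topEquiv).surjective.comp hφ
  have hψk : ψ.ker ≤ Subgroup.center _ := by
    intro z hz
    refine hker ?_
    rw [MonoidHom.mem_ker] at hz ⊢
    exact (MulEquiv.map_eq_one_iff ((MulEquiv.subgroupCongr hgen).trans Subgroup.topEquiv)).1 hz
  by_cases hk : ψ.ker = ⊥
  · have e := (MulEquiv.ofBijective ψ ⟨(MonoidHom.ker_eq_bot_iff ψ).1 hk, hψ⟩).symm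
    interval_cases hn : Nat.card A
    · exact Or.inl ⟨e⟩
    · exact Or.inr (Or.inl ⟨e⟩)
  · obtain ⟨M, hM, hM1⟩ : ∃ M ∈ ψ.ker, M ≠ 1 := by
      by_contra hcon
      push Not at hcon
      exact hk ((Subgroup.eq_bot_iff_forall _).2 hcon)
    obtain ⟨r, hr, hrM⟩ := Matrix.SpecialLinearGroup.mem_center_iff.1 (hψk hM)
    rw [Fintype.card_fin, sq_eq_one_iff] at hr
    rcases hr with rfl | rfl
    · exact absurd (Subtype.ext (by rw [← hrM]; simp)) hM1
    have e : ψ.ker = Subgroup.center _ := by
      refine le_antisymm hψk fun z hz => ?_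
      obtain ⟨q, hq, hqz⟩ := Matrix.SpecialLinearGroup.mem_center_iff.1 hz
      rw [Fintype.card_fin, sq_eq_one_iff] at hq
      rcases hq with rfl | rfl
      · rw [show z = 1 from Subtype.ext (by rw [← hqz]; simp)]
        exact one_mem _
      · rwa [show z = M from Subtype.ext (hqz.symm.trans hrM)]
    have e' := (QuotientGroup.quotientKerEquivOfSurjective ψ hψ).symm.trans (QuotientGroup.quotientMulEquivOfEq e)
    interval_cases hn : Nat.card A
    · refine absurd (Subtype.ext ?_) hM1
      rw [← hrM, ZMod.neg_eq_self_mod_two]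
      simp
    · exact Or.inr (Or.inr ⟨e'⟩)

end Cfsg.Agent.S5020
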