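import Cfsg.Statements.S5022
import Cfsg.Agent.Lib.RootSub.SpecialMinimal
-- import your own Cfsg.Agent.* helpers here

set_option autoImplicit false
open Cfsg

namespace Cfsg.Agent.S5022

/-- Let X be a special rank one group with abelian unipotent subgroups A and B, where A is an elementary abelian p-group for the prime p. Then for every non-identity a in A and the non-identity b in B with b⁻¹ A b = a⁻¹ B a, the subgroup generated by a and b is isomorphic to SL₂(p) or to PSL₂(p). -/
theorem result {X : Type*} [Group X] {A B : Subgroup X} (h : Cfsg.IsRankOneGroup X A B)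
    (hs : Cfsg.IsSpecialRankOnePair A B) (hab : Cfsg.HasAbelianUnipotents A B)
    {p : ℕ} [Fact p.Prime] (hA : Cfsg.IsElementaryAbelian p A)
    {a b : X} (ha : a ∈ A) (ha1 : a ≠ 1) (hb : b ∈ B) (hb1 : b ≠ 1) (hab' : Cfsg.conjBy A b⁻¹ = Cfsg.conjBy B a⁻¹) :
    Nonempty (↥(Subgroup.closure ({a, b} : Set X)) ≃* Matrix.SpecialLinearGroup (Fin 2) (ZMod p)) ∨
    Nonempty (↥(Subgroup.closure ({a, b} : Set X)) ≃* Matrix.ProjectiveSpecialLinearGroup (Fin 2) (ZMod p)) := by
  obtain ⟨φ, hs', hker, -, -⟩ := RootSub.exists_sl2_hom hs hab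
    (⟨ha, ha1, hb, hb1, RootSub.special_inv hs ha ha1 hb hb1 hab'⟩ : RootSub.Matched A B a b) (hA.2 a ha)
  by_cases hk : φ.ker = ⊥
  · exact Or.inl ⟨(MulEquiv.ofBijective φ ⟨(MonoidHom.ker_eq_bot_iff φ).1 hk, hs'⟩).symm⟩
  · have e : φ.ker = Subgroup.center _ := by
      refine le_antisymm hker fun z hz => ?_
      obtain ⟨M, hM, hM1⟩ : ∃ M ∈ φ.ker, M ≠ 1 := by
        by_contra hcon
        push Not at hcon
        exact hk ((Subgroup.eq_bot_iff_forall _).2 hcon)
      obtain ⟨r, hr, hrM⟩ := Matrix.SpecialLinearGroup.mem_center_iff.1 (hker hM)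
      obtain ⟨q, hq, hqz⟩ := Matrix.SpecialLinearGroup.mem_center_iff.1 hz
      rw [Fintype.card_fin, sq_eq_one_iff] at hr hq
      rcases hr with rfl | rfl
      · exact absurd (Subtype.ext (by rw [← hrM]; simp)) hM1
      rcases hq with rfl | rfl
      · rw [show z = 1 from Subtype.ext (by rw [← hqz]; simp)]
        exact one_mem _
      · rwa [show z = M from Subtype.ext (hqz.symm.trans hrM)]
    exact Or.inr ⟨(QuotientGroup.quotientKerEquivOfSurjective φ hs').symm.trans
      (QuotientGroup.quotientMulEquivOfEq e)⟩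

end Cfsg.Agent.S5022
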