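import Cfsg.Statements.S5023
import Cfsg.Agent.Lib.RootSub.RankOne
-- import your own Cfsg.Agent.* helpers here

set_option autoImplicit false
open Cfsg

namespace Cfsg.Agent.S5023

/-- Let X be a rank one group with unipotent subgroups A and B that acts faithfully on an abelian group V (written additively) with A acting quadratically: a' • (a • v − v) = a • v − v for all a, a' in A and v in V. Then A is either torsion-free or an elementary abelian p-group for some prime p. -/
theorem result {X : Type*} [Group X] {A B : Subgroup X} (h : Cfsg.IsRankOneGroup X A B)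
    {V : Type*} [AddCommGroup V] [DistribMulAction X V] (hf : ∀ x : X, (∀ v : V, x • v = v) → x = 1)
    (hq : ∀ a ∈ A, ∀ a' ∈ A, ∀ v : V, a' • (a • v - v) = a • v - v) :
    (∀ a ∈ A, a ≠ 1 → ¬ IsOfFinOrder a) ∨ ∃ p : ℕ, p.Prime ∧ Cfsg.IsElementaryAbelian p A := by
  have hpair := h.2
  have act : ∀ a ∈ A, ∀ a' ∈ A, ∀ v : V, (a' * a) • v = a' • v + (a • v - v) := by
    intro a ha a' ha' v
    have := hq a ha a' ha' v
    rw [smul_sub] at this
    rw [mul_smul, eq_add_of_sub_eq this]; abel
  have hcomm : ∀ a ∈ A, ∀ a' ∈ A, a * a' = a' * a := by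
    intro a ha a' ha'
    rw [← inv_mul_eq_one]
    refine hf _ fun v => ?_
    rw [mul_smul, inv_smul_eq_iff, act a ha a' ha', act a' ha' a ha]; abel
  have hpow : ∀ a ∈ A, ∀ n : ℕ, ∀ v : V, (a ^ n) • v = v + n • (a • v - v) := by
    intro a ha n v
    induction n with
    | zero => simp
    | succ n ih => rw [pow_succ, act a ha _ (pow_mem ha n), ih, succ_nsmul]; abel
  by_cases ht : ∀ a ∈ A, a ≠ 1 → ¬ IsOfFinOrder a
  · exact Or.inl ht
  right
  push Not at ht
  obtain ⟨c, hc, hc1, hfin⟩ := ht
  obtain ⟨p, hp, m, hm⟩ := Nat.exists_prime_and_dvd (mt orderOf_eq_one_iff.1 hc1)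
  have hm0 : 0 < m := Nat.pos_of_ne_zero fun e => hfin.orderOf_pos.ne' (by rw [hm, e, mul_zero])
  refine ⟨p, hp, ⟨⟨fun x y => Subtype.ext (hcomm x x.2 y y.2)⟩⟩, fun a ha => ?_⟩
  set a₀ := c ^ m with ha₀_def
  have ha₀ : a₀ ∈ A := pow_mem hc m
  have ha₀p : a₀ ^ p = 1 := by rw [ha₀_def, ← pow_mul, mul_comm, ← hm, pow_orderOf_eq_one]
  have ha₀1 : a₀ ≠ 1 := pow_ne_one_of_lt_orderOf hm0.ne' (by rw [hm]; nlinarith [hp.two_le])
  -- the kernel of the action on pV
  let K : Subgroup X :=
    { carrier := {x | ∀ v : V, p • (x • v) = p • v}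
      one_mem' := fun v => by rw [one_smul]
      mul_mem' := fun {x y} hx hy v => by rw [mul_smul, hx, hy]
      inv_mem' := fun {x} hx v => by have := hx (x⁻¹ • v); rw [smul_inv_smul] at this; exact this.symm }
  have hK : ∀ x : X, ∀ k ∈ K, x * k * x⁻¹ ∈ K := by
    intro x k hk v
    calc p • ((x * k * x⁻¹) • v) = x • (p • (k • (x⁻¹ • v))) := by
          rw [mul_smul, mul_smul, smul_comm x p]
      _ = p • v := by rw [hk, smul_comm x p, smul_inv_smul]
  have ha₀K : a₀ ∈ K := fun v => by
    have := hpow a₀ ha₀ p v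
    rw [ha₀p, one_smul, left_eq_add, smul_sub, sub_eq_zero] at this
    exact this
  -- X = K A
  have hcov : A ⊔ B ≤ K ⊔ A := by
    rcases RootSub.rankOne_normal_dichotomy hpair K (by rw [h.1]; exact le_top) (fun x _ k hk => hK x k hk) with
      e | e
    · exact e
    · exact absurd (RootSub.rankOne_eq_one_of_normalizes hpair ha₀ (RootSub.conjBy_eq_self_iff.2
        (RootSub.mem_normalizer_of_forall_commute fun b hb => e a₀ ha₀K b (Subgroup.mem_sup_right hb)))) ha₀1
  rw [h.1] at hcov
  -- a ^ p is central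
  have hall : ∀ x : X, a ^ p * x = x * a ^ p := by
    have h1 : K ⊔ A ≤ Subgroup.centralizer {a ^ p} := by
      refine sup_le (fun k hk => Subgroup.mem_centralizer_singleton_iff.2 ?_)
        (fun a' ha' => Subgroup.mem_centralizer_singleton_iff.2 (hcomm _ ha' _ (pow_mem ha p)))
      rw [← inv_mul_eq_one]
      refine hf _ fun v => ?_
      rw [mul_smul, inv_smul_eq_iff, mul_smul, mul_smul, hpow a ha, hpow a ha, smul_add]
      have h1 : p • (a • (k • v) - k • v) = p • (a • v - v) := by
        rw [smul_sub, smul_sub, ← smul_comm a p, ← smul_comm a p, hk]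
      have h2 : k • (p • (a • v - v)) = p • (a • v - v) := by rw [smul_comm k p, hk]
      rw [h1, h2]
    exact fun x => (Subgroup.mem_centralizer_singleton_iff.1 (h1 (hcov (Subgroup.mem_top x)))).symm
  exact RootSub.rankOne_eq_one_of_normalizes hpair (pow_mem ha p) (RootSub.conjBy_eq_self_iff.2
    (RootSub.mem_normalizer_of_forall_commute fun b _ => hall b))

end Cfsg.Agent.S5023
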