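import Cfsg.Statements.S5024
import Cfsg.Agent.Lib.RootSub.Basic
-- import your own Cfsg.Agent.* helpers here

set_option autoImplicit false
open Cfsg

namespace Cfsg.Agent.S5024

/-- Let S be a set of abstract root subgroups of G, A and C members of S, B a rank one partner of A in S and D a rank one partner of C in S. If the rank one group ⟨A, B⟩ is contained in ⟨C, D⟩ then the two coincide, and C and D are conjugates of A inside ⟨A, B⟩. -/
theorem result {G : Type*} [Group G] {S : Set (Subgroup G)} (hS : Cfsg.IsRootSubgroupSet S)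
    {A B C D : Subgroup G} (hA : A ∈ S) (hC : C ∈ S) (hB : B ∈ Cfsg.rankOnePartners S A) (hD : D ∈ Cfsg.rankOnePartners S C)
    (hle : A ⊔ B ≤ C ⊔ D) : A ⊔ B = C ⊔ D ∧ C ∈ Cfsg.unipotentSubgroups A B ∧ D ∈ Cfsg.unipotentSubgroups A B := by
  obtain ⟨hBS, hr⟩ := hB
  obtain ⟨hDS, hr'⟩ := hD
  have hncA : ⁅A, C ⊔ D⁆ ≠ ⊥ := fun e => RootSub.rankOne_not_commute hr
    (le_bot_iff.1 ((Subgroup.commutator_mono le_rfl (le_sup_right.trans hle)).trans e.le))
  have hncB : ⁅B, C ⊔ D⁆ ≠ ⊥ := fun e => RootSub.rankOne_not_commute (RootSub.rankOne_symm hr)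
    (le_bot_iff.1 ((Subgroup.commutator_mono le_rfl (le_sup_left.trans hle)).trans e.le))
  have hA' := RootSub.mem_unipotentSubgroups_of_le hS hC hDS hr' hA (le_sup_left.trans hle) hncA
  have hB' := RootSub.mem_unipotentSubgroups_of_le hS hC hDS hr' hBS (le_sup_right.trans hle) hncB
  rw [RootSub.unipotentSubgroups_eq hr' hA' hB' hr.ne]
  exact ⟨(RootSub.rankOne_of_unipotentSubgroups hr' hA' hB' hr.ne).2,
    RootSub.left_mem_unipotentSubgroups C D, RootSub.right_mem_unipotentSubgroups hr'⟩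

end Cfsg.Agent.S5024
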