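import Cfsg.Statements.S5026
import Cfsg.Agent.Lib.RootSub.Basic
-- import your own Cfsg.Agent.* helpers here

set_option autoImplicit false
open Cfsg

namespace Cfsg.Agent.S5026

/-- Let S be a degenerate set of abstract root subgroups of G (a set of abstract transvection groups) and let a, b be commuting non-identity elements of members of S with a b ≠ 1. Then the members of S centralizing a b are exactly those centralizing both a and b. -/
theorem result {G : Type*} [Group G] {S : Set (Subgroup G)} (hS : Cfsg.IsRootSubgroupSet S) (hdeg : Cfsg.IsDegenerateRootSet S)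
    {a b : G} (ha : a ∈ Cfsg.rootElements S) (hb : b ∈ Cfsg.rootElements S) (hab : a * b = b * a) (hab1 : a * b ≠ 1) :
    Cfsg.centralizingMembers S (Subgroup.zpowers (a * b)) =
      Cfsg.centralizingMembers S (Subgroup.zpowers a) ∩ Cfsg.centralizingMembers S (Subgroup.zpowers b) := by
  obtain ⟨ha1, A, hA, haA⟩ := ha
  obtain ⟨hb1, B, hB, hbB⟩ := hb
  have hmem : ∀ (C : Subgroup G) (x : G), C ≤ Subgroup.centralizer (Subgroup.zpowers x : Set G) ↔
      ∀ c ∈ C, c * x = x * c := by
    intro C x
    constructor
    · exact fun h c hc => (Subgroup.mem_centralizer_iff.1 (h hc) x (Subgroup.mem_zpowers x)).symm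
    · intro h c hc
      rw [Subgroup.mem_centralizer_iff]
      rintro y ⟨n, rfl⟩
      exact Commute.zpow_left (show Commute x c from (h c hc).symm) n
  ext C
  simp only [Cfsg.centralizingMembers, Set.mem_ofPred_eq, Set.mem_inter_iff, hmem]
  constructor
  · rintro ⟨hC, h⟩
    have hAiff : (∀ c ∈ C, c * a = a * c) → ∀ c ∈ C, c * b = b * c := fun h' c hc => by
      have := h c hc
      rw [← mul_assoc, h' c hc, mul_assoc, mul_assoc] at this
      exact mul_left_cancel this
    by_cases hca : ⁅A, C⁆ = ⊥
    · have h' : ∀ c ∈ C, c * a = a * c := fun c hc =>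
        (RootSub.commutator_eq_bot_iff_commute.1 hca a haA c hc).symm
      exact ⟨⟨hC, h'⟩, hC, hAiff h'⟩
    exfalso
    have hr : Cfsg.IsRankOnePair A C :=
      ((hS.pair A hA C hC).resolve_left hca).resolve_right (hdeg A hA C hC)
    have e : Cfsg.conjBy C b⁻¹ = Cfsg.conjBy C a := by
      have h1 : Cfsg.conjBy C (b * a) = C := by
        rw [← hab]
        exact RootSub.conjBy_eq_self_iff.2
          (RootSub.mem_normalizer_of_forall_commute fun c hc => (h c hc).symm)
      rw [RootSub.conjBy_eq_conjBy_iff, inv_inv, h1]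
    have hAB : ⁅A, B⁆ = ⊥ := by
      rcases hS.pair A hA B hB with h' | h' | h'
      · exact h'
      · exfalso
        refine hb1 (RootSub.rankOne_eq_one_of_normalizes (RootSub.rankOne_symm h') hbB ?_)
        by_contra hne
        have hAb := RootSub.unipotentSubgroups_conj (A := A) (B := B)
          (Subgroup.mem_sup_right hbB) (RootSub.left_mem_unipotentSubgroups A B)
        have hr2 := (RootSub.rankOne_of_unipotentSubgroups h' hAb
          (RootSub.left_mem_unipotentSubgroups A B) hne).1
        have haAb : a ∈ Cfsg.conjBy A b := by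
          have := RootSub.conj_mem_conjBy (g := b) haA
          rwa [← hab, mul_inv_cancel_right] at this
        exact ha1 ((Subgroup.eq_bot_iff_forall _).1 (RootSub.rankOne_inf_eq_bot hr2) a ⟨haAb, haA⟩)
      · exact absurd h' (hdeg A hA B hB)
    have hBA := RootSub.eq_of_conj_partner hS hB hC hr hAB haA ha1 (inv_mem hbB) e
    subst hBA
    exact hab1 (RootSub.rankOne_eq_one_of_normalizes hr (mul_mem haA hbB)
      (RootSub.conjBy_eq_self_iff.2 (RootSub.mem_normalizer_of_forall_commute fun c hc => (h c hc).symm)))
  · rintro ⟨⟨hC, h1⟩, -, h2⟩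
    exact ⟨hC, fun c hc => by rw [← mul_assoc, h1 c hc, mul_assoc, h2 c hc, mul_assoc]⟩

end Cfsg.Agent.S5026
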