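import Cfsg.Statements.S5027
import Cfsg.Agent.Lib.RootSub.Basic
-- import your own Cfsg.Agent.* helpers here

set_option autoImplicit false
open Cfsg

namespace Cfsg.Agent.S5027

/-- Let S be a set of abstract root subgroups of G such that every member of S has a rank one partner in S (the graph of rank one pairs on S has no isolated vertex). Then the second centre of G equals its centre. -/
theorem result {G : Type*} [Group G] {S : Set (Subgroup G)} (hS : Cfsg.IsRootSubgroupSet S)
    (hF : ∀ A ∈ S, ¬ Cfsg.IsIsolatedIn (Cfsg.FAdj S) S A) : Subgroup.upperCentralSeries G 2 = Subgroup.center G := by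
  refine le_antisymm ?_ ?_
  swap
  · rw [← Subgroup.upperCentralSeries_one]
    exact Subgroup.upperCentralSeries_mono G (by norm_num)
  intro z hz
  have key : ∀ A ∈ S, A ≤ Subgroup.centralizer {z} := by
    intro A hA a ha
    rw [Subgroup.mem_centralizer_singleton_iff]
    by_cases ha1 : a = 1
    · simp [ha1]
    obtain ⟨P, hP, hr⟩ := RootSub.exists_partner_of_not_isolated hA (hF A hA)
    have hc := Subgroup.mem_upperCentralSeries_succ_iff.1 hz a
    rw [Subgroup.upperCentralSeries_one] at hc
    simp only [commutatorElement_def] at hc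
    by_contra hne
    have hc1 : z * a * z⁻¹ * a⁻¹ ≠ 1 := fun e => hne (by
      rw [mul_inv_eq_one, mul_inv_eq_iff_eq_mul] at e; exact e.symm)
    refine RootSub.centralizing_mul_not_rootElement hS hA hP hr
      (fun x _ => (Subgroup.mem_center_iff.1 hc x).symm)
      (fun x _ => (Subgroup.mem_center_iff.1 hc x).symm) hc1 ha ha1 ⟨?_, Cfsg.conjBy A z, hS.conj_mem A hA z, ?_⟩
    · rw [inv_mul_cancel_right]; exact fun e => ha1 (by rw [mul_inv_eq_one] at e; simpa using e)
    · rw [inv_mul_cancel_right]; exact RootSub.conj_mem_conjBy ha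
  rw [Subgroup.mem_center_iff]
  intro g
  have hg : g ∈ Subgroup.centralizer {z} := (iSup₂_le key : _ ≤ Subgroup.centralizer {z}) (hS.generates ▸ Subgroup.mem_top g)
  exact Subgroup.mem_centralizer_singleton_iff.1 hg

end Cfsg.Agent.S5027
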