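import Cfsg.Statements.S5029
import Cfsg.Agent.Lib.RootSub.Commutator
-- import your own Cfsg.Agent.* helpers here

set_option autoImplicit false
open Cfsg

namespace Cfsg.Agent.S5029

/-- Let S be a set of abstract root subgroups of G, A ∈ S having a rank one partner in S, and B ∈ S with C = ⁅A, B⁆ ∈ S. Then the members of S contained in AC are the conjugates of A by elements of B together with C, they partition AC, the members of S inside AC partition AC so that A is a line partner of C, and for every non-identity a ∈ A the map b ↦ a⁻¹ b⁻¹ a b is an isomorphism from B onto C. -/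
theorem result {G : Type*} [Group G] {S : Set (Subgroup G)} (hS : Cfsg.IsRootSubgroupSet S)
    {A B : Subgroup G} (hA : ¬ Cfsg.IsIsolatedIn (Cfsg.FAdj S) S A) (hAS : A ∈ S) (hB : B ∈ S) (hC : ⁅A, B⁆ ∈ S) :
    Cfsg.membersIn S (A ⊔ ⁅A, B⁆) = (fun b : G => Cfsg.conjBy A b) '' (B : Set G) ∪ {⁅A, B⁆} ∧
    Cfsg.IsSubgroupPartition (A ⊔ ⁅A, B⁆) (Cfsg.membersIn S (A ⊔ ⁅A, B⁆)) ∧
    A ∈ Cfsg.linePartners S ⁅A, B⁆ ∧
    ∀ a ∈ A, a ≠ 1 → ∃ φ : ↥B ≃* ↥⁅A, B⁆, ∀ b : ↥B, (φ b : G) = a⁻¹ * (b : G)⁻¹ * a * b := by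
  obtain ⟨P, hP, hr⟩ := RootSub.exists_partner_of_not_isolated hAS hA
  have h := RootSub.commCase_of_mem hS hAS hB hC
  refine ⟨RootSub.membersIn_commutator hS hAS hP hr h, RootSub.partition_commutator hS hAS hP hr h,
    RootSub.left_mem_linePartners hS hAS hP hr h, fun a ha ha1 => ?_⟩
  have hmem : ∀ b : ↥B, a⁻¹ * (b : G)⁻¹ * a * b ∈ ⁅A, B⁆ := fun b => by
    have := Subgroup.commutator_mem_commutator (inv_mem ha) (inv_mem b.2)
    simpa [commutatorElement_def, mul_assoc] using this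
  let f : ↥B →* ↥⁅A, B⁆ := MonoidHom.mk' (fun b => ⟨a⁻¹ * (b : G)⁻¹ * a * b, hmem b⟩) fun b₁ b₂ => by
    apply Subtype.ext
    have h1 := RootSub.commCase_commute_right h _ (hmem b₁) b₂ b₂.2
    have h2 := RootSub.mul_comm_of_mem (hS.commutative _ hC) (hmem b₁) (hmem b₂)
    show a⁻¹ * ((b₁ : G) * b₂)⁻¹ * a * (b₁ * b₂) =
      (a⁻¹ * (b₁ : G)⁻¹ * a * b₁) * (a⁻¹ * (b₂ : G)⁻¹ * a * b₂)
    rw [h2]
    calc a⁻¹ * ((b₁ : G) * b₂)⁻¹ * a * (b₁ * b₂)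
        = a⁻¹ * (b₂ : G)⁻¹ * a * ((a⁻¹ * (b₁ : G)⁻¹ * a * b₁) * b₂) := by group
      _ = a⁻¹ * (b₂ : G)⁻¹ * a * (b₂ * (a⁻¹ * (b₁ : G)⁻¹ * a * b₁)) := by rw [h1]
      _ = a⁻¹ * (b₂ : G)⁻¹ * a * b₂ * (a⁻¹ * (b₁ : G)⁻¹ * a * b₁) := by group
  have hinj : Function.Injective f := by
    rw [injective_iff_map_eq_one]
    rintro ⟨b, hb⟩ hfb
    apply Subtype.ext
    have e : a⁻¹ * b⁻¹ * a * b = 1 := congrArg Subtype.val hfb
    refine RootSub.commCase_commutator_inj hS hAS hP hr h ha ha1 hb ?_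
    calc a * b = b * a * (a⁻¹ * b⁻¹ * a * b) := by group
      _ = b * a := by rw [e, mul_one]
  have hsurj : Function.Surjective f := by
    rintro ⟨c, hc⟩
    obtain ⟨b, hb, e⟩ := RootSub.commCase_exists_commutator h (inv_mem ha) (inv_ne_one.2 ha1) hc
    refine ⟨⟨b⁻¹, inv_mem hb⟩, Subtype.ext ?_⟩
    show a⁻¹ * b⁻¹⁻¹ * a * b⁻¹ = c
    rw [← e]; group
  exact ⟨MulEquiv.ofBijective f ⟨hinj, hsurj⟩, fun b => rfl⟩

end Cfsg.Agent.S5029
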