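import Cfsg.Statements.S5030
import Cfsg.Agent.Lib.RootSub.Commutator
-- import your own Cfsg.Agent.* helpers here

set_option autoImplicit false
open Cfsg
open scoped commutatorElement

namespace Cfsg.Agent.S5030

section Aux

open scoped commutatorElement

variable {G : Type*} [Group G] {S : Set (Subgroup G)} {A B C P H U V X K : Subgroup G}

/-- In the commutator case A and a conjugate under a non-identity element of B generate A ⁅A, B⁆. -/
theorem sup_conjBy_eq (h : RootCommutatorCase S A B) {b : G} (hb : b ∈ B) (hb1 : b ≠ 1) :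
    A ⊔ Cfsg.conjBy A b⁻¹ = A ⊔ ⁅A, B⁆ := by
  refine le_antisymm (sup_le le_sup_left (RootSub.conjBy_le_sup_commutator (inv_mem hb))) (sup_le le_sup_left ?_)
  rw [← h.2.2.2 b⁻¹ (inv_mem hb) (inv_ne_one.2 hb1), Subgroup.closure_le]
  rintro _ ⟨a, ha, rfl⟩
  have := RootSub.conj_mem_conjBy (g := b⁻¹) (inv_mem ha)
  rw [SetLike.mem_coe]
  simpa [mul_assoc] using mul_mem (Subgroup.mem_sup_left ha) (Subgroup.mem_sup_right (S := A) this)

/-- A centralizing member makes the conjugated pair not rank one. -/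
theorem not_rankOne_conj (hS : IsRootSubgroupSet S) (hA : A ∈ S) (hC : C ∈ S) (hAB : ⁅A, B⁆ ∈ S)
    (hAC : ⁅A, C⁆ = ⊥) {b : G} (hb : b ∈ B) (hAA : ⁅A, Cfsg.conjBy A b⁻¹⁆ = ⊥) :
    ¬ IsRankOnePair (Cfsg.conjBy A b⁻¹) C := by
  intro hr
  have hAb := hS.conj_mem A hA b⁻¹
  obtain ⟨a, ha, ha1⟩ := RootSub.exists_mem_ne_one (hS.ne_bot A hA)
  have hm : b⁻¹ * a * b ∈ Cfsg.conjBy A b⁻¹ := by
    have := RootSub.conj_mem_conjBy (g := b⁻¹) ha
    rwa [inv_inv] at this
  have hm1 : b⁻¹ * a * b ≠ 1 := fun e => ha1 (by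
    rw [show a = b * (b⁻¹ * a * b) * b⁻¹ by group, e]; group)
  have hq : a⁻¹ * (b⁻¹ * a * b) ∈ ⁅A, B⁆ := by
    have := Subgroup.commutator_mem_commutator (inv_mem ha) (inv_mem hb)
    rwa [commutatorElement_def, inv_inv, inv_inv, show a⁻¹ * b⁻¹ * a * b = a⁻¹ * (b⁻¹ * a * b) by group] at this
  by_cases hq1 : a⁻¹ * (b⁻¹ * a * b) = 1
  · rw [inv_mul_eq_one] at hq1
    have hA' := RootSub.eq_of_mem_of_partner hS hAb hA hC hr hm (hq1 ▸ ha) hm1
    rw [hA'] at hr
    exact RootSub.rankOne_not_commute hr hAC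
  exact RootSub.centralizing_mul_not_rootElement hS hAb hC hr
    (fun x hx => RootSub.commutator_eq_bot_iff_commute.1 hAA _ (inv_mem ha) x hx)
    (fun x hx => RootSub.commutator_eq_bot_iff_commute.1 hAC _ (inv_mem ha) x hx)
    (inv_ne_one.2 ha1) hm hm1 ⟨hq1, _, hAB, hq⟩

theorem commutator_sup_le (hU : ⁅U, X⁆ ≤ H) (hV : ⁅V, X⁆ ≤ H)
    (hUH : U ≤ Subgroup.normalizer (H : Set G)) (hVH : V ≤ Subgroup.normalizer (H : Set G)) :
    ⁅U ⊔ V, X⁆ ≤ H := by
  let T : Subgroup G :=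
    { carrier := {r | r ∈ Subgroup.normalizer (H : Set G) ∧ ∀ x ∈ X, ⁅r, x⁆ ∈ H}
      one_mem' := ⟨one_mem _, fun x _ => by rw [commutatorElement_one_left]; exact one_mem _⟩
      mul_mem' := fun {r s} hr hs => ⟨mul_mem hr.1 hs.1, fun x hx => by
        rw [show ⁅r * s, x⁆ = r * ⁅s, x⁆ * r⁻¹ * ⁅r, x⁆ by simp only [commutatorElement_def]; group]
        exact mul_mem ((Subgroup.mem_normalizer_iff.1 hr.1 _).1 (hs.2 x hx)) (hr.2 x hx)⟩
      inv_mem' := fun {r} hr => ⟨inv_mem hr.1, fun x hx => by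
        rw [show ⁅r⁻¹, x⁆ = r⁻¹ * ⁅r, x⁆⁻¹ * r⁻¹⁻¹ by simp only [commutatorElement_def]; group]
        exact (Subgroup.mem_normalizer_iff.1 (inv_mem hr.1) _).1 (inv_mem (hr.2 x hx))⟩ }
  have hT : U ⊔ V ≤ T := sup_le
    (fun u hu => ⟨hUH hu, fun x hx => hU (Subgroup.commutator_mem_commutator hu hx)⟩)
    (fun v hv => ⟨hVH hv, fun x hx => hV (Subgroup.commutator_mem_commutator hv hx)⟩)
  exact Subgroup.commutator_le.2 fun r hr x hx => (hT hr).2 x hx

theorem commutator_le_right_sup (hU : ⁅X, U⁆ ≤ H) (hV : ⁅X, V⁆ ≤ H)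
    (hUH : U ≤ Subgroup.normalizer (H : Set G)) (hVH : V ≤ Subgroup.normalizer (H : Set G)) :
    ⁅X, U ⊔ V⁆ ≤ H := by
  rw [Subgroup.commutator_comm] at hU hV ⊢
  exact commutator_sup_le hU hV hUH hVH

theorem le_normalizer_of_commutator_le (h : ⁅U, H⁆ ≤ H) : U ≤ Subgroup.normalizer (H : Set G) := by
  intro u hu
  have key : ∀ v ∈ U, ∀ x ∈ H, v * x * v⁻¹ ∈ H := by
    intro v hv x hx
    have := mul_mem (h (Subgroup.commutator_mem_commutator hv hx)) hx
    rwa [commutatorElement_def, inv_mul_cancel_right] at this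
  refine Subgroup.mem_normalizer_iff.2 fun x => ⟨fun hx => key u hu x hx, fun hx => ?_⟩
  have := key u⁻¹ (inv_mem hu) _ hx
  rwa [inv_inv, show u⁻¹ * (u * x * u⁻¹) * u = x by group] at this

theorem le_normalizer_of_commute (h : ⁅U, H⁆ = ⊥) : U ≤ Subgroup.normalizer (H : Set G) :=
  le_normalizer_of_commutator_le (h ▸ bot_le)

theorem self_commute (hA : IsMulCommutative A) : ⁅A, A⁆ = ⊥ :=
  RootSub.commutator_eq_bot_iff_commute.2 fun _ hx _ hy => RootSub.mul_comm_of_mem hA hx hy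

theorem isNilpotent_of_chain {R K1 K2 K3 : Subgroup G} (h1 : ⁅R, R⁆ ≤ K1) (h2 : ⁅K1, R⁆ ≤ K2)
    (h3 : ⁅K2, R⁆ ≤ K3) (h4 : ⁅K3, R⁆ = ⊥) : Group.IsNilpotent R := by
  refine (Subgroup.isNilpotent_iff_lowerCentralSeries R).2 ⟨4, ?_⟩
  rw [eq_bot_iff, ← h4]
  simp only [Subgroup.lowerCentralSeries_succ, Subgroup.lowerCentralSeries_zero]
  exact Subgroup.commutator_mono
    ((Subgroup.commutator_mono ((Subgroup.commutator_mono h1 le_rfl).trans h2) le_rfl).trans h3) le_rfl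

end Aux

/-- Let S be a set of abstract root subgroups of G and A, B, C ∈ S with ⁅A, B⁆ ∈ S and ⁅B, C⁆ ∈ S, where A and C are different and commute. For a non-identity b ∈ B put X = ⟨A, b⁻¹ C b⟩ and Y = ⟨b⁻¹ A b, C⟩ and R = ⟨A, B, C⟩. Then X and Y are either both abelian or both nilpotent of class exactly two; X and Y commute elementwise; XY is normal in R with R = (XY) B; and R is nilpotent. -/
theorem result {G : Type*} [Group G] {S : Set (Subgroup G)} (hS : Cfsg.IsRootSubgroupSet S)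
    {A B C : Subgroup G} (hA : A ∈ S) (hB : B ∈ S) (hC : C ∈ S) (hAB : ⁅A, B⁆ ∈ S) (hBC : ⁅B, C⁆ ∈ S)
    (hAC : C ∈ Cfsg.commutingPartners S A)
    {b : G} (hb : b ∈ B) (hb1 : b ≠ 1) :
    ((IsMulCommutative ↥(A ⊔ Cfsg.conjBy C b⁻¹) ∧ IsMulCommutative ↥(Cfsg.conjBy A b⁻¹ ⊔ C)) ∨
      ((¬ IsMulCommutative ↥(A ⊔ Cfsg.conjBy C b⁻¹) ∧
          ⁅⁅A ⊔ Cfsg.conjBy C b⁻¹, A ⊔ Cfsg.conjBy C b⁻¹⁆, A ⊔ Cfsg.conjBy C b⁻¹⁆ = ⊥) ∧
        (¬ IsMulCommutative ↥(Cfsg.conjBy A b⁻¹ ⊔ C) ∧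
          ⁅⁅Cfsg.conjBy A b⁻¹ ⊔ C, Cfsg.conjBy A b⁻¹ ⊔ C⁆, Cfsg.conjBy A b⁻¹ ⊔ C⁆ = ⊥))) ∧
    ⁅A ⊔ Cfsg.conjBy C b⁻¹, Cfsg.conjBy A b⁻¹ ⊔ C⁆ = ⊥ ∧
    (∀ r ∈ A ⊔ B ⊔ C, Cfsg.conjBy ((A ⊔ Cfsg.conjBy C b⁻¹) ⊔ (Cfsg.conjBy A b⁻¹ ⊔ C)) r =
      (A ⊔ Cfsg.conjBy C b⁻¹) ⊔ (Cfsg.conjBy A b⁻¹ ⊔ C)) ∧
    ((A ⊔ Cfsg.conjBy C b⁻¹) ⊔ (Cfsg.conjBy A b⁻¹ ⊔ C)) ⊔ B = A ⊔ B ⊔ C ∧
    Group.IsNilpotent ↥(A ⊔ B ⊔ C) := by
  obtain ⟨-, hne, hcomm⟩ := hAC
  have hCA : ⁅C, A⁆ = ⊥ := by rw [Subgroup.commutator_comm]; exact hcomm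
  have cAB := RootSub.commCase_of_mem hS hA hB hAB
  have hCB' : ⁅C, B⁆ ∈ S := by rw [Subgroup.commutator_comm]; exact hBC
  have cCB := RootSub.commCase_of_mem hS hC hB hCB'
  set P := ⁅A, B⁆ with hP
  set Q := ⁅C, B⁆ with hQ
  set A' := Cfsg.conjBy A b⁻¹ with hA'
  set C' := Cfsg.conjBy C b⁻¹ with hC'
  have hA'S : A' ∈ S := hS.conj_mem A hA _
  have hC'S : C' ∈ S := hS.conj_mem C hC _
  have eA : A ⊔ A' = A ⊔ P := sup_conjBy_eq cAB hb hb1
  have eC : C ⊔ C' = C ⊔ Q := sup_conjBy_eq cCB hb hb1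
  have hAP : ⁅A, P⁆ = ⊥ := RootSub.commCase_commute_eq_bot cAB
  have hCQ : ⁅C, Q⁆ = ⊥ := RootSub.commCase_commute_eq_bot cCB
  have hPB : ⁅P, B⁆ = ⊥ := RootSub.commutator_eq_bot_iff_commute.2 fun p hp x hx =>
    RootSub.commCase_commute_right cAB p hp x hx
  have hQB : ⁅Q, B⁆ = ⊥ := RootSub.commutator_eq_bot_iff_commute.2 fun p hp x hx =>
    RootSub.commCase_commute_right cCB p hp x hx
  have hAA' : ⁅A, A'⁆ = ⊥ := le_bot_iff.1 (le_trans (Subgroup.commutator_mono le_rfl (le_sup_right.trans eA.le))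
    (commutator_le_right_sup (self_commute (hS.commutative A hA)).le hAP.le
      (le_normalizer_of_commutator_le (by rw [Subgroup.commutator_bot_right]))
      (le_normalizer_of_commutator_le (by rw [Subgroup.commutator_bot_right]))))
  have hCC' : ⁅C, C'⁆ = ⊥ := le_bot_iff.1 (le_trans (Subgroup.commutator_mono le_rfl (le_sup_right.trans eC.le))
    (commutator_le_right_sup (self_commute (hS.commutative C hC)).le hCQ.le
      (le_normalizer_of_commutator_le (by rw [Subgroup.commutator_bot_right]))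
      (le_normalizer_of_commutator_le (by rw [Subgroup.commutator_bot_right]))))
  have hA'C' : ⁅A', C'⁆ = ⊥ := by
    rw [hA', hC', ← RootSub.conjBy_commutator, hcomm, RootSub.conjBy_eq_bot_iff]
  have hC'A' : ⁅C', A'⁆ = ⊥ := by rw [Subgroup.commutator_comm]; exact hA'C'
  have hnb : ∀ {U : Subgroup G}, U ≤ Subgroup.normalizer ((⊥ : Subgroup G) : Set G) := fun {U} =>
    le_normalizer_of_commute (by rw [Subgroup.commutator_bot_right])
  have hXY : ⁅A ⊔ C', A' ⊔ C⁆ = ⊥ := le_bot_iff.1 (commutator_sup_le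
    (commutator_le_right_sup hAA'.le hcomm.le hnb hnb)
    (commutator_le_right_sup hC'A'.le (by rw [Subgroup.commutator_comm]; exact hCC'.le) hnb hnb) hnb hnb)
  have hYX : ⁅A' ⊔ C, A ⊔ C'⁆ = ⊥ := by rw [Subgroup.commutator_comm]; exact hXY
  -- the two kinds
  have hX3 : ⁅A, C'⁆ = ⊥ ∨ RootCommutatorCase S A C' := by
    rcases hS.pair A hA C' hC'S with h | h | h
    · exact Or.inl h
    · exact absurd (RootSub.rankOne_symm h) (not_rankOne_conj hS hC hA hCB' hCA hb hCC')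
    · exact Or.inr h
  have hY3 : ⁅A', C⁆ = ⊥ ∨ RootCommutatorCase S A' C := by
    rcases hS.pair A' hA'S C hC with h | h | h
    · exact Or.inl h
    · exact absurd h (not_rankOne_conj hS hA hC hAB hcomm hb hAA')
    · exact Or.inr h
  have hiff : ⁅A, C'⁆ = ⊥ ↔ ⁅A', C⁆ = ⊥ := by
    constructor
    · intro h
      have h1 : ⁅A, Q⁆ = ⊥ := le_bot_iff.1 ((Subgroup.commutator_mono le_rfl (le_sup_right.trans eC.ge)).trans
        (commutator_le_right_sup hcomm.le h.le hnb hnb))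
      have h2 : ⁅⁅A, B⁆, C⁆ = ⊥ := Subgroup.commutator_commutator_eq_bot_of_rotate
        (by rw [Subgroup.commutator_comm B C, Subgroup.commutator_comm]; exact h1)
        (by rw [hCA, Subgroup.commutator_bot_left])
      exact le_bot_iff.1 ((Subgroup.commutator_mono (le_sup_right.trans eA.le) le_rfl).trans
        (commutator_sup_le hcomm.le h2.le hnb hnb))
    · intro h
      have h1 : ⁅P, C⁆ = ⊥ := le_bot_iff.1 ((Subgroup.commutator_mono (le_sup_right.trans eA.ge) le_rfl).trans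
        (commutator_sup_le hcomm.le h.le hnb hnb))
      have h2 : ⁅⁅C, B⁆, A⁆ = ⊥ := Subgroup.commutator_commutator_eq_bot_of_rotate
        (by rw [Subgroup.commutator_comm B A, Subgroup.commutator_comm]
            rw [hP, Subgroup.commutator_comm _ C] at h1
            rwa [Subgroup.commutator_comm] at h1 ⊢)
        (by rw [hcomm, Subgroup.commutator_bot_left])
      have h3 : ⁅A, Q⁆ = ⊥ := by rw [Subgroup.commutator_comm]; exact h2
      exact le_bot_iff.1 ((Subgroup.commutator_mono le_rfl (le_sup_right.trans eC.le)).trans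
        (commutator_le_right_sup hcomm.le h3.le hnb hnb))
  -- R1 and R2 are central in M
  set R1 := ⁅A, C'⁆ with hR1
  set R2 := ⁅A', C⁆ with hR2
  set M := (A ⊔ C') ⊔ (A' ⊔ C) with hM
  have hR1X : R1 ≤ A ⊔ C' := Subgroup.commutator_le.2 fun x hx y hy => by
    rw [commutatorElement_def]
    exact mul_mem (mul_mem (mul_mem (Subgroup.mem_sup_left hx) (Subgroup.mem_sup_right hy))
      (inv_mem (Subgroup.mem_sup_left hx))) (inv_mem (Subgroup.mem_sup_right hy))
  have hR2Y : R2 ≤ A' ⊔ C := Subgroup.commutator_le.2 fun x hx y hy => by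
    rw [commutatorElement_def]
    exact mul_mem (mul_mem (mul_mem (Subgroup.mem_sup_left hx) (Subgroup.mem_sup_right hy))
      (inv_mem (Subgroup.mem_sup_left hx))) (inv_mem (Subgroup.mem_sup_right hy))
  have hR1c : ⁅R1, A ⊔ C'⁆ = ⊥ := by
    rcases hX3 with h | h
    · rw [h, Subgroup.commutator_bot_left]
    · exact RootSub.commutator_eq_bot_iff_commute.2 fun x hx y hy => h.2.1 x hx y hy
  have hR2c : ⁅R2, A' ⊔ C⁆ = ⊥ := by
    rcases hY3 with h | h
    · rw [h, Subgroup.commutator_bot_left]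
    · exact RootSub.commutator_eq_bot_iff_commute.2 fun x hx y hy => h.2.1 x hx y hy
  have hR1M : ⁅R1, M⁆ = ⊥ := le_bot_iff.1 (commutator_le_right_sup hR1c.le
    ((Subgroup.commutator_mono hR1X le_rfl).trans hXY.le) hnb hnb)
  have hR2M : ⁅R2, M⁆ = ⊥ := le_bot_iff.1 (commutator_le_right_sup
    ((Subgroup.commutator_mono hR2Y le_rfl).trans hYX.le) hR2c.le hnb hnb)
  set K2 := R1 ⊔ R2 with hK2
  have hK2M : ⁅K2, M⁆ = ⊥ := le_bot_iff.1 (commutator_sup_le hR1M.le hR2M.le hnb hnb)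
  have hMK2 : M ≤ Subgroup.normalizer (K2 : Set G) :=
    le_normalizer_of_commute (by rw [Subgroup.commutator_comm]; exact hK2M)
  have nA : A ≤ Subgroup.normalizer (K2 : Set G) := (le_sup_left.trans le_sup_left).trans hMK2
  have nA' : A' ≤ Subgroup.normalizer (K2 : Set G) := (le_sup_left.trans le_sup_right).trans hMK2
  have nC : C ≤ Subgroup.normalizer (K2 : Set G) := (le_sup_right.trans le_sup_right).trans hMK2
  have nC' : C' ≤ Subgroup.normalizer (K2 : Set G) := (le_sup_right.trans le_sup_left).trans hMK2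
  have hXX : ⁅A ⊔ C', A ⊔ C'⁆ ≤ K2 := commutator_sup_le
    (commutator_le_right_sup ((self_commute (hS.commutative A hA)).le.trans bot_le) le_sup_left nA nC')
    (commutator_le_right_sup (by rw [Subgroup.commutator_comm]; exact le_sup_left)
      ((self_commute (hS.commutative C' hC'S)).le.trans bot_le) nA nC') nA nC'
  have hYY : ⁅A' ⊔ C, A' ⊔ C⁆ ≤ K2 := commutator_sup_le
    (commutator_le_right_sup ((self_commute (hS.commutative A' hA'S)).le.trans bot_le) le_sup_right nA' nC)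
    (commutator_le_right_sup (by rw [Subgroup.commutator_comm]; exact le_sup_right)
      ((self_commute (hS.commutative C hC)).le.trans bot_le) nA' nC) nA' nC
  have nX : A ⊔ C' ≤ Subgroup.normalizer (K2 : Set G) := sup_le nA nC'
  have nY : A' ⊔ C ≤ Subgroup.normalizer (K2 : Set G) := sup_le nA' nC
  have hMM : ⁅M, M⁆ ≤ K2 := commutator_sup_le
    (commutator_le_right_sup hXX (hXY.le.trans bot_le) nX nY)
    (commutator_le_right_sup (hYX.le.trans bot_le) hYY nX nY) nX nY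
  have hMeq : M = (A ⊔ P) ⊔ (C ⊔ Q) := by
    rw [hM, ← eA, ← eC]; ac_rfl
  have hPM : P ≤ M := hMeq ▸ (le_sup_right.trans le_sup_left)
  have hQM : Q ≤ M := hMeq ▸ (le_sup_right.trans le_sup_right)
  have hAM : A ≤ M := le_sup_left.trans le_sup_left
  have hCM : C ≤ M := le_sup_right.trans le_sup_right
  have hA'M : A' ≤ M := le_sup_left.trans le_sup_right
  have hC'M : C' ≤ M := le_sup_right.trans le_sup_left
  set R := A ⊔ B ⊔ C with hR
  have hRM : R = M ⊔ B := by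
    refine le_antisymm (sup_le (sup_le (hAM.trans le_sup_left) le_sup_right) (hCM.trans le_sup_left))
      (sup_le ?_ (le_sup_right.trans le_sup_left))
    have hbR : b⁻¹ ∈ R := inv_mem (Subgroup.mem_sup_left (Subgroup.mem_sup_right hb))
    have hconj : ∀ U, U ≤ R → Cfsg.conjBy U b⁻¹ ≤ R := fun U hU =>
      (RootSub.conjBy_le_conjBy.2 hU).trans (RootSub.conjBy_self hbR).le
    exact sup_le (sup_le (le_sup_left.trans le_sup_left) (hconj C le_sup_right))
      (sup_le (hconj A (le_sup_left.trans le_sup_left)) le_sup_right)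
  -- B normalizes M
  have hMB : B ≤ Subgroup.normalizer (M : Set G) := by
    refine le_normalizer_of_commutator_le ?_
    rw [hMeq]
    have hMn : M ≤ Subgroup.normalizer (M : Set G) := Subgroup.le_normalizer
    have n1 : ∀ {U : Subgroup G}, U ≤ M → U ≤ Subgroup.normalizer (M : Set G) := fun h => h.trans hMn
    rw [← hMeq]
    conv_lhs => rw [hMeq]
    refine commutator_le_right_sup (commutator_le_right_sup ?_ ?_ (n1 hAM) (n1 hPM))
      (commutator_le_right_sup ?_ ?_ (n1 hCM) (n1 hQM)) (n1 (sup_le hAM hPM)) (n1 (sup_le hCM hQM))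
    · rw [Subgroup.commutator_comm]; exact hPM
    · rw [Subgroup.commutator_comm, hPB]; exact bot_le
    · rw [Subgroup.commutator_comm]; exact hQM
    · rw [Subgroup.commutator_comm, hQB]; exact bot_le
  have hnorm : R ≤ Subgroup.normalizer (M : Set G) := hRM ▸ sup_le Subgroup.le_normalizer hMB
  -- the central series
  set K3 := ⁅P, Q⁆ with hK3
  have hK3K2 : K3 ≤ K2 := (Subgroup.commutator_mono hPM hQM).trans hMM
  have hK3R : ⁅K3, R⁆ = ⊥ := by
    rw [hRM]
    refine le_bot_iff.1 (commutator_le_right_sup ((Subgroup.commutator_mono hK3K2 le_rfl).trans hK2M.le) ?_ hnb hnb)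
    exact (Subgroup.commutator_commutator_eq_bot_of_rotate
      (by rw [hQB, Subgroup.commutator_bot_left]) (by rw [Subgroup.commutator_comm B P, hPB, Subgroup.commutator_bot_left])).le
  have hBK3 : B ≤ Subgroup.normalizer (K3 : Set G) := le_normalizer_of_commute (by
    refine le_bot_iff.1 ?_
    rw [Subgroup.commutator_comm]
    exact (Subgroup.commutator_mono le_rfl (le_sup_right.trans le_sup_left)).trans hK3R.le)
  have hMK3 : M ≤ Subgroup.normalizer (K3 : Set G) := le_normalizer_of_commute (by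
    refine le_bot_iff.1 ?_
    rw [Subgroup.commutator_comm]
    exact (Subgroup.commutator_mono hK3K2 le_rfl).trans hK2M.le)
  -- B moves the generators of R1, R2 inside K3
  have hK3c : ∀ x ∈ K3, ∀ y ∈ M, x * y = y * x := fun x hx y hy =>
    RootSub.commutator_eq_bot_iff_commute.1 hK2M x (hK3K2 hx) y hy
  have hmain : ∀ b' ∈ B, ∀ a ∈ A, ∀ c ∈ C, ∀ p ∈ P, ∀ q ∈ Q,
      ⁅b', ⁅a * p, c * q⁆⁆ ∈ K3 := by
    intro b' hb' a ha c hc p hp q hq
    obtain ⟨p', hp', e1⟩ : ∃ p' ∈ P, b' * a * b'⁻¹ = p' * a := by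
      refine ⟨b' * a * b'⁻¹ * a⁻¹, ?_, by group⟩
      have := Subgroup.commutator_mem_commutator hb' ha
      rw [commutatorElement_def, Subgroup.commutator_comm] at this
      exact this
    obtain ⟨q', hq', e2⟩ : ∃ q' ∈ Q, b' * c * b'⁻¹ = q' * c := by
      refine ⟨b' * c * b'⁻¹ * c⁻¹, ?_, by group⟩
      have := Subgroup.commutator_mem_commutator hb' hc
      rw [commutatorElement_def, Subgroup.commutator_comm] at this
      exact this
    have ep : b' * p * b'⁻¹ = p := by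
      rw [← RootSub.commutator_eq_bot_iff_commute.1 hPB p hp b' hb', mul_inv_cancel_right]
    have eq' : b' * q * b'⁻¹ = q := by
      rw [← RootSub.commutator_eq_bot_iff_commute.1 hQB q hq b' hb', mul_inv_cancel_right]
    have ez : b' * ⁅a * p, c * q⁆ * b'⁻¹ = ⁅p' * (a * p), q' * (c * q)⁆ := by
      rw [show b' * ⁅a * p, c * q⁆ * b'⁻¹ =
        ⁅(b' * a * b'⁻¹) * (b' * p * b'⁻¹), (b' * c * b'⁻¹) * (b' * q * b'⁻¹)⁆ by
          simp only [commutatorElement_def]; group, e1, e2, ep, eq', mul_assoc, mul_assoc]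
    have hx : a * p ∈ M := mul_mem (hAM ha) (hPM hp)
    have hy : c * q ∈ M := mul_mem (hCM hc) (hQM hq)
    have hbil : ∀ u ∈ M, ∀ v ∈ M, ∀ w ∈ M, ⁅u * v, w⁆ = ⁅u, w⁆ * ⁅v, w⁆ ∧ ⁅w, u * v⁆ = ⁅w, u⁆ * ⁅w, v⁆ := by
      intro u hu v hv w hw
      have c1 : ∀ {s t z : G}, s ∈ M → t ∈ M → z ∈ M → ⁅s, t⁆ * z = z * ⁅s, t⁆ := fun hs ht hz =>
        RootSub.commutator_eq_bot_iff_commute.1 hK2M _ (hMM (Subgroup.commutator_mem_commutator hs ht)) _ hz
      constructor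
      · calc ⁅u * v, w⁆ = u * ⁅v, w⁆ * u⁻¹ * ⁅u, w⁆ := by simp only [commutatorElement_def]; group
          _ = ⁅v, w⁆ * ⁅u, w⁆ := by rw [← c1 hv hw hu, mul_inv_cancel_right]
          _ = _ := c1 hv hw (by rw [commutatorElement_def]; exact mul_mem (mul_mem (mul_mem hu hw) (inv_mem hu)) (inv_mem hw))
      · calc ⁅w, u * v⁆ = ⁅w, u⁆ * (u * ⁅w, v⁆ * u⁻¹) := by simp only [commutatorElement_def]; group
          _ = _ := by rw [← c1 hw hv hu, mul_inv_cancel_right]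
    obtain ⟨-, -⟩ := hbil p' (hPM hp') (a * p) hx (q' * (c * q)) (mul_mem (hQM hq') hy)
    have hCP : ∀ {s}, s ∈ P → ∀ {t}, t ∈ Q → ⁅s, t⁆ ∈ K3 := fun hs _ ht => Subgroup.commutator_mem_commutator hs ht
    have hzero : ∀ {U V : Subgroup G}, ⁅U, V⁆ = ⊥ → ∀ {u v}, u ∈ U → v ∈ V → ⁅u, v⁆ = 1 := fun h _ _ hu hv =>
      commutatorElement_eq_one_iff_mul_comm.2 (RootSub.commutator_eq_bot_iff_commute.1 h _ hu _ hv)
    rw [show ⁅b', ⁅a * p, c * q⁆⁆ = b' * ⁅a * p, c * q⁆ * b'⁻¹ * ⁅a * p, c * q⁆⁻¹ from commutatorElement_def _ _,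
      ez]
    have hpq := hK3c
    obtain ⟨E1, -⟩ := hbil p' (hPM hp') (a * p) hx (q' * (c * q)) (mul_mem (hQM hq') hy)
    obtain ⟨-, E2⟩ := hbil q' (hQM hq') (c * q) hy p' (hPM hp')
    obtain ⟨-, E3⟩ := hbil q' (hQM hq') (c * q) hy (a * p) hx
    obtain ⟨-, E4⟩ := hbil c (hCM hc) q (hQM hq) p' (hPM hp')
    obtain ⟨E5, -⟩ := hbil a (hAM ha) p (hPM hp) q' (hQM hq')
    rw [E1, E2, E3, E4, E5]
    -- what is left mod K3
    have t1 : ⁅p', q'⁆ ∈ K3 := hCP hp' hq'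
    have t2 : ⁅p', q⁆ ∈ K3 := hCP hp' hq
    have t3 : ⁅p, q'⁆ ∈ K3 := hCP hp hq'
    have hc' : c * q ∈ M := hy
    have hPC : ⁅p', c⁆ * ⁅a, q'⁆ ∈ K3 := by
      -- b' fixes ⁅a, c⁆ = 1
      have h0 : ⁅p' * a, q' * c⁆ = 1 := by
        rw [← e1, ← e2, show ⁅b' * a * b'⁻¹, b' * c * b'⁻¹⁆ = b' * ⁅a, c⁆ * b'⁻¹ by
          simp only [commutatorElement_def]; group, hzero hcomm ha hc]
        group
      obtain ⟨F1, -⟩ := hbil p' (hPM hp') a (hAM ha) (q' * c) (mul_mem (hQM hq') (hCM hc))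
      obtain ⟨-, F2⟩ := hbil q' (hQM hq') c (hCM hc) p' (hPM hp')
      obtain ⟨-, F3⟩ := hbil q' (hQM hq') c (hCM hc) a (hAM ha)
      rw [F1, F2, F3, hzero hcomm ha hc, mul_one, mul_assoc] at h0
      rw [eq_inv_of_mul_eq_one_right h0]
      exact inv_mem t1
    have cM : ∀ {s t : G}, s ∈ M → t ∈ M → ∀ z ∈ M, ⁅s, t⁆ * z = z * ⁅s, t⁆ := fun hs ht z hz =>
      RootSub.commutator_eq_bot_iff_commute.1 hK2M _ (hMM (Subgroup.commutator_mem_commutator hs ht)) _ hz
    have hmem : ∀ {s t : G}, s ∈ M → t ∈ M → ⁅s, t⁆ ∈ M := fun hs ht => by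
      rw [commutatorElement_def]; exact mul_mem (mul_mem (mul_mem hs ht) (inv_mem hs)) (inv_mem ht)
    rw [show ⁅p', q'⁆ * (⁅p', c⁆ * ⁅p', q⁆) * (⁅a, q'⁆ * ⁅p, q'⁆ * ⁅a * p, c * q⁆) * ⁅a * p, c * q⁆⁻¹ =
        ⁅p', q'⁆ * (⁅p', c⁆ * (⁅p', q⁆ * ⁅a, q'⁆)) * ⁅p, q'⁆ by group,
      cM (hPM hp') (hQM hq) _ (hmem (hAM ha) (hQM hq')), ← mul_assoc ⁅p', c⁆]
    exact mul_mem (mul_mem t1 (mul_mem hPC t2)) t3
  have hBR1 : ∀ U V : Subgroup G, ⁅U, V⁆ ≤ K2 → U ≤ A ⊔ P → V ≤ C ⊔ Q → ⁅B, ⁅U, V⁆⁆ ≤ K3 := by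
    intro U V hUV hU hV
    rw [Subgroup.commutator_le]
    intro b' hb' z hz
    rw [Subgroup.commutator_def] at hz
    induction hz using Subgroup.closure_induction with
    | mem z hz =>
      obtain ⟨u, hu, v, hv, rfl⟩ := hz
      obtain ⟨a, ha, p, hp, rfl⟩ := (RootSub.mem_sup_of_commute hAP).1 (hU hu)
      obtain ⟨c, hc, q, hq, rfl⟩ := (RootSub.mem_sup_of_commute hCQ).1 (hV hv)
      exact hmain b' hb' a ha c hc p hp q hq
    | one => rw [commutatorElement_one_right]; exact one_mem _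
    | mul x y hx _ h1 h2 =>
      rw [show ⁅b', x * y⁆ = ⁅b', x⁆ * (x * ⁅b', y⁆ * x⁻¹) by simp only [commutatorElement_def]; group]
      refine mul_mem h1 ?_
      rw [← Subgroup.commutator_def] at hx
      have hxM : x ∈ M := by
        refine (Subgroup.commutator_le.2 fun s hs t ht => ?_ : ⁅U, V⁆ ≤ M) hx
        have hs' : s ∈ M := (sup_le hAM hPM) (hU hs)
        have ht' : t ∈ M := (sup_le hCM hQM) (hV ht)
        rw [commutatorElement_def]
        exact mul_mem (mul_mem (mul_mem hs' ht') (inv_mem hs')) (inv_mem ht')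
      exact (Subgroup.mem_normalizer_iff.1 (hMK3 hxM) _).1 h2
    | inv x hx h1 =>
      rw [show ⁅b', x⁻¹⁆ = x⁻¹ * ⁅b', x⁆⁻¹ * x⁻¹⁻¹ by simp only [commutatorElement_def]; group]
      rw [← Subgroup.commutator_def] at hx
      have hxM : x ∈ M := by
        refine (Subgroup.commutator_le.2 fun s hs t ht => ?_ : ⁅U, V⁆ ≤ M) hx
        have hs' : s ∈ M := (sup_le hAM hPM) (hU hs)
        have ht' : t ∈ M := (sup_le hCM hQM) (hV ht)
        rw [commutatorElement_def]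
        exact mul_mem (mul_mem (mul_mem hs' ht') (inv_mem hs')) (inv_mem ht')
      exact (Subgroup.mem_normalizer_iff.1 (hMK3 (inv_mem hxM)) _).1 (inv_mem h1)
  have hBK2 : ⁅B, K2⁆ ≤ K3 := commutator_le_right_sup
    (hBR1 A C' le_sup_left le_sup_left (le_sup_right.trans eC.le))
    (hBR1 A' C le_sup_right (le_sup_right.trans eA.le) le_sup_left)
    ((hR1X.trans le_sup_left).trans hMK3) ((hR2Y.trans le_sup_right).trans hMK3)
  have hstep3 : ⁅K2, R⁆ ≤ K3 := by
    rw [hRM]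
    exact commutator_le_right_sup (hK2M.le.trans bot_le) (by rw [Subgroup.commutator_comm]; exact hBK2) hMK3 hBK3
  have hBnK2 : B ≤ Subgroup.normalizer (K2 : Set G) := le_normalizer_of_commutator_le (hBK2.trans hK3K2)
  have hRK2 : R ≤ Subgroup.normalizer (K2 : Set G) := hRM ▸ sup_le hMK2 hBnK2
  set K1 := P ⊔ Q ⊔ K2 with hK1
  have hstep2 : ⁅K1, R⁆ ≤ K2 := by
    rw [hRM]
    refine commutator_le_right_sup ?_ ?_ hMK2 hBnK2
    · refine commutator_sup_le (commutator_sup_le ((Subgroup.commutator_mono hPM le_rfl).trans hMM)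
        ((Subgroup.commutator_mono hQM le_rfl).trans hMM) (hPM.trans hMK2) (hQM.trans hMK2))
        (hK2M.le.trans bot_le) ((sup_le hPM hQM).trans hMK2) Subgroup.le_normalizer
    · refine commutator_sup_le (commutator_sup_le (hPB.le.trans bot_le) (hQB.le.trans bot_le)
        (hPM.trans hMK2) (hQM.trans hMK2)) (by rw [Subgroup.commutator_comm]; exact hBK2.trans hK3K2)
        ((sup_le hPM hQM).trans hMK2) Subgroup.le_normalizer
  have hRK1 : R ≤ Subgroup.normalizer (K1 : Set G) :=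
    le_normalizer_of_commutator_le (by rw [Subgroup.commutator_comm]; exact hstep2.trans le_sup_right)
  have hstep1 : ⁅R, R⁆ ≤ K1 := by
    have n1 : ∀ {U : Subgroup G}, U ≤ R → U ≤ Subgroup.normalizer (K1 : Set G) := fun h => h.trans hRK1
    have iA : A ≤ R := le_sup_left.trans le_sup_left
    have iB : B ≤ R := le_sup_right.trans le_sup_left
    have iC : C ≤ R := le_sup_right
    have p1 : P ≤ K1 := le_sup_left.trans le_sup_left
    have q1 : Q ≤ K1 := le_sup_right.trans le_sup_left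
    refine commutator_sup_le (commutator_sup_le ?_ ?_ (n1 iA) (n1 iB)) ?_ (n1 (sup_le iA iB)) (n1 iC) <;>
      refine commutator_le_right_sup (commutator_le_right_sup ?_ ?_ (n1 iA) (n1 iB)) ?_ (n1 (sup_le iA iB)) (n1 iC)
    · exact (self_commute (hS.commutative A hA)).le.trans bot_le
    · exact p1
    · exact hcomm.le.trans bot_le
    · rw [Subgroup.commutator_comm]; exact p1
    · exact (self_commute (hS.commutative B hB)).le.trans bot_le
    · rw [Subgroup.commutator_comm]; exact q1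
    · exact hCA.le.trans bot_le
    · exact q1
    · exact (self_commute (hS.commutative C hC)).le.trans bot_le
  refine ⟨?_, hXY, fun r hr => RootSub.conjBy_eq_self_iff.2 (hnorm hr), hRM.symm,
    isNilpotent_of_chain hstep1 hstep2 hstep3 hK3R⟩
  -- abelian or of class two
  have abel : ∀ U V : Subgroup G, U ∈ S → V ∈ S → ⁅U, V⁆ = ⊥ → IsMulCommutative ↥(U ⊔ V) := by
    intro U V hU hV h
    have h' : ⁅U ⊔ V, U ⊔ V⁆ = ⊥ := le_bot_iff.1 (commutator_sup_le
      (commutator_le_right_sup (self_commute (hS.commutative U hU)).le h.le hnb hnb)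
      (commutator_le_right_sup (by rw [Subgroup.commutator_comm]; exact h.le)
        (self_commute (hS.commutative V hV)).le hnb hnb) hnb hnb)
    exact ⟨⟨fun x y => Subtype.ext (RootSub.commutator_eq_bot_iff_commute.1 h' x x.2 y y.2)⟩⟩
  have nonab : ∀ U V : Subgroup G, RootCommutatorCase S U V → ¬ IsMulCommutative ↥(U ⊔ V) := by
    intro U V h hc
    exact RootSub.commCase_not_commute hS h (RootSub.commutator_eq_bot_iff_commute.2 fun x hx y hy =>
      RootSub.mul_comm_of_mem hc (Subgroup.mem_sup_left hx) (Subgroup.mem_sup_right hy))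
  by_cases h : R1 = ⊥
  · exact Or.inl ⟨abel A C' hA hC'S h, abel A' C hA'S hC (hiff.1 h)⟩
  · refine Or.inr ⟨⟨nonab A C' (hX3.resolve_left h), ?_⟩, nonab A' C (hY3.resolve_left (fun e => h (hiff.2 e))), ?_⟩
    · exact le_bot_iff.1 ((Subgroup.commutator_mono hXX le_rfl).trans
        ((Subgroup.commutator_mono le_rfl le_sup_left).trans hK2M.le))
    · exact le_bot_iff.1 ((Subgroup.commutator_mono hYY le_rfl).trans
        ((Subgroup.commutator_mono le_rfl le_sup_right).trans hK2M.le))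

end Cfsg.Agent.S5030
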