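import Cfsg.Statements.S5031
import Cfsg.Agent.Lib.RootSub.Graph
-- import your own Cfsg.Agent.* helpers here

set_option autoImplicit false
open Cfsg

namespace Cfsg.Agent.S5031

/-- Let S be a set of abstract root subgroups of G and let A, B ∈ S lie in different connected components of the graph of rank one pairs on S, each component having more than one member. Then B is not a line partner of A. -/
theorem result {G : Type*} [Group G] {S : Set (Subgroup G)} (hS : Cfsg.IsRootSubgroupSet S)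
    {A B : Subgroup G} (hA : A ∈ S) (hB : B ∈ S)
    (hne : Cfsg.componentOf (Cfsg.FAdj S) S A ≠ Cfsg.componentOf (Cfsg.FAdj S) S B)
    (hA2 : ∃ A' ∈ Cfsg.componentOf (Cfsg.FAdj S) S A, A' ≠ A) (hB2 : ∃ B' ∈ Cfsg.componentOf (Cfsg.FAdj S) S B, B' ≠ B) :
    B ∉ Cfsg.linePartners S A := by
  intro hmem
  obtain ⟨A', ⟨hA'S, hA'⟩, hA'ne⟩ := hA2
  obtain ⟨B', ⟨hB'S, hB'⟩, hB'ne⟩ := hB2
  obtain ⟨P, hP, -⟩ := (Relation.ReflTransGen.cases_head hA').resolve_left (fun e => hA'ne e.symm)
  obtain ⟨R, hR, -⟩ := (Relation.ReflTransGen.cases_head hB').resolve_left (fun e => hB'ne e.symm)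
  exact hne (RootSub.component_eq_of_fReach
    (RootSub.fReach_of_linePartner hS hA hmem hP.2.1 hP.2.2 hR.2.1 hR.2.2))

end Cfsg.Agent.S5031
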