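import Cfsg.Statements.S5035
import Cfsg.Agent.Lib.RootSub.Graph
-- import your own Cfsg.Agent.* helpers here

set_option autoImplicit false
open Cfsg

namespace Cfsg.Agent.S5035

/-- Let S be a set of abstract root subgroups of G whose graph of rank one pairs is connected, and f a homomorphism from G onto a group H. Then either the images of the members of S form a set of abstract root subgroups of H whose graph of rank one pairs is again connected, or H equals the image of a member of S. -/
theorem result {G H : Type*} [Group G] [Group H] {S : Set (Subgroup G)} (hS : Cfsg.IsRootSubgroupSet S)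
    (hc : Cfsg.IsConnectedFamily (Cfsg.FAdj S) S) (f : G →* H) (hf : Function.Surjective f) :
    (Cfsg.IsRootSubgroupSet ((fun A : Subgroup G => A.map f) '' S) ∧
      Cfsg.IsConnectedFamily (Cfsg.FAdj ((fun A : Subgroup G => A.map f) '' S)) ((fun A : Subgroup G => A.map f) '' S)) ∨
    ∃ A ∈ S, A.map f = ⊤ := by
  by_cases hne : ∀ A ∈ S, A.map f ≠ ⊥
  · exact Or.inl ⟨RootSub.image_rootSet f hS hf hne, RootSub.image_connected f hc⟩
  · right
    push Not at hne
    obtain ⟨A, hA, hbot⟩ := hne
    refine ⟨A, hA, ?_⟩
    have h : (⊤ : Subgroup H) ≤ ⊥ := by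
      rw [← Subgroup.map_top_of_surjective f hf, ← hS.generates]
      simp only [Subgroup.map_iSup]
      refine iSup₂_le fun U hU => ?_
      obtain ⟨g, rfl⟩ := RootSub.conj_of_fReach (hc A hA U hU)
      rw [RootSub.map_conjBy, hbot, RootSub.conjBy_eq_bot_iff.2 rfl]
    rw [hbot]
    exact le_antisymm bot_le h

end Cfsg.Agent.S5035
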