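import Cfsg.Statements.S5037
import Cfsg.Agent.Lib.RootSub.Classes
-- import your own Cfsg.Agent.* helpers here

set_option autoImplicit false
open Cfsg

namespace Cfsg.Agent.S5037

/-- Let S be a class of abstract root subgroups of G that is either degenerate or non-degenerate (so either the commutator case never occurs, or all three cases occur), and A ≠ C members of S. If every member of S commuting with A commutes with C, then A and C have the same commuting members of S; and if every rank one partner of A is a rank one partner of C, then A and C commute and have the same rank one partners. -/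
theorem result {G : Type*} [Group G] {S : Set (Subgroup G)} (hS : Cfsg.IsRootSubgroupClass S)
    (hdn : Cfsg.IsDegenerateRootSet S ∨ Cfsg.IsNondegenerateRootSet S)
    {A C : Subgroup G} (hA : A ∈ S) (hC : C ∈ S) (hAC : A ≠ C) :
    (Cfsg.centralizingMembers S A ⊆ Cfsg.centralizingMembers S C →
      Cfsg.centralizingMembers S A = Cfsg.centralizingMembers S C) ∧
    (Cfsg.rankOnePartners S A ⊆ Cfsg.rankOnePartners S C →
      ⁅A, C⁆ = ⊥ ∧ Cfsg.rankOnePartners S A = Cfsg.rankOnePartners S C) := by
  by_cases hrk : ∃ A ∈ S, ∃ B ∈ S, Cfsg.IsRankOnePair A B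
  · exact ⟨RootSub.centralizingMembers_subset hS hrk hA hC, RootSub.rankOnePartners_subset hS hrk hA hC⟩
  · have hall : ∀ U ∈ S, ∀ V ∈ S, ⁅U, V⁆ = ⊥ := by
      intro U hU V hV
      rcases hS.1.pair U hU V hV with h | h | h
      · exact h
      · exact absurd ⟨U, hU, V, hV, h⟩ hrk
      · rcases hdn with hd | hn
        · exact absurd h (hd U hU V hV)
        · exact absurd hn.2.1 hrk
    refine ⟨fun _ => ?_, fun _ => ⟨hall A hA C hC, ?_⟩⟩
    · ext U
      simp only [RootSub.centralizingMembers_mem_iff]
      exact ⟨fun h => ⟨h.1, hall U h.1 C hC⟩, fun h => ⟨h.1, hall U h.1 A hA⟩⟩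
    · ext U
      exact ⟨fun h => absurd ⟨A, hA, U, h.1, h.2⟩ hrk, fun h => absurd ⟨C, hC, U, h.1, h.2⟩ hrk⟩

end Cfsg.Agent.S5037
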