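import Cfsg.Statements.S5039
import Cfsg.Agent.Lib.RootSub.BadPair
import Cfsg.Agent.Lib.RootSub.Classes
-- import your own Cfsg.Agent.* helpers here

set_option autoImplicit false
universe u
open Cfsg

namespace Cfsg.Agent.S5039


open scoped commutatorElement in
theorem bad_sl2_false {G : Type*} [Group G] {S : Set (Subgroup G)} {A Q R W A₀ B₀ : Subgroup G}
    (h : RootSub.Bad S A Q R W) {k : Type*} [Field k] (hk : 3 < ENat.card k)
    (hA₀ : A₀ ≤ A) (hB₀ : B₀ ≤ Q) (hp : Cfsg.IsPSL2PairOver k A₀ B₀) : False := by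
  obtain ⟨φ, hrange, hker, hup, -⟩ := hp
  have hS := h.root
  have hX : ∀ g, φ g ∈ A ⊔ Q := fun g =>
    sup_le_sup hA₀ hB₀ (hrange ▸ MonoidHom.mem_range.2 ⟨g, rfl⟩)
  obtain ⟨l, hl0, hl1⟩ : ∃ l : k, l ≠ 0 ∧ l * l ≠ 1 := by
    by_contra hc
    push Not at hc
    have hsub : (Set.univ : Set k) ⊆ {0, 1, -1} := fun x _ => by
      by_cases hx : x = 0
      · exact Or.inl hx
      · rcases mul_self_eq_one_iff.1 (hc x hx) with h' | h'
        · exact Or.inr (Or.inl h')
        · exact Or.inr (Or.inr h')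
    have h3 := Set.encard_le_encard hsub
    rw [Set.encard_univ] at h3
    have h4 : ({0, 1, -1} : Set k).encard ≤ 3 := by
      refine (Set.encard_insert_le _ _).trans ?_
      calc ({1, -1} : Set k).encard + 1 ≤ ({-1} : Set k).encard + 1 + 1 := by
            gcongr; exact Set.encard_insert_le _ _
        _ = 3 := by rw [Set.encard_singleton]; norm_num
    exact absurd (lt_of_lt_of_le hk (h3.trans h4)) (lt_irrefl _)
  let U : k → Matrix.SpecialLinearGroup (Fin 2) k := fun t => ⟨!![1, t; 0, 1], by simp⟩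
  let D : Matrix.SpecialLinearGroup (Fin 2) k := ⟨!![l, 0; 0, l⁻¹], by simp [hl0]⟩
  have hUup : ∀ t, U t ∈ Cfsg.upperUnipotentSL2 k := fun t =>
    Subgroup.subset_closure ⟨by simp [U], by simp [U], by simp [U]⟩
  have hUc : ∀ t, ((U t : Matrix.SpecialLinearGroup (Fin 2) k) : Matrix (Fin 2) (Fin 2) k) = !![1, t; 0, 1] :=
    fun _ => rfl
  have hDc : (D : Matrix (Fin 2) (Fin 2) k) = !![l, 0; 0, l⁻¹] := rfl
  have hcomm : D * U (1 / (l * l - 1)) = U 1 * U (1 / (l * l - 1)) * D := by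
    have : l * l - 1 ≠ 0 := sub_ne_zero.2 hl1
    apply Subtype.ext
    rw [Matrix.SpecialLinearGroup.coe_mul, Matrix.SpecialLinearGroup.coe_mul,
      Matrix.SpecialLinearGroup.coe_mul, hUc, hUc, hDc]
    ext i j
    fin_cases i <;> fin_cases j <;> simp <;> field_simp <;> grind
  have hD : U 1 = ⁅D, U (1 / (l * l - 1))⁆ := by
    rw [commutatorElement_def, eq_mul_inv_iff_mul_eq, eq_mul_inv_iff_mul_eq]
    exact hcomm.symm
  set x := φ D with hxdef
  set y := φ (U (1 / (l * l - 1))) with hydef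
  obtain ⟨α, hα, h1⟩ := RootSub.bad_exists_actEq h (hX D)
  obtain ⟨β, hβ, h2⟩ := RootSub.bad_exists_actEq h (hX (U (1 / (l * l - 1))))
  have hu : φ (U 1) = x * y * x⁻¹ * y⁻¹ := by
    rw [hD, map_commutatorElement, commutatorElement_def]
  have hact : RootSub.ActEq S A Q R (φ (U 1)) (α * β * α⁻¹ * β⁻¹) := by
    rw [hu]
    exact RootSub.actEq_mul hS (inv_mem (hX _)) (RootSub.actEq_mul hS (inv_mem (hX _))
      (RootSub.actEq_mul hS (hX _) h1 h2) (RootSub.actEq_inv hS (hX _) h1)) (RootSub.actEq_inv hS (hX _) h2)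
  rw [RootSub.mul_comm_of_mem (hS.commutative A h.memA) hα hβ, mul_inv_cancel_right, mul_inv_cancel] at hact
  have hone : φ (U 1) = 1 := RootSub.bad_cl_inj h (one_mem _) (RootSub.left_mem_unipotentSubgroups A Q)
    (hA₀ (hup ▸ Subgroup.mem_map_of_mem φ (hUup 1))) (one_mem A) (hact 1 (one_mem _))
  have hc := Subgroup.mem_center_iff.1 (hker (MonoidHom.mem_ker.2 hone)) D
  have := congrArg (fun g : Matrix.SpecialLinearGroup (Fin 2) k => (g : Matrix (Fin 2) (Fin 2) k) 0 1) hc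
  simp only [Matrix.SpecialLinearGroup.coe_mul, hUc, hDc] at this
  simp at this
  exact hl1 (by nth_rewrite 2 [this]; exact mul_inv_cancel₀ hl0)

/-- Let S be a class of abstract root subgroups of G containing two different commuting members. Suppose that, in case S is degenerate and every element of every member of S has order at most 3, the following holds: for every A ∈ S and every rank one partner B of A there are subgroups A₀ ≤ A and B₀ ≤ B generating an image of SL₂(k) with central kernel, k a field with at least four elements, A₀ and B₀ being the images of the unitriangular subgroups. Then every rank one pair A, B in S is special. -/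
theorem result {G : Type u} [Group G] {S : Set (Subgroup G)} (hS : Cfsg.IsRootSubgroupClass S)
    (hcomm : ∃ A ∈ S, ∃ C ∈ S, A ≠ C ∧ ⁅A, C⁆ = ⊥)
    (hH : Cfsg.IsDegenerateRootSet S → (∀ A ∈ S, ∀ a ∈ A, 0 < orderOf a ∧ orderOf a ≤ 3) →
      ∀ A ∈ S, ∀ B ∈ Cfsg.rankOnePartners S A, ∃ A₀ B₀ : Subgroup G, A₀ ≤ A ∧ B₀ ≤ B ∧
        ∃ (k : Type u) (_ : Field k), 3 < ENat.card k ∧ Cfsg.IsPSL2PairOver k A₀ B₀)
    {A B : Subgroup G} (hA : A ∈ S) (hB : B ∈ Cfsg.rankOnePartners S A) : Cfsg.IsSpecialRankOnePair A B := by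
  obtain ⟨hBS, hr⟩ := hB
  have hrk : ∃ A ∈ S, ∃ B ∈ S, Cfsg.IsRankOnePair A B := ⟨A, hA, B, hBS, hr⟩
  by_cases hnd : ∃ X ∈ S, ∃ Y ∈ S, Cfsg.RootCommutatorCase S X Y
  · exact RootSub.nondeg_special hS ⟨hcomm, hrk, hnd⟩ hA hBS hr
  have hdeg : Cfsg.IsDegenerateRootSet S := fun X hX Y hY h => hnd ⟨X, hX, Y, hY, h⟩
  by_cases h1 : ∃ C ∈ Cfsg.commutingPartners S A, Cfsg.IsRankOnePair C B
  · obtain ⟨C, hC, hCB⟩ := h1
    exact RootSub.special_of_commuting hS.1 hA hC.1 hBS hC.2.2 hC.2.1 hr hCB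
  by_cases h2 : ∃ C ∈ Cfsg.commutingPartners S B, Cfsg.IsRankOnePair C A
  · obtain ⟨C, hC, hCA⟩ := h2
    exact RootSub.special_symm
      (RootSub.special_of_commuting hS.1 hBS hC.1 hA hC.2.2 hC.2.1 (RootSub.rankOne_symm hr) hCA)
  exfalso
  have sub : ∀ U V, U ∈ S → V ∈ S → Cfsg.IsRankOnePair U V →
      (¬ ∃ C ∈ Cfsg.commutingPartners S U, Cfsg.IsRankOnePair C V) →
      Cfsg.commutingPartners S U ⊆ Cfsg.commutingPartners S V := by
    intro U V hU hV hUV hno C hC
    refine ⟨hC.1, fun e => RootSub.rankOne_not_commute hUV (e ▸ hC.2.2), ?_⟩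
    rcases hS.1.pair C hC.1 V hV with h | h | h
    · rw [Subgroup.commutator_comm]; exact h
    · exact absurd ⟨C, hC, h⟩ hno
    · exact absurd h (hdeg C hC.1 V hV)
  have hsame : RootSub.Cl S A B :=
    (sub A B hA hBS hr h1).antisymm (sub B A hBS hA (RootSub.rankOne_symm hr) h2)
  -- a commuting partner W and a common partner R
  obtain ⟨A₁, hA₁, C₁, hC₁, hne₁, hc₁⟩ := hcomm
  obtain ⟨g, hg⟩ := hS.2.2 A₁ hA₁ A hA
  have hW₀ : Cfsg.conjBy C₁ g ∈ Cfsg.commutingPartners S A := by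
    refine ⟨hS.1.conj_mem C₁ hC₁ g, fun e => hne₁ (RootSub.conjBy_inj.1 (e.trans hg)).symm, ?_⟩
    rw [hg, ← RootSub.conjBy_commutator, hc₁, RootSub.conjBy_eq_bot_iff]
  obtain ⟨W, hW, R, hR, hWR, hAR⟩ : ∃ W ∈ Cfsg.commutingPartners S A, ∃ R ∈ S,
      Cfsg.IsRankOnePair W R ∧ Cfsg.IsRankOnePair A R := by
    have hpath := RootSub.connected_of_class hS hA hBS hr _ hW₀.1 A hA
    have key : ∀ X, Relation.ReflTransGen (Cfsg.FAdj S) (Cfsg.conjBy C₁ g) X →
        X ∈ Cfsg.commutingPartners S A ∨ ∃ W ∈ Cfsg.commutingPartners S A, ∃ R ∈ S,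
          Cfsg.IsRankOnePair W R ∧ Cfsg.IsRankOnePair A R := by
      intro X hX
      induction hX with
      | refl => exact Or.inl hW₀
      | tail _ hstep ih =>
        rename_i X Y _
        rcases ih with hX | hfound
        · rcases hS.1.pair A hA Y hstep.2.1 with h | h | h
          · refine Or.inl ⟨hstep.2.1, fun e => ?_, h⟩
            have := RootSub.rankOne_not_commute hstep.2.2
            rw [e, Subgroup.commutator_comm] at this
            exact this hX.2.2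
          · exact Or.inr ⟨X, hX, Y, hstep.2.1, hstep.2.2, h⟩
          · exact absurd h (hdeg A hA Y hstep.2.1)
        · exact Or.inr hfound
    exact (key A hpath).resolve_left fun h => h.2.1 rfl
  have hbad : RootSub.Bad S A B R W := ⟨hS.1, hdeg, hA, hBS, hR, hr, hsame, hW, hAR, hWR⟩
  have hord : ∀ U ∈ S, ∀ u ∈ U, 0 < orderOf u ∧ orderOf u ≤ 3 := by
    intro U hU u hu
    obtain ⟨x, rfl⟩ := hS.2.2 A hA U hU
    rw [RootSub.mem_conjBy] at hu
    have e : u = (MulAut.conj x) (x⁻¹ * u * x) := by rw [MulAut.conj_apply]; group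
    rw [e, MulEquiv.orderOf_eq]
    rcases RootSub.bad_order hbad hu with h | h
    · have h' : (x⁻¹ * u * x) ^ 2 = 1 := by rw [pow_two]; exact h
      exact ⟨IsOfFinOrder.orderOf_pos (isOfFinOrder_iff_pow_eq_one.2 ⟨2, by norm_num, h'⟩),
        (orderOf_le_of_pow_eq_one (by norm_num) h').trans (by norm_num)⟩
    · have h' : (x⁻¹ * u * x) ^ 3 = 1 := by rw [pow_succ, pow_two]; exact h
      exact ⟨IsOfFinOrder.orderOf_pos (isOfFinOrder_iff_pow_eq_one.2 ⟨3, by norm_num, h'⟩),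
        orderOf_le_of_pow_eq_one (by norm_num) h'⟩
  obtain ⟨A₀, B₀, hA₀, hB₀, k, hfield, hk, hp⟩ := hH hdeg hord A hA B ⟨hBS, hr⟩
  exact bad_sl2_false hbad hk hA₀ hB₀ hp

end Cfsg.Agent.S5039
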