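import Cfsg.Statements.S5040
import Cfsg.Agent.Lib.RootSub.Classes
-- import your own Cfsg.Agent.* helpers here

set_option autoImplicit false
open Cfsg

namespace Cfsg.Agent.S5040

/-- Let S be a non-degenerate class of abstract root subgroups of G and Δ a weak TI-subset of S. Then the members of Δ commute with one another elementwise. -/
theorem result {G : Type*} [Group G] {S : Set (Subgroup G)} (hS : Cfsg.IsRootSubgroupClass S) (hnd : Cfsg.IsNondegenerateRootSet S)
    {Δ : Set (Subgroup G)} (hΔ : Cfsg.IsWeakTISubset S Δ) : Cfsg.IsAbelianFamily Δ := by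
  obtain ⟨hsub, ⟨A₀, hA₀, B₀, hB₀, hne⟩, hneS, hTI⟩ := hΔ
  have hpart := RootSub.class_partner hS hnd.2.1
  have hstab : ∀ (d : G) (U : Subgroup G), d ∈ Cfsg.rootElements S → U ∈ Δ → Cfsg.conjBy U d ∈ Δ →
      (fun X => Cfsg.conjBy X d) '' Δ = Δ := by
    intro d U hd hU hUd
    refine (hTI d hd).resolve_right fun hdis => ?_
    exact Set.disjoint_left.1 hdis ⟨U, hU, rfl⟩ hUd
  let K : Subgroup G :=
    { carrier := {g | (fun X => Cfsg.conjBy X g) '' Δ = Δ}
      one_mem' := by simp [RootSub.conjBy_one]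
      mul_mem' := fun {x y} hx hy => by
        show (fun X => Cfsg.conjBy X (x * y)) '' Δ = Δ
        simp only [← RootSub.conjBy_conjBy]
        rw [← Set.image_image (fun X => Cfsg.conjBy X x) (fun X => Cfsg.conjBy X y)]
        exact (congrArg _ hy).trans hx
      inv_mem' := fun {x} hx => by
        show (fun X => Cfsg.conjBy X x⁻¹) '' Δ = Δ
        conv_lhs => rw [← (hx : (fun X => Cfsg.conjBy X x) '' Δ = Δ), Set.image_image]
        simp [RootSub.conjBy_conjBy, RootSub.conjBy_one] }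
  -- members commuting with a member of Δ stabilize Δ
  have hK : ∀ U ∈ Δ, ∀ D ∈ S, ⁅D, U⁆ = ⊥ → D ≤ K := by
    intro U hU D hD hc d hd
    by_cases hd1 : d = 1
    · rw [hd1]; exact one_mem K
    refine hstab d U ⟨hd1, D, hD, hd⟩ hU ?_
    rw [RootSub.conjBy_eq_self_iff.2 (RootSub.mem_normalizer_of_forall_commute
      (RootSub.commutator_eq_bot_iff_commute.1 hc d hd))]
    exact hU
  have hnorank : ∀ U ∈ Δ, ∀ V ∈ Δ, ¬ Cfsg.IsRankOnePair U V := by
    intro U hU V hV hr
    have hVV : ⁅V, V⁆ = ⊥ := RootSub.commutator_eq_bot_iff_commute.2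
      fun _ ha _ hb => RootSub.mul_comm_of_mem (hS.1.commutative V (hsub hV)) ha hb
    have hKtop := RootSub.generated_by_line_partners hS hnd (hsub hU) (hsub hV) hr K
      (hK V hV V (hsub hV) hVV)
      (fun W hW => hK U hU W hW.1.1 (by rw [Subgroup.commutator_comm]; exact hW.1.2.2))
    refine hneS (Set.Subset.antisymm hsub fun W hW => ?_)
    obtain ⟨g, rfl⟩ := hS.2.2 U (hsub hU) W hW
    have hg : (fun X => Cfsg.conjBy X g) '' Δ = Δ := (hKtop ▸ Subgroup.mem_top g : g ∈ K)
    exact hg ▸ ⟨U, hU, rfl⟩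
  intro U hU V hV
  rcases hS.1.pair U (hsub hU) V (hsub hV) with h | h | h
  · exact RootSub.commutator_eq_bot_iff_commute.1 h
  · exact absurd h (hnorank U hU V hV)
  exfalso
  obtain ⟨P, hP, hr⟩ := hpart U (hsub hU)
  have L : RootSub.Line S U ⁅U, V⁆ := ⟨hS.1, hsub hU, h.1, RootSub.commCase_ne hS.1 (hsub hU) h,
    RootSub.commCase_commute_eq_bot h, RootSub.partition_commutator hS.1 (hsub hU) hP hr h⟩
  obtain ⟨R, hR, hcase, e⟩ := RootSub.line_exists_back L (fun E hE => hpart E hE.1)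
  have T : RootSub.Triangle S ⁅U, V⁆ R V :=
    ⟨hS.1, h.1, hR, hsub hV, by rw [e]; exact hsub hU, by rw [e, Subgroup.commutator_comm]⟩
  have hrRV := RootSub.triangle_rankOne T
  have hRK : R ≤ K := by
    refine hK U hU R hR ?_
    rw [Subgroup.commutator_comm, RootSub.commutator_eq_bot_iff_commute]
    exact fun u hu r hr' => RootSub.commCase_commute_right hcase u (e.symm ▸ hu) r hr'
  obtain ⟨r, hr', hr1⟩ := RootSub.rankOne_exists_ne_one hrRV
  have hVr : Cfsg.conjBy V r ∈ Δ :=
    (hRK hr' : (fun X => Cfsg.conjBy X r) '' Δ = Δ) ▸ ⟨V, hV, rfl⟩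
  refine hnorank V hV _ hVr (RootSub.rankOne_of_unipotentSubgroups hrRV
    (RootSub.right_mem_unipotentSubgroups hrRV)
    (RootSub.unipotentSubgroups_conj (Subgroup.mem_sup_left hr') (RootSub.right_mem_unipotentSubgroups hrRV))
    fun e' => hr1 (RootSub.rankOne_eq_one_of_normalizes hrRV hr' e'.symm)).1

end Cfsg.Agent.S5040
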