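import Cfsg.Statements.S5045
import Cfsg.Agent.Lib.RootInv.Basic
import Cfsg.Agent.Lib.Involution.BaerSuzuki

set_option autoImplicit false
open Cfsg

namespace Cfsg.Agent.S5045

open Cfsg.Agent.RootInv
open scoped commutatorElement

/-- Statement S5045: isolated vertices and components of the odd-product graph. -/
theorem result {G : Type*} [Group G] [Finite G] {D : Set G} (hD : Cfsg.IsRootInvolutionSet D) :
    (∀ w ∈ {w | Cfsg.IsIsolatedElem (Cfsg.OddAdj D) D w}, ∀ g : G, g * w * g⁻¹ ∈ {w | Cfsg.IsIsolatedElem (Cfsg.OddAdj D) D w}) ∧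
    (Subgroup.closure {w | Cfsg.IsIsolatedElem (Cfsg.OddAdj D) D w}).Normal ∧
    IsPGroup 2 ↥(Subgroup.closure {w | Cfsg.IsIsolatedElem (Cfsg.OddAdj D) D w}) ∧
    (Subgroup.closure {w | Cfsg.IsIsolatedElem (Cfsg.OddAdj D) D w} : Set G) ∩ D = {w | Cfsg.IsIsolatedElem (Cfsg.OddAdj D) D w} ∧
    (∀ a ∈ D, ∀ b ∈ D, (∃ a' ∈ Cfsg.elemComponentOf (Cfsg.OddAdj D) D a, a' ≠ a) →
      (∃ b' ∈ Cfsg.elemComponentOf (Cfsg.OddAdj D) D b, b' ≠ b) →
      Cfsg.elemComponentOf (Cfsg.OddAdj D) D a ≠ Cfsg.elemComponentOf (Cfsg.OddAdj D) D b →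
        a * b * a⁻¹ * b⁻¹ ∈ Subgroup.closure {w | Cfsg.IsIsolatedElem (Cfsg.OddAdj D) D w}) ∧
    (∀ a ∈ D, (∃ a' ∈ Cfsg.elemComponentOf (Cfsg.OddAdj D) D a, a' ≠ a) →
      Cfsg.productPartners D a ⊆ Cfsg.elemComponentOf (Cfsg.OddAdj D) D a ∪ {w | Cfsg.IsIsolatedElem (Cfsg.OddAdj D) D w}) := by
  set W := {w | Cfsg.IsIsolatedElem (Cfsg.OddAdj D) D w} with hW
  have h1 : ∀ w ∈ W, ∀ g : G, g * w * g⁻¹ ∈ W := by
    intro w hw g
    refine ⟨hD.conj_mem w hw.1 g, fun b => ?_⟩
    have key : ¬Cfsg.OddAdj D (g * w * g⁻¹) b := fun h => by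
      have := adj_conj hD g⁻¹ h
      exact (hw.2 _).1 (by simpa [mul_assoc] using this)
    exact ⟨key, fun h => key (adj_symm hD h)⟩
  have hnorm : (Subgroup.closure W).Normal := by
    refine ⟨fun n hn g => ?_⟩
    induction hn using Subgroup.closure_induction with
    | mem x hx => exact Subgroup.subset_closure (h1 x hx g)
    | one => simp
    | mul x y _ _ hx hy => rw [← conj_mul]; exact mul_mem hx hy
    | inv x _ hx => rw [← conj_inv]; exact inv_mem hx
  have h2 : IsPGroup 2 (Subgroup.closure W) := by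
    refine Involution.baer_suzuki_set W (fun g c hc => h1 c hc g) fun u hu v hv => ?_
    exact Involution.isPGroup_closure_pair (a := 2) (sq hD hu.1) (sq hD hv.1)
      (pow_four_of_not_adj hD hu.1 hv.1 (hu.2 v).1)
  have h3 : (Subgroup.closure W : Set G) ∩ D = W := by
    refine Set.Subset.antisymm (fun e he => ⟨he.2, fun b => ?_⟩)
      fun w hw => ⟨Subgroup.subset_closure hw, hw.1⟩
    have key : ¬Cfsg.OddAdj D e b := by
      intro hk
      have hmem : (e * b) ^ 2 ∈ Subgroup.closure W := by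
        have := mul_mem he.1 (hnorm.conj_mem e he.1 b)
        rwa [inv_eq hD hk.2.1, show e * (b * e * b) = (e * b) ^ 2 by
          rw [pow_two]; simp only [mul_assoc]] at this
      obtain ⟨k, hk'⟩ := h2 ⟨_, hmem⟩
      have h4 : ((e * b) ^ 2) ^ 2 ^ k = 1 := congrArg Subtype.val hk'
      rw [← pow_mul, ← pow_succ'] at h4
      have h5 := eq_one_of_odd hk.2.2.2 h4
      rw [mul_eq_one_iff_eq_inv, inv_eq hD hk.2.1] at h5
      exact hk.2.2.1 h5
    exact ⟨key, fun h => key (adj_symm hD h)⟩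
  have hcomp : ∀ {a b : G}, a ∈ D → Relation.ReflTransGen (Cfsg.OddAdj D) a b →
      elemComponentOf (Cfsg.OddAdj D) D a = elemComponentOf (Cfsg.OddAdj D) D b := by
    intro a b _ hab
    have hba : Relation.ReflTransGen (Cfsg.OddAdj D) b a := by
      induction hab with
      | refl => exact Relation.ReflTransGen.refl
      | tail _ hs ih => exact Relation.ReflTransGen.head (adj_symm hD hs) ih
    ext v
    exact and_congr_right fun _ => ⟨hba.trans, hab.trans⟩
  have hnbr : ∀ {a : G}, a ∈ D → (∃ a' ∈ elemComponentOf (Cfsg.OddAdj D) D a, a' ≠ a) →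
      ∃ k, Cfsg.OddAdj D a k := by
    rintro a - ⟨a', ⟨-, h⟩, hne⟩
    rcases Relation.ReflTransGen.cases_head h with e | ⟨k, hk, -⟩
    · exact absurd e.symm hne
    · exact ⟨k, hk⟩
  -- the product partners
  have h6 : ∀ a ∈ D, (∃ a' ∈ Cfsg.elemComponentOf (Cfsg.OddAdj D) D a, a' ≠ a) →
      Cfsg.productPartners D a ⊆ Cfsg.elemComponentOf (Cfsg.OddAdj D) D a ∪ W := by
    intro a ha hne e he
    obtain ⟨⟨heD, hea, hne'⟩, hprod⟩ := he
    by_contra hnot
    rw [Set.mem_union, not_or] at hnot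
    obtain ⟨hK, hW'⟩ := hnot
    obtain ⟨k, hk⟩ := hnbr ha hne
    obtain ⟨l, hl⟩ : ∃ l, Cfsg.OddAdj D e l := by
      by_contra hno
      push Not at hno
      exact hW' ⟨heD, fun b => ⟨hno b, fun h => hno b (adj_symm hD h)⟩⟩
    have hpp : PP D a e := ⟨ha, heD, hne', Commute.symm hea,
      (show a * e = e * a from (Commute.symm hea).eq) ▸ hprod⟩
    apply hK
    refine ⟨heD, ?_⟩
    rcases adj_or_adj hD hpp hk with h | h
    · exact (Relation.ReflTransGen.single hk).tail (adj_symm hD h)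
    · have haf : Relation.ReflTransGen (Cfsg.OddAdj D) a (a * e) :=
        (Relation.ReflTransGen.single hk).tail (adj_symm hD h)
      rcases adj_or_adj hD hpp.symm hl with h' | h'
      · exact (Relation.ReflTransGen.single h').tail (adj_symm hD hl)
      · rw [← hpp.2.2.2.1.eq] at h'
        exact (haf.tail h').tail (adj_symm hD hl)
  refine ⟨h1, hnorm, h2, h3, fun a ha b hb hna hnb hne => ?_, h6⟩
  rcases cases3 hD ha hb with h | h | h
  · rw [h.eq]
    simp
  · exact absurd (hcomp ha (Relation.ReflTransGen.single h)) hne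
  · obtain ⟨hz, haz, hbz, hconj, hconj', -⟩ := four_facts hD ha hb h
    have e : a * b * a⁻¹ * b⁻¹ = (a * b) ^ 2 := by
      rw [inv_eq hD ha, inv_eq hD hb, pow_two]; simp only [mul_assoc]
    rw [e]
    refine Subgroup.subset_closure ?_
    have pb := pp_of_four hD ha hb h
    have pa : PP D a ((a * b) ^ 2) := by
      refine ⟨ha, hz, fun e => not_commute_of_four hD ha hb h ?_, haz, hconj' ▸ conj_mem hD hb ha⟩
      rw [e] at hbz
      exact hbz.symm
    have ha' := h6 a ha hna ⟨⟨hz, haz.symm.eq, pa.2.2.1⟩, haz.eq ▸ pa.2.2.2.2⟩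
    have hb' := h6 b hb hnb ⟨⟨hz, hbz.symm.eq, pb.2.2.1⟩, hbz.eq ▸ pb.2.2.2.2⟩
    rcases ha' with ha' | ha'
    · rcases hb' with hb' | hb'
      · exact absurd ((hcomp ha ha'.2).trans (hcomp hb hb'.2).symm) hne
      · exact hb'
    · exact ha'

end Cfsg.Agent.S5045
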