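import Cfsg.Statements.S5046
import Cfsg.Agent.Lib.RootInv.Classes

set_option autoImplicit false
open Cfsg

namespace Cfsg.Agent.S5046

open Cfsg.Agent.RootInv

/-- Statement S5046: the class of members with the same commuting members. -/
theorem result {G : Type*} [Group G] [Finite G] {D : Set G} (hD : Cfsg.IsRootInvolutionSet D)
    (hc : Cfsg.IsConnectedSet (Cfsg.OddAdj D) D) {d : G} (hd : d ∈ D) :
    Cfsg.sameCommutingClass D d =
      {e | e ∈ D ∧ Cfsg.commutingMembers D d ∪ Cfsg.fourPartners D d = Cfsg.commutingMembers D e ∪ Cfsg.fourPartners D e} := by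
  have compl : ∀ u ∈ D, ∀ w ∈ D,
      (w ∈ oddPartners D u ↔ w ∉ commutingMembers D u ∪ fourPartners D u) := by
    intro u hu w hw
    rw [mem_odd hu]
    constructor
    · rintro h (⟨-, hc'⟩ | ⟨-, h4⟩)
      · exact not_commute_of_adj hD h (Commute.symm hc')
      · exact not_adj_of_four hD h4 h
    · intro h
      rcases cases3 hD hu hw with k | k | k
      · exact absurd (Or.inl ⟨hw, k.symm⟩) h
      · exact k
      · exact absurd (Or.inr ⟨hw, k⟩) h
  ext e
  refine and_congr_right fun he => ⟨fun h => ?_, fun h => ?_⟩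
  · have hA := oddPartners_eq hD hd he h
    ext w
    have hsub : ∀ u : G, ∀ x ∈ commutingMembers D u ∪ fourPartners D u, x ∈ D :=
      fun u x hx => hx.elim (fun k => k.1) fun k => k.1
    constructor <;> intro hw
    · by_contra hn
      exact ((compl d hd w (hsub d w hw)).1 (hA ▸ (compl e he w (hsub d w hw)).2 hn)) hw
    · by_contra hn
      exact ((compl e he w (hsub e w hw)).1 (hA ▸ (compl d hd w (hsub e w hw)).2 hn)) hw
  · have hA : oddPartners D d = oddPartners D e := by
      ext w
      constructor <;> intro hw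
      · exact (compl e he w hw.1).2 (h ▸ (compl d hd w hw.1).1 hw)
      · exact (compl d hd w hw.1).2 (h ▸ (compl e he w hw.1).1 hw)
    exact commutingMembers_eq hD hc hd he hA

end Cfsg.Agent.S5046
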