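import Cfsg.Statements.S5047
import Cfsg.Agent.Lib.RootInv.Classes

set_option autoImplicit false
open Cfsg

namespace Cfsg.Agent.S5047

open Cfsg.Agent.RootInv

/-- The step: a member of order four with square `b`. -/
theorem step {G : Type*} [Group G] [Finite G] {D : Set G} (hD : IsRootInvolutionSet D)
    (hc : IsConnectedSet (OddAdj D) D) {a b : G} (hb : PP D a b)
    (hne : commutingMembers D a ≠ commutingMembers D b) :
    ∃ z ∈ D, orderOf (a * z) = 4 ∧ (a * z) ^ 2 = b ∧ Commute b z := by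
  have hA : ¬oddPartners D a ⊆ oddPartners D b := fun h =>
    hne (commutingMembers_eq hD hc hb.1 hb.2.1 (oddPartners_eq_of_subset hD hc hb.1 hb.2.1 h))
  obtain ⟨k, hk, hkb⟩ := Set.not_subset.1 hA
  have hk' := (mem_odd hb.1).1 hk
  refine exists_four_sq hD hb hk' ?_
  rw [orderOf_mul_comm]
  exact ((cases3 hD hb.2.1 hk'.2.1).resolve_left (not_commute_of_pp hD hb hk')).resolve_left
    fun h => hkb ((mem_odd hb.2.1).2 h)

/-- Statement S5047: a partner of order four whose product with `a` has order three. -/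
theorem result {G : Type*} [Group G] [Finite G] {D : Set G} (hD : Cfsg.IsRootInvolutionSet D)
    (hc : Cfsg.IsConnectedSet (Cfsg.OddAdj D) D) {a b : G} (ha : a ∈ D) (hb : b ∈ Cfsg.productPartners D a)
    (hbE : b ∉ Cfsg.sameCommutingClass D a) : ∃ x ∈ Cfsg.fourPartners D b, orderOf (a * x) = 3 := by
  obtain ⟨⟨hbD, hba, hbne⟩, hprod⟩ := hb
  have hab : Commute a b := Commute.symm hba
  have hpp : PP D a b := ⟨ha, hbD, hbne, hab, hab.eq ▸ hprod⟩
  obtain ⟨z, hz, h4, hsq, hbz⟩ := step hD hc hpp fun h => hbE ⟨hbD, h⟩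
  obtain ⟨-, -, -, hA1, hA2, -⟩ := four_facts hD ha hz h4
  rw [hsq] at hA1 hA2
  have hpz : PP D b z := by
    refine ⟨hbD, hz, fun e => not_commute_of_four hD ha hz h4 (e.symm ▸ hab), hbz, ?_⟩
    rw [hbz.eq, ← hA1]
    exact conj_mem hD ha hz
  obtain ⟨x, hx, h4x, hsqx, hzx⟩ := step hD hc hpz fun h => by
    have : a ∈ commutingMembers D z := h ▸ (⟨ha, hab.eq⟩ : a ∈ commutingMembers D b)
    exact not_commute_of_four hD ha hz h4 this.2
  obtain ⟨-, -, -, hB1, hB2, -⟩ := four_facts hD hbD hx h4x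
  rw [hsqx] at hB1 hB2
  refine ⟨x, ⟨hx, h4x⟩, ?_⟩
  set g := a * x with hg
  have hgi : g⁻¹ = x * a := by rw [hg, mul_inv_rev, inv_eq hD ha, inv_eq hD hx]
  have haba : a * b * a = b := conj_of_commute hD ha hab
  have g1 : g * b * g⁻¹ = z := by
    rw [hg, mul_inv_rev, inv_eq hD ha, inv_eq hD hx,
      show a * x * b * (x * a) = a * (x * b * x) * a by simp only [mul_assoc], hB2,
      show a * (b * z) * a = (a * b * a) * (a * z * a) by simp only [mul_assoc, cancel hD ha],
      haba, hA1, hbz.symm.eq, cancel hD hbD]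
  have g2 : g * z * g⁻¹ = z * b := by
    rw [hg, mul_inv_rev, inv_eq hD ha, inv_eq hD hx,
      show a * x * z * (x * a) = a * (x * z * x) * a by simp only [mul_assoc],
      conj_of_commute hD hx hzx.symm, hA1]
  have g3 : g * (z * b) * g⁻¹ = b := by
    rw [← conj_mul, g2, g1, hbz.symm.eq, mul_assoc, sq hD hz, mul_one]
  rcases cases3 hD ha hx with h | h | h
  · exfalso
    have h2 : g ^ 2 = 1 := mul_pow_two_of_commute hD ha hx h
    have e : g ^ 2 * b * (g ^ 2)⁻¹ = g * (g * b * g⁻¹) * g⁻¹ := by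
      simp only [pow_succ, pow_zero, one_mul, mul_inv_rev, mul_assoc]
    rw [g1, g2, h2, one_mul, inv_one, mul_one] at e
    exact ne_one hD hz (mul_eq_right.1 e.symm)
  · have e : g ^ 3 * b * (g ^ 3)⁻¹ = g * (g * (g * b * g⁻¹) * g⁻¹) * g⁻¹ := by
      simp only [pow_succ, pow_zero, one_mul, mul_inv_rev, mul_assoc]
    rw [g1, g2, g3] at e
    have hcb : Commute (g ^ 3) b := mul_inv_eq_iff_eq_mul.1 e
    have hg3 : g ^ 3 = 1 := by
      by_contra hne
      obtain ⟨i, hi⟩ := h.2.2.2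
      have hgm : g ^ (2 * i + 1) = 1 := hi ▸ pow_orderOf_eq_one g
      set j := 3 * (i + 1) with hj
      have hjj : g ^ j * g ^ j = g ^ 3 := by
        rw [← pow_add, show j + j = 3 * (2 * i + 1) + 3 by omega, pow_add, mul_comm 3,
          pow_mul, hgm, one_pow, one_mul]
      have hinv : a * g ^ j * a = (g ^ j)⁻¹ := by
        have := conj_pow (i := j) (a := a) (b := g)
        rw [inv_eq hD ha] at this
        rw [← this, ← inv_pow]
        congr 1
        rw [hgi, hg]; simp only [← mul_assoc, sq hD ha, one_mul]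
      have hk : g ^ 3 * a = g ^ j * a * (g ^ j)⁻¹ := by
        rw [← hinv, ← hjj]; simp only [mul_assoc, cancel hD ha]
      have hkD : g ^ 3 * a ∈ D := hk ▸ hD.conj_mem a ha _
      have hadj : OddAdj D (g ^ 3 * a) a := by
        refine ⟨hkD, ha, fun e => hne (mul_eq_right.1 e), ?_⟩
        rw [mul_assoc, sq hD ha, mul_one]
        exact Odd.of_dvd_nat h.2.2.2 (orderOf_pow_dvd 3)
      exact not_commute_of_pp hD hpp (adj_symm hD hadj) (hcb.symm.mul_right hba)
    have : Fact (Nat.Prime 3) := ⟨Nat.prime_three⟩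
    refine orderOf_eq_prime hg3 fun e => h.2.2.1 ?_
    rwa [hg, mul_eq_one_iff_eq_inv, inv_eq hD hx] at e
  · exfalso
    have h4g : g ^ 4 = 1 := by rw [← h]; exact pow_orderOf_eq_one g
    have e : g ^ 4 * b * (g ^ 4)⁻¹ = g * (g * (g * (g * b * g⁻¹) * g⁻¹) * g⁻¹) * g⁻¹ := by
      simp only [pow_succ, pow_zero, one_mul, mul_inv_rev, mul_assoc]
    rw [g1, g2, g3, g1, h4g, inv_one, one_mul, mul_one] at e
    exact hpz.2.2.1 e.symm

end Cfsg.Agent.S5047
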