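import Cfsg.Statements.S5048
import Cfsg.Agent.Lib.RootInv.Radical

set_option autoImplicit false
open Cfsg

namespace Cfsg.Agent.S5048

open Cfsg.Agent.RootInv

/-- Statement S5048: the solvable radical and simplicity of the quotient. -/
theorem result {G : Type*} [Group G] [Finite G] {D : Set G} (hD : Cfsg.IsRootInvolutionSet D)
    (hc : Cfsg.IsConnectedSet (Cfsg.OddAdj D) D) (hDD : (D ∩ Cfsg.commutingProducts D).Nonempty) :
    Cfsg.solvableRadical G = Cfsg.twoZCore G ∧ IsSimpleGroup (G ⧸ Cfsg.twoZCore G) := by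
  obtain ⟨a, k, hak⟩ : ∃ a k, Cfsg.OddAdj D a k := by
    obtain ⟨x, -, p, hp, q, hq, -, hne, -⟩ := hDD
    have hpq : q ≠ p := fun e => hne (by rw [e]; exact sq hD hp)
    obtain ⟨w, hw⟩ := exists_adj hD hc hp hq hpq
    exact ⟨p, w, hw⟩
  have hdich := fun (N : Subgroup G) (_ : N.Normal) => le_twoZCore_or_eq_top hD hc hDD N
  have hne : Cfsg.twoZCore G ≠ ⊤ := fun e =>
    not_commutator_le_twoZCore hD hak (e ▸ le_top)
  have hnsol : ¬Group.IsSolvable G := by
    intro hs
    rcases hdich (commutator G) inferInstance with h | h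
    · exact not_commutator_le_twoZCore hD hak h
    · have : Nontrivial G := ⟨a, 1, ne_one hD hak.1⟩
      exact (Group.IsSolvable.commutator_lt_top_of_nontrivial (G := G)).ne h
  constructor
  · refine le_antisymm (sSup_le fun N hN => ?_) (le_sSup ⟨inferInstance, ?_⟩)
    · rcases hdich N hN.1 with h | h
      · exact h
      · exfalso
        apply hnsol
        have := hN.2
        rw [h] at this
        exact Group.isSolvable_of_surjective
          (f := (Subgroup.topEquiv : (⊤ : Subgroup G) ≃* G).toMonoidHom) Subgroup.topEquiv.surjective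
    · have hp : Group.IsNilpotent (Cfsg.pCore 2 G) := by
        have : Fact (Nat.Prime 2) := ⟨Nat.prime_two⟩
        exact PCore.isPGroup_pCore.isNilpotent
      have hle : Cfsg.pCore 2 G ≤ Cfsg.twoZCore G := fun g hg => mem_twoZCore_iff.2 fun h => by
        rw [commutatorElement_def]
        exact mul_mem (PCore.pCore_normal.conj_mem g hg h) (inv_mem hg)
      let ψ : Cfsg.twoZCore G →* Subgroup.center (G ⧸ Cfsg.pCore 2 G) :=
        ((QuotientGroup.mk' (Cfsg.pCore 2 G)).comp (Cfsg.twoZCore G).subtype).codRestrict _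
          fun g => g.2
      have : Group.IsSolvable (Subgroup.center (G ⧸ Cfsg.pCore 2 G)) :=
        Group.isSolvable_of_comm fun p q => Subtype.ext (Subgroup.mem_center_iff.1 q.2 p)
      refine Group.isSolvable_of_ker_le_range (Subgroup.inclusion hle) ψ ?_
      intro g hg
      exact ⟨⟨g, (QuotientGroup.eq_one_iff _).1 (congrArg Subtype.val hg)⟩, rfl⟩
  · have : Nontrivial (G ⧸ Cfsg.twoZCore G) :=
      (QuotientGroup.nontrivial_iff).2 hne
    refine ⟨fun H hH => ?_⟩
    rcases hdich (H.comap (QuotientGroup.mk' (Cfsg.twoZCore G))) inferInstance with h | h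
    · left
      rw [← Subgroup.map_comap_eq_self_of_surjective
        (QuotientGroup.mk'_surjective (Cfsg.twoZCore G)) H, Subgroup.map_eq_bot_iff,
        QuotientGroup.ker_mk']
      exact h
    · right
      exact Subgroup.comap_injective (QuotientGroup.mk'_surjective _)
        (h.trans (Subgroup.comap_top _).symm)

end Cfsg.Agent.S5048
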