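import Cfsg.Statements.S5049
import Cfsg.Agent.Lib.PCore.Basic
-- import your own Cfsg.Agent.* helpers here

set_option autoImplicit false
open Cfsg

namespace Cfsg.Agent.S5049

open scoped commutatorElement

/-- Let G be a finite group generated by a set D of odd transpositions (root involutions with no product of order 4), Q = O₂(G), and for a ∈ D let Q_a be the commutator subgroup of Q with a. Then every member of D commuting with a centralizes Q_a; and for b ∈ D with ab of odd order greater than 1, the centralizer of ab in Q is the intersection of the centralizers of a and b in Q. -/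
theorem result {G : Type*} [Group G] [Finite G] {D : Set G} (hD : Cfsg.IsOddTranspositionSet D) {a : G} (ha : a ∈ D) :
    (∀ e ∈ Cfsg.commutingMembers D a, ∀ q ∈ ⁅Cfsg.pCore 2 G, Subgroup.zpowers a⁆, e * q = q * e) ∧
    (∀ b ∈ Cfsg.oddPartners D a,
      Cfsg.pCore 2 G ⊓ Subgroup.centralizer {a * b} = Cfsg.pCore 2 G ⊓ Subgroup.centralizer {a} ⊓ Subgroup.centralizer {b}) := by
  classical
  set O := Cfsg.pCore 2 G with hO
  have hOp : IsPGroup 2 O := Cfsg.Agent.PCore.isPGroup_pCore
  have hOn : O.Normal := by rw [hO]; infer_instance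
  have inv2 : ∀ d ∈ D, d * d = 1 := fun d hd => by
    rw [← pow_two, ← hD.1.orderOf_eq d hd]; exact pow_orderOf_eq_one d
  have inv' : ∀ d ∈ D, d⁻¹ = d := fun d hd => inv_eq_of_mul_eq_one_right (inv2 d hd)
  -- two members congruent modulo a commuting product commute
  have key : ∀ d ∈ D, ∀ e ∈ D, Commute e d → ∀ q ∈ O, Commute e (q * d * q⁻¹) := by
    intro d hd e he hed q hq
    have hd' : q * d * q⁻¹ ∈ D := hD.1.conj_mem d hd q
    rcases hD.1.pair e he _ hd' with h | h | h
    · exact h
    · have h2 : ∃ k, orderOf (e * (q * d * q⁻¹)) = 2 ^ k := by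
        have h3 : ((e * (q * d * q⁻¹)) ^ 2 : G) ∈ O := by
          rw [← QuotientGroup.eq_one_iff]
          simp only [QuotientGroup.mk_pow, QuotientGroup.mk_mul, QuotientGroup.mk_inv,
            (QuotientGroup.eq_one_iff q).2 hq, one_mul, inv_one, mul_one]
          rw [← QuotientGroup.mk_mul, ← QuotientGroup.mk_pow, Commute.mul_pow hed, pow_two, pow_two,
            inv2 e he, inv2 d hd, one_mul, QuotientGroup.mk_one]
        obtain ⟨k, hk⟩ := hOp ⟨_, h3⟩
        have hk' : ((e * (q * d * q⁻¹)) ^ 2) ^ 2 ^ k = 1 := congrArg Subtype.val hk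
        rw [← pow_mul] at hk'
        obtain ⟨j, -, hj⟩ := (Nat.dvd_prime_pow Nat.prime_two).1
          (show orderOf (e * (q * d * q⁻¹)) ∣ 2 ^ (k + 1) by
            rw [pow_succ']; exact orderOf_dvd_of_pow_eq_one hk')
        exact ⟨j, hj⟩
      obtain ⟨k, hk⟩ := h2
      rcases Nat.eq_zero_or_pos k with rfl | hk0
      · rw [pow_zero, orderOf_eq_one_iff, mul_eq_one_iff_eq_inv, inv' _ hd'] at hk
        rw [hk]
      · rw [hk, Nat.odd_pow_iff hk0.ne'] at h
        exact absurd h (by decide)
    · exact absurd h.1 (hD.2 e he _ hd')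
  have first : ∀ d ∈ D, ∀ e ∈ D, Commute e d →
      ∀ q ∈ ⁅O, Subgroup.zpowers d⁆, Commute e q := by
    intro d hd e he hed
    have : ⁅O, Subgroup.zpowers d⁆ ≤ Subgroup.centralizer {e} := by
      refine Subgroup.commutator_le.2 fun q hq x hx => ?_
      refine Subgroup.mem_centralizer_singleton_iff.2 ?_
      obtain ⟨i, rfl⟩ := hx
      have h1 : Commute e ⁅q, d ^ i⁆ := by
        have hdi : d ^ i = 1 ∨ d ^ i = d := by
          rcases Int.even_or_odd i with ⟨j, rfl⟩ | ⟨j, rfl⟩
          · left; rw [← two_mul, zpow_mul, zpow_two, inv2 d hd, one_zpow]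
          · right; rw [zpow_add_one, zpow_mul, zpow_two, inv2 d hd, one_zpow, one_mul]
        rcases hdi with h | h <;> rw [h]
        · simp [commutatorElement_def]
        · rw [commutatorElement_def]
          exact (key d hd e he hed q hq).mul_right hed.inv_right
      exact h1.eq.symm
    exact fun q hq => (Subgroup.mem_centralizer_singleton_iff.1 (this hq)).symm
  refine ⟨fun e he q hq => first a ha e he.1 he.2 q hq, fun b hb => ?_⟩
  obtain ⟨hbD, hba, hodd⟩ := hb
  refine le_antisymm ?_ ?_
  swap
  · rintro q ⟨⟨hq, hqa⟩, hqb⟩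
    refine Subgroup.mem_inf.2 ⟨hq, Subgroup.mem_centralizer_singleton_iff.2 ?_⟩
    exact (((show Commute q a from Subgroup.mem_centralizer_singleton_iff.1 hqa)).mul_right
      (show Commute q b from Subgroup.mem_centralizer_singleton_iff.1 hqb)).eq
  rintro q ⟨hq, hqab⟩
  have hc : Commute q (a * b) := Subgroup.mem_centralizer_singleton_iff.1 hqab
  set u := q⁻¹ * a * q * a with hu
  have hub : q⁻¹ * b * q * b = u := by
    have h1 : b * q * b = a * q * a := by
      have h2 := hc.eq
      calc b * q * b = (a * a) * b * q * b := by rw [inv2 a ha, one_mul]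
        _ = a * ((a * b) * q) * b := by group
        _ = a * (q * (a * b)) * b := by rw [← h2]
        _ = a * q * a * (b * b) := by group
        _ = a * q * a := by rw [inv2 b hbD, mul_one]
    rw [hu, mul_assoc q⁻¹, mul_assoc q⁻¹, mul_assoc q⁻¹, mul_assoc q⁻¹, h1]
  have hmem : ∀ d ∈ D, q⁻¹ * d * q * d ∈ ⁅O, Subgroup.zpowers d⁆ := by
    intro d hd
    have h1 := Subgroup.commutator_mem_commutator (O.inv_mem hq) (Subgroup.mem_zpowers d)
    rwa [commutatorElement_def, inv_inv, inv' d hd] at h1
  have hua : Commute a u := first a ha a ha (Commute.refl a) u (hmem a ha)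
  have hub' : Commute b u := first b hbD b hbD (Commute.refl b) u (hub ▸ hmem b hbD)
  have hu1 : u = 1 := by
    by_contra hne
    have hua2 : u * u = 1 := by
      have hab : q⁻¹ * (a * b) * q = a * b := by rw [mul_assoc, ← hc.eq, inv_mul_cancel_left]
      have h1 : (u * a) * (u * b) = a * b := by
        have ea : u * a = q⁻¹ * a * q := by
          rw [hu, mul_assoc (q⁻¹ * a * q), inv2 a ha, mul_one]
        have eb : u * b = q⁻¹ * b * q := by
          rw [← hub, mul_assoc (q⁻¹ * b * q), inv2 b hbD, mul_one]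
        rw [ea, eb]
        conv_rhs => rw [← hab]
        group
      rw [show (u * a) * (u * b) = u * (a * u) * b by group, hua.eq, ← mul_assoc, mul_assoc (u * u)] at h1
      exact mul_eq_right.1 h1
    have hu2 : orderOf u = 2 := orderOf_eq_prime (by rw [pow_two, hua2]) hne
    have hord : orderOf (u * (a * b)) = 2 * orderOf (a * b) := by
      rw [(hua.symm.mul_right hub'.symm).orderOf_mul_eq_mul_orderOf_of_coprime
        (by rw [hu2]; exact (Nat.coprime_two_left.2 hodd)), hu2]
    have hua' : u * a ∈ D := by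
      rw [show u * a = q⁻¹ * a * q by rw [hu, mul_assoc (q⁻¹ * a * q), inv2 a ha, mul_one]]
      simpa using hD.1.conj_mem a ha q⁻¹
    have hne1 : orderOf (a * b) ≠ 1 := fun h => hba (by
      rw [orderOf_eq_one_iff, mul_eq_one_iff_eq_inv, inv' b hbD] at h
      exact h.symm)
    rcases hD.1.pair _ hua' _ hbD with h | h | h
    · have h2 : (u * (a * b)) ^ 2 = 1 := by
        rw [← mul_assoc, pow_two]
        calc u * a * b * (u * a * b) = u * a * b * ((u * a) * b) := by group
          _ = u * a * b * (b * (u * a)) := by rw [h]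
          _ = u * a * (b * b) * (u * a) := by group
          _ = (u * a) * (u * a) := by rw [inv2 b hbD, mul_one]
          _ = 1 := inv2 _ hua'
      have h3 := orderOf_dvd_of_pow_eq_one h2
      rw [hord] at h3
      have := Nat.le_of_dvd (by norm_num) h3
      have := orderOf_pos (a * b)
      omega
    · rw [mul_assoc, hord] at h
      exact absurd h (Nat.not_odd_iff_even.2 (even_two_mul _))
    · exact hD.2 _ hua' _ hbD h.1
  have fin : ∀ d ∈ D, q⁻¹ * d * q * d = 1 → Commute q d := by
    intro d hd h
    rw [mul_eq_one_iff_eq_inv, inv' d hd, mul_assoc, inv_mul_eq_iff_eq_mul] at h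
    exact h.symm
  exact Subgroup.mem_inf.2 ⟨Subgroup.mem_inf.2 ⟨hq, Subgroup.mem_centralizer_singleton_iff.2 (fin a ha hu1).eq⟩,
    Subgroup.mem_centralizer_singleton_iff.2 (fin b hbD (hub.trans hu1)).eq⟩

end Cfsg.Agent.S5049
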