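import Cfsg.Statements.S5057
-- import your own Cfsg.Agent.* helpers here

set_option autoImplicit false
open Cfsg

namespace Cfsg.Agent.S5057

theorem ct_two_two (g : ↥(alternatingGroup (Fin 6))) :
    orderOf g = 2 ↔ (g : Equiv.Perm (Fin 6)).cycleType = {2, 2} := by
  rw [← Subgroup.orderOf_coe]
  constructor
  · intro h
    obtain ⟨n, hn⟩ := Equiv.Perm.cycleType_prime_order (h ▸ Nat.prime_two : (orderOf (g : Equiv.Perm (Fin 6))).Prime)
    rw [h] at hn
    have h1 : (n + 1) * 2 ≤ 6 := by
      have := Finset.card_le_univ (g : Equiv.Perm (Fin 6)).support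
      rw [← Equiv.Perm.sum_cycleType, hn, Multiset.sum_replicate, smul_eq_mul] at this
      simpa using this
    have h2 := Equiv.Perm.mem_alternatingGroup.1 g.2
    rw [Equiv.Perm.sign_of_cycleType, hn, Multiset.sum_replicate, Multiset.card_replicate] at h2
    rw [hn]
    rcases (by omega : n = 0 ∨ n = 1 ∨ n = 2) with rfl | rfl | rfl
    · exact absurd h2 (by decide)
    · rfl
    · exact absurd h2 (by decide)
  · intro h
    rw [← Equiv.Perm.lcm_cycleType, h]
    rfl

theorem order_le_five (g : ↥(alternatingGroup (Fin 6))) : orderOf g ≤ 5 := by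
  obtain ⟨σ, hσ⟩ := g
  rw [← Subgroup.orderOf_coe]
  have h2 := Equiv.Perm.mem_alternatingGroup.1 hσ
  rw [Equiv.Perm.sign_of_cycleType] at h2
  rw [← Equiv.Perm.lcm_cycleType]
  have hsum : σ.cycleType.sum ≤ 6 := by
    rw [Equiv.Perm.sum_cycleType]; exact (Finset.card_le_univ _).trans (by simp)
  have htwo : ∀ n ∈ σ.cycleType, 2 ≤ n := fun n hn => Equiv.Perm.two_le_of_mem_cycleType hn
  revert h2 hsum htwo
  generalize σ.cycleType = m
  intro h2 hsum htwo
  have hcard : m.card * 2 ≤ m.sum := Multiset.card_nsmul_le_sum htwo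
  have : m.card = 0 ∨ m.card = 1 ∨ m.card = 2 ∨ m.card = 3 := by omega
  rcases this with h | h | h | h
  · rw [Multiset.card_eq_zero.1 h]; simp
  · obtain ⟨x, rfl⟩ := Multiset.card_eq_one.1 h
    simp at hsum htwo h2
    interval_cases x <;> first | rfl | omega | exact absurd h2 (by decide) | decide
  · obtain ⟨x, y, rfl⟩ := Multiset.card_eq_two.1 h
    simp at hsum htwo h2
    obtain ⟨hx, hy⟩ := htwo
    have hx' : x ≤ 4 := by omega
    have hy' : y ≤ 4 := by omega
    interval_cases x <;> interval_cases y <;>
      first | omega | exact absurd h2 (by decide) | decide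
  · obtain ⟨x, y, z, rfl⟩ := Multiset.card_eq_three.1 h
    simp at hsum htwo h2
    obtain ⟨hx, hy, hz⟩ := htwo
    obtain rfl : x = 2 := by omega
    obtain rfl : y = 2 := by omega
    obtain rfl : z = 2 := by omega
    decide

/-- The involutions of the alternating group of degree 6 form a class of root involutions (a single conjugacy class of involutions generating the group, any two of which commute, have product of odd order, or have product of order 4 whose square is again an involution of the class), and the product of any two of them has order at most 5. -/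
theorem result :
    Cfsg.IsRootInvolutionClass {g : ↥(alternatingGroup (Fin 6)) | orderOf g = 2} ∧
    ∀ d ∈ {g : ↥(alternatingGroup (Fin 6)) | orderOf g = 2}, ∀ e ∈ {g : ↥(alternatingGroup (Fin 6)) | orderOf g = 2},
      orderOf (d * e) ≤ 5 := by
  refine ⟨⟨⟨fun d hd => hd, ?_, ?_, ?_⟩, ?_, ?_⟩, fun d _ e _ => order_le_five _⟩
  · simp only [ct_two_two]
    exact alternatingGroup.closure_cycleType_eq_two_two_eq_top (by simp)
  · intro d hd g
    simpa [← MulAut.conj_apply] using hd
  · intro a ha b hb
    have hlt := order_le_five (a * b)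
    have hpos := orderOf_pos (a * b)
    rcases (by omega : orderOf (a * b) = 2 ∨ orderOf (a * b) = 4 ∨ orderOf (a * b) = 1 ∨
        orderOf (a * b) = 3 ∨ orderOf (a * b) = 5) with h | h | h | h | h
    · left
      have ha2 : a⁻¹ = a := inv_eq_of_mul_eq_one_right (by rw [← sq, ← ha, pow_orderOf_eq_one])
      have hb2 : b⁻¹ = b := inv_eq_of_mul_eq_one_right (by rw [← sq, ← hb, pow_orderOf_eq_one])
      have h2 : (a * b) * (a * b) = 1 := by rw [← sq, ← h, pow_orderOf_eq_one]
      rw [← inv_eq_of_mul_eq_one_right h2, mul_inv_rev, ha2, hb2]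
    · right; right
      refine ⟨h, ?_⟩
      show orderOf ((a * b) ^ 2) = 2
      rw [orderOf_pow, h]; rfl
    all_goals exact Or.inr (Or.inl (by rw [h]; decide))
  · exact ⟨⟨Equiv.swap 0 1 * Equiv.swap 2 3, Equiv.Perm.mem_alternatingGroup.2 (by decide)⟩,
      (ct_two_two _).2 (Equiv.Perm.cycleType_swap_mul_swap_of_nodup (by decide))⟩
  · intro a ha b hb
    rw [Set.mem_ofPred_eq, ct_two_two] at ha hb
    have hc : IsConj a b := alternatingGroup.isConj_of
      (Equiv.Perm.isConj_iff_cycleType_eq.2 (ha.trans hb.symm))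
      (by rw [← Equiv.Perm.sum_cycleType, ha]; rfl)
    obtain ⟨g, hg⟩ := isConj_iff.1 hc
    exact ⟨g, hg.symm⟩

end Cfsg.Agent.S5057
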