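import Cfsg.Statements.S5058
import Cfsg.Agent.Lib.ClassicalSimple.LinearRoots

set_option autoImplicit false
open Matrix
open Cfsg

namespace Cfsg.Agent.S5058

/-- Let F be a finite field of characteristic 2 and n a natural number. Then the transvections of SL_{n+3}(F) (so in every dimension at least 3) (the conjugates of the elementary matrices 1 + c E₁₂, c ≠ 0) form a class of root involutions of SL_{n+3}(F); when F has two elements they form a class of {3,4}⁺-transpositions (every product of odd order has order 1 or 3). -/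
theorem result (F : Type*) [Field F] [Fintype F] [CharP F 2] (n : ℕ) :
    Cfsg.IsRootInvolutionClass {t : Matrix.SpecialLinearGroup (Fin (n + 3)) F | ∃ c : F, c ≠ 0 ∧
        ∃ g : Matrix.SpecialLinearGroup (Fin (n + 3)) F, ((g⁻¹ * t * g : Matrix.SpecialLinearGroup (Fin (n + 3)) F) :
          Matrix (Fin (n + 3)) (Fin (n + 3)) F) = Matrix.transvection 0 1 c} ∧
    (Fintype.card F = 2 → Cfsg.IsThreeFourPlusTranspositionSet {t : Matrix.SpecialLinearGroup (Fin (n + 3)) F | ∃ c : F, c ≠ 0 ∧
        ∃ g : Matrix.SpecialLinearGroup (Fin (n + 3)) F, ((g⁻¹ * t * g : Matrix.SpecialLinearGroup (Fin (n + 3)) F) :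
          Matrix (Fin (n + 3)) (Fin (n + 3)) F) = Matrix.transvection 0 1 c}) := by
  have h01 : (0 : Fin (n + 3)) ≠ 1 := by simp
  obtain ⟨h, hS⟩ := Agent.ClassicalSimple.mem_slRootSet_single (F := F) h01
  have e : {t : Matrix.SpecialLinearGroup (Fin (n + 3)) F | ∃ c : F, c ≠ 0 ∧
      ∃ g : Matrix.SpecialLinearGroup (Fin (n + 3)) F,
        ((g⁻¹ * t * g : Matrix.SpecialLinearGroup (Fin (n + 3)) F) :
          Matrix (Fin (n + 3)) (Fin (n + 3)) F) = Matrix.transvection 0 1 c} =
      Agent.ClassicalSimple.slTransvSet (Fin (n + 3)) F := by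
    ext t
    constructor
    · rintro ⟨c, hc, g, hg⟩
      have ht : t = g * Agent.ClassicalSimple.slTransv _ _ h c * g⁻¹ := by
        have hgt : g⁻¹ * t * g = Agent.ClassicalSimple.slTransv _ _ h c :=
          Subtype.ext (hg.trans (Agent.ClassicalSimple.slTransv_single h01 h c).symm)
        rw [← hgt]; group
      rw [ht, Agent.ClassicalSimple.slTransv_conj g h c
        ((Agent.ClassicalSimple.vecMul_inv_dotProduct g _ _).trans h)]
      have hA := (Agent.ClassicalSimple.slRootSet_rootData (ι := Fin (n + 3)) (F := F)).conj_mem _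
        hS g
      refine Agent.ClassicalSimple.slTransv_mem_set _ (fun e0 => ?_) (fun e0 => ?_) hc
      · have := congrArg (fun x => (g⁻¹).1 *ᵥ x) e0
        simp only [Matrix.mulVec_mulVec, ← Matrix.SpecialLinearGroup.coe_mul, inv_mul_cancel,
          Matrix.SpecialLinearGroup.coe_one, Matrix.one_mulVec, Matrix.mulVec_zero] at this
        simp at this
      · have := congrArg (fun x => x ᵥ* g.1) e0
        simp only [Matrix.vecMul_vecMul, ← Matrix.SpecialLinearGroup.coe_mul, inv_mul_cancel,
          Matrix.SpecialLinearGroup.coe_one, Matrix.vecMul_one, Matrix.zero_vecMul] at this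
        simp at this
    · rintro ⟨v, w, hvw, hv, hw, rfl⟩
      have hm : Agent.ClassicalSimple.slRoot v w hvw ∈
          Agent.ClassicalSimple.slRootSet (Fin (n + 3)) F := ⟨v, w, hvw, hv, hw, rfl⟩
      rw [Agent.ClassicalSimple.slRootSet_eq_conjugates h01] at hm
      obtain ⟨g, hg⟩ := hm
      have ht : Agent.ClassicalSimple.slTransv v w hvw 1 ∈
          Agent.ClassicalSimple.slRoot v w hvw := Agent.ClassicalSimple.mem_slRoot.2 ⟨1, rfl⟩
      rw [hg] at ht
      obtain ⟨y, hy, hyt⟩ := Subgroup.mem_map.1 ht
      have hc : ∃ c : F, y.1 = Matrix.transvection 0 1 c := by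
        clear hyt
        induction hy using Subgroup.closure_induction with
        | mem x hx => exact hx
        | one => exact ⟨0, by simp [Matrix.transvection_zero]⟩
        | mul x x' _ _ hx hx' =>
          obtain ⟨c, hc⟩ := hx
          obtain ⟨d, hd⟩ := hx'
          exact ⟨c + d, by rw [Matrix.SpecialLinearGroup.coe_mul, hc, hd,
            Matrix.transvection_mul_transvection_same _ _ h01]⟩
        | inv x _ hx =>
          obtain ⟨c, hc⟩ := hx
          refine ⟨-c, ?_⟩
          have : x⁻¹ = Agent.ClassicalSimple.slTransv _ _ h (-c) := by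
            rw [inv_eq_iff_mul_eq_one]
            refine Subtype.ext ?_
            rw [Matrix.SpecialLinearGroup.coe_mul, hc, Agent.ClassicalSimple.slTransv_single h01,
              Matrix.transvection_mul_transvection_same _ _ h01, add_neg_cancel,
              Matrix.transvection_zero, Matrix.SpecialLinearGroup.coe_one]
          rw [this, Agent.ClassicalSimple.slTransv_single h01]
      obtain ⟨c, hc⟩ := hc
      refine ⟨c, fun c0 => ?_, g, ?_⟩
      · refine Agent.ClassicalSimple.slTransv_ne_one hv hw hvw one_ne_zero ?_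
        have : y = 1 := Subtype.ext (by rw [hc, c0, Matrix.transvection_zero]; rfl)
        rw [← hyt, this, map_one]
      · rw [← hc, ← hyt]
        congr 1
        simp [MulAut.conj_apply, mul_assoc]; rfl
  rw [e]
  obtain ⟨h1, h2⟩ := Agent.ClassicalSimple.slTransvSet_spec (F := F) h01
  refine ⟨h1, fun hcard => h2 fun a ha => ?_⟩
  by_contra ha1
  classical
  have hnat : ({0, 1, a} : Finset F).card ≤ Fintype.card F := Finset.card_le_univ _
  rw [Finset.card_eq_three.2 ⟨0, 1, a, zero_ne_one, Ne.symm ha, Ne.symm ha1, rfl⟩, hcard] at hnat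
  omega

end Cfsg.Agent.S5058
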