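import Cfsg.Statements.S5059
-- import your own Cfsg.Agent.* helpers here

set_option autoImplicit false
universe u
open Cfsg

namespace Cfsg.Agent.S5059

section
variable {k : Type*} [Field k] {M : Type*} [AddCommGroup M] [Module k M]

/-- the nilpotent part -/
def dp (τ : LinearMap.GeneralLinearGroup k M) : M →ₗ[k] M := (τ : M →ₗ[k] M) - 1

theorem coe_eq (τ : LinearMap.GeneralLinearGroup k M) : (τ : M →ₗ[k] M) = 1 + dp τ := by simp [dp]

/-- 1 + t as a unit, for t² = 0 -/
def onePlus (t : M →ₗ[k] M) (h : t * t = 0) : LinearMap.GeneralLinearGroup k M :=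
  ⟨1 + t, 1 - t, by simp [mul_sub, add_mul, h], by simp [sub_mul, mul_add, h]⟩

theorem dp_onePlus (t : M →ₗ[k] M) (h : t * t = 0) : dp (onePlus t h) = t := by simp [dp, onePlus]

theorem dp_one : dp (1 : LinearMap.GeneralLinearGroup k M) = 0 := by simp [dp]

theorem eq_one_of_dp {τ : LinearMap.GeneralLinearGroup k M} (h : dp τ = 0) : τ = 1 := by
  apply Units.ext
  rw [coe_eq τ, h, add_zero, Units.val_one]

theorem mul_zero_of (s t : M →ₗ[k] M) (hs : s * s = 0)
    (hr : LinearMap.range t ≤ LinearMap.range s) (u : M →ₗ[k] M)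
    (hk : LinearMap.ker s ≤ LinearMap.ker u) : u * t = 0 := by
  ext x
  obtain ⟨y, hy⟩ := hr (LinearMap.mem_range_self t x)
  have h0 : s (t x) = 0 := by rw [← hy, ← Module.End.mul_apply, hs]; rfl
  exact LinearMap.mem_ker.1 (hk (LinearMap.mem_ker.2 h0))

end

/-- Let k be a field of characteristic not 2 with k not of order 3, M a finite-dimensional k-vector space and G ≤ GL(M) such that (G, M) is a quadratic pair (M irreducible for G, and G generated by its quadratically acting elements σ whose scalar family 1 + c(σ − 1), c ∈ k, lies in G). Write 𝒬_d for the quadratic elements of G of minimal commutator rank, E(σ) for the subgroup generated by the members of 𝒬_d with the same fixed space and commutator space as σ, and Σ for the set of these subgroups. Then for σ ∈ 𝒬_d the subgroup E(σ) consists exactly of those members together with the identity, it is abelian, and if k has prime characteristic p every element of E(σ) has order dividing p. -/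
theorem result {k : Type u} [Field k] (hk2 : ringChar k ≠ 2) (hk3 : Nat.card k ≠ 3)
    {M : Type u} [AddCommGroup M] [Module k M] [FiniteDimensional k M]
    {G : Subgroup (LinearMap.GeneralLinearGroup k M)} (hG : Cfsg.IsQuadraticPair G)
    {σ : LinearMap.GeneralLinearGroup k M} (hσ : σ ∈ Cfsg.minimalQuadraticElements G) :
    (Cfsg.sameActionSubgroup G σ : Set (LinearMap.GeneralLinearGroup k M)) = Cfsg.sameActionClass G σ ∪ {1} ∧
    IsMulCommutative ↥(Cfsg.sameActionSubgroup G σ) ∧
    (∀ p : ℕ, p.Prime → ringChar k = p → ∀ x ∈ Cfsg.sameActionSubgroup G σ, x ^ p = 1) := by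
  classical
  obtain ⟨hσQ, hmin⟩ := hσ
  set sm := dp σ with hs
  have hs2 : sm * sm = 0 := hσQ.2.1.1
  -- the set E_σ ∪ {1}, through the differences τ - 1
  let T : Set (LinearMap.GeneralLinearGroup k M) := Cfsg.sameActionClass G σ ∪ {1}
  have hT : ∀ τ ∈ T, τ ∈ G ∧ LinearMap.range (dp τ) ≤ LinearMap.range sm ∧
      LinearMap.ker sm ≤ LinearMap.ker (dp τ) ∧
      ∀ c : k, ∃ μ ∈ G, (μ : M →ₗ[k] M) = 1 + c • dp τ := by
    rintro τ (⟨⟨⟨hτG, hτq, hτs⟩, -⟩, hk, hr⟩ | rfl)
    · refine ⟨hτG, le_of_eq hr, ge_of_eq hk, fun c => ?_⟩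
      have h2 : (c • dp τ) * (c • dp τ) = 0 := by
        rw [smul_mul_smul_comm, show dp τ * dp τ = 0 from hτq.1, smul_zero]
      exact ⟨onePlus _ h2, hτs ⟨c, by simp [onePlus, dp]⟩, by simp [onePlus]⟩
    · rw [dp_one]
      exact ⟨one_mem G, by simp, by simp, fun c => ⟨1, one_mem G, by simp⟩⟩
  have hzero : ∀ a ∈ T, ∀ b ∈ T, dp a * dp b = 0 := fun a ha b hb =>
    mul_zero_of sm (dp b) hs2 (hT b hb).2.1 (dp a) (hT a ha).2.2.1
  have hclass : ∀ τ : LinearMap.GeneralLinearGroup k M, τ ∈ G →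
      LinearMap.range (dp τ) ≤ LinearMap.range sm → LinearMap.ker sm ≤ LinearMap.ker (dp τ) →
      (∀ c : k, ∃ μ ∈ G, (μ : M →ₗ[k] M) = 1 + c • dp τ) → τ ∈ T := by
    intro τ hτG hr hk hfam
    by_cases h0 : dp τ = 0
    · exact Or.inr (eq_one_of_dp h0)
    left
    have hQ : τ ∈ Cfsg.quadraticElements G := by
      refine ⟨hτG, ⟨mul_zero_of sm (dp τ) hs2 hr (dp τ) hk, h0⟩, ?_⟩
      rintro ν ⟨c, hc⟩
      obtain ⟨μ, hμ, e⟩ := hfam c
      rw [show ν = μ from Units.ext (hc.trans e.symm)]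
      exact hμ
    have hrank : Cfsg.commutatorRank τ = Cfsg.commutatorRank σ :=
      le_antisymm (Submodule.finrank_mono hr) (hmin τ hQ)
    have hreq : LinearMap.range (dp τ) = LinearMap.range sm :=
      Submodule.eq_of_le_of_finrank_eq hr hrank
    refine ⟨⟨hQ, fun μ hμ => hrank ▸ hmin μ hμ⟩, ?_, hreq⟩
    refine (Submodule.eq_of_le_of_finrank_eq hk ?_).symm
    have h1 := LinearMap.finrank_range_add_finrank_ker (dp τ)
    have h2 := LinearMap.finrank_range_add_finrank_ker sm
    rw [hreq] at h1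
    omega
  have hmul : ∀ a ∈ T, ∀ b ∈ T, a * b ∈ T ∧ dp (a * b) = dp a + dp b := by
    intro a ha b hb
    have e : dp (a * b) = dp a + dp b := by
      rw [dp, Units.val_mul, coe_eq a, coe_eq b, add_mul, mul_add, mul_add, hzero a ha b hb]
      simp only [mul_one, one_mul, add_zero]
      abel
    refine ⟨hclass _ (mul_mem (hT a ha).1 (hT b hb).1) ?_ ?_ ?_, e⟩
    · rw [e]
      rintro _ ⟨x, rfl⟩
      exact add_mem ((hT a ha).2.1 (LinearMap.mem_range_self _ x))
        ((hT b hb).2.1 (LinearMap.mem_range_self _ x))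
    · intro x hx
      rw [e, LinearMap.mem_ker, LinearMap.add_apply, LinearMap.mem_ker.1 ((hT a ha).2.2.1 hx),
        LinearMap.mem_ker.1 ((hT b hb).2.2.1 hx), add_zero]
    · intro c
      obtain ⟨μ, hμ, eμ⟩ := (hT a ha).2.2.2 c
      obtain ⟨ν, hν, eν⟩ := (hT b hb).2.2.2 c
      refine ⟨μ * ν, mul_mem hμ hν, ?_⟩
      rw [Units.val_mul, eμ, eν, e, add_mul, mul_add, mul_add, smul_mul_smul_comm, hzero a ha b hb]
      simp only [mul_one, one_mul, smul_zero, add_zero, smul_add]
      abel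
  have hneg : ∀ a ∈ T, a⁻¹ ∈ T := by
    intro a ha
    obtain ⟨hG', hr, hk, hfam⟩ := hT a ha
    have e : dp a⁻¹ = - dp a := by
      have h2 := hzero a ha a ha
      rw [show a⁻¹ = onePlus (-dp a) (by simp [h2]) from ?_, dp_onePlus]
      refine inv_eq_of_mul_eq_one_right (Units.ext ?_)
      rw [Units.val_mul, coe_eq a, onePlus, Units.val_one]
      simp [mul_add, add_mul, h2]
    refine hclass _ (inv_mem hG') ?_ ?_ ?_
    · rw [e, LinearMap.range_neg]; exact hr
    · intro x hx
      rw [e, LinearMap.mem_ker, LinearMap.neg_apply, LinearMap.mem_ker.1 (hk hx), neg_zero]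
    · intro c
      obtain ⟨μ, hμ, eμ⟩ := hfam (-c)
      exact ⟨μ, hμ, by rw [eμ, e, neg_smul, smul_neg]⟩
  let H : Subgroup (LinearMap.GeneralLinearGroup k M) :=
    { carrier := T, one_mem' := Or.inr rfl, mul_mem' := fun ha hb => (hmul _ ha _ hb).1,
      inv_mem' := fun ha => hneg _ ha }
  have hH : Cfsg.sameActionSubgroup G σ = H :=
    le_antisymm ((Subgroup.closure_le H).2 fun x hx => Or.inl hx) (by
      rintro x (hx | rfl)
      · exact Subgroup.subset_closure hx
      · exact one_mem _)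
  refine ⟨by rw [hH]; rfl, ?_, ?_⟩
  · rw [hH]
    exact isMulCommutative_iff.2 fun a b => Subtype.ext (Units.ext (by
      show ((a.1 * b.1 : LinearMap.GeneralLinearGroup k M) : M →ₗ[k] M) =
        ((b.1 * a.1 : LinearMap.GeneralLinearGroup k M) : M →ₗ[k] M)
      rw [coe_eq (a.1 * b.1), coe_eq (b.1 * a.1), (hmul _ a.2 _ b.2).2, (hmul _ b.2 _ a.2).2,
        add_comm (dp a.1)]))
  · intro p hp hchar x hx
    rw [hH] at hx
    have hn : ∀ n : ℕ, x ^ n ∈ T ∧ dp (x ^ n) = n • dp x := by
      intro n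
      induction n with
      | zero => exact ⟨Or.inr (pow_zero x), by rw [pow_zero, dp_one, zero_smul]⟩
      | succ n ih =>
        obtain ⟨h1, h2⟩ := ih
        rw [pow_succ]
        exact ⟨(hmul _ h1 _ hx).1, by rw [(hmul _ h1 _ hx).2, h2, succ_nsmul]⟩
    refine eq_one_of_dp ?_
    rw [(hn p).2, ← Nat.cast_smul_eq_nsmul k, ← hchar, ringChar.Nat.cast_ringChar, zero_smul]

end Cfsg.Agent.S5059
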