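import Cfsg.Statements.S5060
import Cfsg.Agent.Lib.QuadPair.SL2Finite
import Mathlib.FieldTheory.IntermediateField.Adjoin.Basic

set_option autoImplicit false
open Cfsg

namespace Cfsg.Agent.S5060

/-- Let k ⊆ K be fields with the characteristic of k not 2 and k not of order 3, and let α ∈ K be a non-zero element algebraic over k. Then the subgroup of SL₂(K) generated by the upper unitriangular matrices with entry c and the lower unitriangular matrices with entry cα, c ranging over k, is exactly the group of matrices of SL₂(K) with all entries in k(α). -/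
theorem result {k K : Type*} [Field k] [Field K] [Algebra k K] (hk2 : ringChar k ≠ 2) (hk3 : Nat.card k ≠ 3)
    (α : K) (hα : IsAlgebraic k α) (hα0 : α ≠ 0) :
    (Subgroup.closure ({g : Matrix.SpecialLinearGroup (Fin 2) K | ∃ c : k, (g : Matrix (Fin 2) (Fin 2) K) = !![1, algebraMap k K c; 0, 1]} ∪
        {g : Matrix.SpecialLinearGroup (Fin 2) K | ∃ c : k, (g : Matrix (Fin 2) (Fin 2) K) = !![1, 0; algebraMap k K c * α, 1]}) :
      Set (Matrix.SpecialLinearGroup (Fin 2) K)) =
    {g : Matrix.SpecialLinearGroup (Fin 2) K | ∀ i j : Fin 2, (g : Matrix (Fin 2) (Fin 2) K) i j ∈ IntermediateField.adjoin k ({α} : Set K)} := by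
  classical
  have h2 : (2 : k) ≠ 0 := Ring.two_ne_zero hk2
  have hint := hα.isIntegral
  have : Fact (Irreducible (minpoly k α)) := ⟨minpoly.irreducible hint⟩
  have hev : Polynomial.eval₂ (algebraMap k K) α (minpoly k α) = 0 := minpoly.aeval k α
  have : FiniteDimensional k (AdjoinRoot (minpoly k α)) :=
    (AdjoinRoot.powerBasis (minpoly.ne_zero hint)).finite
  let φ : AdjoinRoot (minpoly k α) →+* K := AdjoinRoot.lift (algebraMap k K) α hev
  set lam := AdjoinRoot.root (minpoly k α) with hlam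
  have hφc : ∀ c : k, φ (algebraMap k (AdjoinRoot (minpoly k α)) c) = algebraMap k K c := fun c =>
    AdjoinRoot.lift_of hev
  have hφl : φ lam = α := AdjoinRoot.lift_root hev
  have hlam0 : lam ≠ 0 := fun h => hα0 (by rw [← hφl, h, map_zero])
  have htop : QuadPair.SL2Gen.gen k lam = ⊤ := PSL2.eq_top_of_uu_ll
    (fun t => (QuadPair.genProp h2 hk3 _ lam (IsUnit.mk0 _ hlam0)
      AdjoinRoot.adjoinRoot_eq_top t).1)
    (fun t => (QuadPair.genProp h2 hk3 _ lam (IsUnit.mk0 _ hlam0)
      AdjoinRoot.adjoinRoot_eq_top t).2)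
  have hrange : ∀ x : K, x ∈ IntermediateField.adjoin k ({α} : Set K) ↔ ∃ r, φ r = x := by
    intro x
    rw [← IntermediateField.mem_toSubalgebra,
      IntermediateField.adjoin_simple_toSubalgebra_of_isAlgebraic hα,
      Algebra.adjoin_singleton_eq_range_aeval]
    constructor
    · rintro ⟨p, rfl⟩
      exact ⟨AdjoinRoot.mk _ p, AdjoinRoot.lift_mk hev p⟩
    · rintro ⟨r, rfl⟩
      obtain ⟨p, rfl⟩ := AdjoinRoot.mk_surjective r
      exact ⟨p, (AdjoinRoot.lift_mk hev p).symm⟩
  set f := Matrix.SpecialLinearGroup.map (n := Fin 2) φ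
  have hcl : (Subgroup.closure ({g : Matrix.SpecialLinearGroup (Fin 2) K | ∃ c : k,
      (g : Matrix (Fin 2) (Fin 2) K) = !![1, algebraMap k K c; 0, 1]} ∪
      {g : Matrix.SpecialLinearGroup (Fin 2) K | ∃ c : k,
        (g : Matrix (Fin 2) (Fin 2) K) = !![1, 0; algebraMap k K c * α, 1]})) = f.range := by
    rw [MonoidHom.range_eq_map, ← htop, QuadPair.SL2Gen.gen, MonoidHom.map_closure,
      Set.image_union, ← Set.range_comp, ← Set.range_comp]
    congr 2
    · ext g
      constructor
      · rintro ⟨c, hc⟩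
        refine ⟨c, Subtype.ext ?_⟩
        rw [hc]
        show (f (QuadPair.SL2Gen.eU _) : Matrix (Fin 2) (Fin 2) K) = _
        rw [QuadPair.SL2Gen.map_eU, hφc]
        rfl
      · rintro ⟨c, rfl⟩
        refine ⟨c, ?_⟩
        show (f (QuadPair.SL2Gen.eU _) : Matrix (Fin 2) (Fin 2) K) = _
        rw [QuadPair.SL2Gen.map_eU, hφc]
        rfl
    · ext g
      constructor
      · rintro ⟨c, hc⟩
        refine ⟨c, Subtype.ext ?_⟩
        rw [hc]
        show (f (QuadPair.SL2Gen.eL _) : Matrix (Fin 2) (Fin 2) K) = _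
        rw [QuadPair.SL2Gen.map_eL, map_mul, hφc, hφl]
        rfl
      · rintro ⟨c, rfl⟩
        refine ⟨c, ?_⟩
        show (f (QuadPair.SL2Gen.eL _) : Matrix (Fin 2) (Fin 2) K) = _
        rw [QuadPair.SL2Gen.map_eL, map_mul, hφc, hφl]
        rfl
  rw [hcl]
  ext g
  constructor
  · rintro ⟨h, rfl⟩ i j
    exact (hrange _).2 ⟨h i j, (QuadPair.SL2Gen.mapE φ h i j).symm⟩
  · intro hg
    choose r hr using fun i j => (hrange _).1 (hg i j)
    refine ⟨⟨Matrix.of r, ?_⟩, Subtype.ext ?_⟩
    · apply φ.injective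
      rw [map_one, RingHom.map_det, ← g.det_coe]
      congr 1
      ext i j
      exact hr i j
    · ext i j
      exact (QuadPair.SL2Gen.mapE φ _ i j).trans (hr i j)

end Cfsg.Agent.S5060
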