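import Cfsg.Statements.S5063
import Cfsg.Agent.Lib.QuadPair.CentralProduct

set_option autoImplicit false
universe u
open Cfsg

namespace Cfsg.Agent.S5063

/-- Let k be a field of characteristic not 2 with k not of order 3, M a finite-dimensional k-vector space and G ≤ GL(M) such that (G, M) is a quadratic pair (M irreducible for G, and G generated by its quadratically acting elements σ whose scalar family 1 + c(σ − 1), c ∈ k, lies in G). Write 𝒬_d for the quadratic elements of G of minimal commutator rank, E(σ) for the subgroup generated by the members of 𝒬_d with the same fixed space and commutator space as σ, and Σ for the set of these subgroups. Then G is a central product of finitely many quasisimple normal subgroups G₁, …, G_s (pairwise commuting and together generating G), each generated by the quadratic elements of G it contains, and every quadratic element of G lies in one of them. -/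
theorem result {k : Type u} [Field k] (hk2 : ringChar k ≠ 2) (hk3 : Nat.card k ≠ 3)
    {M : Type u} [AddCommGroup M] [Module k M] [FiniteDimensional k M]
    {G : Subgroup (LinearMap.GeneralLinearGroup k M)} (hG : Cfsg.IsQuadraticPair G) :
    ∃ (s : ℕ) (Gi : Fin s → Subgroup (LinearMap.GeneralLinearGroup k M)),
      (∀ i, Gi i ≤ G ∧ ∀ g ∈ G, Cfsg.conjBy (Gi i) g = Gi i) ∧ (∀ i j, i ≠ j → ⁅Gi i, Gi j⁆ = ⊥) ∧ (⨆ i, Gi i) = G ∧
      (∀ i, Cfsg.IsQuasisimple ↥(Gi i) ∧ Subgroup.closure (Cfsg.quadraticElements G ∩ (Gi i : Set (LinearMap.GeneralLinearGroup k M))) = Gi i) ∧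
      Cfsg.quadraticElements G ⊆ ⋃ i, (Gi i : Set (LinearMap.GeneralLinearGroup k M)) := by
  have hgen := QuadPair.genProp (QuadPair.two_ne_zero_of_ringChar hk2) hk3
  obtain ⟨S, hfin, hfac, hcomm, hmem⟩ := QuadPair.hasFactors hgen hk2 hk3 _ rfl hG
  obtain ⟨s, f, hf, hrange⟩ := hfin.fin_param
  have hin : ∀ i, f i ∈ S := fun i => hrange ▸ Set.mem_range_self i
  refine ⟨s, f, fun i => ⟨(hfac _ (hin i)).1, (hfac _ (hin i)).2.1⟩,
    fun i j hij => hcomm _ (hin i) _ (hin j) (fun e => hij (hf e)), ?_,
    fun i => (hfac _ (hin i)).2.2, fun σ hσ => ?_⟩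
  · refine le_antisymm (iSup_le fun i => (hfac _ (hin i)).1) ?_
    refine hG.2.symm.le.trans ((Subgroup.closure_le _).2 fun σ hσ => ?_)
    obtain ⟨H, hH, hσH⟩ := hmem σ hσ
    obtain ⟨i, rfl⟩ := hrange.ge hH
    exact le_iSup f i hσH
  · obtain ⟨H, hH, hσH⟩ := hmem σ hσ
    obtain ⟨i, rfl⟩ := hrange.ge hH
    exact Set.mem_iUnion.2 ⟨i, hσH⟩

end Cfsg.Agent.S5063
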