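import Cfsg.Statements.S5064
import Cfsg.Agent.Lib.QuadPair.RankOne

set_option autoImplicit false
universe u
open Cfsg

namespace Cfsg.Agent.S5064

/-- Let k be a field of characteristic not 2 with k not of order 3, M a finite-dimensional k-vector space and G ≤ GL(M) such that (G, M) is a quadratic pair (M irreducible for G, and G generated by its quadratically acting elements σ whose scalar family 1 + c(σ − 1), c ∈ k, lies in G). Write 𝒬_d for the quadratic elements of G of minimal commutator rank, E(σ) for the subgroup generated by the members of 𝒬_d with the same fixed space and commutator space as σ, and Σ for the set of these subgroups. If σ, τ ∈ 𝒬_d and the subgroup H generated by their two scalar families does not act unipotently on M, then H is isomorphic to SL₂ over a simple algebraic extension k(λ) of k. -/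
theorem result {k : Type u} [Field k] (hk2 : ringChar k ≠ 2) (hk3 : Nat.card k ≠ 3)
    {M : Type u} [AddCommGroup M] [Module k M] [FiniteDimensional k M]
    {G : Subgroup (LinearMap.GeneralLinearGroup k M)} (hG : Cfsg.IsQuadraticPair G)
    {σ τ : LinearMap.GeneralLinearGroup k M} (hσ : σ ∈ Cfsg.minimalQuadraticElements G) (hτ : τ ∈ Cfsg.minimalQuadraticElements G)
    (hH : ¬ Cfsg.IsUnipotentOn (Subgroup.closure (Cfsg.scalarFamily σ ∪ Cfsg.scalarFamily τ))) :
    ∃ (K : Type u) (_ : Field K) (_ : Algebra k K) (lam : K), IsAlgebraic k lam ∧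
      IntermediateField.adjoin k ({lam} : Set K) = ⊤ ∧
      Nonempty (↥(Subgroup.closure (Cfsg.scalarFamily σ ∪ Cfsg.scalarFamily τ)) ≃* Matrix.SpecialLinearGroup (Fin 2) K) := by
  classical
  have h2k := QuadPair.two_ne_zero_of_ringChar hk2
  have hgen := QuadPair.genProp h2k hk3
  have ha := QuadPair.mem_minimal_iff.1 hσ
  have hb := QuadPair.mem_minimal_iff.1 hτ
  set a := (σ : Module.End k M) - 1 with hadef
  set b := (τ : Module.End k M) - 1 with hbdef
  have haba : a * b * a ≠ 0 := fun h => hH (RootSubgroups.UnipotentJoin.isUnipotentOn_mono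
    ((Subgroup.closure_le _).2 (Set.union_subset
      (fun g hg => Subgroup.mem_sup_left (show g ∈ QuadPair.famGroup a ha.sq from hg))
      (fun g hg => Subgroup.mem_sup_right (show g ∈ QuadPair.famGroup b hb.sq from hg))))
    (QuadPair.isUnipotentOn_pair h2k ha hb h))
  obtain ⟨R, _, _, lam, C, _, hfield, hu, hadj, hpa, hpb, hrep, hinj, htop⟩ :=
    QuadPair.exists_rep hgen h2k hk3 ha hb (QuadPair.not_isNilpotent_of_aba h2k ha hb haba)
  have hU : ∀ c : k, ((C.rep (QuadPair.SL2Gen.eU (algebraMap k R c)) :
      LinearMap.GeneralLinearGroup k M) : Module.End k M) = 1 + c • a := fun c => by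
    rw [C.rep_eU, Algebra.algebraMap_eq_smul_one, map_smul, smul_mul_assoc]
    exact congrArg (fun t => 1 + c • t) hpa
  have hL : ∀ c : k, ((C.rep (QuadPair.SL2Gen.eL (algebraMap k R c * lam)) :
      LinearMap.GeneralLinearGroup k M) : Module.End k M) = 1 + c • b := fun c => by
    rw [C.rep_eL, mul_assoc, C.lam_li, mul_one, Algebra.algebraMap_eq_smul_one, map_smul,
      smul_mul_assoc]
    exact congrArg (fun t => 1 + c • t) hpb
  have hrange : C.rep.range =
      Subgroup.closure (Cfsg.scalarFamily σ ∪ Cfsg.scalarFamily τ) := by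
    rw [MonoidHom.range_eq_map, htop, QuadPair.SL2Gen.gen, MonoidHom.map_closure, Set.image_union,
      ← Set.range_comp, ← Set.range_comp]
    congr 2
    · ext g
      constructor
      · rintro ⟨c, rfl⟩
        exact ⟨c, hU c⟩
      · rintro ⟨c, hc⟩
        exact ⟨c, Units.ext ((hU c).trans hc.symm)⟩
    · ext g
      constructor
      · rintro ⟨c, rfl⟩
        exact ⟨c, hL c⟩
      · rintro ⟨c, hc⟩
        exact ⟨c, Units.ext ((hL c).trans hc.symm)⟩
  let := hfield.toField
  refine ⟨R, hfield.toField, ‹_›, lam, (IsIntegral.of_finite k lam).isAlgebraic, ?_,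
    ⟨((MonoidHom.ofInjective hinj).trans (MulEquiv.subgroupCongr hrange)).symm⟩⟩
  rw [eq_top_iff]
  intro x _
  exact IntermediateField.algebra_adjoin_le_adjoin k _ (by rw [hadj]; exact Algebra.mem_top)

end Cfsg.Agent.S5064
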