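import Cfsg.Statements.S5067


set_option autoImplicit false
open Cfsg

namespace Cfsg.Agent.S5067

open scoped commutatorElement in
theorem class_normalClosure_lt {P : Type*} [Group P] [Group.IsNilpotent P]
    (hna : ¬ IsMulCommutative P) {E F : Subgroup P} (hE : IsMulCommutative ↥E) (_hgen : E ⊔ F = ⊤) :
    Group.nilpotencyClass ↥(Subgroup.normalClosure (E : Set P)) < Group.nilpotencyClass P := by
  set N := Subgroup.normalClosure (E : Set P)
  set L := (⊤ : Subgroup P).lowerCentralSeries
  set L1 := L 1
  set L2 := L 2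
  have hL2 : L2.Normal := by infer_instance
  let q := QuotientGroup.mk' L2
  have hc1 : ∀ a ∈ L1, ∀ b : P, Commute (q a) (q b) := by
    intro a ha b
    have h : a * b * a⁻¹ * b⁻¹ ∈ L2 := by
      show _ ∈ (⊤ : Subgroup P).lowerCentralSeries (1 + 1)
      rw [Subgroup.lowerCentralSeries_succ]
      exact Subgroup.commutator_mem_commutator ha trivial
    have h1 : q (a * b * a⁻¹ * b⁻¹) = 1 := (QuotientGroup.eq_one_iff _).2 h
    simp only [map_mul, map_inv] at h1
    exact mul_inv_eq_iff_eq_mul.1 (mul_inv_eq_one.1 h1)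
  have hN : N.map q ≤ Subgroup.centralizer (N.map q : Set (P ⧸ L2)) := by
    -- the images of `E` and `γ₂` generate a commutative group containing the image of `N`
    have hnormal : (E ⊔ L1).Normal := by
      refine ⟨fun n hn g => ?_⟩
      have : g * n * g⁻¹ * n⁻¹ ∈ L1 := by
        show _ ∈ (⊤ : Subgroup P).lowerCentralSeries (0 + 1)
        rw [Subgroup.lowerCentralSeries_succ]
        exact Subgroup.commutator_mem_commutator trivial trivial
      have h2 := mul_mem (Subgroup.mem_sup_right (S := E) this) hn
      simpa using h2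
    have hle : N.map q ≤ (E ⊔ L1).map q :=
      Subgroup.map_mono (Subgroup.normalClosure_le_normal (le_sup_left (b := L1)))
    have hgen : (E ⊔ L1).map q ≤ Subgroup.centralizer ((E ⊔ L1).map q : Set (P ⧸ L2)) := by
      rw [Subgroup.map_sup]
      refine sup_le ?_ ?_ <;> rw [Subgroup.le_centralizer_iff] <;> refine sup_le ?_ ?_
      · rintro _ ⟨a, ha, rfl⟩
        rw [Subgroup.mem_centralizer_iff]
        rintro _ ⟨b, hb, rfl⟩
        rw [← map_mul, ← map_mul]
        exact congrArg q (congrArg Subtype.val (hE.is_comm.comm (⟨b, hb⟩ : E) ⟨a, ha⟩))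
      · rintro _ ⟨a, ha, rfl⟩
        rw [Subgroup.mem_centralizer_iff]
        rintro _ ⟨b, -, rfl⟩
        exact ((hc1 a ha b).symm).eq
      · rintro _ ⟨a, -, rfl⟩
        rw [Subgroup.mem_centralizer_iff]
        rintro _ ⟨b, hb, rfl⟩
        exact (hc1 b hb a).eq
      · rintro _ ⟨a, ha, rfl⟩
        rw [Subgroup.mem_centralizer_iff]
        rintro _ ⟨b, -, rfl⟩
        exact ((hc1 a ha b).symm).eq
    exact hle.trans (hgen.trans (Subgroup.centralizer_le hle))
  have key : ∀ j, N.lowerCentralSeries (j + 1) ≤ L (j + 2) := by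
    intro j
    induction j with
    | zero =>
      rw [Subgroup.lowerCentralSeries_succ, Subgroup.lowerCentralSeries_zero, Subgroup.commutator_le]
      intro a ha b hb
      refine (QuotientGroup.eq_one_iff _).1 ?_
      show q _ = 1
      rw [map_commutatorElement]
      exact commutatorElement_eq_one_iff_mul_comm.2 (hN ⟨b, hb, rfl⟩ _ ⟨a, ha, rfl⟩)
    | succ j ih =>
      rw [Subgroup.lowerCentralSeries_succ]
      show _ ≤ (⊤ : Subgroup P).lowerCentralSeries (j + 2 + 1)
      rw [Subgroup.lowerCentralSeries_succ]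
      exact Subgroup.commutator_mono ih le_top
  set c := Group.nilpotencyClass P
  have hc : 2 ≤ c := by
    by_contra h
    have hb : L 1 = ⊥ := Subgroup.lowerCentralSeries_eq_bot_iff_nilpotencyClass_le.2 (by omega)
    refine hna ⟨⟨fun a b => ?_⟩⟩
    have : ⁅a, b⁆ ∈ L (0 + 1) := Subgroup.commutator_mem_commutator trivial trivial
    rw [show L (0 + 1) = ⊥ from hb, Subgroup.mem_bot] at this
    exact commutatorElement_eq_one_iff_mul_comm.1 this
  obtain ⟨d, hd⟩ : ∃ d, c = d + 2 := ⟨c - 2, by omega⟩
  have hbot : (⊤ : Subgroup N).lowerCentralSeries (d + 1) = ⊥ := by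
    refine (Subgroup.map_eq_bot_iff_of_injective _ N.subtype_injective).1 ?_
    rw [Subgroup.top_subtype_lowerCentralSeries]
    refine le_bot_iff.1 ((key d).trans (le_of_eq ?_))
    exact Subgroup.lowerCentralSeries_eq_bot_iff_nilpotencyClass_le.2 (le_of_eq hd)
  have := Subgroup.lowerCentralSeries_eq_bot_iff_nilpotencyClass_le.1 hbot
  omega

/-- Let P be a non-abelian nilpotent p-group (every element of p-power order; P possibly infinite) generated by two abelian subgroups E and F. Then the normal closure of E in P, and likewise that of F, has nilpotency class strictly smaller than that of P. -/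
theorem result {P : Type*} [Group P] {p : ℕ} [Fact p.Prime] (hP : IsPGroup p P) [Group.IsNilpotent P]
    (hna : ¬ IsMulCommutative P) {E F : Subgroup P} (hE : IsMulCommutative ↥E) (hF : IsMulCommutative ↥F) (hgen : E ⊔ F = ⊤) :
    Group.nilpotencyClass ↥(Subgroup.normalClosure (E : Set P)) < Group.nilpotencyClass P ∧
    Group.nilpotencyClass ↥(Subgroup.normalClosure (F : Set P)) < Group.nilpotencyClass P := by
  exact ⟨class_normalClosure_lt hna hE hgen,
    class_normalClosure_lt (E := F) (F := E) hna hF (sup_comm F E ▸ hgen)⟩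

end Cfsg.Agent.S5067
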