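import Cfsg.Statements.S5068
import Cfsg.Agent.Lib.QuadPair.RankOne

set_option autoImplicit false
universe u
open Cfsg

namespace Cfsg.Agent.S5068

open scoped commutatorElement

/-- Let k be a field of characteristic not 2 with k not of order 3, M a finite-dimensional k-vector space and G ≤ GL(M) such that (G, M) is a quadratic pair (M irreducible for G, and G generated by its quadratically acting elements σ whose scalar family 1 + c(σ − 1), c ∈ k, lies in G). Write 𝒬_d for the quadratic elements of G of minimal commutator rank, E(σ) for the subgroup generated by the members of 𝒬_d with the same fixed space and commutator space as σ, and Σ for the set of these subgroups. Let E, F ∈ Σ generate a subgroup acting unipotently on M. Then either E and F commute elementwise, or L = ⁅E, F⁆ belongs to Σ, equals the subgroup generated by the commutators of e with F, and of E with f, for all non-identity e ∈ E, f ∈ F, the group ⟨E, F⟩ is nilpotent of class two, and ⟨E, F⟩ lies in U(L), the set of elements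 g of G normalizing L with (g − 1)M inside the fixed space of L, (g − 1) mapping that fixed space into the commutator space of L, and g acting trivially on the commutator space of L. -/
theorem result {k : Type u} [Field k] (hk2 : ringChar k ≠ 2) (hk3 : Nat.card k ≠ 3)
    {M : Type u} [AddCommGroup M] [Module k M] [FiniteDimensional k M]
    {G : Subgroup (LinearMap.GeneralLinearGroup k M)} (hG : Cfsg.IsQuadraticPair G)
    {E F : Subgroup (LinearMap.GeneralLinearGroup k M)} (hE : E ∈ Cfsg.quadraticRootSubgroups G) (hF : F ∈ Cfsg.quadraticRootSubgroups G)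
    (hu : Cfsg.IsUnipotentOn (E ⊔ F)) :
    ⁅E, F⁆ = ⊥ ∨
    (⁅E, F⁆ ∈ Cfsg.quadraticRootSubgroups G ∧
      (∀ e ∈ E, e ≠ 1 → Subgroup.closure ((fun f : LinearMap.GeneralLinearGroup k M => e * f * e⁻¹ * f⁻¹) '' (F : Set (LinearMap.GeneralLinearGroup k M))) = ⁅E, F⁆) ∧
      (∀ f ∈ F, f ≠ 1 → Subgroup.closure ((fun e : LinearMap.GeneralLinearGroup k M => e * f * e⁻¹ * f⁻¹) '' (E : Set (LinearMap.GeneralLinearGroup k M))) = ⁅E, F⁆) ∧
      ⁅E ⊔ F, E ⊔ F⁆ ≠ ⊥ ∧ ⁅⁅E ⊔ F, E ⊔ F⁆, E ⊔ F⁆ = ⊥ ∧
      ((E ⊔ F : Subgroup (LinearMap.GeneralLinearGroup k M)) : Set (LinearMap.GeneralLinearGroup k M)) ⊆ Cfsg.quadraticUnipotentCore G ⁅E, F⁆) := by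
  have h2k := QuadPair.two_ne_zero_of_ringChar hk2
  have hgen := QuadPair.genProp h2k hk3
  obtain ⟨a, ha, hEm⟩ := QuadPair.exists_of_mem_quadraticRootSubgroups hE
  obtain ⟨b, hb, hFm⟩ := QuadPair.exists_of_mem_quadraticRootSubgroups hF
  by_cases hc : a * b = b * a
  · left
    exact Subgroup.commutator_eq_bot_iff_le_centralizer.2
      (QuadPair.IsRootOf.le_centralizer h2k hb ha hFm hEm hc.symm)
  right
  obtain ⟨n, hn⟩ := (RootSubgroups.UnipotentJoin.isUnipotentOn_iff (E ⊔ F)).1 hu
  have hmem : ∀ {x : Module.End k M} {g : LinearMap.GeneralLinearGroup k M}, g ∈ E ⊔ F →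
      (g : Module.End k M) - 1 = x → x ∈ RootSubgroups.UnipotentJoin.disp (E ⊔ F) :=
    fun hg hx => hx ▸ RootSubgroups.UnipotentJoin.mem_disp hg
  have h1 : a ∈ RootSubgroups.UnipotentJoin.disp (E ⊔ F) :=
    hmem (Subgroup.mem_sup_left (QuadPair.onePlus_mem_of_vsp hEm ha.self_mem_vsp))
      (add_sub_cancel_left 1 a)
  have h3 : b ∈ RootSubgroups.UnipotentJoin.disp (E ⊔ F) :=
    hmem (Subgroup.mem_sup_right (QuadPair.onePlus_mem_of_vsp hFm hb.self_mem_vsp))
      (add_sub_cancel_left 1 b)
  have hz : IsNilpotent (a * b + b * a) := by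
    refine ⟨n, (Submodule.mem_bot k).1 ?_⟩
    rw [← hn]
    refine Submodule.pow_mem_pow _ (add_mem ?_ ?_) n
    · exact RootSubgroups.UnipotentJoin.disp_mul_le _ (Submodule.mul_mem_mul h1 h3)
    · exact RootSubgroups.UnipotentJoin.disp_mul_le _ (Submodule.mul_mem_mul h3 h1)
  obtain ⟨r1, r2, r3, r4, r5, r6, -⟩ := QuadPair.commutator_case hgen hk2 hk3 hG.1 ha hb
    (QuadPair.mul_self_eq_zero_of_nilpotent h2k ha hb hz).1 hc hEm hFm
  exact ⟨r1, r2, r3, r4, r5, r6⟩

end Cfsg.Agent.S5068
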