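import Cfsg.Statements.S5069
import Cfsg.Agent.Lib.QuadPair.Components

set_option autoImplicit false
universe u
open Cfsg

namespace Cfsg.Agent.S5069

/-- Let k be a field of characteristic not 2 with k not of order 3, M a finite-dimensional k-vector space and G ≤ GL(M) such that (G, M) is a quadratic pair (M irreducible for G, and G generated by its quadratically acting elements σ whose scalar family 1 + c(σ − 1), c ∈ k, lies in G). Write 𝒬_d for the quadratic elements of G of minimal commutator rank, E(σ) for the subgroup generated by the members of 𝒬_d with the same fixed space and commutator space as σ, and Σ for the set of these subgroups. Then Σ is a disjoint union of finitely many parts Σ₁, …, Σ_r such that the subgroups G_i generated by the Σ_i commute pairwise, each G_i is quasisimple, and inside G_i the members of Σ_i form a class of abstract root subgroups in which every rank one pair A, B contains subgroups A₀ ≤ A, B₀ ≤ B generating an image of SL₂(k₁) with central kernel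 on unitriangular subgroups for some field k₁ with at least four elements. -/
theorem result {k : Type u} [Field k] (hk2 : ringChar k ≠ 2) (hk3 : Nat.card k ≠ 3)
    {M : Type u} [AddCommGroup M] [Module k M] [FiniteDimensional k M]
    {G : Subgroup (LinearMap.GeneralLinearGroup k M)} (hG : Cfsg.IsQuadraticPair G) :
    ∃ (r : ℕ) (part : Fin r → Set (Subgroup (LinearMap.GeneralLinearGroup k M))),
      (⋃ i, part i) = Cfsg.quadraticRootSubgroups G ∧ (∀ i j, i ≠ j → Disjoint (part i) (part j)) ∧ (∀ i, (part i).Nonempty) ∧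
      (∀ i j, i ≠ j → ⁅(⨆ A ∈ part i, A), (⨆ A ∈ part j, A)⁆ = ⊥) ∧
      (∀ i, Cfsg.IsQuasisimple ↥(⨆ A ∈ part i, A) ∧
        Cfsg.IsRootSubgroupClass ((fun A : Subgroup (LinearMap.GeneralLinearGroup k M) => A.subgroupOf (⨆ B ∈ part i, B)) '' (part i)) ∧
        ∀ A ∈ part i, ∀ B ∈ Cfsg.rankOnePartners (part i) A, ∃ A₀ B₀ : Subgroup (LinearMap.GeneralLinearGroup k M), A₀ ≤ A ∧ B₀ ≤ B ∧
          ∃ (k₁ : Type u) (_ : Field k₁), 3 < ENat.card k₁ ∧ Cfsg.IsPSL2PairOver k₁ A₀ B₀) := by
  have h2k := QuadPair.two_ne_zero_of_ringChar hk2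
  have hgen := QuadPair.genProp h2k hk3
  have hirr := hG.1
  have hfin : Finite (Set.range fun A : Cfsg.quadraticRootSubgroups G => QuadPair.comp G A.1) :=
    (QuadPair.comp_finite hk2 hirr hgen hk3).to_subtype
  obtain ⟨r, ⟨e⟩⟩ := Finite.exists_equiv_fin
    (Set.range fun A : Cfsg.quadraticRootSubgroups G => QuadPair.comp G A.1)
  refine ⟨r, fun i => (e.symm i).1, ?_, fun i j hij => ?_, fun i => ?_, fun i j hij => ?_, fun i => ?_⟩
  · refine Set.Subset.antisymm (Set.iUnion_subset fun i A hA => ?_) fun A hA => ?_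
    · obtain ⟨⟨B, hB⟩, hBe⟩ := (e.symm i).2
      beta_reduce at hBe hA
      rw [← hBe] at hA
      exact hA.1
    · refine Set.mem_iUnion.2 ⟨e ⟨_, ⟨A, hA⟩, rfl⟩, ?_⟩
      show A ∈ (e.symm (e _)).1
      rw [e.symm_apply_apply]
      exact QuadPair.comp_self hA
  · obtain ⟨⟨A, hA⟩, hAe⟩ := (e.symm i).2
    obtain ⟨⟨B, hB⟩, hBe⟩ := (e.symm j).2
    rw [Set.disjoint_left]
    intro C hCi hCj
    beta_reduce at hAe hBe hCi hCj
    rw [← hAe] at hCi
    rw [← hBe] at hCj
    refine hij (e.symm.injective (Subtype.ext ?_))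
    rw [← hAe, ← hBe]
    exact (RootSub.component_eq_of_fReach hCi.2).trans (RootSub.component_eq_of_fReach hCj.2).symm
  · obtain ⟨⟨A, hA⟩, hAe⟩ := (e.symm i).2
    beta_reduce at hAe ⊢
    exact ⟨A, hAe ▸ QuadPair.comp_self hA⟩
  · have hne : (e.symm i).1 ≠ (e.symm j).1 := fun h => hij (e.symm.injective (Subtype.ext h))
    obtain ⟨⟨A, hA⟩, hAe⟩ := (e.symm i).2
    obtain ⟨⟨B, hB⟩, hBe⟩ := (e.symm j).2
    beta_reduce at hAe hBe ⊢
    rw [← hAe, ← hBe] at hne ⊢
    rw [Subgroup.commutator_eq_bot_iff_le_centralizer]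
    refine iSup₂_le fun C hC => Subgroup.le_centralizer_iff.1 (iSup₂_le fun D hD => ?_)
    exact Subgroup.le_centralizer_iff.1 (Subgroup.commutator_eq_bot_iff_le_centralizer.1
      (QuadPair.comp_commute hgen hk2 hk3 hirr hC hD hne))
  · obtain ⟨⟨A, hA⟩, hAe⟩ := (e.symm i).2
    beta_reduce at hAe ⊢
    rw [← hAe]
    refine ⟨QuadPair.comp_quasisimple hgen hk2 hk3 hirr hA,
      (QuadPair.comp_quasiData hgen hk2 hk3 hirr hA).isClass, fun B hB C hC => ?_⟩
    obtain ⟨b, hb, hBm⟩ := QuadPair.exists_of_mem_quadraticRootSubgroups hB.1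
    obtain ⟨c, hc, hCm⟩ := QuadPair.exists_of_mem_quadraticRootSubgroups hC.1.1
    exact QuadPair.exists_SL2_subpair hgen hk2 hk3 hb hc hBm hCm
      (QuadPair.opp_of_isRankOnePair hgen hk2 hk3 hirr hb hc hBm hCm hC.2)

end Cfsg.Agent.S5069
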