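import Cfsg.Statements.S5074
import Cfsg.Agent.Lib.QuadPair.Decompose

set_option autoImplicit false
universe u
open Cfsg

namespace Cfsg.Agent.S5074

/-- Let k be a field of characteristic not 2 with k not of order 3, M a finite-dimensional k-vector space and G ≤ GL(M) such that (G, M) is a quadratic pair (M irreducible for G, and G generated by its quadratically acting elements σ whose scalar family 1 + c(σ − 1), c ∈ k, lies in G). Write 𝒬_d for the quadratic elements of G of minimal commutator rank, E(σ) for the subgroup generated by the members of 𝒬_d with the same fixed space and commutator space as σ, and Σ for the set of these subgroups. Then G is the product of the subgroup G₀ generated by Σ with the centralizer of G₀ in G. -/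
theorem result {k : Type u} [Field k] (hk2 : ringChar k ≠ 2) (hk3 : Nat.card k ≠ 3)
    {M : Type u} [AddCommGroup M] [Module k M] [FiniteDimensional k M]
    {G : Subgroup (LinearMap.GeneralLinearGroup k M)} (hG : Cfsg.IsQuadraticPair G) :
    (⨆ A ∈ Cfsg.quadraticRootSubgroups G, A) ⊔
      (G ⊓ Subgroup.centralizer ((⨆ A ∈ Cfsg.quadraticRootSubgroups G, A : Subgroup (LinearMap.GeneralLinearGroup k M)) : Set (LinearMap.GeneralLinearGroup k M))) = G := by
  have h2k := QuadPair.two_ne_zero_of_ringChar hk2
  have hgen := QuadPair.genProp h2k hk3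
  set G₀ := ⨆ A ∈ Cfsg.quadraticRootSubgroups G, A with hG₀
  set D := G₀ ⊔ (G ⊓ Subgroup.centralizer ((G₀ : Subgroup (LinearMap.GeneralLinearGroup k M)) :
    Set (LinearMap.GeneralLinearGroup k M))) with hD
  refine le_antisymm (sup_le QuadPair.g0_le_G inf_le_left) ?_
  refine hG.2.symm.le.trans ((Subgroup.closure_le D).2 fun σ hσ => ?_)
  obtain ⟨hx, -, hxf⟩ := QuadPair.mem_quadraticElements_iff.1 hσ
  set x := (σ : Module.End k M) - 1 with hxdef
  by_cases hall : ∀ A ∈ Cfsg.quadraticRootSubgroups G,
      QuadPair.CommutesWith (QuadPair.compGroup G A) x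
  · refine Subgroup.mem_sup_right ⟨hσ.1, Subgroup.mem_centralizer_iff.2 fun g hg => ?_⟩
    have hg' : (g : Module.End k M) * x = x * (g : Module.End k M) :=
      QuadPair.commutesWith_iSup (fun A hA e he =>
        hall A hA e (QuadPair.le_iSup_mem (S := QuadPair.comp G A) (QuadPair.comp_self hA) he)) g hg
    refine Units.ext ?_
    rw [hxdef, mul_sub, sub_mul, mul_one, one_mul, sub_left_inj] at hg'
    exact hg'
  · push Not at hall
    obtain ⟨A, hA, hne⟩ := hall
    refine Subgroup.mem_sup_left (QuadPair.comp_le (A := A) ?_)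
    obtain ⟨g, hg, hge⟩ := ((QuadPair.fam_mem_comp hgen hk2 hk3 hG hA hx hxf).resolve_left hne).mem
    rw [hxdef, add_sub_cancel] at hge
    exact Units.ext hge ▸ hg

end Cfsg.Agent.S5074
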