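import Cfsg.Statements.S5075
import Cfsg.Agent.Lib.McLaughlin.Decomp
import Cfsg.Agent.Lib.LocalStructure.Basic

set_option autoImplicit false
set_option linter.style.haveILetI false
open Cfsg
open Cfsg.Agent Cfsg.Agent.McLaughlin

namespace Cfsg.Agent.S5075

/-- Let p be an odd prime, V a finite-dimensional vector space over the field with p elements, and H a group of linear automorphisms of V generated by transvections (elements of order p fixing a hyperplane pointwise) and having no nontrivial normal p-subgroup. Then for some n ≥ 1 there are a decomposition V = V₀ ⊕ V₁ ⊕ ⋯ ⊕ Vₙ into H-invariant subspaces and a decomposition of H as the internal direct product of normal subgroups H₁, …, Hₙ such that Hⱼ acts trivially on every Vᵢ with i ≠ j, and Hⱼ induces on Vⱼ exactly the special linear group of Vⱼ or exactly the isometry group of a non-degenerate alternating form on Vⱼ. -/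
theorem result {p : ℕ} [Fact p.Prime] (hp : Odd p) {V : Type*} [AddCommGroup V] [Module (ZMod p) V] [Finite V]
    (H : Subgroup (V ≃ₗ[ZMod p] V)) (T : Set (V ≃ₗ[ZMod p] V)) (hHT : H = Subgroup.closure T)
    (hT : ∀ t ∈ T, orderOf t = p ∧
      Module.finrank (ZMod p) ↥(LinearMap.ker ((t : V →ₗ[ZMod p] V) - LinearMap.id)) + 1 =
        Module.finrank (ZMod p) V)
    (hOp : Cfsg.pCore p ↥H = ⊥) :
    ∃ (n : ℕ) (W : Fin (n + 1) → Submodule (ZMod p) V) (K : Fin n → Subgroup (V ≃ₗ[ZMod p] V)),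
      1 ≤ n ∧ DirectSum.IsInternal W ∧
      (∀ h ∈ H, ∀ i, (W i).map (h : V →ₗ[ZMod p] V) = W i) ∧
      (∀ j, K j ≤ H ∧ ((K j).subgroupOf H).Normal) ∧ ⨆ j, K j = H ∧
      (∀ j, K j ⊓ (⨆ j' ∈ {j' : Fin n | j' ≠ j}, K j') = ⊥) ∧
      (∀ j j', j ≠ j' → ∀ a ∈ K j, ∀ b ∈ K j', a * b = b * a) ∧
      (∀ j, ∀ h ∈ K j, ∀ i : Fin (n + 1), i ≠ j.succ → ∀ v ∈ W i, h v = v) ∧
      (∀ j, ∃ ρ : ↥(K j) →* (↥(W j.succ) ≃ₗ[ZMod p] ↥(W j.succ)),
        (∀ (h : ↥(K j)) (v : ↥(W j.succ)), ((ρ h v : ↥(W j.succ)) : V) = (h : V ≃ₗ[ZMod p] V) (v : V)) ∧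
        ((ρ.range : Set (↥(W j.succ) ≃ₗ[ZMod p] ↥(W j.succ))) =
            {f : ↥(W j.succ) ≃ₗ[ZMod p] ↥(W j.succ) | LinearMap.det (f : ↥(W j.succ) →ₗ[ZMod p] ↥(W j.succ)) = 1} ∨
          ∃ B : LinearMap.BilinForm (ZMod p) ↥(W j.succ), B.IsAlt ∧ B.Nondegenerate ∧
            (ρ.range : Set (↥(W j.succ) ≃ₗ[ZMod p] ↥(W j.succ))) = {f : ↥(W j.succ) ≃ₗ[ZMod p] ↥(W j.succ) | ∀ x y, B (f x) (f y) = B x y})) := by
  classical
  haveI : Module.Finite (ZMod p) V := Module.Finite.of_finite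
  haveI : Finite (Module.Dual (ZMod p) V) := Finite.of_injective
    (fun f : Module.Dual (ZMod p) V => (⇑f : V → ZMod p)) DFunLike.coe_injective
  have hp2 : p ≠ 2 := fun h => by subst h; exact absurd hp (by decide)
  have hpair : ∀ t ∈ T, ∃ a φ, Mem H a φ ∧ tv a φ = t := fun t ht => by
    obtain ⟨a, φ, h1, h2, h3, h4⟩ := exists_pair (hT t ht).1 (hT t ht).2
    exact ⟨a, φ, ⟨h1, h2, h3, h4.symm ▸ hHT.symm ▸ Subgroup.subset_closure ht⟩, h4⟩
  have hH : Setup H := ⟨hp2, by
    conv_lhs => rw [hHT]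
    exact Subgroup.closure_mono fun t ht => hpair t ht,
    fun N hN hN' => le_bot_iff.mp (hOp ▸ LocalStructure.le_pCore hN hN')⟩
  rcases T.eq_empty_or_nonempty with hT0 | ⟨t₀, ht₀⟩
  · -- the trivial group
    have hbot : H = ⊥ := by rw [hHT, hT0, Subgroup.closure_empty]
    refine ⟨1, Fin.cases ⊤ fun _ => ⊥, fun _ => ⊥, le_rfl, ?_, ?_, fun j => ?_, ?_, fun j => ?_, ?_, ?_, fun j => ?_⟩
    · refine DirectSum.isInternal_submodule_of_iSupIndep_of_iSup_eq_top (fun i => ?_)
        (top_le_iff.mp (le_iSup_of_le 0 le_rfl))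
      refine Fin.cases ?_ (fun k => ?_) i
      · refine disjoint_bot_right.mono_right (iSup₂_le fun j hj => ?_)
        obtain ⟨k, rfl⟩ := Fin.exists_succ_eq.mpr hj
        exact le_rfl
      · exact disjoint_bot_left
    · intro h hh i
      rw [hbot, Subgroup.mem_bot] at hh
      subst hh
      exact Submodule.map_id _
    · exact ⟨bot_le, by rw [Subgroup.bot_subgroupOf]; infer_instance⟩
    · simp [hbot]
    · exact bot_inf_eq _
    · intro j j' _ a ha b _
      rw [Subgroup.mem_bot] at ha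
      simp [ha]
    · intro j h hh i _ v _
      rw [Subgroup.mem_bot] at hh
      simp [hh]
    · refine ⟨1, fun h v => ?_, Or.inl ?_⟩
      · have hv : (v : V) = 0 := (Submodule.mem_bot _).mp v.2
        show (v : V) = _
        rw [hv, map_zero]
      · ext f
        have hf : f = 1 := LinearEquiv.ext fun v => Subtype.ext
          (((Submodule.mem_bot _).mp (f v).2).trans ((Submodule.mem_bot _).mp v.2).symm)
        subst hf
        exact ⟨fun _ => LinearMap.det_id, fun _ => one_mem _⟩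
  -- the classes
  let ι := {C : Set (V × Module.Dual (ZMod p) V) // IsClass H C}
  have hcls : ∀ a φ, Mem H a φ → ∃ C : ι, (a, φ) ∈ C.1 := fun a φ h =>
    ⟨⟨comp H (a, φ), isClass_comp h⟩, Relation.ReflTransGen.refl⟩
  obtain ⟨n, ⟨e⟩⟩ := Finite.exists_equiv_fin ι
  let C : Fin n → Set (V × Module.Dual (ZMod p) V) := fun j => (e.symm j).1
  have hC : ∀ j, IsClass H (C j) := fun j => (e.symm j).2
  have hCne : ∀ j j', j ≠ j' → C j ≠ C j' := fun j j' h h' => h (e.symm.injective (Subtype.ext h'))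
  have hCall : ∀ a φ, Mem H a φ → ∃ j, (a, φ) ∈ C j := fun a φ h => by
    obtain ⟨D, hD⟩ := hcls a φ h
    exact ⟨e D, by simpa [C] using hD⟩
  let W : Fin (n + 1) → Submodule (ZMod p) V := Fin.cases (⨅ j, fixS (C j)) fun j => spanS (C j)
  have hW0 : W 0 = ⨅ j, fixS (C j) := rfl
  have hWs : ∀ j : Fin n, W j.succ = spanS (C j) := fun j => rfl
  have hWfix : ∀ (j : Fin n) (i : Fin (n + 1)), i ≠ j.succ → W i ≤ fixS (C j) := fun j i hi => by
    induction i using Fin.cases with
    | zero => exact iInf_le _ j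
    | succ k => exact spanS_le_fixS (hC j) (hC k) (hCne j k fun e => hi (by rw [e]))
  have htop : ⨆ i, W i = ⊤ := by
    refine eq_top_iff.mpr fun v _ => ?_
    have hdec : ∀ j, ∃ c ∈ spanS (C j), v - c ∈ fixS (C j) := fun j => by
      obtain ⟨c, hc, k, hk, rfl⟩ := Submodule.mem_sup.mp
        (show v ∈ spanS (C j) ⊔ fixS (C j) by rw [spanS_sup_fixS hH (hC j)]; trivial)
      exact ⟨c, hc, by simpa using hk⟩
    choose c hc hck using hdec
    have h0 : v - ∑ j, c j ∈ W 0 := by
      rw [hW0, Submodule.mem_iInf]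
      intro j
      rw [← Finset.add_sum_erase _ _ (Finset.mem_univ j), ← sub_sub]
      exact Submodule.sub_mem _ (hck j) (Submodule.sum_mem _ fun k hk =>
        spanS_le_fixS (hC j) (hC k) (hCne j k (Finset.ne_of_mem_erase hk).symm) (hc k))
    rw [← sub_add_cancel v (∑ j, c j)]
    exact add_mem (Submodule.mem_iSup_of_mem 0 h0)
      (Submodule.sum_mem _ fun j _ => Submodule.mem_iSup_of_mem j.succ (hc j))
  have hindep : iSupIndep W := fun i => by
    induction i using Fin.cases with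
    | succ j =>
      exact (disjoint_iff.mpr (spanS_inf_fixS hH (hC j))).mono_right (iSup₂_le fun i hi => hWfix j i hi)
    | zero =>
      have hle : (⨆ (i) (_ : i ≠ (0 : Fin (n + 1))), W i) ≤ ⨆ j, spanS (C j) := iSup₂_le fun i hi => by
        obtain ⟨k, rfl⟩ := Fin.exists_succ_eq.mpr hi
        exact le_iSup_of_le k le_rfl
      refine Disjoint.mono_right hle (Submodule.disjoint_def.mpr fun x hx hxs => ?_)
      obtain ⟨μ, hμ⟩ := (Submodule.mem_iSup_iff_exists_finsupp _ _).mp hxs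
      rw [Finsupp.sum_fintype _ _ (fun _ => rfl)] at hμ
      rw [← hμ.2]
      refine Finset.sum_eq_zero fun j _ => ?_
      refine (Submodule.eq_bot_iff _).mp (spanS_inf_fixS hH (hC j)) _ ⟨hμ.1 j, ?_⟩
      have h1 : x ∈ fixS (C j) := (Submodule.mem_iInf _).mp hx j
      rw [← hμ.2, ← Finset.add_sum_erase _ _ (Finset.mem_univ j)] at h1
      exact (Submodule.add_mem_iff_left _ (Submodule.sum_mem _ fun k hk =>
        spanS_le_fixS (hC j) (hC k) (hCne j k (Finset.ne_of_mem_erase hk).symm) (hμ.1 k))).mp h1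
  have hinv : ∀ (i : Fin (n + 1)), ∀ g ∈ H, ∀ x ∈ W i, g x ∈ W i := fun i => by
    induction i using Fin.cases with
    | zero =>
      intro g hg x hx
      rw [hW0, Submodule.mem_iInf] at hx ⊢
      exact fun j => fixS_invariant hH (hC j) g hg x (hx j)
    | succ j => exact spanS_invariant hH (hC j)
  refine ⟨n, W, fun j => grp (C j), ?_, DirectSum.isInternal_submodule_of_iSupIndep_of_iSup_eq_top hindep htop,
    ?_, fun j => ⟨grp_le (hC j), ⟨fun k hk g => ?_⟩⟩, le_antisymm (iSup_le fun j => grp_le (hC j)) ?_,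
    fun j => ?_, ?_, ?_, fun j => ⟨resW hH (hC j), fun h v => rfl, classify hH (hC j)⟩⟩
  · obtain ⟨a, φ, hm, -⟩ := hpair t₀ ht₀
    obtain ⟨j, -⟩ := hCall a φ hm
    have := j.2
    omega
  · intro h hh i
    refine le_antisymm (Submodule.map_le_iff_le_comap.mpr (hinv i h hh)) fun x hx => ?_
    exact ⟨h⁻¹ x, hinv i _ (inv_mem hh) x hx, h.apply_symm_apply x⟩
  · exact conj_grp hH (hC j) g.2 hk
  · refine hH.gen.trans ((Subgroup.closure_le _).mpr ?_)
    rintro _ ⟨a, φ, hm, rfl⟩
    obtain ⟨j, hj⟩ := hCall a φ hm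
    exact Subgroup.mem_iSup_of_mem j (Subgroup.subset_closure ⟨_, hj, rfl⟩)
  · rw [Subgroup.eq_bot_iff_forall]
    rintro g ⟨hg1, hg2⟩
    have hfix : ∀ i, W i ≤ LinearMap.ker ((g : V →ₗ[ZMod p] V) - LinearMap.id) := fun i x hx => by
      rw [LinearMap.mem_ker, LinearMap.sub_apply, LinearMap.id_apply, sub_eq_zero]
      by_cases hi : i = j.succ
      · subst hi
        have hstab : (⨆ j' ∈ {j' : Fin n | j' ≠ j}, grp (C j')) ≤
            MulAction.stabilizer (V ≃ₗ[ZMod p] V) x :=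
          iSup₂_le fun k hk g hg => grp_fix (hC k) hg (hWfix k j.succ (fun e => hk (Fin.succ_injective _ e).symm) hx)
        exact hstab hg2
      · exact grp_fix (hC j) hg1 (hWfix j i hi hx)
    refine LinearEquiv.ext fun x => ?_
    have := (htop ▸ iSup_le hfix : (⊤ : Submodule (ZMod p) V) ≤ _) (Submodule.mem_top (x := x))
    simpa [sub_eq_zero] using this
  · intro j j' hne a ha b hb
    have hgen : ∀ x ∈ C j, ∀ y ∈ C j', Commute (tv x.1 x.2) (tv y.1 y.2) := fun x hx y hy => by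
      obtain ⟨h1, h2⟩ := not_adj_of_ne (hC j) (hC j') (hCne j j' hne) hx hy
      have hmx := ((hC j).mem x hx).2.2.1
      have hmy := ((hC j').mem y hy).2.2.1
      refine LinearEquiv.ext fun v => ?_
      simp only [LinearEquiv.mul_apply, tv_apply hmx, tv_apply hmy, map_add, map_smul, h1, h2, smul_zero,
        add_zero]
      abel
    have h1 : grp (C j') ≤ Subgroup.centralizer (((fun x => tv x.1 x.2) '' C j : Set _)) := by
      refine (Subgroup.closure_le _).mpr ?_
      rintro _ ⟨y, hy, rfl⟩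
      refine Subgroup.mem_centralizer_iff.mpr ?_
      rintro _ ⟨x, hx, rfl⟩
      exact hgen x hx y hy
    have h2 : grp (C j) ≤ Subgroup.centralizer ((grp (C j') : Subgroup _) : Set _) :=
      (Subgroup.closure_le _).mpr fun t ht => Subgroup.mem_centralizer_iff.mpr fun u hu =>
        (Subgroup.mem_centralizer_iff.mp (h1 hu) t ht).symm
    exact (Subgroup.mem_centralizer_iff.mp (h2 ha) b hb).symm
  · intro j h hh i hi v hv
    exact grp_fix (hC j) hh (hWfix j i hi hv)

end Cfsg.Agent.S5075
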