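import Cfsg.Statements.S5085
import Cfsg.Agent.Lib.Fusion.Basic

set_option autoImplicit false
open Cfsg

namespace Cfsg.Agent.S5085

/-- In any fusion system, a characteristic subgroup of a subgroup that is normal in the system is itself normal in the system. -/
theorem result {Ω : Type*} [Group Ω] {S : Subgroup Ω} (F : Cfsg.FusionSystem S) (Q U : Subgroup Ω) (hQ : F.IsNormal Q) (hUQ : U ≤ Q) (hU : (U.subgroupOf Q).Characteristic) : F.IsNormal U := by
  obtain ⟨hQS, hext⟩ := hQ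
  refine ⟨hUQ.trans hQS, fun P φ hφ => ?_⟩
  obtain ⟨ψ, hψ, hψP, hψQ⟩ := hext P φ hφ
  have hle : P ⊔ U ≤ P ⊔ Q := sup_le_sup_left hUQ P
  refine ⟨_, Cfsg.Agent.Fusion.restrict_mem hψ hle, fun x => hψP x, ?_⟩
  let f : Q →* Q := (ψ.comp (Subgroup.inclusion (le_sup_right : Q ≤ P ⊔ Q))).codRestrict Q
    (fun x => hψQ.le ⟨_, x.2, rfl⟩)
  have hb : Function.Bijective f := by
    refine ⟨fun a b hab => ?_, fun y => ?_⟩
    · exact Subgroup.inclusion_injective _ (F.injective_of_mem hψ (congrArg Subtype.val hab))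
    · obtain ⟨z, hz, hzy⟩ := hψQ.ge y.2
      exact ⟨⟨z, hz⟩, Subtype.ext hzy⟩
  have hchar : (U.subgroupOf Q).map (MulEquiv.ofBijective f hb).toMonoidHom = U.subgroupOf Q :=
    Subgroup.characteristic_iff_map_eq.1 hU _
  ext y
  constructor
  · rintro ⟨⟨z, hz⟩, hzU, rfl⟩
    have : f ⟨z, hUQ hzU⟩ ∈ U.subgroupOf Q := hchar.le ⟨⟨z, hUQ hzU⟩, hzU, rfl⟩
    exact this
  · intro hy
    obtain ⟨z, hz, hzy⟩ := hchar.ge (show (⟨y, hUQ hy⟩ : Q) ∈ U.subgroupOf Q from hy)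
    exact ⟨⟨z, Subgroup.mem_sup_right hz⟩, hz, congrArg Subtype.val hzy⟩

end Cfsg.Agent.S5085
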