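import Cfsg.Statements.S5088
import Cfsg.Agent.Lib.Fusion.NormalCriteria

set_option autoImplicit false
open Cfsg

namespace Cfsg.Agent.S5088

/-- In a saturated fusion system over a finite p-group, a subgroup Q is normal in the system if and only if there is a chain of subgroups 1 = Q₀ ≤ Q₁ ≤ ⋯ ≤ Qₙ = Q such that each Qᵢ with i ≥ 1 is strongly closed in the system and [Q, Qᵢ] ≤ Qᵢ₋₁. -/
theorem result {Ω : Type*} [Group Ω] {S : Subgroup Ω} [Finite S] (p : ℕ) [Fact p.Prime] (hS : IsPGroup p S) (F : Cfsg.FusionSystem S) (hF : F.IsSaturated p) (Q : Subgroup Ω) : F.IsNormal Q ↔ ∃ (n : ℕ) (Qs : Fin (n + 1) → Subgroup Ω), Qs 0 = ⊥ ∧ Qs (Fin.last n) = Q ∧ Monotone Qs ∧ ∀ i : Fin n, F.StronglyClosed (Qs i.succ) ∧ ⁅Q, Qs i.succ⁆ ≤ Qs (Fin.castSucc i) := by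
  constructor
  · intro hQ
    obtain ⟨n, T, h0, hn, hm, hT, hc⟩ := Fusion.exists_chain_of_isNormal hS hQ
    exact ⟨n, fun i => T i, h0, hn, fun i j hij => hm hij,
      fun i => ⟨Fusion.stronglyClosed_of_isNormal (hT _), hc i i.isLt⟩⟩
  · rintro ⟨n, Qs, h0, hn, -, hc⟩
    refine Fusion.isNormal_of_chain hS hF (T := fun i => if h : i < n + 1 then Qs ⟨i, h⟩ else ⊥)
      (n := n) ?_ ?_ ?_ ?_
    · simpa using h0
    · simpa [Fin.last] using hn
    · intro i hi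
      simp only [dif_pos (Nat.lt_succ_of_le hi)]
      rcases i with - | i
      · exact (show Qs ⟨0, _⟩ = ⊥ from h0).symm ▸ Fusion.stronglyClosed_bot
      · exact (hc ⟨i, hi⟩).1
    · intro i hi
      simp only [dif_pos (Nat.succ_lt_succ hi), dif_pos (Nat.lt_succ_of_lt hi)]
      exact (hc ⟨i, hi⟩).2

end Cfsg.Agent.S5088
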