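import Cfsg.Statements.S5102
import Cfsg.Agent.Lib.Fusion.Basic

set_option autoImplicit false
open Cfsg

namespace Cfsg.Agent.S5102

/-- A normal p-subgroup of a finite group G is normal in the fusion system of G on a Sylow p-subgroup. -/
theorem result {G : Type*} [Group G] [Finite G] (p : ℕ) [Fact p.Prime] (S : Sylow p G) (R : Subgroup G) [R.Normal] (hR : IsPGroup p R) : (Cfsg.groupFusionSystem (S : Subgroup G)).IsNormal R := by
  have hRS : R ≤ (S : Subgroup G) := by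
    obtain ⟨T, hT⟩ := hR.exists_le_sylow
    obtain ⟨g, rfl⟩ := MulAction.exists_smul_eq G T S
    intro x hx
    rw [Sylow.coe_subgroup_smul]
    refine ⟨g⁻¹ * x * g, hT ?_, ?_⟩
    · simpa [mul_assoc] using ‹R.Normal›.conj_mem x hx g⁻¹
    · simp [mul_assoc]
  refine ⟨hRS, fun P φ hφ => ?_⟩
  obtain ⟨hP, hφS, g, hg⟩ := hφ
  have hmem : ∀ x : G, x ∈ P ⊔ R → g * x * g⁻¹ ∈ (S : Subgroup G) := by
    intro x hx
    have hle : P ⊔ R ≤ (S : Subgroup G).comap (MulAut.conj g).toMonoidHom := by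
      refine sup_le (fun y hy => ?_) (fun y hy => ?_)
      · have := hφS ⟨y, hy⟩
        rw [hg] at this
        exact this
      · exact hRS (‹R.Normal›.conj_mem y hy g)
    exact hle hx
  refine ⟨Cfsg.conjHom (P ⊔ R) g, ⟨sup_le hP hRS, fun x => hmem x x.2, g, fun x => rfl⟩,
    fun x => (hg x).symm, ?_⟩
  ext y
  constructor
  · rintro ⟨⟨z, hz⟩, hzR, rfl⟩
    exact ‹R.Normal›.conj_mem z hzR g
  · intro hy
    have hz : g⁻¹ * y * g⁻¹⁻¹ ∈ R := ‹R.Normal›.conj_mem y hy g⁻¹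
    exact ⟨⟨_, Subgroup.mem_sup_right hz⟩, hz, by simp [Cfsg.conjHom, mul_assoc]⟩

end Cfsg.Agent.S5102
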