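import Cfsg.Statements.S5104
import Cfsg.Agent.Lib.Fusion.Basic

set_option autoImplicit false
open Cfsg

namespace Cfsg.Agent.S5104

open Cfsg.Agent.Fusion in
/-- A fully centralized subgroup containing its centralizer in `S` is centric. -/
theorem centric_of_fullyCentralized {Ω : Type*} [Group Ω] {S : Subgroup Ω} [Finite S]
    (F : Cfsg.FusionSystem S) (U : Subgroup Ω) (hU : F.IsFullyCentralized U)
    (hC : Cfsg.FusionSystem.centralizerIn S U ≤ U) : F.IsCentric U := by
  refine ⟨hU.1, fun Q hQ => ?_⟩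
  have hle := hU.2 Q hQ
  obtain ⟨φ, hφ, hr⟩ := hQ
  have hinj := F.injective_of_mem hφ
  -- the image of `C_S(U) = Z(U)` lies in `C_S(Q)` and has at least as many elements
  have h1 : ((Cfsg.FusionSystem.centralizerIn S U).subgroupOf U).map φ ≤
      Cfsg.FusionSystem.centralizerIn S Q := by
    rintro _ ⟨c, hc, rfl⟩
    refine mem_centralizerIn.2 ⟨apply_mem hφ c, fun y hy => ?_⟩
    obtain ⟨x, rfl⟩ := hr.ge hy
    rw [← map_mul, ← map_mul]
    exact congrArg φ (Subtype.ext ((mem_centralizerIn.1 hc).2 x x.2))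
  have := finite_of_le (centralizerIn_le S Q)
  have h2 := Subgroup.eq_of_le_of_card_ge h1 (by
    rw [Subgroup.card_map_of_injective hinj,
      Nat.card_congr (Subgroup.subgroupOfEquivOfLe hC).toEquiv]
    exact hle)
  intro y hy
  obtain ⟨c, -, rfl⟩ := h2.ge hy
  exact hr ▸ ⟨c, rfl⟩

/-- In a saturated fusion system over a finite p-group S, a fully centralized subgroup U with C_S(U) ≤ U is centric. -/
theorem result {Ω : Type*} [Group Ω] {S : Subgroup Ω} [Finite S] (p : ℕ) [Fact p.Prime] (hS : IsPGroup p S) (F : Cfsg.FusionSystem S) (hF : F.IsSaturated p) (U : Subgroup Ω) (hU : F.IsFullyCentralized U) (hC : Cfsg.FusionSystem.centralizerIn S U ≤ U) : F.IsCentric U := by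
  exact centric_of_fullyCentralized F U hU hC

end Cfsg.Agent.S5104
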