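import Cfsg.Statements.S5105
import Cfsg.Agent.Lib.Fusion.Iso

set_option autoImplicit false
open Cfsg

namespace Cfsg.Agent.S5105

/-- Gaschütz: an automorphism of a finite group fixing a Sylow subgroup `T` pointwise, all of whose
translations lie in an abelian normal `p`-subgroup, is conjugation by an element of that subgroup. -/
theorem exists_conj_eq {G : Type*} [Group G] [Finite G] {p : ℕ} [Fact p.Prime] (T : Sylow p G)
    (A : Subgroup G) [hAn : A.Normal] (hA : IsPGroup p A) (hcomm : ∀ a ∈ A, ∀ b ∈ A, a * b = b * a)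
    (ψ : G ≃* G) (hT : ∀ t ∈ (T : Subgroup G), ψ t = t) (hd : ∀ g, g⁻¹ * ψ g ∈ A) :
    ∃ b ∈ A, ∀ g, ψ g = b * g * b⁻¹ := by
  classical
  letI : CommGroup A :=
    { (inferInstance : Group A) with mul_comm := fun a b => Subtype.ext (hcomm a a.2 b b.2) }
  let d : G → A := fun g => ⟨g⁻¹ * ψ g, hd g⟩
  let cj : G → A →* A := fun h =>
    { toFun := fun a => ⟨h⁻¹ * a * h, by simpa using hAn.conj_mem a a.2 h⁻¹⟩
      map_one' := Subtype.ext (by simp)
      map_mul' := fun a b => Subtype.ext (by simp [mul_assoc]) }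
  have hmul : ∀ g h, d (g * h) = cj h (d g) * d h := fun g h =>
    Subtype.ext (show (g * h)⁻¹ * ψ (g * h) = h⁻¹ * (g⁻¹ * ψ g) * h * (h⁻¹ * ψ h) by
      rw [map_mul]; group)
  have hd1 : ∀ t ∈ (T : Subgroup G), d t = 1 := fun t ht =>
    Subtype.ext (show t⁻¹ * ψ t = 1 by rw [hT t ht, inv_mul_cancel])
  letI := Fintype.ofFinite (G ⧸ (T : Subgroup G))
  let e : G ⧸ (T : Subgroup G) → A := fun c => Quotient.liftOn' c (fun g => d g⁻¹) (fun g g' hgg => by
    have ht : g⁻¹ * g' ∈ (T : Subgroup G) := QuotientGroup.leftRel_apply.1 hgg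
    show d g⁻¹ = d g'⁻¹
    have h1 : g⁻¹ = (g⁻¹ * g') * g'⁻¹ := by group
    rw [h1, hmul, hd1 _ ht, map_one, one_mul])
  have he : ∀ g : G, e (QuotientGroup.mk g) = d g⁻¹ := fun g => rfl
  set n := Fintype.card (G ⧸ (T : Subgroup G)) with hn
  set a := ∏ c, e c with ha
  have key : ∀ h, a = cj h a * d h ^ n := by
    intro h
    have h2 : ∀ c : G ⧸ (T : Subgroup G), e (h⁻¹ • c) = cj h (e c) * d h := by
      intro c
      obtain ⟨g, rfl⟩ := QuotientGroup.mk_surjective c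
      rw [MulAction.Quotient.smul_mk, he, he, ← hmul]
      congr 1
      show (h⁻¹ * g)⁻¹ = g⁻¹ * h
      group
    calc a = ∏ c, e (h⁻¹ • c) := (Equiv.prod_comp (MulAction.toPerm (h⁻¹ : G)) e).symm
      _ = ∏ c, (cj h (e c) * d h) := Finset.prod_congr rfl fun c _ => h2 c
      _ = _ := by rw [Finset.prod_mul_distrib, Finset.prod_const, ← map_prod]; rfl
  have hcop : (Nat.card A).Coprime n := by
    obtain ⟨k, hk⟩ := IsPGroup.iff_card.1 hA
    rw [hk]
    refine Nat.Coprime.pow_left _ ((Fact.out : p.Prime).coprime_iff_not_dvd.2 ?_)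
    rw [hn, ← Nat.card_eq_fintype_card]
    exact T.not_dvd_index
  let b := (powCoprime hcop).symm a
  have hb : b ^ n = a := (powCoprime hcop).apply_symm_apply a
  refine ⟨(b⁻¹ : A), Subtype.property _, fun g => ?_⟩
  have h3 : b = cj g b * d g := by
    refine (powCoprime hcop).injective ?_
    show b ^ n = (cj g b * d g) ^ n
    rw [mul_pow, ← (cj g).map_pow, hb]
    exact key g
  have h4 : (b : G) = g⁻¹ * b * g * (g⁻¹ * ψ g) := congrArg Subtype.val h3
  rw [InvMemClass.coe_inv, inv_inv]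
  calc ψ g = (b : G)⁻¹ * g * (g⁻¹ * b * g * (g⁻¹ * ψ g)) := by group
    _ = _ := by rw [← h4]

/-- Model Theorem, rigidity: if G is a model of a constrained fusion system over a finite p-group S (through ι : S → G), then every automorphism of G fixing ι(S) elementwise is conjugation by ι(z) for some z in the centre of S. -/
theorem result {Ω : Type*} [Group Ω] {S : Subgroup Ω} [Finite S] (p : ℕ) [Fact p.Prime] (hS : IsPGroup p S) (F : Cfsg.FusionSystem S) (hF : F.IsConstrained p) {G : Type*} [Group G] (ι : S →* G) (hG : F.IsModel p G ι) (ψ : G ≃* G) (hψ : ∀ x : S, ψ (ι x) = ι x) : ∃ z : S, z ∈ Subgroup.center S ∧ ∀ g : G, ψ g = ι z * g * (ι z)⁻¹ := by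
  obtain ⟨hfin, ⟨hι, -⟩, ⟨T, hT⟩, hc⟩ := hG
  let Q := Cfsg.pCore p G
  have hQn : Q.Normal := Cfsg.Agent.PCore.pCore_normal
  have hQT : Q ≤ (T : Subgroup G) := Cfsg.Agent.PCore.pCore_le_sylow T
  have hfix : ∀ t ∈ (T : Subgroup G), ψ t = t := by
    intro t ht
    obtain ⟨x, rfl⟩ := hT.le ht
    exact hψ x
  let A := Q ⊓ Subgroup.centralizer (Q : Set G)
  have hA : A.Normal := by
    have : (Subgroup.centralizer (Q : Set G)).Normal := ⟨fun c hc g q hq => by
      have h1 : g⁻¹ * q * g ∈ Q := by simpa using hQn.conj_mem q hq g⁻¹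
      have h2 := hc _ h1
      calc q * (g * c * g⁻¹) = g * (g⁻¹ * q * g * c) * g⁻¹ := by group
        _ = g * (c * (g⁻¹ * q * g)) * g⁻¹ := by rw [h2]
        _ = g * c * g⁻¹ * q := by group⟩
    exact Subgroup.normal_inf_normal _ _
  have hd : ∀ g, g⁻¹ * ψ g ∈ A := by
    intro g
    have h1 : g⁻¹ * ψ g ∈ Subgroup.centralizer (Q : Set G) := by
      intro q hq
      have h2 : g * q * g⁻¹ ∈ Q := hQn.conj_mem q hq g
      have h3 := hfix _ (hQT h2)
      rw [map_mul, map_mul, map_inv, hfix q (hQT hq)] at h3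
      calc q * (g⁻¹ * ψ g) = g⁻¹ * (g * q * g⁻¹) * ψ g := by group
        _ = g⁻¹ * (ψ g * q * (ψ g)⁻¹) * ψ g := by rw [h3]
        _ = g⁻¹ * ψ g * q := by group
    exact ⟨hc h1, h1⟩
  have hAp : IsPGroup p A :=
    (Cfsg.Agent.PCore.isPGroup_pCore (p := p) (G := G)).to_le inf_le_left
  obtain ⟨b, hbA, hb⟩ := exists_conj_eq T A hAp
    (fun a ha b hb => hb.2 a ha.1) ψ hfix hd
  obtain ⟨z, rfl⟩ := hT.le (hQT hbA.1)
  refine ⟨z, Subgroup.mem_center_iff.2 fun s => hι ?_, hb⟩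
  have h1 := hb (ι s)
  rw [hψ] at h1
  rw [map_mul, map_mul]
  calc ι s * ι z = ι z * ι s * (ι z)⁻¹ * ι z := by rw [← h1]
    _ = ι z * ι s := by group

end Cfsg.Agent.S5105
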