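import Cfsg.Statements.S5107
import Cfsg.Agent.Lib.Fusion.NormalCriteria
import Cfsg.Agent.Lib.Fusion.Group

set_option autoImplicit false
open Cfsg

namespace Cfsg.Agent.S5107

open scoped commutatorElement

/-- If a Sylow p-subgroup S of a finite group G has nilpotency class at most two and its centre is strongly closed in S with respect to G, then every map of the fusion system of G on S is conjugation by an element of N_G(S), and S is the largest subgroup normal in that fusion system. -/
theorem result {G : Type*} [Group G] [Finite G] (p : ℕ) [Fact p.Prime] (S : Sylow p G) (hcl : ⁅(S : Subgroup G), (S : Subgroup G)⁆ ≤ (S : Subgroup G) ⊓ Subgroup.centralizer ((S : Subgroup G) : Set G)) (hZ : Cfsg.IsStronglyClosed ((S : Subgroup G) ⊓ Subgroup.centralizer ((S : Subgroup G) : Set G)) (S : Subgroup G)) : (∀ (P : Subgroup G) (φ : P →* G), φ ∈ (Cfsg.groupFusionSystem (S : Subgroup G)).Hom P → ∃ g ∈ Subgroup.normalizer ((S : Subgroup G) : Set G), ∀ x : P, φ x = g * (x : G) * g⁻¹) ∧ (Cfsg.groupFusionSystem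 (S : Subgroup G)).core = S := by
  set T := (S : Subgroup G) with hT
  set F := Cfsg.groupFusionSystem T
  set Z := T ⊓ Subgroup.centralizer (T : Set G) with hZdef
  have hS := S.2
  have hF := Cfsg.Agent.Fusion.groupFusionSystem_saturated S
  have hZcl : F.StronglyClosed Z := by
    refine ⟨inf_le_left, fun R hR φ hφ x => ?_⟩
    obtain ⟨-, hφS, g, hg⟩ := Cfsg.Agent.Fusion.mem_groupHom.1 hφ
    rw [hg]
    exact hZ.2 x (hR x.2) g (hg x ▸ hφS x)
  have hScl : F.StronglyClosed T := ⟨le_rfl, fun R _ φ hφ x => Cfsg.Agent.Fusion.apply_mem hφ x⟩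
  have hnormal : F.IsNormal T := by
    refine Cfsg.Agent.Fusion.isNormal_of_chain hS hF (n := 2)
      (T := fun i => if i = 0 then ⊥ else if i = 1 then Z else T) rfl rfl ?_ ?_
    · intro i _
      rcases i with - | - | i
      · exact Cfsg.Agent.Fusion.stronglyClosed_bot
      · exact hZcl
      · exact hScl
    · intro i hi
      rcases i with - | - | i
      · show ⁅T, Z⁆ ≤ ⊥
        rw [le_bot_iff, Subgroup.commutator_eq_bot_iff_le_centralizer, Subgroup.le_centralizer_iff]
        exact inf_le_right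
      · exact hcl
      · omega
  refine ⟨fun P φ hφ => ?_, ?_⟩
  · obtain ⟨ψ, hψ, hψP, hψS⟩ := hnormal.2 P φ hφ
    obtain ⟨-, -, g, hg⟩ := Cfsg.Agent.Fusion.mem_groupHom.1 hψ
    refine ⟨g, ?_, fun x => by rw [← hψP, hg]; rfl⟩
    have : Finite T := inferInstance
    refine Subgroup.mem_normalizer_iff_map_conj_eq.2 ?_
    refine Eq.trans ?_ hψS
    ext y
    constructor
    · rintro ⟨x, hx, rfl⟩
      refine ⟨⟨x, Subgroup.mem_sup_right hx⟩, hx, ?_⟩
      rw [hg]
      rfl
    · rintro ⟨x, hx, rfl⟩
      exact ⟨x, hx, (hg x).symm⟩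
  · exact le_antisymm (sSup_le fun Q hQ => hQ.1) (le_sSup hnormal)

end Cfsg.Agent.S5107
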