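import Cfsg.Statements.S5115
import Cfsg.Agent.Lib.Fusion.Constrained
import Cfsg.Agent.Lib.Fusion.SubgroupSystem

set_option autoImplicit false
open Cfsg

namespace Cfsg.Agent.S5115

open Cfsg.Agent.Fusion in
theorem step {G : Type*} [Group G] [Finite G] {p : ℕ} [Fact p.Prime] {A : Subgroup G}
    {F : Cfsg.FusionSystem A} (hAp : IsPGroup p A) (hF : F.IsConstrained p) {H T : Subgroup G}
    (hTH : T ≤ H) (hTA : T ≤ A) (hT : IsSylowIn p T H)
    (hsub : (Cfsg.fusionSystemOfSubgroup H T hTH).IsSubsystemOf F) (hcl : F.StronglyClosed T) :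
    (Cfsg.fusionSystemOfSubgroup H T hTH).IsConstrained p :=
  isConstrained_of_subsystem hAp hF hcl _ hsub (subgroupSystem_saturated hTH hT)

open Cfsg.Agent.Fusion in
theorem subnormal_constrained {G : Type*} [Group G] [Finite G] {p : ℕ} [Fact p.Prime]
    (S : Sylow p G) (hF : (Cfsg.groupFusionSystem (S : Subgroup G)).IsConstrained p) {H : Subgroup G}
    (hH : H.IsSubnormal) :
    IsSylowIn p ((S : Subgroup G) ⊓ H) H ∧
      (Cfsg.fusionSystemOfSubgroup H ((S : Subgroup G) ⊓ H) inf_le_right).IsConstrained p := by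
  induction hH with
  | top =>
    have h := isSylowIn_of_normal S ⊤
    refine ⟨h, step S.2 hF inf_le_right inf_le_left h ?_ ?_⟩
    · rintro P φ ⟨hP, hφ, g, -, hg⟩
      exact ⟨hP.trans inf_le_left, fun x => (hφ x).1, g, hg⟩
    · exact ⟨inf_le_left, fun R _ φ hφ x => ⟨apply_mem hφ x, trivial⟩⟩
  | step H K hHK _ hN ih =>
    have h : IsSylowIn p ((S : Subgroup G) ⊓ H) H := by
      have h1 := isSylowIn_inf_of_normal (p := p) inf_le_right ih.1 hHK
      rwa [inf_assoc, inf_eq_right.2 hHK] at h1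
    refine ⟨h, step (S.2.to_le inf_le_left) ih.2 inf_le_right (inf_le_inf_left _ hHK) h ?_ ?_⟩
    · rintro P φ ⟨hP, hφ, g, hg, hx⟩
      exact ⟨hP.trans (inf_le_inf_left _ hHK), fun x => inf_le_inf_left _ hHK (hφ x), g,
        hHK hg, hx⟩
    · refine ⟨inf_le_inf_left _ hHK, fun R hR φ hφ x => ?_⟩
      obtain ⟨-, hφS, g, hgK, hg⟩ := hφ
      refine ⟨(hφS x).1, ?_⟩
      rw [hg]
      exact hN.conj_mem ⟨(x : G), hHK (hR x.2).2⟩ (hR x.2).2 ⟨g, hgK⟩

/-- If the 2-fusion system of a finite group G on a Sylow 2-subgroup S is constrained, then for every subnormal subgroup H of G the 2-fusion system of H on S ∩ H is constrained. -/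
theorem result {G : Type*} [Group G] [Finite G] (S : Sylow 2 G) (hF : (Cfsg.groupFusionSystem (S : Subgroup G)).IsConstrained 2) (H : Subgroup G) (hH : H.IsSubnormal) : (Cfsg.groupFusionSystem ((S : Subgroup G).subgroupOf H)).IsConstrained 2 := by
  have : Finite ((S : Subgroup G).subgroupOf H) := inferInstance
  obtain ⟨⟨R, hR⟩, -, Q, hQn, hQc⟩ := subnormal_constrained S hF hH
  have hi := Cfsg.Agent.Fusion.isIsoAlong_subgroupSystem H (S : Subgroup G)
  obtain ⟨Q', hQ'S, rfl⟩ := hi.exists_preimage hQn.1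
  refine ⟨?_, Q', hi.isNormal hQ'S hQn, hi.isCentric hQ'S hQc⟩
  have hR' : (R : Subgroup H) = (S : Subgroup G).subgroupOf H := by
    rw [hR, Subgroup.inf_subgroupOf_right]
  rw [← hR']
  exact Cfsg.Agent.Fusion.groupFusionSystem_saturated R

end Cfsg.Agent.S5115
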