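import Cfsg.Statements.S5118
import Cfsg.Agent.Lib.Fusion.SubgroupSystem

set_option autoImplicit false
open Cfsg

namespace Cfsg.Agent.S5118

open Cfsg.Agent.Fusion Cfsg.FusionSystem
open scoped Pointwise

variable {G : Type*} [Group G] [Finite G] {p : ℕ} [Fact p.Prime]

omit [Finite G] in
theorem normalizer_sup_of {A B : Subgroup G} {g : G}
    (hA : g ∈ Subgroup.normalizer (A : Set G)) (hB : g ∈ Subgroup.normalizer (B : Set G)) :
    g ∈ Subgroup.normalizer ((A ⊔ B : Subgroup G) : Set G) := by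
  rw [Subgroup.mem_normalizer_iff]
  have h : ∀ a : G, a ∈ Subgroup.normalizer (A : Set G) → a ∈ Subgroup.normalizer (B : Set G) →
      ∀ x ∈ A ⊔ B, a * x * a⁻¹ ∈ A ⊔ B := by
    intro a ha hb x hx
    have h1 : A ⊔ B ≤ (A ⊔ B).comap (MulAut.conj a).toMonoidHom :=
      sup_le (fun y hy => Subgroup.mem_sup_left ((Subgroup.mem_normalizer_iff.1 ha y).1 hy))
        (fun y hy => Subgroup.mem_sup_right ((Subgroup.mem_normalizer_iff.1 hb y).1 hy))
    exact h1 hx
  intro x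
  refine ⟨h g hA hB x, fun hx => ?_⟩
  simpa [mul_assoc] using h g⁻¹ (inv_mem hA) (inv_mem hB) _ hx

/-- The extension condition. -/
theorem exists_normalizing_corrector (S : Sylow p G) (H : Subgroup G) [H.Normal] {h : G}
    (hh : h ∈ H) (hhT : h ∈ Subgroup.normalizer (((S : Subgroup G) ⊓ H : Subgroup G) : Set G)) :
    ∃ d ∈ Subgroup.centralizer (((S : Subgroup G) ⊓ H : Subgroup G) : Set G), d ∈ H ∧
      d * h ∈ Subgroup.normalizer
        ((centralizerIn (S : Subgroup G) ((S : Subgroup G) ⊓ H) : Subgroup G) : Set G) := by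
  set T : Subgroup G := (S : Subgroup G) ⊓ H with hTdef
  set S0 := centralizerIn (S : Subgroup G) T with hS0def
  set C : Subgroup G := H ⊓ Subgroup.centralizer (T : Set G) with hCdef
  have hTsyl := isSylowIn_of_normal S H
  have hconjT : ∀ g ∈ Subgroup.normalizer (T : Set G), ∀ c ∈ Subgroup.centralizer (T : Set G),
      g * c * g⁻¹ ∈ Subgroup.centralizer (T : Set G) := by
    intro g hg c hc
    refine Subgroup.mem_centralizer_iff.2 fun t ht => ?_
    have h1 := Subgroup.mem_centralizer_iff.1 hc _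
      ((Subgroup.mem_normalizer_iff.1 (inv_mem hg) t).1 ht)
    rw [inv_inv] at h1
    calc t * (g * c * g⁻¹) = g * (g⁻¹ * t * g * c) * g⁻¹ := by group
      _ = g * (c * (g⁻¹ * t * g)) * g⁻¹ := by rw [h1]
      _ = g * c * g⁻¹ * t := by group
  have hS0N : S0 ≤ Subgroup.normalizer (C : Set G) := by
    intro s hs
    have hsT : s ∈ Subgroup.normalizer (T : Set G) :=
      Subgroup.centralizer_le_normalizer _ hs.2
    refine Subgroup.mem_normalizer_iff.2 fun c => ⟨fun hc => ?_, fun hc => ?_⟩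
    · exact ⟨Subgroup.Normal.conj_mem ‹_› _ hc.1 s, hconjT s hsT c hc.2⟩
    · have h1 : s⁻¹ * (s * c * s⁻¹) * s⁻¹⁻¹ ∈ C :=
        ⟨Subgroup.Normal.conj_mem ‹_› _ hc.1 _, hconjT _ (inv_mem hsT) _ hc.2⟩
      simpa [mul_assoc] using h1
  set L := S0 ⊔ C with hLdef
  have hLset : (L : Set G) = (S0 : Set G) * (C : Set G) :=
    Subgroup.coe_mul_of_left_le_normalizer_right S0 C hS0N
  have hLC : L ≤ Subgroup.centralizer (T : Set G) := sup_le inf_le_right inf_le_right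
  -- `p`-subgroups of `C` lie in `T`
  have hCp : ∀ Q : Subgroup G, IsPGroup p Q → Q ≤ C → Q ≤ T := by
    intro Q hQ hQC
    have hn : Q ≤ Subgroup.normalizer (T : Set G) :=
      fun q hq => Subgroup.centralizer_le_normalizer _ (hQC hq).2
    have h1 : IsPGroup p ↥(Q ⊔ T) := hQ.to_sup_of_normal_right' (S.2.to_le inf_le_left) hn
    exact le_sup_left.trans
      (hTsyl.eq_of_le inf_le_right le_sup_right h1 (sup_le (hQC.trans inf_le_left) inf_le_right)).ge
  have hmax : ∀ R : Subgroup G, IsPGroup p R → S0 ≤ R → R ≤ L → R ≤ S0 := by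
    intro R hR hSR hRL x hx
    have hxL : x ∈ (L : Set G) := hRL hx
    rw [hLset] at hxL
    obtain ⟨s, hs, c, hc, rfl⟩ := hxL
    have hcR : c ∈ R := by simpa using R.mul_mem (R.inv_mem (hSR hs)) hx
    have hcT := hCp (R ⊓ C) (hR.to_le inf_le_left) inf_le_right ⟨hcR, hc⟩
    exact S0.mul_mem hs ⟨hcT.1, hc.2⟩
  have hconjC : ∀ s ∈ S0, h * s * h⁻¹ ∈ L := by
    intro s hs
    have h1 : h * s * h⁻¹ * s⁻¹ ∈ C := by
      refine ⟨?_, ?_⟩
      · have := H.mul_mem hh (Subgroup.Normal.conj_mem ‹_› _ (H.inv_mem hh) s)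
        simpa [mul_assoc] using this
      · exact (Subgroup.centralizer _).mul_mem (hconjT h hhT s hs.2)
          ((Subgroup.centralizer _).inv_mem hs.2)
    have h2 := L.mul_mem (Subgroup.mem_sup_right h1) (Subgroup.mem_sup_left hs)
    simpa [mul_assoc] using h2
  set R' := S0.map (MulAut.conj h).toMonoidHom with hR'def
  have hR'L : R' ≤ L := by
    rintro _ ⟨s, hs, rfl⟩
    exact hconjC s hs
  have hS0p : IsPGroup p S0 := S.2.to_le inf_le_left
  obtain ⟨P₀, hP₀⟩ := (hS0p.comap_subtype (K := L)).exists_le_sylow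
  have hP₀eq : (P₀ : Subgroup L).map L.subtype = S0 := by
    refine le_antisymm ?_ fun s hs => ⟨⟨s, Subgroup.mem_sup_left hs⟩, hP₀ hs, rfl⟩
    exact hmax _ (P₀.2.map _) (fun s hs => ⟨⟨s, Subgroup.mem_sup_left hs⟩, hP₀ hs, rfl⟩)
      (Subgroup.map_subtype_le _)
  obtain ⟨P₁, hP₁⟩ := ((hS0p.map (MulAut.conj h).toMonoidHom).comap_subtype (K := L)).exists_le_sylow
  obtain ⟨l, hl⟩ := MulAction.exists_smul_eq L P₁ P₀
  have hlmem : ∀ s ∈ S0, (l : G) * (h * s * h⁻¹) * (l : G)⁻¹ ∈ S0 := by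
    intro s hs
    have h1 : l * ⟨_, hconjC s hs⟩ * l⁻¹ ∈ (P₀ : Subgroup L) := by
      rw [← hl, Sylow.coe_subgroup_smul]
      exact Subgroup.smul_mem_pointwise_smul _ (MulAut.conj l) _ (hP₁ ⟨s, hs, rfl⟩)
    rw [← hP₀eq]
    exact ⟨_, h1, rfl⟩
  have hlset : (l : G) ∈ (S0 : Set G) * (C : Set G) := hLset ▸ l.2
  obtain ⟨s₁, hs₁, c₁, hc₁, hl'⟩ := hlset
  have hl'' : s₁ * c₁ = (l : G) := hl'
  refine ⟨c₁, hc₁.2, hc₁.1, ?_⟩
  have hsub : S0.map (MulAut.conj (c₁ * h)).toMonoidHom = S0 := by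
    refine Subgroup.eq_of_le_of_card_ge ?_ (card_map_conj S0 _).ge
    rintro _ ⟨s, hs, rfl⟩
    have h1 := S0.mul_mem (S0.mul_mem (S0.inv_mem hs₁) (hlmem s hs)) hs₁
    rw [← hl''] at h1
    have e : (MulAut.conj (c₁ * h)).toMonoidHom s =
        s₁⁻¹ * (s₁ * c₁ * (h * s * h⁻¹) * (s₁ * c₁)⁻¹) * s₁ := by
      rw [conj_apply']; group
    rw [e]
    exact h1
  refine Subgroup.mem_normalizer_iff.2 fun y => ?_
  constructor
  · intro hy
    exact hsub.le ⟨y, hy, rfl⟩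
  · intro hy
    obtain ⟨z, hz, he⟩ := hsub.ge hy
    rw [conj_apply'] at he
    rwa [← mul_left_cancel (mul_right_cancel he)]

/-- For a finite group G with Sylow p-subgroup S and a normal subgroup H, the fusion system of H on S ∩ H is a normal subsystem of the fusion system of G on S. -/
theorem result {G : Type*} [Group G] [Finite G] (p : ℕ) [Fact p.Prime] (S : Sylow p G) (H : Subgroup G) [H.Normal] : (Cfsg.fusionSystemOfSubgroup H ((S : Subgroup G) ⊓ H) inf_le_right).IsNormalIn (Cfsg.groupFusionSystem (S : Subgroup G)) p := by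
  set T : Subgroup G := (S : Subgroup G) ⊓ H with hTdef
  have hTS : T ≤ (S : Subgroup G) := inf_le_left
  have hTsyl := isSylowIn_of_normal S H
  have hautT : ∀ α ∈ (groupFusionSystem (S : Subgroup G)).autGroup T,
      ∃ g : G, ∀ x : T, ((α x : T) : G) = g * (x : G) * g⁻¹ := by
    intro α hα
    obtain ⟨g, -, hg⟩ := mem_autInducedBy_iff.1 ((group_autGroup hTS).le hα)
    exact ⟨g, hg⟩
  refine ⟨⟨subgroupSystem_saturated inf_le_right hTsyl, groupFusionSystem_saturated S,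
    ?_, ?_, ?_, ?_⟩, ?_⟩
  · rintro P φ ⟨hP, hφ, g, -, hg⟩
    exact ⟨hP.trans hTS, fun x => hTS (hφ x), g, hg⟩
  · refine ⟨hTS, ?_⟩
    rintro R hR φ ⟨-, hφ, g, hg⟩ x
    exact ⟨hφ x, hg x ▸ Subgroup.Normal.conj_mem ‹_› _ (hR x.2).2 g⟩
  · rintro P hPT φ ⟨-, hφ, k, hk, hφk⟩ α hα
    obtain ⟨g, hg⟩ := hautT α hα
    set P' := (P.subgroupOf T).map (T.subtype.comp α.toMonoidHom) with hP'def
    have hval : ∀ (x : P) (hx : φ x ∈ T),
        g * k * g⁻¹ * ((α ⟨x, hPT x.2⟩ : T) : G) * (g * k * g⁻¹)⁻¹ = ((α ⟨φ x, hx⟩ : T) : G) := by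
      intro x hx
      rw [hg, hg]
      show g * k * g⁻¹ * (g * (x : G) * g⁻¹) * (g * k * g⁻¹)⁻¹ = g * φ x * g⁻¹
      rw [hφk]
      group
    refine ⟨conjHom P' (g * k * g⁻¹), ⟨?_, ?_, g * k * g⁻¹,
      Subgroup.Normal.conj_mem ‹_› k hk g, fun y => rfl⟩, fun x hx hαx => hval x hx⟩
    · rintro _ ⟨y, -, rfl⟩
      exact (α y).2
    · rintro ⟨_, y, hy, rfl⟩
      show g * k * g⁻¹ * ((α y : T) : G) * (g * k * g⁻¹)⁻¹ ∈ T
      rw [hval ⟨y, hy⟩ (hφ _)]
      exact (α _).2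
  · rintro P hP φ ⟨-, hφ, g, hg⟩
    obtain ⟨R, hR⟩ := hTsyl
    have hfr := Sylow.normalizer_sup_eq_top R
    rw [hR, Subgroup.subgroupOf_map_subtype, inf_assoc, inf_idem] at hfr
    obtain ⟨n, hn, k, hk, hnk⟩ :=
      Subgroup.mem_sup_of_normal_right.1 (hfr ▸ Subgroup.mem_top g)
    have hnα : conjAut hn ∈ (groupFusionSystem (S : Subgroup G)).autGroup T :=
      (mem_autGroup_iff hTS).2 ⟨hTS, fun x => hTS (conjAut hn x).2, n, fun x => rfl⟩
    have hkT : ∀ x : P, k * (x : G) * k⁻¹ ∈ T := by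
      intro x
      have h1 : φ x ∈ T := ⟨hφ x, hg x ▸ Subgroup.Normal.conj_mem ‹_› _ (hP x.2).2 g⟩
      have h2 := (Subgroup.mem_normalizer_iff.1 (inv_mem hn) _).1 h1
      rw [hg, ← hnk] at h2
      have e : n⁻¹ * (n * k * (x : G) * (n * k)⁻¹) * n⁻¹⁻¹ = k * (x : G) * k⁻¹ := by group
      exact e ▸ h2
    refine ⟨conjAut hn, hnα, conjHom P k, ⟨hP, hkT, k, hk, fun x => rfl⟩, fun x hx => ?_⟩
    show φ x = n * (k * (x : G) * k⁻¹) * n⁻¹
    rw [hg, ← hnk]
    group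
  · intro α hα
    obtain ⟨-, -, k, hk, hkα⟩ := (mem_autGroup_iff le_rfl).1 hα
    have hkT : k ∈ Subgroup.normalizer (T : Set G) := mem_normalizer_of_aut hkα
    obtain ⟨d, hd, hdH, hdN⟩ := exists_normalizing_corrector S H hk hkT
    have hdkT : d * k ∈ Subgroup.normalizer (T : Set G) :=
      mul_mem (Subgroup.centralizer_le_normalizer _ hd) hkT
    have hX : d * k ∈ Subgroup.normalizer
        ((T ⊔ centralizerIn (S : Subgroup G) T : Subgroup G) : Set G) :=
      normalizer_sup_of hdkT hdN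
    have hXS : T ⊔ centralizerIn (S : Subgroup G) T ≤ (S : Subgroup G) := sup_le hTS inf_le_left
    refine ⟨conjAut hX, (mem_autGroup_iff hXS).2 ⟨hXS, fun x => hXS (conjAut hX x).2, d * k,
      fun x => rfl⟩, fun x => ?_, fun c hc => ?_⟩
    · show d * k * (x : G) * (d * k)⁻¹ = _
      have h1 := Subgroup.mem_centralizer_iff.1 hd _ (α x).2
      calc d * k * (x : G) * (d * k)⁻¹ = d * (k * (x : G) * k⁻¹) * d⁻¹ := by group
        _ = d * ((α x : T) : G) * d⁻¹ := by rw [← show ((α x : T) : G) = k * x * k⁻¹ from hkα x]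
        _ = ((α x : T) : G) * d * d⁻¹ := by rw [← h1]
        _ = _ := by group
    · have h1 := (Subgroup.mem_normalizer_iff.1 hdN _).1 hc
      have hS0 : (c : G)⁻¹ * (d * k * (c : G) * (d * k)⁻¹) ∈ centralizerIn (S : Subgroup G) T :=
        mul_mem (inv_mem hc) h1
      have hH : (c : G)⁻¹ * (d * k * (c : G) * (d * k)⁻¹) ∈ H := by
        have h2 := H.mul_mem (Subgroup.Normal.conj_mem ‹_› _ (H.mul_mem hdH hk) (c : G)⁻¹)
          (H.inv_mem (H.mul_mem hdH hk))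
        simpa [mul_assoc] using h2
      exact ⟨⟨hS0.1, hH⟩, hS0.2⟩

end Cfsg.Agent.S5118
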