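import Cfsg.Statements.S5125
import Cfsg.Agent.Lib.Fusion.NormalCriteria

set_option autoImplicit false
open Cfsg

namespace Cfsg.Agent.S5125

open Cfsg.Agent.Fusion Cfsg.FusionSystem

/-- Let F be a saturated fusion system over a finite p-group S and Q a subgroup strongly closed in F. If Q has a subgroup Q₁ that is normal in F, with Q/Q₁ abelian and Aut_F(Q₁) a p-group, then Q is normal in F. -/
theorem result {Ω : Type*} [Group Ω] {S : Subgroup Ω} [Finite S] (p : ℕ) [Fact p.Prime] (hS : IsPGroup p S) (F : Cfsg.FusionSystem S) (hF : F.IsSaturated p) (Q Q₁ : Subgroup Ω) (hQ : F.StronglyClosed Q) (hQ₁Q : Q₁ ≤ Q) (hQ₁ : F.IsNormal Q₁) (hab : ⁅Q, Q⁆ ≤ Q₁) (hAut : IsPGroup p ↥(F.autGroup Q₁)) : F.IsNormal Q := by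
  have hQS := hQ.1
  have hQ₁S := hQ₁.1
  have hn : F.IsFullyNormalized Q₁ := by
    refine ⟨hQ₁S, ?_⟩
    rintro R ⟨φ, hφ, rfl⟩
    obtain ⟨ψ, -, hψ, hψQ⟩ := hQ₁.2 Q₁ φ hφ
    rw [show φ.range = Q₁ from le_antisymm (by
        rintro _ ⟨x, rfl⟩
        exact hψQ.le ⟨_, x.2, hψ x⟩) (fun y hy => by
        obtain ⟨⟨z, hz⟩, hzQ, rfl⟩ := hψQ.ge hy
        exact ⟨⟨z, hzQ⟩, (hψ ⟨z, hzQ⟩).symm⟩)]
  obtain ⟨-, R, hR⟩ := isFullyAutomized_of_fullyNormalized hS hF hn
  have haut : ∀ α ∈ F.autGroup Q₁, α ∈ autInducedBy S Q₁ := by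
    intro α hα
    have htop : (R : Subgroup (F.autGroup Q₁)) = ⊤ :=
      (R.is_maximal' (hAut.to_subgroup ⊤) le_top).symm
    exact Subgroup.mem_subgroupOf.1
      (hR ▸ htop.symm ▸ Subgroup.mem_top (⟨α, hα⟩ : F.autGroup Q₁))
  have hnil : Group.IsNilpotent S := hS.isNilpotent
  obtain ⟨c, hc⟩ := (Subgroup.isNilpotent_iff_lowerCentralSeries S).1 hnil
  have hlS : ∀ k, S.lowerCentralSeries k ≤ S := fun k =>
    (S.lowerCentralSeries_antitone (Nat.zero_le k)).trans_eq S.lowerCentralSeries_zero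
  have hcomm : ∀ k, ∀ s ∈ S, ∀ x ∈ S.lowerCentralSeries k,
      x⁻¹ * (s * x * s⁻¹) ∈ S.lowerCentralSeries (k + 1) := by
    intro k s hs x hx
    have h1 := Subgroup.commutator_mem_commutator (Subgroup.inv_mem _ hx) hs
    rw [commutatorElement_def, inv_inv] at h1
    rw [Subgroup.lowerCentralSeries_succ]
    simpa [mul_assoc] using h1
  have hL : ∀ k, F.StronglyClosed (Q₁ ⊓ S.lowerCentralSeries k) := by
    intro k
    refine ⟨inf_le_left.trans hQ₁S, fun P hP φ hφ x => ?_⟩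
    obtain ⟨ψ, hψ, hψP, hψQ⟩ := hQ₁.2 P φ hφ
    obtain ⟨χ, hχ, hχe⟩ :
        ∃ χ ∈ F.Hom Q₁, ∀ y : Q₁, χ y = ψ (Subgroup.inclusion le_sup_right y) :=
      ⟨_, Cfsg.Agent.Fusion.restrict_mem hψ le_sup_right, fun y => rfl⟩
    have hχr : χ.range = Q₁ := le_antisymm (by
        rintro _ ⟨y, rfl⟩
        rw [hχe]
        exact map_subgroupOf_le hψQ le_sup_right y) (fun y hy => by
        obtain ⟨⟨z, hz⟩, hzQ, rfl⟩ := hψQ.ge hy
        exact ⟨⟨z, hzQ⟩, hχe _⟩)
    obtain ⟨s, hs, hsx⟩ := mem_autInducedBy_iff.1 (haut _ (toAut_mem hχ hχr))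
    have hx1 : (x : Ω) ∈ Q₁ := (hP x.2).1
    have e : φ x = s * (x : Ω) * s⁻¹ := by
      rw [← hψP x, ← hsx ⟨x, hx1⟩, coe_toAut, hχe]
      rfl
    refine ⟨?_, ?_⟩
    · have h2 : ((toAut hχ hχr ⟨x, hx1⟩ : Q₁) : Ω) ∈ Q₁ := Subtype.property _
      rwa [hsx, ← e] at h2
    · rw [e]
      have h3 := (S.lowerCentralSeries k).mul_mem (hP x.2).2
        (S.lowerCentralSeries_antitone (Nat.le_succ k) (hcomm k s hs _ (hP x.2).2))
      simpa [mul_assoc] using h3
  refine isNormal_of_chain hS hF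
    (T := fun i => if i ≤ c then Q₁ ⊓ S.lowerCentralSeries (c - i) else Q) (n := c + 1)
    (by simp [hc]) (by simp) ?_ ?_
  · intro i _
    by_cases hi : i ≤ c
    · simp only [if_pos hi]; exact hL _
    · simp only [if_neg hi]; exact hQ
  · intro i hi
    have hic : i ≤ c := by omega
    simp only [if_pos hic]
    by_cases hi' : i + 1 ≤ c
    · simp only [if_pos hi']
      refine Subgroup.commutator_le.2 fun q hq x hx => ⟨?_, ?_⟩
      · rw [commutatorElement_def]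
        exact Q₁.mul_mem
          ((Subgroup.mem_normalizer_iff.1 (le_normalizer_of_isNormal hQ₁ (hQS hq)) x).1 hx.1)
          (Q₁.inv_mem hx.1)
      · rw [show c - i = (c - (i + 1)) + 1 by omega, Subgroup.lowerCentralSeries_succ,
          Subgroup.commutator_comm]
        exact Subgroup.commutator_mem_commutator (hQS hq) hx.2
    · simp only [if_neg hi']
      rw [show c - i = 0 by omega, Subgroup.lowerCentralSeries_zero, inf_eq_left.2 hQ₁S]
      exact hab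

end Cfsg.Agent.S5125
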