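import Cfsg.Statements.S5126
import Cfsg.Agent.Lib.Fusion.ModelFacts
import Cfsg.Agent.Lib.Fusion.KNormalizer
-- import your own Cfsg.Agent.* helpers here

set_option autoImplicit false
open Cfsg Cfsg.FusionSystem Cfsg.Agent.Fusion
open Cfsg

namespace Cfsg.Agent.S5126

/-- In a saturated fusion system over a finite p-group S, the normalizer system of a fully normalized, centric, radical subgroup R is constrained, and in every model of that normalizer system the largest normal p-subgroup is the image of R. -/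
theorem result {Ω : Type*} [Group Ω] {S : Subgroup Ω} [Finite S] (p : ℕ) [Fact p.Prime] (hS : IsPGroup p S) (F : Cfsg.FusionSystem S) (hF : F.IsSaturated p) (R : Subgroup Ω) (hRn : F.IsFullyNormalized R) (hRc : F.IsCentric R) (hRr : F.IsRadical p R) (E : Cfsg.FusionSystem (Cfsg.FusionSystem.normalizerIn S R)) (hE : F.IsNormalizerSystem R E) {G : Type*} [Group G] (ι : ↥(Cfsg.FusionSystem.normalizerIn S R) →* G) : E.IsConstrained p ∧ (E.IsModel p G ι → (Cfsg.pCore p G : Subgroup G) = (R.subgroupOf (Cfsg.FusionSystem.normalizerIn S R)).map ι) := by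
  have hN : R ≤ normalizerIn S R := le_normalizerIn hRn.1
  have hEn : E.IsNormal R := by
    refine ⟨hN, fun P φ hφ => ?_⟩
    rw [hE P] at hφ
    obtain ⟨-, hP, hφN, ψ, hψ, hψe, hψR⟩ := hφ
    refine ⟨ψ, ?_, hψe, hψR⟩
    have hPR : P ⊔ R ≤ normalizerIn S R := sup_le hP hN
    rw [hE]
    have hψN : ∀ x : ↥(P ⊔ R), ψ x ∈ normalizerIn S R := by
      have h1 : P ⊔ R ≤ ((normalizerIn S R).comap ψ).map (P ⊔ R).subtype := by
        refine sup_le (fun x hx => ⟨⟨x, Subgroup.mem_sup_left hx⟩, ?_, rfl⟩)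
          fun x hx => ⟨⟨x, Subgroup.mem_sup_right hx⟩, ?_, rfl⟩
        · show ψ _ ∈ normalizerIn S R
          rw [show ψ ⟨x, Subgroup.mem_sup_left hx⟩ = φ ⟨x, hx⟩ from hψe ⟨x, hx⟩]
          exact hφN _
        · exact hN (hψR.le ⟨⟨x, Subgroup.mem_sup_right hx⟩, hx, rfl⟩)
      intro x
      obtain ⟨y, hy, hyx⟩ := h1 x.2
      rw [← Subtype.ext hyx]
      exact hy
    have hle : P ⊔ R ⊔ R ≤ P ⊔ R := sup_le le_rfl le_sup_right
    refine ⟨hψ, hPR, hψN, _, restrict_mem hψ hle, fun x => rfl, ?_⟩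
    refine le_antisymm ?_ ?_
    · rintro _ ⟨⟨x, hx⟩, hxR, rfl⟩
      exact hψR.le ⟨⟨x, Subgroup.mem_sup_right hxR⟩, hxR, rfl⟩
    · intro y hy
      obtain ⟨⟨x, hx⟩, hxR, rfl⟩ := hψR.ge hy
      exact ⟨⟨x, Subgroup.mem_sup_left hx⟩, hxR, rfl⟩
  have hEc : E.IsCentric R := by
    refine ⟨hN, fun R' hR' => ?_⟩
    obtain ⟨φ, hφ, rfl⟩ := hR'
    have : Finite ↥(normalizerIn S R) := finite_of_le inf_le_left
    rw [show φ.range = R from range_eq_of_le hφ hN
      (fun x => (stronglyClosed_of_isNormal hEn).2 R le_rfl φ hφ x) le_rfl]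
    intro x hx
    exact hRc.2 R (isConj_refl F hRn.1) ⟨hx.1.1, hx.2⟩
  have hfinN : Finite ↥(normalizerIn S R) := finite_of_le inf_le_left
  have hSN : IsPGroup p ↥(normalizerIn S R) := hS.to_le inf_le_left
  have hEsat : E.IsSaturated p := normalizerSystem_saturated hS hF hRn hE
  refine ⟨⟨hEsat, R, hEn, hEc⟩, fun hM => le_antisymm ?_ (Model.pushSub_le_pCore hSN hM hEn)⟩
  have hr := Model.pCore_le_range hM
  obtain ⟨hfin, hι, -, -⟩ := hM
  have hfinA := finite_mulAut (Ω := Ω) hRn.1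
  -- the automorphisms of `R` induced by `O_p(G)`
  let c : ↥(normalizerIn S R) →* ↥(F.autGroup R) :=
    (R.normalizerMonoidHom.comp (Subgroup.inclusion inf_le_right)).codRestrict _ fun s =>
      (mem_autGroup_iff hRn.1).2 (mem_of_conj hRn.1 s.2.1 fun _ => rfl)
  set M := ((pCore p G).comap ι).map c
  have hMn : M.Normal := by
    refine ⟨?_⟩
    rintro _ ⟨s, hs, rfl⟩ α
    obtain ⟨hα, hαr⟩ := hom_of_mem_autGroup hRn.1 α.2
    have hαE : R.subtype.comp (α : MulAut R).toMonoidHom ∈ E.Hom R := by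
      rw [hE]
      refine ⟨hα, hN, fun x => hN ((α : MulAut R) x).2, _,
        restrict_mem hα (sup_le le_rfl le_rfl : R ⊔ R ≤ R), fun x => rfl, ?_⟩
      refine le_antisymm ?_ ?_
      · rintro _ ⟨⟨x, hx⟩, -, rfl⟩
        exact ((α : MulAut R) _).2
      · intro y hy
        refine ⟨⟨((α⁻¹ : F.autGroup R) : MulAut R) ⟨y, hy⟩, Subgroup.mem_sup_left (SetLike.coe_mem _)⟩,
          (((α⁻¹ : F.autGroup R) : MulAut R) ⟨y, hy⟩).2, ?_⟩
        show (((α : MulAut R) (((α⁻¹ : F.autGroup R) : MulAut R) ⟨y, hy⟩)) : Ω) = y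
        rw [Subgroup.coe_inv, MulAut.apply_inv_self]
    obtain ⟨_hR, _hv, g, hg⟩ := (realized_hom_iff hι).1 hαE
    have hON : (pCore p G).Normal := inferInstance
    obtain ⟨y, hy⟩ := hr (hON.conj_mem _ hs g)
    refine ⟨y, show ι y ∈ pCore p G from hy ▸ hON.conj_mem _ hs g, ?_⟩
    rw [eq_mul_inv_iff_mul_eq]
    refine Subtype.ext (MulEquiv.ext fun r => Subtype.ext ?_)
    have h1 := hg r
    have h2 := hg ((c s : MulAut R) r)
    show (y : Ω) * (((α : MulAut R) r : R) : Ω) * (y : Ω)⁻¹ =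
      (((α : MulAut R) ((c s : MulAut R) r) : R) : Ω)
    refine congrArg Subtype.val (hι.1 (?_ :
      ι (y * ⟨((α : MulAut R) r : R), hN (SetLike.coe_mem _)⟩ * y⁻¹) =
        ι ⟨((α : MulAut R) ((c s : MulAut R) r) : R), hN (SetLike.coe_mem _)⟩))
    rw [map_mul, map_mul, map_inv, hy]
    refine Eq.trans ?_ h2.symm
    rw [show ι ⟨((α : MulAut R) r : R), hN (SetLike.coe_mem _)⟩ = g * ι ⟨(r : Ω), hN r.2⟩ * g⁻¹ from h1,
      show (⟨(((c s : MulAut R) r : R) : Ω), hN (SetLike.coe_mem _)⟩ : ↥(normalizerIn S R)) =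
        s * ⟨(r : Ω), hN r.2⟩ * s⁻¹ from rfl, map_mul, map_mul, map_inv]
    group
  have hMp : IsPGroup p M := (hSN.to_subgroup _).map c
  intro x hx
  obtain ⟨s, rfl⟩ := hr hx
  have h1 : c s ∈ pCore p (F.autGroup R) := (le_sSup (show M ∈ {N : Subgroup (F.autGroup R) | N.Normal ∧ IsPGroup p N} from ⟨hMn, hMp⟩)) ⟨s, hx, rfl⟩
  have h2 : (c s : MulAut R) ∈ Inn R := hRr.2.le ⟨c s, h1, rfl⟩
  obtain ⟨r, hr'⟩ := h2
  refine ⟨s, ?_, rfl⟩
  have h3 : (r : Ω)⁻¹ * (s : Ω) ∈ centralizerIn S R := by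
    refine mem_centralizerIn.2 ⟨S.mul_mem (S.inv_mem (hRn.1 r.2)) s.2.1, fun x hx => ?_⟩
    have h4 : (r : Ω) * x * (r : Ω)⁻¹ = (s : Ω) * x * (s : Ω)⁻¹ :=
      congrArg (fun a : MulAut R => ((a ⟨x, hx⟩ : R) : Ω)) hr'
    calc x * ((r : Ω)⁻¹ * s) = (r : Ω)⁻¹ * ((r : Ω) * x * (r : Ω)⁻¹) * s := by group
      _ = (r : Ω)⁻¹ * s * x := by rw [h4]; group
  have h5 := R.mul_mem r.2 (hRc.2 R (isConj_refl F hRn.1) h3)
  rwa [mul_inv_cancel_left] at h5

end Cfsg.Agent.S5126
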