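import Cfsg.Statements.S5133
import Cfsg.Agent.Lib.Fusion.Factor

set_option autoImplicit false
open Cfsg

namespace Cfsg.Agent.S5133

open Cfsg.Agent.Fusion Cfsg.FusionSystem

/-- Let F be a saturated fusion system over a finite p-group S, F' a fusion system over S', and α : S → S' a surjective morphism of fusion systems from F to F' (α maps S onto S' and every map of F' with source P' ≤ S' is induced along α by a map of F on the full preimage of P'). Then F' is saturated. -/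
theorem result {Ω : Type*} [Group Ω] {S : Subgroup Ω} [Finite S] (p : ℕ) [Fact p.Prime] (hS : IsPGroup p S) (F : Cfsg.FusionSystem S) (hF : F.IsSaturated p) {Ω' : Type*} [Group Ω'] {S' : Subgroup Ω'} (F' : Cfsg.FusionSystem S') (α : S →* Ω') (hα : F.IsSurjectiveMorphism F' α) : F'.IsSaturated p := by
  obtain ⟨⟨hαS, hmor⟩, hr, hsurj⟩ := hα
  set S₀ : Subgroup Ω := (α.ker).map S.subtype with hS₀def
  have hS₀S : S₀ ≤ S := Subgroup.map_subtype_le _
  have hker : ∀ s : S, α s = 1 ↔ (s : Ω) ∈ S₀ := fun s => by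
    rw [hS₀def, Subgroup.mem_map]
    exact ⟨fun h => ⟨s, h, rfl⟩, fun ⟨t, ht, hts⟩ => Subtype.ext hts ▸ ht⟩
  have hS₀ : F.StronglyClosed S₀ := by
    refine ⟨hS₀S, fun R hR φ hφ x => ?_⟩
    obtain ⟨φ', -, hP, hφS, hP', h⟩ := hmor R φ hφ
    have h1 := h x
    rw [show (⟨α ⟨x, hP x.2⟩, hP' x⟩ : imageAlong α R) = 1 from
      Subtype.ext ((hker ⟨x, hP x.2⟩).2 (hR x.2)), map_one] at h1
    exact (hker ⟨φ x, hφS x⟩).1 h1.symm
  refine isSaturated_factorSystem (θ := α) hS hF hS₀ ⟨hS₀S, hker, hr, fun P' φ' => ⟨fun hφ' => ?_, ?_⟩⟩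
  · exact ⟨(F'.le_of_mem hφ').1, hsurj P' (F'.le_of_mem hφ').1 φ' hφ'⟩
  · rintro ⟨hP', φ, hφ, hP, hφS, hP2, h⟩
    obtain ⟨ψ', hψ', hind⟩ : ∃ ψ' ∈ F'.Hom P', InducedAlong α φ ψ' := by
      have h1 := hmor _ φ hφ
      rwa [image_preimage hr hP'] at h1
    obtain ⟨_, _, _, h'⟩ := hind
    have he : φ' = ψ' := MonoidHom.ext fun y => by
      obtain ⟨s, hs⟩ := hr.ge (hP' y.2)
      have hsP : (s : Ω) ∈ preimageAlong α P' := mem_preimageAlong.2 ⟨s.2, hs ▸ y.2⟩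
      have e : y = ⟨α ⟨s, hP hsP⟩, hP2 ⟨s, hsP⟩⟩ := Subtype.ext hs.symm
      rw [e]
      exact (h ⟨s, hsP⟩).trans (h' ⟨s, hsP⟩).symm
    exact he ▸ hψ'

end Cfsg.Agent.S5133
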