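import Cfsg.Statements.S5135
import Cfsg.Agent.Lib.Fusion.QuotientLift

set_option autoImplicit false
open Cfsg

namespace Cfsg.Agent.S5135

/-- Let G be a finite group, S a Sylow p-subgroup and H a normal subgroup of G. Then the fusion system of G/H on the image SH/H of S is the factor system of the fusion system of G on S modulo S ∩ H, read through the quotient map restricted to S: for each subgroup P' of SH/H, the conjugation maps by elements of G/H defined on P' with values in SH/H are exactly the homomorphisms induced by the conjugation maps by elements of G defined on the full preimage of P' in S with values in S. -/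
theorem result {G : Type*} [Group G] [Finite G] (p : ℕ) [Fact p.Prime] (S : Sylow p G) (H : Subgroup G) [H.Normal] : (Cfsg.groupFusionSystem (S : Subgroup G)).IsFactorSystem ((S : Subgroup G) ⊓ H) ((QuotientGroup.mk' H).comp (S : Subgroup G).subtype) (Cfsg.groupFusionSystem ((S : Subgroup G).map (QuotientGroup.mk' H))) := by
  refine ⟨inf_le_left, fun s => ?_, ?_, fun P' φ' => ?_⟩
  · rw [MonoidHom.comp_apply, QuotientGroup.mk'_apply, QuotientGroup.eq_one_iff]
    exact ⟨fun h => ⟨s.2, h⟩, fun h => h.2⟩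
  · rw [MonoidHom.range_comp, Subgroup.range_subtype]
  · set θ := (QuotientGroup.mk' H).comp (S : Subgroup G).subtype with hθ
    have hpre : ∀ x ∈ Cfsg.FusionSystem.preimageAlong θ P', x ∈ (S : Subgroup G) ∧ (QuotientGroup.mk x : G ⧸ H) ∈ P' := by
      rintro _ ⟨y, hy, rfl⟩
      exact ⟨y.2, hy⟩
    constructor
    · rintro ⟨hP', hφ', γ, hγ⟩
      obtain ⟨g, rfl⟩ := QuotientGroup.mk_surjective γ
      obtain ⟨h, hh, hS⟩ := Cfsg.Agent.Fusion.QuotientLift.exists_mem_conj_le S H
        (P := Cfsg.FusionSystem.preimageAlong θ P') (S.2.to_le fun x hx => (hpre x hx).1) g (fun x hx => by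
          have := hφ' ⟨_, (hpre x hx).2⟩
          rw [hγ] at this
          simpa using this)
      refine ⟨hP', Cfsg.conjHom _ (h * g), ⟨fun x hx => (hpre x hx).1, fun x => hS x x.2, h * g, fun x => rfl⟩,
        fun x hx => (hpre x hx).1, fun x => hS x x.2, fun x => (hpre x x.2).2, fun x => ?_⟩
      have h1 : (QuotientGroup.mk h : G ⧸ H) = 1 := (QuotientGroup.eq_one_iff h).mpr hh
      rw [hγ]
      show _ = (QuotientGroup.mk ((h * g) * (x : G) * (h * g)⁻¹) : G ⧸ H)
      simp [h1, hθ]
    · rintro ⟨hP', φ, ⟨-, hφS, g, hg⟩, hP, hφ, hmem, hind⟩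
      have key : ∀ y : P', ∃ x : Cfsg.FusionSystem.preimageAlong θ P',
          (QuotientGroup.mk (x : G) : G ⧸ H) = (y : G ⧸ H) := by
        intro y
        obtain ⟨s, hs, hsy⟩ := hP' y.2
        exact ⟨⟨s, ⟨⟨s, hs⟩, show θ ⟨s, hs⟩ ∈ P' from hsy.symm ▸ y.2, rfl⟩⟩, hsy⟩
      have hval : ∀ (y : P') (x : Cfsg.FusionSystem.preimageAlong θ P'),
          (QuotientGroup.mk (x : G) : G ⧸ H) = (y : G ⧸ H) → φ' y = (QuotientGroup.mk (φ x) : G ⧸ H) := by
        intro y x hxy
        have := hind x
        rw [show (⟨θ ⟨x, hP x.2⟩, hmem x⟩ : P') = y from Subtype.ext hxy] at this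
        exact this
      refine ⟨hP', fun y => ?_, (QuotientGroup.mk g : G ⧸ H), fun y => ?_⟩ <;> obtain ⟨x, hx⟩ := key y <;>
        rw [hval y x hx]
      · exact ⟨φ x, hφ x, rfl⟩
      · rw [hg, ← hx]
        simp

end Cfsg.Agent.S5135
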