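import Cfsg.Statements.S5136
import Cfsg.Agent.Lib.Fusion.Basic

set_option autoImplicit false
open Cfsg

namespace Cfsg.Agent.S5136

open Cfsg.FusionSystem Cfsg.Agent.Fusion

variable {A B : Type*} [Group A] [Group B] {S : Subgroup A} {T : Subgroup B}
  (F : Cfsg.FusionSystem S) (K : Cfsg.FusionSystem T)

/-- The maps of the product system. -/
def prodHom (P : Subgroup (A × B)) : Set (P →* A × B) :=
  {φ | P ≤ S.prod T ∧ ∃ φ₁ ∈ F.Hom (P.map (MonoidHom.fst A B)), ∃ φ₂ ∈ K.Hom (P.map (MonoidHom.snd A B)),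
    ∀ (x : P) (h₁ : (x : A × B).1 ∈ P.map (MonoidHom.fst A B)) (h₂ : (x : A × B).2 ∈ P.map (MonoidHom.snd A B)),
      φ x = (φ₁ ⟨(x : A × B).1, h₁⟩, φ₂ ⟨(x : A × B).2, h₂⟩)}

theorem m1 {P : Subgroup (A × B)} (x : P) : (x : A × B).1 ∈ P.map (MonoidHom.fst A B) := ⟨_, x.2, rfl⟩
theorem m2 {P : Subgroup (A × B)} (x : P) : (x : A × B).2 ∈ P.map (MonoidHom.snd A B) := ⟨_, x.2, rfl⟩

variable {F K}

theorem val {P : Subgroup (A × B)} {φ : P →* A × B} {φ₁ : P.map (MonoidHom.fst A B) →* A}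
    {φ₂ : P.map (MonoidHom.snd A B) →* B}
    (h : ∀ (x : P) (h₁ : (x : A × B).1 ∈ P.map (MonoidHom.fst A B)) (h₂ : (x : A × B).2 ∈ P.map (MonoidHom.snd A B)),
      φ x = (φ₁ ⟨(x : A × B).1, h₁⟩, φ₂ ⟨(x : A × B).2, h₂⟩)) (x : P) :
    φ x = (φ₁ ⟨_, m1 x⟩, φ₂ ⟨_, m2 x⟩) := h x _ _

theorem injective_of_prodHom {P : Subgroup (A × B)} {φ : P →* A × B} (hφ : φ ∈ prodHom F K P) :
    Function.Injective φ := by
  obtain ⟨-, φ₁, h₁, φ₂, h₂, h⟩ := hφ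
  intro x y hxy
  rw [val h x, val h y] at hxy
  have e1 := F.injective_of_mem h₁ (congrArg Prod.fst hxy)
  have e2 := K.injective_of_mem h₂ (congrArg Prod.snd hxy)
  exact Subtype.ext (Prod.ext (congrArg Subtype.val e1) (congrArg Subtype.val e2))

/-- The product system. -/
def prodSystem (F : Cfsg.FusionSystem S) (K : Cfsg.FusionSystem T) : Cfsg.FusionSystem (S.prod T) where
  Hom := prodHom F K
  le_of_mem := by
    rintro P φ ⟨hP, φ₁, h₁, φ₂, h₂, h⟩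
    refine ⟨hP, fun x => ?_⟩
    rw [val h x]
    exact ⟨apply_mem h₁ _, apply_mem h₂ _⟩
  injective_of_mem := injective_of_prodHom
  conj_mem := by
    intro P g hP hg
    refine ⟨hP, Cfsg.conjHom _ g.1, F.conj_mem ?_ hg.1, Cfsg.conjHom _ g.2, K.conj_mem ?_ hg.2,
      fun x _ _ => rfl⟩
    · rintro _ ⟨x, hx, rfl⟩; exact (hP hx).1
    · rintro _ ⟨x, hx, rfl⟩; exact (hP hx).2
  comp_mem := by
    rintro P Q φ ψ ⟨hP, φ₁, h₁, φ₂, h₂, h⟩ ⟨-, ψ₁, k₁, ψ₂, k₂, k⟩ hQ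
    have e₁ : ∀ y, φ₁ y ∈ Q.map (MonoidHom.fst A B) := by
      rintro ⟨_, x, hx, rfl⟩
      exact ⟨φ ⟨x, hx⟩, hQ _, congrArg Prod.fst (val h ⟨x, hx⟩)⟩
    have e₂ : ∀ y, φ₂ y ∈ Q.map (MonoidHom.snd A B) := by
      rintro ⟨_, x, hx, rfl⟩
      exact ⟨φ ⟨x, hx⟩, hQ _, congrArg Prod.snd (val h ⟨x, hx⟩)⟩
    refine ⟨hP, _, F.comp_mem h₁ k₁ e₁, _, K.comp_mem h₂ k₂ e₂, fun x p₁ p₂ => ?_⟩
    show ψ ⟨φ x, hQ x⟩ = _
    rw [val k ⟨φ x, hQ x⟩]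
    exact Prod.ext (congrArg ψ₁ (Subtype.ext (congrArg Prod.fst (h x p₁ p₂))))
      (congrArg ψ₂ (Subtype.ext (congrArg Prod.snd (h x p₁ p₂))))
  inv_mem := by
    intro P φ hφ
    obtain ⟨hP, φ₁, h₁, φ₂, h₂, h⟩ := hφ
    have hφ : φ ∈ prodHom F K P := ⟨hP, φ₁, h₁, φ₂, h₂, h⟩
    have r₁ : φ₁.range = φ.range.map (MonoidHom.fst A B) := by
      apply le_antisymm
      · rintro _ ⟨⟨_, x, hx, rfl⟩, rfl⟩
        exact ⟨_, ⟨⟨x, hx⟩, rfl⟩, congrArg Prod.fst (val h ⟨x, hx⟩)⟩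
      · rintro _ ⟨_, ⟨x, rfl⟩, rfl⟩
        exact ⟨_, (congrArg Prod.fst (val h x)).symm⟩
    have r₂ : φ₂.range = φ.range.map (MonoidHom.snd A B) := by
      apply le_antisymm
      · rintro _ ⟨⟨_, x, hx, rfl⟩, rfl⟩
        exact ⟨_, ⟨⟨x, hx⟩, rfl⟩, congrArg Prod.snd (val h ⟨x, hx⟩)⟩
      · rintro _ ⟨_, ⟨x, rfl⟩, rfl⟩
        exact ⟨_, (congrArg Prod.snd (val h x)).symm⟩
    obtain ⟨ψ₁, k₁, -, i₁, -⟩ := exists_inverse h₁ r₁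
    obtain ⟨ψ₂, k₂, -, i₂, -⟩ := exists_inverse h₂ r₂
    let e := MonoidHom.ofInjective (injective_of_prodHom hφ)
    have he : ∀ x : P, e.symm ⟨φ x, x, rfl⟩ = x := fun x => e.injective (by rw [e.apply_symm_apply]; rfl)
    refine ⟨P.subtype.comp e.symm.toMonoidHom, ⟨?_, ψ₁, k₁, ψ₂, k₂, ?_⟩, fun x => congrArg Subtype.val (he x)⟩
    · rintro _ ⟨x, rfl⟩
      rw [val h x]
      exact ⟨apply_mem h₁ _, apply_mem h₂ _⟩
    · rintro ⟨_, x, rfl⟩ p₁ p₂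
      refine (congrArg Subtype.val (he x)).trans (Prod.ext ?_ ?_)
      · have hx : (φ x).1 = φ₁ ⟨_, m1 x⟩ := congrArg Prod.fst (val h x)
        exact (i₁ ⟨_, m1 x⟩ (hx ▸ p₁)).symm.trans (congrArg ψ₁ (Subtype.ext hx.symm))
      · have hx : (φ x).2 = φ₂ ⟨_, m2 x⟩ := congrArg Prod.snd (val h x)
        exact (i₂ ⟨_, m2 x⟩ (hx ▸ p₂)).symm.trans (congrArg ψ₂ (Subtype.ext hx.symm))

/-- Let F₁ and F₂ be fusion systems over finite p-groups S₁ and S₂ (inside ambient groups Ω₁ and Ω₂). Then their direct product exists: there is a fusion system over S₁ × S₂ inside Ω₁ × Ω₂ whose maps with source P ≤ S₁ × S₂ are exactly the restrictions to P of the homomorphisms (x₁, x₂) ↦ (φ₁ x₁, φ₂ x₂) with φ₁ a map of F₁ on the first projection of P and φ₂ a map of F₂ on the second projection. -/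
theorem result {Ω₁ Ω₂ : Type*} [Group Ω₁] [Group Ω₂] {S₁ : Subgroup Ω₁} {S₂ : Subgroup Ω₂} [Finite S₁] [Finite S₂] (p : ℕ) [Fact p.Prime] (h₁ : IsPGroup p S₁) (h₂ : IsPGroup p S₂) (F₁ : Cfsg.FusionSystem S₁) (F₂ : Cfsg.FusionSystem S₂) : ∃ E : Cfsg.FusionSystem (S₁.prod S₂), Cfsg.FusionSystem.IsProductSystem F₁ F₂ E := by
  exact ⟨prodSystem F₁ F₂, fun P φ => Iff.rfl⟩

end Cfsg.Agent.S5136
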