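import Cfsg.Statements.S5138
import Cfsg.Agent.Lib.Fusion.CentralProductSystem
-- import your own Cfsg.Agent.* helpers here

set_option autoImplicit false
open Cfsg

open Cfsg.FusionSystem Cfsg.Agent.Fusion Cfsg.Agent.Fusion.CentralProductSystem

namespace Cfsg.Agent.S5138

/-- Let F be a saturated fusion system over a finite p-group S and E₁, E₂ normal subsystems over T₁, T₂ with [T₁, T₂] = 1. Then there is a normal subsystem of F over T₁T₂ which, if moreover T₁ ∩ T₂ lies in the centre of E₁ and in the centre of E₂, is a central product of E₁ and E₂ (the factor system of a direct product of E₁ and E₂ modulo a subgroup of its centre meeting both factors trivially). -/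
theorem result {Ω : Type*} [Group Ω] {S : Subgroup Ω} [Finite S] (p : ℕ) [Fact p.Prime] (hS : IsPGroup p S) (F : Cfsg.FusionSystem S) (hF : F.IsSaturated p) {T₁ T₂ : Subgroup Ω} (E₁ : Cfsg.FusionSystem T₁) (E₂ : Cfsg.FusionSystem T₂) (hE₁ : E₁.IsNormalIn F p) (hE₂ : E₂.IsNormalIn F p) (hc : ⁅T₁, T₂⁆ = ⊥) : ∃ D : Cfsg.FusionSystem (T₁ ⊔ T₂), D.IsNormalIn F p ∧ (T₁ ⊓ T₂ ≤ E₁.center → T₁ ⊓ T₂ ≤ E₂.center → Cfsg.FusionSystem.IsCentralProductOf E₁ E₂ D) := by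
  have hcomm : ∀ a ∈ T₁, ∀ b ∈ T₂, a * b = b * a := fun a ha b hb =>
    ((Subgroup.mem_centralizer_iff.1 (Subgroup.commutator_eq_bot_iff_le_centralizer.1 hc ha)) b hb).symm
  by_cases hcen : T₁ ⊓ T₂ ≤ E₁.center ∧ T₁ ⊓ T₂ ≤ E₂.center
  · have h : Pair F E₁ E₂ p := ⟨hS, hE₁, hE₂, hcomm, hcen.1, hcen.2⟩
    exact ⟨h.sys, h.isNormalIn, fun _ _ => h.isCentralProductOf⟩
  have hZ : F.StronglyClosed (T₁ ⊓ T₂) :=
    ⟨inf_le_left.trans hE₁.1.2.2.2.1.1, fun R hR φ hφ x =>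
      ⟨hE₁.1.2.2.2.1.2 R (hR.trans inf_le_left) φ hφ x,
        hE₂.1.2.2.2.1.2 R (hR.trans inf_le_right) φ hφ x⟩⟩
  obtain ⟨D₁, hD₁, hc₁⟩ := exists_normal_central hS hE₁ hZ inf_le_left
    fun z hz t ht => (hcomm t ht z hz.2).symm
  obtain ⟨D₂, hD₂, hc₂⟩ := exists_normal_central hS hE₂ hZ inf_le_right
    fun z hz t ht => hcomm z hz.1 t ht
  have h : Pair F D₁ D₂ p := ⟨hS, hD₁, hD₂, hcomm, hc₁, hc₂⟩
  exact ⟨h.sys, h.isNormalIn, fun h1 h2 => absurd ⟨h1, h2⟩ hcen⟩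

end Cfsg.Agent.S5138
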