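import Cfsg.Statements.S5141
import Cfsg.Agent.Lib.Fusion.ResidualNormal

set_option autoImplicit false
open Cfsg

namespace Cfsg.Agent.S5141

/-- Let F be a saturated fusion system over a finite p-group S and E a weakly normal subsystem of F over T. Then the p'-residual subsystem of E (the least saturated subsystem of E over T of index prime to p) is normal in F. -/
theorem result {Ω : Type*} [Group Ω] {S : Subgroup Ω} [Finite S] (p : ℕ) [Fact p.Prime] (hS : IsPGroup p S) (F : Cfsg.FusionSystem S) (hF : F.IsSaturated p) {T : Subgroup Ω} (E : Cfsg.FusionSystem T) (hE : E.IsWeaklyNormalIn F p) (D : Cfsg.FusionSystem T) (hD : E.IsPPrimeResidual p D) : D.IsNormalIn F p := by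
  have hTS := hE.2.2.2.1.1
  have := Cfsg.Agent.Fusion.finite_of_le (Ω := Ω) hTS
  have hhom := Cfsg.Agent.Fusion.PPrimeResidual.hom_eq_residual (hS.to_le hTS) hE.1 hD
  have heq : D = Cfsg.Agent.Fusion.PPrimeResidual.residual E p := by
    have h : ∀ A B : Cfsg.FusionSystem T, (∀ P, A.Hom P = B.Hom P) → A = B := by
      rintro ⟨H₁, _, _, _, _, _⟩ ⟨H₂, _, _, _, _, _⟩ h
      obtain rfl : H₁ = H₂ := funext h
      rfl
    exact h _ _ hhom
  exact heq ▸ Cfsg.Agent.Fusion.ResidualNormal.isNormalIn_residual hS hE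

end Cfsg.Agent.S5141
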