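import Cfsg.Statements.S5145
-- import your own Cfsg.Agent.* helpers here

set_option autoImplicit false
open Cfsg

namespace Cfsg.Agent.S5145

theorem normal_bot {Ω : Type*} [Group Ω] {S : Subgroup Ω} (F : Cfsg.FusionSystem S) :
    F.IsNormal ⊥ := by
  refine ⟨bot_le, fun P φ hφ => ?_⟩
  have hmem : ∀ Q : Subgroup Ω, Q = P → ∀ h : P ≤ Q, ∃ ψ ∈ F.Hom Q,
      ∀ x : P, ψ (Subgroup.inclusion h x) = φ x := by
    rintro Q rfl h
    exact ⟨φ, hφ, fun x => congrArg φ (Subtype.ext rfl)⟩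
  obtain ⟨ψ, hψ, h1⟩ := hmem (P ⊔ ⊥) (sup_bot_eq P) le_sup_left
  refine ⟨ψ, hψ, h1, ?_⟩
  rw [Subgroup.bot_subgroupOf, Subgroup.map_bot]

theorem image_eq {Ω : Type*} [Group Ω] {R R' A : Subgroup Ω} (h : R' ≤ R) (hA : A ≤ R')
    (χ : R →* Ω) (ψ : R' →* Ω) (he : ∀ x : R', χ (Subgroup.inclusion h x) = ψ x)
    (hψ : (A.subgroupOf R').map ψ = A) : (A.subgroupOf R).map χ = A := by
  apply le_antisymm
  · rintro _ ⟨x, hx, rfl⟩
    have : χ x = ψ ⟨x, hA hx⟩ := by rw [← he]; rfl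
    rw [this]
    have hmem : ψ ⟨x, hA hx⟩ ∈ (A.subgroupOf R').map ψ := ⟨_, hx, rfl⟩
    exact hψ.le hmem
  · intro a ha
    rw [← hψ] at ha
    obtain ⟨x, hx, rfl⟩ := ha
    exact ⟨Subgroup.inclusion h x, hx, he x⟩

theorem normal_sup {Ω : Type*} [Group Ω] {S : Subgroup Ω} (F : Cfsg.FusionSystem S)
    {A B : Subgroup Ω} (hA : F.IsNormal A) (hB : F.IsNormal B) : F.IsNormal (A ⊔ B) := by
  refine ⟨sup_le hA.1 hB.1, fun P φ hφ => ?_⟩
  obtain ⟨ψ, hψ, hψP, hψA⟩ := hA.2 P φ hφ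
  obtain ⟨χ, hχ, hχP, hχB⟩ := hB.2 (P ⊔ A) ψ hψ
  have key : ∀ R : Subgroup Ω, R = P ⊔ A ⊔ B → ∀ (h₁ : P ≤ R), ∃ ξ ∈ F.Hom R,
      (∀ x : P, ξ (Subgroup.inclusion h₁ x) = φ x) ∧
      ((A ⊔ B).subgroupOf R).map ξ = A ⊔ B := by
    rintro R rfl h₁
    refine ⟨χ, hχ, fun x => ?_, ?_⟩
    · rw [show Subgroup.inclusion h₁ x = Subgroup.inclusion (le_sup_left : P ⊔ A ≤ P ⊔ A ⊔ B)
        (Subgroup.inclusion (le_sup_left : P ≤ P ⊔ A) x) from Subtype.ext rfl, hχP, hψP]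
    · rw [Subgroup.subgroupOf_sup (le_sup_right.trans le_sup_left) le_sup_right, Subgroup.map_sup,
        hχB, image_eq le_sup_left le_sup_right χ ψ hχP hψA]
  exact key (P ⊔ (A ⊔ B)) (sup_assoc P A B).symm le_sup_left

theorem finite_le {Ω : Type*} [Group Ω] (S : Subgroup Ω) [Finite S] :
    {Q : Subgroup Ω | Q ≤ S}.Finite := by
  refine Set.Finite.subset (Set.finite_range (fun K : Subgroup S => K.map S.subtype)) ?_
  intro Q hQ
  exact ⟨Q.subgroupOf S, Subgroup.map_subgroupOf_eq_of_le hQ⟩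

/-- For a fusion system over a finite subgroup S, the join of all subgroups normal in the system is itself normal in the system, hence its largest normal subgroup. -/
theorem result {Ω : Type*} [Group Ω] {S : Subgroup Ω} [Finite S] (F : Cfsg.FusionSystem S) : F.IsNormal F.core := by
  have hfin : {Q : Subgroup Ω | F.IsNormal Q}.Finite :=
    (finite_le S).subset fun Q hQ => hQ.1
  have : sSup {Q : Subgroup Ω | F.IsNormal Q} = hfin.toFinset.sup id := by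
    rw [Finset.sup_id_eq_sSup, Set.Finite.coe_toFinset]
  show F.IsNormal (sSup _)
  rw [this]
  exact Finset.sup_induction (p := F.IsNormal) (normal_bot F)
    (fun a ha b hb => normal_sup F ha hb) (fun Q hQ => hfin.mem_toFinset.mp hQ)

end Cfsg.Agent.S5145
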