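import Cfsg.Statements.S5152
import Cfsg.Agent.Lib.Fusion.CentralizerType
import Cfsg.Agent.S5146
import Cfsg.Prelude.Def_FusionComponents

set_option autoImplicit false
open Cfsg

namespace Cfsg.Agent.S5152

/-- Dichotomy for saturated fusion systems: a saturated fusion system over a finite p-group is of characteristic p-type (the normalizer system of every nontrivial fully normalized subgroup is constrained) or of component type (the centralizer system of some fully normalized subgroup of order p has a component). -/
theorem result {Ω : Type*} [Group Ω] {S : Subgroup Ω} [Finite S] (p : ℕ) [Fact p.Prime] (hS : IsPGroup p S) (F : Cfsg.FusionSystem S) (hF : F.IsSaturated p) : F.IsOfCharacteristicPType p ∨ F.IsOfComponentType p := by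
  by_cases hyp : Agent.Fusion.CentralizerType.ConstrainedOrderP F p
  · exact Or.inl (Agent.Fusion.CentralizerType.isOfCharacteristicPType hS hF hyp)
  · right
    simp only [Agent.Fusion.CentralizerType.ConstrainedOrderP, not_forall] at hyp
    obtain ⟨X, hXp, hX, C, hC, hnc⟩ := hyp
    have hle := Agent.Fusion.centralizerIn_le S X
    have := Agent.Fusion.finite_of_le (Ω := Ω) hle
    have hCs := Agent.Fusion.centralizerSystem_saturated hS hF
      (Agent.Fusion.isFullyCentralized_of_fullyNormalized hS hF hX) hC
    exact ⟨X, hXp, hX, C, hC,
      not_not.1 fun h => hnc ((S5146.result p (hS.to_le hle) C hCs).2 h)⟩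

end Cfsg.Agent.S5152
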