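import Cfsg.Statements.S5153
import Cfsg.Agent.Lib.Fusion.Saturated

set_option autoImplicit false
open Cfsg

namespace Cfsg.Agent.S5153

open Cfsg.FusionSystem Cfsg.Agent.Fusion

variable {Ω : Type*} [Group Ω]

theorem le_of_subnormal {T S : Subgroup Ω} {E : Cfsg.FusionSystem T} {F : Cfsg.FusionSystem S} {p : ℕ}
    (h : E.IsSubnormalIn F p) : T ≤ S := by
  induction h with
  | refl => exact le_rfl
  | step _ hn ih =>
    exact ih.trans (dom_le (hn.1.2.2.1 _ (subtype_mem _ le_rfl)))

theorem step_fully {U S : Subgroup Ω} [Finite S] {p : ℕ} [Fact p.Prime] (hS : IsPGroup p S)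
    {D : Cfsg.FusionSystem U} {F : Cfsg.FusionSystem S} (hF : F.IsSaturated p) (hD : D.IsInvariantIn F)
    {P : Subgroup Ω} (hPU : P ≤ U) (hP : F.IsFullyNormalized P) : D.IsFullyNormalized P := by
  refine ⟨hPU, fun Q hQ => ?_⟩
  obtain ⟨hsub, hclosed, -⟩ := hD
  obtain ⟨φ, hφ, hr⟩ := isConj_symm hQ
  have hconj : F.IsConj Q P := ⟨φ, hsub _ hφ, hr⟩
  obtain ⟨ψ, hψ, hmem, -⟩ := exists_hom_fullyNormalized hS hF hP hconj
  have hle : normalizerIn U Q ≤ normalizerIn S Q := inf_le_inf_right _ hclosed.1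
  have hU : ∀ g : normalizerIn U Q, ψ (Subgroup.inclusion hle g) ∈ normalizerIn U P := fun g =>
    ⟨hclosed.2 _ inf_le_left _ (restrict_mem hψ hle) g, (Subgroup.mem_inf.mp (hmem _)).2⟩
  have := finite_of_le ((normalizerIn_le U P).trans hclosed.1)
  refine Nat.card_le_card_of_injective (fun g => (⟨_, hU g⟩ : normalizerIn U P)) fun a b h => ?_
  exact Subgroup.inclusion_injective hle (F.injective_of_mem hψ (congrArg Subtype.val h))

theorem subnormal_fully {T S : Subgroup Ω} {E : Cfsg.FusionSystem T} {F : Cfsg.FusionSystem S} {p : ℕ}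
    (h : E.IsSubnormalIn F p) : Fact p.Prime → Finite S → IsPGroup p S → F.IsSaturated p →
    ∀ P : Subgroup Ω, P ≤ T → F.IsFullyNormalized P → E.IsFullyNormalized P := by
  induction h with
  | refl => exact fun _ _ _ _ P _ hP => hP
  | step hE hn ih =>
    intro hprime hfin hS hF P hPT hP
    have hle := hn.1.2.2.2.1.1
    exact ih hprime (finite_of_le hle) (hS.to_le hle) hn.1.1 P hPT
      (step_fully hS hF hn.1.2.2 (hPT.trans (le_of_subnormal hE)) hP)

/-- Let F be a saturated fusion system over a finite p-group S and E a subnormal subsystem of F over T. Then every subgroup of T that is fully normalized in F is fully normalized in E. -/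
theorem result {Ω : Type*} [Group Ω] {S : Subgroup Ω} [Finite S] (p : ℕ) [Fact p.Prime] (hS : IsPGroup p S) (F : Cfsg.FusionSystem S) (hF : F.IsSaturated p) {T : Subgroup Ω} (E : Cfsg.FusionSystem T) (hE : E.IsSubnormalIn F p) (P : Subgroup Ω) (hPT : P ≤ T) (hP : F.IsFullyNormalized P) : E.IsFullyNormalized P := by
  exact subnormal_fully hE inferInstance inferInstance hS hF P hPT hP

end Cfsg.Agent.S5153
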