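import Cfsg.Statements.S5156
import Cfsg.Agent.Lib.Fusion.ModelResidual
import Cfsg.Agent.Lib.Fusion.ConstrainedExtensions
import Cfsg.Agent.Lib.Fusion.Model
-- import your own Cfsg.Agent.* helpers here

set_option autoImplicit false
universe u
open Cfsg

namespace Cfsg.Agent.S5156

open Cfsg.FusionSystem Cfsg.Agent.Fusion

universe v
variable {Ω : Type v} [Group Ω] {p : ℕ}

theorem eq_of_hom_eq {S : Subgroup Ω} {A B : Cfsg.FusionSystem S} (h : ∀ P, A.Hom P = B.Hom P) :
    A = B := by
  cases A; cases B
  congr
  exact funext h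

theorem forward [Fact p.Prime] {S : Subgroup Ω} {F : Cfsg.FusionSystem S}
    (h : F.HasTerminatingResidualSeries p) :
    ∀ [Finite S], IsPGroup p S → F.IsSaturated p →
      F.IsConstrained p ∧ ∀ (G : Type v) [Group G] (ι : S →* G), F.IsModel p G ι →
        Cfsg.IsPSolvable p G := by
  revert ‹Fact p.Prime›
  induction h with
  | trivial F p hbot =>
    intro _ _ hS hF
    refine ⟨ConstrainedExtensions.isConstrained_of_normal_core hF isNormal_bot
      (by intro c hc; have := hc.1; rwa [hbot] at this), fun G _ ι hm => ?_⟩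
    obtain ⟨hfin, -, ⟨T, hT⟩, hC⟩ := hm
    have hr : ι.range = ⊥ := by
      rw [eq_bot_iff]
      rintro _ ⟨s, rfl⟩
      obtain rfl : s = 1 := Subtype.ext (Subgroup.mem_bot.1 (hbot.le s.2))
      simp
    have hO : pCore p G = ⊥ :=
      le_bot_iff.1 ((Cfsg.Agent.PCore.pCore_le_sylow T).trans (hT.le.trans hr.le))
    have : Subsingleton G := ⟨fun a b => by
      have hall : ∀ x : G, x = 1 := fun x => by
        have hx := hC (show x ∈ Subgroup.centralizer ((pCore p G : Subgroup G) : Set G) by
          rw [hO, Subgroup.mem_centralizer_iff]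
          intro y hy
          rw [Subgroup.mem_bot.1 hy, one_mul, mul_one])
        rwa [hO, Subgroup.mem_bot] at hx
      rw [hall a, hall b]⟩
    exact Cfsg.Agent.PCore.isPSolvable_of_subsingleton
  | @step S F E p D hE hD _ ih =>
    intro _ _ hS hF
    obtain rfl : E = PPrimeResidual.residual F p :=
      eq_of_hom_eq (PPrimeResidual.hom_eq_residual hS hF hE)
    set E := PPrimeResidual.residual F p with hEdef
    have hHS := hyperfocal_le E p
    have := finite_of_le (Ω := Ω) hHS
    obtain ⟨hDc, hDm⟩ := ih (hS.to_le hHS) hD.1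
    have hEc := ConstrainedExtensions.isConstrained_of_pResidual hS
      (PPrimeResidual.isSaturated_residual hS hF) hD hDc
    refine ⟨ConstrainedExtensions.isConstrained_of_invariant hS hF
      (PPrimeResidual.isInvariantIn_residual hS hF) hEc, fun G _ ι hm => ?_⟩
    have hfin : Finite G := hm.1
    obtain ⟨ι₁, -, hm₁⟩ := ModelResidual.isModel_residual hS hm
    obtain ⟨ι₂, hm₂⟩ := ModelResidual.isModel_pResidual hS hm₁ hD
    have hN : Cfsg.IsPSolvable p (ModelResidual.pGen p G) := by
      have := Transfer.pResidual_normal (G := ModelResidual.pGen p G) p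
      exact Cfsg.Agent.PCore.isPSolvable_of_isPGroup_quotient _ (hDm _ ι₂ hm₂)
        (Transfer.isPGroup_quotient_pResidual p)
    have := ModelResidual.pGen_normal (p := p) (G := G)
    exact Cfsg.Agent.PCore.isPSolvable_of_normal _ hN
      (Cfsg.Agent.PCore.isPSolvable_of_coprime ModelResidual.coprime_index_pGen)

theorem backward [Fact p.Prime] (n : ℕ) : ∀ {S : Subgroup Ω} [Finite S] (F : Cfsg.FusionSystem S),
    IsPGroup p S → ∀ (G : Type v) [Group G] (ι : S →* G), F.IsModel p G ι →
      Cfsg.IsPSolvable p G → Nat.card G = n → F.HasTerminatingResidualSeries p := by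
  induction n using Nat.strong_induction_on with
  | _ n ih =>
    intro S _ F hS G _ ι hm hsolv hn
    by_cases hbot : S = ⊥
    · exact .trivial F p hbot
    have hfin : Finite G := hm.1
    have hF : F.IsSaturated p := isSaturated_of_realized hm.2.1 hm.2.2.1
    obtain ⟨ι₁, hι₁, hm₁⟩ := ModelResidual.isModel_residual hS hm
    have hEs := PPrimeResidual.isSaturated_residual hS hF
    obtain ⟨D, hDs, hDi⟩ := exists_pPowerIndex hS hEs (hyperfocal_le _ p) le_rfl
    obtain ⟨ι₂, hm₂⟩ := ModelResidual.isModel_pResidual hS hm₁ ⟨hDs, hDi⟩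
    have hHS := hyperfocal_le (PPrimeResidual.residual F p) p
    have := finite_of_le (Ω := Ω) hHS
    refine .step F _ p D (PPrimeResidual.isPPrimeResidual_residual hS hF) ⟨hDs, hDi⟩ ?_
    have hsolv₁ := Cfsg.Agent.PCore.isPSolvable_subgroup hsolv (ModelResidual.pGen p G)
    refine ih _ ?_ D (hS.to_le hHS) _ ι₂ hm₂ (Cfsg.Agent.PCore.isPSolvable_subgroup hsolv₁ _) rfl
    -- the model becomes smaller
    set N := ModelResidual.pGen p G with hN
    have hNn : N.Normal := ModelResidual.pGen_normal
    have hle1 : Nat.card N ≤ Nat.card G := Subgroup.card_le_card_group N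
    have hle2 : Nat.card (Cfsg.pResidual p N) ≤ Nat.card N := Subgroup.card_le_card_group _
    rw [← hn]
    by_contra hge
    have hKtop : Cfsg.pResidual p N = ⊤ := Subgroup.eq_top_of_card_eq _ (by omega)
    have hNtop : N = ⊤ := Subgroup.eq_top_of_card_eq _ (by omega)
    have hne : Nontrivial G := by
      obtain ⟨x, hx, hx1⟩ : ∃ x ∈ S, x ≠ 1 := by
        by_contra! h
        exact hbot (le_bot_iff.1 fun x hx => Subgroup.mem_bot.2 (h x hx))
      exact ⟨⟨ι ⟨x, hx⟩, 1, fun h => hx1 (congrArg Subtype.val
        (hm.2.1.1 (h.trans (map_one ι).symm)))⟩⟩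
    -- every `p`- and `p'`-quotient of `G` is trivial
    have hp' : ∀ H : Subgroup G, H.Normal → H.index.Coprime p → H = ⊤ := fun H hH hi => by
      rw [eq_top_iff, ← hNtop]
      refine (Subgroup.closure_le _).2 fun a ⟨k, hk⟩ => ?_
      have h1 : orderOf (QuotientGroup.mk' H a) ∣ 1 := by
        rw [← Nat.Coprime.gcd_eq_one (Nat.Coprime.pow_left k hi.symm)]
        refine Nat.dvd_gcd (hk ▸ orderOf_map_dvd _ a) ?_
        exact orderOf_dvd_natCard _
      exact (QuotientGroup.eq_one_iff a).1 (orderOf_eq_one_iff.1 (Nat.dvd_one.1 h1))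
    have hp : ∀ H : Subgroup G, H.Normal → (∃ m, H.index = p ^ m) → H = ⊤ := fun H hH ⟨m, hm⟩ => by
      rw [eq_top_iff]
      intro a _
      have hker := Transfer.residual_le_ker_of_card ((QuotientGroup.mk' H).comp N.subtype) p
        (k := m) (by rw [← Subgroup.index_eq_card, hm])
      have haK : (⟨a, hNtop.ge (Subgroup.mem_top a)⟩ : N) ∈ Cfsg.pResidual p N :=
        hKtop.ge (Subgroup.mem_top _)
      exact (QuotientGroup.eq_one_iff a).1 (hker haK)
    obtain ⟨k, H, h0, hlast, hmono, hnorm, hstep⟩ := hsolv
    have : ∀ i : Fin (k + 1), H i = ⊤ := by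
      intro i
      induction i using Fin.reverseInduction with
      | last => exact hlast
      | cast i ihi =>
        have hrel : (H i.castSucc).relIndex (H i.succ) = (H i.castSucc).index := by
          rw [ihi, Subgroup.relIndex_top_right]
        rcases hstep i with ⟨m, hm⟩ | hcop
        · exact hp _ (hnorm _) ⟨m, hrel ▸ hm⟩
        · exact hp' _ (hnorm _) (hrel ▸ hcop)
    exact bot_ne_top (h0.symm.trans (this 0))

/-- A saturated fusion system over a finite p-group has a terminating alternating chain of p'-residual and p-residual subsystems (the chain reaches the trivial system — the notion of solvability adapted to fusion systems of p-solvable groups) if and only if it is constrained and its models are p-solvable (a model is a finite group realizing the system on a Sylow p-subgroup with self-centralizing largest normal p-subgroup; it exists and is unique up to isomorphism for constrained systems). -/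
theorem result {Ω : Type u} [Group Ω] {S : Subgroup Ω} [Finite S] (p : ℕ) [Fact p.Prime] (hS : IsPGroup p S) (F : Cfsg.FusionSystem S) (hF : F.IsSaturated p) : F.HasTerminatingResidualSeries p ↔ (F.IsConstrained p ∧ ∀ (G : Type u) [Group G] (ι : S →* G), F.IsModel p G ι → Cfsg.IsPSolvable p G) := by
  refine ⟨fun h => forward h hS hF, fun ⟨⟨_, Q, hn, hc⟩, hm⟩ => ?_⟩
  obtain ⟨G, hG, ι, hι⟩ := Model.exists_model hS hF hn hc
  exact backward _ F hS G ι hι (hm G ι hι) rfl

end Cfsg.Agent.S5156
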