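import Cfsg.Statements.S5160
import Cfsg.Agent.Lib.Fusion.GroupSimple
import Cfsg.Agent.Lib.Fusion.Group

set_option autoImplicit false
open Cfsg

namespace Cfsg.Agent.S5160

theorem mem_normalizer_of_aut {G : Type*} [Group G] {S : Subgroup G} (α : MulAut S) {g : G}
    (h : ∀ x : S, ((α x : S) : G) = g * (x : G) * g⁻¹) : g ∈ Subgroup.normalizer (S : Set G) := by
  refine Subgroup.mem_normalizer_iff.mpr fun y => ⟨fun hy => ?_, fun hy => ?_⟩
  · have := h ⟨y, hy⟩
    rw [← this]; exact Subtype.property _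
  · have h1 := h (α.symm ⟨g * y * g⁻¹, hy⟩)
    rw [MulEquiv.apply_symm_apply] at h1
    have h2 : y = (α.symm ⟨g * y * g⁻¹, hy⟩ : S) :=
      mul_left_cancel (mul_right_cancel (h1 : g * y * g⁻¹ = _))
    rw [h2]; exact Subtype.property _

theorem eq_normalizerMonoidHom {G : Type*} [Group G] {S : Subgroup G} (α : MulAut S) {g : G}
    (h : ∀ x : S, ((α x : S) : G) = g * (x : G) * g⁻¹) :
    α = S.normalizerMonoidHom ⟨g, mem_normalizer_of_aut α h⟩ :=
  MulEquiv.ext fun x => Subtype.ext (h x)

/-- Let G be a finite group with nontrivial Sylow p-subgroup S and F its fusion system on S. Suppose (a) no nontrivial proper subgroup of S is strongly closed in F, and (b) the automorphisms of S induced by G are generated by those induced, for R running over the fully normalized radical centric subgroups of F, by the subgroup of N_G(R) generated by its elements of p-power order. Then F is simple. -/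
theorem result {G : Type*} [Group G] [Finite G] (p : ℕ) [Fact p.Prime] (S : Sylow p G) (hS1 : (S : Subgroup G) ≠ ⊥) (ha : ∀ T : Subgroup G, (Cfsg.groupFusionSystem (S : Subgroup G)).StronglyClosed T → T = ⊥ ∨ T = (S : Subgroup G)) (hb : Cfsg.autInducedBy ⊤ (S : Subgroup G) = ⨆ (R : Subgroup G) (_ : (Cfsg.groupFusionSystem (S : Subgroup G)).IsFullyNormalized R ∧ (Cfsg.groupFusionSystem (S : Subgroup G)).IsRadical p R ∧ (Cfsg.groupFusionSystem (S : Subgroup G)).IsCentric R), Cfsg.autInducedBy (Subgroup.closure {g : G | g ∈ Subgroup.normalizer (R : Set G) ∧ ∃ k : ℕ, orderOf g = p ^ k}) (S : Subgroup G)) : (Cfsg.groupFusionSystem (S : Subgroup G)).IsSimple p := by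
  refine Cfsg.Agent.Fusion.GroupSimple.isSimple S ?saturated hS1 ha ?gen
  case gen =>
    intro a ha
    set N := Subgroup.normalizer ((S : Subgroup G) : Set G) with hN
    set C := Subgroup.centralizer ((S : Subgroup G) : Set G)
    set X := ⨆ (R : Subgroup G) (_ : (Cfsg.groupFusionSystem (S : Subgroup G)).IsFullyNormalized R ∧
      (Cfsg.groupFusionSystem (S : Subgroup G)).IsCentric R),
        Cfsg.Agent.Fusion.GroupSimple.pElts p R ⊓ N with hX
    have hle : Cfsg.autInducedBy ⊤ (S : Subgroup G) ≤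
        ((X ⊔ C).subgroupOf N).map (S : Subgroup G).normalizerMonoidHom := by
      rw [hb]
      refine iSup₂_le fun R hR => ?_
      rw [Cfsg.autInducedBy, Subgroup.closure_le]
      rintro α ⟨g, hg, hgα⟩
      refine ⟨⟨g, mem_normalizer_of_aut α hgα⟩, ?_, (eq_normalizerMonoidHom α hgα).symm⟩
      have hXR : Cfsg.Agent.Fusion.GroupSimple.pElts p R ⊓ N ≤ X :=
        le_iSup₂_of_le (f := fun R (_ : (Cfsg.groupFusionSystem (S : Subgroup G)).IsFullyNormalized R ∧
          (Cfsg.groupFusionSystem (S : Subgroup G)).IsCentric R) =>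
          Cfsg.Agent.Fusion.GroupSimple.pElts p R ⊓ N) R ⟨hR.1, hR.2.2⟩ le_rfl
      exact le_sup_left (b := C) (hXR ⟨hg, mem_normalizer_of_aut α hgα⟩)
    have haut : (S : Subgroup G).normalizerMonoidHom ⟨a, ha⟩ ∈ Cfsg.autInducedBy ⊤ (S : Subgroup G) :=
      Subgroup.subset_closure ⟨a, trivial, fun x => rfl⟩
    obtain ⟨m, hm, hma⟩ := hle haut
    have hker : m⁻¹ * ⟨a, ha⟩ ∈ (S : Subgroup G).normalizerMonoidHom.ker := by
      rw [MonoidHom.mem_ker, map_mul, map_inv, hma, inv_mul_cancel]
    rw [Subgroup.normalizerMonoidHom_ker, Subgroup.mem_subgroupOf] at hker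
    have := (X ⊔ C).mul_mem hm (le_sup_right (a := X) hker)
    simpa using this
  case saturated => exact Cfsg.Agent.Fusion.groupFusionSystem_saturated S

end Cfsg.Agent.S5160
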