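import Cfsg.Statements.S5164
import Mathlib
-- import your own Cfsg.Agent.* helpers here

set_option autoImplicit false
open Cfsg

namespace Cfsg.Agent.S5164

open Equiv

theorem sign_via {α β : Type*} [Fintype α] [DecidableEq α] [Fintype β] [DecidableEq β]
    (e : Equiv.Perm α) (ι : α ↪ β) : Equiv.Perm.sign (e.viaEmbedding ι) = Equiv.Perm.sign e := by
  classical
  rw [Equiv.Perm.viaEmbedding]
  convert Equiv.Perm.sign_extendDomain e (Equiv.ofInjective ι.1 ι.2)

/-- Compensate the sign on two further points. -/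
def evenHom (α : Type*) [Fintype α] [DecidableEq α] : Equiv.Perm α →* Equiv.Perm (α ⊕ Fin 2) where
  toFun e := Equiv.sumCongr e (if Equiv.Perm.sign e = 1 then 1 else Equiv.swap 0 1)
  map_one' := by simp [Equiv.Perm.sign_one]
  map_mul' e f := by
    rw [Equiv.Perm.sumCongr_mul, map_mul]
    congr 1
    rcases Int.units_eq_one_or (Equiv.Perm.sign e) with h | h <;>
      rcases Int.units_eq_one_or (Equiv.Perm.sign f) with h' | h' <;>
      simp [h, h', Equiv.swap_mul_self]

theorem sign_evenHom {α : Type*} [Fintype α] [DecidableEq α] (e : Equiv.Perm α) :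
    Equiv.Perm.sign (evenHom α e) = 1 := by
  show Equiv.Perm.sign (Equiv.Perm.sumCongr e (if Equiv.Perm.sign e = 1 then 1 else Equiv.swap 0 1)) = 1
  rw [Equiv.Perm.sign_sumCongr]
  rcases Int.units_eq_one_or (Equiv.Perm.sign e) with h | h <;> simp [h]

theorem evenHom_injective (α : Type*) [Fintype α] [DecidableEq α] : Function.Injective (evenHom α) := by
  intro e f h
  ext x
  have := congrArg (fun g : Equiv.Perm (α ⊕ Fin 2) => g (Sum.inl x)) h
  simpa [evenHom] using this

/-- The affine-fibred permutations `(i,j) ↦ (i+c, j+f i)`. -/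
def fibred (p : ℕ) [NeZero p] : Subgroup (Equiv.Perm (ZMod p × ZMod p)) where
  carrier := {σ | ∃ (c : ZMod p) (f : ZMod p → ZMod p), ∀ i j, σ (i, j) = (i + c, j + f i)}
  one_mem' := ⟨0, 0, fun i j => by simp⟩
  mul_mem' := by
    rintro σ τ ⟨c, f, hσ⟩ ⟨d, g, hτ⟩
    refine ⟨d + c, fun i => g i + f (i + d), fun i j => ?_⟩
    rw [Equiv.Perm.mul_apply, hτ, hσ, add_assoc, add_assoc]
  inv_mem' := by
    rintro σ ⟨c, f, hσ⟩
    refine ⟨-c, fun i => -f (i - c), fun i j => ?_⟩
    apply σ.injective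
    rw [Equiv.Perm.coe_inv, Equiv.apply_symm_apply, hσ]
    simp [sub_eq_add_neg, add_assoc]

theorem fibred_pGroup (p : ℕ) [Fact p.Prime] : IsPGroup p (fibred p) := by
  rintro ⟨σ, c, f, hσ⟩
  refine ⟨2, Subtype.ext (Equiv.ext ?_)⟩
  have h1 : ∀ (n : ℕ) (i : ZMod p), ∃ F : ZMod p, ∀ j, (σ ^ n) (i, j) = (i + n * c, j + F) := by
    intro n
    induction n with
    | zero => exact fun i => ⟨0, fun j => by simp⟩
    | succ n ih =>
      intro i
      obtain ⟨F, hF⟩ := ih i
      refine ⟨F + f (i + n * c), fun j => ?_⟩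
      rw [pow_succ', Equiv.Perm.mul_apply, hF, hσ, Nat.cast_succ, add_mul, one_mul, add_assoc,
        add_assoc]
  rintro ⟨i, j⟩
  obtain ⟨F, hF⟩ := h1 p i
  have h2 : ∀ (k : ℕ) (j : ZMod p), ((σ ^ p) ^ k) (i, j) = (i, j + k * F) := by
    intro k
    induction k with
    | zero => simp
    | succ k ih =>
      intro j
      rw [pow_succ', Equiv.Perm.mul_apply, ih, hF, Nat.cast_succ]
      simp [add_mul, add_assoc]
  show (σ ^ p ^ 2) (i, j) = (i, j)
  rw [pow_two, pow_mul, h2]
  simp

theorem fibred_nonabelian (p : ℕ) [Fact p.Prime] :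
    ∃ a b : fibred p, a * b ≠ b * a := by
  let A : Equiv.Perm (ZMod p × ZMod p) :=
    { toFun := fun x => (x.1 + 1, x.2)
      invFun := fun x => (x.1 - 1, x.2)
      left_inv := fun x => by simp
      right_inv := fun x => by simp }
  let B : Equiv.Perm (ZMod p × ZMod p) :=
    { toFun := fun x => (x.1, x.2 + if x.1 = 0 then 1 else 0)
      invFun := fun x => (x.1, x.2 - if x.1 = 0 then 1 else 0)
      left_inv := fun x => by simp
      right_inv := fun x => by simp }
  refine ⟨⟨A, 1, 0, fun i j => by simp [A]⟩, ⟨B, 0, fun i => if i = 0 then 1 else 0, fun i j => by simp [B]⟩,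
    fun h => ?_⟩
  have h' : A (B (0, 0)) = B (A (0, 0)) :=
    congrArg (fun s : fibred p => (s : Equiv.Perm (ZMod p × ZMod p)) (0, 0)) h
  simp [A, B] at h'

/-- A nonabelian `p`-group inside `A_n` makes the Sylow `p`-subgroups nonabelian. -/
theorem sylow_nonabelian {n p : ℕ} [Fact p.Prime] {K : Type*} [Group K] (hK : IsPGroup p K)
    (hab : ∃ a b : K, a * b ≠ b * a) (φ : K →* Equiv.Perm (Fin n)) (hφ : Function.Injective φ)
    (heven : ∀ k, Equiv.Perm.sign (φ k) = 1) (S : Sylow p (alternatingGroup (Fin n))) :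
    ¬ IsMulCommutative S := by
  intro hS
  let ψ : K →* alternatingGroup (Fin n) :=
    φ.codRestrict (alternatingGroup (Fin n)) fun k => Equiv.Perm.mem_alternatingGroup.2 (heven k)
  obtain ⟨T, hT⟩ := (hK.of_surjective ψ.rangeRestrict ψ.rangeRestrict_surjective).exists_le_sylow
  obtain ⟨a, b, hne⟩ := hab
  let e := T.equiv S
  have h1 := hS.is_comm.comm (e ⟨ψ a, hT ⟨a, rfl⟩⟩) (e ⟨ψ b, hT ⟨b, rfl⟩⟩)
  rw [← map_mul, ← map_mul] at h1
  refine hne (hφ ?_)
  have h2 := congrArg (fun s : (T : Subgroup (alternatingGroup (Fin n))) =>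
    ((s : alternatingGroup (Fin n)) : Equiv.Perm (Fin n))) (e.injective h1)
  rw [map_mul, map_mul]
  exact h2

theorem le_of_abelian {n p : ℕ} (hn : 6 ≤ n) [hp : Fact p.Prime]
    (S : Sylow p (alternatingGroup (Fin n))) (hS : IsMulCommutative S) : n < p ^ 2 := by
  by_contra hlt
  push Not at hlt
  obtain ⟨a, b, hab⟩ := fibred_nonabelian p
  rcases eq_or_ne p 2 with rfl | hp2
  · -- compensate the sign on two further points
    haveI : Nonempty ((ZMod 2 × ZMod 2) ⊕ Fin 2 ↪ Fin n) :=
      Function.Embedding.nonempty_of_card_le (by simp; omega)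
    obtain ⟨ι⟩ := this
    refine sylow_nonabelian (fibred_pGroup 2) ⟨a, b, hab⟩
      (((Equiv.Perm.viaEmbeddingHom ι).comp (evenHom (ZMod 2 × ZMod 2))).comp (fibred 2).subtype)
      (((Equiv.Perm.viaEmbeddingHom_injective ι).comp (evenHom_injective _)).comp Subtype.val_injective)
      (fun k => ?_) S hS
    rw [MonoidHom.comp_apply, MonoidHom.comp_apply, Equiv.Perm.viaEmbeddingHom_apply, sign_via,
      sign_evenHom]
  · haveI : Nonempty ((ZMod p × ZMod p) ↪ Fin n) :=
      Function.Embedding.nonempty_of_card_le (by simp [← pow_two]; omega)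
    obtain ⟨ι⟩ := this
    refine sylow_nonabelian (fibred_pGroup p) ⟨a, b, hab⟩
      ((Equiv.Perm.viaEmbeddingHom ι).comp (fibred p).subtype)
      ((Equiv.Perm.viaEmbeddingHom_injective ι).comp Subtype.val_injective) (fun k => ?_) S hS
    obtain ⟨m, hm⟩ := fibred_pGroup p k
    set φ := (Equiv.Perm.viaEmbeddingHom ι).comp (fibred p).subtype with hφ
    have h1 : (Equiv.Perm.sign (φ k)) ^ p ^ m = 1 := by rw [← map_pow, ← map_pow, hm, map_one, map_one]
    rcases Int.units_eq_one_or (Equiv.Perm.sign (φ k)) with h | h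
    · exact h
    · exfalso
      rw [h, ((hp.out.odd_of_ne_two hp2).pow).neg_one_pow] at h1
      exact absurd h1 (by decide)

/-- A `p`-group of permutations of fewer than `p²` points is abelian. -/
theorem abelian_of_lt {n p : ℕ} [hp : Fact p.Prime] (hlt : n < p ^ 2)
    (U : Subgroup (Equiv.Perm (Fin n))) (hU : IsPGroup p U) (a b : U) : a * b = b * a := by
  refine Subtype.ext (Equiv.ext fun i => ?_)
  let φ := MulAction.toPermHom U (MulAction.orbit U i)
  obtain ⟨m, hm⟩ := hU.card_orbit i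
  have hle : Nat.card (MulAction.orbit U i) ≤ n := by
    have := Nat.card_le_card_of_injective (fun x : MulAction.orbit U i => (x : Fin n)) Subtype.val_injective
    rwa [Nat.card_fin] at this
  have hm1 : m ≤ 1 := by
    by_contra hc
    have : p ^ 2 ≤ p ^ m := Nat.pow_le_pow_right hp.out.pos (by omega)
    omega
  have hr : IsPGroup p φ.range := hU.of_surjective φ.rangeRestrict φ.rangeRestrict_surjective
  obtain ⟨k, hk⟩ := IsPGroup.iff_card.1 hr
  have hd : p ^ k ∣ p.factorial := by
    rw [← hk]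
    refine (φ.range.card_subgroup_dvd_card).trans ?_
    rw [Nat.card_perm, hm]
    rcases Nat.le_one_iff_eq_zero_or_eq_one.1 hm1 with rfl | rfl
    · simp
    · rw [pow_one]
  have hk1 : k ≤ 1 := by
    by_contra hc
    have h1 : p * p ∣ p.factorial := by
      rw [← pow_two]; exact (pow_dvd_pow p (by omega)).trans hd
    rw [← Nat.mul_factorial_pred hp.out.ne_zero] at h1
    have h2 := (hp.out.dvd_factorial).1 (Nat.dvd_of_mul_dvd_mul_left hp.out.pos h1)
    have := hp.out.one_lt
    omega
  haveI : IsCyclic φ.range := by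
    rcases Nat.le_one_iff_eq_zero_or_eq_one.1 hk1 with rfl | rfl
    · haveI : Subsingleton φ.range := (Nat.card_eq_one_iff_unique.1 (by rw [hk, pow_zero])).1
      infer_instance
    · exact isCyclic_of_prime_card (p := p) (by rw [hk, pow_one])
  have h := IsMulCommutative.is_comm.comm (φ.rangeRestrict a) (φ.rangeRestrict b)
  rw [← map_mul, ← map_mul] at h
  have h2 := congrArg (fun s : φ.range => ((s : Equiv.Perm (MulAction.orbit U i))
    ⟨i, MulAction.mem_orbit_self i⟩ : MulAction.orbit U i)) h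
  exact congrArg Subtype.val h2


/-- For n ≥ 6 and a prime p, a nontrivial Sylow p-subgroup of the alternating group of degree n is abelian if and only if n < p². -/
theorem result (n p : ℕ) (hn : 6 ≤ n) [Fact p.Prime] (S : Sylow p (alternatingGroup (Fin n))) (hS : (S : Subgroup (alternatingGroup (Fin n))) ≠ ⊥) : IsMulCommutative S ↔ n < p ^ 2 := by
  refine ⟨fun h => le_of_abelian hn S h, fun h => ⟨⟨fun a b => ?_⟩⟩⟩
  refine Subtype.ext (Subtype.ext ?_)
  have hU : IsPGroup p ((S : Subgroup (alternatingGroup (Fin n))).map (alternatingGroup (Fin n)).subtype) :=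
    S.2.map _
  exact (congrArg Subtype.val (abelian_of_lt h _ hU
    ⟨_, Subgroup.mem_map_of_mem _ a.2⟩ ⟨_, Subgroup.mem_map_of_mem _ b.2⟩) :)

end Cfsg.Agent.S5164
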