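import Cfsg.Statements.S5172
import Cfsg.Agent.Lib.Fusion.HermFusion
import Cfsg.Agent.Lib.Fusion.HermIso

set_option autoImplicit false
open Cfsg

namespace Cfsg.Agent.S5172

/-- For a finite field K with q² elements of characteristic p and n ≥ 4, the p-fusion system of the projective special unitary group PSU_n(q) (realised over K) on a Sylow p-subgroup is simple. -/
theorem result {K : Type*} [Field K] [Fintype K] (p q : ℕ) [Fact p.Prime] [CharP K p] (hK : Fintype.card K = q ^ 2) (n : ℕ) (hn : 4 ≤ n) (S : Sylow p (Cfsg.PSU n K q)) : (Cfsg.groupFusionSystem (S : Subgroup (Cfsg.PSU n K q))).IsSimple p := by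
  haveI : Fact (∀ a, Cfsg.Agent.Fusion.HermBlocks.qAut hK (Cfsg.Agent.Fusion.HermBlocks.qAut hK a) = a) :=
    ⟨Cfsg.Agent.Fusion.HermBlocks.qAut_invol hK⟩
  haveI : Fact (n % 2 ≤ 1) := ⟨by omega⟩
  obtain ⟨f⟩ := Cfsg.Agent.Fusion.HermBlocks.exists_equiv_SU (F := K) hK (r := n / 2) (d := n % 2) (n := n)
    ((Equiv.sumCongr (Equiv.refl _) finSumFinEquiv).trans (finSumFinEquiv.trans (finCongr (by omega))))
  refine Cfsg.Agent.Fusion.CoverSimple.isSimple
    (Cfsg.Agent.Fusion.HermBlocks.setup p (Cfsg.Agent.Fusion.HermBlocks.qAut_ne_one hK) (by omega))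
    (π := (QuotientGroup.mk' (Subgroup.center (Cfsg.SU n K q))).comp f.toMonoidHom)
    ((QuotientGroup.mk'_surjective _).comp f.surjective) ?_ S
  ext x
  rw [MonoidHom.mem_ker, MonoidHom.comp_apply, QuotientGroup.mk'_apply, QuotientGroup.eq_one_iff,
    Subgroup.mem_center_iff, Subgroup.mem_center_iff]
  constructor
  · intro h y
    exact f.injective (by rw [map_mul, map_mul]; exact h (f y))
  · intro h y
    obtain ⟨z, rfl⟩ := f.surjective y
    show f z * f x = f x * f z
    rw [← map_mul, ← map_mul, h z]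

end Cfsg.Agent.S5172
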