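import Cfsg.Statements.S5265
import Cfsg.Agent.Lib.Fusion.CentreIndexSq
import Cfsg.Agent.Lib.PGroup.CyclicMaximal
import Cfsg.Agent.Lib.PGroup.Frattini
-- import your own Cfsg.Agent.* helpers here

set_option autoImplicit false
open Cfsg

open scoped commutatorElement

namespace Cfsg.Agent.S5265

open Cfsg.Agent Cfsg.Agent.Fusion Cfsg.Agent.Fusion.CentreIndexSq Cfsg.FusionSystem

variable {Ω : Type*} [Group Ω] {S : Subgroup Ω} [Finite S] {p : ℕ} [hp : Fact p.Prime]
  {F : Cfsg.FusionSystem S}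

omit [Finite S] hp in
theorem apply_mem_Zc {α : MulAut S} {x : S} (hx : (x : Ω) ∈ Zc S) : ((α x : S) : Ω) ∈ Zc S := by
  refine ⟨(α x).2, Subgroup.mem_centralizer_iff.2 fun g hg => ?_⟩
  obtain ⟨y, hy⟩ := α.surjective ⟨g, hg⟩
  have h : y * x = x * y := Subtype.ext (Zc_comm hx y.2)
  have := congrArg (fun u : S => ((α u : S) : Ω)) h
  simpa [map_mul, hy] using this

omit [Finite S] hp in
theorem apply_mem_Sd {α : MulAut S} {x : S} (hx : (x : Ω) ∈ Sd S) : ((α x : S) : Ω) ∈ Sd S := by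
  obtain ⟨y, hy, he⟩ := hx
  have hchar : (commutator S).map α.toMonoidHom = commutator S :=
    Subgroup.characteristic_iff_map_eq.1 inferInstance _
  rw [show x = y from Subtype.ext he.symm]
  exact ⟨α y, hchar.le ⟨y, hy, rfl⟩, rfl⟩

/-- Two automorphisms inverting `S'` and trivial on `Z(S)/S'` agree on `Z(S)`. -/
theorem agree (hS : IsPGroup p S) (hF : F.IsSaturated p) (hexp : ∀ d ∈ Sd S, d ^ p = 1)
    (hSdZ : Sd S ≤ Zc S) {β γ : MulAut S} (hβ : β ∈ F.autGroup S) (hγ : γ ∈ F.autGroup S)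
    (hβi : ∀ x : S, (x : Ω) ∈ Sd S → β x = x⁻¹) (hγi : ∀ x : S, (x : Ω) ∈ Sd S → γ x = x⁻¹)
    (hβt : ∀ x : S, (x : Ω) ∈ Zc S → ((x⁻¹ * β x : S) : Ω) ∈ Sd S)
    (hγt : ∀ x : S, (x : Ω) ∈ Zc S → ((x⁻¹ * γ x : S) : Ω) ∈ Sd S) :
    ∀ x : S, (x : Ω) ∈ Zc S → β x = γ x := by
  have := Fusion.finite_mulAut (Ω := Ω) (le_refl S)
  let H : Subgroup (F.autGroup S) :=
    { carrier := {a | ∀ x : S, (x : Ω) ∈ Zc S → (a : MulAut S) x = x}
      one_mem' := fun x _ => rfl
      mul_mem' := fun {a b} ha hb x hx => by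
        show (a : MulAut S) ((b : MulAut S) x) = x
        rw [hb x hx, ha x hx]
      inv_mem' := fun {a} ha x hx => by
        show (a : MulAut S)⁻¹ x = x
        conv_lhs => rw [← ha x hx]
        exact MulAut.inv_apply_self S (a : MulAut S) x }
  have hHn : H.Normal := ⟨fun k hk a x hx => by
    show (a : MulAut S) ((k : MulAut S) ((a : MulAut S)⁻¹ x)) = x
    rw [hk _ (apply_mem_Zc hx), MulAut.apply_inv_self]⟩
  obtain ⟨-, T, hT⟩ := isFullyAutomized_of_fullyNormalized hS hF (isFullyNormalized_self F)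
  have hTH : (T : Subgroup (F.autGroup S)) ≤ H := by
    intro a ha x hx
    rw [hT, Subgroup.mem_subgroupOf] at ha
    obtain ⟨g, hg, hgv⟩ := mem_autInducedBy_iff.1 ha
    refine Subtype.ext ((hgv x).trans ?_)
    rw [Zc_comm hx hg, mul_inv_cancel_right]
  have hndvd : ¬ p ∣ H.index := fun h => T.not_dvd_index (h.trans (Subgroup.index_dvd_of_le hTH))
  set δ : F.autGroup S := ⟨β⁻¹ * γ, Subgroup.mul_mem _ (Subgroup.inv_mem _ hβ) hγ⟩ with hδ
  have hδSd : ∀ x : S, (x : Ω) ∈ Sd S → (δ : MulAut S) x = x := by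
    intro x hx
    show β⁻¹ (γ x) = x
    rw [hγi x hx, ← hβi x hx, MulAut.inv_apply_self]
  have hδt : ∀ x : S, (x : Ω) ∈ Zc S → ((x⁻¹ * (δ : MulAut S) x : S) : Ω) ∈ Sd S := by
    intro x hx
    show ((x⁻¹ * β⁻¹ (γ x) : S) : Ω) ∈ Sd S
    have hy : ((β⁻¹ x : S) : Ω) ∈ Zc S := apply_mem_Zc hx
    have h1 := (Sd S).inv_mem (hβt _ hy)
    have h2 := apply_mem_Sd (α := β⁻¹) (hγt x hx)
    have h3 := (Sd S).mul_mem h1 h2
    rw [← Subgroup.coe_inv, ← Subgroup.coe_mul, MulAut.apply_inv_self, map_mul, map_inv] at h3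
    convert h3 using 2
    group
  have hδp : δ ^ p ∈ H := fun x hx => by
    have hfix := hδSd _ (hδt x hx)
    have hdp : (x⁻¹ * (δ : MulAut S) x) ^ p = 1 := Subtype.ext (hexp _ (hδt x hx))
    show ((δ : MulAut S) ^ p) x = x
    rw [Fusion.aut_pow_apply_of_fixed _ (mul_inv_cancel_left x _).symm hfix p, hdp, mul_one]
  have hδH : δ ∈ H := by
    rw [← QuotientGroup.eq_one_iff]
    refine orderOf_eq_one_iff.1 ?_
    have h1 : orderOf (δ : F.autGroup S ⧸ H) ∣ p :=
      orderOf_dvd_of_pow_eq_one (by rw [← QuotientGroup.mk_pow]; exact (QuotientGroup.eq_one_iff _).2 hδp)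
    have h2 : orderOf (δ : F.autGroup S ⧸ H) ∣ H.index := by
      rw [Subgroup.index_eq_card]; exact orderOf_dvd_natCard _
    rcases (Nat.dvd_prime hp.out).1 h1 with h | h
    · exact h
    · exact absurd (h ▸ h2) hndvd
  intro x hx
  have h := congrArg β (hδH x hx)
  rw [show (δ : MulAut S) x = β⁻¹ (γ x) from rfl, MulAut.apply_inv_self] at h
  exact h.symm

/-- For `p = 2` there are no three noncentral cosets of involutions permuted by an automorphism. -/
theorem no_three (hidx : (Subgroup.center S).index = 2 ^ 2) {R D C : Subgroup Ω}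
    (h : Data F 2 R D C) {d e f : Ω} (hd : d ∈ D) (hdZ : d ∉ Zc S) (he : e ∈ S) (hf : f ∈ S)
    (he2 : e ^ 2 = 1) (hf2 : f ^ 2 = 1) (heR : e ∉ R) (hfR : f ∉ R) (hef : e⁻¹ * f ∉ Zc S) :
    False := by
  have : Fact (Nat.Prime 2) := ⟨Nat.prime_two⟩
  have hdS : d ∈ S := h.le_S (h.D_le hd)
  classical
  set q : Ω → S ⧸ Subgroup.center S := fun g => if hg : g ∈ S then QuotientGroup.mk ⟨g, hg⟩ else 1
    with hq
  have hqv : ∀ g (hg : g ∈ S), q g = QuotientGroup.mk (⟨g, hg⟩ : S) := fun g hg => dif_pos hg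
  have hqZ : ∀ g (hg : g ∈ S), (q g = 1 ↔ g ∈ Zc S) := fun g hg => by
    rw [hqv g hg, QuotientGroup.eq_one_iff, Zc_eq]
    exact ⟨fun h => ⟨_, h, rfl⟩, fun ⟨y, hy, he'⟩ => (Subtype.ext he' : y = ⟨g, hg⟩) ▸ hy⟩
  have hqm : ∀ g k (hg : g ∈ S) (hk : k ∈ S), q (g⁻¹ * k) = (q g)⁻¹ * q k := fun g k hg hk => by
    rw [hqv g hg, hqv k hk, hqv _ (S.mul_mem (S.inv_mem hg) hk)]
    rfl
  have hne : ∀ g k, g ∈ S → k ∈ S → g⁻¹ * k ∉ Zc S → q g ≠ q k := fun g k hg hk hgk hqgk =>
    hgk ((hqZ _ (S.mul_mem (S.inv_mem hg) hk)).1 (by rw [hqm g k hg hk, hqgk, inv_mul_cancel]))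
  have hde : d⁻¹ * e ∉ Zc S := fun hz => heR (by
    simpa using R.mul_mem (h.D_le hd) (h.Zc_le' hz))
  have hdf : d⁻¹ * f ∉ Zc S := fun hz => hfR (by
    simpa using R.mul_mem (h.D_le hd) (h.Zc_le' hz))
  have h1d : q d ≠ 1 := fun hh => hdZ ((hqZ d hdS).1 hh)
  have h1e : q e ≠ 1 := fun hh => heR (h.Zc_le' ((hqZ e he).1 hh))
  have h1f : q f ≠ 1 := fun hh => hfR (h.Zc_le' ((hqZ f hf).1 hh))
  have hdne := hne d e hdS he hde
  have hdnf := hne d f hdS hf hdf
  have henf := hne e f he hf hef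
  have hcard : Nat.card (S ⧸ Subgroup.center S) = 4 := by
    rw [← Subgroup.index_eq_card, hidx]; rfl
  have hde_ed : q d * q e = q f := by
    by_contra hx
    have := Fintype.ofFinite (S ⧸ Subgroup.center S)
    classical
    have h5 : ({1, q d, q e, q f, q d * q e} : Finset (S ⧸ Subgroup.center S)).card = 5 := by
      have h2 : q d * q e ≠ q d := fun hh => h1e (mul_eq_left.1 hh)
      have h3 : q d * q e ≠ q e := fun hh => h1d (mul_eq_right.1 hh)
      have h4 : q d * q e ≠ 1 := fun hh => hdne (by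
        have hd2 : q d * q d = 1 := by
          rw [hqv d hdS, ← QuotientGroup.mk_mul]
          exact (QuotientGroup.eq_one_iff _).2 (by
            rw [show (⟨d, hdS⟩ : S) * ⟨d, hdS⟩ = 1 from Subtype.ext (by rw [← sq]; exact h.exp_D d hd)]
            exact Subgroup.one_mem _)
        exact mul_left_cancel (hd2.trans hh.symm))
      rw [Finset.card_eq_succ]
      refine ⟨1, {q d, q e, q f, q d * q e}, by simp [h1d.symm, h1e.symm, h1f.symm, h4.symm], rfl, ?_⟩
      simp [hdne, hdnf, henf, h2.symm, h3.symm, Ne.symm hx]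
    have := Finset.card_le_univ ({1, q d, q e, q f, q d * q e} : Finset (S ⧸ Subgroup.center S))
    rw [h5, ← Nat.card_eq_fintype_card, hcard] at this
    omega
  -- `f = d e w`
  set w := (d * e)⁻¹ * f with hw
  have hdeS : d * e ∈ S := S.mul_mem hdS he
  have hwZ : w ∈ Zc S := by
    refine (hqZ _ (S.mul_mem (S.inv_mem hdeS) hf)).1 ?_
    rw [hqm _ _ hdeS hf, hqv _ hdeS, ← hde_ed, hqv d hdS, hqv e he]
    exact inv_mul_cancel _
  obtain ⟨s', hs', c, hc, hwsc⟩ := h.Zc_split hwZ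
  have hdd : d * d = 1 := by rw [← sq]; exact h.exp_D d hd
  have hee : e * e = 1 := by rw [← sq]; exact he2
  have hsq : (d * e) * (d * e) * (w * w) = 1 := by
    have hf' : f = d * e * w := by rw [hw]; group
    have := hf2
    rw [sq, hf', mul_assoc (d * e) w, ← mul_assoc w, ← Zc_comm hwZ hdeS] at this
    rw [← this]; group
  have hcomm' : (d * e) * (d * e) ∈ Sd S := by
    refine ⟨⁅(⟨d, hdS⟩ : S), (⟨e, he⟩ : S)⁆, ?_, ?_⟩
    · rw [commutator_def]
      exact Subgroup.commutator_mem_commutator (Subgroup.mem_top _) (Subgroup.mem_top _)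
    · show d * e * d⁻¹ * e⁻¹ = _
      rw [inv_eq_of_mul_eq_one_left hdd, inv_eq_of_mul_eq_one_left hee]
      group
  have hs2 : s' * s' = 1 := by rw [← sq]; exact h.exp_D s' (h.Sd_le hs')
  have hsc : Commute s' c := Zc_comm (h.C_le hc) (h.le_S (h.D_le (h.Sd_le hs')))
  have hc2 : c * c ∈ D ⊓ C := by
    refine ⟨h.Sd_le ?_, C.mul_mem hc hc⟩
    have hcc : c * c = w * w := by
      rw [hwsc, hsc.symm.mul_mul_mul_comm, hs2, one_mul]
    rw [hcc, ← inv_eq_of_mul_eq_one_right hsq]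
    exact (Sd S).inv_mem hcomm'
  rw [h.disj, Subgroup.mem_bot] at hc2
  -- so `(d e) ^ 2 = 1`, and `d`, `e` commute
  have hw2 : w * w = 1 := by rw [hwsc, hsc.symm.mul_mul_mul_comm, hs2, one_mul, hc2]
  rw [hw2, mul_one] at hsq
  have hcom : Commute d e := by
    have h1 := inv_eq_of_mul_eq_one_left hsq
    rw [mul_inv_rev, inv_eq_of_mul_eq_one_left hdd, inv_eq_of_mul_eq_one_left hee] at h1
    exact h1.symm
  refine hdZ ⟨hdS, Subgroup.mem_centralizer_iff.2 fun g hg => ?_⟩
  have hg' : q g = 1 ∨ q g = q d ∨ q g = q e ∨ q g = q f := by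
    by_contra hcon
    push Not at hcon
    have := Fintype.ofFinite (S ⧸ Subgroup.center S)
    classical
    have h5 : ({1, q d, q e, q f, q g} : Finset (S ⧸ Subgroup.center S)).card = 5 := by
      rw [Finset.card_eq_succ]
      refine ⟨1, {q d, q e, q f, q g},
        by simp [h1d.symm, h1e.symm, h1f.symm, Ne.symm hcon.1], rfl, ?_⟩
      simp [hdne, hdnf, henf, Ne.symm hcon.2.1, Ne.symm hcon.2.2.1, Ne.symm hcon.2.2.2]
    have := Finset.card_le_univ ({1, q d, q e, q f, q g} : Finset (S ⧸ Subgroup.center S))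
    rw [h5, ← Nat.card_eq_fintype_card, hcard] at this
    omega
  have key : ∀ k, k ∈ S → q g = q k → Commute k d → g * d = d * g := by
    intro k hk hqk hkd
    have hz : k⁻¹ * g ∈ Zc S :=
      (hqZ _ (S.mul_mem (S.inv_mem hk) hg)).1 (by rw [hqm k g hk hg, hqk, inv_mul_cancel])
    have h2 : Commute (k⁻¹ * g) d := (Zc_comm hz hdS).symm
    have := hkd.mul_left h2
    rwa [mul_inv_cancel_left] at this
  rcases hg' with hh | hh | hh | hh
  · exact (Zc_comm ((hqZ g hg).1 hh) hdS).symm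
  · exact key d hdS hh (Commute.refl d)
  · exact key e he hh hcom.symm
  · refine key f hf hh ?_
    rw [show f = d * e * w by rw [hw]; group]
    exact ((Commute.refl d).mul_left hcom.symm).mul_left (Zc_comm hwZ hdS).symm

/-- Automorphisms in the residual and inner ones preserve `C`, provided those of order prime to
`p` do. -/
theorem preserves_of_coprime (hS : IsPGroup p S) (hF : F.IsSaturated p) {C : Subgroup Ω}
    (hC : C ≤ Zc S) (h : ∀ a : F.autGroup S, (orderOf a).Coprime p →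
      ∀ x : S, (x : Ω) ∈ C → (((a : MulAut S) x : S) : Ω) ∈ C) :
    ∀ α ∈ F.autGroup S, ∀ x : S, (x : Ω) ∈ C → ((α x : S) : Ω) ∈ C := by
  have := Fusion.finite_mulAut (Ω := Ω) (le_refl S)
  let K : Subgroup (MulAut S) :=
    { carrier := {α | ∀ x : S, (x : Ω) ∈ C ↔ ((α x : S) : Ω) ∈ C}
      one_mem' := fun x => Iff.rfl
      mul_mem' := fun {a b} ha hb x => (hb x).trans (ha (b x))
      inv_mem' := fun {a} ha x => by
        have := ha (a⁻¹ x)
        rw [MulAut.apply_inv_self] at this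
        exact this.symm }
  have hsub : F.autGroup S ≤ K := by
    refine autGroup_le_of_residual (K := K) (p := p)
      (isFullyAutomized_of_fullyNormalized hS hF (isFullyNormalized_self F)) ?_ ?_
    · rw [Subgroup.map_le_iff_le_comap]
      refine (Subgroup.closure_le _).2 fun a ha x => ⟨h a ha x, fun hx => ?_⟩
      have := h a⁻¹ (by rw [orderOf_inv]; exact ha) _ hx
      simpa using this
    · intro α hα x
      obtain ⟨g, hg, hgv⟩ := mem_autInducedBy_iff.1 hα
      rw [hgv]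
      constructor
      · intro hx
        rwa [Zc_comm (hC hx) hg, mul_inv_cancel_right]
      · intro hx
        have h1 : (x : Ω) = g⁻¹ * (g * (x : Ω) * g⁻¹) * g⁻¹⁻¹ := by group
        rw [h1, Zc_comm (hC hx) (S.inv_mem hg), mul_inv_cancel_right]
        exact hx
  exact fun α hα x hx => (hsub hα x).1 hx

omit [Finite S] in
theorem exists_notMem_Zc {R D C : Subgroup Ω} (h : Data F p R D C) : ∃ d ∈ D, d ∉ Zc S := by
  by_contra hall
  push Not at hall
  have h1 : D ⊓ Zc S = D := inf_eq_left.2 hall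
  rw [h.D_inf] at h1
  have h2 := h.card_D
  rw [← h1, h.card_Sd, sq] at h2
  exact absurd h2 (Nat.ne_of_lt (lt_mul_of_one_lt_right hp.out.pos hp.out.one_lt))

/-- `R` is generated by `Z(S)` and any element of `D` outside it. -/
theorem exists_pow {R D C : Subgroup Ω} (h : Data F p R D C) {d : Ω} (hd : d ∈ D)
    (hdZ : d ∉ Zc S) {r : Ω} (hr : r ∈ R) : ∃ z ∈ Zc S, ∃ i : ℕ, r = z * d ^ i := by
  have := Fusion.finite_of_le (Ω := Ω) h.le_S
  have : ((Zc S).subgroupOf R).Normal := ⟨fun n hn g => by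
    have hn' : (n : Ω) ∈ Zc S := hn
    refine Subgroup.mem_subgroupOf.2 ?_
    show (g : Ω) * n * (g : Ω)⁻¹ ∈ Zc S
    rw [Zc_comm hn' (h.le_S g.2), mul_inv_cancel_right]
    exact hn'⟩
  have hdR := h.D_le hd
  have htop : (Zc S).subgroupOf R ⊔ Subgroup.zpowers (⟨d, hdR⟩ : R) = ⊤ := by
    refine Subgroup.eq_top_of_card_eq _ ?_
    rw [PGroup.card_sup_zpowers _ (fun hh => hdZ (Subgroup.mem_subgroupOf.1 hh))
      (Subgroup.mem_subgroupOf.2 (show d ^ p ∈ Zc S by rw [h.exp_D d hd]; exact Subgroup.one_mem _)),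
      Nat.card_congr (Subgroup.subgroupOfEquivOfLe h.Zc_le').toEquiv, h.card_R]
  have hr' : (⟨r, hr⟩ : R) ∈
      (((Zc S).subgroupOf R ⊔ Subgroup.zpowers (⟨d, hdR⟩ : R) : Subgroup R) : Set R) := by
    rw [htop]; trivial
  rw [Subgroup.normal_mul] at hr'
  obtain ⟨w, hw, y, hy, he⟩ := hr'
  obtain ⟨i, rfl⟩ := (isOfFinOrder_of_finite _).mem_powers_iff_mem_zpowers.2 hy
  exact ⟨w, hw, i, (congrArg Subtype.val he).symm⟩

/-- Two radical subgroups sharing an element outside the centre are equal. -/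
theorem eq_of_shared {R D C R' D' C' : Subgroup Ω} (h : Data F p R D C) (h' : Data F p R' D' C')
    {e : Ω} (he : e ∈ D') (heZ : e ∉ Zc S) (heR : e ∈ R) : R' = R := by
  refine eq_of_le_of_card_le h.le_S (fun r hr => ?_) (by rw [h.card_R, h'.card_R])
  obtain ⟨z, hz, i, rfl⟩ := exists_pow h' he heZ hr
  exact R.mul_mem (h.Zc_le' hz) (R.pow_mem heR i)

/-- Automorphisms of odd order fix each radical subgroup and its `D`, for `p = 2`. -/
theorem odd_fixes {F : Cfsg.FusionSystem S} [Fact (Nat.Prime 2)]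
    (hidx : (Subgroup.center S).index = 2 ^ 2) {R D C : Subgroup Ω} (h : Data F 2 R D C)
    {α : MulAut S} (hodd : Odd (orderOf α)) :
    ∀ x : S, (x : Ω) ∈ R → ((α x : S) : Ω) ∈ R := by
  obtain ⟨d, hd, hdZ⟩ := exists_notMem_Zc h
  have hdS : d ∈ S := h.le_S (h.D_le hd)
  set e : S := α ⟨d, hdS⟩ with he
  suffices heR : (e : Ω) ∈ R by
    intro x hx
    obtain ⟨z, hz, i, hi⟩ := exists_pow h hd hdZ hx
    rw [show x = ⟨z, hz.1⟩ * (⟨d, hdS⟩ : S) ^ i from Subtype.ext hi, map_mul, map_pow, ← he]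
    exact R.mul_mem (h.Zc_le' (apply_mem_Zc (x := ⟨z, hz.1⟩) hz)) (R.pow_mem heR i)
  by_contra heR
  have hinvZ : ∀ (β : MulAut S) (x : S), (β x : Ω) ∈ Zc S → (x : Ω) ∈ Zc S := fun β x hx => by
    have := apply_mem_Zc (α := β⁻¹) hx
    rwa [MulAut.inv_apply_self] at this
  have hfR : ((α e : S) : Ω) ∉ R := by
    intro hf
    have h2 : ∀ x : S, (x : Ω) ∈ R → ((α (α x) : S) : Ω) ∈ R := by
      intro x hx
      obtain ⟨z, hz, i, hi⟩ := exists_pow h hd hdZ hx
      rw [show x = ⟨z, hz.1⟩ * (⟨d, hdS⟩ : S) ^ i from Subtype.ext hi]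
      simp only [map_mul, map_pow, ← he]
      exact R.mul_mem (h.Zc_le' (apply_mem_Zc (apply_mem_Zc (x := ⟨z, hz.1⟩) hz))) (R.pow_mem hf i)
    obtain ⟨k, hk⟩ := hodd
    have hα : α = (α ^ 2) ^ (k + 1) := by
      rw [← pow_mul, show 2 * (k + 1) = orderOf α + 1 by omega, pow_succ, pow_orderOf_eq_one, one_mul]
    have hit : ∀ n, ∀ x : S, (x : Ω) ∈ R → ((((α ^ 2) ^ n) x : S) : Ω) ∈ R := by
      intro n
      induction n with
      | zero => exact fun x hx => hx
      | succ n ih =>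
        intro x hx
        rw [pow_succ, MulAut.mul_apply]
        refine ih _ ?_
        rw [sq]
        exact h2 x hx
    apply heR
    rw [he, hα]
    exact hit _ ⟨d, hdS⟩ (h.D_le hd)
  refine no_three hidx h hd hdZ e.2 (α e).2 ?_ ?_ heR hfR ?_
  · rw [← SubgroupClass.coe_pow, he, ← map_pow,
      show (⟨d, hdS⟩ : S) ^ 2 = 1 from Subtype.ext (h.exp_D d hd), map_one]
    rfl
  · rw [← SubgroupClass.coe_pow, he, ← map_pow, ← map_pow,
      show (⟨d, hdS⟩ : S) ^ 2 = 1 from Subtype.ext (h.exp_D d hd), map_one, map_one]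
    rfl
  · intro hz
    apply heR
    have hz' : ((α ((⟨d, hdS⟩ : S)⁻¹ * e) : S) : Ω) ∈ Zc S := by
      rw [map_mul, map_inv]; exact hz
    have h1 : d⁻¹ * (e : Ω) ∈ Zc S := hinvZ α _ hz'
    simpa using R.mul_mem (h.D_le hd) (h.Zc_le' h1)

/-- For `p = 2`: the restriction of an automorphism of odd order to a radical subgroup. -/
theorem odd_data {F : Cfsg.FusionSystem S} [Fact (Nat.Prime 2)]
    (hidx : (Subgroup.center S).index = 2 ^ 2) {R D C : Subgroup Ω} (h : Data F 2 R D C)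
    (a : F.autGroup S) (ha : Odd (orderOf a)) :
    (∀ x : S, (x : Ω) ∈ C → (((a : MulAut S) x : S) : Ω) ∈ C) ∧
      ∀ x : S, (x : Ω) ∈ D → (a : MulAut S) x = x := by
  have hodd : Odd (orderOf (a : MulAut S)) := by rwa [Subgroup.orderOf_coe]
  have hfix := odd_fixes hidx h hodd
  have hmem := restrict_mem ((mem_autGroup_iff le_rfl).1 a.2) h.le_S
  have hr := range_eq_of_le hmem h.le_S (fun r => hfix ⟨r, h.le_S r.2⟩ r.2) le_rfl
  have hinv := h.inv _ (toAut_mem hmem hr)
  refine ⟨fun x hx => (hinv ⟨x, h.Zc_le' (h.C_le hx)⟩).2 hx, ?_⟩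
  -- `S'` is fixed
  have hSd : ∀ x : S, (x : Ω) ∈ Sd S → (a : MulAut S) x = x := by
    intro x hx
    by_cases h1 : x = 1
    · rw [h1, map_one]
    have h2 : ((a : MulAut S) x : S) ≠ 1 := fun hh =>
      h1 ((a : MulAut S).injective (hh.trans (map_one _).symm))
    have := Fusion.finite_of_le (Ω := Ω) ((h.Sd_le.trans h.D_le).trans h.le_S)
    obtain ⟨u, v, -, huniv⟩ := Nat.card_eq_two_iff.mp h.card_Sd
    have hall : ∀ w : Sd S, w = u ∨ w = v := fun w => by simpa using huniv.ge (Set.mem_univ w)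
    have hne : ∀ (y : S) (hy : (y : Ω) ∈ Sd S), y ≠ 1 → (⟨y, hy⟩ : Sd S) ≠ 1 :=
      fun y hy hy1 hh => hy1 (Subtype.ext (congrArg Subtype.val hh : (y : Ω) = 1))
    have key : (⟨_, apply_mem_Sd (α := (a : MulAut S)) hx⟩ : Sd S) = ⟨x, hx⟩ := by
      have i1 := hne _ (apply_mem_Sd (α := (a : MulAut S)) hx) h2
      have i2 := hne x hx h1
      rcases hall 1 with q | q <;> rcases hall ⟨_, apply_mem_Sd (α := (a : MulAut S)) hx⟩ with r | r <;>
        rcases hall ⟨x, hx⟩ with t | t <;>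
        first
        | exact r.trans t.symm
        | exact absurd (r.trans q.symm) i1
        | exact absurd (t.trans q.symm) i2
    exact Subtype.ext (congrArg (fun w : Sd S => (w : Ω)) key)
  obtain ⟨k, hk⟩ := hodd
  have hα : (a : MulAut S) = ((a : MulAut S) ^ 2) ^ (k + 1) := by
    rw [← pow_mul, show 2 * (k + 1) = orderOf (a : MulAut S) + 1 by omega, pow_succ,
      pow_orderOf_eq_one, one_mul]
  intro x hx
  have hax : (((a : MulAut S) x : S) : Ω) ∈ D := (hinv ⟨x, h.D_le hx⟩).1 hx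
  have hdelta : ((x⁻¹ * (a : MulAut S) x : S) : Ω) ∈ Sd S := by
    by_cases hxZ : (x : Ω) ∈ Zc S
    · exact h.D_inf.le ⟨D.mul_mem (D.inv_mem hx) hax,
        (Zc S).mul_mem ((Zc S).inv_mem hxZ) (apply_mem_Zc hxZ)⟩
    obtain ⟨z, hz, i, hi⟩ := exists_pow h hx hxZ (h.D_le hax)
    refine h.D_inf.le ⟨D.mul_mem (D.inv_mem hx) hax, ?_⟩
    have hx2 : ∀ n : ℕ, (x : Ω) ^ n = 1 ∨ (x : Ω) ^ n = x := by
      intro n
      induction n with
      | zero => exact Or.inl (pow_zero _)
      | succ n ih =>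
        rcases ih with hh | hh
        · exact Or.inr (by rw [pow_succ, hh, one_mul])
        · exact Or.inl (by rw [pow_succ, hh, ← sq, h.exp_D _ hx])
    rcases hx2 i with hh | hh
    · exfalso
      rw [hh, mul_one] at hi
      refine hxZ ?_
      have h1 : (((a : MulAut S) x : S) : Ω) ∈ Zc S := by rw [hi]; exact hz
      have := apply_mem_Zc (α := (a : MulAut S)⁻¹) h1
      rwa [MulAut.inv_apply_self] at this
    · rw [hh] at hi
      show (x : Ω)⁻¹ * (((a : MulAut S) x : S) : Ω) ∈ Zc S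
      rw [hi, Zc_comm hz (S.inv_mem x.2) |> fun e => (mul_assoc _ _ _).symm.trans (by rw [e]),
        mul_assoc, inv_mul_cancel, mul_one]
      exact hz
  have h2 : ((a : MulAut S) ^ 2) x = x := by
    rw [Fusion.aut_pow_apply_of_fixed _ (mul_inv_cancel_left x _).symm (hSd _ hdelta) 2,
      show (x⁻¹ * (a : MulAut S) x) ^ 2 = 1 from Subtype.ext (h.exp_D _ (h.Sd_le hdelta)), mul_one]
  rw [hα]
  clear hα hk
  induction k + 1 with
  | zero => rfl
  | succ n ih => rw [pow_succ, MulAut.mul_apply, h2, ih]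

/-- For `p = 2` two different radical subgroups have the same `C`, if `hyp(F) = S`. -/
theorem two_subset {F : Cfsg.FusionSystem S} [Fact (Nat.Prime 2)] (hS : IsPGroup 2 S)
    (hF : F.IsSaturated 2) (hhyp : F.hyperfocalSubgroup 2 = S)
    (hidx : (Subgroup.center S).index = 2 ^ 2) {R D C R' D' C' : Subgroup Ω}
    (h : Data F 2 R D C) (h' : Data F 2 R' D' C') (hne : R' ≠ R) : C ≤ C' := by
  obtain ⟨hcl, hpow⟩ := quotient_facts hS hidx
  set Y : Subgroup Ω := Subgroup.closure {y | ∃ a : F.autGroup S, Odd (orderOf a) ∧ ∃ w : S,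
    (w : Ω) ∈ Zc S ∧ y = ((w⁻¹ * (a : MulAut S) w : S) : Ω)} with hY
  have hYle : ∀ {R D C : Subgroup Ω}, Data F 2 R D C → Y ≤ C := fun {R D C} h => by
    refine (Subgroup.closure_le _).2 ?_
    rintro _ ⟨a, ha, w, hw, rfl⟩
    obtain ⟨hC, hD⟩ := odd_data hidx h a ha
    obtain ⟨d, hd, c, hc, he⟩ := h.Zc_split hw
    have hdS : d ∈ S := h.le_S (h.D_le (h.Sd_le hd))
    rw [show w = (⟨d, hdS⟩ : S) * ⟨c, (h.C_le hc).1⟩ from Subtype.ext he, map_mul,
      hD ⟨d, hdS⟩ (h.Sd_le hd), mul_inv_rev, mul_assoc, inv_mul_cancel_left]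
    exact C.mul_mem (C.inv_mem hc) (hC ⟨c, (h.C_le hc).1⟩ hc)
  have hYZ : Y ≤ Zc S := (hYle h).trans h.C_le
  set E : Subgroup Ω := D ⊔ D' with hE
  set X : Subgroup Ω := E ⊔ Y with hX
  have hSdX : Sd S ≤ X := h.Sd_le.trans (le_sup_left.trans le_sup_left)
  obtain ⟨d, hd, hdZ⟩ := exists_notMem_Zc h
  obtain ⟨e, he, heZ⟩ := exists_notMem_Zc h'
  have heR : e ∉ R := fun hh => hne (eq_of_shared h h' he heZ hh)
  have hRn : S ≤ Subgroup.normalizer (R : Set Ω) := by
    have h1 : ∀ g ∈ S, ∀ r ∈ R, g * r * g⁻¹ ∈ R := by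
      intro g hg r hr
      have h2 : g * r * g⁻¹ * r⁻¹ ∈ Zc S := by
        rw [Zc_eq]
        exact ⟨⁅(⟨g, hg⟩ : S), (⟨r, h.le_S hr⟩ : S)⁆, hcl _ _, rfl⟩
      simpa using R.mul_mem (h.Zc_le' h2) hr
    intro g hg
    refine Subgroup.mem_normalizer_iff.2 fun y => ⟨h1 g hg y, fun hy => ?_⟩
    simpa [mul_assoc] using h1 g⁻¹ (S.inv_mem hg) _ hy
  have heS : e ∈ S := h'.le_S (h'.D_le he)
  have hcS : Nat.card S = Nat.card R * 2 := by
    rw [h.card_R, Zc_eq, Subgroup.card_map_of_injective S.subtype_injective, mul_assoc, ← sq,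
      ← hidx, Subgroup.card_mul_index]
  have hgenS : ∀ g ∈ S, ∃ w ∈ Zc S, ∃ i j : ℕ, g = w * d ^ i * e ^ j := by
    intro g hg
    obtain ⟨r, hr, j, rfl⟩ :=
      exists_mul_pow h.le_S hRn hcS heS heR (h.Zc_le' (hpow e heS)) hg
    obtain ⟨w, hw, i, rfl⟩ := exists_pow h hd hdZ hr
    exact ⟨w, hw, i, j, rfl⟩
  have hinner : ∀ (g : Ω), g ∈ S → ∀ x ∈ S, x⁻¹ * (g * x * g⁻¹) ∈ X := by
    intro g hg x hx
    refine hSdX ⟨⁅(⟨x, hx⟩ : S)⁻¹, (⟨g, hg⟩ : S)⁆, ?_, ?_⟩
    · rw [commutator_def]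
      exact Subgroup.commutator_mem_commutator (Subgroup.mem_top _) (Subgroup.mem_top _)
    · show x⁻¹ * g * x⁻¹⁻¹ * g⁻¹ = _
      group
  -- automorphisms of `S` move elements inside `X`
  let K : Subgroup (MulAut S) :=
    { carrier := {α | ∀ x : S, (x : Ω)⁻¹ * ((α x : S) : Ω) ∈ X}
      one_mem' := fun x => by simp
      mul_mem' := fun {a b} ha hb x => by
        have := X.mul_mem (hb x) (ha (b x))
        simpa [mul_assoc] using this
      inv_mem' := fun {a} ha x => by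
        have := X.inv_mem (ha (a⁻¹ x))
        simpa [mul_assoc] using this }
  have hSK : F.autGroup S ≤ K := by
    refine autGroup_le_of_residual (K := K) (p := 2)
      (isFullyAutomized_of_fullyNormalized hS hF (isFullyNormalized_self F)) ?_ ?_
    · rw [Subgroup.map_le_iff_le_comap]
      refine (Subgroup.closure_le _).2 fun a ha x => ?_
      have hodd : Odd (orderOf a) := by
        rw [Nat.odd_iff]
        by_contra hh
        exact Nat.Prime.not_coprime_iff_dvd.2 ⟨2, Nat.prime_two, by omega, dvd_rfl⟩ ha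
      obtain ⟨-, hD⟩ := odd_data hidx h a hodd
      obtain ⟨-, hD'⟩ := odd_data hidx h' a hodd
      obtain ⟨w, hw, i, j, hx⟩ := hgenS x x.2
      have hdS : d ∈ S := h.le_S (h.D_le hd)
      have hxe : x = ⟨w, hw.1⟩ * ((⟨d, hdS⟩ : S) ^ i * (⟨e, heS⟩ : S) ^ j) :=
        Subtype.ext (hx.trans (mul_assoc _ _ _))
      refine Subgroup.mem_sup_right (Subgroup.subset_closure ⟨a, hodd, ⟨w, hw.1⟩, hw, ?_⟩)
      rw [← Subgroup.coe_inv, ← Subgroup.coe_mul]
      refine congrArg Subtype.val ?_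
      rw [hxe]
      simp only [Subgroup.coe_subtype, map_mul, map_pow, hD ⟨d, hdS⟩ hd, hD' ⟨e, heS⟩ he]
      set u : S := (⟨d, hdS⟩ : S) ^ i * (⟨e, heS⟩ : S) ^ j
      have hc : u * ((⟨w, hw.1⟩ : S)⁻¹ * (a : MulAut S) ⟨w, hw.1⟩) =
          ((⟨w, hw.1⟩ : S)⁻¹ * (a : MulAut S) ⟨w, hw.1⟩) * u :=
        Subtype.ext (Zc_comm ((Zc S).mul_mem ((Zc S).inv_mem hw) (apply_mem_Zc hw)) u.2)
      calc (⟨w, hw.1⟩ * u)⁻¹ * ((a : MulAut S) ⟨w, hw.1⟩ * u)
          = u⁻¹ * (((⟨w, hw.1⟩ : S)⁻¹ * (a : MulAut S) ⟨w, hw.1⟩) * u) := by group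
        _ = _ := by rw [← hc, inv_mul_cancel_left]
    · intro α hα x
      obtain ⟨g, hg, hgv⟩ := mem_autInducedBy_iff.1 hα
      rw [hgv]
      exact hinner g hg x x.2
  -- so do all maps
  have hmaps : ∀ (P : Subgroup Ω) (φ : P →* Ω), φ ∈ F.Hom P → ∀ x : P, (x : Ω)⁻¹ * φ x ∈ X := by
    intro P φ hφ
    refine alperin_induction (C := fun P φ => ∀ x : P, (x : Ω)⁻¹ * φ x ∈ X) hS hF ?_ ?_ ?_ ?_ hφ
    · exact fun P g hP hg x => hinner g hg x (hP x.2)
    · intro P Q φ ψ _ _ hφ hψ hm x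
      have := X.mul_mem (hφ x) (hψ ⟨φ x, hm x⟩)
      simpa [mul_assoc] using this
    · intro P φ ψ _ hφ _ hi y
      obtain ⟨_, x, rfl⟩ := y
      rw [hi x]
      simpa using X.inv_mem (hφ x)
    · intro Q hQn hQc hQr α hα x
      show (x : Ω)⁻¹ * ((α x : Q) : Ω) ∈ X
      rcases eq_or_lt_of_le hQn.1 with rfl | hQS
      · exact hSK hα x
      obtain ⟨D'', C'', h''⟩ := exists_data hS hF hidx hQS hQn hQc hQr
      have hcase : ∃ D0 C0, Data F 2 Q D0 C0 ∧ D0 ≤ X := by
        by_cases hQR : Q = R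
        · exact ⟨D, C, hQR ▸ h, le_sup_left.trans le_sup_left⟩
        by_cases hQR' : Q = R'
        · exact ⟨D', C', hQR' ▸ h', le_sup_right.trans le_sup_left⟩
        exfalso
        obtain ⟨f, hf, hfZ⟩ := exists_notMem_Zc h''
        have hfS : f ∈ S := h''.le_S (h''.D_le hf)
        refine no_three hidx h hd hdZ heS hfS (h'.exp_D e he) (h''.exp_D f hf) heR
          (fun hh => hQR (eq_of_shared h h'' hf hfZ hh)) fun hz => ?_
        refine hQR' (eq_of_shared h' h'' hf hfZ ?_)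
        simpa using R'.mul_mem (h'.D_le he) (h'.Zc_le' hz)
      obtain ⟨D0, C0, h0, hD0X⟩ := hcase
      let K0 : Subgroup (F.autGroup Q) :=
        { carrier := {a | ∀ y : Q, (y : Ω) ∈ C0 → (a : MulAut Q) y = y}
          one_mem' := fun y _ => rfl
          mul_mem' := fun {a b} ha hb y hy => by
            show (a : MulAut Q) ((b : MulAut Q) y) = y
            rw [hb y hy, ha y hy]
          inv_mem' := fun {a} ha y hy => by
            show (a : MulAut Q)⁻¹ y = y
            conv_lhs => rw [← ha y hy]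
            exact MulAut.inv_apply_self Q (a : MulAut Q) y }
      have : K0.Normal := ⟨fun k hk a y hy => by
        show (a : MulAut Q) ((k : MulAut Q) ((a : MulAut Q)⁻¹ y)) = y
        rw [hk _ ((h0.inv _ (Subgroup.inv_mem _ a.2) y).2 hy), MulAut.apply_inv_self]⟩
      obtain ⟨k, hk, m, hkm, hm⟩ := exists_mul_normalizes
        (isFullyAutomized_of_fullyNormalized hS hF hQn) K0 (fun a ha y hy => by
          obtain ⟨g, hg, hgv⟩ := mem_autInducedBy_iff.1 ha
          refine Subtype.ext ((hgv y).trans ?_)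
          rw [Zc_comm (h0.C_le hy) hg, mul_inv_cancel_right]) ⟨α, hα⟩
      -- `k` moves inside `D0`
      have hk' : ∀ y : Q, (y : Ω)⁻¹ * (((k : MulAut Q) y : Q) : Ω) ∈ X := by
        intro y
        obtain ⟨u, hu, c, hc, hy⟩ := h0.split y y.2
        have huQ := h0.D_le hu
        have hcQ := h0.Zc_le' (h0.C_le hc)
        have hku : (((k : MulAut Q) ⟨u, huQ⟩ : Q) : Ω) ∈ D0 := (h0.inv _ k.2 ⟨u, huQ⟩).1 hu
        have hkuS := h0.le_S (h0.D_le hku)
        rw [show y = (⟨u, huQ⟩ : Q) * ⟨c, hcQ⟩ from Subtype.ext hy, map_mul, hk ⟨c, hcQ⟩ hc]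
        show (u * c)⁻¹ * ((((k : MulAut Q) ⟨u, huQ⟩ : Q) : Ω) * c) ∈ X
        rw [show (u * c)⁻¹ = u⁻¹ * c⁻¹ by
            rw [← mul_inv_rev, Zc_comm (h0.C_le hc) (h0.le_S huQ)],
          Zc_comm (h0.C_le hc) hkuS, mul_assoc, inv_mul_cancel_left]
        exact hD0X (D0.mul_mem (D0.inv_mem hu) hku)
      -- `m` extends to `S`
      have hm' : ∀ y : Q, (y : Ω)⁻¹ * (((m : MulAut Q) y : Q) : Ω) ∈ X := by
        obtain ⟨ψ, hψ, hψv⟩ := exists_extension_of_normalizes
          (isReceptive_of_fullyNormalized hS hF hQn) m.2 hm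
        have hSN : S ≤ normalizerIn S Q := by
          refine le_inf le_rfl fun g hg => ?_
          have h1 : ∀ g ∈ S, ∀ r ∈ Q, g * r * g⁻¹ ∈ Q := by
            intro g hg r hr
            have h2 : g * r * g⁻¹ * r⁻¹ ∈ Zc S := by
              rw [Zc_eq]
              exact ⟨⁅(⟨g, hg⟩ : S), (⟨r, h0.le_S hr⟩ : S)⁆, hcl _ _, rfl⟩
            simpa using Q.mul_mem (h0.Zc_le' h2) hr
          refine Subgroup.mem_normalizer_iff.2 fun y => ⟨h1 g hg y, fun hy => ?_⟩
          simpa [mul_assoc] using h1 g⁻¹ (S.inv_mem hg) _ hy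
        have hψS := restrict_mem hψ hSN
        have hrange := range_eq_of_le hψS le_rfl (fun y => apply_mem hψS y) le_rfl
        intro y
        have h1 := hSK (toAut_mem hψS hrange) ⟨y, h0.le_S y.2⟩
        rw [coe_toAut] at h1
        rw [← hψv y (hSN (h0.le_S y.2))]
        exact h1
      have h1 := X.mul_mem (hm' x) (hk' ((m : MulAut Q) x))
      rw [show (α : MulAut Q) x = (k : MulAut Q) ((m : MulAut Q) x) from
        congrArg (fun a : F.autGroup Q => (a : MulAut Q) x) hkm]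
      simpa [mul_assoc] using h1
  have hSX : S ≤ X := by
    rw [← hhyp]
    refine (Subgroup.closure_le _).2 ?_
    rintro _ ⟨P, α, x, hP, -, rfl⟩
    exact hmaps P _ ((mem_autGroup_iff hP).1 α.2) x
  intro c hc
  have hcX : c ∈ ((E ⊔ Y : Subgroup Ω) : Set Ω) := hSX (h.C_le hc).1
  have hES : E ≤ S := sup_le (h.D_le.trans h.le_S) (h'.D_le.trans h'.le_S)
  rw [Subgroup.coe_mul_of_right_le_normalizer_left E Y (fun y hy =>
    Subgroup.centralizer_le_normalizer _ (Subgroup.mem_centralizer_iff.2 fun u hu =>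
      Zc_comm (hYZ hy) (hES hu)))] at hcX
  obtain ⟨u, hu, y, hy, rfl⟩ := hcX
  have hyC : y ∈ C := hYle h hy
  have huC : u ∈ C := by simpa using C.mul_mem hc (C.inv_mem hyC)
  have huD : u ∈ D := by
    have hu' : u ∈ ((D ⊔ D' : Subgroup Ω) : Set Ω) := hu
    rw [Subgroup.coe_mul_of_right_le_normalizer_left D D' (fun b hb => by
      refine Subgroup.mem_normalizer_iff.2 fun v => ?_
      have h1 : ∀ g ∈ S, ∀ r ∈ D, g * r * g⁻¹ ∈ D := by
        intro g hg r hr
        have h2 : g * r * g⁻¹ * r⁻¹ ∈ Sd S := by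
          refine ⟨⁅(⟨g, hg⟩ : S), (⟨r, h.le_S (h.D_le hr)⟩ : S)⁆, ?_, rfl⟩
          rw [commutator_def]
          exact Subgroup.commutator_mem_commutator (Subgroup.mem_top _) (Subgroup.mem_top _)
        simpa using D.mul_mem (h.Sd_le h2) hr
      have hbS := h'.le_S (h'.D_le hb)
      refine ⟨h1 b hbS v, fun hv => ?_⟩
      simpa [mul_assoc] using h1 b⁻¹ (S.inv_mem hbS) _ hv)] at hu'
    obtain ⟨a, ha, b, hb, rfl⟩ := hu'
    have hbR : b ∈ R := by
      simpa using R.mul_mem (R.inv_mem (h.D_le ha)) (h.Zc_le' (h.C_le huC))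
    by_cases hbZ : b ∈ Zc S
    · exact D.mul_mem ha (h.Sd_le (h'.D_inf.le ⟨hb, hbZ⟩))
    · exact absurd (eq_of_shared h h' hb hbZ hbR) hne
  have hu1 : u ∈ D ⊓ C := ⟨huD, huC⟩
  rw [h.disj, Subgroup.mem_bot] at hu1
  subst hu1
  simpa using hYle h' hy

/-- Let p be a prime, S a nontrivial finite p-group whose centre has index at most p², and F a saturated fusion system over S with no nontrivial normal subgroup and with hyperfocal subgroup equal to S. Then S is extraspecial of order p³; for odd p it has exponent p, and for p = 2 it is dihedral of order 8. -/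
theorem result {Ω : Type*} [Group Ω] {S : Subgroup Ω} [Finite S] (p : ℕ) [Fact p.Prime] (hS : IsPGroup p ↥S) (F : Cfsg.FusionSystem S) (hF : F.IsSaturated p) (hS1 : S ≠ ⊥) (hcore : F.core = ⊥) (hhyp : F.hyperfocalSubgroup p = S) (hZ : (Subgroup.center ↥S).index ≤ p ^ 2) : Cfsg.IsExtraspecial p ↥S ∧ Nat.card S = p ^ 3 ∧ (p ≠ 2 → Monoid.exponent ↥S = p) ∧ (p = 2 → Nonempty (↥S ≃* DihedralGroup 4)) := by
  have hpp : p.Prime := Fact.out
  have hnonormal : ∀ Q : Subgroup Ω, F.IsNormal Q → Q = ⊥ := fun Q hQ => by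
    by_contra hne
    exact absurd hcore (core_ne_bot_iff.2 ⟨Q, hne, hQ⟩)
  have hSsc : F.StronglyClosed S := ⟨le_rfl, fun R _ φ hφ x => apply_mem hφ x⟩
  have hidx : (Subgroup.center S).index = p ^ 2 := by
    obtain ⟨k, hk⟩ := hS.index (Subgroup.center S)
    have hk2 : k ≤ 2 := (Nat.pow_le_pow_iff_right hpp.one_lt).1 (hk ▸ hZ)
    by_contra hne
    have hk1 : k ≤ 1 := by
      by_contra h
      exact hne (by rw [hk, show k = 2 by omega])
    have hc : IsCyclic (S ⧸ Subgroup.center S) := by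
      interval_cases k
      · have hc1 : Nat.card (S ⧸ Subgroup.center S) = 1 := by
          rw [← Subgroup.index_eq_card, hk, pow_zero]
        have : Subsingleton (S ⧸ Subgroup.center S) := (Nat.card_eq_one_iff_unique.1 hc1).1
        infer_instance
      · exact isCyclic_of_prime_card (p := p) (by rw [← Subgroup.index_eq_card, hk, pow_one])
    have h := commutative_of_cyclic_center_quotient (QuotientGroup.mk' (Subgroup.center S))
      (by rw [QuotientGroup.ker_mk'])
    exact hS1 (hnonormal S (isNormal_of_abelian hS hF hSsc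
      (PGroup.isMulCommutative_of_forall fun a ha b hb =>
        congrArg Subtype.val (h ⟨a, ha⟩ ⟨b, hb⟩))))
  obtain ⟨hcl, hpow⟩ := quotient_facts hS hidx
  obtain ⟨R, hRS, hRn, hRc, hRr⟩ : ∃ R : Subgroup Ω, R < S ∧ F.IsFullyNormalized R ∧
      F.IsCentric R ∧ F.IsRadical p R := by
    by_contra hnone
    refine hS1 (hnonormal S (isNormal_of_stronglyClosed hS hF hSsc fun R hn hc hr => ?_))
    by_contra hle
    exact hnone ⟨R, lt_of_le_not_ge hn.1 hle, hn, hc, hr⟩
  obtain ⟨D, C, h⟩ := exists_data hS hF hidx hRS hRn hRc hRr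
  have hexp : ∀ d ∈ Sd S, d ^ p = 1 := fun d hd => h.exp_D d (h.Sd_le hd)
  have hSdZ : Sd S ≤ Zc S := h.D_inf ▸ inf_le_right
  have hC : C = ⊥ := by
    -- automorphisms of `S` and other radical subgroups
    have hβt : ∀ {R D C : Subgroup Ω}, Data F p R D C → ∀ β : MulAut S,
        (∀ x : S, (x : Ω) ∈ Sd S → β x = x⁻¹) → (∀ x : S, (x : Ω) ∈ C → β x = x) →
        ∀ x : S, (x : Ω) ∈ Zc S → ((x⁻¹ * β x : S) : Ω) ∈ Sd S := by
      intro R D C h β hi hf x hx
      obtain ⟨d, hd, c, hc, he⟩ := h.Zc_split hx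
      have hdS : d ∈ S := (hSdZ hd).1
      rw [show x = (⟨d, hdS⟩ : S) * ⟨c, (h.C_le hc).1⟩ from Subtype.ext he, map_mul,
        hi ⟨d, hdS⟩ hd, hf ⟨c, (h.C_le hc).1⟩ hc]
      show (d * c)⁻¹ * (d⁻¹ * c) ∈ Sd S
      rw [mul_inv_rev, show c⁻¹ * d⁻¹ * (d⁻¹ * c) = c⁻¹ * ((d⁻¹ * d⁻¹) * c) by group,
        Zc_comm (h.C_le hc) (S.mul_mem (S.inv_mem hdS) (S.inv_mem hdS)), inv_mul_cancel_left]
      exact (Sd S).mul_mem ((Sd S).inv_mem hd) ((Sd S).inv_mem hd)
    have hkey : (∀ α ∈ F.autGroup S, ∀ x : S, (x : Ω) ∈ C → ((α x : S) : Ω) ∈ C) ∧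
        ∀ R' D' C', Data F p R' D' C' → R' ≠ R → C' = C := by
      rcases eq_or_ne p 2 with rfl | hp2
      · refine ⟨preserves_of_coprime hS hF h.C_le fun a ha => (odd_data hidx h a ?_).1,
          fun R' D' C' h' hne => le_antisymm (two_subset hS hF hhyp hidx h' h (Ne.symm hne))
            (two_subset hS hF hhyp hidx h h' hne)⟩
        rw [Nat.odd_iff]
        by_contra hh
        exact Nat.Prime.not_coprime_iff_dvd.2 ⟨2, Nat.prime_two, by omega, dvd_rfl⟩ ha
      · obtain ⟨β, hβ, hβi, hβf⟩ := h.invol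
        have hfixed : ∀ x : S, (x : Ω) ∈ Zc S → β x = x → (x : Ω) ∈ C := by
          intro x hx hbx
          obtain ⟨d, hd, c, hc, he⟩ := h.Zc_split hx
          have hdS : d ∈ S := (hSdZ hd).1
          rw [show x = (⟨d, hdS⟩ : S) * ⟨c, (h.C_le hc).1⟩ from Subtype.ext he, map_mul,
            hβi ⟨d, hdS⟩ hd, hβf ⟨c, (h.C_le hc).1⟩ hc, mul_left_inj] at hbx
          have hd2 : d ^ 2 = 1 := by
            have h1 : d⁻¹ = d := congrArg Subtype.val hbx
            rw [sq]
            nth_rewrite 1 [← h1]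
            exact inv_mul_cancel d
          have hd1 : d = 1 := orderOf_eq_one_iff.1 (Nat.eq_one_of_dvd_coprimes
            ((Nat.coprime_primes hpp Nat.prime_two).2 hp2) (orderOf_dvd_of_pow_eq_one (hexp d hd))
            (orderOf_dvd_of_pow_eq_one hd2))
          rw [he, hd1, one_mul]
          exact hc
        refine ⟨fun α hα x hx => ?_, fun R' D' C' h' _ => ?_⟩
        · set γ : MulAut S := α * β * α⁻¹ with hγ
          have hγm : γ ∈ F.autGroup S :=
            Subgroup.mul_mem _ (Subgroup.mul_mem _ hα hβ) (Subgroup.inv_mem _ hα)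
          have hγi : ∀ y : S, (y : Ω) ∈ Sd S → γ y = y⁻¹ := by
            intro y hy
            rw [hγ, MulAut.mul_apply, MulAut.mul_apply, hβi _ (apply_mem_Sd hy), map_inv,
              MulAut.apply_inv_self]
          have hγt : ∀ y : S, (y : Ω) ∈ Zc S → ((y⁻¹ * γ y : S) : Ω) ∈ Sd S := by
            intro y hy
            have h1 := apply_mem_Sd (α := α) (hβt h β hβi hβf (α⁻¹ y) (apply_mem_Zc hy))
            rwa [map_mul, map_inv, MulAut.apply_inv_self] at h1
          have hxZ := apply_mem_Zc (α := α) (h.C_le hx)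
          refine hfixed _ hxZ ?_
          rw [agree hS hF hexp hSdZ hβ hγm hβi hγi (hβt h β hβi hβf) hγt _ hxZ, hγ,
            MulAut.mul_apply, MulAut.mul_apply, MulAut.inv_apply_self, hβf x hx]
        · obtain ⟨γ, hγ, hγi, hγf⟩ := h'.invol
          have hag := agree hS hF hexp hSdZ hβ hγ hβi hγi (hβt h β hβi hβf) (hβt h' γ hγi hγf)
          have hle : C' ≤ C := fun c hc => by
            have hcS := (h'.C_le hc).1
            exact hfixed ⟨c, hcS⟩ (h'.C_le hc)
              ((hag ⟨c, hcS⟩ (h'.C_le hc)).trans (hγf ⟨c, hcS⟩ hc))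
          refine le_antisymm hle fun c hc => ?_
          obtain ⟨d, hd, c', hc', he⟩ := h'.Zc_split (h.C_le hc)
          have hdC : d ∈ D ⊓ C :=
            ⟨h.Sd_le hd, by simpa [he] using C.mul_mem hc (C.inv_mem (hle hc'))⟩
          rw [h.disj, Subgroup.mem_bot] at hdC
          rw [he, hdC, one_mul]
          exact hc'
    have hCS : C ≤ S := h.C_le.trans (Zc_le S)
    have := Fusion.finite_of_le (Ω := Ω) hCS
    refine hnonormal C (isNormal_of_invariant hS hF hCS ?_ fun Q hQS hQn hgen => ?_)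
    · intro α hα
      refine Subgroup.eq_of_le_of_card_ge ?_
        (le_of_eq (Subgroup.card_map_of_injective α.injective).symm)
      rintro _ ⟨x, hx, rfl⟩
      exact hkey.1 α hα x hx
    · obtain ⟨hQc, hQr⟩ := centric_radical_of_not_generated hS hF hQn hgen
      have hex : ∃ D', Data F p Q D' C := by
        by_cases hQR : Q = R
        · exact ⟨D, hQR ▸ h⟩
        · obtain ⟨D', C', h'⟩ := exists_data hS hF hidx hQS hQn hQc hQr
          exact ⟨D', hkey.2 Q D' C' h' hQR ▸ h'⟩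
      obtain ⟨D', h'⟩ := hex
      have := Fusion.finite_of_le (Ω := Ω) hQn.1
      refine ⟨h'.C_le.trans h'.Zc_le', fun α hα => Subgroup.eq_of_le_of_card_ge ?_
        (le_of_eq (Subgroup.card_map_of_injective α.injective).symm)⟩
      rintro _ ⟨x, hx, rfl⟩
      exact (h'.inv α hα x).2 hx
  subst hC
  have hRD : R = D := le_antisymm (fun r hr => by
    obtain ⟨d, hd, c, hc, rfl⟩ := h.split r hr
    rw [Subgroup.mem_bot.1 hc, mul_one]; exact hd) h.D_le
  subst hRD
  have hZSd : Zc S = Sd S := by rw [← h.D_inf]; exact (inf_eq_right.2 h.Zc_le').symm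
  have hcenter : Subgroup.center S = commutator S :=
    Subgroup.map_injective S.subtype_injective (by rw [← Zc_eq, hZSd]; rfl)
  have hccard : Nat.card (Subgroup.center S) = p := by
    rw [← Subgroup.card_map_of_injective S.subtype_injective, ← Zc_eq, hZSd, h.card_Sd]
  have hScard : Nat.card S = p ^ 3 := by
    rw [← Subgroup.card_mul_index (Subgroup.center S), hidx, hccard]; ring
  have hclass : commutator S ≤ Subgroup.center S := hcenter.ge
  refine ⟨⟨⟨hS, ?_, hcenter.symm⟩, hccard⟩, hScard, fun hp2 => ?_, fun hp2 => ?_⟩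
  · refine le_antisymm (PGroup.frattini_le (p := p) hclass fun g => ?_)
      (hcenter.le.trans (PGroup.commutator_le_frattini hS))
    have := hpow g g.2
    rw [Zc_eq] at this
    obtain ⟨y, hy, he⟩ := this
    exact (Subtype.ext he : y = g ^ p) ▸ hy
  · -- an element of order `p` outside `D`
    obtain ⟨x, hxS, hxR, hxp⟩ : ∃ x ∈ S, x ∉ R ∧ x ^ p = 1 := by
      by_contra hall
      push Not at hall
      have hsc : F.StronglyClosed R := by
        refine ⟨h.le_S, fun P hP φ hφ y => ?_⟩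
        by_contra hy
        refine hall (φ y) (apply_mem hφ y) hy ?_
        rw [← map_pow, show y ^ p = 1 from Subtype.ext (h.exp_D _ (hP y.2)), map_one]
      obtain ⟨d, hd, hdZ⟩ := exists_notMem_Zc h
      have hab : IsMulCommutative R := PGroup.isMulCommutative_of_forall fun a ha b hb => by
        obtain ⟨u, hu, i, rfl⟩ := exists_pow h hd hdZ ha
        obtain ⟨v, hv, j, rfl⟩ := exists_pow h hd hdZ hb
        have hdS := h.le_S hd
        have hc : ∀ w ∈ Zc S, ∀ n : ℕ, Commute w (d ^ n) := fun w hw n =>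
          (Zc_comm hw (S.pow_mem hdS n)).symm
        exact (((show Commute u v from (Zc_comm hu hv.1).symm).mul_right (hc u hu j)).mul_left
          ((hc v hv i).symm.mul_right (Commute.pow_pow_self d i j))).eq
      have hR1 := hnonormal R (isNormal_of_abelian hS hF hsc hab)
      have := h.card_D
      rw [hR1, Subgroup.card_bot] at this
      exact (Nat.one_lt_pow two_ne_zero hpp.one_lt).ne this
    have hexpS : ∀ g : S, g ^ p = 1 := by
      intro g
      have hRn' : S ≤ Subgroup.normalizer (R : Set Ω) := by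
        have h1 : ∀ g ∈ S, ∀ r ∈ R, g * r * g⁻¹ ∈ R := by
          intro g hg r hr
          have h2 : g * r * g⁻¹ * r⁻¹ ∈ Zc S := by
            rw [Zc_eq]
            exact ⟨⁅(⟨g, hg⟩ : S), (⟨r, h.le_S hr⟩ : S)⁆, hcl _ _, rfl⟩
          simpa using R.mul_mem (h.Zc_le' h2) hr
        intro g hg
        refine Subgroup.mem_normalizer_iff.2 fun y => ⟨h1 g hg y, fun hy => ?_⟩
        simpa [mul_assoc] using h1 g⁻¹ (S.inv_mem hg) _ hy
      obtain ⟨r, hr, i, he⟩ := exists_mul_pow h.le_S hRn' (by rw [hScard, h.card_D]; ring) hxS hxR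
        (by rw [hxp]; exact R.one_mem) g.2
      refine PGroup.pow_eq_one_of_mem_closure hpp hp2 hclass
        (s := {⟨r, h.le_S hr⟩, ⟨x, hxS⟩}) ?_ ?_
      · rintro y (rfl | rfl)
        · exact Subtype.ext (h.exp_D r hr)
        · exact Subtype.ext hxp
      · rw [show g = (⟨r, h.le_S hr⟩ : S) * (⟨x, hxS⟩ : S) ^ i from Subtype.ext he]
        exact Subgroup.mul_mem _ (Subgroup.subset_closure (by simp))
          (Subgroup.pow_mem _ (Subgroup.subset_closure (by simp)) i)
    rcases (Nat.dvd_prime hpp).1 (Monoid.exponent_dvd_of_forall_pow_eq_one hexpS) with h1 | h1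
    · have := Monoid.exp_eq_one_iff.1 h1
      have h2 : Nat.card S = 1 := Nat.card_unique
      rw [hScard] at h2
      exact absurd h2 (Nat.one_lt_pow three_ne_zero hpp.one_lt).ne'
    · exact h1
  · subst hp2
    obtain ⟨d, hd, hdZ⟩ := exists_notMem_Zc h
    obtain ⟨x0, hx0S, hx0R⟩ := SetLike.exists_of_lt hRS
    have hdS := h.le_S hd
    have hdd : d * d = 1 := by rw [← sq]; exact h.exp_D d hd
    obtain ⟨a, haR, ha2⟩ : ∃ a : S, (a : Ω) ∉ R ∧ a * a ≠ 1 := by
      by_cases hxx : x0 * x0 = 1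
      · refine ⟨⟨x0, hx0S⟩ * ⟨d, hdS⟩, fun hh => hx0R ?_, fun hh => hdZ ⟨hdS, ?_⟩⟩
        · simpa using R.mul_mem hh (R.inv_mem hd)
        · have hh' : x0 * d * (x0 * d) = 1 := congrArg Subtype.val hh
          have hcom : Commute x0 d := by
            have h1 := inv_eq_of_mul_eq_one_left hh'
            rw [mul_inv_rev, inv_eq_of_mul_eq_one_left hdd, inv_eq_of_mul_eq_one_left hxx] at h1
            exact h1.symm
          refine Subgroup.mem_centralizer_iff.2 fun g hg => ?_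
          have hRn' : S ≤ Subgroup.normalizer (R : Set Ω) := by
            have h1 : ∀ g ∈ S, ∀ r ∈ R, g * r * g⁻¹ ∈ R := by
              intro g hg r hr
              have h2 : g * r * g⁻¹ * r⁻¹ ∈ Zc S := by
                rw [Zc_eq]
                exact ⟨⁅(⟨g, hg⟩ : S), (⟨r, h.le_S hr⟩ : S)⁆, hcl _ _, rfl⟩
              simpa using R.mul_mem (h.Zc_le' h2) hr
            intro g hg
            refine Subgroup.mem_normalizer_iff.2 fun y => ⟨h1 g hg y, fun hy => ?_⟩
            simpa [mul_assoc] using h1 g⁻¹ (S.inv_mem hg) _ hy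
          obtain ⟨r, hr, i, rfl⟩ := exists_mul_pow h.le_S hRn' (by rw [hScard, h.card_D]; rfl)
            hx0S hx0R (h.Zc_le' (hpow x0 hx0S)) hg
          obtain ⟨u, hu, j, rfl⟩ := exists_pow h hd hdZ hr
          exact (((show Commute u d from (Zc_comm hu hdS).symm).mul_left (Commute.pow_self d j)).mul_left
            (hcom.pow_left i)).eq
      · exact ⟨⟨x0, hx0S⟩, hx0R, fun hh => hxx (congrArg Subtype.val hh)⟩
    have hha : a ^ 2 ∈ Subgroup.center S := by
      have := hpow a a.2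
      rw [Zc_eq] at this
      obtain ⟨y, hy, he⟩ := this
      exact (Subtype.ext he : y = a ^ 2) ▸ hy
    have ha4 : (a ^ 2) ^ 2 = 1 := by
      have h1 : ((a ^ 2 : S) : Ω) ∈ Sd S := by rw [← hZSd, Zc_eq]; exact ⟨_, hha, rfl⟩
      exact Subtype.ext (hexp _ h1)
    have hoa : orderOf a = 4 := orderOf_eq_prime_pow (p := 2) (n := 1)
      (by rw [pow_one, sq]; exact ha2) (by rw [show 2 ^ (1 + 1) = 2 * 2 from rfl, pow_mul]; exact ha4)
    refine PGroup.dihedralEquivOfRel (a := a) (b := ⟨d, hdS⟩) hoa ?_ (Subtype.ext (h.exp_D d hd))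
      ?_ (by rw [hScard]; rfl)
    · intro hmem
      apply hdZ
      obtain ⟨n, hn⟩ := (isOfFinOrder_of_finite a).mem_powers_iff_mem_zpowers.2 hmem
      simp only at hn
      rcases Nat.even_or_odd' n with ⟨m, rfl | rfl⟩
      · rw [pow_mul] at hn
        rw [Zc_eq]
        exact ⟨_, Subgroup.pow_mem _ hha m, congrArg Subtype.val hn⟩
      · exfalso
        apply haR
        have hn' : (a : Ω) ^ (2 * m + 1) = d := congrArg Subtype.val hn
        rw [pow_succ, pow_mul] at hn'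
        have h1 := R.mul_mem (R.inv_mem (R.pow_mem (h.Zc_le' (hpow a a.2)) m)) (hn'.symm ▸ hd)
        simpa using h1
    · -- `[d, a]` is the involution of `S'`
      have hcomm : ⁅(⟨d, hdS⟩ : S), a⁆ ≠ 1 := by
        intro hh
        apply hdZ
        have hRn' : S ≤ Subgroup.normalizer (R : Set Ω) := by
          have h1 : ∀ g ∈ S, ∀ r ∈ R, g * r * g⁻¹ ∈ R := by
            intro g hg r hr
            have h2 : g * r * g⁻¹ * r⁻¹ ∈ Zc S := by
              rw [Zc_eq]
              exact ⟨⁅(⟨g, hg⟩ : S), (⟨r, h.le_S hr⟩ : S)⁆, hcl _ _, rfl⟩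
            simpa using R.mul_mem (h.Zc_le' h2) hr
          intro g hg
          refine Subgroup.mem_normalizer_iff.2 fun y => ⟨h1 g hg y, fun hy => ?_⟩
          simpa [mul_assoc] using h1 g⁻¹ (S.inv_mem hg) _ hy
        refine ⟨hdS, Subgroup.mem_centralizer_iff.2 fun g hg => ?_⟩
        obtain ⟨r, hr, i, rfl⟩ := exists_mul_pow h.le_S hRn' (by rw [hScard, h.card_D]; rfl)
          a.2 haR (h.Zc_le' (hpow a a.2)) hg
        obtain ⟨u, hu, j, rfl⟩ := exists_pow h hd hdZ hr
        have hcom : Commute (a : Ω) d :=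
          congrArg Subtype.val (commutatorElement_eq_one_iff_mul_comm.1 hh).symm
        exact (((show Commute u d from (Zc_comm hu hdS).symm).mul_left (Commute.pow_self d j)).mul_left
          (hcom.pow_left i)).eq
      have heq : ⁅(⟨d, hdS⟩ : S), a⁆ = a ^ 2 := by
        have h1 : ⁅(⟨d, hdS⟩ : S), a⁆ ∈ Subgroup.center S := hcl _ _
        obtain ⟨u, v, -, huniv⟩ := Nat.card_eq_two_iff.mp hccard
        have hall : ∀ w : Subgroup.center S, w = u ∨ w = v :=
          fun w => by simpa using huniv.ge (Set.mem_univ w)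
        have i1 : (⟨_, h1⟩ : Subgroup.center S) ≠ 1 := fun hh => hcomm (congrArg Subtype.val hh)
        have i2 : (⟨_, hha⟩ : Subgroup.center S) ≠ 1 := fun hh =>
          ha2 (by rw [← sq]; exact congrArg Subtype.val hh)
        have key : (⟨_, h1⟩ : Subgroup.center S) = ⟨_, hha⟩ := by
          rcases hall 1 with q | q <;> rcases hall ⟨_, h1⟩ with r | r <;>
            rcases hall ⟨_, hha⟩ with t | t <;>
            first
            | exact r.trans t.symm
            | exact absurd (r.trans q.symm) i1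
            | exact absurd (t.trans q.symm) i2
        exact congrArg Subtype.val key
      rw [commutatorElement_def, mul_inv_eq_iff_eq_mul] at heq
      rw [heq]
      refine eq_inv_of_mul_eq_one_left ?_
      rw [← ha4]; group

end Cfsg.Agent.S5265
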