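import Cfsg.Statements.S5178
import Cfsg.Agent.S5265
import Cfsg.Agent.Lib.Fusion.Constrained
import Cfsg.Agent.Lib.PGroup.Basic
import Cfsg.Agent.Lib.Fusion.SmallEssential
import Cfsg.Agent.Lib.Fusion.ModelEmbed
-- import your own Cfsg.Agent.* helpers here

set_option autoImplicit false
universe u
open Cfsg

namespace Cfsg.Agent.S5178

open Cfsg.FusionSystem Cfsg.Agent.Fusion Cfsg.Agent.Fusion.CentreIndexSq
open scoped commutatorElement

/-- A group of automorphisms of an abelian group having a large Sylow `p`-subgroup of transvections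
with centre `z` and a strongly `p`-embedded subgroup fixes the line of `z`. -/
theorem line_invariant {R : Type*} [Group R] [Finite R] {p : ℕ} [Fact p.Prime]
    (hR : ∀ a b : R, a * b = b * a)
    (A : Subgroup (MulAut R)) (T : Sylow p A) (z : R) (hz : z ^ p = 1)
    (htz : ∀ t ∈ (T : Subgroup A), (t : MulAut R) z = z)
    (htc : ∀ t ∈ (T : Subgroup A), ∀ r : R, r⁻¹ * (t : MulAut R) r ∈ Subgroup.zpowers z)
    (hT : p < Nat.card (T : Subgroup A))
    (E : Subgroup A) (hE : E ≠ ⊤)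
    (hmem : ∀ t ∈ (T : Subgroup A), t ≠ 1 → ∀ x : A, x * t * x⁻¹ ∈ (T : Subgroup A) → x ∈ E)
    (g : A) : (g : MulAut R) z ∈ Subgroup.zpowers z := by
  have : Finite (MulAut R) :=
    Finite.of_injective (fun b : MulAut R => (b : R → R)) DFunLike.coe_injective
  have hpp : p.Prime := Fact.out
  have hfix : ∀ w : R, ∃ t ∈ (T : Subgroup A), t ≠ 1 ∧ (t : MulAut R) w = w := by
    intro w
    let Φ : ↥(T : Subgroup A) → ↥(Subgroup.zpowers z) :=
      fun t => ⟨w⁻¹ * ((t : A) : MulAut R) w, htc t t.2 w⟩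
    have hni : ¬ Function.Injective Φ := by
      intro hinj
      have h1 := Nat.card_le_card_of_injective Φ hinj
      rw [Nat.card_zpowers] at h1
      exact absurd (h1.trans (Nat.le_of_dvd hpp.pos (orderOf_dvd_of_pow_eq_one hz))) (by omega)
    obtain ⟨a, b, hab, hne⟩ : ∃ a b, Φ a = Φ b ∧ a ≠ b := by
      simpa [Function.Injective] using hni
    refine ⟨(a : A)⁻¹ * b, (T : Subgroup A).mul_mem ((T : Subgroup A).inv_mem a.2) b.2,
      fun h => hne (Subtype.ext (inv_mul_eq_one.1 h)), ?_⟩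
    have h1 : ((a : A) : MulAut R) w = ((b : A) : MulAut R) w :=
      mul_left_cancel (congrArg Subtype.val hab)
    show ((a : A) : MulAut R)⁻¹ (((b : A) : MulAut R) w) = w
    rw [← h1, MulAut.inv_apply_self]
  have hline : ∀ g : A, (g : MulAut R) z ∈ Subgroup.zpowers z ∨ g ∈ E := by
    intro g
    by_contra hcon
    push Not at hcon
    obtain ⟨hgz, hgE⟩ := hcon
    obtain ⟨t, ht, ht1, htf⟩ := hfix ((g : MulAut R) z)
    obtain ⟨s, hs, hs1, hsf⟩ := hfix ((g : MulAut R)⁻¹ z)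
    set u := g * s * g⁻¹ with hu
    have huz : (u : MulAut R) z = z := by
      show (g : MulAut R) ((s : MulAut R) ((g : MulAut R)⁻¹ z)) = z
      rw [hsf, MulAut.apply_inv_self]
    have hugz : (u : MulAut R) ((g : MulAut R) z) = (g : MulAut R) z := by
      show (g : MulAut R) ((s : MulAut R) ((g : MulAut R)⁻¹ ((g : MulAut R) z))) = _
      rw [MulAut.inv_apply_self, htz s hs]
    have huc : ∀ r : R, r⁻¹ * (u : MulAut R) r ∈ Subgroup.zpowers ((g : MulAut R) z) := by
      intro r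
      obtain ⟨i, hi⟩ := Subgroup.mem_zpowers_iff.1 (htc s hs ((g : MulAut R)⁻¹ r))
      refine Subgroup.mem_zpowers_iff.2 ⟨i, ?_⟩
      rw [← map_zpow, hi, map_mul, map_inv, MulAut.apply_inv_self]
      rfl
    -- `t` fixes both centres, as does `u`, so they commute
    have hcom : Commute t u := by
      refine Subtype.ext (MulEquiv.ext fun r => ?_)
      show (t : MulAut R) ((u : MulAut R) r) = (u : MulAut R) ((t : MulAut R) r)
      obtain ⟨i, hi⟩ := Subgroup.mem_zpowers_iff.1 (huc r)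
      obtain ⟨j, hj⟩ := Subgroup.mem_zpowers_iff.1 (htc t ht r)
      have h1 : (t : MulAut R) ((u : MulAut R) r) = r * (r⁻¹ * (t : MulAut R) r) *
          (r⁻¹ * (u : MulAut R) r) := by
        calc (t : MulAut R) ((u : MulAut R) r)
            = (t : MulAut R) (r * ((g : MulAut R) z) ^ i) := by rw [hi, mul_inv_cancel_left]
          _ = (t : MulAut R) r * ((g : MulAut R) z) ^ i := by rw [map_mul, map_zpow, htf]
          _ = _ := by rw [hi, mul_inv_cancel_left]
      have h2 : (u : MulAut R) ((t : MulAut R) r) = r * (r⁻¹ * (u : MulAut R) r) *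
          (r⁻¹ * (t : MulAut R) r) := by
        calc (u : MulAut R) ((t : MulAut R) r)
            = (u : MulAut R) (r * z ^ j) := by rw [hj, mul_inv_cancel_left]
          _ = (u : MulAut R) r * z ^ j := by rw [map_mul, map_zpow, huz]
          _ = _ := by rw [hj, mul_inv_cancel_left]
      rw [h1, h2, mul_assoc r, mul_assoc r]
      exact congrArg (r * ·) (hR _ _)
    have hTP : IsPGroup p (Subgroup.zpowers t ⊔ Subgroup.zpowers u : Subgroup A) := by
      refine IsPGroup.to_sup_of_normal_right' ?_ ?_ ?_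
      · exact T.2.to_le (Subgroup.zpowers_le.2 ht)
      · have h1 : IsPGroup p (Subgroup.zpowers s) := T.2.to_le (Subgroup.zpowers_le.2 hs)
        have h2 := h1.map (MulAut.conj g).toMonoidHom
        rwa [MonoidHom.map_zpowers] at h2
      · refine Subgroup.zpowers_le.2 (Subgroup.centralizer_le_normalizer _ ?_)
        refine Subgroup.mem_centralizer_iff.2 fun y hy => ?_
        obtain ⟨i, rfl⟩ := Subgroup.mem_zpowers_iff.1 hy
        exact ((hcom.symm.zpow_left i)).eq
    obtain ⟨P, hP⟩ := hTP.exists_le_sylow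
    obtain ⟨h, hh⟩ := MulAction.exists_smul_eq A T P
    have hmemP : ∀ y ∈ (P : Subgroup A), h⁻¹ * y * h⁻¹⁻¹ ∈ (T : Subgroup A) := by
      intro y hy
      rw [← hh, Sylow.coe_subgroup_smul, Subgroup.mem_pointwise_smul_iff_inv_smul_mem] at hy
      simpa [MulAut.smul_def, MulAut.inv_apply, MulAut.conj_symm_apply] using hy
    have hhE : h ∈ E := by
      have hb := hmemP t (hP (Subgroup.mem_sup_left (Subgroup.mem_zpowers t)))
      have h1 := hmem t ht ht1 h⁻¹ hb
      simpa using E.inv_mem h1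
    have hb := hmemP u (hP (Subgroup.mem_sup_right (Subgroup.mem_zpowers u)))
    have h2 := hmem s hs hs1 (h⁻¹ * g) (by convert hb using 1; rw [hu]; group)
    exact hgE (by simpa using E.mul_mem hhE h2)
  rcases hline g with h | h
  · exact h
  by_contra hgz
  obtain ⟨e, he⟩ : ∃ e : A, e ∉ E := by
    by_contra hall
    push Not at hall
    exact hE (eq_top_iff.2 fun e _ => hall e)
  have hez := (hline e).resolve_right he
  rcases hline (g * e) with h1 | h1
  · refine hgz ?_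
    obtain ⟨i, hi⟩ := Subgroup.mem_zpowers_iff.1 hez
    have hz1 : z ≠ 1 := fun h => hgz (by rw [h, map_one]; exact Subgroup.one_mem _)
    have hzo : orderOf z = p := orderOf_eq_prime hz hz1
    have heo : orderOf ((e : MulAut R) z) = p := by
      rw [← hzo]; exact orderOf_injective (e : MulAut R).toMonoidHom (MulEquiv.injective _) z
    have hzz : Subgroup.zpowers ((e : MulAut R) z) = Subgroup.zpowers z :=
      Subgroup.eq_of_le_of_card_ge (Subgroup.zpowers_le.2 hez)
        (by rw [Nat.card_zpowers, Nat.card_zpowers, heo, hzo])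
    obtain ⟨j, hj⟩ := Subgroup.mem_zpowers_iff.1 (hzz.ge (Subgroup.mem_zpowers z))
    have h3 := congrArg (g : MulAut R) hj
    rw [map_zpow] at h3
    rw [← h3]
    exact Subgroup.zpow_mem _ h1 j
  · exact he (by simpa using E.mul_mem (E.inv_mem h) h1)


/-- An abelian subgroup of index at most `p` containing the centre forces centre index `p ^ 2`. -/
theorem index_center_eq {Ω : Type*} [Group Ω] {S P : Subgroup Ω} [Finite S] {p : ℕ}
    [Fact p.Prime] (hS : IsPGroup p S) (hPS : P ≤ S) (hab : ∀ a b : P, a * b = b * a)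
    (hclose : Nat.card S ≤ Nat.card P * p)
    (hZc : Nat.card (Sd S) = p) (hZP : ∀ v ∈ Zc S, v ∈ P)
    :
    (Subgroup.center S).index = p ^ 2 := by
  have hpp : p.Prime := Fact.out
  have hna : ∃ g ∈ S, ∃ h ∈ S, g * h ≠ h * g := by
    by_contra hcon
    push Not at hcon
    have h1 : Sd S = ⊥ := by
      rw [Sd, Subgroup.map_subtype_commutator, eq_bot_iff, Subgroup.commutator_le]
      intro g hg h hh
      rw [Subgroup.mem_bot, commutatorElement_eq_one_iff_mul_comm]
      exact hcon g hg h hh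
    rw [h1, Subgroup.card_bot] at hZc
    exact hpp.ne_one hZc.symm
  have := finite_of_le (Ω := Ω) hPS
  obtain ⟨g, hg, h, hh, hgh⟩ := hna
  obtain ⟨x, hxS, hxP⟩ : ∃ x ∈ S, x ∉ P := by
    by_contra hcon
    push Not at hcon
    exact hgh (congrArg Subtype.val (hab ⟨g, hcon g hg⟩ ⟨h, hcon h hh⟩))
  have hcr : ∀ r : P, (r : Ω) * x * (r : Ω)⁻¹ * x⁻¹ ∈ Sd S := fun r => by
    rw [Sd, Subgroup.map_subtype_commutator]
    exact Subgroup.commutator_mem_commutator (hPS r.2) hxS
  have : Finite (Sd S) := finite_of_le (Ω := Ω) (Subgroup.map_subtype_le _ : Sd S ≤ S)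
  -- `P` and `x` generate `S`
  have hgenS : P ⊔ Subgroup.zpowers x = S := by
    refine eq_of_le_of_card_le le_rfl (sup_le hPS (Subgroup.zpowers_le.2 hxS)) ?_
    obtain ⟨a, ha⟩ := IsPGroup.iff_card.1 (hS.to_le hPS)
    have hsle : P ⊔ Subgroup.zpowers x ≤ S := sup_le hPS (Subgroup.zpowers_le.2 hxS)
    have hfinsle := finite_of_le (Ω := Ω) hsle
    obtain ⟨b, hb⟩ := IsPGroup.iff_card.1 (hS.to_le hsle)
    have hlt : P < P ⊔ Subgroup.zpowers x := lt_of_le_of_ne le_sup_left fun h =>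
      hxP (h ▸ Subgroup.mem_sup_right (Subgroup.mem_zpowers x))
    have h1 := card_lt_of_lt hsle hlt
    rw [ha, hb] at h1
    have h2 := (Nat.pow_lt_pow_iff_right hpp.one_lt).1 h1
    refine hclose.trans ?_
    rw [ha, hb, ← pow_succ]
    exact Nat.pow_le_pow_right hpp.pos h2
  have hker : ∀ r s : P, (r : Ω) * x * (r : Ω)⁻¹ * x⁻¹ = (s : Ω) * x * (s : Ω)⁻¹ * x⁻¹ →
      ((r⁻¹ * s : P) : Ω) ∈ Zc S := by
    intro r s hrs
    have h1 : (r : Ω) * x * (r : Ω)⁻¹ = (s : Ω) * x * (s : Ω)⁻¹ := mul_right_cancel hrs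
    have h2 : Commute ((r : Ω)⁻¹ * s) x := by
      calc (r : Ω)⁻¹ * s * x = (r : Ω)⁻¹ * (s * x * (s : Ω)⁻¹) * s := by group
        _ = x * ((r : Ω)⁻¹ * s) := by rw [← h1]; group
    have hle : P ⊔ Subgroup.zpowers x ≤ Subgroup.centralizer ({(r : Ω)⁻¹ * s} : Set Ω) := by
      refine sup_le (fun y hy => Subgroup.mem_centralizer_singleton_iff.2 ?_)
        (Subgroup.zpowers_le.2 (Subgroup.mem_centralizer_singleton_iff.2 h2.eq.symm))
      exact congrArg Subtype.val (hab ⟨y, hy⟩ (r⁻¹ * s))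
    rw [hgenS] at hle
    exact ⟨S.mul_mem (S.inv_mem (hPS r.2)) (hPS s.2), Subgroup.mem_centralizer_iff.2 fun y hy =>
      Subgroup.mem_centralizer_singleton_iff.1 (hle hy)⟩
  let K := (Zc S).subgroupOf P
  let f : P ⧸ K → Sd S := fun q => Quotient.liftOn' q (fun r => ⟨_, hcr r⟩) (by
    intro r s hrs
    rw [QuotientGroup.leftRel_apply] at hrs
    refine Subtype.ext ?_
    show (r : Ω) * x * (r : Ω)⁻¹ * x⁻¹ = s * x * (s : Ω)⁻¹ * x⁻¹
    have hk : ((r⁻¹ * s : P) : Ω) ∈ Zc S := hrs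
    calc (r : Ω) * x * (r : Ω)⁻¹ * x⁻¹
        = r * (((r⁻¹ * s : P) : Ω) * x * ((r⁻¹ * s : P) : Ω)⁻¹) * (r : Ω)⁻¹ * x⁻¹ := by
          rw [← Zc_comm hk hxS, mul_inv_cancel_right]
      _ = _ := by push_cast; group)
  have hf : Function.Injective f := by
    intro a b
    induction a using QuotientGroup.induction_on with
    | _ a =>
      induction b using QuotientGroup.induction_on with
      | _ b =>
        intro hab'
        exact QuotientGroup.eq.2 (hker a b (congrArg Subtype.val hab'))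
  have h1 : K.index ≤ p := by
    rw [Subgroup.index_eq_card, ← hZc]
    exact Nat.card_le_card_of_injective f hf
  have hKc : Nat.card K = Nat.card (Subgroup.center S) := by
    rw [Nat.card_congr (Subgroup.subgroupOfEquivOfLe (fun v hv => hZP v hv)).toEquiv, Zc_eq,
      Subgroup.card_map_of_injective S.subtype_injective]
  have hmul := (Subgroup.center S).card_mul_index
  have hle : (Subgroup.center S).index ≤ p ^ 2 := by
    refine Nat.le_of_mul_le_mul_left ?_ (Nat.card_pos (α := Subgroup.center S))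
    rw [hmul, ← hKc, sq, ← mul_assoc]
    refine hclose.trans (Nat.mul_le_mul_right p ?_)
    rw [← K.card_mul_index]
    exact Nat.mul_le_mul_left _ h1
  obtain ⟨k, hk⟩ := hS.index (Subgroup.center S)
  rw [hk] at hle ⊢
  have hk2 := (Nat.pow_le_pow_iff_right hpp.one_lt).1 hle
  interval_cases k
  · exfalso
    refine hgh ?_
    have htop : Subgroup.center S = ⊤ := Subgroup.index_eq_one.1 (by rw [hk, pow_zero])
    exact congrArg Subtype.val
      (Subgroup.mem_center_iff.1 (htop ▸ Subgroup.mem_top (⟨h, hh⟩ : S)) ⟨g, hg⟩)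
  · exfalso
    refine hgh ?_
    have hcyc : IsCyclic (S ⧸ Subgroup.center S) :=
      isCyclic_of_prime_card (p := p) (by rw [← Subgroup.index_eq_card, hk, pow_one])
    exact congrArg Subtype.val (commutative_of_cyclic_center_quotient
      (QuotientGroup.mk' (Subgroup.center S)) (by rw [QuotientGroup.ker_mk']) ⟨g, hg⟩ ⟨h, hh⟩)
  · rfl

/-- Centre of index `p ^ 2`, not inside `[S,S]`: some complement of `[S,S]` in the centre is normal. -/
theorem case_small {Ω : Type*} [Group Ω] {S Q : Subgroup Ω} [Finite S] {p : ℕ} [Fact p.Prime]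
    {F : Cfsg.FusionSystem S} (hS : IsPGroup p S) (hF : F.IsSaturated p) (hp2 : p ≠ 2)
    (hidx : (Subgroup.center S).index = p ^ 2) (hexp : ∀ d ∈ Sd S, d ^ p = 1)
    (hSdZ : Sd S ≤ Zc S) (hle : ¬ Zc S ≤ Q)
    (hnonormal : ∀ X : Subgroup Ω, F.IsNormal X → X = ⊥) (hSdQ : Sd S ≤ Q) : False := by
  have hpp : p.Prime := Fact.out
  obtain ⟨R, hRS, hRn, hRc, hRr⟩ : ∃ R, R < S ∧ F.IsFullyNormalized R ∧ F.IsCentric R ∧
      F.IsRadical p R := by
    by_contra hcon
    refine (fun h => ?_ : Zc S ≠ ⊥) ?_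
    · rw [← le_bot_iff] at h
      exact hle (h.trans bot_le)
    refine le_bot_iff.1 ((Zc_le S).trans (hnonormal S (isNormal_of_invariant hS hF le_rfl
      (fun α _ => ?_) fun R hR hn hgen => ?_)).le)
    · rw [Subgroup.subgroupOf_self, Subgroup.map_top_of_surjective _ α.surjective]
    · exact absurd ⟨R, hR, hn, centric_radical_of_not_generated hS hF hn hgen⟩ hcon
  obtain ⟨D, C, h⟩ := exists_data hS hF hidx hRS hRn hRc hRr
  have hβt : ∀ {R D C : Subgroup Ω}, Data F p R D C → ∀ β : MulAut S,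
      (∀ x : S, (x : Ω) ∈ Sd S → β x = x⁻¹) → (∀ x : S, (x : Ω) ∈ C → β x = x) →
      ∀ x : S, (x : Ω) ∈ Zc S → ((x⁻¹ * β x : S) : Ω) ∈ Sd S := by
    intro R D C h β hi hf x hx
    obtain ⟨d, hd, c, hc, he⟩ := h.Zc_split hx
    have hdS : d ∈ S := (hSdZ hd).1
    rw [show x = (⟨d, hdS⟩ : S) * ⟨c, (h.C_le hc).1⟩ from Subtype.ext he, map_mul,
      hi ⟨d, hdS⟩ hd, hf ⟨c, (h.C_le hc).1⟩ hc]
    show (d * c)⁻¹ * (d⁻¹ * c) ∈ Sd S
    rw [mul_inv_rev, show c⁻¹ * d⁻¹ * (d⁻¹ * c) = c⁻¹ * ((d⁻¹ * d⁻¹) * c) by group,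
      Zc_comm (h.C_le hc) (S.mul_mem (S.inv_mem hdS) (S.inv_mem hdS)), inv_mul_cancel_left]
    exact (Sd S).mul_mem ((Sd S).inv_mem hd) ((Sd S).inv_mem hd)
  obtain ⟨β, hβ, hβi, hβf⟩ := h.invol
  have hfixed : ∀ x : S, (x : Ω) ∈ Zc S → β x = x → (x : Ω) ∈ C := by
    intro x hx hbx
    obtain ⟨d, hd, c, hc, he⟩ := h.Zc_split hx
    have hdS : d ∈ S := (hSdZ hd).1
    rw [show x = (⟨d, hdS⟩ : S) * ⟨c, (h.C_le hc).1⟩ from Subtype.ext he, map_mul,
      hβi ⟨d, hdS⟩ hd, hβf ⟨c, (h.C_le hc).1⟩ hc, mul_left_inj] at hbx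
    have hd2 : d ^ 2 = 1 := by
      have h1 : d⁻¹ = d := congrArg Subtype.val hbx
      rw [sq]
      nth_rewrite 1 [← h1]
      exact inv_mul_cancel d
    have hd1 : d = 1 := orderOf_eq_one_iff.1 (Nat.eq_one_of_dvd_coprimes
      ((Nat.coprime_primes hpp Nat.prime_two).2 hp2) (orderOf_dvd_of_pow_eq_one (hexp d hd))
      (orderOf_dvd_of_pow_eq_one hd2))
    rw [he, hd1, one_mul]
    exact hc
  have hinv : ∀ α ∈ F.autGroup S, ∀ x : S, (x : Ω) ∈ C → ((α x : S) : Ω) ∈ C := by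
    intro α hα x hx
    set γ : MulAut S := α * β * α⁻¹ with hγ
    have hγm : γ ∈ F.autGroup S :=
      Subgroup.mul_mem _ (Subgroup.mul_mem _ hα hβ) (Subgroup.inv_mem _ hα)
    have hγi : ∀ y : S, (y : Ω) ∈ Sd S → γ y = y⁻¹ := by
      intro y hy
      rw [hγ, MulAut.mul_apply, MulAut.mul_apply, hβi _ (S5265.apply_mem_Sd hy), map_inv,
        MulAut.apply_inv_self]
    have hγt : ∀ y : S, (y : Ω) ∈ Zc S → ((y⁻¹ * γ y : S) : Ω) ∈ Sd S := by
      intro y hy
      have h1 := S5265.apply_mem_Sd (α := α)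
        (hβt h β hβi hβf (α⁻¹ y) (S5265.apply_mem_Zc hy))
      rwa [map_mul, map_inv, MulAut.apply_inv_self] at h1
    have hxZ := S5265.apply_mem_Zc (α := α) (h.C_le hx)
    refine hfixed _ hxZ ?_
    rw [S5265.agree hS hF hexp hSdZ hβ hγm hβi hγi (hβt h β hβi hβf) hγt _ hxZ, hγ,
      MulAut.mul_apply, MulAut.mul_apply, MulAut.inv_apply_self, hβf x hx]
  have hsame : ∀ R' D' C', Data F p R' D' C' → C' = C := by
    intro R' D' C' h'
    obtain ⟨γ, hγ, hγi, hγf⟩ := h'.invol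
    have hag := S5265.agree hS hF hexp hSdZ hβ hγ hβi hγi (hβt h β hβi hβf) (hβt h' γ hγi hγf)
    have hle : C' ≤ C := fun c hc => by
      have hcS := (h'.C_le hc).1
      exact hfixed ⟨c, hcS⟩ (h'.C_le hc)
        ((hag ⟨c, hcS⟩ (h'.C_le hc)).trans (hγf ⟨c, hcS⟩ hc))
    refine le_antisymm hle fun c hc => ?_
    obtain ⟨d, hd, c', hc', he⟩ := h'.Zc_split (h.C_le hc)
    have hdC : d ∈ D ⊓ C :=
      ⟨h.Sd_le hd, by simpa [he] using C.mul_mem hc (C.inv_mem (hle hc'))⟩
    rw [h.disj, Subgroup.mem_bot] at hdC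
    rw [he, hdC, one_mul]
    exact hc'
  have hCS : C ≤ S := h.C_le.trans (Zc_le S)
  have hfinC : ∀ {X : Subgroup Ω}, X ≤ S → (∀ α ∈ F.autGroup X, ∀ x : X, (x : Ω) ∈ C →
      ((α x : X) : Ω) ∈ C) → ∀ α ∈ F.autGroup X, (C.subgroupOf X).map α.toMonoidHom = C.subgroupOf X := by
    intro X hX hinv α hα
    have := finite_of_le (Ω := Ω) hX
    refine Subgroup.eq_of_le_of_card_ge ?_
      (le_of_eq (Subgroup.card_map_of_injective α.injective).symm)
    rintro _ ⟨x, hx, rfl⟩
    exact hinv α hα x hx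
  have hCn : F.IsNormal C := by
    refine isNormal_of_invariant hS hF hCS (hfinC le_rfl hinv) fun P hP hn hgen => ?_
    obtain ⟨hc, hr⟩ := centric_radical_of_not_generated hS hF hn hgen
    obtain ⟨D', C', h'⟩ := exists_data hS hF hidx hP hn hc hr
    obtain rfl := hsame P D' C' h'
    exact ⟨h'.C_le.trans h'.Zc_le', hfinC hn.1 fun α hα x hx => (h'.inv α hα x).2 hx⟩
  have hC1 := hnonormal C hCn
  -- so the centre is `[S,S]`
  apply hle
  intro v hv
  obtain ⟨d, hd, c, hc, rfl⟩ := h.Zc_split hv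
  rw [hC1, Subgroup.mem_bot] at hc
  rw [hc, mul_one]
  exact hSdQ hd

/-- Let p be an odd prime, S a finite p-group containing an extraspecial subgroup Q of index p, and F a saturated fusion system over S whose largest subgroup normal in F is trivial. Then the centre of S equals the centre of Q. -/
theorem result {Ω : Type u} [Group Ω] {S : Subgroup Ω} [Finite S] (p : ℕ) [Fact p.Prime] (hp : Odd p) (hS : IsPGroup p S)
    (Q : Subgroup Ω) (hQS : Q ≤ S) (hQ : Cfsg.IsExtraspecial p ↥Q) (hQi : (Q.subgroupOf S).index = p)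
    (F : Cfsg.FusionSystem S) (hF : F.IsSaturated p) (hO : F.core = ⊥) :
    S ⊓ Subgroup.centralizer (S : Set Ω) = Q ⊓ Subgroup.centralizer (Q : Set Ω) := by
  have hpp : p.Prime := Fact.out
  have hp2 : p ≠ 2 := by rintro rfl; exact absurd hp (by decide)
  obtain ⟨⟨-, -, hQd⟩, hQc⟩ := hQ
  have hQfin := finite_of_le hQS
  have hnonormal : ∀ X : Subgroup Ω, F.IsNormal X → X = ⊥ := fun X hX =>
    le_bot_iff.1 (hO ▸ Fusion.le_core hX)
  have hCQ : (Subgroup.center Q).map Q.subtype = Q ⊓ Subgroup.centralizer (Q : Set Ω) :=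
    (Zc_eq Q).symm
  have hcardZQ : Nat.card ↥(Q ⊓ Subgroup.centralizer (Q : Set Ω)) = p := by
    rw [← hCQ, Subgroup.card_map_of_injective Q.subtype_injective, hQc]
  have hQne : Q ⊓ Subgroup.centralizer (Q : Set Ω) ≠ ⊥ := fun h => by
    rw [h, Subgroup.card_bot] at hcardZQ; exact hpp.ne_one hcardZQ.symm
  have hS1 : S ≠ ⊥ := fun h => hQne (le_bot_iff.1 ((inf_le_left.trans hQS).trans h.le))
  have hZne : Zc S ≠ ⊥ := by
    intro h
    have hnt : Nontrivial S := S.nontrivial_iff_ne_bot.2 hS1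
    have h2 := hS.center_nontrivial
    rw [Zc_eq, Subgroup.map_eq_bot_iff_of_injective _ S.subtype_injective] at h
    rw [h] at h2
    exact not_subsingleton _ (inferInstance : Subsingleton (⊥ : Subgroup S))
  show Zc S = _
  -- it is enough that the centre lies in `Q`
  by_cases hle : Zc S ≤ Q
  · have h1 : Zc S ≤ Q ⊓ Subgroup.centralizer (Q : Set Ω) :=
      le_inf hle fun w hw => Subgroup.mem_centralizer_iff.2 fun q hq => Zc_comm hw (hQS hq)
    refine eq_of_le_of_card_le (inf_le_left.trans hQS) h1 ?_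
    rcases hpp.eq_one_or_self_of_dvd _ (hcardZQ ▸ Subgroup.card_dvd_of_le h1) with h | h
    · exact absurd (Subgroup.card_eq_one.1 h) hZne
    · rw [hcardZQ, h]
  exfalso
  obtain ⟨w, hw, hwQ⟩ := SetLike.not_le_iff_exists.1 hle
  -- `S = Q Z(S)`
  have hQn : (Q.subgroupOf S).Normal := PGroup.normal_of_index_eq hS hQi
  have hQw : Q.subgroupOf S ⊔ Subgroup.zpowers (⟨w, hw.1⟩ : S) = ⊤ := by
    rcases hpp.eq_one_or_self_of_dvd _ (hQi ▸ Subgroup.index_dvd_of_le
      (le_sup_left : Q.subgroupOf S ≤ Q.subgroupOf S ⊔ Subgroup.zpowers (⟨w, hw.1⟩ : S))) with h | h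
    · exact Subgroup.index_eq_one.1 h
    · exfalso
      have heq : Q.subgroupOf S = Q.subgroupOf S ⊔ Subgroup.zpowers (⟨w, hw.1⟩ : S) := by
        refine Subgroup.eq_of_le_of_card_ge le_sup_left (le_of_eq ?_)
        refine Nat.eq_of_mul_eq_mul_right hpp.pos ?_
        conv_lhs => rw [← h, Subgroup.card_mul_index]
        conv_rhs => rw [← hQi, Subgroup.card_mul_index]
      exact hwQ (heq.ge (Subgroup.mem_sup_right (Subgroup.mem_zpowers (⟨w, hw.1⟩ : S))))
  have hsplit : ∀ g ∈ S, ∃ q ∈ Q, ∃ v ∈ Zc S, g = q * v := by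
    intro g hg
    have h1 : (⟨g, hg⟩ : S) ∈
        ((Q.subgroupOf S ⊔ Subgroup.zpowers (⟨w, hw.1⟩ : S) : Subgroup S) : Set S) := by
      rw [hQw]; trivial
    rw [Subgroup.normal_mul] at h1
    obtain ⟨q, hq, v, hv, he⟩ := h1
    refine ⟨q, hq, v, ?_, (congrArg Subtype.val he).symm⟩
    obtain ⟨i, rfl⟩ := Subgroup.mem_zpowers_iff.1 hv
    simpa using (Zc S).zpow_mem hw i
  have hcomQ : ∀ g ∈ S, ∀ h ∈ S, ∃ q : Q, ∃ q' : Q, g * h * g⁻¹ * h⁻¹ = ((⁅q, q'⁆ : Q) : Ω) := by
    intro g hg h hh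
    obtain ⟨q, hq, v, hv, rfl⟩ := hsplit g hg
    obtain ⟨q', hq', v', hv', rfl⟩ := hsplit h hh
    refine ⟨⟨q, hq⟩, ⟨q', hq'⟩, ?_⟩
    show _ = q * q' * q⁻¹ * q'⁻¹
    have c1 : Commute v (q' * v') := (Zc_comm hv hh).symm
    have c2 : Commute v' q := (Zc_comm hv' (hQS hq)).symm
    calc q * v * (q' * v') * (q * v)⁻¹ * (q' * v')⁻¹
        = q * (v * (q' * v') * v⁻¹) * q⁻¹ * (q' * v')⁻¹ := by group
      _ = q * (q' * v') * q⁻¹ * (q' * v')⁻¹ := by rw [c1.eq, mul_inv_cancel_right]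
      _ = q * q' * (v' * q⁻¹ * v'⁻¹) * q'⁻¹ := by group
      _ = q * q' * q⁻¹ * q'⁻¹ := by rw [c2.inv_right.eq, mul_inv_cancel_right]
  set Z := Sd S with hZdef
  have hZQ : Z = Q ⊓ Subgroup.centralizer (Q : Set Ω) := by
    refine le_antisymm ?_ ?_
    · rw [hZdef, Sd, Subgroup.map_subtype_commutator, Subgroup.commutator_le, ← hCQ]
      intro g hg h hh
      obtain ⟨q, q', he⟩ := hcomQ g hg h hh
      rw [commutatorElement_def, he]
      refine ⟨⁅q, q'⁆, hQd.le ?_, rfl⟩
      exact Subgroup.commutator_mem_commutator (Subgroup.mem_top q) (Subgroup.mem_top q')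
    · rw [hZdef, Sd, Subgroup.map_subtype_commutator, ← hCQ, ← hQd, Subgroup.map_subtype_commutator]
      exact Subgroup.commutator_mono hQS hQS
  have hZZc : Z ≤ Zc S := by
    intro x hx
    rw [hZQ] at hx
    refine ⟨hQS hx.1, Subgroup.mem_centralizer_iff.2 fun g hg => ?_⟩
    obtain ⟨q, hq, v, hv, rfl⟩ := hsplit g hg
    have h1 : Commute q x := Subgroup.mem_centralizer_iff.1 hx.2 q hq
    have h2 : Commute v x := (Zc_comm hv (hQS hx.1)).symm
    exact (h1.mul_left h2).eq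
  have hZc : Nat.card Z = p := hZQ ▸ hcardZQ
  have hZS : Z ≤ S := hZZc.trans (Zc_le S)
  have hZne' : Z ≠ ⊥ := hZQ ▸ hQne
  obtain ⟨z, hz, hz1⟩ : ∃ z ∈ Z, z ≠ 1 := by
    by_contra hcon
    push Not at hcon
    exact hZne' ((Subgroup.eq_bot_iff_forall _).2 hcon)
  have hzo : orderOf z = p := by
    have h1 : orderOf (⟨z, hz⟩ : Z) ∣ p := hZc ▸ orderOf_dvd_natCard _
    rcases hpp.eq_one_or_self_of_dvd _ h1 with h | h
    · exact absurd (congrArg Subtype.val (orderOf_eq_one_iff.1 h)) hz1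
    · rw [← h, Subgroup.orderOf_mk]
  have hgen : ∀ y ∈ Z, y ≠ 1 → Subgroup.zpowers y = Z := by
    intro y hy hy1
    refine eq_of_le_of_card_le hZS (Subgroup.zpowers_le.2 hy) ?_
    have h1 : orderOf (⟨y, hy⟩ : Z) ∣ p := hZc ▸ orderOf_dvd_natCard _
    rcases hpp.eq_one_or_self_of_dvd _ h1 with h | h
    · exact absurd (congrArg Subtype.val (orderOf_eq_one_iff.1 h)) hy1
    · rw [hZc, Nat.card_zpowers, ← Subgroup.orderOf_mk (H := Z) y hy, h]
  have hexp : ∀ d ∈ Sd S, d ^ p = 1 := fun d hd => by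
    have h1 : orderOf (⟨d, hd⟩ : Z) ∣ p := hZc ▸ orderOf_dvd_natCard _
    rw [← Subgroup.orderOf_coe] at h1
    exact orderOf_dvd_iff_pow_eq_one.1 h1
  by_cases hidx : (Subgroup.center S).index = p ^ 2
  · exact case_small hS hF hp2 hidx hexp hZZc hle hnonormal (hZQ.le.trans inf_le_left)
  -- otherwise `Z = [S,S]` is normal
  refine hZne' (hnonormal Z ((isNormal_iff_essential hS hF).2 fun P hP => ?_))
  have hfinP : ∀ {X : Subgroup Ω}, X ≤ S → (∀ α ∈ F.autGroup X, ∀ x : X, (x : Ω) ∈ Z →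
      ((α x : X) : Ω) ∈ Z) → ∀ α ∈ F.autGroup X, (Z.subgroupOf X).map α.toMonoidHom = Z.subgroupOf X := by
    intro X hX hinv α hα
    have := finite_of_le (Ω := Ω) hX
    refine Subgroup.eq_of_le_of_card_ge ?_
      (le_of_eq (Subgroup.card_map_of_injective α.injective).symm)
    rintro _ ⟨x, hx, rfl⟩
    exact hinv α hα x hx
  rcases hP with rfl | hP
  · exact ⟨hZS, hfinP le_rfl fun α _ x hx => S5265.apply_mem_Sd hx⟩
  have hPS := hP.1.1
  have hZcP : Zc S ≤ P := fun v hv => hP.1.2 P (isConj_refl F hPS)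
    (mem_centralizerIn.2 ⟨hv.1, fun y hy => Zc_comm hv (hPS hy)⟩)
  have hZP : Z ≤ P := hZZc.trans hZcP
  refine ⟨hZP, hfinP hPS ?_⟩
  have := finite_of_le (Ω := Ω) hPS
  by_cases hab : ∀ a b : P, a * b = b * a
  swap
  · push Not at hab
    obtain ⟨a, b, hab⟩ := hab
    intro α _ x hx
    have hc : ∀ a b : P, ((⁅a, b⁆ : P) : Ω) ∈ Z := by
      intro a b
      rw [hZdef, Sd, Subgroup.map_subtype_commutator]
      exact Subgroup.commutator_mem_commutator (hPS a.2) (hPS b.2)
    have hne : ((⁅a, b⁆ : P) : Ω) ≠ 1 := fun h =>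
      hab (commutatorElement_eq_one_iff_mul_comm.1 (Subtype.ext h))
    obtain ⟨i, hi⟩ := Subgroup.mem_zpowers_iff.1 ((hgen _ (hc a b) hne).ge hx)
    rw [show x = ⁅a, b⁆ ^ i from Subtype.ext (by rw [Subgroup.coe_zpow]; exact hi.symm), map_zpow,
      map_commutatorElement, Subgroup.coe_zpow]
    exact Z.zpow_mem (hc _ _) i
  · -- the abelian case
    have hPn : S ≤ Subgroup.normalizer (P : Set Ω) := by
      have hcl : ∀ g ∈ S, ∀ y ∈ P, g * y * g⁻¹ ∈ P := by
        intro g hg y hy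
        have h1 : g * y * g⁻¹ * y⁻¹ ∈ Z := by
          rw [hZdef, Sd, Subgroup.map_subtype_commutator]
          exact Subgroup.commutator_mem_commutator hg (hPS hy)
        simpa using P.mul_mem (hZP h1) hy
      exact fun g hg => ModelEmbed.mem_normalizer_of_finite (hcl g hg)
    have hPcen := hP.1.2
    obtain ⟨-, hPfn, hI, E₀, hE₀⟩ := hP
    obtain ⟨-, hE₀top, T₀, hE₀T⟩ := hE₀
    obtain ⟨-, T, hT⟩ := isFullyAutomized_of_fullyNormalized hS hF hPfn
    have := finite_mulAut (Ω := Ω) hPS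
    have hInn : (Inn P).subgroupOf (F.autGroup P) = ⊥ := by
      rw [SmallEss.inn_eq_bot ⟨⟨hab⟩⟩, Subgroup.bot_subgroupOf]
    let π := QuotientGroup.mk' ((Inn P).subgroupOf (F.autGroup P))
    have hπi : Function.Injective π := by
      rw [← MonoidHom.ker_eq_bot_iff, QuotientGroup.ker_mk', hInn]
    have hπs : Function.Surjective π := QuotientGroup.mk'_surjective _
    obtain ⟨c, hc⟩ := MulAction.exists_smul_eq
      (F.autGroup P ⧸ (Inn P).subgroupOf (F.autGroup P)) (T.mapSurjective hπs) T₀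
    obtain ⟨c₀, rfl⟩ := hπs c
    set T₁ := c₀ • T with hT₁
    have hT₁m : ∀ y : F.autGroup P, y ∈ (T₁ : Subgroup (F.autGroup P)) ↔ π y ∈ (T₀ : Subgroup _) := by
      intro y
      rw [hT₁, ← hc, Sylow.coe_subgroup_smul, Sylow.coe_subgroup_smul,
        Subgroup.mem_pointwise_smul_iff_inv_smul_mem, Subgroup.mem_pointwise_smul_iff_inv_smul_mem,
        Sylow.coe_mapSurjective]
      simp only [MulAut.smul_def, MulAut.inv_apply, MulAut.conj_symm_apply]
      rw [← map_inv, ← map_mul, ← map_mul]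
      exact ⟨fun h => ⟨_, h, rfl⟩, fun ⟨v, hv, he⟩ => hπi he ▸ hv⟩
    let zP : P := ⟨z, hZP hz⟩
    have hTv : ∀ t ∈ (T : Subgroup (F.autGroup P)), (t : MulAut P) zP = zP ∧
        ∀ r : P, r⁻¹ * (t : MulAut P) r ∈ Subgroup.zpowers zP := by
      intro t ht
      rw [hT] at ht
      obtain ⟨g, hg, hgv⟩ := mem_autInducedBy_iff.1 (Subgroup.mem_subgroupOf.1 ht)
      refine ⟨Subtype.ext ((hgv zP).trans ?_), fun r => ?_⟩
      · show g * z * g⁻¹ = z
        rw [Zc_comm (hZZc hz) hg, mul_inv_cancel_right]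
      · have h1 : ((r⁻¹ * (t : MulAut P) r : P) : Ω) ∈ Z := by
          rw [Subgroup.coe_mul, Subgroup.coe_inv, hgv r, hZdef, Sd, Subgroup.map_subtype_commutator]
          have h2 := Subgroup.commutator_mem_commutator (S.inv_mem (hPS r.2)) hg
          rw [commutatorElement_def] at h2
          convert h2 using 1
          group
        obtain ⟨i, hi⟩ := Subgroup.mem_zpowers_iff.1 ((hgen z hz hz1).ge h1)
        exact Subgroup.mem_zpowers_iff.2 ⟨i, Subtype.ext (by rw [Subgroup.coe_zpow]; exact hi)⟩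
    have hTcard : p < Nat.card (T₁ : Subgroup (F.autGroup P)) := by
      rw [hT₁, Sylow.coe_subgroup_smul, ← Nat.card_congr (Subgroup.equivSMul _ _).toEquiv, hT,
        Nat.card_congr (Subgroup.subgroupOfEquivOfLe (autInducedBy_le_autGroup F hPS)).toEquiv]
      have hC : centralizerIn S P = P := le_antisymm (hPcen P (isConj_refl F hPS))
        fun y hy => mem_centralizerIn.2 ⟨hPS hy, fun v hv =>
          congrArg Subtype.val (hab ⟨v, hv⟩ ⟨y, hy⟩)⟩
      have hN : normalizerIn S P = S := le_antisymm inf_le_left (le_inf le_rfl hPn)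
      have hcard := card_centralizerIn_mul_card_autInducedBy S P
      rw [hC, hN] at hcard
      obtain ⟨k, hk⟩ := IsPGroup.iff_card.1 (isPGroup_autInducedBy hS P)
      rw [hk] at hcard ⊢
      rcases Nat.lt_or_ge 1 k with h | h
      · calc p = p ^ 1 := (pow_one p).symm
          _ < p ^ k := Nat.pow_lt_pow_right hpp.one_lt h
      exfalso
      have hclose : Nat.card S ≤ Nat.card P * p := by
        rw [← hcard]
        exact Nat.mul_le_mul_left _ ((Nat.pow_le_pow_right hpp.pos h).trans (pow_one p).le)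
      exact hidx (index_center_eq hS hPS hab hclose hZc (fun v hv => hZcP hv))
    let z₁ : P := (c₀ : MulAut P) zP
    have hkey := line_invariant hab (F.autGroup P) T₁ z₁
      (by rw [← map_pow, show zP ^ p = 1 from Subtype.ext (hexp z hz), map_one])
      (fun t ht => by
        rw [hT₁, Sylow.coe_subgroup_smul, Subgroup.mem_pointwise_smul_iff_inv_smul_mem] at ht
        have h1 := congrArg (c₀ : MulAut P) (hTv _ ht).1
        simpa [z₁, MulAut.smul_def, MulAut.inv_apply, MulAut.conj_symm_apply] using h1)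
      (fun t ht r => by
        rw [hT₁, Sylow.coe_subgroup_smul, Subgroup.mem_pointwise_smul_iff_inv_smul_mem] at ht
        obtain ⟨i, hi⟩ := Subgroup.mem_zpowers_iff.1 ((hTv _ ht).2 ((c₀ : MulAut P)⁻¹ r))
        refine Subgroup.mem_zpowers_iff.2 ⟨i, ?_⟩
        have h1 := congrArg (c₀ : MulAut P) hi
        rw [map_zpow] at h1
        rw [h1]
        simp [MulAut.smul_def, MulAut.inv_apply, MulAut.conj_symm_apply])
      hTcard (E₀.comap π)
      (fun h => hE₀top (by
        rw [← Subgroup.map_comap_eq_self_of_surjective (QuotientGroup.mk'_surjective _) E₀]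
        show (E₀.comap π).map π = ⊤
        rw [h, Subgroup.map_top_of_surjective _ (QuotientGroup.mk'_surjective _)]))
      (fun t ht ht1 x hx => mem_of_kGeneratedCore_le hE₀T ((hT₁m t).1 ht)
        (fun h => ht1 (hπi (h.trans (map_one π).symm)))
        (by rw [← map_inv, ← map_mul, ← map_mul]; exact (hT₁m _).1 hx))
    intro α hα x hx
    have hz₁ : z₁ ∈ Subgroup.zpowers zP := by
      obtain ⟨j, hj⟩ := Subgroup.mem_zpowers_iff.1 (hkey c₀⁻¹)
      have h0 : zP = z₁ ^ j := by rw [hj]; exact (MulAut.inv_apply_self _ (c₀ : MulAut P) zP).symm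
      have h1 : (z₁ : Ω) ∈ Subgroup.zpowers (z₁ : Ω) := Subgroup.mem_zpowers _
      have hzz : Subgroup.zpowers (z : Ω) = Subgroup.zpowers (z₁ : Ω) := by
        have hle' : Subgroup.zpowers (z : Ω) ≤ Subgroup.zpowers (z₁ : Ω) :=
          Subgroup.zpowers_le.2 ⟨j, by
            show (z₁ : Ω) ^ j = z
            rw [← Subgroup.coe_zpow, ← h0]⟩
        refine eq_of_le_of_card_le (Subgroup.zpowers_le.2 (hPS z₁.2)) hle' (le_of_eq ?_)
        rw [Nat.card_zpowers, Nat.card_zpowers, Subgroup.orderOf_coe]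
        exact ((c₀ : MulAut P).orderOf_eq zP).trans (Subgroup.orderOf_coe zP).symm
      obtain ⟨i, hi⟩ := Subgroup.mem_zpowers_iff.1 (hzz.ge h1)
      exact Subgroup.mem_zpowers_iff.2 ⟨i, Subtype.ext (by rw [Subgroup.coe_zpow]; exact hi)⟩
    have hz₁Z : (z₁ : Ω) ∈ Z := by
      obtain ⟨i, hi⟩ := Subgroup.mem_zpowers_iff.1 hz₁
      rw [← hi, Subgroup.coe_zpow]
      exact Z.zpow_mem hz i
    have hz₁1 : (z₁ : Ω) ≠ 1 := fun h => hz1 (congrArg Subtype.val
      ((map_eq_one_iff _ (c₀ : MulAut P).injective).1 (Subtype.ext h : z₁ = 1)))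
    obtain ⟨i, hi⟩ := Subgroup.mem_zpowers_iff.1 ((hgen _ hz₁Z hz₁1).ge hx)
    rw [show x = z₁ ^ i from Subtype.ext (by rw [Subgroup.coe_zpow]; exact hi.symm), map_zpow]
    obtain ⟨j, hj⟩ := Subgroup.mem_zpowers_iff.1 (hkey ⟨α, hα⟩)
    rw [show α z₁ = z₁ ^ j from hj.symm, ← zpow_mul, Subgroup.coe_zpow]
    exact Z.zpow_mem hz₁Z _

end Cfsg.Agent.S5178
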