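import Cfsg.Statements.S5179
import Cfsg.Agent.S5178

set_option autoImplicit false
universe u
open Cfsg

namespace Cfsg.Agent.S5179

open Cfsg.FusionSystem Cfsg.Agent.Fusion Cfsg.Agent.Fusion.CentreIndexSq
open scoped commutatorElement Pointwise

/-- A group of automorphisms of an abelian group having a large `p`-subgroup of transvections
with centre `z` and a strongly `p`-embedded subgroup fixes the line of `z`. -/
theorem line_invariant₀ {R : Type*} [Group R] [Finite R] {p : ℕ} [Fact p.Prime]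
    (hR : ∀ a b : R, a * b = b * a)
    (A : Subgroup (MulAut R)) (T : Sylow p A) (T₀ : Subgroup A) (hT₀ : T₀ ≤ (T : Subgroup A))
    (z : R) (hz : z ^ p = 1)
    (htz : ∀ t ∈ T₀, (t : MulAut R) z = z)
    (htc : ∀ t ∈ T₀, ∀ r : R, r⁻¹ * (t : MulAut R) r ∈ Subgroup.zpowers z)
    (hT : p < Nat.card T₀)
    (E : Subgroup A) (hE : E ≠ ⊤)
    (hmem : ∀ t ∈ T₀, t ≠ 1 → ∀ x : A, x * t * x⁻¹ ∈ (T : Subgroup A) → x ∈ E)
    (g : A) : (g : MulAut R) z ∈ Subgroup.zpowers z := by
  have : Finite (MulAut R) :=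
    Finite.of_injective (fun b : MulAut R => (b : R → R)) DFunLike.coe_injective
  have hpp : p.Prime := Fact.out
  have hfix : ∀ w : R, ∃ t ∈ T₀, t ≠ 1 ∧ (t : MulAut R) w = w := by
    intro w
    let Φ : ↥T₀ → ↥(Subgroup.zpowers z) :=
      fun t => ⟨w⁻¹ * ((t : A) : MulAut R) w, htc t t.2 w⟩
    have hni : ¬ Function.Injective Φ := by
      intro hinj
      have h1 := Nat.card_le_card_of_injective Φ hinj
      rw [Nat.card_zpowers] at h1
      exact absurd (h1.trans (Nat.le_of_dvd hpp.pos (orderOf_dvd_of_pow_eq_one hz))) (by omega)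
    obtain ⟨a, b, hab, hne⟩ : ∃ a b, Φ a = Φ b ∧ a ≠ b := by
      simpa [Function.Injective] using hni
    refine ⟨(a : A)⁻¹ * b, T₀.mul_mem (T₀.inv_mem a.2) b.2,
      fun h => hne (Subtype.ext (inv_mul_eq_one.1 h)), ?_⟩
    have h1 : ((a : A) : MulAut R) w = ((b : A) : MulAut R) w :=
      mul_left_cancel (congrArg Subtype.val hab)
    show ((a : A) : MulAut R)⁻¹ (((b : A) : MulAut R) w) = w
    rw [← h1, MulAut.inv_apply_self]
  have hline : ∀ g : A, (g : MulAut R) z ∈ Subgroup.zpowers z ∨ g ∈ E := by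
    intro g
    by_contra hcon
    push Not at hcon
    obtain ⟨hgz, hgE⟩ := hcon
    obtain ⟨t, ht, ht1, htf⟩ := hfix ((g : MulAut R) z)
    obtain ⟨s, hs, hs1, hsf⟩ := hfix ((g : MulAut R)⁻¹ z)
    set u := g * s * g⁻¹ with hu
    have huz : (u : MulAut R) z = z := by
      show (g : MulAut R) ((s : MulAut R) ((g : MulAut R)⁻¹ z)) = z
      rw [hsf, MulAut.apply_inv_self]
    have hugz : (u : MulAut R) ((g : MulAut R) z) = (g : MulAut R) z := by
      show (g : MulAut R) ((s : MulAut R) ((g : MulAut R)⁻¹ ((g : MulAut R) z))) = _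
      rw [MulAut.inv_apply_self, htz s hs]
    have huc : ∀ r : R, r⁻¹ * (u : MulAut R) r ∈ Subgroup.zpowers ((g : MulAut R) z) := by
      intro r
      obtain ⟨i, hi⟩ := Subgroup.mem_zpowers_iff.1 (htc s hs ((g : MulAut R)⁻¹ r))
      refine Subgroup.mem_zpowers_iff.2 ⟨i, ?_⟩
      rw [← map_zpow, hi, map_mul, map_inv, MulAut.apply_inv_self]
      rfl
    -- `t` fixes both centres, as does `u`, so they commute
    have hcom : Commute t u := by
      refine Subtype.ext (MulEquiv.ext fun r => ?_)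
      show (t : MulAut R) ((u : MulAut R) r) = (u : MulAut R) ((t : MulAut R) r)
      obtain ⟨i, hi⟩ := Subgroup.mem_zpowers_iff.1 (huc r)
      obtain ⟨j, hj⟩ := Subgroup.mem_zpowers_iff.1 (htc t ht r)
      have h1 : (t : MulAut R) ((u : MulAut R) r) = r * (r⁻¹ * (t : MulAut R) r) *
          (r⁻¹ * (u : MulAut R) r) := by
        calc (t : MulAut R) ((u : MulAut R) r)
            = (t : MulAut R) (r * ((g : MulAut R) z) ^ i) := by rw [hi, mul_inv_cancel_left]
          _ = (t : MulAut R) r * ((g : MulAut R) z) ^ i := by rw [map_mul, map_zpow, htf]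
          _ = _ := by rw [hi, mul_inv_cancel_left]
      have h2 : (u : MulAut R) ((t : MulAut R) r) = r * (r⁻¹ * (u : MulAut R) r) *
          (r⁻¹ * (t : MulAut R) r) := by
        calc (u : MulAut R) ((t : MulAut R) r)
            = (u : MulAut R) (r * z ^ j) := by rw [hj, mul_inv_cancel_left]
          _ = (u : MulAut R) r * z ^ j := by rw [map_mul, map_zpow, huz]
          _ = _ := by rw [hj, mul_inv_cancel_left]
      rw [h1, h2, mul_assoc r, mul_assoc r]
      exact congrArg (r * ·) (hR _ _)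
    have hTP : IsPGroup p (Subgroup.zpowers t ⊔ Subgroup.zpowers u : Subgroup A) := by
      refine IsPGroup.to_sup_of_normal_right' ?_ ?_ ?_
      · exact T.2.to_le (Subgroup.zpowers_le.2 (hT₀ ht))
      · have h1 : IsPGroup p (Subgroup.zpowers s) := T.2.to_le (Subgroup.zpowers_le.2 (hT₀ hs))
        have h2 := h1.map (MulAut.conj g).toMonoidHom
        rwa [MonoidHom.map_zpowers] at h2
      · refine Subgroup.zpowers_le.2 (Subgroup.centralizer_le_normalizer _ ?_)
        refine Subgroup.mem_centralizer_iff.2 fun y hy => ?_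
        obtain ⟨i, rfl⟩ := Subgroup.mem_zpowers_iff.1 hy
        exact ((hcom.symm.zpow_left i)).eq
    obtain ⟨P, hP⟩ := hTP.exists_le_sylow
    obtain ⟨h, hh⟩ := MulAction.exists_smul_eq A T P
    have hmemP : ∀ y ∈ (P : Subgroup A), h⁻¹ * y * h⁻¹⁻¹ ∈ (T : Subgroup A) := by
      intro y hy
      rw [← hh, Sylow.coe_subgroup_smul, Subgroup.mem_pointwise_smul_iff_inv_smul_mem] at hy
      simpa [MulAut.smul_def, MulAut.inv_apply, MulAut.conj_symm_apply] using hy
    have hhE : h ∈ E := by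
      have hb := hmemP t (hP (Subgroup.mem_sup_left (Subgroup.mem_zpowers t)))
      have h1 := hmem t ht ht1 h⁻¹ hb
      simpa using E.inv_mem h1
    have hb := hmemP u (hP (Subgroup.mem_sup_right (Subgroup.mem_zpowers u)))
    have h2 := hmem s hs hs1 (h⁻¹ * g) (by convert hb using 1; rw [hu]; group)
    exact hgE (by simpa using E.mul_mem hhE h2)
  rcases hline g with h | h
  · exact h
  by_contra hgz
  obtain ⟨e, he⟩ : ∃ e : A, e ∉ E := by
    by_contra hall
    push Not at hall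
    exact hE (eq_top_iff.2 fun e _ => hall e)
  have hez := (hline e).resolve_right he
  rcases hline (g * e) with h1 | h1
  · refine hgz ?_
    obtain ⟨i, hi⟩ := Subgroup.mem_zpowers_iff.1 hez
    have hz1 : z ≠ 1 := fun h => hgz (by rw [h, map_one]; exact Subgroup.one_mem _)
    have hzo : orderOf z = p := orderOf_eq_prime hz hz1
    have heo : orderOf ((e : MulAut R) z) = p := by
      rw [← hzo]; exact orderOf_injective (e : MulAut R).toMonoidHom (MulEquiv.injective _) z
    have hzz : Subgroup.zpowers ((e : MulAut R) z) = Subgroup.zpowers z :=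
      Subgroup.eq_of_le_of_card_ge (Subgroup.zpowers_le.2 hez)
        (by rw [Nat.card_zpowers, Nat.card_zpowers, heo, hzo])
    obtain ⟨j, hj⟩ := Subgroup.mem_zpowers_iff.1 (hzz.ge (Subgroup.mem_zpowers z))
    have h3 := congrArg (g : MulAut R) hj
    rw [map_zpow] at h3
    rw [← h3]
    exact Subgroup.zpow_mem _ h1 j
  · exact he (by simpa using E.mul_mem (E.inv_mem h) h1)



/-- Let p be an odd prime, S a finite p-group of order at least p⁶ containing an extraspecial subgroup Q of index p, and F a saturated fusion system over S whose largest subgroup normal in F is trivial. Then no proper subgroup of Q is essential in F: an essential subgroup of F contained in Q equals Q. -/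
theorem result {Ω : Type u} [Group Ω] {S : Subgroup Ω} [Finite S] (p : ℕ) [Fact p.Prime] (hp : Odd p) (hS : IsPGroup p S)
    (Q : Subgroup Ω) (hQS : Q ≤ S) (hQ : Cfsg.IsExtraspecial p ↥Q) (hQi : (Q.subgroupOf S).index = p)
    (h6 : p ^ 6 ≤ Nat.card S)
    (F : Cfsg.FusionSystem S) (hF : F.IsSaturated p) (hO : F.core = ⊥)
    (E : Subgroup Ω) (hEQ : E ≤ Q) (hE : F.IsEssential p E) : E = Q := by
  have hpp : p.Prime := Fact.out
  obtain ⟨⟨-, -, hQd⟩, hQc⟩ := hQ
  have hQfin := finite_of_le hQS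
  have hES := hE.2.1.1
  have := finite_of_le (Ω := Ω) hES
  have := finite_mulAut (Ω := Ω) hES
  set Z := Zc Q with hZdef
  have hSdQ : Sd Q = Z := by rw [hZdef, Zc_eq, Sd, hQd]
  have hZc : Nat.card Z = p := by
    rw [hZdef, Zc_eq, Subgroup.card_map_of_injective Q.subtype_injective, hQc]
  have hcomm : ∀ g ∈ Q, ∀ h ∈ Q, g * h * g⁻¹ * h⁻¹ ∈ Z := by
    intro g hg h hh
    rw [← hSdQ, Sd, Subgroup.map_subtype_commutator]
    exact Subgroup.commutator_mem_commutator hg hh
  have hZE : Z ≤ E := fun v hv => hE.1.2 E (isConj_refl F hES)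
    (mem_centralizerIn.2 ⟨hQS hv.1, fun y hy => Zc_comm hv (hEQ hy)⟩)
  have hgen : ∀ y ∈ Z, y ≠ 1 → Subgroup.zpowers y = Z := by
    intro y hy hy1
    refine eq_of_le_of_card_le ((Zc_le Q).trans hQS) (Subgroup.zpowers_le.2 hy) ?_
    have h1 : orderOf (⟨y, hy⟩ : Z) ∣ p := hZc ▸ orderOf_dvd_natCard _
    rcases hpp.eq_one_or_self_of_dvd _ h1 with h | h
    · exact absurd (congrArg Subtype.val (orderOf_eq_one_iff.1 h)) hy1
    · rw [hZc, Nat.card_zpowers, ← Subgroup.orderOf_mk (H := Z) y hy, h]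
  have hCE : centralizerIn Q E ≤ E := fun y hy =>
    hE.1.2 E (isConj_refl F hES) (mem_centralizerIn.2 ⟨hQS (mem_centralizerIn.1 hy).1,
      (mem_centralizerIn.1 hy).2⟩)
  have hEn : ∀ g ∈ Q, g ∈ Subgroup.normalizer (E : Set Ω) := by
    refine fun g hg => ModelEmbed.mem_normalizer_of_finite fun y hy => ?_
    simpa using E.mul_mem (hZE (hcomm g hg y (hEQ hy))) hy
  -- it is enough that `Z` is invariant
  suffices hkey : ∀ α ∈ F.autGroup E, ∀ x : E, (x : Ω) ∈ Z → ((α x : E) : Ω) ∈ Z by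
    refine le_antisymm hEQ fun g hg => ?_
    let f : ℕ → Subgroup E := fun i => match i with | 0 => ⊥ | 1 => Z.subgroupOf E | _ => ⊤
    have hinv : ∀ i ≤ 2, ∀ α ∈ F.autGroup E, ∀ x ∈ f i, α x ∈ f i := by
      intro i hi α hα x hx
      match i with
      | 0 => rw [show f 0 = ⊥ from rfl, Subgroup.mem_bot] at hx ⊢; rw [hx, map_one]
      | 1 => exact hkey α hα x hx
      | (n + 2) => trivial
    have hval : ∀ x : E, ((conjAut (hEn g hg) x : E) : Ω) = g * (x : Ω) * g⁻¹ := fun x => rfl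
    have hmem : conjAut (hEn g hg) ∈ SmallEss.chainStab (F.autGroup E) f 2 hinv := by
      refine ⟨autInducedBy_le_autGroup F hES (conjAut_mem_autInducedBy (hQS hg) (hEn g hg)),
        fun i hi x hx => ?_⟩
      match i with
      | 0 =>
        refine Subgroup.mem_bot.2 (Subtype.ext ?_)
        have hxZ : (x : Ω) ∈ Zc Q := hx
        rw [Subgroup.coe_mul, Subgroup.coe_inv, hval, Zc_comm hxZ hg, mul_inv_cancel_right,
          inv_mul_cancel]
        rfl
      | 1 =>
        show ((x⁻¹ * conjAut (hEn g hg) x : E) : Ω) ∈ Z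
        rw [Subgroup.coe_mul, Subgroup.coe_inv, hval]
        have h1 := hcomm _ (Q.inv_mem (hEQ x.2)) g hg
        convert h1 using 1
        group
    obtain ⟨b, hb⟩ := SmallEss.chainStab_le_inn hS hE rfl rfl hinv hmem
    have hgb : (b : Ω)⁻¹ * g ∈ E := by
      refine hCE (mem_centralizerIn.2 ⟨Q.mul_mem (Q.inv_mem (hEQ b.2)) hg, fun y hy => ?_⟩)
      have h1 := congrArg (fun x : E => (x : Ω)) (MulEquiv.congr_fun hb ⟨y, hy⟩)
      have h1 : (b : Ω) * y * (b : Ω)⁻¹ = g * y * g⁻¹ := h1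
      calc y * ((b : Ω)⁻¹ * g) = (b : Ω)⁻¹ * ((b : Ω) * y * (b : Ω)⁻¹) * g := by group
        _ = (b : Ω)⁻¹ * g * y := by rw [h1]; group
    simpa using E.mul_mem b.2 hgb
  by_cases hab : ∀ a b : E, a * b = b * a
  swap
  · push Not at hab
    obtain ⟨a, b, hab⟩ := hab
    intro α _ x hx
    have hne : ((⁅a, b⁆ : E) : Ω) ≠ 1 := fun h =>
      hab (commutatorElement_eq_one_iff_mul_comm.1 (Subtype.ext h))
    have hc : ∀ a b : E, ((⁅a, b⁆ : E) : Ω) ∈ Z := fun a b => hcomm a (hEQ a.2) b (hEQ b.2)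
    obtain ⟨i, hi⟩ := Subgroup.mem_zpowers_iff.1 ((hgen _ (hc a b) hne).ge hx)
    rw [show x = ⁅a, b⁆ ^ i from Subtype.ext (by rw [Subgroup.coe_zpow]; exact hi.symm), map_zpow,
      map_commutatorElement, Subgroup.coe_zpow]
    exact Z.zpow_mem (hc _ _) i
  -- the abelian case
  obtain ⟨z, hz, hz1⟩ : ∃ z ∈ Z, z ≠ 1 := by
    by_contra hcon
    push Not at hcon
    rw [(Subgroup.eq_bot_iff_forall _).2 hcon, Subgroup.card_bot] at hZc
    exact hpp.ne_one hZc.symm
  have hzp : z ^ p = 1 := by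
    have h1 : orderOf (⟨z, hz⟩ : Z) ∣ p := hZc ▸ orderOf_dvd_natCard _
    rw [← Subgroup.orderOf_coe] at h1
    exact orderOf_dvd_iff_pow_eq_one.1 h1
  obtain ⟨-, hEfn, hI, E₀, hE₀⟩ := hE
  obtain ⟨-, hE₀top, T₀, hE₀T⟩ := hE₀
  obtain ⟨-, T, hT⟩ := isFullyAutomized_of_fullyNormalized hS hF hEfn
  have hInn : (Inn E).subgroupOf (F.autGroup E) = ⊥ := by
    rw [SmallEss.inn_eq_bot ⟨⟨hab⟩⟩, Subgroup.bot_subgroupOf]
  let π := QuotientGroup.mk' ((Inn E).subgroupOf (F.autGroup E))
  have hπi : Function.Injective π := by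
    rw [← MonoidHom.ker_eq_bot_iff, QuotientGroup.ker_mk', hInn]
  have hπs : Function.Surjective π := QuotientGroup.mk'_surjective _
  obtain ⟨c, hc⟩ := MulAction.exists_smul_eq
    (F.autGroup E ⧸ (Inn E).subgroupOf (F.autGroup E)) (T.mapSurjective hπs) T₀
  obtain ⟨c₀, rfl⟩ := hπs c
  set T₁ := c₀ • T with hT₁
  have hT₁m : ∀ y : F.autGroup E, y ∈ (T₁ : Subgroup (F.autGroup E)) ↔ π y ∈ (T₀ : Subgroup _) := by
    intro y
    rw [hT₁, ← hc, Sylow.coe_subgroup_smul, Sylow.coe_subgroup_smul,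
      Subgroup.mem_pointwise_smul_iff_inv_smul_mem, Subgroup.mem_pointwise_smul_iff_inv_smul_mem,
      Sylow.coe_mapSurjective]
    simp only [MulAut.smul_def, MulAut.inv_apply, MulAut.conj_symm_apply]
    rw [← map_inv, ← map_mul, ← map_mul]
    exact ⟨fun h => ⟨_, h, rfl⟩, fun ⟨v, hv, he⟩ => hπi he ▸ hv⟩
  set U : Subgroup (F.autGroup E) := MulAut.conj c₀ • (autInducedBy Q E).subgroupOf (F.autGroup E)
    with hU
  have hUT : U ≤ (T₁ : Subgroup (F.autGroup E)) := by
    rw [hU, hT₁, Sylow.coe_subgroup_smul, Subgroup.pointwise_smul_le_pointwise_smul_iff, hT]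
    exact fun a ha => autInducedBy_mono hQS ha
  let zE : E := ⟨z, hZE hz⟩
  let z₁ : E := (c₀ : MulAut E) zE
  have hUv : ∀ t ∈ (autInducedBy Q E).subgroupOf (F.autGroup E), (t : MulAut E) zE = zE ∧
      ∀ r : E, r⁻¹ * (t : MulAut E) r ∈ Subgroup.zpowers zE := by
    intro t ht
    obtain ⟨g, hg, hgv⟩ := mem_autInducedBy_iff.1 (Subgroup.mem_subgroupOf.1 ht)
    refine ⟨Subtype.ext ((hgv zE).trans ?_), fun r => ?_⟩
    · show g * z * g⁻¹ = z
      rw [Zc_comm hz hg, mul_inv_cancel_right]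
    · have h1 : ((r⁻¹ * (t : MulAut E) r : E) : Ω) ∈ Z := by
        rw [Subgroup.coe_mul, Subgroup.coe_inv, hgv r]
        have h2 := hcomm _ (Q.inv_mem (hEQ r.2)) g hg
        convert h2 using 1
        group
      obtain ⟨i, hi⟩ := Subgroup.mem_zpowers_iff.1 ((hgen z hz hz1).ge h1)
      exact Subgroup.mem_zpowers_iff.2 ⟨i, Subtype.ext (by rw [Subgroup.coe_zpow]; exact hi)⟩
  have hUcard : p < Nat.card U := by
    rw [hU, ← Nat.card_congr (Subgroup.equivSMul _ _).toEquiv, Nat.card_congr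
      (Subgroup.subgroupOfEquivOfLe ((autInducedBy_mono hQS).trans (autInducedBy_le_autGroup F hES))).toEquiv]
    have hC : centralizerIn Q E = E := le_antisymm hCE
      fun y hy => mem_centralizerIn.2 ⟨hEQ hy, fun v hv =>
        congrArg Subtype.val (hab ⟨v, hv⟩ ⟨y, hy⟩)⟩
    have hN : normalizerIn Q E = Q := le_antisymm inf_le_left (le_inf le_rfl hEn)
    have hcard := card_centralizerIn_mul_card_autInducedBy Q E
    rw [hC, hN] at hcard
    by_contra hle
    have hclose : Nat.card Q ≤ Nat.card E * p := by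
      rw [← hcard]
      exact Nat.mul_le_mul_left _ (not_lt.1 hle)
    have hidx := S5178.index_center_eq (hS.to_le hQS) hEQ hab hclose (hSdQ ▸ hZc)
      (fun v hv => hZE hv)
    have h1 := (Subgroup.center Q).card_mul_index
    rw [hQc, hidx] at h1
    have h2 := (Q.subgroupOf S).card_mul_index
    rw [hQi, Nat.card_congr (Subgroup.subgroupOfEquivOfLe hQS).toEquiv, ← h1] at h2
    have h3 : p * p ^ 2 * p < p ^ 6 := by
      calc p * p ^ 2 * p = p ^ 4 := by ring
        _ < p ^ 6 := Nat.pow_lt_pow_right hpp.one_lt (by norm_num)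
    omega
  have hkey := line_invariant₀ hab (F.autGroup E) T₁ U hUT z₁
    (by rw [← map_pow, show zE ^ p = 1 from Subtype.ext hzp, map_one])
    (fun t ht => by
      rw [hU, Subgroup.mem_pointwise_smul_iff_inv_smul_mem] at ht
      have h1 := congrArg (c₀ : MulAut E) (hUv _ ht).1
      simpa [z₁, MulAut.smul_def, MulAut.inv_apply, MulAut.conj_symm_apply] using h1)
    (fun t ht r => by
      rw [hU, Subgroup.mem_pointwise_smul_iff_inv_smul_mem] at ht
      obtain ⟨i, hi⟩ := Subgroup.mem_zpowers_iff.1 ((hUv _ ht).2 ((c₀ : MulAut E)⁻¹ r))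
      refine Subgroup.mem_zpowers_iff.2 ⟨i, ?_⟩
      have h1 := congrArg (c₀ : MulAut E) hi
      rw [map_zpow] at h1
      rw [h1]
      simp [MulAut.smul_def, MulAut.inv_apply, MulAut.conj_symm_apply])
    hUcard (E₀.comap π)
    (fun h => hE₀top (by
      rw [← Subgroup.map_comap_eq_self_of_surjective (QuotientGroup.mk'_surjective _) E₀]
      show (E₀.comap π).map π = ⊤
      rw [h, Subgroup.map_top_of_surjective _ (QuotientGroup.mk'_surjective _)]))
    (fun t ht ht1 x hx => mem_of_kGeneratedCore_le hE₀T ((hT₁m t).1 (hUT ht))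
      (fun h => ht1 (hπi (h.trans (map_one π).symm)))
      (by rw [← map_inv, ← map_mul, ← map_mul]; exact (hT₁m _).1 hx))
  have hpinv : ∀ a : F.autGroup E, (a : MulAut E) z₁ ∈ Subgroup.zpowers z₁ := hkey
  have hzE1 : zE ≠ 1 := fun h => hz1 (congrArg Subtype.val h)
  have hord : ∀ w : E, w ^ p = 1 → w ≠ 1 → Nat.card (Subgroup.zpowers w) = p := fun w h h' => by
    rw [Nat.card_zpowers, orderOf_eq_prime h h']
  have hline : Subgroup.zpowers z₁ = Subgroup.zpowers zE := by
    obtain ⟨j, hj⟩ := Subgroup.mem_zpowers_iff.1 (hpinv c₀⁻¹)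
    have h0 : z₁ ^ j = zE := by rw [hj]; exact MulAut.inv_apply_self _ (c₀ : MulAut E) zE
    have hzEp : zE ^ p = 1 := Subtype.ext hzp
    refine (Subgroup.eq_of_le_of_card_ge (Subgroup.zpowers_le.2 (Subgroup.mem_zpowers_iff.2 ⟨j, h0⟩)) (le_of_eq ?_)).symm
    rw [hord zE hzEp hzE1, hord z₁ (by rw [← map_pow, hzEp, map_one])
      (fun h => hzE1 ((map_eq_one_iff _ (c₀ : MulAut E).injective).1 h))]
  intro α hα x hx
  obtain ⟨i, hi⟩ := Subgroup.mem_zpowers_iff.1 ((hgen z hz hz1).ge hx)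
  rw [show x = zE ^ i from Subtype.ext (by rw [Subgroup.coe_zpow]; exact hi.symm), map_zpow,
    Subgroup.coe_zpow]
  refine Z.zpow_mem ?_ i
  obtain ⟨k, hk⟩ := Subgroup.mem_zpowers_iff.1 (hline.ge (Subgroup.mem_zpowers zE))
  rw [← hk, map_zpow, Subgroup.coe_zpow]
  refine Z.zpow_mem ?_ k
  obtain ⟨l, hl⟩ := Subgroup.mem_zpowers_iff.1 (hline.le (hpinv ⟨α, hα⟩))
  show ((α z₁ : E) : Ω) ∈ Z
  rw [show α z₁ = zE ^ l from hl.symm, Subgroup.coe_zpow]
  exact Z.zpow_mem hz l

end Cfsg.Agent.S5179
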