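import Cfsg.Statements.S5180
import Cfsg.Agent.Lib.RankThreeNormal.Main

set_option autoImplicit false
universe u
open Cfsg Cfsg.Agent Cfsg.Agent.Fusion.Internal Cfsg.Agent.RankThreeNormal

namespace Cfsg.Agent.S5180

/-- Let p ≥ 5 be a prime, S a finite p-group of sectional p-rank exactly 3, and F a saturated fusion system over S. Then every essential subgroup E of F that needs three generators (the Frattini quotient E/Φ(E) has order p³) is normal in S. -/
theorem result {Ω : Type u} [Group Ω] {S : Subgroup Ω} [Finite S] (p : ℕ) [Fact p.Prime] (hp : 5 ≤ p) (hS : IsPGroup p S) (hsr : Cfsg.SectionalPRankLE p 3 ↥S ∧ ¬ Cfsg.SectionalPRankLE p 2 ↥S)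
    (F : Cfsg.FusionSystem S) (hF : F.IsSaturated p) (E : Subgroup Ω) (hE : F.IsEssential p E)
    (hrk : (frattini ↥E).index = p ^ 3) : S ≤ Subgroup.normalizer (E : Set Ω) := by
  obtain ⟨E₀, rfl⟩ : ∃ E₀ : Subgroup ↥S, E = up E₀ :=
    ⟨E.subgroupOf S, by rw [up, Subgroup.subgroupOf_map_subtype, inf_eq_left.2 hE.1.1]⟩
  have hidx : Nat.card E₀ = p ^ 3 * Nat.card (phi E₀) := by
    have h1 : (frattini ↥E₀).map (upEquiv E₀).toMonoidHom = frattini ↥(up E₀) :=
      PGroup.map_frattini (hS.to_subgroup E₀) _ (upEquiv E₀).surjective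
    have h2 : (frattini ↥E₀).index = p ^ 3 := by
      rw [← hrk, ← h1]
      exact ((frattini ↥E₀).index_map_equiv (upEquiv E₀)).symm
    rw [← (frattini ↥E₀).card_mul_index, h2, mul_comm, phi,
      Subgroup.card_map_of_injective E₀.subtype_injective]
  have hc : Ctx p F E₀ := ⟨hS, hF, hp, rankThree_of_sectional hsr.1, hE, hidx⟩
  intro g hg
  have h1 : g ∈ FusionSystem.normalizerIn S (up E₀) := by
    rw [normalizerIn_up, hc.normalizer_eq_top]
    exact ⟨⟨g, hg⟩, Subgroup.mem_top _, rfl⟩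
  exact h1.2

end Cfsg.Agent.S5180
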