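import Cfsg.Statements.S5182
import Cfsg.Agent.Lib.RankThreeNormal.NoPearl
import Cfsg.Agent.Lib.TI.Extraspecial

set_option autoImplicit false
universe u
open Cfsg Cfsg.Agent Cfsg.Agent.Fusion.Internal Cfsg.Agent.RankThreeNormal

namespace Cfsg.Agent.S5182

/-- Let p ≥ 5 be a prime, S a finite p-group of sectional p-rank exactly 3, and F a saturated fusion system over S whose largest subgroup normal in F is trivial. Then F has an essential subgroup that is either elementary abelian of order p² or extraspecial of order p³ and exponent p. -/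
theorem result {Ω : Type u} [Group Ω] {S : Subgroup Ω} [Finite S] (p : ℕ) [Fact p.Prime] (hp : 5 ≤ p) (hS : IsPGroup p S) (hsr : Cfsg.SectionalPRankLE p 3 ↥S ∧ ¬ Cfsg.SectionalPRankLE p 2 ↥S)
    (F : Cfsg.FusionSystem S) (hF : F.IsSaturated p) (hO : F.core = ⊥) :
    ∃ E : Subgroup Ω, (F.IsEssential p E ∧ ((Cfsg.IsElementaryAbelian p E ∧ Nat.card E = p ^ 2) ∨
        (Cfsg.IsExtraspecial p ↥E ∧ Nat.card E = p ^ 3 ∧ ∀ x ∈ E, x ^ p = 1))) := by
  have hnt : (⊤ : Subgroup ↥S) ≠ ⊥ := fun h => hsr.2 (by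
    have : Subsingleton ↥S := ⟨fun a b => (Subgroup.mem_bot.1 (h ▸ Subgroup.mem_top a)).trans
      (Subgroup.mem_bot.1 (h ▸ Subgroup.mem_top b)).symm⟩
    intro H N _ E _ _
    rw [Nat.card_eq_one_iff_unique.2 ⟨inferInstance, inferInstance⟩]
    exact Nat.one_le_pow _ _ (Fact.out : p.Prime).pos)
  obtain ⟨E, hE, hcase⟩ := exists_pearl hS hF hp (rankThree_of_sectional hsr.1) hnt hO
  refine ⟨up E, hE.ess, ?_⟩
  have hexp : (∀ v : ↥E, v ^ p = 1) → ∀ x ∈ up E, x ^ p = 1 := fun h x hx => by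
    obtain ⟨y, hy, rfl⟩ := hx
    rw [← map_pow, show y ^ p = 1 from congrArg Subtype.val (h ⟨y, hy⟩), map_one]
  rcases hcase with ⟨hc, hpow, hcard⟩ | ⟨hes, hcard, hpow⟩
  · refine Or.inl ⟨⟨⟨⟨fun a b => ?_⟩⟩, hexp hpow⟩, by rw [card_up]; exact hcard⟩
    obtain ⟨a, rfl⟩ := (upEquiv E).surjective a
    obtain ⟨b, rfl⟩ := (upEquiv E).surjective b
    rw [← map_mul, hc a b, map_mul]
  · exact Or.inr ⟨TI.isExtraspecial_congr (upEquiv E) hes, by rw [card_up]; exact hcard, hexp hpow⟩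

end Cfsg.Agent.S5182
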