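import Cfsg.Statements.S5185
import Cfsg.Agent.Lib.Fusion.SmallEssential
import Cfsg.Agent.Lib.GL.Basic

set_option autoImplicit false
universe u
open Cfsg

namespace Cfsg.Agent.S5185

open Cfsg.Agent.Fusion Cfsg.Agent.Fusion.SmallEss Matrix

section Aux

variable {G : Type*} [Group G] {p : ℕ} [Fact p.Prime]

theorem pow_val_add {v : G} (hv : v ^ p = 1) (a b : ZMod p) :
    v ^ (a + b).val = v ^ a.val * v ^ b.val := by
  rw [ZMod.val_add, ← pow_eq_pow_mod _ hv, pow_add]

theorem mul_pow_comm (hcomm : ∀ a b : G, a * b = b * a) (a b : G) (n : ℕ) :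
    (a * b) ^ n = a ^ n * b ^ n := (show Commute a b from hcomm a b).mul_pow n

theorem pow_val_mul {v : G} (hv : v ^ p = 1) (a b : ZMod p) :
    v ^ (a * b).val = v ^ (a.val * b.val) := by
  rw [ZMod.val_mul, ← pow_eq_pow_mod _ hv]

/-- The coordinates given by two commuting elements of order `p`. -/
def coordHom (hcomm : ∀ a b : G, a * b = b * a) {v w : G} (hv : v ^ p = 1) (hw : w ^ p = 1) :
    Multiplicative (Fin 2 → ZMod p) →* G where
  toFun x := v ^ (x.toAdd 0).val * w ^ (x.toAdd 1).val
  map_one' := by simp [ZMod.val_zero]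
  map_mul' x y := by
    show v ^ (x.toAdd 0 + y.toAdd 0).val * w ^ (x.toAdd 1 + y.toAdd 1).val = _
    rw [pow_val_add hv, pow_val_add hw, mul_assoc, ← mul_assoc _ _ (w ^ _),
      hcomm _ (w ^ (x.toAdd 1).val), mul_assoc, ← mul_assoc]

theorem coordHom_apply (hcomm : ∀ a b : G, a * b = b * a) {v w : G} (hv : v ^ p = 1) (hw : w ^ p = 1)
    (x : Multiplicative (Fin 2 → ZMod p)) :
    coordHom hcomm hv hw x = v ^ (x.toAdd 0).val * w ^ (x.toAdd 1).val := rfl

/-- `SL(2,p)` acting on the plane over `ZMod p`, written multiplicatively. -/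
def slAut (p : ℕ) [Fact p.Prime] :
    Matrix.SpecialLinearGroup (Fin 2) (ZMod p) →* MulAut (Multiplicative (Fin 2 → ZMod p)) where
  toFun g := AddEquiv.toMultiplicative (SpecialLinearGroup.toLin' g).toAddEquiv
  map_one' := by
    refine MulEquiv.ext fun x => ?_
    show Multiplicative.ofAdd (SpecialLinearGroup.toLin' 1 x.toAdd) = x
    rw [map_one]
    rfl
  map_mul' g h := by
    refine MulEquiv.ext fun x => ?_
    show Multiplicative.ofAdd (SpecialLinearGroup.toLin' (g * h) x.toAdd) = _
    rw [map_mul]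
    rfl

theorem slAut_apply (g : Matrix.SpecialLinearGroup (Fin 2) (ZMod p))
    (x : Multiplicative (Fin 2 → ZMod p)) :
    slAut p g x = Multiplicative.ofAdd ((g : Matrix (Fin 2) (Fin 2) (ZMod p)) *ᵥ x.toAdd) := by
  show Multiplicative.ofAdd (SpecialLinearGroup.toLin' g x.toAdd) = _
  rw [SpecialLinearGroup.toLin'_apply, Matrix.toLin'_apply]

theorem slAut_injective : Function.Injective (slAut p) := by
  intro g h hgh
  apply Subtype.ext
  apply Matrix.ext_iff_mulVec.mpr
  intro v
  have := congrArg (fun f : MulAut _ => (f (Multiplicative.ofAdd v)).toAdd) hgh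
  simpa [slAut_apply] using this

theorem transvection_mulVec {i j : Fin 2} (hij : i ≠ j) (c : ZMod p) (x : Fin 2 → ZMod p) :
    (SpecialLinearGroup.transvection hij c : Matrix (Fin 2) (Fin 2) (ZMod p)) *ᵥ x =
      fun l => if l = i then x l + c * x j else x l := by
  funext l
  rw [SpecialLinearGroup.transvection_coe, add_mulVec, one_mulVec, Pi.add_apply, Matrix.mulVec,
    dotProduct]
  split_ifs with h
  · subst h; simp [Matrix.single_apply]
  · simp [Matrix.single_apply, Ne.symm h]

/-- A `p`-element fixing `v` moves an element outside `⟨v⟩` by a nontrivial power of `v`. -/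
theorem moved [Finite G] (hcomm : ∀ a b : G, a * b = b * a) (hcard : Nat.card G = p ^ 2)
    {α : MulAut G} {k : ℕ} (hk : α ^ p ^ k = 1) (hne : α ≠ 1) {v w : G} (hvp : v ^ p = 1)
    (hv1 : v ≠ 1) (hαv : α v = v) (hw : w ∉ Subgroup.zpowers v) :
    ∃ i : ZMod p, i ≠ 0 ∧ α w = w * v ^ i.val := by
  have hord : Nat.card (Subgroup.zpowers v) = p := by
    rw [Nat.card_zpowers]; exact orderOf_eq_prime hvp hv1
  have hfixL : ∀ x ∈ Subgroup.zpowers v, α x = x := by
    rintro _ ⟨z, rfl⟩
    show α (v ^ z) = v ^ z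
    rw [map_zpow, hαv]
  have hinvL : ∀ x ∈ Subgroup.zpowers v, α x ∈ Subgroup.zpowers v := fun x hx => by
    rwa [hfixL x hx]
  have h1 : w⁻¹ * α w ∈ Subgroup.zpowers v :=
    apply_inv_mul_mem (L := ⊤) le_top (by rw [Subgroup.card_top, hcard, hord, pow_two]) hk hinvL
      (fun _ _ => trivial) trivial
  obtain ⟨n, hn : v ^ n = w⁻¹ * α w⟩ := (isOfFinOrder_of_finite v).mem_powers_iff_mem_zpowers.mpr h1
  have hn' : α w = w * v ^ (n : ZMod p).val := by
    rw [ZMod.val_natCast, ← pow_eq_pow_mod _ hvp, hn, mul_inv_cancel_left]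
  refine ⟨n, fun h0 => hne ?_, hn'⟩
  rw [h0, ZMod.val_zero, pow_zero, mul_one] at hn'
  have htop : Subgroup.zpowers v ⊔ Subgroup.zpowers w = ⊤ := by
    apply Subgroup.eq_top_of_le_card
    have hlt : Subgroup.zpowers v < Subgroup.zpowers v ⊔ Subgroup.zpowers w :=
      SetLike.lt_iff_le_and_exists.mpr ⟨le_sup_left, w,
        Subgroup.mem_sup_right (Subgroup.mem_zpowers w), hw⟩
    have := Cfsg.Agent.PGroup.mul_card_le_card (IsPGroup.of_card hcard) hlt
    rw [hord] at this
    rw [hcard, pow_two]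
    exact this
  refine MulEquiv.ext fun x => ?_
  have hx : x ∈ Subgroup.zpowers v ⊔ Subgroup.zpowers w := htop ▸ trivial
  have hfix : Subgroup.zpowers v ⊔ Subgroup.zpowers w ≤
      MonoidHom.eqLocus α.toMonoidHom (MonoidHom.id G) :=
    sup_le hfixL (Subgroup.zpowers_le.mpr hn')
  exact hfix hx

end Aux

/-- Let F be a saturated fusion system over a finite p-group S and H an essential subgroup of order p². Then H is elementary abelian (isomorphic to C_p × C_p) and its F-automorphism group contains a subgroup isomorphic to SL(2,p). -/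
theorem result {Ω : Type u} [Group Ω] {S : Subgroup Ω} [Finite S] (p : ℕ) [Fact p.Prime] (hS : IsPGroup p S)
    (F : Cfsg.FusionSystem S) (hF : F.IsSaturated p) (H : Subgroup Ω) (hH : F.IsEssential p H) (hcard : Nat.card H = p ^ 2) :
    Cfsg.IsElementaryAbelian p H ∧
      ∃ K : Subgroup ↥(F.autGroup H), Nonempty (↥K ≃* Matrix.SpecialLinearGroup (Fin 2) (ZMod p)) := by
  have hHS := hH.2.1.1
  have := Fusion.finite_of_le (Ω := Ω) hHS
  have hab : IsMulCommutative H := IsPGroup.isMulCommutative_of_card_eq_prime_sq hcard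
  have hcomm : ∀ a b : H, a * b = b * a := fun a b => hab.is_comm.comm a b
  have hp := (Fact.out : p.Prime)
  have hel : ∀ x : H, x ^ p = 1 := by
    let _ : CommGroup H := { mul_comm := hcomm }
    by_contra hcon
    push Not at hcon
    obtain ⟨x, hx⟩ := hcon
    obtain ⟨y, hy⟩ := exists_prime_orderOf_dvd_card' p (show p ∣ Nat.card H by
      rw [hcard]; exact dvd_pow_self p two_ne_zero)
    set R := (powMonoidHom p : H →* H).range
    have hRbot : R ≠ ⊥ := fun h => hx (Subgroup.mem_bot.mp (h ▸ ⟨x, rfl⟩))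
    have hRtop : R ≠ ⊤ := fun h => by
      have hs : Function.Surjective (powMonoidHom p : H →* H) := MonoidHom.range_eq_top.mp h
      have hi := (Finite.injective_iff_surjective).mpr hs
      have h1 : y = 1 := hi (show (powMonoidHom p : H →* H) y = powMonoidHom p 1 by
        simp [← hy, pow_orderOf_eq_one])
      rw [h1, orderOf_one] at hy
      exact hp.one_lt.ne hy
    have hR : Nat.card R = p := by
      obtain ⟨j, hj2, hj⟩ := (Nat.dvd_prime_pow hp).mp (hcard ▸ R.card_subgroup_dvd_card)
      interval_cases j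
      · exact absurd (Subgroup.card_eq_one.mp (by simpa using hj)) hRbot
      · simpa using hj
      · exact absurd (Subgroup.eq_top_of_card_eq _ (hj.trans hcard.symm)) hRtop
    exact false_of_line hS hH hcard R hR fun α _ x hx => map_pow_range_mem α hx
  refine ⟨⟨hab, fun a ha => congrArg Subtype.val (hel ⟨a, ha⟩)⟩, ?_⟩
  obtain ⟨α, hα, ⟨k, hk⟩, hne⟩ := exists_pElement_ne_one hH hab
  -- a fixed line of `α`
  obtain ⟨v, hv, hv1⟩ : ∃ v : H, α v = v ∧ v ≠ 1 := by
    have hZ : IsPGroup p (Subgroup.zpowers α) := by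
      refine fun g => ⟨k, ?_⟩
      obtain ⟨z, hz⟩ := g.2
      apply Subtype.ext
      rw [SubmonoidClass.coe_pow, ← hz, ← zpow_natCast, ← _root_.zpow_mul, mul_comm, _root_.zpow_mul, zpow_natCast,
        hk, _root_.one_zpow, OneMemClass.coe_one]
    obtain ⟨b, hb, hb1⟩ := hZ.exists_fixed_point_of_prime_dvd_card_of_fixed_point H
      (show p ∣ Nat.card H by rw [hcard]; exact dvd_pow_self p two_ne_zero)
      (a := (1 : H)) (fun g => map_one (g : MulAut H))
    exact ⟨b, hb ⟨α, Subgroup.mem_zpowers α⟩, hb1.symm⟩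
  obtain ⟨a, ha, haw⟩ : ∃ a ∈ F.autGroup H, a v ∉ Subgroup.zpowers v := by
    by_contra hcon
    push Not at hcon
    refine false_of_line hS hH hcard _ (by rw [Nat.card_zpowers]; exact orderOf_eq_prime (hel v) hv1)
      fun γ hγ x hx => ?_
    obtain ⟨z, rfl⟩ := hx
    show γ (v ^ z) ∈ _
    rw [map_zpow]
    exact Subgroup.zpow_mem _ (hcon γ hγ) z
  set w := a v with hwdef
  have hw1 : w ≠ 1 := fun h => haw (h ▸ Subgroup.one_mem _)
  obtain ⟨i, hi, hαw⟩ := moved hcomm hcard hk hne (hel v) hv1 hv haw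
  set β := a * α * a⁻¹ with hβdef
  have hβ : β ∈ F.autGroup H := mul_mem (mul_mem ha hα) (inv_mem ha)
  have hkβ : β ^ p ^ k = 1 := by rw [hβdef, conj_pow, hk, mul_one, mul_inv_cancel]
  have hneβ : β ≠ 1 := fun h => hne (conj_eq_one_iff.mp h)
  have hβw : β w = w := by simp [hβdef, hwdef, MulAut.mul_apply, hv]
  have hvw : v ∉ Subgroup.zpowers w := fun h => by
    have hsub : Subgroup.zpowers v ≤ Subgroup.zpowers w := Subgroup.zpowers_le.mpr h
    have heq := Subgroup.eq_of_le_of_card_ge hsub (by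
      rw [Nat.card_zpowers, Nat.card_zpowers, orderOf_eq_prime (hel v) hv1,
        orderOf_eq_prime (hel w) hw1])
    exact haw (heq ▸ Subgroup.mem_zpowers w)
  obtain ⟨j, hj, hβv⟩ := moved hcomm hcard hkβ hneβ (hel w) hw1 hβw hvw
  -- coordinates
  set φ := coordHom hcomm (hel v) (hel w) with hφdef
  have hinj : Function.Injective φ := by
    rw [injective_iff_map_eq_one]
    intro x hx
    rw [hφdef, coordHom_apply] at hx
    have h1 : x.toAdd 1 = 0 := by
      by_contra h1
      have hmem : w ^ (x.toAdd 1).val ∈ Subgroup.zpowers v := by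
        rw [eq_inv_of_mul_eq_one_right hx]
        exact inv_mem (Subgroup.pow_mem _ (Subgroup.mem_zpowers v) _)
      refine haw ?_
      have h2 := Subgroup.pow_mem _ hmem (x.toAdd 1)⁻¹.val
      rwa [← pow_mul, ← pow_val_mul (hel w), mul_inv_cancel₀ h1, ZMod.val_one, pow_one] at h2
    rw [h1, ZMod.val_zero, pow_zero, mul_one] at hx
    have h0 : x.toAdd 0 = 0 := by
      have := orderOf_dvd_of_pow_eq_one hx
      rw [orderOf_eq_prime (hel v) hv1] at this
      exact (ZMod.val_eq_zero _).mp (Nat.eq_zero_of_dvd_of_lt this (ZMod.val_lt _))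
    refine Multiplicative.toAdd.injective ?_
    funext l
    fin_cases l <;> simpa
  let e : Multiplicative (Fin 2 → ZMod p) ≃* H := MulEquiv.ofBijective φ
    ((Nat.bijective_iff_injective_and_card φ).mpr ⟨hinj, by
      rw [Nat.card_congr Multiplicative.toAdd, Nat.card_fun, Nat.card_zmod, Nat.card_fin, hcard]⟩)
  let ψ : Matrix.SpecialLinearGroup (Fin 2) (ZMod p) →* MulAut H :=
    (MulAut.congr e).toMonoidHom.comp (slAut p)
  have hψ : ∀ g x, ψ g (φ x) = φ (slAut p g x) := fun g x => by
    show e (slAut p g (e.symm (e x))) = _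
    rw [e.symm_apply_apply]
    rfl
  have hψinj : Function.Injective ψ := (MulAut.congr e).injective.comp slAut_injective
  have hpowα : ∀ (c : ZMod p) (x : Multiplicative (Fin 2 → ZMod p)), (α ^ c.val) (φ x) =
      φ (Multiplicative.ofAdd fun l : Fin 2 => if l = 0 then x.toAdd l + (c * i) * x.toAdd 1 else x.toAdd l) := by
    intro c x
    rw [hφdef, coordHom_apply, coordHom_apply, map_mul, map_pow, map_pow,
      aut_iter_fix (c := v ^ i.val) (by rw [map_pow, hv]) hαw,
      show (α ^ c.val) v = v from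
        (Subgroup.pow_mem (MulAction.stabilizer (MulAut H) v) (show α ∈ MulAction.stabilizer (MulAut H) v from hv) c.val)]
    rw [mul_pow_comm hcomm]
    simp only [toAdd_ofAdd, if_true, one_ne_zero, if_false, pow_val_add (hel v), pow_val_mul (hel v),
      ← pow_mul]
    rw [hcomm (w ^ _), ← mul_assoc, mul_comm i.val c.val, pow_mul v (c * i).val, pow_val_mul (hel v), ← pow_mul]
  have hpowβ : ∀ (c : ZMod p) (x : Multiplicative (Fin 2 → ZMod p)), (β ^ c.val) (φ x) =
      φ (Multiplicative.ofAdd fun l : Fin 2 => if l = 1 then x.toAdd l + (c * j) * x.toAdd 0 else x.toAdd l) := by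
    intro c x
    rw [hφdef, coordHom_apply, coordHom_apply, map_mul, map_pow, map_pow,
      aut_iter_fix (c := w ^ j.val) (by rw [map_pow, hβw]) hβv,
      show (β ^ c.val) w = w from
        (Subgroup.pow_mem (MulAction.stabilizer (MulAut H) w) (show β ∈ MulAction.stabilizer (MulAut H) w from hβw) c.val)]
    rw [mul_pow_comm hcomm]
    simp only [toAdd_ofAdd, if_true, zero_ne_one, if_false, pow_val_add (hel w), pow_val_mul (hel w),
      ← pow_mul]
    rw [mul_assoc, hcomm _ (w ^ (x.toAdd 1).val), mul_comm j.val c.val, pow_mul w (c * j).val, pow_val_mul (hel w), ← pow_mul]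
  have htop : (F.autGroup H).comap ψ = ⊤ := by
    refine Cfsg.Agent.GL.SL_eq_top_of_transvection_mem fun l m hlm c => ?_
    rw [Subgroup.mem_comap]
    fin_cases l <;> fin_cases m
    · exact absurd rfl hlm
    · have : ψ (SpecialLinearGroup.transvection hlm c) = α ^ (c * i⁻¹).val := by
        refine MulEquiv.ext fun y => ?_
        obtain ⟨x, rfl⟩ := e.surjective y
        show ψ _ (φ x) = (α ^ _) (φ x)
        rw [hψ, hpowα, slAut_apply, transvection_mulVec, inv_mul_cancel_right₀ hi]
        rfl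
      exact this ▸ Subgroup.pow_mem _ hα _
    · have : ψ (SpecialLinearGroup.transvection hlm c) = β ^ (c * j⁻¹).val := by
        refine MulEquiv.ext fun y => ?_
        obtain ⟨x, rfl⟩ := e.surjective y
        show ψ _ (φ x) = (β ^ _) (φ x)
        rw [hψ, hpowβ, slAut_apply, transvection_mulVec, inv_mul_cancel_right₀ hj]
        rfl
      exact this ▸ Subgroup.pow_mem _ hβ _
    · exact absurd rfl hlm
  let f := ψ.codRestrict (F.autGroup H) fun g => Subgroup.mem_comap.mp (htop ▸ Subgroup.mem_top g)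
  exact ⟨f.range, ⟨(MonoidHom.ofInjective (f := f) fun g h hgh =>
    hψinj (congrArg Subtype.val hgh)).symm⟩⟩

end Cfsg.Agent.S5185
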