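import Cfsg.Statements.S5186
import Cfsg.Agent.Lib.Fusion.SmallEssential
import Cfsg.Agent.Lib.PGroup.Class2
import Cfsg.Agent.Lib.PGroup.Frattini
import Cfsg.Agent.Lib.PGroup.UniqueOrderP

set_option autoImplicit false
universe u
open Cfsg

namespace Cfsg.Agent.S5186

open Cfsg.Agent.Fusion Cfsg.Agent.Fusion.SmallEss
open scoped commutatorElement

section Aux

variable {Ω : Type*} [Group Ω] {S : Subgroup Ω} [Finite S] {p : ℕ} [Fact p.Prime]
  {F : FusionSystem S} {H : Subgroup Ω}

theorem false_of_two_steps (hS : IsPGroup p S) (hH : F.IsEssential p H) (hcard : Nat.card H = p ^ 3)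
    {A B : Subgroup H} (hA : Nat.card A = p) (hB : Nat.card B = p ^ 2) (hAB : A ≤ B)
    (hAi : ∀ α ∈ F.autGroup H, ∀ x ∈ A, α x ∈ A) (hBi : ∀ α ∈ F.autGroup H, ∀ x ∈ B, α x ∈ B) :
    False := by
  refine false_of_chain hS hH (fun i => match i with | 0 => ⊥ | 1 => A | 2 => B | _ => ⊤) 3 rfl rfl
    ?_ ?_ ?_
  · intro i hi
    interval_cases i
    · exact bot_le
    · exact hAB
    · exact le_top
  · intro i hi
    interval_cases i
    · show Nat.card A ≤ p * Nat.card (⊥ : Subgroup H)
      simp [hA]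
    · show Nat.card B ≤ p * Nat.card A
      rw [hA, hB, pow_two]
    · show Nat.card (⊤ : Subgroup H) ≤ p * Nat.card B
      rw [Subgroup.card_top, hcard, hB, pow_succ']
  · intro i hi α hα x hx
    interval_cases i
    · simp_all
    · exact hAi α hα x hx
    · exact hBi α hα x hx
    · trivial

end Aux

theorem apply_mem_center {G : Type*} [Group G] (α : MulAut G) {x : G} (hx : x ∈ Subgroup.center G) :
    α x ∈ Subgroup.center G := by
  rw [Subgroup.mem_center_iff] at hx ⊢
  intro g
  have := congrArg α (hx (α⁻¹ g))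
  simpa using this

/-- Let F be a saturated fusion system over a finite p-group S and H an essential subgroup of order p³. Then H is elementary abelian, or p is odd and H is extraspecial of exponent p, or p = 2 and H is the quaternion group of order 8. -/
theorem result {Ω : Type u} [Group Ω] {S : Subgroup Ω} [Finite S] (p : ℕ) [Fact p.Prime] (hS : IsPGroup p S)
    (F : Cfsg.FusionSystem S) (hF : F.IsSaturated p) (H : Subgroup Ω) (hH : F.IsEssential p H) (hcard : Nat.card H = p ^ 3) :
    Cfsg.IsElementaryAbelian p H ∨ (Odd p ∧ Cfsg.IsExtraspecial p ↥H ∧ ∀ x ∈ H, x ^ p = 1) ∨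
      (p = 2 ∧ Nonempty (↥H ≃* QuaternionGroup 2)) := by
  have hHS := hH.2.1.1
  have := Fusion.finite_of_le (Ω := Ω) hHS
  have hp := (Fact.out : p.Prime)
  have hP : IsPGroup p H := IsPGroup.of_card hcard
  by_cases hab : IsMulCommutative H
  · left
    refine ⟨hab, fun a ha => congrArg Subtype.val (?_ : (⟨a, ha⟩ : H) ^ p = 1)⟩
    let _ : CommGroup H := { mul_comm := hab.is_comm.comm }
    by_contra hne
    set f : H →* H := powMonoidHom p with hf
    have hmul : Nat.card f.range * Nat.card f.ker = p ^ 3 := by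
      rw [← Subgroup.index_ker, mul_comm, Subgroup.card_mul_index, hcard]
    have hrbot : f.range ≠ ⊥ := fun h => hne (Subgroup.mem_bot.mp (h ▸ ⟨⟨a, ha⟩, rfl⟩))
    have hkbot : f.ker ≠ ⊥ := by
      obtain ⟨y, hy⟩ := exists_prime_orderOf_dvd_card' p (show p ∣ Nat.card H by
        rw [hcard]; exact dvd_pow_self p (by norm_num))
      intro h
      have : y ∈ f.ker := by
        rw [MonoidHom.mem_ker, hf, powMonoidHom_apply, ← hy, pow_orderOf_eq_one]
      rw [h, Subgroup.mem_bot] at this
      rw [this, orderOf_one] at hy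
      exact hp.one_lt.ne hy
    obtain ⟨r, hr⟩ := (hP.to_subgroup f.range).exists_card_eq
    obtain ⟨s, hs⟩ := (hP.to_subgroup f.ker).exists_card_eq
    have hrs : r + s = 3 := Nat.pow_right_injective hp.two_le (by
      show p ^ (r + s) = p ^ 3
      rw [pow_add, ← hr, ← hs, hmul])
    have hr0 : r ≠ 0 := fun h => hrbot (Subgroup.card_eq_one.mp (by rw [hr, h, pow_zero]))
    have hs0 : s ≠ 0 := fun h => hkbot (Subgroup.card_eq_one.mp (by rw [hs, h, pow_zero]))
    rcases (show (r = 1 ∧ s = 2) ∨ (r = 2 ∧ s = 1) by omega) with ⟨rfl, rfl⟩ | ⟨rfl, rfl⟩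
    · rw [pow_one] at hr
      refine false_of_two_steps hS hH hcard hr hs (fun x hx => ?_)
        (fun α _ x hx => map_pow_range_mem α hx) fun α _ x hx => map_pow_ker_mem α hx
      have := pow_card_eq_one' (G := f.range) (x := ⟨x, hx⟩)
      rw [hr] at this
      exact congrArg Subtype.val this
    · rw [pow_one] at hs
      refine false_of_two_steps hS hH hcard hs hr ?_
        (fun α _ x hx => map_pow_ker_mem α hx) fun α _ x hx => map_pow_range_mem α hx
      obtain ⟨y, hy⟩ := exists_prime_orderOf_dvd_card' (G := f.range) p (by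
        rw [hr]; exact dvd_pow_self p two_ne_zero)
      have hyK : (y : H) ∈ f.ker := by
        show (y : H) ^ p = 1
        have h1 := pow_orderOf_eq_one (y : H)
        rwa [Subgroup.orderOf_coe, hy] at h1
      have := Subgroup.eq_of_le_of_card_ge (Subgroup.zpowers_le.mpr hyK) (by
        rw [Nat.card_zpowers, Subgroup.orderOf_coe, hy, hs])
      exact this ▸ Subgroup.zpowers_le.mpr y.2
  right
  set Z := Subgroup.center H with hZdef
  have : Nontrivial H := Finite.one_lt_card_iff_nontrivial.mp (by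
    rw [hcard]; exact Nat.one_lt_pow (by norm_num) hp.one_lt)
  have hnc : ¬ IsCyclic (H ⧸ Z) := fun h => hab (isMulCommutative_of_isCyclic_quotient_center_self H)
  have hZ : Nat.card Z = p := by
    obtain ⟨j, hj⟩ := (hP.to_subgroup Z).exists_card_eq
    have hj3 : j ≤ 3 := (Nat.pow_dvd_pow_iff_le_right hp.one_lt).mp
      (hj ▸ hcard ▸ Z.card_subgroup_dvd_card)
    have hidx : p ^ j * Nat.card (H ⧸ Z) = p ^ 3 := by
      rw [← hj, ← hcard]; exact Z.card_mul_index
    interval_cases j
    · exact absurd (Subgroup.card_eq_one.mp (by rw [hj, pow_zero])) (hP.bot_lt_center.ne')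
    · rw [hj, pow_one]
    · exfalso
      refine hnc ?_
      have : Fact p.Prime := ⟨hp⟩
      exact isCyclic_of_prime_card (p := p) (Nat.eq_of_mul_eq_mul_left (pow_pos hp.pos 2)
        (hidx.trans (pow_succ p 2)))
    · exfalso
      refine hnc ?_
      have h1 : Nat.card (H ⧸ Z) = 1 :=
        Nat.eq_of_mul_eq_mul_left (pow_pos hp.pos 3) (hidx.trans (mul_one _).symm)
      have := (Nat.card_eq_one_iff_unique.mp h1).1
      infer_instance
  have hQ : Nat.card (H ⧸ Z) = p ^ 2 :=
    Nat.eq_of_mul_eq_mul_left hp.pos (by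
      have := Z.card_mul_index
      rw [hZ, hcard, Subgroup.index_eq_card] at this
      rw [this, pow_succ'])
  have hQab : IsMulCommutative (H ⧸ Z) := IsPGroup.isMulCommutative_of_card_eq_prime_sq hQ
  have hcl : commutator H ≤ Z := by
    rw [commutator_def, Subgroup.commutator_le]
    intro x _ y _
    rw [← QuotientGroup.eq_one_iff, commutatorElement_def]
    simp only [QuotientGroup.mk_mul, QuotientGroup.mk_inv]
    rw [hQab.is_comm.comm (x : H ⧸ Z) (y : H ⧸ Z), mul_inv_cancel_right, mul_inv_cancel]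
  have hpow : ∀ x : H, x ^ p ∈ Z := by
    intro x
    rw [← QuotientGroup.eq_one_iff, QuotientGroup.mk_pow]
    by_contra hne
    have hdvd : orderOf (x : H ⧸ Z) ∣ p ^ 2 := hQ ▸ orderOf_dvd_natCard (x : H ⧸ Z)
    obtain ⟨j, hj2, hj⟩ := (Nat.dvd_prime_pow hp).mp hdvd
    interval_cases j
    · rw [pow_zero, orderOf_eq_one_iff] at hj
      exact hne (by rw [hj, one_pow])
    · rw [pow_one] at hj
      exact hne (by rw [← hj, pow_orderOf_eq_one])
    · exact hnc (isCyclic_of_orderOf_eq_card (x : H ⧸ Z) (by rw [hj, hQ]))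
  have hcne : commutator H ≠ ⊥ := fun h => hab ⟨⟨fun a b => by
    have : ⁅a, b⁆ ∈ commutator H := Subgroup.commutator_mem_commutator trivial trivial
    rw [h, Subgroup.mem_bot] at this
    exact commutatorElement_eq_one_iff_mul_comm.mp this⟩⟩
  have hcZ : commutator H = Z := by
    refine Subgroup.eq_of_le_of_card_ge hcl ?_
    obtain ⟨j, hj⟩ := (hP.to_subgroup (commutator H)).exists_card_eq
    rw [hZ, hj]
    rcases Nat.eq_zero_or_pos j with rfl | hj0
    · exact absurd (Subgroup.card_eq_one.mp (by simpa using hj)) hcne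
    · exact Nat.le_self_pow hj0.ne' p
  have hex : IsExtraspecial p H :=
    ⟨⟨hP, le_antisymm (PGroup.frattini_le hcl hpow) (hcZ.symm.trans_le (PGroup.commutator_le_frattini hP)), hcZ⟩, hZ⟩
  by_cases h2 : p = 2
  · subst h2
    right
    refine ⟨rfl, ?_⟩
    by_cases huniq : ∀ A B : Subgroup H, Nat.card A = 2 → Nat.card B = 2 → A = B
    · rcases PGroup.cyclic_or_quaternion_of_unique hP huniq with hc | ⟨-, n, -, hn, e⟩
      · exact absurd (IsCyclic.isMulCommutative (α := H)) hab
      · rw [hcard] at hn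
        have := Nat.pow_right_injective (le_refl 2) hn
        obtain rfl : n = 1 := by omega
        exact e
    exfalso
    push Not at huniq
    obtain ⟨A, B, hA, hB, hAB⟩ := huniq
    obtain ⟨W, hW, hWZ⟩ : ∃ W : Subgroup H, Nat.card W = 2 ∧ W ≠ Z := by
      by_cases h : A = Z
      · exact ⟨B, hB, fun hB' => hAB (h.trans hB'.symm)⟩
      · exact ⟨A, hA, h⟩
    obtain ⟨t, ht⟩ := exists_prime_orderOf_dvd_card' (G := W) 2 (dvd_of_eq hW.symm)
    have hto : orderOf (t : H) = 2 := by rw [Subgroup.orderOf_coe, ht]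
    have ht2 : (t : H) ^ 2 = 1 := hto ▸ pow_orderOf_eq_one (t : H)
    have htZ : (t : H) ∉ Z := fun h => by
      have h1 := Subgroup.eq_of_le_of_card_ge (Subgroup.zpowers_le.mpr t.2)
        (by rw [Nat.card_zpowers, hto, hW])
      have h2 := Subgroup.eq_of_le_of_card_ge (Subgroup.zpowers_le.mpr h)
        (by rw [Nat.card_zpowers, hto, hZ])
      exact hWZ (h1.symm.trans h2)
    obtain ⟨y, hy⟩ : ∃ y : H, y ^ 2 ≠ 1 := by
      by_contra hcon
      push Not at hcon
      exact hab ⟨⟨fun a b => mul_comm_of_exponent_two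
        (Monoid.exponent_dvd_of_forall_pow_eq_one hcon |> fun h => by
          rcases (Nat.dvd_prime Nat.prime_two).mp h with h1 | h1
          · exact absurd (Monoid.exp_eq_one_iff.mp h1) (not_subsingleton H)
          · exact h1) a b⟩⟩
    have hz : ∀ z ∈ Z, z = 1 ∨ z = y ^ 2 := by
      obtain ⟨a, b, -, hab'⟩ := Nat.card_eq_two_iff.mp hZ
      intro z hz
      have h1 : (1 : Z) ∈ ({a, b} : Set Z) := hab' ▸ trivial
      have h2 : (⟨y ^ 2, hpow y⟩ : Z) ∈ ({a, b} : Set Z) := hab' ▸ trivial
      have h3 : (⟨z, hz⟩ : Z) ∈ ({a, b} : Set Z) := hab' ▸ trivial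
      have hne : (⟨y ^ 2, hpow y⟩ : Z) ≠ 1 := fun h => hy (congrArg Subtype.val h)
      simp only [Set.mem_insert_iff, Set.mem_singleton_iff] at h1 h2 h3
      rcases h1 with h1 | h1 <;> rcases h2 with h2 | h2 <;> rcases h3 with h3 | h3 <;>
        first
          | exact absurd (h2.trans h1.symm) hne
          | exact Or.inl (congrArg Subtype.val (h3.trans h1.symm))
          | exact Or.inr (congrArg Subtype.val (h3.trans h2.symm))
    have hy4 : y ^ 4 = 1 := by
      have h := pow_card_eq_one' (G := Z) (x := ⟨y ^ 2, hpow y⟩)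
      rw [hZ] at h
      have := congrArg Subtype.val h
      simpa [← pow_mul] using this
    have hyo : orderOf y = 2 ^ 2 :=
      orderOf_eq_prime_pow (n := 1) (by simpa using hy) (by simpa using hy4)
    set C := Subgroup.zpowers y
    have hC : Nat.card C = 2 ^ 2 := by rw [Nat.card_zpowers, hyo]
    have hCi : C.index = 2 := by
      have := C.card_mul_index
      rw [hC, hcard] at this
      omega
    have hZC : Z ≤ C := fun z hzZ => by
      rcases hz z hzZ with rfl | rfl
      · exact C.one_mem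
      · exact Subgroup.pow_mem _ (Subgroup.mem_zpowers y) 2
    have htC : (t : H) ∉ C := by
      intro h
      obtain ⟨k, hk⟩ := mem_powers_iff_mem_zpowers.mpr h
      simp only at hk
      rcases Nat.even_or_odd k with ⟨m, rfl⟩ | ⟨m, rfl⟩
      · refine htZ (hk ▸ ?_)
        rw [← two_mul, pow_mul]
        exact Subgroup.pow_mem _ (hpow y) m
      · apply hy
        have : ((y ^ (2 * m + 1)) ^ 2 : H) = 1 := by rw [hk, ht2]
        rwa [← pow_mul, show (2 * m + 1) * 2 = 4 * m + 2 by ring, pow_add, pow_mul, hy4, one_pow,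
          one_mul] at this
    have hsup : C ⊔ Subgroup.zpowers (t : H) = ⊤ := by
      have hlt : C < C ⊔ Subgroup.zpowers (t : H) :=
        SetLike.lt_iff_le_and_exists.mpr ⟨le_sup_left, (t : H),
          Subgroup.mem_sup_right (Subgroup.mem_zpowers _), htC⟩
      have := PGroup.mul_card_le_card hP hlt
      rw [hC] at this
      exact Subgroup.eq_top_of_le_card _ (by rw [hcard]; simpa using this)
    have hconj : (t : H) * y * (t : H)⁻¹ = y⁻¹ := by
      have hmem : (t : H) * y * (t : H)⁻¹ * y⁻¹ ∈ Z :=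
        hcl (Subgroup.commutator_mem_commutator (Subgroup.mem_top (t : H)) (Subgroup.mem_top y))
      rcases hz _ hmem with h | h
      · exfalso
        refine htZ (Subgroup.mem_center_iff.mpr fun g => ?_)
        have hcen : C ⊔ Subgroup.zpowers (t : H) ≤ Subgroup.centralizer {(t : H)} := by
          refine sup_le (Subgroup.zpowers_le.mpr ?_) (Subgroup.zpowers_le.mpr ?_)
          · rw [Subgroup.mem_centralizer_singleton_iff]
            exact (mul_inv_eq_iff_eq_mul.mp (mul_inv_eq_one.mp h)).symm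
          · rw [Subgroup.mem_centralizer_singleton_iff]
        exact Subgroup.mem_centralizer_singleton_iff.mp (hcen (hsup ▸ Subgroup.mem_top g))
      · calc (t : H) * y * (t : H)⁻¹ = ((t : H) * y * (t : H)⁻¹ * y⁻¹) * y := by group
          _ = y ^ 2 * y := by rw [h]
          _ = y⁻¹ := eq_inv_of_mul_eq_one_left (by rw [← pow_succ, ← pow_succ]; exact hy4)
    have hCn : C.Normal := PGroup.normal_of_index_eq hP hCi
    have hout : ∀ x : H, x ^ 2 ≠ 1 → x ∈ C := by
      intro x hx
      have hxm : x ∈ C ⊔ Subgroup.zpowers (t : H) := hsup ▸ Subgroup.mem_top x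
      obtain ⟨c, hc, u, hu, rfl⟩ := Subgroup.mem_sup_of_normal_left.mp hxm
      obtain ⟨m, rfl⟩ := mem_powers_iff_mem_zpowers.mpr hu
      rcases Nat.even_or_odd m with ⟨i, rfl⟩ | ⟨i, rfl⟩
      · refine C.mul_mem hc ?_
        show (t : H) ^ (i + i) ∈ C
        rw [← two_mul, pow_mul, ht2, one_pow]
        exact C.one_mem
      · exfalso
        refine hx ?_
        show (c * (t : H) ^ (2 * i + 1)) ^ 2 = 1
        rw [pow_succ (t : H), pow_mul, ht2, one_pow, one_mul]
        obtain ⟨z, rfl⟩ := hc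
        have hcz : (t : H) * y ^ z * (t : H)⁻¹ = (y ^ z)⁻¹ := by
          rw [← conj_zpow, hconj, inv_zpow]
        show (y ^ z * (t : H)) ^ 2 = 1
        calc (y ^ z * (t : H)) ^ 2 = y ^ z * ((t : H) * y ^ z * (t : H)⁻¹) * ((t : H) * (t : H)) := by
              rw [pow_two]; group
          _ = 1 := by rw [hcz, ← pow_two, ht2]; group
    refine false_of_two_steps hS hH hcard hZ hC hZC (fun α _ x hx => apply_mem_center α hx)
      fun α _ x hx => ?_
    obtain ⟨z, rfl⟩ := hx
    show α (y ^ z) ∈ C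
    rw [map_zpow]
    refine C.zpow_mem (hout _ fun h => hy (α.injective ?_)) z
    rw [map_pow, h, map_one]
  left
  refine ⟨hp.odd_of_ne_two h2, hex, fun x hx => congrArg Subtype.val (?_ : (⟨x, hx⟩ : H) ^ p = 1)⟩
  by_contra hne
  set f := PGroup.powHom hp h2 hcl (PGroup.commutator_pow_eq_one hcl hpow) with hf
  have hrZ : f.range ≤ Z := by
    rintro _ ⟨g, rfl⟩
    exact hpow g
  have hrbot : f.range ≠ ⊥ := fun h => hne (Subgroup.mem_bot.mp (h ▸ ⟨⟨x, hx⟩, rfl⟩))
  have hr : Nat.card f.range = p := by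
    obtain ⟨j, hj⟩ := (hP.to_subgroup f.range).exists_card_eq
    rcases Nat.eq_zero_or_pos j with rfl | hj0
    · exact absurd (Subgroup.card_eq_one.mp (by simpa using hj)) hrbot
    · exact le_antisymm (hZ ▸ Subgroup.card_le_of_le hrZ) (hj ▸ Nat.le_self_pow hj0.ne' p)
  have hk : Nat.card f.ker = p ^ 2 := by
    have := f.ker.card_mul_index
    rw [Subgroup.index_ker, hr, hcard, pow_succ] at this
    exact Nat.eq_of_mul_eq_mul_right hp.pos this
  refine false_of_two_steps hS hH hcard hZ hk (fun z hz => ?_) (fun α _ g hg => apply_mem_center α hg)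
    fun α _ g hg => ?_
  · have := pow_card_eq_one' (G := Z) (x := ⟨z, hz⟩)
    rw [hZ] at this
    exact congrArg Subtype.val this
  · rw [MonoidHom.mem_ker, hf, PGroup.powHom_apply] at hg ⊢
    rw [← map_pow, hg, map_one]

end Cfsg.Agent.S5186
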