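import Cfsg.Statements.S5187
import Cfsg.Agent.Lib.Fusion.SmallEssential
import Cfsg.Agent.Lib.PGroup.Frattini

set_option autoImplicit false
universe u
open Cfsg

namespace Cfsg.Agent.S5187

open Cfsg.Agent.Fusion Cfsg.Agent.Fusion.SmallEss

section Aux

variable {G : Type*} [CommGroup G] {p : ℕ}

/-- The `p^m`-th power map. -/
abbrev pw (p m : ℕ) : G →* G := powMonoidHom (p ^ m)

theorem card_eq_of_hom (f : G →* G) (L : Subgroup G) :
    Nat.card L = Nat.card (L.map f) * Nat.card (L ⊓ f.ker : Subgroup G) := by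
  rw [← (f.domRestrict L).ker.card_mul_index, Subgroup.index_ker, mul_comm, MonoidHom.domRestrict_range,
    MonoidHom.ker_domRestrict, ← Subgroup.inf_subgroupOf_left,
    Nat.card_congr (Subgroup.subgroupOfEquivOfLe inf_le_left).toEquiv]

theorem ker_pw_mono {m n : ℕ} (h : m ≤ n) : (pw p m : G →* G).ker ≤ (pw p n : G →* G).ker := by
  intro x hx
  simp only [MonoidHom.mem_ker, powMonoidHom_apply] at hx ⊢
  rw [← Nat.add_sub_cancel' h, pow_add, pow_mul, hx, one_pow]

theorem range_pw_anti {m n : ℕ} (h : m ≤ n) : (pw p n : G →* G).range ≤ (pw p m : G →* G).range := by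
  rintro _ ⟨x, rfl⟩
  refine ⟨x ^ p ^ (n - m), ?_⟩
  simp only [powMonoidHom_apply]
  rw [← pow_mul, ← pow_add, Nat.sub_add_cancel h]

theorem pw_mem_of_mem_ker_succ {x : G} {b : ℕ} (hx : x ∈ (pw p (b + 1) : G →* G).ker) :
    pw p b x ∈ (pw p 1 : G →* G).ker := by
  simp only [MonoidHom.mem_ker, powMonoidHom_apply, pow_one] at hx ⊢
  rwa [← pow_mul, ← pow_succ]

/-- A pair of elements gives a map from `(ZMod n)²`. -/
def pairHom {n : ℕ} [NeZero n] {a b : G} (ha : a ^ n = 1) (hb : b ^ n = 1) :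
    Multiplicative (ZMod n × ZMod n) →* G where
  toFun x := a ^ x.toAdd.1.val * b ^ x.toAdd.2.val
  map_one' := by simp [ZMod.val_zero]
  map_mul' x y := by
    show a ^ (x.toAdd.1 + y.toAdd.1).val * b ^ (x.toAdd.2 + y.toAdd.2).val = _
    rw [ZMod.val_add, ZMod.val_add, ← pow_eq_pow_mod _ ha, ← pow_eq_pow_mod _ hb, pow_add, pow_add,
      mul_mul_mul_comm]

/-- An abelian group of order `p^{2k}` in which `T = Ω₁ = ℧_{k-1}` has order `p²` is homocyclic. -/
theorem nonempty_homocyclic [Finite G] [Fact p.Prime] {k : ℕ} (hk : ∀ x : G, x ^ p ^ k = 1)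
    (hT : (pw p (k - 1) : G →* G).range = (pw p 1 : G →* G).ker)
    (hcard1 : Nat.card (pw p 1 : G →* G).ker = p ^ 2) :
    Nonempty (G ≃* Multiplicative (ZMod (p ^ k) × ZMod (p ^ k))) := by
  have hp := (Fact.out : p.Prime)
  have : NeZero (p ^ k) := ⟨(pow_pos hp.pos k).ne'⟩
  set T := (pw p 1 : G →* G).ker
  have hstep : ∀ b < k, Nat.card (pw p (b + 1) : G →* G).ker =
      p ^ 2 * Nat.card (pw p b : G →* G).ker := by
    intro b hb
    rw [card_eq_of_hom (pw p b) (pw p (b + 1)).ker, inf_eq_right.mpr (ker_pw_mono b.le_succ)]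
    congr 1
    rw [← hcard1]
    refine congrArg (fun K : Subgroup G => Nat.card K) (le_antisymm ?_ ?_)
    · rintro _ ⟨x, hx, rfl⟩
      exact pw_mem_of_mem_ker_succ hx
    · intro t ht
      obtain ⟨x, rfl⟩ := range_pw_anti (show b ≤ k - 1 by omega) (hT ▸ ht)
      refine ⟨x, ?_, rfl⟩
      simp only [T, SetLike.mem_coe, MonoidHom.mem_ker, powMonoidHom_apply, pow_one] at ht ⊢
      rwa [pow_succ, pow_mul]
  have hcardG : Nat.card G = p ^ (2 * k) := by
    have : ∀ b ≤ k, Nat.card (pw p b : G →* G).ker = p ^ (2 * b) := by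
      intro b
      induction b with
      | zero => exact fun _ => Subgroup.card_eq_one.mpr (eq_bot_iff.mpr fun x hx => by
          simpa [MonoidHom.mem_ker] using hx)
      | succ b ih =>
        intro hb
        rw [hstep b hb, ih (by omega), ← pow_add]
        ring_nf
    rw [← this k le_rfl, show (pw p k : G →* G).ker = ⊤ from eq_top_iff.mpr fun x _ => hk x,
      Subgroup.card_top]
  have hTne : T ≠ ⊥ := fun h => by
    rw [h, Subgroup.card_bot] at hcard1
    exact (Nat.one_lt_pow two_ne_zero hp.one_lt).ne hcard1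
  obtain ⟨u, hu, hu1⟩ := T.bot_or_exists_ne_one.resolve_left hTne
  obtain ⟨v, hv, hvu⟩ : ∃ v ∈ T, v ∉ Subgroup.zpowers u := by
    by_contra hcon
    push Not at hcon
    have h1 := Subgroup.card_le_of_le (fun x hx => hcon x hx : T ≤ Subgroup.zpowers u)
    have hup : u ^ p = 1 := by simpa [T] using hu
    rw [Nat.card_zpowers, orderOf_eq_prime hup hu1, hcard1, pow_two] at h1
    have := hp.one_lt
    nlinarith
  have hgen : Subgroup.zpowers u ⊔ Subgroup.zpowers v = T := by
    refine Subgroup.eq_of_le_of_card_ge (sup_le (Subgroup.zpowers_le.mpr hu) (Subgroup.zpowers_le.mpr hv)) ?_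
    have hlt : Subgroup.zpowers u < Subgroup.zpowers u ⊔ Subgroup.zpowers v :=
      SetLike.lt_iff_le_and_exists.mpr ⟨le_sup_left, v,
        Subgroup.mem_sup_right (Subgroup.mem_zpowers v), hvu⟩
    have := PGroup.mul_card_le_card (IsPGroup.of_card hcardG) hlt
    have hup : u ^ p = 1 := by simpa [T] using hu
    rw [Nat.card_zpowers, orderOf_eq_prime hup hu1] at this
    rw [hcard1, pow_two]
    exact this
  obtain ⟨a, rfl⟩ : u ∈ (pw p (k - 1) : G →* G).range := hT ▸ hu
  obtain ⟨b, rfl⟩ : v ∈ (pw p (k - 1) : G →* G).range := hT ▸ hv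
  set φ := pairHom (hk a) (hk b)
  have ha : a ∈ φ.range := ⟨Multiplicative.ofAdd (1, 0), by
    show a ^ (1 : ZMod (p ^ k)).val * b ^ (0 : ZMod (p ^ k)).val = a
    rw [ZMod.val_zero, pow_zero, mul_one, ZMod.val_one_eq_one_mod, ← pow_eq_pow_mod _ (hk a), pow_one]⟩
  have hb : b ∈ φ.range := ⟨Multiplicative.ofAdd (0, 1), by
    show a ^ (0 : ZMod (p ^ k)).val * b ^ (1 : ZMod (p ^ k)).val = b
    rw [ZMod.val_zero, pow_zero, one_mul, ZMod.val_one_eq_one_mod, ← pow_eq_pow_mod _ (hk b), pow_one]⟩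
  have hTmap : T ≤ φ.range.map (pw p (k - 1)) := hgen ▸ sup_le
    (Subgroup.zpowers_le.mpr ⟨a, ha, rfl⟩) (Subgroup.zpowers_le.mpr ⟨b, hb, rfl⟩)
  have hall : ∀ m ≤ k, (pw p m : G →* G).ker ≤ φ.range := by
    intro m
    induction m with
    | zero =>
      intro _ x hx
      have hx1 : x = 1 := by simpa [MonoidHom.mem_ker] using hx
      exact hx1 ▸ one_mem _
    | succ m ih =>
      intro hm x hx
      obtain ⟨y, hy, hyx⟩ := hTmap (pw_mem_of_mem_ker_succ hx)
      have hz : y ^ p ^ (k - 1 - m) ∈ φ.range := pow_mem hy _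
      have hker : x * (y ^ p ^ (k - 1 - m))⁻¹ ∈ (pw p m : G →* G).ker := by
        rw [MonoidHom.mem_ker, map_mul, map_inv, mul_inv_eq_one, ← hyx, powMonoidHom_apply,
          powMonoidHom_apply, ← pow_mul, ← pow_add, Nat.sub_add_cancel (by omega)]
      exact (mul_mem_cancel_right (inv_mem hz)).mp (ih (by omega) hker)
  have hsurj : Function.Surjective φ := fun x => hall k le_rfl (hk x)
  exact ⟨(MulEquiv.ofBijective φ ((Nat.bijective_iff_surjective_and_card φ).mpr ⟨hsurj, by
    rw [Nat.card_congr Multiplicative.toAdd, Nat.card_prod, Nat.card_zmod, hcardG, ← pow_add, two_mul]⟩)).symm⟩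

theorem exists_pow_order_prime {M : Type*} [Monoid M] {α : M} (hα : α ≠ 1) {k : ℕ} (hk : α ^ p ^ k = 1) :
    ∃ m : ℕ, (α ^ m) ^ p = 1 ∧ α ^ m ≠ 1 := by
  induction k with
  | zero => exact absurd (by simpa using hk) hα
  | succ k ih =>
    by_cases h : α ^ p ^ k = 1
    · exact ih h
    · exact ⟨p ^ k, by rw [← pow_mul, ← pow_succ, hk], h⟩

/-- An automorphism of order `p ≥ 5` of an abelian `p`-group with `|G : G^p| = p²` and `Ω₁ ≤ G^p`
acts trivially on `G/G^p`. -/
theorem trivial_mod_powers [Finite G] [Fact p.Prime] (h5 : 5 ≤ p) (hP : IsPGroup p G)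
    (hidx : (pw p 1 : G →* G).range.index = p ^ 2)
    (hΩ : (pw p 1 : G →* G).ker ≤ (pw p 1 : G →* G).range)
    {α : MulAut G} (hα : α ^ p = 1) (x : G) : x⁻¹ * α x ∈ (pw p 1 : G →* G).range := by
  have hp := (Fact.out : p.Prime)
  set R := (pw p 1 : G →* G).range with hR
  set R2 := (pw p 2 : G →* G).range with hR2
  let d : G →* G :=
    { toFun := fun x => x⁻¹ * α x
      map_one' := by simp
      map_mul' := fun x y => by rw [map_mul, mul_inv, mul_mul_mul_comm] }
  have hd : ∀ y, α y = y * d y := fun y => (mul_inv_cancel_left y (α y)).symm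
  have hαR : ∀ y ∈ R, α y ∈ R := fun y hy => map_pow_range_mem α hy
  set B := R ⊔ d.range with hB
  have hαB : ∀ y ∈ B, α y ∈ B := fun y hy => by
    rw [hd y]
    exact B.mul_mem hy (Subgroup.mem_sup_right ⟨y, rfl⟩)
  have hBtop : B ≠ ⊤ := by
    intro h
    have hdtop : d.range = ⊤ := frattini_nongenerating (top_le_iff.mp (h ▸ sup_le
      ((show R ≤ frattini G by
        rintro _ ⟨y, rfl⟩
        simpa using PGroup.pow_mem_frattini hP y).trans le_sup_right) le_sup_left))
    have hinj : Function.Injective d :=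
      Finite.injective_iff_surjective.mpr (MonoidHom.range_eq_top.mp hdtop)
    have hZ : IsPGroup p (Subgroup.zpowers α) := by
      refine fun g => ⟨1, ?_⟩
      obtain ⟨z, hz⟩ := g.2
      apply Subtype.ext
      rw [SubmonoidClass.coe_pow, ← hz, pow_one, ← zpow_natCast, ← zpow_mul, mul_comm, zpow_mul,
        zpow_natCast, hα, one_zpow, OneMemClass.coe_one]
    have hdvd : p ∣ Nat.card G := (dvd_pow_self p two_ne_zero).trans (hidx ▸ R.index_dvd_card)
    obtain ⟨b, hb, hb1⟩ := hZ.exists_fixed_point_of_prime_dvd_card_of_fixed_point G hdvd (a := (1 : G))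
      (fun g => map_one (g : MulAut G))
    refine hb1 (hinj ?_)
    show (1 : G)⁻¹ * α 1 = b⁻¹ * α b
    rw [show α b = b from hb ⟨α, Subgroup.mem_zpowers α⟩]
    simp
  have hBcard : Nat.card B ≤ p * Nat.card R := by
    have h1 := PGroup.mul_card_le_card hP (lt_top_iff_ne_top.mpr hBtop)
    have h2 := R.card_mul_index
    rw [hidx] at h2
    rw [Subgroup.card_top, ← h2] at h1
    refine Nat.le_of_mul_le_mul_left (show p * Nat.card B ≤ p * (p * Nat.card R) from ?_) hp.pos
    calc p * Nat.card B ≤ Nat.card R * p ^ 2 := h1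
      _ = p * (p * Nat.card R) := by ring
  have hd2 : ∀ y, d (d y) ∈ R := fun y =>
    apply_inv_mul_mem (p := p) (L := B) le_sup_left hBcard (k := 1) (by rwa [pow_one]) hαR hαB
      (Subgroup.mem_sup_right ⟨y, rfl⟩)
  have hd4 : ∀ y, d (d (d (d y))) ∈ R2 := by
    intro y
    obtain ⟨z, hz⟩ := hd2 y
    obtain ⟨w, hw⟩ := hd2 z
    refine ⟨w, ?_⟩
    rw [← hz]
    simp only [powMonoidHom_apply, pow_one, map_pow] at hw ⊢
    rw [← hw, ← pow_mul, pow_two]
  have hαR2 : ∀ y ∈ R2, α y ∈ R2 := fun y hy => map_pow_range_mem α hy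
  have hexp : ∀ n : ℕ, ∃ r ∈ R2, (α ^ n) x =
      x * d x ^ n * d (d x) ^ n.choose 2 * d (d (d x)) ^ n.choose 3 * r := by
    intro n
    induction n with
    | zero => exact ⟨1, R2.one_mem, by simp⟩
    | succ n ih =>
      obtain ⟨r, hr, he⟩ := ih
      refine ⟨d (d (d (d x))) ^ n.choose 3 * α r, R2.mul_mem (pow_mem (hd4 x) _) (hαR2 r hr), ?_⟩
      rw [pow_succ', MulAut.mul_apply, he, map_mul, map_mul, map_mul, map_mul, map_pow, map_pow, map_pow,
        hd x, hd (d x), hd (d (d x)), hd (d (d (d x))), Nat.choose_succ_succ' n 1,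
        Nat.choose_succ_succ' n 2, Nat.choose_one_right]
      simp only [mul_pow, pow_add, pow_one]
      ac_rfl
  obtain ⟨r, hr, he⟩ := hexp p
  rw [hα, MulAut.one_apply] at he
  have hpc : ∀ (c : ℕ) (y : G), p ∣ c → y ∈ R → y ^ c ∈ R2 := by
    rintro c _ ⟨j, rfl⟩ ⟨z, rfl⟩
    refine ⟨z ^ j, ?_⟩
    simp only [powMonoidHom_apply, pow_one, ← pow_mul]
    ring_nf
  have hdp : d x ^ p ∈ R2 := by
    have h2 := hpc _ _ (hp.dvd_choose_self (k := 2) two_ne_zero (by omega)) (hd2 x)
    have h3 := hpc _ _ (hp.dvd_choose_self (k := 3) (by omega) (by omega)) (hd2 (d x))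
    have h4 : x * (d x ^ p * (d (d x) ^ p.choose 2 * d (d (d x)) ^ p.choose 3 * r)) = x * 1 := by
      rw [mul_one]; exact (by simpa only [mul_assoc] using he.symm)
    rw [eq_inv_of_mul_eq_one_left (mul_left_cancel h4)]
    exact inv_mem (mul_mem (mul_mem h2 h3) hr)
  obtain ⟨z, hz⟩ := hdp
  have hmem : d x * (z ^ p)⁻¹ ∈ (pw p 1 : G →* G).ker := by
    simp only [powMonoidHom_apply] at hz
    rw [MonoidHom.mem_ker, map_mul, map_inv, mul_inv_eq_one, powMonoidHom_apply, powMonoidHom_apply,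
      pow_one, ← pow_mul, ← pow_two, hz]
  exact (mul_mem_cancel_right (inv_mem (show z ^ p ∈ R from ⟨z, by simp⟩))).mp (hΩ hmem)

end Aux

/-- Let F be a saturated fusion system over a finite p-group S and H an abelian essential subgroup that can be generated by two elements (its Frattini quotient has order at most p²). Then H is elementary abelian of order p², or p ≤ 3 and H is homocyclic of rank two, that is isomorphic to C_{pᵏ} × C_{pᵏ} for some k. -/
theorem result {Ω : Type u} [Group Ω] {S : Subgroup Ω} [Finite S] (p : ℕ) [Fact p.Prime] (hS : IsPGroup p S)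
    (F : Cfsg.FusionSystem S) (hF : F.IsSaturated p) (H : Subgroup Ω) (hH : F.IsEssential p H) (hab : IsMulCommutative ↥H) (hrk : (frattini ↥H).index ≤ p ^ 2) :
    (Cfsg.IsElementaryAbelian p H ∧ Nat.card H = p ^ 2) ∨
      (p ≤ 3 ∧ ∃ k : ℕ, Nonempty (↥H ≃* Multiplicative (ZMod (p ^ k) × ZMod (p ^ k)))) := by
  have hHS := hH.2.1.1
  have := Fusion.finite_of_le (Ω := Ω) hHS
  have hp := (Fact.out : p.Prime)
  have hP : IsPGroup p H := hS.to_le hHS
  let _ : CommGroup H := { mul_comm := hab.is_comm.comm }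
  obtain ⟨α₀, hα₀, ⟨k₀, hk₀⟩, hne₀⟩ := exists_pElement_ne_one hH hab
  have hex : ∃ k, ∀ x : H, x ^ p ^ k = 1 := by
    obtain ⟨n, hn⟩ := hP.exists_card_eq
    exact ⟨n, fun x => by rw [← hn, pow_card_eq_one']⟩
  obtain ⟨k, hk, hkmin⟩ : ∃ k, (∀ x : H, x ^ p ^ k = 1) ∧ ∀ j < k, ¬ ∀ x : H, x ^ p ^ j = 1 := by
    classical
    exact ⟨Nat.find hex, Nat.find_spec hex, fun j hj => Nat.find_min hex hj⟩
  have hk0 : 0 < k := by
    rcases Nat.eq_zero_or_pos k with rfl | h
    · exact absurd (MulEquiv.ext fun x => by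
        have hx := hk x
        rw [pow_zero, pow_one] at hx
        rw [MulAut.one_apply, hx, map_one]) hne₀
    · exact h
  set R := (pw p 1 : H →* H).range with hR
  set T := (pw p (k - 1) : H →* H).range with hT
  set K₁ := (pw p 1 : H →* H).ker with hK₁
  have hK₁R : Nat.card K₁ = R.index := by
    have h1 := K₁.card_mul_index
    rw [hK₁, Subgroup.index_ker] at h1
    have h2 := R.card_mul_index
    rw [← h2, mul_comm] at h1
    exact Nat.eq_of_mul_eq_mul_left Nat.card_pos h1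
  have hidx : R.index ≤ p ^ 2 := by
    have hc : commutator H ≤ R := by
      rw [(commutator_eq_bot_iff H).mpr hab]
      exact bot_le
    have hle : frattini H ≤ R := PGroup.frattini_le (p := p) hc fun x => ⟨x, by simp⟩
    exact (Nat.le_of_dvd (Nat.pos_of_ne_zero Subgroup.index_ne_zero_of_finite)
      (Subgroup.index_dvd_of_le hle)).trans hrk
  have hTK : T ≤ K₁ := by
    rintro _ ⟨x, rfl⟩
    simp only [hK₁, MonoidHom.mem_ker, powMonoidHom_apply, pow_one]
    rw [← pow_mul, ← pow_succ, Nat.sub_add_cancel hk0, hk]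
  have hTbot : T ≠ ⊥ := fun h => hkmin (k - 1) (by omega) fun x =>
    Subgroup.mem_bot.mp (h ▸ ⟨x, rfl⟩)
  obtain ⟨t, ht⟩ := (hP.to_subgroup T).exists_card_eq
  have ht2 : t ≤ 2 := (Nat.pow_le_pow_iff_right hp.one_lt).mp
    (ht ▸ (Subgroup.card_le_of_le hTK).trans (hK₁R ▸ hidx))
  have ht0 : t ≠ 0 := fun h => hTbot (Subgroup.card_eq_one.mp (by rw [ht, h, pow_zero]))
  rcases (show t = 1 ∨ t = 2 by omega) with rfl | rfl
  · exfalso
    rw [pow_one] at ht
    let f : ℕ → Subgroup H := fun i => if Even i then (pw p (i / 2) : H →* H).ker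
      else (pw p (i / 2 + 1) : H →* H).ker ⊓ T.comap (pw p (i / 2))
    have hf0 : ∀ b, f (2 * b) = (pw p b : H →* H).ker := fun b => by
      simp only [f]
      rw [if_pos (even_two_mul b), Nat.mul_div_cancel_left b two_pos]
    have hf1 : ∀ b, f (2 * b + 1) = (pw p (b + 1) : H →* H).ker ⊓ T.comap (pw p b) := fun b => by
      simp only [f]
      rw [if_neg (by simp), show (2 * b + 1) / 2 = b by omega]
    have hle0 : ∀ b, (pw p b : H →* H).ker ≤ (pw p (b + 1) : H →* H).ker ⊓ T.comap (pw p b) :=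
      fun b => le_inf (ker_pw_mono b.le_succ) fun x hx => by
        rw [Subgroup.mem_comap, MonoidHom.mem_ker.mp hx]
        exact T.one_mem
    have hcard1 : ∀ b < k, Nat.card ((pw p (b + 1) : H →* H).ker ⊓ T.comap (pw p b) : Subgroup H) =
        p * Nat.card (pw p b : H →* H).ker := by
      intro b hb
      rw [card_eq_of_hom (pw p b), inf_eq_right.mpr (hle0 b)]
      congr 1
      refine (congrArg (fun K : Subgroup H => Nat.card K) (le_antisymm ?_ ?_)).trans ht
      · rintro _ ⟨x, hx, rfl⟩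
        exact hx.2
      · intro y hy
        obtain ⟨x, rfl⟩ := range_pw_anti (show b ≤ k - 1 by omega) hy
        refine ⟨x, ⟨?_, hy⟩, rfl⟩
        have := hTK hy
        simp only [hK₁, SetLike.mem_coe, Subgroup.mem_toSubmonoid, MonoidHom.mem_ker, powMonoidHom_apply, pow_one] at this ⊢
        rwa [pow_succ, pow_mul]
    have hcard2 : ∀ b, Nat.card (pw p (b + 1) : H →* H).ker ≤ p ^ 2 * Nat.card (pw p b : H →* H).ker := by
      intro b
      rw [card_eq_of_hom (pw p b), inf_eq_right.mpr (ker_pw_mono b.le_succ)]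
      refine Nat.mul_le_mul_right _ ((Subgroup.card_le_of_le ?_).trans (hK₁R ▸ hidx))
      rintro _ ⟨x, hx, rfl⟩
      exact pw_mem_of_mem_ker_succ hx
    refine false_of_chain hS hH f (2 * k) ?_ ?_ ?_ ?_ ?_
    · rw [show 0 = 2 * 0 from rfl, hf0, eq_bot_iff]
      intro x hx
      simpa [MonoidHom.mem_ker] using hx
    · rw [hf0, eq_top_iff]
      exact fun x _ => hk x
    · intro i hi
      rcases Nat.even_or_odd' i with ⟨b, rfl | rfl⟩
      · rw [hf0, hf1]; exact hle0 b
      · rw [hf1, show 2 * b + 1 + 1 = 2 * (b + 1) by ring, hf0]; exact inf_le_left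
    · intro i hi
      rcases Nat.even_or_odd' i with ⟨b, rfl | rfl⟩
      · rw [hf0, hf1, hcard1 b (by omega)]
      · rw [hf1, show 2 * b + 1 + 1 = 2 * (b + 1) by ring, hf0, hcard1 b (by omega)]
        exact (hcard2 b).trans (by rw [pow_two, mul_assoc])
    · intro i _ α _ x hx
      rcases Nat.even_or_odd' i with ⟨b, rfl | rfl⟩
      · rw [hf0] at hx ⊢; exact map_pow_ker_mem α hx
      · rw [hf1] at hx ⊢
        exact ⟨map_pow_ker_mem α hx.1, Subgroup.mem_comap.mpr (by
          rw [← MulEquiv.coe_toMonoidHom, powMonoidHom_apply, ← map_pow]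
          exact map_pow_range_mem α hx.2)⟩
  have hTeq : T = K₁ := Subgroup.eq_of_le_of_card_ge hTK (by rw [ht]; exact hK₁R ▸ hidx)
  have hK₁card : Nat.card K₁ = p ^ 2 := hTeq ▸ ht
  by_cases hk1 : k = 1
  · left
    subst hk1
    have hel : ∀ x : H, x ^ p = 1 := fun x => by simpa using hk x
    refine ⟨⟨hab, fun a ha => congrArg Subtype.val (hel ⟨a, ha⟩)⟩, ?_⟩
    rw [← hK₁card, show K₁ = ⊤ from eq_top_iff.mpr fun x _ => by simpa [hK₁] using hel x, Subgroup.card_top]
  right
  refine ⟨?_, k, nonempty_homocyclic hk hTeq hK₁card⟩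
  by_contra hp3
  have h5 : 5 ≤ p := by
    rcases Nat.lt_or_ge p 5 with h | h
    · interval_cases p
      norm_num at hp
    · exact h
  obtain ⟨m, hαp, hαne⟩ := exists_pow_order_prime hne₀ hk₀
  set α := α₀ ^ m with hαdef
  have hα : α ∈ F.autGroup H := Subgroup.pow_mem _ hα₀ m
  let f : ℕ → Subgroup H := fun i => (pw p (k - i) : H →* H).range
  have hf0 : f 0 = ⊥ := by
    rw [eq_bot_iff]
    rintro _ ⟨x, rfl⟩
    simpa [f] using hk x
  have hfn : f k = ⊤ := by
    rw [eq_top_iff]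
    exact fun x _ => ⟨x, by simp⟩
  have hI := chainStab_le_inn hS hH hf0 hfn fun i _ γ _ x hx => map_pow_range_mem γ hx
  have hαmem : α ∈ chainStab (F.autGroup H) f k (fun i _ γ _ x hx => map_pow_range_mem γ hx) := by
    refine ⟨hα, fun i hi x hx => ?_⟩
    obtain ⟨y, rfl⟩ := hx
    obtain ⟨z, hz⟩ := trivial_mod_powers h5 hP (hK₁R ▸ hK₁card)
      (hTeq ▸ range_pw_anti (show 1 ≤ k - 1 by omega) : K₁ ≤ R) hαp y
    refine ⟨z, ?_⟩
    simp only [powMonoidHom_apply, pow_one] at hz ⊢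
    rw [map_pow, ← inv_pow, ← mul_pow, ← hz, ← pow_mul, ← pow_succ']
    congr 2
    omega
  exact hαne (Subgroup.mem_bot.mp (inn_eq_bot hab ▸ hI hαmem))

end Cfsg.Agent.S5187
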