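import Cfsg.Statements.S5188
import Cfsg.Agent.S5187
import Cfsg.Agent.Lib.Fusion.EssentialP4

set_option autoImplicit false
universe u
open Cfsg

namespace Cfsg.Agent.S5188

open Cfsg.Agent.Fusion Cfsg.Agent.Fusion.SmallEss

/-- A homomorphism from `(C_{p²}) × C_p × C_p`. -/
def tripleHom {G : Type*} [CommGroup G] {n m : ℕ} [NeZero n] [NeZero m] {a b c : G} (ha : a ^ n = 1)
    (hb : b ^ m = 1) (hc : c ^ m = 1) : Multiplicative (ZMod n × ZMod m × ZMod m) →* G where
  toFun x := a ^ x.toAdd.1.val * (b ^ x.toAdd.2.1.val * c ^ x.toAdd.2.2.val)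
  map_one' := by simp [ZMod.val_zero]
  map_mul' x y := by
    show a ^ (x.toAdd.1 + y.toAdd.1).val *
      (b ^ (x.toAdd.2.1 + y.toAdd.2.1).val * c ^ (x.toAdd.2.2 + y.toAdd.2.2).val) = _
    rw [ZMod.val_add, ZMod.val_add, ZMod.val_add, ← pow_eq_pow_mod _ ha, ← pow_eq_pow_mod _ hb,
      ← pow_eq_pow_mod _ hc, pow_add, pow_add, pow_add]
    ac_rfl

theorem nonempty_triple {G : Type*} [CommGroup G] [Finite G] {p : ℕ} [Fact p.Prime]
    (hcard : Nat.card G = p ^ 4) (hR : Nat.card (powMonoidHom p : G →* G).range = p) :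
    Nonempty (G ≃* Multiplicative (ZMod (p ^ 2) × ZMod p × ZMod p)) := by
  have hp : p.Prime := Fact.out
  have hP : IsPGroup p G := IsPGroup.of_card hcard
  set f : G →* G := powMonoidHom p with hf
  have hK : Nat.card f.ker = p ^ 3 := by
    have h1 := f.ker.card_mul_index
    rw [Subgroup.index_ker, hR, hcard, pow_succ p 3] at h1
    exact Nat.eq_of_mul_eq_mul_right hp.pos h1
  obtain ⟨a, haK⟩ : ∃ a, a ∉ f.ker := by
    by_contra hcon
    push Not at hcon
    have h1 : f.ker = ⊤ := eq_top_iff.2 fun g _ => hcon g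
    rw [h1, Subgroup.card_top, hcard] at hK
    exact absurd (Nat.pow_right_injective hp.two_le hK) (by norm_num)
  have hap : a ^ p ≠ 1 := haK
  have ha2 : a ^ p ^ 2 = 1 := by
    have h1 := pow_card_eq_one' (G := f.range) (x := ⟨a ^ p, ⟨a, rfl⟩⟩)
    rw [hR] at h1
    rw [sq, pow_mul]
    exact congrArg Subtype.val h1
  set T := Subgroup.zpowers (a ^ p)
  have hapK : a ^ p ∈ f.ker := by
    show (a ^ p) ^ p = 1
    rw [← pow_mul, ← sq, ha2]
  have hT : Nat.card T = p := by rw [Nat.card_zpowers, orderOf_eq_prime hapK hap]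
  obtain ⟨b, hbK, hbT⟩ := SetLike.not_le_iff_exists.1 (fun h : f.ker ≤ T => by
    have h1 := Subgroup.card_le_of_le h
    rw [hK, hT] at h1
    exact absurd ((Nat.pow_le_pow_iff_right hp.one_lt).1 (h1.trans (pow_one p).ge)) (by norm_num))
  have hTb : Nat.card ↥(T ⊔ Subgroup.zpowers b) = p ^ 2 := by
    rw [PGroup.card_sup_zpowers T hbT (by rw [show b ^ p = 1 from hbK]; exact T.one_mem), hT, sq]
  obtain ⟨c, hcK, hcT⟩ := SetLike.not_le_iff_exists.1 (fun h : f.ker ≤ T ⊔ Subgroup.zpowers b => by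
    have h1 := Subgroup.card_le_of_le h
    rw [hK, hTb] at h1
    exact absurd ((Nat.pow_le_pow_iff_right hp.one_lt).1 h1) (by norm_num))
  have : NeZero (p ^ 2) := ⟨(pow_pos hp.pos 2).ne'⟩
  have : NeZero p := ⟨hp.ne_zero⟩
  set φ := tripleHom ha2 (show b ^ p = 1 from hbK) (show c ^ p = 1 from hcK)
  have h1v : (1 : ZMod (p ^ 2)).val = 1 := by
    rw [ZMod.val_one_eq_one_mod, Nat.mod_eq_of_lt (Nat.one_lt_pow two_ne_zero hp.one_lt)]
  have h1w : (1 : ZMod p).val = 1 := by
    rw [ZMod.val_one_eq_one_mod, Nat.mod_eq_of_lt hp.one_lt]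
  have ha : a ∈ φ.range := ⟨Multiplicative.ofAdd (1, 0, 0), by
    show a ^ (1 : ZMod (p ^ 2)).val * (b ^ (0 : ZMod p).val * c ^ (0 : ZMod p).val) = a
    simp [h1v]⟩
  have hb : b ∈ φ.range := ⟨Multiplicative.ofAdd (0, 1, 0), by
    show a ^ (0 : ZMod (p ^ 2)).val * (b ^ (1 : ZMod p).val * c ^ (0 : ZMod p).val) = b
    simp [h1w]⟩
  have hc : c ∈ φ.range := ⟨Multiplicative.ofAdd (0, 0, 1), by
    show a ^ (0 : ZMod (p ^ 2)).val * (b ^ (0 : ZMod p).val * c ^ (1 : ZMod p).val) = c
    simp [h1w]⟩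
  have hker : T ⊔ Subgroup.zpowers b ⊔ Subgroup.zpowers c = f.ker := by
    refine Subgroup.eq_of_le_of_card_ge (sup_le (sup_le (Subgroup.zpowers_le.2 hapK)
      (Subgroup.zpowers_le.2 hbK)) (Subgroup.zpowers_le.2 hcK)) ?_
    rw [PGroup.card_sup_zpowers _ hcT (by rw [show c ^ p = 1 from hcK]; exact one_mem _), hTb, hK,
      pow_succ]
  have hKr : f.ker ≤ φ.range := hker ▸ sup_le (sup_le (Subgroup.zpowers_le.2 (pow_mem ha p))
    (Subgroup.zpowers_le.2 hb)) (Subgroup.zpowers_le.2 hc)
  have htop : φ.range = ⊤ := by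
    have hlt : f.ker < φ.range := lt_of_le_of_ne hKr fun h => haK (h ▸ ha)
    have h1 := PGroup.mul_card_le_card hP hlt
    rw [hK, ← pow_succ'] at h1
    exact Subgroup.eq_top_of_le_card _ (by rwa [hcard])
  exact ⟨(MulEquiv.ofBijective φ ((Nat.bijective_iff_surjective_and_card φ).mpr
    ⟨MonoidHom.range_eq_top.1 htop, by
      rw [Nat.card_congr Multiplicative.toAdd, Nat.card_prod, Nat.card_prod, Nat.card_zmod,
        Nat.card_zmod, hcard]; ring⟩)).symm⟩


/-- Let F be a saturated fusion system over a finite p-group S and H an essential subgroup of order p⁴. Then H is isomorphic to one of: C_p⁴ or C_{p²} × C_p × C_p (any p); C_{p²} × C_{p²} with p ∈ {2, 3}; p^{1+2}_+ × C_p with p odd (the direct product of an extraspecial group of order p³ and exponent p with a group of order p); Q₈ × C₂ (p = 2); or the non-abelian group of order p⁴ of exponent p² whose centre is cyclic of order p² (the central product of an extraspecial group of order p³ with a cyclic group of order p²;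 for p = 2 this is D₈ ∘ C₄). -/
theorem result {Ω : Type u} [Group Ω] {S : Subgroup Ω} [Finite S] (p : ℕ) [Fact p.Prime] (hS : IsPGroup p S)
    (F : Cfsg.FusionSystem S) (hF : F.IsSaturated p) (H : Subgroup Ω) (hH : F.IsEssential p H) (hcard : Nat.card H = p ^ 4) :
    Cfsg.IsElementaryAbelian p H ∨
      Nonempty (↥H ≃* Multiplicative (ZMod (p ^ 2) × ZMod p × ZMod p)) ∨
      ((p = 2 ∨ p = 3) ∧ Nonempty (↥H ≃* Multiplicative (ZMod (p ^ 2) × ZMod (p ^ 2)))) ∨
      (Odd p ∧ ∃ (E : Type) (_ : Group E) (_ : Finite E), Cfsg.IsExtraspecial p E ∧ Nat.card E = p ^ 3 ∧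
        (∀ x : E, x ^ p = 1) ∧ Nonempty (↥H ≃* E × Multiplicative (ZMod p))) ∨
      (p = 2 ∧ Nonempty (↥H ≃* QuaternionGroup 2 × Multiplicative (ZMod 2))) ∨
      (¬ IsMulCommutative ↥H ∧ (∀ x ∈ H, x ^ (p ^ 2) = 1) ∧ IsCyclic ↥(Subgroup.center ↥H) ∧
        Nat.card (Subgroup.center ↥H) = p ^ 2) := by
  have hp : p.Prime := Fact.out
  have hHS := hH.2.1.1
  have := Fusion.finite_of_le (Ω := Ω) hHS
  have hP : IsPGroup p H := IsPGroup.of_card hcard
  by_cases hab : IsMulCommutative H
  · let _ : CommGroup H := { mul_comm := hab.is_comm.comm }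
    set f : H →* H := powMonoidHom p with hf
    have hRF : f.range ≤ frattini H := by
      rintro _ ⟨x, rfl⟩
      exact PGroup.pow_mem_frattini hP x
    obtain ⟨r, hr⟩ := PGroup.card_eq_pow hP f.range
    rcases (show r = 0 ∨ r = 1 ∨ 2 ≤ r by omega) with rfl | rfl | h2
    · refine Or.inl ⟨hab, fun a ha => ?_⟩
      have h1 : f.range = ⊥ := Subgroup.card_eq_one.1 (by rw [hr, pow_zero])
      have h2 : f ⟨a, ha⟩ = 1 := Subgroup.mem_bot.1 (h1.le ⟨⟨a, ha⟩, rfl⟩)
      have h3 : (((⟨a, ha⟩ : H) ^ p : H) : Ω) = ((1 : H) : Ω) := congrArg Subtype.val h2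
      simpa using h3
    · exact Or.inr (Or.inl (nonempty_triple hcard (by rw [← hf, hr, pow_one])))
    · have hidx : (frattini H).index ≤ p ^ 2 := by
        refine (Nat.le_of_dvd (Nat.pos_of_ne_zero Subgroup.index_ne_zero_of_finite)
          (Subgroup.index_dvd_of_le hRF)).trans ?_
        refine Nat.le_of_mul_le_mul_left ?_ (pow_pos hp.pos 2)
        have h1 := f.range.card_mul_index
        rw [hr, hcard] at h1
        calc p ^ 2 * f.range.index ≤ p ^ r * f.range.index :=
              Nat.mul_le_mul_right _ (Nat.pow_le_pow_right hp.pos h2)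
          _ = p ^ 2 * p ^ 2 := by rw [h1, ← pow_add]
      rcases S5187.result p hS F hF H hH hab hidx with ⟨-, hc⟩ | ⟨hp3, k, ⟨e⟩⟩
      · rw [hcard] at hc
        exact absurd (Nat.pow_right_injective hp.two_le hc) (by norm_num)
      · have h1 := Nat.card_congr e.toEquiv
        rw [hcard, Nat.card_congr Multiplicative.toAdd, Nat.card_prod, Nat.card_zmod, ← pow_add] at h1
        obtain rfl : k = 2 := by have := Nat.pow_right_injective hp.two_le h1; omega
        refine Or.inr (Or.inr (Or.inl ⟨?_, ⟨e⟩⟩))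
        interval_cases p
        all_goals first | exact Or.inl rfl | exact Or.inr rfl | exact absurd hp (by norm_num)
  · have hno : EssP4.NoChain p H := by
      intro A B K hA hB hK hAB hBK iA iB iK
      refine false_of_chain hS hH
        (fun i => match i with | 0 => ⊥ | 1 => A | 2 => B | 3 => K | _ => ⊤) 4 rfl rfl ?_ ?_ ?_
      · intro i hi
        interval_cases i
        · exact bot_le
        · exact hAB
        · exact hBK
        · exact le_top
      · intro i hi
        interval_cases i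
        · show Nat.card A ≤ p * Nat.card (⊥ : Subgroup H)
          simp [hA]
        · show Nat.card B ≤ p * Nat.card A
          rw [hA, hB, pow_two]
        · show Nat.card K ≤ p * Nat.card B
          rw [hB, hK, pow_succ']
        · show Nat.card (⊤ : Subgroup H) ≤ p * Nat.card K
          rw [Subgroup.card_top, hcard, hK, pow_succ' p 3]
      · intro i hi α _ x hx
        interval_cases i
        · simp_all
        · exact iA α x hx
        · exact iB α x hx
        · exact iK α x hx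
        · trivial
    rcases EssP4.nonabelian_cases hcard hab hno with h | h | ⟨h1, h2, h3⟩
    · exact Or.inr (Or.inr (Or.inr (Or.inl h)))
    · exact Or.inr (Or.inr (Or.inr (Or.inr (Or.inl h))))
    · exact Or.inr (Or.inr (Or.inr (Or.inr (Or.inr
        ⟨hab, fun x hx => congrArg Subtype.val (h1 ⟨x, hx⟩), h2, h3⟩))))

end Cfsg.Agent.S5188
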