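import Cfsg.Statements.S5192
import Cfsg.Agent.Lib.Fusion.Yoshida

set_option autoImplicit false
open Cfsg

namespace Cfsg.Agent.S5192

theorem eq_of_ne_one : ∀ c d : Multiplicative (ZMod 2), c ≠ 1 → d ≠ 1 → c = d := by decide

/-- A Thompson-type transfer for saturated fusion systems. Let F be a saturated fusion system on a finite 2-group S, T a subgroup of S of index 2, and i an involution of S such that every fully normalized F-conjugate of i lies in S but outside T. Then i does not lie in the hyperfocal subgroup of F (the Sylow group of the 2-residual subsystem). -/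
theorem result {Ω : Type*} [Group Ω] [Finite Ω] {S : Subgroup Ω}
    (hS : IsPGroup 2 ↥S) (F : Cfsg.FusionSystem S) (hF : F.IsSaturated 2)
    (T : Subgroup Ω) (hTS : T ≤ S) (hT : T.relIndex S = 2)
    (i : Ω) (hi : i ∈ S) (hi2 : orderOf i = 2)
    (h : ∀ j : Ω, F.IsConjElt i j → F.IsFullyNormalized (Subgroup.zpowers j) → j ∉ T) :
    i ∉ F.hyperfocalSubgroup 2 := by
  classical
  have : Fact (Nat.Prime 2) := ⟨Nat.prime_two⟩
  -- a fully normalized conjugate `j`
  have hzi : Subgroup.zpowers i ≤ S := Subgroup.zpowers_le.2 hi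
  obtain ⟨Q, hiQ, hQ⟩ := Fusion.exists_fullyNormalized F hzi
  obtain ⟨φ₀, hφ₀, hr₀⟩ := hiQ
  set j : Ω := φ₀ ⟨i, Subgroup.mem_zpowers i⟩ with hjdef
  have hzj : ∀ (R : Subgroup Ω) (ψ : R →* Ω) (x : Ω) (hx : x ∈ R),
      (Subgroup.zpowers x).subgroupOf R ≤ (Subgroup.zpowers (ψ ⟨x, hx⟩)).comap ψ := by
    rintro R ψ x hx ⟨y, hy⟩ ⟨n, hn⟩
    exact ⟨n, (map_zpow ψ ⟨x, hx⟩ n).symm.trans (congrArg ψ (Subtype.ext hn))⟩
  have hQj : Q = Subgroup.zpowers j := by
    refine le_antisymm ?_ (Subgroup.zpowers_le.2 (hr₀ ▸ ⟨_, rfl⟩))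
    rw [← hr₀]
    rintro _ ⟨x, rfl⟩
    exact hzj _ φ₀ i (Subgroup.mem_zpowers i) (show x ∈ (Subgroup.zpowers i).subgroupOf _ from x.2)
  rw [hQj] at hQ
  have hjT : j ∉ T := h j ⟨φ₀, hφ₀, rfl⟩ hQ
  have hj2 : orderOf j = 2 := by
    rw [hjdef, orderOf_injective φ₀ (F.injective_of_mem hφ₀), ← Subgroup.orderOf_coe]
    exact hi2
  have hjS : j ∈ S := Fusion.apply_mem hφ₀ _
  -- the homomorphism with kernel `T`
  obtain ⟨θ, -, hθ⟩ := Fusion.Yoshida.exists_hom_ker_eq hS
    (PGroup.isCoatom_of_index_eq (M := T.subgroupOf S) hT)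
  have hexp : ∀ c : Fusion.Yoshida.C 2, c ^ 2 = 1 := fun c => by
    simpa [Fusion.Yoshida.card_C 2] using pow_card_eq_one' (x := c)
  have hθout : ∀ (x : Ω) (hx : x ∈ S), x ∉ T → θ ⟨x, hx⟩ ≠ 1 := by
    intro x hx hxT h1
    have h2 : (⟨x, hx⟩ : S) ∈ T.subgroupOf S := hθ ▸ MonoidHom.mem_ker.2 h1
    exact hxT h2
  have huniq : ∀ c d : Fusion.Yoshida.C 2, c ≠ 1 → d ≠ 1 → c = d := eq_of_ne_one
  obtain ⟨D⟩ := Fusion.exists_transferData hS hF θ
  -- the transfer of `j`
  have hjN : j ∈ FusionSystem.normalizerIn S (Subgroup.zpowers j) :=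
    Fusion.le_normalizerIn (Subgroup.zpowers_le.2 hjS) (Subgroup.mem_zpowers j)
  have hcomm : ∀ (x : Ω), orderOf x = 2 → ∀ g ∈ FusionSystem.normalizerIn S (Subgroup.zpowers x),
      g * x * g⁻¹ = x := by
    intro x hx g hg
    have h1 := (Subgroup.mem_normalizer_iff.1 hg.2 x).1 (Subgroup.mem_zpowers x)
    obtain ⟨n, hn⟩ := h1
    have hn' : x ^ n = g * x * g⁻¹ := hn
    rcases Int.even_or_odd n with ⟨m, hm⟩ | ⟨m, hm⟩
    · exfalso
      have : g * x * g⁻¹ = 1 := by
        rw [← hn', hm, ← two_mul, zpow_mul]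
        simp [← hx, pow_orderOf_eq_one]
      rw [conj_eq_one_iff] at this
      rw [this, orderOf_one] at hx
      exact absurd hx (by norm_num)
    · rw [← hn', hm, zpow_add, zpow_mul]
      simp [← hx, pow_orderOf_eq_one]
  let K : Subgroup S := (FusionSystem.normalizerIn S (Subgroup.zpowers j)).subgroupOf S
  let : MulAction K D.Y := MulAction.compHom D.Y (D.perm.comp K.subtype)
  have hsm : ∀ (a : K) (y : D.Y), a • y = D.perm (a : S) y := fun a y => rfl
  let cl : D.Y → Quotient (MulAction.orbitRel K D.Y) := fun y => Quotient.mk _ y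
  set a : S := ⟨j, hjS⟩ with ha
  have haK : ∀ b : K, (b : S) * a = a * b := by
    intro b
    refine Subtype.ext ?_
    have := hcomm j hj2 _ b.2
    exact mul_inv_eq_iff_eq_mul.1 this
  have ha2 : a ^ 2 = 1 := Subtype.ext (by
    show j ^ 2 = 1
    rw [← hj2, pow_orderOf_eq_one])
  have htr : D.tr a = θ a := by
    have h1 : D.tr a = θ a ^ Fintype.card D.Y := by
      rw [D.tr_eq, ← Finset.card_univ, ← Finset.prod_const]
      refine Eq.trans (Finset.prod_fiberwise Finset.univ cl _).symm ?_
      refine Eq.trans ?_ (Finset.prod_fiberwise Finset.univ cl _)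
      refine Finset.prod_congr rfl fun q _ => ?_
      induction q using Quotient.inductionOn with
      | h y₀ =>
        set O := Finset.univ.filter fun y => cl y = cl y₀ with hO
        show ∏ y ∈ O, D.disc a y = ∏ y ∈ O, θ a
        have hmem : ∀ y, y ∈ O ↔ y ∈ MulAction.orbit K y₀ := fun y => by
          simp only [hO, Finset.mem_filter, Finset.mem_univ, true_and]
          exact ⟨fun h => Quotient.exact h, fun h => Quotient.sound h⟩
        by_cases hfix : ∀ b : K, b • y₀ = y₀
        · have hsing : O = {y₀} := by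
            ext y
            rw [hmem, Finset.mem_singleton]
            exact ⟨fun ⟨b, hb⟩ => hb.symm.trans (hfix b), fun h => h ▸ MulAction.mem_orbit_self _⟩
          rw [hsing, Finset.prod_singleton, Finset.prod_singleton]
          obtain ⟨R, ψ, hψ, hR⟩ := D.fixed y₀
          have hNR : FusionSystem.normalizerIn S (Subgroup.zpowers j) ≤ R := fun g hg =>
            (hR ⟨g, hg.1⟩).1.1 (hfix ⟨⟨g, hg.1⟩, hg⟩)
          have hjR : j ∈ R := hNR hjN
          rw [(hR a).2 hjR]
          set k : Ω := ψ ⟨j, hjR⟩ with hk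
          have hk2 : orderOf k = 2 := by
            rw [hk, orderOf_injective ψ (F.injective_of_mem hψ), ← Subgroup.orderOf_coe]
            exact hj2
          -- `j` and `k` are conjugate and `k` is fully normalized
          have hres := Fusion.restrict_mem hψ (Subgroup.zpowers_le.2 hjR)
          have hrk : (ψ.comp (Subgroup.inclusion (Subgroup.zpowers_le.2 hjR))).range =
              Subgroup.zpowers k := by
            refine le_antisymm ?_ (Subgroup.zpowers_le.2 ⟨⟨j, Subgroup.mem_zpowers j⟩, rfl⟩)
            rintro _ ⟨x, rfl⟩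
            exact hzj R ψ j hjR (show Subgroup.inclusion (Subgroup.zpowers_le.2 hjR) x ∈
              (Subgroup.zpowers j).subgroupOf R from x.2)
          have hjk : F.IsConj (Subgroup.zpowers j) (Subgroup.zpowers k) := ⟨_, hres, hrk⟩
          have hcard : Nat.card (FusionSystem.normalizerIn S (Subgroup.zpowers j)) ≤
              Nat.card (FusionSystem.normalizerIn S (Subgroup.zpowers k)) := by
            refine Nat.card_le_card_of_injective (fun g =>
              ⟨ψ ⟨g, hNR g.2⟩, Fusion.apply_mem hψ _, ?_⟩) fun g g' hgg => ?_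
            · have hc : ψ ⟨g, hNR g.2⟩ * k * (ψ ⟨g, hNR g.2⟩)⁻¹ = k := by
                rw [hk, ← map_inv, ← map_mul, ← map_mul]
                exact congrArg ψ (Subtype.ext (hcomm j hj2 g g.2))
              refine Subgroup.mem_normalizer_iff.2 fun z => ?_
              have : ∀ n : ℤ, ψ ⟨g, hNR g.2⟩ * k ^ n * (ψ ⟨g, hNR g.2⟩)⁻¹ = k ^ n := fun n => by
                rw [← conj_zpow, hc]
              constructor
              · rintro ⟨n, rfl⟩
                exact ⟨n, (this n).symm⟩
              · rintro ⟨n, hn⟩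
                refine ⟨n, ?_⟩
                have hn' : k ^ n = ψ ⟨g, hNR g.2⟩ * z * (ψ ⟨g, hNR g.2⟩)⁻¹ := hn
                have := (this n).trans hn'
                exact mul_left_cancel (mul_right_cancel this)
            · exact Subtype.ext (congrArg Subtype.val
                (F.injective_of_mem hψ (congrArg Subtype.val hgg) : (⟨g, _⟩ : R) = ⟨g', _⟩) :)
          have hkFN : F.IsFullyNormalized (Subgroup.zpowers k) :=
            ⟨(Fusion.isConj_le hjk).2, fun R' hR' =>
              (hQ.2 R' (Fusion.isConj_trans hjk hR')).trans hcard⟩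
          have hik : F.IsConjElt i k := by
            have hh : ∀ x : Subgroup.zpowers i, φ₀ x ∈ Subgroup.zpowers j := fun x =>
              hQj ▸ hr₀ ▸ ⟨x, rfl⟩
            exact ⟨_, F.comp_mem hφ₀ hres hh, rfl⟩
          exact huniq _ _ (hθout k (Fusion.apply_mem hψ _) (h k hik hkFN)) (hθout j hjS hjT)
        · have heven : 2 ∣ O.card := by
            have h1 : O = (MulAction.orbit K y₀).toFinset := by
              ext y
              rw [hmem, Set.mem_toFinset]
            have hK : IsPGroup 2 K := hS.to_subgroup K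
            obtain ⟨n, hn⟩ := hK.card_orbit y₀
            rw [h1, Set.toFinset_card, ← Nat.card_eq_fintype_card, hn]
            refine dvd_pow_self 2 fun h0 => hfix fun b => ?_
            rw [h0, pow_zero, Nat.card_eq_one_iff_unique] at hn
            exact congrArg Subtype.val (hn.1.elim (⟨b • y₀, MulAction.mem_orbit _ _⟩ :
              MulAction.orbit K y₀) ⟨y₀, MulAction.mem_orbit_self _⟩)
          rw [Finset.prod_const, show θ a ^ O.card = 1 by
            obtain ⟨d, hd⟩ := heven
            rw [hd, pow_mul, hexp, one_pow]]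
          have hperm : ∀ (b : K) (y : D.Y), D.perm a (b • y) = b • D.perm a y := fun b y => by
            show D.perm a (D.perm b y) = D.perm b (D.perm a y)
            rw [← Equiv.Perm.mul_apply, ← map_mul, ← haK, map_mul]
            rfl
          by_cases hmove : D.perm a y₀ = y₀
          · have hfixO : ∀ y ∈ O, D.perm a y = y ∧ D.disc a y = D.disc a y₀ := by
              intro y hy
              obtain ⟨b, rfl⟩ := (hmem y).1 hy
              refine ⟨(hperm b y₀).trans (congrArg _ hmove), ?_⟩
              have h2 := D.disc_mul a b y₀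
              rw [← haK, D.disc_mul (b : S) a y₀, hmove, mul_comm] at h2
              exact (mul_left_cancel h2).symm
            rw [Finset.prod_congr rfl fun y hy => (hfixO y hy).2, Finset.prod_const]
            obtain ⟨d, hd⟩ := heven
            rw [hd, pow_mul, hexp, one_pow]
          · have hinv : ∀ y, D.perm a (D.perm a y) = y := fun y => by
              rw [← Equiv.Perm.mul_apply, ← map_mul, ← pow_two, ha2, map_one]
              rfl
            refine Finset.prod_involution (fun y _ => D.perm a y) (fun y _ => ?_) (fun y hy _ => ?_)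
              (fun y hy => ?_) (fun y _ => hinv y)
            · have h2 := D.disc_pow a y 2
              rw [ha2, Finset.prod_range_succ, Finset.prod_range_one, pow_zero, pow_one] at h2
              have h3 := D.disc_mul 1 1 y
              rw [one_mul, map_one] at h3
              exact h2.trans (mul_eq_left.1 h3.symm)
            · obtain ⟨b, rfl⟩ := (hmem y).1 hy
              rw [hperm]
              exact fun h => hmove (smul_left_cancel b h)
            · rw [hmem] at hy ⊢
              have hj : D.perm a y = (⟨a, hjN⟩ : K) • y := rfl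
              rw [hj]
              obtain ⟨b, rfl⟩ := hy
              exact ⟨⟨a, hjN⟩ * b, mul_smul _ _ _⟩
    obtain ⟨d, hd⟩ : Odd (Fintype.card D.Y) :=
      Nat.odd_iff.2 (by have := D.not_dvd_card; omega)
    rw [h1, hd, pow_succ, pow_mul, hexp, one_pow, one_mul]
  intro hih
  have h1 := D.stable _ φ₀ hφ₀ ⟨i, Subgroup.mem_zpowers i⟩
  have h2 := D.tr_focal hi (Fusion.hyperfocal_le_focal F 2 hih)
  exact hθout j hjS hjT (htr.symm.trans (h1.trans h2))

end Cfsg.Agent.S5192
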