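import Cfsg.Statements.S5193
import Cfsg.Agent.S2799
import Cfsg.Agent.Lib.Fusion.ModelWitness
import Cfsg.Agent.Lib.Fusion.CenterControl
-- import your own Cfsg.Agent.* helpers here

set_option autoImplicit false
open Cfsg

namespace Cfsg.Agent.S5193

/-- Glauberman's Theorem for fusion systems. Let F be a saturated fusion system over a finite p-group S, let J(S) be the subgroup generated by the abelian subgroups of S of largest order, and let N be the normalizer fusion system of J(S) in F (a fusion system over N_S(J(S)) = S). Then every p-th power of an element of Z(S) that lies in the centre of N lies in the centre of F; and if p is odd, or if the symmetric group of degree 4 is not involved in any model of the normalizer system of a fully normalized F-centric subgroup (F is S₄-free), then the centre of N equals the centre of F. -/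
theorem result {Ω : Type*} [Group Ω] {S : Subgroup Ω} [Finite S] (p : ℕ) [Fact p.Prime] (hS : IsPGroup p S) (F : Cfsg.FusionSystem S) (hF : F.IsSaturated p) (N : Cfsg.FusionSystem (Cfsg.FusionSystem.normalizerIn S (Cfsg.thompsonSubgroupAOf S))) (hN : F.IsNormalizerSystem (Cfsg.thompsonSubgroupAOf S) N) : Subgroup.closure ((fun z : Ω => z ^ p) '' ((S ⊓ Subgroup.centralizer (S : Set Ω) : Subgroup Ω) : Set Ω)) ⊓ N.center ≤ F.center ∧ (p ≠ 2 ∨ F.IsSectionFree p (Equiv.Perm (Fin 4)) → N.center = F.center) := by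
  have hJle : ∀ T ≤ S, Cfsg.thompsonSubgroupAOf T ≤ T := fun T _ => Subgroup.map_subtype_le _
  have hJn : ∀ T ≤ S, Cfsg.FusionSystem.normalizerIn S T ≤
      Subgroup.normalizer (Cfsg.thompsonSubgroupAOf T : Set Ω) :=
    fun T _ => inf_le_right.trans (Agent.PGroup.normalizer_le_normalizer_thompsonAOf T)
  have hn : S ≤ Subgroup.normalizer (Cfsg.thompsonSubgroupAOf S : Set Ω) :=
    Agent.Fusion.le_normalizer_thompsonSubgroupAOf S
  have hJZ : ∀ T ≤ S, T ⊓ Subgroup.centralizer (T : Set Ω) ≤ Cfsg.thompsonSubgroupAOf T := by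
    rintro T hT y ⟨hy, hyc⟩
    have := Agent.Fusion.finite_of_le hT
    have h1 := Agent.WeakClosure.center_le_thompsonA (⊤ : Subgroup ↥T) (x := ⟨y, hy⟩)
      ⟨trivial, Subgroup.mem_centralizer_iff.2 fun t _ =>
        Subtype.ext (Subgroup.mem_centralizer_iff.1 hyc t t.2)⟩
    rw [Agent.PGroup.thompsonSubgroupAOf_top] at h1
    exact ⟨_, h1, rfl⟩
  have hfix := fun (x : Ω) (hx : x ∈ N.center) =>
    Agent.Fusion.CenterControl.fixed_of_mem_center (hJle S le_rfl) hn hN (hJZ S le_rfl) hx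
  have key : ∀ x ∈ N.center,
      (p ≠ 2 ∨ (∃ z ∈ S ⊓ Subgroup.centralizer (S : Set Ω), z ^ p = x) ∨
        F.IsSectionFree p (Equiv.Perm (Fin 4))) → x ∈ F.center := by
    intro x hx hcase
    obtain ⟨hxS, hxc, hbase⟩ := hfix x hx
    refine Agent.Fusion.CenterControl.mem_center hS hF hJle hJn hxS hxc
      (fun T hT hxT => hJZ T hT ⟨hxT, Subgroup.mem_centralizer_iff.2 fun t ht => hxc t (hT ht)⟩)
      ?_ hbase
    intro R hRn hRc hxR M hM L _ ι hL hxT hloc g
    obtain ⟨hfin, hι, ⟨T₀, hT₀⟩, -⟩ := id hL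
    have hTp : IsPGroup p ↥(Cfsg.FusionSystem.normalizerIn S R) :=
      hS.to_le (Agent.Fusion.normalizerIn_le S R)
    have hxT₀ : ι ⟨x, hxT⟩ ∈ (T₀ : Subgroup L) := hT₀ ▸ ⟨_, rfl⟩
    have hJ : Agent.Fusion.pushSub ι (Cfsg.thompsonSubgroupAOf (Cfsg.FusionSystem.normalizerIn S R)) =
        Cfsg.thompsonSubgroupAOf (T₀ : Subgroup L) := by
      rw [hT₀]; exact Agent.Fusion.pushSub_thompsonA hι.1
    rw [hJ] at hloc
    have hxJ : ι ⟨x, hxT⟩ ∈ Cfsg.thompsonSubgroupAOf (T₀ : Subgroup L) := by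
      refine Agent.WeakClosure.center_le_thompsonA _ ⟨hxT₀, Subgroup.mem_centralizer_iff.2 ?_⟩
      intro t ht
      obtain ⟨s, rfl⟩ : t ∈ ι.range := hT₀ ▸ ht
      rw [← map_mul, ← map_mul]
      exact congrArg ι (Subtype.ext (hxc s (Agent.Fusion.normalizerIn_le S R s.2)))
    have hO : ι ⟨x, hxT⟩ ∈ Cfsg.pCore p L := Agent.Fusion.Model.pushSub_le_pCore hTp hL
      (Agent.Fusion.ModelEmbed.isNormal_of_isNormalizerSystem hM hRc.1) ⟨_, hxR, rfl⟩
    have hw := Agent.S2799.result T₀ (ι ⟨x, hxT⟩) hxT₀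
      ⟨⟨_, Subgroup.le_normalizer hxJ⟩,
        Subgroup.mem_center_iff.2 fun u => Subtype.ext (hloc _ u.2), rfl⟩ ?_ g
      (hT₀.symm ▸ Agent.Fusion.Model.pCore_le_range hL
        ((inferInstance : (Cfsg.pCore p L).Normal).conj_mem _ hO g))
    · calc g * ι ⟨x, hxT⟩ = g * ι ⟨x, hxT⟩ * g⁻¹ * g := by group
        _ = ι ⟨x, hxT⟩ * g := by rw [hw]
    · rcases hcase with h | ⟨z, ⟨hzS, hzc⟩, hzx⟩ | h
      · exact Or.inl h
      · have hzR : z ∈ R := hRc.2 R (Agent.Fusion.isConj_refl F hRc.1)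
          (Agent.Fusion.mem_centralizerIn.2
            ⟨hzS, fun y hy => Subgroup.mem_centralizer_iff.1 hzc y (hRc.1 hy)⟩)
        refine Or.inr (Or.inl ⟨ι ⟨z, Agent.Fusion.le_normalizerIn hRc.1 hzR⟩,
          ⟨hT₀ ▸ ⟨_, rfl⟩, Subgroup.mem_centralizer_iff.2 fun t ht => ?_⟩, ?_⟩)
        · obtain ⟨s, rfl⟩ : t ∈ ι.range := hT₀ ▸ ht
          rw [← map_mul, ← map_mul]
          exact congrArg ι (Subtype.ext
            (Subgroup.mem_centralizer_iff.1 hzc s (Agent.Fusion.normalizerIn_le S R s.2)))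
        · rw [← map_pow]
          exact congrArg ι (Subtype.ext hzx)
      · exact Or.inr (Or.inr (h R hRn hRc M hM L ι hL))
  refine ⟨?_, fun h => le_antisymm (fun x hx => key x hx ?_)
    (Agent.Fusion.CenterControl.center_le (hJle S le_rfl) hn hN)⟩
  · rintro x ⟨hx1, hx2⟩
    refine key x hx2 (Or.inr (Or.inl ?_))
    clear hx2
    induction hx1 using Subgroup.closure_induction with
    | mem y hy =>
      obtain ⟨z, hz, rfl⟩ := hy
      exact ⟨z, hz, rfl⟩
    | one => exact ⟨1, one_mem _, one_pow p⟩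
    | mul a b _ _ iha ihb =>
      obtain ⟨u, hu, rfl⟩ := iha
      obtain ⟨v, hv, rfl⟩ := ihb
      exact ⟨u * v, mul_mem hu hv,
        Commute.mul_pow (Subgroup.mem_centralizer_iff.1 hv.2 u hu.1) p⟩
    | inv a _ iha =>
      obtain ⟨u, hu, rfl⟩ := iha
      exact ⟨u⁻¹, inv_mem hu, inv_pow u p⟩
  · rcases h with h | h
    · exact Or.inl h
    · exact Or.inr (Or.inr h)

end Cfsg.Agent.S5193
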