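import Cfsg.Statements.S5194
import Cfsg.Agent.Lib.Fusion.ConstrainedSubsystem
import Cfsg.Agent.Lib.Fusion.SectionFreeTame
-- import your own Cfsg.Agent.* helpers here

set_option autoImplicit false
open Cfsg

namespace Cfsg.Agent.S5194

/-- Thompson's normal p-complement Theorem for fusion systems. Let F be a saturated fusion system over a finite p-group S such that p is odd or F is S₄-free (the symmetric group of degree 4 is not involved in any model of the normalizer system of a fully normalized F-centric subgroup), and let J(S) be the subgroup generated by the abelian subgroups of S of largest order. If the centralizer fusion system of Z(S) in F is the inner fusion system of C_S(Z(S)) = S and the normalizer fusion system of J(S) in F is the inner fusion system of N_S(J(S)) = S, then F is the inner fusion system of S. -/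
theorem result {Ω : Type*} [Group Ω] {S : Subgroup Ω} [Finite S] (p : ℕ) [Fact p.Prime] (hS : IsPGroup p S) (F : Cfsg.FusionSystem S) (hF : F.IsSaturated p) (hp : p ≠ 2 ∨ F.IsSectionFree p (Equiv.Perm (Fin 4))) (hC : ∀ C : Cfsg.FusionSystem (Cfsg.FusionSystem.centralizerIn S (S ⊓ Subgroup.centralizer (S : Set Ω))), F.IsCentralizerSystem (S ⊓ Subgroup.centralizer (S : Set Ω)) C → ∀ P : Subgroup Ω, C.Hom P = (Cfsg.innerFusionSystem (Cfsg.FusionSystem.centralizerIn S (S ⊓ Subgroup.centralizer (S : Set Ω)))).Hom P) (hN : ∀ N : Cfsg.FusionSystem (Cfsg.FusionSystem.normalizerIn S (Cfsg.thompsonSubgroupAOf S)), F.IsNormalizerSystem (Cfsg.thompsonSubgroupAOf S) N → ∀ P : Subgroup Ω, N.Hom P = (Cfsg.innerFusionSystem (Cfsg.FusionSystem.normalizerIn S (Cfsg.thompsonSubgroupAOf S))).Hom P) : ∀ P : Subgroup Ω, F.Hom P = (Cfsg.innerFusionSystem S).Hom P := by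
  refine (Fusion.isInnerType_iff hS hF).1 ?_
  by_contra hne
  rcases Fusion.moves_of_not_isInnerType hS hF (Fusion.isTame_of_sectionFree hS hF hp) hne with
    h | h
  · have hNs := Fusion.normalizerSystem_spec F _ (Fusion.thompsonSubgroupAOf_le' S)
    refine h.not_isInnerType (Fusion.le_normalizer_thompsonSubgroupAOf S) rfl hNs fun P hP => ?_
    refine (Fusion.isPGroup_autInducedBy (hS.to_le (Fusion.normalizerIn_le S (Cfsg.thompsonSubgroupAOf S))) P).to_le
      fun α hα => ?_
    have hm := (Fusion.mem_autGroup_iff hP).1 hα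
    rw [hN _ hNs P] at hm
    obtain ⟨-, g, hg, hx⟩ := hm
    exact Fusion.mem_autInducedBy_iff.2 ⟨g, hg, hx⟩
  · have hCs := Fusion.centralizerSystem_spec F (S ⊓ Subgroup.centralizer (S : Set Ω)) inf_le_left
    refine h.not_isInnerType (Fusion.le_centralizer_center S) rfl hCs fun P hP => ?_
    refine (Fusion.isPGroup_autInducedBy (hS.to_le (Fusion.centralizerIn_le S (S ⊓ Subgroup.centralizer (S : Set Ω)))) P).to_le
      fun α hα => ?_
    have hm := (Fusion.mem_autGroup_iff hP).1 hα
    rw [hC _ hCs P] at hm
    obtain ⟨-, g, hg, hx⟩ := hm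
    exact Fusion.mem_autInducedBy_iff.2 ⟨g, hg, hx⟩

end Cfsg.Agent.S5194
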