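import Cfsg.Statements.S5196
import Cfsg.Agent.Lib.Fusion.CenterControl
-- import your own Cfsg.Agent.* helpers here

set_option autoImplicit false
universe u
open Cfsg

namespace Cfsg.Agent.S5196

/-- Let p be an odd prime and W a positive characteristic p-functor: W assigns to every finite p-group Q (in a fixed universe) a subgroup W(Q), nontrivial when Q is, carried to W(R) by every isomorphism Q ≅ R; assume also Z(Q) ≤ W(Q) for every finite p-group Q. Suppose W satisfies the local condition: for every finite group G with Sylow p-subgroup P, O_p(G) ∩ Z(G) = O_p(G) ∩ Z(N_G(W(P))). Then W controls weak closure of elements in every saturated fusion system F over a finite p-group S: the centre of the normalizer fusion system of W(S) in F equals the centre of F. (For p = 2 no functor satisfies the local condition, so p is taken odd.) -/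
theorem result {p : ℕ} [Fact p.Prime] (hp : p ≠ 2) (W : ∀ (Q : Type u) [Group Q], Subgroup Q) (hW1 : ∀ (Q : Type u) [Group Q] [Finite Q], IsPGroup p Q → Nontrivial Q → W Q ≠ ⊥) (hW2 : ∀ (Q R : Type u) [Group Q] [Group R] [Finite Q], IsPGroup p Q → ∀ φ : Q ≃* R, (W Q).map φ.toMonoidHom = W R) (hWZ : ∀ (Q : Type u) [Group Q] [Finite Q], IsPGroup p Q → Subgroup.center Q ≤ W Q) (hC : ∀ (G : Type u) [Group G] [Finite G] (P : Sylow p G), Cfsg.pCore p G ⊓ Subgroup.center G = Cfsg.pCore p G ⊓ (Subgroup.center ↥(Subgroup.normalizer (((W ↥(P : Subgroup G)).map (P : Subgroup G).subtype : Subgroup G) : Set G))).map (Subgroup.normalizer (((W ↥(P : Subgroup G)).map (P : Subgroup G).subtype : Subgroup G) : Set G)).subtype) {Ω : Type u} [Group Ω] {S : Subgroup Ω} [Finite S] (hS : IsPGroup p S) (F : Cfsg.FusionSystem S) (hF : F.IsSaturated p) (N : Cfsg.FusionSystem (Cfsg.FusionSystem.normalizerIn S ((W ↥S).map S.subtype))) (hN : F.IsNormalizerSystem ((W ↥S).map S.subtype) N)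 : N.center = F.center := by
  classical
  let J : Subgroup Ω → Subgroup Ω := fun T => (W ↥T).map T.subtype
  have hJle : ∀ T ≤ S, J T ≤ T := fun T _ => Subgroup.map_subtype_le _
  have hJn : ∀ T ≤ S, Cfsg.FusionSystem.normalizerIn S T ≤
      Subgroup.normalizer (J T : Set Ω) := by
    intro T hT g hg
    have := Agent.Fusion.finite_of_le hT
    have := Agent.Fusion.finite_of_le ((hJle T hT).trans hT)
    refine Agent.Fusion.ModelEmbed.mem_normalizer_of_finite ?_
    rintro _ ⟨w, hw, rfl⟩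
    refine ⟨Agent.Fusion.conjAut hg.2 w, ?_, rfl⟩
    exact (hW2 ↥T ↥T (hS.to_le hT) (Agent.Fusion.conjAut hg.2)).le ⟨w, hw, rfl⟩
  have hn : S ≤ Subgroup.normalizer (J S : Set Ω) :=
    (le_inf le_rfl Subgroup.le_normalizer).trans (hJn S le_rfl)
  have hJZ : ∀ T ≤ S, T ⊓ Subgroup.centralizer (T : Set Ω) ≤ J T := by
    rintro T hT y ⟨hy, hyc⟩
    have := Agent.Fusion.finite_of_le hT
    refine ⟨⟨y, hy⟩, hWZ ↥T (hS.to_le hT) (Subgroup.mem_center_iff.2 fun t => Subtype.ext
      (Subgroup.mem_centralizer_iff.1 hyc t t.2)), rfl⟩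
  refine le_antisymm (fun x hx => ?_)
    (Agent.Fusion.CenterControl.center_le (hJle S le_rfl) hn hN)
  obtain ⟨hxS, hxc, hbase⟩ :=
    Agent.Fusion.CenterControl.fixed_of_mem_center (hJle S le_rfl) hn hN (hJZ S le_rfl) hx
  refine Agent.Fusion.CenterControl.mem_center hS hF hJle hJn hxS hxc
    (fun T hT hxT => hJZ T hT ⟨hxT, Subgroup.mem_centralizer_iff.2 fun t ht => hxc t (hT ht)⟩)
    ?_ hbase
  intro R hRn hRc hxR M hM L _ ι hL hxT hloc g
  obtain ⟨hfin, hι, ⟨T₀, hT₀⟩, -⟩ := id hL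
  have hTS := Agent.Fusion.normalizerIn_le S R
  have := Agent.Fusion.finite_of_le hTS
  have hTp : IsPGroup p ↥(Cfsg.FusionSystem.normalizerIn S R) := hS.to_le hTS
  let e : ↥(Cfsg.FusionSystem.normalizerIn S R) ≃* ↥(T₀ : Subgroup L) :=
    (MonoidHom.ofInjective hι.1).trans (MulEquiv.subgroupCongr hT₀.symm)
  have hpush : Agent.Fusion.pushSub ι (J (Cfsg.FusionSystem.normalizerIn S R)) =
      (W ↥(T₀ : Subgroup L)).map (T₀ : Subgroup L).subtype := by
    rw [← hW2 _ _ hTp e, Subgroup.map_map, Agent.Fusion.pushSub, Subgroup.subgroupOf,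
      Subgroup.comap_map_eq_self_of_injective (Subgroup.subtype_injective _)]
    rfl
  rw [hpush] at hloc
  have hO : ι ⟨x, hxT⟩ ∈ Cfsg.pCore p L := Agent.Fusion.Model.pushSub_le_pCore hTp hL
    (Agent.Fusion.ModelEmbed.isNormal_of_isNormalizerSystem hM hRc.1) ⟨_, hxR, rfl⟩
  have hxJ : ι ⟨x, hxT⟩ ∈ (W ↥(T₀ : Subgroup L)).map (T₀ : Subgroup L).subtype := by
    rw [← hpush]
    exact ⟨⟨x, hxT⟩, hJZ _ hTS ⟨hxT, Subgroup.mem_centralizer_iff.2 fun t ht => hxc t (hTS ht)⟩,
      rfl⟩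
  have hmem := (hC L T₀).ge ⟨hO, ⟨⟨_, Subgroup.le_normalizer hxJ⟩,
    Subgroup.mem_center_iff.2 fun u => Subtype.ext (hloc _ u.2), rfl⟩⟩
  exact Subgroup.mem_center_iff.1 hmem.2 g

end Cfsg.Agent.S5196
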