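import Cfsg.Statements.S5198
import Cfsg.Agent.Lib.Fusion.StronglyClosedQuotient

set_option autoImplicit false
open Cfsg

namespace Cfsg.Agent.S5198

/-- Let F be a saturated fusion system over a finite p-group S and T a subgroup of S strongly closed in F (so T is normal in S). Then every element x of the hyperfocal subgroup of F acts on T by conjugation as an element of O^p(Aut_F(T))·Inn(T): there is an automorphism of T in the subgroup generated by the elements of Aut_F(T) of order prime to p together with the inner automorphisms of T that agrees with conjugation by x. -/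
theorem result {Ω : Type*} [Group Ω] {S : Subgroup Ω} [Finite S] (p : ℕ) [Fact p.Prime] (hS : IsPGroup p S) (F : Cfsg.FusionSystem S) (hF : F.IsSaturated p) (T : Subgroup Ω) (hT : F.StronglyClosed T) : ∀ x ∈ F.hyperfocalSubgroup p, ∃ α ∈ ((Cfsg.pResidual p ↥(F.autGroup T)).map (F.autGroup T).subtype ⊔ Cfsg.Inn ↥T : Subgroup (MulAut ↥T)), ∀ t : ↥T, ((α t : ↥T) : Ω) = x * (t : Ω) * x⁻¹ := by
  classical
  intro x hx
  have hTS := hT.1
  have := Fusion.finite_autGroup (F := F) hTS
  have hTn := Fusion.le_normalizer_of_stronglyClosed hT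
  let ν : S →* F.autGroup T := MonoidHom.mk'
    (fun g => ⟨Fusion.conjAut (hTn g.2), Fusion.autInducedBy_le_autGroup F hTS
      (Fusion.conjAut_mem_autInducedBy g.2 (hTn g.2))⟩)
    fun g k => Subtype.ext (MulEquiv.ext fun t => Subtype.ext (by
      show ((g : Ω) * k) * (t : Ω) * ((g : Ω) * k)⁻¹ =
        (g : Ω) * ((k : Ω) * t * (k : Ω)⁻¹) * (g : Ω)⁻¹
      group))
  set K₀ : Subgroup (F.autGroup T) :=
    pResidual p (F.autGroup T) ⊔ (Inn T).subgroupOf (F.autGroup T) with hK₀
  have hn1 : (pResidual p (F.autGroup T)).Normal := Transfer.pResidual_normal p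
  have hn2 : ((Inn T).subgroupOf (F.autGroup T)).Normal :=
    (Fusion.inn_normal T).subgroupOf (F.autGroup T)
  have hn : K₀.Normal := Subgroup.sup_normal _ _
  let ψ : S →* F.autGroup T ⧸ K₀ := (QuotientGroup.mk' K₀).comp ν
  have hL : IsPGroup p (F.autGroup T ⧸ K₀) := by
    intro q
    obtain ⟨a, rfl⟩ := QuotientGroup.mk_surjective q
    obtain ⟨k, hk⟩ := Transfer.exists_pow_mem_residual p a
    refine ⟨k, ?_⟩
    rw [← QuotientGroup.mk_pow, QuotientGroup.eq_one_iff]
    exact Subgroup.mem_sup_left hk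
  have hker : ∀ (t : Ω) (ht : t ∈ T), ψ ⟨t, hTS ht⟩ = 1 := fun t ht => by
    refine (QuotientGroup.eq_one_iff _).2 (Subgroup.mem_sup_right (Subgroup.mem_subgroupOf.2 ?_))
    exact ⟨⟨t, ht⟩, MulEquiv.ext fun u => Subtype.ext rfl⟩
  have haut : ∀ (R : Subgroup Ω) (hRS : R ≤ S), T ≤ R → ∀ α ∈ F.autGroup R,
      ∃ l, ∀ y : R, ψ ⟨(α y : R), hRS (α y).2⟩ = l * ψ ⟨y, hRS y.2⟩ * l⁻¹ := by
    intro R hRS hTR α hα
    have hm := (Fusion.mem_autGroup_iff hRS).1 hα
    have hres := Fusion.restrict_mem hm hTR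
    have hr := Fusion.range_eq_of_le hres hTS (fun t => hT.2 T le_rfl _ hres t) le_rfl
    refine ⟨QuotientGroup.mk' K₀ ⟨_, Fusion.toAut_mem hres hr⟩, fun y => ?_⟩
    show QuotientGroup.mk' K₀ (ν _) = _ * QuotientGroup.mk' K₀ (ν _) * _
    rw [← map_inv, ← map_mul, ← map_mul]
    refine congrArg _ (eq_mul_inv_iff_mul_eq.2 (Subtype.ext (MulEquiv.ext fun t => Subtype.ext ?_)))
    show ((α y : R) : Ω) * ((α ⟨t, hTR t.2⟩ : R) : Ω) * ((α y : R) : Ω)⁻¹ =
      ((α ⟨(y : Ω) * t * (y : Ω)⁻¹, _⟩ : R) : Ω)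
    rw [← Subgroup.coe_mul, ← Subgroup.coe_inv, ← Subgroup.coe_mul, ← map_mul, ← map_inv, ← map_mul]
    rfl
  have hle : F.hyperfocalSubgroup p ≤ ψ.ker.map S.subtype := by
    refine (Subgroup.closure_le _).2 ?_
    rintro _ ⟨P, α, y, hP, hα, rfl⟩
    let Z : Subgroup (F.autGroup P) :=
      { carrier := {a | ∀ z : P,
          ψ ⟨((a : MulAut P) z : P), hP ((a : MulAut P) z).2⟩ = ψ ⟨z, hP z.2⟩}
        one_mem' := fun z => rfl
        mul_mem' := fun {a b} ha hb z => (ha ((b : MulAut P) z)).trans (hb z)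
        inv_mem' := fun {a} ha z => by
          refine (ha ((a : MulAut P)⁻¹ z)).symm.trans ?_
          congr 1
          exact Subtype.ext (by rw [MulAut.apply_inv_self]) }
    have hZ : pResidual p (F.autGroup P) ≤ Z := by
      refine (Subgroup.closure_le _).2 fun a ha => ?_
      have hm := (Fusion.mem_autGroup_iff hP).1 a.2
      obtain ⟨l, hl⟩ := Fusion.exists_intertwiner hS hF hT ψ hker haut hm
      have hpow : ∀ (n : ℕ) (z : P),
          ψ ⟨(((a : MulAut P) ^ n) z : P), hP (((a : MulAut P) ^ n) z).2⟩ =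
            l ^ n * ψ ⟨z, hP z.2⟩ * (l ^ n)⁻¹ := by
        intro n
        induction n with
        | zero => intro z; simp
        | succ n ih =>
          intro z
          rw [pow_succ' l]
          have h1 := hl (((a : MulAut P) ^ n) z) (hP ((a : MulAut P) _).2)
            (hP (((a : MulAut P) ^ n) z).2)
          refine Eq.trans ?_ (h1.trans (by rw [ih z]; group))
          congr 1
          exact Subtype.ext (by rw [pow_succ']; rfl)
      intro z
      have h2 := hl z (hP ((a : MulAut P) z).2) (hP z.2)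
      refine h2.trans ?_
      have h3 := hpow (orderOf a) z
      have h4 : (a : MulAut P) ^ orderOf a = 1 := by
        rw [← SubgroupClass.coe_pow, pow_orderOf_eq_one]
        rfl
      simp only [h4] at h3
      have hcomm : Commute (l ^ orderOf a) (ψ ⟨z, hP z.2⟩) :=
        (mul_inv_eq_iff_eq_mul.1 h3.symm)
      obtain ⟨j, hj⟩ := hL l
      have hl' : l ∈ Subgroup.zpowers (l ^ orderOf a) := mem_zpowers_pow_iff.2
        (Nat.Coprime.coprime_dvd_right (orderOf_dvd_of_pow_eq_one hj) (Nat.Coprime.pow_right j ha))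
      obtain ⟨i, hi⟩ := hl'
      have hcl : Commute l (ψ ⟨z, hP z.2⟩) := hi ▸ hcomm.zpow_left i
      rw [hcl.eq, mul_inv_cancel_right]
    refine ⟨⟨y, hP y.2⟩⁻¹ * ⟨((α : MulAut P) y : P), hP ((α : MulAut P) y).2⟩, ?_, rfl⟩
    show ψ _ = 1
    rw [map_mul, map_inv, hZ hα y, inv_mul_cancel]
  obtain ⟨g, hg, rfl⟩ := hle hx
  have hmem : ν g ∈ K₀ := (QuotientGroup.eq_one_iff _).1 hg
  refine ⟨(ν g : MulAut T), ?_, fun t => rfl⟩
  have h1 : ((ν g : F.autGroup T) : MulAut T) ∈ K₀.map (F.autGroup T).subtype := ⟨_, hmem, rfl⟩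
  rw [hK₀, Subgroup.map_sup, Subgroup.map_subgroupOf_eq_of_le (Fusion.inn_le_autGroup F hTS)] at h1
  exact h1

end Cfsg.Agent.S5198
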