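import Cfsg.Statements.S5200
import Cfsg.Agent.Lib.Fusion.CentralizerOdd

set_option autoImplicit false
open Cfsg
open Cfsg.FusionSystem Cfsg.Agent.Fusion Cfsg.Agent.Fusion.NormalCentralizer
open scoped commutatorElement

namespace Cfsg.Agent.S5200

/-- Let F be a saturated fusion system over a finite p-group S and E a normal subsystem of F over T whose centralizer in S lies in T: every subgroup Y of C_S(T) such that E is contained in the centralizer fusion system of Y in F satisfies Y ≤ T. Then T·C_S(T)/T is abelian (the commutator subgroup of T·C_S(T) lies in T), and if p is odd then C_S(T) ≤ T. -/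
theorem result {Ω : Type*} [Group Ω] {S : Subgroup Ω} [Finite S] (p : ℕ) [Fact p.Prime] (hS : IsPGroup p S) (F : Cfsg.FusionSystem S) (hF : F.IsSaturated p) {T : Subgroup Ω} (E : Cfsg.FusionSystem T) (hE : E.IsNormalIn F p) (hCE : ∀ Y : Subgroup Ω, Y ≤ Cfsg.FusionSystem.centralizerIn S T → (∀ C : Cfsg.FusionSystem (Cfsg.FusionSystem.centralizerIn S Y), F.IsCentralizerSystem Y C → E.IsSubsystemOf C) → Y ≤ T) : ⁅T ⊔ Cfsg.FusionSystem.centralizerIn S T, T ⊔ Cfsg.FusionSystem.centralizerIn S T⁆ ≤ T ∧ (p ≠ 2 → Cfsg.FusionSystem.centralizerIn S T ≤ T) := by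
  have hTS : T ≤ S := hE.1.2.2.2.1.1
  have hTn := le_normalizer_of_stronglyClosed hE.1.2.2.2.1
  have hkey : ∀ Y ∈ centralizing F E, Y ≤ T := fun Y hY =>
    hCE Y hY.1 fun C hC P φ hφ => by rw [hC P]; exact hY.2 P hφ
  refine ⟨?_, fun hp c hc => ?_⟩
  · have hCC : ⁅centralizerIn S T, centralizerIn S T⁆ ≤ T :=
      (commutator_le_focal (centralizerSystem F T hTS)).trans
        (hkey _ ⟨focalSubgroup_le _, fun P => hom_subset_centralizerHom_focal hS hE hTS P⟩)
    have hCn : centralizerIn S T ≤ Subgroup.normalizer (T : Set Ω) :=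
      (centralizerIn_le S T).trans hTn
    have hmem : ∀ c ∈ centralizerIn S T, ∀ t ∈ T, c * t * c⁻¹ ∈ T := fun c hc t ht =>
      (Subgroup.mem_normalizer_iff.1 (hCn hc) t).1 ht
    refine Subgroup.commutator_le.2 fun a ha b hb => ?_
    have ha' : a ∈ ((T ⊔ centralizerIn S T : Subgroup Ω) : Set Ω) := ha
    have hb' : b ∈ ((T ⊔ centralizerIn S T : Subgroup Ω) : Set Ω) := hb
    rw [Subgroup.coe_mul_of_right_le_normalizer_left _ _ hCn] at ha' hb'
    obtain ⟨t, ht, c, hc, rfl⟩ := ha'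
    obtain ⟨u, hu, d, hd, rfl⟩ := hb'
    rw [show ⁅t * c, u * d⁆ = t * (c * u * c⁻¹) * ⁅c, d⁆ * (d * t⁻¹ * d⁻¹) * u⁻¹ by
      simp [commutatorElement_def, mul_assoc]]
    exact T.mul_mem (T.mul_mem (T.mul_mem (T.mul_mem ht (hmem c hc u hu))
      (hCC (Subgroup.commutator_mem_commutator hc hd))) (hmem d hd _ (T.inv_mem ht))) (T.inv_mem hu)
  · obtain ⟨z, hz, hmem⟩ := CentralizerOdd.exists_mul_mem_centralizing hp hS hE hc
    have h1 := T.mul_mem (hkey _ hmem (Subgroup.mem_zpowers (c * z))) (T.inv_mem hz)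
    rwa [mul_inv_cancel_right] at h1

end Cfsg.Agent.S5200
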