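import Cfsg.Statements.S5202
import Cfsg.Agent.Lib.Fusion.AutomizerStage
-- import your own Cfsg.Agent.* helpers here

set_option autoImplicit false
open Cfsg

namespace Cfsg.Agent.S5202

open Cfsg.FusionSystem Cfsg.Agent.Fusion Cfsg.Agent.Fusion.AutomizerStage

/-- An element of `K` is in a normal `H` when its order is prime to the index. -/
theorem mem_of_coprime_relIndex {G : Type*} [Group G] {H K : Subgroup G} [H.Normal] {x : G}
    (hx : x ∈ K) (h : (H.relIndex K).Coprime (orderOf x)) : x ∈ H :=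
  ConstrainedGroup.mem_of_pow_mem_of_coprime H (n := H.relIndex K)
    (Subgroup.mem_subgroupOf.1 (Subgroup.pow_index_mem (H.subgroupOf K) ⟨x, hx⟩)) h

/-- The elements acting on `T` through `Aut_E(T)` are those of `T C_S(T)`. -/
theorem preimage_autGroup {Ω : Type*} [Group Ω] {S T : Subgroup Ω} [Finite S] {p : ℕ} [Fact p.Prime]
    (hS : IsPGroup p S) {E : Cfsg.FusionSystem T} (hE : E.IsSaturated p) (hT : T ≤ S)
    (hn : S ≤ Subgroup.normalizer (T : Set Ω)) :
    preimage hn (E.autGroup T) = T ⊔ centralizerIn S T := by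
  refine le_antisymm (fun g hg => ?_)
    (sup_le (le_preimage hT (inn_le_autGroup E le_rfl)) centralizer_le_preimage)
  obtain ⟨hgS, hgE⟩ := mem_preimage.1 hg
  have := finite_of_le (Ω := Ω) hT
  obtain ⟨-, Y, hY⟩ := isFullyAutomized_self (hS.to_le hT) hE
  have hle : (Y : Subgroup (E.autGroup T)) ≤ (autInducedBy S T).subgroupOf (E.autGroup T) := by
    rw [hY]
    exact fun a ha => autInducedBy_mono hT ha
  have heq := Y.is_maximal'
    ((isPGroup_autInducedBy hS T).comap_of_injective _ (E.autGroup T).subtype_injective) hle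
  have hgY : (⟨conjAut (hn hgS), hgE⟩ : E.autGroup T) ∈ (Y : Subgroup (E.autGroup T)) :=
    heq.le (Subgroup.mem_subgroupOf.2 (conjAut_mem_autInducedBy hgS (hn hgS)))
  rw [hY] at hgY
  obtain ⟨t, ht, htx⟩ := mem_autInducedBy_iff.1 (Subgroup.mem_subgroupOf.1 hgY)
  rw [show g = t * (t⁻¹ * g) from (mul_inv_cancel_left t g).symm]
  refine Subgroup.mul_mem_sup ht ⟨S.mul_mem (S.inv_mem (hT ht)) hgS,
    Subgroup.mem_centralizer_iff.2 fun x hx => ?_⟩
  have h1 : g * x * g⁻¹ = t * x * t⁻¹ := htx ⟨x, hx⟩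
  calc x * (t⁻¹ * g) = t⁻¹ * (t * x * t⁻¹) * g := by group
    _ = t⁻¹ * (g * x * g⁻¹) * g := by rw [h1]
    _ = t⁻¹ * g * x := by group

/-- Let F be a saturated fusion system over a finite p-group S and E a normal subsystem of F over T such that Aut_F(T)/Aut_E(T) is p-solvable. Then there is a normal subsystem F₀ of F over T·C_S(T) containing E, with Aut_{F₀}(T) = Aut_E(T), containing every residual limit of F, and whose residual limits have the same maps as those of F. -/
theorem result {Ω : Type*} [Group Ω] {S : Subgroup Ω} [Finite S] (p : ℕ) [Fact p.Prime] (hS : IsPGroup p S) (F : Cfsg.FusionSystem S) (hF : F.IsSaturated p) {T : Subgroup Ω} (E : Cfsg.FusionSystem T) (hE : E.IsNormalIn F p) [hn : ((E.autGroup T).subgroupOf (F.autGroup T)).Normal] (hsolv : Cfsg.IsPSolvable p (↥(F.autGroup T) ⧸ (E.autGroup T).subgroupOf (F.autGroup T))) : ∃ F₀ : Cfsg.FusionSystem (T ⊔ Cfsg.FusionSystem.centralizerIn S T), F₀.IsNormalIn F p ∧ E.IsSubsystemOf F₀ ∧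 F₀.autGroup T = E.autGroup T ∧ ∀ {U : Subgroup Ω} (Finf : Cfsg.FusionSystem U), Finf.IsResidualLimitOf F p → Finf.IsSubsystemOf F₀ ∧ ∀ {V : Subgroup Ω} (L : Cfsg.FusionSystem V), L.IsResidualLimitOf F₀ p → ∀ P : Subgroup Ω, L.Hom P = Finf.Hom P := by
  have hTc := hE.1.2.2.2.1
  have hTS := hTc.1
  have hEsub := hE.1.2.2.1
  have hconn := le_normalizer_of_stronglyClosed hTc
  set A := F.autGroup T with hA
  set N := (E.autGroup T).subgroupOf A with hN
  have := finite_autGroup (F := F) hTS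
  obtain ⟨n, H, h0, htop, hmono, hnorm, hstep⟩ := hsolv
  set K : Fin (n + 1) → Subgroup (MulAut T) := fun i =>
    ((H i).comap (QuotientGroup.mk' N)).map A.subtype with hK
  have hmemK : ∀ (i : Fin (n + 1)) (a : MulAut T),
      a ∈ K i ↔ ∃ ha : a ∈ A, QuotientGroup.mk' N ⟨a, ha⟩ ∈ H i := fun i a =>
    ⟨by rintro ⟨⟨a, ha⟩, h, rfl⟩; exact ⟨ha, h⟩, fun ⟨ha, h⟩ => ⟨⟨a, ha⟩, h, rfl⟩⟩
  have hEK : ∀ i, E.autGroup T ≤ K i := fun i a ha => (hmemK i a).2
    ⟨autGroup_le_of_subsystem hEsub le_rfl ha, by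
      rw [show QuotientGroup.mk' N ⟨a, autGroup_le_of_subsystem hEsub le_rfl ha⟩ = 1 from
        (QuotientGroup.eq_one_iff _).2 (Subgroup.mem_subgroupOf.2 ha)]
      exact one_mem _⟩
  have hconj : ∀ i, ∀ d ∈ A, ∀ a ∈ K i, d * a * d⁻¹ ∈ K i := fun i d hd a ha => by
    obtain ⟨ha', h⟩ := (hmemK i a).1 ha
    refine (hmemK i _).2 ⟨mul_mem (mul_mem hd ha') (inv_mem hd), ?_⟩
    exact (hnorm i).conj_mem _ h (QuotientGroup.mk' N ⟨d, hd⟩)
  have key : ∀ i : Fin (n + 1), ∃ (U : Subgroup Ω) (G : Cfsg.FusionSystem U),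
      Stage F E p hconn (K i) U G := by
    refine Fin.reverseInduction ?_ ?_
    · have hKtop : K (Fin.last n) = A := by
        refine le_antisymm (fun a ha => ((hmemK _ a).1 ha).1) fun a ha => (hmemK _ a).2 ⟨ha, ?_⟩
        rw [htop]
        exact Subgroup.mem_top _
      refine ⟨S, F, isNormalIn_of_pPowerIndex hS hF (stronglyClosed_self F) hF (S5203.self_pIndex F),
        hE, hKtop.symm, le_antisymm (fun g hg => mem_preimage.2 ⟨hg, ?_⟩) preimage_le,
        fun L => Iff.rfl⟩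
      rw [hKtop]
      exact autInducedBy_le_autGroup F hTS (conjAut_mem_autInducedBy hg _)
    · rintro i ⟨U, G, hG⟩
      have hle : K i.castSucc ≤ K i.succ :=
        Subgroup.map_mono (Subgroup.comap_mono (hmono (Fin.castSucc_lt_succ).le))
      have := hnorm i.castSucc
      rcases hstep i with ⟨m, hm⟩ | hco
      · refine step_p hS hE hG hle (hEK _) (hconj _) fun a ha hcop => ?_
        obtain ⟨haA, h⟩ := (hmemK _ a).1 ha
        refine (hmemK _ a).2 ⟨haA, mem_of_coprime_relIndex h ?_⟩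
        rw [hm]
        refine Nat.Coprime.coprime_dvd_right (orderOf_map_dvd (QuotientGroup.mk' N) _) ?_
        rw [Subgroup.orderOf_mk]
        exact Nat.Coprime.pow_left _ hcop.symm
      · refine step_prime hS hE hG hle (hEK _) (hconj _) fun a ha k hk => ?_
        obtain ⟨haA, h⟩ := (hmemK _ a).1 ha
        refine (hmemK _ a).2 ⟨haA, mem_of_coprime_relIndex h
          (Nat.Coprime.coprime_dvd_right (orderOf_dvd_of_pow_eq_one ?_) (hco.pow_right k))⟩
        rw [← map_pow, show (⟨a, haA⟩ : A) ^ p ^ k = 1 from Subtype.ext hk, map_one]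
  obtain ⟨U, G, hGn, hEG, haut, hUeq, hlim⟩ := key 0
  have hK0 : K 0 = E.autGroup T := by
    refine le_antisymm (fun a ha => ?_) (hEK 0)
    obtain ⟨haA, h⟩ := (hmemK _ a).1 ha
    rw [h0] at h
    exact (QuotientGroup.eq_one_iff (⟨a, haA⟩ : A)).1 h
  rw [hK0] at haut hUeq
  rw [preimage_autGroup hS hE.1.1 hTS hconn] at hUeq
  subst hUeq
  refine ⟨G, hGn, hEG.1.2.2.1, haut, fun Finf hFinf => ⟨Limit.le ((hlim Finf).2 hFinf), ?_⟩⟩
  intro V L hL P
  exact (S5203.limit_unique hFinf hS hF L ((hlim L).1 hL)).2 P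

end Cfsg.Agent.S5202
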