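import Cfsg.Statements.S5201
import Cfsg.Agent.S5202
import Cfsg.Agent.Lib.Fusion.NormalCentralizer
-- import your own Cfsg.Agent.* helpers here

set_option autoImplicit false
open Cfsg

namespace Cfsg.Agent.S5201

open Cfsg.FusionSystem Cfsg.Agent.Fusion Cfsg.Agent.Fusion.AutomizerStage

/-- A reduction to normal subsystems. Let F be a saturated fusion system over a finite p-group S and E a normal subsystem of F over T whose centralizer in S lies in T (every subgroup Y of C_S(T) with E contained in the centralizer fusion system of Y in F satisfies Y ≤ T), and suppose Aut_F(T)/Aut_E(T) is p-solvable. Then F and E have the same residual limit: if F∞ is the residual limit of F (reached by alternately passing to the p-residual and the p'-residual subsystem until nothing changes) and E∞ that of E, then F∞ and E∞ have the same maps. -/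
theorem result {Ω : Type*} [Group Ω] {S : Subgroup Ω} [Finite S] (p : ℕ) [Fact p.Prime] (hS : IsPGroup p S) (F : Cfsg.FusionSystem S) (hF : F.IsSaturated p) {T : Subgroup Ω} (E : Cfsg.FusionSystem T) (hE : E.IsNormalIn F p) (hCE : ∀ Y : Subgroup Ω, Y ≤ Cfsg.FusionSystem.centralizerIn S T → (∀ C : Cfsg.FusionSystem (Cfsg.FusionSystem.centralizerIn S Y), F.IsCentralizerSystem Y C → E.IsSubsystemOf C) → Y ≤ T) [hn : ((E.autGroup T).subgroupOf (F.autGroup T)).Normal] (hsolv : Cfsg.IsPSolvable p (↥(F.autGroup T) ⧸ (E.autGroup T).subgroupOf (F.autGroup T))) {U V : Subgroup Ω} (Finf : Cfsg.FusionSystem U) (hFinf : Finf.IsResidualLimitOf F p) (Einf : Cfsg.FusionSystem V) (hEinf : Einf.IsResidualLimitOf E p) : ∀ P : Subgroup Ω, Finf.Hom P = Einf.Hom P := by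
  have hTc := hE.1.2.2.2.1
  have hTS := hTc.1
  set C := centralizerIn S T with hC
  set S₀ := T ⊔ C with hS₀
  have hS₀S : S₀ ≤ S := sup_le hTS (centralizerIn_le S T)
  obtain ⟨F₀, hF₀, hEF₀, haut, hlim⟩ := S5202.result p hS F hF E hE hsolv
  have := finite_of_le (Ω := Ω) hS₀S
  have hpS₀ := hS.to_le hS₀S
  -- the focal subgroup of `C_F(T)` lies in `T`
  set X := (centralizerSystem F T hTS).focalSubgroup with hX
  have hXT : X ≤ T := hCE X (focalSubgroup_le _) fun C' hC' P φ hφ => by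
    rw [hC' P]
    exact NormalCentralizer.hom_subset_centralizerHom_focal hS hE hTS P hφ
  have hmapC : ∀ (P : Subgroup Ω) (hP : P ≤ C) (ψ : ↥(P ⊔ T) →* Ω), ψ ∈ F.Hom (P ⊔ T) →
      (∀ t : T, ψ (Subgroup.inclusion le_sup_right t) = t) →
      (∀ x : P, ψ (Subgroup.inclusion le_sup_left x) ∈ C) →
      ∀ x : P, (x : Ω)⁻¹ * ψ (Subgroup.inclusion le_sup_left x) ∈ T := fun P hP ψ hψ hT hm x =>
    hXT (Subgroup.subset_closure ⟨P, ψ.comp (Subgroup.inclusion le_sup_left), x,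
      ⟨restrict_mem hψ le_sup_left, hP, hm, ψ, hψ, fun z => rfl, hT⟩, rfl⟩)
  have hcl₀ : F₀.StronglyClosed T :=
    ⟨le_sup_left, fun P hP φ hφ => hTc.2 P hP φ (hF₀.1.2.2.1 P hφ)⟩
  have : (T.subgroupOf S₀).Normal :=
    Subgroup.normal_subgroupOf_of_le_normalizer (hS₀S.trans (le_normalizer_of_stronglyClosed hTc))
  set ψ : S₀ →* S₀ ⧸ T.subgroupOf S₀ := QuotientGroup.mk' _ with hψ
  have hker : ∀ (t : Ω) (ht : t ∈ T), ψ ⟨t, le_sup_left (a := T) (b := C) ht⟩ = 1 := fun t ht =>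
    (QuotientGroup.eq_one_iff _).2 ht
  -- `S₀` is abelian modulo `T`
  have hdec : ∀ g : S₀, ∃ (c : Ω) (hc : c ∈ C), ψ g = ψ ⟨c, Subgroup.mem_sup_right hc⟩ := by
    rintro ⟨g, hg⟩
    have hg' : g ∈ ((C ⊔ T : Subgroup Ω) : Set Ω) := by rw [sup_comm]; exact hg
    rw [Subgroup.coe_mul_of_left_le_normalizer_right C T
      ((centralizerIn_le S T).trans (le_normalizer_of_stronglyClosed hTc)), Set.mem_mul] at hg'
    obtain ⟨c, hc, t, ht, rfl⟩ := hg'
    refine ⟨c, hc, ?_⟩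
    rw [show (⟨c * t, hg⟩ : S₀) = ⟨c, Subgroup.mem_sup_right hc⟩ * ⟨t, Subgroup.mem_sup_left ht⟩ from
      rfl, map_mul, hker t ht, mul_one]
  have hcomm : ∀ g h : S₀, ψ g * ψ h = ψ h * ψ g := by
    intro g h
    obtain ⟨c, hc, hg⟩ := hdec g
    obtain ⟨d, hd, hh⟩ := hdec h
    rw [hg, hh, ← map_mul, ← map_mul, QuotientGroup.mk'_apply, QuotientGroup.mk'_apply,
      QuotientGroup.eq]
    refine Subgroup.mem_subgroupOf.2 ?_
    show (c * d)⁻¹ * (d * c) ∈ T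
    have h4 : (c * d)⁻¹ * (d * c) = d⁻¹ * (c⁻¹ * (d * c * d⁻¹)) * d := by group
    have h5 := hmapC C le_rfl (conjHom (C ⊔ T) d)
      (F.conj_mem (sup_le (centralizerIn_le S T) hTS) hd.1)
      (fun t => by
        show d * (t : Ω) * d⁻¹ = t
        rw [← Subgroup.mem_centralizer_iff.1 hd.2 t t.2, mul_inv_cancel_right])
      (fun x => C.mul_mem (C.mul_mem hd x.2) (C.inv_mem hd)) ⟨c, hc⟩
    have h6 : c⁻¹ * (d * c * d⁻¹) ∈ T := h5
    rw [h4, show d⁻¹ * (c⁻¹ * (d * c * d⁻¹)) * d = c⁻¹ * (d * c * d⁻¹) from ?_]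
    · exact h6
    · have hct := Subgroup.mem_centralizer_iff.1 hd.2 _ h6
      rw [mul_assoc, hct, inv_mul_cancel_left]
  -- automorphisms of subgroups above `T` act trivially modulo `T`
  have haut₀ : ∀ (R : Subgroup Ω) (hRS : R ≤ S₀), T ≤ R → ∀ α ∈ F₀.autGroup R,
      ∃ l, ∀ y : R, ψ ⟨(α y : R), hRS (α y).2⟩ = l * ψ ⟨y, hRS y.2⟩ * l⁻¹ := by
    intro R hRS hTR α hα
    have hm := (mem_autGroup_iff hRS).1 hα
    have hres := restrict_mem hm hTR
    have := finite_of_le (Ω := Ω) hTS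
    have hr := range_eq_of_le hres le_sup_left (fun t => hcl₀.2 T le_rfl _ hres t) le_rfl
    obtain ⟨β, hβ, hβT, hβC⟩ := hE.2 _ (haut ▸ toAut_mem hres hr)
    have hinvT : ∀ y : T, β⁻¹ (Subgroup.inclusion le_sup_left (toAut hres hr y)) =
        Subgroup.inclusion le_sup_left y := fun y => by
      rw [show Subgroup.inclusion le_sup_left (toAut hres hr y) =
        β (Subgroup.inclusion le_sup_left y) from (Subtype.ext (hβT y)).symm, MulAut.inv_apply_self]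
    set γ := ((S₀.subtype.comp (β⁻¹).toMonoidHom).comp
      ((R.subtype.comp α.toMonoidHom).codRestrict S₀ fun y => hRS (α y).2)) with hγdef
    have hγ : γ ∈ F.Hom R := F.comp_mem (hF₀.1.2.2.1 R hm)
      ((mem_autGroup_iff hS₀S).1 (inv_mem hβ)) fun y => hRS (α y).2
    have hγT : ∀ t : T, γ (Subgroup.inclusion hTR t) = t := fun t =>
      congrArg Subtype.val (hinvT t)
    have key : ∀ (c : R), (c : Ω) ∈ C → (c : Ω)⁻¹ * ((α c : R) : Ω) ∈ T := by
      intro c hc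
      have hle : C ⊓ R ⊔ T ≤ R := sup_le inf_le_right hTR
      have hmemC : ∀ x : ↥(C ⊓ R), γ ⟨x, x.2.2⟩ ∈ C := fun x => by
        refine ⟨apply_mem hγ _, Subgroup.mem_centralizer_iff.2 fun t ht => ?_⟩
        have h1 : γ (⟨t, hTR ht⟩ * ⟨x, x.2.2⟩) = γ (⟨(x : Ω), x.2.2⟩ * ⟨t, hTR ht⟩) :=
          congrArg γ (Subtype.ext (Subgroup.mem_centralizer_iff.1 x.2.1.2 t ht))
        rw [map_mul, map_mul, show γ ⟨t, hTR ht⟩ = t from hγT ⟨t, ht⟩] at h1
        exact h1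
      have h1 : (c : Ω)⁻¹ * γ c ∈ T :=
        hmapC (C ⊓ R) inf_le_left (γ.comp (Subgroup.inclusion hle)) (restrict_mem hγ hle)
          (fun t => hγT t) hmemC ⟨c, hc, c.2⟩
      have h2 := hβC (β⁻¹ ⟨((α c : R) : Ω), hRS (α c).2⟩) (hmemC ⟨c, hc, c.2⟩)
      rw [MulAut.apply_inv_self] at h2
      have h3 := T.mul_mem h1 h2.1
      have h4 : γ c = ((β⁻¹ ⟨((α c : R) : Ω), hRS (α c).2⟩ : S₀) : Ω) := rfl
      rw [← h4] at h3
      simpa [mul_assoc] using h3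
    refine ⟨1, fun y => ?_⟩
    rw [one_mul, inv_one, mul_one]
    have hy : (y : Ω) ∈ ((C ⊔ T : Subgroup Ω) : Set Ω) := by rw [sup_comm]; exact hRS y.2
    rw [Subgroup.coe_mul_of_left_le_normalizer_right C T
      ((centralizerIn_le S T).trans (le_normalizer_of_stronglyClosed hTc)), Set.mem_mul] at hy
    obtain ⟨c, hc, t, ht, hy⟩ := hy
    have hcR : c ∈ R := by
      have := R.mul_mem y.2 (R.inv_mem (hTR ht))
      rw [← hy] at this
      simpa using this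
    obtain rfl : y = ⟨c, hcR⟩ * ⟨t, hTR ht⟩ := Subtype.ext hy.symm
    rw [show (⟨((α (⟨c, hcR⟩ * ⟨t, hTR ht⟩) : R) : Ω), hRS (α _).2⟩ : S₀) =
      ⟨(α ⟨c, hcR⟩ : R), hRS (α _).2⟩ * ⟨(α ⟨t, hTR ht⟩ : R), hRS (α _).2⟩ from
        Subtype.ext (by rw [map_mul]; rfl),
      show (⟨((⟨c, hcR⟩ * ⟨t, hTR ht⟩ : R) : Ω), hRS (SetLike.coe_mem _)⟩ : S₀) =
        ⟨c, hRS hcR⟩ * ⟨t, hRS (hTR ht)⟩ from rfl, map_mul, map_mul, hker t ht,
      show ψ ⟨((α ⟨t, hTR ht⟩ : R) : Ω), hRS (α _).2⟩ = 1 from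
        hker _ (hcl₀.2 T le_rfl _ hres ⟨t, ht⟩), mul_one, mul_one]
    refine (QuotientGroup.eq.2 (Subgroup.mem_subgroupOf.2 ?_)).symm
    exact key ⟨c, hcR⟩ hc
  have hhyp : F₀.hyperfocalSubgroup p ≤ T := by
    refine (Subgroup.closure_le _).2 ?_
    rintro _ ⟨P, α, y, hP, hα, rfl⟩
    have hφ := (mem_autGroup_iff hP).1 α.2
    obtain ⟨l, hl⟩ := exists_intertwiner hpS₀ hF₀.1.1 hcl₀ ψ hker haut₀ hφ
    have h1 := hl y (hP ((α : MulAut P) y).2) (hP y.2)
    obtain ⟨g, rfl⟩ := QuotientGroup.mk'_surjective _ l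
    rw [hcomm, mul_inv_cancel_right] at h1
    exact Subgroup.mem_subgroupOf.1 (QuotientGroup.eq.1 h1.symm)
  have hinv : E.IsInvariantIn F₀ :=
    isInvariantIn_of_stronglyInvariant hpS₀ hF₀.1.1 hEF₀ hcl₀
      fun P Q hPQ hQT φ hφ hφQ χ hχ =>
        stronglyInvariant_of_invariant hE.1.2.2 P Q hPQ hQT φ hφ hφQ χ (hF₀.1.2.2.1 Q hχ)
  have hidx : E.HasPPowerIndexIn F₀ p := by
    refine ⟨hEF₀, hhyp, fun P hP => ?_⟩
    rintro _ ⟨a, -, rfl⟩
    obtain ⟨α, hα, φ₀, hφ₀, he⟩ :=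
      hinv.2.2.2 P hP _ ((mem_autGroup_iff (hP.trans le_sup_left)).1 a.2)
    refine (mem_autGroup_iff hP).2 ?_
    exact comp_mem' hφ₀ ((mem_autGroup_iff le_rfl).1 (haut ▸ hα)) (apply_mem hφ₀)
      fun x => he x _
  have hEinf' := (Limit.iff_pPowerIndex hpS₀ hF₀.1.1 le_sup_left hE.1.1 hidx).2 hEinf
  exact fun P => ((hlim Finf hFinf).2 Einf hEinf' P).symm

end Cfsg.Agent.S5201
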