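import Cfsg.Statements.S5203
import Cfsg.Agent.Lib.Fusion.PPowerIndex
import Cfsg.Agent.Lib.Fusion.PPrimeResidual
-- import your own Cfsg.Agent.* helpers here

set_option autoImplicit false
open Cfsg

namespace Cfsg.Agent.S5203

open Cfsg.FusionSystem Cfsg.Agent.Fusion

universe v
variable {Ω : Type v} [Group Ω] {p : ℕ}

/-- Two systems with one underlying subgroup and the same maps. -/
def Same {S T : Subgroup Ω} (A : Cfsg.FusionSystem S) (B : Cfsg.FusionSystem T) : Prop :=
  S = T ∧ ∀ P : Subgroup Ω, A.Hom P = B.Hom P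

theorem Same.heq {S T : Subgroup Ω} {A : Cfsg.FusionSystem S} {B : Cfsg.FusionSystem T}
    (h : Same A B) : S = T ∧ HEq A B := by
  obtain ⟨rfl, hh⟩ := h
  refine ⟨rfl, heq_of_eq ?_⟩
  cases A; cases B
  congr
  exact funext hh

/-- Saturated subsystems of `p`-power index over one subgroup coincide. -/
theorem same_pIndex [Fact p.Prime] {S T U : Subgroup Ω} [Finite S] (hS : IsPGroup p S)
    {F : Cfsg.FusionSystem S} (hTS : T ≤ S) (hTU : T = U) {A : Cfsg.FusionSystem T}
    {B : Cfsg.FusionSystem U} (hA : A.IsSaturated p) (hAi : A.HasPPowerIndexIn F p)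
    (hB : B.IsSaturated p) (hBi : B.HasPPowerIndexIn F p) : Same A B := by
  subst hTU
  exact ⟨rfl, fun P => Set.Subset.antisymm (pPowerIndex_le hS hTS hA hAi.1 hBi P)
    (pPowerIndex_le hS hTS hB hBi.1 hAi P)⟩

theorem self_pIndex {S : Subgroup Ω} (F : Cfsg.FusionSystem S) : F.HasPPowerIndexIn F p :=
  ⟨fun _ _ h => h, hyperfocal_le F p, fun P hP => Subgroup.map_subtype_le _⟩

theorem self_pResidual [Fact p.Prime] {S : Subgroup Ω} {F : Cfsg.FusionSystem S} [Finite S]
    (hS : IsPGroup p S) (hF : F.IsSaturated p) (h : F.hyperfocalSubgroup p = S)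
    {D : Cfsg.FusionSystem (F.hyperfocalSubgroup p)} (hD : F.IsPResidual p D) : Same D F :=
  same_pIndex hS (hyperfocal_le F p) h hD.1 hD.2 hF (self_pIndex F)

theorem same_pPrime [Fact p.Prime] {S T : Subgroup Ω} [Finite S] (hS : IsPGroup p S)
    {F : Cfsg.FusionSystem S} {G : Cfsg.FusionSystem T} (hF : F.IsSaturated p) (h : Same F G)
    {A : Cfsg.FusionSystem S} {B : Cfsg.FusionSystem T} (hA : F.IsPPrimeResidual p A)
    (hB : G.IsPPrimeResidual p B) : Same A B := by
  obtain ⟨rfl, he⟩ := h.heq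
  obtain rfl := eq_of_heq he
  exact ⟨rfl, fun P => (PPrimeResidual.hom_eq_residual hS hF hA P).trans
    (PPrimeResidual.hom_eq_residual hS hF hB P).symm⟩

/-- A limit of a stable system is that system. -/
theorem stable_limit {U : Subgroup Ω} {L : Cfsg.FusionSystem U} {S : Subgroup Ω}
    {F : Cfsg.FusionSystem S} (h : L.IsResidualLimitOf F p) :
    ∀ [Fact p.Prime] [Finite S], IsPGroup p S → F.IsSaturated p → F.hyperfocalSubgroup p = S →
      F.IsPPrimeResidual p F → Same L F := by
  induction h with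
  | stable F p => intros; exact ⟨rfl, fun _ => rfl⟩
  | @step S₀ L₀ F p D D' hD hD' hL₀ ih =>
    intro _ _ hS hF hh hres
    have := finite_of_le (hyperfocal_le F p)
    have hpS := hS.to_le (hyperfocal_le F p)
    have h1 := self_pResidual hS hF hh hD
    have h2 : Same D' F := same_pPrime hpS hD.1 h1 hD' hres
    obtain ⟨hc, he⟩ := h2.heq
    have key : ∀ {T : Subgroup Ω} (G : Cfsg.FusionSystem T), T = F.hyperfocalSubgroup p →
        HEq G D' → G.IsSaturated p → G.hyperfocalSubgroup p = T → G.IsPPrimeResidual p G →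
        Same L₀ G := by
      intro T G hT hG
      subst hT
      obtain rfl := eq_of_heq hG
      exact ih hpS
    exact key F hc.symm he.symm hF hh hres

/-- A limit of `G` is a limit of any `p'`-residual of any `p`-residual of `G`. -/
theorem limit_of_step [Fact p.Prime] {U : Subgroup Ω} {L : Cfsg.FusionSystem U} {S : Subgroup Ω}
    [Finite S] (hS : IsPGroup p S) {F : Cfsg.FusionSystem S} (hF : F.IsSaturated p)
    (h : L.IsResidualLimitOf F p) {T : Subgroup Ω} (hT : T = F.hyperfocalSubgroup p)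
    (D D' : Cfsg.FusionSystem T) (hD : D.IsSaturated p) (hDi : D.HasPPowerIndexIn F p)
    (hD' : D.IsPPrimeResidual p D') : L.IsResidualLimitOf D' p := by
  have := finite_of_le (hyperfocal_le F p)
  have hpS := hS.to_le (hyperfocal_le F p)
  subst hT
  cases h with
  | stable _ _ hh hres =>
    have h1 := self_pResidual hS hF hh ⟨hD, hDi⟩
    have h2 : Same D' L := same_pPrime hpS hD h1 hD' hres
    obtain ⟨hc, he⟩ := h2.heq
    have key : ∀ {T : Subgroup Ω} (G : Cfsg.FusionSystem T), T = U → HEq G L →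
        L.IsResidualLimitOf G p := by
      intro T G hT hG
      subst hT
      obtain rfl := eq_of_heq hG
      exact .stable _ p hh hres
    exact key D' hc he
  | step _ _ E E' hE hE' hL =>
    have h1 := same_pIndex hS (hyperfocal_le F p) rfl hD hDi hE.1 hE.2
    obtain ⟨-, he⟩ := (same_pPrime hpS hD h1 hD' hE').heq
    rw [eq_of_heq he]
    exact hL

/-- Residual limits are unique. -/
theorem limit_unique {U : Subgroup Ω} {L : Cfsg.FusionSystem U} {S : Subgroup Ω}
    {F : Cfsg.FusionSystem S} (h : L.IsResidualLimitOf F p) :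
    ∀ [Fact p.Prime] [Finite S], IsPGroup p S → F.IsSaturated p →
      ∀ {V : Subgroup Ω} (L' : Cfsg.FusionSystem V), L'.IsResidualLimitOf F p → Same L' L := by
  induction h with
  | stable F p hh hres =>
    intro _ _ hS hF V L' h'
    exact stable_limit h' hS hF hh hres
  | step F p D D' hD hD' _ ih =>
    intro _ _ hS hF V L' h'
    have := finite_of_le (hyperfocal_le F p)
    exact ih (hS.to_le (hyperfocal_le F p)) hD'.1 L'
      (limit_of_step hS hF h' rfl D D' hD.1 hD.2 hD')

/-- A normal subsystem of `p`-power index has the same hyperfocal subgroup. -/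
theorem hyperfocal_eq [Fact p.Prime] {S T : Subgroup Ω} [Finite S] (hS : IsPGroup p S)
    {F : Cfsg.FusionSystem S} (hTS : T ≤ S) {E : Cfsg.FusionSystem T} (hE : E.IsSaturated p)
    (hi : E.HasPPowerIndexIn F p) : E.hyperfocalSubgroup p = F.hyperfocalSubgroup p := by
  obtain ⟨hsub, hhyp, hres⟩ := hi
  have := finite_of_le (Ω := Ω) hTS
  have hpT := hS.to_le hTS
  refine le_antisymm (hyperfocal_mono hTS hsub p) ((Subgroup.closure_le _).2 ?_)
  rintro _ ⟨P, α, y, hP, hα, rfl⟩
  let Z : Subgroup (F.autGroup P) :=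
    { carrier := {a | ∀ z : P, (z : Ω)⁻¹ * ((a : MulAut P) z : P) ∈ E.hyperfocalSubgroup p}
      one_mem' := fun z => by simp
      mul_mem' := fun {a b} ha hb z => by
        have h1 := Subgroup.mul_mem _ (hb z) (ha ((b : MulAut P) z))
        show (z : Ω)⁻¹ * ((a : MulAut P) ((b : MulAut P) z) : P) ∈ E.hyperfocalSubgroup p
        simpa [mul_assoc] using h1
      inv_mem' := fun {a} ha z => by
        have h1 := Subgroup.inv_mem _ (ha ((a : MulAut P)⁻¹ z))
        rw [MulAut.apply_inv_self] at h1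
        show (z : Ω)⁻¹ * (((a : MulAut P)⁻¹ z : P) : Ω) ∈ E.hyperfocalSubgroup p
        simpa using h1 }
  refine (show pResidual p (F.autGroup P) ≤ Z from (Subgroup.closure_le _).2 fun a ha => ?_) hα y
  -- the restriction to `W = P ⊓ T` is an element of `O^p(Aut_E(W))`
  set W := P ⊓ T with hW
  have hWT : W ≤ T := inf_le_right
  have hWS := hWT.trans hTS
  have hfW : ∀ z : P, (z : Ω)⁻¹ * ((a : MulAut P) z : P) ∈ W := fun z =>
    ⟨P.mul_mem (P.inv_mem z.2) (Subtype.property _), hhyp
      (inv_mul_apply_mem_hyperfocal hP (Subgroup.subset_closure ha) z)⟩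
  have haW : ∀ w : W, (((a : MulAut P) ⟨w, w.2.1⟩ : P) : Ω) ∈ W := fun w => by
    have := W.mul_mem w.2 (hfW ⟨w, w.2.1⟩)
    simpa using this
  have hres' := restrict_mem ((mem_autGroup_iff hP).1 a.2) (inf_le_left : W ≤ P)
  have := finite_of_le (Ω := Ω) hWS
  have hr := range_eq_of_le hres' hWS haW le_rfl
  set b : MulAut W := toAut hres' hr with hb
  have hpow : ∀ (n : ℕ) (w : W), (((b ^ n) w : W) : Ω) =
      ((((a : MulAut P) ^ n) ⟨w, w.2.1⟩ : P) : Ω) := by
    intro n
    induction n with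
    | zero => intro w; rfl
    | succ n ih =>
      intro w
      rw [pow_succ, pow_succ, MulAut.mul_apply, MulAut.mul_apply, ih]
      rfl
  have han : (a : MulAut P) ^ orderOf a = 1 := by
    rw [← SubgroupClass.coe_pow, pow_orderOf_eq_one]
    rfl
  have hbord : (orderOf b).Coprime p := Nat.Coprime.coprime_dvd_left
    (orderOf_dvd_of_pow_eq_one (MulEquiv.ext fun w => Subtype.ext (by rw [hpow, han]; rfl))) ha
  have hbF : b ∈ F.autGroup W := toAut_mem hres' hr
  have hbE : b ∈ E.autGroup W := hres W hWT ⟨⟨b, hbF⟩, Subgroup.subset_closure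
    (show (orderOf _).Coprime p by rwa [Subgroup.orderOf_mk]), rfl⟩
  have hbres : (⟨b, hbE⟩ : E.autGroup W) ∈ pResidual p (E.autGroup W) :=
    Subgroup.subset_closure (show (orderOf _).Coprime p by rwa [Subgroup.orderOf_mk])
  set V := (E.hyperfocalSubgroup p).subgroupOf W with hV
  have hVn : V.Normal := ⟨fun v hv w =>
    (Subgroup.mem_normalizer_iff.1 (le_normalizer_hyperfocal E p (hWT w.2)) v).1 hv⟩
  have hbw : ∀ w : W, QuotientGroup.mk' V (b w) = QuotientGroup.mk' V w := fun w => by
    rw [eq_comm, QuotientGroup.mk'_apply, QuotientGroup.mk'_apply, QuotientGroup.eq]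
    exact inv_mul_apply_mem_hyperfocal hWT hbres w
  intro z
  set f : W := ⟨_, hfW z⟩ with hf
  have hiter : ∀ n : ℕ, ∃ w : W, ((((a : MulAut P) ^ n) z : P) : Ω) = z * (w : Ω) ∧
      QuotientGroup.mk' V w = QuotientGroup.mk' V f ^ n := by
    intro n
    induction n with
    | zero => exact ⟨1, by simp, by simp⟩
    | succ n ih =>
      obtain ⟨w, hw, hwq⟩ := ih
      refine ⟨f * b w, ?_, by rw [map_mul, hbw, hwq, pow_succ']⟩
      rw [pow_succ', MulAut.mul_apply, show ((a : MulAut P) ^ n) z = z * ⟨w, w.2.1⟩ from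
        Subtype.ext hw, map_mul, Subgroup.coe_mul, Subgroup.coe_mul, hf]
      show _ = (z : Ω) * ((z : Ω)⁻¹ * ((a : MulAut P) z : P) * _)
      rw [mul_assoc, mul_inv_cancel_left]
      rfl
  obtain ⟨w, hw, hwq⟩ := hiter (orderOf a)
  rw [han] at hw
  have hw1 : w = 1 := Subtype.ext (by simpa using hw.symm)
  rw [hw1, map_one] at hwq
  obtain ⟨j, hj⟩ := (hS.to_le hWS).to_quotient V (QuotientGroup.mk' V f)
  have h1 : QuotientGroup.mk' V f = 1 := orderOf_eq_one_iff.1 (Nat.eq_one_of_dvd_coprimes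
    (Nat.Coprime.pow_right j ha) (orderOf_dvd_of_pow_eq_one hwq.symm) (orderOf_dvd_of_pow_eq_one hj))
  exact (QuotientGroup.eq_one_iff f).1 h1

/-- Let F be a saturated fusion system over a finite p-group S and E a normal subsystem of F over T that has p-power index in F. Then every residual limit of E has the same maps as every residual limit of F (the residual limit is reached by alternately passing to the p-residual and the p'-residual subsystem until nothing changes). -/
theorem result {Ω : Type*} [Group Ω] {S : Subgroup Ω} [Finite S] (p : ℕ) [Fact p.Prime] (hS : IsPGroup p S) (F : Cfsg.FusionSystem S) (hF : F.IsSaturated p) {T : Subgroup Ω} (E : Cfsg.FusionSystem T) (hE : E.IsNormalIn F p) (hidx : E.HasPPowerIndexIn F p) {U V : Subgroup Ω} (Finf : Cfsg.FusionSystem U) (hFinf : Finf.IsResidualLimitOf F p) (Einf : Cfsg.FusionSystem V) (hEinf : Einf.IsResidualLimitOf E p) : ∀ P : Subgroup Ω, Finf.Hom P = Einf.Hom P := by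
  have hTS : T ≤ S := hE.1.2.2.2.1.1
  have := finite_of_le (Ω := Ω) hTS
  have hhyp := hyperfocal_eq hS hTS hE.1.1 hidx
  -- the `p`-residual of `F` is one of `E`
  obtain ⟨D, hD, hDi⟩ := exists_pPowerIndex hS hF (hyperfocal_le F p) le_rfl
  have hTle : F.hyperfocalSubgroup p ≤ T := hidx.2.1
  have hDE : D.HasPPowerIndexIn E p := by
    have hle : F.hyperfocalSubgroup p ≤ T := hidx.2.1
    obtain ⟨D₁, hD₁, hD₁i⟩ := exists_pPowerIndex (hS.to_le hTS) hE.1.1 hle hhyp.le
    have hD₁F : D₁.HasPPowerIndexIn F p := by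
      refine ⟨fun P φ hφ => hidx.1 P (hD₁i.1 P hφ), le_rfl, fun P hP => ?_⟩
      rw [pResidual, MonoidHom.map_closure, Subgroup.closure_le]
      rintro _ ⟨β, hβ, rfl⟩
      have hβE : (β : MulAut P) ∈ E.autGroup P :=
        hidx.2.2 P (hP.trans hle) ⟨β, Subgroup.subset_closure hβ, rfl⟩
      refine hD₁i.2.2 P hP ⟨⟨β, hβE⟩, Subgroup.subset_closure ?_, rfl⟩
      show Nat.Coprime (orderOf _) p
      rwa [Subgroup.orderOf_mk, Subgroup.orderOf_coe]
    obtain ⟨-, he⟩ := (same_pIndex hS (hyperfocal_le F p) rfl hD hDi hD₁ hD₁F).heq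
    rw [eq_of_heq he]
    exact hD₁i
  have hpH := hS.to_le (hyperfocal_le F p)
  have := finite_of_le (Ω := Ω) (hyperfocal_le F p)
  have hD' := PPrimeResidual.isPPrimeResidual_residual hpH hD
  have h1 := limit_of_step hS hF hFinf rfl D _ hD hDi hD'
  have h2 := limit_of_step (hS.to_le hTS) hE.1.1 hEinf hhyp.symm D _ hD hDE hD'
  exact (limit_unique h2 hpH hD'.1 Finf h1).2

end Cfsg.Agent.S5203
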