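import Cfsg.Statements.S5204
import Cfsg.Agent.Lib.Fusion.ConstrainedSubsystem
-- import your own Cfsg.Agent.* helpers here

set_option autoImplicit false
open Cfsg

namespace Cfsg.Agent.S5204

/-- The Glauberman–Thompson normal p-complement criterion for fusion systems, p odd. Let F be a saturated fusion system over a finite p-group S with p odd, and let Z(J(S)) be the centre of the subgroup generated by the abelian subgroups of S of largest order. Then F is the inner fusion system of S if and only if the normalizer fusion system of Z(J(S)) in F is the inner fusion system of N_S(Z(J(S))) = S. -/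
theorem result {Ω : Type*} [Group Ω] {S : Subgroup Ω} [Finite S] (p : ℕ) [Fact p.Prime] (hS : IsPGroup p S) (F : Cfsg.FusionSystem S) (hF : F.IsSaturated p) (hp : p ≠ 2) : (∀ P : Subgroup Ω, F.Hom P = (Cfsg.innerFusionSystem S).Hom P) ↔ ∀ N : Cfsg.FusionSystem (Cfsg.FusionSystem.normalizerIn S (Cfsg.centerThompsonAOf S)), F.IsNormalizerSystem (Cfsg.centerThompsonAOf S) N → ∀ P : Subgroup Ω, N.Hom P = (Cfsg.innerFusionSystem (Cfsg.FusionSystem.normalizerIn S (Cfsg.centerThompsonAOf S))).Hom P := by
  set W := Cfsg.centerThompsonAOf S with hW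
  have hn : S ≤ Subgroup.normalizer (W : Set Ω) := Fusion.le_normalizer_centerThompsonAOf S
  constructor
  · intro h N hN P
    rw [hN P]
    ext φ
    constructor
    · rintro ⟨hφF, hP, -, -⟩
      rw [h P] at hφF
      obtain ⟨hPS, g, hg, hx⟩ := hφF
      exact ⟨hP, g, ⟨hg, hn hg⟩, hx⟩
    · rintro ⟨hP, g, hg, hx⟩
      rw [show φ = conjHom P g from MonoidHom.ext hx, ← hN P]
      exact N.conj_mem hP hg
  · intro hN
    refine (Fusion.isInnerType_iff hS hF).1 ?_
    by_contra hne
    have hM := Fusion.moves_centerThompsonA_of_not_isInnerType hS hp hF hne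
    have hNs := Fusion.normalizerSystem_spec F W (Fusion.centerThompsonAOf_le S)
    refine hM.not_isInnerType hn rfl hNs fun P hP => ?_
    have hNh := hN _ hNs P
    refine (Fusion.isPGroup_autInducedBy ((hS.to_le (Fusion.normalizerIn_le S W))) P).to_le
      fun α hα => ?_
    have hm := (Fusion.mem_autGroup_iff hP).1 hα
    rw [hNh] at hm
    obtain ⟨-, g, hg, hx⟩ := hm
    exact Fusion.mem_autInducedBy_iff.2 ⟨g, hg, hx⟩

end Cfsg.Agent.S5204
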