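import Cfsg.Statements.S5206
import Cfsg.Agent.Lib.Qd.Centric
import Cfsg.Agent.Lib.Fusion.GroupModel
import Cfsg.Agent.Lib.Fusion.Constructions

set_option autoImplicit false
universe u
open Cfsg

namespace Cfsg.Agent.S5206

/-- Let p be an odd prime, G a finite group and P a Sylow p-subgroup of G. Then the fusion system of G on P is Qd(p)-free (Qd(p), the natural semidirect product of an elementary abelian group of order p² by SL₂(p), is not involved in any model of the normalizer system of a fully normalized centric subgroup) if and only if Qd(p) is not involved in G. -/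
theorem result {G : Type u} [Group G] [Finite G] {p : ℕ} [Fact p.Prime] (hp : p ≠ 2) (P : Sylow p G) : (Cfsg.groupFusionSystem (P : Subgroup G)).IsSectionFree p ↥(Cfsg.qd p) ↔ ¬ Cfsg.Involves ↥(Cfsg.qd p) G := by
  constructor
  · intro hfree hinv
    obtain ⟨R, hRp, hRc, hRi⟩ := Qd.exists_centric_involves_qd hp hinv
    obtain ⟨g₀, hg₀⟩ := Fusion.exists_conj_le P hRp
    obtain ⟨Q, hQconj, hQn⟩ :=
      Fusion.exists_fullyNormalized (Cfsg.groupFusionSystem (P : Subgroup G)) hg₀
    obtain ⟨-, hQP, g₁, hg₁⟩ := Fusion.group_isConj_iff.1 hQconj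
    rw [Fusion.map_conj_map_conj] at hg₁
    have hQc : (Cfsg.groupFusionSystem (P : Subgroup G)).IsCentric Q := by
      refine ⟨hQP, fun Q' hQ' => ?_⟩
      obtain ⟨-, -, g₂, hg₂⟩ := Fusion.group_isConj_iff.1 hQ'
      rw [← hg₁, Fusion.map_conj_map_conj] at hg₂
      generalize g₂ * (g₁ * g₀) = g at hg₂
      subst hg₂
      intro d hd
      have h1 : d ∈ (Subgroup.centralizer (R : Set G)).map (MulAut.conj g).toMonoidHom := by
        rw [Fusion.map_conj_centralizer]; exact hd.2
      rw [Fusion.mem_map_conj] at h1 ⊢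
      refine hRc ((Cfsg.FusionSystem.centralizerIn (P : Subgroup G)
        (R.map (MulAut.conj g).toMonoidHom)).map (MulAut.conj g⁻¹).toMonoidHom)
        ((Fusion.centralizerIn_isPGroup P _).map _) ?_ ⟨d, hd, by simp⟩
      rintro _ ⟨c, hc, rfl⟩
      have h2 : c ∈ (Subgroup.centralizer (R : Set G)).map (MulAut.conj g).toMonoidHom := by
        rw [Fusion.map_conj_centralizer]; exact hc.2
      rw [Fusion.mem_map_conj] at h2
      simpa using h2
    have hH : Cfsg.Involves ↥(Cfsg.qd p) ↥(Subgroup.normalizer (Q : Set G)) := by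
      let c := (MulAut.conj (g₁ * g₀)).toMonoidHom
      let e : ↥(Subgroup.normalizer (R : Set G)) ≃* ↥(Subgroup.normalizer (Q : Set G)) :=
        ((Subgroup.normalizer (R : Set G)).equivMapOfInjective c
          (MulAut.conj (g₁ * g₀)).injective).trans
          (MulEquiv.subgroupCongr (by rw [Fusion.map_conj_normalizer, hg₁]))
      refine ConjFun.involves_trans hRi (ConjFun.involves_of_surjective ⊤
        (e.symm.toMonoidHom.comp (⊤ : Subgroup ↥(Subgroup.normalizer (Q : Set G))).subtype) ?_)
      exact fun y => ⟨⟨e y, trivial⟩, e.symm_apply_apply y⟩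
    exact hfree Q hQn hQc _ (Fusion.normalizerSystem_spec _ Q hQP) _
      (Fusion.GroupModel.proj (p := p) (P : Subgroup G) Q)
      (Fusion.GroupModel.exists_group_model P hQn hQc _ (Fusion.normalizerSystem_spec _ Q hQP))
      (Qd.involves_qd_quotient_of_coprime _ PCore.coprime_card_pPrimeCore hH)
  · intro hno Q hQn hQc N hN L _ ι hL hinv
    obtain ⟨e⟩ := Fusion.GroupModel.equiv_group_model P hQn hQc N hN ι hL
    refine hno (ConjFun.involves_trans hinv (ConjFun.involves_trans
      (ConjFun.involves_of_surjective ⊤ (e.symm.toMonoidHom.comp (Subgroup.subtype _))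
        fun y => ⟨⟨e y, trivial⟩, e.symm_apply_apply y⟩)
      (ConjFun.involves_trans (ConjFun.involves_quotient _) (ConjFun.involves_subgroup _))))

end Cfsg.Agent.S5206
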