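import Cfsg.Statements.S5212
import Cfsg.Agent.Lib.Fusion.MetacyclicClosed

set_option autoImplicit false
open Cfsg Cfsg.Agent.Fusion Cfsg.Agent.PGroup.MetacyclicTwo

namespace Cfsg.Agent.S5212

/-- Let S be a finite metacyclic 2-group that is not homocyclic abelian (a direct product of cyclic groups of one common order), not dihedral, not semidihedral and not generalized quaternion. Then every saturated fusion system over S is the inner fusion system of S. -/
theorem result {Ω : Type*} [Group Ω] {S : Subgroup Ω} [Finite S] (hS : IsPGroup 2 S) (F : Cfsg.FusionSystem S) (hF : F.IsSaturated 2) (hm : Cfsg.IsMetacyclic ↥S) (hh : ¬ ∃ n k : ℕ, Nonempty (↥S ≃* Multiplicative (Fin k → ZMod (2 ^ n)))) (hd : ¬ ∃ m : ℕ, Nonempty (↥S ≃* DihedralGroup m)) (hq : ¬ ∃ m : ℕ, Nonempty (↥S ≃* QuaternionGroup m)) (hsd : ¬ Cfsg.IsQuasiDihedral ↥S) : ∀ P : Subgroup Ω, F.Hom P = (Cfsg.innerFusionSystem S).Hom P := by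
  have hexc : ¬ Exceptional ↥S := by
    rintro (h | h | h)
    exacts [hd h, hq h, hsd h]
  have : Fact (Nat.Prime 2) := ⟨Nat.prime_two⟩
  have hSc : F.StronglyClosed S := ⟨le_rfl, fun R _ φ hφ x => apply_mem hφ x⟩
  have hN := MetacyclicClosed.isNormal hS hF hSc hm hexc
  have hA : IsPGroup 2 (F.autGroup S) := by
    have := finite_autGroup (F := F) (le_refl S)
    refine isPGroup_of_coprime_orderOf_eq_one fun α hα => Subtype.ext ?_
    by_contra hne
    rw [← Subgroup.orderOf_coe] at hα
    rcases homocyclic_or_quaternion_of_odd_aut hS hm (Nat.coprime_two_right.1 hα) hne with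
      ⟨n, hn, hab, hcard, hexp⟩ | ⟨-, i, j, hi, hj, hji⟩
    swap
    · exact hexc (exceptional_of_quaternion hS hm hi hj hji)
    obtain ⟨a, b, hab'⟩ := PGroup.exists_metaGen hm
    obtain ⟨-, -, ⟨e⟩⟩ := MetacyclicClosed.homocyclic_basis hab (N := 2 ^ n)
      (by rw [hcard, ← pow_add, two_mul]) hexp hab'.closure_eq
    refine hh ⟨n, 2, ⟨e.trans ?_⟩⟩
    exact
      { toFun := fun q => Multiplicative.ofAdd ![q.1.toAdd, q.2.toAdd]
        invFun := fun f => (Multiplicative.ofAdd (f.toAdd 0), Multiplicative.ofAdd (f.toAdd 1))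
        left_inv := fun q => by simp
        right_inv := fun f => Multiplicative.toAdd.injective (funext fun i => by
          fin_cases i <;> simp)
        map_mul' := fun q q' => Multiplicative.toAdd.injective (funext fun i => by
          fin_cases i <;> simp) }
  intro P
  ext φ
  constructor
  · intro hφ
    obtain ⟨ψ, hψ, he, hψm⟩ := hN.2 P φ hφ
    have hsup : P ⊔ S = S := sup_eq_right.2 (dom_le hφ)
    have hψS := restrict_mem hψ hsup.ge
    have hr := range_eq_of_le hψS le_rfl (fun y => apply_mem hψS y) le_rfl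
    obtain ⟨g, hg, hx⟩ := mem_autInducedBy_iff.1
      (autGroup_eq_of_isPGroup (isFullyAutomized_self hS hF) hA (toAut_mem hψS hr))
    refine ⟨dom_le hφ, g, hg, fun x => ?_⟩
    rw [← he x]
    exact hx ⟨x, dom_le hφ x.2⟩
  · rintro ⟨hP, g, hg, hx⟩
    exact mem_of_conj hP hg hx

end Cfsg.Agent.S5212
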