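import Cfsg.Statements.S5213
import Cfsg.Agent.Lib.AlperinRankTwo.Systems

set_option autoImplicit false
open Cfsg

namespace Cfsg.Agent.S5213

/-- Let S be a finite 2-group of 2-rank 2 (it has an elementary abelian subgroup of order 4 and none of order 8) and F a saturated fusion system over S with trivial centre. Then S is dihedral, semidihedral, wreathed, homocyclic abelian (a direct product of cyclic groups of one common order), or isomorphic to a Sylow 2-subgroup of the projective special unitary group PSU₃(4) (realised over the field with 16 elements). -/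
theorem result {Ω : Type*} [Group Ω] {S : Subgroup Ω} [Finite S] (hS : IsPGroup 2 S) (F : Cfsg.FusionSystem S) (hF : F.IsSaturated 2) (hr : Cfsg.PRankAtLeast 2 2 ↥S ∧ ¬ Cfsg.PRankAtLeast 2 3 ↥S) (hZ : F.center = ⊥) {K : Type*} [Field K] [Fintype K] (hK : Fintype.card K = 16) : (∃ m : ℕ, Nonempty (↥S ≃* DihedralGroup m)) ∨ Cfsg.IsQuasiDihedral ↥S ∨ Cfsg.IsWreathed ↥S ∨ (∃ n k : ℕ, Nonempty (↥S ≃* Multiplicative (Fin k → ZMod (2 ^ n)))) ∨ ∃ T : Sylow 2 (Cfsg.PSU 3 K 4), Nonempty (↥S ≃* ↥(T : Subgroup (Cfsg.PSU 3 K 4))) := by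
  haveI : Fact (Nat.Prime 2) := ⟨Nat.prime_two⟩
  obtain ⟨hr2, hr3⟩ := hr
  have h2 : Cfsg.PRankLE 2 2 ↥S := by
    intro A hA hsq
    by_contra hlt
    obtain ⟨k, hk⟩ := (hS.to_subgroup A).exists_card_eq
    rw [hk] at hlt
    have : 3 ≤ k := by
      by_contra hk3
      exact hlt (Nat.pow_le_pow_right two_pos (by omega))
    exact hr3 ⟨A, hA, hsq, hk ▸ Nat.pow_le_pow_right two_pos this⟩
  have h1 : ¬ Cfsg.PRankLE 2 1 ↥S := by
    intro h
    obtain ⟨A, hA, hsq, hle⟩ := hr2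
    have := h A hA hsq
    omega
  let P : Sylow 2 (Cfsg.PSU 3 K 4) := default
  rcases AlperinRankTwo.shapes hS h2 h1 (AlperinRankTwo.data_of_center_eq_bot hS hF hZ) hK P with
    ⟨m, -, hm⟩ | h | h | ⟨n, -, ⟨e⟩⟩ | h
  · exact Or.inl ⟨m, hm⟩
  · exact Or.inr (Or.inl h)
  · exact Or.inr (Or.inr (Or.inl h))
  · exact Or.inr (Or.inr (Or.inr (Or.inl ⟨n, 2, ⟨e.trans
      (AddEquiv.toMultiplicative (RingEquiv.piFinTwo fun _ => ZMod (2 ^ n)).toAddEquiv.symm)⟩⟩)))
  · exact Or.inr (Or.inr (Or.inr (Or.inr ⟨P, h⟩)))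

end Cfsg.Agent.S5213
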