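import Cfsg.Statements.S5226
import Cfsg.Agent.Lib.Fusion.NormalCriteria
-- import your own Cfsg.Agent.* helpers here

set_option autoImplicit false
open Cfsg
open scoped commutatorElement

namespace Cfsg.Agent.S5226

/-- Let F be a saturated fusion system over a finite p-group S and Q a subgroup of S. Then Q is normal in F (F equals the normalizer system of Q) if and only if Q is strongly closed in F and admits a central series 1 = Q₀ ≤ Q₁ ≤ ⋯ ≤ Qₙ = Q ([Qᵢ₊₁, Q] ≤ Qᵢ) all of whose proper terms are weakly closed in F. -/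
theorem result {Ω : Type*} [Group Ω] {S : Subgroup Ω} [Finite S] (p : ℕ) [Fact p.Prime] (hS : IsPGroup p S) (F : Cfsg.FusionSystem S) (hF : F.IsSaturated p) (Q : Subgroup Ω) : F.IsNormal Q ↔ F.StronglyClosed Q ∧ ∃ (n : ℕ) (C : Fin (n + 1) → Subgroup Ω), C 0 = ⊥ ∧ C (Fin.last n) = Q ∧ Monotone C ∧ (∀ i : Fin n, ⁅C i.succ, Q⁆ ≤ C i.castSucc) ∧ ∀ i : Fin n, F.WeaklyClosed (C i.castSucc) := by
  constructor
  · intro hQ
    obtain ⟨n, T, h0, hn, hm, hT, hc⟩ := Fusion.exists_chain_of_isNormal hS hQ
    refine ⟨Fusion.stronglyClosed_of_isNormal hQ, n, fun i => T i, h0, hn,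
      fun i j hij => hm hij, fun i => ?_, fun i => ?_⟩
    · rw [Subgroup.commutator_comm]
      exact hc i i.isLt
    · have hcl := Fusion.stronglyClosed_of_isNormal (hT (i : ℕ))
      exact ⟨hcl.1, fun φ hφ => Fusion.range_eq_of_le hφ hcl.1 (hcl.2 _ le_rfl φ hφ) le_rfl⟩
  · rintro ⟨hQ, n, C, hC0, hCn, hmono, hcomm, hweak⟩
    refine Fusion.isNormal_of_stronglyClosed hS hF hQ fun R _ hRc hRr => ?_
    have hRS := hRc.1
    have := Fusion.finite_of_le hRS
    let D : ℕ → Subgroup Ω := fun i => if h : i < n + 1 then C ⟨i, h⟩ else ⊤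
    have hD : ∀ i (h : i < n + 1), D i = C ⟨i, h⟩ := fun i h => dif_pos h
    have hDQ : ∀ i ≤ n, D i ≤ Q := fun i hi => by
      rw [hD i (by omega), ← hCn]
      exact hmono (Fin.le_last _)
    have hDm : ∀ i j, i ≤ j → j ≤ n → D i ≤ D j := fun i j hij hj => by
      rw [hD i (by omega), hD j (by omega)]
      exact hmono hij
    have hDc : ∀ i < n, ⁅D (i + 1), Q⁆ ≤ D i := fun i hi => by
      rw [hD i (by omega), hD (i + 1) (by omega)]
      exact hcomm ⟨i, hi⟩
    have hDw : ∀ i < n, F.WeaklyClosed (D i) := fun i hi => by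
      rw [hD i (by omega)]
      exact hweak ⟨i, hi⟩
    have hDn : D n = Q := (hD n (by omega)).trans hCn
    suffices H : ∀ i ≤ n, D i ≤ R from hDn ▸ H n le_rfl
    intro i
    induction i with
    | zero =>
      intro _
      rw [hD 0 (by omega), show C ⟨0, _⟩ = ⊥ from hC0]
      exact bot_le
    | succ i ih =>
      intro hi
      have hle : ∀ j ≤ i, D j ≤ R := fun j hj => (hDm j i hj (by omega)).trans (ih (by omega))
      let U : ℕ → Subgroup ↥R := fun j =>
        if j ≤ i then (D j).subgroupOf R else if j = i + 1 then Q.subgroupOf R else ⊤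
      have hU : ∀ (a : F.autGroup R) (j : ℕ), ∀ x ∈ U j, (a : MulAut ↥R) x ∈ U j := by
        intro a j x hx
        by_cases hj : j ≤ i
        · simp only [U, if_pos hj] at hx ⊢
          have hres := Fusion.restrict_mem (Fusion.hom_of_mem_autGroup hRS a.2).1 (hle j hj)
          exact Subgroup.mem_subgroupOf.2 (((hDw j (by omega)).2 _ hres).le ⟨⟨x, hx⟩, rfl⟩)
        · by_cases hj' : j = i + 1
          · simp only [U, if_neg hj, if_pos hj'] at hx ⊢
            exact Subgroup.mem_subgroupOf.2 (Fusion.apply_mem_of_stronglyClosed hQ hRS a.2 hx)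
          · simp [U, if_neg hj, if_neg hj']
      have := Fusion.seriesStabilizer_normal (F.autGroup R) U hU
      have hnorm : S ≤ Subgroup.normalizer ((D (i + 1) : Subgroup Ω) : Set Ω) := by
        rcases eq_or_lt_of_le hi with h | h
        · rw [h, hDn]
          exact Fusion.le_normalizer_of_stronglyClosed hQ
        · intro g hg
          obtain ⟨hle', hw⟩ := hDw (i + 1) h
          have h1 := hw _ (F.conj_mem hle' hg)
          have h2 := hw _ (F.conj_mem hle' (S.inv_mem hg))
          refine Subgroup.mem_normalizer_iff.2 fun y => ⟨fun hy => h1.le ⟨⟨y, hy⟩, rfl⟩, fun hy => ?_⟩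
          have := h2.le ⟨⟨_, hy⟩, rfl⟩
          simpa [Fusion.conjHom_apply, mul_assoc] using this
      refine Fusion.le_of_autInducedBy_le hS ((hDQ _ hi).trans hQ.1) hnorm hRc hRr
        (Fusion.seriesStabilizer (F.autGroup R) U hU) ?_ ?_
      · refine Fusion.isPGroup_seriesStabilizer (hS.to_le hRS) _ U hU ?_ (m := i + 2) ?_
        · simp only [U, if_pos (Nat.zero_le i), hD 0 (by omega), show C ⟨0, _⟩ = ⊥ from hC0]
          simp
        · simp [U]
      · intro g hg hgN hm j x hx
        have hcalc : ∀ A : Subgroup Ω, ⁅(x : Ω)⁻¹, g⁆ ∈ A →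
            x⁻¹ * ((⟨Fusion.conjAut hgN, hm⟩ : ↥(F.autGroup R)) : MulAut ↥R) x ∈ A.subgroupOf R := by
          intro A hA
          refine Subgroup.mem_subgroupOf.2 ?_
          show (x : Ω)⁻¹ * (g * x * g⁻¹) ∈ A
          rw [commutatorElement_def] at hA
          simpa [mul_assoc] using hA
        by_cases hj : j + 1 ≤ i
        · simp only [U, if_pos hj] at hx
          simp only [U, if_pos (show j ≤ i by omega)]
          exact hcalc _ (hDc j (by omega) (Subgroup.commutator_mem_commutator
            (Subgroup.inv_mem _ hx) (hDQ _ hi hg)))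
        · by_cases hj' : j = i
          · subst hj'
            simp only [U, if_neg hj, if_pos] at hx
            simp only [U, if_pos le_rfl]
            refine hcalc _ ?_
            rw [← commutatorElement_inv]
            exact Subgroup.inv_mem _ (hDc j (by omega) (Subgroup.commutator_mem_commutator hg
              (Subgroup.inv_mem _ hx)))
          · by_cases hj'' : j = i + 1
            · simp only [U, if_neg (show ¬ j ≤ i by omega), if_pos hj'']
              refine hcalc _ ?_
              have hxN := Fusion.le_normalizer_of_stronglyClosed hQ (S.inv_mem (hRS x.2))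
              have h1 := (Subgroup.mem_normalizer_iff.1 hxN g).1 (hDQ _ hi hg)
              rw [commutatorElement_def]
              exact Q.mul_mem h1 (Q.inv_mem (hDQ _ hi hg))
            · simp [U, if_neg (show ¬ j ≤ i by omega), if_neg hj'']

end Cfsg.Agent.S5226
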