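import Cfsg.Statements.S5214
import Cfsg.Agent.S5226
import Cfsg.Agent.Lib.SuzukiTwo.Structure

set_option autoImplicit false
open Cfsg

namespace Cfsg.Agent.S5214

/-- Let S be a Suzuki 2-group (a finite nonabelian 2-group with more than one involution admitting a cyclic group of automorphisms permuting its involutions regularly). Then S is normal in every saturated fusion system over S (such a group is resistant). -/
theorem result {Ω : Type*} [Group Ω] {S : Subgroup Ω} [Finite S] (hS : IsPGroup 2 S) (F : Cfsg.FusionSystem S) (hF : F.IsSaturated 2) (hsz : Cfsg.IsSuzukiTwoGroup ↥S) : F.IsNormal S := by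
  obtain ⟨-, K, hK⟩ := SuzukiTwo.exists_sz hsz
  have : Fact (Nat.Prime 2) := ⟨Nat.prime_two⟩
  refine (S5226.result 2 hS F hF S).2 ⟨⟨le_rfl, fun R _ φ hφ x => (F.le_of_mem hφ).2 x⟩, ?_⟩
  let Z : Subgroup Ω := (SuzukiTwo.invSub ↥S).map S.subtype
  have hmem : ∀ x, x ∈ Z ↔ x ∈ S ∧ x * x = 1 := by
    intro x
    constructor
    · rintro ⟨y, hy, rfl⟩
      exact ⟨y.2, congrArg Subtype.val (hK.mem_invSub.1 hy)⟩
    · rintro ⟨hx, hx2⟩
      exact ⟨⟨x, hx⟩, hK.mem_invSub.2 (Subtype.ext hx2), rfl⟩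
  have hZS : Z ≤ S := fun x hx => ((hmem x).1 hx).1
  refine ⟨2, ![⊥, Z, S], rfl, rfl, ?_, ?_, ?_⟩
  · refine Fin.monotone_iff_le_succ.2 fun i => ?_
    fin_cases i
    · exact bot_le
    · exact hZS
  · intro i
    fin_cases i
    · refine Subgroup.commutator_le.2 fun z hz g hg => ?_
      have h := hK.commute (z := (⟨z, hZS hz⟩ : S)) (Subtype.ext ((hmem z).1 hz).2) ⟨g, hg⟩
      refine Subgroup.mem_bot.2 (commutatorElement_eq_one_iff_mul_comm.2 ?_)
      exact (congrArg Subtype.val h).symm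
    · refine Subgroup.commutator_le.2 fun x hx g hg => ?_
      refine (hmem _).2 ⟨?_, ?_⟩
      · exact mul_mem (mul_mem (mul_mem hx hg) (inv_mem hx)) (inv_mem hg)
      · exact congrArg Subtype.val (hK.cm_sq ⟨x, hx⟩ ⟨g, hg⟩)
  · intro i
    have hbot : F.WeaklyClosed ⊥ := by
      refine ⟨bot_le, fun φ _ => ?_⟩
      rw [eq_bot_iff]
      rintro _ ⟨⟨x, hx⟩, rfl⟩
      rw [Subgroup.mem_bot] at hx ⊢
      rw [show (⟨x, _⟩ : (⊥ : Subgroup Ω)) = 1 from Subtype.ext hx, map_one]
    have hZw : F.WeaklyClosed Z := by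
      refine ⟨hZS, fun φ hφ => ?_⟩
      have hle : φ.range ≤ Z := by
        rintro _ ⟨x, rfl⟩
        refine (hmem _).2 ⟨(F.le_of_mem hφ).2 x, ?_⟩
        rw [← map_mul, show x * x = 1 from Subtype.ext ((hmem x).1 x.2).2, map_one]
      have : Finite Z := Finite.of_injective _ (Subgroup.inclusion_injective hZS)
      exact Subgroup.eq_of_le_of_card_ge hle
        (Nat.card_congr (MonoidHom.ofInjective (F.injective_of_mem hφ)).toEquiv).le
    fin_cases i
    · exact hbot
    · exact hZw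

end Cfsg.Agent.S5214
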