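import Cfsg.Statements.S5218
import Cfsg.Agent.Lib.Fusion.StrongInduction
import Cfsg.Agent.Lib.Fusion.PowerFixed
import Cfsg.Agent.Lib.PGroup.ElementaryAbelian
-- import your own Cfsg.Agent.* helpers here

set_option autoImplicit false
open Cfsg
open scoped commutatorElement Pointwise IsMulCommutative

namespace Cfsg.Agent.S5218

/-- The action of `Aut(R)` on the centre of `R`. -/
def centerEnd {R : Type*} [Group R] :
    MulAut R →* AddMonoid.End (Additive ↥(Subgroup.center R)) where
  toFun a := MonoidHom.toAdditive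
    ((a.toMonoidHom.comp (Subgroup.center R).subtype).codRestrict (Subgroup.center R) fun z =>
      Subgroup.mem_center_iff.2 fun y => by
        obtain ⟨w, rfl⟩ := a.surjective y
        show a w * a (z : R) = a (z : R) * a w
        rw [← map_mul, ← map_mul, Subgroup.mem_center_iff.1 z.2 w])
  map_one' := rfl
  map_mul' _ _ := rfl

/-- Let p be a prime, n a natural number, S a nontrivial finite p-group of nilpotence class at most n(p−1)+1, and F a saturated fusion system over S. Then the subgroup generated by the pⁿ-th powers of the elements of Z(S) is normal in F. -/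
theorem result {Ω : Type*} [Group Ω] {S : Subgroup Ω} [Finite S] (p : ℕ) [Fact p.Prime] (hS : IsPGroup p S) (F : Cfsg.FusionSystem S) (hF : F.IsSaturated p) (n : ℕ) (hS1 : S ≠ ⊥) (hcl : Subgroup.lowerCentralSeries S (n * (p - 1) + 1) = ⊥) : F.IsNormal (Cfsg.powerClosure p n (S ⊓ Subgroup.centralizer (S : Set Ω))) := by
  set Z : Subgroup Ω := S ⊓ Subgroup.centralizer (S : Set Ω) with hZ
  set W : Subgroup Ω := Cfsg.powerClosure p n Z with hW
  have hWZ : W ≤ Z := PGroup.powerClosure_le Z n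
  have hWS : W ≤ S := hWZ.trans inf_le_left
  refine Fusion.isNormal_of_step hS hF hWS (fun g hg => ?_) ?_
  · refine Subgroup.centralizer_le_normalizer _ fun y hy => ?_
    exact ((hWZ hy).2 g hg).symm
  intro R hn hc hrad hbig
  have hRS := hn.1
  have hZR : Z ≤ R := fun z hz =>
    hc.2 R (Fusion.isConj_refl F hRS) ⟨hz.1, fun x hx => hz.2 x (hRS hx)⟩
  have hWR : W ≤ R := hWZ.trans hZR
  refine ⟨hWR, fun α hα x hx => ?_⟩
  -- it is enough to treat the generators
  suffices hgen : ∀ z ∈ Z, ∀ hz : z ^ p ^ n ∈ R, ((α ⟨z ^ p ^ n, hz⟩ : ↥R) : Ω) ∈ W by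
    have hle : W ≤ ((W.comap R.subtype).comap α.toMonoidHom).map R.subtype := by
      rw [hW, PGroup.powerClosure_le_iff]
      intro z hz
      exact ⟨⟨_, hWR (PGroup.pow_mem_powerClosure hz n)⟩, hgen z hz _, rfl⟩
    obtain ⟨y, hy, he⟩ := hle hx
    exact (Subtype.ext he : y = x) ▸ hy
  intro z hz hzn
  rcases hRS.eq_or_lt with rfl | hlt
  · -- `R = S`
    have hzc : ((α ⟨z, hz.1⟩ : ↥R) : Ω) ∈ Z := by
      refine ⟨(α _).2, fun y hy => ?_⟩
      obtain ⟨w, hw⟩ := α.surjective ⟨y, hy⟩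
      have h1 : α w * α ⟨z, hz.1⟩ = α ⟨z, hz.1⟩ * α w := by
        rw [← map_mul, ← map_mul]
        exact congrArg α (Subtype.ext (hz.2 w w.2))
      rw [hw] at h1
      exact congrArg Subtype.val h1
    have h2 := PGroup.pow_mem_powerClosure (p := p) hzc n
    rw [show (⟨z ^ p ^ n, hzn⟩ : ↥R) = (⟨z, hz.1⟩ : ↥R) ^ p ^ n from Subtype.ext (by simp), map_pow,
      SubgroupClass.coe_pow]
    exact h2
  have := Fusion.finite_of_le hRS
  have := Fusion.finite_mulAut (Ω := Ω) hRS
  obtain ⟨-, T, hT⟩ := Fusion.isFullyAutomized_of_fullyNormalized hS hF hn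
  -- the action on the centre of `R`
  let ρ : ↥(F.autGroup R) →* AddMonoid.End (Additive ↥(Subgroup.center ↥R)) :=
    centerEnd.comp (F.autGroup R).subtype
  have hρ : ∀ (a : ↥(F.autGroup R)) (v : ↥(Subgroup.center ↥R)),
      (((Additive.toMul (ρ a (Additive.ofMul v)) : ↥(Subgroup.center ↥R)) : ↥R)) =
        (a : MulAut ↥R) (v : ↥R) := fun a v => rfl
  have hdeg : ∀ t ∈ T, (ρ t - 1) ^ (n * (p - 1) + 1) = 0 := by
    intro t ht
    have ht' : (t : MulAut ↥R) ∈ Cfsg.autInducedBy S R := by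
      have : t ∈ (T : Subgroup (F.autGroup R)) := ht
      rwa [hT] at this
    obtain ⟨g, hg, hgx⟩ := Fusion.mem_autInducedBy_iff.1 ht'
    have key : ∀ (k : ℕ) (v : Additive ↥(Subgroup.center ↥R)),
        (((Additive.toMul (((ρ t - 1) ^ k) v) : ↥(Subgroup.center ↥R)) : ↥R) : Ω) ∈
          Subgroup.lowerCentralSeries S k := by
      intro k
      induction k with
      | zero => intro v; exact hRS (Subtype.property _)
      | succ k ih =>
        intro v
        rw [pow_succ', AddMonoid.End.coe_mul, Function.comp_apply]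
        set w := ((ρ t - 1) ^ k) v with hw
        have he : (((Additive.toMul ((ρ t - 1) w) : ↥(Subgroup.center ↥R)) : ↥R) : Ω) =
            ⁅g, (((Additive.toMul w : ↥(Subgroup.center ↥R)) : ↥R) : Ω)⁆ := by
          show ((((Additive.toMul (ρ t w)) / Additive.toMul w : ↥(Subgroup.center ↥R)) : ↥R) : Ω) = _
          simp only [div_eq_mul_inv, Subgroup.coe_mul, Subgroup.coe_inv, commutatorElement_def]
          rw [show ((Additive.toMul (ρ t w) : ↥(Subgroup.center ↥R)) : ↥R) =
            (t : MulAut ↥R) (Additive.toMul w : ↥(Subgroup.center ↥R)) from hρ t (Additive.toMul w),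
            hgx]
        rw [he, Subgroup.lowerCentralSeries_succ, Subgroup.commutator_comm]
        exact Subgroup.commutator_mem_commutator hg (ih v)
    refine AddMonoidHom.ext fun v => ?_
    have := key (n * (p - 1) + 1) v
    rw [hcl, Subgroup.mem_bot, OneMemClass.coe_eq_one, OneMemClass.coe_eq_one] at this
    exact this
  let v : Additive ↥(Subgroup.center ↥R) := Additive.ofMul ⟨⟨z, hZR hz⟩,
    Subgroup.mem_center_iff.2 fun y => Subtype.ext (hz.2 y (hRS y.2))⟩
  have hv : ∀ t ∈ T, ρ t v = v := by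
    intro t ht
    have ht' : (t : MulAut ↥R) ∈ Cfsg.autInducedBy S R := by
      have : t ∈ (T : Subgroup (F.autGroup R)) := ht
      rwa [hT] at this
    obtain ⟨g, hg, hgx⟩ := Fusion.mem_autInducedBy_iff.1 ht'
    refine Additive.toMul.injective (Subtype.ext (Subtype.ext ?_))
    refine (congrArg Subtype.val (hρ t _)).trans ((hgx _).trans ?_)
    show g * z * g⁻¹ = z
    rw [hz.2 g hg, mul_inv_cancel_right]
  let K : Subgroup ↥(F.autGroup R) := Subgroup.closure {a | ∃ k, a ^ p ^ k = 1}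
  have hKn : K.Normal := by
    refine ⟨fun a ha b => ?_⟩
    induction ha using Subgroup.closure_induction with
    | mem a ha =>
      obtain ⟨k, hk⟩ := ha
      exact Subgroup.subset_closure ⟨k, by rw [conj_pow, hk, mul_one, mul_inv_cancel]⟩
    | one => simp
    | mul a c _ _ ha hc => rw [← conj_mul]; exact K.mul_mem ha hc
    | inv a _ ha => rw [← conj_inv]; exact K.inv_mem ha
  have hKfix : ∀ a ∈ K, ρ a (p ^ n • v) = p ^ n • v := by
    intro a ha
    exact (Subgroup.closure_le (K := Fusion.fixer ρ (p ^ n • v))).2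
      (fun b hb => Fusion.pElement_fixes ρ le_rfl T hdeg hv hb) ha
  have hKT : ∀ a : ↥(F.autGroup R), (a : MulAut ↥R) ∈ Cfsg.autInducedBy S R → a ∈ K := by
    intro a ha
    have haT : a ∈ (T : Subgroup (F.autGroup R)) := by rw [hT]; exact ha
    obtain ⟨k, hk⟩ := T.2 ⟨a, haT⟩
    exact Subgroup.subset_closure ⟨k, congrArg Subtype.val hk⟩
  obtain ⟨k, hk, m, hkm, hm⟩ :=
    Fusion.exists_mul_normalizes ⟨hRS, T, hT⟩ K hKT ⟨α, hα⟩
  -- `m` extends to the normalizer, where the induction hypothesis applies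
  obtain ⟨ψ, hψ, hψe⟩ := Fusion.exists_extension_of_normalizes
    (Fusion.isReceptive_of_fullyNormalized hS hF hn) m.2 hm
  have hlt' := Fusion.lt_normalizerIn hS hlt
  have hWm : (((m : MulAut ↥R) ⟨z ^ p ^ n, hzn⟩ : ↥R) : Ω) ∈ W := by
    rw [← hψe ⟨z ^ p ^ n, hzn⟩ (hlt'.le hzn)]
    exact (hbig _ (Fusion.card_lt_of_lt (Fusion.normalizerIn_le S R) hlt') ψ hψ).apply_mem _
      (PGroup.pow_mem_powerClosure hz n)
  -- `k` fixes the elements of `W`
  have hWfix : ∀ (w : Ω) (hw : w ∈ W) (hwR : w ∈ R), (k : MulAut ↥R) ⟨w, hwR⟩ = ⟨w, hwR⟩ := by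
    intro w hw hwR
    have hle : W ≤ (MonoidHom.eqLocus ((k : MulAut ↥R) : ↥R →* ↥R) (MonoidHom.id ↥R)).map R.subtype := by
      rw [hW, PGroup.powerClosure_le_iff]
      intro z' hz'
      refine ⟨⟨_, hWR (PGroup.pow_mem_powerClosure hz' n)⟩, ?_, rfl⟩
      let v' : Additive ↥(Subgroup.center ↥R) := Additive.ofMul ⟨⟨z', hZR hz'⟩,
        Subgroup.mem_center_iff.2 fun y => Subtype.ext (hz'.2 y (hRS y.2))⟩
      have hv' : ∀ t ∈ T, ρ t v' = v' := by
        intro t ht
        have ht' : (t : MulAut ↥R) ∈ Cfsg.autInducedBy S R := by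
          have : t ∈ (T : Subgroup (F.autGroup R)) := ht
          rwa [hT] at this
        obtain ⟨g, hg, hgx⟩ := Fusion.mem_autInducedBy_iff.1 ht'
        refine Additive.toMul.injective (Subtype.ext (Subtype.ext ?_))
        refine (congrArg Subtype.val (hρ t _)).trans ((hgx _).trans ?_)
        show g * z' * g⁻¹ = z'
        rw [hz'.2 g hg, mul_inv_cancel_right]
      have hfix : ρ k (p ^ n • v') = p ^ n • v' :=
        (Subgroup.closure_le (K := Fusion.fixer ρ (p ^ n • v'))).2
          (fun b hb => Fusion.pElement_fixes ρ le_rfl T hdeg hv' hb) hk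
      have hfix' := congrArg (fun u : Additive ↥(Subgroup.center ↥R) =>
        ((Additive.toMul u : ↥(Subgroup.center ↥R)) : ↥R)) hfix
      replace hfix' := (hρ k (Additive.toMul (p ^ n • v'))).symm.trans hfix'
      have hval : ((Additive.toMul (p ^ n • v') : ↥(Subgroup.center ↥R)) : ↥R) =
          (⟨z' ^ p ^ n, hWR (PGroup.pow_mem_powerClosure hz' n)⟩ : ↥R) :=
        Subtype.ext (by simp [v', toMul_nsmul])
      rw [hval] at hfix'
      exact hfix'
    obtain ⟨y, hy, he⟩ := hle hw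
    exact (Subtype.ext he : y = ⟨w, hwR⟩) ▸ hy
  rw [show α = ((k * m : ↥(F.autGroup R)) : MulAut ↥R) from congrArg Subtype.val hkm,
    Fusion.comp_aut_apply]
  rw [show (m : MulAut ↥R) ⟨z ^ p ^ n, hzn⟩ = ⟨_, ((m : MulAut ↥R) ⟨z ^ p ^ n, hzn⟩).2⟩ from rfl,
    hWfix _ hWm]
  exact hWm

end Cfsg.Agent.S5218
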