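import Cfsg.Statements.S5219
import Cfsg.Agent.S5218
import Cfsg.Agent.Lib.PGroup.Class2
-- import your own Cfsg.Agent.* helpers here

set_option autoImplicit false
open Cfsg
open scoped commutatorElement

namespace Cfsg.Agent.S5219

/-- If the centre has exponent dividing `m` then so has every factor of the upper central series. -/
theorem pow_mem_upperCentralSeries {G : Type*} [Group G] {m : ℕ}
    (h : ∀ z ∈ Subgroup.center G, z ^ m = 1) :
    ∀ (i : ℕ) (x : G), x ∈ Subgroup.upperCentralSeries G (i + 1) →
      x ^ m ∈ Subgroup.upperCentralSeries G i := by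
  intro i
  induction i with
  | zero =>
    intro x hx
    rw [Subgroup.upperCentralSeries_one] at hx
    rw [Subgroup.upperCentralSeries_zero, Subgroup.mem_bot]
    exact h x hx
  | succ i ih =>
    intro x hx
    rw [Subgroup.mem_upperCentralSeries_succ_iff]
    intro y
    let π := QuotientGroup.mk' (Subgroup.upperCentralSeries G i)
    have hxy : ⁅x, y⁆ ∈ Subgroup.upperCentralSeries G (i + 1) :=
      Subgroup.mem_upperCentralSeries_succ_iff.1 hx y
    have hc : ⁅π x, π y⁆ ∈ Subgroup.center (G ⧸ Subgroup.upperCentralSeries G i) := by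
      rw [← map_commutatorElement, Subgroup.mem_center_iff]
      intro q
      obtain ⟨w, rfl⟩ := QuotientGroup.mk'_surjective _ q
      rw [← commutatorElement_eq_one_iff_mul_comm, ← map_commutatorElement, ← commutatorElement_inv,
        map_inv, inv_eq_one]
      exact (QuotientGroup.eq_one_iff _).2 (Subgroup.mem_upperCentralSeries_succ_iff.1 hxy w)
    have h1 := PGroup.commutator_pow_left hc m
    rw [← map_pow, ← map_commutatorElement, ← map_commutatorElement, ← map_pow] at h1
    have h2 : (π ⁅x ^ m, y⁆) = 1 := by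
      rw [h1]
      exact (QuotientGroup.eq_one_iff _).2 (ih _ hxy)
    exact (QuotientGroup.eq_one_iff _).1 h2

/-- Let p be a prime, n a natural number, S a nontrivial finite p-group of nilpotence class at most n(p−1)+1, and F a saturated fusion system over S with no nontrivial normal subgroup (O_p(F) = 1). Then S has exponent dividing p^(n²(p−1)+n). -/
theorem result {Ω : Type*} [Group Ω] {S : Subgroup Ω} [Finite S] (p : ℕ) [Fact p.Prime] (hS : IsPGroup p S) (F : Cfsg.FusionSystem S) (hF : F.IsSaturated p) (n : ℕ) (hS1 : S ≠ ⊥) (hcl : Subgroup.lowerCentralSeries S (n * (p - 1) + 1) = ⊥) (hcore : F.core = ⊥) : Monoid.exponent ↥S ∣ p ^ (n ^ 2 * (p - 1) + n) := by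
  have hnorm := Cfsg.Agent.S5218.result p hS F hF n hS1 hcl
  have hW : Cfsg.powerClosure p n (S ⊓ Subgroup.centralizer (S : Set Ω)) = ⊥ :=
    eq_bot_iff.2 (hcore ▸ le_sSup (show _ ∈ {Q : Subgroup Ω | F.IsNormal Q} from hnorm))
  have hcen : ∀ z ∈ Subgroup.center ↥S, z ^ (p ^ n) = 1 := by
    intro z hz
    refine Subtype.ext ?_
    rw [SubgroupClass.coe_pow, OneMemClass.coe_one, ← Subgroup.mem_bot, ← hW]
    have hzZ : (z : Ω) ∈ S ⊓ Subgroup.centralizer (S : Set Ω) := ⟨z.2, fun y hy => ?_⟩
    · exact PGroup.pow_mem_powerClosure hzZ n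
    exact congrArg Subtype.val (Subgroup.mem_center_iff.1 hz ⟨y, hy⟩)
  have htop : Subgroup.upperCentralSeries ↥S (n * (p - 1) + 1) = ⊤ := by
    refine Subgroup.lowerCentralSeries_eq_bot_iff_upperCentralSeries_eq_top.1 ?_
    apply Subgroup.map_injective S.subtype_injective
    rw [Subgroup.top_subtype_lowerCentralSeries, hcl, Subgroup.map_bot]
  have hall : ∀ (i : ℕ) (x : ↥S), x ∈ Subgroup.upperCentralSeries ↥S i →
      x ^ (p ^ (n * i)) = 1 := by
    intro i
    induction i with
    | zero => intro x hx; simpa using hx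
    | succ i ih =>
      intro x hx
      rw [show n * (i + 1) = n + n * i by ring, pow_add, pow_mul]
      exact ih _ (pow_mem_upperCentralSeries hcen i x hx)
  refine Monoid.exponent_dvd_of_forall_pow_eq_one fun x => ?_
  rw [show n ^ 2 * (p - 1) + n = n * (n * (p - 1) + 1) by ring]
  exact hall _ x (htop ▸ Subgroup.mem_top x)

end Cfsg.Agent.S5219
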