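import Cfsg.Statements.S5220
import Cfsg.Agent.Lib.Fusion.ThompsonFactor
-- import your own Cfsg.Agent.* helpers here

set_option autoImplicit false
open Cfsg

namespace Cfsg.Agent.S5220

/-- Let F be a saturated fusion system over a nontrivial finite p-group S, let J(S) be the subgroup generated by the abelian subgroups of S of largest order, and let V be the subgroup generated by the p-th powers of the elements of Z(S). Then F is generated by the centralizer fusion system of V and the normalizer fusion system of J(S): every fusion system over S containing the maps of both contains every map of F. -/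
theorem result {Ω : Type*} [Group Ω] {S : Subgroup Ω} [Finite S] (p : ℕ) [Fact p.Prime] (hS : IsPGroup p S) (F : Cfsg.FusionSystem S) (hF : F.IsSaturated p) (hS1 : S ≠ ⊥) (C : Cfsg.FusionSystem (Cfsg.FusionSystem.centralizerIn S (Cfsg.powerClosure p 1 (S ⊓ Subgroup.centralizer (S : Set Ω))))) (hC : F.IsCentralizerSystem (Cfsg.powerClosure p 1 (S ⊓ Subgroup.centralizer (S : Set Ω))) C) (N : Cfsg.FusionSystem (Cfsg.FusionSystem.normalizerIn S (Cfsg.thompsonSubgroupAOf S))) (hN : F.IsNormalizerSystem (Cfsg.thompsonSubgroupAOf S) N) (E : Cfsg.FusionSystem S) (hCE : C.IsSubsystemOf E) (hNE : N.IsSubsystemOf E) : F.IsSubsystemOf E := by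
  set W := powerClosure p 1 (S ⊓ Subgroup.centralizer (S : Set Ω)) with hWdef
  have hWS : W ≤ S := (Subgroup.closure_le _).2 (by rintro _ ⟨w, hw, rfl⟩; exact S.pow_mem hw.1 _)
  have hSW : S ≤ FusionSystem.centralizerIn S W := by
    refine le_inf le_rfl fun g hg => ?_
    rw [hWdef, powerClosure, Subgroup.centralizer_closure]
    rintro _ ⟨w, hw, rfl⟩
    exact ((show Commute g w from Subgroup.mem_centralizer_iff.1 hw.2 g hg).pow_right _).eq.symm
  have hSJ : S ≤ FusionSystem.normalizerIn S (thompsonSubgroupAOf S) :=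
    le_inf le_rfl (Subgroup.le_normalizer.trans
      (Fusion.ThompsonFactor.normalizer_le_normalizer_thompsonA S))
  have hW' : ∀ (R : Subgroup Ω) (φ : R →* Ω), φ ∈ F.Hom R → W ≤ R →
      (∀ x : R, (x : Ω) ∈ W → φ x = x) → φ ∈ E.Hom R := by
    intro R φ hφ hWR hfix
    refine hCE R ?_
    rw [hC R]
    have hle : R ⊔ W ≤ R := sup_le le_rfl hWR
    exact ⟨hφ, (Fusion.dom_le hφ).trans hSW, fun x => hSW (Fusion.apply_mem hφ x),
      φ.comp (Subgroup.inclusion hle), Fusion.restrict_mem hφ hle, fun x => rfl,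
      fun x => hfix _ x.2⟩
  have hJ' : ∀ (R : Subgroup Ω) (φ : R →* Ω), φ ∈ F.Hom R → thompsonSubgroupAOf S ≤ R →
      (∀ x : R, (x : Ω) ∈ thompsonSubgroupAOf S → φ x ∈ thompsonSubgroupAOf S) → φ ∈ E.Hom R := by
    intro R φ hφ hJR hinv
    refine hNE R ?_
    rw [hN R]
    have hle : R ⊔ thompsonSubgroupAOf S ≤ R := sup_le le_rfl hJR
    exact ⟨hφ, (Fusion.dom_le hφ).trans hSJ, fun x => hSJ (Fusion.apply_mem hφ x),
      φ.comp (Subgroup.inclusion hle), Fusion.restrict_mem hφ hle, fun x => rfl,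
      (Fusion.map_subgroupOf_eq_iff (Fusion.restrict_mem hφ hle) le_sup_right).2
        fun x hx => hinv ⟨x, hJR hx⟩ hx⟩
  intro P φ hφ
  refine Fusion.alperin_strong_induction (C := fun P φ => φ ∈ E.Hom P) hS hF ?_ ?_ ?_ ?_ hφ
  · exact fun P g hP hg => E.conj_mem hP hg
  · exact fun P Q φ ψ _ _ h1 h2 h => E.comp_mem h1 h2 h
  · exact fun P φ ψ _ h1 _ hi => Fusion.inv_mem' h1 rfl fun x _ => hi x
  intro R hRn hRc _ hbig α hα
  have hαF := (Fusion.mem_autGroup_iff hRn.1).1 hα
  rcases eq_or_lt_of_le hRn.1 with rfl | hRS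
  · refine hJ' R _ hαF (PGroup.thompsonSubgroupAOf_le R) fun x hx => ?_
    exact Fusion.ThompsonFactor.thompsonA_mem (Q := R) (F.injective_of_mem hαF)
      (Fusion.hom_of_mem_autGroup le_rfl hα).2 hx x.2
  · refine Fusion.ThompsonFactor.normalizerHom_le hS hF (n := Nat.card R) hbig hW' hJ' _ R hRn
      (Fusion.isCentric_of_le hRc (Fusion.le_normalizerIn hRn.1) (Fusion.normalizerIn_le S R))
      (Fusion.card_lt_of_lt (Fusion.normalizerIn_le S R) (Fusion.lt_normalizerIn hS hRS))
      (fun z hz hzc => Fusion.isCentric_centralizerIn_le hRc (Fusion.mem_centralizerIn.2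
        ⟨hz.1, fun x hx => hzc x (Fusion.le_normalizerIn hRn.1 hx)⟩))
      (Nat.lt_succ_self _) R _ ?_ le_rfl
    have hle : R ⊔ R ≤ R := (sup_idem R).le
    exact ⟨hαF, Fusion.le_normalizerIn hRn.1, fun x => Fusion.le_normalizerIn hRn.1 (α x).2,
      _, Fusion.restrict_mem hαF hle, fun x => rfl,
      (Fusion.map_subgroupOf_eq_iff (Fusion.restrict_mem hαF hle) le_sup_right).2
        fun x hx => (α ⟨x, hx⟩).2⟩

end Cfsg.Agent.S5220
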