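import Cfsg.Statements.S5222
import Cfsg.Agent.Lib.Fusion.Tate
import Cfsg.Agent.Lib.Fusion.FocalCriterion
import Cfsg.Agent.Lib.Fusion.KNormalizer
import Cfsg.Agent.Lib.Fusion.Constructions

set_option autoImplicit false
open Cfsg

namespace Cfsg.Agent.S5222

/-- Let F be a saturated fusion system over a finite p-group S whose normalizer fusion system of S is the inner fusion system of S (Aut_F(S) is a p-group). Then for every subgroup Q of S with [S, S] ≤ Q ≤ Φ(S), the normalizer fusion system of Q in F is the inner fusion system of N_S(Q) = S. -/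
theorem result {Ω : Type*} [Group Ω] {S : Subgroup Ω} [Finite S] (p : ℕ) [Fact p.Prime] (hS : IsPGroup p S) (F : Cfsg.FusionSystem S) (hF : F.IsSaturated p) (hN : ∀ N : Cfsg.FusionSystem (Cfsg.FusionSystem.normalizerIn S S), F.IsNormalizerSystem S N → ∀ P : Subgroup Ω, N.Hom P = (Cfsg.innerFusionSystem (Cfsg.FusionSystem.normalizerIn S S)).Hom P) (Q : Subgroup Ω) (h1 : (commutator ↥S).map S.subtype ≤ Q) (h2 : Q ≤ (frattini ↥S).map S.subtype) : ∀ N : Cfsg.FusionSystem (Cfsg.FusionSystem.normalizerIn S Q), F.IsNormalizerSystem Q N → ∀ P : Subgroup Ω, N.Hom P = (Cfsg.innerFusionSystem (Cfsg.FusionSystem.normalizerIn S Q)).Hom P := by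
  intro N hNQ
  rw [Subgroup.map_subtype_commutator] at h1
  have hQS : Q ≤ S := h2.trans (Subgroup.map_subtype_le _)
  have hQn : ∀ g ∈ S, ∀ x ∈ Q, g * x * g⁻¹ ∈ Q := by
    intro g hg x hx
    have h := Q.mul_mem (h1 (Subgroup.commutator_mem_commutator hg (hQS hx))) hx
    rw [commutatorElement_def] at h
    simpa [mul_assoc] using h
  have heq : FusionSystem.normalizerIn S Q = S := by
    refine le_antisymm (Fusion.normalizerIn_le S Q) fun g hg => ⟨hg, ?_⟩
    refine Subgroup.mem_normalizer_iff.2 fun y => ⟨hQn g hg y, fun hy => ?_⟩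
    simpa [mul_assoc] using hQn g⁻¹ (S.inv_mem hg) _ hy
  have hfn : F.IsFullyNormalized Q :=
    ⟨hQS, fun R _ => by
      rw [heq]
      exact Fusion.card_le_of_le le_rfl (Fusion.normalizerIn_le S R)⟩
  have hfin : Finite (FusionSystem.normalizerIn S Q) :=
    Fusion.finite_of_le (Fusion.normalizerIn_le S Q)
  have hSN : IsPGroup p (FusionSystem.normalizerIn S Q) := hS.to_le (Fusion.normalizerIn_le S Q)
  have hNsat := Fusion.normalizerSystem_saturated hS hF hfn hNQ
  refine Fusion.hom_eq_inner_of_focal_le_frattini hSN hNsat ?_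
  have hQN : Q ≤ (frattini (FusionSystem.normalizerIn S Q)).map
      (FusionSystem.normalizerIn S Q).subtype := by
    rw [heq]
    exact h2
  refine le_trans (Fusion.focal_le_of_stronglyClosed hSN hNsat ?_ ?_ ?_) hQN
  · refine ⟨heq.symm ▸ hQS, fun R hR φ hφ x => ?_⟩
    rw [hNQ R] at hφ
    exact (show Fusion.ExtendsTo F Q R φ from hφ.2.2.2).apply_mem x (hR x.2)
  · rw [heq]
    exact h1
  · intro α hα x
    have hm := (Fusion.mem_autGroup_iff le_rfl).1 hα
    rw [hNQ] at hm
    obtain ⟨hmF, -, hv, -⟩ := hm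
    have hSQ : S ≤ FusionSystem.normalizerIn S Q := heq.ge
    have hm' := Fusion.restrict_mem hmF hSQ
    have hmem : ((FusionSystem.normalizerIn S Q).subtype.comp α.toMonoidHom).comp
        (Subgroup.inclusion hSQ) ∈ F.normalizerHom S S := by
      refine ⟨hm', Fusion.le_normalizerIn le_rfl,
        fun y => Fusion.le_normalizerIn le_rfl (Fusion.apply_mem hm' y), ?_⟩
      have hh := Fusion.restrict_mem hm' (sup_le le_rfl le_rfl : S ⊔ S ≤ S)
      refine ⟨_, hh, fun y => rfl, (Fusion.map_subgroupOf_eq_iff hh le_sup_right).2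
        fun y hy => Fusion.apply_mem hm' ⟨y, hy⟩⟩
    have hNs := Fusion.normalizerSystem_spec F S le_rfl
    rw [← hNs S, hN _ hNs S] at hmem
    obtain ⟨-, g, hg, hx⟩ := hmem
    have hxS : (x : Ω) ∈ S := Fusion.normalizerIn_le S Q x.2
    have hcm := Subgroup.commutator_mem_commutator (S.inv_mem hxS)
      (Fusion.normalizerIn_le S S hg)
    rw [commutatorElement_def, inv_inv] at hcm
    rw [show ((α x : FusionSystem.normalizerIn S Q) : Ω) = g * (x : Ω) * g⁻¹ from hx ⟨x, hxS⟩]
    simpa [mul_assoc] using h1 hcm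

end Cfsg.Agent.S5222
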