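import Cfsg.Statements.S5223
import Cfsg.Agent.Lib.Fusion.Nilpotent
-- import your own Cfsg.Agent.* helpers here

set_option autoImplicit false
open Cfsg

namespace Cfsg.Agent.S5223

/-- Let F be a saturated fusion system over a finite p-group S. Suppose there are subgroups Q₀ = S, Q₁, …, Qₙ = 1 (not required to be nested) such that for each i < n the focal subgroup of Qᵢ (generated by the elements x⁻¹φ(x), x ∈ Qᵢ, φ a map of F defined on the cyclic group generated by x) lies in Qᵢ₊₁. Then F is the inner fusion system of S. -/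
theorem result {Ω : Type*} [Group Ω] {S : Subgroup Ω} [Finite S] (p : ℕ) [Fact p.Prime] (hS : IsPGroup p S) (F : Cfsg.FusionSystem S) (hF : F.IsSaturated p) (n : ℕ) (Q : Fin (n + 1) → Subgroup Ω) (hQ0 : Q 0 = S) (hQn : Q (Fin.last n) = ⊥) (hstep : ∀ i : Fin n, Subgroup.closure {y : Ω | ∃ x ∈ Q i.castSucc, ∃ φ ∈ F.Hom (Subgroup.zpowers x), y = x⁻¹ * φ ⟨x, Subgroup.mem_zpowers x⟩} ≤ Q i.succ) : ∀ P : Subgroup Ω, F.Hom P = (Cfsg.innerFusionSystem S).Hom P := by
  refine Cfsg.Agent.Fusion.hom_eq_inner_of_isPGroup hS hF ?_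
  intro P hP
  have : Finite P := Cfsg.Agent.Fusion.finite_of_le hP
  refine Cfsg.Agent.Fusion.isPGroup_of_coprime_orderOf_eq_one fun α hα => ?_
  have key : ∀ k : ℕ, k ≤ n → ∀ (i : Fin (n + 1)), n ≤ (i : ℕ) + k →
      ∀ x : P, (x : Ω) ∈ Q i → (α : MulAut P) x = x := by
    intro k
    induction k with
    | zero =>
      intro _ i hi x hx
      rw [show i = Fin.last n from Fin.ext (by have := i.2; simp only [Fin.val_last]; omega),
        hQn, Subgroup.mem_bot] at hx
      rw [show x = 1 from Subtype.ext hx, map_one]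
    | succ k ih =>
      intro hk i hi x hx
      rcases Nat.lt_or_ge (n - (k + 1)) (i : ℕ) with hlt | hge
      · exact ih (by omega) i (by omega) x hx
      have hin : (i : ℕ) < n := by omega
      have hy : x⁻¹ * (α : MulAut P) x ∈ (Q (⟨i, hin⟩ : Fin n).succ).subgroupOf P := by
        refine hstep ⟨i, hin⟩ (Subgroup.subset_closure ⟨x, ?_,
          ((P.subtype.comp (α : MulAut P).toMonoidHom).comp
            (Subgroup.inclusion (Subgroup.zpowers_le.2 x.2))),
          Cfsg.Agent.Fusion.restrict_mem ((Cfsg.Agent.Fusion.mem_autGroup_iff hP).1 α.2) _, rfl⟩)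
        rw [show (⟨i, hin⟩ : Fin n).castSucc = i from Fin.ext rfl]
        exact hx
      have hfix := ih (by omega) (⟨i, hin⟩ : Fin n).succ (by simp only [Fin.val_succ]; omega)
        (x⁻¹ * (α : MulAut P) x) hy
      set a : MulAut P := (α : MulAut P) with ha
      set y : P := x⁻¹ * a x with hydef
      have hax : a x = x * y := (mul_inv_cancel_left x (a x)).symm
      have hpow : ∀ m : ℕ, (a ^ m) x = x * y ^ m := by
        intro m
        induction m with
        | zero => simp
        | succ m ihm =>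
          rw [pow_succ', MulAut.mul_apply, ihm, map_mul, map_pow, hfix, hax, mul_assoc,
            ← pow_succ']
      have hord : (a ^ orderOf α) = 1 := by
        rw [ha, ← SubgroupClass.coe_pow, pow_orderOf_eq_one, OneMemClass.coe_one]
      have hy1 : y ^ orderOf α = 1 := by
        have := hpow (orderOf α)
        rw [hord, MulAut.one_apply] at this
        exact mul_eq_left.1 this.symm
      obtain ⟨j, hj⟩ := (hS.to_le hP) y
      have hy2 : orderOf y = 1 :=
        Nat.eq_one_of_dvd_coprimes (Nat.Coprime.pow_right j hα) (orderOf_dvd_of_pow_eq_one hy1)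
          (orderOf_dvd_of_pow_eq_one hj)
      rw [hax, orderOf_eq_one_iff.1 hy2, mul_one]
  refine Subtype.ext (MulEquiv.ext fun x => ?_)
  exact key n le_rfl 0 (by simp) x (hQ0 ▸ hP x.2)

end Cfsg.Agent.S5223
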