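import Cfsg.Statements.S5224
import Cfsg.Agent.Lib.Fusion.Tate
import Cfsg.Agent.Lib.Fusion.NormalSubsystem

set_option autoImplicit false
open Cfsg

namespace Cfsg.Agent.S5224

/-- Tate's Theorem for fusion systems. Let F be a saturated fusion system over a finite p-group S and H a saturated fusion system over S contained in F. Then the following are equivalent: the elementary focal subgroups Φ(S)·foc agree for F and H; the focal subgroups of F and H agree; the hyperfocal subgroups of F and H agree. -/
theorem result {Ω : Type*} [Group Ω] {S : Subgroup Ω} [Finite S] (p : ℕ) [Fact p.Prime] (hS : IsPGroup p S) (F : Cfsg.FusionSystem S) (hF : F.IsSaturated p) (H : Cfsg.FusionSystem S) (hH : H.IsSaturated p) (hHF : H.IsSubsystemOf F) : (((frattini ↥S).map S.subtype ⊔ F.focalSubgroup) = ((frattini ↥S).map S.subtype ⊔ H.focalSubgroup) ↔ F.focalSubgroup = H.focalSubgroup) ∧ (F.focalSubgroup = H.focalSubgroup ↔ F.hyperfocalSubgroup p = H.hyperfocalSubgroup p) := by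
  have hmono : H.hyperfocalSubgroup p ≤ F.hyperfocalSubgroup p := by
    refine (Subgroup.closure_le _).2 ?_
    rintro _ ⟨P, α, x, hP, hα, rfl⟩
    have hm := Transfer.map_residual_le
      (Subgroup.inclusion (Fusion.autGroup_le_of_subsystem hHF hP)) p ⟨α, hα, rfl⟩
    exact Fusion.inv_mul_apply_mem_hyperfocal hP hm x
  have h1 : F.hyperfocalSubgroup p = H.hyperfocalSubgroup p →
      F.focalSubgroup = H.focalSubgroup := fun h => by
    rw [Fusion.focal_eq hS hF, Fusion.focal_eq hS hH, h]
  have h2 : (frattini S).map S.subtype ⊔ F.focalSubgroup =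
      (frattini S).map S.subtype ⊔ H.focalSubgroup →
      F.hyperfocalSubgroup p = H.hyperfocalSubgroup p := fun h => by
    refine le_antisymm (Fusion.hyperfocal_le_of_le hS hF hmono
      (Fusion.le_normalizer_hyperfocal H p) ?_) hmono
    refine ((Fusion.hyperfocal_le_focal F p).trans le_sup_right).trans (h.le.trans ?_)
    rw [Fusion.focal_eq hS hH, sup_assoc]
  exact ⟨⟨fun h => h1 (h2 h), fun h => by rw [h]⟩, ⟨fun h => h2 (by rw [h]), h1⟩⟩

end Cfsg.Agent.S5224
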