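import Cfsg.Statements.S5233
import Cfsg.Agent.Lib.Fusion.NormalCriteria
import Cfsg.Agent.Lib.Fusion.PairInversion
import Cfsg.Agent.Lib.PGroup.AbelianMaximalSmallDerived
import Cfsg.Agent.S5226
import Cfsg.Agent.Lib.TI.Extraspecial
-- import your own Cfsg.Agent.* helpers here

set_option autoImplicit false
open Cfsg

open scoped commutatorElement

namespace Cfsg.Agent.S5233

/-- A finite group is isomorphic to one in `Type`. -/
theorem exists_small (G : Type*) [Group G] [Finite G] :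
    ∃ (E : Type) (_ : Group E), Nonempty (G ≃* E) := by
  exact ⟨Shrink.{0} G, inferInstance, ⟨(Shrink.mulEquiv : Shrink.{0} G ≃* G).symm⟩⟩

/-- A finite commutative group of exponent dividing `p` is isomorphic to one in `Type`. -/
theorem exists_small_comm (G : Type*) [Group G] [Finite G] {p : ℕ}
    (hc : ∀ a b : G, a * b = b * a) (he : ∀ a : G, a ^ p = 1) :
    ∃ (A : Type) (_ : CommGroup A), (∀ a : A, a ^ p = 1) ∧ Nonempty (G ≃* A) := by
  let _ : CommGroup G := { (inferInstance : Group G) with mul_comm := hc }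
  refine ⟨Shrink.{0} G, inferInstance, fun a => ?_, ⟨(Shrink.mulEquiv : Shrink.{0} G ≃* G).symm⟩⟩
  refine (Shrink.mulEquiv : Shrink.{0} G ≃* G).injective ?_
  rw [map_pow, map_one]
  exact he _

/-- An elementary abelian maximal subgroup and an element of order `p` outside it give the
excluded decomposition. -/
theorem excluded {G : Type*} [Group G] [Finite G] {p : ℕ} [hp : Fact p.Prime] (hG : IsPGroup p G)
    (hd : Nat.card ↥(commutator G) = p) (C : Subgroup G) (hCi : C.index = p)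
    (hCc : ∀ a ∈ C, ∀ b ∈ C, a * b = b * a) (hCe : ∀ a ∈ C, a ^ p = 1)
    (x : G) (hx : x ∉ C) (hxp : x ^ p = 1)
    (h2 : p = 2 → ¬ ∃ (A : Type) (_ : CommGroup A), (∀ a : A, a ^ 2 = 1) ∧ Nonempty (G ≃* DihedralGroup 4 × A))
    (hodd : p ≠ 2 → ¬ ∃ (E : Type) (_ : Group E) (A : Type) (_ : CommGroup A), IsExtraspecial p E ∧ Nat.card E = p ^ 3 ∧ Monoid.exponent E = p ∧ (∀ a : A, a ^ p = 1) ∧ Nonempty (G ≃* E × A)) :
    False := by
  obtain ⟨E, A, c, u, hAc, hAe, hEc, ⟨e⟩, hc, hu, hw, hwc, hcen, hcom⟩ :=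
    PGroup.exists_prod_of_abelian_maximal hG hd C hCi hCc hCe x hx hxp
  obtain ⟨A', iA, hA'e, ⟨fA⟩⟩ := exists_small_comm A (p := p)
    (fun a b => Subtype.ext (hAc a a.2 b b.2)) (fun a => Subtype.ext (hAe a a.2))
  by_cases hp2 : p = 2
  · subst hp2
    obtain ⟨f⟩ : Nonempty (E ≃* DihedralGroup 4) := by
      set w := ⁅c, u⁆ with hwdef
      have hsq : (c * u) ^ 2 = w := by
        have h := commutatorElement_def c u
        rw [sq] at hc hu ⊢
        rw [inv_eq_of_mul_eq_one_left hc, inv_eq_of_mul_eq_one_left hu] at h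
        rw [hwdef, h]; group
      have hw2 : w ^ 2 = 1 := by
        have hwC : Nat.card (Subgroup.zpowers w) ∣ 2 ^ 3 := hEc ▸ Subgroup.card_subgroup_dvd_card _
        have h1 := PGroup.commutator_pow_left hwc 2
        rw [hc, commutatorElement_one_left] at h1
        exact h1.symm
      have ho : orderOf (c * u) = 4 := by
        refine orderOf_eq_prime_pow (p := 2) (n := 1) ?_ ?_
        · rw [pow_one, hsq]; exact hw
        · rw [show 2 ^ (1 + 1) = 2 * 2 from rfl, pow_mul, hsq, hw2]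
      refine PGroup.dihedralEquivOfRel (a := c * u) (b := u) ho ?_ hu ?_ (by rw [hEc]; rfl)
      · intro h
        apply hw
        have h1 : c ∈ Subgroup.zpowers (c * u) := by
          have := Subgroup.mul_mem _ (Subgroup.mem_zpowers (c * u)) (Subgroup.inv_mem _ h)
          simpa using this
        obtain ⟨i, hi⟩ := Subgroup.mem_zpowers_iff.1 h
        obtain ⟨j, hj⟩ := Subgroup.mem_zpowers_iff.1 h1
        have hcu := (Commute.refl (c * u)).zpow_zpow j i
        rw [hi, hj] at hcu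
        exact commutatorElement_eq_one_iff_mul_comm.2 hcu
      · rw [sq] at hc hu
        rw [mul_inv_rev, inv_eq_of_mul_eq_one_left hu, inv_eq_of_mul_eq_one_left hc, mul_assoc,
          mul_assoc, hu, mul_one]
    exact h2 rfl ⟨A', iA, hA'e, ⟨e.trans (MulEquiv.prodCongr f fA)⟩⟩
  · obtain ⟨E', iE, ⟨fE⟩⟩ := exists_small E
    -- `G` has exponent `p`
    have hclass : commutator G ≤ Subgroup.center G := PGroup.le_center_of_card_eq hG _ hd
    have hexpG : ∀ g : G, g ^ p = 1 := fun g => by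
      have hgen : Subgroup.closure ((C : Set G) ∪ {x}) = ⊤ := by
        have := PGroup.normal_of_index_eq hG hCi
        rw [Subgroup.closure_union, Subgroup.closure_eq, ← Subgroup.zpowers_eq_closure]
        refine Subgroup.eq_top_of_card_eq _ ?_
        rw [PGroup.card_sup_zpowers C hx (by rw [hxp]; exact C.one_mem), ← hCi,
          Subgroup.card_mul_index]
      refine PGroup.pow_eq_one_of_mem_closure hp.out hp2 hclass (s := (C : Set G) ∪ {x}) ?_
        (hgen ▸ Subgroup.mem_top g)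
      rintro y (hy | rfl)
      · exact hCe y hy
      · exact hxp
    have hwne : (⁅c, u⁆ : E) ≠ 1 := hw
    have hwo : orderOf ⁅c, u⁆ = p :=
      orderOf_eq_prime (Subtype.ext (hexpG _)) hwne
    have hEp : IsPGroup p E := hG.to_subgroup E
    have hEexp : ∀ a : E, a ^ p = 1 := fun a => Subtype.ext (hexpG _)
    have hesp : IsExtraspecial p E := by
      refine ⟨⟨hEp, ?_, hcom.trans hcen.symm⟩, by rw [hcen, Nat.card_zpowers, hwo]⟩
      refine le_antisymm (PGroup.frattini_le (p := p) (hcom.trans hcen.symm).le fun a => ?_) ?_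
      · rw [hEexp]; exact Subgroup.one_mem _
      · exact (hcom.trans hcen.symm).ge.trans (PGroup.commutator_le_frattini hEp)
    have hexp : Monoid.exponent E' = p := by
      rw [← Monoid.exponent_eq_of_mulEquiv fE]
      rcases (Nat.dvd_prime hp.out).1 (Monoid.exponent_dvd_of_forall_pow_eq_one hEexp) with h | h
      · exact absurd (Monoid.exp_eq_one_iff.1 h |>.elim ⁅c, u⁆ 1) hwne
      · exact h
    refine hodd hp2 ⟨E', iE, A', iA, ?_, ?_, hexp, hA'e, ⟨e.trans (MulEquiv.prodCongr fE fA)⟩⟩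
    · exact TI.isExtraspecial_congr fE hesp
    · rw [← Nat.card_congr fE.toEquiv, hEc]

/-- The core of the case where all elements of order `p` of `P` lie in an elementary abelian
maximal subgroup, `p` odd. -/
theorem no_move {Ω : Type*} [Group Ω] {S : Subgroup Ω} [Finite S] {p : ℕ} [hp : Fact p.Prime]
    (hS : IsPGroup p S) {F : Cfsg.FusionSystem S} (hF : F.IsSaturated p) (hp2 : p ≠ 2)
    {P C : Subgroup Ω} (hP : F.StronglyClosed P) (hC : F.StronglyClosed C) (hCP : C ≤ P)
    (hCc : ∀ a ∈ C, ∀ b ∈ C, a * b = b * a) (hCe : ∀ a ∈ C, a ^ p = 1)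
    {y z x : Ω} (hy : y ∈ C) (hz : z ∈ C) (hyz : y ∉ Subgroup.zpowers z)
    (hCy : ∀ g ∈ P, g * y = y * g → g ∈ C) (hx : x ∈ P) (hxC : x ∉ C) (hxp1 : x ^ p ≠ 1)
    (hxp : x ^ p ∈ Subgroup.zpowers z) (hzc : x * z = z * x)
    (hgen : ∀ g ∈ P, ∃ a ∈ C, ∃ i : ℕ, g = a * x ^ i)
    (hcomm : ∀ a ∈ C, a⁻¹ * (x * a * x⁻¹) ∈ Subgroup.zpowers z)
    (hpow : ∀ a ∈ C, (x * a) ^ p = x ^ p)
    (α : MulAut C) (hα : α ∈ F.autGroup C) (hαy : ((α ⟨y, hy⟩ : C) : Ω) = z) : False := by
  have hCS : C ≤ S := hC.1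
  have := Fusion.finite_of_le (Ω := Ω) hCS
  have := Fusion.finite_mulAut (Ω := Ω) hCS
  have hCfn : F.IsFullyNormalized C := by
    refine ⟨hCS, fun Q _ => ?_⟩
    rw [Fusion.normalizerIn_eq_of_le (Fusion.le_normalizer_of_stronglyClosed hC)]
    exact Subgroup.card_le_of_le inf_le_left
  have hrec := Fusion.isReceptive_of_fullyNormalized hS hF hCfn
  have hxS : x ∈ S := hP.1 hx
  have hxN : x ∈ Subgroup.normalizer (C : Set Ω) := Fusion.le_normalizer_of_stronglyClosed hC hxS
  set yC : C := ⟨y, hy⟩ with hyC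
  set zC : C := ⟨z, hz⟩ with hzC
  have hCc' : ∀ a b : C, a * b = b * a := fun a b => Subtype.ext (hCc a a.2 b b.2)
  have hCe' : ∀ a : C, a ^ p = 1 := fun a => Subtype.ext (hCe a a.2)
  have hCp : IsPGroup p C := fun a => ⟨1, by rw [pow_one]; exact hCe' a⟩
  have hyz' : yC ∉ Subgroup.zpowers zC := fun h => hyz (by
    obtain ⟨i, hi⟩ := Subgroup.mem_zpowers_iff.1 h
    exact Subgroup.mem_zpowers_iff.2 ⟨i, congrArg Subtype.val hi⟩)
  let t : MulAut C := Fusion.conjAut hxN
  have htA : t ∈ F.autGroup C :=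
    Fusion.autInducedBy_le_autGroup F hCS (Fusion.conjAut_mem_autInducedBy hxS hxN)
  have htz : t zC = zC := Subtype.ext (by
    show x * z * x⁻¹ = z
    rw [hzc, mul_inv_cancel_right])
  have htc : ∀ a : C, a⁻¹ * t a ∈ Subgroup.zpowers zC := fun a => by
    obtain ⟨i, hi⟩ := Subgroup.mem_zpowers_iff.1 (hcomm a a.2)
    exact Subgroup.mem_zpowers_iff.2 ⟨i, Subtype.ext hi⟩
  have hty : t yC ≠ yC := fun h => hxC (hCy x hx (mul_inv_eq_iff_eq_mul.1 (congrArg Subtype.val h)))
  have ht1 : t ≠ 1 := fun h => hty (by rw [h]; rfl)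
  have hpC : ∀ a : C, ((t : MulAut C) ^ p) a = a := fun a => by
    have hfix : t (a⁻¹ * t a) = a⁻¹ * t a := by
      obtain ⟨i, hi⟩ := Subgroup.mem_zpowers_iff.1 (htc a)
      rw [← hi, map_zpow, htz]
    rw [Fusion.aut_pow_apply_of_fixed t (mul_inv_cancel_left a (t a)).symm hfix p, hCe', mul_one]
  have htp : t ^ p = 1 := MulEquiv.ext hpC
  have hto : orderOf t = p := orderOf_eq_prime htp ht1
  -- elements of `P` act on `C` as powers of `t`
  have hact : ∀ g ∈ P, ∀ hg : g ∈ Subgroup.normalizer (C : Set Ω),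
      Fusion.conjAut hg ∈ Subgroup.zpowers t := by
    intro g hg hgN
    obtain ⟨a, ha, i, rfl⟩ := hgen g hg
    have : Fusion.conjAut hgN = t ^ i := by
      refine MulEquiv.ext fun b => Subtype.ext ?_
      rw [show t ^ i = Fusion.conjAut (Subgroup.pow_mem _ hxN i) from
        (map_pow C.normalizerMonoidHom ⟨x, hxN⟩ i).symm, Fusion.coe_conjAut, Fusion.coe_conjAut]
      have hb : x ^ i * (b : Ω) * (x ^ i)⁻¹ ∈ C :=
        (Subgroup.mem_normalizer_iff.1 (Subgroup.pow_mem _ hxN i) _).1 b.2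
      calc a * x ^ i * b * (a * x ^ i)⁻¹ = a * (x ^ i * b * (x ^ i)⁻¹) * a⁻¹ := by group
        _ = _ := by rw [hCc a ha _ hb, mul_inv_cancel_right]
    exact this ▸ Subgroup.pow_mem _ (Subgroup.mem_zpowers t) i
  -- extension of automorphisms across `x`
  have hext : ∀ s ∈ F.autGroup C, s * t * s⁻¹ ∈ autInducedBy S C →
      ∃ x' ∈ P, (∃ hN : x' ∈ Subgroup.normalizer (C : Set Ω), Fusion.conjAut hN = s * t * s⁻¹) ∧
        ∀ hm : x ^ p ∈ C, x' ^ p = ((s ⟨x ^ p, hm⟩ : C) : Ω) := by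
    intro s hs hst
    obtain ⟨k, hk, hkv⟩ := Fusion.mem_autInducedBy_iff.1 hst
    obtain ⟨hφ, hr⟩ := Fusion.hom_of_mem_autGroup hCS hs
    have hxe : x ∈ FusionSystem.extender S C (C.subtype.comp s.toMonoidHom) := by
      refine Fusion.mem_extender_iff.2 ⟨hxS, hxN, k, hk, fun a ha => ?_⟩
      have h := hkv (s a)
      rw [MulAut.mul_apply, MulAut.mul_apply, MulAut.inv_apply_self] at h
      exact h
    obtain ⟨ψ, hψ, hv⟩ := Fusion.exists_extension hrec hφ hr le_rfl
    have hCe'' : C ≤ FusionSystem.extender S C (C.subtype.comp s.toMonoidHom) :=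
      Fusion.le_extender hCS fun a => hCS (s a).2
    refine ⟨ψ ⟨x, hxe⟩, hP.2 _ inf_le_right _ (Fusion.restrict_mem hψ inf_le_left) ⟨x, hxe, hx⟩,
      ?_, fun hm => ?_⟩
    · have hN : ∀ a : C, (((s * t * s⁻¹ : MulAut C) a : C) : Ω) =
          ψ ⟨x, hxe⟩ * (a : Ω) * (ψ ⟨x, hxe⟩)⁻¹ := by
        intro a
        obtain ⟨b, rfl⟩ := s.surjective a
        rw [MulAut.mul_apply, MulAut.mul_apply, MulAut.inv_apply_self]
        have h1 : ∀ c : C, ((s c : C) : Ω) = ψ ⟨c, hCe'' c.2⟩ := fun c => (hv c c.2 _).symm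
        rw [h1 b, h1 (t b), ← map_inv, ← map_mul, ← map_mul]
        exact congrArg ψ (Subtype.ext rfl)
      exact ⟨Fusion.mem_normalizer_of_aut hN, MulEquiv.ext fun a => Subtype.ext (hN a).symm⟩
    · rw [← map_pow, show ((s ⟨x ^ p, hm⟩ : C) : Ω) = ψ ⟨x ^ p, hCe'' hm⟩ from (hv _ hm _).symm]
      exact congrArg ψ (Subtype.ext rfl)
  -- a conjugate of `t` with centre `⟨y⟩`
  set t' : MulAut C := α⁻¹ * t * α with ht'
  have ht'A : t' ∈ F.autGroup C := Subgroup.mul_mem _ (Subgroup.mul_mem _ (Subgroup.inv_mem _ hα) htA) hα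
  have hαy' : α yC = zC := Subtype.ext hαy
  have hαz : α⁻¹ zC = yC := by rw [← hαy', MulAut.inv_apply_self]
  have ht'y : t' yC = yC := by
    rw [ht', MulAut.mul_apply, MulAut.mul_apply, hαy', htz, hαz]
  have ht'c : ∀ a : C, a⁻¹ * t' a ∈ Subgroup.zpowers yC := fun a => by
    obtain ⟨i, hi⟩ := Subgroup.mem_zpowers_iff.1 (htc (α a))
    refine Subgroup.mem_zpowers_iff.2 ⟨i, ?_⟩
    rw [← hαz, ← map_zpow, hi, map_mul, map_inv, MulAut.inv_apply_self]
    rfl
  have ht'1 : t' ≠ 1 := fun h => ht1 (by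
    have : t = α * t' * α⁻¹ := by rw [ht']; group
    rw [this, h, mul_one, mul_inv_cancel])
  have ho : ∀ a : C, a ≠ 1 → orderOf a = p := fun a ha => orderOf_eq_prime (hCe' a) ha
  have hz1 : zC ≠ 1 := fun h => hxp1 (by
    have hz' : z = 1 := congrArg Subtype.val h
    rwa [hz', Subgroup.zpowers_one_eq_bot, Subgroup.mem_bot] at hxp)
  have hy1 : yC ≠ 1 := fun h => hyz' (h ▸ Subgroup.one_mem _)
  have hline : ∀ (v w : C), v ≠ 1 → w ∈ Subgroup.zpowers v → w ≠ 1 →
      Subgroup.zpowers w = Subgroup.zpowers v := fun v w hv hw hw1 =>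
    Subgroup.eq_of_le_of_card_ge (Subgroup.zpowers_le.2 hw)
      (by rw [Nat.card_zpowers, Nat.card_zpowers, ho v hv, ho w hw1])
  by_cases ht'z : t' zC = zC
  · -- `⟨t, t'⟩` is a `p`-group, so lies in a conjugate of `Aut_S(C)`
    set A2 := Subgroup.zpowers zC ⊔ Subgroup.zpowers yC with hA2
    let B : Subgroup (MulAut C) := Subgroup.closure {t, t'}
    have hfin : ∀ b ∈ B, b zC = zC ∧ (∀ a ∈ A2, b a ∈ A2) := by
      intro b hb
      rw [← Subgroup.mem_toSubmonoid, Subgroup.closure_toSubmonoid_of_finite] at hb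
      induction hb using Submonoid.closure_induction with
      | mem b hb =>
        rcases hb with rfl | rfl
        · refine ⟨htz, fun a ha => ?_⟩
          have h1 := A2.mul_mem ha (Subgroup.mem_sup_left (htc a) : a⁻¹ * t a ∈ A2)
          rwa [mul_inv_cancel_left] at h1
        · refine ⟨ht'z, fun a ha => ?_⟩
          have h1 := A2.mul_mem ha (Subgroup.mem_sup_right (ht'c a) : a⁻¹ * t' a ∈ A2)
          rwa [mul_inv_cancel_left] at h1
      | one => exact ⟨rfl, fun a ha => ha⟩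
      | mul b b' _ _ hb hb' =>
        exact ⟨by rw [MulAut.mul_apply, hb'.1, hb.1], fun a ha => hb.2 _ (hb'.2 a ha)⟩
    let T : ℕ → Subgroup C := fun i =>
      if i = 0 then ⊥ else if i = 1 then Subgroup.zpowers zC else if i = 2 then A2 else ⊤
    have hT : ∀ (b : B) (i : ℕ), ∀ a ∈ T i, (b : MulAut C) a ∈ T i := by
      intro b i a ha
      simp only [T] at ha ⊢
      split_ifs at ha ⊢
      · rw [Subgroup.mem_bot] at ha ⊢; rw [ha, map_one]
      · obtain ⟨j, rfl⟩ := Subgroup.mem_zpowers_iff.1 ha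
        rw [map_zpow, (hfin b b.2).1]
        exact Subgroup.zpow_mem _ (Subgroup.mem_zpowers zC) j
      · exact (hfin b b.2).2 a ha
      · trivial
    have hstep : ∀ (b : MulAut C) (hb : b ∈ B) (v : C), b zC = zC → b v = v →
        (∀ a ∈ A2, a⁻¹ * b a ∈ Subgroup.zpowers zC) → (∀ a, a⁻¹ * b a ∈ A2) →
        (⟨b, hb⟩ : B) ∈ Fusion.seriesStabilizer B T hT := by
      intro b hb v hbz _ h2 h3 i a ha
      rcases i with - | _ | _ | i
      · simp only [T] at ha ⊢
        simp only [Nat.zero_add, one_ne_zero, ↓reduceIte] at ha ⊢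
        obtain ⟨j, rfl⟩ := Subgroup.mem_zpowers_iff.1 ha
        show (zC ^ j)⁻¹ * b (zC ^ j) ∈ ⊥
        rw [map_zpow, hbz, inv_mul_cancel]
        exact Subgroup.one_mem _
      · simp [T] at ha ⊢
        exact h2 a ha
      · simp [T]
        exact h3 a
      · simp [T]
    have hBp : IsPGroup p B := by
      have hpS := Fusion.isPGroup_seriesStabilizer hCp B T hT rfl (m := 3) (by simp [T])
      suffices Fusion.seriesStabilizer B T hT = ⊤ from
        hpS.of_equiv ((MulEquiv.subgroupCongr this).trans Subgroup.topEquiv)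
      rw [eq_top_iff]
      rintro ⟨b, hb⟩ -
      have hle : B ≤ (Fusion.seriesStabilizer B T hT).map B.subtype := by
        refine (Subgroup.closure_le _).2 ?_
        rintro b (rfl | rfl)
        · refine ⟨⟨t, Subgroup.subset_closure (by simp)⟩, hstep t _ zC htz htz
            (fun a _ => htc a) (fun a => Subgroup.mem_sup_left (htc a)), rfl⟩
        · refine ⟨⟨t', Subgroup.subset_closure (by simp)⟩, hstep t' _ yC ht'z ht'y ?_
            (fun a => Subgroup.mem_sup_right (ht'c a)), rfl⟩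
          intro a ha
          have hfix : A2 ≤ MonoidHom.eqLocus t'.toMonoidHom (MonoidHom.id C) :=
            sup_le (Subgroup.zpowers_le.2 ht'z) (Subgroup.zpowers_le.2 ht'y)
          rw [show t' a = a from hfix ha, inv_mul_cancel]
          exact Subgroup.one_mem _
      obtain ⟨b', hb', he⟩ := hle hb
      exact (Subtype.ext he : b' = ⟨b, hb⟩) ▸ hb'
    -- move into `Aut_S(C)`
    obtain ⟨-, R, hR⟩ := Fusion.isFullyAutomized_of_fullyNormalized hS hF hCfn
    have hBA : B ≤ F.autGroup C := (Subgroup.closure_le _).2 (by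
      rintro b (rfl | rfl); exacts [htA, ht'A])
    obtain ⟨R', hR'⟩ := (hBp.of_equiv (Subgroup.subgroupOfEquivOfLe hBA).symm).exists_le_sylow
    obtain ⟨b, hb⟩ := MulAction.exists_smul_eq (F.autGroup C) R' R
    have hmove : ∀ s (hs : s ∈ B), (b : MulAut C) * s * (b : MulAut C)⁻¹ ∈
        autInducedBy S C := by
      intro s hs
      have h1 : b * (⟨s, hBA hs⟩ : F.autGroup C) * b⁻¹ ∈ (R : Subgroup (F.autGroup C)) := by
        rw [← hb, Sylow.coe_subgroup_smul]
        exact ⟨⟨s, hBA hs⟩, hR' hs, rfl⟩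
      rw [hR, Subgroup.mem_subgroupOf] at h1
      exact h1
    have hin : ∀ s ∈ F.autGroup C, s * t * s⁻¹ ∈ autInducedBy S C →
        s * t * s⁻¹ ∈ Subgroup.zpowers t := by
      intro s hs hst
      obtain ⟨x', hx', ⟨hN, he⟩, -⟩ := hext s hs hst
      exact he ▸ hact x' hx' hN
    have htm : t ∈ B := Subgroup.subset_closure (by simp)
    have ht'm : t' ∈ B := Subgroup.subset_closure (by simp)
    have h1 := hin b b.2 (hmove t htm)
    have h2 := hin ((b : MulAut C) * α⁻¹) (Subgroup.mul_mem _ b.2 (Subgroup.inv_mem _ hα)) (by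
      have := hmove t' ht'm
      rw [ht'] at this
      convert this using 1
      group)
    have h2' : (b : MulAut C) * t' * (b : MulAut C)⁻¹ ∈ Subgroup.zpowers t := by
      rw [ht']; convert h2 using 1; group
    have hbt : Subgroup.zpowers ((b : MulAut C) * t * (b : MulAut C)⁻¹) = Subgroup.zpowers t :=
      Subgroup.eq_of_le_of_card_ge (Subgroup.zpowers_le.2 h1) (by
        rw [Nat.card_zpowers, Nat.card_zpowers, hto, ← MulAut.conj_apply, MulEquiv.orderOf_eq, hto])
    rw [← hbt] at h2'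
    obtain ⟨i, hi⟩ := Subgroup.mem_zpowers_iff.1 h2'
    have ht'i : t' = t ^ i := by
      rw [conj_zpow] at hi
      exact (mul_left_cancel (mul_right_cancel hi)).symm
    refine ht'1 (MulEquiv.ext fun a => ?_)
    have hpz : a⁻¹ * t' a ∈ Subgroup.zpowers zC := by
      obtain ⟨j, hj⟩ := (isOfFinOrder_of_finite t).mem_powers_iff_mem_zpowers.2
        (⟨i, ht'i.symm⟩ : t' ∈ Subgroup.zpowers t)
      simp only at hj
      have hfix : t (a⁻¹ * t a) = a⁻¹ * t a := by
        obtain ⟨l, hl⟩ := Subgroup.mem_zpowers_iff.1 (htc a)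
        rw [← hl, map_zpow, htz]
      rw [← hj, Fusion.aut_pow_apply_of_fixed t (mul_inv_cancel_left a (t a)).symm hfix j,
        inv_mul_cancel_left]
      exact Subgroup.pow_mem _ (htc a) j
    show t' a = a
    by_contra hne
    have hne' : a⁻¹ * t' a ≠ 1 := fun h => hne (inv_mul_eq_one.1 h).symm
    exact hyz' ((hline _ _ hy1 (ht'c a) hne').symm.trans (hline _ _ hz1 hpz hne') ▸
      Subgroup.mem_zpowers yC)
  · -- an inversion of `⟨z, y⟩` commuting with `t`
    let W : Subgroup C := Subgroup.zpowers zC ⊔ Subgroup.zpowers yC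
    have hzW : zC ∈ W := Subgroup.mem_sup_left (Subgroup.mem_zpowers zC)
    have hyW : yC ∈ W := Subgroup.mem_sup_right (Subgroup.mem_zpowers yC)
    have : IsMulCommutative C := ⟨⟨hCc'⟩⟩
    have hWc : Nat.card W = p ^ 2 := by
      rw [PGroup.card_sup_zpowers _ hyz' (by rw [hCe']; exact Subgroup.one_mem _), Nat.card_zpowers,
        ho zC hz1, sq]
    let M : Subgroup (MulAut C) :=
      Subgroup.closure {t, t'}
    have hM : ∀ b ∈ M, (∀ a ∈ W, b a ∈ W) ∧ ∀ d : C, t d = d → t' d = d → b d = d := by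
      intro b hb
      rw [← Subgroup.mem_toSubmonoid, Subgroup.closure_toSubmonoid_of_finite] at hb
      induction hb using Submonoid.closure_induction with
      | mem b hb =>
        rcases hb with rfl | rfl
        · refine ⟨fun a ha => ?_, fun d hd _ => hd⟩
          have h1 := W.mul_mem ha (Subgroup.mem_sup_left (htc a) : a⁻¹ * t a ∈ W)
          rwa [mul_inv_cancel_left] at h1
        · refine ⟨fun a ha => ?_, fun d _ hd => hd⟩
          have h1 := W.mul_mem ha (Subgroup.mem_sup_right (ht'c a) : a⁻¹ * t' a ∈ W)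
          rwa [mul_inv_cancel_left] at h1
      | one => exact ⟨fun a ha => ha, fun d _ _ => rfl⟩
      | mul b b' _ _ hb hb' =>
        exact ⟨fun a ha => hb.1 _ (hb'.1 a ha), fun d hd hd' => by
          rw [MulAut.mul_apply, hb'.2 d hd hd', hb.2 d hd hd']⟩
    let η : M →* MulAut W :=
      { toFun := fun b =>
          { toFun := fun a => ⟨(b : MulAut C) a, (hM b b.2).1 a a.2⟩
            invFun := fun a => ⟨(b : MulAut C)⁻¹ a, (hM _ (M.inv_mem b.2)).1 a a.2⟩
            left_inv := fun a => Subtype.ext (MulAut.inv_apply_self C (b : MulAut C) a)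
            right_inv := fun a => Subtype.ext (MulAut.apply_inv_self C (b : MulAut C) a)
            map_mul' := fun a a' => Subtype.ext (map_mul (b : MulAut C) (a : C) (a' : C)) }
        map_one' := MulEquiv.ext fun a => rfl
        map_mul' := fun b b' => MulEquiv.ext fun a => rfl }
    let tM : M := ⟨t, Subgroup.subset_closure (by simp)⟩
    let t'M : M := ⟨t', Subgroup.subset_closure (by simp)⟩
    have hηv : ∀ (b : M) (a : W), ((η b a : W) : C) = (b : MulAut C) a := fun b a => rfl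
    have htp' : t' ^ p = 1 := by
      rw [ht', show α⁻¹ * t * α = α⁻¹ * t * α⁻¹⁻¹ by rw [inv_inv], conj_pow, htp]
      group
    have hσ1 : η tM ≠ 1 := fun h =>
      hty (congrArg (fun f : MulAut W => ((f ⟨yC, hyW⟩ : W) : C)) h)
    have hτσ : η t'M ∉ Subgroup.zpowers (η tM) := by
      intro h
      obtain ⟨i, hi⟩ := Subgroup.mem_zpowers_iff.1 h
      have hle : Subgroup.zpowers (η tM) ≤
          MulAction.stabilizer (MulAut W) (⟨zC, hzW⟩ : W) :=
        Subgroup.zpowers_le.2 (MulAction.mem_stabilizer_iff.2 (Subtype.ext htz))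
      exact ht'z (congrArg Subtype.val (MulAction.mem_stabilizer_iff.1 (hle h)))
    obtain ⟨m, hm, hmv⟩ := Fusion.exists_inversion_mem_closure (U := W)
      (fun a a' => Subtype.ext (hCc' _ _)) hWc (fun a => Subtype.ext (hCe' _))
      ⟨1, by rw [pow_one, ← map_pow, show tM ^ p = 1 from Subtype.ext htp, map_one]⟩
      ⟨1, by rw [pow_one, ← map_pow, show t'M ^ p = 1 from Subtype.ext htp', map_one]⟩ hσ1 hτσ
    obtain ⟨s0, hs0⟩ : ∃ s0 : M, η s0 = m := by
      have : m ∈ η.range := (Subgroup.closure_le _).2 (by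
        rintro _ (rfl | rfl)
        exacts [⟨tM, rfl⟩, ⟨t'M, rfl⟩]) hm
      exact this
    set s : MulAut C := (s0 : MulAut C) with hs
    have hsW : ∀ a ∈ W, s a = a⁻¹ := fun a ha => by
      rw [hs, ← hηv s0 ⟨a, ha⟩, hs0, hmv]
      rfl
    have hsd : ∀ d : C, t d = d → t' d = d → s d = d := (hM s s0.2).2
    -- `C` is the product of `W` and the common fixed points
    have hspan : ∀ a : C, ∃ w ∈ W, ∃ d : C, t d = d ∧ t' d = d ∧ a = w * d := by
      intro a
      have hyne : yC⁻¹ * t yC ≠ 1 := fun h => hty (inv_mul_eq_one.1 h).symm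
      obtain ⟨i, hi⟩ := Subgroup.mem_zpowers_iff.1
        ((hline _ _ hz1 (htc yC) hyne).ge (htc a))
      set a1 := a * (yC ^ i)⁻¹ with ha1
      have h1 : t a1 = a1 := by
        rw [ha1, map_mul, map_inv, map_zpow]
        have hc2 : t yC = yC * (yC⁻¹ * t yC) := (mul_inv_cancel_left _ _).symm
        have hc3 : t a = a * (yC⁻¹ * t yC) ^ i := by rw [hi, mul_inv_cancel_left]
        rw [hc3]
        nth_rewrite 2 [hc2]
        rw [(show Commute yC (yC⁻¹ * t yC) from hCc' _ _).mul_zpow, mul_inv_rev,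
          ← mul_assoc, mul_inv_cancel_right]
      have hzne : zC⁻¹ * t' zC ≠ 1 := fun h => ht'z (inv_mul_eq_one.1 h).symm
      obtain ⟨j, hj⟩ := Subgroup.mem_zpowers_iff.1
        ((hline _ _ hy1 (ht'c zC) hzne).ge (ht'c a1))
      refine ⟨yC ^ i * zC ^ j, W.mul_mem (W.zpow_mem hyW i) (W.zpow_mem hzW j),
        a1 * (zC ^ j)⁻¹, ?_, ?_, ?_⟩
      · rw [map_mul, map_inv, map_zpow, htz, h1]
      · rw [map_mul, map_inv, map_zpow]
        have hc2 : t' zC = zC * (zC⁻¹ * t' zC) := (mul_inv_cancel_left _ _).symm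
        have hc3 : t' a1 = a1 * (zC⁻¹ * t' zC) ^ j := by rw [hj, mul_inv_cancel_left]
        rw [hc3]
        nth_rewrite 2 [hc2]
        rw [(show Commute zC (zC⁻¹ * t' zC) from hCc' _ _).mul_zpow, mul_inv_rev,
          ← mul_assoc, mul_inv_cancel_right]
      · rw [ha1, hCc' (a * (yC ^ i)⁻¹) (zC ^ j)⁻¹, hCc' a (yC ^ i)⁻¹]
        group
    have hcomm' : s * t * s⁻¹ = t := by
      rw [mul_inv_eq_iff_eq_mul]
      refine MulEquiv.ext fun a => ?_
      obtain ⟨w, hw, d, hd, hd', rfl⟩ := hspan a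
      rw [MulAut.mul_apply, MulAut.mul_apply, map_mul t, hd, map_mul, map_mul s w d, map_mul,
        hsd d hd hd', hd, hsW w hw, hsW _ ((hM t (Subgroup.subset_closure (by simp))).1 w hw),
        map_inv]
    have hsA : s ∈ F.autGroup C := (Subgroup.closure_le (K := F.autGroup C)).2 (by
      rintro b (rfl | rfl); exacts [htA, ht'A]) s0.2
    obtain ⟨x', hx', ⟨hN, he⟩, hpw⟩ := hext s hsA
      (by rw [hcomm']; exact Fusion.conjAut_mem_autInducedBy hxS hxN)
    rw [hcomm'] at he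
    have hxm : x ^ p ∈ C := (Subgroup.zpowers_le.2 hz) hxp
    have hx'C : x⁻¹ * x' ∈ C := by
      refine hCy _ (P.mul_mem (P.inv_mem hx) hx') ?_
      have h1 : x' * y * x'⁻¹ = x * y * x⁻¹ :=
        congrArg (fun f : MulAut C => ((f yC : C) : Ω)) he
      calc x⁻¹ * x' * y = x⁻¹ * (x' * y * x'⁻¹) * x' := by group
        _ = y * (x⁻¹ * x') := by rw [h1]; group
    have h2 := hpow _ hx'C
    rw [mul_inv_cancel_left, hpw hxm] at h2
    have hxW : (⟨x ^ p, hxm⟩ : C) ∈ W := Subgroup.mem_sup_left (by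
      obtain ⟨i, hi⟩ := Subgroup.mem_zpowers_iff.1 hxp
      exact Subgroup.mem_zpowers_iff.2 ⟨i, Subtype.ext hi⟩)
    rw [hsW _ hxW] at h2
    have h3 : (⟨x ^ p, hxm⟩ : C) ^ 2 = 1 := Subtype.ext (by
      show (x ^ p) ^ 2 = 1
      rw [sq]
      nth_rewrite 1 [← h2]
      exact inv_mul_cancel (x ^ p))
    exact hxp1 (congrArg Subtype.val (orderOf_eq_one_iff.1 (Nat.eq_one_of_dvd_coprimes
      ((Nat.coprime_primes hp.out Nat.prime_two).2 hp2) (orderOf_dvd_of_pow_eq_one (hCe' _))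
      (orderOf_dvd_of_pow_eq_one h3))))

/-- Let F be a saturated fusion system over a finite p-group S and P a subgroup of S strongly closed in F that is generalized extraspecial (its Frattini subgroup equals its commutator subgroup and has order p) and not isomorphic to E × A with A elementary abelian and E dihedral of order 8 (p = 2) or extraspecial of order p³ and exponent p (p odd). Then P is normal in F. -/
theorem result {Ω : Type*} [Group Ω] {S : Subgroup Ω} [Finite S] (p : ℕ) [Fact p.Prime] (hS : IsPGroup p S) (F : Cfsg.FusionSystem S) (hF : F.IsSaturated p) (P : Subgroup Ω) (hP : F.StronglyClosed P) (hge : frattini ↥P = commutator ↥P ∧ Nat.card ↥(commutator ↥P) = p) (h2 : p = 2 → ¬ ∃ (A : Type) (_ : CommGroup A), (∀ a : A, a ^ 2 = 1) ∧ Nonempty (↥P ≃* DihedralGroup 4 × A)) (hodd : p ≠ 2 → ¬ ∃ (E : Type) (_ : Group E) (A : Type) (_ : CommGroup A), Cfsg.IsExtraspecial p E ∧ Nat.card E = p ^ 3 ∧ Monoid.exponent E = p ∧ (∀ a : A, a ^ p = 1) ∧ Nonempty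 (↥P ≃* E × A)) : F.IsNormal P := by
  have hp : p.Prime := Fact.out
  have hPS : P ≤ S := hP.1
  have := Fusion.finite_of_le (Ω := Ω) hPS
  have hPp : IsPGroup p P := hS.to_le hPS
  obtain ⟨hfr, hd⟩ := hge
  set D := commutator ↥P with hD
  have hDc : D ≤ Subgroup.center P := PGroup.le_center_of_card_eq hPp D hd
  have hclass : ∀ a b : P, ⁅a, b⁆ ∈ D := fun a b => by
    rw [hD, commutator_def]
    exact Subgroup.commutator_mem_commutator (Subgroup.mem_top _) (Subgroup.mem_top _)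
  have hpow : ∀ a : P, a ^ p ∈ D := fun a => hfr ▸ PGroup.pow_mem_frattini hPp a
  set Z := D.map P.subtype with hZ
  have hZP : Z ≤ P := Subgroup.map_subtype_le D
  have hZS : Z ≤ S := hZP.trans hPS
  have hZcard : Nat.card Z = p := by
    rw [hZ, Subgroup.card_map_of_injective P.subtype_injective, hd]
  have hZn : S ≤ Subgroup.normalizer (Z : Set Ω) := by
    have hmem : ∀ g ∈ S, ∀ y ∈ Z, g * y * g⁻¹ ∈ Z := by
      rintro g hg _ ⟨d, hdm, rfl⟩
      have hgN := Fusion.le_normalizer_of_stronglyClosed hP hg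
      have hchar : D.map (Fusion.conjAut hgN).toMonoidHom = D :=
        Subgroup.characteristic_iff_map_eq.1 inferInstance _
      exact ⟨_, hchar.le ⟨d, hdm, rfl⟩, rfl⟩
    intro g hg
    refine Subgroup.mem_normalizer_iff.2 fun y => ⟨hmem g hg y, fun hy => ?_⟩
    simpa [mul_assoc] using hmem g⁻¹ (S.inv_mem hg) _ hy
  suffices hweak : F.WeaklyClosed Z by
    refine (S5226.result p hS F hF P).2 ⟨hP, 2, ![⊥, Z, P], rfl, rfl, ?_, ?_, ?_⟩
    · refine Fin.monotone_iff_le_succ.2 fun i => ?_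
      fin_cases i
      · exact bot_le
      · exact hZP
    · intro i
      fin_cases i
      · show ⁅Z, P⁆ ≤ ⊥
        rw [le_bot_iff, Subgroup.commutator_eq_bot_iff_le_centralizer]
        rintro _ ⟨d, hdm, rfl⟩ g hg
        exact congrArg Subtype.val (Subgroup.mem_center_iff.1 (hDc hdm) ⟨g, hg⟩)
      · show ⁅P, P⁆ ≤ Z
        exact Subgroup.commutator_le.2 fun a ha b hb =>
          ⟨⁅(⟨a, ha⟩ : P), (⟨b, hb⟩ : P)⁆, hclass _ _, rfl⟩
    · intro i
      fin_cases i
      · show F.WeaklyClosed (⊥ : Subgroup Ω)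
        refine ⟨bot_le, fun φ _ => ?_⟩
        ext y
        refine ⟨fun ⟨x, hx⟩ => ?_,
          fun hy => ⟨1, by rw [map_one]; exact (Subgroup.mem_bot.1 hy).symm⟩⟩
        rw [← hx, Subsingleton.elim x 1, map_one]
        exact Subgroup.one_mem _
      · exact hweak
  refine ⟨hZS, fun φ hφ => ?_⟩
  by_contra hne
  -- a conjugate `y` outside `Z` of a generator of `Z`
  obtain ⟨z0, hz0, hz01⟩ := (Subgroup.bot_or_exists_ne_one Z).resolve_left (fun h => by
    rw [h, Subgroup.card_bot] at hZcard; exact hp.one_lt.ne hZcard)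
  have := Fusion.finite_of_le (Ω := Ω) hZS
  set zZ : Z := ⟨z0, hz0⟩ with hzZ
  have hzgen : Z = Subgroup.zpowers z0 := by
    refine (Subgroup.eq_of_le_of_card_ge (Subgroup.zpowers_le.2 hz0) ?_).symm
    have h1 : z0 ^ p = 1 := by
      rw [← hZcard]
      exact congrArg Subtype.val (pow_card_eq_one' (x := zZ))
    rw [hZcard, Nat.card_zpowers, orderOf_eq_prime h1 hz01]
  have hyP : φ zZ ∈ P := hP.2 Z hZP φ hφ zZ
  set y := φ zZ with hy
  have hyZ : y ∉ Z := by
    intro h
    refine hne (Fusion.range_eq_of_le hφ hZS (fun u => ?_) le_rfl)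
    obtain ⟨i, hi⟩ := Subgroup.mem_zpowers_iff.1 (hzgen.le u.2)
    have : u = zZ ^ i := Subtype.ext hi.symm
    rw [this, map_zpow]
    exact Z.zpow_mem h i
  -- an extension of the inverse map to `C_P(y)`
  have hzfn : F.IsFullyNormalized Z := by
    refine ⟨hZS, fun Q _ => ?_⟩
    rw [Fusion.normalizerIn_eq_of_le hZn]
    exact Subgroup.card_le_of_le inf_le_left
  obtain ⟨χ, hχ, hχr, hχi, -⟩ := Fusion.exists_inverse hφ rfl
  obtain ⟨ψ0, hψ0, hψ0v⟩ := Fusion.exists_extension (Fusion.isReceptive_of_fullyNormalized hS hF hzfn)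
    hχ hχr (Fusion.centralizerIn_le_extender (S := S) χ)
  set C0 := P ⊓ FusionSystem.centralizerIn S φ.range with hC0
  set C : Subgroup P := C0.subgroupOf P with hC
  have hyC0 : y ∈ C0 := ⟨hyP, Fusion.mem_centralizerIn.2 ⟨hPS hyP, by
    rintro _ ⟨u, rfl⟩
    obtain ⟨i, hi⟩ := Subgroup.mem_zpowers_iff.1 (hzgen.le u.2)
    rw [show u = zZ ^ i from Subtype.ext hi.symm, map_zpow]
    exact ((Commute.refl y).zpow_left i).eq⟩⟩
  have hmemC : ∀ g : P, g ∈ C ↔ g * ⟨y, hyP⟩ = ⟨y, hyP⟩ * g := by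
    intro g
    constructor
    · intro h
      exact Subtype.ext ((Fusion.mem_centralizerIn.1 h.2).2 y ⟨zZ, rfl⟩).symm
    · intro h
      refine Subgroup.mem_subgroupOf.2 ⟨g.2, Fusion.mem_centralizerIn.2 ⟨hPS g.2, ?_⟩⟩
      rintro _ ⟨u, rfl⟩
      obtain ⟨i, hi⟩ := Subgroup.mem_zpowers_iff.1 (hzgen.le u.2)
      rw [show u = zZ ^ i from Subtype.ext hi.symm, map_zpow]
      exact ((show Commute (g : Ω) y from congrArg Subtype.val h).zpow_right i).eq.symm
  have hψC : ∀ g : C0, ψ0 ⟨g, g.2.2⟩ ∈ P := fun g =>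
    hP.2 C0 inf_le_left _ (Fusion.restrict_mem hψ0 inf_le_right) g
  let f : C →* P := MonoidHom.mk' (fun g => ⟨ψ0 ⟨((g : P) : Ω), g.2.2⟩, hψC ⟨_, g.2⟩⟩)
    (fun a b => Subtype.ext (map_mul ψ0 ⟨_, a.2.2⟩ ⟨_, b.2.2⟩))
  have hfinj : Function.Injective f := fun a b h => by
    have h1 := congrArg Subtype.val (F.injective_of_mem hψ0 (congrArg Subtype.val h))
    exact Subtype.ext (Subtype.ext h1)
  set yC : C := ⟨⟨y, hyP⟩, hyC0⟩ with hyC
  have hfy : ((f yC : P) : Ω) = z0 := by
    show ψ0 ⟨y, _⟩ = z0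
    rw [hψ0v y ⟨zZ, rfl⟩ hyC0.2]
    exact hχi zZ ⟨zZ, rfl⟩
  have hzD : ∀ d ∈ D, ∃ i : ℤ, f (yC ^ i) = d := fun d hdm => by
    obtain ⟨i, hi⟩ := Subgroup.mem_zpowers_iff.1
      (hzgen.le (⟨d, hdm, rfl⟩ : (d : Ω) ∈ Z))
    exact ⟨i, Subtype.ext (by rw [map_zpow, SubgroupClass.coe_zpow, hfy, hi])⟩
  have hkill : ∀ g : C, (g : P) ∈ D → f g ∈ D → g = 1 := by
    intro g hg hfg
    obtain ⟨i, hi⟩ := hzD _ hfg
    have hgi : g = yC ^ i := hfinj hi.symm
    by_contra hg1
    apply hyZ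
    have hgo : orderOf ((g : P) : Ω) = p := orderOf_eq_prime (by
      have := congrArg Subtype.val (pow_card_eq_one' (x := (⟨g, hg⟩ : D)))
      rw [hd] at this
      exact congrArg Subtype.val this) (fun h => hg1 (Subtype.ext (Subtype.ext h)))
    have hyo : orderOf y = p := by
      refine orderOf_eq_prime ?_ fun h => hyZ (h ▸ Z.one_mem)
      have h1 : zZ ^ p = 1 := by rw [← hZcard]; exact pow_card_eq_one'
      rw [hy, ← map_pow, h1, map_one]
    have hval : ((g : P) : Ω) = y ^ i := by rw [hgi]; rfl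
    have heq : Subgroup.zpowers ((g : P) : Ω) = Subgroup.zpowers y := by
      have := Fusion.finite_of_le (Ω := Ω) (P := Subgroup.zpowers y)
        (Subgroup.zpowers_le.2 (hPS hyP))
      refine Subgroup.eq_of_le_of_card_ge (Subgroup.zpowers_le.2 (hval ▸ ⟨i, rfl⟩)) ?_
      rw [Nat.card_zpowers, Nat.card_zpowers, hgo, hyo]
    exact (Subgroup.zpowers_le.2 (⟨g, hg, rfl⟩ : ((g : P) : Ω) ∈ Z))
      (heq.ge (Subgroup.mem_zpowers y))
  have hCc : ∀ a ∈ C, ∀ b ∈ C, a * b = b * a := fun a ha b hb => by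
    have h := hkill ⁅(⟨a, ha⟩ : C), (⟨b, hb⟩ : C)⁆ (hclass a b)
      (by rw [map_commutatorElement]; exact hclass _ _)
    exact commutatorElement_eq_one_iff_mul_comm.1 (congrArg Subtype.val h)
  have hCe : ∀ a ∈ C, a ^ p = 1 := fun a ha =>
    congrArg Subtype.val (hkill ((⟨a, ha⟩ : C) ^ p) (hpow a) (by rw [map_pow]; exact hpow _))
  -- `C` has index `p`
  have hD1 : D ≠ ⊥ := fun h => by rw [h, Subgroup.card_bot] at hd; exact hp.one_lt.ne hd
  have hnab : ∃ a : P, a ∉ C := by
    by_contra hall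
    push Not at hall
    refine hD1 ?_
    rw [hD, commutator_def, Subgroup.commutator_eq_bot_iff_le_centralizer]
    exact fun a _ b _ => hCc b (hall b) a (hall a)
  have hCi : C.index = p := by
    let k := PGroup.commHom (⊤ : Subgroup P) (⟨y, hyP⟩ : P) fun a _ => hDc (hclass a _)
    have hker : k.ker.map (⊤ : Subgroup P).subtype = C := by
      ext a
      constructor
      · rintro ⟨b, hb, rfl⟩
        exact (hmemC b).2 (commutatorElement_eq_one_iff_mul_comm.1
          (congrArg Subtype.val (MonoidHom.mem_ker.1 hb)))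
      · intro ha
        exact ⟨⟨a, trivial⟩, MonoidHom.mem_ker.2
          (Subtype.ext (commutatorElement_eq_one_iff_mul_comm.2 ((hmemC a).1 ha))), rfl⟩
    have hle : Nat.card k.range ∣ p := by
      rw [← hd, ← Subgroup.card_map_of_injective (Subgroup.center P).subtype_injective]
      refine Subgroup.card_dvd_of_le ?_
      rintro _ ⟨_, ⟨a, rfl⟩, rfl⟩
      exact hclass a _
    have hi : C.index = Nat.card k.range := by
      rw [← hker, ← Subgroup.index_ker, Subgroup.index_map_subtype, Subgroup.index_top, mul_one]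
    rcases (Nat.dvd_prime hp).1 hle with h | h
    · obtain ⟨a, ha⟩ := hnab
      exact absurd (Subgroup.index_eq_one.1 (hi.trans h) ▸ Subgroup.mem_top a) ha
    · exact hi.trans h
  have hCn : C.Normal := PGroup.normal_of_index_eq hPp hCi
  obtain ⟨x, hx⟩ := hnab
  by_cases hex : ∃ u : P, u ∉ C ∧ u ^ p = 1
  · obtain ⟨u, hu, hup⟩ := hex
    exact S5233.excluded hPp hd C hCi hCc hCe u hu hup h2 hodd
  push Not at hex
  have hgen : ∀ g : P, ∃ a ∈ C, ∃ i : ℕ, g = a * x ^ i := by
    intro g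
    have htop : C ⊔ Subgroup.zpowers x = ⊤ := by
      refine Subgroup.eq_top_of_card_eq _ ?_
      have hxC : x ^ p ∈ C := by
        have := Subgroup.pow_index_mem C x
        rwa [hCi] at this
      rw [PGroup.card_sup_zpowers C hx hxC, ← hCi, Subgroup.card_mul_index]
    have hg : g ∈ ((C ⊔ Subgroup.zpowers x : Subgroup P) : Set P) := by rw [htop]; trivial
    rw [Subgroup.normal_mul] at hg
    obtain ⟨a, ha, b, hb, rfl⟩ := hg
    obtain ⟨i, rfl⟩ := (isOfFinOrder_of_finite x).mem_powers_iff_mem_zpowers.2 hb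
    exact ⟨a, ha, i, rfl⟩
  rcases eq_or_ne p 2 with rfl | hp2
  · -- `p = 2`: an involution outside `C`
    obtain ⟨c, hc, hcx⟩ : ∃ c ∈ C, ⁅x, c⁆ ≠ 1 := by
      by_contra hall
      push Not at hall
      have hxc : ∀ g : P, g * x = x * g := fun g => by
        obtain ⟨a, ha, i, rfl⟩ := hgen g
        exact ((show Commute a x from
          (commutatorElement_eq_one_iff_mul_comm.1 (hall a ha)).symm).mul_left
            (Commute.pow_self x i)).eq
      exact hx ((hmemC x).2 (hxc ⟨y, hyP⟩).symm)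
    have hone : ∀ a b : D, a ≠ 1 → b ≠ 1 → a = b := by
      intro a b ha hb
      obtain ⟨u, v, -, huniv⟩ := Nat.card_eq_two_iff.mp hd
      have hall : ∀ w : D, w = u ∨ w = v := fun w => by simpa using huniv.ge (Set.mem_univ w)
      rcases hall 1 with h | h <;> rcases hall a with ha' | ha' <;> rcases hall b with hb' | hb' <;>
        first
        | exact ha'.trans hb'.symm
        | exact absurd (ha'.trans h.symm) ha
        | exact absurd (hb'.trans h.symm) hb
    have hx2 : x ^ 2 ≠ 1 := hex x hx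
    have hceq : x ^ 2 = ⁅x, c⁆ := congrArg Subtype.val
      (hone ⟨_, hpow x⟩ ⟨_, hclass x c⟩ (fun h => hx2 (congrArg Subtype.val h))
        (fun h => hcx (congrArg Subtype.val h)))
    refine hex (c * x) (fun h => hx ?_) ?_
    · simpa using C.mul_mem (C.inv_mem hc) h
    · rw [PGroup.mul_pow_of_central (hDc (hclass x c)), hCe c hc, one_mul, hceq,
        show (2 : ℕ).choose 2 = 1 from rfl, pow_one, ← sq]
      exact congrArg Subtype.val (hd ▸ pow_card_eq_one' (x := (⟨_, hclass x c⟩ : D)))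
  · -- `p` odd
    have hCiff : ∀ g : P, g ∈ C ↔ g ^ p = 1 :=
      fun g => ⟨hCe g, fun h => by by_contra hg; exact hex g hg h⟩
    have hC0sc : F.StronglyClosed C0 := by
      refine ⟨inf_le_left.trans hPS, fun R hR θ hθ u => ?_⟩
      have huP : θ u ∈ P := hP.2 R (hR.trans inf_le_left) θ hθ u
      refine Subgroup.mem_subgroupOf.1 (show (⟨θ u, huP⟩ : P) ∈ C from (hCiff _).2 (Subtype.ext ?_))
      have h1 : (⟨(u : Ω), (hR u.2).1⟩ : P) ∈ C := hR u.2
      have h2 : u ^ p = 1 := Subtype.ext (congrArg Subtype.val ((hCiff _).1 h1) : _)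
      rw [SubgroupClass.coe_pow, ← map_pow, h2, map_one]
      rfl
    have hC0S : C0 ≤ S := inf_le_left.trans hPS
    have hψres := Fusion.restrict_mem hψ0 (inf_le_right : C0 ≤ FusionSystem.centralizerIn S φ.range)
    have hrng := Fusion.range_eq_of_le hψres hC0S (fun u => hC0sc.2 C0 le_rfl _ hψres u) le_rfl
    have hz0C : z0 ∈ C0 := by
      have := hC0sc.2 C0 le_rfl _ hψres ⟨y, hyC0⟩
      rwa [show (ψ0.comp (Subgroup.inclusion inf_le_right)) ⟨y, hyC0⟩ = z0 from hfy] at this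
    refine S5233.no_move hS hF hp2 hP hC0sc inf_le_left
      (fun a ha b hb => congrArg Subtype.val (hCc ⟨a, ha.1⟩ ha ⟨b, hb.1⟩ hb))
      (fun a ha => congrArg Subtype.val (hCe ⟨a, ha.1⟩ ha))
      hyC0 hz0C (hzgen ▸ hyZ) ?_ x.2 hx (fun h => hex x hx (Subtype.ext h)) ?_ ?_ ?_ ?_ ?_
      (Fusion.toAut hψres hrng) (Fusion.toAut_mem hψres hrng) hfy
    · exact fun g hg h => (hmemC ⟨g, hg⟩).2 (Subtype.ext h)
    · exact hzgen.le ⟨x ^ p, hpow x, rfl⟩
    · obtain ⟨d, hdm, hde⟩ := hz0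
      rw [← hde]
      exact congrArg Subtype.val (Subgroup.mem_center_iff.1 (hDc hdm) x)
    · intro g hg
      obtain ⟨a, ha, i, he⟩ := hgen ⟨g, hg⟩
      exact ⟨a, ha, i, congrArg Subtype.val he⟩
    · intro a ha
      refine hzgen.le ⟨(⟨a, ha.1⟩ : P)⁻¹ * (x * ⟨a, ha.1⟩ * x⁻¹), ?_, rfl⟩
      have := hclass (⟨a, ha.1⟩ : P)⁻¹ x
      rw [commutatorElement_def, inv_inv] at this
      simpa [mul_assoc] using this
    · intro a ha
      have := PGroup.mul_pow_prime hp hp2 (x := x) (y := (⟨a, ha.1⟩ : P)) (hDc (hclass _ _))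
        (PGroup.commutator_pow_eq_one (fun d hdm => hDc hdm) (fun d => hDc (hpow d)) _ _)
      rw [hCe ⟨a, ha.1⟩ ha, mul_one] at this
      exact congrArg Subtype.val this

end Cfsg.Agent.S5233
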