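import Cfsg.Statements.S5234
import Cfsg.Agent.Lib.Fusion.NormalCriteria
import Cfsg.Agent.Lib.Fusion.StrongInduction
import Cfsg.Agent.Lib.Fusion.Stabilizer
import Cfsg.Agent.Lib.Fusion.PairInversion
import Cfsg.Agent.Lib.Fusion.MetacyclicOmega
-- import your own Cfsg.Agent.* helpers here

set_option autoImplicit false
open Cfsg

namespace Cfsg.Agent.S5234

/-- An automorphism of `p`-power order of a group of exponent `p` and order dividing `p ^ 2`
is trivial, or the group has order `p ^ 2` and the automorphism has order `p`. -/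
theorem aut_facts {U : Type*} [Group U] [Finite U] {p : ℕ} [hp : Fact p.Prime]
    (hcomm : ∀ a b : U, a * b = b * a) (hexp : ∀ x : U, x ^ p = 1) (hU : Nat.card U ≤ p ^ 2)
    {σ : MulAut U} (hσ : ∃ k, σ ^ p ^ k = 1) (hne : σ ≠ 1) :
    Nat.card U = p ^ 2 ∧ σ ^ p = 1 := by
  have hUp : IsPGroup p U := fun x => ⟨1, by rw [pow_one]; exact hexp x⟩
  obtain ⟨i, hi⟩ := IsPGroup.iff_card.1 hUp
  have hi2 : i ≤ 2 := (Nat.pow_le_pow_iff_right hp.out.one_lt).1 (hi ▸ hU)
  have hcard : Nat.card U = p ^ 2 := by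
    by_contra hne2
    apply hne
    have hi1 : i ≤ 1 := by
      by_contra h
      exact hne2 (by rw [hi, show i = 2 by omega])
    have hcyc : IsCyclic U := by
      interval_cases i
      · have : Subsingleton U := (Nat.card_eq_one_iff_unique.1 (by simpa using hi)).1
        infer_instance
      · exact isCyclic_of_prime_card (by simpa using hi)
    have hfin : Finite (MulAut U) :=
      Finite.of_injective (fun b : MulAut U => (b : U → U)) DFunLike.coe_injective
    have h1 : orderOf σ ∣ (p ^ i).totient := by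
      rw [← hi, ← IsCyclic.card_mulAut U]
      exact orderOf_dvd_natCard σ
    obtain ⟨k, hk⟩ := hσ
    have h2 : orderOf σ ∣ p ^ k := orderOf_dvd_of_pow_eq_one hk
    have h3 : (p ^ k).Coprime (p ^ i).totient := by
      refine Nat.Coprime.pow_left _ ?_
      interval_cases i
      · simp
      · rw [pow_one, Nat.totient_prime hp.out]
        refine hp.out.coprime_iff_not_dvd.2 fun h => ?_
        have := Nat.le_of_dvd (by have := hp.out.two_le; omega) h
        have := hp.out.two_le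
        omega
    exact orderOf_eq_one_iff.1 (Nat.eq_one_of_dvd_coprimes h3 h2 h1)
  refine ⟨hcard, MulEquiv.ext fun x => ?_⟩
  obtain ⟨u, -, hu, -, hr⟩ := Fusion.exists_fixed_line hcomm hcard hσ hne
  have hfix : σ (x⁻¹ * σ x) = x⁻¹ * σ x := by
    obtain ⟨j, hj⟩ := Subgroup.mem_zpowers_iff.1 (hr x)
    rw [← hj, map_zpow, hu]
  rw [Fusion.aut_pow_apply_of_fixed σ (mul_inv_cancel_left x (σ x)).symm hfix p, hexp, mul_one,
    MulAut.one_apply]

/-- The theorem, with the cyclic normal subgroup given. -/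
theorem main {Ω : Type*} [Group Ω] {S : Subgroup Ω} [Finite S] {p : ℕ} [hp : Fact p.Prime]
    (hS : IsPGroup p S) {F : Cfsg.FusionSystem S} (hF : F.IsSaturated p) {P : Subgroup Ω}
    (hP : F.StronglyClosed P) (hp2 : p ≠ 2) (C : Subgroup P) [C.Normal] [IsCyclic C]
    [IsCyclic (P ⧸ C)] : F.IsNormal P := by
  open Cfsg.Agent.Fusion Cfsg.FusionSystem in
  refine isNormal_of_stronglyClosed hS hF hP fun R hRn hRc hRr => ?_
  have hRS : R ≤ S := hRc.1
  have := Fusion.finite_of_le (Ω := Ω) hRS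
  have := Fusion.finite_of_le (Ω := Ω) hP.1
  have := Fusion.finite_mulAut (Ω := Ω) hRS
  have hPn : S ≤ Subgroup.normalizer (P : Set Ω) := Fusion.le_normalizer_of_stronglyClosed hP
  have hRp : IsPGroup p R := hS.to_le hRS
  have hPp : IsPGroup p P := hS.to_le hP.1
  have hcent := Fusion.isCentric_centralizerIn_le hRc
  by_contra hPR
  -- `R ∩ P` and its elements of order `p`
  let P0 : Subgroup R := P.subgroupOf R
  let U : Subgroup R :=
    { carrier := {x | (x : Ω) ∈ P ∧ (x : Ω) ^ p = 1}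
      one_mem' := ⟨P.one_mem, one_pow p⟩
      mul_mem' := fun {a b} ha hb => by
        refine ⟨P.mul_mem ha.1 hb.1, ?_⟩
        have hc : Commute (a : Ω) (b : Ω) := congrArg Subtype.val
          (Fusion.commute_of_pow_eq_one hPp hp2 (C := C) (x := ⟨a, ha.1⟩) (y := ⟨b, hb.1⟩)
            (Subtype.ext ha.2) (Subtype.ext hb.2))
        rw [Subgroup.coe_mul, hc.mul_pow, ha.2, hb.2, mul_one]
      inv_mem' := fun {a} ha =>
        ⟨P.inv_mem ha.1, by rw [Subgroup.coe_inv, inv_pow, ha.2, inv_one]⟩ }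
  have hUexp : ∀ x : U, x ^ p = 1 := fun x => Subtype.ext (Subtype.ext x.2.2)
  have hUcomm : ∀ a b : U, a * b = b * a := fun a b => by
    have h := congrArg Subtype.val (Fusion.commute_of_pow_eq_one hPp hp2 (C := C)
      (x := ⟨((a : R) : Ω), a.2.1⟩) (y := ⟨((b : R) : Ω), b.2.1⟩)
      (Subtype.ext a.2.2) (Subtype.ext b.2.2))
    exact Subtype.ext (Subtype.ext h)
  -- the automorphisms preserve both
  have hinvP : ∀ a : F.autGroup R, ∀ x ∈ P0, (a : MulAut R) x ∈ P0 := fun a x hx =>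
    Subgroup.mem_subgroupOf.2 (Fusion.apply_mem_of_stronglyClosed hP hRS a.2 hx)
  have hinvU : ∀ a : F.autGroup R, ∀ x ∈ U, (a : MulAut R) x ∈ U := fun a x hx =>
    ⟨hinvP a x hx.1, by
      rw [← SubgroupClass.coe_pow, ← map_pow, show x ^ p = 1 from Subtype.ext hx.2, map_one]
      rfl⟩
  let η : F.autGroup R →* MulAut U :=
    { toFun := fun a =>
        { toFun := fun x => ⟨(a : MulAut R) x, hinvU a x x.2⟩
          invFun := fun x => ⟨(a : MulAut R)⁻¹ x, hinvU a⁻¹ x x.2⟩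
          left_inv := fun x => Subtype.ext (MulAut.inv_apply_self R (a : MulAut R) x)
          right_inv := fun x => Subtype.ext (MulAut.apply_inv_self R (a : MulAut R) x)
          map_mul' := fun x y => Subtype.ext (map_mul (a : MulAut R) (x : R) (y : R)) }
      map_one' := MulEquiv.ext fun x => rfl
      map_mul' := fun a b => MulEquiv.ext fun x => rfl }
  have hηv : ∀ (a : F.autGroup R) (x : U), ((η a x : U) : R) = (a : MulAut R) x := fun a x => rfl
  -- the automorphisms trivial modulo `P0`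
  let T : ℕ → Subgroup R := fun i => if i = 0 then P0 else ⊤
  have hT : ∀ (a : F.autGroup R) (i : ℕ), ∀ x ∈ T i, (a : MulAut R) x ∈ T i := by
    intro a i x hx
    by_cases h : i = 0
    · simp only [T, if_pos h] at hx ⊢
      exact hinvP a x hx
    · simp [T, if_neg h]
  let K1 := Fusion.seriesStabilizer (F.autGroup R) T hT
  have hK1n : K1.Normal := Fusion.seriesStabilizer_normal _ T hT
  have hK1v : ∀ a ∈ K1, ∀ x : R, x⁻¹ * ((a : F.autGroup R) : MulAut R) x ∈ P0 := fun a ha x => by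
    have := ha 0 x (by simp [T])
    simpa [T] using this
  have hfix : ∀ a : F.autGroup R, (orderOf (a : MulAut R)).Coprime p → a ∈ K1 → η a = 1 → a = 1 := by
    intro a ha haK haη
    have h0 : ∀ x ∈ P0, (a : MulAut R) x = x :=
      Fusion.eq_self_of_fix_pow_eq_one hp2 hRp ha (hinvP a) fun x hx hxp => by
        have h1 := congrArg (fun f : MulAut U => ((f ⟨x, hx, congrArg Subtype.val hxp⟩ : U) : R)) haη
        simpa [hηv] using h1
    exact Subtype.ext (MulEquiv.ext fun x =>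
      Fusion.eq_self_of_translate hRp ha (h0 _ (hK1v a haK x)))
  let J : Subgroup (F.autGroup R) := K1 ⊓ η.ker
  have hJp : IsPGroup p J := Fusion.isPGroup_of_coprime_orderOf_eq_one fun a ha => by
    refine Subtype.ext (hfix a ?_ a.2.1 (MonoidHom.mem_ker.1 a.2.2))
    rwa [Subgroup.orderOf_coe, Subgroup.orderOf_coe]
  have hJn : J.Normal := inferInstance
  have hJI : ∀ a ∈ J, ((a : F.autGroup R) : MulAut R) ∈ Inn R := fun a ha =>
    hRr.2.le ⟨a, PCore.le_pCore hJp ha, rfl⟩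
  -- an element of `N_P(R)` outside `R`
  obtain ⟨g, hgP, hgN, hgR⟩ : ∃ g ∈ P, g ∈ Subgroup.normalizer (R : Set Ω) ∧ g ∉ R := by
    by_contra hcon
    push Not at hcon
    have := Fusion.inn_subgroupOf_normal R (F.autGroup R)
    refine hPR (Fusion.le_of_autInducedBy_le hS hP.1 hPn hRc hRr _
      ((Fusion.isPGroup_inn hS hRS).of_equiv
        (Subgroup.subgroupOfEquivOfLe (Fusion.inn_le_autGroup F hRS)).symm) ?_)
    intro g hg hgN hm
    exact Subgroup.mem_subgroupOf.2 ⟨⟨g, hcon g hg hgN⟩, MulEquiv.ext fun x => Subtype.ext rfl⟩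
  have hgS : g ∈ S := hP.1 hgP
  have hcgm := Fusion.autInducedBy_le_autGroup F hRS (Fusion.conjAut_mem_autInducedBy hgS hgN)
  let cg : F.autGroup R := ⟨Fusion.conjAut hgN, hcgm⟩
  have hcgK : cg ∈ K1 := by
    intro i x hx
    by_cases hi : i = 0
    · simp only [T, if_pos hi]
      refine Subgroup.mem_subgroupOf.2 ?_
      show (x : Ω)⁻¹ * (g * x * g⁻¹) ∈ P
      have h1 := (Subgroup.mem_normalizer_iff.1 (hPn (S.inv_mem (hRS x.2))) g).1 hgP
      have h2 := P.mul_mem h1 (P.inv_mem hgP)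
      simpa [mul_assoc] using h2
    · simp [T, if_neg hi]
  have hcgI : (cg : MulAut R) ∉ Inn R := Fusion.conjAut_notMem_inn hcent hRS hgS hgN hgR
  set σ := η cg with hσdef
  have hσ1 : σ ≠ 1 := fun h => hcgI (hJI cg ⟨hcgK, MonoidHom.mem_ker.2 h⟩)
  have hcgp : ∃ k, cg ^ p ^ k = 1 := by
    obtain ⟨k, hk⟩ := Fusion.isPGroup_autInducedBy hS R
      ⟨_, Fusion.conjAut_mem_autInducedBy (K := S) hgS hgN⟩
    refine ⟨k, Subtype.ext ?_⟩
    rw [SubgroupClass.coe_pow]
    have hk' := congrArg Subtype.val hk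
    rw [SubgroupClass.coe_pow] at hk'
    exact hk'
  have hσp : ∃ k, σ ^ p ^ k = 1 := hcgp.imp fun k hk => by rw [hσdef, ← map_pow, hk, map_one]
  -- `U` consists of all elements of order `p` of `P`
  let UP : Subgroup P :=
    { carrier := {x | x ^ p = 1}
      one_mem' := one_pow p
      mul_mem' := fun {a b} ha hb => by
        have hc : Commute a b := Fusion.commute_of_pow_eq_one hPp hp2 (C := C) ha hb
        show (a * b) ^ p = 1
        rw [hc.mul_pow, ha, hb, mul_one]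
      inv_mem' := fun {a} ha => by
        show a⁻¹ ^ p = 1
        rw [inv_pow, ha, inv_one] }
  have hUPc : Nat.card UP ≤ p ^ 2 :=
    Fusion.card_le_sq_of_exponent UP (fun x hx => hx) (C := C)
  let j : U → UP := fun x => ⟨⟨((x : R) : Ω), x.2.1⟩, Subtype.ext x.2.2⟩
  have hj : Function.Injective j := fun a b h => Subtype.ext (Subtype.ext
    (congrArg (fun y : UP => ((y : P) : Ω)) h))
  obtain ⟨hUc, hσpp⟩ := aut_facts hUcomm hUexp ((Nat.card_le_card_of_injective j hj).trans hUPc)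
    hσp hσ1
  have hjb : Function.Bijective j := hj.bijective_of_nat_card_le (hUc ▸ hUPc)
  have hUR : ∀ x ∈ P, x ^ p = 1 → x ∈ R := by
    intro x hx hxp
    obtain ⟨y, hy⟩ := hjb.2 ⟨⟨x, hx⟩, Subtype.ext hxp⟩
    have : ((y : R) : Ω) = x := congrArg (fun y : UP => ((y : P) : Ω)) hy
    exact this ▸ (y : R).2
  -- some conjugate of `cg` does not act inside `⟨σ⟩`
  obtain ⟨a, ha⟩ : ∃ a : F.autGroup R, η (a * cg * a⁻¹) ∉ Subgroup.zpowers σ := by
    by_contra hcon
    push Not at hcon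
    let N := Subgroup.normalClosure ({cg} : Set (F.autGroup R))
    have hNle : N ≤ K1 ⊓ (Subgroup.zpowers σ).comap η := by
      refine (Subgroup.closure_le _).2 fun x hx => ?_
      obtain ⟨y, hy, hyx⟩ := Group.mem_conjugatesOfSet_iff.1 hx
      rw [Set.mem_singleton_iff.1 hy] at hyx
      obtain ⟨c, hc⟩ := isConj_iff.1 hyx
      exact hc ▸ ⟨hK1n.conj_mem cg hcgK c, hcon c⟩
    have hNp : IsPGroup p N := Fusion.isPGroup_of_coprime_orderOf_eq_one fun b hb => by
      have hb' := hNle b.2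
      refine Subtype.ext (hfix b ?_ hb'.1 ?_)
      · rwa [Subgroup.orderOf_coe, Subgroup.orderOf_coe]
      obtain ⟨i, hi⟩ := Subgroup.mem_zpowers_iff.1 (Subgroup.mem_comap.1 hb'.2)
      have h1 : orderOf (η b) ∣ p := by
        refine orderOf_dvd_of_pow_eq_one ?_
        rw [← hi, ← zpow_natCast, ← zpow_mul, mul_comm, zpow_mul, zpow_natCast, hσpp, one_zpow]
      have h2 : orderOf (η b) ∣ orderOf b := by
        rw [← Subgroup.orderOf_coe]
        exact orderOf_map_dvd η _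
      exact orderOf_eq_one_iff.1 (Nat.eq_one_of_dvd_coprimes hb h2 h1)
    exact hcgI (hRr.2.le ⟨cg,
      PCore.le_pCore hNp (Subgroup.subset_normalClosure (Set.mem_singleton cg)), rfl⟩)
  obtain ⟨m, hm, hmv⟩ := Fusion.exists_inversion_mem_closure hUcomm hUc hUexp hσp
    (hcgp.imp fun k hk => by rw [← map_pow, conj_pow, hk, mul_one, mul_inv_cancel, map_one]) hσ1 ha
  obtain ⟨s0, hs0K, hs0η⟩ : ∃ s0 ∈ K1, η s0 = m := by
    refine Subgroup.mem_map.1 ((Subgroup.closure_le (K := K1.map η)).2 ?_ hm)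
    rintro x (rfl | rfl)
    · exact ⟨cg, hcgK, rfl⟩
    · exact ⟨_, hK1n.conj_mem cg hcgK a, rfl⟩
  have hs02 : s0 ^ 2 ∈ J := ⟨Subgroup.pow_mem _ hs0K 2, MonoidHom.mem_ker.2 (MulEquiv.ext fun x => by
    rw [map_pow, hs0η, sq, MulAut.mul_apply, hmv, hmv, inv_inv, MulAut.one_apply])⟩
  obtain ⟨k, hk⟩ := hJp ⟨_, hs02⟩
  set s := s0 ^ p ^ k with hsdef
  have hs2 : s ^ 2 = 1 := by
    rw [hsdef, ← pow_mul, mul_comm, pow_mul]
    exact congrArg Subtype.val hk
  have hsK : s ∈ K1 := Subgroup.pow_mem _ hs0K _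
  have hsη : ∀ x : U, η s x = x⁻¹ := by
    intro x
    have hodd : Odd (p ^ k) := (hp.out.odd_of_ne_two hp2).pow
    obtain ⟨e, he⟩ := hodd
    have hm2 : m ^ 2 = 1 := MulEquiv.ext fun y => by
      rw [sq, MulAut.mul_apply, hmv, hmv, inv_inv, MulAut.one_apply]
    rw [hsdef, map_pow, hs0η, he, pow_succ, pow_mul, hm2, one_pow, one_mul, hmv]
  have hcomm : ∀ t : F.autGroup R, s * t * s⁻¹ * t⁻¹ ∈ J := fun t =>
    ⟨by
      rw [show s * t * s⁻¹ * t⁻¹ = s * (t * s⁻¹ * t⁻¹) by group]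
      exact Subgroup.mul_mem _ hsK (hK1n.conj_mem _ (Subgroup.inv_mem _ hsK) t),
    MonoidHom.mem_ker.2 (by
      have hc : η s * η t = η t * η s := MulEquiv.ext fun x => by
        rw [MulAut.mul_apply, MulAut.mul_apply, hsη, hsη, map_inv]
      rw [map_mul, map_mul, map_mul, map_inv, map_inv, hc, mul_inv_cancel_right, mul_inv_cancel])⟩
  -- extend `s` to `N_S(R)`
  obtain ⟨ψ, hψ, hψv⟩ := Fusion.exists_extension_of_normalizes
    (Fusion.isReceptive_of_fullyNormalized hS hF hRn) s.2 fun β hβ => by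
      have h1 := hJI _ (hcomm ⟨β, Fusion.autInducedBy_le_autGroup F hRS hβ⟩)
      have h2 := Subgroup.mul_mem _ (Fusion.inn_le_autInducedBy hRS h1) hβ
      simpa [mul_assoc] using h2
  have hgm : g ∈ normalizerIn S R := ⟨hgS, hgN⟩
  -- `ψ g = y g` with `y ∈ R ∩ P`
  set g' := ψ ⟨g, hgm⟩ with hg'
  have hg'S : g' ∈ S := Fusion.apply_mem hψ _
  have hg'P : g' ∈ P :=
    hP.2 (normalizerIn S R ⊓ P) inf_le_right _ (Fusion.restrict_mem hψ inf_le_left) ⟨g, hgm, hgP⟩
  have hact : ∀ x : R,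
      g' * (x : Ω) * g'⁻¹ = (((s : MulAut R) * (cg : MulAut R) * (s : MulAut R)⁻¹) x : R) := by
    intro x
    obtain ⟨z, rfl⟩ := (s : MulAut R).surjective x
    rw [MulAut.mul_apply, MulAut.mul_apply, MulAut.inv_apply_self]
    have hz : (z : Ω) ∈ normalizerIn S R := Fusion.le_normalizerIn hRS z.2
    have hw : ((cg : MulAut R) z : R).1 ∈ normalizerIn S R :=
      Fusion.le_normalizerIn hRS ((cg : MulAut R) z).2
    rw [hg', ← hψv z hz, ← map_inv, ← map_mul, ← map_mul, ← hψv _ hw]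
    exact congrArg ψ (Subtype.ext rfl)
  have hg'N : g' ∈ Subgroup.normalizer (R : Set Ω) :=
    Fusion.mem_normalizer_of_aut fun x => (hact x).symm
  have hyR : g' * g⁻¹ ∈ R := by
    by_contra hy
    refine Fusion.conjAut_notMem_inn hcent hRS (S.mul_mem hg'S (S.inv_mem hgS))
      (Subgroup.mul_mem _ hg'N (Subgroup.inv_mem _ hgN)) hy ?_
    have h1 := hJI _ (hcomm cg)
    convert h1 using 1
    refine MulEquiv.ext fun x => Subtype.ext ?_
    have h2 := hact ((cg : MulAut R)⁻¹ x)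
    rw [show ((s * cg * s⁻¹ * cg⁻¹ : F.autGroup R) : MulAut R) x =
      ((s : MulAut R) * (cg : MulAut R) * (s : MulAut R)⁻¹) ((cg : MulAut R)⁻¹ x) from rfl, ← h2,
      Fusion.coe_conjAut]
    have h3 : ((((cg : MulAut R)⁻¹) x : R) : Ω) = g⁻¹ * (x : Ω) * g := by
      have h4 := congrArg Subtype.val (MulAut.apply_inv_self R (cg : MulAut R) x)
      rw [show (cg : MulAut R) ((cg : MulAut R)⁻¹ x) = Fusion.conjAut hgN ((cg : MulAut R)⁻¹ x)
        from rfl, Fusion.coe_conjAut] at h4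
      rw [← h4]; group
    rw [h3]; group
  -- `s` is fixed-point-free on `R ∩ P`
  have hfpf : ∀ x ∈ P0, (s : MulAut R) x = x → x = 1 := by
    intro x hx hsx
    by_contra hx1
    obtain ⟨i, hi⟩ := hRp x
    obtain ⟨i', -, hi'⟩ := (Nat.dvd_prime_pow hp.out).1 (orderOf_dvd_of_pow_eq_one hi)
    rcases i' with - | i'
    · exact hx1 (orderOf_eq_one_iff.1 (by simpa using hi'))
    set y := x ^ p ^ i' with hy
    have hyp : y ^ p = 1 := by rw [hy, ← pow_mul, ← pow_succ, ← hi', pow_orderOf_eq_one]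
    have hy1 : y ≠ 1 := fun h => by
      have := Nat.le_of_dvd (pow_pos hp.out.pos i') (orderOf_dvd_of_pow_eq_one h)
      rw [hi'] at this
      exact absurd this (not_le.2 (Nat.pow_lt_pow_right hp.out.one_lt (by omega)))
    have hyU : y ∈ U := ⟨Subgroup.pow_mem P0 hx _, congrArg Subtype.val hyp⟩
    have h1 := congrArg (fun u : U => (u : R)) (hsη ⟨y, hyU⟩)
    simp only [hηv, Subgroup.coe_inv] at h1
    rw [hy, map_pow, hsx, ← hy] at h1
    have hy2 : y ^ 2 = 1 := by
      rw [sq]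
      nth_rewrite 1 [h1]
      exact inv_mul_cancel y
    exact hy1 (orderOf_eq_one_iff.1 (Nat.eq_one_of_dvd_coprimes
      ((Nat.coprime_primes hp.out Nat.prime_two).2 hp2) (orderOf_dvd_of_pow_eq_one hyp)
      (orderOf_dvd_of_pow_eq_one hy2)))
  let f : P0 → P0 := fun x =>
    ⟨((s : MulAut R) (x : R))⁻¹ * (x : R), P0.mul_mem (P0.inv_mem (hinvP s x x.2)) x.2⟩
  have hf : Function.Injective f := by
    intro x x' h
    have h1 : ((s : MulAut R) (x : R))⁻¹ * (x : R) = ((s : MulAut R) (x' : R))⁻¹ * (x' : R) :=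
      congrArg Subtype.val h
    refine Subtype.ext (mul_inv_eq_one.1 (hfpf _ (P0.mul_mem x.2 (P0.inv_mem x'.2)) ?_))
    rw [map_mul, map_inv]
    calc (s : MulAut R) (x : R) * ((s : MulAut R) (x' : R))⁻¹
        = (s : MulAut R) (x : R) * (((s : MulAut R) (x' : R))⁻¹ * (x' : R)) * (x' : R)⁻¹ := by group
      _ = _ := by rw [← h1]; group
  obtain ⟨x, hx⟩ := (Finite.injective_iff_surjective.1 hf)
    ⟨⟨g' * g⁻¹, hyR⟩, Subgroup.mem_subgroupOf.2 (P.mul_mem hg'P (P.inv_mem hgP))⟩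
  -- `z = x g` is fixed by `ψ`
  have hxm : ((x : R) : Ω) ∈ normalizerIn S R := Fusion.le_normalizerIn hRS (x : R).2
  set z : normalizerIn S R := ⟨((x : R) : Ω), hxm⟩ * ⟨g, hgm⟩ with hz
  have hψz : ψ z = (z : Ω) := by
    rw [hz, map_mul, hψv (x : R) hxm, ← hg']
    have h1 : (((s : MulAut R) (x : R) : R) : Ω)⁻¹ * ((x : R) : Ω) = g' * g⁻¹ :=
      congrArg (fun u : P0 => ((u : R) : Ω)) hx
    show (((s : MulAut R) (x : R) : R) : Ω) * g' = ((x : R) : Ω) * g
    rw [show g' = (g' * g⁻¹) * g by group, ← h1]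
    group
  have hzP : (z : Ω) ∈ P := P.mul_mem x.2 hgP
  have hgp : g ^ p ∈ R := by
    by_contra hgp
    refine Fusion.conjAut_notMem_inn hcent hRS (S.pow_mem hgS p) (Subgroup.pow_mem _ hgN p) hgp ?_
    have h1 := hJI (cg ^ p) ⟨Subgroup.pow_mem _ hcgK p,
      MonoidHom.mem_ker.2 (by rw [map_pow]; exact hσpp)⟩
    convert h1 using 1
    exact map_pow R.normalizerMonoidHom ⟨g, hgN⟩ p
  have hzn : ∀ i : ℕ, (z : Ω) ^ i * (g ^ i)⁻¹ ∈ R := by
    intro i
    induction i with
    | zero => simp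
    | succ i ih =>
      have h1 := (Subgroup.mem_normalizer_iff.1 (Subgroup.pow_mem _ hgN i) _).1 (x : R).2
      have h2 := R.mul_mem ih h1
      rw [show (z : Ω) ^ (i + 1) * (g ^ (i + 1))⁻¹ = (z : Ω) ^ i * (g ^ i)⁻¹ *
        (g ^ i * ((x : R) : Ω) * (g ^ i)⁻¹) by
          rw [pow_succ, pow_succ, mul_inv_rev, show (z : Ω) = ((x : R) : Ω) * g from rfl]; group]
      exact h2
  have hzR : (z : Ω) ^ p ∈ R := by simpa using R.mul_mem (hzn p) hgp
  have hzp : (z : Ω) ^ p = 1 := by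
    refine congrArg Subtype.val (hfpf ⟨_, hzR⟩ (P.pow_mem hzP p) (Subtype.ext ?_))
    rw [← hψv ⟨_, hzR⟩ (z ^ p).2, show (⟨(z : Ω) ^ p, (z ^ p).2⟩ : normalizerIn S R) = z ^ p from
      rfl, map_pow, hψz]
  have h1 := R.mul_mem (R.inv_mem (x : R).2) (hUR _ hzP hzp)
  exact hgR (by simpa [hz] using h1)

/-- Let p be an odd prime, F a saturated fusion system over a finite p-group S and P a metacyclic subgroup of S strongly closed in F. Then P is normal in F. -/
theorem result {Ω : Type*} [Group Ω] {S : Subgroup Ω} [Finite S] (p : ℕ) [Fact p.Prime] (hS : IsPGroup p S) (F : Cfsg.FusionSystem S) (hF : F.IsSaturated p) (P : Subgroup Ω) (hP : F.StronglyClosed P) (hp : p ≠ 2) (hm : Cfsg.IsMetacyclic ↥P) : F.IsNormal P := by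
  obtain ⟨C, hC, hCc, hQc⟩ := hm
  exact main hS hF hP hp C

end Cfsg.Agent.S5234
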