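import Cfsg.Statements.S5236
import Cfsg.Agent.Lib.Fusion.NormalCriteria
import Cfsg.Agent.Lib.Fusion.Nilpotent
import Cfsg.Agent.Lib.Fusion.Stabilizer
import Cfsg.Agent.Lib.PGroup.ElementaryAbelian
-- import your own Cfsg.Agent.* helpers here

set_option autoImplicit false
open Cfsg
open scoped commutatorElement

namespace Cfsg.Agent.S5236

/-- Let p be an odd prime, F a saturated fusion system over a finite p-group S and P a subgroup of S strongly closed in F. Then P is normal in F if and only if Ω₁(P) (the subgroup generated by the elements of order p of P) has a chain of subgroups 1 = Q₀ ≤ Q₁ ≤ ⋯ ≤ Qₙ = Ω₁(P), each strongly closed in F, with [Qᵢ₊₁, P] ≤ Qᵢ for all i. -/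
theorem result {Ω : Type*} [Group Ω] {S : Subgroup Ω} [Finite S] (p : ℕ) [Fact p.Prime] (hS : IsPGroup p S) (F : Cfsg.FusionSystem S) (hF : F.IsSaturated p) (hp : p ≠ 2) (P : Subgroup Ω) (hP : F.StronglyClosed P) : F.IsNormal P ↔ ∃ (n : ℕ) (Q : Fin (n + 1) → Subgroup Ω), Q 0 = ⊥ ∧ Q (Fin.last n) = Cfsg.omegaOne p P ∧ Monotone Q ∧ (∀ i : Fin (n + 1), F.StronglyClosed (Q i)) ∧ ∀ i : Fin n, ⁅Q i.succ, P⁆ ≤ Q i.castSucc := by
  have hΩP : Cfsg.omegaOne p P ≤ P := PGroup.omegaOne_le P
  constructor
  · intro hN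
    obtain ⟨n, T, h0, hn, hm, hT, hc⟩ := Fusion.exists_chain_of_isNormal hS hN
    have hΩ : F.IsNormal (Cfsg.omegaOne p P) := by
      refine Fusion.isNormal_of_characteristic hN hΩP ?_
      rw [Subgroup.characteristic_iff_le_comap]
      intro α
      have hle : Cfsg.omegaOne p P ≤
          (((Cfsg.omegaOne p P).subgroupOf P).comap α.toMonoidHom).map P.subtype := by
        rw [PGroup.omegaOne_le_iff]
        intro x hx hxp
        refine ⟨⟨x, hx⟩, ?_, rfl⟩
        refine Subgroup.mem_comap.2 (Subgroup.mem_subgroupOf.2 ?_)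
        refine PGroup.mem_omegaOne_of_pow_eq_one (α ⟨x, hx⟩).2 ?_
        show ((α ⟨x, hx⟩ : ↥P) : Ω) ^ p = 1
        rw [← SubgroupClass.coe_pow, ← map_pow, show (⟨x, hx⟩ : ↥P) ^ p = 1 from Subtype.ext hxp,
          map_one, OneMemClass.coe_one]
      intro y hy
      obtain ⟨z, hz, he⟩ := hle hy
      exact (Subtype.ext he : z = y) ▸ hz
    refine ⟨n, fun i => Cfsg.omegaOne p P ⊓ T i, ?_, ?_, fun i j hij => inf_le_inf_left _ (hm hij),
      fun i => ?_, fun i => ?_⟩
    · simp [h0]
    · simp only [Fin.val_last, hn]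
      exact inf_eq_left.2 hΩP
    · refine ⟨inf_le_left.trans (hΩP.trans hP.1), fun R hR φ hφ x => ⟨?_, ?_⟩⟩
      · exact (Fusion.stronglyClosed_of_isNormal hΩ).2 R (hR.trans inf_le_left) φ hφ x
      · exact (Fusion.stronglyClosed_of_isNormal (hT _)).2 R (hR.trans inf_le_right) φ hφ x
    · refine le_inf ?_ ?_
      · refine le_trans (Subgroup.commutator_mono inf_le_left le_rfl)
          (Subgroup.le_normalizer_iff_commutator_le_left.1 ?_)
        exact hP.1.trans (Fusion.le_normalizer_of_stronglyClosed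
          (Fusion.stronglyClosed_of_isNormal hΩ))
      · rw [Subgroup.commutator_comm]
        exact le_trans (Subgroup.commutator_mono le_rfl inf_le_right) (hc i i.isLt)
  · rintro ⟨n, Q, hQ0, hQn, -, hcl, hcomm⟩
    refine Fusion.isNormal_of_stronglyClosed hS hF hP fun R _ hRc hRr => ?_
    have hRS := hRc.1
    have := Fusion.finite_of_le hRS
    have := Fusion.finite_mulAut (Ω := Ω) hRS
    have hRp : IsPGroup p ↥R := hS.to_le hRS
    let D : ℕ → Subgroup Ω := fun i => if h : i < n + 1 then Q ⟨i, h⟩ else ⊤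
    have hD : ∀ i (h : i < n + 1), D i = Q ⟨i, h⟩ := fun i h => dif_pos h
    let U : ℕ → Subgroup ↥R := fun j => if j ≤ n then (D j).subgroupOf R else ⊥
    have hU : ∀ (a : F.autGroup R) (j : ℕ), ∀ x ∈ U j, (a : MulAut ↥R) x ∈ U j := by
      intro a j x hx
      by_cases hj : j ≤ n
      · simp only [U, if_pos hj, hD j (by omega)] at hx ⊢
        exact Subgroup.mem_subgroupOf.2
          (Fusion.apply_mem_of_stronglyClosed (hcl _) hRS a.2 hx)
      · simp only [U, if_neg hj, Subgroup.mem_bot] at hx ⊢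
        rw [hx, map_one]
    let U' : ℕ → Subgroup ↥R := fun j => if j = 0 then P.subgroupOf R else ⊤
    have hU' : ∀ (a : F.autGroup R) (j : ℕ), ∀ x ∈ U' j, (a : MulAut ↥R) x ∈ U' j := by
      intro a j x hx
      by_cases hj : j = 0
      · simp only [U', if_pos hj] at hx ⊢
        exact Subgroup.mem_subgroupOf.2 (Fusion.apply_mem_of_stronglyClosed hP hRS a.2 hx)
      · simp [U', if_neg hj]
    have := Fusion.seriesStabilizer_normal (F.autGroup R) U hU
    have := Fusion.seriesStabilizer_normal (F.autGroup R) U' hU'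
    refine Fusion.le_of_autInducedBy_le hS hP.1 (Fusion.le_normalizer_of_stronglyClosed hP) hRc hRr
      (Fusion.seriesStabilizer (F.autGroup R) U hU ⊓ Fusion.seriesStabilizer (F.autGroup R) U' hU')
      ?_ ?_
    · refine Fusion.isPGroup_of_coprime_orderOf_eq_one fun a ha => ?_
      obtain ⟨⟨a, haA⟩, ha1, ha2⟩ := a
      replace ha : (orderOf a).Coprime p := by rwa [← Subgroup.orderOf_coe, ← Subgroup.orderOf_coe] at ha
      refine Subtype.ext (Subtype.ext (MulEquiv.ext fun x => ?_))
      show a x = x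
      have hser := Fusion.eq_self_of_series hRp ha (T := U) (m := n)
        (by simp only [U, if_pos (Nat.zero_le n), hD 0 (by omega), show Q ⟨0, _⟩ = ⊥ from hQ0]; simp)
        (fun i _ y hy => ha1 i y hy)
      have hfix : ∀ y ∈ P.subgroupOf R, a y = y := by
        refine Fusion.eq_self_of_fix_pow_eq_one hp hRp ha (fun y hy => ?_) fun y hy hyp => ?_
        · exact hU' ⟨a, haA⟩ 0 y hy
        · refine hser y ?_
          simp only [U, if_pos le_rfl, hD n (by omega)]
          refine Subgroup.mem_subgroupOf.2 ?_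
          rw [show Q ⟨n, _⟩ = Cfsg.omegaOne p P from hQn]
          exact PGroup.mem_omegaOne_of_pow_eq_one hy (by
            rw [← SubgroupClass.coe_pow, hyp, OneMemClass.coe_one])
      exact Fusion.eq_self_of_translate hRp ha (hfix _ (ha2 0 x (by simp [U'])))
    · intro g hg hgN hm
      refine ⟨fun j x hx => ?_, fun j x hx => ?_⟩
      · by_cases hj : j + 1 ≤ n
        · simp only [U, if_pos hj] at hx
          simp only [U, if_pos (show j ≤ n by omega)]
          refine Subgroup.mem_subgroupOf.2 ?_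
          show (x : Ω)⁻¹ * (g * x * g⁻¹) ∈ D j
          have hx' : (x : Ω) ∈ Q (⟨j, hj⟩ : Fin n).succ := by
            have : (x : Ω) ∈ D (j + 1) := hx
            rwa [hD (j + 1) (by omega)] at this
          have h1 := hcomm ⟨j, hj⟩ (Subgroup.commutator_mem_commutator (Subgroup.inv_mem _ hx') hg)
          rw [commutatorElement_def, inv_inv] at h1
          rw [hD j (by omega)]
          rw [show (x : Ω)⁻¹ * g * x * g⁻¹ = (x : Ω)⁻¹ * (g * x * g⁻¹) by group] at h1
          exact h1
        · simp only [U, if_neg hj, Subgroup.mem_bot] at hx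
          subst hx
          simp
      · by_cases hj : j = 0
        · simp only [U', if_pos hj]
          refine Subgroup.mem_subgroupOf.2 ?_
          show (x : Ω)⁻¹ * (g * x * g⁻¹) ∈ P
          have hxN := Fusion.le_normalizer_of_stronglyClosed hP (S.inv_mem (hRS x.2))
          have h1 := P.mul_mem ((Subgroup.mem_normalizer_iff.1 hxN g).1 hg) (P.inv_mem hg)
          simpa [mul_assoc] using h1
        · simp [U', if_neg hj]

end Cfsg.Agent.S5236
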