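import Cfsg.Statements.S5238
import Cfsg.Agent.Lib.Pearl.Generation
import Cfsg.Agent.Lib.Pearl.SelfCentralizing
import Cfsg.Agent.Lib.Fusion.SmallEssential

set_option autoImplicit false
set_option linter.style.haveILetI false
open Cfsg

namespace Cfsg.Agent.S5238

open Subgroup
open scoped commutatorElement

/-- A pearl of order `p³` has exponent `p`. -/
theorem exp_extraspecial {Ω : Type*} [Group Ω] {S : Subgroup Ω} [Finite S] {p : ℕ} [Fact p.Prime]
    (hS : IsPGroup p S) {F : Cfsg.FusionSystem S} (hp : p ≠ 2) {E : Subgroup Ω} (hE : F.IsEssential p E)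
    (hcard : Nat.card E = p ^ 3) (hna : ¬ IsMulCommutative ↥E) : ∀ x : E, x ^ p = 1 := by
  have hpr := (Fact.out : p.Prime)
  haveI := Cfsg.Agent.Fusion.finite_of_le (Ω := Ω) hE.2.1.1
  have hEp : IsPGroup p E := IsPGroup.of_card hcard
  have hZ : Nat.card (center E) = p :=
    Pearl.card_center_extraspecial (G := E) hEp (E := (⊤ : Subgroup E))
      (by rw [card_top, hcard]) (fun h => hna ⟨⟨fun a b =>
        congrArg Subtype.val (h.is_comm.comm ⟨a, mem_top _⟩ ⟨b, mem_top _⟩)⟩⟩) |> fun h => by
      rwa [← Nat.card_congr (Subgroup.centerCongr Subgroup.topEquiv).toEquiv]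
  have hcomm : commutator E ≤ center E := by
    haveI : Nontrivial E := Finite.one_lt_card_iff_nontrivial.mp (by
      rw [hcard]; exact Nat.one_lt_pow (by omega) hpr.one_lt)
    have hq : Nat.card (E ⧸ center E) = p ^ 2 := by
      have h := (center E).card_eq_card_quotient_mul_card_subgroup
      rw [hZ, hcard, pow_succ] at h
      exact (Nat.eq_of_mul_eq_mul_right hpr.pos h).symm
    rw [_root_.commutator_def, commutator_le]
    intro a _ b _
    refine (QuotientGroup.eq_one_iff _).mp ?_
    show QuotientGroup.mk' (center E) ⁅a, b⁆ = 1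
    rw [map_commutatorElement, commutatorElement_eq_one_iff_mul_comm]
    exact (IsPGroup.commGroupOfCardEqPrimeSq hq).mul_comm _ _
  have hcl : (⊤ : Subgroup E).lowerCentralSeries (p - 1) = ⊥ := by
    refine le_bot_iff.mp ((Subgroup.lowerCentralSeries_antitone (⊤ : Subgroup E)
      (by have := hpr.two_le; omega : 2 ≤ p - 1)).trans ?_)
    rw [show 2 = 1 + 1 from rfl, Subgroup.lowerCentralSeries_succ, Subgroup.top_lowerCentralSeries_one, le_bot_iff,
      Subgroup.commutator_top_right_eq_bot_iff_le_center]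
    exact hcomm
  have hzp : ∀ z ∈ center E, z ^ p = 1 := fun z hz => by
    have h := pow_card_eq_one' (x := (⟨z, hz⟩ : center E))
    rw [hZ] at h
    simpa using congrArg Subtype.val h
  let f : E →* E := MonoidHom.mk' (fun a => a ^ p) fun a b => by
    obtain ⟨c, hc, he⟩ := S4209.hall_petrescu Fact.out hcl a b 1
    have hc1 : c = 1 := by
      have hle : Cfsg.powerClosure p 1 (commutator E) ≤ ⊥ := by
        rw [Cfsg.powerClosure, closure_le]
        rintro _ ⟨w, hw, rfl⟩
        exact mem_bot.mpr (by rw [pow_one]; exact hzp w (hcomm hw))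
      exact mem_bot.mp (hle hc)
    rw [hc1, mul_one, pow_one] at he
    exact he
  by_contra hne
  push Not at hne
  obtain ⟨x₀, hx₀⟩ := hne
  have hrange : f.range ≤ center E := by
    rintro _ ⟨a, rfl⟩
    refine mem_center_iff.mpr fun b => ?_
    show b * a ^ p = a ^ p * b
    have hc : ⁅b, a⁆ ∈ center E := hcomm (commutator_mem_commutator (mem_top b) (mem_top a))
    have h1 : b * a ^ p * b⁻¹ = a ^ p := by
      rw [← conj_pow, show b * a * b⁻¹ = ⁅b, a⁆ * a by simp only [commutatorElement_def]; group,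
        Commute.mul_pow (mem_center_iff.mp hc a).symm, hzp _ hc, one_mul]
    exact mul_inv_eq_iff_eq_mul.mp h1
  have hk : Nat.card f.ker ≤ p ^ 2 := by
    have hlt : f.ker < ⊤ := lt_top_iff_ne_top.mpr fun h => hx₀ (MonoidHom.mem_ker.mp (h ▸ mem_top x₀))
    have h := PGroup.mul_card_le_card hEp hlt
    rw [card_top, hcard, pow_succ'] at h
    exact Nat.le_of_mul_le_mul_left h hpr.pos
  have htop : p ^ 3 ≤ p * Nat.card f.ker := by
    rw [← hcard, ← f.ker.card_mul_index, index_ker, mul_comm p]
    exact Nat.mul_le_mul_left _ (hZ ▸ Subgroup.card_le_of_le hrange)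
  refine Cfsg.Agent.Fusion.SmallEss.false_of_chain hS hE
    (fun i => match i with | 0 => ⊥ | 1 => center E | 2 => f.ker | _ => ⊤) 3 rfl rfl ?_ ?_ ?_
  · intro i hi
    match i, hi with
    | 0, _ => exact bot_le
    | 1, _ => exact fun z hz => MonoidHom.mem_ker.mpr (hzp z hz)
    | 2, _ => exact le_top
  · intro i hi
    match i, hi with
    | 0, _ => simp [hZ]
    | 1, _ => simpa [hZ, pow_two] using hk
    | 2, _ => simpa [hcard] using htop
  · intro i hi α _ y hy
    match i, hi with
    | 0, _ => simp only [mem_bot] at hy ⊢; rw [hy, map_one]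
    | 1, _ =>
      refine mem_center_iff.mpr fun b => ?_
      obtain ⟨b, rfl⟩ := α.surjective b
      rw [← map_mul, ← map_mul, mem_center_iff.mp hy b]
    | 2, _ =>
      show (α y) ^ p = 1
      rw [← map_pow, show y ^ p = 1 from hy, map_one]
    | 3, _ => trivial

/-- Let p be an odd prime and F a saturated fusion system over a finite p-group S having a pearl: an F-essential subgroup E that is elementary abelian of order p² or nonabelian of order p³. Then S has maximal nilpotency class (if S has order pⁿ with n ≥ 3, the term of index n − 2 of its lower central series, counting S itself as the term of index 0, is nontrivial), and every subgroup of S can be generated by at most p elements (the sectional rank of S is at most p). -/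
theorem result {Ω : Type*} [Group Ω] {S : Subgroup Ω} [Finite S] (p : ℕ) [Fact p.Prime] (hS : IsPGroup p S) (F : Cfsg.FusionSystem S) (hF : F.IsSaturated p) (hp : p ≠ 2) (E : Subgroup Ω) (hE : F.IsEssential p E) (hpearl : (Nat.card E = p ^ 2 ∧ ∀ x ∈ E, x ^ p = 1 ∧ IsMulCommutative ↥E) ∨ (Nat.card E = p ^ 3 ∧ ¬ IsMulCommutative ↥E)) : (∀ n : ℕ, Nat.card S = p ^ n → 3 ≤ n → Subgroup.lowerCentralSeries S (n - 2) ≠ ⊥) ∧ ∀ H : Subgroup Ω, H ≤ S → ∃ T : Finset Ω, T.card ≤ p ∧ Subgroup.closure (T : Set Ω) = H := by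
  classical
  have hES : E ≤ S := hE.1.1
  have hp' := (Fact.out : p.Prime)
  obtain ⟨m, hm⟩ := IsPGroup.iff_card.mp hS
  set E' := E.subgroupOf S with hE'
  have hcardE : Nat.card E' = Nat.card E := Nat.card_congr (subgroupOfEquivOfLe hES).toEquiv
  have hconj : F.IsConj E E := by
    refine ⟨E.subtype, ?_, ?_⟩
    · have h := F.conj_mem (g := 1) hES (one_mem S)
      have he : Cfsg.conjHom E (1 : Ω) = E.subtype := MonoidHom.ext fun a => by simp [Cfsg.conjHom]
      rwa [he] at h
    · simp
  have hC : centralizer (E' : Set S) ≤ E' := fun g hg =>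
    hE.1.2 E hconj (mem_inf.mpr ⟨g.2, mem_centralizer_iff.mpr fun e he =>
      congrArg Subtype.val (mem_centralizer_iff.mp hg ⟨e, hES he⟩ he)⟩)
  have hgood : 3 ≤ m → (⊤ : Subgroup S).lowerCentralSeries (m - 2) ≠ ⊥ ∧
      ∃ x : S, x ^ p = 1 ∧ Nat.card (centralizer ({x} : Set S)) = p ^ 2 := by
    intro hm3
    rcases hpearl with ⟨hc, hx⟩ | ⟨hc, hna⟩
    · exact Pearl.exists_good_of_sq hm3 hm (hcardE.trans hc) (fun x hxE => Subtype.ext (by
        simpa using (hx x hxE).1)) hC
    · refine Pearl.exists_good_of_extraspecial hm3 hm (hcardE.trans hc) ?_ (fun x hxE => Subtype.ext ?_) hC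
      · intro h
        exact hna ⟨⟨fun a b => Subtype.ext (congrArg (fun t : E' => ((t : S) : Ω))
          (h.is_comm.comm ⟨⟨a, hES a.2⟩, a.2⟩ ⟨⟨b, hES b.2⟩, b.2⟩))⟩⟩
      · simpa using congrArg Subtype.val (exp_extraspecial hS hp hE hc hna ⟨(x : Ω), hxE⟩)
  refine ⟨fun n hn hn3 => ?_, fun H hH => ?_⟩
  · obtain rfl : m = n := Nat.pow_right_injective hp'.two_le (hm.symm.trans hn)
    intro hbot
    refine (hgood hn3).1 ?_
    rw [← Subgroup.map_eq_bot_iff_of_injective _ S.subtype_injective, Subgroup.map_lowerCentralSeries,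
      ← MonoidHom.range_eq_map, Subgroup.range_subtype]
    exact hbot
  have hT : ∃ T : Finset S, T.card ≤ p ∧ closure (T : Set S) = H.subgroupOf S := by
    rcases le_or_gt 3 m with hm3 | hm3
    · obtain ⟨hcl, x, hx, hC2⟩ := hgood hm3
      exact Pearl.rank_le hm3 hm hcl hx hC2 _
    · obtain ⟨T, hT, hcT⟩ := Pearl.rank_small (n := m) (by omega) hm (H.subgroupOf S)
      exact ⟨T, hT.trans hp'.two_le, hcT⟩
  obtain ⟨T, hT, hcT⟩ := hT
  refine ⟨T.image Subtype.val, Finset.card_image_le.trans hT, ?_⟩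
  rw [Finset.coe_image]
  have h := congrArg (Subgroup.map S.subtype) hcT
  rw [MonoidHom.map_closure, Subgroup.subgroupOf_map_subtype, inf_of_le_left hH] at h
  exact h

end Cfsg.Agent.S5238
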