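import Cfsg.Statements.S5239
import Cfsg.Agent.Lib.Pearl.Wreath
import Cfsg.Agent.Lib.Fusion.SmallEssential
import Cfsg.Agent.Lib.Fusion.Saturated
import Cfsg.Agent.Lib.Fusion.Extend
import Cfsg.Agent.Lib.Fusion.PairInversion
import Cfsg.Agent.S5238

set_option autoImplicit false
set_option linter.style.haveILetI false
open Cfsg

namespace Cfsg.Agent.S5239

open Subgroup
open scoped commutatorElement

/-- An essential subgroup is proper. -/
theorem ne_self {Ω : Type*} [Group Ω] {S : Subgroup Ω} [Finite S] {p : ℕ} [Fact p.Prime] (hS : IsPGroup p S)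
    {F : Cfsg.FusionSystem S} (hF : F.IsSaturated p) : ¬ F.IsEssential p S := fun hE => by
  obtain ⟨α, hα, ⟨k, hk⟩, hαI⟩ := Fusion.SmallEss.exists_pElement_not_inn hE
  obtain ⟨-, -, hI, -⟩ := hE
  obtain ⟨-, R, hR⟩ := Fusion.isFullyAutomized_self hS hF
  rw [Fusion.autInducedBy_self] at hR
  haveI : (R : Subgroup (F.autGroup S)).Normal := hR ▸ hI
  let a : F.autGroup S := ⟨α, hα⟩
  have hQ : IsPGroup p (zpowers a) := fun ⟨b, hb⟩ => by
    obtain ⟨i, rfl⟩ := mem_zpowers_iff.mp hb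
    refine ⟨k, Subtype.ext ?_⟩
    show (a ^ i) ^ p ^ k = 1
    rw [← zpow_natCast, ← zpow_mul, mul_comm, zpow_mul, zpow_natCast,
      show a ^ p ^ k = 1 from Subtype.ext hk, one_zpow]
  have hle : zpowers a ≤ (R : Subgroup (F.autGroup S)) := by
    rw [← R.is_maximal' (hQ.to_sup_of_normal_right R.2) le_sup_right]
    exact le_sup_left
  have hmem := hle (mem_zpowers a)
  rw [hR, mem_subgroupOf] at hmem
  exact hαI hmem

/-- A group of order `p³` with noncommuting elements is extraspecial. -/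
theorem extraspecial_of_card {G : Type*} [Group G] [Finite G] {p : ℕ} [Fact p.Prime]
    (hG : Nat.card G = p ^ 3) (hna : ¬ IsMulCommutative G) : Cfsg.IsExtraspecial p G := by
  have hp := (Fact.out : p.Prime)
  have hP : IsPGroup p G := IsPGroup.of_card hG
  have hne : (⊤ : Subgroup G).lowerCentralSeries (3 - 2) ≠ ⊥ := fun h => by
    rw [Subgroup.top_lowerCentralSeries_one, commutator_eq_bot_iff] at h
    exact hna h
  have hcl := Pearl.class_eq (le_refl 3) hG hne
  have hZ := PGroup.card_center_of_maximal (le_refl 3) hG hcl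
  have hidx := PGroup.index_commutator_of_maximal (le_refl 3) hG hcl
  have hf := PGroup.frattini_eq_commutator_of_index_sq hP (PGroup.not_cyclic_of_lcs_ne_bot le_rfl hne) hidx
  have hcz : commutator G = center G := by
    have hle : commutator G ≤ center G := by
      rw [← Subgroup.commutator_top_right_eq_bot_iff_le_center, ← Subgroup.top_lowerCentralSeries_one,
        ← Subgroup.lowerCentralSeries_succ]
      exact PGroup.lcs_eq_bot_of_card (by norm_num) hG
    refine eq_of_le_of_card_ge hle ?_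
    have h := Pearl.card_lcs (le_refl 3) hG hne (i := 1) le_rfl
    rw [Subgroup.top_lowerCentralSeries_one] at h
    rw [h, hZ, show 3 - 1 - 1 = 1 from rfl, pow_one]
  exact ⟨⟨hP, hf.trans hcz, hcz⟩, hZ⟩

/-- A pearl of order `9` in a group of order `27` forces exponent `3`. -/
theorem exp_order27 {Ω : Type*} [Group Ω] {S : Subgroup Ω} [Finite S] [Fact (Nat.Prime 3)] (hS : IsPGroup 3 S)
    {F : Cfsg.FusionSystem S} (hF : F.IsSaturated 3) {E : Subgroup Ω} (hE : F.IsEssential 3 E)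
    (hcard : Nat.card E = 3 ^ 2) (hexp : ∀ x : E, x ^ 3 = 1) (hS3 : Nat.card S = 3 ^ 3)
    (hC : centralizer ((E.subgroupOf S : Subgroup S) : Set S) ≤ E.subgroupOf S) : ∀ s : S, s ^ 3 = 1 := by
  have hES : E ≤ S := hE.1.1
  have hEp : Nat.card (E.subgroupOf S) = 3 ^ 2 :=
    (Nat.card_congr (subgroupOfEquivOfLe hES).toEquiv).trans hcard
  haveI hEn : (E.subgroupOf S).Normal := by
    refine PGroup.normal_of_index_eq hS ?_
    have h := (E.subgroupOf S).card_mul_index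
    rw [hEp, hS3, pow_succ] at h
    exact Nat.eq_of_mul_eq_mul_left (by norm_num) h
  haveI := Fusion.finite_of_le (Ω := Ω) hES
  have hEcomm : ∀ a b : E, a * b = b * a := fun a b =>
    (IsPGroup.commGroupOfCardEqPrimeSq hcard).mul_comm a b
  intro g
  by_cases hgE : (g : Ω) ∈ E
  · exact Subtype.ext (congrArg Subtype.val (hexp ⟨g, hgE⟩) :)
  have hN : ∀ s : S, (s : Ω) ∈ FusionSystem.normalizerIn S E := fun s =>
    mem_inf.mpr ⟨s.2, mem_normalizer_iff.mpr fun e => by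
      constructor
      · intro he
        exact hEn.conj_mem ⟨e, hES he⟩ he s
      · intro he
        have h1 := hEn.conj_mem ⟨(s : Ω) * e * (s : Ω)⁻¹, hES he⟩ he s⁻¹
        simpa [mem_subgroupOf, mul_assoc] using h1⟩
  -- conjugation by `g` and a second `p`-element
  let σ : MulAut E := Fusion.normalizerAut S E ⟨(g : Ω), hN g⟩
  have hσv : ∀ e : E, ((σ e : E) : Ω) = (g : Ω) * e * (g : Ω)⁻¹ := fun e => rfl
  have hσA : σ ∈ F.autGroup E := by
    rw [Fusion.Extn.mem_autGroup F hES]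
    have h := F.conj_mem (P := E) (g := (g : Ω)) hES g.2
    have he : Cfsg.conjHom E (g : Ω) = E.subtype.comp σ.toMonoidHom :=
      MonoidHom.ext fun e => by simp [Cfsg.conjHom, hσv]
    exact he ▸ h
  obtain ⟨k, hk⟩ := hS g
  have hσk : σ ^ 3 ^ k = 1 := by
    rw [← map_pow, show (⟨(g : Ω), hN g⟩ : FusionSystem.normalizerIn S E) ^ 3 ^ k = 1 from
      Subtype.ext (congrArg Subtype.val hk :), map_one]
  have hσ1 : σ ≠ 1 := fun h => hgE (mem_subgroupOf.mp (hC (mem_centralizer_iff.mpr fun e he => Subtype.ext (by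
    have h1 := hσv ⟨(e : Ω), he⟩
    rw [h] at h1
    exact eq_mul_inv_iff_mul_eq.mp h1))))
  have hτ : ∃ a ∈ F.autGroup E, a * σ * a⁻¹ ∉ zpowers σ := by
    by_contra hcon
    push Not at hcon
    have hle := Fusion.SmallEss.pGroup_le_inn hE (N := zpowers σ) (zpowers_le.mpr hσA)
      (fun α hα a ha => by
        obtain ⟨i, rfl⟩ := mem_zpowers_iff.mp hα
        rw [← conj_zpow]
        exact zpow_mem (hcon a ha) i)
      (fun ⟨b, hb⟩ => by
        obtain ⟨i, rfl⟩ := mem_zpowers_iff.mp hb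
        refine ⟨k, Subtype.ext ?_⟩
        show (σ ^ i) ^ 3 ^ k = 1
        rw [← zpow_natCast, ← zpow_mul, mul_comm, zpow_mul, zpow_natCast, hσk, one_zpow])
    rw [Fusion.SmallEss.inn_eq_bot ⟨⟨hEcomm⟩⟩, le_bot_iff, zpowers_eq_bot] at hle
    exact hσ1 hle
  obtain ⟨a, ha, haσ⟩ := hτ
  obtain ⟨m, hm, hinv⟩ := Fusion.exists_inversion_mem_closure hEcomm hcard hexp ⟨k, hσk⟩
    ⟨k, by rw [conj_pow, hσk, mul_one, mul_inv_cancel]⟩ hσ1 haσ
  have hmA : m ∈ F.autGroup E :=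
    (closure_le _).mpr (Set.insert_subset_iff.mpr ⟨hσA, Set.singleton_subset_iff.mpr
      (mul_mem (mul_mem ha hσA) (inv_mem ha))⟩) hm
  let φ := E.subtype.comp m.toMonoidHom
  have hφv : ∀ e : E, φ e = ((e : Ω))⁻¹ := fun e => by
    show ((m e : E) : Ω) = _
    rw [hinv]; rfl
  obtain ⟨ψ, hψ, -, hψe⟩ := Fusion.Extn.extend_centric_aut hS F hF hE.1 (φ := φ)
    ((Fusion.Extn.mem_autGroup F hES).mp hmA) (fun e => (m e).2)
    (le_antisymm (fun w ⟨e, he⟩ => he ▸ (m e).2) fun w hw => ⟨m.symm ⟨w, hw⟩, by simp [φ]⟩)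
    (fun s hs => ⟨s, hs, fun e he => by
      rw [hφv, hφv]
      simp [mul_assoc]⟩)
  -- the image of `g`
  set t := ψ ⟨(g : Ω), hN g⟩ with ht
  have htS : t ∈ S := (F.le_of_mem hψ).2 _
  have htg : (g : Ω)⁻¹ * t ∈ E := by
    have hcen : (⟨(g : Ω)⁻¹ * t, mul_mem (inv_mem g.2) htS⟩ : S) ∈
        centralizer ((E.subgroupOf S : Subgroup S) : Set S) := by
      refine mem_centralizer_iff.mpr fun e he => Subtype.ext ?_
      show (e : Ω) * ((g : Ω)⁻¹ * t) = (g : Ω)⁻¹ * t * e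
      have hge : (g : Ω) * ((e : Ω))⁻¹ * (g : Ω)⁻¹ ∈ E := hEn.conj_mem _ (inv_mem he) g
      have h1 : ψ (⟨(g : Ω), hN g⟩ * ⟨((e : Ω))⁻¹, hN e⁻¹⟩ * ⟨(g : Ω), hN g⟩⁻¹) =
          t * ψ ⟨((e : Ω))⁻¹, hN e⁻¹⟩ * t⁻¹ := by rw [map_mul, map_mul, map_inv]
      have heE : (e : Ω)⁻¹ ∈ E := inv_mem (mem_subgroupOf.mp he)
      rw [show ψ ⟨((e : Ω))⁻¹, hN e⁻¹⟩ = φ ⟨_, heE⟩ from hψe _ heE _, hφv] at h1
      rw [show ψ (⟨(g : Ω), hN g⟩ * ⟨((e : Ω))⁻¹, hN e⁻¹⟩ * ⟨(g : Ω), hN g⟩⁻¹) =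
        φ ⟨_, hge⟩ from hψe _ hge _, hφv] at h1
      simp only [mul_inv_rev, inv_inv] at h1
      calc (e : Ω) * ((g : Ω)⁻¹ * t) = (g : Ω)⁻¹ * ((g : Ω) * ((e : Ω) * (g : Ω)⁻¹)) * t := by group
        _ = (g : Ω)⁻¹ * (t * e * t⁻¹) * t := by rw [h1]
        _ = _ := by group
    exact hC hcen
  -- cubes are central and inside `E`
  have hna : ¬ IsMulCommutative S := fun h => hgE (mem_subgroupOf.mp (hC (mem_centralizer_iff.mpr fun e _ => h.is_comm.comm e g)))
  have hex := extraspecial_of_card hS3 hna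
  have hcl2 : (⊤ : Subgroup S).lowerCentralSeries (3 - 1) = ⊥ := PGroup.lcs_eq_bot_of_card (by norm_num) hS3
  have hmul : ∀ a b : S, (a * b) ^ 3 = a ^ 3 * b ^ 3 := fun a b => by
    obtain ⟨c, hc, he⟩ := S4209.hall_petrescu Fact.out hcl2 a b 1
    have hc1 : c = 1 := by
      have hle : Cfsg.powerClosure 3 1 (commutator S) ≤ ⊥ := by
        rw [Cfsg.powerClosure, closure_le]
        rintro _ ⟨w, hw, rfl⟩
        refine mem_bot.mpr ?_
        rw [hex.1.2.2] at hw
        have h := pow_card_eq_one' (x := (⟨w, hw⟩ : center S))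
        rw [hex.2] at h
        rw [pow_one]
        simpa using congrArg Subtype.val h
      exact mem_bot.mp (hle hc)
    rw [hc1, mul_one, pow_one] at he
    exact he
  have hg3Z : g ^ 3 ∈ center S := by
    rw [← hex.1.2.1]
    exact PGroup.pow_mem_frattini hS g
  have hg3E : ((g : Ω)) ^ 3 ∈ E := mem_subgroupOf.mp (hC (center_le_centralizer _ hg3Z))
  have ht3 : (⟨t, htS⟩ : S) ^ 3 = g ^ 3 := by
    have he3 : (⟨(g : Ω)⁻¹ * t, hES htg⟩ : S) ^ 3 = 1 := Subtype.ext (congrArg Subtype.val (hexp ⟨_, htg⟩) :)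
    have hsplit : (⟨t, htS⟩ : S) = g * ⟨(g : Ω)⁻¹ * t, hES htg⟩ := Subtype.ext (by simp)
    rw [hsplit, hmul, he3, mul_one]
  have hinv3 : t ^ 3 = ((g : Ω) ^ 3)⁻¹ := by
    rw [ht, ← map_pow]
    exact (hψe _ hg3E _).trans (hφv ⟨_, hg3E⟩)
  have h6 : (g ^ 3) ^ 2 = 1 := by
    refine Subtype.ext ?_
    have h1 := congrArg Subtype.val ht3
    simp only [SubgroupClass.coe_pow] at h1 ⊢
    rw [hinv3] at h1
    rw [pow_two, OneMemClass.coe_one]
    nth_rewrite 1 [← h1]
    rw [inv_mul_cancel]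
  obtain ⟨r, hr⟩ := hS g
  have h27 : (g ^ 3) ^ 3 ^ r = 1 := by rw [← pow_mul, mul_comm, pow_mul, hr, one_pow]
  exact orderOf_eq_one_iff.mp (Nat.eq_one_of_dvd_coprimes ((Nat.coprime_primes Nat.prime_two
    (Fact.out : Nat.Prime 3)).mpr (by norm_num) |>.pow_right r) (orderOf_dvd_of_pow_eq_one h6)
    (orderOf_dvd_of_pow_eq_one h27))

/-- Let F be a saturated fusion system over a finite 3-group S having a pearl: an F-essential subgroup E that is elementary abelian of order 9 or nonabelian of order 27. Then either S is extraspecial of order 27 and exponent 3, or S has order at least 81 and every subgroup of S can be generated by at most two elements, or S is isomorphic to the wreath product C₃ ≀ C₃ (a Sylow 3-subgroup of the symmetric group of degree 9). -/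
theorem result {Ω : Type*} [Group Ω] {S : Subgroup Ω} [Finite S] (hS : IsPGroup 3 S) (F : Cfsg.FusionSystem S) (hF : F.IsSaturated 3) [Fact (Nat.Prime 3)] (E : Subgroup Ω) (hE : F.IsEssential 3 E) (hpearl : (Nat.card E = 9 ∧ ∀ x ∈ E, x ^ 3 = 1 ∧ IsMulCommutative ↥E) ∨ (Nat.card E = 27 ∧ ¬ IsMulCommutative ↥E)) : (Cfsg.IsExtraspecial 3 ↥S ∧ Nat.card S = 27 ∧ Monoid.exponent ↥S = 3) ∨ (81 ≤ Nat.card S ∧ ∀ H : Subgroup Ω, H ≤ S → ∃ T : Finset Ω, T.card ≤ 2 ∧ Subgroup.closure (T : Set Ω) = H) ∨ (∃ W : Sylow 3 (Equiv.Perm (Fin 9)), Nonempty (↥S ≃* ↥(W : Subgroup (Equiv.Perm (Fin 9))))) := by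
  classical
  have hES : E ≤ S := hE.1.1
  obtain ⟨m, hm⟩ := IsPGroup.iff_card.mp hS
  have hcardE : Nat.card (E.subgroupOf S) = Nat.card E := Nat.card_congr (subgroupOfEquivOfLe hES).toEquiv
  have hconj : F.IsConj E E := by
    refine ⟨E.subtype, ?_, by simp⟩
    have h := F.conj_mem (g := 1) hES (one_mem S)
    have he : Cfsg.conjHom E (1 : Ω) = E.subtype := MonoidHom.ext fun a => by simp [Cfsg.conjHom]
    rwa [he] at h
  have hC : centralizer ((E.subgroupOf S : Subgroup S) : Set S) ≤ E.subgroupOf S := fun g hg =>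
    hE.1.2 E hconj (mem_inf.mpr ⟨g.2, mem_centralizer_iff.mpr fun e he =>
      congrArg Subtype.val (mem_centralizer_iff.mp hg ⟨e, hES he⟩ he)⟩)
  have hne : E ≠ S := fun h => ne_self hS hF (h ▸ hE)
  have hlt : Nat.card E < Nat.card S := by
    haveI := Fusion.finite_of_le (Ω := Ω) hES
    exact Fusion.card_lt_of_lt le_rfl (lt_of_le_of_ne hES hne)
  by_cases hm3 : m = 3
  · subst hm3
    left
    have hE9 : Nat.card E = 9 ∧ ∀ x ∈ E, x ^ 3 = 1 ∧ IsMulCommutative ↥E := by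
      rcases hpearl with h | ⟨h, -⟩
      · exact h
      · rw [h, hm] at hlt; norm_num at hlt
    have hexp := exp_order27 hS hF hE hE9.1 (fun x => Subtype.ext (by simpa using (hE9.2 x x.2).1)) hm hC
    have hna : ¬ IsMulCommutative S := fun h => hne (le_antisymm hES fun g hg =>
      mem_subgroupOf.mp (hC (mem_centralizer_iff.mpr fun e _ => h.is_comm.comm e ⟨g, hg⟩)))
    refine ⟨extraspecial_of_card hm hna, hm, ?_⟩
    refine ((Nat.dvd_prime (Fact.out : Nat.Prime 3)).mp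
      (Monoid.exponent_dvd_of_forall_pow_eq_one hexp)).resolve_left fun h => hna ⟨⟨fun a b => ?_⟩⟩
    haveI : Subsingleton S := Monoid.exp_eq_one_iff.mp h
    exact Subsingleton.elim _ _
  have hm4 : 4 ≤ m := by
    rcases hpearl with ⟨h, -⟩ | ⟨h, -⟩ <;> rw [h, hm] at hlt
    · have : 2 < m := (Nat.pow_lt_pow_iff_right (by norm_num : 1 < 3)).mp (by norm_num; exact hlt)
      omega
    · have : 3 < m := (Nat.pow_lt_pow_iff_right (by norm_num : 1 < 3)).mp (by norm_num; exact hlt)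
      omega
  have h81 : 81 ≤ Nat.card S := by
    rw [hm]
    exact (le_of_eq (by norm_num : 81 = 3 ^ 4)).trans (Nat.pow_le_pow_right (by norm_num) hm4)
  obtain ⟨hcl, x, hx, hC2⟩ : (⊤ : Subgroup S).lowerCentralSeries (m - 2) ≠ ⊥ ∧
      ∃ x : S, x ^ 3 = 1 ∧ Nat.card (centralizer ({x} : Set S)) = 3 ^ 2 := by
    rcases hpearl with ⟨hc, hx⟩ | ⟨hc, hna⟩
    · exact Pearl.exists_good_of_sq (by omega) hm (hcardE.trans hc) (fun x hxE => Subtype.ext (by
        simpa using (hx x hxE).1)) hC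
    · refine Pearl.exists_good_of_extraspecial (by omega) hm (hcardE.trans hc) ?_
        (fun x hxE => Subtype.ext ?_) hC
      · intro h
        exact hna ⟨⟨fun a b => Subtype.ext (congrArg (fun t : E.subgroupOf S => ((t : S) : Ω))
          (h.is_comm.comm ⟨⟨a, hES a.2⟩, a.2⟩ ⟨⟨b, hES b.2⟩, b.2⟩))⟩⟩
      · simpa using congrArg Subtype.val (S5238.exp_extraspecial hS (by norm_num) hE hc hna ⟨(x : Ω), hxE⟩)
  have hset : Pearl.Three.Setting S m x := ⟨hm4, hm, hcl, hx, hC2⟩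
  by_cases hall : ∀ K : Subgroup S, ∃ T : Finset S, T.card ≤ 2 ∧ closure (T : Set S) = K
  · refine Or.inr (Or.inl ⟨h81, fun H hH => ?_⟩)
    obtain ⟨T, hT, hcT⟩ := hall (H.subgroupOf S)
    refine ⟨T.image Subtype.val, Finset.card_image_le.trans hT, ?_⟩
    rw [Finset.coe_image]
    have h := congrArg (Subgroup.map S.subtype) hcT
    rw [MonoidHom.map_closure, Subgroup.subgroupOf_map_subtype, inf_of_le_left hH] at h
    exact h
  · push Not at hall
    obtain ⟨K, hK⟩ := hall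
    rcases hset.rank_two K with ⟨T, hT, hcT⟩ | ⟨h4, D, hi, hD1, hxD, hab, hexp⟩
    · exact absurd hcT (hK T hT)
    · obtain ⟨e⟩ := hset.nonempty_equiv_model h4 D hi hD1 hxD hab hexp
      obtain ⟨W, ⟨f⟩⟩ := Pearl.Three.exists_sylow_equiv
      exact Or.inr (Or.inr ⟨W, ⟨e.trans f⟩⟩)

end Cfsg.Agent.S5239
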