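import Cfsg.Statements.S5243
import Cfsg.Agent.Lib.Fusion.PrimeQuotient
-- import your own Cfsg.Agent.* helpers here

set_option autoImplicit false
open Cfsg

namespace Cfsg.Agent.S5243

open Cfsg.FusionSystem Cfsg.Agent.Fusion

/-- Let F be a saturated fusion system over a finite p-group S, E a normal subsystem of F over T ≤ S, and χ a surjective homomorphism from Aut_F(T) onto a nontrivial finite group Δ of order prime to p whose kernel contains Aut_E(T). Then there is a proper normal subsystem F₀ of F over S containing E such that Aut_{F₀}(S) consists of those α ∈ Aut_F(S) whose restriction to T is an element of Aut_F(T) in the kernel of χ; moreover every p'-residual subsystem O^{p'}(F) of F is contained in F₀. -/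
theorem result {Ω : Type*} [Group Ω] {S : Subgroup Ω} [Finite S] (p : ℕ) [Fact p.Prime] (hS : IsPGroup p S) (F : Cfsg.FusionSystem S) (hF : F.IsSaturated p) {T : Subgroup Ω} (hTS : T ≤ S) (E : Cfsg.FusionSystem T) (hE : E.IsNormalIn F p) {Δ : Type*} [Group Δ] [Finite Δ] [Nontrivial Δ] (hΔ : (Nat.card Δ).Coprime p) (χ : ↥(F.autGroup T) →* Δ) (hχ : Function.Surjective χ) (hker : (E.autGroup T).subgroupOf (F.autGroup T) ≤ χ.ker) : ∃ F₀ : Cfsg.FusionSystem S, F₀.IsNormalIn F p ∧ ¬ (∀ P : Subgroup Ω, F₀.Hom P = F.Hom P) ∧ E.IsSubsystemOf F₀ ∧ (∀ α : MulAut ↥S, α ∈ F₀.autGroup S ↔ α ∈ F.autGroup S ∧ ∃ β : ↥(F.autGroup T), χ β = 1 ∧ ∀ t : ↥T, (((β : MulAut ↥T) t : ↥T) : Ω) = ((α ⟨(t : Ω), hTS t.2⟩ : ↥S) : Ω)) ∧ ∀ R : Cfsg.FusionSystem S, F.IsPPrimeResidual p R → R.IsSubsystemOf F₀ := by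
  set K : Subgroup (MulAut ↥T) := χ.ker.map (F.autGroup T).subtype with hK
  have hKmem : ∀ (β : F.autGroup T), (β : MulAut T) ∈ K ↔ χ β = 1 := fun β =>
    ⟨fun ⟨b, hb, he⟩ => by rw [← Subtype.ext he]; exact hb, fun hb => ⟨β, hb, rfl⟩⟩
  have hKle : K ≤ F.autGroup T := Subgroup.map_subtype_le _
  obtain ⟨⟨hEs, -, hsub, hT, htr, hfr⟩, -⟩ := id hE
  have hEF : E.autGroup T ≤ F.autGroup T := autGroup_le_of_subsystem hsub le_rfl
  have h : RelData F E p K :=
    { sub := hsub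
      closed := hT
      transports := htr
      frattini := hfr
      satE := hEs
      satF := hF
      le := hKle
      conj := fun d hd a ha => by
        have ha' := (hKmem ⟨a, hKle ha⟩).1 ha
        refine (hKmem (⟨d, hd⟩ * ⟨a, hKle ha⟩ * ⟨d, hd⟩⁻¹)).2 ?_
        rw [map_mul, map_mul, map_inv, ha', mul_one, mul_inv_cancel]
      pElt := fun a ha k hk => (hKmem ⟨a, ha⟩).2 <| by
        refine orderOf_eq_one_iff.1 (Nat.eq_one_of_dvd_coprimes
          (Nat.Coprime.pow_right k hΔ) (orderOf_dvd_natCard _) (orderOf_dvd_of_pow_eq_one ?_))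
        rw [← map_pow, show (⟨a, ha⟩ : F.autGroup T) ^ p ^ k = 1 from Subtype.ext hk, map_one]
      aut := fun a ha => (hKmem ⟨a, hEF ha⟩).2 (hker ha) }
  refine ⟨h.quotSystem hS, h.isNormalIn_quot hS hE, ?_, h.subsystem_le_quot hS, fun α => ?_,
    fun R hR => hR.2.2 _ (h.isSaturated_quot hS hE)
      (hasPrimeToPIndexIn hS hF (fun P φ hφ => hφ.1) (h.isLarge_quot hS))⟩
  · intro hall
    obtain ⟨d, hd⟩ := exists_ne (1 : Δ)
    obtain ⟨b, rfl⟩ := hχ d
    obtain ⟨α, hα, hαK⟩ := h.exists_not_restricts hS b.2 fun hb => hd ((hKmem b).1 hb)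
    exact hαK ((h.mem_autGroup_quot_iff hS α).1
      ((mem_autGroup_iff le_rfl).2 ((hall S).ge ((mem_autGroup_iff le_rfl).1 hα))))
  · rw [h.mem_autGroup_quot_iff hS]
    constructor
    · rintro ⟨hα, β, hβ, hv⟩
      exact ⟨hα, ⟨β, hKle hβ⟩, (hKmem _).1 hβ, hv⟩
    · rintro ⟨hα, β, hβ, hv⟩
      exact ⟨hα, β, (hKmem β).2 hβ, hv⟩

end Cfsg.Agent.S5243
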