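import Cfsg.Statements.S5245
import Cfsg.Agent.Lib.Fusion.Realized
import Cfsg.Agent.Lib.Fusion.Nilpotent
-- import your own Cfsg.Agent.* helpers here

set_option autoImplicit false
open Cfsg

namespace Cfsg.Agent.S5245

open Cfsg.FusionSystem

/-- A `p'`-automorphism of prime order of a subgroup `P` forces `P = S`, and then every map of the
system is a restriction of an element of `Inn(P)⟨α⟩`. -/
theorem of_aut {Ω : Type*} [Group Ω] {S : Subgroup Ω} [Finite S] {p : ℕ} [Fact p.Prime]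
    (hS : IsPGroup p S) {F : Cfsg.FusionSystem S}
    (hxs : ∀ (T : Subgroup Ω) (E : Cfsg.FusionSystem T), E.IsSaturated p → E.IsSubsystemOf F →
      (T = S ∧ ∀ P : Subgroup Ω, E.Hom P = F.Hom P) ∨
        (∀ P : Subgroup Ω, E.Hom P = (Cfsg.innerFusionSystem T).Hom P))
    {P : Subgroup Ω} (hP : P ≤ S) {α : MulAut P} (hα : α ∈ F.autGroup P)
    {q : ℕ} (hq : q.Prime) (hqp : q ≠ p) (hord : orderOf α = q) :
    P = S ∧ ∀ (R : Subgroup Ω) (φ : R →* Ω), φ ∈ F.Hom R → ∃ (hR : R ≤ P) (γ : MulAut P),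
      γ ∈ Cfsg.Inn P ⊔ Subgroup.zpowers α ∧ ∀ x : R, φ x = (γ ⟨x, hR x.2⟩ : Ω) := by
  have := Fusion.finite_of_le hP
  have : Finite (MulAut P) := Finite.of_injective (fun a : MulAut P => (a : P → P)) DFunLike.coe_injective
  let X : Subgroup (MulAut P) := Subgroup.zpowers α
  let L := P ⋊[X.subtype] X
  have : Finite L := Finite.of_equiv _ SemidirectProduct.equivProd.symm
  let ι : P →* L := SemidirectProduct.inl
  have hι : Function.Injective ι := SemidirectProduct.inl_injective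
  obtain ⟨T, hT⟩ : ∃ T : Sylow p L, (T : Subgroup L) = ι.range := by
    have hPp : IsPGroup p P := hS.to_le hP
    obtain ⟨k, hk⟩ := IsPGroup.iff_card.1 hPp
    have hX : Nat.card X = q := by rw [Nat.card_zpowers, hord]
    have hr : Nat.card ι.range = Nat.card P := (Nat.card_congr (MonoidHom.ofInjective hι).toEquiv).symm
    have hL : Nat.card L = p ^ k * q := by
      rw [show Nat.card L = Nat.card P * Nat.card X from SemidirectProduct.card, hk, hX]
    refine ⟨Sylow.ofCard ι.range ?_, Sylow.coe_ofCard _ _⟩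
    rw [hr, hk, hL, Nat.factorization_mul (pow_pos (Fact.out : p.Prime).pos k).ne' hq.ne_zero,
      (Fact.out : p.Prime).factorization_pow, hq.factorization]
    simp [hqp]
  let E := Fusion.inducedSystem ι hι
  have hE : E.IsSaturated p :=
    Fusion.isSaturated_of_realized (Fusion.inducedSystem_realized ι hι) ⟨T, hT⟩
  have hform : ∀ (R : Subgroup Ω) (φ : R →* Ω), φ ∈ E.Hom R → ∃ (hR : R ≤ P) (γ : MulAut P),
      γ ∈ Cfsg.Inn P ⊔ Subgroup.zpowers α ∧ ∀ x : R, φ x = (γ ⟨x, hR x.2⟩ : Ω) := by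
    rintro R φ ⟨hR, hφ, g, hg⟩
    refine ⟨hR, MulAut.conj g.left * (g.right : MulAut P),
      Subgroup.mul_mem_sup ⟨_, rfl⟩ g.right.2, fun x => ?_⟩
    have key : ∀ (g : ↥P ⋊[X.subtype] ↥X) (y : ↥P),
        (g * SemidirectProduct.inl y * g⁻¹).left = g.left * (g.right : MulAut P) y * g.left⁻¹ := by
      intro g y
      simp [mul_assoc]
    have h : (⟨φ x, hφ x⟩ : ↥P) = g.left * (g.right : MulAut P) ⟨x, hR x.2⟩ * g.left⁻¹ :=
      (congrArg (fun l : ↥P ⋊[X.subtype] ↥X => l.left) (hg x)).trans (key g ⟨x, hR x.2⟩)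
    exact (congrArg Subtype.val h).trans rfl
  have hsub : E.IsSubsystemOf F := by
    intro R φ hφ
    obtain ⟨hR, γ, hγ, hx⟩ := hform R φ hφ
    have hγF : γ ∈ F.autGroup P :=
      (sup_le (Fusion.inn_le_autGroup F hP) (Subgroup.zpowers_le.2 hα)) hγ
    exact Fusion.mem_of_le ((Fusion.mem_autGroup_iff hP).1 hγF) hR hx
  rcases hxs P E hE hsub with ⟨hPS, heq⟩ | hinn
  · exact ⟨hPS, fun R φ hφ => hform R φ ((heq R).ge hφ)⟩
  · exfalso
    have hαE : P.subtype.comp α.toMonoidHom ∈ E.Hom P := by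
      refine ⟨le_rfl, fun x => (α x).2,
        SemidirectProduct.inr ⟨α, Subgroup.mem_zpowers α⟩, fun x => ?_⟩
      rw [← map_inv]
      exact SemidirectProduct.inl_aut (φ := X.subtype) ⟨α, Subgroup.mem_zpowers α⟩ x
    rw [hinn] at hαE
    obtain ⟨-, g, hg, hgx⟩ := hαE
    obtain ⟨j, hj⟩ := (hS.to_le hP) ⟨g, hg⟩
    have hαg : α = MulAut.conj ⟨g, hg⟩ := MulEquiv.ext fun x => Subtype.ext (hgx x)
    have hα1 : α ^ p ^ j = 1 := by rw [hαg, ← map_pow, hj, map_one]
    have h1 : q = 1 := Nat.eq_one_of_dvd_coprimes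
      (Nat.Coprime.pow_right j ((Nat.coprime_primes hq Fact.out).2 hqp)) dvd_rfl
      (hord ▸ orderOf_dvd_of_pow_eq_one hα1)
    exact hq.ne_one h1

/-- An extremely sparse system is determined by one automorphism of `S` of prime order. -/
theorem exists_aut {Ω : Type*} [Group Ω] {S : Subgroup Ω} [Finite S] {p : ℕ} [Fact p.Prime]
    (hS : IsPGroup p S) {F : Cfsg.FusionSystem S} (hF : F.IsSaturated p)
    (hne : ¬ ∀ P : Subgroup Ω, F.Hom P = (Cfsg.innerFusionSystem S).Hom P) :
    ∃ (P : Subgroup Ω) (α : MulAut P) (q : ℕ),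
      P ≤ S ∧ α ∈ F.autGroup P ∧ q.Prime ∧ q ≠ p ∧ orderOf α = q := by
  by_contra hcon
  refine hne (Fusion.hom_eq_inner_of_isPGroup hS hF fun P hP => ?_)
  have := Fusion.finite_of_le hP
  refine Fusion.isPGroup_of_coprime_orderOf_eq_one fun a ha => ?_
  by_contra h1
  have hne1 : orderOf a ≠ 1 := fun h => h1 (orderOf_eq_one_iff.1 h)
  obtain ⟨q, hq, hqd⟩ := Nat.exists_prime_and_dvd hne1
  refine hcon ⟨P, ((a ^ (orderOf a / q) : F.autGroup P) : MulAut P), q, hP, Subtype.property _, hq,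
    fun h => ?_, ?_⟩
  · subst h
    exact hq.ne_one (Nat.eq_one_of_dvd_coprimes ha hqd dvd_rfl)
  · rw [Subgroup.orderOf_coe]
    exact orderOf_pow_orderOf_div (orderOf_pos a).ne' hqd

/-- Let F be an extremely sparse fusion system over a finite p-group S (saturated, not the inner system, and every saturated fusion system over any subgroup T of S contained in F is F itself or the inner system of T). Then S is normal in F, the focal and hyperfocal subgroups of F are both S, and Aut_F(S) is generated by the inner automorphisms of S together with a single automorphism of prime order q ≠ p (F is the fusion system of the semidirect product of S by a cyclic group of prime order). -/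
theorem result {Ω : Type*} [Group Ω] {S : Subgroup Ω} [Finite S] (p : ℕ) [Fact p.Prime] (hS : IsPGroup p S) (F : Cfsg.FusionSystem S) (hF : F.IsSaturated p) (hxs : ¬ (∀ P : Subgroup Ω, F.Hom P = (Cfsg.innerFusionSystem S).Hom P) ∧ ∀ (T : Subgroup Ω) (E : Cfsg.FusionSystem T), E.IsSaturated p → E.IsSubsystemOf F → (T = S ∧ ∀ P : Subgroup Ω, E.Hom P = F.Hom P) ∨ (∀ P : Subgroup Ω, E.Hom P = (Cfsg.innerFusionSystem T).Hom P)) : F.IsNormal S ∧ F.focalSubgroup = S ∧ F.hyperfocalSubgroup p = S ∧ ∃ (q : ℕ) (β : MulAut ↥S), q.Prime ∧ q ≠ p ∧ β ∈ F.autGroup S ∧ orderOf β = q ∧ (F.autGroup S : Subgroup (MulAut ↥S)) = Cfsg.Inn ↥S ⊔ Subgroup.zpowers β := by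
  obtain ⟨hne, hsub⟩ := hxs
  obtain ⟨P, β, q, hP, hβ, hq, hqp, hord⟩ := exists_aut hS hF hne
  obtain ⟨hPS, hform⟩ := of_aut hS hsub hP hβ hq hqp hord
  subst P
  have hβS : ∀ x : ↥S, ((β x : ↥S) : Ω) ∈ S := fun x => (β x).2
  -- the subgroup generated by the `x⁻¹ β x`
  let T : Subgroup Ω := Subgroup.closure {y | ∃ x : ↥S, y = (x : Ω)⁻¹ * ((β x : ↥S) : Ω)}
  have hTS : T ≤ S := (Subgroup.closure_le _).2 fun y ⟨x, hy⟩ =>
    hy ▸ S.mul_mem (S.inv_mem x.2) (β x).2
  have hT : T = S := by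
    have hinv : ∀ (y : Ω) (hy : y ∈ T), ((β ⟨y, hTS hy⟩ : ↥S) : Ω) ∈ T := by
      have hle : T.subgroupOf S ≤ (T.subgroupOf S).comap β.toMonoidHom := by
        have hgen : T.subgroupOf S = Subgroup.closure {y : ↥S | ∃ x : ↥S, y = x⁻¹ * β x} := by
          apply Subgroup.map_injective S.subtype_injective
          rw [Subgroup.map_subgroupOf_eq_of_le hTS, MonoidHom.map_closure]
          refine congrArg Subgroup.closure ?_
          ext y
          constructor
          · rintro ⟨x, rfl⟩; exact ⟨_, ⟨x, rfl⟩, rfl⟩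
          · rintro ⟨_, ⟨x, rfl⟩, rfl⟩; exact ⟨x, rfl⟩
        rw [hgen, Subgroup.closure_le]
        rintro _ ⟨x, rfl⟩
        exact Subgroup.subset_closure ⟨β x, by simp⟩
      exact fun y hy => hle (show (⟨y, hTS hy⟩ : ↥S) ∈ T.subgroupOf S from hy)
    have hTfin : Finite ↥T := Fusion.finite_of_le hTS
    let βT : MulAut ↥T := MulEquiv.ofBijective
      (((S.subtype.comp β.toMonoidHom).comp (Subgroup.inclusion hTS)).codRestrict T
        fun y => hinv y y.2)
      (by
        have hinj : Function.Injective (((S.subtype.comp β.toMonoidHom).comp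
            (Subgroup.inclusion hTS)).codRestrict T fun y => hinv y y.2) := fun a b hab =>
          Subgroup.inclusion_injective hTS (β.injective (Subtype.ext
            (congrArg (fun t : ↥T => (t : Ω)) hab)))
        exact ⟨hinj, Finite.injective_iff_surjective.1 hinj⟩)
    have hβT : βT ∈ F.autGroup T := by
      rw [Fusion.mem_autGroup_iff hTS]
      exact Fusion.mem_of_le ((Fusion.mem_autGroup_iff le_rfl).1 hβ) hTS fun y => rfl
    have hpow : ∀ (m : ℕ) (y : ↥T), (((βT ^ m) y : ↥T) : Ω) =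
        (((β ^ m) ⟨y, hTS y.2⟩ : ↥S) : Ω) := by
      intro m
      induction m with
      | zero => intro y; simp
      | succ m ih =>
        intro y
        simp only [pow_succ', MulAut.mul_apply]
        show ((β ⟨(βT ^ m) y, _⟩ : ↥S) : Ω) = _
        congr 1
        exact congrArg β (Subtype.ext (ih y))
    have hqT : βT ^ q = 1 := MulEquiv.ext fun y => Subtype.ext (by
      rw [hpow, ← hord, pow_orderOf_eq_one]; rfl)
    by_cases h1 : βT = 1
    · exfalso
      apply hq.ne_one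
      rw [← hord, orderOf_eq_one_iff]
      refine MulEquiv.ext fun x => ?_
      set y : ↥S := x⁻¹ * β x with hy
      have hyT : (y : Ω) ∈ T := Subgroup.subset_closure ⟨x, rfl⟩
      have hfix : β y = y := by
        have := congrArg (fun a : MulAut ↥T => ((a ⟨_, hyT⟩ : ↥T) : Ω)) h1
        exact Subtype.ext this
      have hx : β x = x * y := (mul_inv_cancel_left x (β x)).symm
      have hm : ∀ m : ℕ, (β ^ m) x = x * y ^ m := by
        intro m
        induction m with
        | zero => simp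
        | succ m ih => rw [pow_succ', MulAut.mul_apply, ih, map_mul, map_pow, hfix, hx, mul_assoc, ← pow_succ']
      have hyq : y ^ q = 1 := by
        have := hm q
        rw [← hord, pow_orderOf_eq_one, MulAut.one_apply] at this
        rw [← hord]
        exact mul_eq_left.1 this.symm
      obtain ⟨j, hj⟩ := hS y
      have hy1 : orderOf y = 1 := Nat.eq_one_of_dvd_coprimes
        (Nat.Coprime.pow_right j ((Nat.coprime_primes hq Fact.out).2 hqp))
        (orderOf_dvd_of_pow_eq_one hyq) (orderOf_dvd_of_pow_eq_one hj)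
      rw [MulAut.one_apply, hx, orderOf_eq_one_iff.1 hy1, mul_one]
    · haveI : Fact q.Prime := ⟨hq⟩
      exact (of_aut hS hsub hTS hβT hq hqp (orderOf_eq_prime hqT h1)).1
  refine ⟨⟨le_rfl, fun R φ hφ => ?_⟩, ?_, ?_, q, β, hq, hqp, hβ, hord, le_antisymm ?_ ?_⟩
  · obtain ⟨hR, γ, hγ, hx⟩ := hform R φ hφ
    have hγF : γ ∈ F.autGroup S :=
      (sup_le (Fusion.inn_le_autGroup F le_rfl) (Subgroup.zpowers_le.2 hβ)) hγ
    refine ⟨(S.subtype.comp γ.toMonoidHom).comp (Subgroup.inclusion (sup_le hR le_rfl)),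
      Fusion.restrict_mem ((Fusion.mem_autGroup_iff le_rfl).1 hγF) _, fun x => (hx x).symm, ?_⟩
    apply le_antisymm
    · rintro _ ⟨x, -, rfl⟩
      exact (γ _).2
    · intro y hy
      exact ⟨⟨γ.symm ⟨y, hy⟩, le_sup_right (a := R) (γ.symm ⟨y, hy⟩).2⟩, (γ.symm ⟨y, hy⟩).2,
        congrArg Subtype.val (γ.apply_symm_apply ⟨y, hy⟩)⟩
  · apply le_antisymm
    · refine (Subgroup.closure_le _).2 ?_
      rintro _ ⟨R, φ, x, hφ, rfl⟩
      exact S.mul_mem (S.inv_mem (Fusion.dom_le hφ x.2)) (Fusion.apply_mem hφ x)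
    · conv_lhs => rw [← hT]
      refine Subgroup.closure_mono ?_
      rintro _ ⟨x, rfl⟩
      exact ⟨S, S.subtype.comp β.toMonoidHom, x, (Fusion.mem_autGroup_iff le_rfl).1 hβ, rfl⟩
  · apply le_antisymm
    · refine (Subgroup.closure_le _).2 ?_
      rintro _ ⟨R, a, x, hR, -, rfl⟩
      exact S.mul_mem (S.inv_mem (hR x.2)) (hR ((a : MulAut ↥R) x).2)
    · conv_lhs => rw [← hT]
      refine Subgroup.closure_mono ?_
      rintro _ ⟨x, rfl⟩
      refine ⟨S, ⟨β, hβ⟩, x, le_rfl, Subgroup.subset_closure ?_, rfl⟩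
      show (orderOf (⟨β, hβ⟩ : F.autGroup S)).Coprime p
      rw [Subgroup.orderOf_mk, hord]
      exact (Nat.coprime_primes hq Fact.out).2 hqp
  · intro a ha
    obtain ⟨hR, γ, hγ, hx⟩ := hform S _ ((Fusion.mem_autGroup_iff le_rfl).1 ha)
    have : a = γ := MulEquiv.ext fun x => Subtype.ext (hx x)
    exact this ▸ hγ
  · exact sup_le (Fusion.inn_le_autGroup F le_rfl) (Subgroup.zpowers_le.2 hβ)

end Cfsg.Agent.S5245
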