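import Cfsg.Statements.S5248
import Cfsg.Agent.Lib.Fusion.TwoShapes.WreathedRealize

set_option autoImplicit false
open Cfsg

namespace Cfsg.Agent.S5248

/-- Let S be a finite 2-group that is dihedral of order at least 8, generalized quaternion of order at least 8, semidihedral, or wreathed, and let F be a saturated fusion system over S. Then F has at most two F-conjugacy classes of F-essential subgroups (among any three essential subgroups two are joined by a map of F), and F is realizable: it is the fusion system of a finite group on a Sylow 2-subgroup. -/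
theorem result {Ω : Type*} [Group Ω] {S : Subgroup Ω} [Finite S] (hS : IsPGroup 2 S) (F : Cfsg.FusionSystem S) (hF : F.IsSaturated 2) (hshape : ((∃ m : ℕ, 4 ≤ m ∧ Nonempty (↥S ≃* DihedralGroup m)) ∨ (∃ m : ℕ, 2 ≤ m ∧ Nonempty (↥S ≃* QuaternionGroup m)) ∨ Cfsg.IsQuasiDihedral ↥S ∨ Cfsg.IsWreathed ↥S)) : (∀ E₁ E₂ E₃ : Subgroup Ω, F.IsEssential 2 E₁ → F.IsEssential 2 E₂ → F.IsEssential 2 E₃ → (∃ φ ∈ F.Hom E₁, φ.range = E₂) ∨ (∃ φ ∈ F.Hom E₁, φ.range = E₃) ∨ (∃ φ ∈ F.Hom E₂, φ.range = E₃)) ∧ F.IsRealizable 2 := by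
  haveI : Fact (Nat.Prime 2) := ⟨Nat.prime_two⟩
  obtain ⟨k, hk⟩ := IsPGroup.iff_card.1 hS
  have key : (∃ (x y : ↥S) (n : ℕ) (r s : ℤ), Cfsg.Agent.Fusion.TwoShapes.CIT x y n r s) ∨
      Cfsg.IsWreathed ↥S := by
    rcases hshape with ⟨m, hm, ⟨e⟩⟩ | ⟨m, hm, ⟨e⟩⟩ | hq | hw
    · left
      have hc : 2 * m = 2 ^ k := by rw [← hk, Nat.card_congr e.toEquiv, DihedralGroup.nat_card]
      obtain ⟨j, rfl⟩ : ∃ j, k = j + 1 := ⟨k - 1, by rcases k with _ | k <;> simp_all⟩
      rw [pow_succ'] at hc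
      obtain rfl : m = 2 ^ j := by omega
      have hj : 2 ≤ j := by
        by_contra hlt
        have := Nat.pow_le_pow_right two_pos (show j ≤ 1 by omega)
        omega
      obtain ⟨x, y, h⟩ := Cfsg.Agent.Fusion.TwoShapes.Models.cit_dihedral hj e
      exact ⟨x, y, j, _, _, h⟩
    · left
      have : NeZero m := ⟨by omega⟩
      have hc : 4 * m = 2 ^ k := by
        rw [← hk, Nat.card_congr e.toEquiv, Nat.card_eq_fintype_card, QuaternionGroup.card]
      obtain ⟨j, rfl⟩ : ∃ j, k = j + 2 := ⟨k - 2, by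
        rcases k with _ | _ | k <;> simp_all
        omega⟩
      rw [pow_succ', pow_succ'] at hc
      obtain rfl : m = 2 ^ j := by omega
      have hj : 1 ≤ j := by
        rcases j with _ | j <;> simp_all
      obtain ⟨x, y, h⟩ := Cfsg.Agent.Fusion.TwoShapes.Models.cit_quaternion (U := ↥S) (n := j + 1) (by omega) e
      exact ⟨x, y, _, _, _, h⟩
    · left
      obtain ⟨n, hn, hc, -⟩ := id hq
      obtain ⟨x, y, h⟩ := Cfsg.Agent.Fusion.TwoShapes.Models.cit_quasiDihedral hq (n := n)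
        (by rw [hc, pow_succ'])
      exact ⟨x, y, _, _, _, h⟩
    · exact Or.inr hw
  rcases key with ⟨x, y, n, r, s, h⟩ | hw
  · exact ⟨fun _ _ _ h₁ h₂ h₃ => h.two_classes hF h₁ h₂ h₃, h.isRealizable hF⟩
  · obtain ⟨x, y, z, n, h⟩ := Cfsg.Agent.TwoGroups.exists_wrGen hw
    exact ⟨fun _ _ _ h₁ h₂ h₃ => Cfsg.Agent.Fusion.TwoShapes.WR.two_classes h hF h₁ h₂ h₃,
      Cfsg.Agent.Fusion.TwoShapes.WR.isRealizable h hF⟩

end Cfsg.Agent.S5248
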