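import Cfsg.Statements.S5249
import Cfsg.Agent.Lib.Qd.Stability
import Cfsg.Agent.Lib.ZJControl.Local
import Cfsg.Agent.Lib.Fusion.Group

set_option autoImplicit false
open Cfsg

namespace Cfsg.Agent.S5249

/-- Let p be an odd prime, G a finite group in which Qd(p) (the natural semidirect product of an elementary abelian group of order p² by SL₂(p)) is not involved, and P a Sylow p-subgroup of G. Then the fusion system of G on P is a solvable fusion system. -/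
theorem result {G : Type*} [Group G] [Finite G] {p : ℕ} [Fact p.Prime] (hp : p ≠ 2) (hqd : ¬ Cfsg.Involves ↥(Cfsg.qd p) G) (P : Sylow p G) : (Cfsg.groupFusionSystem (P : Subgroup G)).IsSolvableSystem := by
  classical
  intro R hR hne _ E hE hcore
  obtain ⟨hRP, hθ, -, hhom⟩ := hE
  set S : Subgroup G := (P : Subgroup G) with hS
  set N := Subgroup.normalizer (R : Set G) with hN
  have hSN : S ≤ N := Subgroup.le_normalizer_of_normal_subgroupOf hRP
  set Rn := R.subgroupOf N with hRn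
  haveI : Rn.Normal := Subgroup.normal_in_normalizer
  have hq : ¬ Cfsg.Involves ↥(Cfsg.qd p) (↥N ⧸ Rn) := fun h => hqd
    (ConjFun.involves_trans h (ConjFun.involves_trans (ConjFun.involves_quotient _)
      (ConjFun.involves_subgroup N)))
  let ι : (↥S ⧸ R.subgroupOf S) →* ↥N ⧸ Rn :=
    QuotientGroup.map _ Rn (Subgroup.inclusion hSN) fun x hx => by
      simpa [hRn, Subgroup.mem_subgroupOf] using hx
  have hιi : Function.Injective ι := by
    refine (injective_iff_map_eq_one _).2 fun q hq => ?_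
    obtain ⟨x, rfl⟩ := QuotientGroup.mk'_surjective _ q
    have h1 : Subgroup.inclusion hSN x ∈ Rn := (QuotientGroup.eq_one_iff _).1 hq
    exact (QuotientGroup.eq_one_iff x).2 (by simpa [hRn, Subgroup.mem_subgroupOf] using h1)
  let T : Sylow p (↥N ⧸ Rn) :=
    (P.subtype hSN).mapSurjective (QuotientGroup.mk'_surjective Rn)
  have hT : (T : Subgroup (↥N ⧸ Rn)) = ι.range := by
    ext q
    constructor
    · intro hq
      rw [Sylow.coe_mapSurjective] at hq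
      obtain ⟨x, hx, rfl⟩ := hq
      exact ⟨QuotientGroup.mk' _ ⟨(x : G), hx⟩, rfl⟩
    · rintro ⟨w, rfl⟩
      obtain ⟨x, rfl⟩ := QuotientGroup.mk'_surjective _ w
      rw [Sylow.coe_mapSurjective]
      exact ⟨Subgroup.inclusion hSN x, x.2, rfl⟩
  have hT0 : (T : Subgroup (↥N ⧸ Rn)) ≠ ⊥ := by
    rw [hT]
    intro h
    refine hne (le_antisymm hRP fun x hx => ?_)
    have h1 : ι (QuotientGroup.mk' _ (⟨x, hx⟩ : S)) ∈ (⊥ : Subgroup (↥N ⧸ Rn)) := h ▸ ⟨_, rfl⟩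
    exact (hθ ⟨x, hx⟩).1 (hιi ((Subgroup.mem_bot.1 h1).trans (map_one ι).symm))
  have hF := ZJControl.isZJLike_A (p := p) hp
  set W := ZJControl.zjA (↥N ⧸ Rn) (T : Subgroup (↥N ⧸ Rn)) with hW
  have hWT : W ≤ ι.range := hT ▸ hF.le _ _
  have hW0 : W ≠ ⊥ := hF.ne_bot _ _ T.2 hT0
  have hctl := ZJControl.controlled_of_not_involves_qd hp
    (fun H _ _ h S _ => Qd.stableOn_of_not_involves_qd hp h _) hq hF T
    (Replacement.isStronglyClosed_self _)
  set W' := W.comap ι with hW'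
  suffices hnorm : E.IsNormal W' by
    have h1 : W' ≤ ⊥ := hcore ▸ le_sSup (show W' ∈ {Q | E.IsNormal Q} from hnorm)
    refine hW0 ((Subgroup.eq_bot_iff_forall _).2 fun w hw => ?_)
    obtain ⟨q, rfl⟩ := hWT hw
    rw [Subgroup.mem_bot.1 (h1 (show q ∈ W' from hw)), map_one]
  refine ⟨le_top, fun P' φ' hφ' => ?_⟩
  obtain ⟨-, φ, hφF, hpS, hφS, hpP', hind⟩ := (hhom P' φ').1 hφ'
  obtain ⟨-, -, g, hg⟩ := hφF
  have hRpre : ∀ r ∈ R, r ∈ Cfsg.FusionSystem.preimageAlong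
      (QuotientGroup.mk' (R.subgroupOf S)) P' := fun r hr =>
    ⟨⟨r, hRP hr⟩, by
      show QuotientGroup.mk' (R.subgroupOf S) ⟨r, hRP hr⟩ ∈ P'
      rw [(hθ ⟨r, hRP hr⟩).2 hr]; exact P'.one_mem, rfl⟩
  have hconjR : ∀ r ∈ R, g * r * g⁻¹ ∈ R := fun r hr => by
    have hmem : ∀ x : R, (Cfsg.conjHom R g) x ∈ S := fun x => by
      have h1 := hφS ⟨x, hRpre x x.2⟩
      rw [hg] at h1
      exact h1
    exact hR.2 R le_rfl (Cfsg.conjHom R g) ⟨hRP, hmem, g, fun x => rfl⟩ ⟨r, hr⟩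
  have hgN : g ∈ N := by
    have heq : R.map (MulAut.conj g).toMonoidHom = R := Subgroup.eq_of_le_of_card_ge
      (by rintro _ ⟨r, hr, rfl⟩; exact hconjR r hr)
      (Nat.card_congr (R.equivMapOfInjective _ (MulAut.conj g).injective).toEquiv).le
    rw [hN, Subgroup.mem_normalizer_iff]
    intro r
    refine ⟨hconjR r, fun hr => ?_⟩
    rw [← heq] at hr
    obtain ⟨r', hr', he⟩ := hr
    have he' : g * r' * g⁻¹ = g * r * g⁻¹ := he
    rwa [← mul_left_cancel (mul_right_cancel he')]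
  set gb : ↥N ⧸ Rn := QuotientGroup.mk' Rn ⟨g, hgN⟩ with hgb
  have hlift : ∀ z ∈ P', ∃ (y : Cfsg.FusionSystem.preimageAlong
      (QuotientGroup.mk' (R.subgroupOf S)) P'),
      QuotientGroup.mk' (R.subgroupOf S) ⟨y, hpS y.2⟩ = z := fun z hz => by
    obtain ⟨y, hy⟩ := QuotientGroup.mk'_surjective _ z
    exact ⟨⟨(y : G), y, show QuotientGroup.mk' (R.subgroupOf S) y ∈ P' from hy ▸ hz, rfl⟩, hy⟩
  have hact : ∀ (z : P'), ι (φ' z) = gb * ι z * gb⁻¹ := by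
    rintro ⟨z, hz⟩
    obtain ⟨y, rfl⟩ := hlift z hz
    rw [hind y]
    show QuotientGroup.mk' Rn (Subgroup.inclusion hSN ⟨φ y, hφS y⟩) =
      gb * QuotientGroup.mk' Rn (Subgroup.inclusion hSN ⟨y, hpS y.2⟩) * gb⁻¹
    rw [hgb, ← map_inv, ← map_mul, ← map_mul]
    exact congrArg _ (Subtype.ext (hg y))
  obtain ⟨x, hx, hxg⟩ := hctl (ι '' (P' : Set _))
    (by rintro _ ⟨z, -, rfl⟩; rw [hT]; exact ⟨z, rfl⟩) gb
    (by rintro _ ⟨z, hz, rfl⟩; rw [hT]; exact ⟨_, hact ⟨z, hz⟩⟩)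
  have hxW : ∀ w, w ∈ W ↔ x * w * x⁻¹ ∈ W := fun w => Subgroup.mem_normalizer_iff.1 hx w
  have hrange : ∀ z ∈ P' ⊔ W', x * ι z * x⁻¹ ∈ ι.range := by
    have hle : P' ⊔ W' ≤ ι.range.comap ((MulAut.conj x).toMonoidHom.comp ι) := by
      refine sup_le (fun z hz => ?_) (fun z hz => ?_)
      · show x * ι z * x⁻¹ ∈ ι.range
        rw [← hxg _ ⟨z, hz, rfl⟩]
        exact ⟨_, hact ⟨z, hz⟩⟩
      · exact hWT ((hxW _).1 hz)
    exact hle
  let ψ' : ↥(P' ⊔ W') →* (↥S ⧸ R.subgroupOf S) :=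
    (MonoidHom.ofInjective hιi).symm.toMonoidHom.comp
      ((((MulAut.conj x).toMonoidHom.comp ι).comp (P' ⊔ W').subtype).codRestrict ι.range
        fun z => hrange z z.2)
  have hψ' : ∀ z : ↥(P' ⊔ W'), ι (ψ' z) = x * ι z * x⁻¹ := fun z => by
    exact congrArg Subtype.val ((MonoidHom.ofInjective hιi).apply_symm_apply
      ⟨x * ι z * x⁻¹, hrange z z.2⟩)
  obtain ⟨n, hn⟩ := QuotientGroup.mk'_surjective Rn x
  set Q := Cfsg.FusionSystem.preimageAlong (QuotientGroup.mk' (R.subgroupOf S)) (P' ⊔ W') with hQ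
  have hQS : Q ≤ S := by rintro _ ⟨y, -, rfl⟩; exact y.2
  have hQθ : ∀ y : Q, QuotientGroup.mk' (R.subgroupOf S) ⟨y, hQS y.2⟩ ∈ P' ⊔ W' := by
    rintro ⟨_, y, hy, rfl⟩
    exact hy
  have hQim : ∀ y : Q, Cfsg.conjHom Q (n : G) y ∈ S := by
    intro y
    obtain ⟨w, hw⟩ := hrange _ (hQθ y)
    obtain ⟨s, rfl⟩ := QuotientGroup.mk'_surjective _ w
    rw [← hn] at hw
    have h1 : QuotientGroup.mk' Rn (Subgroup.inclusion hSN s) =
        QuotientGroup.mk' Rn (n * Subgroup.inclusion hSN ⟨y, hQS y.2⟩ * n⁻¹) := by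
      rw [map_mul, map_mul, map_inv]; exact hw
    have h2 : ((Subgroup.inclusion hSN s)⁻¹ *
        (n * Subgroup.inclusion hSN ⟨y, hQS y.2⟩ * n⁻¹)) ∈ Rn := QuotientGroup.eq.1 h1
    have h3 : (s : G)⁻¹ * ((n : G) * (y : G) * (n : G)⁻¹) ∈ S := hRP h2
    have h4 := S.mul_mem s.2 h3
    rw [mul_inv_cancel_left] at h4
    exact h4
  refine ⟨ψ', (hhom _ ψ').2 ⟨le_top, Cfsg.conjHom Q (n : G),
    ⟨hQS, hQim, n, fun y => rfl⟩, hQS, hQim, hQθ, fun y => hιi ?_⟩, fun z => hιi ?_, ?_⟩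
  · rw [hψ', ← hn]
    show QuotientGroup.mk' Rn n * QuotientGroup.mk' Rn (Subgroup.inclusion hSN ⟨y, hQS y.2⟩) *
      (QuotientGroup.mk' Rn n)⁻¹ = QuotientGroup.mk' Rn (Subgroup.inclusion hSN ⟨_, hQim y⟩)
    rw [← map_inv, ← map_mul, ← map_mul]
    exact congrArg _ (Subtype.ext rfl)
  · rw [hψ', hact]
    exact (hxg _ ⟨z, z.2, rfl⟩).symm
  · ext w
    constructor
    · rintro ⟨z, hz, rfl⟩
      show ι (ψ' z) ∈ W
      rw [hψ']
      exact (hxW _).1 hz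
    · intro hw
      have h1 : x⁻¹ * ι w * x ∈ W := by
        rw [hxW, show x * (x⁻¹ * ι w * x) * x⁻¹ = ι w by group]
        exact hw
      obtain ⟨v, hv⟩ := hWT h1
      have hvW : v ∈ W' := show ι v ∈ W from hv ▸ h1
      refine ⟨⟨v, Subgroup.mem_sup_right hvW⟩, hvW, hιi ?_⟩
      rw [hψ']
      show x * ι v * x⁻¹ = ι w
      rw [hv]
      group

end Cfsg.Agent.S5249
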