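import Cfsg.Statements.S5252
import Cfsg.Agent.S5197
import Cfsg.Agent.Lib.Fusion.FocalProper
import Cfsg.Agent.Lib.Fusion.FocalKInf

set_option autoImplicit false
open Cfsg

namespace Cfsg.Agent.S5252

/-- Let p ≥ 5 be a prime and F a saturated fusion system over a nontrivial finite p-group S such that Aut_F(S) is a p-group. Then the focal subgroup of F is a proper subgroup of S. -/
theorem result {Ω : Type*} [Group Ω] {S : Subgroup Ω} [Finite S] (p : ℕ) [Fact p.Prime] (hS : IsPGroup p S) (F : Cfsg.FusionSystem S) (hF : F.IsSaturated p) (hp : 5 ≤ p) (hS1 : S ≠ ⊥) (haut : IsPGroup p ↥(F.autGroup S)) : F.focalSubgroup < S := by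
  refine Fusion.focal_lt_of_controls (fun Q _ => Cfsg.kInfLower Q) ?_ ?_ ?_ (Nat.card S) F rfl hS hF
    hS1 haut
  · intro Q _ _ hQ _ h
    haveI := hQ.center_nontrivial
    refine (Subgroup.nontrivial_iff_ne_bot (Subgroup.center Q)).1 inferInstance (le_bot_iff.1 ?_)
    exact (Cfsg.Agent.KInf.center_le_kInfLower hQ).trans h.le
  · intro Q R _ _ _ _ φ
    exact Cfsg.Agent.KInf.map_kInfLower_equiv φ
  · intro Ω _ S _ hS F hF N hN
    refine Cfsg.Agent.S5197.result (fun Q _ => Cfsg.kInfLower Q) ?_ ?_ ?_ hS F hF N hN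
    · intro Q _ _ hQ _ h
      haveI := hQ.center_nontrivial
      refine (Subgroup.nontrivial_iff_ne_bot (Subgroup.center Q)).1 inferInstance (le_bot_iff.1 ?_)
      exact (Cfsg.Agent.KInf.center_le_kInfLower hQ).trans h.le
    · intro Q R _ _ _ _ φ
      exact Cfsg.Agent.KInf.map_kInfLower_equiv φ
    · intro G _ _ P _
      exact Fusion.kInfLower_local_transfer hp G P

end Cfsg.Agent.S5252
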