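import Cfsg.Statements.S5253
import Cfsg.Agent.S1974
import Cfsg.Agent.Lib.Fusion.CenterControl
import Cfsg.Agent.Lib.Fusion.NilpotenceFunctor
import Cfsg.Agent.Lib.ConjFun.Basic
-- import your own Cfsg.Agent.* helpers here

set_option autoImplicit false
universe u
open Cfsg

namespace Cfsg.Agent.S5253

/-- Let p be a prime and W a positive characteristic p-functor with Z(Q) ≤ W(Q): W assigns to every finite p-group Q (in a fixed universe) a subgroup W(Q), nontrivial when Q is, carried to W(R) by every isomorphism Q ≅ R, and containing the centre of Q. Suppose that for every finite group G with Sylow p-subgroup P in which W(P) is not normal there is g ∈ P outside O_p(G) with [Z(O_p(G)), g, g] = 1. Then for every saturated fusion system F over a finite p-group S and every normalizer fusion system N of W(S) in F, every p-th power of an element of Z(S) that lies in the centre of N lies in the centre of F. -/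
theorem result {p : ℕ} [Fact p.Prime] (W : ∀ (Q : Type u) [Group Q], Subgroup Q) (hW1 : ∀ (Q : Type u) [Group Q] [Finite Q], IsPGroup p Q → Nontrivial Q → W Q ≠ ⊥) (hW2 : ∀ (Q R : Type u) [Group Q] [Group R] [Finite Q], IsPGroup p Q → ∀ φ : Q ≃* R, (W Q).map φ.toMonoidHom = W R) (hWZ : ∀ (Q : Type u) [Group Q] [Finite Q], IsPGroup p Q → Subgroup.center Q ≤ W Q) (hq : ∀ (G : Type u) [Group G] [Finite G] (P : Sylow p G), ¬ (((W ↥(P : Subgroup G)).map (P : Subgroup G).subtype : Subgroup G)).Normal → ∃ g : G, g ∈ (P : Subgroup G) ∧ g ∉ Cfsg.pCore p G ∧ ⁅⁅Subgroup.center ↥(Cfsg.pCore p G) |>.map (Cfsg.pCore p G).subtype, Subgroup.zpowers g⁆, Subgroup.zpowers g⁆ = ⊥) {Ω : Type u} [Group Ω] {S : Subgroup Ω} [Finite S] (hS : IsPGroup p S) (F : Cfsg.FusionSystem S) (hF : F.IsSaturated p) (N : Cfsg.FusionSystem (Cfsg.FusionSystem.normalizerIn S ((W ↥S).map S.subtype))) (hN : F.IsNormalizerSystem ((W ↥S).map S.subtype) N) : Subgroup.closure ((fun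 z => z ^ p) '' ((S ⊓ Subgroup.centralizer (S : Set Ω) : Subgroup Ω) : Set Ω)) ⊓ N.center ≤ F.center := by
  have hW : Cfsg.IsCharPFunctor.{u} p W := ⟨hW1, hW2⟩
  set Φ := Agent.Fusion.Nilpotence.ofCharPFunctor W hW with hΦ
  have hJle : ∀ T ≤ S, Cfsg.inducedFunctor W T ≤ T := fun T _ => Subgroup.map_subtype_le _
  have hJn : ∀ T ≤ S, Cfsg.FusionSystem.normalizerIn S T ≤
      Subgroup.normalizer (Cfsg.inducedFunctor W T : Set Ω) := fun T hT => by
    have := Agent.Fusion.finite_of_le hT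
    exact inf_le_right.trans (Φ.le_normalizer (hS.to_le hT))
  have hJZ : ∀ T ≤ S, T ⊓ Subgroup.centralizer (T : Set Ω) ≤ Cfsg.inducedFunctor W T := by
    rintro T hT y ⟨hy, hyc⟩
    have := Agent.Fusion.finite_of_le hT
    exact ⟨⟨y, hy⟩, hWZ T (hS.to_le hT) (Subgroup.mem_center_iff.2 fun t =>
      Subtype.ext (Subgroup.mem_centralizer_iff.1 hyc t t.2)), rfl⟩
  have hn : S ≤ Subgroup.normalizer (Cfsg.inducedFunctor W S : Set Ω) :=
    Subgroup.le_normalizer.trans (Φ.le_normalizer hS)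
  rintro x ⟨hx1, hx2⟩
  obtain ⟨hxS, hxc, hbase⟩ := Agent.Fusion.CenterControl.fixed_of_mem_center
    (W := Cfsg.inducedFunctor W S) (hJle S le_rfl) hn hN (hJZ S le_rfl) hx2
  have hz : ∃ z ∈ S ⊓ Subgroup.centralizer (S : Set Ω), z ^ p = x := by
    clear hx2 hxS hxc hbase
    induction hx1 using Subgroup.closure_induction with
    | mem y hy =>
      obtain ⟨z, hz, rfl⟩ := hy
      exact ⟨z, hz, rfl⟩
    | one => exact ⟨1, one_mem _, one_pow p⟩
    | mul a b _ _ iha ihb =>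
      obtain ⟨u, hu, rfl⟩ := iha
      obtain ⟨v, hv, rfl⟩ := ihb
      exact ⟨u * v, mul_mem hu hv,
        Commute.mul_pow (Subgroup.mem_centralizer_iff.1 hv.2 u hu.1) p⟩
    | inv a _ iha =>
      obtain ⟨u, hu, rfl⟩ := iha
      exact ⟨u⁻¹, inv_mem hu, inv_pow u p⟩
  refine Agent.Fusion.CenterControl.mem_center hS hF hJle hJn hxS hxc
    (fun T hT hxT => hJZ T hT ⟨hxT, Subgroup.mem_centralizer_iff.2 fun t ht => hxc t (hT ht)⟩)
    ?_ hbase
  intro R hRn hRc hxR M hM L _ ι hL hxT hlocR g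
  obtain ⟨hfin, hι, ⟨T₀, hT₀⟩, -⟩ := id hL
  obtain ⟨z, ⟨hzS, hzc⟩, hzx⟩ := hz
  have hTfin := Agent.Fusion.finite_of_le (Agent.Fusion.normalizerIn_le S R)
  have hTp : IsPGroup p ↥(Cfsg.FusionSystem.normalizerIn S R) :=
    hS.to_le (Agent.Fusion.normalizerIn_le S R)
  have hWT : Cfsg.inducedFunctor W (T₀ : Subgroup L) =
      Agent.Fusion.pushSub ι (Cfsg.inducedFunctor W (Cfsg.FusionSystem.normalizerIn S R)) := by
    rw [hT₀]
    exact Φ.map _ hTfin hTp ι hι.1
  rw [← hWT] at hlocR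
  have hzR : z ∈ R := hRc.2 R (Agent.Fusion.isConj_refl F hRc.1)
    (Agent.Fusion.mem_centralizerIn.2
      ⟨hzS, fun y hy => Subgroup.mem_centralizer_iff.1 hzc y (hRc.1 hy)⟩)
  have hxO : ι ⟨x, hxT⟩ ∈ Cfsg.pCore p L := Agent.Fusion.Model.pushSub_le_pCore hTp hL
    (Agent.Fusion.ModelEmbed.isNormal_of_isNormalizerSystem hM hRc.1) ⟨_, hxR, rfl⟩
  have hzT : ι ⟨z, Agent.Fusion.le_normalizerIn hRc.1 hzR⟩ ∈
      (T₀ : Subgroup L) ⊓ Subgroup.centralizer ((T₀ : Subgroup L) : Set L) := by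
    refine ⟨hT₀ ▸ ⟨_, rfl⟩, Subgroup.mem_centralizer_iff.2 fun t ht => ?_⟩
    obtain ⟨s, rfl⟩ : t ∈ ι.range := hT₀ ▸ ht
    rw [← map_mul, ← map_mul]
    exact congrArg ι (Subtype.ext
      (Subgroup.mem_centralizer_iff.1 hzc s (Agent.Fusion.normalizerIn_le S R s.2)))
  have hw := (S1974.result T₀ (Cfsg.inducedFunctor W) (Agent.ConjFun.isConjugacyFunctor_inducedFunctor hW)
    (fun P hP y hy => ⟨⟨y, hy.1⟩, hWZ P hP (Subgroup.mem_center_iff.2 fun t =>
      Subtype.ext (Subgroup.mem_centralizer_iff.1 hy.2 t t.2)), rfl⟩) ?_ _ rfl).1 (ι ⟨x, hxT⟩)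
    ⟨Subgroup.subset_closure ⟨_, hzT, by
      show ι _ ^ p = ι _
      rw [← map_pow]
      exact congrArg ι (Subtype.ext hzx)⟩, Subgroup.mem_centralizer_iff.2 hlocR⟩ g
    (hT₀.symm ▸ Agent.Fusion.Model.pCore_le_range hL
      ((inferInstance : (Cfsg.pCore p L).Normal).conj_mem _ hxO g))
  · calc g * ι ⟨x, hxT⟩ = g * ι ⟨x, hxT⟩ * g⁻¹ * g := by group
      _ = ι ⟨x, hxT⟩ * g := by rw [hw]
  intro H T hTH hT hTi hH
  set P : Sylow p H := (hT.comap_of_injective H.subtype H.subtype_injective).toSylow hTi with hP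
  have hPH : (P : Subgroup H) = T.subgroupOf H := rfl
  have hmapT : (P : Subgroup H).map H.subtype = T := Subgroup.map_subgroupOf_eq_of_le hTH
  have hWP : (Cfsg.inducedFunctor W (P : Subgroup H)).map H.subtype = Cfsg.inducedFunctor W T := by
    have h := Agent.PComplement.wOf_map hW H.subtype (P : Subgroup H) P.2
      (fun y _ hy => Subtype.ext hy)
    rw [hmapT] at h
    exact h
  obtain ⟨a, haP, haQ, hquad⟩ := hq ↥H P (fun hnorm => hH fun u hu => by
    refine Subgroup.mem_normalizer_iff_map_conj_eq.2 ?_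
    have h1 := Subgroup.mem_normalizer_iff_map_conj_eq.1
      ((Subgroup.normalizer_eq_top (h := hnorm)).ge (Subgroup.mem_top (⟨u, hu⟩ : ↥H)))
    rw [← hWP, Subgroup.map_map]
    show _ = ((W ↥(P : Subgroup H)).map (P : Subgroup H).subtype).map H.subtype
    conv_rhs => rw [← h1, Subgroup.map_map]
    rfl)
  refine ⟨(a : L), ?_, ?_, ?_⟩
  · exact hmapT.le ⟨a, haP, rfl⟩
  · rintro ⟨b, hb, hba⟩
    exact haQ ((H.subtype_injective hba) ▸ hb)
  · have hc : Cfsg.pCoreOf p H ⊓ Subgroup.centralizer ((Cfsg.pCoreOf p H : Subgroup L) : Set L) =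
        ((Subgroup.center ↥(Cfsg.pCore p ↥H)).map (Cfsg.pCore p ↥H).subtype).map H.subtype := by
      ext y
      constructor
      · rintro ⟨⟨b, hb, rfl⟩, hy⟩
        refine ⟨b, ⟨⟨b, hb⟩, Subgroup.mem_center_iff.2 fun c => Subtype.ext (H.subtype_injective ?_),
          rfl⟩, rfl⟩
        exact Subgroup.mem_centralizer_iff.1 hy _ ⟨(c : ↥H), c.2, rfl⟩
      · rintro ⟨_, ⟨b, hb, rfl⟩, rfl⟩
        refine ⟨⟨_, b.2, rfl⟩, Subgroup.mem_centralizer_iff.2 ?_⟩
        rintro _ ⟨c, hc, rfl⟩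
        exact congrArg (fun e : ↥(Cfsg.pCore p ↥H) => H.subtype (e : ↥H))
          (Subgroup.mem_center_iff.1 hb ⟨c, hc⟩)
    have hz : Subgroup.zpowers (a : L) = (Subgroup.zpowers a).map H.subtype :=
      (MonoidHom.map_zpowers H.subtype a).symm
    rw [hc, hz, ← Subgroup.map_commutator, ← Subgroup.map_commutator, hquad, Subgroup.map_bot]

end Cfsg.Agent.S5253
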