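import Cfsg.Statements.S5254
import Cfsg.Agent.Lib.Fusion.AbIndexP.Core

set_option autoImplicit false
open Cfsg Cfsg.Agent.Fusion Cfsg.Agent.Fusion.AbIndexP

namespace Cfsg.Agent.S5254

/-- Let p be an odd prime, S a finite nonabelian p-group with a unique abelian subgroup A of index p, and F a saturated fusion system over S. Then every F-essential subgroup P is A, or Z(S)⟨x⟩ for some x ∈ S outside A, or (when the second centre Z₂(S) lies in A) Z₂(S)⟨x⟩ for some x ∈ S outside A; and P has index p in its normalizer in S. -/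
theorem result {Ω : Type*} [Group Ω] {S : Subgroup Ω} [Finite S] (p : ℕ) [Fact p.Prime] (hS : IsPGroup p S) (F : Cfsg.FusionSystem S) (hF : F.IsSaturated p) (hp : p ≠ 2) (hna : ¬ IsMulCommutative ↥S) (A : Subgroup Ω) (hA : A ≤ S ∧ IsMulCommutative ↥A ∧ (A.subgroupOf S).index = p) (huniq : ∀ B : Subgroup Ω, B ≤ S → IsMulCommutative ↥B → (B.subgroupOf S).index = p → B = A) (P : Subgroup Ω) (hP : F.IsEssential p P) : (P = A ∨ (∃ x ∈ S, x ∉ A ∧ P = (S ⊓ Subgroup.centralizer (S : Set Ω)) ⊔ Subgroup.zpowers x) ∨ (((upperCentralSeries ↥S 2).map S.subtype) ≤ A ∧ ∃ x ∈ S, x ∉ A ∧ P = ((upperCentralSeries ↥S 2).map S.subtype) ⊔ Subgroup.zpowers x)) ∧ (P.subgroupOf (S ⊓ Subgroup.normalizer (P : Set Ω))).index = p := by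
  by_cases hPA : P = A
  · subst hPA
    refine ⟨Or.inl rfl, ?_⟩
    have hN : S ⊓ Subgroup.normalizer (P : Set Ω) = S := inf_eq_left.2 fun g hg =>
      Subgroup.mem_normalizer_iff.2 fun a => by
        have hn := (PGroup.normal_of_index_eq hS hA.2.2 : (P.subgroupOf S).Normal)
        refine ⟨fun ha => hn.conj_mem ⟨a, hA.1 ha⟩ ha ⟨g, hg⟩, fun ha => ?_⟩
        have := hn.conj_mem ⟨g * a * g⁻¹, hA.1 ha⟩ ha ⟨g⁻¹, S.inv_mem hg⟩
        simpa [mul_assoc, Subgroup.mem_subgroupOf] using this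
    rw [hN]
    exact hA.2.2
  obtain ⟨x, h, hxP, hK, hi, hcase⟩ := classify hS hF hp hna hA.1 hA.2.1 hA.2.2 hP hPA
  refine ⟨Or.inr ?_, hi⟩
  rcases hcase with ⟨he, -⟩ | ⟨he, -⟩
  · exact Or.inl ⟨x, h.mem, h.notMem, he⟩
  · have hle := h.Z2s_le hna huniq hK
    refine Or.inr ⟨hle, x, h.mem, h.notMem, ?_⟩
    rw [← h.Z2s_inf hna, inf_eq_left.2 hle] at he
    exact he

end Cfsg.Agent.S5254
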