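import Cfsg.Statements.S5255
import Cfsg.Agent.Lib.Fusion.Factor

set_option autoImplicit false
open Cfsg
open scoped Pointwise

namespace Cfsg.Agent.S5255

/-- Let F be a saturated fusion system over a finite p-group S and T a subgroup of S strongly closed in F. Then T·C_S(T) is strongly closed in F. -/
theorem result {Ω : Type*} [Group Ω] {S : Subgroup Ω} [Finite S] (p : ℕ) [Fact p.Prime] (hS : IsPGroup p S) (F : Cfsg.FusionSystem S) (hF : F.IsSaturated p) (T : Subgroup Ω) (hT : F.StronglyClosed T) : F.StronglyClosed (T ⊔ Cfsg.FusionSystem.centralizerIn S T) := by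
  have hTn := Fusion.le_normalizer_of_stronglyClosed hT
  refine ⟨sup_le hT.1 inf_le_left, fun R hR φ hφ x => ?_⟩
  obtain ⟨ψ, hψ, hψe⟩ := Fusion.exists_hom_mod hS hF hT hφ
  set C := Cfsg.FusionSystem.centralizerIn S T with hC
  have hcoe : ((C ⊔ T : Subgroup Ω) : Set Ω) = (C : Set Ω) * (T : Set Ω) :=
    Subgroup.coe_mul_of_left_le_normalizer_right C T
      ((inf_le_left : C ≤ S).trans hTn)
  obtain ⟨c, hc, t, ht, hct⟩ := hcoe.subset (sup_comm T C ▸ hR x.2 : (x : Ω) ∈ C ⊔ T)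
  change c * t = (x : Ω) at hct
  have hcm : c ∈ R ⊔ T := by
    rw [eq_mul_inv_of_mul_eq hct]
    exact mul_mem (Subgroup.mem_sup_left x.2) (inv_mem (Subgroup.mem_sup_right ht))
  have hψc : ψ ⟨c, hcm⟩ ∈ C := by
    refine ⟨Fusion.apply_mem hψ _, Subgroup.mem_centralizer_iff.2 fun y hy => ?_⟩
    obtain ⟨w, hw, rfl⟩ := (Fusion.image_stronglyClosed hT hψ le_sup_right).ge hy
    rw [← map_mul, ← map_mul]
    exact congrArg ψ (Subtype.ext (Subgroup.mem_centralizer_iff.1 hc.2 _ hw))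
  have hψx : ψ (Subgroup.inclusion le_sup_left x) ∈ T ⊔ C := by
    rw [show Subgroup.inclusion le_sup_left x =
      (⟨c, hcm⟩ * ⟨t, Subgroup.mem_sup_right ht⟩ : ↥(R ⊔ T)) from Subtype.ext hct.symm, map_mul]
    exact mul_mem (Subgroup.mem_sup_right hψc)
      (Subgroup.mem_sup_left (Fusion.apply_mem_closed hT hψ _ ht))
  have h1 := mul_mem hψx (inv_mem (Subgroup.mem_sup_left (T := C) (hψe x)))
  simpa using h1

end Cfsg.Agent.S5255
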