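import Cfsg.Statements.S5256
import Cfsg.Agent.Lib.Fusion.Factor
import Cfsg.Agent.Lib.Fusion.Hyperfocal
import Cfsg.Agent.Lib.Transfer.Residual

set_option autoImplicit false
open Cfsg

namespace Cfsg.Agent.S5256

open Cfsg.FusionSystem Cfsg.Agent.Fusion

section

variable {Ω : Type*} [Group Ω] {S : Subgroup Ω} [Finite S] {p : ℕ} [Fact p.Prime]
  {F : FusionSystem S} {T : Subgroup Ω} {Ω' : Type*} [Group Ω'] {S' : Subgroup Ω'}
  {θ : S →* Ω'} {E : FusionSystem S'}

/-- An automorphism in the system induces one of the image in the factor system. -/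
theorem exists_ind (hS : IsPGroup p S) (hF : F.IsSaturated p) (hT : F.StronglyClosed T)
    (hE : F.IsFactorSystem T θ E) {P : Subgroup Ω} (hP : P ≤ S) (a : F.autGroup P) :
    ∃ b : E.autGroup (imageAlong θ P), ∀ x : P,
      toImage θ hP ((a : MulAut P) x) = (b : MulAut (imageAlong θ P)) (toImage θ hP x) := by
  obtain ⟨hφ, -⟩ := hom_of_mem_autGroup hP a.2
  obtain ⟨φ', hφ', hP1, hφS, hP2, h⟩ := exists_induced hS hF hT hE hφ
  have he : ∀ x : P, φ' (toImage θ hP x) = toImage θ hP ((a : MulAut P) x) := fun x => h x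
  have hr : φ'.range = imageAlong θ P := by
    ext y
    constructor
    · rintro ⟨z, rfl⟩
      obtain ⟨x, rfl⟩ := toImage_surjective θ hP z
      rw [he]
      exact (toImage θ hP _).2
    · intro hy
      obtain ⟨x, hx⟩ := toImage_surjective θ hP ⟨y, hy⟩
      obtain ⟨z, rfl⟩ := (a : MulAut P).surjective x
      exact ⟨toImage θ hP z, by rw [he, hx]⟩
  exact ⟨⟨_, toAut_mem hφ' hr⟩, fun x => Subtype.ext (he x).symm⟩

theorem hyperfocal_map (hS : IsPGroup p S) (hF : F.IsSaturated p) (hT : F.StronglyClosed T)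
    (hE : F.IsFactorSystem T θ E) :
    E.hyperfocalSubgroup p = ((F.hyperfocalSubgroup p).subgroupOf S).map θ := by
  classical
  have hE' := hE
  obtain ⟨hTS, hker, hr, hHom⟩ := hE'
  choose b hb using fun (P : Subgroup Ω) (hP : P ≤ S) (a : F.autGroup P) =>
    exists_ind hS hF hT hE hP a
  have huniq : ∀ (P : Subgroup Ω) (hP : P ≤ S) (c c' : E.autGroup (imageAlong θ P)),
      (∀ x, (c : MulAut (imageAlong θ P)) (toImage θ hP x) =
        (c' : MulAut (imageAlong θ P)) (toImage θ hP x)) → c = c' := by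
    intro P hP c c' h
    refine Subtype.ext (MulEquiv.ext fun z => ?_)
    obtain ⟨x, rfl⟩ := toImage_surjective θ hP z
    exact h x
  let Φ : ∀ (P : Subgroup Ω), P ≤ S → (F.autGroup P →* E.autGroup (imageAlong θ P)) := fun P hP =>
    MonoidHom.mk' (b P hP) fun a a' => huniq P hP _ _ fun x => by
      rw [← hb P hP (a * a') x]
      show toImage θ hP ((a : MulAut P) ((a' : MulAut P) x)) =
        (b P hP a : MulAut (imageAlong θ P)) ((b P hP a' : MulAut (imageAlong θ P)) (toImage θ hP x))
      rw [hb P hP a, hb P hP a']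
  refine le_antisymm ((Subgroup.closure_le _).2 ?_) ?_
  · rintro _ ⟨P'', β, z, hP'', hβ, rfl⟩
    obtain ⟨P, hP, hpre, rfl⟩ : ∃ P, P ≤ S ∧ preimageAlong θ (imageAlong θ P) = P ∧
        imageAlong θ P = P'' :=
      ⟨_, preimageAlong_le θ P'', by rw [image_preimage hr hP''], image_preimage hr hP''⟩
    have := finite_autGroup (F := F) hP
    have hsurj : Function.Surjective (Φ P hP) := by
      intro c
      obtain ⟨hc, hcr⟩ := hom_of_mem_autGroup hP'' c.2
      obtain ⟨-, φ, hφ, hind⟩ := (hHom _ _).1 hc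
      have hrφ := range_induced hT hE hP'' hφ hind
      rw [hcr] at hrφ
      revert φ
      rw [hpre]
      intro φ hφ hind hrφ
      refine ⟨⟨_, toAut_mem hφ hrφ⟩, huniq P hP _ _ fun x => ?_⟩
      show (b P hP _ : MulAut (imageAlong θ P)) (toImage θ hP x) = _
      rw [← hb P hP ⟨_, toAut_mem hφ hrφ⟩ x]
      obtain ⟨hP1, hφS, hP2, h⟩ := hind
      exact Subtype.ext (h x).symm
    obtain ⟨a, ha, rfl⟩ := (Transfer.map_pResidual_of_surjective _ hsurj p).ge hβ
    obtain ⟨x, rfl⟩ := toImage_surjective θ hP z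
    refine ⟨(Subgroup.inclusion hP x)⁻¹ * Subgroup.inclusion hP ((a : MulAut P) x),
      Subgroup.mem_subgroupOf.2 (inv_mul_apply_mem_hyperfocal hP ha x), ?_⟩
    show _ = _ * (((b P hP a : MulAut (imageAlong θ P)) (toImage θ hP x) : imageAlong θ P) : Ω')
    rw [← hb P hP a x, map_mul, map_inv]
    rfl
  · have hsub : F.hyperfocalSubgroup p ≤ ((E.hyperfocalSubgroup p).comap θ).map S.subtype := by
      refine (Subgroup.closure_le _).2 ?_
      rintro _ ⟨P, a, x, hP, ha, rfl⟩
      refine ⟨(Subgroup.inclusion hP x)⁻¹ * Subgroup.inclusion hP ((a : MulAut P) x), ?_, rfl⟩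
      have hres : Φ P hP a ∈ Cfsg.pResidual p (E.autGroup (imageAlong θ P)) := by
        have hle : (Cfsg.pResidual p (F.autGroup P)).map (Φ P hP) ≤
            Cfsg.pResidual p (E.autGroup (imageAlong θ P)) := by
          rw [Cfsg.pResidual, MonoidHom.map_closure]
          refine Subgroup.closure_mono ?_
          rintro _ ⟨g, hg, rfl⟩
          exact Nat.Coprime.coprime_dvd_left (orderOf_map_dvd _ g) hg
        exact hle ⟨a, ha, rfl⟩
      have h1 := inv_mul_apply_mem_hyperfocal (F := E)
        (fun y hy => by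
          obtain ⟨w, -, rfl⟩ := mem_imageAlong_iff.1 hy
          exact hr.le ⟨w, rfl⟩) hres (toImage θ hP x)
      show θ _ ∈ E.hyperfocalSubgroup p
      rw [map_mul, map_inv]
      show ((toImage θ hP x : imageAlong θ P) : Ω')⁻¹ *
        ((toImage θ hP ((a : MulAut P) x) : imageAlong θ P) : Ω') ∈ _
      rw [hb P hP a x]
      exact h1
    rintro _ ⟨s, hs, rfl⟩
    obtain ⟨w, hw, hws⟩ := hsub (Subgroup.mem_subgroupOf.1 hs)
    exact Subtype.ext hws ▸ hw

end

/-- Let F be a saturated fusion system over a finite p-group S, T a subgroup of S strongly closed in F, and E a factor system F/T realised along a homomorphism θ of S with kernel T. Then the hyperfocal subgroup of E is the image under θ of the hyperfocal subgroup of F (hyp(F/T) = T·hyp(F)/T). -/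
theorem result {Ω : Type*} [Group Ω] {S : Subgroup Ω} [Finite S] (p : ℕ) [Fact p.Prime] (hS : IsPGroup p S) (F : Cfsg.FusionSystem S) (hF : F.IsSaturated p) (T : Subgroup Ω) (hT : F.StronglyClosed T) {Ω' : Type*} [Group Ω'] {S' : Subgroup Ω'} (θ : ↥S →* Ω') (E : Cfsg.FusionSystem S') (hE : F.IsFactorSystem T θ E) : E.hyperfocalSubgroup p = ((F.hyperfocalSubgroup p).subgroupOf S).map θ := by
  exact hyperfocal_map hS hF hT hE

end Cfsg.Agent.S5256
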