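import Cfsg.Statements.S5257
import Cfsg.Agent.Lib.Fusion.AbIndexP.Core

set_option autoImplicit false
open Cfsg Cfsg.Agent.Fusion Cfsg.Agent.Fusion.AbIndexP

namespace Cfsg.Agent.S5257

/-- Let p be an odd prime, S a finite nonabelian p-group with a unique abelian subgroup A of index p, and F a saturated fusion system over S having an F-essential subgroup other than A. Then the second centre Z₂(S) lies in A; Z(S) ∩ [S, S] has order p; Z(S)[S, S] has index p in A; Z(S) has index p in Z₂(S); and S/Z(S) has maximal nilpotency class (if S/Z(S) has order pᵐ with m ≥ 3 then the term of index m − 2 of the lower central series of S, counting S as index 0, is not contained in Z(S)). -/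
theorem result {Ω : Type*} [Group Ω] {S : Subgroup Ω} [Finite S] (p : ℕ) [Fact p.Prime] (hS : IsPGroup p S) (F : Cfsg.FusionSystem S) (hF : F.IsSaturated p) (hp : p ≠ 2) (hna : ¬ IsMulCommutative ↥S) (A : Subgroup Ω) (hA : A ≤ S ∧ IsMulCommutative ↥A ∧ (A.subgroupOf S).index = p) (huniq : ∀ B : Subgroup Ω, B ≤ S → IsMulCommutative ↥B → (B.subgroupOf S).index = p → B = A) (P : Subgroup Ω) (hP : F.IsEssential p P) (hPA : P ≠ A) : ((upperCentralSeries ↥S 2).map S.subtype) ≤ A ∧ Nat.card ↥((S ⊓ Subgroup.centralizer (S : Set Ω)) ⊓ ((commutator ↥S).map S.subtype)) = p ∧ (((S ⊓ Subgroup.centralizer (S : Set Ω)) ⊔ ((commutator ↥S).map S.subtype)).subgroupOf A).index = p ∧ (((S ⊓ Subgroup.centralizer (S : Set Ω))).subgroupOf ((upperCentralSeries ↥S 2).map S.subtype)).index = p ∧ ∀ m : ℕ, ((S ⊓ Subgroup.centralizer (S : Set Ω)).subgroupOf S).index = p ^ m → 3 ≤ m → ¬ Subgroup.lowerCentralSeries S (m - 2) ≤ (S ⊓ Subgroup.centralizer (S : Set Ω)) := by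
  obtain ⟨x, h, -, hK, -, -⟩ := classify hS hF hp hna hA.1 hA.2.1 hA.2.2 hP hPA
  have hle := h.Z2s_le hna huniq hK
  have hKR : h.K 1 ⊓ h.R 1 = Zs S ⊓ Ds S := by rw [h.K_one hna, h.Ds_eq]
  have hZ2 : Z2s S = h.K 2 := by rw [← h.Z2s_inf hna, inf_eq_left.2 hle]
  refine ⟨hle, by rw [← hK, hKR], h.index_sup hna hK, ?_, fun m hm h3 => h.lcs_not_le hna hK m hm (by omega)⟩
  have := finite_Zs S rfl
  have hZZ2 : Zs S ≤ Z2s S := by
    rw [hZ2, ← h.K_one hna]; exact h.K_mono 1
  have h1 := ((Zs S).subgroupOf (Z2s S)).card_mul_index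
  rw [Nat.card_congr (Subgroup.subgroupOfEquivOfLe hZZ2).toEquiv] at h1
  refine Nat.eq_of_mul_eq_mul_left Nat.card_pos (h1.trans ?_)
  rw [hZ2, h.card_K_two, hK, h.K_one hna, mul_comm]

end Cfsg.Agent.S5257
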