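-- Solution for statement S5259.
import Cfsg.Statements.S5259
import Cfsg.Agent.Lib.Fusion.CommonFixed
import Cfsg.Agent.Lib.Fusion.UniTri
import Cfsg.Agent.Lib.Fusion.Model
import Cfsg.Agent.Lib.Fusion.Constrained
import Cfsg.Agent.Lib.Fusion.NormalCriteria
import Cfsg.Agent.Lib.Fusion.ConstrainedExtensions
import Cfsg.Agent.Lib.Transfer.Alperin

set_option autoImplicit false
set_option linter.unusedSectionVars false
open Cfsg

namespace Cfsg.Agent.S5259

open Cfsg.FusionSystem Cfsg.Agent.Fusion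

universe u

variable {Ω : Type u} [Group Ω] {S : Subgroup Ω} {F : FusionSystem S} {p : ℕ}
variable [Finite S] [Fact p.Prime]

local notation "Zc" => centralizerIn S S

/-- The three properties of the unitriangular group of degree three. -/
structure Heis (S : Subgroup Ω) : Prop where
  trans : ∀ x ∈ S, x ∉ centralizerIn S S → ∀ y ∈ S, ∀ z ∈ S, x * y = y * x → x * z = z * x →
    y * z = z * y
  surj : ∀ x ∈ S, x ∉ centralizerIn S S → ∀ z ∈ centralizerIn S S, ∃ y ∈ S, y * x * y⁻¹ = x * z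
  comm : ∀ x ∈ S, ∀ y ∈ S, x⁻¹ * (y * x * y⁻¹) ∈ centralizerIn S S

theorem zc_comm {z y : Ω} (hz : z ∈ Zc) (hy : y ∈ S) : z * y = y * z :=
  ((mem_centralizerIn.1 hz).2 y hy).symm

theorem le_normalizer (hH : Heis S) {R : Subgroup Ω} (hR : R ≤ S) (hZ : Zc ≤ R) :
    S ≤ Subgroup.normalizer (R : Set Ω) := by
  have key : ∀ y ∈ S, ∀ x ∈ R, y * x * y⁻¹ ∈ R := fun y hy x hx => by
    have h := R.mul_mem hx (hZ (hH.comm x (hR hx) y hy))
    rwa [mul_inv_cancel_left] at h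
  intro y hy
  rw [Subgroup.mem_normalizer_iff]
  intro x
  refine ⟨key y hy x, fun h => ?_⟩
  have h2 := key _ (S.inv_mem hy) _ h
  simpa [mul_assoc] using h2

/-- A centric radical subgroup whose automorphisms preserve the centre of `S` is `S`. -/
theorem eq_of_invariant (hS : IsPGroup p S) (hH : Heis S) {R : Subgroup Ω} (hc : F.IsCentric R)
    (hr : F.IsRadical p R) (hZ : Zc ≤ R)
    (hinv : ∀ a ∈ F.autGroup R, ∀ z : R, (z : Ω) ∈ Zc → ((a z : R) : Ω) ∈ Zc) : R = S := by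
  have := finite_of_le (Ω := Ω) hc.1
  set Z' := (centralizerIn S S).subgroupOf R with hZ'
  set K := CommonFixed.chainStab (F.autGroup R) Z' with hK
  have hKn : K.Normal := by
    refine ⟨fun k hk g => ⟨fun z hz => ?_, fun v => ?_⟩⟩
    · obtain ⟨y, rfl⟩ := (g : MulAut R).surjective z
      have hy : y ∈ Z' := by
        have h := hinv _ (g⁻¹).2 _ hz
        rwa [Subgroup.coe_inv, MulAut.inv_apply_self] at h
      rw [Subgroup.coe_mul, Subgroup.coe_mul, Subgroup.coe_inv, MulAut.mul_apply,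
        MulAut.mul_apply, MulAut.inv_apply_self, hk.1 y hy]
    · obtain ⟨y, rfl⟩ := (g : MulAut R).surjective v
      rw [Subgroup.coe_mul, Subgroup.coe_mul, Subgroup.coe_inv, MulAut.mul_apply,
        MulAut.mul_apply, MulAut.inv_apply_self, ← map_inv, ← map_mul]
      exact hinv _ g.2 _ (hk.2 y)
  have hKp : IsPGroup p K := CommonFixed.isPGroup_chainStab (hS.to_le hc.1) _ _
  refine le_antisymm hc.1 (le_of_autInducedBy_le hS le_rfl Subgroup.le_normalizer hc hr K hKp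
    fun g hg hgN hm => ⟨fun z hz => Subtype.ext ?_, fun v => hH.comm v (hc.1 v.2) g hg⟩)
  show g * (z : Ω) * g⁻¹ = z
  have hz' : (z : Ω) ∈ centralizerIn S S := hz
  rw [← zc_comm hz' hg, mul_inv_cancel_right]

/-- Restriction of automorphisms to an invariant subgroup. -/
def restrictHom {R : Type*} [Group R] (A : Subgroup (MulAut R)) (V : Subgroup R)
    (h : ∀ a ∈ A, ∀ v ∈ V, a v ∈ V) : A →* MulAut V where
  toFun a :=
    { toFun := fun v => ⟨(a : MulAut R) v, h a a.2 v v.2⟩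
      invFun := fun v => ⟨((a⁻¹ : A) : MulAut R) v, h _ (a⁻¹).2 v v.2⟩
      left_inv := fun v => Subtype.ext (MulAut.inv_apply_self R (a : MulAut R) v)
      right_inv := fun v => Subtype.ext (MulAut.apply_inv_self R (a : MulAut R) v)
      map_mul' := fun v w => Subtype.ext (map_mul (a : MulAut R) (v : R) (w : R)) }
  map_one' := rfl
  map_mul' _ _ := rfl

/-- The centre of `S` is preserved on `R` when there is an invariant `V ≥ Z` with the meet
condition. -/
theorem invariant_of_meet (hS : IsPGroup p S) (hF : F.IsSaturated p) (hH : Heis S)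
    {R : Subgroup Ω} (hn : F.IsFullyNormalized R) (hZR : Zc ≤ R) (V : Subgroup Ω) (hZV : Zc ≤ V)
    (hVR : V ≤ R) (hV : ∀ a ∈ F.autGroup R, ∀ v : R, (v : Ω) ∈ V → ((a v : R) : Ω) ∈ V)
    (hmeet : ∀ a ∈ F.autGroup R,
      ∃ z : R, (z : Ω) ∈ Zc ∧ ((a z : R) : Ω) ∈ Zc ∧ (z : Ω) ≠ 1) :
    ∀ a ∈ F.autGroup R, ∀ z : R, (z : Ω) ∈ Zc → ((a z : R) : Ω) ∈ Zc := by
  have hRS := hn.1
  have := finite_of_le (Ω := Ω) hRS
  have := finite_mulAut (Ω := Ω) hRS
  set V' := V.subgroupOf R with hV'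
  set ρ := restrictHom (F.autGroup R) V' hV with hρ
  obtain ⟨-, Y, hY⟩ := isFullyAutomized_of_fullyNormalized hS hF hn
  let P := Y.mapSurjective ρ.rangeRestrict_surjective
  have hP : ∀ b ∈ P, ∃ y ∈ S, ∀ v : V', (((b : MulAut V') v : R) : Ω) = y * (v : R) * y⁻¹ := by
    rintro _ ⟨a, ha, rfl⟩
    change a ∈ (Y : Subgroup (F.autGroup R)) at ha
    rw [hY] at ha
    obtain ⟨y, hy, hyx⟩ := mem_autInducedBy_iff.1 (Subgroup.mem_subgroupOf.1 ha)
    exact ⟨y, hy, fun v => hyx v⟩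
  have key := CommonFixed.apply_mem ((hS.to_le hRS).to_subgroup V') ρ.range P
    (((centralizerIn S S).subgroupOf R).subgroupOf V') ?_ ?_ ?_ ?_
  · intro a ha z hz
    exact key ⟨_, ⟨⟨a, ha⟩, rfl⟩⟩ ⟨z, hZV hz⟩ hz
  · intro z hz b hb
    obtain ⟨y, hy, hyx⟩ := hP b hb
    refine Subtype.ext (Subtype.ext ?_)
    have hz' : ((z : R) : Ω) ∈ centralizerIn S S := hz
    rw [hyx, ← zc_comm hz' hy, mul_inv_cancel_right]
  · intro v hv z hz
    obtain ⟨y, hy, hyv⟩ := hH.surj _ (hRS v.1.2) hv _ hz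
    have hyN := le_normalizer hH hRS hZR hy
    have hmY : (⟨conjAut hyN, autInducedBy_le_autGroup F hRS
        (conjAut_mem_autInducedBy hy hyN)⟩ : F.autGroup R) ∈ (Y : Subgroup _) := by
      rw [hY]
      exact conjAut_mem_autInducedBy hy hyN
    exact ⟨_, ⟨_, hmY, rfl⟩, Subtype.ext (Subtype.ext hyv)⟩
  · intro b hb v
    obtain ⟨y, hy, hyx⟩ := hP b hb
    show (((v : R) : Ω))⁻¹ * (((b : MulAut V') v : R) : Ω) ∈ Zc
    rw [hyx]
    exact hH.comm _ (hRS v.1.2) y hy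
  · rintro ⟨_, a, rfl⟩
    obtain ⟨z, hz, haz, hz1⟩ := hmeet a a.2
    exact ⟨⟨z, hZV hz⟩, hz, haz, fun h => hz1 (congrArg (fun t : V' => ((t : R) : Ω)) h)⟩

/-- A system over such a group with a nontrivial normal subgroup is constrained. -/
theorem isConstrained_of_core_ne_bot (hS : IsPGroup p S) (hF : F.IsSaturated p) (hH : Heis S)
    (hcore : F.core ≠ ⊥) : F.IsConstrained p := by
  by_contra hnc
  set X := F.core with hX
  have hXn : F.IsNormal X := isNormal_core F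
  have hXS := hXn.1
  have := finite_of_le (Ω := Ω) hXS
  have hXZ : ∃ x ∈ X, x ∈ Zc ∧ x ≠ 1 := by
    by_cases hle : X ≤ Zc
    · obtain ⟨x, hx, hx1⟩ := X.bot_or_exists_ne_one.resolve_left hcore
      exact ⟨x, hx, hle hx, hx1⟩
    · obtain ⟨x, hx, hxZ⟩ := SetLike.not_le_iff_exists.1 hle
      obtain ⟨y, hy, hne⟩ : ∃ y ∈ S, y * x * y⁻¹ ≠ x := by
        by_contra h
        push Not at h
        exact hxZ (mem_centralizerIn.2 ⟨hXS hx, fun y hy => mul_inv_eq_iff_eq_mul.1 (h y hy)⟩)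
      refine ⟨x⁻¹ * (y * x * y⁻¹), X.mul_mem (X.inv_mem hx)
        ((Subgroup.mem_normalizer_iff.1 (le_normalizer_of_isNormal hXn hy) x).1 hx),
        hH.comm x (hXS hx) y hy, fun h => hne ?_⟩
      exact (inv_mul_eq_one.1 h).symm
  obtain ⟨x₁, hx₁, hx₁Z, hx₁1⟩ := hXZ
  refine hnc (ConstrainedExtensions.isConstrained_of_normal_core hF
    (isNormal_of_stronglyClosed hS hF (⟨le_rfl, fun R hR φ hφ x => apply_mem hφ x⟩) fun R hn hc hr => ?_)
    (centralizerIn_le S S))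
  have hRS := hc.1
  have := finite_of_le (Ω := Ω) hRS
  have hcen := isCentric_centralizerIn_le hc
  have hZR : Zc ≤ R := fun z hz => hcen (mem_centralizerIn.2
    ⟨(mem_centralizerIn.1 hz).1, fun r hr => (zc_comm hz (hRS hr)).symm⟩)
  have hXR : X ≤ R := le_of_isNormal hS hXn hc hr
  refine (eq_of_invariant hS hH hc hr hZR ?_).ge
  have hmeetX : ∀ a ∈ F.autGroup R, ∀ v : R, (v : Ω) ∈ X → ((a v : R) : Ω) ∈ X :=
    fun a ha v hv => apply_mem_of_stronglyClosed (stronglyClosed_of_isNormal hXn) hRS ha hv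
  by_cases hab : ∀ x ∈ R, ∀ y ∈ R, x * y = y * x
  swap
  · -- nonabelian: the centre of `R` is that of `S`
    push Not at hab
    obtain ⟨a₀, ha₀, b₀, hb₀, hne⟩ := hab
    intro a ha z hz
    by_contra haz
    have key : ∀ t ∈ R, ((a z : R) : Ω) * t = t * ((a z : R) : Ω) := fun t ht => by
      have h1 : ∀ w : R, z * w = w * z := fun w => Subtype.ext (zc_comm hz (hRS w.2))
      obtain ⟨w, hw⟩ := a.surjective ⟨t, ht⟩
      have h2 := congrArg (fun t : R => ((a t : R) : Ω)) (h1 w)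
      simp only [map_mul, hw, Subgroup.coe_mul] at h2
      exact h2
    exact hne (hH.trans _ (hRS (a z).2) haz a₀ (hRS ha₀) b₀ (hRS hb₀) (key _ ha₀) (key _ hb₀))
  by_cases hXle : X ≤ Zc
  · refine invariant_of_meet hS hF hH hn hZR R hZR le_rfl (fun a _ v _ => (a v).2) fun a ha =>
      ⟨⟨x₁, hXR hx₁⟩, hx₁Z, hXle (hmeetX a ha _ hx₁), hx₁1⟩
  -- `X` is not central
  obtain ⟨x, hx, hxZ⟩ := SetLike.not_le_iff_exists.1 hXle
  have hZX : Zc ≤ X := fun z hz => by
    obtain ⟨y, hy, he⟩ := hH.surj x (hXS hx) hxZ z hz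
    have h := X.mul_mem (X.inv_mem hx)
      ((Subgroup.mem_normalizer_iff.1 (le_normalizer_of_isNormal hXn hy) x).1 hx)
    rwa [he, inv_mul_cancel_left] at h
  have hXRne : X ≠ R := fun he => hnc
    (ConstrainedExtensions.isConstrained_of_normal_core hF hXn (he.symm ▸ hcen))
  refine invariant_of_meet hS hF hH hn hZR X hZX hXR hmeetX fun a ha => ?_
  by_contra hcon
  push Not at hcon
  have hZS := centralizerIn_le S S
  have := finite_of_le (Ω := Ω) hZS
  -- `|R| ≤ |Z|²`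
  by_cases hRS' : R = S
  · exact hxZ (mem_centralizerIn.2 ⟨hXS hx, fun y hy => hab y (hRS'.ge hy) x (hXR hx)⟩)
  obtain ⟨y, hy, hyR⟩ := SetLike.exists_of_lt (lt_of_le_of_ne hRS hRS')
  let c : R →* Zc := MonoidHom.mk' (fun r => ⟨(r : Ω)⁻¹ * (y * r * y⁻¹), hH.comm r (hRS r.2) y hy⟩)
    fun r s => Subtype.ext (by
      have hc1 := hH.comm r (hRS r.2) y hy
      show ((r : Ω) * s)⁻¹ * (y * (r * s) * y⁻¹) = (r : Ω)⁻¹ * (y * r * y⁻¹) * ((s : Ω)⁻¹ * (y * s * y⁻¹))
      rw [show ((r : Ω) * s)⁻¹ * (y * (r * s) * y⁻¹) =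
        (s : Ω)⁻¹ * (((r : Ω)⁻¹ * (y * r * y⁻¹)) * (y * s * y⁻¹)) by group, ← mul_assoc,
        ← zc_comm hc1 (S.inv_mem (hRS s.2)), mul_assoc])
  have hker : Nat.card c.ker ≤ Nat.card Zc := by
    refine Nat.card_le_card_of_injective (fun r => ⟨((r : R) : Ω), ?_⟩) fun r s h => ?_
    · by_contra hrZ
      have hcr : ((r : R) : Ω) * y = y * ((r : R) : Ω) := by
        have h1 := congrArg Subtype.val (show c r = 1 from r.2)
        exact mul_inv_eq_iff_eq_mul.1 (inv_mul_eq_one.1 h1).symm |>.symm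
      refine hyR (hcen (mem_centralizerIn.2 ⟨hy, fun r' hr' => ?_⟩))
      exact hH.trans _ (hRS r.1.2) hrZ r' (hRS hr') y hy (hab _ r.1.2 r' hr') hcr
    · exact Subtype.ext (Subtype.ext (congrArg (Subtype.val : Zc → Ω) h))
  have hR : Nat.card R ≤ Nat.card Zc * Nat.card Zc := by
    rw [← Subgroup.card_mul_index c.ker, Subgroup.index_ker]
    exact Nat.mul_le_mul hker (Subgroup.card_le_card_group _)
  have hlt : Nat.card X < Nat.card R := card_lt_of_lt hRS (lt_of_le_of_ne hXR hXRne)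
  let m : Zc × Zc → X := fun w => ⟨(w.1 : Ω) * ((a ⟨w.2, hZR w.2.2⟩ : R) : Ω),
    X.mul_mem (hZX w.1.2) (hmeetX a ha _ (hZX w.2.2))⟩
  have hm : Function.Injective m := by
    rintro ⟨s, t⟩ ⟨s', t'⟩ h
    have h1 : (s : Ω) * ((a ⟨t, hZR t.2⟩ : R) : Ω) = (s' : Ω) * ((a ⟨t', hZR t'.2⟩ : R) : Ω) :=
      congrArg Subtype.val h
    set d : R := ⟨t, hZR t.2⟩ * (⟨t', hZR t'.2⟩ : R)⁻¹ with hd
    have had : ((a d : R) : Ω) = (s : Ω)⁻¹ * s' := by
      rw [hd, map_mul, map_inv]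
      show ((a ⟨t, hZR t.2⟩ : R) : Ω) * ((a ⟨t', hZR t'.2⟩ : R) : Ω)⁻¹ = _
      rw [mul_inv_eq_iff_eq_mul, mul_assoc, ← h1, inv_mul_cancel_left]
    have hd1 : (d : Ω) = 1 := hcon d ((centralizerIn S S).mul_mem t.2 ((centralizerIn S S).inv_mem t'.2))
      (had ▸ (centralizerIn S S).mul_mem ((centralizerIn S S).inv_mem s.2) s'.2)
    have htt : t = t' := Subtype.ext (mul_inv_eq_one.1 hd1)
    subst htt
    exact Prod.ext (Subtype.ext (mul_right_cancel h1)) rfl
  have h2 := Nat.card_le_card_of_injective m hm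
  rw [Nat.card_prod] at h2
  omega

/-- Let p be a prime, K a finite field of characteristic p, and S a finite p-group isomorphic to a Sylow p-subgroup of SL₃(K). Then every exotic fusion system F over S (saturated but not the fusion system of a finite group on a Sylow p-subgroup) has no nontrivial normal subgroup: O_p(F) = 1. -/
theorem result {Ω : Type*} [Group Ω] {S : Subgroup Ω} [Finite S] (p : ℕ) [Fact p.Prime] (hS : IsPGroup p S) (F : Cfsg.FusionSystem S) (hF : F.IsSaturated p) {K : Type*} [Field K] [Fintype K] [CharP K p] (T : Sylow p (Matrix.SpecialLinearGroup (Fin 3) K)) (e : ↥S ≃* ↥(T : Subgroup (Matrix.SpecialLinearGroup (Fin 3) K))) (hex : F.IsExotic p) : F.core = ⊥ := by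
  classical
  by_contra hcore
  -- `uni` is a Sylow subgroup
  obtain ⟨T₁, hT₁⟩ := (UniTri.isPGroup_uni (n := 3) (F := K) (p := p)).exists_le_sylow
  have hT₁e : (T₁ : Subgroup (Matrix.SpecialLinearGroup (Fin 3) K)) = UniTri.uni := by
    refine le_antisymm ?_ hT₁
    by_contra hle
    obtain ⟨x, ⟨hxT, hxN⟩, hxU⟩ := SetLike.exists_of_lt
      (Cfsg.Agent.Transfer.lt_inf_normalizer_of_lt T₁.isPGroup' (lt_of_le_not_ge hT₁ hle))
    refine hxU ?_
    have hxt := UniTri.mem_tri_of_conj fun v hv => (Subgroup.mem_normalizer_iff.1 hxN v).1 hv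
    obtain ⟨k, hk⟩ := T₁.isPGroup' ⟨x, hxT⟩
    exact UniTri.mem_uni_of_pow (p := p) hxt (congrArg Subtype.val hk)
  obtain ⟨U, hU⟩ : ∃ U : Subgroup (Matrix.SpecialLinearGroup (Fin 3) K), U = (T₁ : Subgroup _) :=
    ⟨_, rfl⟩
  let e' : S ≃* U :=
    e.trans ((T.equiv T₁).trans (MulEquiv.subgroupCongr hU.symm))
  have hUuni : U = UniTri.uni := hU.trans hT₁e
  let a : S → K := fun s => ((e' s : U) : Matrix.SpecialLinearGroup (Fin 3) K).1 0 1
  let b : S → K := fun s => ((e' s : U) : Matrix.SpecialLinearGroup (Fin 3) K).1 1 2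
  have hshape : ∀ s : S, (e' s : Matrix.SpecialLinearGroup (Fin 3) K).1 =
      !![1, a s, (e' s : Matrix.SpecialLinearGroup (Fin 3) K).1 0 2; 0, 1, b s; 0, 0, 1] := by
    intro s
    have hm : (e' s : Matrix.SpecialLinearGroup (Fin 3) K) ∈ UniTri.uni := hUuni ▸ (e' s).2
    obtain ⟨ht, hd⟩ := UniTri.mem_uni.1 hm
    ext i j
    fin_cases i <;> fin_cases j
    · exact hd 0
    · rfl
    · rfl
    · exact ht 1 0 (by decide)
    · exact hd 1
    · rfl
    · exact ht 2 0 (by decide)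
    · exact ht 2 1 (by decide)
    · exact hd 2
  have hSL : ∀ A B : Matrix.SpecialLinearGroup (Fin 3) K, A = B ↔ A.1 = B.1 := fun A B =>
    ⟨congrArg _, Subtype.ext⟩
  have hcomm : ∀ s t : S, s * t = t * s ↔ a s * b t = a t * b s := by
    intro s t
    rw [← e'.injective.eq_iff, map_mul, map_mul, ← Subtype.coe_inj, Subgroup.coe_mul,
      Subgroup.coe_mul, hSL, Matrix.SpecialLinearGroup.coe_mul,
      Matrix.SpecialLinearGroup.coe_mul, hshape s, hshape t]
    constructor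
    · intro h
      have h02 := congrFun (congrFun h 0) 2
      simp [Matrix.mul_apply, Fin.sum_univ_three] at h02
      linear_combination h02
    · intro h
      ext i j
      fin_cases i <;> fin_cases j <;> simp [Matrix.mul_apply, Fin.sum_univ_three] <;>
        first
          | ring1
          | linear_combination h
  have hmk : ∀ x y : K, ∃ t : S, a t = x ∧ b t = y := by
    intro x y
    let M : Matrix.SpecialLinearGroup (Fin 3) K :=
      ⟨!![1, x, 0; 0, 1, y; 0, 0, 1], by simp [Matrix.det_fin_three]⟩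
    have hM : M ∈ U := by
      rw [hUuni, UniTri.mem_uni, UniTri.mem_tri]
      refine ⟨fun i j hij => ?_, fun i => ?_⟩
      · fin_cases i <;> fin_cases j <;> simp_all [M]
      · fin_cases i <;> simp [M]
    refine ⟨e'.symm ⟨M, hM⟩, ?_, ?_⟩ <;> simp [a, b, M]
  have hZ : ∀ s : S, (s : Ω) ∈ FusionSystem.centralizerIn S S ↔ a s = 0 ∧ b s = 0 := by
    intro s
    constructor
    · intro hs
      have h : ∀ t : S, a s * b t = a t * b s := fun t =>
        (hcomm s t).1 (Subtype.ext (zc_comm hs t.2))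
      obtain ⟨t₁, h1, h2⟩ := hmk 0 1
      obtain ⟨t₂, h3, h4⟩ := hmk 1 0
      have e1 := h t₁
      have e2 := h t₂
      rw [h1, h2, mul_one, zero_mul] at e1
      rw [h3, h4, mul_zero, one_mul] at e2
      exact ⟨e1, e2.symm⟩
    · rintro ⟨h1, h2⟩
      refine mem_centralizerIn.2 ⟨s.2, fun t ht => ?_⟩
      have h3 := (hcomm ⟨t, ht⟩ s).2 (by rw [h1, h2]; ring)
      exact congrArg Subtype.val h3
  have haa : ∀ s t : S, a (s * t) = a s + a t ∧ b (s * t) = b s + b t := by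
    intro s t
    constructor <;>
    · simp only [a, b, map_mul, Subgroup.coe_mul, Matrix.SpecialLinearGroup.coe_mul]
      rw [hshape s, hshape t]
      simp [Matrix.mul_apply, Fin.sum_univ_three]
      try ring
  have hH : Heis S := by
    refine ⟨fun x hx hxZ y hy z hz h1 h2 => ?_, fun x hx hxZ z hz => ?_, fun x hx y hy => ?_⟩
    · have h1' := (hcomm ⟨x, hx⟩ ⟨y, hy⟩).1 (Subtype.ext h1)
      have h2' := (hcomm ⟨x, hx⟩ ⟨z, hz⟩).1 (Subtype.ext h2)
      refine congrArg Subtype.val ((hcomm ⟨y, hy⟩ ⟨z, hz⟩).2 ?_)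
      rw [hZ ⟨x, hx⟩, not_and_or] at hxZ
      rcases hxZ with hne | hne
      · refine mul_left_cancel₀ hne ?_
        linear_combination (a ⟨y, hy⟩) * h2' - (a ⟨z, hz⟩) * h1'
      · refine mul_left_cancel₀ hne ?_
        linear_combination (b ⟨y, hy⟩) * h2' - (b ⟨z, hz⟩) * h1'
    · obtain ⟨hz0, hz0'⟩ := (hZ ⟨z, centralizerIn_le S S hz⟩).1 hz
      set c := (e' ⟨z, centralizerIn_le S S hz⟩ : Matrix.SpecialLinearGroup (Fin 3) K).1 0 2
      obtain ⟨s₀, hs₀a, hs₀b⟩ : ∃ u v : K, u * b ⟨x, hx⟩ - a ⟨x, hx⟩ * v = c := by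
        rw [hZ ⟨x, hx⟩, not_and_or] at hxZ
        rcases hxZ with hne | hne
        · exact ⟨0, -(c / a ⟨x, hx⟩), by field_simp; ring⟩
        · exact ⟨c / b ⟨x, hx⟩, 0, by field_simp; ring⟩
      obtain ⟨t, ht1, ht2⟩ := hmk s₀ hs₀a
      refine ⟨t, t.2, mul_inv_eq_iff_eq_mul.2 (congrArg Subtype.val (a₂ := (⟨x, hx⟩ : S) *
        ⟨z, centralizerIn_le S S hz⟩ * t) ?_ (a₁ := t * ⟨x, hx⟩))⟩
      rw [← e'.injective.eq_iff, map_mul, map_mul, map_mul, ← Subtype.coe_inj, hSL]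
      simp only [Subgroup.coe_mul, Matrix.SpecialLinearGroup.coe_mul]
      rw [hshape t, hshape ⟨x, hx⟩, hshape ⟨z, centralizerIn_le S S hz⟩, hz0, hz0', ht1, ht2]
      ext i j
      fin_cases i <;> fin_cases j <;> simp [Matrix.mul_apply, Fin.sum_univ_three] <;>
        first
          | ring1
          | linear_combination hs₀b
    · have hmem : x⁻¹ * (y * x * y⁻¹) ∈ S :=
        S.mul_mem (S.inv_mem hx) (S.mul_mem (S.mul_mem hy hx) (S.inv_mem hy))
      set r : S := (⟨x, hx⟩ : S)⁻¹ * (⟨y, hy⟩ * ⟨x, hx⟩ * (⟨y, hy⟩ : S)⁻¹) with hr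
      refine (hZ r).2 ?_
      have hinv : ∀ s : S, a s⁻¹ = -a s ∧ b s⁻¹ = -b s := fun s => by
        have h1 := haa s s⁻¹
        obtain ⟨h2, h3⟩ := h1
        obtain ⟨h4, h5⟩ := haa 1 1
        rw [mul_inv_cancel] at h2 h3
        rw [one_mul] at h4 h5
        exact ⟨by linear_combination -h2 - h4, by linear_combination -h3 - h5⟩
      simp only [hr, (haa _ _).1, (haa _ _).2, (hinv _).1, (hinv _).2]
      constructor <;> ring
  obtain ⟨-, Q, hQn, hQc⟩ := isConstrained_of_core_ne_bot hS hF hH hcore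
  obtain ⟨G, hG, ι, hfin, hreal, hsyl, -⟩ := Model.exists_model hS hF hQn hQc
  exact hex.2 ⟨G, hG, hfin, ι, hreal, hsyl⟩

end Cfsg.Agent.S5259
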