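import Cfsg.Statements.S5260
import Cfsg.Agent.Lib.Fusion.SpFour.Sylow
import Cfsg.Agent.Lib.Fusion.SpFour.Odd
import Cfsg.Agent.Lib.Fusion.SpFour.Realize
import Cfsg.Agent.Lib.Fusion.Model
-- import your own Cfsg.Agent.* helpers here

set_option autoImplicit false
open Cfsg

namespace Cfsg.Agent.S5260

open Cfsg.FusionSystem Cfsg.Agent.Fusion

/-- Let p be a prime, K a finite field of characteristic p, and S a finite p-group isomorphic to a Sylow p-subgroup of the symplectic group Sp₄(K). Then every exotic fusion system F over S (saturated but not the fusion system of a finite group on a Sylow p-subgroup) has no nontrivial normal subgroup: O_p(F) = 1. -/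
theorem result {Ω : Type*} [Group Ω] {S : Subgroup Ω} [Finite S] (p : ℕ) [Fact p.Prime] (hS : IsPGroup p S) (F : Cfsg.FusionSystem S) (hF : F.IsSaturated p) {K : Type*} [Field K] [Fintype K] [CharP K p] (T : Sylow p ↥(Matrix.symplecticGroup (Fin 2) K)) (e : ↥S ≃* ↥(T : Subgroup ↥(Matrix.symplecticGroup (Fin 2) K))) (hex : F.IsExotic p) : F.core = ⊥ := by
  by_contra hcore
  obtain ⟨e₀⟩ := SpFour.exists_equiv T
  let e₁ := e₀.trans e.symm
  refine hex.2 ?_
  have key : F.IsConstrained p ∨ F.IsRealizable p := by
    by_cases h2 : (2 : K) = 0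
    · have hp : p = 2 := by
        have hd : p ∣ 2 := (CharP.cast_eq_zero_iff K p 2).1 (by exact_mod_cast h2)
        exact (Nat.prime_dvd_prime_iff_eq Fact.out Nat.prime_two).1 hd
      subst hp
      obtain ⟨n, -, hn⟩ := FiniteField.card K 2
      by_cases h3 : 3 ≤ (n : ℕ)
      · exact Or.inl (SpFour.isConstrained_two_large e₁ hS hF hcore hn h3)
      · by_cases hnc : F.IsConstrained 2
        · exact Or.inl hnc
        · refine Or.inr (SpFour.isRealizable_small e₁ ?_ hS hF hcore hnc)
          rw [hn]
          exact (Nat.pow_le_pow_right two_pos (show (n : ℕ) ≤ 2 by omega)).trans (by norm_num)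
    · exact Or.inl (SpFour.isConstrained_odd e₁ hS hF hcore h2)
  rcases key with ⟨-, Q, hQn, hQc⟩ | h
  · obtain ⟨G, _, ι, hfin, hreal, hT, -⟩ := Model.exists_model hS hF hQn hQc
    exact ⟨G, inferInstance, hfin, ι, hreal, hT⟩
  · exact h

end Cfsg.Agent.S5260
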