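import Cfsg.Statements.S5316
import Cfsg.Agent.S5239
import Cfsg.Agent.Lib.Fusion.SmallEssential
import Cfsg.Agent.Lib.PGroup.Extraspecial
import Cfsg.Agent.Lib.PGroup.Class2
import Cfsg.Agent.Lib.Fusion.MaxClassRankThreeFalse
-- import your own Cfsg.Agent.* helpers here

set_option autoImplicit false
open Cfsg

namespace Cfsg.Agent.S5316

open Cfsg.Agent Cfsg.Agent.Fusion

variable {Ω : Type*} [Group Ω] {S : Subgroup Ω} [Finite S] {p : ℕ} [Fact p.Prime] {F : Cfsg.FusionSystem S}
  {E : Subgroup Ω}

/-- No invariant series with two intermediate terms in an essential subgroup of order `p³`. -/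
theorem false_of_series (hS : IsPGroup p S) (hE : F.IsEssential p E) (hc : Nat.card E = p ^ 3)
    (A B : Subgroup E) (hAB : A ≤ B) (hA : Nat.card A = p) (hB : Nat.card B = p ^ 2)
    (hAi : ∀ α : MulAut E, ∀ x ∈ A, α x ∈ A) (hBi : ∀ α : MulAut E, ∀ x ∈ B, α x ∈ B) : False := by
  refine SmallEss.false_of_chain hS hE
    (fun i => match i with | 0 => ⊥ | 1 => A | 2 => B | _ => ⊤) 3 rfl rfl ?_ ?_ ?_
  · intro i hi
    interval_cases i
    exacts [bot_le, hAB, le_top]
  · intro i hi
    interval_cases i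
    · show Nat.card A ≤ p * Nat.card (⊥ : Subgroup E)
      rw [Subgroup.card_bot, mul_one, hA]
    · show Nat.card B ≤ p * Nat.card A
      rw [hB, hA, sq]
    · show Nat.card (⊤ : Subgroup E) ≤ p * Nat.card B
      rw [Subgroup.card_top, hc, hB, ← pow_succ']
  · intro i hi α _ x hx
    interval_cases i
    · rw [Subgroup.mem_bot.1 hx, map_one]
      exact Subgroup.mem_bot.2 rfl
    · exact hAi α x hx
    · exact hBi α x hx
    · trivial

theorem order_le_one (hS : IsPGroup p S) (hE : F.IsEssential p E) {k : ℕ} (hk : k ≤ 1)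
    (hc : Nat.card E = p ^ k) : False := by
  have := finite_of_le (Ω := Ω) hE.2.1.1
  refine SmallEss.false_of_chain hS hE (fun i => if i = 0 then ⊥ else ⊤) 1 rfl rfl ?_ ?_ ?_
  · intro i hi; interval_cases i; exact bot_le
  · intro i hi
    interval_cases i
    show Nat.card (⊤ : Subgroup E) ≤ p * Nat.card (⊥ : Subgroup E)
    rw [Subgroup.card_top, hc, Subgroup.card_bot, mul_one]
    exact (Nat.pow_le_pow_right (Fact.out : p.Prime).pos hk).trans_eq (pow_one p)
  · intro i _ α _ x hx
    by_cases h : i = 0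
    · simp only [h, if_pos] at hx ⊢
      rw [Subgroup.mem_bot.1 hx, map_one]
      exact Subgroup.mem_bot.2 rfl
    · simp only [if_neg h]; trivial

/-- An abelian essential subgroup of order `p²` or `p³` is elementary abelian. -/
theorem exponent_of_abelian (hS : IsPGroup p S) (hE : F.IsEssential p E) (hab : IsMulCommutative E)
    {k : ℕ} (hk : k = 2 ∨ k = 3) (hc : Nat.card E = p ^ k) : ∀ x : E, x ^ p = 1 := by
  classical
  by_contra hne
  push Not at hne
  obtain ⟨x, hx⟩ := hne
  have hp := (Fact.out : p.Prime)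
  have := finite_of_le (Ω := Ω) hE.2.1.1
  letI : CommGroup E := { (inferInstance : Group E) with mul_comm := hab.is_comm.comm }
  let f : E →* E := powMonoidHom p
  have hKi : ∀ α : MulAut E, ∀ x ∈ f.ker, α x ∈ f.ker := fun α x hx => SmallEss.map_pow_ker_mem α hx
  have hRi : ∀ α : MulAut E, ∀ x ∈ f.range, α x ∈ f.range := fun α x hx => SmallEss.map_pow_range_mem α hx
  obtain ⟨a, ha⟩ := IsPGroup.iff_card.1 ((IsPGroup.of_card hc).to_subgroup f.ker)
  obtain ⟨b, hb⟩ := IsPGroup.iff_card.1 ((IsPGroup.of_card hc).to_subgroup f.range)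
  have hab' : a + b = k := by
    have h := f.ker.card_mul_index
    rw [Subgroup.index_ker, ha, hb, ← pow_add, hc] at h
    exact Nat.pow_right_injective hp.two_le h
  have hb0 : b ≠ 0 := by
    rintro rfl
    rw [pow_zero, Subgroup.card_eq_one] at hb
    exact hx (Subgroup.mem_bot.1 (hb ▸ ⟨x, rfl⟩))
  have hker : ∀ y : E, y ^ p = 1 → y ∈ f.ker := fun y hy => hy
  have ha0 : a ≠ 0 := by
    rintro rfl
    rw [pow_zero, Subgroup.card_eq_one] at ha
    obtain ⟨y, hy⟩ := exists_prime_orderOf_dvd_card' (G := E) p (by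
      rw [hc]; exact dvd_pow_self p (by omega))
    have h1 := Subgroup.mem_bot.1 (ha ▸ hker y (hy ▸ pow_orderOf_eq_one y))
    rw [h1, orderOf_one] at hy
    exact hp.ne_one hy.symm
  rcases hk with rfl | rfl
  · obtain rfl : b = 1 := by omega
    exact SmallEss.false_of_line hS hE hc f.range (hb.trans (pow_one p)) fun α _ => hRi α
  · rcases (show a = 1 ∨ a = 2 by omega) with rfl | rfl
    · obtain rfl : b = 2 := by omega
      refine false_of_series hS hE hc f.ker f.range ?_ (ha.trans (pow_one p)) hb hKi hRi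
      obtain ⟨y, hy⟩ := exists_prime_orderOf_dvd_card' (G := f.range) p (by rw [hb]; exact dvd_pow_self p two_ne_zero)
      have hy' : orderOf (y : E) = p := by rwa [Subgroup.orderOf_coe]
      have hle : Subgroup.zpowers (y : E) ≤ f.ker :=
        Subgroup.zpowers_le.2 (hker _ (hy' ▸ pow_orderOf_eq_one _))
      rw [← Subgroup.eq_of_le_of_card_ge hle (by rw [ha, pow_one, Nat.card_zpowers, hy'])]
      exact Subgroup.zpowers_le.2 y.2
    · obtain rfl : b = 1 := by omega
      refine false_of_series hS hE hc f.range f.ker (fun y hy => hker y ?_) (hb.trans (pow_one p)) ha hRi hKi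
      have h := congrArg Subtype.val (pow_card_eq_one' (x := (⟨y, hy⟩ : f.range)))
      rw [hb, pow_one] at h
      exact h

/-- A nonabelian essential subgroup of order `p³` has exponent `p`. -/
theorem exponent_of_nonabelian (hp2 : p ≠ 2) (hS : IsPGroup p S) (hE : F.IsEssential p E)
    (hc : Nat.card E = p ^ 3) (hex : Cfsg.IsExtraspecial p E) : ∀ x : E, x ^ p = 1 := by
  classical
  by_contra hne
  push Not at hne
  obtain ⟨x, hx⟩ := hne
  have hp := (Fact.out : p.Prime)
  have := finite_of_le (Ω := Ω) hE.2.1.1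
  have hcl := PGroup.special_class_two hex.1
  let f := PGroup.powHom hp hp2 hcl
    (PGroup.commutator_pow_eq_one hcl (PGroup.special_pow_mem_center hex.1))
  have hR : f.range = Subgroup.center E := by
    have hle : f.range ≤ Subgroup.center E := by
      rintro _ ⟨y, rfl⟩
      exact PGroup.special_pow_mem_center hex.1 y
    have hd := Subgroup.card_dvd_of_le hle
    rw [hex.2] at hd
    rcases (Nat.dvd_prime hp).1 hd with h | h
    · rw [Subgroup.card_eq_one] at h
      exact absurd (Subgroup.mem_bot.1 (h ▸ ⟨x, rfl⟩)) hx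
    · exact Subgroup.eq_of_le_of_card_ge hle (by rw [h, hex.2])
  have hK : Nat.card f.ker = p ^ 2 := by
    have h := f.ker.card_mul_index
    rw [Subgroup.index_ker, hR, hex.2, hc, pow_succ] at h
    exact Nat.eq_of_mul_eq_mul_right hp.pos h
  refine false_of_series hS hE hc (Subgroup.center E) f.ker
    (fun z hz => PGroup.special_center_pow hex.1 hz) hex.2 hK (fun α z hz => ?_) (fun α y hy => ?_)
  · refine Subgroup.mem_center_iff.2 fun g => ?_
    obtain ⟨g, rfl⟩ := α.surjective g
    rw [← map_mul, ← map_mul, Subgroup.mem_center_iff.1 hz g]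
  · show α y ^ p = 1
    rw [← map_pow, show y ^ p = 1 from hy, map_one]


/-- Let p ≥ 5 be a prime, S a finite p-group of maximal class of order p^n with n ≥ 5 (nilpotency class n − 1), F a saturated fusion system over S, and E an F-essential subgroup that is not a pearl (not elementary abelian of order p² and not extraspecial of order p³ and exponent p). Then E has order at least p⁴. -/
theorem result {Ω : Type*} [Group Ω] {S : Subgroup Ω} [Finite S] (p : ℕ) [Fact p.Prime] (hp : 5 ≤ p) (hS : IsPGroup p ↥S) (n : ℕ) (hn : Nat.card S = p ^ n) (h5 : 5 ≤ n)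
    (hmax : Subgroup.lowerCentralSeries S (n - 2) ≠ ⊥) (F : Cfsg.FusionSystem S) (hF : F.IsSaturated p)
    (E : Subgroup Ω) (hE : F.IsEssential p E)
    (hnp : ¬ ((Nat.card ↥E = p ^ 2 ∧ Cfsg.IsElementaryAbelian p E) ∨ (Nat.card ↥E = p ^ 3 ∧ Cfsg.IsExtraspecial p ↥E ∧ Monoid.exponent ↥E = p))) :
    p ^ 4 ≤ Nat.card ↥E := by
  classical
  have hp1 := (Fact.out : p.Prime)
  have hES : E ≤ S := hE.2.1.1
  have := finite_of_le (Ω := Ω) hES
  obtain ⟨k, hk⟩ := IsPGroup.iff_card.1 (hS.to_le hES)
  rcases Nat.lt_or_ge k 4 with hk4 | hk4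
  swap
  · rw [hk]; exact Nat.pow_le_pow_right hp1.pos hk4
  exfalso
  rcases Nat.lt_or_ge k 2 with hk1 | hk2
  · exact order_le_one hS hE (by omega) hk
  have helem : IsMulCommutative E → IsElementaryAbelian p E := fun hab =>
    ⟨hab, fun a ha => congrArg Subtype.val
      (exponent_of_abelian hS hE hab (show k = 2 ∨ k = 3 by omega) hk ⟨a, ha⟩)⟩
  rcases (show k = 2 ∨ k = 3 by omega) with rfl | rfl
  · exact hnp (Or.inl ⟨hk, helem (IsPGroup.isMulCommutative_of_card_eq_prime_sq hk)⟩)
  by_cases hab : IsMulCommutative E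
  · refine MaxClassRankThree.false_of_elementary hS hF hp h5 hn (fun h => hmax ?_) hE hk (helem hab)
    rw [← Subgroup.top_subtype_lowerCentralSeries, h, Subgroup.map_bot]
  have hex := S5239.extraspecial_of_card hk hab
  refine hnp (Or.inr ⟨hk, hex, ?_⟩)
  have hd : Monoid.exponent E ∣ p :=
    Monoid.exponent_dvd_of_forall_pow_eq_one (exponent_of_nonabelian (by omega) hS hE hk hex)
  rcases (Nat.dvd_prime hp1).1 hd with h1 | h1
  · have : Subsingleton E := Monoid.exp_eq_one_iff.1 h1
    have hc1 : Nat.card E = 1 := Nat.card_of_subsingleton 1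
    rw [hk] at hc1
    exact absurd hc1 (one_lt_pow₀ hp1.one_lt three_ne_zero).ne'
  · exact h1

end Cfsg.Agent.S5316
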