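import Cfsg.Statements.S5264
import Cfsg.Agent.S5265
import Cfsg.Agent.S5316
import Cfsg.Agent.Lib.Fusion.EssentialP4
import Cfsg.Agent.Lib.Fusion.AbIndexP.Core
import Cfsg.Agent.Lib.Fusion.OrderFive.Focal
import Cfsg.Agent.Lib.Fusion.OrderFive.Pearl
-- import your own Cfsg.Agent.* helpers here

set_option autoImplicit false
open Cfsg

namespace Cfsg.Agent.S5264

open Cfsg.Agent Cfsg.Agent.Fusion Cfsg.Agent.Fusion.Internal Cfsg.Agent.Fusion.OrderFive
open Cfsg.Agent.Fusion.AbIndexP Cfsg.FusionSystem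

variable {Ω : Type*} [Group Ω] {S : Subgroup Ω} [Finite S] {p : ℕ} [Fact p.Prime] {F : Cfsg.FusionSystem S}

theorem noChain (hS : IsPGroup p S) {R : Subgroup Ω} (hR : F.IsEssential p R)
    (hcard : Nat.card R = p ^ 4) : EssP4.NoChain p ↥R := by
  intro A B K hA hB hK hAB hBK hAi hBi hKi
  refine SmallEss.false_of_chain hS hR
    (fun i => match i with | 0 => ⊥ | 1 => A | 2 => B | 3 => K | _ => ⊤) 4 rfl rfl ?_ ?_ ?_
  · intro i hi
    interval_cases i
    exacts [bot_le, hAB, hBK, le_top]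
  · intro i hi
    interval_cases i
    · show Nat.card A ≤ p * Nat.card (⊥ : Subgroup R)
      rw [Subgroup.card_bot, mul_one, hA]
    · show Nat.card B ≤ p * Nat.card A
      rw [hB, hA, sq]
    · show Nat.card K ≤ p * Nat.card B
      rw [hK, hB, ← pow_succ']
    · show Nat.card (⊤ : Subgroup R) ≤ p * Nat.card K
      rw [Subgroup.card_top, hcard, hK, ← pow_succ']
  · intro i hi α _ x hx
    interval_cases i
    · rw [Subgroup.mem_bot.1 hx, map_one]
      exact Subgroup.mem_bot.2 rfl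
    · exact hAi α x hx
    · exact hBi α x hx
    · exact hKi α x hx
    · trivial

/-- An essential subgroup which moves the centre is elementary abelian of order `p²` or `p³`. -/
theorem shape_of_moved (hS : IsPGroup p S) (hF : F.IsSaturated p) (hcard : Nat.card S = p ^ 5)
    (noab : ∀ A : Subgroup ↥S, (∀ a ∈ A, ∀ b ∈ A, a * b = b * a) → Nat.card A < p ^ 4)
    (hZ2 : Nat.card (Subgroup.center ↥S) ≤ p ^ 2) {R : Subgroup Ω} (hR : F.IsEssential p R)
    (hRS : R ≠ S) {α : MulAut R} {b : R} (hb : (b : Ω) ∈ Zs S) (hαb : ((α b : R) : Ω) ∉ Zs S) :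
    ((∀ x : R, ∀ y : R, x * y = y * x) ∧ (∀ x : R, x ^ p = 1)) ∧
      (Nat.card R = p ^ 2 ∨ Nat.card R = p ^ 3) := by
  have hp := (Fact.out : p.Prime)
  have hRle : R ≤ S := hR.1.1
  have hfin : Finite R := finite_of_le (Ω := Ω) hRle
  have hRp : IsPGroup p R := hS.to_le hRle
  have hS5 : IsPGroup p ↥S := hS
  have : Nontrivial ↥S := Finite.one_lt_card_iff_nontrivial.1 (by
    rw [hcard]; exact Nat.one_lt_pow (by norm_num) hp.one_lt)
  have hZR : Zs S ≤ R := le_of_centric hR.1
  set Z₀ := (Zs S).subgroupOf R with hZ₀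
  have hZ₀c : Nat.card Z₀ = Nat.card (Subgroup.center ↥S) := by
    rw [Nat.card_congr (Subgroup.subgroupOfEquivOfLe hZR).toEquiv, Zs_eq,
      Subgroup.card_map_of_injective S.subtype_injective]
  have hZ₀le : Z₀ ≤ Subgroup.center ↥R := fun z hz =>
    Subgroup.mem_center_iff.2 fun g => Subtype.ext ((mem_Zs.1 hz).2 g (hRle g.2))
  have hno : ∀ A : Subgroup R, EssP4.AutInv A → A ≠ Z₀ := fun A hA h =>
    hαb (show α b ∈ Z₀ from h ▸ hA α b (h.symm ▸ hb))
  have hZpos : 1 < Nat.card (Subgroup.center ↥S) := by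
    haveI := hS5.center_nontrivial
    exact Finite.one_lt_card
  obtain ⟨k, hk⟩ := IsPGroup.iff_card.1 hRp
  have hlt : Nat.card R < p ^ 5 := by
    rw [← hcard]
    exact card_lt_of_lt le_rfl (lt_of_le_of_ne hRle hRS)
  have hk5 : k < 5 := (Nat.pow_lt_pow_iff_right hp.one_lt).1 (hk ▸ hlt)
  interval_cases k
  · exact (S5316.order_le_one hS hR zero_le_one hk).elim
  · exact (S5316.order_le_one hS hR le_rfl hk).elim
  · have hab : IsMulCommutative R := ⟨⟨(IsPGroup.commGroupOfCardEqPrimeSq hk).mul_comm⟩⟩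
    exact ⟨⟨hab.is_comm.comm, S5316.exponent_of_abelian hS hR hab (Or.inl rfl) hk⟩, Or.inl hk⟩
  · by_cases hab : IsMulCommutative R
    · exact ⟨⟨hab.is_comm.comm, S5316.exponent_of_abelian hS hR hab (Or.inr rfl) hk⟩, Or.inr hk⟩
    · exfalso
      have hRt : Nat.card (R.subgroupOf S) = p ^ 3 := by
        rw [Nat.card_congr (Subgroup.subgroupOfEquivOfLe hRle).toEquiv, hk]
      have hna : ¬ IsMulCommutative ↥(R.subgroupOf S) := fun h => hab ⟨⟨fun a c => Subtype.ext
        (congrArg (fun t : ↥(R.subgroupOf S) => ((t : ↥S) : Ω))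
          (h.is_comm.comm ⟨⟨a, hRle a.2⟩, a.2⟩ ⟨⟨c, hRle c.2⟩, c.2⟩) :)⟩⟩
      have hc := Pearl.card_center_extraspecial hS5 hRt hna
      rw [Nat.card_congr (Subgroup.centerCongr (Subgroup.subgroupOfEquivOfLe hRle)).toEquiv] at hc
      exact hno _ EssP4.autInv_center (Subgroup.eq_of_le_of_card_ge hZ₀le (by
        rw [hc, hZ₀c]
        obtain ⟨i, hi⟩ := PGroup.card_eq_pow hS5 (Subgroup.center ↥S)
        rw [hi] at hZpos ⊢
        exact Nat.le_self_pow (fun h => by rw [h] at hZpos; simp at hZpos) p)).symm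
  · by_cases hab : IsMulCommutative R
    · exfalso
      refine (noab (R.subgroupOf S) fun a ha c hc => Subtype.ext ?_).ne ?_
      · exact (congrArg Subtype.val (hab.is_comm.comm (⟨(a : Ω), ha⟩ : ↥R) ⟨(c : Ω), hc⟩) :)
      · rw [Nat.card_congr (Subgroup.subgroupOfEquivOfLe hRle).toEquiv, hk]
    exfalso
    rcases EssP4.card_center_cases hk hab with h1 | h2
    · exact EssP4.false_of_center_prime hk hab (noChain hS hR hk) h1
    obtain ⟨i, hi⟩ := PGroup.card_eq_pow hS5 (Subgroup.center ↥S)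
    rw [hi] at hZpos hZ2
    have hi2 : i ≤ 2 := (Nat.pow_le_pow_iff_right hp.one_lt).1 hZ2
    obtain rfl | rfl : i = 2 ∨ i = 1 := by
      rcases i with _ | _ | _ | i
      · simp at hZpos
      all_goals omega
    · exact hno _ EssP4.autInv_center
        (Subgroup.eq_of_le_of_card_ge hZ₀le (by rw [h2, hZ₀c, hi])).symm
    obtain ⟨-, -, hcomm, -⟩ := EssP4.structure_of_center_sq hk hab h2
    set R' := R.subgroupOf S with hR'
    have hR'n : R'.Normal := PGroup.normal_of_index_eq hS5 (by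
      have h3 := R'.card_mul_index
      rw [hR', Nat.card_congr (Subgroup.subgroupOfEquivOfLe hRle).toEquiv, hk, hcard, pow_succ p 4] at h3
      exact Nat.eq_of_mul_eq_mul_left (pow_pos hp.pos 4) h3)
    set N := ⁅R', R'⁆ with hN
    have hmap : N.map S.subtype = (commutator ↥R).map R.subtype := by
      rw [hN, Subgroup.map_commutator, hR', Subgroup.map_subgroupOf_eq_of_le hRle,
        Subgroup.map_subtype_commutator]
    have hNc : Nat.card N = p := by
      rw [← Subgroup.card_map_of_injective S.subtype_injective, hmap,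
        Subgroup.card_map_of_injective R.subtype_injective, hcomm]
    have hle : N ≤ Subgroup.center ↥S := by
      have h1 := PGroup.inf_center_ne_bot hS5 N fun h => by
        rw [h, Subgroup.card_bot] at hNc; exact hp.ne_one hNc.symm
      have h3 : Nat.card ↥(N ⊓ Subgroup.center ↥S) ∣ p := hNc ▸ Subgroup.card_dvd_of_le inf_le_left
      rcases (Nat.dvd_prime hp).1 h3 with h | h
      · exact absurd (Subgroup.card_eq_one.1 h) h1
      · exact inf_eq_left.1 (Subgroup.eq_of_le_of_card_ge inf_le_left (by rw [h, hNc]))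
    refine hno _ EssP4.autInv_commutator (Subgroup.eq_of_le_of_card_ge ?_ (by rw [hZ₀c, hi, pow_one, hcomm]))
    intro z hz
    show (z : Ω) ∈ Zs S
    obtain ⟨w, hw, hwz⟩ := hmap.ge ⟨z, hz, rfl⟩
    rw [Zs_eq]
    exact ⟨w, hle hw, hwz⟩

/-- Let p be an odd prime other than 7, S a finite p-group of order p^5, and F a saturated fusion system over S with no nontrivial normal subgroup and with hyperfocal subgroup equal to S (so F is its own p-residual subsystem). Then S has an abelian subgroup of index p. -/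
theorem result {Ω : Type*} [Group Ω] {S : Subgroup Ω} [Finite S] (p : ℕ) [Fact p.Prime] (hS : IsPGroup p ↥S) (F : Cfsg.FusionSystem S) (hF : F.IsSaturated p) (hp : p ≠ 2) (hp7 : p ≠ 7) (hcard : Nat.card S = p ^ 5) (hcore : F.core = ⊥) (hhyp : F.hyperfocalSubgroup p = S) : ∃ A : Subgroup Ω, A ≤ S ∧ IsMulCommutative ↥A ∧ (A.subgroupOf S).index = p := by
  classical
  by_contra hcon
  have hpr := (Fact.out : p.Prime)
  have hS1 : S ≠ ⊥ := fun h => by
    subst h
    rw [Subgroup.card_bot] at hcard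
    exact (Nat.one_lt_pow (by norm_num) hpr.one_lt).ne hcard
  have hZidx : ¬ (Subgroup.center ↥S).index ≤ p ^ 2 := fun h => by
    have h1 := (Cfsg.Agent.S5265.result p hS F hF hS1 hcore hhyp h).2.1
    rw [hcard] at h1
    have := Nat.pow_right_injective hpr.two_le h1
    omega
  have hZ2 : Nat.card (Subgroup.center ↥S) ≤ p ^ 2 := by
    obtain ⟨i, hi⟩ := PGroup.card_eq_pow hS (Subgroup.center ↥S)
    have h := (Subgroup.center ↥S).card_mul_index
    rw [hi, hcard] at h
    rw [hi]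
    refine Nat.pow_le_pow_right hpr.pos ?_
    by_contra hi3
    push Not at hi3
    refine hZidx (Nat.le_of_mul_le_mul_left ?_ (pow_pos hpr.pos i))
    rw [h, ← pow_add]
    exact Nat.pow_le_pow_right hpr.pos (by omega)
  have noab : ∀ A : Subgroup ↥S, (∀ a ∈ A, ∀ b ∈ A, a * b = b * a) → Nat.card A < p ^ 4 := by
    intro A hA
    by_contra hle
    push Not at hle
    obtain ⟨i, hi⟩ := PGroup.card_eq_pow hS A
    rw [hi] at hle
    have hi4 := (Nat.pow_le_pow_iff_right hpr.one_lt).1 hle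
    have hmul := A.card_mul_index
    rw [hi, hcard] at hmul
    have hi5 : i ≤ 5 := (Nat.pow_dvd_pow_iff_le_right hpr.one_lt).1 (Dvd.intro _ hmul)
    obtain rfl | rfl : i = 4 ∨ i = 5 := by omega
    · refine hcon ⟨A.map S.subtype, Subgroup.map_subtype_le A, ⟨⟨?_⟩⟩, ?_⟩
      · rintro ⟨_, a, ha, rfl⟩ ⟨_, b, hb, rfl⟩
        exact Subtype.ext (congrArg Subtype.val (hA a ha b hb) :)
      · rw [Subgroup.subgroupOf, Subgroup.comap_map_eq_self_of_injective S.subtype_injective]
        exact Nat.eq_of_mul_eq_mul_left (pow_pos hpr.pos 4) (hmul.trans (pow_succ p 4))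
    · have hAtop : A = ⊤ := Subgroup.eq_top_of_card_eq A (by rw [hi, hcard])
      refine hZidx ?_
      rw [Subgroup.index_eq_one.2 (top_unique fun z _ => Subgroup.mem_center_iff.2 fun g =>
        hA g (hAtop ▸ Subgroup.mem_top g) z (hAtop ▸ Subgroup.mem_top z))]
      exact Nat.one_le_pow _ _ hpr.pos
  -- some essential subgroup moves the centre
  have hmove : ¬ ∀ R : Subgroup Ω, R = S ∨ F.IsEssential p R → ∀ α ∈ F.autGroup R, ∀ b : R,
      (b : Ω) ∈ Zs S → ((α b : R) : Ω) ∈ Zs S := by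
    intro h
    refine core_ne_bot_iff.2 ⟨Zs S, fun h0 => ?_, isNormal_of_essentials hS hF le_rfl h⟩ hcore
    have : Nontrivial ↥S := Finite.one_lt_card_iff_nontrivial.1 (by
      rw [hcard]; exact Nat.one_lt_pow (by norm_num) hpr.one_lt)
    haveI := hS.center_nontrivial
    rw [Zs_eq, Subgroup.map_eq_bot_iff_of_injective _ S.subtype_injective] at h0
    exact (Subgroup.nontrivial_iff_ne_bot _).1 inferInstance h0
  push Not at hmove
  obtain ⟨R, hR, α, hα, b, hb, hαb⟩ := hmove
  have hRS : R ≠ S := by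
    rintro rfl
    refine hαb (mem_Zs.2 ⟨(α b).2, fun g hg => ?_⟩)
    obtain ⟨y, hy⟩ := α.surjective ⟨g, hg⟩
    have h1 : y * b = b * y := Subtype.ext ((mem_Zs.1 hb).2 y y.2)
    have h2 := congrArg α h1
    rw [map_mul, map_mul, hy] at h2
    exact congrArg Subtype.val h2
  obtain hR := hR.resolve_left hRS
  obtain ⟨⟨hcommR, hpowR⟩, hk⟩ := shape_of_moved hS hF hcard noab hZ2 hR hRS hb hαb
  set E := R.subgroupOf S with hE
  have hup : up E = R := Subgroup.map_subgroupOf_eq_of_le hR.1.1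
  have hess : F.IsEssential p (up E) := hup ▸ hR
  have hEc : Nat.card E = Nat.card R := by
    rw [hE, Nat.card_congr (Subgroup.subgroupOfEquivOfLe hR.1.1).toEquiv]
  have hpowE : ∀ a ∈ E, a ^ p = 1 := fun a ha => Subtype.ext
    (congrArg Subtype.val (hpowR ⟨(a : Ω), ha⟩) :)
  have hselfE : Subgroup.centralizer (E : Set ↥S) ≤ E := fun g hg =>
    coe_mem_up.1 (hess.1.2 _ (isConj_refl F (up_le E)) (by rw [centralizerIn_up]; exact coe_mem_up.2 hg))
  rcases hk with h2 | h3
  · have hs : Sq p F E := ⟨hS, hF, hp, hcard, noab, hess, hEc.trans h2, hpowE, hselfE⟩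
    obtain ⟨rfl, hfix, hW⟩ := hs.result hp7
    exact false_of_hasFixedCoset hS hF hW hfix hhyp
  · have hs : Setup p F E := ⟨hS, hF, hp, hcard, noab, hess, hEc.trans h3,
      fun a ha c hc => Subtype.ext (congrArg Subtype.val (hcommR ⟨(a : Ω), ha⟩ ⟨(c : Ω), hc⟩) :),
      hpowE, hselfE⟩
    obtain ⟨hp3, hfix, c, hc, hcp, hclass⟩ := hs.result
    exact false_of_hasFixedCoset hS hF (no_wreath_of_class hp3 hcard hcp hc hclass) hfix hhyp

end Cfsg.Agent.S5264
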