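import Cfsg.Statements.S5270
import Cfsg.Agent.Lib.Fusion.MaxClassBasics
import Cfsg.Agent.Lib.Fusion.Saturated
-- import your own Cfsg.Agent.* helpers here

set_option autoImplicit false
open Cfsg
open scoped commutatorElement

namespace Cfsg.Agent.S5270

/-- Let p ≥ 5 be a prime, S a finite p-group of maximal class of order p^n with n ≥ 4, and F a saturated fusion system over S. If some map of F defined on the second centre Z₂(S) with image Z₂(S) does not carry Z(S) into itself, then the centralizer C_S(Z₂(S)) is an F-essential subgroup. -/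
theorem result {Ω : Type*} [Group Ω] {S : Subgroup Ω} [Finite S] (p : ℕ) [Fact p.Prime] (hS : IsPGroup p ↥S) (n : ℕ) (hn : Nat.card S = p ^ n) (h4 : 4 ≤ n) (hmax : Subgroup.lowerCentralSeries S (n - 2) ≠ ⊥) (F : Cfsg.FusionSystem S) (hF : F.IsSaturated p) (hp : 5 ≤ p) (φ : ↥((Subgroup.upperCentralSeries ↥S 2).map S.subtype) →* Ω) (hφ : φ ∈ F.Hom ((Subgroup.upperCentralSeries ↥S 2).map S.subtype)) (hφZ : φ.range = ((Subgroup.upperCentralSeries ↥S 2).map S.subtype)) (hmove : ∃ (z : Ω) (hz : z ∈ ((Subgroup.upperCentralSeries ↥S 2).map S.subtype)), z ∈ ((Subgroup.center ↥S).map S.subtype) ∧ φ ⟨z, hz⟩ ∉ ((Subgroup.center ↥S).map S.subtype)) : F.IsEssential p (S ⊓ Subgroup.centralizer (((Subgroup.upperCentralSeries ↥S 2).map S.subtype) : Set Ω)) := by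
  classical
  have hG : IsPGroup p ↥S := hS
  have hmaxG : (⊤ : Subgroup ↥S).lowerCentralSeries (n - 2) ≠ ⊥ := fun h => hmax (by
    rw [← Subgroup.top_subtype_lowerCentralSeries, h, Subgroup.map_bot])
  have h2 : Nat.card ↥(Subgroup.upperCentralSeries ↥S 2) = p ^ 2 :=
    Fusion.card_upperCentralSeries hG hn (by omega) hmaxG (by omega)
  have hZc : Nat.card ↥(Subgroup.center ↥S) = p :=
    Fusion.card_center_of_maxClass hG hn (by omega) hmaxG
  generalize hZ2 : (Subgroup.upperCentralSeries ↥S 2).map S.subtype = Z2 at φ hφ hφZ hmove ⊢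
  set C : Subgroup Ω := S ⊓ Subgroup.centralizer (Z2 : Set Ω) with hC
  have hCS : C ≤ S := inf_le_left
  have hZ2S : Z2 ≤ S := hZ2 ▸ Subgroup.map_subtype_le _
  have h2Ω : Nat.card ↥Z2 = p ^ 2 :=
    hZ2 ▸ (Subgroup.card_map_of_injective S.subtype_injective).trans h2
  have hcomm : ∀ x ∈ Z2, ∀ y ∈ Z2, x * y = y * x := fun x hx y hy =>
    congrArg Subtype.val ((IsPGroup.isMulCommutative_of_card_eq_prime_sq h2Ω).is_comm.comm ⟨x, hx⟩ ⟨y, hy⟩)
  have hZ2C : Z2 ≤ C := fun x hx =>
    ⟨hZ2S hx, fun y hy => hcomm y hy x hx⟩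
  have := Fusion.finite_of_le hCS
  have := Fusion.finite_of_le hZ2S
  -- `C` has index `p`
  obtain ⟨u, hu2, huZ⟩ : ∃ u ∈ Subgroup.upperCentralSeries ↥S 2, u ∉ Subgroup.center ↥S := by
    refine SetLike.exists_of_lt ?_
    have := Fusion.upperCentralSeries_lt_succ hG (i := 1) (fun h => by
      rw [Subgroup.upperCentralSeries_one] at h
      rw [h, Subgroup.card_top, hn] at hZc
      nth_rewrite 2 [← pow_one p] at hZc
      exact absurd (Nat.pow_right_injective (Fact.out : p.Prime).two_le hZc) (by omega))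
    rwa [Subgroup.upperCentralSeries_one] at this
  have hcen : ∀ x : ↥S, ⁅x, u⁆ ∈ Subgroup.center ↥S := fun x => by
    have h := Subgroup.mem_upperCentralSeries_succ_iff.1 hu2 x
    rw [Subgroup.upperCentralSeries_one] at h
    rw [← commutatorElement_inv]
    exact Subgroup.inv_mem _ h
  let β : ↥S →* ↥(Subgroup.center ↥S) := MonoidHom.mk' (fun x => ⟨⁅x, u⁆, hcen x⟩) (fun x y => by
    refine Subtype.ext ?_
    show ⁅x * y, u⁆ = ⁅x, u⁆ * ⁅y, u⁆
    have h := Subgroup.mem_center_iff.1 (hcen y) x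
    calc ⁅x * y, u⁆ = (x * ⁅y, u⁆) * (u * x⁻¹ * u⁻¹) := by simp only [commutatorElement_def]; group
      _ = ⁅y, u⁆ * ⁅x, u⁆ := by rw [h]; simp only [commutatorElement_def]; group
      _ = _ := (Subgroup.mem_center_iff.1 (hcen y) _).symm)
  have hker : β.ker = C.subgroupOf S := by
    ext x
    have hsplit : Subgroup.upperCentralSeries ↥S 2 =
        Subgroup.center ↥S ⊔ Subgroup.zpowers u := by
      refine (Subgroup.eq_of_le_of_card_ge (sup_le ?_ ((Subgroup.zpowers_le).2 hu2)) ?_).symm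
      · rw [← Subgroup.upperCentralSeries_one]
        exact Subgroup.upperCentralSeries_mono _ one_le_two
      · have h := PGroup.mul_card_le_card hG (lt_of_le_of_ne (le_sup_left :
          Subgroup.center ↥S ≤ Subgroup.center ↥S ⊔ Subgroup.zpowers u)
          fun he => huZ (he ▸ Subgroup.mem_sup_right (Subgroup.mem_zpowers u)))
        rw [hZc] at h
        rw [h2, sq]
        exact h
    constructor
    · intro hx
      have hxu : x ∈ Subgroup.centralizer ({u} : Set ↥S) :=
        Subgroup.mem_centralizer_singleton_iff.2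
          (commutatorElement_eq_one_iff_mul_comm.1 (congrArg Subtype.val (MonoidHom.mem_ker.1 hx)))
      refine ⟨x.2, ?_⟩
      intro w hw
      obtain ⟨z, hz, rfl⟩ : w ∈ (Subgroup.upperCentralSeries ↥S 2).map S.subtype := hZ2 ▸ hw
      have hle : Subgroup.upperCentralSeries ↥S 2 ≤ Subgroup.centralizer ({x} : Set ↥S) := by
        rw [hsplit]
        refine sup_le (fun c hc => ?_) ((Subgroup.zpowers_le).2 ?_)
        · exact Subgroup.mem_centralizer_singleton_iff.2 (Subgroup.mem_center_iff.1 hc x).symm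
        · exact Subgroup.mem_centralizer_singleton_iff.2
            (Subgroup.mem_centralizer_singleton_iff.1 hxu).symm
      exact congrArg Subtype.val (Subgroup.mem_centralizer_singleton_iff.1 (hle hz))
    · intro hx
      refine MonoidHom.mem_ker.2 (Subtype.ext ?_)
      show ⁅x, u⁆ = 1
      rw [commutatorElement_eq_one_iff_mul_comm]
      exact Subtype.ext (hx.2 _ (hZ2 ▸ ⟨u, hu2, rfl⟩)).symm
  have hidx : (C.subgroupOf S).index = p := by
    have hdvd : (C.subgroupOf S).index ∣ p := by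
      rw [← hker, Subgroup.index_ker]
      have := Subgroup.card_subgroup_dvd_card β.range
      rwa [hZc] at this
    rcases (Nat.dvd_prime Fact.out).1 hdvd with h1 | h1
    · rw [Subgroup.index_eq_one, ← hker] at h1
      refine absurd (Subgroup.mem_center_iff.2 fun x => ?_) huZ
      have := congrArg Subtype.val (MonoidHom.mem_ker.1 (h1.ge (Subgroup.mem_top x)))
      exact commutatorElement_eq_one_iff_mul_comm.1 this
    · exact h1
  have hnorm : (C.subgroupOf S).Normal := PGroup.normal_of_index_eq hG hidx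
  have hgN : ∀ g ∈ S, g ∈ Subgroup.normalizer (C : Set Ω) := by
    intro g hg
    refine Subgroup.mem_normalizer_iff.2 fun x => ⟨fun hx => ?_, fun hx => ?_⟩
    · exact (hnorm.conj_mem ⟨x, hCS hx⟩ hx ⟨g, hg⟩ : _)
    · have hxS : x ∈ S := by
        have := S.mul_mem (S.mul_mem (S.inv_mem hg) (hCS hx)) hg
        simpa [mul_assoc] using this
      have h := hnorm.conj_mem' ⟨g * x * g⁻¹, hCS hx⟩ hx ⟨g, hg⟩
      have he : (⟨g, hg⟩⁻¹ * ⟨g * x * g⁻¹, hCS hx⟩ * ⟨g, hg⟩ : ↥S) = ⟨x, hxS⟩ :=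
        Subtype.ext (by push_cast; group)
      rwa [he] at h
  have hNS : FusionSystem.normalizerIn S C = S :=
    le_antisymm (Fusion.normalizerIn_le S C) fun g hg => ⟨hg, hgN g hg⟩
  -- centric
  have hcentric : F.IsCentric C := by
    refine ⟨hCS, fun Q hQ g hg => ?_⟩
    obtain ⟨χ, hχ, hr⟩ := hQ
    by_contra hgQ
    have hQS : Q ≤ S := hr ▸ Fusion.range_le hχ
    have hQi : (Q.subgroupOf S).index = p := by
      have h1 := Subgroup.card_mul_index (Q.subgroupOf S)
      have h3 := Subgroup.card_mul_index (C.subgroupOf S)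
      rw [Nat.card_congr (Subgroup.subgroupOfEquivOfLe hQS).toEquiv] at h1
      rw [Nat.card_congr (Subgroup.subgroupOfEquivOfLe hCS).toEquiv, hidx, ← h1,
        ← hr, Fusion.card_range hχ] at h3
      rw [← hr]
      exact (Nat.eq_of_mul_eq_mul_left Nat.card_pos h3).symm
    have htop : (Q.subgroupOf S) ⊔ Subgroup.zpowers ⟨g, hg.1⟩ = ⊤ :=
      (PGroup.isCoatom_of_index_eq hQi).2 _ (lt_of_le_of_ne le_sup_left fun he =>
        hgQ ((he ▸ Subgroup.mem_sup_right (Subgroup.mem_zpowers _) :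
          (⟨g, hg.1⟩ : ↥S) ∈ Q.subgroupOf S)))
    have hmem : ∀ z : ↥Z2, χ (Subgroup.inclusion hZ2C z) ∈ (Subgroup.center ↥S).map S.subtype := by
      intro z
      set w := χ (Subgroup.inclusion hZ2C z) with hw
      have hwQ : w ∈ Q := hr ▸ ⟨_, rfl⟩
      refine ⟨⟨w, hQS hwQ⟩, Subgroup.mem_center_iff.2 fun x => ?_, rfl⟩
      have hle : (⊤ : Subgroup ↥S) ≤ Subgroup.centralizer ({⟨w, hQS hwQ⟩} : Set ↥S) := by
        rw [← htop]
        refine sup_le (fun y hy => ?_) ((Subgroup.zpowers_le).2 ?_)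
        · refine Subgroup.mem_centralizer_singleton_iff.2 (Subtype.ext ?_)
          obtain ⟨c, hc⟩ := hr.ge hy
          show (y : Ω) * w = w * (y : Ω)
          rw [show (y : Ω) = χ c from hc.symm, hw, ← map_mul, ← map_mul]
          exact congrArg χ (Subtype.ext (c.2.2 _ z.2).symm)
        · refine Subgroup.mem_centralizer_singleton_iff.2 (Subtype.ext ?_)
          exact (hg.2 w hwQ).symm
      exact Subgroup.mem_centralizer_singleton_iff.1 (hle (Subgroup.mem_top x))
    have : Finite ↥((Subgroup.center ↥S).map S.subtype) :=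
      Fusion.finite_of_le (Subgroup.map_subtype_le _)
    have hle := Nat.card_le_card_of_injective
      (fun z : ↥Z2 => (⟨_, hmem z⟩ : ↥((Subgroup.center ↥S).map S.subtype)))
      (fun a b hab => Subgroup.inclusion_injective hZ2C
        (F.injective_of_mem hχ (congrArg Subtype.val hab)))
    rw [h2Ω, Subgroup.card_map_of_injective S.subtype_injective, hZc] at hle
    have := (Fact.out : p.Prime).two_le
    nlinarith
  have hfn : F.IsFullyNormalized C := by
    refine ⟨hCS, fun Q _ => ?_⟩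
    rw [hNS]
    exact Subgroup.card_le_of_le (Fusion.normalizerIn_le S Q)
  have hfn2 : F.IsFullyNormalized Z2 := by
    have hN2 : FusionSystem.normalizerIn S Z2 = S := by
      refine le_antisymm (Fusion.normalizerIn_le S Z2) fun g hg => ⟨hg, ?_⟩
      refine (Subgroup.normal_subgroupOf_iff_le_normalizer hZ2S).1 ?_ hg
      rw [← hZ2, Subgroup.subgroupOf, Subgroup.comap_map_eq_self_of_injective S.subtype_injective]
      infer_instance
    refine ⟨hZ2S, fun Q _ => ?_⟩
    rw [hN2]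
    exact Subgroup.card_le_of_le (Fusion.normalizerIn_le S Q)
  obtain ⟨-, T, hT⟩ := Fusion.isFullyAutomized_of_fullyNormalized hS hF hfn
  -- the extension of `φ` to `C`
  obtain ⟨φ', hφ', hφ'e⟩ := Fusion.exists_extension
    (Fusion.isReceptive_of_fullyNormalized hS hF hfn2) hφ hφZ
    (N := C) (Fusion.centralizerIn_le_extender φ)
  have hφ'C : ∀ x : ↥C, φ' x ∈ C := by
    intro x
    refine ⟨Fusion.apply_mem hφ' x, fun y hy => ?_⟩
    obtain ⟨z, rfl⟩ := hφZ.ge hy
    rw [← hφ'e z z.2 (hZ2C z.2), ← map_mul, ← map_mul]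
    exact congrArg φ' (Subtype.ext (x.2.2 z z.2))
  have hrC : φ'.range = C := Fusion.range_eq_of_le hφ' hCS hφ'C le_rfl
  let α : ↥(F.autGroup C) := ⟨Fusion.toAut hφ' hrC, Fusion.toAut_mem hφ' hrC⟩
  have hα : ¬ ∀ t ∈ (T : Subgroup (F.autGroup C)), α * t * α⁻¹ ∈ (T : Subgroup (F.autGroup C)) := by
    intro hnormT
    have hext : S ≤ FusionSystem.extender S C φ' := by
      intro g hg
      have ht : (⟨Fusion.conjAut (hgN g hg), Fusion.autInducedBy_le_autGroup F hCS
          (Fusion.conjAut_mem_autInducedBy hg (hgN g hg))⟩ : ↥(F.autGroup C)) ∈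
          (T : Subgroup (F.autGroup C)) := by
        rw [hT]
        exact Fusion.conjAut_mem_autInducedBy hg (hgN g hg)
      have h' := hnormT _ ht
      rw [hT, Subgroup.mem_subgroupOf] at h'
      obtain ⟨k, hk, hkx⟩ := Fusion.mem_autInducedBy_iff.1 h'
      refine Fusion.mem_extender_iff.2 ⟨hg, hgN g hg, k, hk, fun x hx => ?_⟩
      have h3 := hkx (Fusion.toAut hφ' hrC x)
      simp only [Subgroup.coe_mul, Subgroup.coe_inv, MulAut.mul_apply, α,
        MulAut.inv_apply_self] at h3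
      exact h3
    obtain ⟨ψ, hψ, hψe⟩ := Fusion.exists_extension
      (Fusion.isReceptive_of_fullyNormalized hS hF hfn) hφ' hrC hext
    have hψr : ψ.range = S := Fusion.range_eq_of_le hψ le_rfl (Fusion.apply_mem hψ) le_rfl
    obtain ⟨z, hz, hzc, hzn⟩ := hmove
    apply hzn
    rw [← hφ'e z hz (hZ2C hz), ← hψe z (hZ2C hz) (hZ2S hz)]
    refine ⟨⟨ψ ⟨z, hZ2S hz⟩, Fusion.apply_mem hψ _⟩, Subgroup.mem_center_iff.2 fun x => ?_, rfl⟩
    obtain ⟨y, hy⟩ := hψr.ge x.2
    refine Subtype.ext ?_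
    show (x : Ω) * ψ ⟨z, hZ2S hz⟩ = ψ ⟨z, hZ2S hz⟩ * (x : Ω)
    obtain ⟨c, hc, hcz⟩ := hzc
    rw [← hy, ← map_mul, ← map_mul, show (⟨z, hZ2S hz⟩ : ↥S) = c from Subtype.ext hcz.symm,
      Subgroup.mem_center_iff.1 hc y]
  -- the outer automorphism group
  refine ⟨hcentric, hfn, ?_⟩
  have hI : ((Inn ↥C).subgroupOf (F.autGroup C)).Normal := by
    constructor
    rintro a ⟨c, hc⟩ b
    refine ⟨(b : MulAut ↥C) c, ?_⟩
    refine MulEquiv.ext fun x => ?_
    simp only [Subgroup.coe_subtype, Subgroup.coe_mul, Subgroup.coe_inv, MulAut.mul_apply]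
    rw [show (F.autGroup C).subtype a = (a : MulAut ↥C) from rfl] at hc
    rw [← hc]
    simp [MulAut.conj_apply]
  refine ⟨hI, ?_⟩
  set I := (Inn ↥C).subgroupOf (F.autGroup C) with hIdef
  let π := QuotientGroup.mk' I
  have hπ : Function.Surjective π := QuotientGroup.mk'_surjective I
  let T' := T.mapSurjective hπ
  have hIT : I ≤ (T : Subgroup (F.autGroup C)) := by
    rw [hT, hIdef]
    exact fun a ha => Fusion.inn_le_autInducedBy hCS ha
  have hTcard : Nat.card ↥(T' : Subgroup (↥(F.autGroup C) ⧸ I)) = p := by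
    let cj : ↥S →* ↥(F.autGroup C) := MonoidHom.codRestrict
      (C.normalizerMonoidHom.comp (Subgroup.inclusion hgN)) _ fun g =>
        Fusion.autInducedBy_le_autGroup F hCS (Fusion.conjAut_mem_autInducedBy g.2 (hgN g g.2))
    have hr : (π.comp cj).range = (T' : Subgroup (↥(F.autGroup C) ⧸ I)) := by
      rw [MonoidHom.range_comp, Sylow.coe_mapSurjective]
      congr 1
      rw [hT]
      ext a
      constructor
      · rintro ⟨g, rfl⟩
        exact Fusion.conjAut_mem_autInducedBy g.2 (hgN g g.2)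
      · intro ha
        obtain ⟨g, hg, hx⟩ := Fusion.mem_autInducedBy_iff.1 ha
        exact ⟨⟨g, hg⟩, Subtype.ext (MulEquiv.ext fun x => Subtype.ext (hx x).symm)⟩
    have hk : (π.comp cj).ker = C.subgroupOf S := by
      ext g
      constructor
      · intro hgk
        obtain ⟨c, hc⟩ := (QuotientGroup.eq_one_iff _).1 (MonoidHom.mem_ker.1 hgk)
        have hcc : (c : Ω)⁻¹ * g ∈ FusionSystem.centralizerIn S C := by
          refine Fusion.mem_centralizerIn.2 ⟨S.mul_mem (S.inv_mem (hCS c.2)) g.2, fun x hx => ?_⟩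
          have h := congrArg (fun a : MulAut ↥C => ((a ⟨x, hx⟩ : ↥C) : Ω)) hc
          have h' : (c : Ω) * x * (c : Ω)⁻¹ = g * x * (g : Ω)⁻¹ := h
          calc x * ((c : Ω)⁻¹ * g) = (c : Ω)⁻¹ * ((c : Ω) * x * (c : Ω)⁻¹) * g := by group
            _ = _ := by rw [h']; group
        have := C.mul_mem c.2 (hcentric.2 C (Fusion.isConj_refl F hCS) hcc)
        simpa [Subgroup.mem_subgroupOf] using this
      · intro hgC
        refine MonoidHom.mem_ker.2 ((QuotientGroup.eq_one_iff _).2 ⟨⟨g, hgC⟩, ?_⟩)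
        exact MulEquiv.ext fun x => rfl
    rw [← hr, ← Subgroup.index_ker, hk, hidx]
  refine ⟨Subgroup.normalizer ((T' : Subgroup (↥(F.autGroup C) ⧸ I)) : Set (↥(F.autGroup C) ⧸ I)),
    ?_, ?_, T', ?_⟩
  · exact hTcard ▸ Subgroup.card_subgroup_dvd_card (T' : Subgroup (↥(F.autGroup C) ⧸ I))
  · intro htop
    refine hα fun t ht => ?_
    have hmem : π α ∈ Subgroup.normalizer ((T' : Subgroup (↥(F.autGroup C) ⧸ I)) : Set (↥(F.autGroup C) ⧸ I)) := htop ▸ Subgroup.mem_top _
    have h := (Subgroup.mem_normalizer_iff.1 hmem (π t)).1 ⟨t, ht, rfl⟩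
    rw [← map_inv, ← map_mul, ← map_mul] at h
    obtain ⟨t', ht', he⟩ := h
    have hI' : t'⁻¹ * (α * t * α⁻¹) ∈ I := QuotientGroup.eq.1 he
    simpa using (T : Subgroup (F.autGroup C)).mul_mem ht' (hIT hI')
  · refine iSup_le fun Q => ?_
    obtain ⟨hQle, hQr⟩ := Q.2
    have hdvd := Subgroup.card_dvd_of_le hQle
    rw [hTcard] at hdvd
    rcases (Nat.dvd_prime Fact.out).1 hdvd with h1 | h1
    · refine absurd (fun A _ _ => ?_) hQr
      have := Subgroup.card_subgroup_dvd_card A
      rw [h1] at this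
      simp [Nat.eq_one_of_dvd_one this]
    · rw [Subgroup.eq_of_le_of_card_ge hQle (by rw [h1, hTcard])]

end Cfsg.Agent.S5270
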