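import Cfsg.Statements.S5271
import Cfsg.Agent.Lib.Fusion.Supplemented
-- import your own Cfsg.Agent.* helpers here

set_option autoImplicit false
open Cfsg

namespace Cfsg.Agent.S5271

/-- A nilpotency criterion for fusion systems. Let F be a saturated fusion system over a finite p-group S of order at least p². Call a subgroup Q of S weakly embedded in F when there is a subgroup P of S strongly closed in F such that both the product QP and the intersection Q ∩ P are strongly closed in F. Then F is the inner fusion system of S if and only if there is a subgroup D of S with 1 < D < S such that every subgroup of S of the same order as D is weakly embedded in F and, for every fully normalized subgroup H of S of that order, the normalizer fusion system of H in F is the inner fusion system of N_S(H). -/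
theorem result {Ω : Type*} [Group Ω] {S : Subgroup Ω} [Finite S] (p : ℕ) [Fact p.Prime] (hS : IsPGroup p ↥S) (F : Cfsg.FusionSystem S) (hF : F.IsSaturated p) (hcard : p ^ 2 ≤ Nat.card S) : (∀ P : Subgroup Ω, F.Hom P = (Cfsg.innerFusionSystem S).Hom P) ↔ ∃ D : Subgroup Ω, ⊥ < D ∧ D < S ∧ (∀ Q : Subgroup Ω, Q ≤ S → Nat.card ↥Q = Nat.card ↥D → ∃ P : Subgroup Ω, F.StronglyClosed P ∧ F.StronglyClosed (Q ⊔ P) ∧ F.StronglyClosed (Q ⊓ P)) ∧ (∀ H : Subgroup Ω, F.IsFullyNormalized H → Nat.card ↥H = Nat.card ↥D → ∀ N : Cfsg.FusionSystem (Cfsg.FusionSystem.normalizerIn S H), F.IsNormalizerSystem H N → ∀ P : Subgroup Ω, N.Hom P = (Cfsg.innerFusionSystem (Cfsg.FusionSystem.normalizerIn S H)).Hom P) := by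
  have hp : p.Prime := Fact.out
  constructor
  · intro h
    obtain ⟨n, hn⟩ := IsPGroup.iff_card.1 hS
    have hn2 : 2 ≤ n := (Nat.pow_le_pow_iff_right hp.one_lt).1 (hn ▸ hcard)
    obtain ⟨D, -, hDS, hD⟩ := Fusion.exists_subgroup_card (A := ⊥) (B := S) bot_le hS
      (m := n - 1) (by rw [Subgroup.card_bot]; exact Nat.one_le_pow _ _ hp.pos)
      (hn ▸ Nat.pow_le_pow_right hp.pos (Nat.sub_le n 1))
    have hnorm : ∀ Q : Subgroup Ω, Q ≤ S → S ≤ Subgroup.normalizer (Q : Set Ω) →
        F.StronglyClosed Q := by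
      intro Q hQ hQn
      refine ⟨hQ, fun R hR φ hφ x => ?_⟩
      rw [h R] at hφ
      obtain ⟨-, g, hg, hx⟩ := hφ
      rw [hx x]
      exact (Subgroup.mem_normalizer_iff.1 (hQn hg) _).1 (hR x.2)
    refine ⟨D, ?_, ?_, fun Q hQ hQc => ?_, fun H hH _ N hN P => ?_⟩
    · refine bot_lt_iff_ne_bot.2 fun h0 => ?_
      rw [h0, Subgroup.card_bot] at hD
      exact (Nat.one_lt_pow (by omega) hp.one_lt).ne hD
    · refine lt_of_le_of_ne hDS fun h0 => ?_
      rw [h0, hn] at hD
      have := (Nat.pow_right_injective hp.two_le hD)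
      omega
    · refine ⟨⊥, Fusion.stronglyClosed_bot, ?_, ?_⟩
      · rw [sup_bot_eq]
        refine hnorm Q hQ ((Subgroup.normal_subgroupOf_iff_le_normalizer hQ).1 ?_)
        refine Subgroup.normal_of_index_eq_minFac_card ?_
        have hprod := Subgroup.card_mul_index (Q.subgroupOf S)
        rw [Nat.card_congr (Subgroup.subgroupOfEquivOfLe hQ).toEquiv, hQc, hD, hn] at hprod
        rw [hn, hp.pow_minFac (by omega)]
        refine Nat.eq_of_mul_eq_mul_left (pow_pos hp.pos (n - 1)) (hprod.trans ?_)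
        rw [← pow_succ, Nat.sub_add_cancel (by omega : 1 ≤ n)]
      · rw [inf_bot_eq]
        exact Fusion.stronglyClosed_bot
    · rw [hN P]
      ext φ
      constructor
      · intro hφ
        obtain ⟨-, hP, -, ψ, hψ, hψe, hψH⟩ := hφ
        rw [h (P ⊔ H)] at hψ
        obtain ⟨-, g, hg, hx⟩ := hψ
        refine ⟨hP, g, ⟨hg, Fusion.mem_normalizer_of_conj_mem_fin hH.1 fun y hy => ?_⟩,
          fun x => by rw [← hψe x]; exact hx _⟩
        rw [← hx ⟨y, Subgroup.mem_sup_right hy⟩]
        exact hψH.le ⟨_, hy, rfl⟩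
      · rintro ⟨hP, g, hg, hx⟩
        rw [show φ = conjHom P g from MonoidHom.ext hx, ← hN P]
        exact N.conj_mem hP hg
  · rintro ⟨D, hD0, hDS, hsupp, hN⟩
    have : Finite D := Fusion.finite_of_le hDS.le
    obtain ⟨m, hm⟩ := IsPGroup.iff_card.1 (hS.to_le hDS.le)
    refine (Fusion.isInnerType_iff hS hF).1 (Fusion.Supplemented.isInnerType hS hF (m := m)
      (Nat.pos_of_ne_zero fun h0 => hD0.ne' (Subgroup.card_eq_one.1 (by rw [hm, h0, pow_zero])))
      (hm ▸ Fusion.card_lt_of_lt le_rfl hDS) ⟨fun Q hQ hQc => hsupp Q hQ (hQc.trans hm.symm),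
        fun H R hHR hR hRn hc a ha hco hinv => ?_⟩)
    by_contra ha1
    obtain ⟨H', hHH', hH'⟩ := Fusion.exists_fullyNormalized F (hHR.trans hR)
    obtain ⟨χ, hχ, hχN, hχH⟩ := Fusion.exists_hom_normalizerIn hS
      (Fusion.isFullyAutomized_of_fullyNormalized hS hF hH')
      (Fusion.isReceptive_of_fullyNormalized hS hF hH') hHH'
    have hRN : R ≤ FusionSystem.normalizerIn S H := le_inf hR hRn
    have hres := Fusion.restrict_mem hχ hRN
    set R' := (χ.comp (Subgroup.inclusion hRN)).range with hR'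
    set b := MulAut.congr (Fusion.homEquiv hres (rfl : _ = R')) a with hb
    have hR'N : R' ≤ FusionSystem.normalizerIn S H' := by
      rintro _ ⟨x, rfl⟩
      exact hχN _
    have hH'R : H' ≤ R' := by
      intro y hy
      obtain ⟨w, hw, rfl⟩ := hχH.ge hy
      exact ⟨⟨w, hHR hw⟩, rfl⟩
    have hb1 : b ≠ 1 := fun h => ha1
      ((MulAut.congr (Fusion.homEquiv hres (rfl : _ = R'))).injective (h.trans (map_one _).symm))
    have hbinv : ∀ y : R', (y : Ω) ∈ H' → ((b y : R') : Ω) ∈ H' := by
      intro y hy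
      obtain ⟨w, hw, hwy⟩ := hχH.ge hy
      have hx : y = Fusion.homEquiv hres rfl (⟨w, hHR hw⟩ : R) := Subtype.ext hwy.symm
      rw [hx, hb, Fusion.congr_apply, Fusion.coe_homEquiv]
      exact hχH.le ⟨_, hinv ⟨w, hHR hw⟩ hw, rfl⟩
    refine Fusion.normalizer_not_isInnerType hR'N hH'R (Fusion.congr_mem_autGroup hres rfl ha)
      (by rwa [MulEquiv.orderOf_eq]) hb1 hbinv (Fusion.normalizerSystem_spec F H' hH'.1)
      fun P hP => ?_
    refine (Fusion.isPGroup_autInducedBy (hS.to_le (Fusion.normalizerIn_le S H')) P).to_le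
      fun α hα => ?_
    have hα' := (Fusion.mem_autGroup_iff hP).1 hα
    rw [hN H' hH' ((Fusion.isConj_card hHH').trans (hc.trans hm.symm)) _
      (Fusion.normalizerSystem_spec F H' hH'.1) P] at hα'
    obtain ⟨-, g, hg, hx⟩ := hα'
    exact Fusion.mem_autInducedBy_iff.2 ⟨g, hg, hx⟩

end Cfsg.Agent.S5271
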