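import Cfsg.Statements.S5274
import Mathlib
import Cfsg.Agent.Lib.Fusion.Saturated

set_option autoImplicit false
open Cfsg

namespace Cfsg.Agent.S5274

open Cfsg Cfsg.FusionSystem Cfsg.Agent.Fusion

section
variable {Ω : Type*} [Group Ω] {S : Subgroup Ω} {F : FusionSystem S}

theorem ce_of_map {P : Subgroup Ω} {φ : P →* Ω} (hφ : φ ∈ F.Hom P) {x : Ω} (hx : x ∈ P) :
    F.IsConjElt x (φ ⟨x, hx⟩) :=
  ⟨_, restrict_mem hφ (Subgroup.zpowers_le.2 hx), rfl⟩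

theorem ce_conj {x g : Ω} (hx : x ∈ S) (hg : g ∈ S) : F.IsConjElt x (g * x * g⁻¹) :=
  ce_of_map (F.conj_mem (le_refl S) hg) hx

theorem ce_mem {x y : Ω} (h : F.IsConjElt x y) : x ∈ S ∧ y ∈ S := by
  obtain ⟨φ, hφ, rfl⟩ := h
  exact ⟨dom_le hφ (Subgroup.mem_zpowers x), apply_mem hφ _⟩

theorem ce_map_zpow {x y : Ω} {φ : ↥(Subgroup.zpowers x) →* Ω}
    (hxy : φ ⟨x, Subgroup.mem_zpowers x⟩ = y) (k : ℤ) :
    φ ⟨x ^ k, Subgroup.zpow_mem_zpowers x k⟩ = y ^ k := by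
  rw [← hxy, ← map_zpow]
  rfl

theorem ce_zpow {x y : Ω} (h : F.IsConjElt x y) (k : ℤ) : F.IsConjElt (x ^ k) (y ^ k) := by
  obtain ⟨φ, hφ, hxy⟩ := h
  rw [← ce_map_zpow hxy k]
  exact ce_of_map hφ _

theorem ce_symm {x y : Ω} (h : F.IsConjElt x y) : F.IsConjElt y x := by
  obtain ⟨φ, hφ, hxy⟩ := h
  subst hxy
  obtain ⟨ψ, hψ, -, hi, -⟩ := exists_inverse hφ (rfl : φ.range = φ.range)
  have h2 := ce_of_map hψ (⟨_, rfl⟩ : φ ⟨x, Subgroup.mem_zpowers x⟩ ∈ φ.range)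
  have h3 : F.IsConjElt (φ ⟨x, Subgroup.mem_zpowers x⟩) ((⟨x, Subgroup.mem_zpowers x⟩ : ↥(Subgroup.zpowers x)) : Ω) :=
    hi ⟨x, Subgroup.mem_zpowers x⟩ ⟨_, rfl⟩ ▸ h2
  exact h3

theorem ce_trans {x y z : Ω} (h : F.IsConjElt x y) (h' : F.IsConjElt y z) :
    F.IsConjElt x z := by
  obtain ⟨φ, hφ, hxy⟩ := h
  obtain ⟨ψ, hψ, hyz⟩ := h'
  have hv : ∀ a, φ a ∈ Subgroup.zpowers y := by
    rintro ⟨a, ha⟩
    obtain ⟨k, rfl⟩ := Subgroup.mem_zpowers_iff.1 ha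
    rw [ce_map_zpow hxy]
    exact Subgroup.zpow_mem_zpowers y k
  refine ⟨ψ.comp (φ.codRestrict _ hv), F.comp_mem hφ hψ hv, ?_⟩
  show ψ ⟨φ _, hv _⟩ = z
  rw [← hyz]
  exact congrArg ψ (Subtype.ext hxy)

/-- Two commuting-in-`Z(S)` extension: a map sending `x` into `Z(S)` extends to `C_S(x)`. -/
theorem ce_extend [Finite S] (hS : IsPGroup 2 ↥S) (hF : F.IsSaturated 2) {x z : Ω}
    (h : F.IsConjElt x z) (hz : z ∈ Subgroup.centralizer (S : Set Ω)) :
    ∃ C : Subgroup Ω, ∃ ψ ∈ F.Hom C, (∀ g ∈ S, g * x = x * g → g ∈ C) ∧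
      ∀ hx : x ∈ C, ψ ⟨x, hx⟩ = z := by
  haveI : Fact (Nat.Prime 2) := ⟨Nat.prime_two⟩
  obtain ⟨hxS, hzS⟩ := ce_mem h
  obtain ⟨φ, hφ, hxz⟩ := h
  have hrS := range_le hφ
  have hfull : S ≤ centralizerIn S φ.range := by
    intro g hg
    refine mem_centralizerIn.2 ⟨hg, ?_⟩
    rintro _ ⟨⟨a, ha⟩, rfl⟩
    obtain ⟨k, rfl⟩ := Subgroup.mem_zpowers_iff.1 ha
    rw [ce_map_zpow hxz]
    exact ((Commute.zpow_left (show Commute z g from
      (Subgroup.mem_centralizer_iff.1 hz g hg).symm) k)).eq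
  have hfc : F.IsFullyCentralized φ.range :=
    ⟨hrS, fun Q _ => card_le_of_le (centralizerIn_le S _)
      ((centralizerIn_le S Q).trans hfull)⟩
  obtain ⟨ψ, hψ, he⟩ := exists_extension (isReceptive_of_fullyCentralized hS hF hfc) hφ rfl
    (centralizerIn_le_extender φ)
  refine ⟨_, ψ, hψ, ?_, ?_⟩
  · intro g hg hgx
    refine mem_centralizerIn.2 ⟨hg, fun a ha => ?_⟩
    obtain ⟨k, rfl⟩ := Subgroup.mem_zpowers_iff.1 ha
    exact ((Commute.zpow_left (show Commute x g from hgx.symm) k)).eq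
  · intro hx
    rw [he x (Subgroup.mem_zpowers x) hx, hxz]

/-- Burnside: conjugate central elements are conjugate under `Aut_F(S)`. -/
theorem ce_burnside [Finite S] (hS : IsPGroup 2 ↥S) (hF : F.IsSaturated 2) {x z : Ω}
    (h : F.IsConjElt x z) (hx : x ∈ Subgroup.centralizer (S : Set Ω))
    (hz : z ∈ Subgroup.centralizer (S : Set Ω)) :
    ∃ α ∈ F.autGroup S, ∀ hxS : x ∈ S, ((α ⟨x, hxS⟩ : S) : Ω) = z := by
  obtain ⟨C, ψ, hψ, hC, hv⟩ := ce_extend hS hF h hz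
  have hSC : S ≤ C := fun g hg => hC g hg (Subgroup.mem_centralizer_iff.1 hx g hg)
  have hψ' := restrict_mem hψ hSC
  have hr : (ψ.comp (Subgroup.inclusion hSC)).range = S :=
    range_eq_of_le hψ' le_rfl (apply_mem hψ') le_rfl
  refine ⟨toAut hψ' hr, toAut_mem hψ' hr, fun hxS => ?_⟩
  rw [coe_toAut]
  exact hv (hSC hxS)

/-- A central element conjugate to its inverse has order at most two. -/
theorem ce_real_central [Finite S] (hS : IsPGroup 2 ↥S) (hF : F.IsSaturated 2) {b : Ω}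
    (h : F.IsConjElt b b⁻¹) (hb : b ∈ Subgroup.centralizer (S : Set Ω)) : b = b⁻¹ := by
  haveI : Fact (Nat.Prime 2) := ⟨Nat.prime_two⟩
  haveI : Finite (MulAut S) := finite_mulAut le_rfl
  obtain ⟨hbS, hbS'⟩ := ce_mem h
  obtain ⟨α, hα, hαv⟩ := ce_burnside hS hF h hb (inv_mem hb)
  let B : ↥S := ⟨b, hbS⟩
  have hαB : α B = B⁻¹ := Subtype.ext (hαv hbS)
  obtain ⟨-, R, hR⟩ := isFullyAutomized_self hS hF
  rw [autInducedBy_self] at hR
  have hRn : (R : Subgroup (F.autGroup S)).Normal := by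
    rw [hR]
    refine ⟨fun a ha g => ?_⟩
    obtain ⟨s, hs⟩ := ha
    exact ⟨(g : MulAut S) s, MulEquiv.ext fun t => by
      simp only [Subgroup.coe_subtype, Subgroup.coe_mul, InvMemClass.coe_inv, MulAut.mul_apply] at hs ⊢
      rw [← hs, MulAut.conj_apply, MulAut.conj_apply, map_mul, map_mul, map_inv,
        MulAut.apply_inv_self]⟩
  set A : ↥(F.autGroup S) := ⟨α, hα⟩
  set m : ℕ := (R : Subgroup (F.autGroup S)).index
  have hm : A ^ m ∈ (R : Subgroup (F.autGroup S)) :=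
    haveI := hRn
    Subgroup.pow_index_mem _ A
  have hodd : Odd m := by
    rw [← Nat.not_even_iff_odd, even_iff_two_dvd]
    exact R.not_dvd_index
  have key : ∀ n : ℕ, (α ^ (2 * n + 1)) B = B⁻¹ := by
    intro n
    induction n with
    | zero => simpa using hαB
    | succ n ih =>
      rw [show 2 * (n + 1) + 1 = (2 * n + 1) + 2 by ring, pow_add, MulAut.mul_apply, pow_two,
        MulAut.mul_apply, hαB, map_inv, hαB, inv_inv, ih]
  obtain ⟨n, hn⟩ := hodd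
  rw [hR, Subgroup.mem_subgroupOf, SubgroupClass.coe_pow, hn] at hm
  obtain ⟨s, hs⟩ := hm
  have h1 : MulAut.conj s B = B := by
    refine Subtype.ext ?_
    show (s : Ω) * b * (s : Ω)⁻¹ = b
    rw [Subgroup.mem_centralizer_iff.1 hb s s.2, mul_inv_cancel_right]
  have h2 : B = B⁻¹ := by
    rw [← key n]
    exact h1.symm.trans (DFunLike.congr_fun hs B)
  exact congrArg Subtype.val h2

variable [Finite S] (hS : IsPGroup 2 ↥S) (hF : F.IsSaturated 2)
  (h : ∀ x ∈ S, ∃ z ∈ S ⊓ Subgroup.centralizer (S : Set Ω), F.IsConjElt x z)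

include hS hF h

theorem real_sq_one {x s : Ω} (hx : x ∈ S) (hs : s ∈ S) (hr : s * x * s⁻¹ = x⁻¹) :
    x * x = 1 := by
  obtain ⟨b, ⟨hbS, hb⟩, hxb⟩ := h x hx
  have h1 : F.IsConjElt x x⁻¹ := hr ▸ ce_conj hx hs
  have h2 : F.IsConjElt x⁻¹ b⁻¹ := by simpa using ce_zpow hxb (-1)
  have h3 := ce_real_central hS hF (ce_trans (ce_symm hxb) (ce_trans h1 h2)) hb
  obtain ⟨φ, hφ, hv⟩ := hxb
  have h4 : φ (⟨x, Subgroup.mem_zpowers x⟩ * ⟨x, Subgroup.mem_zpowers x⟩) = φ 1 := by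
    rw [map_mul, map_one, hv]
    nth_rewrite 2 [h3]
    exact mul_inv_cancel b
  exact congrArg Subtype.val (F.injective_of_mem hφ h4)

theorem invol_comm {u v : Ω} (hu : u ∈ S) (hv : v ∈ S) (hu1 : u * u = 1) (hv1 : v * v = 1) :
    u * v = v * u := by
  have hui : u⁻¹ = u := inv_eq_of_mul_eq_one_right hu1
  have hvi : v⁻¹ = v := inv_eq_of_mul_eq_one_right hv1
  have h1 := real_sq_one hS hF h (S.mul_mem hu hv) hu
    (by rw [mul_inv_rev, hui, hvi, ← mul_assoc u u v, hu1, one_mul])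
  calc u * v = (u * v)⁻¹ := (inv_eq_of_mul_eq_one_right h1).symm
    _ = v * u := by rw [mul_inv_rev, hui, hvi]

theorem central_root {x : Ω} (hx : x ∈ S) (hc : x * x ∈ Subgroup.centralizer (S : Set Ω)) :
    ∃ w ∈ S ⊓ Subgroup.centralizer (S : Set Ω), (x * w⁻¹) * (x * w⁻¹) = 1 := by
  obtain ⟨b, ⟨hbS, hb⟩, hxb⟩ := h x hx
  have h2 : F.IsConjElt (b * b) (x * x) := by
    have h3 := ce_zpow (ce_symm hxb) 2
    rwa [zpow_two, zpow_two] at h3
  obtain ⟨α, -, hα⟩ := ce_burnside hS hF h2 (mul_mem hb hb) hc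
  have hα2 := hα (S.mul_mem hbS hbS)
  set w : ↥S := α ⟨b, hbS⟩
  have hw : (w : Ω) * w = x * x := by
    rw [← hα2, ← Subgroup.coe_mul, ← map_mul]
    rfl
  have hwc : ∀ g ∈ S, g * (w : Ω) = w * g := by
    intro g hg
    have h3 : α.symm ⟨g, hg⟩ * ⟨b, hbS⟩ = ⟨b, hbS⟩ * α.symm ⟨g, hg⟩ :=
      Subtype.ext (Subgroup.mem_centralizer_iff.1 hb _ (α.symm ⟨g, hg⟩).2)
    have h4 := congrArg α h3
    rw [map_mul, map_mul, MulEquiv.apply_symm_apply] at h4
    exact congrArg Subtype.val h4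
  refine ⟨w, ⟨w.2, Subgroup.mem_centralizer_iff.2 hwc⟩, ?_⟩
  have hwx : Commute (x : Ω) (w : Ω)⁻¹ := (show Commute x (w : Ω) from hwc x hx).inv_right
  calc x * (w : Ω)⁻¹ * (x * (w : Ω)⁻¹) = x * x * ((w : Ω)⁻¹ * (w : Ω)⁻¹) := by
        rw [mul_assoc x, ← mul_assoc (w : Ω)⁻¹, ← hwx.eq]; group
    _ = 1 := by rw [← hw]; group

theorem invol_comm_all (n : ℕ) : ∀ s ∈ S, s ^ 2 ^ n = 1 → ∀ u ∈ S, u * u = 1 → u * s = s * u := by
  induction n with
  | zero =>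
    intro s _ hs u _ _
    rw [pow_zero, pow_one] at hs
    rw [hs, one_mul, mul_one]
  | succ n ih =>
    intro s hs hn u hu hu1
    have hsq : (s * s) ^ 2 ^ n = 1 := by rw [← pow_two, ← pow_mul, ← pow_succ', hn]
    have hux : u * (s * s) = s * s * u := ih _ (S.mul_mem hs hs) hsq u hu hu1
    obtain ⟨z, ⟨hzS, hz⟩, hxz⟩ := h (s * s) (S.mul_mem hs hs)
    obtain ⟨C, ψ, hψ, hC, hv⟩ := ce_extend hS hF hxz hz
    have hsC : s ∈ C := hC s hs (mul_assoc s s s).symm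
    have huC : u ∈ C := hC u hu hux
    set S' := ψ ⟨s, hsC⟩
    set U' := ψ ⟨u, huC⟩
    have hS' : S' * S' = z := by
      rw [← map_mul]
      exact hv (C.mul_mem hsC hsC)
    have hU' : U' * U' = 1 := by
      rw [← map_mul, ← map_one ψ]
      exact congrArg ψ (Subtype.ext hu1)
    have hS'S := apply_mem hψ ⟨s, hsC⟩
    have hU'S := apply_mem hψ ⟨u, huC⟩
    obtain ⟨w, ⟨hwS, hw⟩, hi⟩ := central_root hS hF h hS'S (hS' ▸ hz)
    have h1 : U' * (S' * w⁻¹) = S' * w⁻¹ * U' :=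
      invol_comm hS hF h hU'S (S.mul_mem hS'S (S.inv_mem hwS)) hU' hi
    have h2 : U' * w = w * U' := Subgroup.mem_centralizer_iff.1 hw U' hU'S
    have h3 : U' * S' = S' * U' := by
      calc U' * S' = U' * (S' * w⁻¹) * w := by group
        _ = S' * w⁻¹ * (U' * w) := by rw [h1]; group
        _ = S' * U' := by rw [h2]; group
    have h4 : (⟨u, huC⟩ : C) * ⟨s, hsC⟩ = ⟨s, hsC⟩ * ⟨u, huC⟩ := by
      refine F.injective_of_mem hψ ?_
      rw [map_mul, map_mul]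
      exact h3
    exact congrArg Subtype.val h4

theorem all_central (n : ℕ) : ∀ s ∈ S, s ^ 2 ^ n = 1 → s ∈ Subgroup.centralizer (S : Set Ω) := by
  induction n with
  | zero =>
    intro s _ hs
    rw [pow_zero, pow_one] at hs
    exact hs ▸ one_mem _
  | succ n ih =>
    intro s hs hn
    have hsq : (s * s) ^ 2 ^ n = 1 := by rw [← pow_two, ← pow_mul, ← pow_succ', hn]
    obtain ⟨w, ⟨hwS, hw⟩, hi⟩ := central_root hS hF h hs (ih _ (S.mul_mem hs hs) hsq)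
    have h1 : s * w⁻¹ ∈ Subgroup.centralizer (S : Set Ω) := by
      refine Subgroup.mem_centralizer_iff.2 fun g hg => ?_
      obtain ⟨k, hk⟩ := hS ⟨g, hg⟩
      exact ((invol_comm_all hS hF h k g hg (congrArg Subtype.val hk) _
        (S.mul_mem hs (S.inv_mem hwS)) hi)).symm
    simpa using mul_mem h1 hw

theorem S_abelian : IsMulCommutative ↥S := by
  refine ⟨⟨fun a b => Subtype.ext ?_⟩⟩
  obtain ⟨k, hk⟩ := hS b
  exact Subgroup.mem_centralizer_iff.1 (all_central hS hF h k b b.2 (congrArg Subtype.val hk)) a a.2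

end



/-- Let F be a saturated fusion system over a finite 2-group S. Suppose that every element of S is F-conjugate to an element of the centre Z(S) (some map of F defined on the cyclic subgroup it generates sends it into Z(S)). Then S is abelian. -/
theorem result {Ω : Type*} [Group Ω] {S : Subgroup Ω} [Finite S] (hS : IsPGroup 2 ↥S) (F : Cfsg.FusionSystem S) (hF : F.IsSaturated 2) (h : ∀ x ∈ S, ∃ z ∈ S ⊓ Subgroup.centralizer (S : Set Ω), F.IsConjElt x z) : IsMulCommutative ↥S := S_abelian hS hF h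

end Cfsg.Agent.S5274
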