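import Cfsg.Statements.S5275
import Cfsg.Agent.Lib.Fusion.StronglyClosedZJ
-- import your own Cfsg.Agent.* helpers here

set_option autoImplicit false
open Cfsg

namespace Cfsg.Agent.S5275

/-- A Glauberman–Thompson nilpotency criterion for fusion systems relative to a strongly closed subgroup. Let p be an odd prime, F a saturated fusion system over a finite p-group S, and D a subgroup of S that is strongly closed in F. Let Z(J(D)) be the centre of the subgroup of D generated by the abelian subgroups of D of largest order. Then F is the inner fusion system of S if and only if the normalizer fusion system of Z(J(D)) in F is the inner fusion system of N_S(Z(J(D))) = S. -/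
theorem result {Ω : Type*} [Group Ω] {S : Subgroup Ω} [Finite S] (p : ℕ) [Fact p.Prime] (hS : IsPGroup p ↥S) (F : Cfsg.FusionSystem S) (hF : F.IsSaturated p) (hp : p ≠ 2) (D : Subgroup Ω) (hD : F.StronglyClosed D) : (∀ P : Subgroup Ω, F.Hom P = (Cfsg.innerFusionSystem S).Hom P) ↔ ∀ N : Cfsg.FusionSystem (Cfsg.FusionSystem.normalizerIn S (Cfsg.centerThompsonAOf D)), F.IsNormalizerSystem (Cfsg.centerThompsonAOf D) N → ∀ P : Subgroup Ω, N.Hom P = (Cfsg.innerFusionSystem (Cfsg.FusionSystem.normalizerIn S (Cfsg.centerThompsonAOf D))).Hom P := by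
  set W := Cfsg.centerThompsonAOf D with hW
  have hn : S ≤ Subgroup.normalizer (W : Set Ω) := Fusion.le_normalizer_centerThompsonAOf_of_stronglyClosed hD
  constructor
  · intro h N hN P
    rw [hN P]
    ext φ
    constructor
    · rintro ⟨hφF, hP, -, -⟩
      rw [h P] at hφF
      obtain ⟨hPS, g, hg, hx⟩ := hφF
      exact ⟨hP, g, ⟨hg, hn hg⟩, hx⟩
    · rintro ⟨hP, g, hg, hx⟩
      rw [show φ = conjHom P g from MonoidHom.ext hx, ← hN P]
      exact N.conj_mem hP hg
  · intro hN
    refine (Fusion.isInnerType_iff hS hF).1 ?_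
    by_contra hne
    have hM := Fusion.moves_centerThompsonA_stronglyClosed hS hp hF hne hD
    have hNs := Fusion.normalizerSystem_spec F W ((Fusion.centerThompsonAOf_le D).trans hD.1)
    refine hM.not_isInnerType hn rfl hNs fun P hP => ?_
    have hNh := hN _ hNs P
    refine (Fusion.isPGroup_autInducedBy ((hS.to_le (Fusion.normalizerIn_le S W))) P).to_le
      fun α hα => ?_
    have hm := (Fusion.mem_autGroup_iff hP).1 hα
    rw [hNh] at hm
    obtain ⟨-, g, hg, hx⟩ := hm
    exact Fusion.mem_autInducedBy_iff.2 ⟨g, hg, hx⟩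

end Cfsg.Agent.S5275
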