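import Cfsg.Statements.S5276
import Cfsg.Agent.Lib.Fusion.Tate
import Cfsg.Agent.Lib.Fusion.FocalCriterion
import Cfsg.Agent.Lib.Fusion.Constructions
import Cfsg.Agent.Lib.PGroup.Frattini

set_option autoImplicit false
open Cfsg

namespace Cfsg.Agent.S5276

/-- Let p be a prime and F a saturated fusion system over a finite p-group S. Then F is the inner fusion system of S if and only if the normalizer fusion system of S itself in F is the inner fusion system (equivalently, Aut_F(S) is induced by S) and the Frattini subgroup Φ(S) is strongly closed in F. -/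
theorem result {Ω : Type*} [Group Ω] {S : Subgroup Ω} [Finite S] (p : ℕ) [Fact p.Prime] (hS : IsPGroup p ↥S) (F : Cfsg.FusionSystem S) (hF : F.IsSaturated p) : (∀ P : Subgroup Ω, F.Hom P = (Cfsg.innerFusionSystem S).Hom P) ↔ (∀ N : Cfsg.FusionSystem (Cfsg.FusionSystem.normalizerIn S S), F.IsNormalizerSystem S N → ∀ P : Subgroup Ω, N.Hom P = (Cfsg.innerFusionSystem (Cfsg.FusionSystem.normalizerIn S S)).Hom P) ∧ F.StronglyClosed ((frattini ↥S).map S.subtype) := by
  set Φ := (frattini S).map S.subtype with hΦ
  have hΦn : ∀ g ∈ S, ∀ x ∈ Φ, g * x * g⁻¹ ∈ Φ := by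
    rintro g hg _ ⟨x, hx, rfl⟩
    exact ⟨_, (inferInstance : (frattini S).Normal).conj_mem x hx ⟨g, hg⟩, rfl⟩
  constructor
  · intro h
    constructor
    · intro N hN P
      rw [hN P]
      ext φ
      constructor
      · intro hφ
        obtain ⟨hφF, hP, -, -⟩ := hφ
        rw [h P] at hφF
        obtain ⟨-, g, hg, hx⟩ := hφF
        exact ⟨hP, g, Fusion.le_normalizerIn le_rfl hg, hx⟩
      · rintro ⟨hP, g, hg, hx⟩
        rw [show φ = conjHom P g from MonoidHom.ext hx, ← hN P]
        exact N.conj_mem hP hg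
    · refine ⟨Subgroup.map_subtype_le _, fun R hR φ hφ x => ?_⟩
      rw [h R] at hφ
      obtain ⟨-, g, hg, hx⟩ := hφ
      rw [hx x]
      exact hΦn g hg _ (hR x.2)
  · rintro ⟨hN, hcl⟩
    refine Fusion.hom_eq_inner_of_focal_le_frattini hS hF
      (Fusion.focal_le_of_stronglyClosed hS hF hcl ?_ ?_)
    · rw [← Subgroup.map_subtype_commutator]
      exact Subgroup.map_mono (PGroup.commutator_le_frattini hS)
    · intro α hα x
      have hm := (Fusion.mem_autGroup_iff le_rfl).1 hα
      have hNs := Fusion.normalizerSystem_spec F S le_rfl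
      have hmem : S.subtype.comp α.toMonoidHom ∈ F.normalizerHom S S := by
        refine ⟨hm, Fusion.le_normalizerIn le_rfl,
          fun y => Fusion.le_normalizerIn le_rfl (α y).2, ?_⟩
        have hh := Fusion.restrict_mem hm (sup_le le_rfl le_rfl : S ⊔ S ≤ S)
        refine ⟨_, hh, fun y => rfl, (Fusion.map_subgroupOf_eq_iff hh le_sup_right).2
          fun y hy => (α ⟨y, hy⟩).2⟩
      rw [← hNs S, hN _ hNs S] at hmem
      obtain ⟨-, g, hg, hx⟩ := hmem
      have hgS := Fusion.normalizerIn_le S S hg
      have hcm := Subgroup.commutator_mem_commutator (S.inv_mem x.2) hgS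
      rw [commutatorElement_def, inv_inv] at hcm
      rw [← Subgroup.map_subtype_commutator] at hcm
      have h2 := Subgroup.map_mono (PGroup.commutator_le_frattini hS) hcm
      rw [show ((α x : S) : Ω) = g * (x : Ω) * g⁻¹ from hx x]
      simpa [mul_assoc] using h2

end Cfsg.Agent.S5276
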