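import Cfsg.Statements.S5278
import Cfsg.Agent.Lib.Fusion.ThompsonTorus

set_option autoImplicit false
open Cfsg

namespace Cfsg.Agent.S5278

/-- Let p be an odd prime, F a saturated fusion system over a finite p-group S, and T a subgroup of Z(S) such that the normalizer fusion system of J(S) in F is contained in the normalizer fusion system of T, J(S) being the subgroup generated by the abelian subgroups of S of largest order. Then either T is weakly closed in F, or Aut_F(T) has a nontrivial cyclic subgroup X of order prime to p that permutes transitively the non-identity elements of the commutator [T, X] (the subgroup of T generated by the elements ψ(t)·t⁻¹ with ψ in X and t in T). -/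
theorem result {Ω : Type*} [Group Ω] {S : Subgroup Ω} [Finite S] (p : ℕ) [Fact p.Prime] (hS : IsPGroup p ↥S) (F : Cfsg.FusionSystem S) (hF : F.IsSaturated p) (hp : p ≠ 2) (T : Subgroup Ω) (hT : T ≤ S ⊓ Subgroup.centralizer (S : Set Ω)) (hJT : ∀ NJ : Cfsg.FusionSystem (Cfsg.FusionSystem.normalizerIn S (Cfsg.thompsonSubgroupAOf S)), F.IsNormalizerSystem (Cfsg.thompsonSubgroupAOf S) NJ → ∀ NT : Cfsg.FusionSystem (Cfsg.FusionSystem.normalizerIn S T), F.IsNormalizerSystem T NT → NJ.IsSubsystemOf NT) : F.WeaklyClosed T ∨ ∃ X : Subgroup (MulAut ↥T), X ≤ F.autGroup T ∧ X ≠ ⊥ ∧ IsCyclic ↥X ∧ (Nat.card ↥X).Coprime p ∧ ∀ a b : ↥T, a ∈ Subgroup.closure {y : ↥T | ∃ ψ ∈ X, ∃ t : ↥T, y = ψ t * t⁻¹} → b ∈ Subgroup.closure {y : ↥T | ∃ ψ ∈ X, ∃ t : ↥T, y = ψ t * t⁻¹} → a ≠ 1 → b ≠ 1 → ∃ ψ ∈ X, ψ a = b := by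
  have hTS : T ≤ S := hT.trans inf_le_left
  refine Cfsg.Agent.ThompsonTorus.weaklyClosed_or_torus hp hS hF hT ?_
  set J := Cfsg.thompsonSubgroupAOf S with hJ
  intro α hα x hx
  have hJS : J ≤ S := Cfsg.Agent.WeakClosure.thompsonA_le S
  have hJN : J ≤ Cfsg.FusionSystem.normalizerIn S J := le_inf hJS Subgroup.le_normalizer
  obtain ⟨hαh, hαr⟩ := Cfsg.Agent.Fusion.hom_of_mem_autGroup hJS hα
  have hsup : J ⊔ J ≤ J := sup_le le_rfl le_rfl
  have hm : J.subtype.comp α.toMonoidHom ∈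
      (Cfsg.Agent.Fusion.normalizerSystem F J hJS).Hom J := by
    rw [Cfsg.Agent.Fusion.normalizerSystem_spec F J hJS]
    refine ⟨hαh, hJN, fun z => hJN (α z).2, _, Cfsg.Agent.Fusion.restrict_mem hαh hsup,
      fun z => rfl, ?_⟩
    ext w
    constructor
    · rintro ⟨z, -, rfl⟩
      exact (α _).2
    · intro hw
      refine ⟨Subgroup.inclusion le_sup_left (α.symm ⟨w, hw⟩), (α.symm ⟨w, hw⟩).2, ?_⟩
      show ((α (α.symm ⟨w, hw⟩) : J) : Ω) = w
      rw [MulEquiv.apply_symm_apply]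
  have h2 := (hJT _ (Cfsg.Agent.Fusion.normalizerSystem_spec F J hJS) _
    (Cfsg.Agent.Fusion.normalizerSystem_spec F T hTS)) J hm
  rw [Cfsg.Agent.Fusion.normalizerSystem_spec F T hTS] at h2
  obtain ⟨-, -, -, ψ, -, hψ, hψT⟩ := h2
  rw [show ((α x : J) : Ω) = ψ (Subgroup.inclusion le_sup_left x) from (hψ x).symm]
  exact hψT.le ⟨_, hx, rfl⟩

end Cfsg.Agent.S5278
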