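import Cfsg.Statements.S5282
import Cfsg.Agent.Lib.Fusion.QdFreeFunctor
import Cfsg.Agent.Lib.StellmacherW.Main
import Cfsg.Agent.S2761

set_option autoImplicit false
open Cfsg

namespace Cfsg.Agent.S5282

/-- Let p be a prime and F a saturated fusion system over a finite p-group S that is Qd(p)-free: the semidirect product of an elementary abelian group of order p² by SL₂(p) acting naturally (the symmetric group of degree 4 when p = 2) is not involved in any model of the normalizer system of a fully normalized F-centric subgroup. Then F is realizable — it is the fusion system of some finite group on a Sylow p-subgroup — and F is a solvable fusion system. -/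
theorem result {Ω : Type*} [Group Ω] {S : Subgroup Ω} [Finite S] (p : ℕ) [Fact p.Prime] (hS : IsPGroup p ↥S) (F : Cfsg.FusionSystem S) (hF : F.IsSaturated p) (hfree : F.IsSectionFree p ↥(Cfsg.qd p)) : F.IsRealizable p ∧ F.IsSolvableSystem := by
  have h : Cfsg.Agent.Fusion.QdFree.HasW p ↥(Cfsg.qd p) := by
    by_cases hp : p = 2
    · subst hp
      exact Cfsg.Agent.Fusion.QdFree.hasW_congr (Cfsg.Agent.S2761.result).some Cfsg.Agent.StellmacherW.hasW_sFour
    · exact Cfsg.Agent.Fusion.QdFree.hasW_qd_of_odd hp
  exact ⟨Cfsg.Agent.Fusion.QdFree.isRealizable h hS hF hfree,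
    Cfsg.Agent.Fusion.QdFree.isSolvableSystem h hS hF hfree⟩

end Cfsg.Agent.S5282
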