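import Cfsg.Statements.S5283
import Cfsg.Agent.Lib.Fusion.SupersolubleType
-- import your own Cfsg.Agent.* helpers here

set_option autoImplicit false
open Cfsg

namespace Cfsg.Agent.S5283

/-- Call a saturated fusion system F over a finite p-group S supersoluble when S has a chain of subgroups 1 = S_0 ≤ S_1 ≤ … ≤ S_m = S, each strongly closed in F, with each S_{i+1} generated by S_i together with one further element (cyclic steps). Then every saturated fusion system over S is supersoluble if and only if S is normal in every saturated fusion system over S (S is resistant) and every subgroup of Aut(S) of order prime to p is abelian of exponent dividing p − 1. -/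
theorem result {Ω : Type*} [Group Ω] {S : Subgroup Ω} [Finite S] (p : ℕ) [Fact p.Prime] (hS : IsPGroup p ↥S) : (∀ F : Cfsg.FusionSystem S, F.IsSaturated p → (∃ (m : ℕ) (c : Fin (m + 1) → Subgroup Ω), c 0 = ⊥ ∧ c (Fin.last m) = S ∧ (∀ i : Fin (m + 1), F.StronglyClosed (c i)) ∧ ∀ i : Fin m, c i.castSucc ≤ c i.succ ∧ ∃ x ∈ S, c i.succ = c i.castSucc ⊔ Subgroup.zpowers x)) ↔ (∀ F : Cfsg.FusionSystem S, F.IsSaturated p → F.IsNormal S) ∧ ∀ H : Subgroup (MulAut ↥S), (Nat.card ↥H).Coprime p → IsMulCommutative ↥H ∧ ∀ h ∈ H, h ^ (p - 1) = 1 := by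
  constructor
  · intro hall
    refine ⟨fun F hF => ?_, fun H hH => ?_⟩
    · obtain ⟨m, c, h0, hl, hcl, hst⟩ := hall F hF
      exact Agent.Fusion.Supersoluble.isNormal_of_reach hS hF
        (Agent.Fusion.Supersoluble.reach_top hS h0 hl hcl hst)
    · obtain ⟨F, hF, hFH⟩ := Agent.Fusion.Supersoluble.exists_saturated_containing hS H hH
      obtain ⟨m, c, h0, hl, hcl, hst⟩ := hall F hF
      obtain ⟨n, T, hT0, hTn, hTcl, hTst⟩ := Agent.Fusion.Supersoluble.reach_top hS h0 hl hcl hst
      refine Agent.Fusion.Supersoluble.abelian_exponent_of_series hS H hH (n := n)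
        (T := fun i => (T i).subgroupOf S) ?_ ?_ (fun i => ?_) (fun h i x hx => ?_) (fun i hi => ?_)
      · show (T 0).subgroupOf S = ⊥
        rw [hT0, Subgroup.bot_subgroupOf]
      · show (T n).subgroupOf S = ⊤
        rw [hTn, Subgroup.subgroupOf_self]
      · exact (Subgroup.normal_subgroupOf_iff_le_normalizer (hTcl i).1).2
          (Agent.Fusion.le_normalizer_of_stronglyClosed (hTcl i))
      · exact Agent.Fusion.apply_mem_of_stronglyClosed (hTcl i) le_rfl
          ((Agent.Fusion.mem_autGroup_iff le_rfl).2 (hFH _ h.2)) hx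
      · obtain ⟨-, -, z, hz, hzp, hg⟩ := hTst i hi
        exact ⟨⟨z, (hTcl (i + 1)).1 hz⟩, hz, hzp, fun y hy => hg y hy⟩
  · rintro ⟨hn, hH⟩ F hF
    have hnS := hn F hF
    have := Agent.Fusion.finite_autGroup (F := F) (le_refl S)
    have hinn : Inn S ≤ F.autGroup S := Agent.Fusion.inn_le_autGroup F le_rfl
    obtain ⟨-, R, hR⟩ := Agent.Fusion.isFullyAutomized_of_fullyNormalized hS hF
      (Agent.Fusion.isFullyNormalized_self F)
    rw [Agent.Fusion.autInducedBy_self] at hR
    set N := (Inn S).subgroupOf (F.autGroup S) with hNdef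
    have hNn : N.Normal := by
      refine ⟨fun a ha g => ?_⟩
      obtain ⟨s, hs⟩ := ha
      refine ⟨(g : MulAut S) s, MulEquiv.ext fun x => ?_⟩
      show (g : MulAut S) s * x * ((g : MulAut S) s)⁻¹ =
        (g : MulAut S) ((a : MulAut S) ((g : MulAut S)⁻¹ x))
      rw [show (a : MulAut S) = MulAut.conj s from hs.symm]
      show _ = (g : MulAut S) (s * (g : MulAut S)⁻¹ x * s⁻¹)
      rw [map_mul, map_mul, map_inv, MulAut.apply_inv_self]
    obtain ⟨k, hk⟩ := IsPGroup.iff_card.1 R.2
    have hcop : Nat.Coprime (Nat.card N) N.index := by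
      rw [← hR, hk]
      exact ((Fact.out : p.Prime).coprime_iff_not_dvd.2 R.not_dvd_index).pow_left _
    obtain ⟨H₀, hH₀⟩ := Subgroup.exists_right_complement'_of_coprime hcop
    set H := H₀.map (F.autGroup S).subtype with hHdef
    have hHA : H ≤ F.autGroup S := Subgroup.map_subtype_le _
    have hcard : (Nat.card H).Coprime p := by
      rw [hHdef, Subgroup.card_map_of_injective (F.autGroup S).subtype_injective,
        ← hH₀.symm.index_eq_card, ← hR]
      exact ((Fact.out : p.Prime).coprime_iff_not_dvd.2 R.not_dvd_index).symm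
    obtain ⟨hab, hexp⟩ := hH H hcard
    have hA : ∀ a ∈ F.autGroup S, ∃ s : S, ∃ h ∈ H, a = MulAut.conj s * h := by
      intro a ha
      obtain ⟨⟨x, y⟩, hxy⟩ := hH₀.2 ⟨a, ha⟩
      obtain ⟨s, hs⟩ := x.2
      refine ⟨s, _, ⟨y, y.2, rfl⟩, ?_⟩
      rw [hs]
      exact (congrArg Subtype.val hxy).symm
    obtain ⟨c, hc0, hcn, hcinv, hcst⟩ := Agent.Fusion.Supersoluble.exists_chain hS
      (F.autGroup S) H hA hab hexp hHA
    refine ⟨Nat.card S, fun i => (c i).map S.subtype, ?_, ?_, fun i => ?_, fun i => ?_⟩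
    · show (c 0).map S.subtype = ⊥
      rw [hc0, Subgroup.map_bot]
    · show (c (Nat.card S)).map S.subtype = S
      rw [hcn, ← MonoidHom.range_eq_map, Subgroup.range_subtype]
    · refine ⟨Subgroup.map_subtype_le _, fun P hP φ hφ x => ?_⟩
      have hPS : P ≤ S := hP.trans (Subgroup.map_subtype_le _)
      obtain ⟨ψ, hψ, hψP, hψS⟩ := hnS.2 P φ hφ
      have hle : S ≤ P ⊔ S := le_sup_right
      have hχ := Agent.Fusion.restrict_mem hψ hle
      set χ := ψ.comp (Subgroup.inclusion hle) with hχdef
      have hinj := F.injective_of_mem hχ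
      have hmem : ∀ y : S, χ y ∈ S := fun y => (F.le_of_mem hχ).2 y
      let g : S →* S := χ.codRestrict S hmem
      have hgb : Function.Bijective g :=
        Finite.injective_iff_bijective.1 fun a b h => hinj (congrArg Subtype.val h)
      let α : MulAut S := MulEquiv.ofBijective g hgb
      have hα : α ∈ F.autGroup S := (Agent.Fusion.mem_autGroup_iff le_rfl).2
        (show S.subtype.comp α.toMonoidHom ∈ F.Hom S from
          (show S.subtype.comp α.toMonoidHom = χ from MonoidHom.ext fun _ => rfl) ▸ hχ)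
      obtain ⟨u, hu, hux⟩ := hP x.2
      have h1 := hcinv i α hα u hu
      refine ⟨α u, h1, ?_⟩
      show χ u = φ x
      rw [← hψP x]
      exact congrArg ψ (Subtype.ext hux)
    · obtain ⟨hle, z, hz⟩ := hcst i
      refine ⟨Subgroup.map_mono hle, z, z.2, ?_⟩
      show (c (i + 1)).map S.subtype = (c i).map S.subtype ⊔ _
      rw [hz, Subgroup.map_sup, MonoidHom.map_zpowers]
      rfl

end Cfsg.Agent.S5283
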