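import Cfsg.Statements.S5284
import Cfsg.Agent.S5283
import Mathlib.GroupTheory.FiniteAbelian.Basic
-- import your own Cfsg.Agent.* helpers here

set_option autoImplicit false
open Cfsg

namespace Cfsg.Agent.S5284

/-- In a cyclic group of order `p ^ (j + 1)` the elements of order dividing `p` are powers of
`p ^ j`th powers, and `p ^ j`th powers of one element generate them. -/
theorem exists_socle_generator {C : Type*} [Group C] [IsCyclic C] {p j : ℕ} [Fact p.Prime]
    (hC : Nat.card C = p ^ (j + 1)) :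
    ∃ g : C, (g ^ p ^ j) ^ p = 1 ∧ ∀ x : C, x ^ p = 1 → ∃ l : ℕ, x = (g ^ p ^ j) ^ l := by
  have : Finite C := Nat.finite_of_card_ne_zero (hC ▸ pow_ne_zero _ (Fact.out : p.Prime).ne_zero)
  obtain ⟨g, hg⟩ := IsCyclic.exists_monoid_generator (α := C)
  refine ⟨g, by rw [← pow_mul, ← pow_succ, ← hC, pow_card_eq_one'], fun x hx => ?_⟩
  obtain ⟨k, rfl⟩ := hg x
  dsimp only at hx ⊢
  have ho : orderOf g = p ^ (j + 1) := by
    rw [← hC, orderOf_eq_card_of_forall_mem_zpowers fun y => ?_]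
    obtain ⟨m, rfl⟩ := hg y
    exact Subgroup.pow_mem _ (Subgroup.mem_zpowers g) m
  rw [← pow_mul, ← orderOf_dvd_iff_pow_eq_one, ho, pow_succ] at hx
  obtain ⟨l, rfl⟩ := Nat.dvd_of_mul_dvd_mul_right (Fact.out : p.Prime).pos hx
  exact ⟨l, pow_mul g _ l⟩

/-- The layer `Ω₁ ∩ ℧^j`. -/
def layer (G : Type*) [CommGroup G] (p j : ℕ) : Subgroup G :=
  (powMonoidHom p : G →* G).ker ⊓ (powMonoidHom (p ^ j) : G →* G).range

theorem mem_layer {G : Type*} [CommGroup G] {p j : ℕ} {x : G} :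
    x ∈ layer G p j ↔ x ^ p = 1 ∧ ∃ y, y ^ p ^ j = x := Iff.rfl

theorem layer_succ_le {G : Type*} [CommGroup G] {p j : ℕ} : layer G p (j + 1) ≤ layer G p j := by
  rintro x ⟨hx, y, hy⟩
  exact ⟨hx, y ^ p, by show (y ^ p) ^ p ^ j = x; rw [← pow_mul, ← pow_succ']; exact hy⟩

theorem layer_cyclic {G : Type*} [CommGroup G] [Finite G] {p : ℕ} [Fact p.Prime]
    (hG : IsPGroup p G) {ι : Type} [Fintype ι] (n : ι → ℕ) (hn : ∀ i, 1 < n i)
    (hinj : Function.Injective n) (e : G ≃* ((i : ι) → Multiplicative (ZMod (n i)))) (j : ℕ) :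
    ∃ u ∈ layer G p j, ∀ x ∈ layer G p j, ∃ c : ℕ, (u ^ c)⁻¹ * x ∈ layer G p (j + 1) := by
  classical
  have hN : ∀ i, ∃ m, n i = p ^ (m + 1) := by
    intro i
    have : NeZero (n i) := ⟨(zero_lt_one.trans (hn i)).ne'⟩
    obtain ⟨m, hm⟩ := IsPGroup.iff_card.1 (hG.of_surjective ((Pi.evalMonoidHom (fun i => Multiplicative (ZMod (n i))) i).comp e.toMonoidHom)
      (fun v => ⟨e.symm (Pi.mulSingle i v), by simp⟩))
    rw [Nat.card_congr Multiplicative.toAdd, Nat.card_zmod] at hm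
    rcases m with - | m
    · have := hn i; simp at hm; omega
    · exact ⟨m, hm⟩
  -- a component of an element of order `p` is a power of high exponent
  have hroot : ∀ i m, n i = p ^ (m + 1) → ∀ x : Multiplicative (ZMod (n i)), x ^ p = 1 →
      ∀ k ≤ m, ∃ y, y ^ p ^ k = x := by
    intro i m hm x hx k hk
    have hC : Nat.card (Multiplicative (ZMod (n i))) = p ^ (m + 1) := by
      rw [Nat.card_congr Multiplicative.toAdd, Nat.card_zmod, hm]
    obtain ⟨g, -, hg⟩ := exists_socle_generator hC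
    obtain ⟨l, rfl⟩ := hg x hx
    refine ⟨(g ^ p ^ (m - k)) ^ l, ?_⟩
    rw [← pow_mul, ← pow_mul, ← pow_mul]
    congr 1
    rw [mul_left_comm, ← pow_add, Nat.sub_add_cancel hk, mul_comm]
  have hcomp : ∀ {k : ℕ} {x : G}, x ∈ layer G p k → ∀ i,
      (e x i) ^ p = 1 ∧ ∃ y, y ^ p ^ k = e x i := by
    intro k x ⟨hx, y, hy⟩ i
    change x ^ p = 1 at hx
    change y ^ p ^ k = x at hy
    exact ⟨by rw [← Pi.pow_apply, ← map_pow, hx, map_one]; rfl,
      e y i, by rw [← Pi.pow_apply, ← map_pow, hy]⟩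
  have hsmall : ∀ {x : G}, x ∈ layer G p j → ∀ i m, n i = p ^ (m + 1) → m < j → e x i = 1 := by
    intro x hx i m hm hmj
    obtain ⟨-, y, hy⟩ := hcomp hx i
    rw [← hy, ← Nat.sub_add_cancel (Nat.succ_le_of_lt hmj), Nat.add_comm, pow_add, pow_mul]
    have : y ^ p ^ (m + 1) = 1 := by
      have hc : Nat.card (Multiplicative (ZMod (n i))) = p ^ (m + 1) := by
        rw [Nat.card_congr Multiplicative.toAdd, Nat.card_zmod, hm]
      rw [← hc]
      exact pow_card_eq_one'
    rw [this, one_pow]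
  have hnext : ∀ x ∈ layer G p j, (∀ i, n i = p ^ (j + 1) → e x i = 1) →
      x ∈ layer G p (j + 1) := by
    intro x hx h0
    choose m hm using hN
    have : ∀ i, ∃ y, y ^ p ^ (j + 1) = e x i := by
      intro i
      rcases Nat.lt_trichotomy (m i) j with h | h | h
      · exact ⟨1, by rw [one_pow, hsmall hx i _ (hm i) h]⟩
      · exact ⟨1, by rw [one_pow, h0 i (by rw [hm i, h])]⟩
      · exact hroot i _ (hm i) _ (hcomp hx i).1 _ h
    choose y hy using this
    exact ⟨hx.1, e.symm y, e.injective (by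
      show e (e.symm y ^ p ^ (j + 1)) = e x
      rw [map_pow, e.apply_symm_apply]
      exact funext hy)⟩
  by_cases hj : ∃ i₀, n i₀ = p ^ (j + 1)
  · obtain ⟨i₀, hi₀⟩ := hj
    obtain ⟨g, hgp, hg⟩ := exists_socle_generator (C := Multiplicative (ZMod (n i₀))) (p := p)
      (j := j) (by rw [Nat.card_congr Multiplicative.toAdd, Nat.card_zmod, hi₀])
    set u := e.symm (Pi.mulSingle i₀ (g ^ p ^ j)) with hu
    have hul : u ∈ layer G p j := by
      refine ⟨e.injective ?_, e.symm (Pi.mulSingle i₀ g), e.injective ?_⟩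
      · show e (u ^ p) = e 1
        rw [map_pow, hu, e.apply_symm_apply, map_one, ← Pi.mulSingle_pow, hgp, Pi.mulSingle_one]
      · show e (e.symm _ ^ p ^ j) = e u
        rw [map_pow, hu, e.apply_symm_apply, e.apply_symm_apply, Pi.mulSingle_pow]
    refine ⟨u, hul, fun x hx => ?_⟩
    obtain ⟨c, hc⟩ := hg _ (hcomp hx i₀).1
    refine ⟨c, hnext _ (Subgroup.mul_mem _ (Subgroup.inv_mem _ (Subgroup.pow_mem _ hul c)) hx)
      fun i hi => ?_⟩
    obtain rfl := hinj (hi.trans hi₀.symm)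
    rw [map_mul, map_inv, map_pow, hu, e.apply_symm_apply, Pi.mul_apply, Pi.inv_apply, Pi.pow_apply,
      Pi.mulSingle_eq_same, hc, inv_mul_cancel]
  · exact ⟨1, Subgroup.one_mem _, fun x hx => ⟨0, by
      simpa using hnext x hx fun i hi => absurd ⟨i, hi⟩ hj⟩⟩

theorem abelian_exponent {G : Type*} [CommGroup G] [Finite G] {p : ℕ} [Fact p.Prime]
    (hG : IsPGroup p G) {ι : Type} [Fintype ι] (n : ι → ℕ) (hn : ∀ i, 1 < n i)
    (hinj : Function.Injective n) (e : G ≃* ((i : ι) → Multiplicative (ZMod (n i))))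
    (H : Subgroup (MulAut G)) (hH : (Nat.card H).Coprime p) :
    IsMulCommutative H ∧ ∀ h ∈ H, h ^ (p - 1) = 1 := by
  obtain ⟨M, hM⟩ := IsPGroup.iff_card.1 hG
  have hexp : ∀ y : G, y ^ p ^ M = 1 := fun y => hM ▸ pow_card_eq_one'
  have hKM : layer G p M = ⊥ := le_bot_iff.1 (by
    rintro x ⟨-, y, hy⟩
    exact Subgroup.mem_bot.2 (hy.symm.trans (hexp y)))
  let T : ℕ → Subgroup G := fun t =>
    (layer G p (M - t % M)).comap (powMonoidHom (p ^ (t / M)) : G →* G)
  have hinv : ∀ h : H, ∀ t, ∀ x ∈ T t, (h : MulAut G) x ∈ T t := by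
    rintro h t x ⟨hx, y, hy⟩
    change (x ^ p ^ (t / M)) ^ p = 1 at hx
    change y ^ _ = x ^ p ^ (t / M) at hy
    refine ⟨?_, (h : MulAut G) y, ?_⟩
    · show ((h : MulAut G) x ^ p ^ (t / M)) ^ p = 1
      rw [← map_pow, ← map_pow, hx, map_one]
    · show (h : MulAut G) y ^ _ = (h : MulAut G) x ^ p ^ (t / M)
      rw [← map_pow, ← map_pow, hy]
  refine Agent.Fusion.Supersoluble.abelian_exponent_of_series hG H hH (n := M * M) (T := T) ?_ ?_
    (fun _ => inferInstance) hinv fun t ht => ?_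
  · refine le_bot_iff.1 fun x hx => ?_
    have h1 : x ^ p ^ (0 / M) ∈ layer G p (M - 0 % M) := hx
    simpa [hKM] using h1
  · refine top_le_iff.1 fun x _ => ?_
    show x ^ p ^ (M * M / M) ∈ layer G p (M - M * M % M)
    rcases Nat.eq_zero_or_pos M with h | h
    · rw [show x = 1 from by simpa [h] using hexp x, one_pow]
      exact Subgroup.one_mem _
    · rw [Nat.mul_div_cancel _ h, hexp]
      exact Subgroup.one_mem _
  have hMpos : 0 < M := by rcases Nat.eq_zero_or_pos M with h | h <;> simp_all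
  set i := t / M with hi
  set r := t % M with hr
  have hrM : r < M := Nat.mod_lt _ hMpos
  set j := M - r - 1 with hjdef
  have hTt : T t = (layer G p (j + 1)).comap (powMonoidHom (p ^ i) : G →* G) := by
    show (layer G p (M - r)).comap _ = _
    rw [show j + 1 = M - r by omega]
  have hTs : T (t + 1) = (layer G p j).comap (powMonoidHom (p ^ i) : G →* G) := by
    have hdm := Nat.div_add_mod t M
    rw [← hi, ← hr] at hdm
    by_cases hlast : r + 1 < M
    · have h1 : (t + 1) / M = i ∧ (t + 1) % M = r + 1 :=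
        (Nat.div_mod_unique hMpos).2 ⟨by omega, hlast⟩
      show (layer G p (M - (t + 1) % M)).comap _ = _
      rw [h1.2, h1.1, show M - (r + 1) = j by omega]
    · have h1 : (t + 1) / M = i + 1 ∧ (t + 1) % M = 0 :=
        (Nat.div_mod_unique hMpos).2 ⟨by rw [Nat.mul_succ]; omega, hMpos⟩
      have hj0 : j = 0 := by omega
      show (layer G p (M - (t + 1) % M)).comap _ = _
      rw [h1.2, h1.1, Nat.sub_zero, hKM, hj0]
      ext x
      constructor
      · intro hx
        have h2 : x ^ p ^ (i + 1) = 1 := Subgroup.mem_bot.1 hx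
        exact ⟨by show (x ^ p ^ i) ^ p = 1; rw [← pow_mul, ← pow_succ]; exact h2,
          x ^ p ^ i, by show (x ^ p ^ i) ^ p ^ 0 = x ^ p ^ i; simp⟩
      · rintro ⟨hx, -⟩
        change (x ^ p ^ i) ^ p = 1 at hx
        refine Subgroup.mem_bot.2 ?_
        show x ^ p ^ (i + 1) = 1
        rw [pow_succ, pow_mul]
        exact hx
  rw [hTt, hTs]
  obtain ⟨u, hu, hlay⟩ := layer_cyclic hG n hn hinj e j
  have hmem : ∀ {k : ℕ} {x : G}, x ∈ (layer G p k).comap (powMonoidHom (p ^ i) : G →* G) ↔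
      x ^ p ^ i ∈ layer G p k := Iff.rfl
  by_cases hz : ∀ z ∈ (layer G p j).comap (powMonoidHom (p ^ i) : G →* G),
      z ^ p ^ i ∈ layer G p (j + 1)
  · exact ⟨1, Subgroup.one_mem _, Subgroup.pow_mem _ (Subgroup.one_mem _) _,
      fun y hy => ⟨0, hmem.2 (by simpa using hz y hy)⟩⟩
  push Not at hz
  obtain ⟨z, hz, hzn⟩ := hz
  refine ⟨z, hz, hmem.2 ?_, fun y hy => ?_⟩
  · rw [← pow_mul, mul_comm, pow_mul, show (z ^ p ^ i) ^ p = 1 from (mem_layer.1 hz).1]
    exact Subgroup.one_mem _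
  obtain ⟨cz, hcz⟩ := hlay _ hz
  obtain ⟨cy, hcy⟩ := hlay _ hy
  set π := QuotientGroup.mk' (layer G p (j + 1))
  have e1 : π (z ^ p ^ i) = π u ^ cz := by
    rw [← map_pow]; exact (QuotientGroup.eq.2 hcz).symm
  have e2 : π (y ^ p ^ i) = π u ^ cy := by
    rw [← map_pow]; exact (QuotientGroup.eq.2 hcy).symm
  have hup : π u ^ p = 1 := by rw [← map_pow, (mem_layer.1 hu).1, map_one]
  have hnd : ¬ p ∣ cz := fun ⟨d, hd⟩ => hzn ((QuotientGroup.eq_one_iff _).1 (by
    show π (z ^ p ^ i) = 1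
    rw [e1, hd, pow_mul, hup, one_pow]))
  refine ⟨((cy : ZMod p) / (cz : ZMod p)).val, hmem.2 ((QuotientGroup.eq_one_iff _).1 ?_)⟩
  show π (((z ^ _)⁻¹ * y) ^ p ^ i) = 1
  rw [mul_pow, inv_pow, ← pow_mul, mul_comm _ (p ^ i), pow_mul, map_mul, map_inv, map_pow, e1, e2,
    inv_mul_eq_one, ← pow_mul]
  have hord : orderOf (π u) ∣ p := orderOf_dvd_of_pow_eq_one hup
  refine pow_eq_pow_iff_modEq.2 (Nat.ModEq.of_dvd hord ((ZMod.natCast_eq_natCast_iff _ _ _).1 ?_))
  have : (cz : ZMod p) ≠ 0 := by rwa [Ne, ZMod.natCast_eq_zero_iff]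
  rw [Nat.cast_mul, ZMod.natCast_zmod_val, mul_comm, div_mul_cancel₀ _ this]

/-- The automorphism `(x, y) ↦ (y, x⁻¹ y⁻¹)` of order three. -/
def rho (A : Type*) [CommGroup A] : MulAut (A × A) where
  toFun x := (x.2, x.1⁻¹ * x.2⁻¹)
  invFun x := (x.2⁻¹ * x.1⁻¹, x.1)
  left_inv x := Prod.ext (by
    show (x.1⁻¹ * x.2⁻¹)⁻¹ * x.2⁻¹ = x.1
    rw [mul_inv, inv_inv, inv_inv, mul_inv_cancel_right]) rfl
  right_inv x := Prod.ext rfl (by
    show (x.2⁻¹ * x.1⁻¹)⁻¹ * x.1⁻¹ = x.2
    rw [mul_inv, inv_inv, inv_inv, mul_inv_cancel_right])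
  map_mul' x y := Prod.ext rfl (by
    show (x.1 * y.1)⁻¹ * (x.2 * y.2)⁻¹ = x.1⁻¹ * x.2⁻¹ * (y.1⁻¹ * y.2⁻¹)
    rw [mul_inv, mul_inv, mul_mul_mul_comm])

theorem rho_pow_three (A : Type*) [CommGroup A] : rho A ^ 3 = 1 := MulEquiv.ext fun x => by
  show rho A (rho A (rho A x)) = x
  have h1 : ∀ u v : A, v⁻¹ * (u⁻¹ * v⁻¹)⁻¹ = u := fun u v => by
    rw [mul_inv, inv_inv, inv_inv, mul_comm u v, inv_mul_cancel_left]
  refine Prod.ext (h1 x.1 x.2) ?_
  exact h1 x.2 (x.1⁻¹ * x.2⁻¹)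

/-- A product with two equal cyclic factors has a coprime group of automorphisms which is not
abelian of exponent dividing `p - 1`. -/
theorem not_abelian_exponent {G : Type*} [Group G] {p n : ℕ} [Fact p.Prime] (hn : 0 < n)
    {H : Type*} [CommGroup H]
    (e : G ≃* (Multiplicative (ZMod (p ^ n)) × Multiplicative (ZMod (p ^ n))) × H)
    (h : ∀ K : Subgroup (MulAut G), (Nat.card K).Coprime p →
      IsMulCommutative K ∧ ∀ k ∈ K, k ^ (p - 1) = 1) : False := by
  let A := Multiplicative (ZMod (p ^ n))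
  have hp := (Fact.out : p.Prime)
  have : Fact (1 < p ^ n) := ⟨Nat.one_lt_pow hn.ne' hp.one_lt⟩
  let Φ : MulAut (A × A) →* MulAut G :=
    { toFun := fun a => e.trans ((MulEquiv.prodCongr a (MulEquiv.refl H)).trans e.symm)
      map_one' := MulEquiv.ext fun x => e.symm_apply_apply x
      map_mul' := fun a b => MulEquiv.ext fun x => by
        show e.symm ((a * b) (e x).1, (e x).2) =
          e.symm (a (e (e.symm (b (e x).1, (e x).2))).1, (e (e.symm (b (e x).1, (e x).2))).2)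
        rw [e.apply_symm_apply]
        rfl }
  have hΦ : Function.Injective Φ := fun a b hab => MulEquiv.ext fun x => by
    have := congrArg (fun g : MulAut G => (e (g (e.symm (x, 1)))).1) hab
    simp [Φ] at this
    exact this
  set a : A := Multiplicative.ofAdd (1 : ZMod (p ^ n))
  have ha : a ≠ 1 := fun h0 => one_ne_zero (α := ZMod (p ^ n)) (Multiplicative.ofAdd.injective h0)
  rcases hp.eq_two_or_odd with h2 | h2
  · let ρ : MulAut (A × A) := rho A
    have hρ3 : ρ ^ 3 = 1 := rho_pow_three A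
    have hρ1 : ρ ≠ 1 := fun h0 => by
      have := congrArg (fun g : MulAut (A × A) => (g (a, 1)).1) h0
      exact ha this.symm
    have h3 : orderOf (Φ ρ) = 3 := by
      rw [orderOf_injective Φ hΦ]
      exact orderOf_eq_prime hρ3 hρ1
    obtain ⟨-, hk⟩ := h (Subgroup.zpowers (Φ ρ)) (by rw [Nat.card_zpowers, h3, h2]; decide)
    have := hk _ (Subgroup.mem_zpowers _)
    rw [show p - 1 = 1 by omega, pow_one] at this
    exact hρ1 (hΦ (by rw [this, map_one]))
  · let σ : MulAut (A × A) := MulEquiv.prodCongr (MulEquiv.inv A) (MulEquiv.refl A)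
    let σ' : MulAut (A × A) := MulEquiv.prodCongr (MulEquiv.refl A) (MulEquiv.inv A)
    let τ : MulAut (A × A) := MulEquiv.prodComm
    have hs : σ ^ 2 = 1 := MulEquiv.ext fun x => Prod.ext (inv_inv _) rfl
    have hs' : σ' ^ 2 = 1 := MulEquiv.ext fun x => Prod.ext rfl (inv_inv _)
    have ht : τ ^ 2 = 1 := MulEquiv.ext fun x => rfl
    have hss : σ * σ' = σ' * σ := MulEquiv.ext fun x => rfl
    have hts : τ * σ * τ⁻¹ = σ' := MulEquiv.ext fun x => rfl
    have hts' : τ * σ' * τ⁻¹ = σ := MulEquiv.ext fun x => rfl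
    have hz : ∀ g : MulAut (A × A), g ^ 2 = 1 → IsPGroup 2 (Subgroup.zpowers g) := fun g hg => by
      obtain ⟨k, -, hk⟩ := (Nat.dvd_prime_pow Nat.prime_two).1
        (show orderOf g ∣ 2 ^ 1 from orderOf_dvd_of_pow_eq_one hg)
      exact IsPGroup.of_card (n := k) (by rw [Nat.card_zpowers, hk])
    have : Fact (Nat.Prime 2) := ⟨Nat.prime_two⟩
    set N := Subgroup.zpowers σ ⊔ Subgroup.zpowers σ' with hN
    have hN2 : IsPGroup 2 N := IsPGroup.to_sup_of_normal_right' (hz _ hs) (hz _ hs') (by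
      refine Subgroup.zpowers_le.2 (Subgroup.mem_normalizer_iff.2 fun x => ?_)
      constructor
      · rintro ⟨j, rfl⟩
        refine ⟨j, ?_⟩
        show σ' ^ j = σ * σ' ^ j * σ⁻¹
        rw [(show Commute σ σ' from hss).zpow_right j |>.eq, mul_inv_cancel_right]
      · rintro ⟨j, hj⟩
        refine ⟨j, ?_⟩
        show σ' ^ j = x
        change σ' ^ j = σ * x * σ⁻¹ at hj
        have := (show Commute σ σ' from hss).zpow_right j
        rw [show x = σ⁻¹ * (σ * x * σ⁻¹) * σ by group, ← hj, mul_assoc, ← this.eq,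
          inv_mul_cancel_left])
    have htN : τ ∈ Subgroup.normalizer (N : Set (MulAut (A × A))) := by
      have hmap : N.map (MulAut.conj τ).toMonoidHom = N := by
        rw [hN, Subgroup.map_sup, MonoidHom.map_zpowers, MonoidHom.map_zpowers]
        show Subgroup.zpowers (τ * σ * τ⁻¹) ⊔ Subgroup.zpowers (τ * σ' * τ⁻¹) = _
        rw [hts, hts', sup_comm]
      refine Subgroup.mem_normalizer_iff.2 fun x => ⟨fun hx => hmap.le ⟨x, hx, rfl⟩, fun hx => ?_⟩
      obtain ⟨y, hy, hyx⟩ := hmap.ge hx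
      exact (MulAut.conj τ).injective hyx ▸ hy
    have hK2 : IsPGroup 2 (Subgroup.zpowers τ ⊔ N : Subgroup (MulAut (A × A))) :=
      IsPGroup.to_sup_of_normal_right' (hz _ ht) hN2 (Subgroup.zpowers_le.2 htN)
    set K := Subgroup.zpowers τ ⊔ N
    have : Finite (MulAut (A × A)) := inferInstance
    obtain ⟨k, hk⟩ := IsPGroup.iff_card.1 hK2
    obtain ⟨hc, -⟩ := h (K.map Φ) (by
      rw [Subgroup.card_map_of_injective hΦ, hk]
      exact (Nat.Coprime.pow_left _ ((Nat.coprime_primes Nat.prime_two hp).2 (by omega))))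
    have hmem1 : τ ∈ K := Subgroup.mem_sup_left (Subgroup.mem_zpowers τ)
    have hmem2 : σ ∈ K :=
      Subgroup.mem_sup_right (Subgroup.mem_sup_left (Subgroup.mem_zpowers σ))
    have := congrArg Subtype.val (hc.1.1 ⟨_, ⟨τ, hmem1, rfl⟩⟩ ⟨_, ⟨σ, hmem2, rfl⟩⟩)
    change Φ τ * Φ σ = Φ σ * Φ τ at this
    rw [← map_mul, ← map_mul] at this
    have h4 := congrArg (fun g : MulAut (A × A) => (g (a, 1)).2) (hΦ this)
    change a⁻¹ = a at h4
    have h5 : a ^ 2 = 1 := by rw [pow_two]; nth_rewrite 1 [← h4]; exact inv_mul_cancel a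
    have h6 : orderOf a = p ^ n := by
      rw [orderOf_ofAdd_eq_addOrderOf, ZMod.addOrderOf_one]
    have h7 : p ^ n ∣ 2 := h6 ▸ orderOf_dvd_of_pow_eq_one h5
    have := (dvd_pow_self p hn.ne').trans h7
    have := Nat.le_of_dvd (by norm_num) this
    have := hp.two_le
    omega

/-- Let S be a finite abelian p-group. Every saturated fusion system over S is supersoluble (S has a chain of F-strongly closed subgroups from 1 to S with cyclic steps) if and only if the invariants of S are pairwise distinct, that is, S is not isomorphic to a direct product (Z/p^n × Z/p^n) × H with n ≥ 1. -/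
theorem result {Ω : Type*} [Group Ω] {S : Subgroup Ω} [Finite S] (p : ℕ) [Fact p.Prime] (hS : IsPGroup p ↥S) (hab : IsMulCommutative ↥S) : (∀ F : Cfsg.FusionSystem S, F.IsSaturated p → (∃ (m : ℕ) (c : Fin (m + 1) → Subgroup Ω), c 0 = ⊥ ∧ c (Fin.last m) = S ∧ (∀ i : Fin (m + 1), F.StronglyClosed (c i)) ∧ ∀ i : Fin m, c i.castSucc ≤ c i.succ ∧ ∃ x ∈ S, c i.succ = c i.castSucc ⊔ Subgroup.zpowers x)) ↔ ¬ ∃ (n : ℕ) (H : Type) (_ : CommGroup H), 0 < n ∧ Nonempty (↥S ≃* (Multiplicative (ZMod (p ^ n)) × Multiplicative (ZMod (p ^ n))) × H) := by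
  let : CommGroup S := { (inferInstance : Group S) with mul_comm := hab.1.1 }
  rw [S5283.result p hS]
  constructor
  · rintro ⟨-, hH⟩ ⟨n, H, _, hn, ⟨e⟩⟩
    exact not_abelian_exponent hn e hH
  · intro h
    refine ⟨fun F hF => Agent.Fusion.isNormal_of_abelian hS hF ?_ ?_, fun H hH => ?_⟩
    · exact ⟨le_rfl, fun _ _ φ hφ x => Agent.Fusion.apply_mem hφ x⟩
    · exact hab
    obtain ⟨ι, _, n, hn, ⟨e⟩⟩ := CommGroup.equiv_prod_multiplicative_zmod_of_finite S
    refine abelian_exponent hS n hn ?_ e H hH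
    intro i j hij
    by_contra hne
    classical
    have hi : ∃ m, 0 < m ∧ n i = p ^ m := by
      have : NeZero (n i) := ⟨(zero_lt_one.trans (hn i)).ne'⟩
      obtain ⟨m, hm⟩ := IsPGroup.iff_card.1 (hS.of_surjective
        ((Pi.evalMonoidHom (fun i => Multiplicative (ZMod (n i))) i).comp e.toMonoidHom)
        (fun v => ⟨e.symm (Pi.mulSingle i v), by simp⟩))
      rw [Nat.card_congr Multiplicative.toAdd, Nat.card_zmod] at hm
      exact ⟨m, Nat.pos_of_ne_zero (by rintro rfl; have := hn i; simp at hm; omega), hm⟩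
    obtain ⟨m, hm0, hm⟩ := hi
    let c : ∀ k, n k = p ^ m → Multiplicative (ZMod (n k)) ≃* Multiplicative (ZMod (p ^ m)) :=
      fun k hk => AddEquiv.toMultiplicative (ZMod.ringEquivCongr hk).toAddEquiv
    let R := (k : {k // k ≠ i ∧ k ≠ j}) → Multiplicative (ZMod (n k))
    let g : ((k : ι) → Multiplicative (ZMod (n k))) →*
        (Multiplicative (ZMod (p ^ m)) × Multiplicative (ZMod (p ^ m))) × R :=
      MonoidHom.prod (MonoidHom.prod
        ((c i hm).toMonoidHom.comp (Pi.evalMonoidHom _ i))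
        ((c j (hij ▸ hm)).toMonoidHom.comp (Pi.evalMonoidHom _ j)))
        { toFun := fun v k => v k.1, map_one' := rfl, map_mul' := fun _ _ => rfl }
    refine h ⟨m, R, inferInstance, hm0, ⟨e.trans (MulEquiv.ofBijective g ⟨?_, ?_⟩)⟩⟩
    · intro v w hvw
      funext k
      by_cases hki : k = i
      · subst hki; exact (c k hm).injective (congrArg (fun t => t.1.1) hvw)
      by_cases hkj : k = j
      · subst hkj; exact (c k (hij ▸ hm)).injective (congrArg (fun t => t.1.2) hvw)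
      exact congrArg (fun t => t.2 ⟨k, hki, hkj⟩) hvw
    · rintro ⟨⟨u, v⟩, r⟩
      refine ⟨fun k => if hki : k = i then hki ▸ (c i hm).symm u
        else if hkj : k = j then hkj ▸ (c j (hij ▸ hm)).symm v else r ⟨k, hki, hkj⟩, ?_⟩
      refine Prod.ext (Prod.ext ?_ ?_) (funext fun k => ?_)
      · simp [g]
      · simp [g, Ne.symm hne]
      · simp [g, k.2.1, k.2.2]

end Cfsg.Agent.S5284
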