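import Cfsg.Statements.S5286
import Cfsg.Agent.Lib.LearyStancu.Graph
-- import your own Cfsg.Agent.* helpers here

set_option autoImplicit false
open Cfsg

namespace Cfsg.Agent.S5286

universe u

open Cfsg.Agent.LearyStancu

/-- Two injective homomorphisms give translation actions that a permutation intertwines. -/
theorem exists_perm {S A : Type u} [Group S] [Finite S] [Group A] (f g : A →* S)
    (hf : Function.Injective f) (hg : Function.Injective g) :
    ∃ σ : Equiv.Perm S, ∀ (a : A) (s : S), σ (f a * s) = g a * σ s := by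
  classical
  let pr : ∀ (K : Subgroup S), S → K := fun K s =>
    ⟨(Quotient.out (s : S ⧸ K))⁻¹ * s, by
      have h := QuotientGroup.out_eq' (s : S ⧸ K)
      exact QuotientGroup.eq.1 h⟩
  let split : ∀ (K : Subgroup S), S ≃ (S ⧸ K) × K := fun K =>
    { toFun := fun s => ((s : S ⧸ K), pr K s)
      invFun := fun x => Quotient.out x.1 * (x.2 : S)
      left_inv := fun s => mul_inv_cancel_left _ _
      right_inv := fun x => by
        have h : ((Quotient.out x.1 * (x.2 : S) : S) : S ⧸ K) = x.1 := by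
          rw [QuotientGroup.mk_mul_of_mem _ x.2.2, QuotientGroup.out_eq']
        refine Prod.ext h (Subtype.ext ?_)
        show (Quotient.out ((Quotient.out x.1 * (x.2 : S) : S) : S ⧸ K))⁻¹ *
          (Quotient.out x.1 * (x.2 : S)) = (x.2 : S)
        rw [h, inv_mul_cancel_left] }
  have hcard : Nat.card (S ⧸ f.range) = Nat.card (S ⧸ g.range) := by
    have h1 := Subgroup.card_mul_index f.range
    have h2 := Subgroup.card_mul_index g.range
    have h3 : Nat.card f.range = Nat.card g.range := Nat.card_congr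
      ((MonoidHom.ofInjective hf).symm.trans (MonoidHom.ofInjective hg)).toEquiv
    rw [h3, ← h2] at h1
    exact Nat.eq_of_mul_eq_mul_left Nat.card_pos h1
  let e : (S ⧸ f.range) ≃ (S ⧸ g.range) := (Finite.card_eq.1 hcard).some
  let i : f.range ≃* g.range := (MonoidHom.ofInjective hf).symm.trans (MonoidHom.ofInjective hg)
  let τ : S ≃ S := (split f.range).trans ((e.prodCongr i.toEquiv).trans (split g.range).symm)
  have hτ : ∀ (a : A) (s : S), τ (s * f a) = τ s * g a := by
    intro a s
    have hq : ((s * f a : S) : S ⧸ f.range) = (s : S ⧸ f.range) :=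
      QuotientGroup.mk_mul_of_mem _ ⟨a, rfl⟩
    show Quotient.out (e ((s * f a : S) : S ⧸ f.range)) * ((i (pr f.range (s * f a)) : g.range) : S) = _
    have hp : pr f.range (s * f a) = pr f.range s * ⟨f a, a, rfl⟩ := Subtype.ext (by
      show (Quotient.out ((s * f a : S) : S ⧸ f.range))⁻¹ * (s * f a) = _
      rw [hq, ← mul_assoc]; rfl)
    rw [hp, hq, map_mul, Subgroup.coe_mul, ← mul_assoc]
    congr 1
    show ((MonoidHom.ofInjective hg ((MonoidHom.ofInjective hf).symm ⟨f a, a, rfl⟩) : g.range) : S) = g a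
    rw [show (⟨f a, a, rfl⟩ : f.range) = MonoidHom.ofInjective hf a from rfl, MulEquiv.symm_apply_apply]
    rfl
  refine ⟨(Equiv.inv S).trans (τ.trans (Equiv.inv S)), fun a s => ?_⟩
  show (τ (f a * s)⁻¹)⁻¹ = g a * (τ s⁻¹)⁻¹
  rw [mul_inv_rev, ← map_inv f, hτ, mul_inv_rev, map_inv, inv_inv]

/-- Every fusion system F over a finite p-group S, saturated or not, is realized by a possibly infinite group: there are a group G and an injective homomorphism ι of S into G such that the maps of F are exactly the conjugations by elements of G between subgroups of ι(S), every finite subgroup of G is conjugate to a subgroup of ι(S), and G has a free normal subgroup whose index divides (#S)!. -/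
theorem result {Ω : Type u} [Group Ω] {S : Subgroup Ω} [Finite S] (p : ℕ) [Fact p.Prime] (hS : IsPGroup p ↥S) (F : Cfsg.FusionSystem S) : ∃ (G : Type u) (_ : Group G) (ι : ↥S →* G), F.IsRealizedBy ι ∧ (∀ H : Subgroup G, Finite ↥H → ∃ g : G, ∀ h ∈ H, g * h * g⁻¹ ∈ ι.range) ∧ ∃ N : Subgroup G, N.Normal ∧ IsFreeGroup ↥N ∧ N.index ∣ (Nat.card ↥S).factorial := by
  classical
  -- the maps of the system
  let I : Type u := {pf : (P : Subgroup Ω) × (P →* Ω) // pf.2 ∈ F.Hom pf.1}
  let fi : ∀ i : I, i.1.1 →* S := fun i => Subgroup.inclusion (F.le_of_mem i.2).1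
  let gi : ∀ i : I, i.1.1 →* S := fun i => i.1.2.codRestrict S (F.le_of_mem i.2).2
  have hfi : ∀ i, Function.Injective (fi i) := fun i => Subgroup.inclusion_injective _
  have hgi : ∀ i, Function.Injective (gi i) := fun i a b h =>
    F.injective_of_mem i.2 (congrArg Subtype.val h)
  choose σ hσ using fun i => exists_perm (fi i) (gi i) (hfi i) (hgi i)
  let lam : ↥S →* Equiv.Perm ↥S := MulAction.toPermHom ↥S ↥S
  have hlam : Function.Injective lam := fun a b h => by
    have := Equiv.congr_fun h 1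
    simpa [lam] using this
  have hcomm : ∀ i x, σ i * lam (fi i x) = lam (gi i x) * σ i := fun i x =>
    Equiv.ext fun s => hσ i x s
  let Q := Equiv.Perm ↥S
  let V := Q ⧸ lam.range
  let K : I → Subgroup Q := fun i => (lam.comp (gi i)).range
  let E := Σ i : I, Q ⧸ K i
  let _ : MulAction Q E :=
    { smul := fun q e => ⟨e.1, q • e.2⟩
      one_smul := fun e => Sigma.ext rfl (heq_of_eq (one_smul Q e.2))
      mul_smul := fun q r e => Sigma.ext rfl (heq_of_eq (mul_smul q r e.2)) }
  let srcF : E → V := fun e => Quotient.liftOn' e.2 (fun q => ((q : Q) : V)) (fun a b h => by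
    rw [QuotientGroup.leftRel_apply] at h
    obtain ⟨x, hx⟩ := h
    exact QuotientGroup.eq.2 ⟨gi e.1 x, hx⟩)
  let tgtF : E → V := fun e => Quotient.liftOn' e.2 (fun q => ((q * σ e.1 : Q) : V)) (fun a b h => by
    rw [QuotientGroup.leftRel_apply] at h
    obtain ⟨x, hx⟩ := h
    refine QuotientGroup.eq.2 ⟨fi e.1 x, ?_⟩
    have hx' : b = a * lam (gi e.1 x) := by
      rw [show lam (gi e.1 x) = a⁻¹ * b from hx, mul_inv_cancel_left]
    rw [hx', mul_assoc, ← hcomm]
    group)
  let X : QGraph Q V E :=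
    { src := srcF
      tgt := tgtF
      src_smul := fun q e => by
        obtain ⟨i, e⟩ := e
        induction e using QuotientGroup.induction_on with
        | _ a => rfl
      tgt_smul := fun q e => by
        obtain ⟨i, e⟩ := e
        induction e using QuotientGroup.induction_on with
        | _ a =>
          show ((q * a * σ i : Q) : V) = ((q * (a * σ i) : Q) : V)
          rw [mul_assoc] }
  let v₀ : V := ((1 : Q) : V)
  have hv₀ : ∀ q : Q, q • v₀ = (q : V) := fun q => by
    show ((q * 1 : Q) : V) = _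
    rw [mul_one]
  have htrans : ∀ b : V, ∃ q : Q, q • v₀ = b := fun b => by
    obtain ⟨q, rfl⟩ := QuotientGroup.mk_surjective b
    exact ⟨q, hv₀ q⟩
  let G := X.fund v₀
  let ι : ↥S →* G :=
    ((SemidirectProduct.inr : Q →* FreeGroup E ⋊[act] Q).comp lam).codRestrict G fun s => by
      refine X.mem_fund.2 ?_
      show X.Walk v₀ (1 : FreeGroup E).toWord (lam s • v₀)
      rw [FreeGroup.toWord_one, hv₀]
      exact QuotientGroup.eq.2 ⟨s, by simp⟩
  have hιinj : Function.Injective ι := fun a b h =>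
    hlam (congrArg (fun g : G => (g : FreeGroup E ⋊[act] Q).right) h)
  have hrange : ∀ g : G, (g : FreeGroup E ⋊[act] Q).left = 1 → g ∈ ι.range := by
    intro g hg
    have hw := X.mem_fund.1 g.2
    rw [hg, FreeGroup.toWord_one, hv₀] at hw
    obtain ⟨s, hs⟩ := QuotientGroup.eq.1 (show ((1 : Q) : V) = _ from hw)
    rw [inv_one, one_mul] at hs
    exact ⟨s, Subtype.ext (SemidirectProduct.ext hg.symm hs)⟩
  -- the stable letters
  have hstable : ∀ i : I, ∃ t : G, (t : FreeGroup E ⋊[act] Q).left = FreeGroup.of (⟨i, ((1 : Q) : Q ⧸ K i)⟩ : E) ∧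
      (t : FreeGroup E ⋊[act] Q).right = σ i := fun i =>
    ⟨⟨⟨FreeGroup.of (⟨i, ((1 : Q) : Q ⧸ K i)⟩ : E), σ i⟩, X.mem_fund.2 (by
      show X.Walk v₀ (FreeGroup.of (⟨i, ((1 : Q) : Q ⧸ K i)⟩ : E)).toWord (σ i • v₀)
      rw [FreeGroup.toWord_of, hv₀]
      exact ⟨rfl, by show ((1 * σ i : Q) : V) = _; rw [one_mul]⟩)⟩, rfl, rfl⟩
  choose t ht1 ht2 using hstable
  have htconj : ∀ i x, t i * ι (fi i x) * (t i)⁻¹ = ι (gi i x) := by
    intro i x
    rw [mul_inv_eq_iff_eq_mul]
    refine Subtype.ext (SemidirectProduct.ext ?_ ?_)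
    · show (t i : FreeGroup E ⋊[act] Q).left * act _ 1 =
        1 * act (lam (gi i x)) (t i : FreeGroup E ⋊[act] Q).left
      rw [map_one, mul_one, one_mul, ht1]
      show _ = FreeGroup.of (⟨i, ((lam (gi i x) * 1 : Q) : Q ⧸ K i)⟩ : E)
      congr 2
      exact QuotientGroup.eq.2 ⟨x, by simp⟩
    · show (t i : FreeGroup E ⋊[act] Q).right * lam (fi i x) = lam (gi i x) * _
      rw [ht2, hcomm]
  -- conjugation in `G` gives only maps of the system
  have key : ∀ (n : ℕ) (g : G), (g : FreeGroup E ⋊[act] Q).left.toWord.length = n →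
      ∀ (P : Subgroup Ω) (hP : P ≤ S) (φ : P →* Ω) (hφ : ∀ x : P, φ x ∈ S),
        (∀ x : P, ι ⟨φ x, hφ x⟩ = g * ι ⟨x, hP x.2⟩ * g⁻¹) → φ ∈ F.Hom P := by
    intro n
    induction n using Nat.strong_induction_on with
    | _ n ih =>
    intro g hn P hP φ hφ hg
    cases hL : (g : FreeGroup E ⋊[act] Q).left.toWord with
    | nil =>
      obtain ⟨s, rfl⟩ := hrange g (FreeGroup.toWord_eq_nil_iff.1 hL)
      have : φ = conjHom P (s : Ω) := MonoidHom.ext fun x => by
        have := hg x
        rw [← map_inv, ← map_mul, ← map_mul] at this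
        exact congrArg Subtype.val (hιinj this)
      rw [this]
      exact F.conj_mem hP s.2
    | cons l L =>
      -- the image fixes the word
      have hfix : ∀ x : P, (lam ⟨φ x, hφ x⟩) • l.1 = l.1 := by
        intro x
        have h := hg x
        rw [eq_mul_inv_iff_mul_eq] at h
        have h' := congrArg (fun a : G => (a : FreeGroup E ⋊[act] Q).left.toWord) h
        simp only [Subgroup.coe_mul, SemidirectProduct.mul_left] at h'
        rw [show ((ι ⟨x, hP x.2⟩ : G) : FreeGroup E ⋊[act] Q).left = 1 from rfl,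
          show ((ι ⟨φ x, hφ x⟩ : G) : FreeGroup E ⋊[act] Q).left = 1 from rfl,
          show ((ι ⟨φ x, hφ x⟩ : G) : FreeGroup E ⋊[act] Q).right = lam ⟨φ x, hφ x⟩ from rfl,
          one_mul, map_one, mul_one, QGraph.toWord_act, hL, List.map_cons] at h'
        exact congrArg Prod.fst (List.cons.inj h').1
      obtain ⟨⟨i, e⟩, b⟩ := l
      induction e using QuotientGroup.induction_on with
      | _ q₁ =>
      have hwalk := X.mem_fund.1 g.2
      rw [hL] at hwalk
      have hfix' : ∀ x : P, ∃ w : i.1.1, q₁⁻¹ * lam ⟨φ x, hφ x⟩ * q₁ = lam (gi i w) := by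
        intro x
        have h := eq_of_heq (Sigma.mk.inj (show (⟨i, ((lam ⟨φ x, hφ x⟩ * q₁ : Q) : Q ⧸ K i)⟩ : E) =
          ⟨i, ((q₁ : Q) : Q ⧸ K i)⟩ from hfix x)).2
        obtain ⟨w, hw'⟩ := QuotientGroup.eq.1 h.symm
        exact ⟨w, by rw [show lam (gi i w) = q₁⁻¹ * (lam ⟨φ x, hφ x⟩ * q₁) from hw', mul_assoc]⟩
      choose w hwq using hfix'
      let w' : P →* i.1.1 :=
        { toFun := w
          map_one' := hgi i (hlam (by
            have e : (⟨φ 1, hφ 1⟩ : ↥S) = 1 := Subtype.ext (map_one φ)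
            rw [← hwq, e, map_one, map_one, map_one, mul_one]
            exact inv_mul_cancel q₁))
          map_mul' := fun x y => hgi i (hlam (by
            have e : (⟨φ (x * y), hφ _⟩ : ↥S) = ⟨φ x, hφ x⟩ * ⟨φ y, hφ y⟩ :=
              Subtype.ext (map_mul φ x y)
            rw [← hwq, e, map_mul (gi i), map_mul lam, map_mul lam, ← hwq, ← hwq]
            simp [mul_assoc])) }
      -- the remaining word is shorter
      have hshort : ∀ pw : G, (pw : FreeGroup E ⋊[act] Q).left =
          FreeGroup.mk [((⟨i, ((q₁ : Q) : Q ⧸ K i)⟩ : E), b)] →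
          ((pw⁻¹ * g : G) : FreeGroup E ⋊[act] Q).left.toWord.length < n := by
        intro pw hleft
        show (act (pw : FreeGroup E ⋊[act] Q).right⁻¹ (pw : FreeGroup E ⋊[act] Q).left⁻¹ *
          act (pw : FreeGroup E ⋊[act] Q).right⁻¹ (g : FreeGroup E ⋊[act] Q).left).toWord.length < n
        rw [← map_mul, QGraph.toWord_act, List.length_map, hleft, ← hn, hL,
          ← FreeGroup.mk_toWord (x := (g : FreeGroup E ⋊[act] Q).left), hL]
        have : (FreeGroup.mk [((⟨i, ((q₁ : Q) : Q ⧸ K i)⟩ : E), b)])⁻¹ *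
            FreeGroup.mk (((⟨i, ((q₁ : Q) : Q ⧸ K i)⟩ : E), b) :: L) = FreeGroup.mk L := by
          rw [inv_mul_eq_iff_eq_mul, FreeGroup.mul_mk]
          rfl
        rw [this, FreeGroup.toWord_mk, FreeGroup.IsReduced.reduce_eq]
        · simp
        have hr : FreeGroup.IsReduced (((⟨i, ((q₁ : Q) : Q ⧸ K i)⟩ : E), b) :: L) :=
          hL ▸ FreeGroup.isReduced_toWord
        exact hr.tail
      -- conjugation by an element of `S` after a map of the system
      have hlast : ∀ (s : ↥S) (χ : P →* Ω) (hχ : χ ∈ F.Hom P),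
          (∀ x : P, φ x = (s : Ω) * χ x * (s : Ω)⁻¹) → φ ∈ F.Hom P := by
        intro s χ hχ hx
        have := F.comp_mem hχ (F.conj_mem (P := S) le_rfl s.2) (F.le_of_mem hχ).2
        convert this using 1
        exact MonoidHom.ext hx
      cases b with
      | true =>
        obtain ⟨hsrc, -⟩ := hwalk
        obtain ⟨s, hs⟩ := QuotientGroup.eq.1 (show ((1 : Q) : V) = ((q₁ : Q) : V) from hsrc)
        rw [inv_one, one_mul] at hs
        have hleft : ((ι s * t i : G) : FreeGroup E ⋊[act] Q).left =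
            FreeGroup.mk [((⟨i, ((q₁ : Q) : Q ⧸ K i)⟩ : E), true)] := by
          show 1 * act (lam s) (t i : FreeGroup E ⋊[act] Q).left = _
          rw [one_mul, ht1]
          show FreeGroup.of (⟨i, ((lam s * 1 : Q) : Q ⧸ K i)⟩ : E) = _
          rw [mul_one, hs]
          rfl
        have hy : ∀ x : P, (⟨φ x, hφ x⟩ : ↥S) = s * gi i (w x) * s⁻¹ := fun x => hlam (by
          rw [map_mul, map_mul, map_inv, ← hwq, hs]
          simp [mul_assoc])
        let ψ : P →* Ω := i.1.1.subtype.comp w'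
        have hψ : ψ ∈ F.Hom P := by
          refine ih _ (hshort _ hleft) _ rfl P hP ψ (fun x => (F.le_of_mem i.2).1 (w x).2) fun x => ?_
          show ι (fi i (w x)) = _
          have h1 := hg x
          rw [hy x, map_mul, map_mul, map_inv, ← htconj] at h1
          calc ι (fi i (w x)) = (t i)⁻¹ * (ι s)⁻¹ *
                (ι s * (t i * ι (fi i (w x)) * (t i)⁻¹) * (ι s)⁻¹) * (ι s * t i) := by group
            _ = _ := by rw [h1]; group
        refine hlast s _ (F.comp_mem hψ i.2 fun x => (w x).2) fun x => ?_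
        have := congrArg Subtype.val (hy x)
        exact this
      | false =>
        obtain ⟨htgt, -⟩ := hwalk
        obtain ⟨s, hs⟩ := QuotientGroup.eq.1
          (show ((1 : Q) : V) = ((q₁ * σ i : Q) : V) from htgt)
        rw [inv_one, one_mul] at hs
        have hq : q₁ = lam s * (σ i)⁻¹ := by rw [hs, mul_inv_cancel_right]
        have hleft : ((ι s * (t i)⁻¹ : G) : FreeGroup E ⋊[act] Q).left =
            FreeGroup.mk [((⟨i, ((q₁ : Q) : Q ⧸ K i)⟩ : E), false)] := by
          show 1 * act (lam s) (act (t i : FreeGroup E ⋊[act] Q).right⁻¹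
            (t i : FreeGroup E ⋊[act] Q).left⁻¹) = _
          rw [one_mul, ht1, ht2, ← MulAut.mul_apply, ← map_mul, ← hq, map_inv]
          show (FreeGroup.of (⟨i, ((q₁ * 1 : Q) : Q ⧸ K i)⟩ : E))⁻¹ = _
          rw [mul_one]
          rfl
        have hfg : ∀ v : i.1.1, lam (fi i v) = (σ i)⁻¹ * lam (gi i v) * σ i := fun v => by
          rw [mul_assoc, ← hcomm, inv_mul_cancel_left]
        have hy : ∀ x : P, (⟨φ x, hφ x⟩ : ↥S) = s * fi i (w x) * s⁻¹ := fun x => hlam (by
          rw [map_mul, map_mul, map_inv, hfg, ← hwq, hq]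
          simp [mul_assoc])
        let ψ : P →* Ω := i.1.2.comp w'
        have hψ : ψ ∈ F.Hom P := by
          refine ih _ (hshort _ hleft) _ rfl P hP ψ (fun x => (F.le_of_mem i.2).2 (w x)) fun x => ?_
          show ι (gi i (w x)) = _
          have h1 := hg x
          rw [hy x, map_mul, map_mul, map_inv] at h1
          rw [← htconj]
          calc t i * ι (fi i (w x)) * (t i)⁻¹ = t i * (ι s)⁻¹ *
                (ι s * ι (fi i (w x)) * (ι s)⁻¹) * (ι s * (t i)⁻¹) := by group
            _ = _ := by rw [h1]; group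
        obtain ⟨χ, hχ, hχ'⟩ := F.inv_mem i.2
        refine hlast s _ (F.comp_mem hψ hχ fun x => ⟨w x, rfl⟩) fun x => ?_
        show φ x = (s : Ω) * χ ⟨i.1.2 (w x), _⟩ * (s : Ω)⁻¹
        rw [hχ' (w x)]
        exact congrArg Subtype.val (hy x)
  refine ⟨G, inferInstance, ι, ⟨hιinj, fun P hP φ hφ => ⟨fun h => ?_, fun ⟨g, hg⟩ =>
    key _ g rfl P hP φ hφ hg⟩⟩, fun H hH => ?_, (X.proj v₀).ker, MonoidHom.normal_ker _,
    X.isFreeGroup_ker v₀, ?_⟩
  · refine ⟨t ⟨⟨P, φ⟩, h⟩, fun x => ?_⟩
    exact (htconj ⟨⟨P, φ⟩, h⟩ x).symm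
  · obtain ⟨g, hg⟩ := X.exists_conj_left_eq_one (fun L b _ => htrans b) H
    exact ⟨g, fun h hh => hrange _ (hg h hh)⟩
  · rw [Subgroup.index_ker]
    refine (Subgroup.card_subgroup_dvd_card _).trans ?_
    rw [Nat.card_perm]

end Cfsg.Agent.S5286
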