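import Cfsg.Statements.S5287
import Cfsg.Agent.S5234
import Cfsg.Agent.Lib.Fusion.MetacyclicClosed
import Cfsg.Agent.Lib.Fusion.SupersolubleModels
import Cfsg.Agent.Lib.PGroup.MetacyclicCharSeries

set_option autoImplicit false
open Cfsg Cfsg.Agent.Fusion Cfsg.Agent.Fusion.Supersoluble Cfsg.Agent.PGroup.MetacyclicTwo

namespace Cfsg.Agent.S5287

variable {Ω : Type*} [Group Ω] {S : Subgroup Ω} [Finite S] {p : ℕ} [Fact p.Prime]

theorem chain_of_ok (hS : IsPGroup p S) (hm : Cfsg.IsMetacyclic S)
    (hh : ¬ ∃ n : ℕ, 0 < n ∧ Nonempty (S ≃* Multiplicative (ZMod (p ^ n)) × Multiplicative (ZMod (p ^ n))))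
    (hx : p = 2 → IsCyclic S ∨ ¬ Exceptional S) (F : Cfsg.FusionSystem S) (hF : F.IsSaturated p) :
    Chain F S := by
  have hSc : F.StronglyClosed S := ⟨le_rfl, fun R _ φ hφ x => apply_mem hφ x⟩
  by_cases hc : IsCyclic S
  · obtain ⟨g, hg⟩ := hc.exists_generator
    have h2 : CycSeries (fun U : Subgroup S => U = ⊤) ⊤ :=
      CycSeries.bot.step' g (Eq.symm (eq_top_iff.2 fun x _ => Subgroup.mem_sup_right (hg x))) rfl
    have hclosed : ∀ U : Subgroup S, U = ⊤ → F.StronglyClosed (U.map S.subtype) := by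
      rintro U rfl
      simpa [← MonoidHom.range_eq_map] using hSc
    simpa [← MonoidHom.range_eq_map] using chain_of_cycSeries hclosed h2
  rcases eq_or_ne p 2 with rfl | hp2
  · have hexc : ¬ Exceptional S := (hx rfl).resolve_left hc
    have hN := MetacyclicClosed.isNormal hS hF hSc hm hexc
    have hA : IsPGroup 2 (F.autGroup S) := by
      have := finite_autGroup (F := F) (le_refl S)
      refine isPGroup_of_coprime_orderOf_eq_one fun α hα => Subtype.ext ?_
      by_contra hne
      rw [← Subgroup.orderOf_coe] at hα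
      rcases homocyclic_or_quaternion_of_odd_aut hS hm (Nat.coprime_two_right.1 hα) hne with
        ⟨n, hn, hab, hcard, hexp⟩ | ⟨-, i, j, hi, hj, hji⟩
      swap
      · exact hexc (exceptional_of_quaternion hS hm hi hj hji)
      obtain ⟨a, b, hab'⟩ := PGroup.exists_metaGen hm
      exact hh ⟨n, by omega, (MetacyclicClosed.homocyclic_basis hab (N := 2 ^ n)
        (by rw [hcard, ← pow_add, two_mul]) hexp hab'.closure_eq).2.2⟩
    have hclosed : ∀ U : Subgroup S, U.Normal → F.StronglyClosed (U.map S.subtype) := by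
      intro U hU
      refine ⟨Subgroup.map_subtype_le U, fun R hR φ hφ x => ?_⟩
      obtain ⟨ψ, hψ, he, -⟩ := hN.2 R φ hφ
      have hsup : R ⊔ S = S := sup_eq_right.2 (dom_le hφ)
      have hψS := restrict_mem hψ hsup.ge
      have hr := range_eq_of_le hψS le_rfl (fun y => apply_mem hψS y) le_rfl
      obtain ⟨g, hg, hgx⟩ := mem_autInducedBy_iff.1
        (autGroup_eq_of_isPGroup (isFullyAutomized_self hS hF) hA (toAut_mem hψS hr))
      obtain ⟨u, hu, hux⟩ := hR x.2
      refine ⟨⟨g, hg⟩ * u * ⟨g, hg⟩⁻¹, hU.conj_mem u hu _, ?_⟩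
      rw [← he x]
      show g * (u : Ω) * g⁻¹ = _
      rw [show (u : Ω) = (x : Ω) from hux]
      exact (hgx ⟨x, dom_le hφ x.2⟩).symm
    obtain ⟨a, b, H⟩ := PGroup.exists_metaGen hm
    have h1 : CycSeries (fun U : Subgroup S => U.Normal) (Subgroup.zpowers a) :=
      CycSeries.bot.step' a (bot_sup_eq _).symm H.normal
    have h2 : CycSeries (fun U : Subgroup S => U.Normal) ⊤ := by
      refine h1.step' b ?_ inferInstance
      refine (eq_top_iff.2 ?_).symm
      rw [← H.closure_eq, Subgroup.closure_le]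
      rintro e (rfl | rfl)
      · exact Subgroup.mem_sup_left (Subgroup.mem_zpowers _)
      · exact Subgroup.mem_sup_right (Subgroup.mem_zpowers _)
    simpa [← MonoidHom.range_eq_map] using chain_of_cycSeries hclosed h2
  · have hN := S5234.result p hS F hF S hSc hp2 hm
    have hclosed : ∀ U : Subgroup S, U.Characteristic → F.StronglyClosed (U.map S.subtype) :=
      fun U hU => stronglyClosed_of_isNormal (isNormal_of_characteristic hN
        (Subgroup.map_subtype_le U) (by
          rw [Subgroup.subgroupOf, Subgroup.comap_map_eq_self_of_injective S.subtype_injective]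
          exact hU))
    simpa [← MonoidHom.range_eq_map] using chain_of_cycSeries hclosed
      (PGroup.MetacyclicSeries.cycSeries_top hS hp2 hm hc hh)


/-- Let S be a finite metacyclic p-group (an extension of a cyclic group by a cyclic group). Every saturated fusion system over S is supersoluble (S has a chain of F-strongly closed subgroups from 1 to S with cyclic steps) if and only if S is not homocyclic of rank two (isomorphic to Z/p^n × Z/p^n with n ≥ 1) and, when p = 2, S is not dihedral of order at least 4, not quasi-dihedral (semidihedral) and not generalized quaternion of order at least 8. -/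
theorem result {Ω : Type*} [Group Ω] {S : Subgroup Ω} [Finite S] (p : ℕ) [Fact p.Prime] (hS : IsPGroup p ↥S) (hm : Cfsg.IsMetacyclic ↥S) : (∀ F : Cfsg.FusionSystem S, F.IsSaturated p → (∃ (m : ℕ) (c : Fin (m + 1) → Subgroup Ω), c 0 = ⊥ ∧ c (Fin.last m) = S ∧ (∀ i : Fin (m + 1), F.StronglyClosed (c i)) ∧ ∀ i : Fin m, c i.castSucc ≤ c i.succ ∧ ∃ x ∈ S, c i.succ = c i.castSucc ⊔ Subgroup.zpowers x)) ↔ ¬ ((∃ n : ℕ, 0 < n ∧ Nonempty (↥S ≃* Multiplicative (ZMod (p ^ n)) × Multiplicative (ZMod (p ^ n)))) ∨ (p = 2 ∧ ((∃ n : ℕ, 2 ≤ n ∧ Nonempty (↥S ≃* DihedralGroup n)) ∨ Cfsg.IsQuasiDihedral ↥S ∨ (∃ n : ℕ, 2 ≤ n ∧ Nonempty (↥S ≃* QuaternionGroup n))))) := by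
  constructor
  · intro hall hbad
    have hb : Bad S p := by
      rcases hbad with ⟨n, hn, ⟨e⟩⟩ | ⟨rfl, ⟨n, hn, ⟨e⟩⟩ | hq | ⟨n, hn, ⟨e⟩⟩⟩
      · exact bad_homocyclic hS hn e
      · exact bad_dihedral hS hn e
      · exact bad_quasiDihedral hS hq
      · exact bad_quaternion hS hn e
    obtain ⟨F, hF, hF'⟩ := hb
    obtain ⟨m, c, h0, hl, hs, hstep⟩ := hall F hF
    exact hF' (hl ▸ chain_of_fin c h0 hs hstep (Fin.last m))
  · intro hok F hF
    refine (chain_of_ok hS hm (fun h => hok (Or.inl h)) ?_ F hF).exists_fin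
    rintro rfl
    by_contra hcon
    push Not at hcon
    obtain ⟨hc, hexc⟩ := hcon
    refine hok (Or.inr ⟨rfl, ?_⟩)
    rcases hexc with ⟨m, ⟨e⟩⟩ | ⟨m, ⟨e⟩⟩ | h
    · rcases m with - | - | m
      · have := Finite.of_equiv S e.toEquiv
        exact absurd this (not_finite_iff_infinite.2 inferInstance)
      · exact absurd ((e.isCyclic).2 (isCyclic_of_prime_card (p := 2) (by
          rw [DihedralGroup.nat_card]))) hc
      · exact Or.inl ⟨m + 2, by omega, ⟨e⟩⟩
    · rcases m with - | - | m
      · have := Finite.of_equiv S e.toEquiv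
        exact absurd this (not_finite_iff_infinite.2
          (Infinite.of_injective (fun i : ℤ => (QuaternionGroup.a i : QuaternionGroup 0))
            fun _ _ h => QuaternionGroup.a.inj h))
      · exact absurd ((e.isCyclic).2 QuaternionGroup.quaternionGroup_one_isCyclic) hc
      · exact Or.inr (Or.inr ⟨m + 2, by omega, ⟨e⟩⟩)
    · exact Or.inr (Or.inl h)

end Cfsg.Agent.S5287
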