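import Cfsg.Statements.S5289
import Cfsg.Agent.Lib.RankTwoClass.Shape
import Cfsg.Agent.Lib.Fusion.RankTwoTorus
import Cfsg.Agent.Lib.Fusion.Nilpotent
import Cfsg.Agent.S5234

set_option autoImplicit false
open Cfsg

namespace Cfsg.Agent.S5289

open scoped commutatorElement in
open Subgroup in
/-- The step: a fully normalized centric radical subgroup is `S`, if maps with larger sources extend
to `S`. -/
theorem le_of_shape {Ω : Type*} [Group Ω] {S : Subgroup Ω} [Finite S] {p : ℕ} [hp : Fact p.Prime]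
    (hS : IsPGroup p S) {F : Cfsg.FusionSystem S} (hF : F.IsSaturated p) {E : Subgroup S} [E.Normal] {x y z : S}
    (h : RankTwoClass.Shape S p E x y z) (hsmall : ¬ (Nat.card S = p ^ 3 ∧ Monoid.exponent ↥S = p))
    {R : Subgroup Ω} (hRn : F.IsFullyNormalized R) (hRc : F.IsCentric R) (hRr : F.IsRadical p R)
    (hbig : ∀ P : Subgroup Ω, Nat.card R < Nat.card P → ∀ ψ ∈ F.Hom P, Fusion.ExtendsTo F S P ψ) : S ≤ R := by
  open Cfsg.Agent.Fusion Cfsg.FusionSystem in
  by_contra hne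
  have hRS : R ≤ S := hRc.1
  have := Fusion.finite_of_le (Ω := Ω) hRS
  have := Fusion.finite_mulAut (Ω := Ω) hRS
  have hRp : IsPGroup p R := hS.to_le hRS
  have hcent := Fusion.isCentric_centralizerIn_le hRc
  set R' := R.subgroupOf S with hR'
  let ι : R →* S := Subgroup.inclusion hRS
  let e : R' ≃* R := Subgroup.subgroupOfEquivOfLe hRS
  have htr : ∀ (a : MulAut R) (r : R),
      (((MulAut.congr e.symm a) ⟨ι r, r.2⟩ : R') : S) = ι (a r) := fun a r => rfl
  have hinv : ∀ {M : Subgroup S}, RankTwoClass.AutInv R' M → ∀ (a : MulAut R) (r : R),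
      ι r ∈ M → ι (a r) ∈ M := fun hM a r hr => htr a r ▸ hM (MulAut.congr e.symm a) ⟨ι r, r.2⟩ hr
  have hcent' : centralizer (R' : Set S) ≤ R' := fun c hc =>
    mem_subgroupOf.2 (hcent (Fusion.mem_centralizerIn.2 ⟨c.2, fun r hr =>
      congrArg Subtype.val (mem_centralizer_iff.1 hc ⟨r, hRS hr⟩ hr)⟩))
  have hR'top : R' ≠ ⊤ := fun ht => hne fun r hr => ht.ge (mem_top (⟨r, hr⟩ : S))
  have hnormal : ∀ g : S, g ∈ normalizer (R' : Set S) → (g : Ω) ∈ normalizer (R : Set Ω) := fun g hg => by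
    refine mem_normalizer_iff.2 fun v => ⟨fun hv => ?_, fun hv => ?_⟩
    · exact (mem_normalizer_iff.1 hg ⟨v, hRS hv⟩).1 hv
    · have hvS : v ∈ S := by
        have := S.mul_mem (S.mul_mem (S.inv_mem g.2) (hRS hv)) g.2
        simpa [mul_assoc] using this
      exact (mem_normalizer_iff.1 hg ⟨v, hvS⟩).2 hv
  rcases h.cases hsmall hR'top hcent' with
    ⟨g, hg, hgR, M, L, hM, hL, hgM, hgL, hgfix⟩ | ⟨g, hg, hgR, M, hMR, hM, hcard, hpw, hcom, haut, ⟨r₁, hr₁, hr₁M⟩,
      hMC, -, ⟨r₀, hr₀, hr₀C⟩, hkey⟩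
  · -- the stabilizer of a series
    have hgN := hnormal g hg
    let cg : F.autGroup R := ⟨conjAut hgN, autInducedBy_le_autGroup F hRS (conjAut_mem_autInducedBy g.2 hgN)⟩
    let T : ℕ → Subgroup R := fun i => match i with
      | 0 => ⊥
      | 1 => L.comap ι
      | 2 => M.comap ι
      | _ + 3 => ⊤
    have hT : ∀ (a : F.autGroup R) (i : ℕ), ∀ r ∈ T i, (a : MulAut R) r ∈ T i := by
      intro a i r hr
      match i with
      | 0 => rw [mem_bot.1 hr, map_one]; exact one_mem _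
      | 1 => exact hinv hL a r hr
      | 2 => exact hinv hM a r hr
      | _ + 3 => exact mem_top _
    have hKn := Fusion.seriesStabilizer_normal (F.autGroup R) T hT
    have hKp := Fusion.isPGroup_seriesStabilizer hRp (F.autGroup R) T hT rfl (m := 3) rfl
    have hcg : cg ∈ Fusion.seriesStabilizer (F.autGroup R) T hT := by
      intro i r hr
      match i with
      | 0 =>
        refine mem_bot.2 (inv_mul_eq_one.2 (Subtype.ext ?_))
        exact (congrArg Subtype.val (hgfix (ι r) r.2 hr)).symm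
      | 1 => exact hgL (ι r) r.2 hr
      | 2 => exact hgM (ι r) r.2
      | _ + 3 => exact mem_top _
    exact Fusion.conjAut_notMem_inn hcent hRS g.2 hgN hgR (hRr.2.le ⟨cg, PCore.le_pCore hKp hcg, rfl⟩)
  -- the action on `R ⧸ M`
  have hgN := hnormal g hg
  let cg : F.autGroup R := ⟨conjAut hgN, autInducedBy_le_autGroup F hRS (conjAut_mem_autInducedBy g.2 hgN)⟩
  set C := centralizer (E : Set S) with hC
  set M₀ := M.comap ι with hM₀
  have hM₀n : M₀.Normal := ⟨fun r hr a => hinv hM (MulAut.conj a) r hr⟩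
  have hcomm : ∀ a b : R ⧸ M₀, a * b = b * a := by
    intro a b
    induction a using QuotientGroup.induction_on with | _ a => ?_
    induction b using QuotientGroup.induction_on with | _ b => ?_
    refine commutatorElement_eq_one_iff_mul_comm.1 ((map_commutatorElement (QuotientGroup.mk' M₀) a b).symm.trans
      ((QuotientGroup.eq_one_iff _).2 ?_))
    rw [hM₀, mem_comap, map_commutatorElement]
    exact hcom _ a.2 _ b.2
  have hexp : ∀ a : R ⧸ M₀, a ^ p = 1 := by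
    intro a
    induction a using QuotientGroup.induction_on with | _ a => ?_
    rw [← QuotientGroup.mk_pow, QuotientGroup.eq_one_iff, hM₀, mem_comap, map_pow]
    exact hpw _ a.2
  have hcardU : Nat.card (R ⧸ M₀) = p ^ 2 := by
    have h1 : M₀.map ι = M := le_antisymm (map_comap_le _ _) fun m hm => ⟨⟨m, hMR hm⟩, hm, rfl⟩
    have h2 : Nat.card M₀ = Nat.card M := by
      rw [← h1, card_map_of_injective (Subgroup.inclusion_injective hRS)]
    have h3 := card_eq_card_quotient_mul_card_subgroup M₀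
    rw [← Nat.card_congr e.toEquiv, hcard, h2, mul_comm (Nat.card M)] at h3
    exact (Nat.eq_of_mul_eq_mul_right Nat.card_pos h3).symm
  have hmap : ∀ a : F.autGroup R, M₀.map ((a : MulAut R) : R →* R) = M₀ := fun a => by
    refine le_antisymm ?_ fun r hr => ⟨(a : MulAut R)⁻¹ r, hinv hM _ r hr, MulAut.apply_inv_self R _ r⟩
    rintro _ ⟨r, hr, rfl⟩
    exact hinv hM _ r hr
  let η : F.autGroup R →* MulAut (R ⧸ M₀) :=
    { toFun := fun a => QuotientGroup.congr M₀ M₀ (a : MulAut R) (hmap a)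
      map_one' := MulEquiv.ext fun q => QuotientGroup.induction_on q fun _ => rfl
      map_mul' := fun a b => MulEquiv.ext fun q => QuotientGroup.induction_on q fun _ => rfl }
  have hηmk : ∀ (a : F.autGroup R) (r : R), η a (r : R ⧸ M₀) = (((a : MulAut R) r : R) : R ⧸ M₀) :=
    fun a r => rfl
  have hkp : IsPGroup p η.ker := Fusion.isPGroup_of_coprime_orderOf_eq_one fun a ha => by
    refine Subtype.ext (Subtype.ext ((MulAut.congr e.symm).injective ((haut _ ?_ fun r => ?_).trans (map_one _).symm)))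
    · rwa [MulEquiv.orderOf_eq, Subgroup.orderOf_coe, Subgroup.orderOf_coe]
    · have h1 := congrArg (fun f : MulAut (R ⧸ M₀) => f (e r : R ⧸ M₀)) (MonoidHom.mem_ker.1 a.2)
      simp only [hηmk, MulAut.one_apply] at h1
      have h2 : (e r)⁻¹ * ((a : F.autGroup R) : MulAut R) (e r) ∈ M₀ := QuotientGroup.eq.1 h1.symm
      exact h2
  have hkI : ∀ a : F.autGroup R, η a = 1 → (a : MulAut R) ∈ Inn R := fun a ha =>
    hRr.2.le ⟨a, PCore.le_pCore hkp (MonoidHom.mem_ker.2 ha), rfl⟩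
  set σ := η cg with hσdef
  have hσ1 : σ ≠ 1 := fun h1 => Fusion.conjAut_notMem_inn hcent hRS g.2 hgN hgR (hkI cg h1)
  have hpow : ∀ (β : MulAut R) (hβ : β ∈ autInducedBy S R),
      ∃ k, η ⟨β, autInducedBy_le_autGroup F hRS hβ⟩ ^ p ^ k = 1 := fun β hβ => by
    obtain ⟨k, hk⟩ := Fusion.isPGroup_autInducedBy hS R ⟨β, hβ⟩
    have hk' : β ^ p ^ k = 1 := congrArg Subtype.val hk
    refine ⟨k, ?_⟩
    rw [← map_pow, show (⟨β, autInducedBy_le_autGroup F hRS hβ⟩ : F.autGroup R) ^ p ^ k = 1 from Subtype.ext hk',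
      map_one]
  have hσp : ∃ k, σ ^ p ^ k = 1 := hpow _ (conjAut_mem_autInducedBy g.2 hgN)
  set K := (C.comap ι).map (QuotientGroup.mk' M₀) with hKdef
  have hKpre : ∀ r : R, (r : R ⧸ M₀) ∈ K → ι r ∈ C := fun r hr => by
    obtain ⟨c, hc, hcr⟩ := hr
    have h1 : ι (c⁻¹ * r) ∈ M := QuotientGroup.eq.1 (show (c : R ⧸ M₀) = r from hcr)
    have h2 := C.mul_mem hc (hMC h1)
    rwa [map_mul, map_inv, mul_inv_cancel_left] at h2
  have hKtop : K ≠ ⊤ := fun ht => hr₀C (hKpre ⟨r₀, hr₀⟩ (ht ▸ mem_top _))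
  have hdiff : ∀ (β : MulAut R) (hβ : β ∈ autInducedBy S R) (q : R ⧸ M₀),
      q⁻¹ * η ⟨β, autInducedBy_le_autGroup F hRS hβ⟩ q ∈ K := by
    intro β hβ q
    obtain ⟨k, hk, hkr⟩ := mem_autInducedBy_iff.1 hβ
    induction q using QuotientGroup.induction_on with | _ r => ?_
    refine ⟨r⁻¹ * β r, ?_, rfl⟩
    rw [SetLike.mem_coe, mem_comap, map_mul, map_inv,
      show ι (β r) = ⟨k, hk⟩ * ι r * ⟨k, hk⟩⁻¹ from Subtype.ext (hkr r),
      show (ι r)⁻¹ * (⟨k, hk⟩ * ι r * ⟨k, hk⟩⁻¹) = ⁅(ι r)⁻¹, (⟨k, hk⟩ : S)⁆ by rw [commutatorElement_def]; group]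
    exact h.EC (h.commAll _ _)
  have hσK : ∀ q, q⁻¹ * σ q ∈ K := hdiff _ (conjAut_mem_autInducedBy g.2 hgN)
  obtain ⟨-, hline⟩ := Fusion.RankTwoTorus.line hcomm hcardU hexp hσp hσ1 hKtop hσK
  -- a conjugate with another line
  obtain ⟨a, ha⟩ : ∃ a : F.autGroup R, η (a * cg * a⁻¹) ∉ zpowers σ := by
    by_contra hcon
    push Not at hcon
    have hN : normalClosure ({cg} : Set (F.autGroup R)) ≤ (zpowers σ).comap η := by
      refine (Subgroup.closure_le _).2 fun w hw => ?_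
      obtain ⟨c, hc, hcw⟩ := Group.mem_conjugatesOfSet_iff.1 hw
      obtain ⟨d, rfl⟩ := isConj_iff.1 hcw
      rw [Set.mem_singleton_iff.1 hc]
      exact hcon d
    have hσz : IsPGroup p (zpowers σ) := fun w => by
      obtain ⟨k, hk⟩ := hσp
      obtain ⟨i, hi⟩ := mem_zpowers_iff.1 w.2
      refine ⟨k, Subtype.ext ?_⟩
      rw [SubgroupClass.coe_pow, ← hi, ← zpow_natCast, ← zpow_mul, mul_comm, zpow_mul, zpow_natCast, hk, one_zpow]
      rfl
    have hNp := (hσz.comap_of_ker_isPGroup η hkp).to_le hN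
    exact Fusion.conjAut_notMem_inn hcent hRS g.2 hgN hgR
      (hRr.2.le ⟨cg, PCore.le_pCore hNp (subset_normalClosure rfl), rfl⟩)
  have hτp : ∃ k, η (a * cg * a⁻¹) ^ p ^ k = 1 := hσp.imp fun k hk => by
    rw [map_mul, map_mul, map_inv, conj_pow, hk, mul_one, mul_inv_cancel]
  obtain ⟨k₀, hk₀⟩ := hp.out.odd_of_ne_two h.p2
  obtain ⟨τ, hτmem, hτσ4, hτj⟩ := Fusion.RankTwoTorus.exists_torus hcomm hcardU hexp hσp hτp hσ1 ha
    (j := k₀ + 1) (q := 1) (by omega) hKtop hσK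
  obtain ⟨b, rfl⟩ : τ ∈ η.range := (Subgroup.closure_le η.range).2
    (Set.insert_subset ⟨cg, rfl⟩ (Set.singleton_subset_iff.2 ⟨_, rfl⟩)) hτmem
  -- `b` normalizes `Aut_S(R)`, so extends
  have hnorm : ∀ β ∈ autInducedBy S R, (b : MulAut R) * β * (b : MulAut R)⁻¹ ∈ autInducedBy S R := by
    intro β hβ
    obtain ⟨i, hi⟩ := mem_zpowers_iff.1 (hline _ (hpow β hβ) (hdiff β hβ))
    set β' : F.autGroup R := ⟨β, autInducedBy_le_autGroup F hRS hβ⟩ with hβ'
    have h1 : η (b * β' * b⁻¹) = η (cg ^ (4 * i)) := by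
      rw [map_mul, map_mul, map_inv, ← hi, ← conj_zpow, hτσ4, map_zpow, ← hσdef, zpow_mul]
      rfl
    have h2 := Fusion.inn_le_autInducedBy hRS (hkI ((cg ^ (4 * i))⁻¹ * (b * β' * b⁻¹))
      (by rw [map_mul, map_inv, h1, inv_mul_cancel]))
    have h3 := mul_mem (zpow_mem (conjAut_mem_autInducedBy (K := S) g.2 hgN) (4 * i)) h2
    simpa [cg, β'] using h3
  obtain ⟨ψ, hψ, hψe⟩ := Fusion.exists_extension_of_normalizes
    (Fusion.isReceptive_of_fullyNormalized hS hF hRn) b.2 hnorm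
  have hRN : R ≤ normalizerIn S R := Fusion.le_normalizerIn hRS
  have hlt : Nat.card R < Nat.card (normalizerIn S R) := by
    have := Fusion.finite_of_le (Ω := Ω) (Fusion.normalizerIn_le S R)
    refine Set.Finite.card_lt_card (Set.toFinite ((normalizerIn S R : Subgroup Ω) : Set Ω))
      (SetLike.coe_ssubset_coe.2 (lt_of_le_of_ne hRN fun he => hgR ?_))
    exact mem_subgroupOf.2 (he ▸ ⟨g.2, hgN⟩)
  obtain ⟨χ, hχ, hχe, hχm⟩ := hbig _ hlt ψ hψ
  have hχ' := Fusion.restrict_mem hχ (le_sup_right : S ≤ normalizerIn S R ⊔ S)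
  have hr : (χ.comp (Subgroup.inclusion (le_sup_right : S ≤ normalizerIn S R ⊔ S))).range = S := by
    ext v
    refine ⟨?_, fun hv => ?_⟩
    · rintro ⟨w, rfl⟩
      exact hχm.le ⟨_, w.2, rfl⟩
    · obtain ⟨w, hw, rfl⟩ := hχm.ge hv
      exact ⟨⟨w, hw⟩, rfl⟩
  set Ψ := Fusion.toAut hχ' hr with hΨ
  have hΨe : ∀ r : R, Ψ (ι r) = ι ((b : MulAut R) r) := fun r => Subtype.ext <| by
    rw [hΨ, Fusion.coe_toAut]
    show χ _ = _
    rw [show (Subgroup.inclusion (le_sup_right : S ≤ normalizerIn S R ⊔ S) (ι r)) =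
      Subgroup.inclusion le_sup_left ⟨(r : Ω), hRN r.2⟩ from Subtype.ext rfl, hχe, hψe r (hRN r.2)]
    rfl
  -- the contradiction
  set r₂ : R := ⟨r₀, hr₀⟩ with hr₂
  have h1 : Ψ r₀ * r₀ ^ (k₀ + 1) ∈ C := by
    have h2 := hKpre ((b : MulAut R) r₂ * r₂ ^ (k₀ + 1)) (hτj (r₂ : R ⧸ M₀))
    rwa [map_mul, map_pow, ← hΨe] at h2
  have h2 : (r₀ ^ ((p - 1) * (k₀ + 1)))⁻¹ * Ψ r₀ ∈ C := by
    have hm : r₀ ^ ((p - 1) * (k₀ + 1)) * r₀ ^ (k₀ + 1) = (r₀ ^ p) ^ (k₀ + 1) := by
      rw [← pow_add, ← pow_mul]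
      congr 1
      rw [show (p - 1) * (k₀ + 1) + (k₀ + 1) = (p - 1 + 1) * (k₀ + 1) by ring,
        Nat.sub_add_cancel hp.out.one_le]
    have h3 := C.mul_mem (inv_mem (pow_mem (h.powN r₀).1 (k₀ + 1)))
      ((inferInstance : C.Normal).conj_mem _ h1 (r₀ ^ (k₀ + 1)))
    rw [← hm] at h3
    have e1 : ∀ a b c : S, (a * b)⁻¹ * (b * (c * b) * b⁻¹) = b⁻¹ * a⁻¹ * b * c := fun a b c => by group
    rw [e1] at h3
    rwa [((Commute.refl r₀).pow_pow ((p - 1) * (k₀ + 1)) (k₀ + 1)).inv_left.symm.inv_left.eq,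
      inv_mul_cancel_right] at h3
  have h4 := hkey Ψ r₀ hr₀C _ h2
  have h5 : ((2 * (k₀ + 1) : ℕ) : ZMod p) = 1 := by
    rw [show 2 * (k₀ + 1) = p + 1 by omega, Nat.cast_add, ZMod.natCast_self, zero_add, Nat.cast_one]
  push_cast [Nat.cast_sub hp.out.one_le, ZMod.natCast_self] at h4 h5
  have h6 : ((3 : ℕ) : ZMod p) = 0 := by
    push_cast
    linear_combination (-4 : ZMod p) * h4 + (2 * ((k₀ : ZMod p) + 1) + 1) * h5
  have := Nat.le_of_dvd (by norm_num) ((ZMod.natCast_eq_zero_iff 3 p).1 h6)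
  have := h.big
  omega


/-- Let p ≥ 5 be a prime and S a finite p-group of p-rank two (it has an elementary abelian subgroup of order p² and none of order p³) which is not the extraspecial group of order p³ and exponent p. Then S is resistant: for every saturated fusion system F over S, S is normal in F, that is, every map of F extends to an F-automorphism of S. -/
theorem result {Ω : Type*} [Group Ω] {S : Subgroup Ω} [Finite S] (p : ℕ) [Fact p.Prime] (hS : IsPGroup p S)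
    (F : Cfsg.FusionSystem S) (hF : F.IsSaturated p)
    (hp : 5 ≤ p)
    (hrank2 : ∃ E : Subgroup Ω, E ≤ S ∧ Cfsg.IsElementaryAbelian p E ∧ Nat.card E = p ^ 2)
    (hrank3 : ∀ E : Subgroup Ω, E ≤ S → Cfsg.IsElementaryAbelian p E → Nat.card E ≤ p ^ 2)
    (hnotE : ¬ (Nat.card S = p ^ 3 ∧ Monoid.exponent ↥S = p)) : F.IsNormal S := by
  have hr : Cfsg.PRankLE p 2 S := fun A hA hAp => by
    have h := hrank3 (A.map S.subtype) (Subgroup.map_subtype_le A) ⟨inferInstance, by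
      rintro _ ⟨a, ha, rfl⟩
      rw [← map_pow, hAp a ha, map_one]⟩
    rwa [Subgroup.card_map_of_injective S.subtype_injective] at h
  by_cases hm : Cfsg.IsMetacyclic S
  · exact Cfsg.Agent.S5234.result p hS F hF S ⟨le_rfl, fun R _ φ hφ x => (F.le_of_mem hφ).2 x⟩ (by omega) hm
  obtain ⟨E, x, y, z, hEn, h⟩ := RankTwoClass.exists_shape (by omega : 3 < p) hS hr hm
  refine Fusion.isNormal_of_step hS hF le_rfl (fun g hg => Subgroup.le_normalizer hg)
    fun R hRn hRc hRr hbig => ⟨le_of_shape hS hF h hnotE hRn hRc hRr hbig, fun α _ v _ => hRc.1 (α v).2⟩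

end Cfsg.Agent.S5289
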