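import Cfsg.Statements.S5290
import Cfsg.Agent.Lib.Fusion.InnerWeaklyNormal


set_option autoImplicit false
open Cfsg Cfsg.FusionSystem Cfsg.Agent.Fusion

namespace Cfsg.Agent.S5290

/-- Let F be a saturated fusion system over a finite p-group S and Q a subgroup of S. Then Q is normal in F (F = N_F(Q)) if and only if the inner fusion system of Q, consisting of the conjugations by elements of Q on subgroups of Q, is a weakly normal subsystem of F (both saturated, Q strongly closed, invariant under F-conjugation, with the Frattini property). -/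
theorem result {Ω : Type*} [Group Ω] {S : Subgroup Ω} [Finite S] (p : ℕ) [Fact p.Prime] (hS : IsPGroup p S)
    (F : Cfsg.FusionSystem S) (hF : F.IsSaturated p)
    (Q : Subgroup Ω) (hQ : Q ≤ S) :
    F.IsNormal Q ↔ (Cfsg.innerFusionSystem Q).IsWeaklyNormalIn F p := by
  refine ⟨inner_isWeaklyNormal hS hF, fun h => ?_⟩
  obtain ⟨-, -, -, -, -, hfr⟩ := h
  refine isNormal_of_upper_closed hS hF hQ fun i R hR φ hφ x => ?_
  have hRQ : R ≤ Q := hR.trans (Subgroup.map_subtype_le _)
  obtain ⟨α, -, φ₀, ⟨-, g, hg, hgx⟩, he⟩ := hfr R hRQ φ hφ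
  have hm : φ₀ x ∈ Q := by
    rw [hgx x]
    exact Q.mul_mem (Q.mul_mem hg (hRQ x.2)) (Q.inv_mem hg)
  rw [he x hm]
  refine apply_upperOf α ?_
  show φ₀ x ∈ upperOf Q i
  rw [hgx x]
  exact apply_upperOf (MulAut.conj (⟨g, hg⟩ : Q)) (x := ⟨x, hRQ x.2⟩) (hR x.2)

end Cfsg.Agent.S5290
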