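import Cfsg.Statements.S5291
import Cfsg.Agent.Lib.Fusion.InnerWeaklyNormal
import Cfsg.Agent.Lib.Fusion.Constrained


set_option autoImplicit false
open Cfsg Cfsg.FusionSystem Cfsg.Agent.Fusion

namespace Cfsg.Agent.S5291

/-- Let F be a saturated fusion system over a finite p-group S and E a weakly normal subsystem of F over a subgroup T. Suppose a subgroup R of T is normal in E (E = N_E(R)), and let R* be the subgroup of T generated by the images of R under all maps of F with source R. Then R* is normal in F (F = N_F(R*)). -/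
theorem result {Ω : Type*} [Group Ω] {S : Subgroup Ω} [Finite S] (p : ℕ) [Fact p.Prime] (hS : IsPGroup p S)
    (F : Cfsg.FusionSystem S) (hF : F.IsSaturated p)
    {T : Subgroup Ω} (E : Cfsg.FusionSystem T) (hE : E.IsWeaklyNormalIn F p)
    (R : Subgroup Ω) (hR : E.IsNormal R) :
    F.IsNormal (Subgroup.closure {x : Ω | ∃ φ ∈ F.Hom R, ∃ r : R, x = φ r}) := by
  obtain ⟨-, -, hsub, hT, hinv, hfr⟩ := hE
  have hfinT := finite_of_le hT.1
  set W := Subgroup.closure {x : Ω | ∃ φ ∈ F.Hom R, ∃ r : R, x = φ r} with hW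
  have hαh : ∀ α ∈ F.autGroup T, T.subtype.comp α.toMonoidHom ∈ F.Hom T := fun α hα =>
    (mem_autGroup_iff hT.1).1 hα
  have hRW : R ≤ W := fun r hr =>
    Subgroup.subset_closure ⟨R.subtype, subtype_mem F (hR.1.trans hT.1), ⟨r, hr⟩, rfl⟩
  -- images of `R` under `Aut_F(T)` are normal in `E`
  have himg : ∀ α ∈ F.autGroup T, E.IsNormal ((R.subgroupOf T).map (T.subtype.comp α.toMonoidHom)) := by
    intro α hα
    set R' := (R.subgroupOf T).map (T.subtype.comp α.toMonoidHom) with hR'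
    have hR'T : R' ≤ T := by
      rintro _ ⟨x, -, rfl⟩
      exact (α x).2
    refine ⟨hR'T, fun P ψ hψ => ?_⟩
    have hPT : P ≤ T := dom_le hψ
    obtain ⟨ψ₀, hψ₀, hψ₀v⟩ := hinv P hPT ψ hψ α⁻¹ (inv_mem hα)
    obtain ⟨θ, hθ, hθe, hθR⟩ := hR.2 _ ψ₀ hψ₀
    obtain ⟨χ, hχ, hχv⟩ := hinv _ (dom_le hθ) θ hθ α hα
    have hle : P ⊔ R' ≤ (((P.subgroupOf T).map (T.subtype.comp (α⁻¹).toMonoidHom) ⊔ R).subgroupOf T).map
        (T.subtype.comp α.toMonoidHom) := by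
      refine sup_le (fun x hx => ⟨α⁻¹ ⟨x, hPT hx⟩, Subgroup.mem_sup_left ⟨⟨x, hPT hx⟩, hx, rfl⟩, ?_⟩) ?_
      · show ((α (α⁻¹ ⟨x, hPT hx⟩) : T) : Ω) = x
        rw [MulAut.apply_inv_self]
      · rintro _ ⟨r, hr, rfl⟩
        exact ⟨r, Subgroup.mem_sup_right hr, rfl⟩
    refine ⟨χ.comp (Subgroup.inclusion hle), restrict_mem hχ hle, fun x => ?_, ?_⟩
    · have hy : ((α⁻¹ ⟨x, hPT x.2⟩ : T) : Ω) ∈ (P.subgroupOf T).map (T.subtype.comp (α⁻¹).toMonoidHom) :=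
        ⟨⟨x, hPT x.2⟩, x.2, rfl⟩
      have h1 := hψ₀v x (apply_mem hψ x) hy
      have h2 : θ ⟨_, Subgroup.mem_sup_left hy⟩ = ((α⁻¹ ⟨ψ x, apply_mem hψ x⟩ : T) : Ω) :=
        (hθe ⟨_, hy⟩).trans h1
      have hfix : ((α ⟨((α⁻¹ ⟨x, hPT x.2⟩ : T) : Ω), dom_le hθ (Subgroup.mem_sup_left hy)⟩ : T) : Ω) = x := by
        rw [Subtype.coe_eta, MulAut.apply_inv_self]
      have h3 := hχv ⟨_, Subgroup.mem_sup_left hy⟩ (apply_mem hθ _)
        (by rw [hfix]; exact hle (Subgroup.mem_sup_left x.2))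
      refine Eq.trans ?_ (Eq.trans h3 ?_)
      · exact congrArg χ (Subtype.ext hfix.symm)
      rw [show (⟨θ ⟨_, Subgroup.mem_sup_left hy⟩, apply_mem hθ _⟩ : T) = α⁻¹ ⟨ψ x, apply_mem hψ x⟩ from
        Subtype.ext h2, MulAut.apply_inv_self]
    · rw [map_subgroupOf_eq_iff (restrict_mem hχ hle) le_sup_right]
      rintro _ ⟨r, hr, rfl⟩
      have hθr : θ ⟨r, Subgroup.mem_sup_right hr⟩ ∈ R := hθR.le ⟨_, hr, rfl⟩
      have h3 := hχv ⟨r, Subgroup.mem_sup_right hr⟩ (apply_mem hθ _) (hle (Subgroup.mem_sup_right ⟨r, hr, rfl⟩))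
      exact ⟨⟨_, apply_mem hθ _⟩, hθr, h3.symm⟩
  -- their join
  have hWnormal : E.IsNormal W := by
    obtain ⟨M, ⟨hMn, hMW⟩, hmax⟩ := ((finite_normals E).inter_of_left {Q | Q ≤ W}).exists_maximalFor id _
      ⟨R, hR, hRW⟩
    suffices h : W ≤ M by rwa [← le_antisymm hMW h]
    rw [hW, Subgroup.closure_le]
    rintro _ ⟨φ, hφ, r, rfl⟩
    obtain ⟨α, hα, φ₀, hφ₀, he⟩ := hfr R hR.1 φ hφ
    have hmem : φ₀ r ∈ R := (stronglyClosed_of_isNormal hR).2 R le_rfl φ₀ hφ₀ r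
    have hφr : φ r ∈ (R.subgroupOf T).map (T.subtype.comp α.toMonoidHom) :=
      ⟨⟨φ₀ r, hR.1 hmem⟩, hmem, (he r _).symm⟩
    have hle : (R.subgroupOf T).map (T.subtype.comp α.toMonoidHom) ≤ W := by
      rintro _ ⟨x, hx, rfl⟩
      exact Subgroup.subset_closure ⟨_, restrict_mem (hαh α hα) hR.1, ⟨x, hx⟩, rfl⟩
    exact (le_sup_right.trans (hmax ⟨isNormal_sup hMn (himg α hα), sup_le hMW hle⟩ le_sup_left)) hφr
  have hWT : W ≤ T := hWnormal.1
  have hαW : ∀ α ∈ F.autGroup T, ∀ x : T, (x : Ω) ∈ W → ((α x : T) : Ω) ∈ W := by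
    intro α hα
    suffices h : W ≤ (W.comap (T.subtype.comp α.toMonoidHom)).map T.subtype by
      intro x hx
      obtain ⟨y, hy, he⟩ := h hx
      obtain rfl : y = x := Subtype.ext he
      exact hy
    conv_lhs => rw [hW]
    rw [Subgroup.closure_le]
    rintro _ ⟨φ, hφ, r, rfl⟩
    have hφT : ∀ r' : R, φ r' ∈ T := fun r' => hWT (Subgroup.subset_closure ⟨φ, hφ, r', rfl⟩)
    exact ⟨⟨φ r, hφT r⟩, Subgroup.subset_closure ⟨_, F.comp_mem hφ (hαh α hα) hφT, r, rfl⟩, rfl⟩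
  refine isNormal_of_upper_closed hS hF (hWT.trans hT.1) fun i P hP φ hφ x => ?_
  have hPW : P ≤ W := hP.trans (Subgroup.map_subtype_le _)
  obtain ⟨α, hα, φ₀, hφ₀, he⟩ := hfr P (hPW.trans hWT) φ hφ
  obtain ⟨ψ, hψ, hψe, hψW⟩ := hWnormal.2 P φ₀ hφ₀
  have hle : W ≤ P ⊔ W := le_sup_right
  have hψ' : ψ.comp (Subgroup.inclusion hle) ∈ E.Hom W := restrict_mem hψ hle
  have hr : (ψ.comp (Subgroup.inclusion hle)).range = W := by
    rw [MonoidHom.range_comp, Subgroup.inclusion_range, hψW]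
  have h1 := apply_upperOf (toAut hψ' hr) (x := ⟨x, hPW x.2⟩) (hP x.2)
  rw [coe_toAut] at h1
  have h2 : φ₀ x ∈ upperOf W i := by
    rw [← hψe x]
    exact h1
  let ωh : W →* Ω := (T.subtype.comp α.toMonoidHom).comp (Subgroup.inclusion hWT)
  have hω : ωh ∈ F.Hom W := restrict_mem (hαh α hα) hWT
  have hωr : ωh.range = W :=
    range_eq_of_le hω (hWT.trans hT.1) (fun y => hαW α hα _ y.2) le_rfl
  have h3 := apply_upperOf (toAut hω hωr) (x := ⟨φ₀ x, (Subgroup.map_subtype_le _) h2⟩) h2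
  rw [coe_toAut] at h3
  rw [he x (apply_mem hφ₀ x)]
  exact h3

end Cfsg.Agent.S5291
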