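import Cfsg.Statements.S5292
import Cfsg.Agent.S5343
import Cfsg.Agent.Lib.Fusion.Model
import Cfsg.Agent.Lib.Fusion.ModelUnique
import Cfsg.Agent.Lib.Fusion.Iso
import Cfsg.Agent.Lib.Fusion.Constrained
import Cfsg.Agent.Lib.PCore.PSolvable
import Cfsg.Agent.Lib.PCore.HallHigman
-- import your own Cfsg.Agent.* helpers here

set_option autoImplicit false
universe u
open Cfsg Cfsg.FusionSystem Cfsg.Agent.Fusion
open Cfsg

namespace Cfsg.Agent.S5292

/-- Let F be a saturated fusion system over a finite p-group S. Then F is the fusion system of some finite p-solvable group on a Sylow p-subgroup if and only if F is constrained (some subgroup normal in F is centric in F) and the group of automorphisms that F induces on its largest normal subgroup O_p(F) is p-solvable. -/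
theorem result {Ω : Type u} [Group Ω] {S : Subgroup Ω} [Finite S] (p : ℕ) [Fact p.Prime] (hS : IsPGroup p S)
    (F : Cfsg.FusionSystem S) (hF : F.IsSaturated p) :
    (∃ (G : Type u) (_ : Group G) (_ : Finite G) (ι : S →* G), Cfsg.IsPSolvable p G ∧ F.IsRealizedBy ι ∧
        ∃ T : Sylow p G, (T : Subgroup G) = ι.range) ↔
      (F.IsConstrained p ∧ Cfsg.IsPSolvable p ↥(F.autGroup F.core)) := by
  constructor
  · rintro ⟨G, _, _, ι, hps, hr, T, hT⟩
    set N := pPrimeCore p G
    have hTN : (T : Subgroup G) ⊓ N = ⊥ :=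
      Cfsg.Agent.PCore.eq_bot_of_isPGroup_of_coprime (T.2.to_le inf_le_left)
        (Cfsg.Agent.PCore.coprime_card_pPrimeCore.coprime_dvd_left (Subgroup.card_dvd_of_le inf_le_right))
    have hr' := Cfsg.Agent.S5343.quotient_realized hr T hT N hTN
    have hsurj := QuotientGroup.mk'_surjective N
    have hM : F.IsModel p (G ⧸ N) ((QuotientGroup.mk' N).comp ι) :=
      ⟨inferInstance, hr',
        ⟨T.mapSurjective hsurj, by rw [Sylow.coe_mapSurjective, hT, MonoidHom.range_comp]⟩,
        Cfsg.Agent.PCore.centralizer_pCore_le (Cfsg.Agent.PCore.isPSolvable_of_surjective _ hsurj hps)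
          Cfsg.Agent.PCore.pPrimeCore_quotient_self_eq_bot⟩
    have hc := isConstrained_of_isModel hM
    refine ⟨hc, ?_⟩
    obtain ⟨π, -, -, hA⟩ := Model.exists_act hS hF hM (isNormal_core F) (isCentric_core hc)
    refine Cfsg.Agent.PCore.isPSolvable_of_surjective
      (π.codRestrict (F.autGroup F.core) fun g => (hA _).2 ⟨g, rfl⟩) (fun α => ?_)
      (Cfsg.Agent.PCore.isPSolvable_of_surjective _ hsurj hps)
    obtain ⟨g, hg⟩ := (hA _).1 α.2
    exact ⟨g, Subtype.ext hg⟩
  · rintro ⟨hc, hA⟩
    obtain ⟨G, hG, ι, hM⟩ := Model.exists_model hS hF (isNormal_core F) (isCentric_core hc)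
    have := hM.1
    obtain ⟨π, -, hker, hπ⟩ := Model.exists_act hS hF hM (isNormal_core F) (isCentric_core hc)
    let f : G →* F.autGroup F.core := π.codRestrict _ fun g => (hπ _).2 ⟨g, rfl⟩
    have hf : Function.Surjective f := fun α => by
      obtain ⟨g, hg⟩ := (hπ _).1 α.2
      exact ⟨g, Subtype.ext hg⟩
    have hp : IsPGroup p f.ker := by
      refine ((hS.to_subgroup (F.core.subgroupOf S)).map ι).to_le fun g hg => hker g ?_
      exact congrArg Subtype.val (MonoidHom.mem_ker.1 hg)
    have hfinA : Finite ↥(F.autGroup F.core) := Finite.of_surjective f hf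
    refine ⟨G, hG, hM.1, ι, Cfsg.Agent.PCore.isPSolvable_of_normal f.ker
      (Cfsg.Agent.PCore.isPSolvable_of_isPGroup hp) ?_, hM.2.1, hM.2.2.1⟩
    exact (Cfsg.Agent.PCore.isPSolvable_congr (QuotientGroup.quotientKerEquivOfSurjective f hf)).2 hA

end Cfsg.Agent.S5292
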