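import Cfsg.Statements.S5295
import Cfsg.Agent.Lib.WeakClosure.FusionCentre

set_option autoImplicit false
universe u
open Cfsg Cfsg.FusionSystem Cfsg.Agent.Fusion
open scoped IsMulCommutative

namespace Cfsg.Agent.S5295

/-- Let F be a saturated fusion system over a finite p-group S with p odd. Then the centre Z(F) of F is a direct factor of Z(S): there is a subgroup K of Z(S) with Z(F) ∩ K = 1 and Z(F)K = Z(S). (At the prime 2 this can fail.) -/
theorem result {Ω : Type u} [Group Ω] {S : Subgroup Ω} [Finite S] (p : ℕ) [Fact p.Prime] (hp : p ≠ 2) (hS : IsPGroup p S)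
    (F : Cfsg.FusionSystem S) (hF : F.IsSaturated p) :
    ∃ K : Subgroup Ω, K ≤ (S ⊓ Subgroup.centralizer (S : Set Ω)) ∧ F.center ⊓ K = ⊥ ∧ F.center ⊔ K = (S ⊓ Subgroup.centralizer (S : Set Ω)) := by
  set Q := Cfsg.thompsonSubgroupAOf S with hQdef
  have hQS : Q ≤ S := WeakClosure.thompsonA_le S
  have hfinQ := finite_of_le hQS
  have hSQ : S ≤ Subgroup.normalizer (Q : Set Ω) :=
    Subgroup.le_normalizer.trans (WeakClosure.normalizer_le_normalizer_thompsonA' S)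
  have hfn : F.IsFullyNormalized Q := ⟨hQS, fun R _ =>
    Fusion.card_le_of_le (normalizerIn_le S Q)
      ((normalizerIn_le S R).trans (le_inf le_rfl hSQ))⟩
  obtain ⟨-, R, hR⟩ := isFullyAutomized_of_fullyNormalized hS hF hfn
  have hZ : S ⊓ Subgroup.centralizer (S : Set Ω) ≤ Q := WeakClosure.center_le_thompsonA' S
  set f := Q.subtype.comp (Subgroup.center ↥Q).subtype
  set V₁ : Subgroup (Subgroup.center ↥Q) := (Subgroup.centralizer (S : Set Ω)).comap f with hV₁d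
  have hV₁ : ∀ v, v ∈ V₁ ↔ ∀ t ∈ (R : Subgroup (F.autGroup Q)),
      S5294.act (t : MulAut Q) v = v := by
    intro v
    constructor
    · intro hv t ht
      rw [hR, Subgroup.mem_subgroupOf, mem_autInducedBy_iff] at ht
      obtain ⟨g, hg, hgv⟩ := ht
      refine Subtype.ext (Subtype.ext ((hgv v.1).trans ?_))
      exact mul_inv_eq_iff_eq_mul.2 (Subgroup.mem_centralizer_iff.1 hv g hg)
    · intro hv
      refine Subgroup.mem_centralizer_iff.2 fun g hg => ?_
      obtain ⟨hcm, hcr⟩ : conjHom Q g ∈ F.Hom Q ∧ (conjHom Q g).range = Q :=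
        ⟨F.conj_mem hQS hg, range_eq_of_le (F.conj_mem hQS hg) hQS
          (fun x => (Subgroup.mem_normalizer_iff.1 (hSQ hg) x).1 x.2) le_rfl⟩
      have h1 : toAut hcm hcr ∈ autInducedBy S Q :=
        mem_autInducedBy_iff.2 ⟨g, hg, fun x => coe_toAut hcm hcr x⟩
      have h2 := hv ⟨_, toAut_mem hcm hcr⟩ (by rw [hR]; exact h1)
      have h3 : ((toAut hcm hcr v.1 : Q) : Ω) = (v.1 : Ω) :=
        congrArg (fun w : Subgroup.center ↥Q => ((w : Q) : Ω)) h2
      rw [coe_toAut] at h3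
      exact mul_inv_eq_iff_eq_mul.1 h3
  obtain ⟨n, hn⟩ := IsPGroup.iff_card.1 (hS.to_le hQS)
  have : Finite (MulAut Q) := MulEquiv.finite_left
  have hco : (R : Subgroup (F.autGroup Q)).index.Coprime (Nat.card Q) := by
    rw [hn]
    exact ((Fact.out : p.Prime).coprime_iff_not_dvd.2 R.not_dvd_index).symm.pow_right n
  obtain ⟨K, hKV, hK1, hK2⟩ := S5294.exists_complement _ _ V₁ hV₁ hco
  have hmem : ∀ x ∈ S ⊓ Subgroup.centralizer (S : Set Ω), ∃ v ∈ V₁, f v = x := by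
    intro x hx
    refine ⟨⟨⟨x, hZ hx⟩, Subgroup.mem_center_iff.2 fun q => Subtype.ext ?_⟩, ?_, rfl⟩
    · exact Subgroup.mem_centralizer_iff.1 hx.2 q (hQS q.2)
    · exact hx.2
  have hcle : F.center ≤ S ⊓ Subgroup.centralizer (S : Set Ω) := by
    intro z hz
    refine ⟨(S5144.result F).1 hz, Subgroup.mem_centralizer_iff.2 fun g hg => ?_⟩
    obtain ⟨ψ, -, h1, h2⟩ := (S5144.result F).2 _ _
      (F.conj_mem (S5144.result F).1 hg)
    exact mul_inv_eq_iff_eq_mul.1 ((h1 ⟨z, hz⟩).symm.trans (h2 ⟨z, hz⟩) : g * z * g⁻¹ = z)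
  have hfixC : ∀ v : Subgroup.center ↥Q, f v ∈ F.center → ∀ a ∈ F.autGroup Q,
      S5294.act a v = v := by
    intro v hv a ha
    obtain ⟨ψ, -, h1, h2⟩ := (S5144.result F).2 _ _ ((mem_autGroup_iff hQS).1 ha)
    exact Subtype.ext (Subtype.ext ((h1 v.1).symm.trans (h2 ⟨f v, hv⟩)))
  have hCfix : ∀ v ∈ V₁, (∀ a ∈ F.autGroup Q, S5294.act a v = v) → f v ∈ F.center := by
    intro v hv hv2
    suffices hc : F.IsCentral (Subgroup.zpowers (f v)) from
      (le_sSup hc : _ ≤ F.center) (Subgroup.mem_zpowers _)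
    refine (S5084.result p hS F hF _).2 ⟨Subgroup.zpowers_le.2 (hQS v.1.2), ?_⟩
    rintro x hx y ⟨φ, hφ, rfl⟩
    obtain ⟨i, hi⟩ := Subgroup.mem_zpowers_iff.1 hx
    have hxi : f (v ^ i) = x := by rw [map_zpow]; exact hi
    subst hxi
    refine WeakClosure.fixed_of_aut_thompson hp hS hF ?_ ?_ hφ (Subgroup.mem_zpowers _)
    · exact ⟨hQS (v ^ i).1.2, V₁.zpow_mem hv i⟩
    · intro a ha h
      exact congrArg (fun w : Subgroup.center ↥Q => ((w : Q) : Ω))
        (show S5294.act a (v ^ i) = v ^ i by rw [map_zpow, hv2 a ha])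
  refine ⟨K.map f, ?_, ?_, le_antisymm ?_ ?_⟩
  · rintro _ ⟨v, hv, rfl⟩
    exact ⟨hQS v.1.2, hKV hv⟩
  · rw [Subgroup.eq_bot_iff_forall]
    rintro _ ⟨hv, v, hvK, rfl⟩
    rw [hK1 v hvK (hfixC v hv), map_one]
  · refine sup_le hcle ?_
    rintro _ ⟨v, hv, rfl⟩
    exact ⟨hQS v.1.2, hKV hv⟩
  · intro x hx
    obtain ⟨v, hv, rfl⟩ := hmem x hx
    obtain ⟨z, k, hz, hk, rfl⟩ := hK2 v hv
    have hzV : z ∈ V₁ := by
      have := V₁.mul_mem hv (V₁.inv_mem (hKV hk))
      rwa [mul_inv_cancel_right] at this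
    rw [map_mul]
    exact Subgroup.mul_mem_sup (hCfix z hzV hz) ⟨k, hk, rfl⟩

end Cfsg.Agent.S5295
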