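import Cfsg.Statements.S5297
import Cfsg.Agent.Lib.Fusion.SmallElements


set_option autoImplicit false
universe u
open Cfsg Cfsg.FusionSystem Cfsg.Agent.Fusion Cfsg.Agent.Fusion.Small

namespace Cfsg.Agent.S5297

/-- Let F be a saturated fusion system over a finite p-group S. If every map of F between cyclic subgroups of the hyperfocal subgroup of F of order p or 4 is a map of the normalizer system of S (it extends to a map of F defined on all of S), then S is normal in F. -/
theorem result {Ω : Type u} [Group Ω] {S : Subgroup Ω} [Finite S] (p : ℕ) [Fact p.Prime] (hS : IsPGroup p S)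
    (F : Cfsg.FusionSystem S) (hF : F.IsSaturated p)
    (h : ∀ A B : Subgroup Ω, A ≤ (F.hyperfocalSubgroup p) → B ≤ (F.hyperfocalSubgroup p) → IsCyclic ↥A → (Nat.card ↥A = p ∨ Nat.card ↥A = 4) → IsCyclic ↥B → (Nat.card ↥B = p ∨ Nat.card ↥B = 4) →
      F.homSet A B ⊆ F.normalizerHom S A) :
    F.IsNormal S := by
  refine isNormal_of_small_chains hS hF fun P D hPS hDP hDK hDe hDinv => ?_
  obtain ⟨m, hm⟩ := upperIn_top hS
  refine ⟨fun i => D ⊓ upperIn S i, m, by simp [upperIn_zero], le_inf le_rfl ((hDP.trans hPS).trans hm.ge), ?_, ?_⟩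
  · rintro α hα i x ⟨hxD, hxZ⟩
    refine ⟨hDinv α hα x hxD, ?_⟩
    by_cases hx1 : (x : Ω) = 1
    · rw [show x = 1 from Subtype.ext hx1, map_one]
      exact one_mem _
    have hy : ((α x : P) : Ω) ^ smallExp p = 1 := hDe _ (hDinv α hα x hxD)
    have hy1 : ((α x : P) : Ω) ≠ 1 := fun h1 => hx1 (by
      have h2 : α x = α 1 := (Subtype.ext h1).trans (map_one α).symm
      rw [α.injective h2]; rfl)
    obtain ⟨hαh, -⟩ := hom_of_mem_autGroup hPS hα
    have hle : Subgroup.zpowers (x : Ω) ≤ P := Subgroup.zpowers_le.2 x.2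
    have hmem := h (Subgroup.zpowers (x : Ω)) (Subgroup.zpowers ((α x : P) : Ω))
      (Subgroup.zpowers_le.2 (hDK hxD)) (Subgroup.zpowers_le.2 (hDK (hDinv α hα x hxD)))
      inferInstance (card_zpowers_small (hDe _ hxD) hx1)
      inferInstance (card_zpowers_small hy hy1)
      (show (P.subtype.comp α.toMonoidHom).comp (Subgroup.inclusion hle) ∈ F.homSet _ _ from
        ⟨restrict_mem hαh hle, fun z => by
          obtain ⟨k, hk⟩ := Subgroup.mem_zpowers_iff.1 z.2
          refine Subgroup.mem_zpowers_iff.2 ⟨k, ?_⟩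
          show _ = ((α (Subgroup.inclusion hle z) : P) : Ω)
          rw [show Subgroup.inclusion hle z = x ^ k from Subtype.ext hk.symm, map_zpow]
          rfl⟩)
    obtain ⟨-, -, -, ψ, hψ, hψe, hψS⟩ := hmem
    have hle' : S ≤ Subgroup.zpowers (x : Ω) ⊔ S := le_sup_right
    have hψ' : ψ.comp (Subgroup.inclusion hle') ∈ F.Hom S := restrict_mem hψ hle'
    have hr : (ψ.comp (Subgroup.inclusion hle')).range = S := eq_of_isConj_self ⟨_, hψ', rfl⟩
    have h2 := apply_upperIn (toAut hψ' hr) (x := ⟨x, hPS x.2⟩) hxZ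
    rw [coe_toAut] at h2
    have h3 := hψe ⟨x, Subgroup.mem_zpowers _⟩
    have h4 : ψ.comp (Subgroup.inclusion hle') ⟨x, hPS x.2⟩ = ((α x : P) : Ω) := h3
    rwa [h4] at h2
  · rintro g hg hgN i x ⟨hxD, hxZ⟩ hxP
    refine ⟨D.mul_mem (D.inv_mem hxD) ?_, upperIn_step hxZ hg⟩
    exact hDinv _ (autInducedBy_le_autGroup F hPS (conjAut_mem_autInducedBy hg hgN)) ⟨x, hxP⟩ hxD

end Cfsg.Agent.S5297
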