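import Cfsg.Statements.S5298
import Cfsg.Agent.S5297


set_option autoImplicit false
universe u
open Cfsg Cfsg.FusionSystem Cfsg.Agent.Fusion Cfsg.Agent.Fusion.Small

namespace Cfsg.Agent.S5298

/-- Let F be a saturated fusion system over a finite p-group S. If every map of F between cyclic subgroups of the hyperfocal subgroup of F of order p or 4 is conjugation by an element of S, then F is the inner fusion system of S. -/
theorem result {Ω : Type u} [Group Ω] {S : Subgroup Ω} [Finite S] (p : ℕ) [Fact p.Prime] (hS : IsPGroup p S)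
    (F : Cfsg.FusionSystem S) (hF : F.IsSaturated p)
    (h : ∀ A B : Subgroup Ω, A ≤ (F.hyperfocalSubgroup p) → B ≤ (F.hyperfocalSubgroup p) → IsCyclic ↥A → (Nat.card ↥A = p ∨ Nat.card ↥A = 4) → IsCyclic ↥B → (Nat.card ↥B = p ∨ Nat.card ↥B = 4) →
      F.homSet A B ⊆ (Cfsg.innerFusionSystem S).Hom A) :
    ∀ P : Subgroup Ω, F.Hom P = (Cfsg.innerFusionSystem S).Hom P := by
  have hN : F.IsNormal S := by
    refine Cfsg.Agent.S5297.result p hS F hF fun A B hA hB hAc hAo hBc hBo φ hφ => ?_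
    obtain ⟨-, g, hg, hgx⟩ := h A B hA hB hAc hAo hBc hBo hφ
    have hAS : A ≤ S := dom_le hφ.1
    have hNS : ∀ s ∈ S, s ∈ normalizerIn S S := fun s hs => le_normalizerIn le_rfl hs
    have hsup : A ⊔ S ≤ S := sup_le hAS le_rfl
    refine ⟨hφ.1, fun a ha => hNS a (hAS ha), fun x => hNS _ (apply_mem hφ.1 x),
      Cfsg.conjHom (A ⊔ S) g, F.conj_mem hsup hg, fun x => (hgx x).symm, ?_⟩
    rw [map_subgroupOf_eq_iff (F.conj_mem hsup hg) le_sup_right]
    intro x hx
    exact S.mul_mem (S.mul_mem hg hx) (S.inv_mem hg)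
  -- `Aut_F(S)` is a `p`-group
  have := finite_autGroup (F := F) (P := S) le_rfl
  obtain ⟨D, hDS, hDK, hDe, hDinv, hdet⟩ := exists_detecting_in hS hF (P := S) le_rfl
  obtain ⟨m, hm⟩ := upperIn_top hS
  have hp : IsPGroup p (F.autGroup S) := by
    have htop : IsPGroup p (⊤ : Subgroup (F.autGroup S)) := by
      refine isPGroup_stabilizer hS le_rfl hdet (T := fun i => D ⊓ upperIn S i) (m := m)
        (by simp [upperIn_zero]) (le_inf le_rfl (hDS.trans hm.ge)) ⊤ ?_
      rintro α - i - x ⟨hxD, hxZ⟩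
      refine ⟨?_, ?_⟩
      · rw [Subgroup.coe_mul, Subgroup.coe_inv]
        exact D.mul_mem (D.inv_mem hxD) (hDinv _ α.2 x hxD)
      by_cases hx1 : (x : Ω) = 1
      · rw [show x = 1 from Subtype.ext hx1, map_one]
        simp
      have hy1 : (((α : MulAut S) x : S) : Ω) ≠ 1 := fun h1 => hx1 (by
        have h2 : (α : MulAut S) x = (α : MulAut S) 1 := (Subtype.ext h1).trans (map_one _).symm
        rw [(α : MulAut S).injective h2]; rfl)
      obtain ⟨hαh, -⟩ := hom_of_mem_autGroup le_rfl α.2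
      have hle : Subgroup.zpowers (x : Ω) ≤ S := Subgroup.zpowers_le.2 x.2
      obtain ⟨-, g, hg, hgx⟩ := h (Subgroup.zpowers (x : Ω))
        (Subgroup.zpowers (((α : MulAut S) x : S) : Ω))
        (Subgroup.zpowers_le.2 (hDK hxD)) (Subgroup.zpowers_le.2 (hDK (hDinv _ α.2 x hxD)))
        inferInstance (card_zpowers_small (hDe _ hxD) hx1)
        inferInstance (card_zpowers_small (hDe _ (hDinv _ α.2 x hxD)) hy1)
        (show (S.subtype.comp (α : MulAut S).toMonoidHom).comp (Subgroup.inclusion hle) ∈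
            F.homSet _ _ from ⟨restrict_mem hαh hle, fun z => by
          obtain ⟨k, hk⟩ := Subgroup.mem_zpowers_iff.1 z.2
          refine Subgroup.mem_zpowers_iff.2 ⟨k, ?_⟩
          show _ = (((α : MulAut S) (Subgroup.inclusion hle z) : S) : Ω)
          rw [show Subgroup.inclusion hle z = x ^ k from Subtype.ext hk.symm, map_zpow]
          rfl⟩)
      have h3 : (((α : MulAut S) x : S) : Ω) = g * (x : Ω) * g⁻¹ := hgx ⟨x, Subgroup.mem_zpowers _⟩
      rw [Subgroup.coe_mul, Subgroup.coe_inv, h3]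
      exact upperIn_step hxZ hg
    exact htop.of_equiv Subgroup.topEquiv
  have hAS : ∀ α ∈ F.autGroup S, α ∈ Inn S := fun α hα =>
    autInducedBy_self S ▸ autGroup_eq_of_isPGroup (isFullyAutomized_self hS hF) hp hα
  intro P
  refine Set.Subset.antisymm (fun φ hφ => ?_) fun φ hφ => ?_
  · obtain ⟨ψ, hψ, hψe, -⟩ := hN.2 P φ hφ
    have hle : S ≤ P ⊔ S := le_sup_right
    have hψ' : ψ.comp (Subgroup.inclusion hle) ∈ F.Hom S := restrict_mem hψ hle
    have hr : (ψ.comp (Subgroup.inclusion hle)).range = S := eq_of_isConj_self ⟨_, hψ', rfl⟩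
    obtain ⟨g, hg⟩ := hAS _ (toAut_mem hψ' hr)
    refine ⟨dom_le hφ, g, g.2, fun x => ?_⟩
    rw [← hψe x]
    exact (congrArg (fun a : MulAut S => ((a ⟨x, dom_le hφ x.2⟩ : S) : Ω)) hg).symm
  · obtain ⟨hP, g, hg, hgx⟩ := hφ
    exact mem_of_conj hP hg hgx

end Cfsg.Agent.S5298
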