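import Cfsg.Statements.S5299
import Cfsg.Agent.Lib.Fusion.Basic


set_option autoImplicit false
universe u
open Cfsg Cfsg.FusionSystem Cfsg.Agent.Fusion

namespace Cfsg.Agent.S5299

/-- Let F be a saturated fusion system over a finite p-group S, H a finite group and Q a p-subgroup of H. If Q is not involved in S (no section of S is isomorphic to Q), then F is H-free: H is involved in no model of the normalizer system of a fully normalized centric subgroup. -/
theorem result {Ω : Type u} [Group Ω] {S : Subgroup Ω} [Finite S] (p : ℕ) [Fact p.Prime] (hS : IsPGroup p S)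
    (F : Cfsg.FusionSystem S) (hF : F.IsSaturated p) (H : Type*) [Group H] [Finite H] (Q : Subgroup H) (hQ : IsPGroup p Q)
    (hfree : ¬ Cfsg.Involves (↥Q) (↥S)) : F.IsSectionFree p H := by
  intro Q' _ _ N _ L _ ι hmodel hinv
  apply hfree
  obtain ⟨hfin, ⟨hinj, -⟩, ⟨T, hT⟩, -⟩ := hmodel
  obtain ⟨K, R, hR, ⟨e⟩⟩ := hinv
  let f : K →* H := e.toMonoidHom.comp (QuotientGroup.mk' (R.subgroupOf K))
  have hf : Function.Surjective f := e.surjective.comp (QuotientGroup.mk'_surjective _)
  let g : Q.comap f →* Q := (f.comp (Q.comap f).subtype).codRestrict Q fun x => x.2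
  have hg : Function.Surjective g := fun q => by
    obtain ⟨x, hx⟩ := hf q
    exact ⟨⟨x, show f x ∈ Q from hx ▸ q.2⟩, Subtype.ext hx⟩
  obtain ⟨U⟩ : Nonempty (Sylow p (Q.comap f)) := Sylow.nonempty
  have hU : Function.Surjective (g.comp (U : Subgroup (Q.comap f)).subtype) := by
    have h1 := (U.mapSurjective hg).is_maximal' (hQ.to_subgroup ⊤) le_top
    intro q
    obtain ⟨x, hx, rfl⟩ := h1.le (Subgroup.mem_top q)
    exact ⟨⟨x, hx⟩, rfl⟩
  let j : (U : Subgroup (Q.comap f)) →* L := K.subtype.comp ((Q.comap f).subtype.comp (U : Subgroup (Q.comap f)).subtype)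
  have hj : Function.Injective j :=
    K.subtype_injective.comp ((Q.comap f).subtype_injective.comp (U : Subgroup (Q.comap f)).subtype_injective)
  obtain ⟨V, hV⟩ := (IsPGroup.of_surjective U.2 j.rangeRestrict j.rangeRestrict_surjective).exists_le_sylow
  let ι' : ↥(normalizerIn S Q') →* (T : Subgroup L) := ι.codRestrict T fun x => hT.ge ⟨x, rfl⟩
  let eN : ↥(normalizerIn S Q') ≃* (T : Subgroup L) := MulEquiv.ofBijective ι'
    ⟨fun a b h => hinj (congrArg Subtype.val h), fun y => by
      obtain ⟨x, hx⟩ := hT.le y.2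
      exact ⟨x, Subtype.ext hx⟩⟩
  let emb : (U : Subgroup (Q.comap f)) →* ↥S :=
    (Subgroup.inclusion (normalizerIn_le S Q')).comp (eN.symm.toMonoidHom.comp
      ((V.equiv T).toMonoidHom.comp (j.codRestrict V fun x => hV ⟨x, rfl⟩)))
  have hemb : Function.Injective emb :=
    (Subgroup.inclusion_injective (normalizerIn_le S Q')).comp (eN.symm.injective.comp ((V.equiv T).injective.comp
      fun a b h => hj (congrArg (fun z : (V : Subgroup L) => (z : L)) h)))
  let f' : emb.range →* Q := (g.comp (U : Subgroup (Q.comap f)).subtype).comp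
    (MonoidHom.ofInjective hemb).symm.toMonoidHom
  have hf' : Function.Surjective f' := hU.comp (MonoidHom.ofInjective hemb).symm.surjective
  have hker : (f'.ker.map emb.range.subtype).subgroupOf emb.range = f'.ker :=
    Subgroup.comap_map_eq_self_of_injective emb.range.subtype_injective _
  haveI hn : ((f'.ker.map emb.range.subtype).subgroupOf emb.range).Normal := by
    rw [hker]; exact f'.normal_ker
  refine ⟨emb.range, f'.ker.map emb.range.subtype, hn, ⟨?_⟩⟩
  exact (QuotientGroup.quotientMulEquivOfEq hker).trans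
    (QuotientGroup.quotientKerEquivOfSurjective f' hf')

end Cfsg.Agent.S5299
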