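import Cfsg.Statements.S5300
import Cfsg.Agent.Lib.Fusion.SmallElements


set_option autoImplicit false
universe u
open Cfsg Cfsg.FusionSystem Cfsg.Agent.Fusion Cfsg.Agent.Fusion.Small

namespace Cfsg.Agent.S5300

/-- Let F be a saturated fusion system over a finite p-group S. If every cyclic subgroup of the focal subgroup of F of order p (of order 2 or 4 when p = 2) is normal in S, then S is normal in F. -/
theorem result {Ω : Type u} [Group Ω] {S : Subgroup Ω} [Finite S] (p : ℕ) [Fact p.Prime] (hS : IsPGroup p S)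
    (F : Cfsg.FusionSystem S) (hF : F.IsSaturated p)
    (hnorm : ∀ x ∈ F.focalSubgroup, (x ^ p = 1 ∨ (p = 2 ∧ x ^ 4 = 1)) → ∀ s ∈ S, s * x * s⁻¹ ∈ Subgroup.zpowers x) :
    F.IsNormal S := by
  refine isNormal_of_small_chains hS hF fun P D hPS hDP hDK hDe hDinv => ?_
  have hfoc : ∀ x ∈ D, ∀ s ∈ S, s * x * s⁻¹ ∈ Subgroup.zpowers x := fun x hx =>
    hnorm x (hyperfocal_le_focal F p (hDK hx)) (pow_smallExp_cases (hDe x hx))
  have hcent : ∀ x ∈ D, x ^ p = 1 → x ∈ Subgroup.centralizer (S : Set Ω) := by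
    intro x hxD hxp s hs
    by_cases hx1 : x = 1
    · simp [hx1]
    have hord : orderOf x = p := orderOf_eq_prime hxp hx1
    obtain ⟨k, hk⟩ := Subgroup.mem_zpowers_iff.1 (hfoc x hxD s hs)
    have hit : ∀ n : ℕ, s ^ n * x * (s ^ n)⁻¹ = x ^ (k ^ n) := by
      intro n
      induction n with
      | zero => simp
      | succ n ih =>
        calc s ^ (n + 1) * x * (s ^ (n + 1))⁻¹ = MulAut.conj s (s ^ n * x * (s ^ n)⁻¹) := by
              rw [pow_succ', MulAut.conj_apply]; group
          _ = x ^ k ^ (n + 1) := by rw [ih, map_zpow, MulAut.conj_apply, ← hk, ← zpow_mul, pow_succ']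
    obtain ⟨m, hm⟩ := hS ⟨s, hs⟩
    have hsm : s ^ p ^ m = 1 := congrArg Subtype.val hm
    have h1 := hit (p ^ m)
    rw [hsm, one_mul, inv_one, mul_one] at h1
    have h2 : x ^ (1 : ℤ) = x ^ (k ^ p ^ m) := by rw [zpow_one]; exact h1
    rw [zpow_eq_zpow_iff_modEq, hord, ← ZMod.intCast_eq_intCast_iff] at h2
    push_cast at h2
    rw [ZMod.pow_card_pow] at h2
    have h3 : x ^ k = x ^ (1 : ℤ) := by
      rw [zpow_eq_zpow_iff_modEq, hord, ← ZMod.intCast_eq_intCast_iff]
      push_cast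
      exact h2.symm
    rw [zpow_one] at h3
    have h4 : s * x * s⁻¹ = x := hk.symm.trans h3
    calc s * x = s * x * s⁻¹ * s := by group
      _ = x * s := by rw [h4]
  let T1 : Subgroup Ω :=
    { carrier := {x | x ∈ D ∧ x ^ p = 1}
      one_mem' := ⟨one_mem _, one_pow _⟩
      mul_mem' := fun {x y} hx hy => ⟨mul_mem hx.1 hy.1, by
        have hc : Commute x y := (hcent y hy.1 hy.2 x (hPS (hDP hx.1)))
        rw [hc.mul_pow, hx.2, hy.2, one_mul]⟩
      inv_mem' := fun {x} hx => ⟨inv_mem hx.1, by rw [inv_pow, hx.2, inv_one]⟩ }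
  refine ⟨fun i => if i = 0 then ⊥ else if i = 1 then T1 else D, 2, rfl, le_rfl, ?_, ?_⟩
  · intro α hα i x hx
    rcases i with _ | _ | n
    · 
      have hx1 : x = 1 := Subtype.ext (Subgroup.mem_bot.1 hx)
      subst hx1
      simp
    · exact ⟨hDinv α hα x hx.1, by
        rw [← Subgroup.coe_pow, ← map_pow, show x ^ p = 1 from Subtype.ext hx.2, map_one]; rfl⟩
    · exact hDinv α hα x hx
  · intro g hg hgN i x hx hxP
    rcases i with _ | _ | n
    · 
      have hx' : x ∈ D ∧ x ^ p = 1 := hx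
      have hc := hcent x hx'.1 hx'.2 g hg
      show _ ∈ (⊥ : Subgroup Ω)
      rw [Subgroup.mem_bot, hc, mul_inv_cancel_right, inv_mul_cancel]
    · 
      have hxD : x ∈ D := hx
      refine ⟨D.mul_mem (D.inv_mem hxD) (hDinv _ (autInducedBy_le_autGroup F hPS
        (conjAut_mem_autInducedBy hg hgN)) ⟨x, hxP⟩ hxD), ?_⟩
      by_cases hxp : x ^ p = 1
      · rw [hcent x hxD hxp g hg, mul_inv_cancel_right, inv_mul_cancel, one_pow]
      · rcases pow_smallExp_cases (hDe x hxD) with h4 | ⟨rfl, h4⟩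
        · exact absurd h4 hxp
        obtain ⟨k, hk⟩ := Subgroup.mem_zpowers_iff.1 (hfoc x hxD g hg)
        rw [← hk]
        have hodd : Odd k := by
          by_contra he
          obtain ⟨j, rfl⟩ := Int.not_odd_iff_even.1 he
          apply hxp
          have h5 : (g * x * g⁻¹) ^ 2 = 1 := by
            rw [← hk, ← zpow_natCast, ← zpow_mul, show (j + j) * ((2 : ℕ) : ℤ) = ((4 : ℕ) : ℤ) * j by
              push_cast; ring, zpow_mul, zpow_natCast, h4, one_zpow]
          rw [conj_pow] at h5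
          exact conj_eq_one_iff.1 h5
        obtain ⟨j, rfl⟩ := hodd
        rw [← zpow_neg_one, ← zpow_add, ← zpow_natCast, ← zpow_mul,
          show (-1 + (2 * j + 1)) * ((2 : ℕ) : ℤ) = ((4 : ℕ) : ℤ) * j by push_cast; ring,
          zpow_mul, zpow_natCast, h4, one_zpow]
    · 
      show _ ∈ D
      exact D.mul_mem (D.inv_mem hx) (hDinv _ (autInducedBy_le_autGroup F hPS
        (conjAut_mem_autInducedBy hg hgN)) ⟨x, hxP⟩ hx)

end Cfsg.Agent.S5300
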