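import Cfsg.Statements.S5306
import Cfsg.Agent.Lib.Transfer.Fusion


set_option autoImplicit false
open Cfsg

namespace Cfsg.Agent.S5306

/-- Let P be a Sylow p-subgroup of the finite group X and J = J(P) its Thompson subgroup (generated by the elementary abelian subgroups of P of largest order). If x and y lie in the centre of J and y = g x g⁻¹ for some g in X, then y = n x n⁻¹ for some n in the normalizer N_X(J). -/
theorem result {X : Type*} [Group X] [Finite X] (p : ℕ) [Fact p.Prime] (P : Sylow p X) (J : Subgroup X) (hJ : J = Cfsg.thompsonSubgroupOf p (P : Subgroup X))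
    (x y : X) (hx : x ∈ J ∧ ∀ j ∈ J, Commute j x) (hy : y ∈ J ∧ ∀ j ∈ J, Commute j y) (g : X) (hg : g * x * g⁻¹ = y) :
    ∃ n ∈ Subgroup.normalizer (J : Set X), n * x * n⁻¹ = y := by
  classical
  subst hJ
  set J : Subgroup X := Cfsg.thompsonSubgroupOf p (P : Subgroup X) with hJ
  have hJP : J ≤ (P : Subgroup X) := Subgroup.map_subtype_le _
  have hwc : Cfsg.IsWeaklyClosed J (P : Subgroup X) := by
    refine ⟨hJP, fun c hc => ?_⟩
    refine Subgroup.eq_of_le_of_card_ge ?_ (by rw [Subgroup.card_map_of_injective (MulAut.conj c).injective])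
    have key : ∀ w ∈ Cfsg.thompsonSubgroup p (P : Subgroup X), c * (w : X) * c⁻¹ ∈ J := by
      suffices h : Cfsg.thompsonSubgroup p (P : Subgroup X) ≤
          (J.comap (MulAut.conj c).toMonoidHom).comap (P : Subgroup X).subtype by
        intro w hw
        exact h hw
      refine sSup_le fun A hA => ?_
      have hmapP : (A.map (P : Subgroup X).subtype).map (MulAut.conj c).toMonoidHom ≤ (P : Subgroup X) := by
        refine le_trans (Subgroup.map_mono ?_) hc
        exact Subgroup.map_mono (le_sSup hA)
      set B : Subgroup (P : Subgroup X) :=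
        ((A.map (P : Subgroup X).subtype).map (MulAut.conj c).toMonoidHom).subgroupOf (P : Subgroup X) with hB
      have hBel : Cfsg.IsElementaryAbelian p B := by
        obtain ⟨hc1, hc2⟩ := hA.1
        constructor
        · refine ⟨⟨fun u v => ?_⟩⟩
          obtain ⟨_, ⟨a, ha, rfl⟩, hu⟩ := u.2
          obtain ⟨_, ⟨b, hb, rfl⟩, hv⟩ := v.2
          apply Subtype.ext
          apply Subtype.ext
          have hab : a * b = b * a := congrArg Subtype.val (hc1.is_comm.comm (⟨a, ha⟩ : A) ⟨b, hb⟩)
          show ((u : (P : Subgroup X)) : X) * (v : (P : Subgroup X)) = ((v : (P : Subgroup X)) : X) * (u : (P : Subgroup X))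
          have hu'' : c * (a : X) * c⁻¹ = ((u : (P : Subgroup X)) : X) := hu
          have hv'' : c * (b : X) * c⁻¹ = ((v : (P : Subgroup X)) : X) := hv
          have hab' : (a : X) * b = b * a := congrArg Subtype.val hab
          rw [← hu'', ← hv'']
          calc c * (a : X) * c⁻¹ * (c * (b : X) * c⁻¹) = c * ((a : X) * b) * c⁻¹ := by group
            _ = c * ((b : X) * a) * c⁻¹ := by rw [hab']
            _ = _ := by group
        · intro u hu
          obtain ⟨_, ⟨a, ha, rfl⟩, hu'⟩ := hu
          apply Subtype.ext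
          show ((u : X)) ^ p = 1
          have hu'' : c * (a : X) * c⁻¹ = (u : X) := hu'
          have ha' : (a : X) ^ p = 1 := congrArg Subtype.val (hc2 a ha)
          rw [← hu'', conj_pow, ha', mul_one, mul_inv_cancel]
      have hBmem : B ∈ Cfsg.maxElementaryAbelianSubgroups p (P : Subgroup X) := by
        refine ⟨hBel, fun C hC => (hA.2 C hC).trans (le_of_eq ?_)⟩
        rw [hB, Nat.card_congr (Subgroup.subgroupOfEquivOfLe hmapP).toEquiv,
          Subgroup.card_map_of_injective (MulAut.conj c).injective,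
          Subgroup.card_map_of_injective (P : Subgroup X).subtype_injective]
      intro a ha
      have hm : c * (a : X) * c⁻¹ ∈ (A.map (P : Subgroup X).subtype).map (MulAut.conj c).toMonoidHom :=
        ⟨a, ⟨a, ha, rfl⟩, rfl⟩
      show c * (a : X) * c⁻¹ ∈ J
      exact ⟨⟨_, hmapP hm⟩, le_sSup hBmem hm, rfl⟩
    rintro _ ⟨_, ⟨w, hw, rfl⟩, rfl⟩
    exact key w hw
  obtain ⟨n, hn, hnx⟩ := Cfsg.Agent.Transfer.exists_normalizer_conj_eq_of_weaklyClosed P hwc {x} g
    (by rintro a rfl; exact Subgroup.mem_centralizer_iff.2 fun j hj => (hx.2 j hj).eq)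
    (by rintro a rfl; rw [hg]; exact Subgroup.mem_centralizer_iff.2 fun j hj => (hy.2 j hj).eq)
  exact ⟨n, hn, (hnx x rfl).trans hg⟩

end Cfsg.Agent.S5306
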