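import Cfsg.Statements.S5311
import Cfsg.Agent.Lib.Fusion.Transport
-- import your own Cfsg.Agent.* helpers here

set_option autoImplicit false
open Cfsg

namespace Cfsg.Agent.S5311

open Cfsg.FusionSystem Cfsg.Agent.Fusion Cfsg.Agent.Fusion.Transport

universe u
variable {Ω : Type u} [Group Ω] {S : Subgroup Ω}

theorem induced_comp_back {T : Subgroup Ω} {a b : S →* Ω} (hb : ∀ (s : S) (hs : a s ∈ S), b ⟨a s, hs⟩ = s)
    (hTS : T ≤ S) {P : Subgroup Ω} {φ : P →* Ω} {P' : Subgroup Ω} (hP' : P' ≤ S)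
    (he : imageAlong a P = P') {φ' : P' →* Ω} (hφ'S : ∀ y, φ' y ∈ S) (h : InducedAlong a φ φ') :
    InducedAlong b φ' φ := by
  obtain ⟨hP, hφS, hmem, hx⟩ := h
  refine ⟨hP', hφ'S, fun y => ?_, fun y => ?_⟩
  · obtain ⟨x, hxy⟩ := (mem_imageAlong hP).1 (he.ge y.2)
    rw [show (⟨(y : Ω), hP' y.2⟩ : S) = ⟨a ⟨x, hP x.2⟩, hxy ▸ hP' y.2⟩ from Subtype.ext hxy.symm, hb]
    exact x.2
  · obtain ⟨x, hxy⟩ := (mem_imageAlong hP).1 (he.ge y.2)
    obtain rfl : y = ⟨a ⟨x, hP x.2⟩, hmem x⟩ := Subtype.ext hxy.symm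
    have h1 : b ⟨φ' ⟨a ⟨x, hP x.2⟩, hmem x⟩, hφ'S _⟩ = φ x := by
      rw [show (⟨φ' ⟨a ⟨x, hP x.2⟩, hmem x⟩, hφ'S _⟩ : S) = ⟨a ⟨φ x, hφS x⟩, hx x ▸ hφ'S _⟩ from
        Subtype.ext (hx x), hb]
    rw [h1]
    exact congrArg φ (Subtype.ext (hb ⟨x, hP x.2⟩ _))

/-- An isomorphism of `F` pulls the layer into itself. -/
theorem layer_step [Finite S] {p : ℕ} [Fact p.Prime] {F : FusionSystem S} {a : S →* Ω}
    (h : IsIsoAlong F F a) {T : Subgroup Ω} {E : FusionSystem T} (hE : E.IsLayerOf F p) :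
    imageAlong a T = T ∧ ∀ {P : Subgroup Ω} (φ : P →* Ω) (φ' : imageAlong a P →* Ω), P ≤ T →
      InducedAlong a φ φ' → φ' ∈ E.Hom (imageAlong a P) → φ ∈ E.Hom P := by
  obtain ⟨hn, hcomp, hmin⟩ := hE
  have hTS : T ≤ S := hn.1.2.2.2.1.1
  obtain ⟨E', hE'⟩ := exists_image h E hTS
  have hn' := isNormalIn_fwd h hTS hE' hn
  obtain ⟨b, hb, hbv, himg⟩ := exists_symm h
  have hsub : E.IsSubsystemOf E' := hmin _ E' hn' fun U C hC => by
    have hUS : U ≤ S := subnormal_le hC.1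
    have := finite_of_le hUS
    obtain ⟨C', hC'⟩ := exists_image hb C hUS
    have hCE := hcomp _ C' ⟨isSubnormalIn_fwd hC.1 hb hUS hC', quasisimple_fwd hC' hC.2⟩
    intro P φ hφ
    have hPU : P ≤ U := dom_le hφ
    obtain ⟨χ, hχ, hi⟩ := hom_fwd hC' (imageAlong_restrict hUS hPU) hφ
    have hχE := hCE _ hχ
    have hχT : imageAlong b P ≤ T := dom_le hχE
    have hPP : imageAlong a (imageAlong b P) = P := by
      obtain ⟨R, hR, rfl⟩ := h.exists_preimage (hPU.trans hUS)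
      rw [himg R hR]
    refine mem_fwd hE' ((imageAlong_restrict hTS hχT).trans hPP) hχE ?_
    have hiS : InducedAlong b φ χ := by
      obtain ⟨hP, hφU, hm, hx⟩ := hi
      exact ⟨hP.trans hUS, fun x => hUS (hφU x), hm, hx⟩
    obtain ⟨h1, h2, h3, h4⟩ := induced_comp_back (T := T) (a := b) (b := a)
      (fun s hs => by
        obtain ⟨s, hsS⟩ := s
        obtain ⟨t, rfl⟩ := h.range_eq.ge hsS
        exact congrArg a (Subtype.ext (hbv t _))) hTS (hχT.trans hTS) rfl (apply_mem (hn.1.2.2.1 _ hχE)) hiS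
    exact ⟨hχT, apply_mem hχE, h3, h4⟩
  have hT : imageAlong a T = T := by
    have hle : T ≤ imageAlong a T := dom_le (hsub T (subtype_mem E le_rfl))
    have := finite_of_le (h.img_le T)
    exact (Subgroup.eq_of_le_of_card_ge hle (h.card_img hTS).le).symm
  refine ⟨hT, fun {P} φ φ' hPT hi hφ' => ?_⟩
  refine mem_bwd hE' (imageAlong_restrict hTS hPT) (hsub _ hφ') ?_
  obtain ⟨hP, hφS, hm, hx⟩ := hi
  refine ⟨hPT, fun x => ?_, hm, hx⟩
  refine imageAlong_inj_mem h hTS (s := ⟨φ x, hφS x⟩) (hT.ge ?_)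
  rw [← hx x]
  exact apply_mem hφ' _

/-- The layer of a saturated fusion system F over a finite p-group S is characteristic in F: for every automorphism α of S that is an automorphism of F (α and its inverse are morphisms from F to F) and every layer E of F over T, α carries T onto T and, for every map φ of E with source P, the map induced by α on α(P) (that is, α ∘ φ ∘ α⁻¹) is a map of E. -/
theorem result {Ω : Type*} [Group Ω] {S : Subgroup Ω} [Finite S] (p : ℕ) [Fact p.Prime] (hS : IsPGroup p S) (F : Cfsg.FusionSystem S) (hF : F.IsSaturated p)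
    (α : ↥S ≃* ↥S) (hα : F.IsMorphism F (S.subtype.comp α.toMonoidHom))
    (hα' : F.IsMorphism F (S.subtype.comp α.symm.toMonoidHom))
    {T : Subgroup Ω} (E : Cfsg.FusionSystem T) (hE : E.IsLayerOf F p) :
    Cfsg.FusionSystem.imageAlong (S.subtype.comp α.toMonoidHom) T = T ∧
      ∀ (P : Subgroup Ω) (φ : ↥P →* Ω), φ ∈ E.Hom P →
        ∀ φ' : ↥(Cfsg.FusionSystem.imageAlong (S.subtype.comp α.toMonoidHom) P) →* Ω,
          Cfsg.FusionSystem.InducedAlong (S.subtype.comp α.toMonoidHom) φ φ' →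
            φ' ∈ E.Hom (Cfsg.FusionSystem.imageAlong (S.subtype.comp α.toMonoidHom) P) := by
  set a := S.subtype.comp α.toMonoidHom with ha
  set b := S.subtype.comp α.symm.toMonoidHom with hb
  have hinj : Function.Injective a := S.subtype_injective.comp α.injective
  have hba : ∀ (s : S) (hs : a s ∈ S), b ⟨a s, hs⟩ = s := fun s hs =>
    congrArg Subtype.val (α.symm_apply_apply s)
  have himg : ∀ P : Subgroup Ω, P ≤ S → imageAlong b (imageAlong a P) = P := fun P hP => by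
    ext x
    have hle : imageAlong a P ≤ S := fun y hy => by
      obtain ⟨z, rfl⟩ := (mem_imageAlong hP).1 hy
      exact Subtype.property _
    rw [mem_imageAlong hle]
    constructor
    · rintro ⟨⟨y, hy⟩, rfl⟩
      obtain ⟨z, rfl⟩ := (mem_imageAlong hP).1 hy
      rw [hba]
      exact z.2
    · intro hx
      exact ⟨⟨a ⟨x, hP hx⟩, (mem_imageAlong hP).2 ⟨⟨x, hx⟩, rfl⟩⟩, hba _ _⟩
  have hiso : IsIsoAlong F F a := by
    refine ⟨hinj, ?_, fun {P} hP φ hφ => ⟨fun hm => ?_, fun hm => ?_⟩⟩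
    · ext y
      constructor
      · rintro ⟨x, rfl⟩; exact Subtype.property _
      · intro hy; exact ⟨α.symm ⟨y, hy⟩, congrArg Subtype.val (α.apply_symm_apply _)⟩
    · obtain ⟨φ', hφ', hi⟩ := hα.2 P φ hm
      convert hφ' using 1
      exact induced_unique rfl ⟨hP, hφ, fun x => (mem_imageAlong hP).2 ⟨x, rfl⟩,
        fun x => transHom_apply hinj hP hφ x⟩ hi
    · obtain ⟨χ, hχ, hi⟩ := hα'.2 _ _ hm
      have hback := induced_comp_back (T := S) (b := b) hba le_rfl (dom_le hm) rfl (apply_mem hm)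
        (φ := φ) ⟨hP, hφ, fun x => (mem_imageAlong hP).2 ⟨x, rfl⟩, fun x => transHom_apply hinj hP hφ x⟩
      have hc := mem_congr hχ (himg P hP).symm (ψ := φ) ?_
      · exact hc
      · intro x hx
        refine (DFunLike.congr_fun (induced_unique (himg P hP) hback
          (φ'' := χ.comp (Subgroup.inclusion (himg P hP).ge)) ?_) ⟨x, hx⟩)
        obtain ⟨h1, h2, h3, h4⟩ := hi
        exact ⟨h1, h2, fun y => (himg P hP).le (h3 y), fun y => h4 y⟩
  obtain ⟨c, hc, hcv, hcimg⟩ := exists_symm hiso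
  have hTS : T ≤ S := hE.1.1.2.2.2.1.1
  obtain ⟨hT, -⟩ := layer_step hiso hE
  refine ⟨hT, fun P φ hφ φ' hi => ?_⟩
  have hPT : P ≤ T := dom_le hφ
  have hle : imageAlong a P ≤ T := (imageAlong_mono hPT).trans hT.le
  have he : imageAlong c (imageAlong a P) = P := hcimg P (hPT.trans hTS)
  obtain ⟨hP, hφS, hm, hx⟩ := hi
  have hφ'S : ∀ y, φ' y ∈ S := fun y => by
    obtain ⟨x, hxy⟩ := (mem_imageAlong hP).1 y.2
    obtain rfl : y = ⟨_, hm x⟩ := Subtype.ext hxy.symm
    rw [hx x]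
    exact Subtype.property _
  obtain ⟨h1, h2, h3, h4⟩ := induced_comp_back (T := T) hcv hTS (hle.trans hTS) rfl hφ'S ⟨hP, hφS, hm, hx⟩
  exact (layer_step hc hE).2 φ' (φ.comp (Subgroup.inclusion he.le)) hle
    ⟨h1, h2, fun y => he.ge (h3 y), fun y => h4 y⟩ (restrict_mem hφ he.le)

end Cfsg.Agent.S5311
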