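import Cfsg.Statements.S5315
import Cfsg.Agent.S5084
import Cfsg.Agent.S5144
import Cfsg.Agent.Lib.Fusion.Hyperfocal
import Cfsg.Agent.Lib.Fusion.Alperin
import Cfsg.Agent.Lib.Fusion.Constructions
import Cfsg.Agent.Lib.Fusion.Group
-- import your own Cfsg.Agent.* helpers here

set_option autoImplicit false
open Cfsg Cfsg.FusionSystem Cfsg.Agent.Fusion
open Cfsg

namespace Cfsg.Agent.S5315

variable {Ω : Type*} [Group Ω] {S : Subgroup Ω}

theorem center_fix [Finite S] (F : Cfsg.FusionSystem S) {P : Subgroup Ω} {φ : P →* Ω}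
    (hφ : φ ∈ F.Hom P) {z : P} (hz : (z : Ω) ∈ F.center) : φ z = z := by
  obtain ⟨ψ, -, h1, h2⟩ := (Cfsg.Agent.S5144.result F).2 P φ hφ
  exact (h1 z).symm.trans (h2 ⟨z, hz⟩)

theorem center_comm [Finite S] (F : Cfsg.FusionSystem S) {s z : Ω} (hs : s ∈ S) (hz : z ∈ F.center) :
    s * z = z * s := by
  have h := center_fix F (F.conj_mem (Cfsg.Agent.S5144.result F).1 hs) (z := ⟨z, hz⟩) hz
  exact mul_inv_eq_iff_eq_mul.1 h

/-- A map whose source contains the centre induces a map of the factor system. -/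
theorem exists_bar [Finite S] {F : Cfsg.FusionSystem S}
    {E : Cfsg.FusionSystem (⊤ : Subgroup (↥S ⧸ (F.center).subgroupOf S))} [((F.center).subgroupOf S).Normal]
    {θ : S →* ↥S ⧸ (F.center).subgroupOf S} (hθ : F.IsFactorSystem F.center θ E)
    {Q : Subgroup Ω} (hQ : F.center ≤ Q) {φ : Q →* Ω} (hφ : φ ∈ F.Hom Q) :
    ∃ (P' : Subgroup (↥S ⧸ (F.center).subgroupOf S)) (φ' : P' →* ↥S ⧸ (F.center).subgroupOf S)
      (hmem : ∀ x : Q, θ ⟨x, dom_le hφ x.2⟩ ∈ P'), φ' ∈ E.Hom P' ∧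
      ∀ x : Q, φ' ⟨θ ⟨x, dom_le hφ x.2⟩, hmem x⟩ = θ ⟨φ x, apply_mem hφ x⟩ := by
  obtain ⟨-, hker, -, hmap⟩ := hθ
  have hQS : Q ≤ S := dom_le hφ
  set P' := (Q.subgroupOf S).map θ with hP'
  have hpre : preimageAlong θ P' ≤ Q := by
    intro x hx
    obtain ⟨hxS, w, hw, hwx⟩ := mem_preimageAlong.1 hx
    have h1 : θ (w⁻¹ * ⟨x, hxS⟩) = 1 := by rw [map_mul, map_inv, hwx, inv_mul_cancel]
    have h2 := Q.mul_mem hw (hQ ((hker _).1 h1))
    have h3 : (w : Ω) * ((w : Ω)⁻¹ * x) ∈ Q := h2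
    rwa [mul_inv_cancel_left] at h3
  let f : Q →* P' := (θ.comp (Subgroup.inclusion hQS)).codRestrict P' fun w =>
    ⟨⟨w, hQS w.2⟩, w.2, rfl⟩
  have hf : Function.Surjective f := by
    rintro ⟨_, w, hw, rfl⟩
    exact ⟨⟨w, hw⟩, Subtype.ext rfl⟩
  let g : Q →* ↥S ⧸ (F.center).subgroupOf S := θ.comp (φ.codRestrict S (apply_mem hφ))
  have hfg : f.ker ≤ g.ker := by
    intro w hw
    have hw' : (w : Ω) ∈ F.center := (hker ⟨w, hQS w.2⟩).1 (congrArg Subtype.val hw)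
    refine (hker ⟨φ w, apply_mem hφ w⟩).2 ?_
    show φ w ∈ F.center
    rw [center_fix F hφ hw']
    exact hw'
  refine ⟨P', f.liftOfSurjective hf ⟨g, hfg⟩, fun x => ⟨⟨x, hQS x.2⟩, x.2, rfl⟩, ?_,
    fun x => f.liftOfRightInverse_comp_apply _ _ ⟨g, hfg⟩ x⟩
  exact (hmap _ _).2 ⟨le_top, _, restrict_mem hφ hpre, hpre.trans hQS,
    fun x => apply_mem hφ _, fun x => (mem_preimageAlong.1 x.2).2,
    fun x => f.liftOfRightInverse_comp_apply _ _ ⟨g, hfg⟩ (Subgroup.inclusion hpre x)⟩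


/-- An analogue of Grün's lemma for fusion systems. Let F be a saturated fusion system over a finite p-group S that is perfect in the sense that its hyperfocal subgroup is all of S (F coincides with its p-residual subsystem). Then the second centre of F equals its centre: every fusion system over S/(Z(F) ∩ S) that is the factor system of F modulo its centre Z(F), read through the quotient map, has trivial centre. -/
theorem result {Ω : Type*} [Group Ω] {S : Subgroup Ω} [Finite S] (p : ℕ) [Fact p.Prime] (hS : IsPGroup p S) (F : Cfsg.FusionSystem S) (hF : F.IsSaturated p)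
    (hperf : F.hyperfocalSubgroup p = S)
    (E : Cfsg.FusionSystem (⊤ : Subgroup (↥S ⧸ (F.center).subgroupOf S)))
    (hE : F.IsFactorSystem F.center (QuotientGroup.mk' ((F.center).subgroupOf S)) E) : E.center = ⊥ := by
  set Z := F.center with hZdef
  set θ := QuotientGroup.mk' (Z.subgroupOf S) with hθdef
  obtain ⟨hZS, hker, hran, hmap⟩ := id hE
  obtain ⟨-, hEext⟩ := Cfsg.Agent.S5144.result E
  set Y := preimageAlong θ E.center with hYdef
  have hYS : Y ≤ S := preimageAlong_le θ _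
  have hZY : Z ≤ Y := fun z hz => mem_preimageAlong.2 ⟨hZS hz, by
    rw [(hker ⟨z, hZS hz⟩).2 hz]
    exact one_mem _⟩
  have hmodZ : ∀ {a b : S}, θ a = θ b → (a : Ω)⁻¹ * b ∈ Z := by
    intro a b hab
    exact (hker (a⁻¹ * b)).1 (by rw [map_mul, map_inv, hab, inv_mul_cancel])
  -- every map modulo `Z` fixes the elements of `Y`
  have hYmod : ∀ (P : Subgroup Ω) (φ : P →* Ω), φ ∈ F.Hom P → ∀ x : P, (x : Ω) ∈ Y →
      (x : Ω)⁻¹ * φ x ∈ Z := by
    intro P φ hφ x hx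
    obtain ⟨φ₁, hφ₁, he, -⟩ := (Cfsg.Agent.S5144.result F).2 P φ hφ
    obtain ⟨P', φ', hmem, hφ', hv⟩ := exists_bar hE le_sup_right hφ₁
    have h1 := hv ⟨x, Subgroup.mem_sup_left x.2⟩
    rw [center_fix E hφ' (z := ⟨θ ⟨x, _⟩, hmem ⟨x, Subgroup.mem_sup_left x.2⟩⟩) (mem_preimageAlong.1 hx).2] at h1
    have h2 := hmodZ h1
    have h3 : (x : Ω)⁻¹ * φ₁ ⟨x, Subgroup.mem_sup_left x.2⟩ ∈ Z := h2
    rw [show φ₁ ⟨x, Subgroup.mem_sup_left x.2⟩ = φ x from he x] at h3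
    exact h3
  have hcomm : ∀ y ∈ Y, ∀ s ∈ S, s⁻¹ * (y * s * y⁻¹) ∈ Z := by
    intro y hy s hs
    have h1 := center_comm E (s := θ ⟨s, hs⟩) trivial (mem_preimageAlong.1 hy).2
    refine hmodZ (a := ⟨s, hs⟩) (b := ⟨y, hYS hy⟩ * ⟨s, hs⟩ * (⟨y, hYS hy⟩)⁻¹) ?_
    rw [map_mul, map_mul, map_inv]
    exact (mul_inv_eq_iff_eq_mul.2 h1.symm).symm
  -- `Y` is central in `S`
  have hYcent : ∀ y ∈ Y, ∀ s ∈ S, y * s = s * y := by
    intro y hy
    suffices h : F.focalSubgroup ≤ Subgroup.centralizer {y} by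
      intro s hs
      exact Subgroup.mem_centralizer_iff.1 (h (hyperfocal_le_focal F p (hperf.ge hs))) y rfl
    refine (Subgroup.closure_le _).2 ?_
    rintro _ ⟨P, φ, x, hφ, rfl⟩
    refine Subgroup.mem_centralizer_iff.2 ?_
    intro y₁ hy₁
    rw [Set.mem_singleton_iff.1 hy₁]
    clear hy₁ y₁
    obtain ⟨φ₁, hφ₁, he, -⟩ := (Cfsg.Agent.S5144.result F).2 P φ hφ
    obtain ⟨P', φ', hmem, hφ', hv⟩ := exists_bar hE le_sup_right hφ₁
    obtain ⟨ψ', hψ', hψe, hψfix⟩ := hEext P' φ' hφ'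
    obtain ⟨-, ψ, hψ, hP0, hψS, hψ2, hψv⟩ := (hmap _ _).1 hψ'
    have hx' : (x : Ω) ∈ preimageAlong θ (P' ⊔ E.center) :=
      mem_preimageAlong.2 ⟨dom_le hφ x.2,
        Subgroup.mem_sup_left (hmem ⟨x, Subgroup.mem_sup_left x.2⟩)⟩
    have hy' : y ∈ preimageAlong θ (P' ⊔ E.center) :=
      mem_preimageAlong.2 ⟨hYS hy, Subgroup.mem_sup_right (mem_preimageAlong.1 hy).2⟩
    have hzx : (φ x)⁻¹ * ψ ⟨x, hx'⟩ ∈ Z := by
      have h1 := hv ⟨x, Subgroup.mem_sup_left x.2⟩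
      rw [← hψe ⟨θ ⟨x, _⟩, hmem ⟨x, Subgroup.mem_sup_left x.2⟩⟩] at h1
      have h2 := hmodZ (h1.symm.trans (hψv ⟨x, hx'⟩))
      have h3 : (φ₁ ⟨x, Subgroup.mem_sup_left x.2⟩)⁻¹ * ψ ⟨x, hx'⟩ ∈ Z := h2
      rw [show φ₁ ⟨x, Subgroup.mem_sup_left x.2⟩ = φ x from he x] at h3
      exact h3
    have hzy : y⁻¹ * ψ ⟨y, hy'⟩ ∈ Z :=
      hmodZ (a := ⟨y, hYS hy⟩) ((hψfix ⟨θ ⟨y, hYS hy⟩, (mem_preimageAlong.1 hy).2⟩).symm.trans
        (hψv ⟨y, hy'⟩))
    -- the commutator is preserved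
    set c := (x : Ω)⁻¹ * (y * x * y⁻¹) with hc
    have hcZ : c ∈ Z := hcomm y hy x (dom_le hφ x.2)
    have hfix := center_fix F hψ (z := (⟨x, hx'⟩ : preimageAlong θ (P' ⊔ E.center))⁻¹ *
      (⟨y, hy'⟩ * ⟨x, hx'⟩ * (⟨y, hy'⟩)⁻¹)) hcZ
    simp only [map_mul, map_inv, Subgroup.coe_mul, Subgroup.coe_inv] at hfix
    obtain ⟨a, ha, hax⟩ : ∃ a ∈ Z, ψ ⟨x, hx'⟩ = φ x * a := ⟨_, hzx, by group⟩
    obtain ⟨b, hb, hby⟩ : ∃ b ∈ Z, ψ ⟨y, hy'⟩ = y * b := ⟨_, hzy, by group⟩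
    rw [hax, hby] at hfix
    have hφS : φ x ∈ S := apply_mem hφ x
    have hxS : (x : Ω) ∈ S := dom_le hφ x.2
    have e1 : b * (φ x * a) = φ x * a * b := (center_comm F (S.mul_mem hφS (hZS ha)) hb).symm
    have e2 : y * φ x * a = a * (y * φ x) := center_comm F (S.mul_mem (hYS hy) hφS) ha
    have e3 : y⁻¹ * a = a * y⁻¹ := center_comm F (S.inv_mem (hYS hy)) ha
    -- hence `φ x⁻¹ (y φ x y⁻¹) = c`
    have h3 : (φ x)⁻¹ * (y * φ x * y⁻¹) = c := by
      rw [hc, ← hfix]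
      calc (φ x)⁻¹ * (y * φ x * y⁻¹) = a⁻¹ * ((φ x)⁻¹ * (y * φ x * y⁻¹)) * a := by
            rw [← center_comm F (S.mul_mem (S.inv_mem hφS) (S.mul_mem (S.mul_mem (hYS hy) hφS)
              (S.inv_mem (hYS hy)))) (Z.inv_mem ha), inv_mul_cancel_right]
        _ = (φ x * a)⁻¹ * (y * (φ x * (y⁻¹ * a))) := by group
        _ = (φ x * a)⁻¹ * (y * (φ x * a) * y⁻¹) := by rw [e3]; group
        _ = (φ x * a)⁻¹ * (y * (b * (φ x * a)) * (y * b)⁻¹) := by rw [e1]; group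
        _ = (φ x * a)⁻¹ * (y * b * (φ x * a) * (y * b)⁻¹) := by group
    have hxy : y * (x : Ω) = x * c * y := by rw [hc]; group
    have hpy : y * φ x = φ x * c * y := by rw [← h3]; group
    have hcx : (x : Ω) * c = c * x := center_comm F hxS hcZ
    have hcp : φ x * c = c * φ x := center_comm F hφS hcZ
    calc y * ((x : Ω)⁻¹ * φ x) = ((x : Ω)⁻¹ * c⁻¹) * (x * c * y) * (x : Ω)⁻¹ * φ x := by
          rw [hcx]; group
      _ = ((x : Ω)⁻¹ * c⁻¹) * (y * φ x) := by rw [← hxy]; group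
      _ = ((x : Ω)⁻¹ * c⁻¹) * (c * φ x) * y := by rw [hpy, hcp]; group
      _ = (x : Ω)⁻¹ * φ x * y := by group
  -- `Y` is central in `F`
  suffices hYc : F.IsCentral Y by
    rw [eq_bot_iff]
    intro q hq
    obtain ⟨s, rfl⟩ := QuotientGroup.mk'_surjective _ q
    rw [Subgroup.mem_bot]
    exact (hker s).2 ((le_sSup hYc : Y ≤ F.center) (mem_preimageAlong.2 ⟨s.2, hq⟩))
  refine (Cfsg.Agent.S5084.result p hS F hF Y).2 ⟨hYS, fun x hx y ⟨φ, hφ, hy⟩ => ?_⟩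
  rw [← hy]
  refine alperin_induction hS hF (C := fun P φ => ∀ u : P, (u : Ω) ∈ Y → φ u = u)
    (fun P g _ hg u hu => ?_) (fun P Q φ ψ _ _ hcφ hcψ hv u hu => ?_)
    (fun P φ ψ _ hcφ _ hψv u hu => ?_) (fun R hn hc _ α hα => ?_) hφ ⟨x, _⟩ hx
  · show g * (u : Ω) * g⁻¹ = u
    rw [← hYcent u hu g hg, mul_inv_cancel_right]
  · have h1 := hcφ u hu
    show ψ (φ.codRestrict Q hv u) = u
    rw [hcψ _ (show φ u ∈ Y from h1 ▸ hu)]
    exact h1
  · obtain ⟨_, v, rfl⟩ := u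
    rw [hψv]
    -- `φ v` in `Y` forces `v` in `Y`
    have hψm : ψ ∈ F.Hom φ.range := by assumption
    have h1 := hYmod _ ψ hψm ⟨φ v, ⟨v, rfl⟩⟩ hu
    rw [hψv] at h1
    have h2 := Y.mul_mem hu (hZY h1)
    simp only [mul_inv_cancel_left] at h2
    exact (hcφ v h2).symm
  · intro u hu
    refine congrArg Subtype.val (?_ : α u = u)
    have hfinR := finite_of_le hn.1
    have hαh : ∀ β ∈ F.autGroup R, R.subtype.comp β.toMonoidHom ∈ F.Hom R := fun β hβ =>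
      (mem_autGroup_iff hn.1).1 hβ
    have hd : ∀ β ∈ F.autGroup R, ∀ v : R, (v : Ω) ∈ Y → ((v⁻¹ * β v : R) : Ω) ∈ Z :=
      fun β hβ v hv => hYmod _ _ (hαh β hβ) v hv
    have hfixZ : ∀ β ∈ F.autGroup R, ∀ z : R, (z : Ω) ∈ Z → β z = z := fun β hβ z hz =>
      Subtype.ext (center_fix F (hαh β hβ) hz)
    -- conjugates of elements of `Aut_S(R)` fix `Y ∩ R`
    obtain ⟨-, R0, hR0⟩ := isFullyAutomized_of_fullyNormalized hS hF hn
    have hpel : ∀ β : F.autGroup R, IsPGroup p (Subgroup.zpowers β) →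
        (β : MulAut R) u = u := by
      intro β hβ
      obtain ⟨g, hg⟩ := exists_conj_le R0 hβ
      have h1 : g * β * g⁻¹ ∈ (R0 : Subgroup (F.autGroup R)) :=
        hg ⟨β, Subgroup.mem_zpowers β, rfl⟩
      rw [hR0, Subgroup.mem_subgroupOf, mem_autInducedBy_iff] at h1
      obtain ⟨k, hk, hkv⟩ := h1
      have hgu : (((g : MulAut R) u : R) : Ω) ∈ Y := by
        have h2 := hd _ g.2 u hu
        have h3 := Y.mul_mem hu (hZY h2)
        simp only [Subgroup.coe_mul, Subgroup.coe_inv, mul_inv_cancel_left] at h3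
        exact h3
      have h4 := hkv ((g : MulAut R) u)
      rw [← hYcent _ hgu k hk, mul_inv_cancel_right] at h4
      have h5 : (g : MulAut R) ((β : MulAut R) u) = (g : MulAut R) u := by
        apply Subtype.ext
        rw [← h4]
        simp [MulAut.mul_apply, MulAut.inv_apply]
      exact (g : MulAut R).injective h5
    let a : F.autGroup R := ⟨α, hα⟩
    set d := u⁻¹ * α u with hdd
    have hdfix : α d = d := hfixZ α hα d (hd α hα u hu)
    have hiter : ∀ n : ℕ, (α ^ n) u = u * d ^ n := by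
      intro n
      induction n with
      | zero => simp
      | succ n ih =>
        rw [pow_succ' α, MulAut.mul_apply, ih, map_mul, map_pow, hdfix, hdd, pow_succ' (u⁻¹ * α u),
          ← mul_assoc, mul_inv_cancel_left]
    set N := orderOf a with hN
    have hN0 : N ≠ 0 := (orderOf_pos a).ne'
    set m := ordCompl[p] N with hm
    have hmN : m ∣ N := Nat.ordCompl_dvd N p
    have hpp : IsPGroup p (Subgroup.zpowers (a ^ m)) := by
      refine IsPGroup.of_card (n := N.factorization p) ?_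
      rw [Nat.card_zpowers, orderOf_pow_of_dvd (Nat.ordCompl_pos p hN0).ne' hmN]
      exact Nat.div_eq_of_eq_mul_left (Nat.ordCompl_pos p hN0)
        (Nat.ordProj_mul_ordCompl_eq_self N p).symm
    have h6 : (α ^ m) u = u := hpel _ hpp
    rw [hiter] at h6
    have h7 : d ^ m = 1 := mul_left_cancel (h6.trans (mul_one u).symm)
    obtain ⟨k, hk⟩ := (IsPGroup.iff_orderOf.1 (hS.to_le hn.1)) d
    have h8 : orderOf d = 1 := by
      refine Nat.eq_one_of_dvd_coprimes (?_ : (p ^ k).Coprime m) hk.dvd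
        (orderOf_dvd_of_pow_eq_one h7)
      exact (Nat.coprime_ordCompl (Fact.out : p.Prime) hN0).pow_left k
    rw [orderOf_eq_one_iff] at h8
    have h9 := hiter 1
    rw [pow_one, pow_one, h8, mul_one] at h9
    exact h9

end Cfsg.Agent.S5315
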