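import Cfsg.Statements.S5319
import Cfsg.Agent.Lib.Fusion.RankThreeTwo
import Cfsg.Agent.Lib.AutPSU.Basic
import Cfsg.Agent.S1218

set_option autoImplicit false
open Cfsg

namespace Cfsg.Agent.S5319

open Matrix Cfsg.Agent.Fusion.RankThreeTwo

section

variable {F : Type*} [Field F] [Fintype F] {q : ℕ} (hF : Fintype.card F = q ^ 2)
include hF

local notation "σq" => AutPSU.qAut hF

theorem mem_su (g : Matrix.SpecialLinearGroup (Fin 3) F) :
    g ∈ SU 3 F q ↔ g.valᵀ * g.val.map (σq) = 1 := by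
  show Matrix.SpecialLinearGroup.toGL g ∈ GU 3 F q ↔ _
  rw [AutPSU.mem_GU_iff hF]
  rfl

theorem emb_mem_su (g : GL (Fin 2) F) : emb g ∈ SU 3 F q ↔ g ∈ GU 2 F q := by
  rw [mem_su hF, AutPSU.mem_GU_iff hF, emb_val]
  constructor
  · intro h
    ext i j
    have e := fun a b => congrFun (congrFun h a) b
    fin_cases i <;> fin_cases j
    · simpa [blockMat, mul_apply, Fin.sum_univ_two, Fin.sum_univ_three] using e 0 0
    · simpa [blockMat, mul_apply, Fin.sum_univ_two, Fin.sum_univ_three] using e 0 1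
    · simpa [blockMat, mul_apply, Fin.sum_univ_two, Fin.sum_univ_three] using e 1 0
    · simpa [blockMat, mul_apply, Fin.sum_univ_two, Fin.sum_univ_three] using e 1 1
  · intro h
    have e := fun a b => congrFun (congrFun h a) b
    have hd : g.val.det⁻¹ * (σq) g.val.det⁻¹ = 1 := by
      have h' := congrArg Matrix.det h
      rw [det_mul, det_transpose, det_one] at h'
      rw [map_inv₀, ← mul_inv, inv_eq_one]
      rwa [show (σq) g.val.det = (g.val.map (σq)).det from (σq).toRingHom.map_det g.val]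
    ext i j
    fin_cases i <;> fin_cases j
    · simpa [blockMat, mul_apply, Fin.sum_univ_two, Fin.sum_univ_three] using e 0 0
    · simpa [blockMat, mul_apply, Fin.sum_univ_two, Fin.sum_univ_three] using e 0 1
    · simp [blockMat, mul_apply, Fin.sum_univ_three]
    · simpa [blockMat, mul_apply, Fin.sum_univ_two, Fin.sum_univ_three] using e 1 0
    · simpa [blockMat, mul_apply, Fin.sum_univ_two, Fin.sum_univ_three] using e 1 1
    · simp [blockMat, mul_apply, Fin.sum_univ_three]
    · simp [blockMat, mul_apply, Fin.sum_univ_three]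
    · simp [blockMat, mul_apply, Fin.sum_univ_three]
    · simpa [blockMat, mul_apply, Fin.sum_univ_two, Fin.sum_univ_three] using hd

theorem comap_su : (SU 3 F q).comap emb = GU 2 F q := Subgroup.ext fun g => emb_mem_su hF g

theorem star_eq {X : GL (Fin 2) F} (hX : X ∈ GU 2 F q) (tX : X.val 1 1 = -X.val 0 0)
    (hδ : X.val.det * X.val.det = 1) : (X.val.map (σq))ᵀ = (-X.val.det) • X.val := by
  have h1 := (AutPSU.mem_GU_iff' hF X).1 hX
  have h2 : ((-X.val.det) • X.val) * X.val = 1 := by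
    rw [smul_mul, sq_of_trace tX, smul_smul, neg_mul_neg, hδ, one_smul]
  exact (left_inv_eq_right_inv h2 h1).symm

theorem setup_su (hq : q % 2 = 1) : Setup (SU 3 F q) := by
  have h2 : (2 : F) ≠ 0 := Forms.two_ne_zero_of_odd_card (by rw [hF]; exact (Nat.odd_iff.2 hq).pow)
  have hmem : ∀ g : GL (Fin 2) F, g.valᵀ * g.val.map (σq) = 1 → emb g ∈ SU 3 F q := fun g h =>
    (emb_mem_su hF g).2 ((AutPSU.mem_GU_iff hF g).2 h)
  refine ⟨h2, ?_, ?_, hmem _ ?_, hmem _ ?_, hmem _ ?_, hmem _ ?_, ⟨q ^ 2 * (q * (q - 1) + 1), ?_, ?_⟩, ?_⟩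
  · rw [mem_su hF]
    ext i j; fin_cases i <;> fin_cases j <;> simp [M1, mul_apply, Fin.sum_univ_three]
  · rw [mem_su hF]
    ext i j; fin_cases i <;> fin_cases j <;> simp [M2, mul_apply, Fin.sum_univ_three]
  · ext i j; fin_cases i <;> fin_cases j <;> simp [wMat_val, mul_apply, Fin.sum_univ_two]
  · ext i j; fin_cases i <;> fin_cases j <;> simp [rMat_val, mul_apply, Fin.sum_univ_two]
  · ext i j; fin_cases i <;> fin_cases j <;> simp [swapMat_val, mul_apply, Fin.sum_univ_two]
  · ext i j; fin_cases i <;> fin_cases j <;> simp [mul_apply, Fin.sum_univ_two]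
  · obtain ⟨k, rfl⟩ := Nat.odd_iff.2 hq
    exact (Odd.pow ⟨k, rfl⟩).mul ⟨(2 * k + 1) * k, by rw [Nat.add_sub_cancel]; ring⟩
  · rw [comap_su hF]
    have h := Forms.card_SU_mul (F := F) hF (n := 3) (by norm_num)
    rw [Forms.card_GU hF] at h
    rw [Forms.card_GU hF]
    simp [Finset.prod_range_succ, Nat.even_iff] at h ⊢
    obtain ⟨m, rfl⟩ : ∃ m, q = m + 1 := ⟨q - 1, by omega⟩
    rw [Nat.add_sub_cancel]
    refine Nat.eq_of_mul_eq_mul_left (show 0 < m + 1 + 1 by omega) (h.trans ?_)
    ring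
  · intro X Y hX hY tX tY hd hδ hdet
    have sX := star_eq hF ((emb_mem_su hF X).1 hX) tX hδ
    have sY := star_eq hF ((emb_mem_su hF Y).1 hY) tY (hd ▸ hδ)
    rw [← hd] at sY
    have sP : ((X.val + Y.val).map (σq))ᵀ = (-X.val.det) • (X.val + Y.val) := by
      rw [Matrix.map_add (σq) (map_add (σq)), transpose_add, sX, sY, smul_add]
    have hσδ : (σq) X.val.det = X.val.det := by
      calc (σq) X.val.det = ((X.val.map (σq))ᵀ).det := by
            rw [det_transpose]; exact (σq).toRingHom.map_det X.val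
        _ = X.val.det := by rw [sX, det_smul, Fintype.card_fin, sq, neg_mul_neg, hδ, one_mul]
    have hσP : (σq) (X.val + Y.val).det = (X.val + Y.val).det := by
      calc (σq) (X.val + Y.val).det = (((X.val + Y.val).map (σq))ᵀ).det := by
            rw [det_transpose]; exact (σq).toRingHom.map_det _
        _ = _ := by rw [sP, det_smul, Fintype.card_fin, sq, neg_mul_neg, hδ, one_mul]
    obtain ⟨c, hc⟩ : ∃ c, c = X.val.det * (X.val + Y.val).det := ⟨_, rfl⟩
    have hc0 : c ≠ 0 := hc ▸ mul_ne_zero (left_ne_zero_of_mul_eq_one hδ) hdet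
    have hcq : c ^ q = c := by
      rw [← AutPSU.qAut_apply hF, hc, map_mul, hσδ, hσP]
    obtain ⟨t, ht0, ht⟩ := Forms.exists_norm_eq hF hc0 hcq
    have tP : (X.val + Y.val) 1 1 = -(X.val + Y.val) 0 0 := by
      rw [Matrix.add_apply, Matrix.add_apply, tX, tY]; ring
    have hdet' : (t⁻¹ • (X.val + Y.val)).det ≠ 0 := by
      rw [det_smul]; exact mul_ne_zero (pow_ne_zero _ (inv_ne_zero ht0)) hdet
    refine ⟨GeneralLinearGroup.mkOfDetNeZero _ hdet', (emb_mem_su hF _).2 ((AutPSU.mem_GU_iff' hF _).2 ?_), ?_⟩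
    · show t⁻¹ • (X.val + Y.val) * ((t⁻¹ • (X.val + Y.val)).map (σq))ᵀ = 1
      rw [Matrix.map_smul' (σq) _ _ (map_mul (σq)), transpose_smul, sP, smul_smul, smul_mul_smul_comm,
        sq_of_trace tP, smul_smul, AutPSU.qAut_apply hF, inv_pow]
      have : t⁻¹ * (t ^ q)⁻¹ * -X.val.det * -(X.val + Y.val).det = 1 := by
        rw [mul_assoc _ (-X.val.det), neg_mul_neg, ← hc, ← mul_inv, ← pow_succ', ← ht,
          inv_mul_cancel₀ (pow_ne_zero _ ht0)]
      convert one_smul F (1 : Matrix (Fin 2) (Fin 2) F) using 2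
      linear_combination this
    · show X.val * (t⁻¹ • (X.val + Y.val)) = t⁻¹ • (X.val + Y.val) * Y.val
      rw [Matrix.mul_smul, Matrix.smul_mul, mul_add, add_mul, sq_of_trace tX, sq_of_trace tY, hd, add_comm]


end

/-- Let q be an odd prime power and F a field with q² elements. Then the 2-fusion system of PSU(3,q) (realised as the special unitary group of the standard Hermitian form over F modulo its centre) on a Sylow 2-subgroup is simple. -/
theorem result {F : Type*} [Field F] [Fintype F] (q : ℕ) (hq : Fintype.card F = q ^ 2) (hodd : q % 2 = 1) (S : Sylow 2 (Cfsg.PSU 3 F q)) :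
    (Cfsg.groupFusionSystem (S : Subgroup (Cfsg.PSU 3 F q))).IsSimple 2 := by
  have S₀ := setup_su hq hodd
  have hq1 := Forms.one_lt_q hq
  have hπ : Function.Surjective (QuotientGroup.mk' (Subgroup.center (SU 3 F q))) := QuotientGroup.mk'_surjective _
  have hker := (QuotientGroup.ker_mk' (Subgroup.center (SU 3 F q))).le
  rcases (show q % 4 = 1 ∨ q % 4 = 3 by omega) with h1 | h3
  · refine isSimple_semidihedral S₀ _ hπ hker (fun g hg a01 a10 _ h => ?_) ?_ S
    · have e := congrFun (congrFun ((AutPSU.mem_GU_iff hq g).1 ((emb_mem_su hq g).1 hg)) 0) 0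
      simp [mul_apply, Fin.sum_univ_two, a10, AutPSU.qAut_apply hq] at e
      obtain ⟨k, hk⟩ : ∃ k, q + 1 = 2 * (2 * k + 1) := ⟨q / 4, by omega⟩
      rw [← pow_succ', hk, pow_mul, sq, h, Odd.neg_one_pow ⟨k, rfl⟩] at e
      exact (Forms.two_ne_zero_of_odd_card (by rw [hq]; exact (Nat.odd_iff.2 hodd).pow))
        (show (2 : F) = 0 by linear_combination -e)
    · rw [comap_su hq]
      exact fun Q => (S1218.result q hq (Nat.odd_iff.2 hodd) Q).1 h1
  · obtain ⟨v, j, hv, hvf, hvj⟩ := Forms.exists_two_pow_mul_odd (a := q + 1) (by omega) (by omega)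
    obtain ⟨a, ha⟩ := Forms.exists_orderOf_eq_of_dvd (G := Fˣ) (d := 2 ^ v) (by
      rw [Forms.units_card hq, hvj, mul_assoc]; exact dvd_mul_right _ _)
    have ha1 : (a : F) * (a : F) ^ q = 1 := by
      rw [← pow_succ', ← Units.val_pow_eq_pow_val, orderOf_dvd_iff_pow_eq_one.1 (ha.symm ▸ Dvd.intro _ hvj.symm),
        Units.val_one]
    refine isSimple_wreathed S₀ _ hπ hker hv ha
      (GeneralLinearGroup.mkOfDetNeZero !![(a : F), 0; 0, 1] (by simp [det_fin_two])) rfl
      ((emb_mem_su hq _).2 ((AutPSU.mem_GU_iff hq _).2 ?_)) ?_ S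
    · show (!![(a : F), 0; 0, 1])ᵀ * (!![(a : F), 0; 0, 1]).map _ = 1
      ext i k; fin_cases i <;> fin_cases k <;> simp [mul_apply, Fin.sum_univ_two, AutPSU.qAut_apply hq, ha1, zero_pow (show q ≠ 0 by omega)]
    rw [comap_su hq, Forms.card_GU hq]
    simp [Finset.prod_range_succ, Nat.not_even_one]
    rw [show q ^ 2 - 1 = (q + 1) * (q - 1) by rw [← Nat.sq_sub_sq, one_pow],
      Nat.factorization_mul (by omega) (Nat.mul_ne_zero (by omega) (Nat.mul_ne_zero (by omega) (by omega))),
      Nat.factorization_mul (by omega) (Nat.mul_ne_zero (by omega) (by omega)),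
      Nat.factorization_mul (by omega) (by omega)]
    simp only [Finsupp.add_apply]
    rw [hvf, Forms.factorization_two_of_odd (a := q) (Nat.odd_iff.2 hodd),
      Forms.factorization_two_of_mod_four (a := q - 1) (by omega)]
    omega

end Cfsg.Agent.S5319
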