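import Cfsg.Statements.S5320
import Cfsg.Agent.Lib.Fusion.SympFourSimple

set_option autoImplicit false
open Cfsg

namespace Cfsg.Agent.S5320

open Cfsg.Agent.Fusion.SympFour
open scoped MatrixGroups

/-- The centre of `Sp₄(q)`, `q` odd. -/
theorem mem_center_cases {F : Type*} [Field F] [Fintype F] (h2 : (2 : F) ≠ 0) (Q : Sylow 2 SL(2, F))
    {g : Matrix.symplecticGroup (Fin 2) F} :
    g ∈ Subgroup.center (Matrix.symplecticGroup (Fin 2) F) ↔ g = 1 ∨ g = z0 := by
  refine ⟨fun hg => ?_, ?_⟩
  · have hc : ∀ y, g * y = y * g := fun y => (Subgroup.mem_center_iff.1 hg y).symm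
    obtain ⟨a, b, rfl⟩ := exists_dia_of_commute h2 (hc z1)
    have hab : a = b := by
      have h := hc sw
      rw [sw_mul_dia] at h
      exact (dia_inj.1 (mul_right_cancel h)).1
    subst hab
    obtain ⟨i, j, -, -, -, -, hanti⟩ := exists_anticomm_pair h2 Q
    have hcomm : ∀ x : SL(2, F), a * x = x * a := fun x => by
      have h := hc (dia (x, x))
      rw [dia_mul, dia_mul] at h
      exact (dia_inj.1 h).1
    rcases pm_of_commute_pair h2 hanti (hcomm i) (hcomm j) with rfl | rfl
    · exact Or.inl (map_one dia)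
    · exact Or.inr rfl
  · rintro (rfl | rfl)
    · exact Subgroup.one_mem _
    · exact Subgroup.mem_center_iff.2 fun y => (z0_comm y).symm


/-- For a finite field F of odd order, the 2-fusion system of the projective symplectic group PSp(4,F) on a Sylow 2-subgroup is simple. -/
theorem result {F : Type*} [Field F] [Fintype F] (hodd : Fintype.card F % 2 = 1) (S : Sylow 2 (Cfsg.PSp 2 F)) :
    (Cfsg.groupFusionSystem (S : Subgroup (Cfsg.PSp 2 F))).IsSimple 2 := by
  have h2 : (2 : F) ≠ 0 := PSL2.odd_card_iff.1 (Nat.odd_iff.2 hodd)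
  obtain ⟨Q⟩ : Nonempty (Sylow 2 SL(2, F)) := Sylow.nonempty
  obtain ⟨U, hU⟩ := exists_sylow hodd Q
  let π := QuotientGroup.mk' (Subgroup.center (Matrix.symplecticGroup (Fin 2) F))
  obtain ⟨g, rfl⟩ := MulAction.exists_smul_eq (Cfsg.PSp 2 F) (U.mapSurjective (f := π) (QuotientGroup.mk'_surjective _)) S
  let π' := (MulAut.conj g).toMonoidHom.comp π
  refine isSimple_image (π := π') (fun x => ?_) h2 Q ?_ ((MulAut.conj g).surjective.comp (QuotientGroup.mk'_surjective _)) hodd
  · rw [← mem_center_cases h2 Q, ← QuotientGroup.eq_one_iff]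
    exact (MulAut.conj g).map_eq_one_iff
  · rw [Sylow.coe_subgroup_smul, ← Subgroup.map_map, ← hU]
    rfl

end Cfsg.Agent.S5320
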