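import Cfsg.Statements.S5322
import Cfsg.Agent.Lib.J3.SylowFusion
import Cfsg.Agent.Lib.J3.Transfer

set_option autoImplicit false
open Cfsg

open scoped Pointwise

namespace Cfsg.Agent.S5322

/-- The simple group of the model is isomorphic to `J₃` over any field with four elements. -/
theorem exists_iso {F : Type} [Field F] [Fintype F] (hF : Fintype.card F = 4) (ω : F)
    (hω : ω ^ 2 + ω + 1 = 0) : Nonempty (J3.Q3 ≃* Cfsg.Spor.J3 F ω) := by
  obtain ⟨e, he⟩ : ∃ e : J3.G9 ≃* Cfsg.Spor.threeJ3 F (J3.eqF hF hω J3.w4),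
      (Subgroup.center J3.G9).map (e : J3.G9 →* Cfsg.Spor.threeJ3 F (J3.eqF hF hω J3.w4)) =
        Subgroup.center (Cfsg.Spor.threeJ3 F (J3.eqF hF hω J3.w4)) := by
    refine ⟨J3.groupEq (J3.eqF hF hω), ?_⟩
    set e := J3.groupEq (J3.eqF hF hω)
    ext x
    constructor
    · rintro ⟨z, hz, rfl⟩
      refine Subgroup.mem_center_iff.2 fun g => e.symm.injective ?_
      simpa using Subgroup.mem_center_iff.1 hz (e.symm g)
    · intro hx
      refine ⟨e.symm x, Subgroup.mem_center_iff.2 fun g => e.injective ?_, e.apply_symm_apply x⟩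
      simpa using Subgroup.mem_center_iff.1 hx (e g)
  rw [← J3.eqF_w4 hF hω]
  exact ⟨QuotientGroup.congr _ _ e he⟩

/-- For a finite group G isomorphic to the third Janko group J₃, the 2-fusion system of G on a Sylow 2-subgroup is simple: saturated, over a nontrivial 2-group, with no normal subsystem other than the trivial one and itself. -/
theorem result {G : Type*} [Group G] [Finite G] (hG : Cfsg.Spor.IsoJ3 G) (S : Sylow 2 G) : (Cfsg.groupFusionSystem (S : Subgroup G)).IsSimple 2 := by
  obtain ⟨F, _, _, ω, hF, hω, ⟨e⟩⟩ := hG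
  obtain ⟨i⟩ := exists_iso hF ω hω
  let ι : J3.Q3 ≃* G := i.trans e.symm
  let P : Subgroup G := J3.sylP.map ι.toMonoidHom
  have hcard : Nat.card G = 2 ^ 7 * 392445 := by
    rw [← Nat.card_congr ι.toEquiv, J3.card_Q3]; norm_num
  have hfac : (Nat.card G).factorization 2 = 7 := by
    rw [hcard, Nat.factorization_mul (by positivity) (by norm_num), Nat.Prime.factorization_pow Nat.prime_two]
    simp [Nat.factorization_eq_zero_of_not_dvd (show ¬ 2 ∣ 392445 by norm_num)]
  have hP : Nat.card P = 2 ^ (Nat.card G).factorization 2 := by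
    rw [hfac, Subgroup.card_map_of_injective ι.injective, J3.card_sylP]; norm_num
  obtain ⟨g, hg⟩ := MulAction.exists_smul_eq G (Sylow.ofCard P hP) S
  refine J3.isSimple (ι.trans (MulAut.conj g)) S ?_
  rw [← hg, Sylow.coe_subgroup_smul, show (ι.trans (MulAut.conj g)).toMonoidHom =
    (MulAut.conj g).toMonoidHom.comp ι.toMonoidHom from rfl, ← Subgroup.map_map]
  rfl

end Cfsg.Agent.S5322
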