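import Cfsg.Statements.S5323
import Cfsg.Agent.Lib.McL275.Fusion

set_option autoImplicit false
open Cfsg

namespace Cfsg.Agent.S5323

/-- For a finite group G isomorphic to the McLaughlin group, the 2-fusion system of G on a Sylow 2-subgroup is simple: saturated, over a nontrivial 2-group, with no normal subsystem other than the trivial one and itself. -/
theorem result {G : Type*} [Group G] [Finite G] (hG : Cfsg.Spor.IsoMcL G) (S : Sylow 2 G) : (Cfsg.groupFusionSystem (S : Subgroup G)).IsSimple 2 := by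
  obtain ⟨e⟩ := hG
  obtain ⟨e'⟩ := Cfsg.Agent.McL275.mcl_equiv_grp
  have : Fact (Nat.Prime 2) := ⟨Nat.prime_two⟩
  let E := e.trans e'
  let S₀ : Sylow 2 G := Cfsg.Agent.McL275.sylow2.comapOfInjective E.toMonoidHom E.injective
    (fun x _ => ⟨E.symm x, E.apply_symm_apply x⟩)
  have hmem : ∀ x, x ∈ (S₀ : Subgroup G) ↔ E x ∈ (Cfsg.Agent.McL275.sylow2 : Subgroup _) :=
    fun x => Iff.rfl
  refine (Cfsg.Agent.Mathieu.sylow_facts S₀ ?_ ?_ ?_ S).2
  · intro h
    refine Cfsg.Agent.McL275.sylow_ne_bot ((Subgroup.eq_bot_iff_forall _).2 fun x hx => ?_)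
    have hx' : E.symm x ∈ (S₀ : Subgroup G) := by rw [hmem, E.apply_symm_apply]; exact hx
    rw [h, Subgroup.mem_bot] at hx'
    simpa using congrArg E hx'
  · intro g hg
    refine (hmem g).2 (Cfsg.Agent.McL275.mem_syl_of_normalizes fun x => ?_)
    have := hg (E.symm x)
    simpa only [hmem, map_mul, map_inv, E.apply_symm_apply] using this
  · intro T hT hcl x hx hx1 hxc
    have h := Cfsg.Agent.McL275.closed_eq (T.map E.toMonoidHom)
      (by rintro _ ⟨t, ht, rfl⟩; exact (hmem t).1 (hT ht))
      (by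
        rintro _ ⟨t, ht, rfl⟩ k hk
        refine ⟨E.symm k * t * (E.symm k)⁻¹, hcl t ht _ ((hmem _).2 ?_), by simp⟩
        simpa using hk)
      (E x) ⟨x, hx, rfl⟩ (fun h => hx1 (E.injective (h.trans E.map_one.symm)))
      (fun s hs => by
        have := congrArg E (hxc (E.symm s) ((hmem _).2 (by rwa [E.apply_symm_apply])))
        simpa using this)
    refine le_antisymm hT fun y hy => ?_
    obtain ⟨t, ht, hty⟩ : E y ∈ T.map E.toMonoidHom := h ▸ (hmem y).1 hy
    rwa [← E.injective hty]

end Cfsg.Agent.S5323
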