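import Cfsg.Statements.S5326
import Cfsg.Agent.Lib.Fusion.AwayFrom
import Cfsg.Agent.Lib.Fusion.Alperin

set_option autoImplicit false
open Cfsg

namespace Cfsg.Agent.S5326

open Cfsg.FusionSystem Cfsg.Agent.Fusion

variable {Ω : Type*} [Group Ω] {S : Subgroup Ω} [Finite S] {p : ℕ} [Fact p.Prime]

/-- Transported to `Q` along extendable normalizations, a step is an extendable automorphism. -/
theorem step_extendable (hS : IsPGroup p S) {F : Cfsg.FusionSystem S} {Q : Subgroup Ω}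
    {P : Subgroup Ω} (hP : P < S) {φ : P →* Ω}
    (h : AwayStep F (Cfsg.innerFusionSystem S) P φ)
    {w : normalizerIn S P →* Ω} (hw : w ∈ F.Hom (normalizerIn S P))
    (hwQ : (P.subgroupOf (normalizerIn S P)).map w = Q)
    {w' : normalizerIn S φ.range →* Ω} (hw' : w' ∈ F.Hom (normalizerIn S φ.range))
    (hw'Q : (φ.range.subgroupOf (normalizerIn S φ.range)).map w' = Q) :
    ∃ β ∈ extendable F Q, ∀ (x : P) (hx : w ⟨x, le_normalizerIn hP.le x.2⟩ ∈ Q),
      ((β ⟨_, hx⟩ : Q) : Ω) =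
        w' ⟨φ x, le_normalizerIn (range_le h.1) ⟨x, rfl⟩⟩ := by
  obtain ⟨R, hPR, θ, hθ, hφθ⟩ : ∃ (R : Subgroup Ω) (hR : P < R), ∃ θ ∈ F.Hom R,
      ∀ x : P, φ x = θ ⟨x, hR.le x.2⟩ := by
    rcases h.2 with ⟨-, g, hg, he⟩ | h'
    · exact ⟨S, hP, Cfsg.conjHom S g, F.conj_mem le_rfl hg, fun x => he x⟩
    · exact h'
  have hRS := dom_le hθ
  have hfinR := finite_of_le hRS
  set T : Subgroup Ω := normalizerIn R P with hT
  have hTR : T ≤ R := normalizerIn_le R P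
  have hPT : P < T := lt_normalizerIn (hS.to_le hRS) hPR
  have hTN : T ≤ normalizerIn S P := inf_le_inf_right _ hRS
  obtain ⟨wT, hwT, hwTv⟩ : ∃ wT ∈ F.Hom T, ∀ x : T, wT x = w ⟨x, hTN x.2⟩ :=
    ⟨_, restrict_mem hw hTN, fun _ => rfl⟩
  set Q' := wT.range with hQ'
  obtain ⟨v, hv, -, hvi, -⟩ := Cfsg.Agent.Fusion.exists_inverse hwT rfl
  have hθT : ∀ x : T, θ ⟨x, hTR x.2⟩ ∈ normalizerIn S φ.range := by
    intro x
    refine ⟨apply_mem hθ _, mem_normalizer_of_aut (α := ?_) (g := θ ⟨x, hTR x.2⟩) ?_⟩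
    · exact MulAut.congr (homEquiv h.1 rfl) (conjAut (g := (x : Ω)) x.2.2)
    · intro y
      obtain ⟨z, rfl⟩ := (homEquiv h.1 rfl).surjective y
      rw [Cfsg.Agent.Fusion.congr_apply, coe_homEquiv, coe_homEquiv, hφθ, hφθ, ← map_inv, ← map_mul, ← map_mul]
      rfl
  have hvT : ∀ y : Q', v y ∈ T := by
    rintro ⟨_, x, rfl⟩
    rw [hvi x ⟨x, rfl⟩]
    exact x.2
  let ψT : T →* Ω := θ.comp (Subgroup.inclusion hTR)
  have hψT : ψT ∈ F.Hom T := restrict_mem hθ hTR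
  have hψN : ∀ x : T, ψT x ∈ normalizerIn S φ.range := hθT
  let ρ : T →* Ω := w'.comp (ψT.codRestrict _ hψN)
  have hρ : ρ ∈ F.Hom T := F.comp_mem hψT hw' hψN
  let η : Q' →* Ω := ρ.comp (v.codRestrict T hvT)
  have hη : η ∈ F.Hom Q' := F.comp_mem hv hρ hvT
  have hQle : Q ≤ Q' := by
    rw [← hwQ]
    rintro _ ⟨x, hx, rfl⟩
    exact ⟨⟨x, hPT.le hx⟩, hwTv _⟩
  have hQlt : Q < Q' := by
    refine lt_of_le_of_ne hQle fun he => ?_
    obtain ⟨z, hz, hzP⟩ := SetLike.exists_of_lt hPT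
    have : wT ⟨z, hz⟩ ∈ Q := he ▸ ⟨_, rfl⟩
    rw [← hwQ, hwTv] at this
    obtain ⟨u, hu, hu'⟩ := this
    have hu'' : (u : Ω) = z := congrArg Subtype.val (F.injective_of_mem hw hu')
    exact hzP (hu'' ▸ hu)
  have key : ∀ (x : P) (hx : w ⟨x, le_normalizerIn hP.le x.2⟩ ∈ Q'),
      η ⟨_, hx⟩ = w' ⟨φ x, le_normalizerIn (range_le h.1) ⟨x, rfl⟩⟩ := by
    intro x hx
    show w' _ = w' _
    congr 1
    apply Subtype.ext
    show θ _ = φ x
    rw [hφθ]
    congr 1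
    apply Subtype.ext
    show v _ = (x : Ω)
    have hxT : wT ⟨x, hPT.le x.2⟩ = w ⟨x, le_normalizerIn hP.le x.2⟩ := hwTv _
    refine Eq.trans ?_ (hvi ⟨x, hPT.le x.2⟩ ⟨_, rfl⟩)
    congr 1
    exact Subtype.ext hxT.symm
  let ηQ : Q →* Ω := η.comp (Subgroup.inclusion hQle)
  have hηQ : ηQ ∈ F.Hom Q := restrict_mem hη hQle
  have hr : ηQ.range = Q := by
    ext y
    constructor
    · rintro ⟨⟨q, hq⟩, rfl⟩
      have hq' := hq
      rw [← hwQ] at hq'
      obtain ⟨⟨x, hxN⟩, hx, rfl⟩ := hq'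
      show η _ ∈ Q
      refine (key ⟨x, hx⟩ (hQle hq)).symm ▸ hw'Q.le ⟨_, ?_, rfl⟩
      exact ⟨⟨x, hx⟩, rfl⟩
    · intro hy
      have hy' := hy
      rw [← hw'Q] at hy'
      obtain ⟨⟨y', hyN⟩, hy'', rfl⟩ := hy'
      obtain ⟨x, rfl⟩ := (hy'' : y' ∈ φ.range)
      have hwx : w ⟨x, le_normalizerIn hP.le x.2⟩ ∈ Q := hwQ.le ⟨_, x.2, rfl⟩
      exact ⟨⟨_, hwx⟩, key x (hQle hwx)⟩
  refine ⟨toAut hηQ hr, ⟨Q', hQlt, η, hη, fun x => rfl⟩, fun x hx => ?_⟩
  rw [coe_toAut]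
  exact key x (hQle hx)


/-- Let F be a saturated fusion system over a finite p-group S and Q an essential subgroup. Then the F-conjugacy class of Q cannot be left out of a generating family: there is a fusion system E over S whose automorphism group of every subgroup R ≤ S not F-conjugate to Q contains Aut_F(R), and yet E does not contain every map of F. -/
theorem result {Ω : Type*} [Group Ω] {S : Subgroup Ω} [Finite S] (p : ℕ) [Fact p.Prime] (hS : IsPGroup p S) (F : Cfsg.FusionSystem S) (hF : F.IsSaturated p) (Q : Subgroup Ω) (hQ : F.IsEssential p Q) : ∃ E : Cfsg.FusionSystem S, (∀ R : Subgroup Ω, R ≤ S → ¬ F.IsConj Q R → F.autGroup R ≤ E.autGroup R) ∧ ¬ F ≤ E := by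
  have hQS : Q < S := lt_of_le_of_ne hQ.2.1.1 fun h => not_essential_self hS hF (h ▸ hQ)
  have hgen := not_generated_of_essential hS hF hQ
  refine ⟨awayFrom F (Cfsg.innerFusionSystem S) Q, fun R _ hR => autGroup_le_awayFrom hR, fun hle => hgen ?_⟩
  have hlt : ∀ P, F.IsConj Q P → P < S := fun P hP => lt_of_le_of_ne (isConj_le hP).2 fun h => by
    subst h
    exact hQS.ne (eq_of_isConj_self (isConj_symm hP))
  have main : ∀ (P : Subgroup Ω) (χ : P →* Ω), AwayChain F (Cfsg.innerFusionSystem S) P χ →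
      ∀ (hP : F.IsConj Q P) (w : normalizerIn S P →* Ω), w ∈ F.Hom (normalizerIn S P) →
      (P.subgroupOf (normalizerIn S P)).map w = Q →
      ∀ (w' : normalizerIn S χ.range →* Ω), w' ∈ F.Hom (normalizerIn S χ.range) →
      (χ.range.subgroupOf (normalizerIn S χ.range)).map w' = Q →
      ∃ β ∈ Subgroup.closure (extendable F Q), ∀ (x : P)
        (hx : w ⟨x, le_normalizerIn (isConj_le hP).2 x.2⟩ ∈ Q) (hx' : χ x ∈ normalizerIn S χ.range),
        ((β ⟨_, hx⟩ : Q) : Ω) = w' ⟨χ x, hx'⟩ := by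
    intro P χ hc
    induction hc with
    | @single P χ h =>
      intro hP w hw hwQ w' hw' hw'Q
      obtain ⟨β, hβ, he⟩ := step_extendable hS (hlt P hP) h hw hwQ hw' hw'Q
      exact ⟨β, Subgroup.subset_closure hβ, fun x hx _ => he x hx⟩
    | @cons P P₁ φ₁ ψ χ h hr hc hχ ih =>
      intro hP w hw hwQ w' hw' hw'Q
      subst hr
      have hP₁ : F.IsConj Q φ₁.range := isConj_trans hP ⟨φ₁, h.1, rfl⟩
      obtain ⟨w₁, hw₁, -, hw₁Q⟩ := exists_hom_fullyNormalized hS hF hQ.2.1 (isConj_symm hP₁)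
      have hre : χ.range = ψ.range := by
        ext y
        constructor
        · rintro ⟨x, rfl⟩
          exact ⟨_, (hχ x).symm⟩
        · rintro ⟨⟨_, x, rfl⟩, rfl⟩
          exact ⟨x, hχ x⟩
      have hle' : normalizerIn S ψ.range ≤ normalizerIn S χ.range := by rw [hre]
      obtain ⟨β₁, hβ₁, he₁⟩ := step_extendable hS (hlt P hP) h hw hwQ hw₁ hw₁Q
      obtain ⟨β₂, hβ₂, he₂⟩ := ih hP₁ w₁ hw₁ hw₁Q (w'.comp (Subgroup.inclusion hle'))
        (restrict_mem hw' hle') (by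
          refine le_antisymm ?_ ?_
          · rintro _ ⟨y, hy, rfl⟩
            exact hw'Q.le ⟨_, hre.ge hy, rfl⟩
          · intro y hy
            rw [← hw'Q] at hy
            obtain ⟨⟨z, hzN⟩, hz, rfl⟩ := hy
            exact ⟨⟨z, hre ▸ hzN⟩, hre.le hz, rfl⟩)
      refine ⟨β₂ * β₁, Subgroup.mul_mem _ hβ₂ (Subgroup.subset_closure hβ₁), fun x hx hx' => ?_⟩
      have h1 := he₁ x hx
      have h2 := he₂ ⟨φ₁ x, ⟨x, rfl⟩⟩ (h1 ▸ (β₁ ⟨_, hx⟩).2)
        (le_normalizerIn (range_le hc.mem) ⟨_, rfl⟩)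
      rw [MulAut.mul_apply]
      refine Eq.trans (congrArg (fun z => ((β₂ z : Q) : Ω)) (Subtype.ext h1)) (h2.trans ?_)
      show w' _ = w' _
      congr 1
      exact Subtype.ext (hχ x).symm
  intro α hα
  obtain ⟨hαh, hαr⟩ := hom_of_mem_autGroup hQ.2.1.1 hα
  have hch := (hle Q hαh).2 (isConj_refl F hQ.2.1.1)
  have hle'' : normalizerIn S (Q.subtype.comp α.toMonoidHom).range ≤ normalizerIn S Q := by rw [hαr]
  have hid : ∀ (N : Subgroup Ω) (hN : N ≤ S), N.subtype ∈ F.Hom N := fun N hN => subtype_mem F hN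
  obtain ⟨β, hβ, he⟩ := main Q _ hch (isConj_refl F hQ.2.1.1) (normalizerIn S Q).subtype
    (hid _ (normalizerIn_le S Q)) (Subgroup.map_subgroupOf_eq_of_le (le_normalizerIn hQ.2.1.1))
    (normalizerIn S _).subtype (hid _ (normalizerIn_le S _))
    ((Subgroup.map_subgroupOf_eq_of_le (le_normalizerIn (range_le hαh))).trans hαr)
  have : α = β := MulEquiv.ext fun x => Subtype.ext
    (he x x.2 (le_normalizerIn (range_le hαh) ⟨x, rfl⟩)).symm
  exact this ▸ hβ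

end Cfsg.Agent.S5326
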