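import Cfsg.Statements.S5327
import Cfsg.Agent.Lib.Fusion.AwayFrom

set_option autoImplicit false
open Cfsg

namespace Cfsg.Agent.S5327

/-- Let F be a saturated fusion system over a finite p-group S. Call a family of subgroups of S generating when every fusion system over S whose automorphism group of each member R contains Aut_F(R) contains every map of F. If two families are each closed under F-conjugacy and each generating, then their intersection is generating. -/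
theorem result {Ω : Type*} [Group Ω] {S : Subgroup Ω} [Finite S] (p : ℕ) [Fact p.Prime] (hS : IsPGroup p S) (F : Cfsg.FusionSystem S) (hF : F.IsSaturated p) (𝒬₁ 𝒬₂ : Set (Subgroup Ω)) (h₁ : ∀ R ∈ 𝒬₁, ∀ R' : Subgroup Ω, F.IsConj R R' → R' ∈ 𝒬₁) (h₂ : ∀ R ∈ 𝒬₂, ∀ R' : Subgroup Ω, F.IsConj R R' → R' ∈ 𝒬₂) (hg₁ : ∀ E : Cfsg.FusionSystem S, (∀ R ∈ 𝒬₁, F.autGroup R ≤ E.autGroup R) → F ≤ E) (hg₂ : ∀ E : Cfsg.FusionSystem S, (∀ R ∈ 𝒬₂, F.autGroup R ≤ E.autGroup R) → F ≤ E) (E : Cfsg.FusionSystem S) (hE : ∀ R ∈ 𝒬₁ ∩ 𝒬₂, F.autGroup R ≤ E.autGroup R) : F ≤ E := by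
  suffices h : ∀ (n : ℕ) (R : Subgroup Ω), R ≤ S → Nat.card S - Nat.card R ≤ n → F.Hom R ⊆ E.Hom R by
    intro P φ hφ
    exact h _ P (Cfsg.Agent.Fusion.dom_le hφ) le_rfl hφ
  intro n
  induction n using Nat.strong_induction_on with
  | _ n ih =>
    intro R hR hn φ hφ
    have hbig : ∀ R' : Subgroup Ω, R < R' → R' ≤ S → F.Hom R' ⊆ E.Hom R' := by
      intro R' hlt hR'
      haveI := Cfsg.Agent.Fusion.finite_of_le hR'
      have h1 : Nat.card R < Nat.card R' := lt_of_not_ge fun h => hlt.ne (Subgroup.eq_of_le_of_card_ge hlt.le h)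
      have h2 : Nat.card R' ≤ Nat.card S := Subgroup.card_le_of_le hR'
      exact ih (Nat.card S - Nat.card R') (by omega) R' hR' le_rfl
    have hsame : ∀ Q : Subgroup Ω, F.IsConj R Q → ∀ Q', Q < Q' → Q' ≤ S → F.Hom Q' ⊆ E.Hom Q' := by
      intro Q hQ Q' hlt hQ'
      haveI := Cfsg.Agent.Fusion.finite_of_le hQ'
      have h0 := Cfsg.Agent.Fusion.isConj_card hQ
      have h1 : Nat.card Q < Nat.card Q' := lt_of_not_ge fun h => hlt.ne (Subgroup.eq_of_le_of_card_ge hlt.le h)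
      have h2 : Nat.card Q' ≤ Nat.card S := Subgroup.card_le_of_le hQ'
      exact ih (Nat.card S - Nat.card Q') (by omega) Q' hQ' le_rfl
    have key : ∀ (𝒬 : Set (Subgroup Ω)),
        (∀ D : Cfsg.FusionSystem S, (∀ Q ∈ 𝒬, F.autGroup Q ≤ D.autGroup Q) → F ≤ D) →
        (∀ Q ∈ 𝒬, F.IsConj R Q → F.autGroup Q ≤ E.autGroup Q) → φ ∈ E.Hom R := by
      intro 𝒬 hgen hE'
      have hle : F ≤ Cfsg.Agent.Fusion.awayFrom F E R := by
        refine hgen _ fun Q hQ => ?_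
        by_cases hc : F.IsConj R Q
        · exact Cfsg.Agent.Fusion.autGroup_le_awayFrom_of_le (hE' Q hQ hc)
        · exact Cfsg.Agent.Fusion.autGroup_le_awayFrom hc
      have hch := (hle R hφ).2 (Cfsg.Agent.Fusion.isConj_refl F hR)
      have hmem : ∀ (P : Subgroup Ω) (ψ : P →* Ω), Cfsg.Agent.Fusion.AwayChain F E P ψ →
          F.IsConj R P → ψ ∈ E.Hom P := by
        intro P ψ h
        induction h with
        | @single P ψ h =>
          intro hc
          rcases h.2 with h' | ⟨P', hlt, θ, hθ, he⟩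
          · exact h'
          · exact Cfsg.Agent.Fusion.mem_of_le (hsame P hc P' hlt (Cfsg.Agent.Fusion.dom_le hθ) hθ) hlt.le he
        | @cons P Q ψ₁ ψ₂ χ h hr _ hχ ih2 =>
          intro hc
          refine Cfsg.Agent.Fusion.comp_mem' ?_
            (ih2 (Cfsg.Agent.Fusion.isConj_trans hc ⟨ψ₁, h.1, hr⟩)) _ hχ
          rcases h.2 with h' | ⟨P', hlt, θ, hθ, he⟩
          · exact h'
          · exact Cfsg.Agent.Fusion.mem_of_le (hsame P hc P' hlt (Cfsg.Agent.Fusion.dom_le hθ) hθ) hlt.le he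
      exact hmem R φ hch (Cfsg.Agent.Fusion.isConj_refl F hR)
    by_cases hR1 : R ∈ 𝒬₁
    · by_cases hR2 : R ∈ 𝒬₂
      · exact key 𝒬₁ hg₁ fun Q hQ hc => hE Q ⟨hQ, h₂ R hR2 Q hc⟩
      · exact key 𝒬₂ hg₂ fun Q hQ hc =>
          absurd (h₂ Q hQ R (Cfsg.Agent.Fusion.isConj_symm hc)) hR2
    · exact key 𝒬₁ hg₁ fun Q hQ hc =>
        absurd (h₁ Q hQ R (Cfsg.Agent.Fusion.isConj_symm hc)) hR1

end Cfsg.Agent.S5327
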