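import Cfsg.Statements.S5329
import Cfsg.Agent.S5144
import Cfsg.Agent.Lib.Fusion.Hyperfocal
import Cfsg.Agent.Lib.Fusion.TransferHom

set_option autoImplicit false
open Cfsg

namespace Cfsg.Agent.S5329

/-- For a saturated fusion system F over a finite p-group S, the focal subgroup and the derived subgroup of S meet the centre Z(F) of the system in the same subgroup: foc(F) ∩ Z(F) = S′ ∩ Z(F). -/
theorem result {Ω : Type*} [Group Ω] {S : Subgroup Ω} [Finite S] (p : ℕ) [Fact p.Prime] (hS : IsPGroup p S) (F : Cfsg.FusionSystem S) (hF : F.IsSaturated p) : F.focalSubgroup ⊓ F.center = ⁅(S : Subgroup Ω), (S : Subgroup Ω)⁆ ⊓ F.center := by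
  refine le_antisymm (fun z hz => ?_)
    (inf_le_inf_right _ (Fusion.commutator_le_focal F))
  obtain ⟨hzf, hzc⟩ := Subgroup.mem_inf.1 hz
  have hC := S5144.result F
  have hzS : z ∈ S := Fusion.focalSubgroup_le F hzf
  have hfix : ∀ (P : Subgroup Ω) (φ : P →* Ω), φ ∈ F.Hom P → ∀ x : P, (x : Ω) ∈ F.center →
      φ x = x := by
    intro P φ hφ x hx
    obtain ⟨ψ, -, hψP, hψZ⟩ := hC.2 P φ hφ
    rw [← hψP x]
    exact hψZ ⟨x, hx⟩
  obtain ⟨T⟩ := Fusion.exists_transferData hS hF (Abelianization.of : S →* Abelianization S)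
  have h1 : T.tr ⟨z, hzS⟩ = Abelianization.of (⟨z, hzS⟩ : S) ^ Fintype.card T.Y := by
    refine T.tr_eq_pow _ fun y r hy => ?_
    obtain ⟨P, φ, hφ, h⟩ := T.fixed y
    obtain ⟨h1, h2⟩ := h (⟨z, hzS⟩ ^ r)
    rw [h2 (h1.1 hy), ← map_pow]
    refine congrArg _ (Subtype.ext ?_)
    refine (hfix P φ hφ _ ?_).trans rfl
    show z ^ r ∈ F.center
    exact F.center.pow_mem hzc r
  rw [T.tr_focal hzS hzf] at h1
  obtain ⟨j, hj⟩ := hS ⟨z, hzS⟩
  have h2 : Abelianization.of (⟨z, hzS⟩ : S) = 1 := by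
    have hcop : (p ^ j).gcd (Fintype.card T.Y) = 1 :=
      Nat.Coprime.pow_left j ((Fact.out : p.Prime).coprime_iff_not_dvd.2 T.not_dvd_card)
    have h3 := pow_gcd_eq_one.2 ⟨show Abelianization.of (⟨z, hzS⟩ : S) ^ p ^ j = 1 by
      rw [← map_pow, hj, map_one], h1.symm⟩
    rwa [hcop, pow_one] at h3
  have h4 : (⟨z, hzS⟩ : S) ∈ commutator S := by
    rw [← Abelianization.ker_of]
    exact h2
  refine Subgroup.mem_inf.2 ⟨?_, hzc⟩
  rw [← Subgroup.map_subtype_commutator]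
  exact ⟨_, h4, rfl⟩

end Cfsg.Agent.S5329
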