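import Cfsg.Statements.S5330
import Cfsg.Agent.Lib.Fusion.Alperin
-- import your own Cfsg.Agent.* helpers here

set_option autoImplicit false
open Cfsg

namespace Cfsg.Agent.S5330

/-- Let F be a saturated fusion system over a finite abelian p-group S. Then S is the internal direct product of the centre of the system and the focal subgroup: Z(F) ∩ foc(F) = 1 and Z(F)·foc(F) = S. -/
theorem result {Ω : Type*} [Group Ω] {S : Subgroup Ω} [Finite S] (p : ℕ) [Fact p.Prime] (hS : IsPGroup p S) (F : Cfsg.FusionSystem S) (hF : F.IsSaturated p) (hab : ∀ x ∈ S, ∀ y ∈ S, x * y = y * x) : F.center ⊓ F.focalSubgroup = ⊥ ∧ F.center ⊔ F.focalSubgroup = S := by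
  classical
  set A := F.autGroup S with hA
  -- every map is the restriction of an automorphism of `S`
  have hext : ∀ {P : Subgroup Ω} {φ : P →* Ω}, φ ∈ F.Hom P →
      ∃ α ∈ A, ∀ (x : P) (h : (x : Ω) ∈ S), φ x = (α ⟨x, h⟩ : S) := by
    intro P φ hφ
    refine Cfsg.Agent.Fusion.alperin_induction hS hF
      (C := fun P φ => ∃ α ∈ A, ∀ (x : P) (h : (x : Ω) ∈ S), φ x = (α ⟨x, h⟩ : S)) ?_ ?_ ?_ ?_ hφ
    · intro P g hP hg
      refine ⟨1, one_mem _, fun x h => ?_⟩
      show g * (x : Ω) * g⁻¹ = x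
      rw [hab g hg _ h, mul_inv_cancel_right]
    · rintro P Q φ ψ hφ hψ ⟨α, hα, hαx⟩ ⟨β, hβ, hβx⟩ h
      refine ⟨β * α, mul_mem hβ hα, fun x hx => ?_⟩
      have h1 := hαx x hx
      have h2 := hβx ⟨φ x, h x⟩ (Cfsg.Agent.Fusion.apply_mem hφ x)
      show ψ ⟨φ x, h x⟩ = _
      rw [h2]
      exact congrArg (fun z : S => (β z : Ω)) (Subtype.ext h1)
    · rintro P φ ψ hφ ⟨α, hα, hαx⟩ hψ hi
      refine ⟨α⁻¹, inv_mem hα, ?_⟩
      rintro ⟨_, x, rfl⟩ hx
      have hxS : (x : Ω) ∈ S := Cfsg.Agent.Fusion.dom_le hφ x.2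
      rw [hi x, show (⟨φ x, hx⟩ : S) = α ⟨x, hxS⟩ from Subtype.ext (hαx x hxS),
        MulAut.inv_apply_self]
    · intro R hn hc _ α hα
      have hRS : R = S := le_antisymm hn.1 fun g hg =>
        hc.2 R (Cfsg.Agent.Fusion.isConj_refl F hn.1) (Cfsg.Agent.Fusion.mem_centralizerIn.2
          ⟨hg, fun x hx => hab x (hn.1 hx) g hg⟩)
      subst hRS
      exact ⟨α, hα, fun x h => rfl⟩
  have hhom : ∀ α ∈ A, S.subtype.comp α.toMonoidHom ∈ F.Hom S := fun α hα =>
    (Cfsg.Agent.Fusion.mem_autGroup_iff le_rfl).1 hα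
  have := Cfsg.Agent.Fusion.finite_autGroup (F := F) (le_refl S)
  have := Fintype.ofFinite A
  -- `p` does not divide the order of the automorphism group
  have hcop : ∀ x : S, x ^ Nat.card A = 1 → x = 1 := by
    obtain ⟨-, T, hT⟩ := Cfsg.Agent.Fusion.isFullyAutomized_self hS hF
    have hT1 : (T : Subgroup A) = ⊥ := by
      rw [hT, Cfsg.Agent.Fusion.autInducedBy_self, eq_bot_iff]
      rintro ⟨β, hβ⟩ hm
      obtain ⟨g, rfl⟩ := Subgroup.mem_subgroupOf.1 hm
      refine Subgroup.mem_bot.2 (Subtype.ext (MulEquiv.ext fun x => Subtype.ext ?_))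
      show (g : Ω) * x * (g : Ω)⁻¹ = x
      rw [hab g g.2 x x.2, mul_inv_cancel_right]
    have hp : ¬ p ∣ Nat.card A := by
      intro hd
      have := T.not_dvd_index
      rw [hT1, Subgroup.index_bot] at this
      exact this hd
    intro x hx
    obtain ⟨k, hk⟩ := hS x
    exact orderOf_eq_one_iff.1 (Nat.eq_one_of_dvd_coprimes
      (((Fact.out : p.Prime).coprime_iff_not_dvd.2 hp).pow_left k)
      (orderOf_dvd_of_pow_eq_one hk) (orderOf_dvd_of_pow_eq_one hx))
  have : IsMulCommutative S := ⟨⟨fun a b => Subtype.ext (hab _ a.2 _ b.2)⟩⟩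
  -- the fixed points and the commutators of `A`
  let C₀ : Subgroup S :=
    { carrier := {x | ∀ α ∈ A, α x = x}
      one_mem' := fun α _ => map_one α
      mul_mem' := fun {a b} ha hb α hα => by rw [map_mul, ha α hα, hb α hα]
      inv_mem' := fun {a} ha α hα => by rw [map_inv, ha α hα] }
  let D₀ : Subgroup S := Subgroup.closure {y | ∃ α ∈ A, ∃ x : S, y = x⁻¹ * α x}
  have hfoc : F.focalSubgroup = D₀.map S.subtype := by
    refine le_antisymm ((Subgroup.closure_le _).2 ?_) ?_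
    · rintro _ ⟨P, φ, x, hφ, rfl⟩
      obtain ⟨α, hα, hαx⟩ := hext hφ
      have hxS : (x : Ω) ∈ S := Cfsg.Agent.Fusion.dom_le hφ x.2
      exact ⟨_, Subgroup.subset_closure ⟨α, hα, ⟨x, hxS⟩, rfl⟩, by simp [hαx x hxS]⟩
    · rw [MonoidHom.map_closure, Subgroup.closure_le]
      rintro _ ⟨_, ⟨α, hα, x, rfl⟩, rfl⟩
      exact Subgroup.subset_closure ⟨S, S.subtype.comp α.toMonoidHom, x, hhom α hα, by simp⟩
  have hcen : F.center = C₀.map S.subtype := by
    refine le_antisymm (sSup_le ?_) (le_sSup ?_)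
    · rintro Q ⟨hQS, hQ⟩ q hq
      refine ⟨⟨q, hQS hq⟩, fun α hα => Subtype.ext ?_, rfl⟩
      obtain ⟨ψ, -, h1, h2⟩ := hQ S _ (hhom α hα)
      have h3 : ψ (Subgroup.inclusion le_sup_left ⟨q, hQS hq⟩) = ψ (Subgroup.inclusion le_sup_right (⟨q, hq⟩ : Q)) :=
        congrArg ψ (Subtype.ext rfl)
      rw [h1, h2] at h3
      exact h3
    · refine ⟨Subgroup.map_subtype_le _, fun P φ hφ => ?_⟩
      obtain ⟨α, hα, hαx⟩ := hext hφ
      have hle : P ⊔ C₀.map S.subtype ≤ S :=
        sup_le (Cfsg.Agent.Fusion.dom_le hφ) (Subgroup.map_subtype_le _)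
      refine ⟨(S.subtype.comp α.toMonoidHom).comp (Subgroup.inclusion hle),
        Cfsg.Agent.Fusion.restrict_mem (hhom α hα) hle, fun x => (hαx x _).symm, ?_⟩
      rintro ⟨_, c, hc, rfl⟩
      exact congrArg Subtype.val (hc α hα)
  open scoped IsMulCommutative in
  have key : C₀ ⊓ D₀ = ⊥ ∧ C₀ ⊔ D₀ = ⊤ := by
    let θ : S →* S := MonoidHom.mk' (fun x => ∏ α : A, (α : MulAut S) x) fun a b => by
      simp [Finset.prod_mul_distrib]
    have hθ : ∀ α ∈ A, ∀ x, θ (α x) = θ x := fun α hα x =>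
      Fintype.prod_equiv (Equiv.mulRight (⟨α, hα⟩ : A)) _ _ fun β => rfl
    have hθfix : ∀ x, θ x ∈ C₀ := fun x α hα => by
      show α (∏ β : A, (β : MulAut S) x) = _
      rw [map_prod]
      exact Fintype.prod_equiv (Equiv.mulLeft (⟨α, hα⟩ : A)) _ _ fun β => rfl
    constructor
    · refine (Subgroup.eq_bot_iff_forall _).2 fun x hx => hcop x ?_
      have h1 : θ x = 1 := by
        have hker : D₀ ≤ θ.ker := by
          rw [Subgroup.closure_le]
          rintro _ ⟨α, hα, y, rfl⟩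
          simp [hθ α hα]
        exact hker hx.2
      rw [← h1]
      show x ^ Nat.card A = ∏ α : A, (α : MulAut S) x
      rw [Finset.prod_congr rfl fun α _ => hx.1 _ α.2, Finset.prod_const, Finset.card_univ,
        Nat.card_eq_fintype_card]
    · refine top_unique fun x _ => ?_
      have hpow : ∀ y : S, y ^ Nat.card A ∈ C₀ ⊔ D₀ := by
        intro y
        have h1 : y ^ Nat.card A = θ y * ∏ α : A, (y⁻¹ * (α : MulAut S) y)⁻¹ := by
          show y ^ Nat.card A = (∏ α : A, (α : MulAut S) y) * _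
          rw [← Finset.prod_mul_distrib, Nat.card_eq_fintype_card, ← Finset.card_univ, ← Finset.prod_const]
          refine Finset.prod_congr rfl fun α _ => ?_
          rw [mul_inv_rev, inv_inv, mul_inv_cancel_left]
        rw [h1]
        refine mul_mem (Subgroup.mem_sup_left (hθfix y)) (Subgroup.mem_sup_right (prod_mem fun α _ => ?_))
        exact inv_mem (Subgroup.subset_closure ⟨_, α.2, y, rfl⟩)
      have hinj : Function.Injective fun y : S => y ^ Nat.card A := fun a b h => by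
        replace h : a ^ Nat.card A = b ^ Nat.card A := h
        refine inv_mul_eq_one.1 (hcop (a⁻¹ * b) ?_)
        rw [mul_pow, inv_pow, h, inv_mul_cancel]
      obtain ⟨y, rfl⟩ := (Finite.injective_iff_surjective.1 hinj) x
      exact hpow y
  refine ⟨?_, ?_⟩
  · rw [hcen, hfoc, ← Subgroup.map_inf _ _ _ S.subtype_injective, key.1, Subgroup.map_bot]
  · rw [hcen, hfoc, ← Subgroup.map_sup, key.2, ← MonoidHom.range_eq_map, Subgroup.range_subtype]

end Cfsg.Agent.S5330
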