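import Cfsg.Statements.S5331
import Cfsg.Agent.Lib.Fusion.InnerWeaklyNormal
import Cfsg.Agent.Lib.Fusion.Stabilizer
import Cfsg.Agent.Lib.Fusion.Nilpotent


set_option autoImplicit false
open Cfsg Cfsg.FusionSystem Cfsg.Agent.Fusion

namespace Cfsg.Agent.S5331

theorem exponentLemma {G : Type*} [Group G] {n : ℕ} (a : Fin n → ℕ)
    (e : G ≃* Multiplicative ((i : Fin n) → ZMod (2 ^ a i))) (x : G) : ∃ k, x ^ 2 ^ k = 1 := by
  refine ⟨∑ i, a i, e.injective ?_⟩
  rw [map_pow, map_one]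
  apply Multiplicative.toAdd.injective
  funext i
  rw [toAdd_pow, toAdd_one, Pi.smul_apply, Pi.zero_apply, nsmul_eq_mul,
    show ((2 ^ ∑ i, a i : ℕ) : ZMod (2 ^ a i)) = 0 from ?_, zero_mul]
  rw [ZMod.natCast_eq_zero_iff]
  exact pow_dvd_pow 2 (Finset.single_le_sum (fun j _ => Nat.zero_le (a j)) (Finset.mem_univ i))

/-- `2^k`-th powers of order dividing 2, coordinatewise: two outside the next layer multiply into it. -/
theorem layer_mul {n : ℕ} (a : Fin n → ℕ) (ha : StrictMono a) (k : ℕ)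
    (z z' : (i : Fin n) → ZMod (2 ^ a i))
    (hz2 : 2 • z = 0) (hz : ∃ w, 2 ^ k • w = z) (hz'2 : 2 • z' = 0) (hz' : ∃ w, 2 ^ k • w = z')
    (hzn : ¬ ∃ w, 2 ^ (k + 1) • w = z) (hz'n : ¬ ∃ w, 2 ^ (k + 1) • w = z') :
    ∃ w, 2 ^ (k + 1) • w = z + z' := by
  have two : ∀ (m : ℕ) (u : ZMod (2 ^ m)), 2 • u = 0 → u = 0 ∨ u = ((2 ^ (m - 1) : ℕ) : ZMod (2 ^ m)) := by
    intro m u hu
    haveI : NeZero (2 ^ m) := ⟨by positivity⟩
    have h1 : ((2 * u.val : ℕ) : ZMod (2 ^ m)) = 0 := by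
      rw [Nat.cast_mul, ZMod.natCast_zmod_val, ← nsmul_eq_mul, hu]
    rw [ZMod.natCast_eq_zero_iff] at h1
    rcases m with _ | m
    · exact Or.inl (Subsingleton.elim (α := ZMod 1) _ _)
    replace h1 : 2 * 2 ^ m ∣ 2 * u.val := pow_succ' 2 m ▸ h1
    obtain ⟨c, hc⟩ := Nat.dvd_of_mul_dvd_mul_left two_pos h1
    have hlt := u.val_lt
    have hp2 : 2 ^ (m + 1) = 2 * 2 ^ m := pow_succ' 2 m
    rw [hc] at hlt
    have : c < 2 := by
      by_contra hcc
      have : 2 * 2 ^ m ≤ 2 ^ m * c := by rw [mul_comm]; exact Nat.mul_le_mul_left _ (by omega)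
      omega
    rcases Nat.lt_succ_iff.1 this |> Nat.le_one_iff_eq_zero_or_eq_one.1 with rfl | rfl
    · left; rw [← ZMod.natCast_zmod_val u, hc]; simp
    · right; rw [← ZMod.natCast_zmod_val u, hc]; simp
  -- coordinate `i` lies in the next layer unless `a i = k + 1`
  have coord : ∀ z : (i : Fin n) → ZMod (2 ^ a i), 2 • z = 0 → (∃ w, 2 ^ k • w = z) →
      ∀ i, a i ≠ k + 1 → ∃ u, 2 ^ (k + 1) • u = z i := by
    rintro z h2 ⟨w, hw⟩ i hi
    by_cases hle : a i ≤ k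
    · refine ⟨0, ?_⟩
      rw [smul_zero, ← hw, Pi.smul_apply, nsmul_eq_mul,
        show ((2 ^ k : ℕ) : ZMod (2 ^ a i)) = 0 from
          (ZMod.natCast_eq_zero_iff _ _).2 (pow_dvd_pow 2 hle), zero_mul]
    · rcases two (a i) (z i) (congrFun h2 i) with h | h
      · exact ⟨0, by rw [smul_zero, h]⟩
      · refine ⟨((2 ^ (a i - 1 - (k + 1)) : ℕ) : ZMod _), ?_⟩
        rw [h, nsmul_eq_mul, ← Nat.cast_mul, ← pow_add]
        congr 2
        omega
  classical
  have build : ∀ z : (i : Fin n) → ZMod (2 ^ a i),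
      (∀ i, ∃ u, 2 ^ (k + 1) • u = z i) → ∃ w, 2 ^ (k + 1) • w = z := fun z h => by
    choose u hu using h
    exact ⟨u, funext hu⟩
  have crit : ∀ z : (i : Fin n) → ZMod (2 ^ a i), 2 • z = 0 → (∃ w, 2 ^ k • w = z) →
      (¬ ∃ w, 2 ^ (k + 1) • w = z) → ∃ i, a i = k + 1 ∧ z i = ((2 ^ k : ℕ) : ZMod (2 ^ a i)) := by
    intro z h2 hd hn
    by_contra hc
    push_neg at hc
    refine hn (build z fun i => ?_)
    by_cases hi : a i = k + 1
    · rcases two (a i) (z i) (congrFun h2 i) with h | h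
      · exact ⟨0, by rw [smul_zero, h]⟩
      · exact absurd (by rw [h, hi, Nat.add_sub_cancel]) (hc i hi)
    · exact coord z h2 hd i hi
  obtain ⟨i, hi, hzi⟩ := crit z hz2 hz hzn
  obtain ⟨j, hj, hzj⟩ := crit z' hz'2 hz' hz'n
  obtain rfl : i = j := ha.injective (hi.trans hj.symm)
  refine build _ fun l => ?_
  by_cases hl : a l = k + 1
  · obtain rfl : l = i := ha.injective (hl.trans hi.symm)
    refine ⟨0, ?_⟩
    rw [smul_zero, Pi.add_apply, hzi, hzj, ← Nat.cast_add, eq_comm, ZMod.natCast_eq_zero_iff,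
      hl, pow_succ, mul_two]
  · obtain ⟨u, hu⟩ := coord z hz2 hz l hl
    obtain ⟨u', hu'⟩ := coord z' hz'2 hz' l hl
    exact ⟨u + u', by rw [smul_add, hu, hu', Pi.add_apply]⟩

/-- An automorphism of odd order is trivial. -/
theorem aut_trivial {G : Type*} [Group G] {n : ℕ} (a : Fin n → ℕ) (ha : StrictMono a)
    (e : G ≃* Multiplicative ((i : Fin n) → ZMod (2 ^ a i))) (hG : IsPGroup 2 G)
    (hcomm : ∀ x y : G, x * y = y * x) (α : MulAut G) (hα : (orderOf α).Coprime 2) : α = 1 := by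
  letI : CommGroup G := { ‹Group G› with mul_comm := hcomm }
  let V : ℕ → Subgroup G := fun k => (powMonoidHom 2).ker ⊓ (powMonoidHom (2 ^ k)).range
  have hV : ∀ k x, x ∈ V k ↔ x ^ 2 = 1 ∧ ∃ y, y ^ 2 ^ k = x := fun k x => Iff.rfl
  have hdict : ∀ (k : ℕ) (x : G), (∃ y, y ^ k = x) ↔ ∃ w, k • w = Multiplicative.toAdd (e x) := by
    intro k x
    constructor
    · rintro ⟨y, rfl⟩
      exact ⟨Multiplicative.toAdd (e y), by rw [map_pow, toAdd_pow]⟩
    · rintro ⟨w, hw⟩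
      refine ⟨e.symm (Multiplicative.ofAdd w), e.injective (Multiplicative.toAdd.injective ?_)⟩
      rw [map_pow, MulEquiv.apply_symm_apply, toAdd_pow, toAdd_ofAdd, hw]
  have hd2 : ∀ x : G, x ^ 2 = 1 → 2 • Multiplicative.toAdd (e x) = 0 := fun x hx => by
    rw [← toAdd_pow, ← map_pow, hx, map_one, toAdd_one]
  have step : ∀ k, ∀ x ∈ V k, x⁻¹ * α x ∈ V (k + 1) := by
    intro k x hx
    obtain ⟨hx2, y, hy⟩ := (hV k x).1 hx
    have hax2 : (α x) ^ 2 = 1 := by rw [← map_pow, hx2, map_one]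
    refine (hV _ _).2 ⟨by rw [mul_pow, inv_pow, hx2, hax2, inv_one, one_mul], ?_⟩
    have hxinv : x⁻¹ = x := inv_eq_of_mul_eq_one_right (by rw [← sq, hx2])
    by_cases hin : ∃ y, y ^ 2 ^ (k + 1) = x
    · obtain ⟨y', hy'⟩ := hin
      exact ⟨y'⁻¹ * α y', by rw [mul_pow, inv_pow, hy', ← map_pow, hy']⟩
    · rw [hxinv, hdict, map_mul, toAdd_mul]
      refine layer_mul a ha k _ _ (hd2 x hx2) ((hdict _ x).1 ⟨y, hy⟩) (hd2 _ hax2)
        ((hdict _ _).1 ⟨α y, by rw [← map_pow, hy]⟩) (fun h => hin ((hdict _ _).2 h)) fun h => hin ?_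
      obtain ⟨y', hy'⟩ := (hdict _ _).2 h
      exact ⟨α⁻¹ y', by rw [← map_pow, hy', MulAut.inv_apply_self]⟩
  have htop : ∀ k x, (∑ i, a i) ≤ k → x ∈ V k → x = 1 := by
    intro k x hk hx
    obtain ⟨-, w, hw⟩ := (hV k x).1 hx
    obtain ⟨-, w', hw'⟩ : True ∧ ∃ w, 2 ^ k • w = Multiplicative.toAdd (e x) :=
      ⟨trivial, (hdict _ x).1 ⟨w, hw⟩⟩
    refine e.injective (Multiplicative.toAdd.injective ?_)
    rw [← hw', map_one, toAdd_one]
    funext i
    rw [Pi.smul_apply, Pi.zero_apply, nsmul_eq_mul,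
      show ((2 ^ k : ℕ) : ZMod (2 ^ a i)) = 0 from (ZMod.natCast_eq_zero_iff _ _).2
        (pow_dvd_pow 2 ((Finset.single_le_sum (fun j _ => Nat.zero_le (a j)) (Finset.mem_univ i)).trans hk)),
      zero_mul]
  set m := ∑ i, a i
  have hfix2 : ∀ x : G, x ^ 2 = 1 → α x = x := fun x hx =>
    eq_self_of_series hG hα (T := fun i => V (m - i)) (m := m)
      ((Subgroup.eq_bot_iff_forall _).2 fun y hy => htop _ y (by simp) hy)
      (fun i hi y hy => by
        have := step _ y hy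
        rwa [show m - (i + 1) + 1 = m - i by omega] at this) x
      ((hV _ _).2 ⟨hx, x, by simp⟩)
  refine MulEquiv.ext fun x => ?_
  obtain ⟨k, hk⟩ := hG x
  induction k generalizing x with
  | zero => rw [pow_zero, pow_one] at hk; subst hk; simp
  | succ k ih =>
    rw [pow_succ', pow_mul] at hk
    have h2 : α (x ^ 2) = x ^ 2 := ih _ hk
    refine eq_self_of_translate hG hα (hfix2 _ ?_)
    rw [mul_pow, inv_pow, ← map_pow, h2, inv_mul_cancel]


/-- Let S be a finite abelian 2-group that is a direct product of cyclic groups of pairwise distinct orders 2^{a_1} < 2^{a_2} < ⋯ < 2^{a_n} (all a_i ≥ 1). Then every saturated fusion system over S is the inner one: its maps are exactly the conjugations by elements of S. -/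
theorem result {Ω : Type*} [Group Ω] {S : Subgroup Ω} [Finite S] (n : ℕ) (a : Fin n → ℕ) (ha : StrictMono a) (ha1 : ∀ i, 1 ≤ a i) (e : ↥S ≃* Multiplicative ((i : Fin n) → ZMod (2 ^ a i))) (F : Cfsg.FusionSystem S) (hF : F.IsSaturated 2) (P : Subgroup Ω) : F.Hom P = (Cfsg.innerFusionSystem S).Hom P := by
  have hcommS : ∀ x y : S, x * y = y * x := fun x y => e.injective (by rw [map_mul, map_mul, mul_comm])
  have hS : IsPGroup 2 S := fun x => exponentLemma a e x
  haveI := Fact.mk Nat.prime_two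
  have hSn : F.IsNormal S := isNormal_of_abelian hS hF ⟨le_rfl, fun _ _ φ hφ x => apply_mem hφ x⟩
    ⟨⟨hcommS⟩⟩
  have hAut : ∀ α ∈ F.autGroup S, α = 1 := by
    have := finite_autGroup (F := F) (P := S) le_rfl
    have hp : IsPGroup 2 (F.autGroup S) := by
      refine isPGroup_of_coprime_orderOf_eq_one fun α hα => Subtype.ext ?_
      exact aut_trivial a ha e hS hcommS α (by rwa [Subgroup.orderOf_coe])
    intro α hα
    obtain ⟨g, hg⟩ : α ∈ Cfsg.Inn S :=
      autInducedBy_self S ▸ autGroup_eq_of_isPGroup (isFullyAutomized_self hS hF) hp hα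
    rw [← hg]
    exact MulEquiv.ext fun x => by rw [MulAut.conj_apply, hcommS, inv_mul_cancel_left]; rfl
  refine Set.Subset.antisymm (fun φ hφ => ?_) fun φ hφ => ?_
  · obtain ⟨ψ, hψ, hψe, -⟩ := hSn.2 P φ hφ
    have hle : S ≤ P ⊔ S := le_sup_right
    have hψ' : ψ.comp (Subgroup.inclusion hle) ∈ F.Hom S := restrict_mem hψ hle
    have hr : (ψ.comp (Subgroup.inclusion hle)).range = S := eq_of_isConj_self ⟨_, hψ', rfl⟩
    refine ⟨dom_le hφ, 1, S.one_mem, fun x => ?_⟩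
    have h1 := congrArg (fun g : MulAut S => ((g ⟨x, dom_le hφ x.2⟩ : S) : Ω))
      (hAut _ (toAut_mem hψ' hr))
    rw [one_mul, inv_one, mul_one, ← hψe x]
    exact h1
  · obtain ⟨hP, g, hg, hgx⟩ := hφ
    exact mem_of_conj hP hg hgx

end Cfsg.Agent.S5331
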