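import Cfsg.Statements.S5333
import Cfsg.Agent.Lib.Fusion.Alperin
import Cfsg.Agent.Lib.Fusion.Constructions


set_option autoImplicit false
open Cfsg Cfsg.FusionSystem Cfsg.Agent.Fusion

namespace Cfsg.Agent.S5333

/-- Let F′ ≤ F be saturated fusion systems over the same finite p-group S. Suppose that for every subgroup Z ≤ S of order p that is fully centralized in F′, the maps of F and of F′ with source Z coincide and the centralizer systems C_F(Z) and C_{F′}(Z) coincide. Then F = F′. -/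
theorem result {Ω : Type*} [Group Ω] {S : Subgroup Ω} [Finite S] (p : ℕ) [Fact p.Prime] (hS : IsPGroup p S) (F : Cfsg.FusionSystem S) (hF : F.IsSaturated p) (F' : Cfsg.FusionSystem S) (hF' : F'.IsSaturated p) (hle : F' ≤ F) (hZ : ∀ Z : Subgroup Ω, Z ≤ S → Nat.card Z = p → F'.IsFullyCentralized Z → F.Hom Z = F'.Hom Z ∧ ∀ (C C' : Cfsg.FusionSystem (Cfsg.FusionSystem.centralizerIn S Z)), F.IsCentralizerSystem Z C → F'.IsCentralizerSystem Z C' → ∀ P : Subgroup Ω, C.Hom P = C'.Hom P) (P : Subgroup Ω) : F.Hom P = F'.Hom P := by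
  refine Set.Subset.antisymm ((alperin hS hF F' fun R _ hR _ α hα => ?_) P) (hle P)
  obtain ⟨hαh, hαr⟩ := hom_of_mem_autGroup hR.1 hα
  refine (mem_autGroup_iff hR.1).2 ?_
  by_cases hS1 : S = ⊥
  · refine mem_of_conj hR.1 S.one_mem fun x => ?_
    have h1 : (x : Ω) = 1 := Subgroup.mem_bot.1 (hS1 ▸ hR.1 x.2)
    have hx : x = 1 := Subtype.ext h1
    subst hx
    simp
  haveI : Nontrivial S := (Subgroup.nontrivial_iff_ne_bot S).2 hS1
  have hfinR := finite_of_le hR.1
  haveI := hS.center_nontrivial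
  obtain ⟨z, hz⟩ : ∃ z : Subgroup.center ↥S, orderOf z = p := by
    obtain ⟨k, hk⟩ := (hS.to_subgroup (Subgroup.center S)).exists_card_eq
    refine exists_prime_orderOf_dvd_card' p ?_
    rcases k with _ | k
    · have := Finite.one_lt_card (α := Subgroup.center ↥S)
      rw [pow_zero] at hk
      omega
    · exact hk ▸ dvd_pow_self p k.succ_ne_zero
  set z' : Ω := ((z : S) : Ω) with hz'
  have hzc : ∀ s ∈ S, s * z' = z' * s := fun s hs =>
    congrArg Subtype.val (Subgroup.mem_center_iff.1 z.2 ⟨s, hs⟩)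
  have hzR : z' ∈ R := isCentric_centralizerIn_le hR
    (mem_centralizerIn.2 ⟨(z : S).2, fun x hx => hzc x (hR.1 hx)⟩)
  set Z := Subgroup.zpowers z' with hZdef
  have hZR : Z ≤ R := Subgroup.zpowers_le.2 hzR
  have hZS : Z ≤ S := hZR.trans hR.1
  have hcard : Nat.card Z = p := by
    rw [hZdef, Nat.card_zpowers, hz', Subgroup.orderOf_coe, Subgroup.orderOf_coe, hz]
  have hCS : centralizerIn S Z = S := le_antisymm (centralizerIn_le S Z) fun s hs =>
    mem_centralizerIn.2 ⟨hs, fun x hx => by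
      obtain ⟨i, rfl⟩ := Subgroup.mem_zpowers_iff.1 hx
      exact ((Commute.zpow_right (show Commute s z' from hzc s hs) i).eq).symm⟩
  have hfc : F'.IsFullyCentralized Z := ⟨hZS, fun Q _ => by
    rw [hCS]
    exact Subgroup.card_le_of_le (centralizerIn_le S Q)⟩
  obtain ⟨hHom, hC⟩ := hZ Z hZS hcard hfc
  have hαZ : (R.subtype.comp α.toMonoidHom).comp (Subgroup.inclusion hZR) ∈ F'.Hom Z :=
    hHom ▸ restrict_mem hαh hZR
  obtain ⟨ρ, hρ, hρr, hρi, -⟩ := exists_inverse hαZ rfl
  have hle' : R ≤ extender S ((R.subtype.comp α.toMonoidHom).comp (Subgroup.inclusion hZR)).range ρ := by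
    intro g hg
    have hcomm : ∀ y ∈ ((R.subtype.comp α.toMonoidHom).comp (Subgroup.inclusion hZR)).range,
        g * y * g⁻¹ = y := by
      rintro _ ⟨x, rfl⟩
      obtain ⟨w, hw⟩ : ∃ w : R, α w = ⟨g, hg⟩ := α.surjective _
      have hwx : (Subgroup.inclusion hZR x) * w = w * Subgroup.inclusion hZR x :=
        Subtype.ext ((mem_centralizerIn.1 (hCS.ge (hR.1 w.2))).2 x x.2)
      have h1 := congrArg (fun r => ((α r : R) : Ω)) hwx
      simp only [map_mul, Subgroup.coe_mul, hw] at h1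
      show g * (α (Subgroup.inclusion hZR x) : Ω) * g⁻¹ = (α (Subgroup.inclusion hZR x) : Ω)
      rw [← h1, mul_inv_cancel_right]
    refine mem_extender_iff.2 ⟨hR.1 hg, mem_normalizer_of_aut (α := 1) fun x => ?_, 1, S.one_mem, fun x hx => ?_⟩
    · exact (hcomm x x.2).symm
    · rw [one_mul, inv_one, mul_one]
      exact congrArg ρ (Subtype.ext (hcomm x x.2))
  obtain ⟨θ, hθ, hθe⟩ := exists_extension (isReceptive_of_fullyCentralized hS hF' hfc) hρ hρr hle'
  let μ : R →* Ω := θ.comp α.toMonoidHom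
  have hμ : μ ∈ F.Hom R := comp_mem' hαh (hle R hθ) (fun x => (α x).2) fun x => rfl
  have hμfix : ∀ x : Z, μ (Subgroup.inclusion hZR x) = (x : Ω) := fun x => by
    show θ _ = _
    exact (hθe _ ⟨x, rfl⟩ (α (Subgroup.inclusion hZR x)).2).trans (hρi x _)
  have hμc : μ ∈ F.centralizerHom Z R := by
    refine ⟨hμ, hR.1.trans hCS.ge, fun x => hCS.ge (apply_mem hμ x), ?_⟩
    have hsup : R ⊔ Z ≤ R := sup_le le_rfl hZR
    exact ⟨μ.comp (Subgroup.inclusion hsup), restrict_mem hμ hsup, fun x => rfl, fun x => hμfix x⟩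
  have hμ' : μ ∈ F'.Hom R := by
    have h := hC _ _ (centralizerSystem_spec F Z hZS) (centralizerSystem_spec F' Z hZS) R
    exact (h.subset hμc).1
  obtain ⟨θi, hθi, -, hi, -⟩ := exists_inverse hθ rfl
  exact comp_mem' hμ' hθi (fun x => ⟨α x, rfl⟩) fun x => (hi (α x) _).symm

end Cfsg.Agent.S5333
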