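import Cfsg.Statements.S5336
import Cfsg.Agent.Lib.Fusion.NormalOfNormal
-- import your own Cfsg.Agent.* helpers here

set_option autoImplicit false
open Cfsg Cfsg.FusionSystem Cfsg.Agent.Fusion
open Cfsg

namespace Cfsg.Agent.S5336

/-- Let G be a finite group with Sylow p-subgroup S whose fusion system F_S(G) is simple. If G has no nontrivial normal subgroup of order prime to p and no proper subgroup H containing S induces the same fusion system on S as G does, then G is a simple group. -/
theorem result {G : Type*} [Group G] [Finite G] (p : ℕ) [Fact p.Prime] (S : Sylow p G) (hsimple : (Cfsg.groupFusionSystem (S : Subgroup G)).IsSimple p) (hcore : Cfsg.pPrimeCore p G = ⊥) (hmin : ∀ (H : Subgroup G) (hSH : (S : Subgroup G) ≤ H), H ≠ ⊤ → ∃ P : Subgroup G, (Cfsg.fusionSystemOfSubgroup H (S : Subgroup G) hSH).Hom P ≠ (Cfsg.groupFusionSystem (S : Subgroup G)).Hom P) : IsSimpleGroup G := by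
  have hS : (S : Subgroup G) ≠ ⊥ := hsimple.2.1
  have hnt : Nontrivial G := by
    obtain ⟨x, -, hx⟩ := (Subgroup.bot_or_exists_ne_one (S : Subgroup G)).resolve_left hS
    exact ⟨⟨x, 1, hx⟩⟩
  refine ⟨fun N hN => ?_⟩
  rcases hsimple.2.2 _ _ (subgroupSystem_isNormalIn S N) with h | ⟨h1, h2⟩
  · left
    have h0 : ¬ p ∣ Nat.card N := by
      intro hdvd
      have h3 := (isSylowIn_iff_card inf_le_right).1 (isSylowIn_of_normal S N)
      rw [h, Subgroup.card_bot] at h3
      have h4 := (Fact.out : p.Prime).factorization_pos_of_dvd Nat.card_pos.ne' hdvd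
      exact (Nat.one_lt_pow h4.ne' (Fact.out : p.Prime).one_lt).ne h3
    rw [eq_bot_iff, ← hcore]
    exact le_sSup ⟨hN, ((Fact.out : p.Prime).coprime_iff_not_dvd.2 h0).symm⟩
  · right
    by_contra hne
    obtain ⟨P, hP⟩ := hmin N (inf_eq_left.1 h1) hne
    refine hP ?_
    rw [← h2 P]
    ext φ
    rw [mem_subgroupSystem, mem_subgroupSystem, h1]

end Cfsg.Agent.S5336
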