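import Cfsg.Statements.S5338
import Cfsg.Agent.Lib.Fusion.Alperin


set_option autoImplicit false
open Cfsg Cfsg.FusionSystem Cfsg.Agent.Fusion

namespace Cfsg.Agent.S5338

/-- Let F be a saturated fusion system over a finite p-group S and F′ ≤ F a saturated subsystem over all of S that is invariant under F in the conjugation sense: for every map φ of F with source Q and every map ψ of F′ between subgroups R ≤ Q (with values in Q), the transported map φψφ⁻¹ defined on φ(R) is again a map of F′. If moreover Aut_{F′}(S) = Aut_F(S), then F′ = F. -/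
theorem result {Ω : Type*} [Group Ω] {S : Subgroup Ω} [Finite S] (p : ℕ) [Fact p.Prime] (hS : IsPGroup p S) (F : Cfsg.FusionSystem S) (hF : F.IsSaturated p) (F' : Cfsg.FusionSystem S) (hF' : F'.IsSaturated p) (hle : F' ≤ F) (hinv : ∀ (Q : Subgroup Ω) (φ : ↥Q →* Ω), φ ∈ F.Hom Q → ∀ (R : Subgroup Ω) (hRQ : R ≤ Q) (ψ : ↥R →* Ω), ψ ∈ F'.Hom R → ∀ (hψQ : ∀ x : R, ψ x ∈ Q), ∃ χ ∈ F'.Hom ((R.subgroupOf Q).map φ), ∀ (x : R) (hx : φ ⟨(x : Ω), hRQ x.2⟩ ∈ (R.subgroupOf Q).map φ), χ ⟨φ ⟨(x : Ω), hRQ x.2⟩, hx⟩ = φ ⟨ψ x, hψQ x⟩) (htop : F'.autGroup S = F.autGroup S) (P : Subgroup Ω) : F'.Hom P = F.Hom P := by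
  suffices h : ∀ (n : ℕ) (P : Subgroup Ω), P ≤ S → Nat.card S - Nat.card P ≤ n → F.Hom P ⊆ F'.Hom P by
    refine Set.Subset.antisymm (hle P) fun φ hφ => h _ P (dom_le hφ) le_rfl hφ
  intro n
  induction n using Nat.strong_induction_on with
  | _ n ih =>
    intro P hPS hn φ hφ
    have big : ∀ P' R : Subgroup Ω, F.IsConj P P' → P' < R → R ≤ S → F.Hom R ⊆ F'.Hom R := by
      intro P' R hc hlt hR
      have h1 := card_lt_of_lt hR hlt
      have h2 := card_le_of_le le_rfl hR
      have h0 := isConj_card hc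
      exact ih (Nat.card S - Nat.card R) (by omega) R hR le_rfl
    have autS : ∀ α : MulAut S, α ∈ F.autGroup S → S.subtype.comp α.toMonoidHom ∈ F'.Hom S :=
      fun α hα => (mem_autGroup_iff le_rfl).1 (htop.ge hα)
    rcases eq_or_lt_of_le hPS with rfl | hlt
    · have hr : φ.range = P := eq_of_isConj_self ⟨φ, hφ, rfl⟩
      exact mem_of_le (autS _ (toAut_mem hφ hr)) le_rfl fun x => rfl
    obtain ⟨R, hPR, hRn⟩ := exists_fullyNormalized F hPS
    have hRS : R < S := lt_of_le_of_ne hRn.1 fun h => hlt.ne (eq_of_isConj_self (isConj_symm (h ▸ hPR)))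
    have hφP : F.IsConj P φ.range := ⟨φ, hφ, rfl⟩
    have hφS : φ.range < S := lt_of_le_of_ne (range_le hφ) fun h =>
      hlt.ne (eq_of_isConj_self (isConj_symm (h ▸ hφP)))
    obtain ⟨w, hw, -, hwR⟩ := exists_hom_fullyNormalized hS hF hRn hPR
    obtain ⟨w', hw', -, hw'R⟩ := exists_hom_fullyNormalized hS hF hRn
      (isConj_trans (isConj_symm hφP) hPR)
    have hw1 : w ∈ F'.Hom _ :=
      big P _ (isConj_refl F hPS) (lt_normalizerIn hS hlt) (normalizerIn_le S P) hw
    have hw'1 : w' ∈ F'.Hom _ :=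
      big φ.range _ hφP (lt_normalizerIn hS hφS) (normalizerIn_le S _) hw'
    -- the automorphism group at `R`
    have key : F.autGroup R ≤ F'.autGroup R := by
      have hRP := hPR
      have hfinA := finite_autGroup (F := F) hRS.le
      let B : Subgroup (F.autGroup R) := (F'.autGroup R).subgroupOf (F.autGroup R)
      have hB : B.Normal := by
        constructor
        intro b hb a
        obtain ⟨hah, har⟩ := hom_of_mem_autGroup hRS.le a.2
        obtain ⟨hbh, -⟩ := hom_of_mem_autGroup hRS.le (Subgroup.mem_subgroupOf.1 hb)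
        obtain ⟨χ, hχ, hχv⟩ := hinv R _ hah R le_rfl _ hbh fun x => ((b : MulAut R) x).2
        have hdom : (R.subgroupOf R).map (R.subtype.comp (a : MulAut R).toMonoidHom) = R := by
          rw [Subgroup.subgroupOf_self, ← MonoidHom.range_eq_map, har]
        refine (mem_autGroup_iff hRS.le).2 (mem_congr hχ hdom.symm fun x hx => ?_)
        show ((((a * b * a⁻¹ : F.autGroup R) : MulAut R) ⟨x, hx⟩ : R) : Ω) = _
        obtain ⟨r, hr⟩ := ((a : MulAut R)).surjective ⟨x, hx⟩
        have hr' : ((a : MulAut R) r : Ω) = x := congrArg Subtype.val hr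
        have hx' : ((a : MulAut R) r : Ω) ∈ (R.subgroupOf R).map (R.subtype.comp (a : MulAut R).toMonoidHom) :=
          hdom.symm ▸ ((a : MulAut R) r).2
        have h1 := hχv r hx'
        simp only [Subgroup.coe_mul, Subgroup.coe_inv, MulAut.mul_apply, ← hr, MulAut.inv_apply_self]
        refine Eq.trans ?_ (h1.symm.trans (congrArg χ (Subtype.ext ?_)))
        · rfl
        · exact hr'
      obtain ⟨-, T, hT⟩ := isFullyAutomized_of_fullyNormalized hS hF hRn
      have hTB : (T : Subgroup (F.autGroup R)) ≤ B := fun x hx => by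
        rw [hT, Subgroup.mem_subgroupOf] at hx
        exact Subgroup.mem_subgroupOf.2 (autInducedBy_le_autGroup F' hRS.le hx)
      intro α hα
      have htop' := Sylow.normalizer_sup_eq_top' T hTB
      have hmem : (⟨α, hα⟩ : F.autGroup R) ∈ Subgroup.normalizer ((T : Subgroup (F.autGroup R)) : Set (F.autGroup R)) ⊔ B :=
        htop' ▸ Subgroup.mem_top _
      suffices h : Subgroup.normalizer ((T : Subgroup (F.autGroup R)) : Set (F.autGroup R)) ≤ B from
        Subgroup.mem_subgroupOf.1 (sup_le h le_rfl hmem)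
      intro ν hν
      obtain ⟨g, hg, hgR⟩ := SetLike.exists_of_lt (lt_normalizerIn hS hRS)
      have hgA : conjAut hg.2 ∈ autInducedBy S R := conjAut_mem_autInducedBy hg.1 hg.2
      let cg : F.autGroup R := ⟨_, autInducedBy_le_autGroup F hRS.le hgA⟩
      have h2 := (Subgroup.mem_normalizer_iff.1 hν cg).1 (by rw [hT, Subgroup.mem_subgroupOf]; exact hgA)
      rw [hT, Subgroup.mem_subgroupOf] at h2
      obtain ⟨Q, hRQ, θ, hθ, he⟩ :=
        extendable_of_conj (isReceptive_of_fullyNormalized hS hF hRn) ν.2 hg.1 hg.2 hgR h2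
      exact Subgroup.mem_subgroupOf.2 ((mem_autGroup_iff hRS.le).2
        (mem_of_le (big R Q hRP hRQ (dom_le hθ) hθ) hRQ.le fun x => (he x).symm))
    -- conclude
    have hwx : ∀ x : P, w ⟨x, le_normalizerIn hPS x.2⟩ ∈ R := fun x => hwR.le ⟨_, x.2, rfl⟩
    let u : P →* Ω := w.comp (Subgroup.inclusion (le_normalizerIn hPS))
    have hu : u ∈ F.Hom P := restrict_mem hw (le_normalizerIn hPS)
    have hur : u.range = R := by
      rw [MonoidHom.range_comp, Subgroup.inclusion_range, hwR]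
    have hi1 : ∀ x : P, φ x ∈ normalizerIn S φ.range := fun x =>
      le_normalizerIn (range_le hφ) ⟨x, rfl⟩
    let v : P →* Ω := w'.comp (φ.codRestrict _ hi1)
    have hv : v ∈ F.Hom P := F.comp_mem hφ hw' hi1
    have hvR : ∀ x : P, v x ∈ R := fun x => hw'R.le ⟨_, ⟨x, rfl⟩, rfl⟩
    obtain ⟨ui, hui, huir, hiu, -⟩ := exists_inverse hu hur
    have huP : ∀ y : R, ui y ∈ P := fun y => huir.le ⟨y, rfl⟩
    let η : R →* Ω := v.comp (ui.codRestrict P huP)
    have hη : η ∈ F.Hom R := F.comp_mem hui hv huP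
    have hηr : η.range = R := range_eq_of_le hη hRS.le (fun y => hvR _) le_rfl
    have hη' : η ∈ F'.Hom R :=
      mem_of_le ((mem_autGroup_iff hRS.le).1 (key (toAut_mem hη hηr))) le_rfl fun x => rfl
    have hu' : u ∈ F'.Hom P := restrict_mem hw1 (le_normalizerIn hPS)
    have hv' : v ∈ F'.Hom P := comp_mem' hu' hη' hwx fun x => by
      show v x = v _
      exact congrArg v (Subtype.ext (hiu x (hwx x)).symm)
    obtain ⟨w'i, hw'i, -, hiw, -⟩ := exists_inverse hw'1 rfl
    exact comp_mem' hv' hw'i (fun x => ⟨_, rfl⟩) fun x => (hiw ⟨φ x, hi1 x⟩ ⟨_, rfl⟩).symm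

end Cfsg.Agent.S5338
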