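import Cfsg.Statements.S5341
import Cfsg.Agent.Lib.Fusion.Saturated


set_option autoImplicit false
open Cfsg Cfsg.FusionSystem Cfsg.Agent.Fusion

namespace Cfsg.Agent.S5341

/-- Let F be a saturated fusion system over a finite p-group S, T a subgroup strongly closed in F, and F′ any fusion system over T all of whose maps are maps of F. For a subgroup Q ≤ T: if Q is fully centralized in F then it is fully centralized in F′, and if Q is fully normalized in F then it is fully normalized in F′. -/
theorem result {Ω : Type*} [Group Ω] {S : Subgroup Ω} [Finite S] (p : ℕ) [Fact p.Prime] (hS : IsPGroup p S) (F : Cfsg.FusionSystem S) (hF : F.IsSaturated p) (T : Subgroup Ω) (hT : F.StronglyClosed T) (F' : Cfsg.FusionSystem T) (hsub : F'.IsSubsystemOf F) (Q : Subgroup Ω) (hQT : Q ≤ T) : (F.IsFullyCentralized Q → F'.IsFullyCentralized Q) ∧ (F.IsFullyNormalized Q → F'.IsFullyNormalized Q) := by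
  have hconj : ∀ {A B : Subgroup Ω}, F'.IsConj A B → F.IsConj B A := fun ⟨φ, hφ, hr⟩ =>
    isConj_symm ⟨φ, hsub _ hφ, hr⟩
  have hfinT := finite_of_le hT.1
  refine ⟨fun hfc => ⟨hQT, fun Q' hQ' => ?_⟩, fun hfn => ⟨hQT, fun Q' hQ' => ?_⟩⟩
  · obtain ⟨φ, hφ, hr⟩ := hconj hQ'
    have hle : centralizerIn S Q' ≤ extender S Q' φ := fun g hg => by
      obtain ⟨hgS, hgC⟩ := mem_centralizerIn.1 hg
      refine mem_extender_iff.2 ⟨hgS, Subgroup.centralizer_le_normalizer _ hg.2, 1, S.one_mem,
        fun x hx => ?_⟩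
      rw [one_mul, inv_one, mul_one]
      congr 1
      apply Subtype.ext
      show g * (x : Ω) * g⁻¹ = x
      rw [← hgC x x.2, mul_inv_cancel_right]
    obtain ⟨ψ, hψ, hψe⟩ := exists_extension (N := extender S Q' φ)
      (isReceptive_of_fullyCentralized hS hF hfc) hφ hr le_rfl
    have hfinC := finite_of_le (centralizerIn_le T Q)
    have hQ'le := le_extender (dom_le hφ) (apply_mem hφ)
    have hT' : centralizerIn T Q' ≤ centralizerIn S Q' := inf_le_inf_right _ hT.1
    refine Nat.card_le_card_of_injective (fun c : centralizerIn T Q' =>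
      (⟨ψ ⟨c, hle (hT' c.2)⟩, mem_centralizerIn.2 ⟨?_, ?_⟩⟩ : centralizerIn T Q)) ?_
    · exact hT.2 (centralizerIn T Q') (centralizerIn_le T Q') _
        (restrict_mem hψ (hT'.trans hle)) c
    · intro y hy
      obtain ⟨x, rfl⟩ := hr.ge hy
      rw [← hψe x x.2 (hQ'le x.2), ← map_mul, ← map_mul]
      exact congrArg ψ (Subtype.ext ((mem_centralizerIn.1 c.2).2 x x.2))
    · intro a b hab
      have := F.injective_of_mem hψ (congrArg Subtype.val hab)
      exact Subtype.ext (congrArg (fun z : extender S Q' φ => (z : Ω)) this)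
  · obtain ⟨ψ, hψ, hψN, -⟩ := exists_hom_fullyNormalized hS hF hfn (hconj hQ')
    have hfinN := finite_of_le (normalizerIn_le T Q)
    have hT' : normalizerIn T Q' ≤ normalizerIn S Q' := inf_le_inf_right _ hT.1
    refine Nat.card_le_card_of_injective (fun c : normalizerIn T Q' =>
      (⟨ψ ⟨c, hT' c.2⟩, ?_, (hψN _).2⟩ : normalizerIn T Q)) ?_
    · exact hT.2 (normalizerIn T Q') (normalizerIn_le T Q') _ (restrict_mem hψ hT') c
    · intro a b hab
      have := F.injective_of_mem hψ (congrArg Subtype.val hab)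
      exact Subtype.ext (congrArg (fun z : normalizerIn S Q' => (z : Ω)) this)

end Cfsg.Agent.S5341
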