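import Cfsg.Statements.S5342
import Cfsg.Agent.Lib.Fusion.Constrained


set_option autoImplicit false
open Cfsg Cfsg.FusionSystem Cfsg.Agent.Fusion

namespace Cfsg.Agent.S5342

theorem key {Ω : Type*} [Group Ω] {T : Subgroup Ω} {E : Cfsg.FusionSystem T} {S : Subgroup Ω}
    {F : Cfsg.FusionSystem S} {p : ℕ} (hE : E.IsSubnormalIn F p) : ∀ [Finite S] [Fact p.Prime],
    IsPGroup p S → F.IsConstrained p → E.IsConstrained p := by
  induction hE with
  | refl => intro _ _ _ hF; exact hF
  | step _ hD ih =>
    intro _ _ hS hF
    obtain ⟨⟨hDs, -, hsub, hsc, -⟩, -⟩ := hD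
    have := finite_of_le hsc.1
    exact ih (hS.to_le hsc.1) (isConstrained_of_subsystem hS hF hsc _ hsub hDs)


/-- Let F be a constrained saturated fusion system over a finite p-group S. Then every subsystem of F that is subnormal in F (reached from F by a finite chain of successive normal subsystems) is constrained. -/
theorem result {Ω : Type*} [Group Ω] {S : Subgroup Ω} [Finite S] (p : ℕ) [Fact p.Prime] (hS : IsPGroup p S) (F : Cfsg.FusionSystem S) (hF : F.IsConstrained p) {T : Subgroup Ω} (E : Cfsg.FusionSystem T) (hE : E.IsSubnormalIn F p) : E.IsConstrained p := by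
  exact key hE hS hF

end Cfsg.Agent.S5342
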