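import Cfsg.Statements.S5344
import Cfsg.Agent.Lib.Transpos.S4

set_option autoImplicit false
open Cfsg

namespace Cfsg.Agent.S5344

/-- In a set of 3-transpositions, let a, b, c be members with a and c different and commuting, while neither a nor c commutes with b (a 3-string). Then there is an injective homomorphism from the symmetric group of degree 4 into the ambient group sending the transpositions (0 1), (1 2), (2 3) to a, b, c; so a, b, c generate a copy of the symmetric group of degree 4 in which they are transpositions. -/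
theorem result {G : Type*} [Group G] {D : Set G} (hD : Cfsg.IsThreeTranspositionSet D) {a b c : G} (ha : a ∈ D) (hb : b ∈ D) (hc : c ∈ D) (hac : a ≠ c) (hac' : Commute a c) (hab : ¬ Commute a b) (hbc : ¬ Commute b c) : ∃ φ : Equiv.Perm (Fin 4) →* G, Function.Injective φ ∧ φ (Equiv.swap 0 1) = a ∧ φ (Equiv.swap 1 2) = b ∧ φ (Equiv.swap 2 3) = c := by
  obtain ⟨hord, h3⟩ := hD
  have hsq : ∀ d ∈ D, d * d = 1 := fun d hd => by
    have := pow_orderOf_eq_one d; rwa [hord d hd, sq] at this
  have hp : ∀ x ∈ D, ∀ y ∈ D, ¬ Commute x y → (x * y) ^ 3 = 1 := fun x hx y hy hn => by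
    refine (h3 x hx y hy).resolve_left fun h => hn ?_
    rw [sq] at h
    have := inv_eq_of_mul_eq_one_right h
    rw [mul_inv_rev, inv_eq_of_mul_eq_one_right (hsq x hx), inv_eq_of_mul_eq_one_right (hsq y hy)] at this
    exact this.symm
  have hR : Cfsg.Agent.Transpos.S4Rel a b c := ⟨hsq a ha, hsq b hb, hsq c hc,
    Cfsg.Agent.Transpos.braid_of_pow_three (hsq a ha) (hsq b hb) (hp a ha b hb hab),
    Cfsg.Agent.Transpos.braid_of_pow_three (hsq b hb) (hsq c hc) (hp b hb c hc hbc),
    hac'.symm.eq⟩
  exact ⟨Cfsg.Agent.Transpos.s4Hom hR, Cfsg.Agent.Transpos.s4Hom_injective hR hac,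
    Cfsg.Agent.Transpos.s4Hom_gen hR 0, Cfsg.Agent.Transpos.s4Hom_gen hR 1,
    Cfsg.Agent.Transpos.s4Hom_gen hR 2⟩

end Cfsg.Agent.S5344
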