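import Cfsg.Statements.S5345


set_option autoImplicit false
open Cfsg

namespace Cfsg.Agent.S5345

/-- Let D be a conjugation-invariant generating set of 3-transpositions of a finite group G and T a Sylow 2-subgroup of G. Then the members of D lying in T generate an abelian subgroup, and their number is the width of D (the largest number of pairwise commuting members of D). -/
theorem result {G : Type*} [Group G] [Finite G] {D : Set G} (hD : Cfsg.IsThreeTranspositionGroup D) (T : Sylow 2 G) : IsMulCommutative (Subgroup.closure {d : G | d ∈ D ∧ d ∈ T}) ∧ {d : G | d ∈ D ∧ d ∈ T}.ncard = Cfsg.commutingWidth D := by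
  obtain ⟨⟨hord, h3⟩, hconj, -⟩ := hD
  have hcomm : ∀ a ∈ {d : G | d ∈ D ∧ d ∈ T}, ∀ b ∈ {d : G | d ∈ D ∧ d ∈ T}, a * b = b * a := by
    rintro a ⟨ha, haT⟩ b ⟨hb, hbT⟩
    have hinv : ∀ c ∈ D, c⁻¹ = c := fun c hc => inv_eq_of_mul_eq_one_right
      (by have := pow_orderOf_eq_one c; rwa [hord c hc, sq] at this)
    have key : (a * b) ^ 2 = 1 → a * b = b * a := by
      intro h
      rw [sq] at h
      have := inv_eq_of_mul_eq_one_right h
      rw [mul_inv_rev, hinv a ha, hinv b hb] at this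
      exact this.symm
    rcases h3 a ha b hb with h | h
    · exact key h
    · obtain ⟨k, hk⟩ := T.isPGroup' ⟨a * b, T.mul_mem haT hbT⟩
      have hk' : (a * b) ^ 2 ^ k = 1 := congrArg Subtype.val hk
      have := (pow_gcd_eq_one (a := a * b) (m := 2 ^ k) (n := 3)).2 ⟨hk', h⟩
      rw [(Nat.Coprime.pow_left k (by norm_num : Nat.Coprime 2 3)), pow_one] at this
      exact key (by rw [this, one_pow])
  refine ⟨Subgroup.isMulCommutative_closure hcomm, ?_⟩
  set U : Set G := {d : G | d ∈ D ∧ d ∈ T} with hU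
  have hmem : U.ncard ∈ {n : ℕ | ∃ E : Set G, E ⊆ D ∧ E.Finite ∧ (∀ a ∈ E, ∀ b ∈ E, Commute a b) ∧ E.ncard = n} :=
    ⟨U, fun _ h => h.1, Set.toFinite _, hcomm, rfl⟩
  have hub : ∀ n ∈ {n : ℕ | ∃ E : Set G, E ⊆ D ∧ E.Finite ∧ (∀ a ∈ E, ∀ b ∈ E, Commute a b) ∧ E.ncard = n}, n ≤ U.ncard := by
    rintro n ⟨E, hED, -, hEc, rfl⟩
    haveI := Subgroup.isMulCommutative_closure (k := E) (fun a ha b hb => hEc a ha b hb)
    have hE2 : IsPGroup 2 (Subgroup.closure E) := by
      intro z
      refine ⟨1, Subtype.ext ?_⟩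
      obtain ⟨z, hz⟩ := z
      show z ^ 2 ^ 1 = 1
      induction hz using Subgroup.closure_induction with
      | mem a ha => rw [pow_one, ← hord a (hED ha)]; exact pow_orderOf_eq_one a
      | one => exact one_pow _
      | mul a b ha hb ha' hb' =>
        have hab : Commute a b := congrArg Subtype.val ((inferInstance : IsMulCommutative (Subgroup.closure E)).is_comm.comm (⟨a, ha⟩ : Subgroup.closure E) ⟨b, hb⟩)
        rw [hab.mul_pow, ha', hb', one_mul]
      | inv a _ ha' => rw [inv_pow, ha', inv_one]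
    obtain ⟨Q, hQ⟩ := hE2.exists_le_sylow
    obtain ⟨g, rfl⟩ := MulAction.exists_smul_eq G T Q
    refine Set.ncard_le_ncard_of_injOn (fun e => g⁻¹ * e * g) (fun e he => ?_) (fun a _ b _ h => ?_) (Set.toFinite _)
    · obtain ⟨t, ht, rfl⟩ := hQ (Subgroup.subset_closure he)
      refine ⟨?_, ?_⟩
      · have := hconj g⁻¹ _ (hED he)
        simpa using this
      · have ht' : t ∈ T := ht
        simpa [mul_assoc] using ht'
    · exact mul_left_cancel (mul_right_cancel h)
  exact (le_antisymm (csSup_le ⟨_, hmem⟩ hub) (le_csSup ⟨_, hub⟩ hmem)).symm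

end Cfsg.Agent.S5345
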