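import Cfsg.Statements.S5346
import Cfsg.Agent.Lib.Fischer.Cores

set_option autoImplicit false
open Cfsg

namespace Cfsg.Agent.S5346

open Cfsg.Agent.Fischer

theorem width_eq_one_iff {G : Type*} [Group G] [Finite G] {D : Set G} (hne : D.Nonempty) :
    Cfsg.commutingWidth D = 1 ↔ ∀ a ∈ D, ∀ b ∈ D, Commute a b → a = b := by
  set S := {n : ℕ | ∃ E : Set G, E ⊆ D ∧ E.Finite ∧ (∀ a ∈ E, ∀ b ∈ E, Commute a b) ∧ E.ncard = n}
  have hbdd : BddAbove S := ⟨Nat.card G, by
    rintro _ ⟨E, -, -, -, rfl⟩; exact Set.ncard_le_card E⟩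
  constructor
  · intro h a ha b hb hab
    by_contra hne'
    have h2 : 2 ∈ S := ⟨{a, b}, by rintro v (rfl | rfl) <;> assumption, Set.toFinite _, by
      rintro v (rfl | rfl) u (rfl | rfl)
      exacts [Commute.refl _, hab, hab.symm, Commute.refl _], Set.ncard_pair hne'⟩
    have := le_csSup hbdd h2
    rw [show sSup S = 1 from h] at this
    omega
  · intro h
    obtain ⟨d, hd⟩ := hne
    refine le_antisymm (csSup_le' ?_) (le_csSup hbdd ⟨{d}, by simpa using hd, Set.toFinite _,
      by simp, Set.ncard_singleton d⟩)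
    rintro _ ⟨E, hE, hEf, hc, rfl⟩
    exact (Set.ncard_le_one hEf).2 fun a ha b hb => h a (hE ha) b (hE hb) (hc a ha b hb)

/-- Let D be a conjugation-invariant generating set of 3-transpositions of a finite group G and d a member of D. Then D has width 1 (no two different members of D commute) if and only if G is the product of the subgroup generated by d with the largest normal 3-subgroup of G. -/
theorem result {G : Type*} [Group G] [Finite G] {D : Set G} (hD : Cfsg.IsThreeTranspositionGroup D) {d : G} (hd : d ∈ D) : Cfsg.commutingWidth D = 1 ↔ Subgroup.zpowers d ⊔ Cfsg.pCore 3 G = ⊤ := by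
  have hT : TSet D := TSet.ofSet hD.1 hD.2.1
  rw [width_eq_one_iff ⟨d, hd⟩]
  constructor
  · intro h
    have hC := hT.tClass_of_width_one hD.2.2 ⟨d, hd⟩ h
    rw [eq_top_iff, ← hD.2.2, Subgroup.closure_le]
    intro e he
    have hN : (pairGrp D).Normal := by
      refine ⟨fun n hn g => ?_⟩
      unfold pairGrp at hn ⊢
      induction hn using Subgroup.closure_induction with
      | mem z hz =>
        obtain ⟨a, ha, b, hb, rfl⟩ := hz
        exact Subgroup.subset_closure
          ⟨_, hT.conj g a ha, _, hT.conj g b hb, by simp [mul_assoc]⟩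
      | one => simp
      | mul y z _ _ h1 h2 => rw [← conj_mul]; exact mul_mem h1 h2
      | inv y _ h1 => rw [← conj_inv]; exact inv_mem h1
    have h3 := PCore.le_pCore (hC.pairGrp_isPGroup_of_width_one h) (mul_mem_pairGrp hd he)
    rw [show e = d * (d * e) from (invol_cancel (hT.sq d hd) e).symm]
    exact Subgroup.mul_mem_sup (Subgroup.mem_zpowers d) h3
  · intro htop
    have h3 : IsPGroup 3 ↥(Cfsg.pCore 3 G) := PCore.isPGroup_pCore
    have hcoset : ∀ e ∈ D, d * e ∈ Cfsg.pCore 3 G := by
      intro e he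
      have hmem : e ∈ Subgroup.zpowers d ⊔ Cfsg.pCore 3 G := htop ▸ Subgroup.mem_top e
      obtain ⟨y, hy, z, hz, rfl⟩ := Subgroup.mem_sup_of_normal_right.1 hmem
      obtain ⟨i, rfl⟩ := hy
      rcases Int.even_or_odd i with ⟨k, rfl⟩ | ⟨k, rfl⟩
      · exfalso
        have hpow : d ^ (k + k) = 1 := by
          rw [← two_mul, zpow_mul, show d ^ (2 : ℤ) = d * d from zpow_two d, hT.sq d hd, one_zpow]
        simp only [hpow, one_mul] at he
        exact hT.ne_one z he (eq_one_of_pow_of_isPGroup h3 hz (n := 2) (by norm_num)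
          (by rw [pow_two]; exact hT.sq z he))
      · have hpow : d ^ (2 * k + 1) = d := by
          rw [zpow_add, zpow_mul, show d ^ (2 : ℤ) = d * d from zpow_two d, hT.sq d hd, one_zpow,
            one_mul, zpow_one]
        simp only [hpow]
        rwa [invol_cancel (hT.sq d hd)]
    intro a ha b hb hab
    have hm : a * b ∈ Cfsg.pCore 3 G := by
      have := mul_mem (inv_mem (hcoset a ha)) (hcoset b hb)
      rwa [mul_inv_rev, hT.inv_eq ha, hT.inv_eq hd, mul_assoc, invol_cancel (hT.sq d hd)] at this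
    have := eq_one_of_pow_of_isPGroup h3 hm (n := 2) (by norm_num)
      (by rw [hab.mul_pow, pow_two, pow_two, hT.sq a ha, hT.sq b hb, one_mul])
    rwa [mul_eq_one_iff_eq_inv, hT.inv_eq hb] at this

end Cfsg.Agent.S5346
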