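import Cfsg.Statements.S5347


set_option autoImplicit false
open Cfsg

namespace Cfsg.Agent.S5347

/-- Let D be a conjugation-invariant generating set of 3-transpositions of a finite group G, p a prime bigger than 3, and P a p-subgroup of G. If a member d of D normalizes P then d centralizes P. -/
theorem result {G : Type*} [Group G] [Finite G] {D : Set G} (hD : Cfsg.IsThreeTranspositionGroup D) {p : ℕ} (hp : p.Prime) (hp3 : 3 < p) (P : Subgroup G) (hP : IsPGroup p P) {d : G} (hd : d ∈ D) (hnorm : d ∈ Subgroup.normalizer (P : Set G)) : ∀ x ∈ P, Commute d x := by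
  obtain ⟨⟨hord, h3⟩, hconj, -⟩ := hD
  intro x hx
  haveI := Fact.mk hp
  have hd2 : d * d = 1 := by have := pow_orderOf_eq_one d; rwa [hord d hd, sq] at this
  set y : G := d * (x * d * x⁻¹) with hy
  have hdinv : d⁻¹ = d := inv_eq_of_mul_eq_one_right hd2
  have hyP : y ∈ P := by
    have h1 := ((Subgroup.mem_normalizer_iff).1 hnorm x).1 hx
    have h2 := P.mul_mem h1 (P.inv_mem hx)
    rw [hdinv] at h2
    simpa [hy, mul_assoc] using h2
  have hy1 : y = 1 := by
    obtain ⟨k, hk⟩ := hP ⟨y, hyP⟩
    have hk' : y ^ p ^ k = 1 := congrArg Subtype.val hk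
    rcases h3 d hd (x * d * x⁻¹) (hconj x d hd) with h | h
    · have hc : Nat.Coprime (p ^ k) 2 := Nat.Coprime.pow_left k ((Nat.coprime_primes hp Nat.prime_two).2 (by omega))
      have := (pow_gcd_eq_one (a := y) (m := p ^ k) (n := 2)).2 ⟨hk', h⟩
      rwa [hc, pow_one] at this
    · have hc : Nat.Coprime (p ^ k) 3 := Nat.Coprime.pow_left k ((Nat.coprime_primes hp Nat.prime_three).2 (by omega))
      have := (pow_gcd_eq_one (a := y) (m := p ^ k) (n := 3)).2 ⟨hk', h⟩
      rwa [hc, pow_one] at this
  have h1 : x * d * x⁻¹ = d := by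
    rw [hy] at hy1
    have := eq_inv_of_mul_eq_one_right hy1
    rw [hdinv] at this
    exact this
  exact (mul_inv_eq_iff_eq_mul.1 h1).symm

end Cfsg.Agent.S5347
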