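import Cfsg.Statements.S5349
import Cfsg.Agent.Lib.Fischer.Cores

set_option autoImplicit false
open Cfsg

namespace Cfsg.Agent.S5349

open Cfsg.Agent.Fischer

/-- Let D be a conjugacy class of 3-transpositions generating the finite group G, with at least two members, and d a member of D. Then the set of members of D commuting with exactly the same members of D as d coincides with the set of members of D lying in the coset of d modulo the largest normal 2-subgroup of G, and also with the orbit of d under conjugation by that normal 2-subgroup. -/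
theorem result {G : Type*} [Group G] [Finite G] {D : Set G} (hD : Cfsg.IsThreeTranspositionClass D) (hD2 : ∃ a ∈ D, ∃ b ∈ D, a ≠ b) {d : G} (hd : d ∈ D) : {v : G | v ∈ D ∧ ∀ e ∈ D, Commute v e ↔ Commute d e} = {v : G | v ∈ D ∧ d⁻¹ * v ∈ Cfsg.pCore 2 G} ∧ {v : G | v ∈ D ∧ ∀ e ∈ D, Commute v e ↔ Commute d e} = {v : G | ∃ g ∈ Cfsg.pCore 2 G, v = g * d * g⁻¹} := by
  have hT := TClass.of hD
  have h1 : {v : G | v ∈ D ∧ ∀ e ∈ D, Commute v e ↔ Commute d e}
      = {v : G | v ∈ D ∧ d⁻¹ * v ∈ Cfsg.pCore 2 G} := by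
    rw [hT.toTSet.inv_eq hd]
    ext v
    exact and_congr_right fun hv => ⟨fun h => mul_mem_pCore_two hT hd hv (sameComm_eq_iff.2 h),
      fun h => sameComm_eq_iff.1 (sameComm_eq_of_mul_mem hT.toTSet hd hv h)⟩
  refine ⟨h1, Set.Subset.antisymm ?_ ?_⟩
  · rintro v ⟨hv, hcomm⟩
    obtain ⟨z, hz, hzd⟩ := exists_not_commute hT hD2 hd
    exact exists_conj_pCore_two hT.toTSet hd hv hz
      (mul_mem_pCore_two hT hd hv (sameComm_eq_iff.2 hcomm))
      ((hcomm d hd).2 (Commute.refl d)).symm hzd fun h => hzd ((hcomm z hz).1 h.symm).symm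
  · rintro _ ⟨g, hg, rfl⟩
    rw [h1]
    refine ⟨hT.conj g d hd, ?_⟩
    rw [show d⁻¹ * (g * d * g⁻¹) = (d⁻¹ * g * d⁻¹⁻¹) * g⁻¹ by simp [mul_assoc]]
    exact mul_mem (PCore.pCore_normal.conj_mem g hg d⁻¹) (inv_mem hg)

end Cfsg.Agent.S5349
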