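import Cfsg.Statements.S5350
import Cfsg.Agent.Lib.Fischer.Cores

set_option autoImplicit false
open Cfsg

namespace Cfsg.Agent.S5350

open Cfsg.Agent.Fischer

/-- Let D be a conjugacy class of 3-transpositions generating the finite group G, with at least two members, and d a member of D. Then the set of members w of D whose commuting partners in D (other than w) are exactly those of d (other than d) coincides with the set of members of D lying in the coset of d modulo the largest normal 3-subgroup of G, and also with the orbit of d under conjugation by that normal 3-subgroup. -/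
theorem result {G : Type*} [Group G] [Finite G] {D : Set G} (hD : Cfsg.IsThreeTranspositionClass D) (hD2 : ∃ a ∈ D, ∃ b ∈ D, a ≠ b) {d : G} (hd : d ∈ D) : {w : G | w ∈ D ∧ {y : G | y ∈ D ∧ y ≠ d ∧ Commute d y} = {y : G | y ∈ D ∧ y ≠ w ∧ Commute w y}} = {w : G | w ∈ D ∧ d⁻¹ * w ∈ Cfsg.pCore 3 G} ∧ {w : G | w ∈ D ∧ {y : G | y ∈ D ∧ y ≠ d ∧ Commute d y} = {y : G | y ∈ D ∧ y ≠ w ∧ Commute w y}} = {w : G | ∃ g ∈ Cfsg.pCore 3 G, w = g * d * g⁻¹} := by
  have hT := TClass.of hD
  have _ := hD2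
  show {w : G | w ∈ D ∧ perp D d = perp D w} = _ ∧ {w : G | w ∈ D ∧ perp D d = perp D w} = _
  have h1 : {w : G | w ∈ D ∧ perp D d = perp D w}
      = {w : G | w ∈ D ∧ d⁻¹ * w ∈ Cfsg.pCore 3 G} := by
    rw [hT.toTSet.inv_eq hd]
    ext w
    exact and_congr_right fun hw => ⟨fun h => mul_mem_pCore_three hT hd hw h.symm,
      fun h => perp_eq_of_mul_mem hT.toTSet hd hw h⟩
  refine ⟨h1, Set.Subset.antisymm ?_ ?_⟩
  · rintro w ⟨hw, he⟩
    by_cases hwd : w = d
    · exact ⟨1, one_mem _, by simp [hwd]⟩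
    · refine ⟨d * w, mul_mem_pCore_three hT hd hw he.symm,
        (hT.toTSet.conj_mul_eq hd hw fun h => ?_).symm⟩
      have : w ∈ perp D d := ⟨hw, hwd, h⟩
      rw [he] at this
      exact this.2.1 rfl
  · rintro _ ⟨g, hg, rfl⟩
    rw [h1]
    refine ⟨hT.conj g d hd, ?_⟩
    rw [show d⁻¹ * (g * d * g⁻¹) = (d⁻¹ * g * d⁻¹⁻¹) * g⁻¹ by simp [mul_assoc]]
    exact mul_mem (PCore.pCore_normal.conj_mem g hg d⁻¹) (inv_mem hg)

end Cfsg.Agent.S5350
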