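import Cfsg.Statements.S5351
import Cfsg.Agent.Lib.Fischer.Structure

set_option autoImplicit false
open Cfsg

namespace Cfsg.Agent.S5351

open Cfsg.Agent.Fischer

/-- Statement S5351: the three cases for the generalized Fitting subgroup. -/
theorem result {G : Type*} [Group G] [Finite G] {D : Set G} (hD : Cfsg.IsThreeTranspositionClass D) (hD2 : ∃ a ∈ D, ∃ b ∈ D, a ≠ b) : (∀ p : ℕ, p.Prime → 3 < p → Cfsg.pCore p G ≤ Subgroup.center G) ∧ ((¬ Cfsg.pCore 2 G ≤ Subgroup.center G ∧ Cfsg.pCore 3 G ≤ Subgroup.center G ∧ Cfsg.layer G = ⊥) ∨ (Cfsg.pCore 2 G ≤ Subgroup.center G ∧ ¬ Cfsg.pCore 3 G ≤ Subgroup.center G ∧ Cfsg.layer G = ⊥) ∨ (Cfsg.pCore 2 G ≤ Subgroup.center G ∧ Cfsg.pCore 3 G ≤ Subgroup.center G ∧ Cfsg.layer G ≠ ⊥)) := by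
  have hT := TClass.of hD
  refine ⟨fun p hp hp3 => pCore_le_center_of_gt_three hT hp hp3, ?_⟩
  by_cases h2 : Cfsg.pCore 2 G ≤ Subgroup.center G
  · by_cases h3 : Cfsg.pCore 3 G ≤ Subgroup.center G
    · exact Or.inr (Or.inr ⟨h2, h3, layer_ne_bot hT hD2 h2 h3⟩)
    · exact Or.inr (Or.inl ⟨h2, h3, layer_eq_bot_of_three hT h3⟩)
  · refine Or.inl ⟨h2, ?_, layer_eq_bot_of_two hT h2⟩
    by_contra h3
    obtain ⟨d, hd⟩ := hT.nonempty
    obtain ⟨u, hu, hdu⟩ := exists_not_commute_of_not_le_center hT h2 hd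
    obtain ⟨t, ht, hdt⟩ := exists_not_commute_of_not_le_center hT h3 hd
    have hcoset : ∀ {N : Subgroup G}, N.Normal → ∀ g ∈ N, d * (g * d * g⁻¹) ∈ N := by
      intro N hN g hg
      rw [show d * (g * d * g⁻¹) = (d * g * d⁻¹) * g⁻¹ by rw [hT.toTSet.inv_eq hd]; group]
      exact mul_mem (hN.conj_mem g hg d) (inv_mem hg)
    have hv := hT.conj u d hd
    have hw := hT.conj t d hd
    have e2 := sameComm_eq_of_mul_mem hT.toTSet hd hv (hcoset PCore.pCore_normal u hu)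
    have e3 := perp_eq_of_mul_mem hT.toTSet hd hw (hcoset PCore.pCore_normal t ht)
    have hne : ∀ {g : G}, ¬Commute d g → g * d * g⁻¹ ≠ d := fun hg e =>
      hg (mul_inv_eq_iff_eq_mul.1 e).symm
    have hdv : Commute d (u * d * u⁻¹) := ((sameComm_eq_iff.1 e2 d hd).2 (Commute.refl d)).symm
    have h1 : u * d * u⁻¹ ∈ perp D (t * d * t⁻¹) := e3 ▸ ⟨hv, hne hdu, hdv⟩
    have hdw : Commute d (t * d * t⁻¹) := (sameComm_eq_iff.1 e2 _ hw).1 h1.2.2.symm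
    have h2' : t * d * t⁻¹ ∈ perp D (t * d * t⁻¹) := e3 ▸ ⟨hw, hne hdt, hdw⟩
    exact h2'.2.1 rfl

end Cfsg.Agent.S5351
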