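import Cfsg.Statements.S5352
import Cfsg.Agent.Lib.Fischer.Structure

set_option autoImplicit false
open Cfsg

namespace Cfsg.Agent.S5352

open Cfsg.Agent.Fischer

/-- Statement S5352: with central cores there is a quasisimple normal subgroup. -/
theorem result {G : Type*} [Group G] [Finite G] {D : Set G} (hD : Cfsg.IsThreeTranspositionClass D) (hD2 : ∃ a ∈ D, ∃ b ∈ D, a ≠ b) (h2 : Cfsg.pCore 2 G ≤ Subgroup.center G) (h3 : Cfsg.pCore 3 G ≤ Subgroup.center G) : ∃ L : Subgroup G, L.Normal ∧ Cfsg.IsQuasisimple L ∧ Cfsg.generalizedFittingSubgroup G = L ⊔ Subgroup.center G ∧ (L = ⊤ ∨ ∀ a ∈ D, ∀ b ∈ D, a * b * a⁻¹ * b⁻¹ ∈ L → a⁻¹ * b ∈ L) := by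
  have hT := TClass.of hD
  obtain ⟨L, hLn, hL, hF⟩ := exists_normal_component hT hD2 h2 h3
  refine ⟨L, hLn, hL.2, hF, Or.inr fun a ha b hb h => ?_⟩
  rw [hT.toTSet.inv_eq ha]
  exact mul_mem_of_commutator_mem hT hL ha hb h

end Cfsg.Agent.S5352
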