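import Cfsg.Statements.S5354
import Cfsg.Agent.Lib.Fischer.Primitive

set_option autoImplicit false
open Cfsg

namespace Cfsg.Agent.S5354

open Cfsg.Agent.Fischer

/-- Statement S5354: primitive 3-transposition groups of width at least two. -/
theorem result {G : Type*} [Group G] [Finite G] {D : Set G} (hD : Cfsg.IsThreeTranspositionGroup D) (hprim : Cfsg.IsPrimitiveUnderConj D) (hw : ∃ a ∈ D, ∃ b ∈ D, a ≠ b ∧ Commute a b) : (∃ L : Subgroup G, L.Normal ∧ Cfsg.IsQuasisimple L ∧ L.index ≤ 2 ∧ Cfsg.generalizedFittingSubgroup G = L ⊔ Subgroup.center G) ∧ (Cfsg.commutingGraph D).Connected ∧ ∀ d ∈ D, Subgroup.closure {y : G | y ∈ D ∧ Commute d y} ≠ ⊤ ∧ ∀ H : Subgroup G, Cfsg.IsDSubgroup D H → Subgroup.closure {y : G | y ∈ D ∧ Commute d y} ≤ H → H = Subgroup.closure {y : G | y ∈ D ∧ Commute d y} ∨ H = ⊤ := by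
  have hT := TClass.of_primitive hD hprim
  have hTS := hT.toTSet
  have hD2 := hprim.2.1
  obtain ⟨h2, h3⟩ := cores_central hT hprim hw
  have hconn := connected_of_primitive hT hprim hw
  obtain ⟨L, hLn, hL, hF⟩ := exists_normal_component hT hD2 h2 h3
  refine ⟨⟨L, hLn, hL.2, index_le_two_of_connected hT hL hconn, hF⟩, hconn, fun d hd => ⟨?_, ?_⟩⟩
  · intro htop
    obtain ⟨z, hz, hzd⟩ := exists_not_commute hT hD2 hd
    have hle : Subgroup.closure {y : G | y ∈ D ∧ Commute d y} ≤ Subgroup.centralizer ({d} : Set G) :=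
      (Subgroup.closure_le _).2 fun y hy => Subgroup.mem_centralizer_singleton_iff.2 hy.2.symm.eq
    rw [htop] at hle
    exact hzd (Subgroup.mem_centralizer_singleton_iff.1 (hle (Subgroup.mem_top z)))
  intro H hH hle
  by_cases hex : ∃ c ∈ D, c ∈ H ∧ ¬Commute d c
  swap
  · left
    refine le_antisymm ?_ hle
    rw [← hH, Subgroup.closure_le]
    rintro y ⟨hy, hyH⟩
    refine Subgroup.subset_closure ⟨hy, ?_⟩
    by_contra h
    exact hex ⟨y, hy, hyH, h⟩
  right
  obtain ⟨c, hc, hcH, hdc⟩ := hex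
  have hdH : d ∈ H := hle (Subgroup.subset_closure ⟨hd, Commute.refl d⟩)
  have hperpH : Subgroup.closure (perp D d) ≤ H := le_trans
    (Subgroup.closure_mono fun y hy => show y ∈ D ∧ Commute d y from ⟨hy.1, hy.2.2⟩) hle
  let B : Set G := {v | ∃ h ∈ H, h * d * h⁻¹ = v}
  obtain ⟨b, hb, hcb⟩ : ∃ b ∈ perp D d, ¬Commute c b := by
    by_contra hcon
    push Not at hcon
    have hsub : perp D d ⊆ perp D c :=
      fun y hy => ⟨hy.1, fun e => hdc (e ▸ hy.2.2), hcon y hy⟩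
    have he := Set.eq_of_subset_of_ncard_le hsub
      (ncard_eq_of_equivariant hT (F := perp D) (fun g _ _ => conj_mem_perp hT g) hc hd).le
      (Set.toFinite _)
    exact hdc (eq_of_perp hT hD2 h3 hd hc he.symm ▸ Commute.refl d)
  have hbH : b ∈ H := hperpH (Subgroup.subset_closure hb)
  have hperpB : ∀ v ∈ perp D d, v ∈ B := by
    intro v hv
    obtain ⟨g, hg, hgv⟩ := perp_transitive_of_central hT hD2 h2 h3 hd hb hv
    refine ⟨g * ((c * b) * (d * c)), mul_mem (hperpH hg) (mul_mem (mul_mem hcH hbH) (mul_mem hdH hcH)), ?_⟩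
    calc g * (c * b * (d * c)) * d * (g * (c * b * (d * c)))⁻¹
        = g * ((c * b) * ((d * c) * d * (d * c)⁻¹) * (c * b)⁻¹) * g⁻¹ := by group
      _ = g * b * g⁻¹ := by rw [hTS.conj_mul_eq hd hc hdc, hTS.conj_mul_eq hc hb.1 hcb]
      _ = v := hgv
  have hclosed : ∀ v ∈ B, perp D v ⊆ B := by
    rintro _ ⟨h, hh, rfl⟩ w hw'
    rw [← conj_image_of_mem (F := perp D) (fun k _ _ => conj_mem_perp hT k)] at hw'
    obtain ⟨u, hu, rfl⟩ := hw'
    obtain ⟨k, hk, rfl⟩ := hperpB u hu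
    exact ⟨h * k, mul_mem hh hk, by simp [mul_assoc]⟩
  have key : ∀ v : D, (v : G) ∈ B := by
    intro v
    have h := (SimpleGraph.reachable_iff_reflTransGen (⟨d, hd⟩ : D) v).1 (hconn _ _)
    induction h with
    | refl => exact ⟨1, one_mem _, by simp⟩
    | tail _ hs ih =>
      rename_i p q _
      obtain ⟨hne, h | h⟩ := (SimpleGraph.fromRel_adj _ _ _).1 hs
      · exact hclosed _ ih ⟨q.2, fun e => hne (Subtype.ext e.symm), h⟩
      · exact hclosed _ ih ⟨q.2, fun e => hne (Subtype.ext e.symm), h.symm⟩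
  rw [eq_top_iff, ← hT.gen, Subgroup.closure_le]
  intro v hv
  obtain ⟨h, hh, e⟩ := key ⟨v, hv⟩
  rw [show v = h * d * h⁻¹ from e.symm]
  exact mul_mem (mul_mem hh hdH) (inv_mem hh)

end Cfsg.Agent.S5354
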