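import Cfsg.Statements.S5355
import Mathlib
import Cfsg.Agent.Lib.Transpos.Basic
import Cfsg.Agent.Lib.Transpos.S4

set_option autoImplicit false
open Cfsg

namespace Cfsg.Agent.S5355

open Cfsg.Agent

variable {G : Type*} [Group G] {D : Set G}

theorem commute_conj_iff (g x y : G) : Commute (g * x * g⁻¹) (g * y * g⁻¹) ↔ Commute x y := by
  constructor
  · intro h
    have := h.map (MulAut.conj g⁻¹).toMonoidHom
    simpa [mul_assoc] using this
  · intro h
    exact h.map (MulAut.conj g).toMonoidHom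

theorem commute_inv_conj (hD : IsThreeTranspositionSet D) {g : G} (hg : g ∈ D) (x y : G) :
    Commute (g * x * g) (g * y * g) ↔ Commute x y := by
  have := commute_conj_iff g x y
  rwa [Transpos.inv_eq hD hg] at this

theorem perm_facts :
    Equiv.swap (0 : Fin 4) 2 = Equiv.swap 1 2 * Equiv.swap 0 1 * Equiv.swap 1 2 ∧
    Equiv.swap (1 : Fin 4) 3 = Equiv.swap 2 3 * Equiv.swap 1 2 * Equiv.swap 2 3 ∧
    Equiv.swap (0 : Fin 4) 3 = Equiv.swap 0 1 * (Equiv.swap 2 3 * Equiv.swap 1 2 * Equiv.swap 2 3) * Equiv.swap 0 1 ∧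
    Equiv.swap (0 : Fin 4) 3 * Equiv.swap 1 2 = Equiv.swap 1 2 * Equiv.swap 0 3 ∧
    Equiv.swap (0 : Fin 4) 2 * Equiv.swap 1 3 = Equiv.swap 1 3 * Equiv.swap 0 2 ∧
    Equiv.swap (0 : Fin 4) 3 ≠ Equiv.swap 1 2 ∧ Equiv.swap (1 : Fin 4) 3 ≠ Equiv.swap 0 2 ∧
    (Equiv.swap (0 : Fin 4) 2 * Equiv.swap 1 3) =
      (Equiv.swap 0 1 * Equiv.swap 2 3) * (Equiv.swap 1 2 * Equiv.swap 0 3) ∧
    (Equiv.swap (0 : Fin 4) 1 * Equiv.swap 2 3) * (Equiv.swap 1 2 * Equiv.swap 0 3) =
      (Equiv.swap 1 2 * Equiv.swap 0 3) * (Equiv.swap 0 1 * Equiv.swap 2 3) := by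
  decide +kernel

/-- the data: every member has exactly one commuting partner -/
structure Paired (D : Set G) (pr : G → G) : Prop where
  set : IsThreeTranspositionSet D
  conj : ∀ g : G, ∀ x ∈ D, g * x * g⁻¹ ∈ D
  mem : ∀ x ∈ D, pr x ∈ D
  ne : ∀ x ∈ D, pr x ≠ x
  comm : ∀ x ∈ D, Commute x (pr x)
  uniq : ∀ x ∈ D, ∀ y ∈ D, Commute x y → y = x ∨ y = pr x

variable {pr : G → G}

theorem Paired.pr_pr (h : Paired D pr) {x : G} (hx : x ∈ D) : pr (pr x) = x := by
  rcases h.uniq _ (h.mem x hx) x hx (h.comm x hx).symm with e | e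
  · exact absurd e.symm (h.ne x hx)
  · exact e.symm

theorem Paired.not_commute_pr (h : Paired D pr) {x y : G} (hx : x ∈ D) (hy : y ∈ D) (hxy : ¬ Commute x y) :
    ¬ Commute (pr x) y := by
  intro hc
  rcases h.uniq _ (h.mem x hx) y hy hc with e | e
  · exact hxy (e ▸ h.comm x hx)
  · rw [h.pr_pr hx] at e; exact hxy (e ▸ Commute.refl x)

theorem Paired.conjMem (h : Paired D pr) {g x : G} (hg : g ∈ D) (hx : x ∈ D) : g * x * g ∈ D := by
  have := h.conj g x hx
  rwa [Transpos.inv_eq h.set hg] at this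

theorem Paired.rel (h : Paired D pr) {x y : G} (hx : x ∈ D) (hy : y ∈ D) (hxy : ¬ Commute x y) :
    Transpos.S4Rel x y (pr x) :=
  ⟨Transpos.sq_one h.set hx, Transpos.sq_one h.set hy, Transpos.sq_one h.set (h.mem x hx),
    (Transpos.braid h.set hx hy hxy).symm,
    Transpos.braid h.set (h.mem x hx) hy (h.not_commute_pr hx hy hxy),
    (h.comm x hx).symm.eq⟩

theorem Paired.hom_values (h : Paired D pr) {x y : G} (hx : x ∈ D) (hy : y ∈ D) (hxy : ¬ Commute x y) :
    let φ := Transpos.s4Hom (h.rel hx hy hxy)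
    φ (Equiv.swap 0 1) = x ∧ φ (Equiv.swap 1 2) = y ∧ φ (Equiv.swap 2 3) = pr x ∧
      φ (Equiv.swap 0 3) = pr y ∧ φ (Equiv.swap 0 2) = y * x * y ∧ φ (Equiv.swap 1 3) = pr (y * x * y) := by
  intro φ
  obtain ⟨p02, p13, p03, c03, c02, n03, n13, -, -⟩ := perm_facts
  have hinj : Function.Injective φ := Transpos.s4Hom_injective _ (h.ne x hx).symm
  have g0 : φ (Equiv.swap 0 1) = x := Transpos.s4Hom_gen _ 0
  have g1 : φ (Equiv.swap 1 2) = y := Transpos.s4Hom_gen _ 1
  have g2 : φ (Equiv.swap 2 3) = pr x := Transpos.s4Hom_gen _ 2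
  have e02 : φ (Equiv.swap 0 2) = y * x * y := by rw [p02, map_mul, map_mul, g0, g1]
  have e13 : φ (Equiv.swap 1 3) = pr x * y * pr x := by rw [p13, map_mul, map_mul, g1, g2]
  have e03 : φ (Equiv.swap 0 3) = x * (pr x * y * pr x) * x := by rw [p03, map_mul, map_mul, ← p13, e13, g0]
  have m13 : φ (Equiv.swap 1 3) ∈ D := e13 ▸ h.conjMem (h.mem x hx) hy
  have m02 : φ (Equiv.swap 0 2) ∈ D := e02 ▸ h.conjMem hy hx
  have m03 : φ (Equiv.swap 0 3) ∈ D := e03 ▸ h.conjMem hx (h.conjMem (h.mem x hx) hy)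
  refine ⟨g0, g1, g2, ?_, e02, ?_⟩
  · have hc : Commute y (φ (Equiv.swap 0 3)) := by
      rw [← g1]; exact ((show Commute (Equiv.swap (1 : Fin 4) 2) (Equiv.swap 0 3) from c03.symm)).map φ
    exact (h.uniq y hy _ m03 hc).resolve_left fun e => n03 (hinj (e.trans g1.symm))
  · have hc : Commute (φ (Equiv.swap 0 2)) (φ (Equiv.swap 1 3)) :=
      (show Commute (Equiv.swap (0 : Fin 4) 2) (Equiv.swap 1 3) from c02).map φ
    rw [← e02]
    exact (h.uniq _ m02 _ m13 hc).resolve_left fun e => n13 (hinj e)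

/-- the four-group element of a pair -/
def vv (pr : G → G) (x : G) : G := x * pr x

theorem Paired.vv_ne (h : Paired D pr) {x : G} (hx : x ∈ D) : vv pr x ≠ 1 := fun e =>
  h.ne x hx ((eq_inv_of_mul_eq_one_right e).trans (Transpos.inv_eq h.set hx))

theorem Paired.vv_sq (h : Paired D pr) {x : G} (hx : x ∈ D) : vv pr x * vv pr x = 1 := by
  rw [← pow_two]
  exact (Transpos.commute_iff_sq h.set hx (h.mem x hx)).1 (h.comm x hx)

theorem Paired.vv_third (h : Paired D pr) {x y : G} (hx : x ∈ D) (hy : y ∈ D) (hxy : ¬ Commute x y) :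
    vv pr (y * x * y) = vv pr x * vv pr y ∧ Commute (vv pr x) (vv pr y) := by
  obtain ⟨φ, g0, g1, g2, g3, g4, g5⟩ : ∃ φ : Equiv.Perm (Fin 4) →* G,
      φ (Equiv.swap 0 1) = x ∧ φ (Equiv.swap 1 2) = y ∧ φ (Equiv.swap 2 3) = pr x ∧
      φ (Equiv.swap 0 3) = pr y ∧ φ (Equiv.swap 0 2) = y * x * y ∧ φ (Equiv.swap 1 3) = pr (y * x * y) :=
    ⟨_, h.hom_values hx hy hxy⟩
  obtain ⟨-, -, -, -, -, -, -, hprod, hcomm⟩ := perm_facts
  constructor
  · rw [vv, vv, vv, ← g5, ← g4, ← g3, ← g2, ← map_mul, hprod, map_mul, map_mul, map_mul, g0, g1]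
  · have := congrArg φ hcomm
    simp only [map_mul, g0, g1, g2, g3] at this
    exact this

theorem Paired.no_plane (h : Paired D pr) {a b c : G} (ha : a ∈ D) (hb : b ∈ D) (hc : c ∈ D)
    (hab : ¬ Commute a b) (hac : ¬ Commute a c) (hbc : ¬ Commute b c) (habac : ¬ Commute (a * b * a) c) :
    False := by
  have hD := h.set
  have cc := fun {g : G} (hg : g ∈ D) => commute_inv_conj hD hg
  have ia := Transpos.conj_involutive hD ha
  have ib := Transpos.conj_involutive hD hb
  have ic := Transpos.conj_involutive hD hc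
  have sa := Transpos.sq_one hD ha
  have bab := Transpos.braid hD ha hb hab
  have aca := Transpos.braid hD ha hc hac
  have hb' : a * b * a ∈ D := h.conjMem ha hb
  have hc' : a * c * a ∈ D := h.conjMem ha hc
  have baca : ¬ Commute b (a * c * a) := fun e => habac (by
    have := (cc ha b (a * c * a)).2 e
    rwa [ia] at this)
  have br1 : a * b * a * c * (a * b * a) = c * (a * b * a) * c := Transpos.braid hD hb' hc habac
  have br2 : b * (a * c * a) * b = a * c * a * b * (a * c * a) := Transpos.braid hD hb hc' baca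
  have k1 : a * (b * (a * c * a) * b) * a = c * (a * b * a) * c := by
    have e : a * (a * c * a * b * (a * c * a)) * a = (a * a) * c * (a * b * a) * c * (a * a) := by group
    rw [br2, e, sa, one_mul, mul_one]
  have k2 : b * (a * (b * c * b) * a) * b = c * (a * b * a) * c := by
    have e : b * (a * (b * c * b) * a) * b = b * a * b * c * (b * a * b) := by group
    rw [e, ← bab, br1]
  -- the eight other points
  have m22 : b * c * b ∈ D := h.conjMem hb hc
  have m11 : a * (b * c * b) * a ∈ D := h.conjMem ha m22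
  have m12 : c * (a * b * a) * c ∈ D := h.conjMem hc hb'
  have m21 : b * (a * c * a) * b ∈ D := h.conjMem hb hc'
  have n22 : ¬ Commute (b * c * b) a := fun e => habac (by
    have := (cc hb (b * c * b) a).2 e
    rw [ib, ← bab] at this
    exact this.symm)
  have n21 : ¬ Commute (b * (a * c * a) * b) a := fun e => hbc (by
    have := (cc hb (b * (a * c * a) * b) a).2 e
    rw [ib, ← bab] at this
    exact ((cc ha c b).1 this).symm)
  have n1011 : ¬ Commute (a * (b * c * b) * a) b := fun e => hac (by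
    have := (cc ha (a * (b * c * b) * a) b).2 e
    rw [ia] at this
    have := (cc hb (b * c * b) (a * b * a)).2 this
    rw [ib, bab, ib] at this
    exact this.symm)
  have n2021 : ¬ Commute (b * (a * c * a) * b) (a * b * a) := fun e => hac (by
    have := (cc hb (b * (a * c * a) * b) (a * b * a)).2 e
    rw [ib, bab, ib] at this
    have := (cc ha (a * c * a) a).2 this
    rw [ia, sa, one_mul] at this
    exact this.symm)
  have r1 := h.vv_third hb ha (fun e => hab e.symm)
  have r2 := h.vv_third hc ha (fun e => hac e.symm)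
  have r3 := h.vv_third m22 ha n22
  have r4 := h.vv_third m21 ha n21
  have r5 := h.vv_third m11 hb n1011
  have r6 := h.vv_third m21 hb' n2021
  rw [k1] at r4
  rw [k2] at r5
  have e6 : a * b * a * (b * (a * c * a) * b) * (a * b * a) = b * c * b := by
    rw [bab]
    calc b * a * b * (b * (a * c * a) * b) * (b * a * b) = b * (a * (b * (b * (a * c * a) * b) * b) * a) * b := by group
      _ = b * c * b := by rw [ib, ia]
  rw [e6] at r6
  -- the relations in an elementary abelian group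
  set va := vv pr a
  set vb := vv pr b
  set vc := vv pr c
  set v22 := vv pr (b * c * b)
  set v21 := vv pr (b * (a * c * a) * b)
  set v11 := vv pr (a * (b * c * b) * a)
  set v20 := vv pr (a * b * a)
  set v12 := vv pr (c * (a * b * a) * c)
  -- v20 = vb va, v11 = v22 va, v12 = v21 va = v11 vb, v22 = v21 v20
  obtain ⟨e20, hba⟩ := r1
  obtain ⟨e11, h22a⟩ := r3
  obtain ⟨e12, h21a⟩ := r4
  obtain ⟨e12', -⟩ := r5
  obtain ⟨e22, -⟩ := r6
  have sva : va * va = 1 := h.vv_sq ha
  have svb : vb * vb = 1 := h.vv_sq hb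
  apply h.vv_ne ha
  show va = 1
  have key : v21 * va = v21 := by
    calc v21 * va = v11 * vb := by rw [← e12, e12']
      _ = v21 * (vb * va) * va * vb := by rw [e11, e22, e20]
      _ = v21 * vb * (va * va) * vb := by group
      _ = v21 * (vb * vb) := by rw [sva]; group
      _ = v21 := by rw [svb, mul_one]
  exact mul_eq_left.mp key

/-- Let D be a conjugacy class of 3-transpositions generating the finite group G, with at least two members, and d a member of D. Suppose that every member of D commuting with d commutes with exactly the same members of D as d does, and that exactly one member of D other than d commutes with d. Then G is isomorphic to the symmetric group of degree 4. -/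
theorem result {G : Type*} [Group G] [Finite G] {D : Set G} (hD : Cfsg.IsThreeTranspositionClass D) (hD2 : ∃ a ∈ D, ∃ b ∈ D, a ≠ b) {d : G} (hd : d ∈ D) (hV : {y : G | y ∈ D ∧ Commute d y} = {v : G | v ∈ D ∧ ∀ e ∈ D, Commute v e ↔ Commute d e}) (hm : {y : G | y ∈ D ∧ Commute d y}.ncard = 2) : Nonempty (G ≃* Equiv.Perm (Fin 4)) := by
  obtain ⟨hset, ⟨d0, -, hDeq⟩, hgen⟩ := hD
  have hconj : ∀ g : G, ∀ x ∈ D, g * x * g⁻¹ ∈ D := by
    intro g x hx
    rw [hDeq] at hx ⊢
    exact IsConj.trans hx (isConj_iff.2 ⟨g, rfl⟩)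
  have htrans : ∀ x ∈ D, ∃ g : G, g * d * g⁻¹ = x := fun x hx => by
    have h1 : IsConj d0 d := by rw [hDeq] at hd; exact hd
    have h2 : IsConj d0 x := by rw [hDeq] at hx; exact hx
    exact isConj_iff.1 (h1.symm.trans h2)
  have hne : ∃ e ∈ D, ¬ Commute d e := by
    by_contra hc
    push Not at hc
    have hcen : d ∈ Subgroup.center G := by
      have h1 : Subgroup.closure D ≤ Subgroup.centralizer {d} := (Subgroup.closure_le _).2 fun x hx =>
        Subgroup.mem_centralizer_singleton_iff.2 (hc x hx).symm.eq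
      rw [hgen] at h1
      exact Subgroup.mem_center_iff.2 fun g => Subgroup.mem_centralizer_singleton_iff.1 (h1 (Subgroup.mem_top g))
    obtain ⟨a, ha, b, hb, hab⟩ := hD2
    have one : ∀ x ∈ D, x = d := fun x hx => by
      obtain ⟨g, rfl⟩ := htrans x hx
      rw [Subgroup.mem_center_iff.1 hcen g, mul_inv_cancel_right]
    exact hab ((one a ha).trans (one b hb).symm)
  have hex : ∀ x ∈ D, ∃ y, y ∈ D ∧ y ≠ x ∧ Commute x y ∧ ∀ z ∈ D, Commute x z → z = x ∨ z = y := by
    intro x hx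
    obtain ⟨g, rfl⟩ := htrans x hx
    obtain ⟨p, q, hpq, e⟩ := Set.ncard_eq_two.mp hm
    have hall := Set.ext_iff.mp e
    simp only [Set.mem_ofPred_eq, Set.mem_insert_iff, Set.mem_singleton_iff] at hall
    obtain ⟨w, hw, hwd, hwc, hwu⟩ : ∃ w, w ∈ D ∧ w ≠ d ∧ Commute d w ∧ ∀ z ∈ D, Commute d z → z = d ∨ z = w := by
      rcases (hall d).1 ⟨hd, Commute.refl d⟩ with rfl | rfl
      · exact ⟨q, ((hall q).2 (Or.inr rfl)).1, hpq.symm, ((hall q).2 (Or.inr rfl)).2,
          fun z hz hc => (hall z).1 ⟨hz, hc⟩⟩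
      · exact ⟨p, ((hall p).2 (Or.inl rfl)).1, hpq, ((hall p).2 (Or.inl rfl)).2,
          fun z hz hc => ((hall z).1 ⟨hz, hc⟩).symm⟩
    refine ⟨g * w * g⁻¹, hconj g w hw, fun e => hwd (by simpa using e), (commute_conj_iff g d w).2 hwc,
      fun z hz hc => ?_⟩
    have hz' : g⁻¹ * z * g ∈ D := by simpa using hconj g⁻¹ z hz
    have e : z = g * (g⁻¹ * z * g) * g⁻¹ := by group
    rw [e] at hc ⊢
    exact (hwu _ hz' ((commute_conj_iff g _ _).1 hc)).imp (fun h => by rw [h]) (fun h => by rw [h])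
  classical
  let pr : G → G := fun x => if h : x ∈ D then (hex x h).choose else x
  have hpr : ∀ x ∈ D, pr x ∈ D ∧ pr x ≠ x ∧ Commute x (pr x) ∧ ∀ z ∈ D, Commute x z → z = x ∨ z = pr x :=
    fun x hx => by
      have e : pr x = (hex x hx).choose := dif_pos hx
      rw [e]; exact (hex x hx).choose_spec
  have h : Paired D pr := ⟨hset, hconj, fun x hx => (hpr x hx).1, fun x hx => (hpr x hx).2.1,
    fun x hx => (hpr x hx).2.2.1, fun x hx => (hpr x hx).2.2.2⟩
  obtain ⟨e, he, hde⟩ := hne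
  obtain ⟨g0, g1, g2, g3, g4, g5⟩ := h.hom_values hd he hde
  set φ := Transpos.s4Hom (h.rel hd he hde)
  have hsub : ∀ c ∈ D, c ∈ φ.range := by
    intro c hc
    by_cases h1 : Commute d c
    · rcases h.uniq d hd c hc h1 with rfl | rfl
      exacts [⟨_, g0⟩, ⟨_, g2⟩]
    by_cases h2 : Commute e c
    · rcases h.uniq e he c hc h2 with rfl | rfl
      exacts [⟨_, g1⟩, ⟨_, g3⟩]
    have hz := h.conjMem he hd
    by_cases h3 : Commute (e * d * e) c
    · rcases h.uniq _ hz c hc h3 with rfl | rfl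
      exacts [⟨_, g4⟩, ⟨_, g5⟩]
    refine (h.no_plane hd he hc hde h1 h2 ?_).elim
    rwa [Transpos.braid hset hd he hde]
  have hsurj : Function.Surjective φ := MonoidHom.range_eq_top.1 (top_unique (hgen ▸ (Subgroup.closure_le _).2 hsub))
  exact ⟨(MulEquiv.ofBijective φ ⟨Transpos.s4Hom_injective _ (h.ne d hd).symm, hsurj⟩).symm⟩

end Cfsg.Agent.S5355
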