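import Cfsg.Statements.S5356
import Mathlib
import Cfsg.Agent.Lib.PCore.Basic
import Cfsg.Agent.Lib.Fischer.Cores
import Cfsg.Agent.S5346
import Cfsg.Agent.S5349

set_option autoImplicit false
open Cfsg

namespace Cfsg.Agent.S5356

open Cfsg.Agent
open scoped Pointwise

universe u

section Step

variable {G : Type u} [Group G] [Finite G]

/-- an involution normalizing `P V` normalizes a conjugate of `P` when `P ∩ d P d` splits -/
theorem step {V P : Subgroup G} [V.Normal] (hVc : ∀ a ∈ V, ∀ b ∈ V, a * b = b * a)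
    (hV2 : ∀ a ∈ V, a * a = 1) (hodd : Odd (Nat.card P)) {d : G} (hd : d * d = 1)
    (hnorm : ∀ p ∈ P, ∃ q ∈ P, d * p * d * q⁻¹ ∈ V)
    (hfix : ∀ p ∈ P, d * p * d * p⁻¹ ∈ V → d * p = p * d) :
    ∃ u : G, ∀ p ∈ P, u⁻¹ * (d * (u * p * u⁻¹) * d) * u ∈ P := by
  classical
  have hdd : ∀ x : G, d * (d * x) = x := fun x => by rw [← mul_assoc, hd, one_mul]
  have hdi : d⁻¹ = d := inv_eq_of_mul_eq_one_right hd
  have hconjV : ∀ g : G, ∀ a ∈ V, g * a * g⁻¹ ∈ V := fun g a ha => (inferInstance : V.Normal).conj_mem a ha g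
  have hdV : ∀ a ∈ V, d * a * d ∈ V := fun a ha => by
    have := hconjV d a ha
    rwa [hdi] at this
  have hPV : ∀ a, a ∈ P → a ∈ V → a = 1 := fun a haP haV => by
    have h1 : orderOf a ∣ 2 := orderOf_dvd_of_pow_eq_one (by rw [pow_two]; exact hV2 a haV)
    have h2 : orderOf a ∣ Nat.card P := Subgroup.orderOf_dvd_natCard _ haP
    exact orderOf_eq_one_iff.1 (Nat.eq_one_of_dvd_coprimes (Nat.coprime_two_left.mpr hodd) h1 h2)
  choose σ hσP hσV using fun p : P => hnorm p.1 p.2
  have uniq : ∀ (p : P) (q : P), d * p.1 * d * (q : G)⁻¹ ∈ V → σ p = (q : G) := by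
    intro p q hq
    have h := hPV ((σ p) * (q : G)⁻¹) (mul_mem (hσP p) (inv_mem q.2)) (by
      have := mul_mem (inv_mem (hσV p)) hq
      simpa [mul_assoc] using this)
    exact mul_inv_eq_one.1 h
  let s : P → P := fun p => ⟨σ p, hσP p⟩
  let δ : P → V := fun p => ⟨_, hσV p⟩
  have hdec : ∀ p : P, d * p.1 * d = (δ p : G) * (s p : G) := fun p => by simp [δ, s]
  letI : CommGroup V :=
    { (inferInstance : Group V) with mul_comm := fun a b => Subtype.ext (hVc a a.2 b b.2) }
  have hs_mul : ∀ p q, s (p * q) = s p * s q ∧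
      (δ (p * q) : G) = (δ p : G) * ((s p : G) * δ q * (s p : G)⁻¹) := by
    intro p q
    have e : d * (p * q : P).1 * d = ((δ p : G) * ((s p : G) * δ q * (s p : G)⁻¹)) * ((s p : G) * s q) := by
      calc d * ((p : G) * q) * d = (d * p * d) * (d * q * d) := by simp [mul_assoc, hdd]
        _ = _ := by rw [hdec, hdec]; group
    have hs : σ (p * q) = ((s p * s q : P) : G) := uniq _ _ (by
      rw [e, Subgroup.coe_mul, mul_inv_cancel_right]
      exact mul_mem (δ p).2 (hconjV _ _ (δ q).2))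
    refine ⟨Subtype.ext hs, ?_⟩
    show d * (p * q : P).1 * d * (σ (p * q))⁻¹ = _
    rw [hs, e, Subgroup.coe_mul, mul_inv_cancel_right]
  have hs_inv : ∀ p, s (s p) = p ∧ (δ (s p) : G) = d * (δ p : G) * d := by
    intro p
    have hdinv : (d * (δ p : G) * d) = (d * (δ p : G) * d)⁻¹ :=
      (inv_eq_of_mul_eq_one_right (by
        calc d * (δ p : G) * d * (d * (δ p : G) * d) = d * ((δ p : G) * (δ p : G)) * d := by simp [mul_assoc, hdd]
          _ = 1 := by rw [hV2 _ (δ p).2, mul_one, hd])).symm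
    have e : d * (s p : G) * d = (d * (δ p : G) * d) * (p : G) := by
      calc d * (s p : G) * d = (d * (δ p : G) * d)⁻¹ * (d * ((δ p : G) * (s p : G)) * d) := by
            simp [mul_assoc, hdd, hdi]
        _ = (d * (δ p : G) * d) * (p : G) := by
          rw [← hdec, ← hdinv]; simp [mul_assoc, hdd, hd]
    have hs : σ (s p) = (p : G) := uniq _ _ (by
      rw [e, mul_inv_cancel_right]; exact hdV _ (δ p).2)
    refine ⟨Subtype.ext hs, ?_⟩
    show d * (s p : G) * d * (σ (s p))⁻¹ = _
    rw [hs, e, mul_inv_cancel_right]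
  have hVsq : ∀ a : V, a * a = 1 := fun a => Subtype.ext (hV2 a a.2)
  haveI : Fintype P := Fintype.ofFinite P
  -- the averaging element
  set v : V := ∏ q, δ q with hv
  have hs_bij : Function.Involutive s := fun p => (hs_inv p).1
  have hvp : ∀ p : P, (δ p : G) = (v : G) * ((s p : G) * v * (s p : G)⁻¹) := by
    intro p
    let c : V →* V := MonoidHom.mk' (fun a => ⟨(s p : G) * a * (s p : G)⁻¹, hconjV _ _ a.2⟩)
      (fun a b => Subtype.ext (by simp [mul_assoc]))
    have h1 : v = δ p ^ Fintype.card P * c v := by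
      calc v = ∏ q, δ (p * q) := (Equiv.prod_comp (Equiv.mulLeft p) δ).symm
        _ = ∏ q, δ p * c (δ q) := Finset.prod_congr rfl fun q _ => Subtype.ext (hs_mul p q).2
        _ = δ p ^ Fintype.card P * c v := by
          rw [Finset.prod_mul_distrib, Finset.prod_const, Finset.card_univ, hv, map_prod]
    obtain ⟨k, hk⟩ := hodd
    rw [Nat.card_eq_fintype_card] at hk
    rw [hk, pow_succ, pow_mul, pow_two, hVsq, one_pow, one_mul] at h1
    have h2 : δ p = v * c v := by
      calc δ p = δ p * (c v * c v) := by rw [hVsq, mul_one]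
        _ = v * c v := by rw [← mul_assoc, ← h1]
    exact congrArg Subtype.val h2
  -- pairing
  let e := Fintype.equivFin P
  let A := Finset.univ.filter fun p : P => e p < e (s p)
  let B := Finset.univ.filter fun p : P => e (s p) < e p
  let ψ : V →* V := MonoidHom.mk' (fun a => ⟨d * a * d, hdV _ a.2⟩)
    (fun a b => Subtype.ext (by simp [mul_assoc, hdd]))
  set u : V := ∏ p ∈ A, δ p with hu
  have hsplit : v = u * ψ u := by
    have hB : ∏ p ∈ B, δ p = ψ u := by
      rw [hu, map_prod]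
      refine (Finset.prod_nbij' s s ?_ ?_ ?_ ?_ ?_).symm
      · intro a ha; simpa [A, B, (hs_inv a).1] using ha
      · intro a ha; simpa [A, B, (hs_inv a).1] using ha
      · exact fun a _ => (hs_inv a).1
      · exact fun a _ => (hs_inv a).1
      · intro a _; exact Subtype.ext (hs_inv a).2.symm
    have hdisj : Disjoint A B := Finset.disjoint_filter.2 fun p _ h1 h2 => lt_asymm h1 h2
    have hrest : ∏ p ∈ A ∪ B, δ p = v := by
      refine Finset.prod_subset (Finset.subset_univ _) fun p _ hp => Subtype.ext ?_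
      have hpe : s p = p := by
        simp only [A, B, Finset.mem_union, Finset.mem_filter, Finset.mem_univ, true_and, not_or, not_lt] at hp
        exact e.injective (le_antisymm hp.1 hp.2)
      have hmem : d * p.1 * d * (p.1)⁻¹ ∈ V := by
        have := (δ p).2
        simpa [δ, show σ p = p.1 from congrArg Subtype.val hpe] using this
      show d * p.1 * d * (σ p)⁻¹ = 1
      rw [show σ p = p.1 from congrArg Subtype.val hpe, hfix _ p.2 hmem, mul_assoc (p : G), hd, mul_one,
        mul_inv_cancel]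
    rw [← hrest, Finset.prod_union hdisj, hB]
  refine ⟨u, fun p hp => ?_⟩
  have key : ((u : G))⁻¹ * (d * ((u : G) * p * (u : G)⁻¹) * d) * (u : G) = (s ⟨p, hp⟩ : G) := by
    have huinv : ((u : G))⁻¹ = u := inv_eq_of_mul_eq_one_right (hV2 _ u.2)
    have hsv : (v : G) = (u : G) * (d * (u : G) * d) := congrArg Subtype.val hsplit
    have hvinv : (v : G)⁻¹ = v := inv_eq_of_mul_eq_one_right (hV2 _ v.2)
    have e1 : d * p * d = (v : G) * (s ⟨p, hp⟩ : G) * (v : G) := by
      rw [show d * p * d = (δ ⟨p, hp⟩ : G) * (s ⟨p, hp⟩ : G) from hdec ⟨p, hp⟩, hvp]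
      group
    have hcu : (d * (u : G) * d) * (u : G) = (v : G) := by rw [hsv]; exact hVc _ (hdV _ u.2) _ u.2
    rw [huinv]
    calc (u : G) * (d * ((u : G) * p * u) * d) * u
        = ((u : G) * (d * u * d)) * (d * p * d) * ((d * u * d) * u) := by simp [mul_assoc, hdd]
      _ = ((v : G) * v) * (s ⟨p, hp⟩ : G) * ((v : G) * v) := by rw [← hsv, hcu, e1]; group
      _ = _ := by rw [hV2 _ v.2, one_mul, mul_one]
  rw [key]; exact SetLike.coe_mem _

end Step

/-- an involution normalizing `P W` normalizes a conjugate of `P` -/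
theorem exists_normalized : ∀ (k : ℕ) (G : Type u) [Group G] [Finite G] (W P : Subgroup G) [W.Normal],
    Nat.card W = k → IsPGroup 2 W → IsPGroup 3 P → ∀ d : G, d * d = 1 →
    (∀ g : G, g * d * g⁻¹ * d ∈ W → ∃ w ∈ W, g * d * g⁻¹ = w * d * w⁻¹) →
    (∀ p ∈ P, ∃ q ∈ P, d * p * d * q⁻¹ ∈ W) →
    ∃ g : G, ∀ p ∈ P, g⁻¹ * (d * (g * p * g⁻¹) * d) * g ∈ P := by
  intro k
  induction k using Nat.strong_induction_on with
  | _ k ih =>
    intro G _ _ W P _ hk hW hP d hd hclass hnorm
    have : Fact (Nat.Prime 2) := ⟨Nat.prime_two⟩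
    have : Fact (Nat.Prime 3) := ⟨Nat.prime_three⟩
    by_cases hW0 : W = ⊥
    · refine ⟨1, fun p hp => ?_⟩
      obtain ⟨q, hq, h⟩ := hnorm p hp
      rw [hW0, Subgroup.mem_bot, mul_inv_eq_one] at h
      simpa [h] using hq
    have : Nontrivial W := (Subgroup.nontrivial_iff_ne_bot W).2 hW0
    -- a small normal subgroup
    let V : Subgroup G :=
      { carrier := {x | x ∈ W ∧ (∀ w ∈ W, w * x = x * w) ∧ x * x = 1}
        one_mem' := ⟨one_mem _, fun w _ => by simp, one_mul 1⟩
        mul_mem' := fun {a b} ha hb => ⟨mul_mem ha.1 hb.1,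
          fun w hw => by rw [← mul_assoc, ha.2.1 w hw, mul_assoc, hb.2.1 w hw, mul_assoc],
          by rw [mul_assoc, ← mul_assoc b, hb.2.1 a ha.1 |>.symm, mul_assoc, hb.2.2, mul_one, ha.2.2]⟩
        inv_mem' := fun {a} ha => by
          rw [inv_eq_of_mul_eq_one_right ha.2.2]; exact ha }
    haveI hVn : V.Normal := ⟨fun x hx g => ⟨(inferInstance : W.Normal).conj_mem x hx.1 g, fun w hw => by
      have h1 : g⁻¹ * w * g ∈ W := by
        have := (inferInstance : W.Normal).conj_mem w hw g⁻¹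
        simpa using this
      have := hx.2.1 _ h1
      calc w * (g * x * g⁻¹) = g * ((g⁻¹ * w * g) * x) * g⁻¹ := by group
        _ = g * (x * (g⁻¹ * w * g)) * g⁻¹ := by rw [this]
        _ = g * x * g⁻¹ * w := by group,
      by rw [show g * x * g⁻¹ * (g * x * g⁻¹) = g * (x * x) * g⁻¹ by group, hx.2.2]; group⟩⟩
    have hVW : V ≤ W := fun x hx => hx.1
    obtain ⟨z, hzV, hz1⟩ : ∃ z ∈ V, z ≠ 1 := by
      have := hW.center_nontrivial
      obtain ⟨c, hc⟩ := exists_prime_orderOf_dvd_card' (G := Subgroup.center W) 2 (by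
        obtain ⟨m, hm⟩ := (hW.to_subgroup (Subgroup.center W)).exists_card_eq
        have h1 : 1 < Nat.card (Subgroup.center W) := Finite.one_lt_card
        rw [hm] at h1 ⊢
        exact dvd_pow_self 2 (by rintro rfl; simp at h1))
      refine ⟨c.1.1, ⟨c.1.2, fun w hw => congrArg Subtype.val (Subgroup.mem_center_iff.1 c.2 ⟨w, hw⟩), ?_⟩, ?_⟩
      · have := congrArg (fun x : Subgroup.center W => x.1.1) (pow_orderOf_eq_one c)
        rw [hc] at this
        simpa [pow_two] using this
      · intro h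
        have : c = 1 := Subtype.ext (Subtype.ext h)
        rw [this, orderOf_one] at hc
        exact absurd hc (by norm_num)
    -- induction in the quotient
    set π := QuotientGroup.mk' V with hπ
    have hπs : Function.Surjective π := QuotientGroup.mk'_surjective V
    haveI : (W.map π).Normal := Subgroup.Normal.map inferInstance π hπs
    have hlt : Nat.card (W.map π) < k := by
      have hd' : Nat.card (W.map π) = V.relIndex W := by
        rw [← Subgroup.relIndex_ker, hπ, QuotientGroup.ker_mk']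
      have hmul := Subgroup.card_mul_index (V.subgroupOf W)
      rw [Nat.card_congr (Subgroup.subgroupOfEquivOfLe hVW).toEquiv, ← Subgroup.relIndex, hk, ← hd'] at hmul
      have h2 : 1 < Nat.card V := (Subgroup.one_lt_card_iff_ne_bot V).2 fun h => hz1 (by
        rw [h, Subgroup.mem_bot] at hzV; exact hzV)
      have hpos : 0 < Nat.card (W.map π) := Nat.card_pos
      nlinarith
    obtain ⟨g', hg'⟩ := ih _ hlt (G ⧸ V) (W.map π) (P.map π) rfl (hW.map π) (hP.map π) (π d)
      (by rw [← map_mul, hd, map_one])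
      (by
        intro gb hgb
        obtain ⟨g, rfl⟩ := hπs gb
        rw [← map_inv, ← map_mul, ← map_mul, ← map_mul] at hgb
        obtain ⟨w, hw, he⟩ := hgb
        have hmem : g * d * g⁻¹ * d ∈ W := by
          have := hVW (QuotientGroup.eq.1 he)
          have := mul_mem hw this
          rwa [mul_inv_cancel_left] at this
        obtain ⟨w', hw', he'⟩ := hclass g hmem
        refine ⟨π w', ⟨w', hw', rfl⟩, ?_⟩
        rw [← map_inv, ← map_inv, ← map_mul, ← map_mul, ← map_mul, ← map_mul, he'])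
      (by
        rintro _ ⟨p, hp, rfl⟩
        obtain ⟨q, hq, h⟩ := hnorm p hp
        refine ⟨π q, ⟨q, hq, rfl⟩, ?_⟩
        rw [← map_inv, ← map_mul, ← map_mul, ← map_mul]
        exact ⟨_, h, rfl⟩)
    obtain ⟨g, rfl⟩ := hπs g'
    set d0 := g⁻¹ * d * g with hd0
    have hd0sq : d0 * d0 = 1 := by
      rw [hd0, show g⁻¹ * d * g * (g⁻¹ * d * g) = g⁻¹ * (d * d) * g by group, hd]; group
    have hd0i : d0⁻¹ = d0 := inv_eq_of_mul_eq_one_right hd0sq
    have hclass0 : ∀ a : G, a * d0 * a⁻¹ * d0 ∈ W → ∃ w ∈ W, a * d0 * a⁻¹ = w * d0 * w⁻¹ := by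
      intro a ha
      have hmem : (g * a * g⁻¹) * d * (g * a * g⁻¹)⁻¹ * d ∈ W := by
        have := (inferInstance : W.Normal).conj_mem _ ha g
        convert this using 1
        rw [hd0]; group
      obtain ⟨w, hw, he⟩ := hclass _ hmem
      refine ⟨g⁻¹ * w * g, ?_, ?_⟩
      · have := (inferInstance : W.Normal).conj_mem w hw g⁻¹
        simpa using this
      · calc a * d0 * a⁻¹ = g⁻¹ * ((g * a * g⁻¹) * d * (g * a * g⁻¹)⁻¹) * g := by rw [hd0]; group
          _ = g⁻¹ * (w * d * w⁻¹) * g := by rw [he]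
          _ = _ := by rw [hd0]; group
    have hnorm0 : ∀ p ∈ P, ∃ q ∈ P, d0 * p * d0 * q⁻¹ ∈ V := by
      intro p hp
      obtain ⟨q, hq, he⟩ := hg' (π p) ⟨p, hp, rfl⟩
      refine ⟨q, hq, ?_⟩
      rw [← QuotientGroup.eq_one_iff]
      show π (d0 * p * d0 * q⁻¹) = 1
      rw [map_mul, map_inv, he, mul_inv_eq_one, hd0]
      simp only [map_mul, map_inv, mul_assoc]
    -- the subgroup centralizing `d0` modulo `V`
    let R : Subgroup G := (Subgroup.centralizer {π d0}).comap π
    have memR : ∀ r, r ∈ R → r * d0 * r⁻¹ * d0 ∈ V := by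
      intro r hr
      rw [← QuotientGroup.eq_one_iff]
      show π (r * d0 * r⁻¹ * d0) = 1
      rw [map_mul, map_mul, map_mul, map_inv, Subgroup.mem_centralizer_singleton_iff.1 hr, mul_inv_cancel_right,
        ← map_mul, hd0sq, map_one]
    let C : Subgroup R := (Subgroup.centralizer {d0}).subgroupOf R
    let W' : Subgroup R := W.subgroupOf R
    have hsup : W' ⊔ C = ⊤ := by
      refine eq_top_iff.2 fun r _ => ?_
      obtain ⟨w, hw, he⟩ := hclass0 r.1 (hVW (memR r.1 r.2))
      have hwR : w ∈ R := by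
        show π w ∈ Subgroup.centralizer {π d0}
        rw [Subgroup.mem_centralizer_singleton_iff, ← mul_inv_eq_iff_eq_mul, ← map_inv, ← map_mul, ← map_mul,
          ← he, map_mul, map_mul, map_inv, Subgroup.mem_centralizer_singleton_iff.1 r.2, mul_inv_cancel_right]
      have hc : (⟨w, hwR⟩ : R)⁻¹ * r ∈ C := by
        show w⁻¹ * r.1 ∈ Subgroup.centralizer {d0}
        rw [Subgroup.mem_centralizer_singleton_iff]
        calc w⁻¹ * r.1 * d0 = w⁻¹ * (r.1 * d0 * r.1⁻¹) * r.1 := by group
          _ = d0 * (w⁻¹ * r.1) := by rw [he]; group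
      have := Subgroup.mul_mem_sup (S := W') (T := C) (show (⟨w, hwR⟩ : R) ∈ W' from hw) hc
      rwa [mul_inv_cancel_left] at this
    have hndvd : ¬ 3 ∣ Nat.card (R ⧸ C) := by
      intro h3
      have e1 := Subgroup.relIndex_sup_right (K := W') (H := C)
      rw [sup_comm C W', hsup, Subgroup.relIndex_top_right] at e1
      have e2 := Subgroup.card_mul_index W'
      have e3 := Subgroup.card_mul_index C
      have e4 : W'.relIndex C ∣ Nat.card C := Subgroup.index_dvd_card _
      rw [← e1] at e4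
      obtain ⟨m, hm⟩ := e4
      have hpos : 0 < W'.index := Nat.pos_of_ne_zero Subgroup.FiniteIndex.index_ne_zero
      have hdvd : C.index ∣ Nat.card W' := ⟨m, Nat.eq_of_mul_eq_mul_left hpos (by
        rw [mul_comm W'.index, e2, ← e3, hm]; ring)⟩
      obtain ⟨j, hj⟩ := ((hW.comap_subtype (K := R) : IsPGroup 2 W')).exists_card_eq
      rw [show Nat.card W' = _ from hj] at hdvd
      have : 3 ∣ 2 ^ j := dvd_trans h3 hdvd
      exact absurd (Nat.prime_three.dvd_of_dvd_pow this) (by norm_num)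
    have hPR : IsPGroup 3 (P.subgroupOf R) := hP.comap_subtype
    obtain ⟨fx, hfx⟩ := hPR.nonempty_fixed_point_of_prime_not_dvd_card (R ⧸ C) hndvd
    obtain ⟨r, rfl⟩ := QuotientGroup.mk_surjective fx
    set d1 := r.1 * d0 * r.1⁻¹ with hd1
    have hd1sq : d1 * d1 = 1 := by
      rw [hd1, show r.1 * d0 * r.1⁻¹ * (r.1 * d0 * r.1⁻¹) = r.1 * (d0 * d0) * r.1⁻¹ by group, hd0sq]; group
    have hd1q : π d1 = π d0 := by
      rw [hd1, map_mul, map_mul, map_inv, Subgroup.mem_centralizer_singleton_iff.1 r.2, mul_inv_cancel_right]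
    have hodd : Odd (Nat.card P) := by
      obtain ⟨j, hj⟩ := hP.exists_card_eq
      rw [hj]; exact Odd.pow (by decide)
    obtain ⟨u, hu⟩ := step (V := V) (P := P) (fun a ha b hb => hb.2.1 a ha.1) (fun a ha => ha.2.2) hodd hd1sq
      (fun p hp => by
        obtain ⟨q, hq, h⟩ := hnorm0 p hp
        refine ⟨q, hq, ?_⟩
        rw [← QuotientGroup.eq_one_iff] at h ⊢
        have h' : π (d0 * p * d0 * q⁻¹) = 1 := h
        show π (d1 * p * d1 * q⁻¹) = 1
        simp only [map_mul, hd1q] at h' ⊢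
        exact h')
      (fun p hp hpV => by
        have hpR : p ∈ R := by
          show π p ∈ Subgroup.centralizer {π d0}
          rw [Subgroup.mem_centralizer_singleton_iff]
          rw [← QuotientGroup.eq_one_iff] at hpV
          have h' : π (d1 * p * d1 * p⁻¹) = 1 := hpV
          rw [map_mul, map_mul, map_mul, map_inv, hd1q, mul_inv_eq_one] at h'
          calc π p * π d0 = π d0 * π p * π d0 * π d0 := by rw [h']
            _ = π d0 * π p := by rw [mul_assoc, ← map_mul π d0 d0, hd0sq, map_one, mul_one]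
        have h := hfx ⟨⟨p, hpR⟩, hp⟩
        have h' : (QuotientGroup.mk ((⟨p, hpR⟩ : R) * r) : R ⧸ C) = QuotientGroup.mk r := h
        have hc : ((⟨p, hpR⟩ : R) * r)⁻¹ * r ∈ C := QuotientGroup.eq.1 h'
        have hc' : (p * r.1)⁻¹ * r.1 ∈ Subgroup.centralizer {d0} := hc
        rw [Subgroup.mem_centralizer_singleton_iff] at hc'
        rw [hd1]
        calc r.1 * d0 * r.1⁻¹ * p = r.1 * d0 * ((p * r.1)⁻¹ * r.1)⁻¹ * r.1⁻¹ := by group
          _ = r.1 * ((p * r.1)⁻¹ * r.1)⁻¹ * (((p * r.1)⁻¹ * r.1) * d0) * ((p * r.1)⁻¹ * r.1)⁻¹ * r.1⁻¹ := by group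
          _ = r.1 * ((p * r.1)⁻¹ * r.1)⁻¹ * (d0 * ((p * r.1)⁻¹ * r.1)) * ((p * r.1)⁻¹ * r.1)⁻¹ * r.1⁻¹ := by rw [hc']
          _ = p * (r.1 * d0 * r.1⁻¹) := by group)
    refine ⟨g * r.1⁻¹ * u, fun p hp => ?_⟩
    have e : (g * r.1⁻¹ * u)⁻¹ * (d * (g * r.1⁻¹ * u * p * (g * r.1⁻¹ * u)⁻¹) * d) * (g * r.1⁻¹ * u) =
        u⁻¹ * (d1 * (u * p * u⁻¹) * d1) * u := by
      rw [hd1, hd0]; group
    rw [e]
    exact hu p hp

/-- Let D be a conjugacy class of 3-transpositions generating the finite group G, with at least two members, and d a member of D such that every member of D commuting with d commutes with exactly the same members of D as d. Then there is a Sylow 3-subgroup P of G normalized by d such that G is generated by d, P and the largest normal 2-subgroup of G. -/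
theorem result {G : Type*} [Group G] [Finite G] {D : Set G} (hD : Cfsg.IsThreeTranspositionClass D) (hD2 : ∃ a ∈ D, ∃ b ∈ D, a ≠ b) {d : G} (hd : d ∈ D) (hV : {y : G | y ∈ D ∧ Commute d y} = {v : G | v ∈ D ∧ ∀ e ∈ D, Commute v e ↔ Commute d e}) : ∃ P : Sylow 3 G, d ∈ Subgroup.normalizer (P : Set G) ∧ Subgroup.zpowers d ⊔ (P : Subgroup G) ⊔ Cfsg.pCore 2 G = ⊤ := by
  have hT := Cfsg.Agent.Fischer.TClass.of hD
  have : Fact (Nat.Prime 3) := ⟨Nat.prime_three⟩
  set W := Cfsg.pCore 2 G with hWdef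
  have hW : IsPGroup 2 W := Cfsg.Agent.PCore.isPGroup_pCore
  haveI : W.Normal := Cfsg.Agent.PCore.pCore_normal
  obtain ⟨z, hz, hzd⟩ := Cfsg.Agent.Fischer.exists_not_commute hT hD2 hd
  have hnotW : ∀ e ∈ D, e ∉ W := by
    have htrans : ∀ e ∈ D, ∃ g : G, g * d * g⁻¹ = e := fun e he => by
      obtain ⟨-, ⟨d0, -, hDeq⟩, -⟩ := hD
      have h1 : IsConj d0 d := by rw [hDeq] at hd; exact hd
      have h2 : IsConj d0 e := by rw [hDeq] at he; exact he
      exact isConj_iff.1 (h1.symm.trans h2)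
    have hdW : d ∉ W := by
      intro hdW
      have h1 : d * (z * d * z⁻¹) ∈ W := mul_mem hdW ((inferInstance : W.Normal).conj_mem d hdW z)
      rw [hT.toTSet.inv_eq hz, show d * (z * d * z) = (d * z) * (d * z) by group] at h1
      have h3 : (d * z) ^ 3 = 1 :=
        (hT.toTSet.ord d hd z hz).resolve_left fun h => hzd (hT.toTSet.commute_of_sq hd hz h).symm
      have := Cfsg.Agent.Fischer.eq_one_of_pow_of_isPGroup hW h1 (n := 3) (by norm_num)
        (by rw [← pow_two, ← pow_mul, mul_comm, pow_mul, h3, one_pow])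
      exact hzd (hT.toTSet.commute_of_sq hd hz (by rw [pow_two]; exact this)).symm
    intro e he heW
    obtain ⟨g, rfl⟩ := htrans e he
    apply hdW
    have := (inferInstance : W.Normal).conj_mem _ heW g⁻¹
    simpa [mul_assoc] using this
  set π := QuotientGroup.mk' W with hπ
  have hπs : Function.Surjective π := QuotientGroup.mk'_surjective W
  have hd2 : d * d = 1 := hT.sq d hd
  have hsame : ∀ e ∈ D, ∀ f ∈ D, Commute (π e) (π f) → π e = π f := by
    intro e he f hf hc
    by_cases hef : Commute e f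
    · obtain ⟨-, ⟨d0, -, hDeq⟩, -⟩ := hD
      obtain ⟨g, hg⟩ : ∃ g : G, g * d * g⁻¹ = e := by
        have h1 : IsConj d0 d := by rw [hDeq] at hd; exact hd
        have h2 : IsConj d0 e := by rw [hDeq] at he; exact he
        exact isConj_iff.1 (h1.symm.trans h2)
      set f' := g⁻¹ * f * g with hf'
      have hf'D : f' ∈ D := by have := hT.conj g⁻¹ f hf; simpa [hf'] using this
      have hdf : Commute d f' := by
        have := hef.conj g⁻¹
        rw [← hg] at this
        simpa [hf', mul_assoc] using this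
      have hm : f' ∈ {v : G | v ∈ D ∧ ∀ x ∈ D, Commute v x ↔ Commute d x} := hV ▸ ⟨hf'D, hdf⟩
      have hW' := Cfsg.Agent.Fischer.mul_mem_pCore_two hT hd hf'D (Cfsg.Agent.Fischer.sameComm_eq_iff.2 hm.2)
      refine QuotientGroup.eq.2 ?_
      have := (inferInstance : W.Normal).conj_mem _ hW' g
      rw [hT.toTSet.inv_eq he, ← hg]
      simpa [hf', mul_assoc] using this
    · exfalso
      have h3 : (e * f) ^ 3 = 1 :=
        (hT.toTSet.ord e he f hf).resolve_left fun h => hef (hT.toTSet.commute_of_sq he hf h)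
      have h1 : (e * f) ^ 2 ∈ W := by
        rw [← QuotientGroup.eq_one_iff]
        show π ((e * f) ^ 2) = 1
        rw [map_pow, map_mul, hc.mul_pow, ← map_pow, ← map_pow, pow_two, pow_two, hT.sq e he, hT.sq f hf,
          map_one, one_mul]
      have := Cfsg.Agent.Fischer.eq_one_of_pow_of_isPGroup hW h1 (n := 3) (by norm_num)
        (by rw [← pow_mul, mul_comm, pow_mul, h3, one_pow])
      exact hef (hT.toTSet.commute_of_sq he hf this)
  have hDbar : Cfsg.IsThreeTranspositionGroup (π '' D) := by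
    refine ⟨⟨?_, ?_⟩, ?_, ?_⟩
    · rintro _ ⟨e, he, rfl⟩
      refine orderOf_eq_prime (by rw [← map_pow, pow_two, hT.sq e he, map_one]) fun h => ?_
      exact hnotW e he ((QuotientGroup.eq_one_iff e).1 h)
    · rintro _ ⟨e, he, rfl⟩ _ ⟨f, hf, rfl⟩
      rw [← map_mul, ← map_pow, ← map_pow]
      exact (hT.toTSet.ord e he f hf).imp (fun h => by rw [h, map_one]) (fun h => by rw [h, map_one])
    · rintro gb _ ⟨e, he, rfl⟩
      obtain ⟨g, rfl⟩ := hπs gb
      exact ⟨_, hT.conj g e he, by rw [map_mul, map_mul, map_inv]⟩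
    · rw [← MonoidHom.map_closure, hD.2.2, Subgroup.map_top_of_surjective π hπs]
  have hwidth : Cfsg.commutingWidth (π '' D) = 1 :=
    (Cfsg.Agent.S5346.width_eq_one_iff (show (π '' D).Nonempty from ⟨π d, d, hd, rfl⟩)).2 (by
      rintro _ ⟨e, he, rfl⟩ _ ⟨f, hf, rfl⟩ hc
      exact hsame e he f hf hc)
  have htop := (Cfsg.Agent.S5346.result hDbar (d := π d) ⟨d, hd, rfl⟩).1 hwidth
  obtain ⟨P⟩ : Nonempty (Sylow 3 G) := inferInstance
  set O := Cfsg.pCore 3 (G ⧸ W) with hO
  haveI : O.Normal := Cfsg.Agent.PCore.pCore_normal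
  have hPO : (P : Subgroup G).map π = O := by
    have hle : O ≤ (P.mapSurjective hπs : Subgroup (G ⧸ W)) := Cfsg.Agent.PCore.pCore_le_sylow _
    rw [Sylow.coe_mapSurjective] at hle
    refine le_antisymm (fun x hx => ?_) hle
    obtain ⟨a, ha, rfl⟩ := hx
    obtain ⟨j, hj⟩ := P.isPGroup' ⟨a, ha⟩
    have hj' : (π a) ^ 3 ^ j = 1 := by
      rw [← map_pow, show a ^ 3 ^ j = 1 by simpa using congrArg Subtype.val hj, map_one]
    rw [← QuotientGroup.eq_one_iff]
    set y : (G ⧸ W) ⧸ O := QuotientGroup.mk (π a)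
    have hy2 : y ^ 2 = 1 := by
      obtain ⟨q, hq, o, ho, he⟩ := Subgroup.mem_sup_of_normal_right.1 (htop ▸ Subgroup.mem_top (π a) :
        π a ∈ Subgroup.zpowers (π d) ⊔ O)
      obtain ⟨i, rfl⟩ := hq
      have : y = (QuotientGroup.mk (π d) : (G ⧸ W) ⧸ O) ^ i := by
        show QuotientGroup.mk (π a) = _
        rw [← he, ← QuotientGroup.mk_zpow, QuotientGroup.mk_mul, (QuotientGroup.eq_one_iff o).2 ho, mul_one]
      rw [this, ← zpow_natCast, ← zpow_mul, mul_comm, zpow_mul, zpow_natCast, ← QuotientGroup.mk_pow,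
        ← map_pow, pow_two, hd2, map_one, QuotientGroup.mk_one, one_zpow]
    have hy3 : y ^ 3 ^ j = 1 := by
      show (QuotientGroup.mk (π a) : (G ⧸ W) ⧸ O) ^ 3 ^ j = 1
      rw [← QuotientGroup.mk_pow, hj', QuotientGroup.mk_one]
    have := pow_gcd_eq_one.2 ⟨hy2, hy3⟩
    rwa [Nat.Coprime.gcd_eq_one (Nat.Coprime.pow_right j (by norm_num)), pow_one] at this
  obtain ⟨g, hg⟩ := exists_normalized _ G W (P : Subgroup G) rfl hW P.isPGroup' d hd2
    (fun a ha => by
      have hmem : a * d * a⁻¹ ∈ {v : G | v ∈ D ∧ d⁻¹ * v ∈ W} := by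
        refine ⟨hT.conj a d hd, ?_⟩
        rw [hT.toTSet.inv_eq hd]
        have := (inferInstance : W.Normal).conj_mem _ ha d
        simpa [hT.toTSet.inv_eq hd, mul_assoc, hd2] using this
      rw [← (Cfsg.Agent.S5349.result hD hD2 hd).1, (Cfsg.Agent.S5349.result hD hD2 hd).2] at hmem
      obtain ⟨w, hw, e⟩ := hmem
      exact ⟨w, hw, e⟩)
    (fun p hp => by
      have : π (d * p * d) ∈ O := by
        have h := (inferInstance : O.Normal).conj_mem (π p) (hPO ▸ Subgroup.mem_map_of_mem π hp) (π d)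
        rwa [← map_inv, hT.toTSet.inv_eq hd, ← map_mul, ← map_mul] at h
      rw [← hPO] at this
      obtain ⟨q, hq, he⟩ := this
      refine ⟨q, hq, ?_⟩
      rw [← QuotientGroup.eq_one_iff]
      show π (d * p * d * q⁻¹) = 1
      rw [map_mul, map_inv, ← he, mul_inv_cancel])
  refine ⟨g • P, ?_, ?_⟩
  · have key : ∀ x, x ∈ (g • P : Sylow 3 G) ↔ g⁻¹ * x * g ∈ (P : Subgroup G) := fun x => by
      show x ∈ ((g • P : Sylow 3 G) : Subgroup G) ↔ _
      rw [Sylow.coe_subgroup_smul, Subgroup.mem_pointwise_smul_iff_inv_smul_mem]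
      simp [MulAut.smul_def]
    have hle : ∀ x, x ∈ (g • P : Sylow 3 G) → d * x * d⁻¹ ∈ (g • P : Sylow 3 G) := fun x hx => by
      rw [key] at hx ⊢
      have := hg _ hx
      rw [hT.toTSet.inv_eq hd]
      simpa [mul_assoc] using this
    show d ∈ Subgroup.normalizer (((g • P : Sylow 3 G) : Subgroup G) : Set G)
    rw [Subgroup.mem_normalizer_iff]
    refine fun x => ⟨hle x, fun hx => ?_⟩
    have := hle _ hx
    rwa [hT.toTSet.inv_eq hd, show d * (d * x * d) * d = (d * d) * x * (d * d) by group, hd2, one_mul,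
      mul_one] at this
  · rw [eq_top_iff]
    intro x _
    set Pg := ((g • P : Sylow 3 G) : Subgroup G)
    have hPgO : Pg.map π = O := by
      refine le_antisymm ?_ ?_
      · rintro _ ⟨y, hy, rfl⟩
        have hy' : g⁻¹ * y * g ∈ (P : Subgroup G) := by
          rw [SetLike.mem_coe, show Pg = MulAut.conj g • (P : Subgroup G) from Sylow.coe_subgroup_smul,
            Subgroup.mem_pointwise_smul_iff_inv_smul_mem] at hy
          simpa [MulAut.smul_def] using hy
        have := (inferInstance : O.Normal).conj_mem _ (hPO ▸ Subgroup.mem_map_of_mem π hy') (π g)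
        simpa [mul_assoc] using this
      · rintro o ho
        have h1 := (inferInstance : O.Normal).conj_mem o ho (π g)⁻¹
        rw [inv_inv, ← hPO] at h1
        obtain ⟨q, hq, he⟩ := h1
        refine ⟨g * q * g⁻¹, ?_, by simp [he, mul_assoc]⟩
        rw [show Pg = MulAut.conj g • (P : Subgroup G) from Sylow.coe_subgroup_smul]
        exact Subgroup.smul_mem_pointwise_smul q (MulAut.conj g) _ hq
    have hmap : (Subgroup.zpowers d ⊔ Pg ⊔ W).map π = ⊤ := by
      rw [eq_top_iff, ← htop, Subgroup.map_sup, Subgroup.map_sup, MonoidHom.map_zpowers, hPgO]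
      exact le_sup_left
    have hx : π x ∈ (Subgroup.zpowers d ⊔ Pg ⊔ W).map π := hmap ▸ Subgroup.mem_top _
    obtain ⟨y, hy, he⟩ := hx
    have := Subgroup.mul_mem _ hy ((le_sup_right : W ≤ Subgroup.zpowers d ⊔ Pg ⊔ W) (QuotientGroup.eq.1 he))
    rwa [mul_inv_cancel_left] at this

end Cfsg.Agent.S5356
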