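import Cfsg.Statements.S5357
import Mathlib
import Cfsg.Agent.Lib.ClassicalSimple.OrthMatrix

set_option autoImplicit false
open scoped MatrixGroups
open Cfsg

namespace Cfsg.Agent.S5357

open Cfsg.Agent
open Cfsg.Agent.ClassicalSimple

theorem f3_facts' : ∀ c : ZMod 3, c ≠ 0 → c * c = 1 ∧ 2 * c = -c ∧ 2 * c ≠ 0 ∧ -c + (c + c) = c := by
  decide

theorem f3_facts : ∀ c : ZMod 3, c ≠ 0 → c⁻¹ * c = 1 ∧ 2 * c = -c ∧ 2 * c ≠ 0 ∧ -c + (c + c) = c :=
  fun c hc => ⟨inv_mul_cancel₀ hc, (f3_facts' c hc).2⟩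

theorem f3_sq' : ∀ f c : ZMod 3, f ≠ 0 → c ≠ 0 → c * f * (c * f) = 1 := by decide

theorem f3_sq (f c : ZMod 3) (hf : f ≠ 0) (hc : c ≠ 0) : c⁻¹ * f * (c⁻¹ * f) = 1 := by
  rw [inv_eq_of_mul_eq_one_right (f3_facts' c hc).1]; exact f3_sq' f c hf hc

theorem f3_norm : ∀ a b c : ZMod 3, a ≠ 0 → b ≠ 0 → c ≠ 0 → a = c ∨ b = c ∨ (a = -c ∧ a + b = c) := by
  decide

variable {V : Type*} [AddCommGroup V] [Module (ZMod 3) V] [FiniteDimensional (ZMod 3) V]
  {Q : QuadraticForm (ZMod 3) V}

theorem exists_aniso_orth (hN : (bil Q).Nondegenerate) {k : ℕ} (a : Fin k → V)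
    (ha : ∀ i, Q (a i) ≠ 0) (horth : ∀ i j, i ≠ j → bil Q (a i) (a j) = 0)
    (hk : k < Module.finrank (ZMod 3) V) : ∃ x, (∀ i, bil Q x (a i) = 0) ∧ Q x ≠ 0 := by
  by_contra hc
  push Not at hc
  let π : V → V := fun x => x - ∑ i, ((bil Q (a i) (a i))⁻¹ * bil Q x (a i)) • a i
  have haa : ∀ i, bil Q (a i) (a i) ≠ 0 := fun i => by
    rw [bil_self]; exact mul_ne_zero (by decide) (ha i)
  have hπ : ∀ x i, bil Q (π x) (a i) = 0 := fun x i => by
    simp only [π, map_sub, LinearMap.sub_apply, map_sum, LinearMap.coe_sum, Finset.sum_apply, map_smul,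
      LinearMap.smul_apply, smul_eq_mul]
    rw [Finset.sum_eq_single i (fun j _ hj => by rw [horth j i hj, mul_zero]) (by simp),
      mul_right_comm, inv_mul_cancel₀ (haa i), one_mul, sub_self]
  have hzero : ∀ x, π x = 0 := fun x => hN.1 (π x) fun y => by
    have e : y = π y + ∑ i, ((bil Q (a i) (a i))⁻¹ * bil Q y (a i)) • a i := by simp [π]
    rw [e, map_add, map_sum]
    simp only [map_smul, hπ, smul_zero, Finset.sum_const_zero, add_zero]
    have h1 := hc _ (hπ x)
    have h2 := hc _ (hπ y)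
    have h3 := hc (π x + π y) fun i => by rw [map_add, LinearMap.add_apply, hπ, hπ, add_zero]
    rwa [quad_add, h1, h2, zero_add, zero_add] at h3
  have hspan : (⊤ : Submodule (ZMod 3) V) ≤ Submodule.span (ZMod 3) (Set.range a) := fun x _ => by
    rw [sub_eq_zero.mp (hzero x)]
    exact Submodule.sum_mem _ fun i _ => Submodule.smul_mem _ _ (Submodule.subset_span ⟨i, rfl⟩)
  have := (Submodule.finrank_mono hspan).trans (finrank_range_le_card (R := ZMod 3) a)
  rw [finrank_top, Fintype.card_fin] at this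
  omega

/-- a vector of prescribed norm orthogonal to given ones -/
theorem exists_norm_orth (hN : (bil Q).Nondegenerate) {k : ℕ} (a : Fin k → V)
    (ha : ∀ i, Q (a i) ≠ 0) (horth : ∀ i j, i ≠ j → bil Q (a i) (a j) = 0)
    (hk : k + 1 < Module.finrank (ZMod 3) V) {c : ZMod 3} (hc : c ≠ 0) :
    ∃ x, (∀ i, bil Q x (a i) = 0) ∧ Q x = c := by
  obtain ⟨x, hx, hqx⟩ := exists_aniso_orth hN a ha horth (by omega)
  obtain ⟨y, hy, hqy⟩ := exists_aniso_orth hN (Fin.cons x a) (Fin.cases hqx ha)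
    (fun i j hij => by
      refine Fin.cases (fun j hij => ?_) (fun i j hij => ?_) i j hij
      · exact Fin.cases (fun h => absurd rfl h) (fun j _ => hx j) j hij
      · refine Fin.cases (fun _ => ?_) (fun j hij => horth i j fun e => hij (e ▸ rfl)) j hij
        simp only [Fin.cons_succ, Fin.cons_zero]
        rw [bil_comm]; exact hx i) hk
  rcases f3_norm _ _ c hqx hqy hc with h | h | ⟨-, h⟩
  · exact ⟨x, hx, h⟩
  · exact ⟨y, fun i => by simpa using hy i.succ, h⟩
  · refine ⟨x + y, fun i => ?_, ?_⟩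
    · rw [map_add, LinearMap.add_apply, hx, show bil Q y (a i) = 0 by simpa using hy i.succ, add_zero]
    · rw [quad_add, bil_comm, show bil Q y x = 0 by simpa using hy 0, add_zero, h]

omit [FiniteDimensional (ZMod 3) V]

theorem orefl_congr {a b : V} (ha : Q a ≠ 0) (hb : Q b ≠ 0) (h : a = b) : orefl ha = orefl hb := by
  subst h; rfl

theorem orefl_smul_congr {a b : V} {t : ZMod 3} (ht : t * t = 1) (ha : Q a ≠ 0) (hb : Q b ≠ 0)
    (h : a = t • b) : orefl ha = orefl hb := by
  refine OQ.ext' fun x => ?_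
  subst h
  have hti : t⁻¹ = t := inv_eq_of_mul_eq_one_right ht
  rw [orefl_smul, orefl_smul, quad_smul_vec, ht, one_mul, map_smul, smul_smul, smul_eq_mul,
    mul_left_comm (Q b)⁻¹ t, mul_comm t, mul_assoc ((Q b)⁻¹ * _), ht, mul_one]

theorem orefl_inv {a : V} (ha : Q a ≠ 0) : (orefl ha)⁻¹ = orefl ha := by
  refine inv_eq_of_mul_eq_one_right (OQ.ext' fun x => ?_)
  rw [mul_smul, orefl_smul, orefl_smul, map_sub, map_smul, LinearMap.sub_apply, LinearMap.smul_apply,
    bil_self, smul_eq_mul, one_smul]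
  have e : (Q a)⁻¹ * (bil Q x a - (Q a)⁻¹ * bil Q x a * (2 * Q a)) = -((Q a)⁻¹ * bil Q x a) := by
    field_simp; ring
  rw [e, neg_smul, sub_neg_eq_add, sub_add_cancel]

/-- the three-transposition relations among reflections of one norm -/
theorem braid {c : ZMod 3} {a b : V} (ha : Q a = c) (hb : Q b = c) (hc : c ≠ 0) (hf : bil Q a b ≠ 0) :
    orefl (b := a) (ha ▸ hc) * orefl (b := b) (hb ▸ hc) * orefl (b := a) (ha ▸ hc) =
      orefl (b := b) (hb ▸ hc) * orefl (b := a) (ha ▸ hc) * orefl (b := b) (hb ▸ hc) := by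
  have ha' : Q a ≠ 0 := ha ▸ hc
  have hb' : Q b ≠ 0 := hb ▸ hc
  conv_lhs => arg 2; rw [← orefl_inv ha']
  conv_rhs => arg 2; rw [← orefl_inv hb']
  rw [orefl_conj, orefl_conj]
  refine orefl_smul_congr (t := -(c⁻¹ * bil Q a b)) ?_ _ _ ?_
  · rw [neg_mul_neg]; exact f3_sq _ _ hf hc
  · rw [orefl_smul, orefl_smul, ha, hb, bil_comm b a, smul_sub, smul_smul, neg_mul, f3_sq _ _ hf hc]
    module

theorem orefl_comm {a b : V} (ha : Q a ≠ 0) (hb : Q b ≠ 0) (hf : bil Q a b = 0) :
    orefl ha * orefl hb = orefl hb * orefl ha := by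
  rw [← mul_inv_eq_iff_eq_mul, orefl_conj]
  exact orefl_congr _ _ (by rw [orefl_smul, bil_comm, hf, mul_zero, zero_smul, sub_zero])

/-- Let Q be a non-degenerate quadratic form on the n-dimensional coordinate space over the field with three elements, n ≥ 5, and c a non-zero scalar. In the subgroup of the isometry group of Q generated by the reflections in vectors v with Q(v) = c, these reflections form a single conjugacy class of 3-transpositions generating that subgroup. -/
theorem result (n : ℕ) (hn : 5 ≤ n) (Q : QuadraticForm (ZMod 3) (Fin n → ZMod 3)) (hQ : (QuadraticMap.polarBilin Q).Nondegenerate) (c : ZMod 3) (hc : c ≠ 0) : Cfsg.IsThreeTranspositionClass {g : ↥(Cfsg.reflectionSubgroup (⇑Q) c) | (g : ↥(Cfsg.isometryGroup (ZMod 3) (⇑Q))) ∈ Cfsg.reflectionsOfNorm (⇑Q) c} := by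
  classical
  have hN : (bil Q).Nondegenerate := hQ
  have hn' : 5 ≤ Module.finrank (ZMod 3) (Fin n → ZMod 3) := by simpa using hn
  set R := Cfsg.reflectionsOfNorm (⇑Q) c with hR
  set K := Cfsg.reflectionSubgroup (⇑Q) c with hK
  set φ := isometryEquiv Q
  have hmem : ∀ g, g ∈ R ↔ ∃ (v : Fin n → ZMod 3) (hv : Q v = c), φ g = orefl (b := v) (hv ▸ hc) := by
    intro g
    constructor
    · rintro ⟨v, hv, e⟩
      exact ⟨v, hv, (isometryEquiv_eq_iff Q g _ _ (reflectionMatrix_mulVec Q (hv ▸ hc))).2 e⟩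
    · rintro ⟨v, hv, e⟩
      exact ⟨v, hv, (isometryEquiv_eq_iff Q g _ _ (reflectionMatrix_mulVec Q (hv ▸ hc))).1 e⟩
  have hconjR : ∀ g, ∀ r ∈ R, g * r * g⁻¹ ∈ R := by
    intro g r hr
    obtain ⟨v, hv, e⟩ := (hmem r).1 hr
    refine (hmem _).2 ⟨φ g • v, by rw [quad_smul, hv], ?_⟩
    rw [map_mul, map_mul, map_inv, e, orefl_conj]
  have hsub : R ⊆ (K : Set (Cfsg.isometryGroup (ZMod 3) ⇑Q)) := fun r hr => Subgroup.subset_closure hr
  set D := {g : K | (g : Cfsg.isometryGroup (ZMod 3) ⇑Q) ∈ R} with hD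
  have h2 : ∀ d ∈ D, orderOf d = 2 := by
    intro d hd
    obtain ⟨v, hv, e⟩ := (hmem _).1 hd
    refine orderOf_eq_prime ?_ ?_
    · refine Subtype.ext (φ.injective ?_)
      rw [Subgroup.coe_pow, map_pow, e, pow_two, Subgroup.coe_one, map_one]
      nth_rw 2 [← orefl_inv]
      rw [mul_inv_cancel]
    · intro h1
      rw [h1, Subgroup.coe_one, map_one] at e
      have := congrArg (fun g : OQ Q => g • v) e
      simp only [one_smul, orefl_smul, bil_self, hv] at this
      have hv0 : v ≠ 0 := fun h => hc (by rw [← hv, h, QuadraticMap.map_zero])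
      rw [show c⁻¹ * (2 * c) = 2 by rw [mul_comm 2 c, ← mul_assoc, (f3_facts c hc).1, one_mul],
        eq_sub_iff_add_eq, add_eq_left, smul_eq_zero] at this
      exact this.elim (fun h => absurd h (by decide)) hv0
  have key : ∀ d ∈ D, ∀ e ∈ D, Commute d e ∨ d * e * d = e * d * e := by
    intro d hd e he
    obtain ⟨u, hu, ed⟩ := (hmem _).1 hd
    obtain ⟨v, hv, ee⟩ := (hmem _).1 he
    by_cases hf : bil Q u v = 0
    · left
      refine Subtype.ext (φ.injective ?_)
      rw [Subgroup.coe_mul, Subgroup.coe_mul, map_mul, map_mul, ed, ee]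
      exact orefl_comm _ _ hf
    · right
      refine Subtype.ext (φ.injective ?_)
      simp only [Subgroup.coe_mul, map_mul, ed, ee]
      exact braid hu hv hc hf
  have hset : Cfsg.IsThreeTranspositionSet D := by
    refine ⟨h2, fun d hd e he => ?_⟩
    have sd : d * d = 1 := by rw [← pow_two, ← h2 d hd]; exact pow_orderOf_eq_one d
    have se : e * e = 1 := by rw [← pow_two, ← h2 e he]; exact pow_orderOf_eq_one e
    rcases key d hd e he with h | h
    · left; rw [h.mul_pow, pow_two, pow_two, sd, se, one_mul]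
    · right
      calc (d * e) ^ 3 = (d * e * d) * (e * d * e) := by rw [pow_succ, pow_two]; group
        _ = (e * d * e) * (e * d * e) := by rw [h]
        _ = e * d * (e * e) * d * e := by group
        _ = e * (d * d) * e := by rw [se, mul_one]; group
        _ = 1 := by rw [sd, mul_one, se]
  have hstep : ∀ d e : K, d ∈ D → e ∈ D → ∀ u v (hu : Q u = c) (hv : Q v = c),
      φ d = orefl (b := u) (hu ▸ hc) → φ e = orefl (b := v) (hv ▸ hc) → bil Q u v ≠ 0 → IsConj d e := by
    intro d e hd he u v hu hv ed ee hf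
    have h : d * e * d = e * d * e := by
      refine Subtype.ext (φ.injective ?_)
      simp only [Subgroup.coe_mul, map_mul, ed, ee]
      exact braid hu hv hc hf
    have sd : d⁻¹ = d := inv_eq_of_mul_eq_one_right (by rw [← pow_two, ← h2 d hd]; exact pow_orderOf_eq_one d)
    have se : e⁻¹ = e := inv_eq_of_mul_eq_one_right (by rw [← pow_two, ← h2 e he]; exact pow_orderOf_eq_one e)
    refine isConj_iff.2 ⟨d * e, ?_⟩
    calc d * e * d * (d * e)⁻¹ = e * d * e * (e⁻¹ * d⁻¹) := by rw [h, _root_.mul_inv_rev]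
      _ = e := by group
  obtain ⟨v0, -, hv0⟩ := exists_norm_orth hN (Fin.elim0 : Fin 0 → (Fin n → ZMod 3)) (fun i => i.elim0)
    (fun i => i.elim0) (by omega) hc
  obtain ⟨d0, hd0, hφd0⟩ : ∃ d0 ∈ D, φ (d0 : K).1 = orefl (b := v0) (hv0 ▸ hc) := by
    have hm : φ.symm (orefl (b := v0) (hv0 ▸ hc)) ∈ R := (hmem _).2 ⟨v0, hv0, φ.apply_symm_apply _⟩
    exact ⟨⟨_, hsub hm⟩, hm, φ.apply_symm_apply _⟩
  refine ⟨hset, ⟨d0, hd0, Set.ext fun e => ⟨fun he => ?_, fun he => ?_⟩⟩, ?_⟩
  · show IsConj d0 e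
    obtain ⟨v, hv, ee⟩ := (hmem _).1 he
    by_cases hf : bil Q v0 v = 0
    · obtain ⟨y, hy, hy'⟩ := exists_norm_orth hN ![v0, v]
        (fun i => by fin_cases i <;> simp [hv0, hv, hc])
        (fun i j hij => by
          fin_cases i <;> fin_cases j <;> first
            | exact absurd rfl hij
            | exact hf
            | exact (bil_comm v v0).trans hf)
        (by omega) (neg_ne_zero.mpr hc)
      have y0 : bil Q y v0 = 0 := hy 0
      have y1 : bil Q y v = 0 := hy 1
      have hw : Q (y + (v0 + v)) = c := by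
        rw [quad_add, quad_add, hy', hv0, hv, hf, map_add, y0, y1, add_zero, add_zero]
        simpa using (f3_facts c hc).2.2.2
      have f0 : bil Q v0 (y + (v0 + v)) ≠ 0 := by
        rw [map_add, map_add, bil_comm v0 y, y0, bil_self, hv0, hf, zero_add, add_zero]
        exact (f3_facts c hc).2.2.1
      have f1 : bil Q (y + (v0 + v)) v ≠ 0 := by
        rw [bil_comm, map_add, map_add, bil_comm v y, y1, bil_self, hv, bil_comm v v0, hf, zero_add, zero_add]
        exact (f3_facts c hc).2.2.1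
      obtain ⟨m, hm, em⟩ : ∃ m ∈ D, φ (m : K).1 = orefl (b := y + (v0 + v)) (hw ▸ hc) := by
        have hm : φ.symm (orefl (b := y + (v0 + v)) (hw ▸ hc)) ∈ R :=
          (hmem _).2 ⟨_, hw, φ.apply_symm_apply _⟩
        exact ⟨⟨_, hsub hm⟩, hm, φ.apply_symm_apply _⟩
      exact (hstep d0 m hd0 hm _ _ hv0 hw hφd0 em f0).trans (hstep m e hm he _ _ hw hv em ee f1)
    · exact hstep d0 e hd0 he _ _ hv0 hv hφd0 ee hf
  · obtain ⟨g, rfl⟩ := isConj_iff.1 (show IsConj d0 e from he)
    exact hconjR _ _ hd0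
  · exact Subgroup.closure_closure_coe_preimage

end Cfsg.Agent.S5357
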