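import Cfsg.Statements.S5358
import Mathlib

set_option autoImplicit false
open scoped MatrixGroups
open Cfsg

namespace Cfsg.Agent.S5358

open Matrix

theorem polarVec_dot {n : ℕ} (Q : QuadraticForm (ZMod 3) (Fin n → ZMod 3)) (v x : Fin n → ZMod 3) :
    Cfsg.polarVec (⇑Q) v ⬝ᵥ x = QuadraticMap.polar (⇑Q) v x := by
  have hx : x = ∑ i, x i • Pi.single (M := fun _ : Fin n => ZMod 3) i 1 := by
    ext j; simp [Finset.sum_apply, Pi.single_apply]
  conv_rhs => rw [← QuadraticMap.polarBilin_apply_apply, hx, map_sum]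
  simp only [dotProduct, map_smul, QuadraticMap.polarBilin_apply_apply, smul_eq_mul]
  exact Finset.sum_congr rfl fun i _ => by rw [Cfsg.polarVec]; ring

/-- Let Q be a non-degenerate quadratic form on the n-dimensional coordinate space over the field with three elements and u, v vectors of the same non-zero norm Q(u) = Q(v) spanning different lines (v ≠ u and v ≠ −u). Then the reflection matrices of u and v commute if and only if u and v are orthogonal for the polar form of Q. -/
theorem result (n : ℕ) (Q : QuadraticForm (ZMod 3) (Fin n → ZMod 3)) (hQ : (QuadraticMap.polarBilin Q).Nondegenerate) (u v : Fin n → ZMod 3) (hu : Q u ≠ 0) (huv : Q u = Q v) (h1 : v ≠ u) (h2 : v ≠ -u) : Commute (Cfsg.reflectionMatrix (⇑Q) u) (Cfsg.reflectionMatrix (⇑Q) v) ↔ QuadraticMap.polar (⇑Q) u v = 0 := by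
  set wu := Cfsg.polarVec (⇑Q) u with hwu
  set wv := Cfsg.polarVec (⇑Q) v with hwv
  have hu3 : (Q u)⁻¹ ≠ 0 := inv_ne_zero hu
  have key : Commute (Cfsg.reflectionMatrix (⇑Q) u) (Cfsg.reflectionMatrix (⇑Q) v) ↔
      QuadraticMap.polar (⇑Q) u v • Matrix.vecMulVec u wv =
        QuadraticMap.polar (⇑Q) v u • Matrix.vecMulVec v wu := by
    have e1 : Matrix.vecMulVec u wu * Matrix.vecMulVec v wv =
        QuadraticMap.polar (⇑Q) u v • Matrix.vecMulVec u wv := by
      rw [Matrix.vecMulVec_mul_vecMulVec, polarVec_dot, Matrix.vecMulVec_smul]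
    have e2 : Matrix.vecMulVec v wv * Matrix.vecMulVec u wu =
        QuadraticMap.polar (⇑Q) v u • Matrix.vecMulVec v wu := by
      rw [Matrix.vecMulVec_mul_vecMulVec, polarVec_dot, Matrix.vecMulVec_smul]
    rw [← e1, ← e2]
    unfold Cfsg.reflectionMatrix Commute SemiconjBy
    rw [← hwu, ← hwv, ← huv]
    simp only [sub_mul, mul_sub, one_mul, mul_one, Matrix.smul_mul, Matrix.mul_smul]
    constructor
    · intro h
      have h' : (Q u)⁻¹ • (Q u)⁻¹ • (Matrix.vecMulVec u wu * Matrix.vecMulVec v wv -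
          Matrix.vecMulVec v wv * Matrix.vecMulVec u wu) = 0 := by
        rw [smul_sub, smul_sub]
        linear_combination (norm := module) h
      exact sub_eq_zero.mp (((smul_eq_zero.mp h').resolve_left hu3 |> smul_eq_zero.mp).resolve_left hu3)
    · intro h
      rw [h]; module
  rw [key, QuadraticMap.polar_comm (⇑Q) v u]
  refine ⟨fun h => ?_, fun h => by rw [h, zero_smul, zero_smul]⟩
  by_contra hne
  have h' : Matrix.vecMulVec u wv = Matrix.vecMulVec v wu := smul_right_injective _ hne h
  have h3 := congrArg (fun M => Matrix.mulVec M u) h'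
  simp only [Matrix.vecMulVec_mulVec, polarVec_dot, hwu, hwv, QuadraticMap.polar_self,
    op_smul_eq_smul] at h3
  have h22 : (2 : ZMod 3) ≠ 0 := by decide
  have hv : v = ((2 • Q u)⁻¹ * QuadraticMap.polar (⇑Q) v u) • u := by
    rw [← smul_smul, h3, smul_smul, inv_mul_cancel₀ (by rw [two_smul, ← two_mul]; exact mul_ne_zero h22 hu), one_smul]
  generalize (2 • Q u)⁻¹ * QuadraticMap.polar (⇑Q) v u = c at hv
  have hc : c = 0 ∨ c = 1 ∨ c = -1 := by clear hv; revert c; decide
  rcases hc with rfl | rfl | rfl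
  · apply hu
    rw [huv, hv, zero_smul]; exact QuadraticMap.map_zero Q
  · exact h1 (by rw [hv, one_smul])
  · exact h2 (by rw [hv, neg_one_smul])

end Cfsg.Agent.S5358
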