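import Cfsg.Statements.S5360
import Mathlib
import Cfsg.Agent.Lib.ClassicalSimple.OrthMatrix
import Cfsg.Agent.Lib.Components.Layer
import Cfsg.Agent.Lib.Components.Fitting
import Cfsg.Agent.Lib.Components.Quasisimple
import Cfsg.Agent.Lib.Components.Subnormal
import Cfsg.Agent.S5357
import Cfsg.Agent.S5359
import Cfsg.Agent.S0798

set_option autoImplicit false
open scoped MatrixGroups
open Cfsg

namespace Cfsg.Agent.S5360

open Cfsg.Agent
open Cfsg.Agent.ClassicalSimple
open Cfsg.Agent.S5357 (exists_norm_orth)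

theorem f3_a : ∀ c : ZMod 3, c ≠ 0 → c * c = 1 ∧ c + c = -c ∧ -c + -c = c ∧ -c ≠ 0 ∧ c + c ≠ 0 := by decide

theorem f3_b : ∀ c f : ZMod 3, c ≠ 0 → f ≠ 0 →
    (-(c * f)) * (-(c * f)) = 1 ∧ c + (-(c * f)) * (-(c * f)) * c - -(c * f) * f = 0 ∧
      f - (-(c * f)) * (2 * c) = 0 := by decide

variable {n : ℕ} {Q : QuadraticForm (ZMod 3) (Fin n → ZMod 3)} {c : ZMod 3}

theorem ne_of_q (hc : c ≠ 0) {v : Fin n → ZMod 3} (hv : Q v = c) : Q v ≠ 0 := hv ▸ hc

/-- the part of a norm-`c` vector orthogonal to a non-orthogonal one -/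
theorem split_nonorth (hc : c ≠ 0) {u v : Fin n → ZMod 3} (hu : Q u = c) (hv : Q v = c) (hf : bil Q v u ≠ 0) :
    ∃ t : ZMod 3, t * t = 1 ∧ bil Q (v - t • u) u = 0 ∧ Q (v - t • u) = 0 := by
  obtain ⟨h1, h2, h3⟩ := f3_b c _ hc hf
  refine ⟨-(c * bil Q v u), h1, ?_, ?_⟩
  · rw [map_sub, LinearMap.sub_apply, map_smul, LinearMap.smul_apply, smul_eq_mul, bil_self, hu]
    exact h3
  · rw [quad_sub, quad_smul_vec, map_smul, smul_eq_mul, hu, hv]
    exact h2

/-- hyperbolic partner orthogonal to `u` -/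
theorem exists_partner (hN : (bil Q).Nondegenerate) {u r : Fin n → ZMod 3} (hu : Q u ≠ 0) (hr0 : r ≠ 0)
    (hr : Q r = 0) (hru : bil Q r u = 0) : ∃ y, bil Q r y = 1 ∧ Q y = 0 ∧ bil Q y u = 0 := by
  obtain ⟨y0, hy0⟩ : ∃ y0, bil Q r y0 ≠ 0 := by
    by_contra hne; push Not at hne; exact hr0 (hN.1 r hne)
  have huu : bil Q u u ≠ 0 := by rw [bil_self]; exact mul_ne_zero (by decide) hu
  set y1 := (bil Q r y0)⁻¹ • (y0 - (bil Q y0 u / bil Q u u) • u) with hy1
  have h1 : bil Q r y1 = 1 := by
    rw [hy1, map_smul, map_sub, map_smul, hru, smul_zero, sub_zero, smul_eq_mul, inv_mul_cancel₀ hy0]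
  have h2 : bil Q y1 u = 0 := by
    rw [hy1, map_smul, LinearMap.smul_apply, map_sub, LinearMap.sub_apply, map_smul, LinearMap.smul_apply,
      smul_eq_mul (bil Q y0 u / bil Q u u), div_mul_cancel₀ _ huu, sub_self, smul_zero]
  clear_value y1
  refine ⟨y1 - Q y1 • r, ?_, ?_, ?_⟩
  · rw [map_sub, map_smul, h1, bil_self_of_singular hr, smul_zero, sub_zero]
  · rw [quad_sub, quad_smul_vec, hr, map_smul, bil_comm y1 r, h1, smul_eq_mul, mul_zero, add_zero, mul_one,
      sub_self]
  · rw [map_sub, LinearMap.sub_apply, h2, map_smul, LinearMap.smul_apply, hru, smul_zero, sub_zero]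

/-- vectors orthogonal to `u`, `r`, `y` -/
theorem exists_orth_three (hN : (bil Q).Nondegenerate) (hn : 5 ≤ n) {u r y : Fin n → ZMod 3} (hu : Q u ≠ 0)
    (hr : Q r = 0) (hy : Q y = 0) (hry : bil Q r y = 1) (hru : bil Q r u = 0) (hyu : bil Q y u = 0)
    {d : ZMod 3} (hd : d ≠ 0) : ∃ z, Q z = d ∧ bil Q z u = 0 ∧ bil Q z r = 0 ∧ bil Q z y = 0 := by
  have q1 : Q (r + y) = 1 := by rw [quad_add, hr, hy, hry, zero_add, zero_add]
  have q2 : Q (r - y) = -1 := by rw [quad_sub, hr, hy, hry, zero_add, zero_sub]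
  have o1 : bil Q u (r + y) = 0 := by rw [map_add, bil_comm u r, bil_comm u y, hru, hyu, add_zero]
  have o2 : bil Q u (r - y) = 0 := by rw [map_sub, bil_comm u r, bil_comm u y, hru, hyu, sub_zero]
  have o3 : bil Q (r + y) (r - y) = 0 := by
    rw [map_sub, map_add, LinearMap.add_apply, LinearMap.add_apply, bil_self_of_singular hr,
      bil_self_of_singular hy, bil_comm y r, zero_add, add_zero, sub_self]
  obtain ⟨z, hz, hzd⟩ := exists_norm_orth hN ![u, r + y, r - y]
    (fun i => by
      fin_cases i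
      · exact hu
      · show Q (r + y) ≠ 0; rw [q1]; decide
      · show Q (r - y) ≠ 0; rw [q2]; decide)
    (fun i j hij => by
      fin_cases i <;> fin_cases j <;> first
        | exact absurd rfl hij
        | exact o1
        | exact o2
        | exact o3
        | exact (bil_comm _ _).trans o1
        | exact (bil_comm _ _).trans o2
        | exact (bil_comm _ _).trans o3)
    (by simp; omega) hd
  have z0 : bil Q z u = 0 := hz 0
  have z1 : bil Q z (r + y) = 0 := hz 1
  have z2 : bil Q z (r - y) = 0 := hz 2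
  rw [map_add] at z1
  rw [map_sub, sub_eq_zero] at z2
  have z3 : bil Q z r = 0 := by
    rw [← z2] at z1
    exact (by decide : ∀ t : ZMod 3, t + t = 0 → t = 0) _ z1
  exact ⟨z, hzd, z0, z3, z2 ▸ z3⟩

end Cfsg.Agent.S5360

namespace Cfsg.Agent.S5360

open Cfsg.Agent Subgroup

theorem index_commutator_le_two {G : Type*} [Group G] {D : Set G} (hD : IsThreeTranspositionClass D) :
    (commutator G).index ≤ 2 := by
  obtain ⟨hset, ⟨d, hd, hDeq⟩, hgen⟩ := hD
  let π : G →* Abelianization G := Abelianization.of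
  have hall : ∀ e ∈ D, π e = π d := by
    intro e he
    rw [hDeq] at he
    obtain ⟨g, rfl⟩ := isConj_iff.1 he
    rw [map_mul, map_mul, map_inv, mul_inv_cancel_comm]
  have hr : π.range = Subgroup.zpowers (π d) := by
    rw [MonoidHom.range_eq_map, ← hgen, MonoidHom.map_closure, Subgroup.zpowers_eq_closure]
    congr 1
    ext x
    exact ⟨fun ⟨e, he, hx⟩ => hx ▸ hall e he, fun hx => ⟨d, hd, (Set.mem_singleton_iff.1 hx).symm⟩⟩
  have hk : π.ker = commutator G := Abelianization.ker_of G
  rw [← hk, Subgroup.index_ker, hr, Nat.card_zpowers]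
  refine orderOf_le_of_pow_eq_one two_pos ?_
  rw [← map_pow, ← hset.1 d hd, pow_orderOf_eq_one, map_one]

theorem genFitting_eq {G : Type*} [Group G] [Finite G] (hE : IsQuasisimple (commutator G))
    (hC : centralizer (commutator G : Set G) ≤ center G) :
    generalizedFittingSubgroup G = center G ⊔ commutator G := by
  have hcomp : IsComponent (commutator G) := ⟨(inferInstance : (commutator G).Normal).isSubnormal, hE⟩
  refine le_antisymm (sup_le (sSup_le fun L hL => ?_) (sSup_le fun N hN => ?_)) (sup_le ?_ ?_)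
  · rcases Components.IsComponent.le_or_commutator_eq_bot_of_normal hL (commutator G) with h | h
    · exact h.trans le_sup_right
    · exact ((Components.le_centralizer_of_commutator_eq_bot h).trans hC).trans le_sup_left
  · have := hN.1
    rcases Components.IsComponent.le_or_commutator_eq_bot_of_normal hcomp N with h | h
    · exfalso
      have := hN.2
      have : Group.IsNilpotent (commutator G) :=
        Group.nilpotent_of_mulEquiv (Subgroup.subgroupOfEquivOfLe h)
      exact Components.IsQuasisimple.not_isSolvable hE inferInstance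
    · exact ((Components.le_centralizer_of_commutator_eq_bot (Components.commutator_eq_bot_symm h)).trans hC).trans
        le_sup_left
  · have : Group.IsNilpotent (center G) := Components.isNilpotent_of_commutator_commutator (by
      rw [show ⁅center G, center G⁆ = ⊥ from Subgroup.commutator_eq_bot_iff_le_centralizer.2
        (fun x hx => Subgroup.mem_centralizer_iff.2 fun y _ => Subgroup.mem_center_iff.1 hx y),
        Subgroup.commutator_bot_left])
    exact (Components.le_fittingSubgroup (N := center G) inferInstance).trans le_sup_right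
  · exact (Components.IsComponent.le_layer hcomp).trans le_sup_left

/-- the two-point criterion for primitivity -/
theorem primitive_of_criterion {G : Type*} [Group G] {D : Set G} (hD : IsThreeTranspositionClass D)
    (h2 : ∃ a ∈ D, ∃ b ∈ D, a ≠ b)
    (hpair : ∀ S : Subgroup G, ∀ B : Set G, B ⊆ D →
      (∀ f ∈ D, (∃ b ∈ B, Commute f b) → f ∈ S) → (∀ g ∈ S, ∀ b ∈ B, g * b * g⁻¹ ∈ B) →
      ¬ B.Subsingleton → ∀ f ∈ D, ∃ b ∈ B, Commute f b) :
    IsPrimitiveUnderConj D := by
  obtain ⟨hset, ⟨d0, -, hDeq⟩, hgen⟩ := hD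
  have htrans : ∀ a ∈ D, ∀ b ∈ D, ∃ g : G, g * a * g⁻¹ = b := fun a ha b hb => by
    have h1 : IsConj d0 a := by rw [hDeq] at ha; exact ha
    have h2 : IsConj d0 b := by rw [hDeq] at hb; exact hb
    exact isConj_iff.1 (h1.symm.trans h2)
  refine ⟨htrans, h2, fun B hBD hblock => or_iff_not_imp_left.2 fun hns => ?_⟩
  let S : Subgroup G :=
    { carrier := {g | ∀ x, x ∈ B ↔ g * x * g⁻¹ ∈ B}
      one_mem' := fun x => by simp
      mul_mem' := fun {g k} hg hk x => by
        rw [hk x, hg (k * x * k⁻¹)]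
        simp [mul_assoc]
      inv_mem' := fun {g} hg x => by
        rw [inv_inv, hg (g⁻¹ * x * g)]
        simp [mul_assoc] }
  have hS : ∀ g : G, ∀ b ∈ B, g * b * g⁻¹ ∈ B → g ∈ S := by
    intro g b hb hgb
    rcases hblock g with h | h
    · intro x
      constructor
      · exact fun hx => h ▸ ⟨x, hx, rfl⟩
      · intro hx
        obtain ⟨y, hy, he⟩ := (h.symm ▸ hx : g * x * g⁻¹ ∈ (fun x => g * x * g⁻¹) '' B)
        rwa [mul_left_cancel (mul_right_cancel he)] at hy
    · exact absurd hgb (Set.disjoint_left.1 h ⟨b, hb, rfl⟩)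
  have hcomm : ∀ f ∈ D, (∃ b ∈ B, Commute f b) → f ∈ S := fun f _ ⟨b, hb, hfb⟩ =>
    hS f b hb (by rwa [hfb.eq, mul_inv_cancel_right])
  have hall := hpair S B hBD hcomm (fun g hg b hb => (hg b).1 hb) hns
  have htop : S = ⊤ := top_unique (hgen ▸ (Subgroup.closure_le S).2 fun f hf => hcomm f hf (hall f hf))
  obtain ⟨b, hb⟩ : B.Nonempty := by
    rw [Set.nonempty_iff_ne_empty]; rintro rfl; exact hns Set.subsingleton_empty
  refine Set.Subset.antisymm hBD fun e he => ?_
  obtain ⟨g, rfl⟩ := htrans b (hBD hb) e he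
  exact ((htop ▸ Subgroup.mem_top g : g ∈ S) b).1 hb

end Cfsg.Agent.S5360

namespace Cfsg.Agent.S5360

open Cfsg.Agent
open Cfsg.Agent.ClassicalSimple
open Cfsg.Agent.S5357 (exists_norm_orth)

/-- Let Q be a non-degenerate quadratic form on the n-dimensional coordinate space over the field with three elements, n ≥ 5, c a non-zero scalar, and R the subgroup of the isometry group generated by the reflections of norm c. Then the commutator subgroup of R is quasisimple of index at most 2, the generalized Fitting subgroup of R is the product of the centre and the commutator subgroup, and R acts primitively by conjugation on its reflections of norm c. -/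
theorem result (n : ℕ) (hn : 5 ≤ n) (Q : QuadraticForm (ZMod 3) (Fin n → ZMod 3)) (hQ : (QuadraticMap.polarBilin Q).Nondegenerate) (c : ZMod 3) (hc : c ≠ 0) : Cfsg.IsQuasisimple (commutator ↥(Cfsg.reflectionSubgroup (⇑Q) c)) ∧ (commutator ↥(Cfsg.reflectionSubgroup (⇑Q) c)).index ≤ 2 ∧ Cfsg.generalizedFittingSubgroup ↥(Cfsg.reflectionSubgroup (⇑Q) c) = Subgroup.center ↥(Cfsg.reflectionSubgroup (⇑Q) c) ⊔ commutator ↥(Cfsg.reflectionSubgroup (⇑Q) c) ∧ Cfsg.IsPrimitiveUnderConj {g : ↥(Cfsg.reflectionSubgroup (⇑Q) c) | (g : ↥(Cfsg.isometryGroup (ZMod 3) (⇑Q))) ∈ Cfsg.reflectionsOfNorm (⇑Q) c} := by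
  classical
  have hN : (bil Q).Nondegenerate := hQ
  have hn' : 5 ≤ Module.finrank (ZMod 3) (Fin n → ZMod 3) := by simpa using hn
  have hn'' : 5 ≤ Fintype.card (Fin n) := by simpa using hn
  set O := Cfsg.isometryGroup (ZMod 3) ⇑Q with hO
  set K : Subgroup O := Cfsg.reflectionSubgroup (⇑Q) c with hK
  set φ := isometryEquiv Q
  set D := {g : K | (g : O) ∈ Cfsg.reflectionsOfNorm (⇑Q) c} with hDdef
  have hD : Cfsg.IsThreeTranspositionClass D := S5357.result n hn Q hQ c hc
  have hidx : K.index = 2 := by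
    rcases Nat.even_or_odd n with he | ho
    · rw [← S0798.result (F := ZMod 3) (by decide) (by omega) he Q hQ (by omega) c hc]
      congr 1
      apply congrArg Subgroup.closure
      ext g
      constructor
      · rintro ⟨v, hv, hg⟩
        exact ⟨v, 1, one_ne_zero, by rw [hv, one_pow, mul_one], hg⟩
      · rintro ⟨v, t, ht, hv, hg⟩
        have h : ∀ t : ZMod 3, t ≠ 0 → t ^ 2 = 1 := by decide
        exact ⟨v, by rw [hv, h t ht, mul_one], hg⟩
    · exact S5359.result n hn ho Q hQ c hc
  -- commutator subgroup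
  set Ω : Subgroup O := Cfsg.Omega (ZMod 3) ⇑Q with hΩ
  have hΩperf : commutator Ω = ⊤ := Omega_perfect Q hN hn''
  have hΩΩ : ⁅Ω, Ω⁆ = Ω := by
    have h1 := Subgroup.map_commutator (⊤ : Subgroup Ω) ⊤ Ω.subtype
    rw [← commutator_def, hΩperf, ← MonoidHom.range_eq_map, Subgroup.range_subtype] at h1
    exact h1.symm
  have hΩK : Ω ≤ K := by
    have hKn : K.Normal := Subgroup.normal_of_index_eq_two hidx
    refine Subgroup.Normal.quotient_commutative_iff_commutator_le.1 ?_
    have hcard : Nat.card (O ⧸ K) = 2 := hidx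
    have : Fact (Nat.Prime 2) := ⟨Nat.prime_two⟩
    have := isCyclic_of_prime_card hcard
    exact IsCyclic.isMulCommutative
  have hmap : (commutator K).map K.subtype = Ω := by
    rw [commutator_def, Subgroup.map_commutator, ← MonoidHom.range_eq_map, Subgroup.range_subtype]
    exact le_antisymm (Subgroup.commutator_mono le_top le_top) (hΩΩ ▸ Subgroup.commutator_mono hΩK hΩK)
  have hQS : Cfsg.IsQuasisimple Ω := ⟨Group.isPerfect_def.mpr hΩperf, POmega_isSimpleGroup Q hN hn''⟩
  have hE : Cfsg.IsQuasisimple (commutator K) :=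
    (Components.isQuasisimple_congr (((commutator K).equivMapOfInjective K.subtype K.subtype_injective).trans
      (MulEquiv.subgroupCongr hmap))).2 hQS
  have hcent : Subgroup.centralizer (commutator K : Set K) ≤ Subgroup.center K := by
    intro k hk
    have hcomm : ∀ s ∈ siegelGroup Q, Commute (φ (k : O)) s := by
      intro s hs
      rw [← commutator_eq_siegelGroup hN hn', ← map_commutator_top φ] at hs
      obtain ⟨w, hw, rfl⟩ := hs
      have hw' : w ∈ (commutator K).map K.subtype := by rw [hmap]; exact hw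
      obtain ⟨e, he, rfl⟩ := hw'
      have := congrArg (fun x : K => φ (x : O)) (Subgroup.mem_centralizer_iff.1 hk e he)
      simp only [Subgroup.coe_mul, map_mul] at this
      exact this.symm
    obtain ⟨a, -, ha⟩ := orth_scalar_of_sameLine hN hn' (φ (k : O)) fun v hv0 hv =>
      orth_sameLine_of_commute hN hn' _ hcomm v hv0 hv
    refine Subgroup.mem_center_iff.2 fun g => Subtype.ext (φ.injective (OQ.ext' fun x => ?_))
    rw [Subgroup.coe_mul, Subgroup.coe_mul, map_mul, map_mul, mul_smul, mul_smul, ha, ha, smul_comm]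
  refine ⟨hE, index_commutator_le_two hD, genFitting_eq hE hcent, ?_⟩
  -- members of the class as vectors
  have hvec : ∀ f ∈ D, ∃ (v : Fin n → ZMod 3) (hv : Q v = c), φ (f : O) = orefl (ne_of_q hc hv) := by
    rintro f ⟨v, hv, e⟩
    exact ⟨v, hv, (isometryEquiv_eq_iff Q f.1 _ _ (reflectionMatrix_mulVec Q (ne_of_q hc hv))).2 e⟩
  have hmk : ∀ (v : Fin n → ZMod 3) (hv : Q v = c), ∃ f ∈ D, φ (f : O) = orefl (ne_of_q hc hv) := by
    intro v hv
    have hm : φ.symm (orefl (ne_of_q hc hv)) ∈ Cfsg.reflectionsOfNorm (⇑Q) c :=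
      ⟨v, hv, (isometryEquiv_eq_iff Q _ _ _ (reflectionMatrix_mulVec Q (ne_of_q hc hv))).1
        (φ.apply_symm_apply _)⟩
    exact ⟨⟨_, Subgroup.subset_closure hm⟩, hm, φ.apply_symm_apply _⟩
  have hinjK : ∀ f g : K, φ (f : O) = φ (g : O) → f = g := fun f g e => Subtype.ext (φ.injective e)
  have hcomm : ∀ (f g : K) (v w : Fin n → ZMod 3) (hv : Q v = c) (hw : Q w = c),
      φ (f : O) = orefl (ne_of_q hc hv) → φ (g : O) = orefl (ne_of_q hc hw) → bil Q v w = 0 → Commute f g := by
    intro f g v w hv hw ef eg h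
    refine hinjK _ _ ?_
    rw [Subgroup.coe_mul, Subgroup.coe_mul, map_mul, map_mul, ef, eg]
    exact S5357.orefl_comm _ _ h
  have hne : ∀ (f g : K) (v w : Fin n → ZMod 3) (hv : Q v = c) (hw : Q w = c),
      φ (f : O) = orefl (ne_of_q hc hv) → φ (g : O) = orefl (ne_of_q hc hw) → bil Q v w = 0 → f ≠ g := by
    rintro f g v w hv hw ef eg h rfl
    rw [ef] at eg
    have := congrArg (fun r => r • v) eg
    simp only [orefl_smul, bil_self, hv, h, mul_zero, zero_smul, sub_zero] at this
    rw [show c⁻¹ * (2 * c) = 2 by rw [mul_left_comm, inv_mul_cancel₀ hc, mul_one], sub_eq_self, smul_eq_zero] at this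
    rcases this with h0 | h0
    · exact absurd h0 (by decide)
    · exact hc (by rw [← hv, h0, QuadraticMap.map_zero])
  obtain ⟨hset, -, -⟩ := hD
  have hsq : ∀ f ∈ D, f⁻¹ = f := fun f hf => inv_eq_of_mul_eq_one_right (by
    rw [← pow_two, ← hset.1 f hf]; exact pow_orderOf_eq_one f)
  refine primitive_of_criterion (S5357.result n hn Q hQ c hc) ?_ ?_
  · obtain ⟨u, -, hu⟩ := exists_norm_orth hN (Fin.elim0 : Fin 0 → (Fin n → ZMod 3)) (fun i => i.elim0)
      (fun i => i.elim0) (by omega) hc
    obtain ⟨v, hv0, hv⟩ := exists_norm_orth hN ![u] (fun i => by fin_cases i; exact ne_of_q hc hu)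
      (fun i j hij => absurd (Subsingleton.elim i j) hij) (by omega) hc
    obtain ⟨a, ha, ea⟩ := hmk v hv
    obtain ⟨b, hb, eb⟩ := hmk u hu
    exact ⟨a, ha, b, hb, hne a b v u hv hu ea eb (hv0 0)⟩
  intro S B hBD hS hSB hns
  -- a commuting pair inside the block
  have hpair : ∃ (d e : K) (u v : Fin n → ZMod 3) (hu : Q u = c) (hv : Q v = c), d ∈ B ∧ e ∈ B ∧
      φ (d : O) = orefl (ne_of_q hc hu) ∧ φ (e : O) = orefl (ne_of_q hc hv) ∧ bil Q v u = 0 := by
    rw [Set.not_subsingleton_iff] at hns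
    obtain ⟨d, hdB, e, heB, hde⟩ := hns
    obtain ⟨u, hu, ed⟩ := hvec d (hBD hdB)
    obtain ⟨v, hv, ee⟩ := hvec e (hBD heB)
    by_cases hf : bil Q v u = 0
    · exact ⟨d, e, u, v, hu, hv, hdB, heB, ed, ee, hf⟩
    obtain ⟨t, ht, hru, hr⟩ := split_nonorth hc hu hv hf
    set r := v - t • u with hrdef
    have hvr : v = t • u + r := by rw [hrdef]; abel
    clear_value r
    have hr0 : r ≠ 0 := by
      intro h0
      apply hde
      refine hinjK _ _ ?_
      rw [ed, ee]
      exact (S5357.orefl_smul_congr ht _ _ (by rw [hvr, h0, add_zero])).symm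
    obtain ⟨y, hry, hy, hyu⟩ := exists_partner hN (ne_of_q hc hu) hr0 hr hru
    obtain ⟨hcc, hc2, hc3, hc4, hc5⟩ := f3_a c hc
    obtain ⟨z, hz, hzu, hzr, hzy⟩ := exists_orth_three hN hn (ne_of_q hc hu) hr hy hry hru hyu hc4
    have hyr : bil Q y r = 1 := (bil_comm y r).trans hry
    have hrr := bil_self_of_singular hr
    have hyy := bil_self_of_singular hy
    have hrz : bil Q r z = 0 := (bil_comm r z).trans hzr
    have hyz : bil Q y z = 0 := (bil_comm y z).trans hzy
    have hQa : Q (c • r + y) = c := by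
      rw [quad_add, quad_smul_vec, hr, hy, map_smul, LinearMap.smul_apply, hry, smul_eq_mul, mul_zero,
        zero_add, zero_add, mul_one]
    have hQb : Q ((-c) • r + y + z) = c := by
      rw [quad_add, quad_add, quad_smul_vec, hr, hy, hz, map_smul, LinearMap.smul_apply, hry, map_add,
        LinearMap.add_apply, map_smul, LinearMap.smul_apply, hrz, hyz, smul_eq_mul, smul_eq_mul]
      simp only [mul_zero, zero_add, mul_one, add_zero]
      exact hc3
    obtain ⟨A, hA, eA⟩ := hmk _ hQa
    obtain ⟨B', hB', eB⟩ := hmk _ hQb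
    have hau : bil Q (c • r + y) u = 0 := by
      rw [map_add, LinearMap.add_apply, map_smul, LinearMap.smul_apply, hru, hyu, smul_zero, add_zero]
    have hbu : bil Q ((-c) • r + y + z) u = 0 := by
      rw [map_add, map_add, LinearMap.add_apply, LinearMap.add_apply, map_smul, LinearMap.smul_apply, hru, hyu,
        hzu, smul_zero, add_zero, add_zero]
    have hAB : A * B' ∈ S := mul_mem (hS A hA ⟨d, hdB, hcomm A d _ u hQa hu eA ed hau⟩)
      (hS B' hB' ⟨d, hdB, hcomm B' d _ u hQb hu eB ed hbu⟩)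
    set g : OQ Q := orefl (ne_of_q hc hQa) * orefl (ne_of_q hc hQb) with hg
    have hgu : g • u = u := by
      rw [hg, mul_smul, orefl_smul (ne_of_q hc hQb), bil_comm u, hbu, mul_zero, zero_smul, sub_zero, orefl_smul,
        bil_comm u, hau, mul_zero, zero_smul, sub_zero]
    have hci : c⁻¹ = c := inv_eq_of_mul_eq_one_right hcc
    have hgr : g • r = r - c • (c • r + y) - c • ((-c) • r + y + z) := by
      have e1 : bil Q r ((-c) • r + y + z) = 1 := by
        rw [map_add, map_add, map_smul, hrr, hry, hrz, smul_zero, zero_add, add_zero]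
      have e2 : bil Q r (c • r + y) = 1 := by rw [map_add, map_smul, hrr, hry, smul_zero, zero_add]
      have e3 : bil Q ((-c) • r + y + z) (c • r + y) = 0 := by
        simp only [map_add, map_smul, LinearMap.add_apply, LinearMap.smul_apply, smul_eq_mul, hrr, hyy, hry,
          hyr, hzr, hzy, mul_zero, zero_add, add_zero, mul_one]
        exact add_neg_cancel c
      rw [hg, mul_smul, orefl_smul (ne_of_q hc hQb), orefl_smul, map_sub, LinearMap.sub_apply, map_smul,
        LinearMap.smul_apply, e3, e1, e2, hQa, hQb, hci, smul_zero, sub_zero, mul_one]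
      abel
    have hQv' : Q (g • v) = c := by rw [quad_smul, hv]
    refine ⟨e, (A * B') * e * (A * B')⁻¹, v, g • v, hv, hQv', heB, hSB _ hAB e heB, ee, ?_, ?_⟩
    · rw [Subgroup.coe_mul, Subgroup.coe_mul, Subgroup.coe_inv, map_mul, map_mul, map_inv, ee,
        Subgroup.coe_mul, map_mul, eA, eB, ← hg, orefl_conj]
    · rw [hvr, smul_add, smul_comm g t, hgu, hgr]
      simp only [map_add, map_sub, map_smul, LinearMap.add_apply, LinearMap.sub_apply, LinearMap.smul_apply,
        smul_eq_mul, bil_self, hu, hr, hry, hyr, hru, hyu, hzu, hzr, (bil_comm u r).trans hru]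
      exact (by decide : ∀ t c : ZMod 3, t * t = 1 → c ≠ 0 →
        t * (t * (2 * c) + (0 - c * (c * 0 + 0) - c * (-c * 0 + 0 + 0))) +
          (t * 0 + (2 * 0 - c * (c * (2 * 0) + 1) - c * (-c * (2 * 0) + 1 + 0))) = 0) t c ht hc
  obtain ⟨d, e, u, v, hu, hv, hdB, heB, ed, ee, hvu⟩ := hpair
  -- moving `e` by reflections commuting with `d`
  have move : ∀ (a b : Fin n → ZMod 3) (ha : Q a = c) (hb : Q b = c) (f g : K), f ∈ D → g ∈ D →
      φ (f : O) = orefl (ne_of_q hc ha) → φ (g : O) = orefl (ne_of_q hc hb) → bil Q a u = 0 → bil Q b u = 0 →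
      bil Q a b ≠ 0 → f ∈ B → g ∈ B := by
    intro a b ha hb f g hf hg ef eg hau hbu hab hfB
    have hfg : f * g ∈ S := mul_mem (hS f hf ⟨d, hdB, hcomm f d a u ha hu ef ed hau⟩)
      (hS g hg ⟨d, hdB, hcomm g d b u hb hu eg ed hbu⟩)
    have hbr : f * g * f = g * f * g := by
      refine hinjK _ _ ?_
      simp only [Subgroup.coe_mul, map_mul, ef, eg]
      exact S5357.braid ha hb hc hab
    have := hSB _ hfg f hfB
    rwa [_root_.mul_inv_rev, hsq f hf, hsq g hg, hbr, show g * f * g * (g * f) = g * f * (g * g) * f by group,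
      show g * g = 1 by nth_rw 1 [← hsq g hg]; exact inv_mul_cancel g, mul_one, mul_assoc,
      show f * f = 1 by nth_rw 1 [← hsq f hf]; exact inv_mul_cancel f, mul_one] at this
  have orbit : ∀ (b : Fin n → ZMod 3) (hb : Q b = c) (g : K), g ∈ D → φ (g : O) = orefl (ne_of_q hc hb) →
      bil Q b u = 0 → g ∈ B := by
    intro b hb g hg eg hbu
    by_cases hvb : bil Q v b = 0
    · obtain ⟨hcc, hc2, hc3, hc4, hc5⟩ := f3_a c hc
      have huv : bil Q u v = 0 := (bil_comm u v).trans hvu
      have hub : bil Q u b = 0 := (bil_comm u b).trans hbu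
      obtain ⟨y, hy, hy'⟩ := exists_norm_orth hN ![u, v, b]
        (fun i => by fin_cases i <;> simp [hu, hv, hb, hc])
        (fun i j hij => by
          fin_cases i <;> fin_cases j <;> first
            | exact absurd rfl hij
            | exact huv
            | exact hvu
            | exact hub
            | exact hbu
            | exact hvb
            | exact (bil_comm b v).trans hvb)
        (by simp; omega) hc4
      have y0 : bil Q y u = 0 := hy 0
      have y1 : bil Q y v = 0 := hy 1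
      have y2 : bil Q y b = 0 := hy 2
      have hw : Q (y + (v + b)) = c := by
        rw [quad_add, quad_add, hy', hv, hb, hvb, map_add, y1, y2, add_zero, add_zero, hc2]
        simpa using hc3
      obtain ⟨m, hm, em⟩ := hmk _ hw
      have mu : bil Q (y + (v + b)) u = 0 := by
        rw [map_add, map_add, LinearMap.add_apply, LinearMap.add_apply, y0, hvu, hbu, add_zero, add_zero]
      refine move _ b hw hb m g hm hg em eg mu hbu ?_ (move v _ hv hw e m (hBD heB) hm ee em hvu mu ?_ heB)
      · rw [map_add, map_add, LinearMap.add_apply, LinearMap.add_apply, y2, hvb, bil_self, hb, zero_add, zero_add,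
          two_mul]
        exact hc5
      · rw [map_add, map_add, bil_comm v y, y1, bil_self, hv, hvb, zero_add, add_zero, two_mul]
        exact hc5
    · exact move v b hv hb e g (hBD heB) hg ee eg hvu hbu hvb heB
  intro f hf
  obtain ⟨w, hw, ef⟩ := hvec f hf
  by_cases hfu : bil Q w u = 0
  · exact ⟨d, hdB, hcomm f d w u hw hu ef ed hfu⟩
  obtain ⟨t, ht, hru, hr⟩ := split_nonorth hc hu hw hfu
  by_cases hr0 : w - t • u = 0
  · refine ⟨d, hdB, ?_⟩
    have : f = d := hinjK _ _ (by rw [ef, ed]; exact S5357.orefl_smul_congr ht _ _ (sub_eq_zero.1 hr0))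
    rw [this]; exact Commute.refl d
  obtain ⟨y, hry, hy, hyu⟩ := exists_partner hN (ne_of_q hc hu) hr0 hr hru
  obtain ⟨x, hx, hxu, hxr, -⟩ := exists_orth_three hN hn (ne_of_q hc hu) hr hy hry hru hyu hc
  obtain ⟨g, hg, eg⟩ := hmk x hx
  refine ⟨g, orbit x hx g hg eg hxu, hcomm f g w x hw hx ef eg ?_⟩
  rw [map_sub, map_smul, hxu, smul_zero, sub_zero] at hxr
  rw [bil_comm]; exact hxr

end Cfsg.Agent.S5360
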