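import Cfsg.Statements.S5363
import Mathlib

set_option autoImplicit false
open Cfsg

namespace Cfsg.Agent.S5363

theorem inv_of_mem {G : Type*} [Group G] {a : G} (ha : orderOf a = 2) : a * a = 1 := by
  rw [← pow_two, ← ha]; exact pow_orderOf_eq_one a

theorem commute_of_sq {G : Type*} [Group G] {a b : G} (ha : a * a = 1) (hb : b * b = 1)
    (h : a * b * (a * b) = 1) : Commute a b := by
  have h1 : b * a = a * b := by
    calc b * a = (a * a) * (b * a) * (b * b) := by rw [ha, hb, one_mul, mul_one]
      _ = a * (a * b * (a * b)) * b := by group
      _ = a * b := by rw [h, mul_one]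
  exact h1.symm

theorem sq_of_commute {G : Type*} [Group G] {a b : G} (ha : a * a = 1) (hb : b * b = 1)
    (h : Commute a b) : a * b * (a * b) = 1 := by
  calc a * b * (a * b) = a * (b * a) * b := by group
    _ = a * a * (b * b) := by rw [← h.eq]; group
    _ = 1 := by rw [ha, hb, one_mul]

/-- Let D be a conjugation-invariant set of involutions of a finite group G. Then every product of two members of D has odd order or order 2 if and only if, for every a in D and every b in D different from a and commuting with a, the members of D commuting with a b are exactly those commuting with both a and b. -/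
theorem result {G : Type*} [Group G] [Finite G] {D : Set G} (hinv : ∀ d ∈ D, orderOf d = 2) (hconj : ∀ g : G, ∀ d ∈ D, g * d * g⁻¹ ∈ D) : (∀ a ∈ D, ∀ b ∈ D, Odd (orderOf (a * b)) ∨ orderOf (a * b) = 2) ↔ ∀ a ∈ D, ∀ b ∈ D, b ≠ a → Commute a b → {y : G | y ∈ D ∧ Commute (a * b) y} = {y : G | y ∈ D ∧ Commute a y} ∩ {y : G | y ∈ D ∧ Commute b y} := by
  constructor
  · intro hodd a ha b hb hne hab
    have key : ∀ u ∈ D, ∀ v ∈ D, ∀ y ∈ D, Commute u v → u ≠ v → Commute (u * v) y → Commute u y := by
      intro u hu v hv y hy huv huv' hy'
      have u2 := inv_of_mem (hinv u hu)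
      have v2 := inv_of_mem (hinv v hv)
      have y2 := inv_of_mem (hinv y hy)
      set w := u * v with hwdef
      have w2 : w * w = 1 := sq_of_commute u2 v2 huv
      have hwu : Commute w u := (Commute.refl u).mul_left huv.symm
      rcases hodd u hu y hy with ho | ho
      · -- the product has odd order, so it conjugates `u` to `y` inside the centraliser of `w`
        have hwo : orderOf w = 2 := by
          refine orderOf_eq_prime (by rw [pow_two, w2]) (fun h => huv' ?_)
          calc u = u * (v * v) := by rw [v2, mul_one]
            _ = (u * v) * v := by group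
            _ = v := by rw [← hwdef, h, one_mul]
        obtain ⟨k, hk⟩ := ho
        set c := u * y with hc
        have hk' : c ^ (2 * k + 1) = 1 := by rw [← hk]; exact pow_orderOf_eq_one c
        have hcon : c ^ k * u * (c ^ k)⁻¹ = y := by
          have hflip : ∀ n : ℕ, u * c ^ n * u = (c ^ n)⁻¹ := by
            intro n
            induction n with
            | zero => simp [u2]
            | succ n ih =>
              calc u * c ^ (n + 1) * u = u * c * (u * u) * c ^ n * u := by rw [u2, pow_succ']; group
                _ = (u * c * u) * (u * c ^ n * u) := by group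
                _ = (u * u) * y * u * (u * c ^ n * u) := by rw [hc]; group
                _ = (c ^ (n + 1))⁻¹ := by
                  rw [u2, ih, one_mul, pow_succ, _root_.mul_inv_rev, hc, _root_.mul_inv_rev,
                    inv_eq_of_mul_eq_one_right u2, inv_eq_of_mul_eq_one_right y2]
          calc c ^ k * u * (c ^ k)⁻¹ = c ^ k * u * (u * c ^ k * u) := by rw [hflip]
            _ = c ^ k * (u * u) * c ^ k * u := by group
            _ = c ^ (2 * k + 1) * (c⁻¹ * u) := by rw [u2, mul_one, pow_succ, two_mul, pow_add]; group
            _ = y := by
              rw [hk', one_mul, hc, _root_.mul_inv_rev, inv_eq_of_mul_eq_one_right u2, mul_assoc, u2, mul_one,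
                inv_eq_of_mul_eq_one_right y2]
        have hcw : Commute c w := (hwu.symm.mul_left hy'.symm)
        set y' := c ^ k * v * (c ^ k)⁻¹ with hy''
        have hy'D : y' ∈ D := hconj _ _ hv
        have hyv : y' = y * w := by
          calc y' = c ^ k * ((u * u) * v) * (c ^ k)⁻¹ := by rw [u2, one_mul]
            _ = (c ^ k * u * (c ^ k)⁻¹) * (c ^ k * w * (c ^ k)⁻¹) := by rw [hwdef]; group
            _ = y * w := by rw [hcon, (hcw.pow_left k).eq, mul_inv_cancel_right]
        by_contra hnc
        have hne1 : orderOf c ≠ 1 := by
          intro h1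
          apply hnc
          have : u = y := by
            calc u = u * (y * y) := by rw [y2, mul_one]
              _ = c * y := by rw [hc, ← mul_assoc]
              _ = y := by rw [orderOf_eq_one_iff.mp h1, one_mul]
          rw [this]
        have hprod : orderOf (u * y') = orderOf c * 2 := by
          rw [hyv, ← mul_assoc]
          rw [← hc, hcw.orderOf_mul_eq_mul_orderOf_of_coprime, hwo]
          rw [hwo, Nat.coprime_two_right]
          exact ⟨k, hk⟩
        rcases hodd u hu y' hy'D with h | h
        · rw [hprod] at h
          exact absurd h (by simp)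
        · rw [hprod] at h
          exact hne1 (by omega)
      · exact commute_of_sq u2 y2 (by rw [← pow_two, ← ho]; exact pow_orderOf_eq_one _)
    ext y
    simp only [Set.mem_setOf_eq, Set.mem_inter_iff]
    constructor
    · rintro ⟨hy, hy'⟩
      exact ⟨⟨hy, key a ha b hb y hy hab hne.symm hy'⟩, hy,
        key b hb a ha y hy hab.symm hne (by rw [← hab.eq]; exact hy')⟩
    · rintro ⟨⟨hy, h1⟩, -, h2⟩
      exact ⟨hy, h1.mul_left h2⟩
  · intro h a ha b hb
    have a2 := inv_of_mem (hinv a ha)
    have b2 := inv_of_mem (hinv b hb)
    rcases Nat.even_or_odd (orderOf (a * b)) with ⟨m, hm⟩ | ho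
    · right
      by_contra hne
      set c := a * b with hc
      have hm0 : 0 < m := by
        have := orderOf_pos c
        omega
      set z := c ^ m with hz
      have hz1 : z ≠ 1 := pow_ne_one_of_lt_orderOf (by omega) (by omega)
      have hcz : c ^ (m + m) = 1 := by rw [← hm]; exact pow_orderOf_eq_one c
      have hflip : ∀ n : ℕ, a * c ^ n * a = (c ^ n)⁻¹ := by
        intro n
        induction n with
        | zero => simp [a2]
        | succ n ih =>
          calc a * c ^ (n + 1) * a = a * c * (a * a) * c ^ n * a := by rw [a2, pow_succ']; group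
            _ = (a * c * a) * (a * c ^ n * a) := by group
            _ = (a * a) * b * a * (a * c ^ n * a) := by rw [hc]; group
            _ = (c ^ (n + 1))⁻¹ := by
              rw [a2, ih, one_mul, pow_succ, _root_.mul_inv_rev, hc, _root_.mul_inv_rev,
                inv_eq_of_mul_eq_one_right a2, inv_eq_of_mul_eq_one_right b2]
      have hzi : z⁻¹ = z := inv_eq_of_mul_eq_one_right (by rw [hz, ← pow_add, hcz])
      have haz : Commute a z := by
        have h1 := hflip m
        rw [← hz, hzi] at h1
        show a * z = z * a
        calc a * z = a * z * (a * a) := by rw [a2, mul_one]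
          _ = (a * z * a) * a := by group
          _ = z * a := by rw [h1]
      have hbz : Commute b z := by
        have hb' : b = a * c := by rw [hc, ← mul_assoc, a2, one_mul]
        rw [hb']
        exact haz.mul_left ((Commute.refl c).pow_right m)
      have hazD : a * z ∈ D := by
        rcases Nat.even_or_odd m with ⟨k, hk⟩ | ⟨k, hk⟩
        · have : (c ^ k)⁻¹ * a * ((c ^ k)⁻¹)⁻¹ = a * z := by
            rw [inv_inv, ← hflip k]
            calc a * c ^ k * a * a * c ^ k = a * c ^ k * (a * a) * c ^ k := by group
              _ = a * z := by rw [a2, mul_one, mul_assoc, ← pow_add, hz, hk]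
          rw [← this]; exact hconj _ _ ha
        · have : (c ^ k)⁻¹ * b * ((c ^ k)⁻¹)⁻¹ = a * z := by
            rw [inv_inv, ← hflip k]
            calc a * c ^ k * a * b * c ^ k = a * c ^ k * (a * b) * c ^ k := by group
              _ = a * (c ^ k * c * c ^ k) := by rw [← hc]; group
              _ = a * z := by rw [← pow_succ, ← pow_add, hz, hk]; congr 2; ring
          rw [← this]; exact hconj _ _ hb
      have hza : a * z ≠ a := fun e => hz1 (mul_eq_left.mp e)
      have e := h a ha (a * z) hazD hza ((Commute.refl a).mul_right haz)
      have hmem : b ∈ {y : G | y ∈ D ∧ Commute (a * (a * z)) y} := by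
        refine ⟨hb, ?_⟩
        rw [← mul_assoc, a2, one_mul]
        exact hbz.symm
      rw [e] at hmem
      have hcomm : Commute a b := hmem.1.2
      have hle : orderOf c ∣ 2 := orderOf_dvd_of_pow_eq_one (by
        rw [pow_two]; exact sq_of_commute a2 b2 hcomm)
      have := Nat.le_of_dvd two_pos hle
      omega
    · exact Or.inl ho

end Cfsg.Agent.S5363
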