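import Cfsg.Statements.S5365
import Cfsg.Agent.Lib.Fischer.LocalSymThree

set_option autoImplicit false
open Cfsg

namespace Cfsg.Agent.S5365

open Cfsg.Agent.Fischer Cfsg.Agent.Fischer.LocalSymThree

theorem perm_three_center : ∀ g : Equiv.Perm (Fin 3), (∀ h, g * h = h * g) → g = 1 := by decide

theorem prod_case {G : Type*} [Group G] {D : Set G} (hL : Local D) {d a : G} (hd : d ∈ D) (ha : a ∈ D)
    (hD : D = perp D d ∪ perp D a) (hc : ∀ x ∈ perp D d, ∀ y ∈ perp D a, Commute x y) :
    Nonempty (↥(Subgroup.closure D) ≃* Equiv.Perm (Fin 3) × Equiv.Perm (Fin 3)) := by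
  set A := Subgroup.closure (perp D d) with hA
  set B := Subgroup.closure (perp D a) with hB
  obtain ⟨eA⟩ := hL d hd
  obtain ⟨eB⟩ := hL a ha
  have hAB : ∀ (x : A) (y : B), Commute (A.subtype x) (B.subtype y) := by
    have h1 : ∀ y ∈ B, ∀ x ∈ perp D d, Commute x y := by
      intro y hy x hx
      induction hy using Subgroup.closure_induction with
      | mem y hy => exact hc x hx y hy
      | one => exact Commute.one_right _
      | mul p q _ _ hp hq => exact hp.mul_right hq
      | inv p _ hp => exact hp.inv_right
    intro x y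
    obtain ⟨x, hx⟩ := x
    show Commute x (y : G)
    induction hx using Subgroup.closure_induction with
    | mem x hx => exact h1 y.1 y.2 x hx
    | one => exact Commute.one_left _
    | mul p q _ _ hp hq => exact hp.mul_left hq
    | inv p _ hp => exact hp.inv_left
  let f := MonoidHom.noncommCoprod A.subtype B.subtype hAB
  have hinj : Function.Injective f := by
    rw [← MonoidHom.ker_eq_bot_iff, eq_bot_iff]
    rintro ⟨x, y⟩ hxy
    have h : (x : G) * (y : G) = 1 := hxy
    have hx : x = 1 := by
      apply eA.injective
      rw [map_one]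
      refine perm_three_center _ fun g => ?_
      obtain ⟨z, rfl⟩ := eA.surjective g
      rw [← map_mul, ← map_mul]
      refine congrArg eA (Subtype.ext ?_)
      show (x : G) * (z : G) = (z : G) * (x : G)
      rw [eq_inv_of_mul_eq_one_left h]
      exact (hAB z y).inv_right.eq.symm
    subst hx
    have hy : y = 1 := Subtype.ext (by simpa using h)
    subst hy
    exact Subgroup.mem_bot.2 rfl
  have hrange : f.range = Subgroup.closure D := by
    rw [MonoidHom.noncommCoprod_range, Subgroup.range_subtype, Subgroup.range_subtype, hA, hB,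
      ← Subgroup.closure_union, ← hD]
  exact ⟨((MulEquiv.subgroupCongr hrange.symm).trans (MonoidHom.ofInjective hinj).symm).trans
    (eA.prodCongr eB)⟩

theorem five_case {G : Type*} [Group G] {D : Set G} {d : G} {φ : Equiv.Perm (Fin 5) →* G}
    (hφ : FiveBlock D d φ) (hD : D = φ '' ↑swaps) :
    Nonempty (↥(Subgroup.closure D) ≃* Equiv.Perm (Fin 5)) := by
  have hgen : Subgroup.closure (↑swaps : Set (Equiv.Perm (Fin 5))) = ⊤ := by
    rw [eq_top_iff, ← Equiv.Perm.closure_isSwap]
    refine Subgroup.closure_mono ?_
    rintro σ ⟨i, j, hij, rfl⟩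
    exact swap_mem_swaps hij
  have hrange : φ.range = Subgroup.closure D := by
    rw [MonoidHom.range_eq_map, ← hgen, MonoidHom.map_closure, ← hD]
  exact ⟨(MulEquiv.subgroupCongr hrange.symm).trans (MonoidHom.ofInjective hφ.inj).symm⟩

/-- Let D be a non-empty conjugation-invariant set of involutions of a finite group G satisfying the 3-transposition order conditions, and suppose that for every d in D the members of D other than d commuting with d generate a subgroup isomorphic to the symmetric group of degree 3, and the largest normal 3-subgroup of the centralizer of d has order 3. Then the subgroup generated by D is isomorphic to the symmetric group of degree 5 or to the direct product of two symmetric groups of degree 3. -/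
theorem result {G : Type*} [Group G] [Finite G] {D : Set G} (hD : Cfsg.IsThreeTranspositionSet D) (hconj : ∀ g : G, ∀ d ∈ D, g * d * g⁻¹ ∈ D) (hne : D.Nonempty) (hloc : ∀ d ∈ D, Nonempty (↥(Subgroup.closure {y : G | y ∈ D ∧ y ≠ d ∧ Commute d y}) ≃* Equiv.Perm (Fin 3)) ∧ Nat.card (Cfsg.pCore 3 ↥(Subgroup.centralizer ({d} : Set G))) = 3) : Nonempty (↥(Subgroup.closure D) ≃* Equiv.Perm (Fin 5)) ∨ Nonempty (↥(Subgroup.closure D) ≃* Equiv.Perm (Fin 3) × Equiv.Perm (Fin 3)) := by
  classical
  have hT : TSet D := by
    refine ⟨fun a ha => ?_, fun a ha h => ?_, hD.2, hconj⟩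
    · have := pow_orderOf_eq_one a
      rwa [hD.1 a ha, pow_two] at this
    · have := hD.1 a ha
      rw [h, orderOf_one] at this
      exact absurd this (by norm_num)
  have hL : Local D := fun d hd => (hloc d hd).1
  obtain ⟨d, hd⟩ := hne
  obtain ⟨a, -, ha, -, -⟩ := perp_pair hL hd
  by_cases htw : ∃ v, Twin D d v
  · obtain ⟨v, hv⟩ := htw
    refine Or.inr (prod_case hL hd ha.1 (twin_block hT hL (fun x hx => (hloc x hx).2) hd hv ha)
      fun x hx y hy => ?_)
    have he := twin_perp_perp hT hL hd hv ha hy
    exact ((he ▸ hx : x ∈ perp D y).2.2).symm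
  · push Not at htw
    obtain ⟨φ, hφ⟩ := exists_five_block hT hL hd htw
    exact Or.inl (five_case hφ (five_block hT hL hd htw hφ))

end Cfsg.Agent.S5365
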