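import Cfsg.Statements.S5366
import Mathlib

set_option autoImplicit false
open Cfsg

namespace Cfsg.Agent.S5366

open Cfsg.LineSystem

/-- a reflection structure on a model plane -/
structure Refl {Y : Type*} (M : Set (Set Y)) (T : Y → Y → Y) : Prop where
  self : ∀ p, T p p = p
  third : ∀ k ∈ M, ∀ p q, p ∈ k → q ∈ k → p ≠ q → T p q ≠ p ∧ T p q ≠ q ∧ k = {p, q, T p q}
  fixed : ∀ p q, p ≠ q → (∀ k ∈ M, p ∈ k → q ∉ k) → T p q = q
  maps : ∀ p, ∀ k ∈ M, T p '' k ∈ M

/-- reflection of the affine plane -/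
def affineT (p q : Fin 2 → ZMod 3) : Fin 2 → ZMod 3 := -p - q

theorem affine_point : ∀ v w c d e : ZMod 3, c ≠ d → (e ≠ c ∧ e ≠ d) →
    v + e * w = -(v + c * w) - (v + d * w) := by decide

theorem affine_third : ∀ c d : ZMod 3, c ≠ d → -c - d ≠ c ∧ -c - d ≠ d ∧ ∀ e, e = c ∨ e = d ∨ e = -c - d := by
  decide

theorem affine_refl : Refl Cfsg.affinePlaneThree affineT := by
  refine ⟨fun p => funext fun i => ?_, ?_, ?_, ?_⟩
  · show -p i - p i = p i
    exact (by decide : ∀ a : ZMod 3, -a - a = a) (p i)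
  · rintro k ⟨v, w, hw, rfl⟩ p q ⟨c, rfl⟩ ⟨d, rfl⟩ hpq
    have hcd : c ≠ d := fun h => hpq (by rw [h])
    have e : affineT (v + c • w) (v + d • w) = v + (-c - d) • w := by
      funext i
      simp only [affineT, Pi.sub_apply, Pi.neg_apply, Pi.add_apply, Pi.smul_apply, smul_eq_mul]
      exact (affine_point _ _ c d _ hcd ⟨(affine_third c d hcd).1, (affine_third c d hcd).2.1⟩).symm
    obtain ⟨i, hi⟩ := Function.ne_iff.mp hw
    have inj : ∀ a b : ZMod 3, v + a • w = v + b • w → a = b := fun a b h => by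
      have := congrFun (add_left_cancel h) i
      exact mul_right_cancel₀ hi this
    rw [e]
    refine ⟨fun h => (affine_third c d hcd).1 (inj _ _ h), fun h => (affine_third c d hcd).2.1 (inj _ _ h), ?_⟩
    ext x
    simp only [Set.mem_setOf_eq, Set.mem_insert_iff, Set.mem_singleton_iff]
    constructor
    · rintro ⟨a, rfl⟩
      rcases (affine_third c d hcd).2.2 a with rfl | rfl | rfl
      · exact Or.inl rfl
      · exact Or.inr (Or.inl rfl)
      · exact Or.inr (Or.inr rfl)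
    · rintro (rfl | rfl | rfl) <;> exact ⟨_, rfl⟩
  · intro p q hpq h
    exact absurd ⟨1, by rw [one_smul, add_sub_cancel]⟩
      (h {x | ∃ c : ZMod 3, x = p + c • (q - p)} ⟨p, q - p, sub_ne_zero.mpr hpq.symm, rfl⟩
        ⟨0, by rw [zero_smul, add_zero]⟩)
  · rintro p k ⟨v, w, hw, rfl⟩
    refine ⟨-p - v, -w, neg_ne_zero.mpr hw, ?_⟩
    ext x
    constructor
    · rintro ⟨_, ⟨c, rfl⟩, rfl⟩
      exact ⟨c, by simp only [affineT, smul_neg]; abel⟩
    · rintro ⟨c, rfl⟩
      exact ⟨v + c • w, ⟨c, rfl⟩, by simp only [affineT, smul_neg]; abel⟩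

/-- the transposition attached to a point of the dual plane -/
def dualSwap (p : Finset (Fin 4)) (i : Fin 4) : Fin 4 := if i ∈ p then p.sum id - i else i

theorem dual_card : ∀ p q : Cfsg.DualAffinePoint, (q.1.image (dualSwap p.1)).card = 2 := by decide +kernel

/-- reflection of the dual affine plane -/
def dualT (p q : Cfsg.DualAffinePoint) : Cfsg.DualAffinePoint := ⟨q.1.image (dualSwap p.1), dual_card p q⟩

theorem dual_self : ∀ p, dualT p p = p := by decide +kernel

theorem dual_invol : ∀ p q, dualT p (dualT p q) = q := by decide +kernel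

theorem dual_third : ∀ p q : Cfsg.DualAffinePoint, p ≠ q → ∀ i, i ∉ p.1 → i ∉ q.1 →
    dualT p q ≠ p ∧ dualT p q ≠ q ∧ ∀ s : Cfsg.DualAffinePoint, i ∉ s.1 ↔ s = p ∨ s = q ∨ s = dualT p q := by
  decide +kernel

theorem dual_fixed : ∀ p q : Cfsg.DualAffinePoint, p ≠ q → (∀ i, i ∉ p.1 → i ∈ q.1) → dualT p q = q := by
  decide +kernel

theorem dual_maps : ∀ (p : Cfsg.DualAffinePoint) (i : Fin 4),
    ∀ s : Cfsg.DualAffinePoint, dualSwap p.1 i ∉ s.1 ↔ i ∉ (dualT p s).1 := by
  decide +kernel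

theorem dual_refl : Refl Cfsg.dualAffinePlaneTwo dualT := by
  refine ⟨dual_self, ?_, ?_, ?_⟩
  · rintro k ⟨i, rfl⟩ p q hp hq hpq
    obtain ⟨h1, h2, h3⟩ := dual_third p q hpq i hp hq
    exact ⟨h1, h2, Set.ext fun s => h3 s⟩
  · intro p q hpq h
    exact dual_fixed p q hpq fun i hi => by
      by_contra hq
      exact h _ ⟨i, rfl⟩ hi hq
  · rintro p k ⟨i, rfl⟩
    refine ⟨dualSwap p.1 i, Set.ext fun s => ?_⟩
    constructor
    · rintro ⟨u, hu, rfl⟩
      exact (dual_maps p i _).mpr (by rw [dual_invol]; exact hu)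
    · intro hs
      exact ⟨dualT p s, (dual_maps p i s).mp hs, dual_invol p s⟩

variable {X : Type*} {L : Set (Set X)}

theorem exists_third (hL : Cfsg.IsFischerSpace L) {k : Set X} (hk : k ∈ L) {x y : X} (hx : x ∈ k)
    (hy : y ∈ k) (hxy : x ≠ y) : ∃ z, z ≠ x ∧ z ≠ y ∧ k = {x, y, z} := by
  have h3 := hL.2.1 k hk
  obtain ⟨a, b, c, hab, hac, hbc, rfl⟩ := Set.ncard_eq_three.mp h3
  rcases hx with rfl | rfl | rfl <;> rcases hy with rfl | rfl | rfl
  all_goals first
    | exact absurd rfl hxy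
    | exact ⟨c, hac.symm, hbc.symm, rfl⟩
    | exact ⟨c, hbc.symm, hac.symm, Set.insert_comm _ _ _⟩
    | exact ⟨b, hab.symm, hbc, by rw [Set.pair_comm]⟩
    | exact ⟨b, hbc, hab.symm, by rw [Set.insert_comm, Set.pair_comm, Set.insert_comm]; ext t; simp [or_comm, or_left_comm]⟩
    | exact ⟨a, hab, hac, by ext t; simp [or_comm, or_left_comm]⟩
    | exact ⟨a, hac, hab, by ext t; simp [or_comm, or_left_comm]⟩

theorem lineMap_eq (hL : Cfsg.IsFischerSpace L) {x y z : X} (hxy : x ≠ y) (hzx : z ≠ x) (hzy : z ≠ y)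
    (h : ({x, y, z} : Set X) ∈ L) : lineMap L x y = z := by
  have hex : ∃ w : X, w ≠ x ∧ w ≠ y ∧ x ≠ y ∧ ({x, y, w} : Set X) ∈ L := ⟨z, hzx, hzy, hxy, h⟩
  rw [lineMap, dif_pos hex]
  obtain ⟨h1, h2, -, h4⟩ := hex.choose_spec
  have e := hL.1 _ h4 _ h x y hxy (by simp) (by simp) (by simp) (by simp)
  have : hex.choose ∈ ({x, y, z} : Set X) := e ▸ (by simp)
  rcases this with h | h | h
  · exact absurd h h1
  · exact absurd h h2
  · exact h

theorem lineMap_fixed {x y : X} (h : ∀ k ∈ L, x ∈ k → y ∈ k → x = y) : lineMap L x y = y := by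
  rw [lineMap, dif_neg]
  rintro ⟨z, -, -, hxy, hk⟩
  exact hxy (h _ hk (by simp) (by simp))

theorem lineMap_involutive (hL : Cfsg.IsFischerSpace L) (x : X) : Function.Involutive (lineMap L x) := by
  intro y
  by_cases h : ∃ k ∈ L, x ∈ k ∧ y ∈ k ∧ x ≠ y
  · obtain ⟨k, hk, hx, hy, hxy⟩ := h
    obtain ⟨z, hzx, hzy, rfl⟩ := exists_third hL hk hx hy hxy
    rw [lineMap_eq hL hxy hzx hzy hk, lineMap_eq hL hzx.symm hxy.symm hzy.symm]
    rwa [Set.pair_comm]
  · push Not at h
    rw [lineMap_fixed h, lineMap_fixed h]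

theorem isSubspace_span (S : Set X) : IsSubspace L (span L S) :=
  fun l hl a ha b hb hab hal hbl => Set.subset_sInter fun T hT => hT.2 l hl a (ha T hT) b (hb T hT) hab hal hbl

theorem lineMap_image_aux {Y : Type*} {M : Set (Set Y)} {T : Y → Y → Y}
    (hR : Refl M T) (hL : Cfsg.IsFischerSpace L) {S : Set X} (hS : IsSubspace L S)
    (hiso : Isomorphic (restrict L S) M) {x : X} (hx : x ∈ S) {l : Set X} (hl : l ∈ L) (hlS : l ⊆ S) :
    lineMap L x '' l ∈ L := by
  obtain ⟨e, he⟩ := hiso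
  have back : ∀ k ∈ M, ∃ j ∈ L, j ⊆ S ∧ ∀ u : S, (u : X) ∈ j ↔ e u ∈ k := by
    intro k hk
    obtain ⟨j, hj, hjS, hjk⟩ := (he (e ⁻¹' k)).mpr (by rwa [e.image_preimage])
    exact ⟨j, hj, hjS, fun u => (Set.ext_iff.mp hjk u).symm⟩
  have forth : ∀ j ∈ L, j ⊆ S → e '' {u : S | (u : X) ∈ j} ∈ M := fun j hj hjS =>
    (he _).mp ⟨j, hj, hjS, rfl⟩
  have key : ∀ u (hu : u ∈ S), lineMap L x u = (e.symm (T (e ⟨x, hx⟩) (e ⟨u, hu⟩)) : X) := by
    intro u hu
    by_cases hux : x = u
    · subst hux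
      rw [hR.self, e.symm_apply_apply, lineMap_fixed fun k _ _ _ => rfl]
    have hne : e ⟨x, hx⟩ ≠ e ⟨u, hu⟩ := fun h => hux (congrArg Subtype.val (e.injective h))
    by_cases h : ∃ k ∈ L, x ∈ k ∧ u ∈ k
    · obtain ⟨k, hk, hxk, huk⟩ := h
      have hkS : k ⊆ S := hS k hk x hx u hu hux hxk huk
      obtain ⟨h1, h2, h3⟩ := hR.third _ (forth k hk hkS) (e ⟨x, hx⟩) (e ⟨u, hu⟩)
        ⟨_, hxk, rfl⟩ ⟨_, huk, rfl⟩ hne
      set z := e.symm (T (e ⟨x, hx⟩) (e ⟨u, hu⟩)) with hz
      have hez : e z = T (e ⟨x, hx⟩) (e ⟨u, hu⟩) := e.apply_symm_apply _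
      have hzx : (z : X) ≠ x := fun h => h1 (by rw [← hez]; congr 1; exact Subtype.ext h)
      have hzu : (z : X) ≠ u := fun h => h2 (by rw [← hez]; congr 1; exact Subtype.ext h)
      have hk3 : k = {x, u, (z : X)} := by
        ext w
        constructor
        · intro hw
          have : e ⟨w, hkS hw⟩ ∈ e '' {u : S | (u : X) ∈ k} := ⟨_, hw, rfl⟩
          rw [h3, ← hez] at this
          rcases this with h | h | h <;> have h' := congrArg Subtype.val (e.injective h)
          · exact Or.inl h'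
          · exact Or.inr (Or.inl h')
          · exact Or.inr (Or.inr h')
        · rintro (rfl | rfl | rfl)
          · exact hxk
          · exact huk
          · have : e z ∈ e '' {u : S | (u : X) ∈ k} := by rw [h3, hez]; simp
            obtain ⟨v, hv, hv'⟩ := this
            rwa [e.injective hv'] at hv
      exact lineMap_eq hL hux hzx hzu (hk3 ▸ hk)
    · push Not at h
      rw [lineMap_fixed fun k hk hxk huk => absurd huk (h k hk hxk), hR.fixed _ _ hne ?_, e.symm_apply_apply]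
      intro k hk hxk huk
      obtain ⟨j, hj, -, hjk⟩ := back k hk
      exact h j hj ((hjk ⟨x, hx⟩).mpr hxk) ((hjk ⟨u, hu⟩).mpr huk)
  obtain ⟨j, hj, hjS, hjk⟩ := back _ (hR.maps (e ⟨x, hx⟩) _ (forth l hl hlS))
  convert hj
  ext w
  constructor
  · rintro ⟨u, hu, rfl⟩
    rw [key u (hlS hu), hjk, e.apply_symm_apply]
    exact ⟨_, ⟨⟨u, hlS hu⟩, hu, rfl⟩, rfl⟩
  · intro hw
    obtain ⟨_, ⟨u, hu, rfl⟩, hu'⟩ := (hjk ⟨w, hjS hw⟩).mp hw
    refine ⟨u, hu, ?_⟩
    rw [key u u.2, show (⟨(u : X), u.2⟩ : S) = u from rfl, hu', e.symm_apply_apply]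

theorem lineMap_image (hL : Cfsg.IsFischerSpace L) (x : X) {l : Set X} (hl : l ∈ L) :
    lineMap L x '' l ∈ L := by
  by_cases h : ∃ y ∈ l, ∃ k ∈ L, x ∈ k ∧ y ∈ k ∧ x ≠ y
  · obtain ⟨y, hyl, k, hk, hxk, hyk, hxy⟩ := h
    by_cases hkl : k = l
    · subst hkl
      obtain ⟨z, hzx, hzy, rfl⟩ := exists_third hL hk hxk hyk hxy
      rw [Set.image_insert_eq, Set.image_pair, lineMap_fixed fun k _ _ _ => rfl,
        lineMap_eq hL hxy hzx hzy hk,
        lineMap_eq hL hzx.symm hxy.symm hzy.symm (by rwa [Set.pair_comm]), Set.pair_comm z y]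
      exact hk
    have hS := isSubspace_span (L := L) (l ∪ k)
    have hsub : l ∪ k ⊆ span L (l ∪ k) := Set.subset_sInter fun T hT => hT.1
    rcases hL.2.2 l hl k hk (Ne.symm hkl) ⟨y, hyl, hyk⟩ with hi | hi
    · exact lineMap_image_aux dual_refl hL hS hi (hsub (Or.inr hxk)) hl (fun a ha => hsub (Or.inl ha))
    · exact lineMap_image_aux affine_refl hL hS hi (hsub (Or.inr hxk)) hl (fun a ha => hsub (Or.inl ha))
  · push Not at h
    have e : ∀ y ∈ l, lineMap L x y = y := fun y hy => lineMap_fixed (h y hy)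
    rwa [Set.image_congr e, Set.image_id']

/-- the reflection as a permutation -/
noncomputable def refl (hL : Cfsg.IsFischerSpace L) (x : X) : Equiv.Perm X :=
  (lineMap_involutive hL x).toPerm _

theorem refl_apply (hL : Cfsg.IsFischerSpace L) (x y : X) : refl hL x y = lineMap L x y := rfl

theorem refl_sq (hL : Cfsg.IsFischerSpace L) (x : X) : refl hL x * refl hL x = 1 :=
  Equiv.ext fun y => lineMap_involutive hL x y

theorem refl_conj (hL : Cfsg.IsFischerSpace L) (x y : X) :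
    refl hL x * refl hL y * refl hL x = refl hL (lineMap L x y) := by
  refine Equiv.ext fun w => ?_
  show lineMap L x (lineMap L y (lineMap L x w)) = _
  have hinv := lineMap_involutive hL x
  set t := lineMap L x
  set u := t w with hu
  have hw : w = t u := (hinv w).symm
  rw [refl_apply, hw]
  by_cases h : ∃ k ∈ L, y ∈ k ∧ u ∈ k ∧ y ≠ u
  · obtain ⟨k, hk, hy, huk, hyu⟩ := h
    obtain ⟨z, hzy, hzu, rfl⟩ := exists_third hL hk hy huk hyu
    rw [lineMap_eq hL hyu hzy hzu hk]
    refine (lineMap_eq hL (hinv.injective.ne hyu) (hinv.injective.ne hzy) (hinv.injective.ne hzu) ?_).symm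
    have := lineMap_image hL x hk
    rwa [Set.image_insert_eq, Set.image_pair] at this
  · push Not at h
    rw [lineMap_fixed h]
    refine (lineMap_fixed fun k hk h1 h2 => ?_).symm
    exact congrArg t (h _ (lineMap_image hL x hk) ⟨_, h1, hinv y⟩ ⟨_, h2, hinv u⟩)

/-- Let L be a nondegenerate Fischer space on the point type X (every point on a line). Then for every point x the map t(x) — sending a point collinear with x to the third point of their common line and fixing every other point — is a permutation of X of order 2 and an automorphism of the line system; and the set of all t(x) satisfies the 3-transposition order conditions in the permutation group of X (any two have product of order at most 3). -/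
theorem result {X : Type*} (L : Set (Set X)) (hL : Cfsg.IsFischerSpace L) (hnd : Cfsg.LineSystem.IsNondegenerate L) : (∀ x : X, ∃ σ : Equiv.Perm X, ⇑σ = Cfsg.LineSystem.lineMap L x ∧ orderOf σ = 2 ∧ Cfsg.LineSystem.IsIso L L σ) ∧ Cfsg.IsThreeTranspositionSet {σ : Equiv.Perm X | ∃ x : X, ⇑σ = Cfsg.LineSystem.lineMap L x} := by
  refine ⟨fun x => ⟨refl hL x, rfl, ?_, fun l => ⟨fun hl => lineMap_image hL x hl, fun hl => ?_⟩⟩, ?_, ?_⟩
  · refine orderOf_eq_prime (by rw [pow_two]; exact refl_sq hL x) fun h => ?_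
    obtain ⟨k, hk, hxk⟩ := hnd x
    obtain ⟨a, b, c, hab, hac, hbc, rfl⟩ := Set.ncard_eq_three.mp (hL.2.1 k hk)
    obtain ⟨y, hy, hxy⟩ : ∃ y ∈ ({a, b, c} : Set X), x ≠ y := by
      by_cases hxa : x = a
      · exact ⟨b, by simp, hxa ▸ hab⟩
      · exact ⟨a, by simp, hxa⟩
    obtain ⟨z, hzx, hzy, e⟩ := exists_third hL hk hxk hy hxy
    have := congrFun (congrArg DFunLike.coe h) y
    rw [refl_apply, lineMap_eq hL hxy hzx hzy (e ▸ hk)] at this
    exact hzy this
  · have := lineMap_image hL x hl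
    rwa [show ((refl hL x) '' l) = lineMap L x '' l from rfl, ← Set.image_comp,
      (lineMap_involutive hL x).comp_self, Set.image_id] at this
  · rintro σ ⟨x, hx⟩
    obtain rfl : σ = refl hL x := Equiv.ext fun y => congrFun hx y
    refine orderOf_eq_prime (by rw [pow_two]; exact refl_sq hL x) fun h => ?_
    obtain ⟨k, hk, hxk⟩ := hnd x
    obtain ⟨a, b, c, hab, hac, hbc, rfl⟩ := Set.ncard_eq_three.mp (hL.2.1 k hk)
    obtain ⟨y, hy, hxy⟩ : ∃ y ∈ ({a, b, c} : Set X), x ≠ y := by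
      by_cases hxa : x = a
      · exact ⟨b, by simp, hxa ▸ hab⟩
      · exact ⟨a, by simp, hxa⟩
    obtain ⟨z, hzx, hzy, e⟩ := exists_third hL hk hxk hy hxy
    have := congrFun (congrArg DFunLike.coe h) y
    rw [refl_apply, lineMap_eq hL hxy hzx hzy (e ▸ hk)] at this
    exact hzy this
  · rintro σ ⟨x, hx⟩ τ ⟨y, hy⟩
    obtain rfl : σ = refl hL x := Equiv.ext fun w => congrFun hx w
    obtain rfl : τ = refl hL y := Equiv.ext fun w => congrFun hy w
    by_cases h : ∃ k ∈ L, x ∈ k ∧ y ∈ k ∧ x ≠ y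
    · right
      obtain ⟨k, hk, hxk, hyk, hxy⟩ := h
      obtain ⟨z, hzx, hzy, rfl⟩ := exists_third hL hk hxk hyk hxy
      have h1 := refl_conj hL x y
      have h2 := refl_conj hL y x
      rw [lineMap_eq hL hxy hzx hzy hk] at h1
      rw [lineMap_eq hL hxy.symm hzy hzx (by rwa [Set.insert_comm])] at h2
      set a := refl hL x
      set b := refl hL y
      calc (a * b) ^ 3 = (a * b * a) * (b * a * b) := by rw [pow_succ, pow_two]; group
        _ = refl hL z * refl hL z := by rw [h1, h2]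
        _ = 1 := refl_sq hL z
    · left
      push Not at h
      have h1 := refl_conj hL x y
      rw [lineMap_fixed h] at h1
      calc (refl hL x * refl hL y) ^ 2 = (refl hL x * refl hL y * refl hL x) * refl hL y := by
            rw [pow_two]; group
        _ = 1 := by rw [h1, refl_sq]

end Cfsg.Agent.S5366
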