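import Cfsg.Statements.S5367
import Mathlib
import Cfsg.Agent.Lib.Transpos.Basic
import Cfsg.Agent.Lib.Transpos.S4

set_option autoImplicit false
open Cfsg

namespace Cfsg.Agent.S5367

open Cfsg.Agent Cfsg.LineSystem

variable {G : Type*} [Group G] {D : Set G}

/-- the set of the three members of the dihedral group of two members -/
def tri (x y : D) : Set D := {z : D | (z : G) = x ∨ (z : G) = y ∨ (z : G) = (y : G) * x * (y : G)}

theorem tri_left (x y : D) : x ∈ tri x y := Or.inl rfl

theorem tri_right (x y : D) : y ∈ tri x y := Or.inr (Or.inl rfl)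

theorem tri_eq (hD : IsThreeTranspositionSet D) (x y : D) :
    {z : D | (z : G) = x ∨ (z : G) = y ∨ (z : G) = (y : G) * (x : G) * (y : G)⁻¹} = tri x y := by
  rw [tri, Transpos.inv_eq hD y.2]

theorem mem_lines (hD : IsThreeTranspositionSet D) (l : Set D) :
    l ∈ threeTranspositionLines D ↔ ∃ x y : D, ¬ Commute (x : G) (y : G) ∧ l = tri x y := by
  simp only [threeTranspositionLines, Set.mem_ofPred_eq, tri_eq hD]

theorem ne_of_not_commute {x y : D} (h : ¬ Commute (x : G) (y : G)) : x ≠ y := fun e => h (e ▸ Commute.refl _)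

theorem third_facts (hD : IsThreeTranspositionSet D) {x y : D} (h : ¬ Commute (x : G) (y : G)) {z : G}
    (hz : z = (y : G) * x * y) : z * x * z = y ∧ z * y * z = x ∧ ¬ Commute (x : G) z ∧ ¬ Commute (y : G) z := by
  have b := Transpos.braid hD x.2 y.2 h
  have sx := Transpos.sq_one hD x.2
  have sy := Transpos.sq_one hD y.2
  have e1 : z * x * z = y := by
    calc z * x * z = ((x : G) * y * x) * x * ((x : G) * y * x) := by rw [hz, b]
      _ = (x : G) * ((y : G) * ((x : G) * x) * x * y) * x := by group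
      _ = (x : G) * ((y : G) * x * y) * x := by rw [sx, mul_one]
      _ = (x : G) * ((x : G) * y * x) * x := by rw [b]
      _ = ((x : G) * x) * y * ((x : G) * x) := by group
      _ = y := by rw [sx, one_mul, mul_one]
  have e2 : z * y * z = x := by
    calc z * y * z = (y : G) * ((x : G) * ((y : G) * y) * y * x) * y := by rw [hz]; group
      _ = (y : G) * ((x : G) * y * x) * y := by rw [sy, mul_one]
      _ = ((y : G) * y) * x * ((y : G) * y) := by rw [b]; group
      _ = x := by rw [sy, one_mul, mul_one]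
  have zz : z * z = 1 := by
    calc z * z = (y : G) * x * ((y : G) * y) * x * y := by rw [hz]; group
      _ = (y : G) * ((x : G) * x) * y := by rw [sy, mul_one]; group
      _ = 1 := by rw [sx, mul_one, sy]
  refine ⟨e1, e2, fun c => h ?_, fun c => h ?_⟩
  · rw [← c.eq, mul_assoc, zz, mul_one] at e1
    rw [← e1]
  · rw [← c.eq, mul_assoc, zz, mul_one] at e2
    rw [e2]

theorem tri_comm (hD : IsThreeTranspositionSet D) {x y : D} (h : ¬ Commute (x : G) (y : G)) :
    tri y x = tri x y := by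
  ext w
  simp only [tri, Set.mem_ofPred_eq, Transpos.braid hD x.2 y.2 h]
  exact or_left_comm

theorem tri_props (hD : IsThreeTranspositionSet D) {x y u v : D} (h : ¬ Commute (x : G) (y : G))
    (hu : u ∈ tri x y) (hv : v ∈ tri x y) (huv : u ≠ v) :
    ¬ Commute (u : G) (v : G) ∧ tri u v = tri x y := by
  have hxy : ∀ w : D, (w : G) = (y : G) * x * y → tri x w = tri x y ∧ tri y w = tri x y := by
    intro w hw
    obtain ⟨h1, h2, -, -⟩ := third_facts hD h hw
    constructor
    · ext t; simp only [tri, Set.mem_ofPred_eq]; rw [h1, hw]; tauto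
    · ext t; simp only [tri, Set.mem_ofPred_eq]; rw [h2, hw]; tauto
  have f := fun w : D => third_facts hD h (z := (w : G))
  rcases hu with hu | hu | hu <;> rcases hv with hv | hv | hv
  · exact absurd (Subtype.ext (hu.trans hv.symm)) huv
  · rw [Subtype.ext hu, Subtype.ext hv]; exact ⟨h, rfl⟩
  · rw [Subtype.ext hu]; exact ⟨(f v hv).2.2.1, (hxy v hv).1⟩
  · rw [Subtype.ext hu, Subtype.ext hv]
    exact ⟨fun c => h c.symm, tri_comm hD h⟩
  · exact absurd (Subtype.ext (hu.trans hv.symm)) huv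
  · rw [Subtype.ext hu]; exact ⟨(f v hv).2.2.2, (hxy v hv).2⟩
  · rw [Subtype.ext hv]
    exact ⟨fun c => (f u hu).2.2.1 c.symm, (tri_comm hD (f u hu).2.2.1).trans (hxy u hu).1⟩
  · rw [Subtype.ext hv]
    exact ⟨fun c => (f u hu).2.2.2 c.symm, (tri_comm hD (f u hu).2.2.2).trans (hxy u hu).2⟩
  · exact absurd (Subtype.ext (hu.trans hv.symm)) huv

theorem lines_pair (hD : IsThreeTranspositionSet D) {l : Set D} (hl : l ∈ threeTranspositionLines D)
    {u v : D} (hu : u ∈ l) (hv : v ∈ l) (huv : u ≠ v) : ¬ Commute (u : G) (v : G) ∧ l = tri u v := by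
  obtain ⟨x, y, h, rfl⟩ := (mem_lines hD l).1 hl
  exact ⟨(tri_props hD h hu hv huv).1, (tri_props hD h hu hv huv).2.symm⟩

/-- building an isomorphism of the generated subspace with a model plane -/
theorem span_iso (hD : IsThreeTranspositionSet D) {Y : Type} (M : Set (Set Y)) (f : Y → D)
    (hf : Function.Injective f)
    (hline : ∀ k ∈ M, ∃ p ∈ k, ∃ q ∈ k, ∃ r ∈ k, k = {p, q, r} ∧ ¬ Commute (f p : G) (f q : G) ∧
      (f r : G) = (f q : G) * f p * (f q : G))
    (hjoin : ∀ p q, p ≠ q → ¬ Commute (f p : G) (f q : G) → ∃ k ∈ M, p ∈ k ∧ q ∈ k)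
    (seeds : Set Y) (hgen : ∀ P : Set Y, seeds ⊆ P →
      (∀ k ∈ M, ∀ p ∈ k, ∀ q ∈ k, p ∈ P → q ∈ P → p ≠ q → k ⊆ P) → P = Set.univ)
    {l m : Set D} (hl : l ∈ threeTranspositionLines D) (hm : m ∈ threeTranspositionLines D)
    {u v w : D} (huv : u ≠ v) (huw : u ≠ w) (hul : u ∈ l) (hvl : v ∈ l) (hum : u ∈ m) (hwm : w ∈ m)
    (hru : u ∈ Set.range f) (hrv : v ∈ Set.range f) (hrw : w ∈ Set.range f)
    (hseeds : ∀ s ∈ seeds, f s ∈ l ∪ m) :
    Isomorphic (restrict (threeTranspositionLines D) (span (threeTranspositionLines D) (l ∪ m))) M := by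
  have himg : ∀ k ∈ M, f '' k ∈ threeTranspositionLines D := by
    intro k hk
    obtain ⟨p, -, q, -, r, -, rfl, hpq, hr⟩ := hline k hk
    rw [mem_lines hD]
    refine ⟨f p, f q, hpq, ?_⟩
    rw [Set.image_insert_eq, Set.image_pair]
    ext z
    simp only [tri, Set.mem_insert_iff, Set.mem_singleton_iff, Set.mem_ofPred_eq, ← hr, Subtype.coe_inj]
  have hpre : ∀ j ∈ threeTranspositionLines D, ∀ x ∈ j, ∀ y ∈ j, x ≠ y → x ∈ Set.range f → y ∈ Set.range f →
      ∃ k ∈ M, f '' k = j := by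
    rintro j hj x hx y hy hxy ⟨p, rfl⟩ ⟨q, rfl⟩
    obtain ⟨hc, rfl⟩ := lines_pair hD hj hx hy hxy
    obtain ⟨k, hk, hp, hq⟩ := hjoin p q (fun e => hxy (e ▸ rfl)) hc
    exact ⟨k, hk, (lines_pair hD (himg k hk) ⟨p, hp, rfl⟩ ⟨q, hq, rfl⟩ hxy).2⟩
  have hsub : IsSubspace (threeTranspositionLines D) (Set.range f) := by
    intro j hj x hx y hy hxy hxj hyj
    obtain ⟨k, -, rfl⟩ := hpre j hj x hxj y hyj hxy hx hy
    exact Set.image_subset_range _ _
  have hspan : span (threeTranspositionLines D) (l ∪ m) = Set.range f := by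
    refine subset_antisymm (Set.sInter_subset_of_mem ⟨?_, hsub⟩) (Set.subset_sInter fun T hT => ?_)
    · exact Set.union_subset (hsub l hl u hru v hrv huv hul hvl) (hsub m hm u hru w hrw huw hum hwm)
    · have hP := hgen (f ⁻¹' T) (fun s hs => hT.1 (hseeds s hs)) fun k hk p hp q hq hpT hqT hpq a ha =>
        hT.2 _ (himg k hk) (f p) hpT (f q) hqT (hf.ne hpq) ⟨p, hp, rfl⟩ ⟨q, hq, rfl⟩ ⟨a, ha, rfl⟩
      rintro _ ⟨a, rfl⟩
      exact (hP.symm ▸ Set.mem_univ a : a ∈ f ⁻¹' T)
  rw [hspan]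
  refine ⟨(Equiv.ofInjective f hf).symm, fun k' => ⟨?_, fun hk => ?_⟩⟩
  · rintro ⟨j, hj, hjS, rfl⟩
    obtain ⟨x, y, hc, rfl⟩ := (mem_lines hD j).1 hj
    have hxy := ne_of_not_commute hc
    obtain ⟨k, hk, e⟩ := hpre _ hj x (tri_left x y) y (tri_right x y) hxy (hjS (tri_left x y)) (hjS (tri_right x y))
    rw [← e]
    convert hk using 1
    rw [Equiv.image_symm_eq_preimage]
    ext a
    exact ⟨fun ⟨b, hb, hb'⟩ => hf hb' ▸ hb, fun ha => ⟨a, ha, rfl⟩⟩
  · refine ⟨f '' ((Equiv.ofInjective f hf).symm '' k'), himg _ hk, Set.image_subset_range _ _, ?_⟩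
    ext a
    obtain ⟨b, rfl⟩ := (Equiv.ofInjective f hf).surjective a
    constructor
    · intro ha
      exact ⟨b, ⟨_, ha, Equiv.symm_apply_apply _ b⟩, rfl⟩
    · rintro ⟨c, ⟨d, hd, rfl⟩, hc⟩
      rwa [← hf hc, Equiv.apply_symm_apply]

/-- the transposition attached to a two-element subset -/
def tr (s : DualAffinePoint) : Equiv.Perm (Fin 4) :=
  if h : s.1.Nonempty then Equiv.swap (s.1.min' h) (s.1.max' h) else 1

theorem tr_injective : ∀ p q : DualAffinePoint, tr p = tr q → p = q := by decide +kernel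

theorem tr_line : ∀ i : Fin 4, ∃ p q r : DualAffinePoint,
    (∀ s : DualAffinePoint, i ∉ s.1 ↔ s = p ∨ s = q ∨ s = r) ∧ tr p * tr q ≠ tr q * tr p ∧
      tr r = tr q * tr p * tr q := by
  decide +kernel

theorem tr_join : ∀ p q : DualAffinePoint, p ≠ q → tr p * tr q ≠ tr q * tr p → ∃ i, i ∉ p.1 ∧ i ∉ q.1 := by
  decide +kernel

theorem tr_conj : ∀ s : DualAffinePoint, ∃ g : Equiv.Perm (Fin 4), g * Equiv.swap 0 1 * g⁻¹ = tr s := by
  decide +kernel

theorem case_dual (hT : IsThreeTranspositionGroup D) {l m : Set D} (hl : l ∈ threeTranspositionLines D)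
    (hm : m ∈ threeTranspositionLines D) {a b c : D} (hal : a ∈ l) (hbl : b ∈ l) (ham : a ∈ m) (hcm : c ∈ m)
    (hab : a ≠ b) (hac : a ≠ c) (hbc : b ≠ c) (hcomm : Commute (b : G) (c : G)) :
    Isomorphic (restrict (threeTranspositionLines D) (span (threeTranspositionLines D) (l ∪ m)))
      dualAffinePlaneTwo := by
  have hD := hT.1
  have h : Transpos.S4Rel (b : G) a c :=
    ⟨Transpos.sq_one hD b.2, Transpos.sq_one hD a.2, Transpos.sq_one hD c.2,
      Transpos.braid hD a.2 b.2 (lines_pair hD hl hal hbl hab).1,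
      Transpos.braid hD c.2 a.2 fun e => (lines_pair hD hm ham hcm hac).1 e.symm, hcomm.symm⟩
  set φ := Transpos.s4Hom h
  have hφ := Transpos.s4Hom_injective h (fun e => hbc (Subtype.ext e))
  have g0 : φ (Equiv.swap 0 1) = b := Transpos.s4Hom_gen h 0
  have g1 : φ (Equiv.swap 1 2) = a := Transpos.s4Hom_gen h 1
  have g2 : φ (Equiv.swap 2 3) = c := Transpos.s4Hom_gen h 2
  have hmem : ∀ s, φ (tr s) ∈ D := fun s => by
    obtain ⟨g, hg⟩ := tr_conj s
    rw [← hg, map_mul, map_mul, map_inv, g0]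
    exact hT.2.1 _ _ b.2
  let s12 : DualAffinePoint := ⟨{1, 2}, rfl⟩
  let s01 : DualAffinePoint := ⟨{0, 1}, rfl⟩
  let s23 : DualAffinePoint := ⟨{2, 3}, rfl⟩
  have fa : (⟨_, hmem s12⟩ : D) = a := Subtype.ext ((congrArg φ (show tr s12 = Equiv.swap 1 2 by rfl)).trans g1)
  have fb : (⟨_, hmem s01⟩ : D) = b := Subtype.ext ((congrArg φ (show tr s01 = Equiv.swap 0 1 by rfl)).trans g0)
  have fc : (⟨_, hmem s23⟩ : D) = c := Subtype.ext ((congrArg φ (show tr s23 = Equiv.swap 2 3 by rfl)).trans g2)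
  have hnc : ∀ {p q}, tr p * tr q ≠ tr q * tr p → ¬ Commute (φ (tr p)) (φ (tr q)) := fun hne e =>
    hne (hφ (by rw [map_mul, map_mul]; exact e.eq))
  refine span_iso hD dualAffinePlaneTwo (fun s => ⟨φ (tr s), hmem s⟩)
    (fun p q e => tr_injective p q (hφ (congrArg Subtype.val e))) ?_ ?_ {s12, s01, s23} ?_ hl hm hab hac hal hbl
    ham hcm ⟨s12, fa⟩ ⟨s01, fb⟩ ⟨s23, fc⟩ ?_
  · rintro k ⟨i, rfl⟩
    obtain ⟨p, q, r, he, hne, hr⟩ := tr_line i
    refine ⟨p, (he p).2 (Or.inl rfl), q, (he q).2 (Or.inr (Or.inl rfl)), r,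
      (he r).2 (Or.inr (Or.inr rfl)), Set.ext fun s => he s, hnc hne, ?_⟩
    show φ (tr r) = _
    rw [hr, map_mul, map_mul]
  · intro p q hpq hne
    obtain ⟨i, hp, hq⟩ := tr_join p q hpq fun e => hne (by
      show φ (tr p) * φ (tr q) = φ (tr q) * φ (tr p)
      rw [← map_mul, ← map_mul, e])
    exact ⟨_, ⟨i, rfl⟩, hp, hq⟩
  · intro P hs hc
    let t02 : DualAffinePoint := ⟨{0, 2}, rfl⟩
    let t13 : DualAffinePoint := ⟨{1, 3}, rfl⟩
    let t03 : DualAffinePoint := ⟨{0, 3}, rfl⟩
    have h12 := hs (show s12 ∈ _ from Or.inl rfl)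
    have h01 := hs (show s01 ∈ _ from Or.inr (Or.inl rfl))
    have h23 := hs (show s23 ∈ _ from Or.inr (Or.inr rfl))
    have h02 : t02 ∈ P := hc _ ⟨3, rfl⟩ s12 (by decide) s01 (by decide) h12 h01 (by decide) (show (3 : Fin 4) ∉ t02.1 by decide)
    have h13 : t13 ∈ P := hc _ ⟨0, rfl⟩ s12 (by decide) s23 (by decide) h12 h23 (by decide) (show (0 : Fin 4) ∉ t13.1 by decide)
    have h03 : t03 ∈ P := hc _ ⟨2, rfl⟩ s01 (by decide) t13 (by decide) h01 h13 (by decide) (show (2 : Fin 4) ∉ t03.1 by decide)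
    refine Set.eq_univ_of_forall fun s => ?_
    have : ∀ s : DualAffinePoint, s = s12 ∨ s = s01 ∨ s = s23 ∨ s = t02 ∨ s = t13 ∨ s = t03 := by
      decide +kernel
    rcases this s with rfl | rfl | rfl | rfl | rfl | rfl <;> assumption
  · rintro s (rfl | rfl | rfl)
    · exact Or.inl (fa ▸ hal)
    · exact Or.inl (fb ▸ hbl)
    · exact Or.inr (fc ▸ hcm)

/-- point reflection in the affine plane -/
def aff (p q : Fin 2 → ZMod 3) : Fin 2 → ZMod 3 := -p - q

/-- the nine elements -/
def nine (a b c : G) (v : Fin 2 → ZMod 3) : G :=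
  ![![a, c, a * c * a], ![b, a * (b * c * b) * a, c * (a * b * a) * c],
    ![a * b * a, b * (a * c * a) * b, b * c * b]] (v 0) (v 1)

theorem case_affine (hT : IsThreeTranspositionGroup D) {l m : Set D} (hl : l ∈ threeTranspositionLines D)
    (hm : m ∈ threeTranspositionLines D) {a b c : D} (hal : a ∈ l) (hbl : b ∈ l) (ham : a ∈ m) (hcm : c ∈ m)
    (hab : a ≠ b) (hac : a ≠ c) (hnc : ∀ x ∈ l, ∀ y ∈ m, x ≠ a → y ≠ a → ¬ Commute (x : G) (y : G)) :
    Isomorphic (restrict (threeTranspositionLines D) (span (threeTranspositionLines D) (l ∪ m)))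
      affinePlaneThree := by
  have hD := hT.1
  obtain ⟨cab, lab⟩ := lines_pair hD hl hal hbl hab
  obtain ⟨cac, mac⟩ := lines_pair hD hm ham hcm hac
  have cbc := hnc b hbl c hcm hab.symm hac.symm
  have conjD : ∀ {x y : G}, x ∈ D → y ∈ D → x * y * x ∈ D := fun {x y} hx hy => by
    have := hT.2.1 x y hy
    rwa [Transpos.inv_eq hD hx] at this
  let b' : D := ⟨(a : G) * b * a, conjD a.2 b.2⟩
  let c' : D := ⟨(a : G) * c * a, conjD a.2 c.2⟩
  have hb' : b' ∈ l := lab ▸ Or.inr (Or.inr (Transpos.braid hD a.2 b.2 cab))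
  have hc' : c' ∈ m := mac ▸ Or.inr (Or.inr (Transpos.braid hD a.2 c.2 cac))
  have hb'a : b' ≠ a := fun e => cab (Transpos.commute_of_conj hD a.2 (by
    have e' : (a : G) * b * a = a := congrArg Subtype.val e
    have : (a : G) * ((a : G) * b * a) * a = a := by rw [e', Transpos.sq_one hD a.2, one_mul]
    rw [Transpos.conj_involutive hD a.2] at this
    rw [e', this]))
  have hc'a : c' ≠ a := fun e => cac (Transpos.commute_of_conj hD a.2 (by
    have e' : (a : G) * c * a = a := congrArg Subtype.val e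
    have : (a : G) * ((a : G) * c * a) * a = a := by rw [e', Transpos.sq_one hD a.2, one_mul]
    rw [Transpos.conj_involutive hD a.2] at this
    rw [e', this]))
  have cb'c : ¬ Commute ((a : G) * b * a) (c : G) := hnc b' hb' c hcm hb'a hac.symm
  have cbc' : ¬ Commute (b : G) ((a : G) * c * a) := hnc b hbl c' hc' hab.symm hc'a
  set F := nine (a : G) b c with hF
  have sa := Transpos.sq_one hD a.2
  have sb := Transpos.sq_one hD b.2
  have sc := Transpos.sq_one hD c.2
  have ia := Transpos.conj_involutive hD a.2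
  have ib := Transpos.conj_involutive hD b.2
  have ic := Transpos.conj_involutive hD c.2
  have bab := Transpos.braid hD a.2 b.2 cab
  have aca := Transpos.braid hD a.2 c.2 cac
  have bcb := Transpos.braid hD b.2 c.2 cbc
  have br1 : (a : G) * b * a * c * ((a : G) * b * a) = c * ((a : G) * b * a) * c :=
    Transpos.braid hD b'.2 c.2 cb'c
  have br2 : (b : G) * ((a : G) * c * a) * b = (a : G) * c * a * b * ((a : G) * c * a) :=
    Transpos.braid hD b.2 c'.2 cbc'
  have k1 : (a : G) * ((c : G) * ((a : G) * b * a) * c) * a = b * ((a : G) * c * a) * b := by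
    have e : (a : G) * ((c : G) * ((a : G) * b * a) * c) * a = (a : G) * c * a * b * ((a : G) * c * a) := by group
    rw [e, ← br2]
  have k2 : (b : G) * ((a : G) * ((b : G) * c * b) * a) * b = c * ((a : G) * b * a) * c := by
    have e : (b : G) * ((a : G) * ((b : G) * c * b) * a) * b = (b : G) * a * b * c * ((b : G) * a * b) := by group
    rw [e, ← bab, br1]
  have k3 : (c : G) * ((a : G) * ((b : G) * c * b) * a) * c = b * ((a : G) * c * a) * b := by
    calc (c : G) * ((a : G) * ((b : G) * c * b) * a) * c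
        = (c : G) * a * ((c : G) * b * c) * a * c := by rw [bcb]; group
      _ = ((c : G) * a * c) * b * ((c : G) * a * c) := by group
      _ = b * ((a : G) * c * a) * b := by rw [← aca, br2]
  have gen_a : ∀ p, (a : G) * F p * a = F (aff ![0, 0] p) := by
    intro p
    obtain ⟨i, j, rfl⟩ : ∃ i j, p = ![i, j] := ⟨p 0, p 1, funext fun t => by fin_cases t <;> rfl⟩
    fin_cases i <;> fin_cases j
    · show (a : G) * a * a = a; rw [sa, one_mul]
    · show (a : G) * c * a = (a : G) * c * a; rfl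
    · show (a : G) * ((a : G) * c * a) * a = c; exact ia _
    · show (a : G) * b * a = (a : G) * b * a; rfl
    · show (a : G) * ((a : G) * ((b : G) * c * b) * a) * a = (b : G) * c * b; exact ia _
    · show (a : G) * ((c : G) * ((a : G) * b * a) * c) * a = b * ((a : G) * c * a) * b; exact k1
    · show (a : G) * ((a : G) * b * a) * a = b; exact ia _
    · show (a : G) * (b * ((a : G) * c * a) * b) * a = c * ((a : G) * b * a) * c
      rw [← k1]; exact ia _
    · show (a : G) * ((b : G) * c * b) * a = (a : G) * ((b : G) * c * b) * a; rfl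
  have gen_b : ∀ p, (b : G) * F p * b = F (aff ![1, 0] p) := by
    intro p
    obtain ⟨i, j, rfl⟩ : ∃ i j, p = ![i, j] := ⟨p 0, p 1, funext fun t => by fin_cases t <;> rfl⟩
    fin_cases i <;> fin_cases j
    · show (b : G) * a * b = (a : G) * b * a; exact bab.symm
    · show (b : G) * c * b = (b : G) * c * b; rfl
    · show (b : G) * ((a : G) * c * a) * b = b * ((a : G) * c * a) * b; rfl
    · show (b : G) * b * b = b; rw [sb, one_mul]
    · show (b : G) * ((a : G) * ((b : G) * c * b) * a) * b = c * ((a : G) * b * a) * c; exact k2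
    · show (b : G) * ((c : G) * ((a : G) * b * a) * c) * b = (a : G) * ((b : G) * c * b) * a
      rw [← k2]; exact ib _
    · show (b : G) * ((a : G) * b * a) * b = a
      rw [bab]; exact ib _
    · show (b : G) * (b * ((a : G) * c * a) * b) * b = (a : G) * c * a; exact ib _
    · show (b : G) * ((b : G) * c * b) * b = c; exact ib _
  have gen_c : ∀ p, (c : G) * F p * c = F (aff ![0, 1] p) := by
    intro p
    obtain ⟨i, j, rfl⟩ : ∃ i j, p = ![i, j] := ⟨p 0, p 1, funext fun t => by fin_cases t <;> rfl⟩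
    fin_cases i <;> fin_cases j
    · show (c : G) * a * c = (a : G) * c * a; exact aca.symm
    · show (c : G) * c * c = c; rw [sc, one_mul]
    · show (c : G) * ((a : G) * c * a) * c = a
      rw [aca]; exact ic _
    · show (c : G) * b * c = (b : G) * c * b; exact bcb.symm
    · show (c : G) * ((a : G) * ((b : G) * c * b) * a) * c = b * ((a : G) * c * a) * b; exact k3
    · show (c : G) * ((c : G) * ((a : G) * b * a) * c) * c = (a : G) * b * a; exact ic _
    · show (c : G) * ((a : G) * b * a) * c = c * ((a : G) * b * a) * c; rfl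
    · show (c : G) * (b * ((a : G) * c * a) * b) * c = (a : G) * ((b : G) * c * b) * a
      rw [← k3]; exact ic _
    · show (c : G) * ((b : G) * c * b) * c = b
      rw [bcb]; exact ic _
  have step : ∀ g p0, (∀ p, F g * F p * F g = F (aff g p)) → (∀ p, F p0 * F p * F p0 = F (aff p0 p)) →
      ∀ p, F (aff g p0) * F p * F (aff g p0) = F (aff (aff g p0) p) := by
    intro g p0 hg h0 p
    rw [← hg p0]
    calc F g * F p0 * F g * F p * (F g * F p0 * F g)
        = F g * (F p0 * (F g * F p * F g) * F p0) * F g := by group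
      _ = F (aff g (aff p0 (aff g p))) := by rw [hg, h0, hg]
      _ = F (aff (aff g p0) p) := by
        congr 1; funext i
        simp only [aff, Pi.sub_apply, Pi.neg_apply]
        exact (by decide : ∀ g q p : ZMod 3, -g - (-q - (-g - p)) = -(-g - q) - p) _ _ _
  have conj_all : ∀ p q, F p * F q * F p = F (aff p q) := by
    have r00 : ∀ p, F ![0, 0] * F p * F ![0, 0] = F (aff ![0, 0] p) := gen_a
    have r10 : ∀ p, F ![1, 0] * F p * F ![1, 0] = F (aff ![1, 0] p) := gen_b
    have r01 : ∀ p, F ![0, 1] * F p * F ![0, 1] = F (aff ![0, 1] p) := gen_c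
    have r20 : ∀ p, F ![2, 0] * F p * F ![2, 0] = F (aff ![2, 0] p) := by
      rw [show (![2, 0] : Fin 2 → ZMod 3) = aff ![0, 0] ![1, 0] by decide]; exact step _ _ r00 r10
    have r02 : ∀ p, F ![0, 2] * F p * F ![0, 2] = F (aff ![0, 2] p) := by
      rw [show (![0, 2] : Fin 2 → ZMod 3) = aff ![0, 0] ![0, 1] by decide]; exact step _ _ r00 r01
    have r22 : ∀ p, F ![2, 2] * F p * F ![2, 2] = F (aff ![2, 2] p) := by
      rw [show (![2, 2] : Fin 2 → ZMod 3) = aff ![1, 0] ![0, 1] by decide]; exact step _ _ r10 r01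
    have r11 : ∀ p, F ![1, 1] * F p * F ![1, 1] = F (aff ![1, 1] p) := by
      rw [show (![1, 1] : Fin 2 → ZMod 3) = aff ![0, 0] ![2, 2] by decide]; exact step _ _ r00 r22
    have r21 : ∀ p, F ![2, 1] * F p * F ![2, 1] = F (aff ![2, 1] p) := by
      rw [show (![2, 1] : Fin 2 → ZMod 3) = aff ![1, 0] ![0, 2] by decide]; exact step _ _ r10 r02
    have r12 : ∀ p, F ![1, 2] * F p * F ![1, 2] = F (aff ![1, 2] p) := by
      rw [show (![1, 2] : Fin 2 → ZMod 3) = aff ![0, 1] ![2, 0] by decide]; exact step _ _ r01 r20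
    intro p
    obtain ⟨i, j, rfl⟩ : ∃ i j, p = ![i, j] := ⟨p 0, p 1, funext fun t => by fin_cases t <;> rfl⟩
    fin_cases i <;> fin_cases j
    exacts [r00, r01, r02, r10, r11, r12, r20, r21, r22]
  have hmem : ∀ p, F p ∈ D := by
    intro p
    obtain ⟨i, j, rfl⟩ : ∃ i j, p = ![i, j] := ⟨p 0, p 1, funext fun t => by fin_cases t <;> rfl⟩
    fin_cases i <;> fin_cases j
    exacts [a.2, c.2, conjD a.2 c.2, b.2, conjD a.2 (conjD b.2 c.2), conjD c.2 (conjD a.2 b.2),
      conjD a.2 b.2, conjD b.2 (conjD a.2 c.2), conjD b.2 c.2]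
  have hinj : Function.Injective F := by
    intro p q e
    by_contra hpq
    have htrans : ∀ s, F (s + (p - q)) = F s := by
      intro s
      have h1 := conj_all p (aff q s)
      rw [e, conj_all] at h1
      have e1 : aff q (aff q s) = s := by funext i; simp [aff]
      have e2 : aff p (aff q s) = s - (p - q) := by funext i; simp [aff]; ring
      rw [e1, e2] at h1
      rw [h1]
      conv_lhs => rw [show s + (p - q) = s + (p - q) from rfl]
      have h2 := conj_all q (aff p (s + (p - q)))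
      rw [← e, conj_all] at h2
      have e3 : aff p (aff p (s + (p - q))) = s + (p - q) := by funext i; simp [aff]
      have e4 : aff q (aff p (s + (p - q))) = s + (p - q) + (p - q) := by funext i; simp [aff]; ring
      rw [e3, e4] at h2
      rw [h2]
      congr 1
      funext i
      simp only [Pi.add_apply, Pi.sub_apply]
      exact (by decide : ∀ s d : ZMod 3, s + d + d = s - d) (s i) (p i - q i)
    obtain ⟨i, j, hd⟩ : ∃ i j, p - q = ![i, j] :=
      ⟨(p - q) 0, (p - q) 1, funext fun t => by fin_cases t <;> rfl⟩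
    have hd0 : (![i, j] : Fin 2 → ZMod 3) ≠ 0 := hd ▸ sub_ne_zero.mpr hpq
    rw [hd] at htrans
    have n1 : (a : G) ≠ b := fun h => hab (Subtype.ext h)
    have n2 : (a : G) ≠ c := fun h => hac (Subtype.ext h)
    have n3 : (b : G) ≠ c := fun h => cbc (h ▸ Commute.refl _)
    have n4 : (a : G) * b * a ≠ c := fun h => cb'c (h ▸ Commute.refl _)
    fin_cases i <;> fin_cases j
    · exact hd0 (funext fun t => by fin_cases t <;> rfl)
    · exact n2 (htrans ![0, 0]).symm
    · exact n2 (htrans ![0, 1])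
    · exact n1 (htrans ![0, 0]).symm
    · exact n4 (htrans ![2, 0]).symm
    · exact n3 (htrans ![0, 1])
    · exact n1 (htrans ![1, 0])
    · exact n3 (htrans ![1, 0]).symm
    · exact n4 (htrans ![0, 1])
  have hnc' : ∀ p q, p ≠ q → ¬ Commute (F p) (F q) := by
    intro p q hpq hc
    have h1 := conj_all p q
    rw [Transpos.conj_of_commute hD (hmem p) hc] at h1
    have h2 := hinj h1
    apply hpq
    funext i
    exact (by decide : ∀ p q : ZMod 3, q = -p - q → p = q) (p i) (q i) (congrFun h2 i)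
  refine span_iso hD affinePlaneThree (fun p => ⟨F p, hmem p⟩) (fun p q h => hinj (congrArg Subtype.val h))
    ?_ ?_ {![0, 0], ![1, 0], ![0, 1]} ?_ hl hm hab hac hal hbl ham hcm ⟨![0, 0], Subtype.ext rfl⟩
    ⟨![1, 0], Subtype.ext rfl⟩ ⟨![0, 1], Subtype.ext rfl⟩ ?_
  · rintro k ⟨v, w, hw, rfl⟩
    refine ⟨v, ⟨0, by simp⟩, v + w, ⟨1, by simp⟩, v + (2 : ZMod 3) • w, ⟨2, rfl⟩, ?_,
      hnc' _ _ fun e => hw (left_eq_add.mp e), ?_⟩
    · ext x
      simp only [Set.mem_ofPred_eq, Set.mem_insert_iff, Set.mem_singleton_iff]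
      constructor
      · rintro ⟨t, rfl⟩
        rcases (by decide : ∀ t : ZMod 3, t = 0 ∨ t = 1 ∨ t = 2) t with rfl | rfl | rfl
        · left; simp
        · right; left; simp
        · exact Or.inr (Or.inr rfl)
      · rintro (rfl | rfl | rfl)
        exacts [⟨0, by simp⟩, ⟨1, by simp⟩, ⟨2, rfl⟩]
    · show F (v + (2 : ZMod 3) • w) = F (v + w) * F v * F (v + w)
      rw [conj_all]
      congr 1
      funext i
      simp only [aff, Pi.sub_apply, Pi.neg_apply, Pi.add_apply, Pi.smul_apply, smul_eq_mul]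
      exact (by decide : ∀ v w : ZMod 3, v + 2 * w = -(v + w) - v) _ _
  · intro p q hpq _
    exact ⟨_, ⟨p, q - p, sub_ne_zero.mpr hpq.symm, rfl⟩, ⟨0, by simp⟩, ⟨1, by simp⟩⟩
  · intro P hs hc
    have third : ∀ p q, p ≠ q → p ∈ P → q ∈ P → aff p q ∈ P := fun p q hpq hp hq =>
      hc _ ⟨p, q - p, sub_ne_zero.mpr hpq.symm, rfl⟩ p ⟨0, by simp⟩ q ⟨1, by simp⟩ hp hq hpq ⟨2, by
        funext i
        simp only [aff, Pi.sub_apply, Pi.neg_apply, Pi.add_apply, Pi.smul_apply, smul_eq_mul]
        exact (by decide : ∀ p q : ZMod 3, -p - q = p + 2 * (q - p)) _ _⟩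
    have h00 := hs (show (![0, 0] : Fin 2 → ZMod 3) ∈ _ from Or.inl rfl)
    have h10 := hs (show (![1, 0] : Fin 2 → ZMod 3) ∈ _ from Or.inr (Or.inl rfl))
    have h01 := hs (show (![0, 1] : Fin 2 → ZMod 3) ∈ _ from Or.inr (Or.inr rfl))
    have ne : ∀ {x y : Fin 2 → ZMod 3}, (x 0 ≠ y 0 ∨ x 1 ≠ y 1) → x ≠ y := by
      rintro x y h rfl; simp at h
    have h20 : (![2, 0] : Fin 2 → ZMod 3) ∈ P := by
      rw [show (![2, 0] : Fin 2 → ZMod 3) = aff ![0, 0] ![1, 0] by decide]; exact third _ _ (ne (by decide)) h00 h10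
    have h02 : (![0, 2] : Fin 2 → ZMod 3) ∈ P := by
      rw [show (![0, 2] : Fin 2 → ZMod 3) = aff ![0, 0] ![0, 1] by decide]; exact third _ _ (ne (by decide)) h00 h01
    have h22 : (![2, 2] : Fin 2 → ZMod 3) ∈ P := by
      rw [show (![2, 2] : Fin 2 → ZMod 3) = aff ![1, 0] ![0, 1] by decide]; exact third _ _ (ne (by decide)) h10 h01
    have h11 : (![1, 1] : Fin 2 → ZMod 3) ∈ P := by
      rw [show (![1, 1] : Fin 2 → ZMod 3) = aff ![0, 0] ![2, 2] by decide]; exact third _ _ (ne (by decide)) h00 h22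
    have h21 : (![2, 1] : Fin 2 → ZMod 3) ∈ P := by
      rw [show (![2, 1] : Fin 2 → ZMod 3) = aff ![1, 0] ![0, 2] by decide]; exact third _ _ (ne (by decide)) h10 h02
    have h12 : (![1, 2] : Fin 2 → ZMod 3) ∈ P := by
      rw [show (![1, 2] : Fin 2 → ZMod 3) = aff ![0, 1] ![2, 0] by decide]; exact third _ _ (ne (by decide)) h01 h20
    refine Set.eq_univ_of_forall fun p => ?_
    obtain ⟨i, j, rfl⟩ : ∃ i j, p = ![i, j] := ⟨p 0, p 1, funext fun t => by fin_cases t <;> rfl⟩
    fin_cases i <;> fin_cases j <;> assumption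
  · rintro s (rfl | rfl | rfl)
    exacts [Or.inl hal, Or.inl hbl, Or.inr hcm]

/-- Let D be a conjugation-invariant generating set of 3-transpositions of a finite group G. Then the line system on D whose lines are the triples {x, y, y x y⁻¹} for non-commuting members x, y of D is a Fischer space: two points lie on at most one line, lines have three points, and two different meeting lines generate a subspace isomorphic to the dual affine plane of order two or to the affine plane of order three. -/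
theorem result {G : Type*} [Group G] [Finite G] {D : Set G} (hD : Cfsg.IsThreeTranspositionGroup D) : Cfsg.IsFischerSpace (Cfsg.threeTranspositionLines D) := by
  refine ⟨?_, ?_, ?_⟩
  · intro l hl m hm x y hxy hxl hyl hxm hym
    rw [(lines_pair hD.1 hl hxl hyl hxy).2, (lines_pair hD.1 hm hxm hym hxy).2]
  · intro l hl
    obtain ⟨x, y, h, rfl⟩ := (mem_lines hD.1 l).1 hl
    have hz : (y : G) * x * y ∈ D := by
      have := hD.2.1 (y : G) x x.2
      rwa [Transpos.inv_eq hD.1 y.2] at this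
    obtain ⟨-, -, hxz, hyz⟩ := third_facts hD.1 h (z := (y : G) * x * y) rfl
    refine Set.ncard_eq_three.mpr ⟨x, y, ⟨_, hz⟩, ne_of_not_commute h,
      ne_of_not_commute (y := ⟨_, hz⟩) hxz, ne_of_not_commute (y := ⟨_, hz⟩) hyz, ?_⟩
    ext w
    simp [tri, Subtype.ext_iff]
  · intro l hl m hm hlm ⟨a, hal, ham⟩
    have other : ∀ k ∈ threeTranspositionLines D, a ∈ k → ∃ b ∈ k, a ≠ b := by
      intro k hk hak
      obtain ⟨x, y, h, rfl⟩ := (mem_lines hD.1 k).1 hk
      by_cases hax : a = x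
      · exact ⟨y, tri_right x y, fun e => ne_of_not_commute h (hax ▸ e)⟩
      · exact ⟨x, tri_left x y, hax⟩
    by_cases h : ∃ b ∈ l, ∃ c ∈ m, b ≠ a ∧ c ≠ a ∧ Commute (b : G) (c : G)
    · left
      obtain ⟨b, hbl, c, hcm, hba, hca, hcomm⟩ := h
      refine case_dual hD hl hm hal hbl ham hcm hba.symm hca.symm ?_ hcomm
      rintro rfl
      exact hlm ((lines_pair hD.1 hl hal hbl hba.symm).2.trans (lines_pair hD.1 hm ham hcm hca.symm).2.symm)
    · right
      push Not at h
      obtain ⟨b, hbl, hab⟩ := other l hl hal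
      obtain ⟨c, hcm, hac⟩ := other m hm ham
      exact case_affine hD hl hm hal hbl ham hcm hab hac fun x hx y hy hxa hya => h x hx y hy hxa hya

end Cfsg.Agent.S5367
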