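import Cfsg.Statements.S5378
import Cfsg.Agent.Lib.ConwayType.Main
import Cfsg.Agent.Lib.Forms.OmegaTwoClasses
import Cfsg.Agent.Lib.Forms.QuadOrder
-- import your own Cfsg.Agent.* helpers here

set_option autoImplicit false
open Cfsg

namespace Cfsg.Agent.S5378

theorem card_omega : Nat.card (Omega (ZMod 2) (quadFormPlus 4 (ZMod 2))) = 174182400 := by
  classical
  have hm : Fintype.card (ZMod 2) ≠ 2 ∨ (4 : ℕ) ≠ 2 := Or.inr (by norm_num)
  obtain ⟨-, -, -, -, -, -, ⟨c, hcn⟩, -⟩ :=
    Forms.OmegaTwoClasses.exists_plus_reps (F := ZMod 2) (m := 4) (by norm_num) hm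
  obtain ⟨-, hpar⟩ := Forms.OmegaTwoClasses.omega_criteria _ _
    (QForm.coe_plusForm (ZMod 2) 4).symm (QForm.plusForm_nondegenerate (ZMod 2) 4)
    (Or.inr (by simp))
  set O := Omega (ZMod 2) (quadFormPlus 4 (ZMod 2))
  have hidx : O.index = 2 := by
    refine Subgroup.index_eq_two_iff.mpr ⟨c, fun b => ?_⟩
    by_cases hb : b ∈ O
    · exact Or.inr ⟨hb, fun hbc => hcn ((O.mul_mem_cancel_left hb).mp hbc)⟩
    · exact Or.inl ⟨hpar b c hb hcn, hb⟩
  have h1 := O.card_mul_index
  have h2 : Nat.card ↥(isometryGroup (ZMod 2) (quadFormPlus 4 (ZMod 2))) = 348364800 := by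
    rw [Forms.card_isometryGroup _ Forms.quadPlus_apply, Forms.card_isomQ_quadPlus 3, ZMod.card]
    norm_num [Finset.prod_range_succ]
  rw [hidx, h2] at h1
  omega

/-- Let G be a finite group of Conway type: it has an involution z whose centralizer C has generalized Fitting subgroup Q extraspecial of order 2^9 with C/Q isomorphic to the commutator subgroup of the isometry group of the hyperbolic quadratic form in dimension 8 over the field with two elements, and some conjugate of z other than z lies in Q. Then G has exactly three conjugacy classes of involutions. -/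
theorem result {G : Type*} [Group G] [Finite G] (z : G) (hz : orderOf z = 2) (Q : Subgroup (Subgroup.centralizer ({z} : Set G))) [Q.Normal] (hF : Cfsg.generalizedFittingSubgroup (Subgroup.centralizer ({z} : Set G)) = Q) (hQ : Cfsg.IsExtraspecial 2 Q) (hcard : Nat.card Q = 2 ^ 9) (e : (Subgroup.centralizer ({z} : Set G)) ⧸ Q ≃* Cfsg.Omega (ZMod 2) (Cfsg.quadFormPlus 4 (ZMod 2))) (hnwc : ∃ g : G, (∃ hq : g * z * g⁻¹ ∈ Subgroup.centralizer ({z} : Set G), (⟨g * z * g⁻¹, hq⟩ : Subgroup.centralizer ({z} : Set G)) ∈ Q) ∧ g * z * g⁻¹ ≠ z) : ∃ a b c : G, orderOf a = 2 ∧ orderOf b = 2 ∧ orderOf c = 2 ∧ ¬ IsConj a b ∧ ¬ IsConj a c ∧ ¬ IsConj b c ∧ ∀ x : G, orderOf x = 2 → IsConj x a ∨ IsConj x b ∨ IsConj x c := by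
  classical
  let P : Subgroup G := Q.map (Subgroup.centralizer ({z} : Set G)).subtype
  have hle : P ≤ Subgroup.centralizer ({z} : Set G) := Subgroup.map_subtype_le _
  obtain ⟨hub, -, -⟩ := LargeExtraspecial.Hub.of_setting (Q := P) hz hle (by rw [hF])
    (TI.isExtraspecial_congr (Q.equivMapOfInjective _ (Subgroup.subtype_injective _)) hQ)
  have hmem : ∀ {x : Subgroup.centralizer ({z} : Set G)}, (x : G) ∈ P ↔ x ∈ Q := fun {x} =>
    Subgroup.mem_map_iff_mem (Subgroup.subtype_injective _)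
  obtain ⟨g, ⟨hq, hgQ⟩, hgz⟩ := hnwc
  have d : ConwayType.Data z P := by
    refine ⟨hub, hle, ?_, ?_, ⟨g, hmem.mpr hgQ, hgz⟩⟩
    · rw [Subgroup.card_map_of_injective (Subgroup.subtype_injective _), hcard]; norm_num
    · rw [Subgroup.card_eq_card_quotient_mul_card_subgroup Q, Nat.card_congr e.toEquiv, card_omega,
        hcard]; norm_num
  obtain ⟨u, t, ⟨hu2, hu1⟩, ⟨ht2, ht1⟩, n1, n2, n3, hall⟩ := d.three_classes
  refine ⟨z, u, t, hz, orderOf_eq_prime (by rw [pow_two]; exact hu2) hu1,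
    orderOf_eq_prime (by rw [pow_two]; exact ht2) ht1, n1, n2, n3, fun x hx => ?_⟩
  exact (hall x (by rw [← pow_two, ← hx, pow_orderOf_eq_one]) fun h => by
    rw [h, orderOf_one] at hx; omega).imp IsConj.symm (Or.imp IsConj.symm IsConj.symm)

end Cfsg.Agent.S5378
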