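import Cfsg.Statements.S5382
import Cfsg.Agent.Lib.HallJankoType.Hypotheses
import Cfsg.Agent.Lib.HallJankoType.Normalizer

set_option autoImplicit false
open Cfsg

namespace Cfsg.Agent.S5382

/-- Let G be a finite group of Hall–Janko type: it has more than one class of involutions and an involution z whose centralizer C has generalized Fitting subgroup Q extraspecial of order 32 with C/Q isomorphic to the commutator subgroup of the isometry group of the elliptic quadratic form in dimension 4 over the field with two elements (the alternating group of degree 5), with z not weakly closed in Q. Then for every involution t not conjugate to z, the centralizer of t is isomorphic to the direct product of an elementary abelian group of order 4 and the alternating group of degree 5, and the normalizer of the largest normal 2-subgroup of that centralizer is isomorphic to the direct product of the alternating groups of degrees 4 and 5. -/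
theorem result {G : Type*} [Group G] [Finite G] (z : G) (hz : orderOf z = 2) (Q : Subgroup (Subgroup.centralizer ({z} : Set G))) [Q.Normal] (hF : Cfsg.generalizedFittingSubgroup (Subgroup.centralizer ({z} : Set G)) = Q) (hQ : Cfsg.IsExtraspecial 2 Q) (hcard : Nat.card Q = 2 ^ 5) (e : (Subgroup.centralizer ({z} : Set G)) ⧸ Q ≃* Cfsg.Omega (ZMod 2) (Cfsg.quadFormMinus 1 (ZMod 2) 1 1)) (hnwc : ∃ g : G, (∃ hq : g * z * g⁻¹ ∈ Subgroup.centralizer ({z} : Set G), (⟨g * z * g⁻¹, hq⟩ : Subgroup.centralizer ({z} : Set G)) ∈ Q) ∧ g * z * g⁻¹ ≠ z) (hcl : ∃ x y : G, orderOf x = 2 ∧ orderOf y = 2 ∧ ¬ IsConj x y) (t : G) (ht : orderOf t = 2) (htz : ¬ IsConj t z) : Nonempty (↥(Subgroup.centralizer ({t} : Set G)) ≃* (Multiplicative (ZMod 2) × Multiplicative (ZMod 2)) × alternatingGroup (Fin 5)) ∧ Nonempty (↥(Subgroup.normalizer (((Cfsg.pCore 2 ↥(Subgroup.centralizer ({t} : Set G))).map (Subgroup.subtype (Subgroup.centralizer ({t} : Set G))) : Subgroup G) : Set G)) ≃* alternatingGroup (Fin 4) × alternatingGroup (Fin 5)) :=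 by
  obtain ⟨S, hSz, -⟩ := HallJankoType.exists_setup z hz Q hF hQ hcard e hnwc hcl
  obtain ⟨a, ha⟩ := S.exists_outside
  obtain ⟨L⟩ := S.exists_local ha
  obtain ⟨K⟩ := L.exists_factor
  obtain ⟨g, rfl⟩ := isConj_iff.mp ((S.two_conj_classes ha (x := t)
    (JankoOrder.inv_iff_orderOf.mpr ht)).resolve_left fun h => htz (hSz ▸ h.symm))
  obtain ⟨eC⟩ := K.cent_iso
  obtain ⟨eN⟩ := K.normalizer_iso
  let φ : G ≃* G := MulAut.conj g
  have hC : (Subgroup.centralizer ({a} : Set G)).map φ.toMonoidHom =
      Subgroup.centralizer ({g * a * g⁻¹} : Set G) := by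
    ext x
    constructor
    · rintro ⟨y, hy, rfl⟩
      refine HallJankoType.mem_cent.mpr ?_
      have hy' : y * a = a * y := HallJankoType.mem_cent.mp hy
      show g * y * g⁻¹ * (g * a * g⁻¹) = g * a * g⁻¹ * (g * y * g⁻¹)
      calc g * y * g⁻¹ * (g * a * g⁻¹) = g * (y * a) * g⁻¹ := by group
        _ = g * (a * y) * g⁻¹ := by rw [hy']
        _ = g * a * g⁻¹ * (g * y * g⁻¹) := by group
    · intro hx
      refine ⟨g⁻¹ * x * g, HallJankoType.mem_cent.mpr ?_, by simp [φ, mul_assoc]⟩
      have hx' : x * (g * a * g⁻¹) = g * a * g⁻¹ * x := HallJankoType.mem_cent.mp hx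
      calc g⁻¹ * x * g * a = g⁻¹ * (x * (g * a * g⁻¹)) * g := by group
        _ = g⁻¹ * (g * a * g⁻¹ * x) * g := by rw [hx']
        _ = a * (g⁻¹ * x * g) := by group
  let f : ↥(Subgroup.centralizer ({a} : Set G)) ≃* ↥(Subgroup.centralizer ({g * a * g⁻¹} : Set G)) :=
    (φ.subgroupMap _).trans (MulEquiv.subgroupCongr hC)
  refine ⟨⟨f.symm.trans eC⟩, ?_⟩
  have hT : (Cfsg.pCore 2 ↥(Subgroup.centralizer ({g * a * g⁻¹} : Set G))).map
      (Subgroup.centralizer ({g * a * g⁻¹} : Set G)).subtype = L.T.map φ.toMonoidHom := by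
    rw [← PCore.map_pCore_mulEquiv f, ← K.pCore_eq, Subgroup.map_map, Subgroup.map_map]
    congr 1
  rw [hT, ← Subgroup.map_equiv_normalizer_eq]
  exact ⟨(φ.subgroupMap _).symm.trans eN⟩

end Cfsg.Agent.S5382
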