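import Cfsg.Statements.S5387
import Mathlib

set_option autoImplicit false
open Cfsg

namespace Cfsg.Agent.S5387

open Matrix
open scoped MatrixGroups commutatorElement

section general

variable {E : Type*} [Group E] [Finite E]

/-- transfer to an odd-index subgroup kills a retraction in a perfect group -/
theorem mem_of_retraction (hperf : commutator E = ⊤) (S : Subgroup E) (hodd : Odd S.index)
    {A : Type*} [CommGroup A] (r : S →* A) (z : E) (hz : z ∈ Subgroup.center E) (hz2 : z * z = 1)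
    (hzS : z ∈ S) : r ⟨z, hzS⟩ = 1 := by
  have key : ∀ (k : ℕ) (g₀ : E), g₀⁻¹ * z ^ k * g₀ ∈ S → g₀⁻¹ * z ^ k * g₀ = z ^ k := by
    intro k g₀ _
    have : z ^ k ∈ Subgroup.center E := Subgroup.pow_mem _ hz k
    rw [mul_assoc, ← (Subgroup.mem_center_iff.mp this g₀), inv_mul_cancel_left]
  have : S.FiniteIndex := inferInstance
  have h1 := r.transfer_eq_pow z key
  have h2 : r.transfer z = 1 := by
    have := Abelianization.commutator_subset_ker r.transfer
    exact this (by rw [hperf]; trivial)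
  have h3 : z ^ S.index = z := by
    obtain ⟨k, hk⟩ := hodd
    rw [hk, pow_succ, pow_mul, pow_two, hz2, one_pow, one_mul]
  rw [h2] at h1
  rw [h1]
  congr 1
  exact Subtype.ext h3.symm

end general

variable {F : Type} [Field F] [Fintype F]

theorem two_zero (hF : Fintype.card F = 4) : (2 : F) = 0 := by
  have h := FiniteField.cast_card_eq_zero F
  rw [hF] at h
  have : (2 : F) * 2 = 0 := by norm_num at h ⊢; exact h
  exact mul_self_eq_zero.mp this

theorem exists_omega (hF : Fintype.card F = 4) :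
    ∃ w : F, w * w + w + 1 = 0 ∧ ∀ b : F, b = 0 ∨ b = 1 ∨ b = w ∨ b = w * w := by
  classical
  obtain ⟨w, hw⟩ : ∃ w : F, w ∉ ({0, 1} : Finset F) :=
    (Finset.exists_mem_notMem_of_card_lt_card (s := ({0, 1} : Finset F)) (t := (Finset.univ : Finset F))
      (by simp [hF])).imp fun _ h => h.2
  simp only [Finset.mem_insert, Finset.mem_singleton, not_or] at hw
  obtain ⟨hw0, hw1⟩ := hw
  have h3 : w ^ 3 = 1 := by
    have := FiniteField.pow_card_sub_one_eq_one w hw0
    rwa [hF] at this
  have hq : w * w + w + 1 = 0 := by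
    have : (w - 1) * (w * w + w + 1) = 0 := by linear_combination h3
    rcases mul_eq_zero.mp this with h | h
    · exact absurd (sub_eq_zero.mp h) hw1
    · exact h
  refine ⟨w, hq, fun b => ?_⟩
  by_contra hb
  simp only [not_or] at hb
  have h01 : (0 : F) ≠ 1 := zero_ne_one
  have hww0 : w * w ≠ 0 := mul_ne_zero hw0 hw0
  have hww1 : w * w ≠ 1 := fun h => hw1 (by linear_combination h3 - w * h)
  have hwww : w * w ≠ w := fun h => hw1 (mul_right_cancel₀ hw0 (by simpa using h))
  have : ({b, 0, 1, w, w * w} : Finset F).card ≤ 4 := hF ▸ Finset.card_le_univ _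
  simp [hb, Ne.symm hw0, Ne.symm hw1, hww0.symm, hww1.symm, hwww.symm] at this

def mA (x y : F) : SL(3, F) := ⟨!![1,0,0; x,1,0; y,0,1], by simp [det_fin_three]⟩
def mU (b : F) : SL(3, F) := ⟨!![1,0,0; 0,1,b; 0,0,1], by simp [det_fin_three]⟩
def mV (b : F) : SL(3, F) := ⟨!![1,0,0; 0,1,0; 0,b,1], by simp [det_fin_three]⟩
def mD (t t' : F) (h : t * t' = 1) : SL(3, F) :=
  ⟨!![1,0,0; 0,t,0; 0,0,t'], by simp [det_fin_three, h]⟩
def mJ (h2 : (2 : F) = 0) : SL(3, F) :=
  ⟨!![0,0,1; 0,1,0; 1,0,0], by simp [det_fin_three]; linear_combination -h2⟩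

theorem coe_mA (x y : F) :
    ((mA x y : SL(3, F)) : Matrix (Fin 3) (Fin 3) F) = !![1,0,0; x,1,0; y,0,1] := rfl
theorem coe_mU (b : F) :
    ((mU b : SL(3, F)) : Matrix (Fin 3) (Fin 3) F) = !![1,0,0; 0,1,b; 0,0,1] := rfl
theorem coe_mV (b : F) :
    ((mV b : SL(3, F)) : Matrix (Fin 3) (Fin 3) F) = !![1,0,0; 0,1,0; 0,b,1] := rfl
theorem coe_mD (t t' : F) (h : t * t' = 1) :
    ((mD t t' h : SL(3, F)) : Matrix (Fin 3) (Fin 3) F) = !![1,0,0; 0,t,0; 0,0,t'] := rfl
theorem coe_mJ (h2 : (2 : F) = 0) :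
    ((mJ h2 : SL(3, F)) : Matrix (Fin 3) (Fin 3) F) = !![0,0,1; 0,1,0; 1,0,0] := rfl

theorem mA_mul (x y x' y' : F) : mA x y * mA x' y' = mA (x + x') (y + y') := by
  apply Subtype.ext
  simp only [Matrix.SpecialLinearGroup.coe_mul, Matrix.SpecialLinearGroup.coe_one, coe_mA, coe_mU, coe_mV, coe_mD, coe_mJ]
  ext i j
  fin_cases i <;> fin_cases j <;> simp [Matrix.mul_apply, Fin.sum_univ_three, add_comm]

theorem mU_mul (b b' : F) : mU b * mU b' = mU (b + b') := by
  apply Subtype.ext
  simp only [Matrix.SpecialLinearGroup.coe_mul, Matrix.SpecialLinearGroup.coe_one, coe_mA, coe_mU, coe_mV, coe_mD, coe_mJ]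
  ext i j
  fin_cases i <;> fin_cases j <;> simp [Matrix.mul_apply, Fin.sum_univ_three, add_comm]

theorem mA_zero : mA (0 : F) 0 = 1 := by
  apply Subtype.ext
  simp only [Matrix.SpecialLinearGroup.coe_mul, Matrix.SpecialLinearGroup.coe_one, coe_mA, coe_mU, coe_mV, coe_mD, coe_mJ]
  ext i j
  fin_cases i <;> fin_cases j <;> simp [Matrix.mul_apply, Fin.sum_univ_three, add_comm]

theorem mU_zero : mU (0 : F) = 1 := by
  apply Subtype.ext
  simp only [Matrix.SpecialLinearGroup.coe_mul, Matrix.SpecialLinearGroup.coe_one, coe_mA, coe_mU, coe_mV, coe_mD, coe_mJ]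
  ext i j
  fin_cases i <;> fin_cases j <;> simp [Matrix.mul_apply, Fin.sum_univ_three, add_comm]

theorem mU_mA (b x y : F) : mU b * mA x y = mA (x + b * y) y * mU b := by
  apply Subtype.ext
  simp only [Matrix.SpecialLinearGroup.coe_mul, Matrix.SpecialLinearGroup.coe_one, coe_mA, coe_mU, coe_mV, coe_mD, coe_mJ]
  ext i j
  fin_cases i <;> fin_cases j <;> simp [Matrix.mul_apply, Fin.sum_univ_three, add_comm]

theorem mV_mA (b x y : F) : mV b * mA x y = mA x (y + b * x) * mV b := by
  apply Subtype.ext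
  simp only [Matrix.SpecialLinearGroup.coe_mul, Matrix.SpecialLinearGroup.coe_one, coe_mA, coe_mU, coe_mV, coe_mD, coe_mJ]
  ext i j
  fin_cases i <;> fin_cases j <;> simp [Matrix.mul_apply, Fin.sum_univ_three, add_comm]
  all_goals ring

theorem mD_mA (t t' : F) (h : t * t' = 1) (x y : F) :
    mD t t' h * mA x y = mA (t * x) (t' * y) * mD t t' h := by
  apply Subtype.ext
  simp only [Matrix.SpecialLinearGroup.coe_mul, Matrix.SpecialLinearGroup.coe_one, coe_mA, coe_mU, coe_mV, coe_mD, coe_mJ]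
  ext i j
  fin_cases i <;> fin_cases j <;> simp [Matrix.mul_apply, Fin.sum_univ_three, add_comm]

theorem mD_mU (t t' : F) (h : t * t' = 1) (b : F) :
    mD t t' h * mU b = mU (t * t * b) * mD t t' h := by
  apply Subtype.ext
  simp only [Matrix.SpecialLinearGroup.coe_mul, Matrix.SpecialLinearGroup.coe_one, coe_mA, coe_mU, coe_mV, coe_mD, coe_mJ]
  ext i j
  fin_cases i <;> fin_cases j <;> simp [Matrix.mul_apply, Fin.sum_univ_three, add_comm]
  all_goals linear_combination -(t * b) * h

theorem mJ_mA (h2 : (2 : F) = 0) (b : F) : mJ h2 * mA b 0 = mU b * mJ h2 := by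
  apply Subtype.ext
  simp only [Matrix.SpecialLinearGroup.coe_mul, Matrix.SpecialLinearGroup.coe_one, coe_mA, coe_mU, coe_mV, coe_mD, coe_mJ]
  ext i j
  fin_cases i <;> fin_cases j <;> simp [Matrix.mul_apply, Fin.sum_univ_three, add_comm]

variable {E : Type*} [Group E] (π : E →* PSL(3, F))

local notation "p" => QuotientGroup.mk' (Subgroup.center SL(3, F))

variable (hπ : Function.Surjective π) (hk : π.ker ≤ Subgroup.center E)

noncomputable def L (g : SL(3, F)) : E := Function.surjInv hπ (p g)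

theorem pi_L (g : SL(3, F)) : π (L π hπ g) = p g := Function.surjInv_eq hπ _

include hk in
theorem conj_eq {x x' : E} (h : π x = π x') (e : E) : x * e * x⁻¹ = x' * e * x'⁻¹ := by
  have hz : x'⁻¹ * x ∈ Subgroup.center E := hk (by simp [MonoidHom.mem_ker, h])
  have hc := Subgroup.mem_center_iff.mp hz e
  calc x * e * x⁻¹ = x' * ((x'⁻¹ * x) * e) * x⁻¹ := by group
    _ = x' * (e * (x'⁻¹ * x)) * x⁻¹ := by rw [hc]
    _ = x' * e * x'⁻¹ := by group

include hk in
theorem comm_eq {x x' y y' : E} (h : π x = π x') (h' : π y = π y') : ⁅x, y⁆ = ⁅x', y'⁆ := by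
  have e1 : ⁅x, y⁆ = ⁅x', y⁆ := by
    rw [commutatorElement_def, commutatorElement_def, conj_eq π hk h y]
  have e2 : ⁅y, x'⁆ = ⁅y', x'⁆ := by
    rw [commutatorElement_def, commutatorElement_def, conj_eq π hk h' x']
  rw [e1, ← commutatorElement_inv y x', e2, commutatorElement_inv]

noncomputable def K (g g' : SL(3, F)) : E := ⁅L π hπ g, L π hπ g'⁆

include hk in
theorem K_eq {x y : E} {g g' : SL(3, F)} (h : π x = p g) (h' : π y = p g') :
    ⁅x, y⁆ = K π hπ g g' :=
  comm_eq π hk (by rw [h, pi_L]) (by rw [h', pi_L])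

theorem pi_K (g g' : SL(3, F)) : π (K π hπ g g') = p ⁅g, g'⁆ := by
  rw [K, map_commutatorElement, map_commutatorElement, pi_L, pi_L]

include hk in
theorem conj_K (k g g' : SL(3, F)) :
    L π hπ k * K π hπ g g' * (L π hπ k)⁻¹ = K π hπ (k * g * k⁻¹) (k * g' * k⁻¹) := by
  rw [K, conjugate_commutatorElement]
  apply K_eq π hπ hk <;> simp [pi_L]

variable (he2 : ∀ z ∈ π.ker, z * z = 1)

include hk he2 in
theorem sq_eq {x y : E} (h : π x = π y) : x * x = y * y := by
  have hz : y⁻¹ * x ∈ π.ker := by simp [MonoidHom.mem_ker, h]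
  have hc := Subgroup.mem_center_iff.mp (hk hz) y
  have := he2 _ hz
  calc x * x = y * ((y⁻¹ * x) * y) * (y⁻¹ * x) := by group
    _ = y * (y * (y⁻¹ * x)) * (y⁻¹ * x) := by rw [hc]
    _ = y * y * ((y⁻¹ * x) * (y⁻¹ * x)) := by group
    _ = y * y := by rw [this, mul_one]

include hk he2 in
theorem sq_conj {k g g' : SL(3, F)} (h : k * g = g' * k) (hg : g * g = 1) :
    L π hπ g' * L π hπ g' = L π hπ g * L π hπ g := by
  have h1 : π (L π hπ k * L π hπ g * (L π hπ k)⁻¹) = π (L π hπ g') := by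
    rw [map_mul, map_mul, map_inv, pi_L, pi_L, pi_L, ← map_inv, ← map_mul, ← map_mul, h,
      mul_inv_cancel_right]
  rw [← sq_eq π hk he2 h1]
  have hz : L π hπ g * L π hπ g ∈ π.ker := by
    rw [MonoidHom.mem_ker, map_mul, pi_L, ← map_mul, hg, map_one]
  have hc := Subgroup.mem_center_iff.mp (hk hz) (L π hπ k)
  calc L π hπ k * L π hπ g * (L π hπ k)⁻¹ * (L π hπ k * L π hπ g * (L π hπ k)⁻¹)
      = L π hπ k * (L π hπ g * L π hπ g) * (L π hπ k)⁻¹ := by group
    _ = L π hπ g * L π hπ g := by rw [hc, mul_inv_cancel_right]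

variable (hF : Fintype.card F = 4)

include hF in
theorem add_self' (x : F) : x + x = 0 := by linear_combination x * two_zero hF

include hπ hk he2 hF in
theorem sqA (x y : F) {e : E} (he : π e = p (mA x y)) : e * e = 1 := by
  have sq0 : ∀ a b : F, mA a b * mA a b = 1 := by
    intro a b; rw [mA_mul, add_self' hF, add_self' hF, mA_zero]
  let c := L π hπ (mA 1 0) * L π hπ (mA 1 0)
  have hconst : ∀ a b : F, (a ≠ 0 ∨ b ≠ 0) → ∀ e : E, π e = p (mA a b) → e * e = c := by
    have hx : ∀ a b : F, a ≠ 0 → L π hπ (mA a b) * L π hπ (mA a b) = c := by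
      intro a b ha
      have h1 : mD a a⁻¹ (mul_inv_cancel₀ ha) * mA 1 0 = mA a 0 * mD a a⁻¹ (mul_inv_cancel₀ ha) := by
        rw [mD_mA]; simp
      have h2 : mV (b / a) * mA a 0 = mA a b * mV (b / a) := by
        rw [mV_mA, zero_add, div_mul_cancel₀ _ ha]
      rw [sq_conj π hπ hk he2 h2 (sq0 _ _), sq_conj π hπ hk he2 h1 (sq0 _ _)]
    intro a b hab e he
    rw [sq_eq π hk he2 (x := e) (y := L π hπ (mA a b)) (by rw [he, pi_L])]
    by_cases ha : a = 0
    · subst ha
      have hb : b ≠ 0 := by simpa using hab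
      have h1 : mU 1 * mA 0 b = mA b b * mU 1 := by rw [mU_mA]; simp
      rw [← sq_conj π hπ hk he2 h1 (sq0 _ _), hx b b hb]
    · exact hx a b ha
  obtain ⟨w, hw, hall⟩ := exists_omega hF
  have hw0 : w ≠ 0 := by rintro rfl; simp at hw
  have hw1 : 1 + w ≠ 0 := by
    intro h
    exact one_ne_zero (α := F) (by linear_combination hw - w * h)
  have hcc : c ∈ π.ker := by
    rw [MonoidHom.mem_ker, map_mul, pi_L, ← map_mul, sq0, map_one]
  -- commutator of lifts of independent elements is c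
  have hcomm : ∀ b : F, b ≠ 0 → ∀ u : E, π u = p (mA 0 b) → ⁅L π hπ (mA 1 0), u⁆ = c := by
    intro b hb u hu
    have h1 : L π hπ (mA 1 0) * L π hπ (mA 1 0) = c := rfl
    have h2 : u * u = c := hconst 0 b (Or.inr hb) u hu
    have h3 : (L π hπ (mA 1 0) * u) * (L π hπ (mA 1 0) * u) = c := by
      apply hconst 1 b (Or.inl one_ne_zero)
      rw [map_mul, pi_L, hu, ← map_mul, mA_mul]; simp
    have hc2 : c * c = 1 := he2 c hcc
    have hci : c⁻¹ = c := inv_eq_of_mul_eq_one_right hc2
    set v := L π hπ (mA 1 0)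
    have hv : v⁻¹ = v * c := by
      apply inv_eq_of_mul_eq_one_right
      rw [← mul_assoc, h1, hc2]
    have hu' : u⁻¹ = u * c := by
      apply inv_eq_of_mul_eq_one_right
      rw [← mul_assoc, h2, hc2]
    have hc := fun q => Subgroup.mem_center_iff.mp (hk hcc) q
    rw [commutatorElement_def, hv, hu']
    calc v * u * (v * c) * (u * c) = v * u * v * (c * u) * c := by group
      _ = (v * u * (v * u)) * (c * c) := by rw [← hc u]; group
      _ = c := by rw [h3, hc2, mul_one]
  have hc1 : c = 1 := by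
    have e1 := hcomm 1 one_ne_zero (L π hπ (mA 0 1)) (pi_L π hπ _)
    have e2 := hcomm w hw0 (L π hπ (mA 0 w)) (pi_L π hπ _)
    have e3 := hcomm (1 + w) hw1 (L π hπ (mA 0 1) * L π hπ (mA 0 w))
      (by rw [map_mul, pi_L, pi_L, ← map_mul, mA_mul, add_zero])
    have hexp : ∀ a b d : E, ⁅a, b * d⁆ = ⁅a, b⁆ * (b * ⁅a, d⁆ * b⁻¹) := by
      intro a b d; simp only [commutatorElement_def]; group
    rw [hexp, e1, e2, Subgroup.mem_center_iff.mp (hk hcc), mul_inv_cancel_right] at e3
    simpa using e3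
  by_cases h : x ≠ 0 ∨ y ≠ 0
  · rw [hconst x y h e he, hc1]
  · simp only [not_or, not_not] at h
    obtain ⟨rfl, rfl⟩ := h
    exact he2 e (by rw [MonoidHom.mem_ker, he, mA_zero, map_one])

include hπ hk he2 hF in
theorem commA {x y x' y' : F} {e e' : E} (he : π e = p (mA x y)) (he' : π e' = p (mA x' y')) :
    Commute e e' := by
  have h1 := sqA π hπ hk he2 hF x y he
  have h2 := sqA π hπ hk he2 hF x' y' he'
  have h3 := sqA π hπ hk he2 hF (x + x') (y + y') (e := e * e')
    (by rw [map_mul, he, he', ← map_mul, mA_mul])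
  have i1 : e⁻¹ = e := inv_eq_of_mul_eq_one_right h1
  have i2 : e'⁻¹ = e' := inv_eq_of_mul_eq_one_right h2
  have i3 : (e * e')⁻¹ = e * e' := inv_eq_of_mul_eq_one_right h3
  rw [_root_.mul_inv_rev, i1, i2] at i3
  exact i3.symm

include hπ hk he2 hF in
theorem sqU (b : F) {e : E} (he : π e = p (mU b)) : e * e = 1 := by
  rw [sq_eq π hk he2 (x := e) (y := L π hπ (mU b)) (by rw [he, pi_L]),
    sq_conj π hπ hk he2 (mJ_mA (two_zero hF) b)
      (by rw [mA_mul, add_self' hF, add_self' hF, mA_zero])]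
  exact sqA π hπ hk he2 hF b 0 (pi_L π hπ _)

include hπ hk he2 hF in
theorem commU {b b' : F} {e e' : E} (he : π e = p (mU b)) (he' : π e' = p (mU b')) :
    Commute e e' := by
  have h1 := sqU π hπ hk he2 hF b he
  have h2 := sqU π hπ hk he2 hF b' he'
  have h3 := sqU π hπ hk he2 hF (b + b') (e := e * e')
    (by rw [map_mul, he, he', ← map_mul, mU_mul])
  have i1 : e⁻¹ = e := inv_eq_of_mul_eq_one_right h1
  have i2 : e'⁻¹ = e' := inv_eq_of_mul_eq_one_right h2
  have i3 : (e * e')⁻¹ = e * e' := inv_eq_of_mul_eq_one_right h3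
  rw [_root_.mul_inv_rev, i1, i2] at i3
  exact i3.symm

include hk in
theorem K_mul (g g1 g2 : SL(3, F)) (h : Commute (L π hπ g1) (K π hπ g g2)) :
    K π hπ g (g1 * g2) = K π hπ g g1 * K π hπ g g2 := by
  rw [← K_eq π hπ hk (x := L π hπ g) (y := L π hπ g1 * L π hπ g2) (pi_L π hπ g)
    (by rw [map_mul, pi_L, pi_L, map_mul])]
  have : ⁅L π hπ g, L π hπ g1 * L π hπ g2⁆ =
      K π hπ g g1 * (L π hπ g1 * K π hπ g g2 * (L π hπ g1)⁻¹) := by
    simp only [K, commutatorElement_def]; group
  rw [this, h.eq, mul_inv_cancel_right]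

/-- the main bound -/
theorem ker_card_le [Finite E] (hF : Fintype.card F = 4) (hperf : commutator E = ⊤)
    (hπ : Function.Surjective π) (hk : π.ker ≤ Subgroup.center E)
    (he2 : ∀ z ∈ π.ker, z * z = 1) : Nat.card π.ker ≤ 4 := by
  classical
  obtain ⟨w, hw, hall⟩ := exists_omega hF
  have h2 := two_zero hF
  have hwi : w * (w * w) = 1 := by linear_combination (w - 1) * hw
  set h : SL(3, F) := mD w (w * w) hwi
  have hhA : ∀ x y : F, h * mA x y = mA (w * x) (w * w * y) * h := mD_mA _ _ _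
  have hhU : ∀ b : F, h * mU b = mU (w * w * b) * h := mD_mU _ _ _
  let s : F → F → E := fun x y => K π hπ h (h * mA x y * h⁻¹)
  let u : F → E := fun b => K π hπ h (h * mU b * h⁻¹)
  have hA' : ∀ x y, h * mA x y * h⁻¹ = mA (w * x) (w * w * y) := fun x y => by
    rw [hhA, mul_inv_cancel_right]
  have hU' : ∀ b, h * mU b * h⁻¹ = mU (w * w * b) := fun b => by rw [hhU, mul_inv_cancel_right]
  have mAinv : ∀ x y : F, (mA x y)⁻¹ = mA x y := fun x y => inv_eq_of_mul_eq_one_right
    (by rw [mA_mul, add_self' hF, add_self' hF, mA_zero])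
  have mUinv : ∀ b : F, (mU b)⁻¹ = mU b := fun b => inv_eq_of_mul_eq_one_right
    (by rw [mU_mul, add_self' hF, mU_zero])
  have pis : ∀ x y, π (s x y) = p (mA x y) := by
    intro x y
    simp only [s, pi_K]
    congr 1
    rw [commutatorElement_def, hA', hhA, mul_inv_cancel_right, mAinv, mA_mul]
    congr 1
    · linear_combination x * hw - x * h2
    · linear_combination ((w * w - w + 1) * y) * hw - y * h2
  have piu : ∀ b, π (u b) = p (mU b) := by
    intro b
    simp only [u, pi_K]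
    congr 1
    rw [commutatorElement_def, hU', hhU, mul_inv_cancel_right, mUinv, mU_mul]
    congr 1
    linear_combination ((w * w - w + 1) * b) * hw - b * h2
  have sadd : ∀ x y x' y', s (x + x') (y + y') = s x y * s x' y' := by
    intro x y x' y'
    simp only [s]
    rw [← mA_mul, show h * (mA x y * mA x' y') * h⁻¹ =
      (h * mA x y * h⁻¹) * (h * mA x' y' * h⁻¹) from by group]
    apply K_mul π hπ hk
    refine commA π hπ hk he2 hF (x := w * x) (y := w * w * y) (x' := x') (y' := y') ?_ (pis x' y')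
    rw [pi_L, hA']
  have uadd : ∀ b b', u (b + b') = u b * u b' := by
    intro b b'
    simp only [u]
    rw [← mU_mul, show h * (mU b * mU b') * h⁻¹ =
      (h * mU b * h⁻¹) * (h * mU b' * h⁻¹) from by group]
    apply K_mul π hπ hk
    refine commU π hπ hk he2 hF (b := w * w * b) (b' := b') ?_ (piu b')
    rw [pi_L, hU']
  have hs : ∀ x y, L π hπ h * s x y * (L π hπ h)⁻¹ = s (w * x) (w * w * y) := by
    intro x y
    simp only [s]
    rw [conj_K π hπ hk, hA', mul_inv_cancel_right]
  -- the defect of u b on s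
  let Φ : F → F → F → E := fun b x y =>
    L π hπ (mU b) * s x y * (L π hπ (mU b))⁻¹ * (s (x + b * y) y)⁻¹
  have hΦ : ∀ b x y, Φ b x y ∈ π.ker := by
    intro b x y
    simp only [Φ, MonoidHom.mem_ker, map_mul, map_inv, pi_L, pis]
    rw [← map_inv, ← map_inv, ← map_mul, ← map_mul, ← map_mul, mU_mA, mul_inv_cancel_right,
      mul_inv_cancel, map_one]
  have hΦc : ∀ b x y (e : E), e * Φ b x y = Φ b x y * e := fun b x y e =>
    Subgroup.mem_center_iff.mp (hk (hΦ b x y)) e
  have hconj : ∀ b x y, L π hπ (mU b) * s x y * (L π hπ (mU b))⁻¹ = Φ b x y * s (x + b * y) y :=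
    fun b x y => (inv_mul_cancel_right _ _).symm
  have Φadd : ∀ b x y x' y', Φ b (x + x') (y + y') = Φ b x y * Φ b x' y' := by
    intro b x y x' y'
    have e1 : L π hπ (mU b) * s (x + x') (y + y') * (L π hπ (mU b))⁻¹ =
        Φ b x y * s (x + b * y) y * (Φ b x' y' * s (x' + b * y') y') := by
      rw [← hconj, ← hconj, sadd]; group
    have e2 : s (x + x' + b * (y + y')) (y + y') = s (x + b * y) y * s (x' + b * y') y' := by
      rw [← sadd]; congr 1; ring
    show L π hπ (mU b) * s (x + x') (y + y') * (L π hπ (mU b))⁻¹ *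
        (s (x + x' + b * (y + y')) (y + y'))⁻¹ = _
    rw [e1, e2, show Φ b x y * s (x + b * y) y * (Φ b x' y' * s (x' + b * y') y') =
      Φ b x y * (s (x + b * y) y * Φ b x' y') * s (x' + b * y') y' from by group, hΦc]
    group
  have Φeq : ∀ b x y, Φ (w * w * b) (w * x) (w * w * y) = Φ b x y := by
    intro b x y
    have hz : L π hπ h * Φ b x y * (L π hπ h)⁻¹ = Φ b x y := by
      rw [hΦc b x y, mul_inv_cancel_right]
    have e2 : L π hπ h * (L π hπ (mU b) * s x y * (L π hπ (mU b))⁻¹) * (L π hπ h)⁻¹ =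
        Φ b x y * s (w * (x + b * y)) (w * w * y) := by
      rw [hconj]
      conv_rhs => rw [← hz]
      rw [← hs]; group
    have e3 : π (L π hπ h * L π hπ (mU b) * (L π hπ h)⁻¹) = π (L π hπ (mU (w * w * b))) := by
      rw [map_mul, map_mul, map_inv, pi_L, pi_L, pi_L, ← map_inv, ← map_mul, ← map_mul, hU']
    have e4 := conj_eq π hk e3 (s (w * x) (w * w * y))
    rw [← hs x y] at e4
    have e5 : L π hπ h * L π hπ (mU b) * (L π hπ h)⁻¹ * (L π hπ h * s x y * (L π hπ h)⁻¹) *
        (L π hπ h * L π hπ (mU b) * (L π hπ h)⁻¹)⁻¹ =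
        Φ b x y * s (w * (x + b * y)) (w * w * y) := by rw [← e2]; group
    rw [e5, hs] at e4
    have e6 : w * x + w * w * b * (w * w * y) = w * (x + b * y) := by
      linear_combination (w * b * y) * hwi
    show L π hπ (mU (w * w * b)) * s (w * x) (w * w * y) * (L π hπ (mU (w * w * b)))⁻¹ *
      (s (w * x + w * w * b * (w * w * y)) (w * w * y))⁻¹ = _
    rw [← e4, e6, mul_inv_cancel_right]
  have Φ0 : ∀ b, b ≠ 0 → ∀ x, Φ b x 0 = 1 := by
    intro b hb x
    obtain ⟨y, rfl⟩ : ∃ y, x = b * y := ⟨x / b, by field_simp⟩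
    have e1 : π (L π hπ (mU b) * L π hπ (mU b)) = π 1 := by
      rw [map_mul, pi_L, ← map_mul, mU_mul, add_self' hF, mU_zero, map_one, map_one]
    have e3 := conj_eq π hk e1 (s 0 y)
    rw [one_mul, inv_one, mul_one,
      show L π hπ (mU b) * L π hπ (mU b) * s 0 y * (L π hπ (mU b) * L π hπ (mU b))⁻¹ =
      L π hπ (mU b) * (L π hπ (mU b) * s 0 y * (L π hπ (mU b))⁻¹) * (L π hπ (mU b))⁻¹ from by group,
      hconj b 0 y, zero_add,
      show L π hπ (mU b) * (Φ b 0 y * s (b * y) y) * (L π hπ (mU b))⁻¹ =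
      (L π hπ (mU b) * Φ b 0 y) * s (b * y) y * (L π hπ (mU b))⁻¹ from by group, hΦc b 0 y,
      show Φ b 0 y * L π hπ (mU b) * s (b * y) y * (L π hπ (mU b))⁻¹ =
      Φ b 0 y * (L π hπ (mU b) * s (b * y) y * (L π hπ (mU b))⁻¹) from by group,
      hconj b (b * y) y, add_self' hF, ← mul_assoc] at e3
    have e4 : Φ b 0 y * Φ b (b * y) y = 1 := mul_eq_right.mp e3
    have e5 : Φ b (b * y) y = Φ b (b * y) 0 * Φ b 0 y := by rw [← Φadd, add_zero, zero_add]
    rw [e5, hΦc b 0 y (Φ b (b * y) 0), ← mul_assoc, he2 _ (hΦ b 0 y), one_mul] at e4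
    exact e4
  -- φ and its range
  let φ : Multiplicative F →* Subgroup.center E :=
    MonoidHom.mk' (fun y => ⟨Φ 1 0 (Multiplicative.toAdd y), hk (hΦ _ _ _)⟩) (fun y y' => by
      apply Subtype.ext
      show Φ 1 0 (Multiplicative.toAdd y + Multiplicative.toAdd y') = _
      have := Φadd 1 0 (Multiplicative.toAdd y) 0 (Multiplicative.toAdd y')
      rw [add_zero] at this
      exact this)
  have Φmem : ∀ b x y, (⟨Φ b x y, hk (hΦ b x y)⟩ : Subgroup.center E) ∈ φ.range := by
    have aux : ∀ b y, b ≠ 0 → ∃ y', Φ b 0 y = Φ 1 0 y' := by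
      intro b y hb
      have e : ∀ b y, Φ (w * w * b) 0 (w * w * y) = Φ b 0 y := fun b y => by
        simpa using Φeq b 0 y
      rcases hall b with hb' | hb' | hb' | hb'
      · exact absurd hb' hb
      · exact ⟨y, by rw [hb']⟩
      · refine ⟨w * w * y, ?_⟩
        rw [hb', ← e w y]; congr 1; linear_combination (w - 1) * hw
      · refine ⟨w * y, ?_⟩
        rw [hb', ← e 1 (w * y)]; congr 1
        · ring
        · linear_combination -y * hwi
    intro b x y
    by_cases hb : b = 0
    · subst hb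
      refine ⟨1, Subtype.ext ?_⟩
      have e1 : π (L π hπ (mU 0)) = π 1 := by rw [pi_L, mU_zero, map_one, map_one]
      have e2 := conj_eq π hk e1 (s x y)
      show Φ 1 0 0 = Φ 0 x y
      have e3 : Φ 1 0 0 = 1 := by
        have := Φadd 1 0 0 0 0
        simp only [add_zero] at this
        exact left_eq_mul.mp this
      rw [e3]
      show 1 = L π hπ (mU 0) * s x y * (L π hπ (mU 0))⁻¹ * (s (x + 0 * y) y)⁻¹
      rw [e2]; simp
    · obtain ⟨y', hy'⟩ := aux b y hb
      refine ⟨Multiplicative.ofAdd y', Subtype.ext ?_⟩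
      show Φ 1 0 y' = Φ b x y
      rw [← hy', show Φ b x y = Φ b x 0 * Φ b 0 y from by rw [← Φadd, add_zero, zero_add],
        Φ0 b hb x, one_mul]
  -- the Sylow subgroup
  let ρ : F × F × F → SL(3, F) := fun t => mA t.1 t.2.1 * mU t.2.2
  have ρmul : ∀ t t', ρ t * ρ t' =
      ρ (t.1 + t'.1 + t.2.2 * t'.2.1, t.2.1 + t'.2.1, t.2.2 + t'.2.2) := by
    rintro ⟨x, y, b⟩ ⟨x', y', b'⟩
    simp only [ρ]
    calc mA x y * mU b * (mA x' y' * mU b') = mA x y * (mU b * mA x' y') * mU b' := by group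
      _ = mA x y * (mA (x' + b * y') y' * mU b) * mU b' := by rw [mU_mA]
      _ = (mA x y * mA (x' + b * y') y') * (mU b * mU b') := by group
      _ = _ := by rw [mA_mul, mU_mul, ← add_assoc]
  have ρinj : Function.Injective (fun t => p (ρ t)) := by
    rintro ⟨x, y, b⟩ ⟨x', y', b'⟩ ht
    obtain ⟨z, hz, he⟩ := (QuotientGroup.mk'_eq_mk' _).mp ht
    obtain ⟨r, _, hzr⟩ := Matrix.SpecialLinearGroup.mem_center_iff.mp hz
    have hm := congrArg (fun g : SL(3, F) => (g : Matrix (Fin 3) (Fin 3) F)) he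
    simp only [Matrix.SpecialLinearGroup.coe_mul] at hm
    rw [← hzr] at hm
    have e00 := congrFun (congrFun hm 0) 0
    have e10 := congrFun (congrFun hm 1) 0
    have e20 := congrFun (congrFun hm 2) 0
    have e12 := congrFun (congrFun hm 1) 2
    simp [ρ, Matrix.SpecialLinearGroup.coe_mul, coe_mA, coe_mU, Matrix.mul_apply, Fin.sum_univ_three, Matrix.scalar_apply] at e00 e10 e20 e12
    subst e00
    simp at e10 e20 e12
    rw [e10, e20, e12]
  let SP : Subgroup PSL(3, F) :=
    { carrier := Set.range (fun t => p (ρ t))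
      one_mem' := ⟨(0, 0, 0), by simp [ρ, mA_zero, mU_zero]⟩
      mul_mem' := by
        rintro _ _ ⟨t, rfl⟩ ⟨t', rfl⟩
        exact ⟨_, by rw [← map_mul, ρmul]⟩
      inv_mem' := by
        rintro _ ⟨⟨x, y, b⟩, rfl⟩
        refine ⟨(x + b * y, y, b), ?_⟩
        simp only [← map_inv, ρ]
        congr 1
        rw [_root_.mul_inv_rev, mUinv, mAinv, mU_mA] }
  have hSPcard : Nat.card SP = 64 := by
    rw [show Nat.card SP = Nat.card (F × F × F) from
      (Nat.card_congr (Equiv.ofInjective _ ρinj)).symm]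
    simp [hF]
  have hSPodd : Odd SP.index := by
    have hSL : Nat.card SL(3, F) = 60480 := by
      have hinj : Function.Injective (Matrix.SpecialLinearGroup.toGL : SL(3, F) →* GL (Fin 3) F) :=
        Matrix.SpecialLinearGroup.toGL_injective
      have hr : (Matrix.SpecialLinearGroup.toGL : SL(3, F) →* GL (Fin 3) F).range =
          (Matrix.GeneralLinearGroup.det : GL (Fin 3) F →* Fˣ).ker := by
        ext g
        constructor
        · rintro ⟨a, rfl⟩
          exact Units.ext a.2
        · intro hg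
          exact ⟨⟨g.1, congrArg Units.val hg⟩, Units.ext rfl⟩
      have hsur : Function.Surjective (Matrix.GeneralLinearGroup.det : GL (Fin 3) F →* Fˣ) := by
        intro t
        refine ⟨Matrix.GeneralLinearGroup.mkOfDetNeZero (Matrix.diagonal ![(t : F), 1, 1])
          (by simp [Fin.prod_univ_three]), Units.ext ?_⟩
        simp [Fin.prod_univ_three]
      have e := Subgroup.card_mul_index (Matrix.GeneralLinearGroup.det : GL (Fin 3) F →* Fˣ).ker
      rw [Subgroup.index_ker, MonoidHom.range_eq_top.mpr hsur, Subgroup.card_top,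
        Matrix.card_GL_field, ← hr] at e
      rw [← Nat.card_congr (MonoidHom.ofInjective hinj).toEquiv] at e
      rw [Nat.card_units, Nat.card_eq_fintype_card (α := F), hF] at e
      simp [Fin.prod_univ_three] at e
      rw [Nat.card_eq_fintype_card]; omega
    have e1 := Subgroup.card_mul_index SP
    have e2 := Subgroup.card_eq_card_quotient_mul_card_subgroup (Subgroup.center SL(3, F))
    rw [hSL, ← e1, hSPcard] at e2
    refine Odd.of_dvd_nat (n := 945) ⟨472, rfl⟩ ⟨Nat.card (Subgroup.center SL(3, F)), ?_⟩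
    nlinarith [e2]
  let S : Subgroup E := SP.comap π
  have hSodd : Odd S.index := by
    rw [Subgroup.index_comap_of_surjective _ hπ]; exact hSPodd
  have hS : ∀ e : S, ∃ t, π (e : E) = p (ρ t) := fun e => by
    obtain ⟨t, ht⟩ := e.2; exact ⟨t, ht.symm⟩
  let σ : F × F × F → E := fun t => s t.1 t.2.1 * u t.2.2
  have piσ : ∀ t, π (σ t) = p (ρ t) := fun t => by simp [σ, ρ, pis, piu]
  have rmem : ∀ e : S, (e : E) * (σ (hS e).choose)⁻¹ ∈ Subgroup.center E := fun e => hk (by
    rw [MonoidHom.mem_ker, map_mul, map_inv, piσ]; exact mul_inv_eq_one.mpr (hS e).choose_spec)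
  let r0 : S → Subgroup.center E ⧸ φ.range := fun e => QuotientGroup.mk ⟨_, rmem e⟩
  have r0eq : ∀ (e : S) t, π (e : E) = p (ρ t) → ∀ hm,
      r0 e = QuotientGroup.mk (⟨(e : E) * (σ t)⁻¹, hm⟩ : Subgroup.center E) := by
    intro e t ht hm
    have : (hS e).choose = t := ρinj ((hS e).choose_spec.symm.trans ht)
    simp only [r0]
    congr 2
    rw [this]
  have r0mul : ∀ e e' : S, r0 (e * e') = r0 e * r0 e' := by
    intro e e'
    obtain ⟨⟨x, y, b⟩, ht⟩ := hS e
    obtain ⟨⟨x', y', b'⟩, ht'⟩ := hS e'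
    have ht'' : π ((e * e' : S) : E) = p (ρ (x + x' + b * y', y + y', b + b')) := by
      rw [Subgroup.coe_mul, map_mul, ht, ht', ← map_mul, ρmul]
    have m1 : (e : E) * (σ (x, y, b))⁻¹ ∈ Subgroup.center E := hk (by simp [MonoidHom.mem_ker, ht, piσ])
    have m2 : (e' : E) * (σ (x', y', b'))⁻¹ ∈ Subgroup.center E :=
      hk (by simp [MonoidHom.mem_ker, ht', piσ])
    have m3 : ((e * e' : S) : E) * (σ (x + x' + b * y', y + y', b + b'))⁻¹ ∈ Subgroup.center E :=
      hk (by rw [MonoidHom.mem_ker, map_mul, ht'', map_inv, piσ, mul_inv_cancel])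
    rw [r0eq _ _ ht m1, r0eq _ _ ht' m2, r0eq _ _ ht'' m3, ← QuotientGroup.mk_mul, QuotientGroup.eq]
    have hub : u b * s x' y' = Φ b x' y' * s (x' + b * y') y' * u b := by
      rw [← hconj, conj_eq π hk (x := L π hπ (mU b)) (x' := u b) (by rw [pi_L, piu]),
        inv_mul_cancel_right]
    have hσ : σ (x, y, b) * σ (x', y', b') = Φ b x' y' * σ (x + x' + b * y', y + y', b + b') := by
      simp only [σ]
      calc s x y * u b * (s x' y' * u b') = s x y * (u b * s x' y') * u b' := by group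
        _ = (s x y * Φ b x' y') * s (x' + b * y') y' * (u b * u b') := by rw [hub]; group
        _ = _ := by
          rw [hΦc, ← uadd, show x + x' + b * y' = x + (x' + b * y') from add_assoc _ _ _, sadd]
          group
    convert Φmem b x' y' using 1
    apply Subtype.ext
    simp only [Subgroup.coe_mul, Subgroup.coe_inv]
    have h1 := Subgroup.mem_center_iff.mp m2
    have h4 : (e : E) * (σ (x, y, b))⁻¹ * ((e' : E) * (σ (x', y', b'))⁻¹) =
        (e : E) * e' * (σ (x, y, b) * σ (x', y', b'))⁻¹ := by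
      rw [mul_assoc (e : E), h1]; group
    have hΦi : (Φ b x' y')⁻¹ = Φ b x' y' := inv_eq_of_mul_eq_one_right (he2 _ (hΦ _ _ _))
    rw [h4, hσ, _root_.mul_inv_rev (Φ b x' y'), hΦi]
    generalize σ (x + x' + b * y', y + y', b + b') = T
    generalize (e : E) * (e' : E) = M
    group
  let r : S →* Subgroup.center E ⧸ φ.range := MonoidHom.mk' r0 r0mul
  have hle : π.ker ≤ φ.range.map (Subgroup.center E).subtype := by
    intro z hz
    have hzS : z ∈ S := by
      show π z ∈ SP
      rw [MonoidHom.mem_ker.mp hz]; exact one_mem _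
    letI : CommGroup (Subgroup.center E) :=
      { (inferInstance : Group (Subgroup.center E)) with
        mul_comm := fun a b => Subtype.ext (Subgroup.mem_center_iff.mp b.2 a) }
    letI iA : CommGroup (Subgroup.center E ⧸ φ.range) :=
      { QuotientGroup.Quotient.group φ.range with
        mul_comm := fun a b => QuotientGroup.induction_on a fun a => QuotientGroup.induction_on b fun b => by
          rw [← QuotientGroup.mk_mul, ← QuotientGroup.mk_mul, mul_comm] }
    have h1 := mem_of_retraction (A := Subgroup.center E ⧸ φ.range) hperf S hSodd r z (hk hz) (he2 z hz) hzS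
    have hσ0 : σ (0, 0, 0) = 1 := by
      have es : s 0 0 = 1 := by
        have := sadd 0 0 0 0; simp only [add_zero] at this; exact left_eq_mul.mp this
      have eu : u 0 = 1 := by
        have := uadd 0 0; simp only [add_zero] at this; exact left_eq_mul.mp this
      simp [σ, es, eu]
    have hm : z * (σ (0, 0, 0))⁻¹ ∈ Subgroup.center E := by simpa [hσ0] using hk hz
    have hp : π z = p (ρ (0, 0, 0)) := by
      rw [MonoidHom.mem_ker.mp hz]; simp [ρ, mA_zero, mU_zero]
    have h2' : r ⟨z, hzS⟩ = QuotientGroup.mk (⟨_, hm⟩ : Subgroup.center E) := r0eq _ _ hp hm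
    rw [h2', QuotientGroup.eq_one_iff] at h1
    exact ⟨_, h1, by simp [hσ0]⟩
  calc Nat.card π.ker ≤ Nat.card (φ.range.map (Subgroup.center E).subtype) :=
        Nat.card_le_card_of_injective _ (Subgroup.inclusion_injective hle)
    _ = Nat.card φ.range := Subgroup.card_map_of_injective (Subgroup.subtype_injective _)
    _ ≤ Nat.card (Multiplicative F) :=
        Nat.card_le_card_of_surjective _ φ.rangeRestrict_surjective
    _ = 4 := by rw [Nat.card_congr Multiplicative.toAdd, Nat.card_eq_fintype_card, hF]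

/-- Up to isomorphism there is at most one quasisimple group whose centre is elementary abelian of order 4 and whose central quotient is isomorphic to the projective special linear group of dimension 3 over the field with four elements: any two such groups are isomorphic. -/
theorem result {L₁ L₂ : Type*} [Group L₁] [Finite L₁] [Group L₂] [Finite L₂] (F : Type) [Field F] [Fintype F] (hF : Fintype.card F = 4) (h₁ : Cfsg.IsQuasisimple L₁) (h₂ : Cfsg.IsQuasisimple L₂) (hc₁ : Nat.card (Subgroup.center L₁) = 4) (hc₂ : Nat.card (Subgroup.center L₂) = 4) (he₁ : ∀ x ∈ Subgroup.center L₁, x * x = 1) (he₂ : ∀ x ∈ Subgroup.center L₂, x * x = 1) (e₁ : L₁ ⧸ Subgroup.center L₁ ≃* Matrix.ProjectiveSpecialLinearGroup (Fin 3) F) (e₂ : L₂ ⧸ Subgroup.center L₂ ≃* Matrix.ProjectiveSpecialLinearGroup (Fin 3) F) : Nonempty (L₁ ≃* L₂) := by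
  classical
  let q₁ : L₁ →* PSL(3, F) := e₁.toMonoidHom.comp (QuotientGroup.mk' _)
  let q₂ : L₂ →* PSL(3, F) := e₂.toMonoidHom.comp (QuotientGroup.mk' _)
  have hq₁ : Function.Surjective q₁ := e₁.surjective.comp (QuotientGroup.mk'_surjective _)
  have hq₂ : Function.Surjective q₂ := e₂.surjective.comp (QuotientGroup.mk'_surjective _)
  have hk₁ : q₁.ker = Subgroup.center L₁ := by
    ext x; simp [q₁, MonoidHom.mem_ker]
  have hk₂ : q₂.ker = Subgroup.center L₂ := by
    ext x; simp [q₂, MonoidHom.mem_ker]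
  let W : Subgroup (L₁ × L₂) := MonoidHom.eqLocus (q₁.comp (MonoidHom.fst _ _)) (q₂.comp (MonoidHom.snd _ _))
  let pr₁ : W →* L₁ := (MonoidHom.fst _ _).comp W.subtype
  let pr₂ : W →* L₂ := (MonoidHom.snd _ _).comp W.subtype
  have hp₁ : Function.Surjective pr₁ := fun a => by
    obtain ⟨b, hb⟩ := hq₂ (q₁ a); exact ⟨⟨(a, b), hb.symm⟩, rfl⟩
  have hp₂ : Function.Surjective pr₂ := fun b => by
    obtain ⟨a, ha⟩ := hq₁ (q₂ b); exact ⟨⟨(a, b), ha⟩, rfl⟩
  let D : Subgroup W := commutator W
  have hL1 : commutator L₁ = ⊤ := Group.IsPerfect.commutator_eq_top (self := h₁.1)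
  have hL2 : commutator L₂ = ⊤ := Group.IsPerfect.commutator_eq_top (self := h₂.1)
  have hD₁ : D.map pr₁ = ⊤ := by
    simp only [D, commutator_def, Subgroup.map_commutator, Subgroup.map_top_of_surjective _ hp₁]
    rw [← commutator_def, hL1]
  have hD₂ : D.map pr₂ = ⊤ := by
    simp only [D, commutator_def, Subgroup.map_commutator, Subgroup.map_top_of_surjective _ hp₂]
    rw [← commutator_def, hL2]
  let f₁ : D →* L₁ := pr₁.comp D.subtype
  let f₂ : D →* L₂ := pr₂.comp D.subtype
  have hf₁ : Function.Surjective f₁ := fun a => by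
    obtain ⟨d, hd, rfl⟩ := (hD₁ ▸ Subgroup.mem_top a : a ∈ D.map pr₁); exact ⟨⟨d, hd⟩, rfl⟩
  have hf₂ : Function.Surjective f₂ := fun a => by
    obtain ⟨d, hd, rfl⟩ := (hD₂ ▸ Subgroup.mem_top a : a ∈ D.map pr₂); exact ⟨⟨d, hd⟩, rfl⟩
  let π : D →* PSL(3, F) := q₁.comp f₁
  have hπ : Function.Surjective π := hq₁.comp hf₁
  have hπ2 : ∀ d : D, π d = q₂ (f₂ d) := fun d => (d : W).2
  have kerC : ∀ w : W, q₁ (pr₁ w) = 1 → w ∈ Subgroup.center W := by
    intro w hw
    have h1 : pr₁ w ∈ Subgroup.center L₁ := by rw [← hk₁]; exact hw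
    have h2 : pr₂ w ∈ Subgroup.center L₂ := by
      rw [← hk₂, MonoidHom.mem_ker, ← hw]; exact w.2.symm
    rw [Subgroup.mem_center_iff]
    intro v
    apply Subtype.ext
    apply Prod.ext
    · exact Subgroup.mem_center_iff.mp h1 (pr₁ v)
    · exact Subgroup.mem_center_iff.mp h2 (pr₂ v)
  have hk : π.ker ≤ Subgroup.center D := by
    intro d hd
    rw [Subgroup.mem_center_iff]
    intro v
    exact Subtype.ext (Subgroup.mem_center_iff.mp (kerC d hd) v)
  have hsq : ∀ z ∈ π.ker, z * z = 1 := by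
    intro z hz
    have h1 : f₁ z ∈ Subgroup.center L₁ := by rw [← hk₁]; exact hz
    have h2 : f₂ z ∈ Subgroup.center L₂ := by
      rw [← hk₂, MonoidHom.mem_ker, ← hπ2]; exact hz
    apply Subtype.ext; apply Subtype.ext
    exact Prod.ext (he₁ _ h1) (he₂ _ h2)
  have hperf : commutator D = ⊤ := by
    rw [eq_top_iff]
    have hall : commutator W ≤ (commutator D).map D.subtype := by
      rw [commutator_def, Subgroup.commutator_le]
      intro a _ b _
      obtain ⟨a', ha⟩ := hπ (q₁ (pr₁ a))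
      obtain ⟨b', hb⟩ := hπ (q₁ (pr₁ b))
      refine ⟨⁅a', b'⁆, Subgroup.commutator_mem_commutator (Subgroup.mem_top _) (Subgroup.mem_top _), ?_⟩
      have hwa : a⁻¹ * (a' : W) ∈ Subgroup.center W := kerC _ (by
        rw [map_mul, map_mul, map_inv, map_inv]; exact inv_mul_eq_one.mpr ha.symm)
      have hwb : b⁻¹ * (b' : W) ∈ Subgroup.center W := kerC _ (by
        rw [map_mul, map_mul, map_inv, map_inv]; exact inv_mul_eq_one.mpr hb.symm)
      rw [map_commutatorElement]
      show ⁅(a' : W), (b' : W)⁆ = ⁅a, b⁆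
      have hh : (QuotientGroup.mk' (Subgroup.center W)).ker ≤ Subgroup.center W := by
        rw [QuotientGroup.ker_mk']
      have hq : ∀ x y : W, x⁻¹ * y ∈ Subgroup.center W → ∀ e, y * e * y⁻¹ = x * e * x⁻¹ := by
        intro x y h e
        have hc := Subgroup.mem_center_iff.mp h e
        calc y * e * y⁻¹ = x * ((x⁻¹ * y) * e) * y⁻¹ := by group
          _ = x * (e * (x⁻¹ * y)) * y⁻¹ := by rw [hc]
          _ = x * e * x⁻¹ := by group
      have e1 : ⁅(a' : W), (b' : W)⁆ = ⁅a, (b' : W)⁆ := by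
        simp only [commutatorElement_def]; rw [hq a a' hwa]
      have e2 : ⁅(b' : W), a⁆ = ⁅b, a⁆ := by
        simp only [commutatorElement_def]; rw [hq b b' hwb]
      rw [e1, ← commutatorElement_inv (b' : W) a, e2, commutatorElement_inv]
    intro d _
    obtain ⟨d', hd', he⟩ := hall d.2
    rwa [← Subtype.ext he]
  have hcard := ker_card_le π hF hperf hπ hk hsq
  have hDcard : Nat.card D = Nat.card PSL(3, F) * Nat.card π.ker := by
    rw [Subgroup.card_eq_card_quotient_mul_card_subgroup π.ker,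
      Nat.card_congr (QuotientGroup.quotientKerEquivOfSurjective π hπ).toEquiv]
  have hL₁ : Nat.card L₁ = Nat.card PSL(3, F) * 4 := by
    rw [Subgroup.card_eq_card_quotient_mul_card_subgroup (Subgroup.center L₁), hc₁,
      Nat.card_congr e₁.toEquiv]
  have hL₂ : Nat.card L₂ = Nat.card PSL(3, F) * 4 := by
    rw [Subgroup.card_eq_card_quotient_mul_card_subgroup (Subgroup.center L₂), hc₂,
      Nat.card_congr e₂.toEquiv]
  have b₁ : Function.Bijective f₁ := by
    refine (Nat.bijective_iff_surjective_and_card _).mpr ⟨hf₁, le_antisymm ?_ ?_⟩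
    · rw [hL₁, hDcard]; exact Nat.mul_le_mul_left _ hcard
    · exact Nat.card_le_card_of_surjective _ hf₁
  have b₂ : Function.Bijective f₂ := by
    refine (Nat.bijective_iff_surjective_and_card _).mpr ⟨hf₂, le_antisymm ?_ ?_⟩
    · rw [hL₂, hDcard]; exact Nat.mul_le_mul_left _ hcard
    · exact Nat.card_le_card_of_surjective _ hf₂
  exact ⟨(MulEquiv.ofBijective f₁ b₁).symm.trans (MulEquiv.ofBijective f₂ b₂)⟩

end Cfsg.Agent.S5387
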