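import Cfsg.Statements.S5393
import Mathlib
import Cfsg.Agent.Lib.Leech.Basic
import Cfsg.Agent.Lib.Mathieu.Code

set_option autoImplicit false
open Cfsg

namespace Cfsg.Agent.S5393

open scoped Pointwise

/-- translation of the residues by one -/
def shift : Equiv.Perm Cfsg.GolayPt where
  toFun := Option.map (· + 1)
  invFun := Option.map (· - 1)
  left_inv := by intro p; cases p <;> simp
  right_inv := by intro p; cases p <;> simp

theorem qrWord_shift (t : ZMod 23) : Cfsg.qrWord t ∘ shift = Cfsg.qrWord (t - 1) := by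
  funext p
  cases p with
  | none => rfl
  | some x =>
    show (if ∃ r : ZMod 23, x + 1 = r ^ 2 + t then (1 : ZMod 2) else 0) = if ∃ r : ZMod 23, x = r ^ 2 + (t - 1) then 1 else 0
    refine if_congr (exists_congr fun r => ?_) rfl rfl
    constructor <;> intro h <;> linear_combination h

theorem comp_shift_mem {w : Cfsg.GolayPt → ZMod 2} (hw : w ∈ Cfsg.golayCode) :
    w ∘ shift ∈ Cfsg.golayCode := by
  induction hw using Submodule.span_induction with
  | mem x hx =>
    rcases hx with ⟨t, rfl⟩ | rfl
    · rw [qrWord_shift]; exact Submodule.subset_span (Or.inl ⟨_, rfl⟩)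
    · exact Submodule.subset_span (Or.inr rfl)
  | zero => exact Submodule.zero_mem _
  | add x y _ _ hx hy => exact Submodule.add_mem _ hx hy
  | smul c x _ hx => exact Submodule.smul_mem _ c hx

theorem shift_pow : shift ^ 23 = 1 := by decide +kernel

theorem comp_shift_pow_mem {w : Cfsg.GolayPt → ZMod 2} (hw : w ∈ Cfsg.golayCode) (n : ℕ) :
    w ∘ ⇑(shift ^ n) ∈ Cfsg.golayCode := by
  induction n with
  | zero => exact hw
  | succ n ih =>
    rw [pow_succ, Equiv.Perm.coe_mul, ← Function.comp_assoc]
    exact comp_shift_mem ih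

theorem shift_mem_M24 : shift ∈ Cfsg.M24 := by
  have hinv : shift⁻¹ = shift ^ 22 :=
    inv_eq_of_mul_eq_one_right (by rw [← pow_succ', shift_pow])
  show shift • Cfsg.supports (Cfsg.golayCode : Set (Cfsg.GolayPt → ZMod 2)) = _
  have key : ∀ w : Cfsg.GolayPt → ZMod 2, shift • Cfsg.support₂ w = Cfsg.support₂ (w ∘ ⇑shift⁻¹) := by
    intro w
    ext p
    rw [Finset.mem_smul_finset]
    constructor
    · rintro ⟨q, hq, rfl⟩
      simp only [Leech.mem_supp] at hq ⊢
      simpa using hq
    · intro hp
      exact ⟨shift⁻¹ p, Leech.mem_supp.2 (show w (shift⁻¹ p) = 1 from (Leech.mem_supp (w := w ∘ ⇑shift⁻¹)).1 hp), by simp⟩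
  ext s
  constructor
  · rintro ⟨_, ⟨w, hw, rfl⟩, rfl⟩
    exact ⟨w ∘ ⇑shift⁻¹, by rw [hinv]; exact comp_shift_pow_mem hw 22, (key w).symm⟩
  · rintro ⟨w, hw, rfl⟩
    refine ⟨Cfsg.support₂ (w ∘ shift), ⟨w ∘ shift, comp_shift_mem hw, rfl⟩, ?_⟩
    show shift • Cfsg.support₂ (w ∘ shift) = _
    rw [key]; congr 1; funext p; simp

/-- The length-24 code built from the squares modulo 23 contains the all-ones word, and the code modulo the all-ones word is an irreducible module over the field with two elements for the code's automorphism group: a subspace of the code that contains the all-ones word and is invariant under every coordinate permutation preserving the code is either the span of the all-ones word or the whole code. -/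
theorem result : (fun _ : Cfsg.GolayPt => (1 : ZMod 2)) ∈ Cfsg.golayCode ∧ ∀ W : Submodule (ZMod 2) (Cfsg.GolayPt → ZMod 2), (fun _ => (1 : ZMod 2)) ∈ W → W ≤ Cfsg.golayCode → (∀ σ ∈ Cfsg.M24, ∀ w ∈ W, (fun p => w (σ.symm p)) ∈ W) → W = Submodule.span (ZMod 2) {fun _ => (1 : ZMod 2)} ∨ W = Cfsg.golayCode := by
  classical
  refine ⟨Submodule.subset_span (Or.inr rfl), fun W h1 hle hinv => ?_⟩
  set one : Cfsg.GolayPt → ZMod 2 := fun _ => 1 with hone
  have hsh : ∀ w ∈ W, w ∘ ⇑(shift.symm) ∈ W := fun w hw => hinv shift shift_mem_M24 w hw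
  let g : W → W := fun w => ⟨_, hsh w.1 w.2⟩
  have hginj : Function.Injective g := fun a b h => by
    apply Subtype.ext; funext p
    have := congrFun (congrArg Subtype.val h) (shift p)
    simpa [g] using this
  let T : Equiv.Perm W := Equiv.ofBijective g (Finite.injective_iff_bijective.mp hginj)
  have hTn : ∀ (n : ℕ) (w : W), ((T ^ n) w : Cfsg.GolayPt → ZMod 2) = (w : Cfsg.GolayPt → ZMod 2) ∘ ⇑((shift.symm) ^ n) := by
    intro n
    induction n with
    | zero => intro w; rfl
    | succ n ih =>
      intro w
      rw [pow_succ, Equiv.Perm.mul_apply, ih, pow_succ']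
      rfl
  have hT : T ^ 23 ^ 1 = 1 := by
    ext w : 2
    rw [pow_one, hTn, show shift.symm = shift⁻¹ from rfl, inv_pow, shift_pow, inv_one]
    rfl
  have : Fact (Nat.Prime 23) := ⟨by norm_num⟩
  have hmod := Equiv.Perm.card_compl_support_modEq hT
  have hfix : T.supportᶜ = ({0, ⟨one, h1⟩} : Finset W) := by
    ext w
    rw [Finset.mem_compl, Equiv.Perm.notMem_support, Finset.mem_insert, Finset.mem_singleton]
    constructor
    · intro hw
      have hw' : ∀ p, (w : Cfsg.GolayPt → ZMod 2) (shift p) = (w : Cfsg.GolayPt → ZMod 2) p := by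
        intro p
        have := congrFun (congrArg Subtype.val hw) (shift p)
        simpa [T, g] using this.symm
      have hconst : ∀ x : ZMod 23, (w : Cfsg.GolayPt → ZMod 2) (some x) = (w : Cfsg.GolayPt → ZMod 2) (some 0) := by
        have h : ∀ n : ℕ, (w : Cfsg.GolayPt → ZMod 2) (some (n : ZMod 23)) = (w : Cfsg.GolayPt → ZMod 2) (some 0) := by
          intro n
          induction n with
          | zero => simp
          | succ n ih => rw [Nat.cast_succ, ← ih]; exact hw' (some (n : ZMod 23))
        intro x
        simpa using h x.val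
      have hcases : ∀ c : ZMod 2, c = 0 ∨ c = 1 := by decide
      have h4 := Leech.code_doubly_even (hle w.2)
      have heq : ∀ a b : ZMod 2, (w : Cfsg.GolayPt → ZMod 2) none = a → (w : Cfsg.GolayPt → ZMod 2) (some 0) = b →
          (w : Cfsg.GolayPt → ZMod 2) = fun p => p.elim a (fun _ => b) := by
        intro a b ha hb
        funext p
        cases p with
        | none => exact ha
        | some x => exact (hconst x).trans hb
      rcases hcases ((w : Cfsg.GolayPt → ZMod 2) none) with ha | ha <;>
        rcases hcases ((w : Cfsg.GolayPt → ZMod 2) (some 0)) with hb | hb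
      · left; apply Subtype.ext; rw [heq _ _ ha hb]; funext p; cases p <;> rfl
      · exfalso; rw [heq _ _ ha hb] at h4; revert h4; decide +kernel
      · exfalso; rw [heq _ _ ha hb] at h4; revert h4; decide +kernel
      · right; apply Subtype.ext; rw [heq _ _ ha hb]; funext p; cases p <;> rfl
    · rintro (rfl | rfl) <;> (apply Subtype.ext; funext p; rfl)
  have hne : (0 : W) ≠ ⟨one, h1⟩ := fun h => by
    have := congrFun (congrArg Subtype.val h) none
    simp [hone] at this
  rw [hfix, Finset.card_pair hne, ← Nat.card_eq_fintype_card,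
    Module.natCard_eq_pow_finrank (K := ZMod 2), Nat.card_zmod] at hmod
  have hdim : Module.finrank (ZMod 2) W ≤ 12 := Mathieu.finrank_golayCode ▸ Submodule.finrank_mono hle
  have hspan : Submodule.span (ZMod 2) {one} ≤ W := by
    rw [Submodule.span_le, Set.singleton_subset_iff]; exact h1
  have h1ne : one ≠ 0 := fun h => by simpa [hone] using congrFun h none
  have hs1 : Module.finrank (ZMod 2) (Submodule.span (ZMod 2) {one}) = 1 := finrank_span_singleton h1ne
  have hall : ∀ f ≤ 12, 2 ≡ 2 ^ f [MOD 23] → f = 1 ∨ f = 12 := by decide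
  rcases hall _ hdim hmod with h | h
  · exact Or.inl (Submodule.eq_of_le_of_finrank_eq hspan (hs1.trans h.symm)).symm
  · exact Or.inr (Submodule.eq_of_le_of_finrank_eq hle (h.trans Mathieu.finrank_golayCode.symm))

end Cfsg.Agent.S5393
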