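import Cfsg.Statements.S5394
import Cfsg.Agent.Lib.Mathieu.OneBlockM24Invol
import Cfsg.Agent.Lib.Mathieu.Classes
-- import your own Cfsg.Agent.* helpers here

set_option autoImplicit false
open Cfsg

namespace Cfsg.Agent.S5394

/-- The automorphism group of the length-24 code built from the squares modulo 23 has exactly two conjugacy classes of involutions: an involution either fixes exactly the eight points of an octad or has no fixed points, both kinds occur, and any two involutions of the same kind are conjugate in the group. -/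
theorem result : (∀ g ∈ Cfsg.M24, orderOf g = 2 → (Finset.univ.filter fun p => g p = p) ∈ Cfsg.octads ∨ ∀ p, g p ≠ p) ∧ (∃ g ∈ Cfsg.M24, orderOf g = 2 ∧ (Finset.univ.filter fun p => g p = p) ∈ Cfsg.octads) ∧ (∃ g ∈ Cfsg.M24, orderOf g = 2 ∧ ∀ p, g p ≠ p) ∧ ∀ g ∈ Cfsg.M24, ∀ h ∈ Cfsg.M24, orderOf g = 2 → orderOf h = 2 → ((∀ p, g p ≠ p) ↔ (∀ p, h p ≠ p)) → ∃ k ∈ Cfsg.M24, k * g * k⁻¹ = h := by
  classical
  have hz8 : ∀ σ : Equiv.Perm Cfsg.GolayPt, Mathieu.Rep Mathieu.ptEnc σ Mathieu.invol24_8.z →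
      (Finset.univ.filter fun p => σ p = p) = Mathieu.ptsOf 0x453910 := fun σ h =>
    Mathieu.filter_fix_eq h (by decide +kernel)
  have hz0 : ∀ σ : Equiv.Perm Cfsg.GolayPt, Mathieu.Rep Mathieu.ptEnc σ Mathieu.invol24_0.z →
      (Finset.univ.filter fun p => σ p = p) = Mathieu.ptsOf 0 := fun σ h =>
    Mathieu.filter_fix_eq h (by decide +kernel)
  have h0 : Mathieu.ptsOf 0 = ∅ := by decide +kernel
  have hoct : Mathieu.ptsOf 0x453910 ∈ Cfsg.octads :=
    Mathieu.ptsOf_mem_octads (by decide +kernel) (by decide +kernel)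
  have hne : (Mathieu.ptsOf 0x453910).Nonempty := by decide +kernel
  have key : ∀ g (hg : g ∈ Cfsg.M24), orderOf g = 2 → ∃ c ∈ Cfsg.M24,
      ((Finset.univ.filter fun p => g p = p) ∈ Cfsg.octads ∧ ¬ (∀ p, g p ≠ p) ∧
        Mathieu.Rep Mathieu.ptEnc (c * g * c⁻¹) Mathieu.invol24_8.z) ∨
      ((∀ p, g p ≠ p) ∧ Mathieu.Rep Mathieu.ptEnc (c * g * c⁻¹) Mathieu.invol24_0.z) := by
    intro g hg ho
    obtain ⟨C, hC, c, hc⟩ := Mathieu.M24_involution_cases ⟨g, hg⟩ (by rwa [Subgroup.orderOf_mk])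
    have hfix : (Finset.univ.filter fun p => g p = p) = (Finset.univ.filter fun p =>
        ((c : Equiv.Perm Cfsg.GolayPt) * g * (c : Equiv.Perm Cfsg.GolayPt)⁻¹) p = p).image
          ((c : Equiv.Perm Cfsg.GolayPt)⁻¹ : Equiv.Perm Cfsg.GolayPt) := by
      rw [← Mathieu.filter_fix_conj]
      congr 1; ext p; simp [mul_assoc]
    refine ⟨c, c.2, ?_⟩
    replace hc : Mathieu.Rep Mathieu.ptEnc ((c : Equiv.Perm Cfsg.GolayPt) * g *
        (c : Equiv.Perm Cfsg.GolayPt)⁻¹) C.z := hc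
    simp only [List.mem_cons, List.not_mem_nil, or_false] at hC
    rcases hC with rfl | rfl
    · left
      rw [hz8 _ hc] at hfix
      refine ⟨?_, ?_, hc⟩
      · rw [hfix]
        exact Mathieu.M24_smul_octad (inv_mem c.2) hoct
      · intro h
        obtain ⟨p, hp⟩ := hne.image ((c : Equiv.Perm Cfsg.GolayPt)⁻¹ : Equiv.Perm Cfsg.GolayPt)
        rw [← hfix, Finset.mem_filter] at hp
        exact h p hp.2
    · right
      rw [hz0 _ hc, h0, Finset.image_empty] at hfix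
      exact ⟨fun p hp => by
        have : p ∈ Finset.univ.filter fun p => g p = p := Finset.mem_filter.2 ⟨Finset.mem_univ _, hp⟩
        rw [hfix] at this; simp at this, hc⟩
  have ex : ∀ l, (Mathieu.permOK 24 l && Mathieu.mem24 l) = true →
      (Mathieu.isId 24 (Mathieu.packPow 24 l 2) && !Mathieu.isId 24 (Mathieu.packPow 24 l 1)) = true →
      ∃ g : Equiv.Perm Cfsg.GolayPt, g ∈ Cfsg.M24 ∧ orderOf g = 2 ∧
        Mathieu.Rep Mathieu.ptEnc g l := by
    intro l h1 h2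
    obtain ⟨x, hx⟩ := Mathieu.exists_elt (H := Cfsg.M24) Mathieu.mem24_sound h1
    exact ⟨x, x.2, by rw [Subgroup.orderOf_coe, Mathieu.orderOf_of_prime_pack Nat.prime_two hx h2],
      hx⟩
  refine ⟨fun g hg ho => ?_, ?_, ?_, fun g hg h hh ho ho' hiff => ?_⟩
  · obtain ⟨c, -, ⟨h1, -, -⟩ | ⟨h1, -⟩⟩ := key g hg ho
    · exact Or.inl h1
    · exact Or.inr h1
  · obtain ⟨g, hg, ho, hr⟩ := ex Mathieu.invol24_8.z (by decide +kernel) (by decide +kernel)
    exact ⟨g, hg, ho, by rw [hz8 g hr]; exact hoct⟩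
  · obtain ⟨g, hg, ho, hr⟩ := ex Mathieu.invol24_0.z (by decide +kernel) (by decide +kernel)
    refine ⟨g, hg, ho, fun p hp => ?_⟩
    have : p ∈ Finset.univ.filter fun p => g p = p := Finset.mem_filter.2 ⟨Finset.mem_univ _, hp⟩
    rw [hz0 g hr, h0] at this; simp at this
  · obtain ⟨c, hc, hcg⟩ := key g hg ho
    obtain ⟨d, hd, hdh⟩ := key h hh ho'
    refine ⟨d⁻¹ * c, mul_mem (inv_mem hd) hc, ?_⟩
    have e : c * g * c⁻¹ = d * h * d⁻¹ := by
      rcases hcg with ⟨-, h1, r1⟩ | ⟨h1, r1⟩ <;> rcases hdh with ⟨-, h2, r2⟩ | ⟨h2, r2⟩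
      · exact r1.unique r2
      · exact absurd (hiff.2 h2) h1
      · exact absurd (hiff.1 h1) h2
      · exact r1.unique r2
    calc d⁻¹ * c * g * (d⁻¹ * c)⁻¹ = d⁻¹ * (c * g * c⁻¹) * d := by group
      _ = h := by rw [e]; group

end Cfsg.Agent.S5394
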