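import Cfsg.Statements.S5396
import Mathlib
import Cfsg.Agent.Lib.PGroup.Extraspecial

set_option autoImplicit false
open Cfsg

namespace Cfsg.Agent.S5396

open Cfsg.Agent
open scoped commutatorElement

variable {n : ℕ}

/-- the cocycle `∑ xᵢ yᵢ' + cᵢ (xᵢ xᵢ' + yᵢ yᵢ')` -/
def β (c : Fin n → ZMod 2) (v w : Fin n → ZMod 2 × ZMod 2) : ZMod 2 :=
  ∑ i, ((v i).1 * (w i).2 + c i * ((v i).1 * (w i).1 + (v i).2 * (w i).2))

theorem β_add_left (c : Fin n → ZMod 2) (u v w : Fin n → ZMod 2 × ZMod 2) :
    β c (u + v) w = β c u w + β c v w := by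
  simp only [β, ← Finset.sum_add_distrib]
  refine Finset.sum_congr rfl fun i _ => ?_
  simp only [Pi.add_apply, Prod.fst_add, Prod.snd_add]
  ring

theorem β_add_right (c : Fin n → ZMod 2) (u v w : Fin n → ZMod 2 × ZMod 2) :
    β c u (v + w) = β c u v + β c u w := by
  simp only [β, ← Finset.sum_add_distrib]
  refine Finset.sum_congr rfl fun i _ => ?_
  simp only [Pi.add_apply, Prod.fst_add, Prod.snd_add]
  ring

theorem β_zero_left (c : Fin n → ZMod 2) (w : Fin n → ZMod 2 × ZMod 2) : β c 0 w = 0 := by simp [β]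

theorem β_zero_right (c : Fin n → ZMod 2) (v : Fin n → ZMod 2 × ZMod 2) : β c v 0 = 0 := by simp [β]

theorem add_self_vec (v : Fin n → ZMod 2 × ZMod 2) : v + v = 0 :=
  funext fun i => Prod.ext (CharTwo.add_self_eq_zero _) (CharTwo.add_self_eq_zero _)

theorem pair_cases : ∀ (a : ZMod 2) (b : ZMod 2 × ZMod 2),
    b.2 + a * b.1 = a * b.1 → a * b.2 = b.1 + a * b.2 → b = 0 := by decide

theorem ne_add_one : ∀ x y : ZMod 2, x ≠ y → x + y = 1 := by decide

/-- extension of `F₂^(2n)` by `F₂` with cocycle `β c` -/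
@[ext]
structure Ext (c : Fin n → ZMod 2) where
  vec : Fin n → ZMod 2 × ZMod 2
  scal : ZMod 2

variable {c : Fin n → ZMod 2}

def extEquiv : Ext c ≃ (Fin n → ZMod 2 × ZMod 2) × ZMod 2 where
  toFun g := (g.vec, g.scal)
  invFun x := ⟨x.1, x.2⟩
  left_inv _ := rfl
  right_inv _ := rfl

instance : Finite (Ext c) := Finite.of_equiv _ extEquiv.symm

noncomputable instance : Fintype (Ext c) := Fintype.ofFinite _

instance : Mul (Ext c) := ⟨fun g h => ⟨g.vec + h.vec, g.scal + h.scal + β c g.vec h.vec⟩⟩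
instance : One (Ext c) := ⟨⟨0, 0⟩⟩
instance : Inv (Ext c) := ⟨fun g => ⟨g.vec, g.scal + β c g.vec g.vec⟩⟩

theorem mul_vec (g h : Ext c) : (g * h).vec = g.vec + h.vec := rfl
theorem mul_scal (g h : Ext c) : (g * h).scal = g.scal + h.scal + β c g.vec h.vec := rfl
theorem one_vec : (1 : Ext c).vec = 0 := rfl
theorem one_scal : (1 : Ext c).scal = 0 := rfl
theorem inv_vec (g : Ext c) : (g⁻¹).vec = g.vec := rfl

instance : Group (Ext c) :=
  Group.ofLeftAxioms
    (fun a b d => Ext.ext (add_assoc _ _ _) (by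
      simp only [mul_scal, mul_vec, β_add_left, β_add_right]; ring))
    (fun a => Ext.ext (zero_add _) (by simp [mul_scal, one_scal, one_vec, β_zero_left]))
    (fun a => Ext.ext (add_self_vec _) (by
      show a.scal + β c a.vec a.vec + a.scal + β c a.vec a.vec = 0
      rw [add_assoc (a.scal + β c a.vec a.vec)]; exact CharTwo.add_self_eq_zero _))

theorem mul_comm_iff (g h : Ext c) : g * h = h * g ↔ β c g.vec h.vec = β c h.vec g.vec := by
  rw [Ext.ext_iff, mul_vec, mul_vec, mul_scal, mul_scal, add_comm g.vec, add_comm g.scal h.scal]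
  simp

theorem card_ext : Nat.card (Ext c) = 2 ^ (2 * n + 1) := by
  rw [Nat.card_congr extEquiv, Nat.card_eq_fintype_card]
  simp only [Fintype.card_prod, Fintype.card_fun, ZMod.card, Fintype.card_fin]
  rw [← pow_two, ← pow_mul, pow_succ]

theorem mem_center_iff' (g : Ext c) : g ∈ Subgroup.center (Ext c) ↔ g.vec = 0 := by
  rw [Subgroup.mem_center_iff]
  refine ⟨fun h => funext fun i => ?_, fun h x => ?_⟩
  · have e1 := (mul_comm_iff _ _).mp (h ⟨Pi.single i (1, 0), 0⟩)
    have e2 := (mul_comm_iff _ _).mp (h ⟨Pi.single i (0, 1), 0⟩)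
    simp only [β, Pi.single_apply, apply_ite Prod.fst, apply_ite Prod.snd, Prod.fst_zero, Prod.snd_zero,
      ite_mul, mul_ite, zero_mul, mul_zero, one_mul, mul_one, add_zero, zero_add, ite_self,
      Finset.sum_ite_eq', Finset.mem_univ, if_true, Finset.sum_add_distrib] at e1 e2
    exact pair_cases _ _ e1 e2
  · rw [mul_comm_iff, h, β_zero_left, β_zero_right]

theorem card_center : Nat.card (Subgroup.center (Ext c)) = 2 := by
  rw [Nat.card_congr (β := ZMod 2)
    { toFun := fun g => g.1.scal
      invFun := fun a => ⟨⟨0, a⟩, (mem_center_iff' _).mpr rfl⟩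
      left_inv := fun g => Subtype.ext (Ext.ext ((mem_center_iff' _).mp g.2).symm rfl)
      right_inv := fun a => rfl }]
  simp

theorem isExtraspecial (hn : 1 ≤ n) : Cfsg.IsExtraspecial 2 (Ext c) := by
  have : Fact (Nat.Prime 2) := ⟨Nat.prime_two⟩
  have hP : IsPGroup 2 (Ext c) := IsPGroup.of_card card_ext
  have hle : commutator (Ext c) ≤ Subgroup.center (Ext c) := by
    rw [commutator_def, Subgroup.commutator_le]
    intro a _ b _
    rw [mem_center_iff', commutatorElement_def]
    simp only [mul_vec, inv_vec]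
    rw [add_assoc (a.vec + b.vec)]; exact add_self_vec _
  have hcomm : commutator (Ext c) = Subgroup.center (Ext c) := by
    refine Subgroup.eq_of_le_of_card_ge hle ?_
    rw [card_center]
    obtain ⟨i⟩ : Nonempty (Fin n) := ⟨⟨0, hn⟩⟩
    let a : Ext c := ⟨Pi.single i (1, 0), 0⟩
    let b : Ext c := ⟨Pi.single i (0, 1), 0⟩
    have hne : a * b ≠ b * a := by
      rw [Ne, mul_comm_iff]
      simp [a, b, β, Pi.single_apply, apply_ite Prod.fst, apply_ite Prod.snd, Finset.sum_add_distrib]
    have hmem : ⁅a, b⁆ ∈ commutator (Ext c) :=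
      Subgroup.commutator_mem_commutator (Subgroup.mem_top a) (Subgroup.mem_top b)
    have : Nontrivial (commutator (Ext c)) :=
      ⟨⟨⟨_, hmem⟩, 1, fun e => hne (commutatorElement_eq_one_iff_mul_comm.mp (congrArg Subtype.val e))⟩⟩
    exact Finite.one_lt_card
  refine ⟨⟨hP, le_antisymm (PGroup.frattini_le (p := 2) hle fun x => ?_) (hcomm ▸ PGroup.commutator_le_frattini hP),
    hcomm⟩, card_center⟩
  rw [mem_center_iff', pow_two, mul_vec, add_self_vec]

/-- the standard totally singular subgroup -/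
def low (c : Fin n → ZMod 2) : Subgroup (Ext c) where
  carrier := {g | ∀ i, (g.vec i).1 = 0 ∧ c i * (g.vec i).2 = 0}
  one_mem' := fun i => by simp [one_vec]
  mul_mem' := fun {a b} ha hb i => by
    simp [mul_vec, mul_add, (ha i).1, (ha i).2, (hb i).1, (hb i).2]
  inv_mem' := fun {a} ha i => by rw [inv_vec]; exact ha i

theorem β_low {g h : Ext c} (hg : g ∈ low c) (hh : h ∈ low c) : β c g.vec h.vec = 0 := by
  refine Finset.sum_eq_zero fun i _ => ?_
  rw [(hg i).1, (hh i).1, zero_mul, zero_mul, zero_add, zero_add, ← mul_assoc, (hg i).2, zero_mul]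

theorem low_isElementaryAbelian : Cfsg.IsElementaryAbelian 2 (low c) := by
  refine ⟨⟨⟨fun a b => Subtype.ext ((mul_comm_iff _ _).mpr ?_)⟩⟩, fun a ha => ?_⟩
  · rw [β_low a.2 b.2, β_low b.2 a.2]
  · rw [pow_two]
    refine Ext.ext (add_self_vec _) ?_
    rw [mul_scal, β_low ha ha, add_zero]; exact CharTwo.add_self_eq_zero _

theorem card_low : Nat.card (low c) = 2 ^ (Fintype.card {i // c i = 0} + 1) := by
  rw [Nat.card_congr (α := low c) (β := ({i // c i = 0} → ZMod 2) × ZMod 2)
    { toFun := fun g => (fun i => (g.1.vec i.1).2, g.1.scal)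
      invFun := fun x => ⟨⟨fun i => (0, if h : c i = 0 then x.1 ⟨i, h⟩ else 0), x.2⟩, fun i => by
        by_cases h : c i = 0 <;> simp [h]⟩
      left_inv := fun g => by
        refine Subtype.ext (Ext.ext (funext fun i => Prod.ext (g.2 i).1.symm ?_) rfl)
        show (if _h : c i = 0 then (g.1.vec i).2 else 0) = (g.1.vec i).2
        by_cases h : c i = 0
        · simp [h]
        · rw [dif_neg h]
          exact ((mul_eq_zero.mp (g.2 i).2).resolve_left h).symm
      right_inv := fun x => Prod.ext (funext fun i => by simp [i.2]) rfl }]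
  rw [Nat.card_eq_fintype_card, Fintype.card_prod, Fintype.card_fun, ZMod.card, pow_succ]

/-- sign character of `F₂` -/
def χ (a : ZMod 2) : ℤ := if a = 0 then 1 else -1

theorem χ_add : ∀ x y : ZMod 2, χ (x + y) = χ x * χ y := by decide

theorem χ_ne : ∀ x : ZMod 2, χ x ≠ -1 → x = 0 := by decide

theorem χ_sum {ι : Type*} (s : Finset ι) (f : ι → ZMod 2) : χ (∑ i ∈ s, f i) = ∏ i ∈ s, χ (f i) := by
  classical
  induction s using Finset.induction_on with
  | empty => simp [χ]
  | insert a s ha ih =>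
    rw [Finset.sum_insert ha, Finset.prod_insert ha, ← ih]
    generalize f a = x, ∑ i ∈ s, f i = y
    revert x y
    decide

theorem sum_sign : ∑ g : Ext c, χ (β c g.vec g.vec) = 2 * (2 ^ n * χ (∑ i, c i)) := by
  classical
  rw [Fintype.sum_equiv extEquiv (fun g => χ (β c g.vec g.vec)) (fun x => χ (β c x.1 x.1)) (fun _ => rfl),
    Fintype.sum_prod_type]
  simp only [Finset.sum_const, Finset.card_univ, ZMod.card, nsmul_eq_mul, Nat.cast_ofNat, ← Finset.mul_sum]
  congr 1
  simp only [β, χ_sum]
  rw [← Fintype.prod_sum fun i (x : ZMod 2 × ZMod 2) => χ (x.1 * x.2 + c i * (x.1 * x.1 + x.2 * x.2))]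
  have key : ∀ a : ZMod 2, ∑ x : ZMod 2 × ZMod 2, χ (x.1 * x.2 + a * (x.1 * x.1 + x.2 * x.2)) = 2 * χ a := by
    decide
  simp only [key, Finset.prod_mul_distrib, Finset.prod_const, Finset.card_univ, Fintype.card_fin]

/-- an elementary abelian subgroup of order `2 ^ (n+1)` forces the plus type -/
theorem sum_eq_zero_of_card (hn : 1 ≤ n) {A : Subgroup (Ext c)} (hA : Cfsg.IsElementaryAbelian 2 A)
    (hc : Nat.card A = 2 ^ (n + 1)) : ∑ i, c i = 0 := by
  classical
  have : Fact (Nat.Prime 2) := ⟨Nat.prime_two⟩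
  have hE := isExtraspecial (c := c) hn
  obtain ⟨B, hAB, hB, hmax⟩ := PGroup.exists_le_maximal_abelian hA.1
  have hB2 := PGroup.extraspecial_maximal_abelian_sq hE hB hmax
  have hBA : B = A := by
    refine (Subgroup.eq_of_le_of_card_ge hAB (Nat.le_of_eq ?_)).symm
    refine Nat.pow_left_injective (by omega : (2 : ℕ) ≠ 0) ?_
    show Nat.card B ^ 2 = Nat.card A ^ 2
    rw [hB2, hc, card_ext, ← pow_succ', ← pow_mul]; congr 1; omega
  subst hBA
  have hcent := PGroup.centralizer_eq_of_maximal_abelian hB hmax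
  set σ : Ext c → ℤ := fun g => χ (β c g.vec g.vec) with hσ
  set τ : Ext c → B → ℤ := fun g a => χ (β c g.vec a.1.vec + β c a.1.vec g.vec) with hτ
  have hsing : ∀ a : B, β c a.1.vec a.1.vec = 0 := fun a => by
    have := congrArg Ext.scal (hA.2 a.1 a.2)
    rw [pow_two, mul_scal, one_scal, CharTwo.add_self_eq_zero, zero_add] at this
    exact this
  have hmulσ : ∀ g (a : B), σ (g * a.1) = σ g * τ g a := fun g a => by
    simp only [hσ, hτ, mul_vec, β_add_left, β_add_right, hsing, χ_add, add_zero]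
    ring
  have hinner : ∀ g, ∑ a, τ g a = if g ∈ B then (Fintype.card B : ℤ) else 0 := by
    intro g
    split_ifs with hg
    · have : ∀ a : B, τ g a = 1 := fun a => by
        have e : g * a.1 = a.1 * g := by
          rw [← hcent] at hg
          exact (Subgroup.mem_centralizer_iff.mp hg a.1 a.2).symm
        simp only [hτ, (mul_comm_iff _ _).mp e, CharTwo.add_self_eq_zero]
        rfl
      simp [this]
    · obtain ⟨a0, ha0⟩ : ∃ a0 : B, g * a0.1 ≠ a0.1 * g := by
        by_contra hcon
        push Not at hcon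
        apply hg
        rw [← hcent]
        exact Subgroup.mem_centralizer_iff.mpr fun a ha => (hcon ⟨a, ha⟩).symm
      have hneg : ∀ a, τ g (a0 * a) = - τ g a := by
        intro a
        have h1 : β c g.vec a0.1.vec + β c a0.1.vec g.vec = 1 := by
          rw [Ne, mul_comm_iff] at ha0
          exact ne_add_one _ _ ha0
        simp only [hτ, Subgroup.coe_mul, mul_vec, β_add_left, β_add_right]
        rw [add_add_add_comm, h1, χ_add, show χ 1 = -1 from rfl, neg_one_mul]
      have hsum := Equiv.sum_comp (Equiv.mulLeft a0) (τ g)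
      simp only [Equiv.coe_mulLeft, hneg, Finset.sum_neg_distrib] at hsum
      omega
  have hshift : ∀ a : B, ∑ g, σ (g * a.1) = ∑ g, σ g := fun a => Equiv.sum_comp (Equiv.mulRight a.1) σ
  have h1 : (Fintype.card B : ℤ) * ∑ g, σ g = (Fintype.card B : ℤ) * (Fintype.card B : ℤ) := by
    calc (Fintype.card B : ℤ) * ∑ g, σ g = ∑ a : B, ∑ g, σ (g * a.1) := by
          simp only [hshift, Finset.sum_const, Finset.card_univ, nsmul_eq_mul]
      _ = ∑ g, σ g * ∑ a : B, τ g a := by
          rw [Finset.sum_comm]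
          simp only [hmulσ, Finset.mul_sum]
      _ = ∑ g, if g ∈ B then (Fintype.card B : ℤ) else 0 := by
          refine Finset.sum_congr rfl fun g _ => ?_
          rw [hinner g]
          split_ifs with hg
          · have h0 := hsing ⟨g, hg⟩
            simp only [hσ, h0]; simp [χ]
          · exact mul_zero _
      _ = _ := by
          rw [← Finset.sum_filter, Finset.sum_const, nsmul_eq_mul, Fintype.card_subtype]
  have hpos : (0 : ℤ) < Fintype.card B := by exact_mod_cast Fintype.card_pos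
  have h2 := mul_left_cancel₀ hpos.ne' h1
  rw [hσ, sum_sign] at h2
  have h3 : χ (∑ i, c i) ≠ -1 := fun e => by
    rw [e] at h2
    have : (0 : ℤ) < 2 ^ n := by positivity
    linarith
  exact χ_ne _ h3

theorem rank_le (hn : 1 ≤ n) {A : Subgroup (Ext c)} (hA : Cfsg.IsElementaryAbelian 2 A) {k : ℕ}
    (hk : Nat.card A = 2 ^ k) : k ≤ n + 1 := by
  have : Fact (Nat.Prime 2) := ⟨Nat.prime_two⟩
  have := PGroup.extraspecial_abelian_card_le (isExtraspecial (c := c) hn) hA.1
  rw [hk, card_ext, ← pow_mul, ← pow_succ'] at this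
  have := (Nat.pow_le_pow_iff_right (by omega : 1 < 2)).mp this
  omega

/-- For every n ≥ 1 there exist finite extraspecial 2-groups of order 2^(2n+1) whose 2-rank (the largest rank of an elementary abelian subgroup) is n, and ones whose 2-rank is n + 1 (so for each such order there are two non-isomorphic extraspecial 2-groups, told apart by their 2-rank). -/
theorem result (n : ℕ) (hn : 1 ≤ n) : ∀ r ∈ ({n, n + 1} : Set ℕ), ∃ (E : Type) (_ : Group E) (_ : Finite E), Cfsg.IsExtraspecial 2 E ∧ Nat.card E = 2 ^ (2 * n + 1) ∧ sSup {k : ℕ | ∃ A : Subgroup E, Cfsg.IsElementaryAbelian 2 A ∧ Nat.card A = 2 ^ k} = r := by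
  rintro r (rfl | rfl)
  · have i0 : Fin r := ⟨0, hn⟩
    refine ⟨Ext (Pi.single i0 (1 : ZMod 2)), inferInstance, inferInstance, isExtraspecial hn, card_ext, ?_⟩
    refine IsGreatest.csSup_eq ⟨⟨low _, low_isElementaryAbelian, ?_⟩, ?_⟩
    · rw [card_low]
      congr 1
      rw [Fintype.card_subtype, show Finset.univ.filter (fun i => Pi.single (M := fun _ => ZMod 2) i0 1 i = 0)
        = Finset.univ.erase i0 from ?_, Finset.card_erase_of_mem (Finset.mem_univ _), Finset.card_univ,
        Fintype.card_fin]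
      · omega
      · ext i
        by_cases h : i = i0 <;> simp [h]
    · rintro k ⟨A, hA, hk⟩
      have h1 := rank_le hn hA hk
      rcases h1.lt_or_eq with h | h
      · omega
      · exfalso
        have := sum_eq_zero_of_card hn hA (h ▸ hk)
        rw [Finset.sum_pi_single'] at this
        simp at this
  · refine ⟨Ext (fun _ : Fin n => (0 : ZMod 2)), inferInstance, inferInstance, isExtraspecial hn, card_ext, ?_⟩
    refine IsGreatest.csSup_eq ⟨⟨low _, low_isElementaryAbelian, ?_⟩, ?_⟩
    · simp [card_low]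
    · rintro k ⟨A, hA, hk⟩
      exact rank_le hn hA hk

end Cfsg.Agent.S5396
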