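import Cfsg.Statements.S5397
import Cfsg.Agent.S5378
import Cfsg.Agent.Lib.ConwayType.BigMain
import Cfsg.Agent.Lib.ConwayType.BigSplit
-- import your own Cfsg.Agent.* helpers here

set_option autoImplicit false
open Cfsg

namespace Cfsg.Agent.S5397

/-- Let G be a finite group of Conway type (involution z with generalized Fitting subgroup Q of its centralizer C extraspecial of order 2^9, C/Q the commutator subgroup of the isometry group of the hyperbolic quadratic form in dimension 8 over the field with two elements, z not weakly closed in Q). Then G has an elementary abelian subgroup A of order 2^11 containing z whose normalizer N is a split extension of A with N/A isomorphic to the automorphism group of the length-24 code built from the squares modulo 23, and N has exactly two orbits on the non-identity elements of A. -/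
theorem result {G : Type*} [Group G] [Finite G] (z : G) (hz : orderOf z = 2) (Q : Subgroup (Subgroup.centralizer ({z} : Set G))) [Q.Normal] (hF : Cfsg.generalizedFittingSubgroup (Subgroup.centralizer ({z} : Set G)) = Q) (hQ : Cfsg.IsExtraspecial 2 Q) (hcard : Nat.card Q = 2 ^ 9) (e : (Subgroup.centralizer ({z} : Set G)) ⧸ Q ≃* Cfsg.Omega (ZMod 2) (Cfsg.quadFormPlus 4 (ZMod 2))) (hnwc : ∃ g : G, (∃ hq : g * z * g⁻¹ ∈ Subgroup.centralizer ({z} : Set G), (⟨g * z * g⁻¹, hq⟩ : Subgroup.centralizer ({z} : Set G)) ∈ Q) ∧ g * z * g⁻¹ ≠ z) : ∃ A : Subgroup G, Cfsg.IsElementaryAbelian 2 A ∧ Nat.card A = 2 ^ 11 ∧ z ∈ A ∧ ∃ _ : (A.subgroupOf (Subgroup.normalizer (A : Set G))).Normal, Nonempty (↥(Subgroup.normalizer (A : Set G)) ⧸ A.subgroupOf (Subgroup.normalizer (A : Set G)) ≃* ↥Cfsg.M24) ∧ (∃ K : Subgroup ↥(Subgroup.normalizer (A : Set G)), (A.subgroupOf (Subgroup.normalizer (A : Set G))).IsComplement' K) ∧ ∃ a ∈ A, ∃ b ∈ A, a ≠ 1 ∧ b ≠ 1 ∧ (∀ n ∈ Subgroup.normalizer (A : Set G), n * a * n⁻¹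 ≠ b) ∧ ∀ c ∈ A, c ≠ 1 → ∃ n ∈ Subgroup.normalizer (A : Set G), n * c * n⁻¹ = a ∨ n * c * n⁻¹ = b := by
  classical
  let P : Subgroup G := Q.map (Subgroup.centralizer ({z} : Set G)).subtype
  have hle : P ≤ Subgroup.centralizer ({z} : Set G) := Subgroup.map_subtype_le _
  obtain ⟨hub, -, -⟩ := LargeExtraspecial.Hub.of_setting (Q := P) hz hle (by rw [hF])
    (TI.isExtraspecial_congr (Q.equivMapOfInjective _ (Subgroup.subtype_injective _)) hQ)
  have hmem : ∀ {x : Subgroup.centralizer ({z} : Set G)}, (x : G) ∈ P ↔ x ∈ Q := fun {x} =>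
    Subgroup.mem_map_iff_mem (Subgroup.subtype_injective _)
  obtain ⟨g, ⟨hq, hgQ⟩, hgz⟩ := hnwc
  have hgP : g * z * g⁻¹ ∈ P := hmem.mpr hgQ
  have d : ConwayType.Data z P := by
    refine ⟨hub, hle, ?_, ?_, ⟨g, hgP, hgz⟩⟩
    · rw [Subgroup.card_map_of_injective (Subgroup.subtype_injective _), hcard]; norm_num
    · rw [Subgroup.card_eq_card_quotient_mul_card_subgroup Q, Nat.card_congr e.toEquiv,
        S5378.card_omega, hcard]; norm_num
  obtain ⟨S⟩ := ConwayType.exists_setup d (y := g * z * g⁻¹)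
    ⟨hgP, ConwayType.conj_sq d.hub.sq, fun h => d.hub.ne_one (by simpa using h), hgz⟩ rfl
  obtain ⟨l⟩ := ConwayType.exists_lifts d S
  exact ConwayType.golay_two_local d l (ConwayType.exists_big_split d l)

end Cfsg.Agent.S5397
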