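import Cfsg.Statements.S5405
import Cfsg.Agent.Lib.OrthH1.Certs
import Cfsg.Agent.S0824

set_option autoImplicit false
open scoped MatrixGroups Matrix
open Cfsg

namespace Cfsg.Agent.S5405

open Cfsg.Agent.OrthH1 Cfsg.Agent.ClassicalSimple

/-- The alternating group of degree five has no proper subgroup of order divisible by fifteen. -/
theorem alt_five_eq_top (K : Subgroup (alternatingGroup (Fin 5))) (h3 : 3 ∣ Nat.card K)
    (h5 : 5 ∣ Nat.card K) : K = ⊤ := by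
  haveI := alternatingGroup.isSimpleGroup_five
  have h15 : 15 ∣ Nat.card K := (Nat.Coprime.mul_dvd_of_dvd_of_dvd (by norm_num) h3 h5 : 3 * 5 ∣ _)
  have h60 : Nat.card (alternatingGroup (Fin 5)) = 60 := by
    have := two_mul_card_alternatingGroup (α := Fin 5)
    rw [Fintype.card_perm, Fintype.card_fin] at this
    rw [Nat.card_eq_fintype_card]
    have h120 : Nat.factorial 5 = 120 := rfl
    omega
  have hidx := K.card_mul_index
  rw [h60] at hidx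
  rcases (inferInstance : K.normalCore.Normal).eq_bot_or_eq_top with h | h
  · exfalso
    let ρ := MulAction.toPermHom (alternatingGroup (Fin 5)) (alternatingGroup (Fin 5) ⧸ K)
    have hρ : Function.Injective ρ := by
      rw [← MonoidHom.ker_eq_bot_iff, ← Subgroup.normalCore_eq_ker, h]
    have hle := Nat.card_le_card_of_injective ρ hρ
    rw [h60, Nat.card_perm, ← Subgroup.index] at hle
    have hpos : 0 < Nat.card K := Nat.card_pos
    have h4 : K.index ≤ 4 := by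
      obtain ⟨c, hc⟩ := h15
      rw [hc] at hidx hpos
      have : 15 * 1 * K.index ≤ 15 * c * K.index := Nat.mul_le_mul_right _ (Nat.mul_le_mul_left _ (by omega))
      omega
    have h24 : K.index.factorial ≤ 24 := (Nat.factorial_le h4).trans (le_of_eq rfl)
    omega
  · exact top_le_iff.1 (h ▸ K.normalCore_le)

theorem code_eq_zero {ι : Type} {n : ℕ} (en : ι ≃ Fin n) {y : ℕ} (h : code en y = 0) : y % 2 ^ n = 0 := by
  refine Nat.eq_of_testBit_eq fun j => ?_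
  rw [Nat.testBit_mod_two_pow, Nat.zero_testBit]
  by_cases hj : j < n
  · have := congrFun h (en.symm ⟨j, hj⟩)
    simp only [code, Equiv.apply_symm_apply, Pi.zero_apply] at this
    revert this
    cases y.testBit j <;> simp
  · simp [hj]

abbrev f₄ := Cfsg.quadFormMinus 1 (ZMod 2) 1 1

/-- The first rotation as a word. -/
def w₁ : List ℕ := rotsWord [(3, 5)]

/-- The second rotation as a word. -/
def w₂ : List ℕ := rotsWord [(4, 8)]

/-- The values at the two rotations are zero. -/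
def solCheck : Bool :=
  (List.range 16).all fun a => (List.range 16).all fun b =>
    a == 0 || ((a ^^^ evalN (enMinus 1) f₄ w₁ b) % 16 != 0) ||
    ((a ^^^ (evalN (enMinus 1) f₄ w₁ a ^^^ evalN (enMinus 1) f₄ w₁ (evalN (enMinus 1) f₄ w₁ a))) % 16 != 0) ||
    ((b ^^^ (evalN (enMinus 1) f₄ w₂ b ^^^ evalN (enMinus 1) f₄ w₂ (evalN (enMinus 1) f₄ w₂ b))) % 16 != 0)

theorem facts_four :
    fixFreeN (enMinus 1) f₄ (rotsWord [(3, 5), (4, 8)]) = true ∧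
    sameN (enMinus 1) f₄ (rotsWord [(3, 5), (3, 5), (3, 5)]) (rotsWord []) = true ∧
    sameN (enMinus 1) f₄ (rotsWord [(4, 8), (4, 8), (4, 8)]) (rotsWord []) = true ∧
    sameN (enMinus 1) f₄ (rotsWord ((List.replicate 5 [(3, 5), (4, 8)]).flatten)) (rotsWord []) = true ∧
    (List.range 16).any (fun k => (evalN (enMinus 1) f₄ w₁ k ^^^ k) % 16 != 0) = true ∧
    (List.range 16).any (fun k => (evalN (enMinus 1) f₄ (rotsWord [(3, 5), (4, 8)]) k ^^^ k) % 16 != 0) = true ∧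
    solCheck = true := by
  decide +kernel

theorem minus_four (φ : ↥(Cfsg.Omega (ZMod 2) f₄) → (Fin 1 ⊕ Fin 1) ⊕ Fin 2 → ZMod 2)
    (hφ : IsCocycle omegaMat φ) : IsPrincipal omegaMat φ := by
  set Q := Forms.quadMinus 1 (ZMod 2) 1 1
  have hQ : ∀ v, Q v = f₄ v := Forms.quadMinus_apply
  set en := enMinus 1
  obtain ⟨hff, hc1, hc2, hc5, hn1, hn5, hsol⟩ := facts_four
  obtain ⟨v, hψ, hzero⟩ := exists_normalized hφ (rots_fixFree en Q hQ hff)
  refine isPrincipal_of_zero v hψ ?_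
  set H := zeroSubgroup hψ
  set ψ := fun g => φ g - (omegaMat g *ᵥ v - v)
  set z₁ := rots en Q hQ [(3, 5)]
  set z₂ := rots en Q hQ [(4, 8)]
  have hx : rots en Q hQ [(3, 5), (4, 8)] = z₁ * z₂ := rots_append en Q hQ [(3, 5)] [(4, 8)]
  have hz₁ : z₁ * (z₁ * z₁) = 1 := by
    have h := rots_eq en Q hQ hc1
    rw [show [(3, 5), (3, 5), (3, 5)] = [((3 : ℕ), (5 : ℕ))] ++ ([(3, 5)] ++ [(3, 5)]) from rfl, rots_append,
      rots_append] at h
    exact h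
  have hz₂ : z₂ * (z₂ * z₂) = 1 := by
    have h := rots_eq en Q hQ hc2
    rw [show [(4, 8), (4, 8), (4, 8)] = [((4 : ℕ), (8 : ℕ))] ++ ([(4, 8)] ++ [(4, 8)]) from rfl, rots_append,
      rots_append] at h
    exact h
  obtain ⟨a, ha, hav⟩ := code_surjective en (ψ z₁)
  obtain ⟨b, hb, hbv⟩ := code_surjective en (ψ z₂)
  have e1 : code en (a ^^^ evalN en f₄ w₁ b) = 0 := by
    rw [code_xor, w₁, ← rots_apply en Q hQ [(3, 5)], hav, hbv, ← hψ z₁ z₂, ← hx]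
    exact hzero
  have e2 : code en (a ^^^ (evalN en f₄ w₁ a ^^^ evalN en f₄ w₁ (evalN en f₄ w₁ a))) = 0 := by
    rw [code_xor, code_xor, w₁, ← rots_apply en Q hQ [(3, 5)] (evalN en f₄ (rotsWord [(3, 5)]) a),
      ← rots_apply en Q hQ [(3, 5)] a, hav, ← Matrix.mulVec_add, ← hψ z₁ z₁, ← hψ z₁ (z₁ * z₁), hz₁]
    exact cocycle_one hψ
  have e3 : code en (b ^^^ (evalN en f₄ w₂ b ^^^ evalN en f₄ w₂ (evalN en f₄ w₂ b))) = 0 := by
    rw [code_xor, code_xor, w₂, ← rots_apply en Q hQ [(4, 8)] (evalN en f₄ (rotsWord [(4, 8)]) b),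
      ← rots_apply en Q hQ [(4, 8)] b, hbv, ← Matrix.mulVec_add, ← hψ z₂ z₂, ← hψ z₂ (z₂ * z₂), hz₂]
    exact cocycle_one hψ
  have hsol' := List.all_eq_true.1 (List.all_eq_true.1 hsol a (List.mem_range.2 ha)) b (List.mem_range.2 hb)
  have q1 : _ % 16 = 0 := code_eq_zero en e1
  have q2 : _ % 16 = 0 := code_eq_zero en e2
  have q3 : _ % 16 = 0 := code_eq_zero en e3
  simp only [Bool.or_eq_true, bne_iff_ne, beq_iff_eq] at hsol'
  have ha0 : a = 0 := by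
    rcases hsol' with ((h | h) | h) | h
    · exact h
    · exact absurd q1 h
    · exact absurd q2 h
    · exact absurd q3 h
  have hz₁H : z₁ ∈ H := by
    show ψ z₁ = 0
    rw [← hav, ha0]
    funext i; simp [code]
  have hxH : z₁ * z₂ ∈ H := hx ▸ hzero
  -- into the alternating group
  obtain ⟨e⟩ := S0824.core
  have hker : ∀ g : ↥(Cfsg.Omega (ZMod 2) f₄), e g.1 ∈ alternatingGroup (Fin 5) := fun g => by
    rw [Equiv.Perm.mem_alternatingGroup]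
    exact Abelianization.commutator_subset_ker (Equiv.Perm.sign.comp e.toMonoidHom) g.2
  let θ : ↥(Cfsg.Omega (ZMod 2) f₄) →* alternatingGroup (Fin 5) :=
    (e.toMonoidHom.comp (Cfsg.Omega (ZMod 2) f₄).subtype).codRestrict _ hker
  have hθ : Function.Injective θ := fun p q h => Subtype.ext (e.injective (congrArg Subtype.val h))
  have hne : ∀ l : List (ℕ × ℕ),
      (List.range 16).any (fun k => (evalN en f₄ (rotsWord l) k ^^^ k) % 16 != 0) = true →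
      rots en Q hQ l ≠ 1 := by
    intro l h e'
    obtain ⟨k, -, hk⟩ := List.any_eq_true.1 h
    refine (bne_iff_ne.1 hk) (code_eq_zero en ?_)
    rw [code_xor, ← rots_apply en Q hQ l k, e', map_one, Matrix.one_mulVec, ← code_xor, Nat.xor_self]
    funext i; simp [code]
  have ho3 : orderOf (θ z₁) = 3 := by
    rw [orderOf_injective θ hθ]
    exact orderOf_eq_prime (by rw [pow_succ', pow_two]; exact hz₁) (hne _ hn1)
  have ho5 : orderOf (θ (z₁ * z₂)) = 5 := by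
    rw [orderOf_injective θ hθ, ← hx]
    have : Fact (Nat.Prime 5) := ⟨by norm_num⟩
    refine orderOf_eq_prime ?_ (hne _ hn5)
    have h := rots_eq en Q hQ hc5
    simp only [List.replicate_succ, List.replicate_zero, List.flatten_cons, List.flatten_nil, List.append_nil,
      rots_append] at h
    simp only [pow_succ, pow_zero, one_mul, mul_assoc]
    exact h
  have hK : H.map θ = ⊤ := by
    refine alt_five_eq_top _ ?_ ?_
    · exact ho3 ▸ Subgroup.orderOf_dvd_natCard _ (Subgroup.mem_map_of_mem θ hz₁H)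
    · have h := Subgroup.orderOf_dvd_natCard _ (Subgroup.mem_map_of_mem θ hxH)
      rwa [ho5] at h
  refine eq_top_iff.2 fun g _ => ?_
  obtain ⟨g', hg', e'⟩ := (hK ▸ Subgroup.mem_top (θ g) : θ g ∈ H.map θ)
  exact hθ e' ▸ hg'

theorem minus_six (φ : ↥(Cfsg.Omega (ZMod 2) (Cfsg.quadFormMinus 2 (ZMod 2) 1 1)) →
    (Fin 2 ⊕ Fin 2) ⊕ Fin 2 → ZMod 2) (hφ : IsCocycle omegaMat φ) : IsPrincipal omegaMat φ :=
  isPrincipal_of_cert (Forms.quadMinus 2 (ZMod 2) 1 1) Forms.quadMinus_apply certMinus certMinus_valid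
    (closure_reflectionSet_eq_top _ (Forms.quadMinus_nondegenerate 2 (by decide)) (Or.inr (by simp))) hφ

theorem plus_eight (φ : ↥(Cfsg.Omega (ZMod 2) (Cfsg.quadFormPlus 4 (ZMod 2))) →
    Fin 4 ⊕ Fin 4 → ZMod 2) (hφ : IsCocycle omegaMat φ) : IsPrincipal omegaMat φ :=
  isPrincipal_of_cert (Forms.quadPlus 4 (ZMod 2)) Forms.quadPlus_apply certPlus certPlus_valid
    (closure_reflectionSet_eq_top _ (Forms.quadPlus_nondegenerate 4) (Or.inr (by simp))) hφ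

/-- Vanishing of first cohomology on the natural module for three small orthogonal groups over the field with two elements: for the commutator subgroup of the isometry group of the elliptic quadratic form in dimension 4, of the elliptic form in dimension 6, and of the hyperbolic form in dimension 8, every crossed homomorphism into the natural module (a map f with f(gh) = f(g) + g·f(h)) is principal (of the form g ↦ g·v − v). -/
theorem result : (∀ f : ↥(Cfsg.Omega (ZMod 2) (Cfsg.quadFormMinus 1 (ZMod 2) 1 1)) → ((Fin 1 ⊕ Fin 1) ⊕ Fin 2 → ZMod 2), (∀ g h : ↥(Cfsg.Omega (ZMod 2) (Cfsg.quadFormMinus 1 (ZMod 2) 1 1)), f (g * h) = f g + Matrix.mulVec (((g : ↥(Cfsg.isometryGroup (ZMod 2) (Cfsg.quadFormMinus 1 (ZMod 2) 1 1))) : GL ((Fin 1 ⊕ Fin 1) ⊕ Fin 2) (ZMod 2)) : Matrix ((Fin 1 ⊕ Fin 1) ⊕ Fin 2) ((Fin 1 ⊕ Fin 1) ⊕ Fin 2) (ZMod 2)) (f h)) → ∃ v : (Fin 1 ⊕ Fin 1) ⊕ Fin 2 → ZMod 2, ∀ g : ↥(Cfsg.Omega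 (ZMod 2) (Cfsg.quadFormMinus 1 (ZMod 2) 1 1)), f g = Matrix.mulVec (((g : ↥(Cfsg.isometryGroup (ZMod 2) (Cfsg.quadFormMinus 1 (ZMod 2) 1 1))) : GL ((Fin 1 ⊕ Fin 1) ⊕ Fin 2) (ZMod 2)) : Matrix ((Fin 1 ⊕ Fin 1) ⊕ Fin 2) ((Fin 1 ⊕ Fin 1) ⊕ Fin 2) (ZMod 2)) v - v) ∧ (∀ f : ↥(Cfsg.Omega (ZMod 2) (Cfsg.quadFormMinus 2 (ZMod 2) 1 1)) → ((Fin 2 ⊕ Fin 2) ⊕ Fin 2 → ZMod 2), (∀ g h : ↥(Cfsg.Omega (ZMod 2) (Cfsg.quadFormMinus 2 (ZMod 2) 1 1)), f (g * h) = f g + Matrix.mulVec (((g : ↥(Cfsg.isometryGroup (ZMod 2) (Cfsg.quadFormMinus 2 (ZMod 2) 1 1))) : GL ((Fin 2 ⊕ Fin 2) ⊕ Fin 2) (ZMod 2)) : Matrix ((Fin 2 ⊕ Fin 2) ⊕ Fin 2) ((Fin 2 ⊕ Fin 2) ⊕ Fin 2) (ZMod 2)) (f h)) → ∃ v : (Fin 2 ⊕ Fin 2) ⊕ Fin 2 → ZMod 2, ∀ g : ↥(Cfsg.Omega (ZMod 2) (Cfsg.quadFormMinus 2 (ZMod 2) 1 1)), f g = Matrix.mulVec (((g : ↥(Cfsg.isometryGroup (ZMod 2) (Cfsg.quadFormMinus 2 (ZMod 2) 1 1))) : GL ((Fin 2 ⊕ Fin 2) ⊕ Fin 2) (ZMod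 2)) : Matrix ((Fin 2 ⊕ Fin 2) ⊕ Fin 2) ((Fin 2 ⊕ Fin 2) ⊕ Fin 2) (ZMod 2)) v - v) ∧ (∀ f : ↥(Cfsg.Omega (ZMod 2) (Cfsg.quadFormPlus 4 (ZMod 2))) → (Fin 4 ⊕ Fin 4 → ZMod 2), (∀ g h : ↥(Cfsg.Omega (ZMod 2) (Cfsg.quadFormPlus 4 (ZMod 2))), f (g * h) = f g + Matrix.mulVec (((g : ↥(Cfsg.isometryGroup (ZMod 2) (Cfsg.quadFormPlus 4 (ZMod 2)))) : GL (Fin 4 ⊕ Fin 4) (ZMod 2)) : Matrix (Fin 4 ⊕ Fin 4) (Fin 4 ⊕ Fin 4) (ZMod 2)) (f h)) → ∃ v : Fin 4 ⊕ Fin 4 → ZMod 2, ∀ g : ↥(Cfsg.Omega (ZMod 2) (Cfsg.quadFormPlus 4 (ZMod 2))), f g = Matrix.mulVec (((g : ↥(Cfsg.isometryGroup (ZMod 2) (Cfsg.quadFormPlus 4 (ZMod 2)))) : GL (Fin 4 ⊕ Fin 4) (ZMod 2)) : Matrix (Fin 4 ⊕ Fin 4) (Fin 4 ⊕ Fin 4) (ZMod 2)) v - v) := by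
  exact ⟨fun φ h => minus_four φ h, fun φ h => minus_six φ h, fun φ h => plus_eight φ h⟩

end Cfsg.Agent.S5405
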