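import Cfsg.Statements.S5408
import Mathlib
import Cfsg.Agent.Lib.Leech.Basic
import Cfsg.Agent.Lib.Mathieu.Code
import Cfsg.Agent.Lib.PGroup.Extraspecial

set_option autoImplicit false
open Cfsg

namespace Cfsg.Agent.S5408

open Cfsg.Agent

/-- a single coordinate vector -/
def sgl (p : GolayPt) (n : ℤ) : GolayPt → ℤ := fun q => if q = p then n else 0

theorem sum_sgl (p : GolayPt) (n : ℤ) : ∑ i, sgl p n i = n := by
  simp [sgl]

theorem inL_of_four {a : GolayPt → ℤ} (h : 2 ∣ ∑ i, a i) : Leech.InL fun i => 4 * a i := by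
  refine ⟨fun i => by dsimp only; omega, ?_, ?_⟩
  · have : Leech.hb (fun i => 4 * a i) = 0 := funext fun i => by
      show (((4 * a i) / 2 : ℤ) : ZMod 2) = ((0 : ℤ) : ZMod 2)
      rw [ZMod.intCast_eq_intCast_iff', Nat.cast_ofNat]
      omega
    rw [this]; exact Submodule.zero_mem _
  · dsimp only
    rw [← Finset.mul_sum]
    omega

/-- `4 e_p + 4 e_q` -/
def vA (p q : GolayPt) : leechLattice :=
  ⟨fun i => 4 * (sgl p 1 i + sgl q 1 i), Leech.mem_leechLattice.2 (inL_of_four (by
    rw [Finset.sum_add_distrib, sum_sgl, sum_sgl]; norm_num))⟩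

/-- `8 e_p` -/
def vD (p : GolayPt) : leechLattice :=
  ⟨fun i => 4 * sgl p 2 i, Leech.mem_leechLattice.2 (inL_of_four (by rw [sum_sgl]))⟩

/-- `4 e_p - 4 e_q` -/
def vR (p q : GolayPt) : leechLattice :=
  ⟨fun i => 4 * (sgl p 1 i + sgl q (-1) i), Leech.mem_leechLattice.2 (inL_of_four (by
    rw [Finset.sum_add_distrib, sum_sgl, sum_sgl]; norm_num))⟩

/-- sign change on the support of a code word -/
noncomputable def sgn (m : ℕ) (hm : Mathieu.inCode m = true) (v : leechLattice) : leechLattice :=
  ⟨fun i => if Mathieu.hasPt m i then -(v : GolayPt → ℤ) i else (v : GolayPt → ℤ) i,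
    Leech.mem_leechLattice.2 (by
      have h := Leech.inL_sign (Leech.mem_leechLattice.1 v.2) (Mathieu.wordOf_mem_of_inCode hm)
      rw [Mathieu.support₂_wordOf] at h
      simpa [Mathieu.mem_ptsOf] using h)⟩

theorem sgn_sgn (m : ℕ) (hm : Mathieu.inCode m = true) (v : leechLattice) :
    sgn m hm (sgn m hm v) = v := by
  apply Subtype.ext; funext i
  simp only [sgn]
  split_ifs <;> simp

noncomputable def sgnPerm (m : ℕ) (hm : Mathieu.inCode m = true) : Cfsg.Co0 :=
  ⟨⟨sgn m hm, sgn m hm, sgn_sgn m hm, sgn_sgn m hm⟩, fun v w => by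
      apply Subtype.ext; funext i
      show (if Mathieu.hasPt m i then -((v + w : leechLattice) : GolayPt → ℤ) i
        else ((v + w : leechLattice) : GolayPt → ℤ) i) = ((sgn m hm v + sgn m hm w : leechLattice) : GolayPt → ℤ) i
      simp only [sgn, AddSubgroup.coe_add, Pi.add_apply]
      split_ifs <;> ring,
    fun v => by
      show Cfsg.sqNorm (fun i => if Mathieu.hasPt m i then -(v : GolayPt → ℤ) i else (v : GolayPt → ℤ) i) = _
      unfold Cfsg.sqNorm
      refine Finset.sum_congr rfl fun i _ => ?_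
      dsimp only
      split_ifs <;> ring⟩

/-- translation of the residues -/
def shift : Equiv.Perm GolayPt where
  toFun := Option.map (· + 1)
  invFun := Option.map (· - 1)
  left_inv := by intro p; cases p <;> simp
  right_inv := by intro p; cases p <;> simp

theorem qrWord_shift (t : ZMod 23) :
    qrWord t ∘ shift = qrWord (t - 1) ∧ qrWord t ∘ shift.symm = qrWord (t + 1) := by
  constructor <;> funext p <;> cases p with
  | none => rfl
  | some x =>
    first
    | (show (if ∃ r : ZMod 23, x + 1 = r ^ 2 + t then (1 : ZMod 2) else 0) = if ∃ r : ZMod 23, x = r ^ 2 + (t - 1) then 1 else 0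
       refine if_congr (exists_congr fun r => ?_) rfl rfl
       constructor <;> intro h <;> linear_combination h)
    | (show (if ∃ r : ZMod 23, x - 1 = r ^ 2 + t then (1 : ZMod 2) else 0) = if ∃ r : ZMod 23, x = r ^ 2 + (t + 1) then 1 else 0
       refine if_congr (exists_congr fun r => ?_) rfl rfl
       constructor <;> intro h <;> linear_combination h)

theorem comp_mem {w : GolayPt → ZMod 2} (hw : w ∈ golayCode) :
    w ∘ shift ∈ golayCode ∧ w ∘ shift.symm ∈ golayCode := by
  induction hw using Submodule.span_induction with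
  | mem x hx =>
    rcases hx with ⟨t, rfl⟩ | rfl
    · rw [(qrWord_shift t).1, (qrWord_shift t).2]
      exact ⟨Submodule.subset_span (Or.inl ⟨_, rfl⟩), Submodule.subset_span (Or.inl ⟨_, rfl⟩)⟩
    · exact ⟨Submodule.subset_span (Or.inr rfl), Submodule.subset_span (Or.inr rfl)⟩
  | zero => exact ⟨Submodule.zero_mem _, Submodule.zero_mem _⟩
  | add x y _ _ hx hy => exact ⟨Submodule.add_mem _ hx.1 hy.1, Submodule.add_mem _ hx.2 hy.2⟩
  | smul c x _ hx => exact ⟨Submodule.smul_mem _ c hx.1, Submodule.smul_mem _ c hx.2⟩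

theorem inL_shift {x : GolayPt → ℤ} (hx : Leech.InL x) :
    Leech.InL (fun i => x (shift i)) ∧ Leech.InL (fun i => x (shift.symm i)) := by
  obtain ⟨a1, a2, a3⟩ := hx
  refine ⟨⟨fun i => (a1 _).trans (a1 _).symm, (comp_mem a2).1, ?_⟩,
    ⟨fun i => (a1 _).trans (a1 _).symm, (comp_mem a2).2, ?_⟩⟩
  · rw [Equiv.sum_comp shift x]; exact a3
  · rw [Equiv.sum_comp shift.symm x]; exact a3

def tr (v : leechLattice) : leechLattice :=
  ⟨fun i => (v : GolayPt → ℤ) (shift i), Leech.mem_leechLattice.2 (inL_shift (Leech.mem_leechLattice.1 v.2)).1⟩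

def tr' (v : leechLattice) : leechLattice :=
  ⟨fun i => (v : GolayPt → ℤ) (shift.symm i), Leech.mem_leechLattice.2 (inL_shift (Leech.mem_leechLattice.1 v.2)).2⟩

noncomputable def trPerm : Cfsg.Co0 :=
  ⟨⟨tr, tr', fun v => by apply Subtype.ext; funext i; simp [tr, tr'],
      fun v => by apply Subtype.ext; funext i; simp [tr, tr']⟩,
    fun _ _ => rfl, fun v => Equiv.sum_comp shift fun i => (v : GolayPt → ℤ) i ^ 2⟩

/-- The main computation: an invariant quadratic function on the lattice modulo 2 vanishes on the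
vectors with all coordinates divisible by 4. -/
theorem singular (s : leechLattice → ZMod 2)
    (hbil : ∀ u v w, s (u + v + w) = s (u + v) + s (u + w) + s (v + w) + s u + s v + s w)
    (h2 : ∀ v, s (v + v) = 0)
    (hsg : ∀ m hm v, s (sgn m hm v) = s v)
    (htr : ∀ v, s (tr v) = s v) :
    ∀ v : leechLattice, (∀ i, 4 ∣ (v : GolayPt → ℤ) i) → s v = 0 := by
  have c2 : ∀ a : ZMod 2, a + a = 0 := by decide
  let β : leechLattice → leechLattice → ZMod 2 := fun u v => s (u + v) + s u + s v
  have s0 : s 0 = 0 := by simpa using h2 0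
  have βs : ∀ u v, s (u + v) = s u + s v + β u v := fun u v => by
    show _ = s u + s v + (s (u + v) + s u + s v)
    linear_combination -c2 (s u) - c2 (s v)
  have βc : ∀ u v, β u v = β v u := fun u v => by
    show s (u + v) + s u + s v = s (v + u) + s v + s u
    rw [add_comm v u]; ring
  have βl : ∀ u v w, β (u + v) w = β u w + β v w := fun u v w => by
    show s (u + v + w) + s (u + v) + s w = s (u + w) + s u + s w + (s (v + w) + s v + s w)
    rw [hbil u v w]; linear_combination c2 (s (u + v))
  have βr : ∀ u v w, β u (v + w) = β u v + β u w := fun u v w => by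
    rw [βc, βl, βc v, βc w]
  have β0 : ∀ u, β 0 u = 0 := fun u => by
    show s (0 + u) + s 0 + s u = 0
    rw [zero_add, s0, add_zero, c2]
  have βn : ∀ u v, β (-u) v = β u v := fun u v => by
    have h := βl (-u) u v
    rw [neg_add_cancel, β0] at h
    linear_combination -h - c2 (β u v)
  have βdd : ∀ u, β u u = 0 := fun u => by
    show s (u + u) + s u + s u = 0
    rw [h2, zero_add, c2]
  have β2 : ∀ u v, β (u + u) v = 0 := fun u v => by rw [βl, c2]
  have s2 : ∀ u v, s (u + (v + v)) = s u := fun u v => by rw [βs, h2, βc, β2]; ring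
  have sn : ∀ u, s (-u) = s u := fun u => by
    rw [show -u = u + (-u + -u) from by abel, s2]
  have βcong : ∀ u v w, β (u + (v + v)) w = β u w := fun u v w => by rw [βl, β2, add_zero]
  have βsg : ∀ m hm u v, β (sgn m hm u) (sgn m hm v) = β u v := fun m hm u v => by
    show s (sgn m hm u + sgn m hm v) + s (sgn m hm u) + s (sgn m hm v) = _
    have e : sgn m hm (u + v) = sgn m hm u + sgn m hm v := (sgnPerm m hm).2.1 u v
    rw [← e, hsg m hm u, hsg m hm v]
    show s (sgn m hm (u + v)) + s u + s v = _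
    rw [hsg]
  have βtr : ∀ u v, β (tr u) (tr v) = β u v := fun u v => by
    show s (tr (u + v)) + s (tr u) + s (tr v) = _
    rw [htr, htr, htr]
  set W := vD none with hW
  have hD : ∀ p, vD p = W + (vR p none + vR p none) := fun p => by
    apply Subtype.ext; funext i
    show 4 * sgl p 2 i = 4 * sgl none 2 i + (4 * (sgl p 1 i + sgl none (-1) i) + 4 * (sgl p 1 i + sgl none (-1) i))
    unfold sgl
    split_ifs <;> ring
  have sD : ∀ p, s (vD p) = s W := fun p => by rw [hD, s2]
  have βD : ∀ p v, β (vD p) v = β W v := fun p v => by rw [hD, βcong]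
  -- a separated pair
  have sep : ∀ m hm p q, Mathieu.hasPt m p = true → Mathieu.hasPt m q = false →
      sgn m hm (vA p q) = vA p q + -vD p := fun m hm p q hp hq => by
    have hpq : p ≠ q := fun h => by rw [h, hq] at hp; exact Bool.false_ne_true hp
    apply Subtype.ext; funext i
    show (if Mathieu.hasPt m i then -(4 * (sgl p 1 i + sgl q 1 i)) else 4 * (sgl p 1 i + sgl q 1 i)) =
      4 * (sgl p 1 i + sgl q 1 i) + -(4 * sgl p 2 i)
    by_cases h1 : i = p
    · subst h1; simp [hp, sgl, hpq]
    · by_cases h2 : i = q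
      · subst h2; simp [hq, sgl, h1]
      · simp [sgl, h1, h2]
  have βWa : ∀ m (_ : Mathieu.inCode m = true) p q, Mathieu.hasPt m p = true →
      Mathieu.hasPt m q = false → β (vA p q) W = s W := fun m hm p q hp hq => by
    have h := hsg m hm (vA p q)
    rw [sep m hm p q hp hq, βs, sn, sD, βc _ (-vD p), βn, βD, βc W] at h
    linear_combination h - c2 (s W)
  have e01 := βWa 0x80bc12 (by decide +kernel) none (some 0) (by decide +kernel) (by decide +kernel)
  have e12 := βWa 0x3da1 (by decide +kernel) (some 0) (some 1) (by decide +kernel) (by decide +kernel)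
  have e02 := βWa 0x805e09 (by decide +kernel) none (some 1) (by decide +kernel) (by decide +kernel)
  have sW : s W = 0 := by
    have he : vA none (some 0) + vA (some 0) (some 1) = vA none (some 1) + vD (some 0) := by
      apply Subtype.ext; funext i
      show 4 * (sgl none 1 i + sgl (some 0) 1 i) + 4 * (sgl (some 0) 1 i + sgl (some 1) 1 i) =
        4 * (sgl none 1 i + sgl (some 1) 1 i) + 4 * sgl (some 0) 2 i
      unfold sgl
      split_ifs <;> ring
    have h := congrArg (fun v => β v W) he
    simp only [βl, e01, e12, e02, βD, βdd, add_zero, c2] at h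
    exact h.symm
  set A : ZMod 23 → leechLattice := fun k => vA none (some k) with hA
  have hWtr : tr W = W := by
    apply Subtype.ext; funext i
    show 4 * sgl none 2 (shift i) = 4 * sgl none 2 i
    cases i <;> simp [sgl, shift]
  have hAtr : ∀ k, tr (A (k + 1)) = A k := fun k => by
    apply Subtype.ext; funext i
    show 4 * (sgl none 1 (shift i) + sgl (some (k + 1)) 1 (shift i)) = 4 * (sgl none 1 i + sgl (some k) 1 i)
    cases i <;> simp [sgl, shift]
  have hstep : ∀ P : ZMod 23 → Prop, P 0 → (∀ k, P k → P (k + 1)) → ∀ k, P k := by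
    intro P h0 hs k
    have h : ∀ n : ℕ, P (n : ZMod 23) := fun n => by
      induction n with
      | zero => simpa using h0
      | succ n ih => rw [Nat.cast_succ]; exact hs _ ih
    simpa using h k.val
  have WA : ∀ k, β W (A k) = 0 := by
    apply hstep
    · rw [βc]; exact e01.trans sW
    · intro k hk; rw [← βtr, hWtr, hAtr]; exact hk
  -- an octad `O`, a word `c` meeting it in `{∞, 0}` and a disjoint word `d`
  have hO : Mathieu.inCode 0xc20c83 = true := by decide +kernel
  have hxO : Leech.InL fun i => if Mathieu.hasPt 0xc20c83 i then (2 : ℤ) else 0 := by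
    refine ⟨?_, ?_, ?_⟩
    · intro i; dsimp only; split_ifs <;> simp
    · have e : Leech.hb (fun i => if Mathieu.hasPt 0xc20c83 i then (2 : ℤ) else 0) = Mathieu.wordOf 0xc20c83 := by
        funext i; simp only [Leech.hb, Mathieu.wordOf]; split_ifs <;> simp
      rw [e]; exact Mathieu.wordOf_mem_of_inCode hO
    · decide +kernel
  set x : leechLattice := ⟨_, Leech.mem_leechLattice.2 hxO⟩ with hx
  have hc : Mathieu.inCode 0x81b301 = true := by decide +kernel
  have hd : Mathieu.inCode 0x10f130 = true := by decide +kernel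
  have xW : β x W = 0 := by
    have hfix : sgn 0x10f130 hd x = x := by
      have h : ∀ i, (if Mathieu.hasPt 0x10f130 i then -(if Mathieu.hasPt 0xc20c83 i then (2 : ℤ) else 0)
          else (if Mathieu.hasPt 0xc20c83 i then (2 : ℤ) else 0)) =
          if Mathieu.hasPt 0xc20c83 i then (2 : ℤ) else 0 := by decide +kernel
      exact Subtype.ext (funext h)
    have h := βsg 0x10f130 hd x (vA (some 4) (some 0))
    rw [hfix, sep _ hd (some 4) (some 0) (by decide +kernel) (by decide +kernel), βr,
      βc x (-vD (some 4)), βn, βD, βc W] at h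
    linear_combination h
  have hxc : sgn 0x81b301 hc x = x + -A 0 := by
    have h : ∀ i, (if Mathieu.hasPt 0x81b301 i then -(if Mathieu.hasPt 0xc20c83 i then (2 : ℤ) else 0)
        else (if Mathieu.hasPt 0xc20c83 i then (2 : ℤ) else 0)) =
        (if Mathieu.hasPt 0xc20c83 i then (2 : ℤ) else 0) + -(4 * (sgl none 1 i + sgl (some 0) 1 i)) := by
      unfold sgl; decide +kernel
    exact Subtype.ext (funext h)
  have A0A : ∀ k, β (A 0) (A k) = 0 := by
    intro k
    have h := βsg 0x81b301 hc x (A k)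
    have hA0W : β (A 0) W = 0 := by rw [βc]; exact WA 0
    cases hk : Mathieu.hasPt 0x81b301 (some k)
    · rw [hxc, sep _ hc none (some k) (by decide +kernel) hk, βl, βn, βr, βr, βc x (-vD none),
        βn, βc W, xW, βc (A 0) (-vD none), βn, βc W, hA0W] at h
      linear_combination h
    · have e : sgn 0x81b301 hc (A k) = -A k := by
        apply Subtype.ext; funext i
        show (if Mathieu.hasPt 0x81b301 i then -(4 * (sgl none 1 i + sgl (some k) 1 i))
          else 4 * (sgl none 1 i + sgl (some k) 1 i)) = -(4 * (sgl none 1 i + sgl (some k) 1 i))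
        by_cases h1 : i = none
        · subst h1; rw [if_pos (by decide +kernel)]
        · by_cases h2 : i = some k
          · subst h2; rw [if_pos hk]
          · simp [sgl, h1, h2]
      rw [hxc, e, βl, βn, βc x (-A k), βn, βc (A k) x, βc (A 0) (-A k), βn, βc (A k) (A 0)] at h
      linear_combination h
  have AA : ∀ j k, β (A j) (A k) = 0 := by
    apply hstep (fun j => ∀ k, β (A j) (A k) = 0)
    · exact A0A
    · intro j hj k
      have := hj (k - 1)
      rw [← hAtr j, ← hAtr (k - 1), βtr, sub_add_cancel] at this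
      exact this
  have sA0 : ∀ k, s (A k) = s (A 0) := by
    apply hstep
    · rfl
    · intro k hk; rw [← htr, hAtr]; exact hk
  have sA : s (A 0) = 0 := by
    have he : A 0 + A 1 + A 7 + A 10 + A 11 + A 17 + A 22 = (x + x) + (W + W + W) := by
      have h : ∀ i, 4 * (sgl none 1 i + sgl (some 0) 1 i) + 4 * (sgl none 1 i + sgl (some 1) 1 i) +
          4 * (sgl none 1 i + sgl (some 7) 1 i) + 4 * (sgl none 1 i + sgl (some 10) 1 i) +
          4 * (sgl none 1 i + sgl (some 11) 1 i) + 4 * (sgl none 1 i + sgl (some 17) 1 i) +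
          4 * (sgl none 1 i + sgl (some 22) 1 i) =
          ((if Mathieu.hasPt 0xc20c83 i then (2 : ℤ) else 0) + (if Mathieu.hasPt 0xc20c83 i then (2 : ℤ) else 0)) +
            (4 * sgl none 2 i + 4 * sgl none 2 i + 4 * sgl none 2 i) := by
        unfold sgl; decide +kernel
      exact Subtype.ext (funext h)
    have h := congrArg s he
    simp only [βs, βl, AA, βdd, c2, sW, sA0 1, sA0 7, sA0 10, sA0 11, sA0 17, sA0 22, add_zero,
      β2, zero_add] at h
    exact h
  -- everything lies in the closure of the `A k` and `W`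
  set gens : Set leechLattice := insert W (Set.range A) with hgens
  have gg : ∀ u ∈ gens, ∀ v ∈ gens, β u v = 0 := by
    rintro u (rfl | ⟨j, rfl⟩) v (rfl | ⟨k, rfl⟩)
    · exact βdd _
    · exact WA k
    · rw [βc]; exact WA j
    · exact AA j k
  have ext1 : ∀ u, (∀ g ∈ gens, β u g = 0) → ∀ v ∈ AddSubgroup.closure gens, β u v = 0 := by
    intro u hu v hv
    induction hv using AddSubgroup.closure_induction with
    | mem v hv => exact hu v hv
    | zero => rw [βc, β0]
    | add a b _ _ ha hb => rw [βr, ha, hb, add_zero]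
    | neg a _ ha => rw [βc, βn, βc, ha]
  have cc : ∀ u ∈ AddSubgroup.closure gens, ∀ v ∈ AddSubgroup.closure gens, β u v = 0 := by
    intro u hu
    refine ext1 u fun g hg => ?_
    rw [βc]
    exact ext1 g (gg g hg) u hu
  have scl : ∀ v ∈ AddSubgroup.closure gens, s v = 0 := by
    intro v hv
    induction hv using AddSubgroup.closure_induction with
    | mem v hv =>
      rcases hv with rfl | ⟨k, rfl⟩
      · exact sW
      · exact (sA0 k).trans sA
    | zero => exact s0
    | add a b ha' hb' ha hb => rw [βs, ha, hb, cc a ha' b hb', add_zero, add_zero]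
    | neg a _ ha => rw [sn, ha]
  intro v hv
  obtain ⟨h1, h2', h3⟩ := Leech.mem_leechLattice.1 v.2
  obtain ⟨r, hr⟩ := hv none
  have hsum : ∀ i, (v : GolayPt → ℤ) i = 4 * ((v : GolayPt → ℤ) i / 4) := fun i => by
    obtain ⟨c, hc⟩ := hv i; omega
  set a : GolayPt → ℤ := fun i => (v : GolayPt → ℤ) i / 4 with ha
  have heven : 2 ∣ a none - ∑ k : ZMod 23, a (some k) := by
    have hs : ∑ i, (v : GolayPt → ℤ) i = 4 * ∑ i, a i := by
      rw [Finset.mul_sum]; exact Finset.sum_congr rfl fun i _ => hsum i
    rw [hs, Fintype.sum_option] at h3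
    have := hsum none
    simp only [ha] at this h3 ⊢
    omega
  obtain ⟨t, ht⟩ := heven
  have key : v = (∑ k : ZMod 23, a (some k) • A k) + t • W := by
    apply Subtype.ext; funext i
    rw [AddSubgroup.coe_add, AddSubgroup.val_finsetSum, Pi.add_apply, Finset.sum_apply]
    simp only [AddSubgroupClass.coe_zsmul, Pi.smul_apply, smul_eq_mul]
    rw [hsum i]
    show 4 * a i = (∑ k : ZMod 23, a (some k) * (4 * (sgl none 1 i + sgl (some k) 1 i))) + t * (4 * sgl none 2 i)
    cases i with
    | none =>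
      simp [sgl, ← Finset.sum_mul]
      linarith
    | some j => simp [sgl, mul_comm]
  rw [key]
  refine scl _ (add_mem ?_ ?_)
  · refine sum_mem fun k _ => zsmul_mem ?_ _
    exact AddSubgroup.subset_closure (show A k ∈ gens from Or.inr ⟨k, rfl⟩)
  · refine zsmul_mem ?_ _
    exact AddSubgroup.subset_closure (show W ∈ gens from Or.inl rfl)

theorem word_zero_of_low {w : GolayPt → ZMod 2} (hw : w ∈ golayCode)
    (h : ∀ k : Fin 12, w (some ((k : ℕ) : ZMod 23)) = 0) : w = 0 := by
  obtain ⟨m, hm, rfl⟩ := Mathieu.mem_golayCode_iff.1 hw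
  have hlow : m % 2 ^ 12 = 0 := by
    refine Nat.eq_of_testBit_eq fun i => ?_
    rw [Nat.testBit_mod_two_pow, Nat.zero_testBit]
    by_cases hi : i < 12
    · have h1 := h ⟨i, hi⟩
      have hv : ((i : ZMod 23)).val = i := ZMod.val_natCast_of_lt (by omega)
      simp [Mathieu.wordOf, Mathieu.hasPt, Mathieu.ptEnc, hv] at h1
      simp [h1]
    · simp [hi]
  have : m = 0 := by
    rw [Mathieu.inCode, beq_iff_eq] at hm
    rw [← hm, ← Mathieu.encC_mod, show 2 ^ Mathieu.codeBasis.length = 2 ^ 12 from rfl, hlow]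
    decide +kernel
  subst this
  funext p; simp [Mathieu.wordOf, Mathieu.hasPt]

/-- Let G be a finite group of Monster type at the involution z with Q the extraspecial normal subgroup of order 2^25 of C = C_G(z) (so C/Q is identified with the first Conway group with Q modulo its centre the Leech lattice modulo 2, and z is not weakly closed in Q). Then Q is of plus type: it contains an elementary abelian subgroup of order 2^13. -/
theorem result {G : Type*} [Group G] [Finite G] (z : G) (Q : Subgroup (Subgroup.centralizer ({z} : Set G))) [Q.Normal] (hM : Cfsg.IsOfMonsterType z Q) : ∃ E : Subgroup Q, Cfsg.IsElementaryAbelian 2 E ∧ Nat.card E = 2 ^ 13 := by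
  classical
  have : Fact (Nat.Prime 2) := ⟨Nat.prime_two⟩
  obtain ⟨⟨-, -, hQ, hcardQ, -⟩, e, ψ, hadd, hsurj, hker, heq⟩ := hM
  have hZ : Nat.card (Subgroup.center Q) = 2 := hQ.2
  have hψq : ∀ v, ∃ q : Q, ψ v = QuotientGroup.mk q := fun v =>
    ⟨_, (QuotientGroup.mk_surjective (ψ v)).choose_spec.symm⟩
  choose L hL using hψq
  have hsq : ∀ q : Q, q * q ∈ Subgroup.center Q := fun q => by
    rw [← pow_two]; exact PGroup.special_pow_mem_center hQ.1 q
  have sqwd : ∀ v q, ψ v = QuotientGroup.mk q → q * q = L v * L v := by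
    intro v q hq
    have hz : (L v)⁻¹ * q ∈ Subgroup.center Q := by rw [← QuotientGroup.eq, ← hL, hq]
    have hz2 := PGroup.special_center_pow hQ.1 hz
    rw [pow_two] at hz2
    have hc := Subgroup.mem_center_iff.mp hz (L v)
    calc q * q = L v * (((L v)⁻¹ * q) * L v) * ((L v)⁻¹ * q) := by group
      _ = L v * (L v * ((L v)⁻¹ * q)) * ((L v)⁻¹ * q) := by rw [hc]
      _ = L v * L v * (((L v)⁻¹ * q) * ((L v)⁻¹ * q)) := by group
      _ = L v * L v := by rw [hz2, mul_one]
  -- `χ` identifies the centre with `ZMod 2`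
  have htwo : ∀ z ∈ Subgroup.center Q, ∀ z' ∈ Subgroup.center Q, z ≠ 1 → z' ≠ 1 → z = z' := by
    intro z hz z' hz' h h'
    have : Fintype (Subgroup.center Q) := Fintype.ofFinite _
    by_contra hne
    have hle : ({1, ⟨z, hz⟩, ⟨z', hz'⟩} : Finset (Subgroup.center Q)).card ≤ 2 := by
      rw [← hZ, Nat.card_eq_fintype_card]; exact Finset.card_le_univ _
    rw [Finset.card_eq_three.mpr ⟨1, ⟨z, hz⟩, ⟨z', hz'⟩, fun e => h (congrArg Subtype.val e).symm,
      fun e => h' (congrArg Subtype.val e).symm, fun e => hne (congrArg Subtype.val e), rfl⟩] at hle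
    omega
  let χ : Q → ZMod 2 := fun z => if z = 1 then 0 else 1
  have χmul : ∀ z ∈ Subgroup.center Q, ∀ z' ∈ Subgroup.center Q, χ (z * z') = χ z + χ z' := by
    intro z hz z' hz'
    by_cases h : z = 1
    · simp [χ, h]
    by_cases h' : z' = 1
    · simp [χ, h']
    have := htwo z hz z' hz' h h'
    subst this
    have hz2 := PGroup.special_center_pow hQ.1 hz
    rw [pow_two] at hz2
    simp only [χ, hz2, h, if_true, if_false]
    rfl
  let s : leechLattice → ZMod 2 := fun v => χ (L v * L v)
  have hcm : ∀ a b : Q, a * b * a⁻¹ * b⁻¹ ∈ Subgroup.center Q := fun a b => by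
    have := PGroup.special_commutator_mem_center hQ.1 a b
    rwa [commutatorElement_def] at this
  have hpair : ∀ u v, s (u + v) = s u + s v + χ (L v * L u * (L v)⁻¹ * (L u)⁻¹) := by
    intro u v
    have h1 : ψ (u + v) = QuotientGroup.mk (L u * L v) := by
      rw [hadd, hL, hL, QuotientGroup.mk_mul]
    show χ (L (u + v) * L (u + v)) = χ (L u * L u) + χ (L v * L v) + χ _
    rw [← sqwd _ _ h1, ← χmul _ (hsq _) _ (hsq _),
      ← χmul _ (mul_mem (hsq _) (hsq _)) _ (hcm _ _)]
    congr 1
    have hc := Subgroup.mem_center_iff.mp (hcm (L v) (L u))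
    calc L u * L v * (L u * L v) = L u * ((L v * L u * (L v)⁻¹ * (L u)⁻¹) * (L u * L v)) * L v := by group
      _ = L u * ((L u * L v) * (L v * L u * (L v)⁻¹ * (L u)⁻¹)) * L v := by rw [hc]
      _ = L u * L u * (L v * ((L v * L u * (L v)⁻¹ * (L u)⁻¹) * L v)) := by group
      _ = L u * L u * (L v * (L v * (L v * L u * (L v)⁻¹ * (L u)⁻¹))) := by rw [hc]
      _ = L u * L u * (L v * L v) * (L v * L u * (L v)⁻¹ * (L u)⁻¹) := by group
  have commwd : ∀ a a' b : Q, (a'⁻¹ * a) ∈ Subgroup.center Q →
      b * a * b⁻¹ * a⁻¹ = b * a' * b⁻¹ * a'⁻¹ := by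
    intro a a' b h
    have hc := Subgroup.mem_center_iff.mp h b⁻¹
    calc b * a * b⁻¹ * a⁻¹ = b * a' * ((a'⁻¹ * a) * b⁻¹) * a⁻¹ := by group
      _ = b * a' * (b⁻¹ * (a'⁻¹ * a)) * a⁻¹ := by rw [hc]
      _ = b * a' * b⁻¹ * a'⁻¹ := by group
  have hbil : ∀ u v w, s (u + v + w) = s (u + v) + s (u + w) + s (v + w) + s u + s v + s w := by
    intro u v w
    have hz : (L u * L v)⁻¹ * L (u + v) ∈ Subgroup.center Q := by
      rw [← QuotientGroup.eq, QuotientGroup.mk_mul, ← hL, ← hL, ← hL, hadd]
    have hc := Subgroup.mem_center_iff.mp (hcm (L w) (L v))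
    have hexp : L w * L (u + v) * (L w)⁻¹ * (L (u + v))⁻¹ =
        (L w * L u * (L w)⁻¹ * (L u)⁻¹) * (L w * L v * (L w)⁻¹ * (L v)⁻¹) := by
      rw [commwd _ _ (L w) hz]
      calc L w * (L u * L v) * (L w)⁻¹ * (L u * L v)⁻¹
          = (L w * L u * (L w)⁻¹) * ((L w * L v * (L w)⁻¹ * (L v)⁻¹) * (L u)⁻¹) := by group
        _ = (L w * L u * (L w)⁻¹) * ((L u)⁻¹ * (L w * L v * (L w)⁻¹ * (L v)⁻¹)) := by rw [hc]
        _ = _ := by group
    have c2 : ∀ a : ZMod 2, a + a = 0 := fun a => CharTwo.add_self_eq_zero a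
    rw [hpair (u + v) w, hexp, χmul _ (hcm _ _) _ (hcm _ _), hpair u w, hpair v w]
    linear_combination -c2 (s u) - c2 (s v) - c2 (s w)
  have h2 : ∀ v, s (v + v) = 0 := by
    intro v
    have h1 : ψ (v + v) = QuotientGroup.mk (1 : Q) := by
      rw [(hker (v + v)).mpr ⟨v, rfl⟩, QuotientGroup.mk_one]
    show χ _ = 0
    rw [← sqwd _ _ h1]; simp [χ]
  have hinv : ∀ (g : Cfsg.Co0) (v : leechLattice), s (g • v) = s v := by
    intro g v
    obtain ⟨hbar, hh⟩ := e.surjective (QuotientGroup.mk g)
    obtain ⟨h, rfl⟩ := QuotientGroup.mk_surjective hbar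
    have hv := heq h g hh.symm v (L v) (hL v)
    show χ _ = χ _
    rw [← sqwd _ _ hv]
    simp only [χ]
    congr 1
    rw [eq_iff_iff, Subtype.ext_iff, Subtype.ext_iff]
    simp only [Subgroup.coe_mul, Subgroup.coe_one]
    have gen : ∀ a b : G, a * b * a⁻¹ * (a * b * a⁻¹) = a * (b * b) * a⁻¹ := fun a b => by group
    simp only [gen, Subtype.ext_iff, Subgroup.coe_inv, Subgroup.coe_mul, Subgroup.coe_one]
    exact conj_eq_one_iff
  have hs := singular s hbil h2 (fun m hm v => hinv (sgnPerm m hm) v) (fun v => hinv trPerm v)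
  -- the image of the vectors divisible by 4
  let I : Subgroup (Q ⧸ Subgroup.center Q) :=
    { carrier := {a | ∃ v : leechLattice, (∀ i, 4 ∣ (v : GolayPt → ℤ) i) ∧ ψ v = a}
      one_mem' := ⟨0, fun i => by simp, (hker 0).mpr ⟨0, (add_zero 0).symm⟩⟩
      mul_mem' := by
        rintro _ _ ⟨v, hv, rfl⟩ ⟨w, hw, rfl⟩
        exact ⟨v + w, fun i => dvd_add (hv i) (hw i), hadd v w⟩
      inv_mem' := by
        rintro _ ⟨v, hv, rfl⟩
        refine ⟨-v, fun i => (dvd_neg).mpr (hv i), ?_⟩
        rw [eq_inv_iff_mul_eq_one, ← hadd, neg_add_cancel]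
        exact (hker 0).mpr ⟨0, (add_zero 0).symm⟩ }
  let E : Subgroup Q := I.comap (QuotientGroup.mk' (Subgroup.center Q))
  have hE2 : ∀ q ∈ E, q * q = 1 := by
    rintro q ⟨v, hv, hvq⟩
    have h := hs v hv
    rw [sqwd v q hvq]
    by_contra hne
    simp [s, χ, hne] at h
  have hEel : Cfsg.IsElementaryAbelian 2 E := by
    refine PGroup.isElementaryAbelian_of_forall (fun a ha b hb => ?_) (fun a ha => by rw [pow_two, hE2 a ha])
    have ia : a⁻¹ = a := inv_eq_of_mul_eq_one_right (hE2 a ha)
    have ib : b⁻¹ = b := inv_eq_of_mul_eq_one_right (hE2 b hb)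
    have iab : (a * b)⁻¹ = a * b := inv_eq_of_mul_eq_one_right (hE2 _ (mul_mem ha hb))
    rw [_root_.mul_inv_rev, ia, ib] at iab
    exact iab.symm
  -- `2 ^ 12` different elements of `I`
  let V : (Fin 11 → Bool) × Bool → leechLattice := fun t =>
    (∑ k : Fin 11, if t.1 k then vA none (some ((12 + k : ℕ) : ZMod 23)) else 0) + if t.2 then vD none else 0
  have hV4 : ∀ t i, 4 ∣ ((V t : leechLattice) : GolayPt → ℤ) i := by
    intro t i
    show 4 ∣ ((∑ k : Fin 11, if t.1 k then vA none (some ((12 + k : ℕ) : ZMod 23)) else 0) + if t.2 then vD none else 0 : leechLattice).1 i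
    rw [AddSubgroup.coe_add, AddSubgroup.val_finsetSum, Pi.add_apply, Finset.sum_apply]
    refine dvd_add (Finset.dvd_sum fun k _ => ?_) ?_
    · split_ifs
      · exact dvd_mul_right _ _
      · simp
    · split_ifs
      · exact dvd_mul_right _ _
      · simp
  let F : (Fin 11 → Bool) × Bool → I := fun t => ⟨ψ (V t), V t, hV4 t, rfl⟩
  have hval : ∀ t, ∀ j : ZMod 23, ((V t : leechLattice) : GolayPt → ℤ) (some j) =
      ∑ k : Fin 11, if t.1 k ∧ j = ((12 + k : ℕ) : ZMod 23) then (4 : ℤ) else 0 := by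
    intro t j
    show ((∑ k : Fin 11, if t.1 k then vA none (some ((12 + k : ℕ) : ZMod 23)) else 0) + if t.2 then vD none else 0 : leechLattice).1 (some j) = _
    rw [AddSubgroup.coe_add, AddSubgroup.val_finsetSum, Pi.add_apply, Finset.sum_apply]
    have : ((if t.2 then vD none else 0 : leechLattice) : GolayPt → ℤ) (some j) = 0 := by
      split_ifs <;> simp [vD, sgl]
    rw [this, add_zero]
    refine Finset.sum_congr rfl fun k _ => ?_
    cases t.1 k <;> simp [vA, sgl]
  have hinj : Function.Injective F := by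
    intro t t' ht
    have h0 : ψ (V t + -V t') = 1 := by
      have hh : ψ (-V t') * ψ (V t') = 1 := by
        rw [← hadd, neg_add_cancel]; exact (hker 0).mpr ⟨0, (add_zero 0).symm⟩
      have e : ψ (V t) = ψ (V t') := congrArg Subtype.val ht
      rw [hadd, e, mul_eq_one_iff_eq_inv, eq_inv_of_mul_eq_one_left hh, inv_inv]
    obtain ⟨w, hw⟩ := (hker _).mp h0
    have hww : ∀ i, ((V t : leechLattice) : GolayPt → ℤ) i - ((V t' : leechLattice) : GolayPt → ℤ) i =
        (w : GolayPt → ℤ) i + (w : GolayPt → ℤ) i := fun i => by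
      have := congrFun (congrArg Subtype.val hw) i
      simpa [sub_eq_add_neg] using this
    obtain ⟨w1, w2, w3⟩ := Leech.mem_leechLattice.1 w.2
    have hwlow : ∀ j : ZMod 23, (∀ k : Fin 11, j ≠ ((12 + k : ℕ) : ZMod 23)) → (w : GolayPt → ℤ) (some j) = 0 := by
      intro j hj
      have := hww (some j)
      have hz0 : ∀ t, ((V t : leechLattice) : GolayPt → ℤ) (some j) = 0 := fun t => by
        rw [hval]; exact Finset.sum_eq_zero fun k _ => if_neg fun h => hj k h.2
      rw [hz0, hz0] at this
      omega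
    have hzero : Leech.hb (w : GolayPt → ℤ) = 0 := by
      refine word_zero_of_low w2 fun k => ?_
      rw [Leech.hb_eq_zero_iff, hwlow _ (by revert k; decide +kernel)]
      rfl
    have hat : ∀ (t : (Fin 11 → Bool) × Bool) (k : Fin 11),
        ((V t : leechLattice) : GolayPt → ℤ) (some ((12 + k : ℕ) : ZMod 23)) = if t.1 k then 4 else 0 := by
      intro t k
      rw [hval, Finset.sum_eq_single k]
      · cases t.1 k <;> simp
      · intro l _ hl
        rw [if_neg]
        rintro ⟨-, h⟩
        apply hl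
        revert h; revert k l; decide +kernel
      · simp
    have h1 : t.1 = t'.1 := by
      funext k
      have hh := hww (some ((12 + k : ℕ) : ZMod 23))
      rw [hat, hat] at hh
      have hk := congrFun hzero (some ((12 + k : ℕ) : ZMod 23))
      rw [Pi.zero_apply, Leech.hb_eq_zero_iff] at hk
      generalize (w : GolayPt → ℤ) (some ((12 + k : ℕ) : ZMod 23)) = y at hh hk
      cases ha : t.1 k <;> cases hb : t'.1 k <;> simp [ha, hb] at hh ⊢ <;> omega
    obtain ⟨t1, t2⟩ := t
    obtain ⟨t1', t2'⟩ := t'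
    simp only at h1
    subst h1
    by_contra hne
    have hres : ∀ j, (w : GolayPt → ℤ) (some j) = 0 := by
      intro j
      have := hww (some j)
      rw [hval, hval] at this
      simp at this
      omega
    have hsum : ∑ i, (w : GolayPt → ℤ) i = (w : GolayPt → ℤ) none := by
      rw [Fintype.sum_option]; simp [hres]
    have hn := hww none
    have hd : ((vD none : leechLattice) : GolayPt → ℤ) none = 8 := by simp [vD, sgl]
    have he : ∀ b : Bool, ((V (t1, b) : leechLattice) : GolayPt → ℤ) none =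
        ((V (t1, false) : leechLattice) : GolayPt → ℤ) none + if b then 8 else 0 := by
      intro b; cases b <;> simp [V, hd]
    rw [he t2, he t2'] at hn
    rw [hsum] at w3
    cases t2 <;> cases t2' <;> simp at hn hne <;> omega
  have hI : 2 ^ 12 ≤ Nat.card I := by
    have := Nat.card_le_card_of_injective F hinj
    simpa using this
  have hEcard : 2 ^ 13 ≤ Nat.card E := by
    let π : E →* I := MonoidHom.mk' (fun q => ⟨QuotientGroup.mk (q : Q), q.2⟩) (fun _ _ => rfl)
    have hπ : Function.Surjective π := fun a => by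
      obtain ⟨q, hq⟩ := QuotientGroup.mk_surjective (a : Q ⧸ Subgroup.center Q)
      exact ⟨⟨q, by show QuotientGroup.mk q ∈ I; rw [hq]; exact a.2⟩, Subtype.ext hq⟩
    have hkk : Nat.card π.ker = 2 := by
      rw [← hZ]
      refine Nat.card_congr ⟨fun q => ⟨(q.1 : Q), (QuotientGroup.eq_one_iff _).mp (congrArg Subtype.val q.2)⟩,
        fun z => ⟨⟨(z : Q), by show QuotientGroup.mk (z : Q) ∈ I; rw [(QuotientGroup.eq_one_iff _).mpr z.2]; exact one_mem _⟩,
          Subtype.ext ((QuotientGroup.eq_one_iff _).mpr z.2)⟩, fun _ => rfl, fun _ => rfl⟩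
    rw [Subgroup.card_eq_card_quotient_mul_card_subgroup π.ker,
      Nat.card_congr (QuotientGroup.quotientKerEquivOfSurjective π hπ).toEquiv, hkk]
    omega
  obtain ⟨k, hk⟩ := PGroup.card_eq_pow hQ.1.1 E
  rw [hk] at hEcard
  have hk13 : 13 ≤ k := (Nat.pow_le_pow_iff_right (by norm_num)).mp hEcard
  obtain ⟨E', hE'⟩ := Sylow.exists_subgroup_card_pow_prime 2 (n := 13) (G := E)
    (by rw [hk]; exact pow_dvd_pow 2 hk13)
  refine ⟨E'.map E.subtype, PGroup.isElementaryAbelian_mono hEel (Subgroup.map_subtype_le _), ?_⟩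
  rw [Subgroup.card_map_of_injective (Subgroup.subtype_injective _), hE']

end Cfsg.Agent.S5408
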