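import Cfsg.Statements.S5414
import Cfsg.Agent.Lib.MonsterType.OddCent.Final
import Cfsg.Agent.Lib.Leech.Fixed.Three

set_option autoImplicit false
open Cfsg

namespace Cfsg.Agent.S5414

/-- Let G be a finite group of Monster type at the involution z with Q the extraspecial normal subgroup of order 2^25 of C = C_G(z) (so C/Q is identified with the first Conway group with Q modulo its centre the Leech lattice modulo 2, and z is not weakly closed in Q). Let s be a conjugate of z in Q other than z and let Y be a subgroup of order 3 of the joint centralizer L of z and s that is not 3-central in L (Y lies in the centre of no Sylow 3-subgroup of L). Then the centralizer of Y modulo Y is a group of Thompson type (an involution whose centralizer D has generalized Fitting subgroup R extraspecial of order 2^9 with D/R the alternating group of degree 9, the involution not weakly closed in R). -/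
theorem result {G : Type*} [Group G] [Finite G] (z : G) (Q : Subgroup (Subgroup.centralizer ({z} : Set G))) [Q.Normal] (hM : Cfsg.IsOfMonsterType z Q) (s : G) (hsQ : ∃ hsc : s ∈ Subgroup.centralizer ({z} : Set G), (⟨s, hsc⟩ : Subgroup.centralizer ({z} : Set G)) ∈ Q) (hs : IsConj z s) (hs1 : s ≠ z) (Y : Subgroup G) (hY : Y ≤ Subgroup.centralizer ({z, s} : Set G)) (hY3 : Nat.card Y = 3) (hnc : ∀ P : Sylow 3 ↥(Subgroup.centralizer ({z, s} : Set G)), ¬ Y.subgroupOf (Subgroup.centralizer ({z, s} : Set G)) ≤ (Subgroup.center ↥(P : Subgroup ↥(Subgroup.centralizer ({z, s} : Set G)))).map (P : Subgroup ↥(Subgroup.centralizer ({z, s} : Set G))).subtype) [hn : (Y.subgroupOf (Subgroup.centralizer (Y : Set G))).Normal] : Cfsg.IsOfThompsonType (↥(Subgroup.centralizer (Y : Set G)) ⧸ Y.subgroupOf (Subgroup.centralizer (Y : Set G))) := by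
  obtain ⟨M, hMQ⟩ := MonsterType.exists_model hM
  have hex := hMQ.symm ▸ MonsterType.exists_conj_mem hM.1
  have hsM : s ∈ M.Q := hMQ ▸ MonsterType.mem_map_centralizer hsQ
  obtain ⟨P, hPD, hPQ, hs64, hbs⟩ := MonsterType.exists_oddPos Leech.Fixed.Three.dat Leech.Fixed.Three.ok
    M hsM hs hs1 hY hY3 (fun b hb hzp hbo M' hv g hg hτ =>
      MonsterType.three_class M' hv (y := ⟨b, hb⟩) (by rw [Subgroup.orderOf_mk]; exact hbo)
        (fun P hle => hnc P (by
          intro x hx
          rw [Subgroup.mem_subgroupOf, ← hzp] at hx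
          obtain ⟨k, hk⟩ := Subgroup.mem_zpowers_iff.1 hx
          exact hle (Subgroup.mem_zpowers_iff.2 ⟨k, Subtype.ext (by rw [Subgroup.coe_zpow]; exact hk)⟩)))
        (Leech.Fixed.rep_permOf Leech.Fixed.Three.ok.mem) g _ hg hτ)
  obtain ⟨PM, PD, hD, b, hbz, hbo, hzp, hπ⟩ := P
  dsimp at hPD hPQ hs64 hbs
  subst hPD
  obtain ⟨Ψ, hr, hker, htriv⟩ := Leech.Fixed.Three.exists_quot
  let P : MonsterType.OddPos z Y := ⟨PM, _, hD, b, hbz, hbo, hzp, hπ⟩
  let R : P.Quo 9 := ⟨Ψ, _, hr, hker, htriv⟩
  have hQn := P.qBar_normal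
  have hexP : ∃ g, g * z * g⁻¹ ∈ P.M.Q ∧ g * z * g⁻¹ ≠ z := hPQ.symm ▸ hex
  obtain ⟨e⟩ := P.quot_equiv R
  have hw : (4 : ℕ) = P.D.d / 2 := by show 4 = Leech.Fixed.Three.dat.d / 2; decide
  exact ⟨P.zBar, P.qBar, hQn, hw ▸ P.setting R ⟨4, rfl, by norm_num⟩ hexP hs64 hbs Leech.Fixed.altNine_two, ⟨e⟩⟩


end Cfsg.Agent.S5414
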