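import Cfsg.Statements.S5416
import Cfsg.Agent.Lib.MonsterType.OddCent.Final
import Cfsg.Agent.Lib.Leech.Fixed.Seven

set_option autoImplicit false
open Cfsg

namespace Cfsg.Agent.S5416

/-- Let G be a finite group of Monster type at the involution z with Q the extraspecial normal subgroup of order 2^25 of C = C_G(z) (so C/Q is identified with the first Conway group with Q modulo its centre the Leech lattice modulo 2, and z is not weakly closed in Q). Let s be a conjugate of z in Q other than z and let B be a Sylow 7-subgroup of the joint centralizer of z and s. Then the centralizer of B modulo B is a group of Held type (an involution whose centralizer D has generalized Fitting subgroup R extraspecial of order 2^7 with D/R isomorphic to SL(3, 2), exactly 29 of its conjugates lying in R, and the involution not weakly closed in R). -/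
theorem result {G : Type*} [Group G] [Finite G] (z : G) (Q : Subgroup (Subgroup.centralizer ({z} : Set G))) [Q.Normal] (hM : Cfsg.IsOfMonsterType z Q) (s : G) (hsQ : ∃ hsc : s ∈ Subgroup.centralizer ({z} : Set G), (⟨s, hsc⟩ : Subgroup.centralizer ({z} : Set G)) ∈ Q) (hs : IsConj z s) (hs1 : s ≠ z) (B : Subgroup G) (hB : B ≤ Subgroup.centralizer ({z, s} : Set G)) (hBp : Nat.card B = 7 ^ (Nat.card ↥(Subgroup.centralizer ({z, s} : Set G))).factorization 7) [hn : (B.subgroupOf (Subgroup.centralizer (B : Set G))).Normal] : Cfsg.IsOfHeldType (↥(Subgroup.centralizer (B : Set G)) ⧸ B.subgroupOf (Subgroup.centralizer (B : Set G))) := by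
  obtain ⟨M, hMQ⟩ := MonsterType.exists_model hM
  have hex := hMQ.symm ▸ MonsterType.exists_conj_mem hM.1
  have hsM : s ∈ M.Q := hMQ ▸ MonsterType.mem_map_centralizer hsQ
  rw [MonsterType.card_sylow_pair M hsM hs hs1 (p := 7) (by norm_num) (by norm_num) (by norm_num) (by norm_num)] at hBp
  obtain ⟨P, hPD, hPQ, hs64, hbs⟩ := MonsterType.exists_oddPos Leech.Fixed.Seven.dat Leech.Fixed.Seven.ok
    M hsM hs hs1 hB hBp (fun _ _ _ _ _ _ _ _ hτ =>
      have : Fact (Nat.Prime Leech.Fixed.Seven.dat.p) := ⟨Leech.Fixed.Seven.ok.prime⟩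
      MonsterType.exists_conj_pow_eq (MonsterType.factorization_eq_one Leech.Fixed.Seven.ok.prime
        Nat.card_pos.ne' (by rw [Mathieu.card_M24]; decide +kernel) (by rw [Mathieu.card_M24]; decide +kernel))
        hτ Leech.Fixed.Seven.ok.orderOf_σ)
  obtain ⟨PM, PD, hD, b, hbz, hbo, hzp, hπ⟩ := P
  dsimp at hPD hPQ hs64 hbs
  subst hPD
  obtain ⟨Ψ, hr, hker, htriv⟩ := Leech.Fixed.Seven.exists_quot
  let P : MonsterType.OddPos z B := ⟨PM, _, hD, b, hbz, hbo, hzp, hπ⟩
  let R : P.Quo 7 := ⟨Ψ, _, hr, hker, htriv⟩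
  have hQn := P.qBar_normal
  have hexP : ∃ g, g * z * g⁻¹ ∈ P.M.Q ∧ g * z * g⁻¹ ≠ z := hPQ.symm ▸ hex
  obtain ⟨e⟩ := P.quot_equiv R
  refine ⟨P.zBar, P.qBar, hQn, ?_, ⟨e.trans (MonoidHom.ofInjective Leech.Fixed.sevenHom_injective).symm⟩, ?_⟩
  · rw [show (3 : ℕ) = P.D.d / 2 from by show 3 = Leech.Fixed.Seven.dat.d / 2; decide]
    exact P.setting R ⟨3, rfl, by norm_num⟩ hexP hs64 hbs Leech.Fixed.sevenRange_two
  · rw [P.ncard_conj hexP Leech.Fixed.Seven.typeCert, Leech.Fixed.Seven.card_normS]


end Cfsg.Agent.S5416
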