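import Cfsg.Statements.S5418
import Cfsg.Agent.Lib.MonsterType.OddCent.Final
import Cfsg.Agent.Lib.MonsterType.OddCent.Automizer
import Cfsg.Agent.Lib.Leech.Fixed.SevenInv
-- import your own Cfsg.Agent.* helpers here

set_option autoImplicit false
open Cfsg

namespace Cfsg.Agent.S5418

/-- Let G be a finite group of Monster type at the involution z with Q the extraspecial normal subgroup of order 2^25 of C = C_G(z) (so C/Q is identified with the first Conway group with Q modulo its centre the Leech lattice modulo 2, and z is not weakly closed in Q). Let s be a conjugate of z in Q other than z and let B be a Sylow 7-subgroup of the joint centralizer of z and s. Then the centralizer of B has index 6 in the normalizer of B; and some involution inverting B induces, by conjugation, a non-inner automorphism of the layer of the centralizer of B. -/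
theorem result {G : Type*} [Group G] [Finite G] (z : G) (Q : Subgroup (Subgroup.centralizer ({z} : Set G))) [Q.Normal] (hM : Cfsg.IsOfMonsterType z Q) (s : G) (hsQ : ∃ hsc : s ∈ Subgroup.centralizer ({z} : Set G), (⟨s, hsc⟩ : Subgroup.centralizer ({z} : Set G)) ∈ Q) (hs : IsConj z s) (hs1 : s ≠ z) (B : Subgroup G) (hB : B ≤ Subgroup.centralizer ({z, s} : Set G)) (hBp : Nat.card B = 7 ^ (Nat.card ↥(Subgroup.centralizer ({z, s} : Set G))).factorization 7) : (Subgroup.centralizer (B : Set G)).relIndex (Subgroup.normalizer (B : Set G)) = 6 ∧ ∃ t : G, orderOf t = 2 ∧ (∀ b ∈ B, t * b * t⁻¹ = b⁻¹) ∧ (∀ x ∈ (Cfsg.layer ↥(Subgroup.centralizer (B : Set G))).map (Subgroup.centralizer (B : Set G)).subtype, t * x * t⁻¹ ∈ (Cfsg.layer ↥(Subgroup.centralizer (B : Set G))).map (Subgroup.centralizer (B : Set G)).subtype) ∧ ¬ ∃ l ∈ (Cfsg.layer ↥(Subgroup.centralizer (B : Set G))).map (Subgroup.centralizer (B : Set G)).subtype, ∀ x ∈ (Cfsg.layer ↥(Subgroup.centralizer (B : Set G))).map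 (Subgroup.centralizer (B : Set G)).subtype, t * x * t⁻¹ = l * x * l⁻¹ := by
  obtain ⟨M, hMQ⟩ := MonsterType.exists_model hM
  have hex := hMQ.symm ▸ MonsterType.exists_conj_mem hM.1
  have hsM : s ∈ M.Q := hMQ ▸ MonsterType.mem_map_centralizer hsQ
  rw [MonsterType.card_sylow_pair M hsM hs hs1 (p := 7) (by norm_num) (by norm_num) (by norm_num) (by norm_num)] at hBp
  obtain ⟨P, hPD, hPQ, hs64, hbs⟩ := MonsterType.exists_oddPos Leech.Fixed.Seven.dat Leech.Fixed.Seven.ok
    M hsM hs hs1 hB hBp (fun _ _ _ _ _ _ _ _ hτ =>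
      have : Fact (Nat.Prime Leech.Fixed.Seven.dat.p) := ⟨Leech.Fixed.Seven.ok.prime⟩
      MonsterType.exists_conj_pow_eq (MonsterType.factorization_eq_one Leech.Fixed.Seven.ok.prime
        Nat.card_pos.ne' (by rw [Mathieu.card_M24]; decide +kernel) (by rw [Mathieu.card_M24]; decide +kernel))
        hτ Leech.Fixed.Seven.ok.orderOf_σ)
  obtain ⟨PM, PD, hD, b, hbz, hbo, hzp, hπ⟩ := P
  dsimp at hPD hPQ hs64 hbs
  subst hPD
  obtain ⟨Ψ, hr, hker, htriv⟩ := Leech.Fixed.Seven.exists_quot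
  let P : MonsterType.OddPos z B := ⟨PM, _, hD, b, hbz, hbo, hzp, hπ⟩
  let R : P.Quo 7 := ⟨Ψ, _, hr, hker, htriv⟩
  have hexP : ∃ g, g * z * g⁻¹ ∈ P.M.Q ∧ g * z * g⁻¹ ≠ z := hPQ.symm ▸ hex
  have hn : (B.subgroupOf (Subgroup.centralizer (B : Set G))).Normal :=
    ⟨fun a ha x => by
      show (x : G) * (a : G) * (x : G)⁻¹ ∈ B
      rw [show (x : G) * (a : G) = a * x from (P.mem_B_comm x.2 ha).eq, mul_inv_cancel_right]
      exact ha⟩
  obtain ⟨m, ε, hε, hk⟩ := Leech.Fixed.Seven.exists_inverter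
  obtain ⟨t, ht2, htz, htb⟩ := P.exists_inverting rfl hexP hε hk
  obtain ⟨a, ha⟩ := Leech.Fixed.Seven.exists_squarer
  obtain ⟨x, hx⟩ := P.exists_powering (k := 2) (by decide : ¬ (7 : ℕ) ∣ 2)
    (by rw [pow_two]; exact mul_inv_eq_iff_eq_mul.2 ha : a * P.hD.g * a⁻¹ = P.hD.g ^ 2)
  have hBb : B = Subgroup.zpowers b := hzp.symm
  have hb7 : b ^ 7 = 1 := (congrArg (b ^ ·) hbo).symm.trans (pow_orderOf_eq_one b)
  have htN : t ∈ Subgroup.normalizer (B : Set G) := hBb ▸ MonsterType.mem_normalizer_zpowers (k := 6)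
    (by rw [htb]; exact inv_eq_of_mul_eq_one_left (by
      rw [← pow_succ]; exact hb7))
  have hxN : x ∈ Subgroup.normalizer (B : Set G) := hBb ▸ MonsterType.mem_normalizer_zpowers hx
  have htinv : ∀ y ∈ B, t * y * t⁻¹ = y⁻¹ := by
    intro y hy
    obtain ⟨k, rfl⟩ := Subgroup.mem_zpowers_iff.1 (hzp.ge hy)
    rw [← conj_zpow, htb, inv_zpow]
  refine ⟨?_, t, ht2, htinv, ?_, ?_⟩
  · have hb : b ∈ B := hzp.le (Subgroup.mem_zpowers b)
    have hcardB : Nat.card B = 7 := by rw [hBb, Nat.card_zpowers]; exact hbo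
    set φ := B.normalizerMonoidHom with hφ
    rw [Subgroup.relIndex, ← Subgroup.normalizerMonoidHom_ker, Subgroup.index_ker]
    have : Fact (Nat.Prime 7) := ⟨by norm_num⟩
    have : IsCyclic B := isCyclic_of_prime_card hcardB
    have hAut : Nat.card (MulAut B) = 6 := by
      rw [IsCyclic.card_mulAut, hcardB]; rfl
    have hval : ∀ (y : Subgroup.normalizer (B : Set G)) (c : B),
        ((φ y c : B) : G) = (y : G) * c * (y : G)⁻¹ := fun _ _ => rfl
    have h1 : orderOf (φ.rangeRestrict ⟨t, htN⟩) = 2 := by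
      refine orderOf_eq_prime (Subtype.ext (MulEquiv.ext fun c => Subtype.ext ?_)) fun e => ?_
      · rw [← map_pow, MonoidHom.coe_rangeRestrict, hval, SubgroupClass.coe_pow,
          show t ^ 2 = 1 by rw [← ht2]; exact pow_orderOf_eq_one t]
        simp
      · have : t * b * t⁻¹ = b := congrArg (fun f : φ.range => (((f : MulAut B) ⟨b, hb⟩ : B) : G)) e
        rw [htb] at this
        have h2 : b ^ 2 = 1 := by rw [pow_two]; exact mul_eq_one_iff_eq_inv.2 this.symm
        exact absurd (hbo ▸ orderOf_dvd_of_pow_eq_one h2) (by decide)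
    have h2 : orderOf (φ.rangeRestrict ⟨x, hxN⟩) = 3 := by
      have : Fact (Nat.Prime 3) := ⟨Nat.prime_three⟩
      refine orderOf_eq_prime (Subtype.ext (MulEquiv.ext fun c => Subtype.ext ?_)) fun e => ?_
      · rw [← map_pow, MonoidHom.coe_rangeRestrict, hval, SubgroupClass.coe_pow]
        obtain ⟨k, hk'⟩ := Subgroup.mem_zpowers_iff.1 (hzp.ge c.2)
        have e1 : x * (b ^ 2) * x⁻¹ = b ^ 4 := by rw [← conj_pow, hx, ← pow_mul]
        have e2 : x * (b ^ 4) * x⁻¹ = b := by
          rw [← conj_pow, hx, ← pow_mul, show 2 * 4 = 7 + 1 by rfl, pow_succ,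
            hb7, one_mul]
        have e3 : x ^ 3 * b * (x ^ 3)⁻¹ = b := by
          calc x ^ 3 * b * (x ^ 3)⁻¹ = x * (x * (x * b * x⁻¹) * x⁻¹) * x⁻¹ := by
                simp only [pow_succ, pow_zero, one_mul, mul_inv_rev, mul_assoc]
            _ = b := by rw [hx, e1, e2]
        rw [← hk', ← conj_zpow, e3]
        exact hk'
      · have : x * b * x⁻¹ = b := congrArg (fun f : φ.range => (((f : MulAut B) ⟨b, hb⟩ : B) : G)) e
        rw [hx] at this
        have h3 : b = 1 := mul_left_cancel (a := b) (by rw [mul_one, ← pow_two]; exact this)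
        rw [h3, orderOf_one] at hbo
        exact absurd hbo (by decide)
    have h23 : 2 * 3 ∣ Nat.card φ.range := Nat.Coprime.mul_dvd_of_dvd_of_dvd (by norm_num)
      (h1 ▸ orderOf_dvd_natCard _) (h2 ▸ orderOf_dvd_natCard _)
    exact Nat.dvd_antisymm (hAut ▸ Subgroup.card_subgroup_dvd_card φ.range) h23
  · have htC : t ∈ Subgroup.normalizer (Subgroup.centralizer (B : Set G) : Set G) :=
      Subgroup.mem_normalizer_iff.2 fun y => by
        rw [P.mem_CB, P.mem_CB]
        have hb' : t * b⁻¹ * t⁻¹ = b := by rw [← conj_inv, htb, inv_inv]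
        change Commute y b ↔ Commute (t * y * t⁻¹) b
        rw [← Commute.inv_right_iff, ← Commute.conj_iff t]
        rw [hb']
    intro y hy
    obtain ⟨y', hy', rfl⟩ := hy
    let e : Subgroup.centralizer (B : Set G) ≃* Subgroup.centralizer (B : Set G) :=
      (Subgroup.centralizer (B : Set G)).normalizerMonoidHom ⟨t, htC⟩
    exact ⟨e y', Components.map_layer_le e ⟨y', hy', rfl⟩, rfl⟩
  · rintro ⟨l, ⟨l', -, rfl⟩, hl⟩
    obtain ⟨m1, hm1, m2, hm2, hodd⟩ := Leech.Fixed.Seven.odd_pair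
    have htype : ∀ v ∈ Leech.Fixed.Seven.normS, P.M.IsType 64 (P.elt v) := fun v hv => by
      obtain ⟨w, hw, hvw⟩ := (P.hD.coord_mem_iff Leech.Fixed.Seven.typeCert (P.hD.fixed_comb v)).1
        (by rwa [P.hD.coord_comb])
      exact ⟨w, hw, P.M.L_congr.2 hvw⟩
    refine P.not_inner hexP Leech.Fixed.Seven.no_inverter ?_ htb hl
    refine P.z_mem_layer R (by decide : 0 < (6 : ℕ)) Leech.Fixed.sevenRange_two hexP hs64 hbs
      (htype m1 hm1) (P.elt_commute m1) (htype m2 hm2) (P.elt_commute m2) fun h => hodd ?_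
    have := P.M.commute_L.1 h
    rwa [P.hD.comb_val, P.hD.comb_val, Leech.Fixed.dotInt_toVec] at this

end Cfsg.Agent.S5418
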